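import Mathlib
import Groth.Prelude
import Groth.Agent.Lib.Seat69GeomRedAt
import Groth.Agent.Lib.Seat69ValRedFibSch
import Groth.Agent.Lib.Seat69GeomRedOpen
import Groth.Agent.Lib.Helper12GeomRed
import Groth.Agent.Lib.Seat11GeomRedOpen

/-!
# helper69: pointwise geometric reducedness of fibres is stable under generization

For `f : X ⟶ Y` flat and locally of finite presentation, `GRAt f x` and `x' ⤳ x` imply `GRAt f x'`
(`gRAt_of_specializes`).  Ingredients: spreading out inside a fibre (`exists_opens_mem_GR`, uses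
openness of the geometrically reduced locus of a locally Noetherian scheme over a field), the local
form of the reduced-fibre theorem over a valuation ring (`exists_opens_isReduced`), valuation rings
dominating specializations, flat descent of reducedness of local rings.
-/

set_option autoImplicit false
set_option linter.style.haveILetI false
universe u

namespace Groth.Agent.Lib.Seat69.GeomRedAt

open AlgebraicGeometry CategoryTheory CategoryTheory.Limits TopologicalSpace Opposite IsLocalRing
open Groth.Agent.Lib.Helper10.DVRFibre Groth.Agent.Lib.Seat69.ValRedFibSch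
open Groth.Agent.Lib.Helper6.GeomRedConstr Groth.Agent.Lib.Helper6.GenNonRedSch
open Groth.Agent.Lib.Seat69.GeomRedOpen

variable {X Y : Scheme.{u}}

theorem apply_eq_of_pullback (f : X ⟶ Y) {T : Scheme.{u}} (t : T ⟶ Y) (z : ↥(pullback f t)) :
    t (pullback.snd f t z) = f (pullback.fst f t z) := by
  rw [← Scheme.Hom.comp_apply, ← Scheme.Hom.comp_apply, pullback.condition]

/-- converse of T4 -/
theorem gRAt_of_mem_GR (f : X ⟶ Y) (U : X.Opens) (x : X) (hx : x ∈ U)
    (h : f x ∈ GR (U.ι ≫ f)) : GRAt f x := by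
  rw [gRAt_iff_ι f U x hx]
  intro K _ t z hz
  rw [mem_GR_iff] at h
  have hred : IsReduced (pullback (U.ι ≫ f) t) := by
    by_contra hcon
    refine h ⟨K, inferInstance, t, fun p => ?_, hcon⟩
    rw [Subsingleton.elim p (pullback.snd (U.ι ≫ f) t z), apply_eq_of_pullback, hz]
    rfl
  infer_instance

theorem isOpen_fibre_isGeomReducedAt {k : Type u} [Field k] {F : Scheme.{u}} [IsLocallyNoetherian F]
    (φ : F ⟶ Spec (CommRingCat.of k)) : IsOpen {w : F | FBase.IsGeomReducedAt φ w} := by
  let _ : F.Over (Spec (CommRingCat.of k)) := ⟨φ⟩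
  exact Groth.Agent.Lib.Seat11.GeomRedOpen.isOpen_setOf_isGeomReducedAt k F

/-- Spreading out in the fibre: if the fibre through `x` is geometrically reduced at `x`, there is an
open neighbourhood `U'` of `x` such that for every open `U ≤ U'` the fibre of `U` over `f x` is
geometrically reduced. -/
theorem exists_opens_forall_mem_GR (f : X ⟶ Y) [LocallyOfFiniteType f] (x : X) (hx : GRAt f x) :
    ∃ U' : X.Opens, x ∈ U' ∧ ∀ U : X.Opens, U ≤ U' → f x ∈ GR (U.ι ≫ f) := by
  haveI : IsLocallyNoetherian (f.fiber (f x)) := by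
    haveI : LocallyOfFiniteType (f.fiberToSpecResidueField (f x)) :=
      inferInstanceAs (LocallyOfFiniteType (pullback.snd f (Y.fromSpecResidueField (f x))))
    exact LocallyOfFiniteType.isLocallyNoetherian (f.fiberToSpecResidueField (f x))
  have hO := isOpen_fibre_isGeomReducedAt (f.fiberToSpecResidueField (f x))
  obtain ⟨U', hU', hUO⟩ := (f.fiberι (f x)).isEmbedding.isInducing.isOpen_iff.mp hO
  refine ⟨⟨U', hU'⟩, ?_, ?_⟩
  · have h1 : f.asFiber x ∈ (f.fiberι (f x)) ⁻¹' U' := by
      rw [hUO]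
      show FBase.IsGeomReducedAt _ _
      rw [isGeomReducedAt_iff_gRAt, Scheme.Hom.fiberι_asFiber]
      exact hx
    rw [Set.mem_preimage, Scheme.Hom.fiberι_asFiber] at h1
    exact h1
  · intro U hUU'
    rw [mem_GR_iff]
    rintro ⟨K, _, s, hs, hnr⟩
    apply hnr
    suffices hst : ∀ z₀ : ↥(pullback (U.ι ≫ f) s),
        _root_.IsReduced ((pullback (U.ι ≫ f) s).presheaf.stalk z₀) from
      isReduced_of_isReduced_stalk _
    intro z₀
    set x₀ : U := pullback.fst (U.ι ≫ f) s z₀ with hx₀
    have h1 : f x₀.1 = f x := by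
      have := apply_eq_of_pullback (U.ι ≫ f) s z₀
      rw [hs] at this
      rw [this, Scheme.Hom.comp_apply]
      rfl
    have h2 : x₀.1 ∈ Set.range (f.fiberι (f x)) := by
      rw [Scheme.Hom.range_fiberι]
      exact h1
    obtain ⟨w₀, hw₀⟩ := h2
    have h3 : w₀ ∈ (f.fiberι (f x)) ⁻¹' U' := by
      show f.fiberι (f x) w₀ ∈ U'
      rw [hw₀]
      exact hUU' x₀.2
    rw [hUO] at h3
    have h4 : GRAt f x₀.1 := by
      rw [← hw₀, ← isGeomReducedAt_iff_gRAt]
      exact h3
    rw [gRAt_iff_ι f U x₀.1 x₀.2] at h4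
    exact h4 K s z₀ rfl

/-- T4 -/
theorem exists_opens_mem_GR (f : X ⟶ Y) [LocallyOfFiniteType f] (x : X) (hx : GRAt f x) :
    ∃ U : X.Opens, x ∈ U ∧ f x ∈ GR (U.ι ≫ f) := by
  obtain ⟨U', hxU', h⟩ := exists_opens_forall_mem_GR f x hx
  exact ⟨U', hxU', h U' le_rfl⟩

/-- T4, affine neighbourhood -/
theorem exists_affineOpen_mem_GR (f : X ⟶ Y) [LocallyOfFiniteType f] (x : X) (hx : GRAt f x) :
    ∃ U : X.Opens, IsAffineOpen U ∧ x ∈ U ∧ f x ∈ GR (U.ι ≫ f) := by
  obtain ⟨U', hxU', h⟩ := exists_opens_forall_mem_GR f x hx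
  obtain ⟨_, ⟨U, hU, rfl⟩, hxU, hUU'⟩ :=
    X.isBasis_affineOpens.exists_subset_of_mem_open hxU' U'.isOpen
  exact ⟨U, hU, hxU, h U hUU'⟩

section LV

variable {R : Type u} [CommRing R] [IsDomain R] [ValuationRing R] {X : Scheme.{u}}
  (f : X ⟶ Spec (CommRingCat.of R))

/-- Local version of the reduced-fibre theorem over a valuation ring: if the special fibre is reduced
then `X` is reduced in a neighbourhood of every point of the special fibre. -/
theorem exists_opens_isReduced_stalk [Flat f] [LocallyOfFiniteType f]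
    (hred : IsReduced (f.fiber (closedPoint R))) (x : X) (hx : f x = closedPoint R) :
    ∃ W : X.Opens, x ∈ W ∧ ∀ x' ∈ W, _root_.IsReduced (X.presheaf.stalk x') := by
  obtain ⟨V, hV, hxV⟩ := exists_affineOpen_mem x
  letI : Algebra R Γ(X, V) := (phi f V).toAlgebra
  haveI : Module.Flat R Γ(X, V) := phi_flat f hV
  haveI : Algebra.FiniteType R Γ(X, V) := Groth.Agent.Lib.Seat69.ValRedFibSch.phi_finiteType f hV
  obtain ⟨r, hr1, hr2⟩ := Groth.Agent.Lib.Seat69.ValRedFib.exists_one_add_mul_radical_le
    (R := R) (B := Γ(X, V)) (radical_mU_le f hred hV) ⊥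
  refine ⟨X.basicOpen r, ?_, ?_⟩
  · rw [Scheme.mem_basicOpen _ _ _ hxV]
    have h1 : X.presheaf.germ V x hxV (r - 1) ∈ maximalIdeal (X.presheaf.stalk x) := by
      have h2 : (pU f (maximalIdeal R) V).map (X.presheaf.germ V x hxV).hom ≤
          maximalIdeal (X.presheaf.stalk x) := by
        rw [map_germ_pU, pStalk, Ideal.map_le_iff_le_comap]
        intro a ha
        rw [Ideal.mem_comap, mem_maximalIdeal, mem_nonunits_iff]
        intro hu
        rw [← germ_comp_phi f hxV] at hu
        have h3 : x ∈ X.basicOpen (phi f V a) := (Scheme.mem_basicOpen _ _ _ hxV).mpr hu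
        have h4 := notMem_of_mem_basicOpen_phi f h3
        rw [hx] at h4
        exact h4 ha
      exact h2 (Ideal.mem_map_of_mem _ hr1)
    have h5 : X.presheaf.germ V x hxV r = X.presheaf.germ V x hxV (r - 1) + 1 := by
      rw [map_sub, map_one]; ring
    rw [h5]
    by_contra hnu
    have h6 : X.presheaf.germ V x hxV (r - 1) + 1 ∈ maximalIdeal (X.presheaf.stalk x) := hnu
    have h7 : (1 : X.presheaf.stalk x) ∈ maximalIdeal (X.presheaf.stalk x) := by
      have := (maximalIdeal (X.presheaf.stalk x)).sub_mem h6 h1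
      simp at this
    exact (Ideal.ne_top_iff_one _).mp (maximalIdeal.isMaximal _).ne_top h7
  · intro x' hx'
    have hxV' : x' ∈ V := X.basicOpen_le r hx'
    letI := X.presheaf.algebra_section_stalk ⟨x', hxV'⟩
    haveI := hV.isLocalization_stalk ⟨x', hxV'⟩
    have hsu : IsUnit (algebraMap Γ(X, V) (X.presheaf.stalk x') r) :=
      (Scheme.mem_basicOpen _ _ _ hxV').mp hx'
    have hrad := Groth.Agent.Lib.Seat69.ValRedFib.mem_map_of_mem_radical_map
      (S := X.presheaf.stalk x') (hV.primeIdealOf ⟨x', hxV'⟩).asIdeal.primeCompl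
      ((⊥ : Ideal R).map (algebraMap R Γ(X, V))) r hsu hr2
    rw [Ideal.map_bot, Ideal.map_bot] at hrad
    refine ⟨fun c hc => ?_⟩
    have := hrad c (by
      obtain ⟨n, hn⟩ := hc
      exact ⟨n, by rw [hn]; exact Ideal.zero_mem _⟩)
    simpa using this

/-- scheme version -/
theorem exists_opens_isReduced [Flat f] [LocallyOfFiniteType f]
    (hred : IsReduced (f.fiber (closedPoint R))) (x : X) (hx : f x = closedPoint R) :
    ∃ W : X.Opens, x ∈ W ∧ IsReduced W.toScheme := by
  obtain ⟨W, hxW, hW⟩ := exists_opens_isReduced_stalk f hred x hx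
  refine ⟨W, hxW, ?_⟩
  haveI : ∀ w : W.toScheme, _root_.IsReduced (W.toScheme.presheaf.stalk w) := by
    intro w
    rw [← isReduced_stalk_iff_of_isOpenImmersion W.ι w]
    exact hW _ w.2
  exact isReduced_of_isReduced_stalk _

end LV

/-- generic fibre of a reduced scheme over a domain -/
theorem isReduced_fiber_genPt {R : Type u} [CommRing R] [IsDomain R] {X : Scheme.{u}}
    (f : X ⟶ Spec (CommRingCat.of R)) [IsReduced X] :
    IsReduced (f.fiber (⟨⊥, Ideal.isPrime_bot⟩ : PrimeSpectrum R)) := by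
  apply isReduced_fiber_of_forall_exists_affine
  intro x
  obtain ⟨U, hU, hxU⟩ := exists_affineOpen_mem x
  refine ⟨U, hU, hxU, ?_⟩
  letI : Algebra R Γ(X, U) := (phi f U).toAlgebra
  exact isReduced_fiber_bot Γ(X, U)

/-- morphisms between spectra of fields are flat -/
theorem flat_of_field {K L : Type u} [Field K] [Field L]
    (u : Spec (CommRingCat.of L) ⟶ Spec (CommRingCat.of K)) : Flat u := by
  rw [← Spec.map_preimage u, HasRingHomProperty.Spec_iff (P := @Flat)]
  algebraize [(Spec.preimage u).hom]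
  exact (inferInstance : Module.Flat K L)

variable {X Y : Scheme.{u}}

/-- the valuation ring step -/
theorem gRAt_generic_of_section {L : Type u} [Field L] (A : ValuationSubring L)
    (f : X ⟶ Y) [Flat f] [LocallyOfFinitePresentation f]
    (g : Spec (CommRingCat.of A) ⟶ X) (hx : GRAt f (g (closedPoint A))) :
    ∃ (q₁ : Spec (CommRingCat.of L) ⟶
        pullback (pullback.snd f (g ≫ f)) (Spec.map (CommRingCat.ofHom (algebraMap A L)))),
      q₁ ≫ pullback.fst _ _ ≫ pullback.fst _ _ =
        Spec.map (CommRingCat.ofHom (algebraMap A L)) ≫ g ∧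
      q₁ ≫ pullback.snd _ _ = 𝟙 _ ∧
      ∀ p, _root_.IsReduced ((pullback (pullback.snd f (g ≫ f))
        (Spec.map (CommRingCat.ofHom (algebraMap A L)))).presheaf.stalk (q₁ p)) := by
  set h := g ≫ f with hh
  set fA := pullback.snd f h with hfA
  set ιL := Spec.map (CommRingCat.ofHom (algebraMap A L)) with hιL
  let σ : Spec (CommRingCat.of A) ⟶ pullback f h := pullback.lift g (𝟙 _) (by rw [Category.id_comp])
  have hσ1 : σ ≫ pullback.fst f h = g := pullback.lift_fst _ _ _
  have hσ2 : σ ≫ fA = 𝟙 _ := pullback.lift_snd _ _ _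
  let c : ↥(Spec (CommRingCat.of A)) := closedPoint A
  have hfst : pullback.fst f h (σ c) = g c := by
    rw [← Scheme.Hom.comp_apply, hσ1]
  have hfAc : fA (σ c) = c := by
    rw [← Scheme.Hom.comp_apply, hσ2]; rfl
  have hgr : GRAt fA (σ c) := gRAt_of_isPullback (IsPullback.of_hasPullback f h) (σ c) (by rw [hfst]; exact hx)
  obtain ⟨U, hxU, hGR⟩ := exists_opens_mem_GR fA (σ c) hgr
  rw [hfAc] at hGR
  have hredU : IsReduced ((U.ι ≫ fA).fiber c) := by
    by_contra hcon
    rw [mem_GR_iff] at hGR
    exact hGR ⟨_, inferInstance, (Spec (CommRingCat.of A)).fromSpecResidueField c,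
      fun p => Scheme.fromSpecResidueField_apply _ _, hcon⟩
  obtain ⟨W, hxW, hWred⟩ := exists_opens_isReduced (U.ι ≫ fA) hredU ⟨σ c, hxU⟩ (by
    show fA (σ c) = closedPoint A
    exact hfAc)
  let j : W.toScheme ⟶ pullback f h := W.ι ≫ U.ι
  let fW : W.toScheme ⟶ Spec (CommRingCat.of A) := j ≫ fA
  haveI := hWred
  have hWL : IsReduced (pullback fW ιL) :=
    isReduced_pullback_fractionRing L fW (isReduced_fiber_genPt fW)
  let m₁ : pullback fW ιL ⟶ pullback fA ιL :=
    pullback.map fW ιL fA ιL j (𝟙 _) (𝟙 _) (by simp [fW]) (by simp)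
  haveI : IsOpenImmersion m₁ := by dsimp only [m₁]; infer_instance
  let q₁ : Spec (CommRingCat.of L) ⟶ pullback fA ιL :=
    pullback.lift (ιL ≫ σ) (𝟙 _) (by rw [Category.assoc, hσ2, Category.comp_id, Category.id_comp])
  refine ⟨q₁, ?_, pullback.lift_snd _ _ _, fun p => ?_⟩
  · rw [pullback.lift_fst_assoc, Category.assoc, hσ1]
  · -- q₁ p ∈ range m₁
    have hr : q₁ p ∈ Set.range m₁ := by
      rw [Scheme.Pullback.range_map]
      refine ⟨?_, ?_⟩
      · show pullback.fst fA ιL (q₁ p) ∈ Set.range j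
        have h1 : pullback.fst fA ιL (q₁ p) = σ (ιL p) := by
          rw [← Scheme.Hom.comp_apply, pullback.lift_fst, Scheme.Hom.comp_apply]
        rw [h1]
        have h2 : σ (ιL p) ⤳ σ c :=
          (specializes_closedPoint (R := A) (ιL p)).map σ.continuous
        have h3 : σ c ∈ Set.range j := ⟨⟨⟨σ c, hxU⟩, hxW⟩, rfl⟩
        exact h2.mem_open j.isOpenEmbedding.isOpen_range h3
      · simp
    obtain ⟨w, hw⟩ := hr
    rw [← hw, isReduced_stalk_iff_of_isOpenImmersion m₁ w]
    infer_instance

/-- **Stability under generization.** -/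
theorem gRAt_of_specializes (f : X ⟶ Y) [Flat f] [LocallyOfFinitePresentation f] {x x' : X}
    (hsp : x' ⤳ x) (hx : GRAt f x) : GRAt f x' := by
  intro K' _ t' z' hz'
  let L : Type u := (pullback f t').residueField z'
  letI : Field L := inferInstanceAs (Field ((pullback f t').residueField z'))
  let s : Spec (CommRingCat.of L) ⟶ pullback f t' := (pullback f t').fromSpecResidueField z'
  have hs : ∀ p, s p = z' := fun p => Scheme.fromSpecResidueField_apply _ _
  have ha : ∀ p, (s ≫ pullback.fst f t') p = x' := by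
    intro p
    rw [Scheme.Hom.comp_apply, hs, hz']
  obtain ⟨A, g, hg1, hg2⟩ := exists_valuationSubring_of_specializes (s ≫ pullback.fst f t')
    (show (s ≫ pullback.fst f t') (closedPoint L) ⤳ x from (ha _).symm ▸ hsp)
  obtain ⟨q₁, hq1, hq2, hq3⟩ := gRAt_generic_of_section A f g (hg2.symm ▸ hx)
  -- key equality of base maps
  have hbase : Spec.map (CommRingCat.ofHom (algebraMap A L)) ≫ g ≫ f =
      (s ≫ pullback.snd f t') ≫ t' := by
    rw [← Category.assoc, hg1, Category.assoc, pullback.condition, Category.assoc]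
  let M : pullback (pullback.snd f (g ≫ f)) (Spec.map (CommRingCat.ofHom (algebraMap A L))) ⟶
      pullback f t' :=
    pullback.lift (pullback.fst _ _ ≫ pullback.fst f (g ≫ f))
      (pullback.snd _ _ ≫ s ≫ pullback.snd f t') (by
        rw [Category.assoc, pullback.condition (f := f) (g := g ≫ f), ← Category.assoc,
          pullback.condition, Category.assoc, hbase]
        simp only [Category.assoc])
  have hbig : IsPullback (pullback.fst (pullback.snd f (g ≫ f))
        (Spec.map (CommRingCat.ofHom (algebraMap A L))) ≫ pullback.fst f (g ≫ f))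
      (pullback.snd (pullback.snd f (g ≫ f)) (Spec.map (CommRingCat.ofHom (algebraMap A L)))) f
      (Spec.map (CommRingCat.ofHom (algebraMap A L)) ≫ g ≫ f) :=
    (IsPullback.of_hasPullback (pullback.snd f (g ≫ f))
      (Spec.map (CommRingCat.ofHom (algebraMap A L)))).paste_horiz
      (IsPullback.of_hasPullback f (g ≫ f))
  have hM1 : M ≫ pullback.fst f t' = pullback.fst _ _ ≫ pullback.fst f (g ≫ f) :=
    pullback.lift_fst _ _ _
  have hM2 : M ≫ pullback.snd f t' = pullback.snd _ _ ≫ s ≫ pullback.snd f t' :=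
    pullback.lift_snd _ _ _
  have hpb : IsPullback M (pullback.snd (pullback.snd f (g ≫ f))
      (Spec.map (CommRingCat.ofHom (algebraMap A L)))) (pullback.snd f t')
      (s ≫ pullback.snd f t') := by
    refine IsPullback.of_right ?_ hM2 (IsPullback.of_hasPullback f t')
    rw [hM1, ← hbase]
    exact hbig
  haveI : Flat (s ≫ pullback.snd f t') := flat_of_field _
  haveI : Flat M := MorphismProperty.of_isPullback (P := @Flat) hpb.flip inferInstance
  have hMq : q₁ ≫ M = s := by
    apply pullback.hom_ext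
    · rw [Category.assoc, hM1, hq1, hg1]
    · rw [Category.assoc, hM2, ← Category.assoc, hq2, Category.id_comp]
  have hz : ∀ p : ↥(Spec (CommRingCat.of L)), M (q₁ p) = z' := by
    intro p
    rw [← Scheme.Hom.comp_apply, hMq]
    exact hs _
  rw [← hz (closedPoint L)]
  exact Groth.Agent.Lib.Helper12.GeomRed.isReduced_stalk_of_flat M _ (hq3 _)

end Groth.Agent.Lib.Seat69.GeomRedAt
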