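import Mathlib
import Groth.Prelude
import Groth.Agent.Lib.Seat69GeomRedAt2
import Groth.Agent.Lib.Helper10Spectral

/-!
# helper69: EGA IV 12.1.1 (vii) — the locus where the fibres are geometrically reduced is open

For `f : X ⟶ Y` flat and locally of finite presentation, the set of `x` such that the fibre through
`x` is geometrically reduced at `x` is open (`isOpen_gRAt`, `isOpen_setOf_fibre_isGeomReducedAt`).
Affine case: the locus is a union of constructible sets (`U ∩ f⁻¹ GR (U.ι ≫ f)`, `U` affine open), hence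
open in the constructible topology, and it is stable under generization.
-/

set_option autoImplicit false
set_option linter.style.haveILetI false
universe u

namespace Groth.Agent.Lib.Seat69.GeomRedAt

open AlgebraicGeometry CategoryTheory CategoryTheory.Limits TopologicalSpace Opposite IsLocalRing Topology
open Groth.Agent.Lib.Helper10.DVRFibre
open Groth.Agent.Lib.Helper6.GeomRedConstr Groth.Agent.Lib.Helper6.GenNonRedSch
open Groth.Agent.Lib.Helper10.Spectral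

variable {X Y : Scheme.{u}}

/-- affine case -/
theorem isOpen_gRAt_of_isAffine [IsAffine X] [IsAffine Y] (f : X ⟶ Y) [Flat f]
    [LocallyOfFinitePresentation f] : IsOpen {x : X | GRAt f x} := by
  apply isOpen_of_isOpen_constr_of_stableUnderGeneralization
  · have hE : {x : X | GRAt f x} = ⋃ (U : X.affineOpens),
        ((U : X.Opens) : Set X) ∩ f ⁻¹' GR ((U : X.Opens).ι ≫ f) := by
      ext x
      simp only [Set.mem_ofPred_eq, Set.mem_iUnion, Set.mem_inter_iff, Set.mem_preimage]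
      constructor
      · intro hx
        obtain ⟨U, hU, hxU, h⟩ := exists_affineOpen_mem_GR f x hx
        exact ⟨⟨U, hU⟩, hxU, h⟩
      · rintro ⟨U, hxU, h⟩
        exact gRAt_of_mem_GR f U x hxU h
    rw [hE]
    apply @isOpen_iUnion _ _ (constructibleTopology X)
    intro U
    apply isOpen_constr_of_isConstructible
    haveI : IsAffine (U : X.Opens).toScheme := U.2
    exact (U.2.isCompact.isConstructible (U : X.Opens).isOpen).inter
      (f.isConstructible_preimage (isConstructible_GR_of_isAffine _))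
  · intro x x' hsp hx
    exact gRAt_of_specializes f hsp hx

/-- general case -/
theorem isOpen_gRAt (f : X ⟶ Y) [Flat f] [LocallyOfFinitePresentation f] :
    IsOpen {x : X | GRAt f x} := by
  rw [isOpen_iff_forall_mem_open]
  intro x hx
  obtain ⟨V, hV, hfxV⟩ := exists_affineOpen_mem (f x)
  have hx₁ : x ∈ f ⁻¹ᵁ V := hfxV
  obtain ⟨X₀, hX₀, hxX₀⟩ := exists_affineOpen_mem (X := (f ⁻¹ᵁ V).toScheme) ⟨x, hx₁⟩
  let f₀ : X₀.toScheme ⟶ V.toScheme := X₀.ι ≫ (f ∣_ V)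
  haveI : IsAffine X₀.toScheme := hX₀
  haveI : IsAffine V.toScheme := hV
  have hopen := isOpen_gRAt_of_isAffine f₀
  have key : ∀ x₀ : X₀.toScheme, GRAt f₀ x₀ ↔ GRAt f ((f ⁻¹ᵁ V).ι (X₀.ι x₀)) := by
    intro x₀
    have h1 : GRAt (f ∣_ V) (X₀.ι x₀) ↔ GRAt f₀ x₀ := gRAt_iff_ι (f ∣_ V) X₀ (X₀.ι x₀) x₀.2
    have h2 : GRAt ((f ∣_ V) ≫ V.ι) (X₀.ι x₀) ↔ GRAt (f ∣_ V) (X₀.ι x₀) :=
      gRAt_comp_of_isOpenImmersion (f ∣_ V) V.ι (X₀.ι x₀)
    have h3 : GRAt f ((f ⁻¹ᵁ V).ι (X₀.ι x₀)) ↔ GRAt ((f ⁻¹ᵁ V).ι ≫ f) (X₀.ι x₀) :=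
      gRAt_iff_ι f (f ⁻¹ᵁ V) ((f ⁻¹ᵁ V).ι (X₀.ι x₀)) (X₀.ι x₀).2
    rw [morphismRestrict_ι] at h2
    exact h1.symm.trans (h2.symm.trans h3.symm)
  refine ⟨(f ⁻¹ᵁ V).ι '' (X₀.ι '' {x₀ | GRAt f₀ x₀}), ?_, ?_, ?_⟩
  · rintro _ ⟨_, ⟨x₀, hx₀, rfl⟩, rfl⟩
    exact (key x₀).mp hx₀
  · exact (f ⁻¹ᵁ V).ι.isOpenEmbedding.isOpenMap _ (X₀.ι.isOpenEmbedding.isOpenMap _ hopen)
  · exact ⟨⟨x, hx₁⟩, ⟨⟨⟨x, hx₁⟩, hxX₀⟩, (key _).mpr hx, rfl⟩, rfl⟩

/-- **S2549** -/
theorem isOpen_setOf_fibre_isGeomReducedAt (f : X ⟶ Y) [Flat f] [LocallyOfFinitePresentation f] :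
    IsOpen {x : X | FBase.IsGeomReducedAt (f.fiberToSpecResidueField (f.base x)) (f.asFiber x)} := by
  have : {x : X | FBase.IsGeomReducedAt (f.fiberToSpecResidueField (f.base x)) (f.asFiber x)} =
      {x : X | GRAt f x} := by
    ext x
    show FBase.IsGeomReducedAt (f.fiberToSpecResidueField (f x)) (f.asFiber x) ↔ GRAt f x
    rw [isGeomReducedAt_iff_gRAt, Scheme.Hom.fiberι_asFiber]
  rw [this]
  exact isOpen_gRAt f

end Groth.Agent.Lib.Seat69.GeomRedAt
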