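import Mathlib
import Groth.Prelude
import Groth.Agent.Lib.Seat69GeomRedAt3
import Groth.Agent.Lib.Seat69FlatRedFib

/-!
# helper69: EGA IV 11.3.x / 12.1 — reduced base + flat lfp + fibre geometrically reduced at `x` ⟹
`O_{X,x}` reduced (no Noetherian hypotheses)

`isReduced_stalk_of_flat_of_gRAt`.  Uses openness of the locus `GRAt` (S2549) to get an affine
neighbourhood all of whose fibres are geometrically reduced, then the ring-level statement
`Seat69FlatRedFib.isReduced_of_flat_fp_of_fibres` after base change to the local ring of the base.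
-/

set_option autoImplicit false
set_option linter.style.haveILetI false
universe u

namespace Groth.Agent.Lib.Seat69.GeomRedAt

open AlgebraicGeometry CategoryTheory CategoryTheory.Limits TopologicalSpace Opposite IsLocalRing Topology
open Groth.Agent.Lib.Seat69.FlatRedFib
open scoped TensorProduct

variable {X Y : Scheme.{u}}

/-- locality on the source, for an arbitrary open immersion -/
theorem gRAt_comp_left_iff {U' : Scheme.{u}} (j : U' ⟶ X) [IsOpenImmersion j] (f : X ⟶ Y) (u : U') :
    GRAt (j ≫ f) u ↔ GRAt f (j u) := by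
  have key : ∀ (K : Type u) [Field K] (t : Spec (CommRingCat.of K) ⟶ Y),
      ∃ (m : pullback (j ≫ f) t ⟶ pullback f t), IsOpenImmersion m ∧
        m ≫ pullback.fst f t = pullback.fst (j ≫ f) t ≫ j ∧
        Set.range m = pullback.fst f t ⁻¹' (Set.range j) := by
    intro K _ t
    refine ⟨pullback.map (j ≫ f) t f t j (𝟙 _) (𝟙 _) (by simp) (by simp), inferInstance,
      pullback.lift_fst _ _ _, ?_⟩
    rw [Scheme.Pullback.range_map]
    ext z
    simp
  have hinj : Function.Injective j := j.isOpenEmbedding.injective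
  constructor
  · intro h K _ t z hz
    obtain ⟨m, hm, hm1, hm2⟩ := key K t
    have hzr : z ∈ Set.range m := by
      rw [hm2]
      show (pullback.fst f t) z ∈ Set.range j
      rw [hz]; exact ⟨u, rfl⟩
    obtain ⟨z₀, rfl⟩ := hzr
    have h1 : (pullback.fst (j ≫ f) t) z₀ = u := by
      apply hinj
      rw [← hz, ← Scheme.Hom.comp_apply, ← Scheme.Hom.comp_apply, hm1]
    exact (isReduced_stalk_iff_of_isOpenImmersion m z₀).mpr (h K t z₀ h1)
  · intro h K _ t z₀ hz₀
    obtain ⟨m, hm, hm1, -⟩ := key K t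
    have h1 : (pullback.fst f t) (m z₀) = j u := by
      rw [← Scheme.Hom.comp_apply, hm1, Scheme.Hom.comp_apply, hz₀]
    exact (isReduced_stalk_iff_of_isOpenImmersion m z₀).mp (h K t (m z₀) h1)

/-- (γ): geometric fibres of `Spec B ⟶ Spec A` -/
theorem isReduced_tensor_of_gRAt {A B : Type u} [CommRing A] [CommRing B] [Algebra A B]
    (hG : ∀ z, GRAt (Spec.map (CommRingCat.ofHom (algebraMap A B))) z)
    (K : Type u) [Field K] [Algebra A K] : _root_.IsReduced (B ⊗[A] K) := by
  set t := Spec.map (CommRingCat.ofHom (algebraMap A K)) with ht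
  haveI : ∀ z : ↥(pullback (Spec.map (CommRingCat.ofHom (algebraMap A B))) t),
      _root_.IsReduced ((pullback (Spec.map (CommRingCat.ofHom (algebraMap A B))) t).presheaf.stalk z) :=
    fun z => hG _ K t z rfl
  haveI : IsReduced (pullback (Spec.map (CommRingCat.ofHom (algebraMap A B))) t) :=
    isReduced_of_isReduced_stalk _
  haveI : IsReduced (Spec (CommRingCat.of (B ⊗[A] K))) :=
    isReduced_of_isOpenImmersion (pullbackSpecIso A B K).inv
  exact (affine_isReduced_iff (CommRingCat.of (B ⊗[A] K))).mp inferInstance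

/-- ring-level core of S2567 -/
theorem isReduced_localization_of_gRAt {A B : Type u} [CommRing A] [CommRing B] [Algebra A B]
    [Module.Flat A B] [Algebra.FinitePresentation A B]
    (hG : ∀ z, GRAt (Spec.map (CommRingCat.ofHom (algebraMap A B))) z)
    (q : Ideal B) [q.IsPrime] (p : Ideal A) [p.IsPrime] (hpq : q.comap (algebraMap A B) = p)
    (hp : _root_.IsReduced (Localization.AtPrime p)) :
    _root_.IsReduced (Localization.AtPrime q) := by
  -- the base change to the local ring
  haveI : _root_.IsReduced (Localization.AtPrime p ⊗[A] B) := by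
    apply isReduced_of_flat_fp_of_fibres (A := Localization.AtPrime p)
    intro 𝔭 _
    haveI := isScalarTower_residueField (R₀ := A) 𝔭
    let e1 : 𝔭.ResidueField ⊗[Localization.AtPrime p] (Localization.AtPrime p ⊗[A] B) ≃ₐ[
        Localization.AtPrime p] 𝔭.ResidueField ⊗[A] B :=
      Algebra.TensorProduct.cancelBaseChange A (Localization.AtPrime p) (Localization.AtPrime p)
        𝔭.ResidueField B
    let e2 : 𝔭.ResidueField ⊗[A] B ≃ₐ[A] B ⊗[A] 𝔭.ResidueField :=
      Algebra.TensorProduct.comm A 𝔭.ResidueField B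
    haveI := isReduced_tensor_of_gRAt hG 𝔭.ResidueField
    exact isReduced_of_injective (e2.toRingEquiv.toRingHom.comp e1.toRingEquiv.toRingHom)
      (e2.injective.comp e1.injective)
  letI : Algebra B (Localization.AtPrime p ⊗[A] B) := Algebra.TensorProduct.rightAlgebra
  haveI : IsLocalization (Algebra.algebraMapSubmonoid B p.primeCompl)
      (Localization.AtPrime p ⊗[A] B) :=
    IsLocalization.tensorRight (R := A) (S := B) (A := Localization.AtPrime p) p.primeCompl
  refine ⟨fun y hy => ?_⟩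
  obtain ⟨b, s, rfl⟩ := IsLocalization.exists_mk'_eq q.primeCompl y
  obtain ⟨n, hn⟩ := hy
  rw [← IsLocalization.mk'_pow, IsLocalization.mk'_eq_zero_iff] at hn
  obtain ⟨t, ht⟩ := hn
  have hc : IsNilpotent ((t : B) * b) := by
    refine ⟨n + 1, ?_⟩
    rw [mul_pow, pow_succ, pow_succ]
    calc (t : B) ^ n * t * (b ^ n * b) = ((t : B) ^ n * b) * (t * b ^ n) := by ring
      _ = 0 := by rw [ht, mul_zero]
  have h0 : algebraMap B (Localization.AtPrime p ⊗[A] B) ((t : B) * b) = 0 :=
    (hc.map _).eq_zero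
  rw [IsLocalization.map_eq_zero_iff (Algebra.algebraMapSubmonoid B p.primeCompl)] at h0
  obtain ⟨⟨m, a, ha, rfl⟩, hm⟩ := h0
  rw [IsLocalization.mk'_eq_zero_iff]
  have haq : algebraMap A B a ∈ q.primeCompl := fun hmem => ha (hpq ▸ hmem)
  exact ⟨⟨algebraMap A B a, haq⟩ * t, by simpa [mul_assoc] using hm⟩

variable {X Y : Scheme.{u}}

/-- affine-local form of S2567 -/
theorem isReduced_stalk_of_gRAt_of_affine (f : X ⟶ Y) [Flat f] [LocallyOfFinitePresentation f]
    {V : Y.Opens} (hV : IsAffineOpen V) {U : X.Opens} (hU : IsAffineOpen U) (e : U ≤ f ⁻¹ᵁ V)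
    (hG : ∀ x' ∈ U, GRAt f x') (x : X) (hx : x ∈ U)
    (hy : _root_.IsReduced (Y.presheaf.stalk (f x))) : _root_.IsReduced (X.presheaf.stalk x) := by
  letI : Algebra Γ(Y, V) Γ(X, U) := (f.appLE V U e).hom.toAlgebra
  have hφ : CommRingCat.ofHom (algebraMap Γ(Y, V) Γ(X, U)) = f.appLE V U e := rfl
  haveI : Module.Flat Γ(Y, V) Γ(X, U) :=
    HasRingHomProperty.appLE (P := @Flat) f inferInstance ⟨V, hV⟩ ⟨U, hU⟩ e
  haveI : Algebra.FinitePresentation Γ(Y, V) Γ(X, U) :=
    HasRingHomProperty.appLE (P := @LocallyOfFinitePresentation) f inferInstance ⟨V, hV⟩ ⟨U, hU⟩ e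
  have hcomp : Spec.map (f.appLE V U e) ≫ hV.fromSpec = hU.fromSpec ≫ f :=
    IsAffineOpen.SpecMap_appLE_fromSpec f hV hU e
  have hG' : ∀ z, GRAt (Spec.map (CommRingCat.ofHom (algebraMap Γ(Y, V) Γ(X, U)))) z := by
    intro z
    rw [hφ, ← gRAt_comp_of_isOpenImmersion _ hV.fromSpec, hcomp, gRAt_comp_left_iff]
    refine hG _ ?_
    have : hU.fromSpec z ∈ Set.range hU.fromSpec := ⟨z, rfl⟩
    rw [hU.range_fromSpec] at this
    exact this
  letI := Y.presheaf.algebra_section_stalk ⟨f x, e hx⟩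
  haveI := hV.isLocalization_stalk ⟨f x, e hx⟩
  letI := X.presheaf.algebra_section_stalk ⟨x, hx⟩
  haveI := hU.isLocalization_stalk ⟨x, hx⟩
  have hpq : (hU.primeIdealOf ⟨x, hx⟩).asIdeal.comap (algebraMap Γ(Y, V) Γ(X, U)) =
      (hV.primeIdealOf ⟨f x, e hx⟩).asIdeal :=
    congrArg PrimeSpectrum.asIdeal (IsAffineOpen.comap_primeIdealOf_appLE V hV U hU e hx)
  have h1 : _root_.IsReduced (Localization.AtPrime (hV.primeIdealOf ⟨f x, e hx⟩).asIdeal) := by
    let ε := IsLocalization.algEquiv (hV.primeIdealOf ⟨f x, e hx⟩).asIdeal.primeCompl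
      (Localization.AtPrime (hV.primeIdealOf ⟨f x, e hx⟩).asIdeal) (Y.presheaf.stalk (f x))
    exact isReduced_of_injective ε.toRingEquiv.toRingHom ε.injective
  have h2 := isReduced_localization_of_gRAt hG' (hU.primeIdealOf ⟨x, hx⟩).asIdeal
    (hV.primeIdealOf ⟨f x, e hx⟩).asIdeal hpq h1
  let ε := IsLocalization.algEquiv (hU.primeIdealOf ⟨x, hx⟩).asIdeal.primeCompl
    (X.presheaf.stalk x) (Localization.AtPrime (hU.primeIdealOf ⟨x, hx⟩).asIdeal)
  exact isReduced_of_injective ε.toRingEquiv.toRingHom ε.injective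

/-- **S2567**: `f` flat, locally of finite presentation, `O_{Y,f x}` reduced, the fibre through `x`
geometrically reduced at `x`; then `O_{X,x}` is reduced. -/
theorem isReduced_stalk_of_flat_of_gRAt (f : X ⟶ Y) [Flat f] [LocallyOfFinitePresentation f] (x : X)
    (hy : _root_.IsReduced (Y.presheaf.stalk (f x))) (hx : GRAt f x) :
    _root_.IsReduced (X.presheaf.stalk x) := by
  have hopen := isOpen_gRAt f
  obtain ⟨V, hV, hfxV⟩ := Groth.Agent.Lib.Helper10.DVRFibre.exists_affineOpen_mem (f x)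
  have hx' : x ∈ {x | GRAt f x} ∩ ((f ⁻¹ᵁ V : X.Opens) : Set X) := ⟨hx, hfxV⟩
  obtain ⟨_, ⟨U, hU, rfl⟩, hxU, hUsub⟩ :=
    X.isBasis_affineOpens.exists_subset_of_mem_open hx' (hopen.inter (f ⁻¹ᵁ V).isOpen)
  exact isReduced_stalk_of_gRAt_of_affine f hV hU (fun z hz => (hUsub hz).2)
    (fun z hz => (hUsub hz).1) x hxU hy

/-- fibre formulation -/
theorem isReducedAt_of_flat_of_isGeomReducedAt (f : X ⟶ Y) [Flat f] [LocallyOfFinitePresentation f]
    (x : X) (hy : FBase.IsReducedAt Y (f.base x))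
    (hx : FBase.IsGeomReducedAt (f.fiberToSpecResidueField (f.base x)) (f.asFiber x)) :
    FBase.IsReducedAt X x := by
  have h1 : GRAt f x := by
    have := (isGeomReducedAt_iff_gRAt f (f x) (f.asFiber x)).mp hx
    rwa [Scheme.Hom.fiberι_asFiber] at this
  exact isReduced_stalk_of_flat_of_gRAt f x hy h1

end Groth.Agent.Lib.Seat69.GeomRedAt
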