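import Mathlib
import Groth.Agent.Lib.Helper10TF
import Groth.Agent.Lib.Helper29Gorenstein
import Groth.Agent.Lib.Seat69CanonEnd
import Groth.Agent.Lib.Seat69CanonExt

/-!
# Seat69: one-dimensional Gorenstein local domains

* `extCongr` : `Ext` respects isomorphisms in both variables
* `van_of_hasInjectiveDimensionLT` : `Ext^i(M, W) = 0` (`i ≥ 1`) for f.g. torsion-free `M` when
  `W` has injective dimension `≤ 1`
* `isCanon_self` : a one-dimensional Gorenstein local domain is its own canonical module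
* `oneEquiv : O ≃ₗ ↥(1 : Submodule O K)`, `mulHom N P : ↥(P / N) →ₗ Hom(N, P)` (bijective for
  `N ≠ ⊥`), `dualEquiv N : Hom(N, O) ≃ₗ ↥(1 / N)`
* `ext_one_overring` : for `N ⊆ K` a f.g. `O`-submodule which is a subring,
  `Ext¹(N, N) ≃+ Hom(N⁻¹, O/N⁻¹)`.
-/

set_option linter.style.haveILetI false

namespace Groth.Agent.Lib.Seat69.Gor1

open CategoryTheory Groth.Agent.Lib.Seat69.CanonRefl Groth.Agent.Lib.Seat69.CanonExt

universe u

section ExtCongr

variable {O : Type u} [CommRing O]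

/-- `Ext` respects isomorphisms in both variables -/
noncomputable def extCongr {X X' Y Y' : ModuleCat.{u} O} (eX : X ≅ X') (eY : Y ≅ Y') (n : ℕ) :
    Abelian.Ext X Y n ≃+ Abelian.Ext X' Y' n where
  toFun x := (Abelian.Ext.mk₀ eX.inv).comp (x.comp (Abelian.Ext.mk₀ eY.hom) (add_zero n))
    (zero_add n)
  invFun y := (Abelian.Ext.mk₀ eX.hom).comp (y.comp (Abelian.Ext.mk₀ eY.inv) (add_zero n))
    (zero_add n)
  left_inv x := by
    dsimp only
    rw [Abelian.Ext.comp_assoc_of_third_deg_zero, Abelian.Ext.comp_assoc_of_third_deg_zero,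
      Abelian.Ext.mk₀_comp_mk₀, eY.hom_inv_id, Abelian.Ext.comp_mk₀_id,
      ← Abelian.Ext.comp_assoc_of_second_deg_zero, Abelian.Ext.mk₀_comp_mk₀, eX.hom_inv_id,
      Abelian.Ext.mk₀_id_comp]
  right_inv y := by
    dsimp only
    rw [Abelian.Ext.comp_assoc_of_third_deg_zero, Abelian.Ext.comp_assoc_of_third_deg_zero,
      Abelian.Ext.mk₀_comp_mk₀, eY.inv_hom_id, Abelian.Ext.comp_mk₀_id,
      ← Abelian.Ext.comp_assoc_of_second_deg_zero, Abelian.Ext.mk₀_comp_mk₀, eX.inv_hom_id,
      Abelian.Ext.mk₀_id_comp]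
  map_add' x y := by
    rw [Abelian.Ext.add_comp, Abelian.Ext.comp_add]

/-- `Ext` respects linear equivalences in both variables -/
noncomputable def extCongrOfLinearEquiv {X X' Y Y' : Type u} [AddCommGroup X] [Module O X]
    [AddCommGroup X'] [Module O X'] [AddCommGroup Y] [Module O Y] [AddCommGroup Y'] [Module O Y']
    (eX : X ≃ₗ[O] X') (eY : Y ≃ₗ[O] Y') (n : ℕ) :
    Abelian.Ext (ModuleCat.of O X) (ModuleCat.of O Y) n ≃+
      Abelian.Ext (ModuleCat.of O X') (ModuleCat.of O Y') n :=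
  extCongr eX.toModuleIso eY.toModuleIso n

end ExtCongr

section Van

variable {O : Type u} [CommRing O] [IsDomain O]

/-- `Ext^i(M, W) = 0` (`i ≥ 1`) for f.g. torsion-free `M` when `W` has injective dimension `≤ 1` -/
theorem van_of_hasInjectiveDimensionLT (W : Type u) [AddCommGroup W] [Module O W]
    (hW : HasInjectiveDimensionLT (ModuleCat.of O W) 2) : Van O W := by
  classical
  intro M _ _ _ _ i hi
  obtain ⟨n, f, hf⟩ := Groth.Agent.Lib.Helper10.exists_injective_of_isTorsionFree O M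
  let S : ShortComplex (ModuleCat.{u} O) :=
    ModuleCat.shortComplexOfCompEqZero f (LinearMap.range f).mkQ (by
      ext x
      simp)
  have hS : S.ShortExact := by
    refine ModuleCat.shortComplex_shortExact S ?_ hf (Submodule.mkQ_surjective _)
    intro y
    change (LinearMap.range f).mkQ y = 0 ↔ y ∈ Set.range f
    rw [Submodule.mkQ_apply, Submodule.Quotient.mk_eq_zero]
    rfl
  have hproj : Projective (ModuleCat.of O (Fin n → O)) := inferInstance
  obtain ⟨j, rfl⟩ : ∃ j, i = j + 1 := ⟨i - 1, by omega⟩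
  refine ⟨fun a b => ?_⟩
  suffices h : ∀ x : Abelian.Ext (ModuleCat.of O M) (ModuleCat.of O W) (j + 1), x = 0 by
    rw [h a, h b]
  intro x
  have h3 : hS.extClass.comp x (show 1 + (j + 1) = j + 2 by omega) = 0 :=
    Abelian.Ext.eq_zero_of_hasInjectiveDimensionLT _ 2 (by omega)
  obtain ⟨x₂, hx₂⟩ := Abelian.Ext.contravariant_sequence_exact₁ hS _ x
    (show 1 + (j + 1) = j + 2 by omega) h3
  have hx0 : x₂ = 0 := by
    have : Projective S.X₂ := hproj
    exact Abelian.Ext.eq_zero_of_projective x₂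
  rw [← hx₂, hx0, Abelian.Ext.comp_zero]

/-- a one-dimensional Gorenstein local domain is its own canonical module -/
theorem isCanon_self (O : Type u) [CommRing O] [IsDomain O] [LocCoh.IsGorensteinLocalRing O]
    (hdim : ringKrullDim O = 1) : IsCanon O O where
  finite := inferInstance
  tf := inferInstance
  nontriv := inferInstance
  van := van_of_hasInjectiveDimensionLT O
    (Groth.Agent.Lib.Helper29Gorenstein.depth_eq_and_hasInjectiveDimensionLT O 1
      (by exact_mod_cast hdim)).2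
  end_eq φ := ⟨φ 1, fun x => by
    have h : φ x = φ (x • (1 : O)) := by rw [smul_eq_mul, mul_one]
    rw [h, map_smul, smul_eq_mul, smul_eq_mul, mul_comm]⟩

end Van

section Frac

variable {O : Type u} [CommRing O] [IsDomain O] {K : Type u} [Field K] [Algebra O K]
  [IsFractionRing O K]

/-- `O ≃ 1 ⊆ K` -/
noncomputable def oneEquiv : O ≃ₗ[O] ↥(1 : Submodule O K) :=
  (LinearEquiv.ofInjective (Algebra.linearMap O K) (FaithfulSMul.algebraMap_injective O K)).trans
    (LinearEquiv.ofEq _ _ Submodule.one_eq_range.symm)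

omit [IsDomain O] in
theorem coe_oneEquiv (a : O) : ((oneEquiv a : ↥(1 : Submodule O K)) : K) = algebraMap O K a :=
  rfl

omit [IsDomain O] in
theorem algebraMap_oneEquiv_symm (x : ↥(1 : Submodule O K)) :
    algebraMap O K (oneEquiv.symm x) = x := by
  rw [← coe_oneEquiv, LinearEquiv.apply_symm_apply]

/-- multiplication by an element of `P / N` as a linear map `N → P` -/
def mulHom (N P : Submodule O K) : ↥(P / N) →ₗ[O] (↥N →ₗ[O] ↥P) where
  toFun x :=
    { toFun := fun n => ⟨(x : K) * n, Submodule.mem_div_iff_forall_mul_mem.mp x.2 n n.2⟩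
      map_add' := fun a b => Subtype.ext (by simp [mul_add])
      map_smul' := fun c a => Subtype.ext (by simp) }
  map_add' x y := by
    ext n
    simp [add_mul]
  map_smul' c x := by
    ext n
    simp

omit [IsDomain O] [IsFractionRing O K] in
theorem coe_mulHom (N P : Submodule O K) (x : ↥(P / N)) (n : ↥N) :
    ((mulHom N P x n : ↥P) : K) = (x : K) * n := rfl

theorem mulHom_bijective (N P : Submodule O K) (hN : N ≠ ⊥) :
    Function.Bijective (mulHom N P) := by
  constructor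
  · intro x y h
    obtain ⟨n₀, hn₀, hn₀0⟩ := Submodule.exists_mem_ne_zero_of_ne_bot hN
    have h1 := congrArg (fun φ : ↥N →ₗ[O] ↥P => ((φ ⟨n₀, hn₀⟩ : ↥P) : K)) h
    simp only [coe_mulHom] at h1
    exact Subtype.ext (mul_right_cancel₀ hn₀0 h1)
  · intro φ
    obtain ⟨b, hb⟩ := Groth.Agent.Lib.Seat69.CanonEnd.linearMap_eq_mul N P φ
    have hbmem : b ∈ P / N := by
      rw [Submodule.mem_div_iff_forall_mul_mem]
      intro n hn
      rw [← hb ⟨n, hn⟩]
      exact (φ ⟨n, hn⟩).2
    refine ⟨⟨b, hbmem⟩, ?_⟩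
    ext n
    rw [coe_mulHom, hb]

/-- `Hom(N, O) ≃ 1 / N` -/
noncomputable def dualEquiv (N : Submodule O K) (hN : N ≠ ⊥) :
    (↥N →ₗ[O] O) ≃ₗ[O] ↥((1 : Submodule O K) / N) :=
  (LinearEquiv.congrRight (oneEquiv (O := O) (K := K))).trans
    (LinearEquiv.ofBijective (mulHom N 1) (mulHom_bijective N 1 hN)).symm

theorem dualEquiv_spec (N : Submodule O K) (hN : N ≠ ⊥) (φ : ↥N →ₗ[O] O) (n : ↥N) :
    ((dualEquiv N hN φ : ↥((1 : Submodule O K) / N)) : K) * n = algebraMap O K (φ n) := by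
  have h1 : mulHom N 1 (dualEquiv N hN φ) = (oneEquiv (O := O) (K := K)).toLinearMap ∘ₗ φ := by
    unfold dualEquiv
    rw [LinearEquiv.trans_apply]
    exact (LinearEquiv.ofBijective (mulHom N 1) (mulHom_bijective N 1 hN)).apply_symm_apply _
  have h2 := congrArg (fun ψ : ↥N →ₗ[O] ↥(1 : Submodule O K) => ((ψ n : ↥(1 : Submodule O K)) : K)) h1
  simp only [coe_mulHom] at h2
  rw [h2]
  rfl

end Frac

section Overring

variable {O : Type u} [CommRing O] [IsDomain O] [LocCoh.IsGorensteinLocalRing O]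
  {K : Type u} [Field K] [Algebra O K] [IsFractionRing O K]

/-- for a finitely generated `O`-submodule `N ⊆ K` which is a subring,
`Ext¹(N, N) ≃+ Hom(N⁻¹, O/N⁻¹)` -/
theorem ext_one_overring (hdim : ringKrullDim O = 1) (N : Submodule O K) (hNfg : N.FG)
    (h1 : (1 : K) ∈ N) (hmul : ∀ a ∈ N, ∀ b ∈ N, a * b ∈ N) :
    Nonempty (Abelian.Ext (ModuleCat.of O ↥N) (ModuleCat.of O ↥N) 1 ≃+
      (↥((1 : Submodule O K) / N) →ₗ[O]
        (O ⧸ Submodule.comap (Algebra.linearMap O K) ((1 : Submodule O K) / N)))) := by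
  classical
  have hW := isCanon_self O hdim
  haveI : IsNoetherianRing O := inferInstance
  have hN0 : N ≠ ⊥ := fun h => by
    rw [h] at h1
    exact one_ne_zero ((Submodule.mem_bot O).mp h1)
  haveI hK : NoZeroSMulDivisors O K := Groth.Agent.Lib.Seat69.CanonEnd.nzsd_K
  haveI : NoZeroSMulDivisors O ↥N := Groth.Agent.Lib.Seat69.CanonEnd.nzsd_submodule N
  haveI : Module.Finite O ↥N := Module.Finite.iff_fg.mpr hNfg
  set J : Submodule O K := (1 : Submodule O K) / N with hJ
  set I : Ideal O := Submodule.comap (Algebra.linearMap O K) J with hI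
  have hJ1 : J ≤ 1 := fun x hx => by
    have := Submodule.mem_div_iff_forall_mul_mem.mp hx 1 h1
    rwa [mul_one] at this
  haveI : NoZeroSMulDivisors O ↥J := Groth.Agent.Lib.Seat69.CanonEnd.nzsd_submodule J
  let e₃ : (↥N →ₗ[O] O) ≃ₗ[O] ↥J := dualEquiv N hN0
  -- the short exact sequence `0 → J → O → O/I → 0`
  let j : ↥J →ₗ[O] O :=
    (oneEquiv (O := O) (K := K)).symm.toLinearMap ∘ₗ Submodule.inclusion hJ1
  have hj : ∀ x : ↥J, algebraMap O K (j x) = x := fun x => algebraMap_oneEquiv_symm _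
  have hjinj : Function.Injective j := by
    intro x y h
    apply Subtype.ext
    rw [← hj x, ← hj y, h]
  haveI : Module.Finite O ↥J := Module.Finite.of_injective j hjinj
  have hex : Function.Exact j I.mkQ := by
    intro y
    rw [Submodule.mkQ_apply, Submodule.Quotient.mk_eq_zero]
    constructor
    · intro hy
      have hy' : algebraMap O K y ∈ J := hy
      refine ⟨⟨algebraMap O K y, hy'⟩, ?_⟩
      apply FaithfulSMul.algebraMap_injective O K
      rw [hj]
    · rintro ⟨x, rfl⟩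
      show algebraMap O K (j x) ∈ J
      rw [hj]
      exact x.2
  let S : ShortComplex (ModuleCat.{u} O) :=
    ModuleCat.shortComplexOfCompEqZero j I.mkQ hex.linearMap_comp_eq_zero
  have hS : S.ShortExact :=
    ModuleCat.shortComplex_shortExact S hex hjinj (Submodule.mkQ_surjective _)
  let P : (↥J →ₗ[O] O ⧸ I) →+ Abelian.Ext (ModuleCat.of O ↥J) (ModuleCat.of O ↥J) 1 :=
    (hS.extClass.postcomp (ModuleCat.of O ↥J) (show 0 + 1 = 1 by rfl)).comp
      (lin0 _ _).toAddMonoidHom
  have hP : ∀ g, P g = (Abelian.Ext.mk₀ (ModuleCat.ofHom g)).comp hS.extClass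
      (show 0 + 1 = 1 by rfl) := fun g => rfl
  have hPs : Function.Surjective P := by
    intro y
    have h0 : y.comp (Abelian.Ext.mk₀ S.f) (add_zero 1) = 0 := by
      haveI := hW.van ↥J 1 le_rfl
      exact Subsingleton.elim _ _
    obtain ⟨x₃, hx₃⟩ :=
      Abelian.Ext.covariant_sequence_exact₁ _ hS y h0 (show 0 + 1 = 1 by rfl)
    obtain ⟨g, rfl⟩ := lin0_surjective _ _ x₃
    exact ⟨g, hx₃⟩
  have hPi : Function.Injective P := by
    rw [injective_iff_map_eq_zero]
    intro f hf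
    rw [hP] at hf
    obtain ⟨x₂, hx₂⟩ :=
      Abelian.Ext.covariant_sequence_exact₃ _ hS _ (show 0 + 1 = 1 by rfl) hf
    obtain ⟨ψ, rfl⟩ := lin0_surjective _ _ x₂
    rw [Abelian.Ext.mk₀_comp_mk₀] at hx₂
    have h1' := (Abelian.Ext.mk₀_bijective _ _).1 hx₂
    have hfψ : f = I.mkQ ∘ₗ ψ := (congrArg ModuleCat.Hom.hom h1').symm
    rw [hfψ]
    ext x
    show I.mkQ (ψ x) = 0
    rw [Submodule.mkQ_apply, Submodule.Quotient.mk_eq_zero]
    show algebraMap O K (ψ x) ∈ J
    obtain ⟨m₀, hm₀⟩ := (ev_bijective hW ↥N).2 (ψ ∘ₗ e₃.toLinearMap)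
    have key : algebraMap O K (ψ x) = (x : K) * (m₀ : K) := by
      have h2 := LinearMap.congr_fun hm₀ (e₃.symm x)
      rw [ev_apply, LinearMap.comp_apply, LinearEquiv.coe_coe, LinearEquiv.apply_symm_apply]
        at h2
      rw [← h2, ← dualEquiv_spec N hN0 (e₃.symm x) m₀]
      show ((e₃ (e₃.symm x) : ↥J) : K) * _ = _
      rw [LinearEquiv.apply_symm_apply]
    rw [key]
    refine Submodule.mem_div_iff_forall_mul_mem.mpr ?_
    intro m hm
    rw [mul_assoc]
    exact Submodule.mem_div_iff_forall_mul_mem.mp x.2 _ (hmul _ m₀.2 _ hm)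
  obtain ⟨d1⟩ := ext_dual hW 1 ↥N ↥N
  exact ⟨d1.trans ((extCongrOfLinearEquiv e₃ e₃ 1).trans
    (AddEquiv.ofBijective P ⟨hPi, hPs⟩).symm)⟩

end Overring

end Groth.Agent.Lib.Seat69.Gor1
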