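import Mathlib
import Groth.Agent.Lib.Helper5TFRank

/-!
# Choosing a basis of a free module over a semilocal ring inside a generating sublattice (seat 69)

`O` local with infinite residue field, `B` an `O`-algebra with finitely many maximal ideals,
`L ⊆ Bⁿ` an `O`-submodule generating `Bⁿ` over `B`.  Then `L` contains a `B`-basis of `Bⁿ`.
-/

set_option autoImplicit false
universe u

namespace Groth.Agent.Lib.Seat69.LatticeBasis

open Groth.Agent.Lib.Helper5

section Rho

variable {B : Type u} [CommRing B] (𝔫 : Ideal B) (n : ℕ)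

/-- reduction of vectors modulo an ideal -/
def ρ (v : Fin n → B) : Fin n → B ⧸ 𝔫 := fun i => Ideal.Quotient.mk 𝔫 (v i)

theorem ρ_add (v w : Fin n → B) : ρ 𝔫 n (v + w) = ρ 𝔫 n v + ρ 𝔫 n w := by
  funext i
  simp [ρ]

theorem ρ_zero : ρ 𝔫 n 0 = 0 := by
  funext i
  simp [ρ]

theorem ρ_smul (b : B) (v : Fin n → B) :
    ρ 𝔫 n (b • v) = Ideal.Quotient.mk 𝔫 b • ρ 𝔫 n v := by
  funext i
  simp [ρ]

theorem ρ_surjective : Function.Surjective (ρ 𝔫 n) := by
  intro w
  choose v hv using fun i => Ideal.Quotient.mk_surjective (w i)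
  exact ⟨v, funext hv⟩

end Rho

variable (O : Type u) [CommRing O] [IsLocalRing O] [Infinite (IsLocalRing.ResidueField O)]
variable (B : Type u) [CommRing B] [Algebra O B] [Finite (MaximalSpectrum B)]
variable (n : ℕ) (L : Submodule O (Fin n → B))

omit [IsLocalRing O] [Infinite (IsLocalRing.ResidueField O)] [Finite (MaximalSpectrum B)] in
theorem smul_eq_algebraMap_smul (r : O) (a : Fin n → B) : r • a = algebraMap O B r • a := by
  funext k
  simp [Algebra.smul_def]

/-- the elements of `L` whose reduction lies in a given subspace -/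
def P (𝔫 : Ideal B) (W : Submodule (B ⧸ 𝔫) (Fin n → B ⧸ 𝔫)) : Submodule O L where
  carrier := {v | ρ 𝔫 n v.1 ∈ W}
  add_mem' := by
    intro a b ha hb
    have h : ρ 𝔫 n ((a + b : L) : Fin n → B) = ρ 𝔫 n a.1 + ρ 𝔫 n b.1 := ρ_add 𝔫 n a.1 b.1
    simp only [Set.mem_ofPred_eq] at ha hb ⊢
    rw [h]
    exact add_mem ha hb
  zero_mem' := by
    have h : ρ 𝔫 n ((0 : L) : Fin n → B) = 0 := ρ_zero 𝔫 n
    simp only [Set.mem_ofPred_eq]
    rw [h]
    exact zero_mem _
  smul_mem' := by
    intro r a ha
    have h : ρ 𝔫 n ((r • a : L) : Fin n → B) = Ideal.Quotient.mk 𝔫 (algebraMap O B r) • ρ 𝔫 n a.1 := by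
      rw [← ρ_smul, ← smul_eq_algebraMap_smul]
      rfl
    simp only [Set.mem_ofPred_eq] at ha ⊢
    rw [h]
    exact Submodule.smul_mem _ _ ha

omit [IsLocalRing O] [Infinite (IsLocalRing.ResidueField O)] [Finite (MaximalSpectrum B)] in
theorem mem_P (𝔫 : Ideal B) (W : Submodule (B ⧸ 𝔫) (Fin n → B ⧸ 𝔫)) (v : L) :
    v ∈ P O B n L 𝔫 W ↔ ρ 𝔫 n v.1 ∈ W := Iff.rfl

variable (hL : Submodule.span B (L : Set (Fin n → B)) = ⊤)
include hL

omit [IsLocalRing O] [Infinite (IsLocalRing.ResidueField O)] [Finite (MaximalSpectrum B)] in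
/-- if `ρ` maps `L` into a subspace `W`, then `W = ⊤` -/
theorem W_eq_top (𝔫 : Ideal B) (W : Submodule (B ⧸ 𝔫) (Fin n → B ⧸ 𝔫))
    (h : ∀ v ∈ L, ρ 𝔫 n v ∈ W) : W = ⊤ := by
  rw [eq_top_iff]
  intro w _
  obtain ⟨v, rfl⟩ := ρ_surjective 𝔫 n w
  have hv : v ∈ Submodule.span B (L : Set (Fin n → B)) := by rw [hL]; trivial
  refine Submodule.span_induction ?_ ?_ ?_ ?_ hv
  · exact fun x hx => h x hx
  · rw [ρ_zero]
    exact zero_mem _
  · intro x y _ _ hx hy
    rw [ρ_add]
    exact add_mem hx hy
  · intro b x _ hx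
    rw [ρ_smul]
    exact W.smul_mem _ hx

theorem exists_partial (i : ℕ) (hi : i ≤ n) :
    ∃ x : Fin i → (Fin n → B), (∀ j, x j ∈ L) ∧
      ∀ 𝔫 : MaximalSpectrum B, LinearIndependent (B ⧸ 𝔫.asIdeal) (fun j => ρ 𝔫.asIdeal n (x j)) := by
  classical
  induction i with
  | zero =>
    exact ⟨Fin.elim0, fun j => j.elim0, fun 𝔫 => linearIndependent_empty_type⟩
  | succ i ih =>
    obtain ⟨x, hxL, hx⟩ := ih (by omega)
    have : Fintype (MaximalSpectrum B) := Fintype.ofFinite _
    -- the submodules to avoid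
    let p : MaximalSpectrum B → Submodule O L := fun 𝔫 =>
      P O B n L 𝔫.asIdeal
        (Submodule.span (B ⧸ 𝔫.asIdeal) (Set.range fun j => ρ 𝔫.asIdeal n (x j)))
    have hp : ∀ 𝔫, ∃ y : L, y ∉ p 𝔫 := by
      intro 𝔫
      by_contra hcon
      push Not at hcon
      letI := Ideal.Quotient.field 𝔫.asIdeal
      have htop := W_eq_top O B n L hL 𝔫.asIdeal
        (Submodule.span (B ⧸ 𝔫.asIdeal) (Set.range fun j => ρ 𝔫.asIdeal n (x j)))
        (fun v hv => hcon ⟨v, hv⟩)
      have h1 := finrank_range_le_card (R := B ⧸ 𝔫.asIdeal) (fun j => ρ 𝔫.asIdeal n (x j))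
      rw [Set.finrank, htop, finrank_top, Module.finrank_fin_fun, Fintype.card_fin] at h1
      omega
    obtain ⟨v, hv⟩ := TFRank.exists_notMem_of_forall_exists O p hp
    refine ⟨Fin.snoc x v.1, ?_, ?_⟩
    · intro j
      refine Fin.lastCases ?_ (fun j => ?_) j
      · rw [Fin.snoc_last]
        exact v.2
      · rw [Fin.snoc_castSucc]
        exact hxL j
    · intro 𝔫
      letI := Ideal.Quotient.field 𝔫.asIdeal
      have h2 : (fun j => ρ 𝔫.asIdeal n ((Fin.snoc x v.1 : Fin (i + 1) → (Fin n → B)) j)) =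
          Fin.snoc (fun j => ρ 𝔫.asIdeal n (x j)) (ρ 𝔫.asIdeal n v.1) := by
        funext j
        refine Fin.lastCases ?_ (fun j => ?_) j
        · simp
        · simp
      rw [h2, linearIndependent_finSnoc]
      exact ⟨hx 𝔫, hv 𝔫⟩

/-- **a generating sublattice contains a basis** -/
theorem exists_basis_mem :
    ∃ x : Fin n → (Fin n → B), (∀ j, x j ∈ L) ∧ LinearIndependent B x ∧
      Submodule.span B (Set.range x) = ⊤ := by
  classical
  obtain ⟨x, hxL, hx⟩ := exists_partial O B n L hL n le_rfl
  refine ⟨x, hxL, ?_⟩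
  let A : Matrix (Fin n) (Fin n) B := Matrix.of x
  have hdet : IsUnit A.det := by
    by_contra hnu
    obtain ⟨𝔫, h𝔫, hmem⟩ := exists_max_ideal_of_mem_nonunits (mem_nonunits_iff.mpr hnu)
    letI := Ideal.Quotient.field 𝔫
    have hli := hx ⟨𝔫, h𝔫⟩
    have h1 : LinearIndependent (B ⧸ 𝔫) ((Ideal.Quotient.mk 𝔫).mapMatrix A).row := hli
    rw [Matrix.linearIndependent_rows_iff_isUnit, Matrix.isUnit_iff_isUnit_det,
      ← RingHom.map_det] at h1
    exact h1.ne_zero (Ideal.Quotient.eq_zero_iff_mem.mpr hmem)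
  have hA : IsUnit A := (Matrix.isUnit_iff_isUnit_det A).mpr hdet
  constructor
  · have := Matrix.vecMul_injective_of_isUnit hA
    rwa [Matrix.vecMul_injective_iff] at this
  · have h1 := range_vecMulLinear A
    have h2 : Function.Surjective A.vecMulLinear := Matrix.vecMul_surjective_iff_isUnit.mpr hA
    rw [LinearMap.range_eq_top.mpr h2] at h1
    exact h1.symm

end Groth.Agent.Lib.Seat69.LatticeBasis

namespace Groth.Agent.Lib.Seat69.LatticeBasis

/-- **a lattice in `Kⁿ` contains a `K`-basis spanning it over a semilocal PID `B`** -/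
theorem exists_basis_in_lattice
    (O : Type u) [CommRing O] [IsLocalRing O] [Infinite (IsLocalRing.ResidueField O)]
    (B : Type u) [CommRing B] [IsDomain B] [IsPrincipalIdealRing B] [Algebra O B]
    [Finite (MaximalSpectrum B)]
    (K : Type u) [Field K] [Algebra B K] [IsFractionRing B K] [Algebra O K] [IsScalarTower O B K]
    (n : ℕ) (L : Submodule O (Fin n → K)) (hLfg : L.FG)
    (hLspan : Submodule.span K (L : Set (Fin n → K)) = ⊤) :
    ∃ x : Fin n → (Fin n → K), (∀ j, x j ∈ L) ∧ LinearIndependent K x ∧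
      (L : Set (Fin n → K)) ⊆ Submodule.span B (Set.range x) := by
  classical
  -- the `B`-span of `L`
  let F : Submodule B (Fin n → K) := Submodule.span B (L : Set (Fin n → K))
  have hLF : (L : Set (Fin n → K)) ⊆ F := Submodule.subset_span
  haveI : Module.Finite B F := by
    obtain ⟨s, hs⟩ := hLfg
    have h1 : F = Submodule.span B (s : Set (Fin n → K)) := by
      show Submodule.span B (L : Set (Fin n → K)) = _
      rw [← hs, Submodule.span_span_of_tower]
    rw [h1]
    exact Module.Finite.span_of_finite B s.finite_toSet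
  haveI : Module.IsTorsionFree B (Fin n → K) := inferInstance
  haveI : Module.IsTorsionFree B F := inferInstance
  haveI : Module.Free B F := inferInstance
  let ι := Module.Free.ChooseBasisIndex B F
  let y : Module.Basis ι B F := Module.Free.chooseBasis B F
  have : Fintype ι := inferInstance
  -- `y` is a `K`-basis of `Kⁿ`
  have hyB : LinearIndependent B (fun i => (y i : Fin n → K)) :=
    y.linearIndependent.map' F.subtype (Submodule.ker_subtype F)
  have hyK : LinearIndependent K (fun i => (y i : Fin n → K)) :=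
    (LinearIndependent.iff_fractionRing B K).mp hyB
  have hyspanB : Submodule.span B (Set.range fun i => (y i : Fin n → K)) = F := by
    have h1 := y.span_eq
    have h2 := congrArg (Submodule.map F.subtype) h1
    rw [Submodule.map_span, Submodule.map_top, Submodule.range_subtype, ← Set.range_comp] at h2
    exact h2
  have hyspanK : Submodule.span K (Set.range fun i => (y i : Fin n → K)) = ⊤ := by
    rw [eq_top_iff, ← hLspan, Submodule.span_le]
    intro v hv
    have h1 : v ∈ F := hLF hv
    rw [← hyspanB] at h1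
    have h2 : Submodule.span B (Set.range fun i => (y i : Fin n → K)) ≤
        (Submodule.span K (Set.range fun i => (y i : Fin n → K))).restrictScalars B :=
      Submodule.span_le_restrictScalars B K _
    exact h2 h1
  have hcard : Fintype.card ι = n := by
    let bK : Module.Basis ι K (Fin n → K) := Module.Basis.mk hyK hyspanK.ge
    have := Module.finrank_eq_card_basis bK
    rw [Module.finrank_fin_fun] at this
    exact this.symm
  let e : ι ≃ Fin n := Fintype.equivFinOfCardEq hcard
  let yb : Module.Basis (Fin n) B F := y.reindex e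
  let c : F ≃ₗ[B] (Fin n → B) := yb.equivFun
  -- transport `L`
  let LF : Submodule O F := L.comap (F.subtype.restrictScalars O)
  let Lc : Submodule O (Fin n → B) := LF.map (c.restrictScalars O).toLinearMap
  have hLFspan : Submodule.span B (LF : Set F) = ⊤ := by
    have := Submodule.span_span_coe_preimage (R := B) (s := (L : Set (Fin n → K)))
    exact this
  have hLcspan : Submodule.span B (Lc : Set (Fin n → B)) = ⊤ := by
    have h1 : (Lc : Set (Fin n → B)) = (c.toLinearMap : F →ₗ[B] (Fin n → B)) '' (LF : Set F) := rfl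
    rw [h1, ← Submodule.map_span, hLFspan, Submodule.map_top, LinearMap.range_eq_top]
    exact c.surjective
  obtain ⟨xc, hxcL, hxcli, hxcspan⟩ := exists_basis_mem O B n Lc hLcspan
  let xF : Fin n → F := fun j => c.symm (xc j)
  have hxFL : ∀ j, xF j ∈ LF := by
    intro j
    obtain ⟨v, hv, hvc⟩ := hxcL j
    have : xF j = v := by
      show c.symm (xc j) = v
      rw [← hvc]
      exact c.symm_apply_apply v
    rw [this]
    exact hv
  have hxFli : LinearIndependent B xF := hxcli.map' c.symm.toLinearMap c.symm.ker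
  have hxFspan : Submodule.span B (Set.range xF) = ⊤ := by
    have h1 : Set.range xF = (c.symm.toLinearMap : (Fin n → B) →ₗ[B] F) '' Set.range xc := by
      rw [← Set.range_comp]
      rfl
    rw [h1, ← Submodule.map_span, hxcspan, Submodule.map_top, LinearMap.range_eq_top]
    exact c.symm.surjective
  refine ⟨fun j => (xF j : Fin n → K), fun j => hxFL j, ?_, ?_⟩
  · have h1 : LinearIndependent B (fun j => (xF j : Fin n → K)) :=
      hxFli.map' F.subtype (Submodule.ker_subtype F)
    exact (LinearIndependent.iff_fractionRing B K).mp h1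
  · intro v hv
    have h1 : (⟨v, hLF hv⟩ : F) ∈ Submodule.span B (Set.range xF) := by
      rw [hxFspan]
      trivial
    have h2 := Submodule.mem_map_of_mem (f := F.subtype) h1
    rw [Submodule.map_span, ← Set.range_comp] at h2
    exact h2

end Groth.Agent.Lib.Seat69.LatticeBasis
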