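import Mathlib
import Groth.Agent.S15009
import Groth.Agent.Lib.Seat69Gor1

/-!
# Seat69: torsion-free modules over a one-dimensional Gorenstein local domain as lattices between
`Cⁿ` and `Oⁿ`

* `finrank_tensor_eq` : `finrank K (K ⊗ M) = finrank O M`
* `finrank_of_sandwich` : a lattice `c Oⁿ ⊆ N ⊆ Oⁿ` has rank `n`
* `exists_conductor_ne_zero`
* `exists_lattice` : `M ≅ M''` with `Cⁿ ⊆ M'' ⊆ Oⁿ` (in some `Kⁿ'`)
-/

set_option linter.style.haveILetI false

namespace Groth.Agent.Lib.Seat69.GorLattice

open Groth.Agent.Lib.Seat69.CanonRefl Groth.Agent.Lib.Seat69.CanonExt Groth.Agent.Lib.Seat69.Gor1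

universe u

section Rank

variable {O : Type u} [CommRing O] [IsDomain O] {K : Type u} [Field K] [Algebra O K]
  [IsFractionRing O K]

omit [IsDomain O] in
theorem finrank_tensor_eq (M : Type u) [AddCommGroup M] [Module O M] :
    Module.finrank K (TensorProduct O K M) = Module.finrank O M := by
  rw [IsLocalization.finrank_eq K (nonZeroDivisors O) le_rfl,
    IsLocalizedModule.finrank_eq (nonZeroDivisors O) (TensorProduct.mk O K M 1) le_rfl]

/-- the conductor of a finitely generated submodule is nonzero -/
theorem exists_colon_ne_zero (P : Submodule O K) (hP : P.FG) :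
    ∃ c : O, c ≠ 0 ∧ c ∈ (1 : Submodule O K).colon (P : Set K) := by
  obtain ⟨s, hs, hsP⟩ := FractionalIdeal.isFractional_of_fg (S := nonZeroDivisors O) hP
  refine ⟨s, nonZeroDivisors.ne_zero hs, ?_⟩
  rw [Submodule.mem_colon]
  intro b hb
  obtain ⟨r, hr⟩ := hsP b hb
  rw [← hr]
  exact Submodule.mem_one.mpr ⟨r, rfl⟩

/-- coordinates of a lattice inside `Oⁿ` -/
noncomputable def coords {n : ℕ} (N : Submodule O (Fin n → K))
    (h2 : N ≤ Submodule.pi Set.univ (fun _ : Fin n => (1 : Submodule O K))) :
    ↥N →ₗ[O] (Fin n → O) :=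
  LinearMap.pi (fun i => (oneEquiv (O := O) (K := K)).symm.toLinearMap ∘ₗ
    LinearMap.codRestrict (1 : Submodule O K) (LinearMap.proj i ∘ₗ N.subtype)
      (fun v => (Submodule.mem_pi.mp (h2 v.2)) i (Set.mem_univ i)))

omit [IsDomain O] in
theorem algebraMap_coords {n : ℕ} (N : Submodule O (Fin n → K))
    (h2 : N ≤ Submodule.pi Set.univ (fun _ : Fin n => (1 : Submodule O K))) (v : ↥N) (i : Fin n) :
    algebraMap O K (coords N h2 v i) = (v : Fin n → K) i :=
  algebraMap_oneEquiv_symm _

omit [IsDomain O] in
theorem coords_injective {n : ℕ} (N : Submodule O (Fin n → K))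
    (h2 : N ≤ Submodule.pi Set.univ (fun _ : Fin n => (1 : Submodule O K))) :
    Function.Injective (coords N h2) := by
  intro v w h
  apply Subtype.ext
  funext i
  rw [← algebraMap_coords N h2 v i, ← algebraMap_coords N h2 w i, h]

theorem finrank_of_sandwich [IsNoetherianRing O] {n : ℕ} (N : Submodule O (Fin n → K)) (c : O) (hc : c ≠ 0)
    (h1 : ∀ v : Fin n → O, (fun i => algebraMap O K (c * v i)) ∈ N)
    (h2 : N ≤ Submodule.pi Set.univ (fun _ : Fin n => (1 : Submodule O K))) :
    Module.finrank O ↥N = n := by
  haveI : Module.Finite O ↥N := Module.Finite.of_injective _ (coords_injective N h2)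
  apply le_antisymm
  · have := LinearMap.finrank_le_finrank_of_injective (coords_injective N h2)
    rwa [Module.finrank_fin_fun] at this
  · let g : (Fin n → O) →ₗ[O] ↥N :=
      { toFun := fun v => ⟨fun i => algebraMap O K (c * v i), h1 v⟩
        map_add' := fun v w => Subtype.ext (by
          funext i
          simp [mul_add])
        map_smul' := fun a v => Subtype.ext (by
          funext i
          simp [Algebra.smul_def]
          ring) }
    have hg : Function.Injective g := by
      intro v w h
      funext i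
      have h3 := congrFun (congrArg Subtype.val h) i
      have h4 : algebraMap O K (c * v i) = algebraMap O K (c * w i) := h3
      exact mul_left_cancel₀ hc (FaithfulSMul.algebraMap_injective O K h4)
    have := LinearMap.finrank_le_finrank_of_injective hg
    rwa [Module.finrank_fin_fun] at this

end Rank

section Main

variable {O : Type u} [CommRing O] [IsDomain O] [LocCoh.IsGorensteinLocalRing O]
  [IsAlgClosed (IsLocalRing.ResidueField O)]
  {K : Type u} [Field K] [Algebra O K] [IsFractionRing O K]

/-- every finitely generated torsion-free module is isomorphic to a lattice between `Cⁿ` and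
`Oⁿ` -/
theorem exists_lattice (hdim : ringKrullDim O = 1)
    (hfin : Module.Finite O ↥(integralClosure O K)) (M : Type u) [AddCommGroup M] [Module O M]
    [Module.Finite O M] [NoZeroSMulDivisors O M] :
    ∃ (n : ℕ) (M'' : Submodule O (Fin n → K)),
      Submodule.pi Set.univ (fun _ : Fin n => (((1 : Submodule O K).colon
        (Subalgebra.toSubmodule (integralClosure O K))) • (1 : Submodule O K))) ≤ M'' ∧
      M'' ≤ Submodule.pi Set.univ (fun _ : Fin n => (1 : Submodule O K)) ∧
      Nonempty (M ≃ₗ[O] ↥M'') := by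
  classical
  have hW := isCanon_self O hdim
  haveI : IsNoetherianRing O := inferInstance
  haveI : Module.Finite O (M →ₗ[O] O) := finite_dual M
  haveI : NoZeroSMulDivisors O (M →ₗ[O] O) := nzsd_dual M
  obtain ⟨n, hn⟩ : ∃ n, Module.finrank K (TensorProduct O K (M →ₗ[O] O)) = n := ⟨_, rfl⟩
  obtain ⟨L', hL1, hL2, ⟨eL⟩⟩ := Groth.Agent.S15009.result O hdim K hfin (M →ₗ[O] O) n hn
  set Õs : Submodule O K := Subalgebra.toSubmodule (integralClosure O K) with hÕs
  -- the standard basis vectors lie in `L'`
  have he : ∀ i : Fin n, (Pi.single i (1 : K) : Fin n → K) ∈ L' := by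
    intro i
    apply hL1
    rw [Submodule.mem_pi]
    intro j _
    by_cases h : j = i
    · subst h
      rw [Pi.single_eq_same]
      exact Submodule.one_le.mp le_rfl
    · rw [Pi.single_eq_of_ne h]
      exact zero_mem _
  let e : Fin n → ↥L' := fun i => ⟨Pi.single i 1, he i⟩
  let R : (↥L' →ₗ[O] O) →ₗ[O] (Fin n → K) :=
    LinearMap.pi (fun i => (Algebra.linearMap O K) ∘ₗ (LinearMap.applyₗ (e i)))
  have hR : ∀ φ i, R φ i = algebraMap O K (φ (e i)) := fun φ i => rfl
  have hRinj : Function.Injective R := by
    rw [injective_iff_map_eq_zero]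
    intro φ hφ
    have hφe : ∀ i, φ (e i) = 0 := by
      intro i
      apply FaithfulSMul.algebraMap_injective O K
      rw [← hR, hφ, map_zero]
      rfl
    ext l
    obtain ⟨s, hs⟩ := IsLocalization.exist_integer_multiples (nonZeroDivisors O)
      (Finset.univ : Finset (Fin n)) (fun i => (l : Fin n → K) i)
    choose r hr using fun i => hs i (Finset.mem_univ i)
    have hsl : (s : O) • l = ∑ i, r i • e i := by
      apply Subtype.ext
      funext j
      rw [Submodule.coe_smul, Pi.smul_apply, Submodule.coe_sum, Finset.sum_apply]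
      have h1 : ∀ i, ((r i • e i : ↥L') : Fin n → K) j = if i = j then algebraMap O K (r j) else 0 := by
        intro i
        rw [Submodule.coe_smul, Pi.smul_apply]
        by_cases h : i = j
        · subst h
          rw [if_pos rfl]
          show r i • (Pi.single i (1 : K) : Fin n → K) i = _
          rw [Pi.single_eq_same, Algebra.smul_def, mul_one]
        · rw [if_neg h]
          show r i • (Pi.single i (1 : K) : Fin n → K) j = _
          rw [Pi.single_eq_of_ne (Ne.symm h), smul_zero]
      simp only [h1, Finset.sum_ite_eq', Finset.mem_univ, if_true]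
      rw [hr j]
    have h2 : (s : O) • φ l = 0 := by
      rw [← map_smul, hsl, map_sum]
      refine Finset.sum_eq_zero fun i _ => ?_
      rw [map_smul, hφe i, smul_zero]
    rw [smul_eq_mul] at h2
    rcases mul_eq_zero.mp h2 with h | h
    · exact absurd h (nonZeroDivisors.coe_ne_zero s)
    · exact h
  refine ⟨n, LinearMap.range R, ?_, ?_, ?_⟩
  · intro v hv
    rw [Submodule.mem_pi] at hv
    have hmul : ∀ x ∈ (((1 : Submodule O K).colon (Õs : Set K)) • (1 : Submodule O K)),
        ∀ y ∈ Õs, x * y ∈ (1 : Submodule O K) := by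
      intro x hx y hy
      refine Submodule.smul_induction_on hx ?_ ?_
      · intro c hc z hz
        obtain ⟨r, rfl⟩ := Submodule.mem_one.mp hz
        have h1 : c • algebraMap O K r * y = (c * r) • y := by
          rw [Algebra.smul_def, Algebra.smul_def, map_mul]
        rw [h1]
        exact Submodule.mem_colon.mp (Ideal.mul_mem_right r _ hc) y hy
      · intro a b ha hb
        rw [add_mul]
        exact add_mem ha hb
    let Φ : (Fin n → K) →ₗ[O] K := ∑ i, (v i) • (LinearMap.proj i : (Fin n → K) →ₗ[O] K)
    have hΦapp : ∀ l : Fin n → K, Φ l = ∑ i, v i * l i := by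
      intro l
      simp only [Φ, LinearMap.sum_apply, LinearMap.smul_apply, LinearMap.proj_apply, smul_eq_mul]
    have hΦ : ∀ l : ↥L', (Φ ∘ₗ L'.subtype) l ∈ (1 : Submodule O K) := by
      intro l
      rw [LinearMap.comp_apply, Submodule.subtype_apply, hΦapp]
      refine Submodule.sum_mem _ fun i _ => ?_
      exact hmul _ (hv i (Set.mem_univ i)) _
        ((Submodule.mem_pi.mp (hL2 l.2)) i (Set.mem_univ i))
    let φ : ↥L' →ₗ[O] O := (oneEquiv (O := O) (K := K)).symm.toLinearMap ∘ₗ
      LinearMap.codRestrict (1 : Submodule O K) (Φ ∘ₗ L'.subtype) hΦ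
    refine ⟨φ, ?_⟩
    funext i
    rw [hR]
    have h1 : algebraMap O K (φ (e i)) = Φ (e i : Fin n → K) := algebraMap_oneEquiv_symm _
    rw [h1, hΦapp]
    show ∑ j, v j * (Pi.single i (1 : K) : Fin n → K) j = v i
    rw [Finset.sum_eq_single i]
    · rw [Pi.single_eq_same, mul_one]
    · intro j _ hji
      rw [Pi.single_eq_of_ne hji, mul_zero]
    · intro h
      exact absurd (Finset.mem_univ i) h
  · rintro _ ⟨φ, rfl⟩
    rw [Submodule.mem_pi]
    intro i _
    rw [hR]
    exact Submodule.mem_one.mpr ⟨_, rfl⟩
  · exact ⟨(LinearEquiv.ofBijective (ev O O M) (ev_bijective hW M)).trans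
      ((LinearEquiv.arrowCongr eL (LinearEquiv.refl O O)).trans
        (LinearEquiv.ofInjective R hRinj))⟩

end Main

end Groth.Agent.Lib.Seat69.GorLattice
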