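import Mathlib
import Groth.Agent.Lib.Seat69InjBasic
import Groth.Agent.Lib.Seat69InjLocal
import Groth.Agent.Lib.Seat69ArtType

/-!
# Seat69: an injective module over a Noetherian ring is a directed union of submodules of
Artinian type (`exists_directed_cover`), by Zorn's lemma on directed families.
-/

set_option linter.style.haveILetI false

namespace Groth.Agent.Lib.Seat69.InjCover

open Groth.Agent.Lib.Seat69.InjBasic Groth.Agent.Lib.Seat69.InjLocal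
  Groth.Agent.Lib.Seat69.ArtinType

universe u

variable {A : Type u} [CommRing A] {J : Type u} [AddCommGroup J] [Module A J]

/-- the sum of two disjoint submodules is their product -/
noncomputable def prodEquivSup (N₁ N₂ : Submodule A J) (h : Disjoint N₁ N₂) :
    (↥N₁ × ↥N₂) ≃ₗ[A] ↥(N₁ ⊔ N₂) :=
  LinearEquiv.ofBijective
    ((N₁.subtype.coprod N₂.subtype).codRestrict (N₁ ⊔ N₂) (fun x => by
      rw [LinearMap.coprod_apply]
      exact add_mem (Submodule.mem_sup_left x.1.2) (Submodule.mem_sup_right x.2.2)))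
    ⟨by
      rw [injective_iff_map_eq_zero]
      intro x hx
      have h0 : (x.1 : J) + (x.2 : J) = 0 := by
        have := congrArg Subtype.val hx
        simpa using this
      have h1 : (x.1 : J) ∈ N₂ := by
        rw [eq_neg_of_add_eq_zero_left h0]
        exact N₂.neg_mem x.2.2
      have h2 : (x.1 : J) = 0 := (Submodule.disjoint_def.mp h) _ x.1.2 h1
      have h3 : (x.2 : J) = 0 := by rwa [h2, zero_add] at h0
      exact Prod.ext (Subtype.ext h2) (Subtype.ext h3),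
    by
      rintro ⟨y, hy⟩
      obtain ⟨a, ha, b, hb, rfl⟩ := Submodule.mem_sup.mp hy
      exact ⟨(⟨a, ha⟩, ⟨b, hb⟩), Subtype.ext (by simp)⟩⟩

theorem injective_of_subsingleton (N : Type u) [AddCommGroup N] [Module A N] [Subsingleton N] :
    Module.Injective A N :=
  ⟨fun _ _ _ _ _ _ _ _ _ => ⟨0, fun _ => Subsingleton.elim _ _⟩⟩

theorem exists_directed_cover [IsNoetherianRing A] (J : Type u) [AddCommGroup J] [Module A J]
    [Module.Injective A J] :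
    ∃ 𝒟 : Set (Submodule A J), ⊥ ∈ 𝒟 ∧ DirectedOn (· ≤ ·) 𝒟 ∧ (∀ N ∈ 𝒟, ArtType A ↥N) ∧
      sSup 𝒟 = ⊤ := by
  classical
  let Good : Set (Set (Submodule A J)) := {𝒟 | ⊥ ∈ 𝒟 ∧ DirectedOn (· ≤ ·) 𝒟 ∧
    (∀ N ∈ 𝒟, ArtType A ↥N) ∧ Module.Injective A ↥(sSup 𝒟)}
  have h0 : ({⊥} : Set (Submodule A J)) ∈ Good := by
    refine ⟨rfl, ?_, ?_, ?_⟩
    · rintro a rfl b rfl
      exact ⟨_, rfl, le_rfl, le_rfl⟩
    · rintro N rfl
      exact ArtType.of_subsingleton _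
    · rw [sSup_singleton]
      exact injective_of_subsingleton _
  obtain ⟨𝒟, -, hmax⟩ := zorn_subset_nonempty Good (by
    intro c hc hchain hne
    refine ⟨⋃₀ c, ⟨?_, ?_, ?_, ?_⟩, fun s hs => Set.subset_sUnion_of_mem hs⟩
    · obtain ⟨𝒟0, h𝒟0⟩ := hne
      exact ⟨𝒟0, h𝒟0, (hc h𝒟0).1⟩
    · exact Set.directedOn_sUnion hchain.directedOn (fun x hx => (hc hx).2.1)
    · rintro N ⟨𝒟1, h𝒟1, hN⟩
      exact (hc h𝒟1).2.2.1 N hN
    · rw [sSup_sUnion, ← sSup_image]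
      refine injective_sSup_of_directed _ (hne.image _) ?_ ?_
      · rintro _ ⟨𝒟1, h1, rfl⟩ _ ⟨𝒟2, h2, rfl⟩
        rcases hchain.total h1 h2 with h | h
        · exact ⟨_, ⟨𝒟2, h2, rfl⟩, sSup_le_sSup h, le_rfl⟩
        · exact ⟨_, ⟨𝒟1, h1, rfl⟩, le_rfl, sSup_le_sSup h⟩
      · rintro _ ⟨𝒟1, h1, rfl⟩
        exact (hc h1).2.2.2) {⊥} h0
  obtain ⟨hbot, hdir, hart, hinj⟩ := hmax.prop
  refine ⟨𝒟, hbot, hdir, hart, ?_⟩
  haveI := hinj
  obtain ⟨C, hC⟩ := exists_isCompl_of_injective (sSup 𝒟 : Submodule A J)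
  by_cases hC0 : C = ⊥
  · have := hC.sup_eq_top
    rwa [hC0, sup_bot_eq] at this
  exfalso
  haveI : Module.Injective A ↥C := injective_of_isCompl hC.symm
  obtain ⟨𝒟', hbot', hdir', hart', hle', hinj', hne'⟩ := exists_good_family C hC0
  have hdisj : Disjoint (sSup 𝒟) (sSup 𝒟') :=
    hC.disjoint.mono_right (sSup_le hle')
  let 𝒟'' : Set (Submodule A J) := Set.image2 (· ⊔ ·) 𝒟 𝒟'
  have hsub : 𝒟 ⊆ 𝒟'' := fun N hN => ⟨N, hN, ⊥, hbot', sup_bot_eq N⟩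
  have hsup : sSup 𝒟'' = sSup 𝒟 ⊔ sSup 𝒟' := by
    apply le_antisymm
    · refine sSup_le ?_
      rintro _ ⟨N₁, h₁, N₂, h₂, rfl⟩
      exact sup_le_sup (le_sSup h₁) (le_sSup h₂)
    · refine sup_le (sSup_le_sSup hsub) (sSup_le_sSup ?_)
      exact fun N hN => ⟨⊥, hbot, N, hN, bot_sup_eq N⟩
  have hgood : 𝒟'' ∈ Good := by
    refine ⟨hsub hbot, ?_, ?_, ?_⟩
    · rintro _ ⟨N₁, h₁, N₂, h₂, rfl⟩ _ ⟨M₁, g₁, M₂, g₂, rfl⟩
      obtain ⟨P₁, hP₁, hN₁, hM₁⟩ := hdir N₁ h₁ M₁ g₁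
      obtain ⟨P₂, hP₂, hN₂, hM₂⟩ := hdir' N₂ h₂ M₂ g₂
      exact ⟨P₁ ⊔ P₂, ⟨P₁, hP₁, P₂, hP₂, rfl⟩, sup_le_sup hN₁ hN₂, sup_le_sup hM₁ hM₂⟩
    · rintro _ ⟨N₁, h₁, N₂, h₂, rfl⟩
      have hd : Disjoint N₁ N₂ := hdisj.mono (le_sSup h₁) (le_sSup h₂)
      exact ((hart N₁ h₁).prod (hart' N₂ h₂)).of_linearEquiv (prodEquivSup N₁ N₂ hd)
    · rw [hsup]
      haveI := hinj'
      haveI := injective_prod (A := A) ↥(sSup 𝒟) ↥(sSup 𝒟')
      exact injective_of_linearEquiv (prodEquivSup _ _ hdisj)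
  have hle : 𝒟'' ⊆ 𝒟 := hmax.le_of_ge hgood hsub
  have h1 : sSup 𝒟' ≤ sSup 𝒟 :=
    (le_sup_right.trans hsup.ge).trans (sSup_le_sSup hle)
  exact hne' (disjoint_self.mp (hdisj.mono_left h1))

end Groth.Agent.Lib.Seat69.InjCover
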