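import Mathlib
import Groth.Agent.Lib.Seat69InjBasic
import Groth.Agent.Lib.Seat69InjCover
import Groth.Agent.S0299
import Groth.Agent.S0300
import Groth.Agent.S0302
import Groth.Agent.S0305
import Groth.Agent.S0306
import Groth.Agent.S0307
import Groth.Agent.S0311
import Groth.Agent.S0312
import Groth.Agent.S11661
import Groth.Agent.S8925

/-!
# Seat69: base change of injective modules along flat maps with "unramified" primes

`A → B` flat, Noetherian, with `p B_q = q B_q` for every prime `q` of `B` over `p`.  Then `B ⊗ I`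
is injective over `B` for every injective `A`-module `I`.
-/

set_option linter.style.haveILetI false

namespace Groth.Agent.Lib.Seat69.InjBase

open TensorProduct

universe u

section General

variable {R : Type*} [CommRing R] (S : Submonoid R) {M M' : Type*} [AddCommGroup M] [Module R M]
  [AddCommGroup M'] [Module R M']

/-- a localization map is bijective when the multiplicative set already acts bijectively -/
theorem bijective_of_isLocalizedModule (f : M →ₗ[R] M') [IsLocalizedModule S f]
    (h : ∀ s ∈ S, Function.Bijective (fun m : M => s • m)) : Function.Bijective f := by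
  constructor
  · rw [injective_iff_map_eq_zero]
    intro x hx
    obtain ⟨s, hs⟩ := (IsLocalizedModule.eq_zero_iff S f).mp hx
    have hs' : (s : R) • x = 0 := hs
    exact (h s.1 s.2).1 (by simpa using hs')
  · intro y
    obtain ⟨⟨x, s⟩, hxs⟩ := IsLocalizedModule.surj S f y
    obtain ⟨x', hx'⟩ := (h s.1 s.2).2 x
    refine ⟨x', ?_⟩
    have hx'' : (s : R) • x' = x := hx'
    have hxs' : (s : R) • y = f x := hxs
    have h1 : s • f x' = s • y := by
      show (s : R) • f x' = (s : R) • y
      rw [← map_smul, hx'', hxs']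
    exact IsLocalizedModule.smul_injective f s h1

end General

section Local

variable (Ap : Type u) [CommRing Ap] [IsLocalRing Ap] [IsNoetherianRing Ap]
  (D : Type u) [CommRing D] [IsLocalRing D] [IsNoetherianRing D] [Algebra Ap D] [Module.Flat Ap D]
  (Ep : Type u) [AddCommGroup Ep] [Module Ap Ep]

/-- the local case: either the fibre over the closed point misses `D` (and the tensor product
vanishes), or `D` is "unramified" over `Ap` and the prior base change theorem applies -/
theorem injective_tensor_local (g : IsLocalRing.ResidueField Ap →ₗ[Ap] Ep)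
    (hg : InjHull.IsInjectiveHull g)
    (hcase : (∀ a ∈ IsLocalRing.maximalIdeal Ap, ¬ IsUnit (algebraMap Ap D a)) →
      IsLocalRing.maximalIdeal D ≤ (IsLocalRing.maximalIdeal Ap).map (algebraMap Ap D)) :
    Module.Injective D (D ⊗[Ap] Ep) := by
  by_cases hloc : ∀ a ∈ IsLocalRing.maximalIdeal Ap, ¬ IsUnit (algebraMap Ap D a)
  · haveI : IsLocalHom (algebraMap Ap D) := by
      refine ⟨fun a ha => ?_⟩
      by_contra hna
      exact hloc a ((IsLocalRing.mem_maximalIdeal a).mpr hna) ha
    have hm : (IsLocalRing.maximalIdeal Ap).map (algebraMap Ap D) = IsLocalRing.maximalIdeal D := by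
      refine le_antisymm ?_ (hcase hloc)
      rw [Ideal.map_le_iff_le_comap]
      intro a ha
      exact (IsLocalRing.mem_maximalIdeal _).mpr (hloc a ha)
    obtain ⟨g', hg'⟩ := Groth.Agent.S0312.result Ap D hm Ep g hg
    exact hg'.isInjective
  · push Not at hloc
    obtain ⟨a, ha, hau⟩ := hloc
    have htors := Groth.Agent.S0311.result Ap Ep g hg
    haveI : Subsingleton (D ⊗[Ap] Ep) := by
      refine ⟨fun x y => ?_⟩
      suffices h : ∀ z : D ⊗[Ap] Ep, z = 0 by rw [h x, h y]
      intro z
      induction z using TensorProduct.induction_on with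
      | zero => rfl
      | tmul d e =>
        obtain ⟨n, hn⟩ := htors e
        have h1 : a ^ n • e = 0 := hn _ (Ideal.pow_mem_pow ha n)
        obtain ⟨v, hv⟩ := hau.pow n
        have h2 : d = (a ^ n) • (d * ↑v⁻¹) := by
          rw [Algebra.smul_def, map_pow, ← hv, mul_comm, mul_assoc, Units.inv_mul, mul_one]
        rw [h2, TensorProduct.smul_tmul, h1, tmul_zero]
      | add x y hx hy => rw [hx, hy, add_zero]
    exact Groth.Agent.Lib.Seat69.InjCover.injective_of_subsingleton _

end Local

section SemiLocal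

variable (A : Type u) [CommRing A]
  (Ap : Type u) [CommRing Ap] [IsLocalRing Ap] [IsNoetherianRing Ap] [Algebra A Ap]
  (Bp : Type u) [CommRing Bp] [IsNoetherianRing Bp] [Algebra A Bp] [Algebra Ap Bp]
  [IsScalarTower A Ap Bp] [Module.Flat Ap Bp]
  (E : Type u) [AddCommGroup E] [Module A E]
  (Ep : Type u) [AddCommGroup Ep] [Module A Ep] [Module Ap Ep] [IsScalarTower A Ap Ep]

/-- base change of the injective hull of the residue field of a local ring `Ap` to a flat
Noetherian `Ap`-algebra `Bp` all of whose maximal ideals over the closed point are "unramified" -/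
theorem injective_tensor_semilocal (loc : E →ₗ[A] Ep) (hloc : IsBaseChange Ap loc)
    (g : IsLocalRing.ResidueField Ap →ₗ[Ap] Ep) (hg : InjHull.IsInjectiveHull g)
    (H : ∀ (Q : Ideal Bp), Q.IsMaximal →
      (∀ a ∈ IsLocalRing.maximalIdeal Ap, algebraMap Ap Bp a ∈ Q) →
      ∀ y ∈ Q, ∃ t : Bp, t ∉ Q ∧
        t * y ∈ (IsLocalRing.maximalIdeal Ap).map (algebraMap Ap Bp)) :
    Module.Injective Bp (Bp ⊗[A] E) := by
  refine Module.injective_of_localization_maximal'
    (fun (Q : Ideal Bp) [Q.IsMaximal] => Localization.AtPrime Q)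
    (fun (Q : Ideal Bp) [Q.IsMaximal] => (Localization.AtPrime Q) ⊗[A] E)
    (fun (Q : Ideal Bp) [Q.IsMaximal] =>
      TensorProduct.AlgebraTensorModule.rTensor A E
        (Algebra.linearMap Bp (Localization.AtPrime Q))) ?_
  intro Q hQ
  haveI := hQ
  let D := Localization.AtPrime Q
  haveI : Module.Flat Ap D := inferInstance
  have e1 : D ⊗[A] E ≃ₗ[D] D ⊗[Ap] (Ap ⊗[A] E) :=
    (TensorProduct.AlgebraTensorModule.cancelBaseChange A Ap D D E).symm
  have e2 : D ⊗[Ap] (Ap ⊗[A] E) ≃ₗ[D] D ⊗[Ap] Ep :=
    TensorProduct.AlgebraTensorModule.congr (LinearEquiv.refl D D) hloc.equiv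
  have hinj : Module.Injective D (D ⊗[Ap] Ep) := by
    refine injective_tensor_local Ap D Ep g hg ?_
    intro hnu
    -- the maximal ideal of `D` is generated by `Q`
    rw [← Localization.AtPrime.map_eq_maximalIdeal (I := Q), Ideal.map_le_iff_le_comap]
    intro y hy
    rw [Ideal.mem_comap]
    have hmQ : ∀ a ∈ IsLocalRing.maximalIdeal Ap, algebraMap Ap Bp a ∈ Q := by
      intro a ha
      by_contra hna
      apply hnu a ha
      rw [IsScalarTower.algebraMap_apply Ap Bp D]
      exact IsLocalization.map_units D (⟨algebraMap Ap Bp a, hna⟩ : Q.primeCompl)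
    obtain ⟨t, htQ, hty⟩ := H Q hQ hmQ y hy
    have htu : IsUnit (algebraMap Bp D t) :=
      IsLocalization.map_units D (⟨t, htQ⟩ : Q.primeCompl)
    have h3 : algebraMap Bp D (t * y) ∈
        (IsLocalRing.maximalIdeal Ap).map (algebraMap Ap D) := by
      have h4 := Ideal.mem_map_of_mem (algebraMap Bp D) hty
      rw [Ideal.map_map, ← IsScalarTower.algebraMap_eq] at h4
      exact h4
    rw [map_mul] at h3
    obtain ⟨v, hv⟩ := htu
    have h5 : algebraMap Bp D y = ↑v⁻¹ * (algebraMap Bp D t * algebraMap Bp D y) := by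
      rw [← hv, ← mul_assoc, Units.inv_mul, one_mul]
    rw [h5]
    exact Ideal.mul_mem_left _ _ h3
  exact Groth.Agent.Lib.Seat69.InjBasic.injective_of_linearEquiv (e1.trans e2).symm

end SemiLocal

section Hull

variable {R : Type u} [CommRing R] {M M' E : Type u} [AddCommGroup M] [Module R M]
  [AddCommGroup M'] [Module R M'] [AddCommGroup E] [Module R E]

/-- precomposing an injective hull with an isomorphism -/
theorem isInjectiveHull_comp_equiv (f : M →ₗ[R] E) (hf : InjHull.IsInjectiveHull f)
    (e : M' ≃ₗ[R] M) : InjHull.IsInjectiveHull (f ∘ₗ e.toLinearMap) := by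
  refine ⟨⟨hf.injective.comp e.injective, ?_⟩, hf.isInjective⟩
  intro N hN
  have h1 : LinearMap.range (f ∘ₗ e.toLinearMap) = LinearMap.range f := by
    rw [LinearMap.range_comp, LinearEquiv.range, Submodule.map_top]
  rw [h1]
  exact hf.essential N hN

end Hull

section Core

variable (A B : Type u) [CommRing A] [CommRing B] [Algebra A B] [IsNoetherianRing A]
  [IsNoetherianRing B] [Module.Flat A B]

/-- base change of the injective hull of `A ⧸ p` -/
theorem injective_tensor_hull
    (h : ∀ q : PrimeSpectrum B, Ideal.map (algebraMap B (Localization.AtPrime q.asIdeal))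
      ((q.asIdeal.comap (algebraMap A B)).map (algebraMap A B)) =
        IsLocalRing.maximalIdeal (Localization.AtPrime q.asIdeal))
    (p : Ideal A) [p.IsPrime] (E : Type u) [AddCommGroup E] [Module A E]
    (f : (A ⧸ p) →ₗ[A] E) (hf : InjHull.IsInjectiveHull f) :
    Module.Injective B (B ⊗[A] E) := by
  classical
  let S : Submonoid A := p.primeCompl
  let Ap := Localization.AtPrime p
  let SB : Submonoid B := Algebra.algebraMapSubmonoid B S
  let Bp := Localization SB
  have hdisj : Disjoint (p : Set A) S := by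
    rw [Set.disjoint_left]
    intro a ha hS
    exact hS ha
  obtain ⟨-, h2⟩ := Groth.Agent.S11661.result A S p E f hf
  obtain ⟨hbij, g, hg⟩ := h2 hdisj
  let Ep := LocalizedModule S E
  let loc : E →ₗ[A] Ep := LocalizedModule.mkLinearMap S E
  have hloc : IsBaseChange Ap loc := IsLocalizedModule.isBaseChange S Ap loc
  -- the hull over `Ap`
  have heq : p.map (algebraMap A Ap) = IsLocalRing.maximalIdeal Ap :=
    Localization.AtPrime.map_eq_maximalIdeal
  let e : (Ap ⧸ IsLocalRing.maximalIdeal Ap) ≃ₗ[Ap] (Ap ⧸ p.map (algebraMap A Ap)) :=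
    Submodule.quotEquivOfEq _ _ heq.symm
  let g' : IsLocalRing.ResidueField Ap →ₗ[Ap] Ep := g ∘ₗ e.toLinearMap
  have hg' : InjHull.IsInjectiveHull g' := isInjectiveHull_comp_equiv g hg e
  -- the unramifiedness hypothesis
  have H : ∀ (Q : Ideal Bp), Q.IsMaximal →
      (∀ a ∈ IsLocalRing.maximalIdeal Ap, algebraMap Ap Bp a ∈ Q) →
      ∀ y ∈ Q, ∃ t : Bp, t ∉ Q ∧
        t * y ∈ (IsLocalRing.maximalIdeal Ap).map (algebraMap Ap Bp) := by
    intro Q hQ _ y hy
    haveI := hQ
    obtain ⟨x, s, rfl⟩ := IsLocalization.exists_mk'_eq SB y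
    let q : Ideal B := Q.comap (algebraMap B Bp)
    haveI : q.IsPrime := Ideal.comap_isPrime _ _
    have hxq : x ∈ q := by
      show algebraMap B Bp x ∈ Q
      rw [← IsLocalization.mk'_spec Bp x s]
      exact Ideal.mul_mem_right _ _ hy
    have hstar := h ⟨q, inferInstance⟩
    have h1 : algebraMap B (Localization.AtPrime q) x ∈
        IsLocalRing.maximalIdeal (Localization.AtPrime q) := by
      rw [← Localization.AtPrime.map_eq_maximalIdeal (I := q)]
      exact Ideal.mem_map_of_mem _ hxq
    rw [← hstar] at h1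
    obtain ⟨t₀, ht₀, ht₀x⟩ :=
      (IsLocalization.algebraMap_mem_map_algebraMap_iff q.primeCompl _ _ _).mp h1
    -- `q ∩ A ⊆ p`
    have hqp : q.comap (algebraMap A B) ≤ p := by
      intro a ha
      by_contra hap
      have h3 : algebraMap B Bp (algebraMap A B a) ∈ Q := ha
      have h4 : IsUnit (algebraMap B Bp (algebraMap A B a)) :=
        IsLocalization.map_units Bp (⟨algebraMap A B a, ⟨a, hap, rfl⟩⟩ : SB)
      exact hQ.ne_top (Ideal.eq_top_of_isUnit_mem _ h3 h4)
    refine ⟨algebraMap B Bp t₀ * algebraMap B Bp s, ?_, ?_⟩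
    · intro hmem
      rcases (Ideal.IsPrime.mem_or_mem inferInstance hmem) with h5 | h5
      · exact ht₀ h5
      · exact hQ.ne_top (Ideal.eq_top_of_isUnit_mem _ h5 (IsLocalization.map_units Bp s))
    · have h6 : algebraMap B Bp t₀ * algebraMap B Bp s * IsLocalization.mk' Bp x s =
          algebraMap B Bp (t₀ * x) := by
        rw [map_mul, mul_assoc, mul_comm (algebraMap B Bp s), IsLocalization.mk'_spec]
      rw [h6]
      have h7 : (q.comap (algebraMap A B)).map (algebraMap A B) ≤ p.map (algebraMap A B) :=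
        Ideal.map_mono hqp
      have h8 := Ideal.mem_map_of_mem (algebraMap B Bp) (h7 ht₀x)
      rw [Ideal.map_map, ← IsScalarTower.algebraMap_eq, IsScalarTower.algebraMap_eq A Ap Bp,
        ← Ideal.map_map, heq] at h8
      exact h8
  have hT₁ : Module.Injective Bp (Bp ⊗[A] E) :=
    injective_tensor_semilocal A Ap Bp E Ep loc hloc g' hg' H
  -- back to `B`
  haveI : Module.Flat B Bp := IsLocalization.flat Bp SB
  have hT₁B : Module.Injective B (Bp ⊗[A] E) := Groth.Agent.S8925.result B Bp (Bp ⊗[A] E)
  let φ : B ⊗[A] E →ₗ[B] Bp ⊗[A] E :=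
    TensorProduct.AlgebraTensorModule.rTensor A E (Algebra.linearMap B Bp)
  haveI : IsLocalizedModule SB φ := inferInstance
  have hunits : ∀ s' ∈ SB, Function.Bijective (fun m : B ⊗[A] E => s' • m) := by
    rintro s' ⟨s₀, hs₀, rfl⟩
    -- `s₀` acts bijectively on `E`
    have hu : IsUnit (algebraMap A (Module.End A Ep) s₀) :=
      IsLocalizedModule.map_units loc (⟨s₀, hs₀⟩ : S)
    have hbijEp : Function.Bijective (fun x : Ep => s₀ • x) :=
      (Module.End.isUnit_iff _).mp hu
    have hbijE : Function.Bijective (fun x : E => s₀ • x) := by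
      constructor
      · intro x y hxy
        apply hbij.1
        apply hbijEp.1
        show s₀ • loc x = s₀ • loc y
        rw [← map_smul, ← map_smul]
        exact congrArg loc hxy
      · intro x
        obtain ⟨z, hz⟩ := hbijEp.2 (loc x)
        obtain ⟨w, rfl⟩ := hbij.2 z
        refine ⟨w, hbij.1 ?_⟩
        show loc (s₀ • w) = loc x
        rw [map_smul]
        exact hz
    let ε : E ≃ₗ[A] E := LinearEquiv.ofBijective (DistribSMul.toLinearMap A E s₀) hbijE
    have hfun : (fun m : B ⊗[A] E => algebraMap A B s₀ • m) = ⇑(LinearEquiv.lTensor B ε) := by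
      funext m
      induction m using TensorProduct.induction_on with
      | zero => simp
      | tmul b x =>
        rw [LinearEquiv.lTensor_tmul, TensorProduct.smul_tmul', algebraMap_smul,
          TensorProduct.smul_tmul]
        rfl
      | add m n hm hn =>
        rw [smul_add, hm, hn, map_add]
    rw [hfun]
    exact (LinearEquiv.lTensor B ε).bijective
  have hφ : Function.Bijective φ := bijective_of_isLocalizedModule SB φ hunits
  let Φ : (B ⊗[A] E) ≃ₗ[B] (Bp ⊗[A] E) := LinearEquiv.ofBijective φ hφ
  exact Groth.Agent.Lib.Seat69.InjBasic.injective_of_linearEquiv Φ.symm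

end Core

section Main

variable (A B : Type u) [CommRing A] [CommRing B] [Algebra A B] [IsNoetherianRing A]
  [IsNoetherianRing B] [Module.Flat A B]

/-- base change of injective modules along a flat map with "unramified" primes -/
theorem injective_tensor
    (h : ∀ q : PrimeSpectrum B, Ideal.map (algebraMap B (Localization.AtPrime q.asIdeal))
      ((q.asIdeal.comap (algebraMap A B)).map (algebraMap A B)) =
        IsLocalRing.maximalIdeal (Localization.AtPrime q.asIdeal))
    (I : Type u) [AddCommGroup I] [Module A I] [hI : Module.Injective A I] :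
    Module.Injective B (B ⊗[A] I) := by
  classical
  obtain ⟨ι, Es, hint, hEs⟩ := Groth.Agent.S0307.result A I hI
  have hsummand : ∀ i, Module.Injective B (B ⊗[A] ↥(Es i)) := by
    intro i
    obtain ⟨p, hp, g, hg⟩ := Groth.Agent.S0306.result A ↥(Es i) (hEs i).1 (hEs i).2
    haveI := hp
    obtain ⟨E', _, _, f', hf'⟩ := Groth.Agent.S0299.result A (A ⧸ p)
    obtain ⟨-, g', hg'⟩ := Groth.Agent.S0305.result A p E' f' hf'
    obtain ⟨e, -⟩ := Groth.Agent.S0302.result A p.ResidueField ↥(Es i) E' g hg g' hg'
    haveI : Module.Injective B (B ⊗[A] E') := injective_tensor_hull A B h p E' f' hf'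
    exact Groth.Agent.Lib.Seat69.InjBasic.injective_of_linearEquiv
      (TensorProduct.AlgebraTensorModule.congr (LinearEquiv.refl B B) e).symm
  haveI hsum : Module.Injective B (DirectSum ι fun i => B ⊗[A] ↥(Es i)) :=
    Groth.Agent.S0300.result B (fun i => B ⊗[A] ↥(Es i)) hsummand
  let e1 : (B ⊗[A] (DirectSum ι fun i => ↥(Es i))) ≃ₗ[B] DirectSum ι fun i => B ⊗[A] ↥(Es i) :=
    TensorProduct.directSumRight A B B (fun i => ↥(Es i))
  let e0 : (DirectSum ι fun i => ↥(Es i)) ≃ₗ[A] I :=
    LinearEquiv.ofBijective (DirectSum.coeLinearMap Es) hint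
  let e2 : (B ⊗[A] (DirectSum ι fun i => ↥(Es i))) ≃ₗ[B] B ⊗[A] I :=
    TensorProduct.AlgebraTensorModule.congr (LinearEquiv.refl B B) e0
  haveI h3 : Module.Injective B (B ⊗[A] (DirectSum ι fun i => ↥(Es i))) :=
    Groth.Agent.Lib.Seat69.InjBasic.injective_of_linearEquiv
      (M := DirectSum ι fun i => B ⊗[A] ↥(Es i)) e1.symm
  exact Groth.Agent.Lib.Seat69.InjBasic.injective_of_linearEquiv e2

end Main

end Groth.Agent.Lib.Seat69.InjBase
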