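/-
Seat 69: kernel of a surjection onto an algebra with flat truncation.
If `φ : H → B` is a surjective `A`-algebra map with `ker φ ⊆ I H` and `B/I^n B` is flat over
`A/I^n`, then `ker φ ⊆ I^n H`.
-/
import Mathlib

set_option autoImplicit false
set_option linter.style.haveILetI false

namespace Groth.Agent.Lib.Seat69.KerFlat

variable {A H B : Type*} [CommRing A] [CommRing H] [CommRing B] [Algebra A H] [Algebra A B]

theorem exists_finsupp_of_mem_map (I : Ideal A) {x : H} (hx : x ∈ I.map (algebraMap A H)) :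
    ∃ (a : H →₀ A), (∀ h, a h ∈ I) ∧ (a.sum fun h c => c • h) = x := by
  have h1 : x ∈ I • (⊤ : Submodule A H) := by
    rw [Ideal.smul_top_eq_map]
    exact hx
  have h2 : (⊤ : Submodule A H) = Submodule.span A (Set.range (id : H → H)) := by simp
  rw [h2, Submodule.mem_ideal_smul_span_iff_exists_sum] at h1
  obtain ⟨a, ha, hsum⟩ := h1
  exact ⟨a, ha, hsum⟩

theorem ker_le_mul_sup (I : Ideal A) (n : ℕ) (φ : H →ₐ[A] B) (hφ : Function.Surjective φ)
    [Module.Flat (A ⧸ I ^ n) (B ⧸ (I ^ n).map (algebraMap A B))]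
    (hK : RingHom.ker (φ : H →+* B) ≤ I.map (algebraMap A H)) :
    RingHom.ker (φ : H →+* B) ≤
      I.map (algebraMap A H) * RingHom.ker (φ : H →+* B) ⊔ (I ^ n).map (algebraMap A H) := by
  classical
  intro x hx
  obtain ⟨a, ha, hsum⟩ := exists_finsupp_of_mem_map I (hK hx)
  have hxsum : ∑ i : a.support, a (i : H) • (i : H) = x := by
    rw [← hsum, Finsupp.sum, Finset.sum_coe_sort a.support (fun h => a h • h)]
  let f : a.support → A ⧸ I ^ n := fun i => Ideal.Quotient.mk _ (a i)
  let m : a.support → B ⧸ (I ^ n).map (algebraMap A B) := fun i => Ideal.Quotient.mk _ (φ i)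
  have hrel : ∑ i, f i • m i = 0 := by
    have h1 : ∀ i : a.support, f i • m i =
        Ideal.Quotient.mk ((I ^ n).map (algebraMap A B)) (φ (a (i : H) • (i : H))) := by
      intro i
      rw [Ideal.Quotient.mk_smul_mk_quotient_map_quotient, map_smul, Algebra.smul_def]
    rw [Finset.sum_congr rfl (fun i _ => h1 i), ← map_sum, ← map_sum, hxsum]
    have : φ x = 0 := hx
    rw [this, map_zero]
  have htr := Module.Flat.isTrivialRelation_of_sum_smul_eq_zero (R := A ⧸ I ^ n)
    (M := B ⧸ (I ^ n).map (algebraMap A B)) (f := f) (x := m) hrel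
  obtain ⟨k, abar, y, hy, habar⟩ := htr
  choose b hb using fun i j => Ideal.Quotient.mk_surjective (abar i j)
  have hysurj : ∀ j, ∃ q : H, Ideal.Quotient.mk ((I ^ n).map (algebraMap A B)) (φ q) = y j := by
    intro j
    obtain ⟨z, hz⟩ := Ideal.Quotient.mk_surjective (y j)
    obtain ⟨q, rfl⟩ := hφ z
    exact ⟨q, hz⟩
  choose q hq using hysurj
  have h1 : ∀ i : a.support, φ ((i : H) - ∑ j, b i j • q j) ∈ (I ^ n).map (algebraMap A B) := by
    intro i
    rw [← Ideal.Quotient.eq_zero_iff_mem, map_sub, map_sub, sub_eq_zero, map_sum, map_sum]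
    change m i = _
    rw [hy i]
    refine Finset.sum_congr rfl (fun j _ => ?_)
    rw [← hb i j, ← hq j, Ideal.Quotient.mk_smul_mk_quotient_map_quotient, map_smul,
      Algebra.smul_def]
  have hmap : (I ^ n).map (algebraMap A B) =
      ((I ^ n).map (algebraMap A H)).map (φ : H →+* B) := by
    rw [Ideal.map_map]
    congr 1
    exact (φ.comp_algebraMap).symm
  have h2 : ∀ i : a.support, ∃ t ∈ (I ^ n).map (algebraMap A H),
      ((i : H) - ∑ j, b i j • q j) - t ∈ RingHom.ker (φ : H →+* B) := by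
    intro i
    have := h1 i
    rw [hmap] at this
    obtain ⟨t, ht, hφt⟩ := (Ideal.mem_map_iff_of_surjective (φ : H →+* B) hφ).mp this
    refine ⟨t, ht, ?_⟩
    rw [RingHom.mem_ker, map_sub, sub_eq_zero]
    exact hφt.symm
  choose t ht hkt using h2
  have hc : ∀ j, ∑ i : a.support, a (i : H) * b i j ∈ I ^ n := by
    intro j
    rw [← Ideal.Quotient.eq_zero_iff_mem, map_sum, ← habar j]
    refine Finset.sum_congr rfl (fun i _ => ?_)
    rw [map_mul, hb i j]
  have hdecomp : x = ∑ i : a.support, a (i : H) • (((i : H) - ∑ j, b i j • q j) - t i) +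
      ∑ i : a.support, a (i : H) • t i + ∑ j, (∑ i : a.support, a (i : H) * b i j) • q j := by
    rw [← hxsum]
    simp only [smul_sub, Finset.smul_sum, smul_smul, Finset.sum_sub_distrib, Finset.sum_smul]
    rw [Finset.sum_comm (f := fun (j : Fin k) (i : a.support) => (a (i : H) * b i j) • q j)]
    abel
  rw [hdecomp]
  refine Ideal.add_mem _ (Ideal.add_mem _ ?_ ?_) ?_
  · refine Ideal.mem_sup_left (Ideal.sum_mem _ (fun i _ => ?_))
    rw [Algebra.smul_def]
    exact Ideal.mul_mem_mul (Ideal.mem_map_of_mem _ (ha _)) (hkt i)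
  · refine Ideal.mem_sup_right (Ideal.sum_mem _ (fun i _ => ?_))
    rw [Algebra.smul_def]
    exact Ideal.mul_mem_left _ _ (ht i)
  · refine Ideal.mem_sup_right (Ideal.sum_mem _ (fun j _ => ?_))
    rw [Algebra.smul_def]
    exact Ideal.mul_mem_right _ _ (Ideal.mem_map_of_mem _ (hc j))

omit [CommRing A] [CommRing B] [Algebra A H] [Algebra A B] in
theorem le_of_le_mul_sup (K P J : Ideal H) (n : ℕ) (key : K ≤ P * K ⊔ J) (hP : P ^ n ≤ J) :
    K ≤ J := by
  have hiter : ∀ j : ℕ, K ≤ P ^ j * K ⊔ J := by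
    intro j
    induction j with
    | zero =>
      rw [pow_zero, one_mul]
      exact le_sup_left
    | succ j ih =>
      have h1 : P * (P ^ j * K ⊔ J) ≤ P ^ (j + 1) * K ⊔ J := by
        rw [Ideal.mul_sup]
        refine sup_le ?_ ?_
        · rw [← mul_assoc, ← pow_succ']
          exact le_sup_left
        · exact (Ideal.mul_le_right : P * J ≤ J).trans le_sup_right
      calc K ≤ P * K ⊔ J := key
        _ ≤ P * (P ^ j * K ⊔ J) ⊔ J := sup_le_sup_right (Ideal.mul_mono_right ih) _
        _ ≤ P ^ (j + 1) * K ⊔ J := sup_le h1 le_sup_right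
  have h3 : P ^ n * K ≤ J := (Ideal.mul_le_left : P ^ n * K ≤ P ^ n).trans hP
  exact (hiter n).trans (sup_le h3 le_rfl)

/-- If `φ : H → B` is surjective, `ker φ ⊆ I H` and `B / I^n B` is flat over `A / I^n`, then
`ker φ ⊆ I^n H`. -/
theorem ker_le_pow_of_flat (I : Ideal A) (n : ℕ) (φ : H →ₐ[A] B) (hφ : Function.Surjective φ)
    [Module.Flat (A ⧸ I ^ n) (B ⧸ (I ^ n).map (algebraMap A B))]
    (hK : RingHom.ker (φ : H →+* B) ≤ I.map (algebraMap A H)) :
    RingHom.ker (φ : H →+* B) ≤ (I ^ n).map (algebraMap A H) :=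
  le_of_le_mul_sup _ (I.map (algebraMap A H)) _ n (ker_le_mul_sup I n φ hφ hK)
    (le_of_eq (Ideal.map_pow _ _ _).symm)

end Groth.Agent.Lib.Seat69.KerFlat
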