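import Mathlib
import Groth.Agent.Lib.Seat69Gor1

/-!
# Seat69: duality of lattices in the fraction field with respect to a canonical ideal

`O` a Noetherian domain with fraction field `K`, `ω ⊆ K` with `IsCanon O ↥ω`.

* `div_ne_bot`, `fg_div` : `ω / L` is a lattice when `L` is
* `div_div_cancel` : `ω / (ω / L) = L` for finitely generated nonzero `L`
* `dualIcc` : the order anti-isomorphism `[B, A] ≃o [ω / A, ω / B]ᵒᵈ`
* `length_quot_eq_krullDim` : `length (A / B) = krullDim [B, A]`
* `length_dual` : `length ((ω / B) / (ω / A)) = length (A / B)`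
* `length_add` : `length (A / C) = length (A / B) + length (B / C)`
-/

set_option linter.style.haveILetI false

namespace Groth.Agent.Lib.Seat69.LatDual

open Groth.Agent.Lib.Seat69.CanonRefl Groth.Agent.Lib.Seat69.CanonExt Groth.Agent.Lib.Seat69.Gor1

universe u

section Length

variable {R : Type*} [Ring R] {V : Type*} [AddCommGroup V] [Module R V]

/-- submodules of `A / B` correspond to the interval `[B, A]` -/
def quotIccIso (B A : Submodule R V) (h : B ≤ A) :
    Submodule R (↥A ⧸ Submodule.comap A.subtype B) ≃o Set.Icc B A :=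
  (Submodule.comapMkQRelIso (Submodule.comap A.subtype B)).trans
    { toFun := fun q => ⟨Submodule.map A.subtype q.1, by
        constructor
        · have h1 : B = Submodule.map A.subtype (Submodule.comap A.subtype B) := by
            rw [Submodule.map_comap_subtype, inf_eq_right.mpr h]
          exact h1.le.trans (Submodule.map_mono q.2)
        · exact Submodule.map_subtype_le A q.1⟩
      invFun := fun p => ⟨Submodule.comap A.subtype p.1, Submodule.comap_mono p.2.1⟩
      left_inv := fun q => Subtype.ext (by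
        show Submodule.comap A.subtype (Submodule.map A.subtype q.1) = q.1
        exact Submodule.comap_map_eq_of_injective A.subtype_injective q.1)
      right_inv := fun p => Subtype.ext (by
        show Submodule.map A.subtype (Submodule.comap A.subtype p.1) = p.1
        rw [Submodule.map_comap_subtype, inf_eq_right.mpr p.2.2])
      map_rel_iff' := by
        intro q q'
        show Submodule.map A.subtype q.1 ≤ Submodule.map A.subtype q'.1 ↔ q ≤ q'
        rw [Submodule.map_le_map_iff_of_injective A.subtype_injective]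
        rfl }

theorem length_quot_eq_krullDim (B A : Submodule R V) (h : B ≤ A) :
    (Module.length R (↥A ⧸ Submodule.comap A.subtype B) : WithBot ℕ∞) =
      Order.krullDim (Set.Icc B A) := by
  rw [Module.coe_length, Order.krullDim_eq_of_orderIso (quotIccIso B A h)]

/-- additivity of length along `C ≤ B ≤ A` -/
theorem length_add (C B A : Submodule R V) (hCB : C ≤ B) (hBA : B ≤ A) :
    Module.length R (↥A ⧸ Submodule.comap A.subtype C) =
      Module.length R (↥B ⧸ Submodule.comap B.subtype C) +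
        Module.length R (↥A ⧸ Submodule.comap A.subtype B) := by
  let f : (↥B ⧸ Submodule.comap B.subtype C) →ₗ[R] (↥A ⧸ Submodule.comap A.subtype C) :=
    Submodule.mapQ _ _ (Submodule.inclusion hBA) (by
      intro x hx
      exact hx)
  let g : (↥A ⧸ Submodule.comap A.subtype C) →ₗ[R] (↥A ⧸ Submodule.comap A.subtype B) :=
    Submodule.mapQ _ _ LinearMap.id (by
      intro x hx
      exact hCB hx)
  refine Module.length_eq_add_of_exact f g ?_ ?_ ?_
  · rw [injective_iff_map_eq_zero]
    intro x hx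
    obtain ⟨x, rfl⟩ := Submodule.Quotient.mk_surjective _ x
    rw [Submodule.Quotient.mk_eq_zero]
    have h1 : f (Submodule.Quotient.mk x) = Submodule.Quotient.mk (Submodule.inclusion hBA x) :=
      rfl
    rw [h1, Submodule.Quotient.mk_eq_zero] at hx
    exact hx
  · intro y
    obtain ⟨y, rfl⟩ := Submodule.Quotient.mk_surjective _ y
    exact ⟨Submodule.Quotient.mk y, rfl⟩
  · intro y
    obtain ⟨y, rfl⟩ := Submodule.Quotient.mk_surjective _ y
    have h1 : g (Submodule.Quotient.mk y) = Submodule.Quotient.mk y := rfl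
    rw [h1, Submodule.Quotient.mk_eq_zero]
    constructor
    · intro hy
      have hyB : (y : V) ∈ B := hy
      exact ⟨Submodule.Quotient.mk ⟨y, hyB⟩, rfl⟩
    · rintro ⟨x, hx⟩
      obtain ⟨x, rfl⟩ := Submodule.Quotient.mk_surjective _ x
      have h2 : f (Submodule.Quotient.mk x) = Submodule.Quotient.mk (Submodule.inclusion hBA x) :=
        rfl
      rw [h2, Submodule.Quotient.eq] at hx
      have h3 : ((Submodule.inclusion hBA x - y : ↥A) : V) ∈ C := hx
      have h4 : (y : V) = (x : V) - ((Submodule.inclusion hBA x - y : ↥A) : V) := by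
        simp
      show (y : V) ∈ B
      rw [h4]
      exact B.sub_mem x.2 (hCB h3)

end Length

section Dual

variable {O : Type u} [CommRing O] [IsDomain O] [IsNoetherianRing O] {K : Type u} [Field K]
  [Algebra O K] [IsFractionRing O K]

omit [IsDomain O] [IsNoetherianRing O] [IsFractionRing O K] in
theorem div_anti (ω : Submodule O K) {L L' : Submodule O K} (h : L ≤ L') : ω / L' ≤ ω / L := by
  intro x hx
  rw [Submodule.mem_div_iff_forall_mul_mem] at hx ⊢
  exact fun y hy => hx y (h hy)

omit [IsDomain O] [IsNoetherianRing O] [IsFractionRing O K] in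
theorem le_div_div (ω L : Submodule O K) : L ≤ ω / (ω / L) := by
  intro l hl
  rw [Submodule.mem_div_iff_forall_mul_mem]
  intro y hy
  rw [mul_comm]
  exact Submodule.mem_div_iff_forall_mul_mem.mp hy l hl

omit [IsNoetherianRing O] in
theorem div_ne_bot (ω L : Submodule O K) (hω0 : ω ≠ ⊥) (hLfg : L.FG) : ω / L ≠ ⊥ := by
  obtain ⟨w, hw, hw0⟩ := Submodule.exists_mem_ne_zero_of_ne_bot hω0
  obtain ⟨s, hs, hsL⟩ := FractionalIdeal.isFractional_of_fg (S := nonZeroDivisors O) hLfg
  have hs0 : algebraMap O K s ≠ 0 := by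
    rw [Ne, FaithfulSMul.algebraMap_eq_zero_iff]
    exact nonZeroDivisors.ne_zero hs
  have hmem : algebraMap O K s * w ∈ ω / L := by
    rw [Submodule.mem_div_iff_forall_mul_mem]
    intro y hy
    obtain ⟨r, hr⟩ := hsL y hy
    have h1 : algebraMap O K s * w * y = r • w := by
      rw [Algebra.smul_def, hr, Algebra.smul_def]
      ring
    rw [h1]
    exact ω.smul_mem r hw
  intro h
  rw [h] at hmem
  exact mul_ne_zero hs0 hw0 ((Submodule.mem_bot O).mp hmem)

omit [IsDomain O] [IsFractionRing O K] in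
theorem fg_of_le {L A : Submodule O K} (hAfg : A.FG) (h : L ≤ A) : L.FG := by
  haveI : Module.Finite O ↥A := Module.Finite.iff_fg.mpr hAfg
  haveI : IsNoetherian O ↥A := isNoetherian_of_isNoetherianRing_of_finite O _
  have h1 : (Submodule.comap A.subtype L).FG := IsNoetherian.noetherian _
  have h2 := h1.map A.subtype
  rwa [Submodule.map_comap_subtype, inf_eq_right.mpr h] at h2

theorem fg_div (ω L : Submodule O K) (hωfg : ω.FG) (hLfg : L.FG) (hL0 : L ≠ ⊥) :
    (ω / L).FG := by
  haveI : Module.Finite O ↥ω := Module.Finite.iff_fg.mpr hωfg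
  haveI : Module.Finite O ↥L := Module.Finite.iff_fg.mpr hLfg
  haveI : Module.Finite O (↥L →ₗ[O] ↥ω) := finite_dual ↥L
  have e := LinearEquiv.ofBijective (mulHom L ω) (mulHom_bijective L ω hL0)
  haveI : Module.Finite O ↥(ω / L) := Module.Finite.equiv e.symm
  exact Module.Finite.iff_fg.mp inferInstance

omit [IsNoetherianRing O] in
theorem div_div_cancel (ω : Submodule O K) (hW : IsCanon O ↥ω) (L : Submodule O K)
    (hLfg : L.FG) (hL0 : L ≠ ⊥) : ω / (ω / L) = L := by
  refine le_antisymm ?_ (le_div_div ω L)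
  intro x hx
  haveI hK : NoZeroSMulDivisors O K := Groth.Agent.Lib.Seat69.CanonEnd.nzsd_K
  haveI : NoZeroSMulDivisors O ↥L := Groth.Agent.Lib.Seat69.CanonEnd.nzsd_submodule L
  haveI : Module.Finite O ↥L := Module.Finite.iff_fg.mpr hLfg
  have hω0 : ω ≠ ⊥ := by
    haveI := hW.nontriv
    exact (Submodule.nontrivial_iff_ne_bot).mp inferInstance
  have hD0 : ω / L ≠ ⊥ := div_ne_bot ω L hω0 hLfg
  let E := LinearEquiv.ofBijective (mulHom L ω) (mulHom_bijective L ω hL0)
  let Ψ : (↥L →ₗ[O] ↥ω) →ₗ[O] ↥ω := (mulHom (ω / L) ω ⟨x, hx⟩) ∘ₗ E.symm.toLinearMap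
  obtain ⟨l, hl⟩ := (ev_bijective hW ↥L).2 Ψ
  obtain ⟨y, hy, hy0⟩ := Submodule.exists_mem_ne_zero_of_ne_bot hD0
  have h1 := LinearMap.congr_fun hl (mulHom L ω ⟨y, hy⟩)
  rw [ev_apply] at h1
  have h2 : E.symm (mulHom L ω ⟨y, hy⟩) = ⟨y, hy⟩ := E.symm_apply_apply _
  have h3 : ((Ψ (mulHom L ω ⟨y, hy⟩) : ↥ω) : K) = x * y := by
    show ((mulHom (ω / L) ω ⟨x, hx⟩ (E.symm (mulHom L ω ⟨y, hy⟩)) : ↥ω) : K) = x * y
    rw [h2]
    rfl
  have h4 : ((mulHom L ω ⟨y, hy⟩ l : ↥ω) : K) = y * l := rfl
  have h5 : y * (l : K) = x * y := by rw [← h4, h1, h3]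
  have h6 : x = l := by
    have h7 : y * (l : K) = y * x := by rw [h5, mul_comm]
    exact (mul_left_cancel₀ hy0 h7).symm
  rw [h6]
  exact l.2

omit [IsDomain O] [IsNoetherianRing O] [IsFractionRing O K] in
theorem mem_Icc_div (ω : Submodule O K) {B A L : Submodule O K} (h : L ∈ Set.Icc B A) :
    ω / L ∈ Set.Icc (ω / A) (ω / B) :=
  ⟨div_anti ω h.2, div_anti ω h.1⟩

/-- the order anti-isomorphism `[B, A] ≃o [ω / A, ω / B]ᵒᵈ` -/
noncomputable def dualIcc (ω : Submodule O K) (hW : IsCanon O ↥ω) (hωfg : ω.FG)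
    (B A : Submodule O K) (hBA : B ≤ A) (hAfg : A.FG) (hB0 : B ≠ ⊥) :
    Set.Icc B A ≃o (Set.Icc (ω / A) (ω / B))ᵒᵈ :=
  have hBfg : B.FG := fg_of_le hAfg hBA
  have hA0 : A ≠ ⊥ := ne_bot_of_le_ne_bot hB0 hBA
  have hω0 : ω ≠ ⊥ := by
    haveI := hW.nontriv
    exact (Submodule.nontrivial_iff_ne_bot).mp inferInstance
  have hcB := div_div_cancel ω hW B hBfg hB0
  have hcA := div_div_cancel ω hW A hAfg hA0
  have hc : ∀ L ∈ Set.Icc B A, ω / (ω / L) = L := fun L hL =>
    div_div_cancel ω hW L (fg_of_le hAfg hL.2) (ne_bot_of_le_ne_bot hB0 hL.1)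
  have hc' : ∀ L' ∈ Set.Icc (ω / A) (ω / B), ω / (ω / L') = L' := fun L' hL' =>
    div_div_cancel ω hW L' (fg_of_le (fg_div ω B hωfg hBfg hB0) hL'.2)
      (ne_bot_of_le_ne_bot (div_ne_bot ω A hω0 hAfg) hL'.1)
  { toFun := fun L => OrderDual.toDual ⟨ω / L.1, mem_Icc_div ω L.2⟩
    invFun := fun L' => ⟨ω / (OrderDual.ofDual L').1, by
      have h1 := mem_Icc_div ω (OrderDual.ofDual L').2
      rwa [hcB, hcA] at h1⟩
    left_inv := fun L => Subtype.ext (hc L.1 L.2)
    right_inv := fun L' => by
      show (⟨ω / (ω / (OrderDual.ofDual L').1), _⟩ : Set.Icc (ω / A) (ω / B)) =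
        OrderDual.ofDual L'
      exact Subtype.ext (hc' _ (OrderDual.ofDual L').2)
    map_rel_iff' := by
      intro a b
      show (⟨ω / b.1, _⟩ : Set.Icc (ω / A) (ω / B)) ≤ ⟨ω / a.1, _⟩ ↔ a ≤ b
      rw [Subtype.mk_le_mk]
      constructor
      · intro h
        have h1 := div_anti ω h
        rw [hc a.1 a.2, hc b.1 b.2] at h1
        exact h1
      · intro h
        exact div_anti ω h }

theorem length_dual (ω : Submodule O K) (hW : IsCanon O ↥ω) (hωfg : ω.FG)
    (B A : Submodule O K) (hBA : B ≤ A) (hAfg : A.FG) (hB0 : B ≠ ⊥) :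
    Module.length O (↥(ω / B) ⧸ Submodule.comap (ω / B).subtype (ω / A)) =
      Module.length O (↥A ⧸ Submodule.comap A.subtype B) := by
  apply WithBot.coe_injective
  rw [length_quot_eq_krullDim _ _ (div_anti ω hBA), length_quot_eq_krullDim _ _ hBA,
    Order.krullDim_eq_of_orderIso (dualIcc ω hW hωfg B A hBA hAfg hB0), Order.krullDim_orderDual]

end Dual

end Groth.Agent.Lib.Seat69.LatDual
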