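import Mathlib
import Groth.Agent.Lib.Helper15DvrLen
import Groth.Agent.Lib.Seat69LatDual

/-!
# Seat69: interpolation of lattices

* `length_map_equiv` : `[T Q : T P] = [Q : P]` for a linear equivalence `T`
* `exists_sub_mem_of_isMaximal` : `B = O + 𝔪` for a finite algebra `B` over a local ring with
  algebraically closed residue field
* `exists_covBy` / `exists_length_eq` : `B`-submodules of prescribed colength
-/

set_option linter.style.haveILetI false

namespace Groth.Agent.Lib.Seat69.LatticeIVT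

open Groth.Agent.Lib.Seat69.LatDual

universe u

section Transport

variable {R : Type*} [CommRing R] {V : Type*} [AddCommGroup V] [Module R V]

/-- `[T Q : T P] = [Q : P]` -/
theorem length_map_equiv (T : V ≃ₗ[R] V) (P Q : Submodule R V) :
    Module.length R (↥(Q.map T.toLinearMap) ⧸
        Submodule.comap (Q.map T.toLinearMap).subtype (P.map T.toLinearMap)) =
      Module.length R (↥Q ⧸ Submodule.comap Q.subtype P) := by
  symm
  refine LinearEquiv.length_eq (Submodule.Quotient.equiv _ _ (T.submoduleMap Q) ?_)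
  ext ⟨y, hy⟩
  simp only [Submodule.mem_map, Submodule.mem_comap, Submodule.subtype_apply]
  constructor
  · rintro ⟨⟨x, hxQ⟩, hxP, hxy⟩
    have h1 : T x = y := congrArg Subtype.val hxy
    exact ⟨x, hxP, h1⟩
  · rintro ⟨x, hxP, hxy⟩
    have hxQ : x ∈ Q := by
      obtain ⟨q, hq, hqy⟩ := hy
      have : q = x := T.injective (by rw [LinearEquiv.coe_coe] at hqy hxy; rw [hqy, hxy])
      rwa [← this]
    refine ⟨⟨x, hxQ⟩, hxP, ?_⟩
    apply Subtype.ext
    exact hxy

end Transport

section Residue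

variable {O : Type u} [CommRing O] [IsLocalRing O] [IsAlgClosed (IsLocalRing.ResidueField O)]
  {B : Type u} [CommRing B] [Algebra O B] [Module.Finite O B]

/-- `B = O + 𝔪` for every maximal ideal `𝔪` of a finite `O`-algebra `B` -/
theorem exists_sub_mem_of_isMaximal (𝔪 : Ideal B) [h𝔪 : 𝔪.IsMaximal] (b : B) :
    ∃ o : O, b - algebraMap O B o ∈ 𝔪 := by
  letI : Field (B ⧸ 𝔪) := Ideal.Quotient.field 𝔪
  haveI : Algebra.IsIntegral O B := Algebra.IsIntegral.of_finite O B
  have hcomap : (𝔪.comap (algebraMap O B)).IsMaximal :=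
    Ideal.isMaximal_comap_of_isIntegral_of_isMaximal 𝔪
  have hker : 𝔪.comap (algebraMap O B) = IsLocalRing.maximalIdeal O :=
    IsLocalRing.eq_maximalIdeal hcomap
  let φ : O →+* (B ⧸ 𝔪) := (Ideal.Quotient.mk 𝔪).comp (algebraMap O B)
  have hφ : ∀ a ∈ IsLocalRing.maximalIdeal O, φ a = 0 := by
    intro a ha
    rw [← hker] at ha
    exact Ideal.Quotient.eq_zero_iff_mem.mpr ha
  let ψ : IsLocalRing.ResidueField O →+* (B ⧸ 𝔪) := Ideal.Quotient.lift _ φ hφ
  letI : Algebra (IsLocalRing.ResidueField O) (B ⧸ 𝔪) := ψ.toAlgebra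
  haveI : IsScalarTower O (IsLocalRing.ResidueField O) (B ⧸ 𝔪) :=
    IsScalarTower.of_algebraMap_eq (fun a => rfl)
  haveI : Module.Finite O (B ⧸ 𝔪) := Module.Finite.of_surjective
    (Ideal.Quotient.mkₐ O 𝔪).toLinearMap (Ideal.Quotient.mkₐ_surjective O 𝔪)
  haveI : Module.Finite (IsLocalRing.ResidueField O) (B ⧸ 𝔪) :=
    Module.Finite.of_restrictScalars_finite O _ _
  haveI : Algebra.IsIntegral (IsLocalRing.ResidueField O) (B ⧸ 𝔪) :=
    Algebra.IsIntegral.of_finite _ _
  obtain ⟨r, hr⟩ := (IsAlgClosed.algebraMap_bijective_of_isIntegral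
    (k := IsLocalRing.ResidueField O) (K := B ⧸ 𝔪)).2 (Ideal.Quotient.mk 𝔪 b)
  obtain ⟨o, rfl⟩ := Ideal.Quotient.mk_surjective r
  refine ⟨o, ?_⟩
  rw [← Ideal.Quotient.eq_zero_iff_mem, map_sub, sub_eq_zero]
  exact hr.symm

end Residue

section Cover

variable {O : Type u} [CommRing O] [IsLocalRing O] [IsAlgClosed (IsLocalRing.ResidueField O)]
  {B : Type u} [CommRing B] [Algebra O B] [Module.Finite O B] [IsNoetherianRing B]
  {V : Type u} [AddCommGroup V] [Module O V] [Module B V] [IsScalarTower O B V]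

omit [IsLocalRing O] [IsAlgClosed (IsLocalRing.ResidueField O)] [Algebra O B] [Module.Finite O B]
  [Module O V] [IsScalarTower O B V] in
theorem fg_of_le' {P Q : Submodule B V} (hQ : Q.FG) (h : P ≤ Q) : P.FG := by
  haveI : Module.Finite B ↥Q := Module.Finite.iff_fg.mpr hQ
  haveI : IsNoetherian B ↥Q := isNoetherian_of_isNoetherianRing_of_finite B _
  have h1 : (Submodule.comap Q.subtype P).FG := IsNoetherian.noetherian _
  have h2 := h1.map Q.subtype
  rwa [Submodule.map_comap_subtype, inf_eq_right.mpr h] at h2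

omit [IsNoetherianRing B] in
/-- below a finitely generated `B`-submodule `Λ > P₀` there is a `B`-submodule `Λ₁ ≥ P₀` covered
by `Λ` as an `O`-submodule -/
theorem exists_covBy (P₀ Λ : Submodule B V) (hΛ : Λ.FG) (hlt : P₀ < Λ) :
    ∃ Λ₁ : Submodule B V, P₀ ≤ Λ₁ ∧ Λ₁ ≤ Λ ∧
      Λ₁.restrictScalars O ⋖ Λ.restrictScalars O := by
  haveI : Module.Finite B ↥Λ := Module.Finite.iff_fg.mpr hΛ
  have hne : Submodule.comap Λ.subtype P₀ ≠ ⊤ := by
    intro h
    apply hlt.not_ge
    intro x hx
    have : (⟨x, hx⟩ : ↥Λ) ∈ Submodule.comap Λ.subtype P₀ := by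
      rw [h]
      exact Submodule.mem_top
    exact this
  obtain ⟨N, hN, hle⟩ := (eq_top_or_exists_le_coatom (Submodule.comap Λ.subtype P₀)).resolve_left hne
  have hΛ₁le : N.map Λ.subtype ≤ Λ := Submodule.map_subtype_le Λ N
  have hmem : ∀ x (hx : x ∈ Λ), x ∈ N.map Λ.subtype ↔ (⟨x, hx⟩ : ↥Λ) ∈ N := by
    intro x hx
    constructor
    · rintro ⟨y, hy, rfl⟩
      exact hy
    · intro h
      exact ⟨⟨x, hx⟩, h, rfl⟩
  have hP₀ : P₀ ≤ N.map Λ.subtype := by
    intro x hx
    have hxΛ : x ∈ Λ := hlt.le hx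
    rw [hmem x hxΛ]
    exact hle hx
  refine ⟨N.map Λ.subtype, hP₀, hΛ₁le, ?_⟩
  -- the annihilator of the simple quotient is a maximal ideal
  haveI : IsSimpleModule B (↥Λ ⧸ N) := isSimpleModule_iff_isCoatom.mpr hN
  have hmax : (Module.annihilator B (↥Λ ⧸ N)).IsMaximal := IsSimpleModule.annihilator_isMaximal
  have hann : ∀ μ ∈ Module.annihilator B (↥Λ ⧸ N), ∀ x (hx : x ∈ Λ), μ • x ∈ N.map Λ.subtype := by
    intro μ hμ x hx
    have h1 := Module.mem_annihilator.mp hμ (Submodule.Quotient.mk ⟨x, hx⟩)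
    rw [← Submodule.Quotient.mk_smul, Submodule.Quotient.mk_eq_zero] at h1
    exact ⟨_, h1, rfl⟩
  have hlt' : N.map Λ.subtype < Λ := by
    refine lt_of_le_of_ne hΛ₁le ?_
    intro h
    apply hN.1
    rw [eq_top_iff]
    rintro ⟨x, hx⟩ -
    rw [← hmem x hx, h]
    exact hx
  refine ⟨?_, ?_⟩
  · exact hlt'
  · intro W hW1 hW2
    -- `W` is stable under `B`
    have hWstab : ∀ (b : B) (w : V), w ∈ W → b • w ∈ W := by
      intro b w hw
      obtain ⟨o, ho⟩ := exists_sub_mem_of_isMaximal (O := O) (Module.annihilator B (↥Λ ⧸ N)) b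
      have hwΛ : w ∈ Λ := hW2.le hw
      have h1 := hann _ ho w hwΛ
      have h2 : b • w = o • w + (b - algebraMap O B o) • w := by
        rw [sub_smul, algebraMap_smul]
        abel
      rw [h2]
      exact W.add_mem (W.smul_mem o hw) (hW1.le h1)
    let W' : Submodule B V :=
      { carrier := W
        add_mem' := W.add_mem
        zero_mem' := W.zero_mem
        smul_mem' := fun b w hw => hWstab b w hw }
    have hW'1 : N ≤ Submodule.comap Λ.subtype W' := by
      intro y hy
      exact hW1.le ⟨y, hy, rfl⟩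
    have hcases := hN.2 (Submodule.comap Λ.subtype W')
    by_cases hEq : Submodule.comap Λ.subtype W' = ⊤
    · apply hW2.not_ge
      intro x hx
      have : (⟨x, hx⟩ : ↥Λ) ∈ Submodule.comap Λ.subtype W' := by
        rw [hEq]
        exact Submodule.mem_top
      exact this
    · have hEq' : ¬ N < Submodule.comap Λ.subtype W' := fun h => hEq (hcases h)
      have hEqN : Submodule.comap Λ.subtype W' = N := by
        by_contra hne'
        exact hEq' (lt_of_le_of_ne hW'1 (Ne.symm hne'))
      apply hW1.not_ge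
      intro x hx
      have hxΛ : x ∈ Λ := hW2.le hx
      have : (⟨x, hxΛ⟩ : ↥Λ) ∈ Submodule.comap Λ.subtype W' := hx
      rw [hEqN] at this
      exact (hmem x hxΛ).mpr this

/-- relative `O`-length of `B`-submodules -/
noncomputable abbrev relLen (O : Type u) [CommRing O] {B : Type u} [CommRing B] [Algebra O B]
    {V : Type u} [AddCommGroup V] [Module O V] [Module B V] [IsScalarTower O B V]
    (P Λ : Submodule B V) : ℕ∞ :=
  Module.length O (↥(Λ.restrictScalars O) ⧸
    Submodule.comap (Λ.restrictScalars O).subtype (P.restrictScalars O))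

/-- `B`-submodules of every intermediate colength -/
theorem exists_length_eq (P₀ : Submodule B V) : ∀ (m : ℕ) (Λ : Submodule B V), Λ.FG → P₀ ≤ Λ →
    relLen O P₀ Λ = m → ∀ j ≤ m, ∃ Λ' : Submodule B V, P₀ ≤ Λ' ∧ Λ' ≤ Λ ∧ relLen O P₀ Λ' = j := by
  intro m
  induction m with
  | zero =>
    intro Λ _ hle hlen j hj
    have hj0 : j = 0 := Nat.le_zero.mp hj
    subst hj0
    exact ⟨Λ, hle, le_rfl, hlen⟩
  | succ m ih =>
    intro Λ hΛ hle hlen j hj
    by_cases hjm : j = m + 1
    · subst hjm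
      exact ⟨Λ, hle, le_rfl, hlen⟩
    have hjm' : j ≤ m := by omega
    have hlt : P₀ < Λ := by
      refine lt_of_le_of_ne hle ?_
      rintro rfl
      have h0 : relLen O P₀ P₀ = 0 := by
        rw [relLen, Module.length_eq_zero_iff]
        have : Submodule.comap (P₀.restrictScalars O).subtype (P₀.restrictScalars O) = ⊤ := by
          rw [eq_top_iff]
          rintro ⟨x, hx⟩ -
          exact hx
        rw [this]
        infer_instance
      rw [h0] at hlen
      exact absurd hlen (by exact_mod_cast (Nat.succ_ne_zero m).symm)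
    obtain ⟨Λ₁, h1, h2, hcov⟩ := exists_covBy (O := O) P₀ Λ hΛ hlt
    have hone : Module.length O (↥(Λ.restrictScalars O) ⧸
        Submodule.comap (Λ.restrictScalars O).subtype (Λ₁.restrictScalars O)) = 1 := by
      rw [Module.length_eq_one_iff]
      exact (covBy_iff_quot_is_simple (Submodule.restrictScalars_mono O h2)).mp hcov
    have hadd := length_add (P₀.restrictScalars O) (Λ₁.restrictScalars O) (Λ.restrictScalars O)
      (fun x hx => h1 hx) (fun x hx => h2 hx)
    have hlen' : relLen O P₀ Λ₁ = m := by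
      have h3 : relLen O P₀ Λ₁ + 1 = (m : ℕ∞) + 1 := by
        have h4 : relLen O P₀ Λ = relLen O P₀ Λ₁ + 1 := by
          rw [← hone]
          exact hadd
        rw [← h4, hlen]
        push_cast
        rfl
      exact WithTop.add_right_cancel ENat.one_ne_top h3
    obtain ⟨Λ', h5, h6, h7⟩ := ih Λ₁ (fg_of_le' hΛ h2) h1 hlen' j hjm'
    exact ⟨Λ', h5, h6.trans h2, h7⟩

end Cover

section Extend

variable {O : Type u} [CommRing O] [IsDomain O] {K : Type u} [Field K] [Algebra O K]
  [IsFractionRing O K] {n : ℕ}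

/-- clearing denominators -/
theorem exists_smul_mem_pi_one (v : Fin n → K) : ∃ s : O, s ≠ 0 ∧
    s • v ∈ Submodule.pi Set.univ (fun _ : Fin n => (1 : Submodule O K)) := by
  obtain ⟨s, hs⟩ := IsLocalization.exist_integer_multiples (nonZeroDivisors O)
    (Finset.univ : Finset (Fin n)) v
  refine ⟨s, nonZeroDivisors.coe_ne_zero s, ?_⟩
  rw [Submodule.mem_pi]
  intro i _
  obtain ⟨r, hr⟩ := hs i (Finset.mem_univ i)
  rw [Pi.smul_apply]
  exact Submodule.mem_one.mpr ⟨r, hr⟩

omit [IsDomain O] [IsFractionRing O K] in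
theorem single_mem_pi_one (i : Fin n) :
    (Pi.single i (1 : K) : Fin n → K) ∈
      Submodule.pi Set.univ (fun _ : Fin n => (1 : Submodule O K)) := by
  rw [Submodule.mem_pi]
  intro j _
  by_cases h : j = i
  · subst h
    rw [Pi.single_eq_same]
    exact Submodule.one_le.mp le_rfl
  · rw [Pi.single_eq_of_ne h]
    exact zero_mem _

/-- an isomorphism of lattices extends to a `K`-linear automorphism -/
theorem exists_linearEquiv_extend (L L' : Submodule O (Fin n → K))
    (hL : Submodule.pi Set.univ (fun _ : Fin n => (1 : Submodule O K)) ≤ L)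
    (φ : ↥L ≃ₗ[O] ↥L') :
    ∃ g : (Fin n → K) ≃ₗ[K] (Fin n → K), ∀ l : ↥L, g (l : Fin n → K) = (φ l : Fin n → K) := by
  classical
  haveI hK : NoZeroSMulDivisors O K := Groth.Agent.Lib.Seat69.CanonEnd.nzsd_K
  let e : Fin n → ↥L := fun i => ⟨Pi.single i 1, hL (single_mem_pi_one i)⟩
  let g₀ : (Fin n → K) →ₗ[K] (Fin n → K) :=
    (Pi.basisFun K (Fin n)).constr K (fun i => ((φ (e i) : ↥L') : Fin n → K))
  have hg₀ : ∀ v : Fin n → K, g₀ v = ∑ i, v i • ((φ (e i) : ↥L') : Fin n → K) := by
    intro v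
    rw [Module.Basis.constr_apply_fintype]
    rfl
  have hg₀smul : ∀ (s : O) (v : Fin n → K), g₀ (s • v) = s • g₀ v := by
    intro s v
    rw [← algebraMap_smul K s v, map_smul, algebraMap_smul]
  have hone : ∀ (v : Fin n → K)
      (hv : v ∈ Submodule.pi Set.univ (fun _ : Fin n => (1 : Submodule O K))),
      g₀ v = ((φ ⟨v, hL hv⟩ : ↥L') : Fin n → K) := by
    intro v hv
    rw [Submodule.mem_pi] at hv
    choose r hr using fun i => Submodule.mem_one.mp (hv i (Set.mem_univ i))
    have h1 : (⟨v, hL (Submodule.mem_pi.mpr hv)⟩ : ↥L) = ∑ i, r i • e i := by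
      apply Subtype.ext
      funext j
      rw [Submodule.coe_sum, Finset.sum_apply]
      have h2 : ∀ i, ((r i • e i : ↥L) : Fin n → K) j = if i = j then v j else 0 := by
        intro i
        rw [Submodule.coe_smul, Pi.smul_apply]
        show r i • (Pi.single i (1 : K) : Fin n → K) j = _
        by_cases h : i = j
        · subst h
          rw [Pi.single_eq_same, if_pos rfl, Algebra.smul_def, mul_one, hr]
        · rw [Pi.single_eq_of_ne (Ne.symm h), smul_zero, if_neg h]
      simp only [h2, Finset.sum_ite_eq', Finset.mem_univ, if_true]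
    rw [h1, map_sum, Submodule.coe_sum, hg₀]
    refine Finset.sum_congr rfl fun i _ => ?_
    rw [map_smul, Submodule.coe_smul, ← hr i, algebraMap_smul]
  have hall : ∀ l : ↥L, g₀ (l : Fin n → K) = ((φ l : ↥L') : Fin n → K) := by
    intro l
    obtain ⟨s, hs0, hs⟩ := exists_smul_mem_pi_one (O := O) (l : Fin n → K)
    have h1 := hone _ hs
    have h3 : ((φ ⟨s • (l : Fin n → K), hL hs⟩ : ↥L') : Fin n → K) =
        s • ((φ l : ↥L') : Fin n → K) := by
      have h2 : (⟨s • (l : Fin n → K), hL hs⟩ : ↥L) = s • l := rfl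
      rw [h2, map_smul, Submodule.coe_smul]
    rw [hg₀smul, h3] at h1
    exact smul_right_injective _ hs0 h1
  have hinj : Function.Injective g₀ := by
    rw [injective_iff_map_eq_zero]
    intro v hv
    obtain ⟨s, hs0, hs⟩ := exists_smul_mem_pi_one (O := O) v
    have h1 := hone _ hs
    rw [hg₀smul, hv, smul_zero] at h1
    have h2 : φ ⟨s • v, hL hs⟩ = 0 := Subtype.ext h1.symm
    have h3 : (⟨s • v, hL hs⟩ : ↥L) = 0 := by
      rwa [LinearEquiv.map_eq_zero_iff] at h2
    have h4 : s • v = 0 := congrArg Subtype.val h3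
    rcases smul_eq_zero.mp h4 with h | h
    · exact absurd h hs0
    · exact h
  exact ⟨LinearEquiv.ofInjectiveEndo g₀ hinj, fun l => hall l⟩

end Extend

end Groth.Agent.Lib.Seat69.LatticeIVT
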