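import Mathlib
import Groth.Agent.Lib.Seat69LatticeIVT
import Groth.Agent.Lib.Seat69LatticeBasis
import Groth.Agent.Lib.Seat69GorLattice
import Groth.Agent.Lib.Helper5Conductor

/-!
# Seat69: assembling the lattice of prescribed colength over the conductor

* `exists_equiv_of_lattice` : a `B`-lattice `Λ ⊆ Kⁿ` over a semilocal PID is `T⁻¹(Bⁿ)`
* `mem_smul_one_iff`, `length_pi_one_quot` : `ℓ(Oⁿ / I Oⁿ) = n ℓ(O / I)`
* `key` : `[L : C] = [T L : C] + [Λ : P]` when `T Λ = P`
* `exists_lattice_colength` : the interpolation `M' ≅ L`, `Cⁿ ⊆ M' ⊆ Õⁿ`, `ℓ(M'/Cⁿ) = n ℓ(O/C)`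
-/

set_option linter.style.haveILetI false

namespace Groth.Agent.Lib.Seat69.LatticeAsm

open Groth.Agent.Lib.Seat69.LatDual Groth.Agent.Lib.Seat69.LatticeIVT

universe u

section A6

variable (O : Type u) [CommRing O] [IsLocalRing O] [Infinite (IsLocalRing.ResidueField O)]
  (B : Type u) [CommRing B] [IsDomain B] [IsPrincipalIdealRing B] [Algebra O B]
  [Finite (MaximalSpectrum B)]
  (K : Type u) [Field K] [Algebra B K] [IsFractionRing B K] [Algebra O K] [IsScalarTower O B K]
  (n : ℕ)

/-- a `B`-lattice in `Kⁿ` is the preimage of the standard lattice under an automorphism -/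
theorem exists_equiv_of_lattice (Λ : Submodule B (Fin n → K)) (hfg : (Λ.restrictScalars O).FG)
    (hspan : Submodule.span K (Λ : Set (Fin n → K)) = ⊤) :
    ∃ T : (Fin n → K) ≃ₗ[K] (Fin n → K),
      ∀ v, T v ∈ Submodule.pi Set.univ (fun _ : Fin n => (1 : Submodule B K)) ↔ v ∈ Λ := by
  classical
  obtain ⟨x, hxL, hxli, hxspan⟩ :=
    Groth.Agent.Lib.Seat69.LatticeBasis.exists_basis_in_lattice O B K n (Λ.restrictScalars O)
      hfg hspan
  have hxtop : Submodule.span K (Set.range x) = ⊤ :=
    hxli.span_eq_top_of_card_eq_finrank' (by simp)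
  let bK : Module.Basis (Fin n) K (Fin n → K) := Module.Basis.mk hxli hxtop.ge
  have hbK : ∀ i, bK i = x i := fun i => Module.Basis.mk_apply _ _ i
  refine ⟨bK.equivFun, fun v => ?_⟩
  rw [Submodule.mem_pi]
  constructor
  · intro h
    choose b hb using fun i => Submodule.mem_one.mp (h i (Set.mem_univ i))
    have h1 : v = ∑ i, b i • x i := by
      conv_lhs => rw [← bK.sum_equivFun v]
      refine Finset.sum_congr rfl fun i _ => ?_
      rw [hbK, ← hb i, algebraMap_smul]
    rw [h1]
    exact Submodule.sum_mem _ fun i _ => Submodule.smul_mem _ _ (hxL i)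
  · intro hv i _
    have h1 := hxspan hv
    rw [SetLike.mem_coe, Submodule.mem_span_range_iff_exists_fun] at h1
    obtain ⟨b, rfl⟩ := h1
    have h2 : (∑ j, b j • x j) = bK.equivFun.symm (fun j => algebraMap B K (b j)) := by
      rw [Module.Basis.equivFun_symm_apply]
      refine Finset.sum_congr rfl fun j _ => ?_
      rw [hbK, algebraMap_smul]
    rw [h2, LinearEquiv.apply_symm_apply]
    exact Submodule.mem_one.mpr ⟨b i, rfl⟩

end A6

section A7

variable {O : Type u} [CommRing O] [IsDomain O] {K : Type u} [Field K] [Algebra O K]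
  [IsFractionRing O K]

omit [IsDomain O] [IsFractionRing O K] in
theorem mem_smul_one_iff (I : Ideal O) (x : K) :
    x ∈ I • (1 : Submodule O K) ↔ ∃ a ∈ I, algebraMap O K a = x := by
  constructor
  · intro hx
    refine Submodule.smul_induction_on hx ?_ ?_
    · intro a ha y hy
      obtain ⟨r, rfl⟩ := Submodule.mem_one.mp hy
      refine ⟨a * r, Ideal.mul_mem_right _ _ ha, ?_⟩
      rw [map_mul, Algebra.smul_def]
    · rintro y z ⟨a, ha, rfl⟩ ⟨b, hb, rfl⟩
      exact ⟨a + b, I.add_mem ha hb, map_add _ _ _⟩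
  · rintro ⟨a, ha, rfl⟩
    have h3 : algebraMap O K a = a • (1 : K) := by
      rw [Algebra.smul_def, mul_one]
    rw [h3]
    exact Submodule.smul_mem_smul ha (Submodule.one_le.mp le_rfl)

omit [IsDomain O] in
/-- `ℓ(Oⁿ / I Oⁿ) = n ℓ(O / I)` -/
theorem length_pi_one_quot (n : ℕ) (I : Ideal O) :
    Module.length O (↥(Submodule.pi Set.univ (fun _ : Fin n => (1 : Submodule O K))) ⧸
      Submodule.comap (Submodule.pi Set.univ (fun _ : Fin n => (1 : Submodule O K))).subtype
        (Submodule.pi Set.univ (fun _ : Fin n => I • (1 : Submodule O K)))) =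
      (n : ℕ∞) * Module.length O (O ⧸ I) := by
  classical
  set On : Submodule O (Fin n → K) := Submodule.pi Set.univ (fun _ : Fin n => (1 : Submodule O K))
    with hOn
  let f : (Fin n → O) →ₗ[O] (Fin n → K) := (Algebra.linearMap O K).compLeft (Fin n)
  have hf : ∀ r i, f r i = algebraMap O K (r i) := fun r i => rfl
  have hfmem : ∀ r, f r ∈ On := by
    intro r
    rw [hOn, Submodule.mem_pi]
    intro i _
    exact Submodule.mem_one.mpr ⟨r i, rfl⟩
  let f' : (Fin n → O) →ₗ[O] ↥On := LinearMap.codRestrict On f hfmem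
  have hinj : Function.Injective f' := by
    intro r s hrs
    funext i
    have h1 : f r i = f s i := congrFun (congrArg Subtype.val hrs) i
    rw [hf, hf] at h1
    exact IsFractionRing.injective O K h1
  have hsurj : Function.Surjective f' := by
    rintro ⟨v, hv⟩
    rw [hOn, Submodule.mem_pi] at hv
    choose r hr using fun i => Submodule.mem_one.mp (hv i (Set.mem_univ i))
    refine ⟨r, Subtype.ext ?_⟩
    funext i
    exact hr i
  let E : (Fin n → O) ≃ₗ[O] ↥On := LinearEquiv.ofBijective f' ⟨hinj, hsurj⟩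
  have hmap : (Submodule.pi Set.univ (fun _ : Fin n => I)).map E.toLinearMap =
      Submodule.comap On.subtype
        (Submodule.pi Set.univ (fun _ : Fin n => I • (1 : Submodule O K))) := by
    ext ⟨v, hv⟩
    simp only [Submodule.mem_map, Submodule.mem_comap, Submodule.subtype_apply,
      Submodule.mem_pi]
    constructor
    · rintro ⟨r, hr, hrv⟩ i hi
      have h1 : f r = v := congrArg Subtype.val hrv
      rw [← h1, hf]
      exact (mem_smul_one_iff I _).mpr ⟨r i, hr i hi, rfl⟩
    · intro h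
      choose a ha ha' using fun i => (mem_smul_one_iff I _).mp (h i (Set.mem_univ i))
      refine ⟨a, fun i _ => ha i, Subtype.ext ?_⟩
      funext i
      exact ha' i
  rw [← (Submodule.Quotient.equiv _ _ E hmap).length_eq,
    (Submodule.quotientPi (fun _ : Fin n => I)).length_eq, Module.length_pi]
  simp

end A7

section Key

variable {R : Type*} [CommRing R] {V : Type*} [AddCommGroup V] [Module R V]

/-- `[L : C] = [T L : C] + [Λ : P]` when `T Λ = P` -/
theorem key (T : V ≃ₗ[R] V) (Cn L P Λ : Submodule R V)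
    (hΛ : ∀ v, T v ∈ P ↔ v ∈ Λ) (hPΛ : P ≤ Λ) (hCL : Cn ≤ L) (hLP : L ≤ P)
    (hCT : Cn ≤ L.map T.toLinearMap)
    (hfin : Module.length R (↥P ⧸ Submodule.comap P.subtype L) ≠ ⊤) :
    Module.length R (↥L ⧸ Submodule.comap L.subtype Cn) =
      Module.length R (↥(L.map T.toLinearMap) ⧸
        Submodule.comap (L.map T.toLinearMap).subtype Cn) +
      Module.length R (↥Λ ⧸ Submodule.comap Λ.subtype P) := by
  have hΛmap : Λ.map T.toLinearMap = P := by
    ext w
    constructor
    · rintro ⟨v, hv, rfl⟩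
      exact (hΛ v).mpr hv
    · intro hw
      refine ⟨T.symm w, (hΛ _).mp ?_, ?_⟩
      · rwa [LinearEquiv.apply_symm_apply]
      · exact T.apply_symm_apply w
  have hTLP : L.map T.toLinearMap ≤ P := by
    rw [← hΛmap]
    exact Submodule.map_mono (hLP.trans hPΛ)
  have E1 := length_add Cn L P hCL hLP
  have E2 := length_add Cn (L.map T.toLinearMap) P hCT hTLP
  have E4 := length_add L P Λ hLP hPΛ
  have E3 : Module.length R (↥P ⧸ Submodule.comap P.subtype (L.map T.toLinearMap)) =
      Module.length R (↥Λ ⧸ Submodule.comap Λ.subtype L) := by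
    have := length_map_equiv T L Λ
    rw [← this]
    clear E1 E2 E4 hfin hTLP hLP hPΛ hΛ
    subst hΛmap
    rfl
  rw [E3, E4] at E2
  rw [E2] at E1
  have h5 : Module.length R (↥L ⧸ Submodule.comap L.subtype Cn) +
      Module.length R (↥P ⧸ Submodule.comap P.subtype L) =
      (Module.length R (↥(L.map T.toLinearMap) ⧸
        Submodule.comap (L.map T.toLinearMap).subtype Cn) +
      Module.length R (↥Λ ⧸ Submodule.comap Λ.subtype P)) +
      Module.length R (↥P ⧸ Submodule.comap P.subtype L) := by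
    rw [← E1]
    ring
  exact WithTop.add_right_cancel hfin h5

end Key

section Conductor

variable {O : Type u} [CommRing O] {K : Type u} [Field K] [Algebra O K]

/-- the conductor is an ideal of the overring -/
theorem smul_mem_conductor (A : Subalgebra O K) {a : O}
    (ha : a ∈ (1 : Submodule O K).colon (Subalgebra.toSubmodule A : Set K)) {x : K} (hx : x ∈ A) :
    a • x ∈ ((1 : Submodule O K).colon (Subalgebra.toSubmodule A : Set K)) •
      (1 : Submodule O K) := by
  have h1 : a • x ∈ (1 : Submodule O K) := Submodule.mem_colon.mp ha x hx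
  obtain ⟨r, hr⟩ := Submodule.mem_one.mp h1
  rw [mem_smul_one_iff]
  refine ⟨r, ?_, hr⟩
  rw [Submodule.mem_colon]
  intro y hy
  have h2 : r • y = a • (x * y) := by
    rw [Algebra.smul_def, hr, Algebra.smul_def, Algebra.smul_def, mul_assoc]
  rw [h2]
  exact Submodule.mem_colon.mp ha (x * y) (A.mul_mem hx hy)

end Conductor

section Main

variable (O : Type u) [CommRing O] [IsDomain O] [IsNoetherianRing O] [IsLocalRing O]
  [IsAlgClosed (IsLocalRing.ResidueField O)]
  (K : Type u) [Field K] [Algebra O K] [IsFractionRing O K]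

omit [IsDomain O] [IsNoetherianRing O] [IsLocalRing O] [IsAlgClosed (IsLocalRing.ResidueField O)]
  [IsFractionRing O K] in
/-- the standard `Õ`-lattice, as an `O`-module -/
theorem restrictScalars_pi_one (n : ℕ) :
    (Submodule.pi Set.univ
      (fun _ : Fin n => (1 : Submodule ↥(integralClosure O K) K))).restrictScalars O =
    Submodule.pi Set.univ (fun _ : Fin n => Subalgebra.toSubmodule (integralClosure O K)) := by
  ext v
  simp only [Submodule.restrictScalars_mem, Submodule.mem_pi, Subalgebra.mem_toSubmodule]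
  refine forall_congr' fun i => forall_congr' fun _ => ?_
  constructor
  · intro h
    obtain ⟨b, hb⟩ := Submodule.mem_one.mp h
    rw [← hb]
    exact b.2
  · intro h
    exact Submodule.mem_one.mpr ⟨⟨v i, h⟩, rfl⟩

set_option maxHeartbeats 800000 in
/-- interpolation: from `Oⁿ ⊆ L ⊆ Õⁿ` and `L ≅ M'' ∈ [Cⁿ, Oⁿ]` to `M' ≅ L` with
`ℓ(M' / Cⁿ) = n ℓ(O / C)` -/
theorem exists_lattice_colength (hdim : ringKrullDim O = 1)
    (hfin : Module.Finite O ↥(integralClosure O K)) (n : ℕ)
    (L M'' : Submodule O (Fin n → K))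
    (hOL : Submodule.pi Set.univ (fun _ : Fin n => (1 : Submodule O K)) ≤ L)
    (hLÕ : L ≤ Submodule.pi Set.univ
      (fun _ : Fin n => Subalgebra.toSubmodule (integralClosure O K)))
    (hCM : Submodule.pi Set.univ (fun _ : Fin n =>
      ((1 : Submodule O K).colon (Subalgebra.toSubmodule (integralClosure O K) : Set K)) •
        (1 : Submodule O K)) ≤ M'')
    (hMO : M'' ≤ Submodule.pi Set.univ (fun _ : Fin n => (1 : Submodule O K)))
    (φ : ↥L ≃ₗ[O] ↥M'') :
    ∃ M' : Submodule O (Fin n → K),
      Submodule.pi Set.univ (fun _ : Fin n =>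
        ((1 : Submodule O K).colon (Subalgebra.toSubmodule (integralClosure O K) : Set K)) •
          (1 : Submodule O K)) ≤ M' ∧
      M' ≤ Submodule.pi Set.univ
        (fun _ : Fin n => Subalgebra.toSubmodule (integralClosure O K)) ∧
      Nonempty (↥L ≃ₗ[O] ↥M') ∧
      Module.length O (↥M' ⧸ Submodule.comap M'.subtype
        (Submodule.pi Set.univ (fun _ : Fin n =>
          ((1 : Submodule O K).colon (Subalgebra.toSubmodule (integralClosure O K) : Set K)) •
            (1 : Submodule O K)))) =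
        (n : ℕ∞) * Module.length O
          (O ⧸ ((1 : Submodule O K).colon
            (Subalgebra.toSubmodule (integralClosure O K) : Set K))) := by
  classical
  haveI : Infinite (IsLocalRing.ResidueField O) := inferInstance
  have hD : IsDedekindDomain (integralClosure O K) :=
    Groth.Agent.Lib.Helper5.Conductor.isDedekindDomain_integralClosure (le_of_eq hdim)
  haveI hfm : Finite (MaximalSpectrum (integralClosure O K)) :=
    Groth.Agent.Lib.Helper5.Conductor.finite_maximalSpectrum_integralClosure hdim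
  haveI := Groth.Agent.Lib.Helper5.Conductor.isFractionRing_integralClosure (B := O) (K := K)
  have hmaxfin : {I : Ideal (integralClosure O K) | I.IsMaximal}.Finite := by
    have h1 : {I : Ideal (integralClosure O K) | I.IsMaximal} =
        Set.range (MaximalSpectrum.asIdeal (R := integralClosure O K)) := by
      ext I
      constructor
      · intro hI
        exact ⟨⟨I, hI⟩, rfl⟩
      · rintro ⟨J, rfl⟩
        exact J.isMaximal
    rw [h1]
    exact Set.finite_range _
  haveI hpid : IsPrincipalIdealRing (integralClosure O K) :=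
    IsPrincipalIdealRing.of_finite_maximals hmaxfin
  haveI : IsNoetherianRing (integralClosure O K) := inferInstance
  haveI : Ring.KrullDimLE 1 O := Ring.krullDimLE_iff.mpr (le_of_eq hdim)
  haveI : Module.Finite O ↥(integralClosure O K) := hfin
  -- notation
  set I : Ideal O :=
    (1 : Submodule O K).colon (Subalgebra.toSubmodule (integralClosure O K) : Set K) with hI
  set On : Submodule O (Fin n → K) :=
    Submodule.pi Set.univ (fun _ : Fin n => (1 : Submodule O K)) with hOn
  set Cn : Submodule O (Fin n → K) :=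
    Submodule.pi Set.univ (fun _ : Fin n => I • (1 : Submodule O K)) with hCn
  rw [← restrictScalars_pi_one O K n] at hLÕ ⊢
  set P₀ : Submodule ↥(integralClosure O K) (Fin n → K) :=
    Submodule.pi Set.univ (fun _ : Fin n => (1 : Submodule ↥(integralClosure O K) K)) with hP₀
  have hmemP₀ : ∀ v : Fin n → K, v ∈ P₀ ↔ ∀ i, v i ∈ integralClosure O K := by
    intro v
    rw [hP₀, Submodule.mem_pi]
    constructor
    · intro h i
      obtain ⟨b, hb⟩ := Submodule.mem_one.mp (h i (Set.mem_univ i))
      rw [← hb]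
      exact b.2
    · intro h i _
      exact Submodule.mem_one.mpr ⟨⟨v i, h i⟩, rfl⟩
  have hCO : Cn ≤ On := by
    intro v hv
    rw [hCn, Submodule.mem_pi] at hv
    rw [hOn, Submodule.mem_pi]
    intro i hi
    obtain ⟨a, _, ha⟩ := (mem_smul_one_iff I _).mp (hv i hi)
    exact Submodule.mem_one.mpr ⟨a, ha⟩
  have hOP : ∀ v, v ∈ On → v ∈ P₀ := by
    intro v hv
    rw [hOn, Submodule.mem_pi] at hv
    rw [hmemP₀]
    intro i
    obtain ⟨r, hr⟩ := Submodule.mem_one.mp (hv i (Set.mem_univ i))
    rw [← hr]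
    exact Subalgebra.algebraMap_mem _ r
  have hCL : Cn ≤ L := hCO.trans hOL
  -- the extension of `φ`
  obtain ⟨g, hg⟩ := exists_linearEquiv_extend L M'' hOL φ
  have hgL : L.map (g.restrictScalars O).toLinearMap = M'' := by
    ext w
    constructor
    · rintro ⟨l, hl, rfl⟩
      show g l ∈ M''
      rw [hg ⟨l, hl⟩]
      exact (φ _).2
    · intro hw
      refine ⟨(φ.symm ⟨w, hw⟩ : Fin n → K), (φ.symm _).2, ?_⟩
      show g (φ.symm ⟨w, hw⟩ : Fin n → K) = w
      rw [hg, φ.apply_symm_apply]
  -- the maximal lattice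
  let gB : (Fin n → K) ≃ₗ[↥(integralClosure O K)] (Fin n → K) :=
    g.restrictScalars ↥(integralClosure O K)
  have hgB : ∀ v, gB v = g v := fun v => rfl
  let Λmax : Submodule ↥(integralClosure O K) (Fin n → K) := P₀.comap gB.toLinearMap
  have hmemΛmax : ∀ v, v ∈ Λmax ↔ g v ∈ P₀ := fun v => Iff.rfl
  have hsingleP₀ : ∀ i : Fin n, (Pi.single i (1 : K) : Fin n → K) ∈ P₀ := fun i =>
    single_mem_pi_one (O := ↥(integralClosure O K)) i
  have hdecomp : ∀ (v : Fin n → K) (b : Fin n → ↥(integralClosure O K)),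
      (∀ i, algebraMap ↥(integralClosure O K) K (b i) = v i) →
      v = ∑ i, b i • (Pi.single i (1 : K) : Fin n → K) := by
    intro v b hb
    funext k
    rw [Finset.sum_apply]
    have h2 : ∀ i, (b i • (Pi.single i (1 : K) : Fin n → K)) k = if i = k then v k else 0 := by
      intro i
      rw [Pi.smul_apply]
      by_cases h : i = k
      · subst h
        rw [Pi.single_eq_same, if_pos rfl, Algebra.smul_def, mul_one, hb]
      · rw [Pi.single_eq_of_ne (Ne.symm h), smul_zero, if_neg h]
    simp only [h2, Finset.sum_ite_eq', Finset.mem_univ, if_true]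
  have hP₀Λ : P₀ ≤ Λmax := by
    intro v hv
    rw [hmemΛmax]
    have hv' := (hmemP₀ v).mp hv
    have h1 := hdecomp v (fun i => ⟨v i, hv' i⟩) (fun i => rfl)
    rw [h1, ← hgB, map_sum]
    refine Submodule.sum_mem _ fun i _ => ?_
    rw [map_smul]
    refine Submodule.smul_mem _ _ ?_
    rw [hgB]
    have h2 := hg ⟨Pi.single i 1, hOL (single_mem_pi_one i)⟩
    rw [h2]
    exact hOP _ (hMO (φ _).2)
  have hP₀fg : P₀.FG := by
    rw [hP₀]
    refine Submodule.fg_pi fun _ => ?_
    rw [Submodule.one_eq_span]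
    exact Submodule.fg_span_singleton _
  have hΛmaxfg : Λmax.FG := by
    have h1 : Λmax = P₀.map gB.symm.toLinearMap := Submodule.comap_equiv_eq_map_symm gB P₀
    rw [h1]
    exact hP₀fg.map _
  -- finiteness
  have hÕfg : (Subalgebra.toSubmodule (integralClosure O K)).FG := Module.Finite.iff_fg.mp hfin
  obtain ⟨c, hc0, hc⟩ := Groth.Agent.Lib.Seat69.GorLattice.exists_colon_ne_zero
    (Subalgebra.toSubmodule (integralClosure O K)) hÕfg
  have hÕnfg : (P₀.restrictScalars O).FG := hP₀fg.restrictScalars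
  haveI : Module.Finite O ↥(P₀.restrictScalars O) := Module.Finite.iff_fg.mpr hÕnfg
  have hfl : IsFiniteLength O (↥(P₀.restrictScalars O) ⧸
      Submodule.comap (P₀.restrictScalars O).subtype Cn) := by
    refine Groth.Agent.Lib.Helper15DvrLen.isFiniteLength_of_smul_eq_zero (x := c)
      (mem_nonZeroDivisors_of_ne_zero hc0) (fun q => ?_)
    obtain ⟨⟨v, hv⟩, rfl⟩ := Submodule.Quotient.mk_surjective _ q
    rw [← Submodule.Quotient.mk_smul, Submodule.Quotient.mk_eq_zero]
    show c • v ∈ Cn
    rw [hCn, Submodule.mem_pi]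
    intro i _
    rw [Pi.smul_apply]
    exact smul_mem_conductor _ hc ((hmemP₀ v).mp hv i)
  have hfinÕC : Module.length O (↥(P₀.restrictScalars O) ⧸
      Submodule.comap (P₀.restrictScalars O).subtype Cn) ≠ ⊤ :=
    Module.length_ne_top_iff.mpr hfl
  -- length bookkeeping
  have EÕ := length_add Cn L (P₀.restrictScalars O) hCL hLÕ
  have hx1 : Module.length O (↥L ⧸ Submodule.comap L.subtype Cn) ≠ ⊤ := by
    intro h
    rw [h, top_add] at EÕ
    exact hfinÕC EÕ
  have hx7 : Module.length O (↥(P₀.restrictScalars O) ⧸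
      Submodule.comap (P₀.restrictScalars O).subtype L) ≠ ⊤ := by
    intro h
    rw [h, add_top] at EÕ
    exact hfinÕC EÕ
  have E1 := length_add Cn On L hCO hOL
  have E2 := length_add Cn M'' On hCM hMO
  have K1 := key (g.restrictScalars O) Cn L (P₀.restrictScalars O) (Λmax.restrictScalars O)
    (fun v => Iff.rfl) (fun v hv => hP₀Λ hv) hCL hLÕ (by rw [hgL]; exact hCM) hx7
  rw [hgL] at K1
  obtain ⟨a1, ha1⟩ := ENat.ne_top_iff_exists.mp hx1
  rw [← ha1] at E1 K1
  have hx2 : Module.length O (↥On ⧸ Submodule.comap On.subtype Cn) ≠ ⊤ := by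
    intro h
    rw [h, top_add] at E1
    exact ENat.natCast_ne_top _ E1
  have hx3 : Module.length O (↥L ⧸ Submodule.comap L.subtype On) ≠ ⊤ := by
    intro h
    rw [h, add_top] at E1
    exact ENat.natCast_ne_top _ E1
  have hx4 : Module.length O (↥M'' ⧸ Submodule.comap M''.subtype Cn) ≠ ⊤ := by
    intro h
    rw [h, top_add] at K1
    exact ENat.natCast_ne_top _ K1
  have hx6 : relLen O P₀ Λmax ≠ ⊤ := by
    intro h
    have h' : Module.length O (↥(Λmax.restrictScalars O) ⧸
      Submodule.comap (Λmax.restrictScalars O).subtype (P₀.restrictScalars O)) = ⊤ := h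
    rw [h', add_top] at K1
    exact ENat.natCast_ne_top _ K1
  obtain ⟨a2, ha2⟩ := ENat.ne_top_iff_exists.mp hx2
  obtain ⟨a3, ha3⟩ := ENat.ne_top_iff_exists.mp hx3
  obtain ⟨a4, ha4⟩ := ENat.ne_top_iff_exists.mp hx4
  obtain ⟨a6, ha6⟩ := ENat.ne_top_iff_exists.mp hx6
  have hx5 : Module.length O (↥On ⧸ Submodule.comap On.subtype M'') ≠ ⊤ := by
    intro h
    rw [h, add_top] at E2
    exact hx2 E2
  obtain ⟨a5, ha5⟩ := ENat.ne_top_iff_exists.mp hx5
  have ha6' : Module.length O (↥(Λmax.restrictScalars O) ⧸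
      Submodule.comap (Λmax.restrictScalars O).subtype (P₀.restrictScalars O)) = a6 := ha6.symm
  rw [← ha2, ← ha3] at E1
  rw [← ha2, ← ha4, ← ha5] at E2
  rw [← ha4, ha6'] at K1
  have E1' : a1 = a2 + a3 := by exact_mod_cast E1
  have E2' : a2 = a4 + a5 := by exact_mod_cast E2
  have K1' : a1 = a4 + a6 := by exact_mod_cast K1
  have ha36 : a3 ≤ a6 := by omega
  -- the intermediate lattice
  obtain ⟨Λ', hP₀Λ', hΛ'le, hΛ'len⟩ :=
    exists_length_eq (O := O) P₀ a6 Λmax hΛmaxfg hP₀Λ ha6.symm a3 ha36
  have hΛ'fg : (Λ'.restrictScalars O).FG := (fg_of_le' hΛmaxfg hΛ'le).restrictScalars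
  have hΛ'span : Submodule.span K (Λ' : Set (Fin n → K)) = ⊤ := by
    rw [eq_top_iff, ← (Pi.basisFun K (Fin n)).span_eq]
    refine Submodule.span_mono ?_
    rintro _ ⟨i, rfl⟩
    rw [Pi.basisFun_apply]
    exact hP₀Λ' (hsingleP₀ i)
  obtain ⟨T, hT⟩ := exists_equiv_of_lattice O ↥(integralClosure O K) K n Λ' hΛ'fg hΛ'span
  have hT' : ∀ v, T v ∈ P₀ ↔ v ∈ Λ' := hT
  let TO : (Fin n → K) ≃ₗ[O] (Fin n → K) := T.restrictScalars O
  have hTO : ∀ v, TO v = T v := fun v => rfl
  -- `Cⁿ ⊆ T L`
  have hCT : Cn ≤ L.map TO.toLinearMap := by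
    intro v hv
    rw [hCn, Submodule.mem_pi] at hv
    choose a haI hav using fun i => (mem_smul_one_iff I _).mp (hv i (Set.mem_univ i))
    have h1 : v = ∑ i, a i • (Pi.single i (1 : K) : Fin n → K) := by
      have := hdecomp v (fun i => algebraMap O ↥(integralClosure O K) (a i)) (fun i => by
        rw [← IsScalarTower.algebraMap_apply, hav])
      rw [this]
      refine Finset.sum_congr rfl fun i _ => ?_
      rw [algebraMap_smul]
    -- `T⁻¹ v ∈ L`
    have hw : ∀ i, g (T.symm (Pi.single i (1 : K))) ∈ P₀ := by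
      intro i
      rw [← hmemΛmax]
      apply hΛ'le
      rw [← hT', LinearEquiv.apply_symm_apply]
      exact hsingleP₀ i
    have h2 : g (T.symm v) ∈ M'' := by
      apply hCM
      have h3 : g (T.symm v) = ∑ i, a i • g (T.symm (Pi.single i (1 : K))) := by
        rw [h1, map_sum, map_sum]
        refine Finset.sum_congr rfl fun i _ => ?_
        rw [← algebraMap_smul K (a i), map_smul, map_smul, algebraMap_smul]
      rw [h3]
      refine Submodule.sum_mem _ fun i _ => ?_
      rw [hCn, Submodule.mem_pi]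
      intro k _
      rw [Pi.smul_apply]
      exact smul_mem_conductor _ (haI i) ((hmemP₀ _).mp (hw i) k)
    rw [← hgL] at h2
    obtain ⟨l, hl, hlg⟩ := h2
    have h4 : l = T.symm v := g.injective hlg
    refine ⟨l, hl, ?_⟩
    show T l = v
    rw [h4, LinearEquiv.apply_symm_apply]
  have hLΛ' : L ≤ Λ'.restrictScalars O := fun l hl => hP₀Λ' (hLÕ hl)
  have K2 := key TO Cn L (P₀.restrictScalars O) (Λ'.restrictScalars O)
    (fun v => hT' v) (fun v hv => hP₀Λ' hv) hCL hLÕ hCT hx7
  have hΛ'len' : Module.length O (↥(Λ'.restrictScalars O) ⧸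
      Submodule.comap (Λ'.restrictScalars O).subtype (P₀.restrictScalars O)) = a3 := hΛ'len
  rw [← ha1, hΛ'len'] at K2
  refine ⟨L.map TO.toLinearMap, hCT, ?_, ?_, ?_⟩
  · rintro _ ⟨l, hl, rfl⟩
    show T l ∈ P₀
    rw [hT']
    exact hLΛ' hl
  · exact ⟨Submodule.equivMapOfInjective TO.toLinearMap TO.injective L⟩
  · have h5 : Module.length O (↥(L.map TO.toLinearMap) ⧸
        Submodule.comap (L.map TO.toLinearMap).subtype Cn) = a2 := by
      have h6 : ((a2 : ℕ∞)) + a3 = Module.length O (↥(L.map TO.toLinearMap) ⧸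
          Submodule.comap (L.map TO.toLinearMap).subtype Cn) + a3 := by
        rw [← K2, E1]
      exact (WithTop.add_right_cancel (ENat.natCast_ne_top a3) h6).symm
    rw [h5, ha2]
    exact length_pi_one_quot n I

end Main

end Groth.Agent.Lib.Seat69.LatticeAsm
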