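import Mathlib

/-!
# Seat69: Lazard's theorem

* `flat_of_isColimit` : a filtered colimit (in `ModuleCat`) of flat modules is flat
* `Obj R M` : the category of finite free modules `(Fin n →₀ R)` over `M`; it is filtered when `M` is
  flat, and `M` is the colimit of the forgetful functor (`isColimitCoconeObj`)
* `exists_directed_colimit` : a flat module is a colimit of finite free modules over a directed
  partial order.
-/

set_option linter.style.haveILetI false

namespace Groth.Agent.Lib.Seat69.Lazard

open CategoryTheory CategoryTheory.Limits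

universe u

variable {R : Type u} [CommRing R]

section Converse

theorem flat_of_isColimit {J : Type u} [SmallCategory J] [IsFiltered J]
    (F : J ⥤ ModuleCat.{u} R) (c : Cocone F) (hc : IsColimit c)
    (hF : ∀ j, Module.Flat R (F.obj j)) : Module.Flat R c.pt := by
  classical
  refine Module.Flat.of_forall_exists_factorization ?_
  intro l f x hx
  -- Step 1: `x` factors through some stage
  have h1 : ∃ (j : J) (xj : (Fin l →₀ R) →ₗ[R] F.obj j), x = (c.ι.app j).hom ∘ₗ xj := by
    choose jj y hy using fun i : Fin l =>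
      Concrete.isColimit_exists_rep F hc (x (Finsupp.single i 1))
    obtain ⟨j, hj⟩ := IsFiltered.sup_objs_exists (Finset.univ.image jj)
    have g : ∀ i : Fin l, jj i ⟶ j := fun i =>
      (hj (Finset.mem_image_of_mem jj (Finset.mem_univ i))).some
    refine ⟨j, (Finsupp.basisSingleOne (R := R)).constr R (fun i => (F.map (g i)).hom (y i)), ?_⟩
    refine (Finsupp.basisSingleOne (R := R)).ext fun i => ?_
    rw [LinearMap.comp_apply, Module.Basis.constr_basis, Finsupp.coe_basisSingleOne, ← hy i]
    have := c.w (g i)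
    rw [← this]
    rfl
  obtain ⟨j, xj, rfl⟩ := h1
  -- Step 2: kill `xj f` at a later stage
  have h2 : c.ι.app j (xj f) = c.ι.app j (0 : F.obj j) := by
    rw [map_zero]
    exact hx
  obtain ⟨k, g, h, hk⟩ := Concrete.isColimit_exists_of_rep_eq F hc _ _ h2
  rw [map_zero] at hk
  haveI := hF k
  have hk' : ((F.map g).hom ∘ₗ xj) f = 0 := hk
  obtain ⟨k', a, y', hya, haf⟩ := Module.Flat.iff_forall_exists_factorization.mp (hF k) hk'
  refine ⟨k', a, (c.ι.app k).hom ∘ₗ y', ?_, haf⟩
  rw [LinearMap.comp_assoc, ← hya, ← LinearMap.comp_assoc]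
  congr 1
  have := c.w g
  rw [← this]
  rfl

end Converse

section Forward

variable (R) (M : Type u) [AddCommGroup M] [Module R M]

/-- finite free modules `Fin n →₀ R` over `M` -/
structure Obj where
  /-- rank -/
  n : ℕ
  /-- structure map -/
  x : (Fin n →₀ R) →ₗ[R] M

variable {R M}

noncomputable instance : Category.{u} (Obj R M) where
  Hom X Y := {a : (Fin X.n →₀ R) →ₗ[R] (Fin Y.n →₀ R) // Y.x ∘ₗ a = X.x}
  id X := ⟨LinearMap.id, LinearMap.comp_id _⟩
  comp f g := ⟨g.1 ∘ₗ f.1, by rw [← LinearMap.comp_assoc, g.2, f.2]⟩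

variable (R M)

/-- the forgetful functor -/
noncomputable def G : Obj R M ⥤ ModuleCat.{u} R where
  obj X := ModuleCat.of R (Fin X.n →₀ R)
  map f := ModuleCat.ofHom f.1
  map_id _ := rfl
  map_comp _ _ := rfl

/-- the tautological cocone -/
noncomputable def coconeObj : Cocone (G R M) where
  pt := ModuleCat.of R M
  ι :=
    { app := fun X => ModuleCat.ofHom X.x
      naturality := fun X Y f => by
        ext : 1
        exact f.2 }

instance [Module.Flat R M] : IsFiltered (Obj R M) where
  cocone_objs X Y := by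
    obtain ⟨k, h₂, h₃, h⟩ :=
      Module.Flat.exists_factorization_of_finitePresentation (X.x.coprod Y.x)
    refine ⟨⟨k, h₃⟩, ⟨h₂ ∘ₗ LinearMap.inl R _ _, ?_⟩, ⟨h₂ ∘ₗ LinearMap.inr R _ _, ?_⟩, trivial⟩
    · rw [← LinearMap.comp_assoc, ← h, LinearMap.coprod_inl]
    · rw [← LinearMap.comp_assoc, ← h, LinearMap.coprod_inr]
  cocone_maps X Y f g := by
    have h0 : Y.x ∘ₗ (f.1 - g.1) = 0 := by rw [LinearMap.comp_sub, f.2, g.2, sub_self]
    obtain ⟨k, a, y, hya, haf⟩ := Module.Flat.exists_factorization_of_comp_eq_zero_of_free h0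
    refine ⟨⟨k, y⟩, ⟨a, hya.symm⟩, Subtype.ext ?_⟩
    change a ∘ₗ f.1 = a ∘ₗ g.1
    rw [← sub_eq_zero, ← LinearMap.comp_sub]
    exact haf
  nonempty := ⟨⟨0, 0⟩⟩

/-- `M` is the colimit of the finite free modules over it -/
noncomputable def isColimitCoconeObj [Module.Flat R M] : IsColimit (coconeObj R M) := by
  haveI : ReflectsColimitsOfShape (Obj R M) (forget (ModuleCat.{u} R)) :=
    haveI : ReflectsFilteredColimits (forget (ModuleCat.{u} R)) :=
      ModuleCat.FilteredColimits.forget_reflectsFilteredColimits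
    ReflectsFilteredColimitsOfSize.reflects_filtered_colimits (Obj R M)
  apply isColimitOfReflects (forget (ModuleCat.{u} R))
  apply Types.FilteredColimit.isColimitOf
  · intro m
    let m' : M := m
    obtain ⟨k, h₂, h₃, h⟩ :=
      Module.Flat.exists_factorization_of_finitePresentation (LinearMap.toSpanSingleton R M m')
    refine ⟨⟨k, h₃⟩, h₂ 1, ?_⟩
    have := LinearMap.congr_fun h 1
    rw [LinearMap.toSpanSingleton_apply, one_smul] at this
    exact this
  · intro X Y a b hab
    let a' : Fin X.n →₀ R := a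
    let b' : Fin Y.n →₀ R := b
    have hab' : X.x a' = Y.x b' := hab
    obtain ⟨Z, u, v, -⟩ := IsFilteredOrEmpty.cocone_objs X Y
    have hz : Z.x (u.1 a' - v.1 b') = 0 := by
      rw [map_sub, ← LinearMap.comp_apply, ← LinearMap.comp_apply, u.2, v.2, hab', sub_self]
    obtain ⟨k, c, y, hyc, hc0⟩ := Module.Flat.exists_factorization_of_apply_eq_zero_of_free hz
    let w : Z ⟶ (⟨k, y⟩ : Obj R M) := ⟨c, hyc.symm⟩
    refine ⟨⟨k, y⟩, u ≫ w, v ≫ w, ?_⟩
    change c (u.1 a') = c (v.1 b')
    rw [← sub_eq_zero, ← map_sub]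
    exact hc0

end Forward

end Groth.Agent.Lib.Seat69.Lazard
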