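import Groth.Agent.Lib.Helper20Perfection

/-!
# A scheme whose perfection is affine is affine (seat 69)

If `π : XP ⟶ X` is a perfection in characteristic `p` and `XP` is affine, then `X` is affine.
The proof glues `p`-power roots: global sections of `XP` are `p`-radical over global sections of `X`.
-/

universe u

namespace Groth.Agent.Lib.Seat69.PerfAffine

open AlgebraicGeometry CategoryTheory FrobSch Opposite TopologicalSpace
open Groth.Agent.Lib.Helper20.Perfection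

theorem sub_pow_p_pow (p : ℕ) [Fact p.Prime] {R : Type*} [CommRing R] (h : (p : R) = 0)
    (x y : R) (m : ℕ) : (x - y) ^ p ^ m = x ^ p ^ m - y ^ p ^ m := by
  rcases subsingleton_or_nontrivial R with hR | hR
  · exact Subsingleton.elim _ _
  · have : CharP R p := (CharP.charP_iff_prime_eq_zero Fact.out).mpr h
    exact sub_pow_char_pow ..

variable (p : ℕ) [Fact p.Prime] {XP X : Scheme.{u}} (π : XP ⟶ X)

/-- sections killed by a surjective morphism are nilpotent on quasi-compact opens -/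
theorem exists_pow_eq_zero_of_app_eq_zero (hs : Function.Surjective π)
    (S : X.Opens) (hS : IsCompact (S : Set X))
    (a : Γ(X, S)) (ha : π.app S a = 0) : ∃ m : ℕ, a ^ p ^ m = 0 := by
  have h1 : X.basicOpen a = ⊥ := by
    have h2 : π ⁻¹ᵁ (X.basicOpen a) = ⊥ := by
      rw [Scheme.preimage_basicOpen, ha, Scheme.basicOpen_zero]
    rw [eq_bot_iff]
    intro x hx
    obtain ⟨y, rfl⟩ := hs x
    have : y ∈ π ⁻¹ᵁ (X.basicOpen a) := hx
    rw [h2] at this
    exact this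
  obtain ⟨e, he⟩ := (Scheme.isNilpotent_iff_basicOpen_eq_bot_of_isCompact hS a).mpr h1
  refine ⟨e, ?_⟩
  have : e ≤ p ^ e := (Nat.lt_pow_self (Fact.out : p.Prime).one_lt).le
  exact pow_eq_zero_of_le this he

/-- restriction of sections along an inclusion of opens -/
noncomputable abbrev res {Z : Scheme.{u}} {U V : Z.Opens} (h : U ≤ V) : Γ(Z, V) →+* Γ(Z, U) :=
  (Z.presheaf.map (homOfLE h).op).hom

theorem res_res {Z : Scheme.{u}} {U V W : Z.Opens} (h : U ≤ V) (h' : V ≤ W) (a : Γ(Z, W)) :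
    res h (res h' a) = res (h.trans h') a := by
  show (Z.presheaf.map (homOfLE h').op ≫ Z.presheaf.map (homOfLE h).op) a = _
  rw [← Functor.map_comp]
  rfl

theorem app_res {U V : X.Opens} (h : U ≤ V) (a : Γ(X, V)) :
    π.app U (res h a) = res (show π ⁻¹ᵁ U ≤ π ⁻¹ᵁ V from fun _ hx => h hx) (π.app V a) := by
  have := π.naturality (homOfLE h).op
  exact congr($this a)

/-- gluing two sections of the structure sheaf -/
theorem exists_glue {Z : Scheme.{u}} (U V : Z.Opens) (a : Γ(Z, U)) (b : Γ(Z, V))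
    (hab : res (inf_le_left : U ⊓ V ≤ U) a = res (inf_le_right : U ⊓ V ≤ V) b) :
    ∃ c : Γ(Z, U ⊔ V), res le_sup_left c = a ∧ res le_sup_right c = b := by
  let x : RingHom.eqLocus
      (RingHom.comp (Z.presheaf.map (homOfLE inf_le_left : U ⊓ V ⟶ U).op).hom
        (RingHom.fst Γ(Z, U) Γ(Z, V)))
      (RingHom.comp (Z.presheaf.map (homOfLE inf_le_right : U ⊓ V ⟶ V).op).hom
        (RingHom.snd Γ(Z, U) Γ(Z, V))) := ⟨(a, b), hab⟩
  refine ⟨(Z.sheaf.objSupIsoProdEqLocus U V).inv x, ?_, ?_⟩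
  · exact TopCat.Sheaf.objSupIsoProdEqLocus_inv_fst Z.sheaf U V x
  · exact TopCat.Sheaf.objSupIsoProdEqLocus_inv_snd Z.sheaf U V x

theorem eq_of_res_eq {Z : Scheme.{u}} (U V : Z.Opens) (a b : Γ(Z, U ⊔ V))
    (h1 : res le_sup_left a = res le_sup_left b) (h2 : res le_sup_right a = res le_sup_right b) :
    a = b :=
  Z.sheaf.eq_of_locally_eq₂ (homOfLE le_sup_left) (homOfLE le_sup_right) le_rfl a b h1 h2

theorem eq_of_res_eq' {Z : Scheme.{u}} {U V W : Z.Opens} (hU : U ≤ W) (hV : V ≤ W)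
    (hW : W ≤ U ⊔ V) (a b : Γ(Z, W)) (h1 : res hU a = res hU b) (h2 : res hV a = res hV b) :
    a = b :=
  Z.sheaf.eq_of_locally_eq₂ (homOfLE hU) (homOfLE hV) hW a b h1 h2

omit [Fact p.Prime] in
theorem map_pow_pow {R S : Type*} [CommRing R] [CommRing S] (φ : R →+* S) (a : R) (t : S)
    (n k : ℕ) (h : φ a = t ^ p ^ n) : φ (a ^ p ^ k) = t ^ p ^ (n + k) := by
  rw [map_pow, h, ← pow_mul, ← pow_add]

/-- sections of a perfection over a quasi-compact open are `p`-radical over sections of the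
base. -/
theorem exists_pow_eq_app [IsCharP XP p] [IsCharP X p] (hπ : IsPerfection π p)
    [QuasiSeparatedSpace X] (S : X.Opens) (hS : IsCompact (S : Set X)) :
    ∀ t : Γ(XP, π ⁻¹ᵁ S), ∃ (n : ℕ) (a : Γ(X, S)), π.app S a = t ^ p ^ n := by
  obtain ⟨-, -, hsurj⟩ := props_of_isPerfection p π hπ
  have hs : Function.Surjective π := hsurj.1
  refine compact_open_induction_on
    (P := fun S : X.Opens => ∀ t : Γ(XP, π ⁻¹ᵁ S), ∃ (n : ℕ) (a : Γ(X, S)), π.app S a = t ^ p ^ n)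
    S hS ?_ ?_
  · intro t
    have : Subsingleton Γ(XP, π ⁻¹ᵁ (⊥ : X.Opens)) :=
      CommRingCat.subsingleton_of_isTerminal XP.sheaf.isTerminalOfEmpty
    exact ⟨0, 0, Subsingleton.elim _ _⟩
  · intro S hS U IH t
    obtain ⟨n₁, a₁, h₁⟩ := IH (res (show π ⁻¹ᵁ S ≤ π ⁻¹ᵁ (S ⊔ U.1) from fun _ hx => Or.inl hx) t)
    obtain ⟨n₂, a₂, h₂⟩ := exists_pow_eq_app_of_isPerfection p π hπ U.1 U.2
      (res (show π ⁻¹ᵁ U.1 ≤ π ⁻¹ᵁ (S ⊔ U.1) from fun _ hx => Or.inr hx) t)
    -- common exponent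
    have h₁' := map_pow_pow p (π.app S).hom a₁ _ n₁ n₂ h₁
    have h₂' := map_pow_pow p (π.app U.1).hom a₂ _ n₂ n₁ h₂
    rw [Nat.add_comm n₂ n₁] at h₂'
    set b₁ := a₁ ^ p ^ n₂ with hb₁
    set b₂ := a₂ ^ p ^ n₁ with hb₂
    -- difference on the intersection
    have hcomp : IsCompact ((S ⊓ U.1 : X.Opens) : Set X) :=
      QuasiSeparatedSpace.inter_isCompact _ _ S.2 hS U.1.2 U.2.isCompact
    have hd : π.app (S ⊓ U.1) (res inf_le_left b₁ - res inf_le_right b₂) = 0 := by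
      rw [map_sub, app_res, app_res, sub_eq_zero]
      show res _ ((π.app S).hom b₁) = res _ ((π.app U.1).hom b₂)
      rw [h₁', h₂', map_pow, map_pow, res_res, res_res]
    obtain ⟨m, hm⟩ := exists_pow_eq_zero_of_app_eq_zero p π hs _ hcomp _ hd
    rw [sub_pow_p_pow p (natCast_eq_zero_app X p _), sub_eq_zero, ← map_pow, ← map_pow] at hm
    obtain ⟨c, hc₁, hc₂⟩ := exists_glue S U.1 (b₁ ^ p ^ m) (b₂ ^ p ^ m) hm
    refine ⟨n₁ + n₂ + m, c, ?_⟩
    apply eq_of_res_eq' (U := π ⁻¹ᵁ S) (V := π ⁻¹ᵁ U.1) (W := π ⁻¹ᵁ (S ⊔ U.1))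
      (show π ⁻¹ᵁ S ≤ π ⁻¹ᵁ (S ⊔ U.1) from fun _ hx => Or.inl hx)
      (show π ⁻¹ᵁ U.1 ≤ π ⁻¹ᵁ (S ⊔ U.1) from fun _ hx => Or.inr hx)
      (show π ⁻¹ᵁ (S ⊔ U.1) ≤ π ⁻¹ᵁ S ⊔ π ⁻¹ᵁ U.1 from fun _ hx => hx)
    · refine (app_res π (le_sup_left : S ≤ S ⊔ U.1) c).symm.trans ?_
      rw [hc₁, map_pow (res _)]
      exact map_pow_pow p (π.app S).hom b₁ _ (n₁ + n₂) m h₁'
    · refine (app_res π (le_sup_right : U.1 ≤ S ⊔ U.1) c).symm.trans ?_
      rw [hc₂, map_pow (res _)]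
      exact map_pow_pow p (π.app U.1).hom b₂ _ (n₁ + n₂) m h₂'

/-- **Key lemma**: a scheme whose perfection is affine is affine. -/
theorem isAffine_of_isPerfection [IsCharP XP p] [IsCharP X p] (hπ : IsPerfection π p)
    [IsAffine XP] : IsAffine X := by
  obtain ⟨hint, -, hsurj⟩ := props_of_isPerfection p π hπ
  have hs : Function.Surjective π := hsurj.1
  have hhomeo := isHomeomorph_of_isPerfection p π hπ
  have hcX : CompactSpace X :=
    ⟨by rw [← hs.range_eq]; exact isCompact_range hhomeo.continuous⟩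
  have hqsX : QuasiSeparatedSpace X := by
    rw [← isQuasiSeparated_univ_iff]
    have h3 : IsQuasiSeparated (Set.univ : Set XP) := isQuasiSeparated_univ
    have h4 := h3.image_of_isEmbedding hhomeo.isEmbedding
    rwa [Set.image_univ, hs.range_eq] at h4
  -- global sections are `p`-radical
  have hrad : ∀ t : Γ(XP, ⊤), ∃ (n : ℕ) (a : Γ(X, ⊤)), π.appTop a = t ^ p ^ n :=
    exists_pow_eq_app p π hπ ⊤ isCompact_univ
  have hnil : ∀ a : Γ(X, ⊤), π.appTop a = 0 → ∃ m : ℕ, a ^ p ^ m = 0 :=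
    exists_pow_eq_zero_of_app_eq_zero p π hs ⊤ isCompact_univ
  have key : ∀ x' : XP, ∃ h : Γ(X, ⊤), x' ∈ XP.basicOpen (π.appTop h) ∧
      IsAffineOpen (X.basicOpen h) := by
    intro x'
    obtain ⟨_, ⟨U, hU, rfl⟩, hxU, -⟩ :=
      X.isBasis_affineOpens.exists_subset_of_mem_open (Set.mem_univ (π x')) isOpen_univ
    obtain ⟨g, hg1, hg2⟩ := (isAffineOpen_top XP).exists_basicOpen_le
      (V := π ⁻¹ᵁ U) ⟨x', hxU⟩ (Set.mem_univ _)
    obtain ⟨n, h, hh⟩ := hrad g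
    have hpre : π ⁻¹ᵁ (X.basicOpen h) = XP.basicOpen g := by
      rw [Scheme.preimage_basicOpen]
      show XP.basicOpen (π.appTop h) = _
      rw [hh, Scheme.basicOpen_pow _ _ (pow_pos (Fact.out : p.Prime).pos n)]
    have hle : X.basicOpen h ≤ U := by
      intro y hy
      obtain ⟨y', rfl⟩ := hs y
      have h5 : y' ∈ π ⁻¹ᵁ (X.basicOpen h) := hy
      rw [hpre] at h5
      exact hg1 h5
    refine ⟨h, ?_, ?_⟩
    · have h6 : π ⁻¹ᵁ (X.basicOpen h) = XP.basicOpen (π.appTop h) :=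
        Scheme.preimage_basicOpen π h
      rw [← h6, hpre]
      exact hg2
    · have h7 : X.basicOpen h = X.basicOpen (X.presheaf.map (homOfLE (le_top : U ≤ ⊤)).op h) := by
        rw [Scheme.basicOpen_res]
        exact (inf_eq_right.mpr hle).symm
      rw [h7]
      exact hU.basicOpen _
  set s : Set Γ(X, ⊤) := {h | IsAffineOpen (X.basicOpen h)} with hsdef
  apply isAffine_of_isAffineOpen_basicOpen s ?_ (fun h hh => hh)
  -- the images generate the unit ideal upstairs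
  have htop : Ideal.span (π.appTop.hom '' s) = ⊤ := by
    rw [← (isAffineOpen_top XP).self_le_iSup_basicOpen_iff]
    intro x' _
    obtain ⟨h, hx, hh⟩ := key x'
    exact Opens.mem_iSup.mpr ⟨⟨_, h, hh, rfl⟩, hx⟩
  by_contra hne
  obtain ⟨m, hm, hle⟩ := Ideal.exists_le_maximal _ hne
  algebraize [π.appTop.hom]
  have hint' : Algebra.IsIntegral Γ(X, ⊤) Γ(XP, ⊤) := ⟨fun t => by
    obtain ⟨n, a, ha⟩ := hrad t
    refine ⟨Polynomial.X ^ p ^ n - Polynomial.C a,
      Polynomial.monic_X_pow_sub_C a (pow_pos (Fact.out : p.Prime).pos n).ne', ?_⟩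
    simp only [Polynomial.eval₂_sub, Polynomial.eval₂_pow, Polynomial.eval₂_X, Polynomial.eval₂_C]
    rw [sub_eq_zero]
    exact ha.symm⟩
  have hker : RingHom.ker (algebraMap Γ(X, ⊤) Γ(XP, ⊤)) ≤ m := by
    intro a ha
    obtain ⟨k, hk⟩ := hnil a ha
    exact hm.isPrime.mem_of_pow_mem _ (hk ▸ m.zero_mem)
  have := hm.isPrime
  obtain ⟨Q, -, hQ, hQm⟩ := Ideal.exists_ideal_over_prime_of_isIntegral m (⊥ : Ideal Γ(XP, ⊤))
    (by rw [← RingHom.ker_eq_comap_bot]; exact hker)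
  have h8 : Ideal.span (π.appTop.hom '' s) ≤ Q := by
    rw [Ideal.span_le]
    rintro _ ⟨h, hh, rfl⟩
    have : h ∈ m := hle (Ideal.subset_span hh)
    rw [← hQm] at this
    exact this
  rw [htop] at h8
  exact hQ.ne_top (top_le_iff.mp h8)

end Groth.Agent.Lib.Seat69.PerfAffine
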