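import Mathlib
import Groth.Agent.Lib.Helper10TF

/-!
# A finite torsion-free module of rank one over a domain embeds into the domain (seat 69)
-/

set_option autoImplicit false
universe u

namespace Groth.Agent.Lib.Seat69.RankOneEmbed

theorem exists_injective_of_rank_one (R : Type u) [CommRing R] [IsDomain R] (M : Type u)
    [AddCommGroup M] [Module R M] [Module.Finite R M] [NoZeroSMulDivisors R M]
    (hrk : Module.finrank (FractionRing R) (TensorProduct R (FractionRing R) M) = 1) :
    ∃ h : M →ₗ[R] R, Function.Injective h := by
  classical
  let bV : Module.Basis (Fin 1) (FractionRing R) (TensorProduct R (FractionRing R) M) :=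
    Module.finBasisOfFinrankEq _ _ hrk
  let g : M →ₗ[R] (Fin 1 → FractionRing R) :=
    (bV.equivFun.restrictScalars R).toLinearMap.comp (TensorProduct.mk R (FractionRing R) M 1)
  have hιinj : Function.Injective (TensorProduct.mk R (FractionRing R) M 1) := by
    rw [injective_iff_map_eq_zero]
    intro m hm
    obtain ⟨s, hs⟩ := (IsLocalizedModule.eq_zero_iff (nonZeroDivisors R)
      (TensorProduct.mk R (FractionRing R) M 1)).mp hm
    rw [Submonoid.smul_def] at hs
    rcases smul_eq_zero.mp hs with h | h
    · exact absurd h (nonZeroDivisors.coe_ne_zero s)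
    · exact h
  have hginj : Function.Injective g := bV.equivFun.injective.comp hιinj
  obtain ⟨d, hd, h, hh⟩ := Groth.Agent.Lib.Helper10.exists_scaled_lift R M 1 g
  have hhinj : Function.Injective h := by
    rw [injective_iff_map_eq_zero]
    intro m hm
    apply hginj
    rw [map_zero]
    funext i
    have h1 := hh m i
    rw [hm] at h1
    simp only [Pi.zero_apply, map_zero] at h1
    have h2 : d • g m i = 0 := h1.symm
    rw [Algebra.smul_def, mul_eq_zero] at h2
    rcases h2 with h2 | h2
    · exact absurd ((map_eq_zero_iff _ (IsFractionRing.injective R (FractionRing R))).mp h2) hd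
    · exact h2
  refine ⟨(LinearMap.proj (0 : Fin 1)).comp h, ?_⟩
  intro m m' hmm
  apply hhinj
  funext i
  have hi : i = 0 := Subsingleton.elim _ _
  subst hi
  exact hmm

theorem nontrivial_of_rank_one (R : Type u) [CommRing R] [IsDomain R] (M : Type u)
    [AddCommGroup M] [Module R M]
    (hrk : Module.finrank (FractionRing R) (TensorProduct R (FractionRing R) M) = 1) :
    Nontrivial M := by
  by_contra hM
  rw [not_nontrivial_iff_subsingleton] at hM
  have : Subsingleton (TensorProduct R (FractionRing R) M) := inferInstance
  have h0 : Module.finrank (FractionRing R) (TensorProduct R (FractionRing R) M) = 0 :=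
    Module.finrank_zero_of_subsingleton
  omega

end Groth.Agent.Lib.Seat69.RankOneEmbed
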