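/-
Seat 69: étale algebras over a ring `R` whose local ring `R_P` is a valuation ring:
`B_q` (q over P) is a valuation ring all of whose nonzero elements are unit multiples of
images of elements of `R`.  (Base change of `Seat69ValEtale`.)
-/
import Mathlib
import Groth.Agent.Lib.Seat69ValEtale

set_option autoImplicit false
set_option linter.style.haveILetI false

namespace Groth.Agent.Lib.Seat69.ValEtaleLoc

open TensorProduct

universe u

section NoHm

variable (A B : Type u) [CommRing A] [IsDomain A] [ValuationRing A] [CommRing B] [Algebra A B]
  [Algebra.Etale A B] (m : Ideal B) [m.IsPrime]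

/-- version of `ValEtale.main` (last part) without the hypothesis that `m` lies over the maximal
ideal -/
theorem exists_eq_unit_mul [IsDomain (Localization.AtPrime m)]
    [ValuationRing (Localization.AtPrime m)] (b : Localization.AtPrime m) (hb : b ≠ 0) :
    ∃ (a : A) (u : (Localization.AtPrime m)ˣ),
      b = u * algebraMap A (Localization.AtPrime m) a := by
  obtain ⟨x, s, rfl⟩ := IsLocalization.exists_mk'_eq m.primeCompl b
  have hsu : IsUnit (algebraMap B (Localization.AtPrime m) s) := IsLocalization.map_units _ s
  have hspec := IsLocalization.mk'_spec (Localization.AtPrime m) x s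
  have hx : algebraMap B (Localization.AtPrime m) x ≠ 0 := by
    intro h
    rw [h] at hspec
    exact hb (hsu.mul_left_eq_zero.mp hspec)
  obtain ⟨a, u, hu⟩ := ValEtale.exists_eq_unit_mul_of_ne_zero A B m x hx
  refine ⟨a, u * hsu.unit⁻¹, ?_⟩
  have h3 : IsLocalization.mk' (Localization.AtPrime m) x s =
      algebraMap B (Localization.AtPrime m) x * ↑hsu.unit⁻¹ := by
    rw [← hspec, mul_assoc, IsUnit.mul_val_inv, mul_one]
  rw [h3, hu, Units.val_mul]
  ring

end NoHm

section General

attribute [local instance] Algebra.TensorProduct.rightAlgebra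

variable (R B : Type u) [CommRing R] [CommRing B] [Algebra R B] [Algebra.Etale R B]
  (q : Ideal B) [q.IsPrime] (P : Ideal R) [P.IsPrime]

theorem main (hP : q.comap (algebraMap R B) = P)
    [IsDomain (Localization.AtPrime P)] [ValuationRing (Localization.AtPrime P)] :
    (∃ _ : IsDomain (Localization.AtPrime q), ValuationRing (Localization.AtPrime q)) ∧
    ∀ b : Localization.AtPrime q, b ≠ 0 → ∃ (r : R) (u : (Localization.AtPrime q)ˣ),
      b = u * algebraMap R (Localization.AtPrime q) r := by
  let W := Localization.AtPrime P
  let B₂ := W ⊗[R] B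
  let M := Algebra.algebraMapSubmonoid B P.primeCompl
  haveI hlocB₂ : IsLocalization M B₂ := IsLocalization.tensorRight (S := B) W P.primeCompl
  have disj : Disjoint (M : Set B) (q : Set B) := by
    rw [Set.disjoint_left]
    rintro _ ⟨s, hs, rfl⟩ hsq
    apply hs
    rw [← hP]
    exact hsq
  haveI hmprime : (q.map (algebraMap B B₂)).IsPrime :=
    IsLocalization.isPrime_of_isPrime_disjoint M _ _ ‹_› disj
  let m : Ideal B₂ := q.map (algebraMap B B₂)
  let L := Localization.AtPrime m
  haveI hloc : IsLocalization.AtPrime L q := by
    convert IsLocalization.isLocalization_isLocalization_atPrime_isLocalization M L m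
    exact (IsLocalization.under_map_of_isPrime_disjoint M _ ‹_› disj).symm
  let e : L ≃ₐ[B] Localization.AtPrime q := IsLocalization.algEquiv q.primeCompl _ _
  obtain ⟨hD, hV⟩ := ValEtale.exists_valuationRing_localization W B₂ m
  haveI hDL : IsDomain L := hD
  haveI hVL : ValuationRing L := hV
  have key := exists_eq_unit_mul W B₂ m
  have hD' : IsDomain (Localization.AtPrime q) := e.symm.toMulEquiv.isDomain L
  constructor
  · refine ⟨hD', ?_⟩
    rw [ValuationRing.iff_dvd_total]
    refine ⟨fun x y => ?_⟩
    have htot := (ValuationRing.iff_dvd_total (R := L)).mp hVL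
    rcases htot.total (e.symm x) (e.symm y) with h | h
    · left
      have := map_dvd e h
      simpa using this
    · right
      have := map_dvd e h
      simpa using this
  · intro b hb
    have hb' : e.symm b ≠ 0 := fun h => hb (e.symm.injective (h.trans (map_zero _).symm))
    obtain ⟨w, u, hu⟩ := key (e.symm b) hb'
    obtain ⟨r, s, rfl⟩ := IsLocalization.exists_mk'_eq P.primeCompl w
    -- the image of `s` in `B_q` is a unit
    have hsq : algebraMap R B s ∉ q := by
      intro h
      have h' : (s : R) ∈ Ideal.comap (algebraMap R B) q := h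
      rw [hP] at h'
      exact s.2 h'
    have hsu : IsUnit (algebraMap R (Localization.AtPrime q) s) := by
      rw [IsScalarTower.algebraMap_apply R B (Localization.AtPrime q)]
      exact IsLocalization.map_units (Localization.AtPrime q)
        (⟨algebraMap R B s, hsq⟩ : q.primeCompl)
    have heR : ∀ t : R, e (algebraMap R L t) = algebraMap R (Localization.AtPrime q) t := by
      intro t
      rw [IsScalarTower.algebraMap_apply R B L, e.commutes, ← IsScalarTower.algebraMap_apply]
    have hWL : ∀ t : R, algebraMap W L (algebraMap R W t) = algebraMap R L t := by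
      intro t
      rw [IsScalarTower.algebraMap_apply W B₂ L, ← IsScalarTower.algebraMap_apply R W B₂,
        ← IsScalarTower.algebraMap_apply R B₂ L]
    have h1 : algebraMap W L (IsLocalization.mk' W r s) * algebraMap R L s = algebraMap R L r := by
      rw [← hWL, ← hWL, ← map_mul, IsLocalization.mk'_spec]
    have h2 := congrArg e h1
    rw [map_mul, heR, heR] at h2
    have h3 := congrArg e hu
    rw [e.apply_symm_apply, map_mul] at h3
    refine ⟨r, Units.map (e : L →* Localization.AtPrime q) u * hsu.unit⁻¹, ?_⟩
    rw [h3, ← h2, Units.val_mul]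
    have : (algebraMap R (Localization.AtPrime q) s) * ↑hsu.unit⁻¹ = 1 := IsUnit.mul_val_inv hsu
    simp only [Units.coe_map, MonoidHom.coe_coe]
    linear_combination (e ↑u * e (algebraMap W L (IsLocalization.mk' W r s))) * (-this)

end General

end Groth.Agent.Lib.Seat69.ValEtaleLoc
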