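/-
Seat 69: smooth algebras over a valuation ring `V`: the local ring at a generic point of the
special fibre is a valuation ring with the same value group (Gauss valuation + étale extension).
-/
import Mathlib
import Groth.Agent.Lib.Seat69ValEtaleLoc

set_option autoImplicit false
set_option linter.style.haveILetI false

namespace Groth.Agent.Lib.Seat69.ValSmooth

open IsLocalRing

universe u

section Gauss

variable (V : Type u) [CommRing V] [IsDomain V] [ValuationRing V] (σ : Type*)

/-- the prime ideal `𝔪 V[T]` of the polynomial ring -/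
noncomputable def gaussIdeal : Ideal (MvPolynomial σ V) := (maximalIdeal V).map MvPolynomial.C

instance gaussIdeal_isPrime : (gaussIdeal V σ).IsPrime := by
  have h : gaussIdeal V σ =
      RingHom.ker (MvPolynomial.map (σ := σ) (Ideal.Quotient.mk (maximalIdeal V))) := by
    rw [MvPolynomial.ker_map, Ideal.mk_ker, gaussIdeal]
  rw [h]
  exact RingHom.ker_isPrime _

variable {V σ}

theorem exists_eq_C_mul (f : MvPolynomial σ V) (hf : f ≠ 0) :
    ∃ (c : V) (f₀ : MvPolynomial σ V), c ≠ 0 ∧ f = MvPolynomial.C c * f₀ ∧
      f₀ ∉ gaussIdeal V σ := by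
  classical
  have hne : f.support.Nonempty := by
    rw [Finset.nonempty_iff_ne_empty, Ne, MvPolynomial.support_eq_empty]
    exact hf
  obtain ⟨d₀, hd₀, hdvd⟩ := ValEtale.exists_dvd_all f.support hne (fun d => f.coeff d)
  have hc : f.coeff d₀ ≠ 0 := MvPolynomial.mem_support_iff.mp hd₀
  choose! g hg using hdvd
  refine ⟨f.coeff d₀, ∑ d ∈ f.support, MvPolynomial.monomial d (g d), hc, ?_, ?_⟩
  · conv_lhs => rw [MvPolynomial.as_sum f]
    rw [Finset.mul_sum]
    refine Finset.sum_congr rfl (fun d hd => ?_)
    rw [MvPolynomial.C_mul_monomial, ← hg d hd]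
  · intro hmem
    have h1 := (MvPolynomial.mem_map_C_iff.mp hmem) d₀
    have h2 : (∑ d ∈ f.support, MvPolynomial.monomial d (g d)).coeff d₀ = g d₀ := by
      rw [MvPolynomial.coeff_sum]
      simp only [MvPolynomial.coeff_monomial]
      rw [Finset.sum_ite_eq' f.support d₀]
      simp [hd₀]
    rw [h2] at h1
    have h3 : g d₀ = 1 := by
      have := hg d₀ hd₀
      have h4 : f.coeff d₀ * g d₀ = f.coeff d₀ * 1 := by rw [mul_one]; exact this.symm
      exact mul_left_cancel₀ hc h4
    rw [h3] at h1
    exact (maximalIdeal.isMaximal V).ne_top ((Ideal.eq_top_iff_one _).mpr h1)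

variable (V σ)

theorem gauss_unit_mul (w : Localization.AtPrime (gaussIdeal V σ)) (hw : w ≠ 0) :
    ∃ (c : V) (u : (Localization.AtPrime (gaussIdeal V σ))ˣ),
      w = u * algebraMap V (Localization.AtPrime (gaussIdeal V σ)) c := by
  obtain ⟨f, s, rfl⟩ := IsLocalization.exists_mk'_eq (gaussIdeal V σ).primeCompl w
  have hsu : IsUnit (algebraMap (MvPolynomial σ V) (Localization.AtPrime (gaussIdeal V σ)) s) :=
    IsLocalization.map_units _ s
  have hspec := IsLocalization.mk'_spec (Localization.AtPrime (gaussIdeal V σ)) f s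
  have hf : f ≠ 0 := by
    rintro rfl
    exact hw (IsLocalization.mk'_zero _)
  obtain ⟨c, f₀, hc, hff₀, hf₀⟩ := exists_eq_C_mul f hf
  have hf₀u : IsUnit (algebraMap (MvPolynomial σ V) (Localization.AtPrime (gaussIdeal V σ)) f₀) :=
    IsLocalization.map_units (Localization.AtPrime (gaussIdeal V σ))
      (⟨f₀, hf₀⟩ : (gaussIdeal V σ).primeCompl)
  refine ⟨c, hf₀u.unit * hsu.unit⁻¹, ?_⟩
  have h3 : IsLocalization.mk' (Localization.AtPrime (gaussIdeal V σ)) f s =
      algebraMap (MvPolynomial σ V) (Localization.AtPrime (gaussIdeal V σ)) f * ↑hsu.unit⁻¹ := by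
    rw [← hspec, mul_assoc, IsUnit.mul_val_inv, mul_one]
  rw [h3, hff₀, map_mul, Units.val_mul,
    IsScalarTower.algebraMap_apply V (MvPolynomial σ V) (Localization.AtPrime (gaussIdeal V σ)),
    MvPolynomial.algebraMap_eq]
  simp only [IsUnit.unit_spec]
  ring

theorem gauss_injective :
    Function.Injective (algebraMap V (Localization.AtPrime (gaussIdeal V σ))) := by
  intro a b h
  rw [IsScalarTower.algebraMap_apply V (MvPolynomial σ V) (Localization.AtPrime (gaussIdeal V σ)),
    IsScalarTower.algebraMap_apply V (MvPolynomial σ V) (Localization.AtPrime (gaussIdeal V σ))] at h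
  have h1 := IsLocalization.injective (Localization.AtPrime (gaussIdeal V σ))
    (gaussIdeal V σ).primeCompl_le_nonZeroDivisors h
  rw [MvPolynomial.algebraMap_eq] at h1
  exact MvPolynomial.C_injective σ V h1

instance gauss_valuationRing : ValuationRing (Localization.AtPrime (gaussIdeal V σ)) := by
  rw [ValuationRing.iff_dvd_total]
  refine ⟨fun s s' => ?_⟩
  by_cases hs : s = 0
  · exact Or.inr (hs ▸ dvd_zero _)
  by_cases hs' : s' = 0
  · exact Or.inl (hs' ▸ dvd_zero _)
  obtain ⟨a, u, rfl⟩ := gauss_unit_mul V σ s hs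
  obtain ⟨a', u', rfl⟩ := gauss_unit_mul V σ s' hs'
  rcases ValuationRing.dvd_total a a' with hd | hd
  · left
    exact (Units.mul_left_dvd).mpr (Dvd.dvd.mul_left (map_dvd (algebraMap V _) hd) _)
  · right
    exact (Units.mul_left_dvd).mpr (Dvd.dvd.mul_left (map_dvd (algebraMap V _) hd) _)

end Gauss

section Smooth

variable (V : Type u) [CommRing V] [IsDomain V] [ValuationRing V]
  (A : Type u) [CommRing A] [IsDomain A] [Algebra V A] [Algebra.Smooth V A]
  (p : Ideal A) [p.IsPrime]

theorem smooth_main
    (hp : p ∈ ((maximalIdeal V).map (algebraMap V A)).minimalPrimes) :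
    ValuationRing (Localization.AtPrime p) ∧
      Function.Injective (algebraMap V (Localization.AtPrime p)) ∧
      IsLocalHom (algebraMap V (Localization.AtPrime p)) ∧
      ∀ x : Localization.AtPrime p, x ≠ 0 →
        ∃ (v : V) (w : (Localization.AtPrime p)ˣ),
          x = algebraMap V (Localization.AtPrime p) v * w := by
  haveI : Algebra.FormallySmooth A (Localization.AtPrime p) :=
    Algebra.FormallySmooth.of_isLocalization p.primeCompl
  haveI : Algebra.IsSmoothAt V p := Algebra.FormallySmooth.comp V A (Localization.AtPrime p)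
  obtain ⟨f, hfp, n, alg, htower, hse⟩ :=
    Algebra.IsSmoothAt.exists_isStandardEtale_mvPolynomial (R := V) (p := p)
  let R := MvPolynomial (Fin n) V
  let B := Localization.Away f
  haveI : Algebra.Etale R B := inferInstance
  have disj : Disjoint (Submonoid.powers f : Set A) (p : Set A) :=
    (Ideal.disjoint_powers_iff_notMem_of_isPrime _).mpr hfp
  haveI hqprime : (p.map (algebraMap A B)).IsPrime :=
    IsLocalization.isPrime_of_isPrime_disjoint (.powers f) _ _ ‹_› disj
  let q : Ideal B := p.map (algebraMap A B)
  have hqp : q.comap (algebraMap A B) = p :=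
    IsLocalization.under_map_of_isPrime_disjoint (.powers f) _ ‹_› disj
  have hVB : ∀ v : V, algebraMap R B (MvPolynomial.C v) = algebraMap A B (algebraMap V A v) := by
    intro v
    rw [← MvPolynomial.algebraMap_eq, ← IsScalarTower.algebraMap_apply V R B,
      ← IsScalarTower.algebraMap_apply V A B]
  -- `q ∩ R` is the Gauss prime
  have hle : gaussIdeal V (Fin n) ≤ q.comap (algebraMap R B) := by
    rw [gaussIdeal, Ideal.map_le_iff_le_comap]
    intro v hv
    rw [Ideal.mem_comap, Ideal.mem_comap, hVB]
    exact Ideal.mem_map_of_mem _ (hp.1.2 (Ideal.mem_map_of_mem _ hv))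
  have hP : q.comap (algebraMap R B) = gaussIdeal V (Fin n) := by
    haveI : q.LiesOver (q.under R) := ⟨rfl⟩
    obtain ⟨q₀, hq₀q, hq₀prime, hq₀over⟩ :=
      Ideal.exists_ideal_le_liesOver_of_le (p := gaussIdeal V (Fin n)) (q := q.under R) q hle
    haveI := hq₀prime
    have hq₀ : q₀.under R = gaussIdeal V (Fin n) := (hq₀over.over).symm
    let p' : Ideal A := q₀.comap (algebraMap A B)
    have hp'le : p' ≤ p := by
      rw [← hqp]
      exact Ideal.comap_mono hq₀q
    have hmp' : (maximalIdeal V).map (algebraMap V A) ≤ p' := by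
      rw [Ideal.map_le_iff_le_comap]
      intro v hv
      rw [Ideal.mem_comap, Ideal.mem_comap, ← hVB]
      have : MvPolynomial.C v ∈ q₀.under R := by
        rw [hq₀]
        exact Ideal.mem_map_of_mem _ hv
      exact this
    have hpp' : p ≤ p' := hp.2 ⟨Ideal.comap_isPrime _ _, hmp'⟩ hp'le
    have hq₀eq : q₀ = q := by
      rw [← IsLocalization.map_under (.powers f) B q₀]
      change p'.map (algebraMap A B) = p.map (algebraMap A B)
      rw [le_antisymm hp'le hpp']
    rw [← hq₀, hq₀eq]
  obtain ⟨⟨hDq, hVq⟩, hkey⟩ := ValEtaleLoc.main R B q (gaussIdeal V (Fin n)) hP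
  -- transport to `A_p`
  haveI hloc : IsLocalization.AtPrime (Localization.AtPrime q) p := by
    convert IsLocalization.isLocalization_isLocalization_atPrime_isLocalization
      (.powers f) (Localization.AtPrime q) q
    exact hqp.symm
  let e : Localization.AtPrime q ≃ₐ[A] Localization.AtPrime p :=
    IsLocalization.algEquiv p.primeCompl _ _
  have hVA : Function.Injective (algebraMap V A) := ValEtale.algebraMap_injective_of_flat V A
  refine ⟨?_, ?_, ⟨?_⟩, ?_⟩
  · rw [ValuationRing.iff_dvd_total]
    have htot := (ValuationRing.iff_dvd_total (R := Localization.AtPrime q)).mp hVq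
    refine ⟨fun x y => ?_⟩
    rcases htot.total (e.symm x) (e.symm y) with h | h
    · left
      have := map_dvd e h
      simpa using this
    · right
      have := map_dvd e h
      simpa using this
  · rw [IsScalarTower.algebraMap_eq V A (Localization.AtPrime p)]
    exact (IsLocalization.injective (Localization.AtPrime p)
      p.primeCompl_le_nonZeroDivisors).comp hVA
  · intro v hv
    by_contra hnv
    have h1 : v ∈ maximalIdeal V := (mem_maximalIdeal v).mpr hnv
    have h2 : algebraMap V A v ∈ p := hp.1.2 (Ideal.mem_map_of_mem _ h1)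
    have h3 : algebraMap A (Localization.AtPrime p) (algebraMap V A v) ∈
        maximalIdeal (Localization.AtPrime p) := by
      rw [← Localization.AtPrime.map_eq_maximalIdeal]
      exact Ideal.mem_map_of_mem _ h2
    rw [← IsScalarTower.algebraMap_apply] at h3
    exact (mem_maximalIdeal _).mp h3 hv
  · intro x hx
    have hx' : e.symm x ≠ 0 := fun h => hx (e.symm.injective (h.trans (map_zero _).symm))
    obtain ⟨r, u, hu⟩ := hkey (e.symm x) hx'
    have hr : r ≠ 0 := by
      rintro rfl
      rw [map_zero, mul_zero] at hu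
      exact hx' hu
    obtain ⟨c, f₀, hc, hrf₀, hf₀⟩ := exists_eq_C_mul r hr
    have hf₀q : algebraMap R B f₀ ∉ q := by
      intro h
      apply hf₀
      rw [← hP]
      exact h
    have hf₀u : IsUnit (algebraMap R (Localization.AtPrime q) f₀) := by
      rw [IsScalarTower.algebraMap_apply R B (Localization.AtPrime q)]
      exact IsLocalization.map_units (Localization.AtPrime q)
        (⟨algebraMap R B f₀, hf₀q⟩ : q.primeCompl)
    have hCc : algebraMap R (Localization.AtPrime q) (MvPolynomial.C c) =
        algebraMap A (Localization.AtPrime q) (algebraMap V A c) := by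
      rw [IsScalarTower.algebraMap_apply R B (Localization.AtPrime q), hVB,
        ← IsScalarTower.algebraMap_apply A B (Localization.AtPrime q)]
    have h3 := congrArg e hu
    rw [e.apply_symm_apply, hrf₀, map_mul, map_mul, map_mul, hCc, e.commutes,
      ← IsScalarTower.algebraMap_apply V A (Localization.AtPrime p)] at h3
    refine ⟨c, Units.map (e : Localization.AtPrime q →* Localization.AtPrime p) (u * hf₀u.unit),
      ?_⟩
    rw [h3]
    simp only [Units.coe_map, MonoidHom.coe_coe, Units.val_mul, IsUnit.unit_spec, map_mul]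
    ring

end Smooth

end Groth.Agent.Lib.Seat69.ValSmooth
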