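import Mathlib
import Groth.Agent.Lib.Seat69CurveRing
import Groth.Agent.Lib.Seat69LatDual

/-!
# Seat69: the value set of the canonical dual of a lattice in `k[[t]]`

`A ⊆ k[[t]]` a closed subalgebra with `k[[t]]` finite over `A`, `ω ⊆ k[[t]]` a finitely generated
`A`-submodule containing `1` of injective dimension `≤ 1`.

* `isCanon_map` : the image of `ω` in the fraction field is a canonical module
* `mem_of_mul_mem` : `u ω ⊆ ω ⇒ u ∈ A`
* `le_of_forall_mul` : lattices `1 ∈ B ≤ A'` with `(ω : B) ⊆ (ω : A')` satisfy `A' ≤ B`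
* `valueSet_dual` : the orders of `u` with `u M ⊆ ω` are the `n` with `n ≥ c` or `c - 1 - n` not a
  value of `M`
-/

set_option linter.style.haveILetI false

namespace Groth.Agent.Lib.Seat69.ValueDual

open PowerSeries CategoryTheory Groth.Agent.Lib.Seat69.PowerSeriesSub
  Groth.Agent.Lib.Seat69.CurveRing Groth.Agent.Lib.Seat69.CanonRefl
  Groth.Agent.Lib.Seat69.CanonExt Groth.Agent.Lib.Seat69.Gor1 Groth.Agent.Lib.Seat69.LatDual

universe u

variable {k : Type u} [Field k] (A : Subalgebra k (PowerSeries k))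

/-- the inclusion of `k[[t]]` into its fraction field, as an `A`-linear map -/
noncomputable def ι : PowerSeries k →ₗ[↥A] FractionRing (PowerSeries k) :=
  (Algebra.linearMap (PowerSeries k) (FractionRing (PowerSeries k))).restrictScalars ↥A

theorem ι_apply (f : PowerSeries k) :
    ι A f = algebraMap (PowerSeries k) (FractionRing (PowerSeries k)) f := rfl

theorem ι_injective : Function.Injective (ι A) :=
  IsFractionRing.injective (PowerSeries k) (FractionRing (PowerSeries k))

theorem ι_mul (f g : PowerSeries k) : ι A (f * g) = ι A f * ι A g := by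
  rw [ι_apply, ι_apply, ι_apply, map_mul]

theorem ι_mem_map {N : Submodule ↥A (PowerSeries k)} {f : PowerSeries k} :
    ι A f ∈ N.map (ι A) ↔ f ∈ N := by
  constructor
  · rintro ⟨g, hg, hgf⟩
    rwa [← ι_injective A hgf]
  · intro h
    exact Submodule.mem_map_of_mem h

theorem map_le_map_iff {N N' : Submodule ↥A (PowerSeries k)} :
    N.map (ι A) ≤ N'.map (ι A) ↔ N ≤ N' :=
  Submodule.map_le_map_iff_of_injective (ι_injective A) N N'

section Canon

variable (hA : Module.Finite ↥A (PowerSeries k)) (hcl : IsClosedSub A) (c : ℕ)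
  (hc : ∀ n : ℕ, c ≤ n → ∃ f ∈ A, PowerSeries.order f = n)
  (ω : Submodule ↥A (PowerSeries k)) (hω1 : (1 : PowerSeries k) ∈ ω) (hωfg : ω.FG)
  (hωinj : HasInjectiveDimensionLT (ModuleCat.of ↥A ↥ω) 2)

include hA hcl hc hω1 hωfg hωinj in
/-- the image of `ω` in the fraction field is a canonical module -/
theorem isCanon_map :
    haveI := isFractionRing A hcl c hc (FractionRing (PowerSeries k))
    IsCanon ↥A ↥(ω.map (ι A)) := by
  haveI := isFractionRing A hcl c hc (FractionRing (PowerSeries k))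
  haveI := isLocalRing A hcl
  haveI := isNoetherianRing A hA hcl c hc
  have hdim := ringKrullDim_eq_one A hA hcl c hc
  have hω'0 : ω.map (ι A) ≠ ⊥ := by
    intro h
    have h1 : ι A 1 ∈ ω.map (ι A) := Submodule.mem_map_of_mem hω1
    rw [h, Submodule.mem_bot] at h1
    have h2 : (1 : PowerSeries k) = 0 := ι_injective A (by rw [h1, map_zero])
    exact one_ne_zero h2
  have hω'fg : (ω.map (ι A)).FG := hωfg.map _
  have eiso : ModuleCat.of ↥A ↥ω ≅ ModuleCat.of ↥A ↥(ω.map (ι A)) :=
    LinearEquiv.toModuleIso (Submodule.equivMapOfInjective (ι A) (ι_injective A) ω)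
  have hinj' : HasInjectiveDimensionLT (ModuleCat.of ↥A ↥(ω.map (ι A))) 2 :=
    haveI := hωinj
    hasInjectiveDimensionLT_of_iso eiso 2
  have hvan : Groth.Agent.Lib.Seat69.CanonEnd.Vanishing (ω.map (ι A)) :=
    van_of_hasInjectiveDimensionLT _ hinj'
  have hK : NoZeroSMulDivisors ↥A (FractionRing (PowerSeries k)) :=
    Groth.Agent.Lib.Seat69.CanonEnd.nzsd_K
  exact
    { finite := Module.Finite.iff_fg.mpr hω'fg
      tf := Groth.Agent.Lib.Seat69.CanonEnd.nzsd_submodule _
      nontriv := (Submodule.nontrivial_iff_ne_bot).mpr hω'0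
      van := hvan
      end_eq := Groth.Agent.Lib.Seat69.CanonEnd.end_omega hdim _ hω'0 hω'fg hvan }

include hA hcl hc hω1 hωfg hωinj in
/-- `u ω ⊆ ω ⇒ u ∈ A` -/
theorem mem_of_mul_mem (u : PowerSeries k) (hu : ∀ w ∈ ω, u * w ∈ ω) : u ∈ A := by
  haveI := isFractionRing A hcl c hc (FractionRing (PowerSeries k))
  have hW := isCanon_map A hA hcl c hc ω hω1 hωfg hωinj
  have hmem : ι A u ∈ ω.map (ι A) / ω.map (ι A) := by
    rw [Submodule.mem_div_iff_forall_mul_mem]
    rintro _ ⟨w, hw, rfl⟩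
    rw [← ι_mul]
    exact Submodule.mem_map_of_mem (hu w hw)
  obtain ⟨a, ha⟩ := hW.end_eq (mulHom (ω.map (ι A)) (ω.map (ι A)) ⟨ι A u, hmem⟩)
  have h1 := congrArg Subtype.val (ha ⟨ι A 1, Submodule.mem_map_of_mem hω1⟩)
  have h2 : ι A u * ι A 1 = a • ι A 1 := h1
  rw [← ι_mul, mul_one, ← map_smul] at h2
  have h3 : u = a • (1 : PowerSeries k) := ι_injective A h2
  rw [h3, smul_eq, mul_one]
  exact a.2

include hA hcl hc hω1 hωfg hωinj in
/-- lattices `1 ∈ B ≤ A'` with `(ω : B) ⊆ (ω : A')` satisfy `A' ≤ B` -/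
theorem le_of_forall_mul (B A' : Submodule ↥A (PowerSeries k)) (hB1 : (1 : PowerSeries k) ∈ B)
    (hBA : B ≤ A')
    (h : ∀ u : PowerSeries k, (∀ b ∈ B, u * b ∈ ω) → ∀ a ∈ A', u * a ∈ ω) : A' ≤ B := by
  haveI := isFractionRing A hcl c hc (FractionRing (PowerSeries k))
  haveI := isNoetherianRing A hA hcl c hc
  haveI := isNoetherian_powerSeries A hA hcl c hc
  have hW := isCanon_map A hA hcl c hc ω hω1 hωfg hωinj
  have hBfg : (B.map (ι A)).FG := (IsNoetherian.noetherian B).map _
  have hA'fg : (A'.map (ι A)).FG := (IsNoetherian.noetherian A').map _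
  have hne : ∀ N : Submodule ↥A (PowerSeries k), (1 : PowerSeries k) ∈ N → N.map (ι A) ≠ ⊥ := by
    intro N hN h0
    have h1 : ι A 1 ∈ N.map (ι A) := Submodule.mem_map_of_mem hN
    rw [h0, Submodule.mem_bot] at h1
    have h2 : (1 : PowerSeries k) = 0 := ι_injective A (by rw [h1, map_zero])
    exact one_ne_zero h2
  have hB0 := hne B hB1
  have hA'0 := hne A' (hBA hB1)
  have hdiv : ω.map (ι A) / B.map (ι A) ≤ ω.map (ι A) / A'.map (ι A) := by
    intro x hx
    have hx1 : x * ι A 1 ∈ ω.map (ι A) :=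
      Submodule.mem_div_iff_forall_mul_mem.mp hx _ (Submodule.mem_map_of_mem hB1)
    rw [ι_apply, map_one, mul_one] at hx1
    obtain ⟨u, -, rfl⟩ := hx1
    rw [Submodule.mem_div_iff_forall_mul_mem]
    rintro _ ⟨a, ha, rfl⟩
    rw [← ι_mul]
    refine Submodule.mem_map_of_mem (h u ?_ a ha)
    intro b hb
    have h1 := Submodule.mem_div_iff_forall_mul_mem.mp hx _ (Submodule.mem_map_of_mem hb)
    rw [← ι_mul] at h1
    exact (ι_mem_map A).mp h1
  have h1 := div_anti (ω.map (ι A)) hdiv
  rw [div_div_cancel _ hW _ hA'fg hA'0, div_div_cancel _ hW _ hBfg hB0] at h1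
  exact (map_le_map_iff A).mp h1

end Canon

section Main

variable [IsAlgClosed k] (hA : Module.Finite ↥A (PowerSeries k)) (hcl : IsClosedSub A)
  (hsing : A ≠ ⊤) (Γ : Set ℕ) (hΓ : ∀ n : ℕ, n ∈ Γ ↔ ∃ f ∈ A, PowerSeries.order f = n) (c : ℕ)
  (hc : ∀ n : ℕ, c ≤ n → n ∈ Γ) (hc0 : c ≠ 0) (hc1 : c - 1 ∉ Γ)
  (ω : Submodule ↥A (PowerSeries k)) (hω1 : (1 : PowerSeries k) ∈ ω) (hωfg : ω.FG)
  (hωinj : HasInjectiveDimensionLT (ModuleCat.of ↥A ↥ω) 2)

omit [IsAlgClosed k] in
include hcl hΓ hc hω1 in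
theorem mem_of_le_order' (g : PowerSeries k) (hg : (c : ℕ∞) ≤ order g) : g ∈ ω := by
  have hc' : ∀ n : ℕ, c ≤ n → ∃ f ∈ A, PowerSeries.order f = n :=
    fun n hn => (hΓ n).mp (hc n hn)
  have hgA : g ∈ A := mem_of_le_order A hcl c hc' hg
  have h1 : g = (⟨g, hgA⟩ : ↥A) • (1 : PowerSeries k) := by
    rw [smul_eq, mul_one]
  rw [h1]
  exact ω.smul_mem _ hω1

include hA hcl hsing hΓ hc hc0 hc1 hω1 hωfg hωinj in
theorem le_order_of_forall (u : PowerSeries k) (hu : ∀ h : PowerSeries k, u * h ∈ ω) :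
    (c : ℕ∞) ≤ order u := by
  have hc' : ∀ n : ℕ, c ≤ n → ∃ f ∈ A, PowerSeries.order f = n :=
    fun n hn => (hΓ n).mp (hc n hn)
  refine (Groth.Agent.S15016.result k A hA hcl hsing Γ hΓ c hc hc0 hc1 u).mp ?_
  intro g
  apply mem_of_mul_mem A hA hcl c hc' ω hω1 hωfg hωinj
  intro w _
  have h1 : g * u * w = u * (g * w) := by ring
  rw [h1]
  exact hu _

include hA hcl hsing hΓ hc hc0 hc1 hω1 hωfg hωinj in
theorem order_ne_pred (g : PowerSeries k) (hg : g ∈ ω) : order g ≠ ((c - 1 : ℕ) : ℕ∞) := by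
  intro hord
  have hall : ∀ h : PowerSeries k, g * h ∈ ω := by
    intro h
    have h1 : g * h = (algebraMap k ↥A (constantCoeff h)) • g + g * (h - C (constantCoeff h)) := by
      rw [smul_eq]
      have : ((algebraMap k ↥A (constantCoeff h) : ↥A) : PowerSeries k) = C (constantCoeff h) :=
        rfl
      rw [this]
      ring
    rw [h1]
    refine ω.add_mem (ω.smul_mem _ hg) ?_
    apply mem_of_le_order' A hcl Γ hΓ c hc ω hω1
    have h2 : 1 ≤ order (h - C (constantCoeff h)) := by
      rw [← constantCoeff_eq_zero_iff, map_sub, constantCoeff_C, sub_self]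
    refine le_trans ?_ (le_order_mul _ _)
    rw [hord]
    have h3 : (c : ℕ∞) = ((c - 1 : ℕ) : ℕ∞) + 1 := by
      have : c = c - 1 + 1 := by omega
      exact_mod_cast this
    rw [h3]
    exact add_le_add_right h2 _
  have h4 := le_order_of_forall A hA hcl hsing Γ hΓ c hc hc0 hc1 ω hω1 hωfg hωinj g hall
  rw [hord] at h4
  have h5 : c ≤ c - 1 := by exact_mod_cast h4
  omega

include hA hcl hsing hΓ hc hc0 hc1 hω1 hωfg hωinj in
/-- the orders of `u` with `u M ⊆ ω` -/
theorem valueSet_dual (M : Submodule ↥A (PowerSeries k)) (hM1 : (1 : PowerSeries k) ∈ M) (n : ℕ) :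
    (∃ u : PowerSeries k, PowerSeries.order u = n ∧ ∀ m ∈ M, u * m ∈ ω) ↔
      (c ≤ n ∨ ¬ ∃ m ∈ M, PowerSeries.order m = ((c - 1 - n : ℕ) : ℕ∞)) := by
  have hc' : ∀ n : ℕ, c ≤ n → ∃ f ∈ A, PowerSeries.order f = n :=
    fun n hn => (hΓ n).mp (hc n hn)
  have hF1 := mem_of_le_order' A hcl Γ hΓ c hc ω hω1
  constructor
  · rintro ⟨u, hun, huM⟩
    by_contra hcon
    push Not at hcon
    obtain ⟨hlt, m, hm, hmord⟩ := hcon
    have h1 : order (u * m) = ((c - 1 : ℕ) : ℕ∞) := by
      rw [order_mul, hun, hmord]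
      have : n + (c - 1 - n) = c - 1 := by omega
      exact_mod_cast this
    exact order_ne_pred A hA hcl hsing Γ hΓ c hc hc0 hc1 ω hω1 hωfg hωinj _ (huM m hm) h1
  · rintro (hcn | hno)
    · refine ⟨(X : PowerSeries k) ^ n, order_X_pow n, fun m _ => hF1 _ ?_⟩
      refine le_trans ?_ (le_order_mul _ _)
      rw [order_X_pow]
      exact le_trans (by exact_mod_cast hcn) le_self_add
    · by_cases hcn : c ≤ n
      · refine ⟨(X : PowerSeries k) ^ n, order_X_pow n, fun m _ => hF1 _ ?_⟩
        refine le_trans ?_ (le_order_mul _ _)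
        rw [order_X_pow]
        exact le_trans (by exact_mod_cast hcn) le_self_add
      push Not at hcn
      set e := c - 1 - n with he
      have hTanti : CurveRing.T A (e + 1) ≤ CurveRing.T A e := by
        intro g hg
        rw [mem_T] at hg ⊢
        exact le_trans (by exact_mod_cast Nat.le_succ e) hg
      have hB1 : (1 : PowerSeries k) ∈ M ⊔ CurveRing.T A (e + 1) := Submodule.mem_sup_left hM1
      have hBA : M ⊔ CurveRing.T A (e + 1) ≤ M ⊔ CurveRing.T A e := sup_le_sup_left hTanti M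
      have hnot : ¬ (M ⊔ CurveRing.T A e ≤ M ⊔ CurveRing.T A (e + 1)) := by
        intro hle
        have hX : (X : PowerSeries k) ^ e ∈ M ⊔ CurveRing.T A e := by
          refine Submodule.mem_sup_right ?_
          rw [mem_T, order_X_pow]
        obtain ⟨m, hm, g, hg, hmg⟩ := Submodule.mem_sup.mp (hle hX)
        apply hno
        refine ⟨m, hm, ?_⟩
        have hm' : m = (X : PowerSeries k) ^ e - g := by
          rw [← hmg]
          ring
        rw [mem_T] at hg
        have hgcoeff : ∀ i, i ≤ e → coeff i g = 0 := by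
          intro i hi
          apply coeff_of_lt_order
          refine lt_of_lt_of_le ?_ hg
          exact_mod_cast Nat.lt_succ_of_le hi
        rw [hm', order_eq_nat]
        constructor
        · rw [map_sub, coeff_X_pow, if_pos rfl, hgcoeff e le_rfl, sub_zero]
          exact one_ne_zero
        · intro i hi
          rw [map_sub, coeff_X_pow, if_neg (ne_of_lt hi), hgcoeff i (le_of_lt hi), sub_zero]
      have key : ¬ ∀ u : PowerSeries k, (∀ b ∈ M ⊔ CurveRing.T A (e + 1), u * b ∈ ω) →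
          ∀ a ∈ M ⊔ CurveRing.T A e, u * a ∈ ω := fun h =>
        hnot (le_of_forall_mul A hA hcl c hc' ω hω1 hωfg hωinj _ _ hB1 hBA h)
      push Not at key
      obtain ⟨u, huB, a, haA', hua⟩ := key
      have huM : ∀ m ∈ M, u * m ∈ ω := fun m hm => huB m (Submodule.mem_sup_left hm)
      refine ⟨u, ?_, huM⟩
      have hu0 : u ≠ 0 := by
        rintro rfl
        apply hua
        rw [zero_mul]
        exact zero_mem _
      obtain ⟨j, hj⟩ : ∃ j : ℕ, order u = j := by
        have h1 := order_finite_iff_ne_zero.mpr hu0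
        exact ⟨(order u).toNat, (ENat.natCast_toNat (ne_of_lt h1)).symm⟩
      -- lower bound
      have hlow : c ≤ j + (e + 1) := by
        have h1 : (c : ℕ∞) ≤ order (u * (X : PowerSeries k) ^ (e + 1)) := by
          apply le_order_of_forall A hA hcl hsing Γ hΓ c hc hc0 hc1 ω hω1 hωfg hωinj
          intro h
          rw [mul_assoc]
          refine huB _ (Submodule.mem_sup_right ?_)
          rw [mem_T]
          refine le_trans ?_ (le_order_mul _ _)
          rw [order_X_pow]
          exact le_self_add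
        rw [order_mul, order_X_pow, hj] at h1
        exact_mod_cast h1
      -- upper bound
      have hup : j ≤ n := by
        by_contra hjn
        push Not at hjn
        obtain ⟨m, hm, g, hg, rfl⟩ := Submodule.mem_sup.mp haA'
        apply hua
        rw [mul_add]
        refine ω.add_mem (huM m hm) (hF1 _ ?_)
        rw [mem_T] at hg
        rw [order_mul, hj]
        have h2 : (c : ℕ∞) ≤ (j : ℕ∞) + (e : ℕ∞) := by
          have : c ≤ j + e := by omega
          exact_mod_cast this
        exact le_trans h2 (add_le_add_right hg _)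
      rw [hj]
      have : j = n := by omega
      rw [this]

end Main

end Groth.Agent.Lib.Seat69.ValueDual
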