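import Mathlib

/-!
# Frobenius is nilpotent on `W(𝔞)` (seat 69)

Let `φ : S →+* R` be a ring map, `p` nilpotent in `S`, and suppose `a ^ N = 0` for every
`a ∈ ker φ`.  Then some power of the Witt vector Frobenius kills `ker (W(φ))`.
-/

set_option autoImplicit false

namespace Groth.Agent.Lib.Seat69.WittFrobNil

open MvPolynomial

variable (p : ℕ) [hp : Fact p.Prime]

/-- the auxiliary Frobenius polynomial has no constant term -/
theorem constantCoeff_frobeniusPolyAux (n : ℕ) :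
    constantCoeff (WittVector.frobeniusPolyAux p n) = 0 := by
  have h1 : WittVector.coeff (WittVector.frobenius (0 : WittVector p ℤ)) n = 0 := by
    rw [map_zero, WittVector.zero_coeff]
  rw [WittVector.coeff_frobenius] at h1
  have h2 : (aeval (0 : WittVector p ℤ).coeff) (WittVector.frobeniusPoly p n) =
      constantCoeff (WittVector.frobeniusPoly p n) := by
    have : (0 : WittVector p ℤ).coeff = 0 := by
      funext i
      exact WittVector.zero_coeff p ℤ i
    rw [this, aeval_zero]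
    rfl
  rw [h2, WittVector.frobeniusPoly] at h1
  simp only [map_add, map_pow, constantCoeff_X, map_mul, constantCoeff_C] at h1
  rw [zero_pow hp.out.ne_zero, zero_add] at h1
  rcases mul_eq_zero.mp h1 with h | h
  · exact absurd h (by exact_mod_cast hp.out.ne_zero)
  · exact h

variable {S : Type*} [CommRing S]

/-- evaluating a polynomial without constant term at elements of an ideal lands in the ideal -/
theorem aeval_mem_of_constantCoeff_eq_zero (I : Ideal S) (x : ℕ → S) (hx : ∀ i, x i ∈ I)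
    (P : MvPolynomial ℕ ℤ) (hP : constantCoeff P = 0) : aeval x P ∈ I := by
  rw [← Ideal.Quotient.eq_zero_iff_mem]
  have h1 : (Ideal.Quotient.mk I) (aeval x P) =
      eval₂Hom ((Ideal.Quotient.mk I).comp (algebraMap ℤ S)) (fun i => Ideal.Quotient.mk I (x i)) P :=
    map_aeval _ _ _
  have h2 : (fun i => Ideal.Quotient.mk I (x i)) = (0 : ℕ → S ⧸ I) := by
    funext i
    exact Ideal.Quotient.eq_zero_iff_mem.mpr (hx i)
  rw [h1, h2, eval₂Hom_zero_apply, hP, map_zero]

/-- the ideals `E j = (p^i a^(p^(j-i)) : a ∈ 𝔞, i ≤ j)` -/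
def E (𝔞 : Ideal S) (j : ℕ) : Ideal S :=
  Ideal.span {y | ∃ (a : S) (i : ℕ), a ∈ 𝔞 ∧ i ≤ j ∧ y = (p : S) ^ i * a ^ p ^ (j - i)}

omit hp in
theorem E_zero (𝔞 : Ideal S) : E p 𝔞 0 = 𝔞 := by
  apply le_antisymm
  · rw [E, Ideal.span_le]
    rintro y ⟨a, i, ha, hi, rfl⟩
    obtain rfl : i = 0 := by omega
    simpa using ha
  · intro a ha
    exact Ideal.subset_span ⟨a, 0, ha, le_rfl, by simp⟩

omit hp in
theorem p_mul_mem_E (𝔞 : Ideal S) (j : ℕ) (x : S) (hx : x ∈ E p 𝔞 j) :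
    (p : S) * x ∈ E p 𝔞 (j + 1) := by
  rw [E] at hx
  refine Submodule.span_induction ?_ ?_ ?_ ?_ hx
  · rintro y ⟨a, i, ha, hi, rfl⟩
    refine Ideal.subset_span ⟨a, i + 1, ha, by omega, ?_⟩
    rw [show j + 1 - (i + 1) = j - i by omega, pow_succ]
    ring
  · simp
  · intro x y _ _ hx hy
    rw [mul_add]
    exact add_mem hx hy
  · intro c x _ hx
    rw [smul_eq_mul, mul_left_comm]
    exact Ideal.mul_mem_left _ c hx

theorem pow_p_mem_E (𝔞 : Ideal S) (j : ℕ) (x : S) (hx : x ∈ E p 𝔞 j) :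
    x ^ p ∈ E p 𝔞 (j + 1) := by
  have key : x ∈ E p 𝔞 j ∧ x ^ p ∈ E p 𝔞 (j + 1) := by
    rw [E] at hx
    refine Submodule.span_induction ?_ ?_ ?_ ?_ hx
    · rintro y ⟨a, i, ha, hi, rfl⟩
      refine ⟨Ideal.subset_span ⟨a, i, ha, hi, rfl⟩, ?_⟩
      have h1 : ((p : S) ^ i * a ^ p ^ (j - i)) ^ p =
          (p : S) ^ (i * p - i) * ((p : S) ^ i * a ^ p ^ (j + 1 - i)) := by
        rw [mul_pow, ← pow_mul, ← pow_mul, ← mul_assoc, ← pow_add,
          show j + 1 - i = (j - i) + 1 by omega, pow_succ p (j - i)]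
        congr 2
        have : i ≤ i * p := Nat.le_mul_of_pos_right i hp.out.pos
        omega
      rw [h1]
      exact Ideal.mul_mem_left _ _ (Ideal.subset_span ⟨a, i, ha, by omega, rfl⟩)
    · exact ⟨zero_mem _, by rw [zero_pow hp.out.ne_zero]; exact zero_mem _⟩
    · rintro x y _ _ ⟨hx1, hx2⟩ ⟨hy1, hy2⟩
      refine ⟨add_mem hx1 hy1, ?_⟩
      rw [add_pow_prime_eq hp.out]
      refine add_mem (add_mem hx2 hy2) ?_
      rw [mul_assoc, mul_assoc]
      have := p_mul_mem_E p 𝔞 j x hx1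
      rw [← mul_assoc]
      exact Ideal.mul_mem_right _ _ this
    · rintro c x _ ⟨hx1, hx2⟩
      refine ⟨Ideal.mul_mem_left _ c hx1, ?_⟩
      rw [smul_eq_mul, mul_pow]
      exact Ideal.mul_mem_left _ _ hx2
  exact key.2

theorem E_eq_bot (𝔞 : Ideal S) (m N : ℕ) (hm : (p : S) ^ m = 0) (hN : ∀ a ∈ 𝔞, a ^ N = 0)
    (j : ℕ) (hj : m + N ≤ j) : E p 𝔞 j = ⊥ := by
  rw [eq_bot_iff, E, Ideal.span_le]
  rintro y ⟨a, i, ha, hi, rfl⟩
  rw [SetLike.mem_coe, Ideal.mem_bot]
  by_cases him : m ≤ i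
  · rw [pow_eq_zero_of_le him hm, zero_mul]
  · have h1 : N ≤ p ^ (j - i) := by
      have : N ≤ j - i := by omega
      exact this.trans (Nat.lt_pow_self hp.out.one_lt).le
    rw [pow_eq_zero_of_le h1 (hN a ha), mul_zero]

/-- Frobenius moves `W(E j)` into `W(E (j+1))`. -/
theorem frobenius_coeff_mem (𝔞 : Ideal S) (j : ℕ) (x : WittVector p S)
    (hx : ∀ n, x.coeff n ∈ E p 𝔞 j) (n : ℕ) :
    (WittVector.frobenius x).coeff n ∈ E p 𝔞 (j + 1) := by
  rw [WittVector.coeff_frobenius, WittVector.frobeniusPoly, map_add, map_pow, aeval_X, map_mul]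
  refine add_mem (pow_p_mem_E p 𝔞 j _ (hx n)) ?_
  have h1 : aeval x.coeff (WittVector.frobeniusPolyAux p n) ∈ E p 𝔞 j :=
    aeval_mem_of_constantCoeff_eq_zero _ _ hx _ (constantCoeff_frobeniusPolyAux p n)
  have h2 : (aeval x.coeff) (C (p : ℤ) : MvPolynomial ℕ ℤ) = (p : S) := by
    rw [aeval_C]
    simp
  rw [h2]
  exact p_mul_mem_E p 𝔞 j _ h1

theorem iterate_frobenius_coeff_mem (𝔞 : Ideal S) (x : WittVector p S)
    (hx : ∀ n, x.coeff n ∈ 𝔞) (j : ℕ) :
    ∀ n, ((WittVector.frobenius : WittVector p S →+* WittVector p S)^[j] x).coeff n ∈ E p 𝔞 j := by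
  induction j with
  | zero =>
    intro n
    rw [E_zero]
    exact hx n
  | succ j ih =>
    intro n
    rw [Function.iterate_succ_apply']
    exact frobenius_coeff_mem p 𝔞 j _ ih n

/-- **Frobenius is nilpotent on the kernel of `W(φ)`.** -/
theorem exists_iterate_frobenius_eq_zero {R : Type*} [CommRing R] (φ : S →+* R)
    (hpn : IsNilpotent (p : S)) (N : ℕ) (hN : ∀ a : S, φ a = 0 → a ^ N = 0) :
    ∃ r : ℕ, ∀ x ∈ RingHom.ker (WittVector.map (p := p) φ),
      (WittVector.frobenius : WittVector p S →+* WittVector p S)^[r] x = 0 := by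
  obtain ⟨m, hm⟩ := hpn
  refine ⟨m + N, fun x hx => ?_⟩
  have hx' : ∀ n, x.coeff n ∈ RingHom.ker φ := by
    intro n
    rw [RingHom.mem_ker] at hx ⊢
    have := congrArg (fun y => WittVector.coeff y n) hx
    simpa [WittVector.map_coeff] using this
  have h1 := iterate_frobenius_coeff_mem p (RingHom.ker φ) x hx' (m + N)
  rw [E_eq_bot p (RingHom.ker φ) m N hm (fun a ha => hN a ha) (m + N) le_rfl] at h1
  ext n
  rw [WittVector.zero_coeff]
  exact h1 n

end Groth.Agent.Lib.Seat69.WittFrobNil
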