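import Groth.Agent.Lib.Seat69WittFrobNil

/-!
# Lifting homomorphisms commuting with Frobenius-semilinear isomorphisms (seat 69)

Abstract setting: `A` a commutative ring with an endomorphism `σ`, `P₁`, `P₂` free modules with
`σ`-semilinear endomorphisms `F₁`, `F₂`, where `F₁` carries a basis to a basis.  If `σ^r` kills an
ideal `J`, then a linear map commuting with `F` modulo a `σ`-stable ideal `𝔠 ≤ J` lifts to one
commuting with `F`, uniquely modulo `J`.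
-/

set_option autoImplicit false
universe u v w z

namespace Groth.Agent.Lib.Seat69.ZinkLift

variable {A : Type u} [CommRing A] (σ : A →+* A)
variable {P₁ : Type v} [AddCommGroup P₁] [Module A P₁]
variable {P₂ : Type w} [AddCommGroup P₂] [Module A P₂]
variable {ι₁ : Type z} [Finite ι₁]
variable (b₁ : Module.Basis ι₁ A P₁) (b₁' : Module.Basis ι₁ A P₁)
variable (F₁ : P₁ →ₛₗ[σ] P₁) (F₂ : P₂ →ₛₗ[σ] P₂)

/-- the operator `ω ↦ F₂ ∘ ω ∘ F₁⁻¹` on linear maps -/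
noncomputable def U : (P₁ →ₗ[A] P₂) →+ (P₁ →ₗ[A] P₂) where
  toFun ω := b₁'.constr A (fun i => F₂ (ω (b₁ i)))
  map_zero' := by
    apply b₁'.ext
    intro i
    simp
  map_add' ω ω' := by
    apply b₁'.ext
    intro i
    simp

omit [Finite ι₁] in
theorem U_apply_basis (ω : P₁ →ₗ[A] P₂) (i : ι₁) :
    U σ b₁ b₁' F₂ ω (b₁' i) = F₂ (ω (b₁ i)) := by
  simp [U]

variable (hb : ∀ i, b₁' i = F₁ (b₁ i))
include hb

omit [Finite ι₁] in
theorem U_apply_F (ω : P₁ →ₗ[A] P₂) (x : P₁) :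
    U σ b₁ b₁' F₂ ω (F₁ x) = F₂ (ω x) := by
  have h : (U σ b₁ b₁' F₂ ω).comp F₁ = F₂.comp ω := by
    apply b₁.ext
    intro i
    simp only [LinearMap.comp_apply]
    rw [← hb i, U_apply_basis]
  exact congrArg (fun f => f x) h

omit [Finite ι₁] in
theorem comm_iff_U_eq (α : P₁ →ₗ[A] P₂) :
    (∀ x, F₂ (α x) = α (F₁ x)) ↔ U σ b₁ b₁' F₂ α = α := by
  constructor
  · intro h
    apply b₁'.ext
    intro i
    rw [U_apply_basis, h, hb i]
  · intro h x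
    rw [← U_apply_F σ b₁ b₁' F₁ F₂ hb α x, h]

omit hb in
/-- semilinear maps move `I • ⊤` into `(I.map σ) • ⊤` -/
theorem F_mem (I : Ideal A) (y : P₂) (hy : y ∈ I • (⊤ : Submodule A P₂)) :
    F₂ y ∈ (I.map σ) • (⊤ : Submodule A P₂) := by
  refine Submodule.smul_induction_on hy ?_ ?_
  · intro a ha y _
    rw [map_smulₛₗ]
    exact Submodule.smul_mem_smul (Ideal.mem_map_of_mem σ ha) Submodule.mem_top
  · intro x y hx hy
    rw [map_add]
    exact add_mem hx hy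

omit hb [Finite ι₁] in
theorem U_mem (I : Ideal A) (ω : P₁ →ₗ[A] P₂) (hω : ∀ x, ω x ∈ I • (⊤ : Submodule A P₂)) (x : P₁) :
    U σ b₁ b₁' F₂ ω x ∈ (I.map σ) • (⊤ : Submodule A P₂) := by
  have h1 : ∀ i, U σ b₁ b₁' F₂ ω (b₁' i) ∈ (I.map σ) • (⊤ : Submodule A P₂) := by
    intro i
    rw [U_apply_basis]
    exact F_mem σ F₂ I _ (hω _)
  have h2 : LinearMap.range (U σ b₁ b₁' F₂ ω) ≤ (I.map σ) • (⊤ : Submodule A P₂) := by
    rw [LinearMap.range_eq_map, ← b₁'.span_eq, Submodule.map_span, Submodule.span_le]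
    rintro _ ⟨_, ⟨i, rfl⟩, rfl⟩
    exact h1 i
  exact h2 ⟨x, rfl⟩

omit hb [Finite ι₁] in
theorem iterate_U_mem (I : Ideal A) (ω : P₁ →ₗ[A] P₂) (hω : ∀ x, ω x ∈ I • (⊤ : Submodule A P₂))
    (s : ℕ) (x : P₁) :
    (U σ b₁ b₁' F₂)^[s] ω x ∈ (I.map (σ ^ s)) • (⊤ : Submodule A P₂) := by
  induction s generalizing x with
  | zero =>
    simp only [Function.iterate_zero, id_eq, pow_zero]
    have : I.map (1 : A →+* A) = I := Ideal.map_id I
    rw [this]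
    exact hω x
  | succ s ih =>
    rw [Function.iterate_succ_apply']
    have := U_mem σ b₁ b₁' F₂ (I.map (σ ^ s)) _ ih x
    have h2 : σ.comp (σ ^ s) = σ ^ (s + 1) := by
      rw [pow_succ']
      rfl
    rwa [Ideal.map_map, h2] at this

variable (J : Ideal A) (r : ℕ) (hr : ∀ x ∈ J, (σ ^ r) x = 0)
include hr

omit hb [Finite ι₁] in
/-- `U` is nilpotent on maps into `J • ⊤` -/
theorem iterate_U_eq_zero (ω : P₁ →ₗ[A] P₂) (hω : ∀ x, ω x ∈ J • (⊤ : Submodule A P₂)) :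
    (U σ b₁ b₁' F₂)^[r] ω = 0 := by
  ext x
  have h1 := iterate_U_mem σ b₁ b₁' F₂ J ω hω r x
  have h2 : J.map (σ ^ r) = ⊥ := by
    rw [Ideal.map_eq_bot_iff_le_ker]
    intro a ha
    exact hr a ha
  rw [h2, Submodule.bot_smul] at h1
  exact h1

omit [Finite ι₁] in
/-- **existence** -/
theorem exists_lift (𝔠 : Ideal A) (h𝔠 : 𝔠 ≤ J) (h𝔠σ : ∀ x ∈ 𝔠, σ x ∈ 𝔠)
    (α₀ : P₁ →ₗ[A] P₂)
    (hα₀ : ∀ x : P₁, F₂ (α₀ x) - α₀ (F₁ x) ∈ 𝔠 • (⊤ : Submodule A P₂)) :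
    ∃ α : P₁ →ₗ[A] P₂, (∀ x : P₁, α x - α₀ x ∈ 𝔠 • (⊤ : Submodule A P₂)) ∧
      ∀ x : P₁, F₂ (α x) = α (F₁ x) := by
  set UU := U σ b₁ b₁' F₂ with hUU
  set η : P₁ →ₗ[A] P₂ := UU α₀ - α₀ with hη
  have hη𝔠 : ∀ x, η x ∈ 𝔠 • (⊤ : Submodule A P₂) := by
    have h2 : LinearMap.range η ≤ 𝔠 • (⊤ : Submodule A P₂) := by
      rw [LinearMap.range_eq_map, ← b₁'.span_eq, Submodule.map_span, Submodule.span_le]
      rintro _ ⟨_, ⟨i, rfl⟩, rfl⟩
      show η (b₁' i) ∈ _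
      rw [hη, LinearMap.sub_apply, hUU, U_apply_basis, hb i]
      exact hα₀ _
    exact fun x => h2 ⟨x, rfl⟩
  have h𝔠map : ∀ s : ℕ, 𝔠.map (σ ^ s) ≤ 𝔠 := by
    intro s
    induction s with
    | zero =>
      rw [pow_zero]
      exact (Ideal.map_id 𝔠).le
    | succ s ih =>
      have h2 : σ.comp (σ ^ s) = σ ^ (s + 1) := by
        rw [pow_succ']
        rfl
      rw [← h2, ← Ideal.map_map]
      refine (Ideal.map_mono ih).trans ?_
      rw [Ideal.map_le_iff_le_comap]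
      exact fun x hx => h𝔠σ x hx
  have hiter : ∀ s x, UU^[s] η x ∈ 𝔠 • (⊤ : Submodule A P₂) := fun s x =>
    Submodule.smul_mono_left (h𝔠map s) (iterate_U_mem σ b₁ b₁' F₂ 𝔠 η hη𝔠 s x)
  have hzero : UU^[r] η = 0 :=
    iterate_U_eq_zero σ b₁ b₁' F₂ J r hr η
      (fun x => Submodule.smul_mono_left h𝔠 (hη𝔠 x))
  set ω : P₁ →ₗ[A] P₂ := ∑ s ∈ Finset.range r, UU^[s] η with hω
  have hUω : UU ω = ∑ s ∈ Finset.range r, UU^[s + 1] η := by
    rw [hω, map_sum]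
    refine Finset.sum_congr rfl fun s _ => ?_
    rw [Function.iterate_succ_apply']
  have hfix : ω = η + UU ω := by
    have h1 : ∑ s ∈ Finset.range (r + 1), UU^[s] η = ω + UU^[r] η := Finset.sum_range_succ _ _
    have h2 : ∑ s ∈ Finset.range (r + 1), UU^[s] η = UU ω + η := by
      rw [Finset.sum_range_succ', hUω]
      rfl
    rw [hzero, add_zero] at h1
    exact (h1.symm.trans h2).trans (add_comm _ _)
  refine ⟨α₀ + ω, fun x => ?_, ?_⟩
  · rw [LinearMap.add_apply, add_sub_cancel_left, hω, LinearMap.sum_apply]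
    exact Submodule.sum_mem _ fun s _ => hiter s x
  · rw [comm_iff_U_eq σ b₁ b₁' F₁ F₂ hb]
    show UU (α₀ + ω) = α₀ + ω
    rw [map_add]
    conv_rhs => rw [hfix]
    rw [hη]
    abel

omit [Finite ι₁] in
/-- **uniqueness** -/
theorem lift_unique (α₀ α α' : P₁ →ₗ[A] P₂)
    (h1 : ∀ x : P₁, α x - α₀ x ∈ J • (⊤ : Submodule A P₂))
    (h1' : ∀ x : P₁, α' x - α₀ x ∈ J • (⊤ : Submodule A P₂))
    (h2 : ∀ x : P₁, F₂ (α x) = α (F₁ x)) (h2' : ∀ x : P₁, F₂ (α' x) = α' (F₁ x)) : α = α' := by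
  rw [comm_iff_U_eq σ b₁ b₁' F₁ F₂ hb] at h2 h2'
  set UU := U σ b₁ b₁' F₂ with hUU
  have hω : ∀ x, (α - α') x ∈ J • (⊤ : Submodule A P₂) := by
    intro x
    have : (α - α') x = (α x - α₀ x) - (α' x - α₀ x) := by
      rw [LinearMap.sub_apply]
      abel
    rw [this]
    exact sub_mem (h1 x) (h1' x)
  have hfix : UU (α - α') = α - α' := by rw [map_sub, h2, h2']
  have hiter : ∀ s, UU^[s] (α - α') = α - α' := by
    intro s
    induction s with
    | zero => rfl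
    | succ s ih => rw [Function.iterate_succ_apply', ih, hfix]
  have := iterate_U_eq_zero σ b₁ b₁' F₂ J r hr (α - α') hω
  rw [hiter r] at this
  exact sub_eq_zero.mp this

end Groth.Agent.Lib.Seat69.ZinkLift

namespace Groth.Agent.Lib.Seat69.ZinkLift

/-! ### Specialisation to Witt vectors -/

section Witt

variable (p : ℕ) [Fact p.Prime] (S R : Type u) [CommRing S] [CommRing R] (φ : S →+* R)

theorem frobenius_mem_ker_map (x : WittVector p S)
    (hx : x ∈ RingHom.ker (WittVector.map (p := p) φ)) :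
    WittVector.frobenius x ∈ RingHom.ker (WittVector.map (p := p) φ) := by
  rw [RingHom.mem_ker] at hx ⊢
  rw [(WittVector.frobenius_isPoly p).map φ x, hx, map_zero]

variable {P₁ : Type v} [AddCommGroup P₁] [Module (WittVector p S) P₁]
variable {P₂ : Type w} [AddCommGroup P₂] [Module (WittVector p S) P₂]
variable {ι₁ : Type z}

theorem witt_exists_lift (hp : IsNilpotent (p : S))
    (N : ℕ) (hN : ∀ a : S, φ a = 0 → a ^ N = 0)
    (b₁ : Module.Basis ι₁ (WittVector p S) P₁)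
    (F₁ : P₁ →ₛₗ[(WittVector.frobenius : WittVector p S →+* WittVector p S)] P₁)
    (F₂ : P₂ →ₛₗ[(WittVector.frobenius : WittVector p S →+* WittVector p S)] P₂)
    (hF₁ : LinearIndependent (WittVector p S) (fun i => F₁ (b₁ i)) ∧
      Submodule.span (WittVector p S) (Set.range fun i => F₁ (b₁ i)) = ⊤)
    (𝔠 : Ideal (WittVector p S)) (h𝔠 : 𝔠 ≤ RingHom.ker (WittVector.map (p := p) φ))
    (h𝔠F : ∀ x ∈ 𝔠, WittVector.frobenius x ∈ 𝔠)
    (α₀ : P₁ →ₗ[WittVector p S] P₂)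
    (hα₀ : ∀ x : P₁, F₂ (α₀ x) - α₀ (F₁ x) ∈ 𝔠 • (⊤ : Submodule (WittVector p S) P₂)) :
    ∃ α : P₁ →ₗ[WittVector p S] P₂,
      (∀ x : P₁, α x - α₀ x ∈ 𝔠 • (⊤ : Submodule (WittVector p S) P₂)) ∧
        ∀ x : P₁, F₂ (α x) = α (F₁ x) := by
  obtain ⟨r, hr⟩ := WittFrobNil.exists_iterate_frobenius_eq_zero p φ hp N hN
  let b₁' : Module.Basis ι₁ (WittVector p S) P₁ := Module.Basis.mk hF₁.1 hF₁.2.ge
  have hb : ∀ i, b₁' i = F₁ (b₁ i) := fun i => Module.Basis.mk_apply _ _ i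
  exact exists_lift (WittVector.frobenius : WittVector p S →+* WittVector p S) b₁ b₁' F₁ F₂ hb
    (RingHom.ker (WittVector.map (p := p) φ)) r
    (fun x hx => by rw [RingHom.coe_pow]; exact hr x hx) 𝔠 h𝔠 h𝔠F α₀ hα₀

theorem witt_lift_unique (hp : IsNilpotent (p : S))
    (N : ℕ) (hN : ∀ a : S, φ a = 0 → a ^ N = 0)
    (b₁ : Module.Basis ι₁ (WittVector p S) P₁)
    (F₁ : P₁ →ₛₗ[(WittVector.frobenius : WittVector p S →+* WittVector p S)] P₁)
    (F₂ : P₂ →ₛₗ[(WittVector.frobenius : WittVector p S →+* WittVector p S)] P₂)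
    (hF₁ : LinearIndependent (WittVector p S) (fun i => F₁ (b₁ i)) ∧
      Submodule.span (WittVector p S) (Set.range fun i => F₁ (b₁ i)) = ⊤)
    (α₀ α α' : P₁ →ₗ[WittVector p S] P₂)
    (h1 : ∀ x : P₁, α x - α₀ x ∈
      RingHom.ker (WittVector.map (p := p) φ) • (⊤ : Submodule (WittVector p S) P₂))
    (h1' : ∀ x : P₁, α' x - α₀ x ∈
      RingHom.ker (WittVector.map (p := p) φ) • (⊤ : Submodule (WittVector p S) P₂))
    (h2 : ∀ x : P₁, F₂ (α x) = α (F₁ x)) (h2' : ∀ x : P₁, F₂ (α' x) = α' (F₁ x)) : α = α' := by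
  obtain ⟨r, hr⟩ := WittFrobNil.exists_iterate_frobenius_eq_zero p φ hp N hN
  let b₁' : Module.Basis ι₁ (WittVector p S) P₁ := Module.Basis.mk hF₁.1 hF₁.2.ge
  have hb : ∀ i, b₁' i = F₁ (b₁ i) := fun i => Module.Basis.mk_apply _ _ i
  exact lift_unique (WittVector.frobenius : WittVector p S →+* WittVector p S) b₁ b₁' F₁ F₂ hb
    (RingHom.ker (WittVector.map (p := p) φ)) r
    (fun x hx => by rw [RingHom.coe_pow]; exact hr x hx) α₀ α α' h1 h1' h2 h2'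

end Witt

end Groth.Agent.Lib.Seat69.ZinkLift
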