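import Mathlib
import Groth.Prelude.Def_FlatCA
import Groth.Agent.Lib.Seat6NzdRed

/-!
# The non-Noetherian local criterion (Stacks 00ME / 05FC) for multiplication maps

`R → S` local homomorphism of local rings, essentially of finite presentation, `N` a finitely
presented `S`-module flat over `R`, and `s : S` injective on `N / 𝔪_R N`. Then `s : N → N` is
`R`-universally injective.
-/

set_option autoImplicit false
set_option linter.style.haveILetI false
universe u

namespace Groth.Agent.Lib.Seat6.Nzd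

open TensorProduct IsLocalRing Groth.Agent.Lib.Seat6.NzdLemmas Groth.Agent.Lib.Seat6.NzdRed
  Groth.Agent.Lib.Seat6.NzdCore

theorem univInj_smul_of_nzd {R S : Type u} [CommRing R] [IsLocalRing R] [CommRing S]
    [IsLocalRing S] [Algebra R S] [IsLocalHom (algebraMap R S)]
    (hS : FlatCA.EssFinitePresentation R S)
    (N : Type u) [AddCommGroup N] [Module S N] [Module R N] [IsScalarTower R S N]
    [Module.FinitePresentation S N] [Module.Flat R N] (s : S)
    (hs : ∀ n : N, s • n ∈ (maximalIdeal R • ⊤ : Submodule R N) →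
      n ∈ (maximalIdeal R • ⊤ : Submodule R N)) :
    FlatCA.UnivInj R ((LinearMap.lsmul S N s).restrictScalars R) := by
  obtain ⟨S₁, _, _, _, _, W, hfp, hloc⟩ := hS
  haveI := hfp
  haveI := hloc
  -- module structures
  letI : Module S₁ N := Module.compHom N (algebraMap S₁ S)
  have hsm : ∀ (b : S₁) (n : N), b • n = algebraMap S₁ S b • n := fun _ _ => rfl
  haveI : IsScalarTower S₁ S N := ⟨fun b c n => by
    rw [hsm, Algebra.smul_def, mul_smul]⟩
  haveI : IsScalarTower R S₁ N := ⟨fun r b n => by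
    rw [hsm, hsm, Algebra.smul_def, map_mul, mul_smul, ← IsScalarTower.algebraMap_apply,
      algebraMap_smul]⟩
  -- the prime
  set q₁ : Ideal S₁ := (maximalIdeal S).comap (algebraMap S₁ S) with hq₁def
  haveI : q₁.IsPrime := Ideal.comap_isPrime _ _
  have hq₁ : q₁.comap (algebraMap R S₁) = maximalIdeal R := by
    rw [hq₁def, Ideal.comap_comap, ← IsScalarTower.algebraMap_eq]
    exact ((IsLocalRing.local_hom_TFAE (algebraMap R S)).out 0 4).mp ‹IsLocalHom (algebraMap R S)›
  have hunits : ∀ r ∈ q₁.primeCompl, IsUnit (algebraMap S₁ S r) := by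
    intro r hr
    exact IsLocalRing.notMem_maximalIdeal.mp hr
  have hle : W ≤ q₁.primeCompl := by
    intro w hw hmem
    have h1 : algebraMap S₁ S w ∈ maximalIdeal S := hmem
    exact (IsLocalRing.mem_maximalIdeal _).1 h1 (IsLocalization.map_units S ⟨w, hw⟩)
  haveI hlocq : IsLocalization q₁.primeCompl S := IsLocalization.of_le W q₁.primeCompl hle hunits
  -- Step A
  obtain ⟨N₁, _, _, hfpN₁, g₁, hg₁⟩ := exists_fp_model_of_isLocalization (S := S) W N
  haveI := hfpN₁
  letI : Module R N₁ := Module.compHom N₁ (algebraMap R S₁)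
  have hsm₁ : ∀ (r : R) (n : N₁), r • n = algebraMap R S₁ r • n := fun _ _ => rfl
  haveI : IsScalarTower R S₁ N₁ := ⟨fun r b n => by
    rw [hsm₁, Algebra.smul_def, mul_smul]⟩
  haveI : IsLocalizedModule q₁.primeCompl g₁ :=
    (isLocalizedModule_iff_isBaseChange q₁.primeCompl S g₁).2 hg₁
  -- the numerator of `s`
  obtain ⟨⟨s₁, w₀⟩, hsw⟩ := IsLocalization.surj q₁.primeCompl s
  have hsw' : s * algebraMap S₁ S w₀.1 = algebraMap S₁ S s₁ := hsw
  -- pointwise killing on the closed fibre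
  have hloc' : ∀ n₁ : N₁, s₁ • n₁ ∈ (maximalIdeal R • ⊤ : Submodule R N₁) →
      ∃ w : S₁, w ∉ q₁ ∧ w • n₁ ∈ (maximalIdeal R • ⊤ : Submodule R N₁) := by
    intro n₁ h
    have h1 : g₁ (s₁ • n₁) ∈ (maximalIdeal R • ⊤ : Submodule R N) :=
      map_mem_smul_top g₁ (maximalIdeal R) h
    have h2 : s • (w₀.1 • g₁ n₁) ∈ (maximalIdeal R • ⊤ : Submodule R N) := by
      rw [map_smul, hsm, ← hsw', mul_smul, ← hsm] at h1
      exact h1
    have h3 := hs _ h2
    have h4 : g₁ (w₀.1 • n₁) ∈ (maximalIdeal R • ⊤ : Submodule R N) := by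
      rw [map_smul]
      exact h3
    obtain ⟨t, ht, h5⟩ := (mem_smul_top_iff_of_isLocalizedModule q₁.primeCompl g₁
      (maximalIdeal R) (w₀.1 • n₁)).1 h4
    exact ⟨t * w₀.1, q₁.primeCompl.mul_mem ht w₀.2, by rw [mul_smul]; exact h5⟩
  obtain ⟨h', hh', hkill⟩ := exists_kill_fibre_kernel q₁ s₁ hloc'
  -- flatness near `q₁`
  have hflatq : Module.Flat R (LocalizedModule q₁.primeCompl N₁) := by
    let e : LocalizedModule q₁.primeCompl N₁ ≃ₗ[S₁] N := IsLocalizedModule.iso q₁.primeCompl g₁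
    exact Module.Flat.of_linearEquiv (e.restrictScalars R)
  obtain ⟨h₀, hh₀, hflat₀⟩ := exists_flat_away q₁ hflatq
  have hhq : h₀ * h' ∉ q₁ := by
    intro hmem
    rcases Ideal.IsPrime.mem_or_mem inferInstance hmem with h | h
    · exact hh₀ h
    · exact hh' h
  haveI hflat : Module.Flat R (LocalizedModule (Submonoid.powers (h₀ * h')) N₁) := by
    apply Groth.Agent.Lib.Seat6.FlatLocus.flat_localizedModule_of_forall
    intro Q _ hQ
    have hhQ : h₀ * h' ∉ Q := hQ (Submonoid.mem_powers _)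
    have hh₀Q : h₀ ∉ Q := fun hmem => hhQ (Ideal.mul_mem_right _ _ hmem)
    refine Groth.Agent.Lib.Seat6.FlatLocus.flat_localizedModule_atPrime_of_flat
      (Submonoid.powers h₀) (LocalizedModule.mkLinearMap (Submonoid.powers h₀) N₁) Q ?_
    rintro _ ⟨a, rfl⟩ hmem
    exact hh₀Q (Ideal.IsPrime.mem_of_pow_mem inferInstance a hmem)
  have hH : ∀ n : N₁, s₁ • n ∈ (maximalIdeal R • ⊤ : Submodule R N₁) →
      (h₀ * h') • n ∈ (maximalIdeal R • ⊤ : Submodule R N₁) := by
    intro n hn
    rw [mul_smul]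
    exact smul_mem_smul_top (maximalIdeal R) h₀ (hkill n hn)
  have hcore := core' q₁ hq₁ s₁ (h₀ * h') hhq hH
  have hS1 : SInj R N s₁ := sInj_of_sTors_isLocalizedModule q₁.primeCompl g₁ s₁ hcore
  -- back to `s`
  apply univInj_of_sInj s
  intro Q _ _ z hz
  apply hS1 Q z
  rw [← algebraMap_smul S s₁ z, ← hsw', mul_comm, mul_smul, hz, smul_zero]

end Groth.Agent.Lib.Seat6.Nzd
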