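import Mathlib
import Groth.Prelude.Def_FlatCA
import Groth.Agent.Lib.Seat6Nzd
import Groth.Agent.Lib.Seat6Content
import Groth.Agent.S1193

/-!
# Universal injectivity of `N → S' ⊗[S] N` (Stacks 05FD), local case
-/

set_option autoImplicit false
set_option linter.style.haveILetI false
universe u

namespace Groth.Agent.Lib.Seat6.BCInj

open TensorProduct IsLocalRing Groth.Agent.Lib.Seat6.NzdLemmas

section General

variable {S S' : Type u} [CommRing S] [CommRing S'] [Algebra S S'] [Module.Flat S S']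
  {X : Type u} [AddCommGroup X] [Module S X]

/-- If `1 ⊗ x = 0` in `S' ⊗[S] X` with `S'` flat, then the annihilator of `x` generates the unit
ideal of `S'`. -/
theorem one_mem_map_ker_of_tmul_eq_zero (x : X) (hx : (1 : S') ⊗ₜ[S] x = 0) :
    (1 : S') ∈ Ideal.map (algebraMap S S')
      (LinearMap.ker (LinearMap.toSpanSingleton S X x) : Ideal S) := by
  set 𝔞 : Ideal S := LinearMap.ker (LinearMap.toSpanSingleton S X x) with h𝔞
  let f : (S ⧸ 𝔞) →ₗ[S] X := Submodule.liftQ 𝔞 (LinearMap.toSpanSingleton S X x) le_rfl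
  have hf : Function.Injective f := by
    rw [← LinearMap.ker_eq_bot]
    exact Submodule.ker_liftQ_eq_bot _ _ _ le_rfl
  have hf' := Module.Flat.lTensor_preserves_injective_linearMap (M := S') f hf
  have h1 : (1 : S') ⊗ₜ[S] (Ideal.Quotient.mk 𝔞 1 : S ⧸ 𝔞) = 0 := by
    apply hf'
    rw [map_zero, LinearMap.lTensor_tmul]
    have : f (Ideal.Quotient.mk 𝔞 1) = x := by
      change Submodule.liftQ 𝔞 (LinearMap.toSpanSingleton S X x) le_rfl (Submodule.Quotient.mk 1) = x
      rw [Submodule.liftQ_apply, LinearMap.toSpanSingleton_apply, one_smul]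
    rw [this]
    exact hx
  have h2 : (1 : S ⧸ 𝔞) ⊗ₜ[S] (1 : S') = 0 := by
    have := congrArg (TensorProduct.comm S S' (S ⧸ 𝔞)) h1
    simpa using this
  have h3 : (1 : S') ∈ (𝔞 • ⊤ : Submodule S S') :=
    (Groth.Agent.Lib.Seat6.Content.tmul_one_eq_zero_iff 𝔞 (1 : S')).1 h2
  refine Submodule.smul_induction_on h3 ?_ ?_
  · intro a ha y _
    rw [Algebra.smul_def]
    exact Ideal.mul_mem_right _ _ (Ideal.mem_map_of_mem _ ha)
  · intro y z hy hz
    exact Ideal.add_mem _ hy hz

end General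

section Conv

variable {R S S' : Type u} [CommRing R] [CommRing S] [CommRing S'] [Algebra R S] [Algebra S S']
  [Algebra R S'] [IsScalarTower R S S'] {N : Type u} [AddCommGroup N] [Module S N] [Module R N]
  [IsScalarTower R S N]

/-- Universal injectivity of `N → S' ⊗[S] N` in elementwise form. -/
theorem univInj_mk_of_forall
    (h : ∀ (Q : Type u) [AddCommGroup Q] [Module R Q] (x : N ⊗[R] Q),
      (1 : S') ⊗ₜ[S] x = 0 → x = 0) :
    FlatCA.UnivInj R ((TensorProduct.mk S S' N 1).restrictScalars R) := by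
  intro Q _ _
  rw [injective_iff_map_eq_zero]
  intro z hz
  let e₂ : Q ⊗[R] (S' ⊗[S] N) ≃ₗ[R] S' ⊗[S] (N ⊗[R] Q) :=
    (TensorProduct.comm R Q (S' ⊗[S] N)) ≪≫ₗ
      ((TensorProduct.AlgebraTensorModule.assoc R S S S' N Q).restrictScalars R)
  have key : ∀ w : Q ⊗[R] N,
      e₂ (((TensorProduct.mk S S' N 1).restrictScalars R).lTensor Q w) =
        (1 : S') ⊗ₜ[S] (TensorProduct.comm R Q N w) := by
    intro w
    induction w using TensorProduct.induction_on with
    | zero => simp
    | tmul q n => simp [e₂]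
    | add a b ha hb => rw [map_add, map_add, ha, hb, map_add, TensorProduct.tmul_add]
  have h1 : (1 : S') ⊗ₜ[S] (TensorProduct.comm R Q N z) = 0 := by
    rw [← key, hz, map_zero]
  have h2 := h Q _ h1
  exact (TensorProduct.comm R Q N).injective (by rw [h2, map_zero])

end Conv

section Local

attribute [local instance] Algebra.TensorProduct.rightAlgebra

theorem univInj_mk_local {R S S' : Type u} [CommRing R] [IsLocalRing R] [CommRing S]
    [IsLocalRing S] [CommRing S'] [Algebra R S] [IsLocalHom (algebraMap R S)] [Algebra S S']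
    [Algebra R S'] [IsScalarTower R S S'] (hS : FlatCA.EssFinitePresentation R S)
    [Module.Flat S S'] (N : Type u) [AddCommGroup N] [Module S N] [Module R N]
    [IsScalarTower R S N] [Module.FinitePresentation S N] [Module.Flat R N]
    (h : ∀ q ∈ associatedPrimes S (FlatCA.fiberMod (maximalIdeal R) S N),
      ∃ q' : Ideal S', q'.IsPrime ∧ q'.comap (algebraMap S S') = q) :
    FlatCA.UnivInj R ((TensorProduct.mk S S' N 1).restrictScalars R) := by
  -- elements of `Σ` act injectively on `N ⊗ Q`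
  have hSig : ∀ σ ∈ FlatCA.nzdFiber R S N, SInj R N σ := fun σ hσ =>
    sInj_of_univInj σ (Groth.Agent.Lib.Seat6.Nzd.univInj_smul_of_nzd hS N σ (fun n hn =>
      Groth.Agent.Lib.Seat6.UnivInjLoc.mem_smul_top_of_mem_nzdFiber hσ n hn))
  -- finiteness of the closed fibre
  haveI hess : Algebra.EssFiniteType R S := by
    obtain ⟨S₁, _, _, _, _, W, hfp, hloc⟩ := hS
    haveI := hfp
    haveI := hloc
    haveI : Algebra.EssFiniteType S₁ S := Algebra.EssFiniteType.of_isLocalization S W
    exact Algebra.EssFiniteType.comp R S₁ S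
  haveI : IsNoetherianRing ((maximalIdeal R).Fiber S) :=
    Algebra.EssFiniteType.isNoetherianRing (maximalIdeal R).ResidueField
      ((maximalIdeal R).Fiber S)
  haveI : Module.Finite ((maximalIdeal R).Fiber S) (FlatCA.fiberMod (maximalIdeal R) S N) :=
    inferInstanceAs (Module.Finite ((maximalIdeal R).Fiber S)
      (((maximalIdeal R).Fiber S) ⊗[S] N))
  have h1193 := (Groth.Agent.S1193.result (R := R) (S := S) N).1
  apply univInj_mk_of_forall
  intro Q _ _ x hx
  by_contra hx0
  set 𝔞 : Ideal S := LinearMap.ker (LinearMap.toSpanSingleton S (N ⊗[R] Q) x) with h𝔞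
  have hmem𝔞 : ∀ a : S, a ∈ 𝔞 ↔ a • x = 0 := by
    intro a
    rw [h𝔞, LinearMap.mem_ker, LinearMap.toSpanSingleton_apply]
  have hdisj : Disjoint (𝔞 : Set S) (FlatCA.nzdFiber R S N : Set S) := by
    rw [Set.disjoint_left]
    intro σ hσ𝔞 hσ
    exact hx0 (hSig σ hσ Q x ((hmem𝔞 σ).1 hσ𝔞))
  obtain ⟨P, hP, h𝔞P, hPSig⟩ := Ideal.exists_le_prime_disjoint 𝔞 (FlatCA.nzdFiber R S N) hdisj
  obtain ⟨q', hq', hPq'⟩ := (h1193 P).1 hPSig
  obtain ⟨Q', hQ', hcomap⟩ := h q' hq'
  have hone := one_mem_map_ker_of_tmul_eq_zero (S' := S') x hx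
  have hle : Ideal.map (algebraMap S S') 𝔞 ≤ Q' := by
    rw [Ideal.map_le_iff_le_comap, hcomap]
    exact h𝔞P.trans hPq'
  exact hQ'.ne_top ((Ideal.eq_top_iff_one _).2 (hle hone))

end Local

end Groth.Agent.Lib.Seat6.BCInj
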