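import Mathlib
import Groth.Prelude.Def_FlatCA
import Groth.Agent.Lib.Seat6NzdCore

/-!
# Core of the non-Noetherian local criterion over an arbitrary base, at a prime `p`
-/

set_option autoImplicit false
set_option linter.style.haveILetI false
universe u

namespace Groth.Agent.Lib.Seat6.NzdCore

open TensorProduct IsLocalRing Groth.Agent.Lib.Seat6.NzdLemmas Groth.Agent.Lib.Seat6.NzdNoeth
  Groth.Agent.Lib.Seat6.FlatModelElt Groth.Agent.Lib.Helper3.FlatLoc

theorem coreP {R : Type u} [CommRing R]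
    {S : Type u} [CommRing S] [Algebra R S] [Algebra.FinitePresentation R S]
    {N : Type u} [AddCommGroup N] [Module S N] [Module R N] [IsScalarTower R S N]
    [Module.FinitePresentation S N] [Module.Flat R N]
    (p : Ideal R) [p.IsPrime] (q : Ideal S) [q.IsPrime] (hq : q.comap (algebraMap R S) = p)
    (s : S) (hs : ∀ n : N, s • n ∈ (p • ⊤ : Submodule R N) →
      ∃ t : R, t ∉ p ∧ t • n ∈ (p • ⊤ : Submodule R N)) :
    STors R N s q.primeCompl := by
  obtain ⟨R₀, _, _, S₀, _, _, _, _, _, _, N₀, _, _, _, _, _, _, f, hZ, hft, hfin, hflat, hpush,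
    hbc, s₀, hs₀⟩ := exists_flat_module_model_elt R S N s
  haveI := hfin
  haveI := hflat
  haveI := hpush
  haveI : IsNoetherianRing R₀ := Algebra.FiniteType.isNoetherianRing ℤ R₀
  haveI : IsNoetherianRing S₀ := Algebra.FiniteType.isNoetherianRing R₀ S₀
  -- the `R₀`-module structure on `N`
  letI : Module R₀ N := Module.compHom N (algebraMap R₀ R)
  have hsm : ∀ (r : R₀) (n : N), r • n = algebraMap R₀ R r • n := fun _ _ => rfl
  haveI : IsScalarTower R₀ R N := ⟨fun a r n => by
    rw [hsm, Algebra.smul_def, mul_smul]⟩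
  haveI : IsScalarTower R₀ S₀ N := ⟨fun a b n => by
    rw [hsm, Algebra.smul_def, mul_smul, ← algebraMap_smul S (algebraMap R₀ S₀ a) (b • n),
      ← IsScalarTower.algebraMap_apply R₀ S₀ S, ← algebraMap_smul S (algebraMap R₀ R a) (b • n),
      ← IsScalarTower.algebraMap_apply R₀ R S]⟩
  have hb : IsBaseChange R (f.restrictScalars R₀) :=
    isBaseChange_restrictScalars_of_isPushout f hbc
  set p₀ : Ideal R₀ := p.comap (algebraMap R₀ R) with hp₀
  set q₀ : Ideal S₀ := q.comap (algebraMap S₀ S) with hq₀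
  have hpq : q₀.comap (algebraMap R₀ S₀) = p₀ := by
    rw [hq₀, hp₀, Ideal.comap_comap, ← IsScalarTower.algebraMap_eq,
      IsScalarTower.algebraMap_eq R₀ R S, ← Ideal.comap_comap, hq]
  -- the fibre condition on the model
  have hB : ∀ n₀ : N₀, s₀ • n₀ ∈ (p₀ • ⊤ : Submodule R₀ N₀) →
      ∃ t : R₀, t ∉ p₀ ∧ t • n₀ ∈ (p₀ • ⊤ : Submodule R₀ N₀) := by
    intro n₀ h
    have hfmem : ∀ y ∈ (p₀ • ⊤ : Submodule R₀ N₀),
        f y ∈ (p • ⊤ : Submodule R N) := by
      intro y hy
      refine Submodule.smul_induction_on hy ?_ ?_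
      · intro a ha y' _
        have : f (a • y') = algebraMap R₀ R a • f y' := by
          rw [← algebraMap_smul S₀ a y', map_smul, algebraMap_smul, hsm]
        rw [this]
        exact Submodule.smul_mem_smul ha trivial
      · intro x y hx hy
        rw [map_add]
        exact Submodule.add_mem _ hx hy
    have h1 : s • f n₀ ∈ (p • ⊤ : Submodule R N) := by
      rw [← hs₀, algebraMap_smul, ← map_smul]
      exact hfmem _ h
    obtain ⟨t, ht, h2⟩ := hs _ h1
    have h3 : f n₀ ⊗ₜ[R] (1 : p.ResidueField) = 0 := by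
      have h30 : (t • f n₀) ⊗ₜ[R] (1 : p.ResidueField) = 0 := tmul_one_eq_zero_of_mem p h2
      have hu : IsUnit (algebraMap R p.ResidueField t) := by
        rw [isUnit_iff_ne_zero, ne_eq, Ideal.algebraMap_residueField_eq_zero]
        exact ht
      obtain ⟨u, hu⟩ := hu
      have h31 : f n₀ ⊗ₜ[R] (u : p.ResidueField) = 0 := by
        rw [hu, Algebra.algebraMap_eq_smul_one, ← TensorProduct.smul_tmul]
        exact h30
      have h32 := congrArg (LinearMap.lTensor N
        (LinearMap.mulLeft R ((↑u⁻¹ : p.ResidueField)))) h31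
      rw [LinearMap.lTensor_tmul, LinearMap.mulLeft_apply, Units.inv_mul, map_zero] at h32
      exact h32
    have h4 : n₀ ⊗ₜ[R₀] (1 : p.ResidueField) = 0 := by
      apply (bcMap_bijective (f.restrictScalars R₀) hb p.ResidueField).1
      rw [bcMap_tmul, map_zero]
      exact h3
    let ι : p₀.ResidueField →ₐ[R₀] p.ResidueField :=
      Ideal.ResidueField.mapₐ p₀ p (Algebra.ofId R₀ R) rfl
    have hι : Function.Injective ι.toLinearMap := ι.toRingHom.injective
    have h5 : n₀ ⊗ₜ[R₀] (1 : p₀.ResidueField) = 0 := by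
      apply Module.Flat.lTensor_preserves_injective_linearMap (M := N₀) ι.toLinearMap hι
      rw [map_zero, LinearMap.lTensor_tmul, AlgHom.toLinearMap_apply, map_one]
      exact h4
    have h6 : (1 : p₀.ResidueField) ⊗ₜ[R₀] n₀ = 0 := by
      have := congrArg (TensorProduct.comm R₀ N₀ p₀.ResidueField) h5
      simpa using this
    exact Groth.Agent.Helper13Fiber.exists_smul_mem_of_tmul_eq_zero p₀ n₀ h6
  have h0 := sTors_noetherian p₀ q₀ hpq s₀ hB
  have h1 := sTors_of_isBaseChange f hb q₀.primeCompl q.primeCompl (fun t ht => ht) s₀ h0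
  rwa [hs₀] at h1

end Groth.Agent.Lib.Seat6.NzdCore
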