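import Mathlib
import Groth.Prelude.Def_FlatCA
import Groth.Agent.Lib.Seat6BCInj
import Groth.Agent.Lib.Seat6NzdCoreP

/-!
# Universal injectivity of `N → S' ⊗[S] N` (Stacks 05FE), global case
-/

set_option autoImplicit false
set_option linter.style.haveILetI false
universe u

namespace Groth.Agent.Lib.Seat6.BCInj

open TensorProduct Groth.Agent.Lib.Seat6.NzdLemmas Groth.Agent.Helper13Fiber

attribute [local instance] Algebra.TensorProduct.rightAlgebra

section Fiber

variable {R : Type u} [CommRing R] (p : Ideal R) [p.IsPrime] (S : Type u) [CommRing S]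
  [Algebra R S]

/-- Every element of an extended ideal `𝔞 · (κ(p) ⊗ S)` is, up to a unit coming from `R ∖ p`, the
image of an element of `𝔞`. -/
theorem exists_mul_eq_algebraMap_of_mem_map (𝔞 : Ideal S) (x : p.Fiber S)
    (hx : x ∈ 𝔞.map (algebraMap S (p.Fiber S))) :
    ∃ r : R, r ∉ p ∧ ∃ a ∈ 𝔞,
      algebraMap S (p.Fiber S) (algebraMap R S r) * x = algebraMap S (p.Fiber S) a := by
  have h1 : (1 : R) ∉ p := fun h => (Ideal.IsPrime.ne_top inferInstance) ((Ideal.eq_top_iff_one p).2 h)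
  refine Submodule.span_induction (p := fun x _ => ∃ r : R, r ∉ p ∧ ∃ a ∈ 𝔞,
      algebraMap S (p.Fiber S) (algebraMap R S r) * x = algebraMap S (p.Fiber S) a) ?_ ?_ ?_ ?_ hx
  · rintro _ ⟨a, ha, rfl⟩
    exact ⟨1, h1, a, ha, by rw [map_one, map_one, one_mul]⟩
  · exact ⟨1, h1, 0, 𝔞.zero_mem, by rw [mul_zero, map_zero]⟩
  · rintro x y _ _ ⟨r₁, hr₁, a₁, ha₁, e₁⟩ ⟨r₂, hr₂, a₂, ha₂, e₂⟩
    refine ⟨r₁ * r₂, Ideal.IsPrime.mul_notMem inferInstance hr₁ hr₂,
      algebraMap R S r₂ * a₁ + algebraMap R S r₁ * a₂,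
      𝔞.add_mem (𝔞.mul_mem_left _ ha₁) (𝔞.mul_mem_left _ ha₂), ?_⟩
    simp only [map_add, map_mul]
    rw [← e₁, ← e₂]
    ring
  · rintro c x _ ⟨r, hr, a, ha, e⟩
    obtain ⟨rc, hrc, sc, hsc⟩ := Ideal.Fiber.exists_smul_eq_one_tmul p c
    have hsc' : algebraMap S (p.Fiber S) (algebraMap R S rc) * c = algebraMap S (p.Fiber S) sc := by
      rw [← IsScalarTower.algebraMap_apply R S (p.Fiber S), ← Algebra.smul_def, hsc]
      rfl
    refine ⟨rc * r, Ideal.IsPrime.mul_notMem inferInstance hrc hr, sc * a, 𝔞.mul_mem_left _ ha, ?_⟩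
    simp only [smul_eq_mul, map_mul]
    rw [← e, ← hsc']
    ring

/-- A prime of the fibre ring is the extension of its contraction. -/
theorem fiberIdeal_comap (𝔮 : Ideal (p.Fiber S)) :
    FlatCA.fiberIdeal p (𝔮.comap (algebraMap S (p.Fiber S))) = 𝔮 := by
  apply le_antisymm
  · exact Ideal.map_comap_le
  · intro x hx
    obtain ⟨r, hr, s, hs⟩ := Ideal.Fiber.exists_smul_eq_one_tmul p x
    have hs' : algebraMap S (p.Fiber S) (algebraMap R S r) * x = algebraMap S (p.Fiber S) s := by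
      rw [← IsScalarTower.algebraMap_apply R S (p.Fiber S), ← Algebra.smul_def, hs]
      rfl
    have h1 : algebraMap S (p.Fiber S) s ∈ 𝔮 := by
      rw [← hs']
      exact 𝔮.mul_mem_left _ hx
    have h2 : algebraMap S (p.Fiber S) s ∈
        FlatCA.fiberIdeal p (𝔮.comap (algebraMap S (p.Fiber S))) :=
      Ideal.mem_map_of_mem _ h1
    obtain ⟨u, hu⟩ := isUnit_algebraMap p S hr
    have h3 : x = (↑u⁻¹ : p.Fiber S) * algebraMap S (p.Fiber S) s := by
      rw [← hs', ← hu, ← mul_assoc, Units.inv_mul, one_mul]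
    rw [h3]
    exact Ideal.mul_mem_left _ _ h2

end Fiber

section Global

open FlatCA

variable {R S S' : Type u} [CommRing R] [CommRing S] [CommRing S'] [Algebra R S] [Algebra S S']
  [Algebra R S'] [IsScalarTower R S S'] [Algebra.FinitePresentation R S] [Module.Flat S S']
  (N : Type u) [AddCommGroup N] [Module S N] [Module R N] [IsScalarTower R S N]
  [Module.FinitePresentation S N] [Module.Flat R N]

/-- Stacks 05FE: universal injectivity of `N → S' ⊗[S] N` when `Spec S' → Spec S` hits all the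
relative assassin of `N`. -/
theorem univInj_mk_global
    (h : ∀ (p : Ideal R) (q : Ideal S) [p.IsPrime] [q.IsPrime] [q.LiesOver p],
      FlatCA.fiberIdeal p q ∈ associatedPrimes (p.Fiber S) (FlatCA.fiberMod p S N) →
      ∃ q' : Ideal S', q'.IsPrime ∧ q'.comap (algebraMap S S') = q) :
    FlatCA.UnivInj R ((TensorProduct.mk S S' N 1).restrictScalars R) := by
  apply univInj_mk_of_forall
  intro Q _ _ x hx
  by_contra hx0
  set 𝔞 : Ideal S := LinearMap.ker (LinearMap.toSpanSingleton S (N ⊗[R] Q) x) with h𝔞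
  have hmem𝔞 : ∀ a : S, a ∈ 𝔞 ↔ a • x = 0 := by
    intro a
    rw [h𝔞, LinearMap.mem_ker, LinearMap.toSpanSingleton_apply]
  have h𝔞top : 𝔞 ≠ ⊤ := by
    intro htop
    apply hx0
    have h1 : (1 : S) ∈ 𝔞 := by rw [htop]; exact Submodule.mem_top
    have := (hmem𝔞 1).1 h1
    rwa [one_smul] at this
  obtain ⟨P, hPmax, h𝔞P⟩ := Ideal.exists_le_maximal 𝔞 h𝔞top
  haveI : P.IsPrime := hPmax.isPrime
  have hone := one_mem_map_ker_of_tmul_eq_zero (S' := S') x hx
  set p : Ideal R := P.comap (algebraMap R S) with hp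
  haveI : p.IsPrime := Ideal.comap_isPrime _ _
  haveI : IsNoetherianRing (p.Fiber S) :=
    Algebra.FiniteType.isNoetherianRing p.ResidueField (p.Fiber S)
  haveI : Module.Finite (p.Fiber S) (FlatCA.fiberMod p S N) :=
    inferInstanceAs (Module.Finite (p.Fiber S) ((p.Fiber S) ⊗[S] N))
  set 𝔞' : Ideal (p.Fiber S) := 𝔞.map (algebraMap S (p.Fiber S)) with h𝔞'
  by_cases hcase : ∃ 𝔮 ∈ associatedPrimes (p.Fiber S) (FlatCA.fiberMod p S N), 𝔞' ≤ 𝔮
  · obtain ⟨𝔮, h𝔮, hle⟩ := hcase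
    haveI : 𝔮.IsPrime := h𝔮.isPrime
    set q : Ideal S := 𝔮.comap (algebraMap S (p.Fiber S)) with hq
    haveI : q.IsPrime := Ideal.comap_isPrime _ _
    haveI : q.LiesOver p := by
      have h1 : 𝔮.LiesOver p := inferInstance
      constructor
      rw [h1.over, hq, Ideal.under, Ideal.under, Ideal.comap_comap,
        ← IsScalarTower.algebraMap_eq R S (p.Fiber S)]
    obtain ⟨Q', hQ', hcomap⟩ := h p q (by rw [hq, fiberIdeal_comap]; exact h𝔮)
    have hle' : Ideal.map (algebraMap S S') 𝔞 ≤ Q' := by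
      rw [Ideal.map_le_iff_le_comap, hcomap, hq, ← Ideal.map_le_iff_le_comap]
      exact hle
    exact hQ'.ne_top ((Ideal.eq_top_iff_one _).2 (hle' hone))
  · -- prime avoidance: a regular element in `𝔞'`
    have hfin := associatedPrimes.finite (p.Fiber S) (FlatCA.fiberMod p S N)
    have havoid : ¬ ((𝔞' : Set (p.Fiber S)) ⊆
        ⋃ 𝔮 ∈ associatedPrimes (p.Fiber S) (FlatCA.fiberMod p S N), (𝔮 : Set (p.Fiber S))) := by
      intro hsub
      have hsub' : ((𝔞' : Set (p.Fiber S)) ⊆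
          ⋃ 𝔮 ∈ (↑hfin.toFinset : Set (Ideal (p.Fiber S))), ((id 𝔮 : Ideal (p.Fiber S)) : Set _)) := by
        simpa using hsub
      obtain ⟨a₀, -⟩ : ∃ a₀ : Ideal (p.Fiber S), True := ⟨⊥, trivial⟩
      rw [Ideal.subset_union_prime a₀ a₀ (fun i hi _ _ => by
        rw [Set.Finite.mem_toFinset] at hi; exact hi.isPrime)] at hsub'
      obtain ⟨𝔮, h𝔮, hle⟩ := hsub'
      rw [Set.Finite.mem_toFinset] at h𝔮
      exact hcase ⟨𝔮, h𝔮, hle⟩
    rw [Set.not_subset] at havoid
    obtain ⟨ā, hā, hāreg⟩ := havoid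
    rw [biUnion_associatedPrimes_eq_zero_divisors] at hāreg
    have hāreg' : ∀ z : FlatCA.fiberMod p S N, ā • z = 0 → z = 0 := by
      intro z hz
      by_contra hz0
      exact hāreg ⟨z, hz0, hz⟩
    obtain ⟨r, hr, a, ha, hra⟩ := exists_mul_eq_algebraMap_of_mem_map p S 𝔞 ā hā
    have hfib : ∀ n : N, a • n ∈ (p • ⊤ : Submodule R N) →
        ∃ t : R, t ∉ p ∧ t • n ∈ (p • ⊤ : Submodule R N) := by
      intro n hn
      rw [smul_top_eq_restrictScalars p S N, Submodule.restrictScalars_mem] at hn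
      have h1 := toFiberMod_eq_zero_of_mem p S N hn
      rw [map_smul, ← algebraMap_smul (p.Fiber S) a, ← hra, mul_smul] at h1
      have h2 : ā • toFiberMod p S N n = 0 :=
        (isUnit_algebraMap p S hr).smul_left_cancel.mp (by rw [h1, smul_zero])
      have h3 := hāreg' _ h2
      obtain ⟨t, ht, htn⟩ := (toFiberMod_eq_zero_iff p S N n).1 h3
      refine ⟨t, ht, ?_⟩
      rw [smul_top_eq_restrictScalars p S N, Submodule.restrictScalars_mem]
      rwa [algebraMap_smul S t n] at htn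
    have hcore := Groth.Agent.Lib.Seat6.NzdCore.coreP (N := N) p P hp.symm a hfib
    obtain ⟨t, ht, htx⟩ := hcore Q x ((hmem𝔞 a).1 ha)
    exact ht (h𝔞P ((hmem𝔞 t).2 htx))

end Global

end Groth.Agent.Lib.Seat6.BCInj
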