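import Mathlib
import Groth.Prelude.Def_FlatCA
import Groth.Agent.Lib.Seat6NzdCoreP
import Groth.Agent.Lib.Seat6NzdRed
import Groth.Agent.Lib.Helper14FlatExact

/-!
# Slicing by a fibrewise nonzerodivisor: open version (seat 6)

For `R → S`, an `S`-module `X`, `s ∈ S` and a submonoid `T` of `S`:
`s` acts universally injectively (over `R`) on `T⁻¹X` iff the `s`-torsion of `X` is `T`-torsion and
`T⁻¹(X/sX)` is `R`-flat (given `T⁻¹X` is `R`-flat for the forward direction).

`sTors_powers_noetherian`: Noetherian open version of the torsion statement.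
`coreP_open`: open version of `coreP`.
-/

set_option autoImplicit false
set_option linter.style.haveILetI false
universe u

namespace Groth.Agent.Lib.Seat6.Slice

open TensorProduct Groth.Agent.Lib.Seat6.NzdLemmas

section Generic

variable {R S : Type u} [CommRing R] [CommRing S] [Algebra R S] (T : Submonoid S)
  (X : Type u) [AddCommGroup X] [Module S X] [Module R X] [IsScalarTower R S X] (s : S)

/-- The quotient `X/sX`. -/
abbrev QuotS : Type u := X ⧸ LinearMap.range (LinearMap.lsmul S X s)

/-- multiplication by `s` on `T⁻¹X`, as an `R`-linear map -/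
noncomputable def uT : LocalizedModule T X →ₗ[R] LocalizedModule T X :=
  (LocalizedModule.map T (LinearMap.lsmul S X s)).restrictScalars R

/-- the localized quotient map, as an `R`-linear map -/
noncomputable def πT : LocalizedModule T X →ₗ[R] LocalizedModule T (QuotS X s) :=
  (LocalizedModule.map T (LinearMap.range (LinearMap.lsmul S X s)).mkQ).restrictScalars R

theorem uT_apply (x : LocalizedModule T X) : uT (R := R) T X s x = s • x := by
  induction x using LocalizedModule.induction_on with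
  | h m t =>
    change LocalizedModule.map T (LinearMap.lsmul S X s) (LocalizedModule.mk m t) = _
    rw [LocalizedModule.map_mk, LocalizedModule.smul'_mk]
    rfl

theorem exact_uT_πT : Function.Exact (uT (R := R) T X s) (πT (R := R) T X s) := by
  have := LocalizedModule.map_exact T (LinearMap.lsmul S X s)
    (LinearMap.range (LinearMap.lsmul S X s)).mkQ (LinearMap.exact_map_mkQ_range _)
  exact this

theorem πT_surjective : Function.Surjective (πT (R := R) T X s) :=
  LocalizedModule.map_surjective T _ (Submodule.mkQ_surjective _)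

theorem uT_rTensor_apply (Q : Type u) [AddCommGroup Q] [Module R Q]
    (z : LocalizedModule T X ⊗[R] Q) : (uT (R := R) T X s).rTensor Q z = s • z := by
  induction z with
  | zero => simp
  | add a b ha hb => rw [map_add, ha, hb, smul_add]
  | tmul x q => rw [LinearMap.rTensor_tmul, uT_apply, TensorProduct.smul_tmul']

/-- (A): universal injectivity gives flatness of the localized quotient. -/
theorem flat_quot_of_sInj [Module.Flat R (LocalizedModule T X)]
    (h : SInj R (LocalizedModule T X) s) :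
    Module.Flat R (LocalizedModule T (QuotS X s)) := by
  refine Groth.Agent.Lib.Helper14.flat_of_exact_of_rTensor_quotient_injective
    (uT (R := R) T X s) (πT (R := R) T X s) (exact_uT_πT T X s) (πT_surjective T X s)
    (fun I _ => ?_)
  rw [injective_iff_map_eq_zero]
  intro z hz
  rw [uT_rTensor_apply] at hz
  exact h (R ⧸ I) z hz

/-- (B): flat localized quotient and `T`-torsion kernel give universal injectivity. -/
theorem sInj_of_flat_quot [Module.Flat R (LocalizedModule T (QuotS X s))]
    (hker : ∀ x : X, s • x = 0 → ∃ t ∈ T, t • x = 0) :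
    SInj R (LocalizedModule T X) s := by
  have hinj : Function.Injective (uT (R := R) T X s) := by
    rw [injective_iff_map_eq_zero]
    intro x hx
    rw [uT_apply] at hx
    induction x using LocalizedModule.induction_on with
    | h m t =>
      rw [LocalizedModule.smul'_mk, ← LocalizedModule.zero_mk t, LocalizedModule.mk_eq] at hx
      obtain ⟨c, hc⟩ := hx
      have h1 : s • (c.1 • t.1 • m) = 0 := by
        have : c • t • s • m = 0 := by simpa using hc
        rw [smul_comm s, smul_comm s]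
        exact this
      obtain ⟨t', ht', h2⟩ := hker _ h1
      rw [← LocalizedModule.zero_mk t, LocalizedModule.mk_eq]
      refine ⟨⟨t', ht'⟩ * c, ?_⟩
      rw [smul_zero, smul_zero]
      change (t' * c.1) • t • m = _
      rw [mul_smul, Submonoid.smul_def]
      exact h2
  have hcomm : ∀ (Q : Type u) [AddCommGroup Q] [Module R Q] (w : LocalizedModule T X ⊗[R] Q),
      (uT (R := R) T X s).lTensor Q (TensorProduct.comm R _ Q w) =
        TensorProduct.comm R _ Q ((uT (R := R) T X s).rTensor Q w) := by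
    intro Q _ _ w
    induction w with
    | zero => simp
    | add a b ha hb => simp only [map_add, ha, hb]
    | tmul x q => simp
  intro Q _ _ z hz
  have h1 := LinearMap.lTensor_injective_of_exact_of_flat (πT (R := R) T X s)
    (πT_surjective T X s) (uT (R := R) T X s) hinj (exact_uT_πT T X s) Q
  have h2 : (uT (R := R) T X s).lTensor Q (TensorProduct.comm R _ Q z) = 0 := by
    rw [hcomm, uT_rTensor_apply, hz, map_zero]
  have h3 : TensorProduct.comm R _ Q z = 0 := h1 (by rw [h2, map_zero])
  exact (TensorProduct.comm R _ Q).injective (by rw [h3, map_zero])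

end Generic

section Noeth

open Groth.Agent.Lib.Seat6.FlatLocus

/-- Pointwise form of shrinking into the flat locus. -/
theorem exists_flat_away' {R S₁ : Type u} [CommRing R] [CommRing S₁] [Algebra R S₁]
    [Algebra.FinitePresentation R S₁] {N₁ : Type u} [AddCommGroup N₁] [Module S₁ N₁] [Module R N₁]
    [IsScalarTower R S₁ N₁] [Module.FinitePresentation S₁ N₁] (q₁ : Ideal S₁) [q₁.IsPrime]
    (hflat : Module.Flat R (LocalizedModule q₁.primeCompl N₁)) :
    ∃ h : S₁, h ∉ q₁ ∧ ∀ (Q : Ideal S₁) [Q.IsPrime], h ∉ Q →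
      Module.Flat R (LocalizedModule Q.primeCompl N₁) := by
  have hopen := Groth.Agent.Lib.Helper3.FlatOpen.isOpen_flatLocus_of_finitePresentation
    (R := R) (S := S₁) (M := N₁)
  have hmem : (⟨q₁, inferInstance⟩ : PrimeSpectrum S₁) ∈
      {q : PrimeSpectrum S₁ | Module.Flat R (LocalizedModule q.asIdeal.primeCompl N₁)} := hflat
  obtain ⟨v, ⟨h, rfl⟩, hqv, hvU⟩ :=
    PrimeSpectrum.isTopologicalBasis_basic_opens.exists_subset_of_mem_open hmem hopen
  refine ⟨h, hqv, ?_⟩
  intro Q _ hhQ
  exact hvU (show (⟨Q, inferInstance⟩ : PrimeSpectrum S₁) ∈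
    (PrimeSpectrum.basicOpen h : Set (PrimeSpectrum S₁)) from hhQ)

/-- If `g` is a multiple of `h` and `N₁` is flat at all primes not containing `h`, then `N₁[1/g]`
is flat. -/
theorem flat_away_of_forall {R S₁ : Type u} [CommRing R] [CommRing S₁] [Algebra R S₁]
    {N₁ : Type u} [AddCommGroup N₁] [Module S₁ N₁] [Module R N₁] [IsScalarTower R S₁ N₁]
    (h g : S₁) (hg : h ∣ g)
    (H : ∀ (Q : Ideal S₁) [Q.IsPrime], h ∉ Q → Module.Flat R (LocalizedModule Q.primeCompl N₁)) :
    Module.Flat R (LocalizedModule (Submonoid.powers g) N₁) := by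
  apply flat_localizedModule_of_forall
  intro Q _ hQ
  apply H Q
  intro hhQ
  exact hQ (Submonoid.mem_powers g) (Ideal.mem_of_dvd Q hg hhQ)

/-- Noetherian open version of the torsion statement. -/
theorem sTors_powers_noetherian {R₀ S₀ : Type u} [CommRing R₀] [CommRing S₀] [Algebra R₀ S₀]
    [Algebra.FinitePresentation R₀ S₀] [IsNoetherianRing S₀]
    {N₀ : Type u} [AddCommGroup N₀] [Module S₀ N₀] [Module R₀ N₀]
    [IsScalarTower R₀ S₀ N₀] [Module.Finite S₀ N₀] [Module.Flat R₀ N₀]
    (q₀ : Ideal S₀) [q₀.IsPrime] (s₀ : S₀) (h0 : STors R₀ N₀ s₀ q₀.primeCompl) :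
    ∃ g₀ : S₀, g₀ ∉ q₀ ∧ STors R₀ N₀ s₀ (Submonoid.powers g₀) := by
  classical
  -- flatness of the quotient at `q₀`
  have hS : SInj R₀ (LocalizedModule q₀.primeCompl N₀) s₀ :=
    sInj_of_sTors_isLocalizedModule q₀.primeCompl
      (LocalizedModule.mkLinearMap q₀.primeCompl N₀) s₀ h0
  haveI : Module.Flat R₀ (LocalizedModule q₀.primeCompl N₀) :=
    Groth.Agent.Lib.Helper3.FlatLoc.flat_localizedModule_of_flat q₀.primeCompl
  have hfl : Module.Flat R₀ (LocalizedModule q₀.primeCompl (QuotS N₀ s₀)) :=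
    flat_quot_of_sInj q₀.primeCompl N₀ s₀ hS
  haveI : Module.FinitePresentation S₀ (QuotS N₀ s₀) := Module.finitePresentation_of_finite _ _
  obtain ⟨h, hh, hflat⟩ := exists_flat_away' (R := R₀) q₀ hfl
  -- the kernel
  have hK : ∀ n : N₀, s₀ • n = 0 → ∃ t : S₀, t ∉ q₀ ∧ t • n = 0 := by
    intro n hn
    have h1 : s₀ • (n ⊗ₜ[R₀] (1 : R₀)) = 0 := by
      rw [TensorProduct.smul_tmul', hn, TensorProduct.zero_tmul]
    obtain ⟨t, ht, h2⟩ := h0 R₀ _ h1
    refine ⟨t, ht, ?_⟩
    rw [TensorProduct.smul_tmul'] at h2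
    have h3 := congrArg (TensorProduct.rid R₀ N₀) h2
    simpa using h3
  haveI : IsNoetherian S₀ N₀ := isNoetherian_of_isNoetherianRing_of_finite S₀ N₀
  set K : Submodule S₀ N₀ := LinearMap.ker (LinearMap.lsmul S₀ N₀ s₀) with hKdef
  obtain ⟨gens, hgens⟩ := IsNoetherian.noetherian K
  have hgen_mem : ∀ n ∈ gens, s₀ • n = 0 := by
    intro n hn
    have : n ∈ K := by rw [← hgens]; exact Submodule.subset_span hn
    exact this
  choose! tt htt1 htt2 using fun n (hn : n ∈ gens) => hK n (hgen_mem n hn)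
  set g₁ : S₀ := ∏ n ∈ gens, tt n with hg₁
  have hg₁q : g₁ ∉ q₀ := by
    intro hmem
    obtain ⟨n, hn, hmem'⟩ := Ideal.IsPrime.prod_mem_iff.1 hmem
    exact htt1 n hn hmem'
  have hg₁K : ∀ n ∈ K, g₁ • n = 0 := by
    intro n hn
    rw [← hgens] at hn
    refine Submodule.span_induction ?_ ?_ ?_ ?_ hn
    · intro x hx
      have hx' : x ∈ gens := hx
      rw [hg₁, ← Finset.mul_prod_erase gens tt hx', mul_comm, mul_smul, htt2 x hx', smul_zero]
    · exact smul_zero _
    · intro x y _ _ hx hy
      rw [smul_add, hx, hy, add_zero]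
    · intro a x _ hx
      rw [smul_comm, hx, smul_zero]
  refine ⟨h * g₁, ?_, ?_⟩
  · intro hmem
    rcases Ideal.IsPrime.mem_or_mem inferInstance hmem with h' | h'
    · exact hh h'
    · exact hg₁q h'
  · haveI : Module.Flat R₀ (LocalizedModule (Submonoid.powers (h * g₁)) (QuotS N₀ s₀)) :=
      flat_away_of_forall h (h * g₁) (Dvd.intro _ rfl) hflat
    have hS' : SInj R₀ (LocalizedModule (Submonoid.powers (h * g₁)) N₀) s₀ := by
      apply sInj_of_flat_quot
      intro x hx
      refine ⟨h * g₁, Submonoid.mem_powers _, ?_⟩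
      rw [mul_smul, hg₁K x hx, smul_zero]
    exact sTors_of_sInj_isLocalizedModule (Submonoid.powers (h * g₁))
      (LocalizedModule.mkLinearMap (Submonoid.powers (h * g₁)) N₀) s₀ hS'

end Noeth

section CoreOpen

open IsLocalRing Groth.Agent.Lib.Seat6.NzdNoeth Groth.Agent.Lib.Seat6.NzdCore
  Groth.Agent.Lib.Seat6.FlatModelElt Groth.Agent.Lib.Helper3.FlatLoc

/-- Open version of `coreP`. -/
theorem coreP_open {R : Type u} [CommRing R]
    {S : Type u} [CommRing S] [Algebra R S] [Algebra.FinitePresentation R S]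
    {N : Type u} [AddCommGroup N] [Module S N] [Module R N] [IsScalarTower R S N]
    [Module.FinitePresentation S N] [Module.Flat R N]
    (p : Ideal R) [p.IsPrime] (q : Ideal S) [q.IsPrime] (hq : q.comap (algebraMap R S) = p)
    (s : S) (hs : ∀ n : N, s • n ∈ (p • ⊤ : Submodule R N) →
      ∃ t : R, t ∉ p ∧ t • n ∈ (p • ⊤ : Submodule R N)) :
    ∃ g : S, g ∉ q ∧ STors R N s (Submonoid.powers g) := by
  obtain ⟨R₀, _, _, S₀, _, _, _, _, _, _, N₀, _, _, _, _, _, _, f, hZ, hft, hfin, hflat, hpush,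
    hbc, s₀, hs₀⟩ := exists_flat_module_model_elt R S N s
  haveI := hfin
  haveI := hflat
  haveI := hpush
  haveI : IsNoetherianRing R₀ := Algebra.FiniteType.isNoetherianRing ℤ R₀
  haveI : IsNoetherianRing S₀ := Algebra.FiniteType.isNoetherianRing R₀ S₀
  -- the `R₀`-module structure on `N`
  letI : Module R₀ N := Module.compHom N (algebraMap R₀ R)
  have hsm : ∀ (r : R₀) (n : N), r • n = algebraMap R₀ R r • n := fun _ _ => rfl
  haveI : IsScalarTower R₀ R N := ⟨fun a r n => by
    rw [hsm, Algebra.smul_def, mul_smul]⟩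
  haveI : IsScalarTower R₀ S₀ N := ⟨fun a b n => by
    rw [hsm, Algebra.smul_def, mul_smul, ← algebraMap_smul S (algebraMap R₀ S₀ a) (b • n),
      ← IsScalarTower.algebraMap_apply R₀ S₀ S, ← algebraMap_smul S (algebraMap R₀ R a) (b • n),
      ← IsScalarTower.algebraMap_apply R₀ R S]⟩
  have hb : IsBaseChange R (f.restrictScalars R₀) :=
    isBaseChange_restrictScalars_of_isPushout f hbc
  set p₀ : Ideal R₀ := p.comap (algebraMap R₀ R) with hp₀
  set q₀ : Ideal S₀ := q.comap (algebraMap S₀ S) with hq₀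
  have hpq : q₀.comap (algebraMap R₀ S₀) = p₀ := by
    rw [hq₀, hp₀, Ideal.comap_comap, ← IsScalarTower.algebraMap_eq,
      IsScalarTower.algebraMap_eq R₀ R S, ← Ideal.comap_comap, hq]
  -- the fibre condition on the model
  have hB : ∀ n₀ : N₀, s₀ • n₀ ∈ (p₀ • ⊤ : Submodule R₀ N₀) →
      ∃ t : R₀, t ∉ p₀ ∧ t • n₀ ∈ (p₀ • ⊤ : Submodule R₀ N₀) := by
    intro n₀ h
    have hfmem : ∀ y ∈ (p₀ • ⊤ : Submodule R₀ N₀),
        f y ∈ (p • ⊤ : Submodule R N) := by
      intro y hy
      refine Submodule.smul_induction_on hy ?_ ?_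
      · intro a ha y' _
        have : f (a • y') = algebraMap R₀ R a • f y' := by
          rw [← algebraMap_smul S₀ a y', map_smul, algebraMap_smul, hsm]
        rw [this]
        exact Submodule.smul_mem_smul ha trivial
      · intro x y hx hy
        rw [map_add]
        exact Submodule.add_mem _ hx hy
    have h1 : s • f n₀ ∈ (p • ⊤ : Submodule R N) := by
      rw [← hs₀, algebraMap_smul, ← map_smul]
      exact hfmem _ h
    obtain ⟨t, ht, h2⟩ := hs _ h1
    have h3 : f n₀ ⊗ₜ[R] (1 : p.ResidueField) = 0 := by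
      have h30 : (t • f n₀) ⊗ₜ[R] (1 : p.ResidueField) = 0 := tmul_one_eq_zero_of_mem p h2
      have hu : IsUnit (algebraMap R p.ResidueField t) := by
        rw [isUnit_iff_ne_zero, ne_eq, Ideal.algebraMap_residueField_eq_zero]
        exact ht
      obtain ⟨u, hu⟩ := hu
      have h31 : f n₀ ⊗ₜ[R] (u : p.ResidueField) = 0 := by
        rw [hu, Algebra.algebraMap_eq_smul_one, ← TensorProduct.smul_tmul]
        exact h30
      have h32 := congrArg (LinearMap.lTensor N
        (LinearMap.mulLeft R ((↑u⁻¹ : p.ResidueField)))) h31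
      rw [LinearMap.lTensor_tmul, LinearMap.mulLeft_apply, Units.inv_mul, map_zero] at h32
      exact h32
    have h4 : n₀ ⊗ₜ[R₀] (1 : p.ResidueField) = 0 := by
      apply (bcMap_bijective (f.restrictScalars R₀) hb p.ResidueField).1
      rw [bcMap_tmul, map_zero]
      exact h3
    let ι : p₀.ResidueField →ₐ[R₀] p.ResidueField :=
      Ideal.ResidueField.mapₐ p₀ p (Algebra.ofId R₀ R) rfl
    have hι : Function.Injective ι.toLinearMap := ι.toRingHom.injective
    have h5 : n₀ ⊗ₜ[R₀] (1 : p₀.ResidueField) = 0 := by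
      apply Module.Flat.lTensor_preserves_injective_linearMap (M := N₀) ι.toLinearMap hι
      rw [map_zero, LinearMap.lTensor_tmul, AlgHom.toLinearMap_apply, map_one]
      exact h4
    have h6 : (1 : p₀.ResidueField) ⊗ₜ[R₀] n₀ = 0 := by
      have := congrArg (TensorProduct.comm R₀ N₀ p₀.ResidueField) h5
      simpa using this
    exact Groth.Agent.Helper13Fiber.exists_smul_mem_of_tmul_eq_zero p₀ n₀ h6
  have h0 := sTors_noetherian p₀ q₀ hpq s₀ hB
  haveI : Algebra.FinitePresentation R₀ S₀ := Algebra.FinitePresentation.of_finiteType.1 hft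
  obtain ⟨g₀, hg₀, h0'⟩ := sTors_powers_noetherian q₀ s₀ h0
  have h1 := sTors_of_isBaseChange f hb (Submonoid.powers g₀)
    (Submonoid.powers (algebraMap S₀ S g₀)) (by
      rintro _ ⟨k, rfl⟩
      exact ⟨k, by rw [map_pow]⟩) s₀ h0'
  rw [hs₀] at h1
  exact ⟨algebraMap S₀ S g₀, hg₀, h1⟩


end CoreOpen

section FibreKernel

attribute [local instance] Algebra.TensorProduct.rightAlgebra

open Groth.Agent.Helper13Fiber FlatCA

variable {R S₁ : Type u} [CommRing R] [CommRing S₁] [Algebra R S₁]
  {N₁ : Type u} [AddCommGroup N₁] [Module S₁ N₁] [Module R N₁] [IsScalarTower R S₁ N₁]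
  [Algebra.FiniteType R S₁] [Module.Finite S₁ N₁]

/-- Uniform killing of the kernel of `s₁` on the fibre over an arbitrary prime `p`, near `q₁`. -/
theorem exists_kill_fibre_kernel' (p : Ideal R) [p.IsPrime] (q₁ : Ideal S₁) [q₁.IsPrime]
    (hq : q₁.comap (algebraMap R S₁) = p) (s₁ : S₁)
    (hloc : ∀ n₁ : N₁, toFiberMod p S₁ N₁ (s₁ • n₁) = 0 →
      ∃ w : S₁, w ∉ q₁ ∧ toFiberMod p S₁ N₁ (w • n₁) = 0) :
    ∃ h' : S₁, h' ∉ q₁ ∧ ∀ n₁ : N₁, toFiberMod p S₁ N₁ (s₁ • n₁) = 0 →
      toFiberMod p S₁ N₁ (h' • n₁) = 0 := by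
  classical
  haveI : IsNoetherianRing (p.Fiber S₁) :=
    Algebra.FiniteType.isNoetherianRing p.ResidueField (p.Fiber S₁)
  haveI : Module.Finite (p.Fiber S₁) (fiberMod p S₁ N₁) :=
    inferInstanceAs (Module.Finite (p.Fiber S₁) ((p.Fiber S₁) ⊗[S₁] N₁))
  haveI : IsNoetherian (p.Fiber S₁) (fiberMod p S₁ N₁) :=
    isNoetherian_of_isNoetherianRing_of_finite _ _
  set φ := toFiberMod p S₁ N₁ with hφ
  set K' : Submodule (p.Fiber S₁) (fiberMod p S₁ N₁) :=
    LinearMap.ker (LinearMap.lsmul (p.Fiber S₁) (fiberMod p S₁ N₁)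
      (algebraMap S₁ (p.Fiber S₁) s₁)) with hK'
  have hmemK : ∀ z, z ∈ K' ↔ s₁ • z = 0 := by
    intro z
    rw [hK', LinearMap.mem_ker, LinearMap.lsmul_apply, algebraMap_smul]
  -- pointwise killing
  have claim1 : ∀ z ∈ K', ∃ w : S₁, w ∉ q₁ ∧ w • z = 0 := by
    intro z hz
    rw [hmemK] at hz
    obtain ⟨t, ht, n, htn⟩ := exists_smul_eq_toFiberMod p S₁ N₁ z
    have h1 : φ (s₁ • n) = 0 := by
      rw [map_smul, hφ, ← htn, smul_comm, hz, smul_zero]
    obtain ⟨w, hw, h4⟩ := hloc n h1
    refine ⟨w * algebraMap R S₁ t, ?_, ?_⟩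
    · intro hmem
      rcases Ideal.IsPrime.mem_or_mem inferInstance hmem with h | h
      · exact hw h
      · apply ht
        rw [← hq]
        exact h
    · rw [mul_smul, htn, ← map_smul]
      exact h4
  -- uniform killing
  have claim2 : ∀ (gens : Finset (fiberMod p S₁ N₁)), (∀ z ∈ gens, z ∈ K') →
      ∃ h' : S₁, h' ∉ q₁ ∧ ∀ z ∈ Submodule.span (p.Fiber S₁)
        (gens : Set (fiberMod p S₁ N₁)), h' • z = 0 := by
    intro gens
    induction gens using Finset.induction_on with
    | empty =>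
      intro _
      refine ⟨1, fun h => (Ideal.IsPrime.ne_top inferInstance) ((Ideal.eq_top_iff_one _).2 h), ?_⟩
      intro z hz
      rw [Finset.coe_empty, Submodule.span_empty, Submodule.mem_bot] at hz
      rw [hz, smul_zero]
    | insert a gens ha ih =>
      intro hgens
      obtain ⟨h₁, hh₁, hkill⟩ := ih (fun z hz => hgens z (Finset.mem_insert_of_mem hz))
      obtain ⟨w, hw, hwa⟩ := claim1 a (hgens a (Finset.mem_insert_self a gens))
      refine ⟨w * h₁, ?_, ?_⟩
      · intro hmem
        rcases Ideal.IsPrime.mem_or_mem inferInstance hmem with h | h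
        · exact hw h
        · exact hh₁ h
      · intro z hz
        rw [Finset.coe_insert, Submodule.mem_span_insert] at hz
        obtain ⟨c, y, hy, rfl⟩ := hz
        have e1 : (w * h₁) • (c • a) = 0 := by
          rw [mul_comm, mul_smul, ← algebraMap_smul (p.Fiber S₁) w (c • a),
            smul_smul, mul_comm, ← smul_smul, algebraMap_smul, hwa, smul_zero, smul_zero]
        have e2 : (w * h₁) • y = 0 := by
          rw [mul_smul, hkill y hy, smul_zero]
        rw [smul_add, e1, e2, add_zero]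
  obtain ⟨gens, hgens⟩ := IsNoetherian.noetherian K'
  obtain ⟨h', hh', hkill⟩ := claim2 gens (fun z hz => by
    rw [← hgens]
    exact Submodule.subset_span hz)
  refine ⟨h', hh', ?_⟩
  intro n₁ hn₁
  have h2 : φ n₁ ∈ K' := by
    rw [hmemK, ← map_smul]
    exact hn₁
  rw [← hgens] at h2
  have h3 := hkill _ h2
  rw [← map_smul] at h3
  exact h3

end FibreKernel

end Groth.Agent.Lib.Seat6.Slice
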