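import Mathlib
import Groth.Prelude.Def_FlatCA
import Groth.Agent.Lib.Seat6Slice

/-!
# Slicing by a fibrewise nonzerodivisor: ring-level assembly (seat 6)

`exists_slice`: `R → S` finitely presented, `q` a prime of `S` over `p` with `S_q` flat over `R`,
`s ∈ S` a nonzerodivisor on `S_q/pS_q`. Then there is `g ∉ q` such that on `S_g` the element `s` is a
nonzerodivisor and `S_g/(s)` is flat over `R`.
-/

set_option autoImplicit false
set_option linter.style.haveILetI false
universe u

namespace Groth.Agent.Lib.Seat6.Slice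

open TensorProduct Groth.Agent.Lib.Seat6.NzdLemmas Groth.Agent.Helper13Fiber FlatCA

section LiftLoc

variable {S : Type u} [CommRing S] {N : Type u} [AddCommGroup N] [Module S N]

/-- localization of a localization is a localization (module version), assuming only that every
element of `W` divides an element of `W'`. -/
theorem isLocalizedModule_lift' (W W' : Submonoid S) (hW : ∀ w ∈ W, ∃ w' ∈ W', w ∣ w')
    {NW NW' : Type u} [AddCommGroup NW] [Module S NW] [AddCommGroup NW'] [Module S NW']
    (f : N →ₗ[S] NW) [IsLocalizedModule W f] (f' : N →ₗ[S] NW') [IsLocalizedModule W' f']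
    (g : NW →ₗ[S] NW') (hg : ∀ n, g (f n) = f' n) : IsLocalizedModule W' g where
  map_units s := IsLocalizedModule.map_units f' s
  surj y := by
    obtain ⟨⟨n, s⟩, hs⟩ := IsLocalizedModule.surj W' f' y
    exact ⟨⟨f n, s⟩, by rw [hg]; exact hs⟩
  exists_of_eq {x₁ x₂} h := by
    obtain ⟨⟨n₁, w₁⟩, h₁⟩ := IsLocalizedModule.surj W f x₁
    obtain ⟨⟨n₂, w₂⟩, h₂⟩ := IsLocalizedModule.surj W f x₂
    simp only [Submonoid.smul_def] at h₁ h₂
    have e1 : f' ((w₂ : S) • n₁) = f' ((w₁ : S) • n₂) := by
      have a1 : f' ((w₂ : S) • n₁) = (w₂ : S) • (w₁ : S) • g x₁ := by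
        rw [map_smul, ← hg, ← h₁, map_smul]
      have a2 : f' ((w₁ : S) • n₂) = (w₁ : S) • (w₂ : S) • g x₂ := by
        rw [map_smul, ← hg, ← h₂, map_smul]
      rw [a1, a2, h, smul_comm]
    obtain ⟨c, hc⟩ := IsLocalizedModule.exists_of_eq (S := W') (f := f') e1
    rw [Submonoid.smul_def, Submonoid.smul_def] at hc
    obtain ⟨w', hw', d, hd⟩ := hW _ (W.mul_mem w₁.2 w₂.2)
    refine ⟨c * ⟨w', hw'⟩, ?_⟩
    have e2 : f ((c : S) • (w₂ : S) • n₁) = f ((c : S) • (w₁ : S) • n₂) := by rw [hc]
    rw [map_smul, map_smul, map_smul, map_smul, ← h₁, ← h₂] at e2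
    rw [Submonoid.smul_def, Submonoid.smul_def, Submonoid.coe_mul]
    change ((c : S) * w') • x₁ = ((c : S) * w') • x₂
    rw [hd]
    have e3 : ∀ x : NW, ((c : S) * ((w₁ : S) * (w₂ : S) * d)) • x =
        d • (c : S) • (w₂ : S) • (w₁ : S) • x := by
      intro x
      simp only [← mul_smul]
      congr 1
      ring
    rw [e3, e3, e2, smul_comm (w₁ : S) (w₂ : S) x₂]

end LiftLoc

section Flat

variable {R S : Type u} [CommRing R] [CommRing S] [Algebra R S]

/-- If `S` is `R`-flat at all primes not containing `h` and `h ∣ g`, any localization of `S` away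
from `g` is `R`-flat. -/
theorem flat_of_isLocalizationAway_of_forall (h g : S) (hg : h ∣ g)
    (H : ∀ (Q : Ideal S) [Q.IsPrime], h ∉ Q → Module.Flat R (LocalizedModule Q.primeCompl S))
    (T : Type u) [CommRing T] [Algebra S T] [Algebra R T] [IsScalarTower R S T]
    [IsLocalization.Away g T] : Module.Flat R T := by
  haveI : Module.Flat R (LocalizedModule (Submonoid.powers g) S) :=
    flat_away_of_forall h g hg H
  let e : LocalizedModule (Submonoid.powers g) S ≃ₗ[S] T :=
    IsLocalizedModule.iso (Submonoid.powers g) (Algebra.linearMap S T)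
  exact Module.Flat.of_linearEquiv (e.restrictScalars R).symm

end Flat

section Conseq

variable {R S : Type u} [CommRing R] [CommRing S] [Algebra R S]
  {T : Type u} [CommRing T] [Algebra S T] [Algebra R T] [IsScalarTower R S T]

/-- Universal injectivity of multiplication by `s` gives a nonzerodivisor. -/
theorem nzd_of_sInj (s : S) (h : SInj R T s) : algebraMap S T s ∈ nonZeroDivisors T := by
  rw [mem_nonZeroDivisors_iff_right]
  intro x hx
  have h1 : s • (x ⊗ₜ[R] (1 : R)) = 0 := by
    rw [TensorProduct.smul_tmul', Algebra.smul_def, mul_comm, hx, TensorProduct.zero_tmul]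
  have h2 := h R _ h1
  have h3 := congrArg (TensorProduct.rid R T) h2
  simpa using h3

/-- Universal injectivity of multiplication by `s` on a flat algebra gives a flat quotient. -/
theorem flat_quotient_of_sInj [Module.Flat R T] (s : S) (h : SInj R T s) :
    Module.Flat R (T ⧸ Ideal.span {algebraMap S T s}) := by
  set f : T →ₗ[R] T := (LinearMap.lsmul S T s).restrictScalars R with hf
  have hf_apply : ∀ x, f x = algebraMap S T s * x := fun x => by
    rw [hf]
    change s • x = _
    rw [Algebra.smul_def]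
  set g : T →ₗ[R] T ⧸ Ideal.span {algebraMap S T s} :=
    (Ideal.Quotient.mkₐ R (Ideal.span {algebraMap S T s})).toLinearMap with hg
  have hex : Function.Exact f g := by
    intro y
    change Ideal.Quotient.mk _ y = 0 ↔ _
    rw [Ideal.Quotient.eq_zero_iff_mem, Ideal.mem_span_singleton']
    constructor
    · rintro ⟨a, ha⟩
      exact ⟨a, by rw [hf_apply, mul_comm, ha]⟩
    · rintro ⟨a, ha⟩
      exact ⟨a, by rw [← ha, hf_apply, mul_comm]⟩
  have hsurj : Function.Surjective g := Ideal.Quotient.mk_surjective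
  refine Groth.Agent.Lib.Helper14.flat_of_exact_of_rTensor_quotient_injective f g hex hsurj
    (fun I _ => ?_)
  rw [injective_iff_map_eq_zero]
  intro z hz
  have h1 : ∀ w : T ⊗[R] (R ⧸ I), f.rTensor (R ⧸ I) w = s • w := by
    intro w
    induction w with
    | zero => simp
    | add a b ha hb => rw [map_add, ha, hb, smul_add]
    | tmul x q => rw [LinearMap.rTensor_tmul, TensorProduct.smul_tmul']; rfl
  rw [h1] at hz
  exact h (R ⧸ I) z hz

end Conseq

section Main

/-- **Slicing, ring form.** -/
theorem exists_slice {R S : Type u} [CommRing R] [CommRing S] [Algebra R S]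
    [Algebra.FinitePresentation R S]
    (p : Ideal R) [p.IsPrime] (q : Ideal S) [q.IsPrime] (hq : q.comap (algebraMap R S) = p) (s : S)
    (hflat : Module.Flat R (LocalizedModule q.primeCompl S))
    (hloc : ∀ n : S, s * n ∈ p.map (algebraMap R S) →
      ∃ w : S, w ∉ q ∧ w * n ∈ p.map (algebraMap R S)) :
    ∃ g : S, g ∉ q ∧ ∀ (T : Type u) [CommRing T] [Algebra S T] [Algebra R T] [IsScalarTower R S T]
      [IsLocalization.Away g T],
      algebraMap S T s ∈ nonZeroDivisors T ∧ Module.Flat R T ∧
        Module.Flat R (T ⧸ Ideal.span {algebraMap S T s}) := by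
  classical
  -- (a) shrink into the flat locus
  obtain ⟨h₁, hh₁, hfl⟩ := exists_flat_away' (R := R) (N₁ := S) q hflat
  -- (b) kill the kernel on the fibre
  have htop : ∀ I : Ideal S, (I • ⊤ : Submodule S S) = I := fun I => by
    rw [smul_eq_mul, Ideal.mul_top]
  have hloc' : ∀ n : S, toFiberMod p S S (s • n) = 0 →
      ∃ w : S, w ∉ q ∧ toFiberMod p S S (w • n) = 0 := by
    intro n hn
    obtain ⟨t, ht, h1⟩ := (toFiberMod_eq_zero_iff p S S (s • n)).1 hn
    rw [htop] at h1
    have h2 : s * (algebraMap R S t * n) ∈ p.map (algebraMap R S) := by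
      have : algebraMap R S t • s • n = s * (algebraMap R S t * n) := by
        simp only [smul_eq_mul]; ring
      rwa [this] at h1
    obtain ⟨w, hw, h3⟩ := hloc _ h2
    refine ⟨w, hw, (toFiberMod_eq_zero_iff p S S (w • n)).2 ⟨t, ht, ?_⟩⟩
    rw [htop]
    have : algebraMap R S t • w • n = w * (algebraMap R S t * n) := by
      simp only [smul_eq_mul]; ring
    rw [this]; exact h3
  obtain ⟨h₂, hh₂, hkill⟩ := exists_kill_fibre_kernel' p q hq s hloc'
  -- (c) the first localization
  set g₀ : S := h₁ * h₂ with hg₀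
  have hg₀q : g₀ ∉ q := by
    intro hmem
    rcases Ideal.IsPrime.mem_or_mem inferInstance hmem with h | h
    · exact hh₁ h
    · exact hh₂ h
  let S' := Localization.Away g₀
  haveI : Algebra.FinitePresentation R S' := Algebra.FinitePresentation.trans R S S'
  haveI : Module.Flat R S' :=
    flat_of_isLocalizationAway_of_forall h₁ g₀ (Dvd.intro _ rfl) hfl S'
  -- (d) the prime and the global fibre condition
  have hdisj : Disjoint (Submonoid.powers g₀ : Set S) (q : Set S) := by
    rw [Set.disjoint_left]
    rintro _ ⟨n, rfl⟩ hmem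
    exact hg₀q (Ideal.IsPrime.mem_of_pow_mem inferInstance n hmem)
  haveI hq' : (q.map (algebraMap S S')).IsPrime :=
    IsLocalization.isPrime_of_isPrime_disjoint (Submonoid.powers g₀) S' q inferInstance hdisj
  have hq'c : (q.map (algebraMap S S')).comap (algebraMap S S') = q :=
    IsLocalization.comap_map_of_isPrime_disjoint (Submonoid.powers g₀) S' inferInstance hdisj
  have hq'p : (q.map (algebraMap S S')).comap (algebraMap R S') = p := by
    rw [IsScalarTower.algebraMap_eq R S S', ← Ideal.comap_comap, hq'c, hq]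
  set s' : S' := algebraMap S S' s with hs'
  have hpmap : p.map (algebraMap R S') = (p.map (algebraMap R S)).map (algebraMap S S') := by
    rw [Ideal.map_map, ← IsScalarTower.algebraMap_eq]
  have hmemtop : ∀ n : S', n ∈ (p • ⊤ : Submodule R S') ↔
      n ∈ (p.map (algebraMap R S)).map (algebraMap S S') := by
    intro n
    rw [Ideal.smul_top_eq_map, Submodule.restrictScalars_mem, hpmap]
  have hunit_g₀ : IsUnit (algebraMap S S' g₀) := IsLocalization.Away.algebraMap_isUnit g₀
  have hunit_h₂ : IsUnit (algebraMap S S' h₂) := by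
    have h : algebraMap S S' g₀ = algebraMap S S' h₁ * algebraMap S S' h₂ :=
      map_mul (algebraMap S S') h₁ h₂
    rw [h] at hunit_g₀
    exact isUnit_of_mul_isUnit_right hunit_g₀
  have hs : ∀ n : S', s' • n ∈ (p • ⊤ : Submodule R S') →
      ∃ t : R, t ∉ p ∧ t • n ∈ (p • ⊤ : Submodule R S') := by
    intro n hn
    rw [hmemtop, smul_eq_mul] at hn
    obtain ⟨⟨n₁, c⟩, hn₁⟩ := IsLocalization.surj (Submonoid.powers g₀) n
    have hn₁' : n * algebraMap S S' (c : S) = algebraMap S S' n₁ := hn₁
    have h1 : algebraMap S S' (s * n₁) ∈ (p.map (algebraMap R S)).map (algebraMap S S') := by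
      rw [map_mul, ← hn₁', ← mul_assoc]
      exact Ideal.mul_mem_right _ _ hn
    obtain ⟨⟨i, c'⟩, hi⟩ := (IsLocalization.mem_map_algebraMap_iff (Submonoid.powers g₀) S').1 h1
    have hi' : algebraMap S S' (s * n₁ * (c' : S)) = algebraMap S S' (i : S) := by
      rw [map_mul]; exact hi
    obtain ⟨c'', hc''⟩ := (IsLocalization.eq_iff_exists (Submonoid.powers g₀) S').1 hi'
    have h2 : s * ((c'' : S) * c' * n₁) ∈ p.map (algebraMap R S) := by
      have : s * ((c'' : S) * c' * n₁) = c'' * (s * n₁ * c') := by ring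
      rw [this, hc'']
      exact Ideal.mul_mem_left _ _ i.2
    have h3 : toFiberMod p S S (s • ((c'' : S) * c' * n₁)) = 0 := by
      apply toFiberMod_eq_zero_of_mem
      rw [htop]
      exact h2
    have h4 := hkill _ h3
    obtain ⟨t, ht, h5⟩ := (toFiberMod_eq_zero_iff p S S _).1 h4
    rw [htop] at h5
    refine ⟨t, ht, ?_⟩
    rw [hmemtop]
    have hu : IsUnit (algebraMap S S' (h₂ * c'' * c' * c)) := by
      rw [map_mul, map_mul, map_mul]
      exact ((hunit_h₂.mul (IsLocalization.map_units S' c'')).mul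
        (IsLocalization.map_units S' c')).mul (IsLocalization.map_units S' c)
    have h6 : algebraMap S S' (algebraMap R S t • h₂ • ((c'' : S) * c' * n₁)) ∈
        (p.map (algebraMap R S)).map (algebraMap S S') := Ideal.mem_map_of_mem _ h5
    have h7 : algebraMap S S' (algebraMap R S t • h₂ • ((c'' : S) * c' * n₁)) =
        (t • n) * algebraMap S S' (h₂ * c'' * c' * c) := by
      simp only [smul_eq_mul, map_mul, Algebra.smul_def]
      rw [← hn₁', ← IsScalarTower.algebraMap_apply R S S']
      ring
    rw [h7] at h6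
    exact (Ideal.mul_unit_mem_iff_mem _ hu).1 h6
  -- (e) the open core
  obtain ⟨g₃, hg₃, hT⟩ := coreP_open (R := R) (S := S') (N := S') p (q.map (algebraMap S S'))
    hq'p s' hs
  -- (f) back to `S`
  obtain ⟨⟨a, c⟩, hac⟩ := IsLocalization.surj (Submonoid.powers g₀) g₃
  have hac' : g₃ * algebraMap S S' (c : S) = algebraMap S S' a := hac
  have haq : a ∉ q := by
    intro hmem
    have h1 : algebraMap S S' a ∈ q.map (algebraMap S S') := Ideal.mem_map_of_mem _ hmem
    rw [← hac'] at h1
    rcases Ideal.IsPrime.mem_or_mem hq' h1 with h | h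
    · exact hg₃ h
    · exact hq'.ne_top (Ideal.eq_top_of_isUnit_mem _ h (IsLocalization.map_units S' c))
  set g : S := g₀ * a with hg
  have hgq : g ∉ q := by
    intro hmem
    rcases Ideal.IsPrime.mem_or_mem inferInstance hmem with h | h
    · exact hg₀q h
    · exact haq h
  have hT' : STors R S' s (Submonoid.powers g) := by
    intro Q _ _ z hz
    have hz' : s' • z = 0 := by
      rw [hs', algebraMap_smul]; exact hz
    obtain ⟨_, ⟨j, rfl⟩, hj⟩ := hT Q z hz'
    refine ⟨g ^ j, ⟨j, rfl⟩, ?_⟩
    have h1 : algebraMap S S' (g ^ j) = (algebraMap S S' g₀ * algebraMap S S' (c : S)) ^ j * g₃ ^ j := by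
      rw [hg, map_pow, map_mul, ← hac', ← mul_pow]
      congr 1
      ring
    rw [← algebraMap_smul S' (g ^ j) z, h1, mul_smul, hj, smul_zero]
  refine ⟨g, hgq, ?_⟩
  intro T _ _ _ _ _
  -- (g) `T` is the localization of `S'` at the powers of `g`
  have hunitT : ∀ y : Submonoid.powers g₀, IsUnit ((IsScalarTower.toAlgHom S S T) (y : S)) := by
    rintro ⟨_, n, rfl⟩
    change IsUnit (algebraMap S T (g₀ ^ n))
    rw [map_pow]
    refine IsUnit.pow n ?_
    have : IsUnit (algebraMap S T g) := IsLocalization.Away.algebraMap_isUnit g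
    rw [hg, map_mul] at this
    exact isUnit_of_mul_isUnit_left this
  let ψ : S' →ₐ[S] T := IsLocalization.liftAlgHom (M := Submonoid.powers g₀)
    (f := IsScalarTower.toAlgHom S S T) hunitT
  have hψ : ∀ x : S, ψ.toLinearMap (Algebra.linearMap S S' x) = Algebra.linearMap S T x := by
    intro x
    change ψ (algebraMap S S' x) = algebraMap S T x
    exact ψ.commutes x
  haveI : IsLocalizedModule (Submonoid.powers g) ψ.toLinearMap :=
    isLocalizedModule_lift' (Submonoid.powers g₀) (Submonoid.powers g) (by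
      rintro _ ⟨n, rfl⟩
      exact ⟨g ^ n, ⟨n, rfl⟩, by rw [hg, mul_pow]; exact Dvd.intro _ rfl⟩)
      (Algebra.linearMap S S') (Algebra.linearMap S T) ψ.toLinearMap hψ
  have hSI : SInj R T s :=
    sInj_of_sTors_isLocalizedModule (Submonoid.powers g) ψ.toLinearMap s hT'
  haveI hTflat : Module.Flat R T :=
    flat_of_isLocalizationAway_of_forall h₁ g
      (by rw [hg, hg₀, mul_assoc]; exact Dvd.intro _ rfl) hfl T
  exact ⟨nzd_of_sInj s hSI, hTflat, flat_quotient_of_sInj s hSI⟩

/-- Variant with flatness of the local ring `S_q`. -/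
theorem exists_slice' {R S : Type u} [CommRing R] [CommRing S] [Algebra R S]
    [Algebra.FinitePresentation R S]
    (p : Ideal R) [p.IsPrime] (q : Ideal S) [q.IsPrime] (hq : q.comap (algebraMap R S) = p) (s : S)
    (hflat : Module.Flat R (Localization.AtPrime q))
    (hloc : ∀ n : S, s * n ∈ p.map (algebraMap R S) →
      ∃ w : S, w ∉ q ∧ w * n ∈ p.map (algebraMap R S)) :
    ∃ g : S, g ∉ q ∧ ∀ (T : Type u) [CommRing T] [Algebra S T] [Algebra R T] [IsScalarTower R S T]
      [IsLocalization.Away g T],
      algebraMap S T s ∈ nonZeroDivisors T ∧ Module.Flat R T ∧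
        Module.Flat R (T ⧸ Ideal.span {algebraMap S T s}) := by
  refine exists_slice p q hq s ?_ hloc
  let e : LocalizedModule q.primeCompl S ≃ₗ[S] Localization.AtPrime q :=
    IsLocalizedModule.iso q.primeCompl (Algebra.linearMap S (Localization.AtPrime q))
  exact Module.Flat.of_linearEquiv (e.restrictScalars R)

end Main

end Groth.Agent.Lib.Seat6.Slice
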