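import Mathlib
import Groth.Prelude.Def_FlatCA
import Groth.Agent.Lib.Seat6Slice2

/-!
# Slicing by a fibrewise regular sequence: ring level (seat 6)

* `exists_slice_mul`: variant of `exists_slice` whose conclusion holds on every `S_{g'}` with `g ∣ g'`.
-/

set_option autoImplicit false
set_option linter.style.haveILetI false
universe u

namespace Groth.Agent.Lib.Seat6.Slice

open TensorProduct Groth.Agent.Lib.Seat6.NzdLemmas Groth.Agent.Helper13Fiber FlatCA

/-- **Slicing, ring form**, valid on all smaller principal opens. -/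
theorem exists_slice_mul {R S : Type u} [CommRing R] [CommRing S] [Algebra R S]
    [Algebra.FinitePresentation R S]
    (p : Ideal R) [p.IsPrime] (q : Ideal S) [q.IsPrime] (hq : q.comap (algebraMap R S) = p) (s : S)
    (hflat : Module.Flat R (LocalizedModule q.primeCompl S))
    (hloc : ∀ n : S, s * n ∈ p.map (algebraMap R S) →
      ∃ w : S, w ∉ q ∧ w * n ∈ p.map (algebraMap R S)) :
    ∃ g : S, g ∉ q ∧ ∀ (g' : S), g ∣ g' → ∀ (T : Type u) [CommRing T] [Algebra S T] [Algebra R T]
      [IsScalarTower R S T] [IsLocalization.Away g' T],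
      algebraMap S T s ∈ nonZeroDivisors T ∧ Module.Flat R T ∧
        Module.Flat R (T ⧸ Ideal.span {algebraMap S T s}) := by
  classical
  -- (a) shrink into the flat locus
  obtain ⟨h₁, hh₁, hfl⟩ := exists_flat_away' (R := R) (N₁ := S) q hflat
  -- (b) kill the kernel on the fibre
  have htop : ∀ I : Ideal S, (I • ⊤ : Submodule S S) = I := fun I => by
    rw [smul_eq_mul, Ideal.mul_top]
  have hloc' : ∀ n : S, toFiberMod p S S (s • n) = 0 →
      ∃ w : S, w ∉ q ∧ toFiberMod p S S (w • n) = 0 := by
    intro n hn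
    obtain ⟨t, ht, h1⟩ := (toFiberMod_eq_zero_iff p S S (s • n)).1 hn
    rw [htop] at h1
    have h2 : s * (algebraMap R S t * n) ∈ p.map (algebraMap R S) := by
      have : algebraMap R S t • s • n = s * (algebraMap R S t * n) := by
        simp only [smul_eq_mul]; ring
      rwa [this] at h1
    obtain ⟨w, hw, h3⟩ := hloc _ h2
    refine ⟨w, hw, (toFiberMod_eq_zero_iff p S S (w • n)).2 ⟨t, ht, ?_⟩⟩
    rw [htop]
    have : algebraMap R S t • w • n = w * (algebraMap R S t * n) := by
      simp only [smul_eq_mul]; ring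
    rw [this]; exact h3
  obtain ⟨h₂, hh₂, hkill⟩ := exists_kill_fibre_kernel' p q hq s hloc'
  -- (c) the first localization
  set g₀ : S := h₁ * h₂ with hg₀
  have hg₀q : g₀ ∉ q := by
    intro hmem
    rcases Ideal.IsPrime.mem_or_mem inferInstance hmem with h | h
    · exact hh₁ h
    · exact hh₂ h
  let S' := Localization.Away g₀
  haveI : Algebra.FinitePresentation R S' := Algebra.FinitePresentation.trans R S S'
  haveI : Module.Flat R S' :=
    flat_of_isLocalizationAway_of_forall h₁ g₀ (Dvd.intro _ rfl) hfl S'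
  -- (d) the prime and the global fibre condition
  have hdisj : Disjoint (Submonoid.powers g₀ : Set S) (q : Set S) := by
    rw [Set.disjoint_left]
    rintro _ ⟨n, rfl⟩ hmem
    exact hg₀q (Ideal.IsPrime.mem_of_pow_mem inferInstance n hmem)
  haveI hq' : (q.map (algebraMap S S')).IsPrime :=
    IsLocalization.isPrime_of_isPrime_disjoint (Submonoid.powers g₀) S' q inferInstance hdisj
  have hq'c : (q.map (algebraMap S S')).comap (algebraMap S S') = q :=
    IsLocalization.comap_map_of_isPrime_disjoint (Submonoid.powers g₀) S' inferInstance hdisj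
  have hq'p : (q.map (algebraMap S S')).comap (algebraMap R S') = p := by
    rw [IsScalarTower.algebraMap_eq R S S', ← Ideal.comap_comap, hq'c, hq]
  set s' : S' := algebraMap S S' s with hs'
  have hpmap : p.map (algebraMap R S') = (p.map (algebraMap R S)).map (algebraMap S S') := by
    rw [Ideal.map_map, ← IsScalarTower.algebraMap_eq]
  have hmemtop : ∀ n : S', n ∈ (p • ⊤ : Submodule R S') ↔
      n ∈ (p.map (algebraMap R S)).map (algebraMap S S') := by
    intro n
    rw [Ideal.smul_top_eq_map, Submodule.restrictScalars_mem, hpmap]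
  have hunit_g₀ : IsUnit (algebraMap S S' g₀) := IsLocalization.Away.algebraMap_isUnit g₀
  have hunit_h₂ : IsUnit (algebraMap S S' h₂) := by
    have h : algebraMap S S' g₀ = algebraMap S S' h₁ * algebraMap S S' h₂ :=
      map_mul (algebraMap S S') h₁ h₂
    rw [h] at hunit_g₀
    exact isUnit_of_mul_isUnit_right hunit_g₀
  have hs : ∀ n : S', s' • n ∈ (p • ⊤ : Submodule R S') →
      ∃ t : R, t ∉ p ∧ t • n ∈ (p • ⊤ : Submodule R S') := by
    intro n hn
    rw [hmemtop, smul_eq_mul] at hn
    obtain ⟨⟨n₁, c⟩, hn₁⟩ := IsLocalization.surj (Submonoid.powers g₀) n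
    have hn₁' : n * algebraMap S S' (c : S) = algebraMap S S' n₁ := hn₁
    have h1 : algebraMap S S' (s * n₁) ∈ (p.map (algebraMap R S)).map (algebraMap S S') := by
      rw [map_mul, ← hn₁', ← mul_assoc]
      exact Ideal.mul_mem_right _ _ hn
    obtain ⟨⟨i, c'⟩, hi⟩ := (IsLocalization.mem_map_algebraMap_iff (Submonoid.powers g₀) S').1 h1
    have hi' : algebraMap S S' (s * n₁ * (c' : S)) = algebraMap S S' (i : S) := by
      rw [map_mul]; exact hi
    obtain ⟨c'', hc''⟩ := (IsLocalization.eq_iff_exists (Submonoid.powers g₀) S').1 hi'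
    have h2 : s * ((c'' : S) * c' * n₁) ∈ p.map (algebraMap R S) := by
      have : s * ((c'' : S) * c' * n₁) = c'' * (s * n₁ * c') := by ring
      rw [this, hc'']
      exact Ideal.mul_mem_left _ _ i.2
    have h3 : toFiberMod p S S (s • ((c'' : S) * c' * n₁)) = 0 := by
      apply toFiberMod_eq_zero_of_mem
      rw [htop]
      exact h2
    have h4 := hkill _ h3
    obtain ⟨t, ht, h5⟩ := (toFiberMod_eq_zero_iff p S S _).1 h4
    rw [htop] at h5
    refine ⟨t, ht, ?_⟩
    rw [hmemtop]
    have hu : IsUnit (algebraMap S S' (h₂ * c'' * c' * c)) := by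
      rw [map_mul, map_mul, map_mul]
      exact ((hunit_h₂.mul (IsLocalization.map_units S' c'')).mul
        (IsLocalization.map_units S' c')).mul (IsLocalization.map_units S' c)
    have h6 : algebraMap S S' (algebraMap R S t • h₂ • ((c'' : S) * c' * n₁)) ∈
        (p.map (algebraMap R S)).map (algebraMap S S') := Ideal.mem_map_of_mem _ h5
    have h7 : algebraMap S S' (algebraMap R S t • h₂ • ((c'' : S) * c' * n₁)) =
        (t • n) * algebraMap S S' (h₂ * c'' * c' * c) := by
      simp only [smul_eq_mul, map_mul, Algebra.smul_def]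
      rw [← hn₁', ← IsScalarTower.algebraMap_apply R S S']
      ring
    rw [h7] at h6
    exact (Ideal.mul_unit_mem_iff_mem _ hu).1 h6
  -- (e) the open core
  obtain ⟨g₃, hg₃, hT⟩ := coreP_open (R := R) (S := S') (N := S') p (q.map (algebraMap S S'))
    hq'p s' hs
  -- (f) back to `S`
  obtain ⟨⟨a, c⟩, hac⟩ := IsLocalization.surj (Submonoid.powers g₀) g₃
  have hac' : g₃ * algebraMap S S' (c : S) = algebraMap S S' a := hac
  have haq : a ∉ q := by
    intro hmem
    have h1 : algebraMap S S' a ∈ q.map (algebraMap S S') := Ideal.mem_map_of_mem _ hmem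
    rw [← hac'] at h1
    rcases Ideal.IsPrime.mem_or_mem hq' h1 with h | h
    · exact hg₃ h
    · exact hq'.ne_top (Ideal.eq_top_of_isUnit_mem _ h (IsLocalization.map_units S' c))
  set g : S := g₀ * a with hg
  have hgq : g ∉ q := by
    intro hmem
    rcases Ideal.IsPrime.mem_or_mem inferInstance hmem with h | h
    · exact hg₀q h
    · exact haq h
  have hT' : STors R S' s (Submonoid.powers g) := by
    intro Q _ _ z hz
    have hz' : s' • z = 0 := by
      rw [hs', algebraMap_smul]; exact hz
    obtain ⟨_, ⟨j, rfl⟩, hj⟩ := hT Q z hz'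
    refine ⟨g ^ j, ⟨j, rfl⟩, ?_⟩
    have h1 : algebraMap S S' (g ^ j) = (algebraMap S S' g₀ * algebraMap S S' (c : S)) ^ j * g₃ ^ j := by
      rw [hg, map_pow, map_mul, ← hac', ← mul_pow]
      congr 1
      ring
    rw [← algebraMap_smul S' (g ^ j) z, h1, mul_smul, hj, smul_zero]
  refine ⟨g, hgq, ?_⟩
  intro g' hgg' T _ _ _ _ _
  obtain ⟨b, rfl⟩ := hgg'
  have hT'' : STors R S' s (Submonoid.powers (g * b)) := by
    intro Q _ _ z hz
    obtain ⟨_, ⟨j, rfl⟩, hj⟩ := hT' Q z hz
    refine ⟨(g * b) ^ j, ⟨j, rfl⟩, ?_⟩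
    rw [mul_pow, mul_comm, mul_smul, hj, smul_zero]
  -- (g) `T` is the localization of `S'` at the powers of `g * b`
  have hunitT : ∀ y : Submonoid.powers g₀, IsUnit ((IsScalarTower.toAlgHom S S T) (y : S)) := by
    rintro ⟨_, n, rfl⟩
    change IsUnit (algebraMap S T (g₀ ^ n))
    rw [map_pow]
    refine IsUnit.pow n ?_
    have : IsUnit (algebraMap S T (g * b)) := IsLocalization.Away.algebraMap_isUnit (g * b)
    rw [hg, mul_assoc, map_mul] at this
    exact isUnit_of_mul_isUnit_left this
  let ψ : S' →ₐ[S] T := IsLocalization.liftAlgHom (M := Submonoid.powers g₀)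
    (f := IsScalarTower.toAlgHom S S T) hunitT
  have hψ : ∀ x : S, ψ.toLinearMap (Algebra.linearMap S S' x) = Algebra.linearMap S T x := by
    intro x
    change ψ (algebraMap S S' x) = algebraMap S T x
    exact ψ.commutes x
  haveI : IsLocalizedModule (Submonoid.powers (g * b)) ψ.toLinearMap :=
    isLocalizedModule_lift' (Submonoid.powers g₀) (Submonoid.powers (g * b)) (by
      rintro _ ⟨n, rfl⟩
      exact ⟨(g * b) ^ n, ⟨n, rfl⟩, by rw [hg, mul_pow, mul_pow]; exact Dvd.intro _ (mul_assoc _ _ _).symm⟩)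
      (Algebra.linearMap S S') (Algebra.linearMap S T) ψ.toLinearMap hψ
  have hSI : SInj R T s :=
    sInj_of_sTors_isLocalizedModule (Submonoid.powers (g * b)) ψ.toLinearMap s hT''
  haveI hTflat : Module.Flat R T :=
    flat_of_isLocalizationAway_of_forall h₁ (g * b)
      (by rw [hg, hg₀, mul_assoc, mul_assoc]; exact Dvd.intro _ rfl) hfl T
  exact ⟨nzd_of_sInj s hSI, hTflat, flat_quotient_of_sInj s hSI⟩

end Groth.Agent.Lib.Seat6.Slice
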