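import Mathlib
import Groth.Prelude.Def_FlatCA
import Groth.Agent.Lib.Seat6Slice3

/-!
# Slicing by a fibrewise regular sequence: ring level, list version (seat 6)

* `nonempty_theta`: `S_{g₁ a}/(s)` is the localization of `S_{g₁}/(s)` at the image of `a`.
* `LocReg q I rs`: `rs` is "regular modulo `I` near `q`".
* `exists_slice_list`: if `S` is of finite presentation over `R`, flat at `q`, and `rs ⊆ q` is
  regular on the fibre near `q`, then on a principal open neighbourhood (and all smaller principal
  opens) `rs` is weakly regular and `S/(rs)` is flat over `R`.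
-/

set_option autoImplicit false
set_option linter.style.haveILetI false
universe u

namespace Groth.Agent.Lib.Seat6.Slice

open TensorProduct

section Theta

variable {S : Type u} [CommRing S] (s g₁ a : S)
  (T₁ : Type u) [CommRing T₁] [Algebra S T₁] [IsLocalization.Away g₁ T₁]

/-- The quotient of a localization, used as the next ring in the slicing induction. -/
abbrev QuotLoc : Type u := T₁ ⧸ Ideal.span {algebraMap S T₁ s}

variable (g' : QuotLoc s T₁) (k : ℕ)
  (hg' : algebraMap S (QuotLoc s T₁) a = g' * (algebraMap S (QuotLoc s T₁) g₁) ^ k)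
  (T : Type u) [CommRing T] [Algebra S T] [IsLocalization.Away (g₁ * a) T]
  (T' : Type u) [CommRing T'] [Algebra S T'] [Algebra (QuotLoc s T₁) T']
  [IsScalarTower S (QuotLoc s T₁) T'] [IsLocalization.Away g' T']

include hg' in
/-- `S_{g₁ a}/(s)` is the localization of `S_{g₁}/(s)` at `g'`. -/
theorem nonempty_theta : Nonempty ((T ⧸ Ideal.span {algebraMap S T s}) ≃ₐ[S] T') := by
  have hunit_ga : IsUnit (algebraMap S T (g₁ * a)) := IsLocalization.Away.algebraMap_isUnit _
  have hunit_g₁T : IsUnit (algebraMap S T g₁) := by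
    rw [map_mul] at hunit_ga; exact isUnit_of_mul_isUnit_left hunit_ga
  have hunit_aT : IsUnit (algebraMap S T a) := by
    rw [map_mul] at hunit_ga; exact isUnit_of_mul_isUnit_right hunit_ga
  -- λ₁ : T₁ → T
  have hu1 : ∀ y : Submonoid.powers g₁, IsUnit ((IsScalarTower.toAlgHom S S T) (y : S)) := by
    rintro ⟨_, n, rfl⟩
    change IsUnit (algebraMap S T (g₁ ^ n))
    rw [map_pow]; exact hunit_g₁T.pow n
  let l₁ : T₁ →ₐ[S] T := IsLocalization.liftAlgHom (M := Submonoid.powers g₁)
    (f := IsScalarTower.toAlgHom S S T) hu1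
  -- α : S' → T̄
  let mkT : T →ₐ[S] (T ⧸ Ideal.span {algebraMap S T s}) := Ideal.Quotient.mkₐ S _
  have hα0 : ∀ x ∈ Ideal.span {algebraMap S T₁ s}, (mkT.comp l₁) x = 0 := by
    intro x hx
    obtain ⟨c, rfl⟩ := Ideal.mem_span_singleton'.1 hx
    rw [map_mul, AlgHom.commutes (mkT.comp l₁) s]
    have : algebraMap S (T ⧸ Ideal.span {algebraMap S T s}) s = 0 := by
      rw [IsScalarTower.algebraMap_apply S T (T ⧸ Ideal.span {algebraMap S T s})]
      exact Ideal.Quotient.eq_zero_iff_mem.2 (Ideal.mem_span_singleton_self _)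
    rw [this, mul_zero]
  let α : QuotLoc s T₁ →ₐ[S] (T ⧸ Ideal.span {algebraMap S T s}) :=
    Ideal.Quotient.liftₐ (Ideal.span {algebraMap S T₁ s}) (mkT.comp l₁) hα0
  -- β : T' → T̄
  have hαg' : IsUnit (α g') := by
    have h1 : α (algebraMap S (QuotLoc s T₁) a) = α g' * (α (algebraMap S (QuotLoc s T₁) g₁)) ^ k := by
      rw [hg', map_mul, map_pow]
    rw [AlgHom.commutes] at h1
    have h2 : IsUnit (algebraMap S (T ⧸ Ideal.span {algebraMap S T s}) a) := by
      rw [IsScalarTower.algebraMap_apply S T (T ⧸ Ideal.span {algebraMap S T s})]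
      exact hunit_aT.map _
    rw [h1] at h2
    exact isUnit_of_mul_isUnit_left h2
  have hu2 : ∀ y : Submonoid.powers g', IsUnit (α (y : QuotLoc s T₁)) := by
    rintro ⟨_, n, rfl⟩
    rw [map_pow]; exact hαg'.pow n
  let β : T' →ₐ[S] (T ⧸ Ideal.span {algebraMap S T s}) :=
    IsLocalization.liftAlgHom (M := Submonoid.powers g') (f := α) hu2
  -- γ : T → T'
  have hunit_g₁S' : IsUnit (algebraMap S (QuotLoc s T₁) g₁) := by
    rw [IsScalarTower.algebraMap_apply S T₁ (QuotLoc s T₁)]
    exact (IsLocalization.Away.algebraMap_isUnit (S := T₁) g₁).map _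
  have hunit_g'T' : IsUnit (algebraMap (QuotLoc s T₁) T' g') :=
    IsLocalization.Away.algebraMap_isUnit g'
  have hu3 : ∀ y : Submonoid.powers (g₁ * a), IsUnit ((IsScalarTower.toAlgHom S S T') (y : S)) := by
    rintro ⟨_, n, rfl⟩
    change IsUnit (algebraMap S T' ((g₁ * a) ^ n))
    rw [map_pow, IsScalarTower.algebraMap_apply S (QuotLoc s T₁) T', map_mul, hg', map_mul, map_mul,
      map_pow]
    exact ((hunit_g₁S'.map _).mul (hunit_g'T'.mul ((hunit_g₁S'.map _).pow k))).pow n
  let γ : T →ₐ[S] T' := IsLocalization.liftAlgHom (M := Submonoid.powers (g₁ * a))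
    (f := IsScalarTower.toAlgHom S S T') hu3
  have hγ0 : ∀ x ∈ Ideal.span {algebraMap S T s}, γ x = 0 := by
    intro x hx
    obtain ⟨c, rfl⟩ := Ideal.mem_span_singleton'.1 hx
    rw [map_mul, AlgHom.commutes, IsScalarTower.algebraMap_apply S (QuotLoc s T₁) T',
      IsScalarTower.algebraMap_apply S T₁ (QuotLoc s T₁)]
    have : algebraMap T₁ (QuotLoc s T₁) (algebraMap S T₁ s) = 0 :=
      Ideal.Quotient.eq_zero_iff_mem.2 (Ideal.mem_span_singleton_self _)
    rw [this, map_zero, mul_zero]
  let γb : (T ⧸ Ideal.span {algebraMap S T s}) →ₐ[S] T' :=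
    Ideal.Quotient.liftₐ (Ideal.span {algebraMap S T s}) γ hγ0
  refine ⟨AlgEquiv.ofAlgHom γb β ?_ ?_⟩
  · -- γb ∘ β = id on T'
    apply AlgHom.coe_ringHom_injective
    apply IsLocalization.ringHom_ext (Submonoid.powers g')
    apply Ideal.Quotient.ringHom_ext
    apply IsLocalization.ringHom_ext (Submonoid.powers g₁)
    ext x
    simp only [RingHom.comp_apply, AlgHom.coe_toRingHom, AlgHom.comp_apply, AlgHom.id_apply]
    have hx : (algebraMap (QuotLoc s T₁) T')
        ((Ideal.Quotient.mk (Ideal.span {(algebraMap S T₁) s})) ((algebraMap S T₁) x)) =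
        algebraMap S T' x := by
      rw [IsScalarTower.algebraMap_apply S (QuotLoc s T₁) T',
        IsScalarTower.algebraMap_apply S T₁ (QuotLoc s T₁)]
      rfl
    rw [hx, AlgHom.commutes, AlgHom.commutes]
  · -- β ∘ γb = id on T̄
    apply Ideal.Quotient.algHom_ext
    haveI := IsLocalization.algHom_subsingleton (Submonoid.powers (g₁ * a)) (R := S) (S := T)
      (P := T ⧸ Ideal.span {algebraMap S T s})
    exact Subsingleton.elim _ _

end Theta

section LocReg

variable {S : Type u} [CommRing S]

/-- `rs` is a regular sequence modulo `I`, locally at `q`. -/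
def LocReg (q : Ideal S) : Ideal S → List S → Prop
  | _, [] => True
  | I, s :: rs => (∀ n : S, s * n ∈ I → ∃ w : S, w ∉ q ∧ w * n ∈ I) ∧
      LocReg q (I ⊔ Ideal.span {s}) rs

theorem locReg_cons (q I : Ideal S) (s : S) (rs : List S) :
    LocReg q I (s :: rs) ↔ (∀ n : S, s * n ∈ I → ∃ w : S, w ∉ q ∧ w * n ∈ I) ∧
      LocReg q (I ⊔ Ideal.span {s}) rs := Iff.rfl

variable (s g₁ : S) (T₁ : Type u) [CommRing T₁] [Algebra S T₁] [IsLocalization.Away g₁ T₁]

theorem exists_eq_quotLoc (y : QuotLoc s T₁) :
    ∃ (n : S) (k : ℕ), y * (algebraMap S (QuotLoc s T₁) g₁) ^ k =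
      algebraMap S (QuotLoc s T₁) n := by
  obtain ⟨t, rfl⟩ := Ideal.Quotient.mk_surjective y
  obtain ⟨⟨n, ⟨_, k, rfl⟩⟩, hn⟩ := IsLocalization.surj (Submonoid.powers g₁) t
  refine ⟨n, k, ?_⟩
  rw [IsScalarTower.algebraMap_apply S T₁ (QuotLoc s T₁),
    IsScalarTower.algebraMap_apply S T₁ (QuotLoc s T₁)]
  change Ideal.Quotient.mk _ t * (Ideal.Quotient.mk _ (algebraMap S T₁ g₁)) ^ k =
    Ideal.Quotient.mk _ (algebraMap S T₁ n)
  rw [← map_pow, ← map_mul, ← map_pow]
  exact congrArg _ hn

theorem mem_of_map_quotLoc (I : Ideal S) (hs : s ∈ I) (x : S)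
    (hx : algebraMap S (QuotLoc s T₁) x ∈ I.map (algebraMap S (QuotLoc s T₁))) :
    ∃ j : ℕ, g₁ ^ j * x ∈ I := by
  have h1 : I.map (algebraMap S (QuotLoc s T₁)) =
      (I.map (algebraMap S T₁)).map (Ideal.Quotient.mk (Ideal.span {algebraMap S T₁ s})) := by
    rw [Ideal.map_map]; rfl
  rw [h1, IsScalarTower.algebraMap_apply S T₁ (QuotLoc s T₁)] at hx
  change Ideal.Quotient.mk _ (algebraMap S T₁ x) ∈ _ at hx
  rw [Ideal.mem_quotient_iff_mem_sup] at hx
  have h2 : Ideal.span {algebraMap S T₁ s} ≤ I.map (algebraMap S T₁) := by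
    rw [Ideal.span_singleton_le_iff_mem]; exact Ideal.mem_map_of_mem _ hs
  rw [sup_eq_left.2 h2] at hx
  obtain ⟨⟨i, c⟩, hic⟩ := (IsLocalization.mem_map_algebraMap_iff (Submonoid.powers g₁) T₁).1 hx
  rw [← map_mul] at hic
  obtain ⟨c', hc'⟩ := (IsLocalization.eq_iff_exists (Submonoid.powers g₁) T₁).1 hic
  obtain ⟨_, a, rfl⟩ := c
  obtain ⟨_, b, rfl⟩ := c'
  refine ⟨b + a, ?_⟩
  have : g₁ ^ (b + a) * x = g₁ ^ b * (x * g₁ ^ a) := by ring
  rw [this, hc']
  exact Ideal.mul_mem_left _ _ i.2

theorem locReg_quotLoc (q : Ideal S) [q.IsPrime] (hg₁ : g₁ ∉ q) (q' : Ideal (QuotLoc s T₁))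
    [q'.IsPrime] (hq' : q'.comap (algebraMap S (QuotLoc s T₁)) = q) :
    ∀ (l : List S) (I : Ideal S), s ∈ I → LocReg q I l →
      LocReg q' (I.map (algebraMap S (QuotLoc s T₁))) (l.map (algebraMap S (QuotLoc s T₁)))
  | [], _, _, _ => trivial
  | t :: l, I, hs, h => by
    rw [locReg_cons] at h
    rw [List.map_cons, locReg_cons]
    refine ⟨?_, ?_⟩
    · intro n' hn'
      obtain ⟨n, k, hnk⟩ := exists_eq_quotLoc s g₁ T₁ n'
      have h1 : algebraMap S (QuotLoc s T₁) (t * n) ∈ I.map (algebraMap S (QuotLoc s T₁)) := by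
        rw [map_mul, ← hnk, ← mul_assoc]; exact Ideal.mul_mem_right _ _ hn'
      obtain ⟨j, hj⟩ := mem_of_map_quotLoc s g₁ T₁ I hs _ h1
      have h2 : t * (g₁ ^ j * n) ∈ I := by
        have : t * (g₁ ^ j * n) = g₁ ^ j * (t * n) := by ring
        rwa [this]
      obtain ⟨w, hw, h3⟩ := h.1 _ h2
      refine ⟨algebraMap S (QuotLoc s T₁) (w * g₁ ^ (j + k)), ?_, ?_⟩
      · intro hmem
        have h4 : w * g₁ ^ (j + k) ∈ q := by rw [← hq']; exact hmem
        rcases Ideal.IsPrime.mem_or_mem inferInstance h4 with h' | h'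
        · exact hw h'
        · exact hg₁ (Ideal.IsPrime.mem_of_pow_mem inferInstance _ h')
      · have h4 : algebraMap S (QuotLoc s T₁) (w * g₁ ^ (j + k)) * n' =
            algebraMap S (QuotLoc s T₁) (w * (g₁ ^ j * n)) := by
          rw [map_mul, map_mul, map_mul, map_pow, map_pow, ← hnk, pow_add]; ring
        rw [h4]; exact Ideal.mem_map_of_mem _ h3
    · have := locReg_quotLoc q hg₁ q' hq' l (I ⊔ Ideal.span {t}) (Ideal.mem_sup_left hs) h.2
      rwa [Ideal.map_sup, Ideal.map_span, Set.image_singleton] at this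

end LocReg

section Transfer

open RingTheory.Sequence Pointwise

theorem isWeaklyRegular_cons_of_theta {S T T' : Type u} [CommRing S] [CommRing T] [CommRing T']
    [Algebra S T] [Algebra S T'] (s : S) (l : List S)
    (Θ : (T ⧸ Ideal.span {algebraMap S T s}) ≃ₐ[S] T')
    (h1 : IsSMulRegular T (algebraMap S T s))
    (h2 : IsWeaklyRegular T' (l.map (algebraMap S T'))) :
    IsWeaklyRegular T ((s :: l).map (algebraMap S T)) := by
  rw [List.map_cons, isWeaklyRegular_cons_iff]
  refine ⟨h1, ?_⟩
  have hx : (algebraMap S T s • ⊤ : Submodule T T) = Ideal.span {algebraMap S T s} := by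
    rw [← Submodule.ideal_span_singleton_smul, smul_eq_mul, Ideal.mul_top]
  let e₁ : QuotSMulTop (algebraMap S T s) T ≃+ (T ⧸ Ideal.span {algebraMap S T s}) :=
    (Submodule.quotEquivOfEq _ _ hx).toAddEquiv
  let e : QuotSMulTop (algebraMap S T s) T ≃+ T' := e₁.trans Θ.toLinearEquiv.toAddEquiv
  refine (AddEquiv.isWeaklyRegular_congr (e := e) ?_).2 h2
  rw [List.forall₂_map_left_iff, List.forall₂_map_right_iff, List.forall₂_same]
  intro r _ z
  obtain ⟨t, rfl⟩ := Submodule.Quotient.mk_surjective _ z
  change Θ (Ideal.Quotient.mk _ (algebraMap S T r * t)) =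
    algebraMap S T' r * Θ (Ideal.Quotient.mk _ t)
  rw [map_mul, map_mul]
  congr 1
  exact Θ.commutes r

theorem flat_quot_cons_of_theta {R S T T' : Type u} [CommRing R] [CommRing S] [CommRing T]
    [CommRing T'] [Algebra R S] [Algebra S T] [Algebra R T] [IsScalarTower R S T] [Algebra S T']
    [Algebra R T'] [IsScalarTower R S T'] (s : S) (l : List S)
    (Θ : (T ⧸ Ideal.span {algebraMap S T s}) ≃ₐ[S] T')
    (h : Module.Flat R (T' ⧸ Ideal.ofList (l.map (algebraMap S T')))) :
    Module.Flat R (T ⧸ Ideal.ofList ((s :: l).map (algebraMap S T))) := by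
  have h0 : Ideal.ofList ((s :: l).map (algebraMap S T)) =
      Ideal.span {algebraMap S T s} ⊔ Ideal.ofList (l.map (algebraMap S T)) := by
    rw [List.map_cons, Ideal.ofList_cons]
  let ΘR : (T ⧸ Ideal.span {algebraMap S T s}) ≃ₐ[R] T' := Θ.restrictScalars R
  have h1 : Ideal.ofList (l.map (algebraMap S T')) =
      ((Ideal.ofList (l.map (algebraMap S T))).map
        (Ideal.Quotient.mkₐ R (Ideal.span {algebraMap S T s}))).map
          (ΘR : (T ⧸ Ideal.span {algebraMap S T s}) →+* T') := by
    have hmk : (Ideal.ofList (l.map (algebraMap S T))).map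
        (Ideal.Quotient.mkₐ R (Ideal.span {algebraMap S T s})) =
        (Ideal.ofList (l.map (algebraMap S T))).map
          (Ideal.Quotient.mk (Ideal.span {algebraMap S T s})) := rfl
    rw [hmk, Ideal.map_map, Ideal.map_ofList, List.map_map]
    congr 1
    apply List.map_congr_left
    intro r _
    exact (Θ.commutes r).symm
  let e₁ := (DoubleQuot.quotQuotEquivQuotSupₐ R (Ideal.span {algebraMap S T s})
    (Ideal.ofList (l.map (algebraMap S T)))).symm
  let e₂ := Ideal.quotientEquivAlg _ _ ΘR h1
  rw [h0]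
  exact Module.Flat.of_linearEquiv (e₁.trans e₂).toLinearEquiv

end Transfer

section Main

open RingTheory.Sequence

/-- **Slicing by a fibrewise regular sequence, ring form.** -/
theorem exists_slice_list : ∀ (n : ℕ) {R S : Type u} [CommRing R] [CommRing S] [Algebra R S]
    [Algebra.FinitePresentation R S]
    (p : Ideal R) [p.IsPrime] (q : Ideal S) [q.IsPrime] (_ : q.comap (algebraMap R S) = p)
    (rs : List S) (_ : rs.length = n) (_ : ∀ s ∈ rs, s ∈ q)
    (_ : Module.Flat R (Localization.AtPrime q))
    (_ : LocReg q (p.map (algebraMap R S)) rs),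
    ∃ g : S, g ∉ q ∧ ∀ (g' : S), g ∣ g' → ∀ (T : Type u) [CommRing T] [Algebra S T] [Algebra R T]
      [IsScalarTower R S T] [IsLocalization.Away g' T],
      IsWeaklyRegular T (rs.map (algebraMap S T)) ∧ Module.Flat R T ∧
        Module.Flat R (T ⧸ Ideal.ofList (rs.map (algebraMap S T))) := by
  intro n
  induction n with
  | zero =>
    intro R S _ _ _ _ p _ q _ hq rs hn hmem hflat hreg
    have hrs : rs = [] := List.length_eq_zero_iff.1 hn
    subst hrs
    have hflat' : Module.Flat R (LocalizedModule q.primeCompl S) := by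
      let e : LocalizedModule q.primeCompl S ≃ₗ[S] Localization.AtPrime q :=
        IsLocalizedModule.iso q.primeCompl (Algebra.linearMap S (Localization.AtPrime q))
      exact Module.Flat.of_linearEquiv (e.restrictScalars R)
    obtain ⟨h₁, hh₁, hfl⟩ := exists_flat_away' (R := R) (N₁ := S) q hflat'
    refine ⟨h₁, hh₁, ?_⟩
    intro g' hg' T _ _ _ _ _
    haveI hTflat : Module.Flat R T := flat_of_isLocalizationAway_of_forall h₁ g' hg' hfl T
    refine ⟨by simp, hTflat, ?_⟩
    rw [List.map_nil, Ideal.ofList_nil]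
    exact Module.Flat.of_linearEquiv (AlgEquiv.quotientBot R T).toLinearEquiv
  | succ n ih =>
    intro R S _ _ _ _ p _ q _ hq rs hn hmem hflat hreg
    obtain ⟨s, rs', rfl⟩ := List.exists_cons_of_length_eq_add_one hn
    rw [locReg_cons] at hreg
    have hsq : s ∈ q := hmem s List.mem_cons_self
    have hflat' : Module.Flat R (LocalizedModule q.primeCompl S) := by
      let e : LocalizedModule q.primeCompl S ≃ₗ[S] Localization.AtPrime q :=
        IsLocalizedModule.iso q.primeCompl (Algebra.linearMap S (Localization.AtPrime q))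
      exact Module.Flat.of_linearEquiv (e.restrictScalars R)
    obtain ⟨g₁, hg₁q, hS1⟩ := exists_slice_mul p q hq s hflat' hreg.1
    obtain ⟨-, hflatT₁, hflatS'⟩ := hS1 g₁ (dvd_refl _) (Localization.Away g₁)
    -- the primes
    have hdisj : Disjoint (Submonoid.powers g₁ : Set S) (q : Set S) := by
      rw [Set.disjoint_left]
      rintro _ ⟨m, rfl⟩ hmem'
      exact hg₁q (Ideal.IsPrime.mem_of_pow_mem inferInstance m hmem')
    haveI hq₁ : (q.map (algebraMap S (Localization.Away g₁))).IsPrime :=
      IsLocalization.isPrime_of_isPrime_disjoint (Submonoid.powers g₁) _ q inferInstance hdisj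
    have hq₁c : (q.map (algebraMap S (Localization.Away g₁))).comap
        (algebraMap S (Localization.Away g₁)) = q :=
      IsLocalization.comap_map_of_isPrime_disjoint (Submonoid.powers g₁) _ inferInstance hdisj
    have hker : RingHom.ker (Ideal.Quotient.mk
        (Ideal.span {algebraMap S (Localization.Away g₁) s})) ≤
        q.map (algebraMap S (Localization.Away g₁)) := by
      rw [Ideal.mk_ker, Ideal.span_singleton_le_iff_mem]
      exact Ideal.mem_map_of_mem _ hsq
    haveI hq' : ((q.map (algebraMap S (Localization.Away g₁))).map (Ideal.Quotient.mk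
        (Ideal.span {algebraMap S (Localization.Away g₁) s}))).IsPrime :=
      Ideal.map_isPrime_of_surjective Ideal.Quotient.mk_surjective hker
    have hq'c₁ : ((q.map (algebraMap S (Localization.Away g₁))).map (Ideal.Quotient.mk
        (Ideal.span {algebraMap S (Localization.Away g₁) s}))).comap (Ideal.Quotient.mk
        (Ideal.span {algebraMap S (Localization.Away g₁) s})) =
        q.map (algebraMap S (Localization.Away g₁)) := by
      rw [Ideal.comap_map_of_surjective _ Ideal.Quotient.mk_surjective,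
        ← RingHom.ker_eq_comap_bot, sup_eq_left.2 hker]
    have hq'c : ((q.map (algebraMap S (Localization.Away g₁))).map (Ideal.Quotient.mk
        (Ideal.span {algebraMap S (Localization.Away g₁) s}))).comap
        (algebraMap S (QuotLoc s (Localization.Away g₁))) = q := by
      rw [IsScalarTower.algebraMap_eq S (Localization.Away g₁) (QuotLoc s (Localization.Away g₁)),
        ← Ideal.comap_comap]
      exact (congrArg (Ideal.comap _) hq'c₁).trans hq₁c
    have hq'p : ((q.map (algebraMap S (Localization.Away g₁))).map (Ideal.Quotient.mk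
        (Ideal.span {algebraMap S (Localization.Away g₁) s}))).comap
        (algebraMap R (QuotLoc s (Localization.Away g₁))) = p := by
      rw [IsScalarTower.algebraMap_eq R S (QuotLoc s (Localization.Away g₁)),
        ← Ideal.comap_comap, hq'c, hq]
    -- finite presentation
    haveI : Algebra.FinitePresentation R (Localization.Away g₁) :=
      Algebra.FinitePresentation.trans R S _
    haveI hfpS' : Algebra.FinitePresentation R (QuotLoc s (Localization.Away g₁)) :=
      Algebra.FinitePresentation.quotient ⟨{algebraMap S (Localization.Away g₁) s}, by simp⟩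
    -- flatness at the new prime
    haveI := hflatS'
    have hflatq' : Module.Flat R (Localization.AtPrime
        ((q.map (algebraMap S (Localization.Away g₁))).map (Ideal.Quotient.mk
        (Ideal.span {algebraMap S (Localization.Away g₁) s})))) :=
      Module.Flat.trans R (QuotLoc s (Localization.Away g₁)) _
    -- the regular sequence
    have hφs : algebraMap S (QuotLoc s (Localization.Away g₁)) s = 0 := by
      rw [IsScalarTower.algebraMap_apply S (Localization.Away g₁)
        (QuotLoc s (Localization.Away g₁))]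
      exact Ideal.Quotient.eq_zero_iff_mem.2 (Ideal.mem_span_singleton_self _)
    have hreg' : LocReg ((q.map (algebraMap S (Localization.Away g₁))).map (Ideal.Quotient.mk
        (Ideal.span {algebraMap S (Localization.Away g₁) s})))
        (p.map (algebraMap R (QuotLoc s (Localization.Away g₁))))
        (rs'.map (algebraMap S (QuotLoc s (Localization.Away g₁)))) := by
      have h1 := locReg_quotLoc s g₁ (Localization.Away g₁) q hg₁q _ hq'c rs'
        (p.map (algebraMap R S) ⊔ Ideal.span {s})
        (Ideal.mem_sup_right (Ideal.mem_span_singleton_self s)) hreg.2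
      have hI : (p.map (algebraMap R S) ⊔ Ideal.span {s}).map
          (algebraMap S (QuotLoc s (Localization.Away g₁))) =
          p.map (algebraMap R (QuotLoc s (Localization.Away g₁))) := by
        rw [Ideal.map_sup, Ideal.map_map, ← IsScalarTower.algebraMap_eq, Ideal.map_span,
          Set.image_singleton, hφs, Ideal.span_singleton_zero, sup_bot_eq]
      rwa [hI] at h1
    have hmem' : ∀ s' ∈ rs'.map (algebraMap S (QuotLoc s (Localization.Away g₁))),
        s' ∈ ((q.map (algebraMap S (Localization.Away g₁))).map (Ideal.Quotient.mk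
        (Ideal.span {algebraMap S (Localization.Away g₁) s}))) := by
      intro s' hs'
      obtain ⟨r, hr, rfl⟩ := List.mem_map.1 hs'
      have : r ∈ q := hmem r (List.mem_cons_of_mem _ hr)
      rw [← hq'c] at this
      exact this
    have hlen : (rs'.map (algebraMap S (QuotLoc s (Localization.Away g₁)))).length = n := by
      rw [List.length_map]
      simpa using hn
    obtain ⟨g', hg'q', hIH⟩ := ih (R := R) (S := QuotLoc s (Localization.Away g₁)) p _ hq'p
      (rs'.map (algebraMap S (QuotLoc s (Localization.Away g₁)))) hlen hmem' hflatq' hreg'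
    -- lift `g'`
    obtain ⟨a, k, hak⟩ := exists_eq_quotLoc s g₁ (Localization.Away g₁) g'
    have haq : a ∉ q := by
      intro ha
      rw [← hq'c] at ha
      have h1 : g' * algebraMap S (QuotLoc s (Localization.Away g₁)) g₁ ^ k ∈
          ((q.map (algebraMap S (Localization.Away g₁))).map (Ideal.Quotient.mk
          (Ideal.span {algebraMap S (Localization.Away g₁) s}))) := by
        rw [hak]; exact ha
      rcases Ideal.IsPrime.mem_or_mem hq' h1 with h | h
      · exact hg'q' h
      · have h2 := Ideal.IsPrime.mem_of_pow_mem hq' k h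
        have h3 : g₁ ∈ ((q.map (algebraMap S (Localization.Away g₁))).map (Ideal.Quotient.mk
          (Ideal.span {algebraMap S (Localization.Away g₁) s}))).comap
          (algebraMap S (QuotLoc s (Localization.Away g₁))) := h2
        rw [hq'c] at h3
        exact hg₁q h3
    refine ⟨g₁ * a, ?_, ?_⟩
    · intro hmem''
      rcases Ideal.IsPrime.mem_or_mem inferInstance hmem'' with h | h
      · exact hg₁q h
      · exact haq h
    intro g'' hgg'' T _ _ _ _ _
    obtain ⟨b, rfl⟩ := hgg''
    haveI : IsLocalization.Away (g₁ * (a * b)) T := by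
      rw [← mul_assoc]; infer_instance
    obtain ⟨hnzdT, hflatT, -⟩ := hS1 (g₁ * a * b) ⟨a * b, by ring⟩ T
    have hg'' : algebraMap S (QuotLoc s (Localization.Away g₁)) (a * b) =
        (g' * algebraMap S (QuotLoc s (Localization.Away g₁)) b) *
          (algebraMap S (QuotLoc s (Localization.Away g₁)) g₁) ^ k := by
      rw [map_mul, ← hak]; ring
    obtain ⟨Θ⟩ := nonempty_theta s g₁ (a * b) (Localization.Away g₁)
      (g' * algebraMap S (QuotLoc s (Localization.Away g₁)) b) k hg'' T
      (Localization.Away (g' * algebraMap S (QuotLoc s (Localization.Away g₁)) b))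
    obtain ⟨hwr', -, hfl'⟩ := hIH (g' * algebraMap S (QuotLoc s (Localization.Away g₁)) b)
      (Dvd.intro _ rfl)
      (Localization.Away (g' * algebraMap S (QuotLoc s (Localization.Away g₁)) b))
    have hmap : (rs'.map (algebraMap S (QuotLoc s (Localization.Away g₁)))).map
        (algebraMap (QuotLoc s (Localization.Away g₁))
          (Localization.Away (g' * algebraMap S (QuotLoc s (Localization.Away g₁)) b))) =
        rs'.map (algebraMap S
          (Localization.Away (g' * algebraMap S (QuotLoc s (Localization.Away g₁)) b))) := by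
      rw [List.map_map]
      apply List.map_congr_left
      intro r _
      exact (IsScalarTower.algebraMap_apply S (QuotLoc s (Localization.Away g₁)) _ r).symm
    rw [hmap] at hwr' hfl'
    exact ⟨isWeaklyRegular_cons_of_theta s rs' Θ
      (isRegular_iff_mem_nonZeroDivisors.2 hnzdT).left.isSMulRegular hwr', hflatT,
      flat_quot_cons_of_theta s rs' Θ hfl'⟩

end Main

end Groth.Agent.Lib.Seat6.Slice
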