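import Mathlib
import Groth.Prelude.Def_CAlg
import Groth.Agent.Lib.Helper28Depth
import Groth.Agent.Lib.Seat6SliceList

/-!
# Maximal regular sequences in Cohen–Macaulay local rings, in "successive nonzerodivisor" form
(seat 6)

* `exists_sop_of_cm`: a CM local ring has a regular sequence in the maximal ideal whose quotient
  has the maximal ideal as its only prime.
* `NzdSeq J l`: `l` is a sequence of successive nonzerodivisors modulo `J`.
* `exists_nzdSeq_of_cm`: the version for a quotient `O ⧸ J` of a local ring.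
* `locReg_of_nzdSeq`: descent from the localization `O = B_q` to `B`.
-/

set_option autoImplicit false
set_option linter.style.haveILetI false
universe u

namespace Groth.Agent.Lib.Seat6.CMSeq

open RingTheory.Sequence IsLocalRing Groth.Agent.Lib.Seat6.Slice

theorem exists_sop_of_cm (A : Type u) [CommRing A] [LocCoh.IsCohenMacaulayLocalRing A] :
    ∃ rs : List A, (∀ r ∈ rs, r ∈ maximalIdeal A) ∧ IsRegular A rs ∧
      ∀ P : Ideal A, P.IsPrime → Ideal.ofList rs ≤ P → P = maximalIdeal A := by
  have hcm := LocCoh.IsCohenMacaulayLocalRing.supportDim_eq_depth (R := A)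
  rw [Module.supportDim_self_eq_ringKrullDim] at hcm
  have hlt : ringKrullDim A < ⊤ := ringKrullDim_lt_top
  have hne : LocCoh.depth A A ≠ ⊤ := by
    intro h
    rw [h] at hcm
    rw [hcm] at hlt
    exact lt_irrefl _ hlt
  obtain ⟨d, hd⟩ := ENat.ne_top_iff_exists.1 hne
  have hsm : maximalIdeal A • (⊤ : Submodule A A) ≠ ⊤ := by
    rw [smul_eq_mul, Ideal.mul_top]
    exact Ideal.IsPrime.ne_top'
  obtain ⟨rs, hlen, hmem, hreg⟩ :=
    (Groth.Agent.Lib.Helper28.natCast_le_idealDepth_iff hsm d).1 (by
      change (d : ℕ∞) ≤ LocCoh.depth A A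
      rw [hd])
  refine ⟨rs, hmem, hreg, ?_⟩
  have hdim := ringKrullDim_add_length_eq_ringKrullDim_of_isRegular rs hreg
  rw [hlen, hcm, ← hd] at hdim
  have h0 : ringKrullDim (A ⧸ Ideal.ofList rs) ≤ 0 := by
    generalize ringKrullDim (A ⧸ Ideal.ofList rs) = y at hdim
    induction y using WithBot.recBotCoe with
    | bot => exact bot_le
    | coe y =>
      induction y using ENat.recTopCoe with
      | top =>
        have h' : (⊤ : ℕ∞) + (d : ℕ∞) = (d : ℕ∞) := by exact_mod_cast hdim
        simp at h'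
      | coe y =>
        have : y + d = d := by exact_mod_cast hdim
        have hy : y = 0 := by omega
        subst hy
        simp
  haveI : Ring.KrullDimLE 0 (A ⧸ Ideal.ofList rs) := Ring.krullDimLE_iff.2 (by simpa using h0)
  intro P hP hle
  haveI : (P.map (Ideal.Quotient.mk (Ideal.ofList rs))).IsPrime :=
    Ideal.map_isPrime_of_surjective Ideal.Quotient.mk_surjective (by rwa [Ideal.mk_ker])
  have hmax : (P.map (Ideal.Quotient.mk (Ideal.ofList rs))).IsMaximal := inferInstance
  have hP' : P = (P.map (Ideal.Quotient.mk (Ideal.ofList rs))).comap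
      (Ideal.Quotient.mk (Ideal.ofList rs)) := by
    rw [Ideal.comap_map_of_surjective _ Ideal.Quotient.mk_surjective, ← RingHom.ker_eq_comap_bot,
      Ideal.mk_ker, sup_eq_left.2 hle]
  have hPmax : P.IsMaximal := by
    rw [hP']
    exact Ideal.comap_isMaximal_of_surjective _ Ideal.Quotient.mk_surjective
  exact IsLocalRing.eq_maximalIdeal hPmax

section Nzd

variable {O : Type u} [CommRing O]

/-- `l` is a sequence of successive nonzerodivisors modulo `J`. -/
def NzdSeq : Ideal O → List O → Prop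
  | _, [] => True
  | J, t :: l => Ideal.Quotient.mk J t ∈ nonZeroDivisors (O ⧸ J) ∧ NzdSeq (J ⊔ Ideal.span {t}) l

theorem nzdSeq_cons (J : Ideal O) (t : O) (l : List O) :
    NzdSeq J (t :: l) ↔ Ideal.Quotient.mk J t ∈ nonZeroDivisors (O ⧸ J) ∧
      NzdSeq (J ⊔ Ideal.span {t}) l := Iff.rfl

open Pointwise in
theorem nzdSeq_of_isWeaklyRegular : ∀ (l : List O) (J : Ideal O),
    IsWeaklyRegular (O ⧸ J) l → NzdSeq J l
  | [], _, _ => trivial
  | t :: l, J, h => by
    rw [isWeaklyRegular_cons_iff] at h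
    have heq : (t • ⊤ : Submodule O (O ⧸ J)) = Submodule.map J.mkQ (Ideal.span {t}) := by
      rw [← Submodule.ideal_span_singleton_smul]
      conv_rhs => rw [← Ideal.mul_top (Ideal.span {t}), ← smul_eq_mul, Submodule.map_smul'',
        Submodule.map_top, Submodule.range_mkQ]
    let ε : QuotSMulTop t (O ⧸ J) ≃ₗ[O] O ⧸ (J ⊔ Ideal.span {t}) :=
      (Submodule.quotEquivOfEq _ _ heq).trans
        (Submodule.quotientQuotientEquivQuotientSup J (Ideal.span {t}))
    rw [nzdSeq_cons]
    refine ⟨?_, nzdSeq_of_isWeaklyRegular l _ ((LinearEquiv.isWeaklyRegular_congr ε l).1 h.2)⟩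
    rw [mem_nonZeroDivisors_iff_right]
    intro y hy
    obtain ⟨a, rfl⟩ := Ideal.Quotient.mk_surjective y
    apply h.1
    change t • Ideal.Quotient.mk J a = t • 0
    rw [smul_zero, ← hy, mul_comm]
    rfl

end Nzd

theorem exists_nzdSeq_of_cm {O : Type u} [CommRing O] [IsLocalRing O] (J : Ideal O)
    [LocCoh.IsCohenMacaulayLocalRing (O ⧸ J)] :
    ∃ l : List O, (∀ t ∈ l, t ∈ maximalIdeal O) ∧ NzdSeq J l ∧
      ∀ P : Ideal O, P.IsPrime → J ⊔ Ideal.ofList l ≤ P → P = maximalIdeal O := by
  obtain ⟨rs, hmem, hreg, hprime⟩ := exists_sop_of_cm (O ⧸ J)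
  obtain ⟨l, rfl⟩ := (List.map_surjective_iff.2 Ideal.Quotient.mk_surjective) rs
  refine ⟨l, ?_, ?_, ?_⟩
  · intro t ht
    have h1 := hmem _ (List.mem_map_of_mem ht)
    rw [mem_maximalIdeal, mem_nonunits_iff] at h1 ⊢
    exact fun hu => h1 (hu.map _)
  · apply nzdSeq_of_isWeaklyRegular
    exact (isWeaklyRegular_map_algebraMap_iff (O ⧸ J) (O ⧸ J) l).1 hreg.toIsWeaklyRegular
  · intro P hP hle
    have hJP : J ≤ P := le_sup_left.trans hle
    haveI : (P.map (Ideal.Quotient.mk J)).IsPrime :=
      Ideal.map_isPrime_of_surjective Ideal.Quotient.mk_surjective (by rwa [Ideal.mk_ker])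
    have h1 : Ideal.ofList (l.map (Ideal.Quotient.mk J)) ≤ P.map (Ideal.Quotient.mk J) := by
      rw [← Ideal.map_ofList]
      exact Ideal.map_mono (le_sup_right.trans hle)
    have h2 := hprime _ inferInstance h1
    have hP' : P = (P.map (Ideal.Quotient.mk J)).comap (Ideal.Quotient.mk J) := by
      rw [Ideal.comap_map_of_surjective _ Ideal.Quotient.mk_surjective, ← RingHom.ker_eq_comap_bot,
        Ideal.mk_ker, sup_eq_left.2 hJP]
    have hPmax : P.IsMaximal := by
      rw [hP', h2]
      exact Ideal.comap_isMaximal_of_surjective _ Ideal.Quotient.mk_surjective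
    exact IsLocalRing.eq_maximalIdeal hPmax

section Descent

variable {B O : Type u} [CommRing B] [CommRing O] [Algebra B O] (q : Ideal B) [q.IsPrime]
  [IsLocalization.AtPrime O q]

theorem locReg_of_nzdSeq : ∀ (rs : List B) (I : Ideal B),
    NzdSeq (I.map (algebraMap B O)) (rs.map (algebraMap B O)) → LocReg q I rs
  | [], _, _ => trivial
  | s :: rs, I, h => by
    rw [List.map_cons, nzdSeq_cons] at h
    rw [locReg_cons]
    refine ⟨?_, locReg_of_nzdSeq rs (I ⊔ Ideal.span {s}) ?_⟩
    · intro n hn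
      have h1 : algebraMap B O (s * n) ∈ I.map (algebraMap B O) := Ideal.mem_map_of_mem _ hn
      have h2 : algebraMap B O n ∈ I.map (algebraMap B O) := by
        rw [← Ideal.Quotient.eq_zero_iff_mem] at h1 ⊢
        rw [map_mul, map_mul, mul_comm] at h1
        exact (mem_nonZeroDivisors_iff_right.1 h.1) _ h1
      obtain ⟨⟨i, w⟩, hiw⟩ := (IsLocalization.mem_map_algebraMap_iff q.primeCompl O).1 h2
      rw [← map_mul] at hiw
      obtain ⟨c, hc⟩ := (IsLocalization.eq_iff_exists q.primeCompl O).1 hiw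
      refine ⟨c * w, q.primeCompl.mul_mem c.2 w.2, ?_⟩
      have : (c : B) * w * n = c * (n * w) := by ring
      rw [this, hc]
      exact Ideal.mul_mem_left _ _ i.2
    · have h2 := h.2
      rwa [Ideal.map_sup, Ideal.map_span, Set.image_singleton]

theorem eq_of_le_of_forall_prime (I : Ideal B)
    (hZ : ∀ P : Ideal O, P.IsPrime → I.map (algebraMap B O) ≤ P →
      P.comap (algebraMap B O) = q)
    (q' : Ideal B) [q'.IsPrime] (hI : I ≤ q') (hle : q' ≤ q) : q' = q := by
  have hdisj : Disjoint (q.primeCompl : Set B) (q' : Set B) := by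
    rw [Set.disjoint_left]
    intro a ha ha'
    exact ha (hle ha')
  have hP : (q'.map (algebraMap B O)).IsPrime :=
    IsLocalization.isPrime_of_isPrime_disjoint q.primeCompl O q' inferInstance hdisj
  have hc : (q'.map (algebraMap B O)).comap (algebraMap B O) = q' :=
    IsLocalization.under_map_of_isPrime_disjoint q.primeCompl O inferInstance hdisj
  rw [← hc]
  exact hZ _ hP (Ideal.map_mono hI)

end Descent

end Groth.Agent.Lib.Seat6.CMSeq
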