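import Mathlib

/-!
# A prime of coheight one avoiding a given element

`exists_prime_dim_one`: in a Noetherian ring `B`, given primes `q₀ ≤ P` and `a ∈ P \ q₀`,
there is a prime `q₀ ≤ q ≤ P` with `a ∉ q` and no prime strictly between `q` and `P`.
(Krull's Hauptidealsatz + prime avoidance.)
-/

set_option autoImplicit false
set_option linter.style.haveILetI false

namespace Groth.Agent.Lib.Seat6.DimOnePrime

variable {B : Type*} [CommRing B]

/-- no chain `q < M'' < M` of primes when `M/q` has height `≤ 1`. -/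
theorem no_chain (q M'' M : Ideal B) [q.IsPrime] [M''.IsPrime] [M.IsPrime]
    (h1 : q < M'') (h2 : M'' < M)
    (hM : (M.map (Ideal.Quotient.mk q)).height ≤ 1) : False := by
  have hsurj : Function.Surjective (Ideal.Quotient.mk q) := Ideal.Quotient.mk_surjective
  have hker : RingHom.ker (Ideal.Quotient.mk q) = q := Ideal.mk_ker
  haveI p1 : (M''.map (Ideal.Quotient.mk q)).IsPrime :=
    Ideal.map_isPrime_of_surjective hsurj (hker.le.trans h1.le)
  haveI p2 : (M.map (Ideal.Quotient.mk q)).IsPrime :=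
    Ideal.map_isPrime_of_surjective hsurj (hker.le.trans (h1.le.trans h2.le))
  have hcm : ∀ J : Ideal B, q ≤ J → (J.map (Ideal.Quotient.mk q)).comap (Ideal.Quotient.mk q) = J := by
    intro J hJ
    rw [Ideal.comap_map_of_surjective _ hsurj, ← RingHom.ker_eq_comap_bot, hker, sup_eq_left.2 hJ]
  have hlt2 : M''.map (Ideal.Quotient.mk q) < M.map (Ideal.Quotient.mk q) := by
    refine lt_of_le_of_ne (Ideal.map_mono h2.le) (fun he => ?_)
    have := congrArg (Ideal.comap (Ideal.Quotient.mk q)) he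
    rw [hcm _ h1.le, hcm _ (h1.le.trans h2.le)] at this
    exact h2.ne this
  have hlt1 : (⊥ : Ideal (B ⧸ q)) < M''.map (Ideal.Quotient.mk q) := by
    refine lt_of_le_of_ne bot_le (fun he => ?_)
    have := congrArg (Ideal.comap (Ideal.Quotient.mk q)) he
    rw [hcm _ h1.le, ← RingHom.ker_eq_comap_bot, hker] at this
    exact h1.ne this
  have e1 := Ideal.height_add_one_le_of_lt_of_isPrime hlt1
  have e2 := Ideal.height_add_one_le_of_lt_of_isPrime hlt2
  have e3 : (M''.map (Ideal.Quotient.mk q)).height + 1 ≤ 1 := e2.trans hM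
  have e4 : (M''.map (Ideal.Quotient.mk q)).height = 0 := by
    by_contra hne
    have : 1 ≤ (M''.map (Ideal.Quotient.mk q)).height := ENat.one_le_iff_ne_zero.2 hne
    have h2' : (1 : ℕ∞) + 1 ≤ 1 := (add_le_add_left this 1).trans e3
    exact absurd h2' (by decide)
  rw [e4] at e1
  have : (1 : ℕ∞) ≤ 0 := le_trans (by simp) e1
  exact absurd this (by decide)

theorem exists_prime_dim_one [IsNoetherianRing B] (q₀ P : Ideal B) [q₀.IsPrime] [P.IsPrime]
    (J : Ideal B) (hJq : ¬ J ≤ q₀) (hle : q₀ ≤ P) :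
    ∃ q : Ideal B, q.IsPrime ∧ q₀ ≤ q ∧ q ≤ P ∧ ¬ J ≤ q ∧
      ∀ q' : Ideal B, q'.IsPrime → q < q' → q' ≤ P → q' = P := by
  classical
  let Sg : Set (Ideal B) := {q | q.IsPrime ∧ q₀ ≤ q ∧ q ≤ P ∧ ¬ J ≤ q}
  have hne : Sg.Nonempty := ⟨q₀, inferInstance, le_rfl, hle, hJq⟩
  obtain ⟨q, ⟨hqp, hq0, hqP, hJq'⟩, hmax⟩ : ∃ q : Ideal B, q ∈ Sg ∧ ∀ I ∈ Sg, ¬ q < I :=
    set_has_maximal_iff_noetherian.2 inferInstance Sg hne
  haveI := hqp
  have hmem : ∀ q' : Ideal B, q'.IsPrime → q < q' → q' ≤ P → J ≤ q' := by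
    intro q' hq' hlt hle'
    by_contra hna
    exact hmax q' ⟨hq', hq0.trans hlt.le, hle', hna⟩ hlt
  refine ⟨q, hqp, hq0, hqP, hJq', ?_⟩
  intro q' hq' hlt hle'
  haveI := hq'
  by_contra hneP
  have hltP : q' < P := lt_of_le_of_ne hle' hneP
  -- covering
  have hfin : (q ⊔ J).minimalPrimes.Finite :=
    Ideal.finite_minimalPrimes_of_isNoetherianRing B _
  let T : Finset (Ideal B) :=
    hfin.toFinset.filter (fun M => (M.map (Ideal.Quotient.mk q)).height ≤ 1)
  have key : ∀ t ∈ P, t ∉ q → ∃ M ∈ T, t ∈ M := by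
    intro t ht htq
    have hsupt : q ⊔ Ideal.span {t} ≤ P :=
      sup_le hqP ((Ideal.span_singleton_le_iff_mem _).2 ht)
    obtain ⟨M, hM, hMP⟩ := Ideal.exists_minimalPrimes_le hsupt
    haveI hMp : M.IsPrime := hM.1.1
    have hqM : q < M := by
      refine lt_of_le_of_ne (le_sup_left.trans hM.1.2) (fun he => htq ?_)
      rw [he]
      exact hM.1.2 (Ideal.mem_sup_right (Ideal.mem_span_singleton_self t))
    have hJM : J ≤ M := hmem M hMp hqM hMP
    have hht : (M.map (Ideal.Quotient.mk q)).height ≤ 1 :=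
      Ideal.map_height_le_one_of_mem_minimalPrimes hM
    have hMmin : M ∈ (q ⊔ J).minimalPrimes := by
      refine ⟨⟨hMp, sup_le hqM.le hJM⟩, ?_⟩
      rintro M'' ⟨hM''p, hM''le⟩ hM''M
      by_contra hnot
      haveI := hM''p
      have h2 : M'' < M := lt_of_le_not_ge hM''M hnot
      have h1 : q < M'' := by
        refine lt_of_le_of_ne (le_sup_left.trans hM''le) (fun he => hJq' ?_)
        rw [he]
        exact le_sup_right.trans hM''le
      exact no_chain q M'' M h1 h2 hht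
    refine ⟨M, ?_, hM.1.2 (Ideal.mem_sup_right (Ideal.mem_span_singleton_self t))⟩
    simp only [T, Finset.mem_filter, Set.Finite.mem_toFinset]
    exact ⟨hMmin, hht⟩
  obtain ⟨t₀, ht₀q', ht₀q⟩ := SetLike.exists_of_lt hlt
  obtain ⟨M₀, hM₀T, -⟩ := key t₀ (hle' ht₀q') ht₀q
  have hTq : ∀ M ∈ T, q ≤ M := by
    intro M hM
    simp only [T, Finset.mem_filter, Set.Finite.mem_toFinset] at hM
    exact le_sup_left.trans hM.1.1.2
  have hcover : (P : Set B) ⊆ ⋃ M ∈ (T : Set (Ideal B)), (M : Set B) := by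
    intro t ht
    by_cases htq : t ∈ q
    · exact Set.mem_biUnion (x := M₀) (by simpa using hM₀T) (hTq M₀ hM₀T htq)
    · obtain ⟨M, hMT, htM⟩ := key t ht htq
      exact Set.mem_biUnion (x := M) (by simpa using hMT) htM
  obtain ⟨M, hMmem, hPM⟩ := (Ideal.subset_union_prime (f := fun M : Ideal B => M) ⊥ ⊥
    (fun M hM _ _ => by
      simp only [T, Finset.mem_filter, Set.Finite.mem_toFinset] at hM
      exact hM.1.1.1)).1 hcover
  simp only [T, Finset.mem_filter, Set.Finite.mem_toFinset] at hMmem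
  haveI hMp : M.IsPrime := hMmem.1.1.1
  exact no_chain q q' M hlt (lt_of_lt_of_le hltP hPM) hMmem.2

/-- In a Noetherian ring, a point in the closure of an open set of the spectrum has a
generalization in that open set. -/
theorem exists_le_of_mem_closure [IsNoetherianRing B] (V : Set (PrimeSpectrum B)) (hV : IsOpen V)
    (x : PrimeSpectrum B) (hx : x ∈ closure V) : ∃ z ∈ V, z ≤ x := by
  classical
  have hfin : (minimalPrimes B).Finite := minimalPrimes.finite_of_isNoetherianRing B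
  let F : Finset (Ideal B) := hfin.toFinset.filter (fun 𝔮 => ¬ 𝔮 ≤ x.asIdeal)
  have hprod : ¬ (F.prod (fun 𝔮 => 𝔮)) ≤ x.asIdeal := by
    rw [Ideal.IsPrime.prod_le x.isPrime]
    rintro ⟨𝔮, h𝔮F, h𝔮x⟩
    simp only [F, Finset.mem_filter] at h𝔮F
    exact h𝔮F.2 h𝔮x
  obtain ⟨t, htF, htx⟩ := SetLike.not_le_iff_exists.1 hprod
  have hopen : IsOpen (PrimeSpectrum.basicOpen t : Set (PrimeSpectrum B)) :=
    (PrimeSpectrum.basicOpen t).isOpen
  obtain ⟨y, hyt, hyV⟩ := mem_closure_iff.1 hx _ hopen htx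
  obtain ⟨𝔮, h𝔮min, h𝔮y⟩ := Ideal.exists_minimalPrimes_le (bot_le : (⊥ : Ideal B) ≤ y.asIdeal)
  have ht𝔮 : t ∉ 𝔮 := fun h => hyt (h𝔮y h)
  have h𝔮x : 𝔮 ≤ x.asIdeal := by
    by_contra hnot
    have h𝔮F : 𝔮 ∈ F := by
      simp only [F, Finset.mem_filter, Set.Finite.mem_toFinset]
      exact ⟨h𝔮min, hnot⟩
    exact ht𝔮 ((Ideal.prod_le_inf.trans (Finset.inf_le h𝔮F)) htF)
  refine ⟨⟨𝔮, h𝔮min.1.1⟩, ?_, h𝔮x⟩
  have hspec : (⟨𝔮, h𝔮min.1.1⟩ : PrimeSpectrum B) ⤳ y :=
    (PrimeSpectrum.le_iff_specializes _ _).1 h𝔮y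
  exact hspec.mem_open hV hyV

/-- Open-set version: given an open `V`, points `z ≤ x` with `z ∈ V`, there is `q ∈ V`,
`z ≤ q ≤ x`, with no prime strictly between `q` and `x`. -/
theorem exists_point_dim_one [IsNoetherianRing B] (V : Set (PrimeSpectrum B)) (hV : IsOpen V)
    (z x : PrimeSpectrum B) (hz : z ∈ V) (hzx : z ≤ x) :
    ∃ q : PrimeSpectrum B, q ∈ V ∧ z ≤ q ∧ q ≤ x ∧
      ∀ q' : PrimeSpectrum B, q < q' → q' ≤ x → q' = x := by
  obtain ⟨s, hs⟩ := (PrimeSpectrum.isOpen_iff V).1 hV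
  have hmemV : ∀ y : PrimeSpectrum B, y ∈ V ↔ ¬ Ideal.span s ≤ y.asIdeal := by
    intro y
    rw [← not_iff_not, not_not, ← Set.mem_compl_iff, hs, PrimeSpectrum.mem_zeroLocus,
      Ideal.span_le]
  haveI := z.isPrime
  haveI := x.isPrime
  obtain ⟨q, hqp, hzq, hqx, hJq, hq⟩ :=
    exists_prime_dim_one z.asIdeal x.asIdeal (Ideal.span s) ((hmemV z).1 hz) hzx
  refine ⟨⟨q, hqp⟩, (hmemV _).2 hJq, hzq, hqx, ?_⟩
  intro q' hlt hle
  exact PrimeSpectrum.ext (hq q'.asIdeal q'.isPrime hlt hle)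

end Groth.Agent.Lib.Seat6.DimOnePrime
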