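import Mathlib

/-!
# The kernel of `C_h ⊗[A] C → C_h` for `C_h` étale over `A`

For an `A`-algebra `C` and `h : C` with `B = C_h` formally unramified over `A`, the kernel of the
`B`-algebra map `μ : B ⊗[A] C → B`, `b ⊗ c ↦ b c`, is an idempotent ideal; if moreover `C` is a
finite `A`-module it is generated by an idempotent element.
-/

set_option autoImplicit false
set_option linter.style.haveILetI false
universe u

namespace Groth.Agent.Lib.Seat6.EtaleSplit

open TensorProduct

variable {A C : Type u} [CommRing A] [CommRing C] [Algebra A C] (h : C)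

/-- The multiplication map `C_h ⊗[A] C → C_h`. -/
noncomputable def μ : (Localization.Away h) ⊗[A] C →ₐ[Localization.Away h] Localization.Away h :=
  Algebra.TensorProduct.lift (AlgHom.id _ _) (IsScalarTower.toAlgHom A C (Localization.Away h))
    (fun _ _ => Commute.all _ _)

@[simp]
theorem μ_tmul (b : Localization.Away h) (c : C) :
    μ (A := A) h (b ⊗ₜ c) = b * algebraMap C (Localization.Away h) c := by
  simp [μ]

theorem μ_surjective : Function.Surjective (μ (A := A) h) := fun b => ⟨b ⊗ₜ 1, by simp⟩

/-- The generators `1 ⊗ c - c ⊗ 1` of the kernel. -/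
noncomputable def δ (c : C) : (Localization.Away h) ⊗[A] C :=
  (1 : Localization.Away h) ⊗ₜ[A] c - (algebraMap C (Localization.Away h) c) ⊗ₜ[A] (1 : C)

theorem μ_δ (c : C) : μ (A := A) h (δ (A := A) h c) = 0 := by
  simp [δ]

theorem sub_mem_span_δ (x : (Localization.Away h) ⊗[A] C) :
    x - (μ (A := A) h x) ⊗ₜ[A] (1 : C) ∈ Ideal.span (Set.range (δ (A := A) h)) := by
  induction x using TensorProduct.induction_on with
  | zero => simp
  | tmul b c =>
    have : b ⊗ₜ[A] c - (μ (A := A) h (b ⊗ₜ c)) ⊗ₜ[A] (1 : C) =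
        (b ⊗ₜ[A] (1 : C)) * δ (A := A) h c := by
      simp [δ, mul_sub, Algebra.TensorProduct.tmul_mul_tmul]
    rw [this]
    exact Ideal.mul_mem_left _ _ (Ideal.subset_span ⟨c, rfl⟩)
  | add x y hx hy =>
    rw [map_add, TensorProduct.add_tmul, ← sub_add_sub_comm]
    exact Ideal.add_mem _ hx hy

theorem ker_μ_le_span_δ :
    RingHom.ker (μ (A := A) h) ≤ Ideal.span (Set.range (δ (A := A) h)) := by
  intro x hx
  have := sub_mem_span_δ (A := A) h x
  rw [RingHom.mem_ker] at hx
  rwa [hx, TensorProduct.zero_tmul, sub_zero] at this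

/-- The comparison map `C ⊗[A] C → C_h ⊗[A] C`. -/
noncomputable def φ : C ⊗[A] C →ₐ[A] (Localization.Away h) ⊗[A] C :=
  Algebra.TensorProduct.map (IsScalarTower.toAlgHom A C (Localization.Away h)) (AlgHom.id A C)

theorem μ_φ (x : C ⊗[A] C) :
    μ (A := A) h (φ (A := A) h x) =
      algebraMap C (Localization.Away h) (Algebra.TensorProduct.lmul' A x) := by
  induction x using TensorProduct.induction_on with
  | zero => simp
  | tmul a b => simp [φ]
  | add x y hx hy => simp [hx, hy]

theorem map_φ_ideal_le :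
    (KaehlerDifferential.ideal A C).map (φ (A := A) h) ≤ RingHom.ker (μ (A := A) h) := by
  rw [Ideal.map_le_iff_le_comap]
  intro x hx
  rw [Ideal.mem_comap, RingHom.mem_ker, μ_φ]
  have : Algebra.TensorProduct.lmul' A x = 0 := hx
  rw [this, map_zero]

theorem δ_mem_ker_sq [Algebra.FormallyUnramified A (Localization.Away h)] (c : C) :
    δ (A := A) h c ∈ RingHom.ker (μ (A := A) h) * RingHom.ker (μ (A := A) h) := by
  -- `h ^ n • D c = 0` in `Ω[C⁄A]`
  have h0 : KaehlerDifferential.map A A C (Localization.Away h) (KaehlerDifferential.D A C c) = 0 :=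
    Subsingleton.elim _ _
  obtain ⟨⟨_, n, rfl⟩, hn⟩ := (IsLocalizedModule.eq_zero_iff (Submonoid.powers h)
    (KaehlerDifferential.map A A C (Localization.Away h))).1 h0
  simp only [Submonoid.smul_def] at hn
  -- translate into `C ⊗[A] C`
  set I := KaehlerDifferential.ideal A C with hI
  let y : I := ⟨(1 : C) ⊗ₜ[A] c - c ⊗ₜ[A] (1 : C),
    KaehlerDifferential.one_smul_sub_smul_one_mem_ideal A c⟩
  have h1 : (h ^ n) • I.toCotangent y = 0 := hn
  set t : C ⊗[A] C := (h ^ n) ⊗ₜ[A] (1 : C) with ht
  have h1' : t • I.toCotangent y = 0 := by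
    have : t = algebraMap C (C ⊗[A] C) (h ^ n) := by
      rw [Algebra.TensorProduct.algebraMap_apply]
      rfl
    rw [this, algebraMap_smul]
    exact h1
  have h2 : I.toCotangent (t • y) = 0 := by rw [map_smul]; exact h1'
  have h3 : ((t • y : I) : C ⊗[A] C) ∈ I ^ 2 := (Ideal.toCotangent_eq_zero I _).1 h2
  have h4 : ((t • y : I) : C ⊗[A] C) = t * y.1 := rfl
  rw [h4] at h3
  -- push forward along `φ`
  have h5 : φ (A := A) h (t * y.1) ∈
      RingHom.ker (μ (A := A) h) * RingHom.ker (μ (A := A) h) := by
    have := Ideal.mem_map_of_mem (φ (A := A) h) h3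
    rw [Ideal.map_pow, pow_two] at this
    exact Ideal.mul_mono (map_φ_ideal_le (A := A) h) (map_φ_ideal_le (A := A) h) this
  have h6 : φ (A := A) h (t * y.1) =
      ((algebraMap C (Localization.Away h) h ^ n) ⊗ₜ[A] (1 : C)) * δ (A := A) h c := by
    simp [φ, y, δ, map_sub, ht]
  rw [h6] at h5
  -- the factor is a unit
  have hu : IsUnit (((algebraMap C (Localization.Away h) h ^ n) ⊗ₜ[A] (1 : C)) :
      (Localization.Away h) ⊗[A] C) := by
    have : IsUnit (algebraMap C (Localization.Away h) h ^ n) :=
      (IsLocalization.Away.algebraMap_isUnit h).pow n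
    exact this.map (Algebra.TensorProduct.includeLeftRingHom :
      Localization.Away h →+* (Localization.Away h) ⊗[A] C)
  obtain ⟨v, hv⟩ := hu
  have : δ (A := A) h c = (↑v⁻¹ : (Localization.Away h) ⊗[A] C) *
      (((algebraMap C (Localization.Away h) h ^ n) ⊗ₜ[A] (1 : C)) * δ (A := A) h c) := by
    rw [← mul_assoc, ← hv, Units.inv_mul, one_mul]
  rw [this]
  exact Ideal.mul_mem_left _ _ h5

/-- The kernel of `μ` is an idempotent ideal. -/
theorem isIdempotentElem_ker_μ [Algebra.FormallyUnramified A (Localization.Away h)] :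
    IsIdempotentElem (RingHom.ker (μ (A := A) h)) := by
  apply le_antisymm Ideal.mul_le_right
  refine (ker_μ_le_span_δ (A := A) h).trans ?_
  rw [Ideal.span_le]
  rintro _ ⟨c, rfl⟩
  exact δ_mem_ker_sq (A := A) h c

theorem ker_μ_fg [Module.Finite A C] : (RingHom.ker (μ (A := A) h)).FG := by
  have h1 : (LinearMap.ker (μ (A := A) h).toLinearMap).FG :=
    Module.FinitePresentation.fg_ker (μ (A := A) h).toLinearMap (μ_surjective (A := A) h)
  have h2 : (RingHom.ker (μ (A := A) h)).restrictScalars (Localization.Away h) =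
      LinearMap.ker (μ (A := A) h).toLinearMap := by
    ext x
    simp [RingHom.mem_ker]
  exact Submodule.FG.of_restrictScalars (Localization.Away h) (h2 ▸ h1)

/-- The kernel of `μ` is generated by an idempotent. -/
theorem exists_idempotent_ker_μ [Module.Finite A C]
    [Algebra.FormallyUnramified A (Localization.Away h)] :
    ∃ e : (Localization.Away h) ⊗[A] C, IsIdempotentElem e ∧
      RingHom.ker (μ (A := A) h) = Ideal.span {e} :=
  (Ideal.isIdempotentElem_iff_of_fg _ (ker_μ_fg (A := A) h)).1 (isIdempotentElem_ker_μ (A := A) h)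

section Decomp

variable (J : Ideal C)

/-- The extension of `J` to `C_h ⊗[A] C` along the right inclusion. -/
noncomputable def JP : Ideal ((Localization.Away h) ⊗[A] C) :=
  J.map (Algebra.TensorProduct.includeRight (R := A) (A := Localization.Away h) (B := C))

theorem map_μ_JP :
    (JP (A := A) h J).map (μ (A := A) h) = J.map (algebraMap C (Localization.Away h)) := by
  apply le_antisymm
  · rw [Ideal.map_le_iff_le_comap]
    unfold JP
    rw [Ideal.map_le_iff_le_comap]
    intro j hj
    rw [Ideal.mem_comap, Ideal.mem_comap]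
    have : μ (A := A) h (Algebra.TensorProduct.includeRight j) =
        algebraMap C (Localization.Away h) j := by simp
    rw [this]
    exact Ideal.mem_map_of_mem _ hj
  · rw [Ideal.map_le_iff_le_comap]
    intro j hj
    rw [Ideal.mem_comap]
    have : algebraMap C (Localization.Away h) j =
        μ (A := A) h (Algebra.TensorProduct.includeRight j) := by simp
    rw [this]
    exact Ideal.mem_map_of_mem _ (Ideal.mem_map_of_mem _ hj)

variable {h} in
/-- The decomposition map `P → (B ⧸ J B) × (P ⧸ (J P + (1 - e)))`. -/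
noncomputable def decompMap (e : (Localization.Away h) ⊗[A] C) :
    ((Localization.Away h) ⊗[A] C) →ₗ[Localization.Away h]
      ((Localization.Away h) ⧸ J.map (algebraMap C (Localization.Away h))) ×
      (((Localization.Away h) ⊗[A] C) ⧸ (JP (A := A) h J ⊔ Ideal.span {1 - e})) :=
  LinearMap.prod
    ((Ideal.Quotient.mkₐ (Localization.Away h)
      (J.map (algebraMap C (Localization.Away h)))).toLinearMap ∘ₗ (μ (A := A) h).toLinearMap)
    (Ideal.Quotient.mkₐ (Localization.Away h)
      (JP (A := A) h J ⊔ Ideal.span {1 - e})).toLinearMap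

variable {h} in
theorem decompMap_apply (e x : (Localization.Away h) ⊗[A] C) :
    decompMap (A := A) J e x =
      (Ideal.Quotient.mk (J.map (algebraMap C (Localization.Away h))) (μ (A := A) h x),
        Ideal.Quotient.mk (JP (A := A) h J ⊔ Ideal.span {1 - e}) x) := rfl

variable {h} in
theorem decompMap_surjective (e : (Localization.Away h) ⊗[A] C)
    (hker : RingHom.ker (μ (A := A) h) = Ideal.span {e}) :
    Function.Surjective (decompMap (A := A) J e) := by
  have hμe : μ (A := A) h e = 0 := by
    have : e ∈ RingHom.ker (μ (A := A) h) := hker ▸ Ideal.mem_span_singleton_self e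
    exact this
  rintro ⟨b, y⟩
  obtain ⟨b, rfl⟩ := Ideal.Quotient.mk_surjective b
  obtain ⟨y, rfl⟩ := Ideal.Quotient.mk_surjective y
  refine ⟨(b ⊗ₜ[A] (1 : C)) * (1 - e) + y * e, ?_⟩
  rw [decompMap_apply, Prod.mk.injEq]
  constructor
  · congr 1
    simp [hμe]
  · apply Ideal.Quotient.eq.2
    have : (b ⊗ₜ[A] (1 : C)) * (1 - e) + y * e - y = ((b ⊗ₜ[A] (1 : C)) - y) * (1 - e) := by ring
    rw [this]
    exact Ideal.mem_sup_right (Ideal.mul_mem_left _ _ (Ideal.mem_span_singleton_self _))

variable {h} in
theorem ker_decompMap (e : (Localization.Away h) ⊗[A] C) (he : IsIdempotentElem e)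
    (hker : RingHom.ker (μ (A := A) h) = Ideal.span {e}) :
    LinearMap.ker (decompMap (A := A) J e) =
      (JP (A := A) h J).restrictScalars (Localization.Away h) := by
  have hee : e * (1 - e) = 0 := by rw [mul_sub, mul_one, he.eq, sub_self]
  ext x
  rw [LinearMap.mem_ker, decompMap_apply, Prod.mk_eq_zero, Ideal.Quotient.eq_zero_iff_mem,
    Ideal.Quotient.eq_zero_iff_mem, Submodule.restrictScalars_mem]
  constructor
  · rintro ⟨h1, h2⟩
    -- `x * e ∈ JP`
    have hxe : x * e ∈ JP (A := A) h J := by
      obtain ⟨j, hj, z, hz, rfl⟩ := Submodule.mem_sup.1 h2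
      obtain ⟨p, rfl⟩ := Ideal.mem_span_singleton'.1 hz
      have : (j + p * (1 - e)) * e = j * e := by
        have : p * (1 - e) * e = p * (e * (1 - e)) := by ring
        rw [add_mul, this, hee, mul_zero, add_zero]
      rw [this]
      exact Ideal.mul_mem_right _ _ hj
    -- `x * (1 - e) ∈ JP`
    have hx1 : x * (1 - e) ∈ JP (A := A) h J := by
      rw [← map_μ_JP (A := A) h J] at h1
      obtain ⟨y, hy, hyx⟩ := (Ideal.mem_map_iff_of_surjective _ (μ_surjective (A := A) h)).1 h1
      have hxy : x - y ∈ RingHom.ker (μ (A := A) h) := by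
        rw [RingHom.mem_ker, map_sub, hyx, sub_self]
      rw [hker] at hxy
      obtain ⟨p, hp⟩ := Ideal.mem_span_singleton'.1 hxy
      have : x * (1 - e) = y * (1 - e) := by
        have h3 : (x - y) * (1 - e) = 0 := by
          rw [← hp]
          have : p * e * (1 - e) = p * (e * (1 - e)) := by ring
          rw [this, hee, mul_zero]
        have : x * (1 - e) - y * (1 - e) = 0 := by rw [← sub_mul]; exact h3
        exact sub_eq_zero.1 this
      rw [this]
      exact Ideal.mul_mem_right _ _ hy
    have : x = x * e + x * (1 - e) := by ring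
    rw [this]
    exact Ideal.add_mem _ hxe hx1
  · intro hx
    refine ⟨?_, Ideal.mem_sup_left hx⟩
    rw [← map_μ_JP (A := A) h J]
    exact Ideal.mem_map_of_mem _ hx

end Decomp

end Groth.Agent.Lib.Seat6.EtaleSplit
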