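import Mathlib
import Groth.Prelude.Def_FlatCA
import Groth.Agent.Lib.Seat6BCInjGlobal

/-!
# Base change of relative associated primes (descent part)

For a base change `R → R'`, `S' = R' ⊗ S`, `N' = S' ⊗ N`, a prime `q'` of `S'` over `p'` whose
extension to the fibre ring over `p'` is an associated prime of the fibre module of `N'` contracts
to a prime of `S` with the same property over `p = p' ∩ R`.
-/

set_option autoImplicit false
set_option linter.style.haveILetI false
universe u

namespace Groth.Agent.Lib.Seat6.FibBC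

open TensorProduct FlatCA Groth.Agent.Helper13Fiber Groth.Agent.Lib.Seat6.BCInj

attribute [local instance] Algebra.TensorProduct.rightAlgebra

section Prime

variable {R : Type u} [CommRing R] (p : Ideal R) [p.IsPrime] {S : Type u} [CommRing S]
  [Algebra R S]

/-- For a prime `q` over `p`, the extension of `q` to the fibre ring is prime and contracts to
`q`. -/
theorem fiberIdeal_isPrime_and_comap (q : Ideal S) [hq : q.IsPrime] [hqp : q.LiesOver p] :
    (fiberIdeal p q).IsPrime ∧ (fiberIdeal p q).comap (algebraMap S (p.Fiber S)) = q := by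
  let x : p.primesOver S := ⟨q, ⟨hq, hqp⟩⟩
  let Q := PrimeSpectrum.primesOverOrderIsoFiber R S p x
  have h1 : ((PrimeSpectrum.primesOverOrderIsoFiber R S p).symm Q : Ideal S) = q := by
    rw [OrderIso.symm_apply_apply]
  rw [PrimeSpectrum.coe_primesOverOrderIsoFiber_symm_apply] at h1
  have h2 : Q.asIdeal.comap (algebraMap S (p.Fiber S)) = q := h1
  have h3 : fiberIdeal p q = Q.asIdeal := by
    rw [← h2, fiberIdeal_comap]
  rw [h3]
  exact ⟨Q.2, h2⟩

theorem fiberIdeal_isPrime (q : Ideal S) [q.IsPrime] [q.LiesOver p] : (fiberIdeal p q).IsPrime :=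
  (fiberIdeal_isPrime_and_comap p q).1

theorem comap_fiberIdeal (q : Ideal S) [q.IsPrime] [q.LiesOver p] :
    (fiberIdeal p q).comap (algebraMap S (p.Fiber S)) = q :=
  (fiberIdeal_isPrime_and_comap p q).2

end Prime

section RelAss

variable {R : Type u} [CommRing R] (p : Ideal R) [p.IsPrime] {S : Type u} [CommRing S]
  [Algebra R S] (N : Type u) [AddCommGroup N] [Module S N]

/-- Elementwise form of "the extension of `q` to the fibre ring is an associated prime of the
fibre module". -/
theorem relAss_iff [IsNoetherianRing (p.Fiber S)] (q : Ideal S) [q.IsPrime] [q.LiesOver p] :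
    fiberIdeal p q ∈ associatedPrimes (p.Fiber S) (fiberMod p S N) ↔
      ∃ z : fiberMod p S N, ∀ s : S, s ∈ q ↔ s • z = 0 := by
  rw [AssociatedPrimes.mem_iff, isAssociatedPrime_iff]
  constructor
  · rintro ⟨-, z, hz⟩
    refine ⟨z, fun s => ?_⟩
    rw [← comap_fiberIdeal p q, Ideal.mem_comap, hz, Submodule.mem_colon_singleton,
      Submodule.mem_bot, algebraMap_smul]
  · rintro ⟨z, hz⟩
    refine ⟨fiberIdeal_isPrime p q, z, ?_⟩
    have h1 : ((⊥ : Submodule (p.Fiber S) (fiberMod p S N)).colon {z}).comap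
        (algebraMap S (p.Fiber S)) = q := by
      ext s
      rw [Ideal.mem_comap, Submodule.mem_colon_singleton, Submodule.mem_bot, algebraMap_smul, hz]
    rw [← h1, fiberIdeal_comap]

end RelAss

section Finsupp

variable {S : Type*} [CommRing S] {V : Type*} [AddCommGroup V] [Module S V] {ι : Type*}

/-- If the annihilator of a finitely supported family is prime, it is the annihilator of one of
its members. -/
theorem exists_ann_eq_of_finsupp (w : ι →₀ V) (q : Ideal S) [hq : q.IsPrime]
    (h : ∀ s : S, s ∈ q ↔ s • w = 0) : ∃ i, ∀ s : S, s ∈ q ↔ s • w i = 0 := by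
  classical
  let I : ι → Ideal S := fun i => LinearMap.ker (LinearMap.toSpanSingleton S V (w i))
  have hI : ∀ i s, s ∈ I i ↔ s • w i = 0 := fun i s => by
    simp only [I, LinearMap.mem_ker, LinearMap.toSpanSingleton_apply]
  have hle : w.support.inf I ≤ q := by
    intro s hs
    rw [h]
    ext i
    rw [Finsupp.smul_apply, Finsupp.zero_apply]
    by_cases hi : i ∈ w.support
    · have := (Finset.inf_le hi : w.support.inf I ≤ I i) hs
      exact (hI i s).1 this
    · rw [Finsupp.notMem_support_iff.1 hi, smul_zero]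
  obtain ⟨i, -, hi⟩ := (Ideal.IsPrime.inf_le' hq).1 hle
  refine ⟨i, fun s => ⟨fun hs => ?_, fun hs => hi ((hI i s).2 hs)⟩⟩
  have := (h s).1 hs
  have h2 := congrArg (fun v => v i) this
  simpa using h2

end Finsupp

section Descend

variable {R R' : Type u} [CommRing R] [CommRing R'] [Algebra R R']
    (p : Ideal R) [p.IsPrime] (p' : Ideal R') [p'.IsPrime] [hpp : p'.LiesOver p]
    {S S' : Type u} [CommRing S] [CommRing S'] [Algebra R S] [Algebra R' S'] [Algebra S S']
    [Algebra R S'] [IsScalarTower R S S'] [IsScalarTower R R' S']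
    [hpo : Algebra.IsPushout R S R' S']
    {N N' : Type u} [AddCommGroup N] [Module S N]
    [AddCommGroup N'] [Module S' N'] [Module S N'] [IsScalarTower S S' N']

include hpo in
theorem finiteType_of_isPushout [Algebra.FiniteType R S] : Algebra.FiniteType R' S' := by
  haveI hpo' : Algebra.IsPushout R R' S S' := hpo.symm
  exact Algebra.FiniteType.equiv (inferInstance : Algebra.FiniteType R' (R' ⊗[R] S))
    (Algebra.IsPushout.equiv R R' S S')

include hpp hpo in
/-- The fibre module over `p'` is, as an `S`-module, a direct sum of copies of the fibre module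
over `p`. -/
theorem exists_fiberMod_equiv_finsupp (f : N →ₗ[S] N') (hf : IsBaseChange S' f) :
    ∃ (ι : Type u) (Φ : fiberMod p' S' N' ≃+ (ι →₀ fiberMod p S N)),
      ∀ (s : S) (v : fiberMod p' S' N'), Φ (algebraMap S S' s • v) = s • Φ v := by
  classical
  letI algkk' : Algebra p.ResidueField p'.ResidueField :=
    (Ideal.ResidueField.mapₐ p p' (Algebra.ofId R R') hpp.over).toRingHom.toAlgebra
  haveI tow1 : IsScalarTower R p.ResidueField p'.ResidueField :=
    IsScalarTower.of_algebraMap_eq (fun r =>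
      ((Ideal.ResidueField.mapₐ p p' (Algebra.ofId R R') hpp.over).commutes r).symm)
  letI algSF : Algebra S (p'.Fiber S') :=
    ((algebraMap S' (p'.Fiber S')).comp (algebraMap S S')).toAlgebra
  haveI tow2 : IsScalarTower S S' (p'.Fiber S') := IsScalarTower.of_algebraMap_eq (fun _ => rfl)
  haveI tow3 : IsScalarTower R S' (p'.Fiber S') := IsScalarTower.of_algebraMap_eq (fun r => by
    rw [IsScalarTower.algebraMap_apply R R' (p'.Fiber S'), IsScalarTower.algebraMap_apply R R' S',
      ← IsScalarTower.algebraMap_apply R' S' (p'.Fiber S')])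
  haveI tow4 : IsScalarTower R S (p'.Fiber S') := IsScalarTower.of_algebraMap_eq (fun r => by
    rw [IsScalarTower.algebraMap_apply S S' (p'.Fiber S'), ← IsScalarTower.algebraMap_apply R S S',
      ← IsScalarTower.algebraMap_apply R S' (p'.Fiber S')])
  haveI hpo' : Algebra.IsPushout R R' S S' := hpo.symm
  have h1 : Algebra.IsPushout R p'.ResidueField S (p'.Fiber S') :=
    (Algebra.IsPushout.comp_iff R R' S (S' := S') (T := p'.ResidueField) (T' := p'.Fiber S')).mpr
      inferInstance
  have h2 : Algebra.IsPushout R S p'.ResidueField (p'.Fiber S') := h1.symm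
  let ι := Module.Free.ChooseBasisIndex p.ResidueField p'.ResidueField
  let b := Module.Free.chooseBasis p.ResidueField p'.ResidueField
  let Ψ : (p'.Fiber S') ≃ₗ[S] (ι →₀ p.Fiber S) :=
    h2.out.equiv.symm ≪≫ₗ
      AlgebraTensorModule.congr (LinearEquiv.refl S S) (b.repr.restrictScalars R) ≪≫ₗ
      TensorProduct.finsuppRight R S S p.ResidueField ι ≪≫ₗ
      Finsupp.mapRange.linearEquiv (Algebra.TensorProduct.commRight R S p.ResidueField).toLinearEquiv
  let e1 : (p'.Fiber S') ⊗[S'] N' ≃ₗ[S'] (p'.Fiber S') ⊗[S] N := hf.tensorEquiv (p'.Fiber S')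
  let e2 : (p'.Fiber S') ⊗[S] N ≃ₗ[S] (ι →₀ p.Fiber S) ⊗[S] N :=
    TensorProduct.congr Ψ (LinearEquiv.refl S N)
  let e3 : (ι →₀ p.Fiber S) ⊗[S] N ≃ₗ[S] (ι →₀ (p.Fiber S) ⊗[S] N) :=
    TensorProduct.finsuppLeft S S (p.Fiber S) N ι
  refine ⟨ι, (show (p'.Fiber S') ⊗[S'] N' ≃+ (ι →₀ (p.Fiber S) ⊗[S] N) from
    e1.toAddEquiv.trans (e2 ≪≫ₗ e3).toAddEquiv), ?_⟩
  intro s v
  change (e2 ≪≫ₗ e3) (e1 (algebraMap S S' s • (show (p'.Fiber S') ⊗[S'] N' from v))) =
    s • (e2 ≪≫ₗ e3) (e1 (show (p'.Fiber S') ⊗[S'] N' from v))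
  rw [map_smul, algebraMap_smul, map_smul]

include hpp in
theorem liesOver_comap (q' : Ideal S') [hq' : q'.LiesOver p'] :
    (q'.comap (algebraMap S S')).LiesOver p := by
  constructor
  rw [Ideal.under, Ideal.comap_comap, ← IsScalarTower.algebraMap_eq R S S',
    IsScalarTower.algebraMap_eq R R' S', ← Ideal.comap_comap]
  have h1 : q'.comap (algebraMap R' S') = p' := hq'.over.symm
  rw [h1]
  exact hpp.over

include hpp hpo in
/-- Descent of relative associated primes along a base change. -/
theorem relAss_descend [Algebra.FiniteType R S] (f : N →ₗ[S] N') (hf : IsBaseChange S' f)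
    (q' : Ideal S') [q'.IsPrime] [q'.LiesOver p']
    (h : fiberIdeal p' q' ∈ associatedPrimes (p'.Fiber S') (fiberMod p' S' N')) :
    fiberIdeal p (q'.comap (algebraMap S S')) ∈
      associatedPrimes (p.Fiber S) (fiberMod p S N) := by
  haveI : Algebra.FiniteType R' S' := finiteType_of_isPushout (R := R) (S := S)
  haveI : IsNoetherianRing (p.Fiber S) :=
    Algebra.FiniteType.isNoetherianRing p.ResidueField (p.Fiber S)
  haveI : IsNoetherianRing (p'.Fiber S') :=
    Algebra.FiniteType.isNoetherianRing p'.ResidueField (p'.Fiber S')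
  haveI : (q'.comap (algebraMap S S')).IsPrime := Ideal.comap_isPrime _ _
  haveI : (q'.comap (algebraMap S S')).LiesOver p := liesOver_comap p p' q'
  rw [relAss_iff] at h ⊢
  obtain ⟨z', hz'⟩ := h
  obtain ⟨ι, Φ, hΦ⟩ := exists_fiberMod_equiv_finsupp p p' f hf
  have key : ∀ s : S, s ∈ q'.comap (algebraMap S S') ↔ s • Φ z' = 0 := fun s => by
    rw [← hΦ, map_eq_zero_iff Φ Φ.injective, ← hz', Ideal.mem_comap]
  obtain ⟨i, hi⟩ := exists_ann_eq_of_finsupp (Φ z') _ key
  exact ⟨Φ z' i, hi⟩

end Descend

end Groth.Agent.Lib.Seat6.FibBC
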