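import Mathlib
import Groth.Agent.Lib.Seat15FibNZD

/-!
# Spreading a fibrewise nonzerodivisor from the generic fibre (seat 6)

`exists_nzd_fibres`: `A → B` of finite type, `𝔫` a prime of `A` contained in the nilradical,
`g : B` with `1 ⊗ g` a nonzerodivisor of `κ(𝔫) ⊗ B`.  Then there is `a ∉ 𝔫` such that `1 ⊗ g` is a
nonzerodivisor of `κ(p) ⊗ B` for all primes `p` not containing `a`.
-/

set_option autoImplicit false
set_option linter.style.haveILetI false
universe u

namespace Groth.Agent.Lib.Seat6.FibNzd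

open TensorProduct Groth.Agent.Lib.Seat15.FibNZD Groth.Agent.Lib.Helper2.GenFree

section
variable {R : Type u} [CommRing R] {S : Type u} [CommRing S] [Algebra R S] (b : S)
variable (Rg : Type u) [CommRing Rg] [Algebra R Rg]

/-- variant of `nzd_of_flat` with the injectivity of multiplication by `b` on `Rg ⊗ S` as a
hypothesis (no flatness of `Rg` over `R`). -/
theorem nzd_of_flat'
    (κ : Type u) [CommRing κ] [Algebra R κ] [Algebra Rg κ] [IsScalarTower R Rg κ]
    (hinj0 : Function.Injective ((μ (R := R) b).baseChange Rg))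
    [hflat : Module.Flat Rg (Rg ⊗[R] (S ⧸ Ideal.span {b}))] :
    ((1 : κ) ⊗ₜ[R] b) ∈ nonZeroDivisors (κ ⊗[R] S) := by
  have hinj : Function.Injective (((μ (R := R) b).baseChange Rg).lTensor κ) :=
    LinearMap.lTensor_injective_of_exact_of_flat _ (qg_surj b Rg) _ hinj0
      (μqg_exact b Rg) κ
  let c := AlgebraTensorModule.cancelBaseChange R Rg κ κ S
  have hc : ∀ t : κ ⊗[Rg] (Rg ⊗[R] S),
      c (((μ (R := R) b).baseChange Rg).lTensor κ t) = ((1 : κ) ⊗ₜ[R] b) * c t := by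
    intro t
    induction t using TensorProduct.induction_on with
    | zero => simp
    | tmul x t =>
      induction t using TensorProduct.induction_on with
      | zero => simp
      | tmul r s =>
        simp only [LinearMap.lTensor_tmul, LinearMap.baseChange_tmul, c,
          AlgebraTensorModule.cancelBaseChange_tmul, LinearMap.mulLeft_apply,
          Algebra.TensorProduct.tmul_mul_tmul, one_mul]
      | add t₁ t₂ h₁ h₂ => simp only [tmul_add, map_add, h₁, h₂, mul_add]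
    | add t₁ t₂ h₁ h₂ => simp only [map_add, h₁, h₂, mul_add]
  rw [mem_nonZeroDivisors_iff_right]
  intro y hy
  obtain ⟨t, rfl⟩ := c.surjective y
  have h1 : c (((μ (R := R) b).baseChange Rg).lTensor κ t) = 0 := by rw [hc, mul_comm]; exact hy
  have h2 : ((μ (R := R) b).baseChange Rg).lTensor κ t = 0 :=
    c.injective (h1.trans (map_zero c).symm)
  have h3 : t = 0 := hinj (h2.trans (map_zero _).symm)
  rw [h3, map_zero]

end

section cancel

variable {A : Type u} [CommRing A] {A' : Type u} [CommRing A'] [Algebra A A']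
  {B : Type u} [CommRing B] [Algebra A B]
  (κ : Type u) [CommRing κ] [Algebra A κ] [Algebra A' κ] [IsScalarTower A A' κ]

/-- transport of the nonzerodivisor property along `κ ⊗[A'] (A' ⊗[A] B) ≃ κ ⊗[A] B`. -/
theorem nzd_cancel_iff (g : B) :
    ((1 : κ) ⊗ₜ[A'] ((1 : A') ⊗ₜ[A] g)) ∈ nonZeroDivisors (κ ⊗[A'] (A' ⊗[A] B)) ↔
      ((1 : κ) ⊗ₜ[A] g) ∈ nonZeroDivisors (κ ⊗[A] B) := by
  let c := AlgebraTensorModule.cancelBaseChange A A' κ κ B
  have hc : ∀ t : κ ⊗[A'] (A' ⊗[A] B),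
      c (((1 : κ) ⊗ₜ[A'] ((1 : A') ⊗ₜ[A] g)) * t) = ((1 : κ) ⊗ₜ[A] g) * c t := by
    intro t
    induction t using TensorProduct.induction_on with
    | zero => simp
    | tmul x t =>
      induction t using TensorProduct.induction_on with
      | zero => simp
      | tmul r s =>
        simp only [c, Algebra.TensorProduct.tmul_mul_tmul, one_mul,
          AlgebraTensorModule.cancelBaseChange_tmul]
      | add t₁ t₂ h₁ h₂ => simp only [tmul_add, map_add, h₁, h₂, mul_add]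
    | add t₁ t₂ h₁ h₂ => simp only [map_add, h₁, h₂, mul_add]
  constructor
  · intro h
    rw [mem_nonZeroDivisors_iff_right] at h ⊢
    intro y hy
    obtain ⟨t, rfl⟩ := c.surjective y
    have h1 : c (t * ((1 : κ) ⊗ₜ[A'] ((1 : A') ⊗ₜ[A] g))) = 0 := by
      rw [mul_comm, hc, mul_comm]; exact hy
    have h2 : t * ((1 : κ) ⊗ₜ[A'] ((1 : A') ⊗ₜ[A] g)) = 0 :=
      c.injective (h1.trans (map_zero c).symm)
    rw [h _ h2, map_zero]
  · intro h
    rw [mem_nonZeroDivisors_iff_right] at h ⊢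
    intro t ht
    have h1 : c t * ((1 : κ) ⊗ₜ[A] g) = 0 := by
      rw [mul_comm, ← hc, mul_comm, ht, map_zero]
    exact c.injective ((h _ h1).trans (map_zero c).symm)

end cancel

section inj

variable {R : Type u} [CommRing R] [IsDomain R] {S : Type u} [CommRing S] [Algebra R S]

theorem baseChange_mul_injective (b : S) (f : R) (hf : f ≠ 0) (hfree : FreeAway R f S)
    (K : Type u) [Field K] [Algebra R K] [IsFractionRing R K]
    (hb : ((1 : K) ⊗ₜ[R] b) ∈ nonZeroDivisors (K ⊗[R] S)) :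
    Function.Injective ((μ (R := R) b).baseChange (Localization.Away f)) := by
  classical
  haveI hloc : IsLocalizedModule (Submonoid.powers f)
      (TensorProduct.mk R (Localization.Away f) S 1) :=
    (isLocalizedModule_iff_isBaseChange (S := Submonoid.powers f) (A := Localization.Away f)
      (f := TensorProduct.mk R (Localization.Away f) S 1)).mpr
      (TensorProduct.isBaseChange R S (Localization.Away f))
  haveI hlocK : IsLocalizedModule (nonZeroDivisors R) (TensorProduct.mk R K S 1) :=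
    (isLocalizedModule_iff_isBaseChange (S := nonZeroDivisors R) (A := K)
      (f := TensorProduct.mk R K S 1)).mpr (TensorProduct.isBaseChange R S K)
  rw [injective_iff_map_eq_zero]
  intro y hy
  obtain ⟨⟨x, s⟩, hxs⟩ := IsLocalizedModule.surj (Submonoid.powers f)
    (TensorProduct.mk R (Localization.Away f) S 1) y
  have hxs' : s • y = (1 : Localization.Away f) ⊗ₜ[R] x := hxs
  have h1 : (1 : Localization.Away f) ⊗ₜ[R] (b * x) = 0 := by
    have h0 : (μ (R := R) b).baseChange (Localization.Away f) (s • y) = 0 := by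
      rw [Submonoid.smul_def, ← algebraMap_smul (Localization.Away f) (s : R) y, map_smul, hy,
        smul_zero]
    rw [hxs', LinearMap.baseChange_tmul] at h0
    exact h0
  obtain ⟨c, hc⟩ := (IsLocalizedModule.eq_zero_iff (Submonoid.powers f)
    (TensorProduct.mk R (Localization.Away f) S 1)).1 h1
  have hc0 : (c : R) ≠ 0 := by
    obtain ⟨m, hm⟩ := c.2
    rw [← hm]
    exact pow_ne_zero _ hf
  have hcu : IsUnit (algebraMap R K (c : R)) := by
    rw [isUnit_iff_ne_zero]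
    exact (map_ne_zero_iff _ (IsFractionRing.injective R K)).2 hc0
  have h2 : (1 : K) ⊗ₜ[R] x = 0 := by
    have hmul : ((algebraMap R K (c : R)) ⊗ₜ[R] x) * ((1 : K) ⊗ₜ[R] b) = 0 := by
      rw [Algebra.TensorProduct.tmul_mul_tmul, mul_one, mul_comm x b, Algebra.algebraMap_eq_smul_one,
        TensorProduct.smul_tmul, ← Submonoid.smul_def, hc, tmul_zero]
    have h3 := (mem_nonZeroDivisors_iff_right.1 hb) _ hmul
    have h4 : (algebraMap R K (c : R)) • ((1 : K) ⊗ₜ[R] x) = 0 := by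
      rw [TensorProduct.smul_tmul', smul_eq_mul, mul_one]; exact h3
    exact (hcu.smul_eq_zero).1 h4
  obtain ⟨d, hd⟩ := (IsLocalizedModule.eq_zero_iff (nonZeroDivisors R)
    (TensorProduct.mk R K S 1)).1 h2
  obtain ⟨Bs, hli, hspan⟩ := hfree
  obtain ⟨n, hn⟩ := hspan x
  obtain ⟨l, hl⟩ := (Finsupp.mem_span_iff_linearCombination R Bs _).1 hn
  have hdl : (d : R) • l = 0 := by
    apply linearIndependent_iff.1 hli
    rw [map_smul, hl, smul_comm, ← Submonoid.smul_def, hd, smul_zero]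
  have hl0 : l = 0 := by
    rcases smul_eq_zero.1 hdl with h | h
    · exact absurd h (nonZeroDivisors.ne_zero d.2)
    · exact h
  have hfx : f ^ n • x = 0 := by rw [← hl, hl0, map_zero]
  have h5 : (1 : Localization.Away f) ⊗ₜ[R] x = 0 :=
    (IsLocalizedModule.eq_zero_iff (Submonoid.powers f)
      (TensorProduct.mk R (Localization.Away f) S 1)).2 ⟨⟨f ^ n, n, rfl⟩, hfx⟩
  rw [h5] at hxs'
  exact IsLocalizedModule.smul_injective (TensorProduct.mk R (Localization.Away f) S 1) s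
    (hxs'.trans (smul_zero s).symm)

end inj

section main

variable {A B : Type u} [CommRing A] [CommRing B] [Algebra A B] [Algebra.FiniteType A B]

theorem exists_nzd_fibres (𝔫 : Ideal A) [𝔫.IsPrime] (h𝔫 : 𝔫 ≤ nilradical A) (g : B)
    (hg : ((1 : 𝔫.ResidueField) ⊗ₜ[A] g) ∈ nonZeroDivisors (𝔫.ResidueField ⊗[A] B)) :
    ∃ a : A, a ∉ 𝔫 ∧ ∀ (p : Ideal A) [p.IsPrime], a ∉ p →
      ((1 : p.ResidueField) ⊗ₜ[A] g) ∈ nonZeroDivisors (p.ResidueField ⊗[A] B) := by
  classical
  let bbar : (A ⧸ 𝔫) ⊗[A] B := (1 : A ⧸ 𝔫) ⊗ₜ[A] g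
  have hbK : ((1 : 𝔫.ResidueField) ⊗ₜ[A ⧸ 𝔫] bbar) ∈
      nonZeroDivisors (𝔫.ResidueField ⊗[A ⧸ 𝔫] ((A ⧸ 𝔫) ⊗[A] B)) :=
    (nzd_cancel_iff (A := A) (A' := A ⧸ 𝔫) (B := B) 𝔫.ResidueField g).2 hg
  obtain ⟨f, hf0, hS, hM, -, -⟩ :=
    exists_freeAway (A ⧸ 𝔫) ((A ⧸ 𝔫) ⊗[A] B) (((A ⧸ 𝔫) ⊗[A] B) ⧸ Ideal.span {bbar})
  obtain ⟨a, rfl⟩ := Ideal.Quotient.mk_surjective f
  have ha𝔫 : a ∉ 𝔫 := fun h => hf0 (Ideal.Quotient.eq_zero_iff_mem.2 h)
  have hinj := baseChange_mul_injective bbar _ hf0 hS 𝔫.ResidueField hbK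
  refine ⟨a, ha𝔫, ?_⟩
  intro p _ hap
  have h𝔫p : 𝔫 ≤ p := fun x hx => by
    have : x ∈ nilradical A := h𝔫 hx
    rw [nilradical_eq_sInf] at this
    exact (Ideal.mem_sInf.1 this) (by assumption : p.IsPrime)
  let φ : A ⧸ 𝔫 →+* p.ResidueField := Ideal.Quotient.lift 𝔫 (algebraMap A p.ResidueField)
    (fun x hx => Ideal.algebraMap_residueField_eq_zero.2 (h𝔫p hx))
  letI : Algebra (A ⧸ 𝔫) p.ResidueField := φ.toAlgebra
  haveI : IsScalarTower A (A ⧸ 𝔫) p.ResidueField :=
    IsScalarTower.of_algebraMap_eq (fun x => rfl)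
  have hu : IsUnit (algebraMap (A ⧸ 𝔫) p.ResidueField (Ideal.Quotient.mk 𝔫 a)) := by
    rw [isUnit_iff_ne_zero]
    change algebraMap A p.ResidueField a ≠ 0
    rw [Ne, Ideal.algebraMap_residueField_eq_zero]
    exact hap
  letI : Algebra (Localization.Away (Ideal.Quotient.mk 𝔫 a)) p.ResidueField :=
    (IsLocalization.Away.lift (Ideal.Quotient.mk 𝔫 a) hu).toAlgebra
  haveI : IsScalarTower (A ⧸ 𝔫) (Localization.Away (Ideal.Quotient.mk 𝔫 a)) p.ResidueField :=
    IsScalarTower.of_algebraMap_eq fun x => (IsLocalization.Away.lift_eq _ hu x).symm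
  haveI : IsLocalizedModule (Submonoid.powers (Ideal.Quotient.mk 𝔫 a))
      (TensorProduct.mk (A ⧸ 𝔫) (Localization.Away (Ideal.Quotient.mk 𝔫 a))
        (((A ⧸ 𝔫) ⊗[A] B) ⧸ Ideal.span {bbar}) 1) :=
    (isLocalizedModule_iff_isBaseChange (S := Submonoid.powers (Ideal.Quotient.mk 𝔫 a))
      (A := Localization.Away (Ideal.Quotient.mk 𝔫 a))
      (f := TensorProduct.mk (A ⧸ 𝔫) (Localization.Away (Ideal.Quotient.mk 𝔫 a))
        (((A ⧸ 𝔫) ⊗[A] B) ⧸ Ideal.span {bbar}) 1)).mpr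
      (TensorProduct.isBaseChange (A ⧸ 𝔫) (((A ⧸ 𝔫) ⊗[A] B) ⧸ Ideal.span {bbar})
        (Localization.Away (Ideal.Quotient.mk 𝔫 a)))
  haveI hfree : Module.Free (Localization.Away (Ideal.Quotient.mk 𝔫 a))
      ((Localization.Away (Ideal.Quotient.mk 𝔫 a)) ⊗[A ⧸ 𝔫]
        (((A ⧸ 𝔫) ⊗[A] B) ⧸ Ideal.span {bbar})) :=
    hM.free (Localization.Away (Ideal.Quotient.mk 𝔫 a))
      (TensorProduct.mk (A ⧸ 𝔫) (Localization.Away (Ideal.Quotient.mk 𝔫 a))
        (((A ⧸ 𝔫) ⊗[A] B) ⧸ Ideal.span {bbar}) 1)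
  have key := nzd_of_flat' (R := A ⧸ 𝔫) (S := (A ⧸ 𝔫) ⊗[A] B) bbar
    (Localization.Away (Ideal.Quotient.mk 𝔫 a)) p.ResidueField hinj
  exact (nzd_cancel_iff (A := A) (A' := A ⧸ 𝔫) (B := B) p.ResidueField g).1 key

end main

end Groth.Agent.Lib.Seat6.FibNzd
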