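import Mathlib
import Groth.Agent.Lib.Helper2GenFree
import Groth.Agent.Lib.Helper11GenFlat

/-!
# Generalizations into the generic fibre (seat 6)

`exists_generalization`: for a finite type algebra `A → B` with `Spec A` irreducible there is
`a ∈ A` not nilpotent such that every prime `q` of `B` with `a ∉ q` contains a prime lying over the
generic point of `Spec A`.
-/

set_option autoImplicit false
set_option linter.style.haveILetI false

universe u

namespace Groth.Agent.Lib.Seat6.GenPt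

open Groth.Agent.Lib.Helper2.GenFree Groth.Agent.Lib.Helper11GenFlat

/-- Domain case. -/
theorem exists_generalization_domain {A B : Type u} [CommRing A] [IsDomain A] [CommRing B]
    [Algebra A B] [Algebra.FiniteType A B] :
    ∃ a : A, a ≠ 0 ∧ ∀ q : Ideal B, q.IsPrime → algebraMap A B a ∉ q →
      ∃ q' : Ideal B, q'.IsPrime ∧ q' ≤ q ∧ q'.comap (algebraMap A B) = ⊥ := by
  obtain ⟨a, ha0, hS, -, -, -⟩ := exists_freeAway A B B
  refine ⟨a, ha0, fun q hq haq => ?_⟩
  let S' := Localization.Away (algebraMap A B a)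
  haveI hflat : Module.Flat A S' := flat_of_freeAway_of_isLocalization a hS
  have hdisj : Disjoint (Submonoid.powers (algebraMap A B a) : Set B) (q : Set B) := by
    rw [Set.disjoint_left]
    rintro _ ⟨n, rfl⟩ hmem
    exact haq (hq.mem_of_pow_mem n hmem)
  haveI hQ : (q.map (algebraMap B S')).IsPrime :=
    IsLocalization.isPrime_of_isPrime_disjoint (Submonoid.powers (algebraMap A B a)) S' q hq hdisj
  have hQc : (q.map (algebraMap B S')).comap (algebraMap B S') = q :=
    IsLocalization.comap_map_of_isPrime_disjoint (Submonoid.powers (algebraMap A B a)) S' hq hdisj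
  haveI : (⊥ : Ideal A).IsPrime := Ideal.isPrime_bot
  obtain ⟨P, hPQ, hP, hPover⟩ := Ideal.exists_ideal_le_liesOver_of_le
    (p := (⊥ : Ideal A)) (q := (q.map (algebraMap B S')).under A) (q.map (algebraMap B S')) bot_le
  refine ⟨P.comap (algebraMap B S'), Ideal.comap_isPrime _ _, ?_, ?_⟩
  · rw [← hQc]; exact Ideal.comap_mono hPQ
  · rw [Ideal.comap_comap, ← IsScalarTower.algebraMap_eq]
    exact hPover.over.symm

/-- General case: `Spec A` irreducible. -/
theorem exists_generalization {A B : Type u} [CommRing A] [CommRing B] [Algebra A B]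
    [Algebra.FiniteType A B] (hn : (nilradical A).IsPrime) :
    ∃ a : A, a ∉ nilradical A ∧ ∀ q : Ideal B, q.IsPrime → algebraMap A B a ∉ q →
      ∃ q' : Ideal B, q'.IsPrime ∧ q' ≤ q ∧ q'.comap (algebraMap A B) = nilradical A := by
  set 𝔫 := nilradical A with h𝔫
  set J := 𝔫.map (algebraMap A B) with hJ
  haveI : IsDomain (A ⧸ 𝔫) := Ideal.Quotient.isDomain 𝔫
  haveI : Algebra.FiniteType (A ⧸ 𝔫) (B ⧸ J) :=
    Algebra.FiniteType.of_restrictScalars_finiteType A (A ⧸ 𝔫) (B ⧸ J)
  obtain ⟨a₀, ha₀, H⟩ := exists_generalization_domain (A := A ⧸ 𝔫) (B := B ⧸ J)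
  obtain ⟨a, rfl⟩ := Ideal.Quotient.mk_surjective a₀
  refine ⟨a, fun ha => ha₀ (Ideal.Quotient.eq_zero_iff_mem.2 ha), fun q hq haq => ?_⟩
  -- `J ≤ q` since `J` consists of nilpotents
  have hJq : J ≤ q := by
    rw [hJ, Ideal.map_le_iff_le_comap]
    intro x hx
    rw [Ideal.mem_comap]
    obtain ⟨n, hn'⟩ := mem_nilradical.1 hx
    apply hq.mem_of_pow_mem n
    rw [← map_pow, hn', map_zero]
    exact q.zero_mem
  have hsurj : Function.Surjective (Ideal.Quotient.mk J) := Ideal.Quotient.mk_surjective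
  have hker : RingHom.ker (Ideal.Quotient.mk J) ≤ q := by rw [Ideal.mk_ker]; exact hJq
  haveI hq₀ : (q.map (Ideal.Quotient.mk J)).IsPrime := Ideal.map_isPrime_of_surjective hsurj hker
  have hq₀c : (q.map (Ideal.Quotient.mk J)).comap (Ideal.Quotient.mk J) = q := by
    rw [Ideal.comap_map_of_surjective _ hsurj, ← RingHom.ker_eq_comap_bot]
    exact sup_eq_left.2 hker
  have haq₀ : algebraMap (A ⧸ 𝔫) (B ⧸ J) (Ideal.Quotient.mk 𝔫 a) ∉ q.map (Ideal.Quotient.mk J) := by
    intro hmem
    apply haq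
    rw [← hq₀c, Ideal.mem_comap]
    exact hmem
  obtain ⟨q₀', hq₀', hle, hbot⟩ := H _ hq₀ haq₀
  refine ⟨q₀'.comap (Ideal.Quotient.mk J), Ideal.comap_isPrime _ _, ?_, ?_⟩
  · rw [← hq₀c]; exact Ideal.comap_mono hle
  · rw [Ideal.comap_comap]
    have hcomp : (Ideal.Quotient.mk J).comp (algebraMap A B) =
        (algebraMap (A ⧸ 𝔫) (B ⧸ J)).comp (Ideal.Quotient.mk 𝔫) := by
      ext x; rfl
    rw [hcomp, ← Ideal.comap_comap, hbot, ← RingHom.ker_eq_comap_bot, Ideal.mk_ker]

end Groth.Agent.Lib.Seat6.GenPt
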