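import Mathlib
import Groth.Agent.Lib.Helper13Fiber
import Groth.Agent.Lib.Seat15FibNZD
import Groth.Agent.Lib.Seat6GenPt

/-!
# Spreading out density in fibres: ring level (seat 6)

* `exists_mem_nzd`: prime avoidance against associated primes of a Noetherian ring.
* `exists_reducedFibre`: the reduced fibre ring over a prime, as a Noetherian ring receiving `B`.
* `FibDense I 𝔭`: the complement of `V(I)` is dense in the fibre over `𝔭` (in terms of principal opens).
* `exists_fibDense`: for `A → B` of finite type with `nilradical A` prime, `FibDense I (nilradical A)`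
  implies `FibDense I 𝔭` for all `𝔭` in a nonempty principal open of `Spec A`.
-/

set_option autoImplicit false
set_option linter.style.haveILetI false
universe u

namespace Groth.Agent.Lib.Seat6.Nwd

open TensorProduct

/-- Prime avoidance against the associated primes of a Noetherian ring, pulled back along a ring
homomorphism: if no nonzero element of `R` kills the image of the ideal `I`, then `I` contains an
element whose image is a nonzerodivisor. -/
theorem exists_mem_nzd {B R : Type u} [CommRing B] [CommRing R] [IsNoetherianRing R] (φ : B →+* R)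
    (I : Ideal B) (hann : ∀ r : R, (∀ b ∈ I, φ b * r = 0) → r = 0) :
    ∃ b ∈ I, φ b ∈ nonZeroDivisors R := by
  classical
  by_contra hcon
  push Not at hcon
  have hfin : (associatedPrimes R R).Finite := associatedPrimes.finite R R
  have hsub : (I : Set B) ⊆ ⋃ P ∈ (hfin.toFinset : Set (Ideal R)), ((P.comap φ : Ideal B) : Set B) := by
    intro b hb
    have h1 : φ b ∈ (nonZeroDivisors R : Set R)ᶜ := hcon b hb
    rw [← biUnion_associatedPrimes_eq_compl_nonZeroDivisors] at h1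
    obtain ⟨P, hP, hbP⟩ := Set.mem_iUnion₂.1 h1
    exact Set.mem_iUnion₂.2 ⟨P, by simpa using hP, hbP⟩
  have hprime : ∀ P ∈ hfin.toFinset, P ≠ (⊥ : Ideal R) → P ≠ (⊥ : Ideal R) →
      ((fun P : Ideal R => P.comap φ) P).IsPrime := by
    intro P hP _ _
    have hP' : IsAssociatedPrime P R := hfin.mem_toFinset.1 hP
    haveI := hP'.isPrime
    exact Ideal.comap_isPrime φ P
  obtain ⟨P, hP, hIP⟩ := (Ideal.subset_union_prime (f := fun P : Ideal R => P.comap φ)
    (⊥ : Ideal R) (⊥ : Ideal R) hprime).1 hsub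
  have hP' : IsAssociatedPrime P R := hfin.mem_toFinset.1 hP
  obtain ⟨hPp, x, hx⟩ := (isAssociatedPrime_iff).1 hP'
  have hx0 : x = 0 := by
    apply hann
    intro b hb
    have : φ b ∈ P := hIP hb
    rw [hx, Submodule.mem_colon_singleton, Submodule.mem_bot, smul_eq_mul] at this
    exact this
  apply hPp.ne_top
  rw [hx, hx0, Ideal.eq_top_iff_one, Submodule.mem_colon_singleton, smul_zero]
  exact Submodule.zero_mem _

section Fibre

attribute [local instance] Algebra.TensorProduct.rightAlgebra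

variable {A B : Type u} [CommRing A] [CommRing B] [Algebra A B]

/-- `x` lies in all primes of `B` over `𝔭`. -/
def InAll (𝔭 : Ideal A) (x : B) : Prop :=
  ∀ q : Ideal B, q.IsPrime → q.comap (algebraMap A B) = 𝔭 → x ∈ q

/-- Existence of a Noetherian "reduced fibre ring" `R` receiving `B`, whose kernel is the
intersection of the primes over `𝔭`, and generated by `B` up to units. -/
theorem exists_reducedFibre [Algebra.FiniteType A B] (𝔭 : Ideal A) [𝔭.IsPrime] :
    ∃ (R : Type u) (_ : CommRing R) (_ : IsNoetherianRing R) (φ : B →+* R),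
      (∀ c : B, φ c = 0 ↔ InAll 𝔭 c) ∧
      ∀ r : R, ∃ u : R, IsUnit u ∧ ∃ x : B, u * r = φ x := by
  haveI : IsNoetherianRing (𝔭.Fiber B) :=
    Algebra.FiniteType.isNoetherianRing 𝔭.ResidueField (𝔭.Fiber B)
  refine ⟨𝔭.Fiber B ⧸ nilradical (𝔭.Fiber B), inferInstance, inferInstance,
    (Ideal.Quotient.mk (nilradical (𝔭.Fiber B))).comp (algebraMap B (𝔭.Fiber B)), ?_, ?_⟩
  · intro c
    rw [RingHom.comp_apply, Ideal.Quotient.eq_zero_iff_mem, nilradical_eq_sInf, Ideal.mem_sInf]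
    constructor
    · intro h q hq hqp
      haveI := hq
      have hmem : q ∈ 𝔭.primesOver B := ⟨hq, ⟨hqp.symm⟩⟩
      set P := PrimeSpectrum.primesOverOrderIsoFiber A B 𝔭 ⟨q, hmem⟩ with hPdef
      have h1 : algebraMap B (𝔭.Fiber B) c ∈ P.asIdeal := h P.2
      have h2 : ((PrimeSpectrum.primesOverOrderIsoFiber A B 𝔭).symm P : Ideal B) = q := by
        rw [hPdef, OrderIso.symm_apply_apply]
      rw [PrimeSpectrum.coe_primesOverOrderIsoFiber_symm_apply] at h2
      rw [← h2]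
      exact h1
    · intro h P hP
      have hP' : P.IsPrime := hP
      have h1 := ((PrimeSpectrum.primesOverOrderIsoFiber A B 𝔭).symm ⟨P, hP'⟩).2
      rw [PrimeSpectrum.coe_primesOverOrderIsoFiber_symm_apply] at h1
      have h2 := h _ h1.1 h1.2.over.symm
      exact h2
  · intro r
    obtain ⟨f, rfl⟩ := Ideal.Quotient.mk_surjective r
    obtain ⟨u, hu, x, hx⟩ := Groth.Agent.Helper13Fiber.exists_isUnit_mul_eq_algebraMap 𝔭 B f
    refine ⟨Ideal.Quotient.mk _ u, hu.map _, x, ?_⟩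
    rw [← map_mul, hx, RingHom.comp_apply]

/-- The fibre-density condition: every nonempty principal open of the fibre over `𝔭` meets the
complement of `V(I)`. -/
def FibDense (I : Ideal B) (𝔭 : Ideal A) : Prop :=
  ∀ c : B, (∃ q : Ideal B, q.IsPrime ∧ q.comap (algebraMap A B) = 𝔭 ∧ c ∉ q) →
    ∃ q : Ideal B, q.IsPrime ∧ q.comap (algebraMap A B) = 𝔭 ∧ c ∉ q ∧ ¬ I ≤ q

/-- Step 1: density of the complement of `V(I)` in the fibre gives a single `b ∈ I` whose
principal open is dense in the fibre. -/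
theorem exists_mem_nzd_fibre [Algebra.FiniteType A B] (𝔭 : Ideal A) [𝔭.IsPrime] (I : Ideal B)
    (h : FibDense I 𝔭) : ∃ b ∈ I, ∀ x : B, InAll 𝔭 (b * x) → InAll 𝔭 x := by
  obtain ⟨R, _, _, φ, hker, hsurj⟩ := exists_reducedFibre (A := A) (B := B) 𝔭
  have hann : ∀ r : R, (∀ b ∈ I, φ b * r = 0) → r = 0 := by
    intro r hr
    obtain ⟨u, hu, x, hx⟩ := hsurj r
    have hall : ∀ b ∈ I, InAll 𝔭 (b * x) := by
      intro b hb
      rw [← hker, map_mul, ← hx, mul_left_comm, hr b hb, mul_zero]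
    have hx' : InAll 𝔭 x := by
      by_contra hcon
      unfold InAll at hcon
      push Not at hcon
      obtain ⟨q, hq, hqp, hxq⟩ := hcon
      obtain ⟨q', hq', hq'p, hxq', hIq'⟩ := h x ⟨q, hq, hqp, hxq⟩
      obtain ⟨b, hbI, hbq'⟩ := SetLike.not_le_iff_exists.1 hIq'
      rcases hq'.mem_or_mem (hall b hbI q' hq' hq'p) with h1 | h1
      · exact hbq' h1
      · exact hxq' h1
    have : u * r = 0 := by rw [hx]; exact (hker x).2 hx'
    exact (hu.mul_right_eq_zero).1 this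
  obtain ⟨b, hbI, hb⟩ := exists_mem_nzd φ I hann
  refine ⟨b, hbI, fun x hx => ?_⟩
  rw [← hker] at hx ⊢
  rw [map_mul, mul_comm] at hx
  exact (mem_nonZeroDivisors_iff_right.1 hb) _ hx

/-- Step 2, abstract form: `A₀` a domain quotient of `A`, `B₁` a quotient of `B` of finite type
over `A₀`, and `b` a nonzerodivisor on `B₁`.  Over a nonempty open of `Spec A₀` the principal open
`D(b)` is dense in the fibres of `V(ker πB)`. -/
theorem exists_dense_of_nzd {A₀ B₁ : Type u} [CommRing A₀] [IsDomain A₀] [CommRing B₁]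
    [Algebra A₀ B₁] [Algebra.FiniteType A₀ B₁] (πA : A →+* A₀) (πB : B →+* B₁)
    (hπA : Function.Surjective πA) (hπB : Function.Surjective πB)
    (hcomm : ∀ a, πB (algebraMap A B a) = algebraMap A₀ B₁ (πA a))
    (b : B) (hb : πB b ∈ nonZeroDivisors B₁) :
    ∃ a : A, πA a ≠ 0 ∧ ∀ q : Ideal B, q.IsPrime → RingHom.ker πB ≤ q → algebraMap A B a ∉ q →
      ∀ c : B, c ∉ q → ∃ q' : Ideal B, q'.IsPrime ∧
        q'.comap (algebraMap A B) = q.comap (algebraMap A B) ∧ c ∉ q' ∧ b ∉ q' := by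
  obtain ⟨g, hg0, hg⟩ := Groth.Agent.Lib.Seat15.FibNZD.mem_closure_fibre A₀ B₁ (πB b) hb
  obtain ⟨a, rfl⟩ := hπA g
  refine ⟨a, hg0, fun q hq hker haq c hcq => ?_⟩
  have hcm : (q.map πB).comap πB = q := by
    rw [Ideal.comap_map_of_surjective πB hπB, sup_eq_left]
    exact hker
  have hmem : ∀ z : B, πB z ∈ q.map πB ↔ z ∈ q := by
    intro z
    rw [← Ideal.mem_comap, hcm]
  haveI : (q.map πB).IsPrime := Ideal.map_isPrime_of_surjective hπB hker
  set 𝔯 : PrimeSpectrum B₁ := ⟨q.map πB, inferInstance⟩ with h𝔯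
  have hg𝔯 : πA a ∉ (PrimeSpectrum.comap (algebraMap A₀ B₁) 𝔯).asIdeal := by
    intro hmem'
    change algebraMap A₀ B₁ (πA a) ∈ q.map πB at hmem'
    rw [← hcomm, hmem] at hmem'
    exact haq hmem'
  have hcl := hg 𝔯 hg𝔯
  have hc𝔯 : 𝔯 ∈ (PrimeSpectrum.basicOpen (πB c) : Set (PrimeSpectrum B₁)) := by
    change πB c ∉ q.map πB
    rw [hmem]; exact hcq
  obtain ⟨𝔯', h𝔯'c, h𝔯'b, h𝔯'f⟩ := mem_closure_iff.1 hcl _
    (PrimeSpectrum.basicOpen (πB c)).isOpen hc𝔯
  replace h𝔯'f : PrimeSpectrum.comap (algebraMap A₀ B₁) 𝔯' =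
    PrimeSpectrum.comap (algebraMap A₀ B₁) 𝔯 := h𝔯'f
  refine ⟨𝔯'.asIdeal.comap πB, Ideal.comap_isPrime _ _, ?_, h𝔯'c, h𝔯'b⟩
  ext z
  rw [Ideal.mem_comap, Ideal.mem_comap, Ideal.mem_comap, hcomm, ← hmem, hcomm]
  have := congrArg (fun P : PrimeSpectrum A₀ => πA z ∈ P.asIdeal) h𝔯'f
  exact iff_of_eq this

/-- The quotient data: `A₀ = A/𝔫`, `B₁ = B/𝔑` with `𝔑` the intersection of primes over `𝔫`. -/
theorem exists_quotient_data [Algebra.FiniteType A B] (𝔫 : Ideal A) [𝔫.IsPrime] :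
    ∃ (A₀ B₁ : Type u) (_ : CommRing A₀) (_ : IsDomain A₀) (_ : CommRing B₁) (_ : Algebra A₀ B₁)
      (_ : Algebra.FiniteType A₀ B₁) (πA : A →+* A₀) (πB : B →+* B₁),
      Function.Surjective πA ∧ Function.Surjective πB ∧
      (∀ a, πB (algebraMap A B a) = algebraMap A₀ B₁ (πA a)) ∧
      (∀ a, πA a = 0 ↔ a ∈ 𝔫) ∧ (∀ x, πB x = 0 ↔ InAll 𝔫 x) := by
  set 𝔑 : Ideal B := sInf {q : Ideal B | q.IsPrime ∧ q.comap (algebraMap A B) = 𝔫} with h𝔑
  have hmem𝔑 : ∀ x, x ∈ 𝔑 ↔ InAll 𝔫 x := by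
    intro x
    rw [h𝔑, Ideal.mem_sInf]
    exact ⟨fun h q hq hqp => h ⟨hq, hqp⟩, fun h q hq => h q hq.1 hq.2⟩
  have hle : 𝔫 ≤ 𝔑.comap (algebraMap A B) := by
    intro a ha
    rw [Ideal.mem_comap, hmem𝔑]
    intro q _ hqp
    rw [← hqp] at ha
    exact ha
  letI : Algebra (A ⧸ 𝔫) (B ⧸ 𝔑) := Ideal.Quotient.algebraQuotientOfLEComap hle
  haveI : IsScalarTower A (A ⧸ 𝔫) (B ⧸ 𝔑) := IsScalarTower.of_algebraMap_eq fun x => rfl
  haveI : Algebra.FiniteType (A ⧸ 𝔫) (B ⧸ 𝔑) :=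
    Algebra.FiniteType.of_restrictScalars_finiteType A (A ⧸ 𝔫) (B ⧸ 𝔑)
  refine ⟨A ⧸ 𝔫, B ⧸ 𝔑, inferInstance, Ideal.Quotient.isDomain 𝔫, inferInstance, inferInstance,
    inferInstance, Ideal.Quotient.mk 𝔫, Ideal.Quotient.mk 𝔑, Ideal.Quotient.mk_surjective,
    Ideal.Quotient.mk_surjective, fun a => rfl, fun a => Ideal.Quotient.eq_zero_iff_mem, fun x => ?_⟩
  rw [Ideal.Quotient.eq_zero_iff_mem, hmem𝔑]

/-- Ring-level spreading out of fibrewise density. -/
theorem exists_fibDense [Algebra.FiniteType A B] (hn : (nilradical A).IsPrime) (I : Ideal B)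
    (h : FibDense I (nilradical A)) :
    ∃ a : A, a ∉ nilradical A ∧ ∀ 𝔭 : Ideal A, 𝔭.IsPrime → a ∉ 𝔭 → FibDense I 𝔭 := by
  haveI := hn
  obtain ⟨b, hbI, hb⟩ := exists_mem_nzd_fibre (nilradical A) I h
  obtain ⟨A₀, B₁, _, _, _, _, _, πA, πB, hπA, hπB, hcomm, hkA, hkB⟩ :=
    exists_quotient_data (A := A) (B := B) (nilradical A)
  have hbn : πB b ∈ nonZeroDivisors B₁ := by
    rw [mem_nonZeroDivisors_iff_right]
    intro z hz
    obtain ⟨x, rfl⟩ := hπB z
    rw [← map_mul, hkB, mul_comm] at hz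
    exact (hkB x).2 (hb x hz)
  obtain ⟨a₁, ha₁, hD⟩ := exists_dense_of_nzd πA πB hπA hπB hcomm b hbn
  obtain ⟨a₂, ha₂, hG⟩ := Groth.Agent.Lib.Seat6.GenPt.exists_generalization (A := A) (B := B) hn
  refine ⟨a₁ * a₂, ?_, ?_⟩
  · intro hmem
    rcases hn.mem_or_mem hmem with h1 | h1
    · exact ha₁ ((hkA a₁).2 h1)
    · exact ha₂ h1
  · rintro 𝔭 h𝔭 ha c ⟨q, hq, hq𝔭, hcq⟩
    have h1 : algebraMap A B a₁ ∉ q := by
      intro hmem
      apply ha
      rw [← hq𝔭, Ideal.mem_comap, map_mul]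
      exact Ideal.mul_mem_right _ _ hmem
    have h2 : algebraMap A B a₂ ∉ q := by
      intro hmem
      apply ha
      rw [← hq𝔭, Ideal.mem_comap, map_mul]
      exact Ideal.mul_mem_left _ _ hmem
    obtain ⟨q'', hq'', hq''le, hq''n⟩ := hG q hq h2
    have hker : RingHom.ker πB ≤ q := by
      intro x hx
      rw [RingHom.mem_ker, hkB] at hx
      exact hq''le (hx q'' hq'' hq''n)
    obtain ⟨q', hq', hq'c, hcq', hbq'⟩ := hD q hq hker h1 c hcq
    exact ⟨q', hq', hq'c.trans hq𝔭, hcq', fun hI => hbq' (hI hbI)⟩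

end Fibre

end Groth.Agent.Lib.Seat6.Nwd
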