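import Mathlib
import Groth.Agent.Lib.Seat6NwdRing

/-!
# Spreading out nowhere density in fibres: scheme level (seat 6)

* `ND f Z y`: pointwise form of "`Z ∩ f⁻¹(y)` is nowhere dense in the fibre".
* `nd_of_isNowhereDense`, `isNowhereDense_of_nd`: translation to `IsNowhereDense` on `f.fiber y`.
* `exists_open_nd`: for `f` of finite type with irreducible target and `Z` closed, `ND` at the generic
  point spreads to a nonempty open.
-/

set_option autoImplicit false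
set_option linter.style.haveILetI false
universe u

open CategoryTheory CategoryTheory.Limits AlgebraicGeometry TopologicalSpace

namespace Groth.Agent.Lib.Seat6.Nwd

/-- Pointwise form of "the trace of `Z` on the fibre over `y` is nowhere dense". -/
def ND {X Y : Scheme.{u}} (f : X ⟶ Y) (Z : Set X) (y : Y) : Prop :=
  ∀ O : X.Opens, (∃ x ∈ O, f x = y) → ∃ x ∈ O, f x = y ∧ x ∉ Z

theorem nd_of_isNowhereDense {X Y : Scheme.{u}} (f : X ⟶ Y) (Z : Set X) (y : Y)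
    (h : IsNowhereDense ((f.fiberι y) ⁻¹' Z)) : ND f Z y := by
  rintro O ⟨x, hxO, hxy⟩
  have hx : x ∈ Set.range (f.fiberι y) := by rw [f.range_fiberι]; exact hxy
  obtain ⟨w, rfl⟩ := hx
  have hint : interior ((f.fiberι y) ⁻¹' Z) = ∅ :=
    Set.subset_eq_empty (interior_mono subset_closure) h
  by_contra hcon
  push Not at hcon
  have hsub : (f.fiberι y) ⁻¹' (O : Set X) ⊆ (f.fiberι y) ⁻¹' Z := by
    intro w' hw'
    apply hcon _ hw'
    have : f.fiberι y w' ∈ Set.range (f.fiberι y) := ⟨w', rfl⟩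
    rw [f.range_fiberι] at this
    exact this
  have hopen : IsOpen ((f.fiberι y) ⁻¹' (O : Set X)) := O.isOpen.preimage (f.fiberι y).continuous
  have : w ∈ interior ((f.fiberι y) ⁻¹' Z) := (hopen.subset_interior_iff.2 hsub) hxO
  rw [hint] at this
  exact this

theorem isNowhereDense_of_nd {X Y : Scheme.{u}} (f : X ⟶ Y) (Z : Set X) (hZ : IsClosed Z) (y : Y)
    (h : ND f Z y) : IsNowhereDense ((f.fiberι y) ⁻¹' Z) := by
  have hcl : IsClosed ((f.fiberι y) ⁻¹' Z) := hZ.preimage (f.fiberι y).continuous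
  rw [hcl.isNowhereDense_iff, Set.eq_empty_iff_forall_notMem]
  intro w hw
  obtain ⟨O, hO, hOeq⟩ := (f.fiberι y).isEmbedding.toIsInducing.isOpen_iff.1
    (isOpen_interior (s := (f.fiberι y) ⁻¹' Z))
  have hwO : f.fiberι y w ∈ O := by
    have : w ∈ (f.fiberι y) ⁻¹' O := by rw [hOeq]; exact hw
    exact this
  have hfw : f (f.fiberι y w) = y := by
    have : f.fiberι y w ∈ Set.range (f.fiberι y) := ⟨w, rfl⟩
    rw [f.range_fiberι] at this
    exact this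
  obtain ⟨x', hx'O, hx'y, hx'Z⟩ := h ⟨O, hO⟩ ⟨_, hwO, hfw⟩
  have hx' : x' ∈ Set.range (f.fiberι y) := by rw [f.range_fiberι]; exact hx'y
  obtain ⟨w', rfl⟩ := hx'
  have : w' ∈ (f.fiberι y) ⁻¹' O := hx'O
  rw [hOeq] at this
  have h2 : w' ∈ (f.fiberι y) ⁻¹' Z := interior_subset this
  exact hx'Z h2

theorem affine_dict {X Y : Scheme.{u}} (f : X ⟶ Y) {V₀ : Y.Opens} (hV₀ : IsAffineOpen V₀)
    {W : X.Opens} (hW : IsAffineOpen W) (e : W ≤ f ⁻¹ᵁ V₀) (r : Spec Γ(X, W)) :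
    f (hW.fromSpec r) = hV₀.fromSpec (Spec.map (f.appLE V₀ W e) r) := by
  have := congr($(IsAffineOpen.SpecMap_appLE_fromSpec f hV₀ hW e) r)
  simpa only [Scheme.Hom.comp_apply] using this.symm

theorem mem_iff_vanishingIdeal_le {X : Scheme.{u}} {W : X.Opens} (hW : IsAffineOpen W)
    (Z : Set X) (hZ : IsClosed Z) (r : Spec Γ(X, W)) :
    hW.fromSpec r ∈ Z ↔ PrimeSpectrum.vanishingIdeal (hW.fromSpec ⁻¹' Z) ≤ r.asIdeal := by
  have hcl : IsClosed (hW.fromSpec ⁻¹' Z) := hZ.preimage hW.fromSpec.continuous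
  constructor
  · intro hmem x hx
    rw [PrimeSpectrum.mem_vanishingIdeal] at hx
    exact hx r hmem
  · intro hle
    have h1 : (r : PrimeSpectrum Γ(X, W)) ∈ PrimeSpectrum.zeroLocus
        (PrimeSpectrum.vanishingIdeal (hW.fromSpec ⁻¹' Z) : Set Γ(X, W)) :=
      (PrimeSpectrum.mem_zeroLocus _ _).2 hle
    have h2 : r ∈ closure (hW.fromSpec ⁻¹' Z) :=
      (PrimeSpectrum.zeroLocus_vanishingIdeal_eq_closure (hW.fromSpec ⁻¹' Z)) ▸ h1
    rw [hcl.closure_eq] at h2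
    exact h2

theorem mem_basicOpen_iff {X : Scheme.{u}} {W : X.Opens} (hW : IsAffineOpen W)
    (c : Γ(X, W)) (r : Spec Γ(X, W)) :
    hW.fromSpec r ∈ X.basicOpen c ↔ c ∉ r.asIdeal := by
  change r ∈ (hW.fromSpec ⁻¹ᵁ X.basicOpen c) ↔ _
  rw [hW.fromSpec_preimage_basicOpen]
  rfl

/-- Ring hom form of `exists_fibDense`. -/
theorem exists_fibDense_ringHom {A B : Type u} [CommRing A] [CommRing B] (φ : A →+* B)
    (hφ : φ.FiniteType) (hn : (nilradical A).IsPrime) (I : Ideal B)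
    (h : ∀ c : B, (∃ q : Ideal B, q.IsPrime ∧ q.comap φ = nilradical A ∧ c ∉ q) →
      ∃ q : Ideal B, q.IsPrime ∧ q.comap φ = nilradical A ∧ c ∉ q ∧ ¬ I ≤ q) :
    ∃ a : A, a ∉ nilradical A ∧ ∀ 𝔭 : Ideal A, 𝔭.IsPrime → a ∉ 𝔭 → ∀ c : B,
      (∃ q : Ideal B, q.IsPrime ∧ q.comap φ = 𝔭 ∧ c ∉ q) →
      ∃ q : Ideal B, q.IsPrime ∧ q.comap φ = 𝔭 ∧ c ∉ q ∧ ¬ I ≤ q := by
  letI := φ.toAlgebra
  haveI : Algebra.FiniteType A B := hφ
  exact exists_fibDense (A := A) (B := B) hn I h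

/-- Key step for one affine chart. -/
theorem key_affine {X Y : Scheme.{u}} (f : X ⟶ Y) [LocallyOfFiniteType f]
    (Z : Set X) (hZ : IsClosed Z) {V₀ : Y.Opens} (hV₀ : IsAffineOpen V₀)
    (y₀ : Y) (hy₀ : y₀ ∈ V₀) (hnil : nilradical Γ(Y, V₀) = (hV₀.primeIdealOf ⟨y₀, hy₀⟩).asIdeal)
    (h : ND f Z y₀) {W : X.Opens} (hW : IsAffineOpen W) (e : W ≤ f ⁻¹ᵁ V₀) :
    ∃ a : Γ(Y, V₀), a ∉ nilradical Γ(Y, V₀) ∧
      ∀ 𝔭 : Ideal Γ(Y, V₀), 𝔭.IsPrime → a ∉ 𝔭 → ∀ c : Γ(X, W),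
      (∃ q : Ideal Γ(X, W), q.IsPrime ∧ q.comap (f.appLE V₀ W e).hom = 𝔭 ∧ c ∉ q) →
      ∃ q : Ideal Γ(X, W), q.IsPrime ∧ q.comap (f.appLE V₀ W e).hom = 𝔭 ∧ c ∉ q ∧
        ¬ PrimeSpectrum.vanishingIdeal (hW.fromSpec ⁻¹' Z) ≤ q := by
  set qη := hV₀.primeIdealOf ⟨y₀, hy₀⟩ with hqη
  have hfη : hV₀.fromSpec qη = y₀ := hV₀.fromSpec_primeIdealOf _
  have hn : (nilradical Γ(Y, V₀)).IsPrime := hnil ▸ qη.2
  refine exists_fibDense_ringHom _
    ((HasRingHomProperty.iff_appLE (P := @LocallyOfFiniteType)).1 inferInstance ⟨V₀, hV₀⟩ ⟨W, hW⟩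
      e) hn _ ?_
  rintro c ⟨q, hq, hqn, hcq⟩
  have hxO : hW.fromSpec ⟨q, hq⟩ ∈ X.basicOpen c := (mem_basicOpen_iff hW c ⟨q, hq⟩).2 hcq
  have hxη : f (hW.fromSpec ⟨q, hq⟩) = y₀ := by
    refine (affine_dict f hV₀ hW e ⟨q, hq⟩).trans ?_
    refine Eq.trans ?_ hfη
    congr 1
    apply PrimeSpectrum.ext
    change q.comap _ = qη.asIdeal
    rw [hqn, hnil]
  obtain ⟨x', hx'O, hx'η, hx'Z⟩ := h (X.basicOpen c) ⟨_, hxO, hxη⟩
  have hx'W : x' ∈ W := X.basicOpen_le c hx'O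
  set q' := hW.primeIdealOf ⟨x', hx'W⟩ with hq'def
  have hq' : hW.fromSpec q' = x' := hW.fromSpec_primeIdealOf _
  refine ⟨q'.asIdeal, q'.2, ?_, ?_, ?_⟩
  · have h1 : hV₀.fromSpec (Spec.map (f.appLE V₀ W e) q') = hV₀.fromSpec qη :=
      (affine_dict f hV₀ hW e q').symm.trans ((congrArg f hq').trans (hx'η.trans hfη.symm))
    have h2 := hV₀.fromSpec.isOpenEmbedding.injective h1
    rw [hnil, ← h2]
    rfl
  · exact (mem_basicOpen_iff hW c q').1 (hq'.symm ▸ hx'O)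
  · intro hle
    exact hx'Z (hq' ▸ (mem_iff_vanishingIdeal_le hW Z hZ q').2 hle)

theorem exists_open_nd {X Y : Scheme.{u}} (f : X ⟶ Y) [IrreducibleSpace ↑Y]
    [LocallyOfFiniteType f] [QuasiCompact f] (Z : Set X) (hZ : IsClosed Z)
    (h : ND f Z (genericPoint Y)) :
    ∃ V : Y.Opens, (V : Set Y).Nonempty ∧ ∀ y ∈ V, ND f Z y := by
  classical
  obtain ⟨_, ⟨V₀, hV₀, rfl⟩, hη, -⟩ := Y.isBasis_affineOpens.exists_subset_of_mem_open
    (Set.mem_univ (genericPoint Y)) isOpen_univ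
  replace hV₀ : IsAffineOpen V₀ := hV₀
  replace hη : genericPoint Y ∈ V₀ := hη
  set qη := hV₀.primeIdealOf ⟨genericPoint Y, hη⟩ with hqη
  have hfη : hV₀.fromSpec qη = genericPoint Y := hV₀.fromSpec_primeIdealOf _
  have hmin : ∀ p : PrimeSpectrum Γ(Y, V₀), qη ≤ p := fun p => by
    rw [PrimeSpectrum.le_iff_specializes]
    apply (hV₀.fromSpec.isOpenEmbedding.toIsInducing.specializes_iff).1
    rw [hfη]; exact genericPoint_specializes _
  have hnil : nilradical Γ(Y, V₀) = qη.asIdeal := by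
    rw [nilradical_eq_sInf]
    exact le_antisymm (sInf_le qη.2) (le_sInf fun J hJ => hmin ⟨J, hJ⟩)
  have hn : (nilradical Γ(Y, V₀)).IsPrime := hnil ▸ qη.2
  have hc : IsCompact ((f ⁻¹ᵁ V₀ : X.Opens) : Set X) := f.isCompact_preimage hV₀.isCompact
  obtain ⟨s, hs, hsU⟩ := isCompact_iff_finite_and_eq_biUnion_affineOpens.1 hc
  have hle : ∀ W ∈ s, (W : X.Opens) ≤ f ⁻¹ᵁ V₀ := by
    intro W hW
    rw [hsU]
    exact le_iSup₂ (f := fun (i : X.affineOpens) (_ : i ∈ s) => (i : X.Opens)) W hW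
  have hWa : ∀ W : X.affineOpens, IsAffineOpen W.1 := fun W => W.2
  have key := fun (W : X.affineOpens) (hW : W ∈ s) =>
    key_affine f Z hZ hV₀ (genericPoint Y) hη hnil h (hWa W) (hle W hW)
  let a : X.affineOpens → Γ(Y, V₀) := fun W => if hW : W ∈ s then (key W hW).choose else 1
  have ha0 : ∀ W, a W ∉ nilradical Γ(Y, V₀) := by
    intro W
    by_cases hW : W ∈ s
    · simp only [a, dif_pos hW]; exact (key W hW).choose_spec.1
    · simp only [a, dif_neg hW]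
      exact fun h => hn.ne_top ((Ideal.eq_top_iff_one _).2 h)
  have haF : ∀ W, ∀ hW : W ∈ s, ∀ 𝔭 : Ideal Γ(Y, V₀), 𝔭.IsPrime → a W ∉ 𝔭 → ∀ c : Γ(X, W.1),
      (∃ q : Ideal Γ(X, W.1), q.IsPrime ∧ q.comap (f.appLE V₀ W.1 (hle W hW)).hom = 𝔭 ∧ c ∉ q) →
      ∃ q : Ideal Γ(X, W.1), q.IsPrime ∧ q.comap (f.appLE V₀ W.1 (hle W hW)).hom = 𝔭 ∧ c ∉ q ∧
        ¬ PrimeSpectrum.vanishingIdeal ((hWa W).fromSpec ⁻¹' Z) ≤ q := by
    intro W hW
    simp only [a, dif_pos hW]; exact (key W hW).choose_spec.2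
  let A : Γ(Y, V₀) := ∏ W ∈ hs.toFinset, a W
  have hA : A ∉ nilradical Γ(Y, V₀) := by
    intro hmem
    obtain ⟨W, -, hW⟩ := (hn.prod_mem_iff).1 hmem
    exact ha0 W hW
  refine ⟨Y.basicOpen A, ⟨genericPoint Y, ?_⟩, fun y hy => ?_⟩
  · rw [← hfη]
    change qη ∈ (hV₀.fromSpec ⁻¹ᵁ Y.basicOpen A)
    rw [hV₀.fromSpec_preimage_basicOpen]
    change A ∉ qη.asIdeal
    rw [← hnil]; exact hA
  · rintro O ⟨x, hxO, rfl⟩
    have hxV : x ∈ f ⁻¹ᵁ V₀ := Y.basicOpen_le A hy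
    rw [hsU] at hxV
    obtain ⟨W, hxW⟩ := Opens.mem_iSup.1 hxV
    obtain ⟨hW, hxW⟩ := Opens.mem_iSup.1 hxW
    have e := hle W hW
    set q := (hWa W).primeIdealOf ⟨x, hxW⟩ with hqdef
    have hq : (hWa W).fromSpec q = x := (hWa W).fromSpec_primeIdealOf _
    obtain ⟨c, hcO, hxc⟩ := (hWa W).exists_basicOpen_le (V := O) ⟨x, hxO⟩ hxW
    have hcq : c ∉ q.asIdeal := (mem_basicOpen_iff (hWa W) c q).1 (hq.symm ▸ hxc)
    have hfx : f x = hV₀.fromSpec (Spec.map (f.appLE V₀ W.1 e) q) :=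
      (congrArg f hq).symm.trans (affine_dict f hV₀ (hWa W) e q)
    have haq : a W ∉ q.asIdeal.comap (f.appLE V₀ W.1 e).hom := by
      intro hmem
      have h1 : (f.appLE V₀ W.1 e).hom A ∈ q.asIdeal := by
        have h2 : A = a W * ∏ W' ∈ hs.toFinset.erase W, a W' :=
          (Finset.mul_prod_erase _ _ (hs.mem_toFinset.2 hW)).symm
        rw [h2, map_mul]
        exact Ideal.mul_mem_right _ _ hmem
      have h2 : Spec.map (f.appLE V₀ W.1 e) q ∈ hV₀.fromSpec ⁻¹ᵁ Y.basicOpen A := by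
        change hV₀.fromSpec (Spec.map (f.appLE V₀ W.1 e) q) ∈ Y.basicOpen A
        rw [← hfx]; exact hy
      rw [hV₀.fromSpec_preimage_basicOpen] at h2
      exact h2 h1
    obtain ⟨q', hq', hq'c, hcq', hIq'⟩ := haF W hW _ (Ideal.comap_isPrime _ _) haq c
      ⟨q.asIdeal, q.2, rfl, hcq⟩
    refine ⟨(hWa W).fromSpec ⟨q', hq'⟩, hcO ?_, ?_, ?_⟩
    · exact (mem_basicOpen_iff (hWa W) c ⟨q', hq'⟩).2 hcq'
    · refine (affine_dict f hV₀ (hWa W) e ⟨q', hq'⟩).trans (Eq.trans ?_ hfx.symm)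
      congr 1
      apply PrimeSpectrum.ext
      exact hq'c
    · intro hmem
      exact hIq' ((mem_iff_vanishingIdeal_le (hWa W) Z hZ ⟨q', hq'⟩).1 hmem)

end Groth.Agent.Lib.Seat6.Nwd
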