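import Mathlib
import Groth.Agent.Lib.Helper3FibEtSch
import Groth.Agent.Lib.Seat6FibNzd
import Groth.Agent.Lib.Seat6NwdSch

/-!
# Scheme-theoretic density in fibres near the generic point (seat 6)
-/

set_option autoImplicit false
set_option linter.style.haveILetI false
universe u

open CategoryTheory CategoryTheory.Limits AlgebraicGeometry TensorProduct TopologicalSpace

namespace Groth.Agent.Lib.Seat6.FibDense

/-- `Spec` of an injective ring map is scheme-theoretically dominant. -/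
theorem isSchemeTheoreticallyDominant_specMap {A B : CommRingCat.{u}} (φ : A ⟶ B)
    (hφ : Function.Injective φ.hom) : IsSchemeTheoreticallyDominant (Spec.map φ) := by
  have hinj : Function.Injective (Spec.map φ).appTop.hom := by
    have h1 : (Spec.map φ).appTop = (Scheme.ΓSpecIso A).hom ≫ φ ≫ (Scheme.ΓSpecIso B).inv := by
      rw [Scheme.ΓSpecIso_inv_naturality, Iso.hom_inv_id_assoc]
    rw [h1]
    simp only [CommRingCat.hom_comp, RingHom.coe_comp]
    exact ((ConcreteCategory.bijective_of_isIso (Scheme.ΓSpecIso B).inv).1.comp hφ).comp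
      (ConcreteCategory.bijective_of_isIso (Scheme.ΓSpecIso A).hom).1
  refine ⟨Scheme.IdealSheafData.ext_of_isAffine ?_⟩
  rw [(Spec.map φ).ker_apply ⟨⊤, isAffineOpen_top _⟩]
  exact (RingHom.injective_iff_ker_eq_bot _).1 hinj

/-- Local criterion: an open `U'` of `F` is scheme-theoretically dense if `F` is covered by affine
charts `Spec (C i)` each containing a principal open `D(t i) ⊆ U'` with `t i` a nonzerodivisor. -/
theorem dominant_of_charts {F : Scheme.{u}} (U' : F.Opens) {ι : Type*} (C : ι → CommRingCat.{u})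
    (j : ∀ i, Spec (C i) ⟶ F) [hj : ∀ i, IsOpenImmersion (j i)]
    (hcov : ∀ w : F, ∃ i, w ∈ Set.range (j i))
    (t : ∀ i, C i) (ht : ∀ i, t i ∈ nonZeroDivisors (C i))
    (htU : ∀ i, ∀ pt : Spec (C i), t i ∉ pt.asIdeal → j i pt ∈ U') :
    IsSchemeTheoreticallyDominant U'.ι := by
  refine ⟨le_bot_iff.1 ?_⟩
  let O : ι → F.affineOpens := fun i => ⟨(j i).opensRange, isAffineOpen_opensRange (j i)⟩
  refine Scheme.IdealSheafData.le_of_iSup_eq_top O ?_ ?_
  · rw [eq_top_iff]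
    intro w _
    obtain ⟨i, hi⟩ := hcov w
    exact Opens.mem_iSup.2 ⟨i, hi⟩
  · intro i s hs
    have hs0 : U'.ι.app (O i).1 s = 0 := U'.ι.ideal_ker_le (O i) hs
    let loc : C i ⟶ CommRingCat.of (Localization.Away (t i)) :=
      CommRingCat.ofHom (algebraMap (C i) (Localization.Away (t i)))
    have hloc : Function.Injective loc.hom :=
      IsLocalization.injective (Localization.Away (t i))
        (Submonoid.powers_le.2 (ht i))
    haveI := isSchemeTheoreticallyDominant_specMap loc hloc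
    let k := Spec.map loc ≫ j i
    have hk : Set.range k ⊆ Set.range U'.ι := by
      rintro _ ⟨pt, rfl⟩
      rw [Scheme.Opens.range_ι]
      change j i (Spec.map loc pt) ∈ U'
      apply htU
      intro hmem
      have hu : IsUnit (algebraMap (C i) (Localization.Away (t i)) (t i)) :=
        IsLocalization.Away.algebraMap_isUnit (t i)
      exact pt.isPrime.ne_top (Ideal.eq_top_of_isUnit_mem _ hmem hu)
    let k' := IsOpenImmersion.lift U'.ι k hk
    have hk' : k' ≫ U'.ι = k := IsOpenImmersion.lift_fac _ _ hk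
    have h1' : (k' ≫ U'.ι).app (O i).1 s = 0 := by
      refine (ConcreteCategory.congr_hom (Scheme.Hom.comp_app k' U'.ι (O i).1) s).trans ?_
      refine (ConcreteCategory.comp_apply _ _ s).trans ?_
      rw [hs0, map_zero]
    have h1 : k.app (O i).1 s = 0 := by
      have aux : ∀ (k₂ : Spec (CommRingCat.of (Localization.Away (t i))) ⟶ F), k₂ = k →
          k₂.app (O i).1 s = 0 → k.app (O i).1 s = 0 := by
        rintro _ rfl h; exact h
      exact aux _ hk' h1'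
    have h2 : (Spec.map loc).app ((j i) ⁻¹ᵁ (O i).1) ((j i).app (O i).1 s) = 0 := by
      have e1 : k.app (O i).1 = (j i).app (O i).1 ≫ (Spec.map loc).app ((j i) ⁻¹ᵁ (O i).1) :=
        Scheme.Hom.comp_app _ _ _
      exact ((ConcreteCategory.comp_apply _ _ s).symm.trans
        (ConcreteCategory.congr_hom e1 s).symm).trans h1
    have h3 : (j i).app (O i).1 s = 0 :=
      (Spec.map loc).app_injective _ (h2.trans (map_zero _).symm)
    haveI : IsIso ((j i).app (O i).1) := Scheme.Hom.isIso_app (j i) _ le_rfl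
    have h4 : Function.Injective ((j i).app (O i).1) :=
      (ConcreteCategory.bijective_of_isIso ((j i).app (O i).1)).1
    have h5 : s = 0 := h4 (h3.trans (map_zero _).symm)
    rw [h5]
    exact Ideal.zero_mem _
    
theorem res_eq_zero {X : Scheme.{u}} (O : X.Opens) (r' : Γ(X, ⊤))
    (h : ∀ x ∈ O, X.presheaf.germ ⊤ x trivial r' = 0) :
    X.presheaf.map (homOfLE (le_top : O ≤ ⊤)).op r' = (0 : Γ(X, O)) := by
  refine TopCat.Presheaf.section_ext X.sheaf O _ 0 (fun x hx => ?_)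
  refine Eq.trans ?_ (map_zero _).symm
  exact (X.presheaf.germ_res_apply (homOfLE (le_top : O ≤ ⊤)) x hx r').trans (h x hx)

/-- Hypothesis direction: in a chart of `F`, an element locally killed (near each point of the
chart lying in the dense open `U'`) by a function invertible there is zero. -/
theorem eq_zero_of_dominant {F : Scheme.{u}} (U' : F.Opens) [QuasiCompact U'.ι]
    [IsSchemeTheoreticallyDominant U'.ι] (C : CommRingCat.{u}) (j : Spec C ⟶ F)
    [IsOpenImmersion j] (r : C)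
    (hr : ∀ pt : Spec C, j pt ∈ U' → ∃ t : C, t ∉ pt.asIdeal ∧ t * r = 0) : r = 0 := by
  let D' := j ⁻¹ᵁ U'
  have sq : IsPullback (j ∣_ U') D'.ι U'.ι j := isPullback_morphismRestrict j U'
  haveI : IsSchemeTheoreticallyDominant D'.ι := IsSchemeTheoreticallyDominant.of_isPullback sq
  haveI : QuasiCompact D'.ι :=
    MorphismProperty.of_isPullback (P := @QuasiCompact) sq inferInstance
  have hinj := D'.ι.app_injective ⊤
  let r' : Γ(Spec C, ⊤) := (Scheme.ΓSpecIso C).inv r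
  have hr' : D'.ι.app ⊤ r' = 0 := by
    refine res_eq_zero (D'.ι ''ᵁ D'.ι ⁻¹ᵁ ⊤) r' (fun x hx => ?_)
    obtain ⟨x', -, rfl⟩ := hx
    have hxU : j (D'.ι x') ∈ U' := x'.2
    obtain ⟨t, htx, htr⟩ := hr _ hxU
    have hunit : IsUnit ((Spec C).presheaf.germ ⊤ (D'.ι x') trivial ((Scheme.ΓSpecIso C).inv t)) := by
      rw [← Scheme.mem_basicOpen_top, basicOpen_eq_of_affine]
      exact htx
    have hmul : (Spec C).presheaf.germ ⊤ (D'.ι x') trivial ((Scheme.ΓSpecIso C).inv t) *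
        (Spec C).presheaf.germ ⊤ (D'.ι x') trivial r' = 0 := by
      rw [← map_mul, ← map_mul, htr, map_zero, map_zero]
    exact (hunit.mul_right_eq_zero).1 hmul
  have h0 : r' = 0 := hinj (hr'.trans (map_zero _).symm)
  have : (Scheme.ΓSpecIso C).hom r' = r := Iso.inv_hom_id_apply (Scheme.ΓSpecIso C) r
  rw [← this, h0, map_zero]

open Groth.Agent.Lib.Helper3.FibEtSch Groth.Agent.Lib.Seat6.Nwd in
/-- Fibre chart with its range: for affine opens `W ⊆ f⁻¹ V₀` and `y ∈ V₀`, the chart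
`Spec (Γ(X,W) ⊗ κ(p_y)) → X_y` is an open immersion onto the trace of `W` on the fibre. -/
theorem exists_fibre_chart_range {X Y : Scheme.{u}} (f : X ⟶ Y) {V₀ : Y.Opens}
    (hV₀ : IsAffineOpen V₀) {W : X.Opens} (hW : IsAffineOpen W) (e : W ≤ f ⁻¹ᵁ V₀)
    (y : Y) (hy : y ∈ V₀) :
    letI := (f.appLE V₀ W e).hom.toAlgebra
    ∃ j : Spec (.of (Γ(X, W) ⊗[Γ(Y, V₀)] (hV₀.primeIdealOf ⟨y, hy⟩).asIdeal.ResidueField)) ⟶
        f.fiber y,
      IsOpenImmersion j ∧
      (∀ pt, f.fiberι y (j pt) = hW.fromSpec (Spec.map (CommRingCat.ofHom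
        (algebraMap Γ(X, W)
          (Γ(X, W) ⊗[Γ(Y, V₀)] (hV₀.primeIdealOf ⟨y, hy⟩).asIdeal.ResidueField))) pt)) ∧
      (∀ w : f.fiber y, f.fiberι y w ∈ W → w ∈ Set.range j) := by
  letI := (f.appLE V₀ W e).hom.toAlgebra
  set p := hV₀.primeIdealOf ⟨y, hy⟩ with hp
  have hpy : hV₀.fromSpec p = y := hV₀.fromSpec_primeIdealOf _
  obtain ⟨θ, hθiso, hθ⟩ := exists_residueField_iso hV₀ p y hpy
  obtain ⟨j, hjo, hj1, -⟩ := exists_fibre_chart f hV₀ hW e p y θ hθ
  have hpt : ∀ pt, f.fiberι y (j pt) = hW.fromSpec (Spec.map (CommRingCat.ofHom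
      (algebraMap Γ(X, W) (Γ(X, W) ⊗[Γ(Y, V₀)] p.asIdeal.ResidueField))) pt) := by
    intro pt
    have := congr($(hj1) pt)
    simpa only [Scheme.Hom.comp_apply] using this
  refine ⟨j, hjo, hpt, ?_⟩
  intro w hw
  set x := f.fiberι y w with hx
  have hfx : f x = y := by
    have : x ∈ Set.range (f.fiberι y) := ⟨w, rfl⟩
    rw [f.range_fiberι] at this
    exact this
  set xW := hW.primeIdealOf ⟨x, hw⟩ with hxW
  have hxW' : hW.fromSpec xW = x := hW.fromSpec_primeIdealOf _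
  have hcomap : PrimeSpectrum.comap (algebraMap Γ(Y, V₀) Γ(X, W)) xW = p := by
    apply hV₀.fromSpec.isOpenEmbedding.injective
    rw [hpy, ← hfx, ← hxW']
    exact (affine_dict f hV₀ hW e xW).symm
  -- the point of the fibre ring
  let Q' := PrimeSpectrum.preimageEquivFiber Γ(Y, V₀) Γ(X, W) p ⟨xW, hcomap⟩
  have hQ' : Q'.comap Algebra.TensorProduct.includeRight.toRingHom = xW :=
    congrArg Subtype.val ((PrimeSpectrum.preimageEquivFiber Γ(Y, V₀) Γ(X, W) p).symm_apply_apply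
      ⟨xW, hcomap⟩)
  let cm : Γ(X, W) ⊗[Γ(Y, V₀)] p.asIdeal.ResidueField →+*
      p.asIdeal.ResidueField ⊗[Γ(Y, V₀)] Γ(X, W) :=
    (Algebra.TensorProduct.comm Γ(Y, V₀) Γ(X, W) p.asIdeal.ResidueField).toAlgHom.toRingHom
  let Q : PrimeSpectrum (Γ(X, W) ⊗[Γ(Y, V₀)] p.asIdeal.ResidueField) := Q'.comap cm
  have hQ : Q.comap (algebraMap Γ(X, W) (Γ(X, W) ⊗[Γ(Y, V₀)] p.asIdeal.ResidueField)) = xW := by
    rw [← hQ']
    change (Q'.comap cm).comap _ = _
    rw [← PrimeSpectrum.comap_comp_apply]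
    congr 1
  refine ⟨Q, ?_⟩
  apply (f.fiberι y).isEmbedding.injective
  rw [hpt]
  refine Eq.trans ?_ hxW'
  exact congrArg _ hQ

set_option backward.isDefEq.respectTransparency.types false in
theorem fiber_noetherianSpace {X Y : Scheme.{u}} (f : X ⟶ Y) [LocallyOfFiniteType f]
    [QuasiCompact f] (y : Y) : NoetherianSpace (f.fiber y) := by
  haveI h1 : LocallyOfFiniteType (f.fiberToSpecResidueField y) :=
    MorphismProperty.pullback_snd _ _ inferInstance
  let φ : f.fiber y ⟶ Spec (CommRingCat.of (IsLocalRing.ResidueField (Y.presheaf.stalk y))) :=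
    f.fiberToSpecResidueField y
  haveI : LocallyOfFiniteType φ := h1
  haveI : IsLocallyNoetherian (f.fiber y) := LocallyOfFiniteType.isLocallyNoetherian φ
  haveI : IsNoetherian (f.fiber y) := {}
  infer_instance

theorem quasiCompact_opens_ι {F : Scheme.{u}} [NoetherianSpace F] (U' : F.Opens) :
    QuasiCompact U'.ι := by
  haveI : NoetherianSpace U'.toScheme := inferInstanceAs (NoetherianSpace (U' : Set F))
  infer_instance

/-- swapping the tensor factors preserves nonzerodivisors. -/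
theorem nzd_comm_iff {A B κ : Type u} [CommRing A] [CommRing B] [Algebra A B] [CommRing κ]
    [Algebra A κ] (g : B) :
    (g ⊗ₜ[A] (1 : κ)) ∈ nonZeroDivisors (B ⊗[A] κ) ↔
      ((1 : κ) ⊗ₜ[A] g) ∈ nonZeroDivisors (κ ⊗[A] B) := by
  let c := Algebra.TensorProduct.comm A B κ
  have hc : c (g ⊗ₜ[A] (1 : κ)) = (1 : κ) ⊗ₜ[A] g := Algebra.TensorProduct.comm_tmul _ _ _
  constructor
  · intro h
    rw [mem_nonZeroDivisors_iff_right] at h ⊢
    intro y hy
    obtain ⟨t, rfl⟩ := c.surjective y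
    have : c (t * (g ⊗ₜ[A] (1 : κ))) = 0 := by rw [map_mul, hc]; exact hy
    have h2 : t * (g ⊗ₜ[A] (1 : κ)) = 0 := c.injective (this.trans (map_zero c).symm)
    rw [h _ h2, map_zero]
  · intro h
    rw [mem_nonZeroDivisors_iff_right] at h ⊢
    intro t ht
    have : c t * ((1 : κ) ⊗ₜ[A] g) = 0 := by rw [← hc, ← map_mul, ht, map_zero]
    exact c.injective ((h _ this).trans (map_zero c).symm)

open Groth.Agent.Lib.Seat6.Nwd Groth.Agent.Lib.Seat6.FibNzd in
theorem key_chart {X Y : Scheme.{u}} (f : X ⟶ Y) [LocallyOfFiniteType f] [QuasiCompact f]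
    (U : X.Opens) {V₀ : Y.Opens} (hV₀ : IsAffineOpen V₀) (η : Y) (hη : η ∈ V₀)
    (hnil : (hV₀.primeIdealOf ⟨η, hη⟩).asIdeal ≤ nilradical Γ(Y, V₀))
    (h : IsSchemeTheoreticallyDominant (f.fiberι η ⁻¹ᵁ U).ι)
    {W : X.Opens} (hW : IsAffineOpen W) (e : W ≤ f ⁻¹ᵁ V₀) :
    ∃ a : Γ(Y, V₀), a ∉ (hV₀.primeIdealOf ⟨η, hη⟩).asIdeal ∧
      (letI := (f.appLE V₀ W e).hom.toAlgebra
      ∃ g : Γ(X, W), X.basicOpen g ≤ U ∧
        ∀ (p : Ideal Γ(Y, V₀)) [p.IsPrime], a ∉ p →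
          (g ⊗ₜ[Γ(Y, V₀)] (1 : p.ResidueField)) ∈
            nonZeroDivisors (Γ(X, W) ⊗[Γ(Y, V₀)] p.ResidueField)) := by
  letI := (f.appLE V₀ W e).hom.toAlgebra
  haveI ft : Algebra.FiniteType Γ(Y, V₀) Γ(X, W) :=
    (HasRingHomProperty.iff_appLE (P := @LocallyOfFiniteType)).1 inferInstance ⟨V₀, hV₀⟩
      ⟨W, hW⟩ e
  set p₀ := hV₀.primeIdealOf ⟨η, hη⟩ with hp₀
  obtain ⟨j, hjo, hpt, -⟩ := exists_fibre_chart_range f hV₀ hW e η hη
  haveI := hjo
  haveI := fiber_noetherianSpace f η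
  haveI := quasiCompact_opens_ι (f.fiberι η ⁻¹ᵁ U)
  haveI := h
  let J : Ideal Γ(X, W) := PrimeSpectrum.vanishingIdeal (hW.fromSpec ⁻¹' ((U : Set X)ᶜ))
  have hUc : IsClosed ((U : Set X)ᶜ) := U.isOpen.isClosed_compl
  have hJ1 : ∀ q : Spec Γ(X, W), hW.fromSpec q ∈ U → ∃ b ∈ J, b ∉ q.asIdeal := by
    intro q hq
    by_contra hcon
    push Not at hcon
    have hle : J ≤ q.asIdeal := fun b hb => hcon b hb
    exact (mem_iff_vanishingIdeal_le hW _ hUc q).2 hle hq
  have hJ2 : ∀ b ∈ J, X.basicOpen b ≤ U := by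
    intro b hb x hx
    have hxW : x ∈ W := X.basicOpen_le b hx
    set q := hW.primeIdealOf ⟨x, hxW⟩ with hqdef
    have hq : hW.fromSpec q = x := hW.fromSpec_primeIdealOf _
    by_contra hxU
    have hbq : b ∈ q.asIdeal :=
      (mem_iff_vanishingIdeal_le hW _ hUc q).1 (by
        change hW.fromSpec q ∉ (U : Set X); rw [hq]; exact hxU) hb
    exact (mem_basicOpen_iff hW b q).1 (hq ▸ hx) hbq
  haveI : IsNoetherianRing (p₀.asIdeal.ResidueField ⊗[Γ(Y, V₀)] Γ(X, W)) :=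
    Algebra.FiniteType.isNoetherianRing p₀.asIdeal.ResidueField _
  haveI : IsNoetherianRing (Γ(X, W) ⊗[Γ(Y, V₀)] p₀.asIdeal.ResidueField) :=
    isNoetherianRing_of_ringEquiv (p₀.asIdeal.ResidueField ⊗[Γ(Y, V₀)] Γ(X, W))
      (Algebra.TensorProduct.comm Γ(Y, V₀) Γ(X, W) p₀.asIdeal.ResidueField).symm.toRingEquiv
  have hann : ∀ r : Γ(X, W) ⊗[Γ(Y, V₀)] p₀.asIdeal.ResidueField,
      (∀ b ∈ J, algebraMap Γ(X, W) (Γ(X, W) ⊗[Γ(Y, V₀)] p₀.asIdeal.ResidueField) b * r = 0) →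
        r = 0 := by
    intro r hr
    refine eq_zero_of_dominant (f.fiberι η ⁻¹ᵁ U)
      (.of (Γ(X, W) ⊗[Γ(Y, V₀)] p₀.asIdeal.ResidueField)) j r (fun pt hptU => ?_)
    have h1 : hW.fromSpec (Spec.map (CommRingCat.ofHom (algebraMap Γ(X, W)
        (Γ(X, W) ⊗[Γ(Y, V₀)] p₀.asIdeal.ResidueField))) pt) ∈ U := by
      rw [← hpt]; exact hptU
    obtain ⟨b, hbJ, hbq⟩ := hJ1 _ h1
    exact ⟨algebraMap _ _ b, hbq, hr b hbJ⟩
  obtain ⟨g, hgJ, hgnzd⟩ := exists_mem_nzd
    (algebraMap Γ(X, W) (Γ(X, W) ⊗[Γ(Y, V₀)] p₀.asIdeal.ResidueField)) J hann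
  have hg' : ((1 : p₀.asIdeal.ResidueField) ⊗ₜ[Γ(Y, V₀)] g) ∈
      nonZeroDivisors (p₀.asIdeal.ResidueField ⊗[Γ(Y, V₀)] Γ(X, W)) :=
    (nzd_comm_iff g).1 hgnzd
  obtain ⟨a, ha, hap⟩ := exists_nzd_fibres p₀.asIdeal hnil g hg'
  refine ⟨a, ha, g, hJ2 g hgJ, fun p _ hp => ?_⟩
  exact (nzd_comm_iff g).2 (hap p hp)

open Groth.Agent.Lib.Seat6.Nwd in
theorem main {X Y : Scheme.{u}} (f : X ⟶ Y) [IrreducibleSpace ↑Y] [LocallyOfFiniteType f]
    [QuasiCompact f] (U : X.Opens)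
    (h : IsSchemeTheoreticallyDominant (f.fiberι (genericPoint ↑Y) ⁻¹ᵁ U).ι) :
    ∃ V : Y.Opens, (V : Set ↑Y).Nonempty ∧
      ∀ y ∈ V, IsSchemeTheoreticallyDominant (f.fiberι y ⁻¹ᵁ U).ι := by
  classical
  obtain ⟨_, ⟨V₀, hV₀, rfl⟩, hη, -⟩ := Y.isBasis_affineOpens.exists_subset_of_mem_open
    (Set.mem_univ (genericPoint Y)) isOpen_univ
  replace hV₀ : IsAffineOpen V₀ := hV₀
  replace hη : genericPoint Y ∈ V₀ := hη
  set qη := hV₀.primeIdealOf ⟨genericPoint Y, hη⟩ with hqη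
  have hfη : hV₀.fromSpec qη = genericPoint Y := hV₀.fromSpec_primeIdealOf _
  have hmin : ∀ p : PrimeSpectrum Γ(Y, V₀), qη ≤ p := fun p => by
    rw [PrimeSpectrum.le_iff_specializes]
    apply (hV₀.fromSpec.isOpenEmbedding.toIsInducing.specializes_iff).1
    rw [hfη]; exact genericPoint_specializes _
  have hnil : nilradical Γ(Y, V₀) = qη.asIdeal := by
    rw [nilradical_eq_sInf]
    exact le_antisymm (sInf_le qη.2) (le_sInf fun J hJ => hmin ⟨J, hJ⟩)
  have hn : (nilradical Γ(Y, V₀)).IsPrime := hnil ▸ qη.2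
  have hc : IsCompact ((f ⁻¹ᵁ V₀ : X.Opens) : Set X) := f.isCompact_preimage hV₀.isCompact
  obtain ⟨s, hs, hsU⟩ := isCompact_iff_finite_and_eq_biUnion_affineOpens.1 hc
  have hle : ∀ W ∈ s, (W : X.Opens) ≤ f ⁻¹ᵁ V₀ := by
    intro W hW
    rw [hsU]
    exact le_iSup₂ (f := fun (i : X.affineOpens) (_ : i ∈ s) => (i : X.Opens)) W hW
  have hWa : ∀ W : X.affineOpens, IsAffineOpen W.1 := fun W => W.2
  have key := fun (W : X.affineOpens) (hW : W ∈ s) =>
    key_chart f U hV₀ (genericPoint Y) hη hnil.ge h (hWa W) (hle W hW)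
  let a : X.affineOpens → Γ(Y, V₀) := fun W => if hW : W ∈ s then (key W hW).choose else 1
  have ha0 : ∀ W, a W ∉ nilradical Γ(Y, V₀) := by
    intro W
    by_cases hW : W ∈ s
    · simp only [a, dif_pos hW]; rw [hnil]; exact (key W hW).choose_spec.1
    · simp only [a, dif_neg hW]
      exact fun h => hn.ne_top ((Ideal.eq_top_iff_one _).2 h)
  let A : Γ(Y, V₀) := ∏ W ∈ hs.toFinset, a W
  have hA : A ∉ nilradical Γ(Y, V₀) := by
    intro hmem
    obtain ⟨W, -, hW⟩ := (hn.prod_mem_iff).1 hmem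
    exact ha0 W hW
  refine ⟨Y.basicOpen A, ⟨genericPoint Y, ?_⟩, fun y hy => ?_⟩
  · rw [← hfη]
    change qη ∈ (hV₀.fromSpec ⁻¹ᵁ Y.basicOpen A)
    rw [hV₀.fromSpec_preimage_basicOpen]
    change A ∉ qη.asIdeal
    rw [← hnil]; exact hA
  · have hyV₀ : y ∈ V₀ := Y.basicOpen_le A hy
    set p := hV₀.primeIdealOf ⟨y, hyV₀⟩ with hpdef
    have hpy : hV₀.fromSpec p = y := hV₀.fromSpec_primeIdealOf _
    have hAp : A ∉ p.asIdeal := by
      have : p ∈ (hV₀.fromSpec ⁻¹ᵁ Y.basicOpen A) := by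
        change hV₀.fromSpec p ∈ Y.basicOpen A
        rw [hpy]; exact hy
      rw [hV₀.fromSpec_preimage_basicOpen] at this
      exact this
    have hap : ∀ W ∈ s, a W ∉ p.asIdeal := by
      intro W hW hmem
      apply hAp
      have h2 : A = a W * ∏ W' ∈ hs.toFinset.erase W, a W' :=
        (Finset.mul_prod_erase _ _ (hs.mem_toFinset.2 hW)).symm
      rw [h2]
      exact Ideal.mul_mem_right _ _ hmem
    have hex : ∀ w : f.fiber y, ∃ (C : CommRingCat.{u}) (j : Spec C ⟶ f.fiber y)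
        (_ : IsOpenImmersion j) (t : C), w ∈ Set.range j ∧ t ∈ nonZeroDivisors C ∧
        ∀ pt : Spec C, t ∉ pt.asIdeal → j pt ∈ (f.fiberι y ⁻¹ᵁ U) := by
      intro w
      have hfw : f (f.fiberι y w) = y := by
        have : f.fiberι y w ∈ Set.range (f.fiberι y) := ⟨w, rfl⟩
        rw [f.range_fiberι] at this
        exact this
      have hxV : f.fiberι y w ∈ f ⁻¹ᵁ V₀ := by
        change f (f.fiberι y w) ∈ V₀
        rw [hfw]; exact hyV₀
      rw [hsU] at hxV
      obtain ⟨W, hxW⟩ := Opens.mem_iSup.1 hxV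
      obtain ⟨hW, hxW⟩ := Opens.mem_iSup.1 hxW
      have e := hle W hW
      have haW : a W = (key W hW).choose := by simp only [a, dif_pos hW]
      letI := (f.appLE V₀ W.1 e).hom.toAlgebra
      obtain ⟨g, hgU, hgnzd⟩ := (key W hW).choose_spec.2
      obtain ⟨j, hjo, hpt, hrange⟩ := exists_fibre_chart_range f hV₀ (hWa W) e y hyV₀
      have hnz := hgnzd p.asIdeal (haW ▸ hap W hW)
      refine ⟨_, j, hjo, g ⊗ₜ[Γ(Y, V₀)] (1 : p.asIdeal.ResidueField), hrange w hxW, hnz, ?_⟩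
      intro pt hpt'
      change f.fiberι y (j pt) ∈ U
      rw [hpt]
      apply hgU
      rw [mem_basicOpen_iff (hWa W) g]
      exact hpt'
    choose C j hj t hw ht htU using hex
    exact dominant_of_charts (f.fiberι y ⁻¹ᵁ U) C j (fun w => ⟨w, hw w⟩) t ht htU

end Groth.Agent.Lib.Seat6.FibDense
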