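import Mathlib
import Groth.Prelude.Def_FlatCA
import Groth.Agent.Lib.Helper18Fitt11

/-!
# The zeroth Fitting ideal of `(R ⧸ 𝔟) × Y`

`Fit₀((R ⧸ 𝔟) × Y) = 𝔟 * Fit₀(Y)` for a finite module `Y`, and the comparison of
`FlatCA.fittingZero` with `Fitt.ideal _ _ 0`.
-/

set_option autoImplicit false
universe u

namespace Groth.Agent.Lib.Seat6.FittProd

open Groth.Agent.Helper18Fitt Matrix

theorem fittingZero_eq_fitt (R : Type u) [CommRing R] (M : Type u) [AddCommGroup M] [Module R M] :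
    FlatCA.fittingZero R M = Fitt.ideal R M 0 := by
  unfold FlatCA.fittingZero Fitt.ideal
  congr 1
  ext d
  constructor
  · rintro ⟨n, x, a, hx, ha, rfl⟩
    exact ⟨n, x, a, hx, fun i _ => ha i, rfl⟩
  · rintro ⟨n, x, a, hx, ha, rfl⟩
    exact ⟨n, x, a, hx, fun i => ha i (by simp), rfl⟩

variable {R : Type u} [CommRing R] (𝔟 : Ideal R) {Y : Type u} [AddCommGroup Y] [Module R Y]

/-- the generating family of `(R ⧸ 𝔟) × Y` built from one of `Y`. -/
def gens {n : ℕ} (y : Fin n → Y) : Fin (n + 1) → (R ⧸ 𝔟) × Y :=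
  Fin.cons ((1 : R ⧸ 𝔟), (0 : Y)) (fun i => ((0 : R ⧸ 𝔟), y i))

theorem span_gens {n : ℕ} (y : Fin n → Y) (hy : Submodule.span R (Set.range y) = ⊤) :
    Submodule.span R (Set.range (gens 𝔟 y)) = ⊤ := by
  rw [eq_top_iff]
  rintro ⟨a, b⟩ -
  have h1 : ((a, 0) : (R ⧸ 𝔟) × Y) ∈ Submodule.span R (Set.range (gens 𝔟 y)) := by
    obtain ⟨r, rfl⟩ := Ideal.Quotient.mk_surjective a
    have : ((Ideal.Quotient.mk 𝔟 r, 0) : (R ⧸ 𝔟) × Y) = r • gens 𝔟 y 0 := by
      simp [gens, Prod.smul_mk, Algebra.smul_def]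
    rw [this]
    exact Submodule.smul_mem _ _ (Submodule.subset_span ⟨0, rfl⟩)
  have h2 : (((0 : R ⧸ 𝔟), b) : (R ⧸ 𝔟) × Y) ∈ Submodule.span R (Set.range (gens 𝔟 y)) := by
    have hb : b ∈ Submodule.span R (Set.range y) := by rw [hy]; trivial
    refine Submodule.span_induction (p := fun b _ => (((0 : R ⧸ 𝔟), b) : (R ⧸ 𝔟) × Y) ∈
      Submodule.span R (Set.range (gens 𝔟 y))) ?_ ?_ ?_ ?_ hb
    · rintro _ ⟨i, rfl⟩
      exact Submodule.subset_span ⟨i.succ, by simp [gens]⟩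
    · exact Submodule.zero_mem _
    · intro u v _ _ hu hv
      have : (((0 : R ⧸ 𝔟), u + v) : (R ⧸ 𝔟) × Y) = (0, u) + (0, v) := by simp
      rw [this]
      exact Submodule.add_mem _ hu hv
    · intro r u _ hu
      have : (((0 : R ⧸ 𝔟), r • u) : (R ⧸ 𝔟) × Y) = r • (0, u) := by simp
      rw [this]
      exact Submodule.smul_mem _ _ hu
  have : ((a, b) : (R ⧸ 𝔟) × Y) = (a, 0) + (0, b) := by simp
  rw [this]
  exact Submodule.add_mem _ h1 h2

theorem sum_gens {n : ℕ} (y : Fin n → Y) (c : Fin (n + 1) → R) :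
    ∑ j, c j • gens 𝔟 y j = (Ideal.Quotient.mk 𝔟 (c 0), ∑ j : Fin n, c j.succ • y j) := by
  rw [Fin.sum_univ_succ]
  have h0 : c 0 • gens 𝔟 y 0 = (Ideal.Quotient.mk 𝔟 (c 0), (0 : Y)) := by
    simp [gens, Prod.smul_mk, Algebra.smul_def]
  have h1 : ∀ j : Fin n, c j.succ • gens 𝔟 y j.succ = ((0 : R ⧸ 𝔟), c j.succ • y j) := by
    intro j
    simp [gens, Prod.smul_mk]
  rw [h0]
  simp only [h1]
  have : ∑ j : Fin n, (((0 : R ⧸ 𝔟), c j.succ • y j) : (R ⧸ 𝔟) × Y) =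
      (0, ∑ j : Fin n, c j.succ • y j) := by
    rw [Prod.ext_iff]
    constructor
    · simp [Prod.fst_sum]
    · simp [Prod.snd_sum]
  rw [this]
  simp

theorem T_gens_le {n : ℕ} (y : Fin n → Y) :
    T (R := R) 0 (Fin (n + 1)) (gens 𝔟 y) ≤ 𝔟 * T (R := R) 0 (Fin n) y := by
  unfold T
  rw [Ideal.span_le]
  rintro d ⟨a, S, hS, h, rfl⟩
  have hS' : S = ∅ := Finset.card_eq_zero.mp (Nat.le_zero.mp hS)
  subst hS'
  have hrel : ∀ i, Ideal.Quotient.mk 𝔟 (a i 0) = 0 ∧ ∑ j : Fin n, a i j.succ • y j = 0 := by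
    intro i
    have := h i (Finset.notMem_empty i)
    rw [sum_gens 𝔟 y (a i), Prod.mk_eq_zero] at this
    exact this
  rw [SetLike.mem_coe, Matrix.det_succ_column_zero]
  refine Ideal.sum_mem _ fun i _ => ?_
  have h1 : a i 0 ∈ 𝔟 := Ideal.Quotient.eq_zero_iff_mem.1 (hrel i).1
  have h2 : (a.submatrix i.succAbove Fin.succ).det ∈ T (R := R) 0 (Fin n) y := by
    refine mem_T_of _ ∅ (by simp) ?_
    intro i' _
    simp only [Matrix.submatrix_apply]
    exact (hrel (i.succAbove i')).2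
  rw [mul_assoc]
  exact Ideal.mul_mem_left _ _ (Ideal.mul_mem_mul h1 h2)

theorem le_T_gens {n : ℕ} (y : Fin n → Y) :
    𝔟 * T (R := R) 0 (Fin n) y ≤ T (R := R) 0 (Fin (n + 1)) (gens 𝔟 y) := by
  rw [Ideal.mul_le]
  intro β hβ d hd
  unfold T at hd
  refine Submodule.span_induction (p := fun d _ => β * d ∈ T (R := R) 0 (Fin (n + 1)) (gens 𝔟 y))
    ?_ ?_ ?_ ?_ hd
  · rintro _ ⟨a, S, hS, h, rfl⟩
    have hS' : S = ∅ := Finset.card_eq_zero.mp (Nat.le_zero.mp hS)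
    subst hS'
    set A : Matrix (Fin (n + 1)) (Fin (n + 1)) R :=
      Matrix.of (Fin.cons (Fin.cons β 0) (fun i => Fin.cons 0 (a i))) with hA
    have hdet : A.det = β * a.det := by
      rw [Matrix.det_succ_row_zero, Finset.sum_eq_single 0]
      · have : A.submatrix Fin.succ Fin.succ = a := by
          ext i j
          simp [hA]
        rw [Fin.succAbove_zero, this]
        simp [hA]
      · intro j _ hj
        obtain ⟨j', rfl⟩ := Fin.exists_succ_eq_of_ne_zero hj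
        simp [hA]
      · simp
    rw [← hdet]
    refine mem_T_of A ∅ (by simp) ?_
    intro i _
    rw [sum_gens 𝔟 y (A i)]
    refine Fin.cases ?_ (fun i' => ?_) i
    · simp [hA, Ideal.Quotient.eq_zero_iff_mem.2 hβ]
    · have := h i' (Finset.notMem_empty i')
      simp [hA, this]
  · simp
  · intro u v _ _ hu hv
    rw [mul_add]
    exact Ideal.add_mem _ hu hv
  · intro r u _ hu
    rw [smul_eq_mul, mul_left_comm]
    exact Ideal.mul_mem_left _ _ hu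

/-- `Fit₀((R ⧸ 𝔟) × Y) = 𝔟 * Fit₀(Y)`. -/
theorem fitt_zero_prod [Module.Finite R Y] :
    Fitt.ideal R ((R ⧸ 𝔟) × Y) 0 = 𝔟 * Fitt.ideal R Y 0 := by
  obtain ⟨n, y, hy⟩ := Module.Finite.exists_fin (R := R) (M := Y)
  rw [fitt_eq_T (gens 𝔟 y) (span_gens 𝔟 y hy) 0, fitt_eq_T y hy 0]
  exact le_antisymm (T_gens_le 𝔟 y) (le_T_gens 𝔟 y)

end Groth.Agent.Lib.Seat6.FittProd
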