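import Mathlib
import Groth.Prelude.Def_FlatCA
import Groth.Agent.Lib.Seat6FittProd
import Groth.Agent.Lib.Seat6EtaleSplit
import Groth.Agent.Lib.Helper18Fitt11

/-!
# Fitting ideal of `C ⧸ J` over `A`, extended to an étale localisation `C_h`

For `A → C` finite projective, `h : C` with `C_h` étale over `A` and `J` an ideal of `C`:
`Fit₀_A(C ⧸ J) · C_h = J C_h · J'` for some ideal `J'` of `C_h`.
-/

set_option autoImplicit false
set_option linter.style.haveILetI false
universe u

namespace Groth.Agent.Lib.Seat6.FittEtale

open TensorProduct Groth.Agent.Helper18Fitt Groth.Agent.Lib.Seat6.EtaleSplit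
  Groth.Agent.Lib.Seat6.FittProd

variable {A C : Type u} [CommRing A] [CommRing C] [Algebra A C] (h : C) (J : Ideal C)

/-- the complementary module `Y = P ⧸ (J P + (1 - e))`. -/
abbrev Y (e : (Localization.Away h) ⊗[A] C) : Type u :=
  ((Localization.Away h) ⊗[A] C) ⧸ (JP (A := A) h J ⊔ Ideal.span {1 - e})

/-- `C_h ⊗[A] (C ⧸ J) ≃ (C_h ⧸ J C_h) × Y`. -/
noncomputable def splitEquiv (e : (Localization.Away h) ⊗[A] C) (he : IsIdempotentElem e)
    (hker : RingHom.ker (μ (A := A) h) = Ideal.span {e}) :
    ((Localization.Away h) ⊗[A] (C ⧸ J)) ≃ₗ[Localization.Away h]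
      ((Localization.Away h) ⧸ J.map (algebraMap C (Localization.Away h))) × Y (A := A) h J e :=
  (Algebra.TensorProduct.tensorQuotientEquiv (R := A) (Localization.Away h) C
      (Localization.Away h) J).toLinearEquiv ≪≫ₗ
    (Submodule.Quotient.restrictScalarsEquiv (Localization.Away h) (JP (A := A) h J)).symm ≪≫ₗ
    (Submodule.quotEquivOfEq _ _ (ker_decompMap (A := A) J e he hker)).symm ≪≫ₗ
    (decompMap (A := A) J e).quotKerEquivOfSurjective (decompMap_surjective (A := A) J e hker)

theorem fitt_map_eq (e : (Localization.Away h) ⊗[A] C) (he : IsIdempotentElem e)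
    (hker : RingHom.ker (μ (A := A) h) = Ideal.span {e}) [Module.Finite A C] :
    (Fitt.ideal A (C ⧸ J) 0).map (algebraMap A (Localization.Away h)) =
      J.map (algebraMap C (Localization.Away h)) *
        Fitt.ideal (Localization.Away h) (Y (A := A) h J e) 0 := by
  haveI : Module.Finite A (C ⧸ J) := Module.Finite.quotient A J
  haveI : Module.Finite (Localization.Away h) (Y (A := A) h J e) :=
    Module.Finite.of_surjective
      (Ideal.Quotient.mkₐ (Localization.Away h)
        (JP (A := A) h J ⊔ Ideal.span {1 - e})).toLinearMap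
      Ideal.Quotient.mk_surjective
  rw [← fitt_baseChange (R' := Localization.Away h) (M := C ⧸ J) 0,
    fitt_congr (splitEquiv (A := A) h J e he hker) 0, fitt_zero_prod]

theorem fg_of_fg [Module.Finite A C] [Module.Projective A C]
    (e : (Localization.Away h) ⊗[A] C) (hJ : J.FG) :
    (Fitt.ideal A (C ⧸ J) 0).FG ∧ (Fitt.ideal (Localization.Away h) (Y (A := A) h J e) 0).FG := by
  haveI : Module.FinitePresentation A C := Module.finitePresentation_of_projective A C
  constructor
  · haveI : Module.Finite A (C ⧸ J) := Module.Finite.quotient A J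
    apply fitt_fg_of_fp
    refine Module.finitePresentation_of_surjective (Ideal.Quotient.mkₐ A J).toLinearMap
      Ideal.Quotient.mk_surjective ?_
    have : LinearMap.ker (Ideal.Quotient.mkₐ A J).toLinearMap = J.restrictScalars A := by
      ext x
      simp [Ideal.Quotient.eq_zero_iff_mem]
    rw [this]
    exact Submodule.FG.restrictScalars hJ
  · haveI : Module.Finite (Localization.Away h) (Y (A := A) h J e) :=
      Module.Finite.of_surjective
        (Ideal.Quotient.mkₐ (Localization.Away h)
          (JP (A := A) h J ⊔ Ideal.span {1 - e})).toLinearMap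
        Ideal.Quotient.mk_surjective
    apply fitt_fg_of_fp
    refine Module.finitePresentation_of_surjective
      (Ideal.Quotient.mkₐ (Localization.Away h)
          (JP (A := A) h J ⊔ Ideal.span {1 - e})).toLinearMap
      Ideal.Quotient.mk_surjective ?_
    have : LinearMap.ker (Ideal.Quotient.mkₐ (Localization.Away h)
          (JP (A := A) h J ⊔ Ideal.span {1 - e})).toLinearMap =
        (JP (A := A) h J ⊔ Ideal.span {1 - e}).restrictScalars (Localization.Away h) := by
      ext x
      rw [LinearMap.mem_ker, Submodule.restrictScalars_mem]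
      exact Ideal.Quotient.eq_zero_iff_mem
    rw [this]
    apply Submodule.FG.restrictScalars
    exact Submodule.FG.sup (hJ.map _) ⟨{1 - e}, by simp⟩

/-- Main theorem. -/
theorem main [Module.Finite A C] [Module.Projective A C]
    [Algebra.Etale A (Localization.Away h)] :
    ∃ J' : Ideal (Localization.Away h),
      (FlatCA.fittingZero A (C ⧸ J)).map (algebraMap A (Localization.Away h)) =
        J.map (algebraMap C (Localization.Away h)) * J' ∧
      (J.FG → (FlatCA.fittingZero A (C ⧸ J)).FG ∧ J'.FG) := by
  obtain ⟨e, he, hker⟩ := exists_idempotent_ker_μ (A := A) h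
  refine ⟨Fitt.ideal (Localization.Away h) (Y (A := A) h J e) 0, ?_, ?_⟩
  · rw [fittingZero_eq_fitt]
    exact fitt_map_eq (A := A) h J e he hker
  · intro hJ
    rw [fittingZero_eq_fitt]
    exact fg_of_fg (A := A) h J e hJ

end Groth.Agent.Lib.Seat6.FittEtale
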