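import Mathlib
import Groth.Prelude.Def_FlatCA
import Groth.Agent.Lib.Seat6FittEtale

/-!
# Étale-local factorisation `I B_g = J B_g · J'`

For `A → B` étale, `J ⊆ B` finitely generated with `a ∈ √J`, and a prime `q` of `B`, there are a
finitely generated ideal `I ⊆ A` with `a ∈ √I`, `g ∉ q` and a finitely generated `J' ⊆ B_g` with
`I B_g = J B_g · J'`.
-/

set_option autoImplicit false
set_option linter.style.haveILetI false
universe u

namespace Groth.Agent.Lib.Seat6.FittEtaleLocal

open Groth.Agent.Lib.Seat6.FittProd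

/-- If `r` kills `M` and `M` is generated by `n` elements then `r ^ n ∈ Fit₀(M)`. -/
theorem pow_mem_fitt_zero {R : Type u} [CommRing R] {M : Type u} [AddCommGroup M] [Module R M]
    {n : ℕ} (x : Fin n → M) (hx : Submodule.span R (Set.range x) = ⊤) (r : R)
    (hr : ∀ m : M, r • m = 0) : r ^ n ∈ Fitt.ideal R M 0 := by
  classical
  unfold Fitt.ideal
  apply Ideal.subset_span
  refine ⟨n, x, r • (1 : Matrix (Fin n) (Fin n) R), hx, fun i _ => ?_, ?_⟩
  · have : ∀ j, (r • (1 : Matrix (Fin n) (Fin n) R)) i j • x j = if i = j then r • x j else 0 := by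
      intro j
      by_cases hij : i = j
      · simp [hij]
      · simp [hij]
    simp only [this]
    simp [hr]
  · rw [Matrix.det_smul, Matrix.det_one, mul_one, Fintype.card_fin]

theorem mem_radical_fittingZero {R : Type u} [CommRing R] {M : Type u} [AddCommGroup M]
    [Module R M] [Module.Finite R M] (r : R) (hr : ∀ m : M, r • m = 0) :
    r ∈ (FlatCA.fittingZero R M).radical := by
  obtain ⟨n, x, hx⟩ := Module.Finite.exists_fin (R := R) (M := M)
  rw [fittingZero_eq_fitt]
  exact ⟨n, pow_mem_fitt_zero x hx r hr⟩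

/-- A finitely generated ideal of a localisation is the extension of a finitely generated ideal,
which may be chosen to contain a prescribed element. -/
theorem exists_fg_map_eq {C : Type u} [CommRing C] (M : Submonoid C) (S : Type u) [CommRing S]
    [Algebra C S] [IsLocalization M S] (K : Ideal S) (hK : K.FG) (t : C)
    (ht : algebraMap C S t ∈ K) :
    ∃ J : Ideal C, J.FG ∧ J.map (algebraMap C S) = K ∧ t ∈ J := by
  classical
  obtain ⟨s, rfl⟩ := hK
  choose c hc using fun x : S => IsLocalization.surj M x
  refine ⟨Ideal.span ((s.image fun x => (c x).1) ∪ {t} : Finset C), ⟨_, rfl⟩, ?_, ?_⟩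
  · rw [Ideal.map_span]
    apply le_antisymm
    · rw [Ideal.span_le]
      rintro _ ⟨y, hy, rfl⟩
      simp only [Finset.coe_union, Finset.coe_image, Finset.coe_singleton, Set.union_singleton,
        Set.mem_insert_iff, Set.mem_image, Finset.mem_coe] at hy
      rcases hy with rfl | ⟨x, hx, rfl⟩
      · exact ht
      · rw [← hc x]
        exact Ideal.mul_mem_right _ _ (Ideal.subset_span hx)
    · rw [Ideal.span_le]
      intro x hx
      have hu : IsUnit (algebraMap C S (c x).2) := IsLocalization.map_units S (c x).2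
      obtain ⟨u, hu⟩ := hu
      have h1 : x = algebraMap C S (c x).1 * ↑u⁻¹ := by
        rw [← hc x, ← hu, mul_assoc, Units.mul_inv, mul_one]
      rw [SetLike.mem_coe, h1]
      apply Ideal.mul_mem_right
      apply Ideal.subset_span
      refine ⟨(c x).1, ?_, rfl⟩
      simp only [Finset.coe_union, Finset.coe_image, Finset.coe_singleton, Set.union_singleton,
        Set.mem_insert_iff, Set.mem_image, Finset.mem_coe]
      exact Or.inr ⟨x, hx, rfl⟩
  · apply Ideal.subset_span
    simp

/-- Transport of the factorisation along an `A`-algebra isomorphism. -/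
theorem transport {A S S' : Type u} [CommRing A] [CommRing S] [CommRing S'] [Algebra A S]
    [Algebra A S'] (e : S ≃ₐ[A] S') (I : Ideal A) (K : Ideal S) (J' : Ideal S')
    (hEq : I.map (algebraMap A S') = K.map (e : S →+* S') * J') :
    I.map (algebraMap A S) = K * J'.map (e.symm : S' →+* S) := by
  have h1 : I.map (algebraMap A S) = (I.map (algebraMap A S')).map (e.symm : S' →+* S) := by
    rw [Ideal.map_map]
    congr 1
    ext x
    simp
  have h2 : (K.map (e : S →+* S')).map (e.symm : S' →+* S) = K := by
    rw [Ideal.map_map]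
    have : ((e.symm : S' →+* S).comp (e : S →+* S')) = RingHom.id S := by
      ext x
      simp
    rw [this, Ideal.map_id]
  rw [h1, hEq, Ideal.map_mul, h2]

/-- Main theorem. -/
theorem main {A B : Type u} [CommRing A] [CommRing B] [Algebra A B] [Algebra.Etale A B]
    (a : A) (J : Ideal B) (hJ : J.FG) (hJa : algebraMap A B a ∈ J.radical)
    (q : Ideal B) [q.IsPrime] :
    ∃ (I : Ideal A) (g : B) (J' : Ideal (Localization.Away g)), I.FG ∧ a ∈ I.radical ∧ g ∉ q ∧
      J'.FG ∧ I.map (algebraMap A (Localization.Away g)) =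
        J.map (algebraMap B (Localization.Away g)) * J' := by
  obtain ⟨g, hgq, hstd⟩ := Algebra.IsEtaleAt.exists_isStandardEtale (R := A) q
  let P : StandardEtalePresentation A (Localization.Away g) :=
    hstd.nonempty_standardEtalePresentation.some
  let h : AdjoinRoot P.f := AdjoinRoot.mk P.f P.g
  let e : Localization.Away g ≃ₐ[A] Localization.Away h :=
    P.equivRing.trans P.P.equivAwayAdjoinRoot
  haveI : Algebra.Etale A (Localization.Away h) := Algebra.Etale.of_equiv e
  haveI : Module.Finite A (AdjoinRoot P.f) := P.monic_f.finite_adjoinRoot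
  haveI : Module.Free A (AdjoinRoot P.f) := P.monic_f.free_adjoinRoot
  obtain ⟨N, hN⟩ := hJa
  set K : Ideal (Localization.Away h) :=
    (J.map (algebraMap B (Localization.Away g))).map (e : Localization.Away g →+* Localization.Away h)
    with hK
  have hKfg : K.FG := (hJ.map _).map _
  have hmemK : algebraMap (AdjoinRoot P.f) (Localization.Away h)
      (algebraMap A (AdjoinRoot P.f) (a ^ N)) ∈ K := by
    have h1 : algebraMap (AdjoinRoot P.f) (Localization.Away h)
        (algebraMap A (AdjoinRoot P.f) (a ^ N)) =
        (e : Localization.Away g →+* Localization.Away h)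
          (algebraMap B (Localization.Away g) ((algebraMap A B a) ^ N)) := by
      rw [← IsScalarTower.algebraMap_apply, ← map_pow, ← IsScalarTower.algebraMap_apply]
      simp
    rw [h1]
    exact Ideal.mem_map_of_mem _ (Ideal.mem_map_of_mem _ hN)
  obtain ⟨JC, hJCfg, hJCmap, hmem⟩ := exists_fg_map_eq (Submonoid.powers h) (Localization.Away h)
    K hKfg _ hmemK
  obtain ⟨J', hEq, hFG⟩ := Groth.Agent.Lib.Seat6.FittEtale.main (A := A) h JC
  obtain ⟨hIfg, hJ'fg⟩ := hFG hJCfg
  refine ⟨FlatCA.fittingZero A (AdjoinRoot P.f ⧸ JC), g,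
    J'.map (e.symm : Localization.Away h →+* Localization.Away g), hIfg, ?_, hgq, hJ'fg.map _, ?_⟩
  · haveI : Module.Finite A (AdjoinRoot P.f ⧸ JC) := Module.Finite.quotient A JC
    have h1 : a ^ N ∈ (FlatCA.fittingZero A (AdjoinRoot P.f ⧸ JC)).radical := by
      apply mem_radical_fittingZero
      intro m
      obtain ⟨c, rfl⟩ := Ideal.Quotient.mk_surjective m
      rw [Algebra.smul_def, ← Ideal.Quotient.mk_algebraMap, ← map_mul]
      exact Ideal.Quotient.eq_zero_iff_mem.2 (Ideal.mul_mem_right _ _ hmem)
    exact Ideal.radical_isRadical _ ⟨N, h1⟩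
  · apply transport e
    rw [hEq, hJCmap]

end Groth.Agent.Lib.Seat6.FittEtaleLocal
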