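import Mathlib
import Groth.Prelude.Def_Mor2

/-!
# A regular closed immersion into an affine open, from a regular sequence (seat 6)
-/

set_option autoImplicit false
set_option linter.style.haveILetI false
universe u

namespace Groth.Agent.Lib.Seat6.RegImmAff

open AlgebraicGeometry CategoryTheory

theorem specializes_eq_of_isClosed_asFiber {X S : Scheme.{u}} (f : X ⟶ S) (x : X)
    (hcl : IsClosed ({f.asFiber x} : Set ↑(f.fiber (f x)))) :
    ∀ x' : X, f x' = f x → x ⤳ x' → x' = x := by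
  intro x' hx' hsp
  have h1 : IsClosed ({(⟨x, rfl⟩ : f ⁻¹' {f x})} : Set (f ⁻¹' {f x})) := by
    have := (f.fiberHomeo (f x)).isClosed_image.2 hcl
    rwa [Set.image_singleton, Scheme.Hom.asFiber, Homeomorph.apply_symm_apply] at this
  have h2 : (⟨x, rfl⟩ : f ⁻¹' {f x}) ⤳ ⟨x', hx'⟩ := (subtype_specializes_iff _ _).2 hsp
  have h3 := h2.mem_closed h1 (Set.mem_singleton _)
  exact congrArg Subtype.val (Set.mem_singleton_iff.1 h3)

theorem isRegularClosedImmersion_of_affine {X : Scheme.{u}} (V : X.Opens) (hV : IsAffineOpen V)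
    (rsT : List Γ(X, V)) (hreg : RingTheory.Sequence.IsRegular Γ(X, V) rsT) (I : Ideal Γ(X, V))
    (hI : I = Ideal.ofList rsT) :
    Mor2.IsRegularClosedImmersion
      (Spec.map (CommRingCat.ofHom (Ideal.Quotient.mk I)) ≫ hV.isoSpec.inv) := by
  haveI : IsAffine ↑V := hV
  refine ⟨inferInstance, fun z => ?_⟩
  refine ⟨⊤, isAffineOpen_top _, trivial, ?_⟩
  haveI : IsIso hV.isoSpec.inv.appTop := by
    change IsIso (Scheme.Γ.map hV.isoSpec.inv.op)
    infer_instance
  let εc : Γ(↑V, ⊤) ≅ Γ(X, V) := asIso (hV.isoSpec.inv.appTop) ≪≫ Scheme.ΓSpecIso Γ(X, V)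
  let ε : Γ(↑V, ⊤) ≃+* Γ(X, V) := εc.commRingCatIsoToRingEquiv
  refine ⟨rsT.map ε.symm, ?_, ?_⟩
  · refine (AddEquiv.isRegular_congr (e := ε.symm.toAddEquiv) ?_).1 hreg
    rw [List.forall₂_map_right_iff, List.forall₂_same]
    intro r _ y
    exact map_mul ε.symm r y
  · have h1 : Ideal.ofList (rsT.map ε.symm) = I.map (ε.symm : Γ(X, V) →+* Γ(↑V, ⊤)) := by
      rw [hI, Ideal.map_ofList]; rfl
    rw [Scheme.Hom.ker_apply, h1, Ideal.map_comap_of_equiv, RingEquiv.symm_symm]
    have hnat : (Spec.map (CommRingCat.ofHom (Ideal.Quotient.mk I)) ≫ hV.isoSpec.inv).appTop ≫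
        (Scheme.ΓSpecIso (CommRingCat.of (Γ(X, V) ⧸ I))).hom =
        εc.hom ≫ CommRingCat.ofHom (Ideal.Quotient.mk I) := by
      rw [Scheme.Hom.comp_appTop, Category.assoc, Scheme.ΓSpecIso_naturality]
      rfl
    ext a
    rw [RingHom.mem_ker, Ideal.mem_comap, ← Ideal.Quotient.eq_zero_iff_mem]
    have h2 : (Scheme.ΓSpecIso (CommRingCat.of (Γ(X, V) ⧸ I))).hom
        ((Spec.map (CommRingCat.ofHom (Ideal.Quotient.mk I)) ≫ hV.isoSpec.inv).appTop a) =
        Ideal.Quotient.mk I (ε a) := by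
      have := congrArg (fun φ => φ.hom a) hnat
      exact this
    change (Spec.map (CommRingCat.ofHom (Ideal.Quotient.mk I)) ≫ hV.isoSpec.inv).appTop a = 0 ↔ _
    rw [← h2]
    constructor
    · intro h; rw [h, map_zero]
    · intro h
      have hinj : Function.Injective (Scheme.ΓSpecIso (CommRingCat.of (Γ(X, V) ⧸ I))).hom :=
        (ConcreteCategory.bijective_of_isIso _).1
      exact hinj (h.trans (map_zero _).symm)

end Groth.Agent.Lib.Seat6.RegImmAff
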