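import Mathlib

/-!
# Quasi-finiteness at an isolated point of a fibre, and shrinking (seat 6)

* `quasiFiniteAt_of_isolated`: a prime of a finite type algebra which is both maximal and minimal
  among the primes of its fibre is a quasi-finite point.
* `exists_shrink`: around a quasi-finite point of a finite type algebra, all sufficiently small
  localizations are quasi-finite and have only that point in the fibre.
-/

set_option autoImplicit false
set_option linter.style.haveILetI false
universe u

namespace Groth.Agent.Lib.Seat6.QFShrink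

theorem quasiFiniteAt_of_isolated {R Q : Type u} [CommRing R] [CommRing Q] [Algebra R Q]
    [Algebra.FiniteType R Q] (y : PrimeSpectrum Q)
    (hup : ∀ y' : PrimeSpectrum Q,
      y'.comap (algebraMap R Q) = y.comap (algebraMap R Q) → y ≤ y' → y' = y)
    (hdown : ∀ y' : PrimeSpectrum Q,
      y'.comap (algebraMap R Q) = y.comap (algebraMap R Q) → y' ≤ y → y' = y) :
    Algebra.QuasiFiniteAt R y.asIdeal := by
  apply Algebra.QuasiFiniteAt.of_isOpen_singleton_fiber y
  set p := y.comap (algebraMap R Q) with hp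
  let e := PrimeSpectrum.preimageHomeomorphFiber R Q p
  rw [← e.isOpen_image, Set.image_singleton]
  haveI : IsNoetherianRing (p.asIdeal.Fiber Q) :=
    Algebra.FiniteType.isNoetherianRing p.asIdeal.ResidueField _
  haveI : IsJacobsonRing (p.asIdeal.Fiber Q) :=
    isJacobsonRing_of_finiteType (A := p.asIdeal.ResidueField)
  have key : IsOpen {e ⟨y, rfl⟩} ↔
      IsClosed {e ⟨y, rfl⟩} ∧ StableUnderGeneralization {e ⟨y, rfl⟩} :=
    (PrimeSpectrum.isOpen_singleton_tfae_of_isNoetherian_of_isJacobsonRing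
      (e ⟨y, rfl⟩)).out 0 2
  refine key.2 ⟨?_, ?_⟩
  · rw [← Set.image_singleton, e.isClosed_image]
    rw [← closure_subset_iff_isClosed]
    intro z hz
    rw [← specializes_iff_mem_closure, subtype_specializes_iff,
      ← PrimeSpectrum.le_iff_specializes] at hz
    exact Subtype.ext (hup z.1 z.2 hz)
  · intro a b hba ha
    rw [Set.mem_singleton_iff] at ha ⊢
    subst ha
    have h1 : e.symm b ⤳ e.symm (e ⟨y, rfl⟩) := hba.map e.symm.continuous
    rw [e.symm_apply_apply, subtype_specializes_iff, ← PrimeSpectrum.le_iff_specializes] at h1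
    have h2 : e.symm b = ⟨y, rfl⟩ := Subtype.ext (hdown (e.symm b).1 (e.symm b).2 h1)
    rw [← h2, e.apply_symm_apply]

theorem exists_shrink {R Bb : Type u} [CommRing R] [CommRing Bb] [Algebra R Bb]
    [Algebra.FiniteType R Bb] (p : Ideal R) [p.IsPrime] (qb : Ideal Bb) [qb.IsPrime]
    (hqp : qb.comap (algebraMap R Bb) = p) [Algebra.QuasiFiniteAt R qb] :
    ∃ b : Bb, b ∉ qb ∧ ∀ (M : Submonoid Bb), (∃ c ∈ M, b ∣ c) →
      ∀ (Q : Type u) [CommRing Q] [Algebra Bb Q] [Algebra R Q] [IsScalarTower R Bb Q]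
        [IsLocalization M Q],
        Algebra.QuasiFinite R Q ∧ ∀ (P : Ideal Q), P.IsPrime →
          P.comap (algebraMap R Q) = p → P.comap (algebraMap Bb Q) = qb := by
  classical
  obtain ⟨S', hS', r, hrq, hbij⟩ :=
    Algebra.QuasiFiniteAt.exists_fg_and_exists_notMem_and_awayMap_bijective (R := R) qb
  haveI : Module.Finite R S' := ⟨(Submodule.fg_top _).mpr hS'⟩
  haveI : Algebra.QuasiFinite R (Localization.Away r) := .trans _ S' _
  haveI hQF1 : Algebra.QuasiFinite R (Localization.Away r.1) :=
    .of_surjective_algHom (Localization.awayMapₐ S'.val r) hbij.2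
  haveI : qb.LiesOver p := ⟨hqp.symm⟩
  obtain ⟨b₂, hb₂, hiso⟩ := Ideal.exists_not_mem_forall_mem_of_ne_of_liesOver p qb
  refine ⟨r.1 * b₂, ?_, ?_⟩
  · intro hmem
    rcases Ideal.IsPrime.mem_or_mem inferInstance hmem with h | h
    · exact hrq h
    · exact hb₂ h
  rintro M ⟨c, hcM, hbc⟩ Q _ _ _ _ _
  have hcu : IsUnit (algebraMap Bb Q c) := IsLocalization.map_units Q ⟨c, hcM⟩
  have hru : IsUnit (algebraMap Bb Q r.1) :=
    isUnit_of_dvd_unit (map_dvd (algebraMap Bb Q) ((Dvd.intro _ rfl).trans hbc)) hcu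
  refine ⟨?_, ?_⟩
  · have hu : ∀ y : Submonoid.powers r.1, IsUnit ((IsScalarTower.toAlgHom Bb Bb Q) (y : Bb)) := by
      rintro ⟨_, n, rfl⟩
      change IsUnit (algebraMap Bb Q (r.1 ^ n))
      rw [map_pow]; exact hru.pow n
    let l : Localization.Away r.1 →ₐ[Bb] Q := IsLocalization.liftAlgHom
      (M := Submonoid.powers r.1) (f := IsScalarTower.toAlgHom Bb Bb Q) hu
    refine Algebra.QuasiFinite.of_forall_exists_mul_mem_range (l.restrictScalars R) ?_
    intro x
    obtain ⟨⟨a, m⟩, hx⟩ := IsLocalization.surj M x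
    refine ⟨algebraMap Bb _ (m : Bb), ?_, algebraMap Bb _ a, ?_⟩
    · change IsUnit (l (algebraMap Bb _ (m : Bb)))
      rw [l.commutes]
      exact IsLocalization.map_units Q m
    · change l (algebraMap Bb _ a) = x * l (algebraMap Bb _ (m : Bb))
      rw [l.commutes, l.commutes]
      exact hx.symm
  · intro P hP hPp
    haveI : (P.comap (algebraMap Bb Q)).IsPrime := Ideal.comap_isPrime _ _
    have hover : (P.comap (algebraMap Bb Q)).LiesOver p := ⟨by
      rw [Ideal.under, Ideal.comap_comap, ← IsScalarTower.algebraMap_eq, hPp]⟩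
    by_contra hne
    have h1 := hiso _ inferInstance hne hover
    have h2 : c ∈ P.comap (algebraMap Bb Q) :=
      Ideal.mem_of_dvd _ ((Dvd.intro_left _ rfl).trans hbc) h1
    exact hP.ne_top (Ideal.eq_top_of_isUnit_mem _ h2 hcu)

end Groth.Agent.Lib.Seat6.QFShrink
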