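import Mathlib
import Groth.Agent.Lib.Seat6SliceList
import Groth.Agent.Lib.Seat6CMSeq
import Groth.Agent.Lib.Seat6QFShrink

/-!
# Slicing a Cohen–Macaulay point to a quasi-finite flat one: ring form (seat 6)
-/

set_option autoImplicit false
set_option linter.style.haveILetI false
universe u

namespace Groth.Agent.Lib.Seat6.SliceQF

open RingTheory.Sequence Groth.Agent.Lib.Seat6.Slice Groth.Agent.Lib.Seat6.CMSeq
  Groth.Agent.Lib.Seat6.QFShrink

theorem exists_slice_qf {R B O : Type u} [CommRing R] [CommRing B] [CommRing O] [Algebra R B]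
    [Algebra.FinitePresentation R B] [Algebra B O]
    (p : Ideal R) [p.IsPrime] (q : Ideal B) [q.IsPrime] (hq : q.comap (algebraMap R B) = p)
    [IsLocalization.AtPrime O q]
    (hflat : Module.Flat R (Localization.AtPrime q))
    (rs : List B) (hmem : ∀ s ∈ rs, s ∈ q)
    (hnzd : NzdSeq ((p.map (algebraMap R B)).map (algebraMap B O)) (rs.map (algebraMap B O)))
    (hprime : ∀ P : Ideal O, P.IsPrime →
      (p.map (algebraMap R B)).map (algebraMap B O) ⊔ Ideal.ofList (rs.map (algebraMap B O)) ≤ P →
        P.comap (algebraMap B O) = q)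
    (hup : ∀ q' : Ideal B, q'.IsPrime → q ≤ q' → q'.comap (algebraMap R B) = p → q' = q) :
    ∃ c : B, c ∉ q ∧ ∀ (T : Type u) [CommRing T] [Algebra B T] [Algebra R T]
      [IsScalarTower R B T] [IsLocalization.Away c T],
      IsRegular T (rs.map (algebraMap B T)) ∧
      Module.Flat R (T ⧸ (Ideal.ofList rs).map (algebraMap B T)) ∧
      Algebra.QuasiFinite R (T ⧸ (Ideal.ofList rs).map (algebraMap B T)) ∧
      ∀ P : Ideal (T ⧸ (Ideal.ofList rs).map (algebraMap B T)), P.IsPrime →
        P.comap (algebraMap R (T ⧸ (Ideal.ofList rs).map (algebraMap B T))) = p →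
        P.comap (algebraMap B (T ⧸ (Ideal.ofList rs).map (algebraMap B T))) = q := by
  classical
  -- (a) the local regularity condition and the slicing
  have hLR : LocReg q (p.map (algebraMap R B)) rs := locReg_of_nzdSeq q rs _ hnzd
  obtain ⟨g, hgq, hP1⟩ := exists_slice_list rs.length p q hq rs rfl hmem hflat hLR
  -- (b) the quotient `B ⧸ (rs)`
  have hIq : Ideal.ofList rs ≤ q := Ideal.span_le.2 fun r hr => hmem r hr
  have hker : RingHom.ker (Ideal.Quotient.mk (Ideal.ofList rs)) ≤ q := by rwa [Ideal.mk_ker]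
  haveI hqb : (q.map (Ideal.Quotient.mk (Ideal.ofList rs))).IsPrime :=
    Ideal.map_isPrime_of_surjective Ideal.Quotient.mk_surjective hker
  have hqbc : (q.map (Ideal.Quotient.mk (Ideal.ofList rs))).comap
      (Ideal.Quotient.mk (Ideal.ofList rs)) = q := by
    rw [Ideal.comap_map_of_surjective _ Ideal.Quotient.mk_surjective, ← RingHom.ker_eq_comap_bot,
      sup_eq_left.2 hker]
  have hcomapR : ∀ y : Ideal (B ⧸ Ideal.ofList rs),
      y.comap (algebraMap R (B ⧸ Ideal.ofList rs)) =
        (y.comap (Ideal.Quotient.mk (Ideal.ofList rs))).comap (algebraMap R B) := by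
    intro y
    rw [Ideal.comap_comap]
    rfl
  have hqbp : (q.map (Ideal.Quotient.mk (Ideal.ofList rs))).comap
      (algebraMap R (B ⧸ Ideal.ofList rs)) = p := by
    rw [hcomapR, hqbc, hq]
  -- (c) quasi-finiteness at the point
  have hZ : ∀ P : Ideal O, P.IsPrime →
      (p.map (algebraMap R B) ⊔ Ideal.ofList rs).map (algebraMap B O) ≤ P →
        P.comap (algebraMap B O) = q := by
    intro P hP hle
    apply hprime P hP
    rwa [Ideal.map_sup, Ideal.map_ofList] at hle
  haveI hQFat : Algebra.QuasiFiniteAt R (q.map (Ideal.Quotient.mk (Ideal.ofList rs))) := by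
    refine quasiFiniteAt_of_isolated (R := R)
      (⟨q.map (Ideal.Quotient.mk (Ideal.ofList rs)), hqb⟩ : PrimeSpectrum (B ⧸ Ideal.ofList rs))
      ?_ ?_
    · intro y' hy' hle
      have h1 : y'.asIdeal.comap (algebraMap R (B ⧸ Ideal.ofList rs)) = p := by
        have := congrArg PrimeSpectrum.asIdeal hy'
        exact this.trans hqbp
      have h2 : q ≤ y'.asIdeal.comap (Ideal.Quotient.mk (Ideal.ofList rs)) := by
        rw [← hqbc]; exact Ideal.comap_mono hle
      have h3 := hup _ (Ideal.comap_isPrime _ _) h2 (by rw [← hcomapR, h1])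
      apply PrimeSpectrum.ext
      change y'.asIdeal = q.map (Ideal.Quotient.mk (Ideal.ofList rs))
      rw [← h3, Ideal.map_comap_of_surjective _ Ideal.Quotient.mk_surjective]
    · intro y' hy' hle
      have h1 : y'.asIdeal.comap (algebraMap R (B ⧸ Ideal.ofList rs)) = p := by
        have := congrArg PrimeSpectrum.asIdeal hy'
        exact this.trans hqbp
      have h2 : y'.asIdeal.comap (Ideal.Quotient.mk (Ideal.ofList rs)) ≤ q := by
        rw [← hqbc]; exact Ideal.comap_mono hle
      haveI : (y'.asIdeal.comap (Ideal.Quotient.mk (Ideal.ofList rs))).IsPrime :=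
        Ideal.comap_isPrime _ _
      have h4 : p.map (algebraMap R B) ⊔ Ideal.ofList rs ≤
          y'.asIdeal.comap (Ideal.Quotient.mk (Ideal.ofList rs)) := by
        refine sup_le ?_ ?_
        · rw [Ideal.map_le_iff_le_comap, ← hcomapR, h1]
        · intro a ha
          rw [Ideal.mem_comap, Ideal.Quotient.eq_zero_iff_mem.2 ha]
          exact Ideal.zero_mem _
      have h3 := eq_of_le_of_forall_prime (O := O) q _ hZ _ h4 h2
      apply PrimeSpectrum.ext
      change y'.asIdeal = q.map (Ideal.Quotient.mk (Ideal.ofList rs))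
      rw [← h3, Ideal.map_comap_of_surjective _ Ideal.Quotient.mk_surjective]
  -- (d) shrink
  obtain ⟨bb, hbb, hshrink⟩ := exists_shrink p (q.map (Ideal.Quotient.mk (Ideal.ofList rs))) hqbp
  obtain ⟨b, rfl⟩ := Ideal.Quotient.mk_surjective bb
  have hbq : b ∉ q := fun h => hbb (Ideal.mem_map_of_mem _ h)
  refine ⟨g * b, ?_, ?_⟩
  · intro hmem'
    rcases Ideal.IsPrime.mem_or_mem inferInstance hmem' with h | h
    · exact hgq h
    · exact hbq h
  intro T _ _ _ _ _
  obtain ⟨hwr, -, hfl⟩ := hP1 (g * b) (Dvd.intro _ rfl) T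
  rw [← Ideal.map_ofList] at hfl
  -- the scalar tower
  haveI htow : IsScalarTower R (B ⧸ Ideal.ofList rs)
      (T ⧸ (Ideal.ofList rs).map (algebraMap B T)) := by
    apply IsScalarTower.of_algebraMap_eq
    intro x
    rw [IsScalarTower.algebraMap_apply R T (T ⧸ (Ideal.ofList rs).map (algebraMap B T)),
      IsScalarTower.algebraMap_apply R B T,
      IsScalarTower.algebraMap_apply R B (B ⧸ Ideal.ofList rs)]
    rfl
  obtain ⟨hQF, hP⟩ := hshrink (Algebra.algebraMapSubmonoid (B ⧸ Ideal.ofList rs)
    (Submonoid.powers (g * b)))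
    ⟨Ideal.Quotient.mk (Ideal.ofList rs) (g * b),
      Algebra.mem_algebraMapSubmonoid_of_mem ⟨g * b, Submonoid.mem_powers _⟩,
      by rw [map_mul]; exact Dvd.intro_left _ rfl⟩
    (T ⧸ (Ideal.ofList rs).map (algebraMap B T))
  refine ⟨⟨hwr, ?_⟩, hfl, hQF, ?_⟩
  · -- nontriviality
    intro htop
    have hdisj : Disjoint (Submonoid.powers (g * b) : Set B) (q : Set B) := by
      rw [Set.disjoint_left]
      rintro _ ⟨m, rfl⟩ hmem'
      have := Ideal.IsPrime.mem_of_pow_mem inferInstance m hmem'
      rcases Ideal.IsPrime.mem_or_mem inferInstance this with h | h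
      · exact hgq h
      · exact hbq h
    have hqT : (q.map (algebraMap B T)).IsPrime :=
      IsLocalization.isPrime_of_isPrime_disjoint (Submonoid.powers (g * b)) T q inferInstance hdisj
    have h1 : Ideal.ofList (rs.map (algebraMap B T)) ≤ q.map (algebraMap B T) := by
      rw [← Ideal.map_ofList]; exact Ideal.map_mono hIq
    rw [smul_eq_mul, Ideal.mul_top] at htop
    exact hqT.ne_top (top_le_iff.1 (htop.le.trans h1))
  · intro P hPprime hPp
    have h1 := hP P hPprime hPp
    have h2 : P.comap (algebraMap B (T ⧸ (Ideal.ofList rs).map (algebraMap B T))) =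
        (P.comap (algebraMap (B ⧸ Ideal.ofList rs)
          (T ⧸ (Ideal.ofList rs).map (algebraMap B T)))).comap
          (Ideal.Quotient.mk (Ideal.ofList rs)) := by
      rw [Ideal.comap_comap]
      congr 1
    rw [h2, h1, hqbc]

end Groth.Agent.Lib.Seat6.SliceQF
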