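import Mathlib
import Groth.Agent.S1349
import Groth.Agent.Lib.Helper5CMLocusSch

/-!
# Refining fppf covers by quasi-finite ones (seat 6)

* `exists_isCMAt_closed`: a flat morphism locally of finite type has, in every nonempty fibre, a
  point closed in the fibre at which it is Cohen–Macaulay.
* `exists_affine_flat_lqf`: for `f` flat, locally of finite presentation, every point of the image
  is in the image of an affine scheme `W ⟶ X` with `W ⟶ Y` flat, l.f.p. and locally quasi-finite.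
* `exists_affine_flat_lqf_surjective`: the global version over a quasi-compact base.
-/

set_option autoImplicit false
set_option linter.style.haveILetI false
universe u

namespace Groth.Agent.Lib.Seat6.FppfQF

open AlgebraicGeometry CategoryTheory Limits

theorem exists_isCMAt_closed {X S : Scheme.{u}} (f : X ⟶ S) [LocallyOfFiniteType f] [Flat f]
    (s : S) (hs : (f ⁻¹' {s}).Nonempty) :
    ∃ x : X, f x = s ∧ MoreMor.IsCMAt f x ∧
      IsClosed ({f.asFiber x} : Set ↑(f.fiber (f x))) := by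
  haveI : Nonempty (f.fiber s) := by
    obtain ⟨x, hx⟩ := hs
    exact ⟨(f.fiberHomeo s).symm ⟨x, hx⟩⟩
  have hlft : LocallyOfFiniteType (f.fiberToSpecResidueField s) :=
    MorphismProperty.pullback_snd _ _ inferInstance
  let φ : f.fiber s ⟶ Spec (CommRingCat.of (IsLocalRing.ResidueField (S.presheaf.stalk s))) :=
    f.fiberToSpecResidueField s
  haveI : LocallyOfFiniteType φ := hlft
  obtain ⟨ξ, hξcl, hξcm⟩ := Groth.Agent.Lib.Helper5.CMLocusSch.exists_closedPoint_cm
    (IsLocalRing.ResidueField (S.presheaf.stalk s)) (f.fiber s) φ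
  have hx : f (f.fiberι s ξ) = s := (f.fiberHomeo s ξ).2
  have key : ∀ (s : S) (ξ : f.fiber s) (x : X) (h : f x = s) (_ : f.fiberι s ξ = x),
      IsClosed ({ξ} : Set (f.fiber s)) →
      LocCoh.IsCohenMacaulayLocalRing ((f.fiber s).presheaf.stalk ξ) →
      IsClosed ({f.asFiber x} : Set ↑(f.fiber (f x))) ∧
        LocCoh.IsCohenMacaulayLocalRing ((f.fiber (f x)).presheaf.stalk (f.asFiber x)) := by
    intro s ξ x h hx hcl hcm
    subst h
    have : ξ = f.asFiber x :=
      (f.fiberι (f x)).isEmbedding.injective (hx.trans (f.fiberι_asFiber x).symm)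
    subst this
    exact ⟨hcl, hcm⟩
  have h2 := key s ξ (f.fiberι s ξ) hx rfl hξcl hξcm
  exact ⟨f.fiberι s ξ, hx, ⟨Flat.stalkMap f _, h2.2⟩, h2.1⟩

theorem exists_affine_flat_lqf {X Y : Scheme.{u}} (f : X ⟶ Y) [LocallyOfFinitePresentation f]
    [Flat f] (y : Y) (hy : (f ⁻¹' {y}).Nonempty) :
    ∃ (W : Scheme.{u}) (_ : IsAffine W) (h : W ⟶ X), Flat (h ≫ f) ∧
      LocallyOfFinitePresentation (h ≫ f) ∧ LocallyQuasiFinite (h ≫ f) ∧
      y ∈ Set.range ⇑(h ≫ f) := by
  obtain ⟨x, hxy, hcm, hcl⟩ := exists_isCMAt_closed f y hy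
  obtain ⟨V, Z, i, -, ⟨z, hz⟩, hfl, hfp, hqf, -⟩ := Groth.Agent.S1349.result f x hcm hcl
  obtain ⟨W, hW, hzW, -⟩ := exists_isAffineOpen_mem_and_subset (x := z) (U := ⊤) trivial
  haveI : IsAffine ↑W := hW
  refine ⟨W, hW, W.ι ≫ i ≫ V.ι, ?_, ?_, ?_, ⟨⟨z, hzW⟩, ?_⟩⟩
  · rw [Category.assoc, Category.assoc]; infer_instance
  · rw [Category.assoc, Category.assoc]; infer_instance
  · rw [Category.assoc, Category.assoc]; infer_instance
  · rw [Scheme.Hom.comp_apply, Scheme.Hom.comp_apply]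
    have h1 : W.ι ⟨z, hzW⟩ = z := rfl
    rw [h1, hz, hxy]

theorem exists_affine_flat_lqf_surjective {X Y : Scheme.{u}} (f : X ⟶ Y)
    [LocallyOfFinitePresentation f] [Flat f] [CompactSpace Y] (hsurj : Function.Surjective f) :
    ∃ (Z : Scheme.{u}) (_ : IsAffine Z) (g : Z ⟶ X), Flat (g ≫ f) ∧
      LocallyOfFinitePresentation (g ≫ f) ∧ LocallyQuasiFinite (g ≫ f) ∧
      Function.Surjective ⇑(g ≫ f) := by
  classical
  have hex : ∀ y : Y, ∃ (W : Scheme.{u}) (_ : IsAffine W) (h : W ⟶ X), Flat (h ≫ f) ∧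
      LocallyOfFinitePresentation (h ≫ f) ∧ LocallyQuasiFinite (h ≫ f) ∧
      y ∈ Set.range ⇑(h ≫ f) := fun y => exists_affine_flat_lqf f y (by
        obtain ⟨x, hx⟩ := hsurj y; exact ⟨x, hx⟩)
  choose W hW h hfl hfp hqf hy using hex
  have hopen : ∀ y : Y, IsOpen (Set.range ⇑(h y ≫ f)) := by
    intro y
    haveI := hfl y
    haveI := hfp y
    exact (h y ≫ f).isOpenMap.isOpen_range
  obtain ⟨t, ht⟩ := isCompact_univ.elim_finite_subcover (fun y : Y => Set.range ⇑(h y ≫ f)) hopen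
    (fun y _ => Set.mem_iUnion.2 ⟨y, hy y⟩)
  haveI : ∀ j : t, IsAffine (W j.1) := fun j => hW j.1
  refine ⟨∐ (fun j : t => W j.1), inferInstance, Sigma.desc (fun j : t => h j.1), ?_, ?_, ?_, ?_⟩
  all_goals
    have hcomp : Sigma.desc (fun j : t => h j.1) ≫ f = Sigma.desc (fun j : t => h j.1 ≫ f) := by
      apply Sigma.hom_ext
      intro j
      simp
  · rw [hcomp]
    exact IsZariskiLocalAtSource.sigmaDesc (fun j => hfl j.1)
  · rw [hcomp]
    exact IsZariskiLocalAtSource.sigmaDesc (fun j => hfp j.1)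
  · rw [hcomp]
    exact IsZariskiLocalAtSource.sigmaDesc (fun j => hqf j.1)
  · intro y
    obtain ⟨j, hj, w, hw⟩ : ∃ j ∈ t, y ∈ Set.range ⇑(h j ≫ f) := by
      have := ht (Set.mem_univ y)
      simpa using this
    refine ⟨Sigma.ι (fun j : t => W j.1) ⟨j, hj⟩ w, ?_⟩
    rw [← Scheme.Hom.comp_apply, hcomp, Sigma.ι_desc]
    exact hw

end Groth.Agent.Lib.Seat6.FppfQF
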