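import Mathlib
import Groth.Agent.Lib.Helper2GenFree

/-!
# Consequences of `FreeAway` (generic freeness witnesses), elementwise (seat 6)

* `exists_pow_smul_eq_zero` : torsion elements are killed by a power of `f`;
* `exists_pow_smul_mem_smul_ker` : if the quotient `Q` of `M` is free away from `f`, then
  `ker ∩ P M ⊆ P ker` up to powers of `f` (purity of the kernel);
* `algebraMap_not_mem_map` : nonvanishing of the fibres of an algebra free away from `f`.
-/

set_option autoImplicit false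
set_option linter.style.haveILetI false

namespace Groth.Agent.Lib.Seat6.FreeAwayTools

open Groth.Agent.Lib.Helper2.GenFree

variable {R : Type*} [CommRing R] {M : Type*} [AddCommGroup M] [Module R M]

/-- Over a domain, a module free away from `f` has only `f`-power torsion. -/
theorem exists_pow_smul_eq_zero [IsDomain R] {f : R} (h : FreeAway R f M) {r : R} (hr : r ≠ 0)
    {x : M} (hx : r • x = 0) : ∃ n : ℕ, f ^ n • x = 0 := by
  obtain ⟨𝔅, hli, hs⟩ := h
  obtain ⟨n, hn⟩ := hs x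
  refine ⟨n, ?_⟩
  obtain ⟨l, hl⟩ := (Finsupp.mem_span_iff_linearCombination R 𝔅 _).1 hn
  have h1 : Finsupp.linearCombination R ((↑) : 𝔅 → M) (r • l) = 0 := by
    rw [map_smul, hl, smul_comm, hx, smul_zero]
  have h2 := linearIndependent_iff.1 hli _ h1
  have h3 : l = 0 := (smul_eq_zero.1 h2).resolve_left hr
  rw [← hl, h3, map_zero]

/-- Elements of `P M` land in `P • span 𝔅` after multiplication by a power of `f`. -/
theorem exists_pow_smul_mem_smul_span {f : R} {𝔅 : Set M}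
    (hs : ∀ x : M, ∃ n : ℕ, f ^ n • x ∈ Submodule.span R 𝔅) (P : Ideal R) {y : M}
    (hy : y ∈ (P • ⊤ : Submodule R M)) :
    ∃ n : ℕ, f ^ n • y ∈ (P • Submodule.span R 𝔅 : Submodule R M) := by
  refine Submodule.smul_induction_on hy ?_ ?_
  · intro c hc x _
    obtain ⟨n, hn⟩ := hs x
    refine ⟨n, ?_⟩
    rw [smul_comm]
    exact Submodule.smul_mem_smul hc hn
  · rintro y₁ y₂ ⟨n₁, h₁⟩ ⟨n₂, h₂⟩
    refine ⟨n₁ + n₂, ?_⟩
    have e1 : f ^ (n₁ + n₂) • y₁ = f ^ n₂ • f ^ n₁ • y₁ := by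
      rw [pow_add, mul_comm, mul_smul]
    have e2 : f ^ (n₁ + n₂) • y₂ = f ^ n₁ • f ^ n₂ • y₂ := by
      rw [pow_add, mul_smul]
    rw [smul_add, e1, e2]
    exact add_mem (Submodule.smul_mem _ _ h₁) (Submodule.smul_mem _ _ h₂)

/-- Purity of the kernel of a surjection onto a module free away from `f`. -/
theorem exists_pow_smul_mem_smul_ker {Q : Type*} [AddCommGroup Q] [Module R Q] (π : M →ₗ[R] Q)
    (hπ : Function.Surjective π) {f : R} (h : FreeAway R f Q) (P : Ideal R) {y : M}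
    (hy : y ∈ LinearMap.ker π) (hyP : y ∈ (P • ⊤ : Submodule R M)) :
    ∃ n : ℕ, f ^ n • y ∈ (P • LinearMap.ker π : Submodule R M) := by
  obtain ⟨𝔅, hli, hs⟩ := h
  let σ : Q → M := Function.surjInv hπ
  have hσ : ∀ x, π (σ x) = x := Function.surjInv_eq hπ
  let v : 𝔅 → M := fun b => σ b.1
  have hπv : ∀ c : 𝔅 →₀ R, π (c.sum fun i a => a • v i) =
      Finsupp.linearCombination R ((↑) : 𝔅 → Q) c := by
    intro c
    rw [map_finsuppSum, Finsupp.linearCombination_apply]
    refine Finsupp.sum_congr fun i _ => ?_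
    rw [map_smul, hσ]
  set L : Submodule R M := Submodule.span R (Set.range v) with hL
  set N : Submodule R M := LinearMap.ker π with hN
  have hA : ∀ x : M, ∃ n : ℕ, f ^ n • x ∈ N ⊔ L := by
    intro x
    obtain ⟨n, hn⟩ := hs (π x)
    obtain ⟨l, hl⟩ := (Finsupp.mem_span_iff_linearCombination R 𝔅 _).1 hn
    set ℓ : M := l.sum fun i a => a • v i with hℓ
    have hℓL : ℓ ∈ L := Finsupp.mem_span_range_iff_exists_finsupp.2 ⟨l, rfl⟩
    have hπℓ : π ℓ = f ^ n • π x := by rw [hℓ, hπv, hl]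
    refine ⟨n, ?_⟩
    have h1 : f ^ n • x - ℓ ∈ N := by
      rw [hN, LinearMap.mem_ker, map_sub, map_smul, hπℓ, sub_self]
    have h2 : f ^ n • x = (f ^ n • x - ℓ) + ℓ := by abel
    rw [h2]
    exact Submodule.add_mem_sup h1 hℓL
  have hB : ∀ ℓ ∈ L, ℓ ∈ N → ℓ = 0 := by
    intro ℓ hℓ hℓN
    obtain ⟨c, rfl⟩ := Finsupp.mem_span_range_iff_exists_finsupp.1 hℓ
    rw [hN, LinearMap.mem_ker, hπv] at hℓN
    have hc : c = 0 := linearIndependent_iff.1 hli c hℓN
    rw [hc, Finsupp.sum_zero_index]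
  have hC : ∀ y ∈ (P • ⊤ : Submodule R M), ∃ n : ℕ, f ^ n • y ∈ P • N ⊔ P • L := by
    intro y hy
    refine Submodule.smul_induction_on hy ?_ ?_
    · intro c hc x _
      obtain ⟨n, hn⟩ := hA x
      obtain ⟨ν, hν, ℓ, hℓ, hsum⟩ := Submodule.mem_sup.1 hn
      refine ⟨n, ?_⟩
      rw [smul_comm, ← hsum, smul_add]
      exact Submodule.add_mem_sup (Submodule.smul_mem_smul hc hν) (Submodule.smul_mem_smul hc hℓ)
    · rintro y₁ y₂ ⟨n₁, h₁⟩ ⟨n₂, h₂⟩
      refine ⟨n₁ + n₂, ?_⟩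
      have e1 : f ^ (n₁ + n₂) • y₁ = f ^ n₂ • f ^ n₁ • y₁ := by
        rw [pow_add, mul_comm, mul_smul]
      have e2 : f ^ (n₁ + n₂) • y₂ = f ^ n₁ • f ^ n₂ • y₂ := by
        rw [pow_add, mul_smul]
      rw [smul_add, e1, e2]
      exact add_mem (Submodule.smul_mem _ _ h₁) (Submodule.smul_mem _ _ h₂)
  obtain ⟨n, hn⟩ := hC y hyP
  obtain ⟨ν, hν, ℓ, hℓ, hsum⟩ := Submodule.mem_sup.1 hn
  have hνN : ν ∈ N := Submodule.smul_le_right hν
  have hℓL : ℓ ∈ L := Submodule.smul_le_right hℓ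
  have hℓN : ℓ ∈ N := by
    have h1 : ℓ = f ^ n • y - ν := by rw [← hsum]; abel
    rw [h1]
    exact N.sub_mem (N.smul_mem _ hy) hνN
  have hℓ0 : ℓ = 0 := hB ℓ hℓL hℓN
  refine ⟨n, ?_⟩
  rw [← hsum, hℓ0, add_zero]
  exact hν

/-- If a domain `A` injects into an algebra `D` which is free away from `a` as an `A`-module,
then the fibres of `D` over primes not containing `a` do not vanish. -/
theorem algebraMap_not_mem_map {A : Type*} [CommRing A] [IsDomain A] {D : Type*} [CommRing D]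
    [Algebra A D] (hinj : Function.Injective (algebraMap A D)) {a : A} (h : FreeAway A a D)
    (p : Ideal A) [hp : p.IsPrime] (ha : a ∉ p) {c : A} (hc : c ∉ p) :
    algebraMap A D c ∉ p.map (algebraMap A D) := by
  classical
  obtain ⟨𝔅, hli, hs⟩ := h
  have ha0 : a ≠ 0 := fun h0 => ha (h0 ▸ p.zero_mem)
  have hne : 𝔅.Nonempty := by
    by_contra hemp
    rw [Set.not_nonempty_iff_eq_empty] at hemp
    obtain ⟨n, hn⟩ := hs 1
    rw [hemp, Submodule.span_empty, Submodule.mem_bot, Algebra.smul_def, mul_one] at hn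
    have : a ^ n = 0 := hinj (by rw [hn, map_zero])
    exact pow_ne_zero n ha0 this
  obtain ⟨b₀, hb₀⟩ := hne
  intro hmem
  have hz : algebraMap A D c * b₀ ∈ p.map (algebraMap A D) := Ideal.mul_mem_right _ _ hmem
  have hz' : c • b₀ ∈ (p • ⊤ : Submodule A D) := by
    rw [Ideal.smul_top_eq_map, Submodule.restrictScalars_mem, Algebra.smul_def]
    exact hz
  obtain ⟨n, hn⟩ := exists_pow_smul_mem_smul_span hs p hz'
  have hrange : Submodule.span A 𝔅 = Submodule.span A (Set.range ((↑) : 𝔅 → D)) := by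
    rw [Subtype.range_coe]
  rw [hrange, Submodule.mem_ideal_smul_span_iff_exists_sum] at hn
  obtain ⟨l, hlp, hl⟩ := hn
  have h1 : Finsupp.linearCombination A ((↑) : 𝔅 → D)
      (l - Finsupp.single ⟨b₀, hb₀⟩ (a ^ n * c)) = 0 := by
    rw [map_sub, Finsupp.linearCombination_apply, hl, Finsupp.linearCombination_single, mul_smul,
      sub_self]
  have h2 := linearIndependent_iff.1 hli _ h1
  have h3 : l = Finsupp.single ⟨b₀, hb₀⟩ (a ^ n * c) := sub_eq_zero.1 h2
  have h4 : a ^ n * c ∈ p := by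
    have := hlp ⟨b₀, hb₀⟩
    rw [h3, Finsupp.single_eq_same] at this
    exact this
  rcases hp.mem_or_mem h4 with h5 | h5
  · exact ha (hp.mem_of_pow_mem n h5)
  · exact hc h5

end Groth.Agent.Lib.Seat6.FreeAwayTools
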