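import Mathlib
import Groth.Agent.Lib.Seat6GenPt

/-!
# Generalizations into the generic fibre, scheme form (seat 6)

`exists_open_generalization`: for `f : X ⟶ Y` of finite type with `Y` irreducible there is a nonempty
open `V ⊆ Y` such that every point of `f⁻¹ V` is a specialization of a point of the generic fibre.
-/

set_option autoImplicit false
set_option linter.style.haveILetI false

universe u

open CategoryTheory CategoryTheory.Limits AlgebraicGeometry TopologicalSpace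

namespace Groth.Agent.Lib.Seat6.GenPt

/-- Ring hom form of `exists_generalization`. -/
theorem exists_generalization_ringHom {A B : Type u} [CommRing A] [CommRing B] (φ : A →+* B)
    (hφ : φ.FiniteType) (hn : (nilradical A).IsPrime) :
    ∃ a : A, a ∉ nilradical A ∧ ∀ q : Ideal B, q.IsPrime → φ a ∉ q →
      ∃ q' : Ideal B, q'.IsPrime ∧ q' ≤ q ∧ q'.comap φ = nilradical A := by
  letI := φ.toAlgebra
  haveI : Algebra.FiniteType A B := hφ
  exact exists_generalization (A := A) (B := B) hn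

theorem exists_open_generalization {X Y : Scheme.{u}} (f : X ⟶ Y) [IrreducibleSpace ↑Y]
    [LocallyOfFiniteType f] [QuasiCompact f] :
    ∃ V : Y.Opens, (V : Set Y).Nonempty ∧ ∀ x : X, f x ∈ V →
      ∃ x' : X, x' ⤳ x ∧ f x' = genericPoint Y := by
  classical
  obtain ⟨_, ⟨V₀, hV₀, rfl⟩, hη, -⟩ := Y.isBasis_affineOpens.exists_subset_of_mem_open
    (Set.mem_univ (genericPoint Y)) isOpen_univ
  replace hV₀ : IsAffineOpen V₀ := hV₀
  replace hη : genericPoint Y ∈ V₀ := hη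
  set qη := hV₀.primeIdealOf ⟨genericPoint Y, hη⟩ with hqη
  have hfη : hV₀.fromSpec qη = genericPoint Y := hV₀.fromSpec_primeIdealOf _
  have hmin : ∀ p : PrimeSpectrum Γ(Y, V₀), qη ≤ p := fun p => by
    rw [PrimeSpectrum.le_iff_specializes]
    apply (hV₀.fromSpec.isOpenEmbedding.toIsInducing.specializes_iff).1
    rw [hfη]; exact genericPoint_specializes _
  have hnil : nilradical Γ(Y, V₀) = qη.asIdeal := by
    rw [nilradical_eq_sInf]
    exact le_antisymm (sInf_le qη.2) (le_sInf fun J hJ => hmin ⟨J, hJ⟩)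
  have hn : (nilradical Γ(Y, V₀)).IsPrime := hnil ▸ qη.2
  have hc : IsCompact ((f ⁻¹ᵁ V₀ : X.Opens) : Set X) := f.isCompact_preimage hV₀.isCompact
  obtain ⟨s, hs, hsU⟩ := isCompact_iff_finite_and_eq_biUnion_affineOpens.1 hc
  have hle : ∀ W ∈ s, (W : X.Opens) ≤ f ⁻¹ᵁ V₀ := by
    intro W hW
    rw [hsU]
    exact le_iSup₂ (f := fun (i : X.affineOpens) (_ : i ∈ s) => (i : X.Opens)) W hW
  have key : ∀ W : X.affineOpens, ∀ hW : W ∈ s, ∃ a : Γ(Y, V₀), a ∉ nilradical Γ(Y, V₀) ∧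
      ∀ q : Ideal Γ(X, W.1), q.IsPrime → (f.appLE V₀ W.1 (hle W hW)).hom a ∉ q →
        ∃ q' : Ideal Γ(X, W.1), q'.IsPrime ∧ q' ≤ q ∧
          q'.comap (f.appLE V₀ W.1 (hle W hW)).hom = nilradical Γ(Y, V₀) := by
    intro W hW
    exact exists_generalization_ringHom _
      ((HasRingHomProperty.iff_appLE (P := @LocallyOfFiniteType)).1 inferInstance ⟨V₀, hV₀⟩ W
        (hle W hW)) hn
  let a : X.affineOpens → Γ(Y, V₀) := fun W => if hW : W ∈ s then (key W hW).choose else 1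
  have ha0 : ∀ W, a W ∉ nilradical Γ(Y, V₀) := by
    intro W
    by_cases hW : W ∈ s
    · simp only [a, dif_pos hW]; exact (key W hW).choose_spec.1
    · simp only [a, dif_neg hW]
      exact fun h => hn.ne_top ((Ideal.eq_top_iff_one _).2 h)
  have haF : ∀ W, ∀ hW : W ∈ s, ∀ q : Ideal Γ(X, W.1), q.IsPrime →
      (f.appLE V₀ W.1 (hle W hW)).hom (a W) ∉ q →
        ∃ q' : Ideal Γ(X, W.1), q'.IsPrime ∧ q' ≤ q ∧
          q'.comap (f.appLE V₀ W.1 (hle W hW)).hom = nilradical Γ(Y, V₀) := by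
    intro W hW
    simp only [a, dif_pos hW]; exact (key W hW).choose_spec.2
  let A : Γ(Y, V₀) := ∏ W ∈ hs.toFinset, a W
  have hA : A ∉ nilradical Γ(Y, V₀) := by
    intro hmem
    obtain ⟨W, -, hW⟩ := (hn.prod_mem_iff).1 hmem
    exact ha0 W hW
  refine ⟨Y.basicOpen A, ⟨genericPoint Y, ?_⟩, fun x hx => ?_⟩
  · rw [← hfη]
    change qη ∈ (hV₀.fromSpec ⁻¹ᵁ Y.basicOpen A)
    rw [hV₀.fromSpec_preimage_basicOpen]
    change A ∉ qη.asIdeal
    rw [← hnil]; exact hA
  · have hxV : x ∈ f ⁻¹ᵁ V₀ := Y.basicOpen_le A hx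
    rw [hsU] at hxV
    obtain ⟨W, hxW⟩ := Opens.mem_iSup.1 hxV
    obtain ⟨hW, hxW⟩ := Opens.mem_iSup.1 hxW
    have e := hle W hW
    set q := W.2.primeIdealOf ⟨x, hxW⟩ with hqdef
    have hq : W.2.fromSpec q = x := W.2.fromSpec_primeIdealOf _
    have hcomm : ∀ r : PrimeSpectrum Γ(X, W.1),
        f (W.2.fromSpec r) = hV₀.fromSpec (Spec.map (f.appLE V₀ W.1 e) r) := by
      intro r
      have := congr($(IsAffineOpen.SpecMap_appLE_fromSpec f hV₀ W.2 e) r)
      simpa only [Scheme.Hom.comp_apply] using this.symm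
    have haq : (f.appLE V₀ W.1 e).hom (a W) ∉ q.asIdeal := by
      intro hmem
      have h1 : (f.appLE V₀ W.1 e).hom A ∈ q.asIdeal := by
        have h2 : A = a W * ∏ W' ∈ hs.toFinset.erase W, a W' :=
          (Finset.mul_prod_erase _ _ (hs.mem_toFinset.2 hW)).symm
        rw [h2, map_mul]
        exact Ideal.mul_mem_right _ _ hmem
      have h2 : Spec.map (f.appLE V₀ W.1 e) q ∈ hV₀.fromSpec ⁻¹ᵁ Y.basicOpen A := by
        change hV₀.fromSpec (Spec.map (f.appLE V₀ W.1 e) q) ∈ Y.basicOpen A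
        rw [← hcomm, hq]; exact hx
      rw [hV₀.fromSpec_preimage_basicOpen] at h2
      exact h2 h1
    obtain ⟨q', hq', hq'le, hq'c⟩ := haF W hW q.asIdeal q.2 haq
    refine ⟨W.2.fromSpec ⟨q', hq'⟩, ?_, ?_⟩
    · rw [← hq]
      exact ((PrimeSpectrum.le_iff_specializes ⟨q', hq'⟩ q).1 hq'le).map
        W.2.fromSpec.continuous
    · rw [hcomm, ← hfη]
      congr 1
      apply PrimeSpectrum.ext
      change q'.comap _ = qη.asIdeal
      rw [hq'c, hnil]

end Groth.Agent.Lib.Seat6.GenPt
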