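import Mathlib
import Groth.Prelude.Def_FlatCA

/-!
# Ring maps with geometrically integral fibres: fibre rings are domains (Seat 6)

Bridges `FlatCA.GeomIntegralFibres A B` (scheme-theoretic: `Spec B → Spec A` is geometrically
integral in Mathlib's sense) to ring-level statements:
* `isDomain_tensor_of_geomIntegralFibres`: `K ⊗[A] B` is a domain for every field `K` over `A`;
* `geomIntegralFibres_of_isPushout`: stability under base change `Algebra.IsPushout A B A' B'`;
* `isDomain_fiber_of_isPushout`: the fibre rings `t.Fiber B'` of a base change are domains.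
-/

set_option autoImplicit false

universe u

namespace Groth.Agent.Lib.Seat6.GeomInt

open TensorProduct CategoryTheory AlgebraicGeometry

variable {A B : Type u} [CommRing A] [CommRing B] [Algebra A B]

theorem isDomain_tensor_of_geomIntegralFibres (h : FlatCA.GeomIntegralFibres A B)
    (K : Type u) [Field K] [Algebra A K] : IsDomain (K ⊗[A] B) := by
  have h1 := (geometrically_iff_of_commRing (P := @AlgebraicGeometry.IsIntegral)).1
    h.geometrically_isIntegral
  have hpo := (CommRingCat.isPushout_tensorProduct A K B)
  have hpb := (isPullback_SpecMap_of_isPushout _ _ _ _ hpo).flip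
  have h2 := h1 _ _ hpb
  exact (affine_isIntegral_iff _).1 h2

theorem geomIntegralFibres_of_isPushout (h : FlatCA.GeomIntegralFibres A B)
    (A' B' : Type u) [CommRing A'] [CommRing B'] [Algebra A A'] [Algebra B B'] [Algebra A' B']
    [Algebra A B'] [IsScalarTower A B B'] [IsScalarTower A A' B'] [Algebra.IsPushout A B A' B'] :
    FlatCA.GeomIntegralFibres A' B' := by
  have hpo := CommRingCat.isPushout_of_isPushout A B A' B'
  have hpb := isPullback_SpecMap_of_isPushout _ _ _ _ hpo
  exact MorphismProperty.of_isPullback (P := @GeometricallyIntegral) hpb h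

theorem isDomain_fiber (h : FlatCA.GeomIntegralFibres A B) (t : Ideal A) [t.IsPrime] :
    IsDomain (t.Fiber B) :=
  isDomain_tensor_of_geomIntegralFibres h t.ResidueField

end Groth.Agent.Lib.Seat6.GeomInt
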