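import Mathlib
import Groth.Prelude.Def_FlatCA
import Groth.Agent.Lib.Seat6FibBC

/-!
# Descending an impurity along `G → A'`

Given an impurity of `N` above `p` with base change ring `A'`, and an `A`-algebra `G` mapping to
`A'`, the contracted data over `G` form an impurity as soon as the "closure misses the fibre"
condition is witnessed over `G`.
-/

set_option autoImplicit false
set_option linter.style.haveILetI false
universe u

namespace Groth.Agent.Lib.Seat6.ImpDesc

open TensorProduct FlatCA Groth.Agent.Lib.Seat6.FibBC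

attribute [local instance] Algebra.TensorProduct.rightAlgebra

section

variable {A B : Type u} [CommRing A] [CommRing B] [Algebra A B]
  {A' B' : Type u} [CommRing A'] [CommRing B'] [Algebra A A'] [Algebra B B'] [Algebra A' B']
  [Algebra A B'] [IsScalarTower A B B'] [IsScalarTower A A' B']
  (G : Type u) [CommRing G] [Algebra A G] [Algebra G A'] [IsScalarTower A G A']
  [Algebra G B'] [IsScalarTower G A' B'] [IsScalarTower A G B']

/-- The canonical map `G ⊗[A] B → B'`. -/
noncomputable def psi : G ⊗[A] B →ₐ[G] B' :=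
  Algebra.TensorProduct.lift (Algebra.ofId G B') (IsScalarTower.toAlgHom A B B')
    (fun _ _ => Commute.all _ _)

theorem psi_tmul (x : G) (b : B) :
    psi (A := A) (B := B) (B' := B') G (x ⊗ₜ[A] b) = algebraMap G B' x * algebraMap B B' b := by
  simp [psi, Algebra.ofId_apply]

end

section Desc

variable {A B : Type u} [CommRing A] [CommRing B] [Algebra A B] [Algebra.FiniteType A B]
  (N : Type u) [AddCommGroup N] [Module B N] (p : Ideal A) [p.IsPrime]
  {A' B' N' : Type u} [CommRing A'] [CommRing B'] [Algebra A A'] [Algebra B B'] [Algebra A' B']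
  [Algebra A B'] [IsScalarTower A B B'] [IsScalarTower A A' B']
  [AddCommGroup N'] [Module B' N'] [Module B N'] [IsScalarTower B B' N'] [Module A' N']
  [IsScalarTower A' B' N']
  (f : N →ₗ[B] N') (t' t : Ideal A') [t'.IsPrime] [t.IsPrime] (P : Ideal B') [P.IsPrime]
  (G : Type u) [CommRing G] [Algebra A G] [Algebra G A'] [IsScalarTower A G A']
  [Algebra G B'] [IsScalarTower G A' B'] [IsScalarTower A G B']

/-- Descent of an impurity to an intermediate base ring `G`, given a witness over `G` for the
closure condition. -/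
theorem isImpurity_descend (himp : IsImpurity A B N p A' B' N' f t' t P)
    (sG : G) (hsG : algebraMap G A' sG ∉ t)
    (hmem : algebraMap G (G ⊗[A] B) sG ∈
      (P.comap (psi (A := A) (B := B) (B' := B') G).toRingHom) ⊔
        (t.comap (algebraMap G A')).map (algebraMap G (G ⊗[A] B))) :
    haveI : (t'.comap (algebraMap G A')).IsPrime := Ideal.comap_isPrime _ _
    haveI : (t.comap (algebraMap G A')).IsPrime := Ideal.comap_isPrime _ _
    haveI : (P.comap (psi (A := A) (B := B) (B' := B') G).toRingHom).IsPrime :=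
      Ideal.comap_isPrime _ _
    IsImpurity A B N p G (G ⊗[A] B) ((G ⊗[A] B) ⊗[B] N) (TensorProduct.mk B (G ⊗[A] B) N 1)
      (t'.comap (algebraMap G A')) (t.comap (algebraMap G A'))
      (P.comap (psi (A := A) (B := B) (B' := B') G).toRingHom) := by
  obtain ⟨hpo, hbc, hle, htp, hPt', hass, hclos⟩ := himp
  haveI := hpo
  haveI := htp
  haveI := hPt'
  haveI : (t'.comap (algebraMap G A')).IsPrime := Ideal.comap_isPrime _ _
  haveI : (t.comap (algebraMap G A')).IsPrime := Ideal.comap_isPrime _ _
  haveI : (P.comap (psi (A := A) (B := B) (B' := B') G).toRingHom).IsPrime :=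
    Ideal.comap_isPrime _ _
  letI algψ : Algebra (G ⊗[A] B) B' := (psi (A := A) (B := B) (B' := B') G).toRingHom.toAlgebra
  have halg : ∀ x : G ⊗[A] B, algebraMap (G ⊗[A] B) B' x = psi (A := A) (B := B) (B' := B') G x :=
    fun _ => rfl
  haveI towG : IsScalarTower G (G ⊗[A] B) B' :=
    IsScalarTower.of_algebraMap_eq (fun x => by
      rw [halg, Algebra.TensorProduct.algebraMap_apply, psi_tmul, map_one, mul_one]
      rfl)
  haveI towB : IsScalarTower B (G ⊗[A] B) B' :=
    IsScalarTower.of_algebraMap_eq (fun b => by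
      rw [halg]
      change _ = psi (A := A) (B := B) (B' := B') G ((1 : G) ⊗ₜ[A] b)
      rw [psi_tmul, map_one, one_mul])
  haveI towA : IsScalarTower A (G ⊗[A] B) B' :=
    IsScalarTower.of_algebraMap_eq (fun a => by
      rw [IsScalarTower.algebraMap_apply A G (G ⊗[A] B),
        ← IsScalarTower.algebraMap_apply G (G ⊗[A] B) B', ← IsScalarTower.algebraMap_apply A G B'])
  haveI hpo' : Algebra.IsPushout A A' B B' := hpo.symm
  have hpoG : Algebra.IsPushout G A' (G ⊗[A] B) B' :=
    (Algebra.IsPushout.comp_iff A G B (S' := G ⊗[A] B) (T := A') (T' := B')).mp hpo'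
  haveI hpoG' : Algebra.IsPushout G (G ⊗[A] B) A' B' := hpoG.symm
  letI modN' : Module (G ⊗[A] B) N' :=
    Module.compHom N' (psi (A := A) (B := B) (B' := B') G).toRingHom
  have hsmul : ∀ (x : G ⊗[A] B) (n : N'), x • n = psi (A := A) (B := B) (B' := B') G x • n :=
    fun _ _ => rfl
  haveI towN1 : IsScalarTower (G ⊗[A] B) B' N' :=
    IsScalarTower.of_algebraMap_smul (fun x n => by rw [halg, hsmul])
  haveI towN2 : IsScalarTower B (G ⊗[A] B) N' :=
    IsScalarTower.of_algebraMap_smul (fun b n => by
      rw [hsmul]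
      change psi (A := A) (B := B) (B' := B') G ((1 : G) ⊗ₜ[A] b) • n = b • n
      rw [psi_tmul, map_one, one_mul, algebraMap_smul])
  have hbcG : IsBaseChange (G ⊗[A] B) (TensorProduct.mk B (G ⊗[A] B) N 1) :=
    TensorProduct.isBaseChange B N (G ⊗[A] B)
  let f' : (G ⊗[A] B) ⊗[B] N →ₗ[G ⊗[A] B] N' := hbcG.lift f
  have hf'comp : (f'.restrictScalars B).comp (TensorProduct.mk B (G ⊗[A] B) N 1) = f :=
    hbcG.lift_comp f
  have hbc' : IsBaseChange B' f' := by
    refine IsBaseChange.of_comp hbcG ?_
    have : ((f' : (G ⊗[A] B) ⊗[B] N →ₗ[B] N') ∘ₗ (TensorProduct.mk B (G ⊗[A] B) N 1)) = f :=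
      hf'comp
    rw [this]
    exact hbc
  haveI : t'.LiesOver (t'.comap (algebraMap G A')) := ⟨rfl⟩
  have hassG := relAss_descend (t'.comap (algebraMap G A')) t' f' hbc' P hass
  refine ⟨inferInstance, hbcG, Ideal.comap_mono hle, ?_, ?_, hassG, ?_⟩
  · constructor
    rw [Ideal.under, Ideal.comap_comap, ← IsScalarTower.algebraMap_eq A G A']
    exact htp.over
  · constructor
    rw [Ideal.under, Ideal.comap_comap]
    have h1 : (psi (A := A) (B := B) (B' := B') G).toRingHom.comp (algebraMap G (G ⊗[A] B)) =
        algebraMap G B' := (IsScalarTower.algebraMap_eq G (G ⊗[A] B) B').symm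
    rw [h1, IsScalarTower.algebraMap_eq G A' B', ← Ideal.comap_comap]
    have h2 : P.comap (algebraMap A' B') = t' := hPt'.over.symm
    rw [h2]
  · intro P'' hP'' hle'' hover
    have h1 : (t.comap (algebraMap G A')).map (algebraMap G (G ⊗[A] B)) ≤ P'' := by
      rw [Ideal.map_le_iff_le_comap]
      exact hover.over.le
    have h2 : algebraMap G (G ⊗[A] B) sG ∈ P'' := (sup_le hle'' h1) hmem
    have h3 : sG ∈ t.comap (algebraMap G A') := by
      rw [hover.over]
      exact h2
    exact hsG h3

end Desc

section Witness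

variable {A' B' : Type u} [CommRing A'] [CommRing B'] [Algebra A' B']

/-- If no prime containing `P` lies over `t`, then some element outside `t` lies in
`P + t B'`. -/
theorem exists_witness (t : Ideal A') [t.IsPrime] (P : Ideal B')
    (hclos : ∀ (P' : Ideal B') [P'.IsPrime], P ≤ P' → ¬ P'.LiesOver t) :
    ∃ s : A', s ∉ t ∧ algebraMap A' B' s ∈ P ⊔ t.map (algebraMap A' B') := by
  by_contra hno
  push Not at hno
  set J : Ideal B' := P ⊔ t.map (algebraMap A' B') with hJ
  have hdisj : Disjoint (J : Set B') ((t.primeCompl.map (algebraMap A' B') : Submonoid B') : Set B') := by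
    rw [Set.disjoint_left]
    rintro x hxJ ⟨s, hs, rfl⟩
    exact hno s hs hxJ
  obtain ⟨P', hP', hJP', hP'disj⟩ := Ideal.exists_le_prime_disjoint J _ hdisj
  refine hclos P' (le_sup_left.trans hJP') ⟨?_⟩
  apply le_antisymm
  · intro a ha
    exact hJP' (le_sup_right (a := P) (Ideal.mem_map_of_mem _ ha))
  · intro a ha
    by_contra hat
    exact Set.disjoint_left.1 hP'disj ha ⟨a, hat, rfl⟩

variable {A B : Type u} [CommRing A] [CommRing B] [Algebra A B] [Algebra A A'] [Algebra B B']
  [Algebra A B'] [IsScalarTower A B B'] [IsScalarTower A A' B'] [hpo : Algebra.IsPushout A B A' B']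

include hpo in
/-- In a pushout `B' = B ⊗ A'`, the extension of an ideal `t` of `A'` is the `B`-span of the image
of `t`. -/
theorem mem_span_of_mem_map (t : Ideal A') {x : B'} (hx : x ∈ t.map (algebraMap A' B')) :
    x ∈ Submodule.span B ((algebraMap A' B') '' (t : Set A')) := by
  set M : Submodule B B' := Submodule.span B ((algebraMap A' B') '' (t : Set A')) with hM
  have hmul1 : ∀ (a' : A') (m : B'), m ∈ M → algebraMap A' B' a' * m ∈ M := by
    intro a' m hm
    refine Submodule.span_induction (p := fun m _ => algebraMap A' B' a' * m ∈ M) ?_ ?_ ?_ ?_ hm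
    · rintro _ ⟨τ, hτ, rfl⟩
      rw [← map_mul]
      exact Submodule.subset_span ⟨a' * τ, t.mul_mem_left _ hτ, rfl⟩
    · rw [mul_zero]; exact M.zero_mem
    · intro y z _ _ hy hz
      rw [mul_add]; exact M.add_mem hy hz
    · intro b y _ hy
      rw [mul_smul_comm]; exact M.smul_mem b hy
  have hmul : ∀ (b' m : B'), m ∈ M → b' * m ∈ M := by
    intro b' m hm
    refine hpo.out.inductionOn b' (fun b' => b' * m ∈ M) ?_ ?_ ?_ ?_
    · rw [zero_mul]; exact M.zero_mem
    · intro a'
      exact hmul1 a' m hm
    · intro b y hy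
      rw [smul_mul_assoc]; exact M.smul_mem b hy
    · intro y z hy hz
      rw [add_mul]; exact M.add_mem hy hz
  rw [Ideal.map] at hx
  refine Submodule.span_induction (p := fun x _ => x ∈ M) ?_ ?_ ?_ ?_ hx
  · intro y hy
    exact Submodule.subset_span hy
  · exact M.zero_mem
  · intro y z _ _ hy hz
    exact M.add_mem hy hz
  · intro b' y _ hy
    exact hmul b' y hy

end Witness

end Groth.Agent.Lib.Seat6.ImpDesc
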