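import Mathlib
import Groth.Prelude.Def_FlatCA
import Groth.Agent.Lib.Seat6FibBC
import Groth.Agent.Lib.Seat6BCInjGlobal
import Groth.Agent.Lib.Seat6ImpDesc

/-!
# Base change of impurities (seat 6)

* `relAss_ascend` : relative associated primes lift along an arbitrary base change;
* `isImpurity_descend_of_closure` : descent of an impurity with a direct closure hypothesis;
* `isImpurity_std` : every impurity can be put in standard form `G ⊗[A] B`;
* `isImpurity_baseChange` : base change of a standard impurity along `G → G₂`, given primes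
  `T' ≤ T` of `G₂` above `t' ≤ t`.
-/

set_option autoImplicit false
set_option linter.style.haveILetI false
universe u

namespace Groth.Agent.Lib.Seat6.ImpBC

open TensorProduct FlatCA Groth.Agent.Lib.Seat6.FibBC Groth.Agent.Lib.Seat6.BCInj
  Groth.Agent.Lib.Seat6.ImpDesc

attribute [local instance] Algebra.TensorProduct.rightAlgebra

section Ascend

variable {R R' : Type u} [CommRing R] [CommRing R'] [Algebra R R']
    (p : Ideal R) [p.IsPrime] (p' : Ideal R') [p'.IsPrime] [hpp : p'.LiesOver p]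
    {S S' : Type u} [CommRing S] [CommRing S'] [Algebra R S] [Algebra R' S'] [Algebra S S']
    [Algebra R S'] [IsScalarTower R S S'] [IsScalarTower R R' S']
    [hpo : Algebra.IsPushout R S R' S']
    {N N' : Type u} [AddCommGroup N] [Module S N]
    [AddCommGroup N'] [Module S' N'] [Module S N'] [IsScalarTower S S' N']

include hpp hpo in
/-- The fibre module over `p'` is, as an `S`-module, a direct sum of a nonempty family of copies of
the fibre module over `p`. -/
theorem exists_fiberMod_equiv_finsupp' (f : N →ₗ[S] N') (hf : IsBaseChange S' f) :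
    ∃ (ι : Type u) (_ : Nonempty ι) (Φ : fiberMod p' S' N' ≃+ (ι →₀ fiberMod p S N)),
      ∀ (s : S) (v : fiberMod p' S' N'), Φ (algebraMap S S' s • v) = s • Φ v := by
  classical
  letI algkk' : Algebra p.ResidueField p'.ResidueField :=
    (Ideal.ResidueField.mapₐ p p' (Algebra.ofId R R') hpp.over).toRingHom.toAlgebra
  haveI tow1 : IsScalarTower R p.ResidueField p'.ResidueField :=
    IsScalarTower.of_algebraMap_eq (fun r =>
      ((Ideal.ResidueField.mapₐ p p' (Algebra.ofId R R') hpp.over).commutes r).symm)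
  letI algSF : Algebra S (p'.Fiber S') :=
    ((algebraMap S' (p'.Fiber S')).comp (algebraMap S S')).toAlgebra
  haveI tow2 : IsScalarTower S S' (p'.Fiber S') := IsScalarTower.of_algebraMap_eq (fun _ => rfl)
  haveI tow3 : IsScalarTower R S' (p'.Fiber S') := IsScalarTower.of_algebraMap_eq (fun r => by
    rw [IsScalarTower.algebraMap_apply R R' (p'.Fiber S'), IsScalarTower.algebraMap_apply R R' S',
      ← IsScalarTower.algebraMap_apply R' S' (p'.Fiber S')])
  haveI tow4 : IsScalarTower R S (p'.Fiber S') := IsScalarTower.of_algebraMap_eq (fun r => by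
    rw [IsScalarTower.algebraMap_apply S S' (p'.Fiber S'), ← IsScalarTower.algebraMap_apply R S S',
      ← IsScalarTower.algebraMap_apply R S' (p'.Fiber S')])
  haveI hpo' : Algebra.IsPushout R R' S S' := hpo.symm
  have h1 : Algebra.IsPushout R p'.ResidueField S (p'.Fiber S') :=
    (Algebra.IsPushout.comp_iff R R' S (S' := S') (T := p'.ResidueField) (T' := p'.Fiber S')).mpr
      inferInstance
  have h2 : Algebra.IsPushout R S p'.ResidueField (p'.Fiber S') := h1.symm
  let ι := Module.Free.ChooseBasisIndex p.ResidueField p'.ResidueField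
  let b := Module.Free.chooseBasis p.ResidueField p'.ResidueField
  have hne : Nonempty ι := b.index_nonempty
  let Ψ : (p'.Fiber S') ≃ₗ[S] (ι →₀ p.Fiber S) :=
    h2.out.equiv.symm ≪≫ₗ
      AlgebraTensorModule.congr (LinearEquiv.refl S S) (b.repr.restrictScalars R) ≪≫ₗ
      TensorProduct.finsuppRight R S S p.ResidueField ι ≪≫ₗ
      Finsupp.mapRange.linearEquiv (Algebra.TensorProduct.commRight R S p.ResidueField).toLinearEquiv
  let e1 : (p'.Fiber S') ⊗[S'] N' ≃ₗ[S'] (p'.Fiber S') ⊗[S] N := hf.tensorEquiv (p'.Fiber S')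
  let e2 : (p'.Fiber S') ⊗[S] N ≃ₗ[S] (ι →₀ p.Fiber S) ⊗[S] N :=
    TensorProduct.congr Ψ (LinearEquiv.refl S N)
  let e3 : (ι →₀ p.Fiber S) ⊗[S] N ≃ₗ[S] (ι →₀ (p.Fiber S) ⊗[S] N) :=
    TensorProduct.finsuppLeft S S (p.Fiber S) N ι
  refine ⟨ι, hne, (show (p'.Fiber S') ⊗[S'] N' ≃+ (ι →₀ (p.Fiber S) ⊗[S] N) from
    e1.toAddEquiv.trans (e2 ≪≫ₗ e3).toAddEquiv), ?_⟩
  intro s v
  change (e2 ≪≫ₗ e3) (e1 (algebraMap S S' s • (show (p'.Fiber S') ⊗[S'] N' from v))) =
    s • (e2 ≪≫ₗ e3) (e1 (show (p'.Fiber S') ⊗[S'] N' from v))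
  rw [map_smul, algebraMap_smul, map_smul]

include hpp hpo in
/-- Ascent of relative associated primes along a base change. -/
theorem relAss_ascend [Algebra.FiniteType R S] (f : N →ₗ[S] N') (hf : IsBaseChange S' f)
    (q : Ideal S) [q.IsPrime] [q.LiesOver p]
    (h : fiberIdeal p q ∈ associatedPrimes (p.Fiber S) (fiberMod p S N)) :
    ∃ q' : Ideal S', q'.IsPrime ∧ q'.LiesOver p' ∧ q'.comap (algebraMap S S') = q ∧
      fiberIdeal p' q' ∈ associatedPrimes (p'.Fiber S') (fiberMod p' S' N') := by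
  classical
  haveI : Algebra.FiniteType R' S' := finiteType_of_isPushout (R := R) (S := S)
  haveI : IsNoetherianRing (p.Fiber S) :=
    Algebra.FiniteType.isNoetherianRing p.ResidueField (p.Fiber S)
  haveI : IsNoetherianRing (p'.Fiber S') :=
    Algebra.FiniteType.isNoetherianRing p'.ResidueField (p'.Fiber S')
  rw [relAss_iff] at h
  obtain ⟨z, hz⟩ := h
  obtain ⟨ι, ⟨i₀⟩, Φ, hΦ⟩ := exists_fiberMod_equiv_finsupp' p p' f hf
  set z' : fiberMod p' S' N' := Φ.symm (Finsupp.single i₀ z) with hz'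
  have key : ∀ s : S, algebraMap S S' s • z' = 0 ↔ s ∈ q := by
    intro s
    rw [← map_eq_zero_iff Φ Φ.injective, hΦ, hz', AddEquiv.apply_symm_apply, hz,
      Finsupp.smul_single, Finsupp.single_eq_zero]
  -- the annihilator of `z'` in the fibre ring
  set J : Ideal (p'.Fiber S') :=
    (⊥ : Submodule (p'.Fiber S') (fiberMod p' S' N')).colon {z'} with hJ
  let φ : S →+* p'.Fiber S' := (algebraMap S' (p'.Fiber S')).comp (algebraMap S S')
  have hφJ : ∀ s : S, φ s ∈ J ↔ s ∈ q := by
    intro s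
    rw [hJ, Submodule.mem_colon_singleton, Submodule.mem_bot]
    change algebraMap S' (p'.Fiber S') (algebraMap S S' s) • z' = 0 ↔ _
    rw [algebraMap_smul]
    exact key s
  have hdisj : Disjoint (J : Set (p'.Fiber S')) ((q.primeCompl.map φ : Submonoid (p'.Fiber S')) :
      Set (p'.Fiber S')) := by
    rw [Set.disjoint_left]
    rintro x hxJ ⟨s, hs, rfl⟩
    exact hs ((hφJ s).1 hxJ)
  obtain ⟨Q₁, hQ₁, hJQ₁, hQ₁disj⟩ := Ideal.exists_le_prime_disjoint J _ hdisj
  obtain ⟨Q, hQmin, hQQ₁⟩ := Ideal.exists_minimalPrimes_le hJQ₁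
  haveI hQprime : Q.IsPrime := hQmin.1.1
  obtain ⟨x', hx'⟩ := Submodule.exists_eq_colon_of_mem_minimalPrimes hQmin
  have hQass : Q ∈ associatedPrimes (p'.Fiber S') (fiberMod p' S' N') := by
    rw [AssociatedPrimes.mem_iff, isAssociatedPrime_iff]
    exact ⟨hQprime, x', hx'⟩
  set q' : Ideal S' := Q.comap (algebraMap S' (p'.Fiber S')) with hq'
  haveI : q'.IsPrime := Ideal.comap_isPrime _ _
  have hover : q'.LiesOver p' := by
    have h1 : Q.LiesOver p' := inferInstance
    constructor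
    rw [h1.over, hq', Ideal.under, Ideal.under, Ideal.comap_comap,
      ← IsScalarTower.algebraMap_eq R' S' (p'.Fiber S')]
  refine ⟨q', inferInstance, hover, ?_, ?_⟩
  · ext s
    rw [Ideal.mem_comap, hq', Ideal.mem_comap]
    change φ s ∈ Q ↔ _
    constructor
    · intro hs
      by_contra hsq
      exact Set.disjoint_left.1 hQ₁disj (hQQ₁ hs) ⟨s, hsq, rfl⟩
    · intro hs
      exact hQmin.1.2 ((hφJ s).2 hs)
  · rw [hq', fiberIdeal_comap]
    exact hQass

end Ascend

section Desc

variable {A B : Type u} [CommRing A] [CommRing B] [Algebra A B] [Algebra.FiniteType A B]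
  (N : Type u) [AddCommGroup N] [Module B N] (p : Ideal A) [p.IsPrime]
  {A' B' N' : Type u} [CommRing A'] [CommRing B'] [Algebra A A'] [Algebra B B'] [Algebra A' B']
  [Algebra A B'] [IsScalarTower A B B'] [IsScalarTower A A' B']
  [AddCommGroup N'] [Module B' N'] [Module B N'] [IsScalarTower B B' N'] [Module A' N']
  [IsScalarTower A' B' N']
  (f : N →ₗ[B] N') (t' t : Ideal A') [t'.IsPrime] [t.IsPrime] (P : Ideal B') [P.IsPrime]
  (G : Type u) [CommRing G] [Algebra A G] [Algebra G A'] [IsScalarTower A G A']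
  [Algebra G B'] [IsScalarTower G A' B'] [IsScalarTower A G B']

/-- Descent of an impurity to an intermediate base ring `G`, given the closure condition over
`G`. -/
theorem isImpurity_descend_of_closure (himp : IsImpurity A B N p A' B' N' f t' t P)
    (hclosG : ∀ (P'' : Ideal (G ⊗[A] B)) [P''.IsPrime],
      P.comap (psi (A := A) (B := B) (B' := B') G).toRingHom ≤ P'' →
      ¬ P''.LiesOver (t.comap (algebraMap G A'))) :
    haveI : (t'.comap (algebraMap G A')).IsPrime := Ideal.comap_isPrime _ _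
    haveI : (t.comap (algebraMap G A')).IsPrime := Ideal.comap_isPrime _ _
    haveI : (P.comap (psi (A := A) (B := B) (B' := B') G).toRingHom).IsPrime :=
      Ideal.comap_isPrime _ _
    IsImpurity A B N p G (G ⊗[A] B) ((G ⊗[A] B) ⊗[B] N) (TensorProduct.mk B (G ⊗[A] B) N 1)
      (t'.comap (algebraMap G A')) (t.comap (algebraMap G A'))
      (P.comap (psi (A := A) (B := B) (B' := B') G).toRingHom) := by
  obtain ⟨hpo, hbc, hle, htp, hPt', hass, hclos⟩ := himp
  haveI := hpo
  haveI := htp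
  haveI := hPt'
  haveI : (t'.comap (algebraMap G A')).IsPrime := Ideal.comap_isPrime _ _
  haveI : (t.comap (algebraMap G A')).IsPrime := Ideal.comap_isPrime _ _
  haveI : (P.comap (psi (A := A) (B := B) (B' := B') G).toRingHom).IsPrime :=
    Ideal.comap_isPrime _ _
  letI algψ : Algebra (G ⊗[A] B) B' := (psi (A := A) (B := B) (B' := B') G).toRingHom.toAlgebra
  have halg : ∀ x : G ⊗[A] B, algebraMap (G ⊗[A] B) B' x = psi (A := A) (B := B) (B' := B') G x :=
    fun _ => rfl
  haveI towG : IsScalarTower G (G ⊗[A] B) B' :=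
    IsScalarTower.of_algebraMap_eq (fun x => by
      rw [halg, Algebra.TensorProduct.algebraMap_apply, psi_tmul, map_one, mul_one]
      rfl)
  haveI towB : IsScalarTower B (G ⊗[A] B) B' :=
    IsScalarTower.of_algebraMap_eq (fun b => by
      rw [halg]
      change _ = psi (A := A) (B := B) (B' := B') G ((1 : G) ⊗ₜ[A] b)
      rw [psi_tmul, map_one, one_mul])
  haveI towA : IsScalarTower A (G ⊗[A] B) B' :=
    IsScalarTower.of_algebraMap_eq (fun a => by
      rw [IsScalarTower.algebraMap_apply A G (G ⊗[A] B),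
        ← IsScalarTower.algebraMap_apply G (G ⊗[A] B) B', ← IsScalarTower.algebraMap_apply A G B'])
  haveI hpo' : Algebra.IsPushout A A' B B' := hpo.symm
  have hpoG : Algebra.IsPushout G A' (G ⊗[A] B) B' :=
    (Algebra.IsPushout.comp_iff A G B (S' := G ⊗[A] B) (T := A') (T' := B')).mp hpo'
  haveI hpoG' : Algebra.IsPushout G (G ⊗[A] B) A' B' := hpoG.symm
  letI modN' : Module (G ⊗[A] B) N' :=
    Module.compHom N' (psi (A := A) (B := B) (B' := B') G).toRingHom
  have hsmul : ∀ (x : G ⊗[A] B) (n : N'), x • n = psi (A := A) (B := B) (B' := B') G x • n :=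
    fun _ _ => rfl
  haveI towN1 : IsScalarTower (G ⊗[A] B) B' N' :=
    IsScalarTower.of_algebraMap_smul (fun x n => by rw [halg, hsmul])
  haveI towN2 : IsScalarTower B (G ⊗[A] B) N' :=
    IsScalarTower.of_algebraMap_smul (fun b n => by
      rw [hsmul]
      change psi (A := A) (B := B) (B' := B') G ((1 : G) ⊗ₜ[A] b) • n = b • n
      rw [psi_tmul, map_one, one_mul, algebraMap_smul])
  have hbcG : IsBaseChange (G ⊗[A] B) (TensorProduct.mk B (G ⊗[A] B) N 1) :=
    TensorProduct.isBaseChange B N (G ⊗[A] B)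
  let f' : (G ⊗[A] B) ⊗[B] N →ₗ[G ⊗[A] B] N' := hbcG.lift f
  have hf'comp : (f'.restrictScalars B).comp (TensorProduct.mk B (G ⊗[A] B) N 1) = f :=
    hbcG.lift_comp f
  have hbc' : IsBaseChange B' f' := by
    refine IsBaseChange.of_comp hbcG ?_
    have : ((f' : (G ⊗[A] B) ⊗[B] N →ₗ[B] N') ∘ₗ (TensorProduct.mk B (G ⊗[A] B) N 1)) = f :=
      hf'comp
    rw [this]
    exact hbc
  haveI : t'.LiesOver (t'.comap (algebraMap G A')) := ⟨rfl⟩
  have hassG := relAss_descend (t'.comap (algebraMap G A')) t' f' hbc' P hass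
  refine ⟨inferInstance, hbcG, Ideal.comap_mono hle, ?_, ?_, hassG, ?_⟩
  · constructor
    rw [Ideal.under, Ideal.comap_comap, ← IsScalarTower.algebraMap_eq A G A']
    exact htp.over
  · constructor
    rw [Ideal.under, Ideal.comap_comap]
    have h1 : (psi (A := A) (B := B) (B' := B') G).toRingHom.comp (algebraMap G (G ⊗[A] B)) =
        algebraMap G B' := (IsScalarTower.algebraMap_eq G (G ⊗[A] B) B').symm
    rw [h1, IsScalarTower.algebraMap_eq G A' B', ← Ideal.comap_comap]
    have h2 : P.comap (algebraMap A' B') = t' := hPt'.over.symm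
    rw [h2]
  · intro P'' hP'' hle'' hover
    exact hclosG P'' hle'' hover

end Desc

section Std

variable {A B : Type u} [CommRing A] [CommRing B] [Algebra A B] [Algebra.FiniteType A B]
  (N : Type u) [AddCommGroup N] [Module B N] (p : Ideal A) [p.IsPrime]
  {A' B' N' : Type u} [CommRing A'] [CommRing B'] [Algebra A A'] [Algebra B B'] [Algebra A' B']
  [Algebra A B'] [IsScalarTower A B B'] [IsScalarTower A A' B']
  [AddCommGroup N'] [Module B' N'] [Module B N'] [IsScalarTower B B' N'] [Module A' N']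
  [IsScalarTower A' B' N']

/-- Changing the primes of the base ring of an impurity along equalities. -/
theorem isImpurity_congr (f : N →ₗ[B] N') {t'₁ t'₂ t₁ t₂ : Ideal A'} [t'₁.IsPrime] [t'₂.IsPrime]
    [t₁.IsPrime] [t₂.IsPrime] (h' : t'₁ = t'₂) (h : t₁ = t₂) (P : Ideal B') [P.IsPrime]
    (himp : IsImpurity A B N p A' B' N' f t'₁ t₁ P) : IsImpurity A B N p A' B' N' f t'₂ t₂ P := by
  subst h' h
  exact himp

/-- The canonical map `A' ⊗[A] B → B'` is surjective when `B'` is a pushout. -/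
theorem psi_surjective [hpo : Algebra.IsPushout A B A' B'] :
    Function.Surjective (psi (A := A) (B := B) (B' := B') A') := by
  intro b'
  refine hpo.out.inductionOn b' (fun b' => ∃ x, psi (A := A) (B := B) (B' := B') A' x = b')
    ⟨0, map_zero _⟩ ?_ ?_ ?_
  · intro a'
    refine ⟨a' ⊗ₜ[A] 1, ?_⟩
    rw [psi_tmul, map_one, mul_one]
    rfl
  · rintro b y ⟨x, rfl⟩
    refine ⟨((1 : A') ⊗ₜ[A] b) * x, ?_⟩
    rw [map_mul, psi_tmul, map_one, one_mul, Algebra.smul_def]
  · rintro y z ⟨x, rfl⟩ ⟨x', rfl⟩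
    exact ⟨x + x', map_add _ _ _⟩

/-- Every impurity can be put in standard form over the same base ring. -/
theorem isImpurity_std (f : N →ₗ[B] N') (t' t : Ideal A') [t'.IsPrime] [t.IsPrime]
    (P : Ideal B') [P.IsPrime] (himp : IsImpurity A B N p A' B' N' f t' t P) :
    ∃ (P₀ : Ideal (A' ⊗[A] B)) (_ : P₀.IsPrime),
      IsImpurity A B N p A' (A' ⊗[A] B) ((A' ⊗[A] B) ⊗[B] N)
        (TensorProduct.mk B (A' ⊗[A] B) N 1) t' t P₀ := by
  have himp' := himp
  obtain ⟨hpo, hbc, hle, htp, hPt', hass, hclos⟩ := himp'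
  haveI := hpo
  set ψ := psi (A := A) (B := B) (B' := B') A' with hψ
  have hsurj : Function.Surjective ψ := psi_surjective
  have hψalg : ∀ a : A', ψ (algebraMap A' (A' ⊗[A] B) a) = algebraMap A' B' a := fun a => by
    rw [Algebra.TensorProduct.algebraMap_apply, hψ, psi_tmul, map_one, mul_one]
    rfl
  have key := isImpurity_descend_of_closure N p f t' t P A' himp (by
    intro P'' hP'' hle'' hover
    have hker : RingHom.ker ψ.toRingHom ≤ P'' := by
      refine le_trans ?_ hle''
      intro x hx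
      rw [Ideal.mem_comap]
      rw [RingHom.mem_ker] at hx
      rw [hx]
      exact P.zero_mem
    haveI hprime : (P''.map ψ.toRingHom).IsPrime := Ideal.map_isPrime_of_surjective hsurj hker
    have hcm : (P''.map ψ.toRingHom).comap ψ.toRingHom = P'' := by
      rw [Ideal.comap_map_of_surjective ψ.toRingHom hsurj, ← RingHom.ker_eq_comap_bot]
      exact sup_eq_left.2 hker
    refine hclos (P''.map ψ.toRingHom) ?_ ⟨?_⟩
    · intro x hx
      obtain ⟨y, rfl⟩ := hsurj x
      exact Ideal.mem_map_of_mem _ (hle'' hx)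
    · ext a
      rw [Ideal.under_def, Ideal.mem_comap]
      have h1 : algebraMap A' B' a = ψ.toRingHom (algebraMap A' (A' ⊗[A] B) a) := (hψalg a).symm
      rw [h1, ← Ideal.mem_comap, hcm]
      have h2 := hover.over
      rw [Ideal.under_def] at h2
      have h3 : t.comap (algebraMap A' A') = t := Ideal.comap_id t
      rw [h3] at h2
      rw [h2, Ideal.mem_comap])
  have e1 : t'.comap (algebraMap A' A') = t' := Ideal.comap_id t'
  have e2 : t.comap (algebraMap A' A') = t := Ideal.comap_id t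
  haveI : (t'.comap (algebraMap A' A')).IsPrime := Ideal.comap_isPrime _ _
  haveI : (t.comap (algebraMap A' A')).IsPrime := Ideal.comap_isPrime _ _
  haveI : (P.comap ψ.toRingHom).IsPrime := Ideal.comap_isPrime _ _
  exact ⟨P.comap ψ.toRingHom, inferInstance,
    isImpurity_congr N p _ e1 e2 (P.comap ψ.toRingHom) key⟩

end Std

section BaseChange

variable {A B : Type u} [CommRing A] [CommRing B] [Algebra A B] [Algebra.FiniteType A B]
  (N : Type u) [AddCommGroup N] [Module B N] (p : Ideal A) [p.IsPrime]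
  (G G₂ : Type u) [CommRing G] [CommRing G₂] [Algebra A G] [Algebra A G₂] [Algebra G G₂]
  [IsScalarTower A G G₂]

/-- The map `G ⊗[A] B → G₂ ⊗[A] B`. -/
noncomputable def phi : G ⊗[A] B →ₐ[A] G₂ ⊗[A] B :=
  Algebra.TensorProduct.map (IsScalarTower.toAlgHom A G G₂) (AlgHom.id A B)

theorem phi_tmul (x : G) (b : B) :
    phi (A := A) (B := B) G G₂ (x ⊗ₜ[A] b) = algebraMap G G₂ x ⊗ₜ[A] b := by
  simp [phi]

variable {G}

/-- Base change of a standard impurity along `G → G₂`, given primes `T' ≤ T` of `G₂` over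
`t' ≤ t`. -/
theorem isImpurity_baseChange (t' t : Ideal G) [t'.IsPrime] [t.IsPrime]
    (P : Ideal (G ⊗[A] B)) [P.IsPrime]
    (himp : IsImpurity A B N p G (G ⊗[A] B) ((G ⊗[A] B) ⊗[B] N)
      (TensorProduct.mk B (G ⊗[A] B) N 1) t' t P)
    (T' T : Ideal G₂) [T'.IsPrime] [T.IsPrime] (hTle : T' ≤ T) [hT't' : T'.LiesOver t']
    [hTt : T.LiesOver t] :
    ∃ (P₂ : Ideal (G₂ ⊗[A] B)) (_ : P₂.IsPrime),
      P₂.comap (phi (A := A) (B := B) G G₂).toRingHom = P ∧
      IsImpurity A B N p G₂ (G₂ ⊗[A] B) ((G₂ ⊗[A] B) ⊗[B] N)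
        (TensorProduct.mk B (G₂ ⊗[A] B) N 1) T' T P₂ := by
  obtain ⟨hpo, hbc, hle, htp, hPt', hass, hclos⟩ := himp
  haveI := htp
  haveI := hPt'
  set φ := phi (A := A) (B := B) G G₂ with hφ
  letI algφ : Algebra (G ⊗[A] B) (G₂ ⊗[A] B) := φ.toRingHom.toAlgebra
  have halg : ∀ x : G ⊗[A] B, algebraMap (G ⊗[A] B) (G₂ ⊗[A] B) x = φ x := fun _ => rfl
  haveI towG : IsScalarTower G (G ⊗[A] B) (G₂ ⊗[A] B) :=
    IsScalarTower.of_algebraMap_eq (fun x => by
      have h1 : algebraMap G (G ⊗[A] B) x = x ⊗ₜ[A] (1 : B) := by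
        rw [Algebra.TensorProduct.algebraMap_apply]
        rfl
      rw [halg, h1, hφ, phi_tmul, Algebra.TensorProduct.algebraMap_apply])
  haveI towB : IsScalarTower B (G ⊗[A] B) (G₂ ⊗[A] B) :=
    IsScalarTower.of_algebraMap_eq (fun b => by
      rw [halg]
      change (1 : G₂) ⊗ₜ[A] b = φ ((1 : G) ⊗ₜ[A] b)
      rw [hφ, phi_tmul, map_one])
  haveI towA : IsScalarTower A (G ⊗[A] B) (G₂ ⊗[A] B) :=
    IsScalarTower.of_algebraMap_eq (fun a => (φ.commutes a).symm)
  have hpoG : Algebra.IsPushout G G₂ (G ⊗[A] B) (G₂ ⊗[A] B) :=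
    (Algebra.IsPushout.comp_iff A G B (S' := G ⊗[A] B) (T := G₂) (T' := G₂ ⊗[A] B)).mp
      inferInstance
  haveI hpoG' : Algebra.IsPushout G (G ⊗[A] B) G₂ (G₂ ⊗[A] B) := hpoG.symm
  haveI towN1 : IsScalarTower (G ⊗[A] B) (G₂ ⊗[A] B) ((G₂ ⊗[A] B) ⊗[B] N) := inferInstance
  haveI towN2 : IsScalarTower B (G ⊗[A] B) ((G₂ ⊗[A] B) ⊗[B] N) :=
    IsScalarTower.of_algebraMap_smul (fun b n => by
      rw [← algebraMap_smul (G₂ ⊗[A] B) (algebraMap B (G ⊗[A] B) b) n,
        ← IsScalarTower.algebraMap_apply B (G ⊗[A] B) (G₂ ⊗[A] B), algebraMap_smul])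
  have hbcG : IsBaseChange (G ⊗[A] B) (TensorProduct.mk B (G ⊗[A] B) N 1) :=
    TensorProduct.isBaseChange B N (G ⊗[A] B)
  have hbcG₂ : IsBaseChange (G₂ ⊗[A] B) (TensorProduct.mk B (G₂ ⊗[A] B) N 1) :=
    TensorProduct.isBaseChange B N (G₂ ⊗[A] B)
  let f' : (G ⊗[A] B) ⊗[B] N →ₗ[G ⊗[A] B] (G₂ ⊗[A] B) ⊗[B] N :=
    hbcG.lift (TensorProduct.mk B (G₂ ⊗[A] B) N 1)
  have hf'comp : (f'.restrictScalars B).comp (TensorProduct.mk B (G ⊗[A] B) N 1) =
      TensorProduct.mk B (G₂ ⊗[A] B) N 1 := hbcG.lift_comp _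
  have hbc' : IsBaseChange (G₂ ⊗[A] B) f' := by
    refine IsBaseChange.of_comp hbcG ?_
    have : ((f' : (G ⊗[A] B) ⊗[B] N →ₗ[B] (G₂ ⊗[A] B) ⊗[B] N) ∘ₗ
        (TensorProduct.mk B (G ⊗[A] B) N 1)) = TensorProduct.mk B (G₂ ⊗[A] B) N 1 := hf'comp
    rw [this]
    exact hbcG₂
  obtain ⟨P₂, hP₂, hP₂T', hP₂P, hassP₂⟩ := relAss_ascend t' T' f' hbc' P hass
  haveI := hP₂
  refine ⟨P₂, hP₂, hP₂P, inferInstance, hbcG₂, hTle, ?_, hP₂T', hassP₂, ?_⟩
  · constructor
    have h1 : T.under A = (T.under G).under A := by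
      rw [Ideal.under_under]
    rw [h1, ← hTt.over]
    exact htp.over
  · intro P'' hP'' hle'' hover
    haveI : (P''.comap φ.toRingHom).IsPrime := Ideal.comap_isPrime _ _
    refine hclos (P''.comap φ.toRingHom) ?_ ⟨?_⟩
    · rw [← hP₂P]
      exact Ideal.comap_mono hle''
    · rw [hTt.over, hover.over, Ideal.under, Ideal.under, Ideal.under, Ideal.comap_comap,
        Ideal.comap_comap]
      congr 1

end BaseChange

section FiniteDescent

variable {A B : Type u} [CommRing A] [CommRing B] [Algebra A B] [Algebra.FiniteType A B]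
  (N : Type u) [AddCommGroup N] [Module B N] (p : Ideal A) [p.IsPrime]
  {A' B' N' : Type u} [CommRing A'] [CommRing B'] [Algebra A A'] [Algebra B B'] [Algebra A' B']
  [Algebra A B'] [IsScalarTower A B B'] [IsScalarTower A A' B']
  [AddCommGroup N'] [Module B' N'] [Module B N'] [IsScalarTower B B' N'] [Module A' N']
  [IsScalarTower A' B' N']
  (f : N →ₗ[B] N') (t' t : Ideal A') [t'.IsPrime] [t.IsPrime] (P : Ideal B') [P.IsPrime]
  (G : Type u) [CommRing G] [Algebra A G] [Algebra G A'] [IsScalarTower A G A']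
  [Algebra G B'] [IsScalarTower G A' B'] [IsScalarTower A G B']

/-- Descent of an impurity along an integral map `G → A'` such that `t` is the only prime of `A'`
above its contraction to `G`. -/
theorem isImpurity_descend_of_isIntegral [Algebra.IsIntegral G A']
    (himp : IsImpurity A B N p A' B' N' f t' t P)
    (huniq : ∀ t₂ : Ideal A', t₂.IsPrime → t₂.comap (algebraMap G A') = t.comap (algebraMap G A') →
      t₂ = t) :
    haveI : (t'.comap (algebraMap G A')).IsPrime := Ideal.comap_isPrime _ _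
    haveI : (t.comap (algebraMap G A')).IsPrime := Ideal.comap_isPrime _ _
    haveI : (P.comap (psi (A := A) (B := B) (B' := B') G).toRingHom).IsPrime :=
      Ideal.comap_isPrime _ _
    IsImpurity A B N p G (G ⊗[A] B) ((G ⊗[A] B) ⊗[B] N) (TensorProduct.mk B (G ⊗[A] B) N 1)
      (t'.comap (algebraMap G A')) (t.comap (algebraMap G A'))
      (P.comap (psi (A := A) (B := B) (B' := B') G).toRingHom) := by
  have himp' := himp
  obtain ⟨hpo, hbc, hle, htp, hPt', hass, hclos⟩ := himp'
  haveI := hpo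
  refine isImpurity_descend_of_closure N p f t' t P G himp ?_
  intro P'' hP'' hle'' hover
  letI algψ : Algebra (G ⊗[A] B) B' := (psi (A := A) (B := B) (B' := B') G).toRingHom.toAlgebra
  have halg : ∀ x : G ⊗[A] B, algebraMap (G ⊗[A] B) B' x = psi (A := A) (B := B) (B' := B') G x :=
    fun _ => rfl
  haveI towG : IsScalarTower G (G ⊗[A] B) B' :=
    IsScalarTower.of_algebraMap_eq (fun x => by
      rw [halg, Algebra.TensorProduct.algebraMap_apply, psi_tmul, map_one, mul_one]
      rfl)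
  haveI towB : IsScalarTower B (G ⊗[A] B) B' :=
    IsScalarTower.of_algebraMap_eq (fun b => by
      rw [halg]
      change _ = psi (A := A) (B := B) (B' := B') G ((1 : G) ⊗ₜ[A] b)
      rw [psi_tmul, map_one, one_mul])
  haveI towA : IsScalarTower A (G ⊗[A] B) B' :=
    IsScalarTower.of_algebraMap_eq (fun a => by
      rw [IsScalarTower.algebraMap_apply A G (G ⊗[A] B),
        ← IsScalarTower.algebraMap_apply G (G ⊗[A] B) B', ← IsScalarTower.algebraMap_apply A G B'])
  haveI hpo' : Algebra.IsPushout A A' B B' := hpo.symm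
  haveI hpoG : Algebra.IsPushout G A' (G ⊗[A] B) B' :=
    (Algebra.IsPushout.comp_iff A G B (S' := G ⊗[A] B) (T := A') (T' := B')).mp hpo'
  have hint0 : (algebraMap G A').IsIntegral := algebraMap_isIntegral_iff.2 inferInstance
  have hint1 : (algebraMap (G ⊗[A] B) B').IsIntegral :=
    RingHom.isIntegral_isStableUnderBaseChange G A' (G ⊗[A] B) B' hint0
  haveI hint : Algebra.IsIntegral (G ⊗[A] B) B' := algebraMap_isIntegral_iff.1 hint1
  obtain ⟨P₃, hPP₃, hP₃, hP₃comap⟩ :=
    Ideal.exists_ideal_over_prime_of_isIntegral_of_isPrime P'' P hle''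
  haveI := hP₃
  -- the prime of `A'` below `P₃`
  set t₂ : Ideal A' := P₃.comap (algebraMap A' B') with ht₂
  haveI : t₂.IsPrime := Ideal.comap_isPrime _ _
  have h1 : t₂.comap (algebraMap G A') = t.comap (algebraMap G A') := by
    rw [ht₂, Ideal.comap_comap, ← IsScalarTower.algebraMap_eq G A' B',
      IsScalarTower.algebraMap_eq G (G ⊗[A] B) B', ← Ideal.comap_comap, hP₃comap]
    exact hover.over.symm
  have h2 : t₂ = t := huniq t₂ inferInstance h1
  exact hclos P₃ hPP₃ ⟨by rw [Ideal.under_def, ← ht₂, h2]⟩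

end FiniteDescent

section Transfer

variable {A B : Type u} [CommRing A] [CommRing B] [Algebra A B] [Algebra.FiniteType A B]
  (N : Type u) [AddCommGroup N] [Module B N] (p : Ideal A) [p.IsPrime]
  {G₁ : Type u} [CommRing G₁] [Algebra A G₁] (R' G₂ : Type u) [CommRing R'] [CommRing G₂]
  [Algebra A R'] [Algebra A G₂] [Algebra G₁ G₂] [Algebra R' G₂] [IsScalarTower A G₁ G₂]
  [IsScalarTower A R' G₂]

/-- Transfer of a standard impurity over `G₁` to one over `R'` through a common algebra `G₂`: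
`G₁ → G₂` has going down, `R' → G₂` is integral and `T` is the only prime of `G₂` above its
contraction to `R'`. -/
theorem exists_isImpurity_transfer [Algebra.HasGoingDown G₁ G₂] [Algebra.IsIntegral R' G₂]
    (t' t : Ideal G₁) [t'.IsPrime] [t.IsPrime] (P : Ideal (G₁ ⊗[A] B)) [P.IsPrime]
    (himp : IsImpurity A B N p G₁ (G₁ ⊗[A] B) ((G₁ ⊗[A] B) ⊗[B] N)
      (TensorProduct.mk B (G₁ ⊗[A] B) N 1) t' t P)
    (T : Ideal G₂) [T.IsPrime] [T.LiesOver t]
    (huniq : ∀ T₂ : Ideal G₂, T₂.IsPrime →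
      T₂.comap (algebraMap R' G₂) = T.comap (algebraMap R' G₂) → T₂ = T) :
    ∃ (τ' : Ideal R') (_ : τ'.IsPrime) (_ : (T.comap (algebraMap R' G₂)).IsPrime)
      (P₃ : Ideal (R' ⊗[A] B)) (_ : P₃.IsPrime),
      IsImpurity A B N p R' (R' ⊗[A] B) ((R' ⊗[A] B) ⊗[B] N)
        (TensorProduct.mk B (R' ⊗[A] B) N 1) τ' (T.comap (algebraMap R' G₂)) P₃ := by
  have hle : t' ≤ t := himp.2.2.1
  obtain ⟨T', hT'le, hT'prime, hT'over⟩ := Ideal.exists_ideal_le_liesOver_of_le (p := t') (q := t)
    T hle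
  haveI := hT'prime
  haveI := hT'over
  obtain ⟨P₂, hP₂, -, himp₂⟩ := isImpurity_baseChange N p G₂ t' t P himp T' T hT'le
  have key := isImpurity_descend_of_isIntegral N p (TensorProduct.mk B (G₂ ⊗[A] B) N 1) T' T P₂ R'
    himp₂ huniq
  exact ⟨T'.comap (algebraMap R' G₂), Ideal.comap_isPrime _ _, Ideal.comap_isPrime _ _,
    P₂.comap (psi (A := A) (B := B) (B' := G₂ ⊗[A] B) R').toRingHom, Ideal.comap_isPrime _ _, key⟩

end Transfer

end Groth.Agent.Lib.Seat6.ImpBC
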