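import Mathlib
import Groth.Prelude.Def_FlatCA
import Groth.Agent.Lib.Seat6FibBC
import Groth.Agent.Lib.Seat6BCInjGlobal

/-!
# A prime isolated in its fibre is a quasi-finite point (seat 6)
-/

set_option autoImplicit false
set_option linter.style.haveILetI false
universe u

namespace Groth.Agent.Lib.Seat6.QFIsolated

open TensorProduct FlatCA Groth.Agent.Lib.Seat6.FibBC Groth.Agent.Lib.Seat6.BCInj

attribute [local instance] Algebra.TensorProduct.rightAlgebra

variable {A E : Type u} [CommRing A] [CommRing E] [Algebra A E] [Algebra.FiniteType A E]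
  (p : Ideal A) [p.IsPrime] (T : Ideal E) [T.IsPrime] [hTp : T.LiesOver p]

/-- The contraction of a prime of the fibre ring is a prime over `p`. -/
theorem liesOver_comap_fiber (𝔮 : Ideal (p.Fiber E)) [𝔮.IsPrime] :
    (𝔮.comap (algebraMap E (p.Fiber E))).LiesOver p := by
  have h1 : 𝔮.LiesOver p := inferInstance
  constructor
  have h2 := h1.over
  rw [Ideal.under_def] at h2 ⊢
  rw [Ideal.comap_comap, ← IsScalarTower.algebraMap_eq A E (p.Fiber E)]
  exact h2

include hTp in
/-- A prime of a finite type algebra which is both maximal and minimal among the primes of its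
fibre is a quasi-finite point. -/
theorem quasiFiniteAt_of_isolated
    (hmax : ∀ T₂ : Ideal E, T₂.IsPrime → T₂.LiesOver p → T ≤ T₂ → T₂ = T)
    (hmin : ∀ T₂ : Ideal E, T₂.IsPrime → T₂.LiesOver p → T₂ ≤ T → T₂ = T) :
    Algebra.QuasiFiniteAt A T := by
  haveI : IsNoetherianRing (p.Fiber E) :=
    Algebra.FiniteType.isNoetherianRing p.ResidueField (p.Fiber E)
  haveI : IsJacobsonRing (p.Fiber E) := isJacobsonRing_of_finiteType (A := p.ResidueField)
  set Q : Ideal (p.Fiber E) := fiberIdeal p T with hQ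
  haveI hQprime : Q.IsPrime := fiberIdeal_isPrime p T
  have hQcomap : Q.comap (algebraMap E (p.Fiber E)) = T := comap_fiberIdeal p T
  have hcontr : ∀ 𝔮 : Ideal (p.Fiber E), 𝔮.IsPrime → 𝔮.comap (algebraMap E (p.Fiber E)) = T →
      𝔮 = Q := by
    intro 𝔮 _ h
    rw [hQ, ← h, fiberIdeal_comap]
  let x : PrimeSpectrum (p.Fiber E) := ⟨Q, hQprime⟩
  have hopen : IsOpen ({x} : Set (PrimeSpectrum (p.Fiber E))) := by
    have tf : IsClosed ({x} : Set (PrimeSpectrum (p.Fiber E))) ∧
        StableUnderGeneralization ({x} : Set (PrimeSpectrum (p.Fiber E))) ↔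
        IsOpen ({x} : Set (PrimeSpectrum (p.Fiber E))) :=
      (PrimeSpectrum.isOpen_singleton_tfae_of_isNoetherian_of_isJacobsonRing x).out 2 0 rfl rfl
    refine tf.1 ⟨?_, ?_⟩
    · rw [PrimeSpectrum.isClosed_singleton_iff_isMaximal]
      obtain ⟨𝔐, h𝔐, hle⟩ := Ideal.exists_le_maximal Q hQprime.ne_top
      haveI : 𝔐.IsPrime := h𝔐.isPrime
      haveI := liesOver_comap_fiber p 𝔐
      have h1 : 𝔐.comap (algebraMap E (p.Fiber E)) = T :=
        hmax _ (Ideal.comap_isPrime _ _) inferInstance (by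
          rw [← hQcomap]; exact Ideal.comap_mono hle)
      have h2 : 𝔐 = Q := hcontr 𝔐 inferInstance h1
      change Q.IsMaximal
      rw [← h2]
      exact h𝔐
    · rw [PrimeSpectrum.stableUnderGeneralization_singleton]
      change Q ∈ minimalPrimes (p.Fiber E)
      refine ⟨⟨hQprime, bot_le⟩, ?_⟩
      rintro 𝔮 ⟨h𝔮, -⟩ hle
      haveI := h𝔮
      haveI := liesOver_comap_fiber p 𝔮
      have h1 : 𝔮.comap (algebraMap E (p.Fiber E)) = T :=
        hmin _ (Ideal.comap_isPrime _ _) inferInstance (by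
          rw [← hQcomap]; exact Ideal.comap_mono hle)
      exact (hcontr 𝔮 inferInstance h1).ge
  haveI : Algebra.QuasiFiniteAt p.ResidueField x.asIdeal :=
    Algebra.QuasiFiniteAt.of_isOpen_singleton (R := p.ResidueField) x hopen
  exact Algebra.QuasiFiniteAt.of_quasiFiniteAt_residueField p T Q hQcomap

end Groth.Agent.Lib.Seat6.QFIsolated
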