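import Mathlib
import Groth.Prelude.Def_FlatCA
import Groth.Agent.Lib.Helper13Fiber
import Groth.Agent.Lib.Seat6FibBC

/-!
# An elementwise form of "relative associated prime" (seat 6)

`LRA q L`: for a `B`-module `M`, a prime `q` of `B` and a submodule `L` of `M` (in practice
`L = pB • M`), the maximal ideal of `B_q` is an associated prime of `(M ⧸ L)_q`, written without
localizations or quotients.

* `fiberIdeal_mem_associatedPrimes_iff_LRA` : the dictionary with the fibre module over `p`;
* `isAssociatedPrime_quot_iff_LRA` : the dictionary with a localization `M'` of `M` at `q`.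
-/

set_option autoImplicit false
set_option linter.style.haveILetI false
universe u

namespace Groth.Agent.Lib.Seat6.RelAssLRA

open TensorProduct FlatCA Groth.Agent.Helper13Fiber Groth.Agent.Lib.Seat6.BCInj
  Groth.Agent.Lib.Seat6.FibBC

/-- Elementwise form of: `q B_q` is an associated prime of `(M ⧸ L)_q`. -/
def LRA {B : Type*} [CommRing B] {M : Type*} [AddCommGroup M] [Module B M] (q : Ideal B)
    (L : Submodule B M) : Prop :=
  ∃ m : M, (∀ u : B, u ∉ q → u • m ∉ L) ∧
    ∀ s ∈ q, ∃ (k : ℕ) (u : B), u ∉ q ∧ (u * s ^ k) • m ∈ L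

section Ring

attribute [local instance] Algebra.TensorProduct.rightAlgebra

variable {A : Type u} [CommRing A] (p : Ideal A) [p.IsPrime] {B : Type u} [CommRing B]
  [Algebra A B] (M : Type u) [AddCommGroup M] [Module B M] [Module A M] [IsScalarTower A B M]

/-- Dictionary between associated primes of the fibre module and `LRA`. -/
theorem fiberIdeal_mem_associatedPrimes_iff_LRA [IsNoetherianRing (p.Fiber B)] (q : Ideal B)
    [hq : q.IsPrime] [hqp : q.LiesOver p] :
    fiberIdeal p q ∈ associatedPrimes (p.Fiber B) (fiberMod p B M) ↔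
      LRA q (p.map (algebraMap A B) • ⊤ : Submodule B M) := by
  have hnotq : ∀ t : A, t ∉ p → algebraMap A B t ∉ q := by
    intro t ht h
    apply ht
    rw [hqp.over]
    exact h
  constructor
  · intro h
    rw [relAss_iff] at h
    obtain ⟨z, hz⟩ := h
    obtain ⟨t, ht, n, htn⟩ := exists_smul_eq_toFiberMod p B M z
    have key : ∀ s : B, s • toFiberMod p B M n = 0 ↔ s ∈ q := by
      intro s
      rw [← htn, smul_comm, smul_eq_zero_iff p B M ht, hz]
    refine ⟨n, fun u hu hmem => ?_, fun s hs => ?_⟩
    · apply hu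
      rw [← key, ← map_smul]
      exact toFiberMod_eq_zero_of_mem p B M hmem
    · have h1 := (key s).2 hs
      rw [smul_toFiberMod_eq_zero_iff] at h1
      obtain ⟨t', ht', hmem⟩ := h1
      refine ⟨1, algebraMap A B t', hnotq t' ht', ?_⟩
      rw [pow_one, mul_smul]
      exact hmem
  · rintro ⟨m, hm1, hm2⟩
    haveI hQ : (fiberIdeal p q).IsPrime := fiberIdeal_isPrime p q
    -- finitely many generators of `Q` coming from `q`
    have hfg : (fiberIdeal p q).FG := (isNoetherianRing_iff_ideal_fg (p.Fiber B)).1 inferInstance _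
    have hspan : fiberIdeal p q = Ideal.span ((algebraMap B (p.Fiber B)) '' (q : Set B)) := rfl
    rw [hspan] at hfg
    obtain ⟨T, hTsub, hTspan⟩ := (Submodule.fg_span_iff_fg_span_finset_subset _).1 hfg
    have hT : ∀ t ∈ T, ∃ s ∈ q, algebraMap B (p.Fiber B) s = t := fun t ht => hTsub ht
    choose! σ hσq hσ using hT
    have hk : ∀ t ∈ T, ∃ (k : ℕ) (u : B), u ∉ q ∧
        (u * σ t ^ k) • m ∈ (p.map (algebraMap A B) • ⊤ : Submodule B M) :=
      fun t ht => hm2 (σ t) (hσq t ht)
    choose! k u hu hku using hk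
    classical
    set U : B := ∏ t ∈ T, u t with hU
    have hUq : U ∉ q := by
      rw [hU]
      intro h
      obtain ⟨t, ht, h'⟩ := (Ideal.IsPrime.prod_mem_iff).1 h
      exact hu t ht h'
    set z' := toFiberMod p B M (U • m) with hz'
    have hann : ∀ c : p.Fiber B, c • z' = 0 → c ∈ fiberIdeal p q := by
      intro c hc
      obtain ⟨v, hv, x, hx⟩ := exists_isUnit_mul_eq_algebraMap p B c
      have h1 : x • z' = 0 := by
        rw [← algebraMap_smul (p.Fiber B) x z', ← hx, mul_smul, hc, smul_zero]
      rw [hz', smul_toFiberMod_eq_zero_iff] at h1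
      obtain ⟨t', ht', hmem⟩ := h1
      have h2 : (algebraMap A B t' * x * U) • m ∈
          (p.map (algebraMap A B) • ⊤ : Submodule B M) := by
        rw [mul_smul, mul_smul]
        exact hmem
      have h3 : algebraMap A B t' * x * U ∈ q := by
        by_contra hcon
        exact hm1 _ hcon h2
      have h4 : x ∈ q := by
        rcases hq.mem_or_mem h3 with h5 | h5
        · rcases hq.mem_or_mem h5 with h6 | h6
          · exact absurd h6 (hnotq t' ht')
          · exact h6
        · exact absurd h5 hUq
      have h5 : algebraMap B (p.Fiber B) x ∈ fiberIdeal p q := Ideal.mem_map_of_mem _ h4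
      obtain ⟨v', hv'⟩ := hv
      have h6 : c = (↑v'⁻¹ : p.Fiber B) * algebraMap B (p.Fiber B) x := by
        rw [← hx, ← hv', ← mul_assoc, Units.inv_mul, one_mul]
      rw [h6]
      exact Ideal.mul_mem_left _ _ h5
    refine ⟨hQ, z', ?_⟩
    apply le_antisymm
    · rw [hspan]
      change Submodule.span (p.Fiber B) _ ≤ _
      rw [hTspan, Submodule.span_le]
      intro t ht
      have ht' : t ∈ T := ht
      change t ∈ (((⊥ : Submodule (p.Fiber B) (fiberMod p B M)).colon {z'}).radical : Ideal _)
      refine ⟨k t, ?_⟩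
      have h0 : (algebraMap B (p.Fiber B) (σ t)) ^ k t • z' = 0 := by
        rw [← map_pow, algebraMap_smul, hz', ← map_smul]
        apply toFiberMod_eq_zero_of_mem
        have h1 : U = (∏ t' ∈ T.erase t, u t') * u t := by
          rw [hU, Finset.prod_erase_mul T u ht']
        have h2 : σ t ^ k t • U • m = (∏ t' ∈ T.erase t, u t') • (u t * σ t ^ k t) • m := by
          rw [h1]
          simp only [smul_smul]
          congr 1
          ring
        rw [h2]
        exact Submodule.smul_mem _ _ (hku t ht')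
      rw [hσ t ht'] at h0
      rw [Submodule.mem_colon_singleton, Submodule.mem_bot]
      exact h0
    · rw [hQ.radical_le_iff]
      intro c hc
      rw [Submodule.mem_colon_singleton, Submodule.mem_bot] at hc
      exact hann c hc

end Ring

section Loc

variable {B : Type*} [CommRing B] (q : Ideal B) [hq : q.IsPrime] (B' : Type*) [CommRing B']
  [Algebra B B'] [IsLocalization.AtPrime B' q] {M : Type*} [AddCommGroup M] [Module B M]
  {M' : Type*} [AddCommGroup M'] [Module B M'] [Module B' M'] [IsScalarTower B B' M']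
  (g : M →ₗ[B] M') [IsLocalizedModule q.primeCompl g]

/-- Membership of `g m` in the extended submodule `J B' • M'`. -/
theorem map_mem_map_smul_top_iff (J : Ideal B) (m : M) :
    g m ∈ (J.map (algebraMap B B') • ⊤ : Submodule B' M') ↔
      ∃ t : B, t ∉ q ∧ t • m ∈ (J • ⊤ : Submodule B M) := by
  have h1 : (J.map (algebraMap B B') • ⊤ : Submodule B' M') =
      (J • ⊤ : Submodule B M).localized' B' q.primeCompl g := by
    rw [Submodule.localized'_smul, Ideal.localized'_eq_map, Submodule.localized'_top]
  rw [h1, Submodule.mem_localized']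
  constructor
  · rintro ⟨n, hn, s, hs⟩
    rw [IsLocalizedModule.mk'_eq_iff] at hs
    have h2 : g n = g (s.1 • m) := by
      rw [hs, map_smul]
      rfl
    obtain ⟨c, hc⟩ := (IsLocalizedModule.eq_iff_exists q.primeCompl g).1 h2
    refine ⟨c.1 * s.1, q.primeCompl.mul_mem c.2 s.2, ?_⟩
    have h3 : (c.1 * s.1) • m = c.1 • n := by
      rw [mul_smul]
      exact hc.symm
    rw [h3]
    exact Submodule.smul_mem _ _ hn
  · rintro ⟨t, ht, hmem⟩
    refine ⟨t • m, hmem, ⟨t, ht⟩, ?_⟩
    rw [IsLocalizedModule.mk'_eq_iff, map_smul]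
    rfl

include g in
/-- The maximal ideal of `B' = B_q` is an associated prime of `M' ⧸ J M'` (`M' = M_q`) iff the
elementwise condition `LRA` holds. -/
theorem isAssociatedPrime_quot_iff_LRA [IsLocalRing B'] (J : Ideal B) :
    IsAssociatedPrime (IsLocalRing.maximalIdeal B')
        (M' ⧸ (J.map (algebraMap B B') • ⊤ : Submodule B' M')) ↔
      LRA q (J • ⊤ : Submodule B M) := by
  set L' : Submodule B' M' := J.map (algebraMap B B') • ⊤ with hL'
  have hmk : ∀ (b' : B') (y : M'), b' • (Submodule.Quotient.mk y : M' ⧸ L') = 0 ↔ b' • y ∈ L' := by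
    intro b' y
    rw [← Submodule.Quotient.mk_smul, Submodule.Quotient.mk_eq_zero]
  constructor
  · rintro ⟨-, w, hw⟩
    obtain ⟨y, rfl⟩ := Submodule.Quotient.mk_surjective _ w
    obtain ⟨⟨m, t⟩, hmt⟩ := IsLocalizedModule.surj q.primeCompl g y
    have hmt' : g m = algebraMap B B' t.1 • y := by
      rw [algebraMap_smul]
      exact hmt.symm
    refine ⟨m, fun u hu hmem => ?_, fun s hs => ?_⟩
    · have h1 : g (u • m) ∈ L' :=
        (map_mem_map_smul_top_iff q B' g J (u • m)).2
          ⟨1, fun h => hq.ne_top ((Ideal.eq_top_iff_one q).2 h), by rwa [one_smul]⟩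
      rw [map_smul, hmt', ← algebraMap_smul B' u, smul_smul, ← map_mul] at h1
      have h2 : algebraMap B B' (u * t.1) ∈ (⊥ : Submodule B' (M' ⧸ L')).colon {Submodule.Quotient.mk y} := by
        rw [Submodule.mem_colon_singleton, Submodule.mem_bot, hmk]
        exact h1
      have h3 : algebraMap B B' (u * t.1) ∈ IsLocalRing.maximalIdeal B' := by
        rw [hw]
        exact Ideal.le_radical h2
      rw [IsLocalization.AtPrime.to_map_mem_maximal_iff B' q] at h3
      rcases hq.mem_or_mem h3 with h4 | h4
      · exact hu h4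
      · exact t.2 h4
    · have h1 : algebraMap B B' s ∈ IsLocalRing.maximalIdeal B' :=
        (IsLocalization.AtPrime.to_map_mem_maximal_iff B' q s).2 hs
      rw [hw] at h1
      obtain ⟨k, hk⟩ := h1
      rw [Submodule.mem_colon_singleton, Submodule.mem_bot, hmk] at hk
      have h2 : g (s ^ k • m) ∈ L' := by
        rw [map_smul, hmt', ← algebraMap_smul B' (s ^ k), smul_smul, map_pow, mul_comm, ← smul_smul]
        exact Submodule.smul_mem _ _ hk
      obtain ⟨t', ht', hmem⟩ := (map_mem_map_smul_top_iff q B' g J (s ^ k • m)).1 h2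
      refine ⟨k, t', ht', ?_⟩
      rw [mul_smul]
      exact hmem
  · rintro ⟨m, hm1, hm2⟩
    refine ⟨inferInstance, Submodule.Quotient.mk (g m), ?_⟩
    apply le_antisymm
    · intro b hb
      obtain ⟨⟨s, t⟩, hst⟩ := IsLocalization.surj q.primeCompl b
      have hs : s ∈ q := by
        rw [← IsLocalization.AtPrime.to_map_mem_maximal_iff B' q, ← hst]
        exact Ideal.mul_mem_right _ _ hb
      obtain ⟨k, u, hu, hmem⟩ := hm2 s hs
      have h1 : g ((u * s ^ k) • m) ∈ L' :=
        (map_mem_map_smul_top_iff q B' g J _).2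
          ⟨1, fun h => hq.ne_top ((Ideal.eq_top_iff_one q).2 h), by rwa [one_smul]⟩
      rw [map_smul, ← algebraMap_smul B' (u * s ^ k), map_mul, map_pow] at h1
      have hu' : IsUnit (algebraMap B B' u) :=
        (IsLocalization.AtPrime.isUnit_to_map_iff B' q u).2 hu
      have ht' : IsUnit (algebraMap B B' t.1 ^ k) :=
        ((IsLocalization.AtPrime.isUnit_to_map_iff B' q t.1).2 t.2).pow k
      obtain ⟨uu, huu⟩ := hu'
      obtain ⟨tt, htt⟩ := ht'
      have h2 : b ^ k • g m = ((↑uu⁻¹ : B') * (↑tt⁻¹ : B')) •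
          ((algebraMap B B' u * algebraMap B B' s ^ k) • g m) := by
        rw [smul_smul]
        congr 1
        rw [← hst, mul_pow, ← huu, ← htt]
        have e1 : (↑uu⁻¹ : B') * ↑uu = 1 := Units.inv_mul uu
        have e2 : (↑tt⁻¹ : B') * ↑tt = 1 := Units.inv_mul tt
        calc b ^ k = b ^ k * ((↑uu⁻¹ : B') * ↑uu) * ((↑tt⁻¹ : B') * ↑tt) := by
              rw [e1, e2, mul_one, mul_one]
          _ = ↑uu⁻¹ * ↑tt⁻¹ * (↑uu * (b ^ k * ↑tt)) := by ring
      refine ⟨k, ?_⟩
      rw [Submodule.mem_colon_singleton, Submodule.mem_bot, hmk, h2]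
      exact Submodule.smul_mem _ _ h1
    · rw [(inferInstance : (IsLocalRing.maximalIdeal B').IsPrime).radical_le_iff]
      apply IsLocalRing.le_maximalIdeal
      intro htop
      have h1 : (1 : B') ∈ (⊥ : Submodule B' (M' ⧸ L')).colon {Submodule.Quotient.mk (g m)} := by
        rw [htop]
        exact Submodule.mem_top
      rw [Submodule.mem_colon_singleton, Submodule.mem_bot, hmk, one_smul] at h1
      obtain ⟨t, ht, hmem⟩ := (map_mem_map_smul_top_iff q B' g J m).1 h1
      exact hm1 t ht hmem

end Loc

end Groth.Agent.Lib.Seat6.RelAssLRA
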