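import Mathlib
import Groth.Prelude.Def_FlatCA
import Groth.Agent.Lib.Helper13Fiber
import Groth.Agent.Lib.Helper2GenFree
import Groth.Agent.Lib.Seat6FibBC
import Groth.Agent.Lib.Seat6FreeAwayTools

/-!
# Spreading relative associated primes from the generic fibre: domain case (seat 6)

`A` a domain, `B` a finite type `A`-algebra, `M` a finite `B`-module.
* `relAss_of_minimal` : if `q₀` (over `0`) is an associated prime of the generic fibre module, then
  over a nonempty open every prime which is minimal over `q₀` in its fibre is a relative associated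
  prime;
* `exists_relAss_over` : and such primes exist in every fibre over that open;
* `not_relAss_of_le` : if no relative associated prime of the generic fibre contains `I`, the same
  holds over a nonempty open.
-/

set_option autoImplicit false
set_option linter.style.haveILetI false
universe u

namespace Groth.Agent.Lib.Seat6.RelAssGen

open TensorProduct FlatCA Groth.Agent.Helper13Fiber Groth.Agent.Lib.Seat6.BCInj
  Groth.Agent.Lib.Seat6.FibBC Groth.Agent.Lib.Helper2.GenFree Groth.Agent.Lib.Seat6.FreeAwayTools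

attribute [local instance] Algebra.TensorProduct.rightAlgebra

variable {A : Type u} [CommRing A] [IsDomain A] {B : Type u} [CommRing B] [Algebra A B]
  [Algebra.FiniteType A B] (M : Type u) [AddCommGroup M] [Module B M] [Module A M]
  [IsScalarTower A B M] [Module.Finite B M]

/-- A generator of a copy of `B ⧸ q₀` in the generic fibre, chosen in `M`. -/
theorem exists_good_gen (q₀ : Ideal B) [hq₀ : q₀.IsPrime] [hq₀0 : q₀.LiesOver (⊥ : Ideal A)]
    (h : fiberIdeal (⊥ : Ideal A) q₀ ∈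
      associatedPrimes ((⊥ : Ideal A).Fiber B) (fiberMod (⊥ : Ideal A) B M)) :
    ∃ m : M, ∀ s : B, s ∈ q₀ ↔ ∃ t : A, t ≠ 0 ∧ t • s • m = 0 := by
  haveI : IsNoetherianRing ((⊥ : Ideal A).Fiber B) :=
    Algebra.FiniteType.isNoetherianRing (⊥ : Ideal A).ResidueField ((⊥ : Ideal A).Fiber B)
  rw [relAss_iff] at h
  obtain ⟨z, hz⟩ := h
  obtain ⟨t₁, ht₁, n, htn⟩ := exists_smul_eq_toFiberMod (⊥ : Ideal A) B M z
  refine ⟨n, fun s => ?_⟩
  have key : s • toFiberMod (⊥ : Ideal A) B M n = 0 ↔ s ∈ q₀ := by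
    rw [← htn, smul_comm, smul_eq_zero_iff (⊥ : Ideal A) B M ht₁, hz]
  rw [← key, smul_toFiberMod_eq_zero_iff]
  constructor
  · rintro ⟨t, ht, hmem⟩
    rw [Ideal.map_bot, Submodule.bot_smul, Submodule.mem_bot, algebraMap_smul] at hmem
    exact ⟨t, fun h0 => ht (h0 ▸ Ideal.zero_mem _), hmem⟩
  · rintro ⟨t, ht, hmem⟩
    refine ⟨t, fun h0 => ht ((Ideal.mem_bot).1 h0), ?_⟩
    rw [Ideal.map_bot, Submodule.bot_smul, Submodule.mem_bot, algebraMap_smul]
    exact hmem

/-- Stacks 05F? (ring form, domain case): spreading associated points of the generic fibre. -/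
theorem relAss_of_minimal (q₀ : Ideal B) [hq₀ : q₀.IsPrime] [hq₀0 : q₀.LiesOver (⊥ : Ideal A)]
    (h : fiberIdeal (⊥ : Ideal A) q₀ ∈
      associatedPrimes ((⊥ : Ideal A).Fiber B) (fiberMod (⊥ : Ideal A) B M)) :
    ∃ a : A, a ≠ 0 ∧ ∀ (p : Ideal A) [p.IsPrime] (q : Ideal B) [q.IsPrime] [q.LiesOver p],
      a ∉ p → q₀ ≤ q →
      (∀ q' : Ideal B, q'.IsPrime → q'.LiesOver p → q₀ ≤ q' → q' ≤ q → q' = q) →
      fiberIdeal p q ∈ associatedPrimes (p.Fiber B) (fiberMod p B M) := by
  obtain ⟨m, hm⟩ := exists_good_gen M q₀ h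
  set N : Submodule B M := Submodule.span B {m} with hN
  obtain ⟨a₁, ha₁, -, hM, -, -⟩ := exists_freeAway A B M
  obtain ⟨a₂, ha₂, -, hMN, -, -⟩ := exists_freeAway A B (M ⧸ N)
  refine ⟨a₁ * a₂, mul_ne_zero ha₁ ha₂, ?_⟩
  intro p hp q hq hqp hap hq₀q hmin
  have hM' : FreeAway A (a₁ * a₂) M := hM.mul_right a₂
  have hMN' : FreeAway A (a₁ * a₂) (M ⧸ N) := hMN.mul_left a₁
  set a := a₁ * a₂ with ha
  haveI : IsNoetherianRing (p.Fiber B) :=
    Algebra.FiniteType.isNoetherianRing p.ResidueField (p.Fiber B)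
  have hapow : ∀ k : ℕ, a ^ k ∉ p := fun k hk => hap (hp.mem_of_pow_mem k hk)
  -- (E1)
  have hE1 : ∀ b ∈ q₀, ∃ k : ℕ, a ^ k • b • m = 0 := by
    intro b hb
    obtain ⟨t, ht, htb⟩ := (hm b).1 hb
    exact exists_pow_smul_eq_zero hM' ht htb
  set mp := toFiberMod p B M m with hmp
  -- the annihilator of `mp`
  have hann : ∀ c : p.Fiber B, c • mp = 0 ↔ c ∈ fiberIdeal p q₀ := by
    intro c
    constructor
    · intro hc
      obtain ⟨v, hv, x, hx⟩ := exists_isUnit_mul_eq_algebraMap p B c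
      have h1 : x • mp = 0 := by
        rw [← algebraMap_smul (p.Fiber B) x mp, ← hx, mul_smul, hc, smul_zero]
      rw [hmp, smul_toFiberMod_eq_zero_iff] at h1
      obtain ⟨t', ht', hmem⟩ := h1
      set y : M := algebraMap A B t' • x • m with hy
      have hyN : y ∈ N := N.smul_mem _ (N.smul_mem _ (Submodule.subset_span rfl))
      have hyP : y ∈ (p • ⊤ : Submodule A M) := by
        rw [smul_top_eq_restrictScalars p B M, Submodule.restrictScalars_mem]
        exact hmem
      let π : M →ₗ[A] M ⧸ N := (N.mkQ).restrictScalars A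
      have hπ : Function.Surjective π := N.mkQ_surjective
      have hkerπ : ∀ w : M, w ∈ LinearMap.ker π ↔ w ∈ N := by
        intro w
        rw [LinearMap.mem_ker]
        exact Submodule.Quotient.mk_eq_zero N
      obtain ⟨n, hn⟩ := exists_pow_smul_mem_smul_ker π hπ hMN' p ((hkerπ y).2 hyN) hyP
      have hker : ∀ w ∈ (p • LinearMap.ker π : Submodule A M),
          ∃ c' ∈ p.map (algebraMap A B), w = c' • m := by
        intro w hw
        refine Submodule.smul_induction_on hw ?_ ?_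
        · intro r hr n' hn'
          obtain ⟨b', rfl⟩ := Submodule.mem_span_singleton.1 ((hkerπ n').1 hn')
          refine ⟨algebraMap A B r * b', Ideal.mul_mem_right _ _ (Ideal.mem_map_of_mem _ hr), ?_⟩
          rw [mul_smul, algebraMap_smul]
        · rintro w₁ w₂ ⟨c₁, hc₁, rfl⟩ ⟨c₂, hc₂, rfl⟩
          exact ⟨c₁ + c₂, add_mem hc₁ hc₂, (add_smul _ _ _).symm⟩
      obtain ⟨c', hc', hc'eq⟩ := hker _ hn
      have h2 : (algebraMap A B (a ^ n * t') * x - c') • m = 0 := by
        rw [sub_smul, ← hc'eq, map_mul, mul_smul, mul_smul, algebraMap_smul B (a ^ n)]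
        exact sub_self _
      have h3 : algebraMap A B (a ^ n * t') * x - c' ∈ q₀ :=
        (hm _).2 ⟨1, one_ne_zero, by rw [one_smul]; exact h2⟩
      have h4 : algebraMap B (p.Fiber B) (algebraMap A B (a ^ n * t')) *
          algebraMap B (p.Fiber B) x ∈ fiberIdeal p q₀ := by
        have := Ideal.mem_map_of_mem (algebraMap B (p.Fiber B)) h3
        rw [map_sub, map_mul, algebraMap_eq_zero_of_mem p B hc', sub_zero] at this
        exact this
      have hunit : IsUnit (algebraMap B (p.Fiber B) (algebraMap A B (a ^ n * t'))) :=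
        isUnit_algebraMap p B (fun hmem => by
          rcases hp.mem_or_mem hmem with h5 | h5
          · exact hapow n h5
          · exact ht' h5)
      have h5 : algebraMap B (p.Fiber B) x ∈ fiberIdeal p q₀ :=
        (Ideal.unit_mul_mem_iff_mem _ hunit).1 h4
      rw [← hx] at h5
      exact (Ideal.unit_mul_mem_iff_mem _ hv).1 h5
    · intro hc
      have hle : fiberIdeal p q₀ ≤ (⊥ : Submodule (p.Fiber B) (fiberMod p B M)).colon {mp} := by
        change Ideal.map _ _ ≤ _
        rw [Ideal.map_le_iff_le_comap]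
        intro b hb
        rw [Ideal.mem_comap]
        change algebraMap B (p.Fiber B) b ∈ _
        rw [Submodule.mem_colon_singleton, Submodule.mem_bot, algebraMap_smul, hmp, ← map_smul]
        obtain ⟨k, hk⟩ := hE1 b hb
        rw [← smul_eq_zero_iff p B M (hapow k), ← map_smul, algebraMap_smul, hk, map_zero]
      have := hle hc
      rwa [Submodule.mem_colon_singleton, Submodule.mem_bot] at this
  -- minimality
  have hQ₀Q : fiberIdeal p q₀ ≤ fiberIdeal p q := Ideal.map_mono hq₀q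
  haveI hQprime : (fiberIdeal p q).IsPrime := fiberIdeal_isPrime p q
  have hQmin : fiberIdeal p q ∈ (fiberIdeal p q₀).minimalPrimes := by
    refine ⟨⟨hQprime, hQ₀Q⟩, ?_⟩
    rintro Q' ⟨hQ'prime, hQ₀Q'⟩ hQ'Q
    haveI := hQ'prime
    set q' : Ideal B := Q'.comap (algebraMap B (p.Fiber B)) with hq'
    haveI : q'.IsPrime := Ideal.comap_isPrime _ _
    haveI : q'.LiesOver p := by
      have h1 : Q'.LiesOver p := inferInstance
      constructor
      rw [h1.over, hq', Ideal.under, Ideal.under, Ideal.comap_comap,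
        ← IsScalarTower.algebraMap_eq A B (p.Fiber B)]
    have h1 : q₀ ≤ q' := fun b hb => hQ₀Q' (Ideal.mem_map_of_mem _ hb)
    have h2 : q' ≤ q := by
      rw [← comap_fiberIdeal p q]
      exact Ideal.comap_mono hQ'Q
    have h3 := hmin q' inferInstance inferInstance h1 h2
    rw [← h3, hq', fiberIdeal_comap]
  -- the cyclic submodule generated by `mp`
  set Np : Submodule (p.Fiber B) (fiberMod p B M) := Submodule.span (p.Fiber B) {mp} with hNp
  have hannNp : Module.annihilator (p.Fiber B) Np = fiberIdeal p q₀ := by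
    ext c
    rw [Module.mem_annihilator]
    constructor
    · intro hc
      rw [← hann]
      have := hc ⟨mp, Submodule.subset_span rfl⟩
      exact congrArg Subtype.val this
    · rintro hc ⟨n, hn⟩
      obtain ⟨d, rfl⟩ := Submodule.mem_span_singleton.1 hn
      apply Subtype.ext
      change c • d • mp = 0
      rw [smul_comm, (hann c).2 hc, smul_zero]
  have h6 : fiberIdeal p q ∈ associatedPrimes (p.Fiber B) Np := by
    apply Module.associatedPrimes.minimalPrimes_annihilator_subset_associatedPrimes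
    rw [hannNp]
    exact hQmin
  exact associatedPrimes.subset_of_injective (f := Np.subtype) Np.injective_subtype h6

/-- The kernel of `B → κ(p) ⊗ B`. -/
theorem exists_mul_mem_of_algebraMap_eq_zero (p : Ideal A) [p.IsPrime] (x : B)
    (hx : algebraMap B (p.Fiber B) x = 0) :
    ∃ t : A, t ∉ p ∧ algebraMap A B t * x ∈ p.map (algebraMap A B) := by
  have h1 : (1 : p.ResidueField) ⊗ₜ[A] x = 0 := hx
  obtain ⟨t, ht, hmem⟩ := exists_smul_mem_of_tmul_eq_zero p x h1
  refine ⟨t, ht, ?_⟩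
  rw [Ideal.smul_top_eq_map, Submodule.restrictScalars_mem, Algebra.smul_def] at hmem
  exact hmem

omit [IsDomain A] [Algebra.FiniteType A B] in
/-- Primes of the fibre ring containing `fiberIdeal p q₀`, minimal such, contract to primes of `B`
minimal in the fibre over `q₀`. -/
theorem comap_minimal (p : Ideal A) [p.IsPrime] (q₀ : Ideal B) (Q : Ideal (p.Fiber B))
    (hQ : Q ∈ (fiberIdeal p q₀).minimalPrimes) :
    ∃ (q : Ideal B) (_ : q.IsPrime) (_ : q.LiesOver p), q₀ ≤ q ∧ fiberIdeal p q = Q ∧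
      ∀ q' : Ideal B, q'.IsPrime → q'.LiesOver p → q₀ ≤ q' → q' ≤ q → q' = q := by
  haveI hQprime : Q.IsPrime := hQ.1.1
  set q : Ideal B := Q.comap (algebraMap B (p.Fiber B)) with hq
  haveI : q.IsPrime := Ideal.comap_isPrime _ _
  haveI hqp : q.LiesOver p := by
    have h1 : Q.LiesOver p := inferInstance
    constructor
    rw [h1.over, hq, Ideal.under, Ideal.under, Ideal.comap_comap,
      ← IsScalarTower.algebraMap_eq A B (p.Fiber B)]
  have hqQ : fiberIdeal p q = Q := by rw [hq, fiberIdeal_comap]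
  refine ⟨q, inferInstance, hqp, fun b hb => hQ.1.2 (Ideal.mem_map_of_mem _ hb), hqQ, ?_⟩
  intro q' hq' hq'p hq₀q' hq'q
  haveI := hq'
  haveI := hq'p
  haveI : (fiberIdeal p q').IsPrime := fiberIdeal_isPrime p q'
  have h1 : fiberIdeal p q₀ ≤ fiberIdeal p q' := Ideal.map_mono hq₀q'
  have h2 : fiberIdeal p q' ≤ Q := by
    rw [← hqQ]
    exact Ideal.map_mono hq'q
  have h3 : Q ≤ fiberIdeal p q' := hQ.2 ⟨inferInstance, h1⟩ h2
  have h4 : fiberIdeal p q' = Q := le_antisymm h2 h3
  rw [← comap_fiberIdeal p q', h4]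

/-- Existence of relative associated primes above `q₀` in the fibres over a nonempty open. -/
theorem exists_relAss_over (q₀ : Ideal B) [hq₀ : q₀.IsPrime] [hq₀0 : q₀.LiesOver (⊥ : Ideal A)]
    (h : fiberIdeal (⊥ : Ideal A) q₀ ∈
      associatedPrimes ((⊥ : Ideal A).Fiber B) (fiberMod (⊥ : Ideal A) B M)) :
    ∃ a : A, a ≠ 0 ∧ ∀ (p : Ideal A) [p.IsPrime], a ∉ p →
      ∃ (q : Ideal B) (_ : q.IsPrime) (_ : q.LiesOver p), q₀ ≤ q ∧
        fiberIdeal p q ∈ associatedPrimes (p.Fiber B) (fiberMod p B M) := by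
  obtain ⟨a₁, ha₁, H⟩ := relAss_of_minimal M q₀ h
  obtain ⟨a₃, ha₃, -, hD, -, -⟩ := exists_freeAway A B (B ⧸ q₀)
  refine ⟨a₁ * a₃, mul_ne_zero ha₁ ha₃, ?_⟩
  intro p hp hap
  have ha₁p : a₁ ∉ p := fun h1 => hap (Ideal.mul_mem_right _ _ h1)
  have ha₃p : a₃ ∉ p := fun h1 => hap (Ideal.mul_mem_left _ _ h1)
  have hinj : Function.Injective (algebraMap A (B ⧸ q₀)) := by
    rw [injective_iff_map_eq_zero]
    intro x hx
    have h1 : algebraMap A B x ∈ q₀ := by
      rw [IsScalarTower.algebraMap_apply A B (B ⧸ q₀), Ideal.Quotient.algebraMap_eq,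
        Ideal.Quotient.eq_zero_iff_mem] at hx
      exact hx
    have h2 : x ∈ q₀.under A := h1
    rw [← hq₀0.over, Ideal.mem_bot] at h2
    exact h2
  have hne : fiberIdeal p q₀ ≠ ⊤ := by
    intro htop
    have h1 : (1 : p.Fiber B) ∈ q₀.map (algebraMap B (p.Fiber B)) := by
      change (1 : p.Fiber B) ∈ fiberIdeal p q₀
      rw [htop]
      exact Submodule.mem_top
    obtain ⟨r, hr, b, hb, hrb⟩ := exists_mul_eq_algebraMap_of_mem_map p B q₀ 1 h1
    rw [mul_one] at hrb
    have h2 : algebraMap B (p.Fiber B) (algebraMap A B r - b) = 0 := by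
      rw [map_sub, hrb, sub_self]
    obtain ⟨t, ht, hmem⟩ := exists_mul_mem_of_algebraMap_eq_zero p _ h2
    have h3 : Ideal.Quotient.mk q₀ (algebraMap A B t * (algebraMap A B r - b)) ∈
        p.map (algebraMap A (B ⧸ q₀)) := by
      have := Ideal.mem_map_of_mem (Ideal.Quotient.mk q₀) hmem
      rw [Ideal.map_map] at this
      exact this
    have h4 : Ideal.Quotient.mk q₀ (algebraMap A B t * (algebraMap A B r - b)) =
        algebraMap A (B ⧸ q₀) (t * r) := by
      rw [map_mul, map_sub, Ideal.Quotient.eq_zero_iff_mem.2 hb, sub_zero, map_mul,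
        IsScalarTower.algebraMap_apply A B (B ⧸ q₀), IsScalarTower.algebraMap_apply A B (B ⧸ q₀),
        Ideal.Quotient.algebraMap_eq]
    rw [h4] at h3
    exact algebraMap_not_mem_map hinj hD p ha₃p
      (fun h5 => (hp.mem_or_mem h5).elim ht hr) h3
  obtain ⟨Q, hQ⟩ := Ideal.nonempty_minimalPrimes hne
  obtain ⟨q, hq, hqp, hq₀q, hqQ, hmin⟩ := comap_minimal p q₀ Q hQ
  haveI := hq
  haveI := hqp
  exact ⟨q, hq, hqp, hq₀q, H p q ha₁p hq₀q hmin⟩

/-- If no relative associated prime of the generic fibre contains `I`, the same holds in the fibres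
over a nonempty open. -/
theorem not_relAss_of_le (I : Ideal B)
    (h : ∀ (q : Ideal B) [q.IsPrime] [q.LiesOver (⊥ : Ideal A)], I ≤ q →
      fiberIdeal (⊥ : Ideal A) q ∉
        associatedPrimes ((⊥ : Ideal A).Fiber B) (fiberMod (⊥ : Ideal A) B M)) :
    ∃ a : A, a ≠ 0 ∧ ∀ (p : Ideal A) [p.IsPrime], a ∉ p →
      ∀ (q : Ideal B) [q.IsPrime] [q.LiesOver p], I ≤ q →
        fiberIdeal p q ∉ associatedPrimes (p.Fiber B) (fiberMod p B M) := by
  classical
  -- Step 1: an element of `I` acting injectively on the generic fibre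
  haveI : IsNoetherianRing ((⊥ : Ideal A).Fiber B) :=
    Algebra.FiniteType.isNoetherianRing (⊥ : Ideal A).ResidueField ((⊥ : Ideal A).Fiber B)
  haveI : Module.Finite ((⊥ : Ideal A).Fiber B) (fiberMod (⊥ : Ideal A) B M) :=
    inferInstanceAs (Module.Finite ((⊥ : Ideal A).Fiber B) (((⊥ : Ideal A).Fiber B) ⊗[B] M))
  set I' : Ideal ((⊥ : Ideal A).Fiber B) := I.map (algebraMap B ((⊥ : Ideal A).Fiber B)) with hI'
  have hcase : ¬ ∃ 𝔮 ∈ associatedPrimes ((⊥ : Ideal A).Fiber B) (fiberMod (⊥ : Ideal A) B M),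
      I' ≤ 𝔮 := by
    rintro ⟨𝔮, h𝔮, hle⟩
    haveI : 𝔮.IsPrime := h𝔮.isPrime
    set q : Ideal B := 𝔮.comap (algebraMap B ((⊥ : Ideal A).Fiber B)) with hq
    haveI : q.IsPrime := Ideal.comap_isPrime _ _
    haveI : q.LiesOver (⊥ : Ideal A) := by
      have h1 : 𝔮.LiesOver (⊥ : Ideal A) := inferInstance
      constructor
      rw [h1.over, hq, Ideal.under, Ideal.under, Ideal.comap_comap,
        ← IsScalarTower.algebraMap_eq A B ((⊥ : Ideal A).Fiber B)]
    have hIq : I ≤ q := by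
      rw [hq, ← Ideal.map_le_iff_le_comap]
      exact hle
    apply h q hIq
    rw [hq, fiberIdeal_comap]
    exact h𝔮
  have hfin := associatedPrimes.finite ((⊥ : Ideal A).Fiber B) (fiberMod (⊥ : Ideal A) B M)
  have havoid : ¬ ((I' : Set ((⊥ : Ideal A).Fiber B)) ⊆
      ⋃ 𝔮 ∈ associatedPrimes ((⊥ : Ideal A).Fiber B) (fiberMod (⊥ : Ideal A) B M),
        (𝔮 : Set ((⊥ : Ideal A).Fiber B))) := by
    intro hsub
    have hsub' : ((I' : Set ((⊥ : Ideal A).Fiber B)) ⊆
        ⋃ 𝔮 ∈ (↑hfin.toFinset : Set (Ideal ((⊥ : Ideal A).Fiber B))),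
          ((id 𝔮 : Ideal ((⊥ : Ideal A).Fiber B)) : Set _)) := by
      simpa using hsub
    obtain ⟨a₀, -⟩ : ∃ a₀ : Ideal ((⊥ : Ideal A).Fiber B), True := ⟨⊥, trivial⟩
    rw [Ideal.subset_union_prime a₀ a₀ (fun i hi _ _ => by
      rw [Set.Finite.mem_toFinset] at hi; exact hi.isPrime)] at hsub'
    obtain ⟨𝔮, h𝔮, hle⟩ := hsub'
    rw [Set.Finite.mem_toFinset] at h𝔮
    exact hcase ⟨𝔮, h𝔮, hle⟩
  rw [Set.not_subset] at havoid
  obtain ⟨ā, hā, hāreg⟩ := havoid
  rw [biUnion_associatedPrimes_eq_zero_divisors] at hāreg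
  have hāreg' : ∀ z : fiberMod (⊥ : Ideal A) B M, ā • z = 0 → z = 0 := by
    intro z hz
    by_contra hz0
    exact hāreg ⟨z, hz0, hz⟩
  obtain ⟨r, hr, g₀, hg₀, hrg⟩ := exists_mul_eq_algebraMap_of_mem_map (⊥ : Ideal A) B I ā hā
  have hg₀reg : ∀ z : fiberMod (⊥ : Ideal A) B M, g₀ • z = 0 → z = 0 := by
    intro z hz
    apply hāreg'
    rw [← algebraMap_smul ((⊥ : Ideal A).Fiber B) g₀ z, ← hrg, mul_smul] at hz
    exact (isUnit_algebraMap (⊥ : Ideal A) B hr).smul_left_cancel.mp (by rw [hz, smul_zero])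
  have hgeninj : ∀ x : M, g₀ • x = 0 → ∃ t : A, t ≠ 0 ∧ t • x = 0 := by
    intro x hx
    have h1 : g₀ • toFiberMod (⊥ : Ideal A) B M x = 0 := by
      rw [← map_smul, hx, map_zero]
    have h2 := hg₀reg _ h1
    rw [toFiberMod_eq_zero_iff] at h2
    obtain ⟨t, ht, hmem⟩ := h2
    rw [Ideal.map_bot, Submodule.bot_smul, Submodule.mem_bot, algebraMap_smul] at hmem
    exact ⟨t, fun h0 => ht (h0 ▸ Ideal.zero_mem _), hmem⟩
  -- Step 2: generic freeness
  let μ : M →ₗ[B] M := LinearMap.lsmul B M g₀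
  set N : Submodule B M := LinearMap.range μ with hN
  have hNmem : ∀ w : M, w ∈ N ↔ ∃ x : M, g₀ • x = w := fun w => LinearMap.mem_range
  obtain ⟨a₁, ha₁, -, hM, -, -⟩ := exists_freeAway A B M
  obtain ⟨a₂, ha₂, -, hMN, -, -⟩ := exists_freeAway A B (M ⧸ N)
  refine ⟨a₁ * a₂, mul_ne_zero ha₁ ha₂, ?_⟩
  intro p hp hap q hq hqp hIq
  have hM' : FreeAway A (a₁ * a₂) M := hM.mul_right a₂
  have hMN' : FreeAway A (a₁ * a₂) (M ⧸ N) := hMN.mul_left a₁
  set a := a₁ * a₂ with ha
  haveI : IsNoetherianRing (p.Fiber B) :=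
    Algebra.FiniteType.isNoetherianRing p.ResidueField (p.Fiber B)
  have hapow : ∀ k : ℕ, a ^ k ∉ p := fun k hk => hap (hp.mem_of_pow_mem k hk)
  -- Step 3: `g₀` acts injectively on the fibre module over `p`
  have hnzd : ∀ z : fiberMod p B M, g₀ • z = 0 → z = 0 := by
    intro z hz
    obtain ⟨t₁, ht₁, x, hx⟩ := exists_smul_eq_toFiberMod p B M z
    have h1 : g₀ • toFiberMod p B M x = 0 := by
      rw [← hx, smul_comm, hz, smul_zero]
    rw [smul_toFiberMod_eq_zero_iff] at h1
    obtain ⟨t', ht', hmem⟩ := h1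
    set y : M := algebraMap A B t' • g₀ • x with hy
    have hyN : y ∈ N := (hNmem y).2 ⟨algebraMap A B t' • x, by rw [hy, smul_comm]⟩
    have hyP : y ∈ (p • ⊤ : Submodule A M) := by
      rw [smul_top_eq_restrictScalars p B M, Submodule.restrictScalars_mem]
      exact hmem
    let π : M →ₗ[A] M ⧸ N := (N.mkQ).restrictScalars A
    have hπ : Function.Surjective π := N.mkQ_surjective
    have hkerπ : ∀ w : M, w ∈ LinearMap.ker π ↔ w ∈ N := by
      intro w
      rw [LinearMap.mem_ker]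
      exact Submodule.Quotient.mk_eq_zero N
    obtain ⟨n, hn⟩ := exists_pow_smul_mem_smul_ker π hπ hMN' p ((hkerπ y).2 hyN) hyP
    have hker : ∀ w ∈ (p • LinearMap.ker π : Submodule A M),
        ∃ w' ∈ (p • ⊤ : Submodule A M), w = g₀ • w' := by
      intro w hw
      refine Submodule.smul_induction_on hw ?_ ?_
      · intro r hr n' hn'
        obtain ⟨x', rfl⟩ := (hNmem n').1 ((hkerπ n').1 hn')
        exact ⟨r • x', Submodule.smul_mem_smul hr Submodule.mem_top, smul_comm _ _ _⟩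
      · rintro w₁ w₂ ⟨c₁, hc₁, rfl⟩ ⟨c₂, hc₂, rfl⟩
        exact ⟨c₁ + c₂, add_mem hc₁ hc₂, (smul_add _ _ _).symm⟩
    obtain ⟨w', hw', hw'eq⟩ := hker _ hn
    have h2 : g₀ • ((a ^ n * t') • x - w') = 0 := by
      rw [smul_sub, ← hw'eq, hy, mul_smul, algebraMap_smul, smul_comm g₀ (a ^ n),
        smul_comm g₀ t', sub_self]
    obtain ⟨t'', ht'', h3⟩ := hgeninj _ h2
    obtain ⟨k, hk⟩ := exists_pow_smul_eq_zero hM' ht'' h3
    have h4 : toFiberMod p B M x = 0 := by
      rw [toFiberMod_eq_zero_iff]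
      refine ⟨a ^ k * (a ^ n * t'), fun hmem' => ?_, ?_⟩
      · rcases hp.mem_or_mem hmem' with h5 | h5
        · exact hapow k h5
        · rcases hp.mem_or_mem h5 with h6 | h6
          · exact hapow n h6
          · exact ht' h6
      · rw [algebraMap_smul, ← Submodule.restrictScalars_mem A, ← smul_top_eq_restrictScalars p B M]
        have h5 : (a ^ k * (a ^ n * t')) • x = a ^ k • w' := by
          rw [mul_smul, ← sub_eq_zero, ← smul_sub]
          exact hk
        rw [h5]
        exact Submodule.smul_mem _ _ hw'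
    rw [h4] at hx
    exact (smul_eq_zero_iff p B M ht₁ z).1 hx
  -- Step 4
  intro hass
  rw [relAss_iff] at hass
  obtain ⟨z, hz⟩ := hass
  have h1 : g₀ • z = 0 := (hz g₀).1 (hIq hg₀)
  have h2 : z = 0 := hnzd z h1
  have h3 : (1 : B) ∈ q := (hz 1).2 (by rw [h2, smul_zero])
  exact hq.ne_top ((Ideal.eq_top_iff_one q).2 h3)

end Groth.Agent.Lib.Seat6.RelAssGen
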