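import Mathlib
import Groth.Agent.Lib.Seat6RelAssLRA
import Groth.Agent.Lib.Seat6RelAssGen

/-!
# Spreading relative associated primes: reduction to the domain case (seat 6)

Transfer of the elementwise condition `LRA` along `A → A ⧸ p₀`, `B → B ⧸ p₀ B`, `M → M ⧸ p₀ M`, and the
general forms of the three spreading-out statements.
-/

set_option autoImplicit false
set_option linter.style.haveILetI false
universe u

namespace Groth.Agent.Lib.Seat6.RelAssQuot

open TensorProduct FlatCA Groth.Agent.Lib.Seat6.RelAssLRA Groth.Agent.Lib.Seat6.RelAssGen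

section Transfer

variable {A : Type u} [CommRing A] {B : Type u} [CommRing B] [Algebra A B] (M : Type u)
  [AddCommGroup M] [Module B M] (p₀ : Ideal A)

/-- `M ⧸ p₀ M`. -/
abbrev QM : Type u := M ⧸ (p₀.map (algebraMap A B) • ⊤ : Submodule B M)

/-- `B ⧸ p₀ B`. -/
abbrev QB : Type u := B ⧸ p₀.map (algebraMap A B)

noncomputable instance : Module (A ⧸ p₀) (QM (A := A) (B := B) M p₀) :=
  Module.compHom _ (algebraMap (A ⧸ p₀) (QB (A := A) (B := B) p₀))

instance : IsScalarTower (A ⧸ p₀) (QB (A := A) (B := B) p₀) (QM (A := A) (B := B) M p₀) := by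
  refine ⟨fun a b m => ?_⟩
  rw [Algebra.smul_def, mul_smul]
  rfl

variable {M p₀}

theorem mk_mem_iff (p : Ideal A) (hp₀p : p₀ ≤ p) (x : M) :
    (Submodule.Quotient.mk x : QM (A := A) (B := B) M p₀) ∈
        (((p.map (Ideal.Quotient.mk p₀)).map (algebraMap (A ⧸ p₀) (QB (A := A) (B := B) p₀))) • ⊤ :
          Submodule (QB (A := A) (B := B) p₀) (QM (A := A) (B := B) M p₀)) ↔
      x ∈ (p.map (algebraMap A B) • ⊤ : Submodule B M) := by
  set J₀ := p₀.map (algebraMap A B) with hJ₀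
  set I := p.map (algebraMap A B) with hI
  have hJ₀I : J₀ ≤ I := Ideal.map_mono hp₀p
  have h1 : (p.map (Ideal.Quotient.mk p₀)).map (algebraMap (A ⧸ p₀) (QB (A := A) (B := B) p₀)) =
      I.map (algebraMap B (QB (A := A) (B := B) p₀)) := by
    rw [Ideal.map_map, hI, Ideal.map_map]
    rfl
  rw [h1, ← Submodule.restrictScalars_mem B, Ideal.smul_restrictScalars,
    Submodule.restrictScalars_top]
  have h2 : (I • ⊤ : Submodule B (QM (A := A) (B := B) M p₀)) =
      Submodule.map (J₀ • ⊤ : Submodule B M).mkQ (I • ⊤ : Submodule B M) := by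
    rw [Submodule.map_smul'', Submodule.map_top, Submodule.range_mkQ]
  rw [h2]
  change x ∈ Submodule.comap (J₀ • ⊤ : Submodule B M).mkQ
    (Submodule.map (J₀ • ⊤ : Submodule B M).mkQ (I • ⊤ : Submodule B M)) ↔ _
  rw [Submodule.comap_map_mkQ, sup_eq_right.2 (Submodule.smul_mono_left hJ₀I)]

/-- Transfer of `LRA` to the quotient by `p₀`. -/
theorem LRA_quot_iff (p : Ideal A) (hp₀p : p₀ ≤ p) (q : Ideal B)
    (hq : p₀.map (algebraMap A B) ≤ q) :
    LRA q (p.map (algebraMap A B) • ⊤ : Submodule B M) ↔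
      LRA (q.map (Ideal.Quotient.mk (p₀.map (algebraMap A B))))
        (((p.map (Ideal.Quotient.mk p₀)).map (algebraMap (A ⧸ p₀) (QB (A := A) (B := B) p₀))) • ⊤ :
          Submodule (QB (A := A) (B := B) p₀) (QM (A := A) (B := B) M p₀)) := by
  have hmem : ∀ u : B, Ideal.Quotient.mk (p₀.map (algebraMap A B)) u ∈
      q.map (Ideal.Quotient.mk (p₀.map (algebraMap A B))) ↔ u ∈ q :=
    fun u => Ideal.mem_quotient_iff_mem hq
  have hsmul : ∀ (u : B) (m : M), Ideal.Quotient.mk (p₀.map (algebraMap A B)) u •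
      (Submodule.Quotient.mk m : QM (A := A) (B := B) M p₀) = Submodule.Quotient.mk (u • m) :=
    fun u m => rfl
  constructor
  · rintro ⟨m, hm1, hm2⟩
    refine ⟨Submodule.Quotient.mk m, fun u' hu' => ?_, fun s' hs' => ?_⟩
    · obtain ⟨u, rfl⟩ := Ideal.Quotient.mk_surjective u'
      rw [hsmul, mk_mem_iff p hp₀p]
      exact hm1 u (fun h => hu' ((hmem u).2 h))
    · obtain ⟨s, rfl⟩ := Ideal.Quotient.mk_surjective s'
      obtain ⟨k, u, hu, hmem'⟩ := hm2 s ((hmem s).1 hs')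
      refine ⟨k, Ideal.Quotient.mk _ u, fun h => hu ((hmem u).1 h), ?_⟩
      rw [← map_pow, ← map_mul, hsmul, mk_mem_iff p hp₀p]
      exact hmem'
  · rintro ⟨m', hm1, hm2⟩
    obtain ⟨m, rfl⟩ := Submodule.Quotient.mk_surjective _ m'
    refine ⟨m, fun u hu => ?_, fun s hs => ?_⟩
    · have := hm1 (Ideal.Quotient.mk _ u) (fun h => hu ((hmem u).1 h))
      rw [hsmul, mk_mem_iff p hp₀p] at this
      exact this
    · obtain ⟨k, u', hu', hmem'⟩ := hm2 (Ideal.Quotient.mk _ s) ((hmem s).2 hs)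
      obtain ⟨u, rfl⟩ := Ideal.Quotient.mk_surjective u'
      refine ⟨k, u, fun h => hu' ((hmem u).2 h), ?_⟩
      rw [← map_pow, ← map_mul, hsmul, mk_mem_iff p hp₀p] at hmem'
      exact hmem'

end Transfer

section Primes

variable {A : Type u} [CommRing A] {B : Type u} [CommRing B] [Algebra A B] (p₀ : Ideal A)

theorem map_le_of_liesOver {p : Ideal A} (hp₀p : p₀ ≤ p) (q : Ideal B) [hqp : q.LiesOver p] :
    p₀.map (algebraMap A B) ≤ q := by
  rw [Ideal.map_le_iff_le_comap]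
  intro x hx
  have : x ∈ q.under A := by
    rw [← hqp.over]
    exact hp₀p hx
  exact this

theorem isPrime_map_mk (q : Ideal B) [hq : q.IsPrime] (hJq : p₀.map (algebraMap A B) ≤ q) :
    (q.map (Ideal.Quotient.mk (p₀.map (algebraMap A B)))).IsPrime :=
  Ideal.map_isPrime_of_surjective Ideal.Quotient.mk_surjective (by rw [Ideal.mk_ker]; exact hJq)

theorem isPrime_map_mk' (p : Ideal A) [hp : p.IsPrime] (hp₀p : p₀ ≤ p) :
    (p.map (Ideal.Quotient.mk p₀)).IsPrime :=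
  Ideal.map_isPrime_of_surjective Ideal.Quotient.mk_surjective (by rw [Ideal.mk_ker]; exact hp₀p)

theorem liesOver_map_mk {p : Ideal A} (hp₀p : p₀ ≤ p) (q : Ideal B) [hqp : q.LiesOver p] :
    (q.map (Ideal.Quotient.mk (p₀.map (algebraMap A B)))).LiesOver
      (p.map (Ideal.Quotient.mk p₀)) := by
  have hJq := map_le_of_liesOver p₀ hp₀p q
  constructor
  ext x'
  obtain ⟨x, rfl⟩ := Ideal.Quotient.mk_surjective x'
  rw [Ideal.mem_quotient_iff_mem hp₀p, Ideal.mem_comap,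
    Ideal.Quotient.algebraMap_quotient_map_quotient, Ideal.mem_quotient_iff_mem hJq, hqp.over]
  rfl

/-- Primes of `B ⧸ p₀ B` over `p ⧸ p₀` come from primes of `B` over `p`. -/
theorem comap_mk_prime {p : Ideal A} (hp₀p : p₀ ≤ p) (Q' : Ideal (QB (A := A) (B := B) p₀))
    [hQ' : Q'.IsPrime] [hQ'p : Q'.LiesOver (p.map (Ideal.Quotient.mk p₀))] :
    ∃ (r : Ideal B) (_ : r.IsPrime) (_ : r.LiesOver p),
      r.map (Ideal.Quotient.mk (p₀.map (algebraMap A B))) = Q' ∧
      r = Q'.comap (Ideal.Quotient.mk (p₀.map (algebraMap A B))) := by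
  refine ⟨Q'.comap (Ideal.Quotient.mk _), Ideal.comap_isPrime _ _, ⟨?_⟩,
    Ideal.map_comap_of_surjective _ Ideal.Quotient.mk_surjective _, rfl⟩
  ext x
  rw [Ideal.mem_comap, Ideal.mem_comap, ← Ideal.Quotient.algebraMap_quotient_map_quotient,
    ← Ideal.mem_comap, ← Ideal.under_def, ← hQ'p.over, Ideal.mem_quotient_iff_mem hp₀p]

end Primes

section Dict

variable {A : Type u} [CommRing A] {B : Type u} [CommRing B] [Algebra A B]
  [Algebra.FiniteType A B] (M : Type u) [AddCommGroup M] [Module B M] (p₀ : Ideal A)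

instance : Algebra.FiniteType (A ⧸ p₀) (QB (A := A) (B := B) p₀) :=
  Algebra.FiniteType.of_restrictScalars_finiteType A (A ⧸ p₀) (QB (A := A) (B := B) p₀)

instance [Module.Finite B M] :
    Module.Finite (QB (A := A) (B := B) p₀) (QM (A := A) (B := B) M p₀) :=
  Module.Finite.of_restrictScalars_finite B _ _

attribute [local instance] Algebra.TensorProduct.rightAlgebra

/-- Dictionary: `LRA` for `(A, B, M)` at `(p, q)` is the relative associated prime condition for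
`(A ⧸ p₀, B ⧸ p₀ B, M ⧸ p₀ M)`. -/
theorem LRA_iff_quot_mem_associatedPrimes (p : Ideal A) [hp : p.IsPrime] (hp₀p : p₀ ≤ p)
    (q : Ideal B) [hq : q.IsPrime] [hqp : q.LiesOver p] :
    haveI := isPrime_map_mk' p₀ p hp₀p
    LRA q (p.map (algebraMap A B) • ⊤ : Submodule B M) ↔
      fiberIdeal (p.map (Ideal.Quotient.mk p₀))
          (q.map (Ideal.Quotient.mk (p₀.map (algebraMap A B)))) ∈
        associatedPrimes ((p.map (Ideal.Quotient.mk p₀)).Fiber (QB (A := A) (B := B) p₀))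
          (fiberMod (p.map (Ideal.Quotient.mk p₀)) (QB (A := A) (B := B) p₀)
            (QM (A := A) (B := B) M p₀)) := by
  haveI := isPrime_map_mk' p₀ p hp₀p
  have hJq := map_le_of_liesOver p₀ hp₀p q
  haveI := isPrime_map_mk p₀ q hJq
  haveI := liesOver_map_mk p₀ hp₀p q
  haveI : IsNoetherianRing ((p.map (Ideal.Quotient.mk p₀)).Fiber (QB (A := A) (B := B) p₀)) :=
    Algebra.FiniteType.isNoetherianRing (p.map (Ideal.Quotient.mk p₀)).ResidueField _
  rw [LRA_quot_iff p hp₀p q hJq]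
  exact (fiberIdeal_mem_associatedPrimes_iff_LRA (p.map (Ideal.Quotient.mk p₀))
    (QM (A := A) (B := B) M p₀) (q.map (Ideal.Quotient.mk (p₀.map (algebraMap A B))))).symm

/-- the generic point of `A ⧸ p₀`. -/
theorem LRA_iff_quot_bot [hp₀ : p₀.IsPrime] (q : Ideal B) [hq : q.IsPrime] [hqp : q.LiesOver p₀] :
    haveI : IsDomain (A ⧸ p₀) := Ideal.Quotient.isDomain p₀
    LRA q (p₀.map (algebraMap A B) • ⊤ : Submodule B M) ↔
      fiberIdeal (⊥ : Ideal (A ⧸ p₀)) (q.map (Ideal.Quotient.mk (p₀.map (algebraMap A B)))) ∈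
        associatedPrimes ((⊥ : Ideal (A ⧸ p₀)).Fiber (QB (A := A) (B := B) p₀))
          (fiberMod (⊥ : Ideal (A ⧸ p₀)) (QB (A := A) (B := B) p₀)
            (QM (A := A) (B := B) M p₀)) := by
  haveI : IsDomain (A ⧸ p₀) := Ideal.Quotient.isDomain p₀
  have hJq := map_le_of_liesOver p₀ le_rfl q
  haveI := isPrime_map_mk p₀ q hJq
  haveI : (q.map (Ideal.Quotient.mk (p₀.map (algebraMap A B)))).LiesOver
      (⊥ : Ideal (A ⧸ p₀)) := by
    have := liesOver_map_mk p₀ le_rfl q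
    rwa [Ideal.map_quotient_self] at this
  haveI : IsNoetherianRing ((⊥ : Ideal (A ⧸ p₀)).Fiber (QB (A := A) (B := B) p₀)) :=
    Algebra.FiniteType.isNoetherianRing (⊥ : Ideal (A ⧸ p₀)).ResidueField _
  rw [LRA_quot_iff p₀ le_rfl q hJq, Ideal.map_quotient_self]
  exact (fiberIdeal_mem_associatedPrimes_iff_LRA (⊥ : Ideal (A ⧸ p₀))
    (QM (A := A) (B := B) M p₀) (q.map (Ideal.Quotient.mk (p₀.map (algebraMap A B))))).symm

end Dict

section General

variable {A : Type u} [CommRing A] {B : Type u} [CommRing B] [Algebra A B]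
  [Algebra.FiniteType A B] (M : Type u) [AddCommGroup M] [Module B M] [Module.Finite B M]
  (p₀ : Ideal A) [hp₀ : p₀.IsPrime]

/-- Spreading an associated point of the fibre over `p₀`: primes minimal over `q₀` in their fibre
are relative associated primes over a neighbourhood of `p₀` in `V(p₀)`. -/
theorem LRA_of_minimal (q₀ : Ideal B) [hq₀ : q₀.IsPrime] [hq₀p₀ : q₀.LiesOver p₀]
    (h : LRA q₀ (p₀.map (algebraMap A B) • ⊤ : Submodule B M)) :
    ∃ a : A, a ∉ p₀ ∧ ∀ (p : Ideal A) [p.IsPrime] (q : Ideal B) [q.IsPrime] [q.LiesOver p],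
      p₀ ≤ p → a ∉ p → q₀ ≤ q →
      (∀ q' : Ideal B, q'.IsPrime → q'.LiesOver p → q₀ ≤ q' → q' ≤ q → q' = q) →
      LRA q (p.map (algebraMap A B) • ⊤ : Submodule B M) := by
  haveI : IsDomain (A ⧸ p₀) := Ideal.Quotient.isDomain p₀
  have hJq₀ := map_le_of_liesOver p₀ le_rfl q₀
  haveI := isPrime_map_mk p₀ q₀ hJq₀
  haveI : (q₀.map (Ideal.Quotient.mk (p₀.map (algebraMap A B)))).LiesOver
      (⊥ : Ideal (A ⧸ p₀)) := by
    have := liesOver_map_mk p₀ le_rfl q₀
    rwa [Ideal.map_quotient_self] at this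
  have h2 := (LRA_iff_quot_bot M p₀ q₀).1 h
  obtain ⟨a', ha', H⟩ := relAss_of_minimal (QM (A := A) (B := B) M p₀)
    (q₀.map (Ideal.Quotient.mk (p₀.map (algebraMap A B)))) h2
  obtain ⟨a, rfl⟩ := Ideal.Quotient.mk_surjective a'
  refine ⟨a, fun ha => ha' (Ideal.Quotient.eq_zero_iff_mem.2 ha), ?_⟩
  intro p hp q hq hqp hp₀p hap hq₀q hmin
  haveI := isPrime_map_mk' p₀ p hp₀p
  have hJq := map_le_of_liesOver p₀ hp₀p q
  haveI := isPrime_map_mk p₀ q hJq
  haveI := liesOver_map_mk p₀ hp₀p q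
  rw [LRA_iff_quot_mem_associatedPrimes M p₀ p hp₀p q]
  apply H (p.map (Ideal.Quotient.mk p₀)) (q.map (Ideal.Quotient.mk (p₀.map (algebraMap A B))))
  · rw [Ideal.mem_quotient_iff_mem hp₀p]
    exact hap
  · exact Ideal.map_mono hq₀q
  · intro Q' hQ' hQ'p hq₀Q' hQ'q
    haveI := hQ'
    haveI := hQ'p
    obtain ⟨r, hr, hrp, hrQ', hrdef⟩ := comap_mk_prime p₀ hp₀p Q'
    have h3 : q₀ ≤ r := by
      rw [hrdef]
      intro b hb
      exact hq₀Q' (Ideal.mem_map_of_mem _ hb)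
    have h4 : r ≤ q := by
      rw [hrdef]
      intro b hb
      have := hQ'q hb
      rwa [Ideal.mem_quotient_iff_mem hJq] at this
    have h5 := hmin r hr hrp h3 h4
    rw [← hrQ', h5]

/-- Existence of relative associated primes above `q₀` in the fibres over a neighbourhood of `p₀` in
`V(p₀)`. -/
theorem exists_LRA_over (q₀ : Ideal B) [hq₀ : q₀.IsPrime] [hq₀p₀ : q₀.LiesOver p₀]
    (h : LRA q₀ (p₀.map (algebraMap A B) • ⊤ : Submodule B M)) :
    ∃ a : A, a ∉ p₀ ∧ ∀ (p : Ideal A) [p.IsPrime], p₀ ≤ p → a ∉ p →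
      ∃ (q : Ideal B) (_ : q.IsPrime) (_ : q.LiesOver p), q₀ ≤ q ∧
        LRA q (p.map (algebraMap A B) • ⊤ : Submodule B M) := by
  haveI : IsDomain (A ⧸ p₀) := Ideal.Quotient.isDomain p₀
  have hJq₀ := map_le_of_liesOver p₀ le_rfl q₀
  haveI := isPrime_map_mk p₀ q₀ hJq₀
  haveI : (q₀.map (Ideal.Quotient.mk (p₀.map (algebraMap A B)))).LiesOver
      (⊥ : Ideal (A ⧸ p₀)) := by
    have := liesOver_map_mk p₀ le_rfl q₀
    rwa [Ideal.map_quotient_self] at this
  have h2 := (LRA_iff_quot_bot M p₀ q₀).1 h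
  obtain ⟨a', ha', H⟩ := exists_relAss_over (QM (A := A) (B := B) M p₀)
    (q₀.map (Ideal.Quotient.mk (p₀.map (algebraMap A B)))) h2
  obtain ⟨a, rfl⟩ := Ideal.Quotient.mk_surjective a'
  refine ⟨a, fun ha => ha' (Ideal.Quotient.eq_zero_iff_mem.2 ha), ?_⟩
  intro p hp hp₀p hap
  haveI := isPrime_map_mk' p₀ p hp₀p
  obtain ⟨Q', hQ', hQ'p, hq₀Q', hass⟩ := H (p.map (Ideal.Quotient.mk p₀))
    (by rw [Ideal.mem_quotient_iff_mem hp₀p]; exact hap)
  haveI := hQ'
  haveI := hQ'p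
  obtain ⟨r, hr, hrp, hrQ', hrdef⟩ := comap_mk_prime p₀ hp₀p Q'
  haveI := hr
  haveI := hrp
  refine ⟨r, hr, hrp, ?_, ?_⟩
  · rw [hrdef]
    intro b hb
    exact hq₀Q' (Ideal.mem_map_of_mem _ hb)
  · rw [LRA_iff_quot_mem_associatedPrimes M p₀ p hp₀p r, hrQ']
    exact hass

/-- If no relative associated prime over `p₀` contains `I`, the same holds over a neighbourhood of
`p₀` in `V(p₀)`. -/
theorem not_LRA_of_le (I : Ideal B)
    (h : ∀ (q : Ideal B) [q.IsPrime] [q.LiesOver p₀], I ≤ q →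
      ¬ LRA q (p₀.map (algebraMap A B) • ⊤ : Submodule B M)) :
    ∃ a : A, a ∉ p₀ ∧ ∀ (p : Ideal A) [p.IsPrime], p₀ ≤ p → a ∉ p →
      ∀ (q : Ideal B) [q.IsPrime] [q.LiesOver p], I ≤ q →
        ¬ LRA q (p.map (algebraMap A B) • ⊤ : Submodule B M) := by
  haveI : IsDomain (A ⧸ p₀) := Ideal.Quotient.isDomain p₀
  have hdom := not_relAss_of_le (QM (A := A) (B := B) M p₀)
    (I.map (Ideal.Quotient.mk (p₀.map (algebraMap A B)))) (by
      intro Q' hQ' hQ'0 hIQ' hass
      haveI : Q'.LiesOver (p₀.map (Ideal.Quotient.mk p₀)) := by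
        rw [Ideal.map_quotient_self]
        exact hQ'0
      obtain ⟨r, hr, hrp, hrQ', hrdef⟩ := comap_mk_prime p₀ le_rfl Q'
      haveI := hr
      haveI := hrp
      have hIr : I ≤ r := by
        rw [hrdef]
        intro b hb
        exact hIQ' (Ideal.mem_map_of_mem _ hb)
      apply h r hIr
      rw [LRA_iff_quot_bot M p₀ r, hrQ']
      exact hass)
  obtain ⟨a', ha', H⟩ := hdom
  obtain ⟨a, rfl⟩ := Ideal.Quotient.mk_surjective a'
  refine ⟨a, fun ha => ha' (Ideal.Quotient.eq_zero_iff_mem.2 ha), ?_⟩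
  intro p hp hp₀p hap q hq hqp hIq
  haveI := isPrime_map_mk' p₀ p hp₀p
  have hJq := map_le_of_liesOver p₀ hp₀p q
  haveI := isPrime_map_mk p₀ q hJq
  haveI := liesOver_map_mk p₀ hp₀p q
  rw [LRA_iff_quot_mem_associatedPrimes M p₀ p hp₀p q]
  exact H (p.map (Ideal.Quotient.mk p₀)) (by rw [Ideal.mem_quotient_iff_mem hp₀p]; exact hap)
    (q.map (Ideal.Quotient.mk (p₀.map (algebraMap A B)))) (Ideal.map_mono hIq)

end General

end Groth.Agent.Lib.Seat6.RelAssQuot
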