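import Mathlib
import Groth.Prelude.Def_FlatCA
import Groth.Agent.Lib.Seat6ImpBC
import Groth.Agent.Lib.Seat6RelAssLRA
import Groth.Agent.Lib.Seat6RelAssQuot
import Groth.Agent.Lib.Seat6DimOnePrime
import Groth.Agent.Lib.Seat6QFIsolated

/-!
# Impurities over a Noetherian base: reduction to the quasi-finite case (seat 6)
-/

set_option autoImplicit false
set_option linter.style.haveILetI false
universe u

namespace Groth.Agent.Lib.Seat6.ImpNoeth

open TensorProduct FlatCA IsLocalRing Groth.Agent.Lib.Seat6.RelAssLRA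
  Groth.Agent.Lib.Seat6.ImpDesc

attribute [local instance] Algebra.TensorProduct.rightAlgebra

section Abstract

variable {L : Type u} [CommRing L] [IsLocalRing L] {C : Type u} [CommRing C] [Algebra L C]
  {M : Type*} [AddCommGroup M] [Module C M] [Module L M] [IsScalarTower L C M]

/-- If `M` is `𝔪`-adically separated over the local ring `L`, then a prime `P` of `C` which is
"associated to the generic fibre" (in the sense `LRA P ⊥`) specializes to a prime over `𝔪`. -/
theorem exists_prime_liesOver_of_LRA_bot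
    (hsep : ∀ x : M, (∀ j : ℕ, x ∈ ((maximalIdeal L) ^ j • ⊤ : Submodule L M)) → x = 0)
    (P : Ideal C) [hP : P.IsPrime] (h : LRA P (⊥ : Submodule C M)) :
    ∃ P' : Ideal C, P'.IsPrime ∧ P ≤ P' ∧ P'.LiesOver (maximalIdeal L) := by
  by_contra hno
  push Not at hno
  obtain ⟨s, hs, hsmem⟩ := exists_witness (maximalIdeal L) P (fun P' hP' hle hover =>
    hno P' hP' hle hover)
  have hsu : IsUnit s := by
    by_contra hns
    exact hs ((mem_maximalIdeal s).2 hns)
  obtain ⟨s', hs'⟩ := hsu.exists_left_inv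
  have h1 : (1 : C) ∈ P ⊔ (maximalIdeal L).map (algebraMap L C) := by
    have := (P ⊔ (maximalIdeal L).map (algebraMap L C)).mul_mem_left (algebraMap L C s') hsmem
    rwa [← map_mul, hs', map_one] at this
  obtain ⟨π, hπ, y, hy, hπy⟩ := Submodule.mem_sup.1 h1
  obtain ⟨m, hm1, hm2⟩ := h
  obtain ⟨k, u, hu, hukm⟩ := hm2 π hπ
  rw [Submodule.mem_bot] at hukm
  set m' : M := u • m with hm'
  have hm'0 : m' ≠ 0 := by
    intro h0
    exact hm1 u hu (by rw [Submodule.mem_bot]; exact h0)
  have hπk : π ^ k • m' = 0 := by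
    rw [hm', smul_smul, mul_comm]
    exact hukm
  set Y : C := y * ∑ i ∈ Finset.range k, π ^ i with hY
  have hYmem : Y ∈ (maximalIdeal L).map (algebraMap L C) := Ideal.mul_mem_right _ _ hy
  have hYm : Y • m' = m' := by
    have h2 : y = 1 - π := by rw [← hπy]; ring
    rw [hY, h2, mul_neg_geom_sum, sub_smul, one_smul, hπk, sub_zero]
  have hpow : ∀ j : ℕ, m' ∈ ((maximalIdeal L) ^ j • ⊤ : Submodule L M) := by
    intro j
    have h3 : Y ^ j • m' = m' := by
      induction j with
      | zero => rw [pow_zero, one_smul]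
      | succ j ih => rw [pow_succ, mul_smul, hYm, ih]
    have h4 : Y ^ j ∈ ((maximalIdeal L) ^ j).map (algebraMap L C) := by
      rw [Ideal.map_pow]
      exact Ideal.pow_mem_pow hYmem j
    have h5 : Y ^ j • m' ∈ ((((maximalIdeal L) ^ j).map (algebraMap L C)) • ⊤ : Submodule C M) :=
      Submodule.smul_mem_smul h4 Submodule.mem_top
    have h6 : ((maximalIdeal L) ^ j • ⊤ : Submodule L M) =
        (((((maximalIdeal L) ^ j).map (algebraMap L C)) • ⊤ : Submodule C M)).restrictScalars L := by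
      rw [Ideal.smul_restrictScalars, Submodule.restrictScalars_top]
    rw [h6, Submodule.restrictScalars_mem, ← h3]
    exact h5
  exact hm'0 (hsep m' hpow)

end Abstract

section Sep

variable {A : Type u} [CommRing A] (p : Ideal A) [p.IsPrime] (L : Type u) [CommRing L]
  [IsLocalRing L] [IsNoetherianRing L] [Algebra A L] (N : Type u) [AddCommGroup N] [Module A N]

omit [IsLocalRing L] [IsNoetherianRing L] in
/-- If `A → L` kills `p` and inverts `A ∖ p`, then `L ⊗[A] N` is a free `L`-module. -/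
theorem free_tensor (h0 : ∀ a ∈ p, algebraMap A L a = 0)
    (hu : ∀ a : A, a ∉ p → IsUnit (algebraMap A L a)) : Module.Free L (L ⊗[A] N) := by
  letI algk : Algebra p.ResidueField L :=
    (Ideal.ResidueField.lift p (algebraMap A L) (fun a ha => (RingHom.mem_ker).2 (h0 a ha))
      (fun a ha => hu a ha)).toAlgebra
  haveI tow : IsScalarTower A p.ResidueField L := IsScalarTower.of_algebraMap_eq (fun a => by
    change _ = Ideal.ResidueField.lift p (algebraMap A L) _ _ (algebraMap A p.ResidueField a)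
    rw [Ideal.ResidueField.lift_algebraMap])
  let e : L ⊗[p.ResidueField] (p.ResidueField ⊗[A] N) ≃ₗ[L] L ⊗[A] N :=
    TensorProduct.AlgebraTensorModule.cancelBaseChange A p.ResidueField L L N
  exact Module.Free.of_equiv e

/-- A free module over a Noetherian local ring is `𝔪`-adically separated. -/
theorem sep_of_free (F : Type*) [AddCommGroup F] [Module L F] [Module.Free L F] (x : F)
    (hx : ∀ j : ℕ, x ∈ ((maximalIdeal L) ^ j • ⊤ : Submodule L F)) : x = 0 := by
  let b := Module.Free.chooseBasis L F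
  have hcoord : ∀ (j : ℕ) (y : F), y ∈ ((maximalIdeal L) ^ j • ⊤ : Submodule L F) →
      ∀ i, b.repr y i ∈ (maximalIdeal L) ^ j := by
    intro j y hy i
    refine Submodule.smul_induction_on hy ?_ ?_
    · intro a ha z _
      rw [map_smul, Finsupp.smul_apply, smul_eq_mul]
      exact Ideal.mul_mem_right _ _ ha
    · intro y z hy hz
      rw [map_add, Finsupp.add_apply]
      exact Ideal.add_mem _ hy hz
  apply b.repr.injective
  ext i
  rw [map_zero, Finsupp.zero_apply]
  have h1 : b.repr x i ∈ ⨅ j : ℕ, (maximalIdeal L) ^ j :=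
    (Ideal.mem_iInf).2 (fun j => hcoord j x (hx j) i)
  rw [Ideal.iInf_pow_eq_bot_of_isLocalRing _ (Ideal.IsPrime.ne_top inferInstance)] at h1
  exact h1

end Sep

section Case3

variable {A B : Type u} [CommRing A] [CommRing B] [Algebra A B] [Algebra.FiniteType A B]
  (N : Type u) [AddCommGroup N] [Module B N] (p : Ideal A) [p.IsPrime]
  (D : Type u) [CommRing D] [IsDomain D] [IsNoetherianRing D] [Algebra A D]

/-- There is no impurity over a Noetherian domain `D` whose generic point lies over `p`. -/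
theorem not_isImpurity_of_bot_liesOver (T : Ideal D) [T.IsPrime] (P : Ideal (D ⊗[A] B)) [P.IsPrime]
    (himp : IsImpurity A B N p D (D ⊗[A] B) ((D ⊗[A] B) ⊗[B] N)
      (TensorProduct.mk B (D ⊗[A] B) N 1) ⊥ T P)
    (h3 : ∀ a ∈ p, algebraMap A D a = 0) : False := by
  have hTp : T.LiesOver p := himp.2.2.2.1
  let L := Localization.AtPrime T
  haveI : IsDomain L := IsLocalization.isDomain_localization T.primeCompl_le_nonZeroDivisors
  have hinj : Function.Injective (algebraMap D L) :=
    IsLocalization.injective L T.primeCompl_le_nonZeroDivisors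
  haveI hbot : (⊥ : Ideal L).LiesOver (⊥ : Ideal D) := by
    constructor
    rw [Ideal.under_def, ← RingHom.ker_eq_comap_bot]
    exact ((RingHom.injective_iff_ker_eq_bot _).1 hinj).symm
  haveI hmax : (maximalIdeal L).LiesOver T := by
    constructor
    rw [Ideal.under_def]
    exact (IsLocalization.AtPrime.comap_maximalIdeal L T).symm
  obtain ⟨P₂, hP₂, -, himp₂⟩ := Groth.Agent.Lib.Seat6.ImpBC.isImpurity_baseChange N p L ⊥ T P himp
    ⊥ (maximalIdeal L) bot_le
  obtain ⟨hpo, hbc, hle, htp, hPt', hass, hclos⟩ := himp₂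
  haveI := hPt'
  haveI : IsNoetherianRing ((⊥ : Ideal L).Fiber (L ⊗[A] B)) :=
    Algebra.FiniteType.isNoetherianRing (⊥ : Ideal L).ResidueField ((⊥ : Ideal L).Fiber (L ⊗[A] B))
  have hLRA := (fiberIdeal_mem_associatedPrimes_iff_LRA (⊥ : Ideal L)
    ((L ⊗[A] B) ⊗[B] N) P₂).1 hass
  rw [Ideal.map_bot, Submodule.bot_smul] at hLRA
  -- `A → L` kills `p` and inverts `A ∖ p`
  have h0 : ∀ a ∈ p, algebraMap A L a = 0 := by
    intro a ha
    rw [IsScalarTower.algebraMap_apply A D L, h3 a ha, map_zero]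
  have hu : ∀ a : A, a ∉ p → IsUnit (algebraMap A L a) := by
    intro a ha
    rw [IsScalarTower.algebraMap_apply A D L]
    apply IsLocalization.map_units L (⟨algebraMap A D a, ?_⟩ : T.primeCompl)
    intro hmem
    apply ha
    rw [hTp.over]
    exact hmem
  letI modAN : Module A N := Module.compHom N (algebraMap A B)
  haveI towAN : IsScalarTower A B N := IsScalarTower.of_algebraMap_smul (fun _ _ => rfl)
  haveI : Module.Free L (L ⊗[A] N) := free_tensor p L N h0 hu
  haveI hpo' : Algebra.IsPushout A L B (L ⊗[A] B) := hpo.symm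
  let e : (L ⊗[A] B) ⊗[B] N ≃ₗ[L] L ⊗[A] N :=
    Algebra.IsPushout.cancelBaseChange A L B (L ⊗[A] B) N
  haveI : Module.Free L ((L ⊗[A] B) ⊗[B] N) := Module.Free.of_equiv e.symm
  obtain ⟨P', hP', hle', hover'⟩ := exists_prime_liesOver_of_LRA_bot
    (sep_of_free L ((L ⊗[A] B) ⊗[B] N)) P₂ hLRA
  exact hclos P' hle' hover'

end Case3

section Case4

variable {A B : Type u} [CommRing A] [CommRing B] [Algebra A B] [Algebra.FiniteType A B]
  (N : Type u) [AddCommGroup N] [Module B N] [Module.Finite B N] (p : Ideal A) [p.IsPrime]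
  (D : Type u) [CommRing D] [IsDomain D] [IsNoetherianRing D] [Algebra A D]
  [Algebra.FiniteType A D]

/-- From an impurity over a Noetherian domain `D` of finite type whose generic point does not lie
over `p` and whose special point is closed in its fibre, we get an impurity over a quotient `D ⧸ q`
which is quasi-finite at the special point. -/
theorem exists_quasiFinite_impurity (T : Ideal D) [T.IsPrime] (P : Ideal (D ⊗[A] B)) [P.IsPrime]
    (himp : IsImpurity A B N p D (D ⊗[A] B) ((D ⊗[A] B) ⊗[B] N)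
      (TensorProduct.mk B (D ⊗[A] B) N 1) ⊥ T P)
    (g₀ : A) (hg₀ : g₀ ∈ p) (hg : algebraMap A D g₀ ≠ 0)
    (hTmax : ∀ T₂ : Ideal D, T₂.IsPrime → T₂.LiesOver p → T ≤ T₂ → T₂ = T) :
    ∃ (q : Ideal D) (_ : q.IsPrime) (TE : Ideal (D ⧸ q)) (_ : TE.IsPrime)
      (P₃ : Ideal ((D ⧸ q) ⊗[A] B)) (_ : P₃.IsPrime),
      IsImpurity A B N p (D ⧸ q) ((D ⧸ q) ⊗[A] B) (((D ⧸ q) ⊗[A] B) ⊗[B] N)
        (TensorProduct.mk B ((D ⧸ q) ⊗[A] B) N 1) ⊥ TE P₃ ∧ Algebra.QuasiFiniteAt A TE := by
  classical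
  obtain ⟨hpo, hbc, hle, htp, hPt', hass, hclos⟩ := himp
  haveI := htp
  haveI := hPt'
  haveI : IsNoetherianRing ((⊥ : Ideal D).Fiber (D ⊗[A] B)) :=
    Algebra.FiniteType.isNoetherianRing (⊥ : Ideal D).ResidueField
      ((⊥ : Ideal D).Fiber (D ⊗[A] B))
  have hLRA := (fiberIdeal_mem_associatedPrimes_iff_LRA (⊥ : Ideal D)
    ((D ⊗[A] B) ⊗[B] N) P).1 hass
  obtain ⟨a, ha, H⟩ := Groth.Agent.Lib.Seat6.RelAssQuot.exists_LRA_over
    ((D ⊗[A] B) ⊗[B] N) (⊥ : Ideal D) P hLRA
  rw [Ideal.mem_bot] at ha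
  set g : D := algebraMap A D g₀ with hgdef
  have hag : ¬ Ideal.span {a * g} ≤ (⊥ : Ideal D) := by
    intro hle'
    have := hle' (Ideal.subset_span (Set.mem_singleton _))
    rw [Ideal.mem_bot] at this
    exact (mul_ne_zero ha hg) this
  obtain ⟨q, hq, -, hqT, hagq, hdim⟩ :=
    Groth.Agent.Lib.Seat6.DimOnePrime.exists_prime_dim_one (⊥ : Ideal D) T (Ideal.span {a * g})
      hag bot_le
  haveI := hq
  have hagq' : a * g ∉ q := fun h => hagq ((Ideal.span_singleton_le_iff_mem _).2 h)
  have haq : a ∉ q := fun h => hagq' (q.mul_mem_right _ h)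
  have hgq : g ∉ q := fun h => hagq' (q.mul_mem_left _ h)
  obtain ⟨Pq, hPq, hPqq, hPPq, hLRAq⟩ := H q bot_le haq
  haveI := hPq
  haveI := hPqq
  haveI : IsNoetherianRing (q.Fiber (D ⊗[A] B)) :=
    Algebra.FiniteType.isNoetherianRing q.ResidueField (q.Fiber (D ⊗[A] B))
  have hassq := (fiberIdeal_mem_associatedPrimes_iff_LRA q ((D ⊗[A] B) ⊗[B] N) Pq).2 hLRAq
  -- the impurity over `D` with generic point `q`
  have himpq : IsImpurity A B N p D (D ⊗[A] B) ((D ⊗[A] B) ⊗[B] N)
      (TensorProduct.mk B (D ⊗[A] B) N 1) q T Pq :=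
    ⟨hpo, hbc, hqT, htp, hPqq, hassq, fun P' hP' hle' hover => hclos P' (hPPq.trans hle') hover⟩
  -- base change to `D ⧸ q`
  haveI : IsDomain (D ⧸ q) := Ideal.Quotient.isDomain q
  have hsurj : Function.Surjective (Ideal.Quotient.mk q) := Ideal.Quotient.mk_surjective
  have hker : RingHom.ker (Ideal.Quotient.mk q) = q := Ideal.mk_ker
  set TE : Ideal (D ⧸ q) := T.map (Ideal.Quotient.mk q) with hTE
  haveI hTEprime : TE.IsPrime := Ideal.map_isPrime_of_surjective hsurj (hker.le.trans hqT)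
  have hTEcomap : TE.comap (Ideal.Quotient.mk q) = T := by
    rw [hTE, Ideal.comap_map_of_surjective _ hsurj, ← RingHom.ker_eq_comap_bot, hker]
    exact sup_eq_left.2 hqT
  haveI hbotq : (⊥ : Ideal (D ⧸ q)).LiesOver q := by
    constructor
    rw [Ideal.under_def]
    change q = Ideal.comap (Ideal.Quotient.mk q) ⊥
    rw [← RingHom.ker_eq_comap_bot, hker]
  haveI hTET : TE.LiesOver T := by
    constructor
    rw [Ideal.under_def]
    exact hTEcomap.symm
  obtain ⟨P₃, hP₃, -, himp₃⟩ := Groth.Agent.Lib.Seat6.ImpBC.isImpurity_baseChange N p (D ⧸ q)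
    q T Pq himpq ⊥ TE bot_le
  refine ⟨q, hq, TE, hTEprime, P₃, hP₃, himp₃, ?_⟩
  -- quasi-finiteness
  haveI hTEp : TE.LiesOver p := himp₃.2.2.2.1
  have hcomapover : ∀ T₂ : Ideal (D ⧸ q), T₂.IsPrime → T₂.LiesOver p →
      (T₂.comap (Ideal.Quotient.mk q)).LiesOver p := by
    intro T₂ _ h2
    constructor
    rw [h2.over, Ideal.under_def, Ideal.under_def, Ideal.comap_comap]
    rfl
  have hmapcomap : ∀ T₂ : Ideal (D ⧸ q), (T₂.comap (Ideal.Quotient.mk q)).map
      (Ideal.Quotient.mk q) = T₂ := fun T₂ => Ideal.map_comap_of_surjective _ hsurj T₂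
  refine Groth.Agent.Lib.Seat6.QFIsolated.quasiFiniteAt_of_isolated p TE ?_ ?_
  · intro T₂ hT₂ hT₂p hle₂
    haveI := hT₂
    have h1 : T₂.comap (Ideal.Quotient.mk q) = T :=
      hTmax _ (Ideal.comap_isPrime _ _) (hcomapover T₂ hT₂ hT₂p) (by
        rw [← hTEcomap]; exact Ideal.comap_mono hle₂)
    rw [← hmapcomap T₂, h1]
  · intro T₂ hT₂ hT₂p hle₂
    haveI := hT₂
    haveI : (T₂.comap (Ideal.Quotient.mk q)).IsPrime := Ideal.comap_isPrime _ _
    have hover := hcomapover T₂ hT₂ hT₂p
    have hqle : q ≤ T₂.comap (Ideal.Quotient.mk q) := by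
      intro x hx
      rw [Ideal.mem_comap, Ideal.Quotient.eq_zero_iff_mem.2 hx]
      exact T₂.zero_mem
    have hne : q ≠ T₂.comap (Ideal.Quotient.mk q) := by
      intro heq
      apply hgq
      rw [heq]
      have h2 : g₀ ∈ (T₂.comap (Ideal.Quotient.mk q)).under A := by
        rw [← hover.over]; exact hg₀
      exact h2
    have h1 : T₂.comap (Ideal.Quotient.mk q) = T :=
      hdim _ inferInstance (lt_of_le_of_ne hqle hne) (by
        rw [← hTEcomap]; exact Ideal.comap_mono hle₂)
    rw [← hmapcomap T₂, h1]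

end Case4

end Groth.Agent.Lib.Seat6.ImpNoeth
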