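import Mathlib
import Groth.Prelude.Def_FlatCA
import Groth.Agent.Lib.Seat6ImpDesc

/-!
# Moving the point of an impurity to a closed point of the fibre (seat 6)

* `isImpurity_of_le`: the point `t` of an impurity may be replaced by any prime `t₀ ⊇ t` over `p`
  avoiding a witness element of the closure condition.
* `exists_le_fiberIdeal_isMaximal`: in a finite type algebra, a prime `t` over `p` not containing `s`
  specializes within the fibre to a prime `t₀` not containing `s` which is closed in the fibre.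
-/

set_option autoImplicit false
set_option linter.style.haveILetI false
universe u

namespace Groth.Agent.Lib.Seat6.ImpPoint

open TensorProduct FlatCA Groth.Agent.Lib.Seat6.FibBC

attribute [local instance] Algebra.TensorProduct.rightAlgebra

section Move

variable {A B : Type u} [CommRing A] [CommRing B] [Algebra A B]
  (N : Type u) [AddCommGroup N] [Module B N] (p : Ideal A) [p.IsPrime]
  {A' B' N' : Type u} [CommRing A'] [CommRing B'] [Algebra A A'] [Algebra B B'] [Algebra A' B']
  [Algebra A B'] [IsScalarTower A B B'] [IsScalarTower A A' B']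
  [AddCommGroup N'] [Module B' N'] [Module B N'] [IsScalarTower B B' N'] [Module A' N']
  [IsScalarTower A' B' N']
  (f : N →ₗ[B] N') (t' t : Ideal A') [t'.IsPrime] [t.IsPrime] (P : Ideal B') [P.IsPrime]

theorem isImpurity_of_le (himp : IsImpurity A B N p A' B' N' f t' t P)
    (t₀ : Ideal A') [t₀.IsPrime] (htt₀ : t ≤ t₀) (ht₀ : t₀.LiesOver p)
    (s : A') (hs : s ∉ t₀) (hmem : algebraMap A' B' s ∈ P ⊔ t.map (algebraMap A' B')) :
    IsImpurity A B N p A' B' N' f t' t₀ P := by
  obtain ⟨hpo, hbc, hle, htp, hPt', hass, hclos⟩ := himp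
  refine ⟨hpo, hbc, hle.trans htt₀, ht₀, hPt', hass, ?_⟩
  intro P' _ hPP' hover
  apply hs
  rw [hover.over, Ideal.mem_comap]
  have h1 : P ⊔ t.map (algebraMap A' B') ≤ P' := by
    refine sup_le hPP' ?_
    rw [Ideal.map_le_iff_le_comap]
    intro x hx
    have : x ∈ t₀ := htt₀ hx
    rw [hover.over] at this
    exact this
  exact h1 hmem

end Move

section Jacobson

variable {A G : Type u} [CommRing A] [CommRing G] [Algebra A G] [Algebra.FiniteType A G]

theorem exists_le_fiberIdeal_isMaximal (p : Ideal A) [p.IsPrime] (t : Ideal G) [t.IsPrime]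
    [t.LiesOver p] (s : G) (hs : s ∉ t) :
    ∃ t₀ : Ideal G, t₀.IsPrime ∧ t₀.LiesOver p ∧ t ≤ t₀ ∧ s ∉ t₀ ∧
      (fiberIdeal p t₀).IsMaximal := by
  haveI : Algebra.FiniteType p.ResidueField (p.Fiber G) := inferInstance
  haveI : IsJacobsonRing (p.Fiber G) := isJacobsonRing_of_finiteType (A := p.ResidueField)
  haveI h𝔗 : (fiberIdeal p t).IsPrime := fiberIdeal_isPrime p t
  have hc : (fiberIdeal p t).comap (algebraMap G (p.Fiber G)) = t := comap_fiberIdeal p t
  have hs' : algebraMap G (p.Fiber G) s ∉ fiberIdeal p t := by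
    intro hmem
    apply hs
    rw [← hc]
    exact hmem
  have hjac : (fiberIdeal p t).jacobson = fiberIdeal p t :=
    IsJacobsonRing.out inferInstance h𝔗.isRadical
  rw [← hjac, Ideal.jacobson, Ideal.mem_sInf] at hs'
  push Not at hs'
  obtain ⟨𝔐, ⟨h𝔗𝔐, h𝔐max⟩, hs𝔐⟩ := hs'
  haveI := h𝔐max
  let Q : PrimeSpectrum (p.Fiber G) := ⟨𝔐, h𝔐max.isPrime⟩
  have hmem := ((PrimeSpectrum.primesOverOrderIsoFiber A G p).symm Q).2
  rw [PrimeSpectrum.coe_primesOverOrderIsoFiber_symm_apply] at hmem
  refine ⟨𝔐.comap (algebraMap G (p.Fiber G)), hmem.1, hmem.2, ?_, hs𝔐, ?_⟩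
  · rw [← hc]
    exact Ideal.comap_mono h𝔗𝔐
  · rw [Groth.Agent.Lib.Seat6.BCInj.fiberIdeal_comap]
    exact h𝔐max

end Jacobson

end Groth.Agent.Lib.Seat6.ImpPoint
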