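import Mathlib
import Groth.Prelude.Def_FlatCA

/-!
# Rebasing an impurity along a base change (seat 6)

If `(A', B', N')` is the base change of `(A, B, N)` along `A → A'` and `p'` is a prime of `A'`
above `p`, then an impurity of `N'` above `p'` is an impurity of `N` above `p` (for the composed
algebra structures).  Also: quasi-finiteness at a prime composes with a quasi-finite algebra.
-/

set_option autoImplicit false
set_option linter.style.haveILetI false
universe u

namespace Groth.Agent.Lib.Seat6.ImpRebase

open TensorProduct FlatCA

/-- Rebase of an impurity: an impurity of the base change `N'` above `p'` is an impurity of `N`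
above `p`. All the composed algebra / module structures are taken as hypotheses. -/
theorem isImpurity_rebase {A B : Type u} [CommRing A] [CommRing B] [Algebra A B]
    (N : Type u) [AddCommGroup N] [Module B N] (p : Ideal A) [p.IsPrime]
    (A' B' N' : Type u) [CommRing A'] [CommRing B'] [Algebra A A'] [Algebra B B'] [Algebra A' B']
    [Algebra A B'] [IsScalarTower A B B'] [IsScalarTower A A' B'] [Algebra.IsPushout A B A' B']
    [AddCommGroup N'] [Module B' N'] [Module B N'] [IsScalarTower B B' N']
    (f : N →ₗ[B] N') (hf : IsBaseChange B' f)
    (p' : Ideal A') [p'.IsPrime] [p'.LiesOver p]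
    (A'' B'' N'' : Type u) [CommRing A''] [CommRing B''] [Algebra A' A''] [Algebra B' B'']
    [Algebra A'' B''] [Algebra A' B''] [IsScalarTower A' B' B''] [IsScalarTower A' A'' B'']
    [AddCommGroup N''] [Module B'' N''] [Module B' N''] [IsScalarTower B' B'' N'']
    [Module A'' N''] [IsScalarTower A'' B'' N'']
    [Algebra A A''] [IsScalarTower A A' A''] [Algebra B B''] [IsScalarTower B B' B'']
    [Algebra A B''] [IsScalarTower A A'' B''] [IsScalarTower A B B''] [IsScalarTower A B' B'']
    [IsScalarTower A A' B'']
    [Module B N''] [IsScalarTower B B' N''] [IsScalarTower B B'' N'']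
    (f'' : N' →ₗ[B'] N'') (t' t : Ideal A'') [t'.IsPrime] [t.IsPrime] (P : Ideal B'') [P.IsPrime]
    (himp : IsImpurity A' B' N' p' A'' B'' N'' f'' t' t P) :
    IsImpurity A B N p A'' B'' N'' ((f''.restrictScalars B).comp f) t' t P := by
  obtain ⟨hpo, hbc, hle, htp, hPt', hass, hclos⟩ := himp
  refine ⟨?_, IsBaseChange.comp hf hbc, hle, ?_, hPt', hass, hclos⟩
  · -- pushout composition
    haveI h1 : Algebra.IsPushout A A' B B' := Algebra.IsPushout.symm inferInstance
    haveI h2 : Algebra.IsPushout A' A'' B' B'' := Algebra.IsPushout.symm hpo
    have h3 : Algebra.IsPushout A A'' B B'' :=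
      (Algebra.IsPushout.comp_iff A A' B B' (T := A'') (T' := B'')).mpr h2
    exact Algebra.IsPushout.symm h3
  · haveI := htp
    exact Ideal.LiesOver.trans t p' p

/-- Quasi-finiteness at a prime composes with a quasi-finite algebra. -/
theorem quasiFiniteAt_trans {A A' A'' : Type u} [CommRing A] [CommRing A'] [CommRing A'']
    [Algebra A A'] [Algebra A' A''] [Algebra A A''] [IsScalarTower A A' A'']
    (p' : Ideal A') [p'.IsPrime] (t : Ideal A'') [t.IsPrime] [t.LiesOver p']
    [Algebra.QuasiFiniteAt A p'] [Algebra.QuasiFinite A' A''] : Algebra.QuasiFiniteAt A t := by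
  letI := Localization.AtPrime.algebraOfLiesOver p' t
  haveI : Algebra.QuasiFinite A' (Localization.AtPrime t) := inferInstance
  haveI : IsScalarTower A' (Localization.AtPrime p') (Localization.AtPrime t) := inferInstance
  haveI : Algebra.QuasiFinite (Localization.AtPrime p') (Localization.AtPrime t) :=
    Algebra.QuasiFinite.of_restrictScalars A' _ _
  haveI : IsScalarTower A (Localization.AtPrime p') (Localization.AtPrime t) := inferInstance
  exact Algebra.QuasiFinite.trans A (Localization.AtPrime p') (Localization.AtPrime t)

end Groth.Agent.Lib.Seat6.ImpRebase
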