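import Mathlib
import Groth.Agent.Lib.Seat6DimOnePrime
import Groth.Agent.Lib.Seat6QFShrink

/-!
# Ring form of: a closed subscheme through `x`, quasi-finite at `x`, meeting a given open set
-/

set_option autoImplicit false
set_option linter.style.haveILetI false

universe u

namespace Groth.Agent.Lib.Seat6.QFClosure

open Groth.Agent.Lib.Seat6.DimOnePrime

theorem exists_quotient_quasiFiniteAt {R B : Type u} [CommRing R] [CommRing B] [Algebra R B]
    [Algebra.FiniteType R B] [IsNoetherianRing B]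
    (V : Set (PrimeSpectrum B)) (hV : IsOpen V) (z x : PrimeSpectrum B) (hz : z ∈ V) (hzx : z ≤ x)
    (hne : ∀ y ∈ V, y.comap (algebraMap R B) ≠ x.comap (algebraMap R B))
    (hcl : ∀ y : PrimeSpectrum B,
      y.comap (algebraMap R B) = x.comap (algebraMap R B) → x ≤ y → y = x) :
    ∃ q : PrimeSpectrum B, q ∈ V ∧ z ≤ q ∧ q ≤ x ∧
      ∀ y : PrimeSpectrum (B ⧸ q.asIdeal), y.comap (Ideal.Quotient.mk q.asIdeal) = x →
        ((Ideal.Quotient.mk q.asIdeal).comp (algebraMap R B)).QuasiFiniteAt y.asIdeal := by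
  obtain ⟨q, hqV, hzq, hqx, hq⟩ := exists_point_dim_one V hV z x hz hzx
  refine ⟨q, hqV, hzq, hqx, ?_⟩
  intro y hy
  have halg : ((Ideal.Quotient.mk q.asIdeal).comp (algebraMap R B)).toAlgebra =
      (inferInstance : Algebra R (B ⧸ q.asIdeal)) := Algebra.algebra_ext _ _ (fun r => rfl)
  unfold RingHom.QuasiFiniteAt
  rw [halg]
  have hinj : Function.Injective (PrimeSpectrum.comap (Ideal.Quotient.mk q.asIdeal)) :=
    PrimeSpectrum.comap_injective_of_surjective _ Ideal.Quotient.mk_surjective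
  have hcomp : ∀ y' : PrimeSpectrum (B ⧸ q.asIdeal),
      (y'.comap (Ideal.Quotient.mk q.asIdeal)).comap (algebraMap R B) =
        y'.comap (algebraMap R (B ⧸ q.asIdeal)) := by
    intro y'
    rw [IsScalarTower.algebraMap_eq R B (B ⧸ q.asIdeal)]
    rfl
  have hqle : ∀ y' : PrimeSpectrum (B ⧸ q.asIdeal), q ≤ y'.comap (Ideal.Quotient.mk q.asIdeal) := by
    intro y' b hb
    change Ideal.Quotient.mk q.asIdeal b ∈ y'.asIdeal
    rw [Ideal.Quotient.eq_zero_iff_mem.2 hb]
    exact y'.asIdeal.zero_mem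
  have hmono : ∀ y₁ y₂ : PrimeSpectrum (B ⧸ q.asIdeal), y₁ ≤ y₂ →
      y₁.comap (Ideal.Quotient.mk q.asIdeal) ≤ y₂.comap (Ideal.Quotient.mk q.asIdeal) :=
    fun y₁ y₂ h => Ideal.comap_mono h
  refine Groth.Agent.Lib.Seat6.QFShrink.quasiFiniteAt_of_isolated y ?_ ?_
  · intro y' hfib hle
    apply hinj
    rw [hy]
    apply hcl
    · rw [hcomp, hfib, ← hcomp, hy]
    · rw [← hy]; exact hmono _ _ hle
  · intro y' hfib hle
    apply hinj
    rw [hy]
    have hfib' : (y'.comap (Ideal.Quotient.mk q.asIdeal)).comap (algebraMap R B) =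
        x.comap (algebraMap R B) := by rw [hcomp, hfib, ← hcomp, hy]
    have hlex : y'.comap (Ideal.Quotient.mk q.asIdeal) ≤ x := by
      rw [← hy]; exact hmono _ _ hle
    have hlt : q < y'.comap (Ideal.Quotient.mk q.asIdeal) := by
      refine lt_of_le_of_ne (hqle y') (fun he => ?_)
      exact hne q hqV (by rw [← hfib', ← he])
    exact hq _ hlt hlex

end Groth.Agent.Lib.Seat6.QFClosure
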