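import Mathlib
import Groth.Agent.Lib.Seat6QFClosure

/-!
# Closed subscheme through `x`, quasi-finite at `x`, with generic point in a given open set
-/

set_option autoImplicit false
set_option linter.style.haveILetI false

universe u

open CategoryTheory AlgebraicGeometry

namespace Groth.Agent.Lib.Seat6.QFClosureSch

set_option backward.isDefEq.respectTransparency false in
theorem quasiFiniteAt_comp_openImmersion {X Y Z : Scheme.{u}} {g : X ⟶ Y} {h : Y ⟶ Z}
    [IsOpenImmersion h] {x : X} : (g ≫ h).QuasiFiniteAt x ↔ g.QuasiFiniteAt x := by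
  simp only [Scheme.Hom.QuasiFiniteAt, Scheme.Hom.stalkMap_comp, CommRingCat.hom_comp,
    RingHom.QuasiFinite.respectsIso.cancel_left_isIso]

set_option backward.isDefEq.respectTransparency false in
theorem quasiFiniteAt_SpecMap_iff {R S : CommRingCat.{u}} (φ : R ⟶ S) (y : Spec S) :
    (Spec.map φ).QuasiFiniteAt y ↔ φ.hom.QuasiFiniteAt y.asIdeal := by
  algebraize [φ.hom]
  let := Localization.AtPrime.algebraOfLiesOver (y.asIdeal.under R) y.asIdeal
  trans Algebra.QuasiFinite (Localization.AtPrime (y.asIdeal.under R))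
    (Localization.AtPrime y.asIdeal)
  · rw [← RingHom.quasiFinite_algebraMap]
    exact RingHom.QuasiFinite.respectsIso.arrow_mk_iso_iff (Scheme.arrowStalkMapSpecIso ..)
  exact ⟨fun _ ↦ .trans _ (Localization.AtPrime (y.asIdeal.under R)) _,
    fun _ ↦ .of_restrictScalars R _ _⟩

theorem affine_dict {X Y : Scheme.{u}} (f : X ⟶ Y) {V₀ : Y.Opens} (hV₀ : IsAffineOpen V₀)
    {W : X.Opens} (hW : IsAffineOpen W) (e : W ≤ f ⁻¹ᵁ V₀) (r : Spec Γ(X, W)) :
    f (hW.fromSpec r) = hV₀.fromSpec (Spec.map (f.appLE V₀ W e) r) := by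
  have := congr($(IsAffineOpen.SpecMap_appLE_fromSpec f hV₀ hW e) r)
  simpa only [Scheme.Hom.comp_apply] using this.symm

/-- a point closed in its fibre has no proper specialization in the fibre. -/
theorem eq_of_specializes_of_isClosed_fibre {X S : Scheme.{u}} (f : X ⟶ S) (x : X)
    (hcl : IsClosed (Subtype.val ⁻¹' {x} : Set ↑(f ⁻¹' {f x})))
    (x' : X) (hx' : f x' = f x) (hsp : x ⤳ x') : x' = x := by
  let a : ↑(f ⁻¹' {f x}) := ⟨x, rfl⟩
  let b : ↑(f ⁻¹' {f x}) := ⟨x', hx'⟩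
  have hab : a ⤳ b := Topology.IsInducing.subtypeVal.specializes_iff.1 hsp
  have : b ∈ (Subtype.val ⁻¹' {x} : Set ↑(f ⁻¹' {f x})) := hab.mem_closed hcl rfl
  exact this

/-- the ideal of the reduced induced structure on `closure {fromSpec q}` in the chart `W`. -/
theorem vanishingIdeal_closure_ideal {X : Scheme.{u}} {W : X.Opens} (hW : IsAffineOpen W)
    (q : Spec Γ(X, W)) :
    (Scheme.IdealSheafData.vanishingIdeal
      ⟨closure {hW.fromSpec q}, isClosed_closure⟩).ideal ⟨W, hW⟩ = q.asIdeal := by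
  rw [Scheme.IdealSheafData.vanishingIdeal_ideal]
  have h1 : hW.fromSpec ⁻¹' (closure {hW.fromSpec q}) = closure ({q} : Set (Spec Γ(X, W))) := by
    rw [hW.fromSpec.isOpenEmbedding.isOpenMap.preimage_closure_eq_closure_preimage
      hW.fromSpec.continuous, ← Set.image_singleton,
      Set.preimage_image_eq _ hW.fromSpec.isOpenEmbedding.injective]
  refine (congrArg PrimeSpectrum.vanishingIdeal h1).trans ?_
  exact (PrimeSpectrum.vanishingIdeal_closure _).trans (PrimeSpectrum.vanishingIdeal_singleton _)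

open Groth.Agent.Lib.Seat6.DimOnePrime Groth.Agent.Lib.Seat6.QFClosure in
theorem main {X S : Scheme.{u}} (f : X ⟶ S) [LocallyOfFiniteType f] [IsLocallyNoetherian S]
    (x : X) (hcl : IsClosed (Subtype.val ⁻¹' {x} : Set ↑(f ⁻¹' {f x}))) (U : X.Opens)
    (hU : ∀ x' ∈ U, f x' ≠ f x) (hxU : x ∈ closure (U : Set ↑X)) :
    ∃ (I : X.IdealSheafData) (z₀ x₀ : ↑I.subscheme), I.subschemeι x₀ = x ∧
      (I.subschemeι ≫ f).QuasiFiniteAt x₀ ∧
      I.subschemeι z₀ ∈ U ∧ I.subschemeι z₀ ⤳ x ∧ f (I.subschemeι z₀) ≠ f x := by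
  -- charts
  obtain ⟨_, ⟨V, hV, rfl⟩, hsV, -⟩ :=
    S.isBasis_affineOpens.exists_subset_of_mem_open (Set.mem_univ (f x)) isOpen_univ
  obtain ⟨_, ⟨W, hW, rfl⟩, hxW, hWV⟩ := X.isBasis_affineOpens.exists_subset_of_mem_open
    (show x ∈ ((f ⁻¹ᵁ V : X.Opens) : Set X) from hsV) (f ⁻¹ᵁ V).isOpen
  have e : W ≤ f ⁻¹ᵁ V := hWV
  -- rings
  let φ := f.appLE V W e
  have hφ : φ.hom.FiniteType :=
    (HasRingHomProperty.iff_appLE (P := @LocallyOfFiniteType)).1 inferInstance ⟨V, hV⟩ ⟨W, hW⟩ e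
  haveI : IsNoetherianRing Γ(S, V) := IsLocallyNoetherian.component_noetherian ⟨V, hV⟩
  algebraize [φ.hom]
  haveI : IsNoetherianRing Γ(X, W) := Algebra.FiniteType.isNoetherianRing Γ(S, V) Γ(X, W)
  -- points
  set xW := hW.primeIdealOf ⟨x, hxW⟩ with hxWdef
  have hxW' : hW.fromSpec xW = x := hW.fromSpec_primeIdealOf _
  let V' : Set (Spec Γ(X, W)) := hW.fromSpec ⁻¹' (U : Set X)
  have hV' : IsOpen V' := U.isOpen.preimage hW.fromSpec.continuous
  have hxcl : xW ∈ closure V' := by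
    rw [← hW.fromSpec.isOpenEmbedding.isOpenMap.preimage_closure_eq_closure_preimage
      hW.fromSpec.continuous]
    change hW.fromSpec xW ∈ closure (U : Set X)
    rw [hxW']; exact hxU
  obtain ⟨zW, hzV', hzx⟩ := exists_le_of_mem_closure V' hV' xW hxcl
  have hne : ∀ y ∈ V', PrimeSpectrum.comap (algebraMap Γ(S, V) Γ(X, W)) y ≠
      PrimeSpectrum.comap (algebraMap Γ(S, V) Γ(X, W)) xW := by
    intro y hy heq
    apply hU (hW.fromSpec y) hy
    rw [← hxW', affine_dict f hV hW e, affine_dict f hV hW e]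
    exact congrArg _ heq
  have hcl' : ∀ y : PrimeSpectrum Γ(X, W),
      PrimeSpectrum.comap (algebraMap Γ(S, V) Γ(X, W)) y =
        PrimeSpectrum.comap (algebraMap Γ(S, V) Γ(X, W)) xW → xW ≤ y → y = xW := by
    intro y heq hle
    apply hW.fromSpec.isOpenEmbedding.injective
    refine Eq.trans ?_ hxW'.symm
    apply eq_of_specializes_of_isClosed_fibre f x hcl
    · rw [← hxW', affine_dict f hV hW e, affine_dict f hV hW e]
      exact congrArg _ heq
    · rw [← hxW']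
      exact ((PrimeSpectrum.le_iff_specializes _ _).1 hle).map hW.fromSpec.continuous
  obtain ⟨q, hqV', hzq, hqx, hqf⟩ :=
    exists_quotient_quasiFiniteAt (R := Γ(S, V)) V' hV' zW xW hzV' hzx hne hcl'
  -- ideal sheaf
  let I := Scheme.IdealSheafData.vanishingIdeal ⟨closure {hW.fromSpec q}, isClosed_closure⟩
  have hI : I.ideal ⟨W, hW⟩ = q.asIdeal := vanishingIdeal_closure_ideal hW q
  have hrange : Set.range I.subschemeι = closure {hW.fromSpec q} := by
    rw [I.range_subschemeι]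
    exact Scheme.IdealSheafData.coe_support_vanishingIdeal _
  have hqx' : hW.fromSpec q ⤳ x := by
    rw [← hxW']
    exact ((PrimeSpectrum.le_iff_specializes _ _).1 hqx).map hW.fromSpec.continuous
  obtain ⟨z₀, hz₀⟩ : hW.fromSpec q ∈ Set.range I.subschemeι :=
    hrange ▸ subset_closure rfl
  -- chart on subscheme
  let j : Spec (CommRingCat.of (Γ(X, W) ⧸ I.ideal ⟨W, hW⟩)) ⟶ I.subscheme :=
    I.subschemeCover.f ⟨W, hW⟩
  haveI : IsOpenImmersion j := inferInstanceAs (IsOpenImmersion (I.subschemeCover.f ⟨W, hW⟩))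
  have hj : j ≫ I.subschemeι =
      Spec.map (CommRingCat.ofHom (Ideal.Quotient.mk (I.ideal ⟨W, hW⟩))) ≫ hW.fromSpec :=
    (I.subschemeCover_map_subschemeι _).trans (I.glueDataObjι_ι _)
  have hIx : I.ideal ⟨W, hW⟩ ≤ xW.asIdeal := hI ▸ hqx
  have hsurj : Function.Surjective (Ideal.Quotient.mk (I.ideal ⟨W, hW⟩)) :=
    Ideal.Quotient.mk_surjective
  let y₀ : PrimeSpectrum (Γ(X, W) ⧸ I.ideal ⟨W, hW⟩) :=
    ⟨xW.asIdeal.map (Ideal.Quotient.mk _),
      Ideal.map_isPrime_of_surjective hsurj (by rwa [Ideal.mk_ker])⟩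
  have hy₀ : PrimeSpectrum.comap (Ideal.Quotient.mk (I.ideal ⟨W, hW⟩)) y₀ = xW := by
    apply PrimeSpectrum.ext
    change (xW.asIdeal.map (Ideal.Quotient.mk _)).comap (Ideal.Quotient.mk _) = _
    rw [Ideal.comap_map_of_surjective _ hsurj, ← RingHom.ker_eq_comap_bot, Ideal.mk_ker,
      sup_eq_left.2 hIx]
  have key : ∀ (J : Ideal Γ(X, W)) (_ : J = q.asIdeal) (y : PrimeSpectrum (Γ(X, W) ⧸ J)),
      PrimeSpectrum.comap (Ideal.Quotient.mk J) y = xW →
      ((Ideal.Quotient.mk J).comp φ.hom).QuasiFiniteAt y.asIdeal := by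
    rintro J rfl y hy
    exact hqf y hy
  refine ⟨I, z₀, j y₀, ?_, ?_, ?_, ?_, ?_⟩
  · rw [← Scheme.Hom.comp_apply, hj, Scheme.Hom.comp_apply]
    refine Eq.trans ?_ hxW'
    exact congrArg _ hy₀
  · rw [← Scheme.Hom.quasiFiniteAt_comp_iff_of_isOpenImmersion (f := j)]
    have hcomp : j ≫ I.subschemeι ≫ f =
        Spec.map (φ ≫ CommRingCat.ofHom (Ideal.Quotient.mk (I.ideal ⟨W, hW⟩))) ≫
          hV.fromSpec := by
      rw [← Category.assoc, hj, Category.assoc, ← IsAffineOpen.SpecMap_appLE_fromSpec f hV hW e,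
        Spec.map_comp, Category.assoc]
    rw [hcomp, quasiFiniteAt_comp_openImmersion, quasiFiniteAt_SpecMap_iff]
    exact key (I.ideal ⟨W, hW⟩) hI y₀ hy₀
  · rw [hz₀]; exact hqV'
  · rw [hz₀]; exact hqx'
  · exact hU _ (by rw [hz₀]; exact hqV')

end Groth.Agent.Lib.Seat6.QFClosureSch
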