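import Mathlib
import Groth.Prelude.Def_MoreMor
import Groth.Agent.Lib.Seat11RelAss
set_option backward.isDefEq.respectTransparency.types false

/-!
# Relative associated points under base change, for an arbitrary cartesian square (seat 6)

Generalisation of `Seat11RelAss` (canonical pullback) to an arbitrary cartesian square, plus the
existence of relative associated points of the base change above a given one.
-/

set_option autoImplicit false
set_option linter.style.haveILetI false
set_option linter.unusedSectionVars false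
universe u
open CategoryTheory CategoryTheory.Limits AlgebraicGeometry TensorProduct

namespace Groth.Agent.Lib.Seat6.RelAssBC

open Groth.Agent.Lib.Seat11.FibProd Groth.Agent.Lib.Seat11.FibProdLen
open Groth.Agent.Lib.Seat11.TensorFields Groth.Agent.Lib.Seat11.BaseChangeFib
open Groth.Agent.Lib.Seat11.AssRing Groth.Agent.Lib.Seat11.AssStalk
open Groth.Agent.Lib.Seat11.FibSq Groth.Agent.Lib.Seat11.RelAss

section Fields

variable {k : Type u} [Field k] (K L : Type u) [Field K] [Field L] [Algebra k K] [Algebra k L]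
  {P : Scheme.{u}} (e : Spec (CommRingCat.of (K ⊗[k] L)) ≅ P)

include e in
/-- `Spec (K ⊗[k] L)` has a maximal point (a minimal prime). -/
theorem exists_maximal_point : ∃ t : P, ∀ t'' : P, t'' ⤳ t → t'' = t := by
  haveI : Nontrivial (K ⊗[k] L) := inferInstance
  obtain ⟨J, hJ⟩ := Ideal.nonempty_minimalPrimes (I := (⊥ : Ideal (K ⊗[k] L))) bot_ne_top
  haveI hJ' : J.IsPrime := hJ.1.1
  let Q : PrimeSpectrum (K ⊗[k] L) := ⟨J, hJ'⟩
  refine ⟨e.hom Q, fun t'' hspec => ?_⟩
  obtain ⟨Q'', rfl⟩ : ∃ Q'' : Spec (CommRingCat.of (K ⊗[k] L)), e.hom Q'' = t'' :=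
    ⟨e.inv t'', by rw [← Scheme.Hom.comp_apply, e.inv_hom_id]; rfl⟩
  have hspec' : Q'' ⤳ Q := e.hom.isOpenEmbedding.isInducing.specializes_iff.mp hspec
  have hle : Q''.asIdeal ≤ Q.asIdeal := (PrimeSpectrum.le_iff_specializes Q'' Q).mpr hspec'
  have hge : Q.asIdeal ≤ Q''.asIdeal := hJ.2 ⟨Q''.2, bot_le⟩ hle
  rw [PrimeSpectrum.ext (le_antisymm hle hge)]

end Fields

section Main

variable {X S X' S' : Scheme.{u}} {f : X ⟶ S} [LocallyOfFiniteType f] {g : S' ⟶ S}
  {f' : X' ⟶ S'} {g' : X' ⟶ X} (hc : IsPullback g' f' f g) (F : X.Modules) (x' : X')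

/-- The square of fibres. -/
noncomputable abbrev φ (s' : S') : f'.fiber s' ⟶ f.fiber (g s') :=
  fibMapSq hc s'

theorem fiberι_φ (s' : S') (w' : ↥(f'.fiber s')) :
    f.fiberι (g s') (φ hc s' w') = g' (f'.fiberι s' w') := by
  rw [← Scheme.Hom.comp_apply, fibMapSq_fiberι]
  rfl

/-- Relative associated points of `g'^*F` in terms of those of `F` and the fibre of the map of
fibres. -/
theorem fibAss_pullback_iff :
    FibAss f' ((Scheme.Modules.pullback g').obj F) x' ↔
      FibAss f F (g' x') ∧ FibAssRing (φ hc (f' x')) (f'.asFiber x') := by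
  set s' := f' x' with hs'
  set w' := f'.asFiber x' with hw'
  have hx' : f'.fiberι s' w' = x' := f'.fiberι_asFiber x'
  have h1 := isAssPoint_fiber_iff f' ((Scheme.Modules.pullback g').obj F) s' w'
  rw [hx'] at h1
  rw [← h1]
  have e1 : (Scheme.Modules.pullback (f'.fiberι s')).obj
        ((Scheme.Modules.pullback g').obj F) ≅
      (Scheme.Modules.pullback (φ hc s')).obj
        ((Scheme.Modules.pullback (f.fiberι (g s'))).obj F) :=
    (Scheme.Modules.pullbackComp _ _).app F ≪≫
      (Scheme.Modules.pullbackCongr (fibMapSq_fiberι hc s').symm).app F ≪≫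
      ((Scheme.Modules.pullbackComp _ _).app F).symm
  rw [isAssPoint_iff_of_iso e1 w',
    isAssPoint_pullback_iff_of_flat (φ hc s') _ w' (Flat.stalkMap _ w'),
    isAssPoint_fiber_iff, fiberι_φ, hx']

/-- Over every point `w` of the fibre of `f` there is a point of the fibre of `f'` at which the map
of fibres has depth zero. -/
theorem exists_fibAssRing (s' : S') (w : ↥(f.fiber (g s'))) :
    ∃ w' : ↥(f'.fiber s'), φ hc s' w' = w ∧ FibAssRing (φ hc s') w' := by
  letI : Algebra (S.residueField (g s')) (S'.residueField s') :=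
    (g.residueFieldMap s').hom.toAlgebra
  have sq : IsPullback (φ hc s') (f'.fiberToSpecResidueField s')
      (f.fiberToSpecResidueField (g s'))
      (Spec.map (CommRingCat.ofHom (algebraMap (S.residueField (g s')) (S'.residueField s')))) :=
    isPullback_fibMapSq hc s'
  letI : Algebra (S.residueField (g s')) ((f.fiber (g s')).residueField w) :=
    resAlg (k := S.residueField (g s')) (f.fiberToSpecResidueField (g s')) w
  obtain ⟨t, ht⟩ := exists_maximal_point (k := S.residueField (g s'))
    ((f.fiber (g s')).residueField w) (S'.residueField s')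
    (fibIsoSq (k := S.residueField (g s')) (S'.residueField s') sq w)
  refine ⟨(φ hc s').fiberι w t, Groth.Agent.Lib.Helper10.FibStalk.fiberι_apply_eq _ _ t, ?_⟩
  have h1 := fibAssRing_iff_isAssPoint_structureModule (φ hc s')
    (isPullback_fiber (φ hc s') w) t
  rw [h1, isAssPoint_fiber_iff_maximal (k := S.residueField (g s')) (S'.residueField s') sq w t]
  exact ht

include hc in
/-- Every relative associated point `x` of `F` over `g s'` lifts to a relative associated point of
`g'^*F` over `s'`. -/
theorem exists_fibAss_pullback (s' : S') (x : X) (hx : f x = g s') (hass : FibAss f F x) :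
    ∃ x' : X', g' x' = x ∧ f' x' = s' ∧ FibAss f' ((Scheme.Modules.pullback g').obj F) x' := by
  obtain ⟨w, rfl⟩ : x ∈ Set.range (f.fiberι (g s')) := by
    rw [f.range_fiberι]
    exact hx
  obtain ⟨w', hw', hass'⟩ := exists_fibAssRing hc s' w
  have hs' : f' (f'.fiberι s' w') = s' :=
    Groth.Agent.Lib.Helper10.FibStalk.fiberι_apply_eq f' s' w'
  have hgx : g' (f'.fiberι s' w') = f.fiberι (g s') w := by
    rw [← fiberι_φ hc, hw']
  refine ⟨f'.fiberι s' w', hgx, hs', ?_⟩
  rw [fibAss_pullback_iff hc F, hgx]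
  refine ⟨hass, ?_⟩
  -- transport along `f' (f'.fiberι s' w') = s'`
  have key : ∀ (s'' : S') (h : s'' = s') (w'' : ↥(f'.fiber s'')),
      f'.fiberι s'' w'' = f'.fiberι s' w' → FibAssRing (φ hc s'') w'' := by
    intro s'' h w'' hw''
    subst h
    have : w'' = w' := (f'.fiberι s'').isEmbedding.injective hw''
    rw [this]
    exact hass'
  exact key _ hs' _ (f'.fiberι_asFiber _)

end Main

section Final

variable {X S X' S' : Scheme.{u}} {f : X ⟶ S} [LocallyOfFiniteType f] {g : S' ⟶ S}
  {f' : X' ⟶ S'} {g' : X' ⟶ X} (hc : IsPullback g' f' f g) (F : X.Modules)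

theorem mem_relAss_iff_fibAss {X S : Scheme.{u}} (f : X ⟶ S) (F : X.Modules) (x : X) :
    x ∈ MoreMor.relAss f F ↔ FibAss f F x := Iff.rfl

include hc in
/-- The relative associated points of `F` over `g s'` lie in `U` iff those of the base change over
`s'` lie in the preimage of `U`. -/
theorem relAss_subset_iff (U : X.Opens) (s' : S') :
    {x : ↑X | x ∈ MoreMor.relAss f F ∧ f x = g s'} ⊆ (U : Set ↑X) ↔
      {x' : ↑X' | x' ∈ MoreMor.relAss f' ((Scheme.Modules.pullback g').obj F) ∧ f' x' = s'} ⊆
        (g' ⁻¹ᵁ U : Set ↑X') := by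
  constructor
  · rintro h x' ⟨hx'ass, hx's⟩
    rw [mem_relAss_iff_fibAss, fibAss_pullback_iff hc F] at hx'ass
    have hfx : f (g' x') = g s' := by
      rw [← hx's, ← Scheme.Hom.comp_apply, ← Scheme.Hom.comp_apply, hc.w]
    exact h ⟨hx'ass.1, hfx⟩
  · rintro h x ⟨hxass, hxs⟩
    obtain ⟨x', hx'x, hx's, hx'ass⟩ := exists_fibAss_pullback hc F s' x hxs hxass
    have := h ⟨hx'ass, hx's⟩
    rw [← hx'x]
    exact this

end Final

end Groth.Agent.Lib.Seat6.RelAssBC
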