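import Mathlib
import Groth.Prelude.Def_MoreMor
import Groth.Agent.Lib.Seat6RelAssLRA
import Groth.Agent.Lib.Helper2FlatOver

/-!
# The relative assassin on affine charts (seat 6)

`mem_relAss_iff_LRA`: for `x` in an affine open `U ≤ f⁻¹ V` (`V` affine), `x ∈ relAss f F` iff the
elementwise condition `LRA` holds for the prime of `x` and the submodule `p Γ(F,U)`.
-/

set_option autoImplicit false
set_option linter.style.haveILetI false
universe u
open CategoryTheory Limits AlgebraicGeometry TopologicalSpace Opposite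

namespace Groth.Agent.Lib.Seat6.RelAssSch

open Groth.Agent.Lib.Helper2.FlatOver Groth.Agent.Lib.Seat6.RelAssLRA

variable {X S : Scheme.{u}}

theorem mem_relAss_iff_LRA (f : X ⟶ S) (F : X.Modules) [F.IsQuasicoherent] {U : X.Opens}
    (hU : IsAffineOpen U) {V : S.Opens} (hV : IsAffineOpen V) (e : U ≤ f ⁻¹ᵁ V) (x : X)
    (hx : x ∈ U) :
    letI : Algebra Γ(S, V) Γ(X, U) := (f.appLE V U e).hom.toAlgebra
    x ∈ MoreMor.relAss f F ↔ LRA (hU.primeIdealOf ⟨x, hx⟩).asIdeal
      ((hV.primeIdealOf ⟨f x, e hx⟩).asIdeal.map (algebraMap Γ(S, V) Γ(X, U)) • ⊤ :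
        Submodule Γ(X, U) Γ(F, U)) := by
  letI alg : Algebra Γ(S, V) Γ(X, U) := (f.appLE V U e).hom.toAlgebra
  set q := (hU.primeIdealOf ⟨x, hx⟩).asIdeal with hq
  set p := (hV.primeIdealOf ⟨f x, e hx⟩).asIdeal with hp
  letI algSt : Algebra Γ(X, U) (X.presheaf.stalk x) := X.presheaf.algebra_section_stalk ⟨x, hx⟩
  letI := moduleStalkSections F U x hx
  haveI loc : IsLocalization.AtPrime (X.presheaf.stalk x) q := hU.isLocalization_stalk ⟨x, hx⟩
  haveI := isLocalizedModule_germ hU F x hx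
  haveI : IsScalarTower Γ(X, U) (X.presheaf.stalk x) (F.presheaf.stalk x) := by
    refine ⟨fun r a y => ?_⟩
    change (X.presheaf.germ U x hx r * a) • y = X.presheaf.germ U x hx r • (a • y)
    rw [mul_smul]
  have key := isAssociatedPrime_quot_iff_LRA q (X.presheaf.stalk x) (germₗ F U x hx)
    (p.map (algebraMap Γ(S, V) Γ(X, U)))
  have hI : Ideal.map (f.stalkMap x).hom (IsLocalRing.maximalIdeal (S.presheaf.stalk (f x))) =
      (p.map (algebraMap Γ(S, V) Γ(X, U))).map (algebraMap Γ(X, U) (X.presheaf.stalk x)) := by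
    letI := S.presheaf.algebra_section_stalk ⟨f x, e hx⟩
    haveI : IsLocalization.AtPrime (S.presheaf.stalk (f x)) p :=
      hV.isLocalization_stalk ⟨f x, e hx⟩
    have h𝔪 : IsLocalRing.maximalIdeal (S.presheaf.stalk (f x)) =
        p.map (algebraMap Γ(S, V) (S.presheaf.stalk (f x))) :=
      (IsLocalization.AtPrime.map_eq_maximalIdeal p (S.presheaf.stalk (f x))).symm
    rw [h𝔪, Ideal.map_map, Ideal.map_map]
    congr 1
    ext a
    exact stalkMap_germ_eq f e x hx a
  have h0 : x ∈ MoreMor.relAss f F ↔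
      IsAssociatedPrime (IsLocalRing.maximalIdeal (X.presheaf.stalk x))
        ((F.presheaf.stalk x) ⧸ (Ideal.map (f.stalkMap x).hom
          (IsLocalRing.maximalIdeal (S.presheaf.stalk (f x))) •
            (⊤ : Submodule (X.presheaf.stalk x) (F.presheaf.stalk x)))) := Iff.rfl
  rw [h0, hI]
  exact key

end Groth.Agent.Lib.Seat6.RelAssSch
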