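import Mathlib
import Groth.Prelude.Def_MoreMor
import Groth.Agent.Lib.Seat6RelAssSch
import Groth.Agent.Lib.Seat6RelAssQuot
import Groth.Agent.Lib.Seat6NwdSch
import Groth.Agent.Lib.Helper2QCoh
import Groth.Agent.Lib.Helper23FinType2

/-!
# Spreading relative associated points: affine charts (seat 6)
-/

set_option autoImplicit false
set_option linter.style.haveILetI false
universe u
open CategoryTheory Limits AlgebraicGeometry TopologicalSpace Opposite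

namespace Groth.Agent.Lib.Seat6.RelAssChart

open Groth.Agent.Lib.Seat6.RelAssLRA Groth.Agent.Lib.Seat6.RelAssSch
  Groth.Agent.Lib.Seat6.RelAssQuot Groth.Agent.Lib.Seat6.Nwd Groth.Agent.Lib.Helper2

variable {X S : Scheme.{u}} (f : X ⟶ S) (F : X.Modules) [F.IsQuasicoherent]
  {W : X.Opens} (hW : IsAffineOpen W) {V₀ : S.Opens} (hV₀ : IsAffineOpen V₀) (e : W ≤ f ⁻¹ᵁ V₀)

include hV₀ in
theorem mem_relAss_fromSpec_iff (r : Spec Γ(X, W)) :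
    letI : Algebra Γ(S, V₀) Γ(X, W) := (f.appLE V₀ W e).hom.toAlgebra
    hW.fromSpec r ∈ MoreMor.relAss f F ↔ LRA r.asIdeal
      ((r.asIdeal.comap (algebraMap Γ(S, V₀) Γ(X, W))).map (algebraMap Γ(S, V₀) Γ(X, W)) • ⊤ :
        Submodule Γ(X, W) Γ(F, W)) := by
  letI : Algebra Γ(S, V₀) Γ(X, W) := (f.appLE V₀ W e).hom.toAlgebra
  have hx : hW.fromSpec r ∈ W := QCoh.fromSpec_mem hW r
  rw [mem_relAss_iff_LRA f F hW hV₀ e _ hx]
  have h1 : hW.primeIdealOf ⟨hW.fromSpec r, hx⟩ = r := QCoh.primeIdealOf_fromSpec hW r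
  have h2 : hV₀.primeIdealOf ⟨f (hW.fromSpec r), e hx⟩ = Spec.map (f.appLE V₀ W e) r := by
    apply hV₀.fromSpec.isOpenEmbedding.injective
    rw [hV₀.fromSpec_primeIdealOf ⟨f (hW.fromSpec r), e hx⟩]
    exact affine_dict f hV₀ hW e r
  have h3 : (hV₀.primeIdealOf ⟨f (hW.fromSpec r), e hx⟩).asIdeal =
      r.asIdeal.comap (algebraMap Γ(S, V₀) Γ(X, W)) := by
    rw [h2]
    rfl
  rw [h1, h3]

section Charts

variable [LocallyOfFiniteType f] [hFT : SheafOfModules.IsFiniteType (R := X.ringCatSheaf) F]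

include hV₀ in
/-- Chart form of: generic points of the fibres of `closure {ξ}` are relative associated points
near `ξ`. -/
theorem chart_of_minimal (r₀ : Spec Γ(X, W)) (h : hW.fromSpec r₀ ∈ MoreMor.relAss f F) :
    ∃ a : Γ(S, V₀), a ∉ r₀.asIdeal.comap (f.appLE V₀ W e).hom ∧
      ∀ r : Spec Γ(X, W), r₀.asIdeal ≤ r.asIdeal → a ∉ r.asIdeal.comap (f.appLE V₀ W e).hom →
        (∀ r' : Spec Γ(X, W), r'.asIdeal.comap (f.appLE V₀ W e).hom =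
            r.asIdeal.comap (f.appLE V₀ W e).hom → r₀.asIdeal ≤ r'.asIdeal →
            r'.asIdeal ≤ r.asIdeal → r' = r) →
        hW.fromSpec r ∈ MoreMor.relAss f F := by
  letI : Algebra Γ(S, V₀) Γ(X, W) := (f.appLE V₀ W e).hom.toAlgebra
  haveI : Algebra.FiniteType Γ(S, V₀) Γ(X, W) :=
    (HasRingHomProperty.iff_appLE (P := @LocallyOfFiniteType)).1 inferInstance ⟨V₀, hV₀⟩ ⟨W, hW⟩ e
  haveI : Module.Finite Γ(X, W) Γ(F, W) :=
    Groth.Agent.Lib.Helper23.FinType.finite_of_isFiniteType F hW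
  set p₀ : Ideal Γ(S, V₀) := r₀.asIdeal.comap (algebraMap Γ(S, V₀) Γ(X, W)) with hp₀
  haveI : p₀.IsPrime := Ideal.comap_isPrime _ _
  haveI : r₀.asIdeal.LiesOver p₀ := ⟨rfl⟩
  have h1 := (mem_relAss_fromSpec_iff f F hW hV₀ e r₀).1 h
  obtain ⟨a, ha, H⟩ := LRA_of_minimal Γ(F, W) p₀ r₀.asIdeal h1
  refine ⟨a, ha, fun r hr₀r har hmin => ?_⟩
  rw [mem_relAss_fromSpec_iff f F hW hV₀ e r]
  haveI : (r.asIdeal.comap (algebraMap Γ(S, V₀) Γ(X, W))).IsPrime := Ideal.comap_isPrime _ _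
  haveI : r.asIdeal.LiesOver (r.asIdeal.comap (algebraMap Γ(S, V₀) Γ(X, W))) := ⟨rfl⟩
  refine H (r.asIdeal.comap (algebraMap Γ(S, V₀) Γ(X, W))) r.asIdeal (Ideal.comap_mono hr₀r) har
    hr₀r ?_
  intro q' hq' hq'p hr₀q' hq'r
  have := hmin ⟨q', hq'⟩ hq'p.over.symm hr₀q' hq'r
  exact congrArg PrimeSpectrum.asIdeal this

include hV₀ in
/-- Chart form of: the fibres near `f ξ` in `closure {f ξ}` contain relative associated points
specializing `ξ`. -/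
theorem chart_exists (r₀ : Spec Γ(X, W)) (h : hW.fromSpec r₀ ∈ MoreMor.relAss f F) :
    ∃ a : Γ(S, V₀), a ∉ r₀.asIdeal.comap (f.appLE V₀ W e).hom ∧
      ∀ P : Spec Γ(S, V₀), r₀.asIdeal.comap (f.appLE V₀ W e).hom ≤ P.asIdeal → a ∉ P.asIdeal →
        ∃ r : Spec Γ(X, W), r.asIdeal.comap (f.appLE V₀ W e).hom = P.asIdeal ∧
          r₀.asIdeal ≤ r.asIdeal ∧ hW.fromSpec r ∈ MoreMor.relAss f F := by
  letI : Algebra Γ(S, V₀) Γ(X, W) := (f.appLE V₀ W e).hom.toAlgebra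
  haveI : Algebra.FiniteType Γ(S, V₀) Γ(X, W) :=
    (HasRingHomProperty.iff_appLE (P := @LocallyOfFiniteType)).1 inferInstance ⟨V₀, hV₀⟩ ⟨W, hW⟩ e
  haveI : Module.Finite Γ(X, W) Γ(F, W) :=
    Groth.Agent.Lib.Helper23.FinType.finite_of_isFiniteType F hW
  set p₀ : Ideal Γ(S, V₀) := r₀.asIdeal.comap (algebraMap Γ(S, V₀) Γ(X, W)) with hp₀
  haveI : p₀.IsPrime := Ideal.comap_isPrime _ _
  haveI : r₀.asIdeal.LiesOver p₀ := ⟨rfl⟩
  have h1 := (mem_relAss_fromSpec_iff f F hW hV₀ e r₀).1 h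
  obtain ⟨a, ha, H⟩ := exists_LRA_over Γ(F, W) p₀ r₀.asIdeal h1
  refine ⟨a, ha, fun P hP haP => ?_⟩
  obtain ⟨q, hq, hqP, hr₀q, hLRA⟩ := H P.asIdeal hP haP
  refine ⟨⟨q, hq⟩, hqP.over.symm, hr₀q, ?_⟩
  rw [mem_relAss_fromSpec_iff f F hW hV₀ e ⟨q, hq⟩]
  have h2 : Ideal.comap (algebraMap Γ(S, V₀) Γ(X, W)) q = P.asIdeal := hqP.over.symm
  change LRA q ((Ideal.comap (algebraMap Γ(S, V₀) Γ(X, W)) q).map _ • ⊤)
  rw [h2]
  exact hLRA

include hV₀ in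
/-- Chart form of: if no relative associated point over `P₀` lies in `V(I)`, the same holds near
`P₀` in `closure {P₀}`. -/
theorem chart_not (I : Ideal Γ(X, W)) (P₀ : Spec Γ(S, V₀))
    (h : ∀ r : Spec Γ(X, W), r.asIdeal.comap (f.appLE V₀ W e).hom = P₀.asIdeal → I ≤ r.asIdeal →
      hW.fromSpec r ∉ MoreMor.relAss f F) :
    ∃ a : Γ(S, V₀), a ∉ P₀.asIdeal ∧
      ∀ r : Spec Γ(X, W), P₀.asIdeal ≤ r.asIdeal.comap (f.appLE V₀ W e).hom →
        a ∉ r.asIdeal.comap (f.appLE V₀ W e).hom → I ≤ r.asIdeal →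
        hW.fromSpec r ∉ MoreMor.relAss f F := by
  letI : Algebra Γ(S, V₀) Γ(X, W) := (f.appLE V₀ W e).hom.toAlgebra
  haveI : Algebra.FiniteType Γ(S, V₀) Γ(X, W) :=
    (HasRingHomProperty.iff_appLE (P := @LocallyOfFiniteType)).1 inferInstance ⟨V₀, hV₀⟩ ⟨W, hW⟩ e
  haveI : Module.Finite Γ(X, W) Γ(F, W) :=
    Groth.Agent.Lib.Helper23.FinType.finite_of_isFiniteType F hW
  obtain ⟨a, ha, H⟩ := not_LRA_of_le Γ(F, W) P₀.asIdeal I (by
    intro q hq hqP hIq hLRA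
    have h2 : Ideal.comap (algebraMap Γ(S, V₀) Γ(X, W)) q = P₀.asIdeal := hqP.over.symm
    apply h ⟨q, hq⟩ h2 hIq
    rw [mem_relAss_fromSpec_iff f F hW hV₀ e ⟨q, hq⟩]
    change LRA q ((Ideal.comap (algebraMap Γ(S, V₀) Γ(X, W)) q).map _ • ⊤)
    rw [h2]
    exact hLRA)
  refine ⟨a, ha, fun r hP₀r har hIr hmem => ?_⟩
  rw [mem_relAss_fromSpec_iff f F hW hV₀ e r] at hmem
  haveI : (r.asIdeal.comap (algebraMap Γ(S, V₀) Γ(X, W))).IsPrime := Ideal.comap_isPrime _ _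
  haveI : r.asIdeal.LiesOver (r.asIdeal.comap (algebraMap Γ(S, V₀) Γ(X, W))) := ⟨rfl⟩
  exact H (r.asIdeal.comap (algebraMap Γ(S, V₀) Γ(X, W))) hP₀r har r.asIdeal hIr hmem

end Charts

end Groth.Agent.Lib.Seat6.RelAssChart
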