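import Mathlib
import Groth.Prelude.Def_FlatCA
import Groth.Agent.Lib.Seat6WeakAssEt
import Groth.Agent.Lib.Helper3IndEtFlat
import Groth.Agent.Lib.Helper3IndEtField

/-!
# Weakly associated primes and ind-étale base change (Seat 6)

For an ind-étale ring map `R → B` (in the form `Obj.Factor R B` of the `Helper3IndEt` library), an
`R`-module `M` and a prime `Q` of `B`:
`Q ∈ WeakAss_B(B ⊗_R M) ↔ Q ∩ R ∈ WeakAss_R(M)`.
-/

set_option autoImplicit false

universe u

namespace Groth.Agent.Lib.Seat6.WeakAss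

open FlatCA TensorProduct Groth.Agent.Lib.Helper3.IndEt

variable {R B : Type u} [CommRing R] [CommRing B] [Algebra R B] (M : Type u) [AddCommGroup M]
  [Module R M]

/-- Every element of `B ⊗ M` comes from `E ⊗ M` for an étale `R`-algebra `E` mapping to `B`. -/
theorem exists_etale_rTensor_eq (H : Obj.Factor R B) (z : B ⊗[R] M) :
    ∃ (E : Type u) (_ : CommRing E) (_ : Algebra R E) (_ : Algebra.Etale R E) (g : E →ₐ[R] B)
      (w : E ⊗[R] M), (g.toLinearMap.rTensor M) w = z := by
  induction z with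
  | zero =>
    exact ⟨R, inferInstance, inferInstance, inferInstance, Algebra.ofId R B, 0, map_zero _⟩
  | tmul b m =>
    obtain ⟨E, _, _, _, g, e, rfl⟩ := exists_etale_of_factor H b
    exact ⟨E, inferInstance, inferInstance, inferInstance, g, e ⊗ₜ m, by simp⟩
  | add z₁ z₂ h₁ h₂ =>
    obtain ⟨E₁, _, _, _, g₁, w₁, hw₁⟩ := h₁
    obtain ⟨E₂, _, _, _, g₂, w₂, hw₂⟩ := h₂
    have : Algebra.Etale R (E₁ ⊗[R] E₂) := etale_tensor R E₁ E₂
    let i₁ : E₁ →ₐ[R] E₁ ⊗[R] E₂ := Algebra.TensorProduct.includeLeft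
    let i₂ : E₂ →ₐ[R] E₁ ⊗[R] E₂ := Algebra.TensorProduct.includeRight
    refine ⟨E₁ ⊗[R] E₂, inferInstance, inferInstance, inferInstance,
      Algebra.TensorProduct.productMap g₁ g₂,
      (i₁.toLinearMap.rTensor M) w₁ + (i₂.toLinearMap.rTensor M) w₂, ?_⟩
    rw [map_add, ← LinearMap.rTensor_comp_apply, ← LinearMap.rTensor_comp_apply, ← hw₁, ← hw₂]
    congr 2
    · congr 1
      ext x
      simp [i₁]
    · congr 1
      ext x
      simp [i₂]

/-- Descent of weakly associated primes along an ind-étale ring map. -/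
theorem comap_mem_weakAss_of_factor (H : Obj.Factor R B) {Q : Ideal B}
    (hQ : Q ∈ weakAss B (B ⊗[R] M)) : Q.comap (algebraMap R B) ∈ weakAss R M := by
  have hQp : Q.IsPrime := isPrime_of_mem_weakAss hQ
  obtain ⟨z, h1, h2⟩ := mem_weakAss_iff.1 hQ
  obtain ⟨E, _, _, _, g, w, hw⟩ := exists_etale_rTensor_eq M H z
  let _ : Algebra E B := g.toRingHom.toAlgebra
  have : IsScalarTower R E B := IsScalarTower.of_algebraMap_eq (fun r => (g.commutes r).symm)
  have : Module.Flat R B := flat_of_factor' H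
  have : Module.Flat E B := flat_of_unramified R E B
  let c : B ⊗[E] (E ⊗[R] M) ≃ₗ[B] B ⊗[R] M :=
    TensorProduct.AlgebraTensorModule.cancelBaseChange R E B B M
  have hc : ∀ (b : B) (y : E ⊗[R] M), c (b ⊗ₜ[E] y) = b • (g.toLinearMap.rTensor M) y := by
    intro b y
    induction y with
    | zero => simp
    | tmul e m =>
      rw [TensorProduct.AlgebraTensorModule.cancelBaseChange_tmul, LinearMap.rTensor_tmul,
        TensorProduct.smul_tmul', Algebra.smul_def, smul_eq_mul, mul_comm]
      rfl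
    | add y₁ y₂ h₁ h₂ => rw [TensorProduct.tmul_add, map_add, h₁, h₂, map_add, smul_add]
  have key : ∀ (y : E ⊗[R] M) (b : B), b • (g.toLinearMap.rTensor M) y = 0 →
      b ∈ ((Submodule.span E {y}).annihilator).map (algebraMap E B) := by
    intro y b hb
    apply mem_map_ann_of_tmul_eq_zero (A := E) (B := B) (E ⊗[R] M) y b
    apply c.injective
    rw [hc, hb, map_zero]
  have hsemi : ∀ (a : E) (y : E ⊗[R] M),
      (g.toLinearMap.rTensor M) (a • y) = algebraMap E B a • (g.toLinearMap.rTensor M) y := by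
    intro a y
    have h3 : c ((1 : B) ⊗ₜ[E] (a • y)) = c ((algebraMap E B a) ⊗ₜ[E] y) := by
      rw [← TensorProduct.smul_tmul, Algebra.smul_def, mul_one]
    rw [hc, hc, one_smul] at h3
    exact h3
  let q : Ideal E := Q.comap (algebraMap E B)
  have hqp : q.IsPrime := Ideal.comap_isPrime _ _
  have hq : q ∈ weakAss E (E ⊗[R] M) := by
    rw [mem_weakAss_iff]
    refine ⟨w, fun a ha => ?_, fun x hx => ?_⟩
    · have h3 : algebraMap E B a • z = 0 := by
        rw [← hw, ← hsemi, ha, map_zero]
      exact h1 _ h3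
    · obtain ⟨s, hs, n, hsn⟩ := h2 (algebraMap E B x) hx
      have h3 : s • (g.toLinearMap.rTensor M) (x ^ n • w) = 0 := by
        rw [hsemi, hw, map_pow, ← mul_smul]
        exact hsn
      have h4 := key _ _ h3
      by_contra hcon
      push Not at hcon
      have h5 : (Submodule.span E {x ^ n • w}).annihilator ≤ q := by
        intro s' hs'
        by_contra hs'q
        exact hcon s' hs'q n (by rw [mul_smul]; exact (mem_ann_iff _ _).1 hs')
      exact hs (Ideal.map_le_iff_le_comap.2 h5 h4)
  have h6 := (mem_weakAss_baseChange_iff_of_etale M q).1 hq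
  rwa [Ideal.comap_comap, ← IsScalarTower.algebraMap_eq] at h6

/-- Going up for weakly associated primes along an ind-étale ring map. -/
theorem mem_weakAss_of_factor (H : Obj.Factor R B) (Q : Ideal B) [hQ : Q.IsPrime]
    (h : Q.comap (algebraMap R B) ∈ weakAss R M) : Q ∈ weakAss B (B ⊗[R] M) := by
  have : Module.Flat R B := flat_of_factor' H
  refine mem_weakAss_baseChange_of_flat M Q rfl ?_ h
  intro Q' hQ' hle hcomap
  refine le_antisymm hle fun x hx => ?_
  obtain ⟨E, _, _, _, g, e, rfl⟩ := exists_etale_of_factor H x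
  have hQ'g : (Q'.comap g.toRingHom).IsPrime := Ideal.comap_isPrime _ _
  have hQg : (Q.comap g.toRingHom).IsPrime := Ideal.comap_isPrime _ _
  have hcomp : g.toRingHom.comp (algebraMap R E) = algebraMap R B := g.comp_algebraMap
  have heq : Q'.comap g.toRingHom = Q.comap g.toRingHom :=
    Algebra.QuasiFinite.eq_of_le_of_under_eq (R := R) _ _ (Ideal.comap_mono hle)
      (by rw [Ideal.under_def, Ideal.under_def, Ideal.comap_comap, Ideal.comap_comap, hcomp,
        hcomap])
  have : e ∈ Q.comap g.toRingHom := hx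
  rw [← heq] at this
  exact this

/-- Weakly associated primes and ind-étale base change. -/
theorem mem_weakAss_iff_of_factor (H : Obj.Factor R B) (Q : Ideal B) [hQ : Q.IsPrime] :
    Q ∈ weakAss B (B ⊗[R] M) ↔ Q.comap (algebraMap R B) ∈ weakAss R M :=
  ⟨comap_mem_weakAss_of_factor M H, mem_weakAss_of_factor M H Q⟩

end Groth.Agent.Lib.Seat6.WeakAss
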