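import Mathlib
import Groth.Prelude.Def_BlowUp2
import Groth.Agent.Lib.Seat64AffBlowUp
import Groth.Agent.Lib.Helper20EffCartier
import Groth.Prelude.Def_CurvBase
import Groth.Agent.Lib.Seat82BlowUpAlg

/-!
# Sheaf-level universal property of the chart `Spec A[I/a]` (seat 82)

Namespace `Groth.Agent.Lib.Seat82.BlowUpChart`.  `Y` a scheme, `ψ : A → Γ(Y, ⊤)` a ring map, `I` an ideal of `A`,
`a : A`; `resψ ψ U : A → Γ(Y, U)` is from `Seat64AffBlowUp`.
* `GenAt ψ I a y`: on some affine open neighbourhood `U` of `y`, `ψ a` is a nonzerodivisor generating `I·Γ(Y, U)`.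
* `GenAt.exists_le`: such `U` can be found inside any open neighbourhood.
* `genLocus ψ I a : Y.Opens`, the open set of such `y`.
* `resψ_mem_nonZeroDivisors`, `exists_section_mul_eq`: on an open `V` all of whose points satisfy `GenAt`, `ψ a` is a
  nonzerodivisor of `Γ(Y, V)` dividing `ψ x` for every `x ∈ I`.
* `existsUnique_ringHom`: `∃! η : A[I/a] → Γ(Y, V)` extending `resψ ψ V`.
-/

set_option autoImplicit false
universe u
open CategoryTheory AlgebraicGeometry Opposite TopologicalSpace nonZeroDivisors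

namespace Groth.Agent.Lib.Seat82.BlowUpChart

open Groth.Agent.Lib.Seat64.AffBlowUp Groth.Agent.Lib.Seat82.BlowUpAlg

variable {Y : Scheme.{u}} {A : Type u} [CommRing A]

/-- On some affine open neighbourhood `U` of `y`, `ψ a` is a nonzerodivisor generating `I·Γ(Y, U)`. -/
def GenAt (ψ : A →+* Γ(Y, ⊤)) (I : Ideal A) (a : A) (y : Y) : Prop :=
  ∃ U : Y.Opens, IsAffineOpen U ∧ y ∈ U ∧ resψ ψ U a ∈ Γ(Y, U)⁰ ∧
    Ideal.map (resψ ψ U) I = Ideal.span {resψ ψ U a}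

theorem resψ_comp (ψ : A →+* Γ(Y, ⊤)) {U W : Y.Opens} (h : U ≤ W) :
    (Y.presheaf.map (homOfLE h).op).hom.comp (resψ ψ W) = resψ ψ U :=
  RingHom.ext (res_resψ ψ h)

/-- restriction to a basic open preserves the conditions in `GenAt`. -/
theorem gen_basicOpen (ψ : A →+* Γ(Y, ⊤)) (I : Ideal A) {U : Y.Opens} (hU : IsAffineOpen U)
    (r : Γ(Y, U)) (c : Γ(Y, U)) (hc : c ∈ Γ(Y, U)⁰) (hI : Ideal.map (resψ ψ U) I = Ideal.span {c}) :
    (Y.presheaf.map (homOfLE (Y.basicOpen_le r)).op).hom c ∈ Γ(Y, Y.basicOpen r)⁰ ∧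
      Ideal.map (resψ ψ (Y.basicOpen r)) I =
        Ideal.span {(Y.presheaf.map (homOfLE (Y.basicOpen_le r)).op).hom c} := by
  constructor
  · have inst := hU.isLocalization_basicOpen r
    have h1 : (Y.presheaf.map (homOfLE (Y.basicOpen_le r)).op).hom = algebraMap _ _ := rfl
    rw [h1]
    exact IsLocalization.map_nonZeroDivisors_le (.powers r) _ (Submonoid.mem_map_of_mem _ hc)
  · rw [← resψ_comp ψ (Y.basicOpen_le r), ← Ideal.map_map, hI, Ideal.map_span, Set.image_singleton]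

theorem GenAt.exists_le {ψ : A →+* Γ(Y, ⊤)} {I : Ideal A} {a : A} {y : Y} (h : GenAt ψ I a y)
    (W : Y.Opens) (hyW : y ∈ W) :
    ∃ U : Y.Opens, IsAffineOpen U ∧ y ∈ U ∧ U ≤ W ∧ resψ ψ U a ∈ Γ(Y, U)⁰ ∧
      Ideal.map (resψ ψ U) I = Ideal.span {resψ ψ U a} := by
  obtain ⟨U, hU, hyU, hnz, hI⟩ := h
  obtain ⟨r, hrW, hyr⟩ := hU.exists_basicOpen_le ⟨y, hyW⟩ hyU
  have := gen_basicOpen ψ I hU r _ hnz hI
  rw [res_resψ ψ (Y.basicOpen_le r)] at this
  exact ⟨Y.basicOpen r, hU.basicOpen r, hyr, hrW, this.1, this.2⟩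

/-- the open locus where `ψ a` generates `I·O_Y` and is a nonzerodivisor. -/
def genLocus (ψ : A →+* Γ(Y, ⊤)) (I : Ideal A) (a : A) : Y.Opens :=
  ⟨{y | GenAt ψ I a y}, by
    rw [isOpen_iff_forall_mem_open]
    intro y hy
    obtain ⟨U, hU, hyU, hnz, hI⟩ := hy
    exact ⟨U, fun z hz => ⟨U, hU, hz, hnz, hI⟩, U.2, hyU⟩⟩

theorem mem_genLocus {ψ : A →+* Γ(Y, ⊤)} {I : Ideal A} {a : A} {y : Y} :
    y ∈ genLocus ψ I a ↔ GenAt ψ I a y := Iff.rfl

section OnOpen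

variable {ψ : A →+* Γ(Y, ⊤)} {I : Ideal A} {a : A} {V : Y.Opens} (hV : ∀ y ∈ V, GenAt ψ I a y)

include hV in
theorem eq_zero_of_mul_eq_zero (W : Y.Opens) (hWV : W ≤ V) (s : Γ(Y, W))
    (hs : s * resψ ψ W a = 0) : s = 0 := by
  choose U hU hyU hUW hnz hI using fun y : W => (hV y.1 (hWV y.2)).exists_le W y.2
  have hcov : W ≤ ⨆ y : W, U y := fun y hy => Opens.mem_iSup.2 ⟨⟨y, hy⟩, hyU ⟨y, hy⟩⟩
  refine TopCat.Sheaf.eq_of_locally_eq' Y.sheaf U W (fun y => homOfLE (hUW y)) hcov s 0 ?_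
  intro y
  change (Y.presheaf.map (homOfLE (hUW y)).op).hom s = (Y.presheaf.map (homOfLE (hUW y)).op).hom 0
  rw [map_zero]
  apply (mem_nonZeroDivisors_iff_right.mp (hnz y))
  rw [← res_resψ ψ (hUW y), ← map_mul, hs, map_zero]

include hV in
theorem resψ_mem_nonZeroDivisors (W : Y.Opens) (hWV : W ≤ V) : resψ ψ W a ∈ Γ(Y, W)⁰ := by
  rw [mem_nonZeroDivisors_iff_right]
  exact fun s hs => eq_zero_of_mul_eq_zero hV W hWV s hs

include hV in
theorem exists_section_mul_eq (x : A) (hx : x ∈ I) :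
    ∃ t : Γ(Y, V), t * resψ ψ V a = resψ ψ V x := by
  choose U hU hyU hUV hnz hI using fun y : V => (hV y.1 y.2).exists_le V y.2
  have hex : ∀ y : V, ∃ t : Γ(Y, U y), t * resψ ψ (U y) a = resψ ψ (U y) x := by
    intro y
    have : resψ ψ (U y) x ∈ Ideal.span {resψ ψ (U y) a} := by
      rw [← hI y]; exact Ideal.mem_map_of_mem _ hx
    rw [Ideal.mem_span_singleton'] at this
    exact this
  choose t ht using hex
  have hcov : V ≤ ⨆ y : V, U y := fun y hy => Opens.mem_iSup.2 ⟨⟨y, hy⟩, hyU ⟨y, hy⟩⟩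
  have hloc_mul : ∀ (y : V) (W : Y.Opens) (hW : W ≤ U y),
      (Y.presheaf.map (homOfLE hW).op).hom (t y) * resψ ψ W a = resψ ψ W x := by
    intro y W hW
    rw [← res_resψ ψ hW a, ← map_mul, ht y, res_resψ ψ hW]
  have hcompat : TopCat.Presheaf.IsCompatible Y.presheaf U t := by
    intro y y'
    change (Y.presheaf.map (homOfLE inf_le_left).op).hom (t y) =
      (Y.presheaf.map (homOfLE inf_le_right).op).hom (t y')
    rw [← sub_eq_zero]
    apply eq_zero_of_mul_eq_zero hV (U y ⊓ U y') (inf_le_left.trans (hUV y))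
    rw [sub_mul, hloc_mul y _ inf_le_left, hloc_mul y' _ inf_le_right, sub_self]
  obtain ⟨t00, ht0, -⟩ := Y.sheaf.existsUnique_gluing' U V (fun y => homOfLE (hUV y)) hcov t hcompat
  let t0 : Γ(Y, V) := t00
  have ht0' : ∀ y : V, (Y.presheaf.map (homOfLE (hUV y)).op).hom t0 = t y := ht0
  refine ⟨t0, ?_⟩
  rw [← sub_eq_zero]
  refine TopCat.Sheaf.eq_of_locally_eq' Y.sheaf U V (fun y => homOfLE (hUV y)) hcov
    (t0 * resψ ψ V a - resψ ψ V x : Γ(Y, V)) (0 : Γ(Y, V)) ?_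
  intro y
  change (Y.presheaf.map (homOfLE (hUV y)).op).hom (t0 * resψ ψ V a - resψ ψ V x) =
    (Y.presheaf.map (homOfLE (hUV y)).op).hom 0
  rw [map_zero, map_sub, map_mul, ht0' y, res_resψ ψ (hUV y), res_resψ ψ (hUV y), ht y, sub_self]

include hV in
/-- Universal property of the chart, ring-level: `resψ ψ V` extends uniquely to `A[I/a]`. -/
theorem existsUnique_ringHom :
    ∃! η : BlowUp.affineAlgebra A I a →+* Γ(Y, V), η.comp (algebraMap A _) = resψ ψ V :=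
  existsUnique_lift I a (resψ ψ V) (resψ_mem_nonZeroDivisors hV V le_rfl)
    (exists_section_mul_eq hV)

end OnOpen

section Morphism

variable {Y' : Scheme.{u}}

/-- the ring map `A → Γ(Y, ⊤)` of a morphism `g : Y ⟶ Spec A`. -/
noncomputable def ψg (g : Y ⟶ Spec (CommRingCat.of A)) : A →+* Γ(Y, ⊤) :=
  g.appTop.hom.comp (Scheme.ΓSpecIso (CommRingCat.of A)).inv.hom

theorem ψg_comp (c : Y' ⟶ Y) (g : Y ⟶ Spec (CommRingCat.of A)) :
    ψg (c ≫ g) = c.appTop.hom.comp (ψg g) := by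
  unfold ψg
  rw [Scheme.Hom.comp_appTop, CommRingCat.hom_comp, RingHom.comp_assoc]

theorem resψ_comp_appLE (c : Y' ⟶ Y) (ψ : A →+* Γ(Y, ⊤)) (W : Y.Opens) (U' : Y'.Opens)
    (e : U' ≤ c ⁻¹ᵁ W) :
    resψ (c.appTop.hom.comp ψ) U' = (c.appLE W U' e).hom.comp (resψ ψ W) := by
  unfold resψ
  rw [← RingHom.comp_assoc, ← RingHom.comp_assoc]
  congr 1
  rw [← CommRingCat.hom_comp, ← CommRingCat.hom_comp]
  congr 1
  rw [Scheme.Hom.map_appLE]
  rfl

/-- the ideal of the pullback of `I~` along `g` on an affine open. -/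
theorem ideal_comap (g : Y ⟶ Spec (CommRingCat.of A)) (I : Ideal A) (U : Y.Opens)
    (hU : IsAffineOpen U) :
    ((Curv2.idealSheaf A I).comap g).ideal ⟨U, hU⟩ = I.map (resψ (ψg g) U) := by
  have htop : (Curv2.idealSheaf A I).ideal ⟨⊤, isAffineOpen_top _⟩ =
      I.map (Scheme.ΓSpecIso (CommRingCat.of A)).inv.hom :=
    (Scheme.IdealSheafData.equivOfIsAffine).right_inv _
  rw [Groth.Agent.Lib.Helper20.EffCartier.ideal_comap_eq_map g (Curv2.idealSheaf A I) hU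
    (isAffineOpen_top _) le_top, htop, Ideal.map_map]
  rfl

/-- the structure morphism of the chart `Spec A[I/a] ⟶ Spec A`. -/
noncomputable abbrev chartMap (I : Ideal A) (a : A) :
    Spec (CommRingCat.of (BlowUp.affineAlgebra A I a)) ⟶ Spec (CommRingCat.of A) :=
  Spec.map (CommRingCat.ofHom (algebraMap A (BlowUp.affineAlgebra A I a)))

theorem ψg_specMap {B : Type u} [CommRing B] (f : A →+* B) :
    ψg (Spec.map (CommRingCat.ofHom f)) = (Scheme.ΓSpecIso (CommRingCat.of B)).inv.hom.comp f := by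
  have := Scheme.ΓSpecIso_inv_naturality (CommRingCat.ofHom f)
  have h2 := congrArg CommRingCat.Hom.hom this
  rw [CommRingCat.hom_comp, CommRingCat.hom_comp] at h2
  exact h2.symm

/-- Universal property of the chart `Spec A[I/a] ⟶ Spec A`, morphism-level. -/
theorem existsUnique_hom (I : Ideal A) (a : A) (g : Y ⟶ Spec (CommRingCat.of A))
    (hY : ∀ y, GenAt (ψg g) I a y) :
    ∃! h : Y ⟶ Spec (CommRingCat.of (BlowUp.affineAlgebra A I a)), h ≫ chartMap I a = g := by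
  set B := BlowUp.affineAlgebra A I a with hB
  set ψ : A →+* Γ(Y, ⊤) := ψg g with hψ
  have htop : resψ ψ ⊤ = ψ := RingHom.ext (resψ_top ψ)
  obtain ⟨η, hη, hηuniq⟩ := existsUnique_ringHom (V := ⊤) (fun y _ => hY y)
  rw [htop] at hη hηuniq
  have hg' : g.appTop = (Scheme.ΓSpecIso (CommRingCat.of A)).hom ≫ CommRingCat.ofHom ψ := by
    rw [hψ, ψg, CommRingCat.ofHom_comp, CommRingCat.ofHom_hom, CommRingCat.ofHom_hom,
      Iso.hom_inv_id_assoc]
  have hnat := ψg_specMap (algebraMap A B)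
  refine ⟨Y.toSpecΓ ≫ Spec.map (CommRingCat.ofHom η), ?_, ?_⟩
  · apply ext_of_isAffine
    rw [Scheme.Hom.comp_appTop, Scheme.Hom.comp_appTop, Scheme.toSpecΓ_appTop,
      Scheme.ΓSpecIso_naturality, Scheme.ΓSpecIso_naturality_assoc, hg', ← CommRingCat.ofHom_comp,
      hη]
  · intro h' hh'
    have hη' : (h'.appTop.hom.comp (Scheme.ΓSpecIso (CommRingCat.of B)).inv.hom).comp
        (algebraMap A B) = ψ := by
      rw [RingHom.comp_assoc, ← hnat, hψ, ← hh', ψg_comp]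
    have h3 := hηuniq _ hη'
    apply ext_of_isAffine
    rw [Scheme.Hom.comp_appTop, Scheme.toSpecΓ_appTop, Scheme.ΓSpecIso_naturality, ← h3,
      CommRingCat.ofHom_comp, CommRingCat.ofHom_hom, CommRingCat.ofHom_hom, Iso.hom_inv_id_assoc]

/-- On the chart `Spec A[I/a]` itself, `a` generates `I` and is a nonzerodivisor. -/
theorem genAt_chart (I : Ideal A) (a : A) (ha : a ∈ I)
    (y : Spec (CommRingCat.of (BlowUp.affineAlgebra A I a))) :
    GenAt (ψg (chartMap I a)) I a y := by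
  set B := BlowUp.affineAlgebra A I a with hB
  refine ⟨⊤, isAffineOpen_top _, trivial, ?_, ?_⟩
  · rw [resψ_top, ψg_specMap]
    have hinj' : Function.Injective (Scheme.ΓSpecIso (CommRingCat.of B)).hom.hom :=
      (Scheme.ΓSpecIso (CommRingCat.of B)).commRingCatIsoToRingEquiv.injective
    apply mem_nonZeroDivisors_of_injective hinj'
    have : (Scheme.ΓSpecIso (CommRingCat.of B)).hom.hom
        ((Scheme.ΓSpecIso (CommRingCat.of B)).inv.hom (algebraMap A B a)) = algebraMap A B a := by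
      rw [← CommRingCat.comp_apply, Iso.inv_hom_id]
      rfl
    rw [RingHom.comp_apply, this]
    exact algebraMap_mem_nonZeroDivisors I a
  · have h1 : resψ (ψg (chartMap I a)) ⊤ =
        (Scheme.ΓSpecIso (CommRingCat.of B)).inv.hom.comp (algebraMap A B) := by
      rw [← ψg_specMap]
      exact RingHom.ext (resψ_top _)
    rw [h1, ← Ideal.map_map, map_eq_span I a ha, Ideal.map_span, Set.image_singleton]
    rfl

end Morphism

section Transfer

variable {Y' : Scheme.{u}}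

theorem mem_nonZeroDivisors_of_span_eq {R : Type*} [CommRing R] {x c : R} (hc : c ∈ R⁰)
    (h : Ideal.span {x} = Ideal.span {c}) : x ∈ R⁰ := by
  have hcx : c ∈ Ideal.span {x} := h ▸ Ideal.mem_span_singleton_self c
  obtain ⟨w', hw'⟩ := Ideal.mem_span_singleton'.mp hcx
  rw [mem_nonZeroDivisors_iff_right]
  intro z hz
  apply (mem_nonZeroDivisors_iff_right.mp hc)
  rw [← hw', mul_comm w', ← mul_assoc, hz, zero_mul]

/-- the pullback of `I` is locally generated by a nonzerodivisor near `y`. -/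
def CartAt (ψ : A →+* Γ(Y, ⊤)) (I : Ideal A) (y : Y) : Prop :=
  ∃ W : Y.Opens, IsAffineOpen W ∧ y ∈ W ∧ ∃ c₀ ∈ Γ(Y, W)⁰, Ideal.map (resψ ψ W) I = Ideal.span {c₀}

theorem GenAt.cartAt {ψ : A →+* Γ(Y, ⊤)} {I : Ideal A} {a : A} {y : Y} (h : GenAt ψ I a y) :
    CartAt ψ I y := by
  obtain ⟨U, hU, hyU, hnz, hI⟩ := h
  exact ⟨U, hU, hyU, _, hnz, hI⟩

theorem CartAt.exists_le {ψ : A →+* Γ(Y, ⊤)} {I : Ideal A} {y : Y} (h : CartAt ψ I y)
    (W : Y.Opens) (hyW : y ∈ W) :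
    ∃ U : Y.Opens, IsAffineOpen U ∧ y ∈ U ∧ U ≤ W ∧
      ∃ c₀ ∈ Γ(Y, U)⁰, Ideal.map (resψ ψ U) I = Ideal.span {c₀} := by
  obtain ⟨U, hU, hyU, c₀, hnz, hI⟩ := h
  obtain ⟨r, hrW, hyr⟩ := hU.exists_basicOpen_le ⟨y, hyW⟩ hyU
  have := gen_basicOpen ψ I hU r _ hnz hI
  exact ⟨Y.basicOpen r, hU.basicOpen r, hyr, hrW, _, this.1, this.2⟩

/-- `GenAt` passes to open subschemes. -/
theorem GenAt.of_openImmersion (j : Y' ⟶ Y) [IsOpenImmersion j] {ψ : A →+* Γ(Y, ⊤)} {I : Ideal A}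
    {a : A} (y' : Y') (h : GenAt ψ I a (j y')) : GenAt (j.appTop.hom.comp ψ) I a y' := by
  obtain ⟨U, hU, hyU, hUr, hnz, hI⟩ := h.exists_le j.opensRange ⟨y', rfl⟩
  have hiso : IsIso (j.app U) := j.isIso_app U hUr
  have hbij : Function.Bijective (j.app U).hom :=
    (ConcreteCategory.isIso_iff_bijective (j.app U)).mp hiso
  have hres : resψ (j.appTop.hom.comp ψ) (j ⁻¹ᵁ U) = (j.app U).hom.comp (resψ ψ U) := by
    rw [resψ_comp_appLE j ψ U (j ⁻¹ᵁ U) le_rfl, Scheme.Hom.appLE_eq_app]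
  refine ⟨j ⁻¹ᵁ U, hU.preimage_of_isOpenImmersion j hUr, hyU, ?_, ?_⟩
  · rw [hres, RingHom.comp_apply, mem_nonZeroDivisors_iff_right]
    intro z hz
    obtain ⟨z₀, rfl⟩ := hbij.2 z
    rw [← map_mul] at hz
    have : z₀ * resψ ψ U a = 0 := hbij.1 (by rw [hz, map_zero])
    rw [(mem_nonZeroDivisors_iff_right.mp hnz) _ this, map_zero]
  · rw [hres, ← Ideal.map_map, hI, Ideal.map_span, Set.image_singleton]
    rfl

/-- the easy direction: generation by `a` pulls back (nonzerodivisor because the pullback is Cartier). -/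
theorem GenAt.comp (c : Y' ⟶ Y) {ψ : A →+* Γ(Y, ⊤)} {I : Ideal A} {a : A} (y' : Y')
    (h : GenAt ψ I a (c y')) (hcart : CartAt (c.appTop.hom.comp ψ) I y') :
    GenAt (c.appTop.hom.comp ψ) I a y' := by
  obtain ⟨U, hU, hyU, hnz, hI⟩ := h
  obtain ⟨U', hU', hyU', hU'U, c₀, hc₀, hI'⟩ := hcart.exists_le (c ⁻¹ᵁ U) hyU
  have hres := resψ_comp_appLE c ψ U U' hU'U
  have hspan : Ideal.span {resψ (c.appTop.hom.comp ψ) U' a} = Ideal.span {c₀} := by
    rw [← hI', hres, ← Ideal.map_map, hI, Ideal.map_span, Set.image_singleton]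
    rfl
  exact ⟨U', hU', hyU', mem_nonZeroDivisors_of_span_eq hc₀ hspan, hI'.trans hspan.symm⟩

/-- the converse direction: if `a ∈ I` generates the pullback of `I` near `y'` on `Y'`, and the pullback of `I`
to `Y` is Cartier at `c y'`, then `a` generates near `c y'`. -/
theorem GenAt.of_comp (c : Y' ⟶ Y) {ψ : A →+* Γ(Y, ⊤)} {I : Ideal A} {a : A} (ha : a ∈ I) (y' : Y')
    (hcart : CartAt ψ I (c y')) (h : GenAt (c.appTop.hom.comp ψ) I a y') : GenAt ψ I a (c y') := by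
  obtain ⟨W, hW, hyW, c₀, hc₀, hIW⟩ := hcart
  obtain ⟨U', hU', hyU', hU'W, hnz', hI'⟩ := h.exists_le (c ⁻¹ᵁ W) hyW
  have hres := resψ_comp_appLE c ψ W U' hU'W
  set κ := (c.appLE W U' hU'W).hom with hκ
  set a' := resψ (c.appTop.hom.comp ψ) U' a with ha'
  -- `a_W = w * c₀`
  have h1 : resψ ψ W a ∈ Ideal.span {c₀} := hIW ▸ Ideal.mem_map_of_mem _ ha
  obtain ⟨w, hw⟩ := Ideal.mem_span_singleton'.mp h1
  -- `κ c₀ = v * a'`
  have h2 : Ideal.span {a'} = Ideal.span {κ c₀} := by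
    rw [← hI', hres, ← Ideal.map_map, hIW, Ideal.map_span, Set.image_singleton]
  have h3 : κ c₀ ∈ Ideal.span {a'} := h2 ▸ Ideal.mem_span_singleton_self _
  obtain ⟨v, hv⟩ := Ideal.mem_span_singleton'.mp h3
  have h4 : a' = κ (resψ ψ W a) := by rw [ha', hres]; rfl
  have h5 : (κ w * v - 1) * a' = 0 := by
    rw [sub_mul, one_mul, mul_assoc, hv, ← map_mul, hw, ← h4, sub_self]
  have h6 : κ w * v = 1 := sub_eq_zero.mp ((mem_nonZeroDivisors_iff_right.mp hnz') _ h5)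
  have hunit : IsUnit (κ w) := IsUnit.of_mul_eq_one _ h6
  -- `c y' ∈ D(w)`
  have hbo : Y'.basicOpen (c.appLE W U' hU'W w) = U' ⊓ c ⁻¹ᵁ (Y.basicOpen w) :=
    Scheme.basicOpen_appLE c U' W hU'W w
  have hmem : y' ∈ U' ⊓ c ⁻¹ᵁ (Y.basicOpen w) := by
    rw [← hbo, Scheme.basicOpen_of_isUnit _ hunit]
    exact hyU'
  have hyD : c y' ∈ Y.basicOpen w := hmem.2
  have hgen := gen_basicOpen ψ I hW w c₀ hc₀ hIW
  have inst := hW.isLocalization_basicOpen w
  have hwu : IsUnit ((Y.presheaf.map (homOfLE (Y.basicOpen_le w)).op).hom w) :=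
    IsLocalization.Away.algebraMap_isUnit w
  have haD : resψ ψ (Y.basicOpen w) a =
      (Y.presheaf.map (homOfLE (Y.basicOpen_le w)).op).hom w *
        (Y.presheaf.map (homOfLE (Y.basicOpen_le w)).op).hom c₀ := by
    rw [← res_resψ ψ (Y.basicOpen_le w), ← hw, map_mul]
  have hspan : Ideal.span {resψ ψ (Y.basicOpen w) a} =
      Ideal.span {(Y.presheaf.map (homOfLE (Y.basicOpen_le w)).op).hom c₀} := by
    rw [haD]
    exact Ideal.span_singleton_mul_left_unit hwu _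
  exact ⟨Y.basicOpen w, hW.basicOpen w, hyD, mem_nonZeroDivisors_of_span_eq hgen.1 hspan,
    hgen.2.trans hspan.symm⟩

/-- if the pullback of `I` is Cartier at `y`, some `a ∈ I` generates it near `y`. -/
theorem exists_genAt {ψ : A →+* Γ(Y, ⊤)} {I : Ideal A} {y : Y} (hcart : CartAt ψ I y) :
    ∃ a ∈ I, GenAt ψ I a y := by
  obtain ⟨W, hW, hyW, c₀, hc₀, hIW⟩ := hcart
  -- every `ψ_W x`, `x ∈ I`, is a multiple `u x * c₀`
  have hu : ∀ x : A, ∃ u : Γ(Y, W), x ∈ I → u * c₀ = resψ ψ W x := by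
    intro x
    by_cases hx : x ∈ I
    · have : resψ ψ W x ∈ Ideal.span {c₀} := hIW ▸ Ideal.mem_map_of_mem _ hx
      obtain ⟨u, hu⟩ := Ideal.mem_span_singleton'.mp this
      exact ⟨u, fun _ => hu⟩
    · exact ⟨0, fun h => absurd h hx⟩
  choose u hu using hu
  let 𝔲 : Ideal Γ(Y, W) := Ideal.span (u '' (I : Set A))
  have key : ∀ z ∈ Ideal.map (resψ ψ W) I, ∃ t ∈ 𝔲, z = t * c₀ := by
    intro z hz
    refine Submodule.span_induction (p := fun z _ => ∃ t ∈ 𝔲, z = t * c₀) ?_ ?_ ?_ ?_ hz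
    · rintro _ ⟨x, hx, rfl⟩
      exact ⟨u x, Ideal.subset_span ⟨x, hx, rfl⟩, (hu x hx).symm⟩
    · exact ⟨0, Ideal.zero_mem _, (zero_mul _).symm⟩
    · rintro p q - - ⟨t, ht, rfl⟩ ⟨t', ht', rfl⟩
      exact ⟨t + t', Ideal.add_mem _ ht ht', (add_mul _ _ _).symm⟩
    · rintro r p - ⟨t, ht, rfl⟩
      exact ⟨r * t, Ideal.mul_mem_left _ r ht, by rw [smul_eq_mul, mul_assoc]⟩
  obtain ⟨t, ht, htc⟩ := key c₀ (hIW ▸ Ideal.mem_span_singleton_self c₀)
  have ht1 : t = 1 := by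
    have : (t - 1) * c₀ = 0 := by rw [sub_mul, one_mul, ← htc, sub_self]
    exact sub_eq_zero.mp ((mem_nonZeroDivisors_iff_right.mp hc₀) _ this)
  have htop : 𝔲 = ⊤ := by
    rw [Ideal.eq_top_iff_one, ← ht1]; exact ht
  have hcov := (hW.iSup_basicOpen_eq_self_iff (s := u '' (I : Set A))).mpr htop
  have hy : y ∈ ⨆ f : (u '' (I : Set A)), Y.basicOpen (f : Γ(Y, W)) := by rw [hcov]; exact hyW
  obtain ⟨⟨_, x, hx, rfl⟩, hyx⟩ := Opens.mem_iSup.mp hy
  refine ⟨x, hx, ?_⟩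
  have hgen := gen_basicOpen ψ I hW (u x) c₀ hc₀ hIW
  have inst := hW.isLocalization_basicOpen (u x)
  have hwu : IsUnit ((Y.presheaf.map (homOfLE (Y.basicOpen_le (u x))).op).hom (u x)) :=
    IsLocalization.Away.algebraMap_isUnit (u x)
  have haD : resψ ψ (Y.basicOpen (u x)) x =
      (Y.presheaf.map (homOfLE (Y.basicOpen_le (u x))).op).hom (u x) *
        (Y.presheaf.map (homOfLE (Y.basicOpen_le (u x))).op).hom c₀ := by
    rw [← res_resψ ψ (Y.basicOpen_le (u x)), ← hu x hx, map_mul]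
  have hspan : Ideal.span {resψ ψ (Y.basicOpen (u x)) x} =
      Ideal.span {(Y.presheaf.map (homOfLE (Y.basicOpen_le (u x))).op).hom c₀} := by
    rw [haD]
    exact Ideal.span_singleton_mul_left_unit hwu _
  exact ⟨Y.basicOpen (u x), hW.basicOpen (u x), hyx, mem_nonZeroDivisors_of_span_eq hgen.1 hspan,
    hgen.2.trans hspan.symm⟩

end Transfer

end Groth.Agent.Lib.Seat82.BlowUpChart
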