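import Mathlib
import Groth.Prelude.Def_BlowUp2
import Groth.Prelude.Def_CurvBase
import Groth.Agent.Lib.Seat82BlowUpChart

/-!
# Charts of a blow-up of `Spec A` given by the universal property (seat 82)

Namespace `Groth.Agent.Lib.Seat82.BlowUpCover`.  `b : X' ⟶ Spec A` a blow-up of `Spec A` in `I~`
(`Curv2.idealSheaf A I`), in the sense of `BlowUp.IsBlowUp`.
* `isEffCartierIdeal_iff_cartAt`: bridge between `BlowUp.IsEffCartierIdeal (I~.comap g)` and `CartAt`.
* `chartLocus b I a : X'.Opens`: the open set where `a` generates `I·O_{X'}`.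
* `chartIso hb a ha : ↥(chartLocus b I a) ≅ Spec A[I/a]`, over `Spec A` (`chartIso_hom_chartMap`), whose inverse
  composed with the inclusion is the lift `chartLift` of `Spec A[I/a] ⟶ Spec A` (`chartIso_inv_ι`).
* `exists_mem_chartLocus`: the chart loci cover `X'`.
-/

set_option autoImplicit false
universe u
open CategoryTheory AlgebraicGeometry Opposite TopologicalSpace nonZeroDivisors

namespace Groth.Agent.Lib.Seat82.BlowUpCover

open Groth.Agent.Lib.Seat64.AffBlowUp Groth.Agent.Lib.Seat82.BlowUpAlg Groth.Agent.Lib.Seat82.BlowUpChart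

variable {A : Type u} [CommRing A] {Y : Scheme.{u}}

theorem isEffCartierIdeal_iff_cartAt (g : Y ⟶ Spec (CommRingCat.of A)) (I : Ideal A) :
    BlowUp.IsEffCartierIdeal ((Curv2.idealSheaf A I).comap g) ↔ ∀ y, CartAt (ψg g) I y := by
  constructor
  · intro h y
    obtain ⟨U, hyU, f, hf, hIf⟩ := h y
    refine ⟨U.1, U.2, hyU, f, hf, ?_⟩
    rw [← ideal_comap g I U.1 U.2]
    exact hIf
  · intro h y
    obtain ⟨W, hW, hyW, c₀, hc₀, hI⟩ := h y
    refine ⟨⟨W, hW⟩, hyW, c₀, hc₀, ?_⟩
    rw [ideal_comap g I W hW]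
    exact hI

theorem isEffCartierIdeal_of_genAt (g : Y ⟶ Spec (CommRingCat.of A)) (I : Ideal A) (a : A)
    (h : ∀ y, GenAt (ψg g) I a y) :
    BlowUp.IsEffCartierIdeal ((Curv2.idealSheaf A I).comap g) :=
  (isEffCartierIdeal_iff_cartAt g I).mpr fun y => (h y).cartAt

theorem isEffCartierIdeal_chartMap (I : Ideal A) (a : A) (ha : a ∈ I) :
    BlowUp.IsEffCartierIdeal ((Curv2.idealSheaf A I).comap (chartMap I a)) :=
  isEffCartierIdeal_of_genAt _ I a (genAt_chart I a ha)

section Cover

variable {X' : Scheme.{u}} {b : X' ⟶ Spec (CommRingCat.of A)} {I : Ideal A}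
  (hb : BlowUp.IsBlowUp b (Curv2.idealSheaf A I))

/-- the open set of `X'` where `a` generates `I·O_{X'}`. -/
noncomputable def chartLocus (b : X' ⟶ Spec (CommRingCat.of A)) (I : Ideal A) (a : A) : X'.Opens :=
  genLocus (ψg b) I a

/-- the lift of the chart `Spec A[I/a] ⟶ Spec A` to the blow-up. -/
noncomputable def chartLift (a : A) (ha : a ∈ I) :
    Spec (CommRingCat.of (BlowUp.affineAlgebra A I a)) ⟶ X' :=
  (hb.2 _ (chartMap I a) (isEffCartierIdeal_chartMap I a ha)).exists.choose

theorem chartLift_comp (a : A) (ha : a ∈ I) : chartLift hb a ha ≫ b = chartMap I a :=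
  (hb.2 _ (chartMap I a) (isEffCartierIdeal_chartMap I a ha)).exists.choose_spec

include hb in
theorem cartAt_blowUp (x' : X') : CartAt (ψg b) I x' :=
  (isEffCartierIdeal_iff_cartAt b I).mp hb.1 x'

theorem chartLift_mem (a : A) (ha : a ∈ I) (p : Spec (CommRingCat.of (BlowUp.affineAlgebra A I a))) :
    chartLift hb a ha p ∈ chartLocus b I a := by
  apply GenAt.of_comp (chartLift hb a ha) ha p (cartAt_blowUp hb _)
  rw [← ψg_comp, chartLift_comp]
  exact genAt_chart I a ha p

theorem genAt_chartLocus (a : A) (y : ↥(chartLocus b I a)) :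
    GenAt (ψg ((chartLocus b I a).ι ≫ b)) I a y := by
  rw [ψg_comp]
  exact GenAt.of_openImmersion (chartLocus b I a).ι y y.2

/-- the map from the chart locus to the chart. -/
noncomputable def toChart (a : A) :
    (chartLocus b I a).toScheme ⟶ Spec (CommRingCat.of (BlowUp.affineAlgebra A I a)) :=
  (existsUnique_hom I a ((chartLocus b I a).ι ≫ b) (genAt_chartLocus a)).exists.choose

theorem toChart_comp (a : A) : toChart (b := b) (I := I) a ≫ chartMap I a = (chartLocus b I a).ι ≫ b :=
  (existsUnique_hom I a ((chartLocus b I a).ι ≫ b) (genAt_chartLocus a)).exists.choose_spec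

/-- the lift of the chart, as a map into the chart locus. -/
noncomputable def chartLift' (a : A) (ha : a ∈ I) :
    Spec (CommRingCat.of (BlowUp.affineAlgebra A I a)) ⟶ (chartLocus b I a).toScheme :=
  IsOpenImmersion.lift (chartLocus b I a).ι (chartLift hb a ha) (by
    rintro _ ⟨p, rfl⟩
    rw [Scheme.Opens.range_ι]
    exact chartLift_mem hb a ha p)

theorem chartLift'_ι (a : A) (ha : a ∈ I) :
    chartLift' hb a ha ≫ (chartLocus b I a).ι = chartLift hb a ha :=
  IsOpenImmersion.lift_fac _ _ _

/-- the chart locus is isomorphic to `Spec A[I/a]`. -/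
noncomputable def chartIso (a : A) (ha : a ∈ I) :
    (chartLocus b I a).toScheme ≅ Spec (CommRingCat.of (BlowUp.affineAlgebra A I a)) where
  hom := toChart a
  inv := chartLift' hb a ha
  hom_inv_id := by
    rw [← cancel_mono (chartLocus b I a).ι, Category.assoc, chartLift'_ι, Category.id_comp]
    have hcart : BlowUp.IsEffCartierIdeal
        ((Curv2.idealSheaf A I).comap ((chartLocus b I a).ι ≫ b)) :=
      isEffCartierIdeal_of_genAt _ I a (genAt_chartLocus a)
    obtain ⟨h, -, hu⟩ := hb.2 _ ((chartLocus b I a).ι ≫ b) hcart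
    rw [hu (toChart a ≫ chartLift hb a ha) (by
        show (toChart a ≫ chartLift hb a ha) ≫ b = _
        rw [Category.assoc, chartLift_comp, toChart_comp]),
      hu (chartLocus b I a).ι rfl]
  inv_hom_id := by
    obtain ⟨h, -, hu⟩ := existsUnique_hom I a (chartMap I a) (genAt_chart I a ha)
    rw [hu (chartLift' hb a ha ≫ toChart a) (by
      show (chartLift' hb a ha ≫ toChart a) ≫ chartMap I a = _
      rw [Category.assoc, toChart_comp, ← Category.assoc, chartLift'_ι, chartLift_comp]),
      hu (𝟙 _) (Category.id_comp _)]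

theorem chartIso_hom_chartMap (a : A) (ha : a ∈ I) :
    (chartIso hb a ha).hom ≫ chartMap I a = (chartLocus b I a).ι ≫ b := toChart_comp a

theorem chartIso_inv_ι (a : A) (ha : a ∈ I) :
    (chartIso hb a ha).inv ≫ (chartLocus b I a).ι = chartLift hb a ha := chartLift'_ι hb a ha

include hb in
theorem exists_mem_chartLocus (x' : X') : ∃ a ∈ I, x' ∈ chartLocus b I a :=
  exists_genAt (cartAt_blowUp hb x')

end Cover

end Groth.Agent.Lib.Seat82.BlowUpCover
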