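import Mathlib
import Groth.Prelude.Def_BlowUp2
import Groth.Prelude.Def_CurvBase
import Groth.Agent.Lib.Helper20EffCartier

/-!
# Blow-ups (universal property) under restriction to opens and isomorphisms (seat 82)

Namespace `Groth.Agent.Lib.Seat82.BlowUpRestrict`.
* `isEffCartierIdeal_comap_of_isOpenImmersion`.
* `isBlowUp_restrict`: the restriction of a blow-up to an open subset of the base is a blow-up.
* `isBlowUp_morphismRestrict`: same for `b ∣_ U`.
* `isBlowUp_comp_iso`: transport along an isomorphism of the base.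
* `comap_isoSpec_inv`: on an affine scheme, an ideal sheaf transported to `Spec Γ` is `Curv2.idealSheaf` of its
  ideal of global sections.
-/

set_option autoImplicit false
universe u
open CategoryTheory AlgebraicGeometry Opposite TopologicalSpace nonZeroDivisors

namespace Groth.Agent.Lib.Seat82.BlowUpRestrict

open Groth.Agent.Lib.Helper20 Scheme.IdealSheafData

theorem isEffCartierIdeal_comap_of_isOpenImmersion {Y Y' : Scheme.{u}} (j : Y' ⟶ Y)
    [IsOpenImmersion j] (J : Y.IdealSheafData) (hJ : BlowUp.IsEffCartierIdeal J) :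
    BlowUp.IsEffCartierIdeal (J.comap j) := by
  intro y'
  obtain ⟨U, hU, hyU, hUr, f, hf, hJf⟩ :=
    EffCartier.exists_le_of_isEffCartierIdeal hJ (j y') j.opensRange ⟨y', rfl⟩
  have hiso : IsIso (j.app U) := j.isIso_app U hUr
  have hbij : Function.Bijective (j.app U).hom :=
    (ConcreteCategory.isIso_iff_bijective (j.app U)).mp hiso
  have hU' : IsAffineOpen (j ⁻¹ᵁ U) := hU.preimage_of_isOpenImmersion j hUr
  refine ⟨⟨j ⁻¹ᵁ U, hU'⟩, hyU, (j.app U).hom f, ?_, ?_⟩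
  · rw [mem_nonZeroDivisors_iff_right]
    intro z hz
    obtain ⟨z₀, rfl⟩ := hbij.2 z
    rw [← map_mul] at hz
    have : z₀ * f = 0 := hbij.1 (by rw [hz, map_zero])
    rw [(mem_nonZeroDivisors_iff_right.mp hf) _ this, map_zero]
  · have key := EffCartier.ideal_comap_eq_map j J hU' hU le_rfl
    rw [hJf, Ideal.map_span, Set.image_singleton, Scheme.Hom.appLE_eq_app] at key
    exact key

/-- The restriction of a blow-up to an open subset of the base is a blow-up. -/
theorem isBlowUp_restrict {Y Y' : Scheme.{u}} (𝓚 : Y.IdealSheafData) (b' : Y' ⟶ Y)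
    (hb' : BlowUp.IsBlowUp b' 𝓚) (Q : Y.Opens) (P : Y'.Opens) (hPQ : ∀ y', y' ∈ P ↔ b' y' ∈ Q)
    (β : P.toScheme ⟶ Q.toScheme) (hβ : β ≫ Q.ι = P.ι ≫ b') :
    BlowUp.IsBlowUp β (𝓚.comap Q.ι) := by
  constructor
  · rw [← comap_comp, hβ, comap_comp]
    exact isEffCartierIdeal_comap_of_isOpenImmersion P.ι _ hb'.1
  · intro T g hg
    rw [← comap_comp] at hg
    obtain ⟨h, hh, hu⟩ := hb'.2 T (g ≫ Q.ι) hg
    have hrange : Set.range h ⊆ Set.range P.ι := by
      rintro _ ⟨t, rfl⟩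
      rw [Scheme.Opens.range_ι]
      show h t ∈ P
      rw [hPQ, ← Scheme.Hom.comp_apply, hh, Scheme.Hom.comp_apply]
      exact (g t).2
    refine ⟨IsOpenImmersion.lift P.ι h hrange, ?_, ?_⟩
    · show IsOpenImmersion.lift P.ι h hrange ≫ β = g
      rw [← cancel_mono Q.ι, Category.assoc, hβ, ← Category.assoc, IsOpenImmersion.lift_fac, hh]
    · intro h' hh'
      have hh'' : h' ≫ β = g := hh'
      rw [← cancel_mono P.ι, IsOpenImmersion.lift_fac]
      apply hu
      show (h' ≫ P.ι) ≫ b' = g ≫ Q.ι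
      rw [Category.assoc, ← hβ, ← Category.assoc, hh'']

theorem isBlowUp_morphismRestrict {X X' : Scheme.{u}} (𝓘 : X.IdealSheafData) (b : X' ⟶ X)
    (hb : BlowUp.IsBlowUp b 𝓘) (U : X.Opens) : BlowUp.IsBlowUp (b ∣_ U) (𝓘.comap U.ι) :=
  isBlowUp_restrict 𝓘 b hb U (b ⁻¹ᵁ U) (fun _ => Iff.rfl) (b ∣_ U) (morphismRestrict_ι b U)

/-- Transport of a blow-up along an isomorphism of the base. -/
theorem isBlowUp_comp_iso {X X₁ X' : Scheme.{u}} (𝓘 : X.IdealSheafData) (b : X' ⟶ X)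
    (hb : BlowUp.IsBlowUp b 𝓘) (e : X ≅ X₁) : BlowUp.IsBlowUp (b ≫ e.hom) (𝓘.comap e.inv) := by
  have hcomap : ∀ {T : Scheme.{u}} (g : T ⟶ X₁), (𝓘.comap e.inv).comap g = 𝓘.comap (g ≫ e.inv) :=
    fun g => (comap_comp 𝓘 g e.inv).symm
  constructor
  · rw [hcomap, Category.assoc, e.hom_inv_id, Category.comp_id]
    exact hb.1
  · intro T g hg
    rw [hcomap] at hg
    obtain ⟨h, hh, hu⟩ := hb.2 T (g ≫ e.inv) hg
    refine ⟨h, ?_, ?_⟩
    · show h ≫ b ≫ e.hom = g
      rw [← Category.assoc, hh, Category.assoc, e.inv_hom_id, Category.comp_id]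
    · intro h' hh'
      apply hu
      show h' ≫ b = g ≫ e.inv
      rw [← hh', Category.assoc, Category.assoc, e.hom_inv_id, Category.comp_id]

/-- On an affine scheme, an ideal sheaf transported to `Spec Γ(X, ⊤)` is the ideal sheaf of its ideal of global
sections. -/
theorem comap_isoSpec_inv {X : Scheme.{u}} [IsAffine X] (𝓘 : X.IdealSheafData) :
    𝓘.comap X.isoSpec.inv = Curv2.idealSheaf Γ(X, ⊤) (𝓘.ideal ⟨⊤, isAffineOpen_top X⟩) := by
  have htop : (Curv2.idealSheaf Γ(X, ⊤) (𝓘.ideal ⟨⊤, isAffineOpen_top X⟩)).ideal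
      ⟨⊤, isAffineOpen_top _⟩ =
      (𝓘.ideal ⟨⊤, isAffineOpen_top X⟩).map (Scheme.ΓSpecIso Γ(X, ⊤)).inv.hom :=
    (Scheme.IdealSheafData.equivOfIsAffine).right_inv _
  have key : (𝓘.comap X.isoSpec.inv).ideal ⟨⊤, isAffineOpen_top _⟩ =
      (Curv2.idealSheaf Γ(X, ⊤) (𝓘.ideal ⟨⊤, isAffineOpen_top X⟩)).ideal ⟨⊤, isAffineOpen_top _⟩ := by
    rw [htop, EffCartier.ideal_comap_eq_map X.isoSpec.inv 𝓘 (isAffineOpen_top _) (isAffineOpen_top X)
      le_top]
    congr 2
    have h1 : X.isoSpec.inv.appLE ⊤ ⊤ le_top = X.isoSpec.inv.appTop := by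
      show X.isoSpec.inv.app ⊤ ≫ (Spec Γ(X, ⊤)).presheaf.map (𝟙 _) = _
      rw [CategoryTheory.Functor.map_id, Category.comp_id]
    rw [h1]
    have h2 : X.isoSpec.inv.appTop ≫ X.isoSpec.hom.appTop = 𝟙 _ := by
      rw [← Scheme.Hom.comp_appTop, X.isoSpec.hom_inv_id]
      rfl
    rw [Scheme.isoSpec_hom, Scheme.toSpecΓ_appTop] at h2
    rw [← Category.comp_id X.isoSpec.inv.appTop, ← (Scheme.ΓSpecIso Γ(X, ⊤)).hom_inv_id,
      ← Category.assoc, h2, Category.id_comp]
  exact le_antisymm (le_of_isAffine key.le) (le_of_isAffine key.ge)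

end Groth.Agent.Lib.Seat82.BlowUpRestrict
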