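import Mathlib
import Groth.Prelude.Def_BlowUp2
import Groth.Agent.Lib.Helper20BlowUp

/-!
# Blow-ups in comaximal ideals (seat 82)

Namespace `Groth.Agent.Lib.Seat82.BlowUpSup`.
* `CartierAt J y`: pointwise version of `BlowUp.IsEffCartierIdeal`.
* `inf_eq_mul_of_sup_eq_top`, `comap_sup_eq_top`, `isEffCartierIdeal_left_of_mul`/`right`: for comaximal ideal sheaves
  the product is Cartier iff both factors are.
* `cartierAt_comap_of_isIso_restrict`: pulling back a Cartier ideal along a morphism that is an isomorphism over an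
  open `O` gives an ideal which is Cartier at points over `O`.
* `isIso_morphismRestrict_of_isPullback`: base change of a morphism which is an isomorphism over `U`.
* `isBlowUp_pullback`: for comaximal `I₁`, `I₂`, the fibre product of blow-ups of `I₁` and `I₂` is a blow-up of
  `I₁ * I₂`.
-/

set_option autoImplicit false
universe u
open CategoryTheory CategoryTheory.Limits AlgebraicGeometry nonZeroDivisors

namespace Groth.Agent.Lib.Seat82.BlowUpSup

open Scheme.IdealSheafData Groth.Agent.Lib.Helper20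

/-- on an affine open disjoint from the support, the ideal is the unit ideal. -/
theorem ideal_eq_top_of_disjoint {X : Scheme.{u}} (I : X.IdealSheafData) (U : X.affineOpens)
    (h : (I.support : Set X) ∩ U.1 = ∅) : I.ideal U = ⊤ := by
  have h1 := U.2.fromSpec_image_zeroLocus (I.ideal U : Set Γ(X, U.1))
  rw [← coe_support_inter, h] at h1
  exact PrimeSpectrum.zeroLocus_empty_iff_eq_top.mp (Set.image_eq_empty.mp h1)

theorem inf_eq_mul_of_sup_eq_top {X : Scheme.{u}} (I₁ I₂ : X.IdealSheafData) (h : I₁ ⊔ I₂ = ⊤) :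
    I₁ ⊓ I₂ = I₁ * I₂ := by
  ext U : 2
  rw [ideal_inf, ideal_mul]
  change I₁.ideal U ⊓ I₂.ideal U = I₁.ideal U * I₂.ideal U
  have : I₁.ideal U ⊔ I₂.ideal U = ⊤ := by
    have := congrArg (fun I : X.IdealSheafData => I.ideal U) h
    simpa using this
  exact (Ideal.mul_eq_inf_of_coprime this).symm


/-- `J` is effective Cartier at the point `y`. -/
def CartierAt {Y : Scheme.{u}} (J : Y.IdealSheafData) (y : Y) : Prop :=
  ∃ U : Y.affineOpens, y ∈ U.1 ∧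
    ∃ f : Γ(Y, U.1), f ∈ nonZeroDivisors Γ(Y, U.1) ∧ J.ideal U = Ideal.span {f}

theorem isEffCartierIdeal_iff {Y : Scheme.{u}} (J : Y.IdealSheafData) :
    BlowUp.IsEffCartierIdeal J ↔ ∀ y, CartierAt J y := Iff.rfl

theorem cartierAt_of_notMem_support {Y : Scheme.{u}} (J : Y.IdealSheafData) (y : Y)
    (hy : y ∉ J.support) : CartierAt J y := by
  let W : Y.Opens := ⟨(J.support : Set Y)ᶜ, J.support.isClosed.isOpen_compl⟩
  obtain ⟨U, hU, hyU, hUW⟩ := exists_isAffineOpen_mem_and_subset (x := y) (U := W) hy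
  refine ⟨⟨U, hU⟩, hyU, 1, one_mem _, ?_⟩
  rw [Ideal.span_singleton_one]
  apply ideal_eq_top_of_disjoint
  rw [Set.eq_empty_iff_forall_notMem]
  rintro z ⟨hz1, hz2⟩
  exact hUW hz2 hz1

/-- if `J₁ * J₂` is Cartier at `y` and `y` is not in the support of `J₂`, then `J₁` is Cartier at `y`. -/
theorem cartierAt_of_mul_of_notMem_support {Y : Scheme.{u}} (J₁ J₂ : Y.IdealSheafData)
    (h : BlowUp.IsEffCartierIdeal (J₁ * J₂)) (y : Y) (hy : y ∉ J₂.support) : CartierAt J₁ y := by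
  let W : Y.Opens := ⟨(J₂.support : Set Y)ᶜ, J₂.support.isClosed.isOpen_compl⟩
  obtain ⟨U, hU, hyU, hUW, f, hf, hIf⟩ := EffCartier.exists_le_of_isEffCartierIdeal h y W hy
  refine ⟨⟨U, hU⟩, hyU, f, hf, ?_⟩
  have h2 : J₂.ideal ⟨U, hU⟩ = ⊤ := by
    apply ideal_eq_top_of_disjoint
    rw [Set.eq_empty_iff_forall_notMem]
    rintro z ⟨hz1, hz2⟩
    exact hUW hz2 hz1
  rw [← hIf, ideal_mul]
  change J₁.ideal ⟨U, hU⟩ = J₁.ideal ⟨U, hU⟩ * J₂.ideal ⟨U, hU⟩
  rw [h2, Ideal.mul_top]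

/-- for comaximal ideal sheaves, if the product is effective Cartier then so is each factor. -/
theorem isEffCartierIdeal_left_of_mul {Y : Scheme.{u}} (J₁ J₂ : Y.IdealSheafData) (hsup : J₁ ⊔ J₂ = ⊤)
    (h : BlowUp.IsEffCartierIdeal (J₁ * J₂)) : BlowUp.IsEffCartierIdeal J₁ := by
  intro y
  by_cases hy : y ∈ J₂.support
  · apply cartierAt_of_notMem_support
    intro hy1
    have : y ∈ (J₁ ⊔ J₂).support := by
      rw [support_sup]; exact ⟨hy1, hy⟩
    rw [hsup, support_top] at this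
    exact this
  · exact cartierAt_of_mul_of_notMem_support J₁ J₂ h y hy

theorem isEffCartierIdeal_right_of_mul {Y : Scheme.{u}} (J₁ J₂ : Y.IdealSheafData) (hsup : J₁ ⊔ J₂ = ⊤)
    (h : BlowUp.IsEffCartierIdeal (J₁ * J₂)) : BlowUp.IsEffCartierIdeal J₂ := by
  rw [mul_comm] at h
  rw [sup_comm] at hsup
  exact isEffCartierIdeal_left_of_mul J₂ J₁ hsup h

/-- comaximality is preserved by pullback. -/
theorem comap_sup_eq_top {X Y : Scheme.{u}} (g : Y ⟶ X) (I₁ I₂ : X.IdealSheafData) (h : I₁ ⊔ I₂ = ⊤) :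
    I₁.comap g ⊔ I₂.comap g = ⊤ := by
  rw [← support_eq_bot_iff, support_sup, support_comap, support_comap]
  have h' : I₁.support ⊓ I₂.support = ⊥ := by
    rw [← support_sup, h, support_top]
  ext y
  simp only [TopologicalSpace.Closeds.coe_inf, TopologicalSpace.Closeds.coe_preimage, Set.mem_inter_iff,
    Set.mem_preimage, SetLike.mem_coe, TopologicalSpace.Closeds.coe_bot, Set.mem_empty_iff_false, iff_false,
    not_and]
  intro h1 h2
  have : g y ∈ I₁.support ⊓ I₂.support := ⟨h1, h2⟩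
  rw [h'] at this
  exact this


/-- if `W.ι ≫ p` is flat for an affine open `W`, then `p.appLE V W` is flat. -/
theorem flat_appLE_of_flat_ι_comp {P Q : Scheme.{u}} (p : P ⟶ Q) {V : Q.Opens} (hV : IsAffineOpen V)
    {W : P.Opens} (hW : IsAffineOpen W) (hWV : W ≤ p ⁻¹ᵁ V) [Flat (W.ι ≫ p)] :
    (p.appLE V W hWV).hom.Flat := by
  have : IsAffine W.toScheme := hW
  have hle : (⊤ : W.toScheme.Opens) ≤ (W.ι ≫ p) ⁻¹ᵁ V := fun x _ => hWV x.2
  have hfl := (W.ι ≫ p).flat_appLE hV (isAffineOpen_top W.toScheme) hle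
  have hle2 : (⊤ : W.toScheme.Opens) ≤ W.ι ⁻¹ᵁ W := fun x _ => x.2
  rw [← Scheme.Hom.appLE_comp_appLE _ _ V W ⊤ hWV hle2] at hfl
  have hbij : Function.Bijective (W.ι.appLE W ⊤ hle2).hom := by
    rw [Scheme.Opens.ι_appLE]
    have : IsIso (P.presheaf.map (homOfLE (x := W.ι ''ᵁ ⊤) (Set.image_subset_iff.mpr hle2)).op) := by
      have hEq : W.ι ''ᵁ ⊤ = W := by
        rw [Scheme.Hom.image_top_eq_opensRange, Scheme.Opens.opensRange_ι]
      have h3 : IsIso (homOfLE (x := W.ι ''ᵁ ⊤) (y := W) (Set.image_subset_iff.mpr hle2)) :=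
        ⟨homOfLE hEq.ge, Subsingleton.elim _ _, Subsingleton.elim _ _⟩
      have h4 : IsIso (homOfLE (x := W.ι ''ᵁ ⊤) (y := W) (Set.image_subset_iff.mpr hle2)).op :=
        inferInstance
      exact Functor.map_isIso _ _
    exact ConcreteCategory.bijective_of_isIso
      (P.presheaf.map (homOfLE (x := W.ι ''ᵁ ⊤) (Set.image_subset_iff.mpr hle2)).op)
  exact (RingHom.Flat.comp_iff_of_bijective_left hbij).1 hfl

/-- if `p` is an isomorphism over the open `O`, then for affine `W ≤ p⁻¹ O` the map `W.ι ≫ p` is an open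
immersion, hence flat. -/
theorem flat_ι_comp_of_isIso_restrict {P Q : Scheme.{u}} (p : P ⟶ Q) (O : Q.Opens) [IsIso (p ∣_ O)]
    (W : P.Opens) (hWO : W ≤ p ⁻¹ᵁ O) : Flat (W.ι ≫ p) := by
  have hfac : W.ι ≫ p = P.homOfLE hWO ≫ (p ∣_ O) ≫ O.ι := by
    rw [morphismRestrict_ι, ← Category.assoc, Scheme.homOfLE_ι]
  have : IsOpenImmersion (W.ι ≫ p) := by
    rw [hfac]; infer_instance
  infer_instance

/-- pullback of an effective Cartier ideal along a morphism which is an isomorphism over an open `O` is Cartier at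
the points over `O`. -/
theorem cartierAt_comap_of_isIso_restrict {P Q : Scheme.{u}} (p : P ⟶ Q) (O : Q.Opens) [IsIso (p ∣_ O)]
    (E : Q.IdealSheafData) (hE : BlowUp.IsEffCartierIdeal E) (y : P) (hy : p y ∈ O) :
    CartierAt (E.comap p) y := by
  obtain ⟨V, hV, hyV, hVO, a, ha, hEa⟩ := EffCartier.exists_le_of_isEffCartierIdeal hE (p y) O hy
  obtain ⟨W, hW, hyW, hWV⟩ := exists_isAffineOpen_mem_and_subset (x := y) (U := p ⁻¹ᵁ V) hyV
  have hWO : W ≤ p ⁻¹ᵁ O := fun z hz => hVO (hWV hz)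
  have := flat_ι_comp_of_isIso_restrict p O W hWO
  have hfl := flat_appLE_of_flat_ι_comp p hV hW hWV
  have key := EffCartier.ideal_comap_eq_map p E hW hV hWV
  rw [hEa, Ideal.map_span, Set.image_singleton] at key
  exact ⟨⟨W, hW⟩, hyW, _, RelCartier.mem_nonZeroDivisors_map_flat' _ hfl ha, key⟩

/-- if `g` is an isomorphism over the open `U`, then the base change `pullback.fst f g` is an isomorphism over
`f⁻¹ U`. -/
theorem isIso_morphismRestrict_of_isPullback {A B X P : Scheme.{u}} {f : A ⟶ X} {g : B ⟶ X}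
    {fst : P ⟶ A} {snd : P ⟶ B} (hP : IsPullback fst snd f g) (U : X.Opens) [IsIso (g ∣_ U)] :
    IsIso (fst ∣_ (f ⁻¹ᵁ U)) := by
  -- S1
  have S1 := isPullback_morphismRestrict fst (f ⁻¹ᵁ U)
  have S12 := S1.paste_vert hP
  have S3 := (isPullback_morphismRestrict g U).flip
  -- the map t
  have hrange : Set.range ((fst ⁻¹ᵁ f ⁻¹ᵁ U).ι ≫ snd) ⊆ Set.range (g ⁻¹ᵁ U).ι := by
    rintro _ ⟨w, rfl⟩
    rw [Scheme.Opens.range_ι]
    change g (((fst ⁻¹ᵁ f ⁻¹ᵁ U).ι ≫ snd) w) ∈ U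
    rw [← Scheme.Hom.comp_apply, Category.assoc, ← hP.w, Scheme.Hom.comp_apply, Scheme.Hom.comp_apply]
    exact w.2
  let t : (fst ⁻¹ᵁ f ⁻¹ᵁ U).toScheme ⟶ (g ⁻¹ᵁ U).toScheme :=
    IsOpenImmersion.lift (g ⁻¹ᵁ U).ι ((fst ⁻¹ᵁ f ⁻¹ᵁ U).ι ≫ snd) hrange
  have ht : t ≫ (g ⁻¹ᵁ U).ι = (fst ⁻¹ᵁ f ⁻¹ᵁ U).ι ≫ snd := IsOpenImmersion.lift_fac _ _ _
  have hcomm : t ≫ (g ∣_ U) = (fst ∣_ (f ⁻¹ᵁ U)) ≫ (f ∣_ U) := by
    rw [← cancel_mono U.ι, Category.assoc, Category.assoc, morphismRestrict_ι, morphismRestrict_ι,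
      ← Category.assoc, ht, ← Category.assoc, morphismRestrict_ι, Category.assoc, Category.assoc, hP.w]
  have big : IsPullback (t ≫ (g ⁻¹ᵁ U).ι) (fst ∣_ (f ⁻¹ᵁ U)) g ((f ∣_ U) ≫ U.ι) := by
    rw [ht, morphismRestrict_ι]
    exact S12.flip
  have sq : IsPullback t (fst ∣_ (f ⁻¹ᵁ U)) (g ∣_ U) (f ∣_ U) := IsPullback.of_right big hcomm S3
  exact MorphismProperty.of_isPullback (P := MorphismProperty.isomorphisms Scheme.{u}) sq
    (inferInstanceAs (IsIso (g ∣_ U)))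


/-- on the fibre product of the blow-ups in two comaximal ideals, the pull-back of the first ideal is Cartier. -/
theorem isEffCartierIdeal_comap_pullback_fst {X B₁ B₂ : Scheme.{u}} (I₁ I₂ : X.IdealSheafData)
    (hdisj : I₁ ⊔ I₂ = ⊤) (σ₁ : B₁ ⟶ X) (hσ₁ : BlowUp.IsBlowUp σ₁ I₁) (σ₂ : B₂ ⟶ X)
    (hσ₂ : BlowUp.IsBlowUp σ₂ I₂) {P : Scheme.{u}} {fst : P ⟶ B₁} {snd : P ⟶ B₂}
    (hP : IsPullback fst snd σ₁ σ₂) :
    BlowUp.IsEffCartierIdeal (I₁.comap (fst ≫ σ₁)) := by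
  intro y
  by_cases hy : (fst ≫ σ₁) y ∈ I₁.support
  · have hy2 : (fst ≫ σ₁) y ∉ I₂.support := by
      intro hy2
      have : (fst ≫ σ₁) y ∈ (I₁ ⊔ I₂).support := by
        rw [support_sup]; exact ⟨hy, hy2⟩
      rw [hdisj, support_top] at this
      exact this
    have := BlowUpBasic.isIso_morphismRestrict I₂ σ₂ hσ₂
    have := isIso_morphismRestrict_of_isPullback hP (BlowUpBasic.compl I₂)
    rw [comap_comp]
    exact cartierAt_comap_of_isIso_restrict fst (σ₁ ⁻¹ᵁ BlowUpBasic.compl I₂) (I₁.comap σ₁) hσ₁.1 y hy2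
  · apply cartierAt_of_notMem_support
    rw [support_comap]
    exact hy

/-- **The fibre product of the blow-ups in two comaximal ideals is a blow-up in their product.** -/
theorem isBlowUp_pullback {X B₁ B₂ : Scheme.{u}} (I₁ I₂ : X.IdealSheafData)
    (hdisj : I₁ ⊔ I₂ = ⊤) (σ₁ : B₁ ⟶ X) (hσ₁ : BlowUp.IsBlowUp σ₁ I₁) (σ₂ : B₂ ⟶ X)
    (hσ₂ : BlowUp.IsBlowUp σ₂ I₂) :
    BlowUp.IsBlowUp (pullback.fst σ₁ σ₂ ≫ σ₁) (I₁ * I₂) := by
  have hP := IsPullback.of_hasPullback σ₁ σ₂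
  have hc : pullback.fst σ₁ σ₂ ≫ σ₁ = pullback.snd σ₁ σ₂ ≫ σ₂ := pullback.condition
  have hP₁ := isEffCartierIdeal_comap_pullback_fst I₁ I₂ hdisj σ₁ hσ₁ σ₂ hσ₂ hP
  have hP₂ := isEffCartierIdeal_comap_pullback_fst I₂ I₁ (by rw [sup_comm]; exact hdisj) σ₂ hσ₂ σ₁ hσ₁
    hP.flip
  rw [← hc] at hP₂
  refine ⟨?_, ?_⟩
  · rw [BlowUpBasic.comap_mul]
    exact BlowUpBasic.isEffCartierIdeal_mul hP₁ hP₂
  · intro Y g hg
    rw [BlowUpBasic.comap_mul] at hg
    have hsup := comap_sup_eq_top g I₁ I₂ hdisj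
    obtain ⟨h₁, hh₁, hu₁⟩ := hσ₁.2 Y g (isEffCartierIdeal_left_of_mul _ _ hsup hg)
    obtain ⟨h₂, hh₂, hu₂⟩ := hσ₂.2 Y g (isEffCartierIdeal_right_of_mul _ _ hsup hg)
    refine ⟨pullback.lift h₁ h₂ (hh₁.trans hh₂.symm), ?_, ?_⟩
    · change pullback.lift h₁ h₂ _ ≫ pullback.fst σ₁ σ₂ ≫ σ₁ = g
      rw [pullback.lift_fst_assoc, hh₁]
    · intro h hh
      have hh' : h ≫ pullback.fst σ₁ σ₂ ≫ σ₁ = g := hh
      apply pullback.hom_ext
      · rw [pullback.lift_fst]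
        exact hu₁ _ (by change (h ≫ pullback.fst σ₁ σ₂) ≫ σ₁ = g; rw [Category.assoc, hh'])
      · rw [pullback.lift_snd]
        exact hu₂ _ (by change (h ≫ pullback.snd σ₁ σ₂) ≫ σ₂ = g; rw [Category.assoc, ← hc, hh'])

/-- any two blow-ups in the same ideal are isomorphic: a morphism between them over the base is an isomorphism. -/
theorem isIso_of_isBlowUp {X B B' : Scheme.{u}} (I : X.IdealSheafData) (b : B ⟶ X) (b' : B' ⟶ X)
    (hb : BlowUp.IsBlowUp b I) (hb' : BlowUp.IsBlowUp b' I) (h : B ⟶ B') (hh : h ≫ b' = b) : IsIso h := by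
  obtain ⟨r, hr, -⟩ := hb.2 B' b' hb'.1
  obtain ⟨k, -, hk⟩ := hb.2 B b hb.1
  obtain ⟨k', -, hk'⟩ := hb'.2 B' b' hb'.1
  refine ⟨r, ?_, ?_⟩
  · rw [hk (h ≫ r) (by change (h ≫ r) ≫ b = b; rw [Category.assoc, hr, hh]),
      hk (𝟙 _) (Category.id_comp _)]
  · rw [hk' (r ≫ h) (by change (r ≫ h) ≫ b' = b'; rw [Category.assoc, hh, hr]),
      hk' (𝟙 _) (Category.id_comp _)]

end Groth.Agent.Lib.Seat82.BlowUpSup
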