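import Mathlib
import Groth.Prelude.Def_BlowUp2
import Groth.Agent.Lib.Helper20EffCartier
import Groth.Agent.Lib.Seat82BlowUpSup
import Groth.Agent.Lib.Seat82BlowUpRestrict

/-!
# Blow-ups are local on the base (seat 82)

Namespace `Groth.Agent.Lib.Seat82.BlowUpLocal`.
* `cartierAt_of_comap_openImmersion`: being effective Cartier descends along open immersions.
* `isBlowUp_of_isPullback_openImmersion`: the base change of a blow-up along an open immersion is a blow-up.
* `hom_ext_of_isBlowUp`: morphisms into a blow-up are determined by their composite with the blow-up map.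
* `isBlowUp_of_local`: a morphism `b : X' ⟶ X` which over every affine open of `X` is a blow-up of the restricted
  ideal is a blow-up.
-/

set_option autoImplicit false
universe u
open CategoryTheory CategoryTheory.Limits AlgebraicGeometry TopologicalSpace nonZeroDivisors

namespace Groth.Agent.Lib.Seat82.BlowUpLocal

open Scheme.IdealSheafData Groth.Agent.Lib.Helper20 Groth.Agent.Lib.Seat82.BlowUpSup
  Groth.Agent.Lib.Seat82.BlowUpRestrict

/-- being effective Cartier descends along open immersions. -/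
theorem cartierAt_of_comap_openImmersion {Y Y' : Scheme.{u}} (j : Y' ⟶ Y) [IsOpenImmersion j]
    (J : Y.IdealSheafData) (y' : Y') (h : CartierAt (J.comap j) y') : CartierAt J (j y') := by
  obtain ⟨U', hyU', c, hc, hJc⟩ := h
  have hU : IsAffineOpen (j ''ᵁ U'.1) := U'.2.image_of_isOpenImmersion j
  have e : U'.1 ≤ j ⁻¹ᵁ (j ''ᵁ U'.1) := (j.preimage_image_eq U'.1).ge
  have key := EffCartier.ideal_comap_eq_map j J U'.2 hU e
  set κ := (j.appLE (j ''ᵁ U'.1) U'.1 e).hom with hκ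
  have hbij : Function.Bijective κ := by
    have : IsIso (j.appLE (j ''ᵁ U'.1) U'.1 e) := by
      rw [← j.appIso_hom' U'.1]
      infer_instance
    exact (ConcreteCategory.isIso_iff_bijective (j.appLE (j ''ᵁ U'.1) U'.1 e)).mp this
  obtain ⟨c₀, rfl⟩ := hbij.2 c
  refine ⟨⟨j ''ᵁ U'.1, hU⟩, ⟨y', hyU', rfl⟩, c₀, ?_, ?_⟩
  · rw [mem_nonZeroDivisors_iff_right]
    intro z hz
    apply hbij.1
    rw [map_zero]
    apply (mem_nonZeroDivisors_iff_right.mp hc)
    rw [← map_mul, hz, map_zero]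
  · have h1 : (J.ideal ⟨j ''ᵁ U'.1, hU⟩).map κ = (Ideal.span {c₀}).map κ := by
      rw [← key, Ideal.map_span, Set.image_singleton]
      exact hJc
    have hinj : Function.Injective (Ideal.map κ) := by
      intro J₁ J₂ hJ
      rw [← Ideal.comap_map_of_bijective κ hbij (I := J₁), hJ, Ideal.comap_map_of_bijective κ hbij]
    exact hinj h1

/-- morphisms into a blow-up are determined by their composite with the blow-up map. -/
theorem hom_ext_of_isBlowUp {V B T : Scheme.{u}} {𝓚 : V.IdealSheafData} {b : B ⟶ V}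
    (hb : BlowUp.IsBlowUp b 𝓚) (h₁ h₂ : T ⟶ B) (h : h₁ ≫ b = h₂ ≫ b)
    (hT : BlowUp.IsEffCartierIdeal (𝓚.comap (h₁ ≫ b))) : h₁ = h₂ := by
  obtain ⟨k, -, hk⟩ := hb.2 T (h₁ ≫ b) hT
  rw [hk h₁ rfl, hk h₂ h.symm]

/-- the base change of a blow-up along an open immersion is a blow-up. -/
theorem isBlowUp_of_isPullback_openImmersion {V U B P : Scheme.{u}} {𝓚 : V.IdealSheafData}
    {b : B ⟶ V} (hb : BlowUp.IsBlowUp b 𝓚) {j : U ⟶ V} [IsOpenImmersion j] {fst : P ⟶ B}
    {snd : P ⟶ U} (hP : IsPullback fst snd b j) : BlowUp.IsBlowUp snd (𝓚.comap j) := by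
  have : IsOpenImmersion fst := MorphismProperty.of_isPullback hP.flip inferInstance
  constructor
  · rw [← comap_comp, ← hP.w, comap_comp]
    exact isEffCartierIdeal_comap_of_isOpenImmersion fst _ hb.1
  · intro T g hg
    rw [← comap_comp] at hg
    obtain ⟨h, hh, hu⟩ := hb.2 T (g ≫ j) hg
    refine ⟨hP.lift h g hh, hP.lift_snd _ _ _, ?_⟩
    intro h' hh'
    have hh'' : h' ≫ snd = g := hh'
    apply hP.hom_ext
    · rw [hP.lift_fst]
      apply hu
      show (h' ≫ fst) ≫ b = g ≫ j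
      rw [Category.assoc, hP.w, ← Category.assoc, hh'']
    · rw [hP.lift_snd, hh'']

section Local

variable {X X' : Scheme.{u}} {𝓘 : X.IdealSheafData} {b : X' ⟶ X}
  {B : X.affineOpens → Scheme.{u}} {bU : ∀ U : X.affineOpens, B U ⟶ U.1.toScheme}
  {ι' : ∀ U : X.affineOpens, B U ⟶ X'}
  (hP : ∀ U, IsPullback (bU U) (ι' U) U.1.ι b)
  (hB : ∀ U, BlowUp.IsBlowUp (bU U) (𝓘.comap U.1.ι))

theorem isOpenCover_preimage_affineOpens {T : Scheme.{u}} (g : T ⟶ X) :
    IsOpenCover (fun U : X.affineOpens => g ⁻¹ᵁ U.1) := by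
  show iSup _ = ⊤
  rw [eq_top_iff]
  intro t _
  have ht : g t ∈ (⊤ : X.Opens) := trivial
  rw [← iSup_affineOpens_eq_top X] at ht
  obtain ⟨U, hU⟩ := Opens.mem_iSup.1 ht
  exact Opens.mem_iSup.2 ⟨U, hU⟩

theorem isEffCartierIdeal_comap_morphismRestrict {T : Scheme.{u}} (g : T ⟶ X)
    (hg : BlowUp.IsEffCartierIdeal (𝓘.comap g)) (U : X.Opens) :
    BlowUp.IsEffCartierIdeal ((𝓘.comap U.ι).comap (g ∣_ U)) := by
  rw [← comap_comp, morphismRestrict_ι, comap_comp]
  exact isEffCartierIdeal_comap_of_isOpenImmersion _ _ hg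

include hP hB in
theorem hom_ext_of_local {T : Scheme.{u}} (k₁ k₂ : T ⟶ X') (h : k₁ ≫ b = k₂ ≫ b)
    (hT : BlowUp.IsEffCartierIdeal (𝓘.comap (k₁ ≫ b))) : k₁ = k₂ := by
  set g := k₁ ≫ b with hg
  apply (T.openCoverOfIsOpenCover _ (isOpenCover_preimage_affineOpens g)).hom_ext
  intro U
  show (g ⁻¹ᵁ U.1).ι ≫ k₁ = (g ⁻¹ᵁ U.1).ι ≫ k₂
  have w₁ : (g ∣_ U.1) ≫ U.1.ι = ((g ⁻¹ᵁ U.1).ι ≫ k₁) ≫ b := by
    rw [morphismRestrict_ι, Category.assoc]
  have w₂ : (g ∣_ U.1) ≫ U.1.ι = ((g ⁻¹ᵁ U.1).ι ≫ k₂) ≫ b := by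
    rw [morphismRestrict_ι, Category.assoc, ← h]
  have hm : (hP U).lift (g ∣_ U.1) _ w₁ = (hP U).lift (g ∣_ U.1) _ w₂ := by
    apply hom_ext_of_isBlowUp (hB U)
    · rw [(hP U).lift_fst, (hP U).lift_fst]
    · rw [(hP U).lift_fst]
      exact isEffCartierIdeal_comap_morphismRestrict g hT U.1
  rw [← (hP U).lift_snd (g ∣_ U.1) _ w₁, hm, (hP U).lift_snd]

include hP hB in
/-- a morphism which over every affine open of the base is a blow-up of the restricted ideal is a blow-up. -/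
theorem isBlowUp_of_local : BlowUp.IsBlowUp b 𝓘 := by
  have hopen : ∀ U, IsOpenImmersion (ι' U) := fun U =>
    MorphismProperty.of_isPullback (hP U) (inferInstance : IsOpenImmersion U.1.ι)
  constructor
  · intro x'
    have hx : b x' ∈ (⊤ : X.Opens) := trivial
    rw [← iSup_affineOpens_eq_top X] at hx
    obtain ⟨U, hU⟩ := Opens.mem_iSup.1 hx
    obtain ⟨z, -, hz⟩ := Scheme.exists_preimage_of_isPullback (hP U) ⟨b x', hU⟩ x' rfl
    have hz' : ι' U z = x' := hz
    rw [← hz']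
    apply cartierAt_of_comap_openImmersion (ι' U) (𝓘.comap b) z
    rw [← comap_comp, ← (hP U).w, comap_comp]
    exact (hB U).1 z
  · intro T g hg
    set 𝒰 := T.openCoverOfIsOpenCover _ (isOpenCover_preimage_affineOpens g) with h𝒰
    have hex : ∀ U : X.affineOpens, ∃ hU : (g ⁻¹ᵁ U.1).toScheme ⟶ B U, hU ≫ bU U = g ∣_ U.1 :=
      fun U => ((hB U).2 _ (g ∣_ U.1) (isEffCartierIdeal_comap_morphismRestrict g hg U.1)).exists
    choose hloc hloc_spec using hex
    let H : ∀ U : 𝒰.I₀, 𝒰.X U ⟶ X' := fun U => hloc U ≫ ι' U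
    have hHb : ∀ U : X.affineOpens, H U ≫ b = (g ⁻¹ᵁ U.1).ι ≫ g := by
      intro U
      show (hloc U ≫ ι' U) ≫ b = _
      rw [Category.assoc, ← (hP U).w, ← Category.assoc, hloc_spec, morphismRestrict_ι]
    have hcompat : ∀ U V : 𝒰.I₀, pullback.fst (𝒰.f U) (𝒰.f V) ≫ H U =
        pullback.snd (𝒰.f U) (𝒰.f V) ≫ H V := by
      intro U V
      have hfst : (pullback.fst (𝒰.f U) (𝒰.f V) ≫ H U) ≫ b =
          (pullback.fst (𝒰.f U) (𝒰.f V) ≫ 𝒰.f U) ≫ g := by
        rw [Category.assoc, hHb U, Category.assoc]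
        rfl
      apply hom_ext_of_local hP hB
      · rw [hfst, pullback.condition, Category.assoc, Category.assoc, hHb V]
        rfl
      · rw [hfst, comap_comp]
        exact isEffCartierIdeal_comap_of_isOpenImmersion _ _ hg
    have hglue : 𝒰.glueMorphisms H hcompat ≫ b = g := by
      apply 𝒰.hom_ext
      intro U
      rw [← Category.assoc, 𝒰.ι_glueMorphisms, hHb U]
      rfl
    refine ⟨𝒰.glueMorphisms H hcompat, hglue, ?_⟩
    intro h' hh'
    have hh'' : h' ≫ b = g := hh'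
    apply hom_ext_of_local hP hB
    · rw [hh'', hglue]
    · rw [hh'']
      exact hg

end Local

end Groth.Agent.Lib.Seat82.BlowUpLocal
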