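import Mathlib
import Groth.Prelude.Def_BlowUp2
import Groth.Prelude.Def_CurvBase
import Groth.Agent.Lib.Seat82BlowUpCover

/-!
# Recognizing a blow-up of `Spec A` from its charts (seat 82)

Namespace `Groth.Agent.Lib.Seat82.BlowUpRecognize`.
* `GenAt.of_openImmersion_comp`, `CartAt.of_openImmersion`: transfer along open immersions.
* `mem_basicOpen_frac_of_genAt`: on the chart `Spec A[I/b]`, `a` generates `I·O` exactly on `D(a/b)`.
* `isBlowUp_of_charts`: a scheme `p : P ⟶ Spec A` covered by open immersions `k a : Spec A[I/a] ⟶ P` (`a ∈ I`) over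
  `Spec A`, with `k b ⁻¹ (range (k a)) ⊇ D(a/b)`, is a blow-up of `Spec A` in `I`.
-/

set_option autoImplicit false
universe u
open CategoryTheory AlgebraicGeometry Opposite TopologicalSpace nonZeroDivisors

namespace Groth.Agent.Lib.Seat82.BlowUpRecognize

open Groth.Agent.Lib.Seat64.AffBlowUp Groth.Agent.Lib.Seat82.BlowUpAlg
  Groth.Agent.Lib.Seat82.BlowUpChart Groth.Agent.Lib.Seat82.BlowUpCover

variable {A : Type u} [CommRing A] {Y Y' : Scheme.{u}}

/-- `GenAt` descends along open immersions. -/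
theorem GenAt.of_openImmersion_comp (j : Y' ⟶ Y) [IsOpenImmersion j] {ψ : A →+* Γ(Y, ⊤)}
    {I : Ideal A} {a : A} (y' : Y') (h : GenAt (j.appTop.hom.comp ψ) I a y') :
    GenAt ψ I a (j y') := by
  obtain ⟨U', hU', hyU', hnz, hI⟩ := h
  have e : U' ≤ j ⁻¹ᵁ (j ''ᵁ U') := (j.preimage_image_eq U').ge
  have hres := resψ_comp_appLE j ψ (j ''ᵁ U') U' e
  set κ := (j.appLE (j ''ᵁ U') U' e).hom with hκ
  have hbij : Function.Bijective κ := by
    have : IsIso (j.appLE (j ''ᵁ U') U' e) := by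
      rw [← j.appIso_hom' U']
      infer_instance
    exact (ConcreteCategory.isIso_iff_bijective (j.appLE (j ''ᵁ U') U' e)).mp this
  refine ⟨j ''ᵁ U', hU'.image_of_isOpenImmersion j, ⟨y', hyU', rfl⟩, ?_, ?_⟩
  · rw [mem_nonZeroDivisors_iff_right]
    intro z hz
    apply hbij.1
    rw [map_zero]
    apply (mem_nonZeroDivisors_iff_right.mp hnz)
    rw [hres, RingHom.comp_apply, ← map_mul, hz, map_zero]
  · have h1 : (Ideal.map (resψ ψ (j ''ᵁ U')) I).map κ =
        (Ideal.span {resψ ψ (j ''ᵁ U') a}).map κ := by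
      rw [Ideal.map_map, ← hres, hI, Ideal.map_span, Set.image_singleton, hres]
      rfl
    have hinj : Function.Injective (Ideal.map κ) := by
      intro J₁ J₂ hJ
      rw [← Ideal.comap_map_of_bijective κ hbij (I := J₁), hJ, Ideal.comap_map_of_bijective κ hbij]
    exact hinj h1

/-- `CartAt` passes to open subschemes. -/
theorem CartAt.of_openImmersion (j : Y' ⟶ Y) [IsOpenImmersion j] {ψ : A →+* Γ(Y, ⊤)}
    {I : Ideal A} (y' : Y') (h : CartAt ψ I (j y')) : CartAt (j.appTop.hom.comp ψ) I y' := by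
  obtain ⟨a, -, ha⟩ := exists_genAt h
  exact (GenAt.of_openImmersion j y' ha).cartAt

/-- On the chart `Spec A[I/b]`, if `a ∈ I` generates `I·O` near `y` then `y ∈ D(a/b)`. -/
theorem mem_basicOpen_frac_of_genAt (I : Ideal A) (a b : A) (ha : a ∈ I) (hb : b ∈ I)
    (y : Spec (CommRingCat.of (BlowUp.affineAlgebra A I b)))
    (h : GenAt (ψg (chartMap I b)) I a y) :
    y ∈ PrimeSpectrum.basicOpen (frac I b a ha) := by
  obtain ⟨U, hU, hyU, hnz, hI⟩ := h
  set ψ := ψg (chartMap I b) with hψ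
  have hψ' : ψ = (Scheme.ΓSpecIso (CommRingCat.of (BlowUp.affineAlgebra A I b))).inv.hom.comp (algebraMap A (BlowUp.affineAlgebra A I b)) :=
    ψg_specMap _
  set s : Γ(Spec (CommRingCat.of (BlowUp.affineAlgebra A I b)), ⊤) :=
    (Scheme.ΓSpecIso (CommRingCat.of (BlowUp.affineAlgebra A I b))).inv.hom (frac I b a ha) with hs
  set ρ := ((Spec (CommRingCat.of (BlowUp.affineAlgebra A I b))).presheaf.map (homOfLE (le_top : U ≤ ⊤)).op).hom with hρ
  have haU : resψ ψ U a = ρ s * resψ ψ U b := by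
    show ρ (ψ a) = ρ s * ρ (ψ b)
    rw [← map_mul, hψ', RingHom.comp_apply, RingHom.comp_apply, hs, ← map_mul, frac_mul]
  have hbU : resψ ψ U b ∈ Ideal.span {resψ ψ U a} := hI ▸ Ideal.mem_map_of_mem _ hb
  obtain ⟨u, hu⟩ := Ideal.mem_span_singleton'.mp hbU
  have h5 : (ρ s * u - 1) * resψ ψ U a = 0 := by
    rw [sub_mul, one_mul, mul_assoc, hu, ← haU, sub_self]
  have h6 : ρ s * u = 1 := sub_eq_zero.mp ((mem_nonZeroDivisors_iff_right.mp hnz) _ h5)
  have hunit : IsUnit (ρ s) := IsUnit.of_mul_eq_one _ h6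
  have hbo : (Spec (CommRingCat.of (BlowUp.affineAlgebra A I b))).basicOpen (ρ s) = U ⊓ (Spec (CommRingCat.of (BlowUp.affineAlgebra A I b))).basicOpen s :=
    Scheme.basicOpen_res _ _ _
  rw [Scheme.basicOpen_of_isUnit _ hunit] at hbo
  have hmem : y ∈ U ⊓ (Spec (CommRingCat.of (BlowUp.affineAlgebra A I b))).basicOpen s := hbo ▸ hyU
  have := hmem.2
  rw [hs] at this
  erw [basicOpen_eq_of_affine] at this
  exact this

section Recognize

variable {P : Scheme.{u}} {I : Ideal A} {p : P ⟶ Spec (CommRingCat.of A)}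
  (k : ∀ a : I, Spec (CommRingCat.of (BlowUp.affineAlgebra A I a.1)) ⟶ P)
  [∀ a, IsOpenImmersion (k a)]
  (hk : ∀ a : I, k a ≫ p = chartMap I a.1)
  (hcov : ∀ x : P, ∃ a : I, x ∈ Set.range (k a))
  (hcompat : ∀ (a b : I) (y : Spec (CommRingCat.of (BlowUp.affineAlgebra A I b.1))),
    y ∈ PrimeSpectrum.basicOpen (frac I b.1 a.1 a.2) → k b y ∈ Set.range (k a))

include hk in
theorem genAt_chart_image (a : I) (y : Spec (CommRingCat.of (BlowUp.affineAlgebra A I a.1))) :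
    GenAt (ψg p) I a.1 (k a y) := by
  apply GenAt.of_openImmersion_comp (k a) y
  rw [← ψg_comp, hk]
  exact genAt_chart I a.1 a.2 y

include hk hcov in
theorem cartAt_of_charts (x : P) : CartAt (ψg p) I x := by
  obtain ⟨a, y, rfl⟩ := hcov x
  exact (genAt_chart_image k hk a y).cartAt

include hk hcov hcompat in
theorem mem_range_of_genAt (a : I) (x : P) (h : GenAt (ψg p) I a.1 x) : x ∈ Set.range (k a) := by
  obtain ⟨b, y, rfl⟩ := hcov x
  apply hcompat a b y
  apply mem_basicOpen_frac_of_genAt I a.1 b.1 a.2 b.2 y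
  have := GenAt.of_openImmersion (k b) y h
  rwa [← ψg_comp, hk] at this

theorem iSup_genLocus_eq_top {T : Scheme.{u}} (ψ : A →+* Γ(T, ⊤)) (h : ∀ t, CartAt ψ I t) :
    IsOpenCover (fun a : I => genLocus ψ I a.1) := by
  show iSup _ = ⊤
  rw [eq_top_iff]
  intro t _
  obtain ⟨a, ha, hga⟩ := exists_genAt (h t)
  exact Opens.mem_iSup.2 ⟨⟨a, ha⟩, hga⟩

include hk hcov hcompat in
theorem hom_ext_of_charts {T : Scheme.{u}} (h₁ h₂ : T ⟶ P) (h : h₁ ≫ p = h₂ ≫ p)
    (hT : ∀ t, CartAt (ψg (h₁ ≫ p)) I t) : h₁ = h₂ := by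
  set g := h₁ ≫ p with hg
  suffices key : ∀ a : I, (genLocus (ψg g) I a.1).ι ≫ h₁ = (genLocus (ψg g) I a.1).ι ≫ h₂ from
    (T.openCoverOfIsOpenCover _ (iSup_genLocus_eq_top (ψg g) hT)).hom_ext _ _ fun a => key a
  intro a
  set Ta := genLocus (ψg g) I a.1 with hTa
  have hcartP := cartAt_of_charts k hk hcov
  have hr₁ : Set.range (Ta.ι ≫ h₁) ⊆ Set.range (k a) := by
    rintro _ ⟨t, rfl⟩
    rw [Scheme.Hom.comp_apply]
    apply mem_range_of_genAt k hk hcov hcompat a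
    apply GenAt.of_comp h₁ a.2 _ (hcartP _)
    rw [← ψg_comp]
    exact t.2
  have hr₂ : Set.range (Ta.ι ≫ h₂) ⊆ Set.range (k a) := by
    rintro _ ⟨t, rfl⟩
    rw [Scheme.Hom.comp_apply]
    apply mem_range_of_genAt k hk hcov hcompat a
    apply GenAt.of_comp h₂ a.2 _ (hcartP _)
    rw [← ψg_comp, ← h]
    exact t.2
  have hY : ∀ y : Ta, GenAt (ψg (Ta.ι ≫ g)) I a.1 y := by
    intro y
    rw [ψg_comp]
    exact GenAt.of_openImmersion Ta.ι y y.2
  have e₁ : IsOpenImmersion.lift (k a) (Ta.ι ≫ h₁) hr₁ ≫ chartMap I a.1 = Ta.ι ≫ g := by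
    rw [← hk, ← Category.assoc, IsOpenImmersion.lift_fac, Category.assoc]
  have e₂ : IsOpenImmersion.lift (k a) (Ta.ι ≫ h₂) hr₂ ≫ chartMap I a.1 = Ta.ι ≫ g := by
    rw [← hk, ← Category.assoc, IsOpenImmersion.lift_fac, Category.assoc, ← h]
  have := (existsUnique_hom I a.1 (Ta.ι ≫ g) hY).unique e₁ e₂
  rw [← IsOpenImmersion.lift_fac (k a) (Ta.ι ≫ h₁) hr₁, this, IsOpenImmersion.lift_fac]

include hk hcov hcompat in
/-- A scheme over `Spec A` covered compatibly by the charts `Spec A[I/a]` is a blow-up of `Spec A` in `I`. -/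
theorem isBlowUp_of_charts : BlowUp.IsBlowUp p (Curv2.idealSheaf A I) := by
  have hcartP := cartAt_of_charts k hk hcov
  refine ⟨(isEffCartierIdeal_iff_cartAt p I).mpr hcartP, ?_⟩
  intro Y g hg
  have hgc : ∀ y, CartAt (ψg g) I y := (isEffCartierIdeal_iff_cartAt g I).mp hg
  set 𝒰 := Y.openCoverOfIsOpenCover _ (iSup_genLocus_eq_top (ψg g) hgc) with h𝒰
  have hY : ∀ (a : I) (y : genLocus (ψg g) I a.1),
      GenAt (ψg ((genLocus (ψg g) I a.1).ι ≫ g)) I a.1 y := by
    intro a y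
    rw [ψg_comp]
    exact GenAt.of_openImmersion (genLocus (ψg g) I a.1).ι y y.2
  let l : ∀ a : I, (genLocus (ψg g) I a.1).toScheme ⟶
      Spec (CommRingCat.of (BlowUp.affineAlgebra A I a.1)) :=
    fun a => (existsUnique_hom I a.1 _ (hY a)).exists.choose
  have hl : ∀ a : I, l a ≫ chartMap I a.1 = (genLocus (ψg g) I a.1).ι ≫ g :=
    fun a => (existsUnique_hom I a.1 _ (hY a)).exists.choose_spec
  let hh : ∀ a : 𝒰.I₀, 𝒰.X a ⟶ P := fun a => l a ≫ k a
  have hhp : ∀ a : I, hh a ≫ p = (genLocus (ψg g) I a.1).ι ≫ g := by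
    intro a
    show (l a ≫ k a) ≫ p = _
    rw [Category.assoc, hk, hl]
  have hcompat' : ∀ a b : 𝒰.I₀, Limits.pullback.fst (𝒰.f a) (𝒰.f b) ≫ hh a =
      Limits.pullback.snd (𝒰.f a) (𝒰.f b) ≫ hh b := by
    intro a b
    have hfst : (Limits.pullback.fst (𝒰.f a) (𝒰.f b) ≫ hh a) ≫ p =
        (Limits.pullback.fst (𝒰.f a) (𝒰.f b) ≫ 𝒰.f a) ≫ g := by
      rw [Category.assoc, hhp a, Category.assoc]
      rfl
    apply hom_ext_of_charts k hk hcov hcompat
    · rw [hfst, Limits.pullback.condition, Category.assoc, Category.assoc, hhp b]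
      rfl
    · intro t
      rw [hfst, ψg_comp]
      exact CartAt.of_openImmersion _ t (hgc _)
  refine ⟨𝒰.glueMorphisms hh hcompat', ?_, ?_⟩
  · show 𝒰.glueMorphisms hh hcompat' ≫ p = g
    apply 𝒰.hom_ext
    intro a
    rw [← Category.assoc, 𝒰.ι_glueMorphisms, hhp a]
    rfl
  · intro h' hh'
    have hh'' : h' ≫ p = g := hh'
    apply hom_ext_of_charts k hk hcov hcompat
    · rw [hh'']
      symm
      apply 𝒰.hom_ext
      intro a
      rw [← Category.assoc, 𝒰.ι_glueMorphisms, hhp a]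
      rfl
    · intro t
      rw [hh'']
      exact hgc t

end Recognize

end Groth.Agent.Lib.Seat82.BlowUpRecognize
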