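import Mathlib
import Groth.Prelude.Def_BlowUp2
import Groth.Agent.Lib.Seat82BlowUpAlg

/-!
# Charts of `Proj` of a Rees-like graded algebra are the affine blow-up algebras (seat 82)

Namespace `Groth.Agent.Lib.Seat82.ReesChart`.  Abstract setting (to keep instance unification cheap): `A` a ring,
`I` an ideal, `R` an `ℕ`-graded `A`-algebra with a map `τ : A → R` ("`x ↦ x·X`") satisfying `ReesLike`.
For `a ∈ I`:
* `φ : A →+* Away 𝒜 (τ a)` the structure map, `fracX x = τ x / τ a`.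
* `η : A[I/a] →+* Away 𝒜 (τ a)`, `η_comp`, `η_frac`, `η_bijective`; `ηEquiv` the ring isomorphism.
-/

set_option autoImplicit false
universe u
open nonZeroDivisors HomogeneousLocalization

namespace Groth.Agent.Lib.Seat82.ReesChart

open Groth.Agent.Lib.Seat82.BlowUpAlg

variable {A R : Type u} [CommRing A] [CommRing R] [Algebra A R] (I : Ideal A)
  (𝒜 : ℕ → Submodule A R) [GradedAlgebra 𝒜] (τ : A → R)

/-- `R = ⊕ 𝒜 n` with `τ x` playing the role of `x·X ∈ Iⁿ Xⁿ` behaves like the Rees algebra of `I`. -/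
structure ReesLike : Prop where
  zero : ∀ f ∈ 𝒜 0, ∃ r : A, algebraMap A R r = f
  τ_mem : ∀ x ∈ I, τ x ∈ 𝒜 1
  τ_comm : ∀ x ∈ I, ∀ y ∈ I, τ x * algebraMap A R y = τ y * algebraMap A R x
  nzd : ∀ y ∈ I, ∀ f : R, f * algebraMap A R y = 0 → f * τ y = 0
  span : ∀ n, ∀ f ∈ 𝒜 (n + 1), f ∈ AddSubmonoid.closure {h | ∃ g ∈ 𝒜 n, ∃ x ∈ I, h = g * τ x}
  ev : ∀ y ∈ I, ∃ e : R →+* Localization.Away y,
    (∀ r, e (algebraMap A R r) = algebraMap A _ r) ∧ IsUnit (e (τ y))

variable {I 𝒜 τ} (H : ReesLike I 𝒜 τ) (a : A) (ha : a ∈ I)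

/-- the structure map `A → R_{(τ a)}`. -/
noncomputable def φ : A →+* Away 𝒜 (τ a) :=
  (fromZeroRingHom 𝒜 _).comp (algebraMap A (𝒜 0))

theorem val_φ (r : A) : (φ (𝒜 := 𝒜) (τ := τ) a r).val = Localization.mk (algebraMap A R r) 1 := rfl

omit [GradedAlgebra 𝒜] in
include H in
theorem τ_mem' (x : A) (hx : x ∈ I) : τ x ∈ 𝒜 (1 • 1) := H.τ_mem x hx

/-- the fraction `τ x / τ a`. -/
noncomputable def fracX (x : A) (hx : x ∈ I) : Away 𝒜 (τ a) :=
  Away.mk 𝒜 (H.τ_mem a ha) 1 (τ x) (τ_mem' H x hx)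

theorem fracX_mul (x : A) (hx : x ∈ I) : fracX H a ha x hx * φ a a = φ a x := by
  apply val_injective
  rw [val_mul, val_φ, val_φ, fracX, Away.val_mk, Localization.mk_mul, Localization.mk_eq_mk_iff,
    Localization.r_iff_exists]
  refine ⟨1, ?_⟩
  simp only [OneMemClass.coe_one, one_mul, mul_one, pow_one]
  exact H.τ_comm x hx a ha

include H ha in
theorem eq_zero_of_mul_φ (z : Away 𝒜 (τ a)) (hz : z * φ a a = 0) : z = 0 := by
  obtain ⟨n, f, hf, rfl⟩ := Away.mk_surjective 𝒜 (H.τ_mem a ha) z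
  apply val_injective
  have h1 := congrArg HomogeneousLocalization.val hz
  rw [val_mul, val_φ, Away.val_mk, val_zero, Localization.mk_mul, ← Localization.mk_zero 1,
    Localization.mk_eq_mk_iff, Localization.r_iff_exists] at h1
  obtain ⟨⟨_, k, rfl⟩, hk⟩ := h1
  rw [Away.val_mk, val_zero, ← Localization.mk_zero 1, Localization.mk_eq_mk_iff,
    Localization.r_iff_exists]
  refine ⟨⟨_, k + 1, rfl⟩, ?_⟩
  simp only [OneMemClass.coe_one, one_mul, mul_one, mul_zero] at hk ⊢
  have h2 : (τ a ^ k * f) * algebraMap A R a = 0 := by rw [mul_assoc]; exact hk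
  have h3 := H.nzd a ha _ h2
  rw [pow_succ, mul_assoc, mul_comm (τ a) f, ← mul_assoc]
  exact h3

include H ha in
theorem φ_mem_nonZeroDivisors : φ a a ∈ (Away 𝒜 (τ a))⁰ :=
  mem_nonZeroDivisors_iff_right.mpr (eq_zero_of_mul_φ H a ha)

include H ha in
theorem exists_mul_eq (x : A) (hx : x ∈ I) : ∃ t : Away 𝒜 (τ a), t * φ a a = φ a x :=
  ⟨fracX H a ha x hx, fracX_mul H a ha x hx⟩

/-- the map `A[I/a] → R_{(τ a)}`. -/
noncomputable def η : BlowUp.affineAlgebra A I a →+* Away 𝒜 (τ a) :=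
  (existsUnique_lift I a (φ a) (φ_mem_nonZeroDivisors H a ha)
    (exists_mul_eq H a ha)).exists.choose

theorem η_comp : (η H a ha).comp (algebraMap A _) = φ a :=
  (existsUnique_lift I a (φ a) (φ_mem_nonZeroDivisors H a ha)
    (exists_mul_eq H a ha)).exists.choose_spec

theorem η_algebraMap (r : A) : η H a ha (algebraMap A _ r) = φ a r :=
  RingHom.congr_fun (η_comp H a ha) r

theorem η_frac (x : A) (hx : x ∈ I) : η H a ha (frac I a x hx) = fracX H a ha x hx := by
  have h1 : η H a ha (frac I a x hx) * φ a a = φ a x := by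
    rw [← η_algebraMap H a ha, ← map_mul, frac_mul, η_algebraMap]
  have h2 := fracX_mul H a ha x hx
  have h3 : (η H a ha (frac I a x hx) - fracX H a ha x hx) * φ a a = 0 := by
    rw [sub_mul, h1, h2, sub_self]
  exact sub_eq_zero.mp (eq_zero_of_mul_φ H a ha _ h3)

include H ha in
theorem exists_mem_range_val (n : ℕ) : ∀ f ∈ 𝒜 n, ∃ z ∈ (η H a ha).range,
    z.val = Localization.mk f (⟨τ a ^ n, n, rfl⟩ : Submonoid.powers (τ a)) := by
  induction n with
  | zero =>
    intro f hf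
    obtain ⟨r, rfl⟩ := H.zero f hf
    refine ⟨φ a r, ⟨algebraMap A _ r, η_algebraMap H a ha r⟩, ?_⟩
    rw [val_φ]
    congr 1
    exact Subtype.ext (pow_zero _).symm
  | succ n ih =>
    intro f hf
    have hcl := H.span n f hf
    induction hcl using AddSubmonoid.closure_induction with
    | mem h hh =>
      obtain ⟨g, hg, x, hx, rfl⟩ := hh
      obtain ⟨z₁, ⟨u, rfl⟩, hz₁⟩ := ih g hg
      refine ⟨η H a ha u * fracX H a ha x hx, ⟨u * frac I a x hx, ?_⟩, ?_⟩
      · rw [map_mul, η_frac]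
      · rw [val_mul, hz₁, fracX, Away.val_mk, Localization.mk_mul]
        congr 1
        exact Subtype.ext (by show τ a ^ n * τ a ^ 1 = τ a ^ (n + 1); rw [pow_one, pow_succ])
    | zero =>
      exact ⟨0, zero_mem _, by rw [val_zero, Localization.mk_zero]⟩
    | add x y hx hy hPx hPy =>
      have hle : AddSubmonoid.closure {h | ∃ g ∈ 𝒜 n, ∃ x ∈ I, h = g * τ x} ≤
          (𝒜 (n + 1)).toAddSubmonoid := by
        rw [AddSubmonoid.closure_le]
        rintro _ ⟨g, hg, x, hx, rfl⟩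
        exact SetLike.mul_mem_graded hg (H.τ_mem x hx)
      obtain ⟨z₁, hz₁r, hz₁⟩ := hPx (hle hx)
      obtain ⟨z₂, hz₂r, hz₂⟩ := hPy (hle hy)
      exact ⟨z₁ + z₂, add_mem hz₁r hz₂r, by rw [val_add, hz₁, hz₂, Localization.add_mk_self]⟩

theorem η_surjective : Function.Surjective (η H a ha) := by
  intro z
  obtain ⟨n, f, hf, rfl⟩ := Away.mk_surjective 𝒜 (H.τ_mem a ha) z
  have hf' : f ∈ 𝒜 n := by simpa using hf
  obtain ⟨z', ⟨u, rfl⟩, hz'⟩ := exists_mem_range_val H a ha n f hf'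
  exact ⟨u, val_injective _ (by rw [hz', Away.val_mk])⟩

theorem η_injective : Function.Injective (η H a ha) := by
  obtain ⟨e, he, hu⟩ := H.ev a ha
  let lift : Localization (Submonoid.powers (τ a)) →+* Localization.Away a :=
    IsLocalization.Away.lift (τ a) hu
  let θ : Away 𝒜 (τ a) →+* Localization.Away a :=
    lift.comp (algebraMap (Away 𝒜 (τ a)) (Localization (Submonoid.powers (τ a))))
  have hθ : ∀ r : A, θ (φ a r) = algebraMap A _ r := by
    intro r
    show lift ((φ (𝒜 := 𝒜) (τ := τ) a r).val) = _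
    rw [val_φ, Localization.mk_one_eq_algebraMap, IsLocalization.Away.lift_eq, he]
  have key : θ.comp (η H a ha) = (BlowUp.affineAlgebra A I a).val.toRingHom := by
    apply ringHom_ext I a
    · show θ (η H a ha (algebraMap A _ a)) ∈ _
      rw [η_algebraMap, hθ]
      exact (IsLocalization.Away.algebraMap_isUnit a).mem_nonZeroDivisors
    · ext r
      show θ (η H a ha (algebraMap A _ r)) = _
      rw [η_algebraMap, hθ]
      rfl
  intro u v huv
  have h1 : θ (η H a ha u) = θ (η H a ha v) := by rw [huv]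
  have h2 : ∀ w, θ (η H a ha w) = (w : Localization.Away a) := fun w => RingHom.congr_fun key w
  rw [h2, h2] at h1
  exact Subtype.ext h1

/-- the isomorphism `A[I/a] ≃ R_{(τ a)}`. -/
noncomputable def ηEquiv : BlowUp.affineAlgebra A I a ≃+* Away 𝒜 (τ a) :=
  RingEquiv.ofBijective (η H a ha) ⟨η_injective H a ha, η_surjective H a ha⟩

theorem ηEquiv_apply (u : BlowUp.affineAlgebra A I a) : ηEquiv H a ha u = η H a ha u := rfl

theorem ηEquiv_symm_φ (r : A) : (ηEquiv H a ha).symm (φ a r) = algebraMap A _ r := by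
  rw [RingEquiv.symm_apply_eq, ηEquiv_apply, η_algebraMap]

theorem ηEquiv_symm_fracX (x : A) (hx : x ∈ I) :
    (ηEquiv H a ha).symm (fracX H a ha x hx) = frac I a x hx := by
  rw [RingEquiv.symm_apply_eq, ηEquiv_apply, η_frac]

end Groth.Agent.Lib.Seat82.ReesChart
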