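import Mathlib
import Groth.Prelude.Def_BlowUp2
import Groth.Prelude.Def_CurvBase
import Groth.Agent.Lib.Seat82ReesChart
import Groth.Agent.Lib.Seat82BlowUpRecognize

/-!
# `Proj` of a Rees-like graded algebra is the blow-up (seat 82)

Namespace `Groth.Agent.Lib.Seat82.ProjRees`.
* `isBlowUp_proj`: for `ReesLike I 𝒜 τ`, `Proj 𝒜 ⟶ Spec A` is a blow-up of `Spec A` in `I`.
-/

set_option autoImplicit false
universe u
open CategoryTheory AlgebraicGeometry Opposite TopologicalSpace nonZeroDivisors HomogeneousLocalization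

namespace Groth.Agent.Lib.Seat82.ProjRees

open Groth.Agent.Lib.Seat64.AffBlowUp Groth.Agent.Lib.Seat82.BlowUpAlg
  Groth.Agent.Lib.Seat82.BlowUpChart Groth.Agent.Lib.Seat82.BlowUpCover
  Groth.Agent.Lib.Seat82.BlowUpRecognize Groth.Agent.Lib.Seat82.ReesChart

variable {A R : Type u} [CommRing A] [CommRing R] [Algebra A R] {I : Ideal A}
  {𝒜 : ℕ → Submodule A R} [GradedAlgebra 𝒜] {τ : A → R} (H : ReesLike I 𝒜 τ)

/-- the structure map `Proj 𝒜 ⟶ Spec A`. -/
noncomputable def projStr (𝒜 : ℕ → Submodule A R) [GradedAlgebra 𝒜] :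
    Proj 𝒜 ⟶ Spec (CommRingCat.of A) :=
  Proj.toSpecZero 𝒜 ≫ Spec.map (CommRingCat.ofHom (algebraMap A (𝒜 0)))

/-- the chart `Spec A[I/a] ⟶ Proj 𝒜`. -/
noncomputable def kChart (a : I) :
    Spec (CommRingCat.of (BlowUp.affineAlgebra A I a.1)) ⟶ Proj 𝒜 :=
  Spec.map (CommRingCat.ofHom (ηEquiv H a.1 a.2).symm.toRingHom) ≫
    Proj.awayι 𝒜 (τ a.1) (H.τ_mem a.1 a.2) one_pos

instance (a : I) : IsIso (Spec.map (CommRingCat.ofHom (ηEquiv H a.1 a.2).symm.toRingHom)) := by
  have : IsIso (CommRingCat.ofHom (ηEquiv H a.1 a.2).symm.toRingHom) :=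
    (RingEquiv.toCommRingCatIso (ηEquiv H a.1 a.2).symm).isIso_hom
  infer_instance

instance (a : I) : IsOpenImmersion (kChart H a) := by
  unfold kChart
  infer_instance

theorem kChart_projStr (a : I) : kChart H a ≫ projStr 𝒜 = chartMap I a.1 := by
  unfold kChart projStr chartMap
  rw [Category.assoc, Proj.awayι_toSpecZero_assoc, ← Spec.map_comp, ← Spec.map_comp,
    ← CommRingCat.ofHom_comp, ← CommRingCat.ofHom_comp]
  congr 2
  exact RingHom.ext fun r => ηEquiv_symm_φ H a.1 a.2 r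

theorem range_kChart (a : I) :
    Set.range (kChart H a) = (Proj.basicOpen 𝒜 (τ a.1) : Set (Proj 𝒜)) := by
  unfold kChart
  rw [Scheme.Hom.comp_base, TopCat.coe_comp, Set.range_comp,
    Set.range_eq_univ.mpr (by
      exact (asIso (Spec.map (CommRingCat.ofHom
        (ηEquiv H a.1 a.2).symm.toRingHom))).hom.homeomorph.surjective), Set.image_univ]
  exact congrArg (fun U : (Proj 𝒜).Opens => (U : Set (Proj 𝒜)))
    (Proj.opensRange_awayι 𝒜 (τ a.1) (H.τ_mem a.1 a.2) one_pos)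

include H in
theorem irrelevant_le_span :
    (HomogeneousIdeal.irrelevant 𝒜).toIdeal ≤ Ideal.span (Set.range fun a : I => τ a.1) := by
  classical
  intro z hz
  rw [← DirectSum.sum_support_decompose 𝒜 z]
  refine Ideal.sum_mem _ fun c _ => ?_
  rcases Nat.eq_zero_or_eq_succ_pred c with hc0 | hc
  · have h0 : ((DirectSum.decompose 𝒜 z c : 𝒜 c) : R) = 0 := by
      rw [hc0]
      exact (HomogeneousIdeal.mem_irrelevant_iff _ _).mp hz
    rw [h0]
    exact Ideal.zero_mem _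
  · have hmem : ((DirectSum.decompose 𝒜 z c : 𝒜 c) : R) ∈ 𝒜 (c.pred + 1) := by
      rw [← Nat.succ_eq_add_one, ← hc]
      exact (DirectSum.decompose 𝒜 z c).2
    have hcl := H.span c.pred _ hmem
    generalize ((DirectSum.decompose 𝒜 z c : 𝒜 c) : R) = w at hcl
    induction hcl using AddSubmonoid.closure_induction with
    | mem h hh =>
      obtain ⟨g, -, x, hx, rfl⟩ := hh
      exact Ideal.mul_mem_left _ _ (Ideal.subset_span ⟨⟨x, hx⟩, rfl⟩)
    | zero => exact Ideal.zero_mem _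
    | add x y _ _ hx hy => exact Ideal.add_mem _ hx hy

include H in
theorem exists_mem_range_kChart (x : Proj 𝒜) : ∃ a : I, x ∈ Set.range (kChart H a) := by
  have h := Proj.iSup_basicOpen_eq_top 𝒜 (fun a : I => τ a.1) (irrelevant_le_span H)
  have hx : x ∈ (⊤ : (Proj 𝒜).Opens) := trivial
  rw [← h] at hx
  obtain ⟨a, ha⟩ := Opens.mem_iSup.1 hx
  exact ⟨a, by rw [range_kChart]; exact ha⟩

theorem kChart_mem_range (a b : I)
    (y : Spec (CommRingCat.of (BlowUp.affineAlgebra A I b.1)))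
    (hy : y ∈ PrimeSpectrum.basicOpen (frac I b.1 a.1 a.2)) :
    kChart H b y ∈ Set.range (kChart H a) := by
  rw [range_kChart]
  set y' := Spec.map (CommRingCat.ofHom (ηEquiv H b.1 b.2).symm.toRingHom) y with hy'
  show Proj.awayι 𝒜 (τ b.1) (H.τ_mem b.1 b.2) one_pos y' ∈ Proj.basicOpen 𝒜 (τ a.1)
  have hpre := Proj.awayι_preimage_basicOpen 𝒜 (H.τ_mem b.1 b.2) one_pos (H.τ_mem a.1 a.2) one_pos
  have hmem : y' ∈ Proj.awayι 𝒜 (τ b.1) (H.τ_mem b.1 b.2) one_pos ⁻¹ᵁ Proj.basicOpen 𝒜 (τ a.1) := by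
    rw [hpre]
    have helem : Away.isLocalizationElem (H.τ_mem b.1 b.2) (H.τ_mem a.1 a.2) =
        fracX H b.1 b.2 a.1 a.2 := by
      apply val_injective
      unfold fracX
      rw [Away.val_mk, Away.val_mk, pow_one]
    rw [helem]
    show fracX H b.1 b.2 a.1 a.2 ∉ y'.asIdeal
    intro hcon
    apply hy
    have : (ηEquiv H b.1 b.2).symm (fracX H b.1 b.2 a.1 a.2) ∈ y.asIdeal := hcon
    rwa [ηEquiv_symm_fracX] at this
  exact hmem

include H in
/-- `Proj` of a Rees-like graded algebra is the blow-up of `Spec A` in `I`. -/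
theorem isBlowUp_proj : BlowUp.IsBlowUp (projStr 𝒜) (Curv2.idealSheaf A I) :=
  isBlowUp_of_charts (kChart H) (kChart_projStr H) (exists_mem_range_kChart H)
    (kChart_mem_range H)

end Groth.Agent.Lib.Seat82.ProjRees
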