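import Mathlib
import Groth.Prelude.Def_Rees
import Groth.Prelude.Def_BlowUp2
import Groth.Prelude.Def_CurvBase
import Groth.Agent.Lib.Seat82ProjRees

/-!
# `Proj` of the Rees algebra is the blow-up of `Spec A` in `I` (seat 82)

Namespace `Groth.Agent.Lib.Seat82.ReesConcrete`.
* `τ I x = x·X` (zero if `x ∉ I`), `reesLike I : ReesLike I (Rees.deg (reesAlgebra I)) (τ I)`.
* `isBlowUp_proj_reesAlgebra`.
* `exists_isBlowUp_spec`: blow-ups of `Spec A` exist.
-/

set_option autoImplicit false
universe u
open CategoryTheory AlgebraicGeometry Polynomial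

namespace Groth.Agent.Lib.Seat82.ReesConcrete

open Groth.Agent.Lib.Seat82.ReesChart Groth.Agent.Lib.Seat82.ProjRees

variable {A : Type u} [CommRing A] (I : Ideal A)

open Classical in
/-- `x ↦ x·X`. -/
noncomputable def τ (x : A) : reesAlgebra I :=
  if hx : x ∈ I then ⟨monomial 1 x, reesAlgebra.monomial_mem.mpr (by simpa using hx)⟩ else 0

theorem coe_τ (x : A) (hx : x ∈ I) : ((τ I x : reesAlgebra I) : A[X]) = monomial 1 x := by
  unfold τ
  rw [dif_pos hx]

theorem coe_algebraMap (r : A) : ((algebraMap A (reesAlgebra I) r : reesAlgebra I) : A[X]) = C r :=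
  rfl

theorem reesLike : ReesLike I (Rees.deg (reesAlgebra I)) (τ I) where
  zero := by
    intro f hf
    refine ⟨(f : A[X]).coeff 0, ?_⟩
    apply Subtype.ext
    rw [coe_algebraMap]
    ext m
    rw [coeff_C]
    split_ifs with h
    · rw [h]
    · exact (hf m h).symm
  τ_mem := by
    intro x hx m hm
    rw [coe_τ I x hx, coeff_monomial]
    exact if_neg fun h => hm h.symm
  τ_comm := by
    intro x hx y hy
    apply Subtype.ext
    rw [Subalgebra.coe_mul, Subalgebra.coe_mul, coe_τ I x hx, coe_τ I y hy, coe_algebraMap,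
      coe_algebraMap, monomial_mul_C, monomial_mul_C, mul_comm]
  nzd := by
    intro y hy f hf
    apply Subtype.ext
    have h1 := congrArg Subtype.val hf
    rw [Subalgebra.coe_mul, coe_algebraMap, Subalgebra.coe_zero] at h1
    rw [Subalgebra.coe_mul, coe_τ I y hy, Subalgebra.coe_zero, ← C_mul_X_eq_monomial, ← mul_assoc,
      h1, zero_mul]
  span := by
    intro n f hf
    have hc : (f : A[X]).coeff (n + 1) ∈ I ^ (n + 1) := f.2 (n + 1)
    have hfc : (f : A[X]) = monomial (n + 1) ((f : A[X]).coeff (n + 1)) := by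
      ext m
      rw [coeff_monomial]
      split_ifs with h
      · rw [h]
      · exact hf m (Ne.symm h)
    suffices key : ∀ c ∈ I ^ (n + 1), ∀ h : monomial (n + 1) c ∈ reesAlgebra I,
        (⟨monomial (n + 1) c, h⟩ : reesAlgebra I) ∈ AddSubmonoid.closure
          {h | ∃ g ∈ Rees.deg (reesAlgebra I) n, ∃ x ∈ I, h = g * τ I x} by
      have := key _ hc (hfc ▸ f.2)
      convert this using 1
      exact Subtype.ext hfc
    intro c hc
    rw [pow_succ] at hc
    induction hc using Submodule.mul_induction_on' with
    | mem_mul_mem c' hc' x hx =>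
      intro h
      apply AddSubmonoid.subset_closure
      refine ⟨⟨monomial n c', reesAlgebra.monomial_mem.mpr hc'⟩, ?_, x, hx, ?_⟩
      · intro m hm
        show (monomial n c').coeff m = 0
        rw [coeff_monomial]
        exact if_neg fun h => hm h.symm
      · apply Subtype.ext
        rw [Subalgebra.coe_mul, coe_τ I x hx]
        show monomial (n + 1) (c' * x) = monomial n c' * monomial 1 x
        rw [monomial_mul_monomial]
    | add c₁ _ c₂ _ h₁ h₂ =>
      intro h
      have hm₁ : monomial (n + 1) c₁ ∈ reesAlgebra I := reesAlgebra.monomial_mem.mpr (by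
        rw [pow_succ]; assumption)
      have hm₂ : monomial (n + 1) c₂ ∈ reesAlgebra I := reesAlgebra.monomial_mem.mpr (by
        rw [pow_succ]; assumption)
      have := add_mem (h₁ hm₁) (h₂ hm₂)
      convert this using 1
      apply Subtype.ext
      show monomial (n + 1) (c₁ + c₂) = monomial (n + 1) c₁ + monomial (n + 1) c₂
      rw [map_add]
  ev := by
    intro y hy
    refine ⟨(Polynomial.eval₂RingHom (algebraMap A (Localization.Away y)) 1).comp
      (reesAlgebra I).val.toRingHom, ?_, ?_⟩
    · intro r
      show Polynomial.eval₂ _ 1 (C r) = _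
      rw [eval₂_C]
    · show IsUnit (Polynomial.eval₂ _ 1 ((τ I y : reesAlgebra I) : A[X]))
      rw [coe_τ I y hy, eval₂_monomial, one_pow, mul_one]
      exact IsLocalization.Away.algebraMap_isUnit y

end Groth.Agent.Lib.Seat82.ReesConcrete
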