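import Mathlib
import Groth.Prelude.Def_BlowUp2
import Groth.Agent.Lib.Seat82BlowUpLocal
import Groth.Agent.Lib.Seat82ReesConcrete

/-!
# Existence of blow-ups (seat 82)

Namespace `Groth.Agent.Lib.Seat82.BlowUpExists`.
* `exists_isBlowUp_of_isAffine`: blow-ups of affine schemes exist (`Proj` of the Rees algebra).
* `exists_isBlowUp`: blow-ups exist (relative gluing over the directed cover by all affine opens).
-/

set_option autoImplicit false
universe u
open CategoryTheory CategoryTheory.Limits AlgebraicGeometry TopologicalSpace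

namespace Groth.Agent.Lib.Seat82.BlowUpExists

open Scheme.IdealSheafData Groth.Agent.Lib.Seat82.BlowUpSup
  Groth.Agent.Lib.Seat82.BlowUpRestrict Groth.Agent.Lib.Seat82.BlowUpLocal

theorem exists_isBlowUp_of_isAffine (X : Scheme.{u}) [IsAffine X] (𝓘 : X.IdealSheafData) :
    ∃ (X' : Scheme.{u}) (b : X' ⟶ X), BlowUp.IsBlowUp b 𝓘 := by
  have h0 := Groth.Agent.Lib.Seat82.ProjRees.isBlowUp_proj
    (Groth.Agent.Lib.Seat82.ReesConcrete.reesLike (𝓘.ideal ⟨⊤, isAffineOpen_top X⟩))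
  rw [← comap_isoSpec_inv] at h0
  have h1 := isBlowUp_comp_iso _ _ h0 X.isoSpec.symm
  have h2 : (𝓘.comap X.isoSpec.inv).comap X.isoSpec.symm.inv = 𝓘 := by
    rw [← comap_comp]
    show 𝓘.comap (X.isoSpec.hom ≫ X.isoSpec.inv) = 𝓘
    rw [Iso.hom_inv_id, comap_id]
  rw [h2] at h1
  exact ⟨_, _, h1⟩

section Glue

variable (X : Scheme.{u}) (𝓘 : X.IdealSheafData)

theorem exists_isBlowUp_affineOpen (U : X.affineOpens) :
    ∃ (B : Scheme.{u}) (b : B ⟶ U.1.toScheme), BlowUp.IsBlowUp b (𝓘.comap U.1.ι) :=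
  haveI : IsAffine U.1.toScheme := U.2
  exists_isBlowUp_of_isAffine U.1.toScheme (𝓘.comap U.1.ι)

/-- a chosen blow-up of the affine open `U`. -/
noncomputable def Bl (U : X.affineOpens) : Scheme.{u} := (exists_isBlowUp_affineOpen X 𝓘 U).choose

/-- its structure map. -/
noncomputable def bl (U : X.affineOpens) : Bl X 𝓘 U ⟶ U.1.toScheme :=
  (exists_isBlowUp_affineOpen X 𝓘 U).choose_spec.choose

theorem isBlowUp_bl (U : X.affineOpens) : BlowUp.IsBlowUp (bl X 𝓘 U) (𝓘.comap U.1.ι) :=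
  (exists_isBlowUp_affineOpen X 𝓘 U).choose_spec.choose_spec

theorem comap_homOfLE {U V : X.affineOpens} (h : U ≤ V) :
    (𝓘.comap V.1.ι).comap (X.homOfLE h) = 𝓘.comap U.1.ι := by
  rw [← comap_comp, Scheme.homOfLE_ι]

theorem cartier_trans {U V : X.affineOpens} (h : U ≤ V) :
    BlowUp.IsEffCartierIdeal ((𝓘.comap V.1.ι).comap (bl X 𝓘 U ≫ X.homOfLE h)) := by
  rw [comap_comp, comap_homOfLE]
  exact (isBlowUp_bl X 𝓘 U).1

/-- the transition maps between the chosen blow-ups. -/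
noncomputable def trans {U V : X.affineOpens} (h : U ≤ V) : Bl X 𝓘 U ⟶ Bl X 𝓘 V :=
  ((isBlowUp_bl X 𝓘 V).2 _ _ (cartier_trans X 𝓘 h)).exists.choose

theorem trans_bl {U V : X.affineOpens} (h : U ≤ V) :
    trans X 𝓘 h ≫ bl X 𝓘 V = bl X 𝓘 U ≫ X.homOfLE h :=
  ((isBlowUp_bl X 𝓘 V).2 _ _ (cartier_trans X 𝓘 h)).exists.choose_spec

theorem trans_unique {U V : X.affineOpens} (h : U ≤ V) (t : Bl X 𝓘 U ⟶ Bl X 𝓘 V)
    (ht : t ≫ bl X 𝓘 V = bl X 𝓘 U ≫ X.homOfLE h) : t = trans X 𝓘 h := by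
  apply hom_ext_of_isBlowUp (isBlowUp_bl X 𝓘 V)
  · rw [ht, trans_bl]
  · rw [ht]
    exact cartier_trans X 𝓘 h

theorem isPullback_trans {U V : X.affineOpens} (h : U ≤ V) :
    IsPullback (trans X 𝓘 h) (bl X 𝓘 U) (bl X 𝓘 V) (X.homOfLE h) := by
  have hP := IsPullback.of_hasPullback (bl X 𝓘 V) (X.homOfLE h)
  have hsnd := isBlowUp_of_isPullback_openImmersion (isBlowUp_bl X 𝓘 V) hP
  rw [comap_homOfLE] at hsnd
  have hl : pullback.lift (trans X 𝓘 h) (bl X 𝓘 U) (trans_bl X 𝓘 h) ≫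
      pullback.snd (bl X 𝓘 V) (X.homOfLE h) = bl X 𝓘 U := pullback.lift_snd _ _ _
  have hiso : IsIso (pullback.lift (trans X 𝓘 h) (bl X 𝓘 U) (trans_bl X 𝓘 h)) :=
    isIso_of_isBlowUp (𝓘.comap U.1.ι) (bl X 𝓘 U) _ (isBlowUp_bl X 𝓘 U) hsnd _ hl
  exact IsPullback.of_iso_pullback ⟨trans_bl X 𝓘 h⟩
    (asIso (pullback.lift (trans X 𝓘 h) (bl X 𝓘 U) (trans_bl X 𝓘 h)))
    (pullback.lift_fst _ _ _) (pullback.lift_snd _ _ _)

theorem trans_refl (U : X.affineOpens) : trans X 𝓘 (le_refl U) = 𝟙 _ :=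
  (trans_unique X 𝓘 (le_refl U) (𝟙 _) (by
    rw [Category.id_comp, Scheme.homOfLE_rfl, Category.comp_id])).symm

theorem trans_trans {U V W : X.affineOpens} (h₁ : U ≤ V) (h₂ : V ≤ W) :
    trans X 𝓘 h₁ ≫ trans X 𝓘 h₂ = trans X 𝓘 (h₁.trans h₂) :=
  trans_unique X 𝓘 (h₁.trans h₂) _ (by
    rw [Category.assoc, trans_bl, ← Category.assoc, trans_bl, Category.assoc,
      Scheme.homOfLE_homOfLE])

/-- the functor of chosen blow-ups over the directed cover by all affine opens. -/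
noncomputable def blFunctor : X.directedAffineCover.I₀ ⥤ Scheme.{u} where
  obj U := Bl X 𝓘 U
  map f := trans X 𝓘 (leOfHom f)
  map_id U := trans_refl X 𝓘 U
  map_comp f g := (trans_trans X 𝓘 (leOfHom f) (leOfHom g)).symm

/-- the structure maps as a natural transformation. -/
noncomputable def blNatTrans :
    blFunctor X 𝓘 ⟶ X.directedAffineCover.functorOfLocallyDirected where
  app U := bl X 𝓘 U
  naturality _ _ f := trans_bl X 𝓘 (leOfHom f)

theorem blNatTrans_equifibered : (blNatTrans X 𝓘).Equifibered :=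
  fun _ _ f => isPullback_trans X 𝓘 (leOfHom f)

/-- the relative gluing datum of the chosen blow-ups. -/
noncomputable def gluingData : Scheme.Cover.RelativeGluingData X.directedAffineCover where
  functor := blFunctor X 𝓘
  natTrans := blNatTrans X 𝓘
  equifibered := blNatTrans_equifibered X 𝓘

/-- Blow-ups exist. -/
theorem exists_isBlowUp : ∃ (X' : Scheme.{u}) (b : X' ⟶ X), BlowUp.IsBlowUp b 𝓘 := by
  refine ⟨(gluingData X 𝓘).glued, (gluingData X 𝓘).toBase, ?_⟩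
  exact isBlowUp_of_local (B := fun U => Bl X 𝓘 U) (bU := fun U => bl X 𝓘 U)
    (ι' := fun U => colimit.ι (gluingData X 𝓘).functor U)
    (fun U => (gluingData X 𝓘).isPullback_natTrans_ι_toBase U) (fun U => isBlowUp_bl X 𝓘 U)

end Glue

end Groth.Agent.Lib.Seat82.BlowUpExists
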