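import Mathlib
import Groth.Agent.Lib.Seat82BlowUpExists

/-!
# Blow-ups in ideal sheaves of finite type are proper (helper92)

* `isProper_projStr_rees`: `Proj` of the Rees algebra of a finitely generated ideal is proper over
  the base;
* `isProper_of_isBlowUp_of_isAffine`, `isProper_of_isBlowUp`: a blowing up (universal property)
  in an ideal sheaf of finite type is proper.
-/

set_option autoImplicit false
set_option linter.style.haveILetI false
universe u

namespace Groth.Agent.Lib.Seat92.BlowUpProper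

open CategoryTheory CategoryTheory.Limits AlgebraicGeometry TopologicalSpace
open Groth.Agent.Lib.Seat82.BlowUpSup Groth.Agent.Lib.Seat82.BlowUpRestrict
  Groth.Agent.Lib.Seat82.BlowUpLocal

section Rees

variable {A : Type u} [CommRing A] (I : Ideal A)

theorem algebraMap_zero_surjective :
    Function.Surjective (algebraMap A (Rees.deg (reesAlgebra I) 0)) := by
  rintro ⟨f, hf⟩
  obtain ⟨r, hr⟩ := (Groth.Agent.Lib.Seat82.ReesConcrete.reesLike I).zero f hf
  exact ⟨r, Subtype.ext hr⟩

theorem finiteType_rees (hI : I.FG) :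
    Algebra.FiniteType (Rees.deg (reesAlgebra I) 0) (reesAlgebra I) := by
  haveI : Algebra.FiniteType A (reesAlgebra I) :=
    ⟨(reesAlgebra I).fg_top.mpr (reesAlgebra.fg hI)⟩
  haveI : IsScalarTower A (Rees.deg (reesAlgebra I) 0) (reesAlgebra I) :=
    IsScalarTower.of_algebraMap_eq (R := A) (S := Rees.deg (reesAlgebra I) 0)
      (A := reesAlgebra I) fun x => rfl
  exact Algebra.FiniteType.of_restrictScalars_finiteType A _ _

theorem isProper_projStr_rees (hI : I.FG) :
    IsProper (Groth.Agent.Lib.Seat82.ProjRees.projStr (Rees.deg (reesAlgebra I))) := by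
  haveI := finiteType_rees I hI
  haveI : IsClosedImmersion (Spec.map (CommRingCat.ofHom
      (algebraMap A (Rees.deg (reesAlgebra I) 0)) :
        CommRingCat.of A ⟶ CommRingCat.of (Rees.deg (reesAlgebra I) 0))) := by
    apply IsClosedImmersion.spec_of_surjective
    exact algebraMap_zero_surjective I
  unfold Groth.Agent.Lib.Seat82.ProjRees.projStr
  infer_instance

end Rees

/-- On an affine scheme, a blowing up in an ideal with finitely generated global sections is
proper. -/
theorem isProper_of_isBlowUp_of_isAffine {X X' : Scheme.{u}} [IsAffine X]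
    (𝓘 : X.IdealSheafData) (hfg : (𝓘.ideal ⟨⊤, isAffineOpen_top X⟩).FG) (b : X' ⟶ X)
    (hb : BlowUp.IsBlowUp b 𝓘) : IsProper b := by
  have h0 := Groth.Agent.Lib.Seat82.ProjRees.isBlowUp_proj
    (Groth.Agent.Lib.Seat82.ReesConcrete.reesLike (𝓘.ideal ⟨⊤, isAffineOpen_top X⟩))
  have hp := isProper_projStr_rees (𝓘.ideal ⟨⊤, isAffineOpen_top X⟩) hfg
  rw [← comap_isoSpec_inv] at h0
  have h1 := isBlowUp_comp_iso _ _ h0 X.isoSpec.symm
  have h2 : (𝓘.comap X.isoSpec.inv).comap X.isoSpec.symm.inv = 𝓘 := by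
    rw [← Scheme.IdealSheafData.comap_comp]
    show 𝓘.comap (X.isoSpec.hom ≫ X.isoSpec.inv) = 𝓘
    rw [Iso.hom_inv_id, Scheme.IdealSheafData.comap_id]
  rw [h2] at h1
  -- `b` factors through the proper model by an isomorphism
  obtain ⟨h, hh, -⟩ := h1.2 X' b hb.1
  haveI : IsIso h := isIso_of_isBlowUp 𝓘 b _ hb h1 h hh
  rw [← hh]
  infer_instance

/-- A blowing up in an ideal sheaf of finite type is proper. -/
theorem isProper_of_isBlowUp {X X' : Scheme.{u}} (𝓘 : X.IdealSheafData)
    (hfg : ∀ W : X.affineOpens, (𝓘.ideal W).FG) (b : X' ⟶ X) (hb : BlowUp.IsBlowUp b 𝓘) :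
    IsProper b := by
  apply IsZariskiLocalAtTarget.of_iSup_eq_top (P := @IsProper) (fun U : X.affineOpens => U.1)
  · rw [eq_top_iff]
    intro x _
    obtain ⟨_, ⟨U, hU, rfl⟩, hxU, -⟩ :=
      X.isBasis_affineOpens.exists_subset_of_mem_open (Set.mem_univ x) isOpen_univ
    exact TopologicalSpace.Opens.mem_iSup.mpr ⟨⟨U, hU⟩, hxU⟩
  · intro U
    haveI : IsAffine U.1.toScheme := U.2
    have hbU := isBlowUp_morphismRestrict 𝓘 b hb U.1
    refine isProper_of_isBlowUp_of_isAffine (𝓘.comap U.1.ι) ?_ (b ∣_ U.1) hbU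
    have hle : (⊤ : U.1.toScheme.Opens) ≤ U.1.ι ⁻¹ᵁ U.1 := fun x _ => x.2
    rw [Groth.Agent.Lib.Helper20.EffCartier.ideal_comap_eq_map U.1.ι 𝓘 (isAffineOpen_top _) U.2 hle]
    exact (hfg U).map _

end Groth.Agent.Lib.Seat92.BlowUpProper
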