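import Mathlib
import Groth.Agent.Lib.Seat82BlowUpCover
import Groth.Agent.Lib.Seat92BlowUpProper

/-!
# Charts of a blow-up of `Spec A` indexed by generators of the ideal (helper70)

* `exists_genAt_of_span`: if `I = span S` and the pullback of `I` is Cartier at `y`, then some `a ∈ S`
  generates it near `y` (variant of helper82's `exists_genAt`).
* `exists_mem_chartLocus_of_span`: the chart loci of a generating set cover the blow-up.
* `isAffineOpen_chartLocus`: chart loci are affine opens.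
* `isSeparated_of_isBlowUp`: a blow-up of `Spec A` in a finitely generated ideal is separated.
-/

set_option autoImplicit false
universe u
open CategoryTheory CategoryTheory.Limits AlgebraicGeometry Opposite TopologicalSpace nonZeroDivisors

namespace Groth.Agent.Lib.Seat70.BlowUpTwoCharts

open Groth.Agent.Lib.Seat64.AffBlowUp Groth.Agent.Lib.Seat82.BlowUpAlg
  Groth.Agent.Lib.Seat82.BlowUpChart Groth.Agent.Lib.Seat82.BlowUpCover

variable {Y : Scheme.{u}} {A : Type u} [CommRing A]

/-- if `I = span S` and the pullback of `I` is Cartier at `y`, some `a ∈ S` generates it near `y`. -/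
theorem exists_genAt_of_span {ψ : A →+* Γ(Y, ⊤)} {I : Ideal A} (S : Set A)
    (hS : Ideal.span S = I) {y : Y} (hcart : CartAt ψ I y) :
    ∃ a ∈ S, GenAt ψ I a y := by
  obtain ⟨W, hW, hyW, c₀, hc₀, hIW⟩ := hcart
  have hSI : ∀ x ∈ S, x ∈ I := fun x hx => hS ▸ Ideal.subset_span hx
  have hu : ∀ x : A, ∃ u : Γ(Y, W), x ∈ I → u * c₀ = resψ ψ W x := by
    intro x
    by_cases hx : x ∈ I
    · have : resψ ψ W x ∈ Ideal.span {c₀} := hIW ▸ Ideal.mem_map_of_mem _ hx
      obtain ⟨u, hu⟩ := Ideal.mem_span_singleton'.mp this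
      exact ⟨u, fun _ => hu⟩
    · exact ⟨0, fun h => absurd h hx⟩
  choose u hu using hu
  let 𝔲 : Ideal Γ(Y, W) := Ideal.span (u '' S)
  have hmap : Ideal.map (resψ ψ W) I = Ideal.span (resψ ψ W '' S) := by
    rw [← hS, Ideal.map_span]
  have key : ∀ z ∈ Ideal.map (resψ ψ W) I, ∃ t ∈ 𝔲, z = t * c₀ := by
    intro z hz
    rw [hmap] at hz
    refine Submodule.span_induction (p := fun z _ => ∃ t ∈ 𝔲, z = t * c₀) ?_ ?_ ?_ ?_ hz
    · rintro _ ⟨x, hx, rfl⟩
      exact ⟨u x, Ideal.subset_span ⟨x, hx, rfl⟩, (hu x (hSI x hx)).symm⟩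
    · exact ⟨0, Ideal.zero_mem _, (zero_mul _).symm⟩
    · rintro p q - - ⟨t, ht, rfl⟩ ⟨t', ht', rfl⟩
      exact ⟨t + t', Ideal.add_mem _ ht ht', (add_mul _ _ _).symm⟩
    · rintro r p - ⟨t, ht, rfl⟩
      exact ⟨r * t, Ideal.mul_mem_left _ r ht, by rw [smul_eq_mul, mul_assoc]⟩
  obtain ⟨t, ht, htc⟩ := key c₀ (hIW ▸ Ideal.mem_span_singleton_self c₀)
  have ht1 : t = 1 := by
    have : (t - 1) * c₀ = 0 := by rw [sub_mul, one_mul, ← htc, sub_self]
    exact sub_eq_zero.mp ((mem_nonZeroDivisors_iff_right.mp hc₀) _ this)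
  have htop : 𝔲 = ⊤ := by
    rw [Ideal.eq_top_iff_one, ← ht1]; exact ht
  have hcov := (hW.iSup_basicOpen_eq_self_iff (s := u '' S)).mpr htop
  have hy : y ∈ ⨆ f : (u '' S), Y.basicOpen (f : Γ(Y, W)) := by rw [hcov]; exact hyW
  obtain ⟨⟨_, x, hx, rfl⟩, hyx⟩ := Opens.mem_iSup.mp hy
  refine ⟨x, hx, ?_⟩
  have hgen := gen_basicOpen ψ I hW (u x) c₀ hc₀ hIW
  have inst := hW.isLocalization_basicOpen (u x)
  have hwu : IsUnit ((Y.presheaf.map (homOfLE (Y.basicOpen_le (u x))).op).hom (u x)) :=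
    IsLocalization.Away.algebraMap_isUnit (u x)
  have haD : resψ ψ (Y.basicOpen (u x)) x =
      (Y.presheaf.map (homOfLE (Y.basicOpen_le (u x))).op).hom (u x) *
        (Y.presheaf.map (homOfLE (Y.basicOpen_le (u x))).op).hom c₀ := by
    rw [← res_resψ ψ (Y.basicOpen_le (u x)), ← hu x (hSI x hx), map_mul]
  have hspan : Ideal.span {resψ ψ (Y.basicOpen (u x)) x} =
      Ideal.span {(Y.presheaf.map (homOfLE (Y.basicOpen_le (u x))).op).hom c₀} := by
    rw [haD]
    exact Ideal.span_singleton_mul_left_unit hwu _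
  exact ⟨Y.basicOpen (u x), hW.basicOpen (u x), hyx, mem_nonZeroDivisors_of_span_eq hgen.1 hspan,
    hgen.2.trans hspan.symm⟩

section Cover

variable {X' : Scheme.{u}} {b : X' ⟶ Spec (CommRingCat.of A)} {I : Ideal A}
  (hb : BlowUp.IsBlowUp b (Curv2.idealSheaf A I))

include hb in
/-- the chart loci of a generating set cover the blow-up. -/
theorem exists_mem_chartLocus_of_span (S : Set A) (hS : Ideal.span S = I) (x' : X') :
    ∃ a ∈ S, x' ∈ chartLocus b I a :=
  exists_genAt_of_span S hS (cartAt_blowUp hb x')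

include hb in
/-- chart loci are affine. -/
theorem isAffineOpen_chartLocus (a : A) (ha : a ∈ I) : IsAffineOpen (chartLocus b I a) := by
  show IsAffine (chartLocus b I a).toScheme
  exact IsAffine.of_isIso (chartIso hb a ha).hom

include hb in
/-- a blow-up of `Spec A` in a finitely generated ideal is a separated scheme. -/
theorem isSeparated_of_isBlowUp (hI : I.FG) : IsSeparated (terminal.from X') := by
  have hfg : ((Curv2.idealSheaf A I).ideal ⟨⊤, isAffineOpen_top _⟩).FG := by
    unfold Curv2.idealSheaf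
    rw [Scheme.IdealSheafData.ofIdealTop_ideal]
    exact (hI.map _).map _
  have hp : IsProper b :=
    Groth.Agent.Lib.Seat92.BlowUpProper.isProper_of_isBlowUp_of_isAffine _ hfg b hb
  have h : terminal.from X' = b ≫ terminal.from (Spec (CommRingCat.of A)) := by
    apply terminal.hom_ext
  rw [h]
  infer_instance

end Cover

end Groth.Agent.Lib.Seat70.BlowUpTwoCharts
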