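import Mathlib
import Groth.Agent.Lib.Seat70BlowUpTwoCharts
import Groth.Agent.Lib.Seat70GGSpan
import Groth.Agent.Lib.Helper23AffOpen3

/-!
# Čech computation on the blow-up of `Spec A` in an ideal generated by two elements (helper70)

* `exists_add_of_laurent`: the algebra behind `H¹(O) = 0`.
-/

set_option autoImplicit false
universe u
open CategoryTheory CategoryTheory.Limits AlgebraicGeometry Opposite TopologicalSpace nonZeroDivisors

namespace Groth.Agent.Lib.Seat70.BlowUpCech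

section Algebra

variable {A R0 R1 R01 : Type*} [CommRing A] [CommRing R0] [CommRing R1] [CommRing R01]
  (φ0 : A →+* R0) (φ1 : A →+* R1) (r0 : R0 →+* R01) (r1 : R1 →+* R01)

/-- Laurent polynomials in `t` are sums of polynomials in `t` and polynomials in `t⁻¹`. -/
theorem exists_add_of_laurent (hφ : ∀ c, r0 (φ0 c) = r1 (φ1 c)) (t0 : R0) (t1 : R1)
    (ht : r0 t0 * r1 t1 = 1) (p : Polynomial A) (n : ℕ) :
    ∃ (g : R0) (h : R1), r0 (Polynomial.eval₂ φ0 t0 p) * r1 t1 ^ n = r0 g + r1 h := by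
  induction p using Polynomial.induction_on' with
  | add p q hp hq =>
    obtain ⟨g, h, hgh⟩ := hp
    obtain ⟨g', h', hgh'⟩ := hq
    exact ⟨g + g', h + h', by rw [Polynomial.eval₂_add, map_add, add_mul, hgh, hgh', map_add, map_add]; ring⟩
  | monomial i c =>
    rw [Polynomial.eval₂_monomial, map_mul, map_pow]
    rcases le_total n i with hni | hin
    · obtain ⟨k, rfl⟩ := Nat.exists_eq_add_of_le hni
      refine ⟨φ0 c * t0 ^ k, 0, ?_⟩
      have h1 : r0 t0 ^ n * r1 t1 ^ n = 1 := by rw [← mul_pow, ht, one_pow]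
      rw [map_zero, add_zero, map_mul, map_pow, pow_add]
      calc r0 (φ0 c) * (r0 t0 ^ n * r0 t0 ^ k) * r1 t1 ^ n
          = r0 (φ0 c) * r0 t0 ^ k * (r0 t0 ^ n * r1 t1 ^ n) := by ring
        _ = r0 (φ0 c) * r0 t0 ^ k := by rw [h1, mul_one]
    · obtain ⟨k, rfl⟩ := Nat.exists_eq_add_of_le hin
      refine ⟨0, φ1 c * t1 ^ k, ?_⟩
      have h1 : r0 t0 ^ i * r1 t1 ^ i = 1 := by rw [← mul_pow, ht, one_pow]
      rw [map_zero, zero_add, map_mul, map_pow, pow_add, hφ]
      calc r1 (φ1 c) * r0 t0 ^ i * (r1 t1 ^ i * r1 t1 ^ k)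
          = r1 (φ1 c) * r1 t1 ^ k * (r0 t0 ^ i * r1 t1 ^ i) := by ring
        _ = r1 (φ1 c) * r1 t1 ^ k := by rw [h1, mul_one]

end Algebra

section Chart

open Groth.Agent.Lib.Seat64.AffBlowUp Groth.Agent.Lib.Seat82.BlowUpAlg
  Groth.Agent.Lib.Seat82.BlowUpChart Groth.Agent.Lib.Seat82.BlowUpCover

variable {A : Type u} [CommRing A] {X : Scheme.{u}} {b : X ⟶ Spec (CommRingCat.of A)} {I : Ideal A}
  (hb : BlowUp.IsBlowUp b (Curv2.idealSheaf A I))

/-- the ring map `A[I/a] → Γ(X, chartLocus)` induced by the chart isomorphism -/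
noncomputable def chartΓ (a : A) (ha : a ∈ I) :
    BlowUp.affineAlgebra A I a →+* Γ(X, chartLocus b I a) :=
  ((chartLocus b I a).topIso.hom.hom.comp (chartIso hb a ha).hom.appTop.hom).comp
    (Scheme.ΓSpecIso (CommRingCat.of (BlowUp.affineAlgebra A I a))).inv.hom

theorem chartΓ_bijective (a : A) (ha : a ∈ I) : Function.Bijective (chartΓ hb a ha) := by
  have h1 : Function.Bijective (chartLocus b I a).topIso.hom.hom :=
    ConcreteCategory.bijective_of_isIso (chartLocus b I a).topIso.hom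
  have h2 : Function.Bijective (chartIso hb a ha).hom.appTop.hom := by
    haveI : IsIso (chartIso hb a ha).hom.appTop :=
      inferInstanceAs (IsIso ((chartIso hb a ha).hom.app ⊤))
    exact ConcreteCategory.bijective_of_isIso (chartIso hb a ha).hom.appTop
  have h3 : Function.Bijective
      (Scheme.ΓSpecIso (CommRingCat.of (BlowUp.affineAlgebra A I a))).inv.hom :=
    ConcreteCategory.bijective_of_isIso
      (Scheme.ΓSpecIso (CommRingCat.of (BlowUp.affineAlgebra A I a))).inv
  exact (h1.comp h2).comp h3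

theorem chartΓ_comp_algebraMap (a : A) (ha : a ∈ I) :
    (chartΓ hb a ha).comp (algebraMap A (BlowUp.affineAlgebra A I a)) =
      resψ (ψg b) (chartLocus b I a) := by
  have h1 := congrArg ψg (chartIso_hom_chartMap hb a ha)
  rw [ψg_comp, ψg_comp, ψg_specMap] at h1
  unfold chartΓ resψ
  rw [RingHom.comp_assoc, RingHom.comp_assoc, h1, ← RingHom.comp_assoc]
  congr 1
  have h2 : (chartLocus b I a).ι.appTop ≫ (chartLocus b I a).topIso.hom =
      X.presheaf.map (homOfLE (le_top : chartLocus b I a ≤ ⊤)).op := by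
    rw [Scheme.Opens.ι_appTop, Scheme.Opens.topIso_hom]
    exact (X.presheaf.map_comp _ _).symm
  have h3 := congrArg CommRingCat.Hom.hom h2
  rw [CommRingCat.hom_comp] at h3
  exact h3

/-- `a` restricted to an open of the chart locus of `a` is a nonzerodivisor -/
theorem resψ_mem_nonZeroDivisors_of_le (a : A) (W : X.Opens) (hW : W ≤ chartLocus b I a) :
    resψ (ψg b) W a ∈ Γ(X, W)⁰ :=
  resψ_mem_nonZeroDivisors (V := chartLocus b I a) (fun _ h => h) W hW

include hb in
/-- if `I = (a, y)`, the sections over the chart locus of `a` are polynomials in `y/a` -/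
theorem exists_eval₂_eq (a y : A) (ha : a ∈ I) (hI : I = Ideal.span {a, y})
    (t0 : Γ(X, chartLocus b I a))
    (ht0 : t0 * resψ (ψg b) (chartLocus b I a) a = resψ (ψg b) (chartLocus b I a) y)
    (f : Γ(X, chartLocus b I a)) :
    ∃ p : Polynomial A, f = Polynomial.eval₂ (resψ (ψg b) (chartLocus b I a)) t0 p := by
  obtain ⟨z, rfl⟩ := (chartΓ_bijective hb a ha).2 f
  have hcomp : ∀ r : A, chartΓ hb a ha (algebraMap A _ r) = resψ (ψg b) (chartLocus b I a) r :=
    fun r => RingHom.congr_fun (chartΓ_comp_algebraMap hb a ha) r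
  have hnz := resψ_mem_nonZeroDivisors_of_le (b := b) (I := I) a (chartLocus b I a) le_rfl
  induction z using induction_on with
  | hfrac x hx =>
    rw [hI, Ideal.mem_span_pair] at hx
    obtain ⟨c, d, hcd⟩ := hx
    refine ⟨Polynomial.C c + Polynomial.C d * Polynomial.X, ?_⟩
    rw [Polynomial.eval₂_add, Polynomial.eval₂_mul, Polynomial.eval₂_C, Polynomial.eval₂_C,
      Polynomial.eval₂_X]
    rw [← mul_cancel_right_mem_nonZeroDivisors hnz, ← hcomp a, ← map_mul, frac_mul, hcomp, hcomp,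
      ← hcd, map_add, map_mul, map_mul, ← ht0]
    ring
  | halg r => exact ⟨Polynomial.C r, by rw [Polynomial.eval₂_C, hcomp]⟩
  | hadd x y hx hy =>
    obtain ⟨p, hp⟩ := hx
    obtain ⟨q, hq⟩ := hy
    exact ⟨p + q, by rw [map_add, hp, hq, Polynomial.eval₂_add]⟩
  | hmul x y hx hy =>
    obtain ⟨p, hp⟩ := hx
    obtain ⟨q, hq⟩ := hy
    exact ⟨p * q, by rw [map_mul, hp, hq, Polynomial.eval₂_mul]⟩

/-- restriction of functions as a ring hom -/
noncomputable abbrev rfh {U V : X.Opens} (h : V ≤ U) : Γ(X, U) →+* Γ(X, V) :=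
  (X.presheaf.map (homOfLE h).op).hom

theorem rfh_rfh {U V W : X.Opens} (h : V ≤ U) (h' : W ≤ V) (r : Γ(X, U)) :
    rfh h' (rfh h r) = rfh (h'.trans h) r := by
  unfold rfh
  rw [← CommRingCat.comp_apply, ← Functor.map_comp]
  rfl

theorem rfh_self {U : X.Opens} (r : Γ(X, U)) : rfh (le_refl U) r = r := by
  unfold rfh
  have : X.presheaf.map (homOfLE (le_refl U)).op = 𝟙 _ := CategoryTheory.Functor.map_id _ _
  rw [this]
  rfl

theorem rfh_resψ (ψ : A →+* Γ(X, ⊤)) {U V : X.Opens} (h : V ≤ U) (c : A) :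
    rfh h (resψ ψ U c) = resψ ψ V c := res_resψ ψ h c

section TwoGen

variable (a y : A) (ha : a ∈ I) (hy : y ∈ I)
  (t0 : Γ(X, chartLocus b I a))
  (ht0 : t0 * resψ (ψg b) (chartLocus b I a) a = resψ (ψg b) (chartLocus b I a) y)
  (t1 : Γ(X, chartLocus b I y))
  (ht1 : t1 * resψ (ψg b) (chartLocus b I y) y = resψ (ψg b) (chartLocus b I y) a)

include ht0 ht1 in
/-- `y/a` and `a/y` are inverse to each other on the intersection of the two charts -/
theorem mul_eq_one :
    rfh (inf_le_left : chartLocus b I a ⊓ chartLocus b I y ≤ chartLocus b I a) t0 *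
      rfh (inf_le_right : chartLocus b I a ⊓ chartLocus b I y ≤ chartLocus b I y) t1 = 1 := by
  have hnz := resψ_mem_nonZeroDivisors_of_le (b := b) (I := I) a
    (chartLocus b I a ⊓ chartLocus b I y) inf_le_left
  rw [← mul_cancel_right_mem_nonZeroDivisors hnz, one_mul]
  have h0 := congrArg (rfh (inf_le_left : chartLocus b I a ⊓ chartLocus b I y ≤ chartLocus b I a)) ht0
  have h1 := congrArg (rfh (inf_le_right : chartLocus b I a ⊓ chartLocus b I y ≤ chartLocus b I y)) ht1
  rw [map_mul, rfh_resψ, rfh_resψ] at h0 h1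
  calc _ = rfh inf_le_right t1 * (rfh inf_le_left t0 * resψ (ψg b) (chartLocus b I a ⊓ chartLocus b I y) a) := by
        ring
    _ = _ := by rw [h0, h1]

include ht0 ht1 in
theorem inf_le_basicOpen : chartLocus b I a ⊓ chartLocus b I y ≤ X.basicOpen t0 := by
  have hu : IsUnit (rfh (inf_le_left : chartLocus b I a ⊓ chartLocus b I y ≤ chartLocus b I a) t0) :=
    IsUnit.of_mul_eq_one _ (mul_eq_one a y t0 ht0 t1 ht1)
  have h1 := X.basicOpen_of_isUnit hu
  have h2 := X.basicOpen_res t0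
    (homOfLE (inf_le_left : chartLocus b I a ⊓ chartLocus b I y ≤ chartLocus b I a)).op
  have h3 : chartLocus b I a ⊓ chartLocus b I y =
      (chartLocus b I a ⊓ chartLocus b I y) ⊓ X.basicOpen t0 := h1.symm.trans h2
  rw [h3]
  exact inf_le_right

include hb ha ht0 in
theorem basicOpen_le_chartLocus : X.basicOpen t0 ≤ chartLocus b I y := by
  intro x hx
  have hU0 := Groth.Agent.Lib.Seat70.BlowUpTwoCharts.isAffineOpen_chartLocus hb a ha
  have hle : X.basicOpen t0 ≤ chartLocus b I a := X.basicOpen_le t0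
  have hnz := resψ_mem_nonZeroDivisors_of_le (b := b) (I := I) a (X.basicOpen t0) hle
  have hmap : Ideal.map (resψ (ψg b) (X.basicOpen t0)) I =
      Ideal.span {resψ (ψg b) (X.basicOpen t0) a} := by
    apply le_antisymm
    · rw [Ideal.map_le_iff_le_comap]
      intro z hz
      obtain ⟨t, ht⟩ := exists_section_mul_eq (ψ := ψg b) (I := I) (a := a) (V := X.basicOpen t0)
        (fun w hw => hle hw) z hz
      rw [Ideal.mem_comap, Ideal.mem_span_singleton']
      exact ⟨t, ht⟩
    · rw [Ideal.span_le, Set.singleton_subset_iff]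
      exact Ideal.mem_map_of_mem _ ha
  have hu : IsUnit (rfh hle t0) := RingedSpace.isUnit_res_basicOpen _ t0
  have hyW : resψ (ψg b) (X.basicOpen t0) y = rfh hle t0 * resψ (ψg b) (X.basicOpen t0) a := by
    have := congrArg (rfh hle) ht0
    rw [map_mul, rfh_resψ, rfh_resψ] at this
    exact this.symm
  have hspan : Ideal.span {resψ (ψg b) (X.basicOpen t0) y} =
      Ideal.span {resψ (ψg b) (X.basicOpen t0) a} := by
    rw [hyW]
    exact Ideal.span_singleton_mul_left_unit hu _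
  exact ⟨X.basicOpen t0, hU0.basicOpen t0, hx, mem_nonZeroDivisors_of_span_eq hnz hspan,
    hmap.trans hspan.symm⟩

include hb ha ht0 ht1 in
/-- sections over the intersection are of the form `f · (a/y)^n` -/
theorem exists_eq_mul_pow (z : Γ(X, chartLocus b I a ⊓ chartLocus b I y)) :
    ∃ (f : Γ(X, chartLocus b I a)) (n : ℕ),
      z = rfh inf_le_left f * rfh inf_le_right t1 ^ n := by
  have hU0 := Groth.Agent.Lib.Seat70.BlowUpTwoCharts.isAffineOpen_chartLocus hb a ha
  have hle1 : chartLocus b I a ⊓ chartLocus b I y ≤ X.basicOpen t0 :=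
    inf_le_basicOpen a y t0 ht0 t1 ht1
  have hle2 : X.basicOpen t0 ≤ chartLocus b I a ⊓ chartLocus b I y :=
    le_inf (X.basicOpen_le t0) (basicOpen_le_chartLocus hb a y ha t0 ht0)
  have inst := hU0.isLocalization_basicOpen t0
  obtain ⟨⟨f, ⟨_, n, rfl⟩⟩, hfn⟩ := IsLocalization.surj (Submonoid.powers t0) (rfh hle2 z)
  have hfn' : rfh hle2 z * rfh (X.basicOpen_le t0) (t0 ^ n) = rfh (X.basicOpen_le t0) f := hfn
  have h1 := congrArg (rfh hle1) hfn'
  rw [map_mul, rfh_rfh, rfh_rfh, rfh_rfh, rfh_self, map_pow] at h1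
  refine ⟨f, n, ?_⟩
  have hone := mul_eq_one a y t0 ht0 t1 ht1
  calc z = z * (rfh inf_le_left t0 * rfh inf_le_right t1) ^ n := by rw [hone, one_pow, mul_one]
    _ = (z * rfh inf_le_left t0 ^ n) * rfh inf_le_right t1 ^ n := by ring
    _ = _ := by rw [h1]

include hb ha ht0 ht1 in
theorem inf_eq_basicOpen : chartLocus b I a ⊓ chartLocus b I y = X.basicOpen t0 :=
  le_antisymm (inf_le_basicOpen a y t0 ht0 t1 ht1)
    (le_inf (X.basicOpen_le t0) (basicOpen_le_chartLocus hb a y ha t0 ht0))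

include hb ha ht0 ht1 in
/-- functions on the intersection of the two charts are sums of functions on the charts -/
theorem exists_add (hI : I = Ideal.span {a, y})
    (z : Γ(X, chartLocus b I a ⊓ chartLocus b I y)) :
    ∃ (g : Γ(X, chartLocus b I a)) (h : Γ(X, chartLocus b I y)),
      z = rfh inf_le_left g + rfh inf_le_right h := by
  obtain ⟨f, n, rfl⟩ := exists_eq_mul_pow hb a y ha t0 ht0 t1 ht1 z
  obtain ⟨p, rfl⟩ := exists_eval₂_eq hb a y ha hI t0 ht0 f
  exact exists_add_of_laurent (resψ (ψg b) (chartLocus b I a)) (resψ (ψg b) (chartLocus b I y))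
    (rfh inf_le_left) (rfh inf_le_right) (fun c => by rw [rfh_resψ, rfh_resψ]) t0 t1
    (mul_eq_one a y t0 ht0 t1 ht1) p n

end TwoGen

end Chart

section Cech

open Groth.Agent.Lib.Seat70.GGSpan Groth.Agent.Lib.Helper23.AffVanish

variable {X : Scheme.{u}}

/-- Čech surjectivity for a module generated by global sections over `U0 ⊓ U1`, when functions on
`U0 ⊓ U1` are sums of functions on `U0` and `U1`. -/
theorem exists_sub_of_mem_gs (F : X.Modules) (U0 U1 : X.Opens)
    (hadd : ∀ z : Γ(X, U0 ⊓ U1), ∃ (g : Γ(X, U0)) (h : Γ(X, U1)),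
      z = (X.presheaf.map (homOfLE (inf_le_left : U0 ⊓ U1 ≤ U0)).op).hom g +
        (X.presheaf.map (homOfLE (inf_le_right : U0 ⊓ U1 ≤ U1)).op).hom h)
    (s : Γ(F, U0 ⊓ U1)) (hs : s ∈ gs F (U0 ⊓ U1)) :
    ∃ (s0 : Γ(F, U0)) (s1 : Γ(F, U1)), s = rs F inf_le_left s0 - rs F inf_le_right s1 := by
  suffices H : ∀ r : Γ(X, U0 ⊓ U1), ∃ (s0 : Γ(F, U0)) (s1 : Γ(F, U1)),
      r • s = rs F inf_le_left s0 - rs F inf_le_right s1 by
    obtain ⟨s0, s1, h⟩ := H 1
    exact ⟨s0, s1, by rw [← h, one_smul]⟩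
  induction hs using Submodule.span_induction with
  | mem x hx =>
    obtain ⟨σ, rfl⟩ := hx
    intro r
    obtain ⟨g, h, rfl⟩ := hadd r
    refine ⟨g • rs F le_top σ, (-h) • rs F le_top σ, ?_⟩
    rw [rs_smul, rs_smul, rs_rs, rs_rs, add_smul, sub_eq_add_neg, ← neg_smul]
    congr 2
    show _ = -((X.presheaf.map (homOfLE (inf_le_right : U0 ⊓ U1 ≤ U1)).op).hom (-h))
    rw [map_neg, neg_neg]
  | zero =>
    intro r
    exact ⟨0, 0, by rw [smul_zero, rs_zero, rs_zero, sub_zero]⟩
  | add x y _ _ hx hy =>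
    intro r
    obtain ⟨s0, s1, h1⟩ := hx r
    obtain ⟨s0', s1', h2⟩ := hy r
    exact ⟨s0 + s0', s1 + s1', by rw [smul_add, h1, h2, rs_add, rs_add]; abel⟩
  | smul r' x _ hx =>
    intro r
    obtain ⟨s0, s1, h1⟩ := hx (r * r')
    exact ⟨s0, s1, by rw [smul_smul, h1]⟩

/-- `H¹` of a quasi-coherent module vanishes on a scheme covered by two affine opens for which the
Čech differential is surjective. -/
theorem subsingleton_HH_one (F : X.Modules) [F.IsQuasicoherent] (U0 U1 : X.Opens)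
    (hU0 : IsAffineOpen U0) (hU1 : IsAffineOpen U1) (hcov : U0 ⊔ U1 = ⊤)
    (hsurj : ∀ s : Γ(F, U0 ⊓ U1), ∃ (s0 : Γ(F, U0)) (s1 : Γ(F, U1)),
      s = rs F inf_le_left s0 - rs F inf_le_right s1) :
    Subsingleton (Coh.HH X F 1) := by
  haveI h1 : Subsingleton (HE (ab' F) (0 + 1) U0) := subsingleton_HE_of_isAffineOpen hU0 F 0
  haveI h2 : Subsingleton (HE (ab' F) (0 + 1) U1) := subsingleton_HE_of_isAffineOpen hU1 F 0
  have key : ∀ α : HE (ab' F) (0 + 1) ⊤, α = 0 := by
    intro α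
    refine eq_zero_of_mv (ab' F) 0 U0 U1 ⊤ le_top le_top (by rw [hcov]) α
      (Subsingleton.elim _ _) (Subsingleton.elim _ _) (fun γ => ?_)
    obtain ⟨s0, s1, hs⟩ := hsurj (h0F' F _ γ)
    refine ⟨(h0F' F U0).symm s0, (h0F' F U1).symm s1, ?_⟩
    apply (h0F' F _).injective
    rw [map_sub, h0F'_res, h0F'_res, AddEquiv.apply_symm_apply, AddEquiv.apply_symm_apply]
    exact hs
  have hsub : Subsingleton (HE (ab' F) 1 ⊤) := ⟨fun a b => (key a).trans (key b).symm⟩
  exact (HETopEquivH X.carrier (ab' F) 1).symm.subsingleton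

end Cech

section Main

open Groth.Agent.Lib.Seat64.AffBlowUp Groth.Agent.Lib.Seat82.BlowUpAlg
  Groth.Agent.Lib.Seat82.BlowUpChart Groth.Agent.Lib.Seat82.BlowUpCover
  Groth.Agent.Lib.Seat70.GGSpan

variable {A : Type u} [CommRing A] {X : Scheme.{u}} {b : X ⟶ Spec (CommRingCat.of A)} {I : Ideal A}
  (hb : BlowUp.IsBlowUp b (Curv2.idealSheaf A I))

include hb in
/-- On a blow-up of `Spec A` in an ideal generated by two elements, `H¹` of a globally generated
quasi-coherent module vanishes. -/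
theorem subsingleton_HH_one_of_isGloballyGenerated (a y : A) (hI : I = Ideal.span {a, y})
    (F : X.Modules) [F.IsQuasicoherent] (hgg : Curv2.IsGloballyGenerated F) :
    Subsingleton (Coh.HH X F 1) := by
  have ha : a ∈ I := hI ▸ Ideal.subset_span (Set.mem_insert a {y})
  have hy : y ∈ I := hI ▸ Ideal.subset_span (Set.mem_insert_of_mem a rfl)
  have hU0 := Groth.Agent.Lib.Seat70.BlowUpTwoCharts.isAffineOpen_chartLocus hb a ha
  have hU1 := Groth.Agent.Lib.Seat70.BlowUpTwoCharts.isAffineOpen_chartLocus hb y hy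
  obtain ⟨t0, ht0⟩ := exists_section_mul_eq (ψ := ψg b) (I := I) (a := a) (V := chartLocus b I a)
    (fun _ h => h) y hy
  obtain ⟨t1, ht1⟩ := exists_section_mul_eq (ψ := ψg b) (I := I) (a := y) (V := chartLocus b I y)
    (fun _ h => h) a ha
  have hU01 : IsAffineOpen (chartLocus b I a ⊓ chartLocus b I y) := by
    rw [inf_eq_basicOpen hb a y ha t0 ht0 t1 ht1]
    exact hU0.basicOpen t0
  have hcov : chartLocus b I a ⊔ chartLocus b I y = ⊤ := by
    rw [eq_top_iff]
    intro x _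
    obtain ⟨c, hc, hx⟩ :=
      Groth.Agent.Lib.Seat70.BlowUpTwoCharts.exists_mem_chartLocus_of_span hb {a, y} hI.symm x
    rcases hc with rfl | hc
    · exact Or.inl hx
    · rw [Set.mem_singleton_iff] at hc
      subst hc
      exact Or.inr hx
  refine subsingleton_HH_one F _ _ hU0 hU1 hcov (fun s => ?_)
  exact exists_sub_of_mem_gs F _ _ (exists_add hb a y ha t0 ht0 t1 ht1 hI) s
    (mem_gs_of_isAffineOpen hgg hU01 s)

end Main

end Groth.Agent.Lib.Seat70.BlowUpCech
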