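import Mathlib
import Groth.Prelude.Def_BlowUp2
import Groth.Agent.Lib.Seat82BlowUpAlg
import Groth.Agent.Lib.Helper5RLR
import Groth.Agent.Lib.Helper28RegLoc
import Groth.Agent.Lib.Helper28RegEtale
import Groth.Agent.S0615

/-!
# The affine blow-up algebras of a two-dimensional regular local ring are regular (helper70)

`A` regular local of dimension two with maximal ideal `m`, `a ∈ m`, `B = A[m/a]`.  Every localization of
`B` at a prime is a regular local ring:
* away from `a` it is a localization of `A` (Serre);
* if `a ∈ m²` then `a` is a unit of `B`;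
* if `a ∉ m²` then `m = (a, y)`, `B = A[T]/(aT - y)` and `B/(a) = (A/m)[T]` is regular.
-/

set_option autoImplicit false
universe u
open nonZeroDivisors IsLocalRing

namespace Groth.Agent.Lib.Seat70.BlowUpReg

open Groth.Agent.Lib.Seat82.BlowUpAlg

section Away

variable (A : Type u) [CommRing A] (I : Ideal A) (a : A)

/-- every element of `A[I/a]` becomes an element of `A` after multiplication by a power of `a`. -/
theorem exists_mul_pow_eq (z : BlowUp.affineAlgebra A I a) :
    ∃ (n : ℕ) (α : A), z * algebraMap A (BlowUp.affineAlgebra A I a) a ^ n =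
      algebraMap A (BlowUp.affineAlgebra A I a) α := by
  obtain ⟨⟨α, s⟩, hs⟩ := IsLocalization.surj (Submonoid.powers a) (z : Localization.Away a)
  obtain ⟨n, hn⟩ := s.2
  have hn' : a ^ n = (s : A) := hn
  refine ⟨n, α, Subtype.ext ?_⟩
  show (z : Localization.Away a) * (algebraMap A (Localization.Away a) a) ^ n =
    algebraMap A (Localization.Away a) α
  rw [← map_pow, hn']
  exact hs

/-- if `a ∈ I * I` then `a` is a unit of `A[I/a]`. -/
theorem isUnit_algebraMap_of_mem_mul (ha : a ∈ I * I) :
    IsUnit (algebraMap A (BlowUp.affineAlgebra A I a) a) := by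
  have key : ∀ z ∈ I * I, ∃ c : BlowUp.affineAlgebra A I a,
      c * algebraMap A (BlowUp.affineAlgebra A I a) a ^ 2 =
        algebraMap A (BlowUp.affineAlgebra A I a) z := by
    intro z hz
    refine Submodule.mul_induction_on hz ?_ ?_
    · intro u hu v hv
      refine ⟨frac I a u hu * frac I a v hv, ?_⟩
      rw [map_mul, ← frac_mul I a u hu, ← frac_mul I a v hv]
      ring
    · rintro x y ⟨c, hc⟩ ⟨d, hd⟩
      exact ⟨c + d, by rw [add_mul, hc, hd, map_add]⟩
  obtain ⟨c, hc⟩ := key a ha
  have h0 : (c * algebraMap A (BlowUp.affineAlgebra A I a) a - 1) *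
      algebraMap A (BlowUp.affineAlgebra A I a) a = 0 := by
    rw [sub_mul, one_mul, mul_assoc, ← pow_two, hc, sub_self]
  have h1 := (mem_nonZeroDivisors_iff_right.mp (algebraMap_mem_nonZeroDivisors I a)) _ h0
  exact IsUnit.of_mul_eq_one _ (by rw [mul_comm]; exact sub_eq_zero.mp h1)

end Away

section Serre

variable (A : Type u) [CommRing A] [IsRegularLocalRing A] (I : Ideal A) (a : A)

/-- Away from `a`, the local rings of `A[I/a]` are local rings of `A`, hence regular. -/
theorem isRegularLocalRing_atPrime_of_notMem
    (q : Ideal (BlowUp.affineAlgebra A I a)) [q.IsPrime]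
    (haq : algebraMap A (BlowUp.affineAlgebra A I a) a ∉ q) :
    IsRegularLocalRing (Localization.AtPrime q) := by
  have hdom : IsDomain A := Groth.Agent.Lib.Helper5.isDomain_of_isRegularLocalRing A
  have ha0 : a ≠ 0 := by
    rintro rfl
    exact haq (by rw [map_zero]; exact q.zero_mem)
  have hle : Submonoid.powers a ≤ A⁰ :=
    Submonoid.powers_le.mpr (mem_nonZeroDivisors_of_ne_zero ha0)
  have hLdom : IsDomain (Localization.Away a) :=
    IsLocalization.isDomain_localization hle
  have hinjL : Function.Injective (algebraMap A (Localization.Away a)) :=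
    IsLocalization.injective _ hle
  have hinjB : Function.Injective (algebraMap A (BlowUp.affineAlgebra A I a)) := by
    intro x y hxy
    exact hinjL (congrArg Subtype.val hxy)
  let p : Ideal A := q.comap (algebraMap A (BlowUp.affineAlgebra A I a))
  have hp : p.IsPrime := Ideal.comap_isPrime _ _
  have hinjS : Function.Injective
      (algebraMap (BlowUp.affineAlgebra A I a) (Localization.AtPrime q)) :=
    IsLocalization.injective (Localization.AtPrime q) q.primeCompl_le_nonZeroDivisors
  have hloc : IsLocalization.AtPrime (Localization.AtPrime q) p := by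
    refine ⟨?_, ?_, ?_⟩
    · rintro ⟨s, hs⟩
      rw [IsScalarTower.algebraMap_apply A (BlowUp.affineAlgebra A I a)]
      exact IsLocalization.map_units (M := q.primeCompl) _ ⟨algebraMap A _ s, hs⟩
    · intro z
      obtain ⟨⟨b, t⟩, hbt⟩ := IsLocalization.surj q.primeCompl z
      obtain ⟨n, α, hα⟩ := exists_mul_pow_eq A I a b
      obtain ⟨m, β, hβ⟩ := exists_mul_pow_eq A I a (t : BlowUp.affineAlgebra A I a)
      have hβq : algebraMap A (BlowUp.affineAlgebra A I a) β ∉ q := by
        rw [← hβ]
        intro hmem
        rcases (Ideal.IsPrime.mem_or_mem inferInstance hmem) with h | h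
        · exact t.2 h
        · exact haq (Ideal.IsPrime.mem_of_pow_mem inferInstance _ h)
      have hanq : algebraMap A (BlowUp.affineAlgebra A I a) (a ^ n) ∉ q := by
        rw [map_pow]
        intro h
        exact haq (Ideal.IsPrime.mem_of_pow_mem inferInstance _ h)
      refine ⟨(α * a ^ m, ⟨β * a ^ n, ?_⟩), ?_⟩
      · show β * a ^ n ∉ p
        intro hmem
        have : algebraMap A (BlowUp.affineAlgebra A I a) β *
            algebraMap A (BlowUp.affineAlgebra A I a) (a ^ n) ∈ q := by
          rw [← map_mul]; exact hmem
        rcases (Ideal.IsPrime.mem_or_mem inferInstance this) with h | h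
        · exact hβq h
        · exact hanq h
      · show z * algebraMap A (Localization.AtPrime q) (β * a ^ n) =
          algebraMap A (Localization.AtPrime q) (α * a ^ m)
        have hbt' : z * algebraMap (BlowUp.affineAlgebra A I a) (Localization.AtPrime q)
            (t : BlowUp.affineAlgebra A I a) =
            algebraMap (BlowUp.affineAlgebra A I a) (Localization.AtPrime q) b := hbt
        have e1 : algebraMap A (BlowUp.affineAlgebra A I a) (β * a ^ n) =
            (t : BlowUp.affineAlgebra A I a) * algebraMap A _ a ^ m * algebraMap A _ a ^ n := by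
          rw [map_mul, map_pow, hβ]
        have e2 : algebraMap A (BlowUp.affineAlgebra A I a) (α * a ^ m) =
            b * algebraMap A _ a ^ n * algebraMap A _ a ^ m := by
          rw [map_mul, map_pow, hα]
        rw [IsScalarTower.algebraMap_apply A (BlowUp.affineAlgebra A I a) (Localization.AtPrime q),
          IsScalarTower.algebraMap_apply A (BlowUp.affineAlgebra A I a) (Localization.AtPrime q)
            (α * a ^ m), e1, e2, map_mul, map_mul, map_mul, map_mul, ← hbt']
        ring
    · intro x y hxy
      rw [IsScalarTower.algebraMap_apply A (BlowUp.affineAlgebra A I a),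
        IsScalarTower.algebraMap_apply A (BlowUp.affineAlgebra A I a) _ y] at hxy
      have : x = y := hinjB (hinjS hxy)
      exact ⟨1, by rw [this]⟩
  have hreg : IsRegularLocalRing (Localization.AtPrime p) :=
    Groth.Agent.Lib.Helper28.isRegularLocalRing_localization_of_isRegularLocalRing A p
  exact IsRegularLocalRing.of_ringEquiv
    (IsLocalization.algEquiv p.primeCompl (Localization.AtPrime p)
      (Localization.AtPrime q)).toRingEquiv

end Serre


section Pair

variable (A : Type u) [CommRing A] [IsRegularLocalRing A]

/-- An element of `m \ m²` of a two-dimensional regular local ring is part of a regular system of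
parameters. -/
theorem exists_regular_pair (hA : ringKrullDim A = 2) (a : A) (ham : a ∈ maximalIdeal A)
    (ha2 : a ∉ maximalIdeal A ^ 2) :
    ∃ y : A, y ∈ maximalIdeal A ∧ Ideal.span {a, y} = maximalIdeal A ∧
      RingTheory.Sequence.IsWeaklyRegular A (List.ofFn ![a, y]) := by
  have hdom : IsDomain A := Groth.Agent.Lib.Helper5.isDomain_of_isRegularLocalRing A
  let y0 : Fin 1 → maximalIdeal A := fun _ => ⟨a, ham⟩
  have hli : LinearIndependent (ResidueField A)
      (fun i => (maximalIdeal A).toCotangent (y0 i)) := by
    rw [linearIndependent_unique_iff]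
    show (maximalIdeal A).toCotangent ⟨a, ham⟩ ≠ 0
    rw [Ne, Ideal.toCotangent_eq_zero]
    exact ha2
  obtain ⟨s, z, hs, hsup⟩ := Groth.Agent.Lib.Helper5.exists_extension_span_eq_maximalIdeal y0 hli
  have hA' : ringKrullDim A = ((2 : ℕ) : WithBot ℕ∞) := by rw [hA]; rfl
  have hspan : (maximalIdeal A).spanFinrank = 2 := by
    have h := IsRegularLocalRing.spanFinrank_maximalIdeal (R := A)
    rw [hA'] at h
    exact_mod_cast h
  have hs1 : s = 1 := by omega
  subst hs1
  have hr1 : (Set.range fun i : Fin 1 => ((z i : maximalIdeal A) : A)) = {((z 0 : maximalIdeal A) : A)} := by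
    ext t
    simp only [Set.mem_range, Set.mem_singleton_iff]
    constructor
    · rintro ⟨i, rfl⟩
      rw [Subsingleton.elim i 0]
    · rintro rfl
      exact ⟨0, rfl⟩
  have hr2 : (Set.range fun i : Fin 1 => ((y0 i : maximalIdeal A) : A)) = {a} := by
    ext t
    simp only [Set.mem_range, Set.mem_singleton_iff]
    constructor
    · rintro ⟨i, rfl⟩
      rfl
    · rintro rfl
      exact ⟨0, rfl⟩
  have hpair : Ideal.span {a, ((z 0 : maximalIdeal A) : A)} = maximalIdeal A := by
    rw [hr1, hr2, ← Ideal.span_union, Set.union_comm] at hsup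
    exact hsup
  refine ⟨(z 0 : A), (z 0).2, hpair, ?_⟩
  have hrange : Set.range ![a, ((z 0 : maximalIdeal A) : A)] = {a, ((z 0 : maximalIdeal A) : A)} := by
    ext t
    simp only [Set.mem_range, Set.mem_insert_iff, Set.mem_singleton_iff, Fin.exists_fin_two]
    constructor
    · rintro (h | h)
      · exact Or.inl h.symm
      · exact Or.inr h.symm
    · rintro (h | h)
      · exact Or.inl h.symm
      · exact Or.inr h.symm
  exact (Groth.Agent.Lib.Helper5.isRegular_ofFn_of_span_eq_maximalIdeal hA'
    ![a, ((z 0 : maximalIdeal A) : A)] (by rw [hrange, hpair])).toIsWeaklyRegular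

end Pair


section Quot

variable (A : Type u) [CommRing A] [IsLocalRing A] (a y : A)

/-- If `m = (a, y)` with `a, y` a regular sequence, then `A[m/a]/(a)` is a polynomial ring over the
residue field; in particular it is a regular ring and `A[m/a]` is Noetherian. -/
theorem isRegularRing_quotient_of_pair [IsNoetherianRing A]
    (hpair : Ideal.span {a, y} = maximalIdeal A)
    (hreg : RingTheory.Sequence.IsWeaklyRegular A (List.ofFn ![a, y])) :
    IsNoetherianRing (BlowUp.affineAlgebra A (maximalIdeal A) a) ∧
    IsRegularRing (BlowUp.affineAlgebra A (maximalIdeal A) a ⧸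
      Ideal.span {algebraMap A (BlowUp.affineAlgebra A (maximalIdeal A) a) a}) := by
  have hy : y ∈ maximalIdeal A := hpair ▸ Ideal.subset_span (by simp)
  have ham : a ∈ maximalIdeal A := hpair ▸ Ideal.subset_span (by simp)
  -- the presentation
  let ψ : MvPolynomial (Fin 1) A →ₐ[A] BlowUp.affineAlgebra A (maximalIdeal A) a :=
    MvPolynomial.aeval (fun _ => frac (maximalIdeal A) a y hy)
  have hψker : RingHom.ker ψ.toRingHom =
      Ideal.span {MvPolynomial.C a * MvPolynomial.X 0 - MvPolynomial.C y} := by
    let φ : MvPolynomial (Fin 1) A →ₐ[A] Localization.Away a :=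
      MvPolynomial.aeval (R := A) (S₁ := Localization.Away a)
        (fun i : Fin 1 => IsLocalization.mk' (Localization.Away a) (![a, y] i.succ)
          (⟨a, Submonoid.mem_powers a⟩ : Submonoid.powers a))
    have h0 : RingHom.ker φ = Ideal.span (Set.range fun i : Fin 1 =>
        MvPolynomial.C a * MvPolynomial.X i - MvPolynomial.C (![a, y] i.succ)) :=
      Groth.Agent.S0615.result (A := A) (n := 1) ![a, y] hreg
    have hcomp : ∀ f, ((ψ f : BlowUp.affineAlgebra A (maximalIdeal A) a) : Localization.Away a) =
        φ f := by
      intro f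
      have : ((BlowUp.affineAlgebra A (maximalIdeal A) a).val.comp ψ) = φ := by
        apply MvPolynomial.algHom_ext
        intro i
        rw [AlgHom.comp_apply]
        show (BlowUp.affineAlgebra A (maximalIdeal A) a).val
          (MvPolynomial.aeval (fun _ => frac (maximalIdeal A) a y hy) (MvPolynomial.X i)) =
          MvPolynomial.aeval _ (MvPolynomial.X i)
        rw [MvPolynomial.aeval_X, MvPolynomial.aeval_X, Subsingleton.elim i 0]
        rfl
      exact congrArg (fun g => g f) this
    have hk : RingHom.ker ψ.toRingHom = RingHom.ker φ := by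
      ext f
      rw [RingHom.mem_ker, RingHom.mem_ker]
      constructor
      · intro h
        have h' : ψ f = 0 := h
        rw [← hcomp, h']; rfl
      · intro h
        have h' : φ f = 0 := h
        rw [← hcomp] at h'
        exact Subtype.ext h'
    rw [hk, h0]
    congr 1
    ext t
    simp only [Set.mem_range, Set.mem_singleton_iff]
    constructor
    · rintro ⟨i, rfl⟩
      rw [Subsingleton.elim i 0]
      rfl
    · rintro rfl
      exact ⟨0, rfl⟩
  have hψsurj : Function.Surjective ψ.toRingHom := by
    intro b
    have : b ∈ ψ.range := by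
      induction b using induction_on (maximalIdeal A) a with
      | hfrac u hu =>
        rw [← hpair, Ideal.mem_span_pair] at hu
        obtain ⟨r, s, hrs⟩ := hu
        refine ⟨MvPolynomial.C r + MvPolynomial.C s * MvPolynomial.X 0, ?_⟩
        have hnz := algebraMap_mem_nonZeroDivisors (maximalIdeal A) a
        apply (mul_cancel_right_mem_nonZeroDivisors hnz).mp
        rw [frac_mul]
        show ψ (MvPolynomial.C r + MvPolynomial.C s * MvPolynomial.X 0) * _ = _
        rw [map_add, map_mul, MvPolynomial.aeval_C, MvPolynomial.aeval_C, MvPolynomial.aeval_X,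
          add_mul, mul_assoc, frac_mul, ← map_mul, ← map_mul, ← map_add, hrs]
      | halg r => exact ⟨MvPolynomial.C r, MvPolynomial.aeval_C _ r⟩
      | hadd x z hx hz => exact Subalgebra.add_mem _ hx hz
      | hmul x z hx hz => exact Subalgebra.mul_mem _ hx hz
    exact this
  have hN : IsNoetherianRing (BlowUp.affineAlgebra A (maximalIdeal A) a) :=
    isNoetherianRing_of_surjective _ _ ψ.toRingHom hψsurj
  refine ⟨hN, ?_⟩
  -- the quotient
  let θ : MvPolynomial (Fin 1) A →+* (BlowUp.affineAlgebra A (maximalIdeal A) a ⧸
      Ideal.span {algebraMap A (BlowUp.affineAlgebra A (maximalIdeal A) a) a}) :=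
    (Ideal.Quotient.mk _).comp ψ.toRingHom
  have hθsurj : Function.Surjective θ :=
    Ideal.Quotient.mk_surjective.comp hψsurj
  have hθker : RingHom.ker θ = Ideal.map MvPolynomial.C (maximalIdeal A) := by
    have h1 : RingHom.ker θ = Ideal.comap ψ.toRingHom
        (Ideal.span {algebraMap A (BlowUp.affineAlgebra A (maximalIdeal A) a) a}) := by
      rw [RingHom.ker_eq_comap_bot, ← Ideal.comap_comap, ← RingHom.ker_eq_comap_bot, Ideal.mk_ker]
    have h2 : Ideal.span {algebraMap A (BlowUp.affineAlgebra A (maximalIdeal A) a) a} =
        Ideal.map ψ.toRingHom (Ideal.span {MvPolynomial.C a}) := by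
      rw [Ideal.map_span, Set.image_singleton]
      congr 2
      exact (MvPolynomial.aeval_C _ a).symm
    rw [h1, h2, Ideal.comap_map_of_surjective ψ.toRingHom hψsurj, ← RingHom.ker_eq_comap_bot, hψker,
      ← hpair, Ideal.map_span, Set.image_pair]
    apply le_antisymm
    · rw [sup_le_iff, Ideal.span_le, Ideal.span_le, Set.singleton_subset_iff,
        Set.singleton_subset_iff]
      refine ⟨Ideal.subset_span (by simp), ?_⟩
      refine Ideal.sub_mem _ (Ideal.mul_mem_right _ _ (Ideal.subset_span (by simp)))
        (Ideal.subset_span (by simp))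
    · rw [Ideal.span_le]
      rintro t (rfl | rfl)
      · exact Ideal.mem_sup_left (Ideal.subset_span rfl)
      · have hm1 : (MvPolynomial.C a * MvPolynomial.X 0 : MvPolynomial (Fin 1) A) ∈
            Ideal.span {(MvPolynomial.C a : MvPolynomial (Fin 1) A)} ⊔
              Ideal.span {MvPolynomial.C a * MvPolynomial.X 0 - MvPolynomial.C y} :=
          Ideal.mem_sup_left (Ideal.mul_mem_right _ _ (Ideal.subset_span rfl))
        have hm2 : (MvPolynomial.C a * MvPolynomial.X 0 - MvPolynomial.C y :
            MvPolynomial (Fin 1) A) ∈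
            Ideal.span {(MvPolynomial.C a : MvPolynomial (Fin 1) A)} ⊔
              Ideal.span {MvPolynomial.C a * MvPolynomial.X 0 - MvPolynomial.C y} :=
          Ideal.mem_sup_right (Ideal.subset_span rfl)
        have hm3 := Ideal.sub_mem _ hm1 hm2
        rwa [sub_sub_cancel] at hm3
  let _ : Field (A ⧸ maximalIdeal A) := Ideal.Quotient.field (maximalIdeal A)
  have hR0 : IsRegularRing (MvPolynomial (Fin 1) (A ⧸ maximalIdeal A)) := inferInstance
  have hR1 : IsRegularRing (MvPolynomial (Fin 1) A ⧸ Ideal.map MvPolynomial.C (maximalIdeal A)) :=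
    IsRegularRing.of_ringEquiv
      (MvPolynomial.quotientEquivQuotientMvPolynomial (σ := Fin 1) (maximalIdeal A)).toRingEquiv
  have hR2 : IsRegularRing (MvPolynomial (Fin 1) A ⧸ RingHom.ker θ) :=
    IsRegularRing.of_ringEquiv (Ideal.quotEquivOfEq hθker.symm)
  exact IsRegularRing.of_ringEquiv (RingHom.quotientKerEquivOfSurjective hθsurj)

end Quot

section Main

variable (A : Type u) [CommRing A] [IsRegularLocalRing A]

/-- All local rings of the affine blow-up algebra `A[m/a]` of a two-dimensional regular local ring
are regular. -/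
theorem isRegularLocalRing_atPrime_affineAlgebra (hA : ringKrullDim A = 2) (a : A)
    (ham : a ∈ maximalIdeal A)
    (q : Ideal (BlowUp.affineAlgebra A (maximalIdeal A) a)) [q.IsPrime] :
    IsRegularLocalRing (Localization.AtPrime q) := by
  by_cases haq : algebraMap A (BlowUp.affineAlgebra A (maximalIdeal A) a) a ∈ q
  · have ha2 : a ∉ maximalIdeal A ^ 2 := by
      intro h
      rw [pow_two] at h
      have hu := isUnit_algebraMap_of_mem_mul A (maximalIdeal A) a h
      exact (Ideal.IsPrime.ne_top inferInstance) (Ideal.eq_top_of_isUnit_mem _ haq hu)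
    obtain ⟨y, hy, hpair, hreg⟩ := exists_regular_pair A hA a ham ha2
    obtain ⟨hN, hR⟩ := isRegularRing_quotient_of_pair A a y hpair hreg
    exact Groth.Agent.Lib.Helper28.isRegularLocalRing_localization_of_quotient_span_singleton
      (algebraMap A (BlowUp.affineAlgebra A (maximalIdeal A) a) a)
      (algebraMap_mem_nonZeroDivisors (maximalIdeal A) a) hR q haq
  · exact isRegularLocalRing_atPrime_of_notMem A (maximalIdeal A) a q haq

end Main

end Groth.Agent.Lib.Seat70.BlowUpReg
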