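import Mathlib
import Groth.Agent.Lib.LeadCSASplits

/-!
# Brauer groups over separable algebraic extensions (helper70)

* `exists_descent_finite`: a finite-dimensional algebra over an algebraic extension `F'/K` is the
  base change of an algebra over a finite subextension (spreading out via structure constants).
* `splits_of_trivial_brauer_compositum`: if all finite separable extensions of `F` have trivial
  Brauer group, then a central simple algebra over a finite separable `E/K` is split by every field
  containing `E` and `F`.
-/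

set_option autoImplicit false
universe u

namespace Groth.Agent.Lib.Seat70.BrSepExt

open TensorProduct Module IntermediateField Groth.Agent.Lib


/-- a finite-dimensional algebra over an algebraic extension `F'` of `K` is defined over a
finite subextension -/
theorem exists_descent_finite (K : Type u) [Field K] (F' : Type u) [Field F'] [Algebra K F']
    [Algebra.IsAlgebraic K F'] (D : Type u) [Ring D] [Algebra F' D] [FiniteDimensional F' D] :
    ∃ (E : IntermediateField K F') (_ : FiniteDimensional K E) (D₀ : Subalgebra E D),
      FiniteDimensional E D₀ ∧ Nonempty ((F' ⊗[E] D₀) ≃ₐ[F'] D) := by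
  classical
  set N := finrank F' D with hN
  let b : Basis (Fin N) F' D := Module.finBasis F' D
  let S : Set F' := (Set.range fun p : Fin N × Fin N × Fin N => b.repr (b p.1 * b p.2.1) p.2.2) ∪
    (Set.range fun l : Fin N => b.repr 1 l)
  have hSfin : S.Finite := (Set.finite_range _).union (Set.finite_range _)
  let E : IntermediateField K F' := IntermediateField.adjoin K S
  have hEfin : FiniteDimensional K E :=
    IntermediateField.finiteDimensional_adjoin (fun x _ => Algebra.IsIntegral.isIntegral x)
  have hc : ∀ i j l, b.repr (b i * b j) l ∈ E := fun i j l =>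
    IntermediateField.subset_adjoin K S (Or.inl ⟨(i, j, l), rfl⟩)
  have hu : ∀ l, b.repr 1 l ∈ E := fun l =>
    IntermediateField.subset_adjoin K S (Or.inr ⟨l, rfl⟩)
  let P : Submodule E D := Submodule.span E (Set.range b)
  have hmemP : ∀ (c : Fin N → F'), (∀ l, c l ∈ E) → (∑ l, c l • b l) ∈ P := by
    intro c hcE
    refine Submodule.sum_mem _ (fun l _ => ?_)
    have : c l • b l = (⟨c l, hcE l⟩ : E) • b l := rfl
    rw [this]
    exact Submodule.smul_mem _ _ (Submodule.subset_span ⟨l, rfl⟩)
  have hone : (1 : D) ∈ P := by
    rw [← b.sum_repr 1]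
    exact hmemP _ hu
  have hmul : ∀ x y, x ∈ P → y ∈ P → x * y ∈ P := by
    intro x y hx hy
    induction hx, hy using Submodule.span_induction₂ with
    | mem_mem x y hx hy =>
      obtain ⟨i, rfl⟩ := hx
      obtain ⟨j, rfl⟩ := hy
      rw [← b.sum_repr (b i * b j)]
      exact hmemP _ (hc i j)
    | zero_left y _ => rw [zero_mul]; exact Submodule.zero_mem _
    | zero_right x _ => rw [mul_zero]; exact Submodule.zero_mem _
    | add_left x y z _ _ _ h1 h2 => rw [add_mul]; exact Submodule.add_mem _ h1 h2
    | add_right x y z _ _ _ h1 h2 => rw [mul_add]; exact Submodule.add_mem _ h1 h2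
    | smul_left r x y _ _ h => rw [smul_mul_assoc]; exact Submodule.smul_mem _ _ h
    | smul_right r x y _ _ h => rw [mul_smul_comm]; exact Submodule.smul_mem _ _ h
  let D₀ : Subalgebra E D := P.toSubalgebra hone hmul
  have hli : LinearIndependent E (b : Fin N → D) := b.linearIndependent.restrict_scalars' E
  have hfr : finrank E D₀ = N := by
    have h1 : finrank E P = Fintype.card (Fin N) := finrank_span_eq_card hli
    rw [Fintype.card_fin] at h1
    exact h1
  have hD₀fin : FiniteDimensional E D₀ :=
    FiniteDimensional.span_of_finite E (Set.finite_range b)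
  let Ψ : F' ⊗[E] D₀ →ₐ[F'] D :=
    Algebra.TensorProduct.lift (Algebra.ofId F' D) D₀.val
      (fun l x => by rw [Algebra.ofId_apply]; exact Algebra.commute_algebraMap_left l _)
  have hΨ : ∀ (l : F') (x : D₀), Ψ (l ⊗ₜ x) = l • (x : D) := by
    intro l x
    simp only [Ψ, Algebra.TensorProduct.lift_tmul, Algebra.ofId_apply, Subalgebra.coe_val]
    rw [Algebra.smul_def]
  have hsurj : Function.Surjective Ψ := by
    rw [← AlgHom.coe_toLinearMap, ← LinearMap.range_eq_top, eq_top_iff, ← b.span_eq,
      Submodule.span_le]
    rintro _ ⟨i, rfl⟩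
    refine ⟨(1 : F') ⊗ₜ ⟨b i, Submodule.subset_span ⟨i, rfl⟩⟩, ?_⟩
    rw [AlgHom.toLinearMap_apply, hΨ, one_smul]
  have hfr2 : finrank F' (F' ⊗[E] D₀) = finrank F' D := by
    rw [Module.finrank_baseChange, hfr]
  have hinj : Function.Injective Ψ :=
    (LinearMap.injective_iff_surjective_of_finrank_eq_finrank (f := Ψ.toLinearMap) hfr2).mpr hsurj
  exact ⟨E, hEfin, D₀, hD₀fin, ⟨AlgEquiv.ofBijective Ψ ⟨hinj, hsurj⟩⟩⟩



theorem splits_of_trivial_brauer_compositum
    (K F : Type u) [Field K] [Field F] [Algebra K F]
    (ha : ∀ (F' : Type u) [Field F'] [Algebra F F'] [FiniteDimensional F F']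
      [Algebra.IsSeparable F F'] (D : Type u) [DivisionRing D] [Algebra F' D]
      [Algebra.IsCentral F' D] [FiniteDimensional F' D], Module.finrank F' D = 1)
    (E : Type u) [Field E] [Algebra K E] [FiniteDimensional K E] [Algebra.IsSeparable K E]
    (D : Type u) [Ring D] [Algebra E D] [Algebra.IsCentral E D] [IsSimpleRing D]
    [FiniteDimensional E D]
    (M : Type u) [Field M] [Algebra K M] [Algebra E M] [Algebra F M] [IsScalarTower K E M]
    [IsScalarTower K F M] : Curves.Splits E D M := by
  classical
  obtain ⟨α, hα⟩ := Field.exists_primitive_element K E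
  let φ : E →ₐ[K] M := IsScalarTower.toAlgHom K E M
  let F' : IntermediateField F M := IntermediateField.adjoin F {φ α}
  have hintK : IsIntegral K (φ α) := (Algebra.IsIntegral.isIntegral α).map φ
  have hint : IsIntegral F (φ α) := hintK.tower_top
  have hfin : FiniteDimensional F F' := IntermediateField.adjoin.finiteDimensional hint
  have hsepK : IsSeparable K (φ α) := by
    have h0 : IsSeparable K α := Algebra.IsSeparable.isSeparable K α
    rw [IsSeparable, minpoly.algHom_eq φ φ.injective]
    exact h0
  have hsepF : IsSeparable F (φ α) := hsepK.tower_top F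
  have hsep : Algebra.IsSeparable F F' :=
    (IntermediateField.isSeparable_adjoin_simple_iff_isSeparable F M).mpr hsepF
  -- `E` maps into `F'`
  have hEF' : ∀ e : E, algebraMap E M e ∈ F' := by
    intro e
    have he : e ∈ K⟮α⟯ := by rw [hα]; exact IntermediateField.mem_top
    have h1 : φ e ∈ (K⟮α⟯).map φ := ⟨e, he, rfl⟩
    rw [IntermediateField.adjoin_map, Set.image_singleton] at h1
    have h2 : IntermediateField.adjoin K {φ α} ≤ F'.restrictScalars K := by
      rw [IntermediateField.adjoin_le_iff]
      intro x hx
      rw [Set.mem_singleton_iff] at hx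
      rw [hx]
      exact IntermediateField.subset_adjoin F {φ α} rfl
    exact h2 h1
  let g : E →+* F' := (algebraMap E M).codRestrict F' hEF'
  let _ : Algebra E F' := g.toAlgebra
  have : IsScalarTower E F' M := IsScalarTower.of_algebraMap_eq (fun e => rfl)
  -- Wedderburn over `F'`
  have : Algebra.IsCentral F' (F' ⊗[E] D) := LeadCSA.isCentral_baseChange F'
  have : IsSimpleRing (F' ⊗[E] D) := LeadCSA.isSimpleRing_baseChange F'
  have : IsArtinianRing (F' ⊗[E] D) := IsArtinianRing.of_finite F' _
  obtain ⟨t, ht, D'', _, _, _, ⟨e⟩⟩ :=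
    IsSimpleRing.exists_algEquiv_matrix_divisionRing_finite F' (F' ⊗[E] D)
  have : Algebra.IsCentral F' (Matrix (Fin t) (Fin t) D'') := LeadCSA.isCentral_of_algEquiv' e
  have : Algebra.IsCentral F' D'' := LeadCSA.isCentral_of_matrix (n := t)
  have h1 := ha F' D''
  -- `D'' ≅ F'`
  have hbij : Function.Bijective (Algebra.ofId F' D'') := by
    have hinj : Function.Injective (Algebra.ofId F' D'') := (Algebra.ofId F' D'').toRingHom.injective
    refine ⟨hinj, ?_⟩
    have hfr : finrank F' F' = finrank F' D'' := by rw [h1, Module.finrank_self]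
    exact (LinearMap.injective_iff_surjective_of_finrank_eq_finrank
      (f := (Algebra.ofId F' D'').toLinearMap) hfr).mp hinj
  let ι : D'' ≃ₐ[F'] F' := (AlgEquiv.ofBijective (Algebra.ofId F' D'') hbij).symm
  have hsplit : Curves.Splits E D F' := ⟨t, ht.out, ⟨e.trans (ι.mapMatrix (m := Fin t))⟩⟩
  exact LeadCSA.splits_of_field_algHom (IsScalarTower.toAlgHom E F' M) hsplit

end Groth.Agent.Lib.Seat70.BrSepExt
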