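import Groth.Agent.Lib.LeadRadical

/-! # Minimal polynomials of elements of a central simple algebra with a power in the base field -/

set_option autoImplicit false

namespace Groth.Agent.Lib.Seat70.CSAMinpoly

open Polynomial TensorProduct
open Groth.Agent.Lib.LeadCSA

section Field

variable {K : Type*} [Field K] (hK : ∀ n : ℕ, 0 < n → (X ^ n - 1 : K[X]).Splits)

include hK in
/-- a monic irreducible factor of `X^m - c` over a field with all roots of unity is `X^e - b` -/
theorem irreducible_factor_eq {f : K[X]} (hfm : f.Monic) (hfi : Irreducible f) {m : ℕ}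
    (hm : 0 < m) {c : K} (hdvd : f ∣ X ^ m - C c) :
    ∃ b : K, f = X ^ f.natDegree - C b := by
  have : Fact (Irreducible f) := ⟨hfi⟩
  have hmin : minpoly K (AdjoinRoot.root f) = f := by
    rw [AdjoinRoot.minpoly_root hfi.ne_zero, hfm.leadingCoeff, inv_one, C_1, mul_one]
  have hint : IsIntegral K (AdjoinRoot.root f) := AdjoinRoot.isIntegral_root' hfm
  have hroot : aeval (AdjoinRoot.root f) f = 0 := by
    rw [AdjoinRoot.aeval_eq, AdjoinRoot.mk_self]
  have hαm : (AdjoinRoot.root f) ^ m ∈ (algebraMap K (AdjoinRoot f)).range := by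
    refine ⟨c, ?_⟩
    obtain ⟨g, hg⟩ := hdvd
    have h0 : aeval (AdjoinRoot.root f) (X ^ m - C c : K[X]) = 0 := by
      rw [hg, map_mul, hroot, zero_mul]
    have h1 : (AdjoinRoot.root f) ^ m - algebraMap K (AdjoinRoot f) c = 0 := by simpa using h0
    exact (sub_eq_zero.mp h1).symm
  obtain ⟨b, hb⟩ := pow_natDegree_minpoly_mem_range hK hint hm hαm
  rw [hmin] at hb
  refine ⟨b, ?_⟩
  have hdvd2 : f ∣ X ^ f.natDegree - C b := by
    have := minpoly.dvd K (AdjoinRoot.root f) (p := X ^ f.natDegree - C b)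
      (by rw [map_sub, map_pow, aeval_X, aeval_C, hb, sub_self])
    rwa [hmin] at this
  have hpos : 0 < f.natDegree := hfi.natDegree_pos
  have hmon : (X ^ f.natDegree - C b : K[X]).Monic := monic_X_pow_sub_C b hpos.ne'
  exact (eq_of_monic_of_dvd_of_natDegree_le hfm hmon hdvd2
    (by rw [natDegree_X_pow_sub_C])).symm

include hK in
theorem natDegree_le_of_factors {f₁ f₂ : K[X]} (h₁m : f₁.Monic) (h₁i : Irreducible f₁)
    (h₂m : f₂.Monic) (h₂i : Irreducible f₂) {m : ℕ} (hm : 0 < m) {c : K} (hc : c ≠ 0)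
    (hd₁ : f₁ ∣ X ^ m - C c) (hd₂ : f₂ ∣ X ^ m - C c) : f₂.natDegree ≤ f₁.natDegree := by
  obtain ⟨b₁, hb₁⟩ := irreducible_factor_eq hK h₁m h₁i hm hd₁
  have key : ∀ {f : K[X]}, Irreducible f → f ∣ X ^ m - C c →
      ∃ α : AlgebraicClosure K, aeval α f = 0 ∧ α ^ m = algebraMap K _ c := by
    intro f hfi hd
    obtain ⟨α, hα⟩ := IsAlgClosed.exists_aeval_eq_zero (AlgebraicClosure K) f
      (by
        intro h
        have := hfi.natDegree_pos
        rw [natDegree_eq_of_degree_eq_some (n := 0) (by simpa using h)] at this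
        exact lt_irrefl _ this)
    refine ⟨α, hα, ?_⟩
    obtain ⟨g, hg⟩ := hd
    have h0 : aeval α (X ^ m - C c : K[X]) = 0 := by rw [hg, map_mul, hα, zero_mul]
    have h1 : α ^ m - algebraMap K _ c = 0 := by simpa using h0
    exact sub_eq_zero.mp h1
  obtain ⟨α₁, hα₁, h1⟩ := key h₁i hd₁
  obtain ⟨α₂, hα₂, h2⟩ := key h₂i hd₂
  have hc' : algebraMap K (AlgebraicClosure K) c ≠ 0 := by
    rwa [Ne, map_eq_zero]
  have hα₁0 : α₁ ≠ 0 := by
    rintro rfl
    rw [zero_pow hm.ne'] at h1
    exact hc' h1.symm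
  obtain ⟨z, hz⟩ := rootOfUnity_mem_range hK hm (ζ := α₂ / α₁)
    (by rw [div_pow, h1, h2, div_self hc'])
  have hα₂ : α₂ = algebraMap K _ z * α₁ := by rw [hz, div_mul_cancel₀ _ hα₁0]
  have hpow : α₁ ^ f₁.natDegree = algebraMap K _ b₁ := by
    have h0 : aeval α₁ (X ^ f₁.natDegree - C b₁ : K[X]) = 0 := by rw [← hb₁, hα₁]
    have h1 : α₁ ^ f₁.natDegree - algebraMap K _ b₁ = 0 := by simpa using h0
    exact sub_eq_zero.mp h1
  have hmin : f₂ = minpoly K α₂ := minpoly.eq_of_irreducible_of_monic h₂i (by assumption) h₂m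
  have hdvd : f₂ ∣ X ^ f₁.natDegree - C (z ^ f₁.natDegree * b₁) := by
    rw [hmin]
    apply minpoly.dvd
    rw [hα₂]
    simp [mul_pow, hpow]
  have hne : (X ^ f₁.natDegree - C (z ^ f₁.natDegree * b₁) : K[X]) ≠ 0 :=
    X_pow_sub_C_ne_zero h₁i.natDegree_pos _
  have := natDegree_le_of_dvd hdvd hne
  rwa [natDegree_X_pow_sub_C] at this

end Field

section ModuleDvd

/-- every finite module over a central simple algebra of dimension `n^2` has dimension divisible
by `n` -/
theorem finrank_module_dvd {E : Type*} [Field E] {B : Type*} [Ring B] [Algebra E B]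
    [Algebra.IsCentral E B] [IsSimpleRing B] [FiniteDimensional E B] {n : ℕ}
    (hn : Module.finrank E B = n ^ 2)
    {S : Type*} [AddCommGroup S] [Module B S] [Module E S] [IsScalarTower E B S]
    [Module.Finite E S] : n ∣ Module.finrank E S := by
  obtain ⟨m, hm, ⟨e'⟩⟩ := splits_of_isSepClosed (k := E) (A := B) (AlgebraicClosure E)
  have h1 : Module.finrank (AlgebraicClosure E) (AlgebraicClosure E ⊗[E] B) = n ^ 2 := by
    rw [Module.finrank_baseChange, hn]
  have h2 : Module.finrank (AlgebraicClosure E) (AlgebraicClosure E ⊗[E] B) = m * m := by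
    rw [e'.toLinearEquiv.finrank_eq, Module.finrank_matrix]; simp
  have hmn : m = n := by
    have : m ^ 2 = n ^ 2 := by rw [← h1, h2, pow_two]
    exact Nat.pow_left_injective two_ne_zero this
  have := finrank_baseChange_dvd (k := E) (K := AlgebraicClosure E) (A := B) (S := S) hm e'
  rw [Module.finrank_self, mul_one, hmn] at this
  exact this

/-- the same over a subfield -/
theorem finrank_module_dvd' {K : Type*} [Field K] {E : Type*} [Field E] [Algebra K E]
    [FiniteDimensional K E]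
    {B : Type*} [Ring B] [Algebra E B] [Algebra K B] [IsScalarTower K E B]
    [Algebra.IsCentral E B] [IsSimpleRing B] [FiniteDimensional E B] {n : ℕ}
    (hn : Module.finrank E B = n ^ 2)
    {S : Type*} [AddCommGroup S] [Module B S] [Module K S] [IsScalarTower K B S]
    [Module.Finite K S] : Module.finrank K E * n ∣ Module.finrank K S := by
  let _ : Module E S := Module.compHom S (algebraMap E B)
  have hsm : ∀ (c : E) (s : S), c • s = algebraMap E B c • s := fun _ _ => rfl
  have : IsScalarTower E B S := ⟨fun c b s => by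
    rw [hsm, Algebra.smul_def, mul_smul]⟩
  have : IsScalarTower K E S := ⟨fun k c s => by
    rw [hsm, hsm, Algebra.smul_def k c, map_mul, ← IsScalarTower.algebraMap_apply K E B,
      ← Algebra.smul_def, smul_assoc]⟩
  have : Module.Finite E S := Module.Finite.right K E S
  rw [← Module.finrank_mul_finrank K E S]
  exact mul_dvd_mul_left _ (finrank_module_dvd hn)

end ModuleDvd

section Step

universe u v w

variable {K : Type u} [Field K] {A : Type v} [Ring A] [Algebra K A] [Algebra.IsCentral K A]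
  [IsSimpleRing A] [FiniteDimensional K A]

theorem finrank_dvd_of_irreducible {n : ℕ} (hn : Module.finrank K A = n ^ 2)
    {f : K[X]} (hfi : Irreducible f)
    {N : Type*} [AddCommGroup N] [Module (K[X] ⊗[K] A) N] [Module K N]
    [IsScalarTower K (K[X] ⊗[K] A) N] [Module.Finite K N]
    (hf : ∀ v : N, (f ⊗ₜ[K] (1 : A)) • v = 0) :
    f.natDegree * n ∣ Module.finrank K N := by
  have : Fact (Irreducible f) := ⟨hfi⟩
  have hE : Module.finrank K (AdjoinRoot f) = f.natDegree := by
    rw [(AdjoinRoot.powerBasis hfi.ne_zero).finrank, AdjoinRoot.powerBasis_dim]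
  have : FiniteDimensional K (AdjoinRoot f) := (AdjoinRoot.powerBasis hfi.ne_zero).finite
  have : Algebra.IsCentral (AdjoinRoot f) (AdjoinRoot f ⊗[K] A) := isCentral_baseChange _
  have : IsSimpleRing (AdjoinRoot f ⊗[K] A) := isSimpleRing_baseChange _
  have hnB : Module.finrank (AdjoinRoot f) (AdjoinRoot f ⊗[K] A) = n ^ 2 := by
    rw [Module.finrank_baseChange, hn]
  let ψ : K[X] ⊗[K] A →ₐ[K] Module.End K N := Algebra.lsmul K K N
  have hψ : ∀ (r : K[X] ⊗[K] A) (v : N), ψ r v = r • v := fun _ _ => rfl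
  let φ₁ : AdjoinRoot f →ₐ[K] Module.End K N :=
    Ideal.Quotient.liftₐ (Ideal.span {f}) (ψ.comp Algebra.TensorProduct.includeLeft) (by
      intro a ha
      obtain ⟨g, rfl⟩ := Ideal.mem_span_singleton.mp ha
      ext v
      have : ((f * g) ⊗ₜ[K] (1 : A)) = (g ⊗ₜ[K] (1 : A)) * (f ⊗ₜ[K] (1 : A)) := by
        rw [Algebra.TensorProduct.tmul_mul_tmul, mul_one, mul_comm]
      simp only [AlgHom.comp_apply, Algebra.TensorProduct.includeLeft_apply, hψ,
        LinearMap.zero_apply]
      rw [this, mul_smul, hf, smul_zero])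
  let φ₂ : A →ₐ[K] Module.End K N := ψ.comp Algebra.TensorProduct.includeRight
  have hφ₁ : ∀ p : K[X], φ₁ (AdjoinRoot.mk f p) = ψ (p ⊗ₜ 1) := fun p => rfl
  have hφ₂ : ∀ a : A, φ₂ a = ψ (1 ⊗ₜ a) := fun a => rfl
  have comm : ∀ (e : AdjoinRoot f) (a : A), Commute (φ₁ e) (φ₂ a) := by
    intro e a
    induction e using AdjoinRoot.induction_on with
    | ih p =>
      rw [hφ₁, hφ₂]
      apply Commute.map
      rw [Commute, SemiconjBy, Algebra.TensorProduct.tmul_mul_tmul,
        Algebra.TensorProduct.tmul_mul_tmul, mul_one, one_mul, mul_one, one_mul]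
  let φ : AdjoinRoot f ⊗[K] A →ₐ[K] Module.End K N := Algebra.TensorProduct.lift φ₁ φ₂ comm
  let _ : Module (AdjoinRoot f ⊗[K] A) N := Module.compHom N φ.toRingHom
  have hsm : ∀ (b : AdjoinRoot f ⊗[K] A) (v : N), b • v = φ b v := fun _ _ => rfl
  have : IsScalarTower K (AdjoinRoot f ⊗[K] A) N := ⟨fun c b v => by
    rw [hsm, hsm, map_smul]; rfl⟩
  have := finrank_module_dvd' (K := K) (E := AdjoinRoot f) (B := AdjoinRoot f ⊗[K] A) hnB (S := N)
  rwa [hE] at this

theorem finrank_dvd_of_prod {n : ℕ} (hn : Module.finrank K A = n ^ 2) {e : ℕ}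
    (s : Multiset K[X]) (hs : ∀ p ∈ s, Irreducible p ∧ p.natDegree = e) :
    ∀ (M : Type w) [AddCommGroup M] [Module (K[X] ⊗[K] A) M] [Module K M]
      [IsScalarTower K (K[X] ⊗[K] A) M] [Module.Finite K M],
      (∀ v : M, (s.prod ⊗ₜ[K] (1 : A)) • v = 0) → e * n ∣ Module.finrank K M := by
  induction s using Multiset.induction_on with
  | empty =>
    intro M _ _ _ _ _ h
    have : Subsingleton M := ⟨fun a b => by
      have ha := h a
      have hb := h b
      rw [Multiset.prod_zero, ← Algebra.TensorProduct.one_def, one_smul] at ha hb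
      rw [ha, hb]⟩
    rw [Module.finrank_zero_of_subsingleton]
    exact dvd_zero _
  | cons f s ih =>
    intro M _ _ _ _ _ h
    have hs' : ∀ p ∈ s, Irreducible p ∧ p.natDegree = e :=
      fun p hp => hs p (Multiset.mem_cons_of_mem hp)
    obtain ⟨hfi, hfe⟩ := hs f (Multiset.mem_cons_self f s)
    have hcentral : ∀ r : K[X] ⊗[K] A, (f ⊗ₜ[K] (1 : A)) * r = r * (f ⊗ₜ[K] (1 : A)) := by
      intro r
      induction r using TensorProduct.induction_on with
      | zero => simp
      | tmul p a =>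
        rw [Algebra.TensorProduct.tmul_mul_tmul, Algebra.TensorProduct.tmul_mul_tmul, mul_one,
          one_mul, mul_comm]
      | add x y hx hy => rw [mul_add, add_mul, hx, hy]
    let ℓ : M →ₗ[K[X] ⊗[K] A] M :=
      { toFun := fun v => (f ⊗ₜ[K] (1 : A)) • v
        map_add' := fun v w => smul_add _ v w
        map_smul' := fun r v => by
          simp only [RingHom.id_apply]
          rw [← mul_smul, ← mul_smul, hcentral] }
    have hℓ : ∀ v, ℓ v = (f ⊗ₜ[K] (1 : A)) • v := fun _ => rfl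
    have hfin : ∀ N : Submodule (K[X] ⊗[K] A) M, Module.Finite K N := fun N =>
      Module.Finite.of_injective (N.subtype.restrictScalars K) N.injective_subtype
    have h1 : f.natDegree * n ∣ Module.finrank K (LinearMap.ker ℓ) := by
      refine finrank_dvd_of_irreducible hn hfi (N := LinearMap.ker ℓ) ?_
      intro ⟨v, hv⟩
      apply Subtype.ext
      rw [LinearMap.mem_ker, hℓ] at hv
      simpa using hv
    have h2 : e * n ∣ Module.finrank K (LinearMap.range ℓ) := by
      refine ih hs' (LinearMap.range ℓ) ?_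
      intro ⟨v, hv⟩
      apply Subtype.ext
      obtain ⟨w, rfl⟩ := hv
      have := h w
      rw [Multiset.prod_cons, mul_comm] at this
      have h3 : ((s.prod * f) ⊗ₜ[K] (1 : A)) = (s.prod ⊗ₜ[K] (1 : A)) * (f ⊗ₜ[K] (1 : A)) := by
        rw [Algebra.TensorProduct.tmul_mul_tmul, mul_one]
      rw [h3, mul_smul] at this
      simpa [hℓ] using this
    have h3 := LinearMap.finrank_range_add_finrank_ker (ℓ.restrictScalars K)
    rw [hfe] at h1
    rw [← h3]
    exact dvd_add h2 h1

theorem natDegree_dvd_of_minpoly_eq_prod {n : ℕ} (hn : Module.finrank K A = n ^ 2) (x : A)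
    {e : ℕ} (s : Multiset K[X]) (hs : ∀ p ∈ s, Irreducible p ∧ p.natDegree = e)
    (hprod : s.prod = minpoly K x) : e ∣ n := by
  have hn' : Module.finrank K Aᵐᵒᵖ = n ^ 2 := by
    rw [← hn]; exact (MulOpposite.opLinearEquiv K : A ≃ₗ[K] Aᵐᵒᵖ).symm.finrank_eq
  let ρ : K[X] ⊗[K] Aᵐᵒᵖ →ₐ[K] Module.End K A :=
    (AlgHom.mulLeftRight K A).comp (Algebra.TensorProduct.map (aeval x) (AlgHom.id K Aᵐᵒᵖ))
  let _ : Module (K[X] ⊗[K] Aᵐᵒᵖ) A := Module.compHom A ρ.toRingHom
  have hsm : ∀ (r : K[X] ⊗[K] Aᵐᵒᵖ) (v : A), r • v = ρ r v := fun r v => rfl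
  have : IsScalarTower K (K[X] ⊗[K] Aᵐᵒᵖ) A := ⟨fun c r v => by rw [hsm, hsm, map_smul]; rfl⟩
  have h := finrank_dvd_of_prod (A := Aᵐᵒᵖ) hn' s hs A (by
    intro v
    rw [hsm, hprod]
    simp only [ρ, AlgHom.comp_apply, Algebra.TensorProduct.map_tmul, minpoly.aeval,
      AlgHom.mulLeftRight_apply]
    simp)
  rw [hn, pow_two] at h
  have hn0 : 0 < n := by
    have : 0 < Module.finrank K A := Module.finrank_pos
    rw [hn] at this
    exact Nat.pos_of_ne_zero (fun h0 => by rw [h0] at this; simp at this)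
  exact Nat.dvd_of_mul_dvd_mul_right hn0 h

end Step

section Main

theorem exists_multiset_map {α β : Type*} (g : β → α) (s : Multiset α)
    (h : ∀ a ∈ s, ∃ b, a = g b) : ∃ t : Multiset β, s = t.map g := by
  induction s using Multiset.induction_on with
  | empty => exact ⟨0, rfl⟩
  | cons a s ih =>
    obtain ⟨t, ht⟩ := ih (fun a' ha' => h a' (Multiset.mem_cons_of_mem ha'))
    obtain ⟨b, hb⟩ := h a (Multiset.mem_cons_self a s)
    exact ⟨b ::ₘ t, by rw [Multiset.map_cons, ← hb, ← ht]⟩

universe u v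

theorem minpoly_eq_prod {K : Type u} [Field K] (hK : ∀ n : ℕ, 0 < n → (X ^ n - 1 : K[X]).Splits)
    {A : Type v} [Ring A] [Algebra K A] [Algebra.IsCentral K A] [IsSimpleRing A]
    [FiniteDimensional K A] {n : ℕ} (hn : Module.finrank K A = n ^ 2)
    (x : A) (hx : IsUnit x) {m : ℕ} (hm : 0 < m) (hxm : x ^ m ∈ (algebraMap K A).range) :
    ∃ r : ℕ, 0 < r ∧ r ∣ n ∧ ∃ s : Multiset K,
      minpoly K x = (s.map fun a : K => X ^ r - C a).prod := by
  classical
  have hint : IsIntegral K x := Algebra.IsIntegral.isIntegral x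
  have hμm : (minpoly K x).Monic := minpoly.monic hint
  have hμ0 : minpoly K x ≠ 0 := hμm.ne_zero
  obtain ⟨c, hc⟩ := hxm
  have hc0 : c ≠ 0 := by
    rintro rfl
    rw [map_zero] at hc
    have : IsUnit (x ^ m) := hx.pow m
    rw [← hc] at this
    exact not_isUnit_zero this
  have hdvd : minpoly K x ∣ X ^ m - C c := by
    apply minpoly.dvd
    rw [map_sub, map_pow, aeval_X, aeval_C, hc, sub_self]
  set s := UniqueFactorizationMonoid.normalizedFactors (minpoly K x) with hs
  have hsi : ∀ p ∈ s, Irreducible p := fun p hp =>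
    UniqueFactorizationMonoid.irreducible_of_normalized_factor p hp
  have hsm : ∀ p ∈ s, p.Monic := fun p hp => by
    have h1 := UniqueFactorizationMonoid.normalize_normalized_factor p hp
    rw [← h1]
    exact monic_normalize (hsi p hp).ne_zero
  have hsd : ∀ p ∈ s, p ∣ X ^ m - C c := fun p hp =>
    (UniqueFactorizationMonoid.dvd_of_mem_normalizedFactors hp).trans hdvd
  have hprod : s.prod = minpoly K x := by
    apply eq_of_monic_of_associated _ hμm (UniqueFactorizationMonoid.prod_normalizedFactors hμ0)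
    have := monic_multiset_prod_of_monic s id (fun p hp => hsm p hp)
    simpa using this
  have hs0 : s ≠ 0 := by
    intro h0
    rw [h0, Multiset.prod_zero] at hprod
    have := minpoly.natDegree_pos hint
    rw [← hprod, natDegree_one] at this
    exact lt_irrefl _ this
  obtain ⟨p₀, hp₀⟩ := Multiset.exists_mem_of_ne_zero hs0
  have hdeg : ∀ p ∈ s, p.natDegree = p₀.natDegree := fun p hp =>
    le_antisymm
      (natDegree_le_of_factors hK (hsm p₀ hp₀) (hsi p₀ hp₀) (hsm p hp) (hsi p hp) hm hc0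
        (hsd p₀ hp₀) (hsd p hp))
      (natDegree_le_of_factors hK (hsm p hp) (hsi p hp) (hsm p₀ hp₀) (hsi p₀ hp₀) hm hc0
        (hsd p hp) (hsd p₀ hp₀))
  refine ⟨p₀.natDegree, (hsi p₀ hp₀).natDegree_pos, ?_, ?_⟩
  · exact natDegree_dvd_of_minpoly_eq_prod hn x s (fun p hp => ⟨hsi p hp, hdeg p hp⟩) hprod
  · obtain ⟨t, ht⟩ := exists_multiset_map (fun a : K => (X ^ p₀.natDegree - C a : K[X])) s
      (fun p hp => by
        obtain ⟨b, hb⟩ := irreducible_factor_eq hK (hsm p hp) (hsi p hp) hm (hsd p hp)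
        rw [hdeg p hp] at hb
        exact ⟨b, hb⟩)
    exact ⟨t, by rw [← ht, hprod]⟩

end Main

end Groth.Agent.Lib.Seat70.CSAMinpoly
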