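import Groth.Agent.Lib.Seat70Laurent
import Groth.Agent.Lib.LeadRadical

set_option autoImplicit false

namespace Groth.Agent.Lib.Seat70.ConicAut

open LaurentPolynomial
open Groth.Agent.Lib.Seat70.Laurent
open Groth.Agent.Lib.LeadCSA

/-- abstract data: a `K`-algebra `B` embedded in `L[T;T⁻¹]` as the coordinate ring of the complement
of a conjugate pair of points on the projective line -/
structure ConicData (K L B : Type*) [Field K] [Field L] [Algebra K L] [CommRing B] [Algebra K B] where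
  a : K
  b : K
  c : K
  θ : L
  θ' : L
  σ : L →+* L
  ι : B →+* L[T;T⁻¹]
  X₀ : B
  X₁ : B
  X₂ : B
  ha : a ≠ 0
  hsum : algebraMap K L a * (θ + θ') = - algebraMap K L b
  hprod : algebraMap K L a * (θ * θ') = algebraMap K L c
  hne : θ ≠ θ'
  hσK : ∀ k : K, σ (algebraMap K L k) = algebraMap K L k
  hσθ : σ θ = θ'
  hσθ' : σ θ' = θ
  hι_inj : Function.Injective ι
  hι_alg : ∀ (k : K) (z : B), ι (k • z) = C (algebraMap K L k) * ι z
  hgen : ∀ S : Subring B, (∀ k : K, algebraMap K B k ∈ S) → X₀ ∈ S → X₁ ∈ S → X₂ ∈ S → ∀ z, z ∈ S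
  hR1 : a • X₀ + b • X₁ + c • X₂ = 1
  hR2 : X₀ * X₂ = X₁ * X₁
  hT : C (algebraMap K L a) * (ι X₀ - 2 * C θ * ι X₁ + C θ ^ 2 * ι X₂) = T 1
  hT' : C (algebraMap K L a) * (ι X₀ - 2 * C θ' * ι X₁ + C θ' ^ 2 * ι X₂) = T (-1)

section Identities

variable {Λ : Type*} [CommRing Λ]

theorem key_identity (A Θ Θ' y₀ y₁ y₂ : Λ)
    (r1 : A * (y₀ - (Θ + Θ') * y₁ + Θ * Θ' * y₂) = 1) (r2 : y₀ * y₂ = y₁ * y₁) :
    (A * (y₀ - 2 * Θ * y₁ + Θ ^ 2 * y₂)) * (A * (y₀ - 2 * Θ' * y₁ + Θ' ^ 2 * y₂)) = 1 := by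
  linear_combination (A * (y₀ - (Θ + Θ') * y₁ + Θ * Θ' * y₂) + 1) * r1 + A ^ 2 * (Θ - Θ') ^ 2 * r2

theorem solve₂ (A Θ Θ' e₀ e₁ e₂ u u' w : Λ)
    (E1 : A * (e₀ - 2 * Θ * e₁ + Θ ^ 2 * e₂) = u) (E2 : A * (e₀ - 2 * Θ' * e₁ + Θ' ^ 2 * e₂) = u')
    (E3 : A * (e₀ - (Θ + Θ') * e₁ + Θ * Θ' * e₂) = w) :
    A * (Θ - Θ') ^ 2 * e₂ = u + u' - 2 * w := by
  linear_combination E1 + E2 - 2 * E3

theorem solve₁ (A Θ Θ' e₀ e₁ e₂ u u' w : Λ)
    (E1 : A * (e₀ - 2 * Θ * e₁ + Θ ^ 2 * e₂) = u) (E2 : A * (e₀ - 2 * Θ' * e₁ + Θ' ^ 2 * e₂) = u')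
    (E3 : A * (e₀ - (Θ + Θ') * e₁ + Θ * Θ' * e₂) = w) :
    A * (Θ - Θ') ^ 2 * e₁ = Θ' * u + Θ * u' - (Θ + Θ') * w := by
  linear_combination Θ' * E1 + Θ * E2 - (Θ + Θ') * E3

theorem solve₀ (A Θ Θ' e₀ e₁ e₂ u u' w : Λ)
    (E1 : A * (e₀ - 2 * Θ * e₁ + Θ ^ 2 * e₂) = u) (E2 : A * (e₀ - 2 * Θ' * e₁ + Θ' ^ 2 * e₂) = u')
    (E3 : A * (e₀ - (Θ + Θ') * e₁ + Θ * Θ' * e₂) = w) :
    A * (Θ - Θ') ^ 2 * e₀ = Θ' ^ 2 * u + Θ ^ 2 * u' - 2 * (Θ * Θ') * w := by
  linear_combination Θ' ^ 2 * E1 + Θ ^ 2 * E2 - 2 * (Θ * Θ') * E3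

end Identities



namespace ConicData

variable {K L B : Type*} [Field K] [Field L] [Algebra K L] [CommRing B] [Algebra K B]
variable (D : ConicData K L B)

/-- the constant `a` in `L[T;T⁻¹]` -/
noncomputable def A : L[T;T⁻¹] := C (algebraMap K L D.a)
/-- the constant `θ` -/
noncomputable def Θ : L[T;T⁻¹] := C D.θ
/-- the constant `θ'` -/
noncomputable def Θ' : L[T;T⁻¹] := C D.θ'

theorem A_ne_zero : D.A ≠ 0 := by
  unfold A
  rw [Ne, map_eq_zero, map_eq_zero]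
  exact D.ha

theorem Θ_sub_ne_zero : D.Θ - D.Θ' ≠ 0 := by
  unfold Θ Θ'
  rw [← map_sub, Ne, map_eq_zero, sub_eq_zero]
  exact D.hne

theorem AD_ne_zero : D.A * (D.Θ - D.Θ') ^ 2 ≠ 0 :=
  mul_ne_zero D.A_ne_zero (pow_ne_zero _ D.Θ_sub_ne_zero)

theorem hsumΛ : D.A * (D.Θ + D.Θ') = - C (algebraMap K L D.b) := by
  unfold A Θ Θ'
  rw [← map_add, ← map_mul, D.hsum, map_neg]

theorem hprodΛ : D.A * (D.Θ * D.Θ') = C (algebraMap K L D.c) := by
  unfold A Θ Θ'
  rw [← map_mul, ← map_mul, D.hprod]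

/-- a ring endomorphism of `B` commuting with scalars -/
def IsLin (K : Type*) {B : Type*} [Field K] [CommRing B] [Algebra K B] (g : B →+* B) : Prop :=
  ∀ (k : K) (z : B), g (k • z) = k • g z

variable {D}

theorem r1 {g : B →+* B} (hg : IsLin K g) :
    D.A * (D.ι (g D.X₀) - (D.Θ + D.Θ') * D.ι (g D.X₁) + D.Θ * D.Θ' * D.ι (g D.X₂)) = 1 := by
  have hg' : ∀ (k : K) (z : B), g (k • z) = k • g z := hg
  have h := congrArg (fun z => D.ι (g z)) D.hR1
  simp only [map_add, hg', D.hι_alg, map_one] at h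
  have h1 := D.hsumΛ
  have h2 := D.hprodΛ
  unfold A at h1 h2 ⊢
  linear_combination h - D.ι (g D.X₁) * h1 + D.ι (g D.X₂) * h2

theorem r2 (g : B →+* B) : D.ι (g D.X₀) * D.ι (g D.X₂) = D.ι (g D.X₁) * D.ι (g D.X₁) := by
  rw [← map_mul, ← map_mul, ← map_mul, ← map_mul, D.hR2]

variable (D)

/-- the image of `T` under the extension of `g` -/
noncomputable def U (g : B →+* B) : L[T;T⁻¹] :=
  D.A * (D.ι (g D.X₀) - 2 * D.Θ * D.ι (g D.X₁) + D.Θ ^ 2 * D.ι (g D.X₂))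

/-- the image of `T⁻¹` under the extension of `g` -/
noncomputable def U' (g : B →+* B) : L[T;T⁻¹] :=
  D.A * (D.ι (g D.X₀) - 2 * D.Θ' * D.ι (g D.X₁) + D.Θ' ^ 2 * D.ι (g D.X₂))

theorem U_mul_U' {g : B →+* B} (hg : IsLin K g) : D.U g * D.U' g = 1 :=
  key_identity _ _ _ _ _ _ (r1 hg) (r2 g)

theorem U_id : D.U (RingHom.id B) = T 1 := D.hT
theorem U'_id : D.U' (RingHom.id B) = T (-1) := D.hT'

/-- `U g` as a unit -/
noncomputable def Uunit {g : B →+* B} (hg : IsLin K g) : (L[T;T⁻¹])ˣ :=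
  ⟨D.U g, D.U' g, D.U_mul_U' hg, by rw [mul_comm]; exact D.U_mul_U' hg⟩

/-- the extension of `g` to `L[T;T⁻¹]` -/
noncomputable def hat {g : B →+* B} (hg : IsLin K g) : L[T;T⁻¹] →+* L[T;T⁻¹] :=
  eval₂ (C : L →+* L[T;T⁻¹]) (D.Uunit hg)

theorem hat_C {g : B →+* B} (hg : IsLin K g) (l : L) : D.hat hg (C l) = C l := by
  unfold hat; rw [eval₂_C]

theorem hat_T_one {g : B →+* B} (hg : IsLin K g) : D.hat hg (T 1) = D.U g := by
  unfold hat; rw [eval₂_T, zpow_one]; rfl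

theorem hat_T_neg_one {g : B →+* B} (hg : IsLin K g) : D.hat hg (T (-1)) = D.U' g := by
  unfold hat; rw [eval₂_T, zpow_neg, zpow_one]; rfl

theorem isLin_id : IsLin K (RingHom.id B) := fun _ _ => rfl

theorem isLin_comp {g h : B →+* B} (hg : IsLin K g) (hh : IsLin K h) : IsLin K (g.comp h) :=
  fun k z => by
    have hg' : ∀ (k : K) (z : B), g (k • z) = k • g z := hg
    have hh' : ∀ (k : K) (z : B), h (k • z) = k • h z := hh
    rw [RingHom.comp_apply, hh', hg', RingHom.comp_apply]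

theorem E1 (g : B →+* B) :
    D.A * (D.ι (g D.X₀) - 2 * D.Θ * D.ι (g D.X₁) + D.Θ ^ 2 * D.ι (g D.X₂)) = D.U g := rfl

theorem E2 (g : B →+* B) :
    D.A * (D.ι (g D.X₀) - 2 * D.Θ' * D.ι (g D.X₁) + D.Θ' ^ 2 * D.ι (g D.X₂)) = D.U' g := rfl

theorem formula₂ {g : B →+* B} (hg : IsLin K g) :
    D.A * (D.Θ - D.Θ') ^ 2 * D.ι (g D.X₂) = D.U g + D.U' g - 2 * 1 :=
  solve₂ _ _ _ _ _ _ _ _ _ (D.E1 g) (D.E2 g) (r1 hg)

theorem formula₁ {g : B →+* B} (hg : IsLin K g) :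
    D.A * (D.Θ - D.Θ') ^ 2 * D.ι (g D.X₁) = D.Θ' * D.U g + D.Θ * D.U' g - (D.Θ + D.Θ') * 1 :=
  solve₁ _ _ _ _ _ _ _ _ _ (D.E1 g) (D.E2 g) (r1 hg)

theorem formula₀ {g : B →+* B} (hg : IsLin K g) :
    D.A * (D.Θ - D.Θ') ^ 2 * D.ι (g D.X₀) =
      D.Θ' ^ 2 * D.U g + D.Θ ^ 2 * D.U' g - 2 * (D.Θ * D.Θ') * 1 :=
  solve₀ _ _ _ _ _ _ _ _ _ (D.E1 g) (D.E2 g) (r1 hg)

theorem hat_A {g : B →+* B} (hg : IsLin K g) : D.hat hg D.A = D.A := D.hat_C hg _
theorem hat_Θ {g : B →+* B} (hg : IsLin K g) : D.hat hg D.Θ = D.Θ := D.hat_C hg _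
theorem hat_Θ' {g : B →+* B} (hg : IsLin K g) : D.hat hg D.Θ' = D.Θ' := D.hat_C hg _

theorem hat_ι {g : B →+* B} (hg : IsLin K g) (z : B) : D.hat hg (D.ι z) = D.ι (g z) := by
  have hg' : ∀ (k : K) (z : B), g (k • z) = k • g z := hg
  have hid : IsLin K (RingHom.id B) := isLin_id
  have hU : D.U (RingHom.id B) = T 1 := D.U_id
  have hU' : D.U' (RingHom.id B) = T (-1) := D.U'_id
  let S : Subring B := RingHom.eqLocus ((D.hat hg).comp D.ι) (D.ι.comp g)
  have hS : ∀ z, z ∈ S ↔ D.hat hg (D.ι z) = D.ι (g z) := fun z => Iff.rfl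
  refine (hS z).mp (D.hgen S ?_ ?_ ?_ ?_ z)
  · intro k
    rw [hS, Algebra.algebraMap_eq_smul_one, hg', D.hι_alg, D.hι_alg, map_mul, D.hat_C, map_one,
      map_one, map_one, map_one]
  · rw [hS]
    apply mul_left_cancel₀ D.AD_ne_zero
    have h1 := D.formula₀ hid
    have h2 := D.formula₀ hg
    rw [RingHom.id_apply, hU, hU'] at h1
    rw [h2, ← D.hat_A hg, ← D.hat_Θ hg, ← D.hat_Θ' hg, ← map_sub, ← map_pow, ← map_mul, ← map_mul,
      h1]
    simp only [map_sub, map_add, map_mul, map_pow, map_one, D.hat_T_one, D.hat_T_neg_one,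
      D.hat_Θ, D.hat_Θ', map_ofNat]
  · rw [hS]
    apply mul_left_cancel₀ D.AD_ne_zero
    have h1 := D.formula₁ hid
    have h2 := D.formula₁ hg
    rw [RingHom.id_apply, hU, hU'] at h1
    rw [h2, ← D.hat_A hg, ← D.hat_Θ hg, ← D.hat_Θ' hg, ← map_sub, ← map_pow, ← map_mul, ← map_mul,
      h1]
    simp only [map_sub, map_add, map_mul, map_pow, map_one, D.hat_T_one, D.hat_T_neg_one,
      D.hat_Θ, D.hat_Θ', map_ofNat]
  · rw [hS]
    apply mul_left_cancel₀ D.AD_ne_zero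
    have h1 := D.formula₂ hid
    have h2 := D.formula₂ hg
    rw [RingHom.id_apply, hU, hU'] at h1
    rw [h2, ← D.hat_A hg, ← D.hat_Θ hg, ← D.hat_Θ' hg, ← map_sub, ← map_pow, ← map_mul, ← map_mul,
      h1]
    simp only [map_sub, map_add, map_mul, map_pow, map_one, D.hat_T_one, D.hat_T_neg_one,
      D.hat_Θ, D.hat_Θ', map_ofNat]

theorem U_comp {g h : B →+* B} (hg : IsLin K g) : D.U (g.comp h) = D.hat hg (D.U h) := by
  unfold U
  simp only [map_mul, map_sub, map_add, map_pow, D.hat_A, D.hat_Θ, D.hat_ι, RingHom.comp_apply,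
    map_ofNat]

theorem eq_of_U_eq {g h : B →+* B} (hg : IsLin K g) (hh : IsLin K h) (hU : D.U g = D.U h) :
    g = h := by
  have : D.hat hg = D.hat hh := ringHom_ext (fun l => by rw [D.hat_C, D.hat_C])
    (by rw [D.hat_T_one, D.hat_T_one, hU])
  refine RingHom.ext fun z => D.hι_inj ?_
  rw [← D.hat_ι hg, ← D.hat_ι hh, this]

theorem hat_T {g : B →+* B} (hg : IsLin K g) {l : L} (hl : l ≠ 0) {j : ℤ}
    (hU : D.U g = C l * T j) (n : ℤ) : D.hat hg (T n) = C (l ^ n) * T (j * n) := by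
  unfold hat
  rw [eval₂_T]
  exact zpow_val_of_eq_C_mul_T _ hl hU n

theorem U_comp_monomial {g h : B →+* B} (hg : IsLin K g) {l l' : L} (hl : l ≠ 0) {j j' : ℤ}
    (hU : D.U g = C l * T j) (hU' : D.U h = C l' * T j') :
    D.U (g.comp h) = C (l' * l ^ j') * T (j * j') := by
  rw [D.U_comp hg, hU', map_mul, D.hat_C, D.hat_T hg hl hU, map_mul, mul_assoc]

/-- the semilinear involution `T ↦ T⁻¹` of `L[T;T⁻¹]` -/
noncomputable def τ : L[T;T⁻¹] →+* L[T;T⁻¹] :=
  eval₂ ((C : L →+* L[T;T⁻¹]).comp D.σ) (tUnit (-1))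

theorem τ_C (l : L) : D.τ (C l) = C (D.σ l) := by
  unfold τ; rw [eval₂_C]; rfl

theorem τ_T (n : ℤ) : D.τ (T n) = T (-n) := by
  unfold τ; rw [eval₂_T, tUnit_zpow, tUnit_val, neg_one_mul]

theorem τ_A : D.τ D.A = D.A := by
  unfold A; rw [τ_C, D.hσK]

theorem τ_Θ : D.τ D.Θ = D.Θ' := by
  unfold Θ Θ'; rw [τ_C, D.hσθ]

theorem τ_Θ' : D.τ D.Θ' = D.Θ := by
  unfold Θ Θ'; rw [τ_C, D.hσθ']

theorem τ_ι (z : B) : D.τ (D.ι z) = D.ι z := by
  have hid : IsLin K (RingHom.id B) := isLin_id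
  have hU : D.U (RingHom.id B) = T 1 := D.U_id
  have hU' : D.U' (RingHom.id B) = T (-1) := D.U'_id
  let S : Subring B := RingHom.eqLocus (D.τ.comp D.ι) D.ι
  have hS : ∀ z, z ∈ S ↔ D.τ (D.ι z) = D.ι z := fun z => Iff.rfl
  have hAD : D.τ (D.A * (D.Θ - D.Θ') ^ 2) = D.A * (D.Θ - D.Θ') ^ 2 := by
    rw [map_mul, map_pow, map_sub, τ_A, τ_Θ, τ_Θ']
    ring
  refine (hS z).mp (D.hgen S ?_ ?_ ?_ ?_ z)
  · intro k
    rw [hS, Algebra.algebraMap_eq_smul_one, D.hι_alg, map_mul, τ_C, D.hσK, map_one, map_one]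
  · rw [hS]
    apply mul_left_cancel₀ D.AD_ne_zero
    have h1 := D.formula₀ hid
    rw [RingHom.id_apply, hU, hU'] at h1
    conv_lhs => rw [← hAD, ← map_mul, h1]
    rw [h1]
    simp only [map_sub, map_add, map_mul, map_pow, map_one, τ_T, τ_Θ, τ_Θ', map_ofNat, neg_neg]
    ring
  · rw [hS]
    apply mul_left_cancel₀ D.AD_ne_zero
    have h1 := D.formula₁ hid
    rw [RingHom.id_apply, hU, hU'] at h1
    conv_lhs => rw [← hAD, ← map_mul, h1]
    rw [h1]
    simp only [map_sub, map_add, map_mul, map_pow, map_one, τ_T, τ_Θ, τ_Θ', map_ofNat, neg_neg]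
    ring
  · rw [hS]
    apply mul_left_cancel₀ D.AD_ne_zero
    have h1 := D.formula₂ hid
    rw [RingHom.id_apply, hU, hU'] at h1
    conv_lhs => rw [← hAD, ← map_mul, h1]
    rw [h1]
    simp only [map_sub, map_add, map_mul, map_pow, map_one, τ_T, τ_Θ, τ_Θ', map_ofNat, neg_neg]
    ring

theorem τ_U (g : B →+* B) : D.τ (D.U g) = D.U' g := by
  unfold U U'
  simp only [map_mul, map_sub, map_add, map_pow, τ_A, τ_Θ, τ_ι, map_ofNat]

/-- the leading coefficient of `U g` has norm one -/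
theorem σ_eq_inv {g : B →+* B} (hg : IsLin K g) {l : L} (hl : l ≠ 0) {j : ℤ}
    (hU : D.U g = C l * T j) : D.σ l = l⁻¹ := by
  have h1 := D.U_mul_U' hg
  rw [← D.τ_U, hU, map_mul, τ_C, τ_T] at h1
  have h2 : C (l * D.σ l) * T 0 = C 1 * T 0 := by
    rw [map_one, T_zero, mul_one, map_mul, one_mul]
    calc C l * C (D.σ l) = C l * C (D.σ l) * T (j + -j) := by rw [add_neg_cancel, T_zero, mul_one]
      _ = C l * T j * (C (D.σ l) * T (-j)) := by rw [T_add]; ring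
      _ = 1 := h1
  have h3 := (C_mul_T_inj (mul_ne_zero hl (by
    intro h0
    rw [h0, mul_zero, map_zero, zero_mul] at h2
    exact (mul_ne_zero (by rw [map_one]; exact one_ne_zero) (T_ne_zero 0)) h2.symm)) h2).1
  exact eq_inv_of_mul_eq_one_right h3

theorem main (hK : ∀ n : ℕ, 0 < n → (Polynomial.X ^ n - 1 : Polynomial K).Splits)
    (D : ConicData K L B) (G : Subgroup (B ≃+* B)) [Finite G]
    (hG : ∀ g ∈ G, ∀ (k : K) (z : B), g (k • z) = k • g z) :
    (∀ g ∈ G, g ^ 2 = 1) ∧ Nat.card G ≤ 4 := by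
  classical
  have hlin : ∀ g : G, IsLin K (g : B ≃+* B).toRingHom := fun g k z => hG g g.2 k z
  have hmono : ∀ g : G, ∃ (l : L) (j : ℤ), l ≠ 0 ∧ D.U (g : B ≃+* B).toRingHom = C l * T j :=
    fun g => exists_eq_C_mul_T_of_isUnit (D.Uunit (hlin g)).isUnit
  choose lam deg hlam hU using hmono
  have hcomp : ∀ g h : G, ((g * h : G) : B ≃+* B).toRingHom =
      (g : B ≃+* B).toRingHom.comp (h : B ≃+* B).toRingHom := fun g h => rfl
  -- F1
  have h1 : lam 1 = 1 ∧ deg 1 = 1 := by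
    have := hU 1
    have hid : ((1 : G) : B ≃+* B).toRingHom = RingHom.id B := rfl
    rw [hid, D.U_id] at this
    have h' : C (1 : L) * T 1 = C (lam 1) * T (deg 1) := by rw [map_one, one_mul]; exact this
    obtain ⟨ha, hb⟩ := C_mul_T_inj one_ne_zero h'
    exact ⟨ha.symm, hb.symm⟩
  -- F2
  have h2 : ∀ g h : G, lam (g * h) = lam h * lam g ^ deg h ∧ deg (g * h) = deg g * deg h := by
    intro g h
    have := D.U_comp_monomial (hlin g) (hlam g) (hU g) (hU h)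
    rw [← hcomp, hU (g * h)] at this
    exact C_mul_T_inj (hlam _) this
  -- F3
  have h3 : ∀ g : G, deg g = 1 ∨ deg g = -1 := by
    intro g
    have := (h2 g g⁻¹).2
    rw [mul_inv_cancel, h1.2] at this
    exact Int.eq_one_or_neg_one_of_mul_eq_one this.symm
  -- F4
  have h4 : ∀ g h : G, lam g = lam h → deg g = deg h → g = h := by
    intro g h hl hd
    have := D.eq_of_U_eq (hlin g) (hlin h) (by rw [hU, hU, hl, hd])
    apply Subtype.ext
    apply RingEquiv.ext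
    intro z
    exact RingHom.congr_fun this z
  -- F5
  have h5 : ∀ g : G, D.σ (lam g) = (lam g)⁻¹ := fun g => D.σ_eq_inv (hlin g) (hlam g) (hU g)
  -- F6
  have h6 : ∀ g : G, deg g = 1 → lam g ^ 2 = 1 := by
    intro g hg
    have hpow : ∀ n : ℕ, lam (g ^ n) = lam g ^ n ∧ deg (g ^ n) = 1 := by
      intro n
      induction n with
      | zero => rw [pow_zero, pow_zero]; exact h1
      | succ n ih =>
        obtain ⟨ha, hb⟩ := h2 (g ^ n) g
        rw [pow_succ]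
        refine ⟨?_, by rw [hb, ih.2, hg, mul_one]⟩
        rw [ha, hg, zpow_one, ih.1, pow_succ, mul_comm]
    have hfin : IsOfFinOrder g := isOfFinOrder_of_finite g
    have hn : 0 < orderOf g := hfin.orderOf_pos
    have hroot : lam g ^ orderOf g = 1 := by
      rw [← (hpow (orderOf g)).1, pow_orderOf_eq_one, h1.1]
    obtain ⟨k, hk⟩ := rootOfUnity_mem_range hK (E := L) hn hroot
    have hσ : D.σ (lam g) = lam g := by rw [← hk, D.hσK]
    have := h5 g
    rw [hσ] at this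
    rw [pow_two]
    nth_rewrite 2 [this]
    exact mul_inv_cancel₀ (hlam g)
  -- F7
  have h7 : ∀ g : G, g * g = 1 := by
    intro g
    obtain ⟨ha, hb⟩ := h2 g g
    apply h4
    · rw [ha, h1.1]
      rcases h3 g with hd | hd
      · rw [hd, zpow_one, ← pow_two, h6 g hd]
      · rw [hd, zpow_neg, zpow_one, mul_inv_cancel₀ (hlam g)]
    · rw [hb, h1.2]
      rcases h3 g with hd | hd <;> rw [hd] <;> norm_num
  refine ⟨fun g hg => ?_, ?_⟩
  · have := h7 ⟨g, hg⟩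
    rw [pow_two]
    exact congrArg Subtype.val this
  · -- cardinality
    have hpm : ∀ g : G, deg g = 1 → lam g = 1 ∨ lam g = -1 := by
      intro g hg
      have := h6 g hg
      have h' : (lam g - 1) * (lam g + 1) = 0 := by ring_nf; rw [this]; ring
      rcases mul_eq_zero.mp h' with h'' | h''
      · left; exact sub_eq_zero.mp h''
      · right; exact eq_neg_of_add_eq_zero_left h''
    -- reference element of degree -1
    obtain ⟨l₀, hl₀⟩ : ∃ l₀ : L, ∀ g : G, deg g = -1 → lam g = l₀ ∨ lam g = -l₀ := by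
      by_cases hex : ∃ g₀ : G, deg g₀ = -1
      · obtain ⟨g₀, hg₀⟩ := hex
        refine ⟨lam g₀, fun g hg => ?_⟩
        obtain ⟨ha, hb⟩ := h2 g g₀
        rw [hg, hg₀] at hb
        rw [hg₀, zpow_neg, zpow_one] at ha
        have hb' : deg (g * g₀) = 1 := by rw [hb]; norm_num
        rcases hpm (g * g₀) hb' with h' | h'
        · left
          rw [h'] at ha
          have : lam g = lam g₀ := by
            field_simp [hlam g] at ha
            exact ha
          exact this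
        · right
          rw [h'] at ha
          have : lam g = -lam g₀ := by
            have hne := hlam g
            field_simp at ha
            linear_combination -ha
          exact this
      · exact ⟨1, fun g hg => absurd ⟨g, hg⟩ hex⟩
    let F : Finset (ℤ × L) := {(1, 1), (1, -1), (-1, l₀), (-1, -l₀)}
    have : Fintype G := Fintype.ofFinite G
    rw [Nat.card_eq_fintype_card, ← Finset.card_univ]
    calc (Finset.univ : Finset G).card ≤ F.card := by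
          apply Finset.card_le_card_of_injOn (fun g => (deg g, lam g))
          · intro g _
            simp only [F, Finset.coe_insert, Finset.coe_singleton, Set.mem_insert_iff,
              Set.mem_singleton_iff, Prod.mk.injEq]
            rcases h3 g with hd | hd
            · rcases hpm g hd with h' | h'
              · left; exact ⟨hd, h'⟩
              · right; left; exact ⟨hd, h'⟩
            · rcases hl₀ g hd with h' | h'
              · right; right; left; exact ⟨hd, h'⟩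
              · right; right; right; exact ⟨hd, h'⟩
          · intro g _ h _ hgh
            simp only [Prod.mk.injEq] at hgh
            exact h4 g h hgh.2 hgh.1
      _ ≤ 4 := Finset.card_le_four

end ConicData

end Groth.Agent.Lib.Seat70.ConicAut
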