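import Groth.Agent.Lib.Seat70ConicField
import Groth.Agent.Lib.Seat70ConicAut

/-! # The coordinate ring of the complement of a conjugate pair of points on the projective line,
embedded in Laurent polynomials over the quadratic extension -/

set_option autoImplicit false

namespace Groth.Agent.Lib.Seat70.ConicConcrete

open LaurentPolynomial
open Groth.Agent.Lib.Seat70.Laurent

attribute [local instance] MvPolynomial.gradedAlgebra

section EvInj

variable {L : Type*} [Field L]

/-- dehomogenisation `X 0 ↦ T`, `X 1 ↦ 1` -/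
noncomputable def ev : MvPolynomial (Fin 2) L →ₐ[L] L[T;T⁻¹] :=
  MvPolynomial.aeval ![T 1, 1]

theorem ev_monomial (d : Fin 2 →₀ ℕ) (r : L) :
    ev (MvPolynomial.monomial d r) = C r * T (d 0) := by
  unfold ev
  rw [MvPolynomial.aeval_monomial, Finsupp.prod_fintype _ _ (fun i => pow_zero _), Fin.prod_univ_two]
  simp only [Matrix.cons_val_zero, Matrix.cons_val_one, one_pow, mul_one, T_pow]
  rfl

theorem ev_injective_of_isHomogeneous {F : MvPolynomial (Fin 2) L} {m : ℕ} (hF : F.IsHomogeneous m)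
    (h0 : ev F = 0) : F = 0 := by
  classical
  by_contra hne
  obtain ⟨d₀, hd₀⟩ : F.support.Nonempty := by
    rw [Finset.nonempty_iff_ne_empty, Ne, MvPolynomial.support_eq_empty]; exact hne
  have hdeg : ∀ d ∈ F.support, d 0 + d 1 = m := by
    intro d hd
    by_contra hcon
    have : d.degree ≠ m := by rw [Finsupp.degree_eq_sum, Fin.sum_univ_two]; exact hcon
    exact (MvPolynomial.mem_support_iff.mp hd) (hF.coeff_eq_zero this)
  have hsum : ev F = ∑ d ∈ F.support, C (F.coeff d) * T (d 0) := by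
    conv_lhs => rw [← MvPolynomial.support_sum_monomial_coeff F]
    rw [map_sum]
    exact Finset.sum_congr rfl (fun d _ => ev_monomial d _)
  have hcoef := congrArg (fun p : L[T;T⁻¹] => p.coeff ((d₀ 0 : ℕ) : ℤ)) hsum
  simp only [h0, AddMonoidAlgebra.coeff_zero, Finsupp.coe_zero, Pi.zero_apply,
    AddMonoidAlgebra.coeff_sum, Finsupp.coe_finsetSum, Finset.sum_apply,
    ← single_eq_C_mul_T, AddMonoidAlgebra.coeff_single, Finsupp.single_apply] at hcoef
  rw [Finset.sum_eq_single d₀] at hcoef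
  · rw [if_pos rfl] at hcoef
    exact (MvPolynomial.mem_support_iff.mp hd₀) hcoef.symm
  · intro d hd hdne
    rw [if_neg]
    intro heq
    apply hdne
    have h1 := hdeg d hd
    have h2 := hdeg d₀ hd₀
    have h3 : d 0 = d₀ 0 := by exact_mod_cast heq
    ext i
    fin_cases i
    · exact h3
    · show d 1 = d₀ 1
      omega
  · intro h; exact absurd hd₀ h

end EvInj

variable {K : Type*} [Field K]

section Embedding

variable (a b c : K) [hirr : Fact (Irreducible (quad a b c))]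

/-- `1/(θ' - θ)` as a constant Laurent polynomial -/
noncomputable def uu : (QExt a b c)[T;T⁻¹] := C ((θ' a b c - θ a b c)⁻¹)

/-- image of `X 0` -/
noncomputable def x₀ : (QExt a b c)[T;T⁻¹] :=
  C (θ' a b c) * uu a b c * T 1 - C (θ a b c) * uu a b c

/-- image of `X 1` -/
noncomputable def y₀ : (QExt a b c)[T;T⁻¹] := uu a b c * (T 1 - 1)

/-- the evaluation map on polynomials -/
noncomputable def ι₀ : MvPolynomial (Fin 2) K →ₐ[K] (QExt a b c)[T;T⁻¹] :=
  MvPolynomial.aeval ![x₀ a b c, y₀ a b c]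

theorem ι₀_X0 : ι₀ a b c (MvPolynomial.X 0) = x₀ a b c := by
  unfold ι₀; rw [MvPolynomial.aeval_X]; rfl

theorem ι₀_X1 : ι₀ a b c (MvPolynomial.X 1) = y₀ a b c := by
  unfold ι₀; rw [MvPolynomial.aeval_X]; rfl

theorem ι₀_C (k : K) : ι₀ a b c (MvPolynomial.C k) = C (algebraMap K (QExt a b c) k) := by
  unfold ι₀; rw [MvPolynomial.aeval_C]; rfl

/-- linear change of variables over `L` -/
noncomputable def ψ : MvPolynomial (Fin 2) (QExt a b c) →ₐ[QExt a b c] MvPolynomial (Fin 2) (QExt a b c) :=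
  MvPolynomial.aeval ![MvPolynomial.C (θ' a b c) * MvPolynomial.C ((θ' a b c - θ a b c)⁻¹) *
      MvPolynomial.X 0 -
      MvPolynomial.C (θ a b c) * MvPolynomial.C ((θ' a b c - θ a b c)⁻¹) * MvPolynomial.X 1,
    MvPolynomial.C ((θ' a b c - θ a b c)⁻¹) * MvPolynomial.X 0 -
      MvPolynomial.C ((θ' a b c - θ a b c)⁻¹) * MvPolynomial.X 1]

/-- inverse change of variables -/
noncomputable def ψ' : MvPolynomial (Fin 2) (QExt a b c) →ₐ[QExt a b c] MvPolynomial (Fin 2) (QExt a b c) :=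
  MvPolynomial.aeval ![MvPolynomial.X 0 - MvPolynomial.C (θ a b c) * MvPolynomial.X 1,
    MvPolynomial.X 0 - MvPolynomial.C (θ' a b c) * MvPolynomial.X 1]

variable {a b c}

theorem uu_spec (hne : θ a b c ≠ θ' a b c) :
    (C (θ' a b c) - C (θ a b c)) * uu a b c = 1 := by
  unfold uu
  rw [← map_sub, ← map_mul, mul_inv_cancel₀ (sub_ne_zero.mpr hne.symm), map_one]

theorem x_sub_θ (hne : θ a b c ≠ θ' a b c) : x₀ a b c - C (θ a b c) * y₀ a b c = T 1 := by
  unfold x₀ y₀
  linear_combination (T 1) * uu_spec hne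

theorem x_sub_θ' (hne : θ a b c ≠ θ' a b c) : x₀ a b c - C (θ' a b c) * y₀ a b c = 1 := by
  unfold x₀ y₀
  linear_combination uu_spec hne

theorem ι₀_q (ha : a ≠ 0) (hne : θ a b c ≠ θ' a b c) {q : MvPolynomial (Fin 2) K}
    (hq : q = MvPolynomial.C a * MvPolynomial.X 0 ^ 2 +
      MvPolynomial.C b * (MvPolynomial.X 0 * MvPolynomial.X 1) +
      MvPolynomial.C c * MvPolynomial.X 1 ^ 2) :
    ι₀ a b c q = C (algebraMap K (QExt a b c) a) * T 1 := by
  rw [hq]
  simp only [map_add, map_mul, map_pow, ι₀_X0, ι₀_X1, ι₀_C]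
  have h1 := congrArg (C : QExt a b c →+* (QExt a b c)[T;T⁻¹]) (hsum b c ha)
  have h2 := congrArg (C : QExt a b c →+* (QExt a b c)[T;T⁻¹]) (hprod b c ha)
  simp only [map_add, map_mul, map_neg] at h1 h2
  have h3 := x_sub_θ hne
  have h4 := x_sub_θ' hne
  have : C (algebraMap K (QExt a b c) a) * T 1 = C (algebraMap K (QExt a b c) a) *
      ((x₀ a b c - C (θ a b c) * y₀ a b c) * (x₀ a b c - C (θ' a b c) * y₀ a b c)) := by
    rw [h3, h4, mul_one]
  rw [this]
  linear_combination (x₀ a b c * y₀ a b c) * h1 - (y₀ a b c) ^ 2 * h2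

theorem isUnit_ι₀_q (ha : a ≠ 0) (hne : θ a b c ≠ θ' a b c) {q : MvPolynomial (Fin 2) K}
    (hq : q = MvPolynomial.C a * MvPolynomial.X 0 ^ 2 +
      MvPolynomial.C b * (MvPolynomial.X 0 * MvPolynomial.X 1) +
      MvPolynomial.C c * MvPolynomial.X 1 ^ 2) : IsUnit (ι₀ a b c q) := by
  rw [ι₀_q ha hne hq]
  exact IsUnit.mul (IsUnit.map _ (IsUnit.mk0 _ (alg_a_ne b c ha))) (isUnit_T 1)

theorem ψ'_ψ (hne : θ a b c ≠ θ' a b c) (F : MvPolynomial (Fin 2) (QExt a b c)) :
    ψ' a b c (ψ a b c F) = F := by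
  have hδ : θ' a b c - θ a b c ≠ 0 := sub_ne_zero.mpr hne.symm
  have e : (MvPolynomial.C ((θ' a b c - θ a b c)⁻¹) *
      (MvPolynomial.C (θ' a b c) - MvPolynomial.C (θ a b c)) :
      MvPolynomial (Fin 2) (QExt a b c)) = 1 := by
    rw [← map_sub, ← map_mul, inv_mul_cancel₀ hδ, map_one]
  have h : (ψ' a b c).comp (ψ a b c) = AlgHom.id _ _ := by
    apply MvPolynomial.algHom_ext
    intro i
    fin_cases i
    · simp only [ψ, ψ', AlgHom.comp_apply, MvPolynomial.aeval_X, Fin.zero_eta, Matrix.cons_val_zero,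
        map_sub, map_mul, MvPolynomial.aeval_C, MvPolynomial.algebraMap_eq, AlgHom.id_apply,
        Fin.isValue, Matrix.cons_val_one]
      linear_combination (MvPolynomial.X 0) * e
    · simp only [ψ, ψ', AlgHom.comp_apply, MvPolynomial.aeval_X, Fin.mk_one, Matrix.cons_val_one,
        Matrix.cons_val_zero, map_sub, map_mul, MvPolynomial.aeval_C, MvPolynomial.algebraMap_eq,
        AlgHom.id_apply, Fin.isValue]
      linear_combination (MvPolynomial.X 1) * e
  exact AlgHom.congr_fun h F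

theorem ψ_isHomogeneous {F : MvPolynomial (Fin 2) (QExt a b c)} {m : ℕ} (hF : F.IsHomogeneous m) :
    (ψ a b c F).IsHomogeneous m := by
  have := hF.aeval (S := QExt a b c) (n := 1)
    (![MvPolynomial.C (θ' a b c) * MvPolynomial.C ((θ' a b c - θ a b c)⁻¹) *
      MvPolynomial.X 0 -
      MvPolynomial.C (θ a b c) * MvPolynomial.C ((θ' a b c - θ a b c)⁻¹) * MvPolynomial.X 1,
    MvPolynomial.C ((θ' a b c - θ a b c)⁻¹) * MvPolynomial.X 0 -
      MvPolynomial.C ((θ' a b c - θ a b c)⁻¹) * MvPolynomial.X 1] :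
      Fin 2 → MvPolynomial (Fin 2) (QExt a b c)) (by
      intro i
      fin_cases i
      · simp only [Fin.zero_eta, Matrix.cons_val_zero, ← map_mul]
        exact ((MvPolynomial.isHomogeneous_C_mul_X _ _)).sub (MvPolynomial.isHomogeneous_C_mul_X _ _)
      · simp only [Fin.mk_one, Matrix.cons_val_one, Matrix.cons_val_zero]
        exact ((MvPolynomial.isHomogeneous_C_mul_X _ _)).sub (MvPolynomial.isHomogeneous_C_mul_X _ _))
  rw [one_mul] at this
  unfold ψ
  exact this

theorem ι₀_eq (f : MvPolynomial (Fin 2) K) :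
    ι₀ a b c f = ev (ψ a b c (MvPolynomial.map (algebraMap K (QExt a b c)) f)) := by
  have h : (ι₀ a b c).toRingHom = ((ev.comp (ψ a b c)).toRingHom).comp
      (MvPolynomial.map (algebraMap K (QExt a b c))) := by
    apply MvPolynomial.ringHom_ext
    · intro k
      simp only [AlgHom.toRingHom_eq_coe, RingHom.coe_coe, RingHom.coe_comp, Function.comp_apply,
        MvPolynomial.map_C, AlgHom.comp_apply]
      rw [← MvPolynomial.algebraMap_eq, ← MvPolynomial.algebraMap_eq, AlgHom.commutes, AlgHom.commutes,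
        AlgHom.commutes, LaurentPolynomial.algebraMap_apply, LaurentPolynomial.algebraMap_apply]
      rfl
    · intro i
      fin_cases i
      · simp [ι₀, ψ, ev, x₀, uu, MvPolynomial.aeval_X, MvPolynomial.map_X]
      · simp [ι₀, ψ, ev, y₀, uu, MvPolynomial.aeval_X, MvPolynomial.map_X]
        ring
  exact RingHom.congr_fun h f

/-- the graded pieces -/
abbrev 𝒜 (K : Type*) [Field K] : ℕ → Submodule K (MvPolynomial (Fin 2) K) :=
  MvPolynomial.homogeneousSubmodule (Fin 2) K

/-- the extension to the localization -/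
noncomputable def ιloc (ha : a ≠ 0) (hne : θ a b c ≠ θ' a b c) {q : MvPolynomial (Fin 2) K}
    (hq : q = MvPolynomial.C a * MvPolynomial.X 0 ^ 2 +
      MvPolynomial.C b * (MvPolynomial.X 0 * MvPolynomial.X 1) +
      MvPolynomial.C c * MvPolynomial.X 1 ^ 2) :
    Localization.Away q →ₐ[K] (QExt a b c)[T;T⁻¹] :=
  IsLocalization.Away.liftAlgHom q (f := ι₀ a b c) (isUnit_ι₀_q ha hne hq)

theorem ιloc_algebraMap (ha : a ≠ 0) (hne : θ a b c ≠ θ' a b c) {q : MvPolynomial (Fin 2) K}
    (hq : q = MvPolynomial.C a * MvPolynomial.X 0 ^ 2 +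
      MvPolynomial.C b * (MvPolynomial.X 0 * MvPolynomial.X 1) +
      MvPolynomial.C c * MvPolynomial.X 1 ^ 2) (f : MvPolynomial (Fin 2) K) :
    ιloc ha hne hq (algebraMap _ (Localization.Away q) f) = ι₀ a b c f := by
  unfold ιloc
  exact IsLocalization.Away.lift_eq q (g := (ι₀ a b c).toRingHom) (isUnit_ι₀_q ha hne hq) f

/-- the embedding of the degree zero localization -/
noncomputable def ι (ha : a ≠ 0) (hne : θ a b c ≠ θ' a b c) {q : MvPolynomial (Fin 2) K}
    (hq : q = MvPolynomial.C a * MvPolynomial.X 0 ^ 2 +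
      MvPolynomial.C b * (MvPolynomial.X 0 * MvPolynomial.X 1) +
      MvPolynomial.C c * MvPolynomial.X 1 ^ 2) :
    HomogeneousLocalization.Away (𝒜 K) q →+* (QExt a b c)[T;T⁻¹] :=
  (ιloc ha hne hq).toRingHom.comp (algebraMap _ (Localization.Away q))

theorem ι_apply (ha : a ≠ 0) (hne : θ a b c ≠ θ' a b c) {q : MvPolynomial (Fin 2) K}
    (hq : q = MvPolynomial.C a * MvPolynomial.X 0 ^ 2 +
      MvPolynomial.C b * (MvPolynomial.X 0 * MvPolynomial.X 1) +
      MvPolynomial.C c * MvPolynomial.X 1 ^ 2) (z : HomogeneousLocalization.Away (𝒜 K) q) :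
    ι ha hne hq z = ιloc ha hne hq z.val := rfl

theorem ι_smul (ha : a ≠ 0) (hne : θ a b c ≠ θ' a b c) {q : MvPolynomial (Fin 2) K}
    (hq : q = MvPolynomial.C a * MvPolynomial.X 0 ^ 2 +
      MvPolynomial.C b * (MvPolynomial.X 0 * MvPolynomial.X 1) +
      MvPolynomial.C c * MvPolynomial.X 1 ^ 2) (k : K) (z : HomogeneousLocalization.Away (𝒜 K) q) :
    ι ha hne hq (k • z) = C (algebraMap K (QExt a b c) k) * ι ha hne hq z := by
  rw [ι_apply, ι_apply, HomogeneousLocalization.val_smul, map_smul, Algebra.smul_def,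
    LaurentPolynomial.algebraMap_apply]

theorem ι_mk (ha : a ≠ 0) (hne : θ a b c ≠ θ' a b c) {q : MvPolynomial (Fin 2) K}
    (hq : q = MvPolynomial.C a * MvPolynomial.X 0 ^ 2 +
      MvPolynomial.C b * (MvPolynomial.X 0 * MvPolynomial.X 1) +
      MvPolynomial.C c * MvPolynomial.X 1 ^ 2) (hqd : q ∈ 𝒜 K 2) (n : ℕ)
    (f : MvPolynomial (Fin 2) K) (hf : f ∈ 𝒜 K (n • 2)) :
    ι ha hne hq (HomogeneousLocalization.Away.mk (𝒜 K) hqd n f hf) * (ι₀ a b c q) ^ n =
      ι₀ a b c f := by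
  rw [ι_apply, HomogeneousLocalization.Away.val_mk, ← ιloc_algebraMap ha hne hq q,
    ← ιloc_algebraMap ha hne hq f, ← map_pow, ← map_mul, ← map_pow, Localization.mk_eq_mk']
  congr 1
  exact IsLocalization.mk'_spec (M := Submonoid.powers q) (Localization.Away q) f
    ⟨q ^ n, ⟨n, rfl⟩⟩

end Embedding

end Groth.Agent.Lib.Seat70.ConicConcrete
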