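import Mathlib

/-! # Binary quadratic forms: explicit form, irreducibility, the quadratic extension -/

set_option autoImplicit false

namespace Groth.Agent.Lib.Seat70.ConicConcrete

section MvPoly

open MvPolynomial

variable {K : Type*} [Field K]

theorem finsupp_fin2_cases (m : Fin 2 →₀ ℕ) (h : m 0 + m 1 = 2) :
    m = Finsupp.single 0 2 ∨ m = Finsupp.single 0 1 + Finsupp.single 1 1 ∨ m = Finsupp.single 1 2 := by
  have h0 : m 0 = 2 ∧ m 1 = 0 ∨ m 0 = 1 ∧ m 1 = 1 ∨ m 0 = 0 ∧ m 1 = 2 := by omega
  rcases h0 with ⟨ha, hb⟩ | ⟨ha, hb⟩ | ⟨ha, hb⟩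
  · left
    ext i; fin_cases i <;> simp [ha, hb]
  · right; left
    ext i; fin_cases i <;> simp [ha, hb]
  · right; right
    ext i; fin_cases i <;> simp [ha, hb]

theorem eq_of_isHomogeneous_two (q : MvPolynomial (Fin 2) K) (hq : q.IsHomogeneous 2) :
    q = C (q.coeff (Finsupp.single 0 2)) * X 0 ^ 2 +
      C (q.coeff (Finsupp.single 0 1 + Finsupp.single 1 1)) * (X 0 * X 1) +
      C (q.coeff (Finsupp.single 1 2)) * X 1 ^ 2 := by
  have e1 : (C (q.coeff (Finsupp.single 0 2)) * X 0 ^ 2 : MvPolynomial (Fin 2) K) =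
      monomial (Finsupp.single 0 2) (q.coeff (Finsupp.single 0 2)) := by
    rw [C_mul_X_pow_eq_monomial]
  have e3 : (C (q.coeff (Finsupp.single 1 2)) * X 1 ^ 2 : MvPolynomial (Fin 2) K) =
      monomial (Finsupp.single 1 2) (q.coeff (Finsupp.single 1 2)) := by
    rw [C_mul_X_pow_eq_monomial]
  have e2 : (C (q.coeff (Finsupp.single 0 1 + Finsupp.single 1 1)) * (X 0 * X 1) :
      MvPolynomial (Fin 2) K) =
      monomial (Finsupp.single 0 1 + Finsupp.single 1 1)
        (q.coeff (Finsupp.single 0 1 + Finsupp.single 1 1)) := by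
    rw [X, X, monomial_mul, C_mul_monomial, mul_one, mul_one]
  rw [e1, e2, e3]
  ext m
  simp only [coeff_add, coeff_monomial]
  by_cases hdeg : m 0 + m 1 = 2
  · rcases finsupp_fin2_cases m hdeg with rfl | rfl | rfl
    · have h1 : (Finsupp.single (0 : Fin 2) 1 + Finsupp.single 1 1 : Fin 2 →₀ ℕ) ≠
          Finsupp.single 0 2 := by
        intro h; have := DFunLike.congr_fun h 1; simp at this
      have h2 : (Finsupp.single (1 : Fin 2) 2 : Fin 2 →₀ ℕ) ≠ Finsupp.single 0 2 := by
        intro h; have := DFunLike.congr_fun h 1; simp at this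
      rw [if_pos rfl, if_neg h1, if_neg h2, add_zero, add_zero]
    · have h1 : (Finsupp.single (0 : Fin 2) 2 : Fin 2 →₀ ℕ) ≠
          Finsupp.single 0 1 + Finsupp.single 1 1 := by
        intro h; have := DFunLike.congr_fun h 1; simp at this
      have h2 : (Finsupp.single (1 : Fin 2) 2 : Fin 2 →₀ ℕ) ≠
          Finsupp.single 0 1 + Finsupp.single 1 1 := by
        intro h; have := DFunLike.congr_fun h 0; simp at this
      rw [if_neg h1, if_pos rfl, if_neg h2, zero_add, add_zero]
    · have h1 : (Finsupp.single (0 : Fin 2) 2 : Fin 2 →₀ ℕ) ≠ Finsupp.single 1 2 := by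
        intro h; have := DFunLike.congr_fun h 0; simp at this
      have h2 : (Finsupp.single (0 : Fin 2) 1 + Finsupp.single 1 1 : Fin 2 →₀ ℕ) ≠
          Finsupp.single 1 2 := by
        intro h; have := DFunLike.congr_fun h 0; simp at this
      rw [if_neg h1, if_neg h2, if_pos rfl, zero_add, zero_add]
  · have hm : m.degree ≠ 2 := by
      rw [Finsupp.degree_eq_sum, Fin.sum_univ_two]; exact hdeg
    rw [hq.coeff_eq_zero hm]
    have h1 : (Finsupp.single (0 : Fin 2) 2 : Fin 2 →₀ ℕ) ≠ m := by
      rintro rfl; apply hdeg; simp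
    have h2 : (Finsupp.single (0 : Fin 2) 1 + Finsupp.single 1 1 : Fin 2 →₀ ℕ) ≠ m := by
      rintro rfl; apply hdeg; simp
    have h3 : (Finsupp.single (1 : Fin 2) 2 : Fin 2 →₀ ℕ) ≠ m := by
      rintro rfl; apply hdeg; simp
    rw [if_neg h1, if_neg h2, if_neg h3, add_zero, add_zero]

theorem not_isUnit_linear (α β : K) (h : α ≠ 0 ∨ β ≠ 0) :
    ¬ IsUnit (C α * X 0 + C β * X 1 : MvPolynomial (Fin 2) K) := by
  intro hu
  obtain ⟨r, -, heq⟩ := isUnit_iff_eq_C_of_isReduced.mp hu
  have h0 := congrArg (coeff (Finsupp.single (0 : Fin 2) 1)) heq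
  have h1 := congrArg (coeff (Finsupp.single (1 : Fin 2) 1)) heq
  have e0 : (0 : Fin 2 →₀ ℕ) ≠ Finsupp.single (0 : Fin 2) 1 := by
    intro h; have := DFunLike.congr_fun h 0; simp at this
  have e1 : (0 : Fin 2 →₀ ℕ) ≠ Finsupp.single (1 : Fin 2) 1 := by
    intro h; have := DFunLike.congr_fun h 1; simp at this
  have e01 : (Finsupp.single (1 : Fin 2) 1 : Fin 2 →₀ ℕ) ≠ Finsupp.single (0 : Fin 2) 1 := by
    intro h; have := DFunLike.congr_fun h 0; simp at this
  simp only [coeff_add, coeff_C_mul, coeff_X, coeff_C, if_neg e0, if_neg e1, if_neg e01,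
    if_neg e01.symm, if_true, mul_one, mul_zero, add_zero, zero_add] at h0 h1
  rcases h with h | h
  · exact h h0
  · exact h h1

theorem ne_zero_and_no_root {a b c : K} {q : MvPolynomial (Fin 2) K}
    (hq : q = C a * X 0 ^ 2 + C b * (X 0 * X 1) + C c * X 1 ^ 2) (hirr : Irreducible q) :
    a ≠ 0 ∧ ∀ r : K, a * r ^ 2 + b * r + c ≠ 0 := by
  have ha : a ≠ 0 := by
    rintro rfl
    have hfac : q = (C 0 * X 0 + C 1 * X 1) * (C b * X 0 + C c * X 1) := by
      rw [hq]; simp only [map_zero, map_one]; ring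
    rcases hirr.isUnit_or_isUnit hfac with h | h
    · exact not_isUnit_linear 0 1 (Or.inr one_ne_zero) h
    · refine not_isUnit_linear b c ?_ h
      by_contra hbc
      rw [not_or, not_not, not_not] at hbc
      apply hirr.ne_zero
      rw [hq, hbc.1, hbc.2]; simp
  refine ⟨ha, fun r hr => ?_⟩
  have hfac : q = (C 1 * X 0 + C (-r) * X 1) * (C a * X 0 + C (a * r + b) * X 1) := by
    have hc : c = -(a * r ^ 2 + b * r) := by linear_combination hr
    rw [hq, hc]
    simp only [map_neg, map_add, map_mul, map_pow, map_one]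
    ring
  rcases hirr.isUnit_or_isUnit hfac with h | h
  · exact not_isUnit_linear 1 (-r) (Or.inl one_ne_zero) h
  · exact not_isUnit_linear a (a * r + b) (Or.inl ha) h

open Polynomial in
theorem irreducible_quadratic {a b c : K} (ha : a ≠ 0) (hroot : ∀ r : K, a * r ^ 2 + b * r + c ≠ 0) :
    Irreducible (Polynomial.C a * Polynomial.X ^ 2 + Polynomial.C b * Polynomial.X +
      Polynomial.C c : K[X]) := by
  apply Polynomial.irreducible_of_degree_le_three_of_not_isRoot
  · rw [Polynomial.natDegree_quadratic ha]; simp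
  · intro x hx
    apply hroot x
    simpa [Polynomial.IsRoot] using hx

end MvPoly

section Quad

open Polynomial

variable {K : Type*} [Field K]

/-- the dehomogenised quadratic -/
noncomputable def quad (a b c : K) : K[X] := C a * X ^ 2 + C b * X + C c

theorem eval₂_quad {S : Type*} [CommRing S] (a b c : K) (i : K →+* S) (x : S) :
    (quad a b c).eval₂ i x = i a * x ^ 2 + i b * x + i c := by
  unfold quad
  simp only [eval₂_add, eval₂_mul, eval₂_pow, eval₂_C, eval₂_X]

section Field

variable (a b c : K) [hirr : Fact (Irreducible (quad a b c))]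

/-- the quadratic extension -/
abbrev QExt : Type _ := AdjoinRoot (quad a b c)

/-- the root -/
noncomputable def θ : QExt a b c := AdjoinRoot.root (quad a b c)

/-- the conjugate root -/
noncomputable def θ' : QExt a b c :=
  -(algebraMap K (QExt a b c) b) / (algebraMap K (QExt a b c) a) - θ a b c

theorem root_eq : algebraMap K (QExt a b c) a * θ a b c ^ 2 + algebraMap K (QExt a b c) b * θ a b c +
    algebraMap K (QExt a b c) c = 0 := by
  have := AdjoinRoot.eval₂_root (quad a b c)
  rw [eval₂_quad] at this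
  exact this

variable {a} in
theorem alg_a_ne (ha : a ≠ 0) : algebraMap K (QExt a b c) a ≠ 0 := by
  rwa [Ne, map_eq_zero]

variable {a} in
theorem hsum (ha : a ≠ 0) :
    algebraMap K (QExt a b c) a * (θ a b c + θ' a b c) = -algebraMap K (QExt a b c) b := by
  unfold θ'
  have := alg_a_ne b c ha
  field_simp
  ring

variable {a} in
theorem hprod (ha : a ≠ 0) :
    algebraMap K (QExt a b c) a * (θ a b c * θ' a b c) = algebraMap K (QExt a b c) c := by
  unfold θ'
  have := alg_a_ne b c ha
  have h := root_eq a b c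
  field_simp
  linear_combination -h

variable {a} in
theorem root'_eq (ha : a ≠ 0) : algebraMap K (QExt a b c) a * θ' a b c ^ 2 +
    algebraMap K (QExt a b c) b * θ' a b c + algebraMap K (QExt a b c) c = 0 := by
  have h1 := hsum b c ha
  have h2 := hprod b c ha
  have h := root_eq a b c
  -- a θ'^2 + b θ' + c = a θ'^2 - a(θ+θ')θ' + a θ θ' = 0
  linear_combination (θ' a b c) * h1 - h2

variable {a} in
theorem hne (ha : a ≠ 0) (hdisc : b ^ 2 - 4 * a * c ≠ 0) : θ a b c ≠ θ' a b c := by
  intro heq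
  have h1 := hsum b c ha
  have h2 := hprod b c ha
  rw [← heq] at h1 h2
  have : algebraMap K (QExt a b c) (b ^ 2 - 4 * a * c) = 0 := by
    simp only [map_sub, map_mul, map_pow, map_ofNat]
    linear_combination (algebraMap K (QExt a b c) b - 2 * algebraMap K (QExt a b c) a * θ a b c) * h1
      + 4 * algebraMap K (QExt a b c) a * h2
  rw [map_eq_zero] at this
  exact hdisc this

variable {a} in
/-- the conjugation -/
noncomputable def σ (ha : a ≠ 0) : QExt a b c →ₐ[K] QExt a b c :=
  AdjoinRoot.liftAlgHom (quad a b c) (Algebra.ofId K (QExt a b c)) (θ' a b c) (by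
    have := root'_eq b c ha
    rw [eval₂_quad]
    exact this)

variable {a} in
theorem σ_θ (ha : a ≠ 0) : σ b c ha (θ a b c) = θ' a b c := by
  unfold σ θ
  rw [AdjoinRoot.liftAlgHom_root]

variable {a} in
theorem σ_θ' (ha : a ≠ 0) : σ b c ha (θ' a b c) = θ a b c := by
  conv_lhs => unfold θ'
  rw [map_sub, map_div₀, map_neg, AlgHom.commutes, AlgHom.commutes, σ_θ]
  unfold θ'
  ring

end Field

end Quad

end Groth.Agent.Lib.Seat70.ConicConcrete
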