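import Groth.Agent.Lib.Seat70ConicEmbed

/-! # Finite groups of automorphisms of the complement of a conjugate pair of points of the
projective line (over a field containing all roots of unity) -/

set_option autoImplicit false

namespace Groth.Agent.Lib.Seat70.ConicConcrete

open LaurentPolynomial
open Groth.Agent.Lib.Seat70.Laurent
open Groth.Agent.Lib.Seat70.ConicAut

attribute [local instance] MvPolynomial.gradedAlgebra

variable {K : Type*} [Field K]

section Alg

variable (q : MvPolynomial (Fin 2) K)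

/-- the `K`-algebra structure on the degree zero localization extending the scalar action -/
@[reducible] noncomputable def algK : Algebra K (HomogeneousLocalization.Away (𝒜 K) q) :=
  { (inferInstance : SMul K (HomogeneousLocalization.Away (𝒜 K) q)) with
    algebraMap :=
      { toFun := fun k => k • 1
        map_one' := by
          apply HomogeneousLocalization.val_injective
          rw [HomogeneousLocalization.val_smul, one_smul]
        map_mul' := fun k l => by
          apply HomogeneousLocalization.val_injective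
          rw [HomogeneousLocalization.val_mul, HomogeneousLocalization.val_smul,
            HomogeneousLocalization.val_smul, HomogeneousLocalization.val_smul,
            HomogeneousLocalization.val_one, smul_mul_smul_comm, mul_one]
        map_zero' := by
          apply HomogeneousLocalization.val_injective
          rw [HomogeneousLocalization.val_smul, zero_smul, HomogeneousLocalization.val_zero]
        map_add' := fun k l => by
          apply HomogeneousLocalization.val_injective
          rw [HomogeneousLocalization.val_add, HomogeneousLocalization.val_smul,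
            HomogeneousLocalization.val_smul, HomogeneousLocalization.val_smul, add_smul] }
    commutes' := fun _ _ => mul_comm _ _
    smul_def' := fun k z => by
      apply HomogeneousLocalization.val_injective
      change (k • z).val = ((k • (1 : HomogeneousLocalization.Away (𝒜 K) q)) * z).val
      rw [HomogeneousLocalization.val_mul, HomogeneousLocalization.val_smul,
        HomogeneousLocalization.val_smul, HomogeneousLocalization.val_one, smul_mul_assoc, one_mul] }

end Alg

attribute [local instance] algK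

section Final

variable {a b c : K} [hirr : Fact (Irreducible (quad a b c))]
variable (ha : a ≠ 0) (hne : θ a b c ≠ θ' a b c) {q : MvPolynomial (Fin 2) K}
  (hq : q = MvPolynomial.C a * MvPolynomial.X 0 ^ 2 +
      MvPolynomial.C b * (MvPolynomial.X 0 * MvPolynomial.X 1) +
      MvPolynomial.C c * MvPolynomial.X 1 ^ 2) (hqd : q ∈ 𝒜 K 2)

include hqd in
theorem ι_injective : Function.Injective (ι ha hne hq) := by
  rw [injective_iff_map_eq_zero]
  intro z hz
  obtain ⟨n, f, hf, rfl⟩ := HomogeneousLocalization.Away.mk_surjective (𝒜 K) hqd z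
  have h1 := ι_mk ha hne hq hqd n f hf
  rw [hz, zero_mul] at h1
  have hfh : f.IsHomogeneous (n • 2) := (MvPolynomial.mem_homogeneousSubmodule _ _).mp hf
  have h2 : ψ a b c (MvPolynomial.map (algebraMap K (QExt a b c)) f) = 0 :=
    ev_injective_of_isHomogeneous (ψ_isHomogeneous (hfh.map _)) (by rw [← ι₀_eq, ← h1])
  have h3 : MvPolynomial.map (algebraMap K (QExt a b c)) f = 0 := by
    rw [← ψ'_ψ hne (MvPolynomial.map (algebraMap K (QExt a b c)) f), h2, map_zero]
  have h4 : f = 0 := by
    apply MvPolynomial.map_injective _ (algebraMap K (QExt a b c)).injective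
    rw [h3, map_zero]
  subst h4
  apply HomogeneousLocalization.val_injective
  rw [HomogeneousLocalization.Away.val_mk, HomogeneousLocalization.val_zero, Localization.mk_zero]

end Final

section Gens

variable {q : MvPolynomial (Fin 2) K} (hqd : q ∈ 𝒜 K 2)

theorem X0sq_mem : (MvPolynomial.X 0 ^ 2 : MvPolynomial (Fin 2) K) ∈ 𝒜 K (1 • 2) := by
  rw [MvPolynomial.mem_homogeneousSubmodule]
  exact (MvPolynomial.isHomogeneous_X K 0).pow 2

theorem X0X1_mem : (MvPolynomial.X 0 * MvPolynomial.X 1 : MvPolynomial (Fin 2) K) ∈ 𝒜 K (1 • 2) := by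
  rw [MvPolynomial.mem_homogeneousSubmodule]
  exact (MvPolynomial.isHomogeneous_X K 0).mul (MvPolynomial.isHomogeneous_X K 1)

theorem X1sq_mem : (MvPolynomial.X 1 ^ 2 : MvPolynomial (Fin 2) K) ∈ 𝒜 K (1 • 2) := by
  rw [MvPolynomial.mem_homogeneousSubmodule]
  exact (MvPolynomial.isHomogeneous_X K 1).pow 2

/-- `x²/q` -/
noncomputable def gX₀ : HomogeneousLocalization.Away (𝒜 K) q :=
  HomogeneousLocalization.Away.mk (𝒜 K) hqd 1 (MvPolynomial.X 0 ^ 2) X0sq_mem

/-- `xy/q` -/
noncomputable def gX₁ : HomogeneousLocalization.Away (𝒜 K) q :=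
  HomogeneousLocalization.Away.mk (𝒜 K) hqd 1 (MvPolynomial.X 0 * MvPolynomial.X 1) X0X1_mem

/-- `y²/q` -/
noncomputable def gX₂ : HomogeneousLocalization.Away (𝒜 K) q :=
  HomogeneousLocalization.Away.mk (𝒜 K) hqd 1 (MvPolynomial.X 1 ^ 2) X1sq_mem

/-- `q ^ n` as an element of the submonoid of powers -/
noncomputable def qpow (q : MvPolynomial (Fin 2) K) (n : ℕ) : Submonoid.powers q := ⟨q ^ n, n, rfl⟩

theorem qpow_succ (n : ℕ) : qpow q (n + 1) = qpow q 1 * qpow q n := by
  apply Subtype.ext
  show q ^ (n + 1) = q ^ 1 * q ^ n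
  rw [pow_one, pow_succ']

theorem val_gX₀ : (gX₀ hqd).val = Localization.mk (MvPolynomial.X 0 ^ 2) (qpow q 1) := rfl
theorem val_gX₁ : (gX₁ hqd).val =
    Localization.mk (MvPolynomial.X 0 * MvPolynomial.X 1) (qpow q 1) := rfl
theorem val_gX₂ : (gX₂ hqd).val = Localization.mk (MvPolynomial.X 1 ^ 2) (qpow q 1) := rfl

theorem gen_monomial (S : Subring (HomogeneousLocalization.Away (𝒜 K) q))
    (h0 : gX₀ hqd ∈ S) (h1 : gX₁ hqd ∈ S) (h2 : gX₂ hqd ∈ S) :
    ∀ (n i j : ℕ), i + j = 2 * n → ∃ z ∈ S, z.val =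
      Localization.mk (MvPolynomial.X 0 ^ i * MvPolynomial.X 1 ^ j) (qpow q n) := by
  intro n
  induction n with
  | zero =>
    intro i j hij
    have hi : i = 0 := by omega
    have hj : j = 0 := by omega
    subst hi hj
    refine ⟨1, S.one_mem, ?_⟩
    rw [HomogeneousLocalization.val_one, pow_zero, pow_zero, mul_one]
    exact (Localization.mk_one).symm
  | succ n ih =>
    intro i j hij
    by_cases hi : 2 ≤ i
    · obtain ⟨z, hz, hzv⟩ := ih (i - 2) j (by omega)
      refine ⟨gX₀ hqd * z, S.mul_mem h0 hz, ?_⟩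
      rw [HomogeneousLocalization.val_mul, hzv, val_gX₀, Localization.mk_mul, qpow_succ n]
      congr 1
      rw [← mul_assoc, ← pow_add]
      congr 2
      omega
    · by_cases hj : 2 ≤ j
      · obtain ⟨z, hz, hzv⟩ := ih i (j - 2) (by omega)
        refine ⟨gX₂ hqd * z, S.mul_mem h2 hz, ?_⟩
        rw [HomogeneousLocalization.val_mul, hzv, val_gX₂, Localization.mk_mul, qpow_succ n]
        congr 1
        rw [mul_left_comm, ← pow_add]
        congr 2
        omega
      · have hi1 : i = 1 := by omega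
        have hj1 : j = 1 := by omega
        have hn : n = 0 := by omega
        subst hi1 hj1 hn
        refine ⟨gX₁ hqd, h1, ?_⟩
        rw [val_gX₁, pow_one, pow_one]

theorem gen (S : Subring (HomogeneousLocalization.Away (𝒜 K) q))
    (hK : ∀ k : K, algebraMap K _ k ∈ S)
    (h0 : gX₀ hqd ∈ S) (h1 : gX₁ hqd ∈ S) (h2 : gX₂ hqd ∈ S)
    (z : HomogeneousLocalization.Away (𝒜 K) q) : z ∈ S := by
  classical
  obtain ⟨n, f, hf, rfl⟩ := HomogeneousLocalization.Away.mk_surjective (𝒜 K) hqd z
  have hfh : f.IsHomogeneous (n • 2) := (MvPolynomial.mem_homogeneousSubmodule _ _).mp hf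
  have hdeg : ∀ d ∈ f.support, d 0 + d 1 = 2 * n := by
    intro d hd
    by_contra hcon
    have : d.degree ≠ n • 2 := by
      rw [Finsupp.degree_eq_sum, Fin.sum_univ_two, smul_eq_mul, mul_comm]; exact hcon
    exact (MvPolynomial.mem_support_iff.mp hd) (hfh.coeff_eq_zero this)
  have hex : ∀ d : Fin 2 →₀ ℕ, ∃ z : HomogeneousLocalization.Away (𝒜 K) q, d ∈ f.support →
      z ∈ S ∧ z.val =
        Localization.mk (MvPolynomial.X 0 ^ (d 0) * MvPolynomial.X 1 ^ (d 1)) (qpow q n) := by
    intro d
    by_cases hd : d ∈ f.support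
    · obtain ⟨z, hz, hzv⟩ := gen_monomial hqd S h0 h1 h2 n (d 0) (d 1) (hdeg d hd)
      exact ⟨z, fun _ => ⟨hz, hzv⟩⟩
    · exact ⟨0, fun h => absurd h hd⟩
  choose zd hzd using hex
  have hsum : HomogeneousLocalization.Away.mk (𝒜 K) hqd n f hf =
      ∑ d ∈ f.support, (f.coeff d) • zd d := by
    apply HomogeneousLocalization.val_injective
    rw [← HomogeneousLocalization.algebraMap_apply, ← HomogeneousLocalization.algebraMap_apply,
      map_sum]
    simp only [HomogeneousLocalization.algebraMap_apply, HomogeneousLocalization.val_smul]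
    rw [HomogeneousLocalization.Away.val_mk]
    conv_lhs => rw [← MvPolynomial.support_sum_monomial_coeff f]
    change Localization.mk _ (qpow q n) = _
    rw [Localization.mk_sum]
    apply Finset.sum_congr rfl
    intro d hd
    rw [(hzd d hd).2, Localization.smul_mk]
    congr 1
    rw [MvPolynomial.monomial_eq, Finsupp.prod_fintype _ _ (fun i => pow_zero _), Fin.prod_univ_two,
      MvPolynomial.smul_eq_C_mul]
  rw [hsum]
  apply S.sum_mem
  intro d hd
  have e : (f.coeff d) • zd d = algebraMap K _ (f.coeff d) * zd d := (algK q).smul_def' _ _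
  rw [e]
  exact S.mul_mem (hK _) (hzd d hd).1

end Gens

section Data

variable {a b c : K} [hirr : Fact (Irreducible (quad a b c))]
variable (ha : a ≠ 0) (hne : θ a b c ≠ θ' a b c) {q : MvPolynomial (Fin 2) K}
  (hq : q = MvPolynomial.C a * MvPolynomial.X 0 ^ 2 +
      MvPolynomial.C b * (MvPolynomial.X 0 * MvPolynomial.X 1) +
      MvPolynomial.C c * MvPolynomial.X 1 ^ 2) (hqd : q ∈ 𝒜 K 2)

include hq in
theorem relR1 : a • gX₀ hqd + b • gX₁ hqd + c • gX₂ hqd = 1 := by
  apply HomogeneousLocalization.val_injective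
  rw [HomogeneousLocalization.val_add, HomogeneousLocalization.val_add,
    HomogeneousLocalization.val_smul, HomogeneousLocalization.val_smul,
    HomogeneousLocalization.val_smul, val_gX₀, val_gX₁, val_gX₂, HomogeneousLocalization.val_one,
    Localization.smul_mk, Localization.smul_mk, Localization.smul_mk, Localization.add_mk_self,
    Localization.add_mk_self]
  have : a • (MvPolynomial.X 0 ^ 2 : MvPolynomial (Fin 2) K) +
      b • (MvPolynomial.X 0 * MvPolynomial.X 1) + c • MvPolynomial.X 1 ^ 2 =
      ((qpow q 1 : Submonoid.powers q) : MvPolynomial (Fin 2) K) := by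
    show _ = q ^ 1
    rw [pow_one, hq, MvPolynomial.smul_eq_C_mul, MvPolynomial.smul_eq_C_mul,
      MvPolynomial.smul_eq_C_mul]
  rw [this]
  exact Localization.mk_self _

theorem relR2 : gX₀ hqd * gX₂ hqd = gX₁ hqd * gX₁ hqd := by
  apply HomogeneousLocalization.val_injective
  rw [HomogeneousLocalization.val_mul, HomogeneousLocalization.val_mul, val_gX₀, val_gX₁, val_gX₂,
    Localization.mk_mul, Localization.mk_mul]
  congr 1
  ring

include hqd in
theorem ι_gX₀ : ι ha hne hq (gX₀ hqd) * ι₀ a b c q = x₀ a b c ^ 2 := by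
  have := ι_mk ha hne hq hqd 1 (MvPolynomial.X 0 ^ 2) X0sq_mem
  rw [pow_one, map_pow, ι₀_X0] at this
  exact this

include hqd in
theorem ι_gX₁ : ι ha hne hq (gX₁ hqd) * ι₀ a b c q = x₀ a b c * y₀ a b c := by
  have := ι_mk ha hne hq hqd 1 (MvPolynomial.X 0 * MvPolynomial.X 1) X0X1_mem
  rw [pow_one, map_mul, ι₀_X0, ι₀_X1] at this
  exact this

include hqd in
theorem ι_gX₂ : ι ha hne hq (gX₂ hqd) * ι₀ a b c q = y₀ a b c ^ 2 := by
  have := ι_mk ha hne hq hqd 1 (MvPolynomial.X 1 ^ 2) X1sq_mem
  rw [pow_one, map_pow, ι₀_X1] at this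
  exact this

include hqd in
theorem relT : C (algebraMap K (QExt a b c) a) * (ι ha hne hq (gX₀ hqd) -
    2 * C (θ a b c) * ι ha hne hq (gX₁ hqd) + C (θ a b c) ^ 2 * ι ha hne hq (gX₂ hqd)) = T 1 := by
  have hu := isUnit_ι₀_q ha hne hq
  apply hu.mul_right_cancel
  have h0 := ι_gX₀ ha hne hq hqd
  have h1 := ι_gX₁ ha hne hq hqd
  have h2 := ι_gX₂ ha hne hq hqd
  have h3 := x_sub_θ hne (a := a) (b := b) (c := c)
  have hq' := ι₀_q ha hne hq
  have hTT : (T 1 : (QExt a b c)[T;T⁻¹]) * T 1 = (x₀ a b c - C (θ a b c) * y₀ a b c) ^ 2 := by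
    rw [h3, pow_two]
  rw [hq'] at h0 h1 h2 ⊢
  linear_combination (C (algebraMap K (QExt a b c) a)) * h0 -
    2 * C (θ a b c) * (C (algebraMap K (QExt a b c) a)) * h1 +
    C (θ a b c) ^ 2 * (C (algebraMap K (QExt a b c) a)) * h2 - (C (algebraMap K (QExt a b c) a)) * hTT

include hqd in
theorem relT' : C (algebraMap K (QExt a b c) a) * (ι ha hne hq (gX₀ hqd) -
    2 * C (θ' a b c) * ι ha hne hq (gX₁ hqd) + C (θ' a b c) ^ 2 * ι ha hne hq (gX₂ hqd)) = T (-1) := by
  have hu := isUnit_ι₀_q ha hne hq
  apply hu.mul_right_cancel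
  have h0 := ι_gX₀ ha hne hq hqd
  have h1 := ι_gX₁ ha hne hq hqd
  have h2 := ι_gX₂ ha hne hq hqd
  have h3 := x_sub_θ' hne (a := a) (b := b) (c := c)
  have hq' := ι₀_q ha hne hq
  have hTT : (T (-1) : (QExt a b c)[T;T⁻¹]) * T 1 = (x₀ a b c - C (θ' a b c) * y₀ a b c) ^ 2 := by
    rw [h3, one_pow, ← T_add, neg_add_cancel, T_zero]
  rw [hq'] at h0 h1 h2 ⊢
  linear_combination (C (algebraMap K (QExt a b c) a)) * h0 -
    2 * C (θ' a b c) * (C (algebraMap K (QExt a b c) a)) * h1 +
    C (θ' a b c) ^ 2 * (C (algebraMap K (QExt a b c) a)) * h2 - (C (algebraMap K (QExt a b c) a)) * hTT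

/-- the abstract data attached to an irreducible binary quadratic form with nonzero discriminant -/
noncomputable def conicData : ConicData K (QExt a b c) (HomogeneousLocalization.Away (𝒜 K) q) where
  a := a
  b := b
  c := c
  θ := θ a b c
  θ' := θ' a b c
  σ := (σ b c ha).toRingHom
  ι := ι ha hne hq
  X₀ := gX₀ hqd
  X₁ := gX₁ hqd
  X₂ := gX₂ hqd
  ha := ha
  hsum := hsum b c ha
  hprod := hprod b c ha
  hne := hne
  hσK := fun k => (σ b c ha).commutes k
  hσθ := σ_θ b c ha
  hσθ' := σ_θ' b c ha
  hι_inj := ι_injective ha hne hq hqd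
  hι_alg := ι_smul ha hne hq
  hgen := fun S hK h0 h1 h2 z => gen hqd S hK h0 h1 h2 z
  hR1 := relR1 hq hqd
  hR2 := relR2 hqd
  hT := relT ha hne hq hqd
  hT' := relT' ha hne hq hqd

end Data

section Main

/-- finite groups of `K`-automorphisms of the complement of a conjugate pair of points in the
projective line have exponent two and at most four elements, when `K` has all roots of unity -/
theorem finite_aut_exponent_two_card_le_four
    (hK : ∀ n : ℕ, 0 < n → (Polynomial.X ^ n - 1 : Polynomial K).Splits)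
    (q : MvPolynomial (Fin 2) K) (hq2 : q.IsHomogeneous 2) (hirr : Irreducible q)
    (hdisc : (q.coeff (Finsupp.single 0 1 + Finsupp.single 1 1)) ^ 2 -
      4 * q.coeff (Finsupp.single 0 2) * q.coeff (Finsupp.single 1 2) ≠ 0)
    (G : Subgroup (HomogeneousLocalization.Away (MvPolynomial.homogeneousSubmodule (Fin 2) K) q ≃+*
      HomogeneousLocalization.Away (MvPolynomial.homogeneousSubmodule (Fin 2) K) q)) [Finite G]
    (hG : ∀ g ∈ G, ∀ (k : K)
      (z : HomogeneousLocalization.Away (MvPolynomial.homogeneousSubmodule (Fin 2) K) q),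
      g (k • z) = k • g z) :
    (∀ g ∈ G, g ^ 2 = 1) ∧ Nat.card G ≤ 4 := by
  have hq := eq_of_isHomogeneous_two q hq2
  obtain ⟨ha, hroot⟩ := ne_zero_and_no_root hq hirr
  have hfact : Fact (Irreducible (quad (q.coeff (Finsupp.single 0 2))
      (q.coeff (Finsupp.single 0 1 + Finsupp.single 1 1)) (q.coeff (Finsupp.single 1 2)))) :=
    ⟨irreducible_quadratic ha hroot⟩
  have hne' := hne (q.coeff (Finsupp.single 0 1 + Finsupp.single 1 1))
    (q.coeff (Finsupp.single 1 2)) ha hdisc
  have hqd : q ∈ 𝒜 K 2 := (MvPolynomial.mem_homogeneousSubmodule _ _).mpr hq2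
  exact ConicData.main hK (conicData ha hne' hq hqd) G hG

end Main

end Groth.Agent.Lib.Seat70.ConicConcrete
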