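import Mathlib
import Groth.Agent.Lib.Helper13FlatMV

/-!
# Flat base change for `Ext` groups with ring actions (seat 70; pure Mathlib + Helper13FlatMV)

Setting: an abelian category `𝒜` with `Ext`, a flat ring map `A → B`, objects `F G : 𝒜` with ring actions
`ρF : A →+* End F`, `ρG : B →+* End G`, and a semilinear morphism `η : F ⟶ G`.

* `EL ρ Z n`: the group `Ext Z F n` as a module over `A` (through `ρ`).
* `preL α`: precomposition with `α : Ext Z' Z m` as a linear map.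
* `uE η hη Z n : EL ρF Z n →+ EL ρG Z n`: postcomposition with `η`, semilinear.
* `BC ρF ρG η hη Z`: for all `n`, `B ⊗[A] Ext Z F n → Ext Z G n` is bijective.
* `BC.of_iso`, `BC.zero`, `BC.X₃` (`X₁`, `X₂` ⇒ `X₃` in a short exact sequence), `BC.X₂` (`X₁`, `X₃` ⇒ `X₂`),
  `BC.biprod`.
* `kap_bijective_five`: the five lemma for `kap`.
-/

set_option autoImplicit false
set_option linter.style.haveILetI false
set_option linter.unusedSectionVars false

namespace Groth.Agent.Lib.Seat70.ExtBC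

open CategoryTheory CategoryTheory.Limits Abelian TensorProduct Groth.Agent.Helper13FlatMV

universe u v

section five
variable {R R' : Type u} [CommRing R] [CommRing R'] [Algebra R R'] [Module.Flat R R']
variable {A₁ A₂ A₃ A₄ A₅ : Type u} [AddCommGroup A₁] [Module R A₁] [AddCommGroup A₂] [Module R A₂]
  [AddCommGroup A₃] [Module R A₃] [AddCommGroup A₄] [Module R A₄] [AddCommGroup A₅] [Module R A₅]
variable {B₁ B₂ B₃ B₄ B₅ : Type u} [AddCommGroup B₁] [Module R' B₁] [AddCommGroup B₂] [Module R' B₂]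
  [AddCommGroup B₃] [Module R' B₃] [AddCommGroup B₄] [Module R' B₄] [AddCommGroup B₅] [Module R' B₅]

/-- the five lemma for the maps `kap`. -/
theorem kap_bijective_five
    (a₁ : A₁ →ₗ[R] A₂) (a₂ : A₂ →ₗ[R] A₃) (a₃ : A₃ →ₗ[R] A₄) (a₄ : A₄ →ₗ[R] A₅)
    (ha₁ : Function.Exact a₁ a₂) (ha₂ : Function.Exact a₂ a₃) (ha₃ : Function.Exact a₃ a₄)
    (b₁ : B₁ →ₗ[R'] B₂) (b₂ : B₂ →ₗ[R'] B₃) (b₃ : B₃ →ₗ[R'] B₄) (b₄ : B₄ →ₗ[R'] B₅)
    (hb₁ : Function.Exact b₁ b₂) (hb₂ : Function.Exact b₂ b₃) (hb₃ : Function.Exact b₃ b₄)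
    (u₁ : A₁ →+ B₁) (hu₁ : ∀ (r : R) (a : A₁), u₁ (r • a) = algebraMap R R' r • u₁ a)
    (u₂ : A₂ →+ B₂) (hu₂ : ∀ (r : R) (a : A₂), u₂ (r • a) = algebraMap R R' r • u₂ a)
    (u₃ : A₃ →+ B₃) (hu₃ : ∀ (r : R) (a : A₃), u₃ (r • a) = algebraMap R R' r • u₃ a)
    (u₄ : A₄ →+ B₄) (hu₄ : ∀ (r : R) (a : A₄), u₄ (r • a) = algebraMap R R' r • u₄ a)
    (u₅ : A₅ →+ B₅) (hu₅ : ∀ (r : R) (a : A₅), u₅ (r • a) = algebraMap R R' r • u₅ a)
    (c₁ : ∀ a, b₁ (u₁ a) = u₂ (a₁ a)) (c₂ : ∀ a, b₂ (u₂ a) = u₃ (a₂ a))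
    (c₃ : ∀ a, b₃ (u₃ a) = u₄ (a₃ a)) (c₄ : ∀ a, b₄ (u₄ a) = u₅ (a₄ a))
    (h₁ : Function.Surjective (kap u₁ hu₁)) (h₂ : Function.Bijective (kap u₂ hu₂))
    (h₄ : Function.Bijective (kap u₄ hu₄)) (h₅ : Function.Injective (kap u₅ hu₅)) :
    Function.Bijective (kap u₃ hu₃) := by
  refine AddMonoidHom.bijective_of_surjective_of_bijective_of_bijective_of_injective
    (a₁.lTensor R').toAddMonoidHom (a₂.lTensor R').toAddMonoidHom (a₃.lTensor R').toAddMonoidHom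
    (a₄.lTensor R').toAddMonoidHom
    b₁.toAddMonoidHom b₂.toAddMonoidHom b₃.toAddMonoidHom b₄.toAddMonoidHom
    (kap u₁ hu₁).toAddMonoidHom (kap u₂ hu₂).toAddMonoidHom (kap u₃ hu₃).toAddMonoidHom
    (kap u₄ hu₄).toAddMonoidHom (kap u₅ hu₅).toAddMonoidHom ?_ ?_ ?_ ?_
    (Module.Flat.lTensor_exact R' ha₁) (Module.Flat.lTensor_exact R' ha₂)
    (Module.Flat.lTensor_exact R' ha₃) hb₁ hb₂ hb₃ h₁ h₂ h₄ h₅
  · ext x; exact kap_nat u₁ hu₁ u₂ hu₂ a₁ b₁ c₁ x
  · ext x; exact kap_nat u₂ hu₂ u₃ hu₃ a₂ b₂ c₂ x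
  · ext x; exact kap_nat u₃ hu₃ u₄ hu₄ a₃ b₃ c₃ x
  · ext x; exact kap_nat u₄ hu₄ u₅ hu₅ a₄ b₄ c₄ x

end five


section ext
variable {𝒜 : Type v} [Category.{u} 𝒜] [Abelian 𝒜] [HasExt.{u} 𝒜]
variable {A : Type u} [CommRing A]

/-- `Ext Z F n` as a module over `A`, acting on `F` through `ρ`. -/
def EL {F : 𝒜} (_ρ : A →+* End F) (Z : 𝒜) (n : ℕ) : Type u := Ext.{u} Z F n

noncomputable instance {F : 𝒜} (ρ : A →+* End F) (Z : 𝒜) (n : ℕ) : AddCommGroup (EL ρ Z n) :=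
  inferInstanceAs (AddCommGroup (Ext.{u} Z F n))

/-- the underlying `Ext` class -/
def EL.toExt {F : 𝒜} {ρ : A →+* End F} {Z : 𝒜} {n : ℕ} (x : EL ρ Z n) : Ext.{u} Z F n := x

/-- an `Ext` class as an element of `EL` -/
def EL.of {F : 𝒜} (ρ : A →+* End F) {Z : 𝒜} {n : ℕ} (x : Ext.{u} Z F n) : EL ρ Z n := x

noncomputable instance {F : 𝒜} (ρ : A →+* End F) (Z : 𝒜) (n : ℕ) : Module A (EL ρ Z n) where
  smul a x := (show Ext.{u} Z F n from x).comp (Ext.mk₀ (show F ⟶ F from ρ a)) (add_zero n)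
  one_smul x := by
    change (show Ext.{u} Z F n from x).comp (Ext.mk₀ (show F ⟶ F from ρ 1)) (add_zero n) = x
    rw [map_one]
    exact Ext.comp_mk₀_id _
  mul_smul a b x := by
    change (show Ext.{u} Z F n from x).comp (Ext.mk₀ (show F ⟶ F from ρ (a * b))) (add_zero n) =
      (((show Ext.{u} Z F n from x).comp (Ext.mk₀ (show F ⟶ F from ρ b)) (add_zero n)).comp
        (Ext.mk₀ (show F ⟶ F from ρ a)) (add_zero n))
    rw [map_mul, Ext.comp_assoc_of_third_deg_zero, Ext.mk₀_comp_mk₀]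
    rfl
  smul_zero a := by
    change (0 : Ext.{u} Z F n).comp (Ext.mk₀ (show F ⟶ F from ρ a)) (add_zero n) = 0
    exact Ext.zero_comp Z n _ n (add_zero n)
  smul_add a x y := by
    change ((show Ext.{u} Z F n from x) + (show Ext.{u} Z F n from y)).comp
      (Ext.mk₀ (show F ⟶ F from ρ a)) (add_zero n) = _
    rw [Ext.add_comp]
    rfl
  add_smul a b x := by
    change (show Ext.{u} Z F n from x).comp (Ext.mk₀ (show F ⟶ F from ρ (a + b))) (add_zero n) = _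
    rw [map_add]
    change (show Ext.{u} Z F n from x).comp (Ext.mk₀ ((show F ⟶ F from ρ a) + (show F ⟶ F from ρ b)))
      (add_zero n) = _
    rw [Ext.mk₀_add, Ext.comp_add]
    rfl
  zero_smul x := by
    change (show Ext.{u} Z F n from x).comp (Ext.mk₀ (show F ⟶ F from ρ 0)) (add_zero n) = 0
    rw [map_zero]
    change (show Ext.{u} Z F n from x).comp (Ext.mk₀ (0 : F ⟶ F)) (add_zero n) = 0
    rw [Ext.mk₀_zero, Ext.comp_zero]

theorem EL.smul_def {F : 𝒜} (ρ : A →+* End F) {Z : 𝒜} {n : ℕ} (a : A) (x : EL ρ Z n) :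
    a • x = (show Ext.{u} Z F n from x).comp (Ext.mk₀ (show F ⟶ F from ρ a)) (add_zero n) := rfl

/-- precomposition with an `Ext` class, as a linear map -/
noncomputable def preL {F : 𝒜} (ρ : A →+* End F) {Z Z' : 𝒜} {m : ℕ} (α : Ext.{u} Z' Z m) {n k : ℕ}
    (h : m + n = k) : EL ρ Z n →ₗ[A] EL ρ Z' k where
  toFun x := α.comp (show Ext.{u} Z F n from x) h
  map_add' x y := Ext.comp_add α _ _ h
  map_smul' a x := by
    change α.comp ((show Ext.{u} Z F n from x).comp (Ext.mk₀ (show F ⟶ F from ρ a)) (add_zero n)) h =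
      (α.comp (show Ext.{u} Z F n from x) h).comp (Ext.mk₀ (show F ⟶ F from ρ a)) (add_zero k)
    rw [Ext.comp_assoc_of_third_deg_zero]

theorem preL_apply {F : 𝒜} (ρ : A →+* End F) {Z Z' : 𝒜} {m : ℕ} (α : Ext.{u} Z' Z m) {n k : ℕ}
    (h : m + n = k) (x : EL ρ Z n) : preL ρ α h x = α.comp (show Ext.{u} Z F n from x) h := rfl

end ext


section exact
variable {𝒜 : Type v} [Category.{u} 𝒜] [Abelian 𝒜] [HasExt.{u} 𝒜]
variable {A : Type u} [CommRing A] {F : 𝒜} (ρ : A →+* End F)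
variable {S : ShortComplex 𝒜} (hS : S.ShortExact)

include hS in
theorem exact₂ (n : ℕ) :
    Function.Exact (preL ρ (Ext.mk₀ S.g) (zero_add n)) (preL ρ (Ext.mk₀ S.f) (zero_add n)) := by
  have := Ext.contravariant_sequence_exact₂' hS F n
  rw [ShortComplex.ab_exact_iff_function_exact] at this
  exact this

theorem exact₁ (n₀ n₁ : ℕ) (h : 1 + n₀ = n₁) :
    Function.Exact (preL ρ (Ext.mk₀ S.f) (zero_add n₀)) (preL ρ hS.extClass h) := by
  have := Ext.contravariant_sequence_exact₁' hS F n₀ n₁ h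
  rw [ShortComplex.ab_exact_iff_function_exact] at this
  exact this

theorem exact₃ (n₀ n₁ : ℕ) (h : 1 + n₀ = n₁) :
    Function.Exact (preL ρ hS.extClass h) (preL ρ (Ext.mk₀ S.g) (zero_add n₁)) := by
  have := Ext.contravariant_sequence_exact₃' hS F n₀ n₁ h
  rw [ShortComplex.ab_exact_iff_function_exact] at this
  exact this

include hS in
theorem preL_g_injective :
    Function.Injective (preL ρ (Ext.mk₀ S.g) (zero_add 0)) := by
  haveI := hS.epi_g
  exact Ext.precomp_mk₀_injective_of_epi F S.g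

end exact

section bc
variable {𝒜 : Type v} [Category.{u} 𝒜] [Abelian 𝒜] [HasExt.{u} 𝒜]
variable {A B : Type u} [CommRing A] [CommRing B] [Algebra A B]
variable {F G : 𝒜} (ρF : A →+* End F) (ρG : B →+* End G) (η : F ⟶ G)

/-- semilinearity of `η : F ⟶ G` -/
def SemiLin : Prop :=
  ∀ a : A, η ≫ (show G ⟶ G from ρG (algebraMap A B a)) = (show F ⟶ F from ρF a) ≫ η

/-- postcomposition with `η` -/
noncomputable def uE (Z : 𝒜) (n : ℕ) : EL ρF Z n →+ EL ρG Z n :=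
  (Ext.mk₀ η).postcomp Z (add_zero n)

theorem uE_apply (Z : 𝒜) (n : ℕ) (x : EL ρF Z n) :
    uE ρF ρG η Z n x = (show Ext.{u} Z F n from x).comp (Ext.mk₀ η) (add_zero n) := rfl

variable {ρF ρG η}

theorem uE_smul (hη : SemiLin ρF ρG η) (Z : 𝒜) (n : ℕ) (a : A) (x : EL ρF Z n) :
    uE ρF ρG η Z n (a • x) = algebraMap A B a • uE ρF ρG η Z n x := by
  change ((show Ext.{u} Z F n from x).comp (Ext.mk₀ (show F ⟶ F from ρF a)) (add_zero n)).comp
      (Ext.mk₀ η) (add_zero n) =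
    ((show Ext.{u} Z F n from x).comp (Ext.mk₀ η) (add_zero n)).comp
      (Ext.mk₀ (show G ⟶ G from ρG (algebraMap A B a))) (add_zero n)
  rw [Ext.comp_assoc_of_third_deg_zero, Ext.comp_assoc_of_third_deg_zero, Ext.mk₀_comp_mk₀,
    Ext.mk₀_comp_mk₀, hη a]

theorem uE_preL {Z Z' : 𝒜} {m : ℕ} (α : Ext.{u} Z' Z m) {n k : ℕ} (h : m + n = k) (x : EL ρF Z n) :
    preL ρG α h (uE ρF ρG η Z n x) = uE ρF ρG η Z' k (preL ρF α h x) := by
  change α.comp ((show Ext.{u} Z F n from x).comp (Ext.mk₀ η) (add_zero n)) h =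
    (α.comp (show Ext.{u} Z F n from x) h).comp (Ext.mk₀ η) (add_zero k)
  rw [Ext.comp_assoc_of_third_deg_zero]

variable (ρF ρG η)

/-- base change holds for `Ext Z -`: `B ⊗[A] Ext Z F n → Ext Z G n` is bijective for all `n`. -/
def BC (hη : SemiLin ρF ρG η) (Z : 𝒜) : Prop :=
  ∀ n : ℕ, Function.Bijective (kap (uE ρF ρG η Z n) (uE_smul hη Z n))

end bc


section main
variable {𝒜 : Type v} [Category.{u} 𝒜] [Abelian 𝒜] [HasExt.{u} 𝒜]
variable {A B : Type u} [CommRing A] [CommRing B] [Algebra A B] [Module.Flat A B]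
variable {F G : 𝒜} {ρF : A →+* End F} {ρG : B →+* End G} {η : F ⟶ G} (hη : SemiLin ρF ρG η)

omit [Module.Flat A B] in
/-- `BC` is invariant under isomorphisms. -/
theorem BC.of_iso {Z Z' : 𝒜} (e : Z ≅ Z') (h : BC ρF ρG η hη Z) : BC ρF ρG η hη Z' := by
  intro n
  let φ : EL ρF Z n →ₗ[A] EL ρF Z' n := preL ρF (Ext.mk₀ e.inv) (zero_add n)
  let φ' : EL ρF Z' n →ₗ[A] EL ρF Z n := preL ρF (Ext.mk₀ e.hom) (zero_add n)
  let ψ : EL ρG Z n →ₗ[B] EL ρG Z' n := preL ρG (Ext.mk₀ e.inv) (zero_add n)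
  let ψ' : EL ρG Z' n →ₗ[B] EL ρG Z n := preL ρG (Ext.mk₀ e.hom) (zero_add n)
  have h1 : φ.comp φ' = LinearMap.id := by
    ext x
    change (Ext.mk₀ e.inv).comp ((Ext.mk₀ e.hom).comp (show Ext.{u} Z' F n from x) (zero_add n))
      (zero_add n) = x
    rw [Ext.mk₀_comp_mk₀_assoc, e.inv_hom_id, Ext.mk₀_id_comp]
  have h2 : φ'.comp φ = LinearMap.id := by
    ext x
    change (Ext.mk₀ e.hom).comp ((Ext.mk₀ e.inv).comp (show Ext.{u} Z F n from x) (zero_add n))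
      (zero_add n) = x
    rw [Ext.mk₀_comp_mk₀_assoc, e.hom_inv_id, Ext.mk₀_id_comp]
  have h3 : ψ.comp ψ' = LinearMap.id := by
    ext x
    change (Ext.mk₀ e.inv).comp ((Ext.mk₀ e.hom).comp (show Ext.{u} Z' G n from x) (zero_add n))
      (zero_add n) = x
    rw [Ext.mk₀_comp_mk₀_assoc, e.inv_hom_id, Ext.mk₀_id_comp]
  have h4 : ψ'.comp ψ = LinearMap.id := by
    ext x
    change (Ext.mk₀ e.hom).comp ((Ext.mk₀ e.inv).comp (show Ext.{u} Z G n from x) (zero_add n))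
      (zero_add n) = x
    rw [Ext.mk₀_comp_mk₀_assoc, e.hom_inv_id, Ext.mk₀_id_comp]
  have hψ : Function.Bijective ψ :=
    ⟨Function.LeftInverse.injective (g := ψ') (fun x => LinearMap.congr_fun h4 x),
      Function.RightInverse.surjective (g := ψ') (fun x => LinearMap.congr_fun h3 x)⟩
  have hφ : Function.Bijective (φ'.lTensor B) := by
    refine ⟨Function.LeftInverse.injective (g := φ.lTensor B) (fun x => ?_),
      Function.RightInverse.surjective (g := φ.lTensor B) (fun x => ?_)⟩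
    · rw [← LinearMap.comp_apply, ← LinearMap.lTensor_comp, h1, LinearMap.lTensor_id,
        LinearMap.id_apply]
    · rw [← LinearMap.comp_apply, ← LinearMap.lTensor_comp, h2, LinearMap.lTensor_id,
        LinearMap.id_apply]
  have hn : ∀ x, ψ' (kap (uE ρF ρG η Z' n) (uE_smul hη Z' n) x) =
      kap (uE ρF ρG η Z n) (uE_smul hη Z n) (φ'.lTensor B x) :=
    kap_nat _ _ _ _ φ' ψ' (fun x => uE_preL (Ext.mk₀ e.hom) (zero_add n) x)
  have hψ' : Function.Bijective ψ' :=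
    ⟨Function.LeftInverse.injective (g := ψ) (fun x => LinearMap.congr_fun h3 x),
      Function.RightInverse.surjective (g := ψ) (fun x => LinearMap.congr_fun h4 x)⟩
  have hcomp : (ψ' : _ → _) ∘ (kap (uE ρF ρG η Z' n) (uE_smul hη Z' n)) =
      (kap (uE ρF ρG η Z n) (uE_smul hη Z n)) ∘ (φ'.lTensor B) := funext hn
  have hb : Function.Bijective ((ψ' : _ → _) ∘ (kap (uE ρF ρG η Z' n) (uE_smul hη Z' n))) := by
    rw [hcomp]
    exact (h n).comp hφ
  exact (Function.Bijective.of_comp_iff' hψ' _).1 hb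

variable {S : ShortComplex 𝒜} (hS : S.ShortExact)

include hS in
/-- two out of three: `X₁`, `X₂` ⇒ `X₃`. -/
theorem BC.X₃ (h₁ : BC ρF ρG η hη S.X₁) (h₂ : BC ρF ρG η hη S.X₂) : BC ρF ρG η hη S.X₃ := by
  intro n
  rcases n with _ | n
  · -- left exact piece
    refine AddMonoidHom.bijective_of_bijective_of_injective_of_left_exact
      ((preL ρF (Ext.mk₀ S.g) (zero_add 0)).lTensor B).toAddMonoidHom
      ((preL ρF (Ext.mk₀ S.f) (zero_add 0)).lTensor B).toAddMonoidHom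
      (preL ρG (Ext.mk₀ S.g) (zero_add 0)).toAddMonoidHom
      (preL ρG (Ext.mk₀ S.f) (zero_add 0)).toAddMonoidHom
      (kap (uE ρF ρG η S.X₃ 0) (uE_smul hη S.X₃ 0)).toAddMonoidHom
      (kap (uE ρF ρG η S.X₂ 0) (uE_smul hη S.X₂ 0)).toAddMonoidHom
      (kap (uE ρF ρG η S.X₁ 0) (uE_smul hη S.X₁ 0)).toAddMonoidHom ?_ ?_
      (Module.Flat.lTensor_exact B (exact₂ ρF hS 0)) (exact₂ ρG hS 0) (h₂ 0) (h₁ 0).1 ?_ ?_
    · ext x
      exact kap_nat _ _ _ _ _ _ (fun x => uE_preL (Ext.mk₀ S.g) (zero_add 0) x) x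
    · ext x
      exact kap_nat _ _ _ _ _ _ (fun x => uE_preL (Ext.mk₀ S.f) (zero_add 0) x) x
    · exact Module.Flat.lTensor_preserves_injective_linearMap _ (preL_g_injective ρF hS)
    · exact preL_g_injective ρG hS
  · exact kap_bijective_five
      (preL ρF (Ext.mk₀ S.f) (zero_add n)) (preL ρF hS.extClass (Nat.add_comm 1 n))
      (preL ρF (Ext.mk₀ S.g) (zero_add (n + 1))) (preL ρF (Ext.mk₀ S.f) (zero_add (n + 1)))
      (exact₁ ρF hS n (n + 1) (Nat.add_comm 1 n)) (exact₃ ρF hS n (n + 1) (Nat.add_comm 1 n))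
      (exact₂ ρF hS (n + 1))
      (preL ρG (Ext.mk₀ S.f) (zero_add n)) (preL ρG hS.extClass (Nat.add_comm 1 n))
      (preL ρG (Ext.mk₀ S.g) (zero_add (n + 1))) (preL ρG (Ext.mk₀ S.f) (zero_add (n + 1)))
      (exact₁ ρG hS n (n + 1) (Nat.add_comm 1 n)) (exact₃ ρG hS n (n + 1) (Nat.add_comm 1 n))
      (exact₂ ρG hS (n + 1))
      _ (uE_smul hη S.X₂ n) _ (uE_smul hη S.X₁ n) _ (uE_smul hη S.X₃ (n + 1))
      _ (uE_smul hη S.X₂ (n + 1)) _ (uE_smul hη S.X₁ (n + 1))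
      (fun x => uE_preL _ _ x) (fun x => uE_preL _ _ x) (fun x => uE_preL _ _ x)
      (fun x => uE_preL _ _ x) (h₂ n).2 (h₁ n) (h₂ (n + 1)) (h₁ (n + 1)).1

include hS in
/-- two out of three: `X₁`, `X₃` ⇒ `X₂`. -/
theorem BC.X₂ (h₁ : BC ρF ρG η hη S.X₁) (h₃ : BC ρF ρG η hη S.X₃) : BC ρF ρG η hη S.X₂ := by
  intro n
  rcases n with _ | n
  · refine kap_bijective_five (A₁ := PUnit.{u + 1}) (B₁ := PUnit.{u + 1})
      (0 : PUnit.{u + 1} →ₗ[A] EL ρF S.X₃ 0)
      (preL ρF (Ext.mk₀ S.g) (zero_add 0)) (preL ρF (Ext.mk₀ S.f) (zero_add 0))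
      (preL ρF hS.extClass (Nat.add_comm 1 0)) ?_
      (exact₂ ρF hS 0) (exact₁ ρF hS 0 1 (Nat.add_comm 1 0))
      (0 : PUnit.{u + 1} →ₗ[B] EL ρG S.X₃ 0)
      (preL ρG (Ext.mk₀ S.g) (zero_add 0)) (preL ρG (Ext.mk₀ S.f) (zero_add 0))
      (preL ρG hS.extClass (Nat.add_comm 1 0)) ?_
      (exact₂ ρG hS 0) (exact₁ ρG hS 0 1 (Nat.add_comm 1 0))
      (0 : PUnit.{u + 1} →+ PUnit.{u + 1}) (fun _ _ => rfl)
      _ (uE_smul hη S.X₃ 0) _ (uE_smul hη S.X₂ 0) _ (uE_smul hη S.X₁ 0) _ (uE_smul hη S.X₃ 1)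
      (fun x => ?_) (fun x => uE_preL _ _ x) (fun x => uE_preL _ _ x)
      (fun x => uE_preL _ _ x) (fun y => ⟨0, Subsingleton.elim _ _⟩) (h₃ 0) (h₁ 0) (h₃ 1).1
    · intro y
      constructor
      · intro hy
        exact ⟨0, ((preL_g_injective ρF hS) (hy.trans (map_zero _).symm)).symm⟩
      · rintro ⟨z, rfl⟩
        simp
    · intro y
      constructor
      · intro hy
        exact ⟨0, ((preL_g_injective ρG hS) (hy.trans (map_zero _).symm)).symm⟩
      · rintro ⟨z, rfl⟩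
        simp
    · simp
  · exact kap_bijective_five
      (preL ρF hS.extClass (Nat.add_comm 1 n))
      (preL ρF (Ext.mk₀ S.g) (zero_add (n + 1))) (preL ρF (Ext.mk₀ S.f) (zero_add (n + 1)))
      (preL ρF hS.extClass (Nat.add_comm 1 (n + 1)))
      (exact₃ ρF hS n (n + 1) (Nat.add_comm 1 n)) (exact₂ ρF hS (n + 1))
      (exact₁ ρF hS (n + 1) (n + 1 + 1) (Nat.add_comm 1 (n + 1)))
      (preL ρG hS.extClass (Nat.add_comm 1 n))
      (preL ρG (Ext.mk₀ S.g) (zero_add (n + 1))) (preL ρG (Ext.mk₀ S.f) (zero_add (n + 1)))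
      (preL ρG hS.extClass (Nat.add_comm 1 (n + 1)))
      (exact₃ ρG hS n (n + 1) (Nat.add_comm 1 n)) (exact₂ ρG hS (n + 1))
      (exact₁ ρG hS (n + 1) (n + 1 + 1) (Nat.add_comm 1 (n + 1)))
      _ (uE_smul hη S.X₁ n) _ (uE_smul hη S.X₃ (n + 1)) _ (uE_smul hη S.X₂ (n + 1))
      _ (uE_smul hη S.X₁ (n + 1)) _ (uE_smul hη S.X₃ (n + 1 + 1))
      (fun x => uE_preL _ _ x) (fun x => uE_preL _ _ x) (fun x => uE_preL _ _ x)
      (fun x => uE_preL _ _ x) (h₁ n).2 (h₃ (n + 1)) (h₁ (n + 1)) (h₃ (n + 1 + 1)).1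

/-- `BC` is stable under binary biproducts. -/
theorem BC.biprod {Z₁ Z₂ : 𝒜} (h₁ : BC ρF ρG η hη Z₁) (h₂ : BC ρF ρG η hη Z₂) :
    BC ρF ρG η hη (Z₁ ⊞ Z₂) :=
  BC.X₂ (S := ShortComplex.mk (biprod.inl : Z₁ ⟶ Z₁ ⊞ Z₂) (biprod.snd : Z₁ ⊞ Z₂ ⟶ Z₂) (by simp))
    hη (ShortComplex.Splitting.ofHasBinaryBiproduct Z₁ Z₂).shortExact h₁ h₂

end main

section sections
variable {𝒜 : Type v} [Category.{u} 𝒜] [Abelian 𝒜] [HasExt.{u} 𝒜]
variable {A B : Type u} [CommRing A] [CommRing B] [Algebra A B]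
variable {F G : 𝒜} {ρF : A →+* End F} {ρG : B →+* End G} {η : F ⟶ G} (hη : SemiLin ρF ρG η)

/-- `B ⊗[A] N` is trivial if `N` is. -/
theorem subsingleton_tensor (N : Type u) [AddCommGroup N] [Module A N] [Subsingleton N] :
    Subsingleton (B ⊗[A] N) := by
  refine ⟨fun x y => ?_⟩
  have h0 : ∀ z : B ⊗[A] N, z = 0 := by
    intro z
    induction z using TensorProduct.induction_on with
    | zero => rfl
    | tmul b n => rw [Subsingleton.elim n 0, TensorProduct.tmul_zero]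
    | add x y hx hy => rw [hx, hy, add_zero]
  rw [h0 x, h0 y]

/-- a map between trivial groups is bijective -/
theorem bijective_of_subsingleton {P Q : Type*} [Zero P] [Subsingleton P] [Subsingleton Q]
    (φ : P → Q) : Function.Bijective φ :=
  ⟨fun _ _ _ => Subsingleton.elim _ _, fun _ => ⟨0, Subsingleton.elim _ _⟩⟩

/-- **base case**: `BC Z` from an identification of the degree zero groups with modules for which base
change holds, and vanishing in positive degrees. -/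
theorem BC.of_sections {Z : 𝒜} {MF MG : Type u} [AddCommGroup MF] [Module A MF] [AddCommGroup MG]
    [Module B MG] (eF : Ext.{u} Z F 0 ≃+ MF) (eG : Ext.{u} Z G 0 ≃+ MG)
    (heF : ∀ (a : A) (x : Ext.{u} Z F 0),
      eF (x.comp (Ext.mk₀ (show F ⟶ F from ρF a)) (add_zero 0)) = a • eF x)
    (heG : ∀ (b : B) (y : Ext.{u} Z G 0),
      eG (y.comp (Ext.mk₀ (show G ⟶ G from ρG b)) (add_zero 0)) = b • eG y)
    (u : MF →+ MG) (hu : ∀ (a : A) (m : MF), u (a • m) = algebraMap A B a • u m)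
    (hue : ∀ x : Ext.{u} Z F 0, eG (x.comp (Ext.mk₀ η) (add_zero 0)) = u (eF x))
    (hk : Function.Bijective (kap u hu))
    (hF : ∀ n : ℕ, Subsingleton (Ext.{u} Z F (n + 1)))
    (hG : ∀ n : ℕ, Subsingleton (Ext.{u} Z G (n + 1))) :
    BC ρF ρG η hη Z := by
  intro n
  rcases n with _ | n
  · let φ : EL ρF Z 0 →ₗ[A] MF :=
      { toFun := fun x => eF x, map_add' := fun x y => map_add eF x y,
        map_smul' := fun a x => heF a x }
    let ψ : EL ρG Z 0 →ₗ[B] MG :=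
      { toFun := fun x => eG x, map_add' := fun x y => map_add eG x y,
        map_smul' := fun b x => heG b x }
    let φe : EL ρF Z 0 ≃ₗ[A] MF := LinearEquiv.ofBijective φ eF.bijective
    have hφ : Function.Bijective (φ.lTensor B) := (LinearEquiv.lTensor B φe).bijective
    have hψ : Function.Bijective ψ := eG.bijective
    have hn : ∀ x, ψ (kap (uE ρF ρG η Z 0) (uE_smul hη Z 0) x) = kap u hu (φ.lTensor B x) :=
      kap_nat _ _ _ _ φ ψ (fun x => hue x)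
    have hcomp : (ψ : _ → _) ∘ (kap (uE ρF ρG η Z 0) (uE_smul hη Z 0)) =
        (kap u hu) ∘ (φ.lTensor B) := funext hn
    have hb : Function.Bijective ((ψ : _ → _) ∘ (kap (uE ρF ρG η Z 0) (uE_smul hη Z 0))) := by
      rw [hcomp]
      exact hk.comp hφ
    exact (Function.Bijective.of_comp_iff' hψ _).1 hb
  · haveI : Subsingleton (EL ρF Z (n + 1)) := hF n
    haveI : Subsingleton (EL ρG Z (n + 1)) := hG n
    haveI := subsingleton_tensor (A := A) (B := B) (EL ρF Z (n + 1))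
    exact bijective_of_subsingleton _

omit [Algebra A B] in
/-- `BC` along a morphism inducing bijections on all `Ext` groups. -/
theorem BC.of_precomp_bijective [Algebra A B] (hη : SemiLin ρF ρG η) {Z Z' : 𝒜} (w : Z' ⟶ Z)
    (hwF : ∀ n, Function.Bijective ((Ext.mk₀ w).precomp F (zero_add n)))
    (hwG : ∀ n, Function.Bijective ((Ext.mk₀ w).precomp G (zero_add n)))
    (h : BC ρF ρG η hη Z) : BC ρF ρG η hη Z' := by
  intro n
  let φ : EL ρF Z n →ₗ[A] EL ρF Z' n := preL ρF (Ext.mk₀ w) (zero_add n)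
  let ψ : EL ρG Z n →ₗ[B] EL ρG Z' n := preL ρG (Ext.mk₀ w) (zero_add n)
  let φe : EL ρF Z n ≃ₗ[A] EL ρF Z' n := LinearEquiv.ofBijective φ (hwF n)
  have hφ : Function.Bijective (φ.lTensor B) := (LinearEquiv.lTensor B φe).bijective
  have hψ : Function.Bijective ψ := hwG n
  have hn : ∀ x, ψ (kap (uE ρF ρG η Z n) (uE_smul hη Z n) x) =
      kap (uE ρF ρG η Z' n) (uE_smul hη Z' n) (φ.lTensor B x) :=
    kap_nat _ _ _ _ φ ψ (fun x => uE_preL (Ext.mk₀ w) (zero_add n) x)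
  have hcomp : (ψ : _ → _) ∘ (kap (uE ρF ρG η Z n) (uE_smul hη Z n)) =
      (kap (uE ρF ρG η Z' n) (uE_smul hη Z' n)) ∘ (φ.lTensor B) := funext hn
  have hb : Function.Bijective ((kap (uE ρF ρG η Z' n) (uE_smul hη Z' n)) ∘ (φ.lTensor B)) := by
    rw [← hcomp]
    exact hψ.comp (h n)
  exact (Function.Bijective.of_comp_iff _ hφ).1 hb

end sections

section transport
variable {R R' : Type u} [CommRing R] [CommRing R'] [Algebra R R']
variable {A B : Type u} [CommRing A] [CommRing B] [Algebra A B]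
variable (eA : A ≃+* R) (eB : B ≃+* R')
variable {M₁ M₂ N₁ N₂ : Type u} [AddCommGroup M₁] [Module A M₁] [AddCommGroup M₂] [Module R M₂]
  [AddCommGroup N₁] [Module B N₁] [AddCommGroup N₂] [Module R' N₂]

/-- semilinearity transported along ring isomorphisms -/
theorem semilinear_transport (hcomm : ∀ a, eB (algebraMap A B a) = algebraMap R R' (eA a))
    (i : M₂ →+ M₁) (hi : Function.Surjective i) (hia : ∀ (a : A) (m : M₂), i (eA a • m) = a • i m)
    (j : N₂ →+ N₁) (hjb : ∀ (b : B) (n : N₂), j (eB b • n) = b • j n)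
    (u₂ : M₂ →+ N₂) (hu₂ : ∀ (r : R) (m : M₂), u₂ (r • m) = algebraMap R R' r • u₂ m)
    (u₁ : M₁ →+ N₁) (hcomp : ∀ m, j (u₂ m) = u₁ (i m)) (a : A) (m : M₁) :
    u₁ (a • m) = algebraMap A B a • u₁ m := by
  obtain ⟨m₂, rfl⟩ := hi m
  rw [← hia, ← hcomp, hu₂, ← hcomm, hjb, hcomp]

/-- **transport of base change along ring isomorphisms** `A ≃ R`, `B ≃ R'`. -/
theorem kap_bijective_transport (hcomm : ∀ a, eB (algebraMap A B a) = algebraMap R R' (eA a))
    (i : M₂ →+ M₁) (hi : Function.Bijective i) (hia : ∀ (a : A) (m : M₂), i (eA a • m) = a • i m)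
    (j : N₂ →+ N₁) (hj : Function.Bijective j) (hjb : ∀ (b : B) (n : N₂), j (eB b • n) = b • j n)
    (u₂ : M₂ →+ N₂) (hu₂ : ∀ (r : R) (m : M₂), u₂ (r • m) = algebraMap R R' r • u₂ m)
    (u₁ : M₁ →+ N₁) (hu₁ : ∀ (a : A) (m : M₁), u₁ (a • m) = algebraMap A B a • u₁ m)
    (hcomp : ∀ m, j (u₂ m) = u₁ (i m))
    (h : Function.Bijective (kap u₂ hu₂)) : Function.Bijective (kap u₁ hu₁) := by
  -- the comparison map `R' ⊗[R] M₂ → B ⊗[A] M₁`
  let f₀ : R' →+ M₂ →+ B ⊗[A] M₁ :=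
    { toFun := fun r' =>
        { toFun := fun m => (eB.symm r') ⊗ₜ[A] (i m)
          map_zero' := by rw [map_zero, TensorProduct.tmul_zero]
          map_add' := fun m m' => by rw [map_add, TensorProduct.tmul_add] }
      map_zero' := by
        ext m
        change (eB.symm 0) ⊗ₜ[A] (i m) = 0
        rw [map_zero, TensorProduct.zero_tmul]
      map_add' := fun r₁ r₂ => by
        ext m
        change (eB.symm (r₁ + r₂)) ⊗ₜ[A] (i m) = (eB.symm r₁) ⊗ₜ[A] (i m) + (eB.symm r₂) ⊗ₜ[A] (i m)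
        rw [map_add, TensorProduct.add_tmul] }
  have hsymm : ∀ r : R, eB.symm (algebraMap R R' r) = algebraMap A B (eA.symm r) := by
    intro r
    apply eB.injective
    rw [eB.apply_symm_apply, hcomm, eA.apply_symm_apply]
  let τ : R' ⊗[R] M₂ →+ B ⊗[A] M₁ := TensorProduct.liftAddHom f₀ (by
    intro r r' m
    change (eB.symm (r • r')) ⊗ₜ[A] (i m) = (eB.symm r') ⊗ₜ[A] (i (r • m))
    have e1 : r • m = eA (eA.symm r) • m := by rw [eA.apply_symm_apply]
    rw [e1, hia, Algebra.smul_def, map_mul, hsymm, ← Algebra.smul_def, TensorProduct.smul_tmul])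
  have hτ : ∀ (r' : R') (m : M₂), τ (r' ⊗ₜ[R] m) = (eB.symm r') ⊗ₜ[A] (i m) := fun r' m => rfl
  have hτsurj : Function.Surjective τ := by
    intro x
    induction x using TensorProduct.induction_on with
    | zero => exact ⟨0, map_zero τ⟩
    | tmul b m =>
      obtain ⟨m₂, rfl⟩ := hi.2 m
      exact ⟨(eB b) ⊗ₜ[R] m₂, by rw [hτ, eB.symm_apply_apply]⟩
    | add x y hx hy =>
      obtain ⟨x', rfl⟩ := hx
      obtain ⟨y', rfl⟩ := hy
      exact ⟨x' + y', map_add τ x' y'⟩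
  have hkey : ∀ z, kap u₁ hu₁ (τ z) = j (kap u₂ hu₂ z) := by
    intro z
    induction z using TensorProduct.induction_on with
    | zero => rw [map_zero, map_zero, map_zero, map_zero]
    | tmul r' m =>
      rw [hτ, kap_tmul, kap_tmul, ← hcomp]
      have e1 : r' • u₂ m = eB (eB.symm r') • u₂ m := by rw [eB.apply_symm_apply]
      rw [e1, hjb]
    | add x y hx hy => rw [map_add, map_add, map_add, map_add, hx, hy]
  constructor
  · rw [injective_iff_map_eq_zero]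
    intro x hx
    obtain ⟨z, rfl⟩ := hτsurj x
    rw [hkey] at hx
    have hz : kap u₂ hu₂ z = 0 := hj.1 (hx.trans (map_zero j).symm)
    have : z = 0 := h.1 (hz.trans (map_zero _).symm)
    rw [this, map_zero]
  · intro n
    obtain ⟨n₂, rfl⟩ := hj.2 n
    obtain ⟨z, rfl⟩ := h.2 n₂
    exact ⟨τ z, hkey z⟩

end transport

end Groth.Agent.Lib.Seat70.ExtBC
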