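import Mathlib

/-!
# Mayer–Vietoris induction principle on quasi-compact opens of a quasi-separated scheme (seat 70)

`qcqs_induction`: if `P` holds on affine opens and `P U`, `P V`, `P (U ⊓ V)` imply `P (U ⊔ V)`, then `P` holds on
every quasi-compact open of a quasi-separated scheme.  Also `isAffineOpen_inf_of_le`: the intersection of two
affine opens contained in a common affine open is affine.
-/

set_option autoImplicit false
universe u
open CategoryTheory CategoryTheory.Limits AlgebraicGeometry Opposite TopologicalSpace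

namespace Groth.Agent.Lib.Seat70.QcqsInd

variable {X : Scheme.{u}}

/-- two affine opens inside a common affine open meet in an affine open -/
theorem isAffineOpen_inf_of_le {V U W : X.Opens} (hV : IsAffineOpen V) (hU : IsAffineOpen U)
    (hW : IsAffineOpen W) (hUV : U ≤ V) (hWV : W ≤ V) : IsAffineOpen (U ⊓ W) := by
  have : IsAffine (V : Scheme) := hV
  have hU' : IsAffineOpen (V.ι ⁻¹ᵁ U) :=
    hU.preimage_of_isOpenImmersion V.ι (by rw [Scheme.Opens.opensRange_ι]; exact hUV)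
  have hW' : IsAffineOpen (V.ι ⁻¹ᵁ W) :=
    hW.preimage_of_isOpenImmersion V.ι (by rw [Scheme.Opens.opensRange_ι]; exact hWV)
  have h1 : IsAffineOpen (V.ι ⁻¹ᵁ U ⊓ V.ι ⁻¹ᵁ W) := hU'.inf hW'
  have h2 := h1.image_of_isOpenImmersion V.ι
  have e : V.ι ''ᵁ (V.ι ⁻¹ᵁ U ⊓ V.ι ⁻¹ᵁ W) = U ⊓ W := by
    rw [← Scheme.Hom.preimage_inf, Scheme.Hom.image_preimage_eq_opensRange_inf,
      Scheme.Opens.opensRange_ι]
    exact inf_eq_right.2 (inf_le_left.trans hUV)
  rwa [e] at h2

variable (P : X.Opens → Prop)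

/-- Mayer–Vietoris induction inside an affine open. -/
theorem induction_in_affine (haff : ∀ W : X.Opens, IsAffineOpen W → P W)
    (hstep : ∀ U V : X.Opens, P U → P V → P (U ⊓ V) → P (U ⊔ V))
    {V : X.Opens} (hV : IsAffineOpen V) (S : X.Opens) (hS : IsCompact (S : Set X)) (hSV : S ≤ V) :
    P S := by
  suffices H : S ≤ V → (P S ∧ ∀ W : X.Opens, IsAffineOpen W → W ≤ V → P (S ⊓ W)) from (H hSV).1
  refine compact_open_induction_on
    (P := fun S => S ≤ V → (P S ∧ ∀ W : X.Opens, IsAffineOpen W → W ≤ V → P (S ⊓ W))) S hS ?_ ?_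
  · intro _
    refine ⟨haff ⊥ (isAffineOpen_bot X), fun W _ _ => ?_⟩
    rw [bot_inf_eq]
    exact haff ⊥ (isAffineOpen_bot X)
  · intro T _ U hT hTU
    have hTV : T ≤ V := le_sup_left.trans hTU
    have hUV : U.1 ≤ V := le_sup_right.trans hTU
    obtain ⟨hPT, hPTW⟩ := hT hTV
    refine ⟨hstep T U.1 hPT (haff U.1 U.2) (hPTW U.1 U.2 hUV), fun W hW hWV => ?_⟩
    have hUW : IsAffineOpen (U.1 ⊓ W) := isAffineOpen_inf_of_le hV U.2 hW hUV hWV
    have e : (T ⊔ U.1) ⊓ W = (T ⊓ W) ⊔ (U.1 ⊓ W) := inf_sup_right T U.1 W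
    have e2 : (T ⊓ W) ⊓ (U.1 ⊓ W) = T ⊓ (U.1 ⊓ W) := by
      rw [inf_assoc, ← inf_assoc W, inf_comm W, inf_assoc U.1, inf_idem]
    rw [e]
    refine hstep _ _ (hPTW W hW hWV) (haff _ hUW) ?_
    rw [e2]
    exact hPTW _ hUW (inf_le_left.trans hUV)

/-- **Mayer–Vietoris induction** on quasi-compact opens of a quasi-separated scheme. -/
theorem qcqs_induction [QuasiSeparatedSpace X] (haff : ∀ W : X.Opens, IsAffineOpen W → P W)
    (hstep : ∀ U V : X.Opens, P U → P V → P (U ⊓ V) → P (U ⊔ V))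
    (S : X.Opens) (hS : IsCompact (S : Set X)) : P S := by
  refine compact_open_induction_on (P := P) S hS (haff ⊥ (isAffineOpen_bot X)) ?_
  intro T hT U hPT
  refine hstep T U.1 hPT (haff U.1 U.2) ?_
  have hc : IsCompact ((T ⊓ U.1 : X.Opens) : Set X) :=
    QuasiSeparatedSpace.inter_isCompact _ _ T.2 hT U.1.2 U.2.isCompact
  exact induction_in_affine P haff hstep U.2 _ hc inf_le_right

end Groth.Agent.Lib.Seat70.QcqsInd
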