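import Groth.Agent.Lib.Seat70ExtBC
import Groth.Agent.Lib.Seat70QcqsInd
import Groth.Agent.Lib.Helper13QcqsBC
import Groth.Agent.Lib.Seat54PushLin
import Groth.Agent.Lib.Helper23AffOpen2
import Groth.Agent.Lib.Helper23AffVanish7

/-!
# Flat base change for cohomology of quasi-coherent modules: Mayer–Vietoris induction (seat 70)

Setting: a cartesian square `g' : X' ⟶ X`, `f' : X' ⟶ S'`, `f : X ⟶ S`, `g : S' ⟶ S` with `S`, `S'` affine,
`Γ(S,⊤) → Γ(S',⊤)` flat, `M` quasi-coherent on `X`, `GG = g'_* g'^* M`.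

* `ρΓ`, `ρPush`, `ρF`, `ρG`: ring actions on the underlying abelian sheaves; `ηη : M ⟶ g'_* g'^* M`; `semiLin`.
* `sec_bijective`: `Γ(S',⊤) ⊗ Γ(M, W) ≃ Γ(g'^*M, g'⁻¹W)` for `W` affine.
* `bc_affine`, `bc_step`, `bc_compact`, `bc_const`: `Γ(S',⊤) ⊗ Ext^n(ℤ_W, M) ≃ Ext^n(ℤ_W, g'_* g'^* M)` for `W`
  affine / Mayer–Vietoris step / `W` quasi-compact (`X` quasi-separated) / the constant sheaf (`X` qcqs).
-/

set_option autoImplicit false
set_option linter.style.haveILetI false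
set_option linter.unusedSectionVars false
universe u
open CategoryTheory CategoryTheory.Limits AlgebraicGeometry Opposite TopologicalSpace Abelian

namespace Groth.Agent.Lib.Seat70.FlatBC

open Groth.Agent.Lib.Seat70.ExtBC Groth.Agent.Helper13FlatMV


section rho
variable {X : Scheme.{u}} (M : X.Modules)

/-- the action of global functions on the underlying abelian sheaf, as a ring hom -/
noncomputable def ρΓ : Coh.Γtop X →+* End (Coh.toAb M) where
  toFun r := Coh.smulAb M r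
  map_one' := Coh.smulAb_one M
  map_mul' r s := Coh.smulAb_mul M r s
  map_zero' := Coh.smulAb_zero M
  map_add' r s := Coh.smulAb_add M r s

theorem ρΓ_apply (r : Coh.Γtop X) : (show Coh.toAb M ⟶ Coh.toAb M from ρΓ M r) = Coh.smulAb M r := rfl

end rho

section push
variable {X' X : Scheme.{u}} (g' : X' ⟶ X) (N : X'.Modules)

/-- the action of global functions of `X'` on `g'_* N` -/
noncomputable def ρPush : Coh.Γtop X' →+* End (Coh.toAb ((Scheme.Modules.pushforward g').obj N)) where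
  toFun r := (Coh.pushAb g').map (Coh.smulAb N r)
  map_one' := by
    rw [Coh.smulAb_one]
    exact (Coh.pushAb g').map_id _
  map_mul' r s := by
    rw [Coh.smulAb_mul]
    exact (Coh.pushAb g').map_comp _ _
  map_zero' := by
    rw [Coh.smulAb_zero]
    exact (Coh.pushAb g').map_zero _ _
  map_add' r s := by
    rw [Coh.smulAb_add]
    exact (Coh.pushAb g').map_add

end push


section letop
variable {X S : Scheme.{u}} (f : X ⟶ S)

theorem le_pre_top (W : X.Opens) : W ≤ f ⁻¹ᵁ ⊤ := le_top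

end letop

section square
variable {X S X' S' : Scheme.{u}} (f : X ⟶ S) (g : S' ⟶ S) (g' : X' ⟶ X) (f' : X' ⟶ S')
  (h : IsPullback g' f' f g) (M : X.Modules)

/-- `Γ(S', ⊤)` as an algebra over `Γ(S, ⊤)` (same instance as in `Helper13QcqsBC.KBij`) -/
@[reducible] noncomputable def algΓ : Algebra Γ(S, ⊤) Γ(S', ⊤) :=
  (g.appLE ⊤ ⊤ (le_pre_top g ⊤)).hom.toAlgebra

/-- the pulled back module -/
noncomputable abbrev M' : X'.Modules := (Scheme.Modules.pullback g').obj M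

/-- `g'_* g'^* M` -/
noncomputable abbrev GG : X.Modules := (Scheme.Modules.pushforward g').obj (M' g' M)

/-- the action of `Γ(S, ⊤)` on `M` -/
noncomputable def ρF : Γ(S, ⊤) →+* End (Coh.toAb M) :=
  (ρΓ M).comp (Groth.Agent.Lib.Seat54.PushLin.appTopΓ f)

/-- the action of `Γ(S', ⊤)` on `g'_* g'^* M` -/
noncomputable def ρG : Γ(S', ⊤) →+* End (Coh.toAb (GG g' M)) :=
  (ρPush g' (M' g' M)).comp (Groth.Agent.Lib.Seat54.PushLin.appTopΓ f')

/-- the unit `M ⟶ g'_* g'^* M` on abelian sheaves -/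
noncomputable def ηη : Coh.toAb M ⟶ Coh.toAb (GG g' M) :=
  (SheafOfModules.toSheaf X.ringCatSheaf).map
    ((Scheme.Modules.pullbackPushforwardAdjunction g').unit.app M)

include h in
theorem semiLin :
    letI := algΓ (S := S) (S' := S') g
    SemiLin (ρF f M) (ρG g' f' M) (ηη g' M) := by
  letI := algΓ (S := S) (S' := S') g
  intro r
  ext U m
  -- the two sides, computed on sections
  have hL : (AddCommGrpCat.Hom.hom ((ηη g' M ≫
      (show Coh.toAb (GG g' M) ⟶ Coh.toAb (GG g' M) from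
        (ρG g' f' M) ((algebraMap Γ(S, ⊤) Γ(S', ⊤)) r))).hom.app U)) m =
      (Coh.smulAb (M' g' M) (Groth.Agent.Lib.Seat54.PushLin.appTopΓ f'
        ((g.appLE ⊤ ⊤ (le_pre_top g ⊤)).hom r))).hom.app (op (g' ⁻¹ᵁ U.unop))
        (((Scheme.Modules.pullbackPushforwardAdjunction g').unit.app M).app U.unop m) := rfl
  have hR : (AddCommGrpCat.Hom.hom (((show Coh.toAb M ⟶ Coh.toAb M from (ρF f M) r) ≫
      ηη g' M).hom.app U)) m =
      ((Scheme.Modules.pullbackPushforwardAdjunction g').unit.app M).app U.unop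
        ((Coh.smulAb M (Groth.Agent.Lib.Seat54.PushLin.appTopΓ f r)).hom.app U m) := rfl
  refine hL.trans (Eq.trans ?_ hR.symm)
  rw [Coh.smulAb_app]
  refine (Coh.smulAb_app (M' g' M) _ (op (g' ⁻¹ᵁ U.unop)) _).trans ?_
  have e1 := ((Scheme.Modules.pullbackPushforwardAdjunction g').unit.app M).app_smul
    (U := U.unop) (Coh.resTop X U (Groth.Agent.Lib.Seat54.PushLin.appTopΓ f r)) m
  refine Eq.trans ?_ e1.symm
  refine Eq.trans ?_ (Groth.Agent.Helper13PullbackUnit.pushforward_smul g' (M := M' g' M) U.unop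
    (Coh.resTop X U (Groth.Agent.Lib.Seat54.PushLin.appTopΓ f r)) _).symm
  congr 1
  have k1 : Coh.resTop X' (op (g' ⁻¹ᵁ unop U)) (Groth.Agent.Lib.Seat54.PushLin.appTopΓ g'
      (Groth.Agent.Lib.Seat54.PushLin.appTopΓ f r)) =
      (g'.app U.unop).hom (Coh.resTop X U (Groth.Agent.Lib.Seat54.PushLin.appTopΓ f r)) := by
    have hn := g'.naturality (homOfLE (le_top (a := U.unop))).op
    exact (congrArg (fun t => t.hom (Groth.Agent.Lib.Seat54.PushLin.appTopΓ f r)) hn).symm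
  have k2 : Groth.Agent.Lib.Seat54.PushLin.appTopΓ g' (Groth.Agent.Lib.Seat54.PushLin.appTopΓ f r) =
      Groth.Agent.Lib.Seat54.PushLin.appTopΓ f' ((g.appLE ⊤ ⊤ (le_pre_top g ⊤)).hom r) := by
    have e : f.appTop ≫ g'.appTop = g.appLE ⊤ ⊤ le_top ≫ f'.appTop := by
      have hg : g.appLE ⊤ ⊤ le_top = g.appTop := Scheme.Hom.appLE_eq_app g
      rw [hg, ← Scheme.Hom.comp_appTop, ← Scheme.Hom.comp_appTop, h.w]
    exact congrArg (fun t => t.hom r) e
  exact (congrArg _ k2.symm).trans k1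

end square


section base
open Groth.Agent.Helper13QcqsBC Groth.Agent.Helper13PullbackUnit Groth.Agent.Lib.Helper6
variable {X S X' S' : Scheme.{u}} (f : X ⟶ S) (g : S' ⟶ S) (g' : X' ⟶ X) (f' : X' ⟶ S')
  (h : IsPullback g' f' f g) (M : X.Modules)

include h in
theorem isAffineOpen_preimage (hS : IsAffineOpen (⊤ : S.Opens)) (hS' : IsAffineOpen (⊤ : S'.Opens))
    {W : X.Opens} (hWa : IsAffineOpen W) : IsAffineOpen (g' ⁻¹ᵁ W) := by
  have h1 := isAffineOpen_Vp f g g' f' h (U := ⊤) (U' := ⊤) (le_pre_top g ⊤) hS hS' (W := W) (le_pre_top f W) hWa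
  have e : Vp g' f' ⊤ W = g' ⁻¹ᵁ W := inf_eq_left.2 le_top
  rwa [e] at h1

/-- sections of the pullback over the preimage of an affine open: `Γ(S',⊤) ⊗ Γ(M, W) ≃ Γ(g'^*M, g'⁻¹W)`. -/
theorem sec_bijective [M.IsQuasicoherent] (hS : IsAffineOpen (⊤ : S.Opens))
    (hS' : IsAffineOpen (⊤ : S'.Opens)) {W : X.Opens} (hWa : IsAffineOpen W) :
    letI := algΓ (S := S) (S' := S') g
    Function.Bijective (kap (R := Γ(S, ⊤)) (R' := Γ(S', ⊤))
      (uW f g' f' M (U := ⊤) (U' := ⊤) (W := W) (le_pre_top f W) (le_refl (g' ⁻¹ᵁ W)) (le_pre_top f' _))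
      (uW_smul f g g' f' h M (U := ⊤) (U' := ⊤) (le_pre_top g ⊤) (le_pre_top f W) (le_refl (g' ⁻¹ᵁ W)) (le_pre_top f' _))) := by
  letI := algΓ (S := S) (S' := S') g
  have hle : (⊤ : S'.Opens) ≤ g ⁻¹ᵁ ⊤ := le_pre_top g ⊤
  have hW : W ≤ f ⁻¹ᵁ ⊤ := le_pre_top f W
  have hV'a : IsAffineOpen (g' ⁻¹ᵁ W) := isAffineOpen_preimage f g g' f' h hS hS' hWa
  have hUY : g' ⁻¹ᵁ W = g' ⁻¹ᵁ W ⊓ f' ⁻¹ᵁ ⊤ := (inf_eq_left.2 le_top).symm
  have hpo := ((isIso_pushoutSection_iff h hle hW hUY).1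
    (isIso_pushoutSection_of_isAffineOpen h hle hW hUY hS hS' hWa)).flip
  refine Groth.Agent.Helper13BCAlg.bijective_of_lifts (g.appLE ⊤ ⊤ hle).hom
    (f.appLE ⊤ W hW).hom (g'.appLE W (g' ⁻¹ᵁ W) le_rfl).hom
    (f'.appLE ⊤ (g' ⁻¹ᵁ W) (le_pre_top f' _)).hom hpo
    (M := Γ(M, W)) (Q := TensorProduct Γ(S, ⊤) Γ(S', ⊤) (SecR f M ⊤ W hW))
    (Q' := Γ((Scheme.Modules.pullback g').obj M, g' ⁻¹ᵁ W))
    (oneTmul (R := Γ(S, ⊤)) (R' := Γ(S', ⊤)) (M := SecR f M ⊤ W hW)) ?_ ?_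
    (unitSec g' M le_rfl) (unitSec_smul g' M le_rfl) ?_
    (kap (R := Γ(S, ⊤)) (R' := Γ(S', ⊤))
      (uW f g' f' M (U := ⊤) (U' := ⊤) (W := W) (le_pre_top f W) (le_refl (g' ⁻¹ᵁ W)) (le_pre_top f' _))
      (uW_smul f g g' f' h M (U := ⊤) (U' := ⊤) (le_pre_top g ⊤) (le_pre_top f W) (le_refl (g' ⁻¹ᵁ W))
        (le_pre_top f' _))).toAddMonoidHom ?_ ?_
  · intro r m
    exact oneTmul_smul (R := Γ(S, ⊤)) (R' := Γ(S', ⊤)) (M := SecR f M ⊤ W hW) r m
  · intro N _ _ l hl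
    exact existsUnique_of_oneTmul (R := Γ(S, ⊤)) (R' := Γ(S', ⊤)) (M := SecR f M ⊤ W hW) N l hl
  · intro N _ _ l hl
    exact existsUnique_lift g' M hWa hV'a le_rfl N l hl
  · intro r' q
    exact (kap (R := Γ(S, ⊤)) (R' := Γ(S', ⊤))
      (uW f g' f' M (U := ⊤) (U' := ⊤) (W := W) (le_pre_top f W) (le_refl (g' ⁻¹ᵁ W)) (le_pre_top f' _))
      (uW_smul f g g' f' h M (U := ⊤) (U' := ⊤) (le_pre_top g ⊤) (le_pre_top f W) (le_refl (g' ⁻¹ᵁ W))
        (le_pre_top f' _))).map_smul r' q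
  · intro m
    show kap (R := Γ(S, ⊤)) (R' := Γ(S', ⊤))
      (uW f g' f' M (U := ⊤) (U' := ⊤) (W := W) (le_pre_top f W) (le_refl (g' ⁻¹ᵁ W)) (le_pre_top f' _))
      (uW_smul f g g' f' h M (U := ⊤) (U' := ⊤) (le_pre_top g ⊤) (le_pre_top f W) (le_refl (g' ⁻¹ᵁ W)) (le_pre_top f' _))
      ((1 : Γ(S', ⊤)) ⊗ₜ[Γ(S, ⊤)] (show SecR f M ⊤ W hW from m)) = _
    rw [kap_tmul, one_smul]
    rfl

end base


section h0
open Groth.Agent.Lib.Helper23.AffVanish
variable {Y : TopCat.{u}}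

/-- `h0Equiv` is natural in the sheaf. -/
theorem h0Equiv_comp {F G : CohTop.Ab Y} (ψ : F ⟶ G) (U : Opens Y) (x : HE F 0 U) :
    h0Equiv G U (x.comp (Ext.mk₀ ψ) (add_zero 0)) = ψ.hom.app (op U) (h0Equiv F U x) := by
  obtain ⟨φ, rfl⟩ := (Ext.mk₀_bijective _ _).2 x
  rw [Ext.mk₀_comp_mk₀]
  change CohFree.evalGen (J Y) U G (Ext.addEquiv₀ (Ext.mk₀ _)) =
    ψ.hom.app (op U) (CohFree.evalGen (J Y) U F (Ext.addEquiv₀ (Ext.mk₀ φ)))
  rw [addEquiv₀_mk₀, addEquiv₀_mk₀]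
  rfl

end h0

section base0
open Groth.Agent.Helper13QcqsBC Groth.Agent.Helper13PullbackUnit Groth.Agent.Lib.Helper6
open Groth.Agent.Lib.Helper23.AffVanish
variable {X S X' S' : Scheme.{u}} (f : X ⟶ S) (g : S' ⟶ S) (g' : X' ⟶ X) (f' : X' ⟶ S')
  (h : IsPullback g' f' f g) (M : X.Modules)

/-- **base case**: base change for `Ext(ℤ_W, -)`, `W` affine. -/
theorem bc_affine [M.IsQuasicoherent] [QuasiCompact g'] [QuasiSeparated g']
    (hS : IsAffineOpen (⊤ : S.Opens)) (hS' : IsAffineOpen (⊤ : S'.Opens))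
    {W : X.Opens} (hWa : IsAffineOpen W) :
    letI := algΓ (S := S) (S' := S') g
    BC (ρF f M) (ρG g' f' M) (ηη g' M) (semiLin f g g' f' h M) (ZU (X := X.carrier) W) := by
  letI := algΓ (S := S) (S' := S') g
  haveI : (M' g' M).IsQuasicoherent :=
    Groth.Agent.Lib.Helper2.PullbackSec.isQuasicoherent_pullback g' M
  haveI : (GG g' M).IsQuasicoherent :=
    Groth.Agent.Lib.Helper23.QCohLocal.isQuasicoherent_pushforward g' (M' g' M)
  refine BC.of_sections (semiLin f g g' f' h M)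
    (MF := SecR f M ⊤ W (le_pre_top f W))
    (MG := SecR f' (M' g' M) ⊤ (g' ⁻¹ᵁ W) (le_pre_top f' _))
    (h0Equiv (Coh.toAb M) W) (h0Equiv (Coh.toAb (GG g' M)) W) ?_ ?_
    (uW f g' f' M (U := ⊤) (U' := ⊤) (le_pre_top f W) (le_refl (g' ⁻¹ᵁ W)) (le_pre_top f' _))
    (uW_smul f g g' f' h M (U := ⊤) (U' := ⊤) (le_pre_top g ⊤) (le_pre_top f W)
      (le_refl (g' ⁻¹ᵁ W)) (le_pre_top f' _)) ?_
    (sec_bijective f g g' f' h M hS hS' hWa)
    (fun n => subsingleton_HE_of_isAffineOpen hWa M n)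
    (fun n => subsingleton_HE_of_isAffineOpen hWa (GG g' M) n)
  · intro r x
    refine (h0Equiv_comp (Coh.smulAb M (Groth.Agent.Lib.Seat54.PushLin.appTopΓ f r)) W x).trans ?_
    refine (Coh.smulAb_app M _ (op W) _).trans ?_
    rfl
  · intro r x
    refine (h0Equiv_comp ((Coh.pushAb g').map (Coh.smulAb (M' g' M)
      (Groth.Agent.Lib.Seat54.PushLin.appTopΓ f' r))) W x).trans ?_
    refine (Coh.smulAb_app (M' g' M) _ (op (g' ⁻¹ᵁ W)) _).trans ?_
    rfl
  · intro x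
    refine (h0Equiv_comp (ηη g' M) W x).trans ?_
    generalize h0Equiv (Coh.toAb M) W x = m
    have e := unitSec_apply g' M (le_refl (g' ⁻¹ᵁ W)) (show Γ(M, W) from m)
    refine Eq.trans ?_ e.symm
    exact (Groth.Agent.Helper13QcqsBC.res_self (M' g' M) _).symm

end base0

section step
open Groth.Agent.Lib.Helper23.AffVanish
variable {X S X' S' : Scheme.{u}} (f : X ⟶ S) (g : S' ⟶ S) (g' : X' ⟶ X) (f' : X' ⟶ S')
  (h : IsPullback g' f' f g) (M : X.Modules)

/-- **Mayer–Vietoris step**. -/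
theorem bc_step (hflat : (g.appLE ⊤ ⊤ (le_pre_top g ⊤)).hom.Flat) (U V : X.Opens) :
    letI := algΓ (S := S) (S' := S') g
    BC (ρF f M) (ρG g' f' M) (ηη g' M) (semiLin f g g' f' h M) (ZU (X := X.carrier) U) →
    BC (ρF f M) (ρG g' f' M) (ηη g' M) (semiLin f g g' f' h M) (ZU (X := X.carrier) V) →
    BC (ρF f M) (ρG g' f' M) (ηη g' M) (semiLin f g g' f' h M) (ZU (X := X.carrier) (U ⊓ V)) →
    BC (ρF f M) (ρG g' f' M) (ηη g' M) (semiLin f g g' f' h M) (ZU (X := X.carrier) (U ⊔ V)) := by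
  letI := algΓ (S := S) (S' := S') g
  haveI : Module.Flat Γ(S, ⊤) Γ(S', ⊤) := hflat
  intro hU hV hUV
  exact BC.X₃ (S := (Opens.mayerVietorisSquare U V).shortComplex) (semiLin f g g' f' h M)
    (Opens.mayerVietorisSquare U V).shortComplex_shortExact hUV
    (BC.biprod (semiLin f g g' f' h M) hU hV)

end step

section top
open Groth.Agent.Lib.Helper23.AffVanish Groth.Agent.Lib.Helper16.ClosedEmb
variable {X S X' S' : Scheme.{u}} (f : X ⟶ S) (g : S' ⟶ S) (g' : X' ⟶ X) (f' : X' ⟶ S')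
  (h : IsPullback g' f' f g) (M : X.Modules)

/-- base change for `Ext(ℤ_W, -)` for every quasi-compact open `W` of a quasi-separated scheme. -/
theorem bc_compact [QuasiSeparatedSpace X] [M.IsQuasicoherent] [QuasiCompact g'] [QuasiSeparated g']
    (hS : IsAffineOpen (⊤ : S.Opens)) (hS' : IsAffineOpen (⊤ : S'.Opens))
    (hflat : (g.appLE ⊤ ⊤ (le_pre_top g ⊤)).hom.Flat) (W : X.Opens) (hW : IsCompact (W : Set X)) :
    letI := algΓ (S := S) (S' := S') g
    BC (ρF f M) (ρG g' f' M) (ηη g' M) (semiLin f g g' f' h M) (ZU (X := X.carrier) W) := by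
  letI := algΓ (S := S) (S' := S') g
  exact Groth.Agent.Lib.Seat70.QcqsInd.qcqs_induction
    (fun W => BC (ρF f M) (ρG g' f' M) (ηη g' M) (semiLin f g g' f' h M) (ZU (X := X.carrier) W))
    (fun W hWa => bc_affine f g g' f' h M hS hS' hWa)
    (fun U V => bc_step f g g' f' h M hflat U V) W hW

/-- base change for `Ext(ℤ, -)`, i.e. for the cohomology of `X`. -/
theorem bc_const [CompactSpace X] [QuasiSeparatedSpace X] [M.IsQuasicoherent] [QuasiCompact g']
    [QuasiSeparated g'] (hS : IsAffineOpen (⊤ : S.Opens)) (hS' : IsAffineOpen (⊤ : S'.Opens))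
    (hflat : (g.appLE ⊤ ⊤ (le_pre_top g ⊤)).hom.Flat) :
    letI := algΓ (S := S) (S' := S') g
    BC (ρF f M) (ρG g' f' M) (ηη g' M) (semiLin f g g' f' h M) (constZ X.carrier) := by
  letI := algΓ (S := S) (S' := S') g
  exact BC.of_precomp_bijective (semiLin f g g' f' h M) (wTop X.carrier)
    (fun n => precomp_wTop_bijective X.carrier (Coh.toAb M) n)
    (fun n => precomp_wTop_bijective X.carrier (Coh.toAb (GG g' M)) n)
    (bc_compact f g g' f' h M hS hS' hflat ⊤ (by simpa using isCompact_univ (X := X)))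

end top

end Groth.Agent.Lib.Seat70.FlatBC
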