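import Groth.Agent.Lib.Seat70FlatBC

/-!
# Flat base change for cohomology over an affine base (seat 70)

`flat_base_change`: for `A → B` flat, `X` quasi-compact quasi-separated over `Spec A`, `X' = X ×_A Spec B` with
projection `g' : X' ⟶ X` and `M` quasi-coherent on `X`, the comparison map
`cmp : H^p(X, M) → H^p(X', g'^* M)` (unit of adjunction followed by the edge map of the affine morphism `g'`) is
`A → B`-semilinear and induces a bijection `B ⊗[A] H^p(X, M) → H^p(X', g'^* M)` (the map `kap (cmp ..) hu`, which is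
`B`-linear).  Proof: Mayer–Vietoris induction (`Seat70FlatBC.bc_const`) + Leray for the affine morphism `g'`
(`edge_bijective`) + transport along `A ≃ Γ(Spec A, ⊤)`.
-/

set_option autoImplicit false
set_option linter.style.haveILetI false
set_option linter.unusedSectionVars false
universe u
open CategoryTheory CategoryTheory.Limits AlgebraicGeometry Opposite TopologicalSpace Abelian

namespace Groth.Agent.Lib.Seat70.FlatBCMain

open Groth.Agent.Lib.Seat70.ExtBC Groth.Agent.Helper13FlatMV Groth.Agent.Lib.Seat70.FlatBC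
open Groth.Agent.Lib.Helper23.AffVanish Groth.Agent.Lib.Helper16.ClosedEmb
open Groth.Agent.Lib.Seat81.EdgeAb

section edge
variable {X' X : Scheme.{u}} (g' : X' ⟶ X)

/-- the edge map is bijective for an affine morphism and a quasi-coherent module -/
theorem edge_bijective [IsAffineHom g'] (N : X'.Modules) [N.IsQuasicoherent] (p : ℕ) :
    Function.Bijective (edgeAb g'.base (Coh.toAb N) p) := by
  have hz : ∀ q : ℕ, IsZero ((CohTop.Rpush g'.base (q + 1)).obj (Coh.toAb N)) := by
    intro n
    refine isZero_Rpush_of_basis g'.base X.affineOpens X.isBasis_affineOpens (ab' N) ?_ n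
    intro V hV j
    exact subsingleton_HE_of_isAffineOpen (IsAffineOpen.preimage hV g') N j
  exact edgeAb_bijective g'.base p (Coh.toAb N) hz

end edge

section main
variable (A B : Type u) [CommRing A] [CommRing B] [Algebra A B] [Module.Flat A B]
  (X X' : Scheme.{u}) [X.Over (Spec (CommRingCat.of A))] [X'.Over (Spec (CommRingCat.of B))]
  [CompactSpace X] [QuasiSeparatedSpace X] (g' : X' ⟶ X)
  (h : IsPullback g' (X' ↘ Spec (CommRingCat.of B)) (X ↘ Spec (CommRingCat.of A))
    (Spec.map (CommRingCat.ofHom (algebraMap A B))))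
  (M : X.Modules) [Coh.IsQCoh M] (p : ℕ)

/-- the comparison map `H^p(X, M) → H^p(X', g'^* M)` -/
noncomputable def cmp : Coh.HH X M p →+ Coh.HH X' ((Scheme.Modules.pullback g').obj M) p :=
  (edgeAb g'.base (Coh.toAb ((Scheme.Modules.pullback g').obj M)) p).comp
    (Sheaf.H.map (ηη g' M) p)

include h in
theorem flat_base_change :
    ∃ hu : ∀ (a : A) (m : Coh.HH X M p),
        cmp X X' g' M p (a • m) = algebraMap A B a • cmp X X' g' M p m,
      Function.Bijective (kap (cmp X X' g' M p) hu) := by
  letI := algΓ (S := Spec (CommRingCat.of A)) (S' := Spec (CommRingCat.of B))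
    (Spec.map (CommRingCat.ofHom (algebraMap A B)))
  have hS : IsAffineOpen (⊤ : (Spec (CommRingCat.of A)).Opens) := isAffineOpen_top _
  have hS' : IsAffineOpen (⊤ : (Spec (CommRingCat.of B)).Opens) := isAffineOpen_top _
  haveI : Flat (Spec.map (CommRingCat.ofHom (algebraMap A B))) :=
    Flat.SpecMap_iff.2 (RingHom.flat_algebraMap_iff.2 inferInstance)
  have hflat : ((Spec.map (CommRingCat.ofHom (algebraMap A B))).appLE ⊤ ⊤
      (le_pre_top (Spec.map (CommRingCat.ofHom (algebraMap A B))) ⊤)).hom.Flat :=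
    (Spec.map (CommRingCat.ofHom (algebraMap A B))).flat_appLE hS hS' _
  haveI : IsAffineHom g' :=
    MorphismProperty.of_isPullback (P := @IsAffineHom) h.flip inferInstance
  haveI : (M' g' M).IsQuasicoherent :=
    Groth.Agent.Lib.Helper2.PullbackSec.isQuasicoherent_pullback g' M
  have hbc := bc_const (X ↘ Spec (CommRingCat.of A)) (Spec.map (CommRingCat.ofHom (algebraMap A B)))
    g' (X' ↘ Spec (CommRingCat.of B)) h M hS hS' hflat p
  -- the ring isomorphisms `A ≃ Γ(Spec A, ⊤)`, `B ≃ Γ(Spec B, ⊤)`
  let eA : A ≃+* Γ(Spec (CommRingCat.of A), ⊤) :=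
    (Scheme.ΓSpecIso (CommRingCat.of A)).symm.commRingCatIsoToRingEquiv
  let eB : B ≃+* Γ(Spec (CommRingCat.of B), ⊤) :=
    (Scheme.ΓSpecIso (CommRingCat.of B)).symm.commRingCatIsoToRingEquiv
  have hcomm : ∀ a : A, eB (algebraMap A B a) =
      algebraMap Γ(Spec (CommRingCat.of A), ⊤) Γ(Spec (CommRingCat.of B), ⊤) (eA a) := by
    intro a
    have e := Scheme.ΓSpecIso_inv_naturality (CommRingCat.ofHom (algebraMap A B))
    have e2 := congrArg (fun t => t.hom a) e
    refine e2.trans ?_
    change (Spec.map (CommRingCat.ofHom (algebraMap A B))).appTop.hom _ =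
      ((Spec.map (CommRingCat.ofHom (algebraMap A B))).appLE ⊤ ⊤ _).hom _
    have hg : (Spec.map (CommRingCat.ofHom (algebraMap A B))).appLE ⊤ ⊤
        (le_pre_top (Spec.map (CommRingCat.ofHom (algebraMap A B))) ⊤) =
        (Spec.map (CommRingCat.ofHom (algebraMap A B))).appTop :=
      Scheme.Hom.appLE_eq_app (Spec.map (CommRingCat.ofHom (algebraMap A B)))
    rw [hg]
    rfl
  let i : EL (ρF (X ↘ Spec (CommRingCat.of A)) M) (constZ X.carrier) p →+ Coh.HH X M p :=
    { toFun := fun x => x, map_zero' := rfl, map_add' := fun _ _ => rfl }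
  have hi : Function.Bijective i := Function.bijective_id
  have hia : ∀ (a : A) (m : EL (ρF (X ↘ Spec (CommRingCat.of A)) M) (constZ X.carrier) p),
      i (eA a • m) = a • i m := by
    intro a m
    rfl
  let j : EL (ρG g' (X' ↘ Spec (CommRingCat.of B)) M) (constZ X.carrier) p →+
      Coh.HH X' ((Scheme.Modules.pullback g').obj M) p :=
    { toFun := fun x => edgeAb g'.base (Coh.toAb (M' g' M)) p x
      map_zero' := map_zero (edgeAb g'.base (Coh.toAb (M' g' M)) p)
      map_add' := fun x y => map_add (edgeAb g'.base (Coh.toAb (M' g' M)) p) x y }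
  have hj : Function.Bijective j := edge_bijective g' (M' g' M) p
  have hjb : ∀ (b : B) (n : EL (ρG g' (X' ↘ Spec (CommRingCat.of B)) M) (constZ X.carrier) p),
      j (eB b • n) = b • j n := by
    intro b n
    exact edgeAb_map g'.base (Coh.smulAb (M' g' M)
      (Coh.toGlobal (X' ↘ Spec (CommRingCat.of B)) b)) p n
  have hcomp : ∀ m : EL (ρF (X ↘ Spec (CommRingCat.of A)) M) (constZ X.carrier) p,
      j (uE (ρF (X ↘ Spec (CommRingCat.of A)) M) (ρG g' (X' ↘ Spec (CommRingCat.of B)) M)
        (ηη g' M) (constZ X.carrier) p m) = cmp X X' g' M p (i m) := by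
    intro m
    rfl
  have hsl := semilinear_transport eA eB hcomm i hi.2 hia j hjb
    (uE (ρF (X ↘ Spec (CommRingCat.of A)) M) (ρG g' (X' ↘ Spec (CommRingCat.of B)) M)
      (ηη g' M) (constZ X.carrier) p)
    (uE_smul (semiLin (X ↘ Spec (CommRingCat.of A)) (Spec.map (CommRingCat.ofHom (algebraMap A B)))
      g' (X' ↘ Spec (CommRingCat.of B)) h M) (constZ X.carrier) p)
    (cmp X X' g' M p) hcomp
  exact ⟨hsl, kap_bijective_transport eA eB hcomm i hi hia j hj hjb _ _ (cmp X X' g' M p) hsl hcomp
    hbc⟩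

end main

end Groth.Agent.Lib.Seat70.FlatBCMain
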