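import Mathlib

/-!
Corepresentability of `Q ↦ Hom_{k[[z]]}(R, Q[[z]])` (helper for S15126).
-/

set_option autoImplicit false
universe u

namespace Groth.Agent.Lib.Seat70.FormalCorep

open MvPowerSeries

variable (k : Type u) [CommRing k] (n : ℕ) (R : Type u) [CommRing R]
  [Algebra (MvPowerSeries (Fin n) k) R]

/-- the polynomial ring on symbols `(r, m)`: the `m`-th coefficient of the universal series at `r` -/
abbrev Poly := MvPolynomial (R × (Fin n →₀ ℕ)) k

/-- the universal series attached to `r` -/
noncomputable def U (r : R) : MvPowerSeries (Fin n) (Poly k n R) :=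
  fun m => MvPolynomial.X (r, m)

theorem coeff_U (r : R) (m : Fin n →₀ ℕ) : coeff m (U k n R r) = MvPolynomial.X (r, m) := rfl

/-- the relations making `U` an algebra homomorphism -/
def rels : Set (MvPowerSeries (Fin n) (Poly k n R)) :=
  {e | (∃ r s, e = U k n R (r + s) - U k n R r - U k n R s) ∨
       (∃ r s, e = U k n R (r * s) - U k n R r * U k n R s) ∨
       (∃ φ : MvPowerSeries (Fin n) k,
          e = U k n R (algebraMap _ R φ) - MvPowerSeries.map (algebraMap k (Poly k n R)) φ)}

/-- the ideal of relations -/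
noncomputable def relIdeal : Ideal (Poly k n R) :=
  Ideal.span {c | ∃ e ∈ rels k n R, ∃ m : Fin n →₀ ℕ, c = coeff m e}

/-- the corepresenting algebra -/
abbrev P := Poly k n R ⧸ relIdeal k n R

theorem map_mk_rel {e : MvPowerSeries (Fin n) (Poly k n R)} (he : e ∈ rels k n R) :
    MvPowerSeries.map (Ideal.Quotient.mk (relIdeal k n R)) e = 0 := by
  ext m
  rw [coeff_map, map_zero, Ideal.Quotient.eq_zero_iff_mem]
  exact Ideal.subset_span ⟨e, he, m, rfl⟩

/-- the universal homomorphism, as a function -/
noncomputable def uFun (r : R) : MvPowerSeries (Fin n) (P k n R) :=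
  MvPowerSeries.map (Ideal.Quotient.mk (relIdeal k n R)) (U k n R r)

theorem uFun_add (r s : R) : uFun k n R (r + s) = uFun k n R r + uFun k n R s := by
  have h := map_mk_rel k n R (e := U k n R (r + s) - U k n R r - U k n R s) (Or.inl ⟨r, s, rfl⟩)
  rw [map_sub, map_sub, sub_sub, sub_eq_zero] at h
  exact h

theorem uFun_mul (r s : R) : uFun k n R (r * s) = uFun k n R r * uFun k n R s := by
  have h := map_mk_rel k n R (e := U k n R (r * s) - U k n R r * U k n R s)
    (Or.inr (Or.inl ⟨r, s, rfl⟩))
  rw [map_sub, map_mul, sub_eq_zero] at h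
  exact h

theorem uFun_algebraMap (φ : MvPowerSeries (Fin n) k) :
    uFun k n R (algebraMap _ R φ) = algebraMap _ (MvPowerSeries (Fin n) (P k n R)) φ := by
  have h := map_mk_rel k n R
    (e := U k n R (algebraMap _ R φ) - MvPowerSeries.map (algebraMap k (Poly k n R)) φ)
    (Or.inr (Or.inr ⟨φ, rfl⟩))
  rw [map_sub, sub_eq_zero, MvPowerSeries.map_map] at h
  rw [uFun, h, MvPowerSeries.algebraMap_apply'']
  rfl

/-- the universal homomorphism -/
noncomputable def u : R →ₐ[MvPowerSeries (Fin n) k] MvPowerSeries (Fin n) (P k n R) where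
  toFun := uFun k n R
  map_one' := by
    have := uFun_algebraMap k n R 1
    rwa [map_one, map_one] at this
  map_mul' := uFun_mul k n R
  map_zero' := by
    have := uFun_add k n R 0 0
    rw [add_zero] at this
    exact left_eq_add.mp this
  map_add' := uFun_add k n R
  commutes' := uFun_algebraMap k n R

theorem coeff_u (r : R) (m : Fin n →₀ ℕ) :
    coeff m (u k n R r) = Ideal.Quotient.mk (relIdeal k n R) (MvPolynomial.X (r, m)) := rfl

variable {k n R}

section Lift

variable {Q : Type u} [CommRing Q] [Algebra k Q]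
  (f : R →ₐ[MvPowerSeries (Fin n) k] MvPowerSeries (Fin n) Q)

/-- the map on polynomial rings induced by `f` -/
noncomputable def g₀ : Poly k n R →ₐ[k] Q :=
  MvPolynomial.aeval (fun i : R × (Fin n →₀ ℕ) => coeff i.2 (f i.1))

theorem map_g₀_U (r : R) :
    MvPowerSeries.map (g₀ f : Poly k n R →+* Q) (U k n R r) = f r := by
  ext m
  rw [coeff_map, coeff_U]
  simp [g₀]

theorem map_g₀_rel {e : MvPowerSeries (Fin n) (Poly k n R)} (he : e ∈ rels k n R) :
    MvPowerSeries.map (g₀ f : Poly k n R →+* Q) e = 0 := by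
  rcases he with ⟨r, s, rfl⟩ | ⟨r, s, rfl⟩ | ⟨φ, rfl⟩
  · rw [map_sub, map_sub, map_g₀_U, map_g₀_U, map_g₀_U, map_add]; abel
  · rw [map_sub, map_mul, map_g₀_U, map_g₀_U, map_g₀_U, map_mul, sub_self]
  · rw [map_sub, map_g₀_U, MvPowerSeries.map_map, AlgHom.commutes, sub_eq_zero,
      MvPowerSeries.algebraMap_apply'']
    congr 1
    ext c
    simp

theorem relIdeal_le_ker : relIdeal k n R ≤ RingHom.ker (g₀ f : Poly k n R →+* Q) := by
  rw [relIdeal, Ideal.span_le]
  rintro c ⟨e, he, m, rfl⟩
  rw [SetLike.mem_coe, RingHom.mem_ker]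
  have := congrArg (coeff m) (map_g₀_rel f he)
  rwa [coeff_map, map_zero] at this

/-- the induced map `P → Q` -/
noncomputable def g : P k n R →ₐ[k] Q :=
  Ideal.Quotient.liftₐ (relIdeal k n R) (g₀ f) (fun a ha => relIdeal_le_ker f ha)

theorem g_mk (x : Poly k n R) : g f (Ideal.Quotient.mk _ x) = g₀ f x := rfl

theorem map_g_u (r : R) : MvPowerSeries.map (g f : P k n R →+* Q) (u k n R r) = f r := by
  ext m
  rw [coeff_map, coeff_u]
  have : (g f : P k n R →+* Q) (Ideal.Quotient.mk _ (MvPolynomial.X (r, m))) =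
      g₀ f (MvPolynomial.X (r, m)) := rfl
  rw [this]
  simp [g₀]

theorem g_unique (g' : P k n R →ₐ[k] Q)
    (h : ∀ r, MvPowerSeries.map (g' : P k n R →+* Q) (u k n R r) = f r) : g' = g f := by
  apply Ideal.Quotient.algHom_ext
  apply MvPolynomial.algHom_ext
  rintro ⟨r, m⟩
  have h1 := congrArg (coeff m) (h r)
  have h2 := congrArg (coeff m) (map_g_u f r)
  rw [coeff_map, coeff_u] at h1 h2
  change g' (Ideal.Quotient.mk _ (MvPolynomial.X (r, m))) = g f (Ideal.Quotient.mk _ (MvPolynomial.X (r, m)))
  exact h1.trans h2.symm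

end Lift

/-- countable generation -/
theorem countable_gen (s : Set R) (hs : s.Countable)
    (hgen : Algebra.adjoin (MvPowerSeries (Fin n) k) s = ⊤) :
    ∃ t : Set (P k n R), t.Countable ∧ Algebra.adjoin k t = ⊤ := by
  classical
  let t : Set (P k n R) :=
    (fun i : R × (Fin n →₀ ℕ) => Ideal.Quotient.mk (relIdeal k n R) (MvPolynomial.X i)) ''
      (s ×ˢ (Set.univ : Set (Fin n →₀ ℕ)))
  refine ⟨t, (hs.prod Set.countable_univ).image _, ?_⟩
  set P' := Algebra.adjoin k t with hP'
  -- the subalgebra of R of elements whose universal series has coefficients in P'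
  let R' : Subalgebra (MvPowerSeries (Fin n) k) R :=
    { carrier := {r | ∀ m, coeff m (u k n R r) ∈ P'}
      mul_mem' := by
        intro a b ha hb m
        rw [map_mul, coeff_mul]
        exact Subalgebra.sum_mem _ fun x _ => Subalgebra.mul_mem _ (ha _) (hb _)
      add_mem' := by
        intro a b ha hb m
        rw [map_add, map_add]
        exact Subalgebra.add_mem _ (ha _) (hb _)
      algebraMap_mem' := by
        intro φ m
        rw [AlgHom.commutes, MvPowerSeries.algebraMap_apply'', coeff_map]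
        exact Subalgebra.algebraMap_mem _ _ }
  have hs' : s ⊆ R' := by
    intro r hr m
    rw [coeff_u]
    exact Algebra.subset_adjoin ⟨(r, m), ⟨hr, Set.mem_univ _⟩, rfl⟩
  have hR' : R' = ⊤ := by
    rw [eq_top_iff, ← hgen]
    exact Algebra.adjoin_le hs'
  -- hence all generators are in P'
  rw [eq_top_iff]
  rintro x -
  obtain ⟨y, rfl⟩ := Ideal.Quotient.mk_surjective x
  induction y using MvPolynomial.induction_on with
  | C a =>
    have : Ideal.Quotient.mk (relIdeal k n R) (MvPolynomial.C a) = algebraMap k (P k n R) a := rfl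
    rw [this]
    exact Subalgebra.algebraMap_mem _ _
  | add p q hp hq =>
    rw [map_add]
    exact Subalgebra.add_mem _ hp hq
  | mul_X p i hp =>
    rw [map_mul]
    refine Subalgebra.mul_mem _ hp ?_
    obtain ⟨r, m⟩ := i
    have : r ∈ R' := by rw [hR']; exact Algebra.mem_top
    have := this m
    rwa [coeff_u] at this

end Groth.Agent.Lib.Seat70.FormalCorep
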