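import Mathlib

/-!
# Seat70: the polynomial model of a curve singularity (for S15152)

`R ⊆ ∏_{i<s} k[[x]]` a subalgebra with conductor exponents `c`, `A = (∏ k[x]) ∩ R`.
-/
set_option autoImplicit false
universe u
open Polynomial

namespace Groth.Agent.Lib.Seat70.HilbZeta


variable {k : Type u} [Field k] {s : ℕ}
  {R : Subalgebra k (Fin s → PowerSeries k)} {c : Fin s → ℕ}
  {A : Subalgebra k (Fin s → Polynomial k)}

/-- conductor: tuples of polynomials divisible by `x^{c_i}` lie in `A`; even after multiplication -/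
theorem mem_of_coeff (hc : ∀ f : Fin s → PowerSeries k,
      (∀ g : Fin s → PowerSeries k, g * f ∈ R) ↔ ∀ i, ((c i : ℕ) : ℕ∞) ≤ (f i).order)
    (hA : ∀ g : Fin s → Polynomial k, g ∈ A ↔ (fun i => ((g i : Polynomial k) : PowerSeries k)) ∈ R)
    (p : Fin s → Polynomial k) (hp : ∀ i, ∀ j < c i, (p i).coeff j = 0) : p ∈ A := by
  rw [hA]
  have := (hc (fun i => ((p i : Polynomial k) : PowerSeries k))).2 (fun i => by
    apply PowerSeries.nat_le_order
    intro j hj
    rw [Polynomial.coeff_coe]
    exact hp i j hj) 1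
  simpa using this

theorem single_mem (hc : ∀ f : Fin s → PowerSeries k,
      (∀ g : Fin s → PowerSeries k, g * f ∈ R) ↔ ∀ i, ((c i : ℕ) : ℕ∞) ≤ (f i).order)
    (hA : ∀ g : Fin s → Polynomial k, g ∈ A ↔ (fun i => ((g i : Polynomial k) : PowerSeries k)) ∈ R)
    (i : Fin s) (n : ℕ) (hn : c i ≤ n) (u : Polynomial k) :
    (Pi.single i (X ^ n * u) : Fin s → Polynomial k) ∈ A := by
  apply mem_of_coeff hc hA
  intro i' j hj
  by_cases h : i' = i
  · subst h
    rw [Pi.single_eq_same, Polynomial.coeff_X_pow_mul']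
    rw [if_neg (by omega)]
  · rw [Pi.single_eq_of_ne h, Polynomial.coeff_zero]



theorem finite_of_single_mem (hsm : ∀ (i : Fin s) (n : ℕ), c i ≤ n → ∀ u : Polynomial k,
    (Pi.single i (X ^ n * u) : Fin s → Polynomial k) ∈ A) :
    Module.Finite ↥A (Fin s → Polynomial k) := by
  classical
  set m := 1 + ∑ i, c i with hm
  have hcm : ∀ i, c i ≤ m := fun i => by
    have := Finset.single_le_sum (f := c) (fun _ _ => Nat.zero_le _) (Finset.mem_univ i)
    omega
  let gens : Fin s × Fin m → (Fin s → Polynomial k) := fun ij => Pi.single ij.1 (X ^ (ij.2 : ℕ))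
  have key : ∀ (i : Fin s) (n : ℕ), (Pi.single i (X ^ n) : Fin s → Polynomial k) ∈
      Submodule.span ↥A (Set.range gens) := by
    intro i n
    by_cases hn : n < m
    · exact Submodule.subset_span ⟨(i, ⟨n, hn⟩), rfl⟩
    · have h1 : (Pi.single i (X ^ n * 1) : Fin s → Polynomial k) ∈ A :=
        hsm i n (le_trans (hcm i) (by omega)) 1
      have h2 : (Pi.single i (X ^ n) : Fin s → Polynomial k) =
          (⟨_, h1⟩ : ↥A) • (Pi.single i (X ^ 0) : Fin s → Polynomial k) := by
        rw [Subalgebra.smul_def]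
        funext i'
        by_cases h : i' = i
        · subst h; simp
        · simp [Pi.single_eq_of_ne h]
      rw [h2]
      apply Submodule.smul_mem
      exact Submodule.subset_span ⟨(i, ⟨0, by omega⟩), rfl⟩
  have key2 : ∀ (i : Fin s) (q : Polynomial k), (Pi.single i q : Fin s → Polynomial k) ∈
      Submodule.span ↥A (Set.range gens) := by
    intro i q
    induction q using Polynomial.induction_on' with
    | add p q hp hq =>
      rw [Pi.single_add]
      exact Submodule.add_mem _ hp hq
    | monomial n a =>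
      have : (Pi.single i (monomial n a) : Fin s → Polynomial k) =
          a • (Pi.single i (X ^ n) : Fin s → Polynomial k) := by
        rw [← Pi.single_smul, ← Polynomial.C_mul_X_pow_eq_monomial, Polynomial.smul_eq_C_mul]
      rw [this]
      exact Submodule.smul_of_tower_mem _ a (key i n)
  refine ⟨⟨(Set.finite_range gens).toFinset, ?_⟩⟩
  rw [Set.Finite.coe_toFinset, eq_top_iff]
  intro p _
  rw [← Finset.univ_sum_single p]
  exact Submodule.sum_mem _ (fun i _ => key2 i (p i))



theorem pi_fg : (⊤ : Subalgebra k (Fin s → Polynomial k)).FG := by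
  classical
  refine ⟨Finset.univ.image (fun i => (Pi.single i 1 : Fin s → Polynomial k)) ∪
    Finset.univ.image (fun i => (Pi.single i X : Fin s → Polynomial k)), ?_⟩
  rw [eq_top_iff]
  intro p _
  set S := Algebra.adjoin k (↑(Finset.univ.image (fun i => (Pi.single i 1 : Fin s → Polynomial k)) ∪
    Finset.univ.image (fun i => (Pi.single i X : Fin s → Polynomial k))) : Set (Fin s → Polynomial k))
    with hS
  have h1 : ∀ i, (Pi.single i 1 : Fin s → Polynomial k) ∈ S := fun i =>
    Algebra.subset_adjoin (by simp)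
  have hX : ∀ i, (Pi.single i X : Fin s → Polynomial k) ∈ S := fun i =>
    Algebra.subset_adjoin (by simp)
  have key : ∀ (i : Fin s) (q : Polynomial k), (Pi.single i q : Fin s → Polynomial k) ∈ S := by
    intro i q
    induction q using Polynomial.induction_on' with
    | add p q hp hq =>
      rw [Pi.single_add]
      exact S.add_mem hp hq
    | monomial n a =>
      have : (Pi.single i (monomial n a) : Fin s → Polynomial k) =
          a • ((Pi.single i 1 : Fin s → Polynomial k) * (Pi.single i X) ^ n) := by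
        funext i'
        by_cases h : i' = i
        · subst h
          simp [← Polynomial.C_mul_X_pow_eq_monomial, Polynomial.smul_eq_C_mul]
        · simp [Pi.single_eq_of_ne h]
      rw [this]
      exact S.smul_mem (S.mul_mem (h1 i) (S.pow_mem (hX i) n)) a
  rw [← Finset.univ_sum_single p]
  exact S.sum_mem (fun i _ => key i (p i))

theorem finiteType_of_finite (hfin : Module.Finite ↥A (Fin s → Polynomial k)) :
    Algebra.FiniteType k ↥A := by
  refine ⟨fg_of_fg_of_fg k ↥A (Fin s → Polynomial k) pi_fg (Module.finite_def.1 hfin) ?_⟩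
  exact Subtype.val_injective



theorem le_sum (c : Fin s → ℕ) (i : Fin s) : c i ≤ ∑ i, c i :=
  Finset.single_le_sum (f := c) (fun _ _ => Nat.zero_le _) (Finset.mem_univ i)

/-- (2) no nontrivial idempotents -/
theorem idem (hloc : ∀ f ∈ R, ∀ i j : Fin s, PowerSeries.constantCoeff (f i) = PowerSeries.constantCoeff (f j))
    (hA : ∀ g : Fin s → Polynomial k, g ∈ A ↔ (fun i => ((g i : Polynomial k) : PowerSeries k)) ∈ R)
    (e : Fin s → Polynomial k) (he : e ∈ A) (hee : e * e = e) : e = 0 ∨ e = 1 := by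
  have h01 : ∀ i, e i = 0 ∨ e i = 1 := fun i => by
    have : e i * e i = e i := congrFun hee i
    exact IsIdempotentElem.iff_eq_zero_or_one.1 this
  have hcc : ∀ i j, (e i).coeff 0 = (e j).coeff 0 := fun i j => by
    have := hloc _ ((hA e).1 he) i j
    simpa [← PowerSeries.coeff_zero_eq_constantCoeff_apply, Polynomial.coeff_coe] using this
  rcases Nat.eq_zero_or_pos s with rfl | hs
  · left; funext i; exact i.elim0
  · let i₀ : Fin s := ⟨0, hs⟩
    rcases h01 i₀ with h0 | h1
    · left
      funext j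
      rcases h01 j with hj | hj
      · exact hj
      · exfalso
        have := hcc j i₀
        rw [hj, h0] at this
        simp at this
    · right
      funext j
      rcases h01 j with hj | hj
      · exfalso
        have := hcc j i₀
        rw [hj, h1] at this
        simp at this
      · exact hj

/-- (4) -/
theorem prod_mem (hmc : ∀ p : Fin s → Polynomial k, (∀ i, ∀ j < c i, (p i).coeff j = 0) → p ∈ A)
    (g : Fin (∑ i, c i) → (Fin s → Polynomial k))
    (hg : ∀ n, g n ∈ A ∧ ∀ i, (g n i).coeff 0 = 0) (p : Fin s → Polynomial k) :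
    p * ∏ n, g n ∈ A := by
  apply hmc
  intro i j hj
  have h1 : X ^ (∑ i, c i) ∣ (p * ∏ n, g n) i := by
    rw [Pi.mul_apply, Finset.prod_apply]
    apply Dvd.dvd.mul_left
    have : (X : Polynomial k) ^ (∑ i, c i) = ∏ _n : Fin (∑ i, c i), (X : Polynomial k) := by
      simp
    rw [this]
    apply Finset.prod_dvd_prod_of_dvd
    intro n _
    exact Polynomial.X_dvd_iff.2 ((hg n).2 i)
  exact Polynomial.X_pow_dvd_iff.1 h1 j (lt_of_lt_of_le hj (le_sum c i))

/-- (5) -/
theorem approx (hc : ∀ f : Fin s → PowerSeries k,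
      (∀ g : Fin s → PowerSeries k, g * f ∈ R) ↔ ∀ i, ((c i : ℕ) : ℕ∞) ≤ (f i).order)
    (hA : ∀ g : Fin s → Polynomial k, g ∈ A ↔ (fun i => ((g i : Polynomial k) : PowerSeries k)) ∈ R)
    (f : Fin s → PowerSeries k) (hf : f ∈ R) (N : ℕ) :
    ∃ g ∈ A, ∀ i : Fin s, (N : ℕ∞) ≤ (f i - ((g i : Polynomial k) : PowerSeries k)).order := by
  set n := N + ∑ i, c i with hn
  have hord : ∀ (m : ℕ), m ≤ n → ∀ i,
      (m : ℕ∞) ≤ (f i - ((PowerSeries.trunc n (f i) : Polynomial k) : PowerSeries k)).order := by
    intro m hm i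
    apply PowerSeries.nat_le_order
    intro j hj
    rw [map_sub, Polynomial.coeff_coe, PowerSeries.coeff_trunc, if_pos (by omega), sub_self]
  refine ⟨fun i => PowerSeries.trunc n (f i), ?_, hord N (by omega)⟩
  rw [hA]
  have h1 : (fun i => f i - ((PowerSeries.trunc n (f i) : Polynomial k) : PowerSeries k)) ∈ R := by
    have := (hc _).2 (fun i => hord (c i) (by have := le_sum c i; omega) i) 1
    simpa using this
  have h2 := R.sub_mem hf h1
  convert h2 using 1
  funext i
  simp




/-- (6) -/
theorem mem_pow (hsm : ∀ (i : Fin s) (n : ℕ), c i ≤ n → ∀ u : Polynomial k,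
      (Pi.single i (X ^ n * u) : Fin s → Polynomial k) ∈ A) (N : ℕ) :
    ∃ M : ℕ, ∀ g : ↥A, (∀ i : Fin s, Polynomial.X ^ M ∣ (g : Fin s → Polynomial k) i) →
      g ∈ (Ideal.span {h : ↥A | ∀ i : Fin s, ((h : Fin s → Polynomial k) i).coeff 0 = 0}) ^ N := by
  classical
  rcases N with _ | N
  · exact ⟨0, fun g _ => by simp⟩
  set cb := 1 + ∑ i, c i with hcb
  have hcbi : ∀ i, c i ≤ cb := fun i => by have := le_sum c i; omega
  refine ⟨(N + 1) * cb, ?_⟩
  intro g hg
  choose u hu using hg
  set m₀ := Ideal.span {h : ↥A | ∀ i : Fin s, ((h : Fin s → Polynomial k) i).coeff 0 = 0} with hm₀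
  have hcoeff : ∀ (i : Fin s) (v : Polynomial k) (i' : Fin s),
      ((Pi.single i (X ^ cb * v) : Fin s → Polynomial k) i').coeff 0 = 0 := by
    intro i v i'
    by_cases h : i' = i
    · subst h
      rw [Pi.single_eq_same, Polynomial.coeff_X_pow_mul', if_neg (by omega)]
    · rw [Pi.single_eq_of_ne h, Polynomial.coeff_zero]
  let a : Fin s → ↥A := fun i => ⟨Pi.single i (X ^ cb * 1), hsm i cb (hcbi i) 1⟩
  let b : Fin s → ↥A := fun i => ⟨Pi.single i (X ^ cb * u i), hsm i cb (hcbi i) (u i)⟩
  have ha : ∀ i, a i ∈ m₀ := fun i => Ideal.subset_span (fun i' => hcoeff i 1 i')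
  have hb : ∀ i, b i ∈ m₀ := fun i => Ideal.subset_span (fun i' => hcoeff i (u i) i')
  have hgsum : g = ∑ i, a i ^ N * b i := by
    apply Subtype.ext
    funext i'
    rw [AddSubmonoidClass.coe_finsetSum, Finset.sum_apply, Finset.sum_eq_single i']
    · simp only [a, b, MulMemClass.coe_mul, SubmonoidClass.coe_pow, Pi.mul_apply, Pi.pow_apply,
        Pi.single_eq_same, mul_one]
      rw [hu i']
      ring
    · intro i _ hne
      simp only [b, MulMemClass.coe_mul, Pi.mul_apply, Pi.single_eq_of_ne hne.symm, mul_zero]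
    · intro h; exact absurd (Finset.mem_univ _) h
  rw [hgsum]
  apply Ideal.sum_mem
  intro i _
  rw [pow_succ]
  exact Ideal.mul_mem_mul (Ideal.pow_mem_pow (ha i) N) (hb i)


end Groth.Agent.Lib.Seat70.HilbZeta
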