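import Mathlib

/-!
Helper lemmas for S15100: cokernels of maps from a cyclic module over a local ring and their
localizations.
-/

set_option autoImplicit false
universe u v w

namespace Groth.Agent.Lib.Seat70.KaehlerLocal

open IsLocalRing

/-- Over a local ring, if the cokernel of `B z → N` is projective and `z ∈ 𝔪 N`, then `z = 0`. -/
theorem eq_zero_of_projective_coker {B : Type u} [CommRing B] [IsLocalRing B]
    {N : Type v} {M : Type w} [AddCommGroup N] [Module B N] [AddCommGroup M] [Module B M]
    [Module.Projective B M] (ψ : N →ₗ[B] M) (hψ : Function.Surjective ψ) (z : N)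
    (hker : LinearMap.ker ψ = Submodule.span B {z})
    (hz : z ∈ (maximalIdeal B) • (⊤ : Submodule B N)) : z = 0 := by
  obtain ⟨s, hs⟩ := Module.projective_lifting_property ψ LinearMap.id hψ
  have hs' : ∀ m, ψ (s m) = m := fun m => by
    have := LinearMap.congr_fun hs m
    simpa using this
  -- T = id - s ∘ ψ
  let T : N →ₗ[B] N := LinearMap.id - s.comp ψ
  have hT : ∀ v, T v ∈ Submodule.span B {z} := by
    intro v
    rw [← hker, LinearMap.mem_ker]
    simp [T, hs']
  have hzker : ψ z = 0 := by
    rw [← LinearMap.mem_ker, hker]
    exact Submodule.mem_span_singleton_self z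
  have hTz : T z = z := by simp [T, hzker]
  have key : ∀ v ∈ (maximalIdeal B) • (⊤ : Submodule B N),
      T v ∈ (maximalIdeal B) • (Submodule.span B {z}) := by
    intro v hv
    refine Submodule.smul_induction_on hv ?_ ?_
    · intro r hr n _
      rw [map_smul]
      exact Submodule.smul_mem_smul hr (hT n)
    · intro x y hx hy
      rw [map_add]
      exact add_mem hx hy
  have h1 := key z hz
  rw [hTz, Submodule.mem_smul_span_singleton] at h1
  obtain ⟨μ, hμ, hμz⟩ := h1
  have hunit : IsUnit (1 - μ) := by
    have : ¬ (1 - μ) ∈ maximalIdeal B := by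
      intro h
      have h1 : (1 : B) ∈ maximalIdeal B := by
        have := add_mem h hμ
        simp at this
      exact (Ideal.ne_top_iff_one _).mp (maximalIdeal.isMaximal B).ne_top h1
    simpa [mem_maximalIdeal, mem_nonunits_iff] using this
  have h2 : (1 - μ) • z = 0 := by
    rw [sub_smul, one_smul, hμz, sub_self]
  exact (hunit.smul_eq_zero).mp h2

/-- Localized version: if the cokernel `M` of `A z → F` becomes free after localizing at a prime `P`
with `z ∈ P F`, then `z` is killed by an element outside `P`. -/
theorem exists_smul_eq_zero_of_free_localized {A : Type u} [CommRing A] (P : Ideal A) [P.IsPrime]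
    {F : Type v} {M : Type w} [AddCommGroup F] [Module A F] [AddCommGroup M] [Module A M]
    (ψ : F →ₗ[A] M) (hψ : Function.Surjective ψ) (z : F)
    (hker : LinearMap.ker ψ = Submodule.span A {z})
    (hz : z ∈ P • (⊤ : Submodule A F))
    (hfree : Module.Free (Localization.AtPrime P) (LocalizedModule P.primeCompl M)) :
    ∃ s ∈ P.primeCompl, s • z = 0 := by
  set S := P.primeCompl with hS
  set B := Localization.AtPrime P with hB
  let f := LocalizedModule.mkLinearMap S F
  let f' := LocalizedModule.mkLinearMap S M
  let ψ' : LocalizedModule S F →ₗ[B] LocalizedModule S M :=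
    (IsLocalizedModule.map S f f' ψ).extendScalarsOfIsLocalization S B
  have hψ' : Function.Surjective ψ' := by
    have := IsLocalizedModule.map_surjective S f f' ψ hψ
    exact this
  have hker' : LinearMap.ker ψ' = Submodule.span B {f z} := by
    have h1 := LinearMap.localized'_ker_eq_ker_localizedMap B S f f' ψ
    rw [← h1, hker, Submodule.localized'_span]
    simp
  have hz' : f z ∈ (IsLocalRing.maximalIdeal B) • (⊤ : Submodule B (LocalizedModule S F)) := by
    have h1 : f z ∈ (P • (⊤ : Submodule A F)).localized' B S f := ⟨z, hz, 1, by simp⟩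
    rw [Submodule.localized'_smul, Submodule.localized'_top] at h1
    refine Submodule.smul_mono_left ?_ h1
    rintro x ⟨a, ha, s, rfl⟩
    rw [← IsLocalization.mk'_eq_mk']
    exact (IsLocalization.AtPrime.mk'_mem_maximal_iff B P a s).mpr ha
  have : Module.Projective B (LocalizedModule S M) := Module.Projective.of_free
  have h0 := eq_zero_of_projective_coker ψ' hψ' (f z) hker' hz'
  have := (IsLocalizedModule.eq_zero_iff S f).mp h0
  obtain ⟨c, hc⟩ := this
  exact ⟨c, c.2, hc⟩

/-- Over a local ring, the cokernel of `A z → F` for `F` finite free and `z ∉ 𝔪 F` is free. -/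
theorem free_coker_of_notMem {A : Type u} [CommRing A] [IsLocalRing A]
    {F : Type v} {M : Type w} [AddCommGroup F] [Module A F] [AddCommGroup M] [Module A M]
    [Module.Free A F] [Module.Finite A F]
    (ψ : F →ₗ[A] M) (hψ : Function.Surjective ψ) (z : F)
    (hker : LinearMap.ker ψ = Submodule.span A {z})
    (hz : z ∉ (maximalIdeal A) • (⊤ : Submodule A F)) : Module.Free A M := by
  classical
  let b := Module.Free.chooseBasis A F
  -- some coordinate of z is a unit
  have hex : ∃ i, IsUnit (b.repr z i) := by
    by_contra hcon
    push Not at hcon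
    apply hz
    rw [← b.sum_repr z]
    refine Submodule.sum_mem _ fun i _ => ?_
    exact Submodule.smul_mem_smul (by simpa [mem_maximalIdeal, mem_nonunits_iff] using hcon i)
      Submodule.mem_top
  obtain ⟨i, hi⟩ := hex
  obtain ⟨u, hu⟩ := hi
  -- retraction onto span{z}
  let lam : F →ₗ[A] A := b.coord i
  have hlam : lam z = u := by simp [lam, hu]
  let T : F →ₗ[A] F := LinearMap.id - (LinearMap.toSpanSingleton A F z).comp ((↑u⁻¹ : A) • lam)
  have hTz : T z = 0 := by
    simp [T, hlam]
  have hTker : LinearMap.ker ψ ≤ LinearMap.ker T := by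
    rw [hker, Submodule.span_le]
    rintro x hx
    rw [Set.mem_singleton_iff] at hx
    rw [hx]
    exact hTz
  have hψT : ∀ v, ψ (T v) = ψ v := by
    intro v
    have hzker : ψ z = 0 := by
      rw [← LinearMap.mem_ker, hker]
      exact Submodule.mem_span_singleton_self z
    simp [T, hzker]
  -- the induced map M → F
  let e := ψ.quotKerEquivOfSurjective hψ
  let i0 : (F ⧸ LinearMap.ker ψ) →ₗ[A] F := (LinearMap.ker ψ).liftQ T hTker
  let ι : M →ₗ[A] F := i0.comp e.symm.toLinearMap
  have hι : ψ.comp ι = LinearMap.id := by
    ext m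
    obtain ⟨v, rfl⟩ := hψ m
    have : e.symm (ψ v) = Submodule.Quotient.mk v := by
      rw [LinearEquiv.symm_apply_eq]
      rfl
    simp [ι, i0, this, hψT]
  have : Module.Projective A M := Module.Projective.of_split ι ψ hι
  have : Module.Finite A M := Module.Finite.of_surjective ψ hψ
  exact Module.free_of_flat_of_isLocalRing

end Groth.Agent.Lib.Seat70.KaehlerLocal
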