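import Groth.Agent.Lib.Seat70LamSig
import Groth.Agent.Lib.Seat56LamGr

/-!
# Seat70: universal divisibility by `γ^d(n)` for `n` of `γ`-dimension `≤ d`

* `mem_span_of_repG` (**universal divisibility**): if `G` represents `γ^p ∘ (F · X_{s₀,d-1})`, `p ≥ 1`
  (`X_{s₀,d-1}` stands for `γ^d(x_{s₀})`), then every monomial of `G` contains one of the variables
  `X_{s₀,k}`, `k ≥ d - 1`.  Proof: in the splitting model where `x_{s₀}` has only `d - 1` roots,
  `γ^d(x_{s₀}) = 0`.
* `evG_mem_span_mul`: if `γ^k(x_{s₀}) = 0` for `k > d`, such a `G` of weight `≥ p` takes a value in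
  `γ^d(x_{s₀}) · Fil^{p-d}`.
* `gamma_rank`: for `N` of rank `d` (`λ^k N = 0` for `k > d`), `n = N - d` satisfies `γ^k(n) = 0` for
  `k > d` and `γ^d(n) = (-1)^d λ_{-1}(N)`.
-/

set_option autoImplicit false
universe u v w
open MvPolynomial Finset LambdaRing

namespace Groth.Agent.Lib.Seat70.LamDiv

open Groth.Agent.Lib.Seat56.LamPoly Groth.Agent.Lib.Seat56.LamOps Groth.Agent.Lib.Seat56.LamSym
  Groth.Agent.Lib.Seat56.LamFil
open Groth.Agent.Lib.Helper4 (gammaSeries coeff_gammaSeries gammaSeries_sub_natCast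
  coeff_one_sub_X_pow)

section Kill

variable {ι : Type w}

/-- the set of variables `X_{s₀,k}`, `k ≥ m`. -/
def tailSet (s₀ : ι) (m : ℕ) : Set (ι × ℕ) := {q | q.1 = s₀ ∧ m ≤ q.2}

open Classical in
/-- kill the variables in `T`. -/
noncomputable def kill (T : Set (ι × ℕ)) : U ι →ₐ[ℤ] U ι :=
  aeval (fun q => if q ∈ T then (0 : U ι) else X q)

theorem kill_X_of_mem {T : Set (ι × ℕ)} {q : ι × ℕ} (hq : q ∈ T) : kill T (X q) = 0 := by
  rw [kill, aeval_X, if_pos hq]

theorem kill_X_of_notMem {T : Set (ι × ℕ)} {q : ι × ℕ} (hq : q ∉ T) : kill T (X q) = X q := by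
  rw [kill, aeval_X, if_neg hq]

theorem sub_kill_mem (T : Set (ι × ℕ)) (F : U ι) :
    F - kill T F ∈ Ideal.span (X '' T : Set (U ι)) := by
  rw [← Ideal.Quotient.eq]
  have : (Ideal.Quotient.mkₐ ℤ (Ideal.span (X '' T : Set (U ι)))) =
      ((Ideal.Quotient.mkₐ ℤ (Ideal.span (X '' T : Set (U ι)))).comp (kill T)) := by
    apply MvPolynomial.algHom_ext
    intro q
    by_cases h : q ∈ T
    · rw [AlgHom.comp_apply, kill_X_of_mem h, map_zero, Ideal.Quotient.mkₐ_eq_mk,
        Ideal.Quotient.eq_zero_iff_mem]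
      exact Ideal.subset_span ⟨q, h, rfl⟩
    · rw [AlgHom.comp_apply, kill_X_of_notMem h]
  exact congrArg (fun φ => φ F) this

theorem mem_vars_kill {T : Set (ι × ℕ)} {F : U ι} {q : ι × ℕ} (hq : q ∈ (kill T F).vars) :
    q ∈ F.vars ∧ q ∉ T := by
  classical
  obtain ⟨i, hi, hqi⟩ := mem_vars_bind₁ _ F (j := q) hq
  by_cases h : i ∈ T
  · simp only [h, if_true, vars_0, Finset.notMem_empty] at hqi
  · simp only [h, if_false, vars_X, Finset.mem_singleton] at hqi
    subst hqi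
    exact ⟨hi, h⟩

end Kill

section Univ

variable {ι : Type v} [Finite ι]

attribute [local instance] polyOps

/-- **Universal divisibility.** -/
theorem mem_span_of_repG (s₀ : ι) (d : ℕ) (_hd : 1 ≤ d) (F G : U ι) (p : ℕ) (hp : 1 ≤ p)
    (hG : RepG.{v} p (F * X (s₀, d - 1)) G) :
    G ∈ Ideal.span (X '' tailSet s₀ (d - 1) : Set (U ι)) := by
  classical
  set T := tailSet s₀ (d - 1) with hT
  set N := G.vars.sup (fun q => q.2) + 1 with hN
  set n : ι → ℕ := fun s => if s = s₀ then d - 1 else N with hn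
  have hns₀ : n s₀ = d - 1 := by simp [hn]
  have e1 : (LamSig.EN n).comp (kill T) = LamSig.EN n := by
    apply MvPolynomial.algHom_ext
    intro q
    by_cases hq : q ∈ T
    · rw [AlgHom.comp_apply, kill_X_of_mem hq, map_zero, LamSig.EN_X]
      symm
      apply LamSig.efam_eq_zero_of_lt
      obtain ⟨h1, h2⟩ := hq
      rw [h1, hns₀]
      omega
    · rw [AlgHom.comp_apply, kill_X_of_notMem hq]
  have e2 : LamSig.EN n (kill T G) = LamSig.EN n G := congrArg (fun φ => φ G) e1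
  have key : LamSig.EN n (kill T G) = 0 := by
    rw [e2, ← LamSig.evG_xuniv, ← hG _ isSpecial (LamSig.xuniv n), map_mul, evG_X,
      LamSig.gamma_xuniv, LamSig.efam_eq_zero_of_lt n s₀ (d - 1 + 1) (by rw [hns₀]; omega),
      mul_zero, gamma_zero_arg p hp]
  have hk : kill T G = 0 := by
    apply LamSig.EN_eq_zero n _ _ key
    intro q hq
    obtain ⟨hq1, hq2⟩ := mem_vars_kill hq
    by_cases hs : q.1 = s₀
    · have : ¬ (d - 1 ≤ q.2) := fun h => hq2 ⟨hs, h⟩
      rw [hs, hns₀]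
      omega
    · have h1 : n q.1 = N := by simp [hn, hs]
      have h2 : q.2 ≤ G.vars.sup (fun q => q.2) :=
        Finset.le_sup (f := fun q : ι × ℕ => q.2) hq1
      rw [h1, hN]
      omega
  have := sub_kill_mem T G
  rwa [hk, sub_zero] at this

end Univ

section Eval

variable {K : Type u} [CommRing K] {A : Type v} [CommRing A] [LambdaOps A] (ε : A →+* K)
  {ι : Type w}

theorem inW_monomial {p : ℕ} (m : ι × ℕ →₀ ℕ) (c : ℤ)
    (h : p ≤ Finsupp.weight (wfun (ι := ι)) m) : InW p (monomial m c : U ι) := by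
  intro μ hμ
  have := support_monomial_subset hμ
  rw [Finset.mem_singleton] at this
  rw [this]
  exact h

/-- a polynomial of weight `≥ p` in the ideal `(X_{s₀,k} : k ≥ d - 1)`, evaluated at a family with
`γ^k(x_{s₀}) = 0` for `k > d`, lies in `γ^d(x_{s₀}) · Fil^{p-d}`. -/
theorem evG_mem_span_mul (x : ι → A) (hx : ∀ s, ε (x s) = 0) (s₀ : ι) (d : ℕ) (hd : 1 ≤ d)
    (hvan : ∀ k, d < k → gamma k (x s₀) = 0) {p : ℕ} {G : U ι} (hW : InW p G)
    (hG : G ∈ Ideal.span (X '' tailSet s₀ (d - 1) : Set (U ι))) :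
    evG x G ∈ Ideal.span {gamma d (x s₀)} * gammaFil ε (p - d) := by
  classical
  rw [mem_ideal_span_X_image] at hG
  rw [← support_sum_monomial_coeff G, map_sum]
  apply Ideal.sum_mem
  intro m hm
  obtain ⟨q, ⟨hq1, hq2⟩, hmq⟩ := hG m hm
  by_cases hk : d ≤ q.2
  · have : evG x (monomial m (coeff m G)) = 0 := by
      rw [evG, aeval_monomial]
      apply mul_eq_zero_of_right
      rw [Finsupp.prod]
      apply Finset.prod_eq_zero (Finsupp.mem_support_iff.mpr hmq)
      rw [hq1, hvan (q.2 + 1) (by omega), zero_pow hmq]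
    rw [this]
    exact Ideal.zero_mem _
  · have hq2' : q.2 + 1 = d := by omega
    set m' := m - Finsupp.single q 1 with hm'
    have hmm : m = Finsupp.single q 1 + m' := by
      rw [hm']
      ext r
      by_cases hr : r = q
      · subst hr
        simp only [Finsupp.coe_add, Finsupp.coe_tsub, Pi.add_apply, Pi.sub_apply,
          Finsupp.single_eq_same]
        omega
      · simp [Finsupp.single_eq_of_ne hr]
    have hw : Finsupp.weight (wfun (ι := ι)) m = d + Finsupp.weight (wfun (ι := ι)) m' := by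
      conv_lhs => rw [hmm]
      rw [map_add, Finsupp.weight_single, smul_eq_mul, one_mul, wfun, hq2']
    have hmono : ∀ c : ℤ, (monomial m c : U ι) = X q * monomial m' c := by
      intro c
      conv_lhs => rw [hmm]
      rw [monomial_single_add, pow_one]
    rw [hmono, map_mul, evG_X, hq1, hq2']
    apply Ideal.mul_mem_mul (Ideal.mem_span_singleton_self _)
    apply evG_mem_gammaFil ε x hx
    apply inW_monomial
    have := hW m hm
    omega

end Eval

section Rank

variable {A : Type v} [CommRing A] [LambdaOps A]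

theorem gamma_rank_eq_zero (h1 : ∀ k : ℕ, 2 ≤ k → LambdaOps.lam k (1 : A) = 0)
    (e : A) (m : ℕ) (he : ∀ i, m < i → LambdaOps.lam i e = 0) (k : ℕ) (hk : m < k) :
    gamma k (e - (m : A)) = 0 := by
  rw [← coeff_gammaSeries, gammaSeries_sub_natCast h1 e m he, map_sum]
  apply sum_eq_zero
  intro i hi
  rw [mem_range] at hi
  rw [PowerSeries.coeff_C_mul, PowerSeries.coeff_X_pow_mul', if_pos (by omega),
    coeff_one_sub_X_pow, Nat.choose_eq_zero_of_lt (by omega)]
  simp

theorem gamma_rank_top (h1 : ∀ k : ℕ, 2 ≤ k → LambdaOps.lam k (1 : A) = 0)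
    (e : A) (m : ℕ) (he : ∀ i, m < i → LambdaOps.lam i e = 0) :
    gamma m (e - (m : A)) =
      (-1 : A) ^ m * ∑ j ∈ range (m + 1), (-1 : A) ^ j * LambdaOps.lam j e := by
  rw [← coeff_gammaSeries, gammaSeries_sub_natCast h1 e m he, map_sum, mul_sum]
  refine sum_congr rfl fun k hk => ?_
  rw [mem_range] at hk
  rw [PowerSeries.coeff_C_mul, PowerSeries.coeff_X_pow_mul', if_pos (by omega),
    coeff_one_sub_X_pow, Nat.choose_self, Nat.cast_one, mul_one]
  have : (-1 : A) ^ m = (-1) ^ (m - k) * (-1) ^ k := by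
    rw [← pow_add]; congr 1; omega
  rw [this]
  have h2 : ((-1 : A) ^ k) * ((-1 : A) ^ k) = 1 := by
    rw [← mul_pow]; simp
  linear_combination (-(LambdaOps.lam k e * (-1) ^ (m - k))) * h2

end Rank

section Quot

variable {K : Type u} [CommRing K] {A : Type v} [CommRing A] [LambdaOps A] (ε : A →+* K)
  {ι : Type v} [Finite ι] (hA : IsSpecial A)
  (hP : ∀ n : ℕ, ∃ P : MvPolynomial (Fin n ⊕ Fin n) ℤ, IsMulPoly n P)
  (hQ : ∀ i j : ℕ, ∃ Q : MvPolynomial (Fin (i * j)) ℤ, IsCompPoly i j Q)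
  (x : ι → A) (hx : ∀ s, ε (x s) = 0) (s₀ : ι) (d : ℕ) (hd : 1 ≤ d)
  (hvan : ∀ k, d < k → gamma k (x s₀) = 0)

include hA hP hQ hx hd hvan in
/-- `γ^a(f · z) ∈ z · Fil^{a-d}` for `z = γ^d(x_{s₀})`, `f` any operation polynomial in the `x_s`. -/
theorem gamma_mul_mem (F : U ι) (a : ℕ) (ha : 1 ≤ a) :
    gamma a (evG x F * gamma d (x s₀)) ∈ Ideal.span {gamma d (x s₀)} * gammaFil ε (a - d) := by
  have hc : constantCoeff (F * X (s₀, d - 1)) = 0 := by
    rw [map_mul, constantCoeff_X, mul_zero]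
  obtain ⟨G, hW, hG⟩ := Groth.Agent.Lib.Seat56.LamUniv.exists_repG_inW.{v} hP hQ
    (F * X (s₀, d - 1)) hc a
  have h1 := hG A hA x
  rw [map_mul, evG_X] at h1
  have e : d - 1 + 1 = d := by omega
  simp only [e] at h1
  rw [h1]
  exact evG_mem_span_mul ε x hx s₀ d hd hvan hW (mem_span_of_repG s₀ d hd F G a ha hG)

include hA hP hQ hx hd hvan in
/-- `γ^a(f · z) ∈ z · Fil^i` if `f` has weight `≥ i`. -/
theorem gamma_mul_mem_of_inW (F : U ι) (i : ℕ) (hF : InW i F) (a : ℕ) (ha : 1 ≤ a) :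
    gamma a (evG x F * gamma d (x s₀)) ∈ Ideal.span {gamma d (x s₀)} * gammaFil ε i := by
  have hFX : InW (i + d) (F * X (s₀, d - 1)) := by
    have := Groth.Agent.Lib.Seat56.LamGr.inW_mul hF
      (Groth.Agent.Lib.Seat56.LamGr.inW_X (ι := ι) (s₀, d - 1))
    have e : d - 1 + 1 = d := by omega
    simp only [e] at this
    exact this
  obtain ⟨G, hW, hG⟩ := Groth.Agent.Lib.Seat56.LamUniv.exists_repG_inW_of_inW.{v} hP hQ
    (F * X (s₀, d - 1)) (i + d) (by omega) hFX a ha
  have h1 := hG A hA x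
  rw [map_mul, evG_X] at h1
  have e : d - 1 + 1 = d := by omega
  simp only [e] at h1
  rw [h1]
  have := evG_mem_span_mul ε x hx s₀ d hd hvan hW (mem_span_of_repG s₀ d hd F G a ha hG)
  rwa [Nat.add_sub_cancel] at this

include hA hP hQ hx hd hvan in
/-- `γ^{d+i}(f · z) ≡ (-1)^{d+i-1} (d+i-1)! f · z` modulo `z · Fil^{i+1}` if `f` has weight `≥ i`. -/
theorem gamma_mul_sub_mem_of_inW (F : U ι) (i : ℕ) (hF : InW i F) :
    gamma (d + i) (evG x F * gamma d (x s₀)) -
        (-1 : A) ^ (d + i - 1) * ((d + i - 1).factorial : A) * (evG x F * gamma d (x s₀)) ∈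
      Ideal.span {gamma d (x s₀)} * gammaFil ε (i + 1) := by
  have e : d - 1 + 1 = d := by omega
  have hFX : InW (d + i) (F * X (s₀, d - 1)) := by
    have := Groth.Agent.Lib.Seat56.LamGr.inW_mul hF
      (Groth.Agent.Lib.Seat56.LamGr.inW_X (ι := ι) (s₀, d - 1))
    simp only [e] at this
    rw [add_comm]
    exact this
  obtain ⟨G, hG, hW⟩ := Groth.Agent.Lib.Seat56.LamUniv.exists_repG_sub_inW.{v} hP hQ
    (F * X (s₀, d - 1)) (d + i) (by omega) hFX
  have h1 := hG A hA x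
  rw [map_mul, evG_X] at h1
  simp only [e] at h1
  have hmem : G - C ((-1 : ℤ) ^ (d + i - 1) * ((d + i - 1).factorial : ℤ)) * (F * X (s₀, d - 1)) ∈
      Ideal.span (X '' tailSet s₀ (d - 1) : Set (U ι)) := by
    apply Ideal.sub_mem _ (mem_span_of_repG s₀ d hd F G (d + i) (by omega) hG)
    apply Ideal.mul_mem_left
    apply Ideal.mul_mem_left
    exact Ideal.subset_span ⟨(s₀, d - 1), ⟨rfl, le_refl _⟩, rfl⟩
  have := evG_mem_span_mul ε x hx s₀ d hd hvan hW hmem
  have e2 : d + i + 1 - d = i + 1 := by omega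
  have e3 : evG x (C ((-1 : ℤ) ^ (d + i - 1) * ((d + i - 1).factorial : ℤ)) : U ι) =
      (-1 : A) ^ (d + i - 1) * ((d + i - 1).factorial : A) := by
    rw [evG, aeval_C]
    simp
  have hev : evG x (G - C ((-1 : ℤ) ^ (d + i - 1) * ((d + i - 1).factorial : ℤ)) *
      (F * X (s₀, d - 1))) = gamma (d + i) (evG x F * gamma d (x s₀)) -
        (-1 : A) ^ (d + i - 1) * ((d + i - 1).factorial : A) * (evG x F * gamma d (x s₀)) := by
    rw [map_sub, map_mul (evG x) (C _) _, map_mul (evG x) F _, evG_X, e3, ← h1]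
    simp only [e]
  rwa [e2, hev] at this

end Quot

section Jz

variable {K : Type u} [CommRing K] {A : Type v} [CommRing A] [LambdaOps A] (ε : A →+* K)

/-- the family of ideals `z · Fil^{i-d}` (`⊤` for `i = 0`). -/
def Jz (z : A) (d : ℕ) : ℕ → Ideal A :=
  fun i => if i = 0 then ⊤ else Ideal.span {z} * gammaFil ε (i - d)

theorem Jz_zero (z : A) (d : ℕ) : Jz ε z d 0 = ⊤ := if_pos rfl

theorem Jz_of_pos (z : A) (d : ℕ) {i : ℕ} (hi : 1 ≤ i) :
    Jz ε z d i = Ideal.span {z} * gammaFil ε (i - d) := if_neg (by omega)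

theorem Jz_mul {z : A} {d : ℕ} (hz : z ∈ gammaFil ε d) (i j : ℕ) :
    Jz ε z d i * Jz ε z d j ≤ Jz ε z d (i + j) := by
  rcases Nat.eq_zero_or_pos i with hi | hi
  · subst hi
    rw [Jz_zero, zero_add, Ideal.top_mul]
  rcases Nat.eq_zero_or_pos j with hj | hj
  · subst hj
    rw [Jz_zero, add_zero, Ideal.mul_top]
  rw [Jz_of_pos ε z d hi, Jz_of_pos ε z d hj, Jz_of_pos ε z d (by omega : 1 ≤ i + j), mul_assoc]
  apply Ideal.mul_mono_right
  have hzd : Ideal.span {z} ≤ gammaFil ε d := (Ideal.span_singleton_le_iff_mem _).mpr hz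
  calc gammaFil ε (i - d) * (Ideal.span {z} * gammaFil ε (j - d))
      ≤ gammaFil ε (i - d) * (gammaFil ε d * gammaFil ε (j - d)) :=
        Ideal.mul_mono_right (Ideal.mul_mono_left hzd)
    _ ≤ gammaFil ε (i - d) * gammaFil ε (d + (j - d)) :=
        Ideal.mul_mono_right (gammaFil_mul_le ε _ _)
    _ ≤ gammaFil ε ((i - d) + (d + (j - d))) := gammaFil_mul_le ε _ _
    _ ≤ gammaFil ε (i + j - d) := gammaFil_anti ε (by omega)

/-- the constant family of ideals `z · I` (`⊤` for `i = 0`). -/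
def Jc (z : A) (I : Ideal A) : ℕ → Ideal A :=
  fun i => if i = 0 then ⊤ else Ideal.span {z} * I

omit [LambdaOps A] in
theorem Jc_zero (z : A) (I : Ideal A) : Jc z I 0 = ⊤ := if_pos rfl

omit [LambdaOps A] in
theorem Jc_of_pos (z : A) (I : Ideal A) {i : ℕ} (hi : 1 ≤ i) : Jc z I i = Ideal.span {z} * I :=
  if_neg (by omega)

omit [LambdaOps A] in
theorem Jc_mul (z : A) (I : Ideal A) (i j : ℕ) : Jc z I i * Jc z I j ≤ Jc z I (i + j) := by
  rcases Nat.eq_zero_or_pos i with hi | hi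
  · subst hi
    rw [Jc_zero, zero_add, Ideal.top_mul]
  rcases Nat.eq_zero_or_pos j with hj | hj
  · subst hj
    rw [Jc_zero, add_zero, Ideal.mul_top]
  rw [Jc_of_pos z I hi, Jc_of_pos z I hj, Jc_of_pos z I (by omega : 1 ≤ i + j), mul_assoc]
  exact Ideal.mul_mono_right Ideal.mul_le_left

end Jz

end Groth.Agent.Lib.Seat70.LamDiv
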