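import Groth.Prelude.Def_LambdaSp
import Mathlib
import Groth.Agent.Lib.Helper4LambdaUniv2

/-!
# Seat70: λ-ideals generated by one element, and the principal ideal `(λ_{-1}(N))` for `N` of
finite rank (used for S8691).

* `aeval_mem_of_weight`, `lam_mul_mem`: an ideal `J` of a special λ-ring containing all `λ^k z`,
  `k ≥ 1`, contains all `λ^p (y z)`, `p ≥ 1`.
* `tailIdeal n`, `mem_tailIdeal_of_PsiInf_eq_zero`: the kernel of the universal model
  `PsiInf n : ℤ[X_0, X_1, …] → ℤ[T_1..T_n]` is generated by the `X_k`, `k ≥ n`.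
* `Qt_mem_tailIdeal`: the universal polynomial `Q_{d,j}`, `j ≥ 1`, lies in `(X_k : k ≥ n)` if `n < d`.
* `lam_add_one`, `lamAlt_add_one`, `lam_eq_of_rank`: `N = M + 1`, `λ_{-1}(N) = (-1)^d λ^d(M)`.
* `lam_mul_lamAlt_mem`: the main result.
-/
set_option autoImplicit false
universe u
open MvPolynomial Finset LambdaRing
open Groth.Agent.Lib.Helper4.LUniv Groth.Agent.Lib.Helper4.MulPoly

namespace Groth.Agent.Lib.Seat70.LamIdeal


/-- A polynomial of positive `Y`-weight evaluated at a point whose `Y`-coordinates lie in an ideal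
lies in that ideal. -/
theorem aeval_mem_of_weight {n : ℕ} (hn : 1 ≤ n) (P : MvPolynomial (Fin n ⊕ Fin n) ℤ)
    (hP : IsWeightedHomogeneous
      (Sum.elim (fun k : Fin n => (((k : ℕ) + 1, 0) : ℕ × ℕ))
        (fun k : Fin n => ((0, (k : ℕ) + 1) : ℕ × ℕ))) P ((n, n) : ℕ × ℕ))
    {K : Type u} [CommRing K] (J : Ideal K) (f g : Fin n → K) (hg : ∀ k, g k ∈ J) :
    aeval (Sum.elim f g) P ∈ J := by
  classical
  rw [aeval_def, eval₂_eq']
  apply Ideal.sum_mem
  intro m hm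
  apply Ideal.mul_mem_left
  have hw := hP (mem_support_iff.mp hm)
  rw [Finsupp.weight_apply, Finsupp.sum_fintype _ _ (fun i => by simp)] at hw
  have h2 := congrArg Prod.snd hw
  rw [Prod.snd_sum] at h2
  simp only [Fintype.sum_sum_type, Sum.elim_inl, Sum.elim_inr, Prod.smul_snd, smul_eq_mul,
    mul_zero, Finset.sum_const_zero, zero_add] at h2
  have : ∃ k : Fin n, m (Sum.inr k) ≠ 0 := by
    by_contra hcon
    push Not at hcon
    simp only [hcon, zero_mul, Finset.sum_const_zero] at h2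
    omega
  obtain ⟨k, hk⟩ := this
  rw [Fintype.prod_sum_type]
  apply Ideal.mul_mem_left
  rw [← Finset.mul_prod_erase _ _ (Finset.mem_univ k)]
  apply Ideal.mul_mem_right
  simp only [Sum.elim_inr]
  exact Ideal.pow_mem_of_mem _ (hg k) _ (Nat.pos_of_ne_zero hk)



/-- the ideal of `ℤ[X_0, X_1, …]` generated by the `X_k`, `k ≥ n` -/
noncomputable def tailIdeal (n : ℕ) : Ideal (MvPolynomial ℕ ℤ) :=
  Ideal.span ((fun k => (X k : MvPolynomial ℕ ℤ)) '' {k | n ≤ k})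

/-- kill the variables of index `≥ n` -/
noncomputable def rho (n : ℕ) : MvPolynomial ℕ ℤ →ₐ[ℤ] MvPolynomial (Fin n) ℤ :=
  aeval (fun k : ℕ => if h : k < n then (X (⟨k, h⟩ : Fin n) : MvPolynomial (Fin n) ℤ) else 0)

theorem esymm_eq_zero_of_card_lt (n m : ℕ) (h : n < m) : esymm (Fin n) ℤ m = 0 := by
  rw [esymm]
  have : (univ : Finset (Fin n)).powersetCard m = ∅ := by
    rw [Finset.powersetCard_eq_empty]
    simpa using h
  rw [this, Finset.sum_empty]

theorem PsiInf_eq_EE_rho (n : ℕ) (F : MvPolynomial ℕ ℤ) :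
    PsiInf n F = EE n n ℤ (rho n F) := by
  rw [PsiInf, rho, EE, ← AlgHom.comp_apply, comp_aeval]
  congr 2
  funext k
  by_cases h : k < n
  · simp [h]
  · simp only [h, dite_false, map_zero]
    exact esymm_eq_zero_of_card_lt n (k + 1) (by omega)

theorem sub_til1_rho_mem (n : ℕ) (F : MvPolynomial ℕ ℤ) :
    F - til1 n (rho n F) ∈ tailIdeal n := by
  rw [← Ideal.Quotient.eq]
  have : (Ideal.Quotient.mkₐ ℤ (tailIdeal n)) =
      ((Ideal.Quotient.mkₐ ℤ (tailIdeal n)).comp ((til1 n).comp (rho n))) := by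
    apply MvPolynomial.algHom_ext
    intro k
    by_cases h : k < n
    · simp [rho, til1, h]
    · simp only [AlgHom.comp_apply, rho, aeval_X, h, dite_false, map_zero]
      rw [Ideal.Quotient.mkₐ_eq_mk, Ideal.Quotient.eq_zero_iff_mem]
      exact Ideal.subset_span ⟨k, by simpa using h, rfl⟩
  exact congrArg (fun φ => φ F) this

/-- the kernel of `PsiInf n` is contained in the ideal generated by the `X_k`, `k ≥ n` -/
theorem mem_tailIdeal_of_PsiInf_eq_zero (n : ℕ) (F : MvPolynomial ℕ ℤ) (h : PsiInf n F = 0) :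
    F ∈ tailIdeal n := by
  have h1 : rho n F = 0 := by
    apply EE_injective n n ℤ le_rfl
    rw [← PsiInf_eq_EE_rho, h, map_zero]
  have := sub_til1_rho_mem n F
  rwa [h1, map_zero, sub_zero] at this

theorem compGen_eq_zero (n d j : ℕ) (hnd : n < d) (hj : 1 ≤ j) : compGen n d j = 0 := by
  rw [compGen]
  have : (univ : Finset (Fin n)).powersetCard d = ∅ := by
    rw [Finset.powersetCard_eq_empty]
    simpa using hnd
  rw [this]
  simp only [Finset.empty_val, Multiset.map_zero]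
  rw [Multiset.esymm]
  obtain ⟨j, rfl⟩ := Nat.exists_eq_succ_of_ne_zero (by omega : j ≠ 0)
  rw [Multiset.powersetCard_zero_right]
  simp

theorem PsiInf_Qt_eq_zero (hQ : ∀ i j : ℕ, ∃ Q : MvPolynomial (Fin (i * j)) ℤ, IsCompPoly i j Q)
    (n d j : ℕ) (hnd : n < d) (hj : 1 ≤ j) : PsiInf n (Qt hQ d j) = 0 := by
  have hle : n ≤ d * j := by nlinarith
  rw [Qt, PsiInf_til1, ← res1_EE hle]
  have := (hQ d j).choose_spec.1
  change EE (d * j) (d * j) ℤ _ = _ at this
  rw [this, res1_compGen hle, compGen_eq_zero n d j hnd hj]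

theorem Qt_mem_tailIdeal (hQ : ∀ i j : ℕ, ∃ Q : MvPolynomial (Fin (i * j)) ℤ, IsCompPoly i j Q)
    (n d j : ℕ) (hnd : n < d) (hj : 1 ≤ j) : Qt hQ d j ∈ tailIdeal n :=
  mem_tailIdeal_of_PsiInf_eq_zero n _ (PsiInf_Qt_eq_zero hQ n d j hnd hj)



variable {K : Type u} [CommRing K] [LambdaOps K]

theorem lam_add_one (hK : IsSpecial K) (M : K) (k : ℕ) :
    LambdaOps.lam (k + 1) (M + 1) = LambdaOps.lam (k + 1) M + LambdaOps.lam k M := by
  rw [LambdaOps.lam_add, Finset.sum_range_succ, Finset.sum_range_succ]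
  have h0 : ∑ i ∈ range k, LambdaOps.lam i M * LambdaOps.lam (k + 1 - i) (1 : K) = 0 := by
    apply Finset.sum_eq_zero
    intro i hi
    rw [mem_range] at hi
    rw [hK.lam_one_eq_zero (k + 1 - i) (by omega), mul_zero]
  rw [h0, zero_add, Nat.sub_self, LambdaOps.lam_zero, mul_one,
    show k + 1 - k = 1 by omega, LambdaOps.lam_one, mul_one, add_comm]

theorem lamAlt_add_one (hK : IsSpecial K) (M : K) (d : ℕ) :
    ∑ i ∈ range (d + 1), (-1 : K) ^ i * LambdaOps.lam i (M + 1) = (-1) ^ d * LambdaOps.lam d M := by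
  induction d with
  | zero => simp [LambdaOps.lam_zero]
  | succ d ih =>
    rw [Finset.sum_range_succ, ih, lam_add_one hK]
    ring

theorem lam_eq_of_rank (hK : IsSpecial K) (M : K) (d : ℕ)
    (hN : ∀ i : ℕ, d < i → LambdaOps.lam i (M + 1) = 0) (e : ℕ) :
    LambdaOps.lam (d + e) M = (-1) ^ e * LambdaOps.lam d M := by
  induction e with
  | zero => simp
  | succ e ih =>
    have h := hN (d + e + 1) (by omega)
    rw [lam_add_one hK, ih] at h
    rw [← add_assoc, pow_succ]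
    linear_combination h


/-- an ideal containing all `λ^k z`, `k ≥ 1`, contains all `λ^p (y z)`, `p ≥ 1` -/
theorem lam_mul_mem (hK : IsSpecial K)
    (hP : ∀ n : ℕ, ∃ P : MvPolynomial (Fin n ⊕ Fin n) ℤ, IsMulPoly n P)
    (J : Ideal K) (z : K) (hz : ∀ k : ℕ, 1 ≤ k → LambdaOps.lam k z ∈ J) (p : ℕ) (hp : 1 ≤ p) (y : K) :
    LambdaOps.lam p (y * z) ∈ J := by
  obtain ⟨P, hPp⟩ := hP p
  rw [hK.lam_mul p P hPp y z]
  exact aeval_mem_of_weight hp P hPp.2 J _ _ (fun k => hz _ (by omega))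

/-- if `N = M + 1` has `λ^i N = 0` for `i > d ≥ 1`, then `(λ^d M)` is a λ-ideal -/
theorem lam_lam_mem_span (hK : IsSpecial K)
    (hQ : ∀ i j : ℕ, ∃ Q : MvPolynomial (Fin (i * j)) ℤ, IsCompPoly i j Q)
    (M : K) (d : ℕ) (hd : 1 ≤ d) (hN : ∀ i : ℕ, d < i → LambdaOps.lam i (M + 1) = 0)
    (j : ℕ) (hj : 1 ≤ j) :
    LambdaOps.lam j (LambdaOps.lam d M) ∈ Ideal.span {LambdaOps.lam d M} := by
  rw [lam_lam_eq_ev1 hK hQ d j M]
  have hmem := Qt_mem_tailIdeal hQ (d - 1) d j (by omega) hj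
  have hle : tailIdeal (d - 1) ≤ (Ideal.span {LambdaOps.lam d M}).comap (ev1 M) := by
    rw [tailIdeal, Ideal.span_le]
    rintro _ ⟨k, hk, rfl⟩
    change d - 1 ≤ k at hk
    simp only [SetLike.mem_coe, Ideal.mem_comap, ev1, aeval_X]
    obtain ⟨e, he⟩ : ∃ e, k + 1 = d + e := ⟨k + 1 - d, by omega⟩
    rw [he, lam_eq_of_rank hK M d hN e]
    exact Ideal.mul_mem_left _ _ (Ideal.subset_span rfl)
  exact hle hmem

/-- **Main result**: for `N` with `λ^i N = 0` for `i > d`, the principal ideal generated by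
`λ_{-1}(N) = Σ_{i ≤ d} (-1)^i λ^i N` contains `λ^p (x λ_{-1}(N))` for all `p ≥ 1`. -/
theorem lamAlt_dvd (hK : IsSpecial K)
    (hP : ∀ n : ℕ, ∃ P : MvPolynomial (Fin n ⊕ Fin n) ℤ, IsMulPoly n P)
    (hQ : ∀ i j : ℕ, ∃ Q : MvPolynomial (Fin (i * j)) ℤ, IsCompPoly i j Q)
    (d : ℕ) (N : K) (hN : ∀ i : ℕ, d < i → LambdaOps.lam i N = 0)
    (p : ℕ) (hp : 1 ≤ p) (x : K) :
    (∑ i ∈ range (d + 1), (-1 : K) ^ i * LambdaOps.lam i N) ∣
      LambdaOps.lam p (x * ∑ i ∈ range (d + 1), (-1 : K) ^ i * LambdaOps.lam i N) := by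
  rcases Nat.eq_zero_or_pos d with rfl | hd
  · simp [LambdaOps.lam_zero]
  obtain ⟨M, rfl⟩ : ∃ M, N = M + 1 := ⟨N - 1, by ring⟩
  rw [lamAlt_add_one hK M d]
  have h1 : LambdaOps.lam p ((x * (-1) ^ d) * LambdaOps.lam d M) ∈
      Ideal.span {LambdaOps.lam d M} :=
    lam_mul_mem hK hP _ _ (fun k hk => lam_lam_mem_span hK hQ M d hd hN k hk) p hp _
  rw [Ideal.mem_span_singleton] at h1
  obtain ⟨c, hc⟩ := h1
  rw [← mul_assoc, hc]
  refine ⟨(-1) ^ d * c, ?_⟩
  have h2 : ((-1 : K) ^ d) * ((-1) ^ d) = 1 := by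
    rw [← pow_add, ← two_mul, pow_mul, neg_one_sq, one_pow]
  linear_combination (-(LambdaOps.lam d M * c)) * h2

end Groth.Agent.Lib.Seat70.LamIdeal
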