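import Groth.Agent.Lib.Seat56LamUniv

/-!
# Seat70: the splitting model with a prescribed number of roots for every generator

Generalises `Seat56LamSym`/`Seat56LamUniv` (uniform number `N` of roots) to a function `n : ι → ℕ`:
in `ℚ[u_{s,a} : s ∈ ι, a < n s]` with the λ-structure `polyOps`, the element `x_s = Σ_a u_{s,a}` has
`γ^k(x_s) = e_k(u_{s,·})`, which vanishes for `k > n s`, and the `e_{k+1}(u_{s,·})`, `k < n s`, are
algebraically independent.

* `EN n : ℤ[X_{s,k}] → ℚ[u]`, `X_{s,k} ↦ e_{k+1}(u_{s,·})`; `EN_eq_zero`: injective on polynomials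
  involving only `X_{s,k}` with `k < n s`; `evG_xuniv : evG (xuniv n) F = EN n F`.
-/

set_option autoImplicit false
universe v
open MvPolynomial Finset LambdaRing

namespace Groth.Agent.Lib.Seat70.LamSig

open Groth.Agent.Lib.Seat56.LamPoly Groth.Agent.Lib.Seat56.LamOps
open Groth.Agent.Lib.Helper4 (gammaSeries coeff_gammaSeries gammaSeries_sum
  coeff_prod_one_add_C_mul_X esymm_isHomogeneous')

variable {ι : Type v} (n : ι → ℕ)

/-- the variables `u_{s,a}`, `a < n s`. -/
abbrev Var : Type v := Σ s : ι, Fin (n s)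

/-- `e_k` of the variables `(s, ·)`. -/
noncomputable def efam (s : ι) (k : ℕ) : MvPolynomial (Var n) ℚ :=
  rename (fun a : Fin (n s) => (⟨s, a⟩ : Var n)) (esymm (Fin (n s)) ℚ k)

theorem efam_zero (s : ι) : efam n s 0 = 1 := by
  rw [efam, esymm_zero, map_one]

theorem efam_eq_zero_of_lt (s : ι) (k : ℕ) (h : n s < k) : efam n s k = 0 := by
  rw [efam, esymm]
  have : (univ : Finset (Fin (n s))).powersetCard k = ∅ := by
    rw [Finset.powersetCard_eq_empty]
    simpa using h
  rw [this, Finset.sum_empty, map_zero]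

theorem efam_eq_sum (s : ι) (k : ℕ) :
    efam n s k = ∑ t ∈ (univ : Finset (Fin (n s))).powersetCard k,
      ∏ a ∈ t, (X (⟨s, a⟩ : Var n) : MvPolynomial (Var n) ℚ) := by
  rw [efam, esymm, map_sum]
  apply sum_congr rfl
  intro t _
  rw [map_prod]
  simp

/-- the generators `e_{k+1}(u_{s,·})`, `k < n s`. -/
noncomputable def egen (p : Var n) : MvPolynomial (Var n) ℚ := efam n p.1 (p.2 + 1)

theorem efam_mem_adjoin (s : ι) (j : ℕ) (hj : j ≤ n s) :
    efam n s j ∈ Algebra.adjoin ℚ (Set.range (egen n)) := by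
  rcases j with _ | j
  · rw [efam_zero]; exact Subalgebra.one_mem _
  · exact Algebra.subset_adjoin ⟨⟨s, ⟨j, by omega⟩⟩, rfl⟩

theorem isIntegral_X (s : ι) (a : Fin (n s)) :
    IsIntegral (Algebra.adjoin ℚ (Set.range (egen n)))
      (X (⟨s, a⟩ : Var n) : MvPolynomial (Var n) ℚ) := by
  classical
  set S := Algebra.adjoin ℚ (Set.range (egen n)) with hS
  set m : Multiset (MvPolynomial (Var n) ℚ) :=
    (univ : Finset (Fin (n s))).val.map
      (fun b => (X (⟨s, b⟩ : Var n) : MvPolynomial (Var n) ℚ)) with hm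
  set f : Polynomial (MvPolynomial (Var n) ℚ) :=
    (m.map fun t => Polynomial.X - Polynomial.C t).prod with hf
  have hcard : Multiset.card m = n s := by simp [hm]
  have hmonic : f.Monic :=
    Polynomial.monic_multiset_prod_of_monic _ _ (fun t _ => Polynomial.monic_X_sub_C t)
  have hroot : f.eval (X (⟨s, a⟩ : Var n)) = 0 := by
    rw [hf, Polynomial.eval_multiset_prod]
    apply Multiset.prod_eq_zero
    rw [Multiset.mem_map]
    refine ⟨Polynomial.X - Polynomial.C (X (⟨s, a⟩ : Var n)), ?_, by simp⟩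
    rw [Multiset.mem_map]
    exact ⟨X (⟨s, a⟩ : Var n), by simp [hm], rfl⟩
  have hes : ∀ j, j ≤ n s → m.esymm j ∈ S := by
    intro j hj
    have : m.esymm j = efam n s j := by
      rw [efam, hm]
      have hren : (rename (fun a : Fin (n s) => (⟨s, a⟩ : Var n)) (esymm (Fin (n s)) ℚ j) :
          MvPolynomial (Var n) ℚ) =
          aeval (fun b : Fin (n s) => (X (⟨s, b⟩ : Var n) : MvPolynomial (Var n) ℚ))
            (esymm (Fin (n s)) ℚ j) := by
        rw [rename_eq_aeval]; rfl
      rw [hren]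
      exact (aeval_esymm_eq_multiset_esymm (Fin (n s)) ℚ j
        (fun b : Fin (n s) => (X (⟨s, b⟩ : Var n) : MvPolynomial (Var n) ℚ))).symm
    rw [this]
    exact efam_mem_adjoin n s j hj
  have hlift : f ∈ Polynomial.lifts (algebraMap S (MvPolynomial (Var n) ℚ)) := by
    rw [hf, Multiset.prod_X_sub_X_eq_sum_esymm]
    apply Subsemiring.sum_mem
    intro j hj
    rw [mem_range, hcard] at hj
    apply Subsemiring.mul_mem
    · apply Subsemiring.pow_mem
      have : (-1 : Polynomial (MvPolynomial (Var n) ℚ)) =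
          Polynomial.C (algebraMap S (MvPolynomial (Var n) ℚ) (-1)) := by simp
      rw [this]
      exact Polynomial.C_mem_lifts _ _
    · apply Subsemiring.mul_mem
      · have : Polynomial.C (m.esymm j) = Polynomial.C
            (algebraMap S (MvPolynomial (Var n) ℚ) ⟨m.esymm j, hes j (by omega)⟩) := rfl
        rw [this]
        exact Polynomial.C_mem_lifts _ _
      · exact Subsemiring.pow_mem _ (Polynomial.X_mem_lifts _) _
  obtain ⟨q, hq, -, hqm⟩ := Polynomial.lifts_and_natDegree_eq_and_monic hlift hmonic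
  refine ⟨q, hqm, ?_⟩
  rw [← Polynomial.eval_map, hq]
  exact hroot

theorem isIntegral_all (p : MvPolynomial (Var n) ℚ) :
    IsIntegral (Algebra.adjoin ℚ (Set.range (egen n))) p := by
  induction p using MvPolynomial.induction_on with
  | C c =>
    have : (C c : MvPolynomial (Var n) ℚ) =
        algebraMap (Algebra.adjoin ℚ (Set.range (egen n))) (MvPolynomial (Var n) ℚ)
          (algebraMap ℚ _ c) := rfl
    rw [this]
    exact isIntegral_algebraMap
  | add p q hp hq => exact hp.add hq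
  | mul_X p i hp => exact hp.mul (isIntegral_X n i.1 i.2)

theorem algebraicIndependent_egen [Finite ι] :
    AlgebraicIndependent ℚ (egen n) := by
  have : Algebra.IsIntegral (Algebra.adjoin ℚ (Set.range (egen n)))
      (MvPolynomial (Var n) ℚ) := ⟨isIntegral_all n⟩
  have : Algebra.IsAlgebraic (Algebra.adjoin ℚ (Set.range (egen n)))
      (MvPolynomial (Var n) ℚ) := Algebra.IsIntegral.isAlgebraic
  have le : Cardinal.mk (Var n) ≤ Algebra.trdeg ℚ (MvPolynomial (Var n) ℚ) := by
    rw [MvPolynomial.trdeg_of_isDomain, Cardinal.lift_uzero]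
  exact (Algebra.IsAlgebraic.isTranscendenceBasis_of_le_trdeg_of_finite ℚ (egen n) le).1

/-! ### The universal evaluation -/

/-- `X_{s,k} ↦ e_{k+1}(u_{s,·})`. -/
noncomputable def EN : MvPolynomial (ι × ℕ) ℤ →ₐ[ℤ] MvPolynomial (Var n) ℚ :=
  aeval (fun p : ι × ℕ => efam n p.1 (p.2 + 1))

@[simp] theorem EN_X (p : ι × ℕ) : EN n (X p) = efam n p.1 (p.2 + 1) := by
  simp [EN]

theorem EN_eq_zero [Finite ι] (F : MvPolynomial (ι × ℕ) ℤ)
    (hF : ∀ p ∈ F.vars, p.2 < n p.1) (h : EN n F = 0) : F = 0 := by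
  classical
  set j : Var n → ι × ℕ := fun p => (p.1, (p.2 : ℕ)) with hj
  have hjinj : Function.Injective j := by
    rintro ⟨s, a⟩ ⟨t, b⟩ hab
    simp only [hj, Prod.mk.injEq] at hab
    obtain ⟨rfl, hab⟩ := hab
    congr
    exact Fin.ext hab
  have hvars : (F.vars : Set (ι × ℕ)) ⊆ Set.range j := by
    intro p hp
    exact ⟨⟨p.1, ⟨p.2, hF p hp⟩⟩, rfl⟩
  obtain ⟨F₀, hF₀⟩ := exists_rename_eq_of_vars_subset_range F j hjinj hvars
  have h1 : EN n F = aeval (egen n) (map (Int.castRingHom ℚ) F₀) := by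
    rw [← hF₀, EN, aeval_rename]
    have : (map (Int.castRingHom ℚ) F₀) = map (algebraMap ℤ ℚ) F₀ := rfl
    rw [this, aeval_map_algebraMap]
    rfl
  rw [h1] at h
  have h2 : map (Int.castRingHom ℚ) F₀ = 0 := by
    apply algebraicIndependent_egen n
    rw [h, map_zero]
  have h3 : F₀ = 0 := by
    apply map_injective (Int.castRingHom ℚ) Int.cast_injective
    rw [h2, map_zero]
  rw [← hF₀, h3, map_zero]

/-! ### The universal family -/

attribute [local instance] polyOps

/-- the universal family `x_s = Σ_{a < n s} u_{s,a}`. -/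
noncomputable def xuniv : ι → MvPolynomial (Var n) ℚ :=
  fun s => ∑ a : Fin (n s), X (⟨s, a⟩ : Var n)

theorem gamma_xuniv (s : ι) (k : ℕ) : gamma k (xuniv n s) = efam n s k := by
  classical
  rw [← coeff_gammaSeries, xuniv, gammaSeries_sum, efam_eq_sum]
  have : ∏ a : Fin (n s), gammaSeries (X (⟨s, a⟩ : Var n) : MvPolynomial (Var n) ℚ) =
      ∏ a : Fin (n s),
        (1 + PowerSeries.C (X (⟨s, a⟩ : Var n) : MvPolynomial (Var n) ℚ) * PowerSeries.X) :=
    prod_congr rfl fun a _ => Groth.Agent.Lib.Seat56.LamUniv.gammaSeries_X (⟨s, a⟩ : Var n)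
  rw [this, coeff_prod_one_add_C_mul_X]

theorem evG_xuniv (F : U ι) : evG (xuniv n) F = EN n F := by
  rw [evG, EN]
  congr 2
  funext p
  exact gamma_xuniv n p.1 (p.2 + 1)

end Groth.Agent.Lib.Seat70.LamSig
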