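import Mathlib

/-! # Laurent polynomials over a field: units and extensionality of ring homomorphisms -/

set_option autoImplicit false

namespace Groth.Agent.Lib.Seat70.Laurent

open LaurentPolynomial

variable {L : Type*} [Field L]

/-- the units of `L[T;T⁻¹]` are the monomials -/
theorem exists_eq_C_mul_T_of_isUnit {u : L[T;T⁻¹]} (hu : IsUnit u) :
    ∃ (l : L) (j : ℤ), l ≠ 0 ∧ u = C l * T j := by
  obtain ⟨v, huv⟩ := hu.exists_right_inv
  obtain ⟨n, p, hp⟩ := exists_T_pow u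
  obtain ⟨n', p', hp'⟩ := exists_T_pow v
  have hpp : p * p' = (Polynomial.X : Polynomial L) ^ (n + n') := by
    apply Polynomial.toLaurent_injective
    rw [map_mul, hp, hp', Polynomial.toLaurent_X_pow]
    calc u * T n * (v * T n') = (u * v) * (T n * T n') := by ring
      _ = T (n + n') := by rw [huv, one_mul, ← T_add]
      _ = T ((n + n' : ℕ) : ℤ) := by push_cast; rfl
  have hdvd : p ∣ (Polynomial.X : Polynomial L) ^ (n + n') := ⟨p', hpp.symm⟩
  obtain ⟨i, -, hi⟩ := (dvd_prime_pow Polynomial.prime_X _).mp hdvd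
  obtain ⟨w, hw⟩ := hi.symm
  obtain ⟨l, hl, hlw⟩ := Polynomial.isUnit_iff.mp w.isUnit
  refine ⟨l, (i : ℤ) - n, hl.ne_zero, ?_⟩
  have h1 : Polynomial.toLaurent p = C l * T i := by
    rw [← hw, ← hlw, map_mul, Polynomial.toLaurent_X_pow, Polynomial.toLaurent_C, mul_comm]
  rw [hp] at h1
  calc u = u * T n * T (-n) := by rw [mul_T_assoc, add_neg_cancel, T_zero, mul_one]
    _ = C l * T i * T (-n) := by rw [h1]
    _ = C l * T (i - n) := by rw [mul_T_assoc, sub_eq_add_neg]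

theorem T_ne_zero (j : ℤ) : (T j : L[T;T⁻¹]) ≠ 0 := (isUnit_T j).ne_zero

theorem C_injective : Function.Injective (C : L → L[T;T⁻¹]) := (C : L →+* L[T;T⁻¹]).injective

/-- uniqueness of the monomial form -/
theorem C_mul_T_inj {l l' : L} {j j' : ℤ} (hl : l ≠ 0) (h : C l * T j = C l' * T j') :
    l = l' ∧ j = j' := by
  have h1 := congrArg (fun p : L[T;T⁻¹] => p.coeff j) h
  simp only [← single_eq_C_mul_T, AddMonoidAlgebra.coeff_single, Finsupp.single_apply] at h1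
  by_cases hj : j = j'
  · subst hj
    simp only [if_true] at h1
    exact ⟨h1, rfl⟩
  · exfalso
    rw [if_pos trivial, if_neg (Ne.symm hj)] at h1
    exact hl h1

/-- ring homomorphisms out of `L[T;T⁻¹]` are determined by their values on constants and on `T` -/
theorem ringHom_ext {S : Type*} [Semiring S] {φ₁ φ₂ : L[T;T⁻¹] →+* S}
    (hC : ∀ l, φ₁ (C l) = φ₂ (C l)) (hT : φ₁ (T 1) = φ₂ (T 1)) : φ₁ = φ₂ := by
  have hpos : ∀ n : ℕ, φ₁ (T n) = φ₂ (T n) := fun n => by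
    have : (T (n : ℤ) : L[T;T⁻¹]) = T 1 ^ n := by rw [T_pow, mul_one]
    rw [this, map_pow, map_pow, hT]
  have hneg : ∀ n : ℕ, φ₁ (T (-n)) = φ₂ (T (-n)) := fun n => by
    have h1 : φ₁ (T (-n)) * φ₁ (T n) = 1 := by
      rw [← map_mul, ← T_add, neg_add_cancel, T_zero, map_one]
    have h2 : φ₂ (T n) * φ₂ (T (-n)) = 1 := by
      rw [← map_mul, ← T_add, add_neg_cancel, T_zero, map_one]
    calc φ₁ (T (-n)) = φ₁ (T (-n)) * (φ₂ (T n) * φ₂ (T (-n))) := by rw [h2, mul_one]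
      _ = (φ₁ (T (-n)) * φ₁ (T n)) * φ₂ (T (-n)) := by rw [hpos, mul_assoc]
      _ = φ₂ (T (-n)) := by rw [h1, one_mul]
  have hall : ∀ n : ℤ, φ₁ (T n) = φ₂ (T n) := fun n => by
    rcases le_total 0 n with h | h
    · lift n to ℕ using h
      exact hpos n
    · obtain ⟨m, rfl⟩ := Int.exists_eq_neg_ofNat h
      exact hneg m
  refine RingHom.ext fun p => ?_
  induction p using LaurentPolynomial.induction_on' with
  | add p q hp hq => rw [map_add, map_add, hp, hq]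
  | C_mul_T n a => rw [map_mul, map_mul, hC, hall]

/-- `T m` as a unit -/
noncomputable def tUnit (m : ℤ) : (L[T;T⁻¹])ˣ :=
  ⟨T m, T (-m), by rw [← T_add, add_neg_cancel, T_zero], by rw [← T_add, neg_add_cancel, T_zero]⟩

@[simp] theorem tUnit_val (m : ℤ) : ((tUnit m : (L[T;T⁻¹])ˣ) : L[T;T⁻¹]) = T m := rfl

theorem tUnit_add (m n : ℤ) : (tUnit (m + n) : (L[T;T⁻¹])ˣ) = tUnit m * tUnit n :=
  Units.ext (T_add m n)

theorem tUnit_zero : (tUnit 0 : (L[T;T⁻¹])ˣ) = 1 := Units.ext T_zero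

theorem tUnit_neg (m : ℤ) : (tUnit (-m) : (L[T;T⁻¹])ˣ) = (tUnit m)⁻¹ := by
  rw [eq_inv_iff_mul_eq_one, ← tUnit_add, neg_add_cancel, tUnit_zero]

theorem tUnit_zpow (m n : ℤ) : (tUnit m : (L[T;T⁻¹])ˣ) ^ n = tUnit (m * n) := by
  induction n using Int.induction_on with
  | zero => rw [zpow_zero, mul_zero, tUnit_zero]
  | succ k ih => rw [zpow_add_one, ih, mul_add, mul_one, tUnit_add]
  | pred k ih => rw [zpow_sub_one, ih, mul_sub, mul_one, sub_eq_add_neg, tUnit_add, tUnit_neg]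

/-- integer powers of a monomial unit -/
theorem zpow_val_of_eq_C_mul_T (w : (L[T;T⁻¹])ˣ) {l : L} (hl : l ≠ 0) {j : ℤ}
    (hw : (w : L[T;T⁻¹]) = C l * T j) (n : ℤ) : ((w ^ n : (L[T;T⁻¹])ˣ) : L[T;T⁻¹]) = C (l ^ n) * T (j * n) := by
  have h1 : w = Units.map (C : L →+* L[T;T⁻¹]).toMonoidHom (Units.mk0 l hl) * tUnit j :=
    Units.ext (by rw [hw]; rfl)
  rw [h1, mul_zpow, tUnit_zpow, ← map_zpow, Units.val_mul, tUnit_val]
  congr 1
  rw [Units.coe_map, Units.val_zpow_eq_zpow_val, Units.val_mk0]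
  rfl

end Groth.Agent.Lib.Seat70.Laurent
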