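import Groth.Agent.S19548

set_option autoImplicit false
open RedSub

namespace Groth.Agent.Lib.Seat70.RootInv

variable {idx M N : Type} [AddCommGroup M] [AddCommGroup N]

/-- the permutation of a word acts linearly on the roots -/
theorem exists_linear (P : RootPairing idx ℤ M N) (l : List idx) :
    ∃ W : M →ₗ[ℤ] M, ∀ a, P.root (wordPerm P l a) = W (P.root a) := by
  induction l with
  | nil => exact ⟨LinearMap.id, fun a => by simp [Groth.Agent.S19548.wordPerm_nil]⟩
  | cons x l ih =>
    obtain ⟨W, hW⟩ := ih
    refine ⟨(P.reflection x).toLinearMap.comp W, fun a => ?_⟩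
    rw [Groth.Agent.S19548.wordPerm_cons, Equiv.Perm.mul_apply, RootPairing.root_reflectionPerm, hW]
    rfl

/-- the key inequality -/
theorem ncard_lt [Finite idx] (P : RootPairing idx ℤ M N) [P.IsReduced] (b : P.Base) (l : List idx)
    (c : idx) (hc : c ∈ posRoots P b) (hd : (wordPerm P l)⁻¹ c ∈ posRoots P b) :
    Set.ncard {a : idx | a ∈ posRoots P b ∧ wordPerm P l a ∈ negRoots P b} <
      Set.ncard {a : idx | a ∈ posRoots P b ∧
        (P.reflectionPerm c * wordPerm P l) a ∈ negRoots P b} := by
  classical
  have : Fintype idx := Fintype.ofFinite idx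
  obtain ⟨W, hW⟩ := exists_linear P l
  set w := wordPerm P l with hw
  set δ := w⁻¹ c with hδ
  set C := AddSubmonoid.closure (P.root '' (b.support : Set idx)) with hC
  have hwδ : w δ = c := by simp [hδ]
  -- t w = w t'
  have hconj : P.reflectionPerm c * w = w * P.reflectionPerm δ := by
    rw [← hwδ, hw, Groth.Agent.S19548.reflectionPerm_wordPerm]
    group
  set t' := P.reflectionPerm δ with ht'
  have ht'2 : ∀ a, t' (t' a) = a := fun a => P.reflectionPerm_self δ a
  -- indicator functions
  let p : idx → ℤ := fun a => if a ∈ posRoots P b then 1 else 0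
  let q : idx → ℤ := fun a => if w a ∈ negRoots P b then 1 else 0
  have hroot_t' : ∀ a, P.root (t' a) = P.root a - P.pairing a δ • P.root δ := fun a => by
    rw [ht', RootPairing.root_reflectionPerm, RootPairing.reflection_apply_root]
  have hroot_wt' : ∀ a, P.root (w (t' a)) = P.root (w a) - P.pairing a δ • P.root c := fun a => by
    rw [hW, hroot_t', map_sub, map_zsmul, ← hW, ← hW, hwδ]
  have hδC : P.root δ ∈ C := hd
  have hcC : P.root c ∈ C := hc
  have hposmem : ∀ a, a ∈ posRoots P b ↔ P.root a ∈ C := fun a => Iff.rfl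
  have hnegmem : ∀ a, a ∈ negRoots P b ↔ -P.root a ∈ C := fun a => Iff.rfl
  have hnat : ∀ (n : ℤ), 0 ≤ n → ∀ x ∈ C, n • x ∈ C := by
    intro n hn x hx
    obtain ⟨k, rfl⟩ := Int.eq_ofNat_of_zero_le hn
    rw [natCast_zsmul]
    exact AddSubmonoid.nsmul_mem _ hx k
  -- monotonicity
  have hT : ∀ a, 0 ≤ (p (t' a) - p a) * (q a - q (t' a)) := by
    intro a
    rcases le_total (P.pairing a δ) 0 with hn | hn
    · -- pos a → pos t'a, neg w t' a → neg w a
      have h1 : p a ≤ p (t' a) := by
        simp only [p]
        split_ifs with h1 h2 h2 <;> try norm_num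
        apply h2
        rw [hposmem, hroot_t', sub_eq_add_neg, ← neg_smul]
        exact C.add_mem h1 (hnat _ (by omega) _ hδC)
      have h2 : q (t' a) ≤ q a := by
        simp only [q]
        split_ifs with h1 h2 h2 <;> try norm_num
        apply h2
        rw [hnegmem, hroot_wt'] at h1
        rw [hnegmem]
        have : -P.root (w a) = -(P.root (w a) - P.pairing a δ • P.root c) +
            (-(P.pairing a δ)) • P.root c := by
          rw [neg_smul]; abel
        rw [this]
        exact C.add_mem h1 (hnat _ (by omega) _ hcC)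
      exact mul_nonneg (by linarith) (by linarith)
    · have h1 : p (t' a) ≤ p a := by
        simp only [p]
        split_ifs with h1 h2 h2 <;> try norm_num
        apply h2
        rw [hposmem, hroot_t'] at h1
        rw [hposmem]
        have : P.root a = (P.root a - P.pairing a δ • P.root δ) + (P.pairing a δ) • P.root δ := by
          abel
        rw [this]
        exact C.add_mem h1 (hnat _ hn _ hδC)
      have h2 : q a ≤ q (t' a) := by
        simp only [q]
        split_ifs with h1 h2 h2 <;> try norm_num
        apply h2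
        rw [hnegmem] at h1
        rw [hnegmem, hroot_wt', neg_sub, sub_eq_add_neg, add_comm]
        exact C.add_mem h1 (hnat _ hn _ hcC)
      exact mul_nonneg_of_nonpos_of_nonpos (by linarith) (by linarith)
  have hnotboth : ∀ a, a ∈ posRoots P b → a ∈ negRoots P b → False := fun a h1 h2 =>
    Groth.Agent.S19548.not_isPos_of_mem_negRoots P b a h2
      (Groth.Agent.S19548.isPos_of_mem_posRoots P b a h1)
  -- the term at δ
  have hTδ : (p (t' δ) - p δ) * (q δ - q (t' δ)) = 1 := by
    have h1 : p δ = 1 := by simp only [p]; rw [if_pos hd]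
    have h2 : p (t' δ) = 0 := by
      simp only [p]
      rw [if_neg]
      intro h
      apply hnotboth δ hd
      rw [hposmem, hroot_t', RootPairing.pairing_same, two_smul] at h
      rw [hnegmem]
      convert h using 1
      abel
    have h3 : q δ = 0 := by
      simp only [q]
      rw [if_neg]
      rw [hwδ]
      exact fun h => hnotboth c hc h
    have h4 : q (t' δ) = 1 := by
      simp only [q]
      rw [if_pos]
      rw [hnegmem, hroot_wt', RootPairing.pairing_same, two_smul, hwδ]
      convert hcC using 1
      abel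
    rw [h1, h2, h3, h4]; norm_num
  have hsum_pos : 0 < ∑ a, (p (t' a) - p a) * (q a - q (t' a)) := by
    have := Finset.single_le_sum (f := fun a => (p (t' a) - p a) * (q a - q (t' a)))
      (fun a _ => hT a) (Finset.mem_univ δ)
    rw [hTδ] at this
    linarith
  -- reindexing
  have hre1 : ∑ a, p (t' a) * q (t' a) = ∑ a, p a * q a :=
    Equiv.sum_comp t' (fun a => p a * q a)
  have hre2 : ∑ a, p (t' a) * q a = ∑ a, p a * q (t' a) := by
    rw [← Equiv.sum_comp t' (fun a => p (t' a) * q a)]
    simp only [ht'2]
  have hexp : ∑ a, (p (t' a) - p a) * (q a - q (t' a)) =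
      2 * ∑ a, p a * q (t' a) - 2 * ∑ a, p a * q a := by
    have : ∀ a, (p (t' a) - p a) * (q a - q (t' a)) =
        p (t' a) * q a - p (t' a) * q (t' a) - p a * q a + p a * q (t' a) := fun a => by ring
    simp only [this, Finset.sum_add_distrib, Finset.sum_sub_distrib, hre1, hre2]
    ring
  -- cardinalities
  have hN1 : (Set.ncard {a : idx | a ∈ posRoots P b ∧ w a ∈ negRoots P b} : ℤ) =
      ∑ a, p a * q a := by
    rw [Set.ncard_eq_toFinset_card', Set.toFinset_ofPred, Finset.card_filter]
    push_cast
    apply Finset.sum_congr rfl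
    intro a _
    simp only [p, q]
    split_ifs <;> simp_all
  have hN2 : (Set.ncard {a : idx | a ∈ posRoots P b ∧
      (P.reflectionPerm c * w) a ∈ negRoots P b} : ℤ) = ∑ a, p a * q (t' a) := by
    have hset : {a : idx | a ∈ posRoots P b ∧ (P.reflectionPerm c * w) a ∈ negRoots P b} =
        {a : idx | a ∈ posRoots P b ∧ w (t' a) ∈ negRoots P b} := by
      ext a
      simp only [Set.mem_ofPred_eq, hconj, Equiv.Perm.mul_apply]
    rw [hset, Set.ncard_eq_toFinset_card', Set.toFinset_ofPred, Finset.card_filter]
    push_cast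
    apply Finset.sum_congr rfl
    intro a _
    simp only [p, q]
    split_ifs <;> simp_all
  have : (Set.ncard {a : idx | a ∈ posRoots P b ∧ w a ∈ negRoots P b} : ℤ) <
      (Set.ncard {a : idx | a ∈ posRoots P b ∧
        (P.reflectionPerm c * w) a ∈ negRoots P b} : ℤ) := by
    rw [hN1, hN2]
    linarith
  exact_mod_cast this

/-- `ℓ(w) < ℓ(σ_γ w)` iff `w⁻¹ γ` is positive, `ℓ` being the number of inversions -/
theorem ncard_lt_iff [Finite idx] (P : RootPairing idx ℤ M N) [P.IsReduced] (b : P.Base)
    (l : List idx) (c : idx) (hc : c ∈ posRoots P b) :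
    Set.ncard {a : idx | a ∈ posRoots P b ∧ wordPerm P l a ∈ negRoots P b} <
        Set.ncard {a : idx | a ∈ posRoots P b ∧
          (P.reflectionPerm c * wordPerm P l) a ∈ negRoots P b} ↔
      (wordPerm P l)⁻¹ c ∈ posRoots P b := by
  refine ⟨fun hlt => ?_, fun hd => ncard_lt P b l c hc hd⟩
  by_contra hd
  have hneg : (wordPerm P l)⁻¹ c ∈ negRoots P b := by
    rcases b.root_mem_or_neg_mem ((wordPerm P l)⁻¹ c) with h | h
    · exact absurd h hd
    · exact h
  set w := wordPerm P l with hw
  set δ := w⁻¹ c with hδ
  have hwδ : w δ = c := by simp [hδ]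
  have hconj : P.reflectionPerm c * w = w * P.reflectionPerm δ := by
    rw [← hwδ, hw, Groth.Agent.S19548.reflectionPerm_wordPerm]
    group
  have h2 : (wordPerm P (c :: l))⁻¹ c ∈ posRoots P b := by
    rw [Groth.Agent.S19548.wordPerm_cons, ← hw, hconj]
    have : (w * P.reflectionPerm δ)⁻¹ c = P.reflectionPerm δ δ := by
      rw [mul_inv_rev, RootPairing.reflectionPerm_inv, Equiv.Perm.mul_apply]
    rw [this]
    change P.root (P.reflectionPerm δ δ) ∈ AddSubmonoid.closure (P.root '' (b.support : Set idx))
    rw [RootPairing.root_reflectionPerm, RootPairing.reflection_apply_self]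
    exact hneg
  have h3 := ncard_lt P b (c :: l) c hc h2
  rw [Groth.Agent.S19548.wordPerm_cons, ← hw, ← mul_assoc] at h3
  have hsq : P.reflectionPerm c * P.reflectionPerm c = 1 := by
    rw [← sq, RootPairing.reflectionPerm_sq]
  rw [hsq, one_mul] at h3
  exact lt_asymm hlt h3

end Groth.Agent.Lib.Seat70.RootInv
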