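import Mathlib

/-!
The determinant of a skew-symmetric matrix over an integrally closed domain of characteristic
zero is a square (helper for S15155).
-/

set_option autoImplicit false
universe u v

namespace Groth.Agent.Lib.Seat70.SkewDet

open Matrix

/-- the equivalence `Fin 2 ⊕ {k // k ≠ i ∧ k ≠ j} ≃ ι` sending `0 ↦ i`, `1 ↦ j`. -/
def pivotEquiv {ι : Type u} [DecidableEq ι] (i j : ι) (hij : i ≠ j) :
    Fin 2 ⊕ {k : ι // k ≠ i ∧ k ≠ j} ≃ ι where
  toFun := Sum.elim ![i, j] Subtype.val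
  invFun k := if hi : k = i then Sum.inl 0 else if hj : k = j then Sum.inl 1 else Sum.inr ⟨k, hi, hj⟩
  left_inv := by
    rintro (a | ⟨k, hki, hkj⟩)
    · fin_cases a
      · simp
      · simp [hij.symm]
    · simp [hki, hkj]
  right_inv := by
    intro k
    by_cases hi : k = i
    · simp [hi]
    · by_cases hj : k = j
      · simp [hj, hij.symm]
      · simp [hi, hj]

theorem det_skew_isSquare_field {F : Type v} [Field F] (h2 : (2 : F) ≠ 0) :
    ∀ (N : ℕ) (ι : Type u) [Fintype ι] [DecidableEq ι], Fintype.card ι = N →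
      ∀ M : Matrix ι ι F, Mᵀ = -M → ∃ c : F, M.det = c ^ 2 := by
  intro N
  induction N using Nat.strong_induction_on with
  | _ N ih =>
    intro ι _ _ hcard M hM
    have hentry : ∀ a b, M b a = -M a b := by
      intro a b
      have := congrFun (congrFun hM a) b
      simpa using this
    have hdiag : ∀ a, M a a = 0 := by
      intro a
      have h := hentry a a
      have h' : (2 : F) * M a a = 0 := by
        rw [two_mul]; nth_rewrite 1 [h]; exact neg_add_cancel _
      exact (mul_eq_zero.mp h').resolve_left h2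
    by_cases hzero : M = 0
    · subst hzero
      rcases isEmpty_or_nonempty ι with he | hne
      · exact ⟨1, by simp⟩
      · exact ⟨0, by rw [Matrix.det_zero]; simp⟩
    · -- pick a nonzero entry
      have : ∃ i j, M i j ≠ 0 := by
        by_contra hcon
        push Not at hcon
        apply hzero
        ext a b
        exact hcon a b
      obtain ⟨i, j, hij0⟩ := this
      have hij : i ≠ j := by
        rintro rfl
        exact hij0 (hdiag i)
      set a := M i j with ha
      let e := pivotEquiv i j hij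
      let M' : Matrix (Fin 2 ⊕ {k : ι // k ≠ i ∧ k ≠ j}) (Fin 2 ⊕ {k : ι // k ≠ i ∧ k ≠ j}) F :=
        M.submatrix e e
      have hdet : M'.det = M.det := Matrix.det_submatrix_equiv_self e M
      have hM' : M'ᵀ = -M' := by
        ext x y
        simp only [M', transpose_apply, submatrix_apply, Matrix.neg_apply]
        exact hentry _ _
      set A := M'.toBlocks₁₁ with hA
      set B := M'.toBlocks₁₂ with hB
      set C := M'.toBlocks₂₁ with hC
      set D := M'.toBlocks₂₂ with hD
      have hblocks : M' = fromBlocks A B C D := (fromBlocks_toBlocks M').symm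
      -- transposes
      have hT : fromBlocks Aᵀ Cᵀ Bᵀ Dᵀ = fromBlocks (-A) (-B) (-C) (-D) := by
        rw [← fromBlocks_transpose, ← fromBlocks_neg, ← hblocks, hM']
      have hAT : Aᵀ = -A := (fromBlocks_inj.mp hT).1
      have hCT : Cᵀ = -B := (fromBlocks_inj.mp hT).2.1
      have hBT : Bᵀ = -C := (fromBlocks_inj.mp hT).2.2.1
      have hDT : Dᵀ = -D := (fromBlocks_inj.mp hT).2.2.2
      -- the 2×2 block
      have hA00 : A 0 0 = 0 := by simp [hA, M', e, pivotEquiv, toBlocks₁₁, hdiag]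
      have hA11 : A 1 1 = 0 := by simp [hA, M', e, pivotEquiv, toBlocks₁₁, hdiag]
      have hA01 : A 0 1 = a := by simp [hA, M', e, pivotEquiv, toBlocks₁₁, ha]
      have hA10 : A 1 0 = -a := by
        simp [hA, M', e, pivotEquiv, toBlocks₁₁, ha]
        exact hentry i j
      have hdetA : A.det = a ^ 2 := by
        rw [Matrix.det_fin_two, hA00, hA11, hA01, hA10]; ring
      have hunit : IsUnit A.det := by
        rw [hdetA]; exact (isUnit_iff_ne_zero.mpr (pow_ne_zero 2 hij0))
      let _ : Invertible A := Matrix.invertibleOfIsUnitDet A hunit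
      have hinvT : (⅟A)ᵀ = -⅟A := by
        rw [Matrix.invOf_eq_nonsing_inv, Matrix.transpose_nonsing_inv, hAT]
        apply Matrix.inv_eq_left_inv
        rw [Matrix.neg_mul, Matrix.mul_neg, neg_neg, Matrix.nonsing_inv_mul A hunit]
      -- Schur complement
      have hschur : (D - C * ⅟A * B)ᵀ = -(D - C * ⅟A * B) := by
        rw [transpose_sub, transpose_mul, transpose_mul, hDT, hBT, hCT, hinvT]
        simp only [Matrix.neg_mul, Matrix.mul_neg, neg_neg, neg_sub, Matrix.mul_assoc]
        abel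
      have hcard' : Fintype.card {k : ι // k ≠ i ∧ k ≠ j} < N := by
        have := Fintype.card_congr e
        rw [Fintype.card_sum, Fintype.card_fin, hcard] at this
        omega
      obtain ⟨c, hc⟩ := ih _ hcard' {k : ι // k ≠ i ∧ k ≠ j} rfl (D - C * ⅟A * B) hschur
      refine ⟨a * c, ?_⟩
      rw [← hdet, hblocks, det_fromBlocks₁₁, hdetA, hc]
      ring

/-- The determinant of a skew-symmetric matrix over an integrally closed domain in which `2 ≠ 0`
is a square. -/
theorem det_skew_isSquare {S : Type v} [CommRing S] [IsDomain S] [IsIntegrallyClosed S]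
    (h2 : (2 : S) ≠ 0) {ι : Type u} [Fintype ι] [DecidableEq ι] (M : Matrix ι ι S)
    (hM : Mᵀ = -M) : ∃ c : S, M.det = c ^ 2 := by
  let K := FractionRing S
  have h2K : (2 : K) ≠ 0 := by
    have := (map_ne_zero_iff (algebraMap S K) (IsFractionRing.injective S K)).mpr h2
    rwa [map_ofNat] at this
  have hMK : (M.map (algebraMap S K))ᵀ = -(M.map (algebraMap S K)) := by
    rw [← transpose_map, hM]
    ext a b
    simp
  obtain ⟨c', hc'⟩ := det_skew_isSquare_field h2K _ ι rfl (M.map (algebraMap S K)) hMK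
  have hdet : (M.map (algebraMap S K)).det = algebraMap S K M.det := by
    rw [← RingHom.mapMatrix_apply, ← RingHom.map_det]
  rw [hdet] at hc'
  have hint : IsIntegral S (c' ^ 2) := by
    rw [← hc']; exact isIntegral_algebraMap
  obtain ⟨c, rfl⟩ :=
    IsIntegrallyClosed.exists_algebraMap_eq_of_isIntegral_pow (by norm_num : 0 < 2) hint
  refine ⟨c, IsFractionRing.injective S K ?_⟩
  rw [hc', map_pow]

open Polynomial

/-- `J` is invertible: `J * J = -1`. -/
theorem J_mul_J {R : Type*} [CommRing R] (m : ℕ) :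
    (fromBlocks 0 1 (-1) 0 : Matrix (Fin m ⊕ Fin m) (Fin m ⊕ Fin m) R) * fromBlocks 0 1 (-1) 0 = -1 := by
  rw [fromBlocks_multiply]
  simp only [Matrix.zero_mul, Matrix.mul_zero, Matrix.one_mul, Matrix.mul_one, zero_add, add_zero]
  rw [← fromBlocks_one, fromBlocks_neg]
  simp

theorem J_transpose {R : Type*} [CommRing R] (m : ℕ) :
    (fromBlocks 0 1 (-1) 0 : Matrix (Fin m ⊕ Fin m) (Fin m ⊕ Fin m) R)ᵀ = -fromBlocks 0 1 (-1) 0 := by
  rw [fromBlocks_transpose, fromBlocks_neg]
  simp

theorem det_J_ne_zero (m : ℕ) :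
    (fromBlocks 0 1 (-1) 0 : Matrix (Fin m ⊕ Fin m) (Fin m ⊕ Fin m) ℂ).det ≠ 0 := by
  intro h
  have h1 := congrArg Matrix.det (J_mul_J (R := ℂ) m)
  rw [det_mul, h, zero_mul, det_neg, det_one, mul_one] at h1
  exact (pow_ne_zero _ (by norm_num : (-1 : ℂ) ≠ 0)) h1.symm


/-- index type -/
abbrev II (m : ℕ) := Fin m ⊕ Fin m

/-- the charpoly part of S15155 -/
theorem exists_charpoly_sqrt (m : ℕ) :
    ∃ P : MvPolynomial ((Fin m ⊕ Fin m) × (Fin m ⊕ Fin m)) (Polynomial ℂ),
      ∀ A : Matrix (Fin m ⊕ Fin m) (Fin m ⊕ Fin m) ℂ,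
        A.transpose * Matrix.fromBlocks 0 1 (-1) 0 = Matrix.fromBlocks 0 1 (-1) 0 * A →
        A.charpoly = (MvPolynomial.eval (fun ij => Polynomial.C (A ij.1 ij.2)) P) ^ 2 := by
  classical
  let 𝔸 : Matrix (II m) (II m) (MvPolynomial (II m × II m) (Polynomial ℂ)) := Matrix.of fun i j => MvPolynomial.X (i, j)
  let Js : Matrix (II m) (II m) (MvPolynomial (II m × II m) (Polynomial ℂ)) := fromBlocks 0 1 (-1) 0
  let Mg : Matrix (II m) (II m) (MvPolynomial (II m × II m) (Polynomial ℂ)) := Js * (Matrix.scalar (II m) (MvPolynomial.C Polynomial.X) - 𝔸)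
  let Ng : Matrix (II m) (II m) (MvPolynomial (II m × II m) (Polynomial ℂ)) := Mg - Mgᵀ
  have hNg : Ngᵀ = -Ng := by
    simp only [Ng, transpose_sub, transpose_transpose, neg_sub]
  obtain ⟨pf, hpf⟩ := det_skew_isSquare (two_ne_zero : (2 : MvPolynomial (II m × II m) (Polynomial ℂ)) ≠ 0) Ng hNg
  set δ : ℂ := (fromBlocks 0 1 (-1) 0 : Matrix (II m) (II m) ℂ).det with hδ
  have hδ0 : δ ≠ 0 := det_J_ne_zero m
  obtain ⟨c, hc⟩ := IsAlgClosed.exists_pow_nat_eq ((2 ^ Fintype.card (II m) * δ)⁻¹ : ℂ)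
    (by norm_num : 0 < 2)
  refine ⟨MvPolynomial.C (Polynomial.C c) * pf, ?_⟩
  intro A hA
  let ev : MvPolynomial (II m × II m) (Polynomial ℂ) →+* ℂ[X] := MvPolynomial.eval (fun ij : II m × II m => Polynomial.C (A ij.1 ij.2))
  let J' : Matrix (II m) (II m) ℂ[X] := fromBlocks 0 1 (-1) 0
  have hevA : ev.mapMatrix 𝔸 = (Polynomial.C : ℂ →+* ℂ[X]).mapMatrix A := by
    refine Matrix.ext fun i j => ?_
    simp [ev, 𝔸]
  have hevJ : ev.mapMatrix Js = J' := by
    refine Matrix.ext fun a b => ?_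
    rcases a with a | a <;> rcases b with b | b <;>
      simp [Js, J', Matrix.one_apply, apply_ite]
  have hevS : ev.mapMatrix (Matrix.scalar (II m) (MvPolynomial.C Polynomial.X)) =
      Matrix.scalar (II m) (Polynomial.X : ℂ[X]) := by
    refine Matrix.ext fun a b => ?_
    by_cases hab : a = b
    · subst hab
      simp [ev, Matrix.scalar_apply]
    · simp [ev, Matrix.scalar_apply, hab]
  have hY : ev.mapMatrix Mg = J' * A.charmatrix := by
    simp only [Mg, map_mul, map_sub, hevA, hevJ, hevS, Matrix.charmatrix]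
  have hCJ : (Polynomial.C : ℂ →+* ℂ[X]).mapMatrix (fromBlocks 0 1 (-1) 0 : Matrix (II m) (II m) ℂ) = J' := by
    refine Matrix.ext fun a b => ?_
    rcases a with a | a <;> rcases b with b | b <;>
      simp [J', Matrix.one_apply, apply_ite]
  have hA' : ((Polynomial.C : ℂ →+* ℂ[X]).mapMatrix A)ᵀ * J' = J' * (Polynomial.C : ℂ →+* ℂ[X]).mapMatrix A := by
    have := congrArg (Polynomial.C : ℂ →+* ℂ[X]).mapMatrix hA
    rw [map_mul, map_mul, hCJ] at this
    rw [← this]
    congr 1
  set Y := J' * A.charmatrix with hYdef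
  have hYT : Yᵀ = -Y := by
    rw [hYdef, transpose_mul, J_transpose, Matrix.charmatrix, transpose_sub, Matrix.mul_neg,
      Matrix.sub_mul, Matrix.mul_sub, hA']
    have hcomm : (Matrix.scalar (II m) (Polynomial.X : ℂ[X]))ᵀ * J' = J' * Matrix.scalar (II m) (Polynomial.X : ℂ[X]) := by
      have h1 : (Matrix.scalar (II m) (Polynomial.X : ℂ[X]))ᵀ = Matrix.scalar (II m) (Polynomial.X : ℂ[X]) := by
        ext a b
        simp [Matrix.scalar_apply, Matrix.diagonal_apply, eq_comm]
      rw [h1]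
      exact (Matrix.scalar_commute _ (fun r' => Commute.all _ _) J').eq
    rw [hcomm]
  have hevN : ev.mapMatrix Ng = (2 : ℂ[X]) • Y := by
    have h1 : ev.mapMatrix Ng = ev.mapMatrix Mg - (ev.mapMatrix Mg)ᵀ := by
      simp only [Ng, map_sub]
      congr 1
    rw [h1, hY, hYT, sub_neg_eq_add, two_smul]
  have hdetJ' : J'.det = Polynomial.C δ := by
    rw [← hCJ, ← RingHom.map_det]
  have key : ev (pf ^ 2) = (2 : ℂ[X]) ^ Fintype.card (II m) * (Polynomial.C δ * A.charpoly) := by
    rw [← hpf, RingHom.map_det, hevN, Matrix.det_smul, hYdef, Matrix.det_mul, hdetJ',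
      Matrix.charpoly]
  have hevP : MvPolynomial.eval (fun ij : II m × II m => Polynomial.C (A ij.1 ij.2))
      (MvPolynomial.C (Polynomial.C c) * pf) = Polynomial.C c * ev pf := by
    simp [ev]
  rw [hevP, mul_pow, ← map_pow ev, key, ← map_pow, hc]
  have h2 : (Polynomial.C ((2 ^ Fintype.card (II m) * δ)⁻¹ : ℂ) : ℂ[X]) *
      ((2 : ℂ[X]) ^ Fintype.card (II m) * (Polynomial.C δ * A.charpoly)) = A.charpoly := by
    have h3 : ((2 : ℂ[X]) ^ Fintype.card (II m) * (Polynomial.C δ * A.charpoly)) =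
        Polynomial.C (2 ^ Fintype.card (II m) * δ) * A.charpoly := by
      rw [map_mul, map_pow]
      simp only [map_ofNat]
      ring
    rw [h3, ← mul_assoc, ← map_mul, inv_mul_cancel₀ (mul_ne_zero (pow_ne_zero _ two_ne_zero) hδ0),
      map_one, one_mul]
  exact h2.symm

/-- the determinant part of S15155 -/
theorem exists_det_sqrt (m : ℕ) :
    ∃ Q : MvPolynomial ((Fin m ⊕ Fin m) × (Fin m ⊕ Fin m)) ℂ,
      ∀ A : Matrix (Fin m ⊕ Fin m) (Fin m ⊕ Fin m) ℂ,
        A.transpose * Matrix.fromBlocks 0 1 (-1) 0 = Matrix.fromBlocks 0 1 (-1) 0 * A →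
        A.det = (MvPolynomial.eval (fun ij => A ij.1 ij.2) Q) ^ 2 := by
  classical
  let 𝔸 : Matrix (II m) (II m) (MvPolynomial (II m × II m) ℂ) :=
    Matrix.of fun i j => MvPolynomial.X (i, j)
  let Js : Matrix (II m) (II m) (MvPolynomial (II m × II m) ℂ) := fromBlocks 0 1 (-1) 0
  let Mg : Matrix (II m) (II m) (MvPolynomial (II m × II m) ℂ) := Js * 𝔸
  let Ng : Matrix (II m) (II m) (MvPolynomial (II m × II m) ℂ) := Mg - Mgᵀ
  have hNg : Ngᵀ = -Ng := by
    simp only [Ng, transpose_sub, transpose_transpose, neg_sub]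
  obtain ⟨pf, hpf⟩ :=
    det_skew_isSquare (two_ne_zero : (2 : MvPolynomial (II m × II m) ℂ) ≠ 0) Ng hNg
  set δ : ℂ := (fromBlocks 0 1 (-1) 0 : Matrix (II m) (II m) ℂ).det with hδ
  have hδ0 : δ ≠ 0 := det_J_ne_zero m
  obtain ⟨c, hc⟩ := IsAlgClosed.exists_pow_nat_eq ((2 ^ Fintype.card (II m) * δ)⁻¹ : ℂ)
    (by norm_num : 0 < 2)
  refine ⟨MvPolynomial.C c * pf, ?_⟩
  intro A hA
  let ev : MvPolynomial (II m × II m) ℂ →+* ℂ :=
    MvPolynomial.eval (fun ij : II m × II m => A ij.1 ij.2)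
  let J : Matrix (II m) (II m) ℂ := fromBlocks 0 1 (-1) 0
  have hevA : ev.mapMatrix 𝔸 = A := by
    refine Matrix.ext fun i j => ?_
    simp [ev, 𝔸]
  have hevJ : ev.mapMatrix Js = J := by
    refine Matrix.ext fun a b => ?_
    rcases a with a | a <;> rcases b with b | b <;>
      simp [Js, J, Matrix.one_apply, apply_ite]
  have hY : ev.mapMatrix Mg = J * A := by
    simp only [Mg, map_mul, hevA, hevJ]
  set Y := J * A with hYdef
  have hYT : Yᵀ = -Y := by
    rw [hYdef, transpose_mul, J_transpose, Matrix.mul_neg, hA]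
  have hevN : ev.mapMatrix Ng = (2 : ℂ) • Y := by
    have h1 : ev.mapMatrix Ng = ev.mapMatrix Mg - (ev.mapMatrix Mg)ᵀ := by
      simp only [Ng, map_sub]
      congr 1
    rw [h1, hY, hYT, sub_neg_eq_add, two_smul]
  have key : ev (pf ^ 2) = (2 : ℂ) ^ Fintype.card (II m) * (δ * A.det) := by
    rw [← hpf, RingHom.map_det, hevN, Matrix.det_smul, hYdef, Matrix.det_mul]
  have hevP : MvPolynomial.eval (fun ij : II m × II m => A ij.1 ij.2)
      (MvPolynomial.C c * pf) = c * ev pf := by
    simp [ev]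
  rw [hevP, mul_pow, ← map_pow ev, key, hc]
  field_simp

end Groth.Agent.Lib.Seat70.SkewDet
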