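import Mathlib

/-!
Over an uncountable field `k`, a finitely generated `k`-algebra `R` with countably many elements
`f n` avoiding a prime has a maximal ideal avoiding all `f n` (helper for S15237).
-/

set_option autoImplicit false
universe u

namespace Groth.Agent.Lib.Seat70.UncountableNull

open Cardinal

/-- A field extension of countable dimension over an uncountable field is algebraic. -/
theorem isAlgebraic_of_rank_le_aleph0 (k : Type u) [Field k] [Uncountable k]
    (L : Type u) [Field L] [Algebra k L] (h : Module.rank k L ≤ ℵ₀) : Algebra.IsAlgebraic k L := by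
  refine ⟨fun x => ?_⟩
  by_contra hx
  have hx' : Transcendental k x := hx
  have h1 := hx'.linearIndependent_sub_inv.cardinal_le_rank
  have h2 : ℵ₀ < #k := Cardinal.aleph0_lt_mk_iff.mpr inferInstance
  exact absurd (h1.trans h) (not_le.mpr h2)

/-- the core lemma -/
theorem exists_maximal_notMem (k : Type u) [Field k] [Uncountable k]
    (R : Type u) [CommRing R] [Algebra k R] [Algebra.FiniteType k R]
    (f : ℕ → R) (p₀ : Ideal R) [p₀.IsPrime] (hf : ∀ n, f n ∉ p₀) :
    ∃ m : Ideal R, m.IsMaximal ∧ ∀ n, f n ∉ m := by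
  classical
  obtain ⟨r, π, hπ⟩ := Algebra.FiniteType.iff_quotient_mvPolynomial''.mp
    (inferInstance : Algebra.FiniteType k R)
  -- the ring with inverses of the `f n` adjoined
  let B := MvPolynomial ℕ R
  let J : Ideal B := Ideal.span (Set.range fun n => MvPolynomial.C (f n) * MvPolynomial.X n - 1)
  -- J is proper
  let K := FractionRing (R ⧸ p₀)
  let ψ : B →+* K := MvPolynomial.eval₂Hom ((algebraMap (R ⧸ p₀) K).comp (Ideal.Quotient.mk p₀))
    (fun n => (algebraMap (R ⧸ p₀) K (Ideal.Quotient.mk p₀ (f n)))⁻¹)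
  have hJψ : J ≤ RingHom.ker ψ := by
    rw [Ideal.span_le]
    rintro _ ⟨n, rfl⟩
    rw [SetLike.mem_coe, RingHom.mem_ker]
    have hne : algebraMap (R ⧸ p₀) K (Ideal.Quotient.mk p₀ (f n)) ≠ 0 := by
      rw [Ne, map_eq_zero_iff _ (IsFractionRing.injective (R ⧸ p₀) K),
        Ideal.Quotient.eq_zero_iff_mem]
      exact hf n
    show ψ (MvPolynomial.C (f n) * MvPolynomial.X n - 1) = 0
    rw [map_sub, map_mul, map_one, MvPolynomial.coe_eval₂Hom, MvPolynomial.eval₂_C,
      MvPolynomial.eval₂_X, RingHom.comp_apply, mul_inv_cancel₀ hne, sub_self]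
  have hJ : J ≠ ⊤ := by
    intro h
    have : (1 : B) ∈ RingHom.ker ψ := hJψ (h ▸ Submodule.mem_top)
    rw [RingHom.mem_ker, map_one] at this
    exact one_ne_zero this
  obtain ⟨n', hn'max, hJn'⟩ := Ideal.exists_le_maximal J hJ
  -- the residue field
  let L := B ⧸ n'
  let _ : Field L := Ideal.Quotient.field n'
  -- countable dimension
  let q : MvPolynomial (ℕ ⊕ Fin r) k →ₐ[k] L :=
    ((Ideal.Quotient.mkₐ k n').comp (MvPolynomial.mapAlgHom π)).comp
      (MvPolynomial.sumAlgEquiv k ℕ (Fin r)).toAlgHom
  have hq : Function.Surjective q := by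
    refine (Ideal.Quotient.mkₐ_surjective k n').comp ?_ |>.comp
      (MvPolynomial.sumAlgEquiv k ℕ (Fin r)).surjective
    exact MvPolynomial.map_surjective _ hπ
  have hrank : Module.rank k L ≤ ℵ₀ := by
    have h1 := LinearMap.rank_le_of_surjective q.toLinearMap hq
    rw [MvPolynomial.rank_eq_lift, Cardinal.mk_finsupp_nat] at h1
    refine h1.trans ?_
    simp
  have := isAlgebraic_of_rank_le_aleph0 k L hrank
  -- the map R → L
  let g : R →ₐ[k] L := (Ideal.Quotient.mkₐ k n').comp (IsScalarTower.toAlgHom k R B)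
  refine ⟨RingHom.ker g.toRingHom, ?_, ?_⟩
  · -- maximal since the range is a field
    have hfield : IsField g.range := Subalgebra.isField_of_algebraic g.range
    have e : (R ⧸ RingHom.ker g.toRingHom) ≃+* g.range :=
      RingHom.quotientKerEquivRange g.toRingHom
    exact Ideal.Quotient.maximal_of_isField _ (e.toMulEquiv.isField hfield)
  · intro n hn
    rw [RingHom.mem_ker] at hn
    have h1 : (Ideal.Quotient.mk n') (MvPolynomial.C (f n) * MvPolynomial.X n - 1) = 0 := by
      rw [Ideal.Quotient.eq_zero_iff_mem]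
      exact hJn' (Ideal.subset_span ⟨n, rfl⟩)
    have h2 : (Ideal.Quotient.mk n') (MvPolynomial.C (f n)) = 0 := by
      have : g (f n) = 0 := hn
      exact this
    rw [map_sub, map_mul, h2, zero_mul, map_one, zero_sub, neg_eq_zero] at h1
    exact one_ne_zero h1

end Groth.Agent.Lib.Seat70.UncountableNull
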