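import Groth.Prelude.Def_W4c1arstab1appArSing
import Mathlib

set_option linter.style.haveILetI false
set_option linter.unusedSectionVars false

namespace Groth.Agent.Lib.Seat71.ArSingBasic

universe u

open MvPowerSeries (X coeff)

variable {k : Type u} [Field k]

/-- The monomial exponent `x^i y^j`. -/
noncomputable def mon (i j : ℕ) : Fin 2 →₀ ℕ := Finsupp.single 0 i + Finsupp.single 1 j

@[simp] lemma mon_zero (i j : ℕ) : mon i j 0 = i := by simp [mon]
@[simp] lemma mon_one (i j : ℕ) : mon i j 1 = j := by simp [mon]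

lemma mon_eta (m : Fin 2 →₀ ℕ) : mon (m 0) (m 1) = m := by
  ext t
  fin_cases t <;> simp

lemma mon_inj {i j i' j' : ℕ} (h : mon i j = mon i' j') : i = i' ∧ j = j' := by
  have h0 := congrArg (fun m => m 0) h
  have h1 := congrArg (fun m => m 1) h
  simpa using And.intro h0 h1

/-- Coefficient of `x^i y^j`. -/
noncomputable def c (f : MvPowerSeries (Fin 2) k) (i j : ℕ) : k := coeff (mon i j) f

lemma ext2 {f g : MvPowerSeries (Fin 2) k} (h : ∀ i j, c f i j = c g i j) : f = g := by
  ext m
  rw [← mon_eta m]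
  exact h _ _

@[simp] lemma c_add (f g : MvPowerSeries (Fin 2) k) (i j : ℕ) : c (f + g) i j = c f i j + c g i j := by
  simp [c]
@[simp] lemma c_sub (f g : MvPowerSeries (Fin 2) k) (i j : ℕ) : c (f - g) i j = c f i j - c g i j := by
  simp [c]
@[simp] lemma c_neg (f : MvPowerSeries (Fin 2) k) (i j : ℕ) : c (-f) i j = - c f i j := by
  simp [c]
@[simp] lemma c_zero (i j : ℕ) : c (0 : MvPowerSeries (Fin 2) k) i j = 0 := by
  simp [c]

/-- Build a two-variable series from a coefficient function. -/
noncomputable def mk2 (g : ℕ → ℕ → k) : MvPowerSeries (Fin 2) k := fun m => g (m 0) (m 1)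

@[simp] lemma c_mk2 (g : ℕ → ℕ → k) (i j : ℕ) : c (mk2 g) i j = g i j := by
  simp [c, mk2, MvPowerSeries.coeff_apply]

lemma single0_le_mon (n i j : ℕ) : (Finsupp.single (0 : Fin 2) n ≤ mon i j) ↔ n ≤ i := by
  rw [Finsupp.le_iff]
  constructor
  · intro h
    by_cases hn : n = 0
    · omega
    · have := h 0 (by simp [hn])
      simpa using this
  · intro h t ht
    fin_cases t
    · simpa using h
    · simp at ht

lemma single1_le_mon (n i j : ℕ) : (Finsupp.single (1 : Fin 2) n ≤ mon i j) ↔ n ≤ j := by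
  rw [Finsupp.le_iff]
  constructor
  · intro h
    by_cases hn : n = 0
    · omega
    · have := h 1 (by simp [hn])
      simpa using this
  · intro h t ht
    fin_cases t
    · simp at ht
    · simpa using h

lemma mon_sub_single0 (n i j : ℕ) : mon i j - Finsupp.single (0 : Fin 2) n = mon (i - n) j := by
  ext t
  fin_cases t <;> simp

lemma mon_sub_single1 (n i j : ℕ) : mon i j - Finsupp.single (1 : Fin 2) n = mon i (j - n) := by
  ext t
  fin_cases t <;> simp

lemma c_X0_pow_mul (n : ℕ) (f : MvPowerSeries (Fin 2) k) (i j : ℕ) :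
    c (X 0 ^ n * f) i j = if n ≤ i then c f (i - n) j else 0 := by
  unfold c
  rw [MvPowerSeries.X_pow_eq, MvPowerSeries.coeff_monomial_mul]
  simp only [single0_le_mon, mon_sub_single0, one_mul]

lemma c_X1_pow_mul (n : ℕ) (f : MvPowerSeries (Fin 2) k) (i j : ℕ) :
    c (X 1 ^ n * f) i j = if n ≤ j then c f i (j - n) else 0 := by
  unfold c
  rw [MvPowerSeries.X_pow_eq, MvPowerSeries.coeff_monomial_mul]
  simp only [single1_le_mon, mon_sub_single1, one_mul]

lemma c_mul_X1 (f : MvPowerSeries (Fin 2) k) (i j : ℕ) :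
    c (f * X 1) i j = if 1 ≤ j then c f i (j - 1) else 0 := by
  rw [mul_comm, ← pow_one (X 1 : MvPowerSeries (Fin 2) k), c_X1_pow_mul]

lemma c_mul_X0 (f : MvPowerSeries (Fin 2) k) (i j : ℕ) :
    c (f * X 0) i j = if 1 ≤ i then c f (i - 1) j else 0 := by
  rw [mul_comm, ← pow_one (X 0 : MvPowerSeries (Fin 2) k), c_X0_pow_mul]

/-- Substituting `x` for `t`. -/
noncomputable def ιx (a : PowerSeries k) : MvPowerSeries (Fin 2) k :=
  PowerSeries.subst (X (0 : Fin 2) : MvPowerSeries (Fin 2) k) a

lemma c_ιx (a : PowerSeries k) (i j : ℕ) :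
    c (ιx a) i j = if j = 0 then PowerSeries.coeff i a else 0 := by
  unfold c ιx
  rw [PowerSeries.coeff_subst_single]
  simp only [mon_zero]
  by_cases hj : j = 0
  · subst hj
    simp [mon]
  · rw [if_neg hj, if_neg]
    intro h
    have := congrArg (fun m => m 1) h
    simp at this
    exact hj this

end Groth.Agent.Lib.Seat71.ArSingBasic
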