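import Groth.Agent.Lib.Seat71ArSingCuspInv
import Mathlib

set_option linter.style.haveILetI false
set_option linter.unusedSectionVars false

namespace Groth.Agent.Lib.Seat71.ArSingBranch

universe u

open Groth.Agent.Lib.Seat71.ArSingBasic Groth.Agent.Lib.Seat71.ArSingNF
  Groth.Agent.Lib.Seat71.ArSingParity Groth.Agent.Lib.Seat71.ArSingSwap
  Groth.Agent.Lib.Seat71.ArSingCusp

variable {k : Type u} [Field k]

/-- The branch `y = x^(n+1)` of `y^2 = x^(2n+2)`: `a(x) + b(x) y ↦ a(t) + t^(n+1) b(t)`. -/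
noncomputable def P (n : ℕ) : ArSing.ring k (2 * n + 1) →ₐ[k] PowerSeries k where
  toFun z := co0 _ z + PowerSeries.X ^ (n + 1) * co1 _ z
  map_one' := by rw [one_eq_Φ, co0_Φ, co1_Φ]; simp
  map_mul' z w := by
    obtain ⟨a, b, rfl⟩ := Φ_surj _ z
    obtain ⟨c, d, rfl⟩ := Φ_surj _ w
    rw [Φ_mul]
    simp only [co0_Φ, co1_Φ]
    ring
  map_zero' := by rw [← Φ_zero (2 * n + 1), co0_Φ, co1_Φ]; simp
  map_add' z w := by
    obtain ⟨a, b, rfl⟩ := Φ_surj _ z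
    obtain ⟨c, d, rfl⟩ := Φ_surj _ w
    rw [Φ_add]
    simp only [co0_Φ, co1_Φ]
    ring
  commutes' s := by
    rw [algebraMap_eq_Φ, co0_Φ, co1_Φ]
    simp

/-- The branch `y = -x^(n+1)` of `y^2 = x^(2n+2)`: `a(x) + b(x) y ↦ a(t) - t^(n+1) b(t)`. -/
noncomputable def Q (n : ℕ) : ArSing.ring k (2 * n + 1) →ₐ[k] PowerSeries k where
  toFun z := co0 _ z - PowerSeries.X ^ (n + 1) * co1 _ z
  map_one' := by rw [one_eq_Φ, co0_Φ, co1_Φ]; simp
  map_mul' z w := by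
    obtain ⟨a, b, rfl⟩ := Φ_surj _ z
    obtain ⟨c, d, rfl⟩ := Φ_surj _ w
    rw [Φ_mul]
    simp only [co0_Φ, co1_Φ]
    ring
  map_zero' := by rw [← Φ_zero (2 * n + 1), co0_Φ, co1_Φ]; simp
  map_add' z w := by
    obtain ⟨a, b, rfl⟩ := Φ_surj _ z
    obtain ⟨c, d, rfl⟩ := Φ_surj _ w
    rw [Φ_add]
    simp only [co0_Φ, co1_Φ]
    ring
  commutes' s := by
    rw [algebraMap_eq_Φ, co0_Φ, co1_Φ]
    simp

@[simp] lemma P_Φ (n : ℕ) (a b : PowerSeries k) :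
    P n (Φ (2 * n + 1) a b) = a + PowerSeries.X ^ (n + 1) * b := by
  show co0 _ (Φ _ a b) + PowerSeries.X ^ (n + 1) * co1 _ (Φ _ a b) = _
  rw [co0_Φ, co1_Φ]

@[simp] lemma Q_Φ (n : ℕ) (a b : PowerSeries k) :
    Q n (Φ (2 * n + 1) a b) = a - PowerSeries.X ^ (n + 1) * b := by
  show co0 _ (Φ _ a b) - PowerSeries.X ^ (n + 1) * co1 _ (Φ _ a b) = _
  rw [co0_Φ, co1_Φ]

@[simp] lemma P_x (n : ℕ) : P n (ArSing.x k (2 * n + 1)) = PowerSeries.X := by
  rw [x_eq_Φ, P_Φ]; simp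
@[simp] lemma P_y (n : ℕ) : P n (ArSing.y k (2 * n + 1)) = PowerSeries.X ^ (n + 1) := by
  rw [y_eq_Φ, P_Φ]; simp
@[simp] lemma Q_x (n : ℕ) : Q n (ArSing.x k (2 * n + 1)) = PowerSeries.X := by
  rw [x_eq_Φ, Q_Φ]; simp
@[simp] lemma Q_y (n : ℕ) : Q n (ArSing.y k (2 * n + 1)) = -PowerSeries.X ^ (n + 1) := by
  rw [y_eq_Φ, Q_Φ]; simp

@[simp] lemma P_xMap (n : ℕ) (a : PowerSeries k) : P n (ArSing.xMap k (2 * n + 1) a) = a := by
  rw [xMap_eq_Φ, P_Φ]; simp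

@[simp] lemma Q_xMap (n : ℕ) (a : PowerSeries k) : Q n (ArSing.xMap k (2 * n + 1) a) = a := by
  rw [xMap_eq_Φ, Q_Φ]; simp

lemma dvd_P_sub_Q (n : ℕ) (z : ArSing.ring k (2 * n + 1)) :
    (PowerSeries.X : PowerSeries k) ^ (n + 1) ∣ P n z - Q n z := by
  obtain ⟨a, b, rfl⟩ := Φ_surj _ z
  rw [P_Φ, Q_Φ]
  exact ⟨2 * b, by ring⟩

/-- `(P, Q)` is jointly injective. -/
theorem PQ_injective (h2 : (2 : k) ≠ 0) (n : ℕ) {z w : ArSing.ring k (2 * n + 1)}
    (hP : P n z = P n w) (hQ : Q n z = Q n w) : z = w := by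
  obtain ⟨a, b, rfl⟩ := Φ_surj _ z
  obtain ⟨c, d, rfl⟩ := Φ_surj _ w
  rw [P_Φ, P_Φ] at hP
  rw [Q_Φ, Q_Φ] at hQ
  have e1 : a = c := ps_two_mul_cancel h2 (by linear_combination hP + hQ)
  have e2 : PowerSeries.X ^ (n + 1) * b = PowerSeries.X ^ (n + 1) * d :=
    ps_two_mul_cancel h2 (by linear_combination hP - hQ)
  rw [e1, mul_left_cancel₀ (pow_ne_zero _ PowerSeries.X_ne_zero) e2]

/-- The image of `(P, Q)`. -/
theorem exists_PQ (h2 : (2 : k) ≠ 0) (n : ℕ) (p q : PowerSeries k)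
    (h : (PowerSeries.X : PowerSeries k) ^ (n + 1) ∣ p - q) :
    ∃ z : ArSing.ring k (2 * n + 1), P n z = p ∧ Q n z = q := by
  obtain ⟨w, hw⟩ := h
  have hC : PowerSeries.C (2 : k)⁻¹ * 2 = (1 : PowerSeries k) := by
    have : (2 : PowerSeries k) = PowerSeries.C (2 : k) := (map_ofNat PowerSeries.C 2).symm
    rw [this, ← map_mul, inv_mul_cancel₀ h2, map_one]
  refine ⟨Φ _ (PowerSeries.C (2 : k)⁻¹ * (p + q)) (PowerSeries.C (2 : k)⁻¹ * w), ?_, ?_⟩
  · rw [P_Φ]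
    linear_combination (p) * hC - (PowerSeries.C (2 : k)⁻¹) * hw
  · rw [Q_Φ]
    linear_combination (q) * hC + (PowerSeries.C (2 : k)⁻¹) * hw

/-- The kernel of `P` is the branch ideal `(y - x^(n+1))`. -/
theorem ker_P (n : ℕ) : RingHom.ker (P n : ArSing.ring k (2 * n + 1) →ₐ[k] PowerSeries k) =
    Ideal.span {ArSing.y k (2 * n + 1) - ArSing.x k (2 * n + 1) ^ (n + 1)} := by
  apply le_antisymm
  · intro z hz
    rw [RingHom.mem_ker] at hz
    obtain ⟨a, b, rfl⟩ := Φ_surj _ z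
    change P n (Φ _ a b) = 0 at hz
    rw [P_Φ] at hz
    rw [Ideal.mem_span_singleton]
    refine ⟨ArSing.xMap k _ b, ?_⟩
    have ha : a = -(PowerSeries.X ^ (n + 1) * b) := by linear_combination hz
    unfold Φ
    rw [ha, map_neg, map_mul, map_pow, xMap_X]
    ring
  · rw [Ideal.span_singleton_le_iff_mem, RingHom.mem_ker]
    rw [map_sub, map_pow, P_x, P_y, sub_self]

/-- The kernel of `Q` is the branch ideal `(y + x^(n+1))`. -/
theorem ker_Q (n : ℕ) : RingHom.ker (Q n : ArSing.ring k (2 * n + 1) →ₐ[k] PowerSeries k) =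
    Ideal.span {ArSing.y k (2 * n + 1) + ArSing.x k (2 * n + 1) ^ (n + 1)} := by
  apply le_antisymm
  · intro z hz
    rw [RingHom.mem_ker] at hz
    obtain ⟨a, b, rfl⟩ := Φ_surj _ z
    change Q n (Φ _ a b) = 0 at hz
    rw [Q_Φ] at hz
    rw [Ideal.mem_span_singleton]
    refine ⟨ArSing.xMap k _ b, ?_⟩
    have ha : a = PowerSeries.X ^ (n + 1) * b := by linear_combination hz
    unfold Φ
    rw [ha, map_mul, map_pow, xMap_X]
    ring
  · rw [Ideal.span_singleton_le_iff_mem, RingHom.mem_ker]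
    rw [map_add, map_pow, Q_x, Q_y, neg_add_cancel]

lemma u_mul_v (n : ℕ) : (ArSing.y k (2 * n + 1) + ArSing.x k (2 * n + 1) ^ (n + 1)) *
    (ArSing.y k (2 * n + 1) - ArSing.x k (2 * n + 1) ^ (n + 1)) = 0 := by
  have := y_sq (k := k) (2 * n + 1)
  have h : ArSing.x k (2 * n + 1) ^ (2 * n + 1 + 1) =
      ArSing.x k (2 * n + 1) ^ (n + 1) * ArSing.x k (2 * n + 1) ^ (n + 1) := by ring
  linear_combination this + h

lemma P_u (n : ℕ) : P n (ArSing.y k (2 * n + 1) + ArSing.x k (2 * n + 1) ^ (n + 1)) =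
    2 * PowerSeries.X ^ (n + 1) := by
  rw [map_add, map_pow, P_x, P_y]; ring

lemma Q_v (n : ℕ) : Q n (ArSing.y k (2 * n + 1) - ArSing.x k (2 * n + 1) ^ (n + 1)) =
    -2 * PowerSeries.X ^ (n + 1) := by
  rw [map_sub, map_pow, Q_x, Q_y]; ring

/-- Lifting a pair of congruent maps to `k[[t]]` to a map into `A_{2n+1}`. -/
noncomputable def liftPQ (h2 : (2 : k) ≠ 0) (n : ℕ) {B : Type*} [CommRing B] [Algebra k B]
    (g₁ g₂ : B →ₐ[k] PowerSeries k)
    (hcc : ∀ z, (PowerSeries.X : PowerSeries k) ^ (n + 1) ∣ g₁ z - g₂ z) :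
    B →ₐ[k] ArSing.ring k (2 * n + 1) :=
  have hP : ∀ z, P n ((exists_PQ h2 n (g₁ z) (g₂ z) (hcc z)).choose) = g₁ z := fun z =>
    (exists_PQ h2 n (g₁ z) (g₂ z) (hcc z)).choose_spec.1
  have hQ : ∀ z, Q n ((exists_PQ h2 n (g₁ z) (g₂ z) (hcc z)).choose) = g₂ z := fun z =>
    (exists_PQ h2 n (g₁ z) (g₂ z) (hcc z)).choose_spec.2
  { toFun := fun z => (exists_PQ h2 n (g₁ z) (g₂ z) (hcc z)).choose
    map_one' := PQ_injective h2 n (by rw [hP, map_one, map_one]) (by rw [hQ, map_one, map_one])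
    map_mul' := fun z w => PQ_injective h2 n (by rw [hP, map_mul, map_mul, hP, hP])
      (by rw [hQ, map_mul, map_mul, hQ, hQ])
    map_zero' := PQ_injective h2 n (by rw [hP, map_zero, map_zero])
      (by rw [hQ, map_zero, map_zero])
    map_add' := fun z w => PQ_injective h2 n (by rw [hP, map_add, map_add, hP, hP])
      (by rw [hQ, map_add, map_add, hQ, hQ])
    commutes' := fun s => PQ_injective h2 n (by rw [hP, AlgHom.commutes, AlgHom.commutes])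
      (by rw [hQ, AlgHom.commutes, AlgHom.commutes]) }

@[simp] lemma P_liftPQ (h2 : (2 : k) ≠ 0) (n : ℕ) {B : Type*} [CommRing B] [Algebra k B]
    (g₁ g₂ : B →ₐ[k] PowerSeries k)
    (hcc : ∀ z, (PowerSeries.X : PowerSeries k) ^ (n + 1) ∣ g₁ z - g₂ z) (z : B) :
    P n (liftPQ h2 n g₁ g₂ hcc z) = g₁ z :=
  (exists_PQ h2 n (g₁ z) (g₂ z) (hcc z)).choose_spec.1

@[simp] lemma Q_liftPQ (h2 : (2 : k) ≠ 0) (n : ℕ) {B : Type*} [CommRing B] [Algebra k B]
    (g₁ g₂ : B →ₐ[k] PowerSeries k)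
    (hcc : ∀ z, (PowerSeries.X : PowerSeries k) ^ (n + 1) ∣ g₁ z - g₂ z) (z : B) :
    Q n (liftPQ h2 n g₁ g₂ hcc z) = g₂ z :=
  (exists_PQ h2 n (g₁ z) (g₂ z) (hcc z)).choose_spec.2

/-! ### Congruent endomorphisms of `k[[t]]` -/

/-- Two endomorphisms of `k[[t]]` congruent on `t` modulo `t^M` are congruent modulo `t^M`. -/
theorem algHom_congr (M : ℕ) (g₁ g₂ : PowerSeries k →ₐ[k] PowerSeries k)
    (h : (PowerSeries.X : PowerSeries k) ^ M ∣ g₁ PowerSeries.X - g₂ PowerSeries.X)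
    (f : PowerSeries k) : (PowerSeries.X : PowerSeries k) ^ M ∣ g₁ f - g₂ f := by
  have hpoly : ∀ (g : PowerSeries k →ₐ[k] PowerSeries k) (p : Polynomial k),
      g (p : PowerSeries k) = Polynomial.aeval (g PowerSeries.X) p := by
    intro g p
    have h1 : g.comp (Polynomial.coeToPowerSeries.algHom k) =
        Polynomial.aeval (g PowerSeries.X) := by
      apply Polynomial.algHom_ext
      simp [Polynomial.coeToPowerSeries.algHom_apply]
    have := DFunLike.congr_fun h1 p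
    simpa [Polynomial.coeToPowerSeries.algHom_apply] using this
  rw [PowerSeries.eq_X_pow_mul_shift_add_trunc M f]
  simp only [map_add, map_mul, map_pow, hpoly]
  have h1 : (PowerSeries.X : PowerSeries k) ^ M ∣
      Polynomial.aeval (g₁ PowerSeries.X) (PowerSeries.trunc M f) -
        Polynomial.aeval (g₂ PowerSeries.X) (PowerSeries.trunc M f) := by
    refine dvd_trans h ?_
    rw [Polynomial.aeval_def, Polynomial.aeval_def, Polynomial.eval₂_eq_eval_map,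
      Polynomial.eval₂_eq_eval_map]
    exact Polynomial.sub_dvd_eval_sub _ _ _
  have h3 : ∀ g : PowerSeries k →ₐ[k] PowerSeries k,
      (PowerSeries.X : PowerSeries k) ^ M ∣ g PowerSeries.X ^ M *
        g (PowerSeries.mk fun i => PowerSeries.coeff (i + M) f) := fun g =>
    Dvd.dvd.mul_right (pow_dvd_pow_of_dvd (algHom_X_dvd g) M) _
  have e : ∀ a b c d : PowerSeries k, a + b - (c + d) = (a - c) + (b - d) := by
    intro a b c d; ring
  rw [e]
  exact dvd_add (dvd_sub (h3 g₁) (h3 g₂)) h1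

end Groth.Agent.Lib.Seat71.ArSingBranch
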