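import Groth.Agent.Lib.Seat71ArSingBranch
import Mathlib

set_option linter.style.haveILetI false
set_option linter.unusedSectionVars false

namespace Groth.Agent.Lib.Seat71.ArSingBranch

universe u

open Groth.Agent.Lib.Seat71.ArSingBasic Groth.Agent.Lib.Seat71.ArSingNF
  Groth.Agent.Lib.Seat71.ArSingParity Groth.Agent.Lib.Seat71.ArSingSwap
  Groth.Agent.Lib.Seat71.ArSingCusp

variable {k : Type u} [Field k]

/-- The automorphism of `k[[t]]` with `t ↦ s` (`s` without constant term, invertible linear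
term). -/
noncomputable def substEquiv (s : PowerSeries k) (h0 : PowerSeries.constantCoeff s = 0)
    (h1 : IsUnit (PowerSeries.coeff 1 s)) : PowerSeries k ≃ₐ[k] PowerSeries k :=
  have hyS : PowerSeries.HasSubst s := PowerSeries.HasSubst.of_constantCoeff_zero' h0
  have hzS : PowerSeries.HasSubst (s.substInvOfIsUnit h1) :=
    PowerSeries.HasSubst.substInvOfIsUnit s h1
  AlgEquiv.ofAlgHom (PowerSeries.substAlgHom hyS) (PowerSeries.substAlgHom hzS)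
    (by
      ext1 f
      change PowerSeries.substAlgHom hyS (PowerSeries.substAlgHom hzS f) = f
      rw [PowerSeries.coe_substAlgHom, PowerSeries.coe_substAlgHom,
        PowerSeries.subst_comp_subst_apply hzS hyS,
        PowerSeries.subst_substInvOfIsUnit_left s h0 h1]
      exact PowerSeries.X_subst f)
    (by
      ext1 f
      change PowerSeries.substAlgHom hzS (PowerSeries.substAlgHom hyS f) = f
      rw [PowerSeries.coe_substAlgHom, PowerSeries.coe_substAlgHom,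
        PowerSeries.subst_comp_subst_apply hyS hzS,
        PowerSeries.subst_substInvOfIsUnit_right s h0 h1]
      exact PowerSeries.X_subst f)

lemma substEquiv_X (s : PowerSeries k) (h0 : PowerSeries.constantCoeff s = 0)
    (h1 : IsUnit (PowerSeries.coeff 1 s)) : substEquiv s h0 h1 PowerSeries.X = s := by
  have hyS : PowerSeries.HasSubst s := PowerSeries.HasSubst.of_constantCoeff_zero' h0
  change PowerSeries.substAlgHom hyS PowerSeries.X = s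
  rw [PowerSeries.coe_substAlgHom, PowerSeries.subst_X hyS]

lemma algEquiv_congr_symm (M : ℕ) (ψ₁ ψ₂ : PowerSeries k ≃ₐ[k] PowerSeries k)
    (h : ∀ f, (PowerSeries.X : PowerSeries k) ^ M ∣ ψ₁ f - ψ₂ f) (f : PowerSeries k) :
    (PowerSeries.X : PowerSeries k) ^ M ∣ ψ₁.symm f - ψ₂.symm f := by
  have h1 : ψ₁.symm f - ψ₂.symm f = ψ₁.symm (ψ₂ (ψ₂.symm f) - ψ₁ (ψ₂.symm f)) := by
    rw [map_sub, AlgEquiv.symm_apply_apply, AlgEquiv.apply_symm_apply]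
  rw [h1]
  apply algHom_X_pow_dvd (ψ₁.symm : PowerSeries k →ₐ[k] PowerSeries k)
  have := h (ψ₂.symm f)
  rw [← neg_sub]
  exact (dvd_neg).2 this

lemma cc_branch (n : ℕ) (ψ₁ ψ₂ : PowerSeries k ≃ₐ[k] PowerSeries k)
    (h : ∀ f, (PowerSeries.X : PowerSeries k) ^ (n + 1) ∣ ψ₁ f - ψ₂ f)
    (z : ArSing.ring k (2 * n + 1)) :
    (PowerSeries.X : PowerSeries k) ^ (n + 1) ∣
      ((ψ₁ : PowerSeries k →ₐ[k] PowerSeries k).comp (P n)) z -
        ((ψ₂ : PowerSeries k →ₐ[k] PowerSeries k).comp (Q n)) z := by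
  show (PowerSeries.X : PowerSeries k) ^ (n + 1) ∣ ψ₁ (P n z) - ψ₂ (Q n z)
  have h1 : ψ₁ (P n z) - ψ₂ (Q n z) = ψ₁ (P n z - Q n z) + (ψ₁ (Q n z) - ψ₂ (Q n z)) := by
    rw [map_sub]; ring
  rw [h1]
  exact dvd_add (algHom_X_pow_dvd (ψ₁ : PowerSeries k →ₐ[k] PowerSeries k) _ (dvd_P_sub_Q n z))
    (h _)

/-- The automorphism of `A_{2n+1}` acting by `ψ₁`, `ψ₂` (congruent modulo `t^(n+1)`) on the two
branches. -/
noncomputable def branchEquiv (h2 : (2 : k) ≠ 0) (n : ℕ)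
    (ψ₁ ψ₂ : PowerSeries k ≃ₐ[k] PowerSeries k)
    (h : ∀ f, (PowerSeries.X : PowerSeries k) ^ (n + 1) ∣ ψ₁ f - ψ₂ f) :
    ArSing.ring k (2 * n + 1) ≃ₐ[k] ArSing.ring k (2 * n + 1) :=
  AlgEquiv.ofAlgHom
    (liftPQ h2 n ((ψ₁ : PowerSeries k →ₐ[k] PowerSeries k).comp (P n))
      ((ψ₂ : PowerSeries k →ₐ[k] PowerSeries k).comp (Q n)) (cc_branch n ψ₁ ψ₂ h))
    (liftPQ h2 n ((ψ₁.symm : PowerSeries k →ₐ[k] PowerSeries k).comp (P n))
      ((ψ₂.symm : PowerSeries k →ₐ[k] PowerSeries k).comp (Q n))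
      (cc_branch n ψ₁.symm ψ₂.symm (algEquiv_congr_symm (n + 1) ψ₁ ψ₂ h)))
    (by
      ext z
      apply PQ_injective h2 n
      · simp
      · simp)
    (by
      ext z
      apply PQ_injective h2 n
      · simp
      · simp)

@[simp] lemma P_branchEquiv (h2 : (2 : k) ≠ 0) (n : ℕ)
    (ψ₁ ψ₂ : PowerSeries k ≃ₐ[k] PowerSeries k)
    (h : ∀ f, (PowerSeries.X : PowerSeries k) ^ (n + 1) ∣ ψ₁ f - ψ₂ f)
    (z : ArSing.ring k (2 * n + 1)) : P n (branchEquiv h2 n ψ₁ ψ₂ h z) = ψ₁ (P n z) :=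
  P_liftPQ h2 n _ _ (cc_branch n ψ₁ ψ₂ h) z

@[simp] lemma Q_branchEquiv (h2 : (2 : k) ≠ 0) (n : ℕ)
    (ψ₁ ψ₂ : PowerSeries k ≃ₐ[k] PowerSeries k)
    (h : ∀ f, (PowerSeries.X : PowerSeries k) ^ (n + 1) ∣ ψ₁ f - ψ₂ f)
    (z : ArSing.ring k (2 * n + 1)) : Q n (branchEquiv h2 n ψ₁ ψ₂ h z) = ψ₂ (Q n z) :=
  Q_liftPQ h2 n _ _ (cc_branch n ψ₁ ψ₂ h) z

@[simp] lemma P_branchEquiv_symm (h2 : (2 : k) ≠ 0) (n : ℕ)
    (ψ₁ ψ₂ : PowerSeries k ≃ₐ[k] PowerSeries k)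
    (h : ∀ f, (PowerSeries.X : PowerSeries k) ^ (n + 1) ∣ ψ₁ f - ψ₂ f)
    (z : ArSing.ring k (2 * n + 1)) :
    P n ((branchEquiv h2 n ψ₁ ψ₂ h).symm z) = ψ₁.symm (P n z) :=
  P_liftPQ h2 n _ _ (cc_branch n ψ₁.symm ψ₂.symm (algEquiv_congr_symm (n + 1) ψ₁ ψ₂ h)) z

@[simp] lemma Q_branchEquiv_symm (h2 : (2 : k) ≠ 0) (n : ℕ)
    (ψ₁ ψ₂ : PowerSeries k ≃ₐ[k] PowerSeries k)
    (h : ∀ f, (PowerSeries.X : PowerSeries k) ^ (n + 1) ∣ ψ₁ f - ψ₂ f)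
    (z : ArSing.ring k (2 * n + 1)) :
    Q n ((branchEquiv h2 n ψ₁ ψ₂ h).symm z) = ψ₂.symm (Q n z) :=
  Q_liftPQ h2 n _ _ (cc_branch n ψ₁.symm ψ₂.symm (algEquiv_congr_symm (n + 1) ψ₁ ψ₂ h)) z

lemma cc_QP (n : ℕ) (z : ArSing.ring k (2 * n + 1)) :
    (PowerSeries.X : PowerSeries k) ^ (n + 1) ∣ Q n z - P n z := by
  rw [← neg_sub]
  exact (dvd_neg).2 (dvd_P_sub_Q n z)

/-- The automorphism `x ↦ x`, `y ↦ -y` exchanging the two branches. -/
noncomputable def θ (h2 : (2 : k) ≠ 0) (n : ℕ) :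
    ArSing.ring k (2 * n + 1) ≃ₐ[k] ArSing.ring k (2 * n + 1) :=
  AlgEquiv.ofAlgHom (liftPQ h2 n (Q n) (P n) (cc_QP n)) (liftPQ h2 n (Q n) (P n) (cc_QP n))
    (by
      ext z
      apply PQ_injective h2 n
      · simp
      · simp)
    (by
      ext z
      apply PQ_injective h2 n
      · simp
      · simp)

@[simp] lemma P_θ (h2 : (2 : k) ≠ 0) (n : ℕ) (z : ArSing.ring k (2 * n + 1)) :
    P n (θ h2 n z) = Q n z :=
  P_liftPQ h2 n _ _ (cc_QP n) z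

@[simp] lemma Q_θ (h2 : (2 : k) ≠ 0) (n : ℕ) (z : ArSing.ring k (2 * n + 1)) :
    Q n (θ h2 n z) = P n z :=
  Q_liftPQ h2 n _ _ (cc_QP n) z

end Groth.Agent.Lib.Seat71.ArSingBranch
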