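import Groth.Agent.Lib.Seat71ArSingBranchAut
import Groth.Agent.S14080
import Mathlib

set_option linter.style.haveILetI false
set_option linter.unusedSectionVars false
set_option linter.unusedSimpArgs false

namespace Groth.Agent.Lib.Seat71.ArSingBranch

universe u

open Groth.Agent.Lib.Seat71.ArSingBasic Groth.Agent.Lib.Seat71.ArSingNF
  Groth.Agent.Lib.Seat71.ArSingParity Groth.Agent.Lib.Seat71.ArSingSwap
  Groth.Agent.Lib.Seat71.ArSingCusp

variable {k : Type u} [Field k]

/-- `N` as an automorphism. -/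
noncomputable def N' : PowerSeries k ≃ₐ[k] PowerSeries k :=
  AlgEquiv.ofAlgHom N N
    (by
      apply powerSeries_algHom_ext (Ideal.span {(PowerSeries.X : PowerSeries k)})
        powerSeries_iInf_span_X_pow
      · show N (N PowerSeries.X) = PowerSeries.X
        rw [N_X, map_neg, N_X, neg_neg]
      · show N (N PowerSeries.X) ∈ _
        rw [N_X, map_neg, N_X, neg_neg]
        exact Ideal.subset_span rfl)
    (by
      apply powerSeries_algHom_ext (Ideal.span {(PowerSeries.X : PowerSeries k)})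
        powerSeries_iInf_span_X_pow
      · show N (N PowerSeries.X) = PowerSeries.X
        rw [N_X, map_neg, N_X, neg_neg]
      · show N (N PowerSeries.X) ∈ _
        rw [N_X, map_neg, N_X, neg_neg]
        exact Ideal.subset_span rfl)

lemma N'_apply (f : PowerSeries k) : N' f = N f := rfl
lemma N'_symm_apply (f : PowerSeries k) : N'.symm f = N f := rfl

/-- An endomorphism `α` of `k[[t]]` with linear coefficient `1` which is an involution modulo
`t^M` is the identity modulo `t^M`. -/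
theorem sub_X_dvd_of_involution_mod (h2 : (2 : k) ≠ 0) (M : ℕ)
    (α : PowerSeries k →ₐ[k] PowerSeries k)
    (h1 : PowerSeries.coeff 1 (α PowerSeries.X) = 1)
    (hα2 : (PowerSeries.X : PowerSeries k) ^ M ∣ α (α PowerSeries.X) - PowerSeries.X) :
    (PowerSeries.X : PowerSeries k) ^ M ∣ α PowerSeries.X - PowerSeries.X := by
  obtain ⟨u, hu⟩ := algHom_X_dvd α
  have hu0 : PowerSeries.constantCoeff u = 1 := by
    rw [hu, show (1 : ℕ) = 0 + 1 from rfl, PowerSeries.coeff_succ_X_mul] at h1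
    simpa using h1
  obtain ⟨δ, hδ⟩ : ∃ δ, δ = α PowerSeries.X - PowerSeries.X := ⟨_, rfl⟩
  rw [← hδ]
  have hαX : α PowerSeries.X = PowerSeries.X + δ := by rw [hδ]; ring
  have hsum : (PowerSeries.X : PowerSeries k) ^ M ∣ δ + α δ := by
    have : δ + α δ = α (α PowerSeries.X) - PowerSeries.X := by
      rw [hαX, map_add, hαX]; ring
    rw [this]; exact hα2
  rw [PowerSeries.X_pow_dvd_iff]
  intro j
  induction j using Nat.strong_induction_on with
  | _ j ih =>
    intro hj
    have hdvd : (PowerSeries.X : PowerSeries k) ^ j ∣ δ :=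
      PowerSeries.X_pow_dvd_iff.2 (fun i hi => ih i hi (by omega))
    obtain ⟨w, hw⟩ := hdvd
    have h3 : δ + α δ = PowerSeries.X ^ j * (w + u ^ j * α w) := by
      conv_lhs => rw [hw, map_mul, map_pow, hu]
      ring
    have h4 : (PowerSeries.X : PowerSeries k) ^ j * PowerSeries.X ^ (M - j) ∣
        PowerSeries.X ^ j * (w + u ^ j * α w) := by
      rw [← pow_add, ← h3, show j + (M - j) = M from by omega]
      exact hsum
    have h5 := (mul_dvd_mul_iff_left (pow_ne_zero j (PowerSeries.X_ne_zero (R := k)))).1 h4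
    have h6 : (PowerSeries.X : PowerSeries k) ∣ w + u ^ j * α w :=
      dvd_trans (dvd_pow_self _ (by omega)) h5
    rw [PowerSeries.X_dvd_iff, map_add, map_mul, map_pow, hu0, one_pow, one_mul,
      algHom_constantCoeff] at h6
    have h7 : PowerSeries.constantCoeff w = 0 := by
      have : (2 : k) * PowerSeries.constantCoeff w = 0 := by linear_combination h6
      simpa [h2] using this
    rw [hw, PowerSeries.coeff_X_pow_mul', if_pos le_rfl, Nat.sub_self,
      PowerSeries.coeff_zero_eq_constantCoeff_apply, h7]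

/-- Every non-trivial involution of `A_{2n+1}`, `n ≥ 1` (two smooth branches with contact of order
`n+1 ≥ 2`), is conjugate to one of `(x, -y)`, `(-x, y)`, `(-x, -y)`. -/
theorem involution_conj (h2 : (2 : k) ≠ 0) (n : ℕ) (hn : 1 ≤ n)
    (σ : ArSing.ring k (2 * n + 1) ≃ₐ[k] ArSing.ring k (2 * n + 1)) (hσ : ∀ a, σ (σ a) = a)
    (hne : σ ≠ AlgEquiv.refl) :
    ∃ φ : ArSing.ring k (2 * n + 1) ≃ₐ[k] ArSing.ring k (2 * n + 1),
      (φ.symm (σ (φ (ArSing.x k (2 * n + 1)))) = ArSing.x k (2 * n + 1) ∧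
        φ.symm (σ (φ (ArSing.y k (2 * n + 1)))) = -ArSing.y k (2 * n + 1)) ∨
      (φ.symm (σ (φ (ArSing.x k (2 * n + 1)))) = -ArSing.x k (2 * n + 1) ∧
        φ.symm (σ (φ (ArSing.y k (2 * n + 1)))) = ArSing.y k (2 * n + 1)) ∨
      (φ.symm (σ (φ (ArSing.x k (2 * n + 1)))) = -ArSing.x k (2 * n + 1) ∧
        φ.symm (σ (φ (ArSing.y k (2 * n + 1)))) = -ArSing.y k (2 * n + 1)) := by
  obtain ⟨uu, huu⟩ : ∃ uu, uu = ArSing.y k (2 * n + 1) + ArSing.x k (2 * n + 1) ^ (n + 1) :=
    ⟨_, rfl⟩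
  obtain ⟨vv, hvv⟩ : ∃ vv, vv = ArSing.y k (2 * n + 1) - ArSing.x k (2 * n + 1) ^ (n + 1) :=
    ⟨_, rfl⟩
  have huv : uu * vv = 0 := by rw [huu, hvv]; exact u_mul_v n
  have hXn : (PowerSeries.X : PowerSeries k) ^ (n + 1) ≠ 0 := pow_ne_zero _ PowerSeries.X_ne_zero
  have hPu : P n uu = 2 * PowerSeries.X ^ (n + 1) := by rw [huu]; exact P_u n
  have hQv : Q n vv = -2 * PowerSeries.X ^ (n + 1) := by rw [hvv]; exact Q_v n
  have hPuv : P n (σ uu) * P n (σ vv) = 0 := by
    rw [← map_mul, ← map_mul, huv, map_zero, map_zero]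
  have hQuv : Q n (σ uu) * Q n (σ vv) = 0 := by
    rw [← map_mul, ← map_mul, huv, map_zero, map_zero]
  have hu_ne : uu ≠ 0 := by
    intro h
    have := congrArg (P n) h
    rw [hPu, map_zero] at this
    exact hXn (ps_two_mul_eq_zero h2 this)
  have hv_ne : vv ≠ 0 := by
    intro h
    have := congrArg (Q n) h
    rw [hQv, map_zero] at this
    have h3 : (2 : PowerSeries k) * PowerSeries.X ^ (n + 1) = 0 := by linear_combination -this
    exact hXn (ps_two_mul_eq_zero h2 h3)
  have hnz : ∀ w : ArSing.ring k (2 * n + 1), w ≠ 0 → ¬ (P n (σ w) = 0 ∧ Q n (σ w) = 0) := by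
    rintro w hw ⟨h1, h3⟩
    have : σ w = 0 := PQ_injective h2 n (by rw [h1, map_zero]) (by rw [h3, map_zero])
    exact hw (by simpa using this)
  have hmemP : ∀ z : ArSing.ring k (2 * n + 1), ∃ w, z - ArSing.xMap k _ (P n z) = vv * w := by
    intro z
    have : z - ArSing.xMap k _ (P n z) ∈
        RingHom.ker (P n : ArSing.ring k (2 * n + 1) →ₐ[k] PowerSeries k) := by
      rw [RingHom.mem_ker]
      show P n (z - ArSing.xMap k _ (P n z)) = 0
      rw [map_sub, P_xMap, sub_self]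
    rw [ker_P, Ideal.mem_span_singleton, ← hvv] at this
    exact this
  have hmemQ : ∀ z : ArSing.ring k (2 * n + 1), ∃ w, z - ArSing.xMap k _ (Q n z) = uu * w := by
    intro z
    have : z - ArSing.xMap k _ (Q n z) ∈
        RingHom.ker (Q n : ArSing.ring k (2 * n + 1) →ₐ[k] PowerSeries k) := by
      rw [RingHom.mem_ker]
      show Q n (z - ArSing.xMap k _ (Q n z)) = 0
      rw [map_sub, Q_xMap, sub_self]
    rw [ker_Q, Ideal.mem_span_singleton, ← huu] at this
    exact this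
  have hC : PowerSeries.C (2 : k)⁻¹ * 2 = (1 : PowerSeries k) := by
    have : (2 : PowerSeries k) = PowerSeries.C (2 : k) := (map_ofNat PowerSeries.C 2).symm
    rw [this, ← map_mul, inv_mul_cancel₀ h2, map_one]
  -- description of `N` and `N ∘ θ`-type involutions
  have hNform : ∀ φ' : ArSing.ring k (2 * n + 1) ≃ₐ[k] ArSing.ring k (2 * n + 1),
      (∀ z, P n (φ'.symm (σ (φ' z))) = N (P n z)) →
      (∀ z, Q n (φ'.symm (σ (φ' z))) = N (Q n z)) →
      ((φ'.symm (σ (φ' (ArSing.x k (2 * n + 1)))) = -ArSing.x k (2 * n + 1) ∧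
        φ'.symm (σ (φ' (ArSing.y k (2 * n + 1)))) = ArSing.y k (2 * n + 1)) ∨
      (φ'.symm (σ (φ' (ArSing.x k (2 * n + 1)))) = -ArSing.x k (2 * n + 1) ∧
        φ'.symm (σ (φ' (ArSing.y k (2 * n + 1)))) = -ArSing.y k (2 * n + 1))) := by
    intro φ' hP hQ
    have hx : φ'.symm (σ (φ' (ArSing.x k (2 * n + 1)))) = -ArSing.x k (2 * n + 1) := by
      apply PQ_injective h2 n
      · rw [hP, map_neg, P_x, N_X]
      · rw [hQ, map_neg, Q_x, N_X]
    rcases Nat.even_or_odd (n + 1) with he | ho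
    · left
      refine ⟨hx, ?_⟩
      apply PQ_injective h2 n
      · simp only [hP, P_y, Q_y, map_neg, map_pow, N_X, Even.neg_pow he, neg_neg]
      · simp only [hQ, P_y, Q_y, map_neg, map_pow, N_X, Even.neg_pow he, neg_neg]
    · right
      refine ⟨hx, ?_⟩
      apply PQ_injective h2 n
      · simp only [hP, P_y, Q_y, map_neg, map_pow, N_X, Odd.neg_pow ho, neg_neg]
      · simp only [hQ, P_y, Q_y, map_neg, map_pow, N_X, Odd.neg_pow ho, neg_neg]
  have hNθform : ∀ φ' : ArSing.ring k (2 * n + 1) ≃ₐ[k] ArSing.ring k (2 * n + 1),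
      (∀ z, P n (φ'.symm (σ (φ' z))) = N (Q n z)) →
      (∀ z, Q n (φ'.symm (σ (φ' z))) = N (P n z)) →
      ((φ'.symm (σ (φ' (ArSing.x k (2 * n + 1)))) = -ArSing.x k (2 * n + 1) ∧
        φ'.symm (σ (φ' (ArSing.y k (2 * n + 1)))) = ArSing.y k (2 * n + 1)) ∨
      (φ'.symm (σ (φ' (ArSing.x k (2 * n + 1)))) = -ArSing.x k (2 * n + 1) ∧
        φ'.symm (σ (φ' (ArSing.y k (2 * n + 1)))) = -ArSing.y k (2 * n + 1))) := by
    intro φ' hP hQ
    have hx : φ'.symm (σ (φ' (ArSing.x k (2 * n + 1)))) = -ArSing.x k (2 * n + 1) := by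
      apply PQ_injective h2 n
      · rw [hP, map_neg, P_x, Q_x, N_X]
      · rw [hQ, map_neg, Q_x, P_x, N_X]
    rcases Nat.even_or_odd (n + 1) with he | ho
    · right
      refine ⟨hx, ?_⟩
      apply PQ_injective h2 n
      · simp only [hP, P_y, Q_y, map_neg, map_pow, N_X, Even.neg_pow he, neg_neg]
      · simp only [hQ, P_y, Q_y, map_neg, map_pow, N_X, Even.neg_pow he, neg_neg]
    · left
      refine ⟨hx, ?_⟩
      apply PQ_injective h2 n
      · simp only [hP, P_y, Q_y, map_neg, map_pow, N_X, Odd.neg_pow ho, neg_neg]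
      · simp only [hQ, P_y, Q_y, map_neg, map_pow, N_X, Odd.neg_pow ho, neg_neg]
  by_cases hcase : P n (σ vv) = 0
  · -- branch-preserving
    have hQu : Q n (σ uu) = 0 := by
      rcases mul_eq_zero.1 hQuv with h | h
      · exact h
      · exact absurd ⟨hcase, h⟩ (hnz _ hv_ne)
    have hPσ : ∀ z, P n (σ z) = P n (σ (ArSing.xMap k _ (P n z))) := by
      intro z
      obtain ⟨w, hw⟩ := hmemP z
      have : P n (σ (z - ArSing.xMap k _ (P n z))) = 0 := by
        rw [hw, map_mul, map_mul, hcase, zero_mul]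
      rw [map_sub, map_sub, sub_eq_zero] at this
      exact this
    have hQσ : ∀ z, Q n (σ z) = Q n (σ (ArSing.xMap k _ (Q n z))) := by
      intro z
      obtain ⟨w, hw⟩ := hmemQ z
      have : Q n (σ (z - ArSing.xMap k _ (Q n z))) = 0 := by
        rw [hw, map_mul, map_mul, hQu, zero_mul]
      rw [map_sub, map_sub, sub_eq_zero] at this
      exact this
    let α : PowerSeries k →ₐ[k] PowerSeries k :=
      ((P n).comp (σ : ArSing.ring k (2 * n + 1) →ₐ[k] ArSing.ring k (2 * n + 1))).comp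
        (ArSing.xMap k _)
    let β : PowerSeries k →ₐ[k] PowerSeries k :=
      ((Q n).comp (σ : ArSing.ring k (2 * n + 1) →ₐ[k] ArSing.ring k (2 * n + 1))).comp
        (ArSing.xMap k _)
    have hα : ∀ z, α (P n z) = P n (σ z) := fun z => (hPσ z).symm
    have hβ : ∀ z, β (Q n z) = Q n (σ z) := fun z => (hQσ z).symm
    have hαα : ∀ f, α (α f) = f := by
      intro f
      have h1 : α f = P n (σ (ArSing.xMap k _ f)) := rfl
      rw [h1, hα, hσ, P_xMap]
    have hββ : ∀ f, β (β f) = f := by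
      intro f
      have h1 : β f = Q n (σ (ArSing.xMap k _ f)) := rfl
      rw [h1, hβ, hσ, Q_xMap]
    have hαβX : (PowerSeries.X : PowerSeries k) ^ (n + 1) ∣ α PowerSeries.X - β PowerSeries.X := by
      have := dvd_P_sub_Q n (σ (ArSing.x k (2 * n + 1)))
      rwa [← hα, ← hβ, P_x, Q_x] at this
    let α' : PowerSeries k ≃ₐ[k] PowerSeries k :=
      AlgEquiv.ofAlgHom α α (AlgHom.ext hαα) (AlgHom.ext hαα)
    let β' : PowerSeries k ≃ₐ[k] PowerSeries k :=
      AlgEquiv.ofAlgHom β β (AlgHom.ext hββ) (AlgHom.ext hββ)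
    obtain ⟨hξ₁, ψ₁, hψ₁X, hψ₁⟩ := Groth.Agent.S14080.result k h2 α' hαα
    obtain ⟨hξ₂, ψ₂, hψ₂X, hψ₂⟩ := Groth.Agent.S14080.result k h2 β' hββ
    have hα'f : ∀ f, α' f = α f := fun f => rfl
    have hβ'f : ∀ f, β' f = β f := fun f => rfl
    simp only [hα'f] at hξ₁ hψ₁X hψ₁
    simp only [hβ'f] at hξ₂ hψ₂X hψ₂
    have hξeq : PowerSeries.coeff 1 (β PowerSeries.X) = PowerSeries.coeff 1 (α PowerSeries.X) := by
      have := (PowerSeries.X_pow_dvd_iff.1 hαβX) 1 (by omega)
      rw [map_sub, sub_eq_zero] at this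
      exact this.symm
    rw [hξeq] at hξ₂ hψ₂X hψ₂
    obtain ⟨ξ, hξdef⟩ : ∃ ξ, ξ = PowerSeries.coeff 1 (α PowerSeries.X) := ⟨_, rfl⟩
    rw [← hξdef] at hξ₁ hψ₁X hψ₁ hψ₂X hψ₂
    have hψX : (PowerSeries.X : PowerSeries k) ^ (n + 1) ∣ ψ₁ PowerSeries.X - ψ₂ PowerSeries.X := by
      rw [hψ₁X, hψ₂X]
      have : PowerSeries.C (2 : k)⁻¹ * (PowerSeries.X + PowerSeries.C ξ * α PowerSeries.X) -
          PowerSeries.C (2 : k)⁻¹ * (PowerSeries.X + PowerSeries.C ξ * β PowerSeries.X) =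
          (α PowerSeries.X - β PowerSeries.X) * (PowerSeries.C (2 : k)⁻¹ * PowerSeries.C ξ) := by
        ring
      rw [this]
      exact Dvd.dvd.mul_right hαβX _
    have hψc := algHom_congr (n + 1) (ψ₁ : PowerSeries k →ₐ[k] PowerSeries k)
      (ψ₂ : PowerSeries k →ₐ[k] PowerSeries k) hψX
    let φ := branchEquiv h2 n ψ₁ ψ₂ hψc
    have hPφ : ∀ z, P n (φ.symm (σ (φ z))) = PowerSeries.rescale ξ (P n z) := by
      intro z
      rw [P_branchEquiv_symm, ← hα, P_branchEquiv]
      exact hψ₁ (P n z)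
    have hQφ : ∀ z, Q n (φ.symm (σ (φ z))) = PowerSeries.rescale ξ (Q n z) := by
      intro z
      rw [Q_branchEquiv_symm, ← hβ, Q_branchEquiv]
      exact hψ₂ (Q n z)
    have h1 : ξ = 1 ∨ ξ = -1 := mul_self_eq_one_iff.1 (by rw [← sq]; exact hξ₁)
    rcases h1 with h1 | h1
    · exfalso
      apply hne
      have hid : ∀ z, φ.symm (σ (φ z)) = z := by
        intro z
        apply PQ_injective h2 n
        · rw [hPφ, h1, PowerSeries.rescale_one]; rfl
        · rw [hQφ, h1, PowerSeries.rescale_one]; rfl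
      ext w
      have := hid (φ.symm w)
      rw [AlgEquiv.apply_symm_apply] at this
      have h4 := congrArg φ this
      rw [AlgEquiv.apply_symm_apply, AlgEquiv.apply_symm_apply] at h4
      exact h4
    · exact ⟨φ, Or.inr (hNform φ (fun z => by rw [hPφ, h1, N_apply])
        (fun z => by rw [hQφ, h1, N_apply]))⟩
  · -- branch-swapping
    have hPu0 : P n (σ uu) = 0 := (mul_eq_zero.1 hPuv).resolve_right hcase
    have hQv0 : Q n (σ vv) = 0 := by
      rcases mul_eq_zero.1 hQuv with h | h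
      · exact absurd ⟨hPu0, h⟩ (hnz _ hu_ne)
      · exact h
    have hPσ : ∀ z, P n (σ z) = P n (σ (ArSing.xMap k _ (Q n z))) := by
      intro z
      obtain ⟨w, hw⟩ := hmemQ z
      have : P n (σ (z - ArSing.xMap k _ (Q n z))) = 0 := by
        rw [hw, map_mul, map_mul, hPu0, zero_mul]
      rw [map_sub, map_sub, sub_eq_zero] at this
      exact this
    have hQσ : ∀ z, Q n (σ z) = Q n (σ (ArSing.xMap k _ (P n z))) := by
      intro z
      obtain ⟨w, hw⟩ := hmemP z
      have : Q n (σ (z - ArSing.xMap k _ (P n z))) = 0 := by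
        rw [hw, map_mul, map_mul, hQv0, zero_mul]
      rw [map_sub, map_sub, sub_eq_zero] at this
      exact this
    let α : PowerSeries k →ₐ[k] PowerSeries k :=
      ((P n).comp (σ : ArSing.ring k (2 * n + 1) →ₐ[k] ArSing.ring k (2 * n + 1))).comp
        (ArSing.xMap k _)
    let β : PowerSeries k →ₐ[k] PowerSeries k :=
      ((Q n).comp (σ : ArSing.ring k (2 * n + 1) →ₐ[k] ArSing.ring k (2 * n + 1))).comp
        (ArSing.xMap k _)
    have hα : ∀ z, α (Q n z) = P n (σ z) := fun z => (hPσ z).symm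
    have hβ : ∀ z, β (P n z) = Q n (σ z) := fun z => (hQσ z).symm
    have hαβ : ∀ f, α (β f) = f := by
      intro f
      have h1 : β f = Q n (σ (ArSing.xMap k _ f)) := rfl
      rw [h1, hα, hσ, P_xMap]
    have hβα : ∀ f, β (α f) = f := by
      intro f
      have h1 : α f = P n (σ (ArSing.xMap k _ f)) := rfl
      rw [h1, hβ, hσ, Q_xMap]
    have hαβX : (PowerSeries.X : PowerSeries k) ^ (n + 1) ∣ α PowerSeries.X - β PowerSeries.X := by
      have := dvd_P_sub_Q n (σ (ArSing.x k (2 * n + 1)))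
      rwa [← hα, ← hβ, P_x, Q_x] at this
    let α' : PowerSeries k ≃ₐ[k] PowerSeries k :=
      AlgEquiv.ofAlgHom α β (AlgHom.ext hαβ) (AlgHom.ext hβα)
    have hα'f : ∀ f, α' f = α f := fun f => rfl
    have hα's : ∀ f, α'.symm f = β f := fun f => rfl
    have hα2 : (PowerSeries.X : PowerSeries k) ^ (n + 1) ∣ α (α PowerSeries.X) - PowerSeries.X := by
      have := algHom_X_pow_dvd α (n + 1) hαβX
      rwa [map_sub, hαβ] at this
    obtain ⟨ξ, hξdef⟩ : ∃ ξ, ξ = PowerSeries.coeff 1 (α PowerSeries.X) := ⟨_, rfl⟩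
    have hξβ : PowerSeries.coeff 1 (β PowerSeries.X) = ξ := by
      have := (PowerSeries.X_pow_dvd_iff.1 hαβX) 1 (by omega)
      rw [map_sub, sub_eq_zero] at this
      rw [hξdef]; exact this.symm
    have hξ2 : ξ * ξ = 1 := by
      have h0 : PowerSeries.constantCoeff (β PowerSeries.X) = 0 :=
        PowerSeries.X_dvd_iff.1 (algHom_X_dvd β)
      have := Groth.Agent.S14080.coeff_one_apply α' (β PowerSeries.X) h0
      rw [hα'f, hα'f, hαβ, PowerSeries.coeff_one_X, hξβ, ← hξdef] at this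
      exact this.symm
    rcases mul_self_eq_one_iff.1 hξ2 with h1 | h1
    · -- `α ≡ id`
      have hαX : (PowerSeries.X : PowerSeries k) ^ (n + 1) ∣ α PowerSeries.X - PowerSeries.X :=
        sub_X_dvd_of_involution_mod h2 (n + 1) α (by rw [← hξdef, h1]) hα2
      have hc := algHom_congr (n + 1) (α' : PowerSeries k →ₐ[k] PowerSeries k)
        ((AlgEquiv.refl : PowerSeries k ≃ₐ[k] PowerSeries k) : PowerSeries k →ₐ[k] PowerSeries k)
        hαX
      let φ := branchEquiv h2 n α' AlgEquiv.refl hc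
      have hθ : ∀ z, φ.symm (σ (φ z)) = θ h2 n z := by
        intro z
        apply PQ_injective h2 n
        · rw [P_branchEquiv_symm, P_θ, ← hα, Q_branchEquiv, hα's]
          exact hβα (Q n z)
        · rw [Q_branchEquiv_symm, Q_θ, ← hβ, P_branchEquiv, hα'f]
          exact hβα (P n z)
      refine ⟨φ, Or.inl ⟨?_, ?_⟩⟩
      · rw [hθ]
        apply PQ_injective h2 n
        · rw [P_θ, Q_x, P_x]
        · rw [Q_θ, Q_x, P_x]
      · rw [hθ]
        apply PQ_injective h2 n
        · rw [P_θ, Q_y, map_neg, P_y]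
        · rw [Q_θ, P_y, map_neg, Q_y, neg_neg]
    · -- `α ≡ N`
      obtain ⟨s₀, hs₀⟩ : ∃ s₀, s₀ = PowerSeries.C (2 : k)⁻¹ *
          (PowerSeries.X - α PowerSeries.X) := ⟨_, rfl⟩
      have hs0 : PowerSeries.constantCoeff s₀ = 0 := by
        rw [hs₀, map_mul, map_sub, PowerSeries.constantCoeff_X,
          PowerSeries.X_dvd_iff.1 (algHom_X_dvd α), sub_zero, mul_zero]
      have hs1 : PowerSeries.coeff 1 s₀ = 1 := by
        rw [hs₀, PowerSeries.coeff_C_mul, map_sub, PowerSeries.coeff_one_X, ← hξdef, h1,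
          sub_neg_eq_add, one_add_one_eq_two, inv_mul_cancel₀ h2]
      let ψ₂ := substEquiv s₀ hs0 (by rw [hs1]; exact isUnit_one)
      have hψ₂X : ψ₂ PowerSeries.X = s₀ := substEquiv_X _ _ _
      let ψ₁ : PowerSeries k ≃ₐ[k] PowerSeries k := (N'.trans ψ₂).trans α'
      have hψ₁f : ∀ f, ψ₁ f = α (ψ₂ (N f)) := fun f => rfl
      have hψ₁s : ∀ f, ψ₁.symm f = N (ψ₂.symm (β f)) := fun f => rfl
      have hψX : (PowerSeries.X : PowerSeries k) ^ (n + 1) ∣
          ψ₁ PowerSeries.X - ψ₂ PowerSeries.X := by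
        rw [hψ₁f, N_X, map_neg, map_neg, hψ₂X, hs₀, map_mul, map_sub]
        have hCα : α (PowerSeries.C (2 : k)⁻¹) = PowerSeries.C (2 : k)⁻¹ := α.commutes _
        rw [hCα]
        have : -(PowerSeries.C (2 : k)⁻¹ * (α PowerSeries.X - α (α PowerSeries.X))) -
            PowerSeries.C (2 : k)⁻¹ * (PowerSeries.X - α PowerSeries.X) =
            (α (α PowerSeries.X) - PowerSeries.X) * PowerSeries.C (2 : k)⁻¹ := by ring
        rw [this]
        exact Dvd.dvd.mul_right hα2 _
      have hψc := algHom_congr (n + 1) (ψ₁ : PowerSeries k →ₐ[k] PowerSeries k)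
        (ψ₂ : PowerSeries k →ₐ[k] PowerSeries k) hψX
      let φ := branchEquiv h2 n ψ₁ ψ₂ hψc
      refine ⟨φ, Or.inr (hNθform φ (fun z => ?_) (fun z => ?_))⟩
      · rw [P_branchEquiv_symm, ← hα, Q_branchEquiv, hψ₁s, hβα, AlgEquiv.symm_apply_apply]
      · rw [Q_branchEquiv_symm, ← hβ, P_branchEquiv, hψ₁f, hβα, AlgEquiv.symm_apply_apply]

end Groth.Agent.Lib.Seat71.ArSingBranch
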