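import Groth.Agent.Lib.Seat71ArSingParity
import Mathlib

set_option linter.style.haveILetI false
set_option linter.unusedSectionVars false

namespace Groth.Agent.Lib.Seat71.ArSingCusp

universe u

open Groth.Agent.Lib.Seat71.ArSingBasic Groth.Agent.Lib.Seat71.ArSingNF
  Groth.Agent.Lib.Seat71.ArSingParity

variable {k : Type u} [Field k]

/-! ### Endomorphisms of `k[[t]]` -/

lemma algHom_X_dvd (g : PowerSeries k →ₐ[k] PowerSeries k) :
    (PowerSeries.X : PowerSeries k) ∣ g PowerSeries.X := by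
  rw [PowerSeries.X_dvd_iff]
  by_contra h
  set c := PowerSeries.constantCoeff (g PowerSeries.X) with hc
  have hu : IsUnit ((PowerSeries.X : PowerSeries k) - PowerSeries.C c) := by
    rw [PowerSeries.isUnit_iff_constantCoeff]
    simp only [map_sub, PowerSeries.constantCoeff_X, PowerSeries.constantCoeff_C, zero_sub]
    exact (isUnit_iff_ne_zero.2 h).neg
  have hu' := hu.map g
  rw [map_sub] at hu'
  have hC : g (PowerSeries.C c) = PowerSeries.C c := g.commutes c
  rw [hC, PowerSeries.isUnit_iff_constantCoeff, map_sub, PowerSeries.constantCoeff_C, ← hc,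
    sub_self] at hu'
  exact not_isUnit_zero hu'

lemma algHom_X_pow_dvd (g : PowerSeries k →ₐ[k] PowerSeries k) (n : ℕ) {f : PowerSeries k}
    (h : (PowerSeries.X : PowerSeries k) ^ n ∣ f) : (PowerSeries.X : PowerSeries k) ^ n ∣ g f := by
  obtain ⟨w, rfl⟩ := h
  rw [map_mul, map_pow]
  exact Dvd.dvd.mul_right (pow_dvd_pow_of_dvd (algHom_X_dvd g) n) _

lemma algHom_constantCoeff (g : PowerSeries k →ₐ[k] PowerSeries k) (f : PowerSeries k) :
    PowerSeries.constantCoeff (g f) = PowerSeries.constantCoeff f := by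
  have h1 : (PowerSeries.X : PowerSeries k) ∣ f - PowerSeries.C (PowerSeries.constantCoeff f) := by
    rw [PowerSeries.X_dvd_iff]; simp
  have h2 := algHom_X_pow_dvd g 1 (f := f - PowerSeries.C (PowerSeries.constantCoeff f))
    (by rw [pow_one]; exact h1)
  rw [pow_one, map_sub, PowerSeries.X_dvd_iff, map_sub] at h2
  have hC : g (PowerSeries.C (PowerSeries.constantCoeff f)) =
      PowerSeries.C (PowerSeries.constantCoeff f) := g.commutes _
  rw [hC, PowerSeries.constantCoeff_C, sub_eq_zero] at h2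
  exact h2

/-- An endomorphism of `k[[t]]` maps into a subalgebra containing a power of the maximal ideal as
soon as it maps `t` there. -/
theorem algHom_mem_of_X_mem (S : Subalgebra k (PowerSeries k)) (n : ℕ)
    (hS : ∀ f : PowerSeries k, (PowerSeries.X : PowerSeries k) ^ n ∣ f → f ∈ S)
    (g : PowerSeries k →ₐ[k] PowerSeries k) (hg : g PowerSeries.X ∈ S) (a : PowerSeries k) :
    g a ∈ S := by
  have hpoly : ∀ p : Polynomial k, g (p : PowerSeries k) ∈ S := by
    intro p
    have h1 : g.comp (Polynomial.coeToPowerSeries.algHom k) =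
        Polynomial.aeval (g PowerSeries.X) := by
      apply Polynomial.algHom_ext
      simp [Polynomial.coeToPowerSeries.algHom_apply]
    have h2 : g (p : PowerSeries k) = Polynomial.aeval (g PowerSeries.X) p := by
      have := DFunLike.congr_fun h1 p
      simpa [Polynomial.coeToPowerSeries.algHom_apply] using this
    rw [h2, Polynomial.aeval_eq_sum_range]
    exact Subalgebra.sum_mem _ fun i _ => S.smul_mem (S.pow_mem hg i) _
  rw [PowerSeries.eq_X_pow_mul_shift_add_trunc n a, map_add]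
  exact S.add_mem (hS _ (algHom_X_pow_dvd g n (Dvd.intro _ rfl))) (hpoly _)

/-! ### The parametrization `x ↦ t^2`, `y ↦ t^(r+1)` -/

/-- The parametrization of `A_r`. -/
noncomputable def ν (r : ℕ) : ArSing.ring k r →ₐ[k] PowerSeries k where
  toFun z := E (co0 r z) + PowerSeries.X ^ (r + 1) * E (co1 r z)
  map_one' := by rw [one_eq_Φ, co0_Φ, co1_Φ]; simp
  map_mul' z w := by
    obtain ⟨a, b, rfl⟩ := Φ_surj r z
    obtain ⟨c, d, rfl⟩ := Φ_surj r w
    rw [Φ_mul]
    simp only [co0_Φ, co1_Φ, map_add, map_mul, map_pow, E_X]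
    ring
  map_zero' := by rw [← Φ_zero r, co0_Φ, co1_Φ]; simp
  map_add' z w := by
    obtain ⟨a, b, rfl⟩ := Φ_surj r z
    obtain ⟨c, d, rfl⟩ := Φ_surj r w
    rw [Φ_add]
    simp only [co0_Φ, co1_Φ, map_add]
    ring
  commutes' s := by
    rw [algebraMap_eq_Φ, co0_Φ, co1_Φ]
    have : (PowerSeries.C s : PowerSeries k) = algebraMap k (PowerSeries k) s := rfl
    rw [this, AlgHom.commutes]
    simp

lemma ν_Φ (r : ℕ) (a b : PowerSeries k) :
    ν r (Φ r a b) = E a + PowerSeries.X ^ (r + 1) * E b := by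
  show E (co0 r (Φ r a b)) + PowerSeries.X ^ (r + 1) * E (co1 r (Φ r a b)) = _
  rw [co0_Φ, co1_Φ]

@[simp] lemma ν_x (r : ℕ) : ν r (ArSing.x k r) = PowerSeries.X ^ 2 := by
  rw [x_eq_Φ, ν_Φ, E_X]; simp

@[simp] lemma ν_y (r : ℕ) : ν r (ArSing.y k r) = PowerSeries.X ^ (r + 1) := by
  rw [y_eq_Φ, ν_Φ]; simp

lemma ν_Φ_even (s : ℕ) (a b : PowerSeries k) :
    ν (2 * s) (Φ (2 * s) a b) = E a + PowerSeries.X * E (PowerSeries.X ^ s * b) := by
  rw [ν_Φ, map_mul, map_pow, E_X]
  ring

lemma ν_injective (s : ℕ) : Function.Injective (ν (k := k) (2 * s)) := by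
  rw [injective_iff_map_eq_zero]
  intro z hz
  obtain ⟨a, b, rfl⟩ := Φ_surj (2 * s) z
  rw [ν_Φ_even] at hz
  have h1 : a = 0 := by rw [← ev_E_add a (PowerSeries.X ^ s * b), hz]; ext; simp [ev]
  have h2 : PowerSeries.X ^ s * b = 0 := by
    rw [← od_E_add a (PowerSeries.X ^ s * b), hz]; ext; simp [od]
  have h3 : b = 0 := (mul_eq_zero.1 h2).resolve_left (pow_ne_zero _ PowerSeries.X_ne_zero)
  rw [h1, h3, Φ_zero]

theorem mem_range_ν_iff (s : ℕ) (f : PowerSeries k) :
    f ∈ (ν (k := k) (2 * s)).range ↔ (PowerSeries.X : PowerSeries k) ^ s ∣ od f := by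
  constructor
  · rintro ⟨z, rfl⟩
    obtain ⟨a, b, rfl⟩ := Φ_surj (2 * s) z
    show (PowerSeries.X : PowerSeries k) ^ s ∣ od (ν (2 * s) (Φ (2 * s) a b))
    rw [ν_Φ_even, od_E_add]
    exact Dvd.intro _ rfl
  · rintro ⟨b, hb⟩
    refine ⟨Φ (2 * s) (ev f) b, ?_⟩
    show ν (2 * s) (Φ (2 * s) (ev f) b) = f
    rw [ν_Φ_even, ← hb, ← parity_decomp]

lemma mem_range_ν_of_X_pow_dvd (s : ℕ) (f : PowerSeries k)
    (h : (PowerSeries.X : PowerSeries k) ^ (2 * s) ∣ f) : f ∈ (ν (k := k) (2 * s)).range := by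
  rw [mem_range_ν_iff]
  obtain ⟨g, rfl⟩ := h
  have h1 : (PowerSeries.X : PowerSeries k) ^ (2 * s) * g =
      E (PowerSeries.X ^ s * ev g) + PowerSeries.X * E (PowerSeries.X ^ s * od g) := by
    conv_lhs => rw [parity_decomp g]
    rw [map_mul, map_mul, map_pow, E_X]
    ring
  rw [h1, od_E_add]
  exact Dvd.intro _ rfl

/-- Lifting a map into `k[[t]]` with values in the image of `ν`. -/
noncomputable def liftν (s : ℕ) {B : Type*} [CommRing B] [Algebra k B]
    (g : B →ₐ[k] PowerSeries k) (hg : ∀ z, g z ∈ (ν (k := k) (2 * s)).range) :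
    B →ₐ[k] ArSing.ring k (2 * s) :=
  have hν : ∀ z, ν (2 * s) ((hg z).choose) = g z := fun z => (hg z).choose_spec
  { toFun := fun z => (hg z).choose
    map_one' := ν_injective s (by rw [hν, map_one, map_one])
    map_mul' := fun z w => ν_injective s (by rw [hν, map_mul, map_mul, hν, hν])
    map_zero' := ν_injective s (by rw [hν, map_zero, map_zero])
    map_add' := fun z w => ν_injective s (by rw [hν, map_add, map_add, hν, hν])
    commutes' := fun c => ν_injective s (by rw [hν, AlgHom.commutes, AlgHom.commutes]) }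

@[simp] lemma ν_liftν (s : ℕ) {B : Type*} [CommRing B] [Algebra k B]
    (g : B →ₐ[k] PowerSeries k) (hg : ∀ z, g z ∈ (ν (k := k) (2 * s)).range) (z : B) :
    ν (2 * s) (liftν s g hg z) = g z :=
  (hg z).choose_spec

end Groth.Agent.Lib.Seat71.ArSingCusp
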