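import Groth.Agent.Lib.Seat71ArSingCusp
import Mathlib

set_option linter.style.haveILetI false
set_option linter.unusedSectionVars false

namespace Groth.Agent.Lib.Seat71.ArSingCusp

universe u

open Groth.Agent.Lib.Seat71.ArSingBasic Groth.Agent.Lib.Seat71.ArSingNF
  Groth.Agent.Lib.Seat71.ArSingParity

variable {k : Type u} [Field k]

lemma mem_span_x_y_iff_not_isUnit (r : ℕ) (z : ArSing.ring k r) :
    z ∈ Ideal.span {ArSing.x k r, ArSing.y k r} ↔ ¬ IsUnit z := by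
  constructor
  · intro hz hu
    exact span_x_y_ne_top r (Ideal.eq_top_of_isUnit_mem _ hz hu)
  · intro hu
    obtain ⟨a, b, rfl⟩ := Φ_surj r z
    by_cases ha : PowerSeries.constantCoeff a = 0
    · exact mem_span_x_y_of_constantCoeff r b ha
    · exact absurd (isUnit_Φ r b ha) hu

lemma algEquiv_mem_span_x_y (r : ℕ) (σ : ArSing.ring k r ≃ₐ[k] ArSing.ring k r)
    {z : ArSing.ring k r} (hz : z ∈ Ideal.span {ArSing.x k r, ArSing.y k r}) :
    σ z ∈ Ideal.span {ArSing.x k r, ArSing.y k r} := by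
  rw [mem_span_x_y_iff_not_isUnit] at hz ⊢
  intro hu
  apply hz
  have := hu.map σ.symm
  simpa using this

/-- The maximal ideal of `A_r` maps into `t^2 k[[t]]` (for `r ≥ 1`) -/
lemma ν_mem_span (r : ℕ) {z : ArSing.ring k r}
    (hz : z ∈ Ideal.span {ArSing.x k r, ArSing.y k r}) :
    ∃ c d : PowerSeries k, ν r z = c * PowerSeries.X ^ 2 + d * PowerSeries.X ^ (r + 1) := by
  rw [Ideal.mem_span_pair] at hz
  obtain ⟨a, b, rfl⟩ := hz
  exact ⟨ν r a, ν r b, by rw [map_add, map_mul, map_mul, ν_x, ν_y]⟩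

/-- Key step: the images of `x`, `y` under an involution have a common "root" in `k[[t]]`. -/
theorem exists_root (r s : ℕ) (hr : r = 2 * s) (σ : ArSing.ring k r ≃ₐ[k] ArSing.ring k r)
    (hσ : ∀ a, σ (σ a) = a) :
    ∃ τ : PowerSeries k, PowerSeries.constantCoeff τ = 0 ∧
      τ ^ 2 = ν r (σ (ArSing.x k r)) ∧
      τ ^ (r + 1) = ν r (σ (ArSing.y k r)) := by
  obtain ⟨p, hp⟩ : ∃ p, p = ν r (σ (ArSing.x k r)) := ⟨_, rfl⟩
  obtain ⟨q, hq⟩ : ∃ q, q = ν r (σ (ArSing.y k r)) := ⟨_, rfl⟩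
  rw [← hp, ← hq]
  have hrel : q ^ 2 = p ^ (r + 1) := by
    have := congrArg (fun z => ν r (σ z)) (y_sq (k := k) r)
    simp only [map_pow] at this
    rw [hq, hp]
    exact this
  have hxm : ArSing.x k r ∈ Ideal.span {ArSing.x k r, ArSing.y k r} :=
    Ideal.subset_span (by simp)
  have hym : ArSing.y k r ∈ Ideal.span {ArSing.x k r, ArSing.y k r} :=
    Ideal.subset_span (by simp)
  obtain ⟨c₁, d₁, hp'⟩ := ν_mem_span r (algEquiv_mem_span_x_y r σ hxm)
  obtain ⟨c₂, d₂, hq'⟩ := ν_mem_span r (algEquiv_mem_span_x_y r σ hym)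
  rw [← hp] at hp'
  rw [← hq] at hq'
  rcases Nat.eq_zero_or_pos s with hs | hs
  · -- `r = 0`
    have hr0 : r = 0 := by omega
    refine ⟨q, ?_, ?_, ?_⟩
    · rw [hq', hr0]
      simp
    · rw [hrel, hr0]
      simp
    · rw [hr0]
      simp
  · -- `r ≥ 2`
    have hr2 : r + 1 = (r - 1) + 2 := by omega
    obtain ⟨w₁, hw₁⟩ : (PowerSeries.X : PowerSeries k) ^ 2 ∣ p := by
      rw [hp', hr2, pow_add]
      exact ⟨c₁ + d₁ * PowerSeries.X ^ (r - 1), by ring⟩
    have hq2 : ((PowerSeries.X : PowerSeries k) ^ (r + 1)) ^ 2 ∣ q ^ 2 := by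
      rw [hrel, hw₁, mul_pow, ← pow_mul, ← pow_mul, mul_comm 2 (r + 1)]
      exact Dvd.intro _ rfl
    obtain ⟨w₂, hw₂⟩ := (IsIntegrallyClosed.pow_dvd_pow_iff (two_ne_zero)).1 hq2
    have hXne : (PowerSeries.X : PowerSeries k) ^ (2 * (r + 1)) ≠ 0 :=
      pow_ne_zero _ PowerSeries.X_ne_zero
    have hw : w₂ ^ 2 = w₁ ^ (r + 1) := by
      apply mul_left_cancel₀ hXne
      have : (PowerSeries.X : PowerSeries k) ^ (2 * (r + 1)) * w₂ ^ 2 = q ^ 2 := by
        rw [hw₂]; ring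
      rw [this, hrel, hw₁]
      ring
    -- `w₁` is a unit
    have hunit : PowerSeries.constantCoeff w₁ ≠ 0 := by
      obtain ⟨α₁, α₂, hα⟩ := Ideal.mem_span_pair.1 (algEquiv_mem_span_x_y r σ hxm)
      have h1 : ArSing.x k r = σ α₁ * σ (ArSing.x k r) + σ α₂ * σ (ArSing.y k r) := by
        rw [← map_mul, ← map_mul, ← map_add, hα, hσ]
      have h3 := congrArg (ν r) h1
      rw [ν_x, map_add, map_mul, map_mul, ← hp, ← hq, hw₁, hw₂, hr2, pow_add] at h3
      have h4 : (PowerSeries.X : PowerSeries k) ^ 2 * 1 = PowerSeries.X ^ 2 *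
          (ν r (σ α₁) * w₁ + ν r (σ α₂) * PowerSeries.X ^ (r - 1) * w₂) := by
        linear_combination h3
      have h5 := mul_left_cancel₀ (pow_ne_zero 2 PowerSeries.X_ne_zero) h4
      have h6 := congrArg PowerSeries.constantCoeff h5
      intro h0
      have hr1 : r - 1 ≠ 0 := by omega
      simp [h0, hr1] at h6
    have hinv : w₁ * w₁⁻¹ = 1 := PowerSeries.mul_inv_cancel w₁ hunit
    refine ⟨PowerSeries.X * w₂ * (w₁⁻¹) ^ s, by simp, ?_, ?_⟩
    · have h1 : (PowerSeries.X * w₂ * (w₁⁻¹) ^ s) ^ 2 =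
          PowerSeries.X ^ 2 * w₂ ^ 2 * (w₁⁻¹) ^ r := by
        rw [hr]; ring
      have h2 : w₁ ^ (r + 1) * (w₁⁻¹) ^ r = w₁ := by
        rw [pow_succ, mul_comm _ w₁, mul_assoc, ← mul_pow, hinv, one_pow, mul_one]
      rw [h1, hw, hw₁, mul_assoc, h2]
    · have h1 : (PowerSeries.X * w₂ * (w₁⁻¹) ^ s) ^ (r + 1) =
          PowerSeries.X ^ (r + 1) * w₂ * ((w₂ ^ 2) ^ s * (w₁⁻¹) ^ (s * (r + 1))) := by
        rw [hr]; ring
      have h2 : (w₂ ^ 2) ^ s * (w₁⁻¹) ^ (s * (r + 1)) = 1 := by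
        rw [hw, ← pow_mul, mul_comm (r + 1) s, ← mul_pow, hinv, one_pow]
      rw [h1, h2, mul_one, hw₂]

/-- Extension of an involution of the cusp `A_{2s}` to its normalization `k[[t]]`. -/
theorem exists_extension (s : ℕ) (σ : ArSing.ring k (2 * s) ≃ₐ[k] ArSing.ring k (2 * s))
    (hσ : ∀ a, σ (σ a) = a) :
    ∃ τ : PowerSeries k →ₐ[k] PowerSeries k, ∀ z, τ (ν (2 * s) z) = ν (2 * s) (σ z) := by
  obtain ⟨t, ht0, ht2, htr⟩ := exists_root (2 * s) s rfl σ hσ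
  have hS : PowerSeries.HasSubst t := PowerSeries.HasSubst.of_constantCoeff_zero' ht0
  refine ⟨PowerSeries.substAlgHom hS, ?_⟩
  have hX : PowerSeries.substAlgHom hS (PowerSeries.X : PowerSeries k) = t :=
    PowerSeries.substAlgHom_X hS
  have : (PowerSeries.substAlgHom hS).comp (ν (2 * s)) =
      (ν (2 * s)).comp (σ : ArSing.ring k (2 * s) →ₐ[k] ArSing.ring k (2 * s)) := by
    apply ring_algHom_ext (Ideal.span {(PowerSeries.X : PowerSeries k)})
      powerSeries_iInf_span_X_pow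
    · show PowerSeries.substAlgHom hS (ν (2 * s) (ArSing.x k (2 * s))) = ν (2 * s) (σ _)
      rw [ν_x, map_pow, hX, ht2]
    · show PowerSeries.substAlgHom hS (ν (2 * s) (ArSing.y k (2 * s))) = ν (2 * s) (σ _)
      rw [ν_y, map_pow, hX, htr]
    · show PowerSeries.substAlgHom hS (ν (2 * s) (ArSing.x k (2 * s))) ∈ _
      rw [ν_x, map_pow, hX, Ideal.mem_span_singleton]
      exact Dvd.dvd.pow (PowerSeries.X_dvd_iff.2 ht0) two_ne_zero
  exact fun z => DFunLike.congr_fun this z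

end Groth.Agent.Lib.Seat71.ArSingCusp
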