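import Groth.Agent.Lib.Seat71ArSingParity
import Mathlib

set_option linter.style.haveILetI false
set_option linter.unusedSectionVars false

namespace Groth.Agent.Lib.Seat71.ArSingSwap

universe u

open Groth.Agent.Lib.Seat71.ArSingBasic Groth.Agent.Lib.Seat71.ArSingNF
  Groth.Agent.Lib.Seat71.ArSingParity

variable {k : Type u} [Field k]

/-- The branch `y = x` of the node `y^2 = x^2`: `a(x) + b(x) y ↦ a(t) + t b(t)`. -/
noncomputable def P : ArSing.ring k 1 →ₐ[k] PowerSeries k where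
  toFun z := co0 1 z + PowerSeries.X * co1 1 z
  map_one' := by rw [one_eq_Φ, co0_Φ, co1_Φ]; simp
  map_mul' z w := by
    obtain ⟨a, b, rfl⟩ := Φ_surj 1 z
    obtain ⟨c, d, rfl⟩ := Φ_surj 1 w
    rw [Φ_mul]
    simp only [co0_Φ, co1_Φ]
    ring
  map_zero' := by rw [← Φ_zero 1, co0_Φ, co1_Φ]; simp
  map_add' z w := by
    obtain ⟨a, b, rfl⟩ := Φ_surj 1 z
    obtain ⟨c, d, rfl⟩ := Φ_surj 1 w
    rw [Φ_add]
    simp only [co0_Φ, co1_Φ]
    ring
  commutes' s := by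
    rw [algebraMap_eq_Φ, co0_Φ, co1_Φ]
    simp

/-- The branch `y = -x` of the node `y^2 = x^2`: `a(x) + b(x) y ↦ a(t) - t b(t)`. -/
noncomputable def Q : ArSing.ring k 1 →ₐ[k] PowerSeries k where
  toFun z := co0 1 z - PowerSeries.X * co1 1 z
  map_one' := by rw [one_eq_Φ, co0_Φ, co1_Φ]; simp
  map_mul' z w := by
    obtain ⟨a, b, rfl⟩ := Φ_surj 1 z
    obtain ⟨c, d, rfl⟩ := Φ_surj 1 w
    rw [Φ_mul]
    simp only [co0_Φ, co1_Φ]
    ring
  map_zero' := by rw [← Φ_zero 1, co0_Φ, co1_Φ]; simp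
  map_add' z w := by
    obtain ⟨a, b, rfl⟩ := Φ_surj 1 z
    obtain ⟨c, d, rfl⟩ := Φ_surj 1 w
    rw [Φ_add]
    simp only [co0_Φ, co1_Φ]
    ring
  commutes' s := by
    rw [algebraMap_eq_Φ, co0_Φ, co1_Φ]
    simp

@[simp] lemma P_Φ (a b : PowerSeries k) : P (Φ 1 a b) = a + PowerSeries.X * b := by
  show co0 1 (Φ 1 a b) + PowerSeries.X * co1 1 (Φ 1 a b) = _
  rw [co0_Φ, co1_Φ]

@[simp] lemma Q_Φ (a b : PowerSeries k) : Q (Φ 1 a b) = a - PowerSeries.X * b := by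
  show co0 1 (Φ 1 a b) - PowerSeries.X * co1 1 (Φ 1 a b) = _
  rw [co0_Φ, co1_Φ]

@[simp] lemma P_x : P (ArSing.x k 1) = PowerSeries.X := by rw [x_eq_Φ, P_Φ]; simp
@[simp] lemma P_y : P (ArSing.y k 1) = PowerSeries.X := by rw [y_eq_Φ, P_Φ]; simp
@[simp] lemma Q_x : Q (ArSing.x k 1) = PowerSeries.X := by rw [x_eq_Φ, Q_Φ]; simp
@[simp] lemma Q_y : Q (ArSing.y k 1) = -PowerSeries.X := by rw [y_eq_Φ, Q_Φ]; simp

lemma ps_two_mul_eq_zero (h2 : (2 : k) ≠ 0) {a : PowerSeries k} (h : 2 * a = 0) : a = 0 := by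
  ext i
  have := congrArg (PowerSeries.coeff i) h
  have e : (2 : PowerSeries k) = PowerSeries.C (2 : k) := (map_ofNat PowerSeries.C 2).symm
  rw [map_zero, e, PowerSeries.coeff_C_mul] at this
  simpa [h2] using this

lemma ps_two_mul_cancel (h2 : (2 : k) ≠ 0) {a b : PowerSeries k} (h : 2 * a = 2 * b) : a = b := by
  have : 2 * (a - b) = 0 := by rw [mul_sub, h, sub_self]
  exact sub_eq_zero.1 (ps_two_mul_eq_zero h2 this)

/-- `(P, Q)` is jointly injective. -/
theorem PQ_injective (h2 : (2 : k) ≠ 0) {z w : ArSing.ring k 1} (hP : P z = P w) (hQ : Q z = Q w) :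
    z = w := by
  obtain ⟨a, b, rfl⟩ := Φ_surj 1 z
  obtain ⟨c, d, rfl⟩ := Φ_surj 1 w
  rw [P_Φ, P_Φ] at hP
  rw [Q_Φ, Q_Φ] at hQ
  have e1 : a = c := ps_two_mul_cancel h2 (by linear_combination hP + hQ)
  have e2 : PowerSeries.X * b = PowerSeries.X * d :=
    ps_two_mul_cancel h2 (by linear_combination hP - hQ)
  rw [e1, mul_left_cancel₀ PowerSeries.X_ne_zero e2]

/-- The image of `(P, Q)`. -/
theorem exists_PQ (h2 : (2 : k) ≠ 0) (p q : PowerSeries k)
    (h : PowerSeries.constantCoeff p = PowerSeries.constantCoeff q) :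
    ∃ z : ArSing.ring k 1, P z = p ∧ Q z = q := by
  have h0 : PowerSeries.constantCoeff (p - q) = 0 := by rw [map_sub, h, sub_self]
  obtain ⟨w, hw⟩ := PowerSeries.X_dvd_iff.2 h0
  have hC : PowerSeries.C (2 : k)⁻¹ * 2 = (1 : PowerSeries k) := by
    have : (2 : PowerSeries k) = PowerSeries.C (2 : k) := (map_ofNat PowerSeries.C 2).symm
    rw [this, ← map_mul, inv_mul_cancel₀ h2, map_one]
  refine ⟨Φ 1 (PowerSeries.C (2 : k)⁻¹ * (p + q)) (PowerSeries.C (2 : k)⁻¹ * w), ?_, ?_⟩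
  · rw [P_Φ]
    linear_combination (p) * hC - (PowerSeries.C (2 : k)⁻¹) * hw
  · rw [Q_Φ]
    linear_combination (q) * hC + (PowerSeries.C (2 : k)⁻¹) * hw

/-- The kernel of `P` is the branch ideal `(y - x)`. -/
theorem ker_P : RingHom.ker (P : ArSing.ring k 1 →ₐ[k] PowerSeries k) =
    Ideal.span {ArSing.y k 1 - ArSing.x k 1} := by
  apply le_antisymm
  · intro z hz
    rw [RingHom.mem_ker] at hz
    obtain ⟨a, b, rfl⟩ := Φ_surj 1 z
    change P (Φ 1 a b) = 0 at hz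
    rw [P_Φ] at hz
    rw [Ideal.mem_span_singleton]
    refine ⟨ArSing.xMap k 1 b, ?_⟩
    have ha : a = -(PowerSeries.X * b) := by linear_combination hz
    unfold Φ
    rw [ha, map_neg, map_mul, xMap_X]
    ring
  · rw [Ideal.span_singleton_le_iff_mem, RingHom.mem_ker]
    change P (ArSing.y k 1 - ArSing.x k 1) = 0
    rw [map_sub, P_x, P_y, sub_self]

lemma u_mul_v : (ArSing.x k 1 + ArSing.y k 1) * (ArSing.y k 1 - ArSing.x k 1) = 0 := by
  have := y_sq (k := k) 1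
  linear_combination this

lemma P_u : P (ArSing.x k 1 + ArSing.y k 1) = 2 * PowerSeries.X := by
  rw [map_add, P_x, P_y]; ring

lemma Q_v : Q (ArSing.y k 1 - ArSing.x k 1) = -2 * PowerSeries.X := by
  rw [map_sub, Q_x, Q_y]; ring

lemma Q_u : Q (ArSing.x k 1 + ArSing.y k 1) = 0 := by
  rw [map_add, Q_x, Q_y]; ring

lemma P_v : P (ArSing.y k 1 - ArSing.x k 1) = 0 := by
  rw [map_sub, P_x, P_y, sub_self]

lemma two_X_ne_zero (h2 : (2 : k) ≠ 0) : (2 : PowerSeries k) * PowerSeries.X ≠ 0 := by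
  intro h
  exact PowerSeries.X_ne_zero (ps_two_mul_eq_zero h2 h)

/-- `a(t) ↦ a(-2 t^2)` -/
noncomputable def Sc : PowerSeries k →ₐ[k] PowerSeries k :=
  E.comp (PowerSeries.rescaleAlgHom (-2))

lemma Sc_apply (a : PowerSeries k) : Sc a = E (PowerSeries.rescale (-2) a) := by
  show E (PowerSeries.rescaleAlgHom (-2) a) = _
  congr 1
  exact RingHom.congr_fun (PowerSeries.coe_rescaleAlgHom (-2 : k)) a

lemma Sc_X : Sc (PowerSeries.X : PowerSeries k) = -2 * PowerSeries.X ^ 2 := by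
  rw [Sc_apply, PowerSeries.rescale_X, map_mul, E_X]
  have : (PowerSeries.C (-2 : k) : PowerSeries k) = algebraMap k (PowerSeries k) (-2) := rfl
  rw [this, AlgHom.commutes, map_neg, map_ofNat]

lemma Sc_injective (h2 : (2 : k) ≠ 0) : Function.Injective (Sc : PowerSeries k → PowerSeries k) := by
  intro a b h
  rw [Sc_apply, Sc_apply] at h
  have h1 := E_injective h
  ext n
  have := congrArg (PowerSeries.coeff n) h1
  rw [PowerSeries.coeff_rescale, PowerSeries.coeff_rescale] at this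
  have h3 : ((-2 : k)) ^ n ≠ 0 := pow_ne_zero _ (neg_ne_zero.2 h2)
  exact mul_left_cancel₀ h3 this

lemma Sc_rescale_inv (h2 : (2 : k) ≠ 0) (a : PowerSeries k) :
    Sc (PowerSeries.rescale ((-2 : k)⁻¹) a) = E a := by
  rw [Sc_apply, PowerSeries.rescale_rescale, inv_mul_cancel₀ (neg_ne_zero.2 h2),
    PowerSeries.rescale_one]
  rfl

lemma N_Sc (a : PowerSeries k) : N (Sc a) = Sc a := by
  rw [Sc_apply, N_E]

/-- Algebra maps from the node `A_1` to `k[[t]]` are determined by the images of the branch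
coordinates `u = x + y`, `v = y - x` (when these have no constant term). -/
theorem algHom_ext_uv (h2 : (2 : k) ≠ 0) (g₁ g₂ : ArSing.ring k 1 →ₐ[k] PowerSeries k)
    (hu : g₁ (ArSing.x k 1 + ArSing.y k 1) = g₂ (ArSing.x k 1 + ArSing.y k 1))
    (hv : g₁ (ArSing.y k 1 - ArSing.x k 1) = g₂ (ArSing.y k 1 - ArSing.x k 1))
    (hu0 : PowerSeries.constantCoeff (g₁ (ArSing.x k 1 + ArSing.y k 1)) = 0)
    (hv0 : PowerSeries.constantCoeff (g₁ (ArSing.y k 1 - ArSing.x k 1)) = 0) : g₁ = g₂ := by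
  have hC : PowerSeries.C (2 : k)⁻¹ * 2 = (1 : PowerSeries k) := by
    have : (2 : PowerSeries k) = PowerSeries.C (2 : k) := (map_ofNat PowerSeries.C 2).symm
    rw [this, ← map_mul, inv_mul_cancel₀ h2, map_one]
  have key : ∀ g : ArSing.ring k 1 →ₐ[k] PowerSeries k,
      g (ArSing.x k 1) = PowerSeries.C (2 : k)⁻¹ *
        (g (ArSing.x k 1 + ArSing.y k 1) - g (ArSing.y k 1 - ArSing.x k 1)) ∧
      g (ArSing.y k 1) = PowerSeries.C (2 : k)⁻¹ *
        (g (ArSing.x k 1 + ArSing.y k 1) + g (ArSing.y k 1 - ArSing.x k 1)) := by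
    intro g
    rw [map_add, map_sub]
    constructor
    · linear_combination (-g (ArSing.x k 1)) * hC
    · linear_combination (-g (ArSing.y k 1)) * hC
  apply ring_algHom_ext (Ideal.span {(PowerSeries.X : PowerSeries k)}) powerSeries_iInf_span_X_pow
  · rw [(key g₁).1, (key g₂).1, hu, hv]
  · rw [(key g₁).2, (key g₂).2, hu, hv]
  · rw [(key g₁).1, Ideal.mem_span_singleton, PowerSeries.X_dvd_iff, map_mul, map_sub, hu0, hv0,
      sub_zero, mul_zero]

end Groth.Agent.Lib.Seat71.ArSingSwap
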