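import Groth.Agent.Lib.Seat71ArSingCuspExt
import Groth.Agent.Lib.Seat71ArSingSwap
import Groth.Agent.S14080
import Mathlib

set_option linter.style.haveILetI false
set_option linter.unusedSectionVars false

namespace Groth.Agent.Lib.Seat71.ArSingCusp

universe u

open Groth.Agent.Lib.Seat71.ArSingBasic Groth.Agent.Lib.Seat71.ArSingNF
  Groth.Agent.Lib.Seat71.ArSingParity Groth.Agent.Lib.Seat71.ArSingSwap

variable {k : Type u} [Field k]

lemma ev_X_pow_mul (s : ℕ) (w : PowerSeries k) :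
    ev (PowerSeries.X ^ (2 * s) * w) = PowerSeries.X ^ s * ev w := by
  have h1 : (PowerSeries.X : PowerSeries k) ^ (2 * s) * w =
      E (PowerSeries.X ^ s * ev w) + PowerSeries.X * E (PowerSeries.X ^ s * od w) := by
    conv_lhs => rw [parity_decomp w]
    rw [map_mul, map_mul, map_pow, E_X]
    ring
  rw [h1, ev_E_add]

/-- Membership in the image of `ν` in terms of `f(-t) - f(t)`. -/
theorem mem_range_ν_iff' (h2 : (2 : k) ≠ 0) (s : ℕ) (f : PowerSeries k) :
    f ∈ (ν (k := k) (2 * s)).range ↔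
      (PowerSeries.X : PowerSeries k) ^ (2 * s + 1) ∣ N f - f := by
  rw [mem_range_ν_iff, N_sub_self]
  have hC : PowerSeries.C (-(2 : k)⁻¹) * (-2) = (1 : PowerSeries k) := by
    have : (2 : PowerSeries k) = PowerSeries.C (2 : k) := (map_ofNat PowerSeries.C 2).symm
    rw [this, ← map_neg, ← map_mul, neg_mul_neg, inv_mul_cancel₀ h2, map_one]
  constructor
  · rintro ⟨b, hb⟩
    refine ⟨-2 * E b, ?_⟩
    rw [hb, map_mul, map_pow, E_X]
    ring
  · rintro ⟨w, hw⟩
    have h1 : (PowerSeries.X : PowerSeries k) * (-2 * E (od f)) =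
        PowerSeries.X * (PowerSeries.X ^ (2 * s) * w) := by
      rw [hw]; ring
    have h3 := mul_left_cancel₀ PowerSeries.X_ne_zero h1
    have h4 : E (od f) = PowerSeries.X ^ (2 * s) * (PowerSeries.C (-(2 : k)⁻¹) * w) := by
      linear_combination (PowerSeries.C (-(2 : k)⁻¹)) * h3 - (E (od f)) * hC
    refine ⟨ev (PowerSeries.C (-(2 : k)⁻¹) * w), ?_⟩
    rw [← ev_X_pow_mul, ← h4, ev_E]

lemma coeff_odd (h : PowerSeries k) (m : ℕ) (hm : m % 2 = 1) :
    PowerSeries.coeff m h = PowerSeries.coeff (m / 2) (od h) := by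
  rw [od, PowerSeries.coeff_mk, show 2 * (m / 2) + 1 = m from by omega]

/-- Every non-trivial involution of the cusp `A_{2s}` is conjugate to `x ↦ x`, `y ↦ -y`. -/
theorem involution_conj (h2 : (2 : k) ≠ 0) (s : ℕ)
    (σ : ArSing.ring k (2 * s) ≃ₐ[k] ArSing.ring k (2 * s)) (hσ : ∀ a, σ (σ a) = a)
    (hne : σ ≠ AlgEquiv.refl) :
    ∃ φ : ArSing.ring k (2 * s) ≃ₐ[k] ArSing.ring k (2 * s),
      φ.symm (σ (φ (ArSing.x k (2 * s)))) = ArSing.x k (2 * s) ∧
      φ.symm (σ (φ (ArSing.y k (2 * s)))) = -ArSing.y k (2 * s) := by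
  obtain ⟨τ, hτ⟩ := exists_extension s σ hσ
  have hXmem : (PowerSeries.X : PowerSeries k) ∈ Ideal.span {(PowerSeries.X : PowerSeries k)} :=
    Ideal.subset_span rfl
  -- `τ ∘ τ = id`
  have hττν : ∀ z, τ (τ (ν (2 * s) z)) = ν (2 * s) z := fun z => by rw [hτ, hτ, hσ]
  have hXX : τ (τ PowerSeries.X) = PowerSeries.X := by
    obtain ⟨t', ht'⟩ : ∃ t', t' = τ (τ PowerSeries.X) := ⟨_, rfl⟩
    rw [← ht']
    have h1 : t' ^ 2 = PowerSeries.X ^ 2 := by
      have := hττν (ArSing.x k (2 * s))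
      rwa [ν_x, map_pow, map_pow, ← ht'] at this
    have h3 : t' ^ (2 * s + 1) = PowerSeries.X ^ (2 * s + 1) := by
      have := hττν (ArSing.y k (2 * s))
      rwa [ν_y, map_pow, map_pow, ← ht'] at this
    have h4 : (t' - PowerSeries.X) * (t' + PowerSeries.X) = 0 := by linear_combination h1
    rcases mul_eq_zero.1 h4 with h | h
    · exact sub_eq_zero.1 h
    · exfalso
      have h5 : t' = -PowerSeries.X := eq_neg_of_add_eq_zero_left h
      rw [h5, Odd.neg_pow ⟨s, rfl⟩] at h3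
      have h6 : (2 : PowerSeries k) * PowerSeries.X ^ (2 * s + 1) = 0 := by
        linear_combination -h3
      exact pow_ne_zero _ PowerSeries.X_ne_zero (ps_two_mul_eq_zero h2 h6)
  have hττ : ∀ f, τ (τ f) = f := by
    have : τ.comp τ = AlgHom.id k _ := by
      apply powerSeries_algHom_ext (Ideal.span {(PowerSeries.X : PowerSeries k)})
        powerSeries_iInf_span_X_pow
      · exact hXX
      · show τ (τ PowerSeries.X) ∈ _
        rw [hXX]; exact hXmem
    exact fun f => DFunLike.congr_fun this f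
  let τ' : PowerSeries k ≃ₐ[k] PowerSeries k :=
    AlgEquiv.ofAlgHom τ τ (AlgHom.ext hττ) (AlgHom.ext hττ)
  obtain ⟨hξ, ψ, hψX, hψ⟩ := Groth.Agent.S14080.result k h2 τ' hττ
  have hτ'X : τ' PowerSeries.X = τ PowerSeries.X := rfl
  have hτ'f : ∀ f, τ' f = τ f := fun f => rfl
  rw [hτ'X] at hξ hψX
  simp only [hτ'f] at hψ
  obtain ⟨ξ, hξdef⟩ : ∃ ξ, ξ = PowerSeries.coeff 1 (τ PowerSeries.X) := ⟨_, rfl⟩
  rw [← hξdef] at hξ hψX hψ
  have hξ1 : ξ = 1 ∨ ξ = -1 := mul_self_eq_one_iff.1 (by rw [← sq]; exact hξ)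
  have hξm : ξ = -1 := by
    rcases hξ1 with h | h
    · exfalso
      apply hne
      have h1 : ∀ f, τ f = f := by
        intro f
        have := hψ (ψ.symm f)
        rw [h, PowerSeries.rescale_one, AlgEquiv.apply_symm_apply, RingHom.id_apply] at this
        exact ψ.symm.injective this
      ext z
      apply ν_injective s
      rw [← hτ, h1]; rfl
    · exact h
  have hN : ∀ f, ψ.symm (τ (ψ f)) = N f := by
    intro f
    have := hψ f
    rw [hξm] at this
    rw [N_apply]; exact this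
  -- `τ X = X * u` with `u(0) = -1`
  obtain ⟨u, hu⟩ := algHom_X_dvd τ
  have hu0 : PowerSeries.constantCoeff u = -1 := by
    have h1 : PowerSeries.coeff 1 (τ PowerSeries.X) = -1 := by rw [← hξdef, hξm]
    rw [hu, show (1 : ℕ) = 0 + 1 from rfl, PowerSeries.coeff_succ_X_mul] at h1
    simpa using h1
  have hV0 : ∀ f : PowerSeries k, (PowerSeries.X : PowerSeries k) ^ (2 * s) ∣ f →
      f ∈ (ν (k := k) (2 * s)).range := fun f hf => mem_range_ν_of_X_pow_dvd s f hf
  have hτV : ∀ f ∈ (ν (k := k) (2 * s)).range, τ f ∈ (ν (k := k) (2 * s)).range := by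
    rintro _ ⟨z, rfl⟩
    exact ⟨σ z, (hτ z).symm⟩
  -- anti-invariants of `V` vanish to order `2s+1`
  have hanti : ∀ h : PowerSeries k, h ∈ (ν (k := k) (2 * s)).range → τ h = -h →
      ∀ m, m < 2 * s + 1 → PowerSeries.coeff m h = 0 := by
    intro h hV hτh m
    induction m using Nat.strong_induction_on with
    | _ m ih =>
      intro hm
      have hdvd : (PowerSeries.X : PowerSeries k) ^ m ∣ h :=
        PowerSeries.X_pow_dvd_iff.2 (fun j hj => ih j hj (by omega))
      obtain ⟨w, hw⟩ := hdvd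
      rcases Nat.even_or_odd m with hev | hodd
      · have h1 : τ h = PowerSeries.X ^ m * (u ^ m * τ w) := by
          rw [hw, map_mul, map_pow, hu]; ring
        have h3 : u ^ m * τ w = -w := by
          apply mul_left_cancel₀ (pow_ne_zero m (PowerSeries.X_ne_zero (R := k)))
          rw [← h1, hτh, hw]; ring
        have h4 := congrArg PowerSeries.constantCoeff h3
        rw [map_mul, map_pow, hu0, algHom_constantCoeff, Even.neg_one_pow hev, one_mul,
          map_neg] at h4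
        have h5 : PowerSeries.constantCoeff w = 0 := by
          have : (2 : k) * PowerSeries.constantCoeff w = 0 := by linear_combination h4
          simpa [h2] using this
        rw [hw, PowerSeries.coeff_X_pow_mul', if_pos le_rfl, Nat.sub_self,
          PowerSeries.coeff_zero_eq_constantCoeff_apply, h5]
      · rw [mem_range_ν_iff] at hV
        obtain ⟨b, hb⟩ := hV
        have hm2 : m % 2 = 1 := Nat.odd_iff.1 hodd
        rw [coeff_odd h m hm2, hb, PowerSeries.coeff_X_pow_mul', if_neg (by omega)]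
  have hτsub : ∀ f ∈ (ν (k := k) (2 * s)).range,
      (PowerSeries.X : PowerSeries k) ^ (2 * s + 1) ∣ τ f - f := by
    intro f hf
    rw [PowerSeries.X_pow_dvd_iff]
    apply hanti
    · exact Subalgebra.sub_mem _ (hτV f hf) hf
    · rw [map_sub, hττ]; ring
  -- `(ψ X)^2 ∈ V`
  obtain ⟨T, hT⟩ : ∃ T, T = τ PowerSeries.X := ⟨_, rfl⟩
  have hT2 : T ^ 2 ∈ (ν (k := k) (2 * s)).range := by
    refine ⟨σ (ArSing.x k (2 * s)), ?_⟩
    show ν (2 * s) (σ (ArSing.x k (2 * s))) = T ^ 2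
    rw [← hτ, ν_x, map_pow, hT]
  have hX2 : (PowerSeries.X : PowerSeries k) ^ 2 ∈ (ν (k := k) (2 * s)).range :=
    ⟨ArSing.x k (2 * s), ν_x _⟩
  have hXT : PowerSeries.X * T ∈ (ν (k := k) (2 * s)).range := by
    rw [mem_range_ν_iff]
    have hdec := parity_decomp T
    have h1 : PowerSeries.X * T = E (PowerSeries.X * od T) + PowerSeries.X * E (ev T) := by
      conv_lhs => rw [hdec]
      rw [map_mul, E_X]; ring
    have h3 : T ^ 2 = E (ev T * ev T + PowerSeries.X * (od T * od T)) +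
        PowerSeries.X * E (2 * ev T * od T) := by
      conv_lhs => rw [hdec]
      simp only [map_add, map_mul, E_X, map_ofNat]
      ring
    rw [h1, od_E_add]
    rw [mem_range_ν_iff, h3, od_E_add] at hT2
    have ho : PowerSeries.constantCoeff (od T) ≠ 0 := by
      have : PowerSeries.constantCoeff (od T) = PowerSeries.coeff 1 T := by
        rw [← PowerSeries.coeff_zero_eq_constantCoeff_apply, od, PowerSeries.coeff_mk]
      rw [this, hT, ← hξdef, hξm]
      simp
    have hinv : od T * (od T)⁻¹ = 1 := PowerSeries.mul_inv_cancel _ ho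
    have hC : PowerSeries.C (2 : k)⁻¹ * 2 = (1 : PowerSeries k) := by
      have : (2 : PowerSeries k) = PowerSeries.C (2 : k) := (map_ofNat PowerSeries.C 2).symm
      rw [this, ← map_mul, inv_mul_cancel₀ h2, map_one]
    have h5 : ev T = (2 * ev T * od T) * (PowerSeries.C (2 : k)⁻¹ * (od T)⁻¹) := by
      linear_combination (-(ev T)) * hC - (ev T * 2 * PowerSeries.C (2 : k)⁻¹) * hinv
    rw [h5]
    exact Dvd.dvd.mul_right hT2 _
  have hψX2 : ψ PowerSeries.X ^ 2 ∈ (ν (k := k) (2 * s)).range := by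
    have h1 : ψ PowerSeries.X ^ 2 = algebraMap k (PowerSeries k) ((2 : k)⁻¹ ^ 2) *
        (PowerSeries.X ^ 2 - 2 * (PowerSeries.X * T) + T ^ 2) := by
      rw [hψX, hξm, ← hT, map_pow]
      have : (algebraMap k (PowerSeries k)) (2 : k)⁻¹ = PowerSeries.C (2 : k)⁻¹ := rfl
      rw [this, map_neg, map_one]
      ring
    rw [h1]
    refine Subalgebra.mul_mem _ (Subalgebra.algebraMap_mem _ _) ?_
    refine Subalgebra.add_mem _ (Subalgebra.sub_mem _ hX2 ?_) hT2
    have h2' : (2 : PowerSeries k) = algebraMap k (PowerSeries k) 2 := (map_ofNat _ 2).symm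
    rw [h2']
    exact Subalgebra.mul_mem _ (Subalgebra.algebraMap_mem _ _) hXT
  have hψV : ∀ z, ((ψ : PowerSeries k →ₐ[k] PowerSeries k).comp (ν (2 * s))) z ∈
      (ν (k := k) (2 * s)).range := by
    intro z
    obtain ⟨a, b, rfl⟩ := Φ_surj (2 * s) z
    show ψ (ν (2 * s) (Φ (2 * s) a b)) ∈ _
    rw [ν_Φ, map_add, map_mul, map_pow]
    refine Subalgebra.add_mem _ ?_ ?_
    · have := algHom_mem_of_X_mem (ν (k := k) (2 * s)).range (2 * s) hV0
        ((ψ : PowerSeries k →ₐ[k] PowerSeries k).comp E) (by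
          show ψ (E PowerSeries.X) ∈ _
          rw [E_X, map_pow]; exact hψX2) a
      exact this
    · apply hV0
      obtain ⟨w, hw⟩ := algHom_X_dvd (ψ : PowerSeries k →ₐ[k] PowerSeries k)
      have hw' : ψ PowerSeries.X = PowerSeries.X * w := hw
      rw [hw', mul_pow, pow_succ]
      exact ⟨PowerSeries.X * w ^ (2 * s + 1) * ψ (E b), by ring⟩
  have hψV' : ∀ z, ((ψ.symm : PowerSeries k →ₐ[k] PowerSeries k).comp (ν (2 * s))) z ∈
      (ν (k := k) (2 * s)).range := by
    intro z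
    show ψ.symm (ν (2 * s) z) ∈ _
    rw [mem_range_ν_iff' h2]
    have h1 : N (ψ.symm (ν (2 * s) z)) = ψ.symm (τ (ν (2 * s) z)) := by
      rw [← hN, AlgEquiv.apply_symm_apply]
    rw [h1, ← map_sub]
    exact algHom_X_pow_dvd (ψ.symm : PowerSeries k →ₐ[k] PowerSeries k) _
      (hτsub _ ⟨z, rfl⟩)
  let φ₁ := liftν s ((ψ : PowerSeries k →ₐ[k] PowerSeries k).comp (ν (2 * s))) hψV
  let φ₂ := liftν s ((ψ.symm : PowerSeries k →ₐ[k] PowerSeries k).comp (ν (2 * s))) hψV'
  have hφ₁ : ∀ z, ν (2 * s) (φ₁ z) = ψ (ν (2 * s) z) := fun z => ν_liftν s _ hψV z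
  have hφ₂ : ∀ z, ν (2 * s) (φ₂ z) = ψ.symm (ν (2 * s) z) := fun z => ν_liftν s _ hψV' z
  let φ : ArSing.ring k (2 * s) ≃ₐ[k] ArSing.ring k (2 * s) :=
    AlgEquiv.ofAlgHom φ₁ φ₂
      (AlgHom.ext fun z => ν_injective s (by
        show ν (2 * s) (φ₁ (φ₂ z)) = ν (2 * s) z
        rw [hφ₁, hφ₂, AlgEquiv.apply_symm_apply]))
      (AlgHom.ext fun z => ν_injective s (by
        show ν (2 * s) (φ₂ (φ₁ z)) = ν (2 * s) z
        rw [hφ₂, hφ₁, AlgEquiv.symm_apply_apply]))
  have hφν : ∀ z, ν (2 * s) (φ.symm (σ (φ z))) = N (ν (2 * s) z) := by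
    intro z
    show ν (2 * s) (φ₂ (σ (φ₁ z))) = _
    rw [hφ₂, ← hτ, hφ₁, hN]
  refine ⟨φ, ?_, ?_⟩
  · apply ν_injective s
    rw [hφν, ν_x, map_pow, N_X]
    ring
  · apply ν_injective s
    rw [hφν, ν_y, map_pow, N_X, map_neg, ν_y, Odd.neg_pow ⟨s, rfl⟩]

end Groth.Agent.Lib.Seat71.ArSingCusp
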