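import Groth.Agent.Lib.Seat71ArSingBasic
import Mathlib

set_option linter.style.haveILetI false
set_option linter.unusedSectionVars false

namespace Groth.Agent.Lib.Seat71.ArSingBasic

universe u

open MvPowerSeries (X coeff)

variable {k : Type u} [Field k]

/-! ### Division by `y^2 - x^(r+1)` -/

/-- The trace sum `Σ_l h_{i-(r+1)l, j+2l}`, defined by recursion on `i`. -/
noncomputable def T (r : ℕ) (h : MvPowerSeries (Fin 2) k) : ℕ → ℕ → k
  | i, j => c h i j + (if _hi : r + 1 ≤ i then T r h (i - (r + 1)) (j + 2) else 0)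
termination_by i => i
decreasing_by omega

lemma T_eq (r : ℕ) (h : MvPowerSeries (Fin 2) k) (i j : ℕ) :
    T r h i j = c h i j + (if r + 1 ≤ i then T r h (i - (r + 1)) (j + 2) else 0) := by
  rw [T]
  split_ifs <;> rfl

/-- first coordinate of the remainder -/
noncomputable def ρ₀ (r : ℕ) (h : MvPowerSeries (Fin 2) k) : PowerSeries k :=
  PowerSeries.mk fun i => T r h i 0

/-- second coordinate of the remainder -/
noncomputable def ρ₁ (r : ℕ) (h : MvPowerSeries (Fin 2) k) : PowerSeries k :=
  PowerSeries.mk fun i => T r h i 1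

/-- the quotient -/
noncomputable def quo (r : ℕ) (h : MvPowerSeries (Fin 2) k) : MvPowerSeries (Fin 2) k :=
  mk2 fun i j => T r h i (j + 2)

lemma c_eqn_mul (r : ℕ) (q : MvPowerSeries (Fin 2) k) (i j : ℕ) :
    c (ArSing.eqn k r * q) i j =
      (if 2 ≤ j then c q i (j - 2) else 0) - (if r + 1 ≤ i then c q (i - (r + 1)) j else 0) := by
  unfold ArSing.eqn
  rw [sub_mul, c_sub, c_X1_pow_mul, c_X0_pow_mul]

/-- The division identity. -/
theorem division (r : ℕ) (h : MvPowerSeries (Fin 2) k) :
    h = ιx (ρ₀ r h) + ιx (ρ₁ r h) * X 1 + ArSing.eqn k r * quo r h := by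
  apply ext2
  intro i j
  rw [c_add, c_add, c_ιx, c_mul_X1, c_ιx, c_eqn_mul]
  simp only [ρ₀, ρ₁, quo, PowerSeries.coeff_mk, c_mk2]
  rcases Nat.lt_or_ge j 2 with hj | hj
  · interval_cases j
    · rw [T_eq r h i 0]
      simp
    · rw [T_eq r h i 1]
      simp
  · have h1 : ¬ j = 0 := by omega
    have h2 : 1 ≤ j := by omega
    have h3 : ¬ (j - 1 = 0) := by omega
    have h4 : j - 2 + 2 = j := by omega
    simp only [h1, h2, h3, hj, h4, if_true, if_false]
    rw [T_eq r h i j]
    ring

/-- Uniqueness of the remainder. -/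
theorem remainder_unique (r : ℕ) (a b : PowerSeries k) (q : MvPowerSeries (Fin 2) k)
    (h : ιx a + ιx b * X 1 = ArSing.eqn k r * q) : a = 0 ∧ b = 0 := by
  have hq : ∀ i j, c q i j = 0 := by
    intro i
    induction i using Nat.strong_induction_on with
    | _ i ih =>
      intro j
      have := congrArg (fun f => c f i (j + 2)) h
      simp only [c_add, c_ιx, c_mul_X1, c_eqn_mul] at this
      have h1 : ¬ (j + 2 = 0) := by omega
      have h2 : 1 ≤ j + 2 := by omega
      have h3 : ¬ (j + 2 - 1 = 0) := by omega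
      have h4 : 2 ≤ j + 2 := by omega
      have h5 : j + 2 - 2 = j := by omega
      simp only [h1, h2, h3, h4, h5, if_true, if_false, add_zero] at this
      by_cases hi : r + 1 ≤ i
      · rw [if_pos hi, ih (i - (r + 1)) (by omega) (j + 2)] at this
        simpa using this.symm
      · rw [if_neg hi] at this
        simpa using this.symm
  have hq0 : q = 0 := ext2 (by simpa using hq)
  rw [hq0, mul_zero] at h
  constructor
  · ext i
    have := congrArg (fun f => c f i 0) h
    simpa [c_ιx, c_mul_X1] using this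
  · ext i
    have := congrArg (fun f => c f i 1) h
    simpa [c_ιx, c_mul_X1] using this

end Groth.Agent.Lib.Seat71.ArSingBasic
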