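import Groth.Agent.Lib.Seat71ArSingLen
import Mathlib

set_option linter.style.haveILetI false
set_option linter.unusedSectionVars false

namespace Groth.Agent.Lib.Seat71.ArSingFlat

universe u

open MvPowerSeries (X coeff)
open Groth.Agent.Lib.Seat71.ArSingBasic Groth.Agent.Lib.Seat71.ArSingNF

variable {k : Type u} [Field k]

/-- `A_r` is free of rank two over `k[[x]]`, hence flat. -/
theorem xMap_flat (r : ℕ) : (ArSing.xMap k r).toRingHom.Flat := by
  letI : Algebra (PowerSeries k) (ArSing.ring k r) := (ArSing.xMap k r).toRingHom.toAlgebra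
  show Module.Flat (PowerSeries k) (ArSing.ring k r)
  have hsmul : ∀ (s : PowerSeries k) (z : ArSing.ring k r), s • z = ArSing.xMap k r s * z := by
    intro s z
    rw [Algebra.smul_def]
    rfl
  let L : (PowerSeries k × PowerSeries k) →ₗ[PowerSeries k] ArSing.ring k r :=
    { toFun := fun p => Φ r p.1 p.2
      map_add' := fun p q => by
        show Φ r (p.1 + q.1) (p.2 + q.2) = _
        rw [Φ_add]
      map_smul' := fun s p => by
        show Φ r (s * p.1) (s * p.2) = s • Φ r p.1 p.2
        rw [hsmul, xMap_mul_Φ] }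
  have hL : Function.Bijective L := by
    constructor
    · intro p q hpq
      obtain ⟨h1, h2⟩ := Φ_inj r (show Φ r p.1 p.2 = Φ r q.1 q.2 from hpq)
      exact Prod.ext h1 h2
    · intro z
      obtain ⟨a, b, rfl⟩ := Φ_surj r z
      exact ⟨(a, b), rfl⟩
  exact Module.Flat.of_linearEquiv (LinearEquiv.ofBijective L hL).symm

lemma map_xMap_maximalIdeal_ne_top (r : ℕ) :
    Ideal.map (ArSing.xMap k r) (IsLocalRing.maximalIdeal (PowerSeries k)) ≠ ⊤ := by
  rw [PowerSeries.maximalIdeal_eq_span_X, Ideal.map_span, Set.image_singleton, xMap_X]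
  intro h
  apply span_x_y_ne_top (k := k) r
  rw [eq_top_iff, ← h]
  exact Ideal.span_mono (by simp)

end Groth.Agent.Lib.Seat71.ArSingFlat
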