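import Mathlib

set_option autoImplicit false
universe u

namespace Groth.Agent.Lib.Seat71.IdealAux

variable {R : Type u} [CommRing R]

theorem sup_span_le_of_sub_mem (I : Ideal R) {x y : R} (hxy : x - y ∈ I) :
    I ⊔ Ideal.span {x} ≤ I ⊔ Ideal.span {y} := by
  refine sup_le le_sup_left ?_
  rw [Ideal.span_singleton_le_iff_mem]
  have : x = (x - y) + y := by ring
  rw [this]
  exact Submodule.add_mem_sup hxy (Ideal.mem_span_singleton_self y)

/-- Changing a generator modulo `I` does not change `I + (x)`. -/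
theorem sup_span_eq_of_sub_mem (I : Ideal R) {x y : R} (hxy : x - y ∈ I) :
    I ⊔ Ideal.span {x} = I ⊔ Ideal.span {y} := by
  apply le_antisymm (sup_span_le_of_sub_mem I hxy)
  apply sup_span_le_of_sub_mem
  have : y - x = -(x - y) := by ring
  rw [this]
  exact I.neg_mem hxy

theorem sup_span_unit_mul (I : Ideal R) {u : R} (hu : IsUnit u) (x : R) :
    I ⊔ Ideal.span {u * x} = I ⊔ Ideal.span {x} := by
  rw [Ideal.span_singleton_mul_left_unit hu]

theorem sup_span_mul_unit (I : Ideal R) {u : R} (hu : IsUnit u) (x : R) :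
    I ⊔ Ideal.span {x * u} = I ⊔ Ideal.span {x} := by
  rw [Ideal.span_singleton_mul_right_unit hu]

theorem span_pair_eq_sup (x y : R) :
    Ideal.span ({x, y} : Set R) = Ideal.span {x} ⊔ Ideal.span {y} := by
  rw [← Ideal.span_union]
  rfl

/-- `I + (x) = I + (y)` when `x = y + i`, `i ∈ I`; variant with an explicit unit. -/
theorem sup_span_eq_of_eq_unit_mul_add (I : Ideal R) {x y u i : R} (hu : IsUnit u) (hi : i ∈ I)
    (h : x = u * y + i) : I ⊔ Ideal.span {x} = I ⊔ Ideal.span {y} := by
  rw [← sup_span_unit_mul I hu y]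
  apply sup_span_eq_of_sub_mem
  rw [h]
  have : u * y + i - u * y = i := by ring
  rw [this]
  exact hi

end Groth.Agent.Lib.Seat71.IdealAux
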