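import Mathlib

set_option autoImplicit false
universe u v

namespace Groth.Agent.Lib.Seat71.Len

variable {R : Type u} [CommRing R]

/-- If `a` is regular modulo `I`, then the length of `R/(I + (ab))` is the sum of the lengths
of `R/(I + (a))` and `R/(I + (b))`. -/
theorem length_quot_sup_span_mul (I : Ideal R) (a b : R) (ha : ∀ x, a * x ∈ I → x ∈ I) :
    Module.length R (R ⧸ (I ⊔ Ideal.span {a * b})) =
      Module.length R (R ⧸ (I ⊔ Ideal.span {a})) + Module.length R (R ⧸ (I ⊔ Ideal.span {b})) := by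
  have hle1 : I ⊔ Ideal.span {b} ≤
      Submodule.comap (LinearMap.mulLeft R a) (I ⊔ Ideal.span {a * b}) := by
    intro x hx
    obtain ⟨i, hi, y, hy, rfl⟩ := Submodule.mem_sup.1 hx
    obtain ⟨r, rfl⟩ := Ideal.mem_span_singleton'.1 hy
    show a * (i + r * b) ∈ I ⊔ Ideal.span {a * b}
    rw [mul_add]
    refine Submodule.add_mem_sup (I.mul_mem_left _ hi) ?_
    rw [Ideal.mem_span_singleton']
    exact ⟨r, by ring⟩
  have hle2 : I ⊔ Ideal.span {a * b} ≤
      Submodule.comap (LinearMap.id : R →ₗ[R] R) (I ⊔ Ideal.span {a}) := by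
    refine sup_le (le_trans le_sup_left (le_of_eq (Submodule.comap_id _).symm)) ?_
    rw [Submodule.comap_id, Ideal.span_singleton_le_iff_mem]
    exact Ideal.mem_sup_right (Ideal.mul_mem_right _ _ (Ideal.mem_span_singleton_self a))
  let f : (R ⧸ (I ⊔ Ideal.span {b})) →ₗ[R] (R ⧸ (I ⊔ Ideal.span {a * b})) :=
    Submodule.mapQ _ _ (LinearMap.mulLeft R a) hle1
  let g : (R ⧸ (I ⊔ Ideal.span {a * b})) →ₗ[R] (R ⧸ (I ⊔ Ideal.span {a})) :=
    Submodule.mapQ _ _ LinearMap.id hle2
  have hf : Function.Injective f := by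
    rw [← LinearMap.ker_eq_bot, eq_bot_iff]
    intro x hx
    obtain ⟨x, rfl⟩ := Submodule.Quotient.mk_surjective _ x
    rw [LinearMap.mem_ker] at hx
    have h1 : (Submodule.Quotient.mk (a * x) : R ⧸ (I ⊔ Ideal.span {a * b})) = 0 := hx
    rw [Submodule.Quotient.mk_eq_zero] at h1
    rw [Submodule.mem_bot, Submodule.Quotient.mk_eq_zero]
    obtain ⟨i, hi, y, hy, hxy⟩ := Submodule.mem_sup.1 h1
    obtain ⟨r, rfl⟩ := Ideal.mem_span_singleton'.1 hy
    have h2 : a * (x - r * b) ∈ I := by
      have : a * (x - r * b) = i := by rw [mul_sub, ← hxy]; ring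
      rw [this]; exact hi
    have h3 := ha _ h2
    have h4 : x = (x - r * b) + r * b := by ring
    rw [h4]
    exact Submodule.add_mem_sup h3 (Ideal.mul_mem_left _ _ (Ideal.mem_span_singleton_self b))
  have hg : Function.Surjective g := by
    intro z
    obtain ⟨z, rfl⟩ := Submodule.Quotient.mk_surjective _ z
    exact ⟨Submodule.Quotient.mk z, rfl⟩
  have hex : Function.Exact f g := by
    intro y
    obtain ⟨y, rfl⟩ := Submodule.Quotient.mk_surjective _ y
    constructor
    · intro hy
      have h1 : (Submodule.Quotient.mk y : R ⧸ (I ⊔ Ideal.span {a})) = 0 := hy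
      rw [Submodule.Quotient.mk_eq_zero] at h1
      obtain ⟨i, hi, z, hz, hxy⟩ := Submodule.mem_sup.1 h1
      obtain ⟨r, rfl⟩ := Ideal.mem_span_singleton'.1 hz
      refine ⟨Submodule.Quotient.mk r, ?_⟩
      show (Submodule.Quotient.mk (a * r) : R ⧸ (I ⊔ Ideal.span {a * b})) = Submodule.Quotient.mk y
      rw [Submodule.Quotient.eq]
      have : a * r - y = -i := by rw [← hxy]; ring
      rw [this]
      exact Ideal.mem_sup_left (I.neg_mem hi)
    · rintro ⟨x, hx⟩
      obtain ⟨x, rfl⟩ := Submodule.Quotient.mk_surjective _ x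
      have h1 : (Submodule.Quotient.mk (a * x) : R ⧸ (I ⊔ Ideal.span {a * b})) =
          Submodule.Quotient.mk y := hx
      rw [← h1]
      show (Submodule.Quotient.mk (a * x) : R ⧸ (I ⊔ Ideal.span {a})) = 0
      rw [Submodule.Quotient.mk_eq_zero]
      exact Ideal.mem_sup_right (Ideal.mul_mem_right _ _ (Ideal.mem_span_singleton_self a))
  have h := Module.length_eq_add_of_exact f g hf hg hex
  rw [h, add_comm]

/-- If `a` is regular modulo `I`, then `length R/(I + (a^n)) = n * length R/(I + (a))`. -/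
theorem length_quot_sup_span_pow (I : Ideal R) (a : R) (ha : ∀ x, a * x ∈ I → x ∈ I) (n : ℕ) :
    Module.length R (R ⧸ (I ⊔ Ideal.span {a ^ n})) =
      (n : ℕ∞) * Module.length R (R ⧸ (I ⊔ Ideal.span {a})) := by
  induction n with
  | zero =>
    have h1 : I ⊔ Ideal.span {a ^ 0} = ⊤ := by
      rw [pow_zero, Ideal.span_singleton_one, sup_top_eq]
    have : Subsingleton (R ⧸ (I ⊔ Ideal.span {a ^ 0})) := by
      rw [h1]; exact Submodule.Quotient.subsingleton_iff.2 rfl
    rw [Module.length_eq_zero]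
    simp
  | succ n ih =>
    rw [pow_succ', length_quot_sup_span_mul I a (a ^ n) ha, ih]
    push_cast
    ring

/-- A prime element not dividing `h` is regular modulo `(h)` (in a domain). -/
theorem regular_mod_span_of_prime [IsDomain R] {p h : R} (hp : Prime p) (hph : ¬ p ∣ h) :
    ∀ x, p * x ∈ Ideal.span {h} → x ∈ Ideal.span {h} := by
  intro x hx
  obtain ⟨y, hy⟩ := Ideal.mem_span_singleton'.1 hx
  have h1 : p ∣ y * h := ⟨x, hy⟩
  rcases hp.dvd_or_dvd h1 with h2 | h2
  · obtain ⟨y', rfl⟩ := h2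
    have h3 : p * x = p * (y' * h) := by rw [← hy]; ring
    have h4 := mul_left_cancel₀ hp.ne_zero h3
    rw [h4]
    exact Ideal.mul_mem_left _ _ (Ideal.mem_span_singleton_self h)
  · exact absurd h2 hph

/-- Products of regular elements are regular. -/
theorem regular_mod_mul (I : Ideal R) {a b : R} (ha : ∀ x, a * x ∈ I → x ∈ I)
    (hb : ∀ x, b * x ∈ I → x ∈ I) : ∀ x, (a * b) * x ∈ I → x ∈ I := by
  intro x hx
  rw [mul_assoc] at hx
  exact hb _ (ha _ hx)

/-- Powers of regular elements are regular. -/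
theorem regular_mod_pow (I : Ideal R) {a : R} (ha : ∀ x, a * x ∈ I → x ∈ I) (n : ℕ) :
    ∀ x, a ^ n * x ∈ I → x ∈ I := by
  induction n with
  | zero => intro x hx; simpa using hx
  | succ n ih =>
    intro x hx
    rw [pow_succ] at hx
    exact regular_mod_mul I ih ha x hx

/-- Elements outside a prime ideal are regular modulo it. -/
theorem regular_mod_of_isPrime (I : Ideal R) [I.IsPrime] {a : R} (ha : a ∉ I) :
    ∀ x, a * x ∈ I → x ∈ I := by
  intro x hx
  rcases Ideal.IsPrime.mem_or_mem ‹I.IsPrime› hx with h | h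
  · exact absurd h ha
  · exact h

/-- Length of a quotient by the pullback of an ideal along a surjection. -/
theorem length_quot_comap_of_surjective {S : Type u} [CommRing S] (φ : R →+* S)
    (hφ : Function.Surjective φ) (J : Ideal S) :
    Module.length R (R ⧸ J.comap φ) = Module.length S (S ⧸ J) := by
  let _ : Algebra R S := φ.toAlgebra
  have h1 : Module.length R (S ⧸ J) = Module.length S (S ⧸ J) :=
    Module.length_eq_of_surjective hφ
  rw [← h1]
  let ψ : R →ₗ[R] (S ⧸ J) := (J.mkQ.restrictScalars R).comp (Algebra.linearMap R S)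
  have hψ : Function.Surjective ψ := by
    intro z
    obtain ⟨z, rfl⟩ := Submodule.Quotient.mk_surjective _ z
    obtain ⟨r, rfl⟩ := hφ z
    exact ⟨r, rfl⟩
  have hker : LinearMap.ker ψ = J.comap φ := by
    ext x
    rw [LinearMap.mem_ker]
    show (Submodule.Quotient.mk (φ x) : S ⧸ J) = 0 ↔ _
    rw [Submodule.Quotient.mk_eq_zero]
    rfl
  have e := LinearMap.quotKerEquivOfSurjective ψ hψ
  rw [← hker]
  exact e.length_eq

end Groth.Agent.Lib.Seat71.Len
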