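import Mathlib
import Groth.Agent.Lib.Seat71Len
import Groth.Agent.Lib.Seat71IdealAux

set_option autoImplicit false
universe u

namespace Groth.Agent.Lib.Seat71.Len

variable {R : Type u} [CommRing R]

/-- The length of `R/(x, y)`. -/
noncomputable def L (x y : R) : ℕ∞ :=
  Module.length R (R ⧸ (Ideal.span {x} ⊔ Ideal.span {y}))

theorem L_def (x y : R) :
    L x y = Module.length R (R ⧸ (Ideal.span {x} ⊔ Ideal.span {y})) := rfl

theorem L_pair (x y : R) : Module.length R (R ⧸ Ideal.span ({x, y} : Set R)) = L x y := by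
  rw [L_def, Groth.Agent.Lib.Seat71.IdealAux.span_pair_eq_sup]

theorem L_comm (x y : R) : L x y = L y x := by
  rw [L_def, L_def, sup_comm]

theorem L_mul_right (x a b : R) (ha : ∀ z, a * z ∈ Ideal.span {x} → z ∈ Ideal.span {x}) :
    L x (a * b) = L x a + L x b :=
  length_quot_sup_span_mul (Ideal.span {x}) a b ha

theorem L_pow_right (x a : R) (ha : ∀ z, a * z ∈ Ideal.span {x} → z ∈ Ideal.span {x}) (n : ℕ) :
    L x (a ^ n) = (n : ℕ∞) * L x a :=
  length_quot_sup_span_pow (Ideal.span {x}) a ha n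

theorem L_congr_right (x : R) {y y' : R}
    (h : Ideal.span {x} ⊔ Ideal.span {y} = Ideal.span {x} ⊔ Ideal.span {y'}) : L x y = L x y' := by
  rw [L_def, L_def, h]

/-- `L x y = L x y'` when `y = u y' + i` with `u` a unit and `i ∈ (x)`. -/
theorem L_eq_of_eq_unit_mul_add (x : R) {y y' u i : R} (hu : IsUnit u) (hi : i ∈ Ideal.span {x})
    (h : y = u * y' + i) : L x y = L x y' :=
  L_congr_right x (Groth.Agent.Lib.Seat71.IdealAux.sup_span_eq_of_eq_unit_mul_add _ hu hi h)

theorem L_one_right (x : R) : L x 1 = 0 := by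
  rw [L_def]
  have h1 : Ideal.span {x} ⊔ Ideal.span {(1 : R)} = ⊤ := by
    rw [Ideal.span_singleton_one, sup_top_eq]
  have : Subsingleton (R ⧸ (Ideal.span {x} ⊔ Ideal.span {(1 : R)})) := by
    rw [h1]; exact Submodule.Quotient.subsingleton_iff.2 rfl
  exact Module.length_eq_zero

theorem L_unit_right (x : R) {u : R} (hu : IsUnit u) : L x u = 0 := by
  have h := L_eq_of_eq_unit_mul_add x (y := u) (y' := 1) (u := u) (i := 0) hu (Ideal.zero_mem _)
    (by ring)
  rw [h, L_one_right]

end Groth.Agent.Lib.Seat71.Len
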