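import Mathlib
import Groth.Prelude.Def_W4c2arithlefschetzNode
import Groth.Agent.Lib.Helper22NodeAlg

set_option autoImplicit false
universe u

namespace Groth.Agent.Lib.Seat71.Node

open MvPowerSeries

variable {B : Type u} [CommRing B]

/-- Evaluation at `X 0 = 0`: `B[[x,y]] → B[[y]]`. -/
noncomputable def ev0 : MvPowerSeries (Fin 2) B →+* MvPowerSeries (Fin 1) B :=
  (PowerSeries.constantCoeff (R := MvPowerSeries (Fin 1) B)).comp
    (finSuccEquiv B 1 : MvPowerSeries (Fin 2) B →+* PowerSeries (MvPowerSeries (Fin 1) B))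

theorem ev0_apply (f : MvPowerSeries (Fin 2) B) :
    ev0 f = PowerSeries.constantCoeff (finSuccEquiv B 1 f) := rfl

@[simp] theorem ev0_X0 : ev0 (X 0 : MvPowerSeries (Fin 2) B) = 0 := by
  rw [ev0_apply, finSuccEquiv_X_zero, PowerSeries.constantCoeff_X]

@[simp] theorem ev0_X1 : ev0 (X 1 : MvPowerSeries (Fin 2) B) = X 0 := by
  have h : (1 : Fin 2) = Fin.succ (0 : Fin 1) := rfl
  rw [ev0_apply, h, finSuccEquiv_X_succ, PowerSeries.constantCoeff_C]

@[simp] theorem ev0_C (b : B) : ev0 (C b : MvPowerSeries (Fin 2) B) = C b := by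
  rw [ev0_apply, finSuccEquiv_C, PowerSeries.constantCoeff_C]

theorem ev0_eq_zero_iff (f : MvPowerSeries (Fin 2) B) :
    ev0 f = 0 ↔ (X 0 : MvPowerSeries (Fin 2) B) ∣ f := by
  rw [ev0_apply, ← PowerSeries.X_dvd_iff]
  constructor
  · rintro ⟨g, hg⟩
    refine ⟨(finSuccEquiv B 1).symm g, ?_⟩
    apply (finSuccEquiv B 1).injective
    rw [map_mul, finSuccEquiv_X_zero, AlgEquiv.apply_symm_apply, hg]
  · rintro ⟨g, rfl⟩
    rw [map_mul, finSuccEquiv_X_zero]
    exact dvd_mul_right _ _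

/-- A section of `ev0`. -/
noncomputable def lift0 : MvPowerSeries (Fin 1) B →+* MvPowerSeries (Fin 2) B :=
  ((finSuccEquiv B 1).symm : PowerSeries (MvPowerSeries (Fin 1) B) →+* MvPowerSeries (Fin 2) B).comp
    (PowerSeries.C (R := MvPowerSeries (Fin 1) B))

@[simp] theorem ev0_lift0 (g : MvPowerSeries (Fin 1) B) : ev0 (lift0 g) = g := by
  show PowerSeries.constantCoeff (finSuccEquiv B 1 ((finSuccEquiv B 1).symm (PowerSeries.C g))) = g
  rw [AlgEquiv.apply_symm_apply, PowerSeries.constantCoeff_C]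

theorem lift0_C (b : B) : lift0 (C b : MvPowerSeries (Fin 1) B) = C b := by
  show (finSuccEquiv B 1).symm (PowerSeries.C (C b)) = C b
  rw [← finSuccEquiv_C, AlgEquiv.symm_apply_apply]

/-- The node relation `xy - a`. -/
noncomputable def rel (a : B) : MvPowerSeries (Fin 2) B := X 0 * X 1 - C a

theorem ev0_rel (a : B) : ev0 (rel a) = - C a := by
  unfold rel
  rw [map_sub, map_mul, ev0_X0, zero_mul, zero_sub, ev0_C]

/-- The quotient map `B[[x,y]] → NodeAlg B a`. -/
noncomputable abbrev mkN (a : B) : MvPowerSeries (Fin 2) B →+* ArLef.NodeAlg B a :=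
  Ideal.Quotient.mk _

theorem mkN_surjective (a : B) : Function.Surjective (mkN a) := Ideal.Quotient.mk_surjective

theorem mkN_eq_zero_iff (a : B) (f : MvPowerSeries (Fin 2) B) :
    mkN a f = 0 ↔ ∃ g, f = rel a * g := by
  rw [Ideal.Quotient.eq_zero_iff_mem, Ideal.mem_span_singleton]
  rfl

theorem mkN_X0 (a : B) : mkN a (X 0) = ArLef.NodeAlg.t a := rfl
theorem mkN_X1 (a : B) : mkN a (X 1) = ArLef.NodeAlg.e a := rfl
theorem mkN_C (a b : B) : mkN a (C b) = algebraMap B (ArLef.NodeAlg B a) b := rfl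

theorem t_mul_e (a : B) :
    ArLef.NodeAlg.t a * ArLef.NodeAlg.e a = algebraMap B (ArLef.NodeAlg B a) a :=
  Groth.Agent.Lib.Helper22.nodeAlg_t_mul_e a

/-- `t` is a non-zero-divisor in `B[[x,y]]/(xy - a)` for a domain `B` and `a ≠ 0`. -/
theorem t_regular [IsDomain B] (a : B) (ha : a ≠ 0) (r : ArLef.NodeAlg B a)
    (hr : ArLef.NodeAlg.t a * r = 0) : r = 0 := by
  obtain ⟨f, rfl⟩ := mkN_surjective a r
  rw [← mkN_X0, ← map_mul, mkN_eq_zero_iff] at hr
  obtain ⟨g, hg⟩ := hr
  have h1 := congrArg ev0 hg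
  rw [map_mul, map_mul, ev0_X0, zero_mul, ev0_rel] at h1
  have hCa : (C a : MvPowerSeries (Fin 1) B) ≠ 0 := by
    intro h
    apply ha
    have := congrArg (MvPowerSeries.constantCoeff (σ := Fin 1) (R := B)) h
    simpa using this
  have h2 : ev0 g = 0 := by
    have : C a * ev0 g = 0 := by
      have := h1.symm
      rw [neg_mul, neg_eq_zero] at this
      exact this
    exact (mul_eq_zero.1 this).resolve_left hCa
  obtain ⟨g', rfl⟩ := (ev0_eq_zero_iff g).1 h2
  have hX : (X 0 : MvPowerSeries (Fin 2) B) ≠ 0 := by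
    intro h
    have := congrArg (MvPowerSeries.coeff (R := B) (Finsupp.single (0 : Fin 2) 1)) h
    rw [coeff_X, if_pos rfl, map_zero] at this
    exact one_ne_zero this
  have h3 : f = rel a * g' := by
    apply mul_left_cancel₀ hX
    rw [hg]; ring
  rw [mkN_eq_zero_iff]
  exact ⟨g', h3⟩

end Groth.Agent.Lib.Seat71.Node
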