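import Mathlib
import Groth.Agent.Lib.Seat71NodeBasic

set_option autoImplicit false
universe u

namespace Groth.Agent.Lib.Seat71.Node

open MvPowerSeries

variable {B : Type u} [CommRing B]

/-- The ideal `(x, y)` of `B[[x,y]]`. -/
noncomputable def idealXY (B : Type u) [CommRing B] : Ideal (MvPowerSeries (Fin 2) B) :=
  Ideal.span {X 0, X 1}

theorem X0_mem_idealXY : (X 0 : MvPowerSeries (Fin 2) B) ∈ idealXY B :=
  Ideal.subset_span (Set.mem_insert _ _)

theorem X1_mem_idealXY : (X 1 : MvPowerSeries (Fin 2) B) ∈ idealXY B :=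
  Ideal.subset_span (Set.mem_insert_of_mem _ rfl)

/-- Decomposition of a power series without constant term. -/
theorem exists_decomp (g : MvPowerSeries (Fin 2) B) (n : ℕ)
    (hg : ∀ d : Fin 2 →₀ ℕ, d.degree < n + 1 → coeff d g = 0) :
    ∃ g0 g1 : MvPowerSeries (Fin 2) B, g = X 0 * g0 + X 1 * g1 ∧
      (∀ d : Fin 2 →₀ ℕ, d.degree < n → coeff d g0 = 0) ∧
      (∀ d : Fin 2 →₀ ℕ, d.degree < n → coeff d g1 = 0) := by
  classical
  let g0 : MvPowerSeries (Fin 2) B := fun d => coeff (d + Finsupp.single 0 1) g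
  let g1 : MvPowerSeries (Fin 2) B := fun d =>
    if d 0 = 0 then coeff (d + Finsupp.single 1 1) g else 0
  have hg0 : ∀ d, coeff d g0 = coeff (d + Finsupp.single 0 1) g := fun d => rfl
  have hg1 : ∀ d, coeff d g1 = if d 0 = 0 then coeff (d + Finsupp.single 1 1) g else 0 :=
    fun d => rfl
  refine ⟨g0, g1, ?_, ?_, ?_⟩
  · ext d
    rw [map_add, X_def, X_def, coeff_monomial_mul, coeff_monomial_mul, one_mul, one_mul, hg0, hg1]
    by_cases h0 : Finsupp.single (0 : Fin 2) 1 ≤ d
    · rw [if_pos h0, tsub_add_cancel_of_le h0]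
      have hd0 : d 0 ≠ 0 := by
        have := h0 0
        simp at this
        omega
      by_cases h1 : Finsupp.single (1 : Fin 2) 1 ≤ d
      · rw [if_pos h1]
        have : (d - Finsupp.single (1 : Fin 2) 1 : Fin 2 →₀ ℕ) 0 ≠ 0 := by
          rw [Finsupp.tsub_apply]
          simpa using hd0
        rw [if_neg this, add_zero]
      · rw [if_neg h1, add_zero]
    · rw [if_neg h0, zero_add]
      have hd0 : d 0 = 0 := by
        by_contra hne
        apply h0
        intro i
        fin_cases i
        · simp; omega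
        · simp
      by_cases h1 : Finsupp.single (1 : Fin 2) 1 ≤ d
      · rw [if_pos h1]
        have : (d - Finsupp.single (1 : Fin 2) 1 : Fin 2 →₀ ℕ) 0 = 0 := by
          rw [Finsupp.tsub_apply]
          simp [hd0]
        rw [if_pos this, tsub_add_cancel_of_le h1]
      · rw [if_neg h1]
        have hd1 : d 1 = 0 := by
          by_contra hne
          apply h1
          intro i
          fin_cases i
          · simp
          · simp; omega
        have hd : d = 0 := by
          ext i
          fin_cases i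
          · exact hd0
          · exact hd1
        rw [hd]
        exact hg 0 (by simp)
  · intro d hd
    rw [hg0]
    apply hg
    rw [map_add]
    simp
    omega
  · intro d hd
    rw [hg1]
    split_ifs
    · apply hg
      rw [map_add]
      simp
      omega
    · rfl

/-- A power series all of whose terms have total degree at least `n` lies in `(x,y)^n`. -/
theorem mem_idealXY_pow (n : ℕ) : ∀ g : MvPowerSeries (Fin 2) B,
    (∀ d : Fin 2 →₀ ℕ, d.degree < n → coeff d g = 0) → g ∈ idealXY B ^ n := by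
  induction n with
  | zero => intro g _; simp
  | succ n ih =>
    intro g hg
    obtain ⟨g0, g1, rfl, h0, h1⟩ := exists_decomp g n hg
    rw [pow_succ']
    exact Ideal.add_mem _ (Ideal.mul_mem_mul X0_mem_idealXY (ih g0 h0))
      (Ideal.mul_mem_mul X1_mem_idealXY (ih g1 h1))

theorem sub_truncTotal_mem (n : ℕ) (f : MvPowerSeries (Fin 2) B) :
    f - ((truncTotal n f : MvPolynomial (Fin 2) B) : MvPowerSeries (Fin 2) B) ∈ idealXY B ^ n := by
  apply mem_idealXY_pow
  intro d hd
  rw [map_sub, MvPolynomial.coeff_coe, coeff_truncTotal _ hd, sub_self]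


/-- The ideal `(t, e)` of the node algebra. -/
noncomputable def mN (a : B) : Ideal (ArLef.NodeAlg B a) :=
  Ideal.span {ArLef.NodeAlg.t a, ArLef.NodeAlg.e a}

theorem t_mem_mN (a : B) : ArLef.NodeAlg.t a ∈ mN a := Ideal.subset_span (Set.mem_insert _ _)

theorem e_mem_mN (a : B) : ArLef.NodeAlg.e a ∈ mN a :=
  Ideal.subset_span (Set.mem_insert_of_mem _ rfl)

theorem map_idealXY (a : B) : Ideal.map (mkN a) (idealXY B) = mN a := by
  unfold idealXY mN
  rw [Ideal.map_span, Set.image_pair]

theorem mN_le_jacobson (a : B) : mN a ≤ Ideal.jacobson ⊥ := by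
  intro x hx
  rw [← map_idealXY, Ideal.mem_map_iff_of_surjective _ (mkN_surjective a)] at hx
  obtain ⟨f, hf, rfl⟩ := hx
  rw [Ideal.mem_jacobson_bot]
  intro y
  obtain ⟨g, rfl⟩ := mkN_surjective a y
  rw [← map_mul, ← map_one (mkN a), ← map_add]
  apply IsUnit.map
  rw [MvPowerSeries.isUnit_iff_constantCoeff]
  have hc : MvPowerSeries.constantCoeff (σ := Fin 2) (R := B) f = 0 := by
    have hle : idealXY B ≤ RingHom.ker (MvPowerSeries.constantCoeff (σ := Fin 2) (R := B)) := by
      unfold idealXY
      rw [Ideal.span_le]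
      intro z hz
      rcases hz with rfl | rfl
      · exact MvPowerSeries.constantCoeff_X 0
      · exact MvPowerSeries.constantCoeff_X 1
    exact hle hf
  rw [map_add, map_mul, hc, zero_mul, zero_add, map_one]
  exact isUnit_one

instance nodeAlg_isNoetherianRing' [IsNoetherianRing B] (a : B) :
    IsNoetherianRing (ArLef.NodeAlg B a) :=
  isNoetherianRing_of_surjective _ _ (mkN a) (mkN_surjective a)

/-- Ideals of the node algebra are closed for the `(t,e)`-adic topology. -/
theorem mem_of_forall_mem_sup_pow [IsNoetherianRing B] (a : B) (J : Ideal (ArLef.NodeAlg B a))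
    (x : ArLef.NodeAlg B a) (hx : ∀ n : ℕ, x ∈ J ⊔ mN a ^ n) : x ∈ J := by
  have h := Ideal.iInf_pow_smul_eq_bot_of_le_jacobson (I := mN a) (M := ArLef.NodeAlg B a ⧸ J)
    (mN_le_jacobson a)
  have hmem : Ideal.Quotient.mk J x ∈
      (⨅ i : ℕ, mN a ^ i • ⊤ : Submodule (ArLef.NodeAlg B a) (ArLef.NodeAlg B a ⧸ J)) := by
    rw [Submodule.mem_iInf]
    intro i
    obtain ⟨j, hj, y, hy, rfl⟩ := Submodule.mem_sup.1 (hx i)
    have h1 : Ideal.Quotient.mk J (j + y) = y • (Ideal.Quotient.mk J 1) := by
      rw [map_add, Ideal.Quotient.eq_zero_iff_mem.2 hj, zero_add]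
      show _ = Ideal.Quotient.mk J (y * 1)
      rw [mul_one]
    rw [h1]
    exact Submodule.smul_mem_smul hy Submodule.mem_top
  rw [h] at hmem
  exact Ideal.Quotient.eq_zero_iff_mem.1 ((Submodule.mem_bot _).1 hmem)

/-- The generation lemma: the fixed-point ideal of an endomorphism of the node algebra is
generated by the differences on `B`, `t` and `e`. -/
theorem sub_mem_of_generators [IsNoetherianRing B] (a : B)
    (σ : ArLef.NodeAlg B a →+* ArLef.NodeAlg B a)
    (hσt : σ (ArLef.NodeAlg.t a) ∈ mN a) (hσe : σ (ArLef.NodeAlg.e a) ∈ mN a)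
    (J : Ideal (ArLef.NodeAlg B a))
    (hB : ∀ b : B, σ (algebraMap B (ArLef.NodeAlg B a) b) - algebraMap B (ArLef.NodeAlg B a) b ∈ J)
    (ht : σ (ArLef.NodeAlg.t a) - ArLef.NodeAlg.t a ∈ J)
    (he : σ (ArLef.NodeAlg.e a) - ArLef.NodeAlg.e a ∈ J) (r : ArLef.NodeAlg B a) :
    σ r - r ∈ J := by
  -- the subring of elements moved into J
  let S : Subring (ArLef.NodeAlg B a) :=
    { carrier := {r | σ r - r ∈ J}
      mul_mem' := by
        intro x y hx hy
        show σ (x * y) - x * y ∈ J
        have : σ (x * y) - x * y = σ x * (σ y - y) + (σ x - x) * y := by rw [map_mul]; ring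
        rw [this]
        exact J.add_mem (J.mul_mem_left _ hy) (J.mul_mem_right _ hx)
      one_mem' := by
        show σ 1 - 1 ∈ J
        rw [map_one, sub_self]; exact J.zero_mem
      add_mem' := by
        intro x y hx hy
        show σ (x + y) - (x + y) ∈ J
        have : σ (x + y) - (x + y) = (σ x - x) + (σ y - y) := by rw [map_add]; ring
        rw [this]
        exact J.add_mem hx hy
      zero_mem' := by
        show σ 0 - 0 ∈ J
        rw [map_zero, sub_self]; exact J.zero_mem
      neg_mem' := by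
        intro x hx
        show σ (-x) - (-x) ∈ J
        have : σ (-x) - (-x) = -(σ x - x) := by rw [map_neg]; ring
        rw [this]
        exact J.neg_mem hx }
  have hS : ∀ x, x ∈ S ↔ σ x - x ∈ J := fun x => Iff.rfl
  have hpoly : ∀ p : MvPolynomial (Fin 2) B, mkN a (p : MvPowerSeries (Fin 2) B) ∈ S := by
    intro p
    induction p using MvPolynomial.induction_on with
    | C b =>
      rw [MvPolynomial.coe_C, mkN_C]
      exact hB b
    | add p q hp hq =>
      rw [MvPolynomial.coe_add, map_add]
      exact S.add_mem hp hq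
    | mul_X p i hp =>
      rw [MvPolynomial.coe_mul, MvPolynomial.coe_X, map_mul]
      refine S.mul_mem hp ?_
      fin_cases i
      · exact ht
      · exact he
  have hmap : Ideal.map σ (mN a) ≤ mN a := by
    unfold mN
    rw [Ideal.map_span, Ideal.span_le]
    rintro _ ⟨z, hz, rfl⟩
    rcases hz with rfl | rfl
    · exact hσt
    · exact hσe
  have hmapn : ∀ n : ℕ, ∀ s ∈ mN a ^ n, σ s ∈ mN a ^ n := by
    intro n s hs
    have h1 : σ s ∈ Ideal.map σ (mN a ^ n) := Ideal.mem_map_of_mem σ hs
    rw [Ideal.map_pow] at h1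
    exact Ideal.pow_right_mono hmap n h1
  apply mem_of_forall_mem_sup_pow a J
  intro n
  obtain ⟨f, rfl⟩ := mkN_surjective a r
  set p : MvPowerSeries (Fin 2) B :=
    ((truncTotal n f : MvPolynomial (Fin 2) B) : MvPowerSeries (Fin 2) B) with hp
  have hs : mkN a (f - p) ∈ mN a ^ n := by
    rw [← map_idealXY, ← Ideal.map_pow]
    exact Ideal.mem_map_of_mem _ (sub_truncTotal_mem n f)
  have hdecomp : σ (mkN a f) - mkN a f =
      (σ (mkN a p) - mkN a p) + (σ (mkN a (f - p)) - mkN a (f - p)) := by
    rw [map_sub, map_sub]; ring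
  rw [hdecomp]
  exact Submodule.add_mem_sup ((hS _).1 (hpoly _))
    (Ideal.sub_mem _ (hmapn n _ hs) hs)

end Groth.Agent.Lib.Seat71.Node
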