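import Mathlib
import Groth.Agent.Lib.Seat71NodeGen

set_option autoImplicit false
universe u

namespace Groth.Agent.Lib.Seat71.Node

open MvPowerSeries

/-- Lengths of quotients by an intersection and a sum. -/
theorem length_quotient_inf_add_sup {R M : Type u} [Ring R] [AddCommGroup M] [Module R M]
    (P Q : Submodule R M) :
    Module.length R (M ⧸ (P ⊓ Q)) + Module.length R (M ⧸ (P ⊔ Q)) =
      Module.length R (M ⧸ P) + Module.length R (M ⧸ Q) := by
  let f : (M ⧸ (P ⊓ Q)) →ₗ[R] (M ⧸ P) × (M ⧸ Q) :=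
    LinearMap.prod (Submodule.mapQ (P ⊓ Q) P LinearMap.id inf_le_left)
      (Submodule.mapQ (P ⊓ Q) Q LinearMap.id inf_le_right)
  let g : (M ⧸ P) × (M ⧸ Q) →ₗ[R] (M ⧸ (P ⊔ Q)) :=
    (Submodule.mapQ P (P ⊔ Q) LinearMap.id le_sup_left).comp (LinearMap.fst R _ _) -
      (Submodule.mapQ Q (P ⊔ Q) LinearMap.id le_sup_right).comp (LinearMap.snd R _ _)
  have hf : Function.Injective f := by
    rw [← LinearMap.ker_eq_bot, eq_bot_iff]
    intro x hx
    obtain ⟨x, rfl⟩ := Submodule.Quotient.mk_surjective _ x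
    rw [LinearMap.mem_ker] at hx
    have h1 : (Submodule.Quotient.mk x : M ⧸ P) = 0 := congrArg Prod.fst hx
    have h2 : (Submodule.Quotient.mk x : M ⧸ Q) = 0 := congrArg Prod.snd hx
    rw [Submodule.Quotient.mk_eq_zero] at h1 h2
    rw [Submodule.mem_bot, Submodule.Quotient.mk_eq_zero]
    exact ⟨h1, h2⟩
  have hg : Function.Surjective g := by
    intro z
    obtain ⟨z, rfl⟩ := Submodule.Quotient.mk_surjective _ z
    refine ⟨(Submodule.Quotient.mk z, 0), ?_⟩
    show Submodule.mapQ P (P ⊔ Q) LinearMap.id le_sup_left (Submodule.Quotient.mk z) -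
      Submodule.mapQ Q (P ⊔ Q) LinearMap.id le_sup_right 0 = _
    rw [map_zero, sub_zero]
    rfl
  have hex : Function.Exact f g := by
    intro y
    constructor
    · intro hy
      obtain ⟨y1, y2⟩ := y
      obtain ⟨y1, rfl⟩ := Submodule.Quotient.mk_surjective _ y1
      obtain ⟨y2, rfl⟩ := Submodule.Quotient.mk_surjective _ y2
      have h1 : (Submodule.Quotient.mk (y1 - y2) : M ⧸ (P ⊔ Q)) = 0 := by
        rw [Submodule.Quotient.mk_sub]
        exact hy
      rw [Submodule.Quotient.mk_eq_zero, Submodule.mem_sup] at h1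
      obtain ⟨p, hp, q, hq, hpq⟩ := h1
      refine ⟨Submodule.Quotient.mk (y1 - p), ?_⟩
      show ((Submodule.Quotient.mk (y1 - p) : M ⧸ P), (Submodule.Quotient.mk (y1 - p) : M ⧸ Q)) = _
      refine Prod.ext ?_ ?_
      · show (Submodule.Quotient.mk (y1 - p) : M ⧸ P) = Submodule.Quotient.mk y1
        rw [Submodule.Quotient.eq]
        have : y1 - p - y1 = -p := by abel
        rw [this]
        exact P.neg_mem hp
      · show (Submodule.Quotient.mk (y1 - p) : M ⧸ Q) = Submodule.Quotient.mk y2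
        rw [Submodule.Quotient.eq]
        have : y1 - p - y2 = q := by
          have h0 : y1 - p - y2 = (y1 - y2) - p := by abel
          rw [h0, ← hpq]; abel
        rw [this]
        exact hq
    · rintro ⟨x, rfl⟩
      obtain ⟨x, rfl⟩ := Submodule.Quotient.mk_surjective _ x
      show (Submodule.Quotient.mk x : M ⧸ (P ⊔ Q)) - Submodule.Quotient.mk x = 0
      exact sub_self _
  have h := Module.length_eq_add_of_exact f g hf hg hex
  rw [Module.length_prod] at h
  exact h.symm


section Zero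

variable {B : Type u} [CommRing B]

/-- The constant coefficient map on `B[[x,y]]/(xy)`. -/
noncomputable def cc0 : ArLef.NodeAlg B 0 →+* B :=
  Ideal.Quotient.lift _ (MvPowerSeries.constantCoeff (σ := Fin 2) (R := B)) (by
    intro a ha
    rw [Ideal.mem_span_singleton] at ha
    obtain ⟨g, rfl⟩ := ha
    rw [map_mul, map_sub, map_mul, MvPowerSeries.constantCoeff_X, zero_mul, map_zero,
      map_zero, sub_zero, zero_mul])

theorem cc0_mkN (f : MvPowerSeries (Fin 2) B) : cc0 (mkN 0 f) = MvPowerSeries.constantCoeff f := rfl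

theorem cc0_surjective : Function.Surjective (cc0 (B := B)) := by
  intro b
  exact ⟨mkN 0 (C b), by rw [cc0_mkN, MvPowerSeries.constantCoeff_C]⟩

theorem mem_idealXY_of_constantCoeff (f : MvPowerSeries (Fin 2) B)
    (hf : MvPowerSeries.constantCoeff f = 0) : f ∈ idealXY B := by
  have h := mem_idealXY_pow (B := B) 1 f (by
    intro d hd
    have hd0 : d = 0 := by
      rw [← Finsupp.degree_eq_zero_iff]
      omega
    rw [hd0]
    exact hf)
  rwa [pow_one] at h

theorem ker_cc0 : RingHom.ker (cc0 (B := B)) = mN (0 : B) := by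
  apply le_antisymm
  · intro r hr
    obtain ⟨f, rfl⟩ := mkN_surjective 0 r
    rw [RingHom.mem_ker, cc0_mkN] at hr
    rw [← map_idealXY]
    exact Ideal.mem_map_of_mem _ (mem_idealXY_of_constantCoeff f hr)
  · unfold mN
    rw [Ideal.span_le]
    intro z hz
    rcases hz with rfl | rfl
    · show cc0 (mkN 0 (X 0)) = 0
      rw [cc0_mkN, MvPowerSeries.constantCoeff_X]
    · show cc0 (mkN 0 (X 1)) = 0
      rw [cc0_mkN, MvPowerSeries.constantCoeff_X]

theorem mN_zero_isMaximal {k : Type u} [Field k] : (mN (0 : k)).IsMaximal := by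
  rw [← ker_cc0]
  exact RingHom.ker_isMaximal_of_surjective _ cc0_surjective

theorem length_quot_mN_zero {k : Type u} [Field k] :
    Module.length (ArLef.NodeAlg k 0) (ArLef.NodeAlg k 0 ⧸ mN (0 : k)) = 1 := by
  rw [Module.length_eq_one_iff, isSimpleModule_iff_isCoatom, ← Ideal.isMaximal_def]
  exact mN_zero_isMaximal

/-- In `B[[x,y]]/(xy)` the two branches meet only in zero. -/
theorem t_mul_eq_e_mul_zero [IsDomain B] (r s : ArLef.NodeAlg B 0)
    (h : ArLef.NodeAlg.t (0 : B) * r = ArLef.NodeAlg.e (0 : B) * s) :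
    ArLef.NodeAlg.t (0 : B) * r = 0 := by
  obtain ⟨f, rfl⟩ := mkN_surjective 0 r
  obtain ⟨g, rfl⟩ := mkN_surjective 0 s
  rw [← mkN_X0, ← mkN_X1, ← map_mul, ← map_mul, ← sub_eq_zero, ← map_sub, mkN_eq_zero_iff] at h
  obtain ⟨w, hw⟩ := h
  -- x f - y g = (xy - 0) w
  have h1 := congrArg ev0 hw
  rw [map_sub, map_mul, map_mul, map_mul, ev0_X0, ev0_X1, ev0_rel, map_zero, neg_zero, zero_mul,
    zero_mul, zero_sub, neg_eq_zero] at h1
  have hX : (X 0 : MvPowerSeries (Fin 1) B) ≠ 0 := by
    intro h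
    have := congrArg (MvPowerSeries.coeff (R := B) (Finsupp.single (0 : Fin 1) 1)) h
    rw [coeff_X, if_pos rfl, map_zero] at this
    exact one_ne_zero this
  have h2 : ev0 g = 0 := (mul_eq_zero.1 h1).resolve_left hX
  obtain ⟨g', rfl⟩ := (ev0_eq_zero_iff g).1 h2
  -- t * mk f = mk (x f) = mk (y x g' + xy w) = 0
  have h3 : (X 0 : MvPowerSeries (Fin 2) B) * f = rel 0 * (g' + w) := by
    have : (X 0 : MvPowerSeries (Fin 2) B) * f = X 1 * (X 0 * g') + rel 0 * w := by
      rw [← hw]; ring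
    rw [this]
    unfold rel
    rw [map_zero]
    ring
  rw [← mkN_X0, ← map_mul, mkN_eq_zero_iff]
  exact ⟨_, h3⟩

end Zero

end Groth.Agent.Lib.Seat71.Node
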