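import Groth.Agent.Lib.Seat71ArSingSep
import Groth.Agent.Lib.Seat71NodeLen
import Groth.Agent.Lib.Seat71Len2
import Mathlib

set_option linter.style.haveILetI false
set_option linter.unusedSectionVars false

namespace Groth.Agent.Lib.Seat71.ArSingLen

universe u

open MvPowerSeries (X coeff)
open Groth.Agent.Lib.Seat71.ArSingBasic Groth.Agent.Lib.Seat71.ArSingNF
open Groth.Agent.Lib.Seat71.Len Groth.Agent.Lib.Seat71.IdealAux

variable {k : Type u} [Field k]

lemma X1_dvd_iff (f : MvPowerSeries (Fin 2) k) :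
    (X 1 : MvPowerSeries (Fin 2) k) ∣ f ↔ ∀ i, c f i 0 = 0 := by
  rw [MvPowerSeries.X_dvd_iff]
  constructor
  · intro h i
    exact h (mon i 0) (by simp)
  · intro h m hm
    rw [← mon_eta m, hm]
    exact h _

lemma X0_dvd_iff (f : MvPowerSeries (Fin 2) k) :
    (X 0 : MvPowerSeries (Fin 2) k) ∣ f ↔ ∀ j, c f 0 j = 0 := by
  rw [MvPowerSeries.X_dvd_iff]
  constructor
  · intro h j
    exact h (mon 0 j) (by simp)
  · intro h m hm
    rw [← mon_eta m, hm]
    exact h _

lemma X0_regular_mod_X1 (z : MvPowerSeries (Fin 2) k)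
    (h : X 0 * z ∈ Ideal.span {(X 1 : MvPowerSeries (Fin 2) k)}) :
    z ∈ Ideal.span {(X 1 : MvPowerSeries (Fin 2) k)} := by
  rw [Ideal.mem_span_singleton, X1_dvd_iff] at h ⊢
  intro i
  have := h (i + 1)
  rw [← pow_one (X 0 : MvPowerSeries (Fin 2) k), c_X0_pow_mul] at this
  simpa using this

lemma X1_regular_mod_X0 (z : MvPowerSeries (Fin 2) k)
    (h : X 1 * z ∈ Ideal.span {(X 0 : MvPowerSeries (Fin 2) k)}) :
    z ∈ Ideal.span {(X 0 : MvPowerSeries (Fin 2) k)} := by
  rw [Ideal.mem_span_singleton, X0_dvd_iff] at h ⊢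
  intro j
  have := h (j + 1)
  rw [← pow_one (X 1 : MvPowerSeries (Fin 2) k), c_X1_pow_mul] at this
  simpa using this

lemma span_X0_X1_eq_ker :
    Ideal.span {(X 0 : MvPowerSeries (Fin 2) k), X 1} =
      RingHom.ker (MvPowerSeries.constantCoeff (σ := Fin 2) (R := k)) := by
  apply le_antisymm
  · rw [Ideal.span_le]
    intro z hz
    rcases hz with rfl | rfl
    · exact MvPowerSeries.constantCoeff_X _
    · exact MvPowerSeries.constantCoeff_X _
  · intro f hf
    exact Groth.Agent.Lib.Seat71.Node.mem_idealXY_of_constantCoeff f hf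

lemma span_X0_X1_isMaximal :
    (Ideal.span {(X 0 : MvPowerSeries (Fin 2) k), X 1}).IsMaximal := by
  rw [span_X0_X1_eq_ker]
  apply RingHom.ker_isMaximal_of_surjective
  intro s
  exact ⟨MvPowerSeries.C s, MvPowerSeries.constantCoeff_C s⟩

lemma L_X0_X1 : L (X 0 : MvPowerSeries (Fin 2) k) (X 1) = 1 := by
  rw [← L_pair, Module.length_eq_one_iff, isSimpleModule_iff_isCoatom, ← Ideal.isMaximal_def]
  exact span_X0_X1_isMaximal

lemma L_X1_X0_pow (n : ℕ) : L (X 1 : MvPowerSeries (Fin 2) k) (X 0 ^ n) = n := by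
  rw [L_pow_right _ _ X0_regular_mod_X1, L_comm, L_X0_X1, mul_one]

lemma L_X0_X1_pow (n : ℕ) : L (X 0 : MvPowerSeries (Fin 2) k) (X 1 ^ n) = n := by
  rw [L_pow_right _ _ X1_regular_mod_X0, L_X0_X1, mul_one]

/-- The quotient map `k[[x,y]] → A_r`. -/
noncomputable abbrev mkA (r : ℕ) : MvPowerSeries (Fin 2) k →+* ArSing.ring k r :=
  Ideal.Quotient.mk (Ideal.span {ArSing.eqn k r})

lemma comap_span_singleton (r : ℕ) (f : MvPowerSeries (Fin 2) k) :
    Ideal.comap (mkA r) (Ideal.span {mkA r f}) = Ideal.span {f} ⊔ Ideal.span {ArSing.eqn k r} := by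
  have h1 : Ideal.span {mkA r f} = Ideal.map (mkA r) (Ideal.span {f}) := by
    rw [Ideal.map_span, Set.image_singleton]
  rw [h1, Ideal.comap_map_of_surjective _ Ideal.Quotient.mk_surjective, ← RingHom.ker_eq_comap_bot,
    Ideal.mk_ker]

theorem length_quot_span_y (r : ℕ) :
    Module.length (ArSing.ring k r) (ArSing.ring k r ⧸ Ideal.span {ArSing.y k r}) = r + 1 := by
  rw [← length_quot_comap_of_surjective (mkA r) Ideal.Quotient.mk_surjective]
  have h1 : Ideal.comap (mkA r) (Ideal.span {ArSing.y k r}) =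
      Ideal.span {(X 1 : MvPowerSeries (Fin 2) k)} ⊔ Ideal.span {X 0 ^ (r + 1)} := by
    rw [show ArSing.y k r = mkA r (X 1) from rfl, comap_span_singleton]
    apply sup_span_eq_of_eq_unit_mul_add _ (u := -1) (i := X 1 ^ 2) (IsUnit.neg isUnit_one)
    · exact Ideal.mem_span_singleton.2 (dvd_pow_self _ (by norm_num))
    · unfold ArSing.eqn
      ring
  rw [h1, ← L_def, L_X1_X0_pow]
  push_cast
  rfl

theorem length_quot_span_x (r : ℕ) :
    Module.length (ArSing.ring k r) (ArSing.ring k r ⧸ Ideal.span {ArSing.x k r}) = 2 := by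
  rw [← length_quot_comap_of_surjective (mkA r) Ideal.Quotient.mk_surjective]
  have h1 : Ideal.comap (mkA r) (Ideal.span {ArSing.x k r}) =
      Ideal.span {(X 0 : MvPowerSeries (Fin 2) k)} ⊔ Ideal.span {X 1 ^ 2} := by
    rw [show ArSing.x k r = mkA r (X 0) from rfl, comap_span_singleton]
    apply sup_span_eq_of_eq_unit_mul_add _ (u := 1) (i := - X 0 ^ (r + 1)) isUnit_one
    · exact (Ideal.neg_mem_iff _).2 (Ideal.mem_span_singleton.2 (dvd_pow_self _ (by omega)))
    · unfold ArSing.eqn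
      ring
  rw [h1, ← L_def, L_X0_X1_pow]
  rfl

theorem length_quot_span_x_y (r : ℕ) :
    Module.length (ArSing.ring k r)
      (ArSing.ring k r ⧸ Ideal.span {ArSing.x k r, ArSing.y k r}) = 1 := by
  rw [← length_quot_comap_of_surjective (mkA r) Ideal.Quotient.mk_surjective]
  have h1 : Ideal.comap (mkA r) (Ideal.span {ArSing.x k r, ArSing.y k r}) =
      Ideal.span {(X 0 : MvPowerSeries (Fin 2) k), X 1} := by
    have h2 : Ideal.span {ArSing.x k r, ArSing.y k r} =
        Ideal.map (mkA r) (Ideal.span {(X 0 : MvPowerSeries (Fin 2) k), X 1}) := by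
      rw [Ideal.map_span, Set.image_pair]
    rw [h2, Ideal.comap_map_of_surjective _ Ideal.Quotient.mk_surjective,
      ← RingHom.ker_eq_comap_bot, Ideal.mk_ker, sup_eq_left, Ideal.span_singleton_le_iff_mem]
    unfold ArSing.eqn
    refine Ideal.sub_mem _ (Ideal.pow_mem_of_mem _ (Ideal.subset_span (by simp)) _ (by norm_num))
      (Ideal.pow_mem_of_mem _ (Ideal.subset_span (by simp)) _ (by omega))
  rw [h1, L_pair, L_X0_X1]

end Groth.Agent.Lib.Seat71.ArSingLen
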