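import Groth.Agent.Lib.Seat71ArSingDiv
import Mathlib

set_option linter.style.haveILetI false
set_option linter.unusedSectionVars false

namespace Groth.Agent.Lib.Seat71.ArSingNF

universe u

open MvPowerSeries (X coeff)
open Groth.Agent.Lib.Seat71.ArSingBasic

variable {k : Type u} [Field k]

/-- `xMap` is `mk ∘ ιx`. -/
lemma xMap_apply (r : ℕ) (a : PowerSeries k) :
    ArSing.xMap k r a = Ideal.Quotient.mk (Ideal.span {ArSing.eqn k r}) (ιx a) := by
  unfold ArSing.xMap ιx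
  rw [AlgHom.comp_apply, Ideal.Quotient.mkₐ_eq_mk, PowerSeries.coe_substAlgHom]

lemma xMap_X (r : ℕ) : ArSing.xMap k r PowerSeries.X = ArSing.x k r := by
  rw [xMap_apply]
  unfold ιx
  rw [PowerSeries.subst_X (PowerSeries.HasSubst.X 0)]

lemma mk_eqn (r : ℕ) : Ideal.Quotient.mk (Ideal.span {ArSing.eqn k r}) (ArSing.eqn k r) = 0 :=
  Ideal.Quotient.eq_zero_iff_mem.mpr (Ideal.subset_span rfl)

lemma y_sq (r : ℕ) : ArSing.y k r ^ 2 = ArSing.x k r ^ (r + 1) := by
  have := mk_eqn (k := k) r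
  unfold ArSing.eqn at this
  rw [map_sub, map_pow, map_pow, sub_eq_zero] at this
  exact this

lemma y_mul_y (r : ℕ) : ArSing.y k r * ArSing.y k r = ArSing.xMap k r (PowerSeries.X ^ (r + 1)) := by
  rw [map_pow, xMap_X, ← y_sq, sq]

/-- The normal form map. -/
noncomputable def Φ (r : ℕ) (a b : PowerSeries k) : ArSing.ring k r :=
  ArSing.xMap k r a + ArSing.xMap k r b * ArSing.y k r

theorem Φ_surj (r : ℕ) (z : ArSing.ring k r) : ∃ a b, z = Φ r a b := by
  obtain ⟨h, rfl⟩ := Ideal.Quotient.mk_surjective z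
  refine ⟨ρ₀ r h, ρ₁ r h, ?_⟩
  conv_lhs => rw [division r h]
  rw [map_add, map_add, map_mul, map_mul, mk_eqn, zero_mul, add_zero]
  unfold Φ
  rw [xMap_apply, xMap_apply]

theorem Φ_eq_zero (r : ℕ) {a b : PowerSeries k} (h : Φ r a b = 0) : a = 0 ∧ b = 0 := by
  have h1 : Ideal.Quotient.mk (Ideal.span {ArSing.eqn k r}) (ιx a + ιx b * X 1) = 0 := by
    rw [map_add, map_mul, ← xMap_apply, ← xMap_apply]
    exact h
  rw [Ideal.Quotient.eq_zero_iff_mem, Ideal.mem_span_singleton'] at h1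
  obtain ⟨q, hq⟩ := h1
  exact remainder_unique r a b q (by rw [← hq, mul_comm])

lemma Φ_add (r : ℕ) (a b a' b' : PowerSeries k) :
    Φ r a b + Φ r a' b' = Φ r (a + a') (b + b') := by
  unfold Φ
  rw [map_add, map_add]
  ring

lemma Φ_sub (r : ℕ) (a b a' b' : PowerSeries k) :
    Φ r a b - Φ r a' b' = Φ r (a - a') (b - b') := by
  unfold Φ
  rw [map_sub, map_sub]
  ring

lemma Φ_neg (r : ℕ) (a b : PowerSeries k) : - Φ r a b = Φ r (-a) (-b) := by
  unfold Φ
  rw [map_neg, map_neg]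
  ring

lemma Φ_zero (r : ℕ) : Φ r (0 : PowerSeries k) 0 = 0 := by
  unfold Φ
  simp

theorem Φ_inj (r : ℕ) {a b a' b' : PowerSeries k} (h : Φ r a b = Φ r a' b') : a = a' ∧ b = b' := by
  have h1 : Φ r (a - a') (b - b') = 0 := by rw [← Φ_sub, h, sub_self]
  obtain ⟨h2, h3⟩ := Φ_eq_zero r h1
  exact ⟨sub_eq_zero.mp h2, sub_eq_zero.mp h3⟩

lemma Φ_mul (r : ℕ) (a b a' b' : PowerSeries k) :
    Φ r a b * Φ r a' b' =
      Φ r (a * a' + PowerSeries.X ^ (r + 1) * (b * b')) (a * b' + b * a') := by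
  unfold Φ
  simp only [map_add, map_mul]
  have := y_mul_y (k := k) r
  linear_combination (ArSing.xMap k r b * ArSing.xMap k r b') * this

lemma xMap_eq_Φ (r : ℕ) (a : PowerSeries k) : ArSing.xMap k r a = Φ r a 0 := by
  unfold Φ
  simp

lemma y_eq_Φ (r : ℕ) : ArSing.y k r = Φ r (0 : PowerSeries k) 1 := by
  unfold Φ
  simp

lemma x_eq_Φ (r : ℕ) : ArSing.x k r = Φ r (PowerSeries.X : PowerSeries k) 0 := by
  rw [← xMap_eq_Φ, xMap_X]

lemma one_eq_Φ (r : ℕ) : (1 : ArSing.ring k r) = Φ r (1 : PowerSeries k) 0 := by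
  rw [← xMap_eq_Φ, map_one]

lemma xMap_mul_Φ (r : ℕ) (s a b : PowerSeries k) :
    ArSing.xMap k r s * Φ r a b = Φ r (s * a) (s * b) := by
  rw [xMap_eq_Φ, Φ_mul]
  simp

lemma x_mul_Φ (r : ℕ) (a b : PowerSeries k) :
    ArSing.x k r * Φ r a b = Φ r (PowerSeries.X * a) (PowerSeries.X * b) := by
  rw [← xMap_X, xMap_mul_Φ]

lemma x_pow_mul_Φ (r n : ℕ) (a b : PowerSeries k) :
    ArSing.x k r ^ n * Φ r a b = Φ r (PowerSeries.X ^ n * a) (PowerSeries.X ^ n * b) := by
  rw [← xMap_X, ← map_pow, xMap_mul_Φ]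

lemma y_mul_Φ (r : ℕ) (a b : PowerSeries k) :
    ArSing.y k r * Φ r a b = Φ r (PowerSeries.X ^ (r + 1) * b) a := by
  rw [y_eq_Φ, Φ_mul]
  simp

lemma algebraMap_eq_Φ (r : ℕ) (s : k) :
    algebraMap k (ArSing.ring k r) s = Φ r (PowerSeries.C s) 0 := by
  rw [← xMap_eq_Φ]
  have : (PowerSeries.C s : PowerSeries k) = algebraMap k (PowerSeries k) s := rfl
  rw [this, AlgHom.commutes]

/-! ### Determination of algebra maps out of `k[[t]]` -/

/-- Two `k`-algebra maps out of `k[[t]]` into a `J`-adically separated algebra, which agree on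
`t` and send it into `J`, are equal. -/
theorem powerSeries_algHom_ext {B : Type*} [CommRing B] [Algebra k B] (J : Ideal B)
    (hJ : ⨅ n : ℕ, J ^ n = ⊥) (g₁ g₂ : PowerSeries k →ₐ[k] B)
    (h : g₁ PowerSeries.X = g₂ PowerSeries.X) (hX : g₁ PowerSeries.X ∈ J) : g₁ = g₂ := by
  have hpoly : ∀ p : Polynomial k, g₁ (p : PowerSeries k) = g₂ (p : PowerSeries k) := by
    intro p
    have : g₁.comp (Polynomial.coeToPowerSeries.algHom k) =
        g₂.comp (Polynomial.coeToPowerSeries.algHom k) := by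
      apply Polynomial.algHom_ext
      simpa [Polynomial.coeToPowerSeries.algHom_apply] using h
    have := DFunLike.congr_fun this p
    simpa [Polynomial.coeToPowerSeries.algHom_apply] using this
  ext a
  rw [← sub_eq_zero, ← Ideal.mem_bot, ← hJ, Ideal.mem_iInf]
  intro n
  rw [PowerSeries.eq_X_pow_mul_shift_add_trunc n a]
  simp only [map_add, map_mul, map_pow, hpoly]
  rw [← h]
  have : g₁ PowerSeries.X ^ n ∈ J ^ n := Ideal.pow_mem_pow hX n
  have e : ∀ u v w w' : B, u * v + w - (u * w' + w) = u * (v - w') := by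
    intro u v w w'
    ring
  rw [e]
  exact Ideal.mul_mem_right _ _ this

end Groth.Agent.Lib.Seat71.ArSingNF
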