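import Groth.Agent.Lib.Seat71ArSingSwap
import Groth.Agent.S14080
import Mathlib

set_option linter.style.haveILetI false
set_option linter.unusedSectionVars false

namespace Groth.Agent.Lib.Seat71.ArSingNodeAut

universe u

open Groth.Agent.Lib.Seat71.ArSingBasic Groth.Agent.Lib.Seat71.ArSingNF
  Groth.Agent.Lib.Seat71.ArSingParity Groth.Agent.Lib.Seat71.ArSingSwap

variable {k : Type u} [Field k]

@[simp] lemma P_xMap (a : PowerSeries k) : P (ArSing.xMap k 1 a) = a := by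
  rw [xMap_eq_Φ, P_Φ]; simp

@[simp] lemma Q_xMap (a : PowerSeries k) : Q (ArSing.xMap k 1 a) = a := by
  rw [xMap_eq_Φ, Q_Φ]; simp

lemma cc_P_eq_cc_Q (z : ArSing.ring k 1) :
    PowerSeries.constantCoeff (P z) = PowerSeries.constantCoeff (Q z) := by
  obtain ⟨a, b, rfl⟩ := Φ_surj 1 z
  rw [P_Φ, Q_Φ]
  simp

/-- The kernel of `Q` is the branch ideal `(x + y)`. -/
theorem ker_Q : RingHom.ker (Q : ArSing.ring k 1 →ₐ[k] PowerSeries k) =
    Ideal.span {ArSing.x k 1 + ArSing.y k 1} := by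
  apply le_antisymm
  · intro z hz
    rw [RingHom.mem_ker] at hz
    obtain ⟨a, b, rfl⟩ := Φ_surj 1 z
    change Q (Φ 1 a b) = 0 at hz
    rw [Q_Φ] at hz
    rw [Ideal.mem_span_singleton]
    refine ⟨ArSing.xMap k 1 b, ?_⟩
    have ha : a = PowerSeries.X * b := by linear_combination hz
    unfold Φ
    rw [ha, map_mul, xMap_X]
    ring
  · rw [Ideal.span_singleton_le_iff_mem, RingHom.mem_ker]
    exact Q_u

/-- Lifting a pair of maps to `k[[t]]` with equal constant terms to a map into the node. -/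
noncomputable def liftPQ (h2 : (2 : k) ≠ 0) {B : Type*} [CommRing B] [Algebra k B]
    (g₁ g₂ : B →ₐ[k] PowerSeries k)
    (hcc : ∀ z, PowerSeries.constantCoeff (g₁ z) = PowerSeries.constantCoeff (g₂ z)) :
    B →ₐ[k] ArSing.ring k 1 :=
  have hP : ∀ z, P ((exists_PQ h2 (g₁ z) (g₂ z) (hcc z)).choose) = g₁ z := fun z =>
    (exists_PQ h2 (g₁ z) (g₂ z) (hcc z)).choose_spec.1
  have hQ : ∀ z, Q ((exists_PQ h2 (g₁ z) (g₂ z) (hcc z)).choose) = g₂ z := fun z =>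
    (exists_PQ h2 (g₁ z) (g₂ z) (hcc z)).choose_spec.2
  { toFun := fun z => (exists_PQ h2 (g₁ z) (g₂ z) (hcc z)).choose
    map_one' := PQ_injective h2 (by rw [hP, map_one, map_one]) (by rw [hQ, map_one, map_one])
    map_mul' := fun z w => PQ_injective h2 (by rw [hP, map_mul, map_mul, hP, hP])
      (by rw [hQ, map_mul, map_mul, hQ, hQ])
    map_zero' := PQ_injective h2 (by rw [hP, map_zero, map_zero]) (by rw [hQ, map_zero, map_zero])
    map_add' := fun z w => PQ_injective h2 (by rw [hP, map_add, map_add, hP, hP])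
      (by rw [hQ, map_add, map_add, hQ, hQ])
    commutes' := fun s => PQ_injective h2 (by rw [hP, AlgHom.commutes, AlgHom.commutes])
      (by rw [hQ, AlgHom.commutes, AlgHom.commutes]) }

@[simp] lemma P_liftPQ (h2 : (2 : k) ≠ 0) {B : Type*} [CommRing B] [Algebra k B]
    (g₁ g₂ : B →ₐ[k] PowerSeries k)
    (hcc : ∀ z, PowerSeries.constantCoeff (g₁ z) = PowerSeries.constantCoeff (g₂ z)) (z : B) :
    P (liftPQ h2 g₁ g₂ hcc z) = g₁ z :=
  (exists_PQ h2 (g₁ z) (g₂ z) (hcc z)).choose_spec.1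

@[simp] lemma Q_liftPQ (h2 : (2 : k) ≠ 0) {B : Type*} [CommRing B] [Algebra k B]
    (g₁ g₂ : B →ₐ[k] PowerSeries k)
    (hcc : ∀ z, PowerSeries.constantCoeff (g₁ z) = PowerSeries.constantCoeff (g₂ z)) (z : B) :
    Q (liftPQ h2 g₁ g₂ hcc z) = g₂ z :=
  (exists_PQ h2 (g₁ z) (g₂ z) (hcc z)).choose_spec.2

lemma cc_branch (ψ₁ ψ₂ : PowerSeries k ≃ₐ[k] PowerSeries k) (z : ArSing.ring k 1) :
    PowerSeries.constantCoeff (((ψ₁ : PowerSeries k →ₐ[k] PowerSeries k).comp P) z) =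
      PowerSeries.constantCoeff (((ψ₂ : PowerSeries k →ₐ[k] PowerSeries k).comp Q) z) := by
  show PowerSeries.constantCoeff (ψ₁ (P z)) = PowerSeries.constantCoeff (ψ₂ (Q z))
  rw [Groth.Agent.S19996.constantCoeff_apply, Groth.Agent.S19996.constantCoeff_apply,
    cc_P_eq_cc_Q]

/-- The automorphism of the node acting by `ψ₁`, `ψ₂` on the two branches. -/
noncomputable def branchEquiv (h2 : (2 : k) ≠ 0) (ψ₁ ψ₂ : PowerSeries k ≃ₐ[k] PowerSeries k) :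
    ArSing.ring k 1 ≃ₐ[k] ArSing.ring k 1 :=
  AlgEquiv.ofAlgHom
    (liftPQ h2 ((ψ₁ : PowerSeries k →ₐ[k] PowerSeries k).comp P)
      ((ψ₂ : PowerSeries k →ₐ[k] PowerSeries k).comp Q) (cc_branch ψ₁ ψ₂))
    (liftPQ h2 ((ψ₁.symm : PowerSeries k →ₐ[k] PowerSeries k).comp P)
      ((ψ₂.symm : PowerSeries k →ₐ[k] PowerSeries k).comp Q) (cc_branch ψ₁.symm ψ₂.symm))
    (by
      ext z
      apply PQ_injective h2
      · simp
      · simp)
    (by
      ext z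
      apply PQ_injective h2
      · simp
      · simp)

@[simp] lemma P_branchEquiv (h2 : (2 : k) ≠ 0) (ψ₁ ψ₂ : PowerSeries k ≃ₐ[k] PowerSeries k)
    (z : ArSing.ring k 1) : P (branchEquiv h2 ψ₁ ψ₂ z) = ψ₁ (P z) :=
  P_liftPQ h2 _ _ (cc_branch ψ₁ ψ₂) z

@[simp] lemma Q_branchEquiv (h2 : (2 : k) ≠ 0) (ψ₁ ψ₂ : PowerSeries k ≃ₐ[k] PowerSeries k)
    (z : ArSing.ring k 1) : Q (branchEquiv h2 ψ₁ ψ₂ z) = ψ₂ (Q z) :=
  Q_liftPQ h2 _ _ (cc_branch ψ₁ ψ₂) z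

@[simp] lemma P_branchEquiv_symm (h2 : (2 : k) ≠ 0) (ψ₁ ψ₂ : PowerSeries k ≃ₐ[k] PowerSeries k)
    (z : ArSing.ring k 1) : P ((branchEquiv h2 ψ₁ ψ₂).symm z) = ψ₁.symm (P z) :=
  P_liftPQ h2 _ _ (cc_branch ψ₁.symm ψ₂.symm) z

@[simp] lemma Q_branchEquiv_symm (h2 : (2 : k) ≠ 0) (ψ₁ ψ₂ : PowerSeries k ≃ₐ[k] PowerSeries k)
    (z : ArSing.ring k 1) : Q ((branchEquiv h2 ψ₁ ψ₂).symm z) = ψ₂.symm (Q z) :=
  Q_liftPQ h2 _ _ (cc_branch ψ₁.symm ψ₂.symm) z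

lemma cc_QP (z : ArSing.ring k 1) :
    PowerSeries.constantCoeff (Q z) = PowerSeries.constantCoeff (P z) := (cc_P_eq_cc_Q z).symm

/-- The automorphism `x ↦ x`, `y ↦ -y` exchanging the two branches. -/
noncomputable def θ (h2 : (2 : k) ≠ 0) : ArSing.ring k 1 ≃ₐ[k] ArSing.ring k 1 :=
  AlgEquiv.ofAlgHom (liftPQ h2 Q P cc_QP) (liftPQ h2 Q P cc_QP)
    (by
      ext z
      apply PQ_injective h2
      · simp
      · simp)
    (by
      ext z
      apply PQ_injective h2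
      · simp
      · simp)

@[simp] lemma P_θ (h2 : (2 : k) ≠ 0) (z : ArSing.ring k 1) : P (θ h2 z) = Q z :=
  P_liftPQ h2 _ _ cc_QP z

@[simp] lemma Q_θ (h2 : (2 : k) ≠ 0) (z : ArSing.ring k 1) : Q (θ h2 z) = P z :=
  Q_liftPQ h2 _ _ cc_QP z

@[simp] lemma P_θ_symm (h2 : (2 : k) ≠ 0) (z : ArSing.ring k 1) : P ((θ h2).symm z) = Q z :=
  P_liftPQ h2 _ _ cc_QP z

@[simp] lemma Q_θ_symm (h2 : (2 : k) ≠ 0) (z : ArSing.ring k 1) : Q ((θ h2).symm z) = P z :=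
  Q_liftPQ h2 _ _ cc_QP z

end Groth.Agent.Lib.Seat71.ArSingNodeAut
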