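import Groth.Agent.Lib.Seat71ArSingFlat
import Mathlib

set_option linter.style.haveILetI false
set_option linter.unusedSectionVars false

namespace Groth.Agent.Lib.Seat71.ArSingParity

universe u

open Groth.Agent.Lib.Seat71.ArSingBasic Groth.Agent.Lib.Seat71.ArSingNF

variable {k : Type u} [Field k]

/-- `a(t) ↦ a(-t)`. -/
noncomputable def N : PowerSeries k →ₐ[k] PowerSeries k := PowerSeries.rescaleAlgHom (-1)

/-- `a(t) ↦ a(t^2)`. -/
noncomputable def E : PowerSeries k →ₐ[k] PowerSeries k := PowerSeries.expand 2 two_ne_zero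

/-- even part: `a = ev a (t^2) + t * od a (t^2)` -/
noncomputable def ev (a : PowerSeries k) : PowerSeries k :=
  PowerSeries.mk fun n => PowerSeries.coeff (2 * n) a

/-- odd part -/
noncomputable def od (a : PowerSeries k) : PowerSeries k :=
  PowerSeries.mk fun n => PowerSeries.coeff (2 * n + 1) a

lemma N_apply (a : PowerSeries k) : N a = PowerSeries.rescale (-1) a :=
  RingHom.congr_fun (PowerSeries.coe_rescaleAlgHom (-1 : k)) a

lemma coeff_N (a : PowerSeries k) (n : ℕ) :
    PowerSeries.coeff n (N a) = (-1) ^ n * PowerSeries.coeff n a := by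
  rw [N_apply, PowerSeries.coeff_rescale]

lemma N_X : N (PowerSeries.X : PowerSeries k) = -PowerSeries.X := by
  rw [N_apply, PowerSeries.rescale_X]
  simp

lemma coeff_E (a : PowerSeries k) (n : ℕ) :
    PowerSeries.coeff n (E a) = if 2 ∣ n then PowerSeries.coeff (n / 2) a else 0 :=
  PowerSeries.coeff_expand 2 two_ne_zero a

lemma E_X : E (PowerSeries.X : PowerSeries k) = PowerSeries.X ^ 2 :=
  PowerSeries.expand_X 2 two_ne_zero

lemma coeff_X_mul_E (a : PowerSeries k) (n : ℕ) :
    PowerSeries.coeff n (PowerSeries.X * E a) =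
      if n % 2 = 1 then PowerSeries.coeff (n / 2) a else 0 := by
  rcases n with _ | n
  · simp
  · rw [PowerSeries.coeff_succ_X_mul, coeff_E]
    by_cases h : 2 ∣ n
    · rw [if_pos h, if_pos (by omega), show (n + 1) / 2 = n / 2 from by omega]
    · rw [if_neg h, if_neg (by omega)]

theorem parity_decomp (a : PowerSeries k) : a = E (ev a) + PowerSeries.X * E (od a) := by
  ext n
  rw [map_add, coeff_E, coeff_X_mul_E]
  by_cases h : 2 ∣ n
  · rw [if_pos h, if_neg (by omega), add_zero, ev, PowerSeries.coeff_mk,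
      show 2 * (n / 2) = n from by omega]
  · rw [if_neg h, if_pos (by omega), zero_add, od, PowerSeries.coeff_mk,
      show 2 * (n / 2) + 1 = n from by omega]

@[simp] lemma ev_E_add (a b : PowerSeries k) : ev (E a + PowerSeries.X * E b) = a := by
  ext n
  rw [ev, PowerSeries.coeff_mk, map_add, coeff_E, coeff_X_mul_E, if_pos (by omega),
    if_neg (by omega), add_zero, show 2 * n / 2 = n from by omega]

@[simp] lemma od_E_add (a b : PowerSeries k) : od (E a + PowerSeries.X * E b) = b := by
  ext n
  rw [od, PowerSeries.coeff_mk, map_add, coeff_E, coeff_X_mul_E, if_neg (by omega),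
    if_pos (by omega), zero_add, show (2 * n + 1) / 2 = n from by omega]

lemma ev_E (a : PowerSeries k) : ev (E a) = a := by
  have := ev_E_add a 0
  simpa using this

lemma od_X_mul_E (b : PowerSeries k) : od (PowerSeries.X * E b) = b := by
  have := od_E_add 0 b
  simpa using this

lemma E_injective : Function.Injective (E : PowerSeries k → PowerSeries k) := by
  intro a b h
  rw [← ev_E a, ← ev_E b, h]

lemma N_E (a : PowerSeries k) : N (E a) = E a := by
  ext n
  rw [coeff_N, coeff_E]
  by_cases h : 2 ∣ n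
  · rw [if_pos h, Even.neg_one_pow (even_iff_two_dvd.2 h), one_mul]
  · rw [if_neg h, mul_zero]

lemma N_X_mul_E (a : PowerSeries k) : N (PowerSeries.X * E a) = -(PowerSeries.X * E a) := by
  rw [map_mul, N_X, N_E, neg_mul]

lemma N_eq (a : PowerSeries k) : N a = E (ev a) - PowerSeries.X * E (od a) := by
  conv_lhs => rw [parity_decomp a]
  rw [map_add, N_E, N_X_mul_E, sub_eq_add_neg]

theorem N_eq_self_iff (h2 : (2 : k) ≠ 0) (a : PowerSeries k) : N a = a ↔ od a = 0 := by
  constructor
  · intro h
    ext n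
    have := congrArg (PowerSeries.coeff (2 * n + 1)) h
    rw [coeff_N, Odd.neg_one_pow ⟨n, rfl⟩] at this
    rw [od, PowerSeries.coeff_mk, map_zero]
    have h3 : (2 : k) * PowerSeries.coeff (2 * n + 1) a = 0 := by linear_combination -this
    simpa [h2] using h3
  · intro h
    rw [N_eq, h, map_zero, mul_zero, sub_zero]
    conv_rhs => rw [parity_decomp a, h, map_zero, mul_zero, add_zero]

theorem N_eq_neg_self_iff (h2 : (2 : k) ≠ 0) (a : PowerSeries k) : N a = -a ↔ ev a = 0 := by
  constructor
  · intro h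
    ext n
    have := congrArg (PowerSeries.coeff (2 * n)) h
    rw [coeff_N, Even.neg_one_pow ⟨n, by ring⟩, map_neg] at this
    rw [ev, PowerSeries.coeff_mk, map_zero]
    have h3 : (2 : k) * PowerSeries.coeff (2 * n) a = 0 := by linear_combination this
    simpa [h2] using h3
  · intro h
    rw [N_eq, h, map_zero, zero_sub]
    conv_rhs => rw [parity_decomp a, h, map_zero, zero_add]

lemma N_sub_self (a : PowerSeries k) : N a - a = PowerSeries.X * (-2 * E (od a)) := by
  have h := parity_decomp a
  have h' := N_eq a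
  linear_combination h' - h

/-! ### Flatness criterion -/

/-- If `φ` is flat and `φ f₁ * s₁ + φ f₂ * s₂ = 0`, then `s₁` lies in the extension of the
colon ideal `((f₂) : f₁)`. -/
theorem mem_map_of_flat_of_relation {R S : Type*} [CommRing R] [CommRing S] (φ : R →+* S)
    (hφ : φ.Flat) (f₁ f₂ : R) (s₁ s₂ : S) (h : φ f₁ * s₁ + φ f₂ * s₂ = 0) (I : Ideal R)
    (hI : ∀ a b, f₁ * a + f₂ * b = 0 → a ∈ I) : s₁ ∈ Ideal.map φ I := by
  letI : Algebra R S := φ.toAlgebra
  haveI : Module.Flat R S := hφ
  have hsmul : ∀ (a : R) (s : S), a • s = φ a * s := fun a s => by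
    rw [Algebra.smul_def]; rfl
  obtain ⟨n, a, y, hy, ha⟩ := Module.Flat.isTrivialRelation_of_sum_smul_eq_zero (R := R) (M := S)
    (f := ![f₁, f₂]) (x := ![s₁, s₂]) (by
      rw [Fin.sum_univ_two]
      simp only [Matrix.cons_val_zero, Matrix.cons_val_one]
      rw [hsmul, hsmul]
      exact h)
  have h0 := hy 0
  simp only [Matrix.cons_val_zero] at h0
  rw [h0]
  refine Ideal.sum_mem _ fun j _ => ?_
  rw [hsmul]
  refine Ideal.mul_mem_right _ _ (Ideal.mem_map_of_mem _ (hI (a 0 j) (a 1 j) ?_))
  have := ha j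
  rw [Fin.sum_univ_two] at this
  simpa using this

end Groth.Agent.Lib.Seat71.ArSingParity
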