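import Groth.Agent.Lib.Seat71ArSingNF
import Mathlib

set_option linter.style.haveILetI false
set_option linter.unusedSectionVars false

namespace Groth.Agent.Lib.Seat71.ArSingNF

universe u

open MvPowerSeries (X coeff)
open Groth.Agent.Lib.Seat71.ArSingBasic

variable {k : Type u} [Field k]

/-! ### Coordinates -/

/-- first coordinate in the basis `1, y` over `k[[x]]` -/
noncomputable def co0 (r : ℕ) (z : ArSing.ring k r) : PowerSeries k := (Φ_surj r z).choose
/-- second coordinate in the basis `1, y` over `k[[x]]` -/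
noncomputable def co1 (r : ℕ) (z : ArSing.ring k r) : PowerSeries k :=
  (Φ_surj r z).choose_spec.choose

lemma Φ_co (r : ℕ) (z : ArSing.ring k r) : Φ r (co0 r z) (co1 r z) = z :=
  (Φ_surj r z).choose_spec.choose_spec.symm

@[simp] lemma co0_Φ (r : ℕ) (a b : PowerSeries k) : co0 r (Φ r a b) = a :=
  (Φ_inj r (Φ_co r (Φ r a b))).1

@[simp] lemma co1_Φ (r : ℕ) (a b : PowerSeries k) : co1 r (Φ r a b) = b :=
  (Φ_inj r (Φ_co r (Φ r a b))).2

lemma ring_ext (r : ℕ) {z w : ArSing.ring k r} (h0 : co0 r z = co0 r w) (h1 : co1 r z = co1 r w) :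
    z = w := by
  rw [← Φ_co r z, ← Φ_co r w, h0, h1]

/-! ### Separatedness -/

lemma powerSeries_eq_zero_of_forall_X_pow_dvd {a : PowerSeries k}
    (h : ∀ n : ℕ, (PowerSeries.X : PowerSeries k) ^ n ∣ a) : a = 0 := by
  ext i
  have := (PowerSeries.X_pow_dvd_iff).1 (h (i + 1)) i (Nat.lt_succ_self i)
  simpa using this

theorem powerSeries_iInf_span_X_pow :
    ⨅ n : ℕ, (Ideal.span {(PowerSeries.X : PowerSeries k)}) ^ n = ⊥ := by
  rw [eq_bot_iff]
  intro z hz
  rw [Ideal.mem_iInf] at hz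
  rw [Ideal.mem_bot]
  apply powerSeries_eq_zero_of_forall_X_pow_dvd
  intro n
  have := hz n
  rwa [Ideal.span_singleton_pow, Ideal.mem_span_singleton] at this

theorem iInf_span_x_pow (r : ℕ) : ⨅ n : ℕ, (Ideal.span {ArSing.x k r}) ^ n = ⊥ := by
  rw [eq_bot_iff]
  intro z hz
  rw [Ideal.mem_iInf] at hz
  rw [Ideal.mem_bot]
  obtain ⟨a, b, rfl⟩ := Φ_surj r z
  have key : ∀ n : ℕ, (PowerSeries.X : PowerSeries k) ^ n ∣ a ∧
      (PowerSeries.X : PowerSeries k) ^ n ∣ b := by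
    intro n
    have := hz n
    rw [Ideal.span_singleton_pow, Ideal.mem_span_singleton] at this
    obtain ⟨w, hw⟩ := this
    obtain ⟨c, d, rfl⟩ := Φ_surj r w
    rw [x_pow_mul_Φ] at hw
    obtain ⟨h1, h2⟩ := Φ_inj r hw
    exact ⟨⟨c, h1⟩, ⟨d, h2⟩⟩
  rw [powerSeries_eq_zero_of_forall_X_pow_dvd fun n => (key n).1,
    powerSeries_eq_zero_of_forall_X_pow_dvd fun n => (key n).2, Φ_zero]

/-- `k`-algebra maps out of `A_r` into a separated algebra are determined by the images of `x`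
and `y`, provided `x` goes into the ideal. -/
theorem ring_algHom_ext {r : ℕ} {B : Type*} [CommRing B] [Algebra k B] (J : Ideal B)
    (hJ : ⨅ n : ℕ, J ^ n = ⊥) (g₁ g₂ : ArSing.ring k r →ₐ[k] B)
    (hx : g₁ (ArSing.x k r) = g₂ (ArSing.x k r)) (hy : g₁ (ArSing.y k r) = g₂ (ArSing.y k r))
    (hxJ : g₁ (ArSing.x k r) ∈ J) : g₁ = g₂ := by
  have h : g₁.comp (ArSing.xMap k r) = g₂.comp (ArSing.xMap k r) := by
    apply powerSeries_algHom_ext J hJ
    · simpa [xMap_X] using hx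
    · simpa [xMap_X] using hxJ
  have h' : ∀ a, g₁ (ArSing.xMap k r a) = g₂ (ArSing.xMap k r a) := fun a =>
    DFunLike.congr_fun h a
  ext z
  obtain ⟨a, b, rfl⟩ := Φ_surj r z
  unfold Φ
  rw [map_add, map_add, map_mul, map_mul, h', h', hy]

/-- Algebra maps between the `A_r` commute with `xMap` along a continuous endomorphism of `k[[t]]`. -/
theorem algHom_xMap {r' r : ℕ} (g : ArSing.ring k r' →ₐ[k] ArSing.ring k r)
    (s : PowerSeries k →ₐ[k] PowerSeries k)
    (h : g (ArSing.x k r') = ArSing.xMap k r (s PowerSeries.X))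
    (hs : PowerSeries.constantCoeff (s PowerSeries.X) = 0) (a : PowerSeries k) :
    g (ArSing.xMap k r' a) = ArSing.xMap k r (s a) := by
  have h1 : g.comp (ArSing.xMap k r') = (ArSing.xMap k r).comp s := by
    apply powerSeries_algHom_ext (Ideal.span {ArSing.x k r}) (iInf_span_x_pow r)
    · simpa [xMap_X] using h
    · rw [AlgHom.comp_apply, xMap_X, h]
      obtain ⟨w, hw⟩ := PowerSeries.X_dvd_iff.2 hs
      rw [hw, map_mul, xMap_X]
      exact Ideal.mul_mem_right _ _ (Ideal.subset_span rfl)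
  exact DFunLike.congr_fun h1 a

/-! ### Units, non-zero-divisors -/

lemma x_mul_eq_zero (r : ℕ) {z : ArSing.ring k r} (h : ArSing.x k r * z = 0) : z = 0 := by
  obtain ⟨a, b, rfl⟩ := Φ_surj r z
  rw [x_mul_Φ] at h
  obtain ⟨h1, h2⟩ := Φ_eq_zero r h
  have hX : (PowerSeries.X : PowerSeries k) ≠ 0 := PowerSeries.X_ne_zero
  rw [(mul_eq_zero.1 h1).resolve_left hX, (mul_eq_zero.1 h2).resolve_left hX, Φ_zero]

lemma y_mul_eq_zero (r : ℕ) {z : ArSing.ring k r} (h : ArSing.y k r * z = 0) : z = 0 := by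
  obtain ⟨a, b, rfl⟩ := Φ_surj r z
  rw [y_mul_Φ] at h
  obtain ⟨h1, h2⟩ := Φ_eq_zero r h
  have hX : (PowerSeries.X : PowerSeries k) ^ (r + 1) ≠ 0 := pow_ne_zero _ PowerSeries.X_ne_zero
  rw [(mul_eq_zero.1 h1).resolve_left hX, h2, Φ_zero]

lemma x_mem_nonZeroDivisors (r : ℕ) : ArSing.x k r ∈ nonZeroDivisors (ArSing.ring k r) := by
  rw [mem_nonZeroDivisors_iff_right]
  intro z hz
  exact x_mul_eq_zero r (by rw [mul_comm]; exact hz)

lemma y_mem_nonZeroDivisors (r : ℕ) : ArSing.y k r ∈ nonZeroDivisors (ArSing.ring k r) := by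
  rw [mem_nonZeroDivisors_iff_right]
  intro z hz
  exact y_mul_eq_zero r (by rw [mul_comm]; exact hz)

lemma isUnit_Φ (r : ℕ) {a : PowerSeries k} (b : PowerSeries k)
    (ha : PowerSeries.constantCoeff a ≠ 0) : IsUnit (Φ r a b) := by
  have h1 : Φ r a b * Φ r a (-b) =
      ArSing.xMap k r (a * a - PowerSeries.X ^ (r + 1) * (b * b)) := by
    rw [Φ_mul, xMap_eq_Φ]
    congr 1 <;> ring
  have h2 : IsUnit (a * a - PowerSeries.X ^ (r + 1) * (b * b)) := by
    rw [PowerSeries.isUnit_iff_constantCoeff]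
    simp only [map_sub, map_mul, map_pow, PowerSeries.constantCoeff_X]
    rw [zero_pow (Nat.succ_ne_zero r), zero_mul, sub_zero]
    exact (isUnit_iff_ne_zero.2 ha).mul (isUnit_iff_ne_zero.2 ha)
  exact isUnit_of_mul_isUnit_left (h1 ▸ h2.map (ArSing.xMap k r))

lemma mem_span_x_y_of_constantCoeff (r : ℕ) {a : PowerSeries k} (b : PowerSeries k)
    (ha : PowerSeries.constantCoeff a = 0) :
    Φ r a b ∈ Ideal.span {ArSing.x k r, ArSing.y k r} := by
  obtain ⟨w, hw⟩ := PowerSeries.X_dvd_iff.2 ha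
  unfold Φ
  rw [hw, map_mul, xMap_X]
  refine Ideal.add_mem _ (Ideal.mul_mem_right _ _ (Ideal.subset_span (by simp)))
    (Ideal.mul_mem_left _ _ (Ideal.subset_span (by simp)))

lemma constantCoeff_co0_of_mem_span_x_y (r : ℕ) {z : ArSing.ring k r}
    (hz : z ∈ Ideal.span {ArSing.x k r, ArSing.y k r}) :
    PowerSeries.constantCoeff (co0 r z) = 0 := by
  rw [Ideal.mem_span_pair] at hz
  obtain ⟨u, v, rfl⟩ := hz
  obtain ⟨a, b, rfl⟩ := Φ_surj r u
  obtain ⟨c, d, rfl⟩ := Φ_surj r v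
  rw [mul_comm _ (ArSing.x k r), mul_comm _ (ArSing.y k r), x_mul_Φ, y_mul_Φ, Φ_add, co0_Φ]
  simp

lemma span_x_y_ne_top (r : ℕ) : Ideal.span {ArSing.x k r, ArSing.y k r} ≠ ⊤ := by
  intro h
  have h1 : (1 : ArSing.ring k r) ∈ Ideal.span {ArSing.x k r, ArSing.y k r} := by
    rw [h]; trivial
  have := constantCoeff_co0_of_mem_span_x_y r h1
  rw [one_eq_Φ, co0_Φ] at this
  simp at this

/-- Every proper ideal of `A_r` lies in `(x, y)`. -/
lemma le_span_x_y_of_ne_top (r : ℕ) {I : Ideal (ArSing.ring k r)} (hI : I ≠ ⊤) :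
    I ≤ Ideal.span {ArSing.x k r, ArSing.y k r} := by
  intro z hz
  obtain ⟨a, b, rfl⟩ := Φ_surj r z
  by_cases ha : PowerSeries.constantCoeff a = 0
  · exact mem_span_x_y_of_constantCoeff r b ha
  · exact absurd (Ideal.eq_top_of_isUnit_mem _ hz (isUnit_Φ r b ha)) hI

end Groth.Agent.Lib.Seat71.ArSingNF
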