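import Mathlib

/-!
# Substitution of power series with topologically nilpotent constant terms (seat 71)

Let `A` be `I`-adically complete. For a family `a : σ → MvPowerSeries τ A` whose constant coefficients lie
in `I` (instead of being nilpotent), we construct the `A`-algebra homomorphism
`csubst : MvPowerSeries σ A →ₐ[A] MvPowerSeries τ A`, `X s ↦ a s`, as the inverse limit of the ordinary
substitutions modulo `I ^ N`. It is characterised by `map_csubst`:
`map (mk (I^N)) (csubst a F) = subst (map (mk (I^N)) ∘ a) (map (mk (I^N)) F)`.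
-/

set_option autoImplicit false
universe u

namespace Groth.Agent.Lib.Seat71.CSubst

open MvPowerSeries

variable {A : Type u} [CommRing A] (I : Ideal A)

/-- Reduction modulo `I ^ N`. -/
abbrev red (N : ℕ) : A →+* A ⧸ I ^ N := Ideal.Quotient.mk (I ^ N)

section Limits

variable [IsAdicComplete I A]

lemma smodEq_iff (N : ℕ) (x y : A) :
    x ≡ y [SMOD (I ^ N • ⊤ : Submodule A A)] ↔ red I N x = red I N y := by
  rw [SModEq.sub_mem, smul_eq_mul, Ideal.mul_top, Ideal.Quotient.eq]

lemma eq_of_red_eq (x y : A) (h : ∀ N, red I N x = red I N y) : x = y := by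
  rw [IsHausdorff.eq_iff_smodEq (I := I)]
  intro N
  exact (smodEq_iff I N x y).2 (h N)

lemma exists_lim (u : ∀ N, A ⧸ I ^ N)
    (hu : ∀ (N M : ℕ) (h : N ≤ M), Ideal.Quotient.factor (Ideal.pow_le_pow_right h) (u M) = u N) :
    ∃ L : A, ∀ N, red I N L = u N := by
  choose v hv using fun N => Ideal.Quotient.mk_surjective (u N)
  have hprec := IsPrecomplete.prec (I := I) (M := A) inferInstance (f := v) (by
    intro m n hmn
    rw [smodEq_iff, hv m, ← hu m n hmn, ← hv n, Ideal.Quotient.factor_mk])
  obtain ⟨L, hL⟩ := hprec
  refine ⟨L, fun N => ?_⟩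
  rw [← (smodEq_iff I N _ _).1 (hL N), hv]

end Limits

variable {σ τ υ : Type*} [Finite σ]

lemma hasSubst_red {a : σ → MvPowerSeries τ A} (ha : ∀ s, constantCoeff (a s) ∈ I) (N : ℕ) :
    HasSubst (fun s => map (red I N) (a s)) := by
  apply hasSubst_of_constantCoeff_nilpotent
  intro s
  refine ⟨N, ?_⟩
  rw [constantCoeff_map, ← map_pow, Ideal.Quotient.eq_zero_iff_mem]
  exact Ideal.pow_mem_pow (ha s) N

/-- The substitution modulo `I ^ N`. -/
noncomputable def level (a : σ → MvPowerSeries τ A) (N : ℕ) (F : MvPowerSeries σ A) :
    MvPowerSeries τ (A ⧸ I ^ N) :=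
  subst (fun s => map (red I N) (a s)) (map (red I N) F)

lemma level_compat {a : σ → MvPowerSeries τ A} (ha : ∀ s, constantCoeff (a s) ∈ I) {N M : ℕ}
    (h : N ≤ M) (F : MvPowerSeries σ A) :
    map (Ideal.Quotient.factor (Ideal.pow_le_pow_right h)) (level I a M F) = level I a N F := by
  unfold level
  rw [map_subst (hasSubst_red I ha M)]
  simp only [map_map, Ideal.Quotient.factor_comp_mk]

lemma ext_red [IsAdicComplete I A] {G G' : MvPowerSeries τ A}
    (h : ∀ N, map (red I N) G = map (red I N) G') : G = G' := by
  ext e
  apply eq_of_red_eq I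
  intro N
  have := congrArg (coeff e) (h N)
  rwa [coeff_map, coeff_map] at this

variable [IsAdicComplete I A]

lemma exists_csubst {a : σ → MvPowerSeries τ A} (ha : ∀ s, constantCoeff (a s) ∈ I)
    (F : MvPowerSeries σ A) (e : τ →₀ ℕ) :
    ∃ L : A, ∀ N, red I N L = coeff e (level I a N F) := by
  apply exists_lim I (fun N => coeff e (level I a N F))
  intro N M h
  rw [← level_compat I ha h F, coeff_map]

/-- The underlying function of `csubst`. -/
noncomputable def csubstFun (a : σ → MvPowerSeries τ A) (ha : ∀ s, constantCoeff (a s) ∈ I)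
    (F : MvPowerSeries σ A) : MvPowerSeries τ A :=
  fun e => Classical.choose (exists_csubst I ha F e)

lemma map_csubstFun (a : σ → MvPowerSeries τ A) (ha : ∀ s, constantCoeff (a s) ∈ I)
    (F : MvPowerSeries σ A) (N : ℕ) :
    map (red I N) (csubstFun I a ha F) = level I a N F := by
  ext e
  rw [coeff_map]
  exact Classical.choose_spec (exists_csubst I ha F e) N

/-- Complete substitution `X s ↦ a s`, for `a s` with constant coefficient in `I`. -/
noncomputable def csubst (a : σ → MvPowerSeries τ A) (ha : ∀ s, constantCoeff (a s) ∈ I) :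
    MvPowerSeries σ A →ₐ[A] MvPowerSeries τ A where
  toFun := csubstFun I a ha
  map_one' := by
    apply ext_red I
    intro N
    rw [map_csubstFun, level, map_one, map_one, ← coe_substAlgHom (hasSubst_red I ha N), map_one]
  map_mul' F G := by
    apply ext_red I
    intro N
    rw [map_csubstFun, map_mul, map_csubstFun, map_csubstFun, level, level, level, map_mul,
      subst_mul (hasSubst_red I ha N)]
  map_zero' := by
    apply ext_red I
    intro N
    rw [map_csubstFun, level, map_zero, map_zero, ← coe_substAlgHom (hasSubst_red I ha N), map_zero]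
  map_add' F G := by
    apply ext_red I
    intro N
    rw [map_csubstFun, map_add, map_csubstFun, map_csubstFun, level, level, level, map_add,
      subst_add (hasSubst_red I ha N)]
  commutes' r := by
    apply ext_red I
    intro N
    rw [map_csubstFun, level]
    have : algebraMap A (MvPowerSeries σ A) r = C r := rfl
    rw [this, map_C, subst_C]
    have : algebraMap A (MvPowerSeries τ A) r = C r := rfl
    rw [this, map_C]

/-- The characterising property of `csubst`. -/
theorem map_csubst (a : σ → MvPowerSeries τ A) (ha : ∀ s, constantCoeff (a s) ∈ I)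
    (F : MvPowerSeries σ A) (N : ℕ) :
    map (red I N) (csubst I a ha F) =
      subst (fun s => map (red I N) (a s)) (map (red I N) F) :=
  map_csubstFun I a ha F N

theorem csubst_X (a : σ → MvPowerSeries τ A) (ha : ∀ s, constantCoeff (a s) ∈ I) (s : σ) :
    csubst I a ha (X s) = a s := by
  apply ext_red I
  intro N
  rw [map_csubst, map_X, subst_X (hasSubst_red I ha N)]

theorem csubst_C (a : σ → MvPowerSeries τ A) (ha : ∀ s, constantCoeff (a s) ∈ I) (r : A) :
    csubst I a ha (C r) = C r :=
  (csubst I a ha).commutes r

/-- When ordinary substitution is defined, `csubst` agrees with it. -/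
theorem csubst_eq_subst (a : σ → MvPowerSeries τ A) (ha : ∀ s, constantCoeff (a s) ∈ I)
    (ha' : HasSubst a) (F : MvPowerSeries σ A) : csubst I a ha F = subst a F := by
  apply ext_red I
  intro N
  rw [map_csubst, map_subst ha']

/-- The constant coefficient of a complete substitution into a series with constant coefficient in `I`
lies in `I`. -/
theorem constantCoeff_csubst_mem (a : σ → MvPowerSeries τ A) (ha : ∀ s, constantCoeff (a s) ∈ I)
    (F : MvPowerSeries σ A) (hF : constantCoeff F ∈ I) : constantCoeff (csubst I a ha F) ∈ I := by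
  have h1 := congrArg constantCoeff (map_csubst I a ha F 1)
  rw [constantCoeff_map] at h1
  have h2 : constantCoeff (subst (fun s => map (red I 1) (a s)) (map (red I 1) F)) = 0 := by
    apply constantCoeff_subst_eq_zero (hasSubst_red I ha 1)
    · intro s
      rw [constantCoeff_map, Ideal.Quotient.eq_zero_iff_mem, pow_one]
      exact ha s
    · rw [constantCoeff_map, Ideal.Quotient.eq_zero_iff_mem, pow_one]
      exact hF
  rw [h2, Ideal.Quotient.eq_zero_iff_mem, pow_one] at h1
  exact h1

/-- Composition of complete substitutions. -/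
theorem csubst_comp [Finite τ] (a : σ → MvPowerSeries τ A) (ha : ∀ s, constantCoeff (a s) ∈ I)
    (b : τ → MvPowerSeries υ A) (hb : ∀ t, constantCoeff (b t) ∈ I) (F : MvPowerSeries σ A) :
    csubst I b hb (csubst I a ha F) =
      csubst I (fun s => csubst I b hb (a s))
        (fun s => constantCoeff_csubst_mem I b hb (a s) (ha s)) F := by
  apply ext_red I
  intro N
  rw [map_csubst, map_csubst, map_csubst,
    subst_comp_subst_apply (hasSubst_red I ha N) (hasSubst_red I hb N)]
  congr 1
  funext s
  rw [map_csubst]

end Groth.Agent.Lib.Seat71.CSubst
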