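import Mathlib

/-!
# The chain rule for substitution of multivariate power series (seat 71)

`pderiv_subst`: for `a : σ → MvPowerSeries τ R` with `HasSubst a` (`σ` finite),
`∂_t (F(a)) = ∑ s, ∂_t (a s) * (∂_s F)(a)`. Proved by density of polynomials in the product topology
(with the discrete topology on `R`). Also `continuous_pderiv`, `pderiv_aeval`, `map_pderiv`.
-/

set_option autoImplicit false
universe u

namespace Groth.Agent.Lib.Seat71.ChainRule

open MvPowerSeries
open scoped MvPowerSeries.WithPiTopology

variable {σ τ : Type*} {R : Type*} [CommRing R]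

lemma continuous_pderiv [UniformSpace R] [DiscreteUniformity R] (i : σ) :
    Continuous (pderiv R i : MvPowerSeries σ R → MvPowerSeries σ R) := by
  apply continuous_pi
  intro d
  have : (fun f : MvPowerSeries σ R => (pderiv R i f) d) =
      fun f => coeff (d + Finsupp.single i 1) f * ((d i : R) + 1) := by
    funext f
    exact coeff_pderiv (R := R) f d
  rw [this]
  exact (continuous_of_discreteTopology (f := fun x : R => x * ((d i : R) + 1))).comp
    (WithPiTopology.continuous_coeff R _)

/-- Chain rule on polynomials. -/
lemma pderiv_aeval [Fintype σ] (a : σ → MvPowerSeries τ R) (t : τ) (p : MvPolynomial σ R) :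
    pderiv R t (MvPolynomial.aeval a p) =
      ∑ s, pderiv R t (a s) * MvPolynomial.aeval a (MvPolynomial.pderiv s p) := by
  classical
  induction p using MvPolynomial.induction_on with
  | C r =>
    simp only [MvPolynomial.aeval_C, MvPolynomial.pderiv_C, map_zero, mul_zero,
      Finset.sum_const_zero]
    exact (pderiv R t).map_algebraMap r
  | add p q hp hq =>
    simp only [map_add, hp, hq, mul_add, Finset.sum_add_distrib]
  | mul_X p j hp =>
    simp only [map_mul, MvPolynomial.aeval_X, Derivation.leibniz, hp, MvPolynomial.pderiv_X,
      smul_eq_mul, map_add, Pi.single_apply, mul_add, Finset.sum_add_distrib, apply_ite,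
      map_zero, mul_one, mul_zero, Finset.sum_ite_eq, Finset.mem_univ, if_true,
      Finset.mul_sum]
    congr 1
    · ring
    · refine Finset.sum_congr rfl fun s _ => ?_
      ring

/-- **Chain rule** for substitution of multivariate power series. -/
theorem pderiv_subst [Fintype σ] {a : σ → MvPowerSeries τ R} (ha : HasSubst a) (t : τ)
    (F : MvPowerSeries σ R) :
    pderiv R t (subst a F) = ∑ s, pderiv R t (a s) * subst a (pderiv R s F) := by
  let _ : UniformSpace R := ⊥
  have _ : DiscreteUniformity R := ⟨rfl⟩
  have h1 : Continuous fun F : MvPowerSeries σ R => pderiv R t (subst a F) :=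
    (continuous_pderiv t).comp (continuous_subst ha)
  have h2 : Continuous fun F : MvPowerSeries σ R =>
      ∑ s, pderiv R t (a s) * subst a (pderiv R s F) :=
    continuous_finsetSum _ fun s _ =>
      continuous_const.mul ((continuous_subst ha).comp (continuous_pderiv s))
  have := DenseRange.equalizer WithPiTopology.denseRange_toMvPowerSeries h1 h2 (funext fun p => ?_)
  · exact congrFun this F
  · show pderiv R t (subst a (p : MvPowerSeries σ R)) =
      ∑ s, pderiv R t (a s) * subst a (pderiv R s (p : MvPowerSeries σ R))
    simp only [pderiv_coe, subst_coe]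
    exact pderiv_aeval a t p

/-- Partial derivatives commute with base change of coefficients. -/
lemma map_pderiv {S : Type*} [CommRing S] (f : R →+* S) (i : σ) (F : MvPowerSeries σ R) :
    map f (pderiv R i F) = pderiv S i (map f F) := by
  ext d
  rw [coeff_map, coeff_pderiv, coeff_pderiv, coeff_map, map_mul, map_add, map_one, map_natCast]

/-- Chain rule for a translation `X s ↦ X s + C (c s)` (`c s` nilpotent). -/
theorem pderiv_subst_translate [Fintype σ] (c : σ → R)
    (ha : HasSubst (fun s => (X s + C (c s) : MvPowerSeries σ R))) (t : σ)
    (F : MvPowerSeries σ R) :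
    pderiv R t (subst (fun s => (X s + C (c s) : MvPowerSeries σ R)) F) =
      subst (fun s => (X s + C (c s) : MvPowerSeries σ R)) (pderiv R t F) := by
  classical
  rw [pderiv_subst ha]
  simp only [map_add, pderiv_X, pderiv_C, add_zero, Pi.single_apply, ite_mul, one_mul, zero_mul,
    Finset.sum_ite_eq', Finset.mem_univ, if_true]

end Groth.Agent.Lib.Seat71.ChainRule
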