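import Mathlib

set_option autoImplicit false
universe u

namespace Groth.Agent.Lib.Seat71.CompleteDVR

open MvPowerSeries

variable (k : Type u) [Field k]

/-- The coefficient domain `k[[t₂]]`. -/
abbrev D1 : Type u := MvPowerSeries (Fin 1) k

/-- The algebraically closed field `K̄`, `K = Frac k[[t₂]]`. -/
abbrev Kbar : Type u := AlgebraicClosure (FractionRing (D1 k))

/-- The target complete DVR `K̄[[t₁]]`. -/
abbrev Atgt : Type u := PowerSeries (Kbar k)

/-- The embedding `k[[t₂]] → K̄` as an algebra map. -/
noncomputable def iota : D1 k →ₐ[k] Kbar k :=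
  IsScalarTower.toAlgHom k (D1 k) (Kbar k)

theorem iota_injective : Function.Injective (iota k) := by
  have h1 : Function.Injective (algebraMap (D1 k) (FractionRing (D1 k))) :=
    IsFractionRing.injective _ _
  have h2 : Function.Injective (algebraMap (FractionRing (D1 k)) (Kbar k)) :=
    (algebraMap (FractionRing (D1 k)) (Kbar k)).injective
  intro a b hab
  apply h1
  apply h2
  have : ∀ x : D1 k, iota k x = algebraMap (FractionRing (D1 k)) (Kbar k)
      (algebraMap (D1 k) (FractionRing (D1 k)) x) := by
    intro x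
    show algebraMap (D1 k) (Kbar k) x = _
    rw [IsScalarTower.algebraMap_apply (D1 k) (FractionRing (D1 k)) (Kbar k)]
  rw [← this, ← this, hab]

/-- The map `k[[t₁,t₂]] → K̄[[t₁]]`. -/
noncomputable def psi : MvPowerSeries (Fin 2) k →ₐ[k] Atgt k :=
  (PowerSeries.mapAlgHom (iota k)).comp (MvPowerSeries.finSuccEquiv k 1).toAlgHom

theorem psi_apply (f : MvPowerSeries (Fin 2) k) :
    psi k f = PowerSeries.map (iota k : D1 k →+* Kbar k) (MvPowerSeries.finSuccEquiv k 1 f) := rfl

theorem psi_injective : Function.Injective (psi k) := by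
  intro a b hab
  rw [psi_apply, psi_apply] at hab
  have := PowerSeries.map_injective (iota k : D1 k →+* Kbar k) (iota_injective k) hab
  exact (MvPowerSeries.finSuccEquiv k 1).injective this

theorem psi_X0 : psi k (MvPowerSeries.X 0) = PowerSeries.X := by
  rw [psi_apply, MvPowerSeries.finSuccEquiv_X_zero, PowerSeries.map_X]

theorem constantCoeff_psi_eq_zero_iff (f : MvPowerSeries (Fin 2) k) :
    PowerSeries.constantCoeff (psi k f) = 0 ↔
      f ∈ Ideal.span {(MvPowerSeries.X 0 : MvPowerSeries (Fin 2) k)} := by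
  rw [← PowerSeries.X_dvd_iff, Ideal.mem_span_singleton]
  constructor
  · intro h
    have h1 : PowerSeries.constantCoeff (psi k f) = 0 := PowerSeries.X_dvd_iff.1 h
    rw [psi_apply] at h1
    have h2 : (iota k) (PowerSeries.constantCoeff (MvPowerSeries.finSuccEquiv k 1 f)) = 0 := by
      rw [← h1, ← PowerSeries.coeff_zero_eq_constantCoeff_apply,
        ← PowerSeries.coeff_zero_eq_constantCoeff_apply, PowerSeries.coeff_map]
      rfl
    have h3 : PowerSeries.constantCoeff (MvPowerSeries.finSuccEquiv k 1 f) = 0 :=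
      iota_injective k (by rw [h2, map_zero])
    obtain ⟨g, hg⟩ := PowerSeries.X_dvd_iff.2 h3
    refine ⟨(MvPowerSeries.finSuccEquiv k 1).symm g, ?_⟩
    apply (MvPowerSeries.finSuccEquiv k 1).injective
    rw [map_mul, MvPowerSeries.finSuccEquiv_X_zero, AlgEquiv.apply_symm_apply, hg]
  · rintro ⟨g, rfl⟩
    rw [map_mul, psi_X0]
    exact dvd_mul_right _ _


theorem main (k : Type u) [Field k]
    (P : Ideal (MvPowerSeries (Fin 2) k))
    (hP : P = Ideal.span {(MvPowerSeries.X 0 : MvPowerSeries (Fin 2) k)}) [P.IsPrime] :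
    ∃ (A : Type u) (_ : CommRing A) (_ : IsDomain A) (_ : IsDiscreteValuationRing A) (_ : Algebra k A)
      (φ : Localization.AtPrime P →ₐ[k] A),
      IsAdicComplete (IsLocalRing.maximalIdeal A) A ∧ IsAlgClosed (IsLocalRing.ResidueField A) ∧
        Function.Injective φ ∧ IsLocalHom φ.toRingHom ∧
          Irreducible (φ (algebraMap (MvPowerSeries (Fin 2) k) (Localization.AtPrime P)
            (MvPowerSeries.X 0))) := by
  have hunit_iff : ∀ f : MvPowerSeries (Fin 2) k, IsUnit (psi k f) ↔ f ∉ P := by
    intro f
    rw [PowerSeries.isUnit_iff_constantCoeff, isUnit_iff_ne_zero, Ne,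
      constantCoeff_psi_eq_zero_iff, ← hP]
  have hunit : ∀ y : P.primeCompl, IsUnit (psi k y) := fun y => (hunit_iff y).2 y.2
  let φ : Localization.AtPrime P →ₐ[k] Atgt k :=
    IsLocalization.liftAlgHom (M := P.primeCompl) hunit
  have hφ : ∀ f, φ (algebraMap _ _ f) = psi k f := by
    intro f
    show IsLocalization.lift hunit (algebraMap _ _ f) = psi k f
    rw [IsLocalization.lift_eq]
    rfl
  refine ⟨Atgt k, inferInstance, inferInstance, inferInstance, inferInstance, φ, ?_, ?_, ?_, ?_, ?_⟩
  · rw [PowerSeries.maximalIdeal_eq_span_X]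
    infer_instance
  · exact IsAlgClosed.of_ringEquiv _ _ (PowerSeries.residueFieldOfPowerSeries (k := Kbar k)).symm
  · show Function.Injective (IsLocalization.lift hunit)
    rw [IsLocalization.lift_injective_iff]
    intro x y
    constructor
    · intro h
      have := congrArg φ h
      rw [hφ, hφ] at this
      exact this
    · intro h
      have : x = y := psi_injective k h
      rw [this]
  · constructor
    intro a ha
    obtain ⟨⟨f, s⟩, hfs⟩ := IsLocalization.surj P.primeCompl a
    -- a * s = f
    have h1 : φ a * φ (algebraMap _ _ (s : MvPowerSeries (Fin 2) k)) = φ (algebraMap _ _ f) := by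
      rw [← map_mul, hfs]
    have hs : IsUnit (φ (algebraMap _ _ (s : MvPowerSeries (Fin 2) k))) := by
      rw [hφ]; exact hunit s
    have hf : IsUnit (psi k f) := by
      rw [← hφ, ← h1]
      exact IsUnit.mul ha hs
    have hfP : f ∉ P := (hunit_iff f).1 hf
    have hfu : IsUnit (algebraMap _ (Localization.AtPrime P) f) :=
      IsLocalization.map_units (Localization.AtPrime P) (⟨f, hfP⟩ : P.primeCompl)
    have hsu : IsUnit (algebraMap _ (Localization.AtPrime P) (s : MvPowerSeries (Fin 2) k)) :=
      IsLocalization.map_units (Localization.AtPrime P) s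
    rw [← hfs] at hfu
    exact isUnit_of_mul_isUnit_left hfu
  · rw [hφ, psi_X0]
    exact PowerSeries.X_irreducible

end Groth.Agent.Lib.Seat71.CompleteDVR
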