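import Mathlib

/-!
# Ideals of power series cut out by vanishing of coefficients on a lower set of exponents (seat 71)

For a lower set `D` of exponents, `lowerIdeal D` is the ideal of `MvPowerSeries σ R` of the series whose
coefficients vanish on `D`. We give a product bound, a two-generator decomposition criterion, and the
linear equivalence of the quotient with the functions on `D`.
-/

set_option autoImplicit false
universe u v

namespace Groth.Agent.Lib.Seat71.HDPLower

open MvPowerSeries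

variable {σ : Type v} {R : Type u} [CommRing R]

/-- Series whose coefficients vanish on the lower set `D`. -/
def lowerIdeal (D : Set (σ →₀ ℕ)) (hD : IsLowerSet D) : Ideal (MvPowerSeries σ R) where
  carrier := {f | ∀ e ∈ D, coeff e f = 0}
  zero_mem' := by intro e _; simp
  add_mem' := by
    intro f g hf hg e he
    rw [map_add, hf e he, hg e he, add_zero]
  smul_mem' := by
    classical
    intro g f hf e he
    rw [smul_eq_mul, coeff_mul]
    refine Finset.sum_eq_zero fun p hp => ?_
    have hle : p.2 ≤ e := by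
      rw [Finset.HasAntidiagonal.mem_antidiagonal] at hp
      rw [← hp]
      exact le_add_self
    rw [hf p.2 (hD hle he), mul_zero]

lemma mem_lowerIdeal {D : Set (σ →₀ ℕ)} {hD : IsLowerSet D} {f : MvPowerSeries σ R} :
    f ∈ lowerIdeal (R := R) D hD ↔ ∀ e ∈ D, coeff e f = 0 := Iff.rfl

lemma lowerIdeal_mono {D D' : Set (σ →₀ ℕ)} {hD : IsLowerSet D} {hD' : IsLowerSet D'} (h : D' ⊆ D) :
    lowerIdeal (R := R) D hD ≤ lowerIdeal D' hD' := fun _ hf e he => hf e (h he)

lemma monomial_mem_lowerIdeal {D : Set (σ →₀ ℕ)} {hD : IsLowerSet D} {a : σ →₀ ℕ} (ha : a ∉ D) (r : R) :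
    monomial a r ∈ lowerIdeal (R := R) D hD := by
  classical
  intro e he
  rw [coeff_monomial, if_neg]
  rintro rfl
  exact ha he

/-- Product bound. -/
lemma lowerIdeal_mul_le {D₁ D₂ D₃ : Set (σ →₀ ℕ)} {h₁ : IsLowerSet D₁} {h₂ : IsLowerSet D₂}
    {h₃ : IsLowerSet D₃} (h : ∀ p q, p + q ∈ D₃ → p ∈ D₁ ∨ q ∈ D₂) :
    lowerIdeal (R := R) D₁ h₁ * lowerIdeal D₂ h₂ ≤ lowerIdeal D₃ h₃ := by
  classical
  rw [Ideal.mul_le]
  intro f hf g hg e he
  rw [coeff_mul]
  refine Finset.sum_eq_zero fun p hp => ?_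
  rw [Finset.HasAntidiagonal.mem_antidiagonal] at hp
  rcases h p.1 p.2 (by rw [hp]; exact he) with h1 | h2
  · rw [hf p.1 h1, zero_mul]
  · rw [hg p.2 h2, mul_zero]

/-- Two-generator decomposition: if every exponent outside `D₃` is `a` plus an exponent outside `D₁`
or `b` plus an exponent outside `D₂`, then `lowerIdeal D₃ ≤ (X^a)·lowerIdeal D₁ + (X^b)·lowerIdeal D₂`. -/
lemma lowerIdeal_le_decomp {D₁ D₂ D₃ : Set (σ →₀ ℕ)} {h₁ : IsLowerSet D₁} {h₂ : IsLowerSet D₂}
    {h₃ : IsLowerSet D₃} (a b : σ →₀ ℕ)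
    (h : ∀ e, e ∉ D₃ → (a ≤ e ∧ e - a ∉ D₁) ∨ (b ≤ e ∧ e - b ∉ D₂)) :
    lowerIdeal (R := R) D₃ h₃ ≤
      Ideal.span {monomial a (1 : R)} * lowerIdeal D₁ h₁ ⊔
        Ideal.span {monomial b (1 : R)} * lowerIdeal D₂ h₂ := by
  classical
  intro f hf
  let ga : MvPowerSeries σ R := fun e => if e ∉ D₁ then coeff (e + a) f else 0
  let gb : MvPowerSeries σ R := fun e =>
    if e ∉ D₂ ∧ ¬ (a ≤ e + b ∧ e + b - a ∉ D₁) then coeff (e + b) f else 0
  have hga : ga ∈ lowerIdeal (R := R) D₁ h₁ := by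
    intro e he
    show (if e ∉ D₁ then coeff (e + a) f else 0) = 0
    rw [if_neg (not_not.2 he)]
  have hgb : gb ∈ lowerIdeal (R := R) D₂ h₂ := by
    intro e he
    show (if e ∉ D₂ ∧ ¬ (a ≤ e + b ∧ e + b - a ∉ D₁) then coeff (e + b) f else 0) = 0
    rw [if_neg]
    exact fun hh => hh.1 he
  have hf' : f = monomial a 1 * ga + monomial b 1 * gb := by
    ext e
    rw [map_add, coeff_monomial_mul, coeff_monomial_mul, one_mul, one_mul]
    have hca : ∀ e', coeff e' ga = if e' ∉ D₁ then coeff (e' + a) f else 0 := fun _ => rfl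
    have hcb : ∀ e', coeff e' gb =
        if e' ∉ D₂ ∧ ¬ (a ≤ e' + b ∧ e' + b - a ∉ D₁) then coeff (e' + b) f else 0 := fun _ => rfl
    rw [hca, hcb]
    by_cases hA : a ≤ e ∧ e - a ∉ D₁
    · rw [if_pos hA.1, if_pos hA.2, tsub_add_cancel_of_le hA.1]
      by_cases hb : b ≤ e
      · rw [if_pos hb, tsub_add_cancel_of_le hb, if_neg (fun hh => hh.2 hA), add_zero]
      · rw [if_neg hb, add_zero]
    · have h1 : (if a ≤ e then (if e - a ∉ D₁ then coeff (e - a + a) f else 0) else 0) = 0 := by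
        by_cases ha : a ≤ e
        · rw [if_pos ha, if_neg (fun hh => hA ⟨ha, hh⟩)]
        · rw [if_neg ha]
      rw [h1, zero_add]
      by_cases hB : b ≤ e ∧ e - b ∉ D₂
      · rw [if_pos hB.1, tsub_add_cancel_of_le hB.1, if_pos ⟨hB.2, hA⟩]
      · by_cases he : e ∈ D₃
        · rw [hf e he]
          by_cases hb : b ≤ e
          · rw [if_pos hb, tsub_add_cancel_of_le hb, hf e he, ite_self]
          · rw [if_neg hb]
        · rcases h e he with h' | h'
          · exact absurd h' hA
          · exact absurd h' hB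
  rw [hf']
  refine Ideal.add_mem _ (Ideal.mem_sup_left ?_) (Ideal.mem_sup_right ?_)
  · exact Ideal.mul_mem_mul (Ideal.subset_span rfl) hga
  · exact Ideal.mul_mem_mul (Ideal.subset_span rfl) hgb

/-- The coefficient map onto functions on `D`. -/
def coeffMap (D : Set (σ →₀ ℕ)) : MvPowerSeries σ R →ₗ[R] (D → R) where
  toFun f := fun e => coeff e.1 f
  map_add' f g := by ext e; simp
  map_smul' r f := by ext e; simp

lemma coeffMap_surjective (D : Set (σ →₀ ℕ)) : Function.Surjective (coeffMap (R := R) D) := by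
  classical
  intro v
  refine ⟨fun e => if h : e ∈ D then v ⟨e, h⟩ else 0, ?_⟩
  ext e
  show (if h : e.1 ∈ D then v ⟨e.1, h⟩ else 0) = v e
  rw [dif_pos e.2]

lemma ker_coeffMap (D : Set (σ →₀ ℕ)) (hD : IsLowerSet D) :
    LinearMap.ker (coeffMap (R := R) D) = (lowerIdeal (R := R) D hD).restrictScalars R := by
  ext f
  rw [LinearMap.mem_ker, Submodule.restrictScalars_mem]
  constructor
  · intro h e he
    exact congrFun h ⟨e, he⟩
  · intro h
    ext e
    exact h e.1 e.2

/-- The quotient by `lowerIdeal D` is the space of functions on `D`. -/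
noncomputable def quotEquiv (D : Set (σ →₀ ℕ)) (hD : IsLowerSet D) :
    (MvPowerSeries σ R ⧸ lowerIdeal (R := R) D hD) ≃ₗ[R] (D → R) :=
  (Submodule.Quotient.restrictScalarsEquiv R (lowerIdeal (R := R) D hD)).symm ≪≫ₗ
    (Submodule.quotEquivOfEq _ _ (ker_coeffMap D hD).symm) ≪≫ₗ
    (coeffMap (R := R) D).quotKerEquivOfSurjective (coeffMap_surjective D)

/-- Over a field, the colength of `lowerIdeal D` for finite `D` is the number of elements of `D`. -/
theorem length_quot {k : Type u} [Field k] (D : Set (σ →₀ ℕ)) (hD : IsLowerSet D) [Finite D] :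
    Module.length k (MvPowerSeries σ k ⧸ lowerIdeal (R := k) D hD) = (Nat.card D : ℕ∞) := by
  classical
  have : Fintype D := Fintype.ofFinite D
  rw [(quotEquiv (R := k) D hD).length_eq, Module.length_eq_finrank,
    Module.finrank_fintype_fun_eq_card, Nat.card_eq_fintype_card]

end Groth.Agent.Lib.Seat71.HDPLower
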