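import Mathlib
import Groth.Agent.Lib.Seat71ArSingBasic
import Groth.Agent.Lib.Seat71HDPLower

/-!
# The monomial ideals `(y, t²)^N` and `(y, t)·(y, t²)^M` of `k[[y, t]]` (seat 71)

With the weight `w(y^b t^c) = b + ⌊c/2⌋`, the ideal `(y, t²)^N` consists of the series supported in
weight `≥ N`; it has colength `N(N+1)`. The ideal `(y, t)·(y, t²)^M` has colength `(M+1)²`.
-/

set_option autoImplicit false
universe u

namespace Groth.Agent.Lib.Seat71.HDPMono

open MvPowerSeries Groth.Agent.Lib.Seat71.HDPLower Groth.Agent.Lib.Seat71.ArSingBasic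

variable (k : Type u) [Field k]

/-- Exponents of weight `< N`. -/
def DQ (N : ℕ) : Set (Fin 2 →₀ ℕ) := {e | e 0 + e 1 / 2 < N}

lemma DQ_lower (N : ℕ) : IsLowerSet (DQ N) := by
  intro e e' hle he
  have h0 := hle 0
  have h1 := hle 1
  simp only [DQ, Set.mem_ofPred_eq] at he ⊢
  omega

/-- Exponents `(b, c)` with `b ≤ M` and `c ≤ 2(M - b)`. -/
def DN (M : ℕ) : Set (Fin 2 →₀ ℕ) := {e | e 0 ≤ M ∧ e 1 ≤ 2 * (M - e 0)}

lemma DN_lower (M : ℕ) : IsLowerSet (DN M) := by
  intro e e' hle he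
  have h0 := hle 0
  have h1 := hle 1
  simp only [DN, Set.mem_ofPred_eq] at he ⊢
  omega

/-- The origin. -/
def D0 : Set (Fin 2 →₀ ℕ) := {e | e = 0}

lemma D0_lower : IsLowerSet D0 := by
  intro e e' hle he
  simp only [D0, Set.mem_ofPred_eq] at he ⊢
  subst he
  exact le_antisymm hle (by simp)

/-- Series supported in weight `≥ N`. -/
noncomputable def F (N : ℕ) : Ideal (MvPowerSeries (Fin 2) k) := lowerIdeal (DQ N) (DQ_lower N)

/-- Series with vanishing coefficients on `DN M`. -/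
noncomputable def G (M : ℕ) : Ideal (MvPowerSeries (Fin 2) k) := lowerIdeal (DN M) (DN_lower M)

/-- Series without constant term. -/
noncomputable def H : Ideal (MvPowerSeries (Fin 2) k) := lowerIdeal D0 D0_lower

/-- `(y, t²)`. -/
noncomputable def Q : Ideal (MvPowerSeries (Fin 2) k) := Ideal.span {X 0, X 1 ^ 2}

/-- `(y, t)`. -/
noncomputable def Nn : Ideal (MvPowerSeries (Fin 2) k) := Ideal.span {X 0, X 1}

lemma X0_eq : (X 0 : MvPowerSeries (Fin 2) k) = monomial (Finsupp.single 0 1) 1 := rfl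
lemma X1_eq : (X 1 : MvPowerSeries (Fin 2) k) = monomial (Finsupp.single 1 1) 1 := rfl
lemma X1sq_eq : (X 1 ^ 2 : MvPowerSeries (Fin 2) k) = monomial (Finsupp.single 1 2) 1 := X_pow_eq _ _

lemma F_zero : F k 0 = ⊤ := by
  rw [eq_top_iff]
  intro f _ e he
  simp [DQ] at he

lemma F_one_mul_le (N : ℕ) : F k 1 * F k N ≤ F k (N + 1) := by
  apply lowerIdeal_mul_le
  intro p q h
  simp only [DQ, Set.mem_ofPred_eq, Finsupp.add_apply] at h ⊢
  omega

lemma Q_le : Q k ≤ F k 1 := by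
  unfold Q
  rw [Ideal.span_le]
  rintro f (rfl | rfl)
  · rw [X0_eq]
    apply monomial_mem_lowerIdeal
    simp [DQ]
  · rw [X1sq_eq]
    apply monomial_mem_lowerIdeal
    simp [DQ]

lemma Q_eq : Q k = Ideal.span {monomial (Finsupp.single 0 1) (1 : k)} ⊔
    Ideal.span {monomial (Finsupp.single 1 2) (1 : k)} := by
  unfold Q
  rw [← X0_eq, ← X1sq_eq, ← Ideal.span_union]
  rfl

lemma Nn_eq : Nn k = Ideal.span {monomial (Finsupp.single 0 1) (1 : k)} ⊔
    Ideal.span {monomial (Finsupp.single 1 1) (1 : k)} := by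
  unfold Nn
  rw [← X0_eq, ← X1_eq, ← Ideal.span_union]
  rfl

lemma F_succ_le (N : ℕ) : F k (N + 1) ≤ Q k * F k N := by
  rw [Q_eq, Ideal.sup_mul]
  apply lowerIdeal_le_decomp
  intro e he
  simp only [DQ, Set.mem_ofPred_eq, Finsupp.single_le_iff, Finsupp.tsub_apply] at he ⊢
  by_cases h0 : 1 ≤ e 0
  · left
    refine ⟨h0, ?_⟩
    simp
    omega
  · right
    simp
    omega

theorem Q_pow (N : ℕ) : Q k ^ N = F k N := by
  induction N with
  | zero => rw [pow_zero, F_zero, Ideal.one_eq_top]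
  | succ N ih =>
    rw [pow_succ', ih]
    exact le_antisymm ((Ideal.mul_mono_left (Q_le k)).trans (F_one_mul_le k N)) (F_succ_le k N)

lemma Nn_le : Nn k ≤ H k := by
  unfold Nn
  rw [Ideal.span_le]
  rintro f (rfl | rfl)
  · rw [X0_eq]
    apply monomial_mem_lowerIdeal
    simp [D0]
  · rw [X1_eq]
    apply monomial_mem_lowerIdeal
    simp [D0]

lemma ne_zero_iff (p : Fin 2 →₀ ℕ) : p = 0 ↔ p 0 = 0 ∧ p 1 = 0 := by
  constructor
  · rintro rfl
    simp
  · rintro ⟨h0, h1⟩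
    ext i
    fin_cases i
    · simpa using h0
    · simpa using h1

lemma H_mul_F_le (M : ℕ) : H k * F k M ≤ G k M := by
  apply lowerIdeal_mul_le
  intro p q h
  simp only [DN, DQ, D0, Set.mem_ofPred_eq, Finsupp.add_apply, ne_zero_iff] at h ⊢
  omega

lemma G_le (M : ℕ) : G k M ≤ Nn k * F k M := by
  rw [Nn_eq, Ideal.sup_mul]
  apply lowerIdeal_le_decomp
  intro e he
  simp only [DN, DQ, Set.mem_ofPred_eq, Finsupp.single_le_iff, Finsupp.tsub_apply] at he ⊢
  by_cases h0 : M < e 0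
  · left
    simp
    omega
  · right
    simp
    omega

theorem Nn_mul_Q_pow (M : ℕ) : Nn k * Q k ^ M = G k M := by
  rw [Q_pow]
  exact le_antisymm ((Ideal.mul_mono_left (Nn_le k)).trans (H_mul_F_le k M)) (G_le k M)

/-! ### Counting -/

lemma mon_injective : Function.Injective (fun x : (Σ _ : ℕ, ℕ) => mon x.1 x.2) := by
  rintro ⟨i, j⟩ ⟨i', j'⟩ h
  obtain ⟨rfl, rfl⟩ := mon_inj h
  rfl

lemma sum_DQ (N : ℕ) : ∑ i ∈ Finset.range N, 2 * (N - i) = N * (N + 1) := by
  induction N with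
  | zero => simp
  | succ N ih =>
    rw [Finset.sum_range_succ']
    simp only [Nat.add_sub_add_right, Nat.sub_zero]
    rw [ih]
    ring

lemma sum_DN (M : ℕ) : ∑ i ∈ Finset.range (M + 1), (2 * (M - i) + 1) = (M + 1) ^ 2 := by
  induction M with
  | zero => simp
  | succ M ih =>
    rw [Finset.sum_range_succ']
    simp only [Nat.add_sub_add_right, Nat.sub_zero]
    rw [ih]
    ring

lemma DQ_eq_coe (N : ℕ) : DQ N =
    ↑(((Finset.range N).sigma (fun i => Finset.range (2 * (N - i)))).map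
      ⟨fun x : (Σ _ : ℕ, ℕ) => mon x.1 x.2, mon_injective⟩) := by
  ext e
  simp only [DQ, Set.mem_ofPred_eq, Finset.coe_map, Function.Embedding.coeFn_mk, Set.mem_image,
    Finset.mem_coe, Finset.mem_sigma, Finset.mem_range]
  constructor
  · intro h
    refine ⟨⟨e 0, e 1⟩, ⟨?_, ?_⟩, mon_eta e⟩
    · dsimp only
      omega
    · dsimp only
      omega
  · rintro ⟨⟨i, j⟩, ⟨h1, h2⟩, rfl⟩
    simp only [mon_zero, mon_one]
    simp only at h1 h2
    omega

lemma DN_eq_coe (M : ℕ) : DN M =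
    ↑(((Finset.range (M + 1)).sigma (fun i => Finset.range (2 * (M - i) + 1))).map
      ⟨fun x : (Σ _ : ℕ, ℕ) => mon x.1 x.2, mon_injective⟩) := by
  ext e
  simp only [DN, Set.mem_ofPred_eq, Finset.coe_map, Function.Embedding.coeFn_mk, Set.mem_image,
    Finset.mem_coe, Finset.mem_sigma, Finset.mem_range]
  constructor
  · intro h
    refine ⟨⟨e 0, e 1⟩, ⟨?_, ?_⟩, mon_eta e⟩
    · dsimp only
      omega
    · dsimp only
      omega
  · rintro ⟨⟨i, j⟩, ⟨h1, h2⟩, rfl⟩
    simp only [mon_zero, mon_one]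
    simp only at h1 h2
    omega

instance (N : ℕ) : Finite (DQ N) := by
  rw [DQ_eq_coe]
  exact Finset.finite_toSet _

instance (M : ℕ) : Finite (DN M) := by
  rw [DN_eq_coe]
  exact Finset.finite_toSet _

theorem card_DQ (N : ℕ) : Nat.card (DQ N) = N * (N + 1) := by
  rw [DQ_eq_coe]
  erw [Nat.card_eq_finsetCard]
  rw [Finset.card_map, Finset.card_sigma]
  simp only [Finset.card_range]
  exact sum_DQ N

theorem card_DN (M : ℕ) : Nat.card (DN M) = (M + 1) ^ 2 := by
  rw [DN_eq_coe]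
  erw [Nat.card_eq_finsetCard]
  rw [Finset.card_map, Finset.card_sigma]
  simp only [Finset.card_range]
  exact sum_DN M

theorem length_quot_Q_pow (N : ℕ) :
    Module.length k (MvPowerSeries (Fin 2) k ⧸ Q k ^ N) = ((N * (N + 1) : ℕ) : ℕ∞) := by
  rw [Q_pow]
  unfold F
  rw [length_quot, card_DQ]

theorem length_quot_Nn_mul_Q_pow (M : ℕ) :
    Module.length k (MvPowerSeries (Fin 2) k ⧸ Nn k * Q k ^ M) = (((M + 1) ^ 2 : ℕ) : ℕ∞) := by
  rw [Nn_mul_Q_pow]
  unfold G
  rw [length_quot, card_DN]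

end Groth.Agent.Lib.Seat71.HDPMono
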