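import Mathlib
import Groth.Agent.Lib.Seat71HDPMono

/-!
# Ideal arithmetic in `k[[y, t]]` for the higher double point computation (seat 71)
-/

set_option autoImplicit false
universe u

namespace Groth.Agent.Lib.Seat71.HDPArith

open MvPowerSeries Groth.Agent.Lib.Seat71.HDPLower Groth.Agent.Lib.Seat71.HDPMono

variable (k : Type u) [Field k]

lemma X0_pow_mem_F (n : ℕ) : (X 0 ^ n : MvPowerSeries (Fin 2) k) ∈ F k n := by
  rw [X_pow_eq]
  apply monomial_mem_lowerIdeal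
  simp [DQ]

lemma F_anti {N N' : ℕ} (h : N ≤ N') : F k N' ≤ F k N := by
  apply lowerIdeal_mono
  intro e he
  simp only [DQ, Set.mem_ofPred_eq] at he ⊢
  omega

lemma X0_pow_mem_Q_pow {n N : ℕ} (h : N ≤ n) : (X 0 ^ n : MvPowerSeries (Fin 2) k) ∈ Q k ^ N := by
  rw [Q_pow]
  exact F_anti k h (X0_pow_mem_F k n)

lemma H_mul_G_le (M : ℕ) : H k * G k M ≤ F k (M + 1) := by
  apply lowerIdeal_mul_le
  intro p q h
  simp only [DN, DQ, D0, Set.mem_ofPred_eq, Finsupp.add_apply, ne_zero_iff] at h ⊢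
  omega

/-- `yⁿ·(y,t)² ⊆ (y,t²)⁴` for `n ≥ 3`. -/
lemma dd_mul_Nn_sq_le {n : ℕ} (hn : 3 ≤ n) :
    Ideal.span {(X 0 ^ n : MvPowerSeries (Fin 2) k)} * (Nn k * Nn k) ≤ Q k ^ 2 * Q k ^ 2 := by
  rw [← pow_add, Q_pow]
  have h1 : Ideal.span {(X 0 ^ n : MvPowerSeries (Fin 2) k)} ≤ F k 3 := by
    rw [Ideal.span_le, Set.singleton_subset_iff]
    exact F_anti k hn (X0_pow_mem_F k n)
  calc Ideal.span {(X 0 ^ n : MvPowerSeries (Fin 2) k)} * (Nn k * Nn k)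
      ≤ F k 3 * (H k * H k) := Ideal.mul_mono h1 (Ideal.mul_mono (Nn_le k) (Nn_le k))
    _ = H k * (H k * F k 3) := by ring
    _ ≤ H k * G k 3 := Ideal.mul_mono_right (H_mul_F_le k 3)
    _ ≤ F k 4 := H_mul_G_le k 3

lemma Q_le_Nn : Q k ≤ Nn k := by
  unfold Q Nn
  rw [Ideal.span_le]
  rintro f (rfl | rfl)
  · exact Ideal.subset_span (by simp)
  · rw [pow_two]
    exact Ideal.mul_mem_left _ _ (Ideal.subset_span (by simp))

lemma Q_pow_le (m : ℕ) : Q k ^ (2 * (m + 1)) ≤ Nn k * Q k ^ (2 * m) := by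
  have : Q k ^ (2 * (m + 1)) = Q k * Q k * Q k ^ (2 * m) := by ring
  rw [this]
  exact Ideal.mul_mono_left (Ideal.mul_le_right.trans (Q_le_Nn k))

lemma dd_mul_mem {n : ℕ} (hn : 2 ≤ n) (m : ℕ) :
    ∀ b ∈ Nn k * Q k ^ (2 * m), (X 0 ^ n : MvPowerSeries (Fin 2) k) * b ∈ Q k ^ (2 * (m + 1)) := by
  intro b hb
  have : Q k ^ (2 * (m + 1)) = Q k ^ 2 * Q k ^ (2 * m) := by ring
  rw [this]
  exact Ideal.mul_mem_mul (X0_pow_mem_Q_pow k hn) (Ideal.mul_le_right hb)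

end Groth.Agent.Lib.Seat71.HDPArith
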