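import Mathlib

/-!
# Ideals and quotients of the quadratic algebra `S[ω]/(ω² = d)` (seat 71)

* `T d 𝔞 𝔟`: the ideal `{z | re z ∈ 𝔞, im z ∈ 𝔟}` (for `𝔞 ≤ 𝔟`, `d𝔟 ≤ 𝔞`), equal to `𝔞B + ω𝔟B`.
* `quotEquiv`: `B ⧸ T ≃ S/𝔞 × S/𝔟` linearly.
* `polyEquiv`: `S[X]/(X² - d) ≃ₐ[S] B`.
* `sup_pow_of_sq_le`: `(a + b)^(m+1) = a^(m+1) + b·a^m` for ideals with `b² ≤ a²`.
-/

set_option autoImplicit false
universe u v

namespace Groth.Agent.Lib.Seat71.HDPQuad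

open QuadraticAlgebra Polynomial

variable {S : Type u} [CommRing S] (d : S)

/-- The ideal of elements with real part in `𝔞` and imaginary part in `𝔟`. -/
def T (𝔞 𝔟 : Ideal S) (h1 : 𝔞 ≤ 𝔟) (h2 : ∀ b ∈ 𝔟, d * b ∈ 𝔞) : Ideal (QuadraticAlgebra S d 0) where
  carrier := {z | z.re ∈ 𝔞 ∧ z.im ∈ 𝔟}
  zero_mem' := ⟨𝔞.zero_mem, 𝔟.zero_mem⟩
  add_mem' := by
    rintro z w ⟨hz1, hz2⟩ ⟨hw1, hw2⟩
    exact ⟨by rw [re_add]; exact 𝔞.add_mem hz1 hw1, by rw [im_add]; exact 𝔟.add_mem hz2 hw2⟩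
  smul_mem' := by
    rintro u z ⟨hz1, hz2⟩
    refine ⟨?_, ?_⟩
    · show (u * z).re ∈ 𝔞
      rw [re_mul]
      refine 𝔞.add_mem (𝔞.mul_mem_left _ hz1) ?_
      have : d * u.im * z.im = u.im * (d * z.im) := by ring
      rw [this]
      exact 𝔞.mul_mem_left _ (h2 _ hz2)
    · show (u * z).im ∈ 𝔟
      rw [im_mul]
      refine 𝔟.add_mem (𝔟.add_mem (𝔟.mul_mem_left _ hz2) (𝔟.mul_mem_left _ (h1 hz1))) ?_
      simp

lemma mem_T {𝔞 𝔟 : Ideal S} {h1 : 𝔞 ≤ 𝔟} {h2 : ∀ b ∈ 𝔟, d * b ∈ 𝔞} {z : QuadraticAlgebra S d 0} :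
    z ∈ T d 𝔞 𝔟 h1 h2 ↔ z.re ∈ 𝔞 ∧ z.im ∈ 𝔟 := Iff.rfl

theorem T_eq (𝔞 𝔟 : Ideal S) (h1 : 𝔞 ≤ 𝔟) (h2 : ∀ b ∈ 𝔟, d * b ∈ 𝔞) :
    Ideal.map (algebraMap S (QuadraticAlgebra S d 0)) 𝔞 ⊔
      Ideal.span {(ω : QuadraticAlgebra S d 0)} * Ideal.map (algebraMap S (QuadraticAlgebra S d 0)) 𝔟 =
    T d 𝔞 𝔟 h1 h2 := by
  apply le_antisymm
  · refine sup_le ?_ ?_
    · rw [Ideal.map_le_iff_le_comap]
      intro a ha
      rw [Ideal.mem_comap, mem_T]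
      exact ⟨by simpa using ha, by simp⟩
    · rw [Ideal.span_singleton_mul_le_iff]
      intro z hz
      refine Submodule.span_induction (p := fun z _ => ω * z ∈ T d 𝔞 𝔟 h1 h2) ?_ ?_ ?_ ?_ hz
      · rintro _ ⟨b, hb, rfl⟩
        rw [mem_T]
        constructor
        · simp
        · simpa using hb
      · simp
      · intro x y _ _ hx hy
        rw [mul_add]
        exact Ideal.add_mem _ hx hy
      · intro u x _ hx
        rw [smul_eq_mul, mul_left_comm]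
        exact Ideal.mul_mem_left _ _ hx
  · intro z hz
    rw [mem_T] at hz
    have hz' : z = algebraMap S _ z.re + ω * algebraMap S _ z.im := by
      ext <;> simp
    rw [hz']
    refine Ideal.add_mem _ (Ideal.mem_sup_left (Ideal.mem_map_of_mem _ hz.1)) (Ideal.mem_sup_right ?_)
    exact Ideal.mul_mem_mul (Ideal.mem_span_singleton_self _) (Ideal.mem_map_of_mem _ hz.2)

section quot

variable (R₀ : Type v) [CommRing R₀] [Algebra R₀ S]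

/-- `z ↦ (re z mod 𝔞, im z mod 𝔟)`. -/
noncomputable def Lmap (𝔞 𝔟 : Ideal S) : QuadraticAlgebra S d 0 →ₗ[R₀] (S ⧸ 𝔞) × (S ⧸ 𝔟) where
  toFun z := (Ideal.Quotient.mk 𝔞 z.re, Ideal.Quotient.mk 𝔟 z.im)
  map_add' z w := by simp
  map_smul' r z := by
    simp only [re_smul, im_smul, RingHom.id_apply, Prod.smul_mk]
    rfl

lemma Lmap_surjective (𝔞 𝔟 : Ideal S) : Function.Surjective (Lmap d R₀ 𝔞 𝔟) := by
  rintro ⟨x, y⟩
  obtain ⟨x, rfl⟩ := Ideal.Quotient.mk_surjective x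
  obtain ⟨y, rfl⟩ := Ideal.Quotient.mk_surjective y
  exact ⟨⟨x, y⟩, rfl⟩

lemma ker_Lmap (𝔞 𝔟 : Ideal S) (h1 : 𝔞 ≤ 𝔟) (h2 : ∀ b ∈ 𝔟, d * b ∈ 𝔞) :
    LinearMap.ker (Lmap d R₀ 𝔞 𝔟) = (T d 𝔞 𝔟 h1 h2).restrictScalars R₀ := by
  ext z
  rw [LinearMap.mem_ker, Submodule.restrictScalars_mem, mem_T]
  show (Ideal.Quotient.mk 𝔞 z.re, Ideal.Quotient.mk 𝔟 z.im) = 0 ↔ _
  rw [Prod.mk_eq_zero, Ideal.Quotient.eq_zero_iff_mem, Ideal.Quotient.eq_zero_iff_mem]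

/-- `B ⧸ T ≃ S/𝔞 × S/𝔟`. -/
noncomputable def quotEquiv (𝔞 𝔟 : Ideal S) (h1 : 𝔞 ≤ 𝔟) (h2 : ∀ b ∈ 𝔟, d * b ∈ 𝔞) :
    (QuadraticAlgebra S d 0 ⧸ T d 𝔞 𝔟 h1 h2) ≃ₗ[R₀] (S ⧸ 𝔞) × (S ⧸ 𝔟) :=
  (Submodule.Quotient.restrictScalarsEquiv R₀ (T d 𝔞 𝔟 h1 h2)).symm ≪≫ₗ
    (Submodule.quotEquivOfEq _ _ (ker_Lmap d R₀ 𝔞 𝔟 h1 h2).symm) ≪≫ₗ
    (Lmap d R₀ 𝔞 𝔟).quotKerEquivOfSurjective (Lmap_surjective d R₀ 𝔞 𝔟)

theorem length_quot_T (𝔞 𝔟 : Ideal S) (h1 : 𝔞 ≤ 𝔟) (h2 : ∀ b ∈ 𝔟, d * b ∈ 𝔞) :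
    Module.length R₀ (QuadraticAlgebra S d 0 ⧸ T d 𝔞 𝔟 h1 h2) =
      Module.length R₀ (S ⧸ 𝔞) + Module.length R₀ (S ⧸ 𝔟) := by
  rw [(quotEquiv d R₀ 𝔞 𝔟 h1 h2).length_eq, Module.length_prod]

end quot

/-! ### The polynomial presentation -/

lemma omega_sq : (ω : QuadraticAlgebra S d 0) ^ 2 = algebraMap S _ d := by
  rw [pow_two, omega_mul_omega_eq_mk]
  rfl

lemma aeval_omega : aeval (ω : QuadraticAlgebra S d 0) (X ^ 2 - C d : S[X]) = 0 := by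
  rw [map_sub, map_pow, aeval_X, aeval_C, omega_sq, sub_self]

/-- `S[X]/(X² - d) → B`. -/
noncomputable def toQ : (S[X] ⧸ Ideal.span {(X ^ 2 - C d : S[X])}) →ₐ[S] QuadraticAlgebra S d 0 :=
  Ideal.Quotient.liftₐ _ (aeval (ω : QuadraticAlgebra S d 0)) (by
    intro p hp
    obtain ⟨q, rfl⟩ := Ideal.mem_span_singleton'.1 hp
    rw [map_mul, aeval_omega, mul_zero])

lemma toQ_mk (p : S[X]) : toQ d (Ideal.Quotient.mk _ p) = aeval (ω : QuadraticAlgebra S d 0) p := rfl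

lemma mkX_sq : (Ideal.Quotient.mk (Ideal.span {(X ^ 2 - C d : S[X])}) X) *
    (Ideal.Quotient.mk (Ideal.span {(X ^ 2 - C d : S[X])}) X) =
    d • (1 : S[X] ⧸ Ideal.span {(X ^ 2 - C d : S[X])}) +
      (0 : S) • (Ideal.Quotient.mk (Ideal.span {(X ^ 2 - C d : S[X])}) X) := by
  have : d • (1 : S[X] ⧸ Ideal.span {(X ^ 2 - C d : S[X])}) =
      Ideal.Quotient.mk _ (C d) := by
    rw [← mul_one (C d), ← smul_eq_C_mul]
    rfl
  rw [zero_smul, add_zero, this, ← map_mul, Ideal.Quotient.eq, Ideal.mem_span_singleton']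
  exact ⟨1, by ring⟩

/-- `B → S[X]/(X² - d)`. -/
noncomputable def ofQ : QuadraticAlgebra S d 0 →ₐ[S] (S[X] ⧸ Ideal.span {(X ^ 2 - C d : S[X])}) :=
  QuadraticAlgebra.lift ⟨Ideal.Quotient.mk _ X, mkX_sq d⟩

lemma ofQ_omega : ofQ d ω = Ideal.Quotient.mk _ X := by
  simp [ofQ]

/-- `S[X]/(X² - d) ≃ₐ[S] B`. -/
noncomputable def polyEquiv :
    (S[X] ⧸ Ideal.span {(X ^ 2 - C d : S[X])}) ≃ₐ[S] QuadraticAlgebra S d 0 :=
  AlgEquiv.ofAlgHom (toQ d) (ofQ d)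
    (by
      apply QuadraticAlgebra.algHom_ext
      rw [AlgHom.comp_apply, ofQ_omega, toQ_mk, aeval_X]
      rfl)
    (by
      apply Ideal.Quotient.algHom_ext
      apply Polynomial.algHom_ext
      simp only [AlgHom.comp_apply, Ideal.Quotient.mkₐ_eq_mk, AlgHom.id_apply, toQ_mk, aeval_X, ofQ_omega])

@[simp] lemma polyEquiv_mk_X : polyEquiv d (Ideal.Quotient.mk _ X) = ω := by
  simp only [polyEquiv, AlgEquiv.ofAlgHom_apply, toQ_mk, aeval_X]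

@[simp] lemma polyEquiv_mk_C (s : S) : polyEquiv d (Ideal.Quotient.mk _ (C s)) = algebraMap S _ s := by
  simp only [polyEquiv, AlgEquiv.ofAlgHom_apply, toQ_mk, aeval_C]

/-! ### Powers of a sum of ideals -/

theorem sup_pow_of_sq_le {R : Type*} [CommRing R] (a b : Ideal R) (h : b * b ≤ a * a) (m : ℕ) :
    (a ⊔ b) ^ (m + 1) = a ^ (m + 1) ⊔ b * a ^ m := by
  induction m with
  | zero => simp
  | succ m ih =>
    rw [pow_succ, ih]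
    apply le_antisymm
    · rw [Ideal.sup_mul, Ideal.mul_sup, Ideal.mul_sup]
      refine sup_le (sup_le ?_ ?_) (sup_le ?_ ?_)
      · rw [← pow_succ]; exact le_sup_left
      · rw [mul_comm]; exact le_sup_right
      · rw [mul_assoc, ← pow_succ]; exact le_sup_right
      · have : b * a ^ m * b = (b * b) * a ^ m := by ring
        rw [this]
        refine le_trans (Ideal.mul_mono_left h) ?_
        have : a * a * a ^ m = a ^ (m + 1 + 1) := by ring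
        rw [this]
        exact le_sup_left
    · refine sup_le ?_ ?_
      · rw [pow_succ (a) (m + 1)]
        exact Ideal.mul_mono le_sup_left le_sup_left
      · rw [pow_succ a m, ← mul_assoc]
        exact Ideal.mul_mono le_sup_right le_sup_left

end Groth.Agent.Lib.Seat71.HDPQuad
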