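import Mathlib

set_option autoImplicit false
set_option linter.style.haveILetI false
universe u

namespace Groth.Agent.Lib.Seat71.JetGen

open Polynomial

variable {k : Type u} [Field k] {A : Type u} [CommRing A] [Algebra k A]

/-- Quotients by corresponding principal ideals under an `A`-algebra automorphism of `A[X]`. -/
lemma quot_equiv_of_map (e : A[X] ≃ₐ[A] A[X]) (f g u : A[X]) (hu : IsUnit u) (h : e f = u * g) :
    Nonempty ((A[X] ⧸ Ideal.span {f}) ≃ₐ[k] (A[X] ⧸ Ideal.span {g})) := by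
  have h1 : Ideal.span {g} = Ideal.map (e : A[X] →+* A[X]) (Ideal.span {f}) := by
    rw [Ideal.map_span, Set.image_singleton]
    show Ideal.span {g} = Ideal.span {e f}
    rw [h, mul_comm, Ideal.span_singleton_mul_right_unit hu]
  exact ⟨(Ideal.quotientEquivAlg (Ideal.span {f}) (Ideal.span {g}) e h1).restrictScalars k⟩

theorem quot_deg_one {f : A[X]} (hf : f.Monic) (hd : f.natDegree = 1) :
    Nonempty ((A[X] ⧸ Ideal.span {f}) ≃ₐ[k] A) := by
  have h1 : f = X - C (-(f.coeff 0)) := by
    rw [map_neg, sub_neg_eq_add]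
    have := hf.as_sum
    rw [hd] at this
    simpa [Finset.sum_range_one, pow_one] using this
  rw [h1]
  exact ⟨(quotientSpanXSubCAlgEquiv (-(f.coeff 0))).restrictScalars k⟩

theorem quot_deg_two [Invertible (2 : A)] {I : Ideal A} {f : A[X]} (hf : f.IsDistinguishedAt I)
    (hd : f.natDegree = 2) :
    ∃ d ∈ I, Nonempty ((A[X] ⧸ Ideal.span {f}) ≃ₐ[k] (A[X] ⧸ Ideal.span {X ^ 2 - C d})) := by
  set b := f.coeff 1 with hb
  set c := f.coeff 0 with hc
  have hbI : b ∈ I := hf.mem (by omega)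
  have hcI : c ∈ I := hf.mem (by omega)
  have h1 : f = X ^ 2 + C b * X + C c := by
    have := hf.monic.as_sum
    rw [hd] at this
    rw [this, Finset.sum_range_succ, Finset.sum_range_one]
    simp only [pow_zero, mul_one, pow_one]
    ring
  refine ⟨⅟2 * ⅟2 * b * b - c, ?_, ?_⟩
  · exact Ideal.sub_mem _ (Ideal.mul_mem_left _ _ hbI) hcI
  · apply quot_equiv_of_map (k := k) (algEquivAevalXAddC (-(⅟2 * b))) f _ 1 isUnit_one
    rw [algEquivAevalXAddC_apply, one_mul, h1]
    simp only [map_add, map_mul, map_pow, aeval_X, aeval_C, map_sub, map_neg,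
      Polynomial.algebraMap_eq]
    have h2 : (2 : A[X]) * C (⅟2 : A) = 1 := by
      rw [← map_ofNat (C : A →+* A[X]) 2, ← C_mul, mul_invOf_self, C_1]
    linear_combination (C b * C b * C (⅟2) - C b * X) * h2

theorem quot_scale (d v : A) (hv : IsUnit v) :
    Nonempty ((A[X] ⧸ Ideal.span {X ^ 2 - C (d * v ^ 2)}) ≃ₐ[k]
      (A[X] ⧸ Ideal.span {(X ^ 2 - C d : A[X])})) := by
  letI : Invertible v := hv.invertible
  apply quot_equiv_of_map (k := k) (algEquivCMulXAddC v 0) _ _ (C (v ^ 2))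
    ((hv.pow 2).map C)
  rw [algEquivCMulXAddC_apply]
  simp only [map_sub, map_pow, aeval_X, aeval_C, map_zero, add_zero, map_mul,
    Polynomial.algebraMap_eq]
  ring

section Complete

variable [IsLocalRing A] [IsAdicComplete (IsLocalRing.maximalIdeal A) A]

theorem quot_weierstrass {g : PowerSeries A} {f : A[X]} {h : PowerSeries A}
    (H : g.IsWeierstrassFactorization f h) :
    Nonempty ((PowerSeries A ⧸ Ideal.span {g}) ≃ₐ[k] (A[X] ⧸ Ideal.span {f})) :=
  ⟨(H.algEquivQuotient.restrictScalars k).symm⟩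

theorem quot_sq_sub (d : A) (hd : d ∈ IsLocalRing.maximalIdeal A) :
    Nonempty ((A[X] ⧸ Ideal.span {(X ^ 2 - C d : A[X])}) ≃ₐ[k]
      (PowerSeries A ⧸ Ideal.span {(PowerSeries.X ^ 2 - PowerSeries.C d : PowerSeries A)})) := by
  rcases subsingleton_or_nontrivial A with hA | hA
  · exact absurd hA (not_subsingleton A)
  have hdist : (X ^ 2 - C d : A[X]).IsDistinguishedAt (IsLocalRing.maximalIdeal A) := by
    refine ⟨⟨fun {n} hn => ?_⟩, monic_X_pow_sub_C d (by norm_num)⟩
    rw [natDegree_X_pow_sub_C] at hn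
    interval_cases n
    · simp [hd]
    · simp [coeff_X_pow]
  have hcoe : (((X ^ 2 - C d : A[X]) : A[X]) : PowerSeries A) =
      PowerSeries.X ^ 2 - PowerSeries.C d := by
    simp
  rw [← hcoe]
  exact ⟨hdist.algEquivQuotient.restrictScalars k⟩

end Complete

end Groth.Agent.Lib.Seat71.JetGen
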