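import Mathlib
import Groth.Agent.Lib.Seat71ArSingBasic
import Groth.Agent.Lib.Helper19PowerSeries
import Groth.Agent.Lib.Seat71JetGen

set_option autoImplicit false
universe u

namespace Groth.Agent.Lib.Seat71.JetPsi

open Groth.Agent.Lib.Seat71.ArSingBasic

variable {k : Type u} [Field k]

/-- `0 ↦ some ()`, `1 ↦ none`. -/
def e2 : Fin 2 ≃ Option Unit where
  toFun i := if i = 0 then some () else none
  invFun o := match o with
    | some _ => 0
    | none => 1
  left_inv i := by fin_cases i <;> rfl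
  right_inv o := by rcases o with _ | u <;> rfl

@[simp] lemma e2_zero : e2 0 = some () := rfl
@[simp] lemma e2_one : e2 1 = none := rfl

/-- `k[[x,y]] ≃ k[[x]][[y]]`. -/
noncomputable def Ψ : MvPowerSeries (Fin 2) k ≃ₐ[k] PowerSeries (PowerSeries k) :=
  (MvPowerSeries.renameEquiv k e2).trans (MvPowerSeries.optionEquivLeft Unit k)

lemma Ψ_X1 : Ψ (MvPowerSeries.X 1 : MvPowerSeries (Fin 2) k) = PowerSeries.X := by
  simp [Ψ]

lemma Ψ_X0 : Ψ (MvPowerSeries.X 0 : MvPowerSeries (Fin 2) k) = PowerSeries.C PowerSeries.X := by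
  simp [Ψ]
  rfl

lemma coeff_Ψ (G : MvPowerSeries (Fin 2) k) (i j : ℕ) :
    PowerSeries.coeff i (PowerSeries.coeff j (Ψ G)) = c G i j := by
  unfold Ψ c
  rw [AlgEquiv.trans_apply, PowerSeries.coeff, MvPowerSeries.coeff_coeff_optionEquivLeft]
  have : (Finsupp.single () i).optionElim j = Finsupp.embDomain e2.toEmbedding (mon i j) := by
    ext o
    rcases o with _ | u
    · have : (none : Option Unit) = e2.toEmbedding 1 := rfl
      rw [this, Finsupp.embDomain_apply_self]
      simp
    · have : (some u : Option Unit) = e2.toEmbedding 0 := rfl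
      rw [this, Finsupp.embDomain_apply_self]
      simp
  rw [this]
  exact MvPowerSeries.coeff_embDomain_rename e2.toEmbedding G (mon i j)

/-! ### Weierstrass preparation -/

instance adicK : IsAdicComplete (IsLocalRing.maximalIdeal k) k := by
  rw [IsLocalRing.maximalIdeal_eq_bot]; infer_instance

instance adicR : IsAdicComplete (IsLocalRing.maximalIdeal (PowerSeries k)) (PowerSeries k) :=
  Groth.Agent.Lib.Helper19.isAdicComplete_mvPowerSeries (σ := Unit) (Λ := k)

lemma residue_eq_zero_iff (r : PowerSeries k) :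
    IsLocalRing.residue (PowerSeries k) r = 0 ↔ PowerSeries.constantCoeff r = 0 := by
  rw [IsLocalRing.residue_eq_zero_iff, IsLocalRing.mem_maximalIdeal, mem_nonunits_iff,
    PowerSeries.isUnit_iff_constantCoeff, isUnit_iff_ne_zero, not_not]

lemma mem_maximalIdeal_iff (r : PowerSeries k) :
    r ∈ IsLocalRing.maximalIdeal (PowerSeries k) ↔ PowerSeries.constantCoeff r = 0 := by
  rw [← residue_eq_zero_iff, IsLocalRing.residue_eq_zero_iff]

lemma coeff_map_residue (G : MvPowerSeries (Fin 2) k) (j : ℕ) :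
    PowerSeries.coeff j ((Ψ G).map (IsLocalRing.residue (PowerSeries k))) = 0 ↔ c G 0 j = 0 := by
  rw [PowerSeries.coeff_map, residue_eq_zero_iff, ← PowerSeries.coeff_zero_eq_constantCoeff_apply,
    coeff_Ψ]

open Polynomial in
theorem weierstrass (G : MvPowerSeries (Fin 2) k) (n : ℕ) (hn : c G 0 n ≠ 0)
    (hlt : ∀ j < n, c G 0 j = 0) :
    ∃ f : (PowerSeries k)[X], f.IsDistinguishedAt (IsLocalRing.maximalIdeal (PowerSeries k)) ∧
      f.natDegree = n ∧
      Nonempty ((MvPowerSeries (Fin 2) k ⧸ Ideal.span {G}) ≃ₐ[k]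
        ((PowerSeries k)[X] ⧸ Ideal.span {f})) := by
  have hord : ((Ψ G).map (IsLocalRing.residue (PowerSeries k))).order = n := by
    rw [PowerSeries.order_eq_nat]
    refine ⟨fun h => hn ((coeff_map_residue G n).1 h), fun i hi => ?_⟩
    exact (coeff_map_residue G i).2 (hlt i hi)
  have hg : (Ψ G).map (IsLocalRing.residue (PowerSeries k)) ≠ 0 := by
    intro h
    rw [h, PowerSeries.order_zero] at hord
    exact ENat.top_ne_natCast n hord
  obtain ⟨f, h, H⟩ := PowerSeries.exists_isWeierstrassFactorization hg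
  refine ⟨f, H.isDistinguishedAt, ?_, ?_⟩
  · rw [H.natDegree_eq_toNat_order_map, hord]
    rfl
  · have e1 : (MvPowerSeries (Fin 2) k ⧸ Ideal.span {G}) ≃ₐ[k]
        (PowerSeries (PowerSeries k) ⧸ Ideal.span {Ψ G}) :=
      Ideal.quotientEquivAlg _ _ Ψ (by
        rw [Ideal.map_span, Set.image_singleton]; rfl)
    obtain ⟨e2⟩ := Groth.Agent.Lib.Seat71.JetGen.quot_weierstrass (k := k) H
    exact ⟨e1.trans e2⟩

end Groth.Agent.Lib.Seat71.JetPsi
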