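import Mathlib

/-!
# Length over a local ring with a coefficient field equals the dimension over that field (seat 73)
-/

set_option autoImplicit false
universe u v w

namespace Groth.Agent.Lib.Seat73.LenField

open IsLocalRing

variable {A : Type u} [CommRing A] [IsLocalRing A] {k : Type v} [Field k] [Algebra k A]

/-- A simple `A`-module is a simple `k`-module when `k → A/m` is onto. -/
theorem isSimpleModule_of_residue_surjective
    (hk : Function.Surjective (IsLocalRing.residue A ∘ algebraMap k A))
    (Q : Type w) [AddCommGroup Q] [Module A Q] [Module k Q] [IsScalarTower k A Q]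
    [IsSimpleModule A Q] : IsSimpleModule k Q := by
  have _n : Nontrivial Q := IsSimpleModule.nontrivial A Q
  have hann : Module.annihilator A Q = maximalIdeal A :=
    IsLocalRing.eq_maximalIdeal IsSimpleModule.annihilator_isMaximal
  refine { toNontrivial := inferInstance, eq_bot_or_eq_top := fun W => ?_ }
  by_cases hW : W = ⊥
  · exact Or.inl hW
  · right
    obtain ⟨w, hwW, hw0⟩ := (Submodule.ne_bot_iff W).mp hW
    rw [eq_top_iff]
    intro q _
    obtain ⟨a, rfl⟩ := IsSimpleModule.toSpanSingleton_surjective A hw0 q
    obtain ⟨c, hc⟩ := hk (IsLocalRing.residue A a)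
    have hmem : a - algebraMap k A c ∈ maximalIdeal A := by
      rw [← Ideal.Quotient.eq_zero_iff_mem, map_sub, sub_eq_zero]
      exact hc.symm
    rw [← hann, Module.mem_annihilator] at hmem
    have h1 := hmem w
    rw [sub_smul, sub_eq_zero] at h1
    rw [LinearMap.toSpanSingleton_apply, h1, algebraMap_smul]
    exact W.smul_mem c hwW

/-- For a finite-length module over a local ring `A` with a field `k → A` mapping onto the residue
field, the length over `A` equals the length (dimension) over `k`. -/
theorem length_eq_length_of_residue_surjective
    (hk : Function.Surjective (IsLocalRing.residue A ∘ algebraMap k A))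
    {M : Type w} [AddCommGroup M] [Module A M] (h : IsFiniteLength A M) :
    ∀ [Module k M] [IsScalarTower k A M], Module.length A M = Module.length k M := by
  induction h with
  | of_subsingleton =>
    intro _ _
    rw [Module.length_eq_zero, Module.length_eq_zero]
  | @of_simple_quotient M _ _ N _ _ ih =>
    intro _ _
    have hA := Module.length_eq_add_of_exact N.subtype N.mkQ N.injective_subtype
      N.mkQ_surjective (LinearMap.exact_subtype_mkQ N)
    have hK := Module.length_eq_add_of_exact (N.subtype.restrictScalars k)
      (N.mkQ.restrictScalars k) N.injective_subtype N.mkQ_surjective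
      (LinearMap.exact_subtype_mkQ N)
    have _s := isSimpleModule_of_residue_surjective hk (M ⧸ N)
    rw [hA, hK, ih, Module.length_eq_one A (M ⧸ N), Module.length_eq_one k (M ⧸ N)]

end Groth.Agent.Lib.Seat73.LenField
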