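import Mathlib
import Groth.Agent.Lib.Seat73LenField

/-!
# Length of `A/𝔞A` for a finite free local extension with the same coefficient field (seat 73)

* `length_eq_length_field`: over a local ring `A` with a field `k → A` onto the residue field, the length of
  any `A`-module equals its length (dimension) over `k` (no finiteness assumption).
* `length_quot_smul_top_of_basis`: for `M` free over `R` with a finite basis,
  `length_R (M/𝔞M) = |ι| · length_R (R/𝔞)`.
* `length_quot_map_of_basis`: for a local `R`-algebra `A`, free with a finite basis over the local ring `R`,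
  both with coefficient field `k`: `length_A (A/𝔞A) = |ι| · length_R (R/𝔞)`.
-/

set_option autoImplicit false
universe u v w

namespace Groth.Agent.Lib.Seat73.LenFree

open IsLocalRing TensorProduct

section field

variable {A : Type u} [CommRing A] [IsLocalRing A] {k : Type v} [Field k] [Algebra k A]

theorem length_eq_length_field
    (hk : Function.Surjective (IsLocalRing.residue A ∘ algebraMap k A))
    (M : Type w) [AddCommGroup M] [Module A M] [Module k M] [IsScalarTower k A M] :
    Module.length A M = Module.length k M := by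
  by_cases h : IsFiniteLength A M
  · exact LenField.length_eq_length_of_residue_surjective hk h
  · have h1 : Module.length A M = ⊤ := by
      by_contra hne
      exact h (Module.length_ne_top_iff.mp hne)
    have h2 := Submodule.length_le_length_restrictScalars k (⊤ : Submodule A M)
    rw [Submodule.restrictScalars_top, Module.length_top, Module.length_top, h1, top_le_iff] at h2
    rw [h1, h2]

end field

section free

variable {R : Type u} [CommRing R] {M : Type v} [AddCommGroup M] [Module R M]
  {ι : Type*} [Fintype ι]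

theorem length_quot_smul_top_of_basis (b : Module.Basis ι R M) (𝔞 : Ideal R) :
    Module.length R (M ⧸ (𝔞 • ⊤ : Submodule R M)) =
      (Fintype.card ι : ℕ∞) * Module.length R (R ⧸ 𝔞) := by
  classical
  have e1 : (M ⧸ (𝔞 • ⊤ : Submodule R M)) ≃ₗ[R] ((R ⧸ 𝔞) ⊗[R] M) :=
    (quotTensorEquivQuotSMul M 𝔞).symm
  have e2 : ((R ⧸ 𝔞) ⊗[R] M) ≃ₗ[R] ((R ⧸ 𝔞) ⊗[R] (ι →₀ R)) :=
    LinearEquiv.lTensor (R ⧸ 𝔞) b.repr
  have e3 : ((R ⧸ 𝔞) ⊗[R] (ι →₀ R)) ≃ₗ[R] (ι →₀ (R ⧸ 𝔞)) :=
    finsuppScalarRight R R (R ⧸ 𝔞) ι
  rw [e1.length_eq, e2.length_eq, e3.length_eq, Module.length_finsupp,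
    ENat.card_eq_coe_fintype_card]

end free

section main

variable {R : Type u} [CommRing R] [IsLocalRing R] {A : Type v} [CommRing A] [IsLocalRing A]
  [Algebra R A] {k : Type w} [Field k] [Algebra k R] [Algebra k A] [IsScalarTower k R A]
  {ι : Type*} [Fintype ι]

theorem length_quot_map_of_basis
    (hkR : Function.Surjective (IsLocalRing.residue R ∘ algebraMap k R))
    (hkA : Function.Surjective (IsLocalRing.residue A ∘ algebraMap k A))
    (b : Module.Basis ι R A) (𝔞 : Ideal R) :
    Module.length A (A ⧸ 𝔞.map (algebraMap R A)) =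
      (Fintype.card ι : ℕ∞) * Module.length R (R ⧸ 𝔞) := by
  rw [← length_quot_smul_top_of_basis b 𝔞]
  have h1 : Module.length A (A ⧸ 𝔞.map (algebraMap R A)) =
      Module.length k (A ⧸ 𝔞.map (algebraMap R A)) :=
    length_eq_length_field hkA _
  have h2 : Module.length R (A ⧸ 𝔞.map (algebraMap R A)) =
      Module.length k (A ⧸ 𝔞.map (algebraMap R A)) :=
    length_eq_length_field hkR _
  rw [h1, ← h2]
  have e1 : (A ⧸ (𝔞.map (algebraMap R A)).restrictScalars R) ≃ₗ[R]
      (A ⧸ 𝔞.map (algebraMap R A)) :=
    Submodule.Quotient.restrictScalarsEquiv R _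
  have e2 : (A ⧸ (𝔞 • ⊤ : Submodule R A)) ≃ₗ[R]
      (A ⧸ (𝔞.map (algebraMap R A)).restrictScalars R) :=
    Submodule.quotEquivOfEq _ _ (Ideal.smul_top_eq_map 𝔞)
  rw [← e1.length_eq, ← e2.length_eq]

end main

end Groth.Agent.Lib.Seat73.LenFree
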