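import Mathlib
import Groth.Agent.Lib.Helper19PowerSeries
import Groth.Agent.Lib.Seat71JetPsi
import Groth.Agent.Lib.Seat71HDPQuad
import Groth.Agent.Lib.Seat71HDPArith
import Groth.Agent.Lib.Seat73LenFree

set_option autoImplicit false
universe u

namespace Groth.Agent.Lib.Seat71.HDPIso

open MvPowerSeries Groth.Agent.Lib.Seat71.HDPQuad

variable (k : Type u) [Field k] (n : ℕ)

instance adicS : IsAdicComplete (IsLocalRing.maximalIdeal (MvPowerSeries (Fin 2) k))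
    (MvPowerSeries (Fin 2) k) :=
  Groth.Agent.Lib.Helper19.isAdicComplete_mvPowerSeries (σ := Fin 2) (Λ := k)

/-- `yⁿ ∈ k[[y,t]]`. -/
noncomputable def dd : MvPowerSeries (Fin 2) k := X 0 ^ n

/-- `x² - yⁿ ∈ k[[x,y,t]]`. -/
noncomputable def ff : MvPowerSeries (Fin 3) k := X 0 ^ 2 - X 1 ^ n

/-- The polynomial `X² - yⁿ` over `k[[y,t]]`. -/
noncomputable def gg : Polynomial (MvPowerSeries (Fin 2) k) :=
  Polynomial.X ^ 2 - Polynomial.C (dd k n)

lemma finSucc_X0 : finSuccEquiv k 2 (X 0) = ((Polynomial.X : Polynomial (MvPowerSeries (Fin 2) k)) :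
    PowerSeries (MvPowerSeries (Fin 2) k)) := by
  rw [finSuccEquiv_X_zero, Polynomial.coe_X]

lemma finSucc_X1 : finSuccEquiv k 2 (X 1) =
    ((Polynomial.C (X 0) : Polynomial (MvPowerSeries (Fin 2) k)) :
    PowerSeries (MvPowerSeries (Fin 2) k)) := by
  have : (1 : Fin 3) = Fin.succ (0 : Fin 2) := rfl
  rw [this, finSuccEquiv_X_succ, Polynomial.coe_C]

lemma finSucc_X2 : finSuccEquiv k 2 (X 2) =
    ((Polynomial.C (X 1) : Polynomial (MvPowerSeries (Fin 2) k)) :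
    PowerSeries (MvPowerSeries (Fin 2) k)) := by
  have : (2 : Fin 3) = Fin.succ (1 : Fin 2) := rfl
  rw [this, finSuccEquiv_X_succ, Polynomial.coe_C]

lemma finSucc_ff : finSuccEquiv k 2 (ff k n) = ((gg k n : Polynomial (MvPowerSeries (Fin 2) k)) :
    PowerSeries (MvPowerSeries (Fin 2) k)) := by
  unfold ff gg dd
  rw [map_sub, map_pow, map_pow, finSucc_X0, finSucc_X1]
  simp

lemma dd_mem (hn : 1 ≤ n) : dd k n ∈ IsLocalRing.maximalIdeal (MvPowerSeries (Fin 2) k) := by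
  rw [IsLocalRing.mem_maximalIdeal, mem_nonunits_iff, MvPowerSeries.isUnit_iff_constantCoeff]
  unfold dd
  rw [map_pow, MvPowerSeries.constantCoeff_X, zero_pow (by omega)]
  exact not_isUnit_zero

lemma gg_dist (hn : 1 ≤ n) :
    (gg k n).IsDistinguishedAt (IsLocalRing.maximalIdeal (MvPowerSeries (Fin 2) k)) := by
  unfold gg
  refine ⟨⟨fun {i} hi => ?_⟩, Polynomial.monic_X_pow_sub_C _ (by norm_num)⟩
  rw [Polynomial.natDegree_X_pow_sub_C] at hi
  interval_cases i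
  · simp [dd_mem k n hn]
  · simp [Polynomial.coeff_X_pow]

/-- Step 1: `k[[x,y,t]]/(f) ≃ k[[y,t]][[X]]/(g)`. -/
noncomputable def e1 : (MvPowerSeries (Fin 3) k ⧸ Ideal.span {ff k n}) ≃ₐ[k]
    (PowerSeries (MvPowerSeries (Fin 2) k) ⧸
      Ideal.span {((gg k n : Polynomial (MvPowerSeries (Fin 2) k)) :
        PowerSeries (MvPowerSeries (Fin 2) k))}) :=
  Ideal.quotientEquivAlg _ _ (finSuccEquiv k 2) (by
    rw [Ideal.map_span, Set.image_singleton]
    congr 2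
    exact (finSucc_ff k n).symm)

lemma e1_mk (p : MvPowerSeries (Fin 3) k) :
    e1 k n (Ideal.Quotient.mk _ p) = Ideal.Quotient.mk _ (finSuccEquiv k 2 p) := rfl

variable {n} in
/-- Step 2 (Weierstrass): `k[[y,t]][X]/(g) ≃ k[[y,t]][[X]]/(g)`. -/
noncomputable def e2 (hn : 1 ≤ n) :
    (Polynomial (MvPowerSeries (Fin 2) k) ⧸ Ideal.span {gg k n}) ≃ₐ[MvPowerSeries (Fin 2) k]
    (PowerSeries (MvPowerSeries (Fin 2) k) ⧸
      Ideal.span {((gg k n : Polynomial (MvPowerSeries (Fin 2) k)) :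
        PowerSeries (MvPowerSeries (Fin 2) k))}) :=
  (gg_dist k n hn).algEquivQuotient

variable {n} in
lemma e2_mk (hn : 1 ≤ n) (q : Polynomial (MvPowerSeries (Fin 2) k)) :
    e2 k hn (Ideal.Quotient.mk _ q) = Ideal.Quotient.mk _ (q : PowerSeries (MvPowerSeries (Fin 2) k)) :=
  rfl

variable {n} in
/-- The isomorphism `k[[x,y,t]]/(x² - yⁿ) ≃ k[[y,t]][ω]/(ω² = yⁿ)`. -/
noncomputable def Φ (hn : 1 ≤ n) : (MvPowerSeries (Fin 3) k ⧸ Ideal.span {ff k n}) ≃ₐ[k]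
    QuadraticAlgebra (MvPowerSeries (Fin 2) k) (dd k n) 0 :=
  (e1 k n).trans (((e2 k hn).symm.trans (polyEquiv (dd k n))).restrictScalars k)

variable {n} in
lemma Φ_mk (hn : 1 ≤ n) (p : MvPowerSeries (Fin 3) k) (q : Polynomial (MvPowerSeries (Fin 2) k))
    (h : finSuccEquiv k 2 p = (q : PowerSeries (MvPowerSeries (Fin 2) k))) :
    Φ k hn (Ideal.Quotient.mk _ p) = polyEquiv (dd k n) (Ideal.Quotient.mk _ q) := by
  unfold Φ
  rw [AlgEquiv.trans_apply, e1_mk, h, ← e2_mk k hn]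
  simp
  rfl

variable {n} in
lemma Φ_X0 (hn : 1 ≤ n) : Φ k hn (Ideal.Quotient.mk _ (X 0)) = QuadraticAlgebra.omega := by
  rw [Φ_mk k hn _ _ (finSucc_X0 k)]
  exact polyEquiv_mk_X _

variable {n} in
lemma Φ_X1 (hn : 1 ≤ n) : Φ k hn (Ideal.Quotient.mk _ (X 1)) =
    algebraMap (MvPowerSeries (Fin 2) k) (QuadraticAlgebra (MvPowerSeries (Fin 2) k) (dd k n) 0) (X 0) := by
  rw [Φ_mk k hn _ _ (finSucc_X1 k)]
  exact polyEquiv_mk_C _ _

variable {n} in
lemma Φ_X2 (hn : 1 ≤ n) : Φ k hn (Ideal.Quotient.mk _ (X 2)) =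
    algebraMap (MvPowerSeries (Fin 2) k) (QuadraticAlgebra (MvPowerSeries (Fin 2) k) (dd k n) 0) (X 1) := by
  rw [Φ_mk k hn _ _ (finSucc_X2 k)]
  exact polyEquiv_mk_C _ _

/-! ### Transport of the ideal -/

open Groth.Agent.Lib.Seat71.HDPMono Groth.Agent.Lib.Seat71.HDPArith

/-- `(x², xy, y², xt, yt², t⁴)` in `k[[x,y,t]]`. -/
noncomputable def J0 : Ideal (MvPowerSeries (Fin 3) k) :=
  Ideal.span {X 0 ^ 2, X 0 * X 1, X 1 ^ 2, X 0 * X 2, X 1 * X 2 ^ 2, X 2 ^ 4}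

/-- Its image in the quotient. -/
noncomputable def I0 : Ideal (MvPowerSeries (Fin 3) k ⧸ Ideal.span {ff k n}) :=
  Ideal.map (Ideal.Quotient.mk _) (J0 k)

/-- Extension of ideals from `k[[y,t]]` to the quadratic algebra. -/
noncomputable def ext (𝔞 : Ideal (MvPowerSeries (Fin 2) k)) :
    Ideal (QuadraticAlgebra (MvPowerSeries (Fin 2) k) (dd k n) 0) :=
  Ideal.map (algebraMap (MvPowerSeries (Fin 2) k)
    (QuadraticAlgebra (MvPowerSeries (Fin 2) k) (dd k n) 0)) 𝔞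

variable {n} in
lemma map_I0_le (hn : 3 ≤ n) :
    Ideal.map (Φ k (show 1 ≤ n by omega) : _ →+* _) (I0 k n) ≤
      ext k n (Q k ^ 2) ⊔ Ideal.span {QuadraticAlgebra.omega} * ext k n (Nn k) := by
  have hn1 : 1 ≤ n := by omega
  unfold I0 J0
  rw [Ideal.map_map, Ideal.map_span, Ideal.span_le]
  rintro _ ⟨g, hg, rfl⟩
  have hω : (QuadraticAlgebra.omega : QuadraticAlgebra (MvPowerSeries (Fin 2) k) (dd k n) 0) ∈
      Ideal.span {(QuadraticAlgebra.omega : QuadraticAlgebra (MvPowerSeries (Fin 2) k) (dd k n) 0)} :=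
    Ideal.mem_span_singleton_self _
  have hX0 : (X 0 : MvPowerSeries (Fin 2) k) ∈ Nn k := Ideal.subset_span (by simp)
  have hX1 : (X 1 : MvPowerSeries (Fin 2) k) ∈ Nn k := Ideal.subset_span (by simp)
  have hX0Q : (X 0 : MvPowerSeries (Fin 2) k) ∈ Q k := Ideal.subset_span (by simp)
  have hX1Q : (X 1 ^ 2 : MvPowerSeries (Fin 2) k) ∈ Q k := Ideal.subset_span (by simp)
  simp only [Set.mem_insert_iff, Set.mem_singleton_iff] at hg
  rcases hg with rfl | rfl | rfl | rfl | rfl | rfl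
  · show Φ k hn1 (Ideal.Quotient.mk _ (X 0 ^ 2)) ∈ _
    rw [map_pow, map_pow, Φ_X0, omega_sq]
    exact Ideal.mem_sup_left (Ideal.mem_map_of_mem _ (X0_pow_mem_Q_pow k (by omega)))
  · show Φ k hn1 (Ideal.Quotient.mk _ (X 0 * X 1)) ∈ _
    rw [map_mul, map_mul, Φ_X0, Φ_X1]
    exact Ideal.mem_sup_right (Ideal.mul_mem_mul hω (Ideal.mem_map_of_mem _ hX0))
  · show Φ k hn1 (Ideal.Quotient.mk _ (X 1 ^ 2)) ∈ _
    rw [map_pow, map_pow, Φ_X1, ← map_pow]
    exact Ideal.mem_sup_left (Ideal.mem_map_of_mem _ (Ideal.pow_mem_pow hX0Q 2))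
  · show Φ k hn1 (Ideal.Quotient.mk _ (X 0 * X 2)) ∈ _
    rw [map_mul, map_mul, Φ_X0, Φ_X2]
    exact Ideal.mem_sup_right (Ideal.mul_mem_mul hω (Ideal.mem_map_of_mem _ hX1))
  · show Φ k hn1 (Ideal.Quotient.mk _ (X 1 * X 2 ^ 2)) ∈ _
    rw [map_mul, map_mul, map_pow, map_pow, Φ_X1, Φ_X2, ← map_pow, ← map_mul]
    refine Ideal.mem_sup_left (Ideal.mem_map_of_mem _ ?_)
    rw [pow_two (Q k)]
    exact Ideal.mul_mem_mul hX0Q hX1Q
  · show Φ k hn1 (Ideal.Quotient.mk _ (X 2 ^ 4)) ∈ _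
    rw [map_pow, map_pow, Φ_X2, ← map_pow]
    refine Ideal.mem_sup_left (Ideal.mem_map_of_mem _ ?_)
    have : (X 1 ^ 4 : MvPowerSeries (Fin 2) k) = (X 1 ^ 2) ^ 2 := by ring
    rw [this]
    exact Ideal.pow_mem_pow hX1Q 2

variable {n} in
lemma mem_map_I0 (hn1 : 1 ≤ n) (g : MvPowerSeries (Fin 3) k)
    (hg : g ∈ ({X 0 ^ 2, X 0 * X 1, X 1 ^ 2, X 0 * X 2, X 1 * X 2 ^ 2, X 2 ^ 4} :
      Set (MvPowerSeries (Fin 3) k))) :
    Φ k hn1 (Ideal.Quotient.mk _ g) ∈ Ideal.map (Φ k hn1 : _ →+* _) (I0 k n) :=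
  Ideal.mem_map_of_mem _ (Ideal.mem_map_of_mem _ (Ideal.subset_span hg))

variable {n} in
lemma le_map_I0 (hn1 : 1 ≤ n) :
    ext k n (Q k ^ 2) ⊔ Ideal.span {QuadraticAlgebra.omega} * ext k n (Nn k) ≤
      Ideal.map (Φ k hn1 : _ →+* _) (I0 k n) := by
  refine sup_le ?_ ?_
  · unfold ext Q
    rw [Ideal.map_pow, Ideal.map_span, Set.image_pair, pow_two, Ideal.span_mul_span', Ideal.span_le]
    rintro _ ⟨a, ha, b, hb, rfl⟩
    simp only [Set.mem_insert_iff, Set.mem_singleton_iff] at ha hb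
    rcases ha with rfl | rfl <;> rcases hb with rfl | rfl
    · have := mem_map_I0 k hn1 (X 1 ^ 2) (by simp)
      rw [map_pow, map_pow, Φ_X1, pow_two] at this
      exact this
    · have := mem_map_I0 k hn1 (X 1 * X 2 ^ 2) (by simp)
      rw [map_mul, map_mul, map_pow, map_pow, Φ_X1, Φ_X2, ← map_pow] at this
      exact this
    · have := mem_map_I0 k hn1 (X 1 * X 2 ^ 2) (by simp)
      rw [map_mul, map_mul, map_pow, map_pow, Φ_X1, Φ_X2, ← map_pow, mul_comm] at this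
      exact this
    · have := mem_map_I0 k hn1 (X 2 ^ 4) (by simp)
      rw [map_pow, map_pow, Φ_X2] at this
      show _ * _ ∈ _
      rw [map_pow, ← pow_two, ← pow_mul]
      exact this
  · unfold ext Nn
    rw [Ideal.map_span, Set.image_pair, Ideal.span_mul_span', Ideal.span_le]
    rintro _ ⟨a, ha, b, hb, rfl⟩
    simp only [Set.mem_insert_iff, Set.mem_singleton_iff] at ha hb
    subst ha
    rcases hb with rfl | rfl
    · have := mem_map_I0 k hn1 (X 0 * X 1) (by simp)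
      rw [map_mul, map_mul, Φ_X0, Φ_X1] at this
      exact this
    · have := mem_map_I0 k hn1 (X 0 * X 2) (by simp)
      rw [map_mul, map_mul, Φ_X0, Φ_X2] at this
      exact this

variable {n} in
theorem map_I0 (hn : 3 ≤ n) :
    Ideal.map (Φ k (show 1 ≤ n by omega) : _ →+* _) (I0 k n) =
      ext k n (Q k ^ 2) ⊔ Ideal.span {QuadraticAlgebra.omega} * ext k n (Nn k) :=
  le_antisymm (map_I0_le k hn) (le_map_I0 k _)

variable {n} in
lemma sq_le (hn : 3 ≤ n) :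
    (Ideal.span {QuadraticAlgebra.omega} * ext k n (Nn k)) *
      (Ideal.span {QuadraticAlgebra.omega} * ext k n (Nn k)) ≤
    ext k n (Q k ^ 2) * ext k n (Q k ^ 2) := by
  have h1 : (Ideal.span {QuadraticAlgebra.omega} * ext k n (Nn k)) *
      (Ideal.span {QuadraticAlgebra.omega} * ext k n (Nn k)) =
      ext k n (Ideal.span {dd k n} * (Nn k * Nn k)) := by
    rw [mul_mul_mul_comm, Ideal.span_singleton_mul_span_singleton, ← pow_two, omega_sq]
    unfold ext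
    rw [Ideal.map_mul, Ideal.map_mul, Ideal.map_span, Set.image_singleton]
  rw [h1]
  unfold ext
  rw [← Ideal.map_mul]
  exact Ideal.map_mono (dd_mul_Nn_sq_le k hn)

variable {n} in
theorem map_I0_pow (hn : 3 ≤ n) (m : ℕ) :
    Ideal.map (Φ k (show 1 ≤ n by omega) : _ →+* _) (I0 k n ^ (m + 1)) =
      T (dd k n) (Q k ^ (2 * (m + 1))) (Nn k * Q k ^ (2 * m)) (Q_pow_le k m)
        (dd_mul_mem k (show 2 ≤ n by omega) m) := by
  rw [Ideal.map_pow, map_I0 k hn, sup_pow_of_sq_le _ _ (sq_le k hn) m, ← T_eq]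
  unfold ext
  rw [← Ideal.map_pow, ← pow_mul, mul_assoc, ← Ideal.map_pow, ← pow_mul, ← Ideal.map_mul]

/-! ### Lengths -/

variable {n} in
theorem length_field (hn : 3 ≤ n) (m : ℕ) :
    Module.length k ((MvPowerSeries (Fin 3) k ⧸ Ideal.span {ff k n}) ⧸ I0 k n ^ (m + 1)) =
      (((2 * (m + 1)) * (2 * (m + 1) + 1) + (2 * m + 1) ^ 2 : ℕ) : ℕ∞) := by
  have e := Ideal.quotientEquivAlg (I0 k n ^ (m + 1)) _ (Φ k (show 1 ≤ n by omega))
    (map_I0_pow k hn m).symm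
  rw [e.toLinearEquiv.length_eq, length_quot_T (dd k n) k, length_quot_Q_pow, length_quot_Nn_mul_Q_pow]
  push_cast
  rfl

lemma residue_surjective :
    Function.Surjective (IsLocalRing.residue (MvPowerSeries (Fin 3) k) ∘
      algebraMap k (MvPowerSeries (Fin 3) k)) := by
  intro x
  obtain ⟨p, rfl⟩ := IsLocalRing.residue_surjective x
  refine ⟨constantCoeff p, ?_⟩
  rw [Function.comp_apply, ← sub_eq_zero, ← map_sub, IsLocalRing.residue_eq_zero_iff,
    IsLocalRing.mem_maximalIdeal, mem_nonunits_iff, MvPowerSeries.isUnit_iff_constantCoeff]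
  rw [map_sub]
  have : constantCoeff (algebraMap k (MvPowerSeries (Fin 3) k) (constantCoeff p)) = constantCoeff p := by
    rw [MvPowerSeries.algebraMap_apply]
    simp
  rw [this, sub_self]
  exact not_isUnit_zero

variable {n} in
theorem length_ring (hn : 3 ≤ n) (m : ℕ) :
    Module.length (MvPowerSeries (Fin 3) k ⧸ Ideal.span {ff k n})
      ((MvPowerSeries (Fin 3) k ⧸ Ideal.span {ff k n}) ⧸ I0 k n ^ (m + 1)) =
      (((2 * (m + 1)) * (2 * (m + 1) + 1) + (2 * m + 1) ^ 2 : ℕ) : ℕ∞) := by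
  rw [← length_field k hn m,
    ← Module.length_eq_of_surjective (S := MvPowerSeries (Fin 3) k) Ideal.Quotient.mk_surjective]
  exact Groth.Agent.Lib.Seat73.LenFree.length_eq_length_field (residue_surjective k) _

variable {n} in
/-- The length formula with all definitions unfolded. -/
theorem length_explicit (hn : 3 ≤ n) (m : ℕ) :
    Module.length (MvPowerSeries (Fin 3) k ⧸ Ideal.span {(X 0 ^ 2 - X 1 ^ n : MvPowerSeries (Fin 3) k)})
      ((MvPowerSeries (Fin 3) k ⧸ Ideal.span {(X 0 ^ 2 - X 1 ^ n : MvPowerSeries (Fin 3) k)}) ⧸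
        (Ideal.map (Ideal.Quotient.mk (Ideal.span {(X 0 ^ 2 - X 1 ^ n : MvPowerSeries (Fin 3) k)}))
          (Ideal.span {(X 0 ^ 2 : MvPowerSeries (Fin 3) k), X 0 * X 1, X 1 ^ 2, X 0 * X 2,
            X 1 * X 2 ^ 2, X 2 ^ 4})) ^ (m + 1)) =
      (((2 * (m + 1)) * (2 * (m + 1) + 1) + (2 * m + 1) ^ 2 : ℕ) : ℕ∞) :=
  length_ring k hn m

end Groth.Agent.Lib.Seat71.HDPIso
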