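import Mathlib
import Groth.Agent.Lib.Helper5IntDim
import Groth.Agent.Lib.Helper19PowerSeries

/-!
# Artin–Schreier families over a local ring (seat 73)

For a local ring `R`, elements `a x : Fin n → R` of its maximal ideal with `𝔪 = (x_1, …, x_n)`, and an
integer `p ≥ 2`, the ring `A = R[u_1..u_n]/(u_i^p - a_i^(p-1) u_i - x_i)` is integral over `R`, local with
maximal ideal `(u_1..u_n)`, and (when `R` is a Noetherian domain of dimension `≥ n`) regular.
-/

set_option autoImplicit false
universe u

namespace Groth.Agent.Lib.Seat73.ArtinSchreier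

open MvPolynomial IsLocalRing

variable {R : Type u} [CommRing R] (p n : ℕ) (a x : Fin n → R)

/-- The Artin–Schreier polynomials `u_i^p - a_i^(p-1) u_i - x_i`. -/
noncomputable abbrev asPoly (i : Fin n) : MvPolynomial (Fin n) R :=
  X i ^ p - C (a i ^ (p - 1)) * X i - C (x i)

/-- The ideal generated by the Artin–Schreier polynomials. -/
noncomputable abbrev asIdeal : Ideal (MvPolynomial (Fin n) R) :=
  Ideal.span (Set.range fun i : Fin n => X i ^ p - C (a i ^ (p - 1)) * X i - C (x i))

/-- The ideal of the variables. -/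
noncomputable abbrev varIdeal : Ideal (MvPolynomial (Fin n) R) :=
  Ideal.span (Set.range (X : Fin n → MvPolynomial (Fin n) R))

theorem asPoly_mem (i : Fin n) : asPoly p n a x i ∈ asIdeal p n a x :=
  Ideal.subset_span ⟨i, rfl⟩

theorem mk_X_pow (i : Fin n) :
    (Ideal.Quotient.mk (asIdeal p n a x) (X i)) ^ p =
      algebraMap R _ (a i ^ (p - 1)) * Ideal.Quotient.mk (asIdeal p n a x) (X i) +
        algebraMap R _ (x i) := by
  have h := (Ideal.Quotient.eq_zero_iff_mem).2 (asPoly_mem p n a x i)
  rw [map_sub, map_sub, map_mul, map_pow, sub_sub, sub_eq_zero] at h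
  rw [h]
  rfl

section integral

/-- The one-variable Artin–Schreier polynomial. -/
noncomputable def asPoly1 (i : Fin n) : Polynomial R :=
  Polynomial.X ^ (p - 1 + 1) - (Polynomial.C (a i ^ (p - 1)) * Polynomial.X + Polynomial.C (x i))

theorem asPoly1_monic [Nontrivial R] (hp : 2 ≤ p) (i : Fin n) : (asPoly1 p n a x i).Monic := by
  have hdeg : (Polynomial.C (a i ^ (p - 1)) * Polynomial.X + Polynomial.C (x i)).degree <
      ((p - 1 + 1 : ℕ) : WithBot ℕ) := by
    refine lt_of_le_of_lt (Polynomial.degree_add_le _ _) (max_lt ?_ ?_)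
    · refine lt_of_le_of_lt (Polynomial.degree_C_mul_X_le _) ?_
      exact_mod_cast (by omega : 1 < p - 1 + 1)
    · refine lt_of_le_of_lt (Polynomial.degree_C_le (a := x i)) ?_
      exact_mod_cast (Nat.succ_pos _)
  exact Polynomial.monic_X_pow_sub hdeg

theorem asPoly1_natDegree [Nontrivial R] (hp : 2 ≤ p) (i : Fin n) :
    (asPoly1 p n a x i).natDegree = p := by
  have h : (asPoly1 p n a x i).natDegree = p - 1 + 1 := by
    rw [asPoly1, Polynomial.natDegree_sub_eq_left_of_natDegree_lt, Polynomial.natDegree_X_pow]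
    rw [Polynomial.natDegree_X_pow]
    refine lt_of_le_of_lt (Polynomial.natDegree_add_le _ _) (max_lt ?_ ?_)
    · refine lt_of_le_of_lt (Polynomial.natDegree_C_mul_le _ _) ?_
      rw [Polynomial.natDegree_X]; omega
    · rw [Polynomial.natDegree_C]; omega
  omega

theorem aeval_mk_X_asPoly1 (hp : 2 ≤ p) (i : Fin n) :
    Polynomial.aeval (Ideal.Quotient.mk (asIdeal p n a x) (X i)) (asPoly1 p n a x i) = 0 := by
  have hp1 : p - 1 + 1 = p := by omega
  rw [asPoly1, hp1, map_sub, map_add, map_mul, map_pow, Polynomial.aeval_X, Polynomial.aeval_C,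
    Polynomial.aeval_C, mk_X_pow, sub_self]

theorem isIntegral_mk_X [Nontrivial R] (hp : 2 ≤ p) (i : Fin n) :
    IsIntegral R (Ideal.Quotient.mk (asIdeal p n a x) (X i)) :=
  ⟨asPoly1 p n a x i, asPoly1_monic p n a x hp i, aeval_mk_X_asPoly1 p n a x hp i⟩

theorem algebra_isIntegral [Nontrivial R] (hp : 2 ≤ p) :
    Algebra.IsIntegral R (MvPolynomial (Fin n) R ⧸ asIdeal p n a x) := by
  refine ⟨fun z => ?_⟩
  obtain ⟨g, rfl⟩ := Ideal.Quotient.mk_surjective z
  induction g using MvPolynomial.induction_on with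
  | C r => exact isIntegral_algebraMap
  | add f g hf hg => rw [map_add]; exact hf.add hg
  | mul_X f i hf => rw [map_mul]; exact hf.mul (isIntegral_mk_X p n a x hp i)

end integral

section maximal

variable [IsLocalRing R]

/-- The map `R[u] → R/𝔪`, `u_i ↦ 0`. -/
noncomputable def toRes : MvPolynomial (Fin n) R →+* ResidueField R :=
  (residue R).comp (constantCoeff (R := R) (σ := Fin n))

theorem toRes_surjective : Function.Surjective (toRes (R := R) n) := by
  intro y
  obtain ⟨r, rfl⟩ := residue_surjective y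
  exact ⟨C r, by simp [toRes]⟩

theorem ker_toRes_eq (hp : p ≠ 0) (hx : ∀ i, x i ∈ maximalIdeal R)
    (hspan : maximalIdeal R ≤ Ideal.span (Set.range x)) :
    RingHom.ker (toRes (R := R) n) = varIdeal n ⊔ asIdeal p n a x := by
  apply le_antisymm
  · intro g hg
    rw [RingHom.mem_ker, toRes, RingHom.comp_apply, residue_eq_zero_iff] at hg
    have h1 : g - C (constantCoeff g) ∈ varIdeal (R := R) n := by
      have : g - C (constantCoeff g) ∈ idealOfVars (Fin n) R ^ 1 := by
        rw [mem_pow_idealOfVars_iff']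
        intro m hm
        have hm0 : m = 0 := (Finsupp.degree_eq_zero_iff m).1 (by omega)
        subst hm0
        simp [constantCoeff_eq]
      rwa [pow_one] at this
    have hCx : ∀ i, C (x i) ∈ varIdeal n ⊔ asIdeal p n a x := by
      intro i
      have e : (C (x i) : MvPolynomial (Fin n) R) =
          (X i ^ (p - 1) - C (a i ^ (p - 1))) * X i - asPoly p n a x i := by
        have : (X i : MvPolynomial (Fin n) R) ^ p = X i ^ (p - 1) * X i := by
          rw [← pow_succ, Nat.sub_add_cancel (Nat.one_le_iff_ne_zero.2 hp)]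
        rw [asPoly, this]; ring
      rw [e]
      refine Ideal.sub_mem _ (Ideal.mem_sup_left ?_) (Ideal.mem_sup_right (asPoly_mem p n a x i))
      exact Ideal.mul_mem_left _ _ (Ideal.subset_span ⟨i, rfl⟩)
    have h2 : C (constantCoeff g) ∈ varIdeal n ⊔ asIdeal p n a x := by
      have h3 : (Ideal.span (Set.range x)).map (C : R →+* MvPolynomial (Fin n) R) ≤
          varIdeal n ⊔ asIdeal p n a x := by
        rw [Ideal.map_span, Ideal.span_le]
        rintro _ ⟨_, ⟨i, rfl⟩, rfl⟩
        exact hCx i
      exact h3 (Ideal.mem_map_of_mem _ (hspan hg))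
    have := Ideal.add_mem _ (Ideal.mem_sup_left h1) h2
    rwa [sub_add_cancel] at this
  · rw [sup_le_iff, Ideal.span_le, Ideal.span_le]
    constructor
    · rintro _ ⟨i, rfl⟩
      simp [toRes]
    · rintro _ ⟨i, rfl⟩
      rw [SetLike.mem_coe, RingHom.mem_ker, toRes, RingHom.comp_apply, residue_eq_zero_iff]
      simp only [map_sub, map_mul, map_pow, constantCoeff_X, constantCoeff_C, zero_pow hp,
        mul_zero, sub_zero, zero_sub]
      exact neg_mem (hx i)

theorem sup_isMaximal (hp : p ≠ 0) (hx : ∀ i, x i ∈ maximalIdeal R)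
    (hspan : maximalIdeal R ≤ Ideal.span (Set.range x)) :
    (varIdeal n ⊔ asIdeal p n a x).IsMaximal := by
  rw [← ker_toRes_eq p n a x hp hx hspan]
  exact RingHom.ker_isMaximal_of_surjective _ (toRes_surjective n)

theorem map_varIdeal_isMaximal (hp : p ≠ 0) (hx : ∀ i, x i ∈ maximalIdeal R)
    (hspan : maximalIdeal R ≤ Ideal.span (Set.range x)) :
    ((varIdeal n).map (Ideal.Quotient.mk (asIdeal p n a x))).IsMaximal := by
  have hsurj : Function.Surjective (Ideal.Quotient.mk (asIdeal p n a x)) :=
    Ideal.Quotient.mk_surjective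
  have hcomap : ((varIdeal n).map (Ideal.Quotient.mk (asIdeal p n a x))).comap
      (Ideal.Quotient.mk (asIdeal p n a x)) = varIdeal n ⊔ asIdeal p n a x := by
    rw [Ideal.comap_map_of_surjective _ hsurj, ← RingHom.ker_eq_comap_bot, Ideal.mk_ker]
  have hmax := sup_isMaximal p n a x hp hx hspan
  rw [← hcomap] at hmax
  have := Ideal.map_eq_top_or_isMaximal_of_surjective _ hsurj hmax
  rw [Ideal.map_comap_of_surjective _ hsurj] at this
  rcases this with h | h
  · exfalso
    rw [h, Ideal.comap_top] at hmax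
    exact hmax.ne_top rfl
  · exact h

/-- every maximal ideal of `A` is `(u_1..u_n)` -/
theorem eq_map_varIdeal_of_isMaximal (hp : 2 ≤ p) (ha : ∀ i, a i ∈ maximalIdeal R)
    (hx : ∀ i, x i ∈ maximalIdeal R) (hspan : maximalIdeal R ≤ Ideal.span (Set.range x))
    (N : Ideal (MvPolynomial (Fin n) R ⧸ asIdeal p n a x)) [hN : N.IsMaximal] :
    N = (varIdeal n).map (Ideal.Quotient.mk (asIdeal p n a x)) := by
  have hint := algebra_isIntegral p n a x hp
  have hmax : (N.comap (algebraMap R (MvPolynomial (Fin n) R ⧸ asIdeal p n a x))).IsMaximal :=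
    Ideal.isMaximal_comap_of_isIntegral_of_isMaximal N
  have hcm := IsLocalRing.eq_maximalIdeal hmax
  have hmem : ∀ r ∈ maximalIdeal R,
      algebraMap R (MvPolynomial (Fin n) R ⧸ asIdeal p n a x) r ∈ N := by
    intro r hr
    rw [← hcm] at hr
    exact hr
  have hM := map_varIdeal_isMaximal p n a x (by omega) hx hspan
  symm
  apply hM.eq_of_le hN.ne_top
  rw [Ideal.map_span, Ideal.span_le]
  rintro _ ⟨_, ⟨i, rfl⟩, rfl⟩
  apply hN.isPrime.mem_of_pow_mem p
  rw [mk_X_pow]
  refine N.add_mem (N.mul_mem_right _ (hmem _ ?_)) (hmem _ (hx i))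
  exact Ideal.pow_mem_of_mem _ (ha i) _ (by omega)

theorem isLocalRing (hp : 2 ≤ p) (ha : ∀ i, a i ∈ maximalIdeal R)
    (hx : ∀ i, x i ∈ maximalIdeal R) (hspan : maximalIdeal R ≤ Ideal.span (Set.range x)) :
    IsLocalRing (MvPolynomial (Fin n) R ⧸ asIdeal p n a x) := by
  apply IsLocalRing.of_unique_max_ideal
  refine ⟨_, map_varIdeal_isMaximal p n a x (by omega) hx hspan, fun N hN => ?_⟩
  have _i := hN
  exact eq_map_varIdeal_of_isMaximal p n a x hp ha hx hspan N

end maximal

section injective

variable [IsDomain R]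

theorem algebraMap_injective (hp : 2 ≤ p) :
    Function.Injective (algebraMap R (MvPolynomial (Fin n) R ⧸ asIdeal p n a x)) := by
  classical
  let K := FractionRing R
  let L := AlgebraicClosure K
  have hroot : ∀ i, ∃ ρ : L, Polynomial.eval₂ (algebraMap R L) ρ (asPoly1 p n a x i) = 0 := by
    intro i
    have hmonic := (asPoly1_monic p n a x hp i).map (algebraMap R L)
    have hdeg : ((asPoly1 p n a x i).map (algebraMap R L)).degree ≠ 0 := by
      rw [Polynomial.degree_eq_natDegree hmonic.ne_zero,
        (asPoly1_monic p n a x hp i).natDegree_map, asPoly1_natDegree p n a x hp i]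
      exact_mod_cast (by omega : p ≠ 0)
    obtain ⟨ρ, hρ⟩ := IsAlgClosed.exists_root _ hdeg
    exact ⟨ρ, by rwa [Polynomial.IsRoot, Polynomial.eval_map] at hρ⟩
  choose ρ hρ using hroot
  let ψ : MvPolynomial (Fin n) R →+* L := MvPolynomial.eval₂Hom (algebraMap R L) ρ
  have hp1 : p - 1 + 1 = p := by omega
  have hψ : ∀ g ∈ asIdeal p n a x, ψ g = 0 := by
    intro g hg
    have hle : asIdeal p n a x ≤ RingHom.ker ψ := by
      rw [Ideal.span_le]
      rintro _ ⟨i, rfl⟩
      rw [SetLike.mem_coe, RingHom.mem_ker]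
      have := hρ i
      simp only [asPoly1, hp1, Polynomial.eval₂_sub, Polynomial.eval₂_add, Polynomial.eval₂_mul,
        Polynomial.eval₂_pow, Polynomial.eval₂_X, Polynomial.eval₂_C] at this
      simp only [ψ, map_sub, map_mul, map_pow, MvPolynomial.eval₂Hom_X', MvPolynomial.eval₂Hom_C]
      simp only [map_pow] at this
      rw [← this]; ring
    exact hle hg
  let φ : (MvPolynomial (Fin n) R ⧸ asIdeal p n a x) →+* L := Ideal.Quotient.lift _ ψ hψ
  have hcomp : ∀ r : R, φ (algebraMap R _ r) = algebraMap R L r := by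
    intro r
    change φ (Ideal.Quotient.mk _ (C r)) = _
    rw [Ideal.Quotient.lift_mk]
    simp [ψ]
  have hinj : Function.Injective (algebraMap R L) := by
    rw [IsScalarTower.algebraMap_eq R K L]
    exact (algebraMap K L).injective.comp (IsFractionRing.injective R K)
  intro r s hrs
  apply hinj
  rw [← hcomp, ← hcomp, hrs]

end injective

section regular

variable [IsLocalRing R] [IsDomain R] [IsNoetherianRing R]

theorem isRegularLocalRing (hp : 2 ≤ p) (ha : ∀ i, a i ∈ maximalIdeal R)
    (hx : ∀ i, x i ∈ maximalIdeal R) (hspan : maximalIdeal R ≤ Ideal.span (Set.range x))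
    (hdim : (n : WithBot ℕ∞) ≤ ringKrullDim R) :
    IsRegularLocalRing (MvPolynomial (Fin n) R ⧸ asIdeal p n a x) := by
  have _i1 := isLocalRing p n a x hp ha hx hspan
  have _i2 := algebra_isIntegral p n a x hp
  have _i3 : IsNoetherianRing (MvPolynomial (Fin n) R ⧸ asIdeal p n a x) :=
    Ideal.Quotient.isNoetherianRing _
  apply IsRegularLocalRing.of_spanFinrank_maximalIdeal_le
  rw [Groth.Agent.Lib.Helper5.ringKrullDim_eq_of_isIntegral_of_injective R _
    (algebraMap_injective p n a x hp)]
  refine le_trans ?_ hdim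
  have hmax : maximalIdeal (MvPolynomial (Fin n) R ⧸ asIdeal p n a x) =
      (varIdeal n).map (Ideal.Quotient.mk (asIdeal p n a x)) :=
    eq_map_varIdeal_of_isMaximal p n a x hp ha hx hspan _
  rw [hmax, Ideal.map_span]
  have : (Submodule.spanFinrank (Ideal.span ((Ideal.Quotient.mk (asIdeal p n a x)) ''
      Set.range (X : Fin n → MvPolynomial (Fin n) R)))) ≤ n := by
    calc _ ≤ ((Ideal.Quotient.mk (asIdeal p n a x)) ''
          Set.range (X : Fin n → MvPolynomial (Fin n) R)).ncard :=
          Submodule.spanFinrank_span_le_ncard_of_finite ((Set.finite_range _).image _)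
      _ ≤ (Set.range (X : Fin n → MvPolynomial (Fin n) R)).ncard :=
          Set.ncard_image_le (Set.finite_range _)
      _ ≤ Nat.card (Fin n) := by
          rw [← Set.ncard_univ, ← Set.image_univ]
          exact Set.ncard_image_le Set.finite_univ
      _ = n := by simp
  exact_mod_cast this

end regular

section powerSeries

variable (k : Type u) [Field k]

/-- `dim k[[x_1..x_n]] ≥ n` (same proof as `Helper19.le_ringKrullDim_mvPowerSeries`, restated here to
keep the import closure small). -/
theorem le_ringKrullDim_mvPowerSeries (n : ℕ) :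
    (n : WithBot ℕ∞) ≤ ringKrullDim (MvPowerSeries (Fin n) k) := by
  induction n with
  | zero =>
    simp only [Nat.cast_zero]
    exact ringKrullDim_nonneg_of_nontrivial
  | succ n ih =>
    rw [ringKrullDim_eq_of_ringEquiv (MvPowerSeries.finSuccEquiv k n).toRingEquiv]
    refine le_trans ?_ ringKrullDim_succ_le_ringKrullDim_powerseries
    push_cast
    gcongr

theorem mem_maximalIdeal_iff_constantCoeff (n : ℕ) (g : MvPowerSeries (Fin n) k) :
    g ∈ maximalIdeal (MvPowerSeries (Fin n) k) ↔ MvPowerSeries.constantCoeff g = 0 := by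
  rw [mem_maximalIdeal, mem_nonunits_iff, MvPowerSeries.isUnit_iff_constantCoeff, isUnit_iff_ne_zero,
    not_not]

theorem maximalIdeal_le_span_X (n : ℕ) :
    maximalIdeal (MvPowerSeries (Fin n) k) ≤
      Ideal.span (Set.range (MvPowerSeries.X : Fin n → MvPowerSeries (Fin n) k)) := by
  intro g hg
  rw [mem_maximalIdeal_iff_constantCoeff] at hg
  have := Groth.Agent.Lib.Helper19.mem_varsIdeal_pow_of_coeff_eq_zero 1 g (by
    intro α hα
    have : α = 0 := (Finsupp.degree_eq_zero_iff α).1 (by omega)
    rw [this, MvPowerSeries.coeff_zero_eq_constantCoeff_apply]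
    exact hg)
  rwa [pow_one] at this

theorem X_mem_maximalIdeal (n : ℕ) (i : Fin n) :
    (MvPowerSeries.X i : MvPowerSeries (Fin n) k) ∈ maximalIdeal (MvPowerSeries (Fin n) k) := by
  rw [mem_maximalIdeal_iff_constantCoeff]
  exact MvPowerSeries.constantCoeff_X i

end powerSeries

end Groth.Agent.Lib.Seat73.ArtinSchreier
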