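import Groth.Agent.Lib.Helper19CohenStructure
import Groth.Agent.Lib.Seat73ArtinSchreier

/-!
# The completion of the local ring of an affine hypersurface at a rational point (seat 71)

For `f ∈ k[x_1..x_n]`, `P` a maximal ideal of `B = k[x]/(f)` corresponding to a point `p ∈ kⁿ`
(`IsPoint f P p`), and `O` a localization of `B` at `P`:
`exists_equiv : k[[x]] / (f(x + p)) ≃ₐ[k] AdicCompletion 𝔪_O O`, sending the class of `q(x + p)` to the image of `q`.
Tools: `tr p` (translation of polynomials, with `eval_tr`, `pderiv_tr`), `mem_pow_of_algebraMap_mem`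
(`𝔪̂ⁿ ∩ R = 𝔪ⁿ`), `exists_sub_mem_maximalIdeal`, `surjective_of_X`, `mem_span_of_forall_mem_sup` (Krull),
`exists_ev` (the evaluation map `k[[x]] → Ô`, surjective with kernel `(f(x+p))`).
-/

set_option autoImplicit false
set_option linter.unusedSectionVars false
set_option linter.style.haveILetI false
universe u

namespace Groth.Agent.Lib.Seat71.HypCompl

open IsLocalRing

section Poly

open MvPolynomial

variable {k : Type u} [CommRing k] {n : ℕ}

/-- Translation `q(x) ↦ q(x + p)` of polynomials. -/
noncomputable def tr (p : Fin n → k) : MvPolynomial (Fin n) k →ₐ[k] MvPolynomial (Fin n) k :=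
  aeval (fun i => X i + C (p i))

@[simp] lemma tr_X (p : Fin n → k) (i : Fin n) : tr p (X i) = X i + C (p i) := by
  simp [tr]

@[simp] lemma tr_C (p : Fin n → k) (r : k) : tr p (C r) = C r := by
  simp [tr]

lemma tr_tr_neg (p : Fin n → k) (q : MvPolynomial (Fin n) k) :
    tr (fun i => -p i) (tr p q) = q := by
  have : (tr (fun i => -p i)).comp (tr p) = AlgHom.id k _ := by
    apply algHom_ext
    intro i
    simp
  exact AlgHom.congr_fun this q

lemma tr_neg_tr (p : Fin n → k) (q : MvPolynomial (Fin n) k) :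
    tr p (tr (fun i => -p i) q) = q := by
  have : (tr p).comp (tr (fun i => -p i)) = AlgHom.id k _ := by
    apply algHom_ext
    intro i
    simp
  exact AlgHom.congr_fun this q

lemma eval_tr (p c : Fin n → k) (q : MvPolynomial (Fin n) k) :
    eval c (tr p q) = eval (fun i => c i + p i) q := by
  induction q using MvPolynomial.induction_on with
  | C r => simp
  | add a b ha hb => simp [ha, hb]
  | mul_X a i ha => simp [ha]

lemma pderiv_tr (p : Fin n → k) (j : Fin n) (q : MvPolynomial (Fin n) k) :
    pderiv j (tr p q) = tr p (pderiv j q) := by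
  classical
  induction q using MvPolynomial.induction_on with
  | C r => simp
  | add a b ha hb => simp [ha, hb]
  | mul_X a i ha =>
    simp only [map_mul, tr_X, Derivation.leibniz, ha, map_add, pderiv_X, pderiv_C, add_zero,
      smul_eq_mul, Pi.single_apply]
    split_ifs <;> simp

/-- Translates of polynomials vanishing at `p` vanish at the origin. -/
lemma tr_mem_idealOfVars (p : Fin n → k) (q : MvPolynomial (Fin n) k) (hq : eval p q = 0) :
    tr p q ∈ idealOfVars (Fin n) k := by
  have h1 : tr p q ∈ idealOfVars (Fin n) k ^ 1 := by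
    rw [mem_pow_idealOfVars_iff']
    intro x hx
    have hx0 : x = 0 := by
      rw [Nat.lt_one_iff] at hx
      exact (Finsupp.degree_eq_zero_iff x).1 hx
    rw [hx0, ← constantCoeff_eq, ← eval_zero, eval_tr]
    simpa using hq
  rwa [pow_one] at h1

end Poly

section Contraction

variable {R : Type u} [CommRing R] [IsNoetherianRing R] [IsLocalRing R]

/-- `𝔪̂ ^ n ∩ R = 𝔪 ^ n`. -/
lemma mem_pow_of_algebraMap_mem (y : R) (n : ℕ)
    (h : algebraMap R (AdicCompletion (maximalIdeal R) R) y ∈
      maximalIdeal (AdicCompletion (maximalIdeal R) R) ^ n) : y ∈ maximalIdeal R ^ n := by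
  set E : AdicCompletion (maximalIdeal R) R →+* R ⧸ maximalIdeal R ^ n :=
    (AdicCompletion.evalₐ (maximalIdeal R) n).toRingHom with hE
  have h1 : E (algebraMap R _ y) ∈ Ideal.map E (maximalIdeal (AdicCompletion (maximalIdeal R) R) ^ n) :=
    Ideal.mem_map_of_mem _ h
  have h2 : Ideal.map E (maximalIdeal (AdicCompletion (maximalIdeal R) R) ^ n) = ⊥ := by
    rw [AdicCompletion.maximalIdeal_eq_map, ← Ideal.map_pow, Ideal.map_map]
    have : E.comp (algebraMap R (AdicCompletion (maximalIdeal R) R)) =
        Ideal.Quotient.mk (maximalIdeal R ^ n) := by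
      ext x
      rw [RingHom.comp_apply, hE]
      change AdicCompletion.evalₐ (maximalIdeal R) n (AdicCompletion.of _ _ x) = _
      rw [AdicCompletion.evalₐ_of]
    rw [this, Ideal.map_quotient_self]
  rw [h2, Ideal.mem_bot] at h1
  have h3 : E (algebraMap R _ y) = Ideal.Quotient.mk (maximalIdeal R ^ n) y := by
    rw [hE]
    change AdicCompletion.evalₐ (maximalIdeal R) n (AdicCompletion.of _ _ y) = _
    rw [AdicCompletion.evalₐ_of]
  rw [h3, Ideal.Quotient.eq_zero_iff_mem] at h1
  exact h1

/-- Elements of the completion are approximated by elements of the ring modulo `𝔪̂`. -/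
lemma exists_sub_mem_maximalIdeal (r : AdicCompletion (maximalIdeal R) R) :
    ∃ y : R, r - algebraMap R _ y ∈ maximalIdeal (AdicCompletion (maximalIdeal R) R) := by
  obtain ⟨y, hy⟩ := Ideal.Quotient.mk_surjective (AdicCompletion.evalₐ (maximalIdeal R) 1 r)
  refine ⟨y, ?_⟩
  rw [AdicCompletion.mem_maximalIdeal_iff_eval_one_eq_zero]
  have h1 : AdicCompletion.evalₐ (maximalIdeal R) 1 (r - algebraMap R _ y) = 0 := by
    rw [map_sub, ← hy]
    change _ - AdicCompletion.evalₐ (maximalIdeal R) 1 (AdicCompletion.of _ _ y) = 0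
    rw [AdicCompletion.evalₐ_of, sub_self]
  rw [← AdicCompletion.factor_eval_eq_evalₐ (maximalIdeal R) _ (le_of_eq (Ideal.mul_top _))] at h1
  change AdicCompletion.eval (maximalIdeal R) R 1 (r - algebraMap R _ y) = 0
  obtain ⟨z, hz⟩ := Submodule.Quotient.mk_surjective _
    (AdicCompletion.eval (maximalIdeal R) R 1 (r - algebraMap R _ y))
  rw [← hz] at h1 ⊢
  change Submodule.factor _ (Submodule.mkQ _ z) = 0 at h1
  rw [Submodule.factor_mk, Submodule.mkQ_apply, Submodule.Quotient.mk_eq_zero] at h1
  rw [Submodule.Quotient.mk_eq_zero, smul_eq_mul, Ideal.mul_top]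
  exact h1

end Contraction

section Surj

open MvPowerSeries Groth.Agent.Lib.Helper19 Groth.Agent.Lib.Helper19.CohenStructure

variable {Λ A : Type u} [CommRing Λ] [IsLocalRing Λ] [IsAdicComplete (maximalIdeal Λ) Λ]
  [CommRing A] [IsLocalRing A] [IsAdicComplete (maximalIdeal A) A] [Algebra Λ A]

/-- A variant of `Helper19.CohenStructure.exists_surjective_algHom_mvPowerSeries` for a given evaluation map. -/
theorem surjective_of_X (n : ℕ) (a : Fin n → A)
    (ha : Ideal.span (Set.range a) = maximalIdeal A)
    (hloc : ∀ x ∈ maximalIdeal Λ, algebraMap Λ A x ∈ maximalIdeal A)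
    (hres : ∀ r : A, ∃ l : Λ, r - algebraMap Λ A l ∈ maximalIdeal A)
    (ev : MvPowerSeries (Fin n) Λ →ₐ[Λ] A) (hev : ∀ s, ev (X s) = a s) :
    Function.Surjective ev ∧
      Ideal.map (ev : MvPowerSeries (Fin n) Λ →+* A) (maximalIdeal (MvPowerSeries (Fin n) Λ)) =
        maximalIdeal A := by
  have hC : ∀ l : Λ, ev (C l) = algebraMap Λ A l := by
    intro l
    have h2 : (C l : MvPowerSeries (Fin n) Λ) = algebraMap Λ (MvPowerSeries (Fin n) Λ) l := by
      rw [MvPowerSeries.algebraMap_apply, Algebra.algebraMap_self, RingHom.id_apply]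
    rw [h2]
    exact ev.commutes l
  have hvars : Ideal.map (ev : MvPowerSeries (Fin n) Λ →+* A) (varsIdeal (Fin n) Λ) =
      maximalIdeal A := by
    rw [varsIdeal, Ideal.map_span, ← Set.range_comp, ← ha]
    congr 2
    funext s
    exact hev s
  have hmapeq : Ideal.map (ev : MvPowerSeries (Fin n) Λ →+* A)
      (maximalIdeal (MvPowerSeries (Fin n) Λ)) = maximalIdeal A := by
    apply le_antisymm
    · rw [Ideal.map_le_iff_le_comap]
      intro g hg
      rw [Ideal.mem_comap]
      rw [maximalIdeal_eq_coeffIdeal, mem_coeffIdeal_one] at hg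
      have h1 : g - C (constantCoeff g) ∈ varsIdeal (Fin n) Λ ^ 1 := by
        apply mem_varsIdeal_pow_of_coeff_eq_zero
        intro α hα
        have hα0 : α = 0 := by
          rw [Nat.lt_one_iff] at hα
          exact (Finsupp.degree_eq_zero_iff α).1 hα
        rw [hα0, map_sub, coeff_zero_eq_constantCoeff_apply, coeff_zero_eq_constantCoeff_apply,
          constantCoeff_C, sub_self]
      rw [pow_one] at h1
      have h2 : (ev : MvPowerSeries (Fin n) Λ →+* A) (g - C (constantCoeff g)) ∈ maximalIdeal A := by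
        rw [← hvars]
        exact Ideal.mem_map_of_mem _ h1
      have h3 : (ev : MvPowerSeries (Fin n) Λ →+* A) g =
          (ev : MvPowerSeries (Fin n) Λ →+* A) (g - C (constantCoeff g)) +
            ev (C (constantCoeff g)) := by
        rw [map_sub]
        change ev g = ev g - ev (C (constantCoeff g)) + ev (C (constantCoeff g))
        ring
      rw [h3, hC]
      exact Ideal.add_mem _ h2 (hloc _ hg)
    · rw [← hvars]
      apply Ideal.map_mono
      rw [varsIdeal, Ideal.span_le]
      rintro _ ⟨s, rfl⟩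
      rw [SetLike.mem_coe, IsLocalRing.mem_maximalIdeal, mem_nonunits_iff,
        MvPowerSeries.isUnit_iff_constantCoeff]
      simp
  refine ⟨?_, hmapeq⟩
  haveI : IsHausdorff (Ideal.map (ev : MvPowerSeries (Fin n) Λ →+* A)
      (maximalIdeal (MvPowerSeries (Fin n) Λ))) A := by
    rw [hmapeq]
    infer_instance
  haveI : IsPrecomplete (maximalIdeal (MvPowerSeries (Fin n) Λ)) (MvPowerSeries (Fin n) Λ) :=
    (isAdicComplete_mvPowerSeries (Λ := Λ) (σ := Fin n)).toIsPrecomplete
  apply surjective_of_mk_map_comp_surjective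
    (ev : MvPowerSeries (Fin n) Λ →+* A) (I := maximalIdeal (MvPowerSeries (Fin n) Λ))
  intro y
  obtain ⟨r, rfl⟩ := Ideal.Quotient.mk_surjective y
  obtain ⟨l, hl⟩ := hres r
  refine ⟨C l, ?_⟩
  rw [RingHom.comp_apply, Ideal.Quotient.eq, hmapeq]
  change ev (C l) - r ∈ maximalIdeal A
  rw [hC, ← neg_sub]
  exact (Ideal.neg_mem_iff _).2 hl

end Surj

section Setup

open MvPolynomial

variable {k : Type u} [Field k] {n : ℕ} (f : MvPolynomial (Fin n) k)
  (P : Ideal (MvPolynomial (Fin n) k ⧸ Ideal.span {f})) [P.IsMaximal]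
  (p : Fin n → k)

/-- The point `p` corresponds to the maximal ideal `P` of `k[x]/(f)`. -/
def IsPoint : Prop := ∀ q : MvPolynomial (Fin n) k, Ideal.Quotient.mk (Ideal.span {f}) q ∈ P ↔ eval p q = 0

variable {f P p}

lemma IsPoint.comap_eq (hp : IsPoint f P p) :
    P.comap (Ideal.Quotient.mk (Ideal.span {f})) =
      Ideal.span (Set.range fun i : Fin n => (X i - C (p i) : MvPolynomial (Fin n) k)) := by
  apply le_antisymm
  · intro q hq
    rw [Ideal.mem_comap, hp q] at hq
    have h1 := tr_mem_idealOfVars p q hq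
    have h2 : tr (fun i => -p i) (tr p q) ∈ Ideal.map (tr (fun i => -p i) : _ →+* _)
        (idealOfVars (Fin n) k) := Ideal.mem_map_of_mem _ h1
    rw [tr_tr_neg, idealOfVars, Ideal.map_span, ← Set.range_comp] at h2
    convert h2 using 3
    funext i
    simp [sub_eq_add_neg]
  · rw [Ideal.span_le]
    rintro _ ⟨i, rfl⟩
    rw [SetLike.mem_coe, Ideal.mem_comap, hp]
    simp

lemma IsPoint.eval_f (hp : IsPoint f P p) : eval p f = 0 := by
  rw [← hp f, Ideal.Quotient.eq_zero_iff_mem.2 (Ideal.mem_span_singleton_self f)]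
  exact P.zero_mem

end Setup


section Core

open Groth.Agent.Lib.Helper19 Groth.Agent.Lib.Helper19.CohenStructure

variable {k : Type u} [Field k] {n : ℕ} {f : MvPolynomial (Fin n) k}
  {P : Ideal (MvPolynomial (Fin n) k ⧸ Ideal.span {f})} [P.IsMaximal] {p : Fin n → k}
  (O : Type u) [CommRing O] [Algebra (MvPolynomial (Fin n) k ⧸ Ideal.span {f}) O]
  [IsLocalization.AtPrime O P] [IsLocalRing O] [IsNoetherianRing O] [Algebra k O]
  [IsScalarTower k (MvPolynomial (Fin n) k ⧸ Ideal.span {f}) O]

/-- The canonical map `k[x] → Ô`. -/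
noncomputable def can : MvPolynomial (Fin n) k →ₐ[k] AdicCompletion (maximalIdeal O) O :=
  ((Algebra.ofId O (AdicCompletion (maximalIdeal O) O)).restrictScalars k).comp
    ((IsScalarTower.toAlgHom k (MvPolynomial (Fin n) k ⧸ Ideal.span {f}) O).comp
      (Ideal.Quotient.mkₐ k (Ideal.span {f})))

lemma can_apply (q : MvPolynomial (Fin n) k) :
    can (f := f) O q = algebraMap O (AdicCompletion (maximalIdeal O) O)
      (algebraMap (MvPolynomial (Fin n) k ⧸ Ideal.span {f}) O (Ideal.Quotient.mk _ q)) := rfl

lemma can_f : can (f := f) O f = 0 := by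
  rw [can_apply, Ideal.Quotient.eq_zero_iff_mem.2 (Ideal.mem_span_singleton_self f), map_zero,
    map_zero]

variable {O}

lemma maximalIdeal_eq (hp : IsPoint f P p) :
    maximalIdeal (AdicCompletion (maximalIdeal O) O) =
      Ideal.span (Set.range fun i : Fin n =>
        can (f := f) O (MvPolynomial.X i - MvPolynomial.C (p i))) := by
  rw [AdicCompletion.maximalIdeal_eq_map]
  have hm : maximalIdeal O = Ideal.map (algebraMap (MvPolynomial (Fin n) k ⧸ Ideal.span {f}) O)
      (Ideal.map (Ideal.Quotient.mk (Ideal.span {f}))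
        (Ideal.span (Set.range fun i : Fin n =>
          (MvPolynomial.X i - MvPolynomial.C (p i) : MvPolynomial (Fin n) k)))) := by
    rw [← hp.comap_eq, Ideal.map_comap_of_surjective _ Ideal.Quotient.mk_surjective P,
      IsLocalization.AtPrime.map_eq_maximalIdeal P O]
  have := congrArg (Ideal.map (algebraMap O (AdicCompletion (maximalIdeal O) O))) hm
  rw [this, Ideal.map_span, Ideal.map_span, Ideal.map_span, ← Set.range_comp,
    ← Set.range_comp, ← Set.range_comp]
  rfl


lemma exists_sub_mem (hp : IsPoint f P p) (r : AdicCompletion (maximalIdeal O) O) :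
    ∃ l : k, r - algebraMap k (AdicCompletion (maximalIdeal O) O) l ∈
      maximalIdeal (AdicCompletion (maximalIdeal O) O) := by
  obtain ⟨y, hy⟩ := exists_sub_mem_maximalIdeal r
  obtain ⟨x, hx⟩ := (IsLocalization.AtPrime.equivQuotMaximalIdeal P O).surjective
    (Ideal.Quotient.mk _ y)
  obtain ⟨b, rfl⟩ := Ideal.Quotient.mk_surjective x
  obtain ⟨q, rfl⟩ := Ideal.Quotient.mk_surjective b
  rw [IsLocalization.AtPrime.equivQuotMaximalIdeal_apply_mk, Ideal.Quotient.eq] at hx
  refine ⟨MvPolynomial.eval p q, ?_⟩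
  have h1 : Ideal.Quotient.mk (Ideal.span {f}) (q - MvPolynomial.C (MvPolynomial.eval p q)) ∈ P := by
    rw [hp]
    simp
  have h2 : algebraMap _ O (Ideal.Quotient.mk (Ideal.span {f})
      (q - MvPolynomial.C (MvPolynomial.eval p q))) ∈ maximalIdeal O := by
    rw [← IsLocalization.AtPrime.map_eq_maximalIdeal P O]
    exact Ideal.mem_map_of_mem _ h1
  have h3 : y - algebraMap k O (MvPolynomial.eval p q) ∈ maximalIdeal O := by
    have e : y - algebraMap k O (MvPolynomial.eval p q) =
        algebraMap _ O (Ideal.Quotient.mk (Ideal.span {f})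
          (q - MvPolynomial.C (MvPolynomial.eval p q))) -
        (algebraMap _ O (Ideal.Quotient.mk (Ideal.span {f}) q) - y) := by
      rw [map_sub, map_sub, IsScalarTower.algebraMap_apply k
        (MvPolynomial (Fin n) k ⧸ Ideal.span {f}) O]
      have : algebraMap k (MvPolynomial (Fin n) k ⧸ Ideal.span {f}) (MvPolynomial.eval p q) =
          Ideal.Quotient.mk (Ideal.span {f}) (MvPolynomial.C (MvPolynomial.eval p q)) := rfl
      rw [this]
      ring
    rw [e]
    exact Ideal.sub_mem _ h2 hx
  have h4 : algebraMap O (AdicCompletion (maximalIdeal O) O)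
      (y - algebraMap k O (MvPolynomial.eval p q)) ∈
      maximalIdeal (AdicCompletion (maximalIdeal O) O) := by
    rw [AdicCompletion.maximalIdeal_eq_map]
    exact Ideal.mem_map_of_mem _ h3
  have e : r - algebraMap k (AdicCompletion (maximalIdeal O) O) (MvPolynomial.eval p q) =
      (r - algebraMap O _ y) + algebraMap O (AdicCompletion (maximalIdeal O) O)
        (y - algebraMap k O (MvPolynomial.eval p q)) := by
    rw [map_sub, ← IsScalarTower.algebraMap_apply k O]
    ring
  rw [e]
  exact Ideal.add_mem _ hy h4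


/-- General Krull-type closure: an element of `span {F} ⊔ 𝔪 ^ N` for all `N` lies in `span {F}`. -/
lemma mem_span_of_forall_mem_sup {S : Type*} [CommRing S] [IsNoetherianRing S] [IsLocalRing S]
    (F h : S) (hh : ∀ N : ℕ, h ∈ Ideal.span {F} ⊔ maximalIdeal S ^ N) : h ∈ Ideal.span {F} := by
  have key : (Ideal.Quotient.mk (Ideal.span {F}) h : S ⧸ Ideal.span {F}) ∈
      (⨅ i : ℕ, maximalIdeal S ^ i • (⊤ : Submodule S (S ⧸ Ideal.span {F}))) := by
    rw [Submodule.mem_iInf]
    intro N
    obtain ⟨u, hu, t, ht, rfl⟩ := Submodule.mem_sup.1 (hh N)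
    rw [map_add, Ideal.Quotient.eq_zero_iff_mem.2 hu, zero_add]
    have : (Ideal.Quotient.mk (Ideal.span {F}) t : S ⧸ Ideal.span {F}) =
        t • (1 : S ⧸ Ideal.span {F}) := by
      rw [Algebra.smul_def, mul_one]
      rfl
    rw [this]
    exact Submodule.smul_mem_smul ht Submodule.mem_top
  rw [Ideal.iInf_pow_smul_eq_bot_of_isLocalRing _ (Ideal.IsMaximal.ne_top inferInstance),
    Submodule.mem_bot, Ideal.Quotient.eq_zero_iff_mem] at key
  exact key

theorem exists_ev (hp : IsPoint f P p) :
    ∃ ev : MvPowerSeries (Fin n) k →ₐ[k] AdicCompletion (maximalIdeal O) O,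
      (∀ q : MvPolynomial (Fin n) k,
        ev (q : MvPowerSeries (Fin n) k) = can (f := f) O (tr (fun i => -p i) q)) ∧
      Function.Surjective ev ∧
      RingHom.ker (ev : MvPowerSeries (Fin n) k →+* AdicCompletion (maximalIdeal O) O) =
        Ideal.span {((tr p f : MvPolynomial (Fin n) k) : MvPowerSeries (Fin n) k)} := by
  classical
  set a : Fin n → AdicCompletion (maximalIdeal O) O :=
    fun i => can (f := f) O (MvPolynomial.X i - MvPolynomial.C (p i)) with ha
  have hspan : Ideal.span (Set.range a) = maximalIdeal (AdicCompletion (maximalIdeal O) O) :=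
    (maximalIdeal_eq hp).symm
  have ham : ∀ s, a s ∈ maximalIdeal (AdicCompletion (maximalIdeal O) O) := fun s => by
    rw [← hspan]; exact Ideal.subset_span ⟨s, rfl⟩
  obtain ⟨ev, hev⟩ := exists_algHom_X_eq_of_isAdicComplete (Λ := k)
    (maximalIdeal (AdicCompletion (maximalIdeal O) O)) n a ham
  -- polynomials
  have hpoly : ∀ q : MvPolynomial (Fin n) k,
      ev (q : MvPowerSeries (Fin n) k) = can (f := f) O (tr (fun i => -p i) q) := by
    intro q
    have : ev.comp (MvPolynomial.coeToMvPowerSeries.algHom k) =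
        (can (f := f) O).comp (tr (fun i => -p i)) := by
      apply MvPolynomial.algHom_ext
      intro s
      simp only [AlgHom.comp_apply, MvPolynomial.coeToMvPowerSeries.algHom_apply, MvPolynomial.coe_X,
        Algebra.algebraMap_self, MvPowerSeries.map_id, RingHom.id_apply, tr_X, hev, ha, map_neg,
        sub_eq_add_neg]
    have h2 := AlgHom.congr_fun this q
    simpa only [AlgHom.comp_apply, MvPolynomial.coeToMvPowerSeries.algHom_apply,
      Algebra.algebraMap_self, MvPowerSeries.map_id, RingHom.id_apply] using h2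
  have hloc : ∀ x ∈ maximalIdeal k, algebraMap k (AdicCompletion (maximalIdeal O) O) x ∈
      maximalIdeal (AdicCompletion (maximalIdeal O) O) := by
    intro x hx
    rw [IsLocalRing.maximalIdeal_eq_bot, Ideal.mem_bot] at hx
    rw [hx, map_zero]
    exact Ideal.zero_mem _
  obtain ⟨hsurj, hmapeq⟩ := surjective_of_X (Λ := k) n a hspan hloc (exists_sub_mem hp) ev hev
  refine ⟨ev, hpoly, hsurj, ?_⟩
  apply le_antisymm
  · intro h hh
    rw [RingHom.mem_ker] at hh
    apply mem_span_of_forall_mem_sup
    intro N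
    -- truncate
    set hN : MvPolynomial (Fin n) k := MvPowerSeries.truncTotal N h with hhN
    have hr : h - (hN : MvPowerSeries (Fin n) k) ∈ maximalIdeal (MvPowerSeries (Fin n) k) ^ N := by
      have := sub_truncTotal_mem (Λ := k) (σ := Fin n) N h
      refine Ideal.pow_right_mono ?_ N this
      rw [varsIdeal, Ideal.span_le]
      rintro _ ⟨s, rfl⟩
      rw [SetLike.mem_coe, IsLocalRing.mem_maximalIdeal, mem_nonunits_iff,
        MvPowerSeries.isUnit_iff_constantCoeff]
      simp
    have hevr : ev (h - (hN : MvPowerSeries (Fin n) k)) ∈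
        maximalIdeal (AdicCompletion (maximalIdeal O) O) ^ N := by
      rw [← hmapeq, ← Ideal.map_pow]
      exact Ideal.mem_map_of_mem _ hr
    have hevN : ev (hN : MvPowerSeries (Fin n) k) ∈
        maximalIdeal (AdicCompletion (maximalIdeal O) O) ^ N := by
      have : ev (hN : MvPowerSeries (Fin n) k) = -ev (h - (hN : MvPowerSeries (Fin n) k)) := by
        rw [map_sub]
        change _ = -(ev h - _)
        have hh' : ev h = 0 := hh
        rw [hh', zero_sub, neg_neg]
      rw [this]
      exact (Ideal.neg_mem_iff _).2 hevr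
    rw [hpoly, can_apply] at hevN
    have h1 := mem_pow_of_algebraMap_mem _ N hevN
    have h2 : Ideal.Quotient.mk (Ideal.span {f}) (tr (fun i => -p i) hN) ∈ P ^ N := by
      rw [← IsLocalization.AtPrime.under_maximalIdeal_pow P O N]
      exact h1
    have hP : P = Ideal.map (Ideal.Quotient.mk (Ideal.span {f}))
        (Ideal.span (Set.range fun i : Fin n =>
          (MvPolynomial.X i - MvPolynomial.C (p i) : MvPolynomial (Fin n) k))) := by
      rw [← hp.comap_eq, Ideal.map_comap_of_surjective _ Ideal.Quotient.mk_surjective P]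
    rw [hP, ← Ideal.map_pow, Ideal.mem_quotient_iff_mem_sup] at h2
    -- translate back
    have h3 : tr p (tr (fun i => -p i) hN) ∈ Ideal.map (tr p : _ →+* _)
        (Ideal.span (Set.range fun i : Fin n =>
          (MvPolynomial.X i - MvPolynomial.C (p i) : MvPolynomial (Fin n) k)) ^ N ⊔
          Ideal.span {f}) := Ideal.mem_map_of_mem _ h2
    rw [tr_neg_tr, Ideal.map_sup, Ideal.map_pow, Ideal.map_span, Ideal.map_span,
      ← Set.range_comp, Set.image_singleton] at h3
    have hX : ((tr p : MvPolynomial (Fin n) k →+* MvPolynomial (Fin n) k) ∘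
        fun i : Fin n => (MvPolynomial.X i - MvPolynomial.C (p i) : MvPolynomial (Fin n) k)) =
        MvPolynomial.X := by
      funext i
      simp
    rw [hX] at h3
    -- to power series
    have h4 : ((hN : MvPolynomial (Fin n) k) : MvPowerSeries (Fin n) k) ∈
        Ideal.map (MvPolynomial.coeToMvPowerSeries.ringHom (σ := Fin n) (R := k))
          (Ideal.span (Set.range MvPolynomial.X) ^ N ⊔
            Ideal.span {(tr p : MvPolynomial (Fin n) k →+* MvPolynomial (Fin n) k) f}) :=
      Ideal.mem_map_of_mem _ h3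
    rw [Ideal.map_sup, Ideal.map_pow, Ideal.map_span, Ideal.map_span, ← Set.range_comp,
      Set.image_singleton] at h4
    have hX' : ((MvPolynomial.coeToMvPowerSeries.ringHom (σ := Fin n) (R := k)) ∘
        (MvPolynomial.X : Fin n → MvPolynomial (Fin n) k)) = MvPowerSeries.X := by
      funext i
      simp
    rw [hX'] at h4
    have h5 : h = (h - (hN : MvPowerSeries (Fin n) k)) + (hN : MvPowerSeries (Fin n) k) := by ring
    rw [h5]
    refine Ideal.add_mem _ (Ideal.mem_sup_right hr) ?_
    have hle : Ideal.span (Set.range (MvPowerSeries.X : Fin n → MvPowerSeries (Fin n) k)) ^ N ⊔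
        Ideal.span {(MvPolynomial.coeToMvPowerSeries.ringHom (σ := Fin n) (R := k))
          ((tr p : MvPolynomial (Fin n) k →+* MvPolynomial (Fin n) k) f)} ≤
        Ideal.span {((tr p f : MvPolynomial (Fin n) k) : MvPowerSeries (Fin n) k)} ⊔
          maximalIdeal (MvPowerSeries (Fin n) k) ^ N := by
      refine sup_le ?_ ?_
      rotate_left
      · exact le_sup_left
      refine le_trans (Ideal.pow_right_mono ?_ N) le_sup_right
      rw [Ideal.span_le]
      rintro _ ⟨s, rfl⟩
      rw [SetLike.mem_coe, IsLocalRing.mem_maximalIdeal, mem_nonunits_iff,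
        MvPowerSeries.isUnit_iff_constantCoeff]
      simp
    exact hle h4
  · rw [Ideal.span_le, Set.singleton_subset_iff, SetLike.mem_coe, RingHom.mem_ker]
    change ev _ = 0
    rw [hpoly, tr_tr_neg, can_f]


/-- **The completion of the local ring of a hypersurface at a rational point** is the quotient of the power
series ring by the Taylor expansion of the equation. -/
theorem exists_equiv (hp : IsPoint f P p) :
    ∃ Ψ : (MvPowerSeries (Fin n) k ⧸
        Ideal.span {((tr p f : MvPolynomial (Fin n) k) : MvPowerSeries (Fin n) k)}) ≃ₐ[k]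
        AdicCompletion (maximalIdeal O) O,
      ∀ q : MvPolynomial (Fin n) k,
        Ψ (Ideal.Quotient.mk _ ((tr p q : MvPolynomial (Fin n) k) : MvPowerSeries (Fin n) k)) =
          can (f := f) O q := by
  obtain ⟨ev, hpoly, hsurj, hker⟩ := exists_ev (O := O) hp
  refine ⟨(Ideal.quotientEquivAlgOfEq k hker.symm).trans
    (Ideal.quotientKerAlgEquivOfSurjective hsurj), fun q => ?_⟩
  rw [AlgEquiv.trans_apply]
  change Ideal.quotientKerAlgEquivOfSurjective hsurj (Ideal.Quotient.mk _ _) = _
  rw [Ideal.quotientKerAlgEquivOfSurjective_mk]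
  change ev ((tr p q : MvPolynomial (Fin n) k) : MvPowerSeries (Fin n) k) = _
  rw [hpoly, tr_tr_neg]

end Core

end Groth.Agent.Lib.Seat71.HypCompl
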