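import Groth.Agent.Lib.Seat71HypCompl
import Groth.Agent.Lib.Seat71ChainRule
import Groth.Agent.Lib.Helper24Morse
import Groth.Agent.S8719

/-
Seat71HypJac: for a hypersurface `B = k[x_0..x_m]/(f)` over an algebraically closed field and a
maximal ideal `P` of `B`, the Jacobian classes generate the maximal ideal of the local ring at `P`
iff that local ring is a nondegenerate quadratic singularity (S16255).  Uses the identification of
the completion with `k[[x]]/(f(x+p))` from `Seat71HypCompl`, the formal Morse lemma of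
`Helper24Morse`, and the Jacobian invariance of `S8719`.
-/

set_option autoImplicit false
set_option linter.unusedSectionVars false
universe u

namespace Groth.Agent.Lib.Seat71.HypJac

open IsLocalRing MvPowerSeries Groth.Agent.Lib.Helper19 Groth.Agent.Lib.Seat71.HypCompl
open Groth.Agent.S8719.Aux.QuadJac

section PS

variable {k : Type u} [Field k] {n : ℕ}

local notation "S" => MvPowerSeries (Fin n) k

lemma mem_maximalIdeal_iff (x : S) : x ∈ maximalIdeal S ↔ constantCoeff x = 0 := by
  rw [IsLocalRing.mem_maximalIdeal, mem_nonunits_iff, MvPowerSeries.isUnit_iff_constantCoeff,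
    isUnit_iff_ne_zero, not_not]

/-- Units of `k[[x]]/(F)` lift to units, for `F` a non-unit. -/
lemma isUnit_mk_iff (F : S) (hF : constantCoeff F = 0) (x : S) :
    IsUnit (Ideal.Quotient.mk (Ideal.span {F}) x) ↔ IsUnit x := by
  refine ⟨fun h => ?_, fun h => h.map _⟩
  obtain ⟨u, hu⟩ := h.exists_right_inv
  obtain ⟨u, rfl⟩ := Ideal.Quotient.mk_surjective u
  rw [← map_mul, ← map_one (Ideal.Quotient.mk (Ideal.span {F})), Ideal.Quotient.eq,
    Ideal.mem_span_singleton] at hu
  obtain ⟨c, hc⟩ := hu
  have h1 : constantCoeff (x * u) = 1 := by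
    have := congrArg constantCoeff hc
    rw [map_sub, map_one, map_mul, map_mul, hF, zero_mul, sub_eq_zero] at this
    rw [map_mul]
    exact this
  rw [MvPowerSeries.isUnit_iff_constantCoeff]
  rw [map_mul] at h1
  exact IsUnit.of_mul_eq_one _ h1

/-- Algebra maps `k[[x]] → k[[x]]/(F)` which agree on the variables, with values in the maximal ideal, are
equal. -/
lemma algHom_ext_X (F : S) (θ₁ θ₂ : S →ₐ[k] S ⧸ Ideal.span {F}) (y : Fin n → S)
    (hy : ∀ i, constantCoeff (y i) = 0)
    (h1 : ∀ i, θ₁ (X i) = Ideal.Quotient.mk _ (y i)) (h2 : ∀ i, θ₂ (X i) = Ideal.Quotient.mk _ (y i)) :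
    θ₁ = θ₂ := by
  have hpoly : ∀ q : MvPolynomial (Fin n) k, θ₁ (q : S) = θ₂ (q : S) := by
    intro q
    have : θ₁.comp (MvPolynomial.coeToMvPowerSeries.algHom k) =
        θ₂.comp (MvPolynomial.coeToMvPowerSeries.algHom k) := by
      apply MvPolynomial.algHom_ext
      intro s
      simp only [AlgHom.comp_apply, MvPolynomial.coeToMvPowerSeries.algHom_apply, MvPolynomial.coe_X,
        Algebra.algebraMap_self, MvPowerSeries.map_id, RingHom.id_apply, h1, h2]
    have h2 := AlgHom.congr_fun this q
    simpa only [AlgHom.comp_apply, MvPolynomial.coeToMvPowerSeries.algHom_apply,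
      Algebra.algebraMap_self, MvPowerSeries.map_id, RingHom.id_apply] using h2
  have htail : ∀ (θ : S →ₐ[k] S ⧸ Ideal.span {F}), (∀ i, θ (X i) = Ideal.Quotient.mk _ (y i)) →
      ∀ (N : ℕ) (r : S), r ∈ varsIdeal (Fin n) k ^ N →
        θ r ∈ Ideal.map (Ideal.Quotient.mk (Ideal.span {F})) (maximalIdeal S ^ N) := by
    intro θ hθ N r hr
    have h3 : θ r ∈ Ideal.map (θ : S →+* S ⧸ Ideal.span {F}) (varsIdeal (Fin n) k ^ N) :=
      Ideal.mem_map_of_mem _ hr
    rw [Ideal.map_pow, varsIdeal, Ideal.map_span, ← Set.range_comp] at h3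
    rw [Ideal.map_pow]
    refine Ideal.pow_right_mono ?_ N h3
    rw [Ideal.span_le]
    rintro _ ⟨i, rfl⟩
    rw [Function.comp_apply]
    change θ (X i) ∈ _
    rw [hθ i]
    exact Ideal.mem_map_of_mem _ ((mem_maximalIdeal_iff _).2 (hy i))
  ext h
  obtain ⟨d, hd⟩ := Ideal.Quotient.mk_surjective (θ₁ h - θ₂ h)
  rw [← sub_eq_zero, ← hd, Ideal.Quotient.eq_zero_iff_mem]
  apply mem_span_of_forall_mem_sup
  intro N
  have hr := sub_truncTotal_mem (Λ := k) (σ := Fin n) N h
  have e : θ₁ h - θ₂ h = θ₁ (h - ((truncTotal N h : MvPolynomial (Fin n) k) : S)) -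
      θ₂ (h - ((truncTotal N h : MvPolynomial (Fin n) k) : S)) := by
    rw [map_sub, map_sub, hpoly]
    ring
  have h4 : Ideal.Quotient.mk (Ideal.span {F}) d ∈
      Ideal.map (Ideal.Quotient.mk (Ideal.span {F})) (maximalIdeal S ^ N) := by
    rw [hd, e]
    exact Ideal.sub_mem _ (htail θ₁ h1 N _ hr) (htail θ₂ h2 N _ hr)
  rw [Ideal.mem_quotient_iff_mem_sup, sup_comm] at h4
  exact h4

/-- Linear coefficient of a product with a series without constant term. -/
lemma coeff_single_mul_of_constantCoeff_eq_zero (a b : S) (hb : constantCoeff b = 0) (l : Fin n) :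
    coeff (Finsupp.single l 1) (a * b) = constantCoeff a * coeff (Finsupp.single l 1) b :=
  Groth.Agent.Lib.Helper24Morse.linear_coeff_mul a b hb l

/-- If the Tjurina ideal of `F ∈ 𝔪²` is the maximal ideal, the Hessian of `F` is non-degenerate. -/
theorem quadNondeg_of_tjurina (F : S) (h0 : constantCoeff F = 0)
    (h1 : ∀ i, coeff (Finsupp.single i 1) F = 0)
    (hT : maximalIdeal S ≤ Ideal.span (Set.range fun j : Fin n => pderiv k j F) ⊔ Ideal.span {F}) :
    VanCyc.QuadNondeg (VanCyc.quadPart F) := by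
  classical
  have hpd0 : ∀ j, constantCoeff (pderiv k j F) = 0 := by
    intro j
    rw [← coeff_zero_eq_constantCoeff_apply, coeff_pderiv, zero_add, h1, zero_mul]
  have hX : ∀ l : Fin n, ∃ s : Fin n → S, ∃ t : S, (X l : S) = ∑ j, s j * pderiv k j F + t * F := by
    intro l
    have hl : (X l : S) ∈ maximalIdeal S := (mem_maximalIdeal_iff _).2 (constantCoeff_X l)
    obtain ⟨u, hu, v, hv, huv⟩ := Submodule.mem_sup.1 (hT hl)
    obtain ⟨s, hs⟩ := (Ideal.mem_span_range_iff_exists_fun).1 hu
    obtain ⟨t, ht⟩ := Ideal.mem_span_singleton'.1 hv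
    exact ⟨s, t, by rw [hs, ht, huv]⟩
  choose s t hst using hX
  unfold VanCyc.QuadNondeg
  apply Matrix.isUnit_det_of_left_inverse (B := Matrix.of fun l j => constantCoeff (s l j))
  ext l i
  have := congrArg (coeff (Finsupp.single i 1)) (hst l)
  rw [map_add, map_sum, coeff_single_mul_of_constantCoeff_eq_zero _ _ h0, h1, mul_zero, add_zero] at this
  simp only [coeff_single_mul_of_constantCoeff_eq_zero _ _ (hpd0 _), coeff_single_pderiv] at this
  rw [Matrix.mul_apply]
  simp only [Matrix.of_apply]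
  rw [← this, coeff_X, Matrix.one_apply]
  simp only [Finsupp.single_left_inj (one_ne_zero : (1 : ℕ) ≠ 0), eq_comm]

/-- **Contact invariance of the Tjurina ideal being maximal.** If `k[[x]]/(F) ≃ k[[x]]/(g)` as `k`-algebras,
`F ∈ 𝔪²`, and the partials of `g` generate `𝔪`, then `𝔪 ⊆ (∂F) + (F)`. -/
theorem tjurina_of_equiv (F g : S) (hF0 : constantCoeff F = 0)
    (hF1 : ∀ i, coeff (Finsupp.single i 1) F = 0) (hg0 : constantCoeff g = 0)
    (hg : Ideal.span (Set.range fun j : Fin n => pderiv k j g) = maximalIdeal S)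
    (β : (S ⧸ Ideal.span {F}) ≃ₐ[k] (S ⧸ Ideal.span {g})) :
    maximalIdeal S ≤ Ideal.span (Set.range fun j : Fin n => pderiv k j F) ⊔ Ideal.span {F} := by
  classical
  set T := Ideal.span (Set.range fun j : Fin n => pderiv k j F) ⊔ Ideal.span {F} with hT
  -- Step 1: lifts of the images of the variables
  choose Y hY using fun i : Fin n => Ideal.Quotient.mk_surjective
    (β.symm (Ideal.Quotient.mk (Ideal.span {g}) (X i : S)))
  have hY0 : ∀ i, constantCoeff (Y i) = 0 := by
    intro i
    by_contra hne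
    have hu : IsUnit (Y i) := by
      rw [MvPowerSeries.isUnit_iff_constantCoeff, isUnit_iff_ne_zero]
      exact hne
    have h2 : IsUnit (Ideal.Quotient.mk (Ideal.span {F}) (Y i)) := hu.map _
    rw [hY i] at h2
    have h3 : IsUnit (β (β.symm (Ideal.Quotient.mk (Ideal.span {g}) (X i : S)))) := h2.map β
    rw [AlgEquiv.apply_symm_apply, isUnit_mk_iff g hg0, MvPowerSeries.isUnit_iff_constantCoeff,
      constantCoeff_X] at h3
    exact not_isUnit_zero h3
  have hs : HasSubst Y := hasSubst_of_constantCoeff_zero hY0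
  set φ : S →ₐ[k] S := substAlgHom hs with hφ
  have hφX : ∀ i, φ (X i) = Y i := fun i => substAlgHom_X hs i
  have hφa : ∀ x, φ x = subst Y x := fun x => by rw [hφ, coe_substAlgHom]
  -- Step 2: compatibility with the quotient maps
  have hcomm : (Ideal.Quotient.mkₐ k (Ideal.span {F})).comp φ =
      (β.symm : (S ⧸ Ideal.span {g}) →ₐ[k] (S ⧸ Ideal.span {F})).comp
        (Ideal.Quotient.mkₐ k (Ideal.span {g})) := by
    apply algHom_ext_X F _ _ Y hY0
    · intro i
      rw [AlgHom.comp_apply, hφX]
      rfl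
    · intro i
      rw [AlgHom.comp_apply]
      exact (hY i).symm
  have hcomm' : ∀ x : S, Ideal.Quotient.mk (Ideal.span {F}) (φ x) =
      β.symm (Ideal.Quotient.mk (Ideal.span {g}) x) := fun x => AlgHom.congr_fun hcomm x
  -- Step 3: φ g is a multiple of F
  obtain ⟨c, hc⟩ : ∃ c, c * F = φ g := by
    rw [← Ideal.mem_span_singleton', ← Ideal.Quotient.eq_zero_iff_mem, hcomm',
      Ideal.Quotient.eq_zero_iff_mem.2 (Ideal.mem_span_singleton_self g), map_zero]
  -- Step 4: the maximal ideal is generated by Y modulo F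
  have hmY : ∀ x ∈ maximalIdeal S, x ∈ Ideal.span (Set.range Y) ⊔ Ideal.span {F} := by
    intro x hx
    obtain ⟨x', hx'⟩ := Ideal.Quotient.mk_surjective (β (Ideal.Quotient.mk (Ideal.span {F}) x))
    have hx'm : x' ∈ maximalIdeal S := by
      rw [IsLocalRing.mem_maximalIdeal, mem_nonunits_iff]
      intro hu
      have h2 : IsUnit (Ideal.Quotient.mk (Ideal.span {g}) x') := hu.map _
      rw [hx'] at h2
      have h3 := h2.map β.symm
      rw [AlgEquiv.symm_apply_apply, isUnit_mk_iff F hF0] at h3
      exact hx h3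
    rw [maximalIdeal_eq_varsIdeal, varsIdeal] at hx'm
    obtain ⟨cf, hcf⟩ := (Ideal.mem_span_range_iff_exists_fun).1 hx'm
    have h4 : Ideal.Quotient.mk (Ideal.span {F}) x =
        Ideal.Quotient.mk (Ideal.span {F}) (∑ i, φ (cf i) * Y i) := by
      have : Ideal.Quotient.mk (Ideal.span {F}) x = β.symm (Ideal.Quotient.mk (Ideal.span {g}) x') := by
        rw [hx', AlgEquiv.symm_apply_apply]
      rw [this, ← hcomm', ← hcf, map_sum]
      simp only [map_mul, hφX]
    rw [Ideal.Quotient.eq] at h4
    have h5 : x = ∑ i, φ (cf i) * Y i + (x - ∑ i, φ (cf i) * Y i) := by ring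
    rw [h5]
    refine Ideal.add_mem _ (Ideal.mem_sup_left ?_) (Ideal.mem_sup_right h4)
    exact Ideal.sum_mem _ fun i _ => Ideal.mul_mem_left _ _ (Ideal.subset_span ⟨i, rfl⟩)
  -- Step 5: Y lies in the span of w = φ (∂g)
  set w : Fin n → S := fun j => φ (pderiv k j g) with hw
  have hYw : ∀ l, Y l ∈ Ideal.span (Set.range w) := by
    intro l
    have hl : (X l : S) ∈ Ideal.span (Set.range fun j : Fin n => pderiv k j g) := by
      rw [hg]
      exact (mem_maximalIdeal_iff _).2 (constantCoeff_X l)
    obtain ⟨sf, hsf⟩ := (Ideal.mem_span_range_iff_exists_fun).1 hl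
    rw [← hφX, ← hsf, map_sum]
    refine Ideal.sum_mem _ fun j _ => ?_
    rw [map_mul]
    exact Ideal.mul_mem_left _ _ (Ideal.subset_span ⟨j, rfl⟩)
  -- Step 6: the chain rule
  set M : Matrix (Fin n) (Fin n) S := Matrix.of fun i j => pderiv k i (Y j) with hM
  have hchain : ∀ i, pderiv k i (c * F) = ∑ j, M i j * w j := by
    intro i
    rw [hc, hφa, Groth.Agent.Lib.Seat71.ChainRule.pderiv_subst hs]
    refine Finset.sum_congr rfl fun j _ => ?_
    simp only [hM, Matrix.of_apply, hw, hφa]
  have hvT : ∀ i, pderiv k i (c * F) ∈ T := by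
    intro i
    rw [Derivation.leibniz, smul_eq_mul, smul_eq_mul]
    refine Ideal.add_mem _ (Ideal.mul_mem_left _ _ (Ideal.mem_sup_left ?_))
      (Ideal.mul_mem_right _ _ (Ideal.mem_sup_right (Ideal.mem_span_singleton_self F)))
    exact Ideal.subset_span ⟨i, rfl⟩
  -- Step 7: the Jacobian matrix is invertible
  have hXY : ∀ l : Fin n, ∃ t : Fin n → S, ∃ u : S, (X l : S) = ∑ j, t j * Y j + u * F := by
    intro l
    have hl : (X l : S) ∈ maximalIdeal S := (mem_maximalIdeal_iff _).2 (constantCoeff_X l)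
    obtain ⟨a, ha, b, hb, hab⟩ := Submodule.mem_sup.1 (hmY _ hl)
    obtain ⟨t, ht⟩ := (Ideal.mem_span_range_iff_exists_fun).1 ha
    obtain ⟨u, hu⟩ := Ideal.mem_span_singleton'.1 hb
    exact ⟨t, u, by rw [ht, hu, hab]⟩
  choose t u htu using hXY
  set L : Matrix (Fin n) (Fin n) k := Matrix.of fun i j => coeff (Finsupp.single i 1) (Y j) with hL
  have hLdet : IsUnit L.det := by
    rw [← Matrix.det_transpose]
    apply Matrix.isUnit_det_of_left_inverse (B := Matrix.of fun l j => constantCoeff (t l j))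
    ext l i
    have := congrArg (coeff (Finsupp.single i 1)) (htu l)
    rw [map_add, map_sum, coeff_single_mul_of_constantCoeff_eq_zero _ _ hF0, hF1, mul_zero,
      add_zero] at this
    simp only [coeff_single_mul_of_constantCoeff_eq_zero _ _ (hY0 _)] at this
    rw [Matrix.mul_apply]
    simp only [Matrix.of_apply, Matrix.transpose_apply, hL]
    rw [← this, coeff_X, Matrix.one_apply]
    simp only [Finsupp.single_left_inj (one_ne_zero : (1 : ℕ) ≠ 0), eq_comm]
  have hMdet : IsUnit M.det := by
    rw [MvPowerSeries.isUnit_iff_constantCoeff, RingHom.map_det]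
    convert hLdet using 2
    ext i j
    simp only [RingHom.mapMatrix_apply, Matrix.map_apply, hM, hL, Matrix.of_apply]
    rw [← coeff_zero_eq_constantCoeff_apply, coeff_pderiv, zero_add]
    simp
  -- Step 8: w lies in T
  have hwT : ∀ j, w j ∈ T := by
    intro j
    have hv : (fun i => pderiv k i (c * F)) = M.mulVec w := by
      funext i
      rw [hchain i]
      rfl
    have hw' : w = M⁻¹.mulVec (fun i => pderiv k i (c * F)) := by
      rw [hv, Matrix.mulVec_mulVec, Matrix.nonsing_inv_mul M hMdet, Matrix.one_mulVec]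
    rw [hw']
    change ∑ i, M⁻¹ j i * pderiv k i (c * F) ∈ T
    exact Ideal.sum_mem _ fun i _ => Ideal.mul_mem_left _ _ (hvT i)
  -- conclusion
  intro x hx
  have h1 := hmY x hx
  refine (sup_le ?_ ?_ : Ideal.span (Set.range Y) ⊔ Ideal.span {F} ≤ T) h1
  · rw [Ideal.span_le]
    rintro _ ⟨l, rfl⟩
    refine (?_ : Ideal.span (Set.range w) ≤ T) (hYw l)
    rw [Ideal.span_le]
    rintro _ ⟨j, rfl⟩
    exact hwT j
  · exact le_sup_right

end PS

section Descent

variable {R : Type u} [CommRing R] [IsNoetherianRing R] [IsLocalRing R]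

/-- An ideal of a Noetherian local ring generating the maximal ideal of the completion is the maximal ideal. -/
theorem eq_maximalIdeal_of_map_completion (J : Ideal R) (hJ : J ≤ maximalIdeal R)
    (h : maximalIdeal (AdicCompletion (maximalIdeal R) R) ≤
      Ideal.map (algebraMap R (AdicCompletion (maximalIdeal R) R)) J) : J = maximalIdeal R := by
  classical
  apply le_antisymm hJ
  obtain ⟨m, g, hg⟩ := Submodule.fg_iff_exists_fin_generating_family.1
    (IsNoetherian.noetherian J)
  have hgJ : ∀ j, g j ∈ J := fun j => by rw [← hg]; exact Submodule.subset_span ⟨j, rfl⟩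
  apply Submodule.le_of_le_smul_of_le_jacobson_bot (I := maximalIdeal R)
    (IsNoetherian.noetherian _) (IsLocalRing.maximalIdeal_le_jacobson _)
  intro y hy
  have hy' : algebraMap R (AdicCompletion (maximalIdeal R) R) y ∈
      Ideal.map (algebraMap R (AdicCompletion (maximalIdeal R) R)) J := by
    apply h
    rw [AdicCompletion.maximalIdeal_eq_map]
    exact Ideal.mem_map_of_mem _ hy
  have hJ' : J = Ideal.span (Set.range g) := hg.symm
  rw [hJ', Ideal.map_span, ← Set.range_comp] at hy'
  obtain ⟨ch, hch⟩ := (Ideal.mem_span_range_iff_exists_fun).1 hy'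
  choose c hc using fun j => exists_sub_mem_maximalIdeal (ch j)
  have hz : algebraMap R (AdicCompletion (maximalIdeal R) R) (y - ∑ j, c j * g j) ∈
      maximalIdeal (AdicCompletion (maximalIdeal R) R) ^ 2 := by
    have e : algebraMap R (AdicCompletion (maximalIdeal R) R) (y - ∑ j, c j * g j) =
        ∑ j, (ch j - algebraMap R _ (c j)) * algebraMap R _ (g j) := by
      rw [map_sub, ← hch, map_sum, ← Finset.sum_sub_distrib]
      refine Finset.sum_congr rfl fun j _ => ?_
      rw [map_mul, Function.comp_apply]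
      ring
    rw [e, pow_two]
    refine Ideal.sum_mem _ fun j _ => Ideal.mul_mem_mul (hc j) ?_
    rw [AdicCompletion.maximalIdeal_eq_map]
    exact Ideal.mem_map_of_mem _ (hJ (hgJ j))
  have hz' := mem_pow_of_algebraMap_mem _ 2 hz
  have e : y = ∑ j, c j * g j + (y - ∑ j, c j * g j) := by ring
  rw [e]
  refine Submodule.add_mem _ (Submodule.mem_sup_left ?_) (Submodule.mem_sup_right ?_)
  · exact Ideal.sum_mem _ fun j _ => Ideal.mul_mem_left _ _ (hgJ j)
  · rw [pow_two] at hz'
    exact hz'

end Descent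

section Jac

variable {k : Type u} [Field k] {n : ℕ} {f : MvPolynomial (Fin n) k}
  {P : Ideal (MvPolynomial (Fin n) k ⧸ Ideal.span {f})} [P.IsMaximal] {p : Fin n → k}

local notation "S" => MvPowerSeries (Fin n) k

/-- The Taylor expansion at `p` of a polynomial, as a power series. -/
noncomputable abbrev taylor (p : Fin n → k) (q : MvPolynomial (Fin n) k) : S :=
  ((tr p q : MvPolynomial (Fin n) k) : S)

lemma constantCoeff_taylor (p : Fin n → k) (q : MvPolynomial (Fin n) k) :
    constantCoeff (taylor p q) = MvPolynomial.eval p q := by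
  rw [← coeff_zero_eq_constantCoeff_apply, MvPolynomial.coeff_coe, ← MvPolynomial.constantCoeff_eq,
    ← MvPolynomial.eval_zero, eval_tr]
  simp

lemma pderiv_taylor (p : Fin n → k) (q : MvPolynomial (Fin n) k) (j : Fin n) :
    pderiv k j (taylor p q) = taylor p (MvPolynomial.pderiv j q) := by
  rw [taylor, pderiv_coe, pderiv_tr]

lemma coeff_single_taylor (p : Fin n → k) (q : MvPolynomial (Fin n) k) (j : Fin n) :
    coeff (Finsupp.single j 1) (taylor p q) = MvPolynomial.eval p (MvPolynomial.pderiv j q) := by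
  rw [← constantCoeff_taylor, ← pderiv_taylor, ← coeff_zero_eq_constantCoeff_apply, coeff_pderiv,
    zero_add]
  simp

variable (O : Type u) [CommRing O] [Algebra (MvPolynomial (Fin n) k ⧸ Ideal.span {f}) O]
  [IsLocalization.AtPrime O P] [IsLocalRing O] [IsNoetherianRing O] [Algebra k O]
  [IsScalarTower k (MvPolynomial (Fin n) k ⧸ Ideal.span {f}) O]

/-- The Jacobian ideal generates the maximal ideal of the local ring `O` of `V(f)` at `p` iff the Tjurina
ideal of the Taylor expansion is the maximal ideal of `k[[x]]`. -/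
theorem jac_iff (hp : IsPoint f P p)
    (hP : ∀ j : Fin n, Ideal.Quotient.mk (Ideal.span {f}) (MvPolynomial.pderiv j f) ∈ P) :
    Ideal.map (algebraMap (MvPolynomial (Fin n) k ⧸ Ideal.span {f}) O)
        (Ideal.span (Set.range fun j : Fin n =>
          Ideal.Quotient.mk (Ideal.span {f}) (MvPolynomial.pderiv j f))) = maximalIdeal O ↔
      maximalIdeal S ≤ Ideal.span (Set.range fun j : Fin n => pderiv k j (taylor p f)) ⊔
        Ideal.span {taylor p f} := by
  obtain ⟨Ψ, hΨ⟩ := exists_equiv (O := O) hp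
  set F := taylor p f with hF
  set π : S →+* AdicCompletion (maximalIdeal O) O :=
    (Ψ : (S ⧸ Ideal.span {F}) →+* AdicCompletion (maximalIdeal O) O).comp
      (Ideal.Quotient.mk (Ideal.span {F})) with hπ
  have hπsurj : Function.Surjective π :=
    Ψ.surjective.comp Ideal.Quotient.mk_surjective
  have hπq : ∀ q : MvPolynomial (Fin n) k, π (taylor p q) = can (f := f) O q := fun q => hΨ q
  have hker : Ideal.comap π ⊥ = Ideal.span {F} := by
    ext x
    rw [Ideal.mem_comap, Ideal.mem_bot, hπ, RingHom.comp_apply]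
    change Ψ _ = 0 ↔ _
    rw [map_eq_zero_iff _ Ψ.injective, Ideal.Quotient.eq_zero_iff_mem]
  have hcomap : Ideal.comap π (maximalIdeal (AdicCompletion (maximalIdeal O) O)) = maximalIdeal S := by
    have : (Ideal.comap π (maximalIdeal (AdicCompletion (maximalIdeal O) O))).IsMaximal :=
      Ideal.comap_isMaximal_of_surjective π hπsurj
    exact IsLocalRing.eq_maximalIdeal this
  set jO := Ideal.map (algebraMap (MvPolynomial (Fin n) k ⧸ Ideal.span {f}) O)
    (Ideal.span (Set.range fun j : Fin n =>
      Ideal.Quotient.mk (Ideal.span {f}) (MvPolynomial.pderiv j f))) with hjO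
  have hmapJ : Ideal.map π (Ideal.span (Set.range fun j : Fin n => pderiv k j F)) =
      Ideal.map (algebraMap O (AdicCompletion (maximalIdeal O) O)) jO := by
    rw [hjO, Ideal.map_span, Ideal.map_span, Ideal.map_span, ← Set.range_comp, ← Set.range_comp,
      ← Set.range_comp]
    congr 2
    funext j
    simp only [Function.comp_apply]
    rw [hF, pderiv_taylor, hπq, can_apply]
  have hjle : jO ≤ maximalIdeal O := by
    rw [hjO, ← IsLocalization.AtPrime.map_eq_maximalIdeal P O]
    apply Ideal.map_mono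
    rw [Ideal.span_le]
    rintro _ ⟨j, rfl⟩
    exact hP j
  constructor
  · intro h
    have h1 : Ideal.map π (Ideal.span (Set.range fun j : Fin n => pderiv k j F)) =
        maximalIdeal (AdicCompletion (maximalIdeal O) O) := by
      rw [hmapJ, h, AdicCompletion.maximalIdeal_eq_map]
    rw [← hcomap, ← h1, Ideal.comap_map_of_surjective π hπsurj, hker]
  · intro h
    apply eq_maximalIdeal_of_map_completion jO hjle
    rw [← hmapJ]
    calc maximalIdeal (AdicCompletion (maximalIdeal O) O)
        = Ideal.map π (maximalIdeal S) := by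
          rw [← hcomap, Ideal.map_comap_of_surjective π hπsurj]
      _ ≤ Ideal.map π (Ideal.span (Set.range fun j : Fin n => pderiv k j F) ⊔ Ideal.span {F}) :=
          Ideal.map_mono h
      _ = Ideal.map π (Ideal.span (Set.range fun j : Fin n => pderiv k j F)) := by
          rw [Ideal.map_sup, ← hker, Ideal.map_comap_of_surjective π hπsurj, sup_bot_eq]

end Jac

section Main

variable {k : Type u} [Field k] [IsAlgClosed k] {m : ℕ} {f : MvPolynomial (Fin (m + 1)) k}
  {P : Ideal (MvPolynomial (Fin (m + 1)) k ⧸ Ideal.span {f})} [P.IsMaximal]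

/-- Over an algebraically closed field every maximal ideal of `k[x]/(f)` is a point. -/
lemma exists_isPoint : ∃ p : Fin (m + 1) → k, IsPoint f P p := by
  have hmax : (P.comap (Ideal.Quotient.mk (Ideal.span {f}))).IsMaximal :=
    Ideal.comap_isMaximal_of_surjective _ Ideal.Quotient.mk_surjective
  obtain ⟨p, hp⟩ := MvPolynomial.eq_vanishingIdeal_singleton_of_isMaximal k hmax
  refine ⟨p, fun q => ?_⟩
  rw [← Ideal.mem_comap, hp, MvPolynomial.mem_vanishingIdeal_singleton_iff,
    MvPolynomial.aeval_eq_eval]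

variable (O : Type u) [CommRing O] [Algebra (MvPolynomial (Fin (m + 1)) k ⧸ Ideal.span {f}) O]
  [IsLocalization.AtPrime O P] [IsLocalRing O] [IsNoetherianRing O] [Algebra k O]
  [IsScalarTower k (MvPolynomial (Fin (m + 1)) k ⧸ Ideal.span {f}) O]

/-- S16255 for an arbitrary localization `O` of `k[x]/(f)` at `P`. -/
theorem main
    (hP : ∀ j : Fin (m + 1), Ideal.Quotient.mk (Ideal.span {f}) (MvPolynomial.pderiv j f) ∈ P) :
    Ideal.map (algebraMap (MvPolynomial (Fin (m + 1)) k ⧸ Ideal.span {f}) O)
        (Ideal.span (Set.range fun j : Fin (m + 1) =>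
          Ideal.Quotient.mk (Ideal.span {f}) (MvPolynomial.pderiv j f))) = maximalIdeal O ↔
      VanCyc.IsNondegQuadSing k O m := by
  obtain ⟨p, hp⟩ := exists_isPoint (P := P)
  rw [jac_iff O hp hP]
  obtain ⟨Ψ, -⟩ := exists_equiv (O := O) hp
  have h0 : constantCoeff (taylor p f) = 0 := by rw [constantCoeff_taylor, hp.eval_f]
  have h1 : ∀ i, coeff (Finsupp.single i 1) (taylor p f) = 0 := by
    intro i
    rw [coeff_single_taylor, ← hp]
    exact hP i
  constructor
  · intro hT
    exact ⟨taylor p f, ⟨⟨h0, h1⟩, quadNondeg_of_tjurina _ h0 h1 hT⟩, ⟨Ψ.symm⟩⟩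
  · rintro ⟨g, hg, ⟨e⟩⟩
    have hg' := Groth.Agent.S8719.Aux.QuadJac.main g hg
    exact tjurina_of_equiv (taylor p f) g h0 h1 hg.1.1 hg' (Ψ.trans e)

end Main

end Groth.Agent.Lib.Seat71.HypJac
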