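import Mathlib
import Groth.Agent.Lib.Seat71ArSingBasic
import Groth.Agent.Lib.Seat71NodeGen
import Groth.Agent.Lib.Seat71NodeLen
import Groth.Agent.Lib.Helper19PowerSeries

set_option autoImplicit false
universe u v w

namespace Groth.Agent.Lib.Seat71.JetInv

open MvPowerSeries (X C coeff constantCoeff)
open Groth.Agent.Lib.Seat71.ArSingBasic
open Groth.Agent.Lib.Seat71.Node (idealXY mem_idealXY_pow mem_idealXY_of_constantCoeff
  X0_mem_idealXY X1_mem_idealXY)

/-! ### The invariant -/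

/-- The ideal generated by the non-units. -/
def nu (S : Type*) [CommRing S] : Ideal S := Ideal.span {z : S | ¬ IsUnit z}

/-- `m^2/m^3` is spanned by two elements. -/
def Inv (k : Type u) (S : Type v) [Field k] [CommRing S] [Algebra k S] : Prop :=
  ∃ u v : S, ∀ z ∈ nu S ^ 2, ∃ α β : k, z - (α • u + β • v) ∈ nu S ^ 3

lemma map_nu_le {S : Type v} {S' : Type w} [CommRing S] [CommRing S'] (e : S ≃+* S') :
    Ideal.map (e : S →+* S') (nu S) ≤ nu S' := by
  rw [Ideal.map_le_iff_le_comap]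
  unfold nu
  rw [Ideal.span_le]
  intro z hz
  apply Ideal.subset_span
  intro h
  apply hz
  have := h.map (e.symm : S' →+* S)
  simpa using this

theorem Inv_of_equiv {k : Type u} [Field k] {S : Type v} {S' : Type w} [CommRing S] [CommRing S']
    [Algebra k S] [Algebra k S'] (e : S ≃ₐ[k] S') (h : Inv k S') : Inv k S := by
  obtain ⟨u', v', h⟩ := h
  refine ⟨e.symm u', e.symm v', fun z hz => ?_⟩
  have h1 : e z ∈ nu S' ^ 2 := by
    have : e z ∈ Ideal.map ((e : S ≃+* S') : S →+* S') (nu S ^ 2) := Ideal.mem_map_of_mem _ hz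
    rw [Ideal.map_pow] at this
    exact Ideal.pow_right_mono (map_nu_le (e : S ≃+* S')) 2 this
  obtain ⟨α, β, hαβ⟩ := h (e z) h1
  refine ⟨α, β, ?_⟩
  have h2 : e.symm (e z - (α • u' + β • v')) ∈
      Ideal.map ((e.symm : S' ≃+* S) : S' →+* S) (nu S' ^ 3) := Ideal.mem_map_of_mem _ hαβ
  rw [Ideal.map_pow] at h2
  have h3 := Ideal.pow_right_mono (map_nu_le (e.symm : S' ≃+* S)) 3 h2
  simpa using h3

/-! ### Quotients of `k[[x,y]]` -/

variable {k : Type u} [Field k]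

lemma not_isUnit_mk (F Z : MvPowerSeries (Fin 2) k) (hF : constantCoeff F = 0)
    (hZ : constantCoeff Z = 0) : ¬ IsUnit (Ideal.Quotient.mk (Ideal.span {F}) Z) := by
  intro h
  obtain ⟨w, hw⟩ := h.exists_right_inv
  obtain ⟨W, rfl⟩ := Ideal.Quotient.mk_surjective w
  rw [← map_mul, ← map_one (Ideal.Quotient.mk (Ideal.span {F})), Ideal.Quotient.eq,
    Ideal.mem_span_singleton'] at hw
  obtain ⟨a, ha⟩ := hw
  have := congrArg constantCoeff ha
  simp [hF, hZ] at this

theorem nu_quot (F : MvPowerSeries (Fin 2) k) (hF : constantCoeff F = 0) :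
    nu (MvPowerSeries (Fin 2) k ⧸ Ideal.span {F}) =
      Ideal.map (Ideal.Quotient.mk (Ideal.span {F})) (idealXY k) := by
  apply le_antisymm
  · unfold nu
    rw [Ideal.span_le]
    intro z hz
    obtain ⟨Z, rfl⟩ := Ideal.Quotient.mk_surjective z
    apply Ideal.mem_map_of_mem
    apply mem_idealXY_of_constantCoeff
    by_contra h0
    apply hz
    apply IsUnit.map
    rw [MvPowerSeries.isUnit_iff_constantCoeff]
    exact isUnit_iff_ne_zero.2 h0
  · rw [Ideal.map_le_iff_le_comap]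
    unfold idealXY
    rw [Ideal.span_le]
    intro Z hZ
    have hZ0 : constantCoeff Z = 0 := by
      rcases hZ with rfl | rfl <;> simp
    exact Ideal.subset_span (not_isUnit_mk F Z hF hZ0)

lemma nu_quot_pow (F : MvPowerSeries (Fin 2) k) (hF : constantCoeff F = 0) (n : ℕ) :
    nu (MvPowerSeries (Fin 2) k ⧸ Ideal.span {F}) ^ n =
      Ideal.map (Ideal.Quotient.mk (Ideal.span {F})) (idealXY k ^ n) := by
  rw [nu_quot F hF, Ideal.map_pow]

/-! ### Coefficients -/

lemma degree_mon (i j : ℕ) : (mon i j).degree = i + j := by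
  unfold mon
  rw [map_add, Finsupp.degree_single, Finsupp.degree_single]

lemma coeff_eq_zero_of_mem_pow (n : ℕ) (g : MvPowerSeries (Fin 2) k) (hg : g ∈ idealXY k ^ n)
    (i j : ℕ) (hij : i + j < n) : c g i j = 0 := by
  have h1 : idealXY k ≤ Groth.Agent.Lib.Helper19.coeffIdeal (Fin 2) (⊥ : Ideal k) 1 := by
    unfold idealXY
    rw [Ideal.span_le]
    intro Z hZ
    rcases hZ with rfl | rfl <;> exact Groth.Agent.Lib.Helper19.X_mem_coeffIdeal_one _ _
  have h2 := Groth.Agent.Lib.Helper19.coeffIdeal_one_pow_le (σ := Fin 2) (⊥ : Ideal k) n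
    (Ideal.pow_right_mono h1 n hg)
  have h3 := (Groth.Agent.Lib.Helper19.mem_coeffIdeal.1 h2) (mon i j)
  rw [degree_mon] at h3
  have h4 : n - (i + j) ≠ 0 := by omega
  rw [Ideal.bot_pow h4] at h3
  exact h3

lemma c_C_mul (a : k) (f : MvPowerSeries (Fin 2) k) (i j : ℕ) : c (C a * f) i j = a * c f i j := by
  unfold c
  rw [MvPowerSeries.coeff_C_mul]

lemma c_X_pow_mul_X_pow (a b i j : ℕ) :
    c (X 0 ^ a * X 1 ^ b : MvPowerSeries (Fin 2) k) i j = if i = a ∧ j = b then 1 else 0 := by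
  unfold c
  rw [MvPowerSeries.X_pow_eq, MvPowerSeries.X_pow_eq, MvPowerSeries.monomial_mul_monomial, one_mul,
    MvPowerSeries.coeff_monomial]
  by_cases h : i = a ∧ j = b
  · rw [if_pos h, if_pos]
    rw [h.1, h.2]; rfl
  · rw [if_neg h, if_neg]
    intro h'
    exact h (mon_inj h')

/-- The quadratic form `a x^2 + b xy + c y^2`. -/
noncomputable def quad (a b d : k) : MvPowerSeries (Fin 2) k :=
  C a * (X 0 ^ 2 * X 1 ^ 0) + C b * (X 0 ^ 1 * X 1 ^ 1) + C d * (X 0 ^ 0 * X 1 ^ 2)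

lemma c_quad (a b d : k) (i j : ℕ) :
    c (quad a b d) i j = (if i = 2 ∧ j = 0 then a else 0) + (if i = 1 ∧ j = 1 then b else 0) +
      (if i = 0 ∧ j = 2 then d else 0) := by
  unfold quad
  rw [c_add, c_add, c_C_mul, c_C_mul, c_C_mul, c_X_pow_mul_X_pow, c_X_pow_mul_X_pow,
    c_X_pow_mul_X_pow]
  simp only [mul_ite, mul_one, mul_zero]

lemma X_pow_mul_X_pow_mem (a b : ℕ) :
    (X 0 ^ a * X 1 ^ b : MvPowerSeries (Fin 2) k) ∈ idealXY k ^ (a + b) := by
  rw [pow_add]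
  exact Ideal.mul_mem_mul (Ideal.pow_mem_pow X0_mem_idealXY a) (Ideal.pow_mem_pow X1_mem_idealXY b)

lemma quad_mem (a b d : k) : quad a b d ∈ idealXY k ^ 2 := by
  unfold quad
  refine Ideal.add_mem _ (Ideal.add_mem _ ?_ ?_) ?_
  · exact Ideal.mul_mem_left _ _ (X_pow_mul_X_pow_mem 2 0)
  · exact Ideal.mul_mem_left _ _ (X_pow_mul_X_pow_mem 1 1)
  · exact Ideal.mul_mem_left _ _ (X_pow_mul_X_pow_mem 0 2)

/-- Second order Taylor expansion of an element of `(x,y)^2`. -/
lemma sub_quad_mem (Z : MvPowerSeries (Fin 2) k) (hZ : Z ∈ idealXY k ^ 2) :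
    Z - quad (c Z 2 0) (c Z 1 1) (c Z 0 2) ∈ idealXY k ^ 3 := by
  apply mem_idealXY_pow
  intro d hd
  rw [← mon_eta d] at hd ⊢
  rw [degree_mon] at hd
  show c (Z - quad (c Z 2 0) (c Z 1 1) (c Z 0 2)) (d 0) (d 1) = 0
  rw [c_sub, c_quad]
  generalize d 0 = i at *
  generalize d 1 = j at *
  have hi : i < 3 := by omega
  have hj : j < 3 := by omega
  interval_cases i <;> interval_cases j <;> simp_all
  · exact coeff_eq_zero_of_mem_pow 2 Z hZ 0 0 (by omega)
  · exact coeff_eq_zero_of_mem_pow 2 Z hZ 0 1 (by omega)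
  · exact coeff_eq_zero_of_mem_pow 2 Z hZ 1 0 (by omega)

/-! ### Failure of the invariant when the 2-jet vanishes -/

lemma exists_rel (w : Fin 3 → Fin 2 → k) :
    ∃ g : Fin 3 → k, ∑ i, g i • w i = 0 ∧ ∃ i, g i ≠ 0 := by
  have h : ¬ LinearIndependent k w := by
    intro h
    have := h.fintype_card_le_finrank
    simp at this
  exact Fintype.not_linearIndependent_iff.1 h

theorem not_Inv (F : MvPowerSeries (Fin 2) k) (hF : ∀ i j, i + j < 3 → c F i j = 0) :
    ¬ Inv k (MvPowerSeries (Fin 2) k ⧸ Ideal.span {F}) := by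
  have hF3 : F ∈ idealXY k ^ 3 := by
    apply mem_idealXY_pow
    intro d hd
    rw [← mon_eta d] at hd ⊢
    rw [degree_mon] at hd
    exact hF _ _ hd
  have hF0 : constantCoeff F = 0 := by
    have := hF 0 0 (by omega)
    unfold c at this
    rw [← MvPowerSeries.coeff_zero_eq_constantCoeff_apply]
    convert this using 2
    simp [mon]
  rintro ⟨u, v, huv⟩
  set π := Ideal.Quotient.mk (Ideal.span {F}) with hπ
  have hmem : ∀ a b d : k, π (quad a b d) ∈
      nu (MvPowerSeries (Fin 2) k ⧸ Ideal.span {F}) ^ 2 := by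
    intro a b d
    rw [nu_quot_pow F hF0]
    exact Ideal.mem_map_of_mem _ (quad_mem a b d)
  obtain ⟨α0, β0, h0⟩ := huv _ (hmem 1 0 0)
  obtain ⟨α1, β1, h1⟩ := huv _ (hmem 0 1 0)
  obtain ⟨α2, β2, h2⟩ := huv _ (hmem 0 0 1)
  obtain ⟨l, hl, hne⟩ := exists_rel (k := k) ![![α0, β0], ![α1, β1], ![α2, β2]]
  have hlα : l 0 * α0 + l 1 * α1 + l 2 * α2 = 0 := by
    have := congrFun hl 0
    simpa [Fin.sum_univ_three] using this
  have hlβ : l 0 * β0 + l 1 * β1 + l 2 * β2 = 0 := by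
    have := congrFun hl 1
    simpa [Fin.sum_univ_three] using this
  have hquad : quad (l 0) (l 1) (l 2) =
      C (l 0) * quad 1 0 0 + C (l 1) * quad 0 1 0 + C (l 2) * quad 0 0 1 := by
    unfold quad
    simp only [map_zero, map_one, zero_mul, add_zero, zero_add, one_mul]
  have hsum : π (quad (l 0) (l 1) (l 2)) ∈
      nu (MvPowerSeries (Fin 2) k ⧸ Ideal.span {F}) ^ 3 := by
    have e : π (quad (l 0) (l 1) (l 2)) =
        π (C (l 0)) * (π (quad 1 0 0) - (α0 • u + β0 • v)) +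
        π (C (l 1)) * (π (quad 0 1 0) - (α1 • u + β1 • v)) +
        π (C (l 2)) * (π (quad 0 0 1) - (α2 • u + β2 • v)) +
        ((l 0 * α0 + l 1 * α1 + l 2 * α2) • u + (l 0 * β0 + l 1 * β1 + l 2 * β2) • v) := by
      rw [hquad]
      have hC : ∀ a : k, π (C a) = algebraMap k _ a := fun a => rfl
      have hs : ∀ (a : k) (z : MvPowerSeries (Fin 2) k ⧸ Ideal.span {F}),
          a • z = algebraMap k _ a * z := fun a z => Algebra.smul_def a z
      simp only [map_add, map_mul, hC, hs]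
      ring
    rw [e, hlα, hlβ, zero_smul, zero_smul, add_zero, add_zero]
    exact Ideal.add_mem _ (Ideal.add_mem _ (Ideal.mul_mem_left _ _ h0) (Ideal.mul_mem_left _ _ h1))
      (Ideal.mul_mem_left _ _ h2)
  rw [nu_quot_pow F hF0, Ideal.mem_map_iff_of_surjective _ Ideal.Quotient.mk_surjective] at hsum
  obtain ⟨T, hT, hTe⟩ := hsum
  have hQ : quad (l 0) (l 1) (l 2) ∈ idealXY k ^ 3 := by
    have : T - quad (l 0) (l 1) (l 2) ∈ Ideal.span {F} := by
      rw [← Ideal.Quotient.eq]; exact hTe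
    have h3 : T - quad (l 0) (l 1) (l 2) ∈ idealXY k ^ 3 :=
      (Ideal.span_singleton_le_iff_mem _).2 hF3 this
    have := Ideal.sub_mem _ hT h3
    simpa using this
  have c20 := coeff_eq_zero_of_mem_pow 3 _ hQ 2 0 (by omega)
  have c11 := coeff_eq_zero_of_mem_pow 3 _ hQ 1 1 (by omega)
  have c02 := coeff_eq_zero_of_mem_pow 3 _ hQ 0 2 (by omega)
  rw [c_quad] at c20 c11 c02
  simp at c20 c11 c02
  obtain ⟨i, hi⟩ := hne
  fin_cases i
  · exact hi c20
  · exact hi c11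
  · exact hi c02

/-! ### The invariant holds for the normal forms -/

theorem Inv_of_rel (H : MvPowerSeries (Fin 2) k) (hH0 : constantCoeff H = 0) (γ : k)
    (hrel : X 1 ^ 2 - C γ * X 0 ^ 2 - H ∈ idealXY k ^ 3) :
    Inv k (MvPowerSeries (Fin 2) k ⧸ Ideal.span {H}) := by
  set π := Ideal.Quotient.mk (Ideal.span {H}) with hπ
  refine ⟨π (X 0 ^ 2), π (X 0 * X 1), fun z hz => ?_⟩
  rw [nu_quot_pow H hH0, Ideal.mem_map_iff_of_surjective _ Ideal.Quotient.mk_surjective] at hz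
  obtain ⟨Z, hZ, rfl⟩ := hz
  refine ⟨c Z 2 0 + c Z 0 2 * γ, c Z 1 1, ?_⟩
  rw [nu_quot_pow H hH0]
  have hC : ∀ a : k, π (C a) = algebraMap k _ a := fun a => rfl
  have e : π Z - ((c Z 2 0 + c Z 0 2 * γ) • π (X 0 ^ 2) + c Z 1 1 • π (X 0 * X 1)) =
      π ((Z - quad (c Z 2 0) (c Z 1 1) (c Z 0 2)) +
        C (c Z 0 2) * (X 1 ^ 2 - C γ * X 0 ^ 2 - H)) := by
    have hH : π H = 0 := by
      rw [hπ, Ideal.Quotient.eq_zero_iff_mem]; exact Ideal.mem_span_singleton_self H
    have hs : ∀ (a : k) (z : MvPowerSeries (Fin 2) k ⧸ Ideal.span {H}),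
        a • z = algebraMap k _ a * z := fun a z => Algebra.smul_def a z
    unfold quad
    simp only [map_add, map_sub, map_mul, map_pow, hC, hs, hH, pow_zero, pow_one,
      mul_one, one_mul]
    ring
  rw [e]
  exact Ideal.mem_map_of_mem _ (Ideal.add_mem _ (sub_quad_mem Z hZ) (Ideal.mul_mem_left _ _ hrel))

theorem Inv_smooth :
    Inv k (MvPowerSeries (Fin 2) k ⧸ Ideal.span {(X 1 ^ 2 - X 0 : MvPowerSeries (Fin 2) k)}) := by
  have hH0 : constantCoeff (X 1 ^ 2 - X 0 : MvPowerSeries (Fin 2) k) = 0 := by simp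
  set π := Ideal.Quotient.mk (Ideal.span {(X 1 ^ 2 - X 0 : MvPowerSeries (Fin 2) k)}) with hπ
  refine ⟨π (X 1 ^ 2), 0, fun z hz => ?_⟩
  rw [nu_quot_pow _ hH0, Ideal.mem_map_iff_of_surjective _ Ideal.Quotient.mk_surjective] at hz
  obtain ⟨Z, hZ, rfl⟩ := hz
  refine ⟨c Z 0 2, 0, ?_⟩
  rw [nu_quot_pow _ hH0]
  have hC : ∀ a : k, π (C a) = algebraMap k _ a := fun a => rfl
  have hx : π (X 0) = π (X 1) ^ 2 := by
    rw [← map_pow, eq_comm, hπ, Ideal.Quotient.eq]
    exact Ideal.mem_span_singleton_self _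
  have e : π Z - (c Z 0 2 • π (X 1 ^ 2) + (0 : k) • 0) =
      π ((Z - quad (c Z 2 0) (c Z 1 1) (c Z 0 2)) +
        (C (c Z 2 0) * X 1 ^ 4 + C (c Z 1 1) * X 1 ^ 3)) := by
    have hs : ∀ (a : k) (z : MvPowerSeries (Fin 2) k ⧸
        Ideal.span {(X 1 ^ 2 - X 0 : MvPowerSeries (Fin 2) k)}),
        a • z = algebraMap k _ a * z := fun a z => Algebra.smul_def a z
    unfold quad
    simp only [map_add, map_sub, map_mul, map_pow, hC, hs, hx, pow_zero, pow_one,
      mul_one, one_mul, add_zero, mul_zero]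
    ring
  rw [e]
  refine Ideal.mem_map_of_mem _ (Ideal.add_mem _ (sub_quad_mem Z hZ) (Ideal.add_mem _ ?_ ?_))
  · apply Ideal.mul_mem_left
    have := X_pow_mul_X_pow_mem (k := k) 0 4
    rw [pow_zero, one_mul] at this
    exact Ideal.pow_le_pow_right (by omega) this
  · apply Ideal.mul_mem_left
    have := X_pow_mul_X_pow_mem (k := k) 0 3
    rw [pow_zero, one_mul] at this
    exact this

theorem Inv_ArSing (n : ℕ) : Inv k (ArSing.ring k n) := by
  show Inv k (MvPowerSeries (Fin 2) k ⧸ Ideal.span {ArSing.eqn k n})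
  unfold ArSing.eqn
  rcases Nat.lt_or_ge n 1 with h0 | h1
  · have : n = 0 := by omega
    subst this
    rw [zero_add, pow_one]
    exact Inv_smooth
  · rcases Nat.lt_or_ge n 2 with h1' | h2
    · have : n = 1 := by omega
      subst this
      apply Inv_of_rel _ (by simp) 1
      have : (X 1 ^ 2 - C (1 : k) * X 0 ^ 2 - (X 1 ^ 2 - X 0 ^ (1 + 1)) :
          MvPowerSeries (Fin 2) k) = 0 := by
        rw [map_one]; ring
      rw [this]
      exact Ideal.zero_mem _
    · apply Inv_of_rel _ (by simp) 0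
      have : (X 1 ^ 2 - C (0 : k) * X 0 ^ 2 - (X 1 ^ 2 - X 0 ^ (n + 1)) :
          MvPowerSeries (Fin 2) k) = X 0 ^ (n + 1) * X 1 ^ 0 := by
        rw [map_zero]; ring
      rw [this]
      exact Ideal.pow_le_pow_right (by omega) (X_pow_mul_X_pow_mem (n + 1) 0)

theorem Inv_ysq :
    Inv k (MvPowerSeries (Fin 2) k ⧸ Ideal.span {(X 1 ^ 2 : MvPowerSeries (Fin 2) k)}) := by
  apply Inv_of_rel _ (by simp) 0
  have : (X 1 ^ 2 - C (0 : k) * X 0 ^ 2 - X 1 ^ 2 : MvPowerSeries (Fin 2) k) = 0 := by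
    rw [map_zero]; ring
  rw [this]
  exact Ideal.zero_mem _

end Groth.Agent.Lib.Seat71.JetInv
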