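import Mathlib
import Groth.Agent.Lib.Seat71JetInv

set_option autoImplicit false
universe u

namespace Groth.Agent.Lib.Seat71.JetLin

open MvPowerSeries (X C coeff constantCoeff)
open Groth.Agent.Lib.Seat71.ArSingBasic
open Groth.Agent.Lib.Seat71.Node (idealXY mem_idealXY_pow X0_mem_idealXY X1_mem_idealXY)
open Groth.Agent.Lib.Seat71.JetInv

variable {k : Type u} [Field k]

/-- Transport of a principal quotient along an automorphism. -/
lemma quot_equiv (σ : MvPowerSeries (Fin 2) k ≃ₐ[k] MvPowerSeries (Fin 2) k)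
    (G : MvPowerSeries (Fin 2) k) :
    Nonempty ((MvPowerSeries (Fin 2) k ⧸ Ideal.span {G}) ≃ₐ[k]
      (MvPowerSeries (Fin 2) k ⧸ Ideal.span {σ G})) :=
  ⟨Ideal.quotientEquivAlg _ _ σ (by rw [Ideal.map_span, Set.image_singleton]; rfl)⟩

/-! ### The swap -/

/-- Exchange of the two variables. -/
noncomputable def swap : MvPowerSeries (Fin 2) k ≃ₐ[k] MvPowerSeries (Fin 2) k :=
  MvPowerSeries.renameEquiv k (Equiv.swap (0 : Fin 2) 1)

lemma c_swap (G : MvPowerSeries (Fin 2) k) (i j : ℕ) : c (swap G) i j = c G j i := by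
  unfold c swap
  have : mon i j = Finsupp.embDomain (Equiv.swap (0 : Fin 2) 1).toEmbedding (mon j i) := by
    ext t
    fin_cases t
    · have h := Finsupp.embDomain_apply_self (Equiv.swap (0 : Fin 2) 1).toEmbedding (mon j i) 1
      simp only [Equiv.toEmbedding_apply, Equiv.swap_apply_right] at h
      show mon i j 0 = Finsupp.embDomain (Equiv.swap (0 : Fin 2) 1).toEmbedding (mon j i) 0
      rw [h]; simp
    · have h := Finsupp.embDomain_apply_self (Equiv.swap (0 : Fin 2) 1).toEmbedding (mon j i) 0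
      simp only [Equiv.toEmbedding_apply, Equiv.swap_apply_left] at h
      show mon i j 1 = Finsupp.embDomain (Equiv.swap (0 : Fin 2) 1).toEmbedding (mon j i) 1
      rw [h]; simp
  rw [this]
  exact MvPowerSeries.coeff_embDomain_rename (Equiv.swap (0 : Fin 2) 1).toEmbedding G (mon j i)

/-! ### The shear -/

/-- `x ↦ x + t y`, `y ↦ y`. -/
noncomputable def shearFun (t : k) : Fin 2 → MvPowerSeries (Fin 2) k :=
  ![X 0 + C t * X 1, X 1]

lemma hasSubst_shearFun (t : k) : MvPowerSeries.HasSubst (shearFun t) := by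
  apply MvPowerSeries.hasSubst_of_constantCoeff_zero
  intro s
  fin_cases s <;> simp [shearFun]

noncomputable def shearHom (t : k) : MvPowerSeries (Fin 2) k →ₐ[k] MvPowerSeries (Fin 2) k :=
  MvPowerSeries.substAlgHom (hasSubst_shearFun t)

lemma shearHom_X0 (t : k) : shearHom t (X 0) = X 0 + C t * X 1 := by
  unfold shearHom
  rw [MvPowerSeries.substAlgHom_X]
  rfl

lemma shearHom_X1 (t : k) : shearHom t (X 1) = X 1 := by
  unfold shearHom
  rw [MvPowerSeries.substAlgHom_X]
  rfl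

lemma shearHom_C (t a : k) : shearHom t (C a) = C a := by
  have : (C a : MvPowerSeries (Fin 2) k) = algebraMap k _ a := rfl
  rw [this, AlgHom.commutes]

lemma shearHom_comp (t s : k) (hts : t + s = 0) (f : MvPowerSeries (Fin 2) k) :
    shearHom t (shearHom s f) = f := by
  unfold shearHom
  rw [MvPowerSeries.substAlgHom_apply, MvPowerSeries.substAlgHom_apply,
    MvPowerSeries.subst_comp_subst_apply (hasSubst_shearFun s) (hasSubst_shearFun t)]
  have : (fun i => MvPowerSeries.subst (shearFun t) (shearFun s i)) =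
      (X : Fin 2 → MvPowerSeries (Fin 2) k) := by
    funext i
    rw [← MvPowerSeries.substAlgHom_apply (hasSubst_shearFun t)]
    fin_cases i
    · show shearHom t (X 0 + C s * X 1) = X 0
      rw [map_add, map_mul, shearHom_X0, shearHom_X1, shearHom_C]
      have : (C t : MvPowerSeries (Fin 2) k) + C s = 0 := by rw [← map_add, hts, map_zero]
      linear_combination X 1 * this
    · show shearHom t (X 1) = X 1
      exact shearHom_X1 t
  rw [this, MvPowerSeries.subst_self]
  rfl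

/-- The shear as an automorphism. -/
noncomputable def shear (t : k) : MvPowerSeries (Fin 2) k ≃ₐ[k] MvPowerSeries (Fin 2) k :=
  AlgEquiv.ofAlgHom (shearHom t) (shearHom (-t))
    (AlgHom.ext fun f => shearHom_comp t (-t) (by ring) f)
    (AlgHom.ext fun f => shearHom_comp (-t) t (by ring) f)

lemma shear_apply (t : k) (f : MvPowerSeries (Fin 2) k) : shear t f = shearHom t f := rfl

lemma shear_mem_pow (t : k) (n : ℕ) (f : MvPowerSeries (Fin 2) k) (hf : f ∈ idealXY k ^ n) :
    shear t f ∈ idealXY k ^ n := by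
  have h1 : Ideal.map (shearHom t : MvPowerSeries (Fin 2) k →+* MvPowerSeries (Fin 2) k)
      (idealXY k) ≤ idealXY k := by
    rw [Ideal.map_le_iff_le_comap]
    unfold idealXY
    rw [Ideal.span_le]
    intro Z hZ
    rcases hZ with rfl | rfl
    · show shearHom t (X 0) ∈ Ideal.span {X 0, X 1}
      rw [shearHom_X0]
      exact Ideal.add_mem _ (Ideal.subset_span (Set.mem_insert _ _))
        (Ideal.mul_mem_left _ _ (Ideal.subset_span (Set.mem_insert_of_mem _ rfl)))
    · show shearHom t (X 1) ∈ Ideal.span {X 0, X 1}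
      rw [shearHom_X1]
      exact Ideal.subset_span (Set.mem_insert_of_mem _ rfl)
  have h2 : shearHom t f ∈ Ideal.map
      (shearHom t : MvPowerSeries (Fin 2) k →+* MvPowerSeries (Fin 2) k) (idealXY k ^ n) :=
    Ideal.mem_map_of_mem _ hf
  rw [Ideal.map_pow] at h2
  exact Ideal.pow_right_mono h1 n h2

/-- The node case: after the shear `x ↦ x + y` the series becomes regular in `y` of order 2. -/
lemma c_shear (G : MvPowerSeries (Fin 2) k) (h00 : c G 0 0 = 0) (h10 : c G 1 0 = 0)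
    (h01 : c G 0 1 = 0) (h20 : c G 2 0 = 0) (h02 : c G 0 2 = 0) :
    c (shear 1 G) 0 0 = 0 ∧ c (shear 1 G) 0 2 = c G 1 1 := by
  have hG' : G - C (c G 1 1) * (X 0 ^ 1 * X 1 ^ 1) ∈ idealXY k ^ 3 := by
    apply mem_idealXY_pow
    intro d hd
    rw [← mon_eta d] at hd ⊢
    rw [degree_mon] at hd
    show c (G - C (c G 1 1) * (X 0 ^ 1 * X 1 ^ 1)) (d 0) (d 1) = 0
    rw [c_sub, c_C_mul, c_X_pow_mul_X_pow]
    generalize d 0 = i at *
    generalize d 1 = j at *
    have hi : i < 3 := by omega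
    have hj : j < 3 := by omega
    interval_cases i <;> interval_cases j <;> simp_all
  have hS := shear_mem_pow 1 3 _ hG'
  have e : shear 1 G = shear 1 (G - C (c G 1 1) * (X 0 ^ 1 * X 1 ^ 1)) +
      C (c G 1 1) * (X 0 ^ 1 * X 1 ^ 1 + X 0 ^ 0 * X 1 ^ 2) := by
    rw [map_sub, map_mul, map_mul, map_pow, map_pow, shear_apply 1 (X 0), shear_apply 1 (X 1),
      shear_apply 1 (C _), shearHom_X0, shearHom_X1, shearHom_C, map_one]
    ring
  rw [e, c_add, c_add, c_C_mul, c_C_mul, c_add, c_add, c_X_pow_mul_X_pow, c_X_pow_mul_X_pow,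
    c_X_pow_mul_X_pow, c_X_pow_mul_X_pow, coeff_eq_zero_of_mem_pow 3 _ hS 0 0 (by omega),
    coeff_eq_zero_of_mem_pow 3 _ hS 0 2 (by omega)]
  simp

/-- Reduction to a series regular in `y` of order at most two. -/
theorem reduce (G : MvPowerSeries (Fin 2) k) (h00 : c G 0 0 = 0)
    (hne : ¬ (c G 1 0 = 0 ∧ c G 0 1 = 0 ∧ c G 2 0 = 0 ∧ c G 1 1 = 0 ∧ c G 0 2 = 0)) :
    ∃ σ : MvPowerSeries (Fin 2) k ≃ₐ[k] MvPowerSeries (Fin 2) k,
      c (σ G) 0 0 = 0 ∧ (c (σ G) 0 1 ≠ 0 ∨ c (σ G) 0 2 ≠ 0) := by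
  by_cases ha : c G 0 1 ≠ 0 ∨ c G 0 2 ≠ 0
  · exact ⟨AlgEquiv.refl, h00, ha⟩
  by_cases hb : c G 1 0 ≠ 0 ∨ c G 2 0 ≠ 0
  · refine ⟨swap, ?_, ?_⟩
    · rw [c_swap]; exact h00
    · rw [c_swap, c_swap]; exact hb
  push Not at ha hb
  have h11 : c G 1 1 ≠ 0 := fun h => hne ⟨hb.1, ha.1, hb.2, h, ha.2⟩
  obtain ⟨h1, h2⟩ := c_shear G h00 hb.1 ha.1 hb.2 ha.2
  exact ⟨shear 1, h1, Or.inr (by rw [h2]; exact h11)⟩

end Groth.Agent.Lib.Seat71.JetLin
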