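import Mathlib
import Groth.Agent.Lib.Seat71JetPsi

set_option autoImplicit false
universe u

namespace Groth.Agent.Lib.Seat71.JetSqrt

open Groth.Agent.Lib.Seat71.JetPsi

variable {k : Type u} [Field k]

/-- Square roots of units of `k[[x]]`. -/
theorem exists_sqrt [IsAlgClosed k] (h2 : (2 : k) ≠ 0) (u : PowerSeries k) (hu : IsUnit u) :
    ∃ v : PowerSeries k, IsUnit v ∧ v ^ 2 = u := by
  have hu0 : PowerSeries.constantCoeff u ≠ 0 := by
    rw [PowerSeries.isUnit_iff_constantCoeff] at hu
    exact hu.ne_zero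
  obtain ⟨s, hs⟩ := IsAlgClosed.exists_pow_nat_eq (PowerSeries.constantCoeff u) (n := 2)
    (by norm_num)
  have hs0 : s ≠ 0 := by
    rintro rfl
    apply hu0
    rw [← hs]; simp
  have hH : HenselianRing (PowerSeries k) (IsLocalRing.maximalIdeal (PowerSeries k)) :=
    inferInstance
  obtain ⟨v, hv, -⟩ := hH.is_henselian (Polynomial.X ^ 2 - Polynomial.C u)
    (Polynomial.monic_X_pow_sub_C u (by norm_num)) (PowerSeries.C s)
    (by
      rw [mem_maximalIdeal_iff]
      simp [hs])
    (by
      apply IsUnit.map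
      rw [PowerSeries.isUnit_iff_constantCoeff]
      simp only [Polynomial.derivative_sub, Polynomial.derivative_X_pow, Polynomial.derivative_C,
        sub_zero, Polynomial.eval_mul, Polynomial.eval_pow, Polynomial.eval_X, map_mul, map_pow,
        PowerSeries.constantCoeff_C]
      have h2' : PowerSeries.constantCoeff (2 : PowerSeries k) = 2 := map_ofNat _ 2
      simp [h2, hs0, h2'])
  have hv2 : v ^ 2 = u := by
    have := hv
    rw [Polynomial.IsRoot.def] at this
    simp only [Polynomial.eval_sub, Polynomial.eval_pow, Polynomial.eval_X,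
      Polynomial.eval_C] at this
    exact sub_eq_zero.1 this
  refine ⟨v, ?_, hv2⟩
  have : IsUnit (v ^ 2) := hv2 ▸ hu
  exact (isUnit_pow_iff (by norm_num)).1 this

/-- A non-zero element of the maximal ideal of `k[[x]]` is `x^N v^2` with `N ≥ 1`, `v` a unit. -/
theorem exists_eq_X_pow_mul_sq [IsAlgClosed k] (h2 : (2 : k) ≠ 0) (d : PowerSeries k) (hd : d ≠ 0)
    (hd0 : PowerSeries.constantCoeff d = 0) :
    ∃ (N : ℕ) (v : PowerSeries k), 1 ≤ N ∧ IsUnit v ∧ d = PowerSeries.X ^ N * v ^ 2 := by
  have hunit : IsUnit (PowerSeries.divXPowOrder d) := by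
    rw [PowerSeries.isUnit_iff_constantCoeff, isUnit_iff_ne_zero, ne_eq,
      PowerSeries.constantCoeff_divXPowOrder_eq_zero_iff]
    exact hd
  obtain ⟨v, hv, hv2⟩ := exists_sqrt h2 _ hunit
  refine ⟨d.order.toNat, v, ?_, hv, ?_⟩
  · by_contra h
    have h0 : d.order.toNat = 0 := by omega
    have := PowerSeries.X_pow_order_mul_divXPowOrder (f := d)
    rw [h0, pow_zero, one_mul] at this
    rw [← this] at hd0
    rw [PowerSeries.isUnit_iff_constantCoeff, hd0] at hunit
    exact not_isUnit_zero hunit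
  · rw [hv2, PowerSeries.X_pow_order_mul_divXPowOrder]

end Groth.Agent.Lib.Seat71.JetSqrt
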