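import Mathlib
import Groth.Agent.Lib.Seat71JetSqrt
import Groth.Agent.Lib.Seat71JetLin
import Groth.Agent.Lib.Seat71ArSingCusp

set_option autoImplicit false
set_option linter.style.haveILetI false
universe u

namespace Groth.Agent.Lib.Seat71.JetNF

open MvPowerSeries (X)
open Groth.Agent.Lib.Seat71.ArSingBasic
open Groth.Agent.Lib.Seat71.JetPsi
open Groth.Agent.Lib.Seat71.JetGen
open Groth.Agent.Lib.Seat71.JetSqrt
open Groth.Agent.Lib.Seat71.ArSingCusp

variable {k : Type u} [Field k]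

/-- Back from `k[[x]][[y]]` to `k[[x,y]]`. -/
lemma back (N : ℕ) :
    Nonempty ((PowerSeries (PowerSeries k) ⧸ Ideal.span
        {(PowerSeries.X ^ 2 - PowerSeries.C (PowerSeries.X ^ N) : PowerSeries (PowerSeries k))}) ≃ₐ[k]
      (MvPowerSeries (Fin 2) k ⧸ Ideal.span {(X 1 ^ 2 - X 0 ^ N : MvPowerSeries (Fin 2) k)})) := by
  refine ⟨(Ideal.quotientEquivAlg _ _ Ψ ?_).symm⟩
  rw [Ideal.map_span, Set.image_singleton]
  show _ = Ideal.span {Ψ (X 1 ^ 2 - X 0 ^ N)}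
  rw [map_sub Ψ, map_pow Ψ, map_pow Ψ, Ψ_X1, Ψ_X0, ← map_pow]

lemma back_zero :
    Nonempty ((PowerSeries (PowerSeries k) ⧸ Ideal.span
        {(PowerSeries.X ^ 2 - PowerSeries.C 0 : PowerSeries (PowerSeries k))}) ≃ₐ[k]
      (MvPowerSeries (Fin 2) k ⧸ Ideal.span {(X 1 ^ 2 : MvPowerSeries (Fin 2) k)})) := by
  refine ⟨(Ideal.quotientEquivAlg _ _ Ψ ?_).symm⟩
  rw [Ideal.map_span, Set.image_singleton]
  show _ = Ideal.span {Ψ (X 1 ^ 2)}
  rw [map_pow Ψ, Ψ_X1, map_zero, sub_zero]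

/-- The smooth branch `A_0 ≃ k[[t]]`. -/
lemma smooth_equiv : Nonempty (ArSing.ring k 0 ≃ₐ[k] PowerSeries k) := by
  refine ⟨AlgEquiv.ofBijective (ν 0) ⟨ν_injective 0, fun f => ?_⟩⟩
  have := (mem_range_ν_iff (k := k) 0 f).2 (by rw [pow_zero]; exact one_dvd _)
  exact this

/-- Normal form of a series regular in `y` of order at most two. -/
theorem normal_form [IsAlgClosed k] (h2 : (2 : k) ≠ 0) (G : MvPowerSeries (Fin 2) k)
    (h00 : c G 0 0 = 0) (hreg : c G 0 1 ≠ 0 ∨ c G 0 2 ≠ 0) :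
    (∃ n : ℕ, Nonempty ((MvPowerSeries (Fin 2) k ⧸ Ideal.span {G}) ≃ₐ[k] ArSing.ring k n)) ∨
      Nonempty ((MvPowerSeries (Fin 2) k ⧸ Ideal.span {G}) ≃ₐ[k]
        (MvPowerSeries (Fin 2) k ⧸ Ideal.span {(X 1 ^ 2 : MvPowerSeries (Fin 2) k)})) := by
  by_cases h01 : c G 0 1 = 0
  · have h02 : c G 0 2 ≠ 0 := hreg.resolve_left (fun h => h h01)
    obtain ⟨f, hdist, hdeg, ⟨e1⟩⟩ := weierstrass G 2 h02 (by
      intro j hj
      interval_cases j
      · exact h00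
      · exact h01)
    haveI : Invertible (2 : PowerSeries k) := by
      apply IsUnit.invertible
      rw [PowerSeries.isUnit_iff_constantCoeff]
      have : PowerSeries.constantCoeff (2 : PowerSeries k) = 2 := map_ofNat _ 2
      rw [this]
      exact isUnit_iff_ne_zero.2 h2
    obtain ⟨d, hd, ⟨e2⟩⟩ := quot_deg_two (k := k) hdist hdeg
    by_cases hd0 : d = 0
    · subst hd0
      obtain ⟨e3⟩ := quot_sq_sub (k := k) (0 : PowerSeries k) (Ideal.zero_mem _)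
      obtain ⟨e4⟩ := back_zero (k := k)
      exact Or.inr ⟨e1.trans (e2.trans (e3.trans e4))⟩
    · have hdc : PowerSeries.constantCoeff d = 0 := (mem_maximalIdeal_iff d).1 hd
      obtain ⟨N, v, hN, hv, hdv⟩ := exists_eq_X_pow_mul_sq h2 d hd0 hdc
      obtain ⟨n, rfl⟩ : ∃ n, N = n + 1 := ⟨N - 1, by omega⟩
      obtain ⟨e3⟩ := quot_scale (k := k) (PowerSeries.X ^ (n + 1) : PowerSeries k) v hv
      have hXmem : (PowerSeries.X ^ (n + 1) : PowerSeries k) ∈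
          IsLocalRing.maximalIdeal (PowerSeries k) := by
        rw [mem_maximalIdeal_iff]; simp
      obtain ⟨e4⟩ := quot_sq_sub (k := k) (PowerSeries.X ^ (n + 1) : PowerSeries k) hXmem
      obtain ⟨e5⟩ := back (k := k) (n + 1)
      rw [hdv] at e2
      exact Or.inl ⟨n, ⟨e1.trans (e2.trans (e3.trans (e4.trans e5)))⟩⟩
  · obtain ⟨f, hdist, hdeg, ⟨e1⟩⟩ := weierstrass G 1 h01 (by
      intro j hj
      interval_cases j
      exact h00)
    obtain ⟨e2⟩ := quot_deg_one (k := k) hdist.monic hdeg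
    obtain ⟨e3⟩ := smooth_equiv (k := k)
    exact Or.inl ⟨0, ⟨e1.trans (e2.trans e3.symm)⟩⟩

end Groth.Agent.Lib.Seat71.JetNF
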