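import Mathlib
import Groth.Agent.Lib.Seat71ArSingBasic

set_option autoImplicit false
universe u

namespace Groth.Agent.Lib.Seat71.JetTaylor

open MvPolynomial

variable {k : Type u} [Field k] {σ : Type*}

/-- The translate `f(X + a)`. -/
noncomputable def shift (a : σ → k) : MvPolynomial σ k →ₐ[k] MvPolynomial σ k :=
  aeval (fun i : σ => (X i + C (a i) : MvPolynomial σ k))

lemma shift_X (a : σ → k) (i : σ) : shift a (X i) = X i + C (a i) := by
  simp [shift]

lemma eval_shift (a b : σ → k) (f : MvPolynomial σ k) :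
    eval b (shift a f) = eval (fun i => b i + a i) f := by
  induction f using MvPolynomial.induction_on with
  | C c => simp [shift]
  | add p q hp hq => simp [hp, hq]
  | mul_X p i hp => simp [hp, shift_X]

lemma pderiv_shift (a : σ → k) (i : σ) (f : MvPolynomial σ k) :
    pderiv i (shift a f) = shift a (pderiv i f) := by
  classical
  induction f using MvPolynomial.induction_on with
  | C c => simp [shift]
  | add p q hp hq => simp [hp, hq]
  | mul_X p j hp =>
    rw [map_mul, shift_X, Derivation.leibniz, Derivation.leibniz, hp, map_add, map_add, pderiv_C,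
      add_zero, pderiv_X, smul_eq_mul, smul_eq_mul, smul_eq_mul, smul_eq_mul, map_mul,
      map_mul, shift_X]
    by_cases hij : j = i
    · subst hij; simp
    · simp [hij]

lemma coeff_zero_shift (a : σ → k) (f : MvPolynomial σ k) :
    coeff 0 (shift a f) = eval a f := by
  rw [← constantCoeff_eq, ← eval_zero, eval_shift]
  simp

lemma coeff_single_shift (a : σ → k) (i : σ) (f : MvPolynomial σ k) :
    coeff (Finsupp.single i 1) (shift a f) = eval a (pderiv i f) := by
  rw [← coeff_zero_shift, ← pderiv_shift, coeff_pderiv]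
  simp

lemma coeff_single_add_single_shift (a : σ → k) (i j : σ) (f : MvPolynomial σ k) :
    coeff (Finsupp.single j 1 + Finsupp.single i 1) (shift a f) *
      ((Finsupp.single j (1 : ℕ) i : ℕ) + 1 : k) = eval a (pderiv j (pderiv i f)) := by
  rw [← coeff_single_shift, ← pderiv_shift, coeff_pderiv]

open Groth.Agent.Lib.Seat71.ArSingBasic in
/-- The vanishing of the first and second partial derivatives of `f` at `a` in terms of the
coefficients of the translate `f(X + a)`. -/
theorem jet_iff (h2 : (2 : k) ≠ 0) (f : MvPolynomial (Fin 2) k) (a : Fin 2 → k) :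
    ((∀ i : Fin 2, eval a (pderiv i f) = 0) ∧
      ∀ i j : Fin 2, eval a (pderiv i (pderiv j f)) = 0) ↔
    (c (shift a f : MvPolynomial (Fin 2) k).toMvPowerSeries 1 0 = 0 ∧
      c (shift a f : MvPolynomial (Fin 2) k).toMvPowerSeries 0 1 = 0 ∧
      c (shift a f : MvPolynomial (Fin 2) k).toMvPowerSeries 2 0 = 0 ∧
      c (shift a f : MvPolynomial (Fin 2) k).toMvPowerSeries 1 1 = 0 ∧
      c (shift a f : MvPolynomial (Fin 2) k).toMvPowerSeries 0 2 = 0) := by
  have e10 : mon 1 0 = Finsupp.single (0 : Fin 2) 1 := by simp [mon]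
  have e01 : mon 0 1 = Finsupp.single (1 : Fin 2) 1 := by simp [mon]
  have e20 : mon 2 0 = Finsupp.single (0 : Fin 2) 1 + Finsupp.single (0 : Fin 2) 1 := by
    ext t; fin_cases t <;> simp [mon]
  have e11 : mon 1 1 = Finsupp.single (0 : Fin 2) 1 + Finsupp.single (1 : Fin 2) 1 := by
    simp [mon]
  have e11' : mon 1 1 = Finsupp.single (1 : Fin 2) 1 + Finsupp.single (0 : Fin 2) 1 := by
    rw [e11, add_comm]
  have e02 : mon 0 2 = Finsupp.single (1 : Fin 2) 1 + Finsupp.single (1 : Fin 2) 1 := by
    ext t; fin_cases t <;> simp [mon]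
  have hc : ∀ i j, c (shift a f : MvPolynomial (Fin 2) k).toMvPowerSeries i j =
      coeff (mon i j) (shift a f) := fun i j => MvPolynomial.coeff_coe _ _
  simp only [hc, e10, e01, e20, e11, e02]
  have key : ∀ i j : Fin 2, eval a (pderiv i (pderiv j f)) = 0 ↔
      coeff (Finsupp.single i 1 + Finsupp.single j 1) (shift a f) = 0 := by
    intro i j
    rw [← coeff_single_add_single_shift, mul_eq_zero]
    have : ((Finsupp.single i (1 : ℕ) j : ℕ) + 1 : k) ≠ 0 := by
      by_cases hij : i = j
      · subst hij
        simp only [Finsupp.single_eq_same, Nat.cast_one]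
        rwa [one_add_one_eq_two]
      · simp [Finsupp.single_eq_of_ne (Ne.symm hij)]
    simp [this]
  simp only [key]
  simp only [← coeff_single_shift]
  constructor
  · rintro ⟨h1, h2'⟩
    exact ⟨h1 0, h1 1, h2' 0 0, h2' 0 1, h2' 1 1⟩
  · rintro ⟨h10, h01, h20, h11, h02⟩
    refine ⟨fun i => ?_, fun i j => ?_⟩
    · fin_cases i
      · exact h10
      · exact h01
    · fin_cases i <;> fin_cases j
      · exact h20
      · exact h11
      · show coeff (Finsupp.single (1 : Fin 2) 1 + Finsupp.single (0 : Fin 2) 1) (shift a f) = 0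
        rw [add_comm]; exact h11
      · exact h02

end Groth.Agent.Lib.Seat71.JetTaylor
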