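import Mathlib

set_option autoImplicit false
universe u

namespace Groth.Agent.Lib.Seat71.MilnorAbs

/-- A tower with surjective transition maps has surjective `1 - shift`. -/
theorem exists_towerDiff_eq {G : ℕ → Type u} [∀ n, AddCommGroup (G n)]
    (t : ∀ n, G (n + 1) →+ G n) (ht : ∀ n, Function.Surjective (t n)) (u : ∀ n, G n) :
    ∃ v : ∀ n, G n, ∀ n, v n - t n (v (n + 1)) = u n := by
  classical
  choose s hs using ht
  let v : ∀ n, G n := fun n => Nat.rec (motive := fun n => G n) 0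
    (fun n vn => s n (vn - u n)) n
  refine ⟨v, fun n => ?_⟩
  have : v (n + 1) = s n (v n - u n) := rfl
  rw [this, hs]
  abel

section

variable {A B C D : ℕ → Type u}
  [∀ n, AddCommGroup (A n)] [∀ n, AddCommGroup (B n)] [∀ n, AddCommGroup (C n)]
  [∀ n, AddCommGroup (D n)]
  (dA : ∀ n, A n →+ B n) (dB : ∀ n, B n →+ C n) (dC : ∀ n, C n →+ D n)
  (hAB : ∀ n x, dB n (dA n x) = 0) (hBC : ∀ n x, dC n (dB n x) = 0)
  (tA : ∀ n, A (n + 1) →+ A n) (tB : ∀ n, B (n + 1) →+ B n) (tC : ∀ n, C (n + 1) →+ C n)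
  (tD : ∀ n, D (n + 1) →+ D n)
  (htA : ∀ n x, tB n (dA (n + 1) x) = dA n (tA n x))
  (htB : ∀ n x, tC n (dB (n + 1) x) = dB n (tB n x))
  (htC : ∀ n x, tD n (dC (n + 1) x) = dC n (tC n x))
  (sA : ∀ n, Function.Surjective (tA n)) (sB : ∀ n, Function.Surjective (tB n))
  {LB LC LD : Type u} [AddCommGroup LB] [AddCommGroup LC] [AddCommGroup LD]
  (πB : ∀ n, LB →+ B n) (πC : ∀ n, LC →+ C n) (πD : ∀ n, LD →+ D n)
  (dLB : LB →+ LC) (dLC : LC →+ LD)
  (hπC : ∀ n x, πC n (dLB x) = dB n (πB n x)) (hπD : ∀ n x, πD n (dLC x) = dC n (πC n x))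
  (hcB : ∀ n x, tB n (πB (n + 1) x) = πB n x) (hcC : ∀ n x, tC n (πC (n + 1) x) = πC n x)
  (extC : ∀ x : LC, (∀ n, πC n x = 0) → x = 0)
  (extD : ∀ x : LD, (∀ n, πD n x = 0) → x = 0)
  (exB : ∀ x : ∀ n, B n, (∀ n, tB n (x (n + 1)) = x n) → ∃ y : LB, ∀ n, πB n y = x n)
  (exC : ∀ x : ∀ n, C n, (∀ n, tC n (x (n + 1)) = x n) → ∃ y : LC, ∀ n, πC n y = x n)
  {HB HC : ℕ → Type u} [∀ n, AddCommGroup (HB n)] [∀ n, AddCommGroup (HC n)]
  {HL : Type u} [AddCommGroup HL]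
  (cB : ∀ n, (dB n).ker →+ HB n) (cC : ∀ n, (dC n).ker →+ HC n) (cL : dLC.ker →+ HL)
  (scB : ∀ n, Function.Surjective (cB n)) (scC : ∀ n, Function.Surjective (cC n))
  (scL : Function.Surjective cL)
  (kcB : ∀ n (z : (dB n).ker), cB n z = 0 ↔ ∃ w, dA n w = z.1)
  (kcC : ∀ n (z : (dC n).ker), cC n z = 0 ↔ ∃ w, dB n w = z.1)
  (kcL : ∀ z : dLC.ker, cL z = 0 ↔ ∃ w, dLB w = z.1)
  (tHB : ∀ n, HB (n + 1) →+ HB n) (tHC : ∀ n, HC (n + 1) →+ HC n) (πH : ∀ n, HL →+ HC n)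
  (htHB : ∀ n (z : (dB (n + 1)).ker) (z' : (dB n).ker), z'.1 = tB n z.1 →
    tHB n (cB (n + 1) z) = cB n z')
  (htHC : ∀ n (z : (dC (n + 1)).ker) (z' : (dC n).ker), z'.1 = tC n z.1 →
    tHC n (cC (n + 1) z) = cC n z')
  (hπH : ∀ n (z : dLC.ker) (z' : (dC n).ker), z'.1 = πC n z.1 → πH n (cL z) = cC n z')

include hBC htB htC sB hπD extD exC scC kcC htHC hπH in
/-- Surjectivity of `H^p(lim) → lim H^p`. -/
theorem surj (ξ : ∀ n, HC n) (hξ : ∀ n, tHC n (ξ (n + 1)) = ξ n) :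
    ∃ h : HL, ∀ n, πH n h = ξ n := by
  classical
  choose z hz using fun n => scC n (ξ n)
  have hker : ∀ n, dC n (tC n (z (n + 1)).1) = 0 := by
    intro n
    rw [← htC, AddMonoidHom.mem_ker.1 (z (n + 1)).2, map_zero]
  have hw : ∀ n, ∃ w : B n, dB n w = tC n (z (n + 1)).1 - (z n).1 := by
    intro n
    let y : (dC n).ker := ⟨tC n (z (n + 1)).1, AddMonoidHom.mem_ker.2 (hker n)⟩
    have h0 : cC n (y - z n) = 0 := by
      rw [map_sub, ← htHC n (z (n + 1)) y rfl, hz, hz, hξ, sub_self]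
    obtain ⟨w, hw⟩ := (kcC n _).1 h0
    exact ⟨w, by rw [hw]; rfl⟩
  choose w hw using hw
  obtain ⟨v, hv⟩ := exists_towerDiff_eq tB sB w
  let z' : ∀ n, C n := fun n => (z n).1 + dB n (v n)
  have hz' : ∀ n, tC n (z' (n + 1)) = z' n := by
    intro n
    show tC n ((z (n + 1)).1 + dB (n + 1) (v (n + 1))) = (z n).1 + dB n (v n)
    have h1 := hw n
    have h2 := congrArg (dB n) (hv n)
    rw [map_sub] at h2
    rw [map_add, htB]
    have h3 : tC n (z (n + 1)).1 = (z n).1 + dB n (w n) := by rw [h1]; abel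
    rw [h3, ← h2]
    abel
  obtain ⟨c, hc⟩ := exC z' hz'
  have hmem : ∀ n, z' n ∈ (dC n).ker := by
    intro n
    rw [AddMonoidHom.mem_ker]
    show dC n ((z n).1 + dB n (v n)) = 0
    rw [map_add, hBC, AddMonoidHom.mem_ker.1 (z n).2, add_zero]
  have hdc : dLC c = 0 := extD _ (fun n => by
    rw [hπD, hc]; exact AddMonoidHom.mem_ker.1 (hmem n))
  refine ⟨cL ⟨c, AddMonoidHom.mem_ker.2 hdc⟩, fun n => ?_⟩
  rw [hπH n ⟨c, AddMonoidHom.mem_ker.2 hdc⟩ ⟨z' n, hmem n⟩ (hc n).symm]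
  have hb : dB n (v n) ∈ (dC n).ker := AddMonoidHom.mem_ker.2 (hBC n _)
  have e : (⟨z' n, hmem n⟩ : (dC n).ker) = z n + ⟨dB n (v n), hb⟩ := Subtype.ext rfl
  rw [e, map_add, hz, (kcC n _).2 ⟨v n, rfl⟩, add_zero]

/-- The auxiliary group of pairs `(x, c)` with `x ∈ ∏ B n`, `c ∈ LC` and `π c = d x`. -/
def auxM : AddSubgroup ((∀ n, B n) × LC) where
  carrier := {m | ∀ n, πC n m.2 = dB n (m.1 n)}
  zero_mem' := by intro n; simp
  add_mem' := by
    intro a b ha hb n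
    simp only [Set.mem_ofPred_eq] at ha hb
    simp [ha n, hb n]
  neg_mem' := by
    intro a ha n
    simp only [Set.mem_ofPred_eq] at ha
    simp [ha n]


theorem mem_auxM (m : (∀ n, B n) × LC) :
    m ∈ auxM dB πC ↔ ∀ n, πC n m.2 = dB n (m.1 n) := Iff.rfl

include hBC hπD extD in
theorem auxM_snd_mem_ker (m : auxM dB πC) : m.1.2 ∈ dLC.ker := by
  rw [AddMonoidHom.mem_ker]
  refine extD _ (fun n => ?_)
  rw [hπD, m.2 n, hBC]

/-- The map `auxM → HL`, `(x, c) ↦ [c]`. -/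
def alpha (h1 : ∀ m : auxM dB πC, m.1.2 ∈ dLC.ker) : auxM dB πC →+ HL :=
  cL.comp (((AddMonoidHom.snd _ _).comp (auxM dB πC).subtype).codRestrict dLC.ker h1)

include htB hcC in
theorem auxM_diff_mem_ker (m : auxM dB πC) (n : ℕ) :
    m.1.1 n - tB n (m.1.1 (n + 1)) ∈ (dB n).ker := by
  rw [AddMonoidHom.mem_ker, map_sub, ← htB, ← m.2 n, ← m.2 (n + 1), hcC, sub_self]

/-- The map `auxM → (dB n).ker`, `(x, c) ↦ x n - t (x (n+1))`. -/
def gamma (h2 : ∀ (m : auxM dB πC) (n : ℕ), m.1.1 n - tB n (m.1.1 (n + 1)) ∈ (dB n).ker)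
    (n : ℕ) : auxM dB πC →+ (dB n).ker :=
  ((Pi.evalAddMonoidHom _ n - (tB n).comp (Pi.evalAddMonoidHom _ (n + 1))).comp
    ((AddMonoidHom.fst _ _).comp (auxM dB πC).subtype)).codRestrict (dB n).ker (fun m => h2 m n)

/-- The map `auxM → ∏ HB n`. -/
def beta0 (h2 : ∀ (m : auxM dB πC) (n : ℕ), m.1.1 n - tB n (m.1.1 (n + 1)) ∈ (dB n).ker) :
    auxM dB πC →+ ∀ n, HB n :=
  AddMonoidHom.pi (fun n => (cB n).comp (gamma dB tB πC h2 n))


include hAB hBC htA htB sA sB hπC hπD hcB hcC extC extD exB exC scB scL kcB kcC kcL htHB hπH in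
/-- The kernel of `H^p(lim) → ∏ H^p` is `lim¹ H^q`. -/
theorem iso (R : AddSubgroup (∀ n, HB n))
    (hR : ∀ y, y ∈ R ↔ ∃ η : ∀ n, HB n, ∀ n, y n = η n - tHB n (η (n + 1)))
    (Kr : AddSubgroup HL) (hKr : ∀ h, h ∈ Kr ↔ ∀ n, πH n h = 0) :
    Nonempty (Kr ≃+ ((∀ n, HB n) ⧸ R)) := by
  classical
  have h1 : ∀ m : auxM dB πC, m.1.2 ∈ dLC.ker := auxM_snd_mem_ker dB dC hBC πC πD dLC hπD extD
  have h2 : ∀ (m : auxM dB πC) (n : ℕ), m.1.1 n - tB n (m.1.1 (n + 1)) ∈ (dB n).ker :=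
    auxM_diff_mem_ker dB tB tC htB πC hcC
  have htker : ∀ n (w : (dB (n + 1)).ker), tB n w.1 ∈ (dB n).ker := by
    intro n w
    rw [AddMonoidHom.mem_ker, ← htB, AddMonoidHom.mem_ker.1 w.2, map_zero]
  let α : auxM dB πC →+ HL := alpha dB πC dLC cL h1
  let β0 : auxM dB πC →+ ∀ n, HB n := beta0 dB tB πC cB h2
  let β : auxM dB πC →+ ((∀ n, HB n) ⧸ R) := (QuotientAddGroup.mk' R).comp β0
  have hα_apply : ∀ m, α m = cL ⟨m.1.2, h1 m⟩ := fun m => rfl
  have hβ0_apply : ∀ m n, β0 m n = cB n ⟨m.1.1 n - tB n (m.1.1 (n + 1)), h2 m n⟩ :=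
    fun m n => rfl
  have hrange : α.range = Kr := by
    ext h
    constructor
    · rintro ⟨m, rfl⟩
      rw [hKr]
      intro n
      rw [hα_apply]
      have hm : dB n (m.1.1 n) ∈ (dC n).ker := AddMonoidHom.mem_ker.2 (hBC n _)
      rw [hπH n ⟨m.1.2, h1 m⟩ ⟨dB n (m.1.1 n), hm⟩ (m.2 n).symm]
      exact (kcC n _).2 ⟨m.1.1 n, rfl⟩
    · intro hh
      obtain ⟨⟨c, hc⟩, rfl⟩ := scL h
      rw [hKr] at hh
      have hmem : ∀ n, πC n c ∈ (dC n).ker := by
        intro n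
        rw [AddMonoidHom.mem_ker, ← hπD, AddMonoidHom.mem_ker.1 hc, map_zero]
      have hx : ∀ n, ∃ x : B n, dB n x = πC n c := by
        intro n
        have := hh n
        rw [hπH n ⟨c, hc⟩ ⟨πC n c, hmem n⟩ rfl] at this
        exact (kcC n _).1 this
      choose x hx using hx
      exact ⟨⟨(x, c), fun n => (hx n).symm⟩, rfl⟩
  have hβsurj : Function.Surjective β := by
    intro y
    obtain ⟨η, rfl⟩ := QuotientAddGroup.mk_surjective y
    choose yy hyy using fun n => scB n (η n)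
    obtain ⟨x, hx⟩ := exists_towerDiff_eq tB sB (fun n => (yy n).1)
    have hcomp : ∀ n, tC n (dB (n + 1) (x (n + 1))) = dB n (x n) := by
      intro n
      rw [htB]
      have := congrArg (dB n) (hx n)
      rw [map_sub, AddMonoidHom.mem_ker.1 (yy n).2] at this
      exact (sub_eq_zero.1 this).symm
    obtain ⟨c, hc⟩ := exC (fun n => dB n (x n)) hcomp
    refine ⟨⟨(x, c), hc⟩, ?_⟩
    show QuotientAddGroup.mk' R (β0 _) = QuotientAddGroup.mk' R η
    congr 1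
    funext n
    rw [hβ0_apply, ← hyy n]
    congr 1
    exact Subtype.ext (hx n)
  have hker : α.ker = β.ker := by
    ext m
    rw [AddMonoidHom.mem_ker, AddMonoidHom.mem_ker]
    have hβ : β m = 0 ↔ β0 m ∈ R := QuotientAddGroup.eq_zero_iff _
    rw [hβ, hR, hα_apply]
    constructor
    · intro h0
      obtain ⟨b, hb⟩ := (kcL _).1 h0
      have hb : dLB b = m.1.2 := hb
      have hwm : ∀ n, m.1.1 n - πB n b ∈ (dB n).ker := by
        intro n
        rw [AddMonoidHom.mem_ker, map_sub, ← hπC, hb, m.2 n, sub_self]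
      refine ⟨fun n => cB n ⟨m.1.1 n - πB n b, hwm n⟩, fun n => ?_⟩
      rw [hβ0_apply, htHB n ⟨m.1.1 (n + 1) - πB (n + 1) b, hwm (n + 1)⟩
        ⟨tB n (m.1.1 (n + 1) - πB (n + 1) b), htker n ⟨_, hwm (n + 1)⟩⟩ rfl, ← map_sub]
      congr 1
      apply Subtype.ext
      show m.1.1 n - tB n (m.1.1 (n + 1)) =
        (m.1.1 n - πB n b) - tB n (m.1.1 (n + 1) - πB (n + 1) b)
      rw [map_sub, hcB]
      abel
    · rintro ⟨η, hη⟩
      choose w hw using fun n => scB n (η n)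
      have hu : ∀ n, ∃ u : A n, dA n u =
          (m.1.1 n - tB n (m.1.1 (n + 1))) - ((w n).1 - tB n (w (n + 1)).1) := by
        intro n
        have h3 := hη n
        rw [hβ0_apply, ← hw n, ← hw (n + 1),
          htHB n (w (n + 1)) ⟨tB n (w (n + 1)).1, htker n _⟩ rfl, ← map_sub,
          ← sub_eq_zero, ← map_sub] at h3
        obtain ⟨u, hu⟩ := (kcB n _).1 h3
        exact ⟨u, hu⟩
      choose u hu using hu
      obtain ⟨v, hv⟩ := exists_towerDiff_eq tA sA u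
      have hcomp : ∀ n, tB n (m.1.1 (n + 1) - (w (n + 1)).1 - dA (n + 1) (v (n + 1))) =
          m.1.1 n - (w n).1 - dA n (v n) := by
        intro n
        rw [map_sub, map_sub, htA]
        have h4 := congrArg (dA n) (hv n)
        rw [map_sub, hu n] at h4
        have : dA n (tA n (v (n + 1))) = dA n (v n) -
            ((m.1.1 n - tB n (m.1.1 (n + 1))) - ((w n).1 - tB n (w (n + 1)).1)) := by
          rw [← h4]; abel
        rw [this]
        abel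
      obtain ⟨b, hb⟩ := exB (fun n => m.1.1 n - (w n).1 - dA n (v n)) hcomp
      have hdb : dLB b = m.1.2 := by
        apply sub_eq_zero.1
        apply extC
        intro n
        rw [map_sub, hπC, hb, m.2 n, map_sub, map_sub, hAB, AddMonoidHom.mem_ker.1 (w n).2]
        abel
      exact (kcL _).2 ⟨b, hdb⟩
  exact ⟨(AddEquiv.addSubgroupCongr hrange).symm.trans
    ((QuotientAddGroup.quotientKerEquivRange α).symm.trans
      ((QuotientAddGroup.quotientAddEquivOfEq hker).trans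
        (QuotientAddGroup.quotientKerEquivOfSurjective β hβsurj)))⟩

end

end Groth.Agent.Lib.Seat71.MilnorAbs
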