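import Mathlib
import Groth.Agent.Lib.Seat71MilnorAbs

set_option autoImplicit false
universe u

namespace Groth.Agent.Lib.Seat71.MilnorCat

open CategoryTheory CategoryTheory.Limits Opposite HomologicalComplex

variable (X : HomologicalComplex AddCommGrpCat.{u} (ComplexShape.up ℤ))

/-- The exact short complex `cycles j → X j → X k`. -/
theorem iCycles_exact (j k : ℤ) (hjk : j + 1 = k) :
    (ShortComplex.mk (X.iCycles j) (X.d j k) (X.iCycles_d j k)).Exact :=
  ShortComplex.exact_of_f_is_kernel _
    (X.cyclesIsKernel j k (by simp [← hjk]))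

theorem toCycles_exact (i j : ℤ) (hij : i + 1 = j) :
    (ShortComplex.mk (X.toCycles i j) (X.homologyπ j) (X.toCycles_comp_homologyπ i j)).Exact :=
  ShortComplex.exact_of_g_is_cokernel _
    (X.homologyIsCokernel i j (by simp [← hij]))

theorem iCycles_injective (j : ℤ) : Function.Injective (X.iCycles j).hom :=
  (AddCommGrpCat.mono_iff_injective _).1 inferInstance

theorem homologyπ_surjective (j : ℤ) : Function.Surjective (X.homologyπ j).hom :=
  (AddCommGrpCat.epi_iff_surjective _).1 inferInstance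

theorem d_iCycles_apply (j k : ℤ) (c : X.cycles j) : (X.d j k).hom ((X.iCycles j).hom c) = 0 := by
  have h2 : (X.iCycles j ≫ X.d j k).hom c = (0 : X.cycles j ⟶ X.X k).hom c := by
    rw [X.iCycles_d]
  exact h2

/-- Cycles as the kernel of the differential. -/
noncomputable def cyclesEquiv (j k : ℤ) (hjk : j + 1 = k) :
    X.cycles j ≃+ (X.d j k).hom.ker :=
  AddEquiv.ofBijective
    ((X.iCycles j).hom.codRestrict _ (fun c => AddMonoidHom.mem_ker.2 (d_iCycles_apply X j k c)))
    ⟨fun a b h => iCycles_injective X j (congrArg Subtype.val h), fun ⟨z, hz⟩ => by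
      obtain ⟨c, hc⟩ := (ShortComplex.ab_exact_iff _).1 (iCycles_exact X j k hjk) z
        (AddMonoidHom.mem_ker.1 hz)
      exact ⟨c, Subtype.ext hc⟩⟩

theorem iCycles_cyclesEquiv_symm (j k : ℤ) (hjk : j + 1 = k) (z : (X.d j k).hom.ker) :
    (X.iCycles j).hom ((cyclesEquiv X j k hjk).symm z) = z.1 := by
  have := (cyclesEquiv X j k hjk).apply_symm_apply z
  exact congrArg Subtype.val this

/-- The class of a cycle. -/
noncomputable def cyc (j k : ℤ) (hjk : j + 1 = k) : (X.d j k).hom.ker →+ X.homology j :=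
  (X.homologyπ j).hom.comp (cyclesEquiv X j k hjk).symm.toAddMonoidHom

theorem cyc_surjective (j k : ℤ) (hjk : j + 1 = k) : Function.Surjective (cyc X j k hjk) := by
  intro h
  obtain ⟨c, rfl⟩ := homologyπ_surjective X j h
  exact ⟨cyclesEquiv X j k hjk c, by simp [cyc]⟩

theorem cyc_eq_zero_iff (i j k : ℤ) (hij : i + 1 = j) (hjk : j + 1 = k) (z : (X.d j k).hom.ker) :
    cyc X j k hjk z = 0 ↔ ∃ w, (X.d i j).hom w = z.1 := by
  constructor
  · intro h
    obtain ⟨w, hw⟩ := (ShortComplex.ab_exact_iff _).1 (toCycles_exact X i j hij)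
      ((cyclesEquiv X j k hjk).symm z) h
    refine ⟨w, ?_⟩
    have h1 : (X.toCycles i j ≫ X.iCycles j).hom w = (X.d i j).hom w := by
      rw [X.toCycles_i]
    rw [← h1]
    show (X.iCycles j).hom ((X.toCycles i j).hom w) = z.1
    have hw' : (X.toCycles i j).hom w = (cyclesEquiv X j k hjk).symm z := hw
    rw [hw', iCycles_cyclesEquiv_symm]
  · rintro ⟨w, hw⟩
    have h1 : (cyclesEquiv X j k hjk).symm z = (X.toCycles i j).hom w := by
      apply iCycles_injective X j
      rw [iCycles_cyclesEquiv_symm, ← hw]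
      have : (X.toCycles i j ≫ X.iCycles j).hom w = (X.d i j).hom w := by rw [X.toCycles_i]
      exact this.symm
    show (X.homologyπ j).hom ((cyclesEquiv X j k hjk).symm z) = 0
    rw [h1]
    have h3 : (X.toCycles i j ≫ X.homologyπ j).hom w = (0 : X.X i ⟶ X.homology j).hom w := by
      rw [X.toCycles_comp_homologyπ]
    exact h3

variable {X} in
theorem cyc_naturality {Y : HomologicalComplex AddCommGrpCat.{u} (ComplexShape.up ℤ)}
    (φ : X ⟶ Y) (j k : ℤ) (hjk : j + 1 = k) (z : (X.d j k).hom.ker) (z' : (Y.d j k).hom.ker)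
    (hz : z'.1 = (φ.f j).hom z.1) :
    (homologyMap φ j).hom (cyc X j k hjk z) = cyc Y j k hjk z' := by
  show (homologyMap φ j).hom ((X.homologyπ j).hom ((cyclesEquiv X j k hjk).symm z)) =
    (Y.homologyπ j).hom ((cyclesEquiv Y j k hjk).symm z')
  have h1 : (X.homologyπ j ≫ homologyMap φ j).hom ((cyclesEquiv X j k hjk).symm z) =
      (cyclesMap φ j ≫ Y.homologyπ j).hom ((cyclesEquiv X j k hjk).symm z) := by
    rw [homologyπ_naturality]
  have h2 : (cyclesMap φ j).hom ((cyclesEquiv X j k hjk).symm z) =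
      (cyclesEquiv Y j k hjk).symm z' := by
    apply iCycles_injective Y j
    rw [iCycles_cyclesEquiv_symm, hz, ← iCycles_cyclesEquiv_symm X j k hjk z]
    have : (cyclesMap φ j ≫ Y.iCycles j).hom ((cyclesEquiv X j k hjk).symm z) =
        (X.iCycles j ≫ φ.f j).hom ((cyclesEquiv X j k hjk).symm z) := by
      rw [cyclesMap_i]
    exact this
  rw [← h2]
  exact h1


section Tower

variable (G : ℕᵒᵖ ⥤ AddCommGrpCat.{u}) {c : Cone G} (hc : IsLimit c)

include hc in
theorem tower_ext (x : c.pt) (h : ∀ n : ℕ, (c.π.app (op n)).hom x = 0) : x = 0 := by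
  refine Concrete.isLimit_ext G hc x 0 (fun j => ?_)
  have h1 : (c.π.app j) x = 0 := h j.unop
  rw [h1]
  exact (map_zero (c.π.app j).hom).symm

theorem tower_map_eq (x : ∀ n : ℕ, G.obj (op n))
    (hx : ∀ n, (G.map (homOfLE (Nat.le_succ n)).op).hom (x (n + 1)) = x n)
    (a b : ℕ) (h : a ≤ b) : (G.map (homOfLE h).op).hom (x b) = x a := by
  induction b, h using Nat.le_induction with
  | base =>
    have : (homOfLE (le_refl a)).op = 𝟙 (op a) := rfl
    rw [this, G.map_id]
    rfl
  | succ b hab ih =>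
    have : (homOfLE (hab.trans (Nat.le_succ b))).op =
        (homOfLE (Nat.le_succ b)).op ≫ (homOfLE hab).op := rfl
    rw [this, G.map_comp]
    show (G.map (homOfLE hab).op).hom ((G.map (homOfLE (Nat.le_succ b)).op).hom (x (b + 1))) = x a
    rw [hx, ih]

include hc in
theorem tower_exists (x : ∀ n : ℕ, G.obj (op n))
    (hx : ∀ n, (G.map (homOfLE (Nat.le_succ n)).op).hom (x (n + 1)) = x n) :
    ∃ y : c.pt, ∀ n, (c.π.app (op n)).hom y = x n := by
  let s : (G ⋙ forget AddCommGrpCat).sections :=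
    ⟨fun j => x j.unop, by
      intro j j' f
      have hle : j'.unop ≤ j.unop := leOfHom f.unop
      have hf : f = (homOfLE hle).op := Subsingleton.elim _ _
      rw [hf]
      exact tower_map_eq G x hx _ _ hle⟩
  let e := Types.isLimitEquivSections (isLimitOfPreserves (forget AddCommGrpCat) hc)
  refine ⟨e.symm s, fun n => ?_⟩
  exact Types.isLimitEquivSections_symm_apply (isLimitOfPreserves (forget AddCommGrpCat) hc) s (op n)

end Tower

end Groth.Agent.Lib.Seat71.MilnorCat
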