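import Mathlib

set_option autoImplicit false

namespace Groth.Agent.Lib.Seat71.MonNat

open CategoryTheory MonoidalCategory Functor.LaxMonoidal

universe v₁ u₁ v₂ u₂

variable {C : Type u₁} [Category.{v₁} C] [MonoidalCategory C]
variable {D : Type u₂} [Category.{v₂} D] [MonoidalCategory D] [IsGroupoid D]
variable (F G : C ⥤ D) [F.LaxMonoidal] [G.LaxMonoidal]

theorem nat_tensor {W X Y Z : C} (f : W ⟶ Y) (g : X ⟶ Z)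
    {θW : F.obj W ⟶ G.obj W} {θX : F.obj X ⟶ G.obj X}
    {θY : F.obj Y ⟶ G.obj Y} {θZ : F.obj Z ⟶ G.obj Z}
    {θWX : F.obj (W ⊗ X) ⟶ G.obj (W ⊗ X)} {θYZ : F.obj (Y ⊗ Z) ⟶ G.obj (Y ⊗ Z)}
    (hWX : μ F W X ≫ θWX = (θW ⊗ₘ θX) ≫ μ G W X)
    (hYZ : μ F Y Z ≫ θYZ = (θY ⊗ₘ θZ) ≫ μ G Y Z)
    (hf : F.map f ≫ θY = θW ≫ G.map f) (hg : F.map g ≫ θZ = θX ≫ G.map g) :
    F.map (f ⊗ₘ g) ≫ θYZ = θWX ≫ G.map (f ⊗ₘ g) := by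
  rw [← cancel_epi (μ F W X)]
  rw [← μ_natural_assoc, hYZ, tensorHom_comp_tensorHom_assoc, hf, hg, reassoc_of% hWX,
    ← μ_natural, tensorHom_comp_tensorHom_assoc]

theorem nat_associator (X Y Z : C)
    {θX : F.obj X ⟶ G.obj X} {θY : F.obj Y ⟶ G.obj Y} {θZ : F.obj Z ⟶ G.obj Z}
    {θXY : F.obj (X ⊗ Y) ⟶ G.obj (X ⊗ Y)} {θYZ : F.obj (Y ⊗ Z) ⟶ G.obj (Y ⊗ Z)}
    {θXY_Z : F.obj ((X ⊗ Y) ⊗ Z) ⟶ G.obj ((X ⊗ Y) ⊗ Z)}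
    {θX_YZ : F.obj (X ⊗ (Y ⊗ Z)) ⟶ G.obj (X ⊗ (Y ⊗ Z))}
    (hXY : μ F X Y ≫ θXY = (θX ⊗ₘ θY) ≫ μ G X Y)
    (hYZ : μ F Y Z ≫ θYZ = (θY ⊗ₘ θZ) ≫ μ G Y Z)
    (hXY_Z : μ F (X ⊗ Y) Z ≫ θXY_Z = (θXY ⊗ₘ θZ) ≫ μ G (X ⊗ Y) Z)
    (hX_YZ : μ F X (Y ⊗ Z) ≫ θX_YZ = (θX ⊗ₘ θYZ) ≫ μ G X (Y ⊗ Z)) :
    F.map (α_ X Y Z).hom ≫ θX_YZ = θXY_Z ≫ G.map (α_ X Y Z).hom := by
  rw [← cancel_epi (μ F (X ⊗ Y) Z), ← cancel_epi (μ F X Y ▷ F.obj Z)]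
  have e1 : μ F X Y ▷ F.obj Z ≫ (θXY ⊗ₘ θZ) = ((θX ⊗ₘ θY) ⊗ₘ θZ) ≫ μ G X Y ▷ G.obj Z := by
    rw [← tensorHom_id, tensorHom_comp_tensorHom, hXY, Category.id_comp, ← tensorHom_id,
      tensorHom_comp_tensorHom, Category.comp_id]
  have e2 : F.obj X ◁ μ F Y Z ≫ (θX ⊗ₘ θYZ) = (θX ⊗ₘ (θY ⊗ₘ θZ)) ≫ G.obj X ◁ μ G Y Z := by
    rw [← id_tensorHom, tensorHom_comp_tensorHom, hYZ, Category.id_comp, ← id_tensorHom,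
      tensorHom_comp_tensorHom, Category.comp_id]
  rw [associativity_assoc, hX_YZ, reassoc_of% e2, reassoc_of% hXY_Z, reassoc_of% e1,
    associativity, associator_naturality_assoc]

theorem nat_leftUnitor (X : C)
    {θ1 : F.obj (𝟙_ C) ⟶ G.obj (𝟙_ C)} {θX : F.obj X ⟶ G.obj X}
    {θ1X : F.obj (𝟙_ C ⊗ X) ⟶ G.obj (𝟙_ C ⊗ X)}
    (h1 : ε F ≫ θ1 = ε G)
    (h1X : μ F (𝟙_ C) X ≫ θ1X = (θ1 ⊗ₘ θX) ≫ μ G (𝟙_ C) X) :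
    F.map (λ_ X).hom ≫ θX = θ1X ≫ G.map (λ_ X).hom := by
  rw [← cancel_epi (μ F (𝟙_ C) X), ← cancel_epi (ε F ▷ F.obj X)]
  have e1 : ε F ▷ F.obj X ≫ (θ1 ⊗ₘ θX) = (𝟙_ D ◁ θX) ≫ ε G ▷ G.obj X := by
    rw [← tensorHom_id, tensorHom_comp_tensorHom, h1, Category.id_comp, ← id_tensorHom,
      ← tensorHom_id, tensorHom_comp_tensorHom, Category.id_comp, Category.comp_id]
  rw [← left_unitality_assoc, reassoc_of% h1X, reassoc_of% e1, ← left_unitality,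
    leftUnitor_naturality]

theorem nat_rightUnitor (X : C)
    {θ1 : F.obj (𝟙_ C) ⟶ G.obj (𝟙_ C)} {θX : F.obj X ⟶ G.obj X}
    {θX1 : F.obj (X ⊗ 𝟙_ C) ⟶ G.obj (X ⊗ 𝟙_ C)}
    (h1 : ε F ≫ θ1 = ε G)
    (hX1 : μ F X (𝟙_ C) ≫ θX1 = (θX ⊗ₘ θ1) ≫ μ G X (𝟙_ C)) :
    F.map (ρ_ X).hom ≫ θX = θX1 ≫ G.map (ρ_ X).hom := by
  rw [← cancel_epi (μ F X (𝟙_ C)), ← cancel_epi (F.obj X ◁ ε F)]
  have e1 : F.obj X ◁ ε F ≫ (θX ⊗ₘ θ1) = (θX ▷ 𝟙_ D) ≫ G.obj X ◁ ε G := by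
    rw [← id_tensorHom, tensorHom_comp_tensorHom, h1, Category.id_comp, ← id_tensorHom,
      ← tensorHom_id, tensorHom_comp_tensorHom, Category.id_comp, Category.comp_id]
  rw [← right_unitality_assoc, reassoc_of% hX1, reassoc_of% e1, ← right_unitality,
    rightUnitor_naturality]


section Braided

variable {C : Type u₁} [Category.{v₁} C] [MonoidalCategory C] [BraidedCategory C]
variable {D : Type u₂} [Category.{v₂} D] [MonoidalCategory D] [BraidedCategory D] [IsGroupoid D]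
variable (F G : C ⥤ D) [F.LaxBraided] [G.LaxBraided]

theorem nat_braiding (X Y : C)
    {θX : F.obj X ⟶ G.obj X} {θY : F.obj Y ⟶ G.obj Y}
    {θXY : F.obj (X ⊗ Y) ⟶ G.obj (X ⊗ Y)} {θYX : F.obj (Y ⊗ X) ⟶ G.obj (Y ⊗ X)}
    (hXY : μ F X Y ≫ θXY = (θX ⊗ₘ θY) ≫ μ G X Y)
    (hYX : μ F Y X ≫ θYX = (θY ⊗ₘ θX) ≫ μ G Y X) :
    F.map (β_ X Y).hom ≫ θYX = θXY ≫ G.map (β_ X Y).hom := by
  rw [← cancel_epi (μ F X Y)]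
  rw [Functor.LaxBraided.braided_assoc, hYX, reassoc_of% hXY, Functor.LaxBraided.braided,
    BraidedCategory.braiding_naturality_assoc]

end Braided

section Inverse

variable {D : Type u₂} [Category.{v₂} D] [IsGroupoid D]

/-- Naturality squares can be inverted. -/
theorem nat_inv {a b a' b' : D} (f : a ⟶ b) (g : a' ⟶ b') (s : a ⟶ a') (t : b ⟶ b')
    (h : f ≫ t = s ≫ g) : inv f ≫ s = t ≫ inv g := by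
  rw [IsIso.inv_comp_eq, ← Category.assoc, IsIso.eq_comp_inv, h]

end Inverse

end Groth.Agent.Lib.Seat71.MonNat
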