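import Groth.Agent.Lib.Seat71Translate
import Groth.Agent.Lib.Helper24Morse

/-!
# The formal Morse lemma with linear terms over a complete local ring (seat 71)

* `exists_quad_decomp`: `f = f(0) + Q_c(x) + O(3)` when `f` has no linear terms.
* `coeff_single_pderiv_of_order`: the Hessian of `g + Q_c + O(3)` (`g` affine-linear) is `c + cᵀ`.
* `symTab`, `Qv_tri_symTab`, `polarMatrix_symTab`: passing from a full coefficient table to the upper
  triangular one used by `VanCyc.quadPoly`.
* `exists_critical`: over an `I`-adically complete ring, a series with gradient `ℓ + B x + O(2)`,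
  `ℓ ∈ I^n`, `B` invertible, has a critical point in `I^n` (formal inverse function theorem + complete
  substitution).
* `main`: S16231 (translate to the critical point, then the Morse lemma `Helper24Morse.main_S16230`).
-/

set_option autoImplicit false
universe u

namespace Groth.Agent.Lib.Seat71.MorseLin

open MvPowerSeries Groth.Agent.Lib.Helper24Morse Groth.Agent.Lib.Helper24FormalIFT
open Groth.Agent.Lib.Seat71.Translate Groth.Agent.Lib.Seat71.CSubst

section Generic

variable {R : Type u} [CommRing R] {n : ℕ}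

lemma coeff_single_C (l : Fin n) (r : R) :
    coeff (Finsupp.single l 1) (C r : MvPowerSeries (Fin n) R) = 0 := by
  classical
  rw [coeff_C, if_neg]
  intro h
  have := congrArg (fun e => e l) h
  simp at this

/-- Order drops by at most one under a partial derivative. -/
lemma le_order_pderiv (i : Fin n) (r : MvPowerSeries (Fin n) R) (N : ℕ)
    (h : ((N + 1 : ℕ) : ℕ∞) ≤ r.order) : (N : ℕ∞) ≤ (pderiv R i r).order := by
  apply nat_le_order
  intro d hd
  rw [coeff_pderiv]
  have : coeff (d + Finsupp.single i 1) r = 0 := by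
    apply coeff_of_lt_order
    refine lt_of_lt_of_le ?_ h
    rw [map_add, Finsupp.degree_single]
    exact_mod_cast Nat.add_lt_add_right hd 1
  rw [this, zero_mul]

/-- The degree-2 decomposition of a power series without linear terms. -/
theorem exists_quad_decomp (f : MvPowerSeries (Fin n) R)
    (hlin : ∀ i, coeff (Finsupp.single i 1) f = 0) :
    ∃ c : Fin n → Fin n → R,
      ((2 + 1 : ℕ) : ℕ∞) ≤ (f - C (constantCoeff f) - Qv c (fun i => X i)).order := by
  classical
  set f₀ := f - C (constantCoeff f) with hf₀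
  have hf0 : constantCoeff f₀ = 0 := by simp [hf₀]
  have hlin0 : ∀ i, coeff (Finsupp.single i 1) f₀ = 0 := by
    intro i
    rw [hf₀, map_sub, hlin, coeff_C, if_neg, sub_zero]
    intro h
    have := congrArg (fun e => e i) h
    simp at this
  have h1 : ∀ i, constantCoeff (quo i f₀) = 0 := fun i => by rw [constantCoeff_quo]; exact hlin0 i
  refine ⟨fun i j => constantCoeff (quo j (quo i f₀)), ?_⟩
  set c : Fin n → Fin n → R := fun i j => constantCoeff (quo j (quo i f₀)) with hc
  have hre : f₀ - Qv c (fun i => X i) =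
      ∑ i, ∑ j, X i * (X j * (quo j (quo i f₀) - C (c i j))) := by
    conv_lhs => rw [← sum_X_mul_quo f₀ hf0]
    unfold Qv
    rw [← Finset.sum_sub_distrib]
    refine Finset.sum_congr rfl fun i _ => ?_
    conv_lhs => rw [← sum_X_mul_quo (quo i f₀) (h1 i)]
    rw [Finset.mul_sum, ← Finset.sum_sub_distrib]
    refine Finset.sum_congr rfl fun j _ => ?_
    ring
  rw [hre]
  refine le_order_sum _ _ _ fun i _ => le_order_sum _ _ _ fun j _ => ?_
  have h3 : (1 : ℕ∞) ≤ (quo j (quo i f₀) - C (c i j)).order := by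
    rw [one_le_order_iff_constCoeff_eq_zero]
    simp [hc]
  have := le_order_mul' (one_le_order_X (R := R) i) (le_order_mul' (one_le_order_X (R := R) j) h3)
  refine le_trans (le_of_eq ?_) this
  norm_num

/-- The Hessian of `f = g + Q + O(3)` where `g` is affine-linear. -/
theorem coeff_single_pderiv_of_order (f g : MvPowerSeries (Fin n) R) (c : Fin n → Fin n → R)
    (hord : ((2 + 1 : ℕ) : ℕ∞) ≤ (f - g - Qv c (fun i => X i)).order)
    (hg : ∀ i l : Fin n, coeff (Finsupp.single l 1) (pderiv R i g) = 0) (i l : Fin n) :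
    coeff (Finsupp.single l 1) (pderiv R i f) = c i l + c l i := by
  classical
  set r := f - g - Qv c (fun i => X i) with hr
  have hfr : f = g + Qv c (fun i => X i) + r := by rw [hr]; ring
  rw [hfr]
  simp only [map_add]
  rw [pderiv_Qv_X, map_sum, hg, zero_add]
  have h2 : coeff (Finsupp.single l 1) (pderiv R i r) = 0 := by
    apply coeff_of_lt_order
    refine lt_of_lt_of_le ?_ (le_order_pderiv i r 2 hord)
    rw [Finsupp.degree_single]
    norm_num
  rw [h2, add_zero]
  simp only [coeff_C_mul, coeff_X, Finsupp.single_left_inj (one_ne_zero : (1 : ℕ) ≠ 0)]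
  simp

/-- The symmetrised upper triangular table of a full coefficient table. -/
def symTab (c : Fin n → Fin n → R) : Fin n → Fin n → R :=
  fun i j => if i = j then c i i else if i < j then c i j + c j i else 0

lemma sum_sum_eq_tri {M : Type*} [AddCommMonoid M] (f : Fin n → Fin n → M) :
    ∑ i, ∑ j, f i j =
      ∑ i, ∑ j, (if i = j then f i i else if i < j then f i j + f j i else 0) := by
  have h1 : ∀ i j : Fin n, f i j = (if i = j then f i i else 0) + (if i < j then f i j else 0) +
      (if j < i then f i j else 0) := by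
    intro i j
    rcases lt_trichotomy i j with h | h | h
    · simp [h, h.ne, not_lt.2 h.le]
    · subst h; simp
    · simp [h, h.ne', not_lt.2 h.le]
  have h2 : ∑ i, ∑ j, (if j < i then f i j else 0) = ∑ i, ∑ j, (if i < j then f j i else 0) := by
    rw [Finset.sum_comm]
  calc ∑ i, ∑ j, f i j
      = ∑ i, ∑ j, ((if i = j then f i i else 0) + (if i < j then f i j else 0) +
          (if j < i then f i j else 0)) :=
        Finset.sum_congr rfl fun i _ => Finset.sum_congr rfl fun j _ => h1 i j
    _ = ∑ i, ∑ j, ((if i = j then f i i else 0) + (if i < j then f i j else 0) +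
          (if i < j then f j i else 0)) := by
        simp only [Finset.sum_add_distrib, h2]
    _ = _ := by
        refine Finset.sum_congr rfl fun i _ => Finset.sum_congr rfl fun j _ => ?_
        rcases lt_trichotomy i j with h | h | h
        · simp [h, h.ne]
        · subst h; simp
        · simp [h.ne', not_lt.2 h.le]

lemma Qv_tri_symTab (c : Fin n → Fin n → R) :
    Qv (tri (symTab c)) (fun i => X i) = Qv c (fun i => X i) := by
  unfold Qv
  rw [sum_sum_eq_tri (fun i j => C (c i j) * X i * X j)]
  refine Finset.sum_congr rfl fun i _ => Finset.sum_congr rfl fun j _ => ?_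
  unfold tri symTab
  rcases lt_trichotomy i j with h | h | h
  · rw [if_pos h.le, if_neg h.ne, if_pos h, if_neg h.ne, if_pos h, map_add]
    ring
  · subst h
    simp
  · rw [if_neg (not_le.2 h), if_neg h.ne', if_neg (not_lt.2 h.le)]
    simp

lemma polarMatrix_symTab (c : Fin n → Fin n → R) :
    VanCyc.polarMatrix (symTab c) = Matrix.of fun i j => c i j + c j i := by
  ext i j
  simp only [VanCyc.polarMatrix, symTab, Matrix.of_apply]
  rcases lt_trichotomy i j with h | h | h
  · rw [if_neg h.ne, if_pos h, if_neg h.ne, if_pos h]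
  · subst h
    simp [two_mul]
  · rw [if_neg h.ne', if_neg (not_lt.2 h.le), if_neg h.ne, if_pos h, add_comm]

end Generic

section Crit

variable {A : Type u} [CommRing A] (I : Ideal A) [IsAdicComplete I A] {n : ℕ}

/-- **Critical points.** If the gradient of `F` is `ℓ + B x + O(2)` with `ℓ ∈ I^n` and `B` invertible,
then `F` has a critical point `c ∈ I^n`. -/
theorem exists_critical (F : MvPowerSeries (Fin n) A) (ℓ : Fin n → A) (hℓ : ∀ i, ℓ i ∈ I)
    (B : Matrix (Fin n) (Fin n) A) (hB : IsUnit B.det)
    (hpd : ∀ j, ((2 : ℕ) : ℕ∞) ≤ (pderiv A j F - C (ℓ j) - ∑ l, C (B j l) * X l).order) :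
    ∃ (c : Fin n → A) (hc : ∀ s, c s ∈ I), ∀ j, constantCoeff (trans I c hc (pderiv A j F)) = 0 := by
  classical
  set BB : Matrix (Fin n) (Fin n) (MvPowerSeries (Fin n) A) := B.map C with hBB
  set BI : Matrix (Fin n) (Fin n) (MvPowerSeries (Fin n) A) := (B⁻¹).map C with hBI
  have h1 : BB * BI = 1 := by
    rw [hBB, hBI, ← Matrix.map_mul, Matrix.mul_nonsing_inv B hB, Matrix.map_one _ (map_zero _) (map_one _)]
  have h2 : BI * BB = 1 := by
    rw [hBB, hBI, ← Matrix.map_mul, Matrix.nonsing_inv_mul B hB, Matrix.map_one _ (map_zero _) (map_one _)]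
  set D : Fin n → MvPowerSeries (Fin n) A := fun j => pderiv A j F - C (ℓ j) with hD
  set Xv : Fin n → MvPowerSeries (Fin n) A := fun i => X i with hXv
  set g : Fin n → MvPowerSeries (Fin n) A := BI.mulVec D with hg
  have hDg : D = BB.mulVec g := by
    rw [hg, Matrix.mulVec_mulVec, h1, Matrix.one_mulVec]
  have hgX : g - Xv = BI.mulVec (D - BB.mulVec Xv) := by
    rw [Matrix.mulVec_sub, Matrix.mulVec_mulVec, h2, Matrix.one_mulVec]
  have hε : ∀ i, ((2 : ℕ) : ℕ∞) ≤ (g i - X i).order := by
    intro i
    have : g i - X i = (g - Xv) i := rfl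
    rw [this, hgX]
    have e : ∀ (M : Matrix (Fin n) (Fin n) (MvPowerSeries (Fin n) A))
        (v : Fin n → MvPowerSeries (Fin n) A) (i : Fin n), M.mulVec v i = ∑ j, M i j * v j :=
      fun M v i => rfl
    rw [e]
    refine le_order_sum _ _ _ fun j _ => ?_
    rw [hBI, Matrix.map_apply]
    apply le_order_C_mul
    have : (D - BB.mulVec Xv) j = pderiv A j F - C (ℓ j) - ∑ l, C (B j l) * X l := by
      rw [Pi.sub_apply, e]
      rfl
    rw [this]
    exact hpd j
  obtain ⟨h, hh, hsh, -, hinv, -⟩ := exists_inverse_subst 2 le_rfl (fun i => g i - X i) hε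
  have hXg : (fun i => X i + (g i - X i)) = g := by
    funext i
    ring
  rw [hXg] at hinv
  set k : Fin n → MvPowerSeries (Fin n) A := fun i => X i + h i with hk
  have hk0 : ∀ i, constantCoeff (k i) = 0 := by
    intro i
    rw [hk, map_add, constantCoeff_X, zero_add]
    exact constantCoeff_of_le_order (by norm_num) (hh i)
  have hg0 : ∀ i, constantCoeff (g i) = 0 := by
    intro i
    have := constantCoeff_of_le_order (by norm_num) (hε i)
    rw [map_sub, constantCoeff_X, sub_zero] at this
    exact this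
  have hsg : HasSubst g := hasSubst_of_constantCoeff_zero hg0
  have hkg : ∀ j, subst k (g j) = X j := by
    intro j
    have := hinv (X j)
    rwa [subst_X hsg] at this
  -- the target point
  set p : Fin n → A := -(B⁻¹.mulVec ℓ) with hp
  have hpI : ∀ i, p i ∈ I := by
    intro i
    rw [hp, Pi.neg_apply]
    have : B⁻¹.mulVec ℓ i = ∑ j, B⁻¹ i j * ℓ j := rfl
    rw [this]
    exact I.neg_mem (I.sum_mem fun j _ => I.mul_mem_left _ (hℓ j))
  have hkI : ∀ i, constantCoeff (k i) ∈ I := fun i => by rw [hk0]; exact I.zero_mem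
  set c : Fin n → A := fun i => constantCoeff (trans I p hpI (k i)) with hc
  have hcI : ∀ i, c i ∈ I := by
    intro i
    exact constantCoeff_csubst_mem I _ _ (k i) (hkI i)
  have hgc : ∀ j, constantCoeff (trans I c hcI (g j)) = p j := by
    intro j
    have e1 : evC (τ := Fin n) I p hpI (subst k (g j)) = C (p j) := by rw [hkg, evC_X]
    have e2 : evC (τ := Fin n) I p hpI (subst k (g j)) = evC I c hcI (g j) := by
      rw [← csubst_eq_subst I k hkI hsh (g j)]
      unfold evC
      rw [csubst_comp]
      refine congrFun (congrArg DFunLike.coe (csubst_congr I ?_ _ _)) _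
      funext s
      exact evC_eq I p hpI (k s)
    rw [e2, evC_eq] at e1
    have := congrArg constantCoeff e1
    rwa [constantCoeff_C, constantCoeff_C] at this
  refine ⟨c, hcI, fun j => ?_⟩
  have hpdj : pderiv A j F = C (ℓ j) + ∑ i, C (B j i) * g i := by
    have := congrFun hDg j
    simp only [hD, Matrix.mulVec, dotProduct, hBB, Matrix.map_apply] at this
    rw [← this]
    ring
  rw [hpdj, map_add, trans_C, map_add, constantCoeff_C, map_sum, map_sum]
  simp only [map_mul, trans_C, constantCoeff_C, hgc]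
  have : ∑ i, B j i * p i = (B.mulVec p) j := rfl
  rw [this, hp, Matrix.mulVec_neg, Matrix.mulVec_mulVec, Matrix.mul_nonsing_inv B hB,
    Matrix.one_mulVec, Pi.neg_apply, add_neg_cancel]

end Crit

section Main

variable {A : Type u} [CommRing A] [IsLocalRing A]
  [IsAdicComplete (IsLocalRing.maximalIdeal A) A]

open Groth.Agent.Lib.Seat71.ChainRule

/-- **Morse lemma with linear terms** over a complete local ring. -/
theorem main (n : ℕ)
    (q : Fin n → Fin n → A) (hq : VanCyc.QuadNondeg q)
    (a : A) (ha : a ∈ IsLocalRing.maximalIdeal A)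
    (ℓ : Fin n → A) (hℓ : ∀ i, ℓ i ∈ IsLocalRing.maximalIdeal A)
    (F : MvPowerSeries (Fin n) A)
    (hF : ∀ e : Fin n →₀ ℕ, e.degree ≤ 2 →
      MvPowerSeries.coeff e F = MvPowerSeries.coeff e ((VanCyc.quadPoly q + ∑ i, MvPolynomial.C (ℓ i) * MvPolynomial.X i + MvPolynomial.C a : MvPolynomial (Fin n) A) : MvPowerSeries (Fin n) A)) :
    ∃ (a' : A) (q' : Fin n → Fin n → A), a' ∈ IsLocalRing.maximalIdeal A ∧ VanCyc.QuadNondeg q' ∧
      Nonempty ((MvPowerSeries (Fin n) A ⧸ Ideal.span {F}) ≃ₐ[A]
        (MvPowerSeries (Fin n) A ⧸ Ideal.span {((VanCyc.quadPoly q' + MvPolynomial.C a' : MvPolynomial (Fin n) A) : MvPowerSeries (Fin n) A)})) := by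
  classical
  set 𝔪 := IsLocalRing.maximalIdeal A with h𝔪
  -- Step 1: rewrite the hypothesis
  have hsum : ((∑ i, MvPolynomial.C (ℓ i) * MvPolynomial.X i : MvPolynomial (Fin n) A) :
      MvPowerSeries (Fin n) A) = ∑ i, C (ℓ i) * X i := by
    rw [← MvPolynomial.coeToMvPowerSeries.ringHom_apply, map_sum]
    simp only [map_mul, MvPolynomial.coeToMvPowerSeries.ringHom_apply, MvPolynomial.coe_C,
      MvPolynomial.coe_X]
  have hcoe : ((VanCyc.quadPoly q + ∑ i, MvPolynomial.C (ℓ i) * MvPolynomial.X i +
      MvPolynomial.C a : MvPolynomial (Fin n) A) : MvPowerSeries (Fin n) A) =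
      Qv (tri q) (fun i => X i) + ∑ i, C (ℓ i) * X i + C a := by
    rw [MvPolynomial.coe_add, MvPolynomial.coe_add, MvPolynomial.coe_C, coe_quadPoly, hsum]
  set L : MvPowerSeries (Fin n) A := C a + ∑ i, C (ℓ i) * X i with hL
  have hord : ((2 + 1 : ℕ) : ℕ∞) ≤ (F - L - Qv (tri q) (fun i => X i)).order := by
    apply nat_le_order
    intro e he
    have := hF e (by omega)
    rw [hcoe] at this
    rw [map_sub, map_sub, this, hL]
    simp only [map_add]
    ring
  have hpdL : ∀ i, pderiv A i L = C (ℓ i) := by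
    intro i
    rw [hL, map_add, pderiv_C, zero_add, map_sum]
    simp only [Derivation.leibniz, pderiv_C, pderiv_X, add_zero, smul_eq_mul,
      Pi.single_apply, mul_ite, mul_one, mul_zero, Finset.sum_ite_eq', Finset.mem_univ, if_true]
  set B := VanCyc.polarMatrix q with hB
  -- Step 2: the Hessian of F
  have hHessF : ∀ i l, coeff (Finsupp.single l 1) (pderiv A i F) = B i l := by
    intro i l
    rw [coeff_single_pderiv_of_order F L (tri q) hord (fun i l => by rw [hpdL, coeff_single_C]),
      hB, ← polar_tri]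
    rfl
  -- Step 3: the gradient
  have hpd : ∀ j, ((2 : ℕ) : ℕ∞) ≤ (pderiv A j F - C (ℓ j) - ∑ l, C (B j l) * X l).order := by
    intro j
    set r := F - L - Qv (tri q) (fun i => X i) with hr
    have hfr : F = L + Qv (tri q) (fun i => X i) + r := by rw [hr]; ring
    have : pderiv A j F - C (ℓ j) - ∑ l, C (B j l) * X l = pderiv A j r := by
      rw [hfr]
      simp only [map_add]
      rw [hpdL, pderiv_Qv_X, hB, ← polar_tri]
      simp only [Matrix.of_apply]
      ring
    rw [this]
    exact le_order_pderiv j r 2 hord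
  obtain ⟨c, hc, hcrit⟩ := exists_critical 𝔪 F ℓ hℓ B hq hpd
  -- Step 4: translate
  set F₁ := trans 𝔪 c hc F with hF₁
  have hlin₁ : ∀ i, coeff (Finsupp.single i 1) F₁ = 0 := by
    intro i
    have h1 := hcrit i
    rw [← pderiv_trans, ← coeff_zero_eq_constantCoeff_apply, coeff_pderiv] at h1
    simpa using h1
  have hconstF : constantCoeff F = a := by
    have := hF 0 (by simp)
    rw [hcoe] at this
    rw [← coeff_zero_eq_constantCoeff_apply, this]
    simp [Qv]
  set a' := constantCoeff F₁ with ha'
  have ha'm : a' ∈ 𝔪 := by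
    apply constantCoeff_csubst_mem
    rw [hconstF]
    exact ha
  obtain ⟨c', hord'⟩ := exists_quad_decomp F₁ hlin₁
  have hHess₁ : ∀ i l, coeff (Finsupp.single l 1) (pderiv A i F₁) = c' i l + c' l i := by
    intro i l
    exact coeff_single_pderiv_of_order F₁ (C a') c' hord'
      (fun i l => by rw [pderiv_C, map_zero]) i l
  -- Step 5: the Hessians agree modulo 𝔪
  have hred : ∀ i l, red 𝔪 1 (c' i l + c' l i) = red 𝔪 1 (B i l) := by
    intro i l
    rw [← hHess₁, ← hHessF, ← coeff_map, ← coeff_map, map_pderiv, map_pderiv, hF₁, map_trans_one]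
  set M₁ : Matrix (Fin n) (Fin n) A := Matrix.of fun i j => c' i j + c' j i with hM₁
  have hdetred : red 𝔪 1 M₁.det = red 𝔪 1 B.det := by
    rw [RingHom.map_det, RingHom.map_det]
    congr 1
    ext i l
    simp only [RingHom.mapMatrix_apply, Matrix.map_apply, hM₁, Matrix.of_apply]
    exact hred i l
  have hdet : IsUnit M₁.det := by
    by_contra hnu
    have h1 : M₁.det ∈ 𝔪 := (IsLocalRing.mem_maximalIdeal _).2 hnu
    have h2 : M₁.det - B.det ∈ 𝔪 := by
      have := (Ideal.Quotient.eq).1 hdetred
      rwa [pow_one] at this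
    have h3 : B.det ∈ 𝔪 := by
      have := 𝔪.sub_mem h1 h2
      rwa [sub_sub_cancel] at this
    exact (IsLocalRing.mem_maximalIdeal _).1 h3 hq
  -- Step 6: the Morse lemma
  set q' := symTab c' with hq'
  have hq'nd : VanCyc.QuadNondeg q' := by
    unfold VanCyc.QuadNondeg
    rw [hq', polarMatrix_symTab]
    exact hdet
  have hF₁' : ∀ e : Fin n →₀ ℕ, e.degree ≤ 2 →
      coeff e F₁ = coeff e ((VanCyc.quadPoly q' + MvPolynomial.C a' : MvPolynomial (Fin n) A) :
        MvPowerSeries (Fin n) A) := by
    intro e he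
    rw [MvPolynomial.coe_add, MvPolynomial.coe_C, coe_quadPoly, hq', Qv_tri_symTab]
    have : coeff e (F₁ - C (constantCoeff F₁) - Qv c' (fun i => X i)) = 0 := by
      apply coeff_of_lt_order
      refine lt_of_lt_of_le ?_ hord'
      exact_mod_cast Nat.lt_succ_of_le he
    rw [map_sub, map_sub, sub_sub, sub_eq_zero] at this
    rw [this, map_add, add_comm]
  obtain ⟨-, -, -, -, ⟨e₁⟩⟩ := main_S16230 n 2 le_rfl q' hq'nd a' F₁ hF₁'
  have e₀ : (MvPowerSeries (Fin n) A ⧸ Ideal.span {F}) ≃ₐ[A]
      (MvPowerSeries (Fin n) A ⧸ Ideal.span {F₁}) :=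
    Ideal.quotientEquivAlg _ _ (transEquiv 𝔪 c hc) (by
      rw [Ideal.map_span, Set.image_singleton]
      rfl)
  exact ⟨a', q', ha'm, hq'nd, ⟨e₀.trans e₁⟩⟩

end Main

end Groth.Agent.Lib.Seat71.MorseLin
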