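import Mathlib
import Groth.Agent.Lib.Helper19PowerSeries
import Groth.Agent.Lib.Helper19Restricted2
import Groth.Agent.Lib.Seat71MorseLin

/-!
Seat71NodalA: the ring `κ[[X,Y]]/(aX² + bXY + cY²)` over a field: basic structure.
-/

set_option autoImplicit false
set_option linter.unusedSectionVars false
set_option linter.style.haveILetI false
universe u

namespace Groth.Agent.Lib.Seat71.NodalA

open MvPowerSeries IsLocalRing Finsupp Groth.Agent.Lib.Helper19

variable {κ : Type u} [Field κ]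

/-- A field is complete for its maximal ideal. -/
instance isAdicComplete_field : IsAdicComplete (maximalIdeal κ) κ := by
  rw [IsLocalRing.maximalIdeal_eq_bot]; infer_instance

instance isAdicComplete_ps (n : ℕ) :
    IsAdicComplete (maximalIdeal (MvPowerSeries (Fin n) κ)) (MvPowerSeries (Fin n) κ) :=
  isAdicComplete_mvPowerSeries

instance isDomain_ps (n : ℕ) : IsDomain (MvPowerSeries (Fin n) κ) := NoZeroDivisors.to_isDomain _

/-- Membership in powers of the maximal ideal of a power series ring over a field. -/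
lemma mem_max_pow_iff {m : ℕ} (n : ℕ) (g : MvPowerSeries (Fin m) κ) :
    g ∈ maximalIdeal (MvPowerSeries (Fin m) κ) ^ n ↔ ∀ α, degree α < n → coeff α g = 0 := by
  rw [maximalIdeal_eq_coeffIdeal, ← coeffIdeal_eq_pow, mem_coeffIdeal, IsLocalRing.maximalIdeal_eq_bot]
  constructor
  · intro h α hα
    have h1 := h α
    have h2 : n - degree α = (n - degree α - 1) + 1 := by omega
    rw [h2, pow_succ, Ideal.mul_bot, Ideal.mem_bot] at h1
    exact h1
  · intro h α
    by_cases hα : degree α < n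
    · rw [h α hα]; exact zero_mem _
    · have : n - degree α = 0 := by omega
      rw [this, pow_zero, Ideal.one_eq_top]; trivial

lemma mem_max_iff {m : ℕ} (g : MvPowerSeries (Fin m) κ) :
    g ∈ maximalIdeal (MvPowerSeries (Fin m) κ) ↔ constantCoeff g = 0 := by
  rw [mem_maximalIdeal, mem_nonunits_iff, MvPowerSeries.isUnit_iff_constantCoeff, isUnit_iff_ne_zero,
    not_not]

lemma X_mem_max {m : ℕ} (i : Fin m) : (X i : MvPowerSeries (Fin m) κ) ∈ maximalIdeal _ := by
  rw [mem_max_iff, constantCoeff_X]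

/-- The binary quadratic form `aX² + bXY + cY²` as a power series. -/
noncomputable def qf (a b c : κ) : MvPowerSeries (Fin 2) κ :=
  C a * X 0 ^ 2 + C b * X 0 * X 1 + C c * X 1 ^ 2

lemma qf_mem_sq (a b c : κ) : qf a b c ∈ maximalIdeal (MvPowerSeries (Fin 2) κ) ^ 2 := by
  have h0 : (X 0 : MvPowerSeries (Fin 2) κ) ∈ maximalIdeal _ := X_mem_max 0
  have h1 : (X 1 : MvPowerSeries (Fin 2) κ) ∈ maximalIdeal _ := X_mem_max 1
  unfold qf
  refine add_mem (add_mem (Ideal.mul_mem_left _ _ (Ideal.pow_mem_pow h0 2)) ?_)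
    (Ideal.mul_mem_left _ _ (Ideal.pow_mem_pow h1 2))
  rw [mul_assoc, sq]
  exact Ideal.mul_mem_left _ _ (Ideal.mul_mem_mul h0 h1)

/-- The maximal ideal of `κ[[X,Y]]` is generated by the variables. -/
lemma max_eq_span : maximalIdeal (MvPowerSeries (Fin 2) κ) =
    Ideal.span {(X 0 : MvPowerSeries (Fin 2) κ), X 1} := by
  apply le_antisymm
  · intro g hg
    have h1 : g ∈ varsIdeal (Fin 2) κ ^ 1 := by
      apply mem_varsIdeal_pow_of_coeff_eq_zero
      intro α hα
      have : α = 0 := by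
        rw [← degree_eq_zero_iff]; omega
      rw [this, coeff_zero_eq_constantCoeff_apply]
      exact (mem_max_iff g).1 hg
    rw [pow_one] at h1
    refine Ideal.span_mono ?_ h1
    rintro _ ⟨i, rfl⟩
    fin_cases i
    · exact Set.mem_insert _ _
    · exact Set.mem_insert_of_mem _ rfl
  · rw [Ideal.span_le]
    intro z hz
    rw [Set.mem_insert_iff, Set.mem_singleton_iff] at hz
    rcases hz with rfl | rfl
    · exact X_mem_max 0
    · exact X_mem_max 1

section Quot

variable (f : MvPowerSeries (Fin 2) κ)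

/-- The quotient `κ[[X,Y]]/(f)`. -/
abbrev Bf : Type u := MvPowerSeries (Fin 2) κ ⧸ Ideal.span {f}

variable {f}

lemma span_ne_top (hf : f ∈ maximalIdeal (MvPowerSeries (Fin 2) κ)) :
    Ideal.span {f} ≠ ⊤ := by
  intro h
  have h1 : Ideal.span {f} ≤ maximalIdeal (MvPowerSeries (Fin 2) κ) := by
    rw [Ideal.span_le]; intro z hz; rw [Set.mem_singleton_iff] at hz; rw [hz]; exact hf
  rw [h] at h1
  exact (IsLocalRing.maximalIdeal.isMaximal _).ne_top (top_le_iff.1 h1)

theorem nontrivial_Bf (hf : f ∈ maximalIdeal (MvPowerSeries (Fin 2) κ)) : Nontrivial (Bf f) :=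
  Ideal.Quotient.nontrivial_iff.2 (span_ne_top hf)

theorem isLocalRing_Bf (hf : f ∈ maximalIdeal (MvPowerSeries (Fin 2) κ)) : IsLocalRing (Bf f) :=
  haveI := nontrivial_Bf hf
  IsLocalRing.of_surjective' (Ideal.Quotient.mk (Ideal.span {f})) Ideal.Quotient.mk_surjective

variable [IsLocalRing (Bf f)]

lemma max_Bf_eq_map : maximalIdeal (Bf f) =
    (maximalIdeal (MvPowerSeries (Fin 2) κ)).map (Ideal.Quotient.mk (Ideal.span {f})) :=
  (IsLocalRing.map_maximalIdeal_of_surjective _ Ideal.Quotient.mk_surjective).symm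

theorem isAdicComplete_Bf : IsAdicComplete (maximalIdeal (Bf f)) (Bf f) := by
  rw [max_Bf_eq_map]
  exact isAdicComplete_quotient_of_isNoetherianRing _ _ _

lemma max_Bf_eq_span : maximalIdeal (Bf f) =
    Ideal.span {Ideal.Quotient.mk (Ideal.span {f}) (X 0), Ideal.Quotient.mk (Ideal.span {f}) (X 1)} := by
  rw [max_Bf_eq_map, max_eq_span, Ideal.map_span, Set.image_pair]

lemma mk_mem_max_iff (p : MvPowerSeries (Fin 2) κ) :
    Ideal.Quotient.mk (Ideal.span {f}) p ∈ maximalIdeal (Bf f) ↔ constantCoeff p = 0 := by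
  rw [← mem_max_iff]
  haveI : IsLocalHom (Ideal.Quotient.mk (Ideal.span {f})) :=
    IsLocalHom.of_surjective _ Ideal.Quotient.mk_surjective
  rw [mem_maximalIdeal, mem_maximalIdeal, mem_nonunits_iff, mem_nonunits_iff,
    isUnit_map_iff (Ideal.Quotient.mk (Ideal.span {f}))]

lemma hres_Bf (r : Bf f) : ∃ l : κ, r - algebraMap κ (Bf f) l ∈ maximalIdeal (Bf f) := by
  obtain ⟨p, rfl⟩ := Ideal.Quotient.mk_surjective r
  refine ⟨constantCoeff p, ?_⟩
  have h1 : algebraMap κ (Bf f) (constantCoeff p) =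
      Ideal.Quotient.mk (Ideal.span {f}) (C (constantCoeff p)) := by
    rw [← Ideal.Quotient.mk_algebraMap, MvPowerSeries.algebraMap_apply,
      Algebra.algebraMap_self, RingHom.id_apply]
  rw [h1, ← map_sub, mk_mem_max_iff, map_sub, constantCoeff_C, sub_self]

end Quot

section Indep

variable {f : MvPowerSeries (Fin 2) κ} [IsLocalRing (Bf f)]

/-- The classes of `X` and `Y` are linearly independent modulo `𝔪²` in `κ[[X,Y]]/(f)`, `f ∈ 𝔪²`. -/
lemma indep_Bf (hf : f ∈ maximalIdeal (MvPowerSeries (Fin 2) κ) ^ 2) (u v : Bf f)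
    (h : u * Ideal.Quotient.mk (Ideal.span {f}) (X 0) + v * Ideal.Quotient.mk (Ideal.span {f}) (X 1) ∈
      maximalIdeal (Bf f) ^ 2) : u ∈ maximalIdeal (Bf f) ∧ v ∈ maximalIdeal (Bf f) := by
  obtain ⟨u', rfl⟩ := Ideal.Quotient.mk_surjective u
  obtain ⟨v', rfl⟩ := Ideal.Quotient.mk_surjective v
  rw [max_Bf_eq_map, ← Ideal.map_pow, ← map_mul, ← map_mul, ← map_add,
    Ideal.mem_map_iff_of_surjective _ Ideal.Quotient.mk_surjective] at h
  obtain ⟨w, hw, hwe⟩ := h
  rw [Ideal.Quotient.eq, Ideal.mem_span_singleton] at hwe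
  obtain ⟨t, ht⟩ := hwe
  have h1 : u' * X 0 + v' * X 1 ∈ maximalIdeal (MvPowerSeries (Fin 2) κ) ^ 2 := by
    have : u' * X 0 + v' * X 1 = w - f * t := by rw [← ht]; ring
    rw [this]
    exact sub_mem hw (Ideal.mul_mem_right _ _ hf)
  rw [mem_max_pow_iff] at h1
  have h01 : (Finsupp.single (0 : Fin 2) 1) (1 : Fin 2) = 0 := by
    rw [Finsupp.single_apply, if_neg (by decide)]
  have h10 : (Finsupp.single (1 : Fin 2) 1) (0 : Fin 2) = 0 := by
    rw [Finsupp.single_apply, if_neg (by decide)]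
  constructor
  · have h2 := h1 (Finsupp.single 0 1) (by rw [Finsupp.degree_single]; norm_num)
    rw [map_add] at h2
    have h3 : coeff (Finsupp.single (0 : Fin 2) 1) (v' * X 1) = 0 :=
      (X_dvd_iff (s := (1 : Fin 2)) (φ := v' * X 1)).1 (Dvd.intro_left _ rfl) _ h01
    have h4 : coeff (Finsupp.single (0 : Fin 2) 1) (u' * X 0) = constantCoeff u' := by
      have := coeff_add_mul_monomial (m := (0 : Fin 2 →₀ ℕ)) (n := Finsupp.single (0 : Fin 2) 1)
        (φ := u') (1 : κ)
      rw [zero_add, mul_one, ← X_def] at this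
      rw [this, coeff_zero_eq_constantCoeff_apply]
    rw [h3, h4, add_zero] at h2
    exact (mk_mem_max_iff u').2 h2
  · have h2 := h1 (Finsupp.single 1 1) (by rw [Finsupp.degree_single]; norm_num)
    rw [map_add] at h2
    have h3 : coeff (Finsupp.single (1 : Fin 2) 1) (u' * X 0) = 0 :=
      (X_dvd_iff (s := (0 : Fin 2)) (φ := u' * X 0)).1 (Dvd.intro_left _ rfl) _ h10
    have h4 : coeff (Finsupp.single (1 : Fin 2) 1) (v' * X 1) = constantCoeff v' := by
      have := coeff_add_mul_monomial (m := (0 : Fin 2 →₀ ℕ)) (n := Finsupp.single (1 : Fin 2) 1)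
        (φ := v') (1 : κ)
      rw [zero_add, mul_one, ← X_def] at this
      rw [this, coeff_zero_eq_constantCoeff_apply]
    rw [h3, h4, zero_add] at h2
    exact (mk_mem_max_iff v').2 h2

/-- The maximal ideal of `κ[[X,Y]]/(f)`, `f ∈ 𝔪²`, is not principal. -/
lemma not_principal_Bf (hf : f ∈ maximalIdeal (MvPowerSeries (Fin 2) κ) ^ 2) (g : Bf f) :
    maximalIdeal (Bf f) ≠ Ideal.span {g} := by
  intro hg
  have hindep := indep_Bf (f := f) hf
  have hspan := max_Bf_eq_span (f := f)
  generalize Ideal.Quotient.mk (Ideal.span {f}) (X 0) = x at hindep hspan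
  generalize Ideal.Quotient.mk (Ideal.span {f}) (X 1) = y at hindep hspan
  have hxm : x ∈ maximalIdeal (Bf f) := by
    rw [hspan]; exact Ideal.subset_span (Set.mem_insert _ _)
  have hym : y ∈ maximalIdeal (Bf f) := by
    rw [hspan]; exact Ideal.subset_span (Set.mem_insert_of_mem _ rfl)
  have hgm : g ∈ maximalIdeal (Bf f) := by rw [hg]; exact Ideal.subset_span rfl
  obtain ⟨s, hs⟩ := Ideal.mem_span_singleton.1 (hg ▸ hxm)
  obtain ⟨t, ht⟩ := Ideal.mem_span_singleton.1 (hg ▸ hym)
  rw [hspan, Ideal.mem_span_pair] at hgm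
  obtain ⟨p, q, hpq⟩ := hgm
  -- x = g s = (p x + q y) s
  have h1 : (1 - p * s) * x + (- (q * s)) * y = 0 := by
    have : x = (p * x + q * y) * s := by rw [hpq]; exact hs
    linear_combination this
  have h2 : (- (p * t)) * x + (1 - q * t) * y = 0 := by
    have : y = (p * x + q * y) * t := by rw [hpq]; exact ht
    linear_combination this
  obtain ⟨h3, h4⟩ := hindep _ _ (h1 ▸ zero_mem _)
  obtain ⟨h5, h6⟩ := hindep _ _ (h2 ▸ zero_mem _)
  -- p s is a unit, q t is a unit, q s and p t are not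
  have hps : IsUnit (p * s) := by
    by_contra hn
    have : (1 - p * s) + p * s ∈ maximalIdeal (Bf f) := add_mem h3 hn
    rw [sub_add_cancel] at this
    exact this isUnit_one
  have hqt : IsUnit (q * t) := by
    by_contra hn
    have : (1 - q * t) + q * t ∈ maximalIdeal (Bf f) := add_mem h6 hn
    rw [sub_add_cancel] at this
    exact this isUnit_one
  have hqs : ¬ IsUnit (q * s) := fun hu => (neg_mem_iff.1 h4) hu
  exact hqs ((isUnit_of_mul_isUnit_left hqt).mul (isUnit_of_mul_isUnit_right hps))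

end Indep

section Ell

/-- The square of the maximal ideal is contained in a principal ideal `(ℓ)`, `ℓ ∈ 𝔪`. -/
def HasEll (B : Type u) [CommRing B] [IsLocalRing B] : Prop :=
  ∃ ℓ : B, ℓ ∈ maximalIdeal B ∧ maximalIdeal B ^ 2 ≤ Ideal.span {ℓ}

lemma HasEll.of_ringEquiv {B B' : Type u} [CommRing B] [IsLocalRing B] [CommRing B'] [IsLocalRing B']
    (e : B ≃+* B') (h : HasEll B) : HasEll B' := by
  obtain ⟨ℓ, hℓ, hle⟩ := h
  refine ⟨e ℓ, ?_, ?_⟩
  · rw [← IsLocalRing.map_ringEquiv_maximalIdeal e]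
    exact Ideal.mem_map_of_mem _ hℓ
  · rw [← IsLocalRing.map_ringEquiv_maximalIdeal e, ← Ideal.map_pow]
    refine (Ideal.map_mono hle).trans ?_
    rw [Ideal.map_span, Set.image_singleton]

lemma hasEll_qf (a b c : κ) (hd : 4 * a * c - b ^ 2 ≠ 0) [IsLocalRing (Bf (qf a b c))] :
    HasEll (Bf (qf a b c)) := by
  have h0 : Ideal.Quotient.mk (Ideal.span {qf a b c}) (qf a b c) = 0 :=
    Ideal.Quotient.eq_zero_iff_mem.2 (Ideal.subset_span rfl)
  have hrel : Ideal.Quotient.mk (Ideal.span {qf a b c}) (C a) *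
        Ideal.Quotient.mk (Ideal.span {qf a b c}) (X 0) ^ 2 +
      Ideal.Quotient.mk (Ideal.span {qf a b c}) (C b) *
        Ideal.Quotient.mk (Ideal.span {qf a b c}) (X 0) *
        Ideal.Quotient.mk (Ideal.span {qf a b c}) (X 1) +
      Ideal.Quotient.mk (Ideal.span {qf a b c}) (C c) *
        Ideal.Quotient.mk (Ideal.span {qf a b c}) (X 1) ^ 2 = 0 := by
    calc _ = Ideal.Quotient.mk (Ideal.span {qf a b c})
          (C a * X 0 ^ 2 + C b * X 0 * X 1 + C c * X 1 ^ 2) := by
          simp only [map_add, map_mul, map_pow]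
      _ = 0 := h0
  have hspan := max_Bf_eq_span (f := qf a b c)
  have hinv : ∀ r : κ, r ≠ 0 → Ideal.Quotient.mk (Ideal.span {qf a b c}) (C r⁻¹) *
      Ideal.Quotient.mk (Ideal.span {qf a b c}) (C r) = 1 := by
    intro r hr
    rw [← map_mul, ← map_mul, inv_mul_cancel₀ hr, map_one, map_one]
  generalize Ideal.Quotient.mk (Ideal.span {qf a b c}) (X 0) = x at hrel hspan
  generalize Ideal.Quotient.mk (Ideal.span {qf a b c}) (X 1) = y at hrel hspan
  have hxm : x ∈ maximalIdeal (Bf (qf a b c)) := by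
    rw [hspan]; exact Ideal.subset_span (Set.mem_insert _ _)
  have hym : y ∈ maximalIdeal (Bf (qf a b c)) := by
    rw [hspan]; exact Ideal.subset_span (Set.mem_insert_of_mem _ rfl)
  have hsq : maximalIdeal (Bf (qf a b c)) ^ 2 = Ideal.span {x * x, x * y, y * x, y * y} := by
    rw [hspan, sq, Ideal.span_pair_mul_span_pair]
  by_cases ha : a = 0
  · by_cases hc : c = 0
    · -- `b x y = 0`
      have hb : b ≠ 0 := by
        rintro rfl
        apply hd
        rw [ha, hc]; ring
      have hxy : x * y = 0 := by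
        have h1 := hinv b hb
        have hCa : (C a : MvPowerSeries (Fin 2) κ) = 0 := by rw [ha, map_zero]
        have hCc : (C c : MvPowerSeries (Fin 2) κ) = 0 := by rw [hc, map_zero]
        rw [hCa, hCc, map_zero, zero_mul, zero_mul, zero_add, add_zero] at hrel
        calc x * y = (Ideal.Quotient.mk (Ideal.span {qf a b c}) (C b⁻¹) *
              Ideal.Quotient.mk (Ideal.span {qf a b c}) (C b)) * (x * y) := by rw [h1, one_mul]
          _ = Ideal.Quotient.mk (Ideal.span {qf a b c}) (C b⁻¹) *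
              (Ideal.Quotient.mk (Ideal.span {qf a b c}) (C b) * x * y) := by ring
          _ = 0 := by rw [hrel, mul_zero]
      refine ⟨x + y, add_mem hxm hym, ?_⟩
      rw [hsq, Ideal.span_le]
      intro z hz
      simp only [Set.mem_insert_iff, Set.mem_singleton_iff] at hz
      rw [SetLike.mem_coe, Ideal.mem_span_singleton']
      rcases hz with rfl | rfl | rfl | rfl
      · exact ⟨x, by linear_combination hxy⟩
      · exact ⟨0, by rw [hxy, zero_mul]⟩
      · exact ⟨0, by rw [mul_comm y x, hxy, zero_mul]⟩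
      · exact ⟨y, by linear_combination hxy⟩
    · -- `c ≠ 0`: `ℓ = x`
      have h1 := hinv c hc
      refine ⟨x, hxm, ?_⟩
      rw [hsq, Ideal.span_le]
      intro z hz
      simp only [Set.mem_insert_iff, Set.mem_singleton_iff] at hz
      rw [SetLike.mem_coe, Ideal.mem_span_singleton']
      rcases hz with rfl | rfl | rfl | rfl
      · exact ⟨x, rfl⟩
      · exact ⟨y, by ring⟩
      · exact ⟨y, rfl⟩
      · refine ⟨-(Ideal.Quotient.mk (Ideal.span {qf a b c}) (C c⁻¹)) *
          (Ideal.Quotient.mk (Ideal.span {qf a b c}) (C a) * x +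
            Ideal.Quotient.mk (Ideal.span {qf a b c}) (C b) * y), ?_⟩
        linear_combination (-(Ideal.Quotient.mk (Ideal.span {qf a b c}) (C c⁻¹))) * hrel +
          (y * y) * h1
  · -- `a ≠ 0`: `ℓ = y`
    have h1 := hinv a ha
    refine ⟨y, hym, ?_⟩
    rw [hsq, Ideal.span_le]
    intro z hz
    simp only [Set.mem_insert_iff, Set.mem_singleton_iff] at hz
    rw [SetLike.mem_coe, Ideal.mem_span_singleton']
    rcases hz with rfl | rfl | rfl | rfl
    · refine ⟨-(Ideal.Quotient.mk (Ideal.span {qf a b c}) (C a⁻¹)) *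
          (Ideal.Quotient.mk (Ideal.span {qf a b c}) (C b) * x +
            Ideal.Quotient.mk (Ideal.span {qf a b c}) (C c) * y), ?_⟩
      linear_combination (-(Ideal.Quotient.mk (Ideal.span {qf a b c}) (C a⁻¹))) * hrel +
          (x * x) * h1
    · exact ⟨x, rfl⟩
    · exact ⟨x, by ring⟩
    · exact ⟨y, rfl⟩

end Ell

section Morse

lemma coe_quadPoly_two (q : Fin 2 → Fin 2 → κ) :
    ((VanCyc.quadPoly q : MvPolynomial (Fin 2) κ) : MvPowerSeries (Fin 2) κ) =
      qf (q 0 0) (q 0 1) (q 1 1) := by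
  unfold VanCyc.quadPoly qf
  rw [Fin.sum_univ_two, Fin.sum_univ_two, Fin.sum_univ_two]
  have h1 : ((0 : Fin 2) ≤ 0) := le_refl _
  have h2 : ((0 : Fin 2) ≤ 1) := by decide
  have h3 : ¬ ((1 : Fin 2) ≤ 0) := by decide
  have h4 : ((1 : Fin 2) ≤ 1) := le_refl _
  rw [if_pos h1, if_pos h2, if_neg h3, if_pos h4, zero_add]
  simp only [MvPolynomial.coe_add, MvPolynomial.coe_mul, MvPolynomial.coe_C, MvPolynomial.coe_X]
  ring

lemma quadNondeg_two (q : Fin 2 → Fin 2 → κ) :
    VanCyc.QuadNondeg q ↔ 4 * q 0 0 * q 1 1 - q 0 1 ^ 2 ≠ 0 := by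
  unfold VanCyc.QuadNondeg
  rw [isUnit_iff_ne_zero, Matrix.det_fin_two]
  have h2 : ((0 : Fin 2) < 1) := by decide
  have h3 : ¬ ((1 : Fin 2) < 0) := by decide
  have h5 : ¬ ((0 : Fin 2) = 1) := by decide
  have h6 : ¬ ((1 : Fin 2) = 0) := by decide
  simp only [VanCyc.polarMatrix, if_true, if_neg h5, if_neg h6, if_pos h2, if_neg h3]
  constructor
  · intro h h'; apply h; linear_combination h'
  · intro h h'; apply h; linear_combination h'

/-- The formal Morse lemma over a field, for two variables. -/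
theorem morse_field (f : MvPowerSeries (Fin 2) κ) (a b c : κ) (hd : 4 * a * c - b ^ 2 ≠ 0)
    (hjet : ∀ e : Fin 2 →₀ ℕ, e.degree ≤ 2 → coeff e f = coeff e (qf a b c)) :
    ∃ a' b' c' : κ, 4 * a' * c' - b' ^ 2 ≠ 0 ∧ Nonempty (Bf f ≃ₐ[κ] Bf (qf a' b' c')) := by
  let q : Fin 2 → Fin 2 → κ := fun i j => if i = 0 then (if j = 0 then a else b) else c
  have hq00 : q 0 0 = a := rfl
  have hq01 : q 0 1 = b := rfl
  have hq11 : q 1 1 = c := rfl
  have hq : VanCyc.QuadNondeg q := by
    rw [quadNondeg_two, hq00, hq01, hq11]; exact hd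
  obtain ⟨a', q', ha', hq', ⟨E⟩⟩ := Groth.Agent.Lib.Seat71.MorseLin.main 2 q hq (0 : κ)
    (zero_mem _) (fun _ => 0) (fun _ => zero_mem _) f (by
      intro e he
      rw [hjet e he]
      congr 1
      simp only [map_zero, zero_mul, Finset.sum_const_zero, add_zero]
      rw [coe_quadPoly_two, hq00, hq01, hq11])
  rw [IsLocalRing.maximalIdeal_eq_bot, Ideal.mem_bot] at ha'
  subst ha'
  rw [map_zero, add_zero, coe_quadPoly_two] at E
  refine ⟨q' 0 0, q' 0 1, q' 1 1, (quadNondeg_two q').1 hq', ⟨E⟩⟩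

end Morse

end Groth.Agent.Lib.Seat71.NodalA
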