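import Mathlib
import Groth.Agent.Lib.Seat71NodalA

/-!
Seat71NodalB: `κ[[X,Y]]/(aX² + bXY + cY²)` is reduced when `a ≠ 0` and the form is nondegenerate
(via Weierstrass division).
-/

set_option autoImplicit false
set_option linter.unusedSectionVars false
set_option linter.style.haveILetI false
universe u

namespace Groth.Agent.Lib.Seat71.NodalB

open IsLocalRing Groth.Agent.Lib.Seat71.NodalA

section Poly

open Polynomial

variable {Λ : Type u} [CommRing Λ] [IsDomain Λ]

lemma monic_quadratic (β γ : Λ) : (X ^ 2 + C β * X + C γ : Λ[X]).Monic := by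
  rw [add_assoc]
  apply monic_X_pow_add
  exact lt_of_le_of_lt (degree_linear_le) (by norm_num)

lemma degree_quadratic (β γ : Λ) : (X ^ 2 + C β * X + C γ : Λ[X]).degree = 2 := by
  rw [add_assoc, degree_add_eq_left_of_degree_lt]
  · rw [degree_X_pow]; rfl
  · rw [degree_X_pow]
    exact lt_of_le_of_lt (degree_linear_le) (by norm_num)

/-- `Λ[X]/(X² + βX + γ)` is reduced when the discriminant is non-zero. -/
theorem isReduced_quadratic (β γ : Λ) (hd : β ^ 2 - 4 * γ ≠ 0) :
    IsReduced (Λ[X] ⧸ Ideal.span {(X ^ 2 + C β * X + C γ : Λ[X])}) := by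
  set g : Λ[X] := X ^ 2 + C β * X + C γ with hg
  have hmonic : g.Monic := monic_quadratic β γ
  have hdeg : g.degree = 2 := degree_quadratic β γ
  rw [isReduced_iff_pow_one_lt 2 one_lt_two]
  intro z hz
  obtain ⟨p, rfl⟩ := Ideal.Quotient.mk_surjective z
  set r := p %ₘ g with hr
  have hpr : Ideal.Quotient.mk (Ideal.span {g}) p = Ideal.Quotient.mk (Ideal.span {g}) r := by
    rw [Ideal.Quotient.eq, Ideal.mem_span_singleton]
    refine ⟨p /ₘ g, ?_⟩
    have := modByMonic_add_div p g
    rw [← hr] at this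
    linear_combination (-1 : Λ[X]) * this
  have hrdeg : r.degree ≤ 1 := by
    have h1 : r.degree < g.degree := degree_modByMonic_lt p hmonic
    rw [hdeg] at h1
    rw [degree_le_iff_coeff_zero]
    intro m hm
    apply coeff_eq_zero_of_degree_lt
    refine lt_of_lt_of_le h1 ?_
    have : (1 : WithBot ℕ) < m := hm
    have h2 : ((1 : ℕ) : WithBot ℕ) < (m : WithBot ℕ) := hm
    have h3 : 1 < m := by exact_mod_cast h2
    have h4 : 2 ≤ m := h3
    exact_mod_cast h4
  set u := r.coeff 0 with hu
  set v := r.coeff 1 with hv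
  have hr' : r = C v * X + C u := eq_X_add_C_of_degree_le_one hrdeg
  rw [hpr, ← map_pow, Ideal.Quotient.eq_zero_iff_mem, Ideal.mem_span_singleton] at hz
  set s : Λ[X] := C (2 * u * v - β * v ^ 2) * X + C (u ^ 2 - γ * v ^ 2) with hs
  have hrs : r ^ 2 = C (v ^ 2) * g + s := by
    rw [hr', hs, hg]
    simp only [map_sub, map_mul, map_pow, map_ofNat]
    ring
  have hgs : g ∣ s := by
    have : s = r ^ 2 - C (v ^ 2) * g := by rw [hrs]; ring
    rw [this]
    exact dvd_sub hz (Dvd.intro_left _ rfl)
  have hs0 : s = 0 := by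
    apply eq_zero_of_dvd_of_degree_lt hgs
    rw [hdeg]
    exact lt_of_le_of_lt degree_linear_le (by norm_num)
  have e1 : 2 * u * v - β * v ^ 2 = 0 := by
    have := congrArg (fun t => coeff t 1) hs0
    simp only [hs, coeff_add, coeff_C_mul, coeff_X_one, mul_one, coeff_zero] at this
    rw [coeff_C_of_ne_zero one_ne_zero, add_zero] at this
    exact this
  have e0 : u ^ 2 - γ * v ^ 2 = 0 := by
    have := congrArg (fun t => coeff t 0) hs0
    simp only [hs, coeff_add, coeff_C_mul, coeff_X_zero, mul_zero, coeff_zero, coeff_C_zero,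
      zero_add] at this
    exact this
  have hv0 : v = 0 := by
    by_contra hv0
    have h1 : 2 * u = β * v := by
      have : v * (2 * u - β * v) = 0 := by linear_combination e1
      rcases mul_eq_zero.1 this with h | h
      · exact absurd h hv0
      · linear_combination h
    have h2 : (β ^ 2 - 4 * γ) * v ^ 2 = 0 := by
      linear_combination (-(2 * u) - β * v) * h1 + 4 * e0
    rcases mul_eq_zero.1 h2 with h | h
    · exact hd h
    · exact hv0 ((pow_eq_zero_iff (two_ne_zero)).1 h)
  have hu0 : u = 0 := by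
    rw [hv0] at e0
    have : u ^ 2 = 0 := by linear_combination e0
    exact (pow_eq_zero_iff (two_ne_zero)).1 this
  rw [hpr, hr', hu0, hv0, map_zero, zero_mul, zero_add, map_zero]

end Poly

section PS

variable {κ : Type u} [Field κ]

/-- For `a ≠ 0` and a nondegenerate form, `κ[[X,Y]]/(aX² + bXY + cY²)` is reduced. -/
theorem isReduced_qf_of_ne (a b c : κ) (ha : a ≠ 0) (hd : 4 * a * c - b ^ 2 ≠ 0) :
    IsReduced (Bf (qf a b c)) := by
  let Λ := MvPowerSeries (Fin 1) κ
  let T : Λ := MvPowerSeries.X 0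
  let E := MvPowerSeries.finSuccEquiv κ 1
  let β : Λ := MvPowerSeries.C (b / a) * T
  let γ : Λ := MvPowerSeries.C (c / a) * T ^ 2
  let g : Polynomial Λ := Polynomial.X ^ 2 + Polynomial.C β * Polynomial.X + Polynomial.C γ
  have hT : T ∈ maximalIdeal Λ := X_mem_max 0
  have hT0 : T ≠ 0 := by
    intro h
    have h1 : MvPowerSeries.coeff (Finsupp.single (0 : Fin 1) 1) T = 1 :=
      MvPowerSeries.coeff_index_single_self_X 0
    rw [h, map_zero] at h1
    exact zero_ne_one h1
  -- the discriminant
  have hdisc : β ^ 2 - 4 * γ ≠ 0 := by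
    have h1 : β ^ 2 - 4 * γ = MvPowerSeries.C ((b ^ 2 - 4 * a * c) / a ^ 2) * T ^ 2 := by
      have h2 : (b ^ 2 - 4 * a * c) / a ^ 2 = (b / a) ^ 2 - 4 * (c / a) := by
        field_simp
      rw [h2, map_sub, map_pow, map_mul, map_ofNat]
      ring
    rw [h1]
    apply mul_ne_zero
    · intro h
      have h3 : (b ^ 2 - 4 * a * c) / a ^ 2 = 0 := by
        have := congrArg MvPowerSeries.constantCoeff h
        rwa [MvPowerSeries.constantCoeff_C, map_zero] at this
      rw [div_eq_zero_iff] at h3
      rcases h3 with h3 | h3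
      · apply hd; linear_combination -h3
      · exact ha ((pow_eq_zero_iff two_ne_zero).1 h3)
    · exact pow_ne_zero 2 hT0
  haveI := isReduced_quadratic β γ hdisc
  -- distinguished
  have hmonic : g.Monic := monic_quadratic β γ
  have hnat : g.natDegree = 2 := by
    have := degree_quadratic β γ
    exact Polynomial.natDegree_eq_of_degree_eq_some this
  have hβ : β ∈ maximalIdeal Λ := Ideal.mul_mem_left _ _ hT
  have hγ : γ ∈ maximalIdeal Λ := Ideal.mul_mem_left _ _ (Ideal.pow_mem_of_mem _ hT 2 (by norm_num))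
  have H : g.IsDistinguishedAt (maximalIdeal Λ) := by
    refine ⟨⟨?_⟩, hmonic⟩
    intro n hn
    rw [hnat] at hn
    interval_cases n
    · have : g.coeff 0 = γ := by simp [g]
      rw [this]; exact hγ
    · have : g.coeff 1 = β := by simp [g]
      rw [this]; exact hβ
  -- the image of the form
  have hEq : E (qf a b c) = PowerSeries.C (MvPowerSeries.C a) * (g : PowerSeries Λ) := by
    have h1 : (1 : Fin 2) = Fin.succ (0 : Fin 1) := rfl
    have hX0 : E (MvPowerSeries.X 0) = PowerSeries.X := MvPowerSeries.finSuccEquiv_X_zero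
    have hX1 : E (MvPowerSeries.X 1) = PowerSeries.C T := by
      rw [h1]; exact MvPowerSeries.finSuccEquiv_X_succ 0
    have hC : ∀ r : κ, E (MvPowerSeries.C r) = PowerSeries.C (MvPowerSeries.C r) :=
      fun r => MvPowerSeries.finSuccEquiv_C r
    unfold qf
    simp only [map_add, map_mul, map_pow, hX0, hX1, hC]
    simp only [g, β, γ, Polynomial.coe_add, Polynomial.coe_mul, Polynomial.coe_pow, Polynomial.coe_X,
      Polynomial.coe_C, map_mul, map_pow]
    have h2 : (MvPowerSeries.C b : Λ) = MvPowerSeries.C a * MvPowerSeries.C (b / a) := by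
      rw [← map_mul, mul_div_cancel₀ b ha]
    have h3 : (MvPowerSeries.C c : Λ) = MvPowerSeries.C a * MvPowerSeries.C (c / a) := by
      rw [← map_mul, mul_div_cancel₀ c ha]
    rw [h2, h3, map_mul, map_mul]
    ring
  have hunit : IsUnit (PowerSeries.C (MvPowerSeries.C a) : PowerSeries Λ) := by
    apply IsUnit.map
    apply IsUnit.map
    exact isUnit_iff_ne_zero.2 ha
  have hmap : Ideal.span {(g : PowerSeries Λ)} =
      Ideal.map (E : MvPowerSeries (Fin 2) κ →+* PowerSeries Λ) (Ideal.span {qf a b c}) := by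
    rw [Ideal.map_span, Set.image_singleton]
    change _ = Ideal.span {E (qf a b c)}
    rw [hEq, Ideal.span_singleton_mul_left_unit hunit]
  let e1 : Bf (qf a b c) ≃+* (PowerSeries Λ ⧸ Ideal.span {(g : PowerSeries Λ)}) :=
    Ideal.quotientEquiv _ _ (E : MvPowerSeries (Fin 2) κ ≃+* PowerSeries Λ) hmap
  let e2 := (H.algEquivQuotient).symm
  let φ : Bf (qf a b c) →+* (Polynomial Λ ⧸ Ideal.span {g}) :=
    (e2.toRingEquiv.toRingHom).comp e1.toRingHom
  have hφ : Function.Injective φ := e2.injective.comp e1.injective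
  exact isReduced_of_injective φ hφ

end PS

end Groth.Agent.Lib.Seat71.NodalB
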