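import Mathlib
import Groth.Prelude
import Groth.Agent.Lib.Helper19PowerSeries
import Groth.Agent.Lib.Helper19ComplNoeth
import Groth.Agent.Lib.Helper19ComplFlatMap

/-!
# Maps from a node power series ring onto the completion of a local algebra

Plumbing for the statement: for a local homomorphism `A → B` of Noetherian local rings and
approximating sequences `u_n, v_n ∈ B`, `ε_n ∈ A` with `u_n v_n ≡ ε_n`, the limits give a surjection
`Â[[x,y]]/(xy - α) → B̂`.
-/

set_option autoImplicit false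
set_option linter.unusedSectionVars false

universe u v w

open MvPowerSeries IsLocalRing

namespace Groth.Agent.Lib.Seat90.NodeCompl

section PS

variable {Λ : Type u} [CommRing Λ] {σ : Type v} [Finite σ] {A' : Type w} [CommRing A']

/-- Ring homs out of a power series ring into a ring with a nilpotent ideal containing the images
of the variables. -/
theorem exists_ringHom_X_C (ι : Λ →+* A') (𝔫 : Ideal A') (N : ℕ) (hN : 𝔫 ^ N = ⊥) (x : σ → A')
    (hx : ∀ s, x s ∈ 𝔫) :
    ∃ φ : MvPowerSeries σ Λ →+* A', (∀ s, φ (X s) = x s) ∧ ∀ c, φ (C c) = ι c := by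
  letI : Algebra Λ A' := ι.toAlgebra
  obtain ⟨φ, hφ⟩ := Groth.Agent.Lib.Helper19.exists_algHom_X_eq (Λ := Λ) 𝔫 N hN x hx
  refine ⟨φ.toRingHom, hφ, fun c => ?_⟩
  have h := φ.commutes c
  rw [MvPowerSeries.algebraMap_apply, Algebra.algebraMap_self, RingHom.id_apply] at h
  exact h

theorem ringHom_ext_X_C (𝔫 : Ideal A') (N : ℕ) (hN : 𝔫 ^ N = ⊥)
    (φ₁ φ₂ : MvPowerSeries σ Λ →+* A')
    (h1 : ∀ s, φ₁ (X s) ∈ 𝔫) (hX : ∀ s, φ₁ (X s) = φ₂ (X s)) (hC : ∀ c, φ₁ (C c) = φ₂ (C c)) :
    φ₁ = φ₂ := by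
  letI : Algebra Λ A' := (φ₁.comp (C : Λ →+* MvPowerSeries σ Λ)).toAlgebra
  have hc : ∀ c : Λ, algebraMap Λ (MvPowerSeries σ Λ) c = C c := by
    intro c
    rw [MvPowerSeries.algebraMap_apply, Algebra.algebraMap_self, RingHom.id_apply]
  have hc1 : ∀ c : Λ, φ₁ (algebraMap Λ (MvPowerSeries σ Λ) c) = algebraMap Λ A' c := by
    intro c
    rw [hc]
    rfl
  have hc2 : ∀ c : Λ, φ₂ (algebraMap Λ (MvPowerSeries σ Λ) c) = algebraMap Λ A' c := by
    intro c
    rw [hc, ← hC]
    rfl
  let ψ₁ : MvPowerSeries σ Λ →ₐ[Λ] A' := AlgHom.mk φ₁ hc1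
  let ψ₂ : MvPowerSeries σ Λ →ₐ[Λ] A' := AlgHom.mk φ₂ hc2
  have := Groth.Agent.Lib.Helper19.algHom_ext_of_X (Λ := Λ) 𝔫 N hN ψ₁ ψ₂ h1 hX
  ext t
  exact AlgHom.congr_fun this t

end PS

/-- Ideals of a Noetherian local ring are closed for the adic topology of the maximal ideal. -/
theorem mem_of_forall_mem_sup_pow {R : Type u} [CommRing R] [IsNoetherianRing R] [IsLocalRing R]
    (J : Ideal R) (x : R) (hx : ∀ n : ℕ, x ∈ J ⊔ maximalIdeal R ^ n) : x ∈ J := by
  have h := Ideal.iInf_pow_smul_eq_bot_of_isLocalRing (I := maximalIdeal R)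
    (M := R ⧸ J) (maximalIdeal.isMaximal R).ne_top
  have hmem : Ideal.Quotient.mk J x ∈
      (⨅ i : ℕ, maximalIdeal R ^ i • ⊤ : Submodule R (R ⧸ J)) := by
    rw [Submodule.mem_iInf]
    intro i
    obtain ⟨j, hj, y, hy, rfl⟩ := Submodule.mem_sup.1 (hx i)
    have h1 : Ideal.Quotient.mk J (j + y) = y • (Ideal.Quotient.mk J 1) := by
      rw [map_add, Ideal.Quotient.eq_zero_iff_mem.2 hj, zero_add]
      show _ = Ideal.Quotient.mk J (y * 1)
      rw [mul_one]
    rw [h1]
    exact Submodule.smul_mem_smul hy Submodule.mem_top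
  rw [h] at hmem
  exact Ideal.Quotient.eq_zero_iff_mem.1 ((Submodule.mem_bot _).1 hmem)

section Setting

variable (A B : Type u) [CommRing A] [IsLocalRing A] [IsNoetherianRing A]
  [CommRing B] [IsLocalRing B] [IsNoetherianRing B] [Algebra A B] [IsLocalHom (algebraMap A B)]

theorem map_le : (maximalIdeal A).map (algebraMap A B) ≤ maximalIdeal B :=
  ((IsLocalRing.local_hom_TFAE (algebraMap A B)).out 0 2).mp ‹IsLocalHom (algebraMap A B)›

theorem map_pow_le (n : ℕ) : (maximalIdeal A ^ n).map (algebraMap A B) ≤ maximalIdeal B ^ n := by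
  rw [Ideal.map_pow]
  exact Ideal.pow_right_mono (map_le A B) n

/-- The completed structure map. -/
noncomputable def hatMap :
    AdicCompletion (maximalIdeal A) A →+* AdicCompletion (maximalIdeal B) B :=
  FSch.complMap (maximalIdeal A) (maximalIdeal B) (algebraMap A B) (map_le A B)

theorem evalₐ_hatMap (n : ℕ) (x : AdicCompletion (maximalIdeal A) A) :
    AdicCompletion.evalₐ (maximalIdeal B) n (hatMap A B x) =
      Ideal.quotientMap (maximalIdeal B ^ n) (algebraMap A B)
        (FSch.pow_le_comap_pow_of_map_le _ _ _ (map_le A B) n)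
        (AdicCompletion.evalₐ (maximalIdeal A) n x) :=
  Groth.Agent.Lib.Helper19.evalₐ_complMap _ _ _ (map_le A B) n x

theorem evalₐ_algebraMap (n : ℕ) (a : A) :
    AdicCompletion.evalₐ (maximalIdeal B) n
      (algebraMap A (AdicCompletion (maximalIdeal B) B) a) =
      Ideal.Quotient.mk _ (algebraMap A B a) := by
  rw [AdicCompletion.algebraMap_apply, AdicCompletion.evalₐ_of]

theorem hatMap_algebraMap (a : A) :
    hatMap A B (algebraMap A (AdicCompletion (maximalIdeal A) A) a) =
      algebraMap A (AdicCompletion (maximalIdeal B) B) a := by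
  apply AdicCompletion.ext_evalₐ
  intro n
  rw [evalₐ_hatMap, evalₐ_algebraMap, AdicCompletion.algebraMap_apply, AdicCompletion.evalₐ_of,
    Algebra.algebraMap_self, RingHom.id_apply, Ideal.quotientMap_mk]

end Setting

section Lim

variable {R : Type u} [CommRing R] (I : Ideal R)

/-- The limit in the adic completion of a sequence with `w (n+1) - w n ∈ I^(n+1)`. -/
noncomputable def lim (w : ℕ → R) (hw : ∀ n, w (n + 1) - w n ∈ I ^ (n + 1)) :
    AdicCompletion I R :=
  AdicCompletion.mk I R (AdicCompletion.AdicCauchySequence.mk I R w (fun n => by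
    rw [SModEq.sub_mem, smul_eq_mul, Ideal.mul_top]
    have h1 : w n - w (n + 1) = -(w (n + 1) - w n) := by ring
    rw [h1]
    exact (I ^ n).neg_mem (Ideal.pow_le_pow_right (Nat.le_succ n) (hw n))))

theorem evalₐ_lim (w : ℕ → R) (hw : ∀ n, w (n + 1) - w n ∈ I ^ (n + 1)) (n : ℕ) :
    AdicCompletion.evalₐ I n (lim I w hw) = Ideal.Quotient.mk (I ^ n) (w n) := by
  unfold lim
  rw [AdicCompletion.evalₐ_mk]
  rfl

theorem sub_mem_of_le (w : ℕ → R) (hw : ∀ n, w (n + 1) - w n ∈ I ^ (n + 1)) {m n : ℕ}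
    (hmn : m ≤ n) : w n - w m ∈ I ^ (m + 1) := by
  induction n, hmn using Nat.le_induction with
  | base => simp
  | succ n hmn ih =>
    have h1 : w (n + 1) - w m = (w (n + 1) - w n) + (w n - w m) := by ring
    rw [h1]
    exact Ideal.add_mem _ (Ideal.pow_le_pow_right (by omega) (hw n)) ih

theorem factorPow_evalₐ {m n : ℕ} (hle : m ≤ n) (y : AdicCompletion I R) :
    Ideal.Quotient.factorPow I hle (AdicCompletion.evalₐ I n y) = AdicCompletion.evalₐ I m y := by
  obtain ⟨f, rfl⟩ := AdicCompletion.mk_surjective I R y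
  simp only [AdicCompletion.evalₐ_mk, Ideal.Quotient.factorPow, Ideal.Quotient.factor_mk]
  rw [Ideal.Quotient.eq]
  have hy := f.2 hle
  rw [SModEq.sub_mem] at hy
  simp only [smul_eq_mul, Ideal.mul_top] at hy
  have h1 : (f : ℕ → R) n - (f : ℕ → R) m = -((f : ℕ → R) m - (f : ℕ → R) n) := by ring
  rw [h1]
  exact (I ^ m).neg_mem hy

end Lim

section Main

variable (A B : Type u) [CommRing A] [IsLocalRing A] [IsNoetherianRing A]
  [CommRing B] [IsLocalRing B] [IsNoetherianRing B] [Algebra A B] [IsLocalHom (algebraMap A B)]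

theorem algebraMap_eq_comp :
    algebraMap A (AdicCompletion (maximalIdeal B) B) =
      (algebraMap B (AdicCompletion (maximalIdeal B) B)).comp (algebraMap A B) := by
  ext a
  rw [RingHom.comp_apply, AdicCompletion.algebraMap_apply, AdicCompletion.algebraMap_apply,
    Algebra.algebraMap_self, RingHom.id_apply]

theorem evalₐ_mem_of_mem_maximalIdeal (n : ℕ) (y : AdicCompletion (maximalIdeal B) B)
    (hy : y ∈ maximalIdeal (AdicCompletion (maximalIdeal B) B)) :
    AdicCompletion.evalₐ (maximalIdeal B) n y ∈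
      (maximalIdeal B).map (Ideal.Quotient.mk (maximalIdeal B ^ n)) := by
  rw [AdicCompletion.maximalIdeal_eq_map] at hy
  have h1 := Ideal.mem_map_of_mem (AdicCompletion.evalₐ (maximalIdeal B) n).toRingHom hy
  rw [Ideal.map_map] at h1
  have h2 : (AdicCompletion.evalₐ (maximalIdeal B) n).toRingHom.comp
      (algebraMap B (AdicCompletion (maximalIdeal B) B)) =
      Ideal.Quotient.mk (maximalIdeal B ^ n) := by
    ext b
    exact (AdicCompletion.evalₐ (maximalIdeal B) n).commutes b
  rw [h2] at h1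
  exact h1

/-- The ring hom `Â[[x,y]] → B̂` attached to two elements of the maximal ideal of `B̂`. -/
theorem exists_psi (w : Fin 2 → AdicCompletion (maximalIdeal B) B)
    (hw : ∀ s, w s ∈ maximalIdeal (AdicCompletion (maximalIdeal B) B)) :
    ∃ Ψ : MvPowerSeries (Fin 2) (AdicCompletion (maximalIdeal A) A) →+*
        AdicCompletion (maximalIdeal B) B,
      (∀ s, Ψ (X s) = w s) ∧ ∀ c, Ψ (C c) = hatMap A B c := by
  have hnil : ∀ n : ℕ, ((maximalIdeal B).map (Ideal.Quotient.mk (maximalIdeal B ^ n))) ^ n = ⊥ := by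
    intro n
    rw [← Ideal.map_pow, Ideal.map_quotient_self]
  choose φ hφX hφC using fun n : ℕ =>
    exists_ringHom_X_C (σ := Fin 2)
      ((AdicCompletion.evalₐ (maximalIdeal B) n).toRingHom.comp (hatMap A B))
      ((maximalIdeal B).map (Ideal.Quotient.mk (maximalIdeal B ^ n))) n (hnil n)
      (fun s => AdicCompletion.evalₐ (maximalIdeal B) n (w s))
      (fun s => evalₐ_mem_of_mem_maximalIdeal B n (w s) (hw s))
  have hcompat : ∀ {m n : ℕ} (hle : m ≤ n),
      (Ideal.Quotient.factorPow (maximalIdeal B) hle).comp (φ n) = φ m := by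
    intro m n hle
    apply ringHom_ext_X_C ((maximalIdeal B).map (Ideal.Quotient.mk (maximalIdeal B ^ m))) m (hnil m)
    · intro s
      rw [RingHom.comp_apply, hφX, factorPow_evalₐ]
      exact evalₐ_mem_of_mem_maximalIdeal B m (w s) (hw s)
    · intro s
      rw [RingHom.comp_apply, hφX, hφX, factorPow_evalₐ]
    · intro c
      rw [RingHom.comp_apply, hφC, hφC]
      exact factorPow_evalₐ _ hle _
  refine ⟨AdicCompletion.liftRingHom (maximalIdeal B) φ hcompat, fun s => ?_, fun c => ?_⟩
  · apply AdicCompletion.ext_evalₐ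
    intro n
    rw [AdicCompletion.evalₐ_liftRingHom, hφX]
  · apply AdicCompletion.ext_evalₐ
    intro n
    rw [AdicCompletion.evalₐ_liftRingHom, hφC]
    rfl

theorem map_algebraMap_le :
    (maximalIdeal A).map (algebraMap A (AdicCompletion (maximalIdeal B) B)) ≤
      maximalIdeal (AdicCompletion (maximalIdeal B) B) := by
  rw [algebraMap_eq_comp, ← Ideal.map_map, AdicCompletion.maximalIdeal_eq_map]
  exact Ideal.map_mono (map_le A B)

theorem hatMap_mem (c : AdicCompletion (maximalIdeal A) A)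
    (hc : c ∈ maximalIdeal (AdicCompletion (maximalIdeal A) A)) :
    hatMap A B c ∈ (maximalIdeal A).map (algebraMap A (AdicCompletion (maximalIdeal B) B)) := by
  rw [AdicCompletion.maximalIdeal_eq_map] at hc
  have h1 := Ideal.mem_map_of_mem (hatMap A B) hc
  rw [Ideal.map_map] at h1
  have h2 : (hatMap A B).comp (algebraMap A (AdicCompletion (maximalIdeal A) A)) =
      algebraMap A (AdicCompletion (maximalIdeal B) B) :=
    RingHom.ext fun a => hatMap_algebraMap A B a
  rwa [h2] at h1

theorem sub_zero_mem {S : Type u} [CommRing S] (J : Ideal S) (w : ℕ → S)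
    (hw : ∀ n, w (n + 1) - w n ∈ J) (n : ℕ) : w n - w 0 ∈ J := by
  induction n with
  | zero => simp
  | succ n ih =>
    have h1 : w (n + 1) - w 0 = (w (n + 1) - w n) + (w n - w 0) := by ring
    rw [h1]
    exact J.add_mem (hw n) ih

theorem lim_sub_mem (w : ℕ → B)
    (hw : ∀ n, w (n + 1) - w n ∈ (maximalIdeal A ^ (n + 1)).map (algebraMap A B)) :
    lim (maximalIdeal B) w (fun n => map_pow_le A B (n + 1) (hw n)) -
        algebraMap B (AdicCompletion (maximalIdeal B) B) (w 0) ∈
      (maximalIdeal A).map (algebraMap A (AdicCompletion (maximalIdeal B) B)) := by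
  haveI : IsNoetherianRing (AdicCompletion (maximalIdeal B) B) :=
    Groth.Agent.Lib.Helper19.isNoetherianRing_adicCompletion _
  apply mem_of_forall_mem_sup_pow
  intro n
  have h1 : lim (maximalIdeal B) w (fun n => map_pow_le A B (n + 1) (hw n)) -
        algebraMap B (AdicCompletion (maximalIdeal B) B) (w 0) =
      algebraMap B (AdicCompletion (maximalIdeal B) B) (w n - w 0) +
        (lim (maximalIdeal B) w (fun n => map_pow_le A B (n + 1) (hw n)) -
          algebraMap B (AdicCompletion (maximalIdeal B) B) (w n)) := by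
    rw [map_sub]; ring
  rw [h1]
  apply Submodule.add_mem_sup
  · have h2 : w n - w 0 ∈ (maximalIdeal A).map (algebraMap A B) :=
      sub_zero_mem _ w (fun k => Ideal.map_mono (Ideal.pow_le_self (by omega)) (hw k)) n
    rw [algebraMap_eq_comp, ← Ideal.map_map]
    exact Ideal.mem_map_of_mem _ h2
  · rw [AdicCompletion.maximalIdeal_eq_map, ← Ideal.map_pow]
    apply Groth.Agent.Lib.Helper19.mem_map_pow_of_evalₐ_eq_zero _ (IsNoetherian.noetherian _) n
    rw [map_sub, evalₐ_lim, AdicCompletion.algebraMap_apply, AdicCompletion.evalₐ_of,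
      Algebra.algebraMap_self, RingHom.id_apply, sub_self]

theorem lim_mem_maximalIdeal {R : Type u} [CommRing R] [IsLocalRing R] [IsNoetherianRing R]
    (w : ℕ → R) (hw : ∀ n, w (n + 1) - w n ∈ maximalIdeal R ^ (n + 1))
    (h1 : w 1 ∈ maximalIdeal R) :
    lim (maximalIdeal R) w hw ∈ maximalIdeal (AdicCompletion (maximalIdeal R) R) := by
  rw [AdicCompletion.maximalIdeal_eq_map,
    ← AdicCompletion.ker_evalOneₐ_eq_map _ (IsNoetherian.noetherian _), RingHom.mem_ker]
  change AdicCompletion.evalOneₐ (maximalIdeal R) (lim (maximalIdeal R) w hw) = 0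
  unfold AdicCompletion.evalOneₐ
  rw [AlgHom.comp_apply, evalₐ_lim, Ideal.Quotient.factorₐ_apply_mk]
  exact Ideal.Quotient.eq_zero_iff_mem.mpr h1

end Main

end Groth.Agent.Lib.Seat90.NodeCompl
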