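import Mathlib
import Groth.Prelude
import Groth.Agent.Lib.Seat90NodeCompl2

/-!
# Injectivity of the surjection `Â[[x,y]]/(xy - α) → B̂` in the flat case: general lemmas
-/

set_option autoImplicit false
set_option linter.unusedSectionVars false

universe u v w

open MvPowerSeries IsLocalRing

namespace Groth.Agent.Lib.Seat90.NodeCompl

/-- A power series all of whose coefficients lie in a finitely generated ideal `I` lies in the
extension of `I`. -/
theorem mem_map_C_of_coeff_mem {Λ : Type u} [CommRing Λ] {σ : Type v} (I : Ideal Λ) (hI : I.FG)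
    (t : MvPowerSeries σ Λ) (ht : ∀ β, coeff β t ∈ I) :
    t ∈ I.map (C : Λ →+* MvPowerSeries σ Λ) := by
  classical
  obtain ⟨r, g, hg⟩ := Submodule.fg_iff_exists_fin_generating_family.1 hI
  have hmem : ∀ β, ∃ d : Fin r → Λ, ∑ i, d i * g i = coeff β t := by
    intro β
    have h1 : coeff β t ∈ Ideal.span (Set.range g) := by
      rw [Ideal.span, hg]; exact ht β
    exact Ideal.mem_span_range_iff_exists_fun.mp h1
  choose d hd using hmem
  let D : Fin r → MvPowerSeries σ Λ := fun i β => d β i
  have ht' : t = ∑ i, C (g i) * D i := by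
    ext β
    rw [map_sum, ← hd β]
    refine Finset.sum_congr rfl fun i _ => ?_
    rw [coeff_C_mul, mul_comm]
    rfl
  rw [ht']
  refine Ideal.sum_mem _ fun i _ => Ideal.mul_mem_right _ _ (Ideal.mem_map_of_mem _ ?_)
  rw [← hg]
  exact Submodule.subset_span ⟨i, rfl⟩

/-- A surjective ring endomorphism of a Noetherian ring is injective. -/
theorem injective_of_surjective_endo {N : Type u} [CommRing N] [IsNoetherianRing N]
    (f : N →+* N) (hf : Function.Surjective f) : Function.Injective f := by
  let K : ℕ →o Ideal N :=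
    { toFun := fun n => RingHom.ker (f ^ n)
      monotone' := by
        intro m n hmn x hx
        rw [RingHom.mem_ker] at hx ⊢
        obtain ⟨k, rfl⟩ := Nat.exists_eq_add_of_le hmn
        rw [add_comm, pow_add, RingHom.mul_def, RingHom.comp_apply, hx, map_zero] }
  have hfall : ∀ m : ℕ, Function.Surjective (f ^ m) := by
    intro m
    induction m with
    | zero => intro x; exact ⟨x, rfl⟩
    | succ m ihm =>
      rw [pow_succ, RingHom.mul_def]
      exact ihm.comp hf
  obtain ⟨n, hn⟩ := monotone_stabilizes_iff_noetherian.mpr inferInstance K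
  have hfn : Function.Surjective (f ^ n) := hfall n
  rw [injective_iff_map_eq_zero]
  intro x hx
  obtain ⟨y, rfl⟩ := hfn x
  have h1 : y ∈ K (n + 1) := by
    change y ∈ RingHom.ker (f ^ (n + 1))
    rw [RingHom.mem_ker, pow_succ', RingHom.mul_def, RingHom.comp_apply]
    exact hx
  have h2 : y ∈ K n := by
    rw [hn (n + 1) (Nat.le_succ n)]
    exact h1
  exact h2

/-- Two surjections onto a Noetherian ring with comparable kernels have the same kernel. -/
theorem ker_le_of_surjective {S : Type u} {N : Type v} [CommRing S] [CommRing N]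
    [IsNoetherianRing N] (σ θ : S →+* N) (hσ : Function.Surjective σ)
    (hθ : Function.Surjective θ) (h : RingHom.ker σ ≤ RingHom.ker θ) :
    RingHom.ker θ ≤ RingHom.ker σ := by
  let θ' : N →+* N := RingHom.liftOfSurjective σ hσ ⟨θ, h⟩
  have hθ' : ∀ s, θ' (σ s) = θ s := fun s =>
    RingHom.liftOfRightInverse_comp_apply σ _ (Function.rightInverse_surjInv hσ) ⟨θ, h⟩ s
  have hsurj : Function.Surjective θ' := by
    intro y
    obtain ⟨s, rfl⟩ := hθ y
    exact ⟨σ s, hθ' s⟩
  have hinj := injective_of_surjective_endo θ' hsurj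
  intro s hs
  rw [RingHom.mem_ker] at hs ⊢
  apply hinj
  rw [hθ', hs, map_zero]

/-- Flatness of the target: an element of the kernel which is a combination of the `g i` is
a combination of the `g i` with coefficients in the kernel. -/
theorem exists_ker_coeffs_of_flat {A : Type u} {S : Type v} {M : Type w} [CommRing A]
    [CommRing S] [Algebra A S] [AddCommGroup M] [Module A M] [Module.Flat A M]
    (ψ : S →ₗ[A] M) (hψ : Function.Surjective ψ) {r : ℕ} (g : Fin r → A) (x : Fin r → S)
    (hs : ψ (∑ i, g i • x i) = 0) :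
    ∃ k : Fin r → S, (∀ i, ψ (k i) = 0) ∧ ∑ i, g i • x i = ∑ i, g i • k i := by
  classical
  have h0 : ∑ i, g i • ψ (x i) = 0 := by
    rw [← hs, map_sum]
    exact Finset.sum_congr rfl fun i _ => (map_smul ψ _ _).symm
  obtain ⟨l, a, y, hxy, hga⟩ := Module.Flat.isTrivialRelation_of_sum_smul_eq_zero h0
  choose t ht using fun j => hψ (y j)
  refine ⟨fun i => x i - ∑ j, a i j • t j, fun i => ?_, ?_⟩
  · rw [map_sub, map_sum, show ψ (x i) = ∑ j, a i j • y j from hxy i, sub_eq_zero]
    exact Finset.sum_congr rfl fun j _ => by rw [map_smul, ht]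
  · have h1 : ∑ i, g i • ∑ j, a i j • t j = 0 := by
      simp_rw [Finset.smul_sum, smul_smul]
      rw [Finset.sum_comm]
      apply Finset.sum_eq_zero
      intro j _
      rw [← Finset.sum_smul, hga j, zero_smul]
    simp_rw [smul_sub]
    rw [Finset.sum_sub_distrib, h1, sub_zero]

end Groth.Agent.Lib.Seat90.NodeCompl
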