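import Mathlib
import Groth.Agent.Lib.Seat90NodeCompl3
import Groth.Agent.Lib.Helper19CohenStructure
import Groth.Prelude.Def_W4c1arstab1appArSing

/-!
Seat71NodeEqA: generic algebra for the node deformation isomorphism over complete rings:
injectivity from flatness, coefficientwise reduction of `Λ[[x,y]]/(xy - α)`, and a surjection from
the node `k[[x,y]]/(y^2-x^2)` onto `k[[x,y]]/(xy)`.
-/

set_option autoImplicit false
set_option linter.unusedSectionVars false
set_option linter.style.haveILetI false
universe u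

namespace Groth.Agent.Lib.Seat71.NodeEqA

open IsLocalRing MvPowerSeries Groth.Agent.Lib.Seat90.NodeCompl

section Flat

variable {R N S : Type u} [CommRing R] [IsLocalRing R] [IsNoetherianRing R]
  [CommRing N] [IsNoetherianRing N] [Algebra R N] [CommRing S] [Algebra R S] [Module.Flat R S]

/-- A surjection `N → S` of `R`-algebras, `S` flat over the Noetherian local ring `R`, with kernel
inside `𝔪_R N ⊆ rad N`, is injective. -/
theorem injective_of_flat_of_ker_le (ψ : N →ₐ[R] S) (hψ : Function.Surjective ψ)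
    (hK : RingHom.ker ψ.toRingHom ≤ (maximalIdeal R).map (algebraMap R N))
    (hJ : (maximalIdeal R).map (algebraMap R N) ≤ Ideal.jacobson ⊥) :
    Function.Injective ψ := by
  obtain ⟨r, g, hg⟩ := Submodule.fg_iff_exists_fin_generating_family.1
    (IsNoetherian.noetherian (maximalIdeal R))
  have hMspan : (maximalIdeal R).map (algebraMap R N) =
      Ideal.span (Set.range fun i => algebraMap R N (g i)) := by
    have h1 : (maximalIdeal R).map (algebraMap R N) =
        (Ideal.span (Set.range g)).map (algebraMap R N) :=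
      congrArg (Ideal.map (algebraMap R N)) hg.symm
    rw [h1, Ideal.map_span, ← Set.range_comp]
    rfl
  have hKle : RingHom.ker ψ.toRingHom ≤
      (maximalIdeal R).map (algebraMap R N) • RingHom.ker ψ.toRingHom := by
    intro s hs
    have hsM := hK hs
    rw [hMspan] at hsM
    obtain ⟨c, hc⟩ := Ideal.mem_span_range_iff_exists_fun.mp hsM
    have hsum : s = ∑ i, g i • c i := by
      rw [← hc]
      refine Finset.sum_congr rfl fun i _ => ?_
      exact (mul_comm (c i) _).trans (Algebra.smul_def (g i) (c i)).symm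
    have hψs : ψ.toLinearMap (∑ i, g i • c i) = 0 := by
      rw [← hsum]; exact hs
    obtain ⟨k, hk, hkeq⟩ := exists_ker_coeffs_of_flat ψ.toLinearMap hψ g c hψs
    rw [hsum, hkeq]
    refine Submodule.sum_mem _ fun i _ => ?_
    rw [Algebra.smul_def (g i) (k i)]
    have hgi : g i ∈ maximalIdeal R := by
      rw [← hg]; exact Submodule.subset_span ⟨i, rfl⟩
    have hki : k i ∈ RingHom.ker ψ.toRingHom := hk i
    exact Submodule.smul_mem_smul (Ideal.mem_map_of_mem (algebraMap R N) hgi) hki
  have hbot : RingHom.ker ψ.toRingHom = ⊥ :=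
    Submodule.eq_bot_of_le_smul_of_le_jacobson_bot _ _ (IsNoetherian.noetherian _) hKle hJ
  exact (RingHom.injective_iff_ker_eq_bot ψ.toRingHom).mpr hbot

end Flat

section Red

variable {Λ κ : Type u} [CommRing Λ] [CommRing κ] (r : Λ →+* κ) (hr : Function.Surjective r)
  (hfg : (RingHom.ker r).FG) (α : Λ) (hα : r α = 0)

include hr hfg hα in
/-- The coefficientwise reduction `Λ[[x,y]]/(xy - α) → κ[[x,y]]/(xy)` and its kernel. -/
theorem exists_red :
    ∃ σ : (MvPowerSeries (Fin 2) Λ ⧸ Ideal.span
          {(X 0 * X 1 - C α : MvPowerSeries (Fin 2) Λ)}) →+*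
        (MvPowerSeries (Fin 2) κ ⧸ Ideal.span {(X 0 * X 1 : MvPowerSeries (Fin 2) κ)}),
      Function.Surjective σ ∧
        RingHom.ker σ ≤ (RingHom.ker r).map (algebraMap Λ _) := by
  let σ₀ : MvPowerSeries (Fin 2) Λ →+* MvPowerSeries (Fin 2) κ := MvPowerSeries.map r
  have hσ₀surj : Function.Surjective σ₀ := by
    intro g
    choose c hc using hr
    refine ⟨fun β => c (coeff β g), ?_⟩
    ext β
    rw [coeff_map]
    exact hc _
  have hσ₀gen : σ₀ (X 0 * X 1 - C α) = X 0 * X 1 := by
    rw [map_sub, map_mul, MvPowerSeries.map_X, MvPowerSeries.map_X, MvPowerSeries.map_C, hα,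
      map_zero, sub_zero]
  have hkill : ∀ t ∈ Ideal.span {(X 0 * X 1 - C α : MvPowerSeries (Fin 2) Λ)},
      ((Ideal.Quotient.mk (Ideal.span {(X 0 * X 1 :
        MvPowerSeries (Fin 2) κ)})).comp σ₀) t = 0 := by
    intro t ht
    rw [Ideal.mem_span_singleton] at ht
    obtain ⟨c, rfl⟩ := ht
    rw [RingHom.comp_apply, map_mul, hσ₀gen, Ideal.Quotient.eq_zero_iff_mem]
    exact Ideal.mul_mem_right _ _ (Ideal.subset_span rfl)
  refine ⟨Ideal.Quotient.lift _ _ hkill, ?_, ?_⟩
  · apply Ideal.Quotient.lift_surjective_of_surjective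
    exact Ideal.Quotient.mk_surjective.comp hσ₀surj
  · intro s hs
    obtain ⟨t, rfl⟩ := Ideal.Quotient.mk_surjective s
    rw [RingHom.mem_ker, Ideal.Quotient.lift_mk, RingHom.comp_apply,
      Ideal.Quotient.eq_zero_iff_mem, Ideal.mem_span_singleton] at hs
    obtain ⟨g, hg⟩ := hs
    obtain ⟨g', rfl⟩ := hσ₀surj g
    have h1 : σ₀ (t - (X 0 * X 1 - C α) * g') = 0 := by
      rw [map_sub, map_mul, hσ₀gen, hg, sub_self]
    have h2 : t - (X 0 * X 1 - C α) * g' ∈
        (RingHom.ker r).map (C : _ →+* MvPowerSeries (Fin 2) Λ) := by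
      apply mem_map_C_of_coeff_mem _ hfg
      intro β
      rw [RingHom.mem_ker]
      have := congrArg (coeff β) h1
      rwa [coeff_map, map_zero] at this
    have h3 : Ideal.Quotient.mk (Ideal.span {(X 0 * X 1 - C α :
        MvPowerSeries (Fin 2) Λ)}) t =
        Ideal.Quotient.mk _ (t - (X 0 * X 1 - C α) * g') := by
      rw [Ideal.Quotient.eq]
      have : t - (t - (X 0 * X 1 - C α) * g') = (X 0 * X 1 - C α) * g' := by ring
      rw [this]
      exact Ideal.mul_mem_right _ _ (Ideal.subset_span rfl)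
    rw [h3]
    have h4 := Ideal.mem_map_of_mem (Ideal.Quotient.mk (Ideal.span {(X 0 * X 1 - C α :
        MvPowerSeries (Fin 2) Λ)})) h2
    rw [Ideal.map_map] at h4
    convert h4 using 2
    refine RingHom.ext fun a => ?_
    rw [RingHom.comp_apply]
    rfl

end Red

section Surj

open Groth.Agent.Lib.Helper19

variable {Λ A : Type u} [CommRing Λ] [IsLocalRing Λ] [IsAdicComplete (maximalIdeal Λ) Λ]
  [CommRing A] [IsLocalRing A] [IsAdicComplete (maximalIdeal A) A] [Algebra Λ A]

/-- An evaluation map from a power series ring over a complete local ring `Λ` to a complete local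
`Λ`-algebra `A` is surjective as soon as `Λ` hits the residue field and the images of the variables
generate the maximal ideal of `A` modulo `𝔪_Λ A`. -/
theorem surjective_ev (n : ℕ) (ev : MvPowerSeries (Fin n) Λ →ₐ[Λ] A)
    (hgen : maximalIdeal A = Ideal.span (Set.range fun s => ev (X s)) ⊔
      (maximalIdeal Λ).map (algebraMap Λ A))
    (hres : ∀ r : A, ∃ l : Λ, r - algebraMap Λ A l ∈ maximalIdeal A) :
    Function.Surjective ev := by
  have hC : ∀ l : Λ, ev (C l) = algebraMap Λ A l := by
    intro l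
    have h2 : (C l : MvPowerSeries (Fin n) Λ) = algebraMap Λ (MvPowerSeries (Fin n) Λ) l := by
      rw [MvPowerSeries.algebraMap_apply, Algebra.algebraMap_self, RingHom.id_apply]
    rw [h2]
    exact ev.commutes l
  have hXmem : ∀ s, ev (X s) ∈ maximalIdeal A := fun s => by
    rw [hgen]
    exact Ideal.mem_sup_left (Ideal.subset_span ⟨s, rfl⟩)
  have hloc : ∀ x ∈ maximalIdeal Λ, algebraMap Λ A x ∈ maximalIdeal A := fun x hx => by
    rw [hgen]
    exact Ideal.mem_sup_right (Ideal.mem_map_of_mem _ hx)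
  have hvars : Ideal.map (ev : MvPowerSeries (Fin n) Λ →+* A) (varsIdeal (Fin n) Λ) =
      Ideal.span (Set.range fun s => ev (X s)) := by
    rw [varsIdeal, Ideal.map_span, ← Set.range_comp]
    rfl
  have hmapeq : Ideal.map (ev : MvPowerSeries (Fin n) Λ →+* A)
      (maximalIdeal (MvPowerSeries (Fin n) Λ)) = maximalIdeal A := by
    apply le_antisymm
    · rw [Ideal.map_le_iff_le_comap]
      intro g hg
      rw [Ideal.mem_comap]
      rw [maximalIdeal_eq_coeffIdeal, mem_coeffIdeal_one] at hg
      have h1 : g - C (constantCoeff g) ∈ varsIdeal (Fin n) Λ ^ 1 := by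
        apply mem_varsIdeal_pow_of_coeff_eq_zero
        intro α hα
        have hα0 : α = 0 := by
          rw [Nat.lt_one_iff] at hα
          exact (Finsupp.degree_eq_zero_iff α).1 hα
        rw [hα0, map_sub, coeff_zero_eq_constantCoeff_apply, coeff_zero_eq_constantCoeff_apply,
          constantCoeff_C, sub_self]
      rw [pow_one] at h1
      have h2 : (ev : MvPowerSeries (Fin n) Λ →+* A) (g - C (constantCoeff g)) ∈ maximalIdeal A := by
        have h3 := Ideal.mem_map_of_mem (ev : MvPowerSeries (Fin n) Λ →+* A) h1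
        rw [hvars] at h3
        rw [hgen]
        exact Ideal.mem_sup_left h3
      have h3 : (ev : MvPowerSeries (Fin n) Λ →+* A) g =
          (ev : MvPowerSeries (Fin n) Λ →+* A) (g - C (constantCoeff g)) +
            ev (C (constantCoeff g)) := by
        rw [map_sub]
        change ev g = ev g - ev (C (constantCoeff g)) + ev (C (constantCoeff g))
        ring
      rw [h3, hC]
      exact Ideal.add_mem _ h2 (hloc _ hg)
    · rw [hgen]
      refine sup_le ?_ ?_
      · rw [← hvars]
        apply Ideal.map_mono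
        rw [varsIdeal, Ideal.span_le]
        rintro _ ⟨s, rfl⟩
        rw [SetLike.mem_coe, IsLocalRing.mem_maximalIdeal, mem_nonunits_iff,
          MvPowerSeries.isUnit_iff_constantCoeff]
        simp
      · rw [Ideal.map_le_iff_le_comap]
        intro l hl
        rw [Ideal.mem_comap, ← hC]
        apply Ideal.mem_map_of_mem
        rw [maximalIdeal_eq_coeffIdeal, mem_coeffIdeal_one, constantCoeff_C]
        exact hl
  haveI : IsHausdorff (Ideal.map (ev : MvPowerSeries (Fin n) Λ →+* A)
      (maximalIdeal (MvPowerSeries (Fin n) Λ))) A := by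
    rw [hmapeq]
    infer_instance
  haveI : IsPrecomplete (maximalIdeal (MvPowerSeries (Fin n) Λ)) (MvPowerSeries (Fin n) Λ) :=
    (isAdicComplete_mvPowerSeries (Λ := Λ) (σ := Fin n)).toIsPrecomplete
  apply surjective_of_mk_map_comp_surjective
    (ev : MvPowerSeries (Fin n) Λ →+* A) (I := maximalIdeal (MvPowerSeries (Fin n) Λ))
  intro y
  obtain ⟨r, rfl⟩ := Ideal.Quotient.mk_surjective y
  obtain ⟨l, hl⟩ := hres r
  refine ⟨C l, ?_⟩
  rw [RingHom.comp_apply, Ideal.Quotient.eq, hmapeq]
  change ev (C l) - r ∈ maximalIdeal A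
  rw [hC, ← neg_sub]
  exact (Ideal.neg_mem_iff _).2 hl

end Surj

section Rho

open Groth.Agent.Lib.Helper19 Groth.Agent.Lib.Helper19.CohenStructure

variable {k : Type u} [Field k]

/-- The node `k[[x,y]]/(y^2-x^2)` surjects onto `k[[x,y]]/(xy)` (characteristic not two). -/
theorem exists_rho (h2 : (2 : k) ≠ 0) :
    ∃ ρ : ArSing.ring k 1 →+*
        (MvPowerSeries (Fin 2) k ⧸ Ideal.span {(X 0 * X 1 : MvPowerSeries (Fin 2) k)}),
      Function.Surjective ρ := by
  haveI : IsAdicComplete (maximalIdeal k) k := by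
    rw [IsLocalRing.maximalIdeal_eq_bot]
    infer_instance
  haveI : IsAdicComplete (maximalIdeal (MvPowerSeries (Fin 2) k)) (MvPowerSeries (Fin 2) k) :=
    isAdicComplete_mvPowerSeries
  set a : Fin 2 → MvPowerSeries (Fin 2) k :=
    ![C (2 : k)⁻¹ * (X 1 - X 0), C (2 : k)⁻¹ * (X 1 + X 0)] with ha_def
  have ha : ∀ s, a s ∈ maximalIdeal (MvPowerSeries (Fin 2) k) := by
    intro s
    rw [IsLocalRing.mem_maximalIdeal, mem_nonunits_iff, MvPowerSeries.isUnit_iff_constantCoeff]
    fin_cases s <;> simp [ha_def]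
  obtain ⟨ev, hev⟩ := exists_algHom_X_eq_of_isAdicComplete (Λ := k)
    (maximalIdeal (MvPowerSeries (Fin 2) k)) 2 a ha
  have hev0 : ev (X 0) = C (2 : k)⁻¹ * (X 1 - X 0) := hev 0
  have hev1 : ev (X 1) = C (2 : k)⁻¹ * (X 1 + X 0) := hev 1
  have hC2 : (C (2 : k)⁻¹ : MvPowerSeries (Fin 2) k) * 2 = 1 := by
    have : (2 : MvPowerSeries (Fin 2) k) = C (2 : k) := (map_ofNat C 2).symm
    rw [this, ← map_mul, inv_mul_cancel₀ h2, map_one]
  have hsurj : Function.Surjective ev := by
    apply surjective_ev 2 ev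
    · rw [IsLocalRing.maximalIdeal_eq_bot (R := k), Ideal.map_bot, sup_bot_eq]
      apply le_antisymm
      · intro f hf
        rw [IsLocalRing.mem_maximalIdeal, mem_nonunits_iff, MvPowerSeries.isUnit_iff_constantCoeff,
          isUnit_iff_ne_zero, not_not] at hf
        have h1 := mem_varsIdeal_pow_of_coeff_eq_zero 1 f (by
          intro α hα
          have h0 : α = 0 := by
            rw [Nat.lt_one_iff] at hα
            exact (Finsupp.degree_eq_zero_iff α).1 hα
          rw [h0, coeff_zero_eq_constantCoeff_apply, hf])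
        rw [pow_one] at h1
        refine (Ideal.span_le.2 ?_) h1
        rintro _ ⟨s, rfl⟩
        have hX0 : (X 0 : MvPowerSeries (Fin 2) k) = ev (X 1) - ev (X 0) := by
          rw [hev0, hev1]; linear_combination (-(X 0 : MvPowerSeries (Fin 2) k)) * hC2
        have hX1 : (X 1 : MvPowerSeries (Fin 2) k) = ev (X 1) + ev (X 0) := by
          rw [hev0, hev1]; linear_combination (-(X 1 : MvPowerSeries (Fin 2) k)) * hC2
        fin_cases s
        · change (X 0 : MvPowerSeries (Fin 2) k) ∈ _
          rw [hX0]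
          exact sub_mem (Ideal.subset_span ⟨1, rfl⟩) (Ideal.subset_span ⟨0, rfl⟩)
        · change (X 1 : MvPowerSeries (Fin 2) k) ∈ _
          rw [hX1]
          exact add_mem (Ideal.subset_span ⟨1, rfl⟩) (Ideal.subset_span ⟨0, rfl⟩)
      · rw [Ideal.span_le]
        rintro _ ⟨s, rfl⟩
        change ev (X s) ∈ _
        rw [hev]
        exact ha s
    · intro r
      refine ⟨constantCoeff r, ?_⟩
      rw [IsLocalRing.mem_maximalIdeal, mem_nonunits_iff, MvPowerSeries.isUnit_iff_constantCoeff,
        map_sub, MvPowerSeries.algebraMap_apply, Algebra.algebraMap_self, RingHom.id_apply,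
        constantCoeff_C, sub_self]
      exact not_isUnit_zero
  have hkill : ∀ t ∈ Ideal.span {ArSing.eqn k 1},
      ((Ideal.Quotient.mk (Ideal.span {(X 0 * X 1 : MvPowerSeries (Fin 2) k)})).comp
        (ev : MvPowerSeries (Fin 2) k →+* MvPowerSeries (Fin 2) k)) t = 0 := by
    intro t ht
    rw [Ideal.mem_span_singleton] at ht
    obtain ⟨c, rfl⟩ := ht
    rw [RingHom.comp_apply, map_mul, Ideal.Quotient.eq_zero_iff_mem]
    refine Ideal.mul_mem_right _ _ ?_
    have : (ev : MvPowerSeries (Fin 2) k →+* MvPowerSeries (Fin 2) k) (ArSing.eqn k 1) =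
        X 0 * X 1 := by
      unfold ArSing.eqn
      change ev (X 1 ^ 2 - X 0 ^ (1 + 1)) = _
      rw [map_sub, map_pow, map_pow, hev0, hev1]
      linear_combination (C (2 : k)⁻¹ * 2 * X 0 * X 1 + X 0 * X 1) * hC2
    rw [this]
    exact Ideal.subset_span rfl
  refine ⟨Ideal.Quotient.lift _ _ hkill, ?_⟩
  apply Ideal.Quotient.lift_surjective_of_surjective
  exact Ideal.Quotient.mk_surjective.comp hsurj

end Rho

end Groth.Agent.Lib.Seat71.NodeEqA
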