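import Mathlib
import Groth.Agent.Lib.Seat71NodalA
import Groth.Agent.Lib.Seat71NodalB
import Groth.Agent.Lib.Seat71NodeEqA
import Groth.Agent.Lib.Helper19CohenStructure

/-!
Seat71NodalC: a complete Noetherian local ring with coefficient field `κ`, embedding dimension two,
no socle, whose two generators satisfy a relation `f = Q + (order ≥ 3)` with `Q` a nondegenerate
binary quadratic form, is `κ[[X,Y]]/(f)`.  Consequence: `κ[[X,Y]]/(Q)` is reduced.
-/

set_option autoImplicit false
set_option linter.unusedSectionVars false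
set_option linter.style.haveILetI false
universe u

namespace Groth.Agent.Lib.Seat71.NodalC

open IsLocalRing MvPowerSeries Finsupp Groth.Agent.Lib.Seat71.NodalA Groth.Agent.Lib.Seat71.NodalB

section Core

variable {κ : Type u} [Field κ] {C : Type u} [CommRing C] [IsLocalRing C] [IsNoetherianRing C]
  [IsAdicComplete (maximalIdeal C) C] [Algebra κ C]

lemma ev_C (ev : MvPowerSeries (Fin 2) κ →ₐ[κ] C) (l : κ) :
    ev (MvPowerSeries.C l) = algebraMap κ C l := by
  have h3 : (MvPowerSeries.C l : MvPowerSeries (Fin 2) κ) =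
      algebraMap κ (MvPowerSeries (Fin 2) κ) l := by
    rw [MvPowerSeries.algebraMap_apply, Algebra.algebraMap_self, RingHom.id_apply]
  rw [h3]
  exact ev.commutes l

lemma mem_sq_of_jet (f : MvPowerSeries (Fin 2) κ) (a b c : κ)
    (hjet : ∀ e : Fin 2 →₀ ℕ, e.degree ≤ 2 → coeff e f = coeff e (qf a b c)) :
    f ∈ maximalIdeal (MvPowerSeries (Fin 2) κ) ^ 2 := by
  rw [mem_max_pow_iff]
  intro α hα
  rw [hjet α (le_of_lt hα)]
  exact (mem_max_pow_iff 2 _).1 (qf_mem_sq a b c) α hα

theorem ev_surjective (ev : MvPowerSeries (Fin 2) κ →ₐ[κ] C)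
    (hgen : maximalIdeal C = Ideal.span {ev (X 0), ev (X 1)})
    (hres : ∀ r : C, ∃ l : κ, r - algebraMap κ C l ∈ maximalIdeal C) :
    Function.Surjective ev := by
  apply Groth.Agent.Lib.Seat71.NodeEqA.surjective_ev 2 ev _ hres
  rw [IsLocalRing.maximalIdeal_eq_bot, Ideal.map_bot, sup_bot_eq, hgen]
  congr 1
  ext z
  simp only [Set.mem_insert_iff, Set.mem_singleton_iff, Set.mem_range]
  constructor
  · rintro (rfl | rfl)
    · exact ⟨0, rfl⟩
    · exact ⟨1, rfl⟩
  · rintro ⟨s, rfl⟩
    fin_cases s
    · exact Or.inl rfl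
    · exact Or.inr rfl

theorem core (ev : MvPowerSeries (Fin 2) κ →ₐ[κ] C)
    (hgen : maximalIdeal C = Ideal.span {ev (X 0), ev (X 1)})
    (hres : ∀ r : C, ∃ l : κ, r - algebraMap κ C l ∈ maximalIdeal C)
    (hnp : ∀ g : C, maximalIdeal C ≠ Ideal.span {g})
    (hsoc : ∀ z : C, ev (X 0) * z = 0 → ev (X 1) * z = 0 → z = 0)
    (f : MvPowerSeries (Fin 2) κ) (hf : ev f = 0)
    (a b c : κ) (hd : 4 * a * c - b ^ 2 ≠ 0)
    (hjet : ∀ e : Fin 2 →₀ ℕ, e.degree ≤ 2 → coeff e f = coeff e (qf a b c)) :
    ∃ E : Bf f ≃ₐ[κ] C, ∀ p, E (Ideal.Quotient.mk _ p) = ev p := by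
  -- surjectivity of `ev`
  have hsurj : Function.Surjective ev := ev_surjective ev hgen hres
  have hf2 : f ∈ maximalIdeal (MvPowerSeries (Fin 2) κ) ^ 2 := mem_sq_of_jet f a b c hjet
  have hf1 : f ∈ maximalIdeal (MvPowerSeries (Fin 2) κ) :=
    Ideal.pow_le_self two_ne_zero hf2
  haveI : IsLocalRing (Bf f) := isLocalRing_Bf hf1
  -- the induced map
  have hkill : ∀ p ∈ Ideal.span {f}, ev p = 0 := by
    intro p hp
    rw [Ideal.mem_span_singleton] at hp
    obtain ⟨t, rfl⟩ := hp
    rw [map_mul, hf, zero_mul]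
  let ψ : Bf f →ₐ[κ] C := Ideal.Quotient.liftₐ (Ideal.span {f}) ev hkill
  have hψmk : ∀ p, ψ (Ideal.Quotient.mk _ p) = ev p := fun p => rfl
  have hψsurj : Function.Surjective ψ := by
    intro y
    obtain ⟨p, rfl⟩ := hsurj y
    exact ⟨Ideal.Quotient.mk _ p, hψmk p⟩
  -- `ψ` is local
  have hψloc : ∀ z : Bf f, IsUnit (ψ z) → IsUnit z := by
    intro z hz
    haveI : IsLocalHom (ψ : Bf f →+* C) := IsLocalHom.of_surjective _ hψsurj
    exact (isUnit_map_iff (ψ : Bf f →+* C) z).1 hz
  -- the element `ℓ`
  obtain ⟨a', b', c', hd', ⟨E₀⟩⟩ := morse_field f a b c hd hjet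
  haveI : IsLocalRing (Bf (qf a' b' c')) :=
    isLocalRing_Bf (Ideal.pow_le_self two_ne_zero (qf_mem_sq a' b' c'))
  obtain ⟨ℓ, hℓm, hℓ⟩ := (hasEll_qf a' b' c' hd').of_ringEquiv E₀.symm.toRingEquiv
  set x : Bf f := Ideal.Quotient.mk _ (X 0) with hx
  set y : Bf f := Ideal.Quotient.mk _ (X 1) with hy
  have hmB : maximalIdeal (Bf f) = Ideal.span {x, y} := max_Bf_eq_span
  have hxm : x ∈ maximalIdeal (Bf f) := by
    rw [hmB]; exact Ideal.subset_span (Set.mem_insert _ _)
  have hym : y ∈ maximalIdeal (Bf f) := by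
    rw [hmB]; exact Ideal.subset_span (Set.mem_insert_of_mem _ rfl)
  have hψx : ψ x = ev (X 0) := rfl
  have hψy : ψ y = ev (X 1) := rfl
  -- the kernel lies in `𝔪²`
  have hJ2 : ∀ z : Bf f, ψ z = 0 → z ∈ maximalIdeal (Bf f) ^ 2 := by
    intro z hz
    have hzm : z ∈ maximalIdeal (Bf f) := by
      rw [mem_maximalIdeal, mem_nonunits_iff]
      intro hu
      have := hu.map ψ
      rw [hz] at this
      exact not_isUnit_zero this
    rw [hmB, Ideal.mem_span_pair] at hzm
    obtain ⟨u, v, huv⟩ := hzm
    have hum : u ∈ maximalIdeal (Bf f) := by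
      rw [mem_maximalIdeal, mem_nonunits_iff]
      intro hu
      obtain ⟨u', hu'⟩ := hu.exists_left_inv
      apply hnp (ψ y)
      rw [hgen, ← hψx, ← hψy]
      apply le_antisymm
      · rw [Ideal.span_le]
        intro w hw
        rw [Set.mem_insert_iff, Set.mem_singleton_iff] at hw
        rcases hw with rfl | rfl
        · rw [SetLike.mem_coe, Ideal.mem_span_singleton']
          refine ⟨-(ψ (u' * v)), ?_⟩
          have h1 : x = u' * (z - v * y) := by
            rw [← huv]
            calc x = (u' * u) * x := by rw [hu', one_mul]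
              _ = _ := by ring
          conv_rhs => rw [h1]
          simp only [map_mul, map_sub, hz]
          ring
        · exact Ideal.subset_span rfl
      · exact Ideal.span_mono (by
          intro w hw
          rw [Set.mem_singleton_iff] at hw
          rw [hw]
          exact Set.mem_insert_of_mem _ rfl)
    have hvm : v ∈ maximalIdeal (Bf f) := by
      rw [mem_maximalIdeal, mem_nonunits_iff]
      intro hv
      obtain ⟨v', hv'⟩ := hv.exists_left_inv
      apply hnp (ψ x)
      rw [hgen, ← hψx, ← hψy]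
      apply le_antisymm
      · rw [Ideal.span_le]
        intro w hw
        rw [Set.mem_insert_iff, Set.mem_singleton_iff] at hw
        rcases hw with rfl | rfl
        · exact Ideal.subset_span rfl
        · rw [SetLike.mem_coe, Ideal.mem_span_singleton']
          refine ⟨-(ψ (v' * u)), ?_⟩
          have h1 : y = v' * (z - u * x) := by
            rw [← huv]
            calc y = (v' * v) * y := by rw [hv', one_mul]
              _ = _ := by ring
          conv_rhs => rw [h1]
          simp only [map_mul, map_sub, hz]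
          ring
      · exact Ideal.span_mono (by
          intro w hw
          rw [Set.mem_singleton_iff] at hw
          rw [hw]
          exact Set.mem_insert _ _)
    rw [← huv, sq]
    exact add_mem (Ideal.mul_mem_mul hum hxm) (Ideal.mul_mem_mul hvm hym)
  -- saturation
  have hsat : ∀ s : Bf f, ψ (ℓ * s) = 0 → ψ s = 0 := by
    intro s hs
    set t := ψ s with ht
    have hkill2 : ∀ w₁ ∈ maximalIdeal C, ∀ w₂ ∈ maximalIdeal C, w₁ * w₂ * t = 0 := by
      intro w₁ hw₁ w₂ hw₂
      obtain ⟨w₁', rfl⟩ := hψsurj w₁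
      obtain ⟨w₂', rfl⟩ := hψsurj w₂
      have h1 : w₁' ∈ maximalIdeal (Bf f) := by
        rw [mem_maximalIdeal, mem_nonunits_iff] at hw₁ ⊢
        exact fun hu => hw₁ (hu.map ψ)
      have h2 : w₂' ∈ maximalIdeal (Bf f) := by
        rw [mem_maximalIdeal, mem_nonunits_iff] at hw₂ ⊢
        exact fun hu => hw₂ (hu.map ψ)
      have h3 : w₁' * w₂' ∈ Ideal.span {ℓ} := hℓ (by rw [sq]; exact Ideal.mul_mem_mul h1 h2)
      rw [Ideal.mem_span_singleton'] at h3
      obtain ⟨r, hr⟩ := h3
      rw [← map_mul, ← hr, ht, ← map_mul, mul_assoc, map_mul, hs, mul_zero]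
    have hxC : ev (X 0) ∈ maximalIdeal C := by
      rw [hgen]; exact Ideal.subset_span (Set.mem_insert _ _)
    have hyC : ev (X 1) ∈ maximalIdeal C := by
      rw [hgen]; exact Ideal.subset_span (Set.mem_insert_of_mem _ rfl)
    have hkill1 : ∀ w ∈ maximalIdeal C, w * t = 0 := by
      intro w hw
      apply hsoc
      · rw [← mul_assoc]; exact hkill2 _ hxC _ hw
      · rw [← mul_assoc]; exact hkill2 _ hyC _ hw
    exact hsoc t (hkill1 _ hxC) (hkill1 _ hyC)
  -- injectivity
  have hdiv : ∀ n : ℕ, ∀ z : Bf f, ψ z = 0 → ∃ w, z = ℓ ^ n * w := by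
    intro n
    induction n with
    | zero => intro z _; exact ⟨z, by rw [pow_zero, one_mul]⟩
    | succ n ih =>
      intro z hz
      have h1 : z ∈ Ideal.span {ℓ} := hℓ (hJ2 z hz)
      rw [Ideal.mem_span_singleton'] at h1
      obtain ⟨z', rfl⟩ := h1
      have h2 : ψ z' = 0 := hsat z' (by rw [mul_comm]; exact hz)
      obtain ⟨w, hw⟩ := ih z' h2
      exact ⟨w, by rw [hw, pow_succ]; ring⟩
  have hinj : Function.Injective ψ := by
    rw [injective_iff_map_eq_zero]
    intro z hz
    have hne : Ideal.span {ℓ} ≠ (⊤ : Ideal (Bf f)) := by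
      intro h
      have : Ideal.span {ℓ} ≤ maximalIdeal (Bf f) := by
        rw [Ideal.span_le]; intro w hw; rw [Set.mem_singleton_iff] at hw; rw [hw]; exact hℓm
      rw [h] at this
      exact (IsLocalRing.maximalIdeal.isMaximal _).ne_top (top_le_iff.1 this)
    have h1 := Ideal.iInf_pow_eq_bot_of_isLocalRing (Ideal.span {ℓ}) hne
    have h2 : z ∈ ⨅ i, Ideal.span {ℓ} ^ i := by
      rw [Ideal.mem_iInf]
      intro n
      obtain ⟨w, hw⟩ := hdiv n z hz
      rw [Ideal.span_singleton_pow, Ideal.mem_span_singleton]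
      exact ⟨w, hw⟩
    rw [h1, Ideal.mem_bot] at h2
    exact h2
  exact ⟨AlgEquiv.ofBijective ψ ⟨hinj, hψsurj⟩, fun p => rfl⟩

end Core

section Reduced

open Groth.Agent.Lib.Helper19.CohenStructure

variable {κ : Type u} [Field κ] {C : Type u} [CommRing C] [IsLocalRing C] [IsNoetherianRing C]
  [IsAdicComplete (maximalIdeal C) C] [Algebra κ C]

/-- A reduced complete local `κ`-algebra with residue field `κ` whose maximal ideal is generated by
`x, y` (and not principal) satisfying a nondegenerate quadratic relation is `κ[[X,Y]]/(Q)`. -/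
theorem iso_of_generators [IsReduced C] (x y : C) (hgen : maximalIdeal C = Ideal.span {x, y})
    (hres : ∀ r : C, ∃ l : κ, r - algebraMap κ C l ∈ maximalIdeal C)
    (hnp : ∀ g : C, maximalIdeal C ≠ Ideal.span {g})
    (a b c : κ) (hd : 4 * a * c - b ^ 2 ≠ 0)
    (hrel : algebraMap κ C a * x ^ 2 + algebraMap κ C b * x * y + algebraMap κ C c * y ^ 2 = 0) :
    Nonempty (Bf (qf a b c) ≃ₐ[κ] C) := by
  have hxm : x ∈ maximalIdeal C := by
    rw [hgen]; exact Ideal.subset_span (Set.mem_insert _ _)
  have hym : y ∈ maximalIdeal C := by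
    rw [hgen]; exact Ideal.subset_span (Set.mem_insert_of_mem _ rfl)
  obtain ⟨ev, hev⟩ := exists_algHom_X_eq_of_isAdicComplete (Λ := κ) (maximalIdeal C) 2 ![x, y] (by
    intro s
    fin_cases s
    · exact hxm
    · exact hym)
  have hev0 : ev (X 0) = x := hev 0
  have hev1 : ev (X 1) = y := hev 1
  have hsoc : ∀ z : C, ev (X 0) * z = 0 → ev (X 1) * z = 0 → z = 0 := by
    intro z h0 h1
    rw [hev0] at h0
    rw [hev1] at h1
    have hzm : z ∈ maximalIdeal C := by
      rw [mem_maximalIdeal, mem_nonunits_iff]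
      intro hu
      have hx0 : x = 0 := by
        obtain ⟨z', hz'⟩ := hu.exists_right_inv
        calc x = x * (z * z') := by rw [hz', mul_one]
          _ = (x * z) * z' := by ring
          _ = 0 := by rw [h0, zero_mul]
      have hy0 : y = 0 := by
        obtain ⟨z', hz'⟩ := hu.exists_right_inv
        calc y = y * (z * z') := by rw [hz', mul_one]
          _ = (y * z) * z' := by ring
          _ = 0 := by rw [h1, zero_mul]
      apply hnp 0
      rw [hgen, hx0, hy0]
      simp
    rw [hgen, Ideal.mem_span_pair] at hzm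
    obtain ⟨u, v, huv⟩ := hzm
    have hz2 : z ^ 2 = 0 := by
      calc z ^ 2 = (u * x + v * y) * z := by rw [huv, sq]
        _ = u * (x * z) + v * (y * z) := by ring
        _ = 0 := by rw [h0, h1, mul_zero, mul_zero, add_zero]
    exact (isReduced_iff_pow_one_lt 2 one_lt_two).1 inferInstance z hz2
  have hf : ev (qf a b c) = 0 := by
    unfold qf
    simp only [map_add, map_mul, map_pow, ev_C, hev0, hev1]
    exact hrel
  obtain ⟨E, -⟩ := core ev (by rw [hev0, hev1]; exact hgen) hres hnp hsoc (qf a b c) hf a b c hd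
    (fun _ _ => rfl)
  exact ⟨E⟩

omit [IsLocalRing C] [IsNoetherianRing C] [IsAdicComplete (maximalIdeal C) C] [Algebra κ C] in
/-- `κ[[X,Y]]/(aX² + bXY + cY²)` is reduced for every nondegenerate form. -/
theorem isReduced_qf (a b c : κ) (hd : 4 * a * c - b ^ 2 ≠ 0) : IsReduced (Bf (qf a b c)) := by
  by_cases ha : a = 0
  · have hb : b ≠ 0 := by
      rintro rfl
      apply hd
      rw [ha]; ring
    by_cases hc : c = 0
    · -- model `b X (X + Y)`
      have hd' : 4 * b * 0 - b ^ 2 ≠ 0 := by
        intro h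
        apply hb
        have : b ^ 2 = 0 := by linear_combination -h
        exact (pow_eq_zero_iff two_ne_zero).1 this
      have hm : qf b b 0 ∈ maximalIdeal (MvPowerSeries (Fin 2) κ) :=
        Ideal.pow_le_self two_ne_zero (qf_mem_sq b b 0)
      haveI : IsLocalRing (Bf (qf b b 0)) := isLocalRing_Bf hm
      haveI : IsAdicComplete (maximalIdeal (Bf (qf b b 0))) (Bf (qf b b 0)) := isAdicComplete_Bf
      haveI : IsReduced (Bf (qf b b 0)) := isReduced_qf_of_ne b b 0 hb hd'
      obtain ⟨E⟩ := iso_of_generators (C := Bf (qf b b 0))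
        (Ideal.Quotient.mk _ (X 0)) (Ideal.Quotient.mk _ (X 0 + X 1)) (by
          rw [max_Bf_eq_span]
          apply le_antisymm
          · rw [Ideal.span_le]
            intro w hw
            rw [Set.mem_insert_iff, Set.mem_singleton_iff] at hw
            rcases hw with rfl | rfl
            · exact Ideal.subset_span (Set.mem_insert _ _)
            · rw [SetLike.mem_coe, Ideal.mem_span_pair]
              exact ⟨-1, 1, by rw [map_add]; ring⟩
          · rw [Ideal.span_le]
            intro w hw
            rw [Set.mem_insert_iff, Set.mem_singleton_iff] at hw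
            rcases hw with rfl | rfl
            · exact Ideal.subset_span (Set.mem_insert _ _)
            · rw [SetLike.mem_coe, Ideal.mem_span_pair]
              exact ⟨1, 1, by rw [map_add]; ring⟩)
        hres_Bf (not_principal_Bf (qf_mem_sq b b 0)) a b c hd (by
          have h0 : Ideal.Quotient.mk (Ideal.span {qf b b 0}) (qf b b 0) = 0 :=
            Ideal.Quotient.eq_zero_iff_mem.2 (Ideal.subset_span rfl)
          have hCa : algebraMap κ (Bf (qf b b 0)) a = 0 := by rw [ha, map_zero]
          have hCc : algebraMap κ (Bf (qf b b 0)) c = 0 := by rw [hc, map_zero]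
          rw [hCa, hCc, zero_mul, zero_mul, zero_add, add_zero]
          have hb' : algebraMap κ (Bf (qf b b 0)) b = Ideal.Quotient.mk _ (MvPowerSeries.C b) := by
            rw [← Ideal.Quotient.mk_algebraMap, MvPowerSeries.algebraMap_apply,
              Algebra.algebraMap_self, RingHom.id_apply]
          rw [hb', ← map_mul, ← map_mul]
          calc _ = Ideal.Quotient.mk (Ideal.span {qf b b 0})
                (MvPowerSeries.C b * X 0 ^ 2 + MvPowerSeries.C b * X 0 * X 1 +
                  MvPowerSeries.C 0 * X 1 ^ 2) := by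
                congr 1
                rw [map_zero, zero_mul, add_zero]; ring
            _ = 0 := h0)
      exact isReduced_of_injective E.toRingEquiv.toRingHom E.injective
    · -- model `c X² + b X Y` with the variables swapped
      have hd' : 4 * c * 0 - b ^ 2 ≠ 0 := by
        intro h
        apply hb
        have : b ^ 2 = 0 := by linear_combination -h
        exact (pow_eq_zero_iff two_ne_zero).1 this
      have hm : qf c b 0 ∈ maximalIdeal (MvPowerSeries (Fin 2) κ) :=
        Ideal.pow_le_self two_ne_zero (qf_mem_sq c b 0)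
      haveI : IsLocalRing (Bf (qf c b 0)) := isLocalRing_Bf hm
      haveI : IsAdicComplete (maximalIdeal (Bf (qf c b 0))) (Bf (qf c b 0)) := isAdicComplete_Bf
      haveI : IsReduced (Bf (qf c b 0)) := isReduced_qf_of_ne c b 0 hc hd'
      obtain ⟨E⟩ := iso_of_generators (C := Bf (qf c b 0))
        (Ideal.Quotient.mk _ (X 1)) (Ideal.Quotient.mk _ (X 0)) (by
          rw [max_Bf_eq_span, Set.pair_comm])
        hres_Bf (not_principal_Bf (qf_mem_sq c b 0)) a b c hd (by
          have h0 : Ideal.Quotient.mk (Ideal.span {qf c b 0}) (qf c b 0) = 0 :=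
            Ideal.Quotient.eq_zero_iff_mem.2 (Ideal.subset_span rfl)
          have hCa : algebraMap κ (Bf (qf c b 0)) a = 0 := by rw [ha, map_zero]
          rw [hCa, zero_mul, zero_add]
          have hb' : algebraMap κ (Bf (qf c b 0)) b = Ideal.Quotient.mk _ (MvPowerSeries.C b) := by
            rw [← Ideal.Quotient.mk_algebraMap, MvPowerSeries.algebraMap_apply,
              Algebra.algebraMap_self, RingHom.id_apply]
          have hc' : algebraMap κ (Bf (qf c b 0)) c = Ideal.Quotient.mk _ (MvPowerSeries.C c) := by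
            rw [← Ideal.Quotient.mk_algebraMap, MvPowerSeries.algebraMap_apply,
              Algebra.algebraMap_self, RingHom.id_apply]
          rw [hb', hc', ← map_pow, ← map_mul, ← map_mul, ← map_mul, ← map_add]
          calc _ = Ideal.Quotient.mk (Ideal.span {qf c b 0})
                (MvPowerSeries.C c * X 0 ^ 2 + MvPowerSeries.C b * X 0 * X 1 +
                  MvPowerSeries.C 0 * X 1 ^ 2) := by
                congr 1
                rw [map_zero, zero_mul, add_zero]; ring
            _ = 0 := h0)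
      exact isReduced_of_injective E.toRingEquiv.toRingHom E.injective
  · exact isReduced_qf_of_ne a b c ha hd

end Reduced

end Groth.Agent.Lib.Seat71.NodalC
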