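import Mathlib
import Groth.Agent.Lib.Seat71HypCompl
import Groth.Agent.Lib.Helper19FSAdicLift
import Groth.Agent.Lib.Helper19ComplNoeth
import Groth.Agent.Lib.Helper19CoeffField

/-!
Seat71NodalD: completions of Noetherian local rings: transfer of the socle condition, and
coefficient fields for separable residue field extensions.
-/

set_option autoImplicit false
set_option linter.unusedSectionVars false
set_option linter.style.haveILetI false
universe u

namespace Groth.Agent.Lib.Seat71.NodalD

open IsLocalRing

section Socle

variable {A : Type u} [CommRing A] [IsLocalRing A] [IsNoetherianRing A]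

/-- If `A` is reduced, not a field, with `𝔪 = (x, y)`, then no non-zero element of the completion is
killed by `x` and `y`. -/
theorem socle_completion [IsReduced A] (x y : A) (hgen : maximalIdeal A = Ideal.span {x, y})
    (hne : maximalIdeal A ≠ ⊥) (z : AdicCompletion (maximalIdeal A) A)
    (hx : algebraMap A (AdicCompletion (maximalIdeal A) A) x * z = 0)
    (hy : algebraMap A (AdicCompletion (maximalIdeal A) A) y * z = 0) : z = 0 := by
  let f : A →ₗ[A] A × A :=
    LinearMap.prod (LinearMap.mulLeft A x) (LinearMap.mulLeft A y)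
  have hf : Function.Injective f := by
    rw [injective_iff_map_eq_zero]
    intro a ha
    have h0 : x * a = 0 := congrArg Prod.fst ha
    have h1 : y * a = 0 := congrArg Prod.snd ha
    have ham : a ∈ maximalIdeal A := by
      rw [mem_maximalIdeal, mem_nonunits_iff]
      intro hu
      obtain ⟨a', ha'⟩ := hu.exists_right_inv
      have hx0 : x = 0 := by
        calc x = x * (a * a') := by rw [ha', mul_one]
          _ = (x * a) * a' := by ring
          _ = 0 := by rw [h0, zero_mul]
      have hy0 : y = 0 := by
        calc y = y * (a * a') := by rw [ha', mul_one]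
          _ = (y * a) * a' := by ring
          _ = 0 := by rw [h1, zero_mul]
      apply hne
      rw [hgen, hx0, hy0]
      simp
    rw [hgen, Ideal.mem_span_pair] at ham
    obtain ⟨u, v, huv⟩ := ham
    have ha2 : a ^ 2 = 0 := by
      calc a ^ 2 = (u * x + v * y) * a := by rw [huv, sq]
        _ = u * (x * a) + v * (y * a) := by ring
        _ = 0 := by rw [h0, h1, mul_zero, mul_zero, add_zero]
    exact (isReduced_iff_pow_one_lt 2 one_lt_two).1 inferInstance a ha2
  have hF := AdicCompletion.map_injective (maximalIdeal A) hf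
  apply hF
  rw [map_zero]
  apply AdicCompletion.ext
  intro n
  rw [AdicCompletion.map_val_apply, AdicCompletion.val_zero]
  obtain ⟨a, ha⟩ := Submodule.Quotient.mk_surjective _ (z.val n)
  rw [← ha]
  have hxn : x * a ∈ (maximalIdeal A ^ n • ⊤ : Submodule A A) := by
    have h1 := congrArg (fun w => w.val n) hx
    simp only [AdicCompletion.val_mul, AdicCompletion.val_zero] at h1
    rw [← ha, AdicCompletion.algebraMap_apply, Algebra.algebraMap_self, RingHom.id_apply,
      AdicCompletion.of_apply] at h1
    have h2 : (Submodule.Quotient.mk (x * a) : A ⧸ (maximalIdeal A ^ n • ⊤ : Submodule A A)) = 0 :=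
      h1
    exact (Submodule.Quotient.mk_eq_zero _).1 h2
  have hyn : y * a ∈ (maximalIdeal A ^ n • ⊤ : Submodule A A) := by
    have h1 := congrArg (fun w => w.val n) hy
    simp only [AdicCompletion.val_mul, AdicCompletion.val_zero] at h1
    rw [← ha, AdicCompletion.algebraMap_apply, Algebra.algebraMap_self, RingHom.id_apply,
      AdicCompletion.of_apply] at h1
    have h2 : (Submodule.Quotient.mk (y * a) : A ⧸ (maximalIdeal A ^ n • ⊤ : Submodule A A)) = 0 :=
      h1
    exact (Submodule.Quotient.mk_eq_zero _).1 h2
  change Submodule.Quotient.mk (f a) = 0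
  rw [Submodule.Quotient.mk_eq_zero]
  have hfa : f a = (x * a) • ((1, 0) : A × A) + (y * a) • ((0, 1) : A × A) := by
    ext <;> simp [f]
  rw [hfa]
  rw [smul_eq_mul, Ideal.mul_top] at hxn hyn
  exact add_mem (Submodule.smul_mem_smul hxn Submodule.mem_top)
    (Submodule.smul_mem_smul hyn Submodule.mem_top)

end Socle

section Coeff

open Groth.Agent.Lib.Helper19

variable {k : Type u} [Field k] {A : Type u} [CommRing A] [IsLocalRing A] [IsNoetherianRing A]
  [Algebra k A]

/-- A coefficient field of the completion, containing the image of `k`, when the residue field is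
separable over `k`. -/
theorem exists_coeff [Algebra.IsSeparable k (ResidueField A)] :
    ∃ ι : ResidueField A →ₐ[k] AdicCompletion (maximalIdeal A) A,
      ∀ a : A, ι (residue A a) - algebraMap A (AdicCompletion (maximalIdeal A) A) a ∈
        maximalIdeal (AdicCompletion (maximalIdeal A) A) := by
  let Â := AdicCompletion (maximalIdeal A) A
  haveI : Algebra.FormallyEtale k (ResidueField A) := Algebra.FormallyEtale.of_isSeparable k _
  haveI : Algebra.FormallySmooth k (ResidueField A) := inferInstance
  have hfs : EGA41.IsFormallySmoothAdic k ⊥ (ResidueField A) ⊥ :=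
    isFormallySmoothAdic_of_formallySmooth _ _
  haveI : IsHausdorff ((maximalIdeal Â).map (Ideal.Quotient.mk (maximalIdeal Â)))
      (Â ⧸ maximalIdeal Â) := by
    rw [Ideal.map_quotient_self]
    exact isHausdorff_bot _ _
  let g : A →ₐ[k] Â ⧸ maximalIdeal Â :=
    (Ideal.Quotient.mkₐ k (maximalIdeal Â)).comp (IsScalarTower.toAlgHom k A Â)
  have hg : ∀ a ∈ maximalIdeal A, g a = 0 := by
    intro a ha
    change Ideal.Quotient.mk (maximalIdeal Â) (algebraMap A Â a) = 0
    rw [Ideal.Quotient.eq_zero_iff_mem, AdicCompletion.maximalIdeal_eq_map]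
    exact Ideal.mem_map_of_mem _ ha
  let u : ResidueField A →ₐ[k] Â ⧸ maximalIdeal Â := Ideal.Quotient.liftₐ (maximalIdeal A) g hg
  obtain ⟨v, -, hv⟩ := exists_lift_to_adicComplete (⊥ : Ideal k) (⊥ : Ideal (ResidueField A))
    (maximalIdeal Â) (maximalIdeal Â) hfs ⟨1, by simp⟩ ⟨1, by rw [pow_one]⟩ u ⟨1, by simp⟩
  refine ⟨v, fun a => ?_⟩
  have h1 : Ideal.Quotient.mk (maximalIdeal Â) (v (residue A a)) = u (residue A a) :=
    congrArg (fun w : ResidueField A →ₐ[k] Â ⧸ maximalIdeal Â => w (residue A a)) hv
  have h2 : u (residue A a) = Ideal.Quotient.mk (maximalIdeal Â) (algebraMap A Â a) := rfl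
  rw [h2, Ideal.Quotient.eq] at h1
  exact h1

end Coeff

end Groth.Agent.Lib.Seat71.NodalD
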