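import Mathlib
import Groth.Agent.Lib.Seat71NodalC
import Groth.Agent.Lib.Seat71NodalD

/-!
Seat71NodalE: nodal criterion via the completion (S1631).
-/

set_option autoImplicit false
set_option linter.unusedSectionVars false
set_option linter.style.haveILetI false
universe u

namespace Groth.Agent.Lib.Seat71.NodalE

open IsLocalRing MvPowerSeries Groth.Agent.Lib.Seat71.NodalA Groth.Agent.Lib.Seat71.NodalB
  Groth.Agent.Lib.Seat71.NodalC Groth.Agent.Lib.Seat71.NodalD

section Compl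

variable {A : Type u} [CommRing A] [IsLocalRing A] [IsNoetherianRing A]

local notation "Â" => AdicCompletion (maximalIdeal A) A

/-- Elements of the completion are approximated by elements of the ring modulo `𝔪̂ ^ n`. -/
lemma exists_sub_mem_pow (n : ℕ) (r : Â) :
    ∃ y : A, r - algebraMap A Â y ∈ maximalIdeal Â ^ n := by
  have fg : (maximalIdeal A).FG := (maximalIdeal A).fg_of_isNoetherianRing
  obtain ⟨y, hy⟩ := Submodule.Quotient.mk_surjective _ (r.val n)
  refine ⟨y, ?_⟩
  rw [AdicCompletion.maximalIdeal_eq_map, ← Ideal.map_pow, ← Submodule.restrictScalars_mem A,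
    ← Ideal.smul_top_eq_map, AdicCompletion.pow_smul_top_eq_ker_eval fg, LinearMap.mem_ker,
    map_sub, AdicCompletion.eval_apply, AdicCompletion.eval_apply, ← hy]
  change _ - (AdicCompletion.of _ _ y).val n = 0
  rw [AdicCompletion.of_apply, Submodule.mkQ_apply, sub_self]

/-- The canonical map to the completion is injective. -/
lemma algebraMap_injective : Function.Injective (algebraMap A Â) := by
  rw [injective_iff_map_eq_zero]
  intro y hy
  have h1 : y ∈ ⨅ i, maximalIdeal A ^ i := by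
    rw [Ideal.mem_iInf]
    intro n
    apply Groth.Agent.Lib.Seat71.HypCompl.mem_pow_of_algebraMap_mem
    rw [hy]
    exact zero_mem _
  rw [Ideal.iInf_pow_eq_bot_of_isLocalRing _ (IsLocalRing.maximalIdeal.isMaximal A).ne_top,
    Ideal.mem_bot] at h1
  exact h1

lemma algebraMap_mem_pow {y : A} {n : ℕ} (hy : y ∈ maximalIdeal A ^ n) :
    algebraMap A Â y ∈ maximalIdeal Â ^ n := by
  rw [AdicCompletion.maximalIdeal_eq_map, ← Ideal.map_pow]
  exact Ideal.mem_map_of_mem _ hy

end Compl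

section Forward

open Groth.Agent.Lib.Helper19 Groth.Agent.Lib.Helper19.CohenStructure

variable (k : Type u) [Field k] (A : Type u) [CommRing A] [IsLocalRing A] [IsNoetherianRing A]
  [Algebra k A]

local notation "Â" => AdicCompletion (maximalIdeal A) A

theorem forward (hsep : Algebra.IsSeparable k (ResidueField A)) (hred : IsReduced A)
    (hrank : Module.finrank (ResidueField A) (CotangentSpace A) = 2)
    (x y a b c : A) (hx : x ∈ maximalIdeal A) (hy : y ∈ maximalIdeal A)
    (hxy : Ideal.span {x, y} ⊔ maximalIdeal A ^ 2 = maximalIdeal A)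
    (hdisc : residue A (4 * a * c - b ^ 2) ≠ 0)
    (hq : a * x ^ 2 + b * x * y + c * y ^ 2 ∈ maximalIdeal A ^ 3) :
    ∃ a' b' c' : ResidueField A, 4 * a' * c' - b' ^ 2 ≠ 0 ∧
      ∃ e : Â ≃+* Bf (qf a' b' c'),
        ∀ t : k, e (algebraMap A Â (algebraMap k A t)) =
          Ideal.Quotient.mk _ (C (algebraMap A (ResidueField A) (algebraMap k A t))) := by
  -- Nakayama
  have hgenA : maximalIdeal A = Ideal.span {x, y} := by
    apply le_antisymm
    · apply Submodule.le_of_le_smul_of_le_jacobson_bot (maximalIdeal A).fg_of_isNoetherianRing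
        (IsLocalRing.maximalIdeal_le_jacobson _)
      rw [smul_eq_mul, ← sq, hxy]
    · rw [Ideal.span_le]
      intro z hz
      rw [Set.mem_insert_iff, Set.mem_singleton_iff] at hz
      rcases hz with rfl | rfl
      · exact hx
      · exact hy
  have hspanA : (maximalIdeal A).spanFinrank = 2 := by
    rw [IsLocalRing.spanFinrank_maximalIdeal_eq_finrank_cotangentSpace, hrank]
  have hneA : maximalIdeal A ≠ ⊥ := by
    intro h
    rw [h, Submodule.spanFinrank_bot] at hspanA
    exact absurd hspanA (by norm_num)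
  haveI : IsNoetherianRing Â := isNoetherianRing_adicCompletion _
  have hspanÂ : (maximalIdeal Â).spanFinrank = 2 := by
    rw [AdicCompletion.spanFinrank_maximalIdeal_eq, hspanA]
  have hnp : ∀ g : Â, maximalIdeal Â ≠ Ideal.span {g} := by
    intro g hg
    have h1 := Submodule.spanFinrank_span_le_ncard_of_finite (R := Â) (Set.finite_singleton g)
    rw [Set.ncard_singleton] at h1
    have h2 : (maximalIdeal Â).spanFinrank ≤ 1 := by rw [hg]; exact h1
    omega
  -- coefficient field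
  obtain ⟨ι, hι⟩ := exists_coeff (k := k) (A := A)
  letI algκ : Algebra (ResidueField A) Â := ι.toRingHom.toAlgebra
  have halg : ∀ l : ResidueField A, algebraMap (ResidueField A) Â l = ι l := fun l => rfl
  have hres : ∀ r : Â, ∃ l : ResidueField A, r - algebraMap (ResidueField A) Â l ∈ maximalIdeal Â := by
    intro r
    obtain ⟨y₀, hy₀⟩ := exists_sub_mem_pow 1 r
    rw [pow_one] at hy₀
    refine ⟨residue A y₀, ?_⟩
    have : r - algebraMap (ResidueField A) Â (residue A y₀) =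
        (r - algebraMap A Â y₀) - (ι (residue A y₀) - algebraMap A Â y₀) := by
      rw [halg]; ring
    rw [this]
    exact sub_mem hy₀ (hι y₀)
  -- generators
  set xh : Â := algebraMap A Â x with hxh
  set yh : Â := algebraMap A Â y with hyh
  have hgenÂ : maximalIdeal Â = Ideal.span {xh, yh} := by
    rw [AdicCompletion.maximalIdeal_eq_map, congrArg (Ideal.map (algebraMap A Â)) hgenA,
      Ideal.map_span, Set.image_pair]
  have hxhm : xh ∈ maximalIdeal Â := by
    rw [hgenÂ]; exact Ideal.subset_span (Set.mem_insert _ _)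
  have hyhm : yh ∈ maximalIdeal Â := by
    rw [hgenÂ]; exact Ideal.subset_span (Set.mem_insert_of_mem _ rfl)
  obtain ⟨ev, hev⟩ := exists_algHom_X_eq_of_isAdicComplete (Λ := ResidueField A) (maximalIdeal Â) 2
    ![xh, yh] (by
      intro s
      fin_cases s
      · exact hxhm
      · exact hyhm)
  have hev0 : ev (X 0) = xh := hev 0
  have hev1 : ev (X 1) = yh := hev 1
  have hgen' : maximalIdeal Â = Ideal.span {ev (X 0), ev (X 1)} := by rw [hev0, hev1]; exact hgenÂ
  have hsurj : Function.Surjective ev := ev_surjective ev hgen' hres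
  have hsoc : ∀ z : Â, ev (X 0) * z = 0 → ev (X 1) * z = 0 → z = 0 := by
    intro z h0 h1
    rw [hev0] at h0
    rw [hev1] at h1
    exact socle_completion x y hgenA hneA z h0 h1
  -- the quadratic form
  set a₀ := residue A a with ha₀
  set b₀ := residue A b with hb₀
  set c₀ := residue A c with hc₀
  have hd₀ : 4 * a₀ * c₀ - b₀ ^ 2 ≠ 0 := by
    have : residue A (4 * a * c - b ^ 2) = 4 * a₀ * c₀ - b₀ ^ 2 := by
      rw [map_sub, map_mul, map_mul, map_pow, map_ofNat]
    rw [← this]; exact hdisc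
  have hevQ : ev (qf a₀ b₀ c₀) ∈ maximalIdeal Â ^ 3 := by
    have h1 : ev (qf a₀ b₀ c₀) = ι a₀ * xh ^ 2 + ι b₀ * xh * yh + ι c₀ * yh ^ 2 := by
      unfold qf
      simp only [map_add, map_mul, map_pow, ev_C, hev0, hev1, halg]
    have h2 : algebraMap A Â (a * x ^ 2 + b * x * y + c * y ^ 2) ∈ maximalIdeal Â ^ 3 :=
      algebraMap_mem_pow hq
    simp only [map_add, map_mul, map_pow] at h2
    have h3 : ι a₀ * xh ^ 2 + ι b₀ * xh * yh + ι c₀ * yh ^ 2 =
        (algebraMap A Â a * xh ^ 2 + algebraMap A Â b * xh * yh + algebraMap A Â c * yh ^ 2) +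
        ((ι a₀ - algebraMap A Â a) * (xh * xh) + (ι b₀ - algebraMap A Â b) * (xh * yh) +
          (ι c₀ - algebraMap A Â c) * (yh * yh)) := by ring
    rw [h1, h3]
    have hpow : maximalIdeal Â ^ 3 = maximalIdeal Â * (maximalIdeal Â * maximalIdeal Â) := by
      rw [pow_succ, pow_two]; ring
    refine add_mem h2 ?_
    rw [hpow]
    exact add_mem (add_mem (Ideal.mul_mem_mul (hι a) (Ideal.mul_mem_mul hxhm hxhm))
      (Ideal.mul_mem_mul (hι b) (Ideal.mul_mem_mul hxhm hyhm)))
      (Ideal.mul_mem_mul (hι c) (Ideal.mul_mem_mul hyhm hyhm))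
  have hmapmax : Ideal.map (ev : MvPowerSeries (Fin 2) (ResidueField A) →+* Â)
      (maximalIdeal (MvPowerSeries (Fin 2) (ResidueField A))) = maximalIdeal Â :=
    IsLocalRing.map_maximalIdeal_of_surjective _ hsurj
  rw [← hmapmax, ← Ideal.map_pow] at hevQ
  obtain ⟨h, hh, hhe⟩ := (Ideal.mem_map_iff_of_surjective
    (ev : MvPowerSeries (Fin 2) (ResidueField A) →+* Â) hsurj).1 hevQ
  have hhe' : ev h = ev (qf a₀ b₀ c₀) := hhe
  set f := qf a₀ b₀ c₀ - h with hf
  have hevf : ev f = 0 := by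
    rw [hf, map_sub, sub_eq_zero]
    exact hhe'.symm
  have hjet : ∀ e : Fin 2 →₀ ℕ, e.degree ≤ 2 → coeff e f = coeff e (qf a₀ b₀ c₀) := by
    intro e he
    rw [hf, map_sub, (mem_max_pow_iff 3 h).1 hh e (by omega), sub_zero]
  obtain ⟨E, hE⟩ := core ev hgen' hres hnp hsoc f hevf a₀ b₀ c₀ hd₀ hjet
  obtain ⟨a', b', c', hd', ⟨E₀⟩⟩ := morse_field f a₀ b₀ c₀ hd₀ hjet
  refine ⟨a', b', c', hd', (E.symm.trans E₀).toRingEquiv, fun t => ?_⟩
  change E₀ (E.symm (algebraMap A Â (algebraMap k A t))) = _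
  have h1 : algebraMap A Â (algebraMap k A t) =
      algebraMap (ResidueField A) Â (algebraMap A (ResidueField A) (algebraMap k A t)) := by
    rw [halg, ← IsScalarTower.algebraMap_apply k A (ResidueField A), AlgHom.commutes,
      IsScalarTower.algebraMap_apply k A Â]
  rw [h1, AlgEquiv.commutes, AlgEquiv.commutes, ← Ideal.Quotient.mk_algebraMap,
    MvPowerSeries.algebraMap_apply, Algebra.algebraMap_self, RingHom.id_apply]

end Forward

section Backward

variable {κ : Type u} [Field κ]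

/-- The maximal ideal of `κ[[X,Y]]/(f)`, `f ∈ 𝔪²`, needs exactly two generators. -/
lemma spanFinrank_Bf {f : MvPowerSeries (Fin 2) κ} [IsLocalRing (Bf f)]
    (hf : f ∈ maximalIdeal (MvPowerSeries (Fin 2) κ) ^ 2) :
    (maximalIdeal (Bf f)).spanFinrank = 2 := by
  have hfg : (maximalIdeal (Bf f)).FG := (maximalIdeal (Bf f)).fg_of_isNoetherianRing
  have h2 : (maximalIdeal (Bf f)).spanFinrank ≤ 2 := by
    rw [max_Bf_eq_span]
    refine (Submodule.spanFinrank_span_le_ncard_of_finite (Set.toFinite _)).trans ?_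
    refine (Set.ncard_insert_le _ _).trans ?_
    rw [Set.ncard_singleton]
  have h0 : (maximalIdeal (Bf f)).spanFinrank ≠ 0 := by
    intro h
    rw [Submodule.spanFinrank_eq_zero_iff_eq_bot hfg] at h
    apply not_principal_Bf hf 0
    rw [h]; simp
  have h1 : (maximalIdeal (Bf f)).spanFinrank ≠ 1 := by
    intro h
    rw [Submodule.spanFinrank_eq_one_iff] at h
    obtain ⟨⟨g, hg⟩⟩ := h.1
    exact not_principal_Bf hf g hg
  omega

variable {A : Type u} [CommRing A] [IsLocalRing A] [IsNoetherianRing A]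

theorem backward_aux (a' b' c' : κ) (hd' : 4 * a' * c' - b' ^ 2 ≠ 0) [IsLocalRing (Bf (qf a' b' c'))]
    (φ : A →+* Bf (qf a' b' c'))
    (P2 : ∀ (n : ℕ) (w : Bf (qf a' b' c')), ∃ y : A, w - φ y ∈ maximalIdeal (Bf (qf a' b' c')) ^ n)
    (P3 : ∀ (n : ℕ) (y : A), φ y ∈ maximalIdeal (Bf (qf a' b' c')) ^ n → y ∈ maximalIdeal A ^ n)
    (P4 : ∀ (n : ℕ) (y : A), y ∈ maximalIdeal A ^ n → φ y ∈ maximalIdeal (Bf (qf a' b' c')) ^ n) :
    ∃ x y a b c : A, x ∈ maximalIdeal A ∧ y ∈ maximalIdeal A ∧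
      Ideal.span {x, y} ⊔ maximalIdeal A ^ 2 = maximalIdeal A ∧
      residue A (4 * a * c - b ^ 2) ≠ 0 ∧
      a * x ^ 2 + b * x * y + c * y ^ 2 ∈ maximalIdeal A ^ 3 := by
  set B := Bf (qf a' b' c') with hB
  set 𝔫 := maximalIdeal B with h𝔫
  set X' : B := Ideal.Quotient.mk _ (X 0) with hX'
  set Y' : B := Ideal.Quotient.mk _ (X 1) with hY'
  set α : B := Ideal.Quotient.mk _ (C a') with hα
  set β : B := Ideal.Quotient.mk _ (C b') with hβ
  set γ : B := Ideal.Quotient.mk _ (C c') with hγ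
  have hrel : α * X' ^ 2 + β * X' * Y' + γ * Y' ^ 2 = 0 := by
    have h0 : Ideal.Quotient.mk (Ideal.span {qf a' b' c'}) (qf a' b' c') = 0 :=
      Ideal.Quotient.eq_zero_iff_mem.2 (Ideal.subset_span rfl)
    calc _ = Ideal.Quotient.mk (Ideal.span {qf a' b' c'})
          (C a' * X 0 ^ 2 + C b' * X 0 * X 1 + C c' * X 1 ^ 2) := by
          simp only [map_add, map_mul, map_pow, hα, hβ, hγ, hX', hY']
      _ = 0 := h0
  have h𝔫span : 𝔫 = Ideal.span {X', Y'} := max_Bf_eq_span
  have hX'm : X' ∈ 𝔫 := by rw [h𝔫span]; exact Ideal.subset_span (Set.mem_insert _ _)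
  have hY'm : Y' ∈ 𝔫 := by rw [h𝔫span]; exact Ideal.subset_span (Set.mem_insert_of_mem _ rfl)
  have h21 : 𝔫 ^ 2 ≤ 𝔫 := Ideal.pow_le_self two_ne_zero
  obtain ⟨x, hx⟩ := P2 2 X'
  obtain ⟨y, hy⟩ := P2 2 Y'
  obtain ⟨a, ha⟩ := P2 1 α
  obtain ⟨b, hb⟩ := P2 1 β
  obtain ⟨c, hc⟩ := P2 1 γ
  rw [pow_one] at ha hb hc
  have hφx : φ x ∈ 𝔫 := by
    have : φ x = X' - (X' - φ x) := by ring
    rw [this]; exact sub_mem hX'm (h21 hx)
  have hφy : φ y ∈ 𝔫 := by
    have : φ y = Y' - (Y' - φ y) := by ring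
    rw [this]; exact sub_mem hY'm (h21 hy)
  have hxm : x ∈ maximalIdeal A := by
    have := P3 1 x (by rw [pow_one]; exact hφx)
    rwa [pow_one] at this
  have hym : y ∈ maximalIdeal A := by
    have := P3 1 y (by rw [pow_one]; exact hφy)
    rwa [pow_one] at this
  have hxX : φ x - X' ∈ 𝔫 ^ 2 := by rw [← neg_sub]; exact neg_mem hx
  have hyY : φ y - Y' ∈ 𝔫 ^ 2 := by rw [← neg_sub]; exact neg_mem hy
  have haα : φ a - α ∈ 𝔫 := by rw [← neg_sub]; exact neg_mem ha
  have hbβ : φ b - β ∈ 𝔫 := by rw [← neg_sub]; exact neg_mem hb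
  have hcγ : φ c - γ ∈ 𝔫 := by rw [← neg_sub]; exact neg_mem hc
  refine ⟨x, y, a, b, c, hxm, hym, ?_, ?_, ?_⟩
  · apply le_antisymm
    · refine sup_le ?_ (Ideal.pow_le_self two_ne_zero)
      rw [Ideal.span_le]
      intro z hz
      rw [Set.mem_insert_iff, Set.mem_singleton_iff] at hz
      rcases hz with rfl | rfl
      · exact hxm
      · exact hym
    · intro z hz
      have hφz : φ z ∈ 𝔫 := by
        have := P4 1 z (by rw [pow_one]; exact hz)
        rwa [pow_one] at this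
      rw [h𝔫span, Ideal.mem_span_pair] at hφz
      obtain ⟨u, v, huv⟩ := hφz
      obtain ⟨u₀, hu₀⟩ := P2 1 u
      obtain ⟨v₀, hv₀⟩ := P2 1 v
      rw [pow_one] at hu₀ hv₀
      have hw : φ (z - (u₀ * x + v₀ * y)) ∈ 𝔫 ^ 2 := by
        have e1 : φ (z - (u₀ * x + v₀ * y)) = (u - φ u₀) * X' + φ u₀ * (X' - φ x) +
            ((v - φ v₀) * Y' + φ v₀ * (Y' - φ y)) := by
          rw [map_sub, map_add, map_mul, map_mul, ← huv]; ring
        rw [e1]
        refine add_mem (add_mem ?_ (Ideal.mul_mem_left _ _ hx)) (add_mem ?_ (Ideal.mul_mem_left _ _ hy))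
        · rw [sq]; exact Ideal.mul_mem_mul hu₀ hX'm
        · rw [sq]; exact Ideal.mul_mem_mul hv₀ hY'm
      have hw' := P3 2 _ hw
      have : z = (u₀ * x + v₀ * y) + (z - (u₀ * x + v₀ * y)) := by ring
      rw [this]
      refine Submodule.add_mem_sup ?_ hw'
      rw [Ideal.mem_span_pair]
      exact ⟨u₀, v₀, rfl⟩
  · intro h
    rw [IsLocalRing.residue_eq_zero_iff] at h
    have h1 : φ (4 * a * c - b ^ 2) ∈ 𝔫 := by
      have := P4 1 _ (by rw [pow_one]; exact h)
      rwa [pow_one] at this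
    have h2 : 4 * α * γ - β ^ 2 ∈ 𝔫 := by
      have e1 : 4 * α * γ - β ^ 2 = φ (4 * a * c - b ^ 2) -
          (4 * (φ a - α) * γ + 4 * φ a * (φ c - γ) - (φ b - β) * (φ b + β)) := by
        rw [map_sub, map_mul, map_mul, map_pow, map_ofNat]; ring
      rw [e1]
      refine sub_mem h1 (sub_mem (add_mem ?_ ?_) ?_)
      · exact Ideal.mul_mem_right _ _ (Ideal.mul_mem_left _ _ haα)
      · exact Ideal.mul_mem_left _ _ hcγ
      · exact Ideal.mul_mem_right _ _ hbβ
    have h3 : 4 * α * γ - β ^ 2 =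
        Ideal.Quotient.mk (Ideal.span {qf a' b' c'}) (C (4 * a' * c' - b' ^ 2)) := by
      simp only [hα, hβ, hγ, map_sub, map_mul, map_pow, map_ofNat]
    rw [h3, h𝔫, mk_mem_max_iff, constantCoeff_C] at h2
    exact hd' h2
  · apply P3
    have e1 : φ (a * x ^ 2 + b * x * y + c * y ^ 2) =
        ((φ a - α) * (φ x * φ x) + (φ b - β) * (φ x * φ y) + (φ c - γ) * (φ y * φ y)) +
        (α * ((φ x - X') * (φ x + X')) + β * ((φ x - X') * φ y + (φ y - Y') * X') +
          γ * ((φ y - Y') * (φ y + Y'))) := by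
      simp only [map_add, map_mul, map_pow]
      linear_combination hrel
    rw [e1]
    have hp1 : 𝔫 ^ 3 = 𝔫 * (𝔫 * 𝔫) := by rw [pow_succ', sq]
    have hp2 : 𝔫 ^ 3 = 𝔫 ^ 2 * 𝔫 := by rw [pow_succ]
    refine add_mem ?_ ?_
    · rw [hp1]
      exact add_mem (add_mem (Ideal.mul_mem_mul haα (Ideal.mul_mem_mul hφx hφx))
        (Ideal.mul_mem_mul hbβ (Ideal.mul_mem_mul hφx hφy)))
        (Ideal.mul_mem_mul hcγ (Ideal.mul_mem_mul hφy hφy))
    · rw [hp2]
      refine add_mem (add_mem (Ideal.mul_mem_left _ _ ?_) (Ideal.mul_mem_left _ _ ?_))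
        (Ideal.mul_mem_left _ _ ?_)
      · exact Ideal.mul_mem_mul hxX (add_mem hφx hX'm)
      · exact add_mem (Ideal.mul_mem_mul hxX hφy) (Ideal.mul_mem_mul hyY hX'm)
      · exact Ideal.mul_mem_mul hyY (add_mem hφy hY'm)

local notation "Â" => AdicCompletion (maximalIdeal A) A

lemma ringEquiv_mem_pow_iff {R S : Type u} [CommRing R] [IsLocalRing R] [CommRing S] [IsLocalRing S]
    (e : R ≃+* S) (n : ℕ) (z : R) : e z ∈ maximalIdeal S ^ n ↔ z ∈ maximalIdeal R ^ n := by
  have key : ∀ {R S : Type u} [CommRing R] [IsLocalRing R] [CommRing S] [IsLocalRing S]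
      (e : R ≃+* S) (z : R), z ∈ maximalIdeal R ^ n → e z ∈ maximalIdeal S ^ n := by
    intro R S _ _ _ _ e z hz
    rw [← IsLocalRing.map_ringEquiv_maximalIdeal e, ← Ideal.map_pow]
    exact Ideal.mem_map_of_mem _ hz
  constructor
  · intro h
    have := key e.symm (e z) h
    rwa [RingEquiv.symm_apply_apply] at this
  · exact key e z

theorem backward (a' b' c' : ResidueField A) (hd' : 4 * a' * c' - b' ^ 2 ≠ 0)
    (e : Â ≃+* Bf (qf a' b' c')) :
    IsReduced A ∧ Module.finrank (ResidueField A) (CotangentSpace A) = 2 ∧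
      ∃ x y a b c : A, x ∈ maximalIdeal A ∧ y ∈ maximalIdeal A ∧
        Ideal.span {x, y} ⊔ maximalIdeal A ^ 2 = maximalIdeal A ∧
        residue A (4 * a * c - b ^ 2) ≠ 0 ∧
        a * x ^ 2 + b * x * y + c * y ^ 2 ∈ maximalIdeal A ^ 3 := by
  have hm2 := qf_mem_sq a' b' c'
  haveI : IsLocalRing (Bf (qf a' b' c')) := isLocalRing_Bf (Ideal.pow_le_self two_ne_zero hm2)
  haveI : IsReduced (Bf (qf a' b' c')) := isReduced_qf a' b' c' hd'
  let φ : A →+* Bf (qf a' b' c') := (e : Â →+* Bf (qf a' b' c')).comp (algebraMap A Â)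
  have hφ : ∀ y, φ y = e (algebraMap A Â y) := fun y => rfl
  have hinj : Function.Injective φ := e.injective.comp algebraMap_injective
  refine ⟨isReduced_of_injective φ hinj, ?_, ?_⟩
  · rw [← IsLocalRing.spanFinrank_maximalIdeal_eq_finrank_cotangentSpace,
      ← AdicCompletion.spanFinrank_maximalIdeal_eq, ← Ideal.spanFinrank_map_eq_of_ringEquiv e,
      IsLocalRing.map_ringEquiv_maximalIdeal, spanFinrank_Bf hm2]
  · apply backward_aux a' b' c' hd' φ
    · intro n w
      obtain ⟨y, hy⟩ := exists_sub_mem_pow n (e.symm w)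
      refine ⟨y, ?_⟩
      rw [← ringEquiv_mem_pow_iff e] at hy
      rwa [map_sub, RingEquiv.apply_symm_apply] at hy
    · intro n y hy
      rw [hφ, ringEquiv_mem_pow_iff e] at hy
      exact Groth.Agent.Lib.Seat71.HypCompl.mem_pow_of_algebraMap_mem y n hy
    · intro n y hy
      rw [hφ, ringEquiv_mem_pow_iff e]
      exact algebraMap_mem_pow hy

end Backward

end Groth.Agent.Lib.Seat71.NodalE
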