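import Mathlib
import Groth.Agent.Lib.Seat71NodeBasic

set_option autoImplicit false
universe u

namespace Groth.Agent.Lib.Seat71.Node

open MvPowerSeries

/-- A commutative ring with a prime, regular element `p` such that no nonzero element is divisible
by all powers of `p` is a domain. -/
theorem noZeroDivisors_of_prime_regular {A : Type u} [CommRing A] (p : A) (hp : Prime p)
    (hreg : ∀ r : A, p * r = 0 → r = 0) (hsep : ∀ x : A, (∀ n : ℕ, p ^ n ∣ x) → x = 0) :
    NoZeroDivisors A := by
  classical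
  have hpow : ∀ (n : ℕ) (r : A), p ^ n * r = 0 → r = 0 := by
    intro n
    induction n with
    | zero => intro r h; simpa using h
    | succ n ih =>
      intro r h
      apply ih
      apply hreg
      rw [← mul_assoc, ← pow_succ']
      exact h
  have hfac : ∀ x : A, x ≠ 0 → ∃ (n : ℕ) (x' : A), x = p ^ n * x' ∧ ¬ p ∣ x' := by
    intro x hx
    have hex : ∃ n : ℕ, ¬ p ^ n ∣ x := by
      by_contra h
      simp only [not_exists, not_not] at h
      exact hx (hsep x h)
    have h0 : Nat.find hex ≠ 0 := by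
      intro h0
      have := Nat.find_spec hex
      rw [h0, pow_zero] at this
      exact this (one_dvd x)
    obtain ⟨m, hm⟩ := Nat.exists_eq_succ_of_ne_zero h0
    have hdvd : p ^ m ∣ x := by
      by_contra h
      have := Nat.find_min' hex h
      omega
    obtain ⟨x', hx'⟩ := hdvd
    refine ⟨m, x', hx', ?_⟩
    rintro ⟨x'', rfl⟩
    have := Nat.find_spec hex
    apply this
    rw [hm, hx', Nat.succ_eq_add_one, pow_succ]
    exact ⟨x'', by ring⟩
  refine ⟨fun {x y} hxy => ?_⟩
  by_contra hne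
  rw [not_or] at hne
  obtain ⟨n, x', hx, hx'⟩ := hfac x hne.1
  obtain ⟨m, y', hy, hy'⟩ := hfac y hne.2
  have h1 : p ^ (n + m) * (x' * y') = 0 := by
    rw [← hxy, hx, hy, pow_add]; ring
  have h2 := hpow _ _ h1
  have h3 : p ∣ x' * y' := by rw [h2]; exact dvd_zero p
  rcases hp.dvd_or_dvd h3 with h | h
  · exact hx' h
  · exact hy' h

variable {B : Type u} [CommRing B]

/-- The swap automorphism of `B[[x,y]]`. -/
noncomputable def swapR : MvPowerSeries (Fin 2) B ≃ₐ[B] MvPowerSeries (Fin 2) B :=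
  renameEquiv B (Equiv.swap (0 : Fin 2) 1)

@[simp] theorem swapR_X0 : swapR (X 0 : MvPowerSeries (Fin 2) B) = X 1 := by
  show rename (Equiv.swap (0 : Fin 2) 1) (X 0) = X 1
  rw [rename_X]; rfl

@[simp] theorem swapR_X1 : swapR (X 1 : MvPowerSeries (Fin 2) B) = X 0 := by
  show rename (Equiv.swap (0 : Fin 2) 1) (X 1) = X 0
  rw [rename_X]; rfl

@[simp] theorem swapR_C (b : B) : swapR (C b : MvPowerSeries (Fin 2) B) = C b := by
  show rename (Equiv.swap (0 : Fin 2) 1) (C b) = C b
  rw [rename_C]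

theorem swapR_rel (a : B) : swapR (rel a) = rel a := by
  unfold rel
  rw [map_sub, map_mul, swapR_X0, swapR_X1, swapR_C, mul_comm]

/-- The swap automorphism of the node algebra. -/
noncomputable def swapN (a : B) : ArLef.NodeAlg B a ≃+* ArLef.NodeAlg B a :=
  Ideal.quotientEquiv _ _ (swapR (B := B)).toRingEquiv (by
    have h : ((swapR (B := B)).toRingEquiv : MvPowerSeries (Fin 2) B →+* MvPowerSeries (Fin 2) B)
        (X 0 * X 1 - C a) = X 0 * X 1 - C a := swapR_rel a
    rw [Ideal.map_span, Set.image_singleton, h])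

theorem swapN_mkN (a : B) (f : MvPowerSeries (Fin 2) B) : swapN a (mkN a f) = mkN a (swapR f) := by
  unfold swapN
  rw [Ideal.quotientEquiv_mk]
  rfl

theorem swapN_t (a : B) : swapN a (ArLef.NodeAlg.t a) = ArLef.NodeAlg.e a := by
  rw [← mkN_X0, swapN_mkN, swapR_X0]

theorem swapN_e (a : B) : swapN a (ArLef.NodeAlg.e a) = ArLef.NodeAlg.t a := by
  rw [← mkN_X1, swapN_mkN, swapR_X1]

theorem swapN_algebraMap (a b : B) :
    swapN a (algebraMap B (ArLef.NodeAlg B a) b) = algebraMap B (ArLef.NodeAlg B a) b := by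
  rw [← mkN_C, swapN_mkN, swapR_C]


section Theta

variable (π : B)

/-- Reduction `B[[x,y]] → (B/π)[[y]]`, killing `x` and `π`. -/
noncomputable def theta : MvPowerSeries (Fin 2) B →+* MvPowerSeries (Fin 1) (B ⧸ Ideal.span {π}) :=
  (MvPowerSeries.map (Ideal.Quotient.mk (Ideal.span {π}))).comp ev0

theorem theta_apply (f : MvPowerSeries (Fin 2) B) :
    theta π f = MvPowerSeries.map (Ideal.Quotient.mk (Ideal.span {π})) (ev0 f) := rfl

theorem mk_pi_eq_zero : (Ideal.Quotient.mk (Ideal.span {π})) π = 0 :=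
  Ideal.Quotient.eq_zero_iff_mem.2 (Ideal.mem_span_singleton_self π)

theorem theta_C_pi : theta π (C π) = 0 := by
  rw [theta_apply, ev0_C, map_C, mk_pi_eq_zero, map_zero]

theorem theta_X0 : theta π (X 0) = 0 := by
  rw [theta_apply, ev0_X0, map_zero]

theorem theta_rel : theta π (rel π) = 0 := by
  unfold rel
  rw [map_sub, map_mul, theta_X0, theta_C_pi, zero_mul, sub_zero]

theorem theta_eq_zero_iff (f : MvPowerSeries (Fin 2) B) :
    theta π f = 0 ↔ ∃ u v, f = X 0 * u + C π * v := by
  constructor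
  · intro h
    have hc : ∀ d : Fin 1 →₀ ℕ, ∃ c : B, coeff d (ev0 f) = π * c := by
      intro d
      have h1 := congrArg (coeff d) h
      rw [theta_apply, coeff_map, map_zero, Ideal.Quotient.eq_zero_iff_mem,
        Ideal.mem_span_singleton] at h1
      exact h1
    choose c hc using hc
    let g' : MvPowerSeries (Fin 1) B := fun d => c d
    have hg' : ev0 f = C π * g' := by
      ext d
      rw [coeff_C_mul, hc d]
      rfl
    have h2 : ev0 (f - C π * lift0 g') = 0 := by
      rw [map_sub, map_mul, ev0_C, ev0_lift0, hg', sub_self]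
    obtain ⟨u, hu⟩ := (ev0_eq_zero_iff _).1 h2
    exact ⟨u, lift0 g', by rw [← hu]; ring⟩
  · rintro ⟨u, v, rfl⟩
    rw [map_add, map_mul, map_mul, theta_X0, theta_C_pi, zero_mul, zero_mul, add_zero]

/-- The induced map `NodeAlg B π → (B/π)[[y]]`. -/
noncomputable def thetaN : ArLef.NodeAlg B π →+* MvPowerSeries (Fin 1) (B ⧸ Ideal.span {π}) :=
  Ideal.Quotient.lift _ (theta π) (by
    intro a ha
    rw [Ideal.mem_span_singleton] at ha
    obtain ⟨g, rfl⟩ := ha
    have : theta π (X 0 * X 1 - C π) = 0 := theta_rel π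
    rw [map_mul, this, zero_mul])

theorem thetaN_mkN (f : MvPowerSeries (Fin 2) B) : thetaN π (mkN π f) = theta π f := rfl

theorem ker_thetaN : RingHom.ker (thetaN π) = Ideal.span {ArLef.NodeAlg.t π} := by
  ext r
  rw [RingHom.mem_ker, Ideal.mem_span_singleton]
  obtain ⟨f, rfl⟩ := mkN_surjective π r
  rw [thetaN_mkN, theta_eq_zero_iff]
  constructor
  · rintro ⟨u, v, rfl⟩
    refine ⟨mkN π u + ArLef.NodeAlg.e π * mkN π v, ?_⟩
    rw [map_add, map_mul, map_mul, mkN_X0, mkN_C, ← t_mul_e]
    ring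
  · rintro ⟨s, hs⟩
    obtain ⟨g, rfl⟩ := mkN_surjective π s
    rw [← mkN_X0, ← map_mul, ← sub_eq_zero, ← map_sub, mkN_eq_zero_iff] at hs
    obtain ⟨w, hw⟩ := hs
    refine ⟨g + X 1 * w, - w, ?_⟩
    have : f = X 0 * g + rel π * w := by rw [← hw]; ring
    rw [this]
    unfold rel
    ring

end Theta


section DVR

variable [IsDomain B] [IsDiscreteValuationRing B] (π : B) (hπ : Irreducible π)

include hπ in
theorem span_pi_isPrime : (Ideal.span {π}).IsPrime :=
  (Ideal.span_singleton_prime hπ.ne_zero).2 (UniqueFactorizationMonoid.irreducible_iff_prime.1 hπ)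

include hπ in
theorem span_t_isPrime : (Ideal.span {ArLef.NodeAlg.t π}).IsPrime := by
  have := span_pi_isPrime π hπ
  have : IsDomain (MvPowerSeries (Fin 1) (B ⧸ Ideal.span {π})) := NoZeroDivisors.to_isDomain _
  rw [← ker_thetaN]
  exact RingHom.ker_isPrime _

include hπ in
theorem nodeAlg_nontrivial : Nontrivial (ArLef.NodeAlg B π) := by
  have := span_pi_isPrime π hπ
  exact RingHom.domain_nontrivial (thetaN π)

include hπ in
theorem t_ne_zero : ArLef.NodeAlg.t π ≠ 0 := by
  have := nodeAlg_nontrivial π hπ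
  intro h
  have h1 : algebraMap B (ArLef.NodeAlg B π) π * 1 = 0 := by
    rw [mul_one, ← t_mul_e, h, zero_mul]
  exact one_ne_zero (Groth.Agent.Lib.Helper22.nodeAlg_pi_regular π hπ.ne_zero 1 h1)

include hπ in
theorem t_prime : Prime (ArLef.NodeAlg.t π) :=
  (Ideal.span_singleton_prime (t_ne_zero π hπ)).1 (span_t_isPrime π hπ)

include hπ in
theorem e_prime : Prime (ArLef.NodeAlg.e π) := by
  rw [← swapN_t]
  exact (MulEquiv.prime_iff (swapN π)).2 (t_prime π hπ)

include hπ in
theorem nodeAlg_isLocalRing : IsLocalRing (ArLef.NodeAlg B π) := by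
  have := nodeAlg_nontrivial π hπ
  exact IsLocalRing.of_surjective' (mkN π) (mkN_surjective π)

instance nodeAlg_isNoetherianRing (a : B) : IsNoetherianRing (ArLef.NodeAlg B a) :=
  isNoetherianRing_of_surjective _ _ (mkN a) (mkN_surjective a)

include hπ in
theorem nodeAlg_noZeroDivisors : NoZeroDivisors (ArLef.NodeAlg B π) := by
  have := nodeAlg_isLocalRing π hπ
  refine noZeroDivisors_of_prime_regular (ArLef.NodeAlg.t π) (t_prime π hπ)
    (t_regular π hπ.ne_zero) ?_
  intro x hx
  have hne : Ideal.span {ArLef.NodeAlg.t π} ≠ ⊤ := (span_t_isPrime π hπ).ne_top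
  have h := Ideal.iInf_pow_eq_bot_of_isLocalRing _ hne
  have hx' : x ∈ ⨅ i : ℕ, Ideal.span {ArLef.NodeAlg.t π} ^ i := by
    rw [Ideal.mem_iInf]
    intro i
    rw [Ideal.span_singleton_pow, Ideal.mem_span_singleton]
    exact hx i
  rw [h] at hx'
  exact hx'

include hπ in
theorem nodeAlg_isDomain : IsDomain (ArLef.NodeAlg B π) := by
  have := nodeAlg_nontrivial π hπ
  have := nodeAlg_noZeroDivisors π hπ
  exact NoZeroDivisors.to_isDomain _

end DVR

end Groth.Agent.Lib.Seat71.Node
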