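import Mathlib
import Groth.Agent.Lib.Seat71ArSingNodeAut
import Groth.Agent.Lib.Seat71ArSingCuspExt
import Groth.Agent.S7923

/-!
Seat71NodeEqB: analysis of the closed fibre of a node deformation `R → S` whose closed fibre is the
node `k[[x,y]]/(y^2-x^2)`, with an involution preserving the branches: eigen-lifts of the branch
coordinates.
-/

set_option autoImplicit false
set_option linter.unusedSectionVars false
set_option linter.style.haveILetI false
universe u

namespace Groth.Agent.Lib.Seat71.NodeEqB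

open IsLocalRing Groth.Agent.Lib.Seat71.ArSingBasic Groth.Agent.Lib.Seat71.ArSingNF
  Groth.Agent.Lib.Seat71.ArSingSwap Groth.Agent.Lib.Seat71.ArSingNodeAut
  Groth.Agent.Lib.Seat71.ArSingCusp

section Node

variable {k : Type u} [Field k]

lemma isUnit_iff_cc (z : ArSing.ring k 1) :
    IsUnit z ↔ PowerSeries.constantCoeff (P z) ≠ 0 := by
  constructor
  · intro h
    have := h.map (P : ArSing.ring k 1 →ₐ[k] PowerSeries k)
    rw [PowerSeries.isUnit_iff_constantCoeff] at this
    exact this.ne_zero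
  · intro h
    obtain ⟨a, b, rfl⟩ := Φ_surj 1 z
    rw [P_Φ] at h
    apply isUnit_Φ 1 b
    simpa using h

/-- The augmentation of the node. -/
noncomputable def aug : ArSing.ring k 1 →ₐ[k] k :=
  { (PowerSeries.constantCoeff (R := k)).comp
      (P : ArSing.ring k 1 →ₐ[k] PowerSeries k).toRingHom with
    commutes' := fun c => by
      change PowerSeries.constantCoeff (P (algebraMap k (ArSing.ring k 1) c)) = c
      rw [AlgHom.commutes, PowerSeries.algebraMap_apply, Algebra.algebraMap_self,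
        RingHom.id_apply, PowerSeries.constantCoeff_C] }

lemma aug_apply (z : ArSing.ring k 1) : aug z = PowerSeries.constantCoeff (P z) := rfl

lemma isUnit_iff_aug (z : ArSing.ring k 1) : IsUnit z ↔ aug z ≠ 0 := isUnit_iff_cc z

end Node

section Fibre

variable {k : Type u} [Field k] {R S : Type u} [CommRing R] [IsLocalRing R] [CommRing S]
  [IsLocalRing S] [Algebra k R] [Algebra R S] [Algebra k S] [IsScalarTower k R S]
  [IsLocalHom (algebraMap R S)]
  (π : S →ₐ[k] ArSing.ring k 1) (hπ : Function.Surjective π)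
  (hker : RingHom.ker π.toRingHom = (maximalIdeal R).map (algebraMap R S))

include hker in
lemma mem_I_iff (s : S) : s ∈ (maximalIdeal R).map (algebraMap R S) ↔ π s = 0 := by
  rw [← hker, RingHom.mem_ker]; rfl

include hπ hker in
lemma isUnit_of_isUnit_π {s : S} (h : IsUnit (π s)) : IsUnit s := by
  obtain ⟨w, hw⟩ := h.exists_right_inv
  obtain ⟨s', rfl⟩ := hπ w
  have h1 : s * s' - 1 ∈ (maximalIdeal R).map (algebraMap R S) := by
    rw [mem_I_iff π hker, map_sub, map_mul, hw, map_one, sub_self]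
  have h2 : s * s' - 1 ∈ maximalIdeal S := Groth.Agent.S7923.map_max_le h1
  have h3 : IsUnit (s * s') := by
    by_contra hn
    have h4 : s * s' ∈ maximalIdeal S := hn
    have h5 : (1 : S) ∈ maximalIdeal S := by
      have := sub_mem h4 h2
      rwa [sub_sub_cancel] at this
    exact (maximalIdeal.isMaximal S).ne_top ((Ideal.eq_top_iff_one _).2 h5)
  exact isUnit_of_mul_isUnit_left h3

/-- The augmentation `S → k`. -/
noncomputable def χ : S →ₐ[k] k := aug.comp π

include hπ hker in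
lemma mem_max_iff (s : S) : s ∈ maximalIdeal S ↔ χ π s = 0 := by
  rw [mem_maximalIdeal, mem_nonunits_iff]
  constructor
  · intro h
    by_contra hn
    exact h (isUnit_of_isUnit_π π hπ hker ((isUnit_iff_aug _).2 hn))
  · intro h hu
    exact ((isUnit_iff_aug _).1 (hu.map π)) h

include hπ hker in
lemma sub_χ_mem (s : S) : s - algebraMap k S (χ π s) ∈ maximalIdeal S := by
  rw [mem_max_iff π hπ hker, map_sub, AlgHom.commutes, Algebra.algebraMap_self, RingHom.id_apply,
    sub_self]

include hπ hker in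
lemma hres : Function.Bijective (IsLocalRing.ResidueField.map (algebraMap R S)) := by
  refine ⟨RingHom.injective _, fun y => ?_⟩
  obtain ⟨s, rfl⟩ := residue_surjective y
  refine ⟨residue R (algebraMap k R (χ π s)), ?_⟩
  rw [ResidueField.map_residue, ← IsScalarTower.algebraMap_apply]
  symm
  rw [← sub_eq_zero, ← map_sub, residue_eq_zero_iff]
  exact sub_χ_mem π hπ hker s

variable (h2 : (2 : k) ≠ 0) (u₀ v₀ : S) (hu₀ : π u₀ = ArSing.y k 1 - ArSing.x k 1)
  (hv₀ : π v₀ = ArSing.x k 1 + ArSing.y k 1)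

include hker hu₀ hv₀ in
lemma u₀_mul_v₀_mem : u₀ * v₀ ∈ (maximalIdeal R).map (algebraMap R S) := by
  rw [mem_I_iff π hker, map_mul, hu₀, hv₀, mul_comm]
  exact u_mul_v

include hπ hker h2 hu₀ hv₀ in
lemma hgen₀ : maximalIdeal S =
    Ideal.span {u₀, v₀} ⊔ (maximalIdeal R).map (algebraMap R S) := by
  apply le_antisymm
  · intro s hs
    have h1 : ¬ IsUnit (π s) := by
      rw [isUnit_iff_aug]
      rw [mem_max_iff π hπ hker] at hs
      exact not_not.2 hs
    rw [← mem_span_x_y_iff_not_isUnit, Ideal.mem_span_pair] at h1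
    obtain ⟨α, β, hαβ⟩ := h1
    obtain ⟨a, ha⟩ := hπ (algebraMap k _ (2 : k)⁻¹ * (β - α))
    obtain ⟨b, hb⟩ := hπ (algebraMap k _ (2 : k)⁻¹ * (α + β))
    have hC : algebraMap k (ArSing.ring k 1) (2 : k)⁻¹ * 2 = 1 := by
      have : (2 : ArSing.ring k 1) = algebraMap k _ (2 : k) := (map_ofNat _ 2).symm
      rw [this, ← map_mul, inv_mul_cancel₀ h2, map_one]
    have h3 : s - (a * u₀ + b * v₀) ∈ (maximalIdeal R).map (algebraMap R S) := by
      rw [mem_I_iff π hker, map_sub, map_add, map_mul, map_mul, ha, hb, hu₀, hv₀, ← hαβ]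
      linear_combination (-(α * ArSing.x k 1) - β * ArSing.y k 1) * hC
    have h4 : s = (a * u₀ + b * v₀) + (s - (a * u₀ + b * v₀)) := by ring
    rw [h4]
    refine Submodule.add_mem_sup ?_ h3
    rw [Ideal.mem_span_pair]
    exact ⟨a, b, rfl⟩
  · refine sup_le ?_ Groth.Agent.S7923.map_max_le
    rw [Ideal.span_le]
    intro z hz
    rw [Set.mem_insert_iff, Set.mem_singleton_iff] at hz
    rw [SetLike.mem_coe, mem_max_iff π hπ hker]
    change aug (π z) = 0
    rcases hz with rfl | rfl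
    · rw [hu₀, aug_apply, map_sub, P_x, P_y, sub_self, map_zero]
    · rw [hv₀, aug_apply, map_add, P_x, P_y]
      simp

end Fibre

section Branch

variable {k : Type u} [Field k] {R S : Type u} [CommRing R] [IsLocalRing R] [CommRing S]
  [IsLocalRing S] [Algebra k R] [Algebra R S] [Algebra k S] [IsScalarTower k R S]
  [IsLocalHom (algebraMap R S)]
  (π : S →ₐ[k] ArSing.ring k 1) (hπ : Function.Surjective π)
  (hker : RingHom.ker π.toRingHom = (maximalIdeal R).map (algebraMap R S))
  (β : ArSing.ring k 1 →ₐ[k] PowerSeries k) (g g' : ArSing.ring k 1)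
  (hβ : RingHom.ker β.toRingHom = Ideal.span {g}) (hgg' : g * g' = 0) (hβg' : β g' ≠ 0)
  (hg0 : g ≠ 0)

/-- The branch prime of `S`. -/
noncomputable def branch : Ideal S := RingHom.ker (β.toRingHom.comp π.toRingHom)

lemma mem_branch (s : S) : s ∈ branch π β ↔ β (π s) = 0 := by
  unfold branch
  rw [RingHom.mem_ker]; rfl

include hπ hker hβ hgg' hβg' in
lemma branch_mem_minimalPrimes :
    branch π β ∈ ((maximalIdeal R).map (algebraMap R S)).minimalPrimes := by
  have hprime : (branch π β).IsPrime := RingHom.ker_isPrime _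
  have hle : (maximalIdeal R).map (algebraMap R S) ≤ branch π β := by
    intro s hs
    rw [mem_branch, (mem_I_iff π hker s).1 hs, map_zero]
  refine ⟨⟨hprime, hle⟩, ?_⟩
  rintro q ⟨hq, hqI⟩ hqp
  obtain ⟨u₀, hu₀⟩ := hπ g
  obtain ⟨v₀, hv₀⟩ := hπ g'
  have h1 : u₀ * v₀ ∈ q := hqI (by rw [mem_I_iff π hker, map_mul, hu₀, hv₀, hgg'])
  have h2 : u₀ ∈ q := by
    rcases hq.mem_or_mem h1 with h | h
    · exact h
    · exfalso
      have := hqp h
      rw [mem_branch, hv₀] at this
      exact hβg' this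
  intro s hs
  rw [mem_branch] at hs
  have h3 : π s ∈ Ideal.span {g} := by
    rw [← hβ, RingHom.mem_ker]; exact hs
  rw [Ideal.mem_span_singleton'] at h3
  obtain ⟨z, hz⟩ := h3
  obtain ⟨a, rfl⟩ := hπ z
  have h4 : s - a * u₀ ∈ q := hqI (by rw [mem_I_iff π hker, map_sub, map_mul, hu₀, hz, sub_self])
  have h5 : s = (s - a * u₀) + a * u₀ := by ring
  rw [h5]
  exact add_mem h4 (Ideal.mul_mem_left _ _ h2)

variable (σ : S ≃ₐ[R] S) (hσ : ∀ s, σ (σ s) = s)

lemma σ_algebraMap (c : k) : σ (algebraMap k S c) = algebraMap k S c := by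
  rw [IsScalarTower.algebraMap_apply k R S, AlgEquiv.commutes]

lemma σ_mem_I {x : S} (hx : x ∈ (maximalIdeal R).map (algebraMap R S)) :
    σ x ∈ (maximalIdeal R).map (algebraMap R S) := by
  unfold Ideal.map at hx ⊢
  induction hx using Submodule.span_induction with
  | mem x hx =>
    obtain ⟨a, ha, rfl⟩ := hx
    rw [AlgEquiv.commutes]
    exact Ideal.subset_span ⟨a, ha, rfl⟩
  | zero => rw [map_zero]; exact zero_mem _
  | add x y _ _ hx hy => rw [map_add]; exact add_mem hx hy
  | smul b x _ hx => rw [smul_eq_mul, map_mul]; exact Ideal.mul_mem_left _ _ hx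

include hπ hker in
lemma χ_σ (s : S) : χ π (σ s) = χ π s := by
  have h1 : s - algebraMap k S (χ π s) ∈ maximalIdeal S := sub_χ_mem π hπ hker s
  have h2 : σ (s - algebraMap k S (χ π s)) ∈ maximalIdeal S := by
    rw [mem_maximalIdeal, mem_nonunits_iff] at h1 ⊢
    intro hu
    apply h1
    have := hu.map σ.symm
    simpa using this
  rw [map_sub, σ_algebraMap, mem_max_iff π hπ hker, map_sub, AlgHom.commutes,
    Algebra.algebraMap_self, RingHom.id_apply, sub_eq_zero] at h2
  exact h2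

include hπ hker hβ hg0 hσ in
/-- Eigen-lift of a branch coordinate. -/
theorem exists_eigen_lift (h2 : (2 : k) ≠ 0)
    (hfix : Ideal.map (σ : S →+* S) (branch π β) = branch π β)
    (u₀ : S) (hu₀ : π u₀ = g) :
    ∃ (ξ : k) (u a : S), ξ * ξ = 1 ∧ σ u = algebraMap k S ξ * u ∧ IsUnit a ∧
      u - u₀ * a ∈ (maximalIdeal R).map (algebraMap R S) := by
  have hu₀p : u₀ ∈ branch π β := by
    rw [mem_branch, hu₀, ← RingHom.mem_ker]
    change g ∈ RingHom.ker β.toRingHom
    rw [hβ]
    exact Ideal.subset_span rfl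
  have hσu₀p : σ u₀ ∈ branch π β := by
    rw [← hfix]
    exact Ideal.mem_map_of_mem (σ : S →+* S) hu₀p
  rw [mem_branch] at hσu₀p
  have h3 : π (σ u₀) ∈ Ideal.span {g} := by
    rw [← hβ, RingHom.mem_ker]; exact hσu₀p
  rw [Ideal.mem_span_singleton'] at h3
  obtain ⟨z, hz⟩ := h3
  obtain ⟨w, rfl⟩ := hπ z
  have hi : σ u₀ - u₀ * w ∈ (maximalIdeal R).map (algebraMap R S) := by
    rw [mem_I_iff π hker, map_sub, map_mul, hu₀, ← hz, mul_comm, sub_self]
  set i := σ u₀ - u₀ * w with hi_def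
  have hσu₀ : σ u₀ = u₀ * w + i := by rw [hi_def]; ring
  set ξ := χ π w with hξ
  have hξξ : ξ * ξ = 1 := by
    by_contra hne
    have hd : IsUnit (1 - w * σ w) := by
      by_contra hn
      have h4 : 1 - w * σ w ∈ maximalIdeal S := hn
      rw [mem_max_iff π hπ hker, map_sub, map_one, map_mul, χ_σ π hπ hker σ, ← hξ,
        sub_eq_zero] at h4
      exact hne h4.symm
    have h5 : u₀ * (1 - w * σ w) ∈ (maximalIdeal R).map (algebraMap R S) := by
      have h6 : u₀ * (1 - w * σ w) = i * σ w + σ i := by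
        have h7 : σ (σ u₀) = u₀ := hσ u₀
        rw [hσu₀, map_add, map_mul, hσu₀] at h7
        linear_combination (-1 : S) * h7
      rw [h6]
      exact add_mem (Ideal.mul_mem_right _ _ hi) (σ_mem_I σ hi)
    rw [mem_I_iff π hker, map_mul, hu₀] at h5
    have h8 : IsUnit (π (1 - w * σ w)) := hd.map π
    exact hg0 ((IsUnit.mul_left_eq_zero h8).1 h5)
  set c := algebraMap k S (2 : k)⁻¹ with hc
  set x := algebraMap k S ξ with hx
  have hxx : x * x = 1 := by rw [hx, ← map_mul, hξξ, map_one]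
  have hc2 : 2 * c = 1 := by
    have : (2 : S) = algebraMap k S (2 : k) := (map_ofNat _ 2).symm
    rw [this, hc, ← map_mul, mul_inv_cancel₀ h2, map_one]
  refine ⟨ξ, c * (u₀ + x * σ u₀), c * (1 + x * w), hξξ, ?_, ?_, ?_⟩
  · rw [map_mul, map_add, map_mul, hσ, hc, hx, σ_algebraMap, σ_algebraMap]
    linear_combination (-(algebraMap k S (2 : k)⁻¹ * σ u₀)) * hxx
  · have : ¬ (c * (1 + x * w) ∈ maximalIdeal S) := by
      rw [mem_max_iff π hπ hker, map_mul, map_add, map_one, map_mul, hc, hx, AlgHom.commutes,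
        AlgHom.commutes, Algebra.algebraMap_self, RingHom.id_apply, RingHom.id_apply, ← hξ, hξξ]
      rw [show (1 : k) + 1 = 2 by norm_num, inv_mul_cancel₀ h2]
      exact one_ne_zero
    rw [mem_maximalIdeal, mem_nonunits_iff, not_not] at this
    exact this
  · have h9 : c * (u₀ + x * σ u₀) - u₀ * (c * (1 + x * w)) = c * x * i := by
      rw [hσu₀]; ring
    rw [h9]
    exact Ideal.mul_mem_left _ _ hi

end Branch

section Main

variable {k : Type u} [Field k] {R S : Type u} [CommRing R] [IsLocalRing R] [CommRing S]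
  [IsLocalRing S] [Algebra k R] [Algebra R S] [Algebra k S] [IsScalarTower k R S]
  [IsLocalHom (algebraMap R S)]
  (π : S →ₐ[k] ArSing.ring k 1) (hπ : Function.Surjective π)
  (hker : RingHom.ker π.toRingHom = (maximalIdeal R).map (algebraMap R S))
  (σ : S ≃ₐ[R] S) (hσ : ∀ s, σ (σ s) = s)

include hπ hker hσ in
/-- Eigen-coordinates of the closed fibre, lifted to `S`. -/
theorem exists_uv (h2 : (2 : k) ≠ 0)
    (hbr : ∀ p ∈ ((maximalIdeal R).map (algebraMap R S)).minimalPrimes,
      Ideal.map (σ : S →+* S) p = p) :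
    ∃ (ξ₁ ξ₂ : k) (u v : S), ξ₁ * ξ₁ = 1 ∧ ξ₂ * ξ₂ = 1 ∧ σ u = algebraMap k S ξ₂ * u ∧
      σ v = algebraMap k S ξ₁ * v ∧ u * v ∈ (maximalIdeal R).map (algebraMap R S) ∧
      maximalIdeal S = Ideal.span {u, v} ⊔ (maximalIdeal R).map (algebraMap R S) := by
  obtain ⟨u₀, hu₀⟩ := hπ (ArSing.y k 1 - ArSing.x k 1)
  obtain ⟨v₀, hv₀⟩ := hπ (ArSing.x k 1 + ArSing.y k 1)
  have hβP : RingHom.ker (P : ArSing.ring k 1 →ₐ[k] PowerSeries k).toRingHom =
      Ideal.span {ArSing.y k 1 - ArSing.x k 1} := by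
    rw [← ker_P]; rfl
  have hβQ : RingHom.ker (Q : ArSing.ring k 1 →ₐ[k] PowerSeries k).toRingHom =
      Ideal.span {ArSing.x k 1 + ArSing.y k 1} := by
    rw [← ker_Q]; rfl
  have hgg' : (ArSing.y k 1 - ArSing.x k 1) * (ArSing.x k 1 + ArSing.y k 1) = 0 := by
    rw [mul_comm]; exact u_mul_v
  have hPg' : P (ArSing.x k 1 + ArSing.y k 1) ≠ 0 := by
    rw [P_u]; exact two_X_ne_zero h2
  have hQg' : Q (ArSing.y k 1 - ArSing.x k 1) ≠ 0 := by
    rw [Q_v]
    intro h
    apply two_X_ne_zero h2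
    linear_combination (-1 : PowerSeries k) * h
  have hg0 : ArSing.y k 1 - ArSing.x k 1 ≠ 0 := by
    intro h
    apply hQg'
    rw [h, map_zero]
  have hg0' : ArSing.x k 1 + ArSing.y k 1 ≠ 0 := by
    intro h
    apply hPg'
    rw [h, map_zero]
  have hminP := branch_mem_minimalPrimes π hπ hker P _ _ hβP hgg' hPg'
  have hminQ := branch_mem_minimalPrimes π hπ hker Q _ _ hβQ u_mul_v hQg'
  obtain ⟨ξ₂, u, a, hξ₂, hσu, ha, hua⟩ :=
    exists_eigen_lift π hπ hker P _ hβP hg0 σ hσ h2 (hbr _ hminP) u₀ hu₀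
  obtain ⟨ξ₁, v, b, hξ₁, hσv, hb, hvb⟩ :=
    exists_eigen_lift π hπ hker Q _ hβQ hg0' σ hσ h2 (hbr _ hminQ) v₀ hv₀
  have h00 := u₀_mul_v₀_mem π hker u₀ v₀ hu₀ hv₀
  have hgen := hgen₀ π hπ hker h2 u₀ v₀ hu₀ hv₀
  refine ⟨ξ₁, ξ₂, u, v, hξ₁, hξ₂, hσu, hσv, ?_, ?_⟩
  · have h1 : u * v = (u - u₀ * a) * v + u₀ * a * (v - v₀ * b) + u₀ * v₀ * (a * b) := by ring
    rw [h1]
    exact add_mem (add_mem (Ideal.mul_mem_right _ _ hua) (Ideal.mul_mem_left _ _ hvb))
      (Ideal.mul_mem_right _ _ h00)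
  · rw [hgen]
    apply le_antisymm
    · refine sup_le ?_ le_sup_right
      rw [Ideal.span_le]
      intro z hz
      rw [Set.mem_insert_iff, Set.mem_singleton_iff] at hz
      rcases hz with rfl | rfl
      · obtain ⟨a', ha'⟩ := ha.exists_right_inv
        have h1 : z = a' * u + (-(a' * (u - z * a))) := by
          linear_combination (-z) * ha'
        rw [SetLike.mem_coe, h1]
        exact Submodule.add_mem_sup
          (Ideal.mul_mem_left _ _ (Ideal.subset_span (Set.mem_insert _ _)))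
          (neg_mem (Ideal.mul_mem_left _ _ hua))
      · obtain ⟨b', hb'⟩ := hb.exists_right_inv
        have h1 : z = b' * v + (-(b' * (v - z * b))) := by
          linear_combination (-z) * hb'
        rw [SetLike.mem_coe, h1]
        exact Submodule.add_mem_sup
          (Ideal.mul_mem_left _ _ (Ideal.subset_span (Set.mem_insert_of_mem _ rfl)))
          (neg_mem (Ideal.mul_mem_left _ _ hvb))
    · refine sup_le ?_ le_sup_right
      rw [Ideal.span_le]
      intro z hz
      rw [Set.mem_insert_iff, Set.mem_singleton_iff] at hz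
      rcases hz with rfl | rfl
      · have h1 : z = a * u₀ + (z - u₀ * a) := by ring
        rw [SetLike.mem_coe, h1]
        exact Submodule.add_mem_sup
          (Ideal.mul_mem_left _ _ (Ideal.subset_span (Set.mem_insert _ _))) hua
      · have h1 : z = b * v₀ + (z - v₀ * b) := by ring
        rw [SetLike.mem_coe, h1]
        exact Submodule.add_mem_sup
          (Ideal.mul_mem_left _ _ (Ideal.subset_span (Set.mem_insert_of_mem _ rfl))) hvb

end Main

end Groth.Agent.Lib.Seat71.NodeEqB
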