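import Mathlib
import Groth.Agent.S7923

/-!
Seat71NodeEqC: equivariant approximating sequences for a node deformation with an involution.
-/

set_option autoImplicit false
set_option linter.unusedSectionVars false
universe u

namespace Groth.Agent.Lib.Seat71.NodeEqC

open IsLocalRing

variable {A B : Type u} [CommRing A] [IsLocalRing A] [CommRing B] [IsLocalRing B] [Algebra A B]
  [IsLocalHom (algebraMap A B)]

/-- An `A`-algebra automorphism preserves extended ideals. -/
lemma sigma_mem (σ : B ≃ₐ[A] B) (J : Ideal A) {x : B} (hx : x ∈ J.map (algebraMap A B)) :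
    σ x ∈ J.map (algebraMap A B) := by
  unfold Ideal.map at hx ⊢
  induction hx using Submodule.span_induction with
  | mem x hx =>
    obtain ⟨a, ha, rfl⟩ := hx
    rw [AlgEquiv.commutes]
    exact Ideal.subset_span ⟨a, ha, rfl⟩
  | zero => rw [map_zero]; exact zero_mem _
  | add x y _ _ hx hy => rw [map_add]; exact add_mem hx hy
  | smul b x _ hx => rw [smul_eq_mul, map_mul]; exact Ideal.mul_mem_left _ _ hx

variable (σ : B ≃ₐ[A] B) (hσ : ∀ s, σ (σ s) = s) (η₁ η₂ hf : A)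
  (h1 : η₁ * η₁ = 1) (h2 : η₂ * η₂ = 1) (hh : 2 * hf = 1)

/-- The invariant of the equivariant construction. -/
def EqInv (u v : B) (n : ℕ) (t : B × B × A) : Prop :=
  t.1 - u ∈ (maximalIdeal A).map (algebraMap A B) ∧
    t.2.1 - v ∈ (maximalIdeal A).map (algebraMap A B) ∧
    t.2.2 ∈ maximalIdeal A ∧
    σ t.1 = algebraMap A B η₂ * t.1 ∧ σ t.2.1 = algebraMap A B η₁ * t.2.1 ∧
    hf * (1 + η₁ * η₂) * t.2.2 = t.2.2 ∧
    t.1 * t.2.1 - algebraMap A B t.2.2 ∈ (maximalIdeal A ^ (n + 1)).map (algebraMap A B)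

include hσ h1 h2 hh in
theorem step
    (hres : Function.Bijective (IsLocalRing.ResidueField.map (algebraMap A B)))
    (u v : B)
    (hgen : maximalIdeal B = Ideal.span {u, v} ⊔ (maximalIdeal A).map (algebraMap A B))
    (n : ℕ) (t : B × B × A) (ht : EqInv σ η₁ η₂ hf u v n t) :
    ∃ t' : B × B × A, EqInv σ η₁ η₂ hf u v (n + 1) t' ∧
      t'.1 - t.1 ∈ (maximalIdeal A ^ (n + 1)).map (algebraMap A B) ∧
      t'.2.1 - t.2.1 ∈ (maximalIdeal A ^ (n + 1)).map (algebraMap A B) ∧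
      t'.2.2 - t.2.2 ∈ maximalIdeal A ^ (n + 1) := by
  obtain ⟨a, b, e⟩ := t
  obtain ⟨hau, hbv, he, hσa, hσb, hce, hab⟩ := ht
  simp only at hau hbv he hσa hσb hce hab
  obtain ⟨δ, hδ, P, hP, Q, hQ, r, hr, hx⟩ :=
    Groth.Agent.S7923.decomp_ideal a b
      (Groth.Agent.S7923.decomp_elt hres u v hgen a b hau hbv) (maximalIdeal A ^ (n + 1)) _ hab
  have hpow_le : maximalIdeal A ^ (n + 1) ≤ maximalIdeal A := Ideal.pow_le_self (by omega)
  have hmap_le : (maximalIdeal A ^ (n + 1)).map (algebraMap A B) ≤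
      (maximalIdeal A).map (algebraMap A B) := Ideal.map_mono hpow_le
  set φ := algebraMap A B with hφ
  have e1 : φ η₁ * φ η₁ = 1 := by rw [← map_mul, h1, map_one]
  have e2 : φ η₂ * φ η₂ = 1 := by rw [← map_mul, h2, map_one]
  have eh : 2 * φ hf = 1 := by
    have := congrArg φ hh
    rwa [map_mul, map_ofNat, map_one] at this
  set P' := φ hf * (P + φ η₁ * σ P) with hP'
  set Q' := φ hf * (Q + φ η₂ * σ Q) with hQ'
  have hσP : σ P ∈ (maximalIdeal A ^ (n + 1)).map φ := sigma_mem σ _ hP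
  have hσQ : σ Q ∈ (maximalIdeal A ^ (n + 1)).map φ := sigma_mem σ _ hQ
  have hP'mem : P' ∈ (maximalIdeal A ^ (n + 1)).map φ :=
    Ideal.mul_mem_left _ _ (add_mem hP (Ideal.mul_mem_left _ _ hσP))
  have hQ'mem : Q' ∈ (maximalIdeal A ^ (n + 1)).map φ :=
    Ideal.mul_mem_left _ _ (add_mem hQ (Ideal.mul_mem_left _ _ hσQ))
  have hr' : r ∈ (maximalIdeal A ^ (n + 1 + 1)).map φ := by
    rw [pow_succ (maximalIdeal A) (n + 1)]
    exact hr
  have hσr : σ r ∈ (maximalIdeal A ^ (n + 1 + 1)).map φ := sigma_mem σ _ hr'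
  -- the value of σ r
  have hr_eq : r = a * b - φ e - φ δ - a * P - b * Q := by
    linear_combination (-1 : B) * hx
  have hσr_eq : σ r = (φ η₂ * a) * (φ η₁ * b) - φ e - φ δ - (φ η₂ * a) * σ P - (φ η₁ * b) * σ Q := by
    have hc : ∀ x : A, σ (φ x) = φ x := fun x => σ.commutes x
    rw [hr_eq, map_sub, map_sub, map_sub, map_sub, map_mul, map_mul, map_mul, hσa, hσb,
      hc, hc]
  refine ⟨(a - Q', b - P', hf * (1 + η₁ * η₂) * (e + δ)), ⟨?_, ?_, ?_, ?_, ?_, ?_, ?_⟩, ?_, ?_, ?_⟩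
  · have : a - Q' - u = (a - u) - Q' := by ring
    simp only
    rw [this]
    exact sub_mem hau (hmap_le hQ'mem)
  · have : b - P' - v = (b - v) - P' := by ring
    simp only
    rw [this]
    exact sub_mem hbv (hmap_le hP'mem)
  · exact Ideal.mul_mem_left _ _ (add_mem he (hpow_le hδ))
  · simp only
    have hc : ∀ x : A, σ (φ x) = φ x := fun x => σ.commutes x
    rw [map_sub, hσa, hQ', map_mul, map_add, map_mul, hσ, hc, hc]
    linear_combination (φ hf * σ Q) * e2
  · simp only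
    have hc : ∀ x : A, σ (φ x) = φ x := fun x => σ.commutes x
    rw [map_sub, hσb, hP', map_mul, map_add, map_mul, hσ, hc, hc]
    linear_combination (φ hf * σ P) * e1
  · simp only
    linear_combination (hf * (1 + η₁ * η₂) * (e + δ)) * hh
      + (hf * hf * (e + δ) * η₁ * η₁) * h2 + (hf * hf * (e + δ)) * h1
  · simp only
    have key : (a - Q') * (b - P') - φ (hf * (1 + η₁ * η₂) * (e + δ)) =
        φ hf * (r + φ η₁ * φ η₂ * σ r) + P' * Q' := by
      rw [hσr_eq, hr_eq, hP', hQ', map_mul, map_mul, map_add, map_add, map_one, map_mul]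
      linear_combination (-(a * b)) * eh - (a * b * φ hf * φ η₁ * φ η₁) * e2 - (a * b * φ hf) * e1
        + (φ hf * φ η₁ * a * σ P) * e2 + (φ hf * φ η₂ * b * σ Q) * e1
    rw [key]
    have hPQ : P' * Q' ∈ (maximalIdeal A ^ (n + 1 + 1)).map φ := by
      have h3 : P' * Q' ∈ (maximalIdeal A ^ (n + 1) * maximalIdeal A ^ (n + 1)).map φ := by
        rw [Ideal.map_mul]
        exact Ideal.mul_mem_mul hP'mem hQ'mem
      rw [← pow_add] at h3
      exact Ideal.map_mono (Ideal.pow_le_pow_right (by omega)) h3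
    exact add_mem (Ideal.mul_mem_left _ _ (add_mem hr' (Ideal.mul_mem_left _ _ hσr))) hPQ
  · simp only
    have : a - Q' - a = -Q' := by ring
    rw [this]
    exact neg_mem hQ'mem
  · simp only
    have : b - P' - b = -P' := by ring
    rw [this]
    exact neg_mem hP'mem
  · simp only
    have : hf * (1 + η₁ * η₂) * (e + δ) - e = hf * (1 + η₁ * η₂) * δ + (hf * (1 + η₁ * η₂) * e - e) := by
      ring
    rw [this, hce, sub_self, add_zero]
    exact Ideal.mul_mem_left _ _ hδ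

include hσ h1 h2 hh in
theorem exists_seq
    (hres : Function.Bijective (IsLocalRing.ResidueField.map (algebraMap A B)))
    (u v : B) (hσu : σ u = algebraMap A B η₂ * u) (hσv : σ v = algebraMap A B η₁ * v)
    (huv : u * v ∈ (maximalIdeal A).map (algebraMap A B))
    (hgen : maximalIdeal B = Ideal.span {u, v} ⊔ (maximalIdeal A).map (algebraMap A B)) :
    ∃ (us vs : ℕ → B) (ε : ℕ → A), us 0 = u ∧ vs 0 = v ∧
      ∀ n : ℕ, us n - u ∈ (maximalIdeal A).map (algebraMap A B) ∧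
        vs n - v ∈ (maximalIdeal A).map (algebraMap A B) ∧
        ε n ∈ maximalIdeal A ∧
        σ (us n) = algebraMap A B η₂ * us n ∧ σ (vs n) = algebraMap A B η₁ * vs n ∧
        us (n + 1) - us n ∈ (maximalIdeal A ^ (n + 1)).map (algebraMap A B) ∧
        vs (n + 1) - vs n ∈ (maximalIdeal A ^ (n + 1)).map (algebraMap A B) ∧
        ε (n + 1) - ε n ∈ maximalIdeal A ^ (n + 1) ∧
        us n * vs n - algebraMap A B (ε n) ∈ (maximalIdeal A ^ (n + 1)).map (algebraMap A B) := by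
  have inv0 : EqInv σ η₁ η₂ hf u v 0 (u, v, (0 : A)) := by
    refine ⟨?_, ?_, zero_mem _, hσu, hσv, ?_, ?_⟩
    · simp
    · simp
    · simp
    · simpa using huv
  let s : (n : ℕ) → {t : B × B × A // EqInv σ η₁ η₂ hf u v n t} := fun n =>
    Nat.rec (motive := fun n => {t : B × B × A // EqInv σ η₁ η₂ hf u v n t}) ⟨(u, v, 0), inv0⟩
      (fun n t => ⟨(step σ hσ η₁ η₂ hf h1 h2 hh hres u v hgen n t.1 t.2).choose,
        (step σ hσ η₁ η₂ hf h1 h2 hh hres u v hgen n t.1 t.2).choose_spec.1⟩) n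
  have hs : ∀ n, (s (n + 1)).1 =
      (step σ hσ η₁ η₂ hf h1 h2 hh hres u v hgen n (s n).1 (s n).2).choose := fun n => rfl
  refine ⟨fun n => (s n).1.1, fun n => (s n).1.2.1, fun n => (s n).1.2.2, rfl, rfl, ?_⟩
  intro n
  obtain ⟨g1, g2, g3, g4, g5, -, g7⟩ := (s n).2
  have hspec := (step σ hσ η₁ η₂ hf h1 h2 hh hres u v hgen n (s n).1 (s n).2).choose_spec.2
  rw [← hs n] at hspec
  exact ⟨g1, g2, g3, g4, g5, hspec.1, hspec.2.1, hspec.2.2, g7⟩

end Groth.Agent.Lib.Seat71.NodeEqC
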