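import Mathlib
import Groth.Agent.Lib.Seat71NodeEqA
import Groth.Agent.Lib.Seat71NodeEqB
import Groth.Agent.Lib.Seat71NodeEqC
import Groth.Agent.Lib.Seat90NodeCompl

/-!
Seat71NodeEqD: a flat deformation `R → S` of the node `k[[x,y]]/(y^2-x^2)` over a complete local
`k`-algebra, with an `R`-involution preserving the branches of the closed fibre, is equivariantly
isomorphic to `R[[x,y]]/(xy - t)` with the involution acting diagonally (S14084).
-/

set_option autoImplicit false
set_option linter.unusedSectionVars false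
set_option linter.style.haveILetI false
universe u

namespace Groth.Agent.Lib.Seat71.NodeEqD

open IsLocalRing MvPowerSeries Groth.Agent.Lib.Seat71.NodeEqA Groth.Agent.Lib.Seat71.NodeEqB
  Groth.Agent.Lib.Seat71.NodeEqC

section Lim

variable {A : Type u} [CommRing A] (I : Ideal A) [IsPrecomplete I A]

/-- Limits of sequences with `w (n+1) - w n ∈ I^(n+1)`. -/
lemma exists_lim (w : ℕ → A) (hw : ∀ n, w (n + 1) - w n ∈ I ^ (n + 1)) :
    ∃ L : A, ∀ n, L - w n ∈ I ^ (n + 1) := by
  have hmn : ∀ m n, m ≤ n → w n - w m ∈ I ^ (m + 1) := by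
    intro m n hmn
    induction n, hmn using Nat.le_induction with
    | base => rw [sub_self]; exact zero_mem _
    | succ n hmn ih =>
      have : w (n + 1) - w m = (w (n + 1) - w n) + (w n - w m) := by ring
      rw [this]
      exact add_mem (Ideal.pow_le_pow_right (by omega) (hw n)) ih
  obtain ⟨L, hL⟩ := IsPrecomplete.prec (I := I) (M := A) inferInstance (f := w) (by
    intro m n hmn'
    rw [SModEq.sub_mem, smul_eq_mul, Ideal.mul_top]
    have := hmn m n hmn'
    rw [← neg_sub]
    exact neg_mem (Ideal.pow_le_pow_right (Nat.le_succ m) this))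
  refine ⟨L, fun n => ?_⟩
  have h1 := hL (n + 1)
  rw [SModEq.sub_mem, smul_eq_mul, Ideal.mul_top] at h1
  have : L - w n = -(w (n + 1) - L) + (w (n + 1) - w n) := by ring
  rw [this]
  exact add_mem (neg_mem h1) (hw n)

end Lim

section Main

variable {k R S : Type u} [Field k]
  [CommRing R] [IsLocalRing R] [IsNoetherianRing R] [IsAdicComplete (maximalIdeal R) R]
  [CommRing S] [IsLocalRing S] [IsNoetherianRing S] [IsAdicComplete (maximalIdeal S) S]
  [Algebra k R] [Algebra R S] [Algebra k S] [IsScalarTower k R S]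
  [IsLocalHom (algebraMap R S)] [Module.Flat R S]

lemma σ_mem_max_pow (σ : S ≃ₐ[R] S) (n : ℕ) {x : S} (hx : x ∈ maximalIdeal S ^ n) :
    σ x ∈ maximalIdeal S ^ n := by
  have h1 : Ideal.map (σ : S →+* S) (maximalIdeal S) ≤ maximalIdeal S := by
    rw [Ideal.map_le_iff_le_comap]
    intro y hy
    rw [Ideal.mem_comap, mem_maximalIdeal, mem_nonunits_iff] at *
    intro hu
    apply hy
    have := hu.map σ.symm
    simpa using this
  have h2 : σ x ∈ Ideal.map (σ : S →+* S) (maximalIdeal S ^ n) :=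
    Ideal.mem_map_of_mem (σ : S →+* S) hx
  rw [Ideal.map_pow] at h2
  exact Ideal.pow_right_mono h1 n h2

theorem main (h2 : (2 : k) ≠ 0)
    (e : (S ⧸ Ideal.map (algebraMap R S) (maximalIdeal R)) ≃ₐ[k] ArSing.ring k 1)
    (σ : S ≃ₐ[R] S) (hσ : ∀ s, σ (σ s) = s)
    (hbr : ∀ p ∈ (Ideal.map (algebraMap R S) (maximalIdeal R)).minimalPrimes,
      Ideal.map (σ : S →+* S) p = p) :
    ∃ (t : R) (ξ₁ ξ₂ : k), ξ₁ ^ 2 = 1 ∧ ξ₂ ^ 2 = 1 ∧ (ξ₁ = -ξ₂ → t = 0) ∧
      ∃ f : S ≃ₐ[R] (MvPowerSeries (Fin 2) R ⧸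
          Ideal.span {(X 0 * X 1 - C t : MvPowerSeries (Fin 2) R)}),
        f (σ (f.symm (Ideal.Quotient.mk _ (X 0)))) =
          algebraMap k R ξ₂ • Ideal.Quotient.mk _ (X 0) ∧
        f (σ (f.symm (Ideal.Quotient.mk _ (X 1)))) =
          algebraMap k R ξ₁ • Ideal.Quotient.mk _ (X 1) := by
  set I := Ideal.map (algebraMap R S) (maximalIdeal R) with hI
  -- the projection to the node
  let π : S →ₐ[k] ArSing.ring k 1 := (e : _ →ₐ[k] _).comp (Ideal.Quotient.mkₐ k I)
  have hπ : Function.Surjective π := e.surjective.comp (Ideal.Quotient.mkₐ_surjective k I)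
  have hker : RingHom.ker π.toRingHom = I := by
    ext s
    rw [RingHom.mem_ker]
    change e (Ideal.Quotient.mk I s) = 0 ↔ _
    rw [map_eq_zero_iff e e.injective, Ideal.Quotient.eq_zero_iff_mem]
  obtain ⟨ξ₁, ξ₂, u, v, hξ₁, hξ₂, hσu, hσv, huv, hgen⟩ := exists_uv π hπ hker σ hσ h2 hbr
  have hres := hres π hπ hker
  -- scalars in R
  set η₁ := algebraMap k R ξ₁ with hη₁
  set η₂ := algebraMap k R ξ₂ with hη₂
  set hf := algebraMap k R (2 : k)⁻¹ with hhf
  have h1 : η₁ * η₁ = 1 := by rw [hη₁, ← map_mul, hξ₁, map_one]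
  have h2' : η₂ * η₂ = 1 := by rw [hη₂, ← map_mul, hξ₂, map_one]
  have hh : 2 * hf = 1 := by
    have : (2 : R) = algebraMap k R (2 : k) := (map_ofNat _ 2).symm
    rw [this, hhf, ← map_mul, mul_inv_cancel₀ h2, map_one]
  have hσu' : σ u = algebraMap R S η₂ * u := by
    rw [hσu, hη₂, ← IsScalarTower.algebraMap_apply]
  have hσv' : σ v = algebraMap R S η₁ * v := by
    rw [hσv, hη₁, ← IsScalarTower.algebraMap_apply]
  obtain ⟨us, vs, ε, hu0, hv0, hseq⟩ :=
    exists_seq σ hσ η₁ η₂ hf h1 h2' hh hres u v hσu' hσv' huv hgen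
  -- limits
  have hIle : ∀ n, (maximalIdeal R ^ n).map (algebraMap R S) ≤ maximalIdeal S ^ n := by
    intro n
    rw [Ideal.map_pow]
    exact Ideal.pow_right_mono Groth.Agent.S7923.map_max_le n
  obtain ⟨U, hU⟩ := exists_lim (maximalIdeal S) us (fun n => hIle _ (hseq n).2.2.2.2.2.1)
  obtain ⟨V, hV⟩ := exists_lim (maximalIdeal S) vs (fun n => hIle _ (hseq n).2.2.2.2.2.2.1)
  obtain ⟨t, ht⟩ := exists_lim (maximalIdeal R) ε (fun n => (hseq n).2.2.2.2.2.2.2.1)
  have htm : t ∈ maximalIdeal R := by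
    have h3 := ht 0
    rw [zero_add, pow_one] at h3
    have : t = (t - ε 0) + ε 0 := by ring
    rw [this]
    exact add_mem h3 (hseq 0).2.2.1
  -- U - u ∈ I, V - v ∈ I
  have hUu : U - u ∈ I := by
    apply Groth.Agent.Lib.Seat90.NodeCompl.mem_of_forall_mem_sup_pow
    intro n
    have : U - u = (us n - u) + (U - us n) := by ring
    rw [this]
    exact Submodule.add_mem_sup (hseq n).1 (Ideal.pow_le_pow_right (Nat.le_succ n) (hU n))
  have hVv : V - v ∈ I := by
    apply Groth.Agent.Lib.Seat90.NodeCompl.mem_of_forall_mem_sup_pow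
    intro n
    have : V - v = (vs n - v) + (V - vs n) := by ring
    rw [this]
    exact Submodule.add_mem_sup (hseq n).2.1 (Ideal.pow_le_pow_right (Nat.le_succ n) (hV n))
  have hU_max : U ∈ maximalIdeal S := by
    have hu_max : u ∈ maximalIdeal S := by
      rw [hgen]; exact Ideal.mem_sup_left (Ideal.subset_span (Set.mem_insert _ _))
    have : U = (U - u) + u := by ring
    rw [this]
    exact add_mem (Groth.Agent.S7923.map_max_le hUu) hu_max
  have hV_max : V ∈ maximalIdeal S := by
    have hv_max : v ∈ maximalIdeal S := by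
      rw [hgen]; exact Ideal.mem_sup_left (Ideal.subset_span (Set.mem_insert_of_mem _ rfl))
    have : V = (V - v) + v := by ring
    rw [this]
    exact add_mem (Groth.Agent.S7923.map_max_le hVv) hv_max
  -- U V = t
  have hUV : U * V = algebraMap R S t := by
    rw [← sub_eq_zero]
    apply Groth.Agent.Lib.Seat90.NodeCompl.mem_of_forall_mem_sup_pow ⊥
    intro n
    rw [bot_sup_eq]
    rcases n with _ | n
    · rw [pow_zero, Ideal.one_eq_top]; trivial
    have e1 : U * V - algebraMap R S t = (U - us n) * V + us n * (V - vs n)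
        + (us n * vs n - algebraMap R S (ε n)) - algebraMap R S (t - ε n) := by
      rw [map_sub]; ring
    rw [e1]
    refine sub_mem (add_mem (add_mem (Ideal.mul_mem_right _ _ (hU n))
      (Ideal.mul_mem_left _ _ (hV n))) (hIle _ (hseq n).2.2.2.2.2.2.2.2)) (hIle _ ?_)
    exact Ideal.mem_map_of_mem _ (ht n)
  -- σ U = η₂ U
  have hσU : σ U = algebraMap R S η₂ * U := by
    rw [← sub_eq_zero]
    apply Groth.Agent.Lib.Seat90.NodeCompl.mem_of_forall_mem_sup_pow ⊥
    intro n
    rw [bot_sup_eq]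
    rcases n with _ | n
    · rw [pow_zero, Ideal.one_eq_top]; trivial
    have e1 : σ U - algebraMap R S η₂ * U = σ (U - us n) - algebraMap R S η₂ * (U - us n) := by
      rw [map_sub, (hseq n).2.2.2.1]; ring
    rw [e1]
    exact sub_mem (σ_mem_max_pow σ _ (hU n)) (Ideal.mul_mem_left _ _ (hU n))
  have hσV : σ V = algebraMap R S η₁ * V := by
    rw [← sub_eq_zero]
    apply Groth.Agent.Lib.Seat90.NodeCompl.mem_of_forall_mem_sup_pow ⊥
    intro n
    rw [bot_sup_eq]
    rcases n with _ | n
    · rw [pow_zero, Ideal.one_eq_top]; trivial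
    have e1 : σ V - algebraMap R S η₁ * V = σ (V - vs n) - algebraMap R S η₁ * (V - vs n) := by
      rw [map_sub, (hseq n).2.2.2.2.1]; ring
    rw [e1]
    exact sub_mem (σ_mem_max_pow σ _ (hV n)) (Ideal.mul_mem_left _ _ (hV n))
  -- generators of the maximal ideal
  have hgenUV : maximalIdeal S = Ideal.span {U, V} ⊔ I := by
    rw [hgen]
    apply le_antisymm
    · refine sup_le ?_ le_sup_right
      rw [Ideal.span_le]
      intro z hz
      rw [Set.mem_insert_iff, Set.mem_singleton_iff] at hz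
      rcases hz with rfl | rfl
      · have : z = U + (-(U - z)) := by ring
        rw [SetLike.mem_coe, this]
        exact Submodule.add_mem_sup (Ideal.subset_span (Set.mem_insert _ _)) (neg_mem hUu)
      · have : z = V + (-(V - z)) := by ring
        rw [SetLike.mem_coe, this]
        exact Submodule.add_mem_sup (Ideal.subset_span (Set.mem_insert_of_mem _ rfl))
          (neg_mem hVv)
    · refine sup_le ?_ le_sup_right
      rw [Ideal.span_le]
      intro z hz
      rw [Set.mem_insert_iff, Set.mem_singleton_iff] at hz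
      rcases hz with rfl | rfl
      · have : z = u + (z - u) := by ring
        rw [SetLike.mem_coe, this]
        exact Submodule.add_mem_sup (Ideal.subset_span (Set.mem_insert _ _)) hUu
      · have : z = v + (z - v) := by ring
        rw [SetLike.mem_coe, this]
        exact Submodule.add_mem_sup (Ideal.subset_span (Set.mem_insert_of_mem _ rfl)) hVv
  -- the evaluation map
  obtain ⟨ψ₀, hψ₀⟩ := Groth.Agent.Lib.Helper19.CohenStructure.exists_algHom_X_eq_of_isAdicComplete
    (Λ := R) (maximalIdeal S) 2 ![U, V] (by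
      intro s
      fin_cases s
      · exact hU_max
      · exact hV_max)
  have hψ₀0 : ψ₀ (X 0) = U := hψ₀ 0
  have hψ₀1 : ψ₀ (X 1) = V := hψ₀ 1
  have hψ₀C : ∀ l : R, ψ₀ (C l) = algebraMap R S l := by
    intro l
    have h3 : (C l : MvPowerSeries (Fin 2) R) = algebraMap R (MvPowerSeries (Fin 2) R) l := by
      rw [MvPowerSeries.algebraMap_apply, Algebra.algebraMap_self, RingHom.id_apply]
    rw [h3]
    exact ψ₀.commutes l
  have hψ₀surj : Function.Surjective ψ₀ := by
    apply surjective_ev 2 ψ₀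
    · rw [hgenUV]
      congr 2
      ext z
      simp only [Set.mem_insert_iff, Set.mem_singleton_iff, Set.mem_range]
      constructor
      · rintro (rfl | rfl)
        · exact ⟨0, hψ₀0⟩
        · exact ⟨1, hψ₀1⟩
      · rintro ⟨s, rfl⟩
        fin_cases s
        · exact Or.inl hψ₀0
        · exact Or.inr hψ₀1
    · intro r
      refine ⟨algebraMap k R (χ π r), ?_⟩
      rw [← IsScalarTower.algebraMap_apply]
      exact sub_χ_mem π hπ hker r
  -- the map from the quotient
  set J := Ideal.span {(X 0 * X 1 - C t : MvPowerSeries (Fin 2) R)} with hJ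
  have hkill : ∀ a ∈ J, ψ₀ a = 0 := by
    intro a ha
    rw [hJ, Ideal.mem_span_singleton] at ha
    obtain ⟨c, rfl⟩ := ha
    rw [map_mul, map_sub, map_mul, hψ₀0, hψ₀1, hψ₀C, hUV, sub_self, zero_mul]
  let ψ : (MvPowerSeries (Fin 2) R ⧸ J) →ₐ[R] S := Ideal.Quotient.liftₐ J ψ₀ hkill
  have hψmk : ∀ a, ψ (Ideal.Quotient.mk J a) = ψ₀ a := fun a => rfl
  have hψsurj : Function.Surjective ψ := by
    intro y
    obtain ⟨a, rfl⟩ := hψ₀surj y
    exact ⟨Ideal.Quotient.mk J a, hψmk a⟩
  -- locality of the quotient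
  haveI : Nontrivial (MvPowerSeries (Fin 2) R ⧸ J) := hψsurj.nontrivial
  haveI : IsLocalRing (MvPowerSeries (Fin 2) R ⧸ J) :=
    IsLocalRing.of_surjective' (Ideal.Quotient.mk J) Ideal.Quotient.mk_surjective
  have hMmax : (maximalIdeal R).map (algebraMap R (MvPowerSeries (Fin 2) R ⧸ J)) ≤
      maximalIdeal (MvPowerSeries (Fin 2) R ⧸ J) := by
    rw [Ideal.map_le_iff_le_comap]
    intro a ha
    rw [Ideal.mem_comap, mem_maximalIdeal, mem_nonunits_iff]
    intro hunit
    have h3 : IsUnit (ψ (algebraMap R _ a)) := hunit.map ψ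
    rw [ψ.commutes] at h3
    have h4 : algebraMap R S a ∈ maximalIdeal S :=
      Groth.Agent.S7923.map_max_le (Ideal.mem_map_of_mem _ ha)
    exact h4 h3
  -- the residue map R → k
  let r : R →+* k := (χ π).toRingHom.comp (algebraMap R S)
  have hr_alg : ∀ c : k, r (algebraMap k R c) = c := by
    intro c
    change χ π (algebraMap R S (algebraMap k R c)) = c
    rw [← IsScalarTower.algebraMap_apply, AlgHom.commutes, Algebra.algebraMap_self,
      RingHom.id_apply]
  have hr_surj : Function.Surjective r := fun c => ⟨algebraMap k R c, hr_alg c⟩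
  have hr_ker : RingHom.ker r = maximalIdeal R := by
    ext a
    rw [RingHom.mem_ker]
    change χ π (algebraMap R S a) = 0 ↔ _
    rw [← mem_max_iff π hπ hker]
    constructor
    · intro h
      rw [mem_maximalIdeal, mem_nonunits_iff] at h ⊢
      intro hu
      exact h (hu.map _)
    · intro h
      exact Groth.Agent.S7923.map_max_le (Ideal.mem_map_of_mem _ h)
  have hrt : r t = 0 := by
    rw [← RingHom.mem_ker, hr_ker]; exact htm
  obtain ⟨σr, hσr_surj, hσr_ker⟩ := exists_red r hr_surj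
    (hr_ker ▸ IsNoetherian.noetherian (maximalIdeal R)) t hrt
  rw [hr_ker] at hσr_ker
  obtain ⟨ρ, hρ⟩ := exists_rho h2
  let θ : (MvPowerSeries (Fin 2) R ⧸ J) →+* _ := ρ.comp (π.toRingHom.comp ψ.toRingHom)
  have hθsurj : Function.Surjective θ := hρ.comp (hπ.comp hψsurj)
  have hθM : (maximalIdeal R).map (algebraMap R (MvPowerSeries (Fin 2) R ⧸ J)) ≤
      RingHom.ker θ := by
    rw [Ideal.map_le_iff_le_comap]
    intro a ha
    rw [Ideal.mem_comap, RingHom.mem_ker]
    change ρ (π (ψ (algebraMap R _ a))) = 0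
    rw [ψ.commutes]
    have : π (algebraMap R S a) = 0 := by
      rw [← mem_I_iff π hker]
      exact Ideal.mem_map_of_mem _ ha
    rw [this, map_zero]
  have hker1 : RingHom.ker θ ≤ RingHom.ker σr :=
    Groth.Agent.Lib.Seat90.NodeCompl.ker_le_of_surjective σr θ hσr_surj hθsurj
      (hσr_ker.trans hθM)
  have hK : RingHom.ker ψ.toRingHom ≤
      (maximalIdeal R).map (algebraMap R (MvPowerSeries (Fin 2) R ⧸ J)) := by
    refine le_trans ?_ (hker1.trans hσr_ker)
    intro s hs
    rw [RingHom.mem_ker] at hs ⊢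
    change ρ (π (ψ s)) = 0
    have : ψ s = 0 := hs
    rw [this, map_zero, map_zero]
  have hψinj : Function.Injective ψ :=
    injective_of_flat_of_ker_le ψ hψsurj hK
      (hMmax.trans (IsLocalRing.maximalIdeal_le_jacobson _))
  haveI : Module.FaithfullyFlat R S := Module.FaithfullyFlat.of_flat_of_isLocalHom
  have hRSinj : Function.Injective (algebraMap R S) := FaithfulSMul.algebraMap_injective R S
  refine ⟨t, ξ₁, ξ₂, by rw [sq]; exact hξ₁, by rw [sq]; exact hξ₂, ?_, ?_⟩
  · intro hξ
    -- apply σ to U V = t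
    have e1 : σ (U * V) = algebraMap R S t := by rw [hUV]; exact σ.commutes t
    rw [map_mul, hσU, hσV] at e1
    have e2 : algebraMap R S (η₂ * η₁ * t) = algebraMap R S t := by
      rw [map_mul, map_mul]
      have e0 : algebraMap R S η₂ * algebraMap R S η₁ * algebraMap R S t =
          algebraMap R S η₂ * U * (algebraMap R S η₁ * V) := by rw [← hUV]; ring
      rw [e0, e1]
    have e3 := hRSinj e2
    have e4 : η₂ * η₁ = -1 := by
      rw [hη₁, hη₂, hξ, map_neg, mul_neg, ← hη₂, h2']
    rw [e4] at e3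
    have e5 : 2 * t = 0 := by
      have : 2 * t = t - (-1 * t) := by ring
      rw [this, e3, sub_self]
    calc t = (hf * 2) * t := by rw [mul_comm hf 2, hh, one_mul]
      _ = hf * (2 * t) := by ring
      _ = 0 := by rw [e5, mul_zero]
  · let f₀ : (MvPowerSeries (Fin 2) R ⧸ J) ≃ₐ[R] S := AlgEquiv.ofBijective ψ ⟨hψinj, hψsurj⟩
    have hf₀ : ∀ x, f₀ x = ψ x := fun x => rfl
    refine ⟨f₀.symm, ?_, ?_⟩
    · rw [AlgEquiv.symm_symm, hf₀, hψmk, hψ₀0, hσU, ← Algebra.smul_def, map_smul]
      congr 1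
      rw [← hψ₀0, ← hψmk, ← hf₀, AlgEquiv.symm_apply_apply]
    · rw [AlgEquiv.symm_symm, hf₀, hψmk, hψ₀1, hσV, ← Algebra.smul_def, map_smul]
      congr 1
      rw [← hψ₀1, ← hψmk, ← hf₀, AlgEquiv.symm_apply_apply]

end Main

end Groth.Agent.Lib.Seat71.NodeEqD
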