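import Mathlib
import Groth.Agent.Lib.Seat71NodeLen
import Groth.Agent.Lib.Seat71Len

set_option autoImplicit false
universe u

namespace Groth.Agent.Lib.Seat71.Node

open MvPowerSeries

variable {B : Type u} [CommRing B]

/-- The constant coefficient map `B[[x,y]]/(xy - a) → B/(a)`. -/
noncomputable def ccA (a : B) : ArLef.NodeAlg B a →+* B ⧸ Ideal.span {a} :=
  Ideal.Quotient.lift _
    ((Ideal.Quotient.mk (Ideal.span {a})).comp
      (MvPowerSeries.constantCoeff (σ := Fin 2) (R := B))) (by
    intro f hf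
    rw [Ideal.mem_span_singleton] at hf
    obtain ⟨g, rfl⟩ := hf
    rw [RingHom.comp_apply, map_mul, map_sub, map_mul (MvPowerSeries.constantCoeff (σ := Fin 2) (R := B)),
      MvPowerSeries.constantCoeff_X, zero_mul,
      MvPowerSeries.constantCoeff_C, zero_sub, map_mul, map_neg,
      Ideal.Quotient.eq_zero_iff_mem.2 (Ideal.mem_span_singleton_self a), neg_zero, zero_mul])

theorem ccA_mkN (a : B) (f : MvPowerSeries (Fin 2) B) :
    ccA a (mkN a f) = Ideal.Quotient.mk (Ideal.span {a}) (MvPowerSeries.constantCoeff f) := rfl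

theorem ccA_surjective (a : B) : Function.Surjective (ccA a) := by
  intro b
  obtain ⟨b, rfl⟩ := Ideal.Quotient.mk_surjective b
  exact ⟨mkN a (C b), by rw [ccA_mkN, MvPowerSeries.constantCoeff_C]⟩

theorem algebraMap_mem_mN (a c : B) : algebraMap B (ArLef.NodeAlg B a) (a * c) ∈ mN a := by
  rw [map_mul, ← t_mul_e a, mul_assoc]
  exact Ideal.mul_mem_right _ _ (t_mem_mN a)

theorem ker_ccA (a : B) : RingHom.ker (ccA a) = mN a := by
  apply le_antisymm
  · intro r hr
    obtain ⟨f, rfl⟩ := mkN_surjective a r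
    rw [RingHom.mem_ker, ccA_mkN, Ideal.Quotient.eq_zero_iff_mem, Ideal.mem_span_singleton] at hr
    obtain ⟨c, hc⟩ := hr
    have h1 : f = (f - C (a * c)) + C (a * c) := by ring
    rw [h1, map_add]
    refine (mN a).add_mem ?_ ?_
    · rw [← map_idealXY]
      refine Ideal.mem_map_of_mem _ (mem_idealXY_of_constantCoeff _ ?_)
      rw [map_sub, MvPowerSeries.constantCoeff_C, hc, sub_self]
    · rw [mkN_C]
      exact algebraMap_mem_mN a c
  · unfold mN
    rw [Ideal.span_le]
    intro z hz
    rcases hz with rfl | rfl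
    · show ccA a (mkN a (X 0)) = 0
      rw [ccA_mkN, MvPowerSeries.constantCoeff_X, map_zero]
    · show ccA a (mkN a (X 1)) = 0
      rw [ccA_mkN, MvPowerSeries.constantCoeff_X, map_zero]

theorem mN_isMaximal_of_isMaximal (a : B) [h : (Ideal.span {a}).IsMaximal] : (mN a).IsMaximal := by
  rw [← ker_ccA]
  let _ : Field (B ⧸ Ideal.span {a}) := Ideal.Quotient.field _
  exact RingHom.ker_isMaximal_of_surjective _ (ccA_surjective a)

theorem mN_isMaximal [IsDomain B] [IsDiscreteValuationRing B] (π : B) (hπ : Irreducible π) :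
    (mN π).IsMaximal := by
  have : (Ideal.span {π}).IsMaximal := by
    rw [← hπ.maximalIdeal_eq]; infer_instance
  exact mN_isMaximal_of_isMaximal π

theorem length_quot_mN [IsDomain B] [IsDiscreteValuationRing B] (π : B) (hπ : Irreducible π) :
    Module.length (ArLef.NodeAlg B π) (ArLef.NodeAlg B π ⧸ mN π) = 1 := by
  rw [Module.length_eq_one_iff, isSimpleModule_iff_isCoatom, ← Ideal.isMaximal_def]
  exact mN_isMaximal π hπ

theorem mN_eq_span_sup_span (a : B) :
    mN a = Ideal.span {ArLef.NodeAlg.t a} ⊔ Ideal.span {ArLef.NodeAlg.e a} := by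
  unfold mN
  rw [← Ideal.span_union]
  rfl

end Groth.Agent.Lib.Seat71.Node
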