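import Mathlib
import Groth.Agent.Lib.Seat71NodeDomain
import Groth.Agent.Lib.Seat71NodeGen

set_option autoImplicit false
universe u

namespace Groth.Agent.Lib.Seat71.Node

open MvPowerSeries

variable {B : Type u} [CommRing B] (π : B)

theorem thetaN_t : thetaN π (ArLef.NodeAlg.t π) = 0 := by
  rw [← mkN_X0, thetaN_mkN, theta_X0]

theorem thetaN_e : thetaN π (ArLef.NodeAlg.e π) = X 0 := by
  rw [← mkN_X1, thetaN_mkN, theta_apply, ev0_X1, map_X]

theorem not_t_dvd_of_thetaN_ne_zero (x : ArLef.NodeAlg B π) (hx : thetaN π x ≠ 0) :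
    ¬ ArLef.NodeAlg.t π ∣ x := by
  rintro ⟨y, rfl⟩
  apply hx
  rw [map_mul, thetaN_t, zero_mul]

theorem not_e_dvd_of_thetaN_swapN_ne_zero (x : ArLef.NodeAlg B π) (hx : thetaN π (swapN π x) ≠ 0) :
    ¬ ArLef.NodeAlg.e π ∣ x := by
  rintro ⟨y, rfl⟩
  apply hx
  rw [map_mul, swapN_e, map_mul, thetaN_t, zero_mul]

theorem X0_not_isUnit {K : Type u} [CommRing K] [Nontrivial K] :
    ¬ IsUnit (X 0 : MvPowerSeries (Fin 1) K) := by
  rw [MvPowerSeries.isUnit_iff_constantCoeff, constantCoeff_X]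
  exact not_isUnit_zero

theorem X0_ne_zero' {K : Type u} [CommRing K] [Nontrivial K] :
    (X 0 : MvPowerSeries (Fin 1) K) ≠ 0 := by
  intro h
  have := congrArg (MvPowerSeries.coeff (R := K) (Finsupp.single (0 : Fin 1) 1)) h
  rw [coeff_X, if_pos rfl, map_zero] at this
  exact one_ne_zero this

/-- `(t, e)^2` maps into `(y^2)` under `thetaN`. -/
theorem thetaN_mem_of_mem_sq (x : ArLef.NodeAlg B π)
    (hx : x ∈ (Ideal.span ({ArLef.NodeAlg.t π, ArLef.NodeAlg.e π} : Set (ArLef.NodeAlg B π))) ^ 2) :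
    (X 0 : MvPowerSeries (Fin 1) (B ⧸ Ideal.span {π})) ^ 2 ∣ thetaN π x := by
  have h1 : Ideal.map (thetaN π)
      (Ideal.span ({ArLef.NodeAlg.t π, ArLef.NodeAlg.e π} : Set (ArLef.NodeAlg B π))) ≤
      Ideal.span {(X 0 : MvPowerSeries (Fin 1) (B ⧸ Ideal.span {π}))} := by
    rw [Ideal.map_span, Ideal.span_le]
    rintro _ ⟨z, hz, rfl⟩
    rcases hz with rfl | rfl
    · rw [thetaN_t]; exact Ideal.zero_mem _
    · rw [thetaN_e]; exact Ideal.mem_span_singleton_self _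
  have h2 : thetaN π x ∈ Ideal.map (thetaN π)
      ((Ideal.span ({ArLef.NodeAlg.t π, ArLef.NodeAlg.e π} : Set (ArLef.NodeAlg B π))) ^ 2) :=
    Ideal.mem_map_of_mem _ hx
  rw [Ideal.map_pow] at h2
  have h3 := Ideal.pow_right_mono h1 2 h2
  rw [Ideal.span_singleton_pow, Ideal.mem_span_singleton] at h3
  exact h3

end Groth.Agent.Lib.Seat71.Node
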