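import Mathlib
import Groth.Agent.Lib.Seat71NodeMax
import Groth.Agent.Lib.Seat71NodeMore
import Groth.Agent.Lib.Seat71IdealAux
import Groth.Agent.Lib.Seat71Len2

set_option autoImplicit false
universe u

namespace Groth.Agent.Lib.Seat71.Node

open MvPowerSeries Groth.Agent.Lib.Seat71.Len

section General

variable {R : Type u} [CommRing R]

/-- Colon of `(Dx, Dy)` by a non-zero-divisor `D`. -/
theorem colon_span_mul_sup_span_mul [IsDomain R] {D : R} (hD : D ≠ 0) (x y : R) :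
    (Ideal.span {D * x} ⊔ Ideal.span {D * y}).colon ({D} : Set R) =
      Ideal.span {x} ⊔ Ideal.span {y} := by
  ext r
  rw [Submodule.mem_colon_singleton, smul_eq_mul]
  constructor
  · intro h
    obtain ⟨p, hp, q, hq, hpq⟩ := Submodule.mem_sup.1 h
    obtain ⟨a, rfl⟩ := Ideal.mem_span_singleton'.1 hp
    obtain ⟨b, rfl⟩ := Ideal.mem_span_singleton'.1 hq
    have h1 : D * r = D * (a * x + b * y) := by
      have : r * D = D * r := mul_comm _ _
      rw [← this, ← hpq]; ring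
    rw [mul_left_cancel₀ hD h1]
    exact Submodule.add_mem_sup (Ideal.mul_mem_left _ _ (Ideal.mem_span_singleton_self _))
      (Ideal.mul_mem_left _ _ (Ideal.mem_span_singleton_self _))
  · intro h
    obtain ⟨p, hp, q, hq, rfl⟩ := Submodule.mem_sup.1 h
    obtain ⟨a, rfl⟩ := Ideal.mem_span_singleton'.1 hp
    obtain ⟨b, rfl⟩ := Ideal.mem_span_singleton'.1 hq
    have h1 : (a * x + b * y) * D = a * (D * x) + b * (D * y) := by ring
    rw [h1]
    exact Submodule.add_mem_sup (Ideal.mul_mem_left _ _ (Ideal.mem_span_singleton_self _))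
      (Ideal.mul_mem_left _ _ (Ideal.mem_span_singleton_self _))

end General

variable {B : Type u} [CommRing B] [IsDomain B] [IsDiscreteValuationRing B] (π : B)
  (hπ : Irreducible π)

include hπ

theorem not_e_dvd_t : ¬ ArLef.NodeAlg.e π ∣ ArLef.NodeAlg.t π := by
  have hprime := span_pi_isPrime π hπ
  apply not_e_dvd_of_thetaN_swapN_ne_zero
  rw [swapN_t, thetaN_e]
  exact X0_ne_zero'

theorem not_t_dvd_e : ¬ ArLef.NodeAlg.t π ∣ ArLef.NodeAlg.e π := by
  have hprime := span_pi_isPrime π hπ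
  apply not_t_dvd_of_thetaN_ne_zero
  rw [thetaN_e]
  exact X0_ne_zero'

theorem not_e_dvd_t_pow (m : ℕ) : ¬ ArLef.NodeAlg.e π ∣ ArLef.NodeAlg.t π ^ m := by
  intro h
  exact not_e_dvd_t π hπ ((e_prime π hπ).dvd_of_dvd_pow h)

theorem not_t_dvd_e_pow (m : ℕ) : ¬ ArLef.NodeAlg.t π ∣ ArLef.NodeAlg.e π ^ m := by
  intro h
  exact not_t_dvd_e π hπ ((t_prime π hπ).dvd_of_dvd_pow h)

theorem t_reg_of_not_dvd {x : ArLef.NodeAlg B π} (hx : ¬ ArLef.NodeAlg.t π ∣ x) :
    ∀ z, ArLef.NodeAlg.t π * z ∈ Ideal.span {x} → z ∈ Ideal.span {x} := by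
  have hdom : IsDomain (ArLef.NodeAlg B π) := nodeAlg_isDomain π hπ
  exact regular_mod_span_of_prime (t_prime π hπ) hx

theorem e_reg_of_not_dvd {x : ArLef.NodeAlg B π} (hx : ¬ ArLef.NodeAlg.e π ∣ x) :
    ∀ z, ArLef.NodeAlg.e π * z ∈ Ideal.span {x} → z ∈ Ideal.span {x} := by
  have hdom : IsDomain (ArLef.NodeAlg B π) := nodeAlg_isDomain π hπ
  exact regular_mod_span_of_prime (e_prime π hπ) hx

theorem L_t_e : L (ArLef.NodeAlg.t π) (ArLef.NodeAlg.e π) = 1 := by
  rw [L_def, ← mN_eq_span_sup_span]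
  exact length_quot_mN π hπ

theorem L_e_t : L (ArLef.NodeAlg.e π) (ArLef.NodeAlg.t π) = 1 := by
  rw [L_comm]; exact L_t_e π hπ

omit [IsDiscreteValuationRing B] in
/-- `αβ = 1 + γ π^(j-1)` for an automorphism fixing the branches with `σ π = π + γ π^j`. -/
theorem stab_mul_eq (j : ℕ) (hj : 1 ≤ j) (γ : B)
    (σ : ArLef.NodeAlg B π ≃+* ArLef.NodeAlg B π)
    (hσπ : σ (algebraMap B (ArLef.NodeAlg B π) π) = algebraMap B (ArLef.NodeAlg B π) (π + γ * π ^ j))
    (α β : ArLef.NodeAlg B π)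
    (ht : σ (ArLef.NodeAlg.t π) = α * ArLef.NodeAlg.t π)
    (he : σ (ArLef.NodeAlg.e π) = β * ArLef.NodeAlg.e π) :
    α * β = 1 + algebraMap B (ArLef.NodeAlg B π) γ * (algebraMap B (ArLef.NodeAlg B π) π) ^ (j - 1) := by
  have hte : ArLef.NodeAlg.t π * ArLef.NodeAlg.e π = algebraMap B (ArLef.NodeAlg B π) π := t_mul_e π
  set P : ArLef.NodeAlg B π := algebraMap B (ArLef.NodeAlg B π) π with hP
  set G : ArLef.NodeAlg B π := algebraMap B (ArLef.NodeAlg B π) γ with hG
  have hPj : P ^ j = P * P ^ (j - 1) := by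
    rw [← pow_succ']; congr 1; omega
  have h1 : σ (ArLef.NodeAlg.t π) * σ (ArLef.NodeAlg.e π) = P + G * P ^ j := by
    rw [← map_mul, hte, hσπ, map_add, map_mul, map_pow]
  rw [ht, he, hPj] at h1
  have h2 : P * (α * β - (1 + G * P ^ (j - 1))) = 0 := by
    linear_combination h1 - (α * β) * hte
  exact sub_eq_zero.1 (Groth.Agent.Lib.Helper22.nodeAlg_pi_regular π hπ.ne_zero _ h2)

/-- The fixed-point ideal of an automorphism fixing the branches. -/
theorem stab_fixIdeal (j : ℕ) (hj : 1 ≤ j) (γ : B) (hγ : IsUnit γ)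
    (σ : ArLef.NodeAlg B π ≃+* ArLef.NodeAlg B π)
    (hσB : ∀ c : B, σ (algebraMap B (ArLef.NodeAlg B π) c) - algebraMap B (ArLef.NodeAlg B π) c ∈
      Ideal.span ({algebraMap B (ArLef.NodeAlg B π) (π ^ j)} : Set (ArLef.NodeAlg B π)))
    (hσπ : σ (algebraMap B (ArLef.NodeAlg B π) π) = algebraMap B (ArLef.NodeAlg B π) (π + γ * π ^ j))
    (α β : ArLef.NodeAlg B π)
    (ht : σ (ArLef.NodeAlg.t π) = α * ArLef.NodeAlg.t π)
    (he : σ (ArLef.NodeAlg.e π) = β * ArLef.NodeAlg.e π) :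
    ArLef.fixIdeal σ = Ideal.span {(α - 1) * ArLef.NodeAlg.t π} ⊔
      Ideal.span {(β - 1) * ArLef.NodeAlg.e π} := by
  have hαβ := stab_mul_eq π hπ j hj γ σ hσπ α β ht he
  have hte : ArLef.NodeAlg.t π * ArLef.NodeAlg.e π = algebraMap B (ArLef.NodeAlg B π) π := t_mul_e π
  set P : ArLef.NodeAlg B π := algebraMap B (ArLef.NodeAlg B π) π with hP
  set G : ArLef.NodeAlg B π := algebraMap B (ArLef.NodeAlg B π) γ with hG
  set tt : ArLef.NodeAlg B π := ArLef.NodeAlg.t π with htt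
  set ee : ArLef.NodeAlg B π := ArLef.NodeAlg.e π with hee
  have hGu : IsUnit G := hγ.map _
  have hPj : P ^ j = P * P ^ (j - 1) := by
    rw [← pow_succ']; congr 1; omega
  have hAt : σ tt - tt = (α - 1) * tt := by rw [ht]; ring
  have hBe : σ ee - ee = (β - 1) * ee := by rw [he]; ring
  have hPJ : P ^ j ∈ Ideal.span {(α - 1) * tt} ⊔ Ideal.span {(β - 1) * ee} := by
    have h1 : G * P ^ j = (β * ee) * ((α - 1) * tt) + tt * ((β - 1) * ee) := by
      rw [hPj]
      linear_combination (-P) * hαβ - (α * β - 1) * hte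
    have h2 : G * P ^ j ∈ Ideal.span {(α - 1) * tt} ⊔ Ideal.span {(β - 1) * ee} := by
      rw [h1]
      exact Submodule.add_mem_sup (Ideal.mul_mem_left _ _ (Ideal.mem_span_singleton_self _))
        (Ideal.mul_mem_left _ _ (Ideal.mem_span_singleton_self _))
    exact (Ideal.unit_mul_mem_iff_mem _ hGu).1 h2
  apply le_antisymm
  · unfold ArLef.fixIdeal
    rw [Ideal.span_le]
    rintro _ ⟨r, rfl⟩
    refine sub_mem_of_generators π
      (σ : ArLef.NodeAlg B π →+* ArLef.NodeAlg B π) ?_ ?_ _ ?_ ?_ ?_ r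
    · show σ tt ∈ _
      rw [ht]
      exact Ideal.mul_mem_left _ _ (t_mem_mN π)
    · show σ ee ∈ _
      rw [he]
      exact Ideal.mul_mem_left _ _ (e_mem_mN π)
    · intro b
      have h1 := hσB b
      rw [Ideal.mem_span_singleton'] at h1
      obtain ⟨c, hc⟩ := h1
      show σ (algebraMap B _ b) - algebraMap B _ b ∈ _
      rw [← hc, map_pow]
      exact Ideal.mul_mem_left _ _ hPJ
    · show σ tt - tt ∈ _
      rw [hAt]; exact Ideal.mem_sup_left (Ideal.mem_span_singleton_self _)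
    · show σ ee - ee ∈ _
      rw [hBe]; exact Ideal.mem_sup_right (Ideal.mem_span_singleton_self _)
  · refine sup_le ?_ ?_
    · rw [Ideal.span_singleton_le_iff_mem, ← hAt]; exact Ideal.subset_span ⟨_, rfl⟩
    · rw [Ideal.span_singleton_le_iff_mem, ← hBe]; exact Ideal.subset_span ⟨_, rfl⟩

end Groth.Agent.Lib.Seat71.Node
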