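import Mathlib
import Groth.Agent.Lib.Seat71NodeStab

set_option autoImplicit false
universe u

namespace Groth.Agent.Lib.Seat71.Node

open MvPowerSeries Groth.Agent.Lib.Seat71.Len

variable {B : Type u} [CommRing B] [IsDomain B] [IsDiscreteValuationRing B] (π : B)
  (hπ : Irreducible π)

include hπ

theorem t_reg_span_e :
    ∀ z, ArLef.NodeAlg.t π * z ∈ Ideal.span {ArLef.NodeAlg.e π} →
      z ∈ Ideal.span {ArLef.NodeAlg.e π} := by
  have hdom : IsDomain (ArLef.NodeAlg B π) := nodeAlg_isDomain π hπ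
  have ep := e_prime π hπ
  have hspe : (Ideal.span {ArLef.NodeAlg.e π}).IsPrime :=
    (Ideal.span_singleton_prime ep.ne_zero).2 ep
  exact regular_mod_of_isPrime _ (fun h => not_e_dvd_t π hπ (Ideal.mem_span_singleton.1 h))

theorem e_reg_span_t :
    ∀ z, ArLef.NodeAlg.e π * z ∈ Ideal.span {ArLef.NodeAlg.t π} →
      z ∈ Ideal.span {ArLef.NodeAlg.t π} := by
  have hdom : IsDomain (ArLef.NodeAlg B π) := nodeAlg_isDomain π hπ
  have tp := t_prime π hπ
  have hspt : (Ideal.span {ArLef.NodeAlg.t π}).IsPrime :=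
    (Ideal.span_singleton_prime tp.ne_zero).2 tp
  exact regular_mod_of_isPrime _ (fun h => not_t_dvd_e π hπ (Ideal.mem_span_singleton.1 h))

/-- The length computation in the stabilizing case. -/
theorem L_stab (a b α β G : ArLef.NodeAlg B π) (hα : IsUnit α) (hβ : IsUnit β) (hG : IsUnit G)
    (m1 m2 : ℕ)
    (h1 : a * β = G * (ArLef.NodeAlg.t π ^ m1 * ArLef.NodeAlg.e π ^ m2) - b)
    (h2 : b * α = G * (ArLef.NodeAlg.t π ^ m1 * ArLef.NodeAlg.e π ^ m2) - a)
    (hea : ¬ ArLef.NodeAlg.e π ∣ a) (htb : ¬ ArLef.NodeAlg.t π ∣ b) :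
    L (ArLef.NodeAlg.t π * a) (ArLef.NodeAlg.e π * b) =
      1 + ((m1 : ℕ∞) + 1) * L (ArLef.NodeAlg.t π) b + ((m2 : ℕ∞) + 1) * L (ArLef.NodeAlg.e π) a := by
  have hdom : IsDomain (ArLef.NodeAlg B π) := nodeAlg_isDomain π hπ
  have tp := t_prime π hπ
  have ep := e_prime π hπ
  set tt : ArLef.NodeAlg B π := ArLef.NodeAlg.t π with htt
  set ee : ArLef.NodeAlg B π := ArLef.NodeAlg.e π with hee
  set M : ArLef.NodeAlg B π := tt ^ m1 * ee ^ m2 with hM
  obtain ⟨αu, rfl⟩ := hα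
  obtain ⟨βu, rfl⟩ := hβ
  have he_ta : ¬ ee ∣ tt * a := fun h => (ep.dvd_or_dvd h).elim (not_e_dvd_t π hπ) hea
  have s1 : L (tt * a) (ee * b) = L (tt * a) ee + L (tt * a) b :=
    L_mul_right _ _ _ (e_reg_of_not_dvd π hπ he_ta)
  have s2 : L (tt * a) ee = 1 + L ee a := by
    rw [L_comm, L_mul_right ee tt a (t_reg_span_e π hπ), L_e_t π hπ]
  have treg := t_reg_of_not_dvd π hπ htb
  have s3 : L (tt * a) b = L b tt + L b a := by
    rw [L_comm, L_mul_right b tt a treg]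
  have s4 : L b a = L b M := by
    refine L_eq_of_eq_unit_mul_add b (u := (↑βu⁻¹ : ArLef.NodeAlg B π) * G)
      (i := -(↑βu⁻¹ : ArLef.NodeAlg B π) * b) ((βu⁻¹).isUnit.mul hG) ?_ ?_
    · exact Ideal.mul_mem_left _ _ (Ideal.mem_span_singleton_self _)
    · have h3 : a = (a * (βu : ArLef.NodeAlg B π)) * (↑βu⁻¹ : ArLef.NodeAlg B π) := by
        rw [mul_assoc, Units.mul_inv, mul_one]
      rw [h3, h1]; ring
  have s5 : L b M = L b (tt ^ m1) + L b (ee ^ m2) :=
    L_mul_right b _ _ (regular_mod_pow _ treg m1)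
  have s6 : L b (tt ^ m1) = (m1 : ℕ∞) * L b tt := L_pow_right b tt treg m1
  have s7 : L b (ee ^ m2) = (m2 : ℕ∞) * L ee a := by
    rcases Nat.eq_zero_or_pos m2 with h | h
    · subst h
      rw [pow_zero, L_one_right]; simp
    · have heM : ee ∣ M := dvd_mul_of_dvd_right (dvd_pow_self _ h.ne') _
      have heb : ¬ ee ∣ b := by
        intro hb
        apply hea
        have h3 : a = G * M - b * (αu : ArLef.NodeAlg B π) := by rw [h2]; ring
        rw [h3]
        exact dvd_sub (dvd_mul_of_dvd_right heM _) (dvd_mul_of_dvd_left hb _)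
      rw [L_pow_right b ee (e_reg_of_not_dvd π hπ heb) m2]
      congr 1
      rw [L_comm]
      refine L_eq_of_eq_unit_mul_add ee (u := -(↑αu⁻¹ : ArLef.NodeAlg B π))
        (i := (↑αu⁻¹ : ArLef.NodeAlg B π) * G * M) ((αu⁻¹).isUnit.neg) ?_ ?_
      · exact Ideal.mul_mem_left _ _ (Ideal.mem_span_singleton.2 heM)
      · have h3 : b = (b * (αu : ArLef.NodeAlg B π)) * (↑αu⁻¹ : ArLef.NodeAlg B π) := by
          rw [mul_assoc, Units.mul_inv, mul_one]
        rw [h3, h2]; ring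
  rw [s1, s2, s3, s4, s5, s6, s7, L_comm b tt]
  ring

end Groth.Agent.Lib.Seat71.Node
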