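import Mathlib
import Groth.Prelude.Def_W4c2arithlefschetzNode
import Groth.Agent.Lib.Seat71Len

set_option autoImplicit false
universe u

namespace Groth.Agent.Lib.Seat71.PSFix

open PowerSeries

/-- Ideals of a Noetherian local ring are closed for the adic topology of the maximal ideal. -/
theorem mem_of_forall_mem_sup_pow {R : Type u} [CommRing R] [IsNoetherianRing R] [IsLocalRing R]
    (J : Ideal R) (x : R) (hx : ∀ n : ℕ, x ∈ J ⊔ IsLocalRing.maximalIdeal R ^ n) : x ∈ J := by
  have h := Ideal.iInf_pow_smul_eq_bot_of_isLocalRing (I := IsLocalRing.maximalIdeal R)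
    (M := R ⧸ J) (Ideal.IsPrime.ne_top inferInstance)
  have hmem : Ideal.Quotient.mk J x ∈
      (⨅ i : ℕ, IsLocalRing.maximalIdeal R ^ i • ⊤ : Submodule R (R ⧸ J)) := by
    rw [Submodule.mem_iInf]
    intro i
    obtain ⟨j, hj, y, hy, rfl⟩ := Submodule.mem_sup.1 (hx i)
    have h1 : Ideal.Quotient.mk J (j + y) = y • (Ideal.Quotient.mk J 1) := by
      rw [map_add, Ideal.Quotient.eq_zero_iff_mem.2 hj, zero_add]
      show _ = Ideal.Quotient.mk J (y * 1)
      rw [mul_one]
    rw [h1]
    exact Submodule.smul_mem_smul hy Submodule.mem_top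
  rw [h] at hmem
  exact Ideal.Quotient.eq_zero_iff_mem.1 ((Submodule.mem_bot _).1 hmem)

variable {B : Type u} [CommRing B]

/-- The generation lemma for power series: the fixed-point ideal of an endomorphism of `B[[X]]`
is generated by the differences on `B` and `X`. -/
theorem sub_mem_of_generators [IsNoetherianRing B] [IsLocalRing B]
    (σ : PowerSeries B →+* PowerSeries B)
    (hσX : σ X ∈ IsLocalRing.maximalIdeal (PowerSeries B))
    (J : Ideal (PowerSeries B))
    (hB : ∀ b : B, σ (C b) - C b ∈ J)
    (hX : σ X - X ∈ J) (r : PowerSeries B) :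
    σ r - r ∈ J := by
  let S : Subring (PowerSeries B) :=
    { carrier := {r | σ r - r ∈ J}
      mul_mem' := by
        intro x y hx hy
        show σ (x * y) - x * y ∈ J
        have : σ (x * y) - x * y = σ x * (σ y - y) + (σ x - x) * y := by rw [map_mul]; ring
        rw [this]
        exact J.add_mem (J.mul_mem_left _ hy) (J.mul_mem_right _ hx)
      one_mem' := by
        show σ 1 - 1 ∈ J
        rw [map_one, sub_self]; exact J.zero_mem
      add_mem' := by
        intro x y hx hy
        show σ (x + y) - (x + y) ∈ J
        have : σ (x + y) - (x + y) = (σ x - x) + (σ y - y) := by rw [map_add]; ring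
        rw [this]
        exact J.add_mem hx hy
      zero_mem' := by
        show σ 0 - 0 ∈ J
        rw [map_zero, sub_self]; exact J.zero_mem
      neg_mem' := by
        intro x hx
        show σ (-x) - (-x) ∈ J
        have : σ (-x) - (-x) = -(σ x - x) := by rw [map_neg]; ring
        rw [this]
        exact J.neg_mem hx }
  have hS : ∀ x, x ∈ S ↔ σ x - x ∈ J := fun x => Iff.rfl
  have hpoly : ∀ p : Polynomial B, ((p : Polynomial B) : PowerSeries B) ∈ S := by
    intro p
    induction p using Polynomial.induction_on with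
    | C b =>
      rw [Polynomial.coe_C]
      exact hB b
    | add p q hp hq =>
      rw [Polynomial.coe_add]
      exact S.add_mem hp hq
    | monomial n b hp =>
      rw [pow_succ, ← mul_assoc, Polynomial.coe_mul, Polynomial.coe_X]
      exact S.mul_mem hp hX
  have hXm : (X : PowerSeries B) ∈ IsLocalRing.maximalIdeal (PowerSeries B) := by
    rw [IsLocalRing.mem_maximalIdeal, mem_nonunits_iff]
    intro h
    have := PowerSeries.isUnit_iff_constantCoeff.1 h
    rw [PowerSeries.constantCoeff_X] at this
    exact not_isUnit_zero this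
  apply mem_of_forall_mem_sup_pow J
  intro n
  have hr := PowerSeries.eq_X_pow_mul_shift_add_trunc n r
  set r' : PowerSeries B := PowerSeries.mk fun i => PowerSeries.coeff (i + n) r with hr'
  set p : PowerSeries B := ((PowerSeries.trunc n r : Polynomial B) : PowerSeries B) with hp
  have hdecomp : σ r - r = (σ p - p) + (σ X ^ n * σ r' - X ^ n * r') := by
    conv_lhs => rw [hr]
    rw [map_add, map_mul, map_pow]; ring
  rw [hdecomp]
  refine Submodule.add_mem_sup ((hS _).1 (hpoly _)) (Ideal.sub_mem _ ?_ ?_)
  · exact Ideal.mul_mem_right _ _ (Ideal.pow_mem_pow hσX n)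
  · exact Ideal.mul_mem_right _ _ (Ideal.pow_mem_pow hXm n)

end Groth.Agent.Lib.Seat71.PSFix
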