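import Mathlib
import Groth.Prelude.Def_W4c2arithlefschetzNode
import Groth.Agent.Lib.Seat71Len
import Groth.Agent.Lib.Seat71PSFix

set_option autoImplicit false
universe u

namespace Groth.Agent.Lib.Seat71.PSLen

open PowerSeries

variable {B : Type u} [CommRing B] [IsDomain B] [IsDiscreteValuationRing B]

/-- Reduction of power series modulo the maximal ideal. -/
noncomputable def red (B : Type u) [CommRing B] [IsDomain B] [IsDiscreteValuationRing B] :
    PowerSeries B →+* PowerSeries (IsLocalRing.ResidueField B) :=
  PowerSeries.map (IsLocalRing.residue B)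

theorem red_surjective : Function.Surjective (red B) :=
  PowerSeries.map_surjective _ IsLocalRing.residue_surjective

theorem red_eq_zero_iff {π : B} (hπ : Irreducible π) (x : PowerSeries B) :
    red B x = 0 ↔ C π ∣ x := by
  constructor
  · intro h
    have h1 : ∀ n, ∃ y : B, coeff n x = π * y := by
      intro n
      have h2 : IsLocalRing.residue B (coeff n x) = 0 := by
        have := congrArg (coeff n) h
        rwa [red, PowerSeries.coeff_map, map_zero] at this
      rw [IsLocalRing.residue_eq_zero_iff, hπ.maximalIdeal_eq, Ideal.mem_span_singleton] at h2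
      exact h2
    choose y hy using h1
    refine ⟨PowerSeries.mk y, ?_⟩
    ext n
    rw [PowerSeries.coeff_C_mul, PowerSeries.coeff_mk, hy]
  · rintro ⟨y, rfl⟩
    ext n
    rw [red, PowerSeries.coeff_map, PowerSeries.coeff_C_mul, map_mul, map_zero]
    have : IsLocalRing.residue B π = 0 := by
      rw [IsLocalRing.residue_eq_zero_iff, hπ.maximalIdeal_eq]
      exact Ideal.mem_span_singleton_self π
    rw [this, zero_mul]

theorem ker_red {π : B} (hπ : Irreducible π) :
    RingHom.ker (red B) = Ideal.span {C π} := by
  ext x
  rw [RingHom.mem_ker, red_eq_zero_iff hπ, Ideal.mem_span_singleton]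

theorem C_ne_zero {π : B} (hπ : Irreducible π) : (C π : PowerSeries B) ≠ 0 := by
  intro h
  have := congrArg (coeff 0) h
  rw [PowerSeries.coeff_zero_C, map_zero] at this
  exact hπ.ne_zero this

theorem C_prime {π : B} (hπ : Irreducible π) : Prime (C π : PowerSeries B) := by
  rw [← Ideal.span_singleton_prime (C_ne_zero hπ), ← ker_red hπ]
  exact RingHom.ker_isPrime _

/-- The main length computation: `length B[[X]]/(g, π^n) = n * length k[[X]]/(g mod π)` when
`π ∤ g`. -/
theorem length_quot_span_sup_pow {π : B} (hπ : Irreducible π) (g : PowerSeries B)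
    (hg : ¬ (C π ∣ g)) (n : ℕ) :
    Module.length (PowerSeries B)
        (PowerSeries B ⧸ (Ideal.span {g} ⊔ Ideal.span {(C π : PowerSeries B) ^ n})) =
      (n : ℕ∞) * Module.length (PowerSeries (IsLocalRing.ResidueField B))
        (PowerSeries (IsLocalRing.ResidueField B) ⧸
          Ideal.span ({PowerSeries.map (IsLocalRing.residue B) g} :
            Set (PowerSeries (IsLocalRing.ResidueField B)))) := by
  rw [Groth.Agent.Lib.Seat71.Len.length_quot_sup_span_pow (Ideal.span {g}) (C π)
    (Groth.Agent.Lib.Seat71.Len.regular_mod_span_of_prime (C_prime hπ) hg) n]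
  congr 1
  have h1 : Ideal.span {g} ⊔ Ideal.span {(C π : PowerSeries B)} =
      Ideal.comap (red B) (Ideal.span {red B g}) := by
    have h2 : Ideal.span {red B g} = Ideal.map (red B) (Ideal.span {g}) := by
      rw [Ideal.map_span, Set.image_singleton]
    rw [h2, Ideal.comap_map_of_surjective' _ red_surjective, ker_red hπ]
  rw [h1]
  exact Groth.Agent.Lib.Seat71.Len.length_quot_comap_of_surjective (red B) red_surjective _

end Groth.Agent.Lib.Seat71.PSLen
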