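import Mathlib

set_option autoImplicit false
universe v u

namespace Groth.Agent.Lib.Seat71.PicFree

open CategoryTheory MonoidalCategory

/-- Objects of the free Picard groupoid on `A`: formal expressions. -/
inductive PObj (A : Type u) : Type u
  | of : A → PObj A
  | unit : PObj A
  | tensor : PObj A → PObj A → PObj A
  | inv : PObj A → PObj A

variable {A : Type u} [Category.{v} A] [MonoidalCategory A] [BraidedCategory A]

/-- Formal morphisms. -/
inductive PHom : PObj A → PObj A → Type (max u v)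
  | id (X : PObj A) : PHom X X
  | comp {X Y Z : PObj A} (f : PHom X Y) (g : PHom Y Z) : PHom X Z
  | tensor {W X Y Z : PObj A} (f : PHom W Y) (g : PHom X Z) : PHom (W.tensor X) (Y.tensor Z)
  | symm {X Y : PObj A} (f : PHom X Y) : PHom Y X
  | of {a b : A} (f : a ⟶ b) : PHom (PObj.of a) (PObj.of b)
  | α (X Y Z : PObj A) : PHom ((X.tensor Y).tensor Z) (X.tensor (Y.tensor Z))
  | l (X : PObj A) : PHom (PObj.unit.tensor X) X
  | r (X : PObj A) : PHom (X.tensor PObj.unit) X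
  | β (X Y : PObj A) : PHom (X.tensor Y) (Y.tensor X)
  | μ (a b : A) : PHom ((PObj.of a).tensor (PObj.of b)) (PObj.of (a ⊗ b))
  | ε : PHom (PObj.unit : PObj A) (PObj.of (𝟙_ A))
  | η (X : PObj A) : PHom (X.tensor X.inv) PObj.unit

/-- The relations. -/
inductive PRel : ∀ {X Y : PObj A}, PHom X Y → PHom X Y → Prop
  | refl {X Y} (f : PHom X Y) : PRel f f
  | symm' {X Y} (f g : PHom X Y) : PRel f g → PRel g f
  | trans {X Y} {f g h : PHom X Y} : PRel f g → PRel g h → PRel f h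
  | comp_congr {X Y Z} {f f' : PHom X Y} {g g' : PHom Y Z} :
      PRel f f' → PRel g g' → PRel (f.comp g) (f'.comp g')
  | tensor_congr {W X Y Z} {f f' : PHom W Y} {g g' : PHom X Z} :
      PRel f f' → PRel g g' → PRel (f.tensor g) (f'.tensor g')
  | symm_congr {X Y} {f f' : PHom X Y} : PRel f f' → PRel f.symm f'.symm
  | comp_id {X Y} (f : PHom X Y) : PRel (f.comp (PHom.id _)) f
  | id_comp {X Y} (f : PHom X Y) : PRel ((PHom.id _).comp f) f
  | assoc {X Y U V : PObj A} (f : PHom X U) (g : PHom U V) (h : PHom V Y) :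
      PRel ((f.comp g).comp h) (f.comp (g.comp h))
  | symm_comp {X Y} (f : PHom X Y) : PRel (f.symm.comp f) (PHom.id _)
  | comp_symm {X Y} (f : PHom X Y) : PRel (f.comp f.symm) (PHom.id _)
  | tensor_id (X Y : PObj A) : PRel ((PHom.id X).tensor (PHom.id Y)) (PHom.id _)
  | tensor_comp {X₁ Y₁ Z₁ X₂ Y₂ Z₂ : PObj A} (f₁ : PHom X₁ Y₁) (f₂ : PHom X₂ Y₂)
      (g₁ : PHom Y₁ Z₁) (g₂ : PHom Y₂ Z₂) :
      PRel ((f₁.tensor f₂).comp (g₁.tensor g₂)) ((f₁.comp g₁).tensor (f₂.comp g₂))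
  | α_nat {X₁ X₂ X₃ Y₁ Y₂ Y₃ : PObj A} (f₁ : PHom X₁ Y₁) (f₂ : PHom X₂ Y₂) (f₃ : PHom X₃ Y₃) :
      PRel (((f₁.tensor f₂).tensor f₃).comp (PHom.α Y₁ Y₂ Y₃))
        ((PHom.α X₁ X₂ X₃).comp (f₁.tensor (f₂.tensor f₃)))
  | l_nat {X Y} (f : PHom X Y) :
      PRel (((PHom.id PObj.unit).tensor f).comp (PHom.l Y)) ((PHom.l X).comp f)
  | r_nat {X Y} (f : PHom X Y) :
      PRel ((f.tensor (PHom.id PObj.unit)).comp (PHom.r Y)) ((PHom.r X).comp f)
  | β_nat {X₁ X₂ Y₁ Y₂ : PObj A} (f : PHom X₁ Y₁) (g : PHom X₂ Y₂) :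
      PRel ((f.tensor g).comp (PHom.β Y₁ Y₂)) ((PHom.β X₁ X₂).comp (g.tensor f))
  | pentagon (W X Y Z : PObj A) :
      PRel (((PHom.α W X Y).tensor (PHom.id Z)).comp
          ((PHom.α W (X.tensor Y) Z).comp ((PHom.id W).tensor (PHom.α X Y Z))))
        ((PHom.α (W.tensor X) Y Z).comp (PHom.α W X (Y.tensor Z)))
  | triangle (X Y : PObj A) :
      PRel ((PHom.α X PObj.unit Y).comp ((PHom.id X).tensor (PHom.l Y)))
        ((PHom.r X).tensor (PHom.id Y))
  | hexagon_fwd (X Y Z : PObj A) :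
      PRel ((PHom.α X Y Z).comp ((PHom.β X (Y.tensor Z)).comp (PHom.α Y Z X)))
        (((PHom.β X Y).tensor (PHom.id Z)).comp
          ((PHom.α Y X Z).comp ((PHom.id Y).tensor (PHom.β X Z))))
  | hexagon_rev (X Y Z : PObj A) :
      PRel ((PHom.α X Y Z).symm.comp ((PHom.β (X.tensor Y) Z).comp (PHom.α Z X Y).symm))
        (((PHom.id X).tensor (PHom.β Y Z)).comp
          ((PHom.α X Z Y).symm.comp ((PHom.β X Z).tensor (PHom.id Y))))
  | symmetry (X Y : PObj A) : PRel ((PHom.β X Y).comp (PHom.β Y X)) (PHom.id _)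
  | of_id (a : A) : PRel (PHom.of (𝟙 a)) (PHom.id _)
  | of_comp {a b c : A} (f : a ⟶ b) (g : b ⟶ c) :
      PRel (PHom.of (f ≫ g)) ((PHom.of f).comp (PHom.of g))
  | μ_nat {a a' b b' : A} (f : a ⟶ b) (g : a' ⟶ b') :
      PRel (((PHom.of f).tensor (PHom.of g)).comp (PHom.μ b b'))
        ((PHom.μ a a').comp (PHom.of (f ⊗ₘ g)))
  | μ_assoc (a b c : A) :
      PRel (((PHom.μ a b).tensor (PHom.id (PObj.of c))).comp
          ((PHom.μ (a ⊗ b) c).comp (PHom.of (α_ a b c).hom)))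
        ((PHom.α (PObj.of a) (PObj.of b) (PObj.of c)).comp
          (((PHom.id (PObj.of a)).tensor (PHom.μ b c)).comp (PHom.μ a (b ⊗ c))))
  | μ_left_unit (a : A) :
      PRel (PHom.l (PObj.of a))
        ((PHom.ε.tensor (PHom.id (PObj.of a))).comp
          ((PHom.μ (𝟙_ A) a).comp (PHom.of (λ_ a).hom)))
  | μ_right_unit (a : A) :
      PRel (PHom.r (PObj.of a))
        (((PHom.id (PObj.of a)).tensor PHom.ε).comp
          ((PHom.μ a (𝟙_ A)).comp (PHom.of (ρ_ a).hom)))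
  | μ_braided (a b : A) :
      PRel ((PHom.μ a b).comp (PHom.of (β_ a b).hom))
        ((PHom.β (PObj.of a) (PObj.of b)).comp (PHom.μ b a))

instance setoidHom (X Y : PObj A) : Setoid (PHom X Y) :=
  ⟨PRel, ⟨PRel.refl, PRel.symm' _ _, PRel.trans⟩⟩

open PRel

instance categoryPObj : Category.{max u v} (PObj A) where
  Hom X Y := Quotient (setoidHom X Y)
  id X := ⟦PHom.id X⟧
  comp := Quotient.map₂ PHom.comp (fun _ _ hf _ _ hg ↦ PRel.comp_congr hf hg)
  id_comp := by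
    rintro X Y ⟨f⟩
    exact Quotient.sound (id_comp f)
  comp_id := by
    rintro X Y ⟨f⟩
    exact Quotient.sound (comp_id f)
  assoc := by
    rintro W X Y Z ⟨f⟩ ⟨g⟩ ⟨h⟩
    exact Quotient.sound (assoc f g h)

/-- The class of a formal morphism. -/
abbrev homMk {X Y : PObj A} (f : PHom X Y) : X ⟶ Y := ⟦f⟧

theorem homMk_comp {X Y Z : PObj A} (f : PHom X Y) (g : PHom Y Z) :
    homMk (f.comp g) = homMk f ≫ homMk g := rfl

theorem homMk_id (X : PObj A) : homMk (PHom.id X) = 𝟙 X := rfl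

theorem homMk_eq {X Y : PObj A} {f g : PHom X Y} (h : PRel f g) : homMk f = homMk g :=
  Quotient.sound h

instance : MonoidalCategoryStruct (PObj A) where
  tensorObj X Y := PObj.tensor X Y
  tensorHom := Quotient.map₂ PHom.tensor (fun _ _ hf _ _ hg ↦ PRel.tensor_congr hf hg)
  whiskerLeft X _ _ f :=
    Quotient.map (fun f ↦ PHom.tensor (PHom.id X) f)
      (fun _ _ h ↦ PRel.tensor_congr (PRel.refl _) h) f
  whiskerRight f Y :=
    Quotient.map (fun f ↦ PHom.tensor f (PHom.id Y))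
      (fun _ _ h ↦ PRel.tensor_congr h (PRel.refl _)) f
  tensorUnit := PObj.unit
  associator X Y Z :=
    ⟨homMk (PHom.α X Y Z), homMk (PHom.α X Y Z).symm, Quotient.sound (comp_symm _),
      Quotient.sound (symm_comp _)⟩
  leftUnitor X :=
    ⟨homMk (PHom.l X), homMk (PHom.l X).symm, Quotient.sound (comp_symm _),
      Quotient.sound (symm_comp _)⟩
  rightUnitor X :=
    ⟨homMk (PHom.r X), homMk (PHom.r X).symm, Quotient.sound (comp_symm _),
      Quotient.sound (symm_comp _)⟩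

theorem homMk_tensor {W X Y Z : PObj A} (f : PHom W Y) (g : PHom X Z) :
    homMk (f.tensor g) = homMk f ⊗ₘ homMk g := rfl

theorem tensor_eq (X Y : PObj A) : PObj.tensor X Y = X ⊗ Y := rfl

theorem unit_eq : (PObj.unit : PObj A) = 𝟙_ (PObj A) := rfl

theorem homMk_α (X Y Z : PObj A) : homMk (PHom.α X Y Z) = (α_ X Y Z).hom := rfl
theorem homMk_α_symm (X Y Z : PObj A) : homMk (PHom.α X Y Z).symm = (α_ X Y Z).inv := rfl
theorem homMk_l (X : PObj A) : homMk (PHom.l X) = (λ_ X).hom := rfl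
theorem homMk_r (X : PObj A) : homMk (PHom.r X) = (ρ_ X).hom := rfl

instance : MonoidalCategory (PObj A) :=
  MonoidalCategory.ofTensorHom
    (id_tensorHom_id := fun X Y ↦ Quotient.sound (tensor_id X Y))
    (id_tensorHom := by
      rintro X Y₁ Y₂ ⟨f⟩
      rfl)
    (tensorHom_id := by
      rintro X₁ X₂ ⟨f⟩ Y
      rfl)
    (tensorHom_comp_tensorHom := by
      rintro X₁ Y₁ Z₁ X₂ Y₂ Z₂ ⟨f₁⟩ ⟨f₂⟩ ⟨g₁⟩ ⟨g₂⟩
      exact Quotient.sound (tensor_comp _ _ _ _))
    (associator_naturality := by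
      rintro X₁ X₂ X₃ Y₁ Y₂ Y₃ ⟨f₁⟩ ⟨f₂⟩ ⟨f₃⟩
      exact Quotient.sound (α_nat _ _ _))
    (leftUnitor_naturality := by
      rintro X Y ⟨f⟩
      exact Quotient.sound (l_nat _))
    (rightUnitor_naturality := by
      rintro X Y ⟨f⟩
      exact Quotient.sound (r_nat _))
    (pentagon := fun W X Y Z ↦ Quotient.sound (pentagon W X Y Z))
    (triangle := fun X Y ↦ Quotient.sound (triangle X Y))


theorem homMk_whiskerLeft (X : PObj A) {Y Z : PObj A} (f : PHom Y Z) :
    homMk ((PHom.id X).tensor f) = X ◁ homMk f := rfl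

theorem homMk_whiskerRight {X Y : PObj A} (f : PHom X Y) (Z : PObj A) :
    homMk (f.tensor (PHom.id Z)) = homMk f ▷ Z := rfl

instance : BraidedCategory (PObj A) where
  braiding X Y :=
    ⟨homMk (PHom.β X Y), homMk (PHom.β Y X), Quotient.sound (symmetry X Y),
      Quotient.sound (symmetry Y X)⟩
  braiding_naturality_right := by
    rintro X Y Z ⟨f⟩
    exact Quotient.sound (β_nat (PHom.id X) f)
  braiding_naturality_left := by
    rintro X Y ⟨f⟩ Z
    exact Quotient.sound (β_nat f (PHom.id Z))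
  hexagon_forward := fun X Y Z ↦ Quotient.sound (hexagon_fwd X Y Z)
  hexagon_reverse := fun X Y Z ↦ Quotient.sound (hexagon_rev X Y Z)

theorem homMk_β (X Y : PObj A) : homMk (PHom.β X Y) = (β_ X Y).hom := rfl

instance : SymmetricCategory (PObj A) where
  symmetry := fun X Y ↦ Quotient.sound (PRel.symmetry X Y)

theorem homMk_symm_comp {X Y : PObj A} (f : PHom X Y) : homMk f.symm ≫ homMk f = 𝟙 Y :=
  Quotient.sound (symm_comp f)

theorem homMk_comp_symm {X Y : PObj A} (f : PHom X Y) : homMk f ≫ homMk f.symm = 𝟙 X :=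
  Quotient.sound (comp_symm f)

instance : IsGroupoid (PObj A) where
  all_isIso := by
    rintro X Y ⟨f⟩
    exact ⟨homMk f.symm, homMk_comp_symm f, homMk_symm_comp f⟩

theorem homMk_symm {X Y : PObj A} (f : PHom X Y) : homMk f.symm = inv (homMk f) := by
  symm
  apply IsIso.inv_eq_of_hom_inv_id
  exact homMk_comp_symm f

/-- The unit iso `X ⊗ X⁻¹ ≅ 𝟙`. -/
noncomputable def ηIso (X : PObj A) : X ⊗ X.inv ≅ 𝟙_ (PObj A) :=
  ⟨homMk (PHom.η X), homMk (PHom.η X).symm, homMk_comp_symm _, homMk_symm_comp _⟩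

section Picard

variable {C : Type*} [Category C] [MonoidalCategory C]

/-- If `X ⊗ Y ≅ 𝟙` and `Y ⊗ X ≅ 𝟙` then tensoring with `X` on the left is an equivalence. -/
theorem tensorLeft_isEquivalence_of_iso {X Y : C} (e₁ : X ⊗ Y ≅ 𝟙_ C) (e₂ : Y ⊗ X ≅ 𝟙_ C) :
    (tensorLeft X).IsEquivalence := by
  let unitIso : 𝟭 C ≅ tensorLeft X ⋙ tensorLeft Y :=
    (leftUnitorNatIso C).symm ≪≫ ((tensoringLeft C).mapIso e₂.symm) ≪≫ tensorLeftTensor Y X
  let counitIso : tensorLeft Y ⋙ tensorLeft X ≅ 𝟭 C :=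
    (tensorLeftTensor X Y).symm ≪≫ ((tensoringLeft C).mapIso e₁) ≪≫ leftUnitorNatIso C
  exact (CategoryTheory.Equivalence.mk (tensorLeft X) (tensorLeft Y) unitIso counitIso).isEquivalence_functor

/-- If `X ⊗ Y ≅ 𝟙` and `Y ⊗ X ≅ 𝟙` then tensoring with `X` on the right is an equivalence. -/
theorem tensorRight_isEquivalence_of_iso {X Y : C} (e₁ : X ⊗ Y ≅ 𝟙_ C) (e₂ : Y ⊗ X ≅ 𝟙_ C) :
    (tensorRight X).IsEquivalence := by
  let unitIso : 𝟭 C ≅ tensorRight X ⋙ tensorRight Y :=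
    (rightUnitorNatIso C).symm ≪≫ ((tensoringRight C).mapIso e₁.symm) ≪≫ tensorRightTensor X Y
  let counitIso : tensorRight Y ⋙ tensorRight X ≅ 𝟭 C :=
    (tensorRightTensor Y X).symm ≪≫ ((tensoringRight C).mapIso e₂) ≪≫ rightUnitorNatIso C
  exact (CategoryTheory.Equivalence.mk (tensorRight X) (tensorRight Y) unitIso counitIso).isEquivalence_functor

end Picard

theorem picard (X : PObj A) :
    (tensorLeft X).IsEquivalence ∧ (tensorRight X).IsEquivalence :=
  ⟨tensorLeft_isEquivalence_of_iso (ηIso X) ((β_ _ _) ≪≫ ηIso X),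
    tensorRight_isEquivalence_of_iso (ηIso X) ((β_ _ _) ≪≫ ηIso X)⟩

/-- The canonical functor `A ⥤ PObj A`. -/
def incl : A ⥤ PObj A where
  obj := PObj.of
  map f := homMk (PHom.of f)
  map_id a := Quotient.sound (of_id a)
  map_comp f g := Quotient.sound (of_comp f g)

theorem incl_obj (a : A) : (incl (A := A)).obj a = PObj.of a := rfl
theorem incl_map {a b : A} (f : a ⟶ b) : (incl (A := A)).map f = homMk (PHom.of f) := rfl

theorem homMk_of_id (a : A) : homMk (PHom.of (𝟙 a)) = 𝟙 (PObj.of a) := Quotient.sound (of_id a)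

instance : (incl (A := A)).LaxBraided where
  ε := homMk PHom.ε
  μ a b := homMk (PHom.μ a b)
  μ_natural_left := by
    intro a b f c
    have h := homMk_eq (μ_nat f (𝟙 c))
    rw [homMk_comp, homMk_comp, homMk_tensor, homMk_of_id, MonoidalCategory.tensorHom_id,
      MonoidalCategory.tensorHom_id] at h
    exact h
  μ_natural_right := by
    intro a b c f
    have h := homMk_eq (μ_nat (𝟙 c) f)
    rw [homMk_comp, homMk_comp, homMk_tensor, homMk_of_id, MonoidalCategory.id_tensorHom,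
      MonoidalCategory.id_tensorHom] at h
    exact h
  associativity := fun a b c ↦ homMk_eq (μ_assoc a b c)
  left_unitality := fun a ↦ homMk_eq (μ_left_unit a)
  right_unitality := fun a ↦ homMk_eq (μ_right_unit a)
  braided := fun a b ↦ homMk_eq (μ_braided a b)

theorem incl_ε : Functor.LaxMonoidal.ε (incl (A := A)) = homMk PHom.ε := rfl
theorem incl_μ (a b : A) : Functor.LaxMonoidal.μ (incl (A := A)) a b = homMk (PHom.μ a b) := rfl

end Groth.Agent.Lib.Seat71.PicFree
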