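import Mathlib
import Groth.Agent.Lib.Seat71PicFree
import Groth.Agent.Lib.Seat71MonNat

set_option autoImplicit false
universe v u v' u'

namespace Groth.Agent.Lib.Seat71.PicFree

open CategoryTheory MonoidalCategory Functor.LaxMonoidal

variable {A : Type u} [Category.{v} A] [MonoidalCategory A] [BraidedCategory A]
variable {P : Type u'} [Category.{v'} P] [MonoidalCategory P] [SymmetricCategory P] [IsGroupoid P]
variable (hP : ∀ X : P, (tensorLeft X).IsEquivalence ∧ (tensorRight X).IsEquivalence)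
variable (Ψ Ψ' : PObj A ⥤ P) [Ψ.LaxBraided] [Ψ'.LaxBraided]
variable (τ : incl ⋙ Ψ ⟶ incl ⋙ Ψ')

/-- The morphism whose preimage under left tensoring defines the extension on formal inverses. -/
noncomputable def invTarget (X : PObj A) (θX : Ψ.obj X ⟶ Ψ'.obj X) :
    Ψ'.obj X ⊗ Ψ.obj X.inv ⟶ Ψ'.obj X ⊗ Ψ'.obj X.inv :=
  inv (θX ▷ Ψ.obj X.inv) ≫ μ Ψ X X.inv ≫ Ψ.map (ηIso X).hom ≫ inv (ε Ψ) ≫ ε Ψ' ≫
    inv (Ψ'.map (ηIso X).hom) ≫ inv (μ Ψ' X X.inv)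

/-- The extension of `τ` to all objects. -/
noncomputable def extApp : ∀ X : PObj A, Ψ.obj X ⟶ Ψ'.obj X
  | .of a => τ.app a
  | .unit => inv (ε Ψ) ≫ ε Ψ'
  | .tensor X Y => inv (μ Ψ X Y) ≫ (extApp X ⊗ₘ extApp Y) ≫ μ Ψ' X Y
  | .inv X =>
    haveI := (hP (Ψ'.obj X)).1
    (tensorLeft (Ψ'.obj X)).preimage (invTarget Ψ Ψ' X (extApp X))

theorem extApp_of (a : A) : extApp hP Ψ Ψ' τ (PObj.of a) = τ.app a := rfl

theorem extApp_unit : extApp hP Ψ Ψ' τ (𝟙_ (PObj A)) = inv (ε Ψ) ≫ ε Ψ' := rfl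

theorem extApp_tensor (X Y : PObj A) :
    extApp hP Ψ Ψ' τ (X ⊗ Y) =
      inv (μ Ψ X Y) ≫ (extApp hP Ψ Ψ' τ X ⊗ₘ extApp hP Ψ Ψ' τ Y) ≫ μ Ψ' X Y := rfl

theorem extApp_inv (X : PObj A) :
    Ψ'.obj X ◁ extApp hP Ψ Ψ' τ X.inv = invTarget Ψ Ψ' X (extApp hP Ψ Ψ' τ X) := by
  haveI := (hP (Ψ'.obj X)).1
  exact (tensorLeft (Ψ'.obj X)).map_preimage (invTarget Ψ Ψ' X (extApp hP Ψ Ψ' τ X))

/-- unit law -/
theorem ext_unit : ε Ψ ≫ extApp hP Ψ Ψ' τ (𝟙_ (PObj A)) = ε Ψ' := by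
  rw [extApp_unit, IsIso.hom_inv_id_assoc]

/-- tensor law -/
theorem ext_tensor (X Y : PObj A) :
    μ Ψ X Y ≫ extApp hP Ψ Ψ' τ (X ⊗ Y) =
      (extApp hP Ψ Ψ' τ X ⊗ₘ extApp hP Ψ Ψ' τ Y) ≫ μ Ψ' X Y := by
  rw [extApp_tensor, IsIso.hom_inv_id_assoc]


theorem ext_eta (X : PObj A) :
    Ψ.map (ηIso X).hom ≫ extApp hP Ψ Ψ' τ (𝟙_ (PObj A)) =
      extApp hP Ψ Ψ' τ (X ⊗ X.inv) ≫ Ψ'.map (ηIso X).hom := by
  rw [extApp_tensor, extApp_unit, MonoidalCategory.tensorHom_def, extApp_inv, invTarget]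
  simp only [Category.assoc, IsIso.hom_inv_id_assoc, IsIso.inv_hom_id_assoc, IsIso.inv_hom_id,
    Category.comp_id]

variable [NatTrans.IsMonoidal τ]

theorem ext_nat : ∀ {X Y : PObj A} (f : PHom X Y),
    Ψ.map (homMk f) ≫ extApp hP Ψ Ψ' τ Y = extApp hP Ψ Ψ' τ X ≫ Ψ'.map (homMk f) := by
  intro X Y f
  induction f with
  | id X => rw [homMk_id, Ψ.map_id, Ψ'.map_id, Category.id_comp, Category.comp_id]
  | comp f g ihf ihg =>
    rw [homMk_comp, Ψ.map_comp, Ψ'.map_comp, Category.assoc, ihg, ← Category.assoc, ihf,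
      Category.assoc]
  | tensor f g ihf ihg =>
    rw [homMk_tensor]
    exact MonNat.nat_tensor Ψ Ψ' (homMk f) (homMk g) (ext_tensor hP Ψ Ψ' τ _ _)
      (ext_tensor hP Ψ Ψ' τ _ _) ihf ihg
  | symm f ih =>
    rw [homMk_symm, Functor.map_inv, Functor.map_inv]
    exact MonNat.nat_inv _ _ _ _ ih
  | of f => exact τ.naturality f
  | α X Y Z =>
    exact MonNat.nat_associator Ψ Ψ' X Y Z (ext_tensor hP Ψ Ψ' τ _ _) (ext_tensor hP Ψ Ψ' τ _ _)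
      (ext_tensor hP Ψ Ψ' τ _ _) (ext_tensor hP Ψ Ψ' τ _ _)
  | l X =>
    exact MonNat.nat_leftUnitor Ψ Ψ' X (ext_unit hP Ψ Ψ' τ) (ext_tensor hP Ψ Ψ' τ _ _)
  | r X =>
    exact MonNat.nat_rightUnitor Ψ Ψ' X (ext_unit hP Ψ Ψ' τ) (ext_tensor hP Ψ Ψ' τ _ _)
  | β X Y =>
    exact MonNat.nat_braiding Ψ Ψ' X Y (ext_tensor hP Ψ Ψ' τ _ _) (ext_tensor hP Ψ Ψ' τ _ _)
  | μ a b =>
    have h := NatTrans.IsMonoidal.tensor (τ := τ) a b
    simp only [Functor.LaxMonoidal.comp_μ, Category.assoc] at h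
    change Ψ.map (μ incl a b) ≫ τ.app (a ⊗ b) =
      extApp hP Ψ Ψ' τ (incl.obj a ⊗ incl.obj b) ≫ Ψ'.map (μ incl a b)
    rw [← cancel_epi (μ Ψ (incl.obj a) (incl.obj b))]
    have h2 := ext_tensor hP Ψ Ψ' τ (incl.obj a) (incl.obj b)
    rw [reassoc_of% h2]
    exact h
  | ε =>
    have h := NatTrans.IsMonoidal.unit (τ := τ)
    simp only [Functor.LaxMonoidal.comp_ε, Category.assoc] at h
    change Ψ.map (ε incl) ≫ τ.app (𝟙_ A) =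
      extApp hP Ψ Ψ' τ (𝟙_ (PObj A)) ≫ Ψ'.map (ε incl)
    rw [← cancel_epi (ε Ψ)]
    have h2 := ext_unit hP Ψ Ψ' τ
    rw [reassoc_of% h2]
    exact h
  | η X => exact ext_eta hP Ψ Ψ' τ X

/-- The extension as a natural transformation. -/
noncomputable def ext : Ψ ⟶ Ψ' where
  app := extApp hP Ψ Ψ' τ
  naturality := by
    rintro X Y ⟨f⟩
    exact ext_nat hP Ψ Ψ' τ f

theorem ext_app (X : PObj A) : (ext hP Ψ Ψ' τ).app X = extApp hP Ψ Ψ' τ X := rfl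

instance : NatTrans.IsMonoidal (ext hP Ψ Ψ' τ) where
  unit := ext_unit hP Ψ Ψ' τ
  tensor := fun X Y ↦ ext_tensor hP Ψ Ψ' τ X Y

theorem whiskerLeft_ext : Functor.whiskerLeft incl (ext hP Ψ Ψ' τ) = τ := by
  ext a
  rfl


theorem ext_unique (θ₂ : Ψ ⟶ Ψ') [NatTrans.IsMonoidal θ₂]
    (h : Functor.whiskerLeft incl θ₂ = τ) : θ₂ = ext hP Ψ Ψ' τ := by
  ext X
  rw [ext_app]
  induction X with
  | of a =>
    have h0 := congrArg (fun t => t.app a) h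
    exact h0
  | unit =>
    have h1 := NatTrans.IsMonoidal.unit (τ := θ₂)
    change θ₂.app (𝟙_ (PObj A)) = extApp hP Ψ Ψ' τ (𝟙_ (PObj A))
    rw [extApp_unit, ← h1, IsIso.inv_hom_id_assoc]
  | tensor X Y ihX ihY =>
    have h1 := NatTrans.IsMonoidal.tensor (τ := θ₂) X Y
    change θ₂.app (X ⊗ Y) = extApp hP Ψ Ψ' τ (X ⊗ Y)
    rw [extApp_tensor, ← ihX, ← ihY, ← h1, IsIso.inv_hom_id_assoc]
  | inv X ih =>
    have := (hP (Ψ'.obj X)).1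
    apply (tensorLeft (Ψ'.obj X)).map_injective
    change Ψ'.obj X ◁ θ₂.app X.inv = Ψ'.obj X ◁ extApp hP Ψ Ψ' τ X.inv
    rw [extApp_inv, invTarget, ← ih]
    have hn := θ₂.naturality (ηIso X).hom
    have h1 := NatTrans.IsMonoidal.unit (τ := θ₂)
    have h2 := NatTrans.IsMonoidal.tensor (τ := θ₂) X X.inv
    have e1 : θ₂.app (𝟙_ (PObj A)) = inv (ε Ψ) ≫ ε Ψ' := by
      rw [← h1, IsIso.inv_hom_id_assoc]
    have e2 : θ₂.app (X ⊗ X.inv) =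
        Ψ.map (ηIso X).hom ≫ θ₂.app (𝟙_ (PObj A)) ≫ inv (Ψ'.map (ηIso X).hom) := by
      rw [← Category.assoc, hn, Category.assoc, IsIso.hom_inv_id, Category.comp_id]
    have e3 : (θ₂.app X ⊗ₘ θ₂.app X.inv) =
        μ Ψ X X.inv ≫ θ₂.app (X ⊗ X.inv) ≫ inv (μ Ψ' X X.inv) := by
      rw [← Category.assoc, h2, Category.assoc, IsIso.hom_inv_id, Category.comp_id]
    rw [IsIso.eq_inv_comp, ← MonoidalCategory.tensorHom_def, e3, e2, e1]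
    simp only [Category.assoc]

end Groth.Agent.Lib.Seat71.PicFree
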