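import Mathlib
import Groth.Agent.Lib.Seat71PicFree

set_option autoImplicit false
universe v u v' u'

namespace Groth.Agent.Lib.Seat71.PicFree

open CategoryTheory MonoidalCategory

variable {A : Type u} [Category.{v} A] [MonoidalCategory A] [BraidedCategory A]
variable {P : Type u'} [Category.{v'} P] [MonoidalCategory P] [SymmetricCategory P] [IsGroupoid P]
variable (hP : ∀ X : P, (tensorLeft X).IsEquivalence ∧ (tensorRight X).IsEquivalence)
variable (Φ : A ⥤ P) [Φ.LaxBraided]

/-- A chosen inverse object in a Picard category. -/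
noncomputable def invObj (X : P) : P :=
  haveI := (hP X).1
  (tensorLeft X).objPreimage (𝟙_ P)

/-- The chosen iso `X ⊗ X⁻¹ ≅ 𝟙`. -/
noncomputable def invIso (X : P) : X ⊗ invObj hP X ≅ 𝟙_ P :=
  haveI := (hP X).1
  (tensorLeft X).objObjPreimageIso (𝟙_ P)

/-- The lift on objects. -/
noncomputable def liftObj : PObj A → P
  | .of a => Φ.obj a
  | .unit => 𝟙_ P
  | .tensor X Y => liftObj X ⊗ liftObj Y
  | .inv X => invObj hP (liftObj X)

/-- The lift on formal morphisms. -/
noncomputable def liftHom : ∀ {X Y : PObj A}, PHom X Y → (liftObj hP Φ X ⟶ liftObj hP Φ Y)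
  | _, _, .id _ => 𝟙 _
  | _, _, .comp f g => liftHom f ≫ liftHom g
  | _, _, .tensor f g => liftHom f ⊗ₘ liftHom g
  | _, _, .symm f => inv (liftHom f)
  | _, _, .of f => Φ.map f
  | _, _, .α _ _ _ => (α_ _ _ _).hom
  | _, _, .l _ => (λ_ _).hom
  | _, _, .r _ => (ρ_ _).hom
  | _, _, .β _ _ => (β_ _ _).hom
  | _, _, .μ a b => Functor.LaxMonoidal.μ Φ a b
  | _, _, .ε => Functor.LaxMonoidal.ε Φ
  | _, _, .η X => (invIso hP (liftObj hP Φ X)).hom

theorem liftHom_respects {X Y : PObj A} {f g : PHom X Y} (h : PRel f g) :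
    liftHom hP Φ f = liftHom hP Φ g := by
  induction h with
  | refl => rfl
  | symm' _ _ _ ih => exact ih.symm
  | trans _ _ ih1 ih2 => exact ih1.trans ih2
  | comp_congr _ _ ih1 ih2 => simp only [liftHom]; rw [ih1, ih2]
  | tensor_congr _ _ ih1 ih2 => simp only [liftHom]; rw [ih1, ih2]
  | symm_congr _ ih => simp only [liftHom]; congr 1
  | comp_id => simp only [liftHom, Category.comp_id]
  | id_comp => simp only [liftHom, Category.id_comp]
  | assoc => simp only [liftHom, Category.assoc]
  | symm_comp => simp only [liftHom, IsIso.inv_hom_id]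
  | comp_symm => simp only [liftHom, IsIso.hom_inv_id]
  | tensor_id => simp only [liftHom, liftObj, MonoidalCategory.id_tensorHom_id]
  | tensor_comp => simp only [liftHom]; exact MonoidalCategory.tensorHom_comp_tensorHom _ _ _ _
  | α_nat => simp only [liftHom, liftObj, MonoidalCategory.associator_naturality]
  | l_nat =>
    simp only [liftHom, liftObj, MonoidalCategory.id_tensorHom,
      MonoidalCategory.leftUnitor_naturality]
  | r_nat =>
    simp only [liftHom, liftObj, MonoidalCategory.tensorHom_id,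
      MonoidalCategory.rightUnitor_naturality]
  | β_nat => simp only [liftHom, liftObj, BraidedCategory.braiding_naturality]
  | pentagon =>
    simp only [liftHom, liftObj, MonoidalCategory.id_tensorHom, MonoidalCategory.tensorHom_id,
      MonoidalCategory.pentagon]
  | triangle =>
    simp only [liftHom, liftObj, MonoidalCategory.id_tensorHom, MonoidalCategory.tensorHom_id,
      MonoidalCategory.triangle]
  | hexagon_fwd =>
    simp only [liftHom, liftObj, MonoidalCategory.id_tensorHom, MonoidalCategory.tensorHom_id,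
      BraidedCategory.hexagon_forward]
  | hexagon_rev =>
    simp only [liftHom, liftObj, MonoidalCategory.id_tensorHom, MonoidalCategory.tensorHom_id,
      IsIso.Iso.inv_hom, BraidedCategory.hexagon_reverse]
  | symmetry => simp only [liftHom, liftObj, SymmetricCategory.symmetry]
  | of_id => simp only [liftHom, liftObj]; exact Φ.map_id _
  | of_comp => simp only [liftHom, Functor.map_comp]; rfl
  | μ_nat => simp only [liftHom, liftObj, Functor.LaxMonoidal.μ_natural]
  | μ_assoc =>
    simp only [liftHom, liftObj, MonoidalCategory.id_tensorHom, MonoidalCategory.tensorHom_id,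
      Functor.LaxMonoidal.associativity]
  | μ_left_unit =>
    simp only [liftHom, liftObj, MonoidalCategory.tensorHom_id,
      Functor.LaxMonoidal.left_unitality]
  | μ_right_unit =>
    simp only [liftHom, liftObj, MonoidalCategory.id_tensorHom,
      Functor.LaxMonoidal.right_unitality]
  | μ_braided => simp only [liftHom, liftObj, Functor.LaxBraided.braided]


/-- The lifted functor. -/
noncomputable def lift : PObj A ⥤ P where
  obj := liftObj hP Φ
  map {X Y} f := Quotient.lift (liftHom hP Φ) (fun _ _ h ↦ liftHom_respects hP Φ h) f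
  map_id X := rfl
  map_comp := by
    rintro X Y Z ⟨f⟩ ⟨g⟩
    rfl

theorem lift_obj (X : PObj A) : (lift hP Φ).obj X = liftObj hP Φ X := rfl

theorem lift_map_homMk {X Y : PObj A} (f : PHom X Y) :
    (lift hP Φ).map (homMk f) = liftHom hP Φ f := rfl

theorem lift_obj_tensor (X Y : PObj A) :
    (lift hP Φ).obj (X ⊗ Y) = (lift hP Φ).obj X ⊗ (lift hP Φ).obj Y := rfl

theorem lift_obj_unit : (lift hP Φ).obj (𝟙_ (PObj A)) = 𝟙_ P := rfl

theorem lift_map_whiskerRight {X Y : PObj A} (f : X ⟶ Y) (Z : PObj A) :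
    (lift hP Φ).map (f ▷ Z) = (lift hP Φ).map f ▷ (lift hP Φ).obj Z := by
  induction f using Quotient.inductionOn with | _ f
  show liftHom hP Φ (f.tensor (PHom.id Z)) = liftHom hP Φ f ▷ liftObj hP Φ Z
  simp only [liftHom, MonoidalCategory.tensorHom_id]
  try rfl

theorem lift_map_whiskerLeft (Z : PObj A) {X Y : PObj A} (f : X ⟶ Y) :
    (lift hP Φ).map (Z ◁ f) = (lift hP Φ).obj Z ◁ (lift hP Φ).map f := by
  induction f using Quotient.inductionOn with | _ f
  show liftHom hP Φ ((PHom.id Z).tensor f) = liftObj hP Φ Z ◁ liftHom hP Φ f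
  simp only [liftHom, MonoidalCategory.id_tensorHom]
  try rfl

theorem lift_map_associator (X Y Z : PObj A) :
    (lift hP Φ).map (α_ X Y Z).hom =
      (α_ ((lift hP Φ).obj X) ((lift hP Φ).obj Y) ((lift hP Φ).obj Z)).hom := rfl

theorem lift_map_leftUnitor (X : PObj A) :
    (lift hP Φ).map (λ_ X).hom = (λ_ ((lift hP Φ).obj X)).hom := rfl

theorem lift_map_rightUnitor (X : PObj A) :
    (lift hP Φ).map (ρ_ X).hom = (ρ_ ((lift hP Φ).obj X)).hom := rfl

theorem lift_map_braiding (X Y : PObj A) :
    (lift hP Φ).map (β_ X Y).hom = (β_ ((lift hP Φ).obj X) ((lift hP Φ).obj Y)).hom := rfl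

noncomputable instance : (lift hP Φ).LaxBraided where
  ε := 𝟙 _
  μ X Y := 𝟙 _
  μ_natural_left := by
    intro X Y f Z
    rw [lift_map_whiskerRight]
    erw [Category.comp_id, Category.id_comp]
  μ_natural_right := by
    intro X Y Z f
    rw [lift_map_whiskerLeft]
    erw [Category.comp_id, Category.id_comp]
  associativity := by
    intro X Y Z
    rw [lift_map_associator]
    erw [MonoidalCategory.id_whiskerRight, MonoidalCategory.whiskerLeft_id, Category.id_comp,
      Category.id_comp, Category.comp_id, Category.comp_id]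
  left_unitality := by
    intro X
    rw [lift_map_leftUnitor]
    erw [MonoidalCategory.id_whiskerRight, Category.id_comp, Category.id_comp]
  right_unitality := by
    intro X
    rw [lift_map_rightUnitor]
    erw [MonoidalCategory.whiskerLeft_id, Category.id_comp, Category.id_comp]
  braided := by
    intro X Y
    rw [lift_map_braiding]
    erw [Category.id_comp, Category.comp_id]

theorem lift_ε : Functor.LaxMonoidal.ε (lift hP Φ) = 𝟙 _ := rfl
theorem lift_μ (X Y : PObj A) : Functor.LaxMonoidal.μ (lift hP Φ) X Y = 𝟙 _ := rfl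

/-- The comparison iso `incl ⋙ lift ≅ Φ` (identity on components). -/
noncomputable def liftIso : incl ⋙ lift hP Φ ≅ Φ :=
  NatIso.ofComponents (fun a ↦ Iso.refl _) (by
    intro a b f
    show liftHom hP Φ (PHom.of f) ≫ 𝟙 _ = 𝟙 _ ≫ Φ.map f
    simp only [liftHom]
    erw [Category.comp_id, Category.id_comp])

theorem liftIso_hom_app (a : A) : (liftIso hP Φ).hom.app a = 𝟙 (Φ.obj a) := rfl

instance : NatTrans.IsMonoidal (liftIso hP Φ).hom where
  unit := by
    show (Functor.LaxMonoidal.ε (lift hP Φ) ≫ (lift hP Φ).map (Functor.LaxMonoidal.ε incl)) ≫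
      (liftIso hP Φ).hom.app (𝟙_ A) = Functor.LaxMonoidal.ε Φ
    show (𝟙 (𝟙_ P) ≫ Functor.LaxMonoidal.ε Φ) ≫ 𝟙 (Φ.obj (𝟙_ A)) = Functor.LaxMonoidal.ε Φ
    rw [Category.id_comp, Category.comp_id]
  tensor := by
    intro a b
    show (Functor.LaxMonoidal.μ (lift hP Φ) _ _ ≫ (lift hP Φ).map (Functor.LaxMonoidal.μ incl a b)) ≫
      (liftIso hP Φ).hom.app (a ⊗ b) =
      ((liftIso hP Φ).hom.app a ⊗ₘ (liftIso hP Φ).hom.app b) ≫ Functor.LaxMonoidal.μ Φ a b
    show (𝟙 (Φ.obj a ⊗ Φ.obj b) ≫ Functor.LaxMonoidal.μ Φ a b) ≫ 𝟙 (Φ.obj (a ⊗ b)) =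
      (𝟙 (Φ.obj a) ⊗ₘ 𝟙 (Φ.obj b)) ≫ Functor.LaxMonoidal.μ Φ a b
    rw [Category.id_comp, Category.comp_id, MonoidalCategory.id_tensorHom_id, Category.id_comp]

end Groth.Agent.Lib.Seat71.PicFree
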