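import Mathlib.CategoryTheory.Monoidal.NaturalTransformation
import Mathlib.CategoryTheory.Monoidal.Skeleton
import Mathlib.CategoryTheory.Monoidal.Braided.Basic
import Mathlib.CategoryTheory.Groupoid
import Mathlib.CategoryTheory.Endomorphism
import Mathlib.Tactic.CategoryTheory.Monoidal.Basic
import Mathlib.Tactic.CategoryTheory.Coherence

set_option autoImplicit false
universe v v' u u'

namespace Groth.Agent.Lib.Seat71.PicTorsor

open CategoryTheory MonoidalCategory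

variable {D : Type u'} [Category.{v'} D] [MonoidalCategory D]

/-- The action of an endomorphism of the unit on an object. -/
def act (φ : 𝟙_ D ⟶ 𝟙_ D) (Z : D) : Z ⟶ Z := (λ_ Z).inv ≫ (φ ▷ Z) ≫ (λ_ Z).hom

/-- The right-handed action of an endomorphism of the unit on an object. -/
def actR (φ : 𝟙_ D ⟶ 𝟙_ D) (Z : D) : Z ⟶ Z := (ρ_ Z).inv ≫ (Z ◁ φ) ≫ (ρ_ Z).hom

theorem act_naturality (φ : 𝟙_ D ⟶ 𝟙_ D) {Z Z' : D} (g : Z ⟶ Z') :
    act φ Z ≫ g = g ≫ act φ Z' := by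
  unfold act
  rw [Category.assoc, Category.assoc, ← leftUnitor_naturality, ← whisker_exchange_assoc,
    ← leftUnitor_inv_naturality_assoc]

theorem act_id (Z : D) : act (𝟙 (𝟙_ D)) Z = 𝟙 Z := by
  simp [act]

theorem act_comp (φ ψ : 𝟙_ D ⟶ 𝟙_ D) (Z : D) : act (φ ≫ ψ) Z = act φ Z ≫ act ψ Z := by
  simp [act]

theorem act_whiskerRight (φ : 𝟙_ D ⟶ 𝟙_ D) (Z W : D) : act φ Z ▷ W = act φ (Z ⊗ W) := by
  unfold act
  monoidal

theorem whiskerLeft_act (φ : 𝟙_ D ⟶ 𝟙_ D) (Z W : D) : Z ◁ act φ W = actR φ Z ▷ W := by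
  unfold act actR
  monoidal

theorem actR_eq_act [BraidedCategory D] (φ : 𝟙_ D ⟶ 𝟙_ D) (Z : D) : actR φ Z = act φ Z := by
  unfold act actR
  rw [← braiding_rightUnitor, ← leftUnitor_inv_braiding]
  simp only [Category.assoc]
  rw [BraidedCategory.braiding_naturality_left_assoc]

theorem act_tensorHom [BraidedCategory D] (φ ψ : 𝟙_ D ⟶ 𝟙_ D) (Z W : D) :
    act φ Z ⊗ₘ act ψ W = act (φ ≫ ψ) (Z ⊗ W) := by
  rw [tensorHom_def, whiskerLeft_act, actR_eq_act, act_whiskerRight, act_whiskerRight, act_comp]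

theorem act_tensorHom' [BraidedCategory D] (φ ψ : 𝟙_ D ⟶ 𝟙_ D) (Z W : D) :
    act φ Z ⊗ₘ act ψ W = act (ψ ≫ φ) (Z ⊗ W) := by
  rw [tensorHom_def', whiskerLeft_act, actR_eq_act, act_whiskerRight, act_whiskerRight, act_comp]

theorem act_injective (Z : D) (hZ : (tensorRight Z).IsEquivalence) (φ ψ : 𝟙_ D ⟶ 𝟙_ D)
    (h : act φ Z = act ψ Z) : φ = ψ := by
  unfold act at h
  have h1 : φ ▷ Z = ψ ▷ Z := by
    have := congrArg (fun f => (λ_ Z).hom ≫ f ≫ (λ_ Z).inv) h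
    simpa using this
  exact (tensorRight Z).map_injective h1

theorem act_surjective (Z : D) (hZ : (tensorRight Z).IsEquivalence) (u : Z ⟶ Z) :
    ∃ φ : 𝟙_ D ⟶ 𝟙_ D, act φ Z = u := by
  obtain ⟨φ, hφ⟩ := (tensorRight Z).map_surjective ((λ_ Z).hom ≫ u ≫ (λ_ Z).inv)
  refine ⟨φ, ?_⟩
  unfold act
  have : φ ▷ Z = (λ_ Z).hom ≫ u ≫ (λ_ Z).inv := hφ
  rw [this]
  simp

end Groth.Agent.Lib.Seat71.PicTorsor

namespace Groth.Agent.Lib.Seat71.PicTorsor

open CategoryTheory MonoidalCategory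

variable {C : Type u} [Category.{v} C] [MonoidalCategory C] [IsGroupoid C]
variable {D : Type u'} [Category.{v'} D] [MonoidalCategory D] [BraidedCategory D] [IsGroupoid D]

/-- Part 2: a character gives a monoidal natural transformation. -/
theorem part_two
    (F G : C ⥤ D) [F.LaxMonoidal] [G.LaxMonoidal] (θ₀ : F ⟶ G) [NatTrans.IsMonoidal θ₀]
    (χ : Skeleton C →* End (𝟙_ D)) :
    ∃ θ : F ⟶ G, NatTrans.IsMonoidal θ ∧ ∀ X : C,
        θ.app X = θ₀.app X ≫ act (χ (toSkeleton X) : 𝟙_ D ⟶ 𝟙_ D) (G.obj X) := by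
  have hsk : ∀ {X Y : C} (f : X ⟶ Y), toSkeleton X = toSkeleton Y := by
    intro X Y f
    exact Quotient.sound ⟨asIso f⟩
  refine ⟨{ app := fun X => θ₀.app X ≫ act (χ (toSkeleton X) : 𝟙_ D ⟶ 𝟙_ D) (G.obj X)
            naturality := ?_ }, ?_, fun X => rfl⟩
  · intro X Y f
    rw [Category.assoc, act_naturality, ← Category.assoc, θ₀.naturality, Category.assoc, hsk f]
  · constructor
    · dsimp only
      have h1 : (χ (toSkeleton (𝟙_ C)) : 𝟙_ D ⟶ 𝟙_ D) = 𝟙 _ := by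
        rw [← Skeleton.one_eq, map_one]; rfl
      rw [h1, act_id, Category.comp_id]
      exact NatTrans.IsMonoidal.unit
    · intro X Y
      dsimp only
      have h2 : (χ (toSkeleton (X ⊗ Y)) : 𝟙_ D ⟶ 𝟙_ D) =
          (χ (toSkeleton Y) : 𝟙_ D ⟶ 𝟙_ D) ≫ (χ (toSkeleton X) : 𝟙_ D ⟶ 𝟙_ D) := by
        rw [Skeleton.toSkeleton_tensorObj, map_mul]; rfl
      rw [h2, ← tensorHom_comp_tensorHom, act_tensorHom', Category.assoc, act_naturality,
        ← Category.assoc, NatTrans.IsMonoidal.tensor, Category.assoc]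


/-- Part 1: a monoidal natural transformation differs from `θ₀` by a unique character. -/
theorem part_one
    (hD : ∀ X : D, (tensorLeft X).IsEquivalence ∧ (tensorRight X).IsEquivalence)
    (F G : C ⥤ D) [F.LaxMonoidal] [G.LaxMonoidal] (θ₀ : F ⟶ G) [NatTrans.IsMonoidal θ₀]
    (θ : F ⟶ G) [NatTrans.IsMonoidal θ] :
    ∃! χ : Skeleton C →* End (𝟙_ D), ∀ X : C,
        θ.app X = θ₀.app X ≫ act (χ (toSkeleton X) : 𝟙_ D ⟶ 𝟙_ D) (G.obj X) := by
  have hex : ∀ X : C, ∃ φ : 𝟙_ D ⟶ 𝟙_ D, act φ (G.obj X) = inv (θ₀.app X) ≫ θ.app X :=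
    fun X => act_surjective _ (hD _).2 _
  choose φ hφ using hex
  have hφ' : ∀ X, θ.app X = θ₀.app X ≫ act (φ X) (G.obj X) := by
    intro X; rw [hφ]; simp
  have hiso : ∀ {X Y : C} (f : X ⟶ Y), φ X = φ Y := by
    intro X Y f
    apply act_injective (G.obj Y) (hD _).2
    have := θ.naturality f
    rw [hφ' X, hφ' Y, Category.assoc, act_naturality, ← Category.assoc (θ₀.app X),
      ← θ₀.naturality, Category.assoc] at this
    exact ((cancel_epi _).1 ((cancel_epi _).1 this)).symm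
  have hone : φ (𝟙_ C) = 𝟙 _ := by
    apply act_injective (G.obj (𝟙_ C)) (hD _).2
    rw [act_id]
    have h1 : Functor.LaxMonoidal.ε F ≫ θ.app (𝟙_ C) = Functor.LaxMonoidal.ε G :=
      NatTrans.IsMonoidal.unit
    have h0 : Functor.LaxMonoidal.ε F ≫ θ₀.app (𝟙_ C) = Functor.LaxMonoidal.ε G :=
      NatTrans.IsMonoidal.unit
    rw [hφ' (𝟙_ C), ← Category.assoc, h0] at h1
    exact (cancel_epi (Functor.LaxMonoidal.ε G)).1 (by rw [h1, Category.comp_id])
  have hmul : ∀ X Y : C, φ (X ⊗ Y) = φ Y ≫ φ X := by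
    intro X Y
    apply act_injective (G.obj (X ⊗ Y)) (hD _).2
    have h1 := NatTrans.IsMonoidal.tensor (τ := θ) X Y
    rw [hφ' X, hφ' Y, hφ' (X ⊗ Y), ← tensorHom_comp_tensorHom, act_tensorHom', Category.assoc,
      act_naturality, ← Category.assoc (θ₀.app X ⊗ₘ θ₀.app Y), ← NatTrans.IsMonoidal.tensor,
      Category.assoc] at h1
    exact (cancel_epi _).1 ((cancel_epi _).1 h1)
  have hout : ∀ X : C, φ ((fromSkeleton C).obj (toSkeleton X)) = φ X :=
    fun X => hiso (fromSkeletonToSkeletonIso X).hom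
  let χ : Skeleton C →* End (𝟙_ D) :=
    { toFun := fun s => φ ((fromSkeleton C).obj s)
      map_one' := by
        show φ ((fromSkeleton C).obj 1) = 𝟙 _
        rw [Skeleton.one_eq, hout, hone]
      map_mul' := by
        intro s t
        show φ ((fromSkeleton C).obj (s * t)) =
          φ ((fromSkeleton C).obj t) ≫ φ ((fromSkeleton C).obj s)
        rw [Skeleton.mul_eq, hout, hmul]
        rfl }
  refine ⟨χ, ?_, ?_⟩
  · intro X
    show θ.app X = θ₀.app X ≫ act (φ ((fromSkeleton C).obj (toSkeleton X))) (G.obj X)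
    rw [hout, ← hφ']
  · intro χ' hχ'
    ext s
    obtain ⟨X, rfl⟩ : ∃ X : C, toSkeleton X = s := ⟨_, toSkeleton_fromSkeleton_obj s⟩
    show (χ' (toSkeleton X) : 𝟙_ D ⟶ 𝟙_ D) = φ ((fromSkeleton C).obj (toSkeleton X))
    rw [hout]
    apply act_injective (G.obj X) (hD _).2
    have h1 := hχ' X
    rw [hφ' X] at h1
    exact ((cancel_epi _).1 h1).symm

theorem main
    (hC : ∀ X : C, (tensorLeft X).IsEquivalence ∧ (tensorRight X).IsEquivalence)
    (hD : ∀ X : D, (tensorLeft X).IsEquivalence ∧ (tensorRight X).IsEquivalence)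
    (F G : C ⥤ D) [F.LaxMonoidal] [G.LaxMonoidal] (θ₀ : F ⟶ G) [NatTrans.IsMonoidal θ₀] :
    (∀ θ : F ⟶ G, NatTrans.IsMonoidal θ →
      ∃! χ : Skeleton C →* End (𝟙_ D), ∀ X : C,
        θ.app X = θ₀.app X ≫ (λ_ (G.obj X)).inv ≫
          ((χ (toSkeleton X) : 𝟙_ D ⟶ 𝟙_ D) ▷ G.obj X) ≫ (λ_ (G.obj X)).hom) ∧
    (∀ χ : Skeleton C →* End (𝟙_ D), ∃ θ : F ⟶ G, NatTrans.IsMonoidal θ ∧ ∀ X : C,
        θ.app X = θ₀.app X ≫ (λ_ (G.obj X)).inv ≫
          ((χ (toSkeleton X) : 𝟙_ D ⟶ 𝟙_ D) ▷ G.obj X) ≫ (λ_ (G.obj X)).hom) :=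
  ⟨fun θ hθ => part_one hD F G θ₀ θ, fun χ => part_two F G θ₀ χ⟩

end Groth.Agent.Lib.Seat71.PicTorsor
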