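import Mathlib
import Groth.Agent.Lib.Seat73ArtinSchreier
import Groth.Agent.Lib.Seat12RegUFD

/-!
# `k[[x_1..x_n]]` is a regular local ring, hence factorial (seat 73)
-/

set_option autoImplicit false
universe u

namespace Groth.Agent.Lib.Seat73.PsUFD

open IsLocalRing Groth.Agent.Lib.Seat73.ArtinSchreier

variable (k : Type u) [Field k]

theorem isRegularLocalRing_mvPowerSeries (n : ℕ) :
    IsRegularLocalRing (MvPowerSeries (Fin n) k) := by
  apply IsRegularLocalRing.of_spanFinrank_maximalIdeal_le
  refine le_trans ?_ (le_ringKrullDim_mvPowerSeries k n)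
  have hmax : maximalIdeal (MvPowerSeries (Fin n) k) =
      Ideal.span (Set.range (MvPowerSeries.X : Fin n → MvPowerSeries (Fin n) k)) := by
    apply le_antisymm (maximalIdeal_le_span_X k n)
    rw [Ideal.span_le]
    rintro _ ⟨i, rfl⟩
    exact X_mem_maximalIdeal k n i
  rw [hmax]
  have : Submodule.spanFinrank (Ideal.span
      (Set.range (MvPowerSeries.X : Fin n → MvPowerSeries (Fin n) k))) ≤ n := by
    calc _ ≤ (Set.range (MvPowerSeries.X : Fin n → MvPowerSeries (Fin n) k)).ncard :=
          Submodule.spanFinrank_span_le_ncard_of_finite (Set.finite_range _)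
      _ ≤ Nat.card (Fin n) := by
          rw [← Set.ncard_univ, ← Set.image_univ]
          exact Set.ncard_image_le Set.finite_univ
      _ = n := by simp
  exact_mod_cast this

theorem ufm_mvPowerSeries (n : ℕ) : UniqueFactorizationMonoid (MvPowerSeries (Fin n) k) := by
  haveI := isRegularLocalRing_mvPowerSeries k n
  haveI : IsDomain (MvPowerSeries (Fin n) k) := NoZeroDivisors.to_isDomain _
  exact Groth.Agent.Lib.Seat12.RegUFD.ufd_of_isRegularLocalRing _

end Groth.Agent.Lib.Seat73.PsUFD
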