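import Mathlib
import Groth.Agent.Lib.Seat71ArSingBasic
import Groth.Agent.Lib.Seat71JetPsi
import Groth.Agent.Lib.Helper19PowerSeries
import Groth.Agent.Lib.Seat73PsUFD

set_option autoImplicit false
universe u

namespace Groth.Agent.Lib.Seat71.SqLocal

open MvPowerSeries Groth.Agent.Lib.Seat71.ArSingBasic

variable {k : Type u} [Field k]

lemma mon00 : mon 0 0 = 0 := by
  ext t; fin_cases t <;> simp [mon]

lemma c00 (f : MvPowerSeries (Fin 2) k) : c f 0 0 = constantCoeff f := by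
  unfold c
  rw [mon00]
  rfl

lemma c00_mul (f g : MvPowerSeries (Fin 2) k) : c (f * g) 0 0 = c f 0 0 * c g 0 0 := by
  rw [c00, c00, c00, map_mul]

lemma isUnit_iff_c00 (f : MvPowerSeries (Fin 2) k) : IsUnit f ↔ c f 0 0 ≠ 0 := by
  rw [MvPowerSeries.isUnit_iff_constantCoeff, isUnit_iff_ne_zero, c00]

lemma c10_mul (f g : MvPowerSeries (Fin 2) k) :
    c (f * g) 1 0 = c f 0 0 * c g 1 0 + c f 1 0 * c g 0 0 := by
  classical
  unfold c
  have h10 : mon 1 0 = Finsupp.single (0 : Fin 2) 1 := by simp [mon]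
  rw [h10, mon00, MvPowerSeries.coeff_mul, Finsupp.antidiagonal_single]
  simp [Finset.Nat.antidiagonal_succ]

lemma c01_mul (f g : MvPowerSeries (Fin 2) k) :
    c (f * g) 0 1 = c f 0 0 * c g 0 1 + c f 0 1 * c g 0 0 := by
  classical
  unfold c
  have h01 : mon 0 1 = Finsupp.single (1 : Fin 2) 1 := by simp [mon]
  rw [h01, mon00, MvPowerSeries.coeff_mul, Finsupp.antidiagonal_single]
  simp [Finset.Nat.antidiagonal_succ]

lemma c_X0 (i j : ℕ) : c (X 0 : MvPowerSeries (Fin 2) k) i j = if i = 1 ∧ j = 0 then 1 else 0 := by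
  have := c_X0_pow_mul (k := k) 1 1 i j
  rw [pow_one, mul_one] at this
  rw [this]
  by_cases hi : 1 ≤ i
  · rw [if_pos hi]
    unfold c
    rw [MvPowerSeries.coeff_one]
    by_cases h : i = 1 ∧ j = 0
    · obtain ⟨rfl, rfl⟩ := h
      simp [mon00]
    · rw [if_neg h, if_neg]
      intro h0
      have h1 := congrArg (fun m => m 0) h0
      have h2 := congrArg (fun m => m 1) h0
      simp at h1 h2
      exact h ⟨by omega, h2⟩
  · rw [if_neg hi, if_neg]
    rintro ⟨rfl, _⟩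
    exact hi le_rfl

lemma c_X1 (i j : ℕ) : c (X 1 : MvPowerSeries (Fin 2) k) i j = if i = 0 ∧ j = 1 then 1 else 0 := by
  have := c_X1_pow_mul (k := k) 1 1 i j
  rw [pow_one, mul_one] at this
  rw [this]
  by_cases hj : 1 ≤ j
  · rw [if_pos hj]
    unfold c
    rw [MvPowerSeries.coeff_one]
    by_cases h : i = 0 ∧ j = 1
    · obtain ⟨rfl, rfl⟩ := h
      simp [mon00]
    · rw [if_neg h, if_neg]
      intro h0
      have h1 := congrArg (fun m => m 0) h0
      have h2 := congrArg (fun m => m 1) h0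
      simp at h1 h2
      exact h ⟨h1, by omega⟩
  · rw [if_neg hj, if_neg]
    rintro ⟨_, rfl⟩
    exact hj le_rfl

/-- A series without constant term is `x·p₁ + y·p₂`. -/
lemma exists_decomp (p : MvPowerSeries (Fin 2) k) (hp : c p 0 0 = 0) :
    ∃ p₁ p₂ : MvPowerSeries (Fin 2) k, p = X 0 * p₁ + X 1 * p₂ := by
  refine ⟨mk2 (fun i j => c p (i + 1) j), mk2 (fun i j => if i = 0 then c p 0 (j + 1) else 0), ?_⟩
  apply ext2
  intro i j
  have h0 := c_X0_pow_mul (k := k) 1 (mk2 (fun i j => c p (i + 1) j)) i j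
  have h1 := c_X1_pow_mul (k := k) 1 (mk2 (fun i j => if i = 0 then c p 0 (j + 1) else 0)) i j
  rw [pow_one] at h0 h1
  rw [c_add, h0, h1, c_mk2, c_mk2]
  by_cases hi : 1 ≤ i
  · rw [if_pos hi, Nat.sub_add_cancel hi]
    by_cases hj : 1 ≤ j
    · rw [if_pos hj, if_neg (by omega), add_zero]
    · rw [if_neg hj, add_zero]
  · rw [if_neg hi]
    have hi0 : i = 0 := by omega
    subst hi0
    by_cases hj : 1 ≤ j
    · rw [if_pos hj, if_pos rfl, Nat.sub_add_cancel hj, zero_add]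
    · have hj0 : j = 0 := by omega
      subst hj0
      rw [if_neg hj, hp, add_zero]

lemma X1_prime : Prime (X 1 : MvPowerSeries (Fin 2) k) := by
  rw [← MulEquiv.prime_iff (Groth.Agent.Lib.Seat71.JetPsi.Ψ (k := k)),
    Groth.Agent.Lib.Seat71.JetPsi.Ψ_X1]
  exact PowerSeries.X_prime

/-! ### An isomorphism-invariant package -/

/-- Properties of `k[[x,y]]/(y²)` expressed in terms invariant under ring isomorphisms. -/
structure Good (A : Type*) [CommRing A] : Prop where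
  g1 : ∀ a b : A, IsNilpotent (a * b) → IsNilpotent a ∨ IsNilpotent b
  g2 : ∀ a b : A, IsNilpotent a → IsNilpotent b → a * b = 0
  g3 : ∃ a : A, IsNilpotent a ∧ a ≠ 0
  g4 : ∃ z : A, ¬ IsUnit z ∧ ∀ a : A, ¬ IsUnit a → ∃ c ν : A, IsNilpotent ν ∧ a = c * z + ν

lemma Good.of_equiv {A B : Type*} [CommRing A] [CommRing B] (e : A ≃+* B) (h : Good A) : Good B := by
  have hnil : ∀ b : B, IsNilpotent b ↔ IsNilpotent (e.symm b) := fun b =>
    ⟨fun hb => hb.map e.symm, fun hb => by simpa using hb.map e⟩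
  have hunit : ∀ b : B, IsUnit b ↔ IsUnit (e.symm b) := fun b =>
    ⟨fun hb => hb.map e.symm, fun hb => by simpa using hb.map e⟩
  refine ⟨?_, ?_, ?_, ?_⟩
  · intro a b hab
    rw [hnil, map_mul] at hab
    rw [hnil a, hnil b]
    exact h.g1 _ _ hab
  · intro a b ha hb
    have := h.g2 _ _ ((hnil a).1 ha) ((hnil b).1 hb)
    rw [← map_mul] at this
    simpa using congrArg e this
  · obtain ⟨a, ha, ha0⟩ := h.g3
    refine ⟨e a, ha.map e, ?_⟩
    simpa using ha0
  · obtain ⟨z, hz, hz'⟩ := h.g4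
    refine ⟨e z, fun hu => hz (by simpa using hu.map e.symm), ?_⟩
    intro b hb
    obtain ⟨c', ν, hν, hb'⟩ := hz' (e.symm b) (fun hu => hb ((hunit b).2 hu))
    refine ⟨e c', e ν, hν.map e, ?_⟩
    rw [← map_mul, ← map_add, ← hb']
    simp

/-- Nilpotents of `k[[x,y]]/(y²)` are the multiples of `y`. -/
lemma isNilpotent_model_iff (p : MvPowerSeries (Fin 2) k) :
    IsNilpotent (Ideal.Quotient.mk (Ideal.span {(X 1 ^ 2 : MvPowerSeries (Fin 2) k)}) p) ↔
      (X 1 : MvPowerSeries (Fin 2) k) ∣ p := by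
  constructor
  · rintro ⟨n, hn⟩
    rw [← map_pow, Ideal.Quotient.eq_zero_iff_mem, Ideal.mem_span_singleton] at hn
    have : (X 1 : MvPowerSeries (Fin 2) k) ∣ p ^ n := dvd_trans (dvd_pow_self _ two_ne_zero) hn
    exact X1_prime.dvd_of_dvd_pow this
  · rintro ⟨w, rfl⟩
    refine ⟨2, ?_⟩
    rw [← map_pow, Ideal.Quotient.eq_zero_iff_mem, Ideal.mem_span_singleton, mul_pow]
    exact dvd_mul_right _ _

lemma not_isUnit_X1 : ¬ IsUnit (X 1 : MvPowerSeries (Fin 2) k) := X1_prime.not_isUnit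

lemma good_model : Good (MvPowerSeries (Fin 2) k ⧸ Ideal.span {(X 1 ^ 2 : MvPowerSeries (Fin 2) k)}) := by
  refine ⟨?_, ?_, ?_, ?_⟩
  · intro a b hab
    obtain ⟨p, rfl⟩ := Ideal.Quotient.mk_surjective a
    obtain ⟨q, rfl⟩ := Ideal.Quotient.mk_surjective b
    rw [← map_mul, isNilpotent_model_iff] at hab
    rw [isNilpotent_model_iff, isNilpotent_model_iff]
    exact X1_prime.dvd_or_dvd hab
  · intro a b ha hb
    obtain ⟨p, rfl⟩ := Ideal.Quotient.mk_surjective a
    obtain ⟨q, rfl⟩ := Ideal.Quotient.mk_surjective b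
    rw [isNilpotent_model_iff] at ha hb
    rw [← map_mul, Ideal.Quotient.eq_zero_iff_mem, Ideal.mem_span_singleton, pow_two]
    exact mul_dvd_mul ha hb
  · refine ⟨Ideal.Quotient.mk _ (X 1), (isNilpotent_model_iff _).2 dvd_rfl, ?_⟩
    rw [Ne, Ideal.Quotient.eq_zero_iff_mem, Ideal.mem_span_singleton]
    rintro ⟨w, hw⟩
    have h1 : (X 1 : MvPowerSeries (Fin 2) k) * 1 = X 1 * (X 1 * w) := by
      rw [mul_one, ← mul_assoc, ← pow_two]; exact hw
    have h2 := mul_left_cancel₀ X1_prime.ne_zero h1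
    exact not_isUnit_X1 (IsUnit.of_mul_eq_one _ h2.symm)
  · have hunit : ∀ p : MvPowerSeries (Fin 2) k,
        ¬ IsUnit (Ideal.Quotient.mk (Ideal.span {(X 1 ^ 2 : MvPowerSeries (Fin 2) k)}) p) →
          c p 0 0 = 0 := by
      intro p hp
      by_contra h0
      exact hp (((isUnit_iff_c00 p).2 h0).map _)
    refine ⟨Ideal.Quotient.mk _ (X 0), ?_, ?_⟩
    · intro hu
      obtain ⟨b, hb⟩ := hu.exists_right_inv
      obtain ⟨q, rfl⟩ := Ideal.Quotient.mk_surjective b
      rw [← map_mul, ← map_one (Ideal.Quotient.mk _), Ideal.Quotient.eq, Ideal.mem_span_singleton] at hb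
      obtain ⟨w, hw⟩ := hb
      have := congrArg (fun f => c f 0 0) hw
      simp only [c_sub, c00_mul, pow_two] at this
      rw [c_X0, c_X1] at this
      simp [c00] at this
    · intro a ha
      obtain ⟨p, rfl⟩ := Ideal.Quotient.mk_surjective a
      obtain ⟨p₁, p₂, hp⟩ := exists_decomp p (hunit p ha)
      refine ⟨Ideal.Quotient.mk _ p₁, Ideal.Quotient.mk _ (X 1 * p₂),
        (isNilpotent_model_iff _).2 (dvd_mul_right _ _), ?_⟩
      rw [← map_mul, ← map_add, hp, mul_comm p₁]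

/-! ### Structure of `F` when the quotient is `Good` -/

theorem structure_of_good (F : MvPowerSeries (Fin 2) k)
    (h : Good (MvPowerSeries (Fin 2) k ⧸ Ideal.span {F})) :
    ∃ G U : MvPowerSeries (Fin 2) k, Prime G ∧ IsUnit U ∧ F = U * G ^ 2 ∧
      (c G 1 0 ≠ 0 ∨ c G 0 1 ≠ 0) := by
  have := Groth.Agent.Lib.Seat73.PsUFD.ufm_mvPowerSeries k 2
  set mk := Ideal.Quotient.mk (Ideal.span {F}) with hmk
  have hmk0 : ∀ p, mk p = 0 ↔ F ∣ p := fun p => by
    rw [hmk, Ideal.Quotient.eq_zero_iff_mem, Ideal.mem_span_singleton]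
  -- `F ≠ 0`
  have hF0 : F ≠ 0 := by
    rintro rfl
    obtain ⟨a, ha, ha0⟩ := h.g3
    obtain ⟨p, rfl⟩ := Ideal.Quotient.mk_surjective a
    obtain ⟨n, hn⟩ := ha
    rw [← map_pow, hmk0, zero_dvd_iff] at hn
    exact ha0 (by rw [pow_eq_zero_iff'] at hn; rw [hn.1]; exact map_zero _)
  -- `F` is not a unit
  have hFu : ¬ IsUnit F := by
    intro hu
    obtain ⟨a, _, ha0⟩ := h.g3
    obtain ⟨p, rfl⟩ := Ideal.Quotient.mk_surjective a
    exact ha0 ((hmk0 p).2 (hu.dvd))
  have hFc : c F 0 0 = 0 := by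
    by_contra h0
    exact hFu ((isUnit_iff_c00 F).2 h0)
  -- nilpotents form the prime `np`
  obtain ⟨fs, hfs, hprod⟩ := UniqueFactorizationMonoid.exists_prime_factors F hF0
  have hnp1 : ¬ IsNilpotent (mk 1) := by
    rw [map_one]
    intro h1
    obtain ⟨a, _, ha0⟩ := h.g3
    have : (1 : MvPowerSeries (Fin 2) k ⧸ Ideal.span {F}) = 0 := by
      obtain ⟨n, hn⟩ := h1
      simpa using hn
    exact ha0 (by rw [← mul_one a, this, mul_zero])
  have hexists : ∀ s : Multiset (MvPowerSeries (Fin 2) k), IsNilpotent (mk s.prod) →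
      ∃ G ∈ s, IsNilpotent (mk G) := by
    intro s
    induction s using Multiset.induction_on with
    | empty =>
      intro h1
      rw [Multiset.prod_zero] at h1
      exact absurd h1 hnp1
    | cons a s ih =>
      intro h1
      rw [Multiset.prod_cons, map_mul] at h1
      rcases h.g1 _ _ h1 with h2 | h2
      · exact ⟨a, Multiset.mem_cons_self _ _, h2⟩
      · obtain ⟨G, hG, hG'⟩ := ih h2
        exact ⟨G, Multiset.mem_cons_of_mem hG, hG'⟩
  have hprodnil : IsNilpotent (mk fs.prod) := by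
    obtain ⟨u, hu⟩ := hprod
    have : mk fs.prod * mk (u : MvPowerSeries (Fin 2) k) = 0 := by
      rw [← map_mul, hu, hmk0]
    have hunit : IsUnit (mk (u : MvPowerSeries (Fin 2) k)) := u.isUnit.map mk
    rw [hunit.mul_left_eq_zero] at this
    rw [this]
    exact IsNilpotent.zero
  obtain ⟨G, hGfs, hGnil⟩ := hexists fs hprodnil
  have hGprime : Prime G := hfs G hGfs
  have hGF : G ∣ F := dvd_trans (Multiset.dvd_prod hGfs) hprod.dvd
  have hGc : c G 0 0 = 0 := by
    by_contra h0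
    exact hGprime.not_isUnit ((isUnit_iff_c00 G).2 h0)
  -- nilpotent iff divisible by `G`
  have hA : ∀ p, IsNilpotent (mk p) → G ∣ p := by
    intro p hp
    have := h.g2 _ _ hp hp
    rw [← map_mul, hmk0] at this
    have h2 : G ∣ p * p := dvd_trans hGF this
    rcases hGprime.dvd_or_dvd h2 with h3 | h3 <;> exact h3
  have hB : ∀ p, G ∣ p → IsNilpotent (mk p) := by
    rintro p ⟨w, rfl⟩
    rw [map_mul]
    exact Commute.isNilpotent_mul_right (Commute.all _ _) hGnil
  -- `F = U G²`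
  obtain ⟨A₁, hA₁⟩ := hGF
  have hGG : F ∣ G * G := by
    have := h.g2 _ _ hGnil hGnil
    rwa [← map_mul, hmk0] at this
  obtain ⟨B₁, hB₁⟩ := hGG
  have hGAB : G = A₁ * B₁ := by
    have : G * G = G * (A₁ * B₁) := by rw [hB₁, hA₁]; ring
    exact mul_left_cancel₀ hGprime.ne_zero this
  have hB₁u : IsUnit B₁ := by
    rcases hGprime.irreducible.isUnit_or_isUnit hGAB with hu | hu
    · exfalso
      obtain ⟨a, ha, ha0⟩ := h.g3
      obtain ⟨p, rfl⟩ := Ideal.Quotient.mk_surjective a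
      apply ha0
      rw [hmk0]
      obtain ⟨w, rfl⟩ := hA p ha
      rw [hA₁, mul_comm G A₁]
      obtain ⟨u, rfl⟩ := hu
      refine ⟨(↑u⁻¹ : MvPowerSeries (Fin 2) k) * w, ?_⟩
      have : (u : MvPowerSeries (Fin 2) k) * G * (↑u⁻¹ * w) =
          ((u : MvPowerSeries (Fin 2) k) * ↑u⁻¹) * (G * w) := by ring
      rw [this, Units.mul_inv, one_mul]
    · exact hu
  obtain ⟨u, rfl⟩ := hB₁u
  refine ⟨G, (↑u⁻¹ : MvPowerSeries (Fin 2) k), hGprime, Units.isUnit _, ?_, ?_⟩
  · rw [pow_two, hB₁, mul_comm F, ← mul_assoc, Units.inv_mul, one_mul]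
  · -- smoothness
    by_contra hlin
    push Not at hlin
    obtain ⟨hG10, hG01⟩ := hlin
    obtain ⟨z, hz, hz'⟩ := h.g4
    obtain ⟨z₀, rfl⟩ := Ideal.Quotient.mk_surjective z
    have hunit : ∀ p : MvPowerSeries (Fin 2) k, c p 0 0 = 0 → ¬ IsUnit (mk p) := by
      intro p hp hu
      obtain ⟨b, hb⟩ := hu.exists_right_inv
      obtain ⟨q, rfl⟩ := Ideal.Quotient.mk_surjective b
      rw [← map_mul, ← map_one mk, hmk, Ideal.Quotient.eq, Ideal.mem_span_singleton] at hb
      obtain ⟨w, hw⟩ := hb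
      have := congrArg (fun f => c f 0 0) hw
      simp only [c_sub, c00_mul, hp, hFc, zero_mul] at this
      simp [c00] at this
    have hz0 : c z₀ 0 0 = 0 := by
      by_contra h0
      exact hz (((isUnit_iff_c00 z₀).2 h0).map mk)
    -- representation of a non-unit `p` as `c₀ z₀ + G w`
    have hrep : ∀ p : MvPowerSeries (Fin 2) k, c p 0 0 = 0 →
        ∃ c₀ w : MvPowerSeries (Fin 2) k, p = c₀ * z₀ + G * w := by
      intro p hp
      obtain ⟨c', ν, hν, hpe⟩ := hz' (mk p) (hunit p hp)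
      obtain ⟨c₀, rfl⟩ := Ideal.Quotient.mk_surjective c'
      obtain ⟨n₀, rfl⟩ := Ideal.Quotient.mk_surjective ν
      obtain ⟨w₁, rfl⟩ := hA n₀ hν
      rw [← map_mul, ← map_add, hmk, Ideal.Quotient.eq, Ideal.mem_span_singleton] at hpe
      obtain ⟨w₂, hw₂⟩ := hpe
      refine ⟨c₀, w₁ + A₁ * w₂, ?_⟩
      have : p = c₀ * z₀ + G * w₁ + F * w₂ := by rw [← hw₂]; ring
      rw [this, hA₁]
      ring
    obtain ⟨c₀, w₀, h0⟩ := hrep (X 0) (by rw [c_X0]; simp)
    obtain ⟨c₁, w₁, h1⟩ := hrep (X 1) (by rw [c_X1]; simp)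
    have e1 := congrArg (fun f => c f 1 0) h0
    have e2 := congrArg (fun f => c f 0 1) h0
    have e3 := congrArg (fun f => c f 0 1) h1
    simp only [c_add, c10_mul, c01_mul, hGc, hG10, hG01, hz0, c_X0, c_X1] at e1 e2 e3
    simp at e1 e2 e3
    rcases e2 with e2 | e2
    · rw [e2] at e1
      simp at e1
    · rw [e2] at e3
      simp at e3

end Groth.Agent.Lib.Seat71.SqLocal
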