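import Mathlib
import Groth.Agent.Lib.Seat71JetPsi
import Groth.Agent.Lib.Seat71JetLin
import Groth.Agent.Lib.Seat71SqLocal

set_option autoImplicit false
universe u

namespace Groth.Agent.Lib.Seat71.SqConv

open Groth.Agent.Lib.Seat71.ArSingBasic Groth.Agent.Lib.Seat71.JetPsi Groth.Agent.Lib.Seat71.JetGen
  Groth.Agent.Lib.Seat71.JetLin Groth.Agent.Lib.Seat71.SqLocal

variable {k : Type u} [Field k]

open Polynomial in
/-- If `Γ` has no constant term and a non-zero `y`-coefficient, then `k[[x,y]]/(Γ²) ≅ k[[x,y]]/(y²)`. -/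
theorem quot_sq_equiv_of_c01 (Γ : MvPowerSeries (Fin 2) k) (h00 : c Γ 0 0 = 0) (h01 : c Γ 0 1 ≠ 0) :
    Nonempty ((MvPowerSeries (Fin 2) k ⧸ Ideal.span {Γ * Γ}) ≃ₐ[k]
      (MvPowerSeries (Fin 2) k ⧸ Ideal.span {(MvPowerSeries.X 1 ^ 2 : MvPowerSeries (Fin 2) k)})) := by
  have hord : ((Ψ Γ).map (IsLocalRing.residue (PowerSeries k))).order = 1 := by
    rw [show (1 : ℕ∞) = ((1 : ℕ) : ℕ∞) from rfl, PowerSeries.order_eq_nat]
    refine ⟨fun h => h01 ((coeff_map_residue Γ 1).1 h), fun i hi => ?_⟩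
    have hi0 : i = 0 := by omega
    subst hi0
    exact (coeff_map_residue Γ 0).2 h00
  have hg : (Ψ Γ).map (IsLocalRing.residue (PowerSeries k)) ≠ 0 := by
    intro h
    rw [h, PowerSeries.order_zero] at hord
    exact ENat.top_ne_one hord
  obtain ⟨f, h, H⟩ := PowerSeries.exists_isWeierstrassFactorization hg
  have hdeg : f.natDegree = 1 := by
    rw [H.natDegree_eq_toNat_order_map, hord]
    rfl
  have hmonic : f.Monic := H.isDistinguishedAt.monic
  set s := f.coeff 0 with hs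
  have hf : f = X + C s := by
    have := hmonic.as_sum
    rw [hdeg] at this
    simpa [Finset.sum_range_one, pow_one] using this
  -- step 1
  have e1 : (MvPowerSeries (Fin 2) k ⧸ Ideal.span {Γ * Γ}) ≃ₐ[k]
      (PowerSeries (PowerSeries k) ⧸ Ideal.span {Ψ Γ * Ψ Γ}) :=
    Ideal.quotientEquivAlg _ _ Ψ (by
      rw [Ideal.map_span, Set.image_singleton]
      congr 2
      exact (map_mul Ψ Γ Γ).symm)
  -- step 2
  obtain ⟨e2⟩ := quot_weierstrass (k := k) (H.mul H)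
  -- step 3
  obtain ⟨e3⟩ := quot_equiv_of_map (k := k) (algEquivAevalXAddC (-s)) (f * f)
    (X ^ 2 - C (0 : PowerSeries k)) 1 isUnit_one (by
      rw [algEquivAevalXAddC_apply, one_mul, hf]
      simp only [map_mul, map_add, aeval_X, aeval_C, map_neg, map_zero, sub_zero,
        Polynomial.algebraMap_eq]
      ring)
  -- step 4
  obtain ⟨e4⟩ := quot_sq_sub (k := k) (0 : PowerSeries k) (Ideal.zero_mem _)
  -- step 5
  have e5 : (MvPowerSeries (Fin 2) k ⧸
      Ideal.span {(MvPowerSeries.X 1 ^ 2 : MvPowerSeries (Fin 2) k)}) ≃ₐ[k]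
      (PowerSeries (PowerSeries k) ⧸
        Ideal.span {(PowerSeries.X ^ 2 - PowerSeries.C (0 : PowerSeries k) :
          PowerSeries (PowerSeries k))}) :=
    Ideal.quotientEquivAlg _ _ Ψ (by
      rw [Ideal.map_span, Set.image_singleton]
      congr 2
      show _ = Ψ (MvPowerSeries.X 1 ^ 2)
      rw [map_pow, Ψ_X1, map_zero, sub_zero])
  exact ⟨e1.trans (e2.trans (e3.trans (e4.trans e5.symm)))⟩

/-- If `Γ` has no constant term and a non-zero linear term, and `U` is a unit, then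
`k[[x,y]]/(Γ²U) ≅ k[[x,y]]/(y²)`. -/
theorem quot_equiv_of_smooth_sq (Γ U : MvPowerSeries (Fin 2) k) (h00 : c Γ 0 0 = 0)
    (hlin : c Γ 1 0 ≠ 0 ∨ c Γ 0 1 ≠ 0) (hU : IsUnit U) :
    Nonempty ((MvPowerSeries (Fin 2) k ⧸ Ideal.span {Γ ^ 2 * U}) ≃ₐ[k]
      (MvPowerSeries (Fin 2) k ⧸ Ideal.span {(MvPowerSeries.X 1 ^ 2 : MvPowerSeries (Fin 2) k)})) := by
  have hspan : Ideal.span {Γ ^ 2 * U} = Ideal.span {Γ * Γ} := by
    rw [Ideal.span_singleton_mul_right_unit hU, pow_two]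
  have e0 : (MvPowerSeries (Fin 2) k ⧸ Ideal.span {Γ ^ 2 * U}) ≃ₐ[k]
      (MvPowerSeries (Fin 2) k ⧸ Ideal.span {Γ * Γ}) := Ideal.quotientEquivAlgOfEq k hspan
  by_cases h01 : c Γ 0 1 ≠ 0
  · obtain ⟨e1⟩ := quot_sq_equiv_of_c01 Γ h00 h01
    exact ⟨e0.trans e1⟩
  · have h10 : c Γ 1 0 ≠ 0 := by
      rcases hlin with h | h
      · exact h
      · exact absurd h h01
    obtain ⟨e1⟩ := quot_equiv (k := k) swap (Γ * Γ)
    rw [map_mul] at e1
    obtain ⟨e2⟩ := quot_sq_equiv_of_c01 (swap Γ) (by rw [c_swap]; exact h00)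
      (by rw [c_swap]; exact h10)
    exact ⟨e0.trans (e1.trans e2)⟩

end Groth.Agent.Lib.Seat71.SqConv
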