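import Mathlib
import Groth.Agent.Lib.Seat71JetTaylor
import Groth.Agent.Lib.Seat71SqLocal

set_option autoImplicit false
universe u

namespace Groth.Agent.Lib.Seat71.SqPoly

open MvPolynomial Groth.Agent.Lib.Seat71.ArSingBasic Groth.Agent.Lib.Seat71.JetTaylor
  Groth.Agent.Lib.Seat71.SqLocal

variable {k : Type u} [Field k] (a : Fin 2 → k)

/-- Recentring at `a` followed by the inclusion into power series. -/
noncomputable def τ : MvPolynomial (Fin 2) k →+* MvPowerSeries (Fin 2) k :=
  (MvPolynomial.coeToMvPowerSeries.ringHom).comp (shift a).toRingHom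

lemma τ_apply (r : MvPolynomial (Fin 2) k) :
    τ a r = ((shift a r : MvPolynomial (Fin 2) k) : MvPowerSeries (Fin 2) k) := rfl

lemma τ_X (i : Fin 2) : τ a (X i) = MvPowerSeries.X i + MvPowerSeries.C (a i) := by
  rw [τ_apply, shift_X]
  simp

lemma τ_C (x : k) : τ a (C x) = MvPowerSeries.C x := by
  rw [τ_apply]
  simp [shift]

lemma c00_τ (r : MvPolynomial (Fin 2) k) : c (τ a r) 0 0 = eval a r := by
  unfold c
  rw [τ_apply, MvPolynomial.coeff_coe, mon00, coeff_zero_shift]

lemma c10_τ (r : MvPolynomial (Fin 2) k) : c (τ a r) 1 0 = eval a (pderiv 0 r) := by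
  unfold c
  have h10 : mon 1 0 = Finsupp.single (0 : Fin 2) 1 := by simp [mon]
  rw [τ_apply, MvPolynomial.coeff_coe, h10, coeff_single_shift]

lemma c01_τ (r : MvPolynomial (Fin 2) k) : c (τ a r) 0 1 = eval a (pderiv 1 r) := by
  unfold c
  have h01 : mon 0 1 = Finsupp.single (1 : Fin 2) 1 := by simp [mon]
  rw [τ_apply, MvPolynomial.coeff_coe, h01, coeff_single_shift]

lemma pderiv_τ (i : Fin 2) (r : MvPolynomial (Fin 2) k) :
    MvPowerSeries.pderiv k i (τ a r) = τ a (pderiv i r) := by
  rw [τ_apply, τ_apply, MvPowerSeries.pderiv_coe, pderiv_shift]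

lemma not_dvd_both (G : MvPowerSeries (Fin 2) k) (hGc : c G 0 0 = 0)
    (h0 : G ∣ MvPowerSeries.X 0) (h1 : G ∣ MvPowerSeries.X 1) : False := by
  obtain ⟨w₀, hw₀⟩ := h0
  obtain ⟨w₁, hw₁⟩ := h1
  have e1 := congrArg (fun f => c f 1 0) hw₀
  have e2 := congrArg (fun f => c f 0 1) hw₀
  have e3 := congrArg (fun f => c f 0 1) hw₁
  simp only [c10_mul, c01_mul, hGc, c_X0, c_X1] at e1 e2 e3
  simp at e1 e2 e3
  rcases e2 with e2 | e2
  · rw [e2] at e3
    simp at e3
  · rw [e2] at e1
    simp at e1

lemma ringKrullDim_mvPolynomial_two :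
    ringKrullDim (MvPolynomial (Fin 2) k) = 2 := by
  rw [MvPolynomial.ringKrullDim_of_isNoetherianRing, ringKrullDim_eq_zero_of_field]
  simp

variable [IsAlgClosed k]

/-- If the prime `G` (without constant term) divides the recentring of the irreducible polynomial `q`,
then `q` divides every polynomial whose recentring is divisible by `G`. -/
theorem dvd_of_dvd_τ (G : MvPowerSeries (Fin 2) k) (hG : Prime G) (hGc : c G 0 0 = 0)
    (q : MvPolynomial (Fin 2) k) (hq : Irreducible q) (hGq : G ∣ τ a q)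
    (r : MvPolynomial (Fin 2) k) (hGr : G ∣ τ a r) : q ∣ r := by
  by_contra hqr
  have hGprime : (Ideal.span {G}).IsPrime := (Ideal.span_singleton_prime hG.ne_zero).2 hG
  set 𝔮 : Ideal (MvPolynomial (Fin 2) k) := Ideal.comap (τ a) (Ideal.span {G}) with h𝔮
  have h𝔮prime : 𝔮.IsPrime := Ideal.comap_isPrime _ _
  have hmem : ∀ s, s ∈ 𝔮 ↔ G ∣ τ a s := fun s => by
    rw [h𝔮, Ideal.mem_comap, Ideal.mem_span_singleton]
  have hqprime : Prime q := UniqueFactorizationMonoid.irreducible_iff_prime.1 hq
  have hspanq : (Ideal.span {q}).IsPrime := (Ideal.span_singleton_prime hqprime.ne_zero).2 hqprime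
  have hbot : (⊥ : Ideal (MvPolynomial (Fin 2) k)).IsPrime := Ideal.isPrime_bot
  have h1 : (⊥ : Ideal (MvPolynomial (Fin 2) k)) < Ideal.span {q} := by
    rw [bot_lt_iff_ne_bot, Ne, Ideal.span_singleton_eq_bot]
    exact hqprime.ne_zero
  have h2 : Ideal.span {q} < 𝔮 := by
    refine lt_of_le_of_ne ?_ ?_
    · rw [Ideal.span_le, Set.singleton_subset_iff]
      exact (hmem q).2 hGq
    · intro heq
      have : r ∈ Ideal.span {q} := by rw [heq]; exact (hmem r).2 hGr
      exact hqr (Ideal.mem_span_singleton.1 this)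
  -- `𝔮` is maximal
  have hmax : 𝔮.IsMaximal := by
    obtain ⟨𝔐, h𝔐max, h𝔐le⟩ := Ideal.exists_le_maximal 𝔮 h𝔮prime.ne_top
    by_cases heq : 𝔮 = 𝔐
    · rw [heq]; exact h𝔐max
    · exfalso
      have h3 : 𝔮 < 𝔐 := lt_of_le_of_ne h𝔐le heq
      have h𝔐prime : 𝔐.IsPrime := h𝔐max.isPrime
      have e1 := Ideal.height_add_one_le_of_lt_of_isPrime h1
      have e2 := Ideal.height_add_one_le_of_lt_of_isPrime h2
      have e3 := Ideal.height_add_one_le_of_lt_of_isPrime h3
      have e4 : (𝔐.height : WithBot ℕ∞) ≤ 2 := by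
        rw [← ringKrullDim_mvPolynomial_two (k := k)]
        exact Ideal.height_le_ringKrullDim_of_isPrime
      have e5 : (3 : ℕ∞) ≤ 𝔐.height := by
        calc (3 : ℕ∞) = 0 + 1 + 1 + 1 := by norm_num
          _ ≤ (⊥ : Ideal (MvPolynomial (Fin 2) k)).height + 1 + 1 + 1 := by gcongr; exact bot_le
          _ ≤ (Ideal.span {q}).height + 1 + 1 := by gcongr
          _ ≤ 𝔮.height + 1 := by gcongr
          _ ≤ 𝔐.height := e3
      have e6 : ((3 : ℕ∞) : WithBot ℕ∞) ≤ ((2 : ℕ∞) : WithBot ℕ∞) :=
        le_trans (by exact_mod_cast e5) e4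
      rw [WithBot.coe_le_coe] at e6
      norm_num at e6
  obtain ⟨b, hb⟩ := MvPolynomial.eq_vanishingIdeal_singleton_of_isMaximal k hmax
  have hX : ∀ i : Fin 2, G ∣ MvPowerSeries.X i := by
    intro i
    have hmemi : (X i - C (b i) : MvPolynomial (Fin 2) k) ∈ 𝔮 := by
      rw [hb, MvPolynomial.mem_vanishingIdeal_singleton_iff]
      simp
    rw [hmem, map_sub, τ_X, τ_C] at hmemi
    by_cases hab : a i = b i
    · rw [hab] at hmemi
      simpa using hmemi
    · exfalso
      have hu : IsUnit (MvPowerSeries.X i + MvPowerSeries.C (a i) - MvPowerSeries.C (b i) :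
          MvPowerSeries (Fin 2) k) := by
        rw [isUnit_iff_c00, c00]
        simp [sub_eq_zero, hab]
      exact hG.not_isUnit (isUnit_of_dvd_unit hmemi hu)
  exact not_dvd_both G hGc (hX 0) (hX 1)

omit [IsAlgClosed k] in
lemma pderiv_eq_zero_of_dvd (q : MvPolynomial (Fin 2) k) (i : Fin 2) (h : q ∣ pderiv i q) :
    pderiv i q = 0 := by
  classical
  by_contra hne
  obtain ⟨w, hw⟩ := h
  have hq0 : q ≠ 0 := by
    rintro rfl
    exact hne (by simp)
  have hw0 : w ≠ 0 := by
    rintro rfl
    exact hne (by rw [hw, mul_zero])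
  have hdeg : degreeOf i (pderiv i q) = degreeOf i q + degreeOf i w := by
    rw [hw]
    exact MvPolynomial.degreeOf_mul_eq hq0 hw0
  have hlt : degreeOf i (pderiv i q) < degreeOf i q := by
    rw [MvPolynomial.degreeOf_eq_sup]
    have hne' : (pderiv i q).support.Nonempty := by
      rw [Finset.nonempty_iff_ne_empty, Ne, MvPolynomial.support_eq_empty]
      exact hne
    obtain ⟨m, hm, hsup⟩ := Finset.exists_mem_eq_sup _ hne' (fun m => m i)
    rw [hsup]
    rw [MvPolynomial.mem_support_iff, MvPolynomial.coeff_pderiv] at hm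
    have hm' : m + Finsupp.single i 1 ∈ q.support := by
      rw [MvPolynomial.mem_support_iff]
      exact left_ne_zero_of_mul hm
    have := MvPolynomial.monomial_le_degreeOf i hm'
    simp only [Finsupp.add_apply, Finsupp.single_eq_same] at this
    omega
  omega

/-- Over an algebraically closed field, a polynomial all of whose partial derivatives vanish is not
irreducible (it is a constant or a `p`-th power). -/
lemma not_irreducible_of_pderiv_eq_zero (q : MvPolynomial (Fin 2) k)
    (h : ∀ i, pderiv i q = 0) : ¬ Irreducible q := by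
  classical
  intro hq
  have hcoef : ∀ e ∈ q.support, ∀ i : Fin 2, ((e i : ℕ) : k) = 0 := by
    intro e he i
    by_cases hei : e i = 0
    · rw [hei]; simp
    · have h1 := congrArg (MvPolynomial.coeff (e - Finsupp.single i 1)) (h i)
      rw [MvPolynomial.coeff_pderiv, MvPolynomial.coeff_zero] at h1
      have h2 : e - Finsupp.single i 1 + Finsupp.single i 1 = e := by
        apply tsub_add_cancel_of_le
        rw [Finsupp.single_le_iff]
        omega
      rw [h2] at h1
      rw [MvPolynomial.mem_support_iff] at he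
      rcases mul_eq_zero.1 h1 with h3 | h3
      · exact absurd h3 he
      · have h4 : (((e - Finsupp.single i 1 : Fin 2 →₀ ℕ) i : ℕ) : k) + 1 = ((e i : ℕ) : k) := by
          rw [Finsupp.tsub_apply, Finsupp.single_eq_same]
          have : e i = (e i - 1) + 1 := by omega
          conv_rhs => rw [this]
          push_cast
          rfl
        rw [← h4]
        exact h3
  obtain ⟨ℓ, hℓ⟩ := CharP.exists k
  rcases CharP.char_is_prime_or_zero k ℓ with hprime | hzero
  · -- positive characteristic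
    have hℓpos : 0 < ℓ := hprime.pos
    have hdvd : ∀ e ∈ q.support, ∀ i : Fin 2, ℓ ∣ e i := fun e he i =>
      (CharP.cast_eq_zero_iff k ℓ (e i)).1 (hcoef e he i)
    let root : k → k := fun x => Classical.choose (IsAlgClosed.exists_pow_nat_eq x hℓpos)
    have hroot : ∀ x, root x ^ ℓ = x := fun x =>
      Classical.choose_spec (IsAlgClosed.exists_pow_nat_eq x hℓpos)
    let r : MvPolynomial (Fin 2) k :=
      ∑ e ∈ q.support, monomial (e.mapRange (· / ℓ) (by simp)) (root (coeff e q))
    have hr : r ^ ℓ = q := by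
      have : Fact ℓ.Prime := ⟨hprime⟩
      show (∑ e ∈ q.support, monomial (e.mapRange (· / ℓ) (by simp)) (root (coeff e q))) ^ ℓ = q
      rw [sum_pow_char]
      conv_rhs => rw [← MvPolynomial.support_sum_monomial_coeff q]
      refine Finset.sum_congr rfl fun e he => ?_
      rw [MvPolynomial.monomial_pow, hroot]
      have hexp : ℓ • (e.mapRange (· / ℓ) (by simp) : Fin 2 →₀ ℕ) = e := by
        ext i
        rw [Finsupp.smul_apply, Finsupp.mapRange_apply, smul_eq_mul]
        exact Nat.mul_div_cancel' (hdvd e he i)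
      rw [hexp]
    have hℓ2 : 2 ≤ ℓ := hprime.two_le
    have hq' : q = r * r ^ (ℓ - 1) := by
      rw [← pow_succ', Nat.sub_add_cancel (by omega), hr]
    rcases hq.isUnit_or_isUnit hq' with hu | hu
    · exact hq.not_isUnit (by rw [← hr]; exact hu.pow ℓ)
    · have : IsUnit r := (isUnit_pow_iff (by omega)).1 hu
      exact hq.not_isUnit (by rw [← hr]; exact this.pow ℓ)
  · -- characteristic zero
    subst hzero
    have : CharZero k := CharP.charP_to_charZero k
    have hsupp : ∀ e ∈ q.support, e = 0 := by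
      intro e he
      ext i
      have := hcoef e he i
      simpa using this
    have hqC : q = C (coeff 0 q) := by
      ext e
      rw [MvPolynomial.coeff_C]
      by_cases he : 0 = e
      · rw [if_pos he, he]
      · rw [if_neg he]
        by_contra hne
        exact he (hsupp e (MvPolynomial.mem_support_iff.2 hne)).symm
    by_cases hc : coeff 0 q = 0
    · rw [hc, map_zero] at hqC
      exact hq.ne_zero hqC
    · exact hq.not_isUnit (by rw [hqC]; exact (isUnit_iff_ne_zero.2 hc).map C)

/-- The polynomial statement: if the recentring of `f` is `U·G²` with `G` a smooth prime, then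
`f = g²h` with `h(a) ≠ 0`, `g(a) = 0` and `g` smooth at `a`. -/
theorem exists_factor (f : MvPolynomial (Fin 2) k) (G U : MvPowerSeries (Fin 2) k) (hG : Prime G)
    (hGlin : c G 1 0 ≠ 0 ∨ c G 0 1 ≠ 0) (hU : IsUnit U) (hf : τ a f = U * G ^ 2) :
    ∃ g h : MvPolynomial (Fin 2) k, f = g ^ 2 * h ∧ eval a h ≠ 0 ∧ eval a g = 0 ∧
      ∃ i : Fin 2, eval a (pderiv i g) ≠ 0 := by
  have hufd := Groth.Agent.Lib.Seat73.PsUFD.ufm_mvPowerSeries k 2
  have hGc : c G 0 0 = 0 := by
    by_contra h0
    exact hG.not_isUnit ((isUnit_iff_c00 G).2 h0)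
  have hτf0 : τ a f ≠ 0 := by
    rw [hf]
    exact mul_ne_zero hU.ne_zero (pow_ne_zero _ hG.ne_zero)
  have hf0 : f ≠ 0 := by
    rintro rfl
    exact hτf0 (map_zero _)
  have hGf : G ∣ τ a f := by
    rw [hf]
    exact dvd_mul_of_dvd_right (dvd_pow_self _ two_ne_zero) _
  -- an irreducible factor `q` of `f` with `G ∣ τ q`
  obtain ⟨fs, hfs, hprod⟩ := UniqueFactorizationMonoid.exists_prime_factors f hf0
  have hexists : ∀ s : Multiset (MvPolynomial (Fin 2) k), G ∣ τ a s.prod → ∃ q ∈ s, G ∣ τ a q := by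
    intro s
    induction s using Multiset.induction_on with
    | empty =>
      intro h1
      rw [Multiset.prod_zero, map_one] at h1
      exact absurd (isUnit_of_dvd_one h1) hG.not_isUnit
    | cons b s ih =>
      intro h1
      rw [Multiset.prod_cons, map_mul] at h1
      rcases hG.dvd_or_dvd h1 with h2 | h2
      · exact ⟨b, Multiset.mem_cons_self _ _, h2⟩
      · obtain ⟨q, hq, hq'⟩ := ih h2
        exact ⟨q, Multiset.mem_cons_of_mem hq, hq'⟩
  have hGprod : G ∣ τ a fs.prod := by
    obtain ⟨u, hu⟩ := hprod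
    rw [← hu, map_mul] at hGf
    rcases hG.dvd_or_dvd hGf with h2 | h2
    · exact h2
    · exact absurd (isUnit_of_dvd_unit h2 (u.isUnit.map (τ a))) hG.not_isUnit
  obtain ⟨q, hqfs, hGq⟩ := hexists fs hGprod
  have hqprime : Prime q := hfs q hqfs
  have hq : Irreducible q := hqprime.irreducible
  have key := dvd_of_dvd_τ a G hG hGc q hq hGq
  obtain ⟨e, h, hqh, hfe⟩ := WfDvdMonoid.max_power_factor hf0 hq
  have hGh : ¬ G ∣ τ a h := fun hh => hqh (key h hh)
  have he1 : 1 ≤ e := by
    by_contra he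
    have he0 : e = 0 := by omega
    subst he0
    rw [pow_zero, one_mul] at hfe
    rw [hfe] at hGf
    exact hGh hGf
  have hQ0 : τ a q ≠ 0 := by
    intro h0
    apply hτf0
    rw [hfe, map_mul, map_pow, h0, zero_pow (by omega), zero_mul]
  obtain ⟨m, Q', hGQ', hQm⟩ := WfDvdMonoid.max_power_factor' hQ0 hG.not_isUnit
  have hm1 : 1 ≤ m := by
    by_contra hm
    have hm0 : m = 0 := by omega
    subst hm0
    rw [pow_zero, one_mul] at hQm
    rw [hQm] at hGq
    exact hGQ' hGq
  set H := τ a h with hH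
  set W := Q' ^ e * H with hW
  have hGW : ¬ G ∣ W := by
    intro hd
    rcases hG.dvd_or_dvd hd with h2 | h2
    · exact hGQ' (hG.dvd_of_dvd_pow h2)
    · exact hGh h2
  have heq : U * G ^ 2 = G ^ (m * e) * W := by
    rw [← hf, hfe, map_mul, map_pow, hQm, mul_pow, ← pow_mul, hW, hH]
    ring
  have hN : m * e = 2 := by
    rcases lt_trichotomy (m * e) 2 with hlt | heq2 | hgt
    · exfalso
      have hme : m * e = 1 := by
        have : 1 ≤ m * e := Nat.mul_pos hm1 he1
        omega
      rw [hme, pow_one, pow_two, ← mul_assoc] at heq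
      have h3 : U * G = W := by
        have : G * (U * G) = G * W := by rw [← heq]; ring
        exact mul_left_cancel₀ hG.ne_zero this
      exact hGW ⟨U, by rw [← h3, mul_comm]⟩
    · exact heq2
    · exfalso
      obtain ⟨j, hj⟩ : ∃ j, m * e = 2 + (j + 1) := ⟨m * e - 3, by omega⟩
      rw [hj, pow_add, mul_assoc] at heq
      have h3 : U = G ^ (j + 1) * W := by
        have : G ^ 2 * U = G ^ 2 * (G ^ (j + 1) * W) := by rw [← heq]; ring
        exact mul_left_cancel₀ (pow_ne_zero _ hG.ne_zero) this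
      have h4 : G ∣ U := by
        rw [h3, pow_succ', mul_assoc]
        exact dvd_mul_right _ _
      exact hG.not_isUnit (isUnit_of_dvd_unit h4 hU)
  have hUW : U = W := by
    rw [hN] at heq
    have : G ^ 2 * U = G ^ 2 * W := by rw [← heq]; ring
    exact mul_left_cancel₀ (pow_ne_zero _ hG.ne_zero) this
  have hWu : IsUnit W := hUW ▸ hU
  have hHu : IsUnit H := isUnit_of_mul_isUnit_right hWu
  have hQ'u : IsUnit Q' := by
    have : IsUnit (Q' ^ e) := isUnit_of_mul_isUnit_left hWu
    exact (isUnit_pow_iff (by omega)).1 this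
  have hcases : (m = 1 ∧ e = 2) ∨ (m = 2 ∧ e = 1) := by
    have hm2 : m ≤ 2 := Nat.le_of_dvd (by norm_num) ⟨e, hN.symm⟩
    interval_cases m
    · left; exact ⟨rfl, by omega⟩
    · right; exact ⟨rfl, by omega⟩
  rcases hcases with ⟨rfl, rfl⟩ | ⟨rfl, rfl⟩
  · -- the good case
    rw [pow_one] at hQm
    refine ⟨q, h, hfe, ?_, ?_, ?_⟩
    · rw [← c00_τ]
      exact (isUnit_iff_c00 H).1 hHu
    · rw [← c00_τ, hQm, c00_mul, hGc, zero_mul]
    · have hQ'0 : c Q' 0 0 ≠ 0 := (isUnit_iff_c00 Q').1 hQ'u
      rcases hGlin with h10 | h01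
      · refine ⟨0, ?_⟩
        rw [← c10_τ, hQm, c10_mul, hGc, zero_mul, zero_add]
        exact mul_ne_zero h10 hQ'0
      · refine ⟨1, ?_⟩
        rw [← c01_τ, hQm, c01_mul, hGc, zero_mul, zero_add]
        exact mul_ne_zero h01 hQ'0
  · -- the non-reduced case is impossible
    exfalso
    have hpd : ∀ i : Fin 2, pderiv i q = 0 := by
      intro i
      apply pderiv_eq_zero_of_dvd
      apply key
      rw [← pderiv_τ, hQm, Derivation.leibniz, Derivation.leibniz_pow]
      refine dvd_add ?_ ?_
      · rw [smul_eq_mul, pow_two, mul_assoc]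
        exact dvd_mul_right _ _
      · rw [smul_eq_mul, smul_eq_mul, nsmul_eq_mul, pow_one]
        refine dvd_mul_of_dvd_right ?_ _
        refine dvd_mul_of_dvd_right ?_ _
        exact dvd_mul_right _ _
    exact not_irreducible_of_pderiv_eq_zero q hpd hq

end Groth.Agent.Lib.Seat71.SqPoly
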