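import Groth.Agent.Lib.Seat71CSubst
import Groth.Agent.Lib.Seat71ChainRule

/-!
# Translations `x ↦ x + c` of power series over an adically complete ring (seat 71)

For `A` `I`-adically complete and `c ∈ I^σ` (`σ` finite): `trans I c hc : A[[σ]] →ₐ[A] A[[σ]]`,
`F(x) ↦ F(x + c)`, with `trans_trans`, `trans_zero`, `transEquiv`, the chain rule `pderiv_trans`,
`map_trans_one` (`F(x + c) ≡ F(x)` mod `I`), and evaluation `evC I c hc F = C (F(c))` with
`evC_eq : evC I c hc F = C (constantCoeff (trans I c hc F))`.
-/

set_option autoImplicit false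
universe u

namespace Groth.Agent.Lib.Seat71.Translate

open MvPowerSeries Groth.Agent.Lib.Seat71.CSubst Groth.Agent.Lib.Seat71.ChainRule

variable {A : Type u} [CommRing A] (I : Ideal A) [IsAdicComplete I A]
variable {σ τ : Type*} [Finite σ]

lemma csubst_congr {a a' : σ → MvPowerSeries τ A} (h : a = a')
    (ha : ∀ s, constantCoeff (a s) ∈ I) (ha' : ∀ s, constantCoeff (a' s) ∈ I) :
    csubst I a ha = csubst I a' ha' := by
  subst h
  rfl

/-- Substituting zero. -/
lemma csubst_zero (h0 : ∀ _ : σ, constantCoeff (0 : MvPowerSeries τ A) ∈ I)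
    (F : MvPowerSeries σ A) :
    csubst I (fun _ : σ => (0 : MvPowerSeries τ A)) h0 F = C (constantCoeff F) := by
  rw [csubst_eq_subst I _ h0 HasSubst.zero]
  exact subst_zero_eq_C_constantCoeff

/-- Evaluation at a point `c ∈ I^σ`, as a constant power series. -/
noncomputable def evC (c : σ → A) (hc : ∀ s, c s ∈ I) : MvPowerSeries σ A →ₐ[A] MvPowerSeries τ A :=
  csubst I (fun s => C (c s)) (fun s => by rw [constantCoeff_C]; exact hc s)

/-- Translation by a point `c ∈ I^σ`. -/
noncomputable def trans (c : σ → A) (hc : ∀ s, c s ∈ I) : MvPowerSeries σ A →ₐ[A] MvPowerSeries σ A :=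
  csubst I (fun s => X s + C (c s))
    (fun s => by rw [map_add, constantCoeff_X, zero_add, constantCoeff_C]; exact hc s)

lemma trans_X (c : σ → A) (hc : ∀ s, c s ∈ I) (s : σ) : trans I c hc (X s) = X s + C (c s) :=
  csubst_X _ _ _ _

lemma trans_C (c : σ → A) (hc : ∀ s, c s ∈ I) (r : A) : trans I c hc (C r) = C r :=
  csubst_C _ _ _ _

lemma evC_X (c : σ → A) (hc : ∀ s, c s ∈ I) (s : σ) :
    evC I c hc (X s) = (C (c s) : MvPowerSeries τ A) :=
  csubst_X _ _ _ _

lemma evC_C (c : σ → A) (hc : ∀ s, c s ∈ I) (r : A) :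
    evC I c hc (C r) = (C r : MvPowerSeries τ A) :=
  csubst_C _ _ _ _

/-- Evaluation at `c` is the constant coefficient of the translate. -/
lemma evC_eq (c : σ → A) (hc : ∀ s, c s ∈ I) (F : MvPowerSeries σ A) :
    evC I c hc F = (C (constantCoeff (trans I c hc F)) : MvPowerSeries τ A) := by
  have h0 : ∀ _ : σ, constantCoeff (0 : MvPowerSeries τ A) ∈ I := fun _ => by
    rw [map_zero]; exact I.zero_mem
  rw [← csubst_zero I h0 (trans I c hc F), trans, csubst_comp]
  unfold evC
  refine congrFun (congrArg DFunLike.coe (csubst_congr I ?_ _ _)) F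
  funext s
  rw [map_add, csubst_X, csubst_C, zero_add]

lemma map_trans (c : σ → A) (hc : ∀ s, c s ∈ I) (F : MvPowerSeries σ A) (N : ℕ) :
    map (red I N) (trans I c hc F) =
      subst (fun s => (X s + C (red I N (c s)) : MvPowerSeries σ (A ⧸ I ^ N)))
        (map (red I N) F) := by
  unfold trans
  rw [map_csubst]
  simp only [map_add, map_X, map_C]

omit [IsAdicComplete I A] in
lemma hasSubst_translate (c : σ → A) (hc : ∀ s, c s ∈ I) (N : ℕ) :
    HasSubst (fun s => (X s + C (red I N (c s)) : MvPowerSeries σ (A ⧸ I ^ N))) := by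
  have := hasSubst_red I (a := fun s => (X s + C (c s) : MvPowerSeries σ A))
    (fun s => by rw [map_add, constantCoeff_X, zero_add, constantCoeff_C]; exact hc s) N
  simpa only [map_add, map_X, map_C] using this

/-- Translation commutes with partial derivatives. -/
theorem pderiv_trans [Fintype σ] (c : σ → A) (hc : ∀ s, c s ∈ I) (t : σ) (F : MvPowerSeries σ A) :
    pderiv A t (trans I c hc F) = trans I c hc (pderiv A t F) := by
  apply ext_red I
  intro N
  rw [map_pderiv, map_trans, map_trans, map_pderiv,
    pderiv_subst_translate _ (hasSubst_translate I c hc N)]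

/-- Translation by a point of `I` does not change the series modulo `I`. -/
lemma map_trans_one (c : σ → A) (hc : ∀ s, c s ∈ I) (F : MvPowerSeries σ A) :
    map (red I 1) (trans I c hc F) = map (red I 1) F := by
  rw [map_trans]
  have : (fun s => (X s + C (red I 1 (c s)) : MvPowerSeries σ (A ⧸ I ^ 1))) = X := by
    funext s
    have : red I 1 (c s) = 0 := by
      rw [Ideal.Quotient.eq_zero_iff_mem, pow_one]
      exact hc s
    rw [this, map_zero, add_zero]
  rw [this, subst_self]
  rfl

/-- Composition of translations. -/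
lemma trans_trans (c d : σ → A) (hc : ∀ s, c s ∈ I) (hd : ∀ s, d s ∈ I) (F : MvPowerSeries σ A) :
    trans I d hd (trans I c hc F) = trans I (fun s => c s + d s) (fun s => I.add_mem (hc s) (hd s)) F := by
  unfold trans
  rw [csubst_comp]
  refine congrFun (congrArg DFunLike.coe (csubst_congr I ?_ _ _)) F
  funext s
  rw [map_add, csubst_X, csubst_C, map_add]
  ring

lemma trans_zero (h0 : ∀ _ : σ, (0 : A) ∈ I) (F : MvPowerSeries σ A) :
    trans I (fun _ : σ => (0 : A)) h0 F = F := by
  unfold trans
  have hX : HasSubst (fun s : σ => (X s + C (0 : A) : MvPowerSeries σ A)) := by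
    simp only [map_zero, add_zero]
    exact HasSubst.X
  rw [csubst_eq_subst I _ _ hX]
  simp only [map_zero, add_zero]
  rw [subst_self]
  rfl

lemma trans_congr {c c' : σ → A} (h : c = c') (hc : ∀ s, c s ∈ I) (hc' : ∀ s, c' s ∈ I)
    (F : MvPowerSeries σ A) : trans I c hc F = trans I c' hc' F := by
  subst h
  rfl

/-- Translation as an automorphism. -/
noncomputable def transEquiv (c : σ → A) (hc : ∀ s, c s ∈ I) :
    MvPowerSeries σ A ≃ₐ[A] MvPowerSeries σ A :=
  AlgEquiv.ofAlgHom (trans I c hc) (trans I (fun s => -c s) (fun s => I.neg_mem (hc s)))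
    (by
      ext F : 1
      rw [AlgHom.comp_apply, trans_trans, AlgHom.id_apply]
      have : (fun s => -c s + c s) = fun _ : σ => (0 : A) := by funext s; ring
      rw [trans_congr I this _ (fun _ => I.zero_mem), trans_zero])
    (by
      ext F : 1
      rw [AlgHom.comp_apply, trans_trans, AlgHom.id_apply]
      have : (fun s => c s + -c s) = fun _ : σ => (0 : A) := by funext s; ring
      rw [trans_congr I this _ (fun _ => I.zero_mem), trans_zero])

lemma transEquiv_apply (c : σ → A) (hc : ∀ s, c s ∈ I) (F : MvPowerSeries σ A) :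
    transEquiv I c hc F = trans I c hc F := rfl

end Groth.Agent.Lib.Seat71.Translate
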