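import Mathlib

/-!
# Composite valuations: étaleness of `A → B` from étaleness at a prime and modulo it

`A` a valuation ring, `B` a local domain over `A` (torsion free), `P` a prime of `B`, `p = P ∩ A`,
such that every `b ∉ P` divides (in `B`) an element of `A \ p`.  If `A_p → B_P` and `A/p → B/P`
are étale then `A → B` is étale (`etale_of_localization_of_quotient`).  No finiteness assumption
on spectra is needed.  Key trick: `p = s·p` for every `s ∈ A \ p`.
-/

set_option linter.style.haveILetI false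
set_option linter.unusedSectionVars false

namespace Groth.Agent.Lib.Seat71.ValEtale

universe u

section DvdTrick
variable {A : Type*} [CommRing A] [IsDomain A] [ValuationRing A]

theorem exists_eq_mul_of_mem_of_notMem (p : Ideal A) [p.IsPrime] {x s : A} (hx : x ∈ p)
    (hs : s ∉ p) : ∃ y ∈ p, x = s * y := by
  rcases ValuationRing.dvd_total x s with h | h
  · exfalso
    obtain ⟨c, rfl⟩ := h
    exact hs (p.mul_mem_right _ hx)
  · obtain ⟨y, rfl⟩ := h
    exact ⟨y, (Ideal.IsPrime.mem_or_mem ‹_› hx).resolve_left hs, rfl⟩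

/-- every element of `pA[X]` lying in the kernel is `p₀ * g'` with `g'` in the kernel. -/
theorem exists_eq_C_mul_of_mem_map_C {σ : Type*} (p : Ideal A)
    (g : MvPolynomial σ A) (hg : g ∈ Ideal.map (MvPolynomial.C : A →+* MvPolynomial σ A) p) :
    ∃ p₀ ∈ p, ∃ g' : MvPolynomial σ A, g = MvPolynomial.C p₀ * g' := by
  classical
  rw [MvPolynomial.mem_map_C_iff] at hg
  have hfg : (Ideal.span ((g.support.image fun m => g.coeff m : Finset A) : Set A)).FG :=
    ⟨_, rfl⟩
  have hpr : (Ideal.span ((g.support.image fun m => g.coeff m : Finset A) : Set A)).IsPrincipal :=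
    IsBezout.isPrincipal_of_FG _ hfg
  obtain ⟨p₀, hp₀⟩ := hpr
  have hp₀mem : p₀ ∈ p := by
    have : p₀ ∈ Ideal.span ((g.support.image fun m => g.coeff m : Finset A) : Set A) := by
      rw [hp₀]; exact Submodule.mem_span_singleton_self p₀
    refine (Ideal.span_le.2 ?_) this
    intro a ha
    simp only [Finset.coe_image, Set.mem_image, Finset.mem_coe] at ha
    obtain ⟨m, _, rfl⟩ := ha
    exact hg m
  have hdiv : ∀ m, ∃ c, g.coeff m = p₀ * c := by
    intro m
    by_cases hm : m ∈ g.support
    · have : g.coeff m ∈ Ideal.span ((g.support.image fun m => g.coeff m : Finset A) : Set A) :=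
        Ideal.subset_span (by simpa using ⟨m, by simpa using hm, rfl⟩)
      rw [hp₀] at this
      obtain ⟨c, hc⟩ := Ideal.mem_span_singleton'.1 this
      exact ⟨c, by rw [← hc, mul_comm]⟩
    · exact ⟨0, by simpa using hm⟩
  choose c hc using hdiv
  refine ⟨p₀, hp₀mem, ∑ m ∈ g.support, MvPolynomial.monomial m (c m), ?_⟩
  ext m
  rw [MvPolynomial.coeff_C_mul, MvPolynomial.coeff_sum]
  simp only [MvPolynomial.coeff_monomial]
  rw [Finset.sum_ite_eq']
  split_ifs with hm
  · exact hc m
  · simpa using hm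

end DvdTrick


section Main

variable {A B : Type u} [CommRing A] [CommRing B] [Algebra A B] (P : Ideal B)

/-- `map p ≤ a • map p` for `a ∉ p`. -/
theorem exists_eq_mul_of_mem_map [IsDomain A] [ValuationRing A] (p : Ideal A) [p.IsPrime] {a : A} (ha : a ∉ p) {y : B}
    (hy : y ∈ Ideal.map (algebraMap A B) p) :
    ∃ z ∈ Ideal.map (algebraMap A B) p, y = algebraMap A B a * z := by
  rw [Ideal.map] at hy
  induction hy using Submodule.span_induction with
  | mem y h =>
    obtain ⟨x, hx, rfl⟩ := h
    rcases ValuationRing.dvd_total x a with h | h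
    · exfalso
      obtain ⟨c, rfl⟩ := h
      exact ha (p.mul_mem_right _ hx)
    · obtain ⟨q, rfl⟩ := h
      refine ⟨algebraMap A B q, Ideal.mem_map_of_mem _
        ((Ideal.IsPrime.mem_or_mem ‹_› hx).resolve_left ha), by rw [map_mul]⟩
  | zero => exact ⟨0, Ideal.zero_mem _, by simp⟩
  | add y₁ y₂ _ _ h₁ h₂ =>
    obtain ⟨z₁, hz₁, rfl⟩ := h₁
    obtain ⟨z₂, hz₂, rfl⟩ := h₂
    exact ⟨z₁ + z₂, Ideal.add_mem _ hz₁ hz₂, by ring⟩
  | smul b y _ h =>
    obtain ⟨z, hz, rfl⟩ := h
    exact ⟨b * z, Ideal.mul_mem_left _ _ hz, by simp only [smul_eq_mul]; ring⟩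

theorem eq_map_comap [IsDomain A] [ValuationRing A] [IsDomain B] [P.IsPrime]
    (hV : ∀ b : B, b ∉ P → ∃ c : B, ∃ a : A, algebraMap A B a ∉ P ∧ b * c = algebraMap A B a)
    (hA : (Localization.localRingHom (P.comap (algebraMap A B)) P (algebraMap A B) rfl).Etale) :
    P = Ideal.map (algebraMap A B) (P.comap (algebraMap A B)) := by
  set p := P.comap (algebraMap A B) with hp
  refine le_antisymm ?_ (Ideal.map_comap_le)
  intro x hx
  letI : Algebra (Localization.AtPrime p) (Localization.AtPrime P) :=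
    (Localization.localRingHom p P (algebraMap A B) rfl).toAlgebra
  have hEt : Algebra.Etale (Localization.AtPrime p) (Localization.AtPrime P) := hA
  haveI : IsLocalHom (algebraMap (Localization.AtPrime p) (Localization.AtPrime P)) :=
    Localization.isLocalHom_localRingHom _ _ _ _
  have hmax := Algebra.FormallyUnramified.map_maximalIdeal
    (R := Localization.AtPrime p) (S := Localization.AtPrime P)
  have h1 : algebraMap B (Localization.AtPrime P) x ∈
      IsLocalRing.maximalIdeal (Localization.AtPrime P) := by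
    rw [← Localization.AtPrime.map_eq_maximalIdeal]
    exact Ideal.mem_map_of_mem _ hx
  rw [← hmax, ← Localization.AtPrime.map_eq_maximalIdeal, Ideal.map_map] at h1
  have h2 : (algebraMap (Localization.AtPrime p) (Localization.AtPrime P)).comp
      (algebraMap A (Localization.AtPrime p)) =
      (algebraMap B (Localization.AtPrime P)).comp (algebraMap A B) := by
    ext a
    exact Localization.localRingHom_to_map p P (algebraMap A B) rfl a
  rw [h2, ← Ideal.map_map] at h1
  rw [IsLocalization.algebraMap_mem_map_algebraMap_iff P.primeCompl] at h1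
  obtain ⟨s, hs, hsx⟩ := h1
  obtain ⟨c, a, haP, hsc⟩ := hV s hs
  have hap : a ∉ p := haP
  have h3 : algebraMap A B a * x ∈ Ideal.map (algebraMap A B) p := by
    rw [← hsc, mul_comm s c, mul_assoc]
    exact Ideal.mul_mem_left _ _ hsx
  obtain ⟨z, hz, hxz⟩ := exists_eq_mul_of_mem_map p hap h3
  have hne : algebraMap A B a ≠ 0 := fun h => haP (h ▸ P.zero_mem)
  rw [mul_right_inj' hne] at hxz
  exact hxz ▸ hz

open TensorProduct in
theorem formallyUnramified_of_quotient [IsLocalRing B] [P.IsPrime] [Algebra.FiniteType A B]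
    (hP : P = Ideal.map (algebraMap A B) (P.comap (algebraMap A B)))
    (hU : Algebra.FormallyUnramified A (B ⧸ P)) : Algebra.FormallyUnramified A B := by
  constructor
  have hD : ∀ x ∈ P, KaehlerDifferential.D A B x ∈ P • (⊤ : Submodule B (Ω[B⁄A])) := by
    intro x hx
    rw [hP, Ideal.map] at hx
    induction hx using Submodule.span_induction with
    | mem y h =>
      obtain ⟨a, ha, rfl⟩ := h
      simp
    | zero => simp
    | add y₁ y₂ _ _ h₁ h₂ => rw [map_add]; exact Submodule.add_mem _ h₁ h₂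
    | smul b y hy h =>
      rw [smul_eq_mul, Derivation.leibniz]
      refine Submodule.add_mem _ (Submodule.smul_mem _ _ h) ?_
      refine Submodule.smul_mem_smul ?_ Submodule.mem_top
      rw [hP, Ideal.map]
      exact hy
  have hall : ∀ b : B, KaehlerDifferential.D A B b ∈ P • (⊤ : Submodule B (Ω[B⁄A])) := by
    intro b
    have hex := KaehlerDifferential.exact_kerCotangentToTensor_mapBaseChange A B (B ⧸ P)
      Ideal.Quotient.mk_surjective
    have hz : KaehlerDifferential.mapBaseChange A B (B ⧸ P)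
        ((1 : B ⧸ P) ⊗ₜ[B] KaehlerDifferential.D A B b) = 0 := Subsingleton.elim _ _
    obtain ⟨y, hy⟩ := (hex _).1 hz
    obtain ⟨⟨x, hx⟩, rfl⟩ := Ideal.toCotangent_surjective _ y
    rw [KaehlerDifferential.kerCotangentToTensor_toCotangent] at hy
    have hxP : x ∈ P := by simpa [Ideal.Quotient.eq_zero_iff_mem] using hx
    have h0 : (1 : B ⧸ P) ⊗ₜ[B] (KaehlerDifferential.D A B b - KaehlerDifferential.D A B x) = 0 := by
      rw [TensorProduct.tmul_sub, ← hy, sub_self]
    have h1 := congrArg (TensorProduct.quotTensorEquivQuotSMul (Ω[B⁄A]) P) h0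
    rw [TensorProduct.quotTensorEquivQuotSMul_mk_one_tmul, map_zero,
      Submodule.Quotient.mk_eq_zero] at h1
    have := Submodule.add_mem _ h1 (hD x hxP)
    simpa using this
  have htop : (⊤ : Submodule B (Ω[B⁄A])) ≤ P • ⊤ := by
    have hspan := KaehlerDifferential.span_range_derivation A B
    rw [← hspan, Submodule.span_le]
    rintro _ ⟨b, rfl⟩
    rw [hspan]
    exact hall b
  have hfg : (⊤ : Submodule B (Ω[B⁄A])).FG := Module.Finite.fg_top
  have hjac : P ≤ Ideal.jacobson ⊥ := by
    rw [IsLocalRing.jacobson_eq_maximalIdeal ⊥ bot_ne_top]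
    exact IsLocalRing.le_maximalIdeal (Ideal.IsPrime.ne_top ‹_›)
  have := Submodule.eq_bot_of_le_smul_of_le_jacobson_bot P ⊤ hfg htop hjac
  exact (Submodule.subsingleton_iff B).1 (subsingleton_of_bot_eq_top this.symm)

theorem exists_finset_adjoin_of_localization [IsDomain B] [P.IsPrime]
    (hV : ∀ b : B, b ∉ P → ∃ c : B, ∃ a : A, algebraMap A B a ∉ P ∧ b * c = algebraMap A B a)
    (hA : (Localization.localRingHom (P.comap (algebraMap A B)) P (algebraMap A B) rfl).FiniteType) :
    ∃ T : Finset B, ∀ x : B, ∃ a : A, algebraMap A B a ∉ P ∧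
      algebraMap A B a * x ∈ Algebra.adjoin A (T : Set B) := by
  classical
  set p := P.comap (algebraMap A B) with hp
  letI : Algebra (Localization.AtPrime p) (Localization.AtPrime P) :=
    (Localization.localRingHom p P (algebraMap A B) rfl).toAlgebra
  have hFT : Algebra.FiniteType (Localization.AtPrime p) (Localization.AtPrime P) := hA
  have hV' : ∀ y : Localization.AtPrime P, ∃ a : A, ∃ b : B, algebraMap A B a ∉ P ∧
      algebraMap B (Localization.AtPrime P) b =
        algebraMap B (Localization.AtPrime P) (algebraMap A B a) * y := by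
    intro y
    obtain ⟨b₀, σ, rfl⟩ := IsLocalization.exists_mk'_eq P.primeCompl y
    obtain ⟨c, a, haP, hc⟩ := hV σ σ.2
    refine ⟨a, c * b₀, haP, ?_⟩
    rw [← hc, map_mul, map_mul, mul_comm (algebraMap B _ (σ : B)), mul_assoc,
      IsLocalization.mk'_spec']
  choose fa fb hfa hfb using hV'
  obtain ⟨s, hs⟩ := hFT.out
  refine ⟨s.image fb, ?_⟩
  have key : ∀ z ∈ Algebra.adjoin (Localization.AtPrime p) (s : Set (Localization.AtPrime P)),
      ∃ a : A, ∃ t : B, algebraMap A B a ∉ P ∧ t ∈ Algebra.adjoin A ((s.image fb : Finset B) : Set B) ∧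
        algebraMap B (Localization.AtPrime P) t =
          algebraMap B (Localization.AtPrime P) (algebraMap A B a) * z := by
    intro z hz
    induction hz using Algebra.adjoin_induction with
    | mem z hz =>
      exact ⟨fa z, fb z, hfa z, Algebra.subset_adjoin (by simpa using ⟨z, hz, rfl⟩), hfb z⟩
    | algebraMap r =>
      obtain ⟨r', σ', rfl⟩ := IsLocalization.exists_mk'_eq p.primeCompl r
      refine ⟨σ', algebraMap A B r', σ'.2, Subalgebra.algebraMap_mem _ _, ?_⟩
      change _ = _ * Localization.localRingHom p P (algebraMap A B) rfl _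
      rw [Localization.localRingHom_mk']
      exact (IsLocalization.mk'_spec' _ _ _).symm
    | add z₁ z₂ _ _ h₁ h₂ =>
      obtain ⟨a₁, t₁, ha₁, ht₁, e₁⟩ := h₁
      obtain ⟨a₂, t₂, ha₂, ht₂, e₂⟩ := h₂
      refine ⟨a₁ * a₂, algebraMap A B a₂ * t₁ + algebraMap A B a₁ * t₂, ?_, ?_, ?_⟩
      · rw [map_mul]
        exact fun h => (Ideal.IsPrime.mem_or_mem ‹_› h).elim ha₁ ha₂
      · exact Subalgebra.add_mem _ (Subalgebra.mul_mem _ (Subalgebra.algebraMap_mem _ _) ht₁)
          (Subalgebra.mul_mem _ (Subalgebra.algebraMap_mem _ _) ht₂)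
      · simp only [map_add, map_mul, e₁, e₂]
        ring
    | mul z₁ z₂ _ _ h₁ h₂ =>
      obtain ⟨a₁, t₁, ha₁, ht₁, e₁⟩ := h₁
      obtain ⟨a₂, t₂, ha₂, ht₂, e₂⟩ := h₂
      refine ⟨a₁ * a₂, t₁ * t₂, ?_, Subalgebra.mul_mem _ ht₁ ht₂, ?_⟩
      · rw [map_mul]
        exact fun h => (Ideal.IsPrime.mem_or_mem ‹_› h).elim ha₁ ha₂
      · simp only [map_mul, e₁, e₂]
        ring
  intro x
  obtain ⟨a, t, haP, ht, e⟩ := key (algebraMap B _ x) (by rw [hs]; exact Algebra.mem_top)
  refine ⟨a, haP, ?_⟩
  rw [← map_mul] at e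
  have hinj : Function.Injective (algebraMap B (Localization.AtPrime P)) :=
    IsLocalization.injective _ (Ideal.primeCompl_le_nonZeroDivisors P)
  rw [← hinj e]
  exact ht

theorem exists_finset_adjoin_of_quotient
    (hB : (Ideal.quotientMap P (algebraMap A B) le_rfl).FiniteType) :
    ∃ T : Finset B, ∀ x : B, ∃ t ∈ Algebra.adjoin A (T : Set B), x - t ∈ P := by
  classical
  letI : Algebra (A ⧸ P.comap (algebraMap A B)) (B ⧸ P) :=
    (Ideal.quotientMap P (algebraMap A B) le_rfl).toAlgebra
  haveI : IsScalarTower A (A ⧸ P.comap (algebraMap A B)) (B ⧸ P) :=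
    IsScalarTower.of_algebraMap_eq (fun x => rfl)
  have h1 : Algebra.FiniteType (A ⧸ P.comap (algebraMap A B)) (B ⧸ P) := hB
  have h2 : Algebra.FiniteType A (A ⧸ P.comap (algebraMap A B)) :=
    Algebra.FiniteType.of_surjective (Algebra.ofId A _) Ideal.Quotient.mk_surjective
  have h3 : Algebra.FiniteType A (B ⧸ P) := Algebra.FiniteType.trans h2 h1
  obtain ⟨s, hs⟩ := h3.out
  refine ⟨s.image (Function.surjInv Ideal.Quotient.mk_surjective), fun x => ?_⟩
  have hx : Ideal.Quotient.mkₐ A P x ∈ Algebra.adjoin A (s : Set (B ⧸ P)) := by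
    rw [hs]; exact Algebra.mem_top
  have himg : (s : Set (B ⧸ P)) = Ideal.Quotient.mkₐ A P ''
      ((s.image (Function.surjInv Ideal.Quotient.mk_surjective) : Finset B) : Set B) := by
    ext y
    simp only [Finset.coe_image, Set.mem_image, Finset.mem_coe]
    constructor
    · intro hy
      exact ⟨_, ⟨y, hy, rfl⟩, Function.surjInv_eq Ideal.Quotient.mk_surjective y⟩
    · rintro ⟨_, ⟨z, hz, rfl⟩, rfl⟩
      rw [Ideal.Quotient.mkₐ_eq_mk, Function.surjInv_eq Ideal.Quotient.mk_surjective z]
      exact hz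
  rw [himg, ← AlgHom.map_adjoin] at hx
  obtain ⟨t, ht, e⟩ := hx
  refine ⟨t, ht, ?_⟩
  rw [← Ideal.Quotient.eq]
  exact e.symm

theorem finiteType [IsDomain A] [ValuationRing A] [IsDomain B] [P.IsPrime]
    (hV : ∀ b : B, b ∉ P → ∃ c : B, ∃ a : A, algebraMap A B a ∉ P ∧ b * c = algebraMap A B a)
    (hA : (Localization.localRingHom (P.comap (algebraMap A B)) P (algebraMap A B) rfl).FiniteType)
    (hB : (Ideal.quotientMap P (algebraMap A B) le_rfl).FiniteType)
    (hP : P = Ideal.map (algebraMap A B) (P.comap (algebraMap A B))) :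
    Algebra.FiniteType A B := by
  classical
  obtain ⟨T, hT⟩ := exists_finset_adjoin_of_localization P hV hA
  obtain ⟨T', hT'⟩ := exists_finset_adjoin_of_quotient P hB
  set p := P.comap (algebraMap A B) with hp
  have hle : Algebra.adjoin A (T : Set B) ≤ Algebra.adjoin A ((T ∪ T' : Finset B) : Set B) :=
    Algebra.adjoin_mono (by simp)
  have hle' : Algebra.adjoin A (T' : Set B) ≤ Algebra.adjoin A ((T ∪ T' : Finset B) : Set B) :=
    Algebra.adjoin_mono (by simp)
  have claim : ∀ y ∈ Ideal.map (algebraMap A B) p, ∀ b : B,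
      b * y ∈ Algebra.adjoin A ((T ∪ T' : Finset B) : Set B) := by
    intro y hy
    rw [Ideal.map] at hy
    induction hy using Submodule.span_induction with
    | mem y h =>
      obtain ⟨p₀, hp₀, rfl⟩ := h
      intro b
      obtain ⟨a, haP, hab⟩ := hT b
      obtain ⟨q, _, rfl⟩ := exists_eq_mul_of_mem_of_notMem p hp₀ (show a ∉ p from haP)
      have : b * algebraMap A B (a * q) = algebraMap A B q * (algebraMap A B a * b) := by
        rw [map_mul]; ring
      rw [this]
      exact Subalgebra.mul_mem _ (Subalgebra.algebraMap_mem _ _) (hle hab)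
    | zero => intro b; simp
    | add y₁ y₂ _ _ h₁ h₂ =>
      intro b
      rw [mul_add]
      exact Subalgebra.add_mem _ (h₁ b) (h₂ b)
    | smul c y _ h =>
      intro b
      rw [smul_eq_mul, ← mul_assoc]
      exact h (b * c)
  refine ⟨⟨T ∪ T', ?_⟩⟩
  rw [eq_top_iff]
  rintro x -
  obtain ⟨t, ht, hxt⟩ := hT' x
  rw [hP] at hxt
  have := Subalgebra.add_mem _ (hle' ht) (claim _ hxt 1)
  simpa using this

attribute [local instance] MvPolynomial.algebraMvPolynomial in
theorem exists_finset_ker_of_localization [IsDomain A] [IsDomain B] [P.IsPrime]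
    (hV : ∀ b : B, b ∉ P → ∃ c : B, ∃ a : A, algebraMap A B a ∉ P ∧ b * c = algebraMap A B a)
    (hA : (Localization.localRingHom (P.comap (algebraMap A B)) P (algebraMap A B)
      rfl).FinitePresentation)
    {n : ℕ} (π : MvPolynomial (Fin n) A →ₐ[A] B) (hπ : Function.Surjective π) :
    ∃ G : Finset (MvPolynomial (Fin n) A), (∀ g ∈ G, π g = 0) ∧
      ∀ x : MvPolynomial (Fin n) A, π x = 0 → ∃ a : A, algebraMap A B a ∉ P ∧
        MvPolynomial.C a * x ∈ Ideal.span (G : Set (MvPolynomial (Fin n) A)) := by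
  classical
  set p := P.comap (algebraMap A B) with hp
  letI : Algebra (Localization.AtPrime p) (Localization.AtPrime P) :=
    (Localization.localRingHom p P (algebraMap A B) rfl).toAlgebra
  have hFP : Algebra.FinitePresentation (Localization.AtPrime p) (Localization.AtPrime P) := hA
  have hinjB : Function.Injective (algebraMap B (Localization.AtPrime P)) :=
    IsLocalization.injective _ (Ideal.primeCompl_le_nonZeroDivisors P)
  have hinjA : Function.Injective (algebraMap A (Localization.AtPrime p)) :=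
    IsLocalization.injective _ (Ideal.primeCompl_le_nonZeroDivisors p)
  have hcompat : ∀ a : A, algebraMap (Localization.AtPrime p) (Localization.AtPrime P)
      (algebraMap A (Localization.AtPrime p) a) =
      algebraMap B (Localization.AtPrime P) (algebraMap A B a) :=
    fun a => Localization.localRingHom_to_map p P (algebraMap A B) rfl a
  -- the localized presentation
  let π' : MvPolynomial (Fin n) (Localization.AtPrime p) →ₐ[Localization.AtPrime p]
      Localization.AtPrime P :=
    MvPolynomial.aeval (fun i => algebraMap B (Localization.AtPrime P) (π (MvPolynomial.X i)))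
  have hπ' : ∀ g : MvPolynomial (Fin n) A,
      π' (MvPolynomial.map (algebraMap A (Localization.AtPrime p)) g) =
        algebraMap B (Localization.AtPrime P) (π g) := by
    intro g
    induction g using MvPolynomial.induction_on with
    | C a =>
      rw [MvPolynomial.map_C, MvPolynomial.algHom_C, hcompat]
      congr 1
      rw [← MvPolynomial.algebraMap_eq, AlgHom.commutes]
    | add g₁ g₂ h₁ h₂ => simp only [map_add, h₁, h₂]
    | mul_X g i h =>
      simp only [map_mul, h, MvPolynomial.map_X]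
      congr 1
      exact MvPolynomial.aeval_X _ i
  have hV' : ∀ y : Localization.AtPrime P, ∃ a : A, ∃ b : B, algebraMap A B a ∉ P ∧
      algebraMap B (Localization.AtPrime P) b =
        algebraMap B (Localization.AtPrime P) (algebraMap A B a) * y := by
    intro y
    obtain ⟨b₀, σ, rfl⟩ := IsLocalization.exists_mk'_eq P.primeCompl y
    obtain ⟨c, a, haP, hc⟩ := hV σ σ.2
    refine ⟨a, c * b₀, haP, ?_⟩
    rw [← hc, map_mul, map_mul, mul_comm (algebraMap B _ (σ : B)), mul_assoc,
      IsLocalization.mk'_spec']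
  have hsurj : Function.Surjective π' := by
    intro y
    obtain ⟨a, b, haP, hab⟩ := hV' y
    obtain ⟨g, rfl⟩ := hπ b
    have hu : IsUnit (algebraMap A (Localization.AtPrime p) a) :=
      IsLocalization.map_units (Localization.AtPrime p) (⟨a, haP⟩ : p.primeCompl)
    obtain ⟨u, hu⟩ := hu
    refine ⟨MvPolynomial.C (↑u⁻¹ : Localization.AtPrime p) *
      MvPolynomial.map (algebraMap A (Localization.AtPrime p)) g, ?_⟩
    rw [map_mul, hπ', hab, MvPolynomial.algHom_C, ← hcompat, ← hu, ← mul_assoc, ← map_mul]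
    simp
  have hker := Algebra.FinitePresentation.ker_fG_of_surjective π' hsurj
  obtain ⟨J, hJ⟩ := hker
  -- clearing denominators
  have hclear : ∀ j : MvPolynomial (Fin n) (Localization.AtPrime p), ∃ a : A,
      ∃ g : MvPolynomial (Fin n) A, algebraMap A B a ∉ P ∧
        MvPolynomial.map (algebraMap A (Localization.AtPrime p)) g =
          MvPolynomial.C (algebraMap A (Localization.AtPrime p) a) * j := by
    intro j
    obtain ⟨⟨g, ⟨_, a, ha, rfl⟩⟩, h⟩ := IsLocalization.surj
      (p.primeCompl.map (MvPolynomial.C : A →+* MvPolynomial (Fin n) A)) j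
    refine ⟨a, g, ha, ?_⟩
    simp only [MvPolynomial.algebraMap_def, MvPolynomial.map_C] at h
    rw [← h, mul_comm]
  choose ca cg hca hcg using hclear
  refine ⟨J.image cg, ?_, ?_⟩
  · intro g hg
    obtain ⟨j, hj, rfl⟩ := Finset.mem_image.1 hg
    apply hinjB
    rw [← hπ', hcg, map_mul, map_zero]
    have : j ∈ RingHom.ker π'.toRingHom := by rw [← hJ]; exact Ideal.subset_span hj
    rw [RingHom.mem_ker] at this
    have h0 : π' j = 0 := this
    rw [h0, mul_zero]
  · intro x hx
    have hmem : MvPolynomial.map (algebraMap A (Localization.AtPrime p)) x ∈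
        Ideal.span (J : Set (MvPolynomial (Fin n) (Localization.AtPrime p))) := by
      rw [hJ, RingHom.mem_ker]
      change π' _ = 0
      rw [hπ', hx, map_zero]
    have key : ∀ z ∈ Ideal.span (J : Set (MvPolynomial (Fin n) (Localization.AtPrime p))),
        ∃ a : A, ∃ w ∈ Ideal.span ((J.image cg : Finset _) : Set (MvPolynomial (Fin n) A)),
          algebraMap A B a ∉ P ∧ MvPolynomial.map (algebraMap A (Localization.AtPrime p)) w =
            MvPolynomial.C (algebraMap A (Localization.AtPrime p) a) * z := by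
      intro z hz
      induction hz using Submodule.span_induction with
      | mem j hj =>
        exact ⟨ca j, cg j, Ideal.subset_span (by simpa using ⟨j, hj, rfl⟩), hca j, hcg j⟩
      | zero =>
        exact ⟨1, 0, Ideal.zero_mem _, by
          rw [map_one]; exact fun h => (Ideal.IsPrime.ne_top ‹_›) ((Ideal.eq_top_iff_one P).2 h),
          by simp⟩
      | add z₁ z₂ _ _ h₁ h₂ =>
        obtain ⟨a₁, w₁, hw₁, ha₁, e₁⟩ := h₁
        obtain ⟨a₂, w₂, hw₂, ha₂, e₂⟩ := h₂
        refine ⟨a₁ * a₂, MvPolynomial.C a₂ * w₁ + MvPolynomial.C a₁ * w₂,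
          Ideal.add_mem _ (Ideal.mul_mem_left _ _ hw₁) (Ideal.mul_mem_left _ _ hw₂), ?_, ?_⟩
        · rw [map_mul]
          exact fun h => (Ideal.IsPrime.mem_or_mem ‹_› h).elim ha₁ ha₂
        · simp only [map_add, map_mul, e₁, e₂, MvPolynomial.map_C]
          ring
      | smul c z _ h =>
        obtain ⟨a, w, hw, ha, e⟩ := h
        refine ⟨ca c * a, cg c * w, Ideal.mul_mem_left _ _ hw, ?_, ?_⟩
        · rw [map_mul]
          exact fun h => (Ideal.IsPrime.mem_or_mem ‹_› h).elim (hca c) ha
        · simp only [map_mul, e, hcg, smul_eq_mul]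
          ring
    obtain ⟨a, w, hw, ha, e⟩ := key _ hmem
    refine ⟨a, ha, ?_⟩
    have : w = MvPolynomial.C a * x := by
      apply MvPolynomial.map_injective _ hinjA
      rw [e, map_mul, MvPolynomial.map_C]
    rw [← this]
    exact hw

theorem exists_finset_ker_of_quotient
    (hB : (Ideal.quotientMap P (algebraMap A B) le_rfl).FinitePresentation)
    (hP : P = Ideal.map (algebraMap A B) (P.comap (algebraMap A B)))
    {n : ℕ} (π : MvPolynomial (Fin n) A →ₐ[A] B) (hπ : Function.Surjective π) :
    ∃ H : Finset (MvPolynomial (Fin n) A), (∀ g ∈ H, π g = 0) ∧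
      ∀ x : MvPolynomial (Fin n) A, π x = 0 →
        ∃ w ∈ Ideal.span (H : Set (MvPolynomial (Fin n) A)),
          x - w ∈ Ideal.map (MvPolynomial.C : A →+* MvPolynomial (Fin n) A)
            (P.comap (algebraMap A B)) := by
  classical
  set p := P.comap (algebraMap A B) with hp
  letI : Algebra (A ⧸ p) (B ⧸ P) := (Ideal.quotientMap P (algebraMap A B) le_rfl).toAlgebra
  have hFP : Algebra.FinitePresentation (A ⧸ p) (B ⧸ P) := hB
  let π' : MvPolynomial (Fin n) (A ⧸ p) →ₐ[A ⧸ p] B ⧸ P :=
    MvPolynomial.aeval (fun i => Ideal.Quotient.mk P (π (MvPolynomial.X i)))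
  have hπ' : ∀ g : MvPolynomial (Fin n) A,
      π' (MvPolynomial.map (Ideal.Quotient.mk p) g) = Ideal.Quotient.mk P (π g) := by
    intro g
    induction g using MvPolynomial.induction_on with
    | C a =>
      rw [MvPolynomial.map_C, MvPolynomial.algHom_C]
      change Ideal.quotientMap P (algebraMap A B) le_rfl (Ideal.Quotient.mk p a) = _
      rw [Ideal.quotientMap_mk]
      congr 1
      rw [← MvPolynomial.algebraMap_eq, AlgHom.commutes]
    | add g₁ g₂ h₁ h₂ => simp only [map_add, h₁, h₂]
    | mul_X g i h =>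
      simp only [map_mul, h, MvPolynomial.map_X]
      congr 1
      exact MvPolynomial.aeval_X _ i
  have hmapsurj : Function.Surjective (MvPolynomial.map (σ := Fin n) (Ideal.Quotient.mk p)) :=
    MvPolynomial.map_surjective _ Ideal.Quotient.mk_surjective
  have hsurj : Function.Surjective π' := by
    intro y
    obtain ⟨b, rfl⟩ := Ideal.Quotient.mk_surjective y
    obtain ⟨g, rfl⟩ := hπ b
    exact ⟨_, hπ' g⟩
  obtain ⟨J, hJ⟩ := Algebra.FinitePresentation.ker_fG_of_surjective π' hsurj
  -- elements of `pB` come from `pA[X]`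
  have hlift0 : ∀ y ∈ Ideal.map (algebraMap A B) p,
      ∃ g₀ ∈ Ideal.map (MvPolynomial.C : A →+* MvPolynomial (Fin n) A) p, π g₀ = y := by
    intro y hy
    rw [Ideal.map] at hy
    induction hy using Submodule.span_induction with
    | mem y h =>
      obtain ⟨a, ha, rfl⟩ := h
      exact ⟨MvPolynomial.C a, Ideal.mem_map_of_mem _ ha, by
        rw [← MvPolynomial.algebraMap_eq, AlgHom.commutes]⟩
    | zero => exact ⟨0, Ideal.zero_mem _, map_zero _⟩
    | add y₁ y₂ _ _ h₁ h₂ =>
      obtain ⟨g₁, hg₁, rfl⟩ := h₁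
      obtain ⟨g₂, hg₂, rfl⟩ := h₂
      exact ⟨g₁ + g₂, Ideal.add_mem _ hg₁ hg₂, map_add _ _ _⟩
    | smul b y _ h =>
      obtain ⟨g₀, hg₀, rfl⟩ := h
      obtain ⟨gb, rfl⟩ := hπ b
      exact ⟨gb * g₀, Ideal.mul_mem_left _ _ hg₀, by rw [map_mul, smul_eq_mul]⟩
  have hkermap : ∀ g : MvPolynomial (Fin n) A,
      g ∈ Ideal.map (MvPolynomial.C : A →+* MvPolynomial (Fin n) A) p ↔
        MvPolynomial.map (Ideal.Quotient.mk p) g = 0 := by
    intro g
    rw [← RingHom.mem_ker, MvPolynomial.ker_map, Ideal.mk_ker]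
  have hlift : ∀ j : MvPolynomial (Fin n) (A ⧸ p), ∃ h : MvPolynomial (Fin n) A,
      π' j = 0 → (π h = 0 ∧ MvPolynomial.map (Ideal.Quotient.mk p) h = j) := by
    intro j
    obtain ⟨g, rfl⟩ := hmapsurj j
    by_cases hj : π' (MvPolynomial.map (Ideal.Quotient.mk p) g) = 0
    · rw [hπ', Ideal.Quotient.eq_zero_iff_mem, hP] at hj
      obtain ⟨g₀, hg₀, e⟩ := hlift0 _ hj
      refine ⟨g - g₀, fun _ => ⟨by rw [map_sub, e, sub_self], ?_⟩⟩
      rw [map_sub, (hkermap g₀).1 hg₀, sub_zero]
    · exact ⟨0, fun h => absurd h hj⟩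
  choose fh hfh using hlift
  have hJker : ∀ j ∈ J, π' j = 0 := by
    intro j hj
    have : j ∈ RingHom.ker π'.toRingHom := by rw [← hJ]; exact Ideal.subset_span hj
    exact this
  refine ⟨J.image fh, ?_, ?_⟩
  · intro g hg
    obtain ⟨j, hj, rfl⟩ := Finset.mem_image.1 hg
    exact (hfh j (hJker j hj)).1
  · intro x hx
    have hmem : MvPolynomial.map (Ideal.Quotient.mk p) x ∈
        Ideal.span (J : Set (MvPolynomial (Fin n) (A ⧸ p))) := by
      rw [hJ, RingHom.mem_ker]
      change π' _ = 0
      rw [hπ', hx, map_zero]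
    have key : ∀ z ∈ Ideal.span (J : Set (MvPolynomial (Fin n) (A ⧸ p))),
        ∃ w ∈ Ideal.span ((J.image fh : Finset _) : Set (MvPolynomial (Fin n) A)),
          MvPolynomial.map (Ideal.Quotient.mk p) w = z := by
      intro z hz
      induction hz using Submodule.span_induction with
      | mem j hj =>
        exact ⟨fh j, Ideal.subset_span (by simpa using ⟨j, hj, rfl⟩), (hfh j (hJker j hj)).2⟩
      | zero => exact ⟨0, Ideal.zero_mem _, map_zero _⟩
      | add z₁ z₂ _ _ h₁ h₂ =>
        obtain ⟨w₁, hw₁, rfl⟩ := h₁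
        obtain ⟨w₂, hw₂, rfl⟩ := h₂
        exact ⟨w₁ + w₂, Ideal.add_mem _ hw₁ hw₂, map_add _ _ _⟩
      | smul c z _ h =>
        obtain ⟨w, hw, rfl⟩ := h
        obtain ⟨c', rfl⟩ := hmapsurj c
        exact ⟨c' * w, Ideal.mul_mem_left _ _ hw, by rw [map_mul, smul_eq_mul]⟩
    obtain ⟨w, hw, e⟩ := key _ hmem
    refine ⟨w, hw, ?_⟩
    rw [hkermap, map_sub, e, sub_self]


theorem finitePresentation [IsDomain A] [ValuationRing A] [IsDomain B] [P.IsPrime]
    (hinj : Function.Injective (algebraMap A B))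
    (hV : ∀ b : B, b ∉ P → ∃ c : B, ∃ a : A, algebraMap A B a ∉ P ∧ b * c = algebraMap A B a)
    (hA : (Localization.localRingHom (P.comap (algebraMap A B)) P (algebraMap A B)
      rfl).FinitePresentation)
    (hB : (Ideal.quotientMap P (algebraMap A B) le_rfl).FinitePresentation)
    (hP : P = Ideal.map (algebraMap A B) (P.comap (algebraMap A B))) :
    Algebra.FinitePresentation A B := by
  classical
  have hFT : Algebra.FiniteType A B :=
    finiteType P hV (RingHom.FiniteType.of_finitePresentation hA)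
      (RingHom.FiniteType.of_finitePresentation hB) hP
  obtain ⟨n, π, hπ⟩ := Algebra.FiniteType.iff_quotient_mvPolynomial''.1 hFT
  obtain ⟨G, hG0, hG⟩ := exists_finset_ker_of_localization P hV hA π hπ
  obtain ⟨H, hH0, hH⟩ := exists_finset_ker_of_quotient P hB hP π hπ
  set p := P.comap (algebraMap A B) with hp
  refine Algebra.FinitePresentation.of_surjective hπ ⟨G ∪ H, le_antisymm ?_ ?_⟩
  · rw [Ideal.span_le]
    intro g hg
    rw [Finset.coe_union] at hg
    rcases hg with hg | hg
    · exact hG0 g hg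
    · exact hH0 g hg
  · intro x hx
    have hx0 : π x = 0 := hx
    obtain ⟨w, hw, hxw⟩ := hH x hx0
    have hw0 : π w = 0 := by
      have : Ideal.span (H : Set (MvPolynomial (Fin n) A)) ≤ RingHom.ker π.toRingHom := by
        rw [Ideal.span_le]; exact fun g hg => hH0 g hg
      exact this hw
    obtain ⟨p₀, hp₀, g', hg'⟩ := exists_eq_C_mul_of_mem_map_C p (x - w) hxw
    have hspanH : Ideal.span (H : Set (MvPolynomial (Fin n) A)) ≤
        Ideal.span ((G ∪ H : Finset _) : Set (MvPolynomial (Fin n) A)) :=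
      Ideal.span_mono (by simp)
    have hspanG : Ideal.span (G : Set (MvPolynomial (Fin n) A)) ≤
        Ideal.span ((G ∪ H : Finset _) : Set (MvPolynomial (Fin n) A)) :=
      Ideal.span_mono (by simp)
    have hxeq : x = w + MvPolynomial.C p₀ * g' := by rw [← hg']; ring
    rw [hxeq]
    refine Ideal.add_mem _ (hspanH hw) ?_
    by_cases h0 : p₀ = 0
    · rw [h0, map_zero, zero_mul]; exact Ideal.zero_mem _
    · have hπg' : π g' = 0 := by
        have h1 : π (x - w) = 0 := by rw [map_sub, hx0, hw0, sub_zero]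
        rw [hg', map_mul, ← MvPolynomial.algebraMap_eq, AlgHom.commutes] at h1
        rcases mul_eq_zero.1 h1 with h2 | h2
        · exact absurd (hinj (h2.trans (map_zero _).symm)) h0
        · exact h2
      obtain ⟨a, haP, hag⟩ := hG g' hπg'
      obtain ⟨q, _, rfl⟩ := exists_eq_mul_of_mem_of_notMem p hp₀ (show a ∉ p from haP)
      have : MvPolynomial.C (a * q) * g' = MvPolynomial.C q * (MvPolynomial.C a * g') := by
        rw [map_mul]; ring
      rw [this]
      exact Ideal.mul_mem_left _ _ (hspanG hag)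

/-- **Main theorem.** -/
theorem etale_of_localization_of_quotient [IsDomain A] [ValuationRing A] [IsDomain B]
    [IsLocalRing B] [P.IsPrime]
    (hinj : Function.Injective (algebraMap A B))
    (hV : ∀ b : B, b ∉ P → ∃ c : B, ∃ a : A, algebraMap A B a ∉ P ∧ b * c = algebraMap A B a)
    (hA : (Localization.localRingHom (P.comap (algebraMap A B)) P (algebraMap A B) rfl).Etale)
    (hB : (Ideal.quotientMap P (algebraMap A B) le_rfl).Etale) :
    Algebra.Etale A B := by
  have hP := eq_map_comap P hV hA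
  set p := P.comap (algebraMap A B) with hp
  have hAfp : (Localization.localRingHom p P (algebraMap A B) rfl).FinitePresentation := by
    letI : Algebra (Localization.AtPrime p) (Localization.AtPrime P) :=
      (Localization.localRingHom p P (algebraMap A B) rfl).toAlgebra
    have : Algebra.Etale (Localization.AtPrime p) (Localization.AtPrime P) := hA
    exact this.finitePresentation
  letI : Algebra (A ⧸ p) (B ⧸ P) := (Ideal.quotientMap P (algebraMap A B) le_rfl).toAlgebra
  haveI : IsScalarTower A (A ⧸ p) (B ⧸ P) := IsScalarTower.of_algebraMap_eq (fun x => rfl)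
  have hEtB : Algebra.Etale (A ⧸ p) (B ⧸ P) := hB
  have hBfp : (Ideal.quotientMap P (algebraMap A B) le_rfl).FinitePresentation :=
    hEtB.finitePresentation
  haveI : Algebra.FinitePresentation A B := finitePresentation P hinj hV hAfp hBfp hP
  haveI : Algebra.FormallyUnramified A (A ⧸ p) :=
    Algebra.FormallyUnramified.of_surjective (Algebra.ofId A (A ⧸ p)) Ideal.Quotient.mk_surjective
  haveI : Algebra.FormallyUnramified A (B ⧸ P) := Algebra.FormallyUnramified.comp A (A ⧸ p) (B ⧸ P)
  haveI : Algebra.FormallyUnramified A B := formallyUnramified_of_quotient P hP inferInstance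
  haveI : Module.Flat A B := by
    rw [Module.Flat.flat_iff_torsion_eq_bot_of_isBezout]
    rw [Submodule.eq_bot_iff]
    intro x hx
    rw [Submodule.mem_torsion_iff] at hx
    obtain ⟨a, ha⟩ := hx
    rw [Submonoid.smul_def, Algebra.smul_def] at ha
    rcases mul_eq_zero.1 ha with h | h
    · exact absurd (hinj (h.trans (map_zero _).symm)) (nonZeroDivisors.coe_ne_zero a)
    · exact h
  exact Algebra.Etale.of_formallyUnramified_of_flat

end Main

section Val

theorem exists_ne_val_eq_of_sum_eq_zero {L Γ : Type*} [Field L] [LinearOrderedCommGroupWithZero Γ]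
    (v : Valuation L Γ) {ι : Type*} (s : Finset ι) (t : ι → L) (hsum : ∑ i ∈ s, t i = 0)
    (i₁ : ι) (hi₁ : i₁ ∈ s) (hne : t i₁ ≠ 0) :
    ∃ i ∈ s, ∃ j ∈ s, i ≠ j ∧ v (t i) = v (t j) ∧ v (t i) ≠ 0 := by
  classical
  obtain ⟨i₀, hi₀, hmax⟩ := Finset.exists_max_image s (fun i => v (t i)) ⟨i₁, hi₁⟩
  have h0 : v (t i₀) ≠ 0 := by
    have h1 : v (t i₁) ≠ 0 := (Valuation.ne_zero_iff v).2 hne
    have h2 := hmax i₁ hi₁
    intro h
    rw [h] at h2
    exact h1 (le_antisymm h2 zero_le)
  by_contra hcon
  have hcon' : ∀ i ∈ s, ∀ j ∈ s, i ≠ j → v (t i) = v (t j) → v (t i) = 0 := by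
    intro i hi j hj hij h
    by_contra h'
    exact hcon ⟨i, hi, j, hj, hij, h, h'⟩
  have hlt : ∀ j ∈ s \ {i₀}, v (t j) < v (t i₀) := by
    intro j hj
    rw [Finset.mem_sdiff, Finset.mem_singleton] at hj
    refine lt_of_le_of_ne (hmax j hj.1) ?_
    intro h
    exact h0 (hcon' i₀ hi₀ j hj.1 (Ne.symm hj.2) h.symm)
  have := Valuation.map_sum_eq_of_lt v hi₀ hlt
  rw [hsum, map_zero] at this
  exact h0 this.symm

variable {K L Γ₀ Γ₁ : Type*} [Field K] [Field L] [Algebra K L] [Algebra.IsAlgebraic K L]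
    [LinearOrderedCommGroupWithZero Γ₀] [LinearOrderedCommGroupWithZero Γ₁]
    (vK : Valuation K Γ₀) (vL : Valuation L Γ₁) [vK.HasExtension vL]

theorem exists_pow_val_eq (b : L) (hb0 : b ≠ 0) :
    ∃ d : ℕ, 0 < d ∧ ∃ a : K, vL b ^ d = vL (algebraMap K L a) := by
  classical
  have halg : IsAlgebraic K b := Algebra.IsAlgebraic.isAlgebraic b
  have hint : IsIntegral K b := halg.isIntegral
  set q := minpoly K b with hq
  have hq0 : q.coeff 0 ≠ 0 := minpoly.coeff_zero_ne_zero hint hb0
  have hsum : ∑ i ∈ Finset.range (q.natDegree + 1), q.coeff i • b ^ i = 0 := by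
    rw [← Polynomial.aeval_eq_sum_range, hq, minpoly.aeval]
  obtain ⟨i, -, j, -, hij, hv, hv0⟩ := exists_ne_val_eq_of_sum_eq_zero vL _ _ hsum 0 (by simp)
    (by simpa using hq0)
  have hvb : vL b ≠ 0 := (Valuation.ne_zero_iff vL).2 hb0
  simp only [Algebra.smul_def, map_mul, map_pow] at hv hv0
  -- wlog i < j
  have key : ∀ i j : ℕ, i < j → vL (algebraMap K L (q.coeff i)) * vL b ^ i =
      vL (algebraMap K L (q.coeff j)) * vL b ^ j →
      vL (algebraMap K L (q.coeff i)) * vL b ^ i ≠ 0 →
      ∃ d : ℕ, 0 < d ∧ ∃ a : K, vL b ^ d = vL (algebraMap K L a) := by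
    intro i j hlt hv hv0
    have hj0 : vL (algebraMap K L (q.coeff j)) ≠ 0 := by
      intro h
      rw [h, zero_mul] at hv
      exact hv0 hv
    refine ⟨j - i, Nat.sub_pos_of_lt hlt, q.coeff i / q.coeff j, ?_⟩
    rw [map_div₀, map_div₀, eq_div_iff hj0]
    have hpow : vL b ^ j = vL b ^ (j - i) * vL b ^ i := by
      rw [← pow_add, Nat.sub_add_cancel hlt.le]
    rw [hpow, ← mul_assoc] at hv
    have := mul_right_cancel₀ (pow_ne_zero i hvb) hv
    rw [this, mul_comm]
  rcases lt_or_gt_of_ne hij with h | h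
  · exact key i j h hv hv0
  · exact key j i h hv.symm (hv ▸ hv0)

theorem exists_mul_eq_algebraMap (P : Ideal vL.valuationSubring) [P.IsPrime]
    (b : vL.valuationSubring) (hb : b ∉ P) :
    ∃ c : vL.valuationSubring, ∃ a : vK.valuationSubring,
      algebraMap vK.valuationSubring vL.valuationSubring a ∉ P ∧
        b * c = algebraMap vK.valuationSubring vL.valuationSubring a := by
  have hb0 : (b : L) ≠ 0 := by
    intro h
    apply hb
    have : b = 0 := Subtype.ext h
    rw [this]; exact P.zero_mem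
  obtain ⟨d, hd, a, hda⟩ := exists_pow_val_eq vL (b : L) hb0 (K := K)
  have hvb1 : vL (b : L) ≤ 1 := (Valuation.mem_valuationSubring_iff vL _).1 b.2
  have hvb : vL (b : L) ≠ 0 := (Valuation.ne_zero_iff vL).2 hb0
  have ha1 : vK a ≤ 1 := by
    rw [← Valuation.HasExtension.val_map_le_one_iff vK vL, ← hda]
    exact pow_le_one' hvb1 d
  have hcmem : algebraMap K L a / (b : L) ^ d * (b : L) ^ (d - 1) ∈ vL.valuationSubring := by
    rw [Valuation.mem_valuationSubring_iff, map_mul, map_div₀, map_pow, map_pow, ← hda,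
      div_self (pow_ne_zero d hvb), one_mul]
    exact pow_le_one' hvb1 _
  refine ⟨⟨_, hcmem⟩, ⟨a, (Valuation.mem_valuationSubring_iff vK _).2 ha1⟩, ?_, ?_⟩
  · intro haP
    have humem : (b : L) ^ d / algebraMap K L a ∈ vL.valuationSubring := by
      rw [Valuation.mem_valuationSubring_iff, map_div₀, map_pow, ← hda,
        div_self (pow_ne_zero d hvb)]
    have ha0 : algebraMap K L a ≠ 0 := by
      intro h
      rw [h, map_zero] at hda
      exact pow_ne_zero d hvb hda
    have hbd : b ^ d = algebraMap vK.valuationSubring vL.valuationSubring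
        ⟨a, (Valuation.mem_valuationSubring_iff vK _).2 ha1⟩ * ⟨_, humem⟩ := by
      apply Subtype.ext
      rw [SubmonoidClass.coe_pow]
      simp only [MulMemClass.coe_mul,
        Valuation.HasExtension.coe_algebraMap_valuationSubring_eq]
      field_simp
    have : b ^ d ∈ P := by rw [hbd]; exact P.mul_mem_right _ haP
    exact hb (Ideal.IsPrime.mem_of_pow_mem ‹_› d this)
  · apply Subtype.ext
    simp only [MulMemClass.coe_mul, Valuation.HasExtension.coe_algebraMap_valuationSubring_eq]
    have : (b : L) ^ d = (b : L) * (b : L) ^ (d - 1) := by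
      rw [← pow_succ', Nat.sub_add_cancel hd]
    rw [this]
    field_simp

end Val

end Groth.Agent.Lib.Seat71.ValEtale
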