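import Mathlib
import Groth.Agent.Lib.Helper5IntDim

/-!
# Seat72: counting ring homomorphisms from a finite type algebra into finite fields

* `card_algHom_le_of_integral`: if the generators `a` of an `R₀`-algebra `B` satisfy, up to scalars
  `K a`, monic equations over `R₀[x₁, …, x_s]`, then `#Hom_{R₀}(B, F) ≤ N · (#F)^s` for all finite
  fields `F` over `R₀` in which the `K a` are invertible.
* `card_algHom_le`: universe polymorphic version of the bound over a field (Noether normalization).
-/

set_option autoImplicit false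
set_option maxSynthPendingDepth 3
set_option linter.style.haveILetI false
set_option linter.unusedSectionVars false

universe u v w

namespace Groth.Agent.Lib.Seat72.ArithBoundA

open Polynomial

theorem card_algHom_le_of_integral (R₀ : Type v) [CommRing R₀] (B : Type u) [CommRing B]
    [Algebra R₀ B] (S : Finset B) (hS : Algebra.adjoin R₀ (S : Set B) = ⊤) (s : ℕ) (x : Fin s → B)
    (K : B → R₀)
    (hint : ∀ a ∈ S, (MvPolynomial.aeval x : MvPolynomial (Fin s) R₀ →ₐ[R₀] B).toRingHom.IsIntegralElem
      (K a • a)) :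
    ∃ N : ℕ, ∀ (F : Type w) [Field F] [Algebra R₀ F] [Finite F],
      (∀ a ∈ S, algebraMap R₀ F (K a) ≠ 0) → Nat.card (B →ₐ[R₀] F) ≤ N * Nat.card F ^ s := by
  classical
  have hex : ∀ a : S, ∃ p : (MvPolynomial (Fin s) R₀)[X], p.Monic ∧
      p.eval₂ (MvPolynomial.aeval x : MvPolynomial (Fin s) R₀ →ₐ[R₀] B).toRingHom (K a.1 • a.1) = 0 :=
    fun a => hint a.1 a.2
  choose p hpm hpr using hex
  refine ⟨∏ a : S, (p a).natDegree, fun F _ _ _ hK => ?_⟩
  haveI := Fintype.ofFinite F
  let P : (Fin s → F) → S → F[X] := fun v a =>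
    (p a).map (MvPolynomial.aeval v : MvPolynomial (Fin s) R₀ →ₐ[R₀] F).toRingHom
  have hPm : ∀ v a, (P v a).Monic := fun v a => (hpm a).map _
  let T := Σ v : (Fin s → F), ∀ a : S, ↥((P v a).roots.toFinset)
  have hroot : ∀ (ψ : B →ₐ[R₀] F) (a : S),
      ψ (K a.1 • a.1) ∈ (P (fun j => ψ (x j)) a).roots.toFinset := by
    intro ψ a
    rw [Multiset.mem_toFinset, mem_roots (hPm _ a).ne_zero, IsRoot.def]
    have hcomp : (MvPolynomial.aeval (fun j => ψ (x j)) :
        MvPolynomial (Fin s) R₀ →ₐ[R₀] F) = ψ.comp (MvPolynomial.aeval x) := by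
      apply MvPolynomial.algHom_ext
      intro j
      simp
    change eval (ψ (K a.1 • a.1)) ((p a).map _) = 0
    rw [eval_map, hcomp]
    have := Polynomial.hom_eval₂ (p a)
      (MvPolynomial.aeval x : MvPolynomial (Fin s) R₀ →ₐ[R₀] B).toRingHom ψ.toRingHom (K a.1 • a.1)
    rw [hpr a, map_zero] at this
    exact this.symm
  let Φ : (B →ₐ[R₀] F) → T := fun ψ =>
    ⟨fun j => ψ (x j), fun a => ⟨ψ (K a.1 • a.1), hroot ψ a⟩⟩
  have hΦ : Function.Injective Φ := by
    intro ψ ψ' h
    have h2 := congrArg (fun t : T => fun a : S => ((t.2 a).1 : F)) h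
    apply AlgHom.ext_of_adjoin_eq_top hS
    intro a ha
    have h3 : ψ (K a • a) = ψ' (K a • a) := congrFun h2 ⟨a, ha⟩
    rw [map_smul, map_smul, Algebra.smul_def, Algebra.smul_def] at h3
    exact mul_left_cancel₀ (hK a ha) h3
  have hcardT : Fintype.card T ≤ (∏ a : S, (p a).natDegree) * Nat.card F ^ s := by
    rw [Fintype.card_sigma]
    have h1 : ∀ v : Fin s → F, Fintype.card (∀ a : S, ↥((P v a).roots.toFinset)) ≤
        ∏ a : S, (p a).natDegree := by
      intro v
      rw [Fintype.card_pi]
      refine Finset.prod_le_prod' fun a _ => ?_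
      rw [Fintype.card_coe]
      refine (Multiset.toFinset_card_le _).trans ((Polynomial.card_roots' _).trans ?_)
      exact (Polynomial.natDegree_map_le).trans le_rfl
    refine (Finset.sum_le_sum fun v _ => h1 v).trans ?_
    rw [Finset.sum_const, smul_eq_mul, Finset.card_univ, Fintype.card_fun, Fintype.card_fin,
      mul_comm, Nat.card_eq_fintype_card]
  calc Nat.card (B →ₐ[R₀] F) ≤ Nat.card T := Nat.card_le_card_of_injective Φ hΦ
    _ = Fintype.card T := Nat.card_eq_fintype_card
    _ ≤ _ := hcardT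

/-- dimension of a ring integral and injective over a polynomial ring over a field. -/
theorem ringKrullDim_of_integral_injective {k : Type v} [Field k] {A : Type u} [CommRing A]
    [Algebra k A] {s : ℕ} (g : MvPolynomial (Fin s) k →ₐ[k] A) (hinj : Function.Injective g)
    (hint : g.toRingHom.IsIntegral) : ringKrullDim A = (s : WithBot ℕ∞) := by
  letI algBT : Algebra (MvPolynomial (Fin s) k) A := g.toRingHom.toAlgebra
  haveI : Algebra.IsIntegral (MvPolynomial (Fin s) k) A := ⟨hint⟩
  rw [Groth.Agent.Lib.Helper5.ringKrullDim_eq_of_isIntegral_of_injective (MvPolynomial (Fin s) k) A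
    hinj, MvPolynomial.ringKrullDim_of_isNoetherianRing, ringKrullDim_eq_zero_of_field,
    Nat.card_eq_fintype_card]
  simp

theorem card_algHom_le (k : Type v) [Field k] (A : Type u) [CommRing A] [Algebra k A]
    [Algebra.FiniteType k A] (r : ℕ) (hr : ringKrullDim A ≤ r) :
    ∃ N : ℕ, ∀ (k' : Type w) [Field k'] [Algebra k k'] [Finite k'],
      Nat.card (A →ₐ[k] k') ≤ N * Nat.card k' ^ r := by
  classical
  by_cases hnt : Nontrivial A
  swap
  · rw [not_nontrivial_iff_subsingleton] at hnt
    refine ⟨0, fun k' _ _ _ => ?_⟩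
    haveI : IsEmpty (A →ₐ[k] k') := ⟨fun ψ => by
      have h1 : ψ 1 = ψ 0 := congrArg ψ (Subsingleton.elim _ _)
      rw [map_one, map_zero] at h1
      exact one_ne_zero h1⟩
    simp
  obtain ⟨s, g, hinj, hint⟩ := exists_integral_inj_algHom_of_fg k A
  have hdim := ringKrullDim_of_integral_injective g hinj hint
  have hsr : s ≤ r := by
    rw [hdim] at hr
    exact_mod_cast hr
  obtain ⟨S, hS⟩ := (inferInstance : Algebra.FiniteType k A).out
  have hg : (MvPolynomial.aeval fun j => g (MvPolynomial.X j) :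
      MvPolynomial (Fin s) k →ₐ[k] A) = g := by
    apply MvPolynomial.algHom_ext
    intro j
    simp
  obtain ⟨N, hN⟩ := card_algHom_le_of_integral.{u, v, w} k A S hS s (fun j => g (MvPolynomial.X j))
    (fun _ => 1) (fun a _ => by rw [hg, one_smul]; exact hint a)
  refine ⟨N, fun k' _ _ _ => ?_⟩
  refine (hN k' fun a _ => by rw [map_one]; exact one_ne_zero).trans ?_
  exact Nat.mul_le_mul_left _ (Nat.pow_le_pow_right Nat.card_pos hsr)

end Groth.Agent.Lib.Seat72.ArithBoundA
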