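import Mathlib
import Groth.Agent.Lib.Seat72ArithBoundA

/-!
# Seat72: counting points of finite type `ℤ`-algebras in finite fields

For a finite type `ℤ`-algebra `A` of dimension `≤ r` there are `N`, `p₀` with
`#Hom(A, F) ≤ N · (#F)^r` for every finite field `F`, and `#Hom(A, F) · #F ≤ N · (#F)^r` when the
characteristic of `F` is at least `p₀` (generic Noether normalization: Noether normalization of
`ℚ ⊗ A`, spread out over `ℤ` using `IsIntegral.exists_multiple_integral_of_isLocalization`).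
-/

set_option autoImplicit false
set_option maxSynthPendingDepth 3
set_option linter.style.haveILetI false
set_option linter.unusedSectionVars false

universe u v w

namespace Groth.Agent.Lib.Seat72.ArithBoundB



theorem isJacobsonRing_int : IsJacobsonRing ℤ := by
  rw [isJacobsonRing_iff_prime_eq]
  intro P hP
  by_cases hbot : P = ⊥
  · subst hbot
    rw [eq_bot_iff]
    intro x hx
    rw [Ideal.mem_jacobson_bot] at hx
    have h1 := hx x
    rw [Int.isUnit_iff] at h1
    have hx2 : 0 ≤ x * x := mul_self_nonneg x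
    rcases h1 with h1 | h1
    · have : x * x = 0 := by omega
      have : x = 0 := by simpa using this
      simp [this]
    · omega
  · haveI : P.IsMaximal := IsPrime.to_maximal_ideal hbot
    exact Ideal.jacobson_eq_self_of_isMaximal

/-- a maximal ideal of a finite type `ℤ`-algebra contains a nonzero integer. -/
theorem exists_int_mem_of_isMaximal (A : Type u) [CommRing A] [Algebra.FiniteType ℤ A]
    (m : Ideal A) [m.IsMaximal] : ∃ n : ℤ, n ≠ 0 ∧ (n : A) ∈ m := by
  haveI := isJacobsonRing_int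
  letI : Field (A ⧸ m) := Ideal.Quotient.field m
  haveI : Algebra.FiniteType ℤ (A ⧸ m) :=
    Algebra.FiniteType.of_surjective (Ideal.Quotient.mkₐ ℤ m) Ideal.Quotient.mk_surjective
  haveI : Module.Finite ℤ (A ⧸ m) := finite_of_finite_type_of_isJacobsonRing ℤ (A ⧸ m)
  by_contra hcon
  push Not at hcon
  have hinj : Function.Injective (algebraMap ℤ (A ⧸ m)) := by
    rw [injective_iff_map_eq_zero]
    intro n hn
    by_contra hn0
    apply hcon n hn0
    rw [← Ideal.Quotient.eq_zero_iff_mem]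
    simpa using hn
  haveI : Algebra.IsIntegral ℤ (A ⧸ m) := Algebra.IsIntegral.of_finite ℤ (A ⧸ m)
  exact Int.not_isField (isField_of_isIntegral_of_isField hinj (Field.toIsField (A ⧸ m)))

/-- the generic fibre of a finite type `ℤ`-algebra has dimension at most `dim A - 1`. -/
theorem succ_le_ringKrullDim (A : Type u) [CommRing A] [Algebra.FiniteType ℤ A]
    (L : Type v) [CommRing L] [Algebra A L]
    [IsLocalization (Algebra.algebraMapSubmonoid A (nonZeroDivisors ℤ)) L] (s : ℕ)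
    (hs : (s : WithBot ℕ∞) ≤ ringKrullDim L) : ((s + 1 : ℕ) : WithBot ℕ∞) ≤ ringKrullDim A := by
  obtain ⟨l, hl⟩ := Order.le_krullDim_iff.mp hs
  have hmono : StrictMono (PrimeSpectrum.comap (algebraMap A L)) := by
    intro P Q hPQ
    refine lt_of_le_of_ne ?_ ?_
    · exact fun x hx => hPQ.le hx
    · intro h
      exact hPQ.ne (PrimeSpectrum.localization_comap_injective L
        (Algebra.algebraMapSubmonoid A (nonZeroDivisors ℤ)) h)
  obtain ⟨l', hl'⟩ : ∃ l' : LTSeries (PrimeSpectrum A),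
      l' = l.map (PrimeSpectrum.comap (algebraMap A L)) hmono := ⟨_, rfl⟩
  obtain ⟨m, hm, hle⟩ := Ideal.exists_le_maximal l'.last.asIdeal l'.last.2.ne_top
  obtain ⟨n, hn0, hnm⟩ := exists_int_mem_of_isMaximal A m
  have hnot : (n : A) ∉ l'.last.asIdeal := by
    rw [hl', LTSeries.last_map]
    intro hmem
    have hu : IsUnit (algebraMap A L (n : A)) :=
      IsLocalization.map_units L (⟨(n : A), ⟨n, mem_nonZeroDivisors_of_ne_zero hn0, by simp⟩⟩ :
        Algebra.algebraMapSubmonoid A (nonZeroDivisors ℤ))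
    exact l.last.2.ne_top (Ideal.eq_top_of_isUnit_mem _ hmem hu)
  have hlt : l'.last < ⟨m, hm.isPrime⟩ := by
    refine lt_of_le_of_ne hle ?_
    intro h
    apply hnot
    rw [h]
    exact hnm
  have h1 := Order.LTSeries.length_le_krullDim (l'.snoc ⟨m, hm.isPrime⟩ hlt)
  rw [RelSeries.snoc_length, hl', LTSeries.map_length, hl] at h1
  exact h1


attribute [local instance] MvPolynomial.algebraMvPolynomial in



open MvPolynomial in
theorem exists_integral_multiples (A : Type u) [CommRing A]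
    (L : Type v) [CommRing L] [Algebra A L] [Algebra ℚ L]
    [IsLocalization (Algebra.algebraMapSubmonoid A (nonZeroDivisors ℤ)) L] (s : ℕ)
    (g : MvPolynomial (Fin s) ℚ →ₐ[ℚ] L) (hint : g.toRingHom.IsIntegral) :
    ∃ x : Fin s → A, ∀ a : A, ∃ K : ℤ, K ≠ 0 ∧
      (MvPolynomial.aeval x : MvPolynomial (Fin s) ℤ →ₐ[ℤ] A).toRingHom.IsIntegralElem (K • a) := by
  classical
  have hex : ∀ j : Fin s, ∃ (a : A) (n : ℤ), n ≠ 0 ∧
      g (X j) * algebraMap A L (n : A) = algebraMap A L a := by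
    intro j
    obtain ⟨⟨a, m⟩, h⟩ := IsLocalization.surj (Algebra.algebraMapSubmonoid A (nonZeroDivisors ℤ))
      (g (X j))
    obtain ⟨n, hn, hnm⟩ := m.2
    refine ⟨a, n, nonZeroDivisors.ne_zero hn, ?_⟩
    rw [← h, ← hnm]
    simp
  choose x n hn hx using hex
  -- rescale the variables
  let θ : MvPolynomial (Fin s) ℚ →ₐ[ℚ] MvPolynomial (Fin s) ℚ :=
    aeval (fun j => C (n j : ℚ) * X j)
  have hθ : Function.Surjective θ := by
    rw [← AlgHom.range_eq_top, eq_top_iff, ← MvPolynomial.adjoin_range_X]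
    refine Algebra.adjoin_le ?_
    rintro _ ⟨j, rfl⟩
    refine ⟨C ((n j : ℚ)⁻¹) * X j, ?_⟩
    have hnj : (n j : ℚ) ≠ 0 := by exact_mod_cast hn j
    change θ (C ((n j : ℚ)⁻¹) * X j) = X j
    simp only [θ, map_mul, aeval_C, aeval_X, MvPolynomial.algebraMap_eq]
    rw [← mul_assoc, ← C_mul, inv_mul_cancel₀ hnj, C_1, one_mul]
  obtain ⟨g', hg'def⟩ : ∃ g' : MvPolynomial (Fin s) ℚ →ₐ[ℚ] L, g' = g.comp θ := ⟨_, rfl⟩
  have hg' : ∀ j, g' (X j) = algebraMap A L (x j) := by
    intro j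
    rw [hg'def, AlgHom.comp_apply]
    simp only [θ, aeval_X, map_mul]
    rw [← hx j, mul_comm]
    congr 1
    rw [← MvPolynomial.algebraMap_eq, AlgHom.commutes]
    simp
  have hint' : g'.toRingHom.IsIntegral := by
    rw [hg'def]
    exact RingHom.IsIntegral.trans _ _ (RingHom.isIntegral_of_surjective _ hθ) hint
  refine ⟨x, fun a => ?_⟩
  letI algZA : Algebra (MvPolynomial (Fin s) ℤ) A :=
    (aeval x : MvPolynomial (Fin s) ℤ →ₐ[ℤ] A).toRingHom.toAlgebra
  letI algZL : Algebra (MvPolynomial (Fin s) ℤ) L :=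
    ((algebraMap A L).comp (aeval x : MvPolynomial (Fin s) ℤ →ₐ[ℤ] A).toRingHom).toAlgebra
  haveI : IsScalarTower (MvPolynomial (Fin s) ℤ) A L :=
    IsScalarTower.of_algebraMap_eq (fun _ => rfl)
  letI algQL : Algebra (MvPolynomial (Fin s) ℚ) L := g'.toRingHom.toAlgebra
  haveI : IsScalarTower (MvPolynomial (Fin s) ℤ) (MvPolynomial (Fin s) ℚ) L := by
    refine IsScalarTower.of_algebraMap_eq' ?_
    apply MvPolynomial.ringHom_ext
    · intro k
      change algebraMap A L (aeval x (C k)) = g' (MvPolynomial.map (algebraMap ℤ ℚ) (C k))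
      rw [MvPolynomial.map_C, ← MvPolynomial.algebraMap_eq, AlgHom.commutes]
      simp
    · intro j
      change algebraMap A L (aeval x (X j)) = g' (MvPolynomial.map (algebraMap ℤ ℚ) (X j))
      rw [MvPolynomial.map_X, hg', aeval_X]
  have hLint : IsIntegral (MvPolynomial (Fin s) ℚ) (algebraMap A L a) := hint' _
  obtain ⟨m, hm⟩ := IsIntegral.exists_multiple_integral_of_isLocalization
    ((nonZeroDivisors ℤ).map (C : ℤ →+* MvPolynomial (Fin s) ℤ)) (algebraMap A L a) hLint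
  obtain ⟨n₁, hn₁, hm1⟩ := m.2
  have hm' : IsIntegral (MvPolynomial (Fin s) ℤ) (algebraMap A L (n₁ • a)) := by
    convert hm using 1
    rw [Submonoid.smul_def, Algebra.smul_def, ← hm1]
    change _ = algebraMap A L (aeval x (C n₁)) * _
    simp
  have hsub : Algebra.algebraMapSubmonoid A
      ((nonZeroDivisors ℤ).map (C : ℤ →+* MvPolynomial (Fin s) ℤ)) =
      Algebra.algebraMapSubmonoid A (nonZeroDivisors ℤ) := by
    ext z
    simp only [Algebra.algebraMapSubmonoid, Submonoid.mem_map]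
    constructor
    · rintro ⟨_, ⟨k, hk, rfl⟩, rfl⟩
      refine ⟨k, hk, ?_⟩
      change _ = aeval x (C k)
      simp
    · rintro ⟨k, hk, rfl⟩
      refine ⟨C k, ⟨k, hk, rfl⟩, ?_⟩
      change aeval x (C k) = _
      simp
  haveI : IsLocalization (Algebra.algebraMapSubmonoid A
      ((nonZeroDivisors ℤ).map (C : ℤ →+* MvPolynomial (Fin s) ℤ))) L := hsub ▸ inferInstance
  obtain ⟨m', hm'mem, hm'int⟩ := IsLocalization.exists_isIntegral_smul_of_isIntegral_map
    (R := MvPolynomial (Fin s) ℤ) (S := A) (Sₘ := L)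
    ((nonZeroDivisors ℤ).map (C : ℤ →+* MvPolynomial (Fin s) ℤ)) (x := n₁ • a) hm'
  obtain ⟨n₂, hn₂, rfl⟩ := hm'mem
  refine ⟨n₂ * n₁, mul_ne_zero (nonZeroDivisors.ne_zero hn₂) (nonZeroDivisors.ne_zero hn₁), ?_⟩
  have hfin : IsIntegral (MvPolynomial (Fin s) ℤ) ((n₂ * n₁) • a) := by
    convert hm'int using 1
    rw [Algebra.smul_def]
    change _ = aeval x (C n₂) * _
    simp [mul_assoc]
  exact hfin



/-- ring homomorphisms are `ℤ`-algebra homomorphisms. -/
def ringHomEquivIntAlgHom (A : Type u) [CommRing A] (F : Type w) [CommRing F] :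
    (A →+* F) ≃ (A →ₐ[ℤ] F) where
  toFun ψ := ψ.toIntAlgHom
  invFun ψ := ψ.toRingHom
  left_inv _ := rfl
  right_inv _ := rfl

open TensorProduct

section

attribute [local instance] Algebra.TensorProduct.rightAlgebra

theorem generic_bound (A : Type u) [CommRing A] [Algebra.FiniteType ℤ A] (r : ℕ)
    (hr : ringKrullDim A ≤ r) :
    ∃ N p₀ : ℕ, ∀ (p : ℕ) (F : Type w) [Field F] [Finite F] [CharP F p], p.Prime → p₀ ≤ p →
      Nat.card (A →+* F) * Nat.card F ≤ N * Nat.card F ^ r := by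
  classical
  haveI hloc : IsLocalization (Algebra.algebraMapSubmonoid A (nonZeroDivisors ℤ)) (ℚ ⊗[ℤ] A) :=
    IsLocalization.tensorRight ℚ (nonZeroDivisors ℤ)
  by_cases hnt : Nontrivial (ℚ ⊗[ℤ] A)
  swap
  · rw [not_nontrivial_iff_subsingleton] at hnt
    have h0 : algebraMap A (ℚ ⊗[ℤ] A) 1 = 0 := Subsingleton.elim _ _
    obtain ⟨⟨_, n, hn, rfl⟩, h⟩ := (IsLocalization.map_eq_zero_iff
      (Algebra.algebraMapSubmonoid A (nonZeroDivisors ℤ)) _ 1).mp h0
    refine ⟨0, n.natAbs + 1, fun p F _ _ _ hp hle => ?_⟩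
    haveI : IsEmpty (A →+* F) := ⟨fun ψ => by
      have h1 : ψ (algebraMap ℤ A n * 1) = 0 := by rw [h, map_zero]
      rw [mul_one, eq_intCast, map_intCast, CharP.intCast_eq_zero_iff F p] at h1
      have h2 : p ∣ n.natAbs := Int.natCast_dvd.mp h1
      have h3 : 0 < n.natAbs := Int.natAbs_pos.mpr (nonZeroDivisors.ne_zero hn)
      have := Nat.le_of_dvd h3 h2
      omega⟩
    simp
  · obtain ⟨s, g, hinj, hint⟩ := exists_integral_inj_algHom_of_fg ℚ (ℚ ⊗[ℤ] A)
    have hdim := ArithBoundA.ringKrullDim_of_integral_injective g hinj hint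
    have hs1 : ((s + 1 : ℕ) : WithBot ℕ∞) ≤ ringKrullDim A :=
      succ_le_ringKrullDim A (ℚ ⊗[ℤ] A) s hdim.ge
    have hsr : s + 1 ≤ r := by exact_mod_cast hs1.trans hr
    obtain ⟨x, hx⟩ := exists_integral_multiples A (ℚ ⊗[ℤ] A) s g hint
    choose K hK0 hKint using hx
    obtain ⟨S, hS⟩ := (inferInstance : Algebra.FiniteType ℤ A).out
    obtain ⟨N, hN⟩ := ArithBoundA.card_algHom_le_of_integral.{u, 0, w} ℤ A S hS s x K
      (fun a _ => hKint a)
    refine ⟨N, (∏ a ∈ S, (K a).natAbs) + 1, fun p F _ _ _ hp hle => ?_⟩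
    have hKF : ∀ a ∈ S, algebraMap ℤ F (K a) ≠ 0 := by
      intro a ha h1
      rw [eq_intCast, CharP.intCast_eq_zero_iff F p] at h1
      have h2 : p ∣ (K a).natAbs := Int.natCast_dvd.mp h1
      have h3 : (K a).natAbs ∣ ∏ b ∈ S, (K b).natAbs := Finset.dvd_prod_of_mem _ ha
      have h4 : 0 < ∏ b ∈ S, (K b).natAbs :=
        Finset.prod_pos fun b _ => Int.natAbs_pos.mpr (hK0 b)
      have := Nat.le_of_dvd h4 (h2.trans h3)
      omega
    have h1 := hN F hKF
    rw [← Nat.card_congr (ringHomEquivIntAlgHom A F)] at h1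
    calc Nat.card (A →+* F) * Nat.card F ≤ N * Nat.card F ^ s * Nat.card F :=
          Nat.mul_le_mul_right _ h1
      _ = N * Nat.card F ^ (s + 1) := by rw [pow_succ, mul_assoc]
      _ ≤ N * Nat.card F ^ r :=
          Nat.mul_le_mul_left _ (Nat.pow_le_pow_right Nat.card_pos hsr)




theorem finite_algHom (R₀ : Type v) [CommRing R₀] (B : Type u) [CommRing B] [Algebra R₀ B]
    [Algebra.FiniteType R₀ B] (F : Type w) [CommRing F] [Algebra R₀ F] [Finite F] :
    Finite (B →ₐ[R₀] F) := by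
  obtain ⟨S, hS⟩ := (inferInstance : Algebra.FiniteType R₀ B).out
  exact Finite.of_injective (fun ψ : B →ₐ[R₀] F => fun a : S => ψ a.1)
    (fun ψ ψ' e => AlgHom.ext_of_adjoin_eq_top hS fun a ha => congrFun e ⟨a, ha⟩)

theorem includeRight_surjective (A : Type u) [CommRing A] (p : ℕ) [NeZero p] :
    Function.Surjective (Algebra.TensorProduct.includeRight : A →ₐ[ℤ] ZMod p ⊗[ℤ] A) := by
  intro z
  induction z using TensorProduct.induction_on with
  | zero => exact ⟨0, map_zero _⟩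
  | tmul c a =>
    obtain ⟨n, rfl⟩ := ZMod.intCast_surjective c
    refine ⟨n • a, ?_⟩
    rw [Algebra.TensorProduct.includeRight_apply, ← TensorProduct.smul_tmul]
    simp
  | add z w hz hw =>
    obtain ⟨a, rfl⟩ := hz
    obtain ⟨b, rfl⟩ := hw
    exact ⟨a + b, map_add _ _ _⟩

theorem fibre_bound (A : Type u) [CommRing A] [Algebra.FiniteType ℤ A] (r : ℕ)
    (hr : ringKrullDim A ≤ r) (p : ℕ) [Fact p.Prime] :
    ∃ N : ℕ, ∀ (F : Type w) [Field F] [Finite F] [CharP F p],
      Nat.card (A →+* F) ≤ N * Nat.card F ^ r := by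
  have hdim : ringKrullDim (ZMod p ⊗[ℤ] A) ≤ r :=
    (ringKrullDim_le_of_surjective
      (Algebra.TensorProduct.includeRight : A →ₐ[ℤ] ZMod p ⊗[ℤ] A).toRingHom
      (includeRight_surjective A p)).trans hr
  obtain ⟨N, hN⟩ := ArithBoundA.card_algHom_le.{u, 0, w} (ZMod p) (ZMod p ⊗[ℤ] A) r hdim
  refine ⟨N, fun F _ _ _ => ?_⟩
  letI : Algebra (ZMod p) F := ZMod.algebra F p
  refine le_trans ?_ (hN F)
  let Φ : (A →+* F) → (ZMod p ⊗[ℤ] A →ₐ[ZMod p] F) := fun ψ =>
    Algebra.TensorProduct.lift (Algebra.ofId (ZMod p) F) ψ.toIntAlgHom (fun _ _ => Commute.all _ _)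
  have hΦ : Function.Injective Φ := by
    intro ψ ψ' h
    ext a
    have h1 := congrArg (fun φ : ZMod p ⊗[ℤ] A →ₐ[ZMod p] F => φ (1 ⊗ₜ a)) h
    simpa [Φ] using h1
  haveI := finite_algHom (ZMod p) (ZMod p ⊗[ℤ] A) F
  exact Nat.card_le_card_of_injective Φ hΦ


theorem card_ringHom_le (A : Type u) [CommRing A] [Algebra.FiniteType ℤ A] (r : ℕ)
    (hr : ringKrullDim A ≤ r) :
    ∃ N p₀ : ℕ, ∀ (p : ℕ) (F : Type w) [Field F] [Finite F] [CharP F p], p.Prime →
      Nat.card (A →+* F) ≤ N * Nat.card F ^ r ∧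
      (p₀ ≤ p → Nat.card (A →+* F) * Nat.card F ≤ N * Nat.card F ^ r) := by
  classical
  obtain ⟨N₀, p₀, h₀⟩ := generic_bound.{u, w} A r hr
  have hf : ∀ p : ℕ, ∃ N : ℕ, p.Prime → ∀ (F : Type w) [Field F] [Finite F] [CharP F p],
      Nat.card (A →+* F) ≤ N * Nat.card F ^ r := by
    intro p
    by_cases hp : p.Prime
    · haveI : Fact p.Prime := ⟨hp⟩
      obtain ⟨N, hN⟩ := fibre_bound.{u, w} A r hr p
      exact ⟨N, fun _ F _ _ _ => hN F⟩
    · exact ⟨0, fun h => absurd h hp⟩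
  choose Nf hNf using hf
  refine ⟨N₀ + ∑ p ∈ Finset.range p₀, Nf p, p₀, fun p F _ _ _ hp => ⟨?_, fun hle => ?_⟩⟩
  · by_cases hle : p₀ ≤ p
    · have h1 := h₀ p F hp hle
      have h2 : Nat.card (A →+* F) ≤ Nat.card (A →+* F) * Nat.card F :=
        Nat.le_mul_of_pos_right _ Nat.card_pos
      refine (h2.trans h1).trans (Nat.mul_le_mul_right _ (Nat.le_add_right _ _))
    · have h1 := hNf p hp F
      refine h1.trans (Nat.mul_le_mul_right _ ?_)
      have h2 : Nf p ≤ ∑ q ∈ Finset.range p₀, Nf q :=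
        Finset.single_le_sum (f := Nf) (fun _ _ => Nat.zero_le _)
          (Finset.mem_range.mpr (not_le.mp hle))
      omega
  · exact (h₀ p F hp hle).trans (Nat.mul_le_mul_right _ (Nat.le_add_right _ _))

end

end Groth.Agent.Lib.Seat72.ArithBoundB
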