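import Mathlib
import Groth.Agent.Lib.Seat72ArithBoundB
import Groth.Agent.Lib.Helper10GaloisOrbit

/-!
# Seat72: the number of points of an arithmetic scheme in finite fields

For `X` of finite type over `ℤ` of dimension `≤ r` there are `N`, `p₀` with
`#X(F) ≤ N (#F)^r` for all finite fields `F` and `#X(F) · #F ≤ N (#F)^r` when `char F ≥ p₀`.
-/

set_option autoImplicit false
set_option maxSynthPendingDepth 3
set_option linter.style.haveILetI false
set_option linter.unusedSectionVars false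

universe u

open AlgebraicGeometry CategoryTheory CategoryTheory.Limits

namespace Groth.Agent.Lib.Seat72.ArithBoundC

open Groth.Agent.Lib.Helper10.GaloisOrbit

section Affine

variable {Y : Scheme.{u}} [IsAffine Y]

/-- a point gives a ring homomorphism on global sections. -/
noncomputable def ptsToRingHom (F : Type u) [Field F] (h : Spec (CommRingCat.of F) ⟶ Y) :
    Γ(Y, ⊤) →+* F :=
  (h.appTop ≫ (Scheme.ΓSpecIso (CommRingCat.of F)).hom).hom

theorem ptsToRingHom_injective (F : Type u) [Field F] :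
    Function.Injective (ptsToRingHom (Y := Y) F) := by
  intro h h' e
  apply ext_of_isAffine
  rw [← cancel_mono (Scheme.ΓSpecIso (CommRingCat.of F)).hom]
  ext s
  exact DFunLike.congr_fun e s

theorem finiteType_int (g : Y ⟶ Spec (CommRingCat.of (ULift.{u} ℤ))) [LocallyOfFiniteType g] :
    Algebra.FiniteType ℤ Γ(Y, ⊤) := by
  have h1 : g.appTop.hom.FiniteType :=
    HasRingHomProperty.appTop @LocallyOfFiniteType g (inferInstance : LocallyOfFiniteType g)
  have h2 : (Scheme.ΓSpecIso (CommRingCat.of (ULift.{u} ℤ))).inv.hom.FiniteType :=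
    RingHom.FiniteType.of_surjective _
      (Scheme.ΓSpecIso (CommRingCat.of (ULift.{u} ℤ))).commRingCatIsoToRingEquiv.symm.surjective
  have h3 : (ULift.ringEquiv.{0, u} (R := ℤ)).symm.toRingHom.FiniteType :=
    RingHom.FiniteType.of_surjective _ (ULift.ringEquiv.{0, u} (R := ℤ)).symm.surjective
  have h4 := (h1.comp h2).comp h3
  rw [← RingHom.finiteType_algebraMap]
  convert h4 using 1
  exact RingHom.ext_int _ _

theorem finite_pts (g : Y ⟶ Spec (CommRingCat.of (ULift.{u} ℤ))) [LocallyOfFiniteType g]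
    (F : Type u) [Field F] [Finite F] : Finite (Spec (CommRingCat.of F) ⟶ Y) := by
  haveI := finiteType_int g
  haveI := ArithBoundB.finite_algHom ℤ Γ(Y, ⊤) F
  haveI : Finite (Γ(Y, ⊤) →+* F) :=
    Finite.of_equiv _ (ArithBoundB.ringHomEquivIntAlgHom Γ(Y, ⊤) F).symm
  exact Finite.of_injective _ (ptsToRingHom_injective F)

theorem card_pts_affine_le (g : Y ⟶ Spec (CommRingCat.of (ULift.{u} ℤ))) [LocallyOfFiniteType g]
    (r : ℕ) (hr : topologicalKrullDim Y ≤ r) :
    ∃ N p₀ : ℕ, ∀ (p : ℕ) (F : Type u) [Field F] [Finite F] [CharP F p], p.Prime →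
      Nat.card (Spec (CommRingCat.of F) ⟶ Y) ≤ N * Nat.card F ^ r ∧
      (p₀ ≤ p → Nat.card (Spec (CommRingCat.of F) ⟶ Y) * Nat.card F ≤ N * Nat.card F ^ r) := by
  haveI := finiteType_int g
  have hdim : ringKrullDim Γ(Y, ⊤) ≤ r := by
    rw [← PrimeSpectrum.topologicalKrullDim_eq_ringKrullDim]
    have := IsHomeomorph.topologicalKrullDim_eq _ (Scheme.homeoOfIso Y.isoSpec).isHomeomorph
    change topologicalKrullDim Y = topologicalKrullDim (PrimeSpectrum Γ(Y, ⊤)) at this
    rw [← this]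
    exact hr
  obtain ⟨N, p₀, hN⟩ := ArithBoundB.card_ringHom_le.{u, u} Γ(Y, ⊤) r hdim
  refine ⟨N, p₀, fun p F _ _ _ hp => ?_⟩
  haveI := ArithBoundB.finite_algHom ℤ Γ(Y, ⊤) F
  haveI : Finite (Γ(Y, ⊤) →+* F) :=
    Finite.of_equiv _ (ArithBoundB.ringHomEquivIntAlgHom Γ(Y, ⊤) F).symm
  have hle := Nat.card_le_card_of_injective _ (ptsToRingHom_injective (Y := Y) F)
  obtain ⟨h1, h2⟩ := hN p F hp
  exact ⟨hle.trans h1, fun h => (Nat.mul_le_mul_right _ hle).trans (h2 h)⟩

end Affine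

section General

variable {X : Scheme.{u}} (f : X ⟶ Spec (CommRingCat.of (ULift.{u} ℤ)))
  [LocallyOfFiniteType f] [QuasiCompact f]

theorem exists_lift (F : Type u) [Field F] (U : X.Opens) (a : Spec (CommRingCat.of F) ⟶ X)
    (ha : a (IsLocalRing.closedPoint F) ∈ U) :
    ∃ b : Spec (CommRingCat.of F) ⟶ (U : Scheme.{u}), b ≫ U.ι = a := by
  have hrange : Set.range a ⊆ Set.range U.ι := by
    rw [range_eq_singleton, Set.singleton_subset_iff, Scheme.Opens.range_ι]
    exact ha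
  exact ⟨IsOpenImmersion.lift U.ι a hrange, IsOpenImmersion.lift_fac U.ι a hrange⟩

include f in
theorem card_pts_le (r : ℕ) (hr : topologicalKrullDim X ≤ r) :
    ∃ N p₀ : ℕ, ∀ (p : ℕ) (F : Type u) [Field F] [Finite F] [CharP F p], p.Prime →
      Finite (Spec (CommRingCat.of F) ⟶ X) ∧
      Nat.card (Spec (CommRingCat.of F) ⟶ X) ≤ N * Nat.card F ^ r ∧
      (p₀ ≤ p → Nat.card (Spec (CommRingCat.of F) ⟶ X) * Nat.card F ≤ N * Nat.card F ^ r) := by
  classical
  haveI : CompactSpace X := QuasiCompact.compactSpace_of_compactSpace f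
  have hex : ∀ x : X, ∃ U : X.Opens, IsAffineOpen U ∧ x ∈ U := fun x => by
    obtain ⟨U, hU, hxU, -⟩ := exists_isAffineOpen_mem_and_subset (U := ⊤) (x := x) trivial
    exact ⟨U, hU, hxU⟩
  choose U hU hxU using hex
  obtain ⟨t, ht⟩ := isCompact_univ.elim_nhds_subcover (fun x => (U x : Set X))
    (fun x _ => (U x).isOpen.mem_nhds (hxU x))
  have hN : ∀ y : X, ∃ N p₀ : ℕ, ∀ (p : ℕ) (F : Type u) [Field F] [Finite F] [CharP F p],
      p.Prime →
      Nat.card (Spec (CommRingCat.of F) ⟶ (U y : Scheme.{u})) ≤ N * Nat.card F ^ r ∧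
      (p₀ ≤ p → Nat.card (Spec (CommRingCat.of F) ⟶ (U y : Scheme.{u})) * Nat.card F ≤
        N * Nat.card F ^ r) := by
    intro y
    haveI : IsAffine (U y) := hU y
    refine card_pts_affine_le ((U y).ι ≫ f) r (le_trans ?_ hr)
    exact Topology.IsInducing.topologicalKrullDim_le (U y).ι.isOpenEmbedding.isInducing
  choose N p₀ hN using hN
  refine ⟨∑ y ∈ t, N y, ∑ y ∈ t, p₀ y, fun p F _ _ _ hp => ?_⟩
  haveI : ∀ y : t, Finite (Spec (CommRingCat.of F) ⟶ (U y.1 : Scheme.{u})) := fun y => by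
    haveI : IsAffine (U y.1) := hU y.1
    exact finite_pts ((U y.1).ι ≫ f) F
  let Ψ : (Σ y : t, (Spec (CommRingCat.of F) ⟶ (U y.1 : Scheme.{u}))) →
      (Spec (CommRingCat.of F) ⟶ X) := fun q => q.2 ≫ (U q.1.1).ι
  have hΨ : Function.Surjective Ψ := by
    intro a
    obtain ⟨y, hyt, hay⟩ := Set.mem_iUnion₂.mp
      (ht.2 (Set.mem_univ (a (IsLocalRing.closedPoint F))))
    obtain ⟨b, hb⟩ := exists_lift F (U y) a hay
    exact ⟨⟨⟨y, hyt⟩, b⟩, hb⟩
  have hfin : Finite (Spec (CommRingCat.of F) ⟶ X) := Finite.of_surjective Ψ hΨ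
  have hcard : Nat.card (Spec (CommRingCat.of F) ⟶ X) ≤
      ∑ y ∈ t, Nat.card (Spec (CommRingCat.of F) ⟶ (U y : Scheme.{u})) := by
    refine (Nat.card_le_card_of_surjective Ψ hΨ).trans ?_
    rw [Nat.card_sigma, ← Finset.sum_coe_sort t
      (fun y => Nat.card (Spec (CommRingCat.of F) ⟶ (U y : Scheme.{u})))]
  refine ⟨hfin, ?_, fun hle => ?_⟩
  · refine hcard.trans ?_
    rw [Finset.sum_mul]
    exact Finset.sum_le_sum fun y _ => (hN y p F hp).1
  · refine (Nat.mul_le_mul_right _ hcard).trans ?_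
    rw [Finset.sum_mul, Finset.sum_mul]
    refine Finset.sum_le_sum fun y hy => (hN y p F hp).2 ?_
    exact (Finset.single_le_sum (f := p₀) (fun _ _ => Nat.zero_le _) hy).trans hle

end General

end Groth.Agent.Lib.Seat72.ArithBoundC
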