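import Mathlib
import Groth.Agent.Lib.Seat72ArithBoundC

/-!
# Seat72: the real-exponent form of the point count bound for arithmetic schemes
-/

set_option autoImplicit false
set_option maxSynthPendingDepth 3
set_option linter.style.haveILetI false
set_option linter.unusedSectionVars false

universe u

open AlgebraicGeometry CategoryTheory CategoryTheory.Limits

namespace Groth.Agent.Lib.Seat72.ArithBoundD

/-- a field with `p ^ m` elements (`m ≥ 1`) is finite of characteristic `p`. -/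
theorem finite_and_charP (p m : ℕ) (hp : p.Prime) (hm : 1 ≤ m) (F : Type u) [Field F]
    (hF : Nat.card F = p ^ m) : Finite F ∧ CharP F p := by
  have hfin : Finite F := Nat.finite_of_card_ne_zero (by rw [hF]; exact pow_ne_zero _ hp.ne_zero)
  refine ⟨hfin, ?_⟩
  haveI := Fintype.ofFinite F
  obtain ⟨q, hq⟩ := CharP.exists F
  obtain ⟨n, hqp, hn⟩ := FiniteField.card F q
  rw [← Nat.card_eq_fintype_card, hF] at hn
  have h1 : p ∣ q ^ (n : ℕ) := by
    rw [← hn]
    exact dvd_pow_self p (by omega)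
  have h2 : p = q := (Nat.prime_dvd_prime_iff_eq hp hqp).mp (hp.dvd_of_dvd_pow h1)
  rw [h2]
  exact hq

theorem main {X : Scheme.{u}}
    (f : X ⟶ Spec (CommRingCat.of (ULift.{u} ℤ))) [LocallyOfFiniteType f] [QuasiCompact f] (r : ℕ)
    (hr : topologicalKrullDim X ≤ r) :
    ∃ (c : ℝ) (p₀ : ℕ), 0 < c ∧ ∀ (p m : ℕ), p.Prime → 1 ≤ m →
      ∀ (F : Type u) [Field F], Nat.card F = p ^ m →
        (p₀ ≤ p → (Nat.card (Spec (CommRingCat.of F) ⟶ X) : ℝ) ≤
            c * (p : ℝ) ^ ((m : ℝ) * ((r : ℝ) - 1))) ∧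
        (p < p₀ → (Nat.card (Spec (CommRingCat.of F) ⟶ X) : ℝ) ≤ c * (p : ℝ) ^ ((m : ℝ) * r)) := by
  obtain ⟨N, p₀, hN⟩ := ArithBoundC.card_pts_le f r hr
  refine ⟨(N : ℝ) + 1, p₀, by positivity, fun p m hp hm F _ hF => ?_⟩
  obtain ⟨hfin, hchar⟩ := finite_and_charP p m hp hm F hF
  obtain ⟨-, h1, h2⟩ := hN p F hp
  have hp0 : (0 : ℝ) < p := by exact_mod_cast hp.pos
  have hq : ((p : ℝ) ^ (m : ℝ)) = ((Nat.card F : ℕ) : ℝ) := by
    rw [hF, Real.rpow_natCast]
    push_cast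
    rfl
  have hq0 : (0 : ℝ) < ((Nat.card F : ℕ) : ℝ) := by
    rw [← hq]
    exact Real.rpow_pos_of_pos hp0 _
  constructor
  · intro hle
    have h3 := h2 hle
    rw [Real.rpow_mul hp0.le, hq, Real.rpow_sub_one hq0.ne', Real.rpow_natCast]
    have h4 : (Nat.card (Spec (CommRingCat.of F) ⟶ X) : ℝ) * (Nat.card F : ℝ) ≤
        (N : ℝ) * (Nat.card F : ℝ) ^ r := by exact_mod_cast h3
    rw [← mul_div_assoc, le_div_iff₀ hq0]
    refine h4.trans ?_
    have : (0 : ℝ) ≤ (Nat.card F : ℝ) ^ r := by positivity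
    nlinarith
  · intro _
    rw [Real.rpow_mul hp0.le, hq, Real.rpow_natCast]
    have h4 : (Nat.card (Spec (CommRingCat.of F) ⟶ X) : ℝ) ≤
        (N : ℝ) * (Nat.card F : ℝ) ^ r := by exact_mod_cast h1
    refine h4.trans ?_
    have : (0 : ℝ) ≤ (Nat.card F : ℝ) ^ r := by positivity
    nlinarith

end Groth.Agent.Lib.Seat72.ArithBoundD
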