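import Mathlib

/-!
# Seat72: Dirichlet series of effective cycles (abstract Euler product)

For a family of "norms" `ν : I → ℕ` (`ν i ≥ 2`), `coeff ν n` is the number of finitely supported
`α : I →₀ ℕ` with `∏ ν i ^ α i = n`.  If `∑ ν i ^ (-σ)` converges for all `σ > r ≥ 0`, then the
Dirichlet series `∑ coeff ν n · n ^ (-s)` converges absolutely for `Re s > r` and does not vanish
there (`main`).  Nonvanishing is proved by sieving (`tsum_F`): removing finitely many `i` multiplies
the series by `∏ (1 - ν i ^ (-s))` and makes it close to `1`.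
-/

set_option autoImplicit false
set_option maxSynthPendingDepth 3
set_option linter.style.haveILetI false
set_option linter.unusedSectionVars false

namespace Groth.Agent.Lib.Seat72.EulerSeries

variable {I : Type*} (ν : I → ℕ)

/-- the norm of an effective cycle. -/
noncomputable def Nm (α : I →₀ ℕ) : ℕ := α.prod (fun i m => ν i ^ m)

theorem Nm_zero : Nm ν 0 = 1 := Finsupp.prod_zero_index

theorem Nm_add (α β : I →₀ ℕ) : Nm ν (α + β) = Nm ν α * Nm ν β :=
  Finsupp.prod_add_index' (fun _ => pow_zero _) (fun _ _ _ => pow_add _ _ _)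

theorem Nm_single (i : I) (m : ℕ) : Nm ν (Finsupp.single i m) = ν i ^ m :=
  Finsupp.prod_single_index (pow_zero _)

/-- the number of cycles of norm `n`. -/
noncomputable def coeff (n : ℕ) : ℂ := (Nat.card {α : I →₀ ℕ // Nm ν α = n} : ℂ)

/-- the term `N(α)^{-s}`. -/
noncomputable def G (s : ℂ) (α : I →₀ ℕ) : ℂ := (Nm ν α : ℂ) ^ (-s)

theorem G_zero (s : ℂ) : G ν s 0 = 1 := by
  rw [G, Nm_zero, Nat.cast_one, Complex.one_cpow]

theorem G_add (s : ℂ) (α β : I →₀ ℕ) : G ν s (α + β) = G ν s α * G ν s β := by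
  rw [G, Nm_add, Nat.cast_mul, Complex.natCast_mul_natCast_cpow]
  rfl

section Bounds

variable (hν : ∀ i, 2 ≤ ν i)
include hν

theorem Nm_pos (α : I →₀ ℕ) : 0 < Nm ν α :=
  Finset.prod_pos fun i _ => pow_pos (by have := hν i; omega) _

/-- the weight `N(α)^{-σ}` as a product. -/
theorem Nm_rpow (σ : ℝ) (α : I →₀ ℕ) :
    (Nm ν α : ℝ) ^ (-σ) = α.prod (fun i m => ((ν i : ℝ) ^ (-σ)) ^ m) := by
  unfold Nm Finsupp.prod
  push_cast
  rw [← Real.finsetProd_rpow _ _ (fun i _ => by positivity)]
  refine Finset.prod_congr rfl fun i _ => ?_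
  rw [← Real.rpow_natCast, ← Real.rpow_mul (by positivity), mul_comm,
    Real.rpow_mul (by positivity), Real.rpow_natCast]

theorem summable_Nm_rpow (σ : ℝ) (hσ : 0 < σ) (h : Summable fun i => (ν i : ℝ) ^ (-σ)) :
    Summable fun α : I →₀ ℕ => (Nm ν α : ℝ) ^ (-σ) := by
  classical
  set x : I → ℝ := fun i => (ν i : ℝ) ^ (-σ) with hx
  set x₀ : ℝ := (2 : ℝ) ^ (-σ) with hx₀
  have hx0 : ∀ i, 0 < x i := fun i => Real.rpow_pos_of_pos (by have := hν i; positivity) _
  have hxle : ∀ i, x i ≤ x₀ := fun i =>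
    Real.rpow_le_rpow_of_nonpos (by norm_num) (by exact_mod_cast hν i) (by linarith)
  have hx₀1 : x₀ < 1 := Real.rpow_lt_one_of_one_lt_of_neg (by norm_num) (by linarith)
  have hx₀0 : 0 < x₀ := Real.rpow_pos_of_pos (by norm_num) _
  have hgeom : ∀ i (n : ℕ), ∑ e ∈ Finset.range n, x i ^ e ≤ Real.exp (x i / (1 - x₀)) := by
    intro i n
    have h1 : x i < 1 := (hxle i).trans_lt hx₀1
    have h0 := geom_sum_Ico_le_of_lt_one (m := 0) (n := n) (hx0 i).le h1
    rw [← Finset.range_eq_Ico, pow_zero] at h0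
    refine h0.trans ?_
    have h2 : 1 / (1 - x i) = 1 + x i / (1 - x i) := by
      have : (1 - x i) ≠ 0 := by linarith
      field_simp
      ring
    rw [h2]
    have h3 : x i / (1 - x i) ≤ x i / (1 - x₀) :=
      div_le_div_of_nonneg_left (hx0 i).le (by linarith) (by linarith [hxle i])
    have := Real.add_one_le_exp (x i / (1 - x₀))
    linarith
  refine summable_of_sum_le (c := Real.exp ((∑' i, x i) / (1 - x₀)))
    (fun α => Real.rpow_nonneg (Nat.cast_nonneg _) _) fun u => ?_
  set T : Finset I := u.biUnion Finsupp.support with hT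
  set E : ℕ := u.sup (fun α => α.support.sup α) with hE
  have hsub : ∀ α ∈ u, α.support ⊆ T := fun α hα => Finset.subset_biUnion_of_mem _ hα
  have hle : ∀ α ∈ u, ∀ i, α i ≤ E := by
    intro α hα i
    by_cases hi : i ∈ α.support
    · exact (Finset.le_sup (f := α) hi).trans (Finset.le_sup (f := fun α => α.support.sup α) hα)
    · rw [Finsupp.notMem_support_iff] at hi
      rw [hi]
      exact Nat.zero_le _
  have hw : ∀ α ∈ u, (Nm ν α : ℝ) ^ (-σ) = ∏ i : T, x i ^ (α i) := by
    intro α hα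
    rw [Nm_rpow ν hν, Finsupp.prod_of_support_subset _ (hsub α hα) _ (fun i _ => pow_zero _),
      ← Finset.prod_coe_sort]
  let ι : (I →₀ ℕ) → (T → ℕ) := fun α i => α i
  have hinj : Set.InjOn ι u := by
    intro α hα β hβ hαβ
    ext i
    by_cases hi : i ∈ T
    · exact congrFun hαβ ⟨i, hi⟩
    · have h1 : i ∉ α.support := fun h => hi (hsub α hα h)
      have h2 : i ∉ β.support := fun h => hi (hsub β hβ h)
      rw [Finsupp.notMem_support_iff] at h1 h2
      rw [h1, h2]
  calc ∑ α ∈ u, (Nm ν α : ℝ) ^ (-σ) = ∑ α ∈ u, ∏ i : T, x i ^ (ι α i) :=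
        Finset.sum_congr rfl hw
    _ = ∑ g ∈ u.image ι, ∏ i : T, x i ^ (g i) := (Finset.sum_image (f := fun g : T → ℕ => ∏ i : T, x i ^ (g i)) hinj).symm
    _ ≤ ∑ g ∈ Fintype.piFinset (fun _ : T => Finset.range (E + 1)), ∏ i : T, x i ^ (g i) := by
        refine Finset.sum_le_sum_of_subset_of_nonneg ?_ fun g _ _ =>
          Finset.prod_nonneg fun i _ => pow_nonneg (hx0 i).le _
        intro g hg
        obtain ⟨α, hα, rfl⟩ := Finset.mem_image.mp hg
        rw [Fintype.mem_piFinset]
        intro i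
        rw [Finset.mem_range]
        exact Nat.lt_succ_of_le (hle α hα i)
    _ = ∏ i : T, ∑ e ∈ Finset.range (E + 1), x i ^ e :=
        (Finset.prod_univ_sum (fun _ : T => Finset.range (E + 1)) (fun i e => x i ^ e)).symm
    _ ≤ ∏ i : T, Real.exp (x i / (1 - x₀)) :=
        Finset.prod_le_prod (fun i _ => Finset.sum_nonneg fun e _ => pow_nonneg (hx0 i).le _)
          (fun i _ => hgeom i _)
    _ = Real.exp (∑ i : T, x i / (1 - x₀)) := (Real.exp_sum _ _).symm
    _ ≤ Real.exp ((∑' i, x i) / (1 - x₀)) := by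
        rw [Real.exp_le_exp, ← Finset.sum_div, Finset.sum_coe_sort T x]
        exact div_le_div_of_nonneg_right (h.sum_le_tsum _ fun i _ => (hx0 i).le) (by linarith)

theorem norm_G (s : ℂ) (α : I →₀ ℕ) : ‖G ν s α‖ = (Nm ν α : ℝ) ^ (-s.re) := by
  rw [G, Complex.norm_natCast_cpow_of_pos (Nm_pos ν hν α), Complex.neg_re]

theorem summable_G (s : ℂ) (h : Summable fun α : I →₀ ℕ => (Nm ν α : ℝ) ^ (-s.re)) :
    Summable (G ν s) := by
  refine Summable.of_norm ?_
  simpa only [norm_G ν hν] using h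

theorem term_eq (s : ℂ) (n : ℕ) :
    LSeries.term (coeff ν) s n = ∑' b : (Nm ν ⁻¹' {n} : Set (I →₀ ℕ)), G ν s b.1 := by
  have h1 : ∀ b : (Nm ν ⁻¹' {n} : Set (I →₀ ℕ)), G ν s b.1 = (n : ℂ) ^ (-s) := by
    intro b
    have hb : Nm ν b.1 = n := b.2
    rw [G, hb]
  rw [tsum_congr h1, tsum_const]
  rcases Nat.eq_zero_or_pos n with rfl | hn
  · have : IsEmpty (Nm ν ⁻¹' {0} : Set (I →₀ ℕ)) :=
      ⟨fun b => (Nm_pos ν hν b.1).ne' b.2⟩
    simp
  · rw [LSeries.term_of_ne_zero hn.ne', coeff, Complex.cpow_neg, nsmul_eq_mul, div_eq_mul_inv]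
    rfl

theorem hasSum_term (s : ℂ) (hS : Summable (G ν s)) :
    HasSum (LSeries.term (coeff ν) s) (∑' α, G ν s α) := by
  have := hS.hasSum.tsum_fiberwise (Nm ν)
  simpa only [← term_eq ν hν s] using this

theorem lseriesSummable (s : ℂ) (hS : Summable (G ν s)) : LSeriesSummable (coeff ν) s :=
  (hasSum_term ν hν s hS).summable

theorem lseries_eq (s : ℂ) (hS : Summable (G ν s)) : LSeries (coeff ν) s = ∑' α, G ν s α :=
  (hasSum_term ν hν s hS).tsum_eq

end Bounds

section Sieve

open Classical in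
/-- the sieved term: cycles not meeting `T`. -/
noncomputable def F (s : ℂ) (T : Finset I) (α : I →₀ ℕ) : ℂ :=
  if ∀ j ∈ T, α j = 0 then G ν s α else 0

theorem norm_F_le (s : ℂ) (T : Finset I) (α : I →₀ ℕ) : ‖F ν s T α‖ ≤ ‖G ν s α‖ := by
  unfold F
  split_ifs
  · exact le_rfl
  · rw [norm_zero]
    exact norm_nonneg _

theorem F_empty (s : ℂ) : F ν s ∅ = G ν s := by
  funext α
  simp [F]

variable {s : ℂ} (hN : Summable fun α : I →₀ ℕ => ‖G ν s α‖)
include hN

theorem summable_F (T : Finset I) : Summable (F ν s T) :=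
  Summable.of_norm_bounded hN (norm_F_le ν s T)

theorem tsum_F_insert [DecidableEq I] (T : Finset I) (i : I) (hi : i ∉ T) :
    ∑' α, F ν s (insert i T) α = (1 - (ν i : ℂ) ^ (-s)) * ∑' α, F ν s T α := by
  set sh : (I →₀ ℕ) → (I →₀ ℕ) := fun β => β + Finsupp.single i 1 with hsh
  have hinj : Function.Injective sh := add_left_injective _
  have h1 : ∀ β, F ν s T (sh β) = (ν i : ℂ) ^ (-s) * F ν s T β := by
    intro β
    have hc : (∀ j ∈ T, (sh β) j = 0) ↔ ∀ j ∈ T, β j = 0 := by
      refine forall₂_congr fun j hj => ?_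
      have hji : i ≠ j := fun h => hi (h ▸ hj)
      simp [hsh, hji]
    unfold F
    rw [if_congr hc rfl rfl]
    split_ifs
    · rw [hsh, G_add, mul_comm]
      congr 1
      rw [G, Nm_single, pow_one]
    · rw [mul_zero]
  have hrange : ∀ α : I →₀ ℕ, α ∈ Set.range sh ↔ α i ≠ 0 := by
    intro α
    constructor
    · rintro ⟨β, rfl⟩
      simp [hsh]
    · intro h
      refine ⟨α - Finsupp.single i 1, ?_⟩
      ext j
      by_cases hji : i = j
      · subst hji
        simp only [hsh, Finsupp.coe_add, Finsupp.coe_tsub, Pi.add_apply, Pi.sub_apply,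
          Finsupp.single_eq_same]
        omega
      · simp [hsh, hji]
  have h2 : ∀ α, F ν s (insert i T) α =
      F ν s T α - Set.indicator (Set.range sh) (F ν s T) α := by
    intro α
    by_cases hα : α i = 0
    · have hnr : α ∉ Set.range sh := fun h => (hrange α).mp h hα
      rw [Set.indicator_of_notMem hnr, sub_zero]
      unfold F
      refine if_congr ?_ rfl rfl
      simp [hα]
    · have hr : α ∈ Set.range sh := (hrange α).mpr hα
      rw [Set.indicator_of_mem hr, sub_self]
      unfold F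
      rw [if_neg]
      intro h
      exact hα (h i (Finset.mem_insert_self i T))
  have hsF := summable_F ν hN T
  have hsI : Summable (Set.indicator (Set.range sh) (F ν s T)) := hsF.indicator _
  have h3 : ∑' α, Set.indicator (Set.range sh) (F ν s T) α = ∑' β, F ν s T (sh β) := by
    rw [← hinj.tsum_eq (f := Set.indicator (Set.range sh) (F ν s T))
      Set.support_indicator_subset]
    exact tsum_congr fun β => Set.indicator_of_mem (Set.mem_range_self β) _
  rw [tsum_congr h2, hsF.tsum_sub hsI, h3, tsum_congr h1, tsum_mul_left]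
  ring

theorem tsum_F (T : Finset I) :
    ∑' α, F ν s T α = (∏ i ∈ T, (1 - (ν i : ℂ) ^ (-s))) * ∑' α, G ν s α := by
  classical
  induction T using Finset.induction_on with
  | empty => rw [F_empty, Finset.prod_empty, one_mul]
  | insert i T hi ih =>
    rw [tsum_F_insert ν hN T i hi, ih, Finset.prod_insert hi, mul_assoc]

theorem tsum_G_ne_zero : ∑' α, G ν s α ≠ 0 := by
  classical
  intro h0
  have htail := tendsto_tsum_compl_atTop_zero (fun α : I →₀ ℕ => ‖G ν s α‖)
  obtain ⟨u, hu⟩ := ((tendsto_order.1 htail).2 1 zero_lt_one).exists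
  set T : Finset I := u.biUnion Finsupp.support with hT
  have hsF := summable_F ν hN T
  have h1 := hsF.tsum_eq_add_tsum_ite (0 : I →₀ ℕ)
  have hF0 : F ν s T 0 = 1 := by
    unfold F
    rw [if_pos (fun j _ => Finsupp.zero_apply), G_zero]
  rw [tsum_F ν hN T, h0, mul_zero, hF0] at h1
  -- the remainder has norm `< 1`
  set R : (I →₀ ℕ) → ℂ := fun α => if α = 0 then 0 else F ν s T α with hR
  have hRle : ∀ α, ‖R α‖ ≤ Set.indicator {x | x ∉ u} (fun α => ‖G ν s α‖) α := by
    intro α
    by_cases hα0 : α = 0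
    · rw [hR]
      simp only [hα0, if_true, norm_zero]
      exact Set.indicator_nonneg (fun _ _ => norm_nonneg _) _
    · by_cases hαu : α ∈ u
      · have hFz : F ν s T α = 0 := by
          unfold F
          rw [if_neg]
          intro hall
          apply hα0
          ext j
          by_cases hj : j ∈ α.support
          · exact hall j (Finset.mem_biUnion.mpr ⟨α, hαu, hj⟩)
          · exact Finsupp.notMem_support_iff.mp hj
        rw [hR]
        simp only [hα0, if_false, hFz, norm_zero]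
        exact Set.indicator_nonneg (fun _ _ => norm_nonneg _) _
      · rw [Set.indicator_of_mem (show α ∈ {x | x ∉ u} from hαu), hR]
        simp only [hα0, if_false]
        exact norm_F_le ν s T α
  have hIs : Summable (Set.indicator {x | x ∉ u} (fun α => ‖G ν s α‖)) := hN.indicator _
  have hRs : Summable fun α => ‖R α‖ :=
    Summable.of_nonneg_of_le (fun _ => norm_nonneg _) hRle hIs
  have h2 : ‖∑' α, R α‖ < 1 := by
    refine (norm_tsum_le_tsum_norm hRs).trans_lt ?_
    refine (hRs.tsum_le_tsum hRle hIs).trans_lt ?_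
    rw [← tsum_subtype {x | x ∉ u} (fun α => ‖G ν s α‖)]
    exact hu
  have h3 : ∑' α, R α = -1 := by
    have : (0 : ℂ) = 1 + ∑' α, R α := h1
    linear_combination -this
  rw [h3, norm_neg, norm_one] at h2
  exact lt_irrefl _ h2

end Sieve

section Main

variable (hν : ∀ i, 2 ≤ ν i)
include hν

theorem main (r : ℝ) (hr : 0 ≤ r) (h : ∀ σ : ℝ, r < σ → Summable fun i => (ν i : ℝ) ^ (-σ)) :
    LSeries.abscissaOfAbsConv (coeff ν) ≤ r ∧
      ∀ s : ℂ, r < s.re → LSeries (coeff ν) s ≠ 0 := by
  have key : ∀ s : ℂ, r < s.re → Summable (fun α : I →₀ ℕ => ‖G ν s α‖) ∧ Summable (G ν s) := by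
    intro s hs
    have h1 := summable_Nm_rpow ν hν s.re (lt_of_le_of_lt hr hs) (h s.re hs)
    refine ⟨?_, summable_G ν hν s h1⟩
    simpa only [norm_G ν hν] using h1
  constructor
  · apply LSeries.abscissaOfAbsConv_le_of_forall_lt_LSeriesSummable
    intro y hy
    have hs : r < ((y : ℝ) : ℂ).re := by rwa [Complex.ofReal_re]
    exact lseriesSummable ν hν _ (key _ hs).2
  · intro s hs
    obtain ⟨hN, hS⟩ := key s hs
    rw [lseries_eq ν hν s hS]
    exact tsum_G_ne_zero ν hN

end Main

end Groth.Agent.Lib.Seat72.EulerSeries
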