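import Mathlib
import Groth.Agent.Lib.Seat72ArithBoundD
import Groth.Agent.Lib.Seat72EulerSeries
import Groth.Prelude.Def_W4c1zetahwZeta

/-!
# Seat72: the Dirichlet series of effective 0-cycles of an arithmetic scheme

For `X` of finite type over `ℤ` of dimension `≤ r`, the series `∑ aₙ n^{-s}` (`aₙ` the number of
effective 0-cycles of norm `n`) converges absolutely for `Re s > r` and has no zeros there (`main`).
Ingredients: closed points have finite residue fields (`finite_residueField`); the number of closed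
points of norm `n = p^m` is at most `#X(F_n)`, bounded by `Seat72ArithBoundC.card_pts_le`
(`fibre_bound`); summability of `∑ₓ N(x)^{-σ}` (`summable_of_fibre_bound`); the abstract Euler
product library `Seat72EulerSeries`.
-/

set_option autoImplicit false
set_option maxSynthPendingDepth 3
set_option linter.style.haveILetI false
set_option linter.unusedSectionVars false

universe u

open AlgebraicGeometry CategoryTheory CategoryTheory.Limits

namespace Groth.Agent.Lib.Seat72.ArithDir

/-- `∑ₘ (p^m)^(-δ)` over the powers of `p ≥ 2`, as a function on `ℕ`. -/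
theorem summable_indicator_pow (p : ℕ) (hp : 2 ≤ p) (δ : ℝ) (hδ : 0 < δ) :
    Summable (Set.indicator (Set.range fun m : ℕ => p ^ m) fun n : ℕ => (n : ℝ) ^ (-δ)) := by
  have hinj : Function.Injective fun m : ℕ => p ^ m := Nat.pow_right_injective hp
  rw [← hinj.summable_iff (fun n hn => Set.indicator_of_notMem hn _)]
  have hp1 : (1 : ℝ) < p := by exact_mod_cast hp
  have hp0 : (0 : ℝ) < p := by linarith
  have hr : (p : ℝ) ^ (-δ) < 1 := Real.rpow_lt_one_of_one_lt_of_neg hp1 (by linarith)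
  have hr0 : 0 ≤ (p : ℝ) ^ (-δ) := Real.rpow_nonneg hp0.le _
  refine (summable_geometric_of_lt_one hr0 hr).congr fun m => ?_
  simp only [Function.comp_apply]
  rw [Set.indicator_of_mem (Set.mem_range_self m)]
  push_cast
  rw [← Real.rpow_natCast, ← Real.rpow_natCast, ← Real.rpow_mul hp0.le, ← Real.rpow_mul hp0.le,
    mul_comm]

theorem summable_of_fibre_bound {I : Type*} (ν : I → ℕ) (N p₀ r : ℕ)
    (hfib : ∀ n, Finite {i // ν i = n})
    (hb : ∀ n, Nonempty {i // ν i = n} → ∃ p m : ℕ, p.Prime ∧ 1 ≤ m ∧ n = p ^ m ∧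
      Nat.card {i // ν i = n} ≤ N * n ^ r ∧
      (p₀ ≤ p → Nat.card {i // ν i = n} * n ≤ N * n ^ r))
    (σ : ℝ) (hσ : (r : ℝ) < σ) : Summable fun i => (ν i : ℝ) ^ (-σ) := by
  classical
  set δ : ℝ := σ - r with hδ
  have hδ0 : 0 < δ := by rw [hδ]; linarith
  -- regroup along the fibres of `ν`
  rw [← (Equiv.sigmaFiberEquiv ν).summable_iff,
    summable_sigma_of_nonneg (f := (fun i => (ν i : ℝ) ^ (-σ)) ∘ (Equiv.sigmaFiberEquiv ν))
      (fun _ => Real.rpow_nonneg (Nat.cast_nonneg _) _)]
  refine ⟨fun n => ?_, ?_⟩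
  · haveI := hfib n
    exact Summable.of_finite
  -- the bounding series
  set B : ℕ → ℝ := fun n => (N : ℝ) * (n : ℝ) ^ (-(1 + δ)) +
    ∑ p ∈ (Finset.range p₀).filter Nat.Prime,
      (N : ℝ) * Set.indicator (Set.range fun m : ℕ => p ^ m) (fun n : ℕ => (n : ℝ) ^ (-δ)) n
    with hB
  have hBs : Summable B := by
    refine Summable.add ?_ (summable_sum fun p hp => ?_)
    · exact (Real.summable_nat_rpow.mpr (by linarith)).mul_left _
    · exact (summable_indicator_pow p (Finset.mem_filter.mp hp).2.two_le δ hδ0).mul_left _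
  have hind0 : ∀ (p n : ℕ), 0 ≤ Set.indicator (Set.range fun m : ℕ => p ^ m)
      (fun n : ℕ => (n : ℝ) ^ (-δ)) n := fun p n =>
    Set.indicator_nonneg (fun _ _ => Real.rpow_nonneg (Nat.cast_nonneg _) _) _
  have hterm : ∀ n : ℕ, ∑' y : {i // ν i = n},
      ((fun i => (ν i : ℝ) ^ (-σ)) ∘ (Equiv.sigmaFiberEquiv ν)) ⟨n, y⟩ =
      (Nat.card {i // ν i = n} : ℝ) * (n : ℝ) ^ (-σ) := by
    intro n
    have h1 : ∀ y : {i // ν i = n},
        ((fun i => (ν i : ℝ) ^ (-σ)) ∘ (Equiv.sigmaFiberEquiv ν)) ⟨n, y⟩ = (n : ℝ) ^ (-σ) := by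
      intro y
      have : ν ((Equiv.sigmaFiberEquiv ν) ⟨n, y⟩) = n := y.2
      rw [Function.comp_apply, this]
    rw [tsum_congr h1, tsum_const, nsmul_eq_mul]
  refine Summable.of_nonneg_of_le (fun n => ?_) (fun n => ?_) hBs
  · rw [hterm]
    exact mul_nonneg (Nat.cast_nonneg _) (Real.rpow_nonneg (Nat.cast_nonneg _) _)
  · rw [hterm]
    have hB0 : 0 ≤ B n := by
      rw [hB]
      refine add_nonneg (mul_nonneg (Nat.cast_nonneg _) (Real.rpow_nonneg (Nat.cast_nonneg _) _))
        (Finset.sum_nonneg fun p _ => mul_nonneg (Nat.cast_nonneg _) (hind0 p n))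
    by_cases hne : Nonempty {i // ν i = n}
    swap
    · rw [not_nonempty_iff] at hne
      rw [Nat.card_of_isEmpty, Nat.cast_zero, zero_mul]
      exact hB0
    obtain ⟨p, m, hp, hm, hnpm, h1, h2⟩ := hb n hne
    have hn0 : 0 < n := by rw [hnpm]; exact pow_pos hp.pos m
    have hnR : (0 : ℝ) < n := by exact_mod_cast hn0
    by_cases hpp : p₀ ≤ p
    · -- large primes
      have h3 : (Nat.card {i // ν i = n} : ℝ) * n ≤ (N : ℝ) * (n : ℝ) ^ r := by
        exact_mod_cast h2 hpp
      have h4 : (Nat.card {i // ν i = n} : ℝ) * (n : ℝ) ^ (-σ) ≤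
          (N : ℝ) * (n : ℝ) ^ (-(1 + δ)) := by
        have e1 : (n : ℝ) ^ (-σ) = (n : ℝ) * (n : ℝ) ^ (-(1 + σ)) := by
          rw [← Real.rpow_one_add' hnR.le (by intro h; linarith)]
          congr 1
          ring
        have e2 : (n : ℝ) ^ (-(1 + δ)) = (n : ℝ) ^ r * (n : ℝ) ^ (-(1 + σ)) := by
          rw [← Real.rpow_natCast, ← Real.rpow_add hnR]
          congr 1
          rw [hδ]
          ring
        rw [e1, e2, ← mul_assoc, ← mul_assoc]
        exact mul_le_mul_of_nonneg_right h3 (Real.rpow_nonneg hnR.le _)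
      refine h4.trans ?_
      rw [hB]
      exact le_add_of_nonneg_right
        (Finset.sum_nonneg fun p _ => mul_nonneg (Nat.cast_nonneg _) (hind0 p n))
    · -- small primes
      have hpmem : p ∈ (Finset.range p₀).filter Nat.Prime :=
        Finset.mem_filter.mpr ⟨Finset.mem_range.mpr (not_le.mp hpp), hp⟩
      have h3 : (Nat.card {i // ν i = n} : ℝ) ≤ (N : ℝ) * (n : ℝ) ^ r := by exact_mod_cast h1
      have h4 : (Nat.card {i // ν i = n} : ℝ) * (n : ℝ) ^ (-σ) ≤ (N : ℝ) * (n : ℝ) ^ (-δ) := by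
        have e2 : (n : ℝ) ^ (-δ) = (n : ℝ) ^ r * (n : ℝ) ^ (-σ) := by
          rw [← Real.rpow_natCast, ← Real.rpow_add hnR]
          congr 1
          rw [hδ]
          ring
        rw [e2, ← mul_assoc]
        exact mul_le_mul_of_nonneg_right h3 (Real.rpow_nonneg hnR.le _)
      refine h4.trans ?_
      rw [hB]
      have hmemr : n ∈ Set.range fun m : ℕ => p ^ m := ⟨m, hnpm.symm⟩
      have h5 : (N : ℝ) * (n : ℝ) ^ (-δ) = (N : ℝ) * Set.indicator
          (Set.range fun m : ℕ => p ^ m) (fun n : ℕ => (n : ℝ) ^ (-δ)) n := by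
        rw [Set.indicator_of_mem hmemr]
      rw [h5]
      refine le_add_of_nonneg_of_le
        (mul_nonneg (Nat.cast_nonneg _) (Real.rpow_nonneg (Nat.cast_nonneg _) _)) ?_
      exact Finset.single_le_sum (f := fun p => (N : ℝ) * Set.indicator
          (Set.range fun m : ℕ => p ^ m) (fun n : ℕ => (n : ℝ) ^ (-δ)) n)
        (fun p _ => mul_nonneg (Nat.cast_nonneg _) (hind0 p n)) hpmem



/-- a field which is a finitely generated abelian group is finite. -/
theorem finite_of_field_of_finite_int (K : Type*) [Field K] [Module.Finite ℤ K] : Finite K := by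
  have hninj : ¬ Function.Injective (algebraMap ℤ K) := by
    intro hinj
    haveI : Algebra.IsIntegral ℤ K := Algebra.IsIntegral.of_finite ℤ K
    exact Int.not_isField (isField_of_isIntegral_of_isField hinj (Field.toIsField K))
  rw [injective_iff_map_eq_zero] at hninj
  push Not at hninj
  obtain ⟨n, hn, hn0⟩ := hninj
  obtain ⟨p, hp⟩ := CharP.exists K
  have hp0 : p ≠ 0 := by
    rintro rfl
    rw [eq_intCast, CharP.intCast_eq_zero_iff K 0] at hn
    simp at hn
    exact hn0 hn
  haveI : NeZero p := ⟨hp0⟩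
  letI : Algebra (ZMod p) K := ZMod.algebra K p
  haveI : Module.Finite (ZMod p) K := Module.Finite.of_restrictScalars_finite ℤ (ZMod p) K
  exact Module.finite_of_finite (ZMod p)

variable {X : Scheme.{u}} (f : X ⟶ Spec (CommRingCat.of (ULift.{u} ℤ))) [LocallyOfFiniteType f]

include f in
theorem finite_residueField (x : X) (hx : IsClosed ({x} : Set X)) :
    Finite (X.residueField x) := by
  haveI : IsJacobsonRing (ULift.{u} ℤ) :=
    (isJacobsonRing_iso (ULift.ringEquiv.{0, u} (R := ℤ))).mpr ArithBoundB.isJacobsonRing_int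
  haveI := isClosed_singleton_iff_isClosedImmersion.mp hx
  have hfin : IsFinite (X.fromSpecResidueField x ≫ f) := by
    rw [isFinite_iff_locallyOfFiniteType_of_jacobsonSpace]
    infer_instance
  obtain ⟨φ, hφ⟩ : ∃ φ : CommRingCat.of (ULift.{u} ℤ) ⟶ X.residueField x,
      Spec.map φ = X.fromSpecResidueField x ≫ f := ⟨Spec.preimage _, Spec.map_preimage _⟩
  rw [← hφ, IsFinite.SpecMap_iff] at hfin
  have h2 : (ULift.ringEquiv.{0, u} (R := ℤ)).symm.toRingHom.Finite :=
    RingHom.Finite.of_surjective _ (ULift.ringEquiv.{0, u} (R := ℤ)).symm.surjective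
  have h3 := hfin.comp h2
  have h4 : (algebraMap ℤ (X.residueField x)).Finite := by
    convert h3 using 1
    exact RingHom.ext_int _ _
  haveI : Module.Finite ℤ (X.residueField x) := RingHom.finite_algebraMap.mp h4
  exact finite_of_field_of_finite_int _

/-- the closed points of `X`. -/
abbrev Cl (X : Scheme.{u}) : Type u := ↥{x : X | IsClosed ({x} : Set X)}

/-- the norm of a closed point. -/
noncomputable def nu (x : Cl X) : ℕ := Nat.card (X.residueField x.1)

include f in
theorem two_le_nu (x : Cl X) : 2 ≤ nu x := by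
  haveI := finite_residueField f x.1 x.2
  exact Finite.one_lt_card

include f in
theorem fibre_bound (N p₀ r : ℕ)
    (hN : ∀ (p : ℕ) (F : Type u) [Field F] [Finite F] [CharP F p], p.Prime →
      Finite (Spec (CommRingCat.of F) ⟶ X) ∧
      Nat.card (Spec (CommRingCat.of F) ⟶ X) ≤ N * Nat.card F ^ r ∧
      (p₀ ≤ p → Nat.card (Spec (CommRingCat.of F) ⟶ X) * Nat.card F ≤ N * Nat.card F ^ r))
    (n : ℕ) :
    Finite {x : Cl X // nu x = n} ∧ (Nonempty {x : Cl X // nu x = n} →
      ∃ p m : ℕ, p.Prime ∧ 1 ≤ m ∧ n = p ^ m ∧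
        Nat.card {x : Cl X // nu x = n} ≤ N * n ^ r ∧
        (p₀ ≤ p → Nat.card {x : Cl X // nu x = n} * n ≤ N * n ^ r)) := by
  classical
  by_cases hne : Nonempty {x : Cl X // nu x = n}
  swap
  · rw [not_nonempty_iff] at hne
    exact ⟨inferInstance, fun h => absurd h (not_nonempty_iff.mpr hne)⟩
  obtain ⟨x₀⟩ := hne
  haveI hfinF : Finite (X.residueField x₀.1.1) := finite_residueField f _ x₀.1.2
  have hcard : Nat.card (X.residueField x₀.1.1) = n := x₀.2
  obtain ⟨p, hchar⟩ := CharP.exists (X.residueField x₀.1.1)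
  haveI := Fintype.ofFinite (X.residueField x₀.1.1)
  obtain ⟨m, hp, hm⟩ := FiniteField.card (X.residueField x₀.1.1) p
  rw [← Nat.card_eq_fintype_card, hcard] at hm
  obtain ⟨hfin, h1, h2⟩ := hN p (X.residueField x₀.1.1) hp
  rw [hcard] at h1 h2
  -- identify all residue fields of norm `n` with the fixed one
  have hiso : ∀ x : {x : Cl X // nu x = n},
      Nonempty ((X.residueField x.1.1) ≃+* (X.residueField x₀.1.1)) := by
    intro x
    haveI : Finite (X.residueField x.1.1) := finite_residueField f _ x.1.2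
    haveI := Fintype.ofFinite (X.residueField x.1.1)
    refine ⟨FiniteField.ringEquivOfCardEq ?_⟩
    rw [← Nat.card_eq_fintype_card, ← Nat.card_eq_fintype_card, hcard]
    exact x.2
  choose e he using fun x => (hiso x).elim fun e => (⟨e, trivial⟩ : ∃ e' :
    (X.residueField x.1.1) ≃+* (X.residueField x₀.1.1), True)
  let Θ : {x : Cl X // nu x = n} → (Spec (CommRingCat.of (X.residueField x₀.1.1)) ⟶ X) :=
    fun x => Spec.map (CommRingCat.ofHom (e x).toRingHom) ≫ X.fromSpecResidueField x.1.1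
  have hΘpt : ∀ x, (Θ x) (IsLocalRing.closedPoint (X.residueField x₀.1.1)) = x.1.1 := fun x =>
    (Scheme.Hom.comp_apply _ _ _).trans (Scheme.fromSpecResidueField_apply x.1.1 _)
  have hΘ : Function.Injective Θ := by
    intro x y hxy
    apply Subtype.ext
    apply Subtype.ext
    rw [← hΘpt x, ← hΘpt y, hxy]
  have hfinC : Finite {x : Cl X // nu x = n} := Finite.of_injective Θ hΘ
  refine ⟨hfinC, fun _ => ⟨p, m, hp, m.2, hm, ?_, fun hle => ?_⟩⟩
  · exact (Nat.card_le_card_of_injective Θ hΘ).trans h1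
  · exact (Nat.mul_le_mul_right _ (Nat.card_le_card_of_injective Θ hΘ)).trans (h2 hle)

theorem arithCoeff_eq : Zeta.arithCoeff X = EulerSeries.coeff (nu (X := X)) := by
  funext n
  unfold Zeta.arithCoeff Zeta.cycleNormCount EulerSeries.coeff
  congr 1
  apply Nat.card_congr
  set s : Set X := {x : X | IsClosed ({x} : Set X)} with hs
  have hiff : ∀ α' : {α : X →₀ ℕ // ↑α.support ⊆ s},
      (α'.1.prod (fun x m => Nat.card (X.residueField x) ^ m) = n) ↔
        EulerSeries.Nm (nu (X := X)) (Finsupp.restrictSupportEquiv s ℕ α') = n := by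
    intro α'
    have h1 : EulerSeries.Nm (nu (X := X)) (Finsupp.restrictSupportEquiv s ℕ α') =
        α'.1.prod (fun x m => Nat.card (X.residueField x) ^ m) := by
      rw [Finsupp.restrictSupportEquiv_apply]
      exact Finsupp.prod_subtypeDomain_index
        (h := fun x m => Nat.card (X.residueField x) ^ m) (fun x hx => α'.2 hx)
    rw [h1]
  refine Equiv.trans ?_ ((Finsupp.restrictSupportEquiv s ℕ).subtypeEquiv hiff)
  refine Equiv.trans ?_ (Equiv.subtypeSubtypeEquivSubtypeInter
    (fun α : X →₀ ℕ => (↑α.support : Set X) ⊆ s)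
    (fun α : X →₀ ℕ => α.prod (fun x m => Nat.card (X.residueField x) ^ m) = n)).symm
  exact Equiv.subtypeEquivRight fun α => Iff.rfl


include f in
theorem main [QuasiCompact f] (r : ℕ) (hr : topologicalKrullDim X ≤ r) :
    LSeries.abscissaOfAbsConv (Zeta.arithCoeff X) ≤ (r : ℝ) ∧
      ∀ s : ℂ, (r : ℝ) < s.re → LSeries (Zeta.arithCoeff X) s ≠ 0 := by
  obtain ⟨N, p₀, hN⟩ := ArithBoundC.card_pts_le f r hr
  rw [arithCoeff_eq]
  refine EulerSeries.main nu (two_le_nu f) (r : ℝ) (Nat.cast_nonneg r) (fun σ hσ => ?_)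
  exact summable_of_fibre_bound nu N p₀ r (fun n => (fibre_bound f N p₀ r hN n).1)
    (fun n => (fibre_bound f N p₀ r hN n).2) σ hσ

end Groth.Agent.Lib.Seat72.ArithDir
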