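import Mathlib
import Groth.Prelude.Def_ega3
import Groth.Agent.Lib.Helper3IsoFib

set_option autoImplicit false
set_option maxSynthPendingDepth 3
set_option linter.style.haveILetI false
set_option linter.unusedSectionVars false

/-!
# Isomorphisms in codimension `≤ 1` between finite flat schemes (seat 72)

* `bijective_of_bijAt_height_le_one` : over a Noetherian ring, a linear map between finite flat
  modules which is bijective at all primes of height `≤ 1` is bijective (determinant + Krull's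
  principal ideal theorem).
* `isIso_of_isIso_codimOne`, `isIso_of_isIso_fibres_codimOne` : scheme versions.
* `surjective_of_range_closed_of_codimZero`.
* `torsor_of_fibres_codimOne` : the statement of S15809.
-/

open TensorProduct

namespace Groth.Agent.Lib.Seat72.CodimOneIso

section Ring

variable {R : Type*} [CommRing R] {M N : Type*} [AddCommGroup M] [Module R M]
  [AddCommGroup N] [Module R N]

/-- element-wise form of "`φ` is bijective after localizing at `q`". -/
def BijAt (φ : M →ₗ[R] N) (q : Ideal R) : Prop :=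
  (∀ x, φ x = 0 → ∃ r, r ∉ q ∧ r • x = 0) ∧ (∀ y, ∃ r, r ∉ q ∧ ∃ x, φ x = r • y)

lemma BijAt.bijective_map {φ : M →ₗ[R] N} {q : Ideal R} [q.IsPrime] (h : BijAt φ q) :
    Function.Bijective (LocalizedModule.map q.primeCompl φ) := by
  constructor
  · rw [injective_iff_map_eq_zero]
    intro z hz
    induction z using LocalizedModule.induction_on with
    | h x s =>
      rw [LocalizedModule.map_mk, ← LocalizedModule.zero_mk s, LocalizedModule.mk_eq] at hz
      obtain ⟨u, hu⟩ := hz
      rw [smul_zero, smul_zero] at hu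
      have h1 : φ (((u : R) * (s : R)) • x) = 0 := by
        rw [map_smul, mul_smul]; exact hu
      obtain ⟨r, hr, hrx⟩ := h.1 _ h1
      rw [← LocalizedModule.zero_mk s, LocalizedModule.mk_eq]
      refine ⟨⟨r, hr⟩ * u, ?_⟩
      rw [smul_zero, smul_zero]
      rw [← hrx]
      simp only [Submonoid.smul_def, mul_smul]
  · intro z
    induction z using LocalizedModule.induction_on with
    | h y s =>
      obtain ⟨r, hr, x, hx⟩ := h.2 y
      refine ⟨LocalizedModule.mk x (⟨r, hr⟩ * s), ?_⟩
      rw [LocalizedModule.map_mk, hx, LocalizedModule.mk_eq]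
      refine ⟨1, ?_⟩
      simp only [Submonoid.smul_def, mul_smul, one_smul]
      rw [smul_comm]

/-- surjectivity of the base change to a field of the localized map. -/
lemma surjective_baseChange_of_surj {φ : M →ₗ[R] N} (p : Ideal R) [p.IsPrime]
    (k : Type*) [Field k] [Algebra (Localization.AtPrime p) k] [Algebra R k]
    [IsScalarTower R (Localization.AtPrime p) k]
    (h : ∀ y : N, ∃ r : R, algebraMap R k r ≠ 0 ∧ ∃ x, φ x = r • y) :
    Function.Surjective ((LocalizedModule.map p.primeCompl φ).baseChange k) := by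
  intro z
  induction z using TensorProduct.induction_on with
  | zero => exact ⟨0, map_zero _⟩
  | add z₁ z₂ h₁ h₂ =>
    obtain ⟨w₁, rfl⟩ := h₁
    obtain ⟨w₂, rfl⟩ := h₂
    exact ⟨w₁ + w₂, map_add _ _ _⟩
  | tmul c n =>
    induction n using LocalizedModule.induction_on with
    | h y s =>
      obtain ⟨r, hr, x, hx⟩ := h y
      have hs : algebraMap R k s ≠ 0 := by
        have : IsUnit (algebraMap R (Localization.AtPrime p) s) :=
          IsLocalization.map_units (M := p.primeCompl) _ s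
        rw [IsScalarTower.algebraMap_apply R (Localization.AtPrime p) k]
        exact (this.map _).ne_zero
      set ρ := algebraMap R k (r * s) with hρ
      have hρ0 : ρ ≠ 0 := by rw [hρ, map_mul]; exact mul_ne_zero hr hs
      refine ⟨(c * ρ⁻¹) ⊗ₜ LocalizedModule.mk x 1, ?_⟩
      rw [LinearMap.baseChange_tmul, LocalizedModule.map_mk, hx]
      have h1 : LocalizedModule.mk (r • y) (1 : p.primeCompl) =
          algebraMap R (Localization.AtPrime p) (r * s) • LocalizedModule.mk y s := by
        rw [algebraMap_smul, LocalizedModule.smul'_mk, mul_comm, mul_smul, ← Submonoid.smul_def,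
          LocalizedModule.mk_cancel]
      rw [h1, ← TensorProduct.smul_tmul, Algebra.smul_def, ← IsScalarTower.algebraMap_apply]
      congr 1
      field_simp
      rw [hρ, mul_comm]

attribute [local instance] Module.free_of_flat_of_isLocalRing

theorem bijective_of_bijAt_height_le_one [IsNoetherianRing R] [Module.Finite R M] [Module.Flat R M]
    [Module.Finite R N] [Module.Flat R N] (φ : M →ₗ[R] N)
    (H : ∀ (q : Ideal R) [q.IsPrime], q.height ≤ 1 → BijAt φ q) :
    Function.Bijective φ := by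
  refine bijective_of_localized_maximal φ fun p _ => ?_
  let A := Localization.AtPrime p
  let Mp := LocalizedModule p.primeCompl M
  let Np := LocalizedModule p.primeCompl N
  let ψ : Mp →ₗ[A] Np := LocalizedModule.map p.primeCompl φ
  haveI : Module.Free A Mp := inferInstance
  haveI : Module.Free A Np := inferInstance
  have hrank : Module.finrank A Mp = Module.finrank A Np := by
    obtain ⟨q₀, hq₀, hq₀p⟩ := Ideal.exists_minimalPrimes_le (bot_le : ⊥ ≤ p)
    haveI : q₀.IsPrime := hq₀.1.1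
    have hht : q₀.height ≤ 1 := by
      have : q₀.height = 0 := by
        rw [Ideal.height_eq_zero_iff]
        exact hq₀
      rw [this]; exact zero_le_one
    have hb := (H q₀ hht).bijective_map
    have e := (LinearEquiv.ofBijective _ hb).finrank_eq
    calc Module.finrank A Mp = Module.rankAtStalk M ⟨p, inferInstance⟩ := rfl
      _ = Module.rankAtStalk M ⟨q₀, inferInstance⟩ :=
          (Module.rankAtStalk_eq_of_le_of_finite_of_flat' M hq₀p).symm
      _ = Module.rankAtStalk N ⟨q₀, inferInstance⟩ := e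
      _ = Module.rankAtStalk N ⟨p, inferInstance⟩ :=
          Module.rankAtStalk_eq_of_le_of_finite_of_flat' N hq₀p
      _ = Module.finrank A Np := rfl
  let n := Module.finrank A Mp
  let bM : Module.Basis (Fin n) A Mp := Module.finBasis A Mp
  let bN : Module.Basis (Fin n) A Np := Module.finBasisOfFinrankEq A Np hrank.symm
  have hd : IsUnit (LinearMap.toMatrix bM bN ψ).det := by
    by_contra hd
    set d := (LinearMap.toMatrix bM bN ψ).det with hddef
    have hne : Ideal.span {d} ≠ ⊤ := by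
      rwa [Ne, Ideal.span_singleton_eq_top]
    obtain ⟨q', hq'⟩ := Ideal.nonempty_minimalPrimes hne
    haveI : q'.IsPrime := hq'.1.1
    have hdq' : d ∈ q' := hq'.1.2 (Ideal.mem_span_singleton_self d)
    have hht' : q'.height ≤ 1 := Ideal.height_le_one_of_isPrincipal_of_mem_minimalPrimes _ _ hq'
    let q := q'.comap (algebraMap R A)
    have hq : q.height ≤ 1 := by
      have := IsLocalization.height_under p.primeCompl q'
      rw [Ideal.under] at this
      rw [this]
      exact hht'
    let k := q'.ResidueField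
    letI : Algebra R k := ((algebraMap A k).comp (algebraMap R A)).toAlgebra
    haveI : IsScalarTower R A k := IsScalarTower.of_algebraMap_eq (fun _ => rfl)
    have hsurj := surjective_baseChange_of_surj (φ := φ) p k (fun y => by
      obtain ⟨r, hr, x, hx⟩ := (H q hq).2 y
      refine ⟨r, ?_, x, hx⟩
      show algebraMap A k (algebraMap R A r) ≠ 0
      rw [Ne, Ideal.algebraMap_residueField_eq_zero]
      exact hr)
    have hfr : Module.finrank k (k ⊗[A] Mp) = Module.finrank k (k ⊗[A] Np) := by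
      rw [Module.finrank_baseChange, Module.finrank_baseChange, hrank]
    have hbij : Function.Bijective (ψ.baseChange k) :=
      ⟨(LinearMap.injective_iff_surjective_of_finrank_eq_finrank hfr).2 hsurj, hsurj⟩
    have hu := LinearEquiv.isUnit_det (LinearEquiv.ofBijective _ hbij)
      (Algebra.TensorProduct.basis k bM) (Algebra.TensorProduct.basis k bN)
    rw [show ((LinearEquiv.ofBijective _ hbij : _ ≃ₗ[k] _) : _ →ₗ[k] _) = ψ.baseChange k from rfl,
      LinearMap.toMatrix_baseChange, ← RingHom.mapMatrix_apply, ← RingHom.map_det] at hu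
    have : algebraMap A k d = 0 := Ideal.algebraMap_residueField_eq_zero.2 hdq'
    rw [this] at hu
    exact not_isUnit_zero hu
  exact (LinearEquiv.ofIsUnitDet hd).bijective

end Ring

section Scheme

universe u
open CategoryTheory AlgebraicGeometry

variable {X Y : Scheme.{u}}

theorem isIso_app_of_eq (f : X ⟶ Y) {D D' : Y.Opens} (h : D' = D) (hD' : IsIso (f.app D')) :
    IsIso (f.app D) := by
  subst h
  exact hD'

/-- if `f` is an isomorphism over the open `W`, then `f.app D` is an isomorphism for `D ≤ W`. -/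
theorem isIso_app_of_isIso_morphismRestrict (f : X ⟶ Y) (W : Y.Opens) [IsIso (f ∣_ W)]
    (D : Y.Opens) (hD : D ≤ W) : IsIso (f.app D) := by
  have h1 : IsIso ((f ∣_ W).app (W.ι ⁻¹ᵁ D)) := inferInstance
  rw [morphismRestrict_app] at h1
  have h2 : IsIso (f.app (W.ι ''ᵁ (W.ι ⁻¹ᵁ D))) := by
    have h3 : IsIso (X.presheaf.map (eqToHom
        (image_morphismRestrict_preimage f W (W.ι ⁻¹ᵁ D))).op) := inferInstance
    exact @IsIso.of_isIso_comp_right _ _ _ _ _ _ (X.presheaf.map (eqToHom
        (image_morphismRestrict_preimage f W (W.ι ⁻¹ᵁ D))).op) h3 h1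
  refine isIso_app_of_eq f ?_ h2
  rw [Scheme.Hom.image_preimage_eq_opensRange_inf, Scheme.Opens.opensRange_ι]
  exact inf_eq_right.2 hD

lemma res_eq_zero_imp {U : X.Opens} (hU : IsAffineOpen U) (b : Γ(X, U)) (D : X.Opens)
    (hD : D = X.basicOpen b) (hDU : D ≤ U) (x : Γ(X, U))
    (hx : X.presheaf.map (homOfLE hDU).op x = 0) : ∃ n : ℕ, b ^ n * x = 0 := by
  subst hD
  exact exists_pow_mul_eq_zero_of_res_basicOpen_eq_zero_of_isAffineOpen X hU x b hx

lemma exists_res_eq_pow_mul {U : X.Opens} (hU : IsAffineOpen U) (b : Γ(X, U)) (D : X.Opens)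
    (hD : D = X.basicOpen b) (hDU : D ≤ U) (x' : Γ(X, D)) :
    ∃ (n : ℕ) (x : Γ(X, U)), X.presheaf.map (homOfLE hDU).op x =
      (X.presheaf.map (homOfLE hDU).op b) ^ n * x' := by
  subst hD
  haveI := hU.isLocalization_basicOpen b
  obtain ⟨⟨x, ⟨_, n, rfl⟩⟩, hx⟩ := IsLocalization.surj (Submonoid.powers b) x'
  refine ⟨n, x, ?_⟩
  rw [mul_comm, ← map_pow]
  exact hx.symm

/-- if `f.app` is bijective over the basic open `D(b)`, then `f.app W` is bijective up to powers
of `b`. -/
lemma app_bijAt_of_bijective_basicOpen (f : X ⟶ Y) {W : Y.Opens} (hW : IsAffineOpen W)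
    (hW' : IsAffineOpen (f ⁻¹ᵁ W)) (b : Γ(Y, W)) (D : Y.Opens) (hD : D = Y.basicOpen b)
    (hbij : Function.Bijective (f.app D)) :
    (∀ x : Γ(Y, W), f.app W x = 0 → ∃ n : ℕ, b ^ n * x = 0) ∧
    (∀ y : Γ(X, f ⁻¹ᵁ W), ∃ (n : ℕ) (x : Γ(Y, W)), f.app W x = (f.app W b) ^ n * y) := by
  have hDW : D ≤ W := hD ▸ Y.basicOpen_le b
  have hD' : f ⁻¹ᵁ D = X.basicOpen (f.app W b) := by rw [hD, Scheme.preimage_basicOpen]
  have hDW' : f ⁻¹ᵁ D ≤ f ⁻¹ᵁ W := f.preimage_mono hDW
  have hnat : ∀ x : Γ(Y, W), f.app D (Y.presheaf.map (homOfLE hDW).op x) =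
      X.presheaf.map (homOfLE hDW').op (f.app W x) := by
    intro x
    have := f.naturality (homOfLE hDW).op
    exact congr($(this) x)
  constructor
  · intro x hx
    apply res_eq_zero_imp hW b D hD hDW
    apply hbij.1
    rw [hnat, hx, map_zero, map_zero]
  · intro y
    obtain ⟨x', hx'⟩ := hbij.2 (X.presheaf.map (homOfLE hDW').op y)
    obtain ⟨n, x₀, hx₀⟩ := exists_res_eq_pow_mul hW b D hD hDW x'
    have h1 : X.presheaf.map (homOfLE hDW').op (f.app W x₀ - (f.app W b) ^ n * y) = 0 := by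
      rw [map_sub, map_mul, map_pow, ← hnat, ← hnat, hx₀, map_mul, map_pow, hx', sub_self]
    obtain ⟨m, hm⟩ := res_eq_zero_imp hW' (f.app W b) _ hD' hDW' _ h1
    refine ⟨m + n, b ^ m * x₀, ?_⟩
    rw [map_mul, map_pow, pow_add, mul_assoc]
    rw [mul_sub, sub_eq_zero] at hm
    exact hm


/-- **Isomorphism in codimension `≤ 1` implies isomorphism**, for a morphism between finite flat
schemes over a locally Noetherian base. -/
theorem isIso_of_isIso_codimOne {X X' S : Scheme.{u}} [IsLocallyNoetherian S] (f : X ⟶ X')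
    (h : X' ⟶ S) [IsFinite h] [Flat h] [IsFinite (f ≫ h)] [Flat (f ≫ h)]
    (H : ∀ s : S, ringKrullDim (S.presheaf.stalk s) ≤ 1 →
      ∃ U : S.Opens, s ∈ U ∧ IsIso (f ∣_ (h ⁻¹ᵁ U))) :
    IsIso f := by
  suffices hV : ∀ V : S.affineOpens, IsIso (f.app (h ⁻¹ᵁ V.1)) by
    refine HasAffineProperty.of_iSup_eq_top (P := MorphismProperty.isomorphisms Scheme)
      (fun V : S.affineOpens => ⟨h ⁻¹ᵁ V.1, V.2.preimage h⟩) ?_ (fun V => ⟨?_, ?_⟩)
    · refine top_le_iff.1 (fun x _ => ?_)
      obtain ⟨_, ⟨V, hV, rfl⟩, hxV, -⟩ := S.isBasis_affineOpens.exists_subset_of_mem_open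
        (Set.mem_univ (h x)) isOpen_univ
      exact TopologicalSpace.Opens.mem_iSup.2 ⟨⟨V, hV⟩, hxV⟩
    · exact V.2.preimage (f ≫ h)
    · simp only [morphismRestrict_app]
      refine @IsIso.comp_isIso' _ _ _ _ _ _ _ ?_ ?_
      · exact isIso_app_of_eq f (Scheme.Opens.ι_image_top _).symm (hV V)
      · exact Functor.map_isIso _ _
  intro V
  have hW' : IsAffineOpen (h ⁻¹ᵁ V.1) := V.2.preimage h
  have hW : IsAffineOpen (f ⁻¹ᵁ (h ⁻¹ᵁ V.1)) := V.2.preimage (f ≫ h)
  haveI : IsNoetherianRing Γ(S, V.1) := IsLocallyNoetherian.component_noetherian V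
  let φB : Γ(S, V.1) →+* Γ(X', h ⁻¹ᵁ V.1) := (h.app V.1).hom
  let φ : Γ(X', h ⁻¹ᵁ V.1) →+* Γ(X, f ⁻¹ᵁ (h ⁻¹ᵁ V.1)) := (f.app (h ⁻¹ᵁ V.1)).hom
  letI : Algebra Γ(S, V.1) Γ(X', h ⁻¹ᵁ V.1) := φB.toAlgebra
  letI : Algebra Γ(S, V.1) Γ(X, f ⁻¹ᵁ (h ⁻¹ᵁ V.1)) := (φ.comp φB).toAlgebra
  haveI hfinB : Module.Finite Γ(S, V.1) Γ(X', h ⁻¹ᵁ V.1) := h.finite_app V.1 V.2
  haveI hflatB : Module.Flat Γ(S, V.1) Γ(X', h ⁻¹ᵁ V.1) := by
    have := HasRingHomProperty.appLE (P := @Flat) h inferInstance V ⟨_, hW'⟩ le_rfl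
    rw [← Scheme.Hom.app_eq_appLE] at this
    exact this
  haveI hfinA : Module.Finite Γ(S, V.1) Γ(X, f ⁻¹ᵁ (h ⁻¹ᵁ V.1)) := (f ≫ h).finite_app V.1 V.2
  haveI hflatA : Module.Flat Γ(S, V.1) Γ(X, f ⁻¹ᵁ (h ⁻¹ᵁ V.1)) := by
    have := HasRingHomProperty.appLE (P := @Flat) (f ≫ h) inferInstance V
      ⟨(f ≫ h) ⁻¹ᵁ V.1, V.2.preimage (f ≫ h)⟩ le_rfl
    rw [← Scheme.Hom.app_eq_appLE] at this
    exact this
  let φl : Γ(X', h ⁻¹ᵁ V.1) →ₗ[Γ(S, V.1)] Γ(X, f ⁻¹ᵁ (h ⁻¹ᵁ V.1)) :=
    { toFun := φ
      map_add' := map_add φ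
      map_smul' := fun r x => by
        rw [Algebra.smul_def, Algebra.smul_def, map_mul]
        rfl }
  have hbij : Function.Bijective φl := bijective_of_bijAt_height_le_one φl (fun q _ hq => ?_)
  · rw [ConcreteCategory.isIso_iff_bijective]
    exact hbij
  -- the point of `S` given by `q`
  let y : PrimeSpectrum Γ(S, V.1) := ⟨q, inferInstance⟩
  let s : S := V.2.fromSpec y
  have hsV : s ∈ V.1 := by
    rw [← SetLike.mem_coe, ← V.2.range_fromSpec]
    exact ⟨y, rfl⟩
  have hdim : ringKrullDim (S.presheaf.stalk s) ≤ 1 := by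
    letI : Algebra Γ(S, V.1) (S.presheaf.stalk s) :=
      TopCat.Presheaf.algebra_section_stalk S.presheaf ⟨s, hsV⟩
    haveI : IsLocalization.AtPrime (S.presheaf.stalk s) q := V.2.isLocalization_stalk' y hsV
    rw [IsLocalization.AtPrime.ringKrullDim_eq_height q]
    exact_mod_cast hq
  obtain ⟨U, hsU, hiso⟩ := H s hdim
  obtain ⟨r, hrU, hsr⟩ := V.2.exists_basicOpen_le ⟨s, hsU⟩ hsV
  have hrq : r ∉ q := by
    have h1 : y ∈ V.2.fromSpec ⁻¹ᵁ S.basicOpen r := hsr
    rw [V.2.fromSpec_preimage_basicOpen] at h1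
    exact h1
  have hiso' : IsIso (f.app (h ⁻¹ᵁ (S.basicOpen r))) :=
    isIso_app_of_isIso_morphismRestrict f (h ⁻¹ᵁ U) _ (h.preimage_mono hrU)
  have hb := (ConcreteCategory.isIso_iff_bijective _).1 hiso'
  obtain ⟨h1, h2⟩ := app_bijAt_of_bijective_basicOpen f hW' hW (φB r) (h ⁻¹ᵁ (S.basicOpen r))
    (Scheme.preimage_basicOpen h r) hb
  have hpow : ∀ n : ℕ, r ^ n ∉ q := fun n hn => hrq (Ideal.IsPrime.mem_of_pow_mem inferInstance n hn)
  constructor
  · intro x hx
    obtain ⟨n, hn⟩ := h1 x hx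
    refine ⟨r ^ n, hpow n, ?_⟩
    rw [Algebra.smul_def, map_pow]
    exact hn
  · intro z
    obtain ⟨n, x, hx⟩ := h2 z
    refine ⟨r ^ n, hpow n, x, ?_⟩
    rw [Algebra.smul_def, map_pow]
    exact hx

/-- fibrewise version: a morphism between finite flat `S`-schemes (`S` locally Noetherian) whose
fibres over all points of codimension `≤ 1` are isomorphisms is an isomorphism. -/
theorem isIso_of_isIso_fibres_codimOne {X X' S : Scheme.{u}} [IsLocallyNoetherian S] (f : X ⟶ X')
    (g : X ⟶ S) (h : X' ⟶ S) (w : f ≫ h = g) [IsFinite h] [Flat h] [IsFinite g] [Flat g]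
    (H : ∀ s : S, ringKrullDim (S.presheaf.stalk s) ≤ 1 →
      IsIso (CohIII.fiberMapOver f g h w s)) :
    IsIso f := by
  subst w
  refine isIso_of_isIso_codimOne f h (fun s hs => ?_)
  haveI := H s hs
  exact Groth.Agent.Lib.Helper3.IsoFib.exists_isIso_morphismRestrict_of_fibre_iso f h s

/-- a generic point of an irreducible component has coheight zero
(as in `Seat62.SpecialFibre`). -/
theorem coheight_eq_zero_of_mem_irreducibleComponents {Z : Scheme.{u}} (ξ : Z)
    (hξ : closure ({ξ} : Set Z) ∈ irreducibleComponents Z) : Order.coheight ξ = 0 := by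
  rw [Order.coheight_eq_zero]
  intro y hy
  have h1 : y ⤳ ξ := hy
  have h2 : closure ({ξ} : Set Z) ≤ closure ({y} : Set Z) :=
    (specializes_iff_closure_subset.1 h1)
  have h3 : closure ({y} : Set Z) ≤ closure ({ξ} : Set Z) :=
    hξ.2 (isIrreducible_singleton.closure) h2
  have h4 : ξ ⤳ y := specializes_iff_closure_subset.2 h3
  exact h4

/-- a morphism with closed image which hits all points of codimension `0` is surjective. -/
theorem surjective_of_range_closed_of_codimZero {Y S : Scheme.{u}} (p : Y ⟶ S)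
    (hcl : IsClosed (Set.range p.base))
    (H : ∀ s : S, ringKrullDim (S.presheaf.stalk s) ≤ 0 → s ∈ Set.range p.base) :
    Function.Surjective p.base := by
  intro s
  obtain ⟨η, hη⟩ := QuasiSober.sober (isIrreducible_irreducibleComponent (x := s))
    isClosed_irreducibleComponent
  have hηs : η ⤳ s := by
    rw [specializes_iff_mem_closure, hη.def]
    exact mem_irreducibleComponent
  have h0 : Order.coheight η = 0 := coheight_eq_zero_of_mem_irreducibleComponents η (by
    rw [hη.def]
    exact irreducibleComponent_mem_irreducibleComponents s)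
  have hdim : ringKrullDim (S.presheaf.stalk η) ≤ 0 := by
    rw [ringKrullDim_stalk_eq_coheight, h0]
    rfl
  exact hηs.mem_closed hcl (H η hdim)

open MonoidalCategory CartesianMonoidalCategory Limits in
/-- the statement of S15809, for an arbitrary morphism `Ψ : G ×_S Y → Y ×_S Y` over `S`. -/
theorem torsor_of_fibres_codimOne (S : Scheme.{u}) [IsNoetherian S] (G Y : Over S)
    [IsFinite G.hom] [Flat G.hom] [IsFinite Y.hom] [Flat Y.hom] (Ψ : G ⊗ Y ⟶ Y ⊗ Y)
    (hfib : ∀ s : S, ringKrullDim (S.presheaf.stalk s) ≤ 1 →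
      s ∈ Set.range Y.hom.base ∧
      IsIso (pullback.map (G ⊗ Y).hom (S.fromSpecResidueField s) (Y ⊗ Y).hom
        (S.fromSpecResidueField s) Ψ.left (𝟙 _) (𝟙 S)
        ((Category.comp_id _).trans (Over.w Ψ).symm)
        ((Category.comp_id _).trans (Category.id_comp _).symm))) :
    IsIso Ψ.left ∧ Function.Surjective Y.hom.base := by
  constructor
  · haveI : IsFinite (G ⊗ Y).hom := by
      show IsFinite (pullback.fst G.hom Y.hom ≫ G.hom)
      infer_instance
    haveI : Flat (G ⊗ Y).hom := by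
      show Flat (pullback.fst G.hom Y.hom ≫ G.hom)
      infer_instance
    haveI : IsFinite (Y ⊗ Y).hom := by
      show IsFinite (pullback.fst Y.hom Y.hom ≫ Y.hom)
      infer_instance
    haveI : Flat (Y ⊗ Y).hom := by
      show Flat (pullback.fst Y.hom Y.hom ≫ Y.hom)
      infer_instance
    exact isIso_of_isIso_fibres_codimOne Ψ.left (G ⊗ Y).hom (Y ⊗ Y).hom (Over.w Ψ)
      (fun s hs => (hfib s hs).2)
  · exact surjective_of_range_closed_of_codimZero Y.hom Y.hom.isClosedMap.isClosed_range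
      (fun s hs => (hfib s (hs.trans zero_le_one)).1)

end Scheme

end Groth.Agent.Lib.Seat72.CodimOneIso
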