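import Mathlib

/-!
# Seat72: the canonical involution of a free algebra of rank two

For a commutative ring `A` and an `A`-algebra `B` with an `A`-basis indexed by `Fin 2`, the map
`tau x = Tr(x) - x` is an `A`-algebra involution of `B` (polarised Cayley–Hamilton); when `2` is
invertible its fixed points are exactly `A`.  The trace, hence `tau`, is compatible with
localisation.  Also: finite flat finitely presented algebras of rank `2` are free of rank `2`
on a basic open neighbourhood of any prime, in any model of the localisations.
-/

set_option autoImplicit false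
set_option maxSynthPendingDepth 3
set_option linter.style.haveILetI false
set_option linter.unusedSectionVars false

open Module

namespace Groth.Agent.Lib.Seat72.DblAlg

section matrix

variable {A : Type*} [CommRing A]

/-- polarised Cayley–Hamilton for `2 × 2` matrices. -/
theorem matrix_two_polar (M N : Matrix (Fin 2) (Fin 2) A) :
    M * N + N * M - M.trace • N - N.trace • M +
      (M.trace * N.trace - (M * N).trace) • (1 : Matrix (Fin 2) (Fin 2) A) = 0 := by
  ext i j
  fin_cases i <;> fin_cases j <;>
    simp [Matrix.mul_apply, Fin.sum_univ_two, Matrix.trace] <;> ring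

end matrix

section tau

variable {A B : Type*} [CommRing A] [CommRing B] [Algebra A B]

theorem polar (b : Basis (Fin 2) A B) (x y : B) :
    x * y + y * x - algebraMap A B (Algebra.trace A B x) * y -
      algebraMap A B (Algebra.trace A B y) * x +
      algebraMap A B (Algebra.trace A B x * Algebra.trace A B y - Algebra.trace A B (x * y)) =
      0 := by
  apply Algebra.leftMulMatrix_injective b
  have h := matrix_two_polar (Algebra.leftMulMatrix b x) (Algebra.leftMulMatrix b y)
  simp only [Algebra.algebraMap_eq_smul_one, smul_mul_assoc, one_mul, map_add, map_sub, map_smul,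
    map_one, map_zero, Algebra.trace_eq_matrix_trace b, mul_smul]
  simp only [← map_mul, sub_smul, mul_smul] at h
  exact h

variable (A B) in
/-- the canonical involution `x ↦ Tr(x) - x`, as a linear map. -/
noncomputable def tauLin : B →ₗ[A] B :=
  (Algebra.linearMap A B).comp (Algebra.trace A B) - LinearMap.id

theorem tauLin_apply (x : B) : tauLin A B x = algebraMap A B (Algebra.trace A B x) - x := rfl

theorem trace_algebraMap (b : Basis (Fin 2) A B) (a : A) :
    Algebra.trace A B (algebraMap A B a) = 2 * a := by
  rw [Algebra.trace_algebraMap_of_basis b, Fintype.card_fin, nsmul_eq_mul]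
  norm_num

theorem tau_mul (b : Basis (Fin 2) A B) (x y : B) :
    tauLin A B (x * y) = tauLin A B x * tauLin A B y := by
  have h := polar b x y
  simp only [tauLin_apply, map_sub, map_mul] at h ⊢
  linear_combination (-1 : B) * h

theorem tau_algebraMap (b : Basis (Fin 2) A B) (a : A) :
    tauLin A B (algebraMap A B a) = algebraMap A B a := by
  rw [tauLin_apply, trace_algebraMap b, map_mul, map_ofNat]
  ring

theorem tau_one (b : Basis (Fin 2) A B) : tauLin A B 1 = 1 := by
  have := tau_algebraMap b (1 : A)
  rwa [map_one] at this

theorem tau_tau (b : Basis (Fin 2) A B) (x : B) : tauLin A B (tauLin A B x) = x := by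
  rw [tauLin_apply, tauLin_apply, map_sub, trace_algebraMap b, map_sub, map_mul, map_ofNat]
  ring

theorem mem_range_of_tau_eq (h2 : IsUnit (2 : A)) (x : B) (hx : tauLin A B x = x) :
    x ∈ Set.range (algebraMap A B) := by
  obtain ⟨u, hu⟩ := h2.exists_left_inv
  refine ⟨u * Algebra.trace A B x, ?_⟩
  rw [tauLin_apply] at hx
  have h2x : algebraMap A B (Algebra.trace A B x) = 2 * x := by linear_combination hx
  have hu' : algebraMap A B u * 2 = 1 := by
    rw [← map_ofNat (algebraMap A B) 2, ← map_mul, hu, map_one]
  rw [map_mul, h2x]
  linear_combination x * hu'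

theorem algebraMap_injective_of_basis (b : Basis (Fin 2) A B) (h2 : IsUnit (2 : A)) :
    Function.Injective (algebraMap A B) := by
  rw [injective_iff_map_eq_zero]
  intro a ha
  have := trace_algebraMap b a
  rw [ha, map_zero] at this
  exact (h2.mul_right_eq_zero).mp this.symm

end tau

section hom

universe u

variable {A B : Type u} [CommRing A] [CommRing B]

/-- `B` is free of rank two over `A` along `φ`. -/
def GoodHom (φ : A →+* B) : Prop :=
  letI := φ.toAlgebra
  Nonempty (Basis (Fin 2) A B)

/-- the canonical involution of a free rank two algebra, as a ring endomorphism. -/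
noncomputable def tauRingHom (φ : A →+* B) (h : GoodHom φ) : B →+* B :=
  letI := φ.toAlgebra
  { toFun := tauLin A B
    map_one' := tau_one h.some
    map_mul' := tau_mul h.some
    map_zero' := map_zero _
    map_add' := map_add _ }

theorem tauRingHom_apply (φ : A →+* B) (h : GoodHom φ) (x : B) :
    tauRingHom φ h x = (letI := φ.toAlgebra; tauLin A B x) := rfl

theorem tauRingHom_comp (φ : A →+* B) (h : GoodHom φ) : (tauRingHom φ h).comp φ = φ := by
  letI := φ.toAlgebra
  ext a
  exact tau_algebraMap h.some a

theorem tauRingHom_invol (φ : A →+* B) (h : GoodHom φ) :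
    (tauRingHom φ h).comp (tauRingHom φ h) = RingHom.id B := by
  letI := φ.toAlgebra
  ext x
  exact tau_tau h.some x

theorem tauRingHom_fixed (φ : A →+* B) (h : GoodHom φ) (h2 : IsUnit (2 : A)) (x : B)
    (hx : tauRingHom φ h x = x) : x ∈ Set.range φ := by
  letI := φ.toAlgebra
  exact mem_range_of_tau_eq h2 x hx

theorem injective_of_goodHom (φ : A →+* B) (h : GoodHom φ) (h2 : IsUnit (2 : A)) :
    Function.Injective φ := by
  letI := φ.toAlgebra
  exact algebraMap_injective_of_basis h.some h2

variable {A' B' : Type u} [CommRing A'] [CommRing B']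

/-- freeness of rank two and the involution are compatible with localisation away from an
element. -/
theorem goodHom_localization (φ : A →+* B) (h : GoodHom φ) (α : A →+* A') (β : B →+* B')
    (φ' : A' →+* B') (comm : φ'.comp α = β.comp φ) (g : A)
    (hα : letI := α.toAlgebra; IsLocalization.Away g A')
    (hβ : letI := β.toAlgebra; IsLocalization.Away (φ g) B') :
    ∃ h' : GoodHom φ', ∀ x, tauRingHom φ' h' (β x) = β (tauRingHom φ h x) := by
  letI := φ.toAlgebra
  letI := α.toAlgebra
  letI := β.toAlgebra
  letI := φ'.toAlgebra
  letI : Algebra A B' := (β.comp φ).toAlgebra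
  haveI : IsScalarTower A B B' := IsScalarTower.of_algebraMap_eq fun _ => rfl
  haveI : IsScalarTower A A' B' := IsScalarTower.of_algebraMap_eq fun a =>
    (RingHom.congr_fun comm a).symm
  haveI : IsLocalization (Submonoid.powers g) A' := hα
  haveI : IsLocalization (Algebra.algebraMapSubmonoid B (Submonoid.powers g)) B' := by
    have : Algebra.algebraMapSubmonoid B (Submonoid.powers g) = Submonoid.powers (φ g) :=
      Submonoid.map_powers _ _
    rw [this]
    exact hβ
  obtain ⟨b⟩ := h
  haveI : Module.Free A B := Module.Free.of_basis b
  haveI : Module.Finite A B := Module.Finite.of_basis b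
  refine ⟨⟨b.localizationLocalization A' (Submonoid.powers g) B'⟩, fun x => ?_⟩
  rw [tauRingHom_apply, tauRingHom_apply]
  change algebraMap A' B' (Algebra.trace A' B' (algebraMap B B' x)) - algebraMap B B' x =
    algebraMap B B' (algebraMap A B (Algebra.trace A B x) - x)
  rw [Algebra.trace_localization A (Submonoid.powers g), map_sub,
    ← IsScalarTower.algebraMap_apply, ← IsScalarTower.algebraMap_apply]

/-- transfer of a basis of the standard localisation to any model of the localisations. -/
theorem goodHom_of_basis_away (φ : A →+* B) (r : A)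
    (b' : letI := φ.toAlgebra
      Basis (Fin 2) (Localization (Submonoid.powers r)) (LocalizedModule (Submonoid.powers r) B))
    (α : A →+* A') (β : B →+* B') (φ' : A' →+* B') (comm : φ'.comp α = β.comp φ)
    (hα : letI := α.toAlgebra; IsLocalization.Away r A')
    (hβ : letI := β.toAlgebra; IsLocalization.Away (φ r) B') : GoodHom φ' := by
  letI := φ.toAlgebra
  letI := α.toAlgebra
  letI := β.toAlgebra
  letI := φ'.toAlgebra
  letI : Algebra A B' := (β.comp φ).toAlgebra
  haveI : IsScalarTower A B B' := IsScalarTower.of_algebraMap_eq fun _ => rfl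
  haveI : IsScalarTower A A' B' := IsScalarTower.of_algebraMap_eq fun a =>
    (RingHom.congr_fun comm a).symm
  haveI : IsLocalization (Submonoid.powers r) A' := hα
  haveI : IsLocalization (Algebra.algebraMapSubmonoid B (Submonoid.powers r)) B' := by
    have : Algebra.algebraMapSubmonoid B (Submonoid.powers r) = Submonoid.powers (φ r) :=
      Submonoid.map_powers _ _
    rw [this]
    exact hβ
  haveI : IsLocalizedModule (Submonoid.powers r) (IsScalarTower.toAlgHom A B B').toLinearMap :=
    isLocalizedModule_iff_isLocalization.mpr inferInstance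
  let Loc := Localization (Submonoid.powers r)
  let e : Loc ≃ₐ[A] A' := IsLocalization.algEquiv (Submonoid.powers r) Loc A'
  letI : Module Loc B' := Module.compHom B' (e.toRingEquiv : Loc →+* A')
  haveI : IsScalarTower A Loc B' := ⟨fun a l x => by
    change e (a • l) • x = a • (e l • x)
    rw [map_smul, smul_assoc]⟩
  let iso : LocalizedModule (Submonoid.powers r) B ≃ₗ[A] B' :=
    IsLocalizedModule.iso (Submonoid.powers r) (IsScalarTower.toAlgHom A B B').toLinearMap
  let iso' : LocalizedModule (Submonoid.powers r) B ≃ₗ[Loc] B' :=
    iso.extendScalarsOfIsLocalization (Submonoid.powers r) Loc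
  let b'' : Basis (Fin 2) Loc B' := b'.map iso'
  exact ⟨b''.mapCoeffs e.toRingEquiv (fun _ _ => rfl)⟩

/-- a finite flat finitely presented algebra of rank two at a prime is free of rank two over a
basic open neighbourhood of that prime, for any model of the localisations. -/
theorem exists_goodHom_localization (φ : A →+* B) (hfin : φ.Finite) (hflat : φ.Flat)
    (hfp : φ.FinitePresentation) (p : PrimeSpectrum A) (hrk : φ.finrank p = 2) :
    ∃ g : A, g ∉ p.asIdeal ∧ ∀ {A' B' : Type u} [CommRing A'] [CommRing B'] (α : A →+* A')
      (β : B →+* B') (φ' : A' →+* B'), φ'.comp α = β.comp φ →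
      (letI := α.toAlgebra; IsLocalization.Away g A') →
      (letI := β.toAlgebra; IsLocalization.Away (φ g) B') → GoodHom φ' := by
  letI := φ.toAlgebra
  haveI : Module.Finite A B := hfin
  haveI : Module.Flat A B := hflat
  haveI : Algebra.FinitePresentation A B := hfp
  haveI : Module.FinitePresentation A B := .of_finite_of_finitePresentation A B
  let S := p.asIdeal.primeCompl
  let Rp := Localization.AtPrime p.asIdeal
  let Mp := LocalizedModule S B
  haveI : Module.Free Rp Mp := Module.free_of_flat_of_isLocalRing
  have hfr : Module.finrank Rp Mp = 2 := hrk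
  let b₀ : Basis (Fin 2) Rp Mp := Module.finBasisOfFinrankEq Rp Mp hfr
  obtain ⟨r, hr, b', -⟩ := Module.FinitePresentation.exists_basis_localizedModule_powers S
    (LocalizedModule.mkLinearMap S B) Rp b₀
  refine ⟨r, hr, fun α β φ' comm hα hβ => goodHom_of_basis_away φ r b' α β φ' comm hα hβ⟩

end hom

end Groth.Agent.Lib.Seat72.DblAlg
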