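import Mathlib
import Groth.Agent.Lib.Helper20QuotAff

/-!
# Seat72: gluing lemmas for `SGA1.IsQuot`

* `quotAt_of_basis`, `isQuot_of_basis`: the quotient conditions on a basis of opens of the target
  (with the pairwise intersections) imply `IsQuot`.
* `quotAt_of_isOpenImmersion`: transport of the quotient conditions along open immersions.
* `quotAt_spec`: the quotient conditions for a map of affine schemes from those of the rings.
-/

set_option autoImplicit false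
set_option maxSynthPendingDepth 3
set_option linter.style.haveILetI false
set_option linter.unusedSectionVars false

universe u

open CategoryTheory AlgebraicGeometry TopologicalSpace

namespace Groth.Agent.Lib.Seat72.QuotGlue

open SGA1 Groth.Agent.Lib.Helper20

section fam

variable {X Y : Scheme.{u}} {ι : Type u} {σ : ι → (X ⟶ X)} {p : X ⟶ Y}

theorem quotAt_of_basis (hσ : ∀ i, σ i ≫ p = p) (𝓑 : Set Y.Opens)
    (hbasis : ∀ (U : Y.Opens) (y : Y), y ∈ U → ∃ V ∈ 𝓑, y ∈ V ∧ V ≤ U)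
    (hB : ∀ V ∈ 𝓑, QuotAt σ p V (p ⁻¹ᵁ V))
    (hBB : ∀ V ∈ 𝓑, ∀ W ∈ 𝓑, QuotAt σ p (V ⊓ W) (p ⁻¹ᵁ (V ⊓ W))) (U : Y.Opens) :
    QuotAt σ p U (p ⁻¹ᵁ U) := by
  have eσ : ∀ (W : Y.Opens) (i : ι), p ⁻¹ᵁ W ≤ σ i ⁻¹ᵁ (p ⁻¹ᵁ W) := by
    intro W i
    rw [← Scheme.Hom.comp_preimage, hσ i]
  let J := {V : Y.Opens // V ∈ 𝓑 ∧ V ≤ U}
  let V : J → Y.Opens := fun j => j.1
  have hcover : U ≤ iSup V := by
    intro y hy
    obtain ⟨W, hW, hyW, hWU⟩ := hbasis U y hy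
    exact Opens.mem_iSup.mpr ⟨⟨W, hW, hWU⟩, hyW⟩
  have hcover' : p ⁻¹ᵁ U ≤ iSup (fun j : J => p ⁻¹ᵁ V j) := by
    intro x hx
    obtain ⟨j, hj⟩ := Opens.mem_iSup.mp (hcover (show p.base x ∈ U from hx))
    exact Opens.mem_iSup.mpr ⟨j, hj⟩
  have hb : ∀ j : J, QuotAt σ p (V j) (p ⁻¹ᵁ V j) := fun j => hB j.1 j.2.1
  have hbb : ∀ j k : J, QuotAt σ p (V j ⊓ V k) (p ⁻¹ᵁ (V j ⊓ V k)) := fun j k =>
    hBB j.1 j.2.1 k.1 k.2.1
  have hres : ∀ (W W' : Y.Opens) (hWW' : W' ≤ W) (a : Γ(Y, W)),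
      (p.app W').hom ((Y.presheaf.map (homOfLE hWW').op).hom a) =
        (X.presheaf.map (homOfLE (p.preimage_mono hWW')).op).hom ((p.app W).hom a) := by
    intro W W' hWW' a
    exact congrArg (fun f => f.hom a) (p.naturality (homOfLE hWW').op)
  have hresσ : ∀ (W W' : Y.Opens) (hWW' : W' ≤ W) (i : ι) (t : Γ(X, p ⁻¹ᵁ W)),
      ((σ i).appLE _ _ (eσ W' i)).hom ((X.presheaf.map (homOfLE (p.preimage_mono hWW')).op).hom t) =
        (X.presheaf.map (homOfLE (p.preimage_mono hWW')).op).hom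
          (((σ i).appLE _ _ (eσ W i)).hom t) := by
    intro W W' hWW' i t
    have h1 : X.presheaf.map (homOfLE (p.preimage_mono hWW')).op ≫ (σ i).appLE _ _ (eσ W' i) =
        (σ i).appLE _ _ (eσ W i) ≫ X.presheaf.map (homOfLE (p.preimage_mono hWW')).op := by
      rw [Scheme.Hom.map_appLE, Scheme.Hom.appLE_map]
    exact congrArg (fun f => f.hom t) h1
  have happ : ∀ (W : Y.Opens) (hW : QuotAt σ p W (p ⁻¹ᵁ W)),
      Function.Injective (p.app W).hom ∧ ∀ s : Γ(X, p ⁻¹ᵁ W),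
        (∀ i, ((σ i).appLE _ _ (eσ W i)).hom s = s) → s ∈ Set.range (p.app W).hom := by
    rintro W ⟨e, eσ', hinj, hrange⟩
    rw [Scheme.Hom.app_eq_appLE]
    exact ⟨hinj, hrange⟩
  refine ⟨le_rfl, eσ U, ?_, ?_⟩
  · rw [Scheme.Hom.appLE_eq_app, injective_iff_map_eq_zero]
    intro s hs
    fapply Y.sheaf.eq_of_locally_eq' V U (fun j => homOfLE j.2.2) hcover
    intro j
    change (Y.presheaf.map (homOfLE j.2.2).op).hom s = (Y.presheaf.map (homOfLE j.2.2).op).hom 0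
    rw [map_zero]
    apply (happ _ (hb j)).1
    rw [map_zero, hres U (V j) j.2.2 s, hs, map_zero]
  · intro t ht
    rw [Scheme.Hom.appLE_eq_app]
    have h1 : ∀ j : J, ∃ s : Γ(Y, V j), (p.app (V j)).hom s =
        (X.presheaf.map (homOfLE (p.preimage_mono j.2.2)).op).hom t := by
      intro j
      apply (happ _ (hb j)).2
      intro i
      rw [hresσ U (V j) j.2.2 i t, ht i]
    choose sf hsf using h1
    have hcompat : TopCat.Presheaf.IsCompatible Y.presheaf V sf := by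
      intro j k
      apply (happ _ (hbb j k)).1
      change (p.app (V j ⊓ V k)).hom ((Y.presheaf.map (homOfLE inf_le_left).op).hom (sf j)) =
        (p.app (V j ⊓ V k)).hom ((Y.presheaf.map (homOfLE inf_le_right).op).hom (sf k))
      rw [hres (V j) (V j ⊓ V k) inf_le_left, hres (V k) (V j ⊓ V k) inf_le_right, hsf, hsf]
      change (X.presheaf.map _ ≫ X.presheaf.map _).hom t = (X.presheaf.map _ ≫ X.presheaf.map _).hom t
      rw [← X.presheaf.map_comp, ← X.presheaf.map_comp]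
      rfl
    obtain ⟨s, hs, -⟩ := Y.sheaf.existsUnique_gluing' V U (fun j => homOfLE j.2.2) hcover sf hcompat
    refine ⟨s, ?_⟩
    fapply X.sheaf.eq_of_locally_eq' (fun j : J => p ⁻¹ᵁ V j) (p ⁻¹ᵁ U)
      (fun j => homOfLE (p.preimage_mono j.2.2)) hcover'
    intro j
    change (X.presheaf.map (homOfLE (p.preimage_mono j.2.2)).op).hom ((p.app U).hom s) =
      (X.presheaf.map (homOfLE (p.preimage_mono j.2.2)).op).hom t
    rw [← hres U (V j) j.2.2 s, ← hsf j]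
    congr 1
    exact hs j

/-- the quotient conditions on a basis imply `IsQuot`. -/
theorem isQuot_of_basis {G : Type u} [Group G] (ρ : G →* Aut X) {p : X ⟶ Y}
    (haff : IsAffineHom p) (hinv : ∀ g : G, (ρ g).hom ≫ p = p) (𝓑 : Set Y.Opens)
    (hbasis : ∀ (U : Y.Opens) (y : Y), y ∈ U → ∃ V ∈ 𝓑, y ∈ V ∧ V ≤ U)
    (hB : ∀ V ∈ 𝓑, QuotAt (fun g : G => (ρ g).hom) p V (p ⁻¹ᵁ V))
    (hBB : ∀ V ∈ 𝓑, ∀ W ∈ 𝓑, QuotAt (fun g : G => (ρ g).hom) p (V ⊓ W) (p ⁻¹ᵁ (V ⊓ W))) :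
    IsQuot ρ p := by
  have hall := quotAt_of_basis hinv 𝓑 hbasis hB hBB
  refine ⟨haff, hinv, fun U => ?_, fun U s => ⟨?_, ?_⟩⟩
  · obtain ⟨e, eσ, hinj, -⟩ := hall U
    rw [Scheme.Hom.appLE_eq_app] at hinj
    exact hinj
  · rintro ⟨a, rfl⟩ g
    have := appLE_invariant (σ := fun g : G => (ρ g).hom) hinv U (p ⁻¹ᵁ U) le_rfl g
      (preimage_le_of_inv ρ p hinv g U) a
    rw [Scheme.Hom.appLE_eq_app] at this
    exact this
  · intro hs
    obtain ⟨e, eσ, -, hrange⟩ := hall U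
    have := hrange s hs
    rw [Scheme.Hom.appLE_eq_app] at this
    exact this

/-- transport of the quotient conditions along open immersions. -/
theorem quotAt_of_isOpenImmersion {X₀ Y₀ : Scheme.{u}} (jX : X₀ ⟶ X) (jY : Y₀ ⟶ Y)
    [IsOpenImmersion jX] [IsOpenImmersion jY] (p₀ : X₀ ⟶ Y₀) (σ₀ : ι → (X₀ ⟶ X₀))
    (hp : jX ≫ p = p₀ ≫ jY) (hσ₀ : ∀ i, jX ≫ σ i = σ₀ i ≫ jX)
    (h₀ : QuotAt σ₀ p₀ ⊤ ⊤) : QuotAt σ p (jY ''ᵁ ⊤) (jX ''ᵁ ⊤) := by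
  obtain ⟨e₀, eσ₀, hinj₀, hrange₀⟩ := h₀
  have e : jX ''ᵁ ⊤ ≤ p ⁻¹ᵁ (jY ''ᵁ ⊤) := by
    rintro _ ⟨x₀, -, rfl⟩
    exact ⟨p₀.base x₀, trivial, (congrArg (fun ψ : X₀ ⟶ Y => ψ.base x₀) hp).symm⟩
  have eσ : ∀ i, jX ''ᵁ ⊤ ≤ σ i ⁻¹ᵁ (jX ''ᵁ ⊤) := by
    rintro i _ ⟨x₀, -, rfl⟩
    exact ⟨(σ₀ i).base x₀, trivial, (congrArg (fun ψ : X₀ ⟶ X => ψ.base x₀) (hσ₀ i)).symm⟩
  obtain ⟨a, ha⟩ : ∃ a, a = jX.appLE (jX ''ᵁ ⊤) ⊤ (jX.preimage_image_eq ⊤).ge := ⟨_, rfl⟩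
  obtain ⟨b, hb⟩ : ∃ b, b = jY.appLE (jY ''ᵁ ⊤) ⊤ (jY.preimage_image_eq ⊤).ge := ⟨_, rfl⟩
  have habij : Function.Bijective a.hom := by
    rw [ha, ← Scheme.Hom.appIso_hom']
    exact ConcreteCategory.bijective_of_isIso _
  have hbbij : Function.Bijective b.hom := by
    rw [hb, ← Scheme.Hom.appIso_hom']
    exact ConcreteCategory.bijective_of_isIso _
  have h1 : p.appLE _ _ e ≫ a = b ≫ p₀.appLE ⊤ ⊤ e₀ := by
    rw [ha, hb, Scheme.Hom.appLE_comp_appLE, Scheme.Hom.appLE_comp_appLE]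
    exact appLE_congr_hom hp _ _ _
  have h2 : ∀ i, (σ i).appLE _ _ (eσ i) ≫ a = a ≫ (σ₀ i).appLE ⊤ ⊤ (eσ₀ i) := by
    intro i
    rw [ha, Scheme.Hom.appLE_comp_appLE, Scheme.Hom.appLE_comp_appLE]
    exact appLE_congr_hom (hσ₀ i) _ _ _
  have h1' : ∀ t, a.hom ((p.appLE _ _ e).hom t) = (p₀.appLE ⊤ ⊤ e₀).hom (b.hom t) := fun t =>
    congrArg (fun f => f.hom t) h1
  have h2' : ∀ i s, a.hom (((σ i).appLE _ _ (eσ i)).hom s) =
      ((σ₀ i).appLE ⊤ ⊤ (eσ₀ i)).hom (a.hom s) := fun i s =>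
    congrArg (fun f => f.hom s) (h2 i)
  refine ⟨e, eσ, ?_, ?_⟩
  · intro t t' htt'
    apply hbbij.1
    apply hinj₀
    rw [← h1', ← h1', htt']
  · intro s hs
    have h3 : ∀ i, ((σ₀ i).appLE ⊤ ⊤ (eσ₀ i)).hom (a.hom s) = a.hom s := by
      intro i
      rw [← h2', hs i]
    obtain ⟨t₀, ht₀⟩ := hrange₀ (a.hom s) h3
    obtain ⟨t, rfl⟩ := hbbij.2 t₀
    refine ⟨t, ?_⟩
    apply habij.1
    rw [h1', ht₀]

/-- the quotient conditions for a morphism of affine schemes, from the rings. -/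
theorem quotAt_spec {A₀ B₀ : CommRingCat.{u}} (θ : A₀ ⟶ B₀) (τ : ι → (B₀ ⟶ B₀))
    (hinj : Function.Injective θ.hom)
    (hrange : ∀ s : B₀, (∀ i, (τ i).hom s = s) → s ∈ Set.range θ.hom) :
    QuotAt (fun i => Spec.map (τ i)) (Spec.map θ) ⊤ ⊤ := by
  have e : (⊤ : (Spec B₀).Opens) ≤ (Spec.map θ) ⁻¹ᵁ ⊤ := fun _ _ => trivial
  have eσ : ∀ i, (⊤ : (Spec B₀).Opens) ≤ (Spec.map (τ i)) ⁻¹ᵁ ⊤ := fun _ _ _ => trivial
  have hθ : ∀ t, (Scheme.ΓSpecIso B₀).hom.hom (((Spec.map θ).appLE ⊤ ⊤ e).hom t) =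
      θ.hom ((Scheme.ΓSpecIso A₀).hom.hom t) := by
    intro t
    rw [appLE_top_top]
    exact congrArg (fun f => f.hom t) (Scheme.ΓSpecIso_naturality θ)
  have hτ : ∀ i s, (Scheme.ΓSpecIso B₀).hom.hom (((Spec.map (τ i)).appLE ⊤ ⊤ (eσ i)).hom s) =
      (τ i).hom ((Scheme.ΓSpecIso B₀).hom.hom s) := by
    intro i s
    rw [appLE_top_top]
    exact congrArg (fun f => f.hom s) (Scheme.ΓSpecIso_naturality (τ i))
  have hA := ConcreteCategory.bijective_of_isIso (Scheme.ΓSpecIso A₀).hom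
  have hB := ConcreteCategory.bijective_of_isIso (Scheme.ΓSpecIso B₀).hom
  refine ⟨e, eσ, ?_, ?_⟩
  · intro t t' htt'
    apply hA.1
    apply hinj
    have := congrArg (Scheme.ΓSpecIso B₀).hom.hom htt'
    rw [hθ, hθ] at this
    exact this
  · intro s hs
    have h3 : ∀ i, (τ i).hom ((Scheme.ΓSpecIso B₀).hom.hom s) = (Scheme.ΓSpecIso B₀).hom.hom s := by
      intro i
      rw [← hτ, hs i]
    obtain ⟨a, ha⟩ := hrange _ h3
    obtain ⟨t, rfl⟩ := hA.2 a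
    refine ⟨t, ?_⟩
    apply hB.1
    rw [hθ]
    exact ha

end fam

end Groth.Agent.Lib.Seat72.QuotGlue
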