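import Mathlib
import Groth.Agent.Lib.Seat72QuotGlue

/-!
# Seat72: affine chart criterion for `SGA1.IsQuot`

* `quotAt_of_cover`: the gluing lemma `quotAt_of_basis` for a single open `U` covered by members of
  a family of opens contained in `U`.
* `quotAt_basicOpen'`: localisation of the quotient conditions at a basic open of an affine open.
* `quotAt_of_le_affine`: the quotient conditions at an affine open `V` (with affine preimage) imply
  them at every open `U ≤ V`.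
* `isQuot_of_affine_cover`: the quotient conditions on an affine open cover of the target imply
  `IsQuot`.
-/

set_option autoImplicit false
set_option maxSynthPendingDepth 3
set_option linter.style.haveILetI false
set_option linter.unusedSectionVars false

universe u

open CategoryTheory AlgebraicGeometry TopologicalSpace

namespace Groth.Agent.Lib.Seat72.QuotChart

open SGA1 Groth.Agent.Lib.Helper20 Groth.Agent.Lib.Seat72.QuotGlue

section fam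

variable {X Y : Scheme.{u}} {ι : Type u} {σ : ι → (X ⟶ X)} {p : X ⟶ Y}

theorem quotAt_of_cover (hσ : ∀ i, σ i ≫ p = p) (𝓑 : Set Y.Opens) (U : Y.Opens)
    (hbasis : ∀ y : Y, y ∈ U → ∃ V ∈ 𝓑, y ∈ V ∧ V ≤ U)
    (hB : ∀ V ∈ 𝓑, QuotAt σ p V (p ⁻¹ᵁ V))
    (hBB : ∀ V ∈ 𝓑, ∀ W ∈ 𝓑, QuotAt σ p (V ⊓ W) (p ⁻¹ᵁ (V ⊓ W))) :
    QuotAt σ p U (p ⁻¹ᵁ U) := by
  have eσ : ∀ (W : Y.Opens) (i : ι), p ⁻¹ᵁ W ≤ σ i ⁻¹ᵁ (p ⁻¹ᵁ W) := by
    intro W i
    rw [← Scheme.Hom.comp_preimage, hσ i]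
  let J := {V : Y.Opens // V ∈ 𝓑 ∧ V ≤ U}
  let V : J → Y.Opens := fun j => j.1
  have hcover : U ≤ iSup V := by
    intro y hy
    obtain ⟨W, hW, hyW, hWU⟩ := hbasis y hy
    exact Opens.mem_iSup.mpr ⟨⟨W, hW, hWU⟩, hyW⟩
  have hcover' : p ⁻¹ᵁ U ≤ iSup (fun j : J => p ⁻¹ᵁ V j) := by
    intro x hx
    obtain ⟨j, hj⟩ := Opens.mem_iSup.mp (hcover (show p.base x ∈ U from hx))
    exact Opens.mem_iSup.mpr ⟨j, hj⟩
  have hb : ∀ j : J, QuotAt σ p (V j) (p ⁻¹ᵁ V j) := fun j => hB j.1 j.2.1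
  have hbb : ∀ j k : J, QuotAt σ p (V j ⊓ V k) (p ⁻¹ᵁ (V j ⊓ V k)) := fun j k =>
    hBB j.1 j.2.1 k.1 k.2.1
  have hres : ∀ (W W' : Y.Opens) (hWW' : W' ≤ W) (a : Γ(Y, W)),
      (p.app W').hom ((Y.presheaf.map (homOfLE hWW').op).hom a) =
        (X.presheaf.map (homOfLE (p.preimage_mono hWW')).op).hom ((p.app W).hom a) := by
    intro W W' hWW' a
    exact congrArg (fun f => f.hom a) (p.naturality (homOfLE hWW').op)
  have hresσ : ∀ (W W' : Y.Opens) (hWW' : W' ≤ W) (i : ι) (t : Γ(X, p ⁻¹ᵁ W)),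
      ((σ i).appLE _ _ (eσ W' i)).hom ((X.presheaf.map (homOfLE (p.preimage_mono hWW')).op).hom t) =
        (X.presheaf.map (homOfLE (p.preimage_mono hWW')).op).hom
          (((σ i).appLE _ _ (eσ W i)).hom t) := by
    intro W W' hWW' i t
    have h1 : X.presheaf.map (homOfLE (p.preimage_mono hWW')).op ≫ (σ i).appLE _ _ (eσ W' i) =
        (σ i).appLE _ _ (eσ W i) ≫ X.presheaf.map (homOfLE (p.preimage_mono hWW')).op := by
      rw [Scheme.Hom.map_appLE, Scheme.Hom.appLE_map]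
    exact congrArg (fun f => f.hom t) h1
  have happ : ∀ (W : Y.Opens) (hW : QuotAt σ p W (p ⁻¹ᵁ W)),
      Function.Injective (p.app W).hom ∧ ∀ s : Γ(X, p ⁻¹ᵁ W),
        (∀ i, ((σ i).appLE _ _ (eσ W i)).hom s = s) → s ∈ Set.range (p.app W).hom := by
    rintro W ⟨e, eσ', hinj, hrange⟩
    rw [Scheme.Hom.app_eq_appLE]
    exact ⟨hinj, hrange⟩
  refine ⟨le_rfl, eσ U, ?_, ?_⟩
  · rw [Scheme.Hom.appLE_eq_app, injective_iff_map_eq_zero]
    intro s hs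
    fapply Y.sheaf.eq_of_locally_eq' V U (fun j => homOfLE j.2.2) hcover
    intro j
    change (Y.presheaf.map (homOfLE j.2.2).op).hom s = (Y.presheaf.map (homOfLE j.2.2).op).hom 0
    rw [map_zero]
    apply (happ _ (hb j)).1
    rw [map_zero, hres U (V j) j.2.2 s, hs, map_zero]
  · intro t ht
    rw [Scheme.Hom.appLE_eq_app]
    have h1 : ∀ j : J, ∃ s : Γ(Y, V j), (p.app (V j)).hom s =
        (X.presheaf.map (homOfLE (p.preimage_mono j.2.2)).op).hom t := by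
      intro j
      apply (happ _ (hb j)).2
      intro i
      rw [hresσ U (V j) j.2.2 i t, ht i]
    choose sf hsf using h1
    have hcompat : TopCat.Presheaf.IsCompatible Y.presheaf V sf := by
      intro j k
      apply (happ _ (hbb j k)).1
      change (p.app (V j ⊓ V k)).hom ((Y.presheaf.map (homOfLE inf_le_left).op).hom (sf j)) =
        (p.app (V j ⊓ V k)).hom ((Y.presheaf.map (homOfLE inf_le_right).op).hom (sf k))
      rw [hres (V j) (V j ⊓ V k) inf_le_left, hres (V k) (V j ⊓ V k) inf_le_right, hsf, hsf]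
      change (X.presheaf.map _ ≫ X.presheaf.map _).hom t = (X.presheaf.map _ ≫ X.presheaf.map _).hom t
      rw [← X.presheaf.map_comp, ← X.presheaf.map_comp]
      rfl
    obtain ⟨s, hs, -⟩ := Y.sheaf.existsUnique_gluing' V U (fun j => homOfLE j.2.2) hcover sf hcompat
    refine ⟨s, ?_⟩
    fapply X.sheaf.eq_of_locally_eq' (fun j : J => p ⁻¹ᵁ V j) (p ⁻¹ᵁ U)
      (fun j => homOfLE (p.preimage_mono j.2.2)) hcover'
    intro j
    change (X.presheaf.map (homOfLE (p.preimage_mono j.2.2)).op).hom ((p.app U).hom s) =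
      (X.presheaf.map (homOfLE (p.preimage_mono j.2.2)).op).hom t
    rw [← hres U (V j) j.2.2 s, ← hsf j]
    congr 1
    exact hs j

theorem quotAt_basicOpen' [Finite ι] (hσ : ∀ i, σ i ≫ p = p) {V : Y.Opens}
    (hV : IsAffineOpen V) (hT : IsAffineOpen (p ⁻¹ᵁ V)) (hq : QuotAt σ p V (p ⁻¹ᵁ V))
    (f : Γ(Y, V)) : QuotAt σ p (Y.basicOpen f) (p ⁻¹ᵁ Y.basicOpen f) := by
  obtain ⟨e, eσ, hinj, hrange⟩ := hq
  have hTb : X.basicOpen ((p.appLE V (p ⁻¹ᵁ V) e).hom f) = p ⁻¹ᵁ Y.basicOpen f := by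
    rw [Scheme.basicOpen_appLE]
    exact inf_eq_right.mpr (p.preimage_mono (Y.basicOpen_le f))
  rw [← hTb]
  have e' : X.basicOpen ((p.appLE V (p ⁻¹ᵁ V) e).hom f) ≤ p ⁻¹ᵁ Y.basicOpen f := hTb.le
  have eσ' : ∀ i, X.basicOpen ((p.appLE V (p ⁻¹ᵁ V) e).hom f) ≤
      σ i ⁻¹ᵁ X.basicOpen ((p.appLE V (p ⁻¹ᵁ V) e).hom f) := by
    intro i
    rw [hTb, ← Scheme.Hom.comp_preimage, hσ i]
  refine ⟨e', eσ', ?_⟩
  haveI := hV.isLocalization_basicOpen f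
  haveI := hT.isLocalization_basicOpen ((p.appLE V (p ⁻¹ᵁ V) e).hom f)
  have key := away_quot (Af := Γ(Y, Y.basicOpen f))
    (Bf := Γ(X, X.basicOpen ((p.appLE V (p ⁻¹ᵁ V) e).hom f))) f (p.appLE V (p ⁻¹ᵁ V) e).hom
    (fun i => ((σ i).appLE (p ⁻¹ᵁ V) (p ⁻¹ᵁ V) (eσ i)).hom)
    (fun i a => appLE_invariant hσ V (p ⁻¹ᵁ V) e i (eσ i) a) hinj (fun b hb => hrange b hb)
    (p.appLE (Y.basicOpen f) (X.basicOpen ((p.appLE V (p ⁻¹ᵁ V) e).hom f)) e').hom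
    (fun a => by
      change (Y.presheaf.map _ ≫ p.appLE _ _ e').hom a =
        (p.appLE V (p ⁻¹ᵁ V) e ≫ X.presheaf.map _).hom a
      rw [Scheme.Hom.map_appLE, Scheme.Hom.appLE_map])
    (fun i => ((σ i).appLE _ _ (eσ' i)).hom)
    (fun i b => by
      change (X.presheaf.map _ ≫ (σ i).appLE _ _ (eσ' i)).hom b =
        ((σ i).appLE (p ⁻¹ᵁ V) (p ⁻¹ᵁ V) (eσ i) ≫ X.presheaf.map _).hom b
      rw [Scheme.Hom.map_appLE, Scheme.Hom.appLE_map])
  exact key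

theorem quotAt_of_le_affine [Finite ι] (hσ : ∀ i, σ i ≫ p = p) {V : Y.Opens}
    (hV : IsAffineOpen V) (hT : IsAffineOpen (p ⁻¹ᵁ V)) (hq : QuotAt σ p V (p ⁻¹ᵁ V))
    (U : Y.Opens) (hUV : U ≤ V) : QuotAt σ p U (p ⁻¹ᵁ U) := by
  refine quotAt_of_cover hσ {W | ∃ f : Γ(Y, V), W = Y.basicOpen f} U ?_ ?_ ?_
  · intro y hy
    obtain ⟨f, hfU, hyf⟩ := hV.exists_basicOpen_le (V := U) ⟨y, hy⟩ (hUV hy)
    exact ⟨_, ⟨f, rfl⟩, hyf, hfU⟩
  · rintro _ ⟨f, rfl⟩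
    exact quotAt_basicOpen' hσ hV hT hq f
  · rintro _ ⟨f, rfl⟩ _ ⟨f', rfl⟩
    rw [← Scheme.basicOpen_mul]
    exact quotAt_basicOpen' hσ hV hT hq (f * f')

end fam

/-- the quotient conditions on an affine open cover of the target imply `IsQuot`. -/
theorem isQuot_of_affine_cover {X Y : Scheme.{u}} {G : Type u} [Group G] [Finite G]
    (ρ : G →* Aut X) {p : X ⟶ Y}
    (haff : IsAffineHom p) (hinv : ∀ g : G, (ρ g).hom ≫ p = p) (𝒱 : Set Y.Opens)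
    (hcov : ∀ y : Y, ∃ V ∈ 𝒱, y ∈ V) (h𝒱 : ∀ V ∈ 𝒱, IsAffineOpen V)
    (hq : ∀ V ∈ 𝒱, QuotAt (fun g : G => (ρ g).hom) p V (p ⁻¹ᵁ V)) :
    IsQuot ρ p := by
  have hall : ∀ V ∈ 𝒱, ∀ U : Y.Opens, U ≤ V →
      QuotAt (fun g : G => (ρ g).hom) p U (p ⁻¹ᵁ U) := fun V hV U hUV =>
    quotAt_of_le_affine hinv (h𝒱 V hV) ((h𝒱 V hV).preimage p) (hq V hV) U hUV
  refine isQuot_of_basis ρ haff hinv {U | ∃ V ∈ 𝒱, U ≤ V} ?_ ?_ ?_
  · intro U y hy
    obtain ⟨V, hV, hyV⟩ := hcov y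
    exact ⟨U ⊓ V, ⟨V, hV, inf_le_right⟩, ⟨hy, hyV⟩, inf_le_left⟩
  · rintro U ⟨V, hV, hUV⟩
    exact hall V hV U hUV
  · rintro U ⟨V, hV, hUV⟩ W -
    exact hall V hV (U ⊓ W) (inf_le_left.trans hUV)

end Groth.Agent.Lib.Seat72.QuotChart
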