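import Mathlib
import Groth.Agent.Lib.Seat72DblAlg
import Groth.Agent.Lib.Seat72QuotChart

/-!
# Seat72: the involution of a double cover and the quotient by it

For a finite flat locally finitely presented morphism `f : X ⟶ Y` of rank two with `2` invertible
on `Y`, the trace involutions `x ↦ Tr(x) - x` on the charts where `f_* O_X` is free glue to an
involution `σ` of `X` over `Y`, and `f` is the quotient of `X` by `σ`.
-/

set_option autoImplicit false
set_option maxSynthPendingDepth 3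
set_option linter.style.haveILetI false
set_option linter.unusedSectionVars false

universe u

open CategoryTheory CategoryTheory.Limits AlgebraicGeometry TopologicalSpace

namespace Groth.Agent.Lib.Seat72.DblCov

open Groth.Agent.Lib.Seat72.DblAlg

section glue

/-- gluing morphisms defined on an open cover which agree locally on the overlaps. -/
theorem exists_glue {X Z : Scheme.{u}} {J : Type u} (U : J → X.Opens)
    (hU : ∀ x : X, ∃ j, x ∈ U j) (g : ∀ j, (U j : Scheme.{u}) ⟶ Z)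
    (H : ∀ i j (x : X), x ∈ U i → x ∈ U j → ∃ (W : X.Opens) (hi : W ≤ U i) (hj : W ≤ U j),
      x ∈ W ∧ X.homOfLE hi ≫ g i = X.homOfLE hj ≫ g j) :
    ∃ h : X ⟶ Z, ∀ j, (U j).ι ≫ h = g j := by
  have hcov : IsOpenCover U := by
    rw [IsOpenCover, eq_top_iff]
    intro x _
    obtain ⟨j, hj⟩ := hU x
    exact Opens.mem_iSup.mpr ⟨j, hj⟩
  let 𝒰 := X.openCoverOfIsOpenCover U hcov
  have hcompat : ∀ i j : J, pullback.fst (U i).ι (U j).ι ≫ g i =
      pullback.snd (U i).ι (U j).ι ≫ g j := by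
    intro i j
    apply Scheme.hom_ext_of_forall
    intro p
    let a : pullback (U i).ι (U j).ι ⟶ X := pullback.fst (U i).ι (U j).ι ≫ (U i).ι
    have ha : a = pullback.snd (U i).ι (U j).ι ≫ (U j).ι := pullback.condition
    have hxi : a p ∈ U i := ((pullback.fst (U i).ι (U j).ι) p).2
    have hxj : a p ∈ U j := by
      rw [ha]
      exact ((pullback.snd (U i).ι (U j).ι) p).2
    obtain ⟨W, hi, hj, hxW, hW⟩ := H i j (a p) hxi hxj
    refine ⟨a ⁻¹ᵁ W, hxW, ?_⟩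
    have h1 : (a ⁻¹ᵁ W).ι ≫ pullback.fst (U i).ι (U j).ι = (a ∣_ W) ≫ X.homOfLE hi := by
      rw [← cancel_mono (U i).ι, Category.assoc, Category.assoc, Scheme.homOfLE_ι,
        morphismRestrict_ι]
    have h2 : (a ⁻¹ᵁ W).ι ≫ pullback.snd (U i).ι (U j).ι = (a ∣_ W) ≫ X.homOfLE hj := by
      rw [← cancel_mono (U j).ι, Category.assoc, Category.assoc, Scheme.homOfLE_ι,
        morphismRestrict_ι, ← ha]
    rw [reassoc_of% h1, reassoc_of% h2, hW]
  exact ⟨𝒰.glueMorphisms g hcompat, fun j => 𝒰.ι_glueMorphisms g hcompat j⟩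

end glue

section chart

variable {X Y : Scheme.{u}}

/-- a chart: an affine open `V` of `Y` with affine preimage `T` over which `O_X` is free of rank
two over `O_Y`. -/
structure Chart (f : X ⟶ Y) where
  /-- the open of the target -/
  V : Y.Opens
  /-- its preimage -/
  T : X.Opens
  hV : IsAffineOpen V
  hT : IsAffineOpen T
  eq : T = f ⁻¹ᵁ V
  good : GoodHom (f.appLE V T eq.le).hom

namespace Chart

variable {f : X ⟶ Y} (c : Chart f)

theorem le : c.T ≤ f ⁻¹ᵁ c.V := c.eq.le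

/-- the ring map of the chart -/
noncomputable def φ : Γ(Y, c.V) ⟶ Γ(X, c.T) := f.appLE c.V c.T c.le

/-- the trace involution of the chart -/
noncomputable def τ : Γ(X, c.T) ⟶ Γ(X, c.T) := CommRingCat.ofHom (tauRingHom c.φ.hom c.good)

theorem φ_τ : c.φ ≫ c.τ = c.φ := by
  ext1
  exact tauRingHom_comp c.φ.hom c.good

theorem τ_τ : c.τ ≫ c.τ = 𝟙 _ := by
  ext1
  exact tauRingHom_invol c.φ.hom c.good

/-- the local involution, as a morphism to `X`. -/
noncomputable def g : (c.T : Scheme.{u}) ⟶ X :=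
  c.hT.isoSpec.hom ≫ Spec.map c.τ ≫ c.hT.fromSpec

theorem g_comp : c.g ≫ f = c.T.ι ≫ f := by
  have h : c.hT.fromSpec ≫ f = Spec.map c.φ ≫ c.hV.fromSpec :=
    (IsAffineOpen.SpecMap_appLE_fromSpec f c.hV c.hT c.le).symm
  rw [g, Category.assoc, Category.assoc, h, ← Spec.map_comp_assoc, c.φ_τ, ← h,
    IsAffineOpen.isoSpec_hom_fromSpec_assoc]

/-- charts with the same target open give the same local involution. -/
theorem g_congr (c c' : Chart f) (h : c.V = c'.V) :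
    X.homOfLE (c.eq.trans (h ▸ c'.eq.symm)).le ≫ c'.g = c.g := by
  obtain ⟨V, T, hV, hT, eq, good⟩ := c
  obtain ⟨V', T', hV', hT', eq', good'⟩ := c'
  dsimp only at h
  subst h
  have : T = T' := eq.trans eq'.symm
  subst this
  simp

theorem basic_eq (r : Γ(Y, c.V)) : X.basicOpen (c.φ.hom r) = f ⁻¹ᵁ Y.basicOpen r := by
  have h1 : X.basicOpen (c.φ.hom r) = c.T ⊓ f ⁻¹ᵁ Y.basicOpen r :=
    Scheme.basicOpen_appLE f c.T c.V c.le r
  rw [h1, c.eq]
  exact inf_eq_right.mpr (f.preimage_mono (Y.basicOpen_le r))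

theorem basic_comm (r : Γ(Y, c.V)) :
    (f.appLE (Y.basicOpen r) (X.basicOpen (c.φ.hom r)) (c.basic_eq r).le).hom.comp
        (Y.presheaf.map (homOfLE (Y.basicOpen_le r)).op).hom =
      (X.presheaf.map (homOfLE (X.basicOpen_le (c.φ.hom r))).op).hom.comp c.φ.hom := by
  rw [← CommRingCat.hom_comp, ← CommRingCat.hom_comp]
  change (Y.presheaf.map _ ≫ f.appLE _ _ _).hom = (f.appLE _ _ _ ≫ X.presheaf.map _).hom
  rw [Scheme.Hom.map_appLE, Scheme.Hom.appLE_map]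

theorem basic_loc (r : Γ(Y, c.V)) :
    ∃ h' : GoodHom (f.appLE (Y.basicOpen r) (X.basicOpen (c.φ.hom r)) (c.basic_eq r).le).hom,
      ∀ x, tauRingHom _ h' ((X.presheaf.map (homOfLE (X.basicOpen_le (c.φ.hom r))).op).hom x) =
        (X.presheaf.map (homOfLE (X.basicOpen_le (c.φ.hom r))).op).hom
          (tauRingHom c.φ.hom c.good x) :=
  goodHom_localization c.φ.hom c.good _ _ _ (c.basic_comm r) r
    (c.hV.isLocalization_basicOpen r) (c.hT.isLocalization_basicOpen (c.φ.hom r))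

/-- the sub-chart over a basic open. -/
noncomputable def basic (r : Γ(Y, c.V)) : Chart f where
  V := Y.basicOpen r
  T := X.basicOpen (c.φ.hom r)
  hV := c.hV.basicOpen r
  hT := c.hT.basicOpen _
  eq := c.basic_eq r
  good := (c.basic_loc r).choose

theorem basic_τ (r : Γ(Y, c.V)) :
    c.τ ≫ X.presheaf.map (homOfLE (X.basicOpen_le (c.φ.hom r))).op =
      X.presheaf.map (homOfLE (X.basicOpen_le (c.φ.hom r))).op ≫ (c.basic r).τ := by
  ext x
  exact ((c.basic_loc r).choose_spec x).symm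

/-- compatibility of the local involutions for a chart inside another, given the compatibility of
the ring involutions. -/
theorem g_of_le (c c' : Chart f) (hT : c'.T ≤ c.T)
    (hτ : c.τ ≫ X.presheaf.map (homOfLE hT).op = X.presheaf.map (homOfLE hT).op ≫ c'.τ) :
    X.homOfLE hT ≫ c.g = c'.g := by
  have h1 : c'.hT.fromSpec = Spec.map (X.presheaf.map (homOfLE hT).op) ≫ c.hT.fromSpec :=
    (c.hT.map_fromSpec c'.hT (homOfLE hT).op).symm
  have h2 : X.homOfLE hT ≫ c.hT.isoSpec.hom =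
      c'.hT.isoSpec.hom ≫ Spec.map (X.presheaf.map (homOfLE hT).op) :=
    (Scheme.Opens.toSpecΓ_SpecMap_presheaf_map _ _ hT).symm
  have h3 : Spec.map (X.presheaf.map (homOfLE hT).op) ≫ Spec.map c.τ =
      Spec.map c'.τ ≫ Spec.map (X.presheaf.map (homOfLE hT).op) := by
    rw [← Spec.map_comp, ← Spec.map_comp, hτ]
  rw [g, g, reassoc_of% h2, reassoc_of% h3, h1]

theorem basic_g (r : Γ(Y, c.V)) :
    X.homOfLE (X.basicOpen_le (c.φ.hom r)) ≫ c.g = (c.basic r).g :=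
  g_of_le c (c.basic r) (X.basicOpen_le (c.φ.hom r)) (c.basic_τ r)

end Chart

end chart

section cover

variable {X Y : Scheme.{u}} (f : X ⟶ Y) [IsFinite f] [Flat f] [LocallyOfFinitePresentation f]

theorem finrank_appLE {V : Y.Opens} (hV : IsAffineOpen V) (p : PrimeSpectrum Γ(Y, V)) :
    (f.appLE V (f ⁻¹ᵁ V) le_rfl).hom.finrank p = f.finrank (hV.fromSpec p) := by
  have hT : IsAffineOpen (f ⁻¹ᵁ V) := hV.preimage f
  have H : hT.fromSpec ≫ f = Spec.map (f.appLE V _ le_rfl) ≫ hV.fromSpec :=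
    (IsAffineOpen.SpecMap_appLE_fromSpec f hV hT le_rfl).symm
  have H' : f ⁻¹ᵁ hV.fromSpec.opensRange = hT.fromSpec.opensRange := by
    rw [hV.opensRange_fromSpec, hT.opensRange_fromSpec]
  have hpb := IsOpenImmersion.isPullback (Spec.map (f.appLE V _ le_rfl)) hT.fromSpec
    hV.fromSpec f H H'
  have h1 := Scheme.Hom.finrank_of_isPullback _ _ _ _ hpb.flip p
  have hfin : (f.appLE V (f ⁻¹ᵁ V) le_rfl).hom.Finite := by
    rw [Scheme.Hom.appLE_eq_app]
    exact f.finite_app V hV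
  have hflat : (f.appLE V (f ⁻¹ᵁ V) le_rfl).hom.Flat := f.flat_appLE hV hT le_rfl
  rw [← h1, Scheme.Hom.finrank_SpecMap_eq_finrank hfin hflat]

theorem exists_chart (hrk : ∀ y : Y, f.finrank y = 2) (y : Y) : ∃ c : Chart f, y ∈ c.V := by
  obtain ⟨V₀, hV₀, hy, -⟩ := exists_isAffineOpen_mem_and_subset (x := y) (U := ⊤) trivial
  have hT₀ : IsAffineOpen (f ⁻¹ᵁ V₀) := hV₀.preimage f
  let φ₀ := f.appLE V₀ (f ⁻¹ᵁ V₀) le_rfl
  let p := hV₀.primeIdealOf ⟨y, hy⟩
  have hp : hV₀.fromSpec p = y := hV₀.fromSpec_primeIdealOf ⟨y, hy⟩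
  have hfin : φ₀.hom.Finite := by
    change (f.appLE V₀ (f ⁻¹ᵁ V₀) le_rfl).hom.Finite
    rw [Scheme.Hom.appLE_eq_app]
    exact f.finite_app V₀ hV₀
  have hflat : φ₀.hom.Flat := f.flat_appLE hV₀ hT₀ le_rfl
  have hfp : φ₀.hom.FinitePresentation := f.finitePresentation_appLE hV₀ hT₀ le_rfl
  have hrk' : φ₀.hom.finrank p = 2 := by
    rw [finrank_appLE f hV₀ p, hp, hrk]
  obtain ⟨r, hr, H⟩ := exists_goodHom_localization φ₀.hom hfin hflat hfp p hrk'
  have eq' : X.basicOpen (φ₀.hom r) = f ⁻¹ᵁ Y.basicOpen r := by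
    have h1 : X.basicOpen (φ₀.hom r) = f ⁻¹ᵁ V₀ ⊓ f ⁻¹ᵁ Y.basicOpen r :=
      Scheme.basicOpen_appLE f (f ⁻¹ᵁ V₀) V₀ le_rfl r
    rw [h1]
    exact inf_eq_right.mpr (f.preimage_mono (Y.basicOpen_le r))
  have comm : (f.appLE (Y.basicOpen r) (X.basicOpen (φ₀.hom r)) eq'.le).hom.comp
        (Y.presheaf.map (homOfLE (Y.basicOpen_le r)).op).hom =
      (X.presheaf.map (homOfLE (X.basicOpen_le (φ₀.hom r))).op).hom.comp φ₀.hom := by
    rw [← CommRingCat.hom_comp, ← CommRingCat.hom_comp]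
    change (Y.presheaf.map _ ≫ f.appLE _ _ _).hom = (f.appLE _ _ _ ≫ X.presheaf.map _).hom
    rw [Scheme.Hom.map_appLE, Scheme.Hom.appLE_map]
  refine ⟨⟨Y.basicOpen r, X.basicOpen (φ₀.hom r), hV₀.basicOpen r, hT₀.basicOpen _, eq',
    H _ _ _ comm (hV₀.isLocalization_basicOpen r) (hT₀.isLocalization_basicOpen (φ₀.hom r))⟩, ?_⟩
  change y ∈ Y.basicOpen r
  have h2 : p ∈ hV₀.fromSpec ⁻¹ᵁ Y.basicOpen r := by
    rw [hV₀.fromSpec_preimage_basicOpen r]
    exact hr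
  rw [← hp]
  exact h2

end cover

section main

variable {X Y : Scheme.{u}} (f : X ⟶ Y) [IsFinite f] [Flat f] [LocallyOfFinitePresentation f]

theorem exists_sigma (hrk : ∀ y : Y, f.finrank y = 2) :
    ∃ σ : X ⟶ X, ∀ c : Chart f, c.T.ι ≫ σ = c.g := by
  refine exists_glue (fun c : Chart f => c.T) ?_ (fun c => c.g) ?_
  · intro x
    obtain ⟨c, hc⟩ := exists_chart f hrk (f x)
    refine ⟨c, ?_⟩
    rw [c.eq]
    exact hc
  · intro c₁ c₂ x h₁ h₂
    have hx₁ : f x ∈ c₁.V := by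
      have : x ∈ c₁.T := h₁
      rw [c₁.eq] at this
      exact this
    have hx₂ : f x ∈ c₂.V := by
      have : x ∈ c₂.T := h₂
      rw [c₂.eq] at this
      exact this
    obtain ⟨r₁, r₂, hr, hx⟩ := exists_basicOpen_le_affine_inter c₁.hV c₂.hV (f x) ⟨hx₁, hx₂⟩
    have hV : (c₁.basic r₁).V = (c₂.basic r₂).V := hr
    have hTT : (c₁.basic r₁).T = (c₂.basic r₂).T :=
      (c₁.basic r₁).eq.trans (hV ▸ (c₂.basic r₂).eq.symm)
    have hle₂ : (c₂.basic r₂).T ≤ c₂.T := X.basicOpen_le _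
    refine ⟨(c₁.basic r₁).T, X.basicOpen_le _, hTT.le.trans hle₂, ?_, ?_⟩
    · rw [(c₁.basic r₁).eq]
      exact hx
    · have e1 : X.homOfLE (X.basicOpen_le (c₁.φ.hom r₁)) ≫ c₁.g = (c₁.basic r₁).g :=
        c₁.basic_g r₁
      have e2 : X.homOfLE hle₂ ≫ c₂.g = (c₂.basic r₂).g := c₂.basic_g r₂
      have e3 : X.homOfLE hTT.le ≫ (c₂.basic r₂).g = (c₁.basic r₁).g :=
        Chart.g_congr _ _ hV
      change X.homOfLE (X.basicOpen_le (c₁.φ.hom r₁)) ≫ c₁.g = X.homOfLE (hTT.le.trans hle₂) ≫ c₂.g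
      rw [e1, ← X.homOfLE_homOfLE hTT.le hle₂, Category.assoc, e2, e3]

theorem sigma_comp {σ : X ⟶ X} (hσ : ∀ c : Chart f, c.T.ι ≫ σ = c.g)
    (hrk : ∀ y : Y, f.finrank y = 2) : σ ≫ f = f := by
  apply Scheme.hom_ext_of_forall
  intro x
  obtain ⟨c, hc⟩ := exists_chart f hrk (f x)
  refine ⟨c.T, ?_, ?_⟩
  · rw [c.eq]
    exact hc
  · rw [reassoc_of% (hσ c), c.g_comp]

theorem fromSpec_sigma {σ : X ⟶ X} (hσ : ∀ c : Chart f, c.T.ι ≫ σ = c.g) (c : Chart f) :
    c.hT.fromSpec ≫ σ = Spec.map c.τ ≫ c.hT.fromSpec := by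
  rw [← c.hT.isoSpec_inv_ι, Category.assoc, hσ c, Chart.g, Iso.inv_hom_id_assoc,
    c.hT.isoSpec_inv_ι]

theorem sigma_sigma {σ : X ⟶ X} (hσ : ∀ c : Chart f, c.T.ι ≫ σ = c.g)
    (hrk : ∀ y : Y, f.finrank y = 2) : σ ≫ σ = 𝟙 X := by
  apply Scheme.hom_ext_of_forall
  intro x
  obtain ⟨c, hc⟩ := exists_chart f hrk (f x)
  refine ⟨c.T, ?_, ?_⟩
  · rw [c.eq]
    exact hc
  · rw [reassoc_of% (hσ c), Chart.g, Category.assoc, Category.assoc, fromSpec_sigma f hσ c,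
      ← Spec.map_comp_assoc, c.τ_τ, Spec.map_id, Category.id_comp, Category.comp_id,
      c.hT.isoSpec_hom_fromSpec]

theorem sigma_appLE {σ : X ⟶ X} (hσ : ∀ c : Chart f, c.T.ι ≫ σ = c.g) (c : Chart f)
    (e : c.T ≤ σ ⁻¹ᵁ c.T) : σ.appLE c.T c.T e = c.τ := by
  apply Spec.map_injective
  rw [← cancel_mono c.hT.fromSpec, IsAffineOpen.SpecMap_appLE_fromSpec σ c.hT c.hT e,
    fromSpec_sigma f hσ c]

/-- the automorphisms commuting with `f`, as a subgroup. -/
def stab : Subgroup (Aut X) where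
  carrier := {a | a.hom ≫ f = f}
  mul_mem' {a b} ha hb := by
    change (b.hom ≫ a.hom) ≫ f = f
    rw [Category.assoc, ha, hb]
  one_mem' := Category.id_comp f
  inv_mem' {a} ha := by
    change a.inv ≫ f = f
    have h : a.hom ≫ f = f := ha
    rw [← h, Iso.inv_hom_id_assoc, h]

theorem main (hrk : ∀ y : Y, f.finrank y = 2) (h2 : IsUnit (2 : Γ(Y, ⊤))) :
    ∃ σ : Aut X, σ.hom ≫ f = f ∧ σ * σ = 1 ∧ SGA1.IsQuot (Subgroup.zpowers σ).subtype f := by
  obtain ⟨σ, hσ⟩ := exists_sigma f hrk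
  have hσf : σ ≫ f = f := sigma_comp f hσ hrk
  have hσσ : σ ≫ σ = 𝟙 X := sigma_sigma f hσ hrk
  let σA : Aut X := ⟨σ, σ, hσσ, hσσ⟩
  have hmul : σA * σA = 1 := Aut.ext hσσ
  refine ⟨σA, hσf, hmul, ?_⟩
  have hfo : IsOfFinOrder σA :=
    isOfFinOrder_iff_pow_eq_one.mpr ⟨2, by norm_num, by rw [pow_two]; exact hmul⟩
  haveI : Finite ↥(Subgroup.zpowers σA) := hfo.finite_zpowers.to_subtype
  have hinv : ∀ g : ↥(Subgroup.zpowers σA), ((Subgroup.zpowers σA).subtype g).hom ≫ f = f := by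
    intro g
    have hle : Subgroup.zpowers σA ≤ stab f := Subgroup.zpowers_le.mpr hσf
    exact hle g.2
  refine Groth.Agent.Lib.Seat72.QuotChart.isQuot_of_affine_cover (Subgroup.zpowers σA).subtype
    (inferInstance : IsAffineHom f) hinv {V | ∃ c : Chart f, c.V = V} ?_ ?_ ?_
  · intro y
    obtain ⟨c, hc⟩ := exists_chart f hrk y
    exact ⟨c.V, ⟨c, rfl⟩, hc⟩
  · rintro _ ⟨c, rfl⟩
    exact c.hV
  · rintro _ ⟨c, rfl⟩
    have hc := c.eq
    obtain ⟨V, T, hV, hT, eq, good⟩ := c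
    dsimp only at hc ⊢
    subst hc
    let c : Chart f := ⟨V, f ⁻¹ᵁ V, hV, hT, rfl, good⟩
    have h2V : IsUnit (2 : Γ(Y, V)) := by
      have := h2.map (Y.presheaf.map (homOfLE (le_top : V ≤ ⊤)).op).hom
      rwa [map_ofNat] at this
    have eσ : ∀ g : ↥(Subgroup.zpowers σA),
        f ⁻¹ᵁ V ≤ ((Subgroup.zpowers σA).subtype g).hom ⁻¹ᵁ (f ⁻¹ᵁ V) := by
      intro g
      rw [← Scheme.Hom.comp_preimage, hinv g]
    refine ⟨le_rfl, eσ, injective_of_goodHom _ good h2V, fun s hs => ?_⟩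
    have h1 := hs ⟨σA, Subgroup.mem_zpowers σA⟩
    have h3 : σ.appLE (f ⁻¹ᵁ V) (f ⁻¹ᵁ V) (eσ ⟨σA, Subgroup.mem_zpowers σA⟩) = c.τ :=
      sigma_appLE f hσ c _
    have h4 : c.τ.hom s = s := by
      rw [← h3]
      exact h1
    exact tauRingHom_fixed _ good h2V s h4

end main

end Groth.Agent.Lib.Seat72.DblCov
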