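import Mathlib
import Groth.Agent.Lib.Helper6ReducedSmooth
import Groth.Agent.Lib.Helper14GeomRed

/-!
# Seat72: additive Leibniz maps kill separable algebraic elements

* `der_eval₂`: the chain rule `D (q(b)) = q'(b) • D b` for an additive map satisfying Leibniz and
  killing the image of the base ring;
* `separable_minpoly_of_smooth`: an element of a smooth algebra over a field which is integral over
  the field has separable minimal polynomial;
* `der_eq_zero_of_smooth`: consequently `D b = 0` for such elements.
-/

set_option autoImplicit false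
set_option maxSynthPendingDepth 3
set_option linter.style.haveILetI false
set_option linter.unusedSectionVars false
universe u

open Polynomial TensorProduct

namespace Groth.Agent.Lib.Seat72.DerAlg

section Der

variable {R B M : Type*} [CommRing R] [CommRing B] [AddCommGroup M] [Module B M]
  (φ : R →+* B) (D : B →+ M)
  (hmul : ∀ a b : B, D (a * b) = a • D b + b • D a) (hφ : ∀ c : R, D (φ c) = 0)

include hmul in
theorem der_one : D 1 = 0 := by
  have h := hmul 1 1
  simp only [mul_one, one_smul] at h
  have : D 1 + 0 = D 1 + D 1 := by rw [add_zero]; exact h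
  exact (add_left_cancel this).symm

include hmul in
theorem der_pow_succ (b : B) (n : ℕ) :
    D (b ^ (n + 1)) = (((n + 1 : ℕ) : B) * b ^ n) • D b := by
  induction n with
  | zero => simp
  | succ n ih =>
    rw [pow_succ, hmul, ih, smul_smul, ← add_smul]
    congr 1
    push_cast
    ring

include hmul hφ in
theorem der_eval₂ (b : B) (q : R[X]) :
    D (eval₂ φ b q) = (eval₂ φ b (derivative q)) • D b := by
  induction q using Polynomial.induction_on' with
  | add p q hp hq => simp only [eval₂_add, map_add, add_smul, hp, hq]
  | monomial n c =>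
    rw [eval₂_monomial, hmul, hφ, smul_zero, add_zero, derivative_monomial, eval₂_monomial]
    cases n with
    | zero => simp [der_one D hmul]
    | succ n =>
      rw [der_pow_succ D hmul, smul_smul]
      congr 1
      simp only [Nat.add_sub_cancel, map_mul, map_natCast]
      push_cast
      ring

include hmul hφ in
/-- an additive Leibniz map killing the base kills every root of a separable polynomial. -/
theorem der_eq_zero_of_separable (b : B) (q : R[X]) (hq : q.Separable) (hb : eval₂ φ b q = 0) :
    D b = 0 := by
  obtain ⟨u, v, huv⟩ := hq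
  have h1 : eval₂ φ b (derivative q) • D b = 0 := by
    rw [← der_eval₂ φ D hmul hφ, hb, map_zero]
  have h2 : eval₂ φ b v * eval₂ φ b (derivative q) = 1 := by
    have := congrArg (eval₂ φ b) huv
    simpa [eval₂_add, eval₂_mul, hb] using this
  calc D b = (1 : B) • D b := (one_smul _ _).symm
    _ = (eval₂ φ b v * eval₂ φ b (derivative q)) • D b := by rw [h2]
    _ = 0 := by rw [mul_smul, h1, smul_zero]

end Der

section Sep

theorem squarefree_of_isReduced_adjoinRoot {K : Type*} [Field K] {q : K[X]} (hq : q ≠ 0)
    [IsReduced (AdjoinRoot q)] : Squarefree q := by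
  intro a ha
  obtain ⟨c, hc⟩ := ha
  have h1 : (AdjoinRoot.mk q (a * c)) ^ 2 = 0 := by
    rw [← map_pow, AdjoinRoot.mk_eq_zero]
    exact ⟨c, by rw [hc]; ring⟩
  have h2 : AdjoinRoot.mk q (a * c) = 0 := IsReduced.eq_zero _ ⟨2, h1⟩
  rw [AdjoinRoot.mk_eq_zero] at h2
  obtain ⟨e, he⟩ := h2
  have hac : a * c ≠ 0 := by
    intro h
    apply hq
    rw [hc, mul_assoc, h, mul_zero]
  have h3 : a * c * 1 = a * c * (a * e) := by
    rw [mul_one]
    conv_lhs => rw [he, hc]
    ring
  have h4 := mul_left_cancel₀ hac h3
  exact IsUnit.of_mul_eq_one e h4.symm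

/-- an integral element of a smooth algebra over a field has separable minimal polynomial. -/
theorem separable_minpoly_of_smooth (k B : Type u) [Field k] [CommRing B] [Algebra k B]
    [Algebra.Smooth k B] (b : B) (hb : IsIntegral k b) : (minpoly k b).Separable := by
  set p := minpoly k b with hp
  let K := AlgebraicClosure k
  haveI : IsReduced (K ⊗[k] B) := Groth.Agent.Lib.Helper6.isReduced_of_smooth K (K ⊗[k] B)
  let φ : AdjoinRoot p →ₐ[k] B := AdjoinRoot.liftAlgHom p (Algebra.ofId k B) b (by
    have := minpoly.aeval k b
    rwa [Polynomial.aeval_def] at this)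
  have hφ : Function.Injective φ := by
    rw [injective_iff_map_eq_zero]
    intro x hx
    obtain ⟨g, rfl⟩ := AdjoinRoot.mk_surjective x
    rw [AdjoinRoot.mk_eq_zero]
    apply minpoly.dvd
    simpa [φ, Polynomial.aeval_def] using hx
  haveI : IsReduced (K ⊗[k] AdjoinRoot p) :=
    isReduced_of_injective (Algebra.TensorProduct.map (AlgHom.id K K) φ)
      (Module.Flat.lTensor_preserves_injective_linearMap _ hφ)
  let e := Groth.Agent.Lib.Helper14.GeomRed.adjoinRootTensorEquiv' (L := k) (R := K) p
  haveI : IsReduced (AdjoinRoot (p.map (algebraMap k K))) :=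
    isReduced_of_injective e.symm e.symm.injective
  have hsq : Squarefree (p.map (algebraMap k K)) :=
    squarefree_of_isReduced_adjoinRoot
      ((Polynomial.map_ne_zero_iff (algebraMap k K).injective).mpr (minpoly.ne_zero hb))
  have hsep : (p.map (algebraMap k K)).Separable := PerfectField.separable_iff_squarefree.mpr hsq
  exact (Polynomial.separable_map _).mp hsep

/-- ring-hom form: an additive Leibniz map on a smooth algebra over a field, killing the field,
kills every element which is integral over the field. -/
theorem der_eq_zero_of_smooth {k B : Type u} {M : Type*} [Field k] [CommRing B] [AddCommGroup M]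
    [Module B M] (φ : k →+* B) (hφs : φ.Smooth) (D : B →+ M)
    (hmul : ∀ a b : B, D (a * b) = a • D b + b • D a) (hφ : ∀ c : k, D (φ c) = 0)
    (b : B) (hb : φ.IsIntegralElem b) : D b = 0 := by
  algebraize [φ]
  have hb' : IsIntegral k b := hb
  have hsep := separable_minpoly_of_smooth k B b hb'
  refine der_eq_zero_of_separable φ D hmul hφ b _ hsep ?_
  have := minpoly.aeval k b
  rwa [Polynomial.aeval_def] at this

end Sep

end Groth.Agent.Lib.Seat72.DerAlg
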