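import Mathlib

set_option autoImplicit false
set_option maxSynthPendingDepth 3
set_option linter.unusedSectionVars false

open MvPolynomial

namespace Groth.Agent.Lib.Seat72.Expand

/-- A commutative ring viewed as an algebra over itself through an endomorphism. -/
def Via {B : Type*} [CommRing B] (_Φ : B →+* B) : Type _ := B

section Via
variable {B : Type*} [CommRing B] (Φ : B →+* B)
instance : CommRing (Via Φ) := inferInstanceAs (CommRing B)
instance : Algebra B (Via Φ) := Φ.toAlgebra
instance [IsDomain B] : IsDomain (Via Φ) := inferInstanceAs (IsDomain B)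
/-- the identity map into the copy -/
def Via.mk (b : B) : Via Φ := b
/-- the identity map out of the copy -/
def Via.out (x : Via Φ) : B := x
theorem Via.algebraMap_apply (b : B) : algebraMap B (Via Φ) b = Via.mk Φ (Φ b) := rfl
theorem Via.smul_def (b : B) (x : Via Φ) : b • x = Via.mk Φ (Φ b * Via.out Φ x) := rfl
end Via

variable {R : Type*} [CommRing R] {σ : Type*} [Fintype σ] [DecidableEq σ] (q : ℕ)

/-- the exponent vector of a remainder family -/
noncomputable def fs (r : σ → Fin q) : σ →₀ ℕ := Finsupp.equivFunOnFinite.symm (fun t => (r t : ℕ))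

@[simp] theorem fs_apply (r : σ → Fin q) (t : σ) : fs q r t = (r t : ℕ) := rfl

/-- quotient exponent -/
noncomputable def qt (m : σ →₀ ℕ) : σ →₀ ℕ := m.mapRange (· / q) (by simp)

@[simp] theorem qt_apply (m : σ →₀ ℕ) (t : σ) : qt q m t = m t / q := by
  simp [qt]

theorem coeff_term (hq : q ≠ 0) (g : MvPolynomial σ R) (r : σ → Fin q) (m : σ →₀ ℕ) :
    coeff m (expand q g * monomial (fs q r) 1) =
      if (∀ t, m t % q = r t) then coeff (qt q m) g else 0 := by
  rw [coeff_mul_monomial', mul_one]
  split_ifs with h1 h2 h2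
  · have : m - fs q r = q • qt q m := by
      ext t
      simp only [Finsupp.coe_tsub, Pi.sub_apply, fs_apply, Finsupp.coe_smul, Pi.smul_apply,
        qt_apply, smul_eq_mul]
      rw [← h2 t]
      have := Nat.div_add_mod (m t) q
      omega
    rw [this, coeff_expand_smul q hq]
  · push Not at h2
    obtain ⟨t, ht⟩ := h2
    apply coeff_expand_of_not_dvd (i := t)
    intro hdvd
    apply ht
    have hle : (r t : ℕ) ≤ m t := h1 t
    simp only [Finsupp.coe_tsub, Pi.sub_apply, fs_apply] at hdvd
    obtain ⟨c, hc⟩ := hdvd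
    have hm : m t = q * c + r t := by omega
    rw [hm, Nat.mul_add_mod, Nat.mod_eq_of_lt (r t).2]
  · exfalso
    apply h1
    intro t
    rw [fs_apply, ← h2 t]
    exact Nat.mod_le _ _
  · rfl

/-- the comparison map `(f_r)_r ↦ ∑ expand q (f_r) * X^r` -/
noncomputable def lam :
    ((σ → Fin q) → MvPolynomial σ R) →ₗ[MvPolynomial σ R] Via (expand q (R := R) (σ := σ)).toRingHom where
  toFun f := Via.mk _ (∑ r, expand q (f r) * monomial (fs q r) 1)
  map_add' f g := by
    show (∑ r, expand q ((f + g) r) * monomial (fs q r) 1 : MvPolynomial σ R) =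
      (∑ r, expand q (f r) * monomial (fs q r) 1) + ∑ r, expand q (g r) * monomial (fs q r) 1
    rw [← Finset.sum_add_distrib]
    refine Finset.sum_congr rfl fun r _ => ?_
    rw [Pi.add_apply, map_add, add_mul]
  map_smul' c f := by
    show (∑ r, expand q ((c • f) r) * monomial (fs q r) 1 : MvPolynomial σ R) =
      expand q c * ∑ r, expand q (f r) * monomial (fs q r) 1
    rw [Finset.mul_sum]
    refine Finset.sum_congr rfl fun r _ => ?_
    rw [Pi.smul_apply, smul_eq_mul, map_mul, mul_assoc]

theorem lam_apply (f : (σ → Fin q) → MvPolynomial σ R) :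
    Via.out _ (lam q f) = ∑ r, expand q (f r) * monomial (fs q r) 1 := rfl

/-- remainder family of an exponent -/
def rem (hq : q ≠ 0) (m : σ →₀ ℕ) : σ → Fin q := fun t => ⟨m t % q, Nat.mod_lt _ (Nat.pos_of_ne_zero hq)⟩

theorem coeff_lam (hq : q ≠ 0) (f : (σ → Fin q) → MvPolynomial σ R) (m : σ →₀ ℕ) :
    coeff m (Via.out _ (lam q f)) = coeff (qt q m) (f (rem q hq m)) := by
  rw [lam_apply, coeff_sum]
  simp_rw [coeff_term q hq]
  rw [Finset.sum_eq_single (rem q hq m)]
  · rw [if_pos]
    intro t; rfl
  · intro r _ hr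
    rw [if_neg]
    intro h
    apply hr
    funext t
    exact Fin.ext (h t).symm
  · intro h; exact absurd (Finset.mem_univ _) h

theorem lam_injective (hq : q ≠ 0) : Function.Injective (lam q (R := R) (σ := σ)) := by
  rw [injective_iff_map_eq_zero]
  intro f hf
  funext r
  ext a
  have h1 := coeff_lam q hq f (q • a + fs q r)
  rw [hf] at h1
  have h2 : qt q (q • a + fs q r) = a := by
    ext t
    simp only [qt_apply, Finsupp.coe_add, Finsupp.coe_smul, Pi.add_apply, Pi.smul_apply,
      smul_eq_mul, fs_apply]
    rw [Nat.mul_add_div (Nat.pos_of_ne_zero hq), Nat.div_eq_of_lt (r t).2, add_zero]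
  have h3 : rem q hq (q • a + fs q r) = r := by
    funext t
    apply Fin.ext
    simp only [rem, Finsupp.coe_add, Finsupp.coe_smul, Pi.add_apply, Pi.smul_apply,
      smul_eq_mul, fs_apply]
    rw [Nat.mul_add_mod, Nat.mod_eq_of_lt (r t).2]
  rw [h2, h3] at h1
  rw [← h1]
  rfl

theorem lam_surjective (hq : q ≠ 0) : Function.Surjective (lam q (R := R) (σ := σ)) := by
  intro x
  have hx : ∀ g : MvPolynomial σ R, ∃ f, Via.out _ (lam q f) = g := by
    intro g
    induction g using MvPolynomial.induction_on' with
    | monomial e c =>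
      refine ⟨Pi.single (rem q hq e) (monomial (qt q e) c), ?_⟩
      rw [lam_apply, Finset.sum_eq_single (rem q hq e)]
      · have key : q • qt q e + fs q (rem q hq e) = e := by
          ext t
          show q * (qt q e t) + fs q (rem q hq e) t = e t
          rw [qt_apply, fs_apply]
          exact Nat.div_add_mod _ _
        rw [Pi.single_eq_same, expand_monomial, monomial_mul, mul_one, key]
      · intro r _ hr
        rw [Pi.single_eq_of_ne hr, map_zero, zero_mul]
      · intro h; exact absurd (Finset.mem_univ _) h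
    | add p1 p2 h1 h2 =>
      obtain ⟨f1, hf1⟩ := h1
      obtain ⟨f2, hf2⟩ := h2
      refine ⟨f1 + f2, ?_⟩
      rw [map_add]
      show Via.out _ (lam q f1) + Via.out _ (lam q f2) = _
      rw [hf1, hf2]
  obtain ⟨f, hf⟩ := hx x
  exact ⟨f, hf⟩

theorem finrank_expand [Nontrivial R] (hq : q ≠ 0) :
    Module.finrank (MvPolynomial σ R) (Via (expand q (R := R) (σ := σ)).toRingHom) =
      q ^ Fintype.card σ := by
  have e := LinearEquiv.ofBijective (lam q (R := R) (σ := σ)) ⟨lam_injective q hq, lam_surjective q hq⟩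
  rw [← e.finrank_eq, Module.finrank_pi]
  simp

end Groth.Agent.Lib.Seat72.Expand
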