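import Mathlib.AlgebraicGeometry.Morphisms.Finite
import Mathlib.Topology.Sheaves.Stalks
import Mathlib.RingTheory.LocalRing.MaximalIdeal.Basic
import Mathlib.RingTheory.Ideal.GoingUp
import Mathlib.RingTheory.Localization.Ideal

/-!
# Helpers for S15547: fibres of a finite morphism and maximal ideals of the stalk of the pushforward
-/

set_option autoImplicit false
set_option maxSynthPendingDepth 3

namespace Groth.Agent.Lib.Seat72.FinFib

section Algebra

variable {A B C : Type*} [CommRing A] [CommRing B] [CommRing C] [Algebra A B] [Algebra B C]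
  [Algebra.IsIntegral A B] (p : Ideal A) [p.IsPrime]
  [IsLocalization (Algebra.algebraMapSubmonoid B p.primeCompl) C]

omit [Algebra.IsIntegral A B] in
include p in
theorem comap_comap_le (Q : Ideal C) (hQ : Q ≠ ⊤) :
    (Q.comap (algebraMap B C)).comap (algebraMap A B) ≤ p := by
  intro a ha
  by_contra hap
  apply hQ
  have hmem : algebraMap A B a ∈ Algebra.algebraMapSubmonoid B p.primeCompl :=
    Algebra.mem_algebraMapSubmonoid_of_mem ⟨a, hap⟩
  exact Q.eq_top_of_isUnit_mem ha
    (IsLocalization.map_units C ⟨algebraMap A B a, hmem⟩)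

omit [Algebra.IsIntegral A B]
  [IsLocalization (Algebra.algebraMapSubmonoid B p.primeCompl) C] in
theorem disjoint_of_comap_eq (q : Ideal B) (hq : q.comap (algebraMap A B) = p) :
    Disjoint (Algebra.algebraMapSubmonoid B p.primeCompl : Set B) (q : Set B) := by
  rw [Set.disjoint_left]
  rintro _ ⟨a, ha, rfl⟩ hmem
  apply ha
  rw [← hq]
  exact hmem

/-- A prime of the localisation `C` of `B` at the image of `A ∖ p` is maximal iff it lies over `p`. -/
theorem isMaximal_iff (Q : Ideal C) [hQ : Q.IsPrime] :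
    Q.IsMaximal ↔ (Q.comap (algebraMap B C)).comap (algebraMap A B) = p := by
  set M := Algebra.algebraMapSubmonoid B p.primeCompl with hM
  constructor
  · intro hmax
    have hle := comap_comap_le (B := B) p Q hQ.ne_top
    have : (Q.comap (algebraMap B C)).IsPrime := Ideal.comap_isPrime _ _
    obtain ⟨q', hq'ge, hq'prime, hq'⟩ :=
      Ideal.exists_ideal_over_prime_of_isIntegral_of_isPrime p (Q.comap (algebraMap B C)) hle
    have hdisj := disjoint_of_comap_eq p q' hq'
    have hprime' : (q'.map (algebraMap B C)).IsPrime :=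
      IsLocalization.isPrime_of_isPrime_disjoint M C q' hq'prime hdisj
    have hQle : Q ≤ q'.map (algebraMap B C) := by
      rw [← IsLocalization.map_under M C Q]
      exact Ideal.map_mono hq'ge
    have heq : Q = q'.map (algebraMap B C) := hmax.eq_of_le hprime'.ne_top hQle
    have : Q.comap (algebraMap B C) = q' := by
      rw [heq]
      exact IsLocalization.under_map_of_isPrime_disjoint M C hq'prime hdisj
    rw [this, hq']
  · intro hcomap
    refine ⟨⟨hQ.ne_top, fun J hJ => ?_⟩⟩
    by_contra hJtop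
    obtain ⟨N, hNmax, hJN⟩ := Ideal.exists_le_maximal J hJtop
    have := hNmax.isPrime
    have hle := comap_comap_le (B := B) p N hNmax.ne_top
    have hQN : Q ≤ N := hJ.le.trans hJN
    have h1 : Q.comap (algebraMap B C) ≤ N.comap (algebraMap B C) := Ideal.comap_mono hQN
    have h2 : (N.comap (algebraMap B C)).comap (algebraMap A B) = p :=
      le_antisymm hle (hcomap ▸ Ideal.comap_mono h1)
    have h3 : Q.comap (algebraMap B C) = N.comap (algebraMap B C) := by
      by_contra hne
      have hlt : Q.comap (algebraMap B C) < N.comap (algebraMap B C) := lt_of_le_of_ne h1 hne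
      obtain ⟨-, x, hxN, hxQ⟩ := SetLike.lt_iff_le_and_exists.mp hlt
      have : (Q.comap (algebraMap B C)).IsPrime := Ideal.comap_isPrime _ _
      have := Ideal.comap_lt_comap_of_integral_mem_sdiff (R := A) h1 ⟨hxN, hxQ⟩
        (Algebra.IsIntegral.isIntegral x)
      rw [hcomap, h2] at this
      exact lt_irrefl _ this
    have h4 : Q = N := by
      rw [← IsLocalization.map_under M C Q, ← IsLocalization.map_under M C N]
      exact congrArg _ h3
    exact absurd (h4 ▸ hJN) (not_le_of_gt hJ)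

end Algebra

section Stalk

open AlgebraicGeometry CategoryTheory TopologicalSpace Opposite

universe u

variable {Z X : Scheme.{u}} (g : Z ⟶ X)

/-- If `a ∈ Γ(X, U)` does not lie in the prime of `x`, then `x ∈ D(a)`. -/
theorem mem_basicOpen_of_not_mem {U : X.Opens} (hU : IsAffineOpen U) {x : X} (hx : x ∈ U)
    (a : Γ(X, U)) (ha : a ∉ (hU.primeIdealOf ⟨x, hx⟩).asIdeal) : x ∈ X.basicOpen a := by
  rw [Scheme.mem_basicOpen X a x hx]
  rw [hU.primeIdealOf_eq_map_closedPoint ⟨x, hx⟩] at ha
  by_contra h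
  apply ha
  change (X.presheaf.germ U x hx).hom a ∈ IsLocalRing.maximalIdeal _
  exact (IsLocalRing.mem_maximalIdeal _).mpr h

theorem not_mem_of_mem_basicOpen {U : X.Opens} (hU : IsAffineOpen U) {x : X} (hx : x ∈ U)
    (a : Γ(X, U)) (ha : x ∈ X.basicOpen a) : a ∉ (hU.primeIdealOf ⟨x, hx⟩).asIdeal := by
  rw [Scheme.mem_basicOpen X a x hx] at ha
  rw [hU.primeIdealOf_eq_map_closedPoint ⟨x, hx⟩]
  intro h
  change (X.presheaf.germ U x hx).hom a ∈ IsLocalRing.maximalIdeal _ at h
  exact (IsLocalRing.mem_maximalIdeal _).mp h ha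

variable [IsAffineHom g]

/-- The stalk at `x` of the pushforward of the structure sheaf along an affine morphism is the
localisation of `Γ(Z, g⁻¹ U)` at the image of the complement of the prime of `x`, for any affine
open neighbourhood `U` of `x`. -/
theorem isLocalization_stalk_pushforward {U : X.Opens} (hU : IsAffineOpen U) {x : X}
    (hx : x ∈ U) :
    @IsLocalization Γ(Z, g ⁻¹ᵁ U) _
      (Submonoid.map (g.app U).hom (hU.primeIdealOf ⟨x, hx⟩).asIdeal.primeCompl)
      ((g.base _* Z.presheaf).stalk x) _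
      ((g.base _* Z.presheaf).germ U x hx).hom.toAlgebra := by
  let _ : Algebra Γ(Z, g ⁻¹ᵁ U) ((g.base _* Z.presheaf).stalk x) :=
    ((g.base _* Z.presheaf).germ U x hx).hom.toAlgebra
  have hV : IsAffineOpen (g ⁻¹ᵁ U) := hU.preimage g
  have halg : ∀ b : Γ(Z, g ⁻¹ᵁ U), algebraMap Γ(Z, g ⁻¹ᵁ U) ((g.base _* Z.presheaf).stalk x) b =
      (g.base _* Z.presheaf).germ U x hx b := fun b => rfl
  -- the key localisation on basic opens
  have key : ∀ a : Γ(X, U), @IsLocalization.Away _ _ ((g.app U).hom a)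
      Γ(Z, g ⁻¹ᵁ (X.basicOpen a)) _
      (Z.presheaf.map (homOfLE (g.preimage_mono (X.basicOpen_le a))).op).hom.toAlgebra :=
    fun a => hV.isLocalization_of_eq_basicOpen ((g.app U).hom a)
      (homOfLE (g.preimage_mono (X.basicOpen_le a))) (Scheme.preimage_basicOpen g a)
  rw [isLocalization_iff]
  refine ⟨?_, ?_, ?_⟩
  · rintro ⟨_, a, ha, rfl⟩
    have hxa : x ∈ X.basicOpen a := mem_basicOpen_of_not_mem hU hx a ha
    have hunit : IsUnit (X.presheaf.germ U x hx a) := (Scheme.mem_basicOpen X a x hx).mp hxa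
    have := hunit.map (ConcreteCategory.hom ((TopCat.Presheaf.stalkFunctor CommRingCat x).map g.c))
    have e := TopCat.Presheaf.stalkFunctor_map_germ_apply U x hx g.c a
    rw [halg]
    exact (congrArg IsUnit e).mp this
  · intro z
    obtain ⟨W, hxW, s, rfl⟩ := TopCat.Presheaf.exists_germ_eq _ z
    obtain ⟨a, haW, hxa⟩ := hU.exists_basicOpen_le ⟨x, hxW⟩ hx
    let _ := (Z.presheaf.map (homOfLE (g.preimage_mono (X.basicOpen_le a))).op).hom.toAlgebra
    have := key a
    let s' : Γ(Z, g ⁻¹ᵁ (X.basicOpen a)) := (g.base _* Z.presheaf).map (homOfLE haW).op s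
    obtain ⟨⟨b, m⟩, hbm⟩ := IsLocalization.surj (Submonoid.powers ((g.app U).hom a)) s'
    obtain ⟨_, n, rfl⟩ := m
    refine ⟨⟨b, ⟨(g.app U).hom (a ^ n), a ^ n, ?_, rfl⟩⟩, ?_⟩
    · intro hmem
      exact not_mem_of_mem_basicOpen hU hx a hxa
        (Ideal.IsPrime.mem_of_pow_mem inferInstance n hmem)
    · have h1 := congrArg ((g.base _* Z.presheaf).germ (X.basicOpen a) x hxa) hbm
      simp only [map_mul, RingHom.algebraMap_toAlgebra] at h1
      rw [halg, halg]
      have e1 : (g.base _* Z.presheaf).germ (X.basicOpen a) x hxa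
          ((g.base _* Z.presheaf).map (homOfLE haW).op s) =
          (g.base _* Z.presheaf).germ W x hxW s :=
        TopCat.Presheaf.germ_res_apply _ _ _ _ _
      have e2 : ∀ c : Γ(Z, g ⁻¹ᵁ U), (g.base _* Z.presheaf).germ (X.basicOpen a) x hxa
          ((Z.presheaf.map (homOfLE (g.preimage_mono (X.basicOpen_le a))).op).hom c) =
          (g.base _* Z.presheaf).germ U x hx c := fun c =>
        TopCat.Presheaf.germ_res_apply (g.base _* Z.presheaf) (homOfLE (X.basicOpen_le a)) x hxa c
      rw [e1] at h1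
      erw [e2, e2] at h1
      change _ * (g.base _* Z.presheaf).germ U x hx ((g.app U).hom (a ^ n)) =
        (g.base _* Z.presheaf).germ U x hx b
      rw [map_pow]
      exact h1
  · intro b₁ b₂ hb
    rw [halg, halg] at hb
    obtain ⟨W, hxW, iU, iV, hres⟩ := TopCat.Presheaf.germ_eq (g.base _* Z.presheaf) x hx hx b₁ b₂ hb
    obtain ⟨a, haW, hxa⟩ := hU.exists_basicOpen_le ⟨x, hxW⟩ hx
    let _ := (Z.presheaf.map (homOfLE (g.preimage_mono (X.basicOpen_le a))).op).hom.toAlgebra
    have := key a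
    have hres' : algebraMap Γ(Z, g ⁻¹ᵁ U) Γ(Z, g ⁻¹ᵁ (X.basicOpen a)) b₁ =
        algebraMap Γ(Z, g ⁻¹ᵁ U) Γ(Z, g ⁻¹ᵁ (X.basicOpen a)) b₂ := by
      have := congrArg ((g.base _* Z.presheaf).map (homOfLE haW).op) hres
      simp only [← ConcreteCategory.comp_apply, ← Functor.map_comp] at this
      exact this
    obtain ⟨⟨_, n, rfl⟩, hc⟩ :=
      (IsLocalization.eq_iff_exists (Submonoid.powers ((g.app U).hom a)) _).mp hres'
    refine ⟨⟨(g.app U).hom (a ^ n), a ^ n, ?_, rfl⟩, ?_⟩
    · intro hmem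
      exact not_mem_of_mem_basicOpen hU hx a hxa
        (Ideal.IsPrime.mem_of_pow_mem inferInstance n hmem)
    · simpa [map_pow] using hc

end Stalk

section Main

open AlgebraicGeometry CategoryTheory TopologicalSpace Opposite

universe u

variable {Z X : Scheme.{u}} (g : Z ⟶ X)

/-- The canonical map from the stalk of the pushforward at `x` to the stalk at a point over `x`. -/
noncomputable def rho {z : Z} {x : X} (hz : g.base z = x) :
    (g.base _* Z.presheaf).stalk x ⟶ Z.presheaf.stalk z :=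
  ((g.base _* Z.presheaf).stalkCongr (Inseparable.of_eq hz)).inv ≫
    TopCat.Presheaf.stalkPushforward CommRingCat g.base Z.presheaf z

theorem germ_rho {z : Z} {x : X} (hz : g.base z = x) (U : X.Opens) (hx : x ∈ U) :
    (g.base _* Z.presheaf).germ U x hx ≫ rho g hz =
      Z.presheaf.germ (g ⁻¹ᵁ U) z (show g.base z ∈ U from hz.symm ▸ hx) := by
  subst hz
  simp [rho, TopCat.Presheaf.stalkCongr]

theorem comap_germ_comap_rho {z : Z} {x : X} (hz : g.base z = x) {U : X.Opens}
    (hV : IsAffineOpen (g ⁻¹ᵁ U)) (hx : x ∈ U) :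
    Ideal.comap ((g.base _* Z.presheaf).germ U x hx).hom
      (Ideal.comap (rho g hz).hom (IsLocalRing.maximalIdeal (Z.presheaf.stalk z))) =
      (hV.primeIdealOf ⟨z, show g.base z ∈ U from hz.symm ▸ hx⟩).asIdeal := by
  rw [Ideal.comap_comap, ← CommRingCat.hom_comp, germ_rho g hz U hx,
    hV.primeIdealOf_eq_map_closedPoint]
  rfl

variable [IsFinite g]

theorem bijOn_fiber (x : X) :
    Set.BijOn (fun z : {z : Z // g.base z = x} =>
        Ideal.comap (((g.base _* Z.presheaf).stalkCongr (Inseparable.of_eq z.2)).inv ≫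
            TopCat.Presheaf.stalkPushforward CommRingCat g.base Z.presheaf z.1).hom
          (IsLocalRing.maximalIdeal (Z.presheaf.stalk z.1)))
      Set.univ {I : Ideal ((g.base _* Z.presheaf).stalk x) | I.IsMaximal} := by
  obtain ⟨U, hU, hx, -⟩ := exists_isAffineOpen_mem_and_subset (x := x) (U := ⊤) trivial
  have hV : IsAffineOpen (g ⁻¹ᵁ U) := hU.preimage g
  let _ : Algebra Γ(X, U) Γ(Z, g ⁻¹ᵁ U) := (g.app U).hom.toAlgebra
  let _ : Algebra Γ(Z, g ⁻¹ᵁ U) ((g.base _* Z.presheaf).stalk x) :=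
    ((g.base _* Z.presheaf).germ U x hx).hom.toAlgebra
  have hint : Algebra.IsIntegral Γ(X, U) Γ(Z, g ⁻¹ᵁ U) := ⟨g.isIntegral_app U hU⟩
  have hloc : IsLocalization
      (Algebra.algebraMapSubmonoid Γ(Z, g ⁻¹ᵁ U) (hU.primeIdealOf ⟨x, hx⟩).asIdeal.primeCompl)
      ((g.base _* Z.presheaf).stalk x) := isLocalization_stalk_pushforward g hU hx
  -- the comap of `Φ z` to `Γ(Z, g⁻¹U)`
  have hcomap : ∀ z : {z : Z // g.base z = x},
      Ideal.comap (algebraMap Γ(Z, g ⁻¹ᵁ U) ((g.base _* Z.presheaf).stalk x))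
        (Ideal.comap (rho g z.2).hom (IsLocalRing.maximalIdeal (Z.presheaf.stalk z.1))) =
      (hV.primeIdealOf ⟨z.1, show g.base z.1 ∈ U from z.2.symm ▸ hx⟩).asIdeal :=
    fun z => comap_germ_comap_rho g z.2 hV hx
  -- and further down to `Γ(X, U)`
  have hcomap2 : ∀ (z : Z) (hz : g.base z ∈ U),
      Ideal.comap (algebraMap Γ(X, U) Γ(Z, g ⁻¹ᵁ U)) (hV.primeIdealOf ⟨z, hz⟩).asIdeal =
        (hU.primeIdealOf ⟨g.base z, hz⟩).asIdeal := by
    intro z hz
    have := IsAffineOpen.comap_primeIdealOf_appLE (f := g) (x := z) U hU (g ⁻¹ᵁ U) hV le_rfl hz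
    rw [Scheme.Hom.appLE_eq_app] at this
    exact congrArg PrimeSpectrum.asIdeal this
  have hinj : Function.Injective (fun y : (g ⁻¹ᵁ U : Z.Opens) => hV.primeIdealOf y) := by
    intro y₁ y₂ h
    have := congrArg hV.fromSpec h
    simp only [IsAffineOpen.fromSpec_primeIdealOf] at this
    exact Subtype.ext this
  have hinjU : Function.Injective (fun y : (U : X.Opens) => hU.primeIdealOf y) := by
    intro y₁ y₂ h
    have := congrArg hU.fromSpec h
    simp only [IsAffineOpen.fromSpec_primeIdealOf] at this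
    exact Subtype.ext this
  refine ⟨?_, ?_, ?_⟩
  · -- maps to maximal ideals
    intro z _
    have hprime : (Ideal.comap (rho g z.2).hom
        (IsLocalRing.maximalIdeal (Z.presheaf.stalk z.1))).IsPrime := Ideal.comap_isPrime _ _
    change (Ideal.comap (rho g z.2).hom
        (IsLocalRing.maximalIdeal (Z.presheaf.stalk z.1))).IsMaximal
    rw [isMaximal_iff (A := Γ(X, U)) (B := Γ(Z, g ⁻¹ᵁ U)) (hU.primeIdealOf ⟨x, hx⟩).asIdeal,
      hcomap z, hcomap2]
    have : (⟨g.base z.1, show g.base z.1 ∈ U from z.2.symm ▸ hx⟩ : (U : X.Opens)) = ⟨x, hx⟩ :=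
      Subtype.ext z.2
    rw [this]
  · -- injective
    intro z₁ _ z₂ _ h
    change Ideal.comap (rho g z₁.2).hom _ = Ideal.comap (rho g z₂.2).hom _ at h
    have h' := congrArg (Ideal.comap
      (algebraMap Γ(Z, g ⁻¹ᵁ U) ((g.base _* Z.presheaf).stalk x))) h
    rw [hcomap z₁, hcomap z₂] at h'
    have := hinj (PrimeSpectrum.ext h')
    exact Subtype.ext (congrArg (fun y : (g ⁻¹ᵁ U : Z.Opens) => (y : Z)) this)
  · -- surjective
    intro Q hQ
    have hQmax : Q.IsMaximal := hQ
    have hQprime : Q.IsPrime := hQmax.isPrime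
    have hq := (isMaximal_iff (A := Γ(X, U)) (B := Γ(Z, g ⁻¹ᵁ U))
      (hU.primeIdealOf ⟨x, hx⟩).asIdeal Q).mp hQmax
    -- the point of `Z` corresponding to the contraction of `Q`
    let q : PrimeSpectrum Γ(Z, g ⁻¹ᵁ U) :=
      ⟨Q.comap (algebraMap Γ(Z, g ⁻¹ᵁ U) ((g.base _* Z.presheaf).stalk x)),
        Ideal.comap_isPrime _ _⟩
    have hzmem : hV.fromSpec q ∈ g ⁻¹ᵁ U := by
      have : hV.fromSpec q ∈ Set.range hV.fromSpec := ⟨q, rfl⟩
      rw [hV.range_fromSpec] at this
      exact this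
    have hzq : hV.primeIdealOf ⟨hV.fromSpec q, hzmem⟩ = q := by
      have : Function.Injective hV.fromSpec := hV.fromSpec.isOpenEmbedding.injective
      apply this
      rw [IsAffineOpen.fromSpec_primeIdealOf]
    have hgz : g.base (hV.fromSpec q) = x := by
      have h1 := hcomap2 (hV.fromSpec q) hzmem
      rw [hzq] at h1
      have h2 : hU.primeIdealOf ⟨g.base (hV.fromSpec q), hzmem⟩ = hU.primeIdealOf ⟨x, hx⟩ :=
        PrimeSpectrum.ext (h1.symm.trans hq)
      exact congrArg Subtype.val (hinjU h2)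
    refine ⟨⟨hV.fromSpec q, hgz⟩, Set.mem_univ _, ?_⟩
    change Ideal.comap (rho g hgz).hom _ = Q
    have h3 := hcomap ⟨hV.fromSpec q, hgz⟩
    rw [← IsLocalization.map_under (Algebra.algebraMapSubmonoid Γ(Z, g ⁻¹ᵁ U)
        (hU.primeIdealOf ⟨x, hx⟩).asIdeal.primeCompl) ((g.base _* Z.presheaf).stalk x) Q,
      ← IsLocalization.map_under (Algebra.algebraMapSubmonoid Γ(Z, g ⁻¹ᵁ U)
        (hU.primeIdealOf ⟨x, hx⟩).asIdeal.primeCompl) ((g.base _* Z.presheaf).stalk x)
        (Ideal.comap (rho g hgz).hom _)]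
    congr 1
    rw [Ideal.under_def, h3]
    exact congrArg PrimeSpectrum.asIdeal hzq

end Main

end Groth.Agent.Lib.Seat72.FinFib
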