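import Mathlib

/-!
# Seat72: the coinvariant quotient of a formally smooth algebra by a finite group of invertible
order is formally smooth

Let `B` be a formally smooth `R`-algebra, `act g : B →ₐ[R] B` a finite family of endomorphisms
indexed by a finite group `G` with `act g ∘ act h = act (h * g)`, and assume that `|G|` is a unit
of `R`.  Let `J` be the ideal generated by all `act g a - a`.  Then `B ⧸ J` is formally smooth over
`R`: a lift `B → D` of `B → B ⧸ J → D ⧸ I` (with `I ^ 2 = 0`) can be averaged over `G`; the average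
is again an algebra homomorphism (the lifts form an affine space under derivations), it is
`G`-invariant, hence kills `J`.
-/

set_option autoImplicit false
set_option maxSynthPendingDepth 3
set_option linter.style.haveILetI false
set_option linter.unusedSectionVars false

universe u v w

namespace Groth.Agent.Lib.Seat72.FixSmoothAlg

variable {R : Type u} {B : Type v} [CommRing R] [CommRing B] [Algebra R B]
variable {G : Type w} [Group G] [Finite G]
variable (act : G → (B →ₐ[R] B))

/-- the ideal generated by all `g a - a` -/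
def fixIdeal : Ideal B := Ideal.span {b | ∃ (g : G) (a : B), b = act g a - a}

theorem act_sub_mem (g : G) (a : B) : act g a - a ∈ fixIdeal act :=
  Ideal.subset_span ⟨g, a, rfl⟩

theorem mk_act (g : G) (a : B) :
    Ideal.Quotient.mk (fixIdeal act) (act g a) = Ideal.Quotient.mk (fixIdeal act) a :=
  (Ideal.Quotient.eq).2 (act_sub_mem act g a)

theorem fixIdeal_le_ker {D : Type*} [CommRing D] (ψ : B →+* D)
    (h : ∀ g a, ψ (act g a) = ψ a) : fixIdeal act ≤ RingHom.ker ψ := by
  refine Ideal.span_le.2 ?_
  rintro _ ⟨g, a, rfl⟩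
  simp [RingHom.mem_ker, h]

theorem fixIdeal_fg [Algebra.FiniteType R B] : (fixIdeal act).FG := by
  classical
  obtain ⟨s, hs⟩ := (Algebra.FiniteType.out : (⊤ : Subalgebra R B).FG)
  let T : Set B := ⋃ g : G, (fun b => act g b - b) '' (s : Set B)
  have hT : T.Finite := Set.finite_iUnion fun g => (s.finite_toSet).image _
  have hle : Ideal.span T ≤ fixIdeal act := by
    refine Ideal.span_le.2 ?_
    intro x hx
    obtain ⟨g, hx⟩ := Set.mem_iUnion.1 hx
    obtain ⟨b, _, rfl⟩ := hx
    exact act_sub_mem act g b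
  have hge : fixIdeal act ≤ Ideal.span T := by
    refine Ideal.span_le.2 ?_
    rintro _ ⟨g, a, rfl⟩
    have ha : a ∈ Algebra.adjoin R (s : Set B) := by rw [hs]; trivial
    induction ha using Algebra.adjoin_induction with
    | mem x hx =>
      exact Ideal.subset_span (Set.mem_iUnion.2 ⟨g, ⟨x, hx, rfl⟩⟩)
    | algebraMap r => simp
    | add x y _ _ hx hy =>
      have : act g (x + y) - (x + y) = (act g x - x) + (act g y - y) := by
        rw [map_add]; ring
      rw [this]; exact (Ideal.span T).add_mem hx hy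
    | mul x y _ _ hx hy =>
      have : act g (x * y) - x * y = act g x * (act g y - y) + y * (act g x - x) := by
        rw [map_mul]; ring
      rw [this]
      exact (Ideal.span T).add_mem ((Ideal.span T).mul_mem_left _ hy)
        ((Ideal.span T).mul_mem_left _ hx)
  rw [le_antisymm hge hle]
  exact Submodule.fg_span hT

/-- main theorem, formally smooth part -/
theorem formallySmooth_quotient [Algebra.FormallySmooth R B]
    (hact : ∀ g h a, act g (act h a) = act (h * g) a)
    (hn : IsUnit ((Nat.card G : ℕ) : R)) :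
    Algebra.FormallySmooth R (B ⧸ fixIdeal act) := by
  classical
  haveI : Fintype G := Fintype.ofFinite G
  apply Algebra.FormallySmooth.of_comp_surjective
  intro D _ _ I hI φ₀
  obtain ⟨u, hu⟩ := hn
  let J := fixIdeal act
  let ψ₀ : B →ₐ[R] D ⧸ I := φ₀.comp (Ideal.Quotient.mkₐ R J)
  obtain ⟨φ, hφ⟩ := Algebra.FormallySmooth.comp_surjective R B I hI ψ₀
  have hφ' : ∀ a, Ideal.Quotient.mk I (φ a) = φ₀ (Ideal.Quotient.mk J a) := fun a =>
    AlgHom.congr_fun hφ a
  let c : D := algebraMap R D ((u⁻¹ : Rˣ) : R)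
  let n' : D := (Fintype.card G : D)
  have hcn : c * n' = 1 := by
    have h1 : ((u⁻¹ : Rˣ) : R) * ((Nat.card G : ℕ) : R) = 1 := by
      rw [← hu]; exact Units.inv_mul u
    have h2 := congrArg (algebraMap R D) h1
    rw [map_mul, map_natCast, map_one, Nat.card_eq_fintype_card] at h2
    exact h2
  have he : ∀ g a, φ (act g a) - φ a ∈ I := by
    intro g a
    rw [← Ideal.Quotient.eq, hφ', hφ', mk_act]
  have hII : ∀ x ∈ I, ∀ y ∈ I, x * y = 0 := by
    intro x hx y hy
    have : x * y ∈ I ^ 2 := by rw [pow_two]; exact Ideal.mul_mem_mul hx hy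
    rwa [hI, Ideal.mem_bot] at this
  let avg : B →ₗ[R] D :=
    (LinearMap.mulLeft R c) ∘ₗ (∑ g : G, φ.toLinearMap ∘ₗ (act g).toLinearMap)
  have avg_apply : ∀ a, avg a = c * ∑ g : G, φ (act g a) := by
    intro a
    simp [avg, Finset.mul_sum]
  have hS : ∀ a, ∑ g : G, φ (act g a) = n' * φ a + ∑ g : G, (φ (act g a) - φ a) := by
    intro a
    rw [Finset.sum_sub_distrib, Finset.sum_const, Finset.card_univ, nsmul_eq_mul]
    ring
  have hSI : ∀ a, c * ∑ g : G, (φ (act g a) - φ a) ∈ I := fun a =>
    I.mul_mem_left _ (I.sum_mem fun g _ => he g a)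
  have avg_one : avg 1 = 1 := by
    rw [avg_apply]
    simp only [map_one, Finset.sum_const, Finset.card_univ, nsmul_eq_mul, mul_one]
    exact hcn
  have avg_mul : ∀ a b, avg (a * b) = avg a * avg b := by
    intro a b
    have key : ∀ g, φ (act g (a * b)) = φ a * φ b + φ a * (φ (act g b) - φ b) +
        φ b * (φ (act g a) - φ a) := by
      intro g
      have h0 := hII _ (he g a) _ (he g b)
      rw [map_mul, map_mul]
      linear_combination h0
    have hSab : ∑ g : G, φ (act g (a * b)) = n' * (φ a * φ b) +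
        φ a * ∑ g : G, (φ (act g b) - φ b) + φ b * ∑ g : G, (φ (act g a) - φ a) := by
      simp_rw [key]
      rw [Finset.sum_add_distrib, Finset.sum_add_distrib, Finset.sum_const, Finset.card_univ,
        nsmul_eq_mul, ← Finset.mul_sum, ← Finset.mul_sum]
    have h4 := hII _ (hSI a) _ (hSI b)
    rw [avg_apply, avg_apply, avg_apply, hSab, hS a, hS b]
    generalize (∑ g : G, (φ (act g a) - φ a)) = Sa at *
    generalize (∑ g : G, (φ (act g b) - φ b)) = Sb at *
    linear_combination (-(c * n' * (φ a * φ b)) - c * φ a * Sb - c * φ b * Sa) * hcn - h4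
  let φ' : B →ₐ[R] D := AlgHom.ofLinearMap avg avg_one avg_mul
  have φ'_apply : ∀ a, φ' a = c * ∑ g : G, φ (act g a) := avg_apply
  have φ'_inv : ∀ h a, φ' (act h a) = φ' a := by
    intro h a
    rw [φ'_apply, φ'_apply]
    congr 1
    simp_rw [hact]
    exact Fintype.sum_equiv (Equiv.mulLeft h) _ _ (fun g => rfl)
  have hker : ∀ x ∈ J, φ' x = 0 := fun x hx =>
    fixIdeal_le_ker act φ'.toRingHom φ'_inv hx
  refine ⟨Ideal.Quotient.liftₐ J φ' hker, ?_⟩
  apply Ideal.Quotient.algHom_ext
  apply AlgHom.ext
  intro a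
  show Ideal.Quotient.mk I (φ' a) = φ₀ (Ideal.Quotient.mk J a)
  have h5 : ∀ g : G, Ideal.Quotient.mk I (φ (act g a)) = φ₀ (Ideal.Quotient.mk J a) := by
    intro g
    rw [hφ', mk_act]
  rw [φ'_apply, map_mul, map_sum]
  simp_rw [h5]
  rw [Finset.sum_const, Finset.card_univ, nsmul_eq_mul, ← mul_assoc,
    ← map_natCast (Ideal.Quotient.mk I), ← map_mul]
  show Ideal.Quotient.mk I (c * n') * _ = _
  rw [hcn, map_one, one_mul]

/-- main theorem -/
theorem smooth_quotient [Algebra.Smooth R B]
    (hact : ∀ g h a, act g (act h a) = act (h * g) a)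
    (hn : IsUnit ((Nat.card G : ℕ) : R)) :
    Algebra.Smooth R (B ⧸ fixIdeal act) where
  formallySmooth := formallySmooth_quotient act hact hn
  finitePresentation := Algebra.FinitePresentation.quotient (fixIdeal_fg act)

end Groth.Agent.Lib.Seat72.FixSmoothAlg
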