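import Mathlib

/-!
# Seat72: invariants of a finite family of endomorphisms commute with flat base change

* `tensor_invariants`: module version.
* `invariants_pushout`: version for pushout squares in `CommRingCat`.
-/

set_option autoImplicit false
set_option maxSynthPendingDepth 3
set_option linter.style.haveILetI false
set_option linter.unusedSectionVars false

universe u

open CategoryTheory TensorProduct

namespace Groth.Agent.Lib.Seat72.InvFlat

theorem tensor_invariants {R : Type*} [CommRing R] {A B M : Type*} [AddCommGroup A]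
    [AddCommGroup B] [AddCommGroup M] [Module R A] [Module R B] [Module R M] [Module.Flat R M]
    {ι : Type*} [Finite ι] (φ : A →ₗ[R] B) (τ : ι → B →ₗ[R] B)
    (hinj : Function.Injective φ)
    (hrange : ∀ b, (∀ i, τ i b = b) → b ∈ LinearMap.range φ)
    (hτφ : ∀ i a, τ i (φ a) = φ a) :
    Function.Injective (φ.rTensor M) ∧
      ∀ x : B ⊗[R] M, (∀ i, (τ i).rTensor M x = x) → x ∈ LinearMap.range (φ.rTensor M) := by
  classical
  cases nonempty_fintype ι
  refine ⟨Module.Flat.rTensor_preserves_injective_linearMap φ hinj, ?_⟩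
  let d : B →ₗ[R] (ι → B) :=
    ∑ i, (LinearMap.single R (fun _ : ι => B) i) ∘ₗ (τ i - LinearMap.id)
  have hd : ∀ b j, d b j = τ j b - b := by
    intro b j
    simp only [d, LinearMap.sum_apply, LinearMap.comp_apply, LinearMap.sub_apply,
      LinearMap.id_apply, Finset.sum_apply, LinearMap.single_apply]
    rw [Finset.sum_eq_single j]
    · simp
    · intro i _ hij
      simp [hij.symm]
    · simp
  have hex : Function.Exact φ d := by
    intro b
    constructor
    · intro hb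
      apply hrange
      intro i
      have := congrFun hb i
      rw [hd] at this
      exact sub_eq_zero.mp this
    · rintro ⟨a, rfl⟩
      funext j
      rw [hd, hτφ]
      simp
  have hex' := Module.Flat.rTensor_exact M hex
  intro x hx
  apply (hex' x).mp
  have h1 : d.rTensor M = ∑ i, ((LinearMap.single R (fun _ : ι => B) i).rTensor M) ∘ₗ
      ((τ i).rTensor M - LinearMap.id) := by
    have := map_sum (LinearMap.rTensorHom (R := R) M (N := B) (P := ι → B))
      (fun i => (LinearMap.single R (fun _ : ι => B) i) ∘ₗ (τ i - LinearMap.id)) Finset.univ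
    simp only [LinearMap.coe_rTensorHom] at this
    rw [this]
    refine Finset.sum_congr rfl fun i _ => ?_
    rw [LinearMap.rTensor_comp, LinearMap.rTensor_sub, LinearMap.rTensor_id]
  rw [h1]
  simp only [LinearMap.sum_apply, LinearMap.comp_apply, LinearMap.sub_apply, LinearMap.id_apply]
  apply Finset.sum_eq_zero
  intro i _
  rw [hx i, sub_self, map_zero]


open CategoryTheory.Limits in
theorem invariants_pushout {R R' A B A' B' : CommRingCat.{u}} (a : R ⟶ A) (r : R ⟶ R')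
    (φ : A ⟶ B) (iA : A ⟶ A') (jA : R' ⟶ A') (iB : B ⟶ B') (jB : R' ⟶ B') (φ' : A' ⟶ B')
    (hA : IsPushout a r iA jA) (hB : IsPushout (a ≫ φ) r iB jB)
    (hφ1 : iA ≫ φ' = φ ≫ iB) (hφ2 : jA ≫ φ' = jB)
    (hflat : r.hom.Flat)
    {ι : Type*} [Finite ι] (τ : ι → (B ⟶ B)) (hτ : ∀ i, φ ≫ τ i = φ)
    (hinj : Function.Injective φ.hom)
    (hrange : ∀ b, (∀ i, (τ i).hom b = b) → b ∈ Set.range φ.hom)
    (τ' : ι → (B' ⟶ B')) (hτ1 : ∀ i, iB ≫ τ' i = τ i ≫ iB) (hτ2 : ∀ i, jB ≫ τ' i = jB) :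
    Function.Injective φ'.hom ∧ ∀ t, (∀ i, (τ' i).hom t = t) → t ∈ Set.range φ'.hom := by
  letI algA : Algebra R A := a.hom.toAlgebra
  letI algR' : Algebra R R' := r.hom.toAlgebra
  letI algB : Algebra R B := (a ≫ φ).hom.toAlgebra
  haveI : Module.Flat R R' := hflat
  have tA : IsPushout a r
      (CommRingCat.ofHom (S := A ⊗[R] R') Algebra.TensorProduct.includeLeftRingHom)
      (CommRingCat.ofHom (S := A ⊗[R] R') Algebra.TensorProduct.includeRight.toRingHom) :=
    CommRingCat.isPushout_tensorProduct R A R'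
  have tB : IsPushout (a ≫ φ) r
      (CommRingCat.ofHom (S := B ⊗[R] R') Algebra.TensorProduct.includeLeftRingHom)
      (CommRingCat.ofHom (S := B ⊗[R] R') Algebra.TensorProduct.includeRight.toRingHom) :=
    CommRingCat.isPushout_tensorProduct R B R'
  let eA := hA.isoIsPushout _ _ tA
  let eB := hB.isoIsPushout _ _ tB
  -- algebra maps
  let φalg : A →ₐ[R] B := { φ.hom with commutes' := fun _ => rfl }
  have hτφ : ∀ i x, (τ i).hom (φ.hom x) = φ.hom x := fun i x =>
    congrArg (fun f => f.hom x) (hτ i)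
  let τalg : ι → B →ₐ[R] B := fun i =>
    { (τ i).hom with commutes' := fun x => hτφ i (a.hom x) }
  let mφ : A ⊗[R] R' →+* B ⊗[R] R' :=
    (Algebra.TensorProduct.map φalg (AlgHom.id R R')).toRingHom
  let mτ : ι → B ⊗[R] R' →+* B ⊗[R] R' := fun i =>
    (Algebra.TensorProduct.map (τalg i) (AlgHom.id R R')).toRingHom
  have h1 : eA.inv ≫ φ' ≫ eB.hom = CommRingCat.ofHom mφ := by
    apply tA.hom_ext
    · rw [IsPushout.inl_isoIsPushout_inv_assoc, reassoc_of% hφ1, IsPushout.inl_isoIsPushout_hom]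
      ext x
      simp [mφ, φalg]
    · rw [IsPushout.inr_isoIsPushout_inv_assoc, reassoc_of% hφ2, IsPushout.inr_isoIsPushout_hom]
      ext x
      simp [mφ]
  have h2 : ∀ i, eB.inv ≫ τ' i ≫ eB.hom = CommRingCat.ofHom (mτ i) := by
    intro i
    apply tB.hom_ext
    · rw [IsPushout.inl_isoIsPushout_inv_assoc, reassoc_of% (hτ1 i),
        IsPushout.inl_isoIsPushout_hom]
      ext x
      simp [mτ, τalg]
    · rw [IsPushout.inr_isoIsPushout_inv_assoc, reassoc_of% (hτ2 i),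
        IsPushout.inr_isoIsPushout_hom]
      ext x
      simp [mτ]
  have h1' : ∀ y : A ⊗[R] R', eB.hom.hom (φ'.hom (eA.inv.hom y)) = mφ y := fun y =>
    congrArg (fun f => f.hom y) h1
  have h2' : ∀ i (x : B ⊗[R] R'), eB.hom.hom ((τ' i).hom (eB.inv.hom x)) = mτ i x := fun i x =>
    congrArg (fun f => f.hom x) (h2 i)
  -- linear maps
  let φl : A →ₗ[R] B := φalg.toLinearMap
  let τl : ι → B →ₗ[R] B := fun i => (τalg i).toLinearMap
  have hmφ : ∀ y : A ⊗[R] R', mφ y = φl.rTensor R' y := by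
    intro y
    induction y using TensorProduct.induction_on with
    | zero => simp
    | tmul x y => simp [mφ, φl]
    | add x y hx hy => rw [map_add, map_add, hx, hy]
  have hmτ : ∀ i (y : B ⊗[R] R'), mτ i y = (τl i).rTensor R' y := by
    intro i y
    induction y using TensorProduct.induction_on with
    | zero => simp
    | tmul x y => simp [mτ, τl]
    | add x y hx hy => rw [map_add, map_add, hx, hy]
  obtain ⟨kinj, krange⟩ := tensor_invariants (M := R') φl τl hinj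
    (fun b hb => by
      obtain ⟨x, hx⟩ := hrange b hb
      exact ⟨x, hx⟩)
    (fun i x => hτφ i x)
  have heAh := ConcreteCategory.bijective_of_isIso eA.hom
  have heAi := ConcreteCategory.bijective_of_isIso eA.inv
  have heBh := ConcreteCategory.bijective_of_isIso eB.hom
  have heBi := ConcreteCategory.bijective_of_isIso eB.inv
  have hAhi : ∀ y, eA.inv.hom (eA.hom.hom y) = y := fun y =>
    congrArg (fun f => f.hom y) eA.hom_inv_id
  have hBhi : ∀ y, eB.inv.hom (eB.hom.hom y) = y := fun y =>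
    congrArg (fun f => f.hom y) eB.hom_inv_id
  have hBih : ∀ y, eB.hom.hom (eB.inv.hom y) = y := fun y =>
    congrArg (fun f => f.hom y) eB.inv_hom_id
  constructor
  · intro s s' hss
    apply heAh.1
    apply kinj
    rw [← hmφ, ← hmφ, ← h1', ← h1', hAhi, hAhi, hss]
  · intro t ht
    have hx : ∀ i, (τl i).rTensor R' (eB.hom.hom t) = eB.hom.hom t := by
      intro i
      rw [← hmτ, ← h2', hBhi, ht i]
    obtain ⟨y, hy⟩ := krange _ hx
    refine ⟨eA.inv.hom y, ?_⟩
    apply heBh.1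
    rw [h1', hmφ]
    exact hy


open CategoryTheory.Limits in
/-- two-step version: invariants of `B ⊗ B'` under a product family. -/
theorem invariants_pushout_prod {R A B A' B' P2 P : CommRingCat.{u}} (a : R ⟶ A) (a' : R ⟶ A')
    (φ : A ⟶ B) (φ' : A' ⟶ B') (i2 : A ⟶ P2) (j2 : A' ⟶ P2) (i : B ⟶ P) (j : B' ⟶ P)
    (Φ : P2 ⟶ P) (hP2 : IsPushout a a' i2 j2) (hP : IsPushout (a ≫ φ) (a' ≫ φ') i j)
    (hΦ1 : i2 ≫ Φ = φ ≫ i) (hΦ2 : j2 ≫ Φ = φ' ≫ j)
    (hflatA : a.hom.Flat) (hflatB' : (a' ≫ φ').hom.Flat)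
    {ι ι' : Type*} [Finite ι] [Finite ι']
    (τ : ι → (B ⟶ B)) (hτ : ∀ g, φ ≫ τ g = φ) (hinj : Function.Injective φ.hom)
    (hrange : ∀ b, (∀ g, (τ g).hom b = b) → b ∈ Set.range φ.hom)
    (τ' : ι' → (B' ⟶ B')) (hτ' : ∀ h, φ' ≫ τ' h = φ') (hinj' : Function.Injective φ'.hom)
    (hrange' : ∀ b, (∀ h, (τ' h).hom b = b) → b ∈ Set.range φ'.hom)
    (g0 : ι) (h0 : ι') (hh0 : τ' h0 = 𝟙 B')
    (θ : ι × ι' → (P ⟶ P)) (hθ1 : ∀ gh, i ≫ θ gh = τ gh.1 ≫ i)
    (hθ2 : ∀ gh, j ≫ θ gh = τ' gh.2 ≫ j) :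
    Function.Injective Φ.hom ∧ ∀ t, (∀ gh, (θ gh).hom t = t) → t ∈ Set.range Φ.hom := by
  -- the intermediate pushout `A ⊗ B'`
  have hP1 : IsPushout a (a' ≫ φ') (pushout.inl a (a' ≫ φ')) (pushout.inr a (a' ≫ φ')) :=
    IsPushout.of_hasPushout _ _
  obtain ⟨inl1, hinl1⟩ : ∃ f, f = pushout.inl a (a' ≫ φ') := ⟨_, rfl⟩
  obtain ⟨inr1, hinr1⟩ : ∃ f, f = pushout.inr a (a' ≫ φ') := ⟨_, rfl⟩
  rw [← hinl1, ← hinr1] at hP1
  let Φ1 : pushout a (a' ≫ φ') ⟶ P := hP1.desc (φ ≫ i) j (by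
    have := hP.w
    simpa [Category.assoc] using this)
  have hΦ1a : inl1 ≫ Φ1 = φ ≫ i := hP1.inl_desc _ _ _
  have hΦ1b : inr1 ≫ Φ1 = j := hP1.inr_desc _ _ _
  let Φ2 : P2 ⟶ pushout a (a' ≫ φ') := hP2.desc inl1 (φ' ≫ inr1) (by
    have := hP1.w
    simpa [Category.assoc] using this)
  have hΦ2a : i2 ≫ Φ2 = inl1 := hP2.inl_desc _ _ _
  have hΦ2b : j2 ≫ Φ2 = φ' ≫ inr1 := hP2.inr_desc _ _ _
  have hΦ : Φ2 ≫ Φ1 = Φ := by
    apply hP2.hom_ext
    · rw [reassoc_of% hΦ2a, hΦ1a, hΦ1]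
    · rw [reassoc_of% hΦ2b, hΦ1b, hΦ2]
  -- step (i)
  obtain ⟨inj1, range1⟩ := invariants_pushout a (a' ≫ φ') φ inl1 inr1 i j Φ1 hP1 hP hΦ1a hΦ1b
    hflatB' τ hτ hinj hrange (fun g => θ (g, h0)) (fun g => hθ1 (g, h0))
    (fun g => by rw [hθ2 (g, h0)]; simp [hh0])
  -- step (ii)
  let ψ : ι' → (pushout a (a' ≫ φ') ⟶ pushout a (a' ≫ φ')) := fun h =>
    hP1.desc inl1 (τ' h ≫ inr1) (by
      have := hP1.w
      rw [Category.assoc, reassoc_of% (hτ' h)]
      simpa [Category.assoc] using this)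
  have hψa : ∀ h, inl1 ≫ ψ h = inl1 := fun h => hP1.inl_desc _ _ _
  have hψb : ∀ h, inr1 ≫ ψ h = τ' h ≫ inr1 := fun h => hP1.inr_desc _ _ _
  obtain ⟨inj2, range2⟩ := invariants_pushout a' a φ' j2 i2 inr1 inl1 Φ2 hP2.flip hP1.flip
    hΦ2b hΦ2a hflatA τ' hτ' hinj' hrange' ψ hψb hψa
  have hcomm : ∀ h, ψ h ≫ Φ1 = Φ1 ≫ θ (g0, h) := by
    intro h
    apply hP1.hom_ext
    · rw [reassoc_of% (hψa h), hΦ1a, reassoc_of% hΦ1a, hθ1 (g0, h), reassoc_of% (hτ g0)]
    · rw [reassoc_of% (hψb h), hΦ1b, reassoc_of% hΦ1b, hθ2 (g0, h)]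
  have hΦapp : ∀ z, Φ.hom z = Φ1.hom (Φ2.hom z) := fun z =>
    (congrArg (fun f => f.hom z) hΦ).symm
  constructor
  · intro z z' hzz
    apply inj2
    apply inj1
    rw [← hΦapp, ← hΦapp, hzz]
  · intro t ht
    obtain ⟨y, rfl⟩ := range1 t (fun g => ht (g, h0))
    have hy : ∀ h, (ψ h).hom y = y := by
      intro h
      apply inj1
      have := congrArg (fun f => f.hom y) (hcomm h)
      exact this.trans (ht (g0, h))
    obtain ⟨z, rfl⟩ := range2 y hy
    exact ⟨z, hΦapp z⟩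

end Groth.Agent.Lib.Seat72.InvFlat
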