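import Mathlib
import Groth.Agent.Lib.Seat72QuotChart
import Groth.Agent.Lib.Seat72InvFlat

/-!
# Seat72: quotients by finite groups commute with flat base change
-/

set_option autoImplicit false
set_option maxSynthPendingDepth 3
set_option linter.style.haveILetI false
set_option linter.unusedSectionVars false

universe u

open CategoryTheory CategoryTheory.Limits AlgebraicGeometry TopologicalSpace

namespace Groth.Agent.Lib.Seat72.QuotFlatBC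

open SGA1 Groth.Agent.Lib.Helper20 Groth.Agent.Lib.Seat72.QuotGlue
  Groth.Agent.Lib.Seat72.QuotChart Groth.Agent.Lib.Seat72.InvFlat

/-- affine opens of a fibre product -/
theorem isAffineOpen_of_isPullback {X Y S T : Scheme.{u}} {f : T ⟶ S} {g : Y ⟶ X} {iX : X ⟶ S}
    {iY : Y ⟶ T} (H : IsPullback g iY iX f) {US : S.Opens} {UT : T.Opens} {UX : X.Opens}
    (hUST : UT ≤ f ⁻¹ᵁ US) (hUSX : UX ≤ iX ⁻¹ᵁ US) {UY : Y.Opens}
    (hUY : UY = g ⁻¹ᵁ UX ⊓ iY ⁻¹ᵁ UT) (hUS : IsAffineOpen US) (hUT : IsAffineOpen UT)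
    (hUX : IsAffineOpen UX) : IsAffineOpen UY := by
  have : IsAffine (US : Scheme.{u}) := hUS
  have : IsAffine (UT : Scheme.{u}) := hUT
  have : IsAffine (UX : Scheme.{u}) := hUX
  exact .of_isIso (Scheme.Hom.isPullback_resLE H hUST hUSX hUY).isoPullback.hom

theorem isPushout_appLE_of_isPullback {X Y S T : Scheme.{u}} {f : T ⟶ S} {g : Y ⟶ X}
    {iX : X ⟶ S} {iY : Y ⟶ T} (H : IsPullback g iY iX f) {US : S.Opens} {UT : T.Opens}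
    {UX : X.Opens} (hUST : UT ≤ f ⁻¹ᵁ US) (hUSX : UX ≤ iX ⁻¹ᵁ US) {UY : Y.Opens}
    (hUY : UY = g ⁻¹ᵁ UX ⊓ iY ⁻¹ᵁ UT) (hUS : IsAffineOpen US) (hUT : IsAffineOpen UT)
    (hUX : IsAffineOpen UX) :
    IsPushout (iX.appLE US UX hUSX) (f.appLE US UT hUST)
      (g.appLE UX UY (by rw [hUY]; exact inf_le_left))
      (iY.appLE UT UY (by rw [hUY]; exact inf_le_right)) := by
  have := isIso_pushoutSection_of_isAffineOpen H hUST hUSX hUY hUS hUT hUX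
  exact (isIso_pushoutSection_iff H hUST hUSX hUY).mp this

theorem quotAt_of_isQuot {X Y : Scheme.{u}} {G : Type u} [Group G] {ρ : G →* Aut X} {p : X ⟶ Y}
    (hp : IsQuot ρ p) (U : Y.Opens) :
    QuotAt (fun g : G => (ρ g).hom) p U (p ⁻¹ᵁ U) := by
  refine ⟨le_rfl, fun g => preimage_le_of_inv ρ p hp.inv g U, ?_, ?_⟩
  · rw [Scheme.Hom.appLE_eq_app]
    exact hp.injective U
  · intro s hs
    rw [Scheme.Hom.appLE_eq_app]
    exact (hp.range_iff U s).mpr hs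


theorem exists_affine_nhd_le {Z : Scheme.{u}} (U : Z.Opens) (z : Z) (hz : z ∈ U) :
    ∃ W : Z.Opens, IsAffineOpen W ∧ z ∈ W ∧ W ≤ U := by
  obtain ⟨W, hW, hzW, hWU⟩ := Opens.isBasis_iff_nbhd.mp Z.isBasis_affineOpens hz
  exact ⟨W, hW, hzW, hWU⟩

/-- Quotients by finite groups commute with flat base change. -/
theorem isQuot_baseChange_of_flat {X Y Z Z' X' Y' : Scheme.{u}} {G : Type u} [Group G] [Finite G]
    (ρ : G →* Aut X) (p : X ⟶ Y) (hp : SGA1.IsQuot ρ p) (q : Y ⟶ Z) (b : Z' ⟶ Z) [Flat b]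
    (qY : Y' ⟶ Y) (bY : Y' ⟶ Z') (hY : IsPullback qY bY q b)
    (pX : X' ⟶ X) (p' : X' ⟶ Y') (hX : IsPullback pX p' p qY)
    (ρ' : G →* Aut X') (hρ₁ : ∀ g : G, (ρ' g).hom ≫ pX = pX ≫ (ρ g).hom)
    (hρ₂ : ∀ g : G, (ρ' g).hom ≫ p' = p') :
    SGA1.IsQuot ρ' p' := by
  haveI := hp.affine
  have haff : IsAffineHom p' :=
    MorphismProperty.of_isPullback (P := @IsAffineHom) hX hp.affine
  let 𝒱 : Set Y'.Opens := {V' | ∃ (W : Z.Opens) (W' : Z'.Opens) (V : Y.Opens),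
    IsAffineOpen W ∧ IsAffineOpen W' ∧ IsAffineOpen V ∧ W' ≤ b ⁻¹ᵁ W ∧ V ≤ q ⁻¹ᵁ W ∧
      V' = qY ⁻¹ᵁ V ⊓ bY ⁻¹ᵁ W'}
  refine isQuot_of_affine_cover ρ' haff hρ₂ 𝒱 ?_ ?_ ?_
  · intro y'
    obtain ⟨W, hW, hzW, -⟩ := exists_affine_nhd_le (⊤ : Z.Opens) (q.base (qY.base y')) trivial
    have h1 : bY.base y' ∈ b ⁻¹ᵁ W := by
      show b.base (bY.base y') ∈ W
      have : b.base (bY.base y') = q.base (qY.base y') :=
        (congrArg (fun ψ : Y' ⟶ Z => ψ.base y') hY.w).symm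
      rw [this]
      exact hzW
    obtain ⟨W', hW', hyW', hW'le⟩ := exists_affine_nhd_le (b ⁻¹ᵁ W) (bY.base y') h1
    obtain ⟨V, hV, hyV, hVle⟩ := exists_affine_nhd_le (q ⁻¹ᵁ W) (qY.base y') hzW
    exact ⟨_, ⟨W, W', V, hW, hW', hV, hW'le, hVle, rfl⟩, ⟨hyV, hyW'⟩⟩
  · rintro _ ⟨W, W', V, hW, hW', hV, hW'le, hVle, rfl⟩
    exact isAffineOpen_of_isPullback hY hW'le hVle rfl hW hW' hV
  · rintro _ ⟨W, W', V, hW, hW', hV, hW'le, hVle, rfl⟩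
    have hT : IsAffineOpen (p ⁻¹ᵁ V) := hV.preimage p
    have hT' : p' ⁻¹ᵁ (qY ⁻¹ᵁ V ⊓ bY ⁻¹ᵁ W') = pX ⁻¹ᵁ (p ⁻¹ᵁ V) ⊓ (p' ≫ bY) ⁻¹ᵁ W' := by
      rw [Scheme.Hom.preimage_inf, ← Scheme.Hom.comp_preimage, ← Scheme.Hom.comp_preimage,
        ← Scheme.Hom.comp_preimage, hX.w]
    have hpaste : IsPullback pX (p' ≫ bY) (p ≫ q) b := hX.paste_vert hY
    have hTW : p ⁻¹ᵁ V ≤ (p ≫ q) ⁻¹ᵁ W := by
      rw [Scheme.Hom.comp_preimage]
      exact p.preimage_mono hVle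
    have hA := isPushout_appLE_of_isPullback hY hW'le hVle rfl hW hW' hV
    have hB0 := isPushout_appLE_of_isPullback hpaste hW'le hTW hT' hW hW' hT
    obtain ⟨e, eσ, hinj, hrange⟩ := quotAt_of_isQuot hp V
    have hcomp : q.appLE W V hVle ≫ p.appLE V (p ⁻¹ᵁ V) e = (p ≫ q).appLE W (p ⁻¹ᵁ V) hTW :=
      Scheme.Hom.appLE_comp_appLE _ _ _ _ _ _ _
    rw [← hcomp] at hB0
    have eσ' : ∀ g : G, p' ⁻¹ᵁ (qY ⁻¹ᵁ V ⊓ bY ⁻¹ᵁ W') ≤
        (ρ' g).hom ⁻¹ᵁ (p' ⁻¹ᵁ (qY ⁻¹ᵁ V ⊓ bY ⁻¹ᵁ W')) :=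
      fun g => preimage_le_of_inv ρ' p' hρ₂ g _
    refine ⟨le_rfl, eσ', ?_⟩
    refine invariants_pushout (q.appLE W V hVle) (b.appLE W W' hW'le) (p.appLE V (p ⁻¹ᵁ V) e)
      _ _ _ _ (p'.appLE _ _ le_rfl) hA hB0 ?_ ?_ (b.flat_appLE hW hW' hW'le)
      (fun g => (ρ g).hom.appLE _ _ (eσ g)) ?_ hinj hrange
      (fun g => (ρ' g).hom.appLE _ _ (eσ' g)) ?_ ?_
    · rw [Scheme.Hom.appLE_comp_appLE, Scheme.Hom.appLE_comp_appLE]
      exact appLE_congr_hom hX.w.symm _ _ _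
    · rw [Scheme.Hom.appLE_comp_appLE]
    · intro g
      rw [Scheme.Hom.appLE_comp_appLE]
      exact appLE_congr_hom (hp.inv g) _ _ _
    · intro g
      rw [Scheme.Hom.appLE_comp_appLE, Scheme.Hom.appLE_comp_appLE]
      exact appLE_congr_hom (hρ₁ g) _ _ _
    · intro g
      rw [Scheme.Hom.appLE_comp_appLE]
      exact appLE_congr_hom (by rw [reassoc_of% (hρ₂ g)]) _ _ _

end Groth.Agent.Lib.Seat72.QuotFlatBC
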