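import Mathlib
import Groth.Agent.Lib.Seat72QuotFlatBC
import Groth.Agent.Lib.Helper20QuotRestrict

/-!
# Seat72: induced quotients (`X = ⊔ gY` over `G/H`, `Y/H ≅ X/G`)
-/

set_option autoImplicit false
set_option maxSynthPendingDepth 3
set_option linter.style.haveILetI false
set_option linter.unusedSectionVars false

universe u

open CategoryTheory CategoryTheory.Limits AlgebraicGeometry TopologicalSpace

namespace Groth.Agent.Lib.Seat72.QuotCoset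

open SGA1 Groth.Agent.Lib.Helper20 Groth.Agent.Lib.Seat72.QuotGlue
  Groth.Agent.Lib.Seat72.QuotChart Groth.Agent.Lib.Seat72.QuotFlatBC

/-- transport of the quotient conditions to an open subscheme -/
theorem quotAt_pull {X₀ X Y' : Scheme.{u}} {ι : Type u} (j : X₀ ⟶ X) [IsOpenImmersion j]
    (p : X ⟶ Y') (σ : ι → (X ⟶ X)) (σ₀ : ι → (X₀ ⟶ X₀)) (hσ : ∀ i, σ₀ i ≫ j = j ≫ σ i)
    (U : Y'.Opens) (T : X.Opens) (hT : T ≤ j.opensRange) (h : QuotAt σ p U T) :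
    QuotAt σ₀ (j ≫ p) U (j ⁻¹ᵁ T) := by
  obtain ⟨e, eσ, hinj, hrange⟩ := h
  have e₀ : j ⁻¹ᵁ T ≤ (j ≫ p) ⁻¹ᵁ U := by
    rw [Scheme.Hom.comp_preimage]
    exact j.preimage_mono e
  have eσ₀ : ∀ i, j ⁻¹ᵁ T ≤ σ₀ i ⁻¹ᵁ (j ⁻¹ᵁ T) := by
    intro i
    rw [← Scheme.Hom.comp_preimage, hσ i, Scheme.Hom.comp_preimage]
    exact j.preimage_mono (eσ i)
  have hiso : IsIso (j.app T) := j.isIso_app T hT
  have habij : Function.Bijective (j.app T).hom := ConcreteCategory.bijective_of_isIso _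
  have h1 : (j ≫ p).appLE U (j ⁻¹ᵁ T) e₀ = p.appLE U T e ≫ j.app T := by
    rw [Scheme.Hom.app_eq_appLE, Scheme.Hom.appLE_comp_appLE]
  have h2 : ∀ i, j.app T ≫ (σ₀ i).appLE (j ⁻¹ᵁ T) (j ⁻¹ᵁ T) (eσ₀ i) =
      (σ i).appLE T T (eσ i) ≫ j.app T := by
    intro i
    rw [Scheme.Hom.app_eq_appLE, Scheme.Hom.appLE_comp_appLE, Scheme.Hom.appLE_comp_appLE]
    exact appLE_congr_hom (hσ i) _ _ _
  have h1' : ∀ s, ((j ≫ p).appLE U (j ⁻¹ᵁ T) e₀).hom s = (j.app T).hom ((p.appLE U T e).hom s) :=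
    fun s => congrArg (fun f => f.hom s) h1
  have h2' : ∀ i t, ((σ₀ i).appLE (j ⁻¹ᵁ T) (j ⁻¹ᵁ T) (eσ₀ i)).hom ((j.app T).hom t) =
      (j.app T).hom (((σ i).appLE T T (eσ i)).hom t) :=
    fun i t => congrArg (fun f => f.hom t) (h2 i)
  refine ⟨e₀, eσ₀, ?_, ?_⟩
  · intro s s' hss
    rw [h1', h1'] at hss
    exact hinj (habij.1 hss)
  · intro t₀ ht₀
    obtain ⟨t, rfl⟩ := habij.2 t₀
    have : ∀ i, ((σ i).appLE T T (eσ i)).hom t = t := by
      intro i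
      apply habij.1
      rw [← h2', ht₀ i]
    obtain ⟨s, hs⟩ := hrange t this
    exact ⟨s, by rw [h1', hs]⟩


section coset

variable {X XG : Scheme.{u}} {G : Type u} [Group G] {ρ : G →* Aut X} {p : X ⟶ XG}

theorem rho_inv_comp (ρ : G →* Aut X) (g : G) : (ρ g⁻¹).hom ≫ (ρ g).hom = 𝟙 X := by
  rw [← rho_mul_hom, mul_inv_cancel, rho_one_hom]

theorem rho_comp_inv (ρ : G →* Aut X) (g : G) : (ρ g).hom ≫ (ρ g⁻¹).hom = 𝟙 X := by
  rw [← rho_mul_hom, inv_mul_cancel, rho_one_hom]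

theorem rho_inv_apply (ρ : G →* Aut X) (g : G) (x : X) :
    (ρ g).hom.base ((ρ g⁻¹).hom.base x) = x :=
  congrArg (fun f : X ⟶ X => f.base x) (rho_inv_comp ρ g)

theorem rho_apply_inv (ρ : G →* Aut X) (g : G) (x : X) :
    (ρ g⁻¹).hom.base ((ρ g).hom.base x) = x :=
  congrArg (fun f : X ⟶ X => f.base x) (rho_comp_inv ρ g)

theorem rho_mul_apply (ρ : G →* Aut X) (g h : G) (x : X) :
    (ρ (g * h)).hom.base x = (ρ g).hom.base ((ρ h).hom.base x) :=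
  congrArg (fun f : X ⟶ X => f.base x) (rho_mul_hom ρ g h)

/-- the piece `p⁻¹V ∩ gY` -/
def W (ρ : G →* Aut X) (p : X ⟶ XG) (Y : X.Opens) (V : XG.Opens) (g : G) : X.Opens :=
  p ⁻¹ᵁ V ⊓ (ρ g⁻¹).hom ⁻¹ᵁ Y

theorem quotAt_coset [Finite G] (hP : IsQuot ρ p) (H : Subgroup G) (Y : X.Opens)
    (hcov : ∀ x : X, ∃ g : G, (ρ g⁻¹).hom.base x ∈ Y)
    (hdisj : ∀ g : G, g ∉ H → ∀ y : X, y ∈ Y → (ρ g).hom.base y ∉ Y)
    (hstab : ∀ h : G, h ∈ H → Y ≤ (ρ h).hom ⁻¹ᵁ Y)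
    (V : XG.Opens) :
    QuotAt (fun h : H => (ρ (h : G)).hom) p V (p ⁻¹ᵁ V ⊓ Y) := by
  have hinv := hP.inv
  have hTs : ∀ g : G, (ρ g).hom ⁻¹ᵁ (p ⁻¹ᵁ V) = p ⁻¹ᵁ V := by
    intro g
    rw [← Scheme.Hom.comp_preimage, hinv g]
  have e : p ⁻¹ᵁ V ⊓ Y ≤ p ⁻¹ᵁ V := inf_le_left
  have eσ : ∀ h : H, p ⁻¹ᵁ V ⊓ Y ≤ (ρ (h : G)).hom ⁻¹ᵁ (p ⁻¹ᵁ V ⊓ Y) := by
    intro h
    rw [Scheme.Hom.preimage_inf, hTs]
    exact inf_le_inf_left _ (hstab h h.2)
  have eg : ∀ g : G, W ρ p Y V g ≤ (ρ g⁻¹).hom ⁻¹ᵁ (p ⁻¹ᵁ V ⊓ Y) := by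
    intro g
    rw [Scheme.Hom.preimage_inf, hTs]
    exact le_rfl
  have hWT : ∀ g : G, W ρ p Y V g ≤ p ⁻¹ᵁ V := fun g => inf_le_left
  have hcover : p ⁻¹ᵁ V ≤ iSup (W ρ p Y V) := by
    intro x hx
    obtain ⟨g, hg⟩ := hcov x
    exact Opens.mem_iSup.mpr ⟨g, hx, hg⟩
  refine ⟨e, eσ, ?_, ?_⟩
  · -- injectivity
    rw [injective_iff_map_eq_zero]
    intro s hs
    apply hP.injective V
    rw [map_zero]
    fapply X.sheaf.eq_of_locally_eq' (W ρ p Y V) (p ⁻¹ᵁ V) (fun g => homOfLE (hWT g)) hcover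
    intro g
    change (X.presheaf.map (homOfLE (hWT g)).op).hom ((p.app V).hom s) =
      (X.presheaf.map (homOfLE (hWT g)).op).hom 0
    rw [map_zero]
    have h1 : p.app V ≫ X.presheaf.map (homOfLE (hWT g)).op =
        p.appLE V (p ⁻¹ᵁ V ⊓ Y) e ≫ (ρ g⁻¹).hom.appLE _ _ (eg g) := by
      rw [Scheme.Hom.app_eq_appLE, Scheme.Hom.appLE_map, Scheme.Hom.appLE_comp_appLE]
      exact (appLE_congr_hom (hinv g⁻¹) _ _ _).symm
    have h2 := congrArg (fun f => f.hom s) h1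
    simp only [CommRingCat.hom_comp, RingHom.coe_comp, Function.comp_apply] at h2
    rw [h2, hs, map_zero]
  · -- range
    intro u hu
    let sf : ∀ g : G, Γ(X, W ρ p Y V g) := fun g =>
      ((ρ g⁻¹).hom.appLE (p ⁻¹ᵁ V ⊓ Y) (W ρ p Y V g) (eg g)).hom u
    -- the restriction of `sf g` to a smaller open
    have hsf_res : ∀ (g : G) (U : X.Opens) (hU : U ≤ W ρ p Y V g),
        (X.presheaf.map (homOfLE hU).op).hom (sf g) =
          ((ρ g⁻¹).hom.appLE (p ⁻¹ᵁ V ⊓ Y) U (hU.trans (eg g))).hom u := by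
      intro g U hU
      have := Scheme.Hom.appLE_map (ρ g⁻¹).hom (eg g) (homOfLE hU).op
      exact congrArg (fun f => f.hom u) this
    have hcompat : TopCat.Presheaf.IsCompatible X.presheaf (W ρ p Y V) sf := by
      intro g g'
      change (X.presheaf.map (homOfLE inf_le_left).op).hom (sf g) =
        (X.presheaf.map (homOfLE inf_le_right).op).hom (sf g')
      by_cases hh : g⁻¹ * g' ∈ H
      · rw [hsf_res g _ inf_le_left, hsf_res g' _ inf_le_right]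
        have h1 : (ρ g'⁻¹).hom = (ρ g⁻¹).hom ≫ (ρ (g⁻¹ * g')⁻¹).hom := by
          rw [← rho_mul_hom]
          congr 2
          group
        have h2 : (ρ g'⁻¹).hom.appLE (p ⁻¹ᵁ V ⊓ Y) (W ρ p Y V g ⊓ W ρ p Y V g')
            (inf_le_right.trans (eg g')) =
            (ρ (g⁻¹ * g')⁻¹).hom.appLE (p ⁻¹ᵁ V ⊓ Y) (p ⁻¹ᵁ V ⊓ Y)
              (eσ ⟨(g⁻¹ * g')⁻¹, H.inv_mem hh⟩) ≫
            (ρ g⁻¹).hom.appLE (p ⁻¹ᵁ V ⊓ Y) (W ρ p Y V g ⊓ W ρ p Y V g')
              (inf_le_left.trans (eg g)) := by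
          rw [Scheme.Hom.appLE_comp_appLE]
          exact appLE_congr_hom h1 _ _ _
        have h3 := congrArg (fun f => f.hom u) h2
        simp only [CommRingCat.hom_comp, RingHom.coe_comp, Function.comp_apply] at h3
        rw [h3, hu ⟨(g⁻¹ * g')⁻¹, H.inv_mem hh⟩]
      · have hbot : W ρ p Y V g ⊓ W ρ p Y V g' = ⊥ := by
          rw [eq_bot_iff]
          rintro x ⟨⟨-, hx1⟩, ⟨-, hx2⟩⟩
          exfalso
          have hx1' : (ρ g⁻¹).hom.base x ∈ Y := hx1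
          have hx2' : (ρ g'⁻¹).hom.base x ∈ Y := hx2
          refine hdisj _ hh _ hx2' ?_
          rw [rho_mul_apply, rho_inv_apply]
          exact hx1'
        haveI : Subsingleton Γ(X, W ρ p Y V g ⊓ W ρ p Y V g') := by
          rw [hbot]; infer_instance
        exact Subsingleton.elim _ _
    obtain ⟨t, ht, -⟩ := X.sheaf.existsUnique_gluing' (W ρ p Y V) (p ⁻¹ᵁ V)
      (fun g => homOfLE (hWT g)) hcover sf hcompat
    have ht' : ∀ g, (X.presheaf.map (homOfLE (hWT g)).op).hom t = sf g := ht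
    -- `t` is `G`-invariant
    have htinv : ∀ k : G, ((ρ k).hom.appLE (p ⁻¹ᵁ V) (p ⁻¹ᵁ V)
        (preimage_le_of_inv ρ p hinv k V)).hom t = t := by
      intro k
      fapply X.sheaf.eq_of_locally_eq' (W ρ p Y V) (p ⁻¹ᵁ V) (fun g => homOfLE (hWT g)) hcover
      intro g
      change (X.presheaf.map (homOfLE (hWT g)).op).hom (((ρ k).hom.appLE (p ⁻¹ᵁ V) (p ⁻¹ᵁ V)
        (preimage_le_of_inv ρ p hinv k V)).hom t) = (X.presheaf.map (homOfLE (hWT g)).op).hom t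
      rw [ht' g]
      -- `ρ k` maps `W g` into `W (k g)`
      have hkg : W ρ p Y V g ≤ (ρ k).hom ⁻¹ᵁ W ρ p Y V (k * g) := by
        unfold W
        rw [Scheme.Hom.preimage_inf, hTs, ← Scheme.Hom.comp_preimage, ← rho_mul_hom]
        have : (k * g)⁻¹ * k = g⁻¹ := by group
        rw [this]
      have h1 : (ρ k).hom.appLE (p ⁻¹ᵁ V) (p ⁻¹ᵁ V) (preimage_le_of_inv ρ p hinv k V) ≫
          X.presheaf.map (homOfLE (hWT g)).op =
          X.presheaf.map (homOfLE (hWT (k * g))).op ≫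
            (ρ k).hom.appLE (W ρ p Y V (k * g)) (W ρ p Y V g) hkg := by
        rw [Scheme.Hom.appLE_map, Scheme.Hom.map_appLE]
      have h2 := congrArg (fun f => f.hom t) h1
      simp only [CommRingCat.hom_comp, RingHom.coe_comp, Function.comp_apply] at h2
      rw [h2, ht' (k * g)]
      have h3 : (ρ (k * g)⁻¹).hom.appLE (p ⁻¹ᵁ V ⊓ Y) (W ρ p Y V (k * g)) (eg (k * g)) ≫
          (ρ k).hom.appLE (W ρ p Y V (k * g)) (W ρ p Y V g) hkg =
          (ρ g⁻¹).hom.appLE (p ⁻¹ᵁ V ⊓ Y) (W ρ p Y V g) (eg g) := by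
        rw [Scheme.Hom.appLE_comp_appLE]
        refine appLE_congr_hom ?_ _ _ _
        rw [← rho_mul_hom]
        congr 2
        group
      exact congrArg (fun f => f.hom u) h3
    obtain ⟨s, hs⟩ := (hP.range_iff V t).mpr htinv
    refine ⟨s, ?_⟩
    -- restriction of `t` to `p⁻¹V ⊓ Y`
    have hle1 : p ⁻¹ᵁ V ⊓ Y ≤ W ρ p Y V 1 := by
      unfold W
      rw [inv_one, rho_one_hom]
      exact le_rfl
    have h1 : p.appLE V (p ⁻¹ᵁ V ⊓ Y) e = p.app V ≫ X.presheaf.map (homOfLE e).op := by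
      rw [Scheme.Hom.app_eq_appLE, Scheme.Hom.appLE_map]
    have h2 := congrArg (fun f => f.hom s) h1
    simp only [CommRingCat.hom_comp, RingHom.coe_comp, Function.comp_apply] at h2
    rw [h2, hs]
    have h3 : (X.presheaf.map (homOfLE e).op).hom t =
        (X.presheaf.map (homOfLE hle1).op).hom ((X.presheaf.map (homOfLE (hWT 1)).op).hom t) := by
      change _ = (X.presheaf.map (homOfLE (hWT 1)).op ≫ X.presheaf.map (homOfLE hle1).op).hom t
      rw [← X.presheaf.map_comp]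
      rfl
    rw [h3, ht' 1, hsf_res 1 _ hle1]
    have h4 : (ρ (1 : G)⁻¹).hom = 𝟙 X := by rw [inv_one, rho_one_hom]
    rw [appLE_congr_hom h4, id_appLE]
    rfl

end coset

/-- a clopen piece of an affine open is affine -/
theorem isAffineOpen_inf_of_clopen {X : Scheme.{u}} {T A B : X.Opens} (hT : IsAffineOpen T)
    (hle : T ≤ A ⊔ B) (hdisj : A ⊓ B = ⊥) : IsAffineOpen (T ⊓ A) := by
  let U : Bool → X.Opens := fun b => if b then T ⊓ A else T ⊓ B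
  have hUT : ∀ b, U b ≤ T := by
    intro b
    cases b
    · exact inf_le_left
    · exact inf_le_left
  have hcover : T ≤ iSup U := by
    intro x hx
    rcases hle hx with hA | hB
    · exact Opens.mem_iSup.mpr ⟨true, hx, hA⟩
    · exact Opens.mem_iSup.mpr ⟨false, hx, hB⟩
  let sf : ∀ b, Γ(X, U b) := fun b => if b then 1 else 0
  have hbot : U true ⊓ U false = ⊥ := by
    rw [eq_bot_iff]
    rintro x ⟨⟨-, hA⟩, ⟨-, hB⟩⟩
    have : x ∈ A ⊓ B := ⟨hA, hB⟩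
    rw [hdisj] at this
    exact this
  have hcompat : TopCat.Presheaf.IsCompatible X.presheaf U sf := by
    intro b b'
    cases b <;> cases b'
    · rfl
    · haveI : Subsingleton Γ(X, U false ⊓ U true) := by
        rw [inf_comm, hbot]; infer_instance
      exact Subsingleton.elim _ _
    · haveI : Subsingleton Γ(X, U true ⊓ U false) := by
        rw [hbot]; infer_instance
      exact Subsingleton.elim _ _
    · rfl
  obtain ⟨t, ht, -⟩ := X.sheaf.existsUnique_gluing' U T (fun b => homOfLE (hUT b)) hcover sf hcompat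
  have ht1 : (X.presheaf.map (homOfLE (hUT true)).op).hom t = 1 := ht true
  have ht0 : (X.presheaf.map (homOfLE (hUT false)).op).hom t = 0 := ht false
  have h1 : T ⊓ A ≤ X.basicOpen t := by
    have := X.basicOpen_res t (homOfLE (hUT true)).op
    rw [show X.presheaf.map (homOfLE (hUT true)).op t = 1 from ht1, Scheme.basicOpen_one] at this
    exact (inf_eq_left.mp this.symm)
  have h0 : (T ⊓ B) ⊓ X.basicOpen t = ⊥ := by
    have := X.basicOpen_res t (homOfLE (hUT false)).op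
    rw [show X.presheaf.map (homOfLE (hUT false)).op t = 0 from ht0, Scheme.basicOpen_zero] at this
    exact this.symm
  have h2 : X.basicOpen t = T ⊓ A := by
    apply le_antisymm _ h1
    intro x hx
    have hxT : x ∈ T := X.basicOpen_le t hx
    rcases hle hxT with hA | hB
    · exact ⟨hxT, hA⟩
    · exfalso
      have : x ∈ (T ⊓ B) ⊓ X.basicOpen t := ⟨⟨hxT, hB⟩, hx⟩
      rw [h0] at this
      exact this
  rw [← h2]
  exact hT.basicOpen t


theorem isQuot_coset {X XG : Scheme.{u}} {G : Type u} [Group G] [Finite G] {ρ : G →* Aut X}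
    {p : X ⟶ XG} (hP : IsQuot ρ p) (H : Subgroup G) (Y : X.Opens)
    (hcov : ∀ x : X, ∃ g : G, x ∈ (ρ g).hom.base '' (Y : Set X))
    (hdisj : ∀ g : G, g ∉ H → Disjoint ((ρ g).hom.base '' (Y : Set X)) (Y : Set X))
    (ρY : H →* Aut (Y : Scheme.{u}))
    (hρY : ∀ h : H, (ρY h).hom ≫ Y.ι = Y.ι ≫ (ρ (h : G)).hom) :
    IsQuot ρY (Y.ι ≫ p) := by
  haveI := hP.affine
  have hcov' : ∀ x : X, ∃ g : G, (ρ g⁻¹).hom.base x ∈ Y := by
    intro x
    obtain ⟨g, y, hy, rfl⟩ := hcov x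
    exact ⟨g, by rw [rho_apply_inv]; exact hy⟩
  have hdisj' : ∀ g : G, g ∉ H → ∀ y : X, y ∈ Y → (ρ g).hom.base y ∉ Y := by
    intro g hg y hy hcon
    exact Set.disjoint_left.mp (hdisj g hg) ⟨y, hy, rfl⟩ hcon
  have hstab : ∀ h : G, h ∈ H → Y ≤ (ρ h).hom ⁻¹ᵁ Y := by
    intro h hh y hy
    have h1 := congrArg (fun ψ : (Y : Scheme.{u}) ⟶ X => ψ.base ⟨y, hy⟩) (hρY ⟨h, hh⟩)
    have h2 : (ρ h).hom.base y = Y.ι.base ((ρY ⟨h, hh⟩).hom.base ⟨y, hy⟩) := h1.symm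
    show (ρ h).hom.base y ∈ Y
    rw [h2]
    exact ((ρY ⟨h, hh⟩).hom.base ⟨y, hy⟩).2
  have hpre : ∀ V : XG.Opens, Y.ι ⁻¹ᵁ (p ⁻¹ᵁ V ⊓ Y) = (Y.ι ≫ p) ⁻¹ᵁ V := by
    intro V
    rw [Scheme.Hom.preimage_inf, Scheme.Opens.ι_preimage_self, inf_top_eq,
      Scheme.Hom.comp_preimage]
  have hall : ∀ V : XG.Opens,
      QuotAt (fun h : H => (ρY h).hom) (Y.ι ≫ p) V ((Y.ι ≫ p) ⁻¹ᵁ V) := by
    intro V
    have h1 := quotAt_coset hP H Y hcov' hdisj' hstab V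
    have h2 := quotAt_pull Y.ι p (fun h : H => (ρ (h : G)).hom) (fun h : H => (ρY h).hom) hρY V
      (p ⁻¹ᵁ V ⊓ Y) (by rw [Scheme.Opens.opensRange_ι]; exact inf_le_right) h1
    rwa [hpre V] at h2
  have hinv : ∀ h : H, (ρY h).hom ≫ Y.ι ≫ p = Y.ι ≫ p := by
    intro h
    rw [reassoc_of% (hρY h), hP.inv]
  have haff : IsAffineHom (Y.ι ≫ p) := by
    refine ⟨fun V hV => ?_⟩
    rw [← hpre V]
    apply IsAffineOpen.preimage_of_isOpenImmersion _ _
      (by rw [Scheme.Opens.opensRange_ι]; exact inf_le_right)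
    -- `p⁻¹V ⊓ Y` is a clopen piece of the affine open `p⁻¹V`
    refine isAffineOpen_inf_of_clopen (B := ⨆ g : {g : G // g ∉ H}, (ρ (g : G)⁻¹).hom ⁻¹ᵁ Y)
      (hV.preimage p) ?_ ?_
    · intro x _
      obtain ⟨g, hg⟩ := hcov' x
      by_cases hgH : g ∈ H
      · left
        have := hstab g hgH hg
        have h3 : (ρ g).hom.base ((ρ g⁻¹).hom.base x) ∈ Y := this
        rwa [rho_inv_apply] at h3
      · right
        exact Opens.mem_iSup.mpr ⟨⟨g, hgH⟩, hg⟩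
    · rw [eq_bot_iff]
      rintro x ⟨hxY, hxB⟩
      obtain ⟨⟨g, hgH⟩, hg⟩ := Opens.mem_iSup.mp hxB
      have h3 : (ρ g⁻¹).hom.base x ∈ Y := hg
      have h4 := hdisj' g hgH _ h3
      rw [rho_inv_apply] at h4
      exact h4 hxY
  exact isQuot_of_basis ρY haff hinv Set.univ (fun U y hy => ⟨U, trivial, hy, le_rfl⟩)
    (fun V _ => hall V) (fun V _ W _ => hall (V ⊓ W))

end Groth.Agent.Lib.Seat72.QuotCoset
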