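import Mathlib
import Groth.Agent.Lib.Seat72QuotCoset

/-!
# Seat72: stable affine open neighbourhoods

If the orbit of `x` under a finite group lies in an affine open, then `x` has arbitrarily small
stable affine open neighbourhoods (inside any stable open neighbourhood).
-/

set_option autoImplicit false
set_option maxSynthPendingDepth 3
set_option linter.style.haveILetI false
set_option linter.unusedSectionVars false

universe u

open CategoryTheory CategoryTheory.Limits AlgebraicGeometry TopologicalSpace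

namespace Groth.Agent.Lib.Seat72.QuotExistB

open SGA1 Groth.Agent.Lib.Helper20 Groth.Agent.Lib.Seat72.QuotCoset

variable {X : Scheme.{u}} {G : Type u} [Group G] [Finite G]

/-- membership in the basic open of a finite product -/
theorem mem_basicOpen_prod {ι : Type*} (s : Finset ι) {D : X.Opens} (b : ι → Γ(X, D)) (y : X)
    (hy : y ∈ D) : y ∈ X.basicOpen (∏ i ∈ s, b i) ↔ ∀ i ∈ s, y ∈ X.basicOpen (b i) := by
  classical
  induction s using Finset.induction_on with
  | empty =>
    rw [Finset.prod_empty, Scheme.basicOpen_one]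
    simp [hy]
  | insert a s ha ih =>
    rw [Finset.prod_insert ha, Scheme.basicOpen_mul, Finset.forall_mem_insert, ← ih]
    rfl

/-- prime avoidance for points of an affine open: a function not vanishing at finitely many
points, whose non-vanishing locus lies in a given open neighbourhood of these points. -/
theorem exists_basicOpen_of_finite {U₀ : X.Opens} (hU₀ : IsAffineOpen U₀) {ι : Type*} [Finite ι]
    (pt : ι → X) (hpt : ∀ i, pt i ∈ U₀) (U' : X.Opens) (hptU : ∀ i, pt i ∈ U') :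
    ∃ a : Γ(X, U₀), (∀ i, pt i ∈ X.basicOpen a) ∧ X.basicOpen a ≤ U' := by
  classical
  cases nonempty_fintype ι
  have h1 : ∀ i, ∃ f : Γ(X, U₀), X.basicOpen f ≤ U' ∧ pt i ∈ X.basicOpen f := fun i =>
    hU₀.exists_basicOpen_le (V := U') ⟨pt i, hptU i⟩ (hpt i)
  choose f hfU hfpt using h1
  let I : Ideal Γ(X, U₀) := Ideal.span (Set.range f)
  have hI : ∀ i, ¬ I ≤ evalKer U₀ (pt i) (hpt i) := by
    intro i hle
    have : f i ∈ evalKer U₀ (pt i) (hpt i) := hle (Ideal.subset_span ⟨i, rfl⟩)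
    rw [mem_evalKer] at this
    exact this (hfpt i)
  have h2 : ¬ ((I : Set Γ(X, U₀)) ⊆
      ⋃ i ∈ ((Finset.univ : Finset ι) : Set ι), (evalKer U₀ (pt i) (hpt i) : Set Γ(X, U₀))) := by
    by_cases hne : Nonempty ι
    · obtain ⟨i₀⟩ := hne
      rw [Ideal.subset_union_prime (s := Finset.univ)
        (f := fun i => evalKer U₀ (pt i) (hpt i)) i₀ i₀ (fun i _ _ _ => inferInstance)]
      rintro ⟨i, -, hi⟩
      exact hI i hi
    · intro hsub
      obtain ⟨S, hS⟩ := Set.mem_iUnion.mp (hsub I.zero_mem)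
      exact hne ⟨S⟩
  obtain ⟨a, haI, ha⟩ := Set.not_subset.mp h2
  refine ⟨a, fun i => ?_, ?_⟩
  · by_contra hcon
    apply ha
    refine Set.mem_iUnion₂.mpr ⟨i, Finset.mem_coe.mpr (Finset.mem_univ i), ?_⟩
    exact mem_evalKer.mpr hcon
  · intro y hy
    have hyU₀ : y ∈ U₀ := X.basicOpen_le a hy
    by_contra hcon
    have h3 : I ≤ evalKer U₀ y hyU₀ := by
      rw [Ideal.span_le]
      rintro _ ⟨i, rfl⟩
      change f i ∈ evalKer U₀ y hyU₀
      rw [mem_evalKer]
      exact fun h => hcon (hfU i h)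
    have := h3 haI
    rw [mem_evalKer] at this
    exact this hy

/-- stable affine open neighbourhoods inside a stable open neighbourhood. -/
theorem exists_stable_affine (ρ : G →* Aut X) (x : X) (U₀ : X.Opens) (hU₀ : IsAffineOpen U₀)
    (hx : ∀ g : G, (ρ g).hom.base x ∈ U₀) (U : X.Opens) (hU : ∀ g : G, U ≤ (ρ g).hom ⁻¹ᵁ U)
    (hxU : x ∈ U) :
    ∃ W : X.Opens, IsAffineOpen W ∧ (∀ g : G, W ≤ (ρ g).hom ⁻¹ᵁ W) ∧ x ∈ W ∧ W ≤ U := by
  classical
  cases nonempty_fintype G
  -- the stable open `U'`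
  let U' : X.Opens := U ⊓ ⨅ g : G, (ρ g).hom ⁻¹ᵁ U₀
  have hmemU' : ∀ y : X, y ∈ U' ↔ y ∈ U ∧ ∀ g : G, (ρ g).hom.base y ∈ U₀ := by
    intro y
    change y ∈ ((U ⊓ ⨅ g : G, (ρ g).hom ⁻¹ᵁ U₀ : X.Opens) : Set X) ↔ _
    rw [Opens.coe_inf, Opens.coe_iInf, Set.mem_inter_iff, Set.mem_iInter]
    rfl
  have hptU' : ∀ g : G, (ρ g).hom.base x ∈ U' := by
    intro g
    rw [hmemU']
    refine ⟨hU g hxU, fun h => ?_⟩
    rw [← rho_mul_apply]
    exact hx (h * g)
  obtain ⟨a, hapt, haU'⟩ := exists_basicOpen_of_finite hU₀ (fun g : G => (ρ g).hom.base x) hx U'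
    hptU'
  have hD : IsAffineOpen (X.basicOpen a) := hU₀.basicOpen a
  have hDρ : ∀ g : G, X.basicOpen a ≤ (ρ g).hom ⁻¹ᵁ U₀ := fun g y hy =>
    ((hmemU' y).mp (haU' hy)).2 g
  let b : G → Γ(X, X.basicOpen a) := fun g => ((ρ g).hom.appLE U₀ (X.basicOpen a) (hDρ g)).hom a
  have hb : ∀ g : G, X.basicOpen (b g) = X.basicOpen a ⊓ (ρ g).hom ⁻¹ᵁ (X.basicOpen a) := fun g =>
    Scheme.basicOpen_appLE _ _ _ _ a
  let W : X.Opens := X.basicOpen (∏ g : G, b g)
  have hWD : W ≤ X.basicOpen a := X.basicOpen_le _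
  have hmemW : ∀ y : X, y ∈ W ↔ ∀ g : G, (ρ g).hom.base y ∈ X.basicOpen a := by
    intro y
    constructor
    · intro hy g
      have hyD : y ∈ X.basicOpen a := hWD hy
      have := (mem_basicOpen_prod Finset.univ b y hyD).mp hy g (Finset.mem_univ g)
      rw [hb g] at this
      exact this.2
    · intro hy
      have hyD : y ∈ X.basicOpen a := by
        have := hy 1
        rwa [rho_one_hom, Scheme.Hom.id_base, TopCat.id_app] at this
      refine (mem_basicOpen_prod Finset.univ b y hyD).mpr fun g _ => ?_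
      rw [hb g]
      exact ⟨hyD, hy g⟩
  refine ⟨W, hD.basicOpen _, fun h y hy => ?_, ?_, fun y hy => ?_⟩
  · change (ρ h).hom.base y ∈ W
    rw [hmemW]
    intro g
    rw [← rho_mul_apply]
    exact (hmemW y).mp hy (g * h)
  · rw [hmemW]
    exact hapt
  · exact ((hmemU' y).mp (haU' (hWD hy))).1

end Groth.Agent.Lib.Seat72.QuotExistB
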