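import Mathlib
import Groth.Agent.Lib.Seat72FixSmoothAlg
import Groth.Agent.Lib.Seat72QuotExistB

/-!
# Seat72: the fixed-point scheme of a finite group of invertible order acting on a smooth scheme
is smooth

Local statement: around a fixed point choose a stable affine open `W = Spec B` over an affine open
`V = Spec R` of the base; the fixed-point scheme meets `W` in `Spec (B ⧸ J)`, `J` the ideal
generated by the `g b - b`, and `B ⧸ J` is smooth over `R` by `FixSmoothAlg.smooth_quotient`.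
-/

set_option autoImplicit false
set_option maxSynthPendingDepth 3
set_option linter.style.haveILetI false
set_option linter.unusedSectionVars false

universe u

open CategoryTheory CategoryTheory.Limits AlgebraicGeometry TopologicalSpace

namespace Groth.Agent.Lib.Seat72.FixSmooth

open Groth.Agent.Lib.Seat72.FixSmoothAlg Groth.Agent.Lib.Seat72.QuotExistB

variable {X S Z : Scheme.{u}} {G : Type u} [Group G] [Finite G]

section Local

variable (f : X ⟶ S) (ρ : G →* Aut X) (hρ : ∀ g : G, (ρ g).hom ≫ f = f)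
  (i : Z ⟶ X) [IsClosedImmersion i] (hfix : ∀ g : G, i ≫ (ρ g).hom = i)
  (huniv : ∀ (T : Scheme.{u}) (t : T ⟶ X), (∀ g : G, t ≫ (ρ g).hom = t) →
    ∃ z : T ⟶ Z, z ≫ i = t)
  {V : S.Opens} (hV : IsAffineOpen V) {W : X.Opens} (hW : IsAffineOpen W)
  (hWV : W ≤ f ⁻¹ᵁ V) (hWst : ∀ g : G, W ≤ (ρ g).hom ⁻¹ᵁ W)

/-- the action on sections over a stable open, as algebra maps over the base ring -/
noncomputable def actAlg :
    letI : Algebra Γ(S, V) Γ(X, W) := (f.appLE V W hWV).hom.toAlgebra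
    G → (Γ(X, W) →ₐ[Γ(S, V)] Γ(X, W)) :=
  letI : Algebra Γ(S, V) Γ(X, W) := (f.appLE V W hWV).hom.toAlgebra
  fun g =>
    { toRingHom := ((ρ g).hom.appLE W W (hWst g)).hom
      commutes' := fun r => by
        have h : f.appLE V W hWV ≫ (ρ g).hom.appLE W W (hWst g) = f.appLE V W hWV := by
          rw [Scheme.Hom.appLE_comp_appLE]
          simp only [hρ g]
        exact congrArg (fun k => k.hom r) h }

theorem actAlg_apply (g : G) (a : Γ(X, W)) :
    letI : Algebra Γ(S, V) Γ(X, W) := (f.appLE V W hWV).hom.toAlgebra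
    actAlg f ρ hρ hWV hWst g a = ((ρ g).hom.appLE W W (hWst g)).hom a := rfl

theorem actAlg_comp (g h : G) (a : Γ(X, W)) :
    letI : Algebra Γ(S, V) Γ(X, W) := (f.appLE V W hWV).hom.toAlgebra
    actAlg f ρ hρ hWV hWst g (actAlg f ρ hρ hWV hWst h a) =
      actAlg f ρ hρ hWV hWst (h * g) a := by
  letI : Algebra Γ(S, V) Γ(X, W) := (f.appLE V W hWV).hom.toAlgebra
  rw [actAlg_apply, actAlg_apply, actAlg_apply]
  have h1 : (ρ h).hom.appLE W W (hWst h) ≫ (ρ g).hom.appLE W W (hWst g) =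
      (ρ (h * g)).hom.appLE W W (hWst (h * g)) := by
    rw [Scheme.Hom.appLE_comp_appLE]
    have : (ρ (h * g)).hom = (ρ g).hom ≫ (ρ h).hom := by
      rw [map_mul]; rfl
    simp only [this]
  exact congrArg (fun k => k.hom a) h1

/-- the ideal of `Γ(X, W)` generated by the `g b - b` -/
noncomputable def J : Ideal Γ(X, W) :=
  letI : Algebra Γ(S, V) Γ(X, W) := (f.appLE V W hWV).hom.toAlgebra
  fixIdeal (actAlg f ρ hρ hWV hWst)

include hfix in
/-- the restriction to the fixed subscheme is invariant -/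
theorem J_le_ker :
    J f ρ hρ hWV hWst ≤ RingHom.ker (i.appLE W (i ⁻¹ᵁ W) le_rfl).hom := by
  letI : Algebra Γ(S, V) Γ(X, W) := (f.appLE V W hWV).hom.toAlgebra
  refine fixIdeal_le_ker _ _ ?_
  intro g a
  rw [actAlg_apply]
  have h : (ρ g).hom.appLE W W (hWst g) ≫ i.appLE W (i ⁻¹ᵁ W) le_rfl =
      i.appLE W (i ⁻¹ᵁ W) le_rfl := by
    rw [Scheme.Hom.appLE_comp_appLE]
    simp only [hfix g]
  exact congrArg (fun k => k.hom a) h

include huniv hW in
/-- the kernel of restriction to the fixed subscheme is the coinvariant ideal -/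
theorem ker_le_J :
    RingHom.ker (i.appLE W (i ⁻¹ᵁ W) le_rfl).hom ≤ J f ρ hρ hWV hWst := by
  letI : Algebra Γ(S, V) Γ(X, W) := (f.appLE V W hWV).hom.toAlgebra
  let C : CommRingCat.{u} := CommRingCat.of (Γ(X, W) ⧸ J f ρ hρ hWV hWst)
  let qJ : Γ(X, W) ⟶ C := CommRingCat.ofHom (Ideal.Quotient.mk (J f ρ hρ hWV hWst))
  let c : Spec C ⟶ X := Spec.map qJ ≫ hW.fromSpec
  have hc : ∀ g : G, c ≫ (ρ g).hom = c := by
    intro g
    have h1 := hW.SpecMap_appLE_fromSpec (ρ g).hom hW (hWst g)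
    have h2 : (ρ g).hom.appLE W W (hWst g) ≫ qJ = qJ := by
      ext a
      exact mk_act (actAlg f ρ hρ hWV hWst) g a
    rw [Category.assoc, ← h1, ← Category.assoc, ← Spec.map_comp, h2]
  obtain ⟨z', hz'⟩ := huniv _ c hc
  have hP : IsAffineOpen (i ⁻¹ᵁ W) := hW.preimage i
  have hrange : Set.range z'.base ⊆ Set.range hP.fromSpec.base := by
    rw [hP.range_fromSpec]
    rintro _ ⟨y, rfl⟩
    show i.base (z'.base y) ∈ W
    have e1 : i.base (z'.base y) = c.base y := by rw [← hz']; rfl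
    rw [e1]
    have e2 : c.base y = hW.fromSpec.base ((Spec.map qJ).base y) := rfl
    rw [e2]
    have h0 : hW.fromSpec.base ((Spec.map qJ).base y) ∈ Set.range hW.fromSpec.base :=
      Set.mem_range_self _
    rw [hW.range_fromSpec] at h0
    exact h0
  let z'' := IsOpenImmersion.lift hP.fromSpec z' hrange
  have hz'' : z'' ≫ hP.fromSpec = z' := IsOpenImmersion.lift_fac _ _ _
  let γ := Spec.preimage z''
  have hγ : Spec.map γ = z'' := Spec.map_preimage z''
  have h3 := hW.SpecMap_appLE_fromSpec i hP le_rfl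
  have h4 : Spec.map qJ ≫ hW.fromSpec =
      Spec.map (i.appLE W (i ⁻¹ᵁ W) le_rfl ≫ γ) ≫ hW.fromSpec := by
    rw [Spec.map_comp, Category.assoc, h3, hγ, ← Category.assoc, hz'', hz']
  have h5 : qJ = i.appLE W (i ⁻¹ᵁ W) le_rfl ≫ γ :=
    Spec.map_injective ((cancel_mono hW.fromSpec).1 h4)
  intro a ha
  rw [← Ideal.Quotient.eq_zero_iff_mem]
  have h6 := congrArg (fun k => k.hom a) h5
  have h7 : (i.appLE W (i ⁻¹ᵁ W) le_rfl).hom a = 0 := ha
  change Ideal.Quotient.mk _ a = γ.hom ((i.appLE W (i ⁻¹ᵁ W) le_rfl).hom a) at h6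
  rw [h6, h7, map_zero]

include hρ hWV hWst hfix huniv hW hV in
/-- the local statement: the ring map of the fixed subscheme is smooth -/
theorem local_smooth [Smooth f] (hnV : IsUnit ((Nat.card G : ℕ) : Γ(S, V)))
    (e : i ⁻¹ᵁ W ≤ (i ≫ f) ⁻¹ᵁ V) :
    RingHom.Smooth ((i ≫ f).appLE V (i ⁻¹ᵁ W) e).hom := by
  letI : Algebra Γ(S, V) Γ(X, W) := (f.appLE V W hWV).hom.toAlgebra
  have hφ : RingHom.Smooth (f.appLE V W hWV).hom :=
    HasRingHomProperty.appLE (P := @Smooth) _ ‹Smooth f› ⟨V, hV⟩ ⟨W, hW⟩ hWV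
  haveI : Algebra.Smooth Γ(S, V) Γ(X, W) := hφ
  have hsm : Algebra.Smooth Γ(S, V) (Γ(X, W) ⧸ J f ρ hρ hWV hWst) :=
    smooth_quotient (actAlg f ρ hρ hWV hWst)
      (fun g h a => actAlg_comp f ρ hρ hWV hWst g h a) hnV
  let β := i.appLE W (i ⁻¹ᵁ W) le_rfl
  have hβ : Function.Surjective β.hom := by
    have := i.app_surjective W hW
    rwa [Scheme.Hom.app_eq_appLE] at this
  have hker : RingHom.ker β.hom = J f ρ hρ hWV hWst :=
    le_antisymm (ker_le_J f ρ hρ i huniv hW hWV hWst) (J_le_ker f ρ hρ i hfix hWV hWst)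
  let ebar : (Γ(X, W) ⧸ J f ρ hρ hWV hWst) →+* Γ(Z, i ⁻¹ᵁ W) :=
    Ideal.Quotient.lift _ β.hom (fun a ha => by rwa [← hker] at ha)
  have hbij : Function.Bijective ebar := by
    constructor
    · rw [injective_iff_map_eq_zero]
      intro a ha
      obtain ⟨a, rfl⟩ := Ideal.Quotient.mk_surjective a
      rw [Ideal.Quotient.eq_zero_iff_mem, ← hker]
      exact ha
    · intro y
      obtain ⟨a, rfl⟩ := hβ y
      exact ⟨Ideal.Quotient.mk _ a, rfl⟩
  have hcomp : ((i ≫ f).appLE V (i ⁻¹ᵁ W) e).hom =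
      ((RingEquiv.ofBijective ebar hbij).toRingHom).comp
        (algebraMap Γ(S, V) (Γ(X, W) ⧸ J f ρ hρ hWV hWst)) := by
    have : (i ≫ f).appLE V (i ⁻¹ᵁ W) e = f.appLE V W hWV ≫ β := by
      rw [Scheme.Hom.appLE_comp_appLE]
    rw [this]
    ext r
    rfl
  rw [hcomp]
  exact RingHom.Smooth.respectsIso.1 _ _ (RingHom.smooth_algebraMap.2 hsm)

end Local

/-- the fixed-point scheme of a finite group of invertible order acting on a smooth scheme is
smooth -/
theorem smooth_fixed (f : X ⟶ S) [Smooth f] (ρ : G →* Aut X) (hρ : ∀ g : G, (ρ g).hom ≫ f = f)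
    (hn : IsUnit ((Nat.card G : ℕ) : Γ(S, ⊤)))
    (i : Z ⟶ X) [IsClosedImmersion i] (hfix : ∀ g : G, i ≫ (ρ g).hom = i)
    (huniv : ∀ (T : Scheme.{u}) (t : T ⟶ X), (∀ g : G, t ≫ (ρ g).hom = t) →
      ∃ z : T ⟶ Z, z ≫ i = t) :
    Smooth (i ≫ f) := by
  rw [HasRingHomProperty.iff_exists_appLE (P := @Smooth)
    (RingHom.Smooth.stableUnderComposition.stableUnderCompositionWithLocalizationAway
      RingHom.Smooth.holdsForLocalizationAway).1]
  intro z
  have hx : ∀ g : G, (ρ g).hom.base (i.base z) = i.base z := by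
    intro g
    have := congrArg (fun k : Z ⟶ X => k.base z) (hfix g)
    exact this
  obtain ⟨V, hV, hfx, -⟩ := Opens.isBasis_iff_nbhd.mp S.isBasis_affineOpens
    (Opens.mem_top (f.base (i.base z)))
  obtain ⟨U₀, hU₀, hxU₀, hU₀V⟩ := Opens.isBasis_iff_nbhd.mp X.isBasis_affineOpens
    (show i.base z ∈ f ⁻¹ᵁ V from hfx)
  have hst : ∀ g : G, f ⁻¹ᵁ V ≤ (ρ g).hom ⁻¹ᵁ (f ⁻¹ᵁ V) := by
    intro g y hy
    show f.base ((ρ g).hom.base y) ∈ V
    have : f.base ((ρ g).hom.base y) = f.base y :=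
      congrArg (fun k : X ⟶ S => k.base y) (hρ g)
    rw [this]
    exact hy
  obtain ⟨W, hW, hWst, hxW, hWV⟩ := exists_stable_affine ρ (i.base z) U₀ hU₀
    (fun g => by rw [hx g]; exact hxU₀) (f ⁻¹ᵁ V) hst hfx
  have hnV : IsUnit ((Nat.card G : ℕ) : Γ(S, V)) := by
    have := hn.map (S.presheaf.map (homOfLE (le_top : V ≤ ⊤)).op).hom
    rwa [map_natCast] at this
  have e : i ⁻¹ᵁ W ≤ (i ≫ f) ⁻¹ᵁ V := fun y hy => hWV hy
  exact ⟨⟨V, hV⟩, ⟨i ⁻¹ᵁ W, hW.preimage i⟩, hxW, e,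
    local_smooth f ρ hρ i hfix huniv hV hW hWV hWst hnV e⟩

end Groth.Agent.Lib.Seat72.FixSmooth
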