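import Mathlib
import Groth.Agent.Lib.Seat72Expand

/-!
# Degree of a `q`-Frobenius-like endomorphism of a function field (seat 72)

`finrank_frob`: if `L/k` is a finitely generated field extension of transcendence degree `n`,
generated by a set `S`, and `φ : L →ₐ[k] L` satisfies `φ x = x ^ q` on `S`, then `[L : φ L] = q ^ n`.
-/

set_option autoImplicit false
set_option maxSynthPendingDepth 3
set_option linter.style.haveILetI false

open MvPolynomial

namespace Groth.Agent.Lib.Seat72.FrobDeg

open Groth.Agent.Lib.Seat72.Expand

universe u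

section
variable {k L : Type u} [Field k] [Field L] [Algebra k L]

/-- `L` is algebraic over the subalgebra generated by a field-generating set. -/
theorem isAlgebraic_adjoin_of_adjoin_eq_top (S : Set L) (hS : IntermediateField.adjoin k S = ⊤) :
    Algebra.IsAlgebraic (Algebra.adjoin k S) L := by
  constructor
  intro z
  have hz : z ∈ IntermediateField.adjoin k S := by rw [hS]; trivial
  obtain ⟨x, hx, y, hy, rfl⟩ := IntermediateField.mem_adjoin_iff_div.mp hz
  have h1 : IsAlgebraic (Algebra.adjoin k S) (algebraMap (Algebra.adjoin k S) L ⟨x, hx⟩) :=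
    isAlgebraic_algebraMap _
  have h2 : IsAlgebraic (Algebra.adjoin k S) (algebraMap (Algebra.adjoin k S) L ⟨y, hy⟩) :=
    isAlgebraic_algebraMap _
  have := h1.mul h2.inv
  simpa [div_eq_mul_inv] using this

/-- positivity of the generic rank over a polynomial subring on a transcendence basis -/
theorem finrank_mvPolynomial_ne_zero [Algebra.EssFiniteType k L] {ι : Type u} (x : ι → L)
    (hx : IsTranscendenceBasis k x) :
    letI : Algebra (MvPolynomial ι k) L := (aeval x : MvPolynomial ι k →ₐ[k] L).toRingHom.toAlgebra
    Module.finrank (MvPolynomial ι k) L ≠ 0 := by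
  letI : Algebra (MvPolynomial ι k) L := (aeval x : MvPolynomial ι k →ₐ[k] L).toRingHom.toAlgebra
  have hinj : Function.Injective (algebraMap (MvPolynomial ι k) L) := hx.1
  haveI : FaithfulSMul (MvPolynomial ι k) L := (faithfulSMul_iff_algebraMap_injective _ _).mpr hinj
  haveI : IsScalarTower k (MvPolynomial ι k) L :=
    IsScalarTower.of_algebraMap_eq fun c => ((aeval x).commutes c).symm
  letI := FractionRing.liftAlgebra (MvPolynomial ι k) L
  haveI : Algebra.EssFiniteType (FractionRing (MvPolynomial ι k)) L :=
    Algebra.EssFiniteType.of_comp k (FractionRing (MvPolynomial ι k)) L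
  haveI : Algebra.IsAlgebraic (FractionRing (MvPolynomial ι k)) L := by
    let e := hx.1.aevalEquiv
    letI : Algebra (Algebra.adjoin k (Set.range x)) (FractionRing (MvPolynomial ι k)) :=
      ((algebraMap (MvPolynomial ι k) (FractionRing (MvPolynomial ι k))).comp
        e.symm.toAlgHom.toRingHom).toAlgebra
    haveI : IsScalarTower (Algebra.adjoin k (Set.range x)) (FractionRing (MvPolynomial ι k)) L := by
      refine IsScalarTower.of_algebraMap_eq fun a => ?_
      show (a : L) = algebraMap (FractionRing (MvPolynomial ι k)) L
        (algebraMap (MvPolynomial ι k) (FractionRing (MvPolynomial ι k)) (e.symm a))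
      rw [← IsScalarTower.algebraMap_apply (MvPolynomial ι k) (FractionRing (MvPolynomial ι k)) L]
      show (a : L) = aeval x (e.symm a)
      rw [← hx.1.algebraMap_aevalEquiv, AlgEquiv.apply_symm_apply]
      rfl
    haveI := hx.isAlgebraic
    refine Algebra.IsAlgebraic.extendScalars (R := Algebra.adjoin k (Set.range x)) ?_
    exact (IsFractionRing.injective (MvPolynomial ι k) _).comp e.symm.injective
  haveI : Module.Finite (FractionRing (MvPolynomial ι k)) L :=
    Algebra.finite_of_essFiniteType_of_isAlgebraic
  have h1 : Module.finrank (FractionRing (MvPolynomial ι k)) L = Module.finrank (MvPolynomial ι k) L :=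
    IsFractionRing.finrank_right_eq _ _ _
  rw [← h1]
  exact (Module.finrank_pos).ne'


/-- tower square: two factorizations of the same ring map between domains -/
theorem tower_square (P P' B B' : Type*) [CommRing P] [CommRing P'] [CommRing B] [CommRing B']
    [IsDomain B'] [Algebra P P'] [Algebra P B] [Algebra P' B'] [Algebra B B'] [Algebra P B']
    [IsScalarTower P P' B'] [IsScalarTower P B B'] [FaithfulSMul P' B'] [FaithfulSMul B B'] :
    Module.finrank P P' * Module.finrank P' B' = Module.finrank P B * Module.finrank B B' := by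
  rw [Module.finrank_mul_finrank' (R := P) (S := P') B',
    Module.finrank_mul_finrank' (R := P) (S := B) B']

theorem finrank_frob [Algebra.EssFiniteType k L]
    (S : Set L) (hS : IntermediateField.adjoin k S = ⊤) (q : ℕ) (hq : q ≠ 0)
    (φ : L →ₐ[k] L) (hφ : ∀ x ∈ S, φ x = x ^ q) (n : ℕ) (hn : Algebra.trdeg k L = n) :
    Module.finrank L (Via φ.toRingHom) = q ^ n := by
  classical
  haveI := isAlgebraic_adjoin_of_adjoin_eq_top S hS
  obtain ⟨T, hTS, hT⟩ := exists_isTranscendenceBasis_subset (R := k) S
  have hcard : Cardinal.mk T = n := by rw [hT.cardinalMk_eq_trdeg, hn]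
  haveI : Finite T := by
    rw [← Cardinal.lt_aleph0_iff_finite, hcard]
    exact Cardinal.natCast_lt_aleph0
  letI : Fintype T := Fintype.ofFinite T
  have hcard' : Fintype.card T = n := by
    rw [Cardinal.mk_fintype] at hcard
    exact_mod_cast hcard
  let j : MvPolynomial T k →ₐ[k] L := aeval ((↑) : T → L)
  have hj : Function.Injective j := hT.1
  have hcomm : ∀ p, φ (j p) = j (expand q p) := by
    intro p
    have : φ.comp j = j.comp (expand q) := by
      apply MvPolynomial.algHom_ext
      intro t
      simp only [AlgHom.comp_apply, j, aeval_X, expand_X, map_pow]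
      exact hφ _ (hTS t.2)
    exact DFunLike.congr_fun this p
  letI a1 : Algebra (MvPolynomial T k) L := j.toRingHom.toAlgebra
  letI a2 : Algebra (Via (expand q (R := k) (σ := T)).toRingHom) (Via φ.toRingHom) :=
    j.toRingHom.toAlgebra
  letI a3 : Algebra (MvPolynomial T k) (Via φ.toRingHom) := (φ.toRingHom.comp j.toRingHom).toAlgebra
  haveI : IsScalarTower (MvPolynomial T k) L (Via φ.toRingHom) :=
    IsScalarTower.of_algebraMap_eq fun p => rfl
  haveI : IsScalarTower (MvPolynomial T k) (Via (expand q (R := k) (σ := T)).toRingHom)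
      (Via φ.toRingHom) :=
    IsScalarTower.of_algebraMap_eq fun p => hcomm p
  haveI : FaithfulSMul (Via (expand q (R := k) (σ := T)).toRingHom) (Via φ.toRingHom) :=
    (faithfulSMul_iff_algebraMap_injective _ _).mpr hj
  haveI : FaithfulSMul L (Via φ.toRingHom) :=
    (faithfulSMul_iff_algebraMap_injective _ _).mpr φ.toRingHom.injective
  have h1 := tower_square (MvPolynomial T k) (Via (expand q (R := k) (σ := T)).toRingHom) L
    (Via φ.toRingHom)
  have h2 : Module.finrank (Via (expand q (R := k) (σ := T)).toRingHom) (Via φ.toRingHom) =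
      Module.finrank (MvPolynomial T k) L := rfl
  have h3 := finrank_expand (R := k) (σ := T) q hq
  have h4 := finrank_mvPolynomial_ne_zero ((↑) : T → L) hT
  rw [h2, h3, mul_comm] at h1
  have h5 := Nat.eq_of_mul_eq_mul_left (Nat.pos_of_ne_zero h4) h1
  rw [← h5, hcard']

end

end Groth.Agent.Lib.Seat72.FrobDeg
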