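import Mathlib
import Groth.Agent.Lib.Helper10WeilPush
import Groth.Agent.Lib.Helper10WeilGen
import Groth.Agent.Lib.Helper4VarDim12
import Groth.Agent.Lib.Seat72FrobDeg

/-!
# The geometric Frobenius of a base-changed variety at the generic point (seat 72)

For `X̄ = X ×_{k₀} k` and `F = Frob_{X,q} × id`: `F η = η` and the residue degree of `F` at the generic
point `η` is `q ^ dim X̄`; hence `F^*` is multiplication by `q ^ dim X̄` on `H^{2 dim X̄}`.
-/

set_option autoImplicit false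
set_option maxSynthPendingDepth 3
set_option linter.style.haveILetI false
set_option linter.unusedSectionVars false

universe u v

open AlgebraicGeometry CategoryTheory CategoryTheory.Limits

namespace Groth.Agent.Lib.Seat72.FrobGeom

open Groth.Agent.Lib.Helper4.VarDim Groth.Agent.Lib.Seat72.Expand Groth.Agent.Lib.Seat72.FrobDeg
open Groth.Agent.Lib.Helper10.WeilPt

attribute [local instance] sectionsAlgebra Curv2.resAlgebra overVar

section Core

variable (k : Type u) [Field k] {Y : Scheme.{u}} [Y.Over (Spec (CommRingCat.of k))]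
  [LocallyOfFiniteType (Y ↘ Spec (CommRingCat.of k))]
  (F : Y ⟶ Y) (hF : F ≫ (Y ↘ Spec (CommRingCat.of k)) = (Y ↘ Spec (CommRingCat.of k)))
  {V : Y.Opens} (hV : IsAffineOpen V) (e : V ≤ F ⁻¹ᵁ V)
  (𝒮 : Set Γ(Y, V)) (hgen : Algebra.adjoin k 𝒮 = ⊤) (q : ℕ) (hq : q ≠ 0)
  (h𝒮 : ∀ s ∈ 𝒮, (F.appLE V V e).hom s = s ^ q)

include hF hgen hq h𝒮 in
theorem isAlgebraic_evaluation (x : Y) (hx : x ∈ V) (b : Γ(Y, V)) :
    letI : Algebra (Y.residueField (F x)) (Y.residueField x) := (F.residueFieldMap x).hom.toAlgebra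
    IsAlgebraic (Y.residueField (F x)) ((Y.evaluation V x hx).hom b) := by
  letI : Algebra (Y.residueField (F x)) (Y.residueField x) := (F.residueFieldMap x).hom.toAlgebra
  have hb : b ∈ Algebra.adjoin k 𝒮 := by rw [hgen]; trivial
  induction hb using Algebra.adjoin_induction with
  | mem s hs =>
    apply IsAlgebraic.of_pow (Nat.pos_of_ne_zero hq)
    rw [← map_pow, ← h𝒮 s hs, appLE_evaluation F e x hx s]
    exact isAlgebraic_algebraMap _
  | algebraMap c =>
    have h1 : (Y.evaluation V x hx).hom (algebraMap k Γ(Y, V) c) = Curv2.resMap k Y x c :=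
      (evₐ k Y x hx).commutes c
    rw [h1, ← residueFieldMap_resMap k F hF x c]
    exact isAlgebraic_algebraMap _
  | add a b _ _ ha hb => rw [map_add]; exact ha.add hb
  | mul a b _ _ ha hb => rw [map_mul]; exact ha.mul hb

include hF hgen hq h𝒮 hV in
theorem isAlgebraic_residueField (x : Y) (hx : x ∈ V) :
    letI : Algebra (Y.residueField (F x)) (Y.residueField x) := (F.residueFieldMap x).hom.toAlgebra
    Algebra.IsAlgebraic (Y.residueField (F x)) (Y.residueField x) := by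
  letI : Algebra (Y.residueField (F x)) (Y.residueField x) := (F.residueFieldMap x).hom.toAlgebra
  constructor
  intro z
  obtain ⟨a, s, rfl⟩ := evaluation_frac hV x hx z
  have ha := isAlgebraic_evaluation k F hF e 𝒮 hgen q hq h𝒮 x hx a
  have hs := isAlgebraic_evaluation k F hF e 𝒮 hgen q hq h𝒮 x hx s
  rw [div_eq_mul_inv]
  exact ha.mul hs.inv

include hF hgen hq h𝒮 hV in
theorem trdegNat_map_eq (x : Y) (hx : x ∈ V) : trdegNat k Y (F x) = trdegNat k Y x := by
  have h1 := trdeg_add_trdeg_residueFieldMap k F hF x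
  letI : Algebra (Y.residueField (F x)) (Y.residueField x) := (F.residueFieldMap x).hom.toAlgebra
  haveI := isAlgebraic_residueField k F hF hV e 𝒮 hgen q hq h𝒮 x hx
  have h2 : Algebra.trdeg (Y.residueField (F x)) (Y.residueField x) = 0 :=
    trdeg_eq_zero_iff.mpr inferInstance
  rw [h2, add_zero, trdeg_eq_trdegNat k Y (F x), trdeg_eq_trdegNat k Y x] at h1
  exact_mod_cast h1

include hF hgen hq h𝒮 hV in
theorem map_genericPoint [IsIntegral Y] (hη : genericPoint Y ∈ V) :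
    F (genericPoint Y) = genericPoint Y := by
  by_contra hne
  have h1 := trdegNat_map_eq k F hF hV e 𝒮 hgen q hq h𝒮 (genericPoint Y) hη
  have h2 := trdegNat_lt_of_specializes k Y (genericPoint Y) (F (genericPoint Y))
    (genericPoint_specializes _) (Ne.symm hne)
  omega

/-- evaluation at the generic point is injective on sections over an affine open -/
theorem evₐ_genericPoint_injective [IsIntegral Y] (hV : IsAffineOpen V) (hη : genericPoint Y ∈ V) :
    Function.Injective (evₐ k Y (genericPoint Y) hη) := by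
  haveI : Nonempty V := ⟨⟨_, hη⟩⟩
  rw [← AlgHom.coe_toRingHom, injective_iff_map_eq_zero]
  intro a ha
  have h1 : a ∈ RingHom.ker (evₐ k Y (genericPoint Y) hη).toRingHom := ha
  rw [ker_evₐ k Y hV, hV.primeIdealOf_genericPoint] at h1
  rw [genericPoint_eq_bot_of_affine] at h1
  exact h1

/-- the residue field at the generic point is essentially of finite type -/
theorem essFiniteType_genericPoint [IsIntegral Y] (hV : IsAffineOpen V) (hη : genericPoint Y ∈ V) :
    Algebra.EssFiniteType k (Y.residueField (genericPoint Y)) := by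
  haveI := finiteType_sections k Y hV
  letI : Algebra Γ(Y, V) (Y.residueField (genericPoint Y)) :=
    (evₐ k Y (genericPoint Y) hη).toRingHom.toAlgebra
  haveI : IsScalarTower k Γ(Y, V) (Y.residueField (genericPoint Y)) :=
    IsScalarTower.of_algebraMap_eq fun c => ((evₐ k Y (genericPoint Y) hη).commutes c).symm
  haveI : FaithfulSMul Γ(Y, V) (Y.residueField (genericPoint Y)) :=
    (faithfulSMul_iff_algebraMap_injective _ _).mpr (evₐ_genericPoint_injective k hV hη)
  haveI : IsFractionRing Γ(Y, V) (Y.residueField (genericPoint Y)) :=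
    IsFractionRing.of_field _ _ (fun z => evₐ_frac k Y hV (genericPoint Y) hη z)
  haveI : Algebra.EssFiniteType Γ(Y, V) (Y.residueField (genericPoint Y)) :=
    Algebra.EssFiniteType.of_isLocalization _ (nonZeroDivisors Γ(Y, V))
  exact Algebra.EssFiniteType.comp k Γ(Y, V) _

include hV hgen in
theorem adjoin_image_eq_top (x : Y) (hx : x ∈ V) :
    IntermediateField.adjoin k ((evₐ k Y x hx) '' 𝒮) = ⊤ := by
  rw [eq_top_iff]
  intro z _
  obtain ⟨a, s, rfl⟩ := evₐ_frac k Y hV x hx z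
  have key : ∀ b : Γ(Y, V), evₐ k Y x hx b ∈ IntermediateField.adjoin k ((evₐ k Y x hx) '' 𝒮) := by
    intro b
    apply IntermediateField.algebra_adjoin_le_adjoin k
    rw [← AlgHom.map_adjoin, hgen]
    exact ⟨b, trivial, rfl⟩
  exact div_mem (key a) (key s)

include hV hgen hq in
theorem deg_aux [IsIntegral Y] (hη : genericPoint Y ∈ V) (Φ : Γ(Y, V) →+* Γ(Y, V))
    (hΦ : ∀ s ∈ 𝒮, Φ s = s ^ q)
    (y : Y) (hy : y = genericPoint Y) (hyV : y ∈ V)
    (ψ : Y.residueField y →ₐ[k] Y.residueField (genericPoint Y))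
    (hψ : ∀ b : Γ(Y, V), ψ ((Y.evaluation V y hyV).hom b) =
      (Y.evaluation V (genericPoint Y) hη).hom (Φ b)) :
    @Module.finrank (Y.residueField y) (Y.residueField (genericPoint Y)) _ _
      ψ.toRingHom.toAlgebra.toModule = q ^ trdegNat k Y (genericPoint Y) := by
  subst hy
  haveI := essFiniteType_genericPoint k hV hη
  have h1 := finrank_frob (k := k) (L := Y.residueField (genericPoint Y))
    ((evₐ k Y (genericPoint Y) hη) '' 𝒮) (adjoin_image_eq_top k hV 𝒮 hgen _ hη) q hq ψ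
    (by
      rintro _ ⟨s, hs, rfl⟩
      have := hψ s
      rw [hΦ s hs, map_pow] at this
      exact this)
    (trdegNat k Y (genericPoint Y)) (trdeg_eq_trdegNat k Y _)
  exact h1

include hF hV hgen hq h𝒮 in
theorem core [IsIntegral Y] (hη : genericPoint Y ∈ V) (hFη : F (genericPoint Y) = genericPoint Y) :
    F.residueDegree (genericPoint Y) = q ^ trdegNat k Y (genericPoint Y) := by
  have := deg_aux k hV 𝒮 hgen q hq hη (F.appLE V V e).hom h𝒮 (F (genericPoint Y)) hFη (e hη)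
    (residueFieldAlgHom k F hF (genericPoint Y))
    (fun b => (appLE_evaluation F e (genericPoint Y) hη b).symm)
  exact this

end Core

section App

theorem appLE_congr_hom {X Y : Scheme.{u}} {f g : X ⟶ Y} (h : f = g) (U : Y.Opens) (V : X.Opens)
    (e : V ≤ f ⁻¹ᵁ U) : f.appLE U V e = g.appLE U V (h ▸ e) := by
  subst h; rfl

variable {k₀ : Type u} [Field k₀] [Finite k₀] {k : Type u} [Field k] [IsAlgClosed k] [Algebra k₀ k]
  {X : Scheme.{u}} (f : X ⟶ Spec (CommRingCat.of k₀))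
  (FX : X ⟶ X) (hFb : FX.base = 𝟙 _) (hle : ∀ U : X.Opens, U ≤ FX ⁻¹ᵁ U)
  (hFapp : ∀ (U : X.Opens) (s : Γ(X, U)), (FX.appLE U U (hle U)).hom s = s ^ Nat.card k₀)
  (Xb : WeilCoh.Var k) (π : Xb.obj.left ⟶ X)
  (hπ : IsPullback π Xb.obj.hom f (Spec.map (CommRingCat.ofHom (algebraMap k₀ k))))
  (F : Xb ⟶ Xb) (hF : WeilCoh.sm F ≫ π = π ≫ FX)

include hπ in
theorem isAffineHom_π : IsAffineHom π :=
  MorphismProperty.of_isPullback (P := @IsAffineHom) hπ.flip inferInstance

include hFb hF in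
theorem preimage_le (U : X.Opens) : π ⁻¹ᵁ U ≤ (WeilCoh.sm F) ⁻¹ᵁ (π ⁻¹ᵁ U) := by
  intro y hy
  show π ((WeilCoh.sm F) y) ∈ U
  have h1 : π ((WeilCoh.sm F) y) = FX (π y) := by
    rw [← Scheme.Hom.comp_apply, hF, Scheme.Hom.comp_apply]
  have h2 : FX (π y) = π y := by
    show FX.base (π y) = π y
    rw [hFb]; rfl
  rw [h1, h2]; exact hy

include hFb hF hFapp in
theorem appLE_pow (U : X.Opens) (a : Γ(X, U)) :
    ((WeilCoh.sm F).appLE (π ⁻¹ᵁ U) (π ⁻¹ᵁ U) (preimage_le FX hFb Xb π F hF U)).hom ((π.app U).hom a) =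
      ((π.app U).hom a) ^ Nat.card k₀ := by
  have h1 := Scheme.Hom.appLE_comp_appLE (WeilCoh.sm F) π U (π ⁻¹ᵁ U) (π ⁻¹ᵁ U) le_rfl
    (preimage_le FX hFb Xb π F hF U)
  have h2 := Scheme.Hom.appLE_comp_appLE π FX U U (π ⁻¹ᵁ U) (hle U) le_rfl
  rw [appLE_congr_hom hF] at h1
  have h3 := h1.trans h2.symm
  have h4 := congrArg (fun φ => φ.hom a) h3
  simp only [CommRingCat.hom_comp, RingHom.comp_apply] at h4
  rw [Scheme.Hom.appLE_eq_app] at h4
  rw [h4, hFapp, map_pow]

include hπ in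
theorem adjoin_range_eq_top (U : X.Opens) (hU : IsAffineOpen U) :
    Algebra.adjoin k (Set.range (π.app U).hom) = (⊤ : Subalgebra k Γ(Xb.obj.left, π ⁻¹ᵁ U)) := by
  have hUY : π ⁻¹ᵁ U = π ⁻¹ᵁ U ⊓ Xb.obj.hom ⁻¹ᵁ ⊤ := by simp
  have h1 := isIso_pushoutSection_of_isAffineOpen hπ (US := ⊤) (UT := ⊤) (UX := U) le_top le_top hUY
    (isAffineOpen_top _) (isAffineOpen_top _) hU
  have h2 := (isIso_pushoutSection_iff hπ le_top le_top hUY).mp h1
  have h3 := CommRingCat.closure_range_union_range_eq_top_of_isPushout h2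
  rw [← Subalgebra.toSubring_inj, Algebra.adjoin_eq_ring_closure, Algebra.top_toSubring, ← h3]
  congr 1
  rw [Set.union_comm]
  congr 1
  · rw [Scheme.Hom.appLE_eq_app]
  · ext b
    constructor
    · rintro ⟨c, rfl⟩
      exact ⟨(Scheme.ΓSpecIso (CommRingCat.of k)).inv.hom c, rfl⟩
    · rintro ⟨c, rfl⟩
      refine ⟨(Scheme.ΓSpecIso (CommRingCat.of k)).hom.hom c, ?_⟩
      show (Xb.obj.hom.appLE ⊤ (π ⁻¹ᵁ U) le_top).hom
        ((Scheme.ΓSpecIso (CommRingCat.of k)).inv.hom ((Scheme.ΓSpecIso (CommRingCat.of k)).hom.hom c)) = _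
      congr 1
      exact congrArg (fun φ => φ.hom c) (Scheme.ΓSpecIso (CommRingCat.of k)).hom_inv_id

include hFb hFapp hπ hF in
theorem frob_generic :
    (WeilCoh.sm F) (genericPoint Xb.obj.left) = genericPoint Xb.obj.left ∧
      (WeilCoh.sm F).residueDegree (genericPoint Xb.obj.left) =
        Nat.card k₀ ^ WeilCoh.dim Xb.obj.left := by
  obtain ⟨U, hU, hxU, -⟩ := exists_isAffineOpen_mem_and_subset (U := ⊤)
    (x := π (genericPoint Xb.obj.left)) trivial
  haveI := isAffineHom_π f Xb π hπ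
  have hV : IsAffineOpen (π ⁻¹ᵁ U) := hU.preimage π
  have hη : genericPoint Xb.obj.left ∈ π ⁻¹ᵁ U := hxU
  have hFk : WeilCoh.sm F ≫ (Xb.obj.left ↘ Spec (CommRingCat.of k)) =
      (Xb.obj.left ↘ Spec (CommRingCat.of k)) := sm_w F
  have hq : Nat.card k₀ ≠ 0 := Nat.card_pos.ne'
  have h𝒮 : ∀ s ∈ Set.range (π.app U).hom,
      ((WeilCoh.sm F).appLE (π ⁻¹ᵁ U) (π ⁻¹ᵁ U) (preimage_le FX hFb Xb π F hF U)).hom s =
        s ^ Nat.card k₀ := by
    rintro _ ⟨a, rfl⟩
    exact appLE_pow FX hFb hle hFapp Xb π F hF U a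
  have hgen := adjoin_range_eq_top f Xb π hπ U hU
  have h1 := map_genericPoint k (WeilCoh.sm F) hFk hV (preimage_le FX hFb Xb π F hF U) _ hgen
    (Nat.card k₀) hq h𝒮 hη
  refine ⟨h1, ?_⟩
  rw [core k (WeilCoh.sm F) hFk hV (preimage_le FX hFb Xb π F hF U) _ hgen (Nat.card k₀) hq h𝒮 hη h1,
    ← pdim_eq_trdegNat, pdim_genericPoint]

end App

section Coh

variable {k₀ : Type u} [Field k₀] [Finite k₀] {k : Type u} [Field k] [IsAlgClosed k] [Algebra k₀ k]
  {K : Type v} [Field K] [CharZero K] (T : WeilCoh.Theory k K)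
  {X : Scheme.{u}} (f : X ⟶ Spec (CommRingCat.of k₀))
  (FX : X ⟶ X) (hFb : FX.base = 𝟙 _) (hle : ∀ U : X.Opens, U ≤ FX ⁻¹ᵁ U)
  (hFapp : ∀ (U : X.Opens) (s : Γ(X, U)), (FX.appLE U U (hle U)).hom s = s ^ Nat.card k₀)
  (Xb : WeilCoh.Var k) (π : Xb.obj.left ⟶ X)
  (hπ : IsPullback π Xb.obj.hom f (Spec.map (CommRingCat.ofHom (algebraMap k₀ k))))
  (F : Xb ⟶ Xb) (hF : WeilCoh.sm F ≫ π = π ≫ FX)

include hFb hFapp hπ hF in
/-- `F^*` is multiplication by `q ^ n` on `H^{2n}`. -/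
theorem pull_top (a : T.H Xb) (ha : a ∈ T.gr Xb (2 * (WeilCoh.dim Xb.obj.left : ℤ))) :
    T.pull F a = ((Nat.card k₀ : K) ^ WeilCoh.dim Xb.obj.left) • a := by
  obtain ⟨h1, h2⟩ := frob_generic f FX hFb hle hFapp Xb π hπ F hF
  have hp := pdim_genericPoint Xb
  have key := T.cl_push F (genericPoint Xb.obj.left) a (by rw [hp]; exact ha)
  rw [h1, cl_generic, one_mul, one_mul, h2, Nat.cast_pow] at key
  have hm1 : T.pull F a ∈ T.gr Xb (2 * (WeilCoh.dim Xb.obj.left : ℤ)) := T.pull_mem F _ a ha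
  have hm2 : ((Nat.card k₀ : K) ^ WeilCoh.dim Xb.obj.left) • a ∈
      T.gr Xb (2 * (WeilCoh.dim Xb.obj.left : ℤ)) := Submodule.smul_mem _ _ ha
  have hinj := (T.tr_bijective Xb).1
  have := @hinj ⟨_, hm1⟩ ⟨_, hm2⟩ (by
    show T.tr Xb (T.pull F a) = T.tr Xb (((Nat.card k₀ : K) ^ WeilCoh.dim Xb.obj.left) • a)
    rw [key, map_smul, smul_eq_mul])
  exact congrArg Subtype.val this

end Coh

end Groth.Agent.Lib.Seat72.FrobGeom
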