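/-
Helper library (helper85): sections of a normal integral scheme are integrally closed in the
function field; consequently, for a quasi-compact quasi-separated morphism `f : Y ⟶ X` from a normal
integral scheme, the relative normalization of `X` in `Y` agrees with the normalization of `X` in
the function field of `Y`.
-/
import Mathlib.AlgebraicGeometry.FunctionField
import Mathlib.AlgebraicGeometry.Normalization
import Mathlib.AlgebraicGeometry.Stalk
import Mathlib.RingTheory.IntegralClosure.IntegrallyClosed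

set_option autoImplicit false
universe u

open AlgebraicGeometry CategoryTheory TopologicalSpace

namespace Groth.Agent.Lib.Seat85.NormInNormal

variable {Y : Scheme.{u}} [IsIntegral Y]

/-- An element of the function field of a normal integral scheme `Y` which is integral over
`Γ(Y, W)` (`W` a nonempty open) is the germ of a section over `W`. -/
theorem exists_section_of_isIntegral
    (hY : ∀ y : Y, IsIntegrallyClosed (Y.presheaf.stalk y)) (W : Y.Opens) [Nonempty W]
    (x : Y.functionField) (hx : IsIntegral Γ(Y, W) x) :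
    ∃ b : Γ(Y, W), Y.germToFunctionField W b = x := by
  -- local sections
  have hloc : ∀ y : W, ∃ (V : Y.Opens) (_ : y.1 ∈ V) (_ : V ≤ W) (t : Γ(Y, V)),
      ∀ (hη : genericPoint Y ∈ V), Y.presheaf.germ V (genericPoint Y) hη t = x := by
    intro y
    have := hY y.1
    have h1 : IsIntegral (Y.presheaf.stalk y.1) x := hx.tower_top
    obtain ⟨s, hs⟩ := IsIntegrallyClosed.isIntegral_iff.mp h1
    obtain ⟨V₀, hyV₀, t₀, ht₀⟩ := Y.presheaf.exists_germ_eq s
    have hyVW : y.1 ∈ V₀ ⊓ W := ⟨hyV₀, y.2⟩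
    refine ⟨V₀ ⊓ W, hyVW, inf_le_right, Y.presheaf.map (homOfLE inf_le_left).op t₀, ?_⟩
    intro hη
    have : Nonempty (V₀ ⊓ W : Y.Opens) := ⟨⟨_, hη⟩⟩
    have h2 : Y.presheaf.germ (V₀ ⊓ W) y.1 hyVW (Y.presheaf.map (homOfLE inf_le_left).op t₀)
        = s := by
      rw [TopCat.Presheaf.germ_res_apply]; exact ht₀
    have h3 := Scheme.algebraMap_germ_eq_germToFunctionField (X := Y) (U := V₀ ⊓ W)
      (x := y.1) hyVW (Y.presheaf.map (homOfLE inf_le_left).op t₀)
    rw [h2, hs] at h3
    exact h3.symm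
  choose V hyV hVW t ht using hloc
  have hη : ∀ (U : Y.Opens), (U : Set Y).Nonempty → genericPoint Y ∈ U := fun U hU =>
    ((genericPoint_spec Y).mem_open_set_iff U.isOpen).mpr (by simpa using hU)
  have hηV : ∀ y : W, genericPoint Y ∈ V y := fun y => hη _ ⟨y.1, hyV y⟩
  have hcov : W ≤ ⨆ y : W, V y := fun z hz => Opens.mem_iSup.2 ⟨⟨z, hz⟩, hyV ⟨z, hz⟩⟩
  have hcompat : TopCat.Presheaf.IsCompatible Y.presheaf V t := by
    intro y y'
    have hmem : genericPoint Y ∈ V y ⊓ V y' := ⟨hηV y, hηV y'⟩
    apply germ_injective_of_isIntegral (X := Y) (genericPoint Y) hmem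
    rw [TopCat.Presheaf.germ_res_apply, TopCat.Presheaf.germ_res_apply, ht y (hηV y),
      ht y' (hηV y')]
  obtain ⟨b0, hb0', -⟩ := Y.sheaf.existsUnique_gluing' V W (fun y => homOfLE (hVW y)) hcov t hcompat
  let b : Γ(Y, W) := b0
  have hb : ∀ y : W, Y.presheaf.map (homOfLE (hVW y)).op b = t y := hb0'
  refine ⟨b, ?_⟩
  obtain ⟨⟨y₁, hy₁⟩⟩ := ‹Nonempty W›
  let y₀ : W := ⟨y₁, hy₁⟩
  have hb0 : Y.presheaf.map (homOfLE (hVW y₀)).op b = t y₀ := hb y₀
  have := ht y₀ (hηV y₀)
  rw [← hb0, TopCat.Presheaf.germ_res_apply] at this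
  exact this

theorem genericPoint_mem (W : Y.Opens) [Nonempty W] : genericPoint Y ∈ W :=
  ((genericPoint_spec Y).mem_open_set_iff W.isOpen).mpr (by simpa using ‹Nonempty W›)

theorem fromSpecStalk_preimage (W : Y.Opens) [Nonempty W] :
    (Y.fromSpecStalk (genericPoint Y)) ⁻¹ᵁ W = ⊤ := by
  rw [eq_top_iff]
  intro z _
  have h1 : (Y.fromSpecStalk (genericPoint Y)) z ∈ Set.range (Y.fromSpecStalk (genericPoint Y)) :=
    ⟨z, rfl⟩
  rw [Scheme.range_fromSpecStalk] at h1
  exact h1.mem_open W.isOpen (genericPoint_mem W)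

/-- The identification of the function field with the sections of `Spec K(Y)` over the preimage
of a nonempty open. -/
noncomputable def sectionsIso (W : Y.Opens) [Nonempty W] :
    Y.presheaf.stalk (genericPoint Y) ≅
      Γ(Spec (Y.presheaf.stalk (genericPoint Y)), (Y.fromSpecStalk (genericPoint Y)) ⁻¹ᵁ W) :=
  (Scheme.ΓSpecIso (Y.presheaf.stalk (genericPoint Y))).symm ≪≫
    (Spec (Y.presheaf.stalk (genericPoint Y))).presheaf.mapIso
      (eqToIso (fromSpecStalk_preimage W)).op

theorem fromSpecStalk_app_eq (W : Y.Opens) [Nonempty W] :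
    (Y.fromSpecStalk (genericPoint Y)).app W =
      Y.germToFunctionField W ≫ (sectionsIso W).hom := by
  rw [Scheme.fromSpecStalk_app (genericPoint_mem W)]
  congr 2

theorem fromSpecStalk_app_injective (W : Y.Opens) [Nonempty W] :
    Function.Injective ((Y.fromSpecStalk (genericPoint Y)).app W).hom := by
  rw [fromSpecStalk_app_eq, CommRingCat.hom_comp]
  exact (ConcreteCategory.bijective_of_isIso (sectionsIso W).hom).injective.comp
    (Y.germToFunctionField_injective W)

/-- Sections of a normal integral scheme over a nonempty open are integrally closed in the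
sections of `Spec K(Y)`. -/
theorem mem_range_fromSpecStalk_app_of_isIntegralElem
    (hY : ∀ y : Y, IsIntegrallyClosed (Y.presheaf.stalk y)) (W : Y.Opens) [Nonempty W]
    (z : Γ(Spec (Y.presheaf.stalk (genericPoint Y)), (Y.fromSpecStalk (genericPoint Y)) ⁻¹ᵁ W))
    (hz : ((Y.fromSpecStalk (genericPoint Y)).app W).hom.IsIntegralElem z) :
    z ∈ Set.range ((Y.fromSpecStalk (genericPoint Y)).app W).hom := by
  obtain ⟨p, hp, hpz⟩ := hz
  set e := (sectionsIso W) with he
  have hx : IsIntegral Γ(Y, W) (e.inv.hom z : Y.functionField) := by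
    refine ⟨p, hp, ?_⟩
    have h1 : (e.inv.hom).comp ((Y.fromSpecStalk (genericPoint Y)).app W).hom =
        (Y.germToFunctionField W).hom := by
      rw [fromSpecStalk_app_eq, ← CommRingCat.hom_comp, Category.assoc, Iso.hom_inv_id,
        Category.comp_id]
    have h2 := congrArg e.inv.hom hpz
    rw [Polynomial.hom_eval₂, map_zero, h1] at h2
    exact h2
  obtain ⟨b, hb⟩ := exists_section_of_isIntegral hY W _ hx
  refine ⟨b, ?_⟩
  rw [fromSpecStalk_app_eq, CommRingCat.hom_comp, RingHom.comp_apply]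
  erw [hb]
  exact congrArg (fun f => f.hom z) e.inv_hom_id

section Aux

variable {Y' : Scheme.{u}} (τ : Y ⟶ Y') (V' : Y'.Opens)

local notation "σ₀" => Scheme.fromSpecStalk Y (genericPoint Y)

theorem comp_app_injective [Nonempty (τ ⁻¹ᵁ V' : Y.Opens)]
    (hτ : Function.Injective (τ.app V').hom) :
    Function.Injective (τ.app V' ≫ (σ₀).app (τ ⁻¹ᵁ V')).hom := by
  rw [CommRingCat.hom_comp]
  exact (fromSpecStalk_app_injective (τ ⁻¹ᵁ V')).comp hτ

theorem comp_app_closed [Nonempty (τ ⁻¹ᵁ V' : Y.Opens)]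
    (hY : ∀ y : Y, IsIntegrallyClosed (Y.presheaf.stalk y))
    (z : Γ(Spec (Y.presheaf.stalk (genericPoint Y)), (σ₀) ⁻¹ᵁ (τ ⁻¹ᵁ V')))
    (hz : (τ.app V' ≫ (σ₀).app (τ ⁻¹ᵁ V')).hom.IsIntegralElem z) :
    ∃ b : Γ(Y, τ ⁻¹ᵁ V'), (τ.app V').hom.IsIntegralElem b ∧
      ∀ c, (τ.app V').hom c = b → (τ.app V' ≫ (σ₀).app (τ ⁻¹ᵁ V')).hom c = z := by
  obtain ⟨p, hp, hpz⟩ := hz
  rw [CommRingCat.hom_comp] at hpz
  have hz1 : ((σ₀).app (τ ⁻¹ᵁ V')).hom.IsIntegralElem z :=
    ⟨p.map (τ.app V').hom, hp.map _, by rw [Polynomial.eval₂_map]; exact hpz⟩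
  obtain ⟨b, hb⟩ := mem_range_fromSpecStalk_app_of_isIntegralElem hY (τ ⁻¹ᵁ V') z hz1
  refine ⟨b, ⟨p, hp, ?_⟩, ?_⟩
  · apply fromSpecStalk_app_injective (τ ⁻¹ᵁ V')
    rw [Polynomial.hom_eval₂, map_zero]
    erw [hb]
    exact hpz
  · intro c hc
    rw [CommRingCat.hom_comp, RingHom.comp_apply, hc]
    exact hb

end Aux

section Normalization

variable {X : Scheme.{u}} (f : Y ⟶ X) [QuasiCompact f] [QuasiSeparated f]

set_option backward.isDefEq.respectTransparency false in
/-- For `f : Y ⟶ X` quasi-compact and quasi-separated with `Y` integral and normal, the sections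
of the relative normalization over the preimage of an affine open of `X` inject into the sections
of `Spec K(Y)`, with integrally closed image. This is the hypothesis of the criterion
`Helper4.FEtNormal.isIso_desc` identifying `f.normalization` with the normalization of `X` in
`Spec K(Y)`. -/
theorem sections_closed (hY : ∀ y : Y, IsIntegrallyClosed (Y.presheaf.stalk y))
    (U : X.Opens) (hU : IsAffineOpen U) :
    Function.Injective ((Y.fromSpecStalk (genericPoint Y) ≫ f.toNormalization).app
        (f.fromNormalization ⁻¹ᵁ U)).hom ∧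
      ∀ z, ((Y.fromSpecStalk (genericPoint Y) ≫ f.toNormalization).app
          (f.fromNormalization ⁻¹ᵁ U)).hom.IsIntegralElem z →
        z ∈ Set.range ((Y.fromSpecStalk (genericPoint Y) ≫ f.toNormalization).app
          (f.fromNormalization ⁻¹ᵁ U)).hom := by
  set σ := Y.fromSpecStalk (genericPoint Y) with hσ
  set τ := f.toNormalization with hτ
  set π := f.fromNormalization with hπ
  set V' := π ⁻¹ᵁ U with hV'
  set W := τ ⁻¹ᵁ V' with hW
  let algAB := (f.app U).hom.toAlgebra
  have hWeq : f ⁻¹ᵁ U = W := by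
    rw [hW, hV', ← Scheme.Hom.comp_preimage, hτ, hπ, Scheme.Hom.toNormalization_fromNormalization]
  change Function.Injective (τ.app V' ≫ σ.app W).hom ∧
    ∀ z, (τ.app V' ≫ σ.app W).hom.IsIntegralElem z → z ∈ Set.range (τ.app V' ≫ σ.app W).hom
  -- description of `τ.app V'`
  set ε : Γ(Y, f ⁻¹ᵁ U) ≅ Γ(Y, W) := Y.presheaf.mapIso (eqToIso hWeq.symm).op with hεdef
  have hε : τ.app V' = (f.normalizationObjIso hU).hom ≫
      CommRingCat.ofHom (integralClosure Γ(X, U) Γ(Y, f ⁻¹ᵁ U)).val.toRingHom ≫ ε.hom :=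
    f.toNormalization_app_preimage ⟨U, hU⟩
  have hτinj : Function.Injective (τ.app V').hom := by
    rw [hε, CommRingCat.hom_comp, CommRingCat.hom_comp]
    refine ((ConcreteCategory.bijective_of_isIso ε.hom).injective.comp ?_).comp
      (ConcreteCategory.bijective_of_isIso (f.normalizationObjIso hU).hom).injective
    exact Subtype.val_injective
  -- compatibility of `f.app U` with `τ`, `π`
  have hfapp : f.app U ≫ ε.hom = π.app U ≫ τ.app V' :=
    (Scheme.Hom.congr_app f.toNormalization_fromNormalization U).symm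
  by_cases hne : Nonempty W
  · constructor
    · exact comp_app_injective τ V' hτinj
    · intro z hz
      obtain ⟨b, hb2, hbz⟩ := comp_app_closed τ V' hY z hz
      -- Step 3
      have hb3 : ((π.app U ≫ τ.app V')).hom.IsIntegralElem b := by
        let algAC : Algebra Γ(X, U) Γ(f.normalization, V') := (π.app U).hom.toAlgebra
        let algCB : Algebra Γ(f.normalization, V') Γ(Y, W) := (τ.app V').hom.toAlgebra
        let algAB' : Algebra Γ(X, U) Γ(Y, W) := ((π.app U ≫ τ.app V')).hom.toAlgebra
        have : IsScalarTower Γ(X, U) Γ(f.normalization, V') Γ(Y, W) :=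
          IsScalarTower.of_algebraMap_eq' rfl
        have : Algebra.IsIntegral Γ(X, U) Γ(f.normalization, V') :=
          ⟨π.isIntegral_app U hU⟩
        exact isIntegral_trans (R := Γ(X, U)) (A := Γ(f.normalization, V')) b hb2
      have hb4 : IsIntegral Γ(X, U) (ε.inv.hom b) := by
        obtain ⟨q, hq, hqb⟩ := hb3
        refine ⟨q, hq, ?_⟩
        have h2 := congrArg ε.inv.hom hqb
        rw [Polynomial.hom_eval₂, map_zero, ← hfapp] at h2
        have h3 : ε.inv.hom.comp (f.app U ≫ ε.hom).hom = (f.app U).hom := by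
          rw [← CommRingCat.hom_comp, Category.assoc, Iso.hom_inv_id, Category.comp_id]
        rw [h3] at h2
        exact h2
      -- Step 4
      let c : Γ(f.normalization, V') := (f.normalizationObjIso hU).inv.hom ⟨ε.inv.hom b, hb4⟩
      have hc : (τ.app V').hom c = b := by
        rw [hε]
        simp only [CommRingCat.hom_comp, RingHom.comp_apply, c]
        have h5 : (f.normalizationObjIso hU).hom.hom
            ((f.normalizationObjIso hU).inv.hom ⟨ε.inv.hom b, hb4⟩) = ⟨ε.inv.hom b, hb4⟩ :=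
          congrArg (fun k => k.hom ⟨ε.inv.hom b, hb4⟩) (f.normalizationObjIso hU).inv_hom_id
        erw [h5]
        exact congrArg (fun k => k.hom b) ε.inv_hom_id
      exact ⟨c, hbz c hc⟩
  · have hbot : W = ⊥ := by
      ext y
      simp only [TopologicalSpace.Opens.coe_bot, Set.mem_empty_iff_false, iff_false]
      exact fun hy => hne ⟨⟨y, hy⟩⟩
    have hsub : Subsingleton Γ(Y, W) := by rw [hbot]; infer_instance
    have hsub2 : Subsingleton Γ(Spec (Y.presheaf.stalk (genericPoint Y)), σ ⁻¹ᵁ W) :=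
      RingHom.codomain_trivial (σ.app W).hom
    have hsub3 : Subsingleton Γ(f.normalization, V') := hτinj.subsingleton
    exact ⟨Function.injective_of_subsingleton _, fun z _ => ⟨0, Subsingleton.elim _ _⟩⟩

end Normalization

end Groth.Agent.Lib.Seat85.NormInNormal
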