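import Mathlib
import Groth.Prelude.Def_W4bk4git07Quot
import Groth.Prelude.Def_Pi1
import Groth.Agent.Lib.Seat85NormInNormal

/-!
# Geometric quotients of normal schemes are normal (seat 72)

`isNormalScheme_of_isGeomQuot`: if `G` is flat over `S`, `X` is integral and normal and `φ : X ⟶ Y` is a
geometric quotient (in the sense of `GIT.IsGeomQuot`), then `Y` is normal. Uses helper85's
`Seat85.NormInNormal.exists_section_of_isIntegral`.
-/

set_option autoImplicit false
set_option maxSynthPendingDepth 3
set_option linter.style.haveILetI false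
set_option linter.unusedSectionVars false

universe u
open CategoryTheory MonoidalCategory CartesianMonoidalCategory AlgebraicGeometry

namespace Groth.Agent.Lib.Seat72.GeomQuotNormal

/-- a subring `A ⊆ B` of a domain `B` integrally closed in a field `K`, which is saturated under
division by its own nonzero elements, is integrally closed. -/
theorem isIntegrallyClosed_of_saturated {A B K : Type*} [CommRing A] [IsDomain A] [CommRing B]
    [Field K] (ι : A →+* B) (j : B →+* K) (hι : Function.Injective ι) (hj : Function.Injective j)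
    (hcl : ∀ x : K, j.IsIntegralElem x → x ∈ Set.range j)
    (hsat : ∀ (a b : A) (f : B), b ≠ 0 → ι b * f = ι a → f ∈ Set.range ι) :
    IsIntegrallyClosed A := by
  rw [isIntegrallyClosed_iff (FractionRing A)]
  intro x hx
  have hinj : Function.Injective (j.comp ι) := hj.comp hι
  let g : FractionRing A →+* K := IsFractionRing.lift hinj
  have hg : ∀ a : A, g (algebraMap A (FractionRing A) a) = j (ι a) := fun a =>
    IsFractionRing.lift_algebraMap hinj a
  obtain ⟨a, b, hb, rfl⟩ := IsFractionRing.div_surjective (A := A) x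
  have hb0 : b ≠ 0 := nonZeroDivisors.ne_zero hb
  -- integrality of `g x` over `B`
  have hint : j.IsIntegralElem (g (algebraMap A _ a / algebraMap A _ b)) := by
    obtain ⟨p, hp, hpx⟩ := hx
    refine ⟨p.map ι, hp.map ι, ?_⟩
    rw [Polynomial.eval₂_map]
    have h1 := congrArg g hpx
    rw [Polynomial.hom_eval₂, map_zero] at h1
    have h2 : g.comp (algebraMap A (FractionRing A)) = j.comp ι := RingHom.ext hg
    rw [h2] at h1
    exact h1
  obtain ⟨f, hf⟩ := hcl _ hint
  have hjb : j (ι b) ≠ 0 := by
    rw [Ne, ← map_zero j, hj.eq_iff, ← map_zero ι, hι.eq_iff]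
    exact hb0
  have h3 : ι b * f = ι a := by
    apply hj
    rw [map_mul, hf, map_div₀, hg, hg, mul_div_cancel₀ _ hjb]
  obtain ⟨c, rfl⟩ := hsat a b f hb0 h3
  refine ⟨c, ?_⟩
  have h4 : b * c = a := hι (by rw [map_mul]; exact h3)
  rw [← h4, map_mul]
  have : algebraMap A (FractionRing A) b ≠ 0 := by
    rw [Ne, map_eq_zero_iff _ (IsFractionRing.injective A (FractionRing A))]
    exact hb0
  field_simp

/-- pulling back a nonzero section of an integral scheme along a flat morphism gives a
nonzerodivisor on every open of the source. -/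
theorem eq_zero_of_appLE_mul_eq_zero {P X : Scheme.{u}} (p : P ⟶ X) [Flat p] [IsIntegral X]
    (V : X.Opens) (b : Γ(X, V)) (hb : b ≠ 0) (W : P.Opens) (hW : W ≤ p ⁻¹ᵁ V) (t : Γ(P, W))
    (ht : p.appLE V W hW b * t = 0) : t = 0 := by
  refine TopCat.Presheaf.section_ext P.sheaf W _ _ (fun x hx => ?_)
  show P.presheaf.germ W x hx t = P.presheaf.germ W x hx 0
  rw [map_zero]
  have hpx : p x ∈ V := hW hx
  -- germ of `b` is a nonzerodivisor
  have hgb : X.presheaf.germ V (p x) hpx b ≠ 0 := by
    intro h0
    exact hb (germ_injective_of_isIntegral X (p x) hpx (h0.trans (map_zero _).symm))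
  have hflat := Flat.stalkMap p x
  letI := (p.stalkMap x).hom.toAlgebra
  haveI : Module.Flat (X.presheaf.stalk (p x)) (P.presheaf.stalk x) := hflat
  have hreg : IsSMulRegular (X.presheaf.stalk (p x)) (X.presheaf.germ V (p x) hpx b) :=
    (IsRegular.of_ne_zero hgb).isSMulRegular
  have hreg' := IsSMulRegular.of_flat (S := P.presheaf.stalk x) hreg
  -- germ of the product
  have h1 : P.presheaf.germ W x hx (p.appLE V W hW b) =
      (p.stalkMap x).hom (X.presheaf.germ V (p x) hpx b) := by
    have e1 := Scheme.Hom.germ_stalkMap_apply p V x hpx b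
    refine Eq.trans ?_ e1.symm
    rw [Scheme.Hom.appLE, CommRingCat.comp_apply]
    exact TopCat.Presheaf.germ_res_apply _ _ _ _ _
  have h2 := congrArg (P.presheaf.germ W x hx) ht
  rw [map_mul, map_zero, h1] at h2
  exact hreg' (by
    show (p.stalkMap x).hom (X.presheaf.germ V (p x) hpx b) • _ = _ • (0 : P.presheaf.stalk x)
    rw [smul_zero]
    exact h2)

/-- **A geometric quotient of a normal integral scheme by a flat group scheme is normal.** -/
theorem isNormalScheme_of_isGeomQuot {S : Scheme.{u}} {G : Over S} [GrpObj G] {X Y : Over S}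
    [Flat G.hom] [IsIntegral X.left] (hX : Pi1.IsNormalScheme X.left)
    (a : AlgGrp.Action G X) (φ : X ⟶ Y) (h : GIT.IsGeomQuot a φ) :
    Pi1.IsNormalScheme Y.left := by
  intro y
  obtain ⟨_, ⟨U, hU, rfl⟩, hyU, -⟩ := Y.left.isBasis_affineOpens.exists_subset_of_mem_open
    (Set.mem_univ y) isOpen_univ
  obtain ⟨x, hx⟩ := h.surj y
  let W : X.left.Opens := φ.left ⁻¹ᵁ U
  haveI : Nonempty W := ⟨⟨x, by show φ.left x ∈ U; rw [hx]; exact hyU⟩⟩
  let ι : Γ(Y.left, U) →+* Γ(X.left, W) := (φ.left.app U).hom
  have hι : Function.Injective ι := (h.sections U).1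
  haveI : IsDomain Γ(Y.left, U) := hι.isDomain ι
  haveI : Flat (snd G X).left := by
    show Flat (Limits.pullback.snd G.hom X.hom)
    infer_instance
  haveI : IsIntegrallyClosed Γ(Y.left, U) := by
    refine isIntegrallyClosed_of_saturated ι (X.left.germToFunctionField W).hom hι
      (X.left.germToFunctionField_injective W) ?_ ?_
    · intro z hz
      obtain ⟨b, hb⟩ := Groth.Agent.Lib.Seat85.NormInNormal.exists_section_of_isIntegral
        (fun x => (hX x).2) W z hz
      exact ⟨b, hb⟩
    · intro a' b' f hb' hf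
      have hinv : ∀ c : Γ(Y.left, U), GIT.IsInvSection a φ U (ι c) := fun c => by
        have : ι c ∈ {f | GIT.IsInvSection a φ U f} := by
          rw [← (h.sections U).2]
          exact ⟨c, rfl⟩
        exact this
      have ha := hinv a'
      have hb := hinv b'
      unfold GIT.IsInvSection at ha hb
      have hfinv : GIT.IsInvSection a φ U f := by
        unfold GIT.IsInvSection
        set s := a.act.left.appLE W (a.act.left ⁻¹ᵁ W ⊓ (snd G X).left ⁻¹ᵁ W) inf_le_left with hs
        set pp := (snd G X).left.appLE W (a.act.left ⁻¹ᵁ W ⊓ (snd G X).left ⁻¹ᵁ W) inf_le_right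
          with hpp
        have h1 : s (ι b') * s f = s (ι a') := by rw [← map_mul, hf]
        have h2 : pp (ι b') * pp f = pp (ι a') := by rw [← map_mul, hf]
        have h3 : pp (ι b') * (s f - pp f) = 0 := by
          rw [mul_sub, h2, ← hb, h1, ha, sub_self]
        have hne : ι b' ≠ 0 := by
          rw [Ne, ← map_zero ι, hι.eq_iff]
          exact hb'
        have h4 := eq_zero_of_appLE_mul_eq_zero (snd G X).left W (ι b') hne _ inf_le_right _ h3
        exact sub_eq_zero.1 h4
      have : f ∈ {f | GIT.IsInvSection a φ U f} := hfinv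
      rw [← (h.sections U).2] at this
      exact this
  letI : Algebra Γ(Y.left, U) (Y.left.presheaf.stalk y) :=
    TopCat.Presheaf.algebra_section_stalk Y.left.presheaf ⟨y, hyU⟩
  haveI := hU.isLocalization_stalk ⟨y, hyU⟩
  exact ⟨IsLocalization.isDomain_of_atPrime _ (hU.primeIdealOf ⟨y, hyU⟩).asIdeal,
    isIntegrallyClosed_of_isLocalization _ (hU.primeIdealOf ⟨y, hyU⟩).asIdeal.primeCompl
      (Ideal.primeCompl_le_nonZeroDivisors _)⟩

end Groth.Agent.Lib.Seat72.GeomQuotNormal
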