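import Mathlib.FieldTheory.Finite.Basic
import Mathlib.RingTheory.Smooth.Basic
import Mathlib.RingTheory.RingHom.Smooth
import Mathlib.Algebra.MvPolynomial.CommRing
import Mathlib.RingTheory.Localization.Away.Basic
import Mathlib.RingTheory.Ideal.Quotient.Operations
import Mathlib.RingTheory.Ideal.Quotient.PowTransition

/-!
# Helper computations for S15555 (the hypersurface `Σ (X_i Y_i^q - Y_i X_i^q)` over `𝔽_q`)

All the algebra takes place in a commutative `k`-algebra `B` (`k` a finite field with `q` elements)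
with an element `τ` such that `τ ^ (q + 2) = 0`.
-/

set_option autoImplicit false
set_option maxSynthPendingDepth 3

namespace Groth.Agent.Lib.Seat72.Hyp

open MvPolynomial

variable {k : Type*} [Field k] [Fintype k]

/-- Frobenius additivity for `q = card k` in a commutative `k`-algebra. -/
theorem add_pow_card {B : Type*} [CommRing B] [Algebra k B] (x y : B) :
    (x + y) ^ Fintype.card k = x ^ Fintype.card k + y ^ Fintype.card k := by
  obtain ⟨p, hp, e, hprime, hq⟩ := FiniteField.card' k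
  cases subsingleton_or_nontrivial B with
  | inl h => exact Subsingleton.elim _ _
  | inr h =>
    have : Fact p.Prime := ⟨hprime⟩
    have : CharP B p := charP_of_injective_algebraMap (algebraMap k B).injective p
    rw [hq]; exact add_pow_char_pow x y p e

/-- Frobenius additivity for finite sums. -/
theorem sum_pow_card {B : Type*} [CommRing B] [Algebra k B] {ι : Type*} (s : Finset ι)
    (f : ι → B) :
    (∑ i ∈ s, f i) ^ Fintype.card k = ∑ i ∈ s, f i ^ Fintype.card k := by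
  classical
  induction s using Finset.induction_on with
  | empty =>
    have : Fintype.card k ≠ 0 := Fintype.card_ne_zero
    simp [this]
  | insert a s ha ih => rw [Finset.sum_insert ha, Finset.sum_insert ha, add_pow_card, ih]

theorem algebraMap_pow_card {B : Type*} [CommRing B] [Algebra k B] (a : k) :
    (algebraMap k B a) ^ Fintype.card k = algebraMap k B a := by
  rw [← map_pow, FiniteField.pow_card]

theorem two_le_card : 2 ≤ Fintype.card k := Fintype.one_lt_card

/-- The basic summand computation. -/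
theorem summand {B : Type*} [CommRing B] [Algebra k B] (τ : B)
    (hτ : τ ^ (Fintype.card k + 2) = 0) (a b v v' μ μ' : B)
    (ha : a ^ Fintype.card k = a) (hb : b ^ Fintype.card k = b) :
    (a + τ * v + τ ^ (Fintype.card k + 1) * μ) *
        (b + τ * v' + τ ^ (Fintype.card k + 1) * μ') ^ Fintype.card k -
      (b + τ * v' + τ ^ (Fintype.card k + 1) * μ') *
        (a + τ * v + τ ^ (Fintype.card k + 1) * μ) ^ Fintype.card k =
      τ * (v * b - v' * a) + τ ^ Fintype.card k * (a * v' ^ Fintype.card k - b * v ^ Fintype.card k) +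
        τ ^ (Fintype.card k + 1) *
          (v * v' ^ Fintype.card k - v' * v ^ Fintype.card k + (μ * b - μ' * a)) := by
  have h2 : 2 ≤ Fintype.card k := two_le_card
  generalize hq : Fintype.card k = q at *
  obtain ⟨m, rfl⟩ : ∃ m, q = m + 2 := ⟨q - 2, by omega⟩
  have e1 : (b + τ * v' + τ ^ (m + 2 + 1) * μ') ^ (m + 2) =
      b + τ ^ (m + 2) * v' ^ (m + 2) + τ ^ ((m + 2 + 1) * (m + 2)) * μ' ^ (m + 2) := by
    have := add_pow_card (k := k) (b + τ * v') (τ ^ (m + 2 + 1) * μ')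
    have h' := add_pow_card (k := k) b (τ * v')
    rw [hq] at this h'
    rw [this, h', hb, mul_pow, mul_pow, ← pow_mul]
  have e2 : (a + τ * v + τ ^ (m + 2 + 1) * μ) ^ (m + 2) =
      a + τ ^ (m + 2) * v ^ (m + 2) + τ ^ ((m + 2 + 1) * (m + 2)) * μ ^ (m + 2) := by
    have := add_pow_card (k := k) (a + τ * v) (τ ^ (m + 2 + 1) * μ)
    have h' := add_pow_card (k := k) a (τ * v)
    rw [hq] at this h'
    rw [this, h', ha, mul_pow, mul_pow, ← pow_mul]
  rw [e1, e2]
  have h1 : τ ^ (2 * m + 5) = 0 := by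
    have : τ ^ (2 * m + 5) = τ ^ (m + 2 + 2) * τ ^ (m + 1) := by ring
    rw [this, hτ, zero_mul]
  have h3 : τ ^ ((m + 2 + 1) * (m + 2)) = 0 := by
    have : τ ^ ((m + 2 + 1) * (m + 2)) = τ ^ (m + 2 + 2) * τ ^ (m * m + 4 * m + 2) := by ring
    rw [this, hτ, zero_mul]
  rw [h3]
  linear_combination (μ * v' ^ (m + 2) - μ' * v ^ (m + 2)) * h1

variable {ι : Type*} [Fintype ι]

/-- The point `P = (-c_Y, c_X)`. -/
def pt (c : ι ⊕ ι → k) : ι ⊕ ι → k :=
  Sum.elim (fun i => - c (Sum.inr i)) (fun i => c (Sum.inl i))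

/-- The form `F = Σ (X_i Y_i^q - Y_i X_i^q)`. -/
noncomputable def Fpoly (k : Type*) [Field k] [Fintype k] (ι : Type*) [Fintype ι] :
    MvPolynomial (ι ⊕ ι) k :=
  ∑ i : ι, (X (Sum.inl i) * X (Sum.inr i) ^ Fintype.card k -
    X (Sum.inr i) * X (Sum.inl i) ^ Fintype.card k)

/-- The linear form `L = Σ c_w x_w`. -/
noncomputable def Lpoly (c : ι ⊕ ι → k) : MvPolynomial (ι ⊕ ι) k :=
  ∑ w, C (c w) * X w

/-- The value of the form on a vector. -/
def Fval {B : Type*} [CommRing B] (q : ℕ) (v : ι ⊕ ι → B) : B :=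
  ∑ i : ι, (v (Sum.inl i) * v (Sum.inr i) ^ q - v (Sum.inr i) * v (Sum.inl i) ^ q)

theorem aeval_Fpoly {B : Type*} [CommRing B] [Algebra k B] (c : ι ⊕ ι → k) (τ : B)
    (hτ : τ ^ (Fintype.card k + 2) = 0) (v μ : ι ⊕ ι → B) (hv : ∑ w, c w • v w = 0) :
    aeval (fun w => algebraMap k B (pt c w) + τ * v w + τ ^ (Fintype.card k + 1) * μ w)
        (Fpoly k ι) =
      τ ^ (Fintype.card k + 1) * (Fval (Fintype.card k) v + ∑ w, c w • μ w) := by
  simp only [Fpoly, Fval, map_sum, map_sub, map_mul, map_pow, aeval_X, pt, Sum.elim_inl,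
    Sum.elim_inr]
  have hsum : ∀ i : ι, _ = _ := fun i =>
    summand (k := k) τ hτ (algebraMap k B (- c (Sum.inr i))) (algebraMap k B (c (Sum.inl i)))
      (v (Sum.inl i)) (v (Sum.inr i)) (μ (Sum.inl i)) (μ (Sum.inr i))
      (algebraMap_pow_card _) (algebraMap_pow_card _)
  rw [Finset.sum_congr rfl (fun i _ => hsum i)]
  rw [Finset.sum_add_distrib, Finset.sum_add_distrib, ← Finset.mul_sum, ← Finset.mul_sum,
    ← Finset.mul_sum]
  have hv' : ∑ i : ι, (c (Sum.inl i) • v (Sum.inl i) + c (Sum.inr i) • v (Sum.inr i)) = 0 := by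
    rw [← hv, Fintype.sum_sum_type, Finset.sum_add_distrib]
  have s1 : ∑ i : ι, (v (Sum.inl i) * algebraMap k B (c (Sum.inl i)) -
      v (Sum.inr i) * algebraMap k B (- c (Sum.inr i))) = 0 := by
    rw [← hv']
    refine Finset.sum_congr rfl fun i _ => ?_
    simp only [Algebra.smul_def, map_neg]
    ring
  have s2 : ∑ i : ι, (algebraMap k B (- c (Sum.inr i)) * v (Sum.inr i) ^ Fintype.card k -
      algebraMap k B (c (Sum.inl i)) * v (Sum.inl i) ^ Fintype.card k) = 0 := by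
    have h0 : (∑ w, c w • v w) ^ Fintype.card k = 0 := by
      rw [hv, zero_pow Fintype.card_ne_zero]
    rw [sum_pow_card, Fintype.sum_sum_type] at h0
    have : ∑ i : ι, (algebraMap k B (- c (Sum.inr i)) * v (Sum.inr i) ^ Fintype.card k -
        algebraMap k B (c (Sum.inl i)) * v (Sum.inl i) ^ Fintype.card k) =
        - (∑ i : ι, (c (Sum.inl i) • v (Sum.inl i)) ^ Fintype.card k +
          ∑ i : ι, (c (Sum.inr i) • v (Sum.inr i)) ^ Fintype.card k) := by
      rw [← Finset.sum_add_distrib, ← Finset.sum_neg_distrib]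
      refine Finset.sum_congr rfl fun i _ => ?_
      simp only [Algebra.smul_def, map_neg, mul_pow, algebraMap_pow_card]
      ring
    rw [this, h0, neg_zero]
  have s3 : ∑ i : ι, (μ (Sum.inl i) * algebraMap k B (c (Sum.inl i)) -
      μ (Sum.inr i) * algebraMap k B (- c (Sum.inr i))) = ∑ w, c w • μ w := by
    rw [Fintype.sum_sum_type, ← Finset.sum_add_distrib]
    refine Finset.sum_congr rfl fun i _ => ?_
    simp only [Algebra.smul_def, map_neg]
    ring
  rw [s1, s2, Finset.sum_add_distrib, s3, mul_zero, mul_zero, zero_add, zero_add]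

theorem aeval_Lpoly {B : Type*} [CommRing B] [Algebra k B] (c : ι ⊕ ι → k) (τ : B)
    (v μ : ι ⊕ ι → B) (hv : ∑ w, c w • v w = 0) :
    aeval (fun w => algebraMap k B (pt c w) + τ * v w + τ ^ (Fintype.card k + 1) * μ w)
        (Lpoly c) =
      τ ^ (Fintype.card k + 1) * ∑ w, c w • μ w := by
  simp only [Lpoly, map_sum, map_mul, aeval_C, aeval_X]
  have h0 : ∑ w, algebraMap k B (c w) * algebraMap k B (pt c w) = 0 := by
    rw [Fintype.sum_sum_type, ← Finset.sum_add_distrib]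
    refine Finset.sum_eq_zero fun i _ => ?_
    simp only [pt, Sum.elim_inl, Sum.elim_inr, map_neg]
    ring
  have h1 : ∑ w, algebraMap k B (c w) * (τ * v w) = 0 := by
    have : ∑ w, algebraMap k B (c w) * (τ * v w) = τ * ∑ w, c w • v w := by
      rw [Finset.mul_sum]
      refine Finset.sum_congr rfl fun w _ => ?_
      rw [Algebra.smul_def]; ring
    rw [this, hv, mul_zero]
  have h2 : ∑ w, algebraMap k B (c w) * (τ ^ (Fintype.card k + 1) * μ w) =
      τ ^ (Fintype.card k + 1) * ∑ w, c w • μ w := by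
    rw [Finset.mul_sum]
    refine Finset.sum_congr rfl fun w _ => ?_
    rw [Algebra.smul_def]; ring
  simp only [mul_add, Finset.sum_add_distrib, h0, h1, h2, zero_add]

theorem exists_vec [DecidableEq ι] [Nontrivial ι] (c : ι ⊕ ι → k) (hc : c ≠ 0) :
    ∃ v : ι ⊕ ι → Polynomial k, ∑ w, c w • v w = 0 ∧ Fval (Fintype.card k) v ≠ 0 := by
  obtain ⟨w₀, hw₀⟩ := Function.ne_iff.mp hc
  simp only [Pi.zero_apply] at hw₀
  obtain ⟨i₀, hi₀⟩ : ∃ i₀ : ι, w₀ = Sum.inl i₀ ∨ w₀ = Sum.inr i₀ := by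
    cases w₀ with
    | inl i => exact ⟨i, Or.inl rfl⟩
    | inr i => exact ⟨i, Or.inr rfl⟩
  obtain ⟨j, hj⟩ := exists_ne i₀
  let r : Polynomial k := - Polynomial.C (c w₀)⁻¹ *
    (Polynomial.C (c (Sum.inl j)) + Polynomial.C (c (Sum.inr j)) * Polynomial.X)
  have hq0 : Fintype.card k ≠ 0 := Fintype.card_ne_zero
  refine ⟨Pi.single (Sum.inl j) 1 + Pi.single (Sum.inr j) Polynomial.X + Pi.single w₀ r, ?_, ?_⟩
  · have key : Polynomial.C (c w₀) * Polynomial.C (c w₀)⁻¹ = 1 := by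
      rw [← Polynomial.C_mul, mul_inv_cancel₀ hw₀, Polynomial.C_1]
    simp only [Pi.add_apply, Pi.single_apply, smul_add, Finset.sum_add_distrib, smul_ite,
      smul_zero, Finset.sum_ite_eq', Finset.mem_univ, if_true, Polynomial.smul_eq_C_mul]
    simp only [r]
    linear_combination (-(Polynomial.C (c (Sum.inl j)) +
      Polynomial.C (c (Sum.inr j)) * Polynomial.X)) * key
  · have hterm : ∀ i : ι, i ≠ j →
        (Pi.single (Sum.inl j) 1 + Pi.single (Sum.inr j) Polynomial.X + Pi.single w₀ r :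
            ι ⊕ ι → Polynomial k) (Sum.inl i) *
          (Pi.single (Sum.inl j) 1 + Pi.single (Sum.inr j) Polynomial.X + Pi.single w₀ r :
            ι ⊕ ι → Polynomial k) (Sum.inr i) ^ Fintype.card k -
        (Pi.single (Sum.inl j) 1 + Pi.single (Sum.inr j) Polynomial.X + Pi.single w₀ r :
            ι ⊕ ι → Polynomial k) (Sum.inr i) *
          (Pi.single (Sum.inl j) 1 + Pi.single (Sum.inr j) Polynomial.X + Pi.single w₀ r :
            ι ⊕ ι → Polynomial k) (Sum.inl i) ^ Fintype.card k = 0 := by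
      intro i hij
      have hij' : j ≠ i := fun h => hij h.symm
      rcases hi₀ with h | h
      · subst h
        simp [Pi.single_apply, hij', hq0]
      · subst h
        simp [Pi.single_apply, hij', hq0]
    have hj' : j ≠ i₀ := hj
    rw [Fval, Finset.sum_eq_single j (fun i _ hij => hterm i hij) (fun h => absurd (Finset.mem_univ j) h)]
    have hne : (Polynomial.X ^ Fintype.card k - Polynomial.X : Polynomial k) ≠ 0 :=
      FiniteField.X_pow_card_sub_X_ne_zero k Fintype.one_lt_card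
    rcases hi₀ with h | h
    · subst h
      simpa [Pi.single_apply, hj'.symm, hj', hq0] using hne
    · subst h
      simpa [Pi.single_apply, hj'.symm, hj', hq0] using hne

/-- The ring `k[s][t]`. -/
abbrev TT (k : Type*) [Field k] : Type _ := Polynomial (Polynomial k)

/-- The ideal `(t ^ m)` of `k[s][t]`. -/
noncomputable abbrev Ipow (k : Type*) [Field k] (m : ℕ) : Ideal (TT k) := Ideal.span {(Polynomial.X : TT k) ^ m}

theorem Ipow_le (k : Type*) [Field k] {m m' : ℕ} (h : m ≤ m') : Ipow k m' ≤ Ipow k m := by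
  rw [Ideal.span_singleton_le_span_singleton]; exact pow_dvd_pow _ h

theorem ker_factor_nilpotent (k : Type*) [Field k] (m : ℕ) :
    IsNilpotent (RingHom.ker
      ((Ideal.Quotient.factorₐ k (Ipow_le k (Nat.le_succ (m + 1))) :
        TT k ⧸ Ipow k (m + 2) →ₐ[k] TT k ⧸ Ipow k (m + 1)) :
        TT k ⧸ Ipow k (m + 2) →+* TT k ⧸ Ipow k (m + 1))) := by
  refine ⟨2, ?_⟩
  have : RingHom.ker
      ((Ideal.Quotient.factorₐ k (Ipow_le k (Nat.le_succ (m + 1))) :
        TT k ⧸ Ipow k (m + 2) →ₐ[k] TT k ⧸ Ipow k (m + 1)) :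
        TT k ⧸ Ipow k (m + 2) →+* TT k ⧸ Ipow k (m + 1)) =
      Ideal.map (Ideal.Quotient.mk (Ipow k (m + 2))) (Ipow k (m + 1)) :=
    Ideal.Quotient.factor_ker (Ipow_le k (Nat.le_succ (m + 1)))
  rw [this, ← Ideal.map_pow, Ideal.zero_eq_bot]
  apply Ideal.map_mk_eq_bot_of_le
  simp only [Ipow, Ideal.span_singleton_pow, Ideal.span_singleton_le_span_singleton]
  rw [← pow_mul]
  exact pow_dvd_pow _ (by omega)

theorem not_formallySmooth [DecidableEq ι] [Nontrivial ι] (c : ι ⊕ ι → k) (hc : c ≠ 0)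
    (w : ι ⊕ ι) (hw : pt c w ≠ 0) :
    ¬ Algebra.FormallySmooth k
      (Localization.Away (Ideal.Quotient.mk (Ideal.span {Fpoly k ι, Lpoly c}) (X w))) := by
  intro hfs
  obtain ⟨v, hv, hFv⟩ := exists_vec c hc
  generalize hq : Fintype.card k = q at hFv
  have hI : Ipow k (q + 2) ≤ Ipow k (q + 1) := Ipow_le k (Nat.le_succ (q + 1))
  have hg : Function.Surjective
      (Ideal.Quotient.factorₐ k hI : TT k ⧸ Ipow k (q + 2) →ₐ[k] TT k ⧸ Ipow k (q + 1)) :=
    Ideal.Quotient.factor_surjective hI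
  have hgker := ker_factor_nilpotent k q
  -- the two coefficient maps
  have hτ₁' : (Ideal.Quotient.mk (Ipow k (q + 1)) Polynomial.X) ^ (q + 1) = 0 := by
    rw [← map_pow]
    exact Ideal.Quotient.eq_zero_iff_mem.mpr (Ideal.subset_span rfl)
  have hτ₁ : (Ideal.Quotient.mk (Ipow k (q + 1)) Polynomial.X) ^ (q + 2) = 0 := by
    rw [pow_succ, hτ₁', zero_mul]
  have hτ₂ : (Ideal.Quotient.mk (Ipow k (q + 2)) Polynomial.X) ^ (q + 2) = 0 := by
    rw [← map_pow]
    exact Ideal.Quotient.eq_zero_iff_mem.mpr (Ideal.subset_span rfl)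
  have hv₁ : ∑ w, c w • ((Ideal.Quotient.mkₐ k (Ipow k (q + 1))).comp Polynomial.CAlgHom) (v w) = 0 := by
    have := congrArg ((Ideal.Quotient.mkₐ k (Ipow k (q + 1))).comp Polynomial.CAlgHom) hv
    rw [map_sum, map_zero] at this
    simpa only [map_smul] using this
  have hv₂ : ∑ w, c w • ((Ideal.Quotient.mkₐ k (Ipow k (q + 2))).comp Polynomial.CAlgHom) (v w) = 0 := by
    have := congrArg ((Ideal.Quotient.mkₐ k (Ipow k (q + 2))).comp Polynomial.CAlgHom) hv
    rw [map_sum, map_zero] at this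
    simpa only [map_smul] using this
  -- abbreviations
  set φ₁ : Polynomial k →ₐ[k] TT k ⧸ Ipow k (q + 1) :=
    (Ideal.Quotient.mkₐ k (Ipow k (q + 1))).comp Polynomial.CAlgHom with hφ₁
  set φ₂ : Polynomial k →ₐ[k] TT k ⧸ Ipow k (q + 2) :=
    (Ideal.Quotient.mkₐ k (Ipow k (q + 2))).comp Polynomial.CAlgHom with hφ₂
  set τ₁ : TT k ⧸ Ipow k (q + 1) := Ideal.Quotient.mk (Ipow k (q + 1)) Polynomial.X with hτ₁def
  set τ₂ : TT k ⧸ Ipow k (q + 2) := Ideal.Quotient.mk (Ipow k (q + 2)) Polynomial.X with hτ₂def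
  set g : TT k ⧸ Ipow k (q + 2) →ₐ[k] TT k ⧸ Ipow k (q + 1) := Ideal.Quotient.factorₐ k hI with hgdef
  -- the map to the first thickening
  set Q₁ : ι ⊕ ι → TT k ⧸ Ipow k (q + 1) := fun w' =>
    algebraMap k (TT k ⧸ Ipow k (q + 1)) (pt c w') + τ₁ * φ₁ (v w') + τ₁ ^ (q + 1) * 0 with hQ₁
  set f₀ : MvPolynomial (ι ⊕ ι) k →ₐ[k] TT k ⧸ Ipow k (q + 1) := aeval Q₁ with hf₀
  have hf₀F : f₀ (Fpoly k ι) = 0 := by
    have := aeval_Fpoly (k := k) c τ₁ (hq ▸ hτ₁) (fun w' => φ₁ (v w')) (fun _ => 0) hv₁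
    rw [hq] at this
    rw [hf₀, hQ₁, this, hτ₁', zero_mul]
  have hf₀L : f₀ (Lpoly c) = 0 := by
    have := aeval_Lpoly (k := k) c τ₁ (fun w' => φ₁ (v w')) (fun _ => 0) hv₁
    rw [hq] at this
    rw [hf₀, hQ₁, this, hτ₁', zero_mul]
  set J : Ideal (MvPolynomial (ι ⊕ ι) k) := Ideal.span {Fpoly k ι, Lpoly c} with hJdef
  have hJ : ∀ a ∈ J, f₀ a = 0 := by
    intro a ha
    have hle : J ≤ RingHom.ker (f₀ : MvPolynomial (ι ⊕ ι) k →+* TT k ⧸ Ipow k (q + 1)) := by
      rw [hJdef, Ideal.span_le]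
      rintro _ (rfl | rfl)
      · exact hf₀F
      · exact hf₀L
    exact hle ha
  set f₁ : MvPolynomial (ι ⊕ ι) k ⧸ J →ₐ[k] TT k ⧸ Ipow k (q + 1) :=
    Ideal.Quotient.liftₐ J f₀ hJ with hf₁
  have hf₁mk : ∀ a, f₁ (Ideal.Quotient.mk J a) = f₀ a := fun a => rfl
  have hunit : ∀ y : Submonoid.powers (Ideal.Quotient.mk J (X w)), IsUnit (f₁ y) := by
    rintro ⟨_, n, rfl⟩
    rw [map_pow]
    refine IsUnit.pow n ?_
    rw [hf₁mk, hf₀, aeval_X, hQ₁]
    simp only [mul_zero, add_zero]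
    refine IsNilpotent.isUnit_add_left_of_commute ?_ ((IsUnit.mk0 _ hw).map _) (Commute.all _ _)
    exact (Commute.all _ _).isNilpotent_mul_right ⟨q + 1, hτ₁'⟩
  set f : Localization.Away (Ideal.Quotient.mk J (X w)) →ₐ[k] TT k ⧸ Ipow k (q + 1) :=
    IsLocalization.liftAlgHom (M := Submonoid.powers (Ideal.Quotient.mk J (X w))) (f := f₁) hunit
    with hfdef
  set ψ : Localization.Away (Ideal.Quotient.mk J (X w)) →ₐ[k] TT k ⧸ Ipow k (q + 2) :=
    Algebra.FormallySmooth.liftOfSurjective f g hg hgker with hψdef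
  have hψ : ∀ x, g (ψ x) = f x := Algebra.FormallySmooth.liftOfSurjective_apply f g hg hgker
  set incl : MvPolynomial (ι ⊕ ι) k →ₐ[k] Localization.Away (Ideal.Quotient.mk J (X w)) :=
    (IsScalarTower.toAlgHom k (MvPolynomial (ι ⊕ ι) k ⧸ J) _).comp (Ideal.Quotient.mkₐ k J)
    with hincl
  have hfincl : ∀ a, f (incl a) = f₀ a := by
    intro a
    rw [hincl, hfdef, AlgHom.comp_apply, IsScalarTower.coe_toAlgHom', Ideal.Quotient.mkₐ_eq_mk,
      IsLocalization.liftAlgHom_apply, IsLocalization.lift_eq]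
    exact hf₁mk a
  have hinclJ : ∀ a ∈ J, incl a = 0 := by
    intro a ha
    rw [hincl, AlgHom.comp_apply, Ideal.Quotient.mkₐ_eq_mk,
      Ideal.Quotient.eq_zero_iff_mem.mpr ha, map_zero]
  -- representatives of the lift
  have hrep : ∀ w' : ι ⊕ ι, ∃ u : TT k, ψ (incl (X w')) =
      algebraMap k (TT k ⧸ Ipow k (q + 2)) (pt c w') + τ₂ * φ₂ (v w') +
        τ₂ ^ (q + 1) * Ideal.Quotient.mk (Ipow k (q + 2)) u := by
    intro w'
    obtain ⟨r, hr⟩ := Ideal.Quotient.mk_surjective (ψ (incl (X w')))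
    have h1 : Ideal.Quotient.mk (Ipow k (q + 1)) r = Q₁ w' := by
      have := hψ (incl (X w'))
      rw [hfincl, ← hr, hf₀, aeval_X] at this
      rw [← this]
      rfl
    have h2 : r - (algebraMap k (TT k) (pt c w') + Polynomial.X * Polynomial.C (v w')) ∈
        Ipow k (q + 1) := by
      rw [← Ideal.Quotient.eq, h1, hQ₁]
      simp only [mul_zero, add_zero, map_add, map_mul]
      rfl
    obtain ⟨u, hu⟩ := Ideal.mem_span_singleton.mp h2
    refine ⟨u, ?_⟩
    rw [← hr]
    have : r = algebraMap k (TT k) (pt c w') + Polynomial.X * Polynomial.C (v w') +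
        Polynomial.X ^ (q + 1) * u := by rw [← hu]; ring
    rw [this]
    simp only [map_add, map_mul, map_pow]
    rfl
  choose u hu using hrep
  have hcomp : ψ.comp incl = aeval (fun w' => algebraMap k (TT k ⧸ Ipow k (q + 2)) (pt c w') +
      τ₂ * φ₂ (v w') + τ₂ ^ (q + 1) * Ideal.Quotient.mk (Ipow k (q + 2)) (u w')) := by
    apply MvPolynomial.algHom_ext
    intro w'
    rw [AlgHom.comp_apply, hu, aeval_X]
  have hF2 := aeval_Fpoly (k := k) c τ₂ (hq ▸ hτ₂) (fun w' => φ₂ (v w'))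
    (fun w' => Ideal.Quotient.mk (Ipow k (q + 2)) (u w')) hv₂
  have hL2 := aeval_Lpoly (k := k) c τ₂ (fun w' => φ₂ (v w'))
    (fun w' => Ideal.Quotient.mk (Ipow k (q + 2)) (u w')) hv₂
  rw [hq] at hF2 hL2
  rw [← hcomp, AlgHom.comp_apply, hinclJ _ (Ideal.subset_span (by simp)), map_zero] at hF2 hL2
  have hFval : Fval q (fun w' => φ₂ (v w')) = φ₂ (Fval q v) := by
    simp only [Fval, map_sum, map_sub, map_mul, map_pow]
  rw [mul_add, ← hL2, add_zero, hFval] at hF2
  -- now `τ₂ ^ (q+1) * φ₂ (Fval q v) = 0`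
  have hmem : (Polynomial.X : TT k) ^ (q + 1) * Polynomial.C (Fval q v) ∈ Ipow k (q + 2) := by
    rw [← Ideal.Quotient.eq_zero_iff_mem, map_mul, map_pow]
    exact hF2.symm
  obtain ⟨H, hH⟩ := Ideal.mem_span_singleton.mp hmem
  have := congrArg (fun p : TT k => p.coeff (q + 1)) hH
  simp only [Polynomial.coeff_X_pow_mul'] at this
  apply hFv
  simpa using this

end Groth.Agent.Lib.Seat72.Hyp
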