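import Mathlib

/-!
# Seat72: invariants of a finite group action commute with arbitrary base change when the order
of the group is invertible (Reynolds operator)

* `tensor_invariants_of_unit`: module version.
* `invariants_pushout_of_unit`: version for pushout squares in `CommRingCat`.
-/

set_option autoImplicit false
set_option maxSynthPendingDepth 3
set_option linter.style.haveILetI false
set_option linter.unusedSectionVars false

universe u

open CategoryTheory TensorProduct

namespace Groth.Agent.Lib.Seat72.InvUnit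

/-- the Reynolds retraction -/
theorem exists_retraction {R : Type*} [CommRing R] {A B : Type*} [AddCommGroup A]
    [AddCommGroup B] [Module R A] [Module R B]
    {ι : Type*} [Fintype ι] (hunit : IsUnit ((Fintype.card ι : ℕ) : R))
    (φ : A →ₗ[R] B) (τ : ι → B →ₗ[R] B)
    (hinj : Function.Injective φ)
    (hrange : ∀ b, (∀ i, τ i b = b) → b ∈ LinearMap.range φ)
    (hτφ : ∀ i a, τ i (φ a) = φ a)
    (hsum : ∀ j b, τ j (∑ i, τ i b) = ∑ i, τ i b) :
    ∃ (r : B →ₗ[R] A) (u : R), u * ((Fintype.card ι : ℕ) : R) = 1 ∧ r ∘ₗ φ = LinearMap.id ∧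
      φ ∘ₗ r = u • ∑ i, τ i := by
  classical
  obtain ⟨u, hu⟩ := hunit
  let ρ : B →ₗ[R] B := (↑u⁻¹ : R) • ∑ i, τ i
  have hρ : ∀ b, ρ b = (↑u⁻¹ : R) • ∑ i, τ i b := by
    intro b
    simp [ρ, LinearMap.smul_apply, LinearMap.sum_apply]
  have hmem : ∀ b, ρ b ∈ LinearMap.range φ := by
    intro b
    apply hrange
    intro j
    rw [hρ, map_smul, hsum]
  let ρ' : B →ₗ[R] LinearMap.range φ := ρ.codRestrict _ hmem
  let e := LinearEquiv.ofInjective φ hinj
  let r : B →ₗ[R] A := e.symm.toLinearMap ∘ₗ ρ'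
  have hφr : φ ∘ₗ r = ρ := by
    ext b
    simp only [LinearMap.comp_apply, r, LinearEquiv.coe_coe]
    have : φ (e.symm (ρ' b)) = (e (e.symm (ρ' b)) : B) := rfl
    rw [this, LinearEquiv.apply_symm_apply]
    rfl
  have hu' : (↑u⁻¹ : R) * ((Fintype.card ι : ℕ) : R) = 1 := by
    rw [← hu]
    exact Units.inv_mul u
  have hρφ : ∀ a, ρ (φ a) = φ a := by
    intro a
    rw [hρ]
    simp only [hτφ, Finset.sum_const, Finset.card_univ]
    rw [← Nat.cast_smul_eq_nsmul R, smul_smul, hu', one_smul]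
  refine ⟨r, (↑u⁻¹ : R), hu', ?_, hφr⟩
  ext a
  apply hinj
  have := congrArg (fun l => l (φ a)) hφr
  simp only [LinearMap.comp_apply] at this
  rw [LinearMap.comp_apply, this, hρφ, LinearMap.id_apply]

theorem tensor_invariants_of_unit {R : Type*} [CommRing R] {A B M : Type*} [AddCommGroup A]
    [AddCommGroup B] [AddCommGroup M] [Module R A] [Module R B] [Module R M]
    {ι : Type*} [Fintype ι] (hunit : IsUnit ((Fintype.card ι : ℕ) : R))
    (φ : A →ₗ[R] B) (τ : ι → B →ₗ[R] B)
    (hinj : Function.Injective φ)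
    (hrange : ∀ b, (∀ i, τ i b = b) → b ∈ LinearMap.range φ)
    (hτφ : ∀ i a, τ i (φ a) = φ a)
    (hsum : ∀ j b, τ j (∑ i, τ i b) = ∑ i, τ i b) :
    Function.Injective (φ.rTensor M) ∧
      ∀ x : B ⊗[R] M, (∀ i, (τ i).rTensor M x = x) → x ∈ LinearMap.range (φ.rTensor M) := by
  classical
  obtain ⟨r, u, hu, hrφ, hφr⟩ := exists_retraction hunit φ τ hinj hrange hτφ hsum
  constructor
  · have : (r.rTensor M) ∘ₗ (φ.rTensor M) = LinearMap.id := by
      rw [← LinearMap.rTensor_comp, hrφ, LinearMap.rTensor_id]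
    exact Function.LeftInverse.injective (g := r.rTensor M)
      (fun x => congrArg (fun l => l x) this)
  · intro x hx
    have h1 : (φ.rTensor M) ∘ₗ (r.rTensor M) = u • ∑ i, (τ i).rTensor M := by
      rw [← LinearMap.rTensor_comp, hφr]
      have := map_sum (LinearMap.rTensorHom (R := R) M (N := B) (P := B)) τ Finset.univ
      simp only [LinearMap.coe_rTensorHom] at this
      rw [LinearMap.rTensor_smul, this]
    refine ⟨r.rTensor M x, ?_⟩
    have := congrArg (fun l => l x) h1
    simp only [LinearMap.comp_apply, LinearMap.smul_apply, LinearMap.sum_apply] at this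
    rw [this]
    simp only [hx, Finset.sum_const, Finset.card_univ]
    rw [← Nat.cast_smul_eq_nsmul R, smul_smul, hu, one_smul]

open CategoryTheory.Limits in
theorem invariants_pushout_of_unit {R R' A B A' B' : CommRingCat.{u}} (a : R ⟶ A) (r : R ⟶ R')
    (φ : A ⟶ B) (iA : A ⟶ A') (jA : R' ⟶ A') (iB : B ⟶ B') (jB : R' ⟶ B') (φ' : A' ⟶ B')
    (hA : IsPushout a r iA jA) (hB : IsPushout (a ≫ φ) r iB jB)
    (hφ1 : iA ≫ φ' = φ ≫ iB) (hφ2 : jA ≫ φ' = jB)
    {ι : Type*} [Fintype ι] (hunit : IsUnit ((Fintype.card ι : ℕ) : R))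
    (τ : ι → (B ⟶ B)) (hτ : ∀ i, φ ≫ τ i = φ)
    (hsum : ∀ j b, (τ j).hom (∑ i, (τ i).hom b) = ∑ i, (τ i).hom b)
    (hinj : Function.Injective φ.hom)
    (hrange : ∀ b, (∀ i, (τ i).hom b = b) → b ∈ Set.range φ.hom)
    (τ' : ι → (B' ⟶ B')) (hτ1 : ∀ i, iB ≫ τ' i = τ i ≫ iB) (hτ2 : ∀ i, jB ≫ τ' i = jB) :
    Function.Injective φ'.hom ∧ ∀ t, (∀ i, (τ' i).hom t = t) → t ∈ Set.range φ'.hom := by
  letI algA : Algebra R A := a.hom.toAlgebra
  letI algR' : Algebra R R' := r.hom.toAlgebra
  letI algB : Algebra R B := (a ≫ φ).hom.toAlgebra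
  have tA : IsPushout a r
      (CommRingCat.ofHom (S := A ⊗[R] R') Algebra.TensorProduct.includeLeftRingHom)
      (CommRingCat.ofHom (S := A ⊗[R] R') Algebra.TensorProduct.includeRight.toRingHom) :=
    CommRingCat.isPushout_tensorProduct R A R'
  have tB : IsPushout (a ≫ φ) r
      (CommRingCat.ofHom (S := B ⊗[R] R') Algebra.TensorProduct.includeLeftRingHom)
      (CommRingCat.ofHom (S := B ⊗[R] R') Algebra.TensorProduct.includeRight.toRingHom) :=
    CommRingCat.isPushout_tensorProduct R B R'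
  let eA := hA.isoIsPushout _ _ tA
  let eB := hB.isoIsPushout _ _ tB
  -- algebra maps
  let φalg : A →ₐ[R] B := { φ.hom with commutes' := fun _ => rfl }
  have hτφ : ∀ i x, (τ i).hom (φ.hom x) = φ.hom x := fun i x =>
    congrArg (fun f => f.hom x) (hτ i)
  let τalg : ι → B →ₐ[R] B := fun i =>
    { (τ i).hom with commutes' := fun x => hτφ i (a.hom x) }
  let mφ : A ⊗[R] R' →+* B ⊗[R] R' :=
    (Algebra.TensorProduct.map φalg (AlgHom.id R R')).toRingHom
  let mτ : ι → B ⊗[R] R' →+* B ⊗[R] R' := fun i =>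
    (Algebra.TensorProduct.map (τalg i) (AlgHom.id R R')).toRingHom
  have h1 : eA.inv ≫ φ' ≫ eB.hom = CommRingCat.ofHom mφ := by
    apply tA.hom_ext
    · rw [IsPushout.inl_isoIsPushout_inv_assoc, reassoc_of% hφ1, IsPushout.inl_isoIsPushout_hom]
      ext x
      simp [mφ, φalg]
    · rw [IsPushout.inr_isoIsPushout_inv_assoc, reassoc_of% hφ2, IsPushout.inr_isoIsPushout_hom]
      ext x
      simp [mφ]
  have h2 : ∀ i, eB.inv ≫ τ' i ≫ eB.hom = CommRingCat.ofHom (mτ i) := by
    intro i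
    apply tB.hom_ext
    · rw [IsPushout.inl_isoIsPushout_inv_assoc, reassoc_of% (hτ1 i),
        IsPushout.inl_isoIsPushout_hom]
      ext x
      simp [mτ, τalg]
    · rw [IsPushout.inr_isoIsPushout_inv_assoc, reassoc_of% (hτ2 i),
        IsPushout.inr_isoIsPushout_hom]
      ext x
      simp [mτ]
  have h1' : ∀ y : A ⊗[R] R', eB.hom.hom (φ'.hom (eA.inv.hom y)) = mφ y := fun y =>
    congrArg (fun f => f.hom y) h1
  have h2' : ∀ i (x : B ⊗[R] R'), eB.hom.hom ((τ' i).hom (eB.inv.hom x)) = mτ i x := fun i x =>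
    congrArg (fun f => f.hom x) (h2 i)
  -- linear maps
  let φl : A →ₗ[R] B := φalg.toLinearMap
  let τl : ι → B →ₗ[R] B := fun i => (τalg i).toLinearMap
  have hmφ : ∀ y : A ⊗[R] R', mφ y = φl.rTensor R' y := by
    intro y
    induction y using TensorProduct.induction_on with
    | zero => simp
    | tmul x y => simp [mφ, φl]
    | add x y hx hy => rw [map_add, map_add, hx, hy]
  have hmτ : ∀ i (y : B ⊗[R] R'), mτ i y = (τl i).rTensor R' y := by
    intro i y
    induction y using TensorProduct.induction_on with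
    | zero => simp
    | tmul x y => simp [mτ, τl]
    | add x y hx hy => rw [map_add, map_add, hx, hy]
  obtain ⟨kinj, krange⟩ := tensor_invariants_of_unit (M := R') hunit φl τl hinj
    (fun b hb => by
      obtain ⟨x, hx⟩ := hrange b hb
      exact ⟨x, hx⟩)
    (fun i x => hτφ i x) (fun j b => hsum j b)
  have heAh := ConcreteCategory.bijective_of_isIso eA.hom
  have heBh := ConcreteCategory.bijective_of_isIso eB.hom
  have hAhi : ∀ y, eA.inv.hom (eA.hom.hom y) = y := fun y =>
    congrArg (fun f => f.hom y) eA.hom_inv_id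
  have hBhi : ∀ y, eB.inv.hom (eB.hom.hom y) = y := fun y =>
    congrArg (fun f => f.hom y) eB.hom_inv_id
  constructor
  · intro s s' hss
    apply heAh.1
    apply kinj
    rw [← hmφ, ← hmφ, ← h1', ← h1', hAhi, hAhi, hss]
  · intro t ht
    have hx : ∀ i, (τl i).rTensor R' (eB.hom.hom t) = eB.hom.hom t := by
      intro i
      rw [← hmτ, ← h2', hBhi, ht i]
    obtain ⟨y, hy⟩ := krange _ hx
    refine ⟨eA.inv.hom y, ?_⟩
    apply heBh.1
    rw [h1', hmφ]
    exact hy

end Groth.Agent.Lib.Seat72.InvUnit
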