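import Mathlib
import Groth.Prelude.Def_ega3
import Groth.Agent.Lib.Helper3IsoFibB

/-!
# The isomorphism locus of a morphism of proper schemes (seat 72)

* `isIso_pullback_map_of_isIso_morphismRestrict` : if `f : X ⟶ Y` (over `Z`) is an isomorphism over
  `h⁻¹ U` and `k : K ⟶ Z` has image in `U`, then the base change `X ×_Z K ⟶ Y ×_Z K` is an
  isomorphism.
-/

set_option autoImplicit false
set_option linter.unusedVariables false
set_option linter.unusedSectionVars false
set_option linter.style.haveILetI false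

open CategoryTheory CategoryTheory.Limits AlgebraicGeometry

universe u

namespace Groth.Agent.Lib.Seat72.IsoLocus

/-- if `f` is an isomorphism over `h⁻¹ U` then its base change along any `k : K ⟶ Z` with image in
`U` is an isomorphism. -/
theorem isIso_pullback_map_of_isIso_morphismRestrict {X Y Z K : Scheme.{u}} (f : X ⟶ Y) (h : Y ⟶ Z)
    (U : Z.Opens) [IsIso (f ∣_ (h ⁻¹ᵁ U))] (k : K ⟶ Z) (hk : Set.range k ⊆ (U : Set Z))
    (e₁ : (f ≫ h) ≫ 𝟙 Z = f ≫ h) (e₂ : k ≫ 𝟙 Z = 𝟙 K ≫ k) :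
    IsIso (pullback.map (f ≫ h) k h k f (𝟙 _) (𝟙 _) e₁ e₂) := by
  let FM := pullback.map (f ≫ h) k h k f (𝟙 _) (𝟙 _) e₁ e₂
  let V₁ : Y.Opens := h ⁻¹ᵁ U
  let f₁ := f ∣_ V₁
  let ιX := pullback.fst (f ≫ h) k
  let ιY := pullback.fst h k
  have hιY : ∀ y', ιY y' ∈ V₁ := by
    intro y'
    show h (ιY y') ∈ U
    have : h (ιY y') = k (pullback.snd h k y') := by
      rw [← Scheme.Hom.comp_apply, ← Scheme.Hom.comp_apply, pullback.condition]
    rw [this]
    exact hk ⟨_, rfl⟩
  have hsq := Groth.Agent.Lib.Helper20.FlatDesc.isPullback_map_aux f h k e₁ e₂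
  have hιX : ∀ x', ιX x' ∈ f ⁻¹ᵁ V₁ := by
    intro x'
    show f (ιX x') ∈ V₁
    have : f (ιX x') = ιY (FM x') := by
      rw [← Scheme.Hom.comp_apply, ← Scheme.Hom.comp_apply]
      exact congrArg (fun m => m x') hsq.w
    rw [this]
    exact hιY _
  let lY := IsOpenImmersion.lift V₁.ι ιY (by
    rintro _ ⟨y', rfl⟩
    rw [Scheme.Opens.range_ι]
    exact hιY y')
  let lX := IsOpenImmersion.lift (f ⁻¹ᵁ V₁).ι ιX (by
    rintro _ ⟨x', rfl⟩
    rw [Scheme.Opens.range_ι]
    exact hιX x')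
  have hlY : lY ≫ V₁.ι = ιY := IsOpenImmersion.lift_fac _ _ _
  have hlX : lX ≫ (f ⁻¹ᵁ V₁).ι = ιX := IsOpenImmersion.lift_fac _ _ _
  have hcomm : lX ≫ f₁ = FM ≫ lY := by
    rw [← cancel_mono V₁.ι, Category.assoc, Category.assoc, hlY, morphismRestrict_ι,
      ← Category.assoc, hlX]
    exact hsq.w
  have hpb : IsPullback lX FM f₁ lY := by
    refine IsPullback.of_right ?_ hcomm (isPullback_morphismRestrict f V₁).flip
    rw [hlX, hlY]
    exact hsq
  exact hpb.isIso_snd_of_isIso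

/-- base change of `f : X ⟶ Y` (a morphism over `Z`, `f ≫ h = g`) along `k : K ⟶ Z`. -/
noncomputable abbrev bc {X Y Z K : Scheme.{u}} (f : X ⟶ Y) (g : X ⟶ Z) (h : Y ⟶ Z)
    (w : f ≫ h = g) (k : K ⟶ Z) : pullback g k ⟶ pullback h k :=
  pullback.map g k h k f (𝟙 _) (𝟙 _) (by rw [Category.comp_id, w])
    (by rw [Category.comp_id, Category.id_comp])

/-- the transition map `X ×_Z K' ⟶ X ×_Z K` for `j : K' ⟶ K`. -/
noncomputable abbrev tr {X Z K K' : Scheme.{u}} (g : X ⟶ Z) (k : K ⟶ Z) (j : K' ⟶ K)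
    (k' : K' ⟶ Z) (hk : j ≫ k = k') : pullback g k' ⟶ pullback g k :=
  pullback.map g k' g k (𝟙 _) j (𝟙 _) (by rw [Category.comp_id, Category.id_comp])
    (by rw [Category.comp_id, hk])

theorem isPullback_bc {X Y Z K : Scheme.{u}} (f : X ⟶ Y) (g : X ⟶ Z) (h : Y ⟶ Z)
    (w : f ≫ h = g) (k : K ⟶ Z) :
    IsPullback (pullback.fst g k) (bc f g h w k) f (pullback.fst h k) := by
  subst w
  exact Groth.Agent.Lib.Helper20.FlatDesc.isPullback_map_aux f h k _ _

theorem isPullback_tr_bc {X Y Z K K' : Scheme.{u}} (f : X ⟶ Y) (g : X ⟶ Z) (h : Y ⟶ Z)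
    (w : f ≫ h = g) (k : K ⟶ Z) (j : K' ⟶ K) (k' : K' ⟶ Z) (hk : j ≫ k = k') :
    IsPullback (tr g k j k' hk) (bc f g h w k') (bc f g h w k) (tr h k j k' hk) := by
  have e1 : tr g k j k' hk ≫ pullback.fst g k = pullback.fst g k' := by
    rw [pullback.lift_fst, Category.comp_id]
  have e2 : tr h k j k' hk ≫ pullback.fst h k = pullback.fst h k' := by
    rw [pullback.lift_fst, Category.comp_id]
  refine IsPullback.of_right ?_ ?_ (isPullback_bc f g h w k)
  · rw [e1, e2]
    exact isPullback_bc f g h w k'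
  · apply pullback.hom_ext
    · simp only [Category.assoc, pullback.lift_fst, pullback.lift_fst_assoc, Category.comp_id]
    · simp only [Category.assoc, pullback.lift_snd, pullback.lift_snd_assoc, Category.comp_id]

theorem isPullback_tr_snd {Y Z K K' : Scheme.{u}} (h : Y ⟶ Z) (k : K ⟶ Z) (j : K' ⟶ K)
    (k' : K' ⟶ Z) (hk : j ≫ k = k') :
    IsPullback (tr h k j k' hk) (pullback.snd h k') (pullback.snd h k) j := by
  have e2 : tr h k j k' hk ≫ pullback.fst h k = pullback.fst h k' := by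
    rw [pullback.lift_fst, Category.comp_id]
  refine IsPullback.of_right ?_ ?_ (IsPullback.of_hasPullback h k)
  · rw [e2, hk]
    exact IsPullback.of_hasPullback h k'
  · rw [pullback.lift_snd]

/-- base change of an isomorphism is an isomorphism. -/
theorem isIso_bc_of_isIso_bc {X Y Z K K' : Scheme.{u}} (f : X ⟶ Y) (g : X ⟶ Z) (h : Y ⟶ Z)
    (w : f ≫ h = g) (k : K ⟶ Z) (j : K' ⟶ K) (k' : K' ⟶ Z) (hk : j ≫ k = k')
    [IsIso (bc f g h w k)] : IsIso (bc f g h w k') :=
  (MorphismProperty.isomorphisms Scheme).of_isPullback (isPullback_tr_bc f g h w k j k' hk)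
    (inferInstance : IsIso (bc f g h w k))

/-- fpqc descent of isomorphisms. -/
theorem isIso_bc_of_isIso_bc_of_fpqc {X Y Z K K' : Scheme.{u}} (f : X ⟶ Y) (g : X ⟶ Z)
    (h : Y ⟶ Z) (w : f ≫ h = g) (k : K ⟶ Z) (j : K' ⟶ K) (k' : K' ⟶ Z) (hk : j ≫ k = k')
    [Surjective j] [Flat j] [QuasiCompact j] [IsIso (bc f g h w k')] : IsIso (bc f g h w k) := by
  have hsq := isPullback_tr_snd h k j k' hk
  have h1 : Surjective (tr h k j k' hk) :=
    MorphismProperty.of_isPullback (P := @Surjective) hsq.flip inferInstance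
  have h2 : Flat (tr h k j k' hk) :=
    MorphismProperty.of_isPullback (P := @Flat) hsq.flip inferInstance
  have h3 : QuasiCompact (tr h k j k' hk) :=
    MorphismProperty.of_isPullback (P := @QuasiCompact) hsq.flip inferInstance
  exact MorphismProperty.of_isPullback_of_descendsAlong
    (P := MorphismProperty.isomorphisms Scheme) (Q := @Surjective ⊓ @Flat ⊓ @QuasiCompact)
    (isPullback_tr_bc f g h w k j k' hk).flip ⟨⟨h1, h2⟩, h3⟩
    (inferInstance : IsIso (bc f g h w k'))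

/-- **The isomorphism locus.** For a morphism `f : X ⟶ Y` of proper `S`-schemes with `X` flat over
the locally Noetherian `S`, there is an open `S₀ ⊆ S` such that a morphism `k : S' ⟶ S` factors
through `S₀` iff the base change of `f` along `k` is an isomorphism. -/
theorem exists_isoLocus {X Y S : Scheme.{u}} [IsLocallyNoetherian S] (f : X ⟶ Y) (g : X ⟶ S)
    (h : Y ⟶ S) (w : f ≫ h = g) [IsProper g] [IsProper h] [Flat g] :
    ∃ S₀ : S.Opens, ∀ (S' : Scheme.{u}) (k : S' ⟶ S),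
      Set.range k ⊆ (S₀ : Set S) ↔ IsIso (bc f g h w k) := by
  subst w
  haveI : LocallyOfFinitePresentation (f ≫ h) :=
    LocallyOfFinitePresentation.iff_locallyOfFiniteType.mpr inferInstance
  have hex : ∀ s : S, IsIso (bc f (f ≫ h) h rfl (S.fromSpecResidueField s)) →
      ∃ U : S.Opens, s ∈ U ∧ IsIso (f ∣_ (h ⁻¹ᵁ U)) := fun s hs => by
    haveI : IsIso (CohIII.fiberMapOver f (f ≫ h) h rfl s) := hs
    exact Groth.Agent.Lib.Helper3.IsoFib.exists_isIso_morphismRestrict_of_fibre_iso f h s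
  choose Us hUs1 hUs2 using
    (fun i : {s : S // IsIso (bc f (f ≫ h) h rfl (S.fromSpecResidueField s))} => hex i.1 i.2)
  let S₀ : S.Opens := ⨆ i, Us i
  haveI hS₀ : IsIso (f ∣_ (h ⁻¹ᵁ S₀)) := by
    refine Groth.Agent.Lib.Helper3.IsoFib.isIso_morphismRestrict_of_forall_exists f _
      (fun y hy => ?_)
    obtain ⟨i, hi⟩ := TopologicalSpace.Opens.mem_iSup.mp (show h y ∈ ⨆ i, Us i from hy)
    exact ⟨h ⁻¹ᵁ Us i, hi, hUs2 i⟩
  refine ⟨S₀, fun S' k => ⟨fun hk => ?_, fun hk s hs => ?_⟩⟩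
  · exact isIso_pullback_map_of_isIso_morphismRestrict f h S₀ k hk _ _
  · obtain ⟨s', rfl⟩ := hs
    haveI := hk
    -- the fibre of the base change over `s'`
    have hcomp : Spec.map (k.residueFieldMap s') ≫ S.fromSpecResidueField (k s') =
        S'.fromSpecResidueField s' ≫ k := Scheme.Hom.SpecMap_residueFieldMap_fromSpecResidueField k s'
    haveI h1 : IsIso (bc f (f ≫ h) h rfl (S'.fromSpecResidueField s' ≫ k)) :=
      isIso_bc_of_isIso_bc f (f ≫ h) h rfl k (S'.fromSpecResidueField s') _ rfl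
    haveI : Flat (Spec.map (k.residueFieldMap s')) := by
      rw [Flat.SpecMap_iff]
      letI := (k.residueFieldMap s').hom.toAlgebra
      show Module.Flat _ _
      infer_instance
    haveI : Surjective (Spec.map (k.residueFieldMap s')) :=
      ⟨fun c => ⟨IsLocalRing.closedPoint _, Subsingleton.elim (α := PrimeSpectrum _) _ _⟩⟩
    haveI h2 : IsIso (bc f (f ≫ h) h rfl (S.fromSpecResidueField (k s'))) :=
      isIso_bc_of_isIso_bc_of_fpqc f (f ≫ h) h rfl (S.fromSpecResidueField (k s'))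
        (Spec.map (k.residueFieldMap s')) _ hcomp
    exact TopologicalSpace.Opens.mem_iSup.mpr ⟨⟨k s', h2⟩, hUs1 ⟨k s', h2⟩⟩

end Groth.Agent.Lib.Seat72.IsoLocus
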