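import Mathlib
import Groth.Agent.Lib.Helper13RelProjD
import Groth.Agent.Lib.Helper6Proper

/-!
# Seat72: a projective morphism (`RelProj.IsProjective`) is proper

For a graded ring `𝒜` generated by `𝒜₀ ∪ 𝒜₁` with `𝒜₁` a finite `R`-module (through
`ρ : R → 𝒜₀`), the morphism `Proj 𝒜 ⟶ Spec 𝒜₀ ⟶ Spec R` is universally closed (valuative
criterion: every degree-zero element is integral over `R` modulo the annihilator of `𝒜₁`,
by Cayley–Hamilton, and that annihilator dies on `Proj 𝒜`).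
-/

set_option autoImplicit false
set_option maxSynthPendingDepth 3
set_option linter.style.haveILetI false
set_option linter.unusedSectionVars false

universe u

open CategoryTheory CategoryTheory.Limits AlgebraicGeometry TopologicalSpace Opposite
open HomogeneousLocalization

namespace Groth.Agent.Lib.Seat72.ProjProper

open Groth.Agent.Helper13RelProj

section Alg

variable {A σ : Type u} [CommRing A] [SetLike σ A] [AddSubgroupClass σ A]
  {𝒜 : ℕ → σ} [GradedRing 𝒜]

open Polynomial in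
/-- Cayley–Hamilton: a degree-zero element satisfies a monic polynomial over `R` up to the
annihilator of `𝒜₁`. -/
theorem exists_monic_kills_degOne {R : Type u} [CommRing R] (ρ : R →+* 𝒜 0) (T : Finset A)
    (hT : ∀ t ∈ T, t ∈ 𝒜 1)
    (hspan : ∀ x ∈ 𝒜 1, ∃ c : A → R, x = ∑ t ∈ T, (ρ (c t) : A) * t) (a : 𝒜 0) :
    ∃ p : R[X], p.Monic ∧ ∀ m ∈ 𝒜 1, ((p.eval₂ ρ a : 𝒜 0) : A) * m = 0 := by
  classical
  letI algRA : Algebra R A := ((algebraMap (𝒜 0) A).comp ρ).toAlgebra
  have halg : ∀ r : R, algebraMap R A r = (ρ r : A) := fun _ => rfl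
  let M : Submodule R A :=
    { carrier := {x | x ∈ 𝒜 1}
      add_mem' := fun {x y} hx hy => add_mem hx hy
      zero_mem' := zero_mem _
      smul_mem' := fun r x hx => by
        show r • x ∈ 𝒜 1
        rw [Algebra.smul_def, halg]
        have := SetLike.mul_mem_graded (ρ r).2 hx
        simpa using this }
  have hM : ∀ x, x ∈ M ↔ x ∈ 𝒜 1 := fun _ => Iff.rfl
  haveI : Module.Finite R M := by
    rw [Module.Finite.iff_fg]
    refine ⟨T, le_antisymm ?_ ?_⟩
    · rw [Submodule.span_le]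
      intro t ht
      exact hT t ht
    · intro x hx
      obtain ⟨c, rfl⟩ := hspan x hx
      refine Submodule.sum_mem _ fun t ht => ?_
      rw [← halg, ← Algebra.smul_def]
      exact Submodule.smul_mem _ _ (Submodule.subset_span ht)
  have hmul : ∀ m ∈ M, (a : A) * m ∈ M := by
    intro m hm
    have := SetLike.mul_mem_graded a.2 ((hM m).1 hm)
    rw [zero_add] at this
    exact (hM _).2 this
  let f : Module.End R M := (LinearMap.mulLeft R (a : A)).restrict hmul
  have hf : ∀ m : M, ((f m : M) : A) = (a : A) * m := fun _ => rfl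
  obtain ⟨p, hp, hpf⟩ := LinearMap.exists_monic_and_aeval_eq_zero R f
  refine ⟨p, hp, ?_⟩
  have key : ∀ q : R[X], ∀ m : M, (((aeval f q) m : M) : A) = ((q.eval₂ ρ a : 𝒜 0) : A) * m := by
    intro q
    induction q using Polynomial.induction_on with
    | C r =>
      intro m
      rw [aeval_C, eval₂_C, Module.algebraMap_end_apply, Submodule.coe_smul, Algebra.smul_def, halg]
    | add q₁ q₂ h₁ h₂ =>
      intro m
      rw [map_add, LinearMap.add_apply, Submodule.coe_add, h₁, h₂, eval₂_add]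
      push_cast
      ring
    | monomial n r h =>
      intro m
      rw [pow_succ, ← mul_assoc, map_mul, aeval_X, Module.End.mul_apply, h, hf, eval₂_mul_X]
      push_cast
      ring
  intro m hm
  have := key p ⟨m, hm⟩
  rw [hpf] at this
  simpa using this.symm

end Alg

section VC

variable {A σ : Type u} [CommRing A] [SetLike σ A] [AddSubgroupClass σ A]
  (𝒜 : ℕ → σ) [GradedRing 𝒜]

set_option backward.isDefEq.respectTransparency.types false in
/-- the existence part of the valuative criterion for `Proj 𝒜 ⟶ Spec 𝒜₀ ⟶ Spec R` -/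
theorem valuativeCriterion_existence_comp {R : CommRingCat.{u}} (ρ : R ⟶ CommRingCat.of (𝒜 0))
    (T : Finset A) (hT : ∀ t ∈ T, t ∈ 𝒜 1)
    (hspan : ∀ x ∈ 𝒜 1, ∃ c : A → R, x = ∑ t ∈ T, (ρ.hom (c t) : A) * t)
    (hgen : Subring.closure ((𝒜 0 : Set A) ∪ (𝒜 1 : Set A)) = ⊤) :
    ValuativeCriterion.Existence (Proj.toSpecZero 𝒜 ≫ Spec.map ρ) := by
  have hadj := adjoin_eq_top_of_degOne ρ.hom T hspan hgen
  haveI : Algebra.FiniteType (𝒜 0) A := ⟨⟨T, hadj⟩⟩
  rintro ⟨O, K, i₁, i₂, w⟩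
  -- the point lies in some `D₊(t)`
  have hmem : i₁ (IsLocalRing.closedPoint K) ∈ (⊤ : (Proj 𝒜).Opens) := trivial
  rw [← Proj.iSup_basicOpen_eq_top' 𝒜 (ι := T) (↑) (fun i ↦ ⟨1, hT _ i.2⟩)
    (by simpa using hadj), TopologicalSpace.Opens.mem_iSup] at hmem
  obtain ⟨i, hi⟩ := hmem
  have hrange : Set.range i₁ ⊆ (Proj.awayι 𝒜 _ (hT i i.2) one_pos).opensRange := by
    rw [Proj.opensRange_awayι]
    rintro _ ⟨x, rfl⟩
    obtain rfl := Subsingleton.elim x (IsLocalRing.closedPoint K)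
    exact hi
  let φ : Spec (.of K) ⟶ _ := IsOpenImmersion.lift _ _ hrange
  have hφ : φ ≫ Proj.awayι 𝒜 _ (hT i i.2) one_pos = i₁ := IsOpenImmersion.lift_fac _ _ hrange
  let θ : 𝒜 0 →+* K := (Spec.preimage φ).hom.comp (fromZeroRingHom 𝒜 _)
  have hθ : i₁ ≫ Proj.toSpecZero 𝒜 = Spec.map (CommRingCat.ofHom θ) := by
    rw [← hφ, Category.assoc, Proj.awayι_toSpecZero, CommRingCat.ofHom_comp, Spec.map_comp,
      CommRingCat.ofHom_hom, Spec.map_preimage]
  let r' : R →+* O := (Spec.preimage i₂).hom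
  have hr' : θ.comp ρ.hom = (algebraMap O K).comp r' := by
    have h1 := w.w
    rw [← Category.assoc, hθ, ← Spec.map_comp, ← Spec.map_preimage i₂, ← Spec.map_comp] at h1
    have h2 := Spec.map_injective h1
    exact congrArg CommRingCat.Hom.hom h2
  -- integrality
  have hint : ∀ a : 𝒜 0, θ a ∈ (algebraMap O K).range := by
    intro a
    obtain ⟨p, hp, hpa⟩ := exists_monic_kills_degOne ρ.hom T hT hspan a
    have h0 : θ (p.eval₂ ρ.hom a) = 0 := by
      show (Spec.preimage φ).hom (fromZeroRingHom 𝒜 _ (p.eval₂ ρ.hom a)) = 0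
      rw [show fromZeroRingHom 𝒜 (Submonoid.powers (i : A)) (p.eval₂ ρ.hom a) = 0 from
        fromZeroRingHom_eq_zero 𝒜 (p.eval₂ ρ.hom a).2 (hpa _ (hT i i.2)), map_zero]
    have hI : IsIntegral O (θ a) := by
      refine ⟨p.map r', hp.map r', ?_⟩
      rw [Polynomial.eval₂_map, ← hr', ← Polynomial.hom_eval₂, h0]
    obtain ⟨o, ho⟩ := IsIntegrallyClosed.algebraMap_eq_of_integral hI
    exact ⟨o, ho⟩
  let e : O ≃+* (algebraMap O K).range :=
    (AlgEquiv.ofInjective (Algebra.ofId O K) (IsFractionRing.injective _ _)).toRingEquiv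
  let ψ : 𝒜 0 →+* O := e.symm.toRingHom.comp (θ.codRestrict (algebraMap O K).range hint)
  have hψ : (algebraMap O K).comp ψ = θ := by
    ext x
    exact congr_arg Subtype.val (e.apply_symm_apply _)
  have hψρ : ψ.comp ρ.hom = r' := by
    ext x
    apply IsFractionRing.injective O K
    have h1 := congrArg (fun g => g x) hr'
    have h2 := congrArg (fun g => g (ρ.hom x)) hψ
    simp only [RingHom.comp_apply] at h1 h2 ⊢
    rw [h2, h1]
  have hsq : CommSq i₁ (Spec.map (CommRingCat.ofHom (algebraMap O K))) (Proj.toSpecZero 𝒜)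
      (Spec.map (CommRingCat.ofHom ψ)) := by
    refine ⟨?_⟩
    rw [hθ, ← Spec.map_comp, ← CommRingCat.ofHom_comp, hψ]
  obtain ⟨⟨l, hl1, hl2⟩⟩ := Proj.valuativeCriterion_existence 𝒜 ⟨O, K, i₁, _, hsq⟩
  refine ⟨⟨l, hl1, ?_⟩⟩
  rw [← Category.assoc, hl2, ← Spec.map_comp]
  have : ρ ≫ CommRingCat.ofHom ψ = Spec.preimage i₂ := by
    ext x
    exact congrArg (fun g => g x) hψρ
  rw [this, Spec.map_preimage]

set_option backward.isDefEq.respectTransparency.types false in
theorem isProper_toSpecZero_comp {R : CommRingCat.{u}} (ρ : R ⟶ CommRingCat.of (𝒜 0))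
    (T : Finset A) (hT : ∀ t ∈ T, t ∈ 𝒜 1)
    (hspan : ∀ x ∈ 𝒜 1, ∃ c : A → R, x = ∑ t ∈ T, (ρ.hom (c t) : A) * t)
    (hgen : Subring.closure ((𝒜 0 : Set A) ∪ (𝒜 1 : Set A)) = ⊤) :
    IsProper (Proj.toSpecZero 𝒜 ≫ Spec.map ρ) := by
  obtain ⟨hlft, hqc⟩ := loft_qc_toSpecZero_comp ρ T hT hspan hgen
  haveI := hlft
  haveI := hqc
  haveI : UniversallyClosed (Proj.toSpecZero 𝒜 ≫ Spec.map ρ) := by
    rw [UniversallyClosed.eq_valuativeCriterion]
    exact ⟨valuativeCriterion_existence_comp 𝒜 ρ T hT hspan hgen, inferInstance⟩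
  exact {}

end VC

section Sch

/-- the relative `Proj` of a graded algebra generated in degree one with degree-one part of finite
type is proper over the base -/
theorem isProper_of_isRelProj {Y P : Scheme.{u}} (𝒮 : RelProj.QCGrAlg Y)
    (hgen : 𝒮.IsGenDegOne) (hft : 𝒮.IsFTDeg 1) (p : P ⟶ Y)
    (chart : ∀ (U : Y.Opens) (hU : IsAffineOpen U),
      (((p ⁻¹ᵁ U : P.Opens) : Scheme.{u}) ≅ Proj (𝒮.deg U hU)))
    (hP : RelProj.IsRelProj 𝒮 p chart) : IsProper p := by
  rw [IsZariskiLocalAtTarget.iff_of_iSup_eq_top (P := @IsProper)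
    (fun i : Y.affineOpens => (i : Y.Opens)) (iSup_affineOpens_eq_top Y)]
  rintro ⟨U, hU⟩
  obtain ⟨T, hT, hspan⟩ := hft U hU
  haveI := isProper_toSpecZero_comp (𝒮.deg U hU) (𝒮.strZero U hU) T (fun t ht => hT ht) hspan
    (hgen U hU)
  change IsProper (p ∣_ U)
  rw [restrict_eq 𝒮 p chart hP U hU]
  rw [← Category.assoc (Proj.toSpecZero _), ← Category.assoc (chart U hU).hom]
  have : IsProper ((chart U hU).hom ≫ Proj.toSpecZero (𝒮.deg U hU) ≫
      Spec.map (𝒮.strZero U hU)) := inferInstance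
  infer_instance

/-- a projective morphism is proper -/
theorem isProper_of_isProjective {X S : Scheme.{u}} (f : X ⟶ S) (hf : RelProj.IsProjective f) :
    IsProper f := by
  obtain ⟨𝒮, P, p, chart, e, hgen, hft, hP, rfl⟩ := hf
  haveI := isProper_of_isRelProj 𝒮 hgen hft p chart hP
  infer_instance

end Sch

end Groth.Agent.Lib.Seat72.ProjProper
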