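import Mathlib
import Groth.Agent.Lib.Seat72ProjProper
import Groth.Agent.Lib.Helper2RelTwistAmpleB
import Groth.Agent.Lib.Helper2RelTwistExist
import Groth.Agent.S8261

/-!
# Seat72: a projective morphism is quasi-projective (S4418)
-/

set_option autoImplicit false
set_option maxSynthPendingDepth 3
set_option linter.style.haveILetI false
set_option linter.unusedSectionVars false

universe u

open CategoryTheory CategoryTheory.Limits AlgebraicGeometry TopologicalSpace Opposite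

namespace Groth.Agent.Lib.Seat72.ProjQProj

open Groth.Agent.Helper13RelProj Groth.Agent.Lib.Helper2.RelTwistAmpleB
  Groth.Agent.Lib.Helper2.RelTwistExist Groth.Agent.Lib.Helper2.RelTwistAmple
  Groth.Agent.Lib.Helper2.RelTwistGen Groth.Agent.Lib.Helper23.RestrJ

/-- `O_P(1)` exists, is invertible and relatively ample on the relative `Proj` of a graded algebra
generated in degree one with degree-one part of finite type. -/
theorem exists_relAmple_of_isRelProj {Y P : Scheme.{u}} (𝒮 : RelProj.QCGrAlg Y)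
    (hgen : 𝒮.IsGenDegOne) (hft : 𝒮.IsFTDeg 1) (p : P ⟶ Y)
    (chart : ∀ (U : Y.Opens) (hU : IsAffineOpen U),
      (((p ⁻¹ᵁ U : P.Opens) : Scheme.{u}) ≅ Proj (𝒮.deg U hU)))
    (hP : RelProj.IsRelProj 𝒮 p chart) :
    ∃ L : P.Modules, PicF.IsInvertible L ∧ RelAmple.IsRelAmple p L := by
  obtain ⟨hlft, hqc⟩ := Groth.Agent.S8261.result 𝒮 hgen hft p chart hP
  obtain ⟨L, lam, hL⟩ := exists_isRelTwist p chart hP ((1 : ℕ) : ℤ)
  have hcov : ∀ (V : Y.Opens) (hV : IsAffineOpen V) (y : ProjectiveSpectrum (𝒮.deg V hV)),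
      ∃ g ∈ 𝒮.deg V hV 1, g ∉ y.asHomogeneousIdeal :=
    fun V hV y => exists_degOne_not_mem_of_gen _ (hgen V hV) y
  have hinv : PicF.IsInvertible L := isInvertible_of_cover p chart 1 L lam hL hcov
  refine ⟨L, hinv, hqc, fun V => ?_⟩
  obtain ⟨T, hT, hspan⟩ := hft V.1 V.2
  have hadj := adjoin_eq_top_of_degOne (𝒮.strZero V.1 V.2).hom T hspan (hgen V.1 V.2)
  haveI : Algebra.FiniteType (𝒮.deg V.1 V.2 0) (𝒮.presheaf.obj (op V.1)) := ⟨⟨T, hadj⟩⟩
  haveI : CompactSpace (Proj (𝒮.deg V.1 V.2)) :=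
    QuasiCompact.compactSpace_of_compactSpace (Proj.toSpecZero (𝒮.deg V.1 V.2))
  exact isAmple_restrict_preimage p chart L V.1 V.2
    (isAmple_restrict_emb p chart 1 L lam hL one_pos hinv V.1 V.2 (hcov V.1 V.2))

/-- relative ampleness transports along an isomorphism of the source -/
theorem isRelAmple_restrict_of_isIso {X P S : Scheme.{u}} (e : X ⟶ P) [IsIso e] (p : P ⟶ S)
    (L : P.Modules) (h : RelAmple.IsRelAmple p L) :
    RelAmple.IsRelAmple (e ≫ p) (L.restrict e) := by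
  haveI := h.1
  refine ⟨inferInstance, fun V => ?_⟩
  show CohB1.IsAmple ((L.restrict e).restrict (e ⁻¹ᵁ (p ⁻¹ᵁ V.1)).ι)
  rw [isAmple_restrict_comp_iff]
  have heq : (e ⁻¹ᵁ (p ⁻¹ᵁ V.1)).ι ≫ e = (e ∣_ (p ⁻¹ᵁ V.1)) ≫ (p ⁻¹ᵁ V.1).ι :=
    (morphismRestrict_ι e (p ⁻¹ᵁ V.1)).symm
  haveI : IsIso (e ∣_ (p ⁻¹ᵁ V.1)) := inferInstance
  haveI : IsOpenImmersion (e ∣_ (p ⁻¹ᵁ V.1)) := inferInstance
  rw [isAmple_restrict_iff_of_eq L heq, ← isAmple_restrict_comp_iff,
    isAmple_restrict_iff_of_isIso]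
  exact h.2 V

/-- S4418: a projective morphism is quasi-projective and proper -/
theorem isQuasiProjective_and_isProper_of_isProjective {X Y : Scheme.{u}} (f : X ⟶ Y)
    (hf : RelProj.IsProjective f) : RelProj.IsQuasiProjective f ∧ IsProper f := by
  have hproper := Groth.Agent.Lib.Seat72.ProjProper.isProper_of_isProjective f hf
  refine ⟨?_, hproper⟩
  obtain ⟨𝒮, P, p, chart, e, hgen, hft, hP, rfl⟩ := hf
  obtain ⟨L, -, hL⟩ := exists_relAmple_of_isRelProj 𝒮 hgen hft p chart hP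
  exact ⟨inferInstance, inferInstance, L.restrict e.hom,
    isRelAmple_restrict_of_isIso e.hom p L hL⟩

end Groth.Agent.Lib.Seat72.ProjQProj
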