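import Mathlib
import Groth.Agent.Lib.Seat72QuotGlue

/-!
# Seat72: `Proj` of the invariants is the quotient of `Proj` by a finite group

For a finite group `G` acting on a graded `R`-algebra `𝒜` by graded automorphisms with graded
ring of invariants `ι : 𝒞 → 𝒜`, the morphism `Proj 𝒜 ⟶ Proj 𝒞` (characterised chartwise) is a
quotient of `Proj 𝒜` by `G` in the sense of `SGA1.IsQuot`.
-/

set_option autoImplicit false
set_option maxSynthPendingDepth 3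
set_option linter.style.haveILetI false
set_option linter.unusedSectionVars false

universe u

open AlgebraicGeometry CategoryTheory CategoryTheory.Limits HomogeneousLocalization

namespace Groth.Agent.Lib.Seat72.ProjQuot

variable {R A : Type u} [CommRing R] [CommRing A] [Algebra R A] (𝒜 : ℕ → Submodule R A)
  [GradedAlgebra 𝒜]
  {G : Type u} [Group G] [Finite G] [MulSemiringAction G A]
  (hGdeg : ∀ (σ : G) (i : ℕ) (a : A), a ∈ 𝒜 i → σ • a ∈ 𝒜 i)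
  {C : Type u} [CommRing C] [Algebra R C] (𝒞 : ℕ → Submodule R C) [GradedAlgebra 𝒞]
  (ι : C →ₐ[R] A)
  (hιdeg : ∀ (i : ℕ) (a : A), a ∈ (𝒞 i).map ι.toLinearMap ↔ (a ∈ 𝒜 i ∧ ∀ σ : G, σ • a = a))

include hGdeg in
theorem smul_decompose (σ : G) (x : A) (i : ℕ) :
    σ • (DirectSum.decompose 𝒜 x i : A) = (DirectSum.decompose 𝒜 (σ • x) i : A) := by
  let g : 𝒜 →+*ᵍ 𝒜 :=
    { toRingHom := MulSemiringAction.toRingHom G A σ
      map_mem := fun {i x} hx => hGdeg σ i x hx }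
  exact GradedRingHom.map_directSumDecompose 𝒜 𝒜 g

include hGdeg in
/-- a homogeneous element of positive degree lies in every prime containing all homogeneous
invariants of positive degree. -/
theorem mem_of_forall_inv_mem (𝔭 : Ideal A) [𝔭.IsPrime]
    (H : ∀ n : ℕ, 0 < n → ∀ b ∈ 𝒜 n, (∀ σ : G, σ • b = b) → b ∈ 𝔭)
    (i : ℕ) (hi : 0 < i) (a : A) (ha : a ∈ 𝒜 i) : a ∈ 𝔭 := by
  classical
  haveI : Fintype G := Fintype.ofFinite G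
  obtain ⟨P, hP⟩ : ∃ P : Polynomial A, P = prodXSubSMul G A a := ⟨_, rfl⟩
  have hmonic : P.Monic := hP ▸ prodXSubSMul.monic G A a
  have heval : P.eval a = 0 := hP ▸ prodXSubSMul.eval G A a
  have hcoeff : ∀ (σ : G) (k : ℕ), σ • P.coeff k = P.coeff k := fun σ k =>
    hP ▸ prodXSubSMul.coeff G A a σ k
  obtain ⟨N, hN⟩ : ∃ N, N = P.natDegree := ⟨_, rfl⟩
  rw [Polynomial.eval_eq_sum_range, ← hN, Finset.sum_range_succ, hN, hmonic.coeff_natDegree,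
    one_mul, ← hN] at heval
  have h1 : a ^ N = - ∑ k ∈ Finset.range N, P.coeff k * a ^ k := by
    rw [eq_neg_iff_add_eq_zero, add_comm]
    exact heval
  have h2 : a ^ N = - ∑ k ∈ Finset.range N,
      (DirectSum.decompose 𝒜 (P.coeff k) (N • i - k • i) : A) * a ^ k := by
    have h3 := congrArg (GradedRing.proj 𝒜 (N • i)) h1
    rw [GradedRing.proj_apply, DirectSum.decompose_of_mem_same 𝒜 (SetLike.pow_mem_graded N ha),
      map_neg, map_sum] at h3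
    rw [h3, neg_inj]
    refine Finset.sum_congr rfl fun k hk => ?_
    have hk' : k • i ≤ N • i := Nat.mul_le_mul_right i (Finset.mem_range.mp hk).le
    rw [GradedRing.proj_apply]
    exact DirectSum.coe_decompose_mul_of_right_mem_of_le 𝒜 (SetLike.pow_mem_graded k ha) hk'
  have h4 : a ^ N ∈ 𝔭 := by
    rw [h2]
    refine 𝔭.neg_mem (𝔭.sum_mem fun k hk => 𝔭.mul_mem_right _ ?_)
    have hk' : k < N := Finset.mem_range.mp hk
    refine H (N • i - k • i) ?_ _ (SetLike.coe_mem _) fun σ => ?_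
    · simp only [smul_eq_mul]
      exact Nat.sub_pos_of_lt (Nat.mul_lt_mul_of_pos_right hk' hi)
    · rw [smul_decompose 𝒜 hGdeg, hcoeff]
  exact Ideal.IsPrime.mem_of_pow_mem inferInstance N h4

/-- the graded ring hom given by `σ`. -/
def actG (σ : G) : 𝒜 →+*ᵍ 𝒜 where
  toRingHom := MulSemiringAction.toRingHom G A σ
  map_mem := fun {i x} hx => hGdeg σ i x hx

include hιdeg in
theorem ι_mem {i : ℕ} {c : C} (hc : c ∈ 𝒞 i) : ι c ∈ 𝒜 i :=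
  ((hιdeg i (ι c)).mp (Submodule.mem_map_of_mem hc)).1

include hιdeg in
theorem ι_inv {i : ℕ} {c : C} (hc : c ∈ 𝒞 i) (σ : G) : σ • ι c = ι c :=
  ((hιdeg i (ι c)).mp (Submodule.mem_map_of_mem hc)).2 σ

/-- the graded ring hom given by `ι`. -/
def incG : 𝒞 →+*ᵍ 𝒜 where
  toRingHom := ι.toRingHom
  map_mem := fun {_ _} hx => ι_mem 𝒜 𝒞 ι hιdeg hx

/-- `C_(c) → A_(ι c)`. -/
def awayInc (c : C) : Away 𝒞 c →+* Away 𝒜 (ι c) :=
  HomogeneousLocalization.map (incG 𝒜 𝒞 ι hιdeg) (by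
    rintro _ ⟨n, rfl⟩
    exact ⟨n, (map_pow ι c n).symm⟩)

theorem awayInc_mk {d : ℕ} (c : C) (hc : c ∈ 𝒞 d) (k : ℕ) (x : C) (hx : x ∈ 𝒞 (k • d)) :
    awayInc 𝒜 𝒞 ι hιdeg c (Away.mk 𝒞 hc k x hx) =
      Away.mk 𝒜 (ι_mem 𝒜 𝒞 ι hιdeg hc) k (ι x) (ι_mem 𝒜 𝒞 ι hιdeg hx) := by
  apply HomogeneousLocalization.val_injective
  simp only [awayInc, Away.mk, HomogeneousLocalization.map_mk, HomogeneousLocalization.val_mk]
  congr 1
  exact Subtype.ext (map_pow ι c k)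

/-- `A_(f) → A_(f)` for invariant `f`. -/
def awayAct (σ : G) (f : A) (hf : σ • f = f) : Away 𝒜 f →+* Away 𝒜 f :=
  HomogeneousLocalization.map (actG 𝒜 hGdeg σ) (by
    rintro _ ⟨n, rfl⟩
    refine ⟨n, ?_⟩
    change f ^ n = σ • (f ^ n)
    rw [smul_pow', hf])

theorem awayAct_mk {d : ℕ} (σ : G) (f : A) (hfix : σ • f = f) (hf : f ∈ 𝒜 d) (k : ℕ) (x : A)
    (hx : x ∈ 𝒜 (k • d)) :
    awayAct 𝒜 hGdeg σ f hfix (Away.mk 𝒜 hf k x hx) =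
      Away.mk 𝒜 hf k (σ • x) (hGdeg σ _ _ hx) := by
  apply HomogeneousLocalization.val_injective
  simp only [awayAct, Away.mk, HomogeneousLocalization.map_mk, HomogeneousLocalization.val_mk]
  congr 1
  apply Subtype.ext
  change σ • (f ^ k) = f ^ k
  rw [smul_pow', hfix]

theorem chart_pi (π : Proj 𝒜 ⟶ Proj 𝒞)
    (hπ : ∀ (n : ℕ) (c : C) (hn : 0 < n) (hc : c ∈ 𝒞 n)
      (θ : CommRingCat.of (HomogeneousLocalization.Away 𝒞 c) ⟶ CommRingCat.of (HomogeneousLocalization.Away 𝒜 (ι c))),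
      (algebraMap (HomogeneousLocalization.Away 𝒜 (ι c)) (Localization.Away (ι c))).comp θ.hom =
        (Localization.awayMap ι.toRingHom c).comp
          (algebraMap (HomogeneousLocalization.Away 𝒞 c) (Localization.Away c)) →
      Proj.awayι 𝒜 (ι c) ((hιdeg n (ι c)).mp (Submodule.mem_map_of_mem hc)).1 hn ≫ π =
        Spec.map θ ≫ Proj.awayι 𝒞 c hc hn)
    (n : ℕ) (c : C) (hn : 0 < n) (hc : c ∈ 𝒞 n) :
    Proj.awayι 𝒜 (ι c) (ι_mem 𝒜 𝒞 ι hιdeg hc) hn ≫ π =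
      Spec.map (CommRingCat.ofHom (awayInc 𝒜 𝒞 ι hιdeg c)) ≫ Proj.awayι 𝒞 c hc hn := by
  refine hπ n c hn hc (CommRingCat.ofHom (awayInc 𝒜 𝒞 ι hιdeg c)) ?_
  ext z
  obtain ⟨x, rfl⟩ := HomogeneousLocalization.mk_surjective z
  simp only [CommRingCat.hom_ofHom, RingHom.comp_apply, HomogeneousLocalization.algebraMap_apply,
    awayInc, HomogeneousLocalization.map_mk, HomogeneousLocalization.val_mk]
  rw [Localization.mk_eq_mk', Localization.mk_eq_mk']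
  unfold Localization.awayMap IsLocalization.Away.map
  rw [IsLocalization.map_mk']
  rfl

theorem chart_rho_aux (ρ : G →* Aut (Proj 𝒜))
    (hρ : ∀ (σ : G) (n : ℕ) (f : A) (hn : 0 < n) (hf : f ∈ 𝒜 n)
      (θ : CommRingCat.of (HomogeneousLocalization.Away 𝒜 f) ⟶ CommRingCat.of (HomogeneousLocalization.Away 𝒜 (σ • f))),
      (algebraMap (HomogeneousLocalization.Away 𝒜 (σ • f)) (Localization.Away (σ • f))).comp θ.hom =
        (Localization.awayMap (MulSemiringAction.toRingHom G A σ) f).comp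
          (algebraMap (HomogeneousLocalization.Away 𝒜 f) (Localization.Away f)) →
      Proj.awayι 𝒜 (σ • f) (hGdeg σ n f hf) hn ≫ (ρ σ).inv = Spec.map θ ≫ Proj.awayι 𝒜 f hf hn)
    (σ : G) (n : ℕ) (f f' : A) (hn : 0 < n) (hf : f ∈ 𝒜 n) (hf' : f' ∈ 𝒜 n) (h : σ • f = f')
    (θ : Away 𝒜 f →+* Away 𝒜 f')
    (hθ : ∀ (k : ℕ) (x : A) (hx : x ∈ 𝒜 (k • n)),
      θ (Away.mk 𝒜 hf k x hx) = Away.mk 𝒜 hf' k (σ • x) (hGdeg σ _ _ hx)) :
    Proj.awayι 𝒜 f' hf' hn ≫ (ρ σ).inv =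
      Spec.map (CommRingCat.ofHom θ) ≫ Proj.awayι 𝒜 f hf hn := by
  subst h
  refine hρ σ n f hn hf (CommRingCat.ofHom θ) ?_
  ext z
  obtain ⟨k, x, hx, rfl⟩ := Away.mk_surjective 𝒜 hf z
  change (θ (Away.mk 𝒜 hf k x hx)).val =
    (Localization.awayMap (MulSemiringAction.toRingHom G A σ) f) ((Away.mk 𝒜 hf k x hx).val)
  rw [hθ, Away.val_mk, Away.val_mk, Localization.mk_eq_mk', Localization.mk_eq_mk']
  unfold Localization.awayMap IsLocalization.Away.map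
  rw [IsLocalization.map_mk']
  congr 1
  apply Subtype.ext
  change (σ • f) ^ k = σ • (f ^ k)
  rw [smul_pow']

theorem chart_rho (ρ : G →* Aut (Proj 𝒜))
    (hρ : ∀ (σ : G) (n : ℕ) (f : A) (hn : 0 < n) (hf : f ∈ 𝒜 n)
      (θ : CommRingCat.of (HomogeneousLocalization.Away 𝒜 f) ⟶ CommRingCat.of (HomogeneousLocalization.Away 𝒜 (σ • f))),
      (algebraMap (HomogeneousLocalization.Away 𝒜 (σ • f)) (Localization.Away (σ • f))).comp θ.hom =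
        (Localization.awayMap (MulSemiringAction.toRingHom G A σ) f).comp
          (algebraMap (HomogeneousLocalization.Away 𝒜 f) (Localization.Away f)) →
      Proj.awayι 𝒜 (σ • f) (hGdeg σ n f hf) hn ≫ (ρ σ).inv = Spec.map θ ≫ Proj.awayι 𝒜 f hf hn)
    (σ : G) (n : ℕ) (f : A) (hn : 0 < n) (hf : f ∈ 𝒜 n) (hfix : σ • f = f) :
    Proj.awayι 𝒜 f hf hn ≫ (ρ σ).inv =
      Spec.map (CommRingCat.ofHom (awayAct 𝒜 hGdeg σ f hfix)) ≫ Proj.awayι 𝒜 f hf hn :=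
  chart_rho_aux 𝒜 hGdeg ρ hρ σ n f f hn hf hf hfix _
    (fun k x hx => awayAct_mk 𝒜 hGdeg σ f hfix hf k x hx)

theorem awayInc_injective (hι : Function.Injective ι) {n : ℕ} (c : C) (hc : c ∈ 𝒞 n) :
    Function.Injective (awayInc 𝒜 𝒞 ι hιdeg c) := by
  rw [injective_iff_map_eq_zero]
  intro z hz
  obtain ⟨k, x, hx, rfl⟩ := Away.mk_surjective 𝒞 hc z
  rw [awayInc_mk] at hz
  have h1 := congrArg HomogeneousLocalization.val hz
  rw [Away.val_mk, HomogeneousLocalization.val_zero, Localization.mk_eq_mk',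
    IsLocalization.mk'_eq_zero_iff] at h1
  obtain ⟨⟨_, N, rfl⟩, hN⟩ := h1
  have h2 : c ^ N * x = 0 := by
    apply hι
    rw [map_mul, map_pow, map_zero]
    exact hN
  apply HomogeneousLocalization.val_injective
  rw [Away.val_mk, HomogeneousLocalization.val_zero, Localization.mk_eq_mk',
    IsLocalization.mk'_eq_zero_iff]
  exact ⟨⟨c ^ N, N, rfl⟩, h2⟩

theorem mem_range_awayInc {n : ℕ} (c : C) (hc : c ∈ 𝒞 n) (z : Away 𝒜 (ι c))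
    (hz : ∀ σ : G, awayAct 𝒜 hGdeg σ (ι c) (ι_inv 𝒜 𝒞 ι hιdeg hc σ) z = z) :
    z ∈ Set.range (awayInc 𝒜 𝒞 ι hιdeg c) := by
  have hf := ι_mem 𝒜 𝒞 ι hιdeg hc
  obtain ⟨k, b, hb, rfl⟩ := Away.mk_surjective 𝒜 hf z
  have h1 : ∀ σ : G, ∃ N : ℕ, (ι c) ^ N * (σ • b) = (ι c) ^ N * b := by
    intro σ
    have h2 := congrArg HomogeneousLocalization.val (hz σ)
    rw [awayAct_mk, Away.val_mk, Away.val_mk, Localization.mk_eq_mk_iff,
      Localization.r_iff_exists] at h2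
    obtain ⟨⟨_, N, rfl⟩, hN⟩ := h2
    refine ⟨N + k, ?_⟩
    simp only at hN
    rw [pow_add, mul_assoc, mul_assoc]
    exact hN
  choose Nσ hNσ using h1
  obtain ⟨σ₀, hσ₀⟩ := Finite.exists_max Nσ
  obtain ⟨N, hN⟩ : ∃ N : ℕ, ∀ σ : G, (ι c) ^ N * (σ • b) = (ι c) ^ N * b := by
    refine ⟨Nσ σ₀, fun σ => ?_⟩
    obtain ⟨d, hd⟩ := Nat.exists_eq_add_of_le (hσ₀ σ)
    rw [hd, pow_add, mul_comm ((ι c) ^ Nσ σ), mul_assoc, mul_assoc, hNσ σ]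
  have hb' : (ι c) ^ N * b ∈ 𝒜 ((N + k) • n) := by
    rw [add_smul]
    exact SetLike.mul_mem_graded (SetLike.pow_mem_graded N hf) hb
  have hinv : ∀ σ : G, σ • ((ι c) ^ N * b) = (ι c) ^ N * b := by
    intro σ
    rw [smul_mul', smul_pow', ι_inv 𝒜 𝒞 ι hιdeg hc σ, hN σ]
  obtain ⟨c', hc', hcc'⟩ := (hιdeg ((N + k) • n) _).mpr ⟨hb', hinv⟩
  refine ⟨Away.mk 𝒞 hc (N + k) c' hc', ?_⟩
  rw [awayInc_mk]
  apply HomogeneousLocalization.val_injective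
  rw [Away.val_mk, Away.val_mk, Localization.mk_eq_mk_iff, Localization.r_iff_exists]
  refine ⟨1, ?_⟩
  change (1 : A) * ((ι c) ^ k * ι c') = 1 * ((ι c) ^ (N + k) * b)
  have : ι c' = (ι c) ^ N * b := hcc'
  rw [this, pow_add]
  ring

include hGdeg hιdeg in
/-- the opens `D₊(ι c)` cover `Proj 𝒜`. -/
theorem exists_basicOpen (x : Proj 𝒜) :
    ∃ (n : ℕ) (_ : 0 < n) (c : C) (_ : c ∈ 𝒞 n), x ∈ Proj.basicOpen 𝒜 (ι c) := by
  by_contra! H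
  refine x.not_irrelevant_le ?_
  rw [HomogeneousIdeal.irrelevant_le]
  intro i hi a ha
  refine mem_of_forall_inv_mem 𝒜 hGdeg x.asHomogeneousIdeal.toIdeal ?_ i hi a ha
  intro n hn b hb hbinv
  obtain ⟨c, hc, rfl⟩ := (hιdeg n b).mpr ⟨hb, hbinv⟩
  have := H n hn c hc
  rw [Proj.mem_basicOpen, not_not] at this
  exact this

section preimage

variable (π : Proj 𝒜 ⟶ Proj 𝒞)
    (hπ : ∀ (n : ℕ) (c : C) (hn : 0 < n) (hc : c ∈ 𝒞 n),
      Proj.awayι 𝒜 (ι c) (ι_mem 𝒜 𝒞 ι hιdeg hc) hn ≫ π =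
        Spec.map (CommRingCat.ofHom (awayInc 𝒜 𝒞 ι hιdeg c)) ≫ Proj.awayι 𝒞 c hc hn)

include hπ in
theorem pi_apply_awayι {n : ℕ} (c : C) (hn : 0 < n) (hc : c ∈ 𝒞 n)
    (y : Spec (CommRingCat.of (Away 𝒜 (ι c)))) :
    π.base ((Proj.awayι 𝒜 (ι c) (ι_mem 𝒜 𝒞 ι hιdeg hc) hn).base y) =
      (Proj.awayι 𝒞 c hc hn).base
        ((Spec.map (CommRingCat.ofHom (awayInc 𝒜 𝒞 ι hιdeg c))).base y) :=
  congrArg (fun ψ : Spec (CommRingCat.of (Away 𝒜 (ι c))) ⟶ Proj 𝒞 => ψ.base y) (hπ n c hn hc)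

include hπ in
theorem basicOpen_le_preimage {n : ℕ} (c : C) (hn : 0 < n) (hc : c ∈ 𝒞 n) :
    Proj.basicOpen 𝒜 (ι c) ≤ π ⁻¹ᵁ Proj.basicOpen 𝒞 c := by
  intro x hx
  rw [← Proj.opensRange_awayι 𝒜 (ι c) (ι_mem 𝒜 𝒞 ι hιdeg hc) hn] at hx
  obtain ⟨y, rfl⟩ := hx
  change π.base _ ∈ Proj.basicOpen 𝒞 c
  rw [pi_apply_awayι 𝒜 𝒞 ι hιdeg π hπ c hn hc y, ← Proj.opensRange_awayι 𝒞 c hc hn]
  exact ⟨_, rfl⟩

include hGdeg hπ in
theorem preimage_basicOpen {n : ℕ} (c : C) (hn : 0 < n) (hc : c ∈ 𝒞 n) :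
    π ⁻¹ᵁ Proj.basicOpen 𝒞 c = Proj.basicOpen 𝒜 (ι c) := by
  refine le_antisymm ?_ (basicOpen_le_preimage 𝒜 𝒞 ι hιdeg π hπ c hn hc)
  intro x hx
  obtain ⟨n', hn', c', hc', hx'⟩ := exists_basicOpen 𝒜 hGdeg 𝒞 ι hιdeg x
  rw [← Proj.opensRange_awayι 𝒜 (ι c') (ι_mem 𝒜 𝒞 ι hιdeg hc') hn'] at hx'
  obtain ⟨y, rfl⟩ := hx'
  change π.base _ ∈ Proj.basicOpen 𝒞 c at hx
  rw [pi_apply_awayι 𝒜 𝒞 ι hιdeg π hπ c' hn' hc' y] at hx
  have h1 : (Spec.map (CommRingCat.ofHom (awayInc 𝒜 𝒞 ι hιdeg c'))).base y ∈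
      Proj.awayι 𝒞 c' hc' hn' ⁻¹ᵁ Proj.basicOpen 𝒞 c := hx
  rw [Proj.awayι_preimage_basicOpen 𝒞 hc' hn' hc hn] at h1
  have h2 : y ∈ Proj.awayι 𝒜 (ι c') (ι_mem 𝒜 𝒞 ι hιdeg hc') hn' ⁻¹ᵁ
      Proj.basicOpen 𝒜 (ι c) := by
    rw [Proj.awayι_preimage_basicOpen 𝒜 (ι_mem 𝒜 𝒞 ι hιdeg hc') hn'
      (ι_mem 𝒜 𝒞 ι hιdeg hc) hn]
    have h3 : awayInc 𝒜 𝒞 ι hιdeg c' (Away.isLocalizationElem hc' hc) =
        Away.isLocalizationElem (ι_mem 𝒜 𝒞 ι hιdeg hc') (ι_mem 𝒜 𝒞 ι hιdeg hc) := by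
      unfold Away.isLocalizationElem
      rw [awayInc_mk]
      congr 1
      exact map_pow ι c n'
    rw [← h3]
    exact h1
  exact h2

end preimage

section basis

/-- a point of `Proj 𝒞` lies in `D₊(c')` for some homogeneous `c'` of positive degree. -/
theorem exists_basicOpen_self (y : Proj 𝒞) :
    ∃ (n : ℕ) (_ : 0 < n) (c : C) (_ : c ∈ 𝒞 n), y ∈ Proj.basicOpen 𝒞 c := by
  by_contra! H
  refine y.not_irrelevant_le ?_
  rw [HomogeneousIdeal.irrelevant_le]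
  intro i hi a ha
  have := H i hi a ha
  rw [Proj.mem_basicOpen, not_not] at this
  exact this

/-- the opens `D₊(c)`, `c` homogeneous of positive degree, form a basis of `Proj 𝒞`. -/
theorem exists_basicOpen_le (U : (Proj 𝒞).Opens) (y : Proj 𝒞) (hy : y ∈ U) :
    ∃ (n : ℕ) (_ : 0 < n) (c : C) (_ : c ∈ 𝒞 n),
      y ∈ Proj.basicOpen 𝒞 c ∧ Proj.basicOpen 𝒞 c ≤ U := by
  obtain ⟨_, ⟨a, rfl⟩, hya, haU⟩ :=
    TopologicalSpace.Opens.isBasis_iff_nbhd.mp (Proj.isBasis_basicOpen 𝒞) hy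
  rw [Proj.basicOpen_eq_iSup_proj] at hya
  obtain ⟨i, hi⟩ := TopologicalSpace.Opens.mem_iSup.mp hya
  obtain ⟨n', hn', c', hc', hyc'⟩ := exists_basicOpen_self 𝒞 y
  refine ⟨i + n', Nat.add_pos_right i hn', GradedRing.proj 𝒞 i a * c', ?_, ?_, ?_⟩
  · exact SetLike.mul_mem_graded (by rw [GradedRing.proj_apply]; exact SetLike.coe_mem _) hc'
  · rw [Proj.basicOpen_mul]
    exact ⟨hi, hyc'⟩
  · rw [Proj.basicOpen_mul]
    refine le_trans inf_le_left (le_trans ?_ haU)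
    rw [Proj.basicOpen_eq_iSup_proj 𝒞 a]
    exact le_iSup (fun i => Proj.basicOpen 𝒞 (GradedRing.proj 𝒞 i a)) i

end basis

section main

open Groth.Agent.Lib.Helper20 Groth.Agent.Lib.Seat72.QuotGlue

theorem awayAct_comp_awayInc {n : ℕ} (c : C) (hc : c ∈ 𝒞 n) (σ : G) :
    (awayAct 𝒜 hGdeg σ (ι c) (ι_inv 𝒜 𝒞 ι hιdeg hc σ)).comp (awayInc 𝒜 𝒞 ι hιdeg c) =
      awayInc 𝒜 𝒞 ι hιdeg c := by
  ext z
  obtain ⟨k, x, hx, rfl⟩ := Away.mk_surjective 𝒞 hc z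
  rw [RingHom.comp_apply, awayInc_mk, awayAct_mk]
  simp only [ι_inv 𝒜 𝒞 ι hιdeg hx σ]

theorem rho_hom_eq (ρ : G →* Aut (Proj 𝒜)) (g : G) : (ρ g).hom = (ρ g⁻¹).inv := by
  rw [map_inv, Aut.Aut_inv_def]
  rfl

theorem isQuot_proj (hι : Function.Injective ι)
    (ρ : G →* Aut (Proj 𝒜))
    (hρ : ∀ (σ : G) (n : ℕ) (f : A) (hn : 0 < n) (hf : f ∈ 𝒜 n)
      (θ : CommRingCat.of (HomogeneousLocalization.Away 𝒜 f) ⟶ CommRingCat.of (HomogeneousLocalization.Away 𝒜 (σ • f))),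
      (algebraMap (HomogeneousLocalization.Away 𝒜 (σ • f)) (Localization.Away (σ • f))).comp θ.hom =
        (Localization.awayMap (MulSemiringAction.toRingHom G A σ) f).comp
          (algebraMap (HomogeneousLocalization.Away 𝒜 f) (Localization.Away f)) →
      Proj.awayι 𝒜 (σ • f) (hGdeg σ n f hf) hn ≫ (ρ σ).inv = Spec.map θ ≫ Proj.awayι 𝒜 f hf hn)
    (π : Proj 𝒜 ⟶ Proj 𝒞)
    (hπ : ∀ (n : ℕ) (c : C) (hn : 0 < n) (hc : c ∈ 𝒞 n)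
      (θ : CommRingCat.of (HomogeneousLocalization.Away 𝒞 c) ⟶ CommRingCat.of (HomogeneousLocalization.Away 𝒜 (ι c))),
      (algebraMap (HomogeneousLocalization.Away 𝒜 (ι c)) (Localization.Away (ι c))).comp θ.hom =
        (Localization.awayMap ι.toRingHom c).comp
          (algebraMap (HomogeneousLocalization.Away 𝒞 c) (Localization.Away c)) →
      Proj.awayι 𝒜 (ι c) ((hιdeg n (ι c)).mp (Submodule.mem_map_of_mem hc)).1 hn ≫ π =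
        Spec.map θ ≫ Proj.awayι 𝒞 c hc hn) :
    SGA1.IsQuot ρ π := by
  have hπ' := chart_pi 𝒜 𝒞 ι hιdeg π hπ
  have hpre := fun {n : ℕ} (c : C) (hn : 0 < n) (hc : c ∈ 𝒞 n) =>
    preimage_basicOpen 𝒜 hGdeg 𝒞 ι hιdeg π hπ' c hn hc
  -- chart form of the action
  have hchart : ∀ (g : G) (n : ℕ) (c : C) (hn : 0 < n) (hc : c ∈ 𝒞 n),
      Proj.awayι 𝒜 (ι c) (ι_mem 𝒜 𝒞 ι hιdeg hc) hn ≫ (ρ g).hom =
        Spec.map (CommRingCat.ofHom (awayAct 𝒜 hGdeg g⁻¹ (ι c) (ι_inv 𝒜 𝒞 ι hιdeg hc g⁻¹))) ≫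
          Proj.awayι 𝒜 (ι c) (ι_mem 𝒜 𝒞 ι hιdeg hc) hn := by
    intro g n c hn hc
    rw [rho_hom_eq 𝒜 ρ g]
    exact chart_rho 𝒜 hGdeg ρ hρ g⁻¹ n (ι c) hn (ι_mem 𝒜 𝒞 ι hιdeg hc)
      (ι_inv 𝒜 𝒞 ι hιdeg hc g⁻¹)
  -- invariance
  have hinv : ∀ g : G, (ρ g).hom ≫ π = π := by
    intro g
    let J := {t : ℕ × C // 0 < t.1 ∧ t.2 ∈ 𝒞 t.1}
    let 𝒰 : (Proj 𝒜).OpenCover := Scheme.Cover.mkOfCovers J
      (fun j => Spec (CommRingCat.of (Away 𝒜 (ι j.1.2))))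
      (fun j => Proj.awayι 𝒜 (ι j.1.2) (ι_mem 𝒜 𝒞 ι hιdeg j.2.2) j.2.1)
      (by
        intro x
        obtain ⟨n, hn, c, hc, hx⟩ := exists_basicOpen 𝒜 hGdeg 𝒞 ι hιdeg x
        rw [← Proj.opensRange_awayι 𝒜 (ι c) (ι_mem 𝒜 𝒞 ι hιdeg hc) hn] at hx
        obtain ⟨y, hy⟩ := hx
        exact ⟨⟨(n, c), hn, hc⟩, y, hy⟩)
    refine Scheme.Cover.hom_ext 𝒰 _ _ fun j => ?_
    obtain ⟨⟨n, c⟩, hn, hc⟩ := j
    change 0 < n at hn
    change c ∈ 𝒞 n at hc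
    change Proj.awayι 𝒜 (ι c) (ι_mem 𝒜 𝒞 ι hιdeg hc) hn ≫ (ρ g).hom ≫ π =
      Proj.awayι 𝒜 (ι c) (ι_mem 𝒜 𝒞 ι hιdeg hc) hn ≫ π
    rw [← Category.assoc, hchart g n c hn hc, Category.assoc, hπ' n c hn hc, ← Category.assoc,
      ← Spec.map_comp, ← CommRingCat.ofHom_comp,
      awayAct_comp_awayInc 𝒜 hGdeg 𝒞 ι hιdeg c hc g⁻¹]
  -- affineness
  have haff : IsAffineHom π := by
    apply isAffineHom_of_forall_exists_isAffineOpen
    intro y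
    obtain ⟨n, hn, c, hc, hy⟩ := exists_basicOpen_self 𝒞 y
    refine ⟨Proj.basicOpen 𝒞 c, hy, Proj.isAffineOpen_basicOpen 𝒞 c hc hn, ?_⟩
    rw [hpre c hn hc]
    exact Proj.isAffineOpen_basicOpen 𝒜 (ι c) (ι_mem 𝒜 𝒞 ι hιdeg hc) hn
  -- the conditions on the basis
  have hB : ∀ (n : ℕ) (c : C) (hn : 0 < n) (hc : c ∈ 𝒞 n),
      QuotAt (fun g : G => (ρ g).hom) π (Proj.basicOpen 𝒞 c) (π ⁻¹ᵁ Proj.basicOpen 𝒞 c) := by
    intro n c hn hc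
    rw [hpre c hn hc, ← Proj.opensRange_awayι 𝒜 (ι c) (ι_mem 𝒜 𝒞 ι hιdeg hc) hn,
      ← Proj.opensRange_awayι 𝒞 c hc hn, ← Scheme.Hom.image_top_eq_opensRange,
      ← Scheme.Hom.image_top_eq_opensRange]
    refine quotAt_of_isOpenImmersion _ _
      (Spec.map (CommRingCat.ofHom (awayInc 𝒜 𝒞 ι hιdeg c)))
      (fun g : G => Spec.map (CommRingCat.ofHom
        (awayAct 𝒜 hGdeg g⁻¹ (ι c) (ι_inv 𝒜 𝒞 ι hιdeg hc g⁻¹))))
      (hπ' n c hn hc) (fun g => hchart g n c hn hc) ?_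
    refine quotAt_spec _ _ ?_ ?_
    · exact awayInc_injective 𝒜 𝒞 ι hιdeg hι c hc
    · intro s hs
      refine mem_range_awayInc 𝒜 hGdeg 𝒞 ι hιdeg c hc s fun σ => ?_
      have := hs σ⁻¹
      simp only [CommRingCat.hom_ofHom] at this
      convert this using 2
      simp
  refine isQuot_of_basis ρ haff hinv
    {V | ∃ (n : ℕ) (_ : 0 < n) (c : C) (_ : c ∈ 𝒞 n), V = Proj.basicOpen 𝒞 c} ?_ ?_ ?_
  · intro U y hy
    obtain ⟨n, hn, c, hc, hyc, hcU⟩ := exists_basicOpen_le 𝒞 U y hy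
    exact ⟨_, ⟨n, hn, c, hc, rfl⟩, hyc, hcU⟩
  · rintro _ ⟨n, hn, c, hc, rfl⟩
    exact hB n c hn hc
  · rintro _ ⟨n, hn, c, hc, rfl⟩ _ ⟨n', hn', c', hc', rfl⟩
    rw [← Proj.basicOpen_mul]
    exact hB (n + n') (c * c') (Nat.add_pos_left hn n') (SetLike.mul_mem_graded hc hc')

end main

end Groth.Agent.Lib.Seat72.ProjQuot
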