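import Mathlib
import Groth.Agent.S13597
import Groth.Agent.Lib.Helper20QuotTop
import Groth.Agent.Lib.Helper20QuotRestrict
import Groth.Agent.Lib.Helper10GaloisOrbit

/-!
# Seat72: field valued points of a quotient by a finite group

For a quotient `p : X ⟶ Y` of `X` by a finite group `G` (`SGA1.IsQuot`), two `L`-valued points of
`X` (`L` any field) with the same image in `Y` differ by an element of `G`.
-/

set_option autoImplicit false
set_option maxSynthPendingDepth 3
set_option linter.style.haveILetI false
set_option linter.unusedSectionVars false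

universe u

open AlgebraicGeometry CategoryTheory CategoryTheory.Limits

namespace Groth.Agent.Lib.Seat72.QuotPts

section Field

/-- Two embeddings over `F` of a normal extension `N/F` into a field differ by an automorphism of
`N/F`. -/
theorem exists_algEquiv_comp_eq_of_normal (F N L : Type*) [Field F] [Field N] [Algebra F N]
    [Normal F N] [Field L] [Algebra F L] (α β : N →ₐ[F] L) :
    ∃ τ : N ≃ₐ[F] N, ∀ c, β c = α (τ c) := by
  haveI : Algebra.IsAlgebraic F N := Normal.toIsAlgebraic
  have hmem : ∀ c, β c ∈ α.range := by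
    intro c
    have hint : IsIntegral F (β c) := (Algebra.IsIntegral.isIntegral (R := F) c).map β
    refine hint.mem_range_algHom_of_minpoly_splits ?_ α
    rw [minpoly.algHom_eq β β.injective]
    exact Normal.splits inferInstance c
  let e := AlgEquiv.ofInjective α α.injective
  let σ₀ : N →ₐ[F] N := e.symm.toAlgHom.comp (β.codRestrict α.range hmem)
  have hσ₀ : ∀ c, α (σ₀ c) = β c := by
    intro c
    have h1 : (e (σ₀ c) : L) = α (σ₀ c) := rfl
    rw [← h1]
    simp [σ₀]
  let σ := (Algebra.IsAlgebraic.algEquivEquivAlgHom F N).symm σ₀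
  refine ⟨σ, fun c => ?_⟩
  have h2 : (σ : N →ₐ[F] N) = σ₀ :=
    (Algebra.IsAlgebraic.algEquivEquivAlgHom F N).apply_symm_apply σ₀
  have h3 : σ c = σ₀ c := congrArg (fun φ : N →ₐ[F] N => φ c) h2
  rw [h3, hσ₀]

end Field

section Points

open Groth.Agent.Lib.Helper20 Groth.Agent.Lib.Helper10.GaloisOrbit

variable {X Y : Scheme.{u}} {G : Type u} [Group G] [Finite G] {ρ : G →* Aut X} {p : X ⟶ Y}

/-- two field valued points at the same point `x`, with the same image in the quotient, differ by
an element of the stabilizer. -/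
theorem exists_eq_comp_rho_of_same_point (hp : SGA1.IsQuot ρ p) (L : Type u) [Field L]
    (x : X) (α β : X.residueField x ⟶ CommRingCat.of L)
    (hαβ : p.residueFieldMap x ≫ α = p.residueFieldMap x ≫ β) :
    ∃ g : G, Spec.map β ≫ X.fromSpecResidueField x =
      (Spec.map α ≫ X.fromSpecResidueField x) ≫ (ρ g).hom := by
  obtain ⟨hnorm, hstab⟩ := Groth.Agent.S13597.result ρ p hp x
  letI algN : Algebra (Y.residueField (p.base x)) (X.residueField x) :=
    (p.residueFieldMap x).hom.toAlgebra
  letI algL : Algebra (Y.residueField (p.base x)) L := (p.residueFieldMap x ≫ α).hom.toAlgebra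
  haveI : Normal (Y.residueField (p.base x)) (X.residueField x) := hnorm
  let α' : X.residueField x →ₐ[Y.residueField (p.base x)] L :=
    { α.hom with commutes' := fun c => rfl }
  let β' : X.residueField x →ₐ[Y.residueField (p.base x)] L :=
    { β.hom with
      commutes' := fun c =>
        (congrArg (fun φ : Y.residueField (p.base x) ⟶ CommRingCat.of L => φ.hom c) hαβ).symm }
  obtain ⟨τ, hτ⟩ := exists_algEquiv_comp_eq_of_normal (Y.residueField (p.base x))
    (X.residueField x) L α' β'
  let τi : X.residueField x ≅ X.residueField x := τ.toRingEquiv.toCommRingCatIso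
  have hτi : p.residueFieldMap x ≫ τi.hom = p.residueFieldMap x := by
    ext c
    exact τ.commutes c
  obtain ⟨g, e, hg⟩ := hstab τi hτi
  refine ⟨g, ?_⟩
  have hβ : β = τi.hom ≫ α := by
    ext c
    exact hτ c
  rw [hβ, Spec.map_comp, Category.assoc, Category.assoc, hg, Spec.map_comp, Category.assoc]
  congr 1
  rw [Scheme.residueFieldCongr_inv, Scheme.residueFieldCongr_fromSpecResidueField,
    Scheme.Hom.SpecMap_residueFieldMap_fromSpecResidueField]

/-- **Field valued points of a quotient**: two `L`-points of `X` with the same image in `Y = X/G`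
differ by an element of `G`. -/
theorem exists_eq_comp_rho (hp : SGA1.IsQuot ρ p) (L : Type u) [Field L]
    (a b : Spec (CommRingCat.of L) ⟶ X) (hab : a ≫ p = b ≫ p) :
    ∃ g : G, b = a ≫ (ρ g).hom := by
  have hpt : p.base (a (IsLocalRing.closedPoint L)) = p.base (b (IsLocalRing.closedPoint L)) :=
    congrArg (fun φ : Spec (CommRingCat.of L) ⟶ Y => φ (IsLocalRing.closedPoint L)) hab
  obtain ⟨g₀, hg₀⟩ := (fibre_iff_orbit hp _ _).mp hpt
  set x := b (IsLocalRing.closedPoint L) with hx
  have ha'x : (a ≫ (ρ g₀).hom) (IsLocalRing.closedPoint L) = x := hg₀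
  obtain ⟨α, hα⟩ := exists_eq_comp L x (a ≫ (ρ g₀).hom) ha'x
  obtain ⟨β, hβ⟩ := exists_eq_comp L x b rfl
  have hab' : (a ≫ (ρ g₀).hom) ≫ p = b ≫ p := by
    rw [Category.assoc, hp.inv, hab]
  have hαβ : p.residueFieldMap x ≫ α = p.residueFieldMap x ≫ β := by
    have h1 : Spec.map (p.residueFieldMap x ≫ α) ≫ Y.fromSpecResidueField (p.base x) =
        Spec.map (p.residueFieldMap x ≫ β) ≫ Y.fromSpecResidueField (p.base x) := by
      rw [Spec.map_comp, Spec.map_comp, Category.assoc, Category.assoc,
        Scheme.Hom.SpecMap_residueFieldMap_fromSpecResidueField, ← Category.assoc,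
        ← Category.assoc, ← hα, ← hβ]
      exact hab'
    have h2 : (⟨p.base x, p.residueFieldMap x ≫ α⟩ :
        Σ y : Y, Y.residueField y ⟶ CommRingCat.of L) = ⟨p.base x, p.residueFieldMap x ≫ β⟩ :=
      (Scheme.SpecToEquivOfField L Y).symm.injective h1
    exact eq_of_heq (Sigma.mk.inj h2).2
  obtain ⟨g, hg⟩ := exists_eq_comp_rho_of_same_point hp L x α β hαβ
  refine ⟨g * g₀, ?_⟩
  rw [rho_mul_hom, ← Category.assoc, hβ, hα]
  exact hg

end Points

end Groth.Agent.Lib.Seat72.QuotPts
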