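import Mathlib
import Groth.Agent.Lib.Seat72QuotPts

/-!
# Seat72: the map between quotients induced by an equivariant monomorphism is universally
injective
-/

set_option autoImplicit false
set_option maxSynthPendingDepth 3
set_option linter.style.haveILetI false
set_option linter.unusedSectionVars false

universe u

open AlgebraicGeometry CategoryTheory CategoryTheory.Limits

namespace Groth.Agent.Lib.Seat72.QuotInj

open Groth.Agent.Lib.Helper20 Groth.Agent.Lib.Seat72.QuotPts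

variable {X XG W WG : Scheme.{u}} {G : Type u} [Group G] [Finite G]
  {ρ : G →* Aut X} {p : X ⟶ XG} {ρW : G →* Aut W} {pW : W ⟶ WG}

/-- Let `j : W ⟶ X` be an equivariant monomorphism, `p : X ⟶ X/G` and `pW : W ⟶ W/G` quotients
and `φ : W/G ⟶ X/G` the induced morphism. Then `φ` is universally injective. -/
theorem universallyInjective_of_mono (hP : SGA1.IsQuot ρ p) (hPW : SGA1.IsQuot ρW pW)
    (j : W ⟶ X) [Mono j] (hρW : ∀ g, (ρW g).hom ≫ j = j ≫ (ρ g).hom)
    (φ : WG ⟶ XG) (hφ : pW ≫ φ = j ≫ p) : UniversallyInjective φ := by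
  rw [UniversallyInjective.iff_diagonal]
  have hsurj : Surjective pW := ⟨surjective_of_isQuot hPW⟩
  have hPi : Surjective (pullback.map (pW ≫ φ) (pW ≫ φ) φ φ pW pW (𝟙 XG)
      ((Category.comp_id _).trans rfl) ((Category.comp_id _).trans rfl)) :=
    MorphismProperty.pullbackMap (P := @Surjective) hsurj hsurj rfl rfl
  refine ⟨fun z => ?_⟩
  obtain ⟨z', rfl⟩ := hPi.surj z
  let L := (pullback (pW ≫ φ) (pW ≫ φ)).residueField z'
  let c : Spec L ⟶ pullback (pW ≫ φ) (pW ≫ φ) :=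
    (pullback (pW ≫ φ) (pW ≫ φ)).fromSpecResidueField z'
  obtain ⟨w₁, hw₁⟩ : ∃ w, w = c ≫ pullback.fst (pW ≫ φ) (pW ≫ φ) := ⟨_, rfl⟩
  obtain ⟨w₂, hw₂⟩ : ∃ w, w = c ≫ pullback.snd (pW ≫ φ) (pW ≫ φ) := ⟨_, rfl⟩
  have h12 : (w₁ ≫ j) ≫ p = (w₂ ≫ j) ≫ p := by
    rw [hw₁, hw₂]
    simp only [Category.assoc]
    rw [← hφ, pullback.condition]
  obtain ⟨g, hg⟩ := exists_eq_comp_rho hP L (w₁ ≫ j) (w₂ ≫ j) h12
  have hw : w₂ = w₁ ≫ (ρW g).hom := by
    rw [← cancel_mono j, Category.assoc, hρW, ← Category.assoc]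
    exact hg
  have hu : w₂ ≫ pW = w₁ ≫ pW := by rw [hw, Category.assoc, hPW.inv]
  have hfac : c ≫ pullback.map (pW ≫ φ) (pW ≫ φ) φ φ pW pW (𝟙 XG)
      ((Category.comp_id _).trans rfl) ((Category.comp_id _).trans rfl) =
      (w₁ ≫ pW) ≫ pullback.diagonal φ := by
    apply pullback.hom_ext
    · simp only [Category.assoc, pullback.lift_fst, pullback.diagonal_fst, Category.comp_id]
      rw [hw₁, Category.assoc]
    · simp only [Category.assoc, pullback.lift_snd, pullback.diagonal_snd, Category.comp_id]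
      rw [← hu, hw₂, Category.assoc]
  refine ⟨(w₁ ≫ pW) (IsLocalRing.closedPoint L), ?_⟩
  have h1 := congrArg (fun ψ : Spec L ⟶ pullback φ φ => ψ (IsLocalRing.closedPoint L)) hfac
  have h2 : c (IsLocalRing.closedPoint L) = z' := Scheme.fromSpecResidueField_apply z' _
  simp only [Scheme.Hom.comp_apply] at h1
  rw [h2] at h1
  exact h1.symm

/-- the set-theoretic image of the induced map between quotients. -/
theorem range_eq_image (hPW : SGA1.IsQuot ρW pW) (j : W ⟶ X) (φ : WG ⟶ XG)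
    (hφ : pW ≫ φ = j ≫ p) : Set.range φ.base = p.base '' Set.range j.base := by
  have hs := surjective_of_isQuot hPW
  have hpt : ∀ w : W, φ.base (pW.base w) = p.base (j.base w) := fun w =>
    congrArg (fun ψ : W ⟶ XG => ψ.base w) hφ
  ext u
  constructor
  · rintro ⟨v, rfl⟩
    obtain ⟨w, rfl⟩ := hs v
    exact ⟨j.base w, ⟨w, rfl⟩, (hpt w).symm⟩
  · rintro ⟨_, ⟨w, rfl⟩, rfl⟩
    exact ⟨pW.base w, hpt w⟩

end Groth.Agent.Lib.Seat72.QuotInj
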