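import Mathlib
import Groth.Agent.S0415
import Groth.Agent.S13596
import Groth.Agent.Lib.Seat72QuotInj

/-!
# Seat72: the quotient of a stable closed subscheme maps onto the scheme-theoretic image of the
subscheme in the quotient by a schematically dominant universal homeomorphism
-/

set_option autoImplicit false
set_option maxSynthPendingDepth 3
set_option linter.style.haveILetI false
set_option linter.unusedSectionVars false

universe u

open AlgebraicGeometry CategoryTheory CategoryTheory.Limits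

namespace Groth.Agent.Lib.Seat72.QuotImg

open Groth.Agent.Lib.Helper20 Groth.Agent.Lib.Seat72.QuotPts Groth.Agent.Lib.Seat72.QuotInj

section integral

variable {W WG T : Scheme.{u}} {G : Type u} [Group G] [Finite G]
  {ρW : G →* Aut W} {pW : W ⟶ WG}

/-- If `pW : W ⟶ W/G` is a quotient and `pW ≫ φ` is integral, then `φ` is integral. -/
theorem isIntegralHom_of_comp (hPW : SGA1.IsQuot ρW pW) (φ : WG ⟶ T)
    (h : IsIntegralHom (pW ≫ φ)) : IsIntegralHom φ := by
  have haff : IsAffineHom φ := by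
    refine ⟨fun U hU => ?_⟩
    apply isAffineOpen_of_isQuot hPW (φ ⁻¹ᵁ U)
    rw [← Scheme.Hom.comp_preimage]
    exact hU.preimage (pW ≫ φ)
  refine ⟨fun U hU => ?_⟩
  have h1 : ((φ.app U ≫ pW.app (φ ⁻¹ᵁ U)).hom).IsIntegral := by
    have h2 := h.isIntegral_app U hU
    rw [Scheme.Hom.comp_app] at h2
    exact h2
  rw [CommRingCat.hom_comp] at h1
  exact RingHom.IsIntegral.tower_bot _ _ (hPW.injective _) h1

end integral

section ker

theorem ker_toImage_eq_bot {X Y : Scheme.{u}} (f : X ⟶ Y) [QuasiCompact f] :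
    f.toImage.ker = ⊥ := by
  refine Scheme.IdealSheafData.ext_of_iSup_eq_top
    (fun V : Y.affineOpens => ⟨f.imageι ⁻¹ᵁ V.1, V.2.preimage f.imageι⟩) ?_ ?_
  · change ⨆ V : Y.affineOpens, f.imageι ⁻¹ᵁ V.1 = ⊤
    rw [← Scheme.Hom.preimage_iSup, iSup_affineOpens_eq_top, Scheme.Hom.preimage_top]
  · intro V
    rw [Scheme.Hom.ker_apply, Scheme.IdealSheafData.ideal_bot, Pi.bot_apply,
      ← RingHom.injective_iff_ker_eq_bot]
    exact f.toImage_app_injective V

end ker

section univinj

theorem universallyInjective_of_comp {X Y Z : Scheme.{u}} (f : X ⟶ Y) (g : Y ⟶ Z)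
    (h : UniversallyInjective (f ≫ g)) : UniversallyInjective f := by
  have e1 := (tfae_universallyInjective f).out 0 1
  have e2 := (tfae_universallyInjective (f ≫ g)).out 0 1
  rw [e1]
  rw [e2] at h
  intro K _ g₁ g₂ h12
  apply h K
  change g₁ ≫ f ≫ g = g₂ ≫ f ≫ g
  change g₁ ≫ f = g₂ ≫ f at h12
  rw [← Category.assoc, h12, Category.assoc]

end univinj

section main

theorem isUnivHomeo_and_dominant {X Y Z W : Scheme.{u}} {G : Type u} [Group G] [Finite G]
    (ρ : G →* Aut X) (q : X ⟶ Y) (hquot : SGA1.IsQuot ρ q)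
    (i : Z ⟶ X) [IsClosedImmersion i] (ρZ : G →* Aut Z)
    (hρZ : ∀ σ : G, (ρZ σ).hom ≫ i = i ≫ (ρ σ).hom)
    (r : Z ⟶ W) (hr : SGA1.IsQuot ρZ r)
    (m : W ⟶ (i ≫ q).ker.subscheme) (hm : r ≫ m ≫ (i ≫ q).ker.subschemeι = i ≫ q) :
    FlatMor.IsUnivHomeo m ∧ IsSchemeTheoreticallyDominant m := by
  have hq : IsIntegralHom q := Groth.Agent.S13596.result ρ q hquot
  have hiq : IsIntegralHom (i ≫ q) := inferInstance
  have hφint : IsIntegralHom (m ≫ (i ≫ q).ker.subschemeι) :=
    isIntegralHom_of_comp hr (m ≫ (i ≫ q).ker.subschemeι) (by rw [hm]; exact hiq)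
  have hmint : IsIntegralHom m := IsIntegralHom.of_comp m (i ≫ q).ker.subschemeι
  have hφinj : UniversallyInjective (m ≫ (i ≫ q).ker.subschemeι) :=
    universallyInjective_of_mono hquot hr i hρZ (m ≫ (i ≫ q).ker.subschemeι) hm
  have hminj : UniversallyInjective m := universallyInjective_of_comp m _ hφinj
  have hrs : Function.Surjective r.base := surjective_of_isQuot hr
  have hmsurj : Surjective m := by
    refine ⟨fun z => ?_⟩
    have hz : (i ≫ q).ker.subschemeι z ∈ Set.range (i ≫ q).ker.subschemeι := ⟨z, rfl⟩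
    have hcl : IsClosed (Set.range (i ≫ q)) := (i ≫ q).isClosedMap.isClosed_range
    rw [Scheme.IdealSheafData.range_subschemeι, Scheme.Hom.support_ker, hcl.closure_eq] at hz
    obtain ⟨x, hx⟩ := hz
    refine ⟨r x, ?_⟩
    apply (i ≫ q).ker.subschemeι.injective
    rw [← hx]
    exact congrArg (fun ψ : Z ⟶ Y => ψ x) hm
  refine ⟨(Groth.Agent.S0415.result m).mpr ⟨hmint, hminj, hmsurj⟩, ⟨?_⟩⟩
  have h1 : r ≫ m = (i ≫ q).toImage := by
    rw [← cancel_mono (i ≫ q).imageι, Scheme.Hom.toImage_imageι, Category.assoc]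
    exact hm
  have h2 : m.ker ≤ (r ≫ m).ker := Scheme.Hom.le_ker_comp r m
  rw [h1, ker_toImage_eq_bot] at h2
  exact le_bot_iff.mp h2

end main

end Groth.Agent.Lib.Seat72.QuotImg
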