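import Mathlib
import Groth.Agent.Lib.Seat72QuotImg

/-!
# Seat72: quotients by finite groups commute with base change up to universal homeomorphism
-/

set_option autoImplicit false
set_option maxSynthPendingDepth 3
set_option linter.style.haveILetI false
set_option linter.unusedSectionVars false

universe u

open AlgebraicGeometry CategoryTheory CategoryTheory.Limits

namespace Groth.Agent.Lib.Seat72.QuotBC

open Groth.Agent.Lib.Helper20 Groth.Agent.Lib.Seat72.QuotPts Groth.Agent.Lib.Seat72.QuotInj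
open Groth.Agent.Lib.Seat72.QuotImg

section orbit

variable {W WG T : Scheme.{u}} {G : Type u} [Group G] [Finite G]
  {ρW : G →* Aut W} {pW : W ⟶ WG}

/-- Let `pW : W ⟶ W/G` be a quotient and `φ : W/G ⟶ T` a morphism such that two field-valued
points of `W` with the same image in `T` lie in the same orbit. Then `φ` is universally
injective. -/
theorem universallyInjective_of_orbit (hPW : SGA1.IsQuot ρW pW) (φ : WG ⟶ T)
    (horb : ∀ (L : Type u) [Field L] (a b : Spec (CommRingCat.of L) ⟶ W),
      a ≫ pW ≫ φ = b ≫ pW ≫ φ → ∃ g : G, b = a ≫ (ρW g).hom) :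
    UniversallyInjective φ := by
  rw [UniversallyInjective.iff_diagonal]
  have hsurj : Surjective pW := ⟨surjective_of_isQuot hPW⟩
  have hPi : Surjective (pullback.map (pW ≫ φ) (pW ≫ φ) φ φ pW pW (𝟙 T)
      ((Category.comp_id _).trans rfl) ((Category.comp_id _).trans rfl)) :=
    MorphismProperty.pullbackMap (P := @Surjective) hsurj hsurj rfl rfl
  refine ⟨fun z => ?_⟩
  obtain ⟨z', rfl⟩ := hPi.surj z
  let L := (pullback (pW ≫ φ) (pW ≫ φ)).residueField z'
  let c : Spec L ⟶ pullback (pW ≫ φ) (pW ≫ φ) :=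
    (pullback (pW ≫ φ) (pW ≫ φ)).fromSpecResidueField z'
  obtain ⟨w₁, hw₁⟩ : ∃ w, w = c ≫ pullback.fst (pW ≫ φ) (pW ≫ φ) := ⟨_, rfl⟩
  obtain ⟨w₂, hw₂⟩ : ∃ w, w = c ≫ pullback.snd (pW ≫ φ) (pW ≫ φ) := ⟨_, rfl⟩
  have h12 : w₁ ≫ pW ≫ φ = w₂ ≫ pW ≫ φ := by
    rw [hw₁, hw₂]
    simp only [Category.assoc]
    rw [pullback.condition]
  obtain ⟨g, hw⟩ := horb L w₁ w₂ h12
  have hu : w₂ ≫ pW = w₁ ≫ pW := by rw [hw, Category.assoc, hPW.inv]
  have hfac : c ≫ pullback.map (pW ≫ φ) (pW ≫ φ) φ φ pW pW (𝟙 T)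
      ((Category.comp_id _).trans rfl) ((Category.comp_id _).trans rfl) =
      (w₁ ≫ pW) ≫ pullback.diagonal φ := by
    apply pullback.hom_ext
    · simp only [Category.assoc, pullback.lift_fst, pullback.diagonal_fst, Category.comp_id]
      rw [hw₁, Category.assoc]
    · simp only [Category.assoc, pullback.lift_snd, pullback.diagonal_snd, Category.comp_id]
      rw [← hu, hw₂, Category.assoc]
  refine ⟨(w₁ ≫ pW) (IsLocalRing.closedPoint L), ?_⟩
  have h1 := congrArg (fun ψ : Spec L ⟶ pullback φ φ => ψ (IsLocalRing.closedPoint L)) hfac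
  have h2 : c (IsLocalRing.closedPoint L) = z' := Scheme.fromSpecResidueField_apply z' _
  simp only [Scheme.Hom.comp_apply] at h1
  rw [h2] at h1
  exact h1.symm

end orbit

section main

theorem isUnivHomeo_baseChange {X Y S S' Y' : Scheme.{u}} {G : Type u} [Group G] [Finite G]
    (ρ : G →* Aut X) (f : X ⟶ S)
    (q : X ⟶ Y) (h : Y ⟶ S) (hq : q ≫ h = f) (hquot : SGA1.IsQuot ρ q)
    (g : S' ⟶ S)
    (ρ' : G →* Aut (pullback f g))
    (hρ' : ∀ σ : G, (ρ' σ).hom ≫ pullback.fst f g = pullback.fst f g ≫ (ρ σ).hom ∧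
      (ρ' σ).hom ≫ pullback.snd f g = pullback.snd f g)
    (r : pullback f g ⟶ Y') (hr : SGA1.IsQuot ρ' r)
    (m : Y' ⟶ pullback h g)
    (hm : r ≫ m = pullback.map f g h g q (𝟙 S') (𝟙 S)
      ((Category.comp_id f).trans hq.symm)
      ((Category.comp_id g).trans (Category.id_comp g).symm)) :
    FlatMor.IsUnivHomeo m := by
  have hqi : IsIntegralHom q := Groth.Agent.S13596.result ρ q hquot
  have hqs : Surjective q := ⟨surjective_of_isQuot hquot⟩
  have hci : IsIntegralHom (r ≫ m) := by
    rw [hm]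
    exact MorphismProperty.pullbackMap (P := @IsIntegralHom) hqi
      (inferInstance : IsIntegralHom (𝟙 S')) hq.symm (Category.id_comp g).symm
  have hcs : Surjective (r ≫ m) := by
    rw [hm]
    exact MorphismProperty.pullbackMap (P := @Surjective) hqs
      (inferInstance : Surjective (𝟙 S')) hq.symm (Category.id_comp g).symm
  have hmint : IsIntegralHom m := isIntegralHom_of_comp hr m hci
  have hmsurj : Surjective m := by
    refine ⟨fun z => ?_⟩
    obtain ⟨x, hx⟩ := hcs.surj z
    exact ⟨r x, hx⟩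
  have hminj : UniversallyInjective m := by
    apply universallyInjective_of_orbit hr m
    intro L _ a b hab
    rw [hm] at hab
    have h1 : (a ≫ pullback.fst f g) ≫ q = (b ≫ pullback.fst f g) ≫ q := by
      have := congrArg (fun ψ => ψ ≫ pullback.fst h g) hab
      simpa only [Category.assoc, pullback.lift_fst] using this
    have h2 : a ≫ pullback.snd f g = b ≫ pullback.snd f g := by
      have := congrArg (fun ψ => ψ ≫ pullback.snd h g) hab
      simpa only [Category.assoc, pullback.lift_snd, Category.comp_id] using this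
    obtain ⟨σ, hσ⟩ := exists_eq_comp_rho hquot L _ _ h1
    refine ⟨σ, ?_⟩
    apply pullback.hom_ext
    · rw [Category.assoc, (hρ' σ).1, ← Category.assoc]
      exact hσ
    · rw [Category.assoc, (hρ' σ).2]
      exact h2.symm
  exact (Groth.Agent.S0415.result m).mpr ⟨hmint, hminj, hmsurj⟩

end main

end Groth.Agent.Lib.Seat72.QuotBC
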