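import Mathlib
import Groth.Agent.Lib.Seat72QuotCoset

/-!
# Seat72: the quotient of a normal integral scheme by a finite group is normal and integral

* `isIntegrallyClosed_of_invariants`: ring level, the invariants of a finite set of endomorphisms
  of an integrally closed domain form an integrally closed domain.
* `isIntegrallyClosed_sections`: sections over a nonempty affine open of an integral scheme with
  integrally closed stalks are integrally closed.
* `isIntegral_of_isQuot`, `isIntegrallyClosed_stalk_of_isQuot`.
-/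

set_option autoImplicit false
set_option maxSynthPendingDepth 3
set_option linter.style.haveILetI false
set_option linter.unusedSectionVars false

universe u

open CategoryTheory CategoryTheory.Limits AlgebraicGeometry TopologicalSpace

namespace Groth.Agent.Lib.Seat72.QuotNormal

open SGA1

section Alg

variable {A B : Type*} [CommRing A] [IsDomain A] [IsIntegrallyClosed A] [CommRing B]
  {ι : Type*} (j : B →+* A) (hj : Function.Injective j) (σ : ι → A →+* A)
  (hinv : ∀ a : A, (∀ i, σ i a = a) → a ∈ j.range)
  (hfix : ∀ (i : ι) (b : B), σ i (j b) = j b)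

include hj hinv hfix in
theorem isIntegrallyClosed_of_invariants :
    haveI : IsDomain B := hj.isDomain j
    IsIntegrallyClosed B := by
  haveI : IsDomain B := hj.isDomain j
  letI : Algebra B A := j.toAlgebra
  let K := FractionRing B
  let L := FractionRing A
  have hnz : nonZeroDivisors B ≤ (nonZeroDivisors A).comap j := by
    intro b hb
    rw [Submonoid.mem_comap]
    have hb0 : b ≠ 0 := nonZeroDivisors.ne_zero hb
    exact mem_nonZeroDivisors_of_ne_zero (fun h => hb0 (hj (by rw [h, map_zero])))
  let φ : K →+* L := IsLocalization.map L j hnz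
  have hφ : ∀ b : B, φ (algebraMap B K b) = algebraMap A L (j b) := fun b =>
    IsLocalization.map_eq hnz b
  rw [isIntegrallyClosed_iff K]
  intro x hx
  obtain ⟨a, b, hb, rfl⟩ := IsFractionRing.div_surjective B x
  have hb0 : b ≠ 0 := nonZeroDivisors.ne_zero hb
  have hjb0 : j b ≠ 0 := fun h => hb0 (hj (by rw [h, map_zero]))
  have hint : IsIntegral A (φ (algebraMap B K a / algebraMap B K b)) := by
    refine IsIntegral.map_of_comp_eq j φ ?_ hx
    ext c
    exact (hφ c).symm
  obtain ⟨z, hz⟩ := (isIntegrallyClosed_iff L).1 inferInstance hint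
  rw [map_div₀, hφ, hφ] at hz
  have hLb : algebraMap A L (j b) ≠ 0 := by
    rw [Ne, map_eq_zero_iff _ (IsFractionRing.injective A L)]
    exact hjb0
  have hz' : j a = j b * z := by
    apply IsFractionRing.injective A L
    rw [map_mul, hz, mul_div_cancel₀ _ hLb]
  have hzfix : ∀ i, σ i z = z := by
    intro i
    have h1 := congrArg (σ i) hz'
    rw [map_mul, hfix, hfix, hz'] at h1
    exact (mul_left_cancel₀ hjb0 h1).symm
  obtain ⟨y, rfl⟩ := hinv z hzfix
  refine ⟨y, ?_⟩
  have hab : a = b * y := hj (by rw [hz', map_mul])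
  rw [hab, map_mul, mul_div_cancel_left₀]
  rw [Ne, map_eq_zero_iff _ (IsFractionRing.injective B K)]
  exact hb0

end Alg

section Sch

variable {X Y : Scheme.{u}}

/-- sections over a nonempty affine open of an integral scheme with integrally closed stalks -/
theorem isIntegrallyClosed_sections [IsIntegral X]
    (hN : ∀ x : X, IsIntegrallyClosed (X.presheaf.stalk x))
    {U : X.Opens} (hU : IsAffineOpen U) [Nonempty U] : IsIntegrallyClosed Γ(X, U) := by
  apply IsIntegrallyClosed.of_localization_maximal
  intro p _ hp
  let y : PrimeSpectrum Γ(X, U) := ⟨p, hp.isPrime⟩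
  have hy : hU.fromSpec y ∈ U := by
    have h0 : hU.fromSpec y ∈ Set.range hU.fromSpec := ⟨y, rfl⟩
    rw [hU.range_fromSpec] at h0
    exact h0
  letI := TopCat.Presheaf.algebra_section_stalk X.presheaf ⟨hU.fromSpec y, hy⟩
  haveI hloc : IsLocalization p.primeCompl (X.presheaf.stalk (hU.fromSpec y)) :=
    hU.isLocalization_stalk' y hy
  haveI := hN (hU.fromSpec y)
  let e := IsLocalization.algEquiv p.primeCompl (X.presheaf.stalk (hU.fromSpec y))
    (Localization.AtPrime p)
  exact IsIntegrallyClosed.of_equiv e.toRingEquiv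

variable {G : Type u} [Group G] (ρ : G →* Aut X) (p : X ⟶ Y)

include ρ in
/-- the quotient of an integral scheme is integral -/
theorem isIntegral_of_isQuot (hp : IsQuot ρ p) [IsIntegral X]
    (hs : Function.Surjective p.base) : IsIntegral Y := by
  haveI : IrreducibleSpace Y := by
    have h1 : IsIrreducible (p.base '' (Set.univ : Set X)) :=
      (IrreducibleSpace.isIrreducible_univ X).image p.base p.continuous.continuousOn
    rw [Set.image_univ, hs.range_eq] at h1
    exact (irreducibleSpace_def Y).2 h1
  haveI : IsReduced Y := by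
    refine ⟨fun U => ?_⟩
    exact isReduced_of_injective (p.app U).hom (hp.injective U)
  exact isIntegral_of_irreducibleSpace_of_isReduced Y

include ρ in
/-- the quotient of a normal integral scheme has integrally closed sections over affine opens -/
theorem isIntegrallyClosed_sections_of_isQuot (hp : IsQuot ρ p) [IsIntegral X] [IsIntegral Y]
    (hN : ∀ x : X, IsIntegrallyClosed (X.presheaf.stalk x))
    (hs : Function.Surjective p.base) {V : Y.Opens} (hV : IsAffineOpen V) [Nonempty V] :
    IsIntegrallyClosed Γ(Y, V) := by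
  haveI := hp.affine
  have hU : IsAffineOpen (p ⁻¹ᵁ V) := hV.preimage p
  haveI : Nonempty (p ⁻¹ᵁ V : X.Opens) := by
    obtain ⟨⟨y, hy⟩⟩ := (inferInstance : Nonempty V)
    obtain ⟨x, rfl⟩ := hs y
    exact ⟨⟨x, hy⟩⟩
  haveI := isIntegrallyClosed_sections hN hU
  exact isIntegrallyClosed_of_invariants (p.app V).hom (hp.injective V)
    (fun g : G => ((ρ g).hom.appLE (p ⁻¹ᵁ V) (p ⁻¹ᵁ V)
      (preimage_le_of_inv ρ p hp.inv g V)).hom)
    (fun a ha => (hp.range_iff V a).2 ha)
    (fun g b => (hp.range_iff V _).1 ⟨b, rfl⟩ g)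

include ρ in
/-- the quotient of a normal integral scheme is normal -/
theorem isIntegrallyClosed_stalk_of_isQuot (hp : IsQuot ρ p) [IsIntegral X] [IsIntegral Y]
    (hN : ∀ x : X, IsIntegrallyClosed (X.presheaf.stalk x))
    (hs : Function.Surjective p.base) (y : Y) : IsIntegrallyClosed (Y.presheaf.stalk y) := by
  obtain ⟨V, hV, hyV, -⟩ := Opens.isBasis_iff_nbhd.mp Y.isBasis_affineOpens (Opens.mem_top y)
  haveI : Nonempty V := ⟨⟨y, hyV⟩⟩
  haveI := isIntegrallyClosed_sections_of_isQuot ρ p hp hN hs hV
  letI := TopCat.Presheaf.algebra_section_stalk Y.presheaf (⟨y, hyV⟩ : V)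
  haveI := hV.isLocalization_stalk ⟨y, hyV⟩
  exact isIntegrallyClosed_of_isLocalization (Y.presheaf.stalk y)
    (hV.primeIdealOf ⟨y, hyV⟩).asIdeal.primeCompl
    (Ideal.primeCompl_le_nonZeroDivisors _)

end Sch

end Groth.Agent.Lib.Seat72.QuotNormal
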