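import Mathlib
import Groth.Agent.Lib.Seat72QuotCoset

/-!
# Seat72: the rank of a finite flat quotient map by a faithful finite group is the group order

For integral `X`, `Y`, a quotient `p : X ⟶ Y` by a finite group `G` acting faithfully, with `p`
finite flat, `p.finrank y = |G|` at every point: on an affine open `V ∋ y` the ring `Γ(X, p⁻¹V)`
is a domain with `G` as a Galois group over `Γ(Y, V)` (Mathlib's `IsGaloisGroup`), and
`IsGaloisGroup.card_eq_finrank'` applies.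
-/

set_option autoImplicit false
set_option maxSynthPendingDepth 3
set_option linter.style.haveILetI false
set_option linter.unusedSectionVars false

universe u

open CategoryTheory CategoryTheory.Limits AlgebraicGeometry TopologicalSpace

namespace Groth.Agent.Lib.Seat72.QuotRank

open SGA1 Groth.Agent.Lib.Helper20

variable {X Y : Scheme.{u}}

/-- the rank over an affine open is the rank of the ring map -/
theorem finrank_eq_of_affine (p : X ⟶ Y) [Flat p] [IsFinite p] {V : Y.Opens} (hV : IsAffineOpen V)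
    (z : Spec Γ(Y, V)) :
    p.finrank (hV.fromSpec z) = (p.app V).hom.finrank z := by
  have hU : IsAffineOpen (p ⁻¹ᵁ V) := hV.preimage p
  have hfin : (p.app V).hom.Finite := p.finite_app V hV
  have hflat : (p.app V).hom.Flat := by
    have := p.flat_appLE hV hU le_rfl
    rwa [Scheme.Hom.appLE_eq_app] at this
  have hpb : IsPullback hU.fromSpec (Spec.map (p.app V)) p hV.fromSpec := by
    refine (isPullback_morphismRestrict p V).flip.of_iso hU.isoSpec (Iso.refl X) hV.isoSpec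
      (Iso.refl Y) ?_ ?_ ?_ ?_
    · simp only [Iso.refl_hom, Category.comp_id]
      exact hU.isoSpec_hom_fromSpec.symm
    · rw [IsAffineOpen.isoSpec_hom, IsAffineOpen.isoSpec_hom, Scheme.Opens.toSpecΓ_naturality]
    · simp
    · simp only [Iso.refl_hom, Category.comp_id]
      exact hV.isoSpec_hom_fromSpec.symm
  rw [← Scheme.Hom.finrank_of_isPullback _ _ _ _ hpb z,
    Scheme.Hom.finrank_SpecMap_eq_finrank hfin hflat]

section Galois

variable {G : Type u} [Group G] (ρ : G →* Aut X) (p : X ⟶ Y) (hp : IsQuot ρ p) (V : Y.Opens)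

/-- the action of `g` on sections over the preimage of `V` -/
noncomputable def sec (g : G) : Γ(X, p ⁻¹ᵁ V) →+* Γ(X, p ⁻¹ᵁ V) :=
  ((ρ g).hom.appLE (p ⁻¹ᵁ V) (p ⁻¹ᵁ V) (preimage_le_of_inv ρ p hp.inv g V)).hom

theorem sec_comp (g h : G) (a : Γ(X, p ⁻¹ᵁ V)) :
    sec ρ p hp V g (sec ρ p hp V h a) = sec ρ p hp V (h * g) a := by
  have h1 : (ρ h).hom.appLE (p ⁻¹ᵁ V) (p ⁻¹ᵁ V) (preimage_le_of_inv ρ p hp.inv h V) ≫
      (ρ g).hom.appLE (p ⁻¹ᵁ V) (p ⁻¹ᵁ V) (preimage_le_of_inv ρ p hp.inv g V) =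
      (ρ (h * g)).hom.appLE (p ⁻¹ᵁ V) (p ⁻¹ᵁ V) (preimage_le_of_inv ρ p hp.inv (h * g) V) := by
    rw [Scheme.Hom.appLE_comp_appLE]
    simp only [rho_mul_hom]
  exact congrArg (fun k => k.hom a) h1

omit [Group G] in
theorem appLE_eq_id {a : X ⟶ X} (ha : a = 𝟙 X) (U : X.Opens) (e : U ≤ a ⁻¹ᵁ U) :
    a.appLE U U e = 𝟙 _ := by
  subst ha
  simp only [Scheme.Hom.appLE, Scheme.Hom.id_app]
  exact X.presheaf.map_id _

theorem sec_one (a : Γ(X, p ⁻¹ᵁ V)) : sec ρ p hp V 1 a = a := by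
  have h1 : (ρ 1).hom.appLE (p ⁻¹ᵁ V) (p ⁻¹ᵁ V) (preimage_le_of_inv ρ p hp.inv 1 V) =
      𝟙 _ := appLE_eq_id (rho_one_hom ρ) _ _
  exact congrArg (fun k => k.hom a) h1

/-- the (left) action on sections: `g • a = (ρ g⁻¹)^* a` -/
@[instance_reducible]
noncomputable def action : MulSemiringAction G Γ(X, p ⁻¹ᵁ V) where
  smul g a := sec ρ p hp V g⁻¹ a
  one_smul a := by
    show sec ρ p hp V (1 : G)⁻¹ a = a
    rw [inv_one, sec_one]
  mul_smul g h a := by
    show sec ρ p hp V (g * h)⁻¹ a = sec ρ p hp V g⁻¹ (sec ρ p hp V h⁻¹ a)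
    rw [sec_comp, mul_inv_rev]
  smul_zero g := map_zero _
  smul_add g a b := map_add _ _ _
  smul_one g := map_one _
  smul_mul g a b := map_mul _ _ _

/-- faithfulness on sections over a nonempty stable affine open -/
theorem eq_of_sec_eq [IsIntegral X] {S : Scheme.{u}} (f : X ⟶ S) [IsSeparated f]
    (hρf : ∀ g : G, (ρ g).hom ≫ f = f) (hfaith : Function.Injective ρ)
    (hU : IsAffineOpen (p ⁻¹ᵁ V)) [Nonempty (p ⁻¹ᵁ V : X.Opens)] {g h : G}
    (hgh : ∀ a, sec ρ p hp V g a = sec ρ p hp V h a) : g = h := by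
  apply hfaith
  have h1 : (ρ g).hom.appLE (p ⁻¹ᵁ V) (p ⁻¹ᵁ V) (preimage_le_of_inv ρ p hp.inv g V) =
      (ρ h).hom.appLE (p ⁻¹ᵁ V) (p ⁻¹ᵁ V) (preimage_le_of_inv ρ p hp.inv h V) := by
    ext a
    exact hgh a
  have h2 : hU.fromSpec ≫ (ρ g).hom = hU.fromSpec ≫ (ρ h).hom := by
    rw [← hU.SpecMap_appLE_fromSpec (ρ g).hom hU (preimage_le_of_inv ρ p hp.inv g V),
      ← hU.SpecMap_appLE_fromSpec (ρ h).hom hU (preimage_le_of_inv ρ p hp.inv h V), h1]
  haveI : IsDominant hU.fromSpec := by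
    refine ⟨?_⟩
    rw [DenseRange, hU.range_fromSpec]
    obtain ⟨⟨x, hx⟩⟩ := (inferInstance : Nonempty (p ⁻¹ᵁ V : X.Opens))
    exact (p ⁻¹ᵁ V).2.dense ⟨x, hx⟩
  have h3 : (ρ g).hom = (ρ h).hom :=
    ext_of_isDominant_of_isSeparated f ((hρf g).trans (hρf h).symm) hU.fromSpec h2
  exact Iso.ext h3

end Galois

section Main

variable {G : Type u} [Group G] [Finite G] (ρ : G →* Aut X) (p : X ⟶ Y)

/-- the rank of a finite flat quotient map by a faithful finite group action -/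
theorem finrank_eq_card (hp : IsQuot ρ p) [IsIntegral X] [IsIntegral Y] [Flat p] [IsFinite p]
    {S : Scheme.{u}} (f : X ⟶ S) [IsSeparated f] (hρf : ∀ g : G, (ρ g).hom ≫ f = f)
    (hfaith : Function.Injective ρ) (y : Y) : p.finrank y = Nat.card G := by
  obtain ⟨V, hV, hyV, -⟩ := Opens.isBasis_iff_nbhd.mp Y.isBasis_affineOpens (Opens.mem_top y)
  obtain ⟨z, rfl⟩ : ∃ z, hV.fromSpec z = y := by
    have : y ∈ Set.range hV.fromSpec := by rw [hV.range_fromSpec]; exact hyV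
    exact this
  rw [finrank_eq_of_affine p hV z]
  have hU : IsAffineOpen (p ⁻¹ᵁ V) := hV.preimage p
  haveI : Nonempty V := ⟨⟨_, hyV⟩⟩
  haveI : Nonempty (p ⁻¹ᵁ V : X.Opens) := by
    obtain ⟨x, hx⟩ := surjective_of_isQuot hp (hV.fromSpec z)
    exact ⟨⟨x, by show p.base x ∈ V; rw [hx]; exact hyV⟩⟩
  letI : Algebra Γ(Y, V) Γ(X, p ⁻¹ᵁ V) := (p.app V).hom.toAlgebra
  have hinj : Function.Injective (algebraMap Γ(Y, V) Γ(X, p ⁻¹ᵁ V)) := hp.injective V
  haveI : FaithfulSMul Γ(Y, V) Γ(X, p ⁻¹ᵁ V) :=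
    (faithfulSMul_iff_algebraMap_injective _ _).2 hinj
  letI := action ρ p hp V
  have hsmul : ∀ (g : G) (a : Γ(X, p ⁻¹ᵁ V)), g • a = sec ρ p hp V g⁻¹ a := fun _ _ => rfl
  have hfix : ∀ (g : G) (b : Γ(Y, V)), sec ρ p hp V g (algebraMap Γ(Y, V) Γ(X, p ⁻¹ᵁ V) b) =
      algebraMap Γ(Y, V) Γ(X, p ⁻¹ᵁ V) b := fun g b => (hp.range_iff V _).1 ⟨b, rfl⟩ g
  haveI : IsGaloisGroup G Γ(Y, V) Γ(X, p ⁻¹ᵁ V) :=
    { faithful := ⟨fun {g h} hgh => by
        have := eq_of_sec_eq ρ p hp V f hρf hfaith hU (g := g⁻¹) (h := h⁻¹) hgh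
        exact inv_injective this⟩
      commutes := ⟨fun g b a => by
        rw [hsmul, hsmul, Algebra.smul_def, Algebra.smul_def, map_mul, hfix]⟩
      isInvariant := ⟨fun a ha => by
        have : ∀ g : G, sec ρ p hp V g a = a := fun g => by
          have := ha g⁻¹
          rwa [hsmul, inv_inv] at this
        exact (hp.range_iff V a).2 this⟩ }
  haveI : Module.Finite Γ(Y, V) Γ(X, p ⁻¹ᵁ V) := p.finite_app V hV
  haveI : Module.Flat Γ(Y, V) Γ(X, p ⁻¹ᵁ V) := by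
    have := p.flat_appLE hV hU le_rfl
    rwa [Scheme.Hom.appLE_eq_app] at this
  have h1 : (p.app V).hom.finrank z = Module.finrank Γ(Y, V) Γ(X, p ⁻¹ᵁ V) := by
    show Module.rankAtStalk Γ(X, p ⁻¹ᵁ V) z = _
    rw [Module.rankAtStalk_eq, Ideal.finrank_fiber_eq_finrank]
  rw [h1, ← IsGaloisGroup.card_eq_finrank' G]

end Main

end Groth.Agent.Lib.Seat72.QuotRank
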