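/-
Helper library (helper85): normalization commutes with smooth base change, integral case.

* `normal_stalk_of_smooth_over_field`: stalks of a scheme smooth over a field are normal domains.
* `exists_normalization_iso_of_iso`: the relative normalization depends on the source only up to
  isomorphism.
* `isIso_snd_genericFibre`, `hom_ext_of_fac_genericPoint`: the generic fibre of the normalization
  `Y^ν ⟶ Y` of an integral scheme is `Spec K(Y)`; morphisms into `Y^ν` through the generic point
  are determined by their composite to `Y`.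
* `map_genericPoint_of_flat`, `isIntegral_genericFibre`, `snd_genericPoint`: the generic fibre of a
  smooth morphism of integral schemes is integral, with generic point over the generic point.
* `exists_iso_normalization_genericFibre`: the normalization of `X` in the generic fibre of a smooth
  `f : X ⟶ Y` (integral schemes) is the normalization of `X` in its function field.
-/
import Groth.Agent.Lib.Helper4FEtNormal2
import Groth.Agent.Lib.Seat85NormInNormal
import Groth.Agent.Lib.Helper6StalkIso
import Groth.Agent.Lib.Helper6SmNorm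
import Groth.Agent.Lib.Helper11SmInt

set_option autoImplicit false
set_option linter.style.haveILetI false
universe u
open CategoryTheory CategoryTheory.Limits AlgebraicGeometry TopologicalSpace

namespace Groth.Agent.Lib.Seat85.NormSmooth

/-- Stalks of a scheme smooth over the spectrum of a field are normal domains. -/
theorem normal_stalk_of_smooth_over_field (R : CommRingCat.{u}) (hR : IsField R) {P : Scheme.{u}}
    (g : P ⟶ Spec R) [Smooth g] (x : P) :
    IsDomain (P.presheaf.stalk x) ∧ IsIntegrallyClosed (P.presheaf.stalk x) := by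
  obtain ⟨_, ⟨U, hU, rfl⟩, hxU, -⟩ :=
    P.isBasis_affineOpens.exists_subset_of_mem_open (Set.mem_univ x) isOpen_univ
  have hsm : (g.appLE ⊤ U le_top).hom.Smooth :=
    HasRingHomProperty.appLE (P := @Smooth) g inferInstance ⟨⊤, isAffineOpen_top _⟩ ⟨U, hU⟩ le_top
  algebraize [(g.appLE ⊤ U le_top).hom]
  have hA : IsField Γ(Spec R, ⊤) :=
    (Scheme.ΓSpecIso R).commRingCatIsoToRingEquiv.toMulEquiv.isField hR
  have hN := Groth.Agent.Lib.Helper6.SmNorm.isNormalRing_of_smooth
    Γ(Spec R, ⊤) Γ(P, U) (Groth.Agent.Lib.Helper11SmInt.isNormalRing_of_isField _ hA)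
  let _ := TopCat.Presheaf.algebra_section_stalk P.presheaf (⟨x, hxU⟩ : U)
  have hloc := hU.isLocalization_stalk ⟨x, hxU⟩
  obtain ⟨hd, hic⟩ := hN (hU.primeIdealOf ⟨x, hxU⟩).asIdeal
  let e := IsLocalization.algEquiv (hU.primeIdealOf ⟨x, hxU⟩).asIdeal.primeCompl
    (P.presheaf.stalk x) (Localization.AtPrime (hU.primeIdealOf ⟨x, hxU⟩).asIdeal)
  exact ⟨e.toMulEquiv.isDomain _, IsIntegrallyClosed.of_equiv e.symm.toRingEquiv⟩

section IsoInvariance

variable {X Z Z' : Scheme.{u}}

/-- The relative normalization only depends on the source up to isomorphism. -/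
theorem exists_normalization_iso_of_iso (g : Z ⟶ X) (g' : Z' ⟶ X) [QuasiCompact g]
    [QuasiSeparated g] [QuasiCompact g'] [QuasiSeparated g'] (e : Z' ≅ Z) (he : e.hom ≫ g = g') :
    ∃ φ : g'.normalization ≅ g.normalization,
      φ.hom ≫ g.fromNormalization = g'.fromNormalization ∧
      g'.toNormalization ≫ φ.hom = e.hom ≫ g.toNormalization := by
  subst he
  refine ⟨⟨(e.hom ≫ g).normalizationDesc (e.hom ≫ g.toNormalization) g.fromNormalization (by simp),
    g.normalizationDesc (e.inv ≫ (e.hom ≫ g).toNormalization) (e.hom ≫ g).fromNormalization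
      (by simp), ?_, ?_⟩, ?_, ?_⟩
  · refine Scheme.Hom.normalization.hom_ext _ _ _ (e.hom ≫ g).fromNormalization ?_ (by simp)
      (by simp)
    simp
  · refine Scheme.Hom.normalization.hom_ext _ _ _ g.fromNormalization ?_ (by simp) (by simp)
    simp
  · simp
  · simp

end IsoInvariance

section GenericFibre

open Groth.Agent.Lib.Helper4.NormCurve Groth.Agent.Lib.Helper4.FEtNormal

variable {Y : Scheme.{u}} [IsIntegral Y]

/-- The generic fibre of the normalization `Y^ν ⟶ Y` of an integral scheme is `Spec K(Y)`. -/
theorem isIso_snd_genericFibre [QuasiCompact (Y.fromSpecStalk (genericPoint Y))]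
    [QuasiSeparated (Y.fromSpecStalk (genericPoint Y))] :
    IsIso (pullback.snd (Y.fromSpecStalk (genericPoint Y)).fromNormalization
      (Y.fromSpecStalk (genericPoint Y))) := by
  have key : ∀ (j : Spec (Y.presheaf.stalk (genericPoint Y)) ⟶ Y)
      (_ : j = gen Y Y.functionField (RingHom.id _)) [QuasiCompact j] [QuasiSeparated j],
      IsIso (pullback.snd j.fromNormalization (Y.fromSpecStalk (genericPoint Y))) := by
    intro j hj _ _
    subst hj
    have h1 := isIso_toGenericFibre (X := Y) Y.functionField (RingHom.id _)
      (RingHom.isIntegral_of_surjective _ (fun x => ⟨x, rfl⟩))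
    have h2 : toGenericFibre (X := Y) Y.functionField (RingHom.id _) ≫
        pullback.snd (gen Y Y.functionField (RingHom.id _)).fromNormalization
          (Y.fromSpecStalk (genericPoint Y)) = 𝟙 _ := by
      refine (pullback.lift_snd _ _ _).trans ?_
      exact Spec.map_id _
    exact IsIso.of_isIso_fac_left h2
  exact key _ fromSpecStalk_eq_gen

/-- Two morphisms into the normalization of `Y` which agree over `Y`, the common composite
factoring through the generic point, are equal. -/
theorem hom_ext_of_fac_genericPoint [QuasiCompact (Y.fromSpecStalk (genericPoint Y))]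
    [QuasiSeparated (Y.fromSpecStalk (genericPoint Y))] {T : Scheme.{u}}
    (a a' : T ⟶ (Y.fromSpecStalk (genericPoint Y)).normalization)
    (t : T ⟶ Spec (Y.presheaf.stalk (genericPoint Y)))
    (ha : a ≫ (Y.fromSpecStalk (genericPoint Y)).fromNormalization =
      t ≫ Y.fromSpecStalk (genericPoint Y))
    (ha' : a' ≫ (Y.fromSpecStalk (genericPoint Y)).fromNormalization =
      t ≫ Y.fromSpecStalk (genericPoint Y)) : a = a' := by
  have := isIso_snd_genericFibre (Y := Y)
  have h : pullback.lift a t ha = pullback.lift a' t ha' := by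
    rw [← cancel_mono (pullback.snd (Y.fromSpecStalk (genericPoint Y)).fromNormalization
      (Y.fromSpecStalk (genericPoint Y))), pullback.lift_snd, pullback.lift_snd]
  have h' := congrArg (· ≫ pullback.fst _ _) h
  simp only [pullback.lift_fst] at h'
  exact h'

end GenericFibre

section Fibre

variable {X Y : Scheme.{u}} (f : X ⟶ Y) [IsIntegral X] [IsIntegral Y]

/-- A flat morphism of integral schemes maps the generic point to the generic point. -/
theorem map_genericPoint_of_flat [Flat f] : f (genericPoint X) = genericPoint Y := by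
  have hgen : genericPoint Y ⤳ f (genericPoint X) := (genericPoint_spec Y).specializes trivial
  obtain ⟨ξ', hξ', hgξ'⟩ := Flat.generalizingMap f hgen
  have h1 : ξ' = genericPoint X :=
    (hξ'.antisymm ((genericPoint_spec X).specializes trivial)).eq
  rw [← hgξ', h1]

theorem exists_snd_eq_genericPoint [Flat f] :
    ∃ ξ : ↥(pullback (Y.fromSpecStalk (genericPoint Y)) f),
      pullback.snd (Y.fromSpecStalk (genericPoint Y)) f ξ = genericPoint X := by
  have h : genericPoint X ∈ Set.range (pullback.snd (Y.fromSpecStalk (genericPoint Y)) f) := by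
    rw [Scheme.Pullback.range_snd, Set.mem_preimage, Scheme.range_fromSpecStalk,
      map_genericPoint_of_flat f]
    exact specializes_rfl
  exact h

theorem isGenericPoint_of_snd_eq [Flat f]
    (ξ : ↥(pullback (Y.fromSpecStalk (genericPoint Y)) f))
    (hξ : pullback.snd (Y.fromSpecStalk (genericPoint Y)) f ξ = genericPoint X) :
    IsGenericPoint ξ Set.univ := by
  rw [isGenericPoint_def,
    (pullback.snd (Y.fromSpecStalk (genericPoint Y)) f).isEmbedding.isInducing.closure_eq_preimage_closure_image,
    Set.image_singleton, hξ, (genericPoint_spec X).def, Set.preimage_univ]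

theorem isIntegral_genericFibre [Smooth f] :
    IsIntegral (pullback (Y.fromSpecStalk (genericPoint Y)) f) := by
  obtain ⟨ξ, hξ⟩ := exists_snd_eq_genericPoint f
  have hgen := isGenericPoint_of_snd_eq f ξ hξ
  have : IrreducibleSpace ↥(pullback (Y.fromSpecStalk (genericPoint Y)) f) := by
    rw [irreducibleSpace_def]
    have h2 : IsIrreducible (closure {ξ}) := isIrreducible_singleton.closure
    rw [hgen.def] at h2
    exact h2
  have hstalk : ∀ p : ↥(pullback (Y.fromSpecStalk (genericPoint Y)) f),
      _root_.IsReduced ((pullback (Y.fromSpecStalk (genericPoint Y)) f).presheaf.stalk p) := by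
    intro p
    have := (normal_stalk_of_smooth_over_field (Y.presheaf.stalk (genericPoint Y))
      (Field.toIsField Y.functionField) (pullback.fst (Y.fromSpecStalk (genericPoint Y)) f) p).1
    infer_instance
  have : IsReduced (pullback (Y.fromSpecStalk (genericPoint Y)) f) :=
    isReduced_of_isReduced_stalk _
  exact isIntegral_of_irreducibleSpace_of_isReduced _

theorem snd_genericPoint [Flat f] [IsIntegral (pullback (Y.fromSpecStalk (genericPoint Y)) f)] :
    pullback.snd (Y.fromSpecStalk (genericPoint Y)) f
      (genericPoint ↥(pullback (Y.fromSpecStalk (genericPoint Y)) f)) = genericPoint X := by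
  obtain ⟨ξ, hξ⟩ := exists_snd_eq_genericPoint f
  have hgen := isGenericPoint_of_snd_eq f ξ hξ
  rw [← hξ, (genericPoint_spec _).eq hgen]

set_option backward.isDefEq.respectTransparency false in
/-- The normalization of `X` in the generic fibre of a smooth morphism `f : X ⟶ Y` of integral
schemes is the normalization of `X` (in its function field). -/
theorem exists_iso_normalization_genericFibre [Smooth f]
    [QuasiCompact (X.fromSpecStalk (genericPoint X))]
    [QuasiSeparated (X.fromSpecStalk (genericPoint X))]
    [QuasiCompact (Y.fromSpecStalk (genericPoint Y))]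
    [QuasiSeparated (Y.fromSpecStalk (genericPoint Y))] :
    ∃ φ : (X.fromSpecStalk (genericPoint X)).normalization ≅
        (pullback.snd (Y.fromSpecStalk (genericPoint Y)) f).normalization,
      φ.hom ≫ (pullback.snd (Y.fromSpecStalk (genericPoint Y)) f).fromNormalization =
        (X.fromSpecStalk (genericPoint X)).fromNormalization := by
  have hP : IsIntegral (pullback (Y.fromSpecStalk (genericPoint Y)) f) := isIntegral_genericFibre f
  set P := pullback (Y.fromSpecStalk (genericPoint Y)) f with hPdef
  set p₂ := pullback.snd (Y.fromSpecStalk (genericPoint Y)) f with hp₂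
  have hPn : ∀ p : P, IsIntegrallyClosed (P.presheaf.stalk p) := fun p =>
    (normal_stalk_of_smooth_over_field (Y.presheaf.stalk (genericPoint Y))
      (Field.toIsField Y.functionField) (pullback.fst (Y.fromSpecStalk (genericPoint Y)) f) p).2
  have hη : p₂ (genericPoint P) = genericPoint X := snd_genericPoint f
  have hsp : p₂ (genericPoint P) ⤳ genericPoint X := hη ▸ specializes_rfl
  set σ := P.fromSpecStalk (genericPoint P) with hσ
  -- the comparison of function fields
  have hiso1 : IsIso (p₂.stalkMap (genericPoint P)) :=
    Groth.Agent.Lib.Helper6.isIso_stalkMap_of_flat_of_isPreimmersion p₂ _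
  have hiso2 : IsIso (X.presheaf.stalkSpecializes hsp) := by
    have : X.presheaf.stalkSpecializes hsp =
        (X.presheaf.stalkCongr (Inseparable.of_eq hη.symm)).hom := rfl
    rw [this]; infer_instance
  let ε : Spec (P.presheaf.stalk (genericPoint P)) ⟶ Spec (X.presheaf.stalk (genericPoint X)) :=
    Spec.map (p₂.stalkMap (genericPoint P)) ≫ Spec.map (X.presheaf.stalkSpecializes hsp)
  have hεiso : IsIso ε := inferInstance
  have hε : ε ≫ X.fromSpecStalk (genericPoint X) = σ ≫ p₂ := by
    rw [Category.assoc, Scheme.SpecMap_stalkSpecializes_fromSpecStalk,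
      Scheme.SpecMap_stalkMap_fromSpecStalk]
  have hqc : QuasiCompact (σ ≫ p₂) := by rw [← hε]; infer_instance
  have hqs : QuasiSeparated (σ ≫ p₂) := by rw [← hε]; infer_instance
  obtain ⟨φ₁, hφ₁, -⟩ := exists_normalization_iso_of_iso (X.fromSpecStalk (genericPoint X))
    (σ ≫ p₂) (asIso ε) hε
  have key : ∀ (j : Spec (P.presheaf.stalk (genericPoint P)) ⟶ X)
      (_ : j = (σ ≫ p₂.toNormalization) ≫ p₂.fromNormalization)
      [QuasiCompact j] [QuasiSeparated j],
      ∃ φ : j.normalization ≅ p₂.normalization,
        φ.hom ≫ p₂.fromNormalization = j.fromNormalization := by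
    intro j hj _ _
    subst hj
    have hiso := Groth.Agent.Lib.Helper4.FEtNormal.isIso_desc
      (σ ≫ p₂.toNormalization) p₂.fromNormalization
      (fun U hU => Groth.Agent.Lib.Seat85.NormInNormal.sections_closed p₂ hPn U hU)
    exact ⟨asIso (((σ ≫ p₂.toNormalization) ≫ p₂.fromNormalization).normalizationDesc
      (σ ≫ p₂.toNormalization) p₂.fromNormalization rfl),
      Scheme.Hom.normalizationDesc_comp _ _ _ rfl⟩
  obtain ⟨φ₂, hφ₂⟩ := key (σ ≫ p₂)
    (by rw [Category.assoc, Scheme.Hom.toNormalization_fromNormalization])
  refine ⟨φ₁.symm ≪≫ φ₂, ?_⟩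
  rw [Iso.trans_hom, Category.assoc, hφ₂, Iso.symm_hom, Iso.inv_comp_eq, hφ₁]

end Fibre

end Groth.Agent.Lib.Seat85.NormSmooth
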