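import Mathlib
import Groth.Agent.Lib.Seat72QuotNormal
import Groth.Agent.Lib.Seat72QuotRank
import Groth.Agent.Lib.Seat18CurveSmooth
import Groth.Agent.Lib.Seat36SepClosedPt
import Groth.Agent.Lib.Helper10CurveFin
import Groth.Agent.Lib.Helper10CurveFlat
import Groth.Agent.Lib.Helper10IntDim
import Groth.Agent.Lib.Helper11SmInt
import Groth.Agent.Lib.Seat85NormSmooth
import Groth.Agent.S2909
import Groth.Agent.S5137

/-!
# Seat72: the quotient of a smooth proper curve by a finite group

* `pullbackAction`: the action induced on a base change of an invariant morphism.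
* `smooth_of_normal_curve`: a normal integral curve locally of finite type over an algebraically
  closed field is smooth.
* `quotient_curve`: S18897.
-/

set_option autoImplicit false
set_option maxSynthPendingDepth 3
set_option linter.style.haveILetI false
set_option linter.unusedSectionVars false

universe u

open CategoryTheory CategoryTheory.Limits AlgebraicGeometry TopologicalSpace

namespace Groth.Agent.Lib.Seat72.QuotCurve

open SGA1 Groth.Agent.Lib.Helper20

section Action

variable {X Y Y' : Scheme.{u}} {G : Type u} [Group G] (ρ : G →* Aut X) (p : X ⟶ Y)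
  (hinv : ∀ g : G, (ρ g).hom ≫ p = p) (b : Y' ⟶ Y)

/-- the base change of an automorphism over `Y` -/
noncomputable def pbHom (g : G) : pullback p b ⟶ pullback p b :=
  pullback.lift (pullback.fst p b ≫ (ρ g).hom) (pullback.snd p b)
    (by rw [Category.assoc, hinv, pullback.condition])

theorem pbHom_fst (g : G) :
    pbHom ρ p hinv b g ≫ pullback.fst p b = pullback.fst p b ≫ (ρ g).hom :=
  pullback.lift_fst _ _ _

theorem pbHom_snd (g : G) : pbHom ρ p hinv b g ≫ pullback.snd p b = pullback.snd p b :=
  pullback.lift_snd _ _ _

theorem pbHom_comp (g h : G) :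
    pbHom ρ p hinv b h ≫ pbHom ρ p hinv b g = pbHom ρ p hinv b (g * h) := by
  apply pullback.hom_ext
  · rw [Category.assoc, pbHom_fst, ← Category.assoc, pbHom_fst, Category.assoc, pbHom_fst,
      rho_mul_hom]
  · rw [Category.assoc, pbHom_snd, pbHom_snd, pbHom_snd]

theorem pbHom_one : pbHom ρ p hinv b 1 = 𝟙 _ := by
  apply pullback.hom_ext
  · rw [pbHom_fst, rho_one_hom, Category.comp_id, Category.id_comp]
  · rw [pbHom_snd, Category.id_comp]

/-- the induced action on a base change -/
noncomputable def pullbackAction : G →* Aut (pullback p b) where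
  toFun g :=
    { hom := pbHom ρ p hinv b g
      inv := pbHom ρ p hinv b g⁻¹
      hom_inv_id := by rw [pbHom_comp, inv_mul_cancel, pbHom_one]
      inv_hom_id := by rw [pbHom_comp, mul_inv_cancel, pbHom_one] }
  map_one' := Iso.ext (pbHom_one ρ p hinv b)
  map_mul' g h := Iso.ext (pbHom_comp ρ p hinv b g h).symm

theorem pullbackAction_hom (g : G) :
    (pullbackAction ρ p hinv b g).hom = pbHom ρ p hinv b g := rfl

end Action

section ClosedPt

attribute [local instance] Curv2.resAlgebra

/-- the residue field of a closed point of a scheme locally of finite type over a field is finite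
over the field -/
theorem finite_residueField_of_isClosed (K : Type u) [Field K] (C : Scheme.{u})
    [C.Over (Spec (CommRingCat.of K))] [LocallyOfFiniteType (C ↘ Spec (CommRingCat.of K))]
    (x : C) (hx : IsClosed ({x} : Set C)) : Module.Finite K (C.residueField x) := by
  haveI : JacobsonSpace C := LocallyOfFiniteType.jacobsonSpace (C ↘ Spec (CommRingCat.of K))
  have hfin : IsFinite (C.fromSpecResidueField x ≫ (C ↘ Spec (CommRingCat.of K))) := by
    rw [isClosed_singleton_iff_isClosedImmersion] at hx
    rw [isFinite_iff_locallyOfFiniteType_of_jacobsonSpace]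
    infer_instance
  rw [← Groth.Agent.Lib.Seat36.SepClosedPt.specMap_resMap] at hfin
  exact (IsFinite.SpecMap_iff _).mp hfin

/-- a normal integral curve locally of finite type over an algebraically closed field is smooth -/
theorem smooth_of_normal_curve (K : Type u) [Field K] [IsAlgClosed K] (C : Scheme.{u})
    (q : C ⟶ Spec (CommRingCat.of K)) [LocallyOfFiniteType q] [IsIntegral C]
    (hN : ∀ x : C, IsIntegrallyClosed (C.presheaf.stalk x))
    (hdim : topologicalKrullDim C = 1) : Smooth q := by
  letI : C.Over (Spec (CommRingCat.of K)) := ⟨q⟩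
  haveI : LocallyOfFiniteType (C ↘ Spec (CommRingCat.of K)) := ‹LocallyOfFiniteType q›
  refine Groth.Agent.Lib.Seat18.CurveSmooth.smooth_of_smooth_off K C hN hdim
    {x | IsClosed ({x} : Set C)} ?_ ?_
  · intro x hx
    refine ⟨hx, ?_⟩
    haveI := finite_residueField_of_isClosed K C x hx
    exact Algebra.IsAlgebraic.isSeparable_of_perfectField
  · intro x hx
    have hgen : x = genericPoint C := by
      rcases Groth.Agent.Lib.Helper10.CurveFin.forall_of_topologicalKrullDim_le_one hdim.le x
        with h | h
      · exact absurd (Groth.Agent.Lib.Helper10.CurveFin.isClosed_singleton_of_forall h) hx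
      · have h1 : genericPoint C ⤳ x := genericPoint_specializes x
        exact ((h _ h1).antisymm h1).eq
    rw [hgen]
    exact Scheme.Hom.genericPoint_mem_smoothLocus_of_perfectField q

end ClosedPt

section Dim

attribute [local instance] specializationOrder in
theorem nontrivial_of_one_le_dim {T : Type*} [TopologicalSpace T] [QuasiSober T] [T0Space T]
    (h : 1 ≤ topologicalKrullDim T) : (Set.univ : Set T).Nontrivial := by
  rw [Groth.Agent.Lib.Helper7.topologicalKrullDim_eq_krullDim_points,
    Order.one_le_krullDim_iff] at h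
  obtain ⟨a, b, hab⟩ := h
  exact ⟨a, trivial, b, trivial, hab.ne⟩

end Dim

section GeomConn

/-- geometric connectedness passes to a target of a surjection -/
theorem geometricallyConnected_of_surjective {X Y S : Scheme.{u}} (π : X ⟶ Y) (q : Y ⟶ S)
    [Surjective π] [GeometricallyConnected (π ≫ q)] : GeometricallyConnected q := by
  rw [geometricallyConnected_iff]
  intro K _ y Z fst snd h
  have hX : ConnectedSpace ↥(pullback (π ≫ q) y) :=
    (geometricallyConnected_iff (π ≫ q)).1 inferInstance y _ _ (IsPullback.of_hasPullback _ _)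
  let m : pullback (π ≫ q) y ⟶ Z :=
    h.lift (pullback.fst (π ≫ q) y ≫ π) (pullback.snd (π ≫ q) y)
      (by rw [Category.assoc, pullback.condition])
  have hm1 : m ≫ fst = pullback.fst (π ≫ q) y ≫ π := h.lift_fst _ _ _
  have hm2 : m ≫ snd = pullback.snd (π ≫ q) y := h.lift_snd _ _ _
  have hpb : IsPullback m (pullback.fst (π ≫ q) y) fst π := by
    refine IsPullback.of_right ?_ hm1 h.flip
    rw [hm2]
    exact (IsPullback.of_hasPullback (π ≫ q) y).flip
  haveI : Surjective m := MorphismProperty.of_isPullback hpb.flip ‹Surjective π›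
  exact m.surjective.connectedSpace m.continuous

end GeomConn

section Main

variable (k : Type u) [Field k] {X Y : Scheme.{u}} (p : X ⟶ Spec (CommRingCat.of k))
  [IsProper p] [Smooth p] [GeometricallyConnected p]
  {G : Type u} [Group G] [Finite G] (ρ : G →* Aut X)
  (π : X ⟶ Y) (q : Y ⟶ Spec (CommRingCat.of k))

include ρ in
/-- smoothness of the quotient curve, by base change to the algebraic closure -/
theorem smooth_quotient (hX : topologicalKrullDim ↥X = 1)
    (hπ : π ≫ q = p) (hquot : SGA1.IsQuot ρ π) [IsFinite π] [LocallyOfFiniteType q] :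
    Smooth q := by
  let K := AlgebraicClosure k
  let b : Spec (CommRingCat.of K) ⟶ Spec (CommRingCat.of k) :=
    Spec.map (CommRingCat.ofHom (algebraMap k K))
  haveI hbflat : Flat b := by
    rw [Flat.SpecMap_iff]
    exact (RingHom.flat_algebraMap_iff).2 inferInstance
  haveI hbsurj : Surjective b := ⟨fun x => ⟨default, Subsingleton.elim _ _⟩⟩
  haveI hbint : IsIntegralHom b := by
    rw [IsIntegralHom.SpecMap_iff]
    exact algebraMap_isIntegral_iff.2 inferInstance
  have hsurj : Function.Surjective π.base := surjective_of_isQuot hquot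
  haveI : Surjective π := ⟨hsurj⟩
  -- the base changes
  let qY := pullback.fst q b
  let bY := pullback.snd q b
  let pX := pullback.fst π qY
  let π' := pullback.snd π qY
  let ρ' := pullbackAction ρ π hquot.inv qY
  have hquot' : SGA1.IsQuot ρ' π' :=
    Groth.Agent.S5137.result ρ π hquot q b qY bY (IsPullback.of_hasPullback q b) pX π'
      (IsPullback.of_hasPullback π qY) ρ' (fun g => pbHom_fst ρ π hquot.inv qY g)
      (fun g => pbHom_snd ρ π hquot.inv qY g)
  have hpb : IsPullback pX (π' ≫ bY) p b := by
    have := (IsPullback.paste_horiz (IsPullback.of_hasPullback π qY).flip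
      (IsPullback.of_hasPullback q b).flip).flip
    rwa [hπ] at this
  haveI : Smooth (π' ≫ bY) := MorphismProperty.of_isPullback hpb ‹Smooth p›
  haveI : LocallyOfFiniteType (π' ≫ bY) := inferInstance
  haveI : QuasiCompact (π' ≫ bY) :=
    MorphismProperty.of_isPullback hpb (inferInstance : QuasiCompact p)
  haveI hX'conn : ConnectedSpace ↥(pullback π qY) :=
    (geometricallyConnected_iff p).1 inferInstance b pX (π' ≫ bY) hpb
  haveI : IsLocallyNoetherian (pullback π qY) :=
    LocallyOfFiniteType.isLocallyNoetherian (π' ≫ bY)
  haveI : CompactSpace ↥(pullback π qY) := QuasiCompact.compactSpace_of_compactSpace (π' ≫ bY)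
  haveI : IsNoetherian (pullback π qY) := {}
  haveI hX'int : IsIntegral (pullback π qY) :=
    Groth.Agent.Lib.Helper11SmInt.isIntegral_of_connected_of_isDomain_stalk
      (fun x => Groth.Agent.Lib.Helper11SmInt.isDomain_stalk_of_smooth K (π' ≫ bY) x)
  have hNX' : ∀ x : ↥(pullback π qY), IsIntegrallyClosed ((pullback π qY).presheaf.stalk x) :=
    fun x => (Groth.Agent.Lib.Seat85.NormSmooth.normal_stalk_of_smooth_over_field
      (CommRingCat.of K) (Field.toIsField K) (π' ≫ bY) x).2
  have hsurj' : Function.Surjective π'.base := surjective_of_isQuot hquot'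
  haveI : IsIntegral (pullback q b) :=
    Groth.Agent.Lib.Seat72.QuotNormal.isIntegral_of_isQuot ρ' π' hquot' hsurj'
  have hNY' := Groth.Agent.Lib.Seat72.QuotNormal.isIntegrallyClosed_stalk_of_isQuot ρ' π'
    hquot' hNX' hsurj'
  -- dimensions
  have hdimX' : topologicalKrullDim ↥(pullback π qY) = 1 := by
    haveI : IsIntegralHom pX := MorphismProperty.of_isPullback hpb.flip hbint
    haveI : Surjective pX := MorphismProperty.of_isPullback hpb.flip hbsurj
    rw [(Groth.Agent.Lib.Helper10.IntDim.main9683 pX).2 inferInstance, hX]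
  have hdimY' : topologicalKrullDim ↥(pullback q b) = 1 := by
    haveI : IsFinite π' := inferInstance
    haveI : Surjective π' := ⟨hsurj'⟩
    rw [← (Groth.Agent.Lib.Helper10.IntDim.main9683 π').2 inferInstance, hdimX']
  haveI : LocallyOfFiniteType bY := inferInstance
  have hsm : Smooth bY := smooth_of_normal_curve K (pullback q b) bY hNY' hdimY'
  exact MorphismProperty.of_pullback_snd_of_descendsAlong (P := @Smooth)
    (Q := @Surjective ⊓ @Flat ⊓ @QuasiCompact) (f := q) (g := b)
    ⟨⟨hbsurj, hbflat⟩, inferInstance⟩ hsm

/-- S18897: the quotient of a smooth proper geometrically connected curve by a finite group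
acting faithfully -/
theorem quotient_curve (hX : topologicalKrullDim ↥X = 1)
    (hρ : Function.Injective ρ) (hρk : ∀ g : G, (ρ g).hom ≫ p = p)
    (hπ : π ≫ q = p) (hquot : SGA1.IsQuot ρ π) :
    IsProper q ∧ Smooth q ∧ GeometricallyConnected q ∧ topologicalKrullDim ↥Y = 1 ∧
      IsFinite π ∧ Flat π ∧ ∀ y : Y, π.finrank y = Nat.card G := by
  obtain ⟨-, hsep, hfin, hft⟩ := Groth.Agent.S2909.result ρ π hquot p q hπ hρk
  haveI : IsFinite π := hfin inferInstance
  haveI : IsSeparated q := hsep.1 inferInstance
  obtain ⟨hlft, hqc⟩ := hft inferInstance inferInstance inferInstance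
  haveI := hlft
  haveI := hqc
  have hsurj : Function.Surjective π.base := surjective_of_isQuot hquot
  haveI : Surjective π := ⟨hsurj⟩
  haveI : UniversallyClosed q := by
    haveI : UniversallyClosed (π ≫ q) := hπ ▸ inferInstance
    exact UniversallyClosed.of_comp_surjective π q
  have hproper : IsProper q := {}
  have hdimY : topologicalKrullDim ↥Y = 1 := by
    rw [← (Groth.Agent.Lib.Helper10.IntDim.main9683 π).2 inferInstance, hX]
  have hsm : Smooth q := smooth_quotient k p ρ π q hX hπ hquot
  haveI := hsm
  haveI : GeometricallyConnected q := by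
    haveI : GeometricallyConnected (π ≫ q) := hπ ▸ inferInstance
    exact geometricallyConnected_of_surjective π q
  -- integrality and normality
  haveI : ConnectedSpace ↥X := GeometricallyConnected.connectedSpace_of_subsingleton (f := p)
  haveI : IsLocallyNoetherian X := LocallyOfFiniteType.isLocallyNoetherian p
  haveI : CompactSpace ↥X := QuasiCompact.compactSpace_of_compactSpace p
  haveI : IsNoetherian X := {}
  haveI : IsIntegral X :=
    Groth.Agent.Lib.Helper11SmInt.isIntegral_of_connected_of_isDomain_stalk
      (fun x => Groth.Agent.Lib.Helper11SmInt.isDomain_stalk_of_smooth k p x)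
  haveI : IsIntegral Y :=
    Groth.Agent.Lib.Seat72.QuotNormal.isIntegral_of_isQuot ρ π hquot hsurj
  have hNY : ∀ y : Y, IsDomain (Y.presheaf.stalk y) ∧ IsIntegrallyClosed (Y.presheaf.stalk y) :=
    fun y => Groth.Agent.Lib.Seat85.NormSmooth.normal_stalk_of_smooth_over_field
      (CommRingCat.of k) (Field.toIsField k) q y
  have hnc : (Set.range π.base).Nontrivial := by
    rw [hsurj.range_eq]
    exact nontrivial_of_one_le_dim hdimY.ge
  haveI : Flat π := Groth.Agent.Lib.Helper10.CurveFlat.main k X Y q hdimY hNY π hnc
  refine ⟨hproper, hsm, inferInstance, hdimY, inferInstance, inferInstance, fun y => ?_⟩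
  exact Groth.Agent.Lib.Seat72.QuotRank.finrank_eq_card ρ π hquot p hρk hρ y

end Main

end Groth.Agent.Lib.Seat72.QuotCurve
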