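import Mathlib
import Groth.Agent.Lib.Seat72QuotCoset
import Groth.Agent.Lib.Helper12EtSrc
import Groth.Agent.S2920
import Groth.Agent.S2909

/-!
# Seat72: étaleness of quotients by free actions and by induced actions

* `etale_of_free`: a finite quotient by a free action over a locally Noetherian base is étale.
* `isQuot_range`: `IsQuot` only depends on the image of the group in `Aut X`.
* `etale_of_coset`: if `X = ⊔ gU` over `G/H` and `H` acts freely on `U` modulo the kernel of its
  action, then `X/G` is étale over the base when `X` is.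
-/

set_option autoImplicit false
set_option maxSynthPendingDepth 3
set_option linter.style.haveILetI false
set_option linter.unusedSectionVars false

universe u

open CategoryTheory CategoryTheory.Limits AlgebraicGeometry TopologicalSpace

namespace Groth.Agent.Lib.Seat72.QuotEtaleA

open SGA1 Groth.Agent.Lib.Helper20 Groth.Agent.Lib.Seat72.QuotCoset

variable {X X' : Scheme.{u}} {G : Type u} [Group G] [Finite G]

/-- a finite quotient by a free action over a locally Noetherian base is étale. -/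
theorem etale_of_free (ρ : G →* Aut X) (p : X ⟶ X') (hp : IsQuot ρ p) [IsLocallyNoetherian X']
    [IsFinite p]
    (hfree : ∀ (K : Type u) [Field K] [IsAlgClosed K] (ξ : Spec (CommRingCat.of K) ⟶ X) (g : G),
      ξ ≫ (ρ g).hom = ξ → g = 1) :
    Etale p ∧ Surjective p := by
  obtain ⟨hiso, hflat, hsurj⟩ := Groth.Agent.S2920.result ρ p hp hfree
  refine ⟨?_, hsurj⟩
  have h1 : Etale (pullback.fst p p) := by
    have h2 : Sigma.desc (fun g : G => pullback.lift (𝟙 X) (ρ g).hom
        ((Category.id_comp p).trans (hp.inv g).symm)) ≫ pullback.fst p p =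
        Sigma.desc (fun _ : G => 𝟙 X) := by
      ext g
      simp
      exact pullback.lift_fst _ _ _
    have h3 : Etale (Sigma.desc (fun _ : G => 𝟙 X)) :=
      IsZariskiLocalAtSource.sigmaDesc (P := @Etale) (fun _ => inferInstance)
    rw [← h2] at h3
    exact (MorphismProperty.cancel_left_of_respectsIso @Etale _ _).mp h3
  exact MorphismProperty.of_pullback_fst_of_descendsAlong (P := @Etale)
    (Q := @Surjective ⊓ @Flat ⊓ @QuasiCompact) (f := p) (g := p)
    ⟨⟨hsurj, hflat⟩, inferInstance⟩ h1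

/-- `IsQuot` only depends on the image of the group in `Aut X`. -/
theorem isQuot_range {H : Type u} [Group H] (ρH : H →* Aut X) (k : X ⟶ X') (hk : IsQuot ρH k) :
    IsQuot (ρH.range.subtype) k := by
  refine ⟨hk.affine, ?_, hk.injective, ?_⟩
  · rintro ⟨_, h, rfl⟩
    exact hk.inv h
  · intro U s
    rw [hk.range_iff]
    constructor
    · rintro hs ⟨_, h, rfl⟩
      exact hs h
    · intro hs h
      exact hs ⟨ρH h, h, rfl⟩

/-- induced actions: if `X = ⊔ gU` over `G/H` and `H` acts on `U` freely modulo the kernel of its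
action, then the quotient of an étale scheme over a base is étale over the base. -/
theorem etale_of_coset {Y₀ : Scheme.{u}} (ρ : G →* Aut X) (p : X ⟶ X') (hp : IsQuot ρ p)
    [IsLocallyNoetherian X'] (f : X ⟶ Y₀) [Etale f] (q : X' ⟶ Y₀) (hq : p ≫ q = f)
    (hρ : ∀ g, (ρ g).hom ≫ f = f) (H : Subgroup G) (U : X.Opens)
    (hcov : ∀ x : X, ∃ g : G, x ∈ (ρ g).hom.base '' (U : Set X))
    (hdisj : ∀ g : G, g ∉ H → Disjoint ((ρ g).hom.base '' (U : Set X)) (U : Set X))
    (hstab : ∀ h : G, h ∈ H → U ≤ (ρ h).hom ⁻¹ᵁ U)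
    (hfree : ∀ (K : Type u) [Field K] [IsAlgClosed K] (ξ : Spec (CommRingCat.of K) ⟶ X) (h : G),
      h ∈ H → (∀ t, ξ.base t ∈ U) → ξ ≫ (ρ h).hom = ξ → U.ι ≫ (ρ h).hom = U.ι) :
    Etale q := by
  let ρU : H →* Aut U.toScheme := restrictAction (ρ.comp H.subtype) U (fun h => hstab h h.2)
  have hρU : ∀ h : H, (ρU h).hom ≫ U.ι = U.ι ≫ (ρ (h : G)).hom := fun h =>
    restrictAction_ι (ρ.comp H.subtype) U _ h
  have hk : IsQuot ρU (U.ι ≫ p) := isQuot_coset hp H U hcov hdisj ρU hρU
  have hkΓ := isQuot_range ρU _ hk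
  have hfin : IsFinite (U.ι ≫ p) :=
    (Groth.Agent.S2909.result ρU (U.ι ≫ p) hk (U.ι ≫ f) q (by rw [Category.assoc, hq])
      (fun h => by rw [reassoc_of% (hρU h), hρ])).2.2.1 inferInstance
  have hfree' : ∀ (K : Type u) [Field K] [IsAlgClosed K] (ξ : Spec (CommRingCat.of K) ⟶ U.toScheme)
      (γ : ρU.range), ξ ≫ (ρU.range.subtype γ).hom = ξ → γ = 1 := by
    rintro K _ _ ξ ⟨_, h, rfl⟩ hξ
    have hξ' : ξ ≫ (ρU h).hom = ξ := hξ
    have h1 := hfree K (ξ ≫ U.ι) h h.2 (fun t => (ξ.base t).2) (by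
      rw [Category.assoc, ← hρU h, reassoc_of% hξ'])
    have h2 : (ρU h).hom = 𝟙 _ := by
      rw [← cancel_mono U.ι, hρU h, h1, Category.id_comp]
    apply Subtype.ext
    apply Aut.ext
    exact h2
  haveI : Finite ρU.range := Finite.of_surjective ρU.rangeRestrict ρU.rangeRestrict_surjective
  obtain ⟨het, hsurj⟩ := etale_of_free ρU.range.subtype (U.ι ≫ p) hkΓ hfree'
  have hcomp : Etale ((U.ι ≫ p) ≫ q) := by
    rw [Category.assoc, hq]
    infer_instance
  exact Groth.Agent.Lib.Helper12.EtSrc.etale_of_etale_cover_source (U.ι ≫ p) q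

end Groth.Agent.Lib.Seat72.QuotEtaleA
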