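import Mathlib
import Groth.Agent.Lib.Seat72QuotCoset

/-!
# Seat72: comparison of quotients along equivariant open immersions

* `imageOpenOfStable`: the image of a stable open under a quotient map is open and saturated.
* `isQuot_of_iso`: transport of `IsQuot` along an equivariant isomorphism of the source.
* `isOpenImmersion_of_isQuot`: the map between quotients induced by an equivariant open immersion
  is an open immersion, and the preimage of its range is the range of the immersion.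
-/

set_option autoImplicit false
set_option maxSynthPendingDepth 3
set_option linter.style.haveILetI false
set_option linter.unusedSectionVars false

universe u

open CategoryTheory CategoryTheory.Limits AlgebraicGeometry TopologicalSpace

namespace Groth.Agent.Lib.Seat72.QuotExistA

open SGA1 Groth.Agent.Lib.Helper20 Groth.Agent.Lib.Seat72.QuotGlue
  Groth.Agent.Lib.Seat72.QuotChart Groth.Agent.Lib.Seat72.QuotFlatBC
  Groth.Agent.Lib.Seat72.QuotCoset

variable {X Y : Scheme.{u}} {G : Type u} [Group G] [Finite G] {ρ : G →* Aut X} {p : X ⟶ Y}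

theorem saturated_of_stable (hp : IsQuot ρ p) (T : X.Opens) (hT : ∀ g, T ≤ (ρ g).hom ⁻¹ᵁ T) :
    p.base ⁻¹' (p.base '' (T : Set X)) = (T : Set X) := by
  apply Set.Subset.antisymm
  · rintro x ⟨x', hx', hxx'⟩
    obtain ⟨g, rfl⟩ := (fibre_iff_orbit hp x' x).mp hxx'
    exact hT g hx'
  · exact Set.subset_preimage_image _ _

/-- the open image of a stable open -/
def imageOpenOfStable (hp : IsQuot ρ p) (T : X.Opens) (hT : ∀ g, T ≤ (ρ g).hom ⁻¹ᵁ T) : Y.Opens :=
  ⟨p.base '' (T : Set X), by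
    rw [← (isQuotientMap_of_isQuot hp).isOpen_preimage, saturated_of_stable hp T hT]
    exact T.isOpen⟩

theorem preimage_imageOpenOfStable (hp : IsQuot ρ p) (T : X.Opens)
    (hT : ∀ g, T ≤ (ρ g).hom ⁻¹ᵁ T) : p ⁻¹ᵁ (imageOpenOfStable hp T hT) = T :=
  Opens.ext (saturated_of_stable hp T hT)

/-- transport of `IsQuot` along an equivariant isomorphism of the source. -/
theorem isQuot_of_iso {X₀ : Scheme.{u}} (ρ₀ : G →* Aut X₀) (e : X₀ ⟶ X) [IsIso e]
    (he : ∀ g, (ρ₀ g).hom ≫ e = e ≫ (ρ g).hom) (hp : IsQuot ρ p) : IsQuot ρ₀ (e ≫ p) := by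
  have haff := hp.affine
  have hinv : ∀ g : G, (ρ₀ g).hom ≫ e ≫ p = e ≫ p := by
    intro g
    rw [← Category.assoc, he g, Category.assoc, hp.inv g]
  refine isQuot_of_basis ρ₀ inferInstance hinv Set.univ (fun U y hy => ⟨U, trivial, hy, le_rfl⟩)
    (fun V _ => ?_) (fun V _ W _ => ?_)
  · have hT : p ⁻¹ᵁ V ≤ e.opensRange := by
      rw [Scheme.Hom.opensRange_of_isIso]
      exact le_top
    exact quotAt_pull e p (fun g : G => (ρ g).hom) (fun g : G => (ρ₀ g).hom) he V (p ⁻¹ᵁ V) hT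
      (quotAt_of_isQuot hp V)
  · have hT : p ⁻¹ᵁ (V ⊓ W) ≤ e.opensRange := by
      rw [Scheme.Hom.opensRange_of_isIso]
      exact le_top
    exact quotAt_pull e p (fun g : G => (ρ g).hom) (fun g : G => (ρ₀ g).hom) he (V ⊓ W)
      (p ⁻¹ᵁ (V ⊓ W)) hT (quotAt_of_isQuot hp (V ⊓ W))

/-- the map between quotients induced by an equivariant open immersion is an open immersion. -/
theorem isOpenImmersion_of_isQuot {X₀ Y₀ : Scheme.{u}} {ρ₀ : G →* Aut X₀} {p₀ : X₀ ⟶ Y₀}
    (hp : IsQuot ρ p) (hp₀ : IsQuot ρ₀ p₀) (j : X₀ ⟶ X) [IsOpenImmersion j]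
    (hj : ∀ g, (ρ₀ g).hom ≫ j = j ≫ (ρ g).hom) (k : Y₀ ⟶ Y) (hk : p₀ ≫ k = j ≫ p) :
    IsOpenImmersion k ∧ p.base ⁻¹' (Set.range k.base) = Set.range j.base := by
  have hT : ∀ g, j.opensRange ≤ (ρ g).hom ⁻¹ᵁ j.opensRange := by
    rintro g _ ⟨x₀, rfl⟩
    exact ⟨(ρ₀ g).hom.base x₀, congrArg (fun ψ : X₀ ⟶ X => ψ.base x₀) (hj g)⟩
  obtain ⟨V, hV⟩ : ∃ V : Y.Opens, V = imageOpenOfStable hp j.opensRange hT := ⟨_, rfl⟩
  have hpV : p ⁻¹ᵁ V = j.opensRange := by
    rw [hV]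
    exact preimage_imageOpenOfStable hp _ hT
  have hq := isQuot_restrict hp V
  have hrange : Set.range j.base = Set.range (p ⁻¹ᵁ V).ι.base := by
    rw [Scheme.Opens.range_ι, hpV]
    rfl
  let e := IsOpenImmersion.isoOfRangeEq j (p ⁻¹ᵁ V).ι hrange
  have hej : e.hom ≫ (p ⁻¹ᵁ V).ι = j := IsOpenImmersion.isoOfRangeEq_hom_fac _ _ _
  have he : ∀ g, (ρ₀ g).hom ≫ e.hom = e.hom ≫
      (restrictAction ρ (p ⁻¹ᵁ V) (fun g => preimage_le_of_inv ρ p hp.inv g V) g).hom := by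
    intro g
    rw [← cancel_mono (p ⁻¹ᵁ V).ι, Category.assoc, Category.assoc, restrictAction_ι, hej,
      reassoc_of% hej]
    exact hj g
  have hq₀ := isQuot_of_iso ρ₀ e.hom he hq
  have hepi₀ := epi_of_isQuot hp₀
  have hepi₁ := epi_of_isQuot hq₀
  obtain ⟨k', hk'⟩ : ∃ k' : Y₀ ⟶ V.toScheme, p₀ ≫ k' = e.hom ≫ p ∣_ V :=
    ⟨desc hp₀ (e.hom ≫ p ∣_ V) hq₀.inv, fac hp₀ _ hq₀.inv⟩
  obtain ⟨m, hm⟩ : ∃ m : V.toScheme ⟶ Y₀, (e.hom ≫ p ∣_ V) ≫ m = p₀ :=
    ⟨desc hq₀ p₀ hp₀.inv, fac hq₀ _ hp₀.inv⟩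
  have h1 : k' ≫ m = 𝟙 Y₀ := by
    rw [← cancel_epi p₀, ← Category.assoc, hk', hm, Category.comp_id]
  have h2 : m ≫ k' = 𝟙 V.toScheme := by
    rw [← cancel_epi (e.hom ≫ p ∣_ V), ← Category.assoc, hm, hk', Category.comp_id]
  have hiso : IsIso k' := ⟨m, h1, h2⟩
  have hkk : k = k' ≫ V.ι := by
    rw [← cancel_epi p₀, hk, ← Category.assoc, hk', Category.assoc, morphismRestrict_ι,
      ← Category.assoc, hej]
  have hopen : IsOpenImmersion k := by
    rw [hkk]
    infer_instance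
  refine ⟨hopen, ?_⟩
  have hsurj : Function.Surjective k'.base := by
    have : IsIso k'.base := inferInstance
    exact ((TopCat.homeoOfIso (asIso k'.base)).surjective)
  have hrk : Set.range k.base = (V : Set Y) := by
    rw [hkk, Scheme.Hom.comp_base, TopCat.coe_comp, Set.range_comp,
      Set.range_eq_univ.mpr hsurj, Set.image_univ]
    exact Scheme.Opens.range_ι V
  rw [hrk]
  exact congrArg (fun W : X.Opens => (W : Set X)) hpV

end Groth.Agent.Lib.Seat72.QuotExistA
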