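import Mathlib
import Groth.Agent.Lib.Seat72QuotEtaleA
import Groth.Agent.Lib.Seat72QuotExistA

/-!
# Seat72: the quotient of an étale separated scheme by a finite group is étale

For `f : X ⟶ Y` unramified and separated, the locus where an endomorphism of `X` over `Y` is the
identity is open and closed.  Decomposing `X` according to the inertia groups reduces the quotient
by `G` locally to a quotient by a free action.
-/

set_option autoImplicit false
set_option maxSynthPendingDepth 3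
set_option linter.style.haveILetI false
set_option linter.unusedSectionVars false

universe u

open CategoryTheory CategoryTheory.Limits AlgebraicGeometry TopologicalSpace

namespace Groth.Agent.Lib.Seat72.QuotEtaleB

open SGA1 Groth.Agent.Lib.Helper20 Groth.Agent.Lib.Seat72.QuotCoset
  Groth.Agent.Lib.Seat72.QuotExistA Groth.Agent.Lib.Seat72.QuotEtaleA

section locus

variable {X Y : Scheme.{u}} (f : X ⟶ Y) [FormallyUnramified f] [LocallyOfFiniteType f]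
  [IsSeparated f]

/-- the graph of an endomorphism over `Y` -/
noncomputable def graph (σ : X ⟶ X) (hσ : σ ≫ f = f) : X ⟶ pullback f f :=
  pullback.lift (𝟙 X) σ (by rw [Category.id_comp, hσ])

/-- the locus where `σ` is the identity -/
noncomputable def fixLocus (σ : X ⟶ X) (hσ : σ ≫ f = f) : X.Opens :=
  graph f σ hσ ⁻¹ᵁ (pullback.diagonal f).opensRange

variable {f}

theorem graph_fst (σ : X ⟶ X) (hσ : σ ≫ f = f) : graph f σ hσ ≫ pullback.fst f f = 𝟙 X :=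
  pullback.lift_fst _ _ _

theorem graph_snd (σ : X ⟶ X) (hσ : σ ≫ f = f) : graph f σ hσ ≫ pullback.snd f f = σ :=
  pullback.lift_snd _ _ _

theorem isClosed_fixLocus (σ : X ⟶ X) (hσ : σ ≫ f = f) : IsClosed (fixLocus f σ hσ : Set X) :=
  (pullback.diagonal f).isClosedEmbedding.isClosed_range.preimage (graph f σ hσ).continuous

theorem fixLocus_ι (σ : X ⟶ X) (hσ : σ ≫ f = f) :
    (fixLocus f σ hσ).ι ≫ σ = (fixLocus f σ hσ).ι := by
  have hr : Set.range ((fixLocus f σ hσ).ι ≫ graph f σ hσ).base ⊆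
      Set.range (pullback.diagonal f).base := by
    rintro _ ⟨z, rfl⟩
    exact z.2
  let t := IsOpenImmersion.lift (pullback.diagonal f) ((fixLocus f σ hσ).ι ≫ graph f σ hσ) hr
  have ht : t ≫ pullback.diagonal f = (fixLocus f σ hσ).ι ≫ graph f σ hσ :=
    IsOpenImmersion.lift_fac _ _ _
  have h1 : t = (fixLocus f σ hσ).ι := by
    have := congrArg (fun ψ => ψ ≫ pullback.fst f f) ht
    simp only [Category.assoc, pullback.diagonal_fst, graph_fst, Category.comp_id] at this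
    exact this
  have h2 : t = (fixLocus f σ hσ).ι ≫ σ := by
    have := congrArg (fun ψ => ψ ≫ pullback.snd f f) ht
    simp only [Category.assoc, pullback.diagonal_snd, graph_snd, Category.comp_id] at this
    exact this
  rw [← h2, h1]

theorem mem_fixLocus (σ : X ⟶ X) (hσ : σ ≫ f = f) {T : Scheme.{u}} (ξ : T ⟶ X)
    (hξ : ξ ≫ σ = ξ) (t : T) : ξ.base t ∈ fixLocus f σ hσ := by
  have h1 : ξ ≫ graph f σ hσ = ξ ≫ pullback.diagonal f := by
    apply pullback.hom_ext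
    · rw [Category.assoc, Category.assoc, graph_fst, pullback.diagonal_fst]
    · rw [Category.assoc, Category.assoc, graph_snd, pullback.diagonal_snd, hξ, Category.comp_id]
  have h2 := congrArg (fun ψ : T ⟶ pullback f f => ψ.base t) h1
  exact ⟨ξ.base t, h2.symm⟩

end locus

section inertia

variable {X Y : Scheme.{u}} {f : X ⟶ Y} [FormallyUnramified f] [LocallyOfFiniteType f]
  [IsSeparated f] {G : Type u} [Group G] (ρ : G →* Aut X) (hρ : ∀ g : G, (ρ g).hom ≫ f = f)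

/-- the locus where `g` acts as the identity -/
noncomputable def E (g : G) : X.Opens := fixLocus f (ρ g).hom (hρ g)

theorem E_ι (g : G) : (E ρ hρ g).ι ≫ (ρ g).hom = (E ρ hρ g).ι := fixLocus_ι _ _

theorem mem_E (g : G) {T : Scheme.{u}} (ξ : T ⟶ X) (hξ : ξ ≫ (ρ g).hom = ξ) (t : T) :
    ξ.base t ∈ E ρ hρ g := mem_fixLocus _ _ ξ hξ t

theorem conj_mem (g h : G) (z : X) (hz : z ∈ E ρ hρ g) :
    (ρ h).hom.base z ∈ E ρ hρ (h * g * h⁻¹) := by
  have h1 : ((E ρ hρ g).ι ≫ (ρ h).hom) ≫ (ρ (h * g * h⁻¹)).hom = (E ρ hρ g).ι ≫ (ρ h).hom := by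
    rw [Category.assoc, ← rho_mul_hom, inv_mul_cancel_right, rho_mul_hom, ← Category.assoc, E_ι]
  exact mem_E ρ hρ (h * g * h⁻¹) ((E ρ hρ g).ι ≫ (ρ h).hom) h1 ⟨z, hz⟩

theorem conj_mem_iff (g h : G) (z : X) :
    (ρ h).hom.base z ∈ E ρ hρ (h * g * h⁻¹) ↔ z ∈ E ρ hρ g := by
  refine ⟨fun hz => ?_, conj_mem ρ hρ g h z⟩
  have := conj_mem ρ hρ (h * g * h⁻¹) h⁻¹ _ hz
  rw [rho_apply_inv] at this
  convert this using 2
  group

variable [Finite G]

open scoped Classical in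
/-- the locus of points with the same inertia group as `x` -/
noncomputable def Ux (x : X) : X.Opens :=
  ⨅ g : G, if x ∈ E ρ hρ g then E ρ hρ g else
    ⟨((E ρ hρ g : Set X))ᶜ, (isClosed_fixLocus _ _).isOpen_compl⟩

theorem mem_Ux (x z : X) : z ∈ Ux ρ hρ x ↔ ∀ g : G, z ∈ E ρ hρ g ↔ x ∈ E ρ hρ g := by
  classical
  change z ∈ ((Ux ρ hρ x : X.Opens) : Set X) ↔ _
  rw [Ux, Opens.coe_iInf, Set.mem_iInter]
  refine forall_congr' fun g => ?_
  by_cases hx : x ∈ E ρ hρ g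
  · rw [if_pos hx]
    exact ⟨fun h => ⟨fun _ => hx, fun _ => h⟩, fun h => h.mpr hx⟩
  · rw [if_neg hx]
    exact ⟨fun h => ⟨fun h' => absurd h' h, fun h' => absurd h' hx⟩, fun h h' => hx (h.mp h')⟩

theorem self_mem_Ux (x : X) : x ∈ Ux ρ hρ x := (mem_Ux ρ hρ x x).mpr fun _ => Iff.rfl

/-- the normaliser of the inertia group of `x` -/
def Hx (x : X) : Subgroup G where
  carrier := {h | ∀ g : G, x ∈ E ρ hρ g ↔ x ∈ E ρ hρ (h * g * h⁻¹)}
  mul_mem' {a b} ha hb g := by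
    rw [hb g, ha (b * g * b⁻¹)]
    have : a * (b * g * b⁻¹) * a⁻¹ = a * b * g * (a * b)⁻¹ := by group
    rw [this]
  one_mem' g := by simp
  inv_mem' {a} ha g := by
    rw [ha (a⁻¹ * g * a⁻¹⁻¹)]
    have : a * (a⁻¹ * g * a⁻¹⁻¹) * a⁻¹ = g := by group
    rw [this]

theorem map_mem_Ux (x z : X) (hz : z ∈ Ux ρ hρ x) (h : G) (hh : h ∈ Hx ρ hρ x) :
    (ρ h).hom.base z ∈ Ux ρ hρ x := by
  rw [mem_Ux] at hz ⊢
  intro g
  have h1 : (ρ h).hom.base z ∈ E ρ hρ g ↔ z ∈ E ρ hρ (h⁻¹ * g * h) := by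
    rw [← conj_mem_iff ρ hρ (h⁻¹ * g * h) h z]
    have : h * (h⁻¹ * g * h) * h⁻¹ = g := by group
    rw [this]
  rw [h1, hz, hh (h⁻¹ * g * h)]
  have : h * (h⁻¹ * g * h) * h⁻¹ = g := by group
  rw [this]

theorem mem_Hx_of_map_mem (x z : X) (hz : z ∈ Ux ρ hρ x) (h : G)
    (hh : (ρ h).hom.base z ∈ Ux ρ hρ x) : h ∈ Hx ρ hρ x := by
  rw [mem_Ux] at hz hh
  intro g
  rw [← hz g, ← conj_mem_iff ρ hρ g h z, hh]

/-- the union of the translates of `Ux` -/
noncomputable def Tx (x : X) : X.Opens := ⨆ g : G, (ρ g).hom ⁻¹ᵁ (Ux ρ hρ x)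

theorem mem_Tx (x z : X) : z ∈ Tx ρ hρ x ↔ ∃ g : G, (ρ g).hom.base z ∈ Ux ρ hρ x := by
  rw [Tx, Opens.mem_iSup]
  rfl

theorem Tx_stable (x : X) (g : G) : Tx ρ hρ x ≤ (ρ g).hom ⁻¹ᵁ (Tx ρ hρ x) := by
  intro z hz
  obtain ⟨a, ha⟩ := (mem_Tx ρ hρ x z).mp hz
  change (ρ g).hom.base z ∈ Tx ρ hρ x
  rw [mem_Tx]
  refine ⟨a * g⁻¹, ?_⟩
  rw [rho_mul_apply, rho_apply_inv]
  exact ha

theorem Ux_le_E (x : X) (g : G) (hx : x ∈ E ρ hρ g) : Ux ρ hρ x ≤ E ρ hρ g := fun z hz =>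
  ((mem_Ux ρ hρ x z).mp hz g).mpr hx

end inertia

section main

variable {X X' Y : Scheme.{u}} {G : Type u} [Group G] [Finite G]

theorem restrict_apply (ρ : G →* Aut X) (T : X.Opens) (hT : ∀ g, T ≤ (ρ g).hom ⁻¹ᵁ T) (g : G)
    (z : T.toScheme) : ((restrictAction ρ T hT g).hom.base z).1 = (ρ g).hom.base z.1 :=
  congrArg (fun ψ : T.toScheme ⟶ X => ψ.base z) (restrictAction_ι ρ T hT g)

/-- the quotient of an étale separated scheme over a locally Noetherian base by a finite group of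
automorphisms over the base is étale over the base, and the quotient map is étale. -/
theorem etale_quotient (ρ : G →* Aut X) [IsLocallyNoetherian Y] (f : X ⟶ Y) [Etale f]
    [IsSeparated f] [QuasiCompact f] (hρ : ∀ g : G, (ρ g).hom ≫ f = f) (p : X ⟶ X')
    (hp : IsQuot ρ p) (q : X' ⟶ Y) (hq : p ≫ q = f) : Etale p ∧ Etale q := by
  obtain ⟨-, -, -, hlft⟩ := Groth.Agent.S2909.result ρ p hp f q hq hρ
  obtain ⟨hqlft, hqqc⟩ := hlft inferInstance inferInstance inferInstance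
  have hX'N : IsLocallyNoetherian X' := LocallyOfFiniteType.isLocallyNoetherian q
  have hqet : Etale q := by
    -- the stable opens `T x` and their images
    have hV : ∀ x : X, ∃ V : X'.Opens, p ⁻¹ᵁ V = Tx ρ hρ x := fun x =>
      ⟨imageOpenOfStable hp (Tx ρ hρ x) (Tx_stable ρ hρ x),
        preimage_imageOpenOfStable hp _ (Tx_stable ρ hρ x)⟩
    choose V hpV using hV
    have hsup : iSup V = ⊤ := by
      rw [eq_top_iff]
      intro y _
      obtain ⟨x, rfl⟩ := surjective_of_isQuot hp y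
      have hxT : x ∈ Tx ρ hρ x := by
        rw [mem_Tx]
        refine ⟨1, ?_⟩
        rw [rho_one_hom]
        exact self_mem_Ux ρ hρ x
      have : x ∈ p ⁻¹ᵁ V x := by rw [hpV x]; exact hxT
      exact Opens.mem_iSup.mpr ⟨x, this⟩
    refine IsZariskiLocalAtSource.of_iSup_eq_top (P := @Etale) V hsup fun x => ?_
    -- the restricted situation
    have hq₁ := isQuot_restrict hp (V x)
    obtain ⟨T', hT'⟩ : ∃ T' : X.Opens, T' = p ⁻¹ᵁ V x := ⟨_, rfl⟩
    have hT'T : T' = Tx ρ hρ x := hT'.trans (hpV x)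
    have hT's : ∀ g : G, T' ≤ (ρ g).hom ⁻¹ᵁ T' := by
      rw [hT']
      exact fun g => preimage_le_of_inv ρ p hp.inv g (V x)
    subst hT'
    let ρ₁ := restrictAction ρ (p ⁻¹ᵁ V x) hT's
    have hρ₁ι : ∀ g : G, (ρ₁ g).hom ≫ (p ⁻¹ᵁ V x).ι = (p ⁻¹ᵁ V x).ι ≫ (ρ g).hom := fun g =>
      restrictAction_ι ρ _ hT's g
    have hρ₁ : ∀ g : G, (ρ₁ g).hom ≫ (p ⁻¹ᵁ V x).ι ≫ f = (p ⁻¹ᵁ V x).ι ≫ f := fun g => by
      rw [reassoc_of% (hρ₁ι g), hρ]
    have hpq₁ : (p ∣_ V x) ≫ (V x).ι ≫ q = (p ⁻¹ᵁ V x).ι ≫ f := by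
      rw [← Category.assoc, morphismRestrict_ι, Category.assoc, hq]
    let U₁ : (p ⁻¹ᵁ V x).toScheme.Opens := (p ⁻¹ᵁ V x).ι ⁻¹ᵁ (Ux ρ hρ x)
    have hmemU₁ : ∀ z : (p ⁻¹ᵁ V x).toScheme, z ∈ U₁ ↔ z.1 ∈ Ux ρ hρ x := fun z => Iff.rfl
    have happly : ∀ (g : G) (z : (p ⁻¹ᵁ V x).toScheme),
        ((ρ₁ g).hom.base z).1 = (ρ g).hom.base z.1 := fun g z => restrict_apply ρ _ hT's g z
    haveI : IsLocallyNoetherian (V x).toScheme := inferInstance
    refine etale_of_coset ρ₁ (p ∣_ V x) hq₁ ((p ⁻¹ᵁ V x).ι ≫ f) ((V x).ι ≫ q) hpq₁ hρ₁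
      (Hx ρ hρ x) U₁ ?_ ?_ ?_ ?_
    · -- the translates cover
      intro z
      have hz : z.1 ∈ Tx ρ hρ x := hT'T ▸ z.2
      obtain ⟨g, hg⟩ := (mem_Tx ρ hρ x z.1).mp hz
      refine ⟨g⁻¹, (ρ₁ g).hom.base z, ?_, ?_⟩
      · change (ρ₁ g).hom.base z ∈ U₁
        rw [hmemU₁, happly]
        exact hg
      · exact rho_apply_inv ρ₁ g z
    · -- disjointness
      intro g hg
      rw [Set.disjoint_left]
      rintro _ ⟨w, hw, rfl⟩ hw'
      apply hg
      refine mem_Hx_of_map_mem ρ hρ x w.1 hw g ?_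
      rw [← happly]
      exact hw'
    · -- stability
      intro h hh z hz
      change (ρ₁ h).hom.base z ∈ U₁
      rw [hmemU₁, happly]
      exact map_mem_Ux ρ hρ x z.1 hz h hh
    · -- freeness modulo the kernel
      intro K _ _ ξ h hh hξU hξ
      have hξ' : (ξ ≫ (p ⁻¹ᵁ V x).ι) ≫ (ρ h).hom = ξ ≫ (p ⁻¹ᵁ V x).ι := by
        rw [Category.assoc, ← hρ₁ι h, reassoc_of% hξ]
      let t₀ : Spec (CommRingCat.of K) := IsLocalRing.closedPoint K
      have h1 : (ξ ≫ (p ⁻¹ᵁ V x).ι).base t₀ ∈ E ρ hρ h := mem_E ρ hρ h _ hξ' t₀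
      have h2 : (ξ ≫ (p ⁻¹ᵁ V x).ι).base t₀ ∈ Ux ρ hρ x := hξU t₀
      have hxE : x ∈ E ρ hρ h := ((mem_Ux ρ hρ x _).mp h2 h).mp h1
      have hle := Ux_le_E ρ hρ x h hxE
      have h3 : (Ux ρ hρ x).ι ≫ (ρ h).hom = (Ux ρ hρ x).ι := by
        rw [← X.homOfLE_ι hle, Category.assoc, E_ι]
      rw [← cancel_mono (p ⁻¹ᵁ V x).ι, Category.assoc, hρ₁ι h]
      have h4 : U₁.ι ≫ (p ⁻¹ᵁ V x).ι = ((p ⁻¹ᵁ V x).ι ∣_ Ux ρ hρ x) ≫ (Ux ρ hρ x).ι :=
        (morphismRestrict_ι _ _).symm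
      rw [reassoc_of% h4, h3, h4]
  refine ⟨?_, hqet⟩
  have : Etale (p ≫ q) := by rw [hq]; infer_instance
  exact Etale.of_comp p q

/-- finiteness of the quotient over the base. -/
theorem isFinite_quotient (ρ : G →* Aut X) [IsLocallyNoetherian Y] (f : X ⟶ Y) [IsFinite f]
    (hρ : ∀ g : G, (ρ g).hom ≫ f = f) (p : X ⟶ X')
    (hp : IsQuot ρ p) (q : X' ⟶ Y) (hq : p ≫ q = f) : IsFinite q := by
  obtain ⟨haff, -, -, hlft⟩ := Groth.Agent.S2909.result ρ p hp f q hq hρ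
  obtain ⟨hqlft, -⟩ := hlft inferInstance inferInstance inferInstance
  have hqaff : IsAffineHom q := haff.mp inferInstance
  haveI : Surjective p := ⟨surjective_of_isQuot hp⟩
  haveI : UniversallyClosed (p ≫ q) := by rw [hq]; infer_instance
  have huc : UniversallyClosed q := UniversallyClosed.of_comp_surjective p q
  have hint : IsIntegralHom q := IsIntegralHom.iff_universallyClosed_and_isAffineHom.mpr ⟨huc, hqaff⟩
  exact (IsFinite.iff_isIntegralHom_and_locallyOfFiniteType q).mpr ⟨hint, hqlft⟩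

end main

end Groth.Agent.Lib.Seat72.QuotEtaleB
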