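import Mathlib
import Groth.Agent.Lib.Seat72QuotExistA
import Groth.Agent.Lib.Seat72QuotExistB
import Groth.Agent.Lib.Seat72DblCov

/-!
# Seat72: existence of the quotient by a finite group when orbits lie in affine opens

The stable affine opens `W` of `X` form a locally directed system; each has the quotient
`Spec Γ(X, W)^G`, and these quotients glue (`Scheme.IsLocallyDirected`) to the quotient of `X`.
-/

set_option autoImplicit false
set_option maxSynthPendingDepth 3
set_option linter.style.haveILetI false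
set_option linter.unusedSectionVars false

universe u

open CategoryTheory CategoryTheory.Limits AlgebraicGeometry TopologicalSpace

namespace Groth.Agent.Lib.Seat72.QuotExistC

open SGA1 Groth.Agent.Lib.Helper20 Groth.Agent.Lib.Seat72.QuotGlue
  Groth.Agent.Lib.Seat72.QuotChart Groth.Agent.Lib.Seat72.QuotFlatBC
  Groth.Agent.Lib.Seat72.QuotCoset Groth.Agent.Lib.Seat72.QuotExistA
  Groth.Agent.Lib.Seat72.QuotExistB

variable {X : Scheme.{u}} {G : Type u} [Group G] [Finite G]

/-- stable affine opens -/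
def StableAffine (ρ : G →* Aut X) : Type u :=
  {W : X.Opens // IsAffineOpen W ∧ ∀ g : G, W ≤ (ρ g).hom ⁻¹ᵁ W}

instance (ρ : G →* Aut X) : Preorder (StableAffine ρ) :=
  inferInstanceAs (Preorder {W : X.Opens // IsAffineOpen W ∧ ∀ g : G, W ≤ (ρ g).hom ⁻¹ᵁ W})

namespace StableAffine

variable {ρ : G →* Aut X} (W : StableAffine ρ)

/-- the underlying open -/
abbrev U : X.Opens := W.1

theorem isAffineOpen : IsAffineOpen W.U := W.2.1

theorem stable (g : G) : W.U ≤ (ρ g).hom ⁻¹ᵁ W.U := W.2.2 g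

/-- the action on sections -/
noncomputable def act (g : G) : Γ(X, W.U) ⟶ Γ(X, W.U) := (ρ g).hom.appLE W.U W.U (W.stable g)

/-- the subring of invariants -/
noncomputable def invariants : Subring Γ(X, W.U) where
  carrier := {s | ∀ g : G, (W.act g).hom s = s}
  mul_mem' ha hb g := by rw [map_mul, ha g, hb g]
  one_mem' g := map_one _
  add_mem' ha hb g := by rw [map_add, ha g, hb g]
  zero_mem' g := map_zero _
  neg_mem' ha g := by rw [map_neg, ha g]

/-- the ring of invariants -/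
noncomputable def R : CommRingCat.{u} := CommRingCat.of W.invariants

/-- the inclusion of the invariants -/
noncomputable def incl : W.R ⟶ Γ(X, W.U) := CommRingCat.ofHom W.invariants.subtype

/-- the chart of the quotient -/
noncomputable abbrev Yc : Scheme.{u} := Spec W.R

/-- the restricted action -/
noncomputable def ρW : G →* Aut W.U.toScheme := restrictAction ρ W.U W.stable

/-- the quotient map of the chart -/
noncomputable def pc : W.U.toScheme ⟶ W.Yc := W.isAffineOpen.isoSpec.hom ≫ Spec.map W.incl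

theorem ρW_ι (g : G) : (W.ρW g).hom ≫ W.U.ι = W.U.ι ≫ (ρ g).hom := restrictAction_ι ρ _ _ g

theorem ρW_isoSpec (g : G) :
    (W.ρW g).hom ≫ W.isAffineOpen.isoSpec.hom = W.isAffineOpen.isoSpec.hom ≫ Spec.map (W.act g) := by
  rw [IsAffineOpen.isoSpec_hom]
  exact (Scheme.Opens.toSpecΓ_SpecMap_appLE (ρ g).hom W.U W.U (W.stable g)).symm

theorem incl_act (g : G) : W.incl ≫ W.act g = W.incl := by
  ext s
  exact s.2 g

theorem ρW_pc (g : G) : (W.ρW g).hom ≫ W.pc = W.pc := by
  unfold pc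
  rw [← Category.assoc, ρW_isoSpec, Category.assoc, ← Spec.map_comp, incl_act]

instance : IsAffine W.Yc := inferInstanceAs (IsAffine (Spec W.R))

instance : IsAffine W.U.toScheme := W.isAffineOpen

theorem quotAt_pc : QuotAt (fun g : G => (W.ρW g).hom) W.pc ⊤ ⊤ := by
  have h₀ : QuotAt (fun g : G => Spec.map (W.act g)) (Spec.map W.incl) ⊤ ⊤ := by
    refine quotAt_spec W.incl (fun g : G => W.act g) Subtype.val_injective ?_
    intro s hs
    exact ⟨⟨s, hs⟩, rfl⟩
  have h1 := quotAt_of_isOpenImmersion (σ := fun g : G => (W.ρW g).hom) (p := W.pc)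
    W.isAffineOpen.isoSpec.inv (𝟙 W.Yc) (Spec.map W.incl) (fun g : G => Spec.map (W.act g))
    (by unfold pc; rw [Iso.inv_hom_id_assoc, Category.comp_id])
    (fun g => by
      rw [Iso.inv_comp_eq, ← Category.assoc, ← ρW_isoSpec, Category.assoc, Iso.hom_inv_id,
        Category.comp_id]) h₀
  rw [Scheme.Hom.image_top_eq_opensRange, Scheme.Hom.image_top_eq_opensRange,
    Scheme.Hom.opensRange_of_isIso, Scheme.Hom.opensRange_of_isIso] at h1
  exact h1

theorem isQuot_pc : IsQuot W.ρW W.pc :=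
  isQuot_of_isAffine W.ρW inferInstance W.ρW_pc W.quotAt_pc

theorem epi_pc : Epi W.pc := epi_of_isQuot W.isQuot_pc

theorem surjective_pc : Function.Surjective W.pc.base := surjective_of_isQuot W.isQuot_pc

end StableAffine

section trans

variable {ρ : G →* Aut X} {W W' W'' : StableAffine ρ}

theorem homOfLE_equivariant (h : W ≤ W') (g : G) :
    (W.ρW g).hom ≫ X.homOfLE h = X.homOfLE h ≫ (W'.ρW g).hom := by
  rw [← cancel_mono W'.U.ι, Category.assoc, Category.assoc, Scheme.homOfLE_ι, W'.ρW_ι,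
    Scheme.homOfLE_ι_assoc, W.ρW_ι]

theorem homOfLE_pc_inv (h : W ≤ W') (g : G) :
    (W.ρW g).hom ≫ X.homOfLE h ≫ W'.pc = X.homOfLE h ≫ W'.pc := by
  rw [← Category.assoc, homOfLE_equivariant h g, Category.assoc, W'.ρW_pc]

/-- the transition maps between the charts -/
noncomputable def trans (h : W ≤ W') : W.Yc ⟶ W'.Yc :=
  desc W.isQuot_pc (X.homOfLE h ≫ W'.pc) (homOfLE_pc_inv h)

theorem pc_trans (h : W ≤ W') : W.pc ≫ trans h = X.homOfLE h ≫ W'.pc :=
  fac W.isQuot_pc _ (homOfLE_pc_inv h)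

theorem trans_refl : trans (le_refl W) = 𝟙 W.Yc := by
  have := W.epi_pc
  rw [← cancel_epi W.pc, pc_trans, Category.comp_id]
  have : X.homOfLE (le_refl W) = 𝟙 _ := Scheme.homOfLE_rfl _ _
  rw [this, Category.id_comp]

theorem trans_trans (h : W ≤ W') (h' : W' ≤ W'') : trans h ≫ trans h' = trans (h.trans h') := by
  have := W.epi_pc
  rw [← cancel_epi W.pc, ← Category.assoc, pc_trans, Category.assoc, pc_trans, pc_trans,
    ← Category.assoc, Scheme.homOfLE_homOfLE]

theorem isOpenImmersion_trans (h : W ≤ W') : IsOpenImmersion (trans h) :=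
  (isOpenImmersion_of_isQuot W'.isQuot_pc W.isQuot_pc (X.homOfLE h) (homOfLE_equivariant h)
    (trans h) (pc_trans h)).1

end trans

section functor

variable (ρ : G →* Aut X)

/-- the functor of the charts -/
noncomputable def chartFunctor : StableAffine ρ ⥤ Scheme.{u} where
  obj W := W.Yc
  map f := trans (leOfHom f)
  map_id _ := trans_refl
  map_comp f g := (trans_trans (leOfHom f) (leOfHom g)).symm

instance {W W' : StableAffine ρ} (f : W ⟶ W') : IsOpenImmersion ((chartFunctor ρ).map f) :=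
  isOpenImmersion_trans (leOfHom f)

variable {ρ}

theorem homOfLE_apply {W W' : X.Opens} (h : W ≤ W') (x : X) (hx : x ∈ W) :
    (X.homOfLE h).base ⟨x, hx⟩ = ⟨x, h hx⟩ := by
  apply Subtype.ext
  exact congrArg (fun ψ : W.toScheme ⟶ X => ψ.base ⟨x, hx⟩) (X.homOfLE_ι h)

theorem ρW_apply (W : StableAffine ρ) (g : G) (y : W.U.toScheme) :
    ((W.ρW g).hom.base y).1 = (ρ g).hom.base y.1 :=
  congrArg (fun ψ : W.U.toScheme ⟶ X => ψ.base y) (W.ρW_ι g)

theorem pc_trans_apply {W W' : StableAffine ρ} (h : W ≤ W') (x : X) (hx : x ∈ W.U) :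
    (trans h).base (W.pc.base ⟨x, hx⟩) = W'.pc.base ⟨x, h hx⟩ := by
  have := congrArg (fun ψ : W.U.toScheme ⟶ W'.Yc => ψ.base ⟨x, hx⟩) (pc_trans h)
  simp only [Scheme.Hom.comp_base, TopCat.hom_comp, ContinuousMap.comp_apply] at this
  rw [this]
  exact congrArg W'.pc.base (homOfLE_apply h x hx)

/-- two points of a stable affine open with the same image in the chart lie in one orbit. -/
theorem exists_of_pc_eq (W : StableAffine ρ) (x x' : X) (hx : x ∈ W.U) (hx' : x' ∈ W.U)
    (h : W.pc.base ⟨x, hx⟩ = W.pc.base ⟨x', hx'⟩) : ∃ g : G, (ρ g).hom.base x = x' := by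
  obtain ⟨g, hg⟩ := (fibre_iff_orbit W.isQuot_pc _ _).mp h
  refine ⟨g, ?_⟩
  have := ρW_apply W g ⟨x, hx⟩
  rw [hg] at this
  exact this.symm

theorem pc_orbit (W : StableAffine ρ) (g : G) (x : X) (hx : x ∈ W.U) :
    W.pc.base ⟨(ρ g).hom.base x, W.stable g hx⟩ = W.pc.base ⟨x, hx⟩ := by
  have h1 := map_rho W.isQuot_pc g ⟨x, hx⟩
  rw [← h1]
  congr 1
  apply Subtype.ext
  exact (ρW_apply W g ⟨x, hx⟩).symm

/-- stable affine opens form a basis of the stable opens around points of stable affine opens. -/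
theorem exists_le_inf (W W' : StableAffine ρ) (x : X) (hx : x ∈ W.U) (hx' : x ∈ W'.U) :
    ∃ W'' : StableAffine ρ, W'' ≤ W ∧ W'' ≤ W' ∧ x ∈ W''.U := by
  obtain ⟨T, hT, hTs, hxT, hTle⟩ := exists_stable_affine ρ x W.U W.isAffineOpen
    (fun g => W.stable g hx) (W.U ⊓ W'.U)
    (fun g y hy => ⟨W.stable g hy.1, W'.stable g hy.2⟩) ⟨hx, hx'⟩
  exact ⟨⟨T, hT, hTs⟩, hTle.trans inf_le_left, hTle.trans inf_le_right, hxT⟩

instance : ((chartFunctor ρ) ⋙ Scheme.forget).IsLocallyDirected where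
  cond {i j k} fi fj xi xj heq := by
    obtain ⟨⟨a, ha⟩, rfl⟩ := i.surjective_pc xi
    obtain ⟨⟨b, hb⟩, rfl⟩ := j.surjective_pc xj
    have heq' : (trans (leOfHom fi)).base (i.pc.base ⟨a, ha⟩) =
        (trans (leOfHom fj)).base (j.pc.base ⟨b, hb⟩) := heq
    rw [pc_trans_apply, pc_trans_apply] at heq'
    obtain ⟨g, hg⟩ := exists_of_pc_eq k a b _ _ heq'
    have haj : a ∈ j.U := by
      have h1 := j.stable g⁻¹ hb
      change (ρ g⁻¹).hom.base b ∈ j.U at h1
      rwa [← hg, ← rho_mul_apply, inv_mul_cancel, rho_one_hom] at h1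
    obtain ⟨l, hli, hlj, hal⟩ := exists_le_inf i j a ha haj
    refine ⟨l, homOfLE hli, homOfLE hlj, l.pc.base ⟨a, hal⟩, ?_, ?_⟩
    · exact pc_trans_apply hli a hal
    · refine (pc_trans_apply hlj a hal).trans ?_
      rw [← pc_orbit j g a haj]
      congr 1
      exact Subtype.ext hg

end functor

section main

variable (ρ : G →* Aut X)

open Scheme.IsLocallyDirected in
/-- **Existence of the quotient** when the orbits lie in affine opens. -/
theorem exists_isQuot
    (h : ∀ x : X, ∃ U : X.Opens, IsAffineOpen U ∧ ∀ g : G, (ρ g).hom.base x ∈ U) :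
    ∃ (Y : Scheme.{u}) (p : X ⟶ Y), IsQuot ρ p := by
  obtain ⟨F, hF⟩ : ∃ F, F = chartFunctor ρ := ⟨_, rfl⟩
  haveI : ∀ {i j : StableAffine ρ} (f : i ⟶ j), IsOpenImmersion (F.map f) := by
    subst hF; infer_instance
  haveI : (F ⋙ Scheme.forget).IsLocallyDirected := by
    subst hF; infer_instance
  have hFobj : ∀ W : StableAffine ρ, F.obj W = W.Yc := fun W => by subst hF; rfl
  have hcov : ∀ x : X, ∃ W : StableAffine ρ, x ∈ W.U := by
    intro x
    obtain ⟨U₀, hU₀, hx⟩ := h x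
    obtain ⟨T, hT, hTs, hxT, -⟩ := exists_stable_affine ρ x U₀ hU₀ hx ⊤ (fun g => le_top) trivial
    exact ⟨⟨T, hT, hTs⟩, hxT⟩
  subst hF
  let ι : ∀ W : StableAffine ρ, W.Yc ⟶ colimit (chartFunctor ρ) := fun W =>
    colimit.ι (chartFunctor ρ) W
  have hιopen : ∀ W, IsOpenImmersion (ι W) := fun W =>
    inferInstanceAs (IsOpenImmersion (colimit.ι (chartFunctor ρ) W))
  have hw : ∀ {l i : StableAffine ρ} (hli : l ≤ i), trans hli ≫ ι i = ι l := fun {l i} hli =>
    colimit.w (chartFunctor ρ) (homOfLE hli)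
  have hw' : ∀ {l i : StableAffine ρ} (hli : l ≤ i),
      X.homOfLE hli ≫ i.pc ≫ ι i = l.pc ≫ ι l := by
    intro l i hli
    rw [← Category.assoc, ← pc_trans hli, Category.assoc, hw hli]
  obtain ⟨p, hp⟩ := Groth.Agent.Lib.Seat72.DblCov.exists_glue (fun W : StableAffine ρ => W.U) hcov
    (fun W => W.pc ≫ ι W) (by
      intro i j x hi hj
      obtain ⟨l, hli, hlj, hxl⟩ := exists_le_inf i j x hi hj
      exact ⟨l.U, hli, hlj, hxl, (hw' hli).trans (hw' hlj).symm⟩)
  have hp_apply : ∀ (W : StableAffine ρ) (x : X) (hx : x ∈ W.U),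
      p.base x = (ι W).base (W.pc.base ⟨x, hx⟩) := fun W x hx =>
    congrArg (fun ψ : W.U.toScheme ⟶ colimit (chartFunctor ρ) => ψ.base ⟨x, hx⟩) (hp W)
  have hinv : ∀ g : G, (ρ g).hom ≫ p = p := by
    intro g
    apply Scheme.hom_ext_of_forall
    intro x
    obtain ⟨W, hxW⟩ := hcov x
    refine ⟨W.U, hxW, ?_⟩
    rw [← Category.assoc, ← W.ρW_ι g, Category.assoc, hp W, ← Category.assoc, W.ρW_pc]
  have hpre : ∀ W : StableAffine ρ, p ⁻¹ᵁ (ι W).opensRange = W.U := by
    intro W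
    apply le_antisymm
    · intro x hx
      obtain ⟨y, hy⟩ := hx
      obtain ⟨W', hxW'⟩ := hcov x
      have h1 : (colimit.ι (chartFunctor ρ) W').base (W'.pc.base ⟨x, hxW'⟩) =
          (colimit.ι (chartFunctor ρ) W).base y := (hp_apply W' x hxW').symm.trans hy.symm
      obtain ⟨l, fi, fj, z, hz1, hz2⟩ := (ι_eq_ι_iff (F := chartFunctor ρ)).mp h1
      obtain ⟨⟨c, hc⟩, rfl⟩ := l.surjective_pc z
      have hz1' : (trans (leOfHom fi)).base (l.pc.base ⟨c, hc⟩) = W'.pc.base ⟨x, hxW'⟩ := hz1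
      rw [pc_trans_apply] at hz1'
      obtain ⟨g, hg⟩ := exists_of_pc_eq W' c x _ _ hz1'
      rw [← hg]
      exact W.stable g (leOfHom fj hc)
    · intro x hx
      exact ⟨W.pc.base ⟨x, hx⟩, (hp_apply W x hx).symm⟩
  have haff : IsAffineHom p := by
    apply isAffineHom_of_forall_exists_isAffineOpen
    intro y
    obtain ⟨W, z, rfl⟩ := ι_jointly_surjective (chartFunctor ρ) y
    refine ⟨(ι W).opensRange, ⟨z, rfl⟩, isAffineOpen_opensRange (ι W), ?_⟩
    rw [hpre W]
    exact W.isAffineOpen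
  refine ⟨colimit (chartFunctor ρ), p, isQuot_of_affine_cover ρ haff hinv
    (Set.range fun W : StableAffine ρ => (ι W).opensRange) ?_ ?_ ?_⟩
  · intro y
    obtain ⟨W, z, rfl⟩ := ι_jointly_surjective (chartFunctor ρ) y
    exact ⟨_, ⟨W, rfl⟩, ⟨z, rfl⟩⟩
  · rintro _ ⟨W, rfl⟩
    exact isAffineOpen_opensRange (ι W)
  · rintro _ ⟨W, rfl⟩
    have h1 := quotAt_of_isOpenImmersion (σ := fun g : G => (ρ g).hom) (p := p) W.U.ι (ι W) W.pc
      (fun g : G => (W.ρW g).hom) (hp W) (fun g => (W.ρW_ι g).symm) W.quotAt_pc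
    rw [Scheme.Hom.image_top_eq_opensRange, Scheme.Hom.image_top_eq_opensRange,
      Scheme.Opens.opensRange_ι] at h1
    change QuotAt _ p (ι W).opensRange (p ⁻¹ᵁ (ι W).opensRange)
    rw [hpre W]
    exact h1

end main

end Groth.Agent.Lib.Seat72.QuotExistC
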