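import Mathlib
import Groth.Agent.Lib.Seat72QuotFlatBC
import Groth.Agent.Lib.Seat72InvUnit
import Groth.Agent.Lib.Helper20QuotRestrict

/-!
# Seat72: quotients by finite groups of invertible order commute with arbitrary base change
-/

set_option autoImplicit false
set_option maxSynthPendingDepth 3
set_option linter.style.haveILetI false
set_option linter.unusedSectionVars false

universe u

open CategoryTheory CategoryTheory.Limits AlgebraicGeometry TopologicalSpace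

namespace Groth.Agent.Lib.Seat72.QuotUnitBC

open SGA1 Groth.Agent.Lib.Helper20 Groth.Agent.Lib.Seat72.QuotGlue
  Groth.Agent.Lib.Seat72.QuotChart Groth.Agent.Lib.Seat72.InvUnit
  Groth.Agent.Lib.Seat72.QuotFlatBC

theorem isUnit_card_of_top {Z : Scheme.{u}} {n : ℕ} (h : IsUnit ((n : ℕ) : Γ(Z, ⊤)))
    (W : Z.Opens) : IsUnit ((n : ℕ) : Γ(Z, W)) := by
  have := h.map (Z.presheaf.map (homOfLE (le_top : W ≤ ⊤)).op).hom
  rwa [map_natCast] at this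

/-- the sections over a stable open of the sum over the group is invariant -/
theorem sum_appLE_invariant {X : Scheme.{u}} {G : Type u} [Group G] [Fintype G]
    (ρ : G →* Aut X) (U : X.Opens) (hU : ∀ g : G, U ≤ (ρ g).hom ⁻¹ᵁ U) (j : G) (b : Γ(X, U)) :
    ((ρ j).hom.appLE U U (hU j)).hom (∑ i, ((ρ i).hom.appLE U U (hU i)).hom b) =
      ∑ i, ((ρ i).hom.appLE U U (hU i)).hom b := by
  rw [map_sum]
  refine Fintype.sum_equiv (Equiv.mulRight j) _ _ fun i => ?_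
  have h1 : (ρ i).hom.appLE U U (hU i) ≫ (ρ j).hom.appLE U U (hU j) =
      (ρ (i * j)).hom.appLE U U (hU (i * j)) := by
    rw [Scheme.Hom.appLE_comp_appLE]
    exact appLE_congr_hom (rho_mul_hom ρ i j).symm _ _ _
  exact congrArg (fun f => f.hom b) h1

/-- Quotients by finite groups whose order is invertible on the base commute with arbitrary
base change. -/
theorem isQuot_baseChange_of_unit {X Y Z Z' X' Y' : Scheme.{u}} {G : Type u} [Group G] [Finite G]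
    (ρ : G →* Aut X) (p : X ⟶ Y) (hp : SGA1.IsQuot ρ p) (q : Y ⟶ Z) (b : Z' ⟶ Z)
    (hG : IsUnit ((Nat.card G : ℕ) : Γ(Z, ⊤)))
    (qY : Y' ⟶ Y) (bY : Y' ⟶ Z') (hY : IsPullback qY bY q b)
    (pX : X' ⟶ X) (p' : X' ⟶ Y') (hX : IsPullback pX p' p qY)
    (ρ' : G →* Aut X') (hρ₁ : ∀ g : G, (ρ' g).hom ≫ pX = pX ≫ (ρ g).hom)
    (hρ₂ : ∀ g : G, (ρ' g).hom ≫ p' = p') :
    SGA1.IsQuot ρ' p' := by
  classical
  cases nonempty_fintype G
  haveI := hp.affine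
  have haff : IsAffineHom p' :=
    MorphismProperty.of_isPullback (P := @IsAffineHom) hX hp.affine
  let 𝒱 : Set Y'.Opens := {V' | ∃ (W : Z.Opens) (W' : Z'.Opens) (V : Y.Opens),
    IsAffineOpen W ∧ IsAffineOpen W' ∧ IsAffineOpen V ∧ W' ≤ b ⁻¹ᵁ W ∧ V ≤ q ⁻¹ᵁ W ∧
      V' = qY ⁻¹ᵁ V ⊓ bY ⁻¹ᵁ W'}
  refine isQuot_of_affine_cover ρ' haff hρ₂ 𝒱 ?_ ?_ ?_
  · intro y'
    obtain ⟨W, hW, hzW, -⟩ := exists_affine_nhd_le (⊤ : Z.Opens) (q.base (qY.base y')) trivial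
    have h1 : bY.base y' ∈ b ⁻¹ᵁ W := by
      show b.base (bY.base y') ∈ W
      have : b.base (bY.base y') = q.base (qY.base y') :=
        (congrArg (fun ψ : Y' ⟶ Z => ψ.base y') hY.w).symm
      rw [this]
      exact hzW
    obtain ⟨W', hW', hyW', hW'le⟩ := exists_affine_nhd_le (b ⁻¹ᵁ W) (bY.base y') h1
    obtain ⟨V, hV, hyV, hVle⟩ := exists_affine_nhd_le (q ⁻¹ᵁ W) (qY.base y') hzW
    exact ⟨_, ⟨W, W', V, hW, hW', hV, hW'le, hVle, rfl⟩, ⟨hyV, hyW'⟩⟩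
  · rintro _ ⟨W, W', V, hW, hW', hV, hW'le, hVle, rfl⟩
    exact isAffineOpen_of_isPullback hY hW'le hVle rfl hW hW' hV
  · rintro _ ⟨W, W', V, hW, hW', hV, hW'le, hVle, rfl⟩
    have hT : IsAffineOpen (p ⁻¹ᵁ V) := hV.preimage p
    have hT' : p' ⁻¹ᵁ (qY ⁻¹ᵁ V ⊓ bY ⁻¹ᵁ W') = pX ⁻¹ᵁ (p ⁻¹ᵁ V) ⊓ (p' ≫ bY) ⁻¹ᵁ W' := by
      rw [Scheme.Hom.preimage_inf, ← Scheme.Hom.comp_preimage, ← Scheme.Hom.comp_preimage,
        ← Scheme.Hom.comp_preimage, hX.w]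
    have hpaste : IsPullback pX (p' ≫ bY) (p ≫ q) b := hX.paste_vert hY
    have hTW : p ⁻¹ᵁ V ≤ (p ≫ q) ⁻¹ᵁ W := by
      rw [Scheme.Hom.comp_preimage]
      exact p.preimage_mono hVle
    have hA := isPushout_appLE_of_isPullback hY hW'le hVle rfl hW hW' hV
    have hB0 := isPushout_appLE_of_isPullback hpaste hW'le hTW hT' hW hW' hT
    obtain ⟨e, eσ, hinj, hrange⟩ := quotAt_of_isQuot hp V
    have hcomp : q.appLE W V hVle ≫ p.appLE V (p ⁻¹ᵁ V) e = (p ≫ q).appLE W (p ⁻¹ᵁ V) hTW :=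
      Scheme.Hom.appLE_comp_appLE _ _ _ _ _ _ _
    rw [← hcomp] at hB0
    have eσ' : ∀ g : G, p' ⁻¹ᵁ (qY ⁻¹ᵁ V ⊓ bY ⁻¹ᵁ W') ≤
        (ρ' g).hom ⁻¹ᵁ (p' ⁻¹ᵁ (qY ⁻¹ᵁ V ⊓ bY ⁻¹ᵁ W')) :=
      fun g => preimage_le_of_inv ρ' p' hρ₂ g _
    refine ⟨le_rfl, eσ', ?_⟩
    have hcard : IsUnit ((Fintype.card G : ℕ) : Γ(Z, W)) := by
      rw [← Nat.card_eq_fintype_card]
      exact isUnit_card_of_top hG W
    refine invariants_pushout_of_unit (q.appLE W V hVle) (b.appLE W W' hW'le)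
      (p.appLE V (p ⁻¹ᵁ V) e)
      _ _ _ _ (p'.appLE _ _ le_rfl) hA hB0 ?_ ?_ hcard
      (fun g => (ρ g).hom.appLE _ _ (eσ g)) ?_ (sum_appLE_invariant ρ _ eσ) hinj hrange
      (fun g => (ρ' g).hom.appLE _ _ (eσ' g)) ?_ ?_
    · rw [Scheme.Hom.appLE_comp_appLE, Scheme.Hom.appLE_comp_appLE]
      exact appLE_congr_hom hX.w.symm _ _ _
    · rw [Scheme.Hom.appLE_comp_appLE]
    · intro g
      rw [Scheme.Hom.appLE_comp_appLE]
      exact appLE_congr_hom (hp.inv g) _ _ _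
    · intro g
      rw [Scheme.Hom.appLE_comp_appLE, Scheme.Hom.appLE_comp_appLE]
      exact appLE_congr_hom (hρ₁ g) _ _ _
    · intro g
      rw [Scheme.Hom.appLE_comp_appLE]
      exact appLE_congr_hom (by rw [reassoc_of% (hρ₂ g)]) _ _ _

end Groth.Agent.Lib.Seat72.QuotUnitBC
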