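import Mathlib
import Groth.Agent.Lib.Seat72QuotRank
import Groth.Agent.Lib.Seat72QuotUnitBC
import Groth.Agent.S18889

/-!
# Seat72: quotient of a locally finitely presented scheme by a finite group of invertible order

For `π : X ⟶ Y` a quotient by `G` over `S` with `|G|` invertible on `S`:
* `finitePresentation_appLE`: chartwise finite presentation of `Y` over `S`;
* `locallyOfFinitePresentation_quotient`;
* `flat_quotient`: `Y` is flat over `S` when `X` is (direct summand).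
-/

set_option autoImplicit false
set_option maxSynthPendingDepth 3
set_option linter.style.haveILetI false
set_option linter.unusedSectionVars false

universe u

open CategoryTheory CategoryTheory.Limits AlgebraicGeometry TopologicalSpace

namespace Groth.Agent.Lib.Seat72.QuotFP

open SGA1 Groth.Agent.Lib.Helper20 Groth.Agent.Lib.Seat72.QuotRank
  Groth.Agent.Lib.Seat72.QuotUnitBC

variable {X Y S : Scheme.{u}} {G : Type u} [Group G] [Finite G] (ρ : G →* Aut X)
  (π : X ⟶ Y) (hquot : IsQuot ρ π) (f : X ⟶ S) (q : Y ⟶ S) (hπ : π ≫ q = f)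
  (hρ : ∀ g : G, (ρ g).hom ≫ f = f)

include hπ hρ in
theorem sec_algebraMap {W : S.Opens} {V : Y.Opens} (e : V ≤ q ⁻¹ᵁ W) (g : G) (r : Γ(S, W)) :
    sec ρ π hquot V g ((f.appLE W (π ⁻¹ᵁ V)
      (by rw [← hπ, Scheme.Hom.comp_preimage]; exact π.preimage_mono e)).hom r) =
    (f.appLE W (π ⁻¹ᵁ V)
      (by rw [← hπ, Scheme.Hom.comp_preimage]; exact π.preimage_mono e)).hom r := by
  have h1 : f.appLE W (π ⁻¹ᵁ V)
      (by rw [← hπ, Scheme.Hom.comp_preimage]; exact π.preimage_mono e) ≫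
      (ρ g).hom.appLE (π ⁻¹ᵁ V) (π ⁻¹ᵁ V) (preimage_le_of_inv ρ π hquot.inv g V) =
      f.appLE W (π ⁻¹ᵁ V)
      (by rw [← hπ, Scheme.Hom.comp_preimage]; exact π.preimage_mono e) := by
    rw [Scheme.Hom.appLE_comp_appLE]
    exact appLE_congr_hom (hρ g) _ _ _
  exact congrArg (fun k => k.hom r) h1

include hquot hπ hρ in
/-- chartwise finite presentation of the quotient -/
theorem finitePresentation_appLE (hG : IsUnit ((Nat.card G : ℕ) : Γ(S, ⊤)))
    [LocallyOfFinitePresentation f]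
    {W : S.Opens} (hW : IsAffineOpen W) {V : Y.Opens} (hV : IsAffineOpen V) (e : V ≤ q ⁻¹ᵁ W) :
    (q.appLE W V e).hom.FinitePresentation := by
  haveI := hquot.affine
  have hU : IsAffineOpen (π ⁻¹ᵁ V) := hV.preimage π
  have eU : π ⁻¹ᵁ V ≤ f ⁻¹ᵁ W := by
    rw [← hπ, Scheme.Hom.comp_preimage]; exact π.preimage_mono e
  have hfp : (f.appLE W (π ⁻¹ᵁ V) eU).hom.FinitePresentation :=
    HasRingHomProperty.appLE (P := @LocallyOfFinitePresentation) f inferInstance
      ⟨W, hW⟩ ⟨_, hU⟩ eU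
  letI algA : Algebra Γ(S, W) Γ(X, π ⁻¹ᵁ V) := (f.appLE W (π ⁻¹ᵁ V) eU).hom.toAlgebra
  letI algB : Algebra Γ(S, W) Γ(Y, V) := (q.appLE W V e).hom.toAlgebra
  letI := action ρ π hquot V
  have hsmul : ∀ (g : G) (a : Γ(X, π ⁻¹ᵁ V)), g • a = sec ρ π hquot V g⁻¹ a := fun _ _ => rfl
  haveI : SMulCommClass G Γ(S, W) Γ(X, π ⁻¹ᵁ V) := ⟨fun g r a => by
    rw [hsmul, hsmul, Algebra.smul_def, Algebra.smul_def, map_mul]
    congr 1
    exact sec_algebraMap ρ π hquot f q hπ hρ e g⁻¹ r⟩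
  haveI : Algebra.FinitePresentation Γ(S, W) Γ(X, π ⁻¹ᵁ V) := hfp
  have hcard : IsUnit ((Nat.card G : ℕ) : Γ(S, W)) := isUnit_card_of_top hG W
  have hfix := Groth.Agent.S18889.result (R := Γ(S, W)) (A := Γ(X, π ⁻¹ᵁ V)) (G := G) hcard
  -- the algebra map `Γ(Y, V) → Γ(X, π⁻¹V)`
  have hcomm : q.appLE W V e ≫ π.app V = f.appLE W (π ⁻¹ᵁ V) eU := by
    rw [← Scheme.Hom.appLE_eq_app, Scheme.Hom.appLE_comp_appLE]
    exact appLE_congr_hom hπ _ _ _
  let ψ : Γ(Y, V) →ₐ[Γ(S, W)] Γ(X, π ⁻¹ᵁ V) :=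
    { (π.app V).hom with
      commutes' := fun r => congrArg (fun k => k.hom r) hcomm }
  have hψ : ∀ b, ψ b = (π.app V).hom b := fun _ => rfl
  have hmem : ∀ b, ψ b ∈ FixedPoints.subalgebra Γ(S, W) Γ(X, π ⁻¹ᵁ V) G := by
    intro b g
    show g • ψ b = ψ b
    rw [hsmul, hψ]
    exact (hquot.range_iff V _).1 ⟨b, rfl⟩ g⁻¹
  let ψ' : Γ(Y, V) →ₐ[Γ(S, W)] FixedPoints.subalgebra Γ(S, W) Γ(X, π ⁻¹ᵁ V) G :=
    ψ.codRestrict _ hmem
  have hbij : Function.Bijective ψ' := by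
    constructor
    · intro b b' hbb
      apply hquot.injective V
      have := congrArg Subtype.val hbb
      exact this
    · rintro ⟨a, ha⟩
      have : ∀ g : G, sec ρ π hquot V g a = a := fun g => by
        have := ha g⁻¹
        change g⁻¹ • a = a at this
        rwa [hsmul, inv_inv] at this
      obtain ⟨b, hb⟩ := (hquot.range_iff V a).2 this
      exact ⟨b, Subtype.ext hb⟩
  exact Algebra.FinitePresentation.equiv (AlgEquiv.ofBijective ψ' hbij).symm

include hquot hπ hρ in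
theorem locallyOfFinitePresentation_quotient (hG : IsUnit ((Nat.card G : ℕ) : Γ(S, ⊤)))
    [LocallyOfFinitePresentation f] : LocallyOfFinitePresentation q := by
  rw [HasRingHomProperty.iff_appLE (P := @LocallyOfFinitePresentation)]
  intro W V e
  exact finitePresentation_appLE ρ π hquot f q hπ hρ hG W.2 V.2 e

include hquot hπ hρ in
/-- chartwise flatness of the quotient (direct summand via the Reynolds operator) -/
theorem flat_appLE (hG : IsUnit ((Nat.card G : ℕ) : Γ(S, ⊤))) [Flat f]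
    {W : S.Opens} (hW : IsAffineOpen W) {V : Y.Opens} (hV : IsAffineOpen V) (e : V ≤ q ⁻¹ᵁ W) :
    (q.appLE W V e).hom.Flat := by
  classical
  cases nonempty_fintype G
  haveI := hquot.affine
  have hU : IsAffineOpen (π ⁻¹ᵁ V) := hV.preimage π
  have eU : π ⁻¹ᵁ V ≤ f ⁻¹ᵁ W := by
    rw [← hπ, Scheme.Hom.comp_preimage]; exact π.preimage_mono e
  have hfl : (f.appLE W (π ⁻¹ᵁ V) eU).hom.Flat := f.flat_appLE hW hU eU
  letI algA : Algebra Γ(S, W) Γ(X, π ⁻¹ᵁ V) := (f.appLE W (π ⁻¹ᵁ V) eU).hom.toAlgebra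
  letI algB : Algebra Γ(S, W) Γ(Y, V) := (q.appLE W V e).hom.toAlgebra
  haveI : Module.Flat Γ(S, W) Γ(X, π ⁻¹ᵁ V) := hfl
  have hcard : IsUnit ((Fintype.card G : ℕ) : Γ(S, W)) := by
    rw [← Nat.card_eq_fintype_card]
    exact isUnit_card_of_top hG W
  have hcomm : q.appLE W V e ≫ π.app V = f.appLE W (π ⁻¹ᵁ V) eU := by
    rw [← Scheme.Hom.appLE_eq_app, Scheme.Hom.appLE_comp_appLE]
    exact appLE_congr_hom hπ _ _ _
  let ψ : Γ(Y, V) →ₐ[Γ(S, W)] Γ(X, π ⁻¹ᵁ V) :=
    { (π.app V).hom with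
      commutes' := fun r => congrArg (fun k => k.hom r) hcomm }
  have hψ : ∀ b, ψ b = (π.app V).hom b := fun _ => rfl
  let τ : G → Γ(X, π ⁻¹ᵁ V) →ₗ[Γ(S, W)] Γ(X, π ⁻¹ᵁ V) := fun g =>
    { toFun := sec ρ π hquot V g
      map_add' := map_add _
      map_smul' := fun r a => by
        rw [Algebra.smul_def, Algebra.smul_def, map_mul, RingHom.id_apply]
        congr 1
        exact sec_algebraMap ρ π hquot f q hπ hρ e g r }
  have hτ : ∀ g a, τ g a = sec ρ π hquot V g a := fun _ _ => rfl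
  obtain ⟨r, -, -, hr, -⟩ := Groth.Agent.Lib.Seat72.InvUnit.exists_retraction hcard
    ψ.toLinearMap τ (hquot.injective V)
    (fun a ha => by
      obtain ⟨b, hb⟩ := (hquot.range_iff V a).2 (fun g => ha g)
      exact ⟨b, hb⟩)
    (fun g b => (hquot.range_iff V _).1 ⟨b, rfl⟩ g)
    (fun j a => sum_appLE_invariant ρ (π ⁻¹ᵁ V)
      (fun g => preimage_le_of_inv ρ π hquot.inv g V) j a)
  exact Module.Flat.of_retract ψ.toLinearMap r hr

include hquot hπ hρ in
theorem flat_quotient (hG : IsUnit ((Nat.card G : ℕ) : Γ(S, ⊤))) [Flat f] : Flat q := by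
  rw [HasRingHomProperty.iff_appLE (P := @Flat)]
  intro W V e
  exact flat_appLE ρ π hquot f q hπ hρ hG W.2 V.2 e

end Groth.Agent.Lib.Seat72.QuotFP
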