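import Mathlib
import Groth.Agent.Lib.Seat72QuotCurve
import Groth.Agent.Lib.Seat72QuotFP
import Groth.Agent.Lib.Helper3FibSmSchB
import Groth.Agent.Lib.Helper1Thickening
import Groth.Agent.Lib.Helper6LfpComp
import Groth.Agent.S1386
import Groth.Agent.S2909

/-!
# Seat72: the quotient of a family of smooth proper curves by a finite group of invertible order
-/

set_option autoImplicit false
set_option maxSynthPendingDepth 3
set_option linter.style.haveILetI false
set_option linter.unusedSectionVars false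

universe u

open CategoryTheory CategoryTheory.Limits AlgebraicGeometry TopologicalSpace

namespace Groth.Agent.Lib.Seat72.QuotFamily

open SGA1 Groth.Agent.Lib.Helper20 Groth.Agent.Lib.Seat72.QuotCurve
  Groth.Agent.Lib.Seat72.QuotUnitBC Groth.Agent.Lib.Seat72.QuotFP

section Fibre

variable {X Y S : Scheme.{u}} {G : Type u} [Group G] (ρ : G →* Aut X)
  (π : X ⟶ Y) (q : Y ⟶ S) (hinv : ∀ g : G, (ρ g).hom ≫ (π ≫ q) = π ≫ q) (s : S)

/-- the action on the fibre over `s` -/
noncomputable def fibAction : G →* Aut ((π ≫ q).fiber s) :=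
  pullbackAction ρ (π ≫ q) hinv (S.fromSpecResidueField s)

theorem fibAction_fiberι (g : G) :
    (fibAction ρ π q hinv s g).hom ≫ (π ≫ q).fiberι s = (π ≫ q).fiberι s ≫ (ρ g).hom :=
  pbHom_fst ρ (π ≫ q) hinv (S.fromSpecResidueField s) g

theorem fibAction_toSpec (g : G) :
    (fibAction ρ π q hinv s g).hom ≫ (π ≫ q).fiberToSpecResidueField s =
      (π ≫ q).fiberToSpecResidueField s :=
  pbHom_snd ρ (π ≫ q) hinv (S.fromSpecResidueField s) g

theorem fiberMap_fiberι : MoreMor.fiberMap π q s ≫ q.fiberι s = (π ≫ q).fiberι s ≫ π :=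
  pullback.lift_fst _ _ _

theorem fiberMap_toSpec : MoreMor.fiberMap π q s ≫ q.fiberToSpecResidueField s =
    (π ≫ q).fiberToSpecResidueField s :=
  pullback.lift_snd _ _ _

theorem isPullback_fiberMap :
    IsPullback ((π ≫ q).fiberι s) (MoreMor.fiberMap π q s) π (q.fiberι s) := by
  have hbig : IsPullback ((π ≫ q).fiberι s) ((π ≫ q).fiberToSpecResidueField s) (π ≫ q)
      (S.fromSpecResidueField s) := IsPullback.of_hasPullback _ _
  have hbot : IsPullback (q.fiberι s) (q.fiberToSpecResidueField s) q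
      (S.fromSpecResidueField s) := IsPullback.of_hasPullback _ _
  rw [← fiberMap_toSpec π q s] at hbig
  exact IsPullback.of_bot hbig (fiberMap_fiberι π q s).symm hbot

omit [Group G] in
theorem fiber_hom_ext {Z : Scheme.{u}} {a b : Z ⟶ q.fiber s}
    (h1 : a ≫ q.fiberι s = b ≫ q.fiberι s)
    (h2 : a ≫ q.fiberToSpecResidueField s = b ≫ q.fiberToSpecResidueField s) : a = b :=
  pullback.hom_ext h1 h2

omit [Group G] in
theorem comp_fiberMap_of_inv (a : (π ≫ q).fiber s ⟶ (π ≫ q).fiber s) (r : X ⟶ X)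
    (hr : r ≫ π = π) (ha1 : a ≫ (π ≫ q).fiberι s = (π ≫ q).fiberι s ≫ r)
    (ha2 : a ≫ (π ≫ q).fiberToSpecResidueField s = (π ≫ q).fiberToSpecResidueField s) :
    a ≫ MoreMor.fiberMap π q s = MoreMor.fiberMap π q s := by
  apply fiber_hom_ext
  · rw [Category.assoc, fiberMap_fiberι, reassoc_of% ha1, hr]
  · rw [Category.assoc, fiberMap_toSpec, ha2]

theorem fibAction_fiberMap (hπ : ∀ g : G, (ρ g).hom ≫ π = π) (g : G) :
    (fibAction ρ π q hinv s g).hom ≫ MoreMor.fiberMap π q s = MoreMor.fiberMap π q s :=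
  comp_fiberMap_of_inv π q s _ (ρ g).hom (hπ g) (fibAction_fiberι ρ π q hinv s g)
    (fibAction_toSpec ρ π q hinv s g)

theorem isQuot_fiber [Finite G] (hquot : IsQuot ρ π)
    (hG : IsUnit ((Nat.card G : ℕ) : Γ(S, ⊤))) :
    IsQuot (fibAction ρ π q hinv s) (MoreMor.fiberMap π q s) :=
  isQuot_baseChange_of_unit ρ π hquot q (S.fromSpecResidueField s) hG
    (q.fiberι s) (q.fiberToSpecResidueField s) (IsPullback.of_hasPullback _ _)
    ((π ≫ q).fiberι s) (MoreMor.fiberMap π q s) (isPullback_fiberMap π q s)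
    (fibAction ρ π q hinv s) (fibAction_fiberι ρ π q hinv s)
    (fibAction_fiberMap ρ π q hinv s hquot.inv)

/-- faithfulness on the fibre -/
theorem fibAction_injective
    (hfaith : ∀ a : G, a ≠ 1 → ∃ x : X, (π ≫ q) x = s ∧ (ρ a).hom x ≠ x) :
    Function.Injective (fibAction ρ π q hinv s) := by
  rw [injective_iff_map_eq_one]
  intro a ha
  by_contra hne
  obtain ⟨x, hxs, hx⟩ := hfaith a hne
  apply hx
  obtain ⟨x', rfl⟩ : ∃ x' : (π ≫ q).fiber s, (π ≫ q).fiberι s x' = x := by
    have : x ∈ Set.range ((π ≫ q).fiberι s) := by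
      rw [Scheme.Hom.range_fiberι]
      exact hxs
    exact this
  have h1 := fibAction_fiberι ρ π q hinv s a
  rw [ha] at h1
  have h2 : (π ≫ q).fiberι s = (π ≫ q).fiberι s ≫ (ρ a).hom := by
    rw [← h1]
    exact (Category.id_comp _).symm
  exact (congrArg (fun ψ : (π ≫ q).fiber s ⟶ X => ψ x') h2).symm

end Fibre

section Main

variable {X Y S : Scheme.{u}} {G : Type u} [Group G] [Finite G] (ρ : G →* Aut X)
  (π : X ⟶ Y) (q : Y ⟶ S)

/-- the fibrewise statement: the quotient of the fibre curve -/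
theorem quotient_fibre [IsProper (π ≫ q)] [Smooth (π ≫ q)] [GeometricallyConnected (π ≫ q)]
    (hG : IsUnit ((Nat.card G : ℕ) : Γ(S, ⊤)))
    (hρ : ∀ a : G, (ρ a).hom ≫ (π ≫ q) = π ≫ q)
    (hquot : SGA1.IsQuot ρ π) (s : S)
    (hdim : topologicalKrullDim ↥((π ≫ q).fiber s) = 1)
    (hfaith : ∀ a : G, a ≠ 1 → ∃ x : X, (π ≫ q) x = s ∧ (ρ a).hom x ≠ x) :
    Smooth (q.fiberToSpecResidueField s) ∧ topologicalKrullDim ↥(q.fiber s) = 1 ∧
      Flat (MoreMor.fiberMap π q s) ∧
      ∀ y, (MoreMor.fiberMap π q s).finrank y = Nat.card G := by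
  haveI : IsProper ((π ≫ q).fiberToSpecResidueField s) :=
    inferInstanceAs (IsProper (pullback.snd (π ≫ q) (S.fromSpecResidueField s)))
  haveI : Smooth ((π ≫ q).fiberToSpecResidueField s) :=
    inferInstanceAs (Smooth (pullback.snd (π ≫ q) (S.fromSpecResidueField s)))
  haveI : GeometricallyConnected ((π ≫ q).fiberToSpecResidueField s) :=
    inferInstanceAs (GeometricallyConnected (pullback.snd (π ≫ q) (S.fromSpecResidueField s)))
  have := quotient_curve (S.residueField s) ((π ≫ q).fiberToSpecResidueField s)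
    (fibAction ρ π q hρ s) (MoreMor.fiberMap π q s) (q.fiberToSpecResidueField s) hdim
    (fibAction_injective ρ π q hρ s hfaith) (fibAction_toSpec ρ π q hρ s)
    (fiberMap_toSpec π q s) (isQuot_fiber ρ π q hρ s hquot hG)
  exact ⟨this.2.1, this.2.2.2.1, this.2.2.2.2.2.1, this.2.2.2.2.2.2⟩

/-- S18909: the quotient of a family of smooth proper geometrically connected curves by a finite
group of invertible order acting faithfully on the fibres -/
theorem quotient_family [IsProper (π ≫ q)] [Smooth (π ≫ q)] [GeometricallyConnected (π ≫ q)]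
    (hdim : ∀ s : S, topologicalKrullDim ↥((π ≫ q).fiber s) = 1)
    (hG : IsUnit ((Nat.card G : ℕ) : Γ(S, ⊤)))
    (hρ : ∀ a : G, (ρ a).hom ≫ (π ≫ q) = π ≫ q)
    (hfaith : ∀ (s : S) (a : G), a ≠ 1 → ∃ x : X, (π ≫ q) x = s ∧ (ρ a).hom x ≠ x)
    (hquot : SGA1.IsQuot ρ π) :
    IsProper q ∧ Smooth q ∧ GeometricallyConnected q ∧
      (∀ s : S, topologicalKrullDim ↥(q.fiber s) = 1) ∧
      IsFinite π ∧ Flat π ∧ LocallyOfFinitePresentation π ∧
      ∀ y : Y, π.finrank y = Nat.card G := by
  obtain ⟨-, hsep, hfin, -⟩ := Groth.Agent.S2909.result ρ π hquot (π ≫ q) q rfl hρ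
  haveI : IsFinite π := hfin inferInstance
  haveI : IsSeparated q := hsep.1 inferInstance
  haveI hlfp : LocallyOfFinitePresentation q :=
    locallyOfFinitePresentation_quotient ρ π hquot (π ≫ q) q rfl hρ hG
  have hsurj : Function.Surjective π.base := surjective_of_isQuot hquot
  haveI : Surjective π := ⟨hsurj⟩
  haveI : QuasiCompact q := Groth.Agent.Lib.Helper1.quasiCompact_of_comp_surjective π q
  haveI : UniversallyClosed q := UniversallyClosed.of_comp_surjective π q
  have hproper : IsProper q := {}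
  haveI : Flat q := flat_quotient ρ π hquot (π ≫ q) q rfl hρ hG
  haveI : GeometricallyConnected q := geometricallyConnected_of_surjective π q
  haveI : LocallyOfFinitePresentation π :=
    Groth.Agent.Lib.Helper6.locallyOfFinitePresentation_of_comp (g := q) inferInstance
      inferInstance
  have hfib := fun s : S => quotient_fibre ρ π q hG hρ hquot s (hdim s) (hfaith s)
  have hsm : Smooth q := by
    rw [← Scheme.Hom.smoothLocus_eq_top_iff, eq_top_iff]
    intro y _
    exact (Groth.Agent.Lib.Helper3.FibSmSch.smooth_fiberToSpecResidueField_iff q (q y)).1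
      (hfib (q y)).1 y rfl
  have hflat : Flat π := by
    rw [Flat.iff_flat_stalkMap]
    intro x
    have h1 := (Groth.Agent.S1386.result π q).1 x
    have hf : ((π ≫ q).stalkMap x).hom.Flat :=
      (Flat.iff_flat_stalkMap (π ≫ q)).1 inferInstance x
    have hfs : ((MoreMor.fiberMap π q (q (π x))).stalkMap ((π ≫ q).asFiber x)).hom.Flat :=
      (Flat.iff_flat_stalkMap _).1 (hfib _).2.2.1 _
    exact (h1.1 ⟨hf, hfs⟩).2
  haveI := hflat
  refine ⟨hproper, hsm, inferInstance, fun s => (hfib s).2.1, inferInstance, hflat,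
    inferInstance, fun y => ?_⟩
  have h := Scheme.Hom.finrank_of_isPullback _ _ _ _ (isPullback_fiberMap π q (q y))
    (q.asFiber y)
  rw [q.fiberι_asFiber y] at h
  rw [← h]
  exact (hfib (q y)).2.2.2 _

end Main

end Groth.Agent.Lib.Seat72.QuotFamily
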