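import Mathlib
import Groth.Agent.Lib.Seat72QuotFlatBC

/-!
# Seat72: the product of two quotients by finite groups over a field is a quotient
-/

set_option autoImplicit false
set_option maxSynthPendingDepth 3
set_option linter.style.haveILetI false
set_option linter.unusedSectionVars false

universe u

open CategoryTheory CategoryTheory.Limits AlgebraicGeometry TopologicalSpace

namespace Groth.Agent.Lib.Seat72.QuotProd

open SGA1 Groth.Agent.Lib.Helper20 Groth.Agent.Lib.Seat72.QuotGlue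
  Groth.Agent.Lib.Seat72.QuotChart Groth.Agent.Lib.Seat72.InvFlat
  Groth.Agent.Lib.Seat72.QuotFlatBC

instance flat_over_field {k : Type u} [Field k] {X : Scheme.{u}}
    (f : X ⟶ Spec (CommRingCat.of k)) : Flat f := inferInstance


theorem isQuot_prod {k : Type u} [Field k] {G H : Type u} [Group G] [Finite G] [Group H]
    [Finite H] {X Y XG YH : Scheme.{u}} (fX : X ⟶ Spec (CommRingCat.of k))
    (fY : Y ⟶ Spec (CommRingCat.of k)) (gX : XG ⟶ Spec (CommRingCat.of k))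
    (gY : YH ⟶ Spec (CommRingCat.of k)) (ρ : G →* Aut X) (σ : H →* Aut Y)
    (p : X ⟶ XG) (hp : p ≫ gX = fX) (q : Y ⟶ YH) (hq : q ≫ gY = fY)
    (hP : SGA1.IsQuot ρ p) (hQ : SGA1.IsQuot σ q)
    (θ : G × H →* Aut (pullback fX fY))
    (hθ1 : ∀ gh : G × H, (θ gh).hom ≫ pullback.fst fX fY = pullback.fst fX fY ≫ (ρ gh.1).hom)
    (hθ2 : ∀ gh : G × H, (θ gh).hom ≫ pullback.snd fX fY = pullback.snd fX fY ≫ (σ gh.2).hom)
    (π : pullback fX fY ⟶ pullback gX gY)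
    (hπ1 : π ≫ pullback.fst gX gY = pullback.fst fX fY ≫ p)
    (hπ2 : π ≫ pullback.snd gX gY = pullback.snd fX fY ≫ q) :
    SGA1.IsQuot θ π := by
  haveI := hP.affine
  haveI := hQ.affine
  have hSrc : IsPullback (pullback.fst fX fY) (pullback.snd fX fY) fX fY :=
    IsPullback.of_hasPullback fX fY
  have hTgt : IsPullback (pullback.fst gX gY) (pullback.snd gX gY) gX gY :=
    IsPullback.of_hasPullback gX gY
  have htop : IsAffineOpen (⊤ : (Spec (CommRingCat.of k)).Opens) := isAffineOpen_top _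
  -- the charts
  have hpre : ∀ (V : XG.Opens) (V' : YH.Opens),
      π ⁻¹ᵁ (pullback.fst gX gY ⁻¹ᵁ V ⊓ pullback.snd gX gY ⁻¹ᵁ V') =
        pullback.fst fX fY ⁻¹ᵁ (p ⁻¹ᵁ V) ⊓ pullback.snd fX fY ⁻¹ᵁ (q ⁻¹ᵁ V') := by
    intro V V'
    rw [Scheme.Hom.preimage_inf, ← Scheme.Hom.comp_preimage, ← Scheme.Hom.comp_preimage,
      ← Scheme.Hom.comp_preimage, ← Scheme.Hom.comp_preimage, hπ1, hπ2]
  have haffT : ∀ (V : XG.Opens) (V' : YH.Opens), IsAffineOpen V → IsAffineOpen V' →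
      IsAffineOpen (π ⁻¹ᵁ (pullback.fst gX gY ⁻¹ᵁ V ⊓ pullback.snd gX gY ⁻¹ᵁ V')) := by
    intro V V' hV hV'
    exact isAffineOpen_of_isPullback hSrc (US := ⊤) (UT := q ⁻¹ᵁ V') (UX := p ⁻¹ᵁ V)
      le_top le_top (hpre V V') htop (hV'.preimage q) (hV.preimage p)
  have haffV : ∀ (V : XG.Opens) (V' : YH.Opens), IsAffineOpen V → IsAffineOpen V' →
      IsAffineOpen (pullback.fst gX gY ⁻¹ᵁ V ⊓ pullback.snd gX gY ⁻¹ᵁ V') := by
    intro V V' hV hV'
    exact isAffineOpen_of_isPullback hTgt (US := ⊤) (UT := V') (UX := V)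
      le_top le_top rfl htop hV' hV
  have hcov : ∀ y : ↥(pullback gX gY), ∃ (V : XG.Opens) (V' : YH.Opens), IsAffineOpen V ∧
      IsAffineOpen V' ∧ y ∈ pullback.fst gX gY ⁻¹ᵁ V ⊓ pullback.snd gX gY ⁻¹ᵁ V' := by
    intro y
    obtain ⟨V, hV, hyV, -⟩ := exists_affine_nhd_le (⊤ : XG.Opens)
      ((pullback.fst gX gY).base y) trivial
    obtain ⟨V', hV', hyV', -⟩ := exists_affine_nhd_le (⊤ : YH.Opens)
      ((pullback.snd gX gY).base y) trivial
    exact ⟨V, V', hV, hV', hyV, hyV'⟩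
  have haff : IsAffineHom π := by
    apply isAffineHom_of_forall_exists_isAffineOpen
    intro y
    obtain ⟨V, V', hV, hV', hy⟩ := hcov y
    exact ⟨_, hy, haffV V V' hV hV', haffT V V' hV hV'⟩
  have hinv : ∀ gh : G × H, (θ gh).hom ≫ π = π := by
    intro gh
    apply pullback.hom_ext
    · rw [Category.assoc, hπ1, reassoc_of% (hθ1 gh), hP.inv]
    · rw [Category.assoc, hπ2, reassoc_of% (hθ2 gh), hQ.inv]
  let 𝒱 : Set (pullback gX gY).Opens := {W | ∃ (V : XG.Opens) (V' : YH.Opens),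
    IsAffineOpen V ∧ IsAffineOpen V' ∧
      W = pullback.fst gX gY ⁻¹ᵁ V ⊓ pullback.snd gX gY ⁻¹ᵁ V'}
  refine isQuot_of_affine_cover θ haff hinv 𝒱 ?_ ?_ ?_
  · intro y
    obtain ⟨V, V', hV, hV', hy⟩ := hcov y
    exact ⟨_, ⟨V, V', hV, hV', rfl⟩, hy⟩
  · rintro _ ⟨V, V', hV, hV', rfl⟩
    exact haffV V V' hV hV'
  · rintro _ ⟨V, V', hV, hV', rfl⟩
    have hT : IsAffineOpen (p ⁻¹ᵁ V) := hV.preimage p
    have hT' : IsAffineOpen (q ⁻¹ᵁ V') := hV'.preimage q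
    have hP2 := isPushout_appLE_of_isPullback hTgt (US := ⊤) (UT := V') (UX := V)
      le_top le_top rfl htop hV' hV
    have hP0 := isPushout_appLE_of_isPullback hSrc (US := ⊤) (UT := q ⁻¹ᵁ V') (UX := p ⁻¹ᵁ V)
      le_top le_top (hpre V V') htop hT' hT
    obtain ⟨e, eσ, hinj, hrange⟩ := quotAt_of_isQuot hP V
    obtain ⟨e', eσ', hinj', hrange'⟩ := quotAt_of_isQuot hQ V'
    have hc1 : gX.appLE ⊤ V le_top ≫ p.appLE V (p ⁻¹ᵁ V) e = fX.appLE ⊤ (p ⁻¹ᵁ V) le_top := by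
      rw [Scheme.Hom.appLE_comp_appLE]
      exact appLE_congr_hom hp _ _ _
    have hc2 : gY.appLE ⊤ V' le_top ≫ q.appLE V' (q ⁻¹ᵁ V') e' =
        fY.appLE ⊤ (q ⁻¹ᵁ V') le_top := by
      rw [Scheme.Hom.appLE_comp_appLE]
      exact appLE_congr_hom hq _ _ _
    rw [← hc1, ← hc2] at hP0
    have eθ : ∀ gh : G × H, π ⁻¹ᵁ (pullback.fst gX gY ⁻¹ᵁ V ⊓ pullback.snd gX gY ⁻¹ᵁ V') ≤
        (θ gh).hom ⁻¹ᵁ (π ⁻¹ᵁ (pullback.fst gX gY ⁻¹ᵁ V ⊓ pullback.snd gX gY ⁻¹ᵁ V')) :=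
      fun gh => preimage_le_of_inv θ π hinv gh _
    refine ⟨le_rfl, eθ, ?_⟩
    refine invariants_pushout_prod (gX.appLE ⊤ V le_top) (gY.appLE ⊤ V' le_top)
      (p.appLE V (p ⁻¹ᵁ V) e) (q.appLE V' (q ⁻¹ᵁ V') e') _ _ _ _ (π.appLE _ _ le_rfl) hP2 hP0
      ?_ ?_ (gX.flat_appLE htop hV le_top) ?_
      (fun g => (ρ g).hom.appLE _ _ (eσ g)) ?_ hinj hrange
      (fun h => (σ h).hom.appLE _ _ (eσ' h)) ?_ hinj' hrange' 1 1 ?_
      (fun gh => (θ gh).hom.appLE _ _ (eθ gh)) ?_ ?_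
    · rw [Scheme.Hom.appLE_comp_appLE, Scheme.Hom.appLE_comp_appLE]
      exact appLE_congr_hom hπ1 _ _ _
    · rw [Scheme.Hom.appLE_comp_appLE, Scheme.Hom.appLE_comp_appLE]
      exact appLE_congr_hom hπ2 _ _ _
    · rw [hc2]
      exact fY.flat_appLE htop hT' le_top
    · intro g
      rw [Scheme.Hom.appLE_comp_appLE]
      exact appLE_congr_hom (hP.inv g) _ _ _
    · intro h
      rw [Scheme.Hom.appLE_comp_appLE]
      exact appLE_congr_hom (hQ.inv h) _ _ _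
    · have h1 : (σ 1).hom = 𝟙 Y := by rw [map_one]; rfl
      rw [appLE_congr_hom h1, id_appLE]
    · intro gh
      rw [Scheme.Hom.appLE_comp_appLE, Scheme.Hom.appLE_comp_appLE]
      exact appLE_congr_hom (hθ1 gh) _ _ _
    · intro gh
      rw [Scheme.Hom.appLE_comp_appLE, Scheme.Hom.appLE_comp_appLE]
      exact appLE_congr_hom (hθ2 gh) _ _ _

end Groth.Agent.Lib.Seat72.QuotProd
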