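import Mathlib
import Groth.Agent.Lib.Seat72ProjProper
import Groth.Agent.Lib.Seat72QuotFP
import Groth.Agent.Lib.Helper20QuotTop
import Groth.Agent.Lib.Helper1Thickening
import Groth.Agent.Lib.Helper6LfpComp
import Groth.Agent.S2909

/-!
# Seat72: quotient of a projective scheme by a finite group (S18907)
-/

set_option autoImplicit false
set_option maxSynthPendingDepth 3
set_option linter.style.haveILetI false
set_option linter.unusedSectionVars false

universe u

open CategoryTheory CategoryTheory.Limits AlgebraicGeometry TopologicalSpace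

namespace Groth.Agent.Lib.Seat72.QuotProjective

open SGA1 Groth.Agent.Lib.Helper20 Groth.Agent.Lib.Seat72.QuotFP

/-- the quotient map by a finite group is open -/
theorem isOpenMap_of_isQuot {X Y : Scheme.{u}} {G : Type u} [Group G] [Finite G]
    {ρ : G →* Aut X} {p : X ⟶ Y} (hp : IsQuot ρ p) : IsOpenMap p.base := by
  intro O hO
  rw [← (isQuotientMap_of_isQuot hp).isOpen_preimage]
  have : p.base ⁻¹' (p.base '' O) = ⋃ g : G, (ρ g).hom.base ⁻¹' O := by
    ext x
    simp only [Set.mem_preimage, Set.mem_image, Set.mem_iUnion]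
    constructor
    · rintro ⟨x', hx', hxx'⟩
      obtain ⟨g, hg⟩ := (fibre_iff_orbit hp x x').1 hxx'.symm
      exact ⟨g, by rw [hg]; exact hx'⟩
    · rintro ⟨g, hg⟩
      exact ⟨_, hg, map_rho hp g x⟩
  rw [this]
  exact isOpen_iUnion fun g => hO.preimage (ρ g).hom.base.hom.continuous

/-- S18907 -/
theorem quotient_projective {X Y S : Scheme.{u}} (f : X ⟶ S) (hf : RelProj.IsProjective f)
    {G : Type u} [Group G] [Finite G] (ρ : G →* Aut X) (hρ : ∀ g : G, (ρ g).hom ≫ f = f)
    (π : X ⟶ Y) (q : Y ⟶ S) (hπ : π ≫ q = f) (hquot : SGA1.IsQuot ρ π) :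
    (Surjective π ∧ IsFinite π ∧ IsOpenMap π ∧ IsClosedMap π) ∧
      (IsUnit ((Nat.card G : ℕ) : Γ(S, ⊤)) →
        (Flat f → Flat q) ∧ IsSeparated q ∧
        (LocallyOfFinitePresentation f →
          IsProper q ∧ LocallyOfFinitePresentation q ∧ LocallyOfFinitePresentation π)) := by
  haveI : IsProper f := Groth.Agent.Lib.Seat72.ProjProper.isProper_of_isProjective f hf
  obtain ⟨-, hsep, hfin, -⟩ := Groth.Agent.S2909.result ρ π hquot f q hπ hρ
  haveI : IsFinite π := hfin inferInstance
  haveI : IsSeparated q := hsep.1 inferInstance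
  have hsurj : Function.Surjective π.base := surjective_of_isQuot hquot
  haveI : Surjective π := ⟨hsurj⟩
  refine ⟨⟨inferInstance, inferInstance, isOpenMap_of_isQuot hquot,
    isClosedMap_of_isQuot hquot⟩, fun hG => ⟨fun hfl => ?_, inferInstance, fun hfp => ?_⟩⟩
  · haveI := hfl
    exact flat_quotient ρ π hquot f q hπ hρ hG
  · haveI := hfp
    haveI hlfp : LocallyOfFinitePresentation q :=
      locallyOfFinitePresentation_quotient ρ π hquot f q hπ hρ hG
    haveI : QuasiCompact (π ≫ q) := hπ ▸ inferInstance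
    haveI : UniversallyClosed (π ≫ q) := hπ ▸ inferInstance
    haveI : QuasiCompact q := Groth.Agent.Lib.Helper1.quasiCompact_of_comp_surjective π q
    haveI : UniversallyClosed q := UniversallyClosed.of_comp_surjective π q
    refine ⟨{}, hlfp, ?_⟩
    haveI : LocallyOfFinitePresentation (π ≫ q) := hπ ▸ hfp
    exact Groth.Agent.Lib.Helper6.locallyOfFinitePresentation_of_comp (g := q) inferInstance
      inferInstance

end Groth.Agent.Lib.Seat72.QuotProjective
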