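import Groth.Agent.Lib.Helper10WeilCorr

/-!
# Seat72: the trace formula for correspondences in a Weil cohomology theory

For `φ ∈ H^{2 dim X + r}(X × Y)` and `ψ ∈ H^{2 dim Y - r}(Y × X)`:
`Tr(φ · σ^* ψ) = Σ_i (-1)^i tr(ψ ∘ φ | H^i(X))`.
-/

set_option autoImplicit false
set_option maxSynthPendingDepth 3
set_option linter.style.haveILetI false
set_option linter.unusedSectionVars false

universe u v

open AlgebraicGeometry CategoryTheory CategoryTheory.Limits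

namespace Groth.Agent.Lib.Seat72.WeilCorrTr

open Groth.Agent.Lib.Helper10.WeilPt

variable {k : Type u} [Field k] [IsAlgClosed k] {K : Type v} [Field K] [CharZero K]
  (T : WeilCoh.Theory k K)

/-- the action of a class on a product as a correspondence. -/
noncomputable def act {X Y P : WeilCoh.Var k} (p : P ⟶ X) (q : P ⟶ Y) (d : ℤ) (φ : T.gr P d)
    (i : ℤ) :
    T.gr X i →ₗ[K]
      T.gr Y (i + d + 2 * (WeilCoh.dim Y.obj.left : ℤ) - 2 * (WeilCoh.dim P.obj.left : ℤ)) :=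
  (T.push q (i + d)) ∘ₗ
    ((LinearMap.mulRight K (φ : T.H P)).restrict (p := T.gr P i) (q := T.gr P (i + d))
      (fun x hx => SetLike.mul_mem_graded hx φ.2)) ∘ₗ (T.pullDeg p i)

lemma tr_act {X Y P : WeilCoh.Var k} (p : P ⟶ X) (q : P ⟶ Y) (d : ℤ) (φ : T.gr P d) (i : ℤ)
    (x : T.gr X i) (b : T.H Y)
    (hb : b ∈ T.gr Y (2 * (WeilCoh.dim P.obj.left : ℤ) - (i + d))) :
    T.tr Y ((act T p q d φ i x : T.H Y) * b) =
      T.tr P (T.pull p (x : T.H X) * (φ : T.H P) * T.pull q b) :=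
  tr_action T p q d i (φ : T.H P) φ.2 x b hb

/-- the trace is invariant under pull-back along the swap of a product. -/
lemma tr_pull_swap {X Y P P' : WeilCoh.Var k} (p : P ⟶ X) (q : P ⟶ Y) (hP : WeilCoh.IsProd p q)
    (p' : P' ⟶ Y) (q' : P' ⟶ X) (hP' : WeilCoh.IsProd p' q') (σ : P ⟶ P') (hσ₁ : σ ≫ p' = q)
    (hσ₂ : σ ≫ q' = p) (z : T.H P') : T.tr P (T.pull σ z) = T.tr P' z := by
  have hPf : WeilCoh.IsProd q p := IsPullback.flip hP
  obtain ⟨w, rfl⟩ := (T.kunneth p' q' hP').2 z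
  induction w using TensorProduct.induction_on with
  | zero => simp
  | tmul c d =>
    change T.tr P (T.pull σ (T.pull p' c * T.pull q' d)) = T.tr P' (T.pull p' c * T.pull q' d)
    rw [map_mul, pull_pull, pull_pull, hσ₁, hσ₂, tr_prod_all T q p hPf, tr_prod_all T p' q' hP']
  | add a b ha hb =>
    rw [map_add, map_add, map_add, ha, hb, map_add]

section Rep

variable {X Y P : WeilCoh.Var k} (p : P ⟶ X) (q : P ⟶ Y) (hP : WeilCoh.IsProd p q)
  (ι : ℕ → Type) [∀ r, Fintype (ι r)] [∀ r, DecidableEq (ι r)]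
  (e : (r : ℕ) → Module.Basis (ι r) K ↥(T.gr X (r : ℤ)))
  (f : (r : ℕ) → ι r → ↥(T.gr X (2 * (WeilCoh.dim X.obj.left : ℤ) - r)))
  (hef : ∀ r, r ≤ 2 * WeilCoh.dim X.obj.left → ∀ i l : ι r,
    T.tr X ((f r l : T.H X) * (e r i : T.H X)) = if i = l then 1 else 0)

include hP hef in
/-- a class on the product is the `corrClass` of its action on a basis. -/
lemma eq_corrClass (d : ℤ) (φ : T.gr P d) :
    (φ : T.H P) = corrClass T p q ι f
      (fun s l => (act T p q d φ (s : ℤ) (e s l) : T.H Y)) := by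
  have hdim := dim_prod p q hP
  set y : (s : ℕ) → ι s → T.H Y := fun s l => (act T p q d φ (s : ℤ) (e s l) : T.H Y) with hy
  have hymem : ∀ (s : ℕ) (l : ι s), y s l ∈ T.gr Y (d - (2 * (WeilCoh.dim X.obj.left : ℤ) - (s : ℤ))) := by
    intro s l
    have h1 := (act T p q d φ (s : ℤ) (e s l)).2
    have e1 : (s : ℤ) + d + 2 * (WeilCoh.dim Y.obj.left : ℤ) - 2 * (WeilCoh.dim P.obj.left : ℤ) =
        d - (2 * (WeilCoh.dim X.obj.left : ℤ) - s) := by
      rw [hdim]; push_cast; ring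
    rw [← e1]
    exact h1
  have hmem : corrClass T p q ι f y ∈ T.gr P d := corrClass_mem T p q ι f y d hymem
  apply eq_of_forall_tr_pull_mul T p q hP d _ _ φ.2 hmem
  intro s x hx t b hb
  by_cases hs : ∃ s' : ℕ, s = (s' : ℤ) ∧ s' ≤ 2 * WeilCoh.dim X.obj.left
  · obtain ⟨s', rfl, hs'⟩ := hs
    rw [tr_corrClass T p q hP ι e f hef y s' hs' x hx b]
    by_cases ht : t = 2 * (WeilCoh.dim P.obj.left : ℤ) - ((s' : ℤ) + d)
    · subst ht
      rw [← tr_act T p q d φ (s' : ℤ) ⟨x, hx⟩ b hb]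
      conv_lhs => rw [← (e s').sum_repr ⟨x, hx⟩]
      rw [map_sum, Submodule.coe_sum, Finset.sum_mul, map_sum]
      refine Finset.sum_congr rfl fun l _ => ?_
      rw [map_smul, Submodule.coe_smul, smul_mul_assoc, map_smul, smul_eq_mul]
    · have hm := SetLike.mul_mem_graded (SetLike.mul_mem_graded (T.pull_mem p _ _ hx) φ.2)
        (T.pull_mem q _ _ hb)
      rw [T.tr_vanish P _ _ hm (by omega)]
      symm
      refine Finset.sum_eq_zero fun l _ => ?_
      have hm2 := SetLike.mul_mem_graded (hymem s' l) hb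
      rw [T.tr_vanish Y _ _ hm2 (by rw [hdim] at ht; push_cast at ht; omega), mul_zero]
  · have hx0 : x = 0 := by
      apply eq_zero_of_mem_of_lt T x s hx
      by_contra hcon
      push Not at hcon
      exact hs ⟨s.toNat, by omega, by omega⟩
    subst hx0
    simp

end Rep

section Term

lemma mem_of_eq {X : WeilCoh.Var k} {a : T.H X} {i j : ℤ} (h : a ∈ T.gr X i) (e : i = j) :
    a ∈ T.gr X j := e ▸ h

lemma neg_one_pow_natAbs (z : ℤ) (r : ℕ) (t : ℤ) (h : z = r + 2 * t) :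
    (-1 : K) ^ z.natAbs = (-1 : K) ^ r := by
  rcases Nat.even_or_odd r with hr | hr
  · have hz : Even z := by
      rw [h]; exact (Int.even_coe_nat r |>.mpr hr).add (even_two_mul t)
    rw [Even.neg_one_pow (Int.natAbs_even.mpr hz), Even.neg_one_pow hr]
  · have hz : Odd z := by
      rw [h]; exact (Int.odd_coe_nat r |>.mpr hr).add_even (even_two_mul t)
    rw [Odd.neg_one_pow (Int.natAbs_odd.mpr hz), Odd.neg_one_pow hr]

/-- one term of the trace computation, with no sign left. -/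
lemma tr_term {X Y P' : WeilCoh.Var k} (p' : P' ⟶ Y) (q' : P' ⟶ X) (d' : ℤ) (ψ : T.gr P' d')
    (j : ℤ) (yy : T.gr Y j) (r : ℕ) (hr : r ≤ 2 * WeilCoh.dim X.obj.left)
    (hi' : j + d' + 2 * (WeilCoh.dim X.obj.left : ℤ) - 2 * (WeilCoh.dim P'.obj.left : ℤ) = r)
    (fl : T.gr X (2 * (WeilCoh.dim X.obj.left : ℤ) - r)) :
    T.tr P' (T.pull q' (fl : T.H X) * T.pull p' (yy : T.H Y) * (ψ : T.H P')) =
      T.tr X ((fl : T.H X) * (act T p' q' d' ψ j yy : T.H X)) := by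
  have hmem1 : T.pull p' (yy : T.H Y) * (ψ : T.H P') ∈ T.gr P' (j + d') :=
    SetLike.mul_mem_graded (T.pull_mem p' _ _ yy.2) ψ.2
  have hmem2 : T.pull q' (fl : T.H X) ∈ T.gr P' (2 * (WeilCoh.dim X.obj.left : ℤ) - r) :=
    T.pull_mem q' _ _ fl.2
  have hfl : (fl : T.H X) ∈ T.gr X (2 * (WeilCoh.dim P'.obj.left : ℤ) - (j + d')) := by
    have e1 : 2 * (WeilCoh.dim P'.obj.left : ℤ) - (j + d') =
        2 * (WeilCoh.dim X.obj.left : ℤ) - r := by omega
    rw [e1]; exact fl.2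
  have hact : (act T p' q' d' ψ j yy : T.H X) ∈ T.gr X (r : ℤ) :=
    mem_of_eq T (act T p' q' d' ψ j yy).2 hi'
  rw [mul_assoc, T.gradedComm P' _ _ _ _ hmem2 hmem1, map_smul, smul_eq_mul,
    ← tr_act T p' q' d' ψ j yy (fl : T.H X) hfl,
    T.gradedComm X _ _ _ _ hact fl.2, map_smul, smul_eq_mul, ← mul_assoc, ← pow_add]
  have e1 : (2 * (WeilCoh.dim X.obj.left : ℤ) - (r : ℤ)).natAbs = 2 * WeilCoh.dim X.obj.left - r := by
    omega
  have e2 : (-1 : K) ^ (j + d').natAbs = (-1 : K) ^ r :=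
    neg_one_pow_natAbs (j + d') r
      ((WeilCoh.dim P'.obj.left : ℤ) - (WeilCoh.dim X.obj.left : ℤ)) (by omega)
  rw [e1, Int.natAbs_natCast, pow_add, pow_mul', e2, ← pow_mul, ← pow_add]
  have hev : Even (r * (2 * WeilCoh.dim X.obj.left - r) + r * (2 * WeilCoh.dim X.obj.left - r)) :=
    ⟨_, rfl⟩
  rw [Even.neg_one_pow hev, one_mul]

end Term

section Main

/-- S15748: the trace formula for correspondences. -/
theorem trace_formula (X Y P P' : WeilCoh.Var k)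
    (p : P ⟶ X) (q : P ⟶ Y) (hP : WeilCoh.IsProd p q)
    (p' : P' ⟶ Y) (q' : P' ⟶ X) (hP' : WeilCoh.IsProd p' q')
    (σ : P ⟶ P') (hσ₁ : σ ≫ p' = q) (hσ₂ : σ ≫ q' = p) (r : ℤ)
    (hdim : ∀ i : ℤ, ((i + (2 * (WeilCoh.dim X.obj.left : ℤ) + r) + 2 * (WeilCoh.dim Y.obj.left : ℤ) - 2 * (WeilCoh.dim P.obj.left : ℤ)) + (2 * (WeilCoh.dim Y.obj.left : ℤ) - r) + 2 * (WeilCoh.dim X.obj.left : ℤ) - 2 * (WeilCoh.dim P'.obj.left : ℤ)) = i)
    (φ : ↥(T.gr P (2 * (WeilCoh.dim X.obj.left : ℤ) + r))) (ψ : ↥(T.gr P' (2 * (WeilCoh.dim Y.obj.left : ℤ) - r))) :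
    T.tr P ((φ : T.H P) * T.pull σ (ψ : T.H P')) =
      ∑ i ∈ Finset.range (2 * WeilCoh.dim X.obj.left + 1),
        (-1 : K) ^ i * LinearMap.trace K ↥(T.gr X (i : ℤ))
          ((LinearEquiv.ofEq _ (T.gr X (i : ℤ)) (congrArg (T.gr X) (hdim (i : ℤ)))).toLinearMap ∘ₗ
            (act T p' q' _ ψ _) ∘ₗ (act T p q _ φ (i : ℤ))) := by
  classical
  obtain ⟨ι, _, _, e, f, hef⟩ := exists_dual_family T X
  have hφ := eq_corrClass T p q hP ι e f hef _ φ
  conv_lhs => rw [hφ]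
  unfold corrClass
  rw [Finset.sum_mul, map_sum]
  refine Finset.sum_congr rfl fun i hi => ?_
  have hi' : i ≤ 2 * WeilCoh.dim X.obj.left := by
    have := Finset.mem_range.mp hi; omega
  rw [Finset.sum_mul, map_sum, LinearMap.trace_eq_matrix_trace K (e i), Matrix.trace,
    Finset.mul_sum]
  refine Finset.sum_congr rfl fun l _ => ?_
  rw [smul_mul_assoc, map_smul, smul_eq_mul]
  congr 1
  have h1 : T.pull p (f i l : T.H X) * T.pull q (act T p q _ φ (i : ℤ) (e i l) : T.H Y) *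
      T.pull σ (ψ : T.H P') =
      T.pull σ (T.pull q' (f i l : T.H X) * T.pull p' (act T p q _ φ (i : ℤ) (e i l) : T.H Y) *
        (ψ : T.H P')) := by
    rw [map_mul, map_mul, pull_pull, pull_pull, hσ₁, hσ₂]
  rw [h1, tr_pull_swap T p q hP p' q' hP' σ hσ₁ hσ₂,
    tr_term T p' q' _ ψ _ (act T p q _ φ (i : ℤ) (e i l)) i hi' (hdim (i : ℤ)) (f i l)]
  rw [Matrix.diag_apply, LinearMap.toMatrix_apply]
  have hmem : (act T p' q' _ ψ _ (act T p q _ φ (i : ℤ) (e i l)) : T.H X) ∈ T.gr X (i : ℤ) :=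
    mem_of_eq T (act T p' q' _ ψ _ (act T p q _ φ (i : ℤ) (e i l))).2 (hdim (i : ℤ))
  rw [tr_dual_mul T ι e f hef i hi' l _ hmem]
  rfl

end Main

end Groth.Agent.Lib.Seat72.WeilCorrTr
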