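import Mathlib

/-!
# The functional equation of the cohomological zeta function: abstract algebra (seat 72)

`functional_equation`: from the degree-wise relations between characteristic polynomials and
determinants of Frobenius (Poincaré duality) to `Z(1/(q^n t)) = ± q^(nE/2) t^E Z(t)` in `RatFunc K`.
`even_mul_euler`, `even_finrank_of_skew`: the parity input (`n E` is even).
-/

set_option autoImplicit false
set_option maxSynthPendingDepth 3
set_option linter.style.haveILetI false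

open Polynomial

namespace Groth.Agent.Lib.Seat72.WeilFE

variable {K : Type*} [Field K]

/-- single-degree identity -/
theorem star (χ χ' : K[X]) (b : ℕ) (d c : K) (hc : c ≠ 0) (hdeg : χ.natDegree = b)
    (h : d • χ'.reverse = (-1 : K[X]) ^ b * χ.comp (C c * X)) :
    aeval ((RatFunc.X : RatFunc K)⁻¹ * RatFunc.C c⁻¹) χ.reverse * (RatFunc.C c * RatFunc.X) ^ b =
      (-1) ^ b * RatFunc.C d * algebraMap K[X] (RatFunc K) χ'.reverse := by
  have hx : (RatFunc.C c * RatFunc.X : RatFunc K) ≠ 0 :=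
    mul_ne_zero (by simpa using hc) RatFunc.X_ne_zero
  letI : Invertible (RatFunc.C c * RatFunc.X : RatFunc K) := invertibleOfNonzero hx
  have h1 := eval₂_reverse_mul_pow (algebraMap K (RatFunc K)) (RatFunc.C c * RatFunc.X : RatFunc K) χ
  have hu : ⅟(RatFunc.C c * RatFunc.X : RatFunc K) = (RatFunc.X : RatFunc K)⁻¹ * RatFunc.C c⁻¹ := by
    rw [invOf_eq_inv, mul_inv, map_inv₀, mul_comm]
  rw [hu, hdeg] at h1
  rw [aeval_def, h1]
  have h2 := congrArg (algebraMap K[X] (RatFunc K)) h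
  rw [Algebra.smul_def, map_mul, map_mul, map_pow, map_neg, map_one, Polynomial.algebraMap_apply,
    Algebra.algebraMap_self, RingHom.id_apply, RatFunc.algebraMap_C] at h2
  have h3 : algebraMap K[X] (RatFunc K) (χ.comp (C c * X)) =
      eval₂ (algebraMap K (RatFunc K)) (RatFunc.C c * RatFunc.X) χ := by
    rw [← RatFunc.aeval_X_left_eq_algebraMap, aeval_comp, ← aeval_def]
    congr 1
    rw [map_mul, aeval_C, aeval_X, RatFunc.algebraMap_eq_C]
  rw [h3] at h2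
  rw [mul_assoc, h2, ← mul_assoc, ← pow_two, ← pow_mul, mul_comm b 2, pow_mul]
  simp

section Abstract

variable (n : ℕ) (B : ℤ → ℕ) (χ : ℤ → K[X]) (d : ℤ → K) (c : K) (hc : c ≠ 0)
  (hdeg : ∀ j, (χ j).natDegree = B j)
  (h55 : ∀ j, d j • (χ (2 * (n : ℤ) - j)).reverse = (-1 : K[X]) ^ B j * (χ j).comp (C c * X))
  (h54 : ∀ j, d (2 * (n : ℤ) - j) * d j = c ^ B j)

include hc hdeg h55 in
theorem prod_identity (N : ℕ) (ι : ℕ → ℤ) (hι : ∀ i < N, ι (N - 1 - i) = 2 * (n : ℤ) - ι i) :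
    aeval ((RatFunc.X : RatFunc K)⁻¹ * RatFunc.C c⁻¹) (∏ i ∈ Finset.range N, (χ (ι i)).reverse) *
        (RatFunc.C c * RatFunc.X) ^ (∑ i ∈ Finset.range N, B (ι i)) =
      (-1) ^ (∑ i ∈ Finset.range N, B (ι i)) * RatFunc.C (∏ i ∈ Finset.range N, d (ι i)) *
        algebraMap K[X] (RatFunc K) (∏ i ∈ Finset.range N, (χ (ι i)).reverse) := by
  have h1 : ∏ i ∈ Finset.range N,
      (aeval ((RatFunc.X : RatFunc K)⁻¹ * RatFunc.C c⁻¹) (χ (ι i)).reverse *
        (RatFunc.C c * RatFunc.X) ^ B (ι i)) =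
      ∏ i ∈ Finset.range N, ((-1) ^ B (ι i) * RatFunc.C (d (ι i)) *
        algebraMap K[X] (RatFunc K) (χ (2 * (n : ℤ) - ι i)).reverse) :=
    Finset.prod_congr rfl fun i _ => star _ _ _ _ _ hc (hdeg _) (h55 _)
  rw [Finset.prod_mul_distrib, Finset.prod_pow_eq_pow_sum, Finset.prod_mul_distrib,
    Finset.prod_mul_distrib, Finset.prod_pow_eq_pow_sum] at h1
  rw [map_prod, map_prod, map_prod, h1]
  congr 1
  rw [← Finset.prod_range_reflect (fun i => algebraMap K[X] (RatFunc K) (χ (ι i)).reverse) N]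
  refine Finset.prod_congr rfl fun i hi => ?_
  rw [hι i (Finset.mem_range.mp hi)]

include h54 in
theorem prod_det_sq (N : ℕ) (ι : ℕ → ℤ) (hι : ∀ i < N, ι (N - 1 - i) = 2 * (n : ℤ) - ι i) :
    (∏ i ∈ Finset.range N, d (ι i)) ^ 2 = c ^ (∑ i ∈ Finset.range N, B (ι i)) := by
  rw [pow_two]
  nth_rewrite 1 [← Finset.prod_range_reflect (fun i => d (ι i)) N]
  rw [← Finset.prod_mul_distrib, ← Finset.prod_pow_eq_pow_sum]
  refine Finset.prod_congr rfl fun i hi => ?_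
  rw [hι i (Finset.mem_range.mp hi), h54]

end Abstract

/-- pure field identity used in the assembly -/
theorem field_core {𝔽 : Type*} [Field 𝔽] (O Ev Op Evp x1 x2 a1 a2 s1 s2 : 𝔽)
    (hx1 : x1 ≠ 0) (hx2 : x2 ≠ 0) (ha2 : a2 ≠ 0) (hEvp : Evp ≠ 0) (hs2 : s2 * s2 = 1)
    (hO : O * x1 = s1 * a1 * Op) (hE : Ev * x2 = s2 * a2 * Evp) :
    O / Ev = s1 * s2 * (a1 / a2) * (x2 / x1) * (Op / Evp) := by
  have hs2' : s2 ≠ 0 := by
    intro h; rw [h, mul_zero] at hs2; exact zero_ne_one hs2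
  have h1 : O = s1 * a1 * Op / x1 := eq_div_of_mul_eq hx1 hO
  have h2 : Ev = s2 * a2 * Evp / x2 := eq_div_of_mul_eq hx2 hE
  rw [h1, h2]
  field_simp
  linear_combination (-(s1 * a1 * Op)) * hs2

theorem assemble (q : K) (hq : q ≠ 0) (n So Se : ℕ) (Do De : K) (O Ev Op Evp : RatFunc K)
    (hEvp : Evp ≠ 0)
    (hO : O * (RatFunc.C (q ^ n) * RatFunc.X) ^ So = (-1) ^ So * RatFunc.C Do * Op)
    (hE : Ev * (RatFunc.C (q ^ n) * RatFunc.X) ^ Se = (-1) ^ Se * RatFunc.C De * Evp)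
    (hDo : Do ^ 2 = (q ^ n) ^ So) (hDe : De ^ 2 = (q ^ n) ^ Se)
    (E : ℤ) (hEdef : E = (Se : ℤ) - So) (hpar : Even ((n : ℤ) * E)) :
    ∃ ε : K, (ε = 1 ∨ ε = -1) ∧
      O / Ev = RatFunc.C ε * RatFunc.C q ^ ((n : ℤ) * E / 2) * RatFunc.X ^ E * (Op / Evp) := by
  obtain ⟨m, hm⟩ := hpar
  have hm2 : (n : ℤ) * E / 2 = m := by omega
  have hc : q ^ n ≠ 0 := pow_ne_zero _ hq
  have hDe0 : De ≠ 0 := by
    intro h; rw [h, zero_pow two_ne_zero] at hDe; exact pow_ne_zero _ hc hDe.symm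
  have hCc : (RatFunc.C (q ^ n) : RatFunc K) ≠ 0 := by simpa using hc
  have hx : (RatFunc.C (q ^ n) * RatFunc.X : RatFunc K) ≠ 0 := mul_ne_zero hCc RatFunc.X_ne_zero
  have hs : ((-1 : K) ^ So * (-1) ^ Se) ^ 2 = 1 := by
    rw [mul_pow, ← pow_mul, ← pow_mul, mul_comm So, mul_comm Se, pow_mul, pow_mul]; simp
  -- the constant
  set ε : K := (-1) ^ So * (-1) ^ Se * (Do / De) * (q ^ n) ^ E / q ^ m with hε
  have hcE : ((q ^ n : K)) ^ E = q ^ m * q ^ m := by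
    rw [← zpow_natCast q n, ← zpow_mul, hm, zpow_add₀ hq]
  have hD2 : (Do / De) ^ 2 * (q ^ n) ^ E = 1 := by
    rw [div_pow, hDo, hDe, hEdef, zpow_sub₀ hc, zpow_natCast, zpow_natCast]
    field_simp
  have hε2 : ε ^ 2 = 1 := by
    have hqm : q ^ m ≠ 0 := zpow_ne_zero _ hq
    rw [hε, div_pow, mul_pow, mul_pow, hs, one_mul, div_eq_one_iff_eq (pow_ne_zero _ hqm)]
    rw [pow_two ((q ^ n) ^ E), ← mul_assoc, hD2, one_mul, hcE, pow_two]
  refine ⟨ε, sq_eq_one_iff.mp hε2, ?_⟩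
  have hqm : q ^ m ≠ 0 := zpow_ne_zero _ hq
  have h1 := field_core O Ev Op Evp ((RatFunc.C (q ^ n) * RatFunc.X) ^ So)
    ((RatFunc.C (q ^ n) * RatFunc.X) ^ Se) (RatFunc.C Do) (RatFunc.C De) ((-1) ^ So) ((-1) ^ Se)
    (pow_ne_zero _ hx) (pow_ne_zero _ hx) (by simpa using hDe0) hEvp
    (by rw [← pow_add, ← two_mul, pow_mul]; simp) hO hE
  rw [h1, hm2]
  congr 1
  have h2 : (RatFunc.C ε : RatFunc K) * RatFunc.C q ^ m =
      (-1) ^ So * (-1) ^ Se * (RatFunc.C Do / RatFunc.C De) * RatFunc.C (q ^ n) ^ E := by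
    rw [← map_zpow₀, ← map_mul, hε, div_mul_cancel₀ _ hqm]
    simp only [map_mul, map_pow, map_neg, map_one, map_div₀, map_zpow₀]
  rw [h2, hEdef, mul_assoc _ (RatFunc.C (q ^ n) ^ _), ← mul_zpow, zpow_sub₀ hx, zpow_natCast,
    zpow_natCast]

theorem alt_sum_split (n : ℕ) (a : ℕ → ℤ) :
    ∑ i ∈ Finset.range (2 * n + 1), (-1 : ℤ) ^ i * a i =
      ∑ i ∈ Finset.range (n + 1), a (2 * i) - ∑ i ∈ Finset.range n, a (2 * i + 1) := by
  induction n with
  | zero => simp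
  | succ n ih =>
    rw [show 2 * (n + 1) + 1 = (2 * n + 1) + 1 + 1 by ring, Finset.sum_range_succ,
      Finset.sum_range_succ, ih, Finset.sum_range_succ (fun i => a (2 * i)) (n + 1),
      Finset.sum_range_succ (fun i => a (2 * i + 1)) n]
    have h1 : (-1 : ℤ) ^ (2 * n + 1) = -1 := by rw [pow_succ, pow_mul]; simp
    have h2 : (-1 : ℤ) ^ (2 * n + 1 + 1) = 1 := by rw [pow_succ, h1]; simp
    rw [h1, h2, show 2 * (n + 1) = 2 * n + 1 + 1 by ring]
    ring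

theorem functional_equation (q : K) (hq : q ≠ 0) (n : ℕ) (B : ℤ → ℕ) (χ : ℤ → K[X]) (d : ℤ → K)
    (hmonic : ∀ j, (χ j).Monic) (hdeg : ∀ j, (χ j).natDegree = B j)
    (h55 : ∀ j, d j • (χ (2 * (n : ℤ) - j)).reverse =
      (-1 : K[X]) ^ B j * (χ j).comp (C (q ^ n) * X))
    (h54 : ∀ j, d (2 * (n : ℤ) - j) * d j = (q ^ n) ^ B j)
    (hpar : Even ((n : ℤ) * ∑ i ∈ Finset.range (2 * n + 1), (-1 : ℤ) ^ i * (B (i : ℤ) : ℤ))) :
    ∃ ε : K, (ε = 1 ∨ ε = -1) ∧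
      aeval ((RatFunc.X : RatFunc K)⁻¹ * RatFunc.C (q ^ n)⁻¹)
          (∏ i ∈ Finset.range n, (χ ((2 * i + 1 : ℕ) : ℤ)).reverse) /
        aeval ((RatFunc.X : RatFunc K)⁻¹ * RatFunc.C (q ^ n)⁻¹)
          (∏ i ∈ Finset.range (n + 1), (χ ((2 * i : ℕ) : ℤ)).reverse) =
      RatFunc.C ε * RatFunc.C q ^ ((n : ℤ) *
          (∑ i ∈ Finset.range (2 * n + 1), (-1 : ℤ) ^ i * (B (i : ℤ) : ℤ)) / 2) *
        (RatFunc.X : RatFunc K) ^ (∑ i ∈ Finset.range (2 * n + 1), (-1 : ℤ) ^ i * (B (i : ℤ) : ℤ)) *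
        (algebraMap K[X] (RatFunc K) (∏ i ∈ Finset.range n, (χ ((2 * i + 1 : ℕ) : ℤ)).reverse) /
         algebraMap K[X] (RatFunc K)
          (∏ i ∈ Finset.range (n + 1), (χ ((2 * i : ℕ) : ℤ)).reverse)) := by
  have hc : q ^ n ≠ 0 := pow_ne_zero _ hq
  have hιo : ∀ i < n, (((2 * (n - 1 - i) + 1 : ℕ) : ℤ)) = 2 * (n : ℤ) - ((2 * i + 1 : ℕ) : ℤ) := by
    intro i hi; omega
  have hιe : ∀ i < n + 1, (((2 * (n + 1 - 1 - i) : ℕ) : ℤ)) = 2 * (n : ℤ) - ((2 * i : ℕ) : ℤ) := by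
    intro i hi; omega
  have hO := prod_identity n B χ d (q ^ n) hc hdeg h55 n (fun i => ((2 * i + 1 : ℕ) : ℤ)) hιo
  have hE := prod_identity n B χ d (q ^ n) hc hdeg h55 (n + 1) (fun i => ((2 * i : ℕ) : ℤ)) hιe
  have hDo := prod_det_sq n B d (q ^ n) h54 n (fun i => ((2 * i + 1 : ℕ) : ℤ)) hιo
  have hDe := prod_det_sq n B d (q ^ n) h54 (n + 1) (fun i => ((2 * i : ℕ) : ℤ)) hιe
  have hEvp : algebraMap K[X] (RatFunc K)
      (∏ i ∈ Finset.range (n + 1), (χ ((2 * i : ℕ) : ℤ)).reverse) ≠ 0 := by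
    apply RatFunc.algebraMap_ne_zero
    rw [Finset.prod_ne_zero_iff]
    intro i _
    rw [Ne, Polynomial.reverse_eq_zero]
    exact (hmonic _).ne_zero
  have hEdef : (∑ i ∈ Finset.range (2 * n + 1), (-1 : ℤ) ^ i * (B (i : ℤ) : ℤ)) =
      ((∑ i ∈ Finset.range (n + 1), B ((2 * i : ℕ) : ℤ) : ℕ) : ℤ) -
        ((∑ i ∈ Finset.range n, B ((2 * i + 1 : ℕ) : ℤ) : ℕ) : ℤ) := by
    rw [alt_sum_split n (fun i => (B (i : ℤ) : ℤ))]
    push_cast
    rfl
  exact assemble q hq n _ _ _ _ _ _ _ _ hEvp hO hE hDo hDe _ hEdef hpar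

theorem pal_sum_aux : ∀ (N : ℕ) (g : ℕ → ℤ), (∀ i < N, g (N - 1 - i) = g i) →
    Even (∑ i ∈ Finset.range N, g i - (if N % 2 = 1 then g (N / 2) else 0))
  | 0, g, _ => by simp
  | 1, g, _ => by simp
  | (N + 2), g, h => by
    have ih := pal_sum_aux N (fun i => g (i + 1)) (by
      intro i hi
      have := h (i + 1) (by omega)
      rw [show N + 2 - 1 - (i + 1) = N - 1 - i + 1 by omega] at this
      exact this)
    have h0 := h 0 (by omega)
    rw [show N + 2 - 1 - 0 = N + 1 by omega] at h0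
    rw [Finset.sum_range_succ, Finset.sum_range_succ', h0]
    have e1 : (N + 2) % 2 = N % 2 := by omega
    have e2 : (N + 2) / 2 = N / 2 + 1 := by omega
    rw [e1, e2]
    obtain ⟨r, hr⟩ := ih
    refine ⟨r + g 0, ?_⟩
    linarith

/-- parity of the Euler characteristic under Poincaré duality -/
theorem even_mul_euler (n : ℕ) (B : ℤ → ℕ) (hB : ∀ j : ℤ, B (2 * (n : ℤ) - j) = B j)
    (hmid : n % 2 = 1 → Even (B (n : ℤ))) :
    Even ((n : ℤ) * ∑ i ∈ Finset.range (2 * n + 1), (-1 : ℤ) ^ i * (B (i : ℤ) : ℤ)) := by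
  rcases Nat.even_or_odd n with he | ho
  · exact (Int.even_coe_nat n |>.mpr he).mul_right _
  · apply Even.mul_left
    have hodd : n % 2 = 1 := Nat.odd_iff.mp ho
    have h1 := pal_sum_aux (2 * n + 1) (fun i => (-1 : ℤ) ^ i * (B (i : ℤ) : ℤ)) (by
      intro i hi
      have hcast : ((2 * n + 1 - 1 - i : ℕ) : ℤ) = 2 * (n : ℤ) - (i : ℤ) := by omega
      rw [hcast, hB]
      congr 1
      have : (-1 : ℤ) ^ (2 * n + 1 - 1 - i) * (-1) ^ i = 1 := by
        rw [← pow_add, show 2 * n + 1 - 1 - i + i = 2 * n by omega, pow_mul]; simp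
      have h2 : (-1 : ℤ) ^ i * (-1) ^ i = 1 := by rw [← pow_add, ← two_mul, pow_mul]; simp
      have h3 : (-1 : ℤ) ^ i ≠ 0 := pow_ne_zero _ (by norm_num)
      exact mul_right_cancel₀ h3 (this.trans h2.symm))
    rw [if_pos (by omega), show (2 * n + 1) / 2 = n by omega] at h1
    have h2 : Even ((-1 : ℤ) ^ n * (B (n : ℤ) : ℤ)) :=
      ((Int.even_coe_nat _).mpr (hmid hodd)).mul_left _
    have := h1.add h2
    simpa using this

theorem even_finrank_of_skew {K V : Type*} [Field K] [CharZero K] [AddCommGroup V] [Module K V]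
    [FiniteDimensional K V] (p : V →ₗ[K] V →ₗ[K] K) [p.IsPerfPair]
    (hskew : ∀ a b, p a b = - p b a) : Even (Module.finrank K V) := by
  classical
  set m := Module.finrank K V with hm
  let b := Module.finBasis K V
  set A := LinearMap.toMatrix₂ b b p with hA
  have hsep : p.SeparatingLeft := by
    intro x hx
    have : p x = 0 := LinearMap.ext hx
    exact (LinearMap.IsPerfPair.bijective_left p).1 (this.trans (map_zero p).symm)
  have hdet : A.det ≠ 0 := (LinearMap.separatingLeft_iff_det_ne_zero b).mp hsep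
  have hT : A.transpose = -A := by
    ext i j
    simp only [Matrix.transpose_apply, Matrix.neg_apply, hA, LinearMap.toMatrix₂_apply]
    exact hskew _ _
  have h1 : A.det = (-1) ^ m * A.det := by
    conv_lhs => rw [← Matrix.det_transpose, hT, Matrix.det_neg, Fintype.card_fin]
  by_contra hodd
  rw [Nat.not_even_iff_odd] at hodd
  rw [hodd.neg_one_pow] at h1
  have : (2 : K) * A.det = 0 := by linear_combination h1
  rcases mul_eq_zero.mp this with h | h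
  · exact two_ne_zero h
  · exact hdet h

end Groth.Agent.Lib.Seat72.WeilFE
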