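import Groth.Agent.Lib.Seat72WeilCorrTr

/-!
# Seat72: Weil cohomology, classes with nilpotent correspondence action are numerically trivial

* `trace_formula_gen`: the trace formula of `Seat72WeilCorrTr` for arbitrary degrees;
* `swap_comp_swap`, `pull_cl_swap`: the swap of `X × X` is an involution and permutes classes;
* `tr_mul_eq_zero_of_nilpotent`: S19418.
-/

set_option autoImplicit false
set_option maxSynthPendingDepth 3
set_option linter.style.haveILetI false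
set_option linter.unusedSectionVars false

universe u v

open AlgebraicGeometry CategoryTheory CategoryTheory.Limits

namespace Groth.Agent.Lib.Seat72.WeilJac

open Groth.Agent.Lib.Helper10.WeilPt Groth.Agent.Lib.Seat72.WeilCorrTr

variable {k : Type u} [Field k] [IsAlgClosed k] {K : Type v} [Field K] [CharZero K]
  (T : WeilCoh.Theory k K)

/-- the trace formula for correspondences of arbitrary degrees whose composite has degree `0`. -/
theorem trace_formula_gen (X Y P P' : WeilCoh.Var k)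
    (p : P ⟶ X) (q : P ⟶ Y) (hP : WeilCoh.IsProd p q)
    (p' : P' ⟶ Y) (q' : P' ⟶ X) (hP' : WeilCoh.IsProd p' q')
    (σ : P ⟶ P') (hσ₁ : σ ≫ p' = q) (hσ₂ : σ ≫ q' = p) (d d' : ℤ)
    (hdim : ∀ i : ℤ, ((i + d + 2 * (WeilCoh.dim Y.obj.left : ℤ) - 2 * (WeilCoh.dim P.obj.left : ℤ)) + d' + 2 * (WeilCoh.dim X.obj.left : ℤ) - 2 * (WeilCoh.dim P'.obj.left : ℤ)) = i)
    (φ : ↥(T.gr P d)) (ψ : ↥(T.gr P' d')) :
    T.tr P ((φ : T.H P) * T.pull σ (ψ : T.H P')) =
      ∑ i ∈ Finset.range (2 * WeilCoh.dim X.obj.left + 1),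
        (-1 : K) ^ i * LinearMap.trace K ↥(T.gr X (i : ℤ))
          ((LinearEquiv.ofEq _ (T.gr X (i : ℤ)) (congrArg (T.gr X) (hdim (i : ℤ)))).toLinearMap ∘ₗ
            (act T p' q' _ ψ _) ∘ₗ (act T p q _ φ (i : ℤ))) := by
  classical
  obtain ⟨ι, _, _, e, f, hef⟩ := exists_dual_family T X
  have hφ := eq_corrClass T p q hP ι e f hef _ φ
  conv_lhs => rw [hφ]
  unfold corrClass
  rw [Finset.sum_mul, map_sum]
  refine Finset.sum_congr rfl fun i hi => ?_
  have hi' : i ≤ 2 * WeilCoh.dim X.obj.left := by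
    have := Finset.mem_range.mp hi; omega
  rw [Finset.sum_mul, map_sum, LinearMap.trace_eq_matrix_trace K (e i), Matrix.trace,
    Finset.mul_sum]
  refine Finset.sum_congr rfl fun l _ => ?_
  rw [smul_mul_assoc, map_smul, smul_eq_mul]
  congr 1
  have h1 : T.pull p (f i l : T.H X) * T.pull q (act T p q _ φ (i : ℤ) (e i l) : T.H Y) *
      T.pull σ (ψ : T.H P') =
      T.pull σ (T.pull q' (f i l : T.H X) * T.pull p' (act T p q _ φ (i : ℤ) (e i l) : T.H Y) *
        (ψ : T.H P')) := by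
    rw [map_mul, map_mul, pull_pull, pull_pull, hσ₁, hσ₂]
  rw [h1, tr_pull_swap T p q hP p' q' hP' σ hσ₁ hσ₂,
    tr_term T p' q' _ ψ _ (act T p q _ φ (i : ℤ) (e i l)) i hi' (hdim (i : ℤ)) (f i l)]
  rw [Matrix.diag_apply, LinearMap.toMatrix_apply]
  have hmem : (act T p' q' _ ψ _ (act T p q _ φ (i : ℤ) (e i l)) : T.H X) ∈ T.gr X (i : ℤ) :=
    mem_of_eq T (act T p' q' _ ψ _ (act T p q _ φ (i : ℤ) (e i l))).2 (hdim (i : ℤ))
  rw [tr_dual_mul T ι e f hef i hi' l _ hmem]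
  rfl

section Swap

variable {X P : WeilCoh.Var k} (p q : P ⟶ X) (hP : WeilCoh.IsProd p q) (σ : P ⟶ P)
  (hσp : σ ≫ p = q) (hσq : σ ≫ q = p)

include hP hσp hσq in
omit [IsAlgClosed k] in
theorem swap_comp_swap : σ ≫ σ = 𝟙 P := by
  apply ObjectProperty.hom_ext
  apply Over.OverMorphism.ext
  apply hP.hom_ext
  · have h : (σ ≫ σ) ≫ p = 𝟙 P ≫ p := by rw [Category.assoc, hσp, hσq, Category.id_comp]
    exact congrArg (fun φ => WeilCoh.sm φ) h
  · have h : (σ ≫ σ) ≫ q = 𝟙 P ≫ q := by rw [Category.assoc, hσq, hσp, Category.id_comp]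
    exact congrArg (fun φ => WeilCoh.sm φ) h

include hP hσp hσq in
omit [IsAlgClosed k] in
theorem residueDegree_swap (ξ : P.obj.left) : (WeilCoh.sm σ).residueDegree ξ = 1 := by
  have hinv : WeilCoh.sm σ ≫ WeilCoh.sm σ = 𝟙 _ :=
    congrArg (fun φ => WeilCoh.sm φ) (swap_comp_swap p q hP σ hσp hσq)
  haveI : IsIso (WeilCoh.sm σ) := ⟨⟨WeilCoh.sm σ, hinv, hinv⟩⟩
  unfold Scheme.Hom.residueDegree
  letI := ((WeilCoh.sm σ).residueFieldMap ξ).hom.toAlgebra
  have hbij : Function.Bijective (algebraMap (P.obj.left.residueField (WeilCoh.sm σ ξ))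
      (P.obj.left.residueField ξ)) :=
    ConcreteCategory.bijective_of_isIso ((WeilCoh.sm σ).residueFieldMap ξ)
  rw [← (LinearEquiv.ofBijective (Algebra.linearMap _ _) hbij).finrank_eq]
  exact Module.finrank_self _

include hP hσp hσq in
/-- the swap permutes the classes of closed irreducible subsets. -/
theorem pull_cl_swap (ξ : P.obj.left) : T.pull σ (T.cl P ξ) = T.cl P (WeilCoh.sm σ ξ) := by
  have hinv := swap_comp_swap p q hP σ hσp hσq
  have hdeg := residueDegree_swap p q hP σ hσp hσq ξ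
  have hpd : WeilCoh.pdim P.obj.left (WeilCoh.sm σ ξ) = WeilCoh.pdim P.obj.left ξ :=
    pdim_eq_of_residueDegree_ne_zero σ ξ (by rw [hdeg]; exact one_ne_zero)
  have hc1 := cast_codim P ξ
  have hc2 := cast_codim P (WeilCoh.sm σ ξ)
  apply eq_of_forall_tr_mul T P
  intro a
  refine Submodule.iSup_induction (T.gr P) (motive := fun a =>
    T.tr P (T.pull σ (T.cl P ξ) * a) = T.tr P (T.cl P (WeilCoh.sm σ ξ) * a))
    (mem_iSup_gr T P a) ?_ ?_ ?_
  · intro t a ha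
    have h1 : T.pull σ (T.cl P ξ) * a = T.pull σ (T.cl P ξ * T.pull σ a) := by
      rw [map_mul, pull_pull, pull_of_eq_id T _ hinv]
    rw [h1, tr_pull_swap T p q hP p q hP σ hσp hσq]
    by_cases ht : t = 2 * (WeilCoh.pdim P.obj.left ξ : ℤ)
    · subst ht
      rw [T.cl_push σ ξ a ha, hdeg, Nat.cast_one, one_mul]
    · have hm1 := SetLike.mul_mem_graded (T.cl_mem P ξ) (T.pull_mem σ _ _ ha)
      have hm2 := SetLike.mul_mem_graded (T.cl_mem P (WeilCoh.sm σ ξ)) ha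
      rw [T.tr_vanish P _ _ hm1 (by omega), T.tr_vanish P _ _ hm2 (by omega)]
  · simp
  · intro x y hx hy
    rw [mul_add, map_add, hx, hy, mul_add, map_add]

include hP hσp hσq in
theorem pull_swap_mem_span (v : T.H P) (hv : v ∈ Submodule.span K (Set.range (T.cl P))) :
    T.pull σ v ∈ Submodule.span K (Set.range (T.cl P)) := by
  have hle : Submodule.span K (Set.range (T.cl P)) ≤
      (Submodule.span K (Set.range (T.cl P))).comap (T.pull σ).toLinearMap := by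
    rw [Submodule.span_le]
    rintro _ ⟨ξ, rfl⟩
    change T.pull σ (T.cl P ξ) ∈ Submodule.span K (Set.range (T.cl P))
    rw [pull_cl_swap T p q hP σ hσp hσq ξ]
    exact Submodule.subset_span ⟨_, rfl⟩
  exact hle hv

end Swap

section Main

lemma act_congr {X Y P : WeilCoh.Var k} (p : P ⟶ X) (q : P ⟶ Y) (d : ℤ) (ψ : T.gr P d)
    {j j' : ℤ} (h : j' = j) (y : T.gr X j') (y' : T.gr X j) (hy : (y : T.H X) = (y' : T.H X)) :
    (act T p q d ψ j' y : T.H Y) = (act T p q d ψ j y' : T.H Y) := by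
  subst h
  have : y = y' := Subtype.ext hy
  rw [this]

variable {X P : WeilCoh.Var k} (p q : P ⟶ X)
  (hdim : ∀ j : ℤ, j + 2 * (WeilCoh.dim X.obj.left : ℤ) + 2 * (WeilCoh.dim X.obj.left : ℤ) - 2 * (WeilCoh.dim P.obj.left : ℤ) = j)

/-- the action of a class of degree `2 dim X` on `X × X` on the cohomology of `X`, degree by
degree. -/
noncomputable def gen (w : ↥(T.gr P (2 * (WeilCoh.dim X.obj.left : ℤ)))) :
    (j : Fin (2 * WeilCoh.dim X.obj.left + 1)) → Module.End K ↥(T.gr X ((j : ℕ) : ℤ)) :=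
  fun j : Fin (2 * WeilCoh.dim X.obj.left + 1) =>
    ((LinearEquiv.ofEq (T.gr X (((j : ℕ) : ℤ) + 2 * (WeilCoh.dim X.obj.left : ℤ) + 2 * (WeilCoh.dim X.obj.left : ℤ) - 2 * (WeilCoh.dim P.obj.left : ℤ))) (T.gr X ((j : ℕ) : ℤ)) (congrArg (T.gr X) (hdim ((j : ℕ) : ℤ)))).toLinearMap ∘ₗ
      ((T.push q (((j : ℕ) : ℤ) + 2 * (WeilCoh.dim X.obj.left : ℤ))) ∘ₗ
        (((LinearMap.mulRight K (w : T.H P)).restrict (p := T.gr P ((j : ℕ) : ℤ))
            (q := T.gr P (((j : ℕ) : ℤ) + 2 * (WeilCoh.dim X.obj.left : ℤ))) (fun x hx => SetLike.mul_mem_graded hx w.2)) ∘ₗ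
          T.pullDeg p ((j : ℕ) : ℤ))))

lemma coe_gen_apply (w : ↥(T.gr P (2 * (WeilCoh.dim X.obj.left : ℤ))))
    (j : Fin (2 * WeilCoh.dim X.obj.left + 1)) (x : ↥(T.gr X ((j : ℕ) : ℤ))) :
    ((gen T p q hdim w j x : ↥(T.gr X ((j : ℕ) : ℤ))) : T.H X) =
      (act T p q _ w ((j : ℕ) : ℤ) x : T.H X) := rfl

variable (hP : WeilCoh.IsProd p q) (σ : P ⟶ P) (hσp : σ ≫ p = q) (hσq : σ ≫ q = p)

include hP hσp hσq in
/-- S19418. -/
theorem tr_mul_eq_zero_of_nilpotent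
    (u : ↥(T.gr P (2 * (WeilCoh.dim X.obj.left : ℤ))))
    (hJ : ∀ ψ ∈ Algebra.adjoin K
          (Set.range (fun w : {w : ↥(T.gr P (2 * (WeilCoh.dim X.obj.left : ℤ))) // (w : T.H P) ∈ Submodule.span K (Set.range (T.cl P))} =>
            gen T p q hdim w.1)),
        IsNilpotent (ψ * gen T p q hdim u))
    (v : ↥(T.gr P (2 * (WeilCoh.dim X.obj.left : ℤ)))) (hv : (v : T.H P) ∈ Submodule.span K (Set.range (T.cl P))) :
    T.tr P ((u : T.H P) * (v : T.H P)) = 0 := by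
  have hinv := swap_comp_swap p q hP σ hσp hσq
  have hv2 : (v : T.H P) = T.pull σ (T.pull σ (v : T.H P)) := by
    rw [pull_pull, pull_of_eq_id T _ hinv]
  let v' : ↥(T.gr P (2 * (WeilCoh.dim X.obj.left : ℤ))) := ⟨T.pull σ (v : T.H P), T.pull_mem σ _ _ v.2⟩
  have hv' : (v' : T.H P) ∈ Submodule.span K (Set.range (T.cl P)) :=
    pull_swap_mem_span T p q hP σ hσp hσq _ hv
  have hdim' : ∀ i : ℤ, ((i + 2 * (WeilCoh.dim X.obj.left : ℤ) + 2 * (WeilCoh.dim X.obj.left : ℤ) - 2 * (WeilCoh.dim P.obj.left : ℤ)) + 2 * (WeilCoh.dim X.obj.left : ℤ) + 2 * (WeilCoh.dim X.obj.left : ℤ) - 2 * (WeilCoh.dim P.obj.left : ℤ)) = i := by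
    intro i
    have := hdim 0
    omega
  have hTF := trace_formula_gen T X X P P p q hP p q hP σ hσp hσq _ _ hdim' u v'
  have hgoal : T.tr P ((u : T.H P) * (v : T.H P)) =
      T.tr P ((u : T.H P) * T.pull σ (v' : T.H P)) := by
    conv_lhs => rw [hv2]
  rw [hgoal, hTF]
  refine Finset.sum_eq_zero fun i hi => ?_
  have hi' : i < 2 * WeilCoh.dim X.obj.left + 1 := Finset.mem_range.mp hi
  have hmemA : gen T p q hdim v' ∈ Algebra.adjoin K
      (Set.range (fun w : {w : ↥(T.gr P (2 * (WeilCoh.dim X.obj.left : ℤ))) // (w : T.H P) ∈ Submodule.span K (Set.range (T.cl P))} =>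
        gen T p q hdim w.1)) :=
    Algebra.subset_adjoin ⟨⟨v', hv'⟩, rfl⟩
  obtain ⟨m, hm⟩ := hJ _ hmemA
  have hnil : IsNilpotent (gen T p q hdim v' ⟨i, hi'⟩ * gen T p q hdim u ⟨i, hi'⟩) := by
    refine ⟨m, ?_⟩
    have := congrFun hm ⟨i, hi'⟩
    simpa [Pi.pow_apply, Pi.mul_apply] using this
  have htr0 : LinearMap.trace K _ (gen T p q hdim v' ⟨i, hi'⟩ * gen T p q hdim u ⟨i, hi'⟩) = 0 :=
    (LinearMap.isNilpotent_trace_of_isNilpotent hnil).eq_zero
  have hEq : ((LinearEquiv.ofEq _ (T.gr X (i : ℤ)) (congrArg (T.gr X) (hdim' (i : ℤ)))).toLinearMap ∘ₗ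
      (act T p q _ v' _) ∘ₗ (act T p q _ u (i : ℤ))) =
      gen T p q hdim v' ⟨i, hi'⟩ * gen T p q hdim u ⟨i, hi'⟩ := by
    apply LinearMap.ext
    intro x
    apply Subtype.ext
    change (act T p q _ v' _ (act T p q _ u (i : ℤ) x) : T.H X) =
      ((gen T p q hdim v' ⟨i, hi'⟩ (gen T p q hdim u ⟨i, hi'⟩ x) : ↥(T.gr X (i : ℤ))) : T.H X)
    rw [coe_gen_apply]
    exact act_congr T p q _ v' (hdim (i : ℤ)) _ _ rfl
  rw [hEq, htr0, mul_zero]

end Main

end Groth.Agent.Lib.Seat72.WeilJac
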