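import Mathlib

/-!
# Linear algebra for the functional equation (seat 72)

If `p : V × W → K` is a perfect pairing and `f`, `g` are endomorphisms with
`p (f a) (g b) = c * p a b`, then `det g * det f = c ^ dim V` and
`det f • (charpoly g).reverse = (-1) ^ dim V * (charpoly f)(c X)`.
-/

set_option autoImplicit false
set_option maxSynthPendingDepth 3

open Polynomial

namespace Groth.Agent.Lib.Seat72.WeilLin

set_option linter.unusedSectionVars false

variable {K V W : Type*} [Field K] [AddCommGroup V] [Module K V] [AddCommGroup W] [Module K W]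
  [FiniteDimensional K V] [FiniteDimensional K W]

/-- adjoint relation: `e.symm ∘ g^* ∘ e ∘ f = c • id`. -/
theorem adjoint_comp (p : V →ₗ[K] W →ₗ[K] K) [p.IsPerfPair] (f : V →ₗ[K] V) (g : W →ₗ[K] W)
    (c : K) (h : ∀ a b, p (f a) (g b) = c * p a b) :
    (p.toPerfPair.symm.toLinearMap ∘ₗ g.dualMap ∘ₗ p.toPerfPair.toLinearMap) ∘ₗ f =
      c • LinearMap.id := by
  ext a
  simp only [LinearMap.coe_comp, LinearEquiv.coe_coe, Function.comp_apply, LinearMap.smul_apply,
    LinearMap.id_coe, id_eq]
  rw [LinearEquiv.symm_apply_eq]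
  ext b
  simp [h]

theorem det_adjoint (p : V →ₗ[K] W →ₗ[K] K) [p.IsPerfPair] (g : W →ₗ[K] W) :
    LinearMap.det (p.toPerfPair.symm.toLinearMap ∘ₗ g.dualMap ∘ₗ p.toPerfPair.toLinearMap) =
      LinearMap.det g := by
  have := LinearMap.det_conj g.dualMap p.toPerfPair.symm
  simp only [LinearEquiv.symm_symm] at this
  rw [this, LinearMap.det_dualMap]

theorem det_mul_det (p : V →ₗ[K] W →ₗ[K] K) [p.IsPerfPair] (f : V →ₗ[K] V) (g : W →ₗ[K] W)
    (c : K) (h : ∀ a b, p (f a) (g b) = c * p a b) :
    LinearMap.det g * LinearMap.det f = c ^ Module.finrank K V := by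
  have h1 := congrArg LinearMap.det (adjoint_comp p f g c h)
  rw [LinearMap.det_comp, det_adjoint, LinearMap.det_smul, LinearMap.det_id, mul_one] at h1
  exact h1

theorem charpoly_dualMap (g : W →ₗ[K] W) : g.dualMap.charpoly = g.charpoly := by
  classical
  set b := Module.Free.chooseBasis K W
  have : Fintype (Module.Free.ChooseBasisIndex K W) :=
    Module.Free.ChooseBasisIndex.fintype K W
  rw [← LinearMap.charpoly_toMatrix g b, ← LinearMap.charpoly_toMatrix g.dualMap b.dualBasis]
  simp [LinearMap.dualMap_def, LinearMap.toMatrix_transpose, Matrix.charpoly_transpose]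

/-- matrix identity: if `N * M = c • 1` then `det M • charpolyRev N = (-1)^n * (charpoly M)(cX)` -/
theorem matrix_rel {n : Type*} [Fintype n] [DecidableEq n] (M N : Matrix n n K) (c : K)
    (h : N * M = c • (1 : Matrix n n K)) :
    M.det • N.charpolyRev = (-1 : K[X]) ^ Fintype.card n * M.charpoly.comp (C c * X) := by
  have h1 : (1 - (X : K[X]) • N.map C) * M.map C = M.map C - (C c * X) • (1 : Matrix n n K[X]) := by
    rw [sub_mul, one_mul, Matrix.smul_mul]
    have : N.map C * M.map C = (C c) • (1 : Matrix n n K[X]) := by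
      rw [← Matrix.map_mul, h]
      ext i j
      simp [Matrix.map_apply, Matrix.smul_apply, Matrix.one_apply]
      split_ifs <;> simp
    rw [this, smul_smul, mul_comm]
  have h2 := congrArg Matrix.det h1
  rw [Matrix.det_mul] at h2
  have h3 : (M.map C).det = C M.det := by
    rw [← RingHom.mapMatrix_apply, ← RingHom.map_det]
  rw [h3] at h2
  have h4 : M.charpoly.comp (C c * X) = ((C c * X) • (1 : Matrix n n K[X]) - M.map C).det := by
    unfold Matrix.charpoly
    rw [← Polynomial.coe_compRingHom_apply, RingHom.map_det]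
    congr 1
    ext i j
    by_cases hij : i = j
    · subst hij
      simp [Matrix.charmatrix, Matrix.sub_apply, Matrix.smul_apply,
        Matrix.scalar_apply]
    · simp [Matrix.charmatrix, Matrix.sub_apply, Matrix.smul_apply,
        Matrix.scalar_apply, hij]
  rw [h4, ← neg_sub (M.map C), Matrix.det_neg, ← h2, Matrix.charpolyRev, Polynomial.smul_eq_C_mul]
  rw [← mul_assoc, ← pow_two, ← pow_mul, mul_comm (Fintype.card n) 2, pow_mul]
  simp [mul_comm]

theorem charpoly_adjoint (p : V →ₗ[K] W →ₗ[K] K) [p.IsPerfPair] (g : W →ₗ[K] W) :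
    LinearMap.charpoly (p.toPerfPair.symm.toLinearMap ∘ₗ g.dualMap ∘ₗ p.toPerfPair.toLinearMap) =
      LinearMap.charpoly g := by
  have := LinearEquiv.charpoly_conj p.toPerfPair.symm g.dualMap
  rw [charpoly_dualMap] at this
  rw [← this]
  congr 1

theorem charpoly_rel (p : V →ₗ[K] W →ₗ[K] K) [p.IsPerfPair] (f : V →ₗ[K] V) (g : W →ₗ[K] W)
    (c : K) (h : ∀ a b, p (f a) (g b) = c * p a b) :
    LinearMap.det f • (LinearMap.charpoly g).reverse =
      (-1 : K[X]) ^ Module.finrank K V * (LinearMap.charpoly f).comp (C c * X) := by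
  classical
  set b := Module.Free.chooseBasis K V
  have : Fintype (Module.Free.ChooseBasisIndex K V) :=
    Module.Free.ChooseBasisIndex.fintype K V
  set g' := p.toPerfPair.symm.toLinearMap ∘ₗ g.dualMap ∘ₗ p.toPerfPair.toLinearMap with hg'
  have hc : g' ∘ₗ f = c • LinearMap.id := adjoint_comp p f g c h
  have hM : LinearMap.toMatrix b b g' * LinearMap.toMatrix b b f = c • (1 : Matrix _ _ K) := by
    rw [← LinearMap.toMatrix_comp, hc, map_smul, LinearMap.toMatrix_id]
  have := matrix_rel _ _ c hM
  rw [LinearMap.det_toMatrix, ← Matrix.reverse_charpoly, LinearMap.charpoly_toMatrix,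
    LinearMap.charpoly_toMatrix, charpoly_adjoint, ← Module.finrank_eq_card_basis b] at this
  exact this

end Groth.Agent.Lib.Seat72.WeilLin
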