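import Mathlib

/-!
# Seat72: affine Zariski covering systems of inverse systems over cofinite posets

For an inverse system `X : Λᵒᵖ ⥤ Scheme` of quasi-compact quasi-separated schemes over a poset `Λ`
all of whose lower sets `Iic l` are finite, we construct an inverse system `Y` of affine schemes and
a morphism `π : Y ⟶ X` which is levelwise a Zariski covering.

Construction: `Y l = ∐_{t} t_l` where `t` runs over the *good tuples* `(t_m)_{m ≤ l}` of affine opens
`t_m ⊆ X_m`, i.e. those with `t_m` in a fixed finite affine cover `refine m W` of the quasi-compact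
open `W = ⋂_{n < m} (X_m → X_n)⁻¹ t_n`.
-/

set_option autoImplicit false
set_option maxSynthPendingDepth 3
set_option linter.style.haveILetI false
set_option linter.unusedSectionVars false

universe u v

open CategoryTheory AlgebraicGeometry TopologicalSpace Opposite Limits

namespace Groth.Agent.Lib.Seat72.ZarCov

variable {Λ : Type v} [PartialOrder Λ] (X : Λᵒᵖ ⥤ Scheme.{u})

/-- transition maps of the inverse system -/
noncomputable abbrev tr {l m : Λ} (h : m ≤ l) : X.obj (op l) ⟶ X.obj (op m) :=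
  X.map (homOfLE h).op

lemma tr_refl (l : Λ) : tr X (le_refl l) = 𝟙 _ := by
  have : (homOfLE (le_refl l)).op = 𝟙 (op l) := rfl
  rw [tr, this, X.map_id]

lemma tr_trans {l m n : Λ} (h : m ≤ l) (h' : n ≤ m) : tr X h ≫ tr X h' = tr X (h'.trans h) := by
  rw [tr, tr, ← X.map_comp]
  rfl

lemma map_eq_tr {l m : Λᵒᵖ} (f : l ⟶ m) : X.map f = tr X (leOfHom f.unop) := by
  have : f = (homOfLE (leOfHom f.unop)).op := Quiver.Hom.unop_inj (Subsingleton.elim _ _)
  rw [tr, ← this]

open scoped Classical in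
/-- a chosen finite affine cover of a quasi-compact open (empty for other opens) -/
noncomputable def refine (l : Λ) (W : (X.obj (op l)).Opens) : Set (X.obj (op l)).affineOpens :=
  if h : IsCompact (W : Set (X.obj (op l))) then
    (isCompact_iff_finite_and_eq_biUnion_affineOpens.mp h).choose
  else ∅

lemma refine_finite (l : Λ) (W : (X.obj (op l)).Opens) : (refine X l W).Finite := by
  unfold refine
  split_ifs with h
  · exact (isCompact_iff_finite_and_eq_biUnion_affineOpens.mp h).choose_spec.1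
  · exact Set.finite_empty

lemma refine_le (l : Λ) (W : (X.obj (op l)).Opens) (V : (X.obj (op l)).affineOpens)
    (hV : V ∈ refine X l W) : (V : (X.obj (op l)).Opens) ≤ W := by
  unfold refine at hV
  split_ifs at hV with h
  · have := (isCompact_iff_finite_and_eq_biUnion_affineOpens.mp h).choose_spec.2
    rw [this]
    exact le_iSup₂ (f := fun (i : (X.obj (op l)).affineOpens) _ => (i : (X.obj (op l)).Opens)) V hV
  · exact (Set.notMem_empty _ hV).elim

lemma exists_mem_refine (l : Λ) (W : (X.obj (op l)).Opens)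
    (hW : IsCompact (W : Set (X.obj (op l)))) (x : X.obj (op l)) (hx : x ∈ W) :
    ∃ V ∈ refine X l W, x ∈ (V : (X.obj (op l)).Opens) := by
  have h2 := (isCompact_iff_finite_and_eq_biUnion_affineOpens.mp hW).choose_spec.2
  have : refine X l W = (isCompact_iff_finite_and_eq_biUnion_affineOpens.mp hW).choose := by
    unfold refine; rw [dif_pos hW]
  rw [this]
  rw [h2] at hx
  simpa [Opens.mem_iSup] using hx


/-- tuples of affine opens indexed by the lower set of `l` -/
abbrev Tup (l : Λ) := ∀ m : Set.Iic l, (X.obj (op m.1)).affineOpens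

variable {X}

/-- the open of `X_m` cut out by the lower entries of a tuple -/
noncomputable def Wt {l : Λ} (t : Tup X l) (m : Set.Iic l) : (X.obj (op m.1)).Opens :=
  ⨅ n : Set.Iio m.1, (tr X (le_of_lt n.2)) ⁻¹ᵁ
    (t ⟨n.1, le_trans (le_of_lt n.2) m.2⟩ : (X.obj (op n.1)).Opens)

/-- good tuples: every entry is in the chosen cover of the open cut out by the lower entries -/
def Good {l : Λ} (t : Tup X l) : Prop := ∀ m : Set.Iic l, t m ∈ refine X m.1 (Wt t m)

variable (X)

/-- the index set of the components of `Y l` -/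
def Idx (l : Λ) := {t : Tup X l // Good t}

variable {X}

/-- restriction of good tuples -/
def res {l m : Λ} (h : m ≤ l) (t : Idx X l) : Idx X m :=
  ⟨fun n => t.1 ⟨n.1, le_trans n.2 h⟩, fun n => t.2 ⟨n.1, le_trans n.2 h⟩⟩

/-- the top entry of a good tuple -/
def top {l : Λ} (t : Idx X l) : (X.obj (op l)).affineOpens := t.1 ⟨l, le_refl l⟩

lemma res_res {l m n : Λ} (h : m ≤ l) (h' : n ≤ m) (t : Idx X l) :
    res h' (res h t) = res (h'.trans h) t := rfl

lemma res_refl {l : Λ} (t : Idx X l) : res (le_refl l) t = t := rfl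

lemma top_res {l m : Λ} (h : m ≤ l) (t : Idx X l) : top (res h t) = t.1 ⟨m, h⟩ := rfl

lemma top_le_preimage {l m : Λ} (h : m ≤ l) (t : Idx X l) :
    ((top t : (X.obj (op l)).affineOpens) : (X.obj (op l)).Opens) ≤
      (tr X h) ⁻¹ᵁ ((top (res h t) : (X.obj (op m)).affineOpens) : (X.obj (op m)).Opens) := by
  rcases eq_or_lt_of_le h with rfl | hlt
  · rw [tr_refl]
    exact le_of_eq rfl
  · refine (refine_le X l _ _ (t.2 ⟨l, le_refl l⟩)).trans ?_
    exact iInf_le (fun n : Set.Iio l => (tr X (le_of_lt n.2)) ⁻¹ᵁ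
      (t.1 ⟨n.1, le_trans (le_of_lt n.2) (le_refl l)⟩ : (X.obj (op n.1)).Opens)) ⟨m, hlt⟩

/-- the transition maps between the components -/
noncomputable def rho {l m : Λ} (h : m ≤ l) (t : Idx X l) :
    ((top t).1 : Scheme.{u}) ⟶ ((top (res h t)).1 : Scheme.{u}) :=
  IsOpenImmersion.lift (top (res h t)).1.ι ((top t).1.ι ≫ tr X h) (by
    rw [Scheme.Opens.range_ι]
    rintro _ ⟨x, rfl⟩
    have hx : (top t).1.ι x ∈ (top t).1 := by
      rw [Scheme.Opens.ι_apply]; exact x.2
    exact top_le_preimage h t hx)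

@[reassoc (attr := simp)]
lemma rho_ι {l m : Λ} (h : m ≤ l) (t : Idx X l) :
    rho h t ≫ (top (res h t)).1.ι = (top t).1.ι ≫ tr X h :=
  IsOpenImmersion.lift_fac _ _ _

lemma rho_refl {l : Λ} (t : Idx X l) : rho (le_refl l) t = 𝟙 _ := by
  rw [← cancel_mono (top (res (le_refl l) t)).1.ι, rho_ι, tr_refl]
  simp
  rfl

lemma rho_comp {l m n : Λ} (h : m ≤ l) (h' : n ≤ m) (t : Idx X l) :
    rho h t ≫ rho h' (res h t) = rho (h'.trans h) t := by
  have key : (rho h t ≫ rho h' (res h t)) ≫ (top (res (h'.trans h) t)).1.ι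
      = rho (h'.trans h) t ≫ (top (res (h'.trans h) t)).1.ι := by
    rw [rho_ι, Category.assoc]
    have h1 : rho h' (res h t) ≫ (top (res (h'.trans h) t)).1.ι
        = (top (res h t)).1.ι ≫ tr X h' := rho_ι h' (res h t)
    rw [h1, rho_ι_assoc, tr_trans]
  exact (cancel_mono (top (res (h'.trans h) t)).1.ι).mp key

section Fin

variable [hΛ : Fact (∀ l : Λ, (Set.Iic l).Finite)]

instance finite_Iic (l : Λ) : Finite (Set.Iic l) := (hΛ.out l).to_subtype

instance finite_Iio (l : Λ) : Finite (Set.Iio l) :=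
  ((hΛ.out l).subset Set.Iio_subset_Iic_self).to_subtype

include hΛ in
lemma wf_lt : WellFounded ((· < ·) : Λ → Λ → Prop) :=
  Subrelation.wf (r := InvImage (· < ·) (fun l : Λ => (Set.Iic l).ncard))
    (fun {_ b} h => Set.ncard_lt_ncard (Set.Iic_ssubset_Iic.mpr h) (hΛ.out b))
    (InvImage.wf _ wellFounded_lt)

/-- the open cut out by a family of lower good tuples -/
noncomputable def Wp (l : Λ) (p : ∀ n : Set.Iio l, Idx X n.1) : (X.obj (op l)).Opens :=
  ⨅ n : Set.Iio l, (tr X (le_of_lt n.2)) ⁻¹ᵁ ((top (p n)).1)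

/-- auxiliary injection used to prove finiteness of `Idx` -/
def Phi (l : Λ) (t : Idx X l) :
    Σ p : (∀ n : Set.Iio l, Idx X n.1), ↥(refine X l (Wp l p)) :=
  ⟨fun n => res (le_of_lt n.2) t, ⟨top t, t.2 ⟨l, le_refl l⟩⟩⟩

lemma Phi_injective (l : Λ) : Function.Injective (Phi (X := X) l) := by
  intro t t' h
  have h1 : (fun n : Set.Iio l => res (le_of_lt n.2) t) =
      (fun n : Set.Iio l => res (le_of_lt n.2) t') := congrArg Sigma.fst h
  have h2 : top t = top t' := by
    have := congrArg (fun z : (Σ p : (∀ n : Set.Iio l, Idx X n.1), ↥(refine X l (Wp l p))) =>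
      (z.2.1 : (X.obj (op l)).affineOpens)) h
    exact this
  apply Subtype.ext
  funext m
  obtain ⟨m, hm⟩ := m
  rcases eq_or_lt_of_le hm with rfl | hlt
  · exact h2
  · have := congrFun h1 ⟨m, hlt⟩
    exact congrArg (fun s : Idx X m => s.1 ⟨m, le_refl m⟩) this

instance finite_idx (l : Λ) : Finite (Idx X l) := by
  induction l using (wf_lt (Λ := Λ)).induction with
  | _ l ih =>
    haveI : ∀ n : Set.Iio l, Finite (Idx X n.1) := fun n => ih n.1 n.2
    haveI : ∀ p : (∀ n : Set.Iio l, Idx X n.1), Finite ↥(refine X l (Wp l p)) :=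
      fun p => (refine_finite X l _).to_subtype
    exact Finite.of_injective _ (Phi_injective l)

variable (X)

/-- the components of `Y l` -/
abbrev comp (l : Λ) (t : Idx X l) : Scheme.{u} := ((top t).1 : Scheme.{u})

instance comp_isAffine (l : Λ) (t : Idx X l) : IsAffine (comp X l t) := (top t).2

/-- the objects of the covering system -/
noncomputable abbrev Yobj (l : Λ) : Scheme.{u} := ∐ comp X l

instance Yobj_isAffine (l : Λ) : IsAffine (Yobj X l) := by
  infer_instance

/-- the transition maps of the covering system -/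
noncomputable def Ymap {l m : Λ} (h : m ≤ l) : Yobj X l ⟶ Yobj X m :=
  Sigma.desc fun t => rho h t ≫ Sigma.ι (comp X m) (res h t)

@[reassoc (attr := simp)]
lemma ι_Ymap {l m : Λ} (h : m ≤ l) (t : Idx X l) :
    Sigma.ι (comp X l) t ≫ Ymap X h = rho h t ≫ Sigma.ι (comp X m) (res h t) :=
  Sigma.ι_desc _ _

lemma Ymap_refl (l : Λ) : Ymap X (le_refl l) = 𝟙 _ := by
  apply Sigma.hom_ext
  intro t
  rw [ι_Ymap, rho_refl]
  show 𝟙 _ ≫ Sigma.ι (comp X l) t = Sigma.ι (comp X l) t ≫ 𝟙 _
  simp

lemma Ymap_comp {l m n : Λ} (h : m ≤ l) (h' : n ≤ m) :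
    Ymap X h ≫ Ymap X h' = Ymap X (h'.trans h) := by
  apply Sigma.hom_ext
  intro t
  rw [ι_Ymap_assoc, ι_Ymap, ι_Ymap, ← rho_comp h h' t]
  exact (Category.assoc _ _ _).symm

/-- the covering system -/
noncomputable def Y : Λᵒᵖ ⥤ Scheme.{u} where
  obj l := Yobj X l.unop
  map f := Ymap X (leOfHom f.unop)
  map_id l := Ymap_refl X l.unop
  map_comp f g := (Ymap_comp X (leOfHom f.unop) (leOfHom g.unop)).symm

/-- the components of the covering morphism -/
noncomputable def piApp (l : Λ) : Yobj X l ⟶ X.obj (op l) :=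
  Sigma.desc fun t => (top t).1.ι

@[reassoc (attr := simp)]
lemma ι_piApp (l : Λ) (t : Idx X l) : Sigma.ι (comp X l) t ≫ piApp X l = (top t).1.ι :=
  Sigma.ι_desc _ _

lemma piApp_natural {l m : Λ} (h : m ≤ l) : Ymap X h ≫ piApp X m = piApp X l ≫ tr X h := by
  apply Sigma.hom_ext
  intro t
  rw [ι_Ymap_assoc, ι_piApp, ι_piApp_assoc, rho_ι]

/-- the covering morphism -/
noncomputable def π : Y X ⟶ X where
  app l := piApp X l.unop
  naturality l m f := by
    rw [map_eq_tr]
    exact piApp_natural X (leOfHom f.unop)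

section Cover

variable {X}
variable [∀ l : Λ, CompactSpace ↥(X.obj (op l))] [∀ l : Λ, QuasiSeparatedSpace ↥(X.obj (op l))]

omit hΛ in
lemma isCompact_iInf_of_finite {Z : Scheme.{u}} [CompactSpace Z] [QuasiSeparatedSpace Z]
    {ι : Type*} [Finite ι] (U : ι → Z.Opens) (hU : ∀ i, IsCompact (U i : Set Z)) :
    IsCompact ((⨅ i, U i : Z.Opens) : Set Z) := by
  classical
  cases nonempty_fintype ι
  rw [Opens.coe_iInf]
  have : ∀ s : Finset ι, IsCompact (⋂ i ∈ s, (U i : Set Z)) ∧ IsOpen (⋂ i ∈ s, (U i : Set Z)) := by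
    intro s
    induction s using Finset.induction_on with
    | empty => simp [isCompact_univ]
    | insert a s ha ih =>
      rw [Finset.set_biInter_insert]
      exact ⟨QuasiSeparatedSpace.inter_isCompact _ _ (U a).2 (hU a) ih.2 ih.1, (U a).2.inter ih.2⟩
  simpa using (this Finset.univ).1

lemma isCompact_Wt {l : Λ} (t : Tup X l) (m : Set.Iic l) :
    IsCompact (Wt t m : Set (X.obj (op m.1))) := by
  unfold Wt
  apply isCompact_iInf_of_finite
  intro n
  exact Scheme.Hom.isCompact_preimage (f := tr X (le_of_lt n.2))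
    (t ⟨n.1, le_trans (le_of_lt n.2) m.2⟩).2.isCompact

variable {l : Λ} (x : X.obj (op l))

open scoped Classical in
/-- a good tuple whose entries contain the images of `x` -/
noncomputable def pick : Tup X l :=
  (wellFounded_lt (α := Set.Iic l)).fix (C := fun m => (X.obj (op m.1)).affineOpens)
    (fun m rec =>
      if h : ∃ V ∈ refine X m.1 (⨅ n : Set.Iio m.1, (tr X (le_of_lt n.2)) ⁻¹ᵁ
          ((rec ⟨n.1, le_trans (le_of_lt n.2) m.2⟩ n.2 : (X.obj (op n.1)).affineOpens) :
            (X.obj (op n.1)).Opens)),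
          (tr X m.2) x ∈ (V : (X.obj (op m.1)).Opens)
      then h.choose else ⟨⊥, isAffineOpen_bot _⟩)

open scoped Classical in
lemma pick_eq (m : Set.Iic l) : pick x m =
    if h : ∃ V ∈ refine X m.1 (Wt (pick x) m), (tr X m.2) x ∈ (V : (X.obj (op m.1)).Opens)
    then h.choose else ⟨⊥, isAffineOpen_bot _⟩ := by
  unfold pick
  rw [WellFounded.fix_eq]
  rfl

lemma pick_spec (m : Set.Iic l) :
    (tr X m.2) x ∈ ((pick x m : (X.obj (op m.1)).affineOpens) : (X.obj (op m.1)).Opens) ∧
      pick x m ∈ refine X m.1 (Wt (pick x) m) := by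
  induction m using (wellFounded_lt (α := Set.Iic l)).induction with
  | _ m ih =>
    have hW : (tr X m.2) x ∈ Wt (pick x) m := by
      unfold Wt
      rw [← SetLike.mem_coe, Opens.coe_iInf, Set.mem_iInter]
      intro n
      have h1 := (ih ⟨n.1, le_trans (le_of_lt n.2) m.2⟩ n.2).1
      have h2 : (tr X (le_of_lt n.2)) ((tr X m.2) x) = (tr X (le_trans (le_of_lt n.2) m.2)) x := by
        rw [← tr_trans X m.2 (le_of_lt n.2)]
        rfl
      show (tr X (le_of_lt n.2)) ((tr X m.2) x) ∈
        ((pick x ⟨n.1, le_trans (le_of_lt n.2) m.2⟩ : (X.obj (op n.1)).affineOpens) :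
          (X.obj (op n.1)).Opens)
      rw [h2]
      exact h1
    obtain ⟨V, hV, hxV⟩ := exists_mem_refine X m.1 _ (isCompact_Wt _ m) _ hW
    have h : ∃ V ∈ refine X m.1 (Wt (pick x) m),
        (tr X m.2) x ∈ (V : (X.obj (op m.1)).Opens) := ⟨V, hV, hxV⟩
    rw [pick_eq, dif_pos h]
    exact ⟨h.choose_spec.2, h.choose_spec.1⟩

lemma pick_good : Good (pick x) := fun m => (pick_spec x m).2

lemma exists_idx : ∃ t : Idx X l, x ∈ ((top t : (X.obj (op l)).affineOpens) : (X.obj (op l)).Opens) := by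
  refine ⟨⟨pick x, pick_good x⟩, ?_⟩
  have := (pick_spec x ⟨l, le_refl l⟩).1
  rw [tr_refl] at this
  exact this

end Cover

end Fin

instance isOpenImmersion_sigmaι {σ : Type v} [Small.{u} σ] (g : σ → Scheme.{u}) (i : σ) :
    IsOpenImmersion (Sigma.ι g i) :=
  (sigmaOpenCover g).map_prop i

theorem main (hΛ : ∀ l : Λ, (Set.Iic l).Finite)
    (hqc : ∀ l : Λ, CompactSpace ↥(X.obj (Opposite.op l)))
    (hqs : ∀ l : Λ, QuasiSeparatedSpace ↥(X.obj (Opposite.op l))) :
    ∃ (Y : Λᵒᵖ ⥤ Scheme.{u}) (π : Y ⟶ X), ∀ l : Λ,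
      IsAffine (Y.obj (Opposite.op l)) ∧ Surjective (π.app (Opposite.op l)) ∧
        ∃ (ι : Type u) (U : ι → (Y.obj (Opposite.op l)).Opens),
          Pairwise (fun i j => Disjoint (U i) (U j)) ∧ iSup U = ⊤ ∧
            ∀ i, IsOpenImmersion ((U i).ι ≫ π.app (Opposite.op l)) := by
  haveI : Fact (∀ l : Λ, (Set.Iic l).Finite) := ⟨hΛ⟩
  refine ⟨Y X, π X, fun l => ⟨Yobj_isAffine X l, ?_, ?_⟩⟩
  · refine ⟨fun x => ?_⟩
    obtain ⟨t, hx⟩ := exists_idx x
    refine ⟨(Sigma.ι (comp X l) t) ⟨x, hx⟩, ?_⟩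
    show (piApp X l) ((Sigma.ι (comp X l) t) ⟨x, hx⟩) = x
    rw [← Scheme.Hom.comp_apply, ι_piApp]
    rfl
  · refine ⟨Shrink.{u} (Idx X l),
      fun i => (Sigma.ι (comp X l) ((equivShrink.{u} (Idx X l)).symm i)).opensRange, ?_, ?_, ?_⟩
    · intro i j hij
      exact disjoint_opensRange_sigmaι (comp X l) _ _
        (fun h => hij ((equivShrink.{u} (Idx X l)).symm.injective h))
    · have h1 : ⨆ t, (Sigma.ι (comp X l) t).opensRange = ⊤ :=
        (sigmaOpenCover (comp X l)).iSup_opensRange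
      exact ((equivShrink.{u} (Idx X l)).symm.surjective.iSup_comp
        (fun t => (Sigma.ι (comp X l) t).opensRange)).trans h1
    · intro i
      set t := (equivShrink.{u} (Idx X l)).symm i
      have h1 : (Sigma.ι (comp X l) t).opensRange.ι =
          (Sigma.ι (comp X l) t).isoOpensRange.inv ≫ Sigma.ι (comp X l) t := by
        rw [Iso.eq_inv_comp]
        simp
      show IsOpenImmersion ((Sigma.ι (comp X l) t).opensRange.ι ≫ piApp X l)
      rw [h1, Category.assoc, ι_piApp]
      infer_instance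

end Groth.Agent.Lib.Seat72.ZarCov
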