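import Mathlib
import Groth.Agent.Lib.Helper14FTDimB

/-!
# Seat72: a bound for the number of points of a finite type algebra of dimension `≤ r` in finite
fields

`card_algHom_le`: for a finite type `k`-algebra `A` with `dim A ≤ r` there is `N` with
`#Hom_k(A, k') ≤ N · (#k')^r` for all finite fields `k'` over `k` (Noether normalization).
-/

set_option autoImplicit false
set_option maxSynthPendingDepth 3
set_option linter.style.haveILetI false
set_option linter.unusedSectionVars false

universe u

namespace Groth.Agent.Lib.Seat72.ZetaBoundA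

open Polynomial

theorem card_algHom_le (k : Type u) [Field k] (A : Type u) [CommRing A] [Algebra k A]
    [Algebra.FiniteType k A] (r : ℕ) (hr : ringKrullDim A ≤ r) :
    ∃ N : ℕ, ∀ (k' : Type u) [Field k'] [Algebra k k'] [Finite k'],
      Nat.card (A →ₐ[k] k') ≤ N * Nat.card k' ^ r := by
  classical
  by_cases hnt : Nontrivial A
  swap
  · rw [not_nontrivial_iff_subsingleton] at hnt
    refine ⟨0, fun k' _ _ _ => ?_⟩
    haveI : IsEmpty (A →ₐ[k] k') := ⟨fun ψ => by
      have h1 : ψ 1 = ψ 0 := congrArg ψ (Subsingleton.elim _ _)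
      rw [map_one, map_zero] at h1
      exact one_ne_zero h1⟩
    simp
  obtain ⟨s, g, hinj, hint⟩ := exists_integral_inj_algHom_of_fg k A
  -- `g` is finite
  have hfin : g.toRingHom.Finite := by
    refine RingHom.IsIntegral.to_finite hint ?_
    letI : Algebra (MvPolynomial (Fin s) k) A := g.toRingHom.toAlgebra
    haveI : IsScalarTower k (MvPolynomial (Fin s) k) A :=
      IsScalarTower.of_algebraMap_eq fun c => (g.commutes c).symm
    exact (Algebra.FiniteType.of_restrictScalars_finiteType k (MvPolynomial (Fin s) k) A :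
      Algebra.FiniteType (MvPolynomial (Fin s) k) A)
  have hdim : ringKrullDim A = ((Fintype.card (Fin s) : ℕ) : WithBot ℕ∞) :=
    Groth.Agent.Lib.Helper14.FTDim.ringKrullDim_of_finite_injective g hinj hfin
  have hsr : s ≤ r := by
    rw [hdim, Fintype.card_fin] at hr
    exact_mod_cast hr
  obtain ⟨S, hS⟩ := (inferInstance : Algebra.FiniteType k A).out
  have hex : ∀ a : A, ∃ p : (MvPolynomial (Fin s) k)[X], p.Monic ∧ p.eval₂ g.toRingHom a = 0 :=
    fun a => hint a
  choose p hpm hpr using hex
  refine ⟨∏ a : S, (p a.1).natDegree, fun k' _ _ _ => ?_⟩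
  haveI := Fintype.ofFinite k'
  let P : (Fin s → k') → S → k'[X] := fun v a =>
    (p a.1).map (MvPolynomial.aeval v : MvPolynomial (Fin s) k →ₐ[k] k').toRingHom
  have hPm : ∀ v a, (P v a).Monic := fun v a => (hpm a.1).map _
  let T : Type u := Σ v : (Fin s → k'), ∀ a : S, ↥((P v a).roots.toFinset)
  have hroot : ∀ (ψ : A →ₐ[k] k') (a : S),
      ψ a.1 ∈ (P (fun j => ψ (g (MvPolynomial.X j))) a).roots.toFinset := by
    intro ψ a
    rw [Multiset.mem_toFinset, mem_roots (hPm _ a).ne_zero, IsRoot.def]
    have hcomp : (MvPolynomial.aeval (fun j => ψ (g (MvPolynomial.X j))) :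
        MvPolynomial (Fin s) k →ₐ[k] k') = ψ.comp g := by
      apply MvPolynomial.algHom_ext
      intro j
      simp
    change eval (ψ a.1) ((p a.1).map _) = 0
    rw [eval_map, hcomp]
    have := Polynomial.hom_eval₂ (p a.1) g.toRingHom ψ.toRingHom a.1
    rw [hpr a.1, map_zero] at this
    exact this.symm
  let Φ : (A →ₐ[k] k') → T := fun ψ =>
    ⟨fun j => ψ (g (MvPolynomial.X j)), fun a => ⟨ψ a.1, hroot ψ a⟩⟩
  have hΦ : Function.Injective Φ := by
    intro ψ ψ' h
    have h2 := congrArg (fun t : T => fun a : S => ((t.2 a).1 : k')) h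
    apply AlgHom.ext_of_adjoin_eq_top hS
    intro a ha
    exact congrFun h2 ⟨a, ha⟩
  have hcardT : Fintype.card T ≤ (∏ a : S, (p a.1).natDegree) * Nat.card k' ^ r := by
    rw [Fintype.card_sigma]
    have h1 : ∀ v : Fin s → k', Fintype.card (∀ a : S, ↥((P v a).roots.toFinset)) ≤
        ∏ a : S, (p a.1).natDegree := by
      intro v
      rw [Fintype.card_pi]
      refine Finset.prod_le_prod' fun a _ => ?_
      rw [Fintype.card_coe]
      refine (Multiset.toFinset_card_le _).trans ((Polynomial.card_roots' _).trans ?_)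
      exact (Polynomial.natDegree_map_le).trans le_rfl
    refine (Finset.sum_le_sum fun v _ => h1 v).trans ?_
    rw [Finset.sum_const, smul_eq_mul, Finset.card_univ, Fintype.card_fun, Fintype.card_fin,
      mul_comm, Nat.card_eq_fintype_card]
    refine Nat.mul_le_mul_left _ (Nat.pow_le_pow_right Fintype.card_pos hsr)
  calc Nat.card (A →ₐ[k] k') ≤ Nat.card T := Nat.card_le_card_of_injective Φ hΦ
    _ = Fintype.card T := Nat.card_eq_fintype_card
    _ ≤ _ := hcardT

end Groth.Agent.Lib.Seat72.ZetaBoundA
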