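import Mathlib
import Groth.Agent.Lib.Seat72ZetaBoundA
import Groth.Agent.Lib.Seat72ZetaGenB

/-!
# Seat72: the bound `#X(k') ≤ c · (#k')^r` for a scheme of finite type and dimension `≤ r` over a
finite field
-/

set_option autoImplicit false
set_option maxSynthPendingDepth 3
set_option linter.style.haveILetI false
set_option linter.unusedSectionVars false

universe u

open AlgebraicGeometry CategoryTheory CategoryTheory.Limits

namespace Groth.Agent.Lib.Seat72.ZetaBoundB

open Groth.Agent.Lib.Seat72.ZetaGenA Groth.Agent.Lib.Seat72.ZetaGenB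
  Groth.Agent.Lib.Helper10.GaloisOrbit

section Affine

variable {k : Type u} [Field k] {Y : Scheme.{u}} [IsAffine Y] (g : Y ⟶ Spec (CommRingCat.of k))

/-- the structure map `k → Γ(Y, ⊤)`. -/
noncomputable def strHom : k →+* Γ(Y, ⊤) :=
  ((Scheme.ΓSpecIso (CommRingCat.of k)).inv ≫ g.appTop).hom

variable (k' : Type u) [Field k'] [Algebra k k']

/-- a point gives a `k`-algebra map on global sections. -/
noncomputable def ptsToAlgHom (h : Pts g k') :
    letI : Algebra k Γ(Y, ⊤) := (strHom g).toAlgebra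
    Γ(Y, ⊤) →ₐ[k] k' :=
  letI : Algebra k Γ(Y, ⊤) := (strHom g).toAlgebra
  { (h.1.appTop ≫ (Scheme.ΓSpecIso (CommRingCat.of k')).hom).hom with
    commutes' := fun c => by
      have h1 : g.appTop ≫ h.1.appTop =
          (Spec.map (CommRingCat.ofHom (algebraMap k k'))).appTop := by
        rw [← Scheme.Hom.comp_appTop, h.2]
      have h2 : ((Scheme.ΓSpecIso (CommRingCat.of k)).inv ≫ g.appTop) ≫
          (h.1.appTop ≫ (Scheme.ΓSpecIso (CommRingCat.of k')).hom) =
          CommRingCat.ofHom (algebraMap k k') := by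
        rw [Category.assoc, ← Category.assoc g.appTop, h1, Scheme.ΓSpecIso_naturality,
          Iso.inv_hom_id_assoc]
      exact congrArg (fun φ : CommRingCat.of k ⟶ CommRingCat.of k' => φ.hom c) h2 }

theorem ptsToAlgHom_injective :
    letI : Algebra k Γ(Y, ⊤) := (strHom g).toAlgebra
    Function.Injective (ptsToAlgHom g k') := by
  letI : Algebra k Γ(Y, ⊤) := (strHom g).toAlgebra
  intro h h' e
  apply Subtype.ext
  apply ext_of_isAffine
  rw [← cancel_mono (Scheme.ΓSpecIso (CommRingCat.of k')).hom]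
  ext s
  exact DFunLike.congr_fun e s

variable [LocallyOfFiniteType g]

theorem finiteType_strHom : (strHom g).FiniteType := by
  have h1 : g.appTop.hom.FiniteType :=
    HasRingHomProperty.appTop @LocallyOfFiniteType g (inferInstance : LocallyOfFiniteType g)
  have h2 : (Scheme.ΓSpecIso (CommRingCat.of k)).inv.hom.FiniteType :=
    RingHom.FiniteType.of_surjective _
      (Scheme.ΓSpecIso (CommRingCat.of k)).commRingCatIsoToRingEquiv.symm.surjective
  exact h1.comp h2

theorem pointCount_affine_le (r : ℕ) (hr : topologicalKrullDim Y ≤ r) :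
    ∃ N : ℕ, ∀ (k' : Type u) [Field k'] [Algebra k k'] [Finite k'],
      SgaExt.pointCount g k' ≤ N * Nat.card k' ^ r := by
  letI : Algebra k Γ(Y, ⊤) := (strHom g).toAlgebra
  haveI : Algebra.FiniteType k Γ(Y, ⊤) := finiteType_strHom g
  have hdim : ringKrullDim Γ(Y, ⊤) ≤ r := by
    rw [← PrimeSpectrum.topologicalKrullDim_eq_ringKrullDim]
    have := IsHomeomorph.topologicalKrullDim_eq _ (Scheme.homeoOfIso Y.isoSpec).isHomeomorph
    change topologicalKrullDim Y = topologicalKrullDim (PrimeSpectrum Γ(Y, ⊤)) at this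
    rw [← this]
    exact hr
  obtain ⟨N, hN⟩ := Groth.Agent.Lib.Seat72.ZetaBoundA.card_algHom_le k Γ(Y, ⊤) r hdim
  refine ⟨N, fun k' _ _ _ => ?_⟩
  haveI : Finite (Γ(Y, ⊤) →ₐ[k] k') := by
    by_cases hL : Finite Γ(Y, ⊤)
    · exact Finite.of_injective (fun ψ : Γ(Y, ⊤) →ₐ[k] k' => (ψ : Γ(Y, ⊤) → k'))
        DFunLike.coe_injective
    · -- finitely many maps: determined by the values on finitely many generators
      obtain ⟨S, hS⟩ := (inferInstance : Algebra.FiniteType k Γ(Y, ⊤)).out
      exact Finite.of_injective (fun ψ : Γ(Y, ⊤) →ₐ[k] k' => fun a : S => ψ a.1)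
        (fun ψ ψ' e => AlgHom.ext_of_adjoin_eq_top hS fun a ha => congrFun e ⟨a, ha⟩)
  rw [pointCount_eq_card_pts]
  exact (Nat.card_le_card_of_injective _ (ptsToAlgHom_injective g k')).trans (hN k')

end Affine

section General

variable {k : Type u} [Field k] [Finite k] {X : Scheme.{u}} (f : X ⟶ Spec (CommRingCat.of k))
  [LocallyOfFiniteType f] [QuasiCompact f]

/-- every point factors through an open containing its image. -/
theorem exists_lift_pts (k' : Type u) [Field k'] [Algebra k k'] (U : X.Opens) (a : Pts f k')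
    (ha : a.pt ∈ U) : ∃ b : Pts (U.ι ≫ f) k', b.1 ≫ U.ι = a.1 := by
  have hrange : Set.range a.1 ⊆ Set.range U.ι := by
    rw [range_eq_singleton, Set.singleton_subset_iff, Scheme.Opens.range_ι]
    exact ha
  refine ⟨⟨IsOpenImmersion.lift U.ι a.1 hrange, ?_⟩, IsOpenImmersion.lift_fac U.ι a.1 hrange⟩
  rw [← Category.assoc, IsOpenImmersion.lift_fac]
  exact a.2

theorem pointCount_le (r : ℕ) (hr : topologicalKrullDim X ≤ r) :
    ∃ c : ℕ, ∀ (k' : Type u) [Field k'] [Algebra k k'] [Finite k'],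
      SgaExt.pointCount f k' ≤ c * Nat.card k ^ (r * Module.finrank k k') := by
  classical
  haveI : CompactSpace X := QuasiCompact.compactSpace_of_compactSpace f
  have hex : ∀ x : X, ∃ U : X.Opens, IsAffineOpen U ∧ x ∈ U := fun x => by
    obtain ⟨U, hU, hxU, -⟩ := exists_isAffineOpen_mem_and_subset (U := ⊤) (x := x) trivial
    exact ⟨U, hU, hxU⟩
  choose U hU hxU using hex
  obtain ⟨t, ht⟩ := isCompact_univ.elim_nhds_subcover (fun x => (U x : Set X))
    (fun x _ => (U x).isOpen.mem_nhds (hxU x))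
  have hN : ∀ y : X, ∃ N : ℕ, ∀ (k' : Type u) [Field k'] [Algebra k k'] [Finite k'],
      SgaExt.pointCount ((U y).ι ≫ f) k' ≤ N * Nat.card k' ^ r := by
    intro y
    haveI : IsAffine (U y) := hU y
    refine pointCount_affine_le ((U y).ι ≫ f) r (le_trans ?_ hr)
    exact Topology.IsInducing.topologicalKrullDim_le (U y).ι.isOpenEmbedding.isInducing
  choose N hN using hN
  refine ⟨∑ y ∈ t, N y, fun k' _ _ _ => ?_⟩
  have hcard : Nat.card k' ^ r = Nat.card k ^ (r * Module.finrank k k') := by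
    rw [Module.natCard_eq_pow_finrank (K := k) (V := k'), ← pow_mul, mul_comm]
  rw [← hcard, Finset.sum_mul]
  -- surjection from the points of the pieces
  haveI : ∀ y : t, Finite (Pts ((U y.1).ι ≫ f) k') := fun y => by
    haveI : IsAffine (U y.1) := hU y.1
    infer_instance
  let Ψ : (Σ y : t, Pts ((U y.1).ι ≫ f) k') → Pts f k' := fun p =>
    ⟨p.2.1 ≫ (U p.1.1).ι, by rw [Category.assoc]; exact p.2.2⟩
  have hΨ : Function.Surjective Ψ := by
    intro a
    obtain ⟨y, hyt, hay⟩ := Set.mem_iUnion₂.mp (ht.2 (Set.mem_univ a.pt))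
    obtain ⟨b, hb⟩ := exists_lift_pts f k' (U y) a hay
    exact ⟨⟨⟨y, hyt⟩, b⟩, Subtype.ext hb⟩
  rw [pointCount_eq_card_pts]
  refine (Nat.card_le_card_of_surjective Ψ hΨ).trans ?_
  rw [Nat.card_sigma, ← Finset.sum_coe_sort t (fun y => N y * Nat.card k' ^ r)]
  refine Finset.sum_le_sum fun y _ => ?_
  have := hN y.1 k'
  rwa [pointCount_eq_card_pts] at this

end General

end Groth.Agent.Lib.Seat72.ZetaBoundB
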