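import Mathlib

/-!
# Seat72: counting effective cycles by degree

For a type `P` of points with degrees `d : P → ℕ` (finitely many points of each nonzero degree),
`cnt d m` is the number of effective cycles (finitely supported `ℕ`-valued functions supported on
points of nonzero degree) of degree `m`, and `npt d j = ∑_{e ∣ j} e · #{x | d x = e}`.
Main result: the recursion `(m+1) · cnt (m+1) = ∑_{i+j=m} cnt i · npt (j+1)`.
-/

set_option autoImplicit false
set_option linter.unusedSectionVars false

namespace Groth.Agent.Lib.Seat72.ZetaCyc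

section Abstract

variable {P : Type*} (d : P → ℕ)

/-- the degree of a cycle. -/
def wt (α : P →₀ ℕ) : ℕ := α.sum fun x n => n * d x

/-- effective cycles of degree `m` supported on points of nonzero degree. -/
def cyc (m : ℕ) : Set (P →₀ ℕ) := {α | (∀ x ∈ α.support, d x ≠ 0) ∧ wt d α = m}

/-- the number of effective cycles of degree `m`. -/
noncomputable def cnt (m : ℕ) : ℕ := Nat.card (cyc d m)

/-- `∑_{e ∣ j} e · #{x | d x = e}`. -/
noncomputable def npt (j : ℕ) : ℕ := ∑ e ∈ j.divisors, e * Nat.card {x : P // d x = e}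

theorem wt_add (α β : P →₀ ℕ) : wt d (α + β) = wt d α + wt d β := by
  unfold wt
  exact Finsupp.sum_add_index' (by simp) (by intros; ring)

theorem wt_single (x : P) (i : ℕ) : wt d (Finsupp.single x i) = i * d x := by
  unfold wt
  rw [Finsupp.sum_single_index]
  simp

theorem le_wt (α : P →₀ ℕ) (x : P) : α x * d x ≤ wt d α := by
  by_cases hx : x ∈ α.support
  · exact Finset.single_le_sum (f := fun x => α x * d x) (fun _ _ => Nat.zero_le _) hx
  · rw [Finsupp.notMem_support_iff] at hx
    simp [hx]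

theorem wt_eq_zero_iff (α : P →₀ ℕ) (hα : ∀ x ∈ α.support, d x ≠ 0) : wt d α = 0 ↔ α = 0 := by
  constructor
  · intro h
    ext x
    by_contra hx
    have hx' : x ∈ α.support := Finsupp.mem_support_iff.mpr hx
    have h1 := le_wt d α x
    rw [h] at h1
    have := Nat.mul_ne_zero hx (hα x hx')
    omega
  · rintro rfl
    simp [wt]

theorem cyc_zero : cyc d 0 = {0} := by
  ext α
  simp only [cyc, Set.mem_ofPred_eq, Set.mem_singleton_iff]
  constructor
  · rintro ⟨h1, h2⟩
    exact (wt_eq_zero_iff d α h1).mp h2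
  · rintro rfl
    exact ⟨by simp, by simp [wt]⟩

theorem cnt_zero : cnt d 0 = 1 := by
  rw [cnt, cyc_zero]
  simp

variable (hfin : ∀ e, e ≠ 0 → {x : P | d x = e}.Finite)

include hfin in
theorem finite_le (m : ℕ) : {x : P | d x ≠ 0 ∧ d x ≤ m}.Finite := by
  have hsub : {x : P | d x ≠ 0 ∧ d x ≤ m} ⊆ ⋃ e ∈ Finset.Icc 1 m, {x | d x = e} := by
    intro x hx
    simp only [Set.mem_iUnion, Set.mem_ofPred_eq, Finset.mem_Icc, exists_prop]
    exact ⟨d x, ⟨Nat.pos_of_ne_zero hx.1, hx.2⟩, rfl⟩
  refine (Set.Finite.biUnion (Finset.finite_toSet _) fun e he => hfin e ?_).subset hsub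
  have := (Finset.mem_Icc.mp he).1
  omega

theorem mem_support_le {m : ℕ} {α : P →₀ ℕ} (hα : α ∈ cyc d m) {x : P} (hx : x ∈ α.support) :
    d x ≠ 0 ∧ d x ≤ m := by
  refine ⟨hα.1 x hx, ?_⟩
  have h1 := le_wt d α x
  rw [hα.2] at h1
  have h2 : 1 ≤ α x := Nat.pos_of_ne_zero (Finsupp.mem_support_iff.mp hx)
  nlinarith

theorem apply_le {m : ℕ} {α : P →₀ ℕ} (hα : α ∈ cyc d m) (x : P) : α x ≤ m := by
  by_cases hx : x ∈ α.support
  · have h1 := le_wt d α x
    rw [hα.2] at h1
    have h2 : 1 ≤ d x := Nat.pos_of_ne_zero (hα.1 x hx)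
    nlinarith
  · rw [Finsupp.notMem_support_iff] at hx
    simp [hx]

include hfin in
theorem cyc_finite (m : ℕ) : (cyc d m).Finite := by
  classical
  apply (Finset.finite_toSet
    ((finite_le d hfin m).toFinset.finsupp fun _ => Finset.range (m + 1))).subset
  intro α hα
  rw [Finset.mem_coe, Finset.mem_finsupp_iff]
  refine ⟨fun x hx => ?_, fun x _ => ?_⟩
  · rw [Set.Finite.mem_toFinset]
    exact mem_support_le d hα hx
  · rw [Finset.mem_range]
    have := apply_le d hα x
    omega

include hfin in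
theorem cnt_eq_card (m : ℕ) : cnt d m = (cyc_finite d hfin m).toFinset.card := by
  rw [cnt, Nat.card_coe_set_eq, Set.ncard_eq_toFinset_card _ (cyc_finite d hfin m)]

/-- the cycles of degree `M` with multiplicity at least `i` at `x` correspond to the cycles of
degree `M - i * d x`. -/
theorem card_filter_le (M : ℕ) (x : P) (hx : d x ≠ 0) (i : ℕ) :
    ((cyc_finite d hfin M).toFinset.filter fun α => i ≤ α x).card =
      if i * d x ≤ M then cnt d (M - i * d x) else 0 := by
  classical
  split_ifs with h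
  · rw [cnt_eq_card d hfin]
    symm
    refine Finset.card_bij (fun β _ => β + Finsupp.single x i) ?_ ?_ ?_
    · intro β hβ
      rw [Set.Finite.mem_toFinset] at hβ
      rw [Finset.mem_filter, Set.Finite.mem_toFinset]
      refine ⟨⟨fun y hy => ?_, ?_⟩, ?_⟩
      · have := Finsupp.support_add hy
        rw [Finset.mem_union] at this
        rcases this with h1 | h1
        · exact hβ.1 y h1
        · have := Finsupp.support_single_subset h1
          rw [Finset.mem_singleton] at this
          rw [this]; exact hx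
      · rw [wt_add, wt_single, hβ.2]
        omega
      · simp
    · intro β _ β' _ hEq
      exact add_right_cancel hEq
    · intro α hα
      rw [Finset.mem_filter, Set.Finite.mem_toFinset] at hα
      obtain ⟨⟨hα1, hα2⟩, hα3⟩ := hα
      have hle : Finsupp.single x i ≤ α := Finsupp.single_le_iff.mpr hα3
      have hsum : α - Finsupp.single x i + Finsupp.single x i = α := tsub_add_cancel_of_le hle
      refine ⟨α - Finsupp.single x i, ?_, hsum⟩
      rw [Set.Finite.mem_toFinset]
      refine ⟨fun y hy => hα1 y (Finsupp.support_tsub hy), ?_⟩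
      have := congrArg (wt d) hsum
      rw [wt_add, wt_single, hα2] at this
      omega
  · rw [Finset.card_eq_zero, Finset.filter_eq_empty_iff]
    intro α hα hi
    rw [Set.Finite.mem_toFinset] at hα
    have h1 := le_wt d α x
    rw [hα.2] at h1
    have : i * d x ≤ α x * d x := Nat.mul_le_mul_right _ hi
    omega

theorem sum_apply (M : ℕ) (x : P) :
    ∑ α ∈ (cyc_finite d hfin M).toFinset, α x =
      ∑ i ∈ Finset.Icc 1 M,
        ((cyc_finite d hfin M).toFinset.filter fun α => i ≤ α x).card := by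
  classical
  simp_rw [Finset.card_filter]
  rw [Finset.sum_comm]
  refine Finset.sum_congr rfl fun α hα => ?_
  rw [Set.Finite.mem_toFinset] at hα
  have hle := apply_le d hα x
  rw [← Finset.card_filter]
  have : (Finset.Icc 1 M).filter (fun i => i ≤ α x) = Finset.Icc 1 (α x) := by
    ext i
    simp only [Finset.mem_filter, Finset.mem_Icc]
    omega
  rw [this]
  simp

include hfin in
theorem npt_eq (M j : ℕ) (hj : 1 ≤ j) (hjM : j ≤ M) :
    npt d j = ∑ x ∈ (finite_le d hfin M).toFinset, if d x ∣ j then d x else 0 := by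
  classical
  rw [← Finset.sum_filter]
  have hmaps : ∀ x ∈ (finite_le d hfin M).toFinset.filter (fun x => d x ∣ j),
      d x ∈ j.divisors := by
    intro x hx
    rw [Finset.mem_filter] at hx
    exact Nat.mem_divisors.mpr ⟨hx.2, by omega⟩
  rw [← Finset.sum_fiberwise_of_maps_to hmaps, npt]
  refine Finset.sum_congr rfl fun e he => ?_
  have he0 : e ≠ 0 := (Nat.pos_of_mem_divisors he).ne'
  have hdvd : e ∣ j := Nat.dvd_of_mem_divisors he
  have hset : ((finite_le d hfin M).toFinset.filter (fun x => d x ∣ j)).filter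
      (fun x => d x = e) = (hfin e he0).toFinset := by
    ext x
    simp only [Finset.mem_filter, Set.Finite.mem_toFinset, Set.mem_ofPred_eq]
    constructor
    · rintro ⟨_, h⟩; exact h
    · intro h
      have : e ≤ j := Nat.le_of_dvd (by omega) hdvd
      exact ⟨⟨⟨by rw [h]; exact he0, by rw [h]; omega⟩, by rw [h]; exact hdvd⟩, h⟩
  rw [hset, Finset.sum_congr rfl (fun x hx => (by
    rw [Set.Finite.mem_toFinset] at hx; exact hx : d x = e)), Finset.sum_const, smul_eq_mul,
    mul_comm]
  congr 1
  change Nat.card ({x : P | d x = e} : Set P) = _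
  rw [Nat.card_coe_set_eq, Set.ncard_eq_toFinset_card _ (hfin e he0)]

theorem reindex (m e : ℕ) (he : e ≠ 0) (c : ℕ → ℕ) :
    ∑ i ∈ Finset.Icc 1 (m + 1), (if i * e ≤ m + 1 then c (m + 1 - i * e) else 0) =
      ∑ p ∈ Finset.HasAntidiagonal.antidiagonal m, if e ∣ p.2 + 1 then c p.1 else 0 := by
  classical
  rw [← Finset.sum_filter, ← Finset.sum_filter]
  refine Finset.sum_nbij' (fun i => (m + 1 - i * e, i * e - 1)) (fun p => (p.2 + 1) / e)
    ?_ ?_ ?_ ?_ ?_
  · intro i hi
    simp only [Finset.mem_filter, Finset.mem_Icc] at hi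
    simp only [Finset.mem_filter, Finset.HasAntidiagonal.mem_antidiagonal]
    have h1 : 1 ≤ i * e := Nat.mul_pos (by omega) (Nat.pos_of_ne_zero he)
    refine ⟨by omega, ?_⟩
    rw [Nat.sub_add_cancel h1]
    exact Dvd.intro_left i rfl
  · intro p hp
    simp only [Finset.mem_filter, Finset.HasAntidiagonal.mem_antidiagonal] at hp
    simp only [Finset.mem_filter, Finset.mem_Icc]
    obtain ⟨hp1, hp2⟩ := hp
    have hle : e ≤ p.2 + 1 := Nat.le_of_dvd (by omega) hp2
    have h1 : 1 ≤ (p.2 + 1) / e := Nat.div_pos hle (Nat.pos_of_ne_zero he)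
    have h2 : (p.2 + 1) / e * e = p.2 + 1 := Nat.div_mul_cancel hp2
    have h3 : (p.2 + 1) / e ≤ p.2 + 1 := Nat.div_le_self _ _
    refine ⟨⟨h1, by omega⟩, by omega⟩
  · intro i hi
    simp only [Finset.mem_filter, Finset.mem_Icc] at hi
    have h1 : 1 ≤ i * e := Nat.mul_pos (by omega) (Nat.pos_of_ne_zero he)
    simp only
    rw [Nat.sub_add_cancel h1]
    exact Nat.mul_div_cancel i (Nat.pos_of_ne_zero he)
  · intro p hp
    simp only [Finset.mem_filter, Finset.HasAntidiagonal.mem_antidiagonal] at hp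
    obtain ⟨hp1, hp2⟩ := hp
    have h2 : (p.2 + 1) / e * e = p.2 + 1 := Nat.div_mul_cancel hp2
    change (m + 1 - (p.2 + 1) / e * e, (p.2 + 1) / e * e - 1) = p
    rw [h2]
    ext
    · change m + 1 - (p.2 + 1) = p.1
      omega
    · change p.2 + 1 - 1 = p.2
      omega
  · intro i _
    rfl

include hfin in
/-- the recursion for the number of effective cycles of a given degree. -/
theorem succ_mul_cnt (m : ℕ) :
    (m + 1) * cnt d (m + 1) = ∑ p ∈ Finset.HasAntidiagonal.antidiagonal m, cnt d p.1 * npt d (p.2 + 1) := by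
  classical
  set C := (cyc_finite d hfin (m + 1)).toFinset with hC
  set F := (finite_le d hfin (m + 1)).toFinset with hF
  have h1 : (m + 1) * cnt d (m + 1) = ∑ α ∈ C, wt d α := by
    rw [cnt_eq_card d hfin, mul_comm, ← smul_eq_mul, ← Finset.sum_const]
    refine Finset.sum_congr rfl fun α hα => ?_
    rw [hC, Set.Finite.mem_toFinset] at hα
    exact hα.2.symm
  have h2 : ∀ α ∈ C, wt d α = ∑ x ∈ F, α x * d x := by
    intro α hα
    rw [hC, Set.Finite.mem_toFinset] at hα
    unfold wt Finsupp.sum
    refine Finset.sum_subset (fun x hx => ?_) (fun x _ hx => ?_)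
    · rw [hF, Set.Finite.mem_toFinset]; exact mem_support_le d hα hx
    · rw [Finsupp.notMem_support_iff] at hx
      simp [hx]
  rw [h1, Finset.sum_congr rfl h2, Finset.sum_comm]
  have h3 : ∀ p ∈ Finset.HasAntidiagonal.antidiagonal m, cnt d p.1 * npt d (p.2 + 1) =
      ∑ x ∈ F, d x * (if d x ∣ p.2 + 1 then cnt d p.1 else 0) := by
    intro p hp
    rw [Finset.HasAntidiagonal.mem_antidiagonal] at hp
    rw [npt_eq d hfin (m + 1) (p.2 + 1) (by omega) (by omega), Finset.mul_sum]
    refine Finset.sum_congr rfl fun x _ => ?_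
    split_ifs <;> ring
  have h4 : ∑ p ∈ Finset.HasAntidiagonal.antidiagonal m, cnt d p.1 * npt d (p.2 + 1) =
      ∑ p ∈ Finset.HasAntidiagonal.antidiagonal m,
        ∑ x ∈ F, d x * (if d x ∣ p.2 + 1 then cnt d p.1 else 0) := Finset.sum_congr rfl h3
  rw [h4]
  conv_rhs => rw [Finset.sum_comm]
  refine Finset.sum_congr rfl fun x hx => ?_
  rw [hF, Set.Finite.mem_toFinset] at hx
  have e1 : ∑ α ∈ C, α x * d x = (∑ α ∈ C, α x) * d x := (Finset.sum_mul _ _ _).symm
  have e2 : ∑ p ∈ Finset.HasAntidiagonal.antidiagonal m,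
      d x * (if d x ∣ p.2 + 1 then cnt d p.1 else 0) =
      d x * ∑ p ∈ Finset.HasAntidiagonal.antidiagonal m,
        (if d x ∣ p.2 + 1 then cnt d p.1 else 0) := (Finset.mul_sum _ _ _).symm
  rw [e1, e2, hC, sum_apply d hfin, mul_comm, ← reindex m (d x) hx.1 (cnt d)]
  congr 1
  refine Finset.sum_congr rfl fun i _ => ?_
  exact card_filter_le d hfin (m + 1) x hx.1 i

end Abstract

end Groth.Agent.Lib.Seat72.ZetaCyc
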