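import Mathlib
import Groth.Agent.Lib.Seat72ZetaCyc
import Groth.Agent.Lib.Seat72ZetaPS

/-!
# Seat72: from a logarithmic-derivative recursion to convergence

Abstract analysis: a nonnegative sequence `b` with `(m+1) b_{m+1} ≤ ∑_{k ≤ m} ν_{k+1} b_{m-k}` and
`ν_j ≤ C ρ^j`, `ρ < 1`, is bounded; hence `∑ b_m t^m` converges for `t Q < 1` when `ν_j ≤ C Q^j`.
-/

set_option autoImplicit false
set_option maxSynthPendingDepth 3
set_option linter.style.haveILetI false
set_option linter.unusedSectionVars false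

namespace Groth.Agent.Lib.Seat72.ZetaDir

section Analysis

/-- a nonnegative sequence satisfying a convolution recursion with geometrically decaying kernel is
bounded. -/
theorem bounded_of_rec (b ν : ℕ → ℝ) (C ρ : ℝ) (hb : ∀ m, 0 ≤ b m) (hC : 0 ≤ C) (hρ0 : 0 ≤ ρ)
    (hρ1 : ρ < 1) (hν : ∀ j, ν j ≤ C * ρ ^ j)
    (hrec : ∀ m : ℕ, ((m : ℝ) + 1) * b (m + 1) ≤ ∑ i ∈ Finset.range (m + 1), ν (i + 1) * b (m - i)) :
    ∃ K : ℝ, ∀ m, b m ≤ K := by
  set A : ℝ := C * ρ / (1 - ρ) with hA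
  have h1ρ : 0 < 1 - ρ := by linarith
  have hA0 : 0 ≤ A := div_nonneg (mul_nonneg hC hρ0) h1ρ.le
  set m₀ : ℕ := ⌈A⌉₊ with hm₀
  set K : ℝ := ∑ l ∈ Finset.range (m₀ + 1), b l with hK
  have hK0 : 0 ≤ K := Finset.sum_nonneg fun l _ => hb l
  refine ⟨K, fun m => ?_⟩
  induction m using Nat.strong_induction_on with
  | _ m ih =>
    by_cases hm : m ≤ m₀
    · exact Finset.single_le_sum (f := b) (fun l _ => hb l)
        (Finset.mem_range.mpr (Nat.lt_succ_of_le hm))
    · rw [not_le] at hm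
      obtain ⟨m', rfl⟩ : ∃ m', m = m' + 1 := ⟨m - 1, by omega⟩
      have hgeo : ∑ i ∈ Finset.range (m' + 1), ρ ^ (i + 1) ≤ ρ / (1 - ρ) := by
        have h := geom_sum_mul_neg ρ (m' + 1)
        have h2 : ∑ i ∈ Finset.range (m' + 1), ρ ^ (i + 1) =
            ρ * ∑ i ∈ Finset.range (m' + 1), ρ ^ i := by
          rw [Finset.mul_sum]
          exact Finset.sum_congr rfl fun i _ => by ring
        rw [h2, le_div_iff₀ h1ρ, mul_assoc, h]
        have : 0 ≤ ρ ^ (m' + 1) := pow_nonneg hρ0 _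
        nlinarith
      have hsum : ∑ i ∈ Finset.range (m' + 1), ν (i + 1) * b (m' - i) ≤ K * A := by
        calc ∑ i ∈ Finset.range (m' + 1), ν (i + 1) * b (m' - i)
            ≤ ∑ i ∈ Finset.range (m' + 1), (C * ρ ^ (i + 1)) * K := by
              refine Finset.sum_le_sum fun i hi => ?_
              have hi' := Finset.mem_range.mp hi
              have h1 : b (m' - i) ≤ K := ih (m' - i) (by omega)
              calc ν (i + 1) * b (m' - i) ≤ (C * ρ ^ (i + 1)) * b (m' - i) :=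
                    mul_le_mul_of_nonneg_right (hν _) (hb _)
                _ ≤ (C * ρ ^ (i + 1)) * K :=
                    mul_le_mul_of_nonneg_left h1 (mul_nonneg hC (pow_nonneg hρ0 _))
          _ = K * C * ∑ i ∈ Finset.range (m' + 1), ρ ^ (i + 1) := by
              rw [Finset.mul_sum]
              exact Finset.sum_congr rfl fun i _ => by ring
          _ ≤ K * C * (ρ / (1 - ρ)) :=
              mul_le_mul_of_nonneg_left hgeo (mul_nonneg hK0 hC)
          _ = K * A := by rw [hA]; ring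
      have hAm : A ≤ (m' : ℝ) + 1 := by
        have h1 : A ≤ (m₀ : ℝ) := Nat.le_ceil A
        have h2 : (m₀ : ℝ) ≤ (m' : ℝ) + 1 := by
          have : m₀ ≤ m' + 1 := by omega
          exact_mod_cast this
        linarith
      have h3 := (hrec m').trans hsum
      have hpos : (0 : ℝ) < (m' : ℝ) + 1 := by positivity
      by_contra hcon
      rw [not_le] at hcon
      have : K * A < ((m' : ℝ) + 1) * b (m' + 1) := by
        calc K * A ≤ K * ((m' : ℝ) + 1) := mul_le_mul_of_nonneg_left hAm hK0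
          _ = ((m' : ℝ) + 1) * K := by ring
          _ < ((m' : ℝ) + 1) * b (m' + 1) := mul_lt_mul_of_pos_left hcon hpos
      linarith

/-- convergence of `∑ b_m t^m` for `t Q < 1` from a convolution recursion with kernel bounded by
`C Q^j`. -/
theorem summable_of_rec (b N : ℕ → ℝ) (C Q t : ℝ) (hb : ∀ m, 0 ≤ b m) (hC : 0 ≤ C) (hQ : 0 < Q)
    (hN : ∀ j, N j ≤ C * Q ^ j)
    (hrec : ∀ m : ℕ, ((m : ℝ) + 1) * b (m + 1) ≤ ∑ i ∈ Finset.range (m + 1), N (i + 1) * b (m - i))
    (ht0 : 0 ≤ t) (ht : t * Q < 1) : Summable fun m => b m * t ^ m := by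
  set t' : ℝ := (t + 1 / Q) / 2 with ht'
  have htQ : t < 1 / Q := by rwa [lt_div_iff₀ hQ]
  have htt' : t < t' := by rw [ht']; linarith
  have ht'Q : t' < 1 / Q := by rw [ht']; linarith
  have ht'0 : 0 < t' := lt_of_le_of_lt ht0 htt'
  have hρ1 : Q * t' < 1 := by
    have := (lt_div_iff₀ hQ).mp ht'Q
    linarith
  have hρ0 : 0 ≤ Q * t' := (mul_pos hQ ht'0).le
  obtain ⟨K, hK⟩ := bounded_of_rec (fun m => b m * t' ^ m) (fun j => N j * t' ^ j) C (Q * t')
    (fun m => mul_nonneg (hb m) (pow_nonneg ht'0.le _)) hC hρ0 hρ1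
    (fun j => by
      rw [mul_pow, ← mul_assoc]
      exact mul_le_mul_of_nonneg_right (hN j) (pow_nonneg ht'0.le _))
    (fun m => by
      have h1 := mul_le_mul_of_nonneg_right (hrec m) (pow_nonneg ht'0.le (m + 1))
      calc ((m : ℝ) + 1) * (b (m + 1) * t' ^ (m + 1))
          = ((m : ℝ) + 1) * b (m + 1) * t' ^ (m + 1) := by ring
        _ ≤ (∑ i ∈ Finset.range (m + 1), N (i + 1) * b (m - i)) * t' ^ (m + 1) := h1
        _ = ∑ i ∈ Finset.range (m + 1), N (i + 1) * t' ^ (i + 1) * (b (m - i) * t' ^ (m - i)) := by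
            rw [Finset.sum_mul]
            refine Finset.sum_congr rfl fun i hi => ?_
            have hi' := Finset.mem_range.mp hi
            have : m + 1 = (i + 1) + (m - i) := by omega
            rw [this, pow_add]
            have : i + 1 + (m - i) - i = m - i + 1 := by omega
            ring_nf)
  have hr0 : 0 ≤ t / t' := div_nonneg ht0 ht'0.le
  have hr1 : t / t' < 1 := (div_lt_one ht'0).mpr htt'
  refine Summable.of_nonneg_of_le (fun m => mul_nonneg (hb m) (pow_nonneg ht0 _)) (fun m => ?_)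
    ((summable_geometric_of_lt_one hr0 hr1).mul_left K)
  have h2 : t' ^ m * (t / t') ^ m = t ^ m := by
    rw [← mul_pow, mul_div_cancel₀ _ ht'0.ne']
  have h1 : b m * t ^ m = (b m * t' ^ m) * (t / t') ^ m := by
    rw [mul_assoc, h2]
  rw [h1]
  exact mul_le_mul_of_nonneg_right (hK m) (pow_nonneg hr0 _)

end Analysis

section ExpSeries

open PowerSeries Groth.Agent.Lib.Seat72.ZetaPS

/-- the recursion for the coefficients of `exp(∑ a_m t^m / m)`. -/
theorem coeff_E_rec (a : ℕ → ℚ) (m : ℕ) :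
    ((m : ℚ) + 1) * PowerSeries.coeff (m + 1) (E (logSer a)) =
      ∑ i ∈ Finset.range (m + 1), a (i + 1) * PowerSeries.coeff (m - i) (E (logSer a)) := by
  have h := derivative_E (constantCoeff_logSer a)
  rw [derivative_logSer] at h
  have h2 := congrArg (PowerSeries.coeff m) h
  rw [PowerSeries.coeff_derivative, mul_comm (E (logSer a)) _, PowerSeries.coeff_mul,
    Finset.Nat.sum_antidiagonal_eq_sum_range_succ
      (fun i j => PowerSeries.coeff i (PowerSeries.mk fun m => a (m + 1)) *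
        PowerSeries.coeff j (E (logSer a)))] at h2
  simp only [PowerSeries.coeff_mk] at h2
  rw [mul_comm]
  exact h2

theorem logSer_neg (a : ℕ → ℚ) : logSer (fun m => -a m) = -logSer a := by
  ext m
  simp [logSer, neg_div]

/-- absolute convergence of `exp(∑ a_m t^m / m)` at `t` when `|a_j| ≤ C Q^j` and `t Q < 1`. -/
theorem summable_coeff_E (a : ℕ → ℚ) (C Q t : ℝ) (hC : 0 ≤ C) (hQ : 0 < Q)
    (ha : ∀ j, |(a j : ℝ)| ≤ C * Q ^ j) (ht0 : 0 ≤ t) (ht : t * Q < 1) :
    Summable fun m => |((PowerSeries.coeff m (E (logSer a)) : ℚ) : ℝ)| * t ^ m := by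
  refine summable_of_rec (fun m => |((PowerSeries.coeff m (E (logSer a)) : ℚ) : ℝ)|)
    (fun j => |(a j : ℝ)|) C Q t (fun m => abs_nonneg _) hC hQ ha (fun m => ?_) ht0 ht
  have h := coeff_E_rec a m
  have h' : ((m : ℝ) + 1) * ((PowerSeries.coeff (m + 1) (E (logSer a)) : ℚ) : ℝ) =
      ∑ i ∈ Finset.range (m + 1),
        (a (i + 1) : ℝ) * ((PowerSeries.coeff (m - i) (E (logSer a)) : ℚ) : ℝ) := by
    exact_mod_cast h
  have hpos : (0 : ℝ) ≤ (m : ℝ) + 1 := by positivity
  calc ((m : ℝ) + 1) * |((PowerSeries.coeff (m + 1) (E (logSer a)) : ℚ) : ℝ)|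
      = |((m : ℝ) + 1) * ((PowerSeries.coeff (m + 1) (E (logSer a)) : ℚ) : ℝ)| := by
        rw [abs_mul, abs_of_nonneg hpos]
    _ = |∑ i ∈ Finset.range (m + 1),
          (a (i + 1) : ℝ) * ((PowerSeries.coeff (m - i) (E (logSer a)) : ℚ) : ℝ)| := by rw [h']
    _ ≤ ∑ i ∈ Finset.range (m + 1),
          |(a (i + 1) : ℝ) * ((PowerSeries.coeff (m - i) (E (logSer a)) : ℚ) : ℝ)| :=
        Finset.abs_sum_le_sum_abs _ _
    _ = ∑ i ∈ Finset.range (m + 1),
          |(a (i + 1) : ℝ)| * |((PowerSeries.coeff (m - i) (E (logSer a)) : ℚ) : ℝ)| :=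
        Finset.sum_congr rfl fun i _ => abs_mul _ _

/-- `exp(L)(z) · exp(-L)(z) = 1` at points of absolute convergence. -/
theorem tsum_mul_tsum_eq_one (a : ℕ → ℚ) (z : ℂ)
    (h1 : Summable fun m => ‖((PowerSeries.coeff m (E (logSer a)) : ℚ) : ℂ) * z ^ m‖)
    (h2 : Summable fun m =>
      ‖((PowerSeries.coeff m (E (logSer fun m => -a m)) : ℚ) : ℂ) * z ^ m‖) :
    (∑' m, ((PowerSeries.coeff m (E (logSer a)) : ℚ) : ℂ) * z ^ m) *
      (∑' m, ((PowerSeries.coeff m (E (logSer fun m => -a m)) : ℚ) : ℂ) * z ^ m) = 1 := by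
  rw [tsum_mul_tsum_eq_tsum_sum_antidiagonal_of_summable_norm h1 h2]
  have hprod : E (logSer a) * E (logSer fun m => -a m) = 1 := by
    rw [logSer_neg, mul_comm]
    exact E_neg_mul (constantCoeff_logSer a)
  have hterm : ∀ n : ℕ, ∑ kl ∈ Finset.HasAntidiagonal.antidiagonal n,
      ((PowerSeries.coeff kl.1 (E (logSer a)) : ℚ) : ℂ) * z ^ kl.1 *
        (((PowerSeries.coeff kl.2 (E (logSer fun m => -a m)) : ℚ) : ℂ) * z ^ kl.2) =
      if n = 0 then 1 else 0 := by
    intro n
    have h3 := congrArg (PowerSeries.coeff n) hprod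
    rw [PowerSeries.coeff_mul, PowerSeries.coeff_one] at h3
    have h4 : ∑ kl ∈ Finset.HasAntidiagonal.antidiagonal n,
        ((PowerSeries.coeff kl.1 (E (logSer a)) : ℚ) : ℂ) * z ^ kl.1 *
          (((PowerSeries.coeff kl.2 (E (logSer fun m => -a m)) : ℚ) : ℂ) * z ^ kl.2) =
        (∑ kl ∈ Finset.HasAntidiagonal.antidiagonal n,
          ((PowerSeries.coeff kl.1 (E (logSer a)) : ℚ) : ℂ) *
            ((PowerSeries.coeff kl.2 (E (logSer fun m => -a m)) : ℚ) : ℂ)) * z ^ n := by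
      rw [Finset.sum_mul]
      refine Finset.sum_congr rfl fun kl hkl => ?_
      rw [Finset.HasAntidiagonal.mem_antidiagonal] at hkl
      rw [← hkl, pow_add]
      ring
    rw [h4]
    have h5 : (∑ kl ∈ Finset.HasAntidiagonal.antidiagonal n,
        ((PowerSeries.coeff kl.1 (E (logSer a)) : ℚ) : ℂ) *
          ((PowerSeries.coeff kl.2 (E (logSer fun m => -a m)) : ℚ) : ℂ)) =
        (((if n = 0 then 1 else 0 : ℚ)) : ℂ) := by
      rw [← h3]
      push_cast
      rfl
    rw [h5]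
    split_ifs with hn
    · subst hn; simp
    · simp
  rw [tsum_congr hterm, tsum_ite_eq]

end ExpSeries

end Groth.Agent.Lib.Seat72.ZetaDir
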