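import Mathlib
import Groth.Agent.Lib.Seat72ZetaGenB

/-!
# Seat72: multiplicativity of the zeta function along partitions

For a scheme `X` of finite type over a finite field and a finite family of immersions `Y_i → X`
whose images partition the closed points of `X`:
`degCount_eq_sum`, `nPts_eq_sum`, `logZeta_eq_sum`, `zetaFun_eq_prod`.
-/

set_option autoImplicit false
set_option maxSynthPendingDepth 3
set_option linter.style.haveILetI false
set_option linter.unusedSectionVars false

universe u

open AlgebraicGeometry CategoryTheory CategoryTheory.Limits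

namespace Groth.Agent.Lib.Seat72.ZetaGenC

open Groth.Agent.Lib.Helper10.GaloisOrbit Groth.Agent.Lib.Seat72.ZetaGenA
  Groth.Agent.Lib.Seat72.ZetaPS

section General

variable {k : Type u} [Field k] {X : Scheme.{u}} (f : X ⟶ Spec (CommRingCat.of k))

theorem constantCoeff_logZeta : PowerSeries.constantCoeff (Zeta.logZeta f) = 0 := by
  rw [Zeta.logZeta, ← PowerSeries.coeff_zero_eq_constantCoeff_apply, PowerSeries.coeff_mk]
  simp

theorem zetaFun_eq_E : Zeta.zetaFun f = E (Zeta.logZeta f) := rfl

theorem nPts_zero : Zeta.nPts f 0 = 0 := by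
  simp [Zeta.nPts]

end General

section Partition

variable {k : Type u} [Field k] [Finite k] {X : Scheme.{u}} (f : X ⟶ Spec (CommRingCat.of k))
  [LocallyOfFiniteType f] [QuasiCompact f]
  {ι : Type*} [Fintype ι] (Y : ι → Scheme.{u}) (g : ∀ i, Y i ⟶ X) [∀ i, IsImmersion (g i)]
  (hpart : ∀ x : X, IsClosed ({x} : Set X) → ∃! i, x ∈ Set.range (g i).base)

include hpart in
theorem degCount_eq_sum (e : ℕ) (he : e ≠ 0) :
    Zeta.degCount f e = ∑ i, Zeta.degCount (g i ≫ f) e := by
  classical
  haveI : NeZero e := ⟨he⟩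
  rw [degCount_eq f e he]
  simp_rw [degCount_eq (g _ ≫ f) e he]
  have hinj : ∀ i, Function.Injective (g i).base := fun i => (g i).isEmbedding.injective
  let Φ : (Σ i, {y : Y i // EGA4loc.residueDegree (g i ≫ f) y = e}) →
      {x : X // EGA4loc.residueDegree f x = e} :=
    fun p => ⟨g p.1 p.2.1, by
      rw [← residueDegree_comp_of_surjectiveOnStalks f (g p.1) p.2.1]; exact p.2.2⟩
  have hΦinj : Function.Injective Φ := by
    rintro ⟨i, y, hy⟩ ⟨j, y', hy'⟩ h
    have hx : g i y = g j y' := congrArg Subtype.val h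
    have hcl : IsClosed ({g i y} : Set X) :=
      isClosed_of_residueDegree_ne_zero f _ (by
        rw [← residueDegree_comp_of_surjectiveOnStalks f (g i) y, hy]; exact he)
    obtain ⟨i₀, -, huniq⟩ := hpart _ hcl
    have hi : i = i₀ := huniq i ⟨y, rfl⟩
    have hj : j = i₀ := huniq j ⟨y', hx.symm⟩
    obtain rfl : i = j := hi.trans hj.symm
    have : y = y' := hinj i hx
    subst this
    rfl
  have hΦsurj : Function.Surjective Φ := by
    rintro ⟨x, hx⟩
    have hcl : IsClosed ({x} : Set X) :=
      isClosed_of_residueDegree_ne_zero f _ (by rw [hx]; exact he)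
    obtain ⟨i, ⟨y, rfl⟩, -⟩ := hpart _ hcl
    exact ⟨⟨i, y, by rw [residueDegree_comp_of_surjectiveOnStalks f (g i) y]; exact hx⟩, rfl⟩
  haveI : ∀ i, Finite {y : Y i // EGA4loc.residueDegree (g i ≫ f) y = e} := fun i =>
    Finite.of_injective
      (fun y : {y : Y i // EGA4loc.residueDegree (g i ≫ f) y = e} =>
        (⟨g i y.1, by
          rw [← residueDegree_comp_of_surjectiveOnStalks f (g i) y.1]; exact y.2⟩ :
          {x : X // EGA4loc.residueDegree f x = e}))
      (fun y y' h => Subtype.ext (hinj i (congrArg Subtype.val h)))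
  rw [← Nat.card_congr (Equiv.ofBijective Φ ⟨hΦinj, hΦsurj⟩), Nat.card_sigma]

include hpart in
theorem nPts_eq_sum (m : ℕ) : Zeta.nPts f m = ∑ i, Zeta.nPts (g i ≫ f) m := by
  simp only [Zeta.nPts]
  rw [Finset.sum_comm]
  refine Finset.sum_congr rfl fun e he => ?_
  rw [degCount_eq_sum f Y g hpart e (Nat.pos_of_mem_divisors he).ne', Finset.mul_sum]

include hpart in
theorem logZeta_eq_sum : Zeta.logZeta f = ∑ i, Zeta.logZeta (g i ≫ f) := by
  ext m
  rw [map_sum]
  simp only [Zeta.logZeta, PowerSeries.coeff_mk]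
  rw [nPts_eq_sum f Y g hpart m, Nat.cast_sum, Finset.sum_div]

include hpart in
/-- the zeta function is multiplicative along a finite partition of the closed points by
immersions. -/
theorem zetaFun_eq_prod : Zeta.zetaFun f = ∏ i, Zeta.zetaFun (g i ≫ f) := by
  rw [zetaFun_eq_E, logZeta_eq_sum f Y g hpart, E_sum _ _ fun i _ => constantCoeff_logZeta _]
  rfl

end Partition

end Groth.Agent.Lib.Seat72.ZetaGenC
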