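import Mathlib
import Groth.Agent.Lib.Seat72ZetaGenC

/-!
# Seat72: extensions of finite fields in a given universe, points of the affine line, rescaling

* `exists_extension`: a finite field `k : Type u` has an extension of each degree `m ≠ 0` in `Type u`;
* `nPts_eq_of_pointCount`: `N_m` is determined by the point counts;
* `pointCount_affineSpace`: `#𝔸ⁿ_X(k') = #X(k') · #k'ⁿ` (here for `n = PUnit`);
* `E_rescale`: `exp(L(at)) = (exp L)(at)`;
* `zetaFun_affineLine`.
-/

set_option autoImplicit false
set_option maxSynthPendingDepth 3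
set_option linter.style.haveILetI false
set_option linter.unusedSectionVars false

universe u

open AlgebraicGeometry CategoryTheory CategoryTheory.Limits

namespace Groth.Agent.Lib.Seat72.ZetaGenD

open Groth.Agent.Lib.Seat72.ZetaGenA Groth.Agent.Lib.Seat72.ZetaGenB
  Groth.Agent.Lib.Seat72.ZetaGenC Groth.Agent.Lib.Seat72.ZetaPS

section Ext

/-- a finite field has an extension of each positive degree, in the same universe. -/
theorem exists_extension (k : Type u) [Field k] [Finite k] (m : ℕ) (hm : m ≠ 0) :
    ∃ (k' : Type u) (_ : Field k') (_ : Algebra k k') (_ : Finite k'),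
      Module.finrank k k' = m := by
  haveI : NeZero m := ⟨hm⟩
  haveI : Fact (ringChar k).Prime := ⟨CharP.char_is_prime k (ringChar k)⟩
  refine ⟨ULift.{u} (FiniteField.Extension k (ringChar k) m), inferInstance, inferInstance,
    inferInstance, ?_⟩
  rw [ULift.moduleEquiv.finrank_eq, FiniteField.finrank_extension]

end Ext

section PS

variable {K : Type*} [Field K] [CharZero K]

theorem E_rescale (a : K) {L : PowerSeries K} (hL : PowerSeries.constantCoeff L = 0) :
    E (PowerSeries.rescale a L) = PowerSeries.rescale a (E L) := by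
  have ha : PowerSeries.HasSubst (a • (PowerSeries.X : PowerSeries K)) :=
    hasSubst (by simp)
  rw [E, E, PowerSeries.rescale_eq_subst, PowerSeries.rescale_eq_subst,
    PowerSeries.subst_comp_subst_apply (hasSubst hL) ha]

end PS

section Count

variable {k : Type u} [Field k] [Finite k] {X : Scheme.{u}} (f : X ⟶ Spec (CommRingCat.of k))
  [LocallyOfFiniteType f] [QuasiCompact f]

/-- `N_m` computed from a point count over an extension of degree `m`. -/
theorem nPts_eq_pointCount (k' : Type u) [Field k'] [Algebra k k'] [Finite k'] :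
    Zeta.nPts f (Module.finrank k k') = SgaExt.pointCount f k' :=
  (pointCount_eq_nPts f k').symm

end Count

section Affine

variable {k : Type u} [Field k] {X : Scheme.{u}} (f : X ⟶ Spec (CommRingCat.of k))
  (k' : Type u) [Field k'] [Algebra k k'] (n : Type u)

/-- points of the affine space over `X`. -/
noncomputable def ptsAffineEquiv :
    Pts ((𝔸(n; X) ↘ X) ≫ f) k' ≃ Pts f k' × (n → Γ(Spec (CommRingCat.of k'), ⊤)) where
  toFun h := (⟨h.1 ≫ (𝔸(n; X) ↘ X), by rw [Category.assoc]; exact h.2⟩,
    fun i => h.1.appTop (AffineSpace.coord X i))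
  invFun p := ⟨AffineSpace.homOfVector p.1.1 p.2, by
    rw [← Category.assoc, AffineSpace.homOfVector_over]; exact p.1.2⟩
  left_inv h := by
    apply Subtype.ext
    apply AffineSpace.hom_ext
    · rw [AffineSpace.homOfVector_over]
    · intro i
      rw [AffineSpace.homOfVector_appTop_coord]
  right_inv p := by
    refine Prod.ext (Subtype.ext ?_) ?_
    · exact AffineSpace.homOfVector_over _ _
    · funext i
      exact AffineSpace.homOfVector_appTop_coord _ _ i

theorem pointCount_affineLine :
    SgaExt.pointCount ((𝔸(PUnit.{u + 1}; X) ↘ X) ≫ f) k' =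
      SgaExt.pointCount f k' * Nat.card k' := by
  rw [pointCount_eq_card_pts, pointCount_eq_card_pts,
    Nat.card_congr (ptsAffineEquiv f k' PUnit.{u + 1}), Nat.card_prod]
  congr 1
  exact Nat.card_congr ((Equiv.funUnique PUnit.{u + 1} _).trans
    (Scheme.ΓSpecIso (CommRingCat.of k')).commRingCatIsoToRingEquiv.toEquiv)

end Affine

section AffineZeta

variable {k : Type u} [Field k] [Finite k] {X : Scheme.{u}} (f : X ⟶ Spec (CommRingCat.of k))
  [LocallyOfFiniteType f] [QuasiCompact f]

theorem nPts_affineLine (m : ℕ) :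
    Zeta.nPts ((𝔸(PUnit.{u + 1}; X) ↘ X) ≫ f) m = Zeta.nPts f m * Nat.card k ^ m := by
  by_cases hm : m = 0
  · subst hm
    rw [nPts_zero, nPts_zero, zero_mul]
  obtain ⟨k', _, _, _, hk'⟩ := exists_extension k m hm
  rw [← hk', nPts_eq_pointCount, nPts_eq_pointCount, pointCount_affineLine,
    Module.natCard_eq_pow_finrank (K := k) (V := k')]

theorem logZeta_affineLine :
    Zeta.logZeta ((𝔸(PUnit.{u + 1}; X) ↘ X) ≫ f) =
      PowerSeries.rescale (Nat.card k : ℚ) (Zeta.logZeta f) := by
  ext m
  rw [PowerSeries.coeff_rescale]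
  simp only [Zeta.logZeta, PowerSeries.coeff_mk]
  rw [nPts_affineLine f m]
  push_cast
  ring

/-- `Z(𝔸¹_X, t) = Z(X, qt)`. -/
theorem zetaFun_affineLine :
    Zeta.zetaFun ((𝔸(PUnit.{u + 1}; X) ↘ X) ≫ f) =
      PowerSeries.rescale (Nat.card k : ℚ) (Zeta.zetaFun f) := by
  rw [zetaFun_eq_E, zetaFun_eq_E, logZeta_affineLine, E_rescale _ (constantCoeff_logZeta f)]

end AffineZeta

end Groth.Agent.Lib.Seat72.ZetaGenD
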