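import Mathlib
import Groth.Agent.Lib.Seat72ZetaDir
import Groth.Agent.Lib.Seat72ZetaGenD
import Groth.Agent.Lib.Seat72ZetaBoundB

/-!
# Seat72: the Dirichlet series of effective 0-cycles of a scheme over a finite field
-/

set_option autoImplicit false
set_option maxSynthPendingDepth 3
set_option linter.style.haveILetI false
set_option linter.unusedSectionVars false

universe u

open AlgebraicGeometry CategoryTheory CategoryTheory.Limits

namespace Groth.Agent.Lib.Seat72.ZetaDirB

open Groth.Agent.Lib.Seat72.ZetaGenA Groth.Agent.Lib.Seat72.ZetaGenB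
  Groth.Agent.Lib.Seat72.ZetaGenC Groth.Agent.Lib.Seat72.ZetaGenD Groth.Agent.Lib.Seat72.ZetaPS
  Groth.Agent.Lib.Seat72.ZetaCyc Groth.Agent.Lib.Seat72.ZetaDir
  Groth.Agent.Lib.Seat72.ZetaBoundB
  Groth.Agent.Lib.Helper10.GaloisOrbit Groth.Agent.Lib.Helper10.WeilPt

section Formal

variable {k : Type u} [Field k] [Finite k] {Y : Scheme.{u}} (f : Y ⟶ Spec (CommRingCat.of k))
  [LocallyOfFiniteType f] [QuasiCompact f]

/-- the degree function on the points of `Y`. -/
noncomputable def deg : Y → ℕ := fun x => EGA4loc.residueDegree f x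

theorem hfin : ∀ e, e ≠ 0 → {x : Y | deg f x = e}.Finite := finite_residueDegree_eq f

theorem npt_eq_nPts (j : ℕ) : npt (deg f) j = Zeta.nPts f j := by
  unfold npt Zeta.nPts
  refine Finset.sum_congr rfl fun e he => ?_
  rw [degCount_eq f e (Nat.pos_of_mem_divisors he).ne']
  rfl

/-- the generating series of the numbers of effective 0-cycles of given degree is the zeta
function. -/
theorem mk_cnt_eq_zetaFun :
    PowerSeries.mk (fun m => (cnt (deg f) m : ℚ)) = Zeta.zetaFun f := by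
  rw [zetaFun_eq_E]
  apply eq_E_of_ode (constantCoeff_logZeta f)
  · have hL : Zeta.logZeta f = logSer fun m => (Zeta.nPts f m : ℚ) := rfl
    rw [hL, derivative_logSer]
    ext m
    rw [PowerSeries.coeff_derivative, PowerSeries.coeff_mk, PowerSeries.coeff_mul]
    have h := succ_mul_cnt (deg f) (hfin f) m
    have h' : ((cnt (deg f) (m + 1) : ℚ)) * ((m : ℚ) + 1) =
        (((m + 1) * cnt (deg f) (m + 1) : ℕ) : ℚ) := by push_cast; ring
    rw [h', h]
    push_cast
    refine Finset.sum_congr rfl fun p _ => ?_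
    rw [PowerSeries.coeff_mk, PowerSeries.coeff_mk, npt_eq_nPts]
  · rw [← PowerSeries.coeff_zero_eq_constantCoeff_apply, PowerSeries.coeff_mk, cnt_zero]
    simp

theorem zetaFun_eq_E_logSer :
    Zeta.zetaFun f = E (logSer fun m => (Zeta.nPts f m : ℚ)) := rfl

theorem coeff_zetaFun (m : ℕ) : PowerSeries.coeff m (Zeta.zetaFun f) = (cnt (deg f) m : ℚ) := by
  rw [← mk_cnt_eq_zetaFun, PowerSeries.coeff_mk]

/-- the bound `N_j ≤ c (q^r)^j`. -/
theorem exists_nPts_le (r : ℕ) (hr : topologicalKrullDim Y ≤ r) :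
    ∃ c : ℕ, ∀ j : ℕ, Zeta.nPts f j ≤ c * (Nat.card k ^ r) ^ j := by
  obtain ⟨c, hc⟩ := pointCount_le f r hr
  refine ⟨c, fun j => ?_⟩
  by_cases hj : j = 0
  · subst hj; rw [nPts_zero]; exact Nat.zero_le _
  · obtain ⟨k', _, _, _, hk'⟩ := exists_extension k j hj
    have := hc k'
    rw [← nPts_eq_pointCount, hk'] at this
    rwa [← pow_mul]

theorem card_residueField (x : Y) (hx : deg f x ≠ 0) :
    Nat.card (Y.residueField x) = Nat.card k ^ deg f x := by
  have h := residueDegree_eq_finrank f x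
  letI : Algebra k (Y.residueField x) := (resHom k f x).hom.toAlgebra
  haveI : FiniteDimensional k (Y.residueField x) :=
    Module.finite_of_finrank_pos (Nat.pos_of_ne_zero (by rw [← h]; exact hx))
  rw [Module.natCard_eq_pow_finrank (K := k) (V := Y.residueField x)]
  unfold deg
  rw [h]

theorem norm_eq (α : Y →₀ ℕ) (hα : ∀ x ∈ α.support, deg f x ≠ 0) :
    α.prod (fun x m => Nat.card (Y.residueField x) ^ m) = Nat.card k ^ wt (deg f) α := by
  unfold wt Finsupp.prod Finsupp.sum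
  rw [← Finset.prod_pow_eq_pow_sum]
  refine Finset.prod_congr rfl fun x hx => ?_
  beta_reduce
  rw [card_residueField f x (hα x hx), ← pow_mul, mul_comm]

theorem one_lt_card : 1 < Nat.card k := Finite.one_lt_card

theorem cycleNormCount_pow (m : ℕ) :
    Zeta.cycleNormCount Y (Nat.card k ^ m) = cnt (deg f) m := by
  unfold Zeta.cycleNormCount cnt
  refine Nat.card_congr (Equiv.subtypeEquivRight fun α => ?_)
  constructor
  · rintro ⟨h1, h2⟩
    have h1' : ∀ x ∈ α.support, deg f x ≠ 0 := fun x hx =>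
      residueDegree_ne_zero_of_isClosed f x (h1 x hx)
    refine ⟨h1', ?_⟩
    rw [norm_eq f α h1'] at h2
    exact Nat.pow_right_injective (one_lt_card (k := k)) h2
  · rintro ⟨h1, h2⟩
    refine ⟨fun x hx => isClosed_of_residueDegree_ne_zero f x (h1 x hx), ?_⟩
    rw [norm_eq f α h1, h2]

include f in
theorem cycleNormCount_eq_zero (n : ℕ) (hn : ∀ m, n ≠ Nat.card k ^ m) :
    Zeta.cycleNormCount Y n = 0 := by
  unfold Zeta.cycleNormCount
  haveI : IsEmpty {α : Y →₀ ℕ // (∀ x ∈ α.support, IsClosed ({x} : Set Y)) ∧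
      α.prod (fun x m => Nat.card (Y.residueField x) ^ m) = n} := by
    refine ⟨fun ⟨α, h1, h2⟩ => ?_⟩
    have h1' : ∀ x ∈ α.support, deg f x ≠ 0 := fun x hx =>
      residueDegree_ne_zero_of_isClosed f x (h1 x hx)
    rw [norm_eq f α h1'] at h2
    exact hn _ h2.symm
  exact Nat.card_of_isEmpty

end Formal

section Dirichlet

variable {k : Type u} [Field k] [Finite k] {Y : Scheme.{u}} (f : Y ⟶ Spec (CommRingCat.of k))
  [LocallyOfFiniteType f] [QuasiCompact f]

theorem pow_injective : Function.Injective fun m : ℕ => Nat.card k ^ m :=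
  Nat.pow_right_injective (one_lt_card (k := k))

include f in
theorem term_pow (s : ℂ) (m : ℕ) :
    LSeries.term (Zeta.arithCoeff Y) s (Nat.card k ^ m) =
      (cnt (deg f) m : ℂ) * (((Nat.card k : ℂ) ^ s)⁻¹) ^ m := by
  have hne : Nat.card k ^ m ≠ 0 :=
    pow_ne_zero _ (by have := one_lt_card (k := k); omega)
  rw [LSeries.term_of_ne_zero hne, Zeta.arithCoeff, cycleNormCount_pow f m, div_eq_mul_inv,
    Nat.cast_pow, ← Complex.natCast_cpow_natCast_mul, Complex.cpow_nat_mul, inv_pow]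

include f in
theorem term_eq_zero (s : ℂ) (n : ℕ) (hn : n ∉ Set.range fun m : ℕ => Nat.card k ^ m) :
    LSeries.term (Zeta.arithCoeff Y) s n = 0 := by
  have h0 : Zeta.arithCoeff Y n = 0 := by
    unfold Zeta.arithCoeff
    rw [cycleNormCount_eq_zero f n (fun m hm => hn ⟨m, hm.symm⟩)]
    simp
  rw [LSeries.term_def, h0]
  simp

include f in
theorem lseriesSummable_iff (s : ℂ) :
    LSeriesSummable (Zeta.arithCoeff Y) s ↔
      Summable fun m : ℕ => (cnt (deg f) m : ℂ) * (((Nat.card k : ℂ) ^ s)⁻¹) ^ m := by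
  rw [LSeriesSummable, ← (pow_injective (k := k)).summable_iff (term_eq_zero f s)]
  refine summable_congr fun m => ?_
  exact term_pow f s m

include f in
theorem lseries_eq (s : ℂ) :
    LSeries (Zeta.arithCoeff Y) s =
      ∑' m : ℕ, (cnt (deg f) m : ℂ) * (((Nat.card k : ℂ) ^ s)⁻¹) ^ m := by
  rw [LSeries, ← (pow_injective (k := k)).tsum_eq (f := LSeries.term (Zeta.arithCoeff Y) s)]
  · exact tsum_congr fun m => term_pow f s m
  · intro n hn
    by_contra hcon
    exact hn (term_eq_zero f s n hcon)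

/-- the summability statements needed at a point of the half plane `Re s > r`. -/
theorem summable_at (r : ℕ) (hr : topologicalKrullDim Y ≤ r) (s : ℂ) (hs : (r : ℝ) < s.re) :
    (Summable fun m => ‖((PowerSeries.coeff m
        (E (logSer fun m => (Zeta.nPts f m : ℚ))) : ℚ) : ℂ) *
          (((Nat.card k : ℂ) ^ s)⁻¹) ^ m‖) ∧
    (Summable fun m => ‖((PowerSeries.coeff m
        (E (logSer fun m => -(Zeta.nPts f m : ℚ))) : ℚ) : ℂ) *
          (((Nat.card k : ℂ) ^ s)⁻¹) ^ m‖) := by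
  obtain ⟨c, hc⟩ := exists_nPts_le f r hr
  have hq1 : (1 : ℝ) < (Nat.card k : ℝ) := by exact_mod_cast one_lt_card (k := k)
  have hq0 : (0 : ℝ) < (Nat.card k : ℝ) := by linarith
  set t : ℝ := ((Nat.card k : ℝ) ^ s.re)⁻¹ with ht
  set Q : ℝ := (Nat.card k : ℝ) ^ r with hQ
  have hQ0 : 0 < Q := pow_pos hq0 r
  have ht0 : 0 ≤ t := inv_nonneg.mpr (Real.rpow_nonneg hq0.le _)
  have htQ : t * Q < 1 := by
    have h1 : Q < (Nat.card k : ℝ) ^ s.re := by
      rw [hQ, ← Real.rpow_natCast]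
      exact Real.rpow_lt_rpow_of_exponent_lt hq1 hs
    have h2 : 0 < (Nat.card k : ℝ) ^ s.re := Real.rpow_pos_of_pos hq0 _
    rw [ht, inv_mul_lt_iff₀ h2, mul_one]
    exact h1
  have hnorm : ‖((Nat.card k : ℂ) ^ s)⁻¹‖ = t := by
    rw [norm_inv, Complex.norm_natCast_cpow_of_pos (by have := one_lt_card (k := k); omega)]
  have hbound : ∀ j, |((Zeta.nPts f j : ℚ) : ℝ)| ≤ (c : ℝ) * Q ^ j := by
    intro j
    rw [abs_of_nonneg (by positivity)]
    have := hc j
    calc ((Zeta.nPts f j : ℚ) : ℝ) = ((Zeta.nPts f j : ℕ) : ℝ) := by push_cast; rfl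
      _ ≤ ((c * (Nat.card k ^ r) ^ j : ℕ) : ℝ) := by exact_mod_cast this
      _ = (c : ℝ) * Q ^ j := by push_cast; rfl
  have hbound' : ∀ j, |((-(Zeta.nPts f j : ℚ) : ℚ) : ℝ)| ≤ (c : ℝ) * Q ^ j := by
    intro j
    have := hbound j
    push_cast at this ⊢
    rwa [abs_neg]
  have h1 := summable_coeff_E (fun m => (Zeta.nPts f m : ℚ)) c Q t (by positivity) hQ0 hbound
    ht0 htQ
  have h2 := summable_coeff_E (fun m => -(Zeta.nPts f m : ℚ)) c Q t (by positivity) hQ0 hbound'
    ht0 htQ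
  refine ⟨?_, ?_⟩
  · refine h1.congr fun m => ?_
    rw [norm_mul, norm_pow, hnorm]
    congr 1
    rw [← Complex.ofReal_ratCast, Complex.norm_real, Real.norm_eq_abs]
  · refine h2.congr fun m => ?_
    rw [norm_mul, norm_pow, hnorm]
    congr 1
    rw [← Complex.ofReal_ratCast, Complex.norm_real, Real.norm_eq_abs]

include f in
/-- the Dirichlet series of effective 0-cycles converges absolutely and does not vanish on the
half plane `Re s > dim`. -/
theorem main (r : ℕ) (hr : topologicalKrullDim Y ≤ r) :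
    LSeries.abscissaOfAbsConv (Zeta.arithCoeff Y) ≤ (r : ℝ) ∧
      ∀ s : ℂ, (r : ℝ) < s.re → LSeries (Zeta.arithCoeff Y) s ≠ 0 := by
  have hcoe : ∀ (s : ℂ) (m : ℕ), ((PowerSeries.coeff m
      (E (logSer fun m => (Zeta.nPts f m : ℚ))) : ℚ) : ℂ) * (((Nat.card k : ℂ) ^ s)⁻¹) ^ m =
      (cnt (deg f) m : ℂ) * (((Nat.card k : ℂ) ^ s)⁻¹) ^ m := by
    intro s m
    rw [← zetaFun_eq_E_logSer, coeff_zetaFun]
    push_cast
    rfl
  constructor
  · apply LSeries.abscissaOfAbsConv_le_of_forall_lt_LSeriesSummable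
    intro y hy
    have hs : (r : ℝ) < ((y : ℝ) : ℂ).re := by rwa [Complex.ofReal_re]
    have h1 := (summable_at f r hr (y : ℂ) hs).1
    rw [lseriesSummable_iff f]
    have h2 := h1.of_norm
    exact h2.congr fun m => hcoe _ m
  · intro s hs h0
    obtain ⟨h1, h2⟩ := summable_at f r hr s hs
    have h3 := tsum_mul_tsum_eq_one (fun m => (Zeta.nPts f m : ℚ)) (((Nat.card k : ℂ) ^ s)⁻¹) h1 h2
    rw [tsum_congr (hcoe s), ← lseries_eq f s, h0, zero_mul] at h3
    exact zero_ne_one h3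

end Dirichlet

end Groth.Agent.Lib.Seat72.ZetaDirB
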