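import Mathlib
import Groth.Agent.Lib.Seat72FrobGeom

/-!
# Seat72: the graph of a Frobenius-like endomorphism meets the diagonal transversally

Algebraic core: if `B` is generated over `k` by a set `S`, `ev : B → k` is a `k`-point, and
`ev s ^ N = ev s` for `s ∈ S` with `N = 0` in `k`, then in any localisation `O` of `B` in which
the functions not vanishing at the point are invertible, the ideal generated by the `s - s ^ N`
contains the image of `ker ev`.
-/

set_option autoImplicit false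
set_option maxSynthPendingDepth 3
set_option linter.style.haveILetI false
set_option linter.unusedSectionVars false

universe u v

open AlgebraicGeometry CategoryTheory CategoryTheory.Limits

namespace Groth.Agent.Lib.Seat72.ZetaMult

section Algebra

variable {k B O : Type*} [Field k] [CommRing B] [Algebra k B] [CommRing O] (γ : B →+* O)
  (ev : B →ₐ[k] k) (hunit : ∀ b : B, ev b ≠ 0 → IsUnit (γ b))
  (S : Set B) (hS : Algebra.adjoin k S = ⊤) (N : ℕ) (hN : (N : k) = 0)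
  (hfix : ∀ s ∈ S, ev s ^ N = ev s)

include hunit hN hfix in
theorem gen_mem (s : B) (hs : s ∈ S) :
    γ (s - algebraMap k B (ev s)) ∈ Ideal.span (γ '' {x | ∃ s ∈ S, x = s - s ^ N}) := by
  set c : B := algebraMap k B (ev s) with hc
  set u : B := 1 - ∑ i ∈ Finset.range N, s ^ i * c ^ (N - 1 - i) with hu
  have hcN : c ^ N = c := by rw [hc, ← map_pow, hfix s hs]
  have hfac : (s - c) * u = s - s ^ N := by
    have h := Commute.geom_sum₂_mul (Commute.all s c) N
    rw [hu, mul_sub, mul_one, mul_comm (s - c), h, hcN]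
    ring
  have hevu : ev u = 1 := by
    have hevc : ev c = ev s := by rw [hc, AlgHom.commutes]; rfl
    rw [hu, map_sub, map_one, map_sum]
    have : ∀ i ∈ Finset.range N, ev (s ^ i * c ^ (N - 1 - i)) = ev s ^ (N - 1) := by
      intro i hi
      rw [map_mul, map_pow, map_pow, hevc, ← pow_add]
      congr 1
      have := Finset.mem_range.mp hi
      omega
    rw [Finset.sum_congr rfl this, Finset.sum_const, Finset.card_range, nsmul_eq_mul, hN, zero_mul,
      sub_zero]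
  obtain ⟨v, hv⟩ := hunit u (by rw [hevu]; exact one_ne_zero)
  have h1 : γ (s - c) = γ (s - s ^ N) * ↑v⁻¹ := by
    rw [← hfac, map_mul, ← hv, mul_assoc, Units.mul_inv, mul_one]
  rw [h1]
  exact Ideal.mul_mem_right _ _ (Ideal.subset_span ⟨_, ⟨s, hs, rfl⟩, rfl⟩)

include hunit hS hN hfix in
theorem all_mem (b : B) :
    γ (b - algebraMap k B (ev b)) ∈ Ideal.span (γ '' {x | ∃ s ∈ S, x = s - s ^ N}) := by
  have hb : b ∈ Algebra.adjoin k S := by rw [hS]; trivial
  induction hb using Algebra.adjoin_induction with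
  | mem s hs => exact gen_mem γ ev hunit S N hN hfix s hs
  | algebraMap c =>
    have : ev (algebraMap k B c) = c := by rw [AlgHom.commutes]; rfl
    rw [this, sub_self, map_zero]
    exact Ideal.zero_mem _
  | add a b _ _ ha hb =>
    have : a + b - algebraMap k B (ev (a + b)) =
        (a - algebraMap k B (ev a)) + (b - algebraMap k B (ev b)) := by
      rw [map_add, map_add]; ring
    rw [this, map_add]
    exact Ideal.add_mem _ ha hb
  | mul a b _ _ ha hb =>
    have : a * b - algebraMap k B (ev (a * b)) =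
        a * (b - algebraMap k B (ev b)) + algebraMap k B (ev b) * (a - algebraMap k B (ev a)) := by
      rw [map_mul, map_mul]; ring
    rw [this, map_add, map_mul, map_mul]
    exact Ideal.add_mem _ (Ideal.mul_mem_left _ _ hb) (Ideal.mul_mem_left _ _ ha)

include hunit hS hN hfix in
/-- the image of `ker ev` lies in the ideal generated by the `s - s ^ N`. -/
theorem ker_mem (b : B) (hb : ev b = 0) :
    γ b ∈ Ideal.span (γ '' {x | ∃ s ∈ S, x = s - s ^ N}) := by
  have := all_mem γ ev hunit S hS N hN hfix b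
  rwa [hb, map_zero, sub_zero] at this

end Algebra

section Geom

open Groth.Agent.Lib.Helper4.VarDim Groth.Agent.Lib.Seat72.FrobGeom

attribute [local instance] sectionsAlgebra Curv2.resAlgebra

theorem id_appLE' (X : Scheme.{u}) (U : X.Opens) (e : U ≤ (𝟙 X : X ⟶ X) ⁻¹ᵁ U) :
    (𝟙 X : X ⟶ X).appLE U U e = 𝟙 _ :=
  (Scheme.Hom.appLE_eq_app (𝟙 X)).trans (Scheme.Hom.id_app U)

theorem appLE_of_eq_id {X : Scheme.{u}} {f : X ⟶ X} (h : f = 𝟙 X) (U : X.Opens)
    (e : U ≤ f ⁻¹ᵁ U) (s : Γ(X, U)) : (f.appLE U U e).hom s = s := by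
  subst h
  rw [id_appLE']
  rfl

theorem germ_appLE {X Y : Scheme.{u}} (f : X ⟶ Y) (W : Y.Opens) (U : X.Opens) (e : U ≤ f ⁻¹ᵁ W)
    (x : X) (hx : x ∈ U) (t : Γ(Y, W)) :
    (X.presheaf.germ U x hx).hom ((f.appLE W U e).hom t) =
      (f.stalkMap x).hom ((Y.presheaf.germ W (f x) (e hx)).hom t) := by
  have h1 := Scheme.Hom.germ_stalkMap_apply f W x (e hx) t
  have h2 := X.presheaf.germ_res_apply (homOfLE e) x hx ((f.app W).hom t)
  rw [Scheme.Hom.appLE]
  exact h2.trans h1.symm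

variable (k : Type u) [Field k] {Y Q : Scheme.{u}} [Y.Over (Spec (CommRingCat.of k))]
  (pr₁ pr₂ : Q ⟶ Y) (G : Y ⟶ Y)
  (hG : G ≫ (Y ↘ Spec (CommRingCat.of k)) = (Y ↘ Spec (CommRingCat.of k)))
  (j d : Y ⟶ Q)
  (hj₁ : j ≫ pr₁ = 𝟙 Y) (hj₂ : j ≫ pr₂ = G) (hd₁ : d ≫ pr₁ = 𝟙 Y) (hd₂ : d ≫ pr₂ = 𝟙 Y)
  {U : Y.Opens} (hU : IsAffineOpen U) (e : U ≤ G ⁻¹ᵁ U)

/-- the open `U × U` of the product. -/
def box (U : Y.Opens) : Q.Opens := pr₁ ⁻¹ᵁ U ⊓ pr₂ ⁻¹ᵁ U

include hd₁ hd₂ in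
theorem le_d_box : U ≤ d ⁻¹ᵁ (box pr₁ pr₂ U) := by
  intro y hy
  refine ⟨?_, ?_⟩
  · show pr₁ (d y) ∈ U
    rw [← Scheme.Hom.comp_apply, hd₁]; exact hy
  · show pr₂ (d y) ∈ U
    rw [← Scheme.Hom.comp_apply, hd₂]; exact hy

include hj₁ hj₂ e in
theorem le_j_box : U ≤ j ⁻¹ᵁ (box pr₁ pr₂ U) := by
  intro y hy
  refine ⟨?_, ?_⟩
  · show pr₁ (j y) ∈ U
    rw [← Scheme.Hom.comp_apply, hj₁]; exact hy
  · show pr₂ (j y) ∈ U
    rw [← Scheme.Hom.comp_apply, hj₂]; exact e hy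

/-- the function `q^* s - p^* G^* s` on `U × U`, vanishing on the graph of `G`. -/
noncomputable def hfun (s : Γ(Y, U)) : Γ(Q, box pr₁ pr₂ U) :=
  (pr₂.appLE U (box pr₁ pr₂ U) inf_le_right).hom s -
    (pr₁.appLE U (box pr₁ pr₂ U) inf_le_left).hom ((G.appLE U U e).hom s)

include hd₁ hd₂ in
theorem d_hfun (s : Γ(Y, U)) :
    (d.appLE (box pr₁ pr₂ U) U (le_d_box pr₁ pr₂ d hd₁ hd₂)).hom (hfun pr₁ pr₂ G e s) =
      s - (G.appLE U U e).hom s := by
  rw [hfun, map_sub]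
  have h1 := Scheme.Hom.appLE_comp_appLE d pr₂ U (box pr₁ pr₂ U) U inf_le_right
    (le_d_box pr₁ pr₂ d hd₁ hd₂)
  have h2 := Scheme.Hom.appLE_comp_appLE d pr₁ U (box pr₁ pr₂ U) U inf_le_left
    (le_d_box pr₁ pr₂ d hd₁ hd₂)
  have h1' := congrArg (fun φ => φ.hom s) h1
  have h2' := congrArg (fun φ => φ.hom ((G.appLE U U e).hom s)) h2
  simp only [CommRingCat.hom_comp, RingHom.comp_apply] at h1' h2'
  rw [h1', h2', appLE_of_eq_id hd₂, appLE_of_eq_id hd₁]

include hj₁ hj₂ in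
theorem j_hfun (s : Γ(Y, U)) :
    (j.appLE (box pr₁ pr₂ U) U (le_j_box pr₁ pr₂ G j hj₁ hj₂ e)).hom (hfun pr₁ pr₂ G e s) = 0 := by
  rw [hfun, map_sub]
  have h1 := Scheme.Hom.appLE_comp_appLE j pr₂ U (box pr₁ pr₂ U) U inf_le_right
    (le_j_box pr₁ pr₂ G j hj₁ hj₂ e)
  have h2 := Scheme.Hom.appLE_comp_appLE j pr₁ U (box pr₁ pr₂ U) U inf_le_left
    (le_j_box pr₁ pr₂ G j hj₁ hj₂ e)
  have h1' := congrArg (fun φ => φ.hom s) h1
  have h2' := congrArg (fun φ => φ.hom ((G.appLE U U e).hom s)) h2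
  simp only [CommRingCat.hom_comp, RingHom.comp_apply] at h1' h2'
  rw [h1', h2', appLE_of_eq_id hj₁, appLE_congr_hom hj₂, sub_self]

variable (S : Set Γ(Y, U)) (hS : Algebra.adjoin k S = ⊤) (N : ℕ) (hN : (N : k) = 0)
  (hGS : ∀ s ∈ S, (G.appLE U U e).hom s = s ^ N)
  (w : Y) (hw : w ∈ U) (hGw : G w = w) (hκ : Function.Bijective (Curv2.resMap k Y w))
  (η : Y) (hsp : j η ⤳ d w)

include hj₁ hj₂ hd₁ hd₂ hw in
theorem hfun_mem_ker (s : Γ(Y, U)) :
    (Q.presheaf.germ (box pr₁ pr₂ U) (d w) (le_d_box pr₁ pr₂ d hd₁ hd₂ hw)).hom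
      (hfun pr₁ pr₂ G e s) ∈ RingHom.ker (Cyc.specMap (d w) (j η) hsp) := by
  have hjη : j η ∈ box pr₁ pr₂ U :=
    hsp.mem_open (box pr₁ pr₂ U).isOpen (le_d_box pr₁ pr₂ d hd₁ hd₂ hw)
  have hη : η ∈ U := by
    have h1 : pr₁ (j η) ∈ U := hjη.1
    rwa [← Scheme.Hom.comp_apply, hj₁] at h1
  rw [RingHom.mem_ker]
  have h1 : Cyc.specMap (d w) (j η) hsp
      ((Q.presheaf.germ (box pr₁ pr₂ U) (d w) (le_d_box pr₁ pr₂ d hd₁ hd₂ hw)).hom
        (hfun pr₁ pr₂ G e s)) =
      (Q.evaluation (box pr₁ pr₂ U) (j η) hjη).hom (hfun pr₁ pr₂ G e s) := by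
    have h2 := TopCat.Presheaf.germ_stalkSpecializes Q.presheaf (U := box pr₁ pr₂ U) (y := d w)
      (show d w ∈ box pr₁ pr₂ U from le_d_box pr₁ pr₂ d hd₁ hd₂ hw) hsp
    have h3 := congrArg (fun φ => (Q.residue (j η)).hom (φ.hom (hfun pr₁ pr₂ G e s))) h2
    exact h3
  rw [h1]
  have h4 := appLE_evaluation j (le_j_box pr₁ pr₂ G j hj₁ hj₂ e) η hη (hfun pr₁ pr₂ G e s)
  rw [j_hfun pr₁ pr₂ G j hj₁ hj₂ e s, map_zero] at h4
  exact (map_eq_zero_iff _ (j.residueFieldMap η).hom.injective).mp h4.symm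

include hG hGS hGw hκ in
theorem fix_ev (s : Γ(Y, U)) (hs : s ∈ S) : evₐ k Y w hw s ^ N = evₐ k Y w hw s := by
  obtain ⟨c, hc⟩ := hκ.2 (evₐ k Y w hw s)
  have key : ∀ (y : Y) (hy : y ∈ U), y = w →
      (Y.evaluation U y hy).hom s = Curv2.resMap k Y y c := by
    rintro y hy rfl
    exact hc.symm
  have h1 := appLE_evaluation G e w hw s
  rw [hGS s hs, map_pow, key (G w) (e hw) hGw, residueFieldMap_resMap k G hG w c] at h1
  exact h1.trans hc

include hG hj₁ hj₂ hd₁ hd₂ hU hS hN hGS hw hGw hκ in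
/-- the ideal of the graph of `G`, pulled back along the diagonal, is the maximal ideal at a
fixed rational point. -/
theorem map_ker_eq :
    Ideal.map (d.stalkMap w).hom (RingHom.ker (Cyc.specMap (d w) (j η) hsp)) =
      IsLocalRing.maximalIdeal (Y.presheaf.stalk w) := by
  apply le_antisymm
  · rw [Ideal.map_le_iff_le_comap]
    intro t ht
    rw [Ideal.mem_comap, IsLocalRing.mem_maximalIdeal, mem_nonunits_iff]
    intro hu
    have h1 : IsUnit t := (isUnit_map_iff (d.stalkMap w).hom t).mp hu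
    have h0 : Cyc.specMap (d w) (j η) hsp t = 0 := ht
    exact (h1.map (Cyc.specMap (d w) (j η) hsp)).ne_zero h0
  · letI := TopCat.Presheaf.algebra_section_stalk Y.presheaf ⟨w, hw⟩
    haveI := hU.isLocalization_stalk ⟨w, hw⟩
    rw [← IsLocalization.AtPrime.map_eq_maximalIdeal (hU.primeIdealOf ⟨w, hw⟩).asIdeal
      (Y.presheaf.stalk w), Ideal.map_le_iff_le_comap]
    intro b hb
    rw [Ideal.mem_comap]
    change (Y.presheaf.germ U w hw).hom b ∈ _
    have hb0 : evₐ k Y w hw b = 0 := by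
      have := (mem_primeIdealOf_iff hU w hw b).mp hb
      exact this
    let ε : k ≃ₐ[k] Y.residueField w := AlgEquiv.ofBijective (Algebra.ofId k (Y.residueField w)) hκ
    let ev : Γ(Y, U) →ₐ[k] k := (ε.symm : Y.residueField w →ₐ[k] k).comp (evₐ k Y w hw)
    have hev : ∀ b, ev b = ε.symm (evₐ k Y w hw b) := fun _ => rfl
    have hunit : ∀ b : Γ(Y, U), ev b ≠ 0 → IsUnit ((Y.presheaf.germ U w hw).hom b) := by
      intro b hb
      have h1 : evₐ k Y w hw b ≠ 0 := by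
        intro h; apply hb; rw [hev, h, map_zero]
      by_contra hnu
      apply h1
      rw [evₐ_apply]
      exact (IsLocalRing.residue_eq_zero_iff _).mpr hnu
    have hfix : ∀ s ∈ S, ev s ^ N = ev s := by
      intro s hs
      rw [hev, ← map_pow, fix_ev k G hG e S N hGS w hw hGw hκ s hs]
    have hmem := ker_mem (Y.presheaf.germ U w hw).hom ev hunit S hS N hN hfix b
      (by rw [hev, hb0, map_zero])
    refine Ideal.span_le.mpr ?_ hmem
    rintro _ ⟨_, ⟨s, hs, rfl⟩, rfl⟩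
    have h1 := d_hfun pr₁ pr₂ G d hd₁ hd₂ e s
    rw [hGS s hs] at h1
    rw [SetLike.mem_coe, ← h1, germ_appLE d _ U (le_d_box pr₁ pr₂ d hd₁ hd₂) w hw]
    exact Ideal.mem_map_of_mem _ (hfun_mem_ker pr₁ pr₂ G j d hj₁ hj₂ hd₁ hd₂ e w hw η hsp s)

include hG hj₁ hj₂ hd₁ hd₂ hU hS hN hGS hw hGw hκ in
theorem preimMult_eq_one (h : d w ∈ closure ({j η} : Set Q)) :
    WeilCoh.preimMult d (j η) w h = 1 := by
  unfold WeilCoh.preimMult
  rw [map_ker_eq k pr₁ pr₂ G hG j d hj₁ hj₂ hd₁ hd₂ hU e S hS N hN hGS w hw hGw hκ η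
    (specializes_iff_mem_closure.mpr h)]
  have : Module.length (Y.presheaf.stalk w)
      (Y.presheaf.stalk w ⧸ IsLocalRing.maximalIdeal (Y.presheaf.stalk w)) = 1 := by
    rw [Module.length_eq_one_iff, isSimpleModule_iff_isCoatom]
    exact Ideal.isMaximal_def.mp (IsLocalRing.maximalIdeal.isMaximal _)
  rw [this]
  rfl

end Geom

section Closed

/-- if the ideal of `Z` pulled back along `d` is the maximal ideal at `w₀`, then no proper
generisation of `w₀` lies in `d⁻¹ Z`. -/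
theorem eq_of_specializes {Y Q : Scheme.{u}} (d : Y ⟶ Q) (ξ : Q) (w w₀ : Y) (hsp₀ : w ⤳ w₀)
    (hξw : ξ ⤳ d w) (hξw₀ : ξ ⤳ d w₀)
    (hmax : Ideal.map (d.stalkMap w₀).hom (RingHom.ker (Cyc.specMap (d w₀) ξ hξw₀)) =
      IsLocalRing.maximalIdeal (Y.presheaf.stalk w₀)) : w = w₀ := by
  -- the prime of `w` in the local ring at `w₀` contains the maximal ideal
  have h1 : IsLocalRing.maximalIdeal (Y.presheaf.stalk w₀) ≤ RingHom.ker (Cyc.specMap w₀ w hsp₀) := by
    rw [← hmax, Ideal.map_le_iff_le_comap]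
    intro t ht
    rw [Ideal.mem_comap, RingHom.mem_ker]
    have hdsp : d w ⤳ d w₀ := d.base.hom.map_specializes hsp₀
    set t' := (Q.presheaf.stalkSpecializes hdsp).hom t with ht'
    have e1 : (Y.presheaf.stalkSpecializes hsp₀).hom ((d.stalkMap w₀).hom t) =
        (d.stalkMap w).hom t' := (Scheme.Hom.stalkSpecializes_stalkMap_apply d w w₀ hsp₀ t).symm
    have e2 : Cyc.specMap (d w) ξ hξw t' = 0 := by
      have h2 := TopCat.Presheaf.stalkSpecializes_comp Q.presheaf hξw hdsp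
      have h3 : Cyc.specMap (d w₀) ξ hξw₀ t = 0 := ht
      have h4 : Cyc.specMap (d w) ξ hξw t' = Cyc.specMap (d w₀) ξ hξw₀ t := by
        have := congrArg (fun φ => (Q.residue ξ).hom (φ.hom t)) h2
        exact this
      rw [h4, h3]
    have e3 : (Q.residue (d w)).hom t' = 0 := by
      refine (IsLocalRing.residue_eq_zero_iff _).mpr ?_
      exact IsLocalRing.le_maximalIdeal (RingHom.ker_ne_top (Cyc.specMap (d w) ξ hξw))
        (RingHom.mem_ker.mpr e2)
    change (Y.residue w).hom ((Y.presheaf.stalkSpecializes hsp₀).hom ((d.stalkMap w₀).hom t)) = 0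
    rw [e1]
    have e4 := Scheme.residue_residueFieldMap d w
    have e5 := congrArg (fun φ => φ.hom t') e4
    simp only [CommRingCat.hom_comp, RingHom.comp_apply] at e5
    rw [← e5, e3, map_zero]
  -- hence `w₀ ⤳ w`
  have h2 : w₀ ⤳ w := by
    by_contra hns
    rw [specializes_iff_forall_open] at hns
    push Not at hns
    obtain ⟨V, hV, hwV, hw₀V⟩ := hns
    obtain ⟨U, hU, hw₀U, -⟩ := exists_isAffineOpen_mem_and_subset (U := ⊤) (x := w₀) trivial
    have hwU : w ∈ U := hsp₀.mem_open U.isOpen hw₀U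
    obtain ⟨g, hg1, hg2⟩ := hU.exists_basicOpen_le (V := ⟨V, hV⟩) ⟨w, hwV⟩ hwU
    have hg3 : w₀ ∉ Y.basicOpen g := fun h => hw₀V (hg1 h)
    have hg4 : (Y.presheaf.germ U w₀ hw₀U).hom g ∈ IsLocalRing.maximalIdeal (Y.presheaf.stalk w₀) := by
      rw [IsLocalRing.mem_maximalIdeal, mem_nonunits_iff]
      intro hu
      exact hg3 ((Y.mem_basicOpen g w₀ hw₀U).mpr hu)
    have hg5 := h1 hg4
    rw [RingHom.mem_ker] at hg5
    have hg6 : Cyc.specMap w₀ w hsp₀ ((Y.presheaf.germ U w₀ hw₀U).hom g) =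
        (Y.residue w).hom ((Y.presheaf.germ U w hwU).hom g) := by
      have := TopCat.Presheaf.germ_stalkSpecializes Y.presheaf hw₀U hsp₀
      exact congrArg (fun φ => (Y.residue w).hom (φ.hom g)) this
    rw [hg6] at hg5
    have hg7 := (IsLocalRing.residue_eq_zero_iff _).mp hg5
    rw [IsLocalRing.mem_maximalIdeal, mem_nonunits_iff] at hg7
    exact hg7 ((Y.mem_basicOpen g w hwU).mp hg2)
  exact (h2.antisymm hsp₀).eq.symm

end Closed

end Groth.Agent.Lib.Seat72.ZetaMult
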