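import Mathlib
import Groth.Agent.Lib.Seat72ZetaMult
import Groth.Agent.Lib.Helper10WeilProd
import Groth.Agent.Lib.Helper10WeilGraph
import Groth.Agent.Lib.Helper10WeilGen
import Groth.Agent.Lib.Helper10WeilPt

/-!
# Seat72: the Lefschetz number of a Frobenius-like endomorphism counts its fixed points

For `G : X̄ ⟶ X̄` which is locally an `N`-th power map on generators (`N = 0` in `k`), the graph of `G`
meets the diagonal transversally, all points of the intersection are closed, and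
`tr (cl Γ_G · cl Δ)` is the number of points `w` with `j w = d w`.
-/

set_option autoImplicit false
set_option maxSynthPendingDepth 3
set_option linter.style.haveILetI false
set_option linter.unusedSectionVars false

universe u v

open AlgebraicGeometry CategoryTheory CategoryTheory.Limits

namespace Groth.Agent.Lib.Seat72.ZetaFix

open Groth.Agent.Lib.Helper4.VarDim Groth.Agent.Lib.Seat72.FrobGeom Groth.Agent.Lib.Seat72.ZetaMult
open Groth.Agent.Lib.Helper10.WeilPt Groth.Agent.Lib.Helper10.GaloisOrbit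

attribute [local instance] sectionsAlgebra Curv2.resAlgebra overVar

section Bridge

variable (k : Type u) [Field k] (X : Scheme.{u}) [X.Over (Spec (CommRingCat.of k))]

/-- `Curv2.resMap` is the canonical map `k → κ(x)` (argument of helper6's `specMap_resMap`). -/
theorem specMap_resMap (x : X) :
    Spec.map (CommRingCat.ofHom (Curv2.resMap k X x)) =
      X.fromSpecResidueField x ≫ (X ↘ Spec (CommRingCat.of k)) := by
  have hψ : CommRingCat.ofHom (Curv2.resMap k X x) =
      (Scheme.ΓSpecIso (CommRingCat.of k)).inv ≫ (X ↘ Spec (CommRingCat.of k)).appTop ≫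
        X.presheaf.germ ⊤ x trivial ≫ X.residue x := rfl
  rw [hψ]
  apply ext_of_isAffine
  rw [← cancel_mono (Scheme.ΓSpecIso (X.residueField x)).hom, Scheme.ΓSpecIso_naturality]
  unfold Scheme.fromSpecResidueField
  rw [Scheme.Hom.comp_appTop, Scheme.Hom.comp_appTop, Scheme.fromSpecStalk_appTop]
  simp only [Category.assoc]
  rw [Scheme.ΓSpecIso_naturality]
  simp

theorem resHom_eq (x : X) :
    resHom k (X ↘ Spec (CommRingCat.of k)) x = CommRingCat.ofHom (Curv2.resMap k X x) := by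
  apply Spec.map_injective
  rw [map_resHom, specMap_resMap]

end Bridge

section Topology

/-- a closed subset of a Noetherian sober space all of whose points are closed is finite. -/
theorem finite_of_forall_isClosed_singleton {α : Type*} [TopologicalSpace α] [TopologicalSpace.NoetherianSpace α]
    [QuasiSober α] (Z : Set α) (hZ : IsClosed Z) (h : ∀ z ∈ Z, IsClosed ({z} : Set α)) :
    Z.Finite := by
  obtain ⟨S, hSf, hSc, hSi, rfl⟩ :=
    TopologicalSpace.NoetherianSpace.exists_finite_set_isClosed_irreducible hZ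
  refine Set.Finite.sUnion hSf ?_
  intro t ht
  obtain ⟨g, hg⟩ := QuasiSober.sober (hSi t ht) (hSc t ht)
  have hgt : g ∈ t := by rw [← hg.def]; exact subset_closure rfl
  have : t = {g} := by
    rw [← hg.def, (h g ⟨t, ht, hgt⟩).closure_eq]
  rw [this]
  exact Set.finite_singleton g

end Topology

section Fix

variable {k : Type u} [Field k] [IsAlgClosed k]

theorem bijective_resMap (X : WeilCoh.Var k) (x : X.obj.left) (hx : IsClosed ({x} : Set X.obj.left)) :
    Function.Bijective (Curv2.resMap k X.obj.left x) := by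
  have h := bijective_resHom X.obj.hom x hx
  have e := resHom_eq k X.obj.left x
  change resHom k X.obj.hom x = _ at e
  rw [e] at h
  exact h

variable {Xb Pb : WeilCoh.Var k} (p q : Pb ⟶ Xb) (G : Xb ⟶ Xb)
  (jG d : Xb ⟶ Pb) (hj₁ : jG ≫ p = 𝟙 Xb) (hj₂ : jG ≫ q = G) (hd₁ : d ≫ p = 𝟙 Xb)
  (hd₂ : d ≫ q = 𝟙 Xb)

/-- the fixed locus: the points where the graph morphism and the diagonal agree. -/
def fixSet : Set Xb.obj.left := {w | WeilCoh.sm jG w = WeilCoh.sm d w}

include hj₁ in
theorem isClosed_range_graph : IsClosed (Set.range (WeilCoh.sm jG)) := by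
  haveI : UniversallyClosed (WeilCoh.sm jG ≫ Pb.obj.hom) := by
    rw [sm_w jG]; infer_instance
  haveI : UniversallyClosed (WeilCoh.sm jG) :=
    UniversallyClosed.of_comp_of_isSeparated (WeilCoh.sm jG) Pb.obj.hom
  exact (WeilCoh.sm jG).isClosedMap.isClosed_range

include hj₁ hd₁ in
/-- the preimage under the diagonal of the graph is the fixed locus. -/
theorem preimage_eq_fixSet :
    (WeilCoh.sm d) ⁻¹' closure ({WeilCoh.sm jG (genericPoint Xb.obj.left)} : Set Pb.obj.left) =
      fixSet jG d := by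
  ext w
  simp only [Set.mem_preimage, fixSet, Set.mem_ofPred_eq]
  constructor
  · intro hw
    have h1 : closure ({WeilCoh.sm jG (genericPoint Xb.obj.left)} : Set Pb.obj.left) ⊆
        Set.range (WeilCoh.sm jG) :=
      (isClosed_range_graph p jG hj₁).closure_subset_iff.mpr
        (Set.singleton_subset_iff.mpr ⟨_, rfl⟩)
    obtain ⟨w', hw'⟩ := h1 hw
    have h2 : w' = w := by
      have e1 : WeilCoh.sm p (WeilCoh.sm jG w') = w' := by
        rw [← Scheme.Hom.comp_apply, sm_comp_eq_id jG p hj₁]; rfl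
      have e2 : WeilCoh.sm p (WeilCoh.sm d w) = w := by
        rw [← Scheme.Hom.comp_apply, sm_comp_eq_id d p hd₁]; rfl
      rw [← e1, hw', e2]
    subst h2
    exact hw'
  · intro hw
    rw [← hw]
    have h1 : genericPoint Xb.obj.left ⤳ w := genericPoint_specializes w
    exact specializes_iff_mem_closure.mp ((WeilCoh.sm jG).base.hom.map_specializes h1)

include hj₂ hd₂ in
theorem fixed_of_mem_fixSet (w : Xb.obj.left) (hw : w ∈ fixSet jG d) : WeilCoh.sm G w = w := by
  have e1 : WeilCoh.sm q (WeilCoh.sm jG w) = WeilCoh.sm G w := by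
    rw [← Scheme.Hom.comp_apply]
    have : WeilCoh.sm jG ≫ WeilCoh.sm q = WeilCoh.sm G := congrArg (fun φ => WeilCoh.sm φ) hj₂
    rw [this]
  have e2 : WeilCoh.sm q (WeilCoh.sm d w) = w := by
    rw [← Scheme.Hom.comp_apply, sm_comp_eq_id d q hd₂]; rfl
  rw [← e1, hw, e2]

include hj₁ hd₁ in
theorem isClosed_fixSet : IsClosed (fixSet jG d) := by
  rw [← preimage_eq_fixSet p jG d hj₁ hd₁]
  exact isClosed_closure.preimage (WeilCoh.sm d).continuous

variable (N : ℕ) (hN : (N : k) = 0)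
  (hloc : ∀ w : Xb.obj.left, ∃ (U : Xb.obj.left.Opens) (_ : IsAffineOpen U) (_ : w ∈ U)
    (e : U ≤ (WeilCoh.sm G) ⁻¹ᵁ U) (S : Set Γ(Xb.obj.left, U)),
      Algebra.adjoin k S = ⊤ ∧ ∀ s ∈ S, ((WeilCoh.sm G).appLE U U e).hom s = s ^ N)

include hj₁ hj₂ hd₁ hd₂ hN hloc in
/-- at a closed point of the fixed locus the pulled back ideal of the graph is the maximal ideal. -/
theorem map_ker_eq_of_closed (w : Xb.obj.left) (hw : w ∈ fixSet jG d)
    (hcl : IsClosed ({w} : Set Xb.obj.left))
    (hsp : WeilCoh.sm jG (genericPoint Xb.obj.left) ⤳ WeilCoh.sm d w) :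
    Ideal.map ((WeilCoh.sm d).stalkMap w).hom
        (RingHom.ker (Cyc.specMap (WeilCoh.sm d w) (WeilCoh.sm jG (genericPoint Xb.obj.left)) hsp)) =
      IsLocalRing.maximalIdeal (Xb.obj.left.presheaf.stalk w) := by
  obtain ⟨U, hU, hwU, e, S, hS, hGS⟩ := hloc w
  exact map_ker_eq k (WeilCoh.sm p) (WeilCoh.sm q) (WeilCoh.sm G) (sm_w G) (WeilCoh.sm jG)
    (WeilCoh.sm d) (sm_comp_eq_id jG p hj₁) (congrArg (fun φ => WeilCoh.sm φ) hj₂)
    (sm_comp_eq_id d p hd₁) (sm_comp_eq_id d q hd₂) hU e S hS N hN hGS w hwU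
    (fixed_of_mem_fixSet q G jG d hj₂ hd₂ w hw) (bijective_resMap Xb w hcl) _ hsp

include hj₁ hj₂ hd₁ hd₂ hN hloc in
/-- every point of the fixed locus is closed. -/
theorem isClosed_of_mem_fixSet (w : Xb.obj.left) (hw : w ∈ fixSet jG d) :
    IsClosed ({w} : Set Xb.obj.left) := by
  haveI : CompactSpace Xb.obj.left := by
    have : QuasiCompact Xb.obj.hom := inferInstance
    exact (quasiCompact_iff_compactSpace Xb.obj.hom).mp this
  obtain ⟨w₀, hw₀, hcl⟩ := (isClosed_closure (s := ({w} : Set Xb.obj.left))).exists_closed_singleton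
    ⟨w, subset_closure rfl⟩
  have hsp₀ : w ⤳ w₀ := specializes_iff_mem_closure.mpr hw₀
  have hw₀Z : w₀ ∈ fixSet jG d :=
    (isClosed_fixSet p jG d hj₁ hd₁).closure_subset_iff.mpr (Set.singleton_subset_iff.mpr hw) hw₀
  have hpre := preimage_eq_fixSet p jG d hj₁ hd₁
  have hξw : WeilCoh.sm jG (genericPoint Xb.obj.left) ⤳ WeilCoh.sm d w := by
    rw [specializes_iff_mem_closure]
    have : w ∈ (WeilCoh.sm d) ⁻¹' closure
        ({WeilCoh.sm jG (genericPoint Xb.obj.left)} : Set Pb.obj.left) := by rw [hpre]; exact hw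
    exact this
  have hξw₀ : WeilCoh.sm jG (genericPoint Xb.obj.left) ⤳ WeilCoh.sm d w₀ := by
    rw [specializes_iff_mem_closure]
    have : w₀ ∈ (WeilCoh.sm d) ⁻¹' closure
        ({WeilCoh.sm jG (genericPoint Xb.obj.left)} : Set Pb.obj.left) := by rw [hpre]; exact hw₀Z
    exact this
  have hmax := map_ker_eq_of_closed p q G jG d hj₁ hj₂ hd₁ hd₂ N hN hloc w₀ hw₀Z hcl hξw₀
  have := eq_of_specializes (WeilCoh.sm d) _ w w₀ hsp₀ hξw hξw₀ hmax
  rw [this]
  exact hcl

include hj₁ hj₂ hd₁ hd₂ hN hloc in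
theorem finite_fixSet : (fixSet jG d).Finite := by
  haveI : IsLocallyNoetherian Xb.obj.left := LocallyOfFiniteType.isLocallyNoetherian Xb.obj.hom
  haveI : CompactSpace Xb.obj.left := by
    have : QuasiCompact Xb.obj.hom := inferInstance
    exact (quasiCompact_iff_compactSpace Xb.obj.hom).mp this
  haveI : IsNoetherian Xb.obj.left := {}
  exact finite_of_forall_isClosed_singleton _ (isClosed_fixSet p jG d hj₁ hd₁)
    (isClosed_of_mem_fixSet p q G jG d hj₁ hj₂ hd₁ hd₂ N hN hloc)

include hj₁ hj₂ hd₁ hd₂ hN hloc in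
theorem isCompPt_iff (w : Xb.obj.left) :
    WeilCoh.IsCompPt ((WeilCoh.sm d) ⁻¹' closure
      ({WeilCoh.sm jG (genericPoint Xb.obj.left)} : Set Pb.obj.left)) w ↔ w ∈ fixSet jG d := by
  rw [preimage_eq_fixSet p jG d hj₁ hd₁]
  constructor
  · exact fun h => h.1
  · intro hw
    refine ⟨hw, fun w' hw' hsp => ?_⟩
    have hcl := isClosed_of_mem_fixSet p q G jG d hj₁ hj₂ hd₁ hd₂ N hN hloc w' hw'
    have : w ∈ closure ({w'} : Set Xb.obj.left) := specializes_iff_mem_closure.mp hsp
    rw [hcl.closure_eq] at this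
    exact this.symm

variable {K : Type v} [Field K] [CharZero K] (T : WeilCoh.Theory k K)

include hj₁ hj₂ hd₁ hd₂ hN hloc in
/-- the Lefschetz number of `G` is the number of its fixed points. -/
theorem tr_cl_graph_mul_cl_diag (hP : WeilCoh.IsProd p q) :
    T.tr Pb (T.cl Pb (WeilCoh.sm jG (genericPoint Xb.obj.left)) *
      T.cl Pb (WeilCoh.sm d (genericPoint Xb.obj.left))) = (Nat.card (fixSet jG d) : K) := by
  set ξ := WeilCoh.sm jG (genericPoint Xb.obj.left) with hξ
  have hcomp := isCompPt_iff p q G jG d hj₁ hj₂ hd₁ hd₂ N hN hloc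
  have hclosed := isClosed_of_mem_fixSet p q G jG d hj₁ hj₂ hd₁ hd₂ N hN hloc
  -- the hypotheses of the pull-back formula
  have H1 : ∀ w : Xb.obj.left, WeilCoh.IsCompPt ((WeilCoh.sm d) ⁻¹' closure ({ξ} : Set Pb.obj.left)) w →
      (WeilCoh.pdim Xb.obj.left w : ℤ) =
        WeilCoh.pdim Pb.obj.left ξ + WeilCoh.dim Xb.obj.left - WeilCoh.dim Pb.obj.left := by
    intro w hw
    rw [pdim_eq_zero_of_isClosed w (hclosed w ((hcomp w).mp hw)), hξ, pdim_section jG p hj₁,
      dim_prod p q hP]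
    push_cast
    ring
  have H2 : ∀ (w : Xb.obj.left)
      (hw : WeilCoh.IsCompPt ((WeilCoh.sm d) ⁻¹' closure ({ξ} : Set Pb.obj.left)) w),
      WeilCoh.preimMult (WeilCoh.sm d) ξ w hw.1 = 1 := by
    intro w hw
    unfold WeilCoh.preimMult
    rw [map_ker_eq_of_closed p q G jG d hj₁ hj₂ hd₁ hd₂ N hN hloc w ((hcomp w).mp hw)
      (hclosed w ((hcomp w).mp hw)) (specializes_iff_mem_closure.mpr hw.1)]
    have : Module.length (Xb.obj.left.presheaf.stalk w)
        (Xb.obj.left.presheaf.stalk w ⧸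
          IsLocalRing.maximalIdeal (Xb.obj.left.presheaf.stalk w)) = 1 := by
      rw [Module.length_eq_one_iff, isSimpleModule_iff_isCoatom]
      exact Ideal.isMaximal_def.mp (IsLocalRing.maximalIdeal.isMaximal _)
    rw [this]
    rfl
  have hpull := T.cl_pull d ξ H1 (Or.inr H2)
  -- the trace
  have hcomm : T.cl Pb ξ * T.cl Pb (WeilCoh.sm d (genericPoint Xb.obj.left)) =
      T.cl Pb (WeilCoh.sm d (genericPoint Xb.obj.left)) * T.cl Pb ξ :=
    (mul_comm_of_even T Pb _ _ (T.cl_mem Pb _) _).symm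
  rw [hcomm, tr_cl_section_mul' T d p hd₁, cl_generic, one_mul, hpull]
  have hsimp : ∀ w : {w : Xb.obj.left //
      WeilCoh.IsCompPt ((WeilCoh.sm d) ⁻¹' closure ({ξ} : Set Pb.obj.left)) w},
      (WeilCoh.preimMult (WeilCoh.sm d) ξ w.1 w.2.1 : K) • T.cl Xb w.1 = T.cl Xb w.1 := by
    intro w
    rw [H2 w.1 w.2, Nat.cast_one, one_smul]
  rw [finsum_congr hsimp]
  -- finiteness
  have hfin : Finite {w : Xb.obj.left //
      WeilCoh.IsCompPt ((WeilCoh.sm d) ⁻¹' closure ({ξ} : Set Pb.obj.left)) w} := by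
    have := (finite_fixSet p q G jG d hj₁ hj₂ hd₁ hd₂ N hN hloc).to_subtype
    exact Finite.of_injective (fun w => (⟨w.1, (hcomp w.1).mp w.2⟩ : fixSet jG d))
      (fun a b h => Subtype.ext (congrArg (fun z : fixSet jG d => z.1) h))
  haveI := Fintype.ofFinite {w : Xb.obj.left //
      WeilCoh.IsCompPt ((WeilCoh.sm d) ⁻¹' closure ({ξ} : Set Pb.obj.left)) w}
  rw [finsum_eq_sum_of_fintype, map_sum]
  have htr : ∀ w : {w : Xb.obj.left //
      WeilCoh.IsCompPt ((WeilCoh.sm d) ⁻¹' closure ({ξ} : Set Pb.obj.left)) w},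
      T.tr Xb (T.cl Xb w.1) = 1 := fun w =>
    tr_cl_closedPoint T Xb w.1 (hclosed w.1 ((hcomp w.1).mp w.2))
  rw [Finset.sum_congr rfl (fun w _ => htr w), Finset.sum_const, Finset.card_univ, nsmul_eq_mul,
    mul_one, ← Nat.card_eq_fintype_card]
  congr 1
  exact Nat.card_congr (Equiv.subtypeEquivRight hcomp)

end Fix

end Groth.Agent.Lib.Seat72.ZetaFix
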