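import Mathlib
import Groth.Agent.Lib.Seat72ZetaGenB
import Groth.Agent.Lib.Seat18GaloisOrbit

/-!
# Seat72: closed points of `X ×_k k̄` and effective 0-cycles fixed by Galois
-/

set_option autoImplicit false
set_option maxSynthPendingDepth 3
set_option linter.style.haveILetI false
set_option linter.unusedSectionVars false

universe u

open AlgebraicGeometry CategoryTheory CategoryTheory.Limits

namespace Groth.Agent.Lib.Seat72.ZetaGal

open Groth.Agent.Lib.Helper10.GaloisOrbit Groth.Agent.Lib.Seat72.ZetaGenA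
  Groth.Agent.Lib.Seat72.ZetaGenB

section Points

variable {k : Type u} [Field k] (K : Type u) [Field K] [Algebra k K] [IsAlgClosure k K]
  {X : Scheme.{u}} (f : X ⟶ Spec (CommRingCat.of k)) [LocallyOfFiniteType f]

theorem specMap_algebraMap_self :
    Spec.map (CommRingCat.ofHom (algebraMap K K)) = 𝟙 (Spec (CommRingCat.of K)) := by
  have : CommRingCat.ofHom (algebraMap K K) = 𝟙 (CommRingCat.of K) := rfl
  rw [this, Spec.map_id]

/-- the section of `X ×_k K → Spec K` attached to a `K`-point of `X`. -/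
noncomputable def sec (a : Pts f K) :
    Spec (CommRingCat.of K) ⟶ pullback f (Spec.map (CommRingCat.ofHom (algebraMap k K))) :=
  pullback.lift a.1 (𝟙 _) (by rw [a.2, Category.id_comp])

theorem sec_fst (a : Pts f K) : sec K f a ≫ pullback.fst f _ = a.1 := pullback.lift_fst _ _ _

theorem sec_snd (a : Pts f K) : sec K f a ≫ pullback.snd f _ = 𝟙 _ := pullback.lift_snd _ _ _

theorem sec_snd' (a : Pts f K) :
    sec K f a ≫ pullback.snd f (Spec.map (CommRingCat.ofHom (algebraMap k K))) =
      Spec.map (CommRingCat.ofHom (algebraMap K K)) := by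
  rw [sec_snd, specMap_algebraMap_self]

/-- the closed point of `X ×_k K` attached to a `K`-point of `X`. -/
noncomputable def ptOf (a : Pts f K) :
    ↑(pullback f (Spec.map (CommRingCat.ofHom (algebraMap k K)))) :=
  sec K f a (IsLocalRing.closedPoint K)

theorem fst_ptOf (a : Pts f K) : (pullback.fst f _).base (ptOf K f a) = a.pt := by
  have := congrArg (fun φ : Spec (CommRingCat.of K) ⟶ X => φ (IsLocalRing.closedPoint K))
    (sec_fst K f a)
  exact this

theorem isClosed_ptOf (a : Pts f K) : IsClosed ({ptOf K f a} : Set _) :=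
  isClosed_of_point K K (pullback.snd f (Spec.map (CommRingCat.ofHom (algebraMap k K))))
    (sec K f a) (sec_snd' K f a)

/-- a section of `X ×_k K → Spec K` comes from a `K`-point of `X`. -/
theorem exists_eq_sec
    (s : Spec (CommRingCat.of K) ⟶ pullback f (Spec.map (CommRingCat.ofHom (algebraMap k K))))
    (hs : s ≫ pullback.snd f _ = 𝟙 _) : ∃ a : Pts f K, sec K f a = s := by
  refine ⟨⟨s ≫ pullback.fst f _, ?_⟩, ?_⟩
  · rw [Category.assoc, pullback.condition, ← Category.assoc, hs, Category.id_comp]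
  · apply pullback.hom_ext
    · rw [sec_fst]
    · rw [sec_snd, hs]

theorem exists_ptOf_eq (y : ↑(pullback f (Spec.map (CommRingCat.ofHom (algebraMap k K)))))
    (hy : IsClosed ({y} : Set _)) : ∃ a : Pts f K, ptOf K f a = y := by
  haveI : IsAlgClosed K := IsAlgClosure.isAlgClosed k
  obtain ⟨s, hs, hsy⟩ := exists_point_of_isClosed K K
    (pullback.snd f (Spec.map (CommRingCat.ofHom (algebraMap k K)))) y hy
  rw [specMap_algebraMap_self] at hs
  obtain ⟨a, rfl⟩ := exists_eq_sec K f s hs
  exact ⟨a, hsy⟩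

theorem ptOf_injective : Function.Injective (ptOf K f) := by
  intro a a' h
  haveI : IsAlgClosed K := IsAlgClosure.isAlgClosed k
  haveI : IsAlgClosure K K := ⟨inferInstance, inferInstance⟩
  obtain ⟨σ, hσ⟩ := exists_algEquiv_of_eq K K
    (pullback.snd f (Spec.map (CommRingCat.ofHom (algebraMap k K)))) (sec K f a) (sec K f a')
    (sec_snd' K f a) (sec_snd' K f a') h
  have hσid : (σ.toRingHom : K →+* K) = RingHom.id K := by
    ext c
    exact σ.commutes c
  have h1 : sec K f a' = sec K f a := by
    rw [hσ, hσid]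
    have : CommRingCat.ofHom (RingHom.id K) = 𝟙 (CommRingCat.of K) := rfl
    rw [this, Spec.map_id, Category.id_comp]
  apply Subtype.ext
  rw [← sec_fst K f a, ← sec_fst K f a', h1]

/-- the image of a closed point of `X ×_k K` is closed. -/
theorem isClosed_fst (y : ↑(pullback f (Spec.map (CommRingCat.ofHom (algebraMap k K)))))
    (hy : IsClosed ({y} : Set _)) : IsClosed ({(pullback.fst f _).base y} : Set X) := by
  haveI : Algebra.IsAlgebraic k K := IsAlgClosure.isAlgebraic
  obtain ⟨a, rfl⟩ := exists_ptOf_eq K f y hy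
  rw [fst_ptOf]
  exact isClosed_of_point k K f a.1 a.2

theorem exists_pts_of_isClosed (x : X) (hx : IsClosed ({x} : Set X)) :
    ∃ a : Pts f K, a.pt = x := by
  haveI : IsAlgClosed K := IsAlgClosure.isAlgClosed k
  obtain ⟨p, hp, hpx⟩ := exists_point_of_isClosed k K f x hx
  exact ⟨⟨p, hp⟩, hpx⟩

end Points

section Galois

variable {k : Type u} [Field k] (K : Type u) [Field K] [Algebra k K] [IsAlgClosure k K]
  {X : Scheme.{u}} (f : X ⟶ Spec (CommRingCat.of k)) [LocallyOfFiniteType f]
  (τ : (K ≃ₐ[k] K) → (pullback f (Spec.map (CommRingCat.ofHom (algebraMap k K))) ⟶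
    pullback f (Spec.map (CommRingCat.ofHom (algebraMap k K)))))
  (hτ1 : ∀ σ, τ σ ≫ pullback.fst f _ = pullback.fst f _)
  (hτ2 : ∀ σ, τ σ ≫ pullback.snd f (Spec.map (CommRingCat.ofHom (algebraMap k K))) =
    pullback.snd f _ ≫ Spec.map (CommRingCat.ofHom (σ : K →+* K)))

include hτ1 hτ2 in
/-- a point of `X ×_k K` over a closed point of `X` is closed. -/
theorem isClosed_of_isClosed_fst
    (y : ↑(pullback f (Spec.map (CommRingCat.ofHom (algebraMap k K)))))
    (hy : IsClosed ({(pullback.fst f (Spec.map (CommRingCat.ofHom (algebraMap k K)))).base y} :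
      Set X)) : IsClosed ({y} : Set _) := by
  haveI : IsAlgClosed K := IsAlgClosure.isAlgClosed k
  haveI : Algebra.IsAlgebraic k K := IsAlgClosure.isAlgebraic
  obtain ⟨a₀, ha₀⟩ := exists_pts_of_isClosed K f _ hy
  have h1 : (pullback.fst f (Spec.map (CommRingCat.ofHom (algebraMap k K)))).base (ptOf K f a₀) =
      (pullback.fst f (Spec.map (CommRingCat.ofHom (algebraMap k K)))).base y := by
    rw [fst_ptOf, ha₀]
  obtain ⟨σ, hσ⟩ := (Groth.Agent.Lib.Seat18.GaloisOrbit.fibre_eq_orbit f
    (Spec.map (CommRingCat.ofHom (algebraMap k K))) rfl τ hτ1 hτ2 (ptOf K f a₀) y).mp h1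
  let s' : Spec (CommRingCat.of K) ⟶ pullback f (Spec.map (CommRingCat.ofHom (algebraMap k K))) :=
    Spec.map (CommRingCat.ofHom (σ.symm : K →+* K)) ≫ sec K f a₀ ≫ τ σ
  have hs' : s' ≫ pullback.snd f _ = 𝟙 _ := by
    simp only [s', Category.assoc]
    rw [hτ2, ← Category.assoc (sec K f a₀), sec_snd, Category.id_comp, ← Spec.map_comp]
    have : CommRingCat.ofHom (σ : K →+* K) ≫ CommRingCat.ofHom (σ.symm : K →+* K) =
        𝟙 (CommRingCat.of K) := by
      ext c
      exact σ.symm_apply_apply c
    rw [this, Spec.map_id]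
  obtain ⟨a, ha⟩ := exists_eq_sec K f s' hs'
  have hpt : ptOf K f a = y := by
    rw [ptOf, ha, ← hσ]
    change (τ σ) ((sec K f a₀) ((Spec.map (CommRingCat.ofHom (σ.symm : K →+* K)))
      (IsLocalRing.closedPoint K))) = (τ σ) (ptOf K f a₀)
    congr 2
    exact Subsingleton.elim (α := PrimeSpectrum K) _ _
  rw [← hpt]
  exact isClosed_ptOf K f a

include hτ1 hτ2 in
/-- the number of points of `X ×_k K` over a closed point `x` is the degree of `x`. -/
theorem card_fiber [PerfectField k] (x : X) (hx : IsClosed ({x} : Set X)) :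
    Nat.card {y : ↑(pullback f (Spec.map (CommRingCat.ofHom (algebraMap k K)))) //
      (pullback.fst f (Spec.map (CommRingCat.ofHom (algebraMap k K)))).base y = x} =
      EGA4loc.residueDegree f x := by
  haveI : IsAlgClosed K := IsAlgClosure.isAlgClosed k
  let Φ : {a : Pts f K // a.pt = x} →
      {y : ↑(pullback f (Spec.map (CommRingCat.ofHom (algebraMap k K)))) //
        (pullback.fst f (Spec.map (CommRingCat.ofHom (algebraMap k K)))).base y = x} :=
    fun a => ⟨ptOf K f a.1, (fst_ptOf K f a.1).trans a.2⟩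
  have hΦ : Function.Bijective Φ := by
    constructor
    · intro a a' h
      exact Subtype.ext (ptOf_injective K f (congrArg Subtype.val h))
    · rintro ⟨y, hy⟩
      have hycl : IsClosed ({y} : Set _) :=
        isClosed_of_isClosed_fst K f τ hτ1 hτ2 y (by rw [hy]; exact hx)
      obtain ⟨a, ha⟩ := exists_ptOf_eq K f y hycl
      refine ⟨⟨a, ?_⟩, Subtype.ext ha⟩
      rw [← fst_ptOf K f a, ha, hy]
  rw [← Nat.card_congr (Equiv.ofBijective Φ hΦ)]
  have hdeg := residueDegree_ne_zero_of_isClosed f x hx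
  have h := residueDegree_eq_finrank f x
  letI : Algebra k (X.residueField x) := (resHom k f x).hom.toAlgebra
  obtain ⟨e⟩ := exists_fiber_equiv f K x
  rw [← Nat.card_congr e, h]
  haveI : FiniteDimensional k (X.residueField x) :=
    Module.finite_of_finrank_pos (Nat.pos_of_ne_zero (by rw [← h]; exact hdeg))
  haveI : Algebra.IsSeparable k (X.residueField x) :=
    Algebra.IsAlgebraic.isSeparable_of_perfectField
  exact AlgHom.natCard_of_splits k (X.residueField x) K (fun _ => IsAlgClosed.splits _)

theorem fst_surjective :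
    Function.Surjective (pullback.fst f (Spec.map (CommRingCat.ofHom (algebraMap k K)))).base := by
  intro x
  obtain ⟨z, hz, -⟩ := Scheme.Pullback.exists_preimage_pullback (f := f)
    (g := Spec.map (CommRingCat.ofHom (algebraMap k K))) x (IsLocalRing.closedPoint K)
    (Subsingleton.elim (α := PrimeSpectrum k) _ _)
  exact ⟨z, hz⟩

include hτ1 hτ2 in
theorem finite_fiber [PerfectField k] (x : X) (hx : IsClosed ({x} : Set X)) :
    {y : ↑(pullback f (Spec.map (CommRingCat.ofHom (algebraMap k K)))) |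
      (pullback.fst f (Spec.map (CommRingCat.ofHom (algebraMap k K)))).base y = x}.Finite := by
  have h := card_fiber K f τ hτ1 hτ2 x hx
  have hne : Nat.card {y : ↑(pullback f (Spec.map (CommRingCat.ofHom (algebraMap k K)))) //
      (pullback.fst f (Spec.map (CommRingCat.ofHom (algebraMap k K)))).base y = x} ≠ 0 := by
    rw [h]; exact residueDegree_ne_zero_of_isClosed f x hx
  exact Nat.finite_of_card_ne_zero hne

include hτ1 hτ2 in
/-- pulling back a 0-cycle: finiteness of the support and the degree. -/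
theorem finsum_comp [PerfectField k] (c : X → ℕ) (hfin : (Function.support c).Finite)
    (hcl : ∀ x, c x ≠ 0 → IsClosed ({x} : Set X)) :
    (Function.support
      (c ∘ (pullback.fst f (Spec.map (CommRingCat.ofHom (algebraMap k K)))).base)).Finite ∧
    ∑ᶠ y, c ((pullback.fst f (Spec.map (CommRingCat.ofHom (algebraMap k K)))).base y) =
      ∑ᶠ x, c x * EGA4loc.residueDegree f x := by
  classical
  set π := (pullback.fst f (Spec.map (CommRingCat.ofHom (algebraMap k K)))).base with hπ
  have hT : (Function.support (c ∘ π)).Finite := by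
    have hsub : Function.support (c ∘ π) ⊆ ⋃ x ∈ hfin.toFinset, {y | π y = x} := by
      intro y hy
      simp only [Set.mem_iUnion, Set.mem_ofPred_eq, exists_prop]
      exact ⟨π y, (Set.Finite.mem_toFinset hfin).mpr hy, rfl⟩
    refine (Set.Finite.biUnion (Finset.finite_toSet _) fun x hx => ?_).subset hsub
    have hx' : c x ≠ 0 := (Set.Finite.mem_toFinset hfin).mp hx
    exact finite_fiber K f τ hτ1 hτ2 x (hcl x hx')
  refine ⟨hT, ?_⟩
  have h1 : ∑ᶠ y, c (π y) = ∑ y ∈ hT.toFinset, c (π y) :=
    finsum_eq_sum_of_support_subset _ (by rw [Set.Finite.coe_toFinset]; rfl)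
  have h2 : ∑ᶠ x, c x * EGA4loc.residueDegree f x =
      ∑ x ∈ hfin.toFinset, c x * EGA4loc.residueDegree f x := by
    apply finsum_eq_sum_of_support_subset
    rw [Set.Finite.coe_toFinset]
    intro x hx
    rw [Function.mem_support] at hx ⊢
    exact left_ne_zero_of_mul hx
  have hmaps : ∀ y ∈ hT.toFinset, π y ∈ hfin.toFinset := by
    intro y hy
    rw [Set.Finite.mem_toFinset] at hy ⊢
    exact hy
  rw [h1, h2, ← Finset.sum_fiberwise_of_maps_to hmaps]
  refine Finset.sum_congr rfl fun x hx => ?_
  have hx' : c x ≠ 0 := (Set.Finite.mem_toFinset hfin).mp hx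
  have h3 : ∑ y ∈ hT.toFinset.filter (fun y => π y = x), c (π y) =
      ∑ y ∈ hT.toFinset.filter (fun y => π y = x), c x :=
    Finset.sum_congr rfl fun y hy => by rw [(Finset.mem_filter.mp hy).2]
  rw [h3, Finset.sum_const, smul_eq_mul, mul_comm]
  congr 1
  rw [← card_fiber K f τ hτ1 hτ2 x (hcl x hx')]
  symm
  apply Nat.subtype_card
  intro y
  rw [Finset.mem_filter, Set.Finite.mem_toFinset]
  constructor
  · exact fun h => h.2
  · intro h
    refine ⟨?_, h⟩
    change c (π y) ≠ 0
    rw [h]; exact hx'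

include hτ1 hτ2 in
/-- effective 0-cycles of degree `n` on `X` correspond to Galois-fixed effective 0-cycles of
degree `n` on `X ×_k K`. -/
theorem bijOn [PerfectField k] (n : ℕ) :
    Set.BijOn
      (fun c : X → ℕ => c ∘ (pullback.fst f (Spec.map (CommRingCat.ofHom
        (algebraMap k K)))).base)
      {c : X → ℕ | (Function.support c).Finite ∧ (∀ x, c x ≠ 0 → IsClosed ({x} : Set X)) ∧
        ∑ᶠ x, c x * EGA4loc.residueDegree f x = n}
      {d : ↑(pullback f (Spec.map (CommRingCat.ofHom (algebraMap k K)))) → ℕ |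
        (Function.support d).Finite ∧ (∀ y, d y ≠ 0 → IsClosed ({y} : Set _)) ∧
        ∑ᶠ y, d y = n ∧ ∀ σ y, d ((τ σ).base y) = d y} := by
  haveI : IsAlgClosed K := IsAlgClosure.isAlgClosed k
  haveI : Algebra.IsAlgebraic k K := IsAlgClosure.isAlgebraic
  set π := (pullback.fst f (Spec.map (CommRingCat.ofHom (algebraMap k K)))).base with hπ
  have hπτ : ∀ σ y, π ((τ σ).base y) = π y := by
    intro σ y
    have := congrArg (fun φ : pullback f (Spec.map (CommRingCat.ofHom (algebraMap k K))) ⟶ X =>
      φ.base y) (hτ1 σ)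
    exact this
  refine ⟨?_, ?_, ?_⟩
  · rintro c ⟨h1, h2, h3⟩
    obtain ⟨hT, hsum⟩ := finsum_comp K f τ hτ1 hτ2 c h1 h2
    refine ⟨hT, fun y hy => ?_, hsum.trans h3, fun σ y => ?_⟩
    · exact isClosed_of_isClosed_fst K f τ hτ1 hτ2 y (h2 (π y) hy)
    · change c (π ((τ σ).base y)) = c (π y)
      rw [hπτ]
  · intro c₁ _ c₂ _ h
    funext x
    obtain ⟨y, rfl⟩ := fst_surjective K f x
    exact congrFun h y
  · rintro d ⟨hd1, hd2, hd3, hd4⟩
    let c : X → ℕ := fun x => d (Classical.choose (fst_surjective K f x))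
    have hc : ∀ x, π (Classical.choose (fst_surjective K f x)) = x := fun x =>
      Classical.choose_spec (fst_surjective K f x)
    have hcomp : c ∘ π = d := by
      funext y
      have key : ∀ y₀, π y₀ = π y → d y₀ = d y := by
        intro y₀ h0
        obtain ⟨σ, hσ⟩ := (Groth.Agent.Lib.Seat18.GaloisOrbit.fibre_eq_orbit f
          (Spec.map (CommRingCat.ofHom (algebraMap k K))) rfl τ hτ1 hτ2 y₀ y).mp h0
        rw [← hσ, hd4]
      exact key _ (hc (π y))
    have h1 : (Function.support c).Finite := by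
      refine (hd1.image π).subset ?_
      intro x hx
      exact ⟨Classical.choose (fst_surjective K f x), hx, hc x⟩
    have h2 : ∀ x, c x ≠ 0 → IsClosed ({x} : Set X) := by
      intro x hx
      have := isClosed_fst K f _ (hd2 _ hx)
      rwa [hc x] at this
    obtain ⟨-, hsum⟩ := finsum_comp K f τ hτ1 hτ2 c h1 h2
    refine ⟨c, ⟨h1, h2, ?_⟩, hcomp⟩
    rw [← hsum, ← hd3, ← hcomp]
    rfl

end Galois

end Groth.Agent.Lib.Seat72.ZetaGal
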