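import Mathlib
import Groth.Agent.Lib.Seat72ZetaGenD

/-!
# Seat72: the zeta function of a base change to a finite extension

* `ptsBaseChangeEquiv`: `X_{k'}(k'') ≃ X(k'')` for `k ⊆ k' ⊆ k''`;
* `nPts_baseChange`: `N_j(X_{k'}/k') = N_{rj}(X/k)`, `r = [k' : k]`;
* `zeta_baseChange`: `Z(X_{k'}, t^r) = ∏_{i<r} Z(X, ξ^i t)` in `ℂ⟦t⟧`.
-/

set_option autoImplicit false
set_option maxSynthPendingDepth 3
set_option linter.style.haveILetI false
set_option linter.unusedSectionVars false

universe u

open AlgebraicGeometry CategoryTheory CategoryTheory.Limits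

namespace Groth.Agent.Lib.Seat72.ZetaGenE

open Groth.Agent.Lib.Seat72.ZetaGenA Groth.Agent.Lib.Seat72.ZetaGenB
  Groth.Agent.Lib.Seat72.ZetaGenC Groth.Agent.Lib.Seat72.ZetaGenD Groth.Agent.Lib.Seat72.ZetaPS

section BaseChange

variable {k : Type u} [Field k] {X : Scheme.{u}} (f : X ⟶ Spec (CommRingCat.of k))
  (k' : Type u) [Field k'] [Algebra k k'] (k'' : Type u) [Field k''] [Algebra k k'']
  [Algebra k' k''] [IsScalarTower k k' k'']

theorem specMap_tower :
    Spec.map (CommRingCat.ofHom (algebraMap k' k'')) ≫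
      Spec.map (CommRingCat.ofHom (algebraMap k k')) =
    Spec.map (CommRingCat.ofHom (algebraMap k k'')) := by
  rw [← Spec.map_comp]
  congr 1
  ext c
  exact (IsScalarTower.algebraMap_apply k k' k'' c).symm

/-- points of the base change. -/
noncomputable def ptsBaseChangeEquiv :
    Pts (pullback.snd f (Spec.map (CommRingCat.ofHom (algebraMap k k')))) k'' ≃ Pts f k'' where
  toFun h := ⟨h.1 ≫ pullback.fst _ _, by
    rw [Category.assoc, pullback.condition, ← Category.assoc, h.2, specMap_tower]⟩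
  invFun g := ⟨pullback.lift g.1 (Spec.map (CommRingCat.ofHom (algebraMap k' k'')))
    (by rw [g.2, specMap_tower]), pullback.lift_snd _ _ _⟩
  left_inv h := by
    apply Subtype.ext
    apply pullback.hom_ext
    · rw [pullback.lift_fst]
    · rw [pullback.lift_snd]; exact h.2.symm
  right_inv g := Subtype.ext (pullback.lift_fst _ _ _)

end BaseChange

section NPts

variable {k : Type u} [Field k] [Finite k] {X : Scheme.{u}} (f : X ⟶ Spec (CommRingCat.of k))
  [LocallyOfFiniteType f] [QuasiCompact f]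
  (k' : Type u) [Field k'] [Algebra k k'] [Finite k']

theorem nPts_baseChange (j : ℕ) :
    Zeta.nPts (pullback.snd f (Spec.map (CommRingCat.ofHom (algebraMap k k')))) j =
      Zeta.nPts f (Module.finrank k k' * j) := by
  by_cases hj : j = 0
  · subst hj
    rw [mul_zero, nPts_zero, nPts_zero]
  obtain ⟨k'', _, _, _, hk''⟩ := exists_extension k' j hj
  letI : Algebra k k'' := ((algebraMap k' k'').comp (algebraMap k k')).toAlgebra
  haveI : IsScalarTower k k' k'' := IsScalarTower.of_algebraMap_eq fun _ => rfl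
  rw [← hk'', nPts_eq_pointCount, Module.finrank_mul_finrank k k' k'', nPts_eq_pointCount,
    pointCount_eq_card_pts, pointCount_eq_card_pts]
  exact Nat.card_congr (ptsBaseChangeEquiv f k' k'')

end NPts

section PS

open PowerSeries

theorem map_E {K K' : Type*} [Field K] [CharZero K] [Field K'] [CharZero K'] (φ : K →+* K')
    {L : K⟦X⟧} (hL : constantCoeff L = 0) : map φ (E L) = E (map φ L) := by
  have h := PowerSeries.map_subst (hasSubst hL) (h := φ) (exp K)
  rw [PowerSeries.map_exp] at h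
  exact h

theorem subst_X_pow_E {K : Type*} [Field K] [CharZero K] (r : ℕ) (hr : r ≠ 0)
    {L : K⟦X⟧} (hL : constantCoeff L = 0) :
    subst ((X : K⟦X⟧) ^ r) (E L) = E (subst ((X : K⟦X⟧) ^ r) L) := by
  rw [E, E, PowerSeries.subst_comp_subst_apply (hasSubst hL) (HasSubst.X_pow hr)]

theorem geom_sum_root (r : ℕ) (_hr : r ≠ 0) (ξ : ℂ) (hξ : IsPrimitiveRoot ξ r) (n : ℕ) :
    ∑ i ∈ Finset.range r, (ξ ^ i) ^ n = if r ∣ n then (r : ℂ) else 0 := by
  have h1 : ∀ i, (ξ ^ i) ^ n = (ξ ^ n) ^ i := fun i => by rw [← pow_mul, ← pow_mul, mul_comm]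
  simp_rw [h1]
  split_ifs with h
  · rw [(hξ.pow_eq_one_iff_dvd n).mpr h]
    simp
  · have hne : ξ ^ n ≠ 1 := fun h1 => h ((hξ.pow_eq_one_iff_dvd n).mp h1)
    have h2 := geom_sum_mul (ξ ^ n) r
    rw [← pow_mul, mul_comm n r, pow_mul, hξ.pow_eq_one, one_pow, sub_self] at h2
    exact (mul_eq_zero.mp h2).resolve_right (sub_ne_zero_of_ne hne)

/-- the power series identity behind the base change formula. -/
theorem zeta_baseChange_ps (r : ℕ) (hr : r ≠ 0) (ξ : ℂ) (hξ : IsPrimitiveRoot ξ r)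
    (a b : ℕ → ℚ) (hab : ∀ j, a j = b (r * j)) :
    subst ((X : ℂ⟦X⟧) ^ r)
        (map (algebraMap ℚ ℂ) (E (PowerSeries.mk fun m => a m / m))) =
      ∏ i ∈ Finset.range r,
        rescale (ξ ^ i) (map (algebraMap ℚ ℂ) (E (PowerSeries.mk fun m => b m / m))) := by
  have ha0 : constantCoeff (PowerSeries.mk fun m => a m / m) = 0 := by
    rw [← coeff_zero_eq_constantCoeff_apply, coeff_mk]; simp
  have hb0 : constantCoeff (PowerSeries.mk fun m => b m / m) = 0 := by
    rw [← coeff_zero_eq_constantCoeff_apply, coeff_mk]; simp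
  have ha0' : constantCoeff (map (algebraMap ℚ ℂ) (PowerSeries.mk fun m => a m / m)) = 0 := by
    rw [← coeff_zero_eq_constantCoeff_apply, coeff_map, coeff_mk]; simp
  have hb0' : constantCoeff (map (algebraMap ℚ ℂ) (PowerSeries.mk fun m => b m / m)) = 0 := by
    rw [← coeff_zero_eq_constantCoeff_apply, coeff_map, coeff_mk]; simp
  rw [map_E _ ha0, map_E _ hb0, subst_X_pow_E r hr ha0']
  have h1 : ∀ i ∈ Finset.range r,
      rescale (ξ ^ i) (E (map (algebraMap ℚ ℂ) (PowerSeries.mk fun m => b m / m))) =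
        E (rescale (ξ ^ i) (map (algebraMap ℚ ℂ) (PowerSeries.mk fun m => b m / m))) :=
    fun i _ => (E_rescale _ hb0').symm
  rw [Finset.prod_congr rfl h1, ← E_sum]
  · congr 1
    ext n
    rw [← PowerSeries.expand_apply r hr, PowerSeries.coeff_expand, map_sum]
    simp_rw [coeff_rescale, coeff_map, coeff_mk]
    rw [← Finset.sum_mul, geom_sum_root r hr ξ hξ n]
    split_ifs with h
    · obtain ⟨j, rfl⟩ := h
      rw [Nat.mul_div_cancel_left _ (Nat.pos_of_ne_zero hr), hab j]
      by_cases hj : j = 0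
      · subst hj; simp
      · have hr' : (r : ℂ) ≠ 0 := Nat.cast_ne_zero.mpr hr
        have hj' : (j : ℂ) ≠ 0 := Nat.cast_ne_zero.mpr hj
        simp only [map_div₀, map_natCast, Nat.cast_mul, map_mul]
        field_simp
    · rw [zero_mul]
  · intro i _
    rw [← coeff_zero_eq_constantCoeff_apply, coeff_rescale, coeff_map, coeff_mk]
    simp

end PS

section Main

variable {k : Type u} [Field k] [Finite k] {X : Scheme.{u}} (f : X ⟶ Spec (CommRingCat.of k))
  [LocallyOfFiniteType f] [QuasiCompact f]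
  (k' : Type u) [Field k'] [Algebra k k'] [Finite k']

/-- `Z(X_{k'}, t^r) = ∏_{i<r} Z(X, ξ^i t)`. -/
theorem zeta_baseChange (ξ : ℂ) (hξ : IsPrimitiveRoot ξ (Module.finrank k k')) :
    PowerSeries.subst ((PowerSeries.X : PowerSeries ℂ) ^ Module.finrank k k')
        (PowerSeries.map (algebraMap ℚ ℂ) (Zeta.zetaFun
          (pullback.snd f (Spec.map (CommRingCat.ofHom (algebraMap k k')))))) =
      ∏ i ∈ Finset.range (Module.finrank k k'),
        PowerSeries.rescale (ξ ^ i) (PowerSeries.map (algebraMap ℚ ℂ) (Zeta.zetaFun f)) :=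
  zeta_baseChange_ps (Module.finrank k k') Module.finrank_pos.ne' ξ hξ
    (fun m => (Zeta.nPts (pullback.snd f (Spec.map (CommRingCat.ofHom (algebraMap k k')))) m : ℚ))
    (fun m => (Zeta.nPts f m : ℚ)) fun j => by rw [nPts_baseChange f k' j]

end Main

end Groth.Agent.Lib.Seat72.ZetaGenE
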