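import Mathlib
import Groth.Agent.Lib.Seat72ZetaGenD

/-!
# Seat72: points of `Spec R` and zeta functions with `#X(k') = (#k')^i`

* `ptsSpecEquiv`: `k'`-points of `Spec R` over `k` are the `k`-algebra maps `R → k'`;
* `zetaFun_mul_eq_one_of_pointCount`: if `#X(k') = (#k')^i` for all finite extensions `k'` then
  `Z(X, t) (1 - q^i t) = 1`.
-/

set_option autoImplicit false
set_option maxSynthPendingDepth 3
set_option linter.style.haveILetI false
set_option linter.unusedSectionVars false

universe u

open AlgebraicGeometry CategoryTheory CategoryTheory.Limits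

namespace Groth.Agent.Lib.Seat72.ZetaGenF

open Groth.Agent.Lib.Seat72.ZetaGenA Groth.Agent.Lib.Seat72.ZetaGenB
  Groth.Agent.Lib.Seat72.ZetaGenC Groth.Agent.Lib.Seat72.ZetaGenD Groth.Agent.Lib.Seat72.ZetaPS

section Spec

variable (k : Type u) [Field k] (R : Type u) [CommRing R] [Algebra k R]
  (k' : Type u) [Field k'] [Algebra k k']

/-- `k'`-points of `Spec R` over `k` are the `k`-algebra maps `R → k'`. -/
noncomputable def ptsSpecEquiv :
    Pts (Spec.map (CommRingCat.ofHom (algebraMap k R))) k' ≃ (R →ₐ[k] k') where
  toFun h :=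
    { (Spec.preimage h.1 : CommRingCat.of R ⟶ CommRingCat.of k').hom with
      commutes' := fun c => by
        have h1 : Spec.map (CommRingCat.ofHom (algebraMap k R) ≫ Spec.preimage h.1) =
            Spec.map (CommRingCat.ofHom (algebraMap k k')) := by
          rw [Spec.map_comp, Spec.map_preimage]; exact h.2
        have h2 := Spec.map_injective h1
        exact congrArg (fun φ : CommRingCat.of k ⟶ CommRingCat.of k' => φ.hom c) h2 }
  invFun ψ := ⟨Spec.map (CommRingCat.ofHom ψ.toRingHom), by
    rw [← Spec.map_comp]
    congr 1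
    ext c
    exact ψ.commutes c⟩
  left_inv h := by
    apply Subtype.ext
    change Spec.map (CommRingCat.ofHom (Spec.preimage h.1).hom) = h.1
    exact Spec.map_preimage h.1
  right_inv ψ := by
    ext x
    change (Spec.preimage (Spec.map (CommRingCat.ofHom ψ.toRingHom))).hom x = ψ x
    rw [Spec.preimage_map]
    rfl

theorem pointCount_spec :
    SgaExt.pointCount (Spec.map (CommRingCat.ofHom (algebraMap k R))) k' =
      Nat.card (R →ₐ[k] k') :=
  Nat.card_congr (ptsSpecEquiv k R k')

end Spec

section PS

variable {K : Type*} [Field K] [CharZero K]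

theorem E_logSer_pow_mul (a : K) :
    E (logSer fun m => a ^ m) * (1 - PowerSeries.C a * PowerSeries.X) = 1 := by
  have hL := constantCoeff_logSer fun m => a ^ m
  apply eq_one_of_derivative_eq_zero
  · rw [Derivation.leibniz, derivative_E hL, derivative_logSer]
    have h1 : PowerSeries.derivative K (1 - PowerSeries.C a * PowerSeries.X) =
        - PowerSeries.C a := by
      rw [map_sub, Derivation.leibniz]
      simp
    have h2 : (PowerSeries.mk fun m => a ^ (m + 1)) * (1 - PowerSeries.C a * PowerSeries.X) =
        PowerSeries.C a := by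
      ext m
      rw [mul_sub, mul_one, map_sub]
      cases m with
      | zero => simp
      | succ m =>
        rw [mul_comm (PowerSeries.C a) PowerSeries.X, ← mul_assoc, mul_comm _ (PowerSeries.C a),
          PowerSeries.coeff_C_mul, PowerSeries.coeff_succ_mul_X, PowerSeries.coeff_mk,
          PowerSeries.coeff_mk, PowerSeries.coeff_C]
        simp [pow_succ, mul_comm]
    rw [h1]
    simp only [smul_eq_mul]
    calc E (logSer fun m => a ^ m) * -PowerSeries.C a +
        (1 - PowerSeries.C a * PowerSeries.X) *
          (E (logSer fun m => a ^ m) * (PowerSeries.mk fun m => a ^ (m + 1))) =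
        E (logSer fun m => a ^ m) * (-PowerSeries.C a +
          (PowerSeries.mk fun m => a ^ (m + 1)) * (1 - PowerSeries.C a * PowerSeries.X)) := by ring
      _ = 0 := by rw [h2]; ring
  · rw [map_mul, constantCoeff_E hL, one_mul]
    simp

end PS

section Zeta

variable {k : Type u} [Field k] [Finite k] {X : Scheme.{u}} (f : X ⟶ Spec (CommRingCat.of k))
  [LocallyOfFiniteType f] [QuasiCompact f]

/-- if `#X(k') = (#k')^i` for all finite extensions `k'` then `Z(X, t) (1 - q^i t) = 1`. -/
theorem zetaFun_mul_eq_one_of_pointCount (i : ℕ)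
    (hcount : ∀ (k' : Type u) [Field k'] [Algebra k k'] [Finite k'],
      SgaExt.pointCount f k' = Nat.card k' ^ i) :
    Zeta.zetaFun f *
      (1 - PowerSeries.C ((Nat.card k : ℚ) ^ i) * PowerSeries.X) = 1 := by
  have hN : ∀ m : ℕ, m ≠ 0 → Zeta.nPts f m = (Nat.card k ^ i) ^ m := by
    intro m hm
    obtain ⟨k', _, _, _, hk'⟩ := exists_extension k m hm
    rw [← hk', nPts_eq_pointCount, hcount k', Module.natCard_eq_pow_finrank (K := k) (V := k'),
      ← pow_mul, ← pow_mul, mul_comm]
  have hL : Zeta.logZeta f = logSer fun m => ((Nat.card k : ℚ) ^ i) ^ m := by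
    ext m
    simp only [Zeta.logZeta, logSer, PowerSeries.coeff_mk]
    by_cases hm : m = 0
    · subst hm; simp
    · rw [hN m hm]; push_cast; rfl
  rw [zetaFun_eq_E, hL]
  exact E_logSer_pow_mul _

end Zeta

end Groth.Agent.Lib.Seat72.ZetaGenF
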