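import Mathlib
import Groth.Prelude.Def_CohB1
import Groth.Agent.Lib.Helper27PnChart
import Groth.Agent.Lib.Seat72ZetaGenF
import Groth.Agent.S9705

/-!
# Seat72: the zeta function of projective space over a finite field

`P^n_k` is stratified by the locally closed pieces `D₊(T_i) ∩ V₊(T_{i+1}, …, T_n) ≅ 𝔸^i`.
-/

set_option autoImplicit false
set_option maxSynthPendingDepth 3
set_option linter.style.haveILetI false
set_option linter.unusedSectionVars false

universe u

open HomogeneousLocalization MvPolynomial AlgebraicGeometry CategoryTheory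

namespace Groth.Agent.Lib.Seat72.ZetaProj

open Groth.Agent.Lib.Helper27PnChart

section Strata

variable (n : ℕ) (k : Type u) [Field k]

/-- the coordinate ring of the `i`-th standard chart. -/
abbrev A (i : Fin (n + 1)) : Type u := Away (CohB1.polyGrading n k) (X i)

/-- the `i`-th standard chart of projective space. -/
noncomputable def ch (i : Fin (n + 1)) :
    Spec (CommRingCat.of (A n k i)) ⟶ Proj (CohB1.polyGrading n k) :=
  Proj.awayι (CohB1.polyGrading n k) (X i) (X_mem_one n k i) Nat.one_pos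

instance (i : Fin (n + 1)) : IsOpenImmersion (ch n k i) := by
  unfold ch; infer_instance

/-- the coordinate `T_j / T_i` on the `i`-th chart. -/
noncomputable def t (i j : Fin (n + 1)) : A n k i :=
  Away.isLocalizationElem (X_mem_one n k i) (X_mem_one n k j)

theorem ch_mem_basicOpen_iff (i j : Fin (n + 1)) (y : Spec (CommRingCat.of (A n k i))) :
    (ch n k i) y ∈ Proj.basicOpen (CohB1.polyGrading n k) (X j) ↔ t n k i j ∉ y.asIdeal := by
  have h := Proj.awayι_preimage_basicOpen (CohB1.polyGrading n k) (X_mem_one n k i) Nat.one_pos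
    (X_mem_one n k j) Nat.one_pos
  have h2 : y ∈ (ch n k i) ⁻¹ᵁ Proj.basicOpen (CohB1.polyGrading n k) (X j) ↔
      y ∈ PrimeSpectrum.basicOpen (t n k i j) := by
    unfold ch t
    rw [h]
    exact Iff.rfl
  exact h2

theorem range_ch (i : Fin (n + 1)) :
    Set.range (ch n k i) = (Proj.basicOpen (CohB1.polyGrading n k) (X i) : Set _) := by
  have := Proj.opensRange_awayι (CohB1.polyGrading n k) (X i) (X_mem_one n k i) Nat.one_pos
  exact congrArg (fun U : (Proj (CohB1.polyGrading n k)).Opens =>
    (SetLike.coe U : Set (Proj (CohB1.polyGrading n k)))) this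

/-- the ideal of the stratum in the `i`-th chart. -/
noncomputable def J (i : Fin (n + 1)) : Ideal (A n k i) :=
  Ideal.span (Set.range fun j : {j : Fin (n + 1) // i < j} => t n k i j.1)

/-- the `i`-th stratum. -/
noncomputable def g (i : Fin (n + 1)) :
    Spec (CommRingCat.of (A n k i ⧸ J n k i)) ⟶ Proj (CohB1.polyGrading n k) :=
  Spec.map (CommRingCat.ofHom (Ideal.Quotient.mk (J n k i))) ≫ ch n k i

instance (i : Fin (n + 1)) : IsImmersion (g n k i) := by
  unfold g
  haveI : IsClosedImmersion (Spec.map (CommRingCat.ofHom (Ideal.Quotient.mk (J n k i)))) :=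
    IsClosedImmersion.spec_of_quotient_mk (R := CommRingCat.of (A n k i)) (J n k i)
  infer_instance

theorem mem_range_g_iff (i : Fin (n + 1)) (x : Proj (CohB1.polyGrading n k)) :
    x ∈ Set.range (g n k i) ↔ x ∈ Proj.basicOpen (CohB1.polyGrading n k) (X i) ∧
      ∀ j, i < j → x ∉ Proj.basicOpen (CohB1.polyGrading n k) (X j) := by
  have hrq : Set.range (Spec.map (CommRingCat.ofHom (Ideal.Quotient.mk (J n k i)))) =
      PrimeSpectrum.zeroLocus (J n k i : Set (A n k i)) := by
    have := range_comap_of_surjective _ (Ideal.Quotient.mk (J n k i))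
      Ideal.Quotient.mk_surjective
    rw [Ideal.mk_ker] at this
    exact this
  have hzl : ∀ y : Spec (CommRingCat.of (A n k i)),
      y ∈ PrimeSpectrum.zeroLocus (J n k i : Set (A n k i)) ↔
        ∀ j, i < j → t n k i j ∈ y.asIdeal := by
    intro y
    rw [J, PrimeSpectrum.zeroLocus_span]
    constructor
    · intro h j hj
      exact h ⟨⟨j, hj⟩, rfl⟩
    · rintro h _ ⟨j, rfl⟩
      exact h j.1 j.2
  constructor
  · rintro ⟨z, rfl⟩
    set y := Spec.map (CommRingCat.ofHom (Ideal.Quotient.mk (J n k i))) z with hy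
    have hyz : y ∈ PrimeSpectrum.zeroLocus (J n k i : Set _) := by
      rw [← hrq]; exact ⟨z, rfl⟩
    have hgz : (g n k i) z = (ch n k i) y := rfl
    rw [hgz]
    refine ⟨?_, fun j hj => ?_⟩
    · rw [← SetLike.mem_coe, ← range_ch]; exact ⟨y, rfl⟩
    · rw [ch_mem_basicOpen_iff, not_not]
      exact (hzl y).mp hyz j hj
  · rintro ⟨hx, hxj⟩
    rw [← SetLike.mem_coe, ← range_ch] at hx
    obtain ⟨y, rfl⟩ := hx
    have hyz : y ∈ PrimeSpectrum.zeroLocus (J n k i : Set _) := by
      rw [hzl]
      intro j hj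
      have := hxj j hj
      rwa [ch_mem_basicOpen_iff, not_not] at this
    rw [← hrq] at hyz
    obtain ⟨z, rfl⟩ := hyz
    exact ⟨z, rfl⟩

theorem existsUnique_stratum (x : Proj (CohB1.polyGrading n k)) :
    ∃! i, x ∈ Set.range (g n k i) := by
  classical
  have hcov : ∃ i, x ∈ Proj.basicOpen (CohB1.polyGrading n k) (X i) := by
    have h := iSup_basicOpen_X n k
    have hx : x ∈ (⊤ : (Proj (CohB1.polyGrading n k)).Opens) := trivial
    rw [← h] at hx
    exact TopologicalSpace.Opens.mem_iSup.mp hx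
  set S : Finset (Fin (n + 1)) :=
    Finset.univ.filter fun i => x ∈ Proj.basicOpen (CohB1.polyGrading n k) (X i) with hS
  have hSne : S.Nonempty := by
    obtain ⟨i, hi⟩ := hcov
    exact ⟨i, Finset.mem_filter.mpr ⟨Finset.mem_univ _, hi⟩⟩
  refine ⟨S.max' hSne, ?_, ?_⟩
  · beta_reduce
    rw [mem_range_g_iff]
    refine ⟨(Finset.mem_filter.mp (S.max'_mem hSne)).2, fun j hj hxj => ?_⟩
    have : j ≤ S.max' hSne := S.le_max' j (Finset.mem_filter.mpr ⟨Finset.mem_univ _, hxj⟩)
    exact absurd hj (not_lt.mpr this)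
  · intro i hi
    beta_reduce at hi
    rw [mem_range_g_iff] at hi
    apply le_antisymm
    · exact S.le_max' i (Finset.mem_filter.mpr ⟨Finset.mem_univ _, hi.1⟩)
    · by_contra hlt
      rw [not_le] at hlt
      exact hi.2 _ hlt (Finset.mem_filter.mp (S.max'_mem hSne)).2

/-- the structure map `k → A_i`. -/
noncomputable def str (i : Fin (n + 1)) : k →+* A n k i :=
  (fromZeroRingHom (CohB1.polyGrading n k) (Submonoid.powers (X i))).comp
    (algebraMap k (CohB1.polyGrading n k 0))

/-- the structure map `k → A_i / J_i`. -/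
noncomputable def strQ (i : Fin (n + 1)) : k →+* A n k i ⧸ J n k i :=
  (Ideal.Quotient.mk (J n k i)).comp (str n k i)

theorem g_toSpec (i : Fin (n + 1)) :
    g n k i ≫ CohB1.ProjSpace.toSpec n k = Spec.map (CommRingCat.ofHom (strQ n k i)) := by
  change (Spec.map (CommRingCat.ofHom (Ideal.Quotient.mk (J n k i))) ≫
      Proj.awayι (CohB1.polyGrading n k) (X i) (X_mem_one n k i) Nat.one_pos) ≫
    (Proj.toSpecZero (CohB1.polyGrading n k) ≫
      Spec.map (CommRingCat.ofHom (algebraMap k (CohB1.polyGrading n k 0)))) = _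
  rw [Category.assoc, Proj.awayι_toSpecZero_assoc, ← Spec.map_comp, ← Spec.map_comp]
  rfl

theorem chart_C (i : Fin (n + 1)) (r : k) : chart n k i (C r) = str n k i r := by
  unfold chart str
  rw [MvPolynomial.eval₂Hom_C]

theorem chart_X (i : Fin (n + 1)) (j : {j : Fin (n + 1) // j ≠ i}) :
    chart n k i (X j) = t n k i j.1 := by
  unfold chart t
  rw [MvPolynomial.eval₂Hom_X']
  apply HomogeneousLocalization.val_injective
  rw [val_mk, Away.isLocalizationElem, Away.val_mk]
  simp only [pow_one]

end Strata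

section Count

variable (n : ℕ) (k : Type u) [Field k] (i : Fin (n + 1)) (k' : Type u) [Field k'] [Algebra k k']

/-- the `k`-algebra structure on the coordinate ring of the `i`-th stratum. -/
@[reducible] noncomputable def algQ : Algebra k (A n k i ⧸ J n k i) := (strQ n k i).toAlgebra

attribute [local instance] algQ

/-- the free coordinates on the `i`-th stratum. -/
abbrev Free : Type := {j : {j : Fin (n + 1) // j ≠ i} // ¬ i < j.1}

theorem card_free : Nat.card (Free n i) = i := by
  classical
  have e : Free n i ≃ {j : Fin (n + 1) // j < i} :=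
    { toFun := fun j => ⟨j.1.1, lt_of_le_of_ne (not_lt.mp j.2) j.1.2⟩
      invFun := fun j => ⟨⟨j.1, j.2.ne⟩, not_lt.mpr j.2.le⟩
      left_inv := fun j => rfl
      right_inv := fun j => rfl }
  rw [Nat.card_congr e, Nat.card_eq_fintype_card, Fintype.card_subtype]
  have : (Finset.univ.filter fun j : Fin (n + 1) => j < i) = Finset.Iio i := by
    ext j; simp
  rw [this, Fin.card_Iio]

theorem mk_t_eq_zero (j : Fin (n + 1)) (hj : i < j) :
    Ideal.Quotient.mk (J n k i) (t n k i j) = 0 :=
  Ideal.Quotient.eq_zero_iff_mem.mpr (Ideal.subset_span ⟨⟨j, hj⟩, rfl⟩)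

/-- evaluation of a point of the stratum at the free coordinates. -/
noncomputable def evalFree (φ : (A n k i ⧸ J n k i) →ₐ[k] k') : Free n i → k' :=
  fun j => φ (Ideal.Quotient.mk (J n k i) (t n k i j.1.1))

theorem evalFree_injective : Function.Injective (evalFree n k i k') := by
  intro φ₁ φ₂ h
  have key : (φ₁ : (A n k i ⧸ J n k i) →+* k').comp
      ((Ideal.Quotient.mk (J n k i)).comp (chart n k i)) =
      (φ₂ : (A n k i ⧸ J n k i) →+* k').comp
        ((Ideal.Quotient.mk (J n k i)).comp (chart n k i)) := by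
    apply MvPolynomial.ringHom_ext
    · intro r
      simp only [RingHom.comp_apply, chart_C]
      exact (φ₁.commutes r).trans (φ₂.commutes r).symm
    · intro j
      simp only [RingHom.comp_apply, chart_X]
      by_cases hj : i < j.1
      · rw [mk_t_eq_zero n k i j.1 hj, map_zero, map_zero]
      · exact congrFun h ⟨j, hj⟩
  apply AlgHom.ext
  intro x
  obtain ⟨a, rfl⟩ := Ideal.Quotient.mk_surjective x
  obtain ⟨p, rfl⟩ := chart_surjective n k i a
  exact RingHom.congr_fun key p

theorem evalFree_surjective : Function.Surjective (evalFree n k i k') := by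
  classical
  intro v
  let w : {j : Fin (n + 1) // j ≠ i} → k' := fun j => if h : i < j.1 then 0 else v ⟨j, h⟩
  let ψ : MvPolynomial {j : Fin (n + 1) // j ≠ i} k →+* k' :=
    MvPolynomial.eval₂Hom (algebraMap k k') w
  let e : MvPolynomial {j : Fin (n + 1) // j ≠ i} k ≃+* A n k i :=
    RingEquiv.ofBijective (chart n k i) (chart_bijective n k i)
  let ψ' : A n k i →+* k' := ψ.comp (e.symm : A n k i →+* _)
  have hψ' : ∀ p, ψ' (chart n k i p) = ψ p := by
    intro p
    change ψ (e.symm (e p)) = ψ p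
    rw [RingEquiv.symm_apply_apply]
  have hJ : ∀ a ∈ J n k i, ψ' a = 0 := by
    intro a ha
    have hle : J n k i ≤ RingHom.ker ψ' := by
      rw [J, Ideal.span_le]
      rintro _ ⟨j, rfl⟩
      have hne : j.1 ≠ i := j.2.ne'
      change ψ' (t n k i j.1) = 0
      rw [← chart_X n k i ⟨j.1, hne⟩, hψ']
      change MvPolynomial.eval₂Hom (algebraMap k k') w (X _) = 0
      rw [MvPolynomial.eval₂Hom_X']
      simp only [w, dif_pos j.2]
    exact hle ha
  let φ0 : A n k i ⧸ J n k i →+* k' := Ideal.Quotient.lift (J n k i) ψ' hJ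
  let φ : (A n k i ⧸ J n k i) →ₐ[k] k' :=
    { φ0 with
      commutes' := fun r => by
        change φ0 (Ideal.Quotient.mk (J n k i) (str n k i r)) = algebraMap k k' r
        rw [Ideal.Quotient.lift_mk, ← chart_C, hψ']
        change MvPolynomial.eval₂Hom (algebraMap k k') w (C r) = _
        rw [MvPolynomial.eval₂Hom_C] }
  refine ⟨φ, ?_⟩
  funext j
  change φ0 (Ideal.Quotient.mk (J n k i) (t n k i j.1.1)) = v j
  rw [Ideal.Quotient.lift_mk, ← chart_X n k i j.1, hψ']
  change MvPolynomial.eval₂Hom (algebraMap k k') w (X _) = _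
  rw [MvPolynomial.eval₂Hom_X']
  simp only [w, dif_neg j.2]

theorem card_algHom [Finite k'] :
    Nat.card ((A n k i ⧸ J n k i) →ₐ[k] k') = Nat.card k' ^ (i : ℕ) := by
  rw [Nat.card_congr (Equiv.ofBijective (evalFree n k i k')
    ⟨evalFree_injective n k i k', evalFree_surjective n k i k'⟩), Nat.card_fun, card_free]

end Count

section Main

open Groth.Agent.Lib.Seat72.ZetaGenC Groth.Agent.Lib.Seat72.ZetaGenF

variable (n : ℕ) (k : Type u) [Field k] [Finite k]

/-- the `i`-th stratum, as a morphism to `CohB1.ProjSpace n k`. -/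
noncomputable def g' (i : Fin (n + 1)) :
    Spec (CommRingCat.of (A n k i ⧸ J n k i)) ⟶ CohB1.ProjSpace n k :=
  g n k i

instance (i : Fin (n + 1)) : IsImmersion (g' n k i) :=
  inferInstanceAs (IsImmersion (g n k i))

theorem g'_toSpec (i : Fin (n + 1)) :
    g' n k i ≫ CohB1.ProjSpace.toSpec n k = Spec.map (CommRingCat.ofHom (strQ n k i)) :=
  g_toSpec n k i

theorem zetaFun_stratum (i : Fin (n + 1)) :
    Zeta.zetaFun (g' n k i ≫ CohB1.ProjSpace.toSpec n k) *
      (1 - PowerSeries.C ((Nat.card k : ℚ) ^ (i : ℕ)) * PowerSeries.X) = 1 := by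
  haveI := Groth.Agent.S9705.isProper_projSpace_toSpec n k
  have h1 : LocallyOfFiniteType (g' n k i ≫ CohB1.ProjSpace.toSpec n k) :=
    locallyOfFiniteType_comp (g' n k i) (CohB1.ProjSpace.toSpec n k)
  rw [g'_toSpec] at h1 ⊢
  letI := algQ n k i
  haveI : LocallyOfFiniteType
      (Spec.map (CommRingCat.ofHom (algebraMap k (A n k i ⧸ J n k i)))) := h1
  exact zetaFun_mul_eq_one_of_pointCount
    (Spec.map (CommRingCat.ofHom (algebraMap k (A n k i ⧸ J n k i)))) i
    (fun k' _ _ _ => by rw [pointCount_spec]; exact card_algHom n k i k')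

/-- `Z(P^n_k, t) · ∏_{i ≤ n} (1 - q^i t) = 1`. -/
theorem zetaFun_projSpace :
    Zeta.zetaFun (CohB1.ProjSpace.toSpec n k) *
      ∏ i ∈ Finset.range (n + 1),
        (1 - PowerSeries.C ((Nat.card k : ℚ) ^ i) * PowerSeries.X) = 1 := by
  haveI := Groth.Agent.S9705.isProper_projSpace_toSpec n k
  have hpart : ∀ x : CohB1.ProjSpace n k, IsClosed ({x} : Set (CohB1.ProjSpace n k)) →
      ∃! i, x ∈ Set.range (g' n k i).base := fun x _ => existsUnique_stratum n k x
  rw [zetaFun_eq_prod (CohB1.ProjSpace.toSpec n k)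
    (fun i => Spec (CommRingCat.of (A n k i ⧸ J n k i))) (g' n k) hpart,
    ← Fin.prod_univ_eq_prod_range
      (fun i => 1 - PowerSeries.C ((Nat.card k : ℚ) ^ i) * PowerSeries.X) (n + 1),
    ← Finset.prod_mul_distrib]
  exact Finset.prod_eq_one fun i _ => zetaFun_stratum n k i

end Main

end Groth.Agent.Lib.Seat72.ZetaProj
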