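import Mathlib
import Groth.Agent.Lib.Helper4VarDim12
import Groth.Agent.Lib.Helper10GaloisOrbit
import Groth.Agent.Lib.Seat72ZetaCount
import Groth.Agent.Lib.Helper10WeilZero
import Groth.Prelude.Def_W4c1zetahwZeta

/-!
# Seat72: points of a scheme over a finite field fixed by a power of Frobenius

* `IsPowMap G N`: `G` is the identity on points and the `N`-th power on sections;
* `fixed_iff`: a `k`-point `a = (x, φ)` satisfies `a ≫ G = a` iff `φ(c)^N = φ(c)` for all `c ∈ κ(x)`.
-/

set_option autoImplicit false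
set_option maxSynthPendingDepth 3
set_option linter.style.haveILetI false
set_option linter.unusedSectionVars false

universe u

open AlgebraicGeometry CategoryTheory CategoryTheory.Limits

namespace Groth.Agent.Lib.Seat72.ZetaPts

open Groth.Agent.Lib.Helper4.VarDim Groth.Agent.Lib.Helper10.GaloisOrbit

section PowMap

variable {X : Scheme.{u}}

/-- `G` is the identity on points and the `N`-th power map on sections. -/
structure IsPowMap (G : X ⟶ X) (N : ℕ) : Prop where
  fix : ∀ x : X, G x = x
  app : ∀ (U : X.Opens) (e : U ≤ G ⁻¹ᵁ U) (s : Γ(X, U)), (G.appLE U U e).hom s = s ^ N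

theorem IsPowMap.le {G : X ⟶ X} {N : ℕ} (h : IsPowMap G N) (U : X.Opens) : U ≤ G ⁻¹ᵁ U := by
  intro y hy
  show G y ∈ U
  rw [h.fix]; exact hy

theorem IsPowMap.id : IsPowMap (𝟙 X) 1 where
  fix _ := rfl
  app U e s := by
    have : (𝟙 X : X ⟶ X).appLE U U e = 𝟙 _ :=
      (Scheme.Hom.appLE_eq_app (𝟙 X)).trans (Scheme.Hom.id_app U)
    rw [this, pow_one]; rfl

theorem IsPowMap.comp {G G' : X ⟶ X} {N N' : ℕ} (h : IsPowMap G N) (h' : IsPowMap G' N') :
    IsPowMap (G ≫ G') (N' * N) where
  fix x := by rw [Scheme.Hom.comp_apply, h.fix, h'.fix]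
  app U e s := by
    have h1 := Scheme.Hom.appLE_comp_appLE G G' U U U (h'.le U) (h.le U)
    have h2 := congrArg (fun φ => φ.hom s) h1
    simp only [CommRingCat.hom_comp, RingHom.comp_apply] at h2
    rw [← h2, h'.app, h.app, pow_mul]

/-- iterates of an endomorphism of a scheme. -/
noncomputable def iterS (FX : X ⟶ X) : ℕ → (X ⟶ X)
  | 0 => 𝟙 X
  | (m + 1) => FX ≫ iterS FX m

theorem IsPowMap.iterS {FX : X ⟶ X} {q : ℕ} (h : IsPowMap FX q) (m : ℕ) :
    IsPowMap (iterS FX m) (q ^ m) := by
  induction m with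
  | zero =>
    rw [pow_zero]
    exact IsPowMap.id
  | succ m ih =>
    have := h.comp ih
    rwa [← pow_succ] at this

theorem isPowMap_of (FX : X ⟶ X) (hFb : FX.base = 𝟙 _) (q : ℕ) (hle : ∀ U : X.Opens, U ≤ FX ⁻¹ᵁ U)
    (hFapp : ∀ (U : X.Opens) (s : Γ(X, U)), (FX.appLE U U (hle U)).hom s = s ^ q) :
    IsPowMap FX q where
  fix x := by
    show FX.base x = x
    rw [hFb]; rfl
  app U _ s := hFapp U s

end PowMap

section Fixed

variable {X : Scheme.{u}} (k : Type u) [Field k]

theorem residueFieldCongr_evaluation {V : X.Opens} (s : Γ(X, V)) (y y' : X) (e : y' = y)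
    (hy' : y' ∈ V) (hy : y ∈ V) :
    (X.residueFieldCongr e).hom.hom ((X.evaluation V y' hy').hom s) = (X.evaluation V y hy).hom s := by
  subst e
  rfl

/-- for a power map the induced map on residue fields is the `N`-th power. -/
theorem residueFieldMap_eq_pow {G : X ⟶ X} {N : ℕ} (h : IsPowMap G N) (y : X)
    (c : X.residueField (G y)) :
    (G.residueFieldMap y).hom c = ((X.residueFieldCongr (h.fix y)).hom.hom c) ^ N := by
  obtain ⟨t, rfl⟩ := IsLocalRing.residue_surjective c
  obtain ⟨V, hV, s, rfl⟩ := TopCat.Presheaf.exists_germ_eq X.presheaf t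
  have hy : y ∈ V := by rw [← h.fix y]; exact hV
  have h1 := appLE_evaluation G (h.le V) y hy s
  rw [h.app, map_pow] at h1
  have h2 := residueFieldCongr_evaluation s y (G y) (h.fix y) hV hy
  change (G.residueFieldMap y).hom ((X.evaluation V (G y) hV).hom s) =
    ((X.residueFieldCongr (h.fix y)).hom.hom ((X.evaluation V (G y) hV).hom s)) ^ N
  rw [h2, ← h1]

/-- a `k`-point is fixed by a power map iff its embedding of the residue field is `N`-power fixed. -/
theorem fixed_iff' {G : X ⟶ X} {N : ℕ} (h : IsPowMap G N) (a : Spec (CommRingCat.of k) ⟶ X) :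
    a ≫ G = a ↔ ∀ c : X.residueField (Scheme.SpecToEquivOfField k X a).1,
      ((Scheme.SpecToEquivOfField k X a).2).hom c ^ N = ((Scheme.SpecToEquivOfField k X a).2).hom c := by
  rw [← (Scheme.SpecToEquivOfField k X).apply_eq_iff_eq, Scheme.SpecToEquivOfField_eq_iff]
  set y : X := a (IsLocalRing.closedPoint k) with hy
  set φ : X.residueField y ⟶ CommRingCat.of k := (Scheme.SpecToEquivOfField k X a).2 with hφ
  have h2 : (Scheme.SpecToEquivOfField k X (a ≫ G)).2 = G.residueFieldMap y ≫ φ :=
    Scheme.descResidueField_stalkClosedPointTo_comp G a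
  have hpow : ∀ c' : X.residueField (G y), φ.hom ((G.residueFieldMap y).hom c') =
      (φ.hom ((X.residueFieldCongr (h.fix y)).hom.hom c')) ^ N := by
    intro c'
    rw [residueFieldMap_eq_pow h y c', map_pow]
  constructor
  · rintro ⟨e, he⟩
    change ∀ c : X.residueField y, φ.hom c ^ N = φ.hom c
    intro c
    obtain ⟨c', rfl⟩ : ∃ c', (X.residueFieldCongr (h.fix y)).hom.hom c' = c :=
      ⟨(X.residueFieldCongr (h.fix y)).inv.hom c, by
        have := congrArg (fun ψ => ψ.hom c) (X.residueFieldCongr (h.fix y)).inv_hom_id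
        exact this⟩
    have h3 : φ.hom ((G.residueFieldMap y).hom c') =
        φ.hom ((X.residueFieldCongr (h.fix y)).hom.hom c') :=
      congrArg (fun ψ => ψ.hom c') (h2.symm.trans he)
    rw [← hpow c']
    exact h3
  · intro hc
    refine ⟨h.fix y, ?_⟩
    refine h2.trans ?_
    ext c'
    change φ.hom ((G.residueFieldMap y).hom c') = φ.hom ((X.residueFieldCongr (h.fix y)).hom.hom c')
    rw [hpow c']
    exact hc _

theorem fixed_iff {G : X ⟶ X} {N : ℕ} (h : IsPowMap G N) (x : X)
    (φ : X.residueField x ⟶ CommRingCat.of k) :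
    (Spec.map φ ≫ X.fromSpecResidueField x) ≫ G = Spec.map φ ≫ X.fromSpecResidueField x ↔
      ∀ c : X.residueField x, φ.hom c ^ N = φ.hom c := by
  rw [fixed_iff' k h]
  have hax : Scheme.SpecToEquivOfField k X (Spec.map φ ≫ X.fromSpecResidueField x) = ⟨x, φ⟩ :=
    (Scheme.SpecToEquivOfField k X).right_inv ⟨x, φ⟩
  generalize Scheme.SpecToEquivOfField k X (Spec.map φ ≫ X.fromSpecResidueField x) = b at hax
  subst hax
  exact Iff.rfl

end Fixed

section Fiber

open Groth.Agent.Lib.Helper10.WeilPt

variable {k₀ : Type u} [Field k₀] [Finite k₀] (k : Type u) [Field k] [IsAlgClosed k] [Algebra k₀ k]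
  {X : Scheme.{u}} (f : X ⟶ Spec (CommRingCat.of k₀))

/-- the residue degree is the degree of the residue field over `k₀`. -/
theorem residueDegree_eq_finrank (x : X) :
    EGA4loc.residueDegree f x =
      @Module.finrank k₀ (X.residueField x) _ _ ((resHom k₀ f x).hom.toAlgebra.toModule) := by
  set ψ₀ : CommRingCat.of k₀ ⟶ (Spec (CommRingCat.of k₀)).residueField (f x) :=
    Spec.preimage ((Spec (CommRingCat.of k₀)).fromSpecResidueField (f x)) with hψ₀
  have hψs : Function.Surjective ψ₀.hom := surjective_preimage_fromSpecResidueField k₀ (f x)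
  have hfac : resHom k₀ f x = ψ₀ ≫ f.residueFieldMap x := by
    apply Spec.map_injective
    rw [map_resHom, Spec.map_comp, hψ₀, Spec.map_preimage,
      Scheme.Hom.SpecMap_residueFieldMap_fromSpecResidueField]
  letI A1 : Algebra ((Spec (CommRingCat.of k₀)).residueField (f x)) (X.residueField x) :=
    (f.residueFieldMap x).hom.toAlgebra
  letI A2 : Algebra k₀ (X.residueField x) := (resHom k₀ f x).hom.toAlgebra
  letI A3 : Algebra k₀ ((Spec (CommRingCat.of k₀)).residueField (f x)) := ψ₀.hom.toAlgebra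
  haveI : IsScalarTower k₀ ((Spec (CommRingCat.of k₀)).residueField (f x)) (X.residueField x) :=
    IsScalarTower.of_algebraMap_eq fun c => by
      change (resHom k₀ f x).hom c = (f.residueFieldMap x).hom (ψ₀.hom c)
      rw [hfac]; rfl
  have hbij : Function.Bijective
      (Algebra.linearMap k₀ ((Spec (CommRingCat.of k₀)).residueField (f x))) :=
    ⟨ψ₀.hom.injective, hψs⟩
  have h1 : Module.finrank k₀ ((Spec (CommRingCat.of k₀)).residueField (f x)) = 1 := by
    rw [← (LinearEquiv.ofBijective _ hbij).finrank_eq]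
    exact Module.finrank_self _
  have h2 := Module.finrank_mul_finrank k₀ ((Spec (CommRingCat.of k₀)).residueField (f x))
    (X.residueField x)
  rw [h1, one_mul] at h2
  exact h2

variable (G : X ⟶ X)

/-- the `k`-points of `X` over `k₀` fixed by `G`. -/
def FixPts : Type u :=
  {a : Spec (CommRingCat.of k) ⟶ X //
    a ≫ f = Spec.map (CommRingCat.ofHom (algebraMap k₀ k)) ∧ a ≫ G = a}

/-- the image point of a `k`-point. -/
noncomputable def FixPts.pt (a : FixPts k f G) : X := a.1 (IsLocalRing.closedPoint k)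

variable {G} {N : ℕ} (hG : IsPowMap G N)

include hG in
/-- the fixed points over `x` are the `N`-power fixed embeddings `κ(x) → k`. -/
theorem exists_fiber_equiv (x : X) :
    letI : Algebra k₀ (X.residueField x) := (resHom k₀ f x).hom.toAlgebra
    Nonempty ({ψ : X.residueField x →ₐ[k₀] k // ∀ c, ψ c ^ N = ψ c} ≃
      {a : FixPts k f G // a.pt = x}) := by
  letI : Algebra k₀ (X.residueField x) := (resHom k₀ f x).hom.toAlgebra
  let Θ : {ψ : X.residueField x →ₐ[k₀] k // ∀ c, ψ c ^ N = ψ c} → {a : FixPts k f G // a.pt = x} :=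
    fun ψ => ⟨⟨Spec.map (CommRingCat.ofHom ψ.1.toRingHom) ≫ X.fromSpecResidueField x, by
        rw [Category.assoc, ← map_resHom k₀ f x, ← Spec.map_comp]
        congr 1
        ext c
        exact ψ.1.commutes c,
      (fixed_iff k hG x _).mpr ψ.2⟩,
      (Scheme.Hom.comp_apply _ _ _).trans (Scheme.fromSpecResidueField_apply x _)⟩
  refine ⟨Equiv.ofBijective Θ ⟨?_, ?_⟩⟩
  · intro ψ ψ' hΘ
    have h1 : Spec.map (CommRingCat.ofHom ψ.1.toRingHom) ≫ X.fromSpecResidueField x =
        Spec.map (CommRingCat.ofHom ψ'.1.toRingHom) ≫ X.fromSpecResidueField x :=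
      congrArg (fun a : {a : FixPts k f G // a.pt = x} => a.1.1) hΘ
    have h2 : (⟨x, CommRingCat.ofHom ψ.1.toRingHom⟩ : Σ x : X, X.residueField x ⟶ CommRingCat.of k) =
        ⟨x, CommRingCat.ofHom ψ'.1.toRingHom⟩ :=
      (Scheme.SpecToEquivOfField k X).symm.injective h1
    have h3 : CommRingCat.ofHom ψ.1.toRingHom = CommRingCat.ofHom ψ'.1.toRingHom :=
      eq_of_heq (Sigma.mk.inj h2).2
    apply Subtype.ext
    ext c
    exact congrArg (fun φ => φ.hom c) h3
  · rintro ⟨⟨a, ha1, ha2⟩, hax⟩
    obtain ⟨φ, rfl⟩ := exists_eq_comp k x a hax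
    have h1 := resHom_comp k₀ k f x φ ha1
    let ψ : X.residueField x →ₐ[k₀] k :=
      { φ.hom with
        commutes' := fun c =>
          congrArg (fun g : CommRingCat.of k₀ ⟶ CommRingCat.of k => g.hom c) h1 }
    refine ⟨⟨ψ, (fixed_iff k hG x φ).mp ha2⟩, ?_⟩
    apply Subtype.ext
    apply Subtype.ext
    rfl

include hG in
theorem card_fiber (m : ℕ) (hm : 1 ≤ m) (hN : N = Nat.card k₀ ^ m) (x : X) :
    Nat.card {a : FixPts k f G // a.pt = x} =
      if EGA4loc.residueDegree f x ≠ 0 ∧ EGA4loc.residueDegree f x ∣ m then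
        EGA4loc.residueDegree f x else 0 := by
  subst hN
  letI : Algebra k₀ (X.residueField x) := (resHom k₀ f x).hom.toAlgebra
  obtain ⟨e⟩ := exists_fiber_equiv k f hG x
  rw [← Nat.card_congr e, Groth.Agent.Lib.Seat72.ZetaCount.card_fixed_algHom k₀ (X.residueField x) k m hm,
    residueDegree_eq_finrank f x]

theorem isClosed_of_residueDegree_ne_zero [LocallyOfFiniteType f] (x : X)
    (hx : EGA4loc.residueDegree f x ≠ 0) : IsClosed ({x} : Set X) := by
  rw [residueDegree_eq_finrank f x] at hx
  letI : Algebra k₀ (X.residueField x) := (resHom k₀ f x).hom.toAlgebra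
  haveI : FiniteDimensional k₀ (X.residueField x) := Module.finite_of_finrank_pos (Nat.pos_of_ne_zero hx)
  have hp : X.fromSpecResidueField x ≫ f =
      Spec.map (CommRingCat.ofHom (algebraMap k₀ (X.residueField x))) := (map_resHom k₀ f x).symm
  have := isClosed_of_point k₀ (X.residueField x) f (X.fromSpecResidueField x) hp
  have e : (X.fromSpecResidueField x) (IsLocalRing.closedPoint (X.residueField x)) = x :=
    Scheme.fromSpecResidueField_apply x _
  rw [e] at this
  exact this

include hG in
/-- the number of fixed points is `N_m`. -/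
theorem card_fixPts [LocallyOfFiniteType f] [Finite (FixPts k f G)] (m : ℕ) (hm : 1 ≤ m)
    (hN : N = Nat.card k₀ ^ m) : Nat.card (FixPts k f G) = Zeta.nPts f m := by
  classical
  haveI := Fintype.ofFinite (FixPts k f G)
  set img : Finset X := Finset.univ.image (FixPts.pt (k := k) (f := f) (G := G)) with himg
  have hfib := card_fiber k f hG m hm hN
  -- points of the image have a nonempty fibre
  have himg_deg : ∀ x ∈ img, EGA4loc.residueDegree f x ≠ 0 ∧ EGA4loc.residueDegree f x ∣ m := by
    intro x hx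
    obtain ⟨a, -, rfl⟩ := Finset.mem_image.mp hx
    by_contra hcon
    have h0 := hfib a.pt
    rw [if_neg hcon] at h0
    haveI : Nonempty {b : FixPts k f G // b.pt = a.pt} := ⟨⟨a, rfl⟩⟩
    exact (Nat.card_pos (α := {b : FixPts k f G // b.pt = a.pt})).ne' h0
  have h1 : Nat.card (FixPts k f G) = ∑ x ∈ img, EGA4loc.residueDegree f x := by
    rw [Nat.card_eq_fintype_card, ← Finset.card_univ,
      Finset.card_eq_sum_card_fiberwise (f := FixPts.pt (k := k) (f := f) (G := G)) (t := img)
        (fun a _ => Finset.mem_image_of_mem _ (Finset.mem_univ a))]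
    refine Finset.sum_congr rfl fun x hx => ?_
    have h2 : (Finset.univ.filter fun a : FixPts k f G => a.pt = x).card =
        Nat.card {a : FixPts k f G // a.pt = x} := by
      rw [Nat.card_eq_fintype_card, Fintype.card_subtype]
    rw [h2, hfib x, if_pos (himg_deg x hx)]
  have h2 : ∑ x ∈ img, EGA4loc.residueDegree f x =
      ∑ e ∈ m.divisors, ∑ x ∈ img with EGA4loc.residueDegree f x = e, EGA4loc.residueDegree f x :=
    (Finset.sum_fiberwise_of_maps_to (fun x hx => Nat.mem_divisors.mpr
      ⟨(himg_deg x hx).2, by omega⟩) _).symm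
  rw [h1, h2, Zeta.nPts]
  refine Finset.sum_congr rfl fun e he => ?_
  have he0 : e ≠ 0 := (Nat.pos_of_mem_divisors he).ne'
  have hedvd : e ∣ m := Nat.dvd_of_mem_divisors he
  have h3 : ∑ x ∈ img with EGA4loc.residueDegree f x = e, EGA4loc.residueDegree f x =
      e * (img.filter fun x => EGA4loc.residueDegree f x = e).card := by
    rw [Finset.sum_congr rfl (fun x hx => (Finset.mem_filter.mp hx).2), Finset.sum_const,
      smul_eq_mul, mul_comm]
  rw [h3]
  congr 1
  rw [Zeta.degCount]
  have hiff : ∀ x : X, (IsClosed ({x} : Set X) ∧ EGA4loc.residueDegree f x = e) ↔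
      x ∈ img.filter fun x => EGA4loc.residueDegree f x = e := by
    intro x
    rw [Finset.mem_filter]
    constructor
    · rintro ⟨-, hx⟩
      refine ⟨?_, hx⟩
      have h4 := hfib x
      rw [if_pos ⟨by rw [hx]; exact he0, by rw [hx]; exact hedvd⟩, hx] at h4
      have : 0 < Nat.card {a : FixPts k f G // a.pt = x} := by rw [h4]; exact Nat.pos_of_ne_zero he0
      obtain ⟨⟨a, rfl⟩⟩ := (Nat.card_pos_iff.mp this).1
      exact Finset.mem_image_of_mem _ (Finset.mem_univ a)
    · rintro ⟨-, hx⟩
      exact ⟨isClosed_of_residueDegree_ne_zero f x (by rw [hx]; exact he0), hx⟩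
  rw [Nat.card_congr (Equiv.subtypeEquivRight hiff), Nat.card_eq_fintype_card, Fintype.card_coe]

end Fiber

end Groth.Agent.Lib.Seat72.ZetaPts
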