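import Mathlib
import Groth.Agent.Lib.Seat72ZetaFix
import Groth.Agent.Lib.Seat72ZetaPts
import Groth.Agent.Lib.Helper10WeilProj

/-!
# Seat72: fixed closed points of `F^m` on `X̄` are the `F_{q^m}`-points of `X`

* sections of a `k`-scheme of finite type (`k` algebraically closed) are its closed points;
* the fixed locus of `F^m` (defined through graph and diagonal) is in bijection with the
  `k`-points of `X` fixed by the `m`-th iterate of Frobenius; hence its cardinality is `N_m`.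
-/

set_option autoImplicit false
set_option maxSynthPendingDepth 3
set_option linter.style.haveILetI false
set_option linter.unusedSectionVars false

universe u v

open AlgebraicGeometry CategoryTheory CategoryTheory.Limits

namespace Groth.Agent.Lib.Seat72.ZetaSec

open Groth.Agent.Lib.Helper4.VarDim Groth.Agent.Lib.Seat72.FrobGeom Groth.Agent.Lib.Seat72.ZetaMult
open Groth.Agent.Lib.Seat72.ZetaFix Groth.Agent.Lib.Seat72.ZetaPts
open Groth.Agent.Lib.Helper10.WeilPt Groth.Agent.Lib.Helper10.GaloisOrbit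

section Sections

variable {k : Type u} [Field k] [IsAlgClosed k] {Y : Scheme.{u}} (g : Y ⟶ Spec (CommRingCat.of k))
  [LocallyOfFiniteType g]

theorem specMap_algebraMap_self :
    Spec.map (CommRingCat.ofHom (algebraMap k k)) = 𝟙 (Spec (CommRingCat.of k)) := by
  have : CommRingCat.ofHom (algebraMap k k) = 𝟙 (CommRingCat.of k) := rfl
  rw [this, Spec.map_id]

/-- the image of a section is a closed point. -/
theorem isClosed_sec (σ : Spec (CommRingCat.of k) ⟶ Y) (hσ : σ ≫ g = 𝟙 _) :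
    IsClosed ({σ (IsLocalRing.closedPoint k)} : Set Y) :=
  isClosed_of_point k k g σ (by rw [hσ, specMap_algebraMap_self])

/-- sections are determined by their image point. -/
theorem sec_ext (σ σ' : Spec (CommRingCat.of k) ⟶ Y) (hσ : σ ≫ g = 𝟙 _) (hσ' : σ' ≫ g = 𝟙 _)
    (h : σ (IsLocalRing.closedPoint k) = σ' (IsLocalRing.closedPoint k)) : σ = σ' := by
  haveI : IsAlgClosure k k := ⟨inferInstance, inferInstance⟩
  obtain ⟨τ, hτ⟩ := exists_algEquiv_of_eq k k g σ σ' (by rw [hσ, specMap_algebraMap_self])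
    (by rw [hσ', specMap_algebraMap_self]) h
  have : CommRingCat.ofHom τ.toRingHom = 𝟙 (CommRingCat.of k) := by
    ext c
    exact τ.commutes c
  rw [hτ, this, Spec.map_id, Category.id_comp]

/-- every closed point is the image of a section. -/
theorem exists_sec (y : Y) (hy : IsClosed ({y} : Set Y)) :
    ∃ σ : Spec (CommRingCat.of k) ⟶ Y, σ ≫ g = 𝟙 _ ∧ σ (IsLocalRing.closedPoint k) = y := by
  obtain ⟨σ, h1, h2⟩ := exists_point_of_isClosed k k g y hy
  exact ⟨σ, by rw [h1, specMap_algebraMap_self], h2⟩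

end Sections

section Local

attribute [local instance] sectionsAlgebra Curv2.resAlgebra overVar

variable {k₀ : Type u} [Field k₀] [Finite k₀] {k : Type u} [Field k] [IsAlgClosed k] [Algebra k₀ k]
  {X : Scheme.{u}} (f : X ⟶ Spec (CommRingCat.of k₀))
  (Xb : WeilCoh.Var k) (π : Xb.obj.left ⟶ X)
  (hπ : IsPullback π Xb.obj.hom f (Spec.map (CommRingCat.ofHom (algebraMap k₀ k))))
  (G : X ⟶ X) {N : ℕ} (hG : IsPowMap G N) (Gb : Xb ⟶ Xb) (hGb : WeilCoh.sm Gb ≫ π = π ≫ G)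

include hG hGb in
theorem preimage_le' (U : X.Opens) : π ⁻¹ᵁ U ≤ (WeilCoh.sm Gb) ⁻¹ᵁ (π ⁻¹ᵁ U) := by
  intro y hy
  show π ((WeilCoh.sm Gb) y) ∈ U
  have h1 : π ((WeilCoh.sm Gb) y) = G (π y) := by
    rw [← Scheme.Hom.comp_apply, hGb, Scheme.Hom.comp_apply]
  rw [h1, hG.fix]; exact hy

include hG hGb in
theorem appLE_pow' (U : X.Opens) (e : π ⁻¹ᵁ U ≤ (WeilCoh.sm Gb) ⁻¹ᵁ (π ⁻¹ᵁ U)) (a : Γ(X, U)) :
    ((WeilCoh.sm Gb).appLE (π ⁻¹ᵁ U) (π ⁻¹ᵁ U) e).hom ((π.app U).hom a) =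
      ((π.app U).hom a) ^ N := by
  have h1 := Scheme.Hom.appLE_comp_appLE (WeilCoh.sm Gb) π U (π ⁻¹ᵁ U) (π ⁻¹ᵁ U) le_rfl e
  have h2 := Scheme.Hom.appLE_comp_appLE π G U U (π ⁻¹ᵁ U) (hG.le U) le_rfl
  rw [appLE_congr_hom hGb] at h1
  have h3 := h1.trans h2.symm
  have h4 := congrArg (fun φ => φ.hom a) h3
  simp only [CommRingCat.hom_comp, RingHom.comp_apply] at h4
  rw [Scheme.Hom.appLE_eq_app] at h4
  rw [h4, hG.app, map_pow]

include hπ hG hGb in
/-- the local structure of a lift of a power map to the base change. -/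
theorem hloc_of : ∀ w : Xb.obj.left, ∃ (U : Xb.obj.left.Opens) (_ : IsAffineOpen U) (_ : w ∈ U)
    (e : U ≤ (WeilCoh.sm Gb) ⁻¹ᵁ U) (S : Set Γ(Xb.obj.left, U)),
      Algebra.adjoin k S = ⊤ ∧ ∀ s ∈ S, ((WeilCoh.sm Gb).appLE U U e).hom s = s ^ N := by
  intro w
  obtain ⟨U₀, hU₀, hwU₀, -⟩ := exists_isAffineOpen_mem_and_subset (U := ⊤) (x := π w) trivial
  haveI := isAffineHom_π f Xb π hπ
  refine ⟨π ⁻¹ᵁ U₀, hU₀.preimage π, hwU₀, preimage_le' Xb π G hG Gb hGb U₀,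
    Set.range (π.app U₀).hom, adjoin_range_eq_top f Xb π hπ U₀ hU₀, ?_⟩
  rintro _ ⟨a, rfl⟩
  exact appLE_pow' Xb π G hG Gb hGb U₀ _ a

variable {Pb : WeilCoh.Var k} (p q : Pb ⟶ Xb) (hP : WeilCoh.IsProd p q) (jG d : Xb ⟶ Pb)
  (hj₁ : jG ≫ p = 𝟙 Xb) (hj₂ : jG ≫ q = Gb) (hd₁ : d ≫ p = 𝟙 Xb) (hd₂ : d ≫ q = 𝟙 Xb)

include hP hj₁ hj₂ hd₁ hd₂ in
/-- a section fixed by `Gb` has its image point in the fixed locus. -/
theorem sec_mem_fixSet (σ : Spec (CommRingCat.of k) ⟶ Xb.obj.left)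
    (hfix : σ ≫ WeilCoh.sm Gb = σ) : σ (IsLocalRing.closedPoint k) ∈ fixSet jG d := by
  have h1 : σ ≫ WeilCoh.sm jG = σ ≫ WeilCoh.sm d := by
    apply hP.hom_ext
    · rw [Category.assoc, Category.assoc, sm_comp_eq_id jG p hj₁, sm_comp_eq_id d p hd₁]
    · have e1 : WeilCoh.sm jG ≫ WeilCoh.sm q = WeilCoh.sm Gb := congrArg (fun φ => WeilCoh.sm φ) hj₂
      rw [Category.assoc, Category.assoc, e1, sm_comp_eq_id d q hd₂, hfix, Category.comp_id]
  show WeilCoh.sm jG (σ _) = WeilCoh.sm d (σ _)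
  rw [← Scheme.Hom.comp_apply, ← Scheme.Hom.comp_apply, h1]

include hj₂ hd₂ in
/-- a section through a point of the fixed locus is fixed by `Gb`. -/
theorem sec_fixed (σ : Spec (CommRingCat.of k) ⟶ Xb.obj.left) (hσ : σ ≫ Xb.obj.hom = 𝟙 _)
    (hw : σ (IsLocalRing.closedPoint k) ∈ fixSet jG d) : σ ≫ WeilCoh.sm Gb = σ := by
  have h1 : σ ≫ WeilCoh.sm jG = σ ≫ WeilCoh.sm d := by
    apply sec_ext Pb.obj.hom
    · rw [Category.assoc, sm_w jG, hσ]
    · rw [Category.assoc, sm_w d, hσ]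
    · rw [Scheme.Hom.comp_apply, Scheme.Hom.comp_apply]
      exact hw
  have e1 : WeilCoh.sm jG ≫ WeilCoh.sm q = WeilCoh.sm Gb := congrArg (fun φ => WeilCoh.sm φ) hj₂
  have h2 := congrArg (fun φ => φ ≫ WeilCoh.sm q) h1
  simp only [Category.assoc] at h2
  rwa [e1, sm_comp_eq_id d q hd₂, Category.comp_id] at h2

include hπ hGb hP hj₁ hj₂ hd₁ hd₂ in
/-- the fixed locus is in bijection with the fixed `k`-points of `X`. -/
theorem fixPts_equiv_fixSet (hclosed : ∀ w ∈ fixSet jG d, IsClosed ({w} : Set Xb.obj.left)) :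
    Nonempty (FixPts k f G ≃ fixSet jG d) := by
  -- the section attached to a fixed point of `X`
  have hlift : ∀ a : FixPts k f G, ∃ σ : Spec (CommRingCat.of k) ⟶ Xb.obj.left,
      σ ≫ π = a.1 ∧ σ ≫ Xb.obj.hom = 𝟙 _ ∧ σ ≫ WeilCoh.sm Gb = σ := by
    intro a
    have hw : a.1 ≫ f = 𝟙 _ ≫ Spec.map (CommRingCat.ofHom (algebraMap k₀ k)) := by
      rw [a.2.1, Category.id_comp]
    refine ⟨hπ.lift a.1 (𝟙 _) hw, hπ.lift_fst _ _ _, hπ.lift_snd _ _ _, ?_⟩
    apply hπ.hom_ext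
    · rw [Category.assoc, hGb, ← Category.assoc, hπ.lift_fst, a.2.2]
    · rw [Category.assoc, sm_w Gb]
  choose σ hσ1 hσ2 hσ3 using hlift
  let Φ : FixPts k f G → fixSet jG d := fun a =>
    ⟨σ a (IsLocalRing.closedPoint k),
      sec_mem_fixSet Xb Gb p q hP jG d hj₁ hj₂ hd₁ hd₂ (σ a) (hσ3 a)⟩
  have hΦ : Function.Bijective Φ := by
    constructor
    · intro a a' h
      have h1 : σ a (IsLocalRing.closedPoint k) = σ a' (IsLocalRing.closedPoint k) :=
        congrArg Subtype.val h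
      have h2 := sec_ext Xb.obj.hom (σ a) (σ a') (hσ2 a) (hσ2 a') h1
      apply Subtype.ext
      rw [← hσ1 a, ← hσ1 a', h2]
    · rintro ⟨w, hw⟩
      obtain ⟨τ, hτ1, hτ2⟩ := exists_sec Xb.obj.hom w (hclosed w hw)
      have hτ3 : τ ≫ WeilCoh.sm Gb = τ :=
        sec_fixed Xb Gb q jG d hj₂ hd₂ τ hτ1 (by rw [hτ2]; exact hw)
      let a : FixPts k f G := ⟨τ ≫ π, by
        rw [Category.assoc, hπ.w, ← Category.assoc, hτ1, Category.id_comp], by
        rw [Category.assoc, ← hGb, ← Category.assoc, hτ3]⟩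
      refine ⟨a, ?_⟩
      apply Subtype.ext
      show σ a (IsLocalRing.closedPoint k) = w
      have : σ a = τ := by
        apply hπ.hom_ext
        · rw [hσ1 a]
        · rw [hσ2 a, hτ1]
      rw [this, hτ2]
  exact ⟨Equiv.ofBijective Φ hΦ⟩

end Local

section Main

attribute [local instance] sectionsAlgebra Curv2.resAlgebra overVar

variable {k₀ : Type u} [Field k₀] [Finite k₀] {k : Type u} [Field k] [IsAlgClosed k] [Algebra k₀ k]
  {K : Type v} [Field K] [CharZero K] (T : WeilCoh.Theory k K)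
  {X : Scheme.{u}} (f : X ⟶ Spec (CommRingCat.of k₀)) [LocallyOfFiniteType f]
  (FX : X ⟶ X) (hFX : IsPowMap FX (Nat.card k₀))
  (Xb : WeilCoh.Var k) (π : Xb.obj.left ⟶ X)
  (hπ : IsPullback π Xb.obj.hom f (Spec.map (CommRingCat.ofHom (algebraMap k₀ k))))
  (F : Xb ⟶ Xb) (hF : WeilCoh.sm F ≫ π = π ≫ FX)
  {Pb : WeilCoh.Var k} (p q : Pb ⟶ Xb) (hP : WeilCoh.IsProd p q)

include hF in
theorem sm_iter_comp (m : ℕ) : WeilCoh.sm (iter F m) ≫ π = π ≫ iterS FX m := by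
  induction m with
  | zero =>
    change 𝟙 _ ≫ π = π ≫ 𝟙 _
    rw [Category.id_comp, Category.comp_id]
  | succ m ih =>
    change (WeilCoh.sm F ≫ WeilCoh.sm (iter F m)) ≫ π = π ≫ (FX ≫ iterS FX m)
    rw [Category.assoc, ih, ← Category.assoc, hF, Category.assoc]

omit [IsAlgClosed k] in
theorem cast_card_pow_eq_zero (m : ℕ) (hm : 1 ≤ m) : ((Nat.card k₀ ^ m : ℕ) : k) = 0 := by
  haveI := Fintype.ofFinite k₀
  have h1 : ((Nat.card k₀ : ℕ) : k₀) = 0 := by
    rw [Nat.card_eq_fintype_card]; exact FiniteField.cast_card_eq_zero k₀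
  have h2 : ((Nat.card k₀ : ℕ) : k) = 0 := by
    rw [← map_natCast (algebraMap k₀ k), h1, map_zero]
  rw [Nat.cast_pow, h2, zero_pow (by omega)]

include hFX hπ hF hP in
/-- the Lefschetz number of the `m`-th iterate of Frobenius is `N_m`. -/
theorem tr_eq_nPts (m : ℕ) (hm : 1 ≤ m) (jm d : Xb ⟶ Pb)
    (hj₁ : jm ≫ p = 𝟙 Xb) (hj₂ : jm ≫ q = iter F m) (hd₁ : d ≫ p = 𝟙 Xb) (hd₂ : d ≫ q = 𝟙 Xb) :
    T.tr Pb (T.cl Pb (WeilCoh.sm jm (genericPoint Xb.obj.left)) *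
      T.cl Pb (WeilCoh.sm d (genericPoint Xb.obj.left))) = (Zeta.nPts f m : K) := by
  have hG := hFX.iterS m
  have hGb := sm_iter_comp FX Xb π F hF m
  have hN := cast_card_pow_eq_zero (k₀ := k₀) (k := k) m hm
  have hloc := hloc_of f Xb π hπ (iterS FX m) hG (iter F m) hGb
  rw [tr_cl_graph_mul_cl_diag p q (iter F m) jm d hj₁ hj₂ hd₁ hd₂ _ hN hloc T hP]
  have hclosed := isClosed_of_mem_fixSet p q (iter F m) jm d hj₁ hj₂ hd₁ hd₂ _ hN hloc
  obtain ⟨e⟩ := fixPts_equiv_fixSet f Xb π hπ (iterS FX m) (iter F m) hGb p q hP jm d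
    hj₁ hj₂ hd₁ hd₂ hclosed
  haveI : Finite (fixSet jm d) :=
    (finite_fixSet p q (iter F m) jm d hj₁ hj₂ hd₁ hd₂ _ hN hloc).to_subtype
  haveI : Finite (FixPts k f (iterS FX m)) := Finite.of_equiv _ e.symm
  rw [← Nat.card_congr e, card_fixPts k f hG m hm rfl]

end Main

end Groth.Agent.Lib.Seat72.ZetaSec
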