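import Mathlib
import Groth.Agent.Lib.Seat73ArtinSchreier

/-!
# Artin–Schreier families: the group of `R`-automorphisms (seat 73)

For `A = R[u_1..u_n]/(u_i^p - a_i^(p-1) u_i - x_i)` over a domain `R` of characteristic `p`, the
substitutions `u_i ↦ u_i + c_i a_i` (`c ∈ (ℤ/p)^n`) are `R`-algebra automorphisms; if `A` is a domain and
all `a_i ≠ 0` they are all the `R`-algebra automorphisms.
-/

set_option autoImplicit false
set_option linter.unusedSectionVars false
set_option linter.style.haveILetI false
universe u

namespace Groth.Agent.Lib.Seat73.ASAut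

open MvPolynomial Groth.Agent.Lib.Seat73.ArtinSchreier

variable {R : Type u} [CommRing R] [IsDomain R] (p n : ℕ) [hp : Fact p.Prime] [CharP R p]
  (a x : Fin n → R)

/-- The Artin–Schreier algebra. -/
abbrev AS : Type u := MvPolynomial (Fin n) R ⧸ asIdeal p n a x

/-- The class of `u_i`. -/
noncomputable def gen (i : Fin n) : AS p n a x := Ideal.Quotient.mk (asIdeal p n a x) (X i)

/-- `ℤ/p → R`. -/
noncomputable def zeta : ZMod p →+* R := ZMod.castHom (dvd_refl p) R

theorem two_le : 2 ≤ p := hp.out.two_le

theorem charP_AS : CharP (AS p n a x) p :=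
  charP_of_injective_algebraMap (algebraMap_injective p n a x (two_le p)) p

theorem zeta_pow (c : ZMod p) : (zeta (R := R) p c) ^ p = zeta p c := by
  rw [← map_pow, ZMod.pow_card]

/-- `u_i + c_i a_i`. -/
noncomputable def shiftVal (c : Fin n → ZMod p) (i : Fin n) : AS p n a x :=
  gen p n a x i + algebraMap R (AS p n a x) (zeta p (c i) * a i)

theorem aeval_asPoly1 (v : AS p n a x) (i : Fin n) :
    Polynomial.aeval v (asPoly1 p n a x i) =
      v ^ p - algebraMap R (AS p n a x) (a i ^ (p - 1)) * v - algebraMap R (AS p n a x) (x i) := by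
  have hp1 : p - 1 + 1 = p := by have := two_le p; omega
  rw [asPoly1, hp1, map_sub, map_add, map_mul, map_pow, Polynomial.aeval_X, Polynomial.aeval_C,
    Polynomial.aeval_C, sub_sub]

theorem gen_root (i : Fin n) :
    Polynomial.aeval (gen p n a x i) (asPoly1 p n a x i) = 0 :=
  aeval_mk_X_asPoly1 p n a x (two_le p) i

theorem shiftVal_root (c : Fin n → ZMod p) (i : Fin n) :
    Polynomial.aeval (shiftVal p n a x c i) (asPoly1 p n a x i) = 0 := by
  haveI := charP_AS p n a x
  have h0 := gen_root p n a x i
  rw [aeval_asPoly1] at h0 ⊢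
  have hp1 : p = (p - 1) + 1 := by have := two_le p; omega
  have hz : (algebraMap R (AS p n a x) (zeta p (c i))) ^ p =
      algebraMap R (AS p n a x) (zeta p (c i)) := by
    rw [← map_pow, zeta_pow]
  have hα : algebraMap R (AS p n a x) (a i ^ (p - 1)) * algebraMap R (AS p n a x) (a i) =
      (algebraMap R (AS p n a x) (a i)) ^ p := by
    rw [← map_mul, ← pow_succ, ← hp1, map_pow]
  rw [shiftVal, add_pow_char, map_mul, mul_pow, hz, mul_add]
  rw [← h0]
  have : algebraMap R (AS p n a x) (a i ^ (p - 1)) *
      (algebraMap R (AS p n a x) (zeta p (c i)) * algebraMap R (AS p n a x) (a i)) =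
      algebraMap R (AS p n a x) (zeta p (c i)) * (algebraMap R (AS p n a x) (a i)) ^ p := by
    rw [← hα]; ring
  rw [this]
  ring

theorem aeval_shiftVal_eq_zero (c : Fin n → ZMod p) (g : MvPolynomial (Fin n) R)
    (hg : g ∈ asIdeal p n a x) : MvPolynomial.aeval (shiftVal p n a x c) g = 0 := by
  have hle : asIdeal p n a x ≤ RingHom.ker
      (MvPolynomial.aeval (R := R) (shiftVal p n a x c)).toRingHom := by
    rw [Ideal.span_le]
    rintro _ ⟨i, rfl⟩
    rw [SetLike.mem_coe, RingHom.mem_ker]
    have h := shiftVal_root p n a x c i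
    rw [aeval_asPoly1] at h
    simpa using h
  exact hle hg

/-- The substitution `u_i ↦ u_i + c_i a_i` as an `R`-algebra endomorphism. -/
noncomputable def shift (c : Fin n → ZMod p) : AS p n a x →ₐ[R] AS p n a x :=
  Ideal.Quotient.liftₐ (asIdeal p n a x) (MvPolynomial.aeval (shiftVal p n a x c))
    (aeval_shiftVal_eq_zero p n a x c)

theorem shift_gen (c : Fin n → ZMod p) (i : Fin n) :
    shift p n a x c (gen p n a x i) = shiftVal p n a x c i := by
  rw [shift, gen, Ideal.Quotient.liftₐ_apply]
  exact (Ideal.Quotient.lift_mk _ _ _).trans (by simp)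

theorem algHom_ext_gen {f g : AS p n a x →ₐ[R] AS p n a x}
    (h : ∀ i, f (gen p n a x i) = g (gen p n a x i)) : f = g := by
  apply Ideal.Quotient.algHom_ext
  apply MvPolynomial.algHom_ext
  intro i
  exact h i

theorem shift_comp (c d : Fin n → ZMod p) :
    (shift p n a x c).comp (shift p n a x d) = shift p n a x (c + d) := by
  apply algHom_ext_gen
  intro i
  rw [AlgHom.comp_apply, shift_gen, shiftVal, map_add, shift_gen, AlgHom.commutes, shift_gen,
    shiftVal, shiftVal, Pi.add_apply, map_add, add_mul, map_add, add_assoc]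

theorem shift_zero : shift p n a x 0 = AlgHom.id R _ := by
  apply algHom_ext_gen
  intro i
  rw [shift_gen, shiftVal, Pi.zero_apply, map_zero, zero_mul, map_zero, add_zero, AlgHom.id_apply]

/-- The substitution `u_i ↦ u_i + c_i a_i` as an `R`-algebra automorphism. -/
noncomputable def shiftEquiv (c : Fin n → ZMod p) : AS p n a x ≃ₐ[R] AS p n a x :=
  AlgEquiv.ofAlgHom (shift p n a x c) (shift p n a x (-c))
    (by rw [shift_comp, add_neg_cancel, shift_zero])
    (by rw [shift_comp, neg_add_cancel, shift_zero])

theorem shiftEquiv_apply (c : Fin n → ZMod p) (z : AS p n a x) :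
    shiftEquiv p n a x c z = shift p n a x c z := rfl

/-- `(ℤ/p)^n → Aut_R(A)`. -/
noncomputable def autHom : Multiplicative (Fin n → ZMod p) →* (AS p n a x ≃ₐ[R] AS p n a x) where
  toFun c := shiftEquiv p n a x (Multiplicative.toAdd c)
  map_one' := by
    ext z
    rw [shiftEquiv_apply, toAdd_one, shift_zero]
    rfl
  map_mul' c d := by
    ext z
    rw [shiftEquiv_apply, toAdd_mul, ← shift_comp, AlgEquiv.mul_apply]
    rfl

theorem autHom_apply_gen (c : Multiplicative (Fin n → ZMod p)) (i : Fin n) :
    autHom p n a x c (gen p n a x i) = shiftVal p n a x (Multiplicative.toAdd c) i :=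
  shift_gen p n a x _ i

theorem shiftVal_injective (ha : ∀ i, a i ≠ 0) (i : Fin n) (c d : ZMod p)
    (h : gen p n a x i + algebraMap R (AS p n a x) (zeta p c * a i) =
      gen p n a x i + algebraMap R (AS p n a x) (zeta p d * a i)) : c = d := by
  have h1 := add_left_cancel h
  have h2 := algebraMap_injective p n a x (two_le p) h1
  have h3 := mul_right_cancel₀ (ha i) h2
  exact ZMod.castHom_injective R h3

theorem autHom_injective (ha : ∀ i, a i ≠ 0) : Function.Injective (autHom p n a x) := by
  intro c d hcd
  have : Multiplicative.toAdd c = Multiplicative.toAdd d := by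
    funext i
    have h := congrArg (fun σ : AS p n a x ≃ₐ[R] AS p n a x => σ (gen p n a x i)) hcd
    simp only [autHom_apply_gen, shiftVal] at h
    exact shiftVal_injective p n a x ha i _ _ h
  exact Multiplicative.toAdd.injective this

/-- the roots of the `i`-th Artin–Schreier polynomial in `A` are the `u_i + c a_i`. -/
theorem exists_eq_of_root [IsDomain (AS p n a x)] (ha : ∀ i, a i ≠ 0) (i : Fin n)
    (v : AS p n a x) (hv : Polynomial.aeval v (asPoly1 p n a x i) = 0) :
    ∃ c : ZMod p, v = gen p n a x i + algebraMap R (AS p n a x) (zeta p c * a i) := by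
  classical
  set F : Polynomial (AS p n a x) := (asPoly1 p n a x i).map (algebraMap R (AS p n a x)) with hF
  have hmonic : F.Monic := (asPoly1_monic p n a x (two_le p) i).map _
  have hdeg : F.natDegree = p := by
    rw [hF, (asPoly1_monic p n a x (two_le p) i).natDegree_map,
      asPoly1_natDegree p n a x (two_le p) i]
  have hroot : ∀ w : AS p n a x, Polynomial.aeval w (asPoly1 p n a x i) = 0 → w ∈ F.roots := by
    intro w hw
    rw [Polynomial.mem_roots hmonic.ne_zero, Polynomial.IsRoot, hF, Polynomial.eval_map,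
      ← Polynomial.aeval_def]
    exact hw
  let f : ZMod p → AS p n a x := fun c =>
    gen p n a x i + algebraMap R (AS p n a x) (zeta p c * a i)
  have hf : Function.Injective f := fun c d h => shiftVal_injective p n a x ha i c d h
  let S : Finset (AS p n a x) := Finset.univ.image f
  have hScard : S.card = p := by
    rw [Finset.card_image_of_injective _ hf, Finset.card_univ, ZMod.card]
  have hSsub : S ⊆ F.roots.toFinset := by
    intro w hw
    obtain ⟨c, -, rfl⟩ := Finset.mem_image.mp hw
    rw [Multiset.mem_toFinset]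
    apply hroot
    have := shiftVal_root p n a x (fun _ => c) i
    exact this
  have hcard : F.roots.toFinset.card ≤ S.card := by
    rw [hScard]
    calc F.roots.toFinset.card ≤ Multiset.card F.roots := Multiset.toFinset_card_le _
      _ ≤ F.natDegree := Polynomial.card_roots' F
      _ = p := hdeg
  have hEq := Finset.eq_of_subset_of_card_le hSsub hcard
  have hvS : v ∈ S := by
    rw [hEq, Multiset.mem_toFinset]
    exact hroot v hv
  obtain ⟨c, -, hc⟩ := Finset.mem_image.mp hvS
  exact ⟨c, hc.symm⟩

theorem autHom_surjective [IsDomain (AS p n a x)] (ha : ∀ i, a i ≠ 0) :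
    Function.Surjective (autHom p n a x) := by
  intro σ
  have hex : ∀ i, ∃ c : ZMod p,
      σ (gen p n a x i) = gen p n a x i + algebraMap R (AS p n a x) (zeta p c * a i) := by
    intro i
    apply exists_eq_of_root p n a x ha i
    have := Polynomial.aeval_algHom_apply (σ : AS p n a x →ₐ[R] AS p n a x) (gen p n a x i)
      (asPoly1 p n a x i)
    rw [gen_root, map_zero] at this
    exact this
  choose c hc using hex
  refine ⟨Multiplicative.ofAdd c, ?_⟩
  have : ((autHom p n a x (Multiplicative.ofAdd c) : AS p n a x ≃ₐ[R] AS p n a x) :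
      AS p n a x →ₐ[R] AS p n a x) = (σ : AS p n a x →ₐ[R] AS p n a x) := by
    apply algHom_ext_gen
    intro i
    change autHom p n a x (Multiplicative.ofAdd c) (gen p n a x i) = σ (gen p n a x i)
    rw [autHom_apply_gen, hc i]
    rfl
  ext z
  exact DFunLike.congr_fun this z

/-- `(ℤ/p)^n ≃ Aut_R(A)`. -/
noncomputable def autEquiv [IsDomain (AS p n a x)] (ha : ∀ i, a i ≠ 0) :
    Multiplicative (Fin n → ZMod p) ≃* (AS p n a x ≃ₐ[R] AS p n a x) :=
  MulEquiv.ofBijective (autHom p n a x)
    ⟨autHom_injective p n a x ha, autHom_surjective p n a x ha⟩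

theorem card_aut [IsDomain (AS p n a x)] (ha : ∀ i, a i ≠ 0) :
    Nat.card (AS p n a x ≃ₐ[R] AS p n a x) = p ^ n := by
  rw [← Nat.card_congr (autEquiv p n a x ha).toEquiv]
  change Nat.card (Fin n → ZMod p) = p ^ n
  rw [Nat.card_eq_fintype_card, Fintype.card_fun, ZMod.card, Fintype.card_fin]

theorem aut_comm [IsDomain (AS p n a x)] (ha : ∀ i, a i ≠ 0)
    (σ τ : AS p n a x ≃ₐ[R] AS p n a x) : σ * τ = τ * σ := by
  obtain ⟨c, rfl⟩ := autHom_surjective p n a x ha σ
  obtain ⟨d, rfl⟩ := autHom_surjective p n a x ha τ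
  rw [← map_mul, ← map_mul, mul_comm]

theorem aut_pow [IsDomain (AS p n a x)] (ha : ∀ i, a i ≠ 0)
    (σ : AS p n a x ≃ₐ[R] AS p n a x) : σ ^ p = 1 := by
  obtain ⟨c, rfl⟩ := autHom_surjective p n a x ha σ
  rw [← map_pow]
  have : c ^ p = 1 := by
    apply Multiplicative.toAdd.injective
    rw [toAdd_pow, toAdd_one]
    funext i
    rw [Pi.smul_apply, Pi.zero_apply, nsmul_eq_mul, CharP.cast_eq_zero, zero_mul]
  rw [this, map_one]

end Groth.Agent.Lib.Seat73.ASAut
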