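import Mathlib

/-!
# Quotients of polynomial rings by monic one-variable relations in separate variables (seat 73)

For `q : Fin n → R[T]`, the algebra `R[u_1..u_n]/(q_i(u_i))` is isomorphic to the tensor product over `R`
of the algebras `R[T]/(q_i)`; if all the `q_i` are monic it is free of rank `∏ deg q_i`.
-/

set_option autoImplicit false
universe u

namespace Groth.Agent.Lib.Seat73.MonicFamily

open MvPolynomial PiTensorProduct
open scoped TensorProduct

variable {R : Type u} [CommRing R] {n : ℕ} (q : Fin n → Polynomial R)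

/-- The ideal generated by the `q_i(u_i)`. -/
noncomputable abbrev relIdeal : Ideal (MvPolynomial (Fin n) R) :=
  Ideal.span (Set.range fun i : Fin n =>
    Polynomial.aeval (X i : MvPolynomial (Fin n) R) (q i))

/-- The tensor product of the `R[T]/(q_i)`. -/
abbrev TP : Type u := ⨂[R] i : Fin n, AdjoinRoot (q i)

/-- The generator `1 ⊗ … ⊗ root ⊗ … ⊗ 1`. -/
noncomputable def gen (i : Fin n) : TP q :=
  singleAlgHom (R := R) (A := fun i : Fin n => AdjoinRoot (q i)) i (AdjoinRoot.root (q i))

noncomputable def polyToTP : MvPolynomial (Fin n) R →ₐ[R] TP q :=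
  MvPolynomial.aeval (gen q)

theorem polyToTP_X (i : Fin n) : polyToTP q (X i) = gen q i := by
  simp [polyToTP]

theorem polyToTP_rel (i : Fin n) :
    polyToTP q (Polynomial.aeval (X i : MvPolynomial (Fin n) R) (q i)) = 0 := by
  rw [← Polynomial.aeval_algHom_apply, polyToTP_X, gen, Polynomial.aeval_algHom_apply,
    AdjoinRoot.aeval_eq, AdjoinRoot.mk_self, map_zero]

theorem polyToTP_eq_zero (g : MvPolynomial (Fin n) R) (hg : g ∈ relIdeal q) :
    polyToTP q g = 0 := by
  have hle : relIdeal q ≤ RingHom.ker (polyToTP q : MvPolynomial (Fin n) R →+* TP q) := by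
    rw [Ideal.span_le]
    rintro _ ⟨i, rfl⟩
    exact polyToTP_rel q i
  exact hle hg

/-- `R[u]/(q_i(u_i)) → ⨂ R[T]/(q_i)`. -/
noncomputable def toTP : (MvPolynomial (Fin n) R ⧸ relIdeal q) →ₐ[R] TP q :=
  Ideal.Quotient.liftₐ (relIdeal q) (polyToTP q) (polyToTP_eq_zero q)

theorem toTP_mk_X (i : Fin n) : toTP q (Ideal.Quotient.mk (relIdeal q) (X i)) = gen q i := by
  rw [toTP, Ideal.Quotient.liftₐ_apply]
  exact (Ideal.Quotient.lift_mk _ _ _).trans (polyToTP_X q i)

theorem aeval_mk_X (i : Fin n) :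
    (q i).eval₂ (Algebra.ofId R (MvPolynomial (Fin n) R ⧸ relIdeal q) : R →+* _)
      (Ideal.Quotient.mk (relIdeal q) (X i)) = 0 := by
  have h : Polynomial.aeval (Ideal.Quotient.mk (relIdeal q) (X i)) (q i) = 0 := by
    have := Polynomial.aeval_algHom_apply (Ideal.Quotient.mkₐ R (relIdeal q))
      (X i : MvPolynomial (Fin n) R) (q i)
    rw [Ideal.Quotient.mkₐ_eq_mk] at this
    rw [this, Ideal.Quotient.eq_zero_iff_mem]
    exact Ideal.subset_span ⟨i, rfl⟩
  exact h

/-- the component maps `R[T]/(q_i) → R[u]/(q_i(u_i))`. -/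
noncomputable def comp (i : Fin n) :
    AdjoinRoot (q i) →ₐ[R] (MvPolynomial (Fin n) R ⧸ relIdeal q) :=
  AdjoinRoot.liftAlgHom (q i) (Algebra.ofId R _) (Ideal.Quotient.mk (relIdeal q) (X i))
    (aeval_mk_X q i)

theorem comp_root (i : Fin n) :
    comp q i (AdjoinRoot.root (q i)) = Ideal.Quotient.mk (relIdeal q) (X i) :=
  AdjoinRoot.liftAlgHom_root _ _ _ _

/-- `⨂ R[T]/(q_i) → R[u]/(q_i(u_i))`. -/
noncomputable def fromTP : TP q →ₐ[R] (MvPolynomial (Fin n) R ⧸ relIdeal q) :=
  PiTensorProduct.liftAlgHom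
    ((MultilinearMap.mkPiAlgebra R (Fin n) (MvPolynomial (Fin n) R ⧸ relIdeal q)).compLinearMap
      (fun i => (comp q i).toLinearMap))
    (by simp)
    (by
      intro x y
      simp only [MultilinearMap.compLinearMap_apply, MultilinearMap.mkPiAlgebra_apply,
        AlgHom.toLinearMap_apply, Pi.mul_apply, map_mul]
      exact Finset.prod_mul_distrib)

theorem fromTP_tprod (x : ∀ i : Fin n, AdjoinRoot (q i)) :
    fromTP q (tprod R x) = ∏ i, comp q i (x i) := by
  simp [fromTP]

theorem fromTP_single (i : Fin n) (z : AdjoinRoot (q i)) :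
    fromTP q (singleAlgHom (R := R) (A := fun i : Fin n => AdjoinRoot (q i)) i z) = comp q i z := by
  classical
  rw [singleAlgHom_apply, fromTP_tprod, Finset.prod_eq_single i]
  · simp
  · intro j _ hj
    simp [hj]
  · intro h; exact absurd (Finset.mem_univ i) h

theorem fromTP_gen (i : Fin n) : fromTP q (gen q i) = Ideal.Quotient.mk (relIdeal q) (X i) := by
  rw [gen, fromTP_single, comp_root]

theorem fromTP_comp_toTP : (fromTP q).comp (toTP q) = AlgHom.id R _ := by
  apply Ideal.Quotient.algHom_ext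
  apply MvPolynomial.algHom_ext
  intro i
  simp only [AlgHom.coe_comp, Function.comp_apply, Ideal.Quotient.mkₐ_eq_mk, AlgHom.id_comp]
  rw [toTP_mk_X, fromTP_gen]

theorem toTP_comp_fromTP : (toTP q).comp (fromTP q) = AlgHom.id R _ := by
  classical
  apply PiTensorProduct.algHom_ext
  intro i
  apply AdjoinRoot.algHom_ext
  simp only [AlgHom.coe_comp, Function.comp_apply, AlgHom.id_comp]
  have : fromTP q (singleAlgHom (R := R) (A := fun i : Fin n => AdjoinRoot (q i)) i
      (AdjoinRoot.root (q i))) = Ideal.Quotient.mk (relIdeal q) (X i) := fromTP_gen q i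
  rw [this, toTP_mk_X]
  rfl

/-- `R[u]/(q_i(u_i)) ≃ ⨂ R[T]/(q_i)`. -/
noncomputable def equivTP : (MvPolynomial (Fin n) R ⧸ relIdeal q) ≃ₐ[R] TP q :=
  AlgEquiv.ofAlgHom (toTP q) (fromTP q) (toTP_comp_fromTP q) (fromTP_comp_toTP q)

/-- the monomial basis of `R[u]/(q_i(u_i))` for monic `q_i`. -/
noncomputable def basis (hq : ∀ i, (q i).Monic) :
    Module.Basis (∀ i : Fin n, Fin (q i).natDegree) R (MvPolynomial (Fin n) R ⧸ relIdeal q) :=
  (Basis.piTensorProduct (fun i => AdjoinRoot.powerBasisAux' (hq i))).map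
    (equivTP q).symm.toLinearEquiv

theorem free (hq : ∀ i, (q i).Monic) :
    Module.Free R (MvPolynomial (Fin n) R ⧸ relIdeal q) :=
  Module.Free.of_basis (basis q hq)

theorem finite (hq : ∀ i, (q i).Monic) :
    Module.Finite R (MvPolynomial (Fin n) R ⧸ relIdeal q) :=
  Module.Finite.of_basis (basis q hq)

theorem finrank_eq [Nontrivial R] (hq : ∀ i, (q i).Monic) :
    Module.finrank R (MvPolynomial (Fin n) R ⧸ relIdeal q) = ∏ i, (q i).natDegree := by
  rw [Module.finrank_eq_card_basis (basis q hq), Fintype.card_pi]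
  simp

end Groth.Agent.Lib.Seat73.MonicFamily
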