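import Mathlib
import Groth.Agent.Lib.Seat73ArtinSchreier
import Groth.Agent.Lib.Seat73MonicFamily
import Groth.Agent.Lib.Helper18ComplProd

/-!
# Artin–Schreier families: freeness, rank and completeness (seat 73)
-/

set_option autoImplicit false
universe u

namespace Groth.Agent.Lib.Seat73.ASFree

open MvPolynomial IsLocalRing Groth.Agent.Lib.Seat73.ArtinSchreier Groth.Agent.Lib.Seat73.MonicFamily

variable {R : Type u} [CommRing R] (p n : ℕ) (a x : Fin n → R)

theorem asIdeal_eq_relIdeal (hp : 2 ≤ p) :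
    asIdeal p n a x = relIdeal (asPoly1 p n a x) := by
  have hp1 : p - 1 + 1 = p := by omega
  unfold asIdeal relIdeal
  congr 2
  funext i
  simp only [asPoly1, hp1, map_sub, map_add, map_mul, map_pow, Polynomial.aeval_X,
    Polynomial.aeval_C, MvPolynomial.algebraMap_eq]
  ring

theorem free [Nontrivial R] (hp : 2 ≤ p) :
    Module.Free R (MvPolynomial (Fin n) R ⧸ asIdeal p n a x) := by
  rw [asIdeal_eq_relIdeal p n a x hp]
  exact MonicFamily.free _ (asPoly1_monic p n a x hp)

theorem finite [Nontrivial R] (hp : 2 ≤ p) :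
    Module.Finite R (MvPolynomial (Fin n) R ⧸ asIdeal p n a x) := by
  rw [asIdeal_eq_relIdeal p n a x hp]
  exact MonicFamily.finite _ (asPoly1_monic p n a x hp)

theorem finrank_eq [Nontrivial R] (hp : 2 ≤ p) :
    Module.finrank R (MvPolynomial (Fin n) R ⧸ asIdeal p n a x) = p ^ n := by
  rw [asIdeal_eq_relIdeal p n a x hp, MonicFamily.finrank_eq _ (asPoly1_monic p n a x hp)]
  simp [asPoly1_natDegree p n a x hp]

theorem isAdicComplete [IsLocalRing R] [IsNoetherianRing R] [IsAdicComplete (maximalIdeal R) R]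
    (hp : 2 ≤ p) (ha : ∀ i, a i ∈ maximalIdeal R)
    (hx : ∀ i, x i ∈ maximalIdeal R) (hspan : maximalIdeal R ≤ Ideal.span (Set.range x)) :
    IsAdicComplete ((varIdeal n).map (Ideal.Quotient.mk (asIdeal p n a x)))
      (MvPolynomial (Fin n) R ⧸ asIdeal p n a x) := by
  have _i1 := isLocalRing p n a x hp ha hx hspan
  have _i2 := finite p n a x hp
  have h := (Groth.Agent.Lib.Helper18ComplProd.isAdicComplete_of_finite R
    (MvPolynomial (Fin n) R ⧸ asIdeal p n a x)).2
  rwa [eq_map_varIdeal_of_isMaximal p n a x hp ha hx hspan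
    (maximalIdeal (MvPolynomial (Fin n) R ⧸ asIdeal p n a x))] at h

section powerSeries

variable (k : Type u) [Field k]

theorem isAdicComplete_mvPowerSeries (n : ℕ) :
    IsAdicComplete (maximalIdeal (MvPowerSeries (Fin n) k)) (MvPowerSeries (Fin n) k) := by
  have h : maximalIdeal (MvPowerSeries (Fin n) k) =
      Ideal.span (Set.range (MvPowerSeries.X : Fin n → MvPowerSeries (Fin n) k)) := by
    apply le_antisymm (maximalIdeal_le_span_X k n)
    rw [Ideal.span_le]
    rintro _ ⟨i, rfl⟩
    exact X_mem_maximalIdeal k n i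
  rw [h]
  infer_instance

end powerSeries

end Groth.Agent.Lib.Seat73.ASFree
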