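import Mathlib

/-!
# Invariants of the full automorphism group of a finite free extension of domains (seat 73)

If `A/R` is a finite extension of domains whose group of `R`-algebra automorphisms has as many elements
as the rank of `A` over `R`, and `R → A` has an `R`-linear retraction, then the elements of `A` fixed by
all `R`-algebra automorphisms are exactly those of `R` (Artin's theorem on the fraction fields).
-/

set_option autoImplicit false
universe u

namespace Groth.Agent.Lib.Seat73.GalFixed

open Module

attribute [local instance] FractionRing.liftAlgebra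

variable {R A : Type u} [CommRing R] [CommRing A] [IsDomain R] [IsDomain A] [Algebra R A]
  [FaithfulSMul R A]

local notation "K" => FractionRing R
local notation "L" => FractionRing A

/-- Artin: if `|Aut_R(A)| = rank_R A > 0` then the fixed field of the induced group of automorphisms of
`Frac A` is `Frac R`. -/
theorem fixedField_range_eq_bot (hcard : Nat.card (A ≃ₐ[R] A) = finrank R A)
    (hpos : 0 < finrank R A) :
    IntermediateField.fixedField
      (IsFractionRing.fieldEquivOfAlgEquivHom (A := R) (B := A) K L).range = ⊥ := by
  set φ := IsFractionRing.fieldEquivOfAlgEquivHom (A := R) (B := A) K L with hφ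
  have hinj : Function.Injective φ := IsFractionRing.fieldEquivOfAlgEquivHom_injective R A K L
  have hKL : finrank K L = finrank R A := IsFractionRing.finrank_eq R K A L
  have _fd : FiniteDimensional K L := FiniteDimensional.of_finrank_pos (hKL ▸ hpos)
  have hH : Nat.card φ.range = finrank R A := by
    rw [← hcard]
    exact (Nat.card_congr (MonoidHom.ofInjective hinj).toEquiv).symm
  have h1 : finrank (IntermediateField.fixedField φ.range) L = finrank R A := by
    rw [IntermediateField.finrank_fixedField_eq_card, hH]
  have _free1 : Module.Free K (IntermediateField.fixedField φ.range) :=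
    Module.Free.of_divisionRing _ _
  have _free2 : Module.Free (IntermediateField.fixedField φ.range) L :=
    Module.Free.of_divisionRing _ _
  have h2 := Module.finrank_mul_finrank K (IntermediateField.fixedField φ.range) L
  rw [h1, hKL] at h2
  have h3 : finrank K (IntermediateField.fixedField φ.range) = 1 := by
    have : finrank K (IntermediateField.fixedField φ.range) * finrank R A = 1 * finrank R A := by
      rw [h2, one_mul]
    exact Nat.eq_of_mul_eq_mul_right hpos this
  exact IntermediateField.finrank_eq_one_iff.mp h3

/-- The elements of `A` fixed by all `R`-algebra automorphisms come from `R`. -/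
theorem mem_range_of_fixed (hcard : Nat.card (A ≃ₐ[R] A) = finrank R A)
    (hpos : 0 < finrank R A) (ρ : A →ₗ[R] R) (hρ : ρ 1 = 1) (b : A)
    (hb : ∀ σ : A ≃ₐ[R] A, σ b = b) : b ∈ Set.range (algebraMap R A) := by
  have hbot := fixedField_range_eq_bot (R := R) (A := A) hcard hpos
  have hmem : algebraMap A L b ∈ IntermediateField.fixedField
      (IsFractionRing.fieldEquivOfAlgEquivHom (A := R) (B := A) K L).range := by
    rw [IntermediateField.mem_fixedField_iff]
    rintro f ⟨σ, rfl⟩
    rw [IsFractionRing.fieldEquivOfAlgEquivHom_apply, IsFractionRing.fieldEquivOfAlgEquiv_algebraMap,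
      hb σ]
  rw [hbot, IntermediateField.mem_bot] at hmem
  obtain ⟨κ, hκ⟩ := hmem
  obtain ⟨r, s, hs, rfl⟩ := IsFractionRing.div_surjective (A := R) κ
  have hs0 : s ≠ 0 := nonZeroDivisors.ne_zero hs
  have hsL : algebraMap R L s ≠ 0 := by
    rw [IsScalarTower.algebraMap_apply R A L]
    intro h0
    have h1 := (IsFractionRing.injective A L) (h0.trans (map_zero _).symm)
    exact hs0 ((FaithfulSMul.algebraMap_injective R A) (h1.trans (map_zero _).symm))
  rw [map_div₀, ← IsScalarTower.algebraMap_apply R K L, ← IsScalarTower.algebraMap_apply R K L,
    div_eq_iff hsL, IsScalarTower.algebraMap_apply R A L r, IsScalarTower.algebraMap_apply R A L s,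
    ← map_mul] at hκ
  have hA : algebraMap R A r = b * algebraMap R A s := IsFractionRing.injective A L hκ
  -- apply the retraction
  have hr : r = s * ρ b := by
    have := congrArg ρ hA
    rw [Algebra.algebraMap_eq_smul_one, map_smul, hρ, smul_eq_mul, mul_one, mul_comm b,
      ← Algebra.smul_def, map_smul, smul_eq_mul] at this
    exact this
  refine ⟨ρ b, ?_⟩
  have hsA : algebraMap R A s ≠ 0 := by
    intro h0
    exact hs0 ((FaithfulSMul.algebraMap_injective R A) (h0.trans (map_zero _).symm))
  apply mul_right_cancel₀ hsA
  rw [← hA, hr, map_mul, mul_comm]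

end Groth.Agent.Lib.Seat73.GalFixed
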