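import Mathlib
import Groth.Agent.Lib.Seat73ASAut
import Groth.Agent.Lib.Seat73ASFree
import Groth.Agent.Lib.Seat73GalFixed

/-!
# Artin–Schreier families: invariants of the automorphism group (seat 73)
-/

set_option autoImplicit false
set_option linter.unusedSectionVars false
universe u

namespace Groth.Agent.Lib.Seat73.ASFixed

open MvPolynomial PiTensorProduct Groth.Agent.Lib.Seat73.ArtinSchreier
  Groth.Agent.Lib.Seat73.MonicFamily Groth.Agent.Lib.Seat73.ASAut Groth.Agent.Lib.Seat73.ASFree

section monic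

variable {R : Type u} [CommRing R] {n : ℕ} (q : Fin n → Polynomial R)

theorem powerBasisAux'_apply {g : Polynomial R} (hg : g.Monic) (j : Fin g.natDegree) :
    AdjoinRoot.powerBasisAux' hg j = AdjoinRoot.root g ^ (j : ℕ) := by
  exact (AdjoinRoot.powerBasis' hg).basis_eq_pow j

/-- the basis of `R[u]/(q_i(u_i))` consists of the monomials `∏ u_i^(e_i)`, `e_i < deg q_i`. -/
theorem basis_apply (hq : ∀ i, (q i).Monic) (e : ∀ i : Fin n, Fin (q i).natDegree) :
    MonicFamily.basis q hq e = ∏ i, (Ideal.Quotient.mk (relIdeal q) (X i)) ^ (e i : ℕ) := by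
  rw [MonicFamily.basis, Module.Basis.map_apply, Basis.piTensorProduct_apply]
  change fromTP q _ = _
  rw [fromTP_tprod]
  refine Finset.prod_congr rfl fun i _ => ?_
  rw [powerBasisAux'_apply, map_pow, comp_root]

/-- an `R`-linear retraction of `R → R[u]/(q_i(u_i))` when all `q_i` are monic of positive degree. -/
theorem exists_retraction (hq : ∀ i, (q i).Monic) (hdeg : ∀ i, 0 < (q i).natDegree) :
    ∃ ρ : (MvPolynomial (Fin n) R ⧸ relIdeal q) →ₗ[R] R, ρ 1 = 1 := by
  refine ⟨(MonicFamily.basis q hq).coord (fun i => ⟨0, hdeg i⟩), ?_⟩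
  have h1 : (1 : MvPolynomial (Fin n) R ⧸ relIdeal q) =
      MonicFamily.basis q hq (fun i => ⟨0, hdeg i⟩) := by
    rw [basis_apply]
    simp
  rw [h1, Module.Basis.coord_apply, Module.Basis.repr_self, Finsupp.single_eq_same]

end monic

section AS

variable {R : Type u} [CommRing R] [IsDomain R] (p n : ℕ) [hp : Fact p.Prime] [CharP R p]
  (a x : Fin n → R)

theorem exists_retraction_AS :
    ∃ ρ : AS p n a x →ₗ[R] R, ρ 1 = 1 := by
  have h2 := two_le p
  unfold AS
  rw [asIdeal_eq_relIdeal p n a x h2]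
  refine exists_retraction _ (asPoly1_monic p n a x h2) fun i => ?_
  rw [asPoly1_natDegree p n a x h2 i]
  omega

theorem fixed_iff [IsDomain (AS p n a x)] (ha : ∀ i, a i ≠ 0) (b : AS p n a x) :
    (∀ σ : AS p n a x ≃ₐ[R] AS p n a x, σ b = b) ↔
      b ∈ Set.range (algebraMap R (AS p n a x)) := by
  constructor
  · intro hb
    have h2 := two_le p
    have _fs : FaithfulSMul R (AS p n a x) :=
      (faithfulSMul_iff_algebraMap_injective R (AS p n a x)).mpr (algebraMap_injective p n a x h2)
    obtain ⟨ρ, hρ⟩ := exists_retraction_AS p n a x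
    have hrank : Module.finrank R (AS p n a x) = p ^ n := ASFree.finrank_eq p n a x h2
    refine GalFixed.mem_range_of_fixed ?_ ?_ ρ hρ b hb
    · rw [card_aut p n a x ha, hrank]
    · rw [hrank]; exact pow_pos (by omega) n
  · rintro ⟨r, rfl⟩ σ
    exact σ.commutes r

end AS

end Groth.Agent.Lib.Seat73.ASFixed
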