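import Mathlib
import Groth.Agent.Lib.Seat73ArtinSchreier
import Groth.Agent.Lib.Seat73ASFree
import Groth.Agent.Lib.Seat73LenFree

/-!
# The fixed-point ideal of the diagonal automorphism of an Artin–Schreier family (seat 73)

For `A = R[u]/(u_i^p - a_i^(p-1) u_i - x_i)` and the `R`-automorphism `σ u_i = u_i + a_i`, the ideal
generated by all `σ t - t` is `(a_1..a_n)A`; it lies in `(u_1..u_n)^p`, and (when `R`, `A` have a common
coefficient field) `length_A (A/(a)A) = p^n · length_R (R/(a))`.
-/

set_option autoImplicit false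
set_option linter.unusedSectionVars false
set_option linter.style.haveILetI false
universe u v

namespace Groth.Agent.Lib.Seat73.ASFixedIdeal

open MvPolynomial IsLocalRing Groth.Agent.Lib.Seat73.ArtinSchreier

variable {R : Type u} [CommRing R] (p n : ℕ) (a x : Fin n → R)

local notation "AA" => MvPolynomial (Fin n) R ⧸ asIdeal p n a x
local notation "uu" => fun i : Fin n => Ideal.Quotient.mk (asIdeal p n a x) (X i)

/-- the ideal generated by the `σ t - t` is `(a_1..a_n)A` -/
theorem span_range_sub_eq (σ : AA ≃ₐ[R] AA)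
    (hσ : ∀ i, σ (Ideal.Quotient.mk (asIdeal p n a x) (X i)) =
      Ideal.Quotient.mk (asIdeal p n a x) (X i) + algebraMap R AA (a i)) :
    Ideal.span (Set.range fun t : AA => σ t - t) =
      (Ideal.span (Set.range a)).map (algebraMap R AA) := by
  apply le_antisymm
  · rw [Ideal.span_le]
    rintro _ ⟨t, rfl⟩
    have hai : ∀ i, algebraMap R AA (a i) ∈ (Ideal.span (Set.range a)).map (algebraMap R AA) :=
      fun i => Ideal.mem_map_of_mem _ (Ideal.subset_span ⟨i, rfl⟩)
    obtain ⟨g, rfl⟩ := Ideal.Quotient.mk_surjective t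
    induction g using MvPolynomial.induction_on with
    | C r =>
      have : Ideal.Quotient.mk (asIdeal p n a x) (C r) = algebraMap R AA r := rfl
      change σ (Ideal.Quotient.mk (asIdeal p n a x) (C r)) -
        Ideal.Quotient.mk (asIdeal p n a x) (C r) ∈ _
      rw [this, AlgEquiv.commutes, sub_self]
      exact Ideal.zero_mem _
    | add f g hf hg =>
      change σ (Ideal.Quotient.mk (asIdeal p n a x) (f + g)) -
        Ideal.Quotient.mk (asIdeal p n a x) (f + g) ∈ _
      rw [map_add, map_add, add_sub_add_comm]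
      exact Ideal.add_mem _ hf hg
    | mul_X f i hf =>
      change σ (Ideal.Quotient.mk (asIdeal p n a x) (f * X i)) -
        Ideal.Quotient.mk (asIdeal p n a x) (f * X i) ∈ _
      rw [map_mul, map_mul, hσ]
      have e : σ (Ideal.Quotient.mk (asIdeal p n a x) f) *
          (Ideal.Quotient.mk (asIdeal p n a x) (X i) + algebraMap R AA (a i)) -
          Ideal.Quotient.mk (asIdeal p n a x) f * Ideal.Quotient.mk (asIdeal p n a x) (X i) =
          (σ (Ideal.Quotient.mk (asIdeal p n a x) f) - Ideal.Quotient.mk (asIdeal p n a x) f) *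
            Ideal.Quotient.mk (asIdeal p n a x) (X i) +
          σ (Ideal.Quotient.mk (asIdeal p n a x) f) * algebraMap R AA (a i) := by ring
      rw [e]
      exact Ideal.add_mem _ (Ideal.mul_mem_right _ _ hf) (Ideal.mul_mem_left _ _ (hai i))
  · rw [Ideal.map_span, Ideal.span_le]
    rintro _ ⟨_, ⟨i, rfl⟩, rfl⟩
    refine Ideal.subset_span ⟨Ideal.Quotient.mk (asIdeal p n a x) (X i), ?_⟩
    change σ (Ideal.Quotient.mk (asIdeal p n a x) (X i)) -
      Ideal.Quotient.mk (asIdeal p n a x) (X i) = _
    rw [hσ, add_sub_cancel_left]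

section local_

variable [IsLocalRing R]

theorem span_range_u_eq_map :
    Ideal.span (Set.range uu) = (varIdeal n).map (Ideal.Quotient.mk (asIdeal p n a x)) := by
  rw [Ideal.map_span, ← Set.range_comp]
  rfl

theorem maximalIdeal_eq [IsLocalRing AA] (hp : 2 ≤ p) (ha : ∀ i, a i ∈ maximalIdeal R)
    (hx : ∀ i, x i ∈ maximalIdeal R) (hspan : maximalIdeal R ≤ Ideal.span (Set.range x)) :
    maximalIdeal AA = Ideal.span (Set.range uu) := by
  rw [span_range_u_eq_map]
  exact eq_map_varIdeal_of_isMaximal p n a x hp ha hx hspan (maximalIdeal AA)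

/-- `𝔪_R A ⊆ (u_1..u_n)^p` -/
theorem map_maximalIdeal_le_pow [IsLocalRing AA] (hp : 2 ≤ p) (ha : ∀ i, a i ∈ maximalIdeal R)
    (hx : ∀ i, x i ∈ maximalIdeal R) (hspan : maximalIdeal R ≤ Ideal.span (Set.range x)) :
    (maximalIdeal R).map (algebraMap R AA) ≤ Ideal.span (Set.range uu) ^ p := by
  have hmR : maximalIdeal R = Ideal.span (Set.range x) := by
    apply le_antisymm hspan
    rw [Ideal.span_le]
    rintro _ ⟨i, rfl⟩
    exact hx i
  have hmA := maximalIdeal_eq p n a x hp ha hx hspan
  have hfg : ((maximalIdeal R).map (algebraMap R AA)).FG := by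
    rw [hmR, Ideal.map_span]
    exact Submodule.fg_span ((Set.finite_range _).image _)
  have hjac : Ideal.span (Set.range uu) ≤ (⊥ : Ideal AA).jacobson := by
    rw [IsLocalRing.jacobson_eq_maximalIdeal ⊥ bot_ne_top, hmA]
  refine Submodule.le_of_le_smul_of_le_jacobson_bot hfg hjac ?_
  conv_lhs => rw [hmR, Ideal.map_span]
  rw [Ideal.span_le]
  rintro _ ⟨_, ⟨i, rfl⟩, rfl⟩
  have hgen : Ideal.Quotient.mk (asIdeal p n a x) (X i) ∈ Ideal.span (Set.range uu) :=
    Ideal.subset_span ⟨i, rfl⟩
  have e : algebraMap R AA (x i) = (Ideal.Quotient.mk (asIdeal p n a x) (X i)) ^ p -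
      Ideal.Quotient.mk (asIdeal p n a x) (X i) • algebraMap R AA (a i ^ (p - 1)) := by
    rw [mk_X_pow, smul_eq_mul]
    ring
  rw [SetLike.mem_coe, e]
  refine Submodule.sub_mem _ (Submodule.mem_sup_left (Ideal.pow_mem_pow hgen p))
    (Submodule.mem_sup_right (Submodule.smul_mem_smul hgen ?_))
  exact Ideal.mem_map_of_mem _ (Ideal.pow_mem_of_mem _ (ha i) _ (by omega))

theorem map_span_le_pow [IsLocalRing AA] (hp : 2 ≤ p) (ha : ∀ i, a i ∈ maximalIdeal R)
    (hx : ∀ i, x i ∈ maximalIdeal R) (hspan : maximalIdeal R ≤ Ideal.span (Set.range x)) :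
    (Ideal.span (Set.range a)).map (algebraMap R AA) ≤ Ideal.span (Set.range uu) ^ p := by
  refine le_trans (Ideal.map_mono ?_) (map_maximalIdeal_le_pow p n a x hp ha hx hspan)
  rw [Ideal.span_le]
  rintro _ ⟨i, rfl⟩
  exact ha i

/-- the residue field of `A` is that of `R` -/
theorem residue_surjective {k : Type v} [Field k] [Algebra k R] [IsLocalRing AA] (hp : 2 ≤ p)
    (ha : ∀ i, a i ∈ maximalIdeal R) (hx : ∀ i, x i ∈ maximalIdeal R)
    (hspan : maximalIdeal R ≤ Ideal.span (Set.range x))
    (hkR : Function.Surjective (IsLocalRing.residue R ∘ algebraMap k R)) :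
    Function.Surjective (IsLocalRing.residue AA ∘ algebraMap k AA) := by
  have hmA := maximalIdeal_eq p n a x hp ha hx hspan
  intro y
  obtain ⟨t, rfl⟩ := IsLocalRing.residue_surjective y
  obtain ⟨g, rfl⟩ := Ideal.Quotient.mk_surjective t
  obtain ⟨c, hc⟩ := hkR (IsLocalRing.residue R (constantCoeff g))
  refine ⟨c, ?_⟩
  rw [Function.comp_apply] at hc ⊢
  rw [← sub_eq_zero, ← map_sub, IsLocalRing.residue_eq_zero_iff] at hc ⊢
  -- decompose
  have h1 : g - C (constantCoeff g) ∈ varIdeal (R := R) n := by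
    have : g - C (constantCoeff g) ∈ idealOfVars (Fin n) R ^ 1 := by
      rw [mem_pow_idealOfVars_iff']
      intro m hm
      have hm0 : m = 0 := (Finsupp.degree_eq_zero_iff m).1 (by omega)
      subst hm0
      simp [constantCoeff_eq]
    rwa [pow_one] at this
  have h2 : Ideal.Quotient.mk (asIdeal p n a x) (g - C (constantCoeff g)) ∈ maximalIdeal AA := by
    rw [hmA, span_range_u_eq_map]
    exact Ideal.mem_map_of_mem _ h1
  have h3 : algebraMap R AA (algebraMap k R c - constantCoeff g) ∈ maximalIdeal AA := by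
    have h4 := map_maximalIdeal_le_pow p n a x hp ha hx hspan (Ideal.mem_map_of_mem _ hc)
    rw [hmA]
    exact Ideal.pow_le_self (by omega) h4
  have e : algebraMap k AA c - Ideal.Quotient.mk (asIdeal p n a x) g =
      algebraMap R AA (algebraMap k R c - constantCoeff g) -
        Ideal.Quotient.mk (asIdeal p n a x) (g - C (constantCoeff g)) := by
    rw [IsScalarTower.algebraMap_apply k R AA, map_sub, map_sub]
    have : Ideal.Quotient.mk (asIdeal p n a x) (C (constantCoeff g)) =
        algebraMap R AA (constantCoeff g) := rfl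
    rw [this]
    ring
  rw [e]
  exact Ideal.sub_mem _ h3 h2

/-- `length_A (A/(a)A) = p^n · length_R (R/(a))` -/
theorem length_quot_map_span {k : Type v} [Field k] [Algebra k R] [IsLocalRing AA] (hp : 2 ≤ p)
    (ha : ∀ i, a i ∈ maximalIdeal R) (hx : ∀ i, x i ∈ maximalIdeal R)
    (hspan : maximalIdeal R ≤ Ideal.span (Set.range x))
    (hkR : Function.Surjective (IsLocalRing.residue R ∘ algebraMap k R)) (𝔞 : Ideal R) :
    Module.length AA (AA ⧸ 𝔞.map (algebraMap R AA)) =
      (p ^ n : ℕ∞) * Module.length R (R ⧸ 𝔞) := by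
  have hkA := residue_surjective p n a x hp ha hx hspan hkR
  haveI := ASFree.free p n a x hp
  haveI := ASFree.finite p n a x hp
  let b := Module.Free.chooseBasis R AA
  rw [LenFree.length_quot_map_of_basis hkR hkA b 𝔞, ← Module.finrank_eq_card_chooseBasisIndex,
    ASFree.finrank_eq p n a x hp]
  norm_cast

end local_

end Groth.Agent.Lib.Seat73.ASFixedIdeal
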