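import Mathlib

/-!
# A degree criterion for injectivity of an algebra map into a field (seat 73)

If `Ψ : C → L` is a `K`-algebra map from a finite-dimensional `K`-algebra to a finite field extension
`L/K`, `u ∈ L` is a root of a nonzero `P ∈ K[X]`, `L` is generated as a field by the image of `Ψ` and
`u`, and `dim_K C * deg P ≤ [L : K]`, then `Ψ` is injective.
-/

set_option autoImplicit false
universe u v w

namespace Groth.Agent.Lib.Seat73.FieldDeg

open Module IntermediateField

variable {K : Type u} {L : Type v} [Field K] [Field L] [Algebra K L] [FiniteDimensional K L]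
  {C : Type w} [CommRing C] [Algebra K C] [Module.Finite K C]

theorem injective_of_finrank (Ψ : C →ₐ[K] L) (u : L) (P : Polynomial K)
    (hP0 : P ≠ 0) (hPu : Polynomial.aeval u P = 0)
    (hgen : ∀ E : IntermediateField K L, (∀ c, Ψ c ∈ E) → u ∈ E → E = ⊤)
    (hdim : finrank K C * P.natDegree ≤ finrank K L) : Function.Injective Ψ := by
  classical
  let F : IntermediateField K L :=
    Subalgebra.toIntermediateField' Ψ.range (Subalgebra.isField_of_algebraic _)
  have hF : ∀ c, Ψ c ∈ F := fun c => ⟨c, rfl⟩
  -- `finrank K F + finrank K (ker Ψ) = finrank K C`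
  have hrange : finrank K F = finrank K (LinearMap.range Ψ.toLinearMap) := rfl
  have hrn := LinearMap.finrank_range_add_finrank_ker Ψ.toLinearMap
  -- `F(u) = L`
  have htop : F⟮u⟯ = ⊤ := by
    have h1 := hgen (F⟮u⟯.restrictScalars K)
      (fun c => (F⟮u⟯).algebraMap_mem ⟨Ψ c, hF c⟩) (mem_adjoin_simple_self F u)
    rw [eq_top_iff]
    intro l _
    have : l ∈ F⟮u⟯.restrictScalars K := h1 ▸ mem_top
    exact this
  have hint : IsIntegral F u := IsIntegral.of_finite F u
  have hdegF : finrank F L ≤ P.natDegree := by
    rw [← IntermediateField.finrank_top', ← htop, adjoin.finrank hint]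
    have hPF : (P.map (algebraMap K F)) ≠ 0 :=
      (Polynomial.map_ne_zero_iff (algebraMap K F).injective).mpr hP0
    have hroot : Polynomial.aeval u (P.map (algebraMap K F)) = 0 := by
      rw [Polynomial.aeval_map_algebraMap]; exact hPu
    calc (minpoly F u).natDegree ≤ (P.map (algebraMap K F)).natDegree :=
          Polynomial.natDegree_le_of_dvd (minpoly.dvd F u hroot) hPF
      _ = P.natDegree := Polynomial.natDegree_map _
  have _free1 : Module.Free K F := Module.Free.of_divisionRing _ _
  have _free2 : Module.Free F L := Module.Free.of_divisionRing _ _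
  have htower := Module.finrank_mul_finrank K F L
  have hposL : 0 < finrank K L := Module.finrank_pos
  have hPpos : 0 < P.natDegree := by
    rcases Nat.eq_zero_or_pos P.natDegree with h0 | h0
    · exfalso
      have hFL : 0 < finrank F L := Module.finrank_pos
      omega
    · exact h0
  -- `finrank K C ≤ finrank K F`
  have hge : finrank K C ≤ finrank K F := by
    have h2 : finrank K C * P.natDegree ≤ finrank K F * P.natDegree := by
      calc finrank K C * P.natDegree ≤ finrank K L := hdim
        _ = finrank K F * finrank F L := htower.symm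
        _ ≤ finrank K F * P.natDegree := Nat.mul_le_mul_left _ hdegF
    exact Nat.le_of_mul_le_mul_right h2 hPpos
  have hker : finrank K (LinearMap.ker Ψ.toLinearMap) = 0 := by
    rw [hrange] at hge
    omega
  have hbot : LinearMap.ker Ψ.toLinearMap = ⊥ := Submodule.finrank_eq_zero.mp hker
  exact LinearMap.ker_eq_bot.mp hbot

end Groth.Agent.Lib.Seat73.FieldDeg
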