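import Mathlib

/-!
# Quotients of polynomial rings by monic one-variable relations in separate variables, arbitrary
finite index type (seat 73; generalises `Seat73MonicFamily` from `Fin n` to a `Fintype`)

For `q : Fin n → R[T]`, the algebra `R[u_1..u_n]/(q_i(u_i))` is isomorphic to the tensor product over `R`
of the algebras `R[T]/(q_i)`; if all the `q_i` are monic it is free of rank `∏ deg q_i`.
-/

set_option autoImplicit false
set_option linter.unusedSectionVars false
universe u v

namespace Groth.Agent.Lib.Seat73.MonicFamilyI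

open MvPolynomial PiTensorProduct
open scoped TensorProduct

variable {R : Type u} [CommRing R] {ι : Type v} [Fintype ι] [DecidableEq ι] (q : ι → Polynomial R)

/-- The ideal generated by the `q_i(u_i)`. -/
noncomputable abbrev relIdeal : Ideal (MvPolynomial ι R) :=
  Ideal.span (Set.range fun i : ι =>
    Polynomial.aeval (X i : MvPolynomial ι R) (q i))

/-- The tensor product of the `R[T]/(q_i)`. -/
abbrev TP : Type (max u v) := ⨂[R] i : ι, AdjoinRoot (q i)

/-- The generator `1 ⊗ … ⊗ root ⊗ … ⊗ 1`. -/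
noncomputable def gen (i : ι) : TP q :=
  singleAlgHom (R := R) (A := fun i : ι => AdjoinRoot (q i)) i (AdjoinRoot.root (q i))

noncomputable def polyToTP : MvPolynomial ι R →ₐ[R] TP q :=
  MvPolynomial.aeval (gen q)

theorem polyToTP_X (i : ι) : polyToTP q (X i) = gen q i := by
  simp [polyToTP]

theorem polyToTP_rel (i : ι) :
    polyToTP q (Polynomial.aeval (X i : MvPolynomial ι R) (q i)) = 0 := by
  rw [← Polynomial.aeval_algHom_apply, polyToTP_X, gen, Polynomial.aeval_algHom_apply,
    AdjoinRoot.aeval_eq, AdjoinRoot.mk_self, map_zero]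

theorem polyToTP_eq_zero (g : MvPolynomial ι R) (hg : g ∈ relIdeal q) :
    polyToTP q g = 0 := by
  have hle : relIdeal q ≤ RingHom.ker (polyToTP q : MvPolynomial ι R →+* TP q) := by
    rw [Ideal.span_le]
    rintro _ ⟨i, rfl⟩
    exact polyToTP_rel q i
  exact hle hg

/-- `R[u]/(q_i(u_i)) → ⨂ R[T]/(q_i)`. -/
noncomputable def toTP : (MvPolynomial ι R ⧸ relIdeal q) →ₐ[R] TP q :=
  Ideal.Quotient.liftₐ (relIdeal q) (polyToTP q) (polyToTP_eq_zero q)

theorem toTP_mk_X (i : ι) : toTP q (Ideal.Quotient.mk (relIdeal q) (X i)) = gen q i := by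
  rw [toTP, Ideal.Quotient.liftₐ_apply]
  exact (Ideal.Quotient.lift_mk _ _ _).trans (polyToTP_X q i)

theorem aeval_mk_X (i : ι) :
    (q i).eval₂ (Algebra.ofId R (MvPolynomial ι R ⧸ relIdeal q) : R →+* _)
      (Ideal.Quotient.mk (relIdeal q) (X i)) = 0 := by
  have h : Polynomial.aeval (Ideal.Quotient.mk (relIdeal q) (X i)) (q i) = 0 := by
    have := Polynomial.aeval_algHom_apply (Ideal.Quotient.mkₐ R (relIdeal q))
      (X i : MvPolynomial ι R) (q i)
    rw [Ideal.Quotient.mkₐ_eq_mk] at this
    rw [this, Ideal.Quotient.eq_zero_iff_mem]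
    exact Ideal.subset_span ⟨i, rfl⟩
  exact h

/-- the component maps `R[T]/(q_i) → R[u]/(q_i(u_i))`. -/
noncomputable def comp (i : ι) :
    AdjoinRoot (q i) →ₐ[R] (MvPolynomial ι R ⧸ relIdeal q) :=
  AdjoinRoot.liftAlgHom (q i) (Algebra.ofId R _) (Ideal.Quotient.mk (relIdeal q) (X i))
    (aeval_mk_X q i)

theorem comp_root (i : ι) :
    comp q i (AdjoinRoot.root (q i)) = Ideal.Quotient.mk (relIdeal q) (X i) :=
  AdjoinRoot.liftAlgHom_root _ _ _ _

/-- `⨂ R[T]/(q_i) → R[u]/(q_i(u_i))`. -/
noncomputable def fromTP : TP q →ₐ[R] (MvPolynomial ι R ⧸ relIdeal q) :=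
  PiTensorProduct.liftAlgHom
    ((MultilinearMap.mkPiAlgebra R ι (MvPolynomial ι R ⧸ relIdeal q)).compLinearMap
      (fun i => (comp q i).toLinearMap))
    (by simp)
    (by
      intro x y
      simp only [MultilinearMap.compLinearMap_apply, MultilinearMap.mkPiAlgebra_apply,
        AlgHom.toLinearMap_apply, Pi.mul_apply, map_mul]
      exact Finset.prod_mul_distrib)

theorem fromTP_tprod (x : ∀ i : ι, AdjoinRoot (q i)) :
    fromTP q (tprod R x) = ∏ i, comp q i (x i) := by
  simp [fromTP]

theorem fromTP_single (i : ι) (z : AdjoinRoot (q i)) :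
    fromTP q (singleAlgHom (R := R) (A := fun i : ι => AdjoinRoot (q i)) i z) = comp q i z := by
  classical
  rw [singleAlgHom_apply, fromTP_tprod, Finset.prod_eq_single i]
  · simp
  · intro j _ hj
    simp [hj]
  · intro h; exact absurd (Finset.mem_univ i) h

theorem fromTP_gen (i : ι) : fromTP q (gen q i) = Ideal.Quotient.mk (relIdeal q) (X i) := by
  rw [gen, fromTP_single, comp_root]

theorem fromTP_comp_toTP : (fromTP q).comp (toTP q) = AlgHom.id R _ := by
  apply Ideal.Quotient.algHom_ext
  apply MvPolynomial.algHom_ext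
  intro i
  simp only [AlgHom.coe_comp, Function.comp_apply, Ideal.Quotient.mkₐ_eq_mk, AlgHom.id_comp]
  rw [toTP_mk_X, fromTP_gen]

theorem toTP_comp_fromTP : (toTP q).comp (fromTP q) = AlgHom.id R _ := by
  classical
  apply PiTensorProduct.algHom_ext
  intro i
  apply AdjoinRoot.algHom_ext
  simp only [AlgHom.coe_comp, Function.comp_apply, AlgHom.id_comp]
  have : fromTP q (singleAlgHom (R := R) (A := fun i : ι => AdjoinRoot (q i)) i
      (AdjoinRoot.root (q i))) = Ideal.Quotient.mk (relIdeal q) (X i) := fromTP_gen q i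
  rw [this, toTP_mk_X]
  rfl

/-- `R[u]/(q_i(u_i)) ≃ ⨂ R[T]/(q_i)`. -/
noncomputable def equivTP : (MvPolynomial ι R ⧸ relIdeal q) ≃ₐ[R] TP q :=
  AlgEquiv.ofAlgHom (toTP q) (fromTP q) (toTP_comp_fromTP q) (fromTP_comp_toTP q)

/-- the monomial basis of `R[u]/(q_i(u_i))` for monic `q_i`. -/
noncomputable def basis (hq : ∀ i, (q i).Monic) :
    Module.Basis (∀ i : ι, Fin (q i).natDegree) R (MvPolynomial ι R ⧸ relIdeal q) :=
  (Basis.piTensorProduct (fun i => AdjoinRoot.powerBasisAux' (hq i))).map
    (equivTP q).symm.toLinearEquiv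

theorem free (hq : ∀ i, (q i).Monic) :
    Module.Free R (MvPolynomial ι R ⧸ relIdeal q) :=
  Module.Free.of_basis (basis q hq)

theorem finite (hq : ∀ i, (q i).Monic) :
    Module.Finite R (MvPolynomial ι R ⧸ relIdeal q) :=
  Module.Finite.of_basis (basis q hq)

theorem finrank_eq [Nontrivial R] (hq : ∀ i, (q i).Monic) :
    Module.finrank R (MvPolynomial ι R ⧸ relIdeal q) = ∏ i, (q i).natDegree := by
  rw [Module.finrank_eq_card_basis (basis q hq), Fintype.card_pi]
  simp

theorem powerBasisAux'_apply {g : Polynomial R} (hg : g.Monic) (j : Fin g.natDegree) :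
    AdjoinRoot.powerBasisAux' hg j = AdjoinRoot.root g ^ (j : ℕ) :=
  (AdjoinRoot.powerBasis' hg).basis_eq_pow j

/-- the basis of `R[u]/(q_i(u_i))` consists of the monomials `∏ u_i^(e_i)`, `e_i < deg q_i`. -/
theorem basis_apply (hq : ∀ i, (q i).Monic) (e : ∀ i : ι, Fin (q i).natDegree) :
    basis q hq e = ∏ i, (Ideal.Quotient.mk (relIdeal q) (X i)) ^ (e i : ℕ) := by
  rw [basis, Module.Basis.map_apply, Basis.piTensorProduct_apply]
  change fromTP q _ = _
  rw [fromTP_tprod]
  refine Finset.prod_congr rfl fun i _ => ?_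
  rw [powerBasisAux'_apply, map_pow, comp_root]

/-- the monomial basis indexed by `ι → Fin d` when all the `q_i` are monic of degree `d`. -/
noncomputable def basisOfDeg (hq : ∀ i, (q i).Monic) (d : ℕ) (hd : ∀ i, (q i).natDegree = d) :
    Module.Basis (ι → Fin d) R (MvPolynomial ι R ⧸ relIdeal q) :=
  (basis q hq).reindex (Equiv.piCongrRight fun i => finCongr (hd i))

theorem basisOfDeg_apply (hq : ∀ i, (q i).Monic) (d : ℕ) (hd : ∀ i, (q i).natDegree = d)
    (e : ι → Fin d) :
    basisOfDeg q hq d hd e = ∏ i, (Ideal.Quotient.mk (relIdeal q) (X i)) ^ (e i : ℕ) := by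
  rw [basisOfDeg, Module.Basis.reindex_apply, basis_apply]
  refine Finset.prod_congr rfl fun i _ => ?_
  congr 1

section baseChange

variable {K : Type u} [CommRing K] [Algebra R K]

theorem relIdeal_le_comap :
    relIdeal q ≤ (relIdeal fun i => (q i).map (algebraMap R K)).comap
      (MvPolynomial.map (algebraMap R K) : MvPolynomial ι R →+* MvPolynomial ι K) := by
  rw [Ideal.span_le]
  rintro _ ⟨i, rfl⟩
  rw [SetLike.mem_coe, Ideal.mem_comap]
  have h : (MvPolynomial.map (algebraMap R K) : MvPolynomial ι R →+* MvPolynomial ι K)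
      (Polynomial.aeval (X i : MvPolynomial ι R) (q i)) =
      Polynomial.aeval (X i : MvPolynomial ι K) ((q i).map (algebraMap R K)) := by
    rw [Polynomial.aeval_def, Polynomial.aeval_def, Polynomial.eval₂_map, Polynomial.hom_eval₂,
      MvPolynomial.map_X]
    congr 1
    ext r
    simp [MvPolynomial.algebraMap_eq]
  rw [h]
  exact Ideal.subset_span ⟨i, rfl⟩

/-- the base change map `R[u]/(q_i(u_i)) → K[u]/(q_i(u_i))`. -/
noncomputable def baseChangeHom :
    (MvPolynomial ι R ⧸ relIdeal q) →+*
      (MvPolynomial ι K ⧸ relIdeal fun i => (q i).map (algebraMap R K)) :=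
  Ideal.quotientMap _ (MvPolynomial.map (algebraMap R K)) (relIdeal_le_comap q)

theorem baseChangeHom_mk (g : MvPolynomial ι R) :
    baseChangeHom (K := K) q (Ideal.Quotient.mk _ g) =
      Ideal.Quotient.mk _ (MvPolynomial.map (algebraMap R K) g) :=
  Ideal.quotientMap_mk

theorem baseChangeHom_injective [Nontrivial K] (hinj : Function.Injective (algebraMap R K))
    (hq : ∀ i, (q i).Monic) (d : ℕ) (hd : ∀ i, (q i).natDegree = d) :
    Function.Injective (baseChangeHom (K := K) q) := by
  have hqK : ∀ i, ((q i).map (algebraMap R K)).Monic := fun i => (hq i).map _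
  have hdK : ∀ i, ((q i).map (algebraMap R K)).natDegree = d := fun i => by
    rw [(hq i).natDegree_map, hd i]
  let bR := basisOfDeg q hq d hd
  let bK := basisOfDeg (fun i => (q i).map (algebraMap R K)) hqK d hdK
  have hb : ∀ e, baseChangeHom (K := K) q (bR e) = bK e := by
    intro e
    rw [basisOfDeg_apply, basisOfDeg_apply, map_prod]
    refine Finset.prod_congr rfl fun i _ => ?_
    rw [map_pow, baseChangeHom_mk, MvPolynomial.map_X]
  rw [injective_iff_map_eq_zero]
  intro y hy
  rw [← bR.sum_repr y, map_sum] at hy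
  have h1 : ∑ e, algebraMap R K (bR.repr y e) • bK e = 0 := by
    rw [← hy]
    refine Finset.sum_congr rfl fun e _ => ?_
    have e1 : (bR.repr y e) • bR e = Ideal.Quotient.mk _ (C (bR.repr y e)) * bR e := by
      have := Algebra.smul_def (bR.repr y e) (bR e)
      exact this
    have e2 : algebraMap R K (bR.repr y e) • bK e =
        Ideal.Quotient.mk _ (C (algebraMap R K (bR.repr y e))) * bK e := by
      have := Algebra.smul_def (algebraMap R K (bR.repr y e)) (bK e)
      exact this
    rw [e1, e2, map_mul, hb e, baseChangeHom_mk, MvPolynomial.map_C]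
  have h2 := Fintype.linearIndependent_iff.mp bK.linearIndependent _ h1
  have h3 : bR.repr y = 0 := by
    ext e
    exact hinj ((h2 e).trans (map_zero _).symm)
  exact (LinearEquiv.map_eq_zero_iff _).mp h3

end baseChange

end Groth.Agent.Lib.Seat73.MonicFamilyI
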