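import Mathlib
import Groth.Agent.Lib.Seat73ASAut
import Groth.Agent.Lib.Seat73ASFree
import Groth.Agent.Lib.Seat73MonicFamilyI
import Groth.Agent.Lib.Seat73FieldDeg

/-!
# Minor elements in Artin–Schreier families (seat 73)

In `A = R[u]/(u_i^p - (μ a_i)^(p-1) u_i - x_i)` the minor elements `z_j = a_{i₀} u_j - a_j u_{i₀}`
(`j ≠ i₀`) satisfy `z_j^p - (μ a_{i₀} a_j)^(p-1) z_j = a_{i₀}^p x_j - a_j^p x_{i₀}`, and these relations
generate the kernel of `R[Z_j] → A` when `A` is a domain and `a_{i₀} ≠ 0`.
-/

set_option autoImplicit false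
set_option linter.unusedSectionVars false
set_option linter.style.haveILetI false
universe u

namespace Groth.Agent.Lib.Seat73.ASMinor

open MvPolynomial Groth.Agent.Lib.Seat73.ArtinSchreier Groth.Agent.Lib.Seat73.ASAut
  Groth.Agent.Lib.Seat73.MonicFamilyI

attribute [local instance] FractionRing.liftAlgebra

section as1

variable {R : Type u} [CommRing R] (p : ℕ)

/-- `T^p - c^(p-1) T - d`. -/
noncomputable def as1 (c d : R) : Polynomial R :=
  Polynomial.X ^ (p - 1 + 1) - (Polynomial.C (c ^ (p - 1)) * Polynomial.X + Polynomial.C d)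

theorem as1_monic [Nontrivial R] (hp : 2 ≤ p) (c d : R) : (as1 p c d).Monic := by
  have hdeg : (Polynomial.C (c ^ (p - 1)) * Polynomial.X + Polynomial.C d).degree <
      ((p - 1 + 1 : ℕ) : WithBot ℕ) := by
    refine lt_of_le_of_lt (Polynomial.degree_add_le _ _) (max_lt ?_ ?_)
    · refine lt_of_le_of_lt (Polynomial.degree_C_mul_X_le _) ?_
      exact_mod_cast (by omega : 1 < p - 1 + 1)
    · refine lt_of_le_of_lt (Polynomial.degree_C_le (a := d)) ?_
      exact_mod_cast (Nat.succ_pos _)
  exact Polynomial.monic_X_pow_sub hdeg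

theorem as1_natDegree [Nontrivial R] (hp : 2 ≤ p) (c d : R) : (as1 p c d).natDegree = p := by
  have h : (as1 p c d).natDegree = p - 1 + 1 := by
    rw [as1, Polynomial.natDegree_sub_eq_left_of_natDegree_lt, Polynomial.natDegree_X_pow]
    rw [Polynomial.natDegree_X_pow]
    refine lt_of_le_of_lt (Polynomial.natDegree_add_le _ _) (max_lt ?_ ?_)
    · refine lt_of_le_of_lt (Polynomial.natDegree_C_mul_le _ _) ?_
      rw [Polynomial.natDegree_X]; omega
    · rw [Polynomial.natDegree_C]; omega
  omega

theorem aeval_as1 {S : Type*} [CommRing S] [Algebra R S] (hp : 2 ≤ p) (c d : R) (v : S) :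
    Polynomial.aeval v (as1 p c d) =
      v ^ p - algebraMap R S (c ^ (p - 1)) * v - algebraMap R S d := by
  have hp1 : p - 1 + 1 = p := by omega
  rw [as1, hp1, map_sub, map_add, map_mul, map_pow, Polynomial.aeval_X, Polynomial.aeval_C,
    Polynomial.aeval_C, sub_sub]

end as1

variable {R : Type u} [CommRing R] [IsDomain R] (p n : ℕ) [hp : Fact p.Prime] [CharP R p]
  (a x : Fin n → R) (μ : R) (i₀ : Fin n)

/-- The Artin–Schreier algebra with parameters `μ a_i`. -/
abbrev AM : Type u := AS p n (fun i => μ * a i) x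

/-- The index set `{j // j ≠ i₀}`. -/
abbrev Idx : Type := {j : Fin n // j ≠ i₀}

/-- The minor elements `z_j = a_{i₀} u_j - a_j u_{i₀}`. -/
noncomputable def zminor (j : Idx n i₀) : AM p n a x μ :=
  algebraMap R (AM p n a x μ) (a i₀) * gen p n (fun i => μ * a i) x j.1 -
    algebraMap R (AM p n a x μ) (a j.1) * gen p n (fun i => μ * a i) x i₀

/-- The relations of the minor elements. -/
noncomputable def qminor (j : Idx n i₀) : Polynomial R :=
  as1 p (μ * a i₀ * a j.1) (a i₀ ^ p * x j.1 - a j.1 ^ p * x i₀)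

theorem gen_pow (i : Fin n) :
    (gen p n (fun i => μ * a i) x i) ^ p =
      algebraMap R (AM p n a x μ) ((μ * a i) ^ (p - 1)) * gen p n (fun i => μ * a i) x i +
        algebraMap R (AM p n a x μ) (x i) :=
  mk_X_pow p n (fun i => μ * a i) x i

theorem aeval_zminor (j : Idx n i₀) :
    Polynomial.aeval (zminor p n a x μ i₀ j) (qminor p n a x μ i₀ j) = 0 := by
  haveI := charP_AS p n (fun i => μ * a i) x
  have h2 := two_le p
  rw [qminor, aeval_as1 p h2, zminor, sub_pow_char, mul_pow, mul_pow, gen_pow, gen_pow]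
  obtain ⟨P1, hP1⟩ : ∃ P1, p = P1 + 1 := ⟨p - 1, by omega⟩
  have e1 : p - 1 = P1 := by omega
  rw [e1]
  simp only [map_mul, map_pow, map_sub]
  rw [hP1]
  ring

theorem relIdeal_qminor_eq :
    relIdeal (qminor p n a x μ i₀) =
      Ideal.span (Set.range fun j : Idx n i₀ =>
        (X j : MvPolynomial (Idx n i₀) R) ^ p - C ((μ * a i₀ * a j.1) ^ (p - 1)) * X j -
          C (a i₀ ^ p * x j.1 - a j.1 ^ p * x i₀)) := by
  have h2 := two_le p
  unfold relIdeal
  congr 2
  funext j
  rw [qminor, aeval_as1 p h2, MvPolynomial.algebraMap_eq]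

/-- `R[Z_j] → A`, `Z_j ↦ z_j`. -/
noncomputable def minorHom : MvPolynomial (Idx n i₀) R →ₐ[R] AM p n a x μ :=
  MvPolynomial.aeval (zminor p n a x μ i₀)

theorem minorHom_eq_zero (g : MvPolynomial (Idx n i₀) R)
    (hg : g ∈ relIdeal (qminor p n a x μ i₀)) : minorHom p n a x μ i₀ g = 0 := by
  have hle : relIdeal (qminor p n a x μ i₀) ≤ RingHom.ker (minorHom p n a x μ i₀).toRingHom := by
    rw [Ideal.span_le]
    rintro _ ⟨j, rfl⟩
    rw [SetLike.mem_coe, RingHom.mem_ker]
    change minorHom p n a x μ i₀ (Polynomial.aeval (X j) (qminor p n a x μ i₀ j)) = 0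
    rw [← Polynomial.aeval_algHom_apply, minorHom, MvPolynomial.aeval_X, aeval_zminor]
  exact hle hg

/-- `R[Z_j]/(relations) → A`. -/
noncomputable def minorQuot :
    (MvPolynomial (Idx n i₀) R ⧸ relIdeal (qminor p n a x μ i₀)) →ₐ[R] AM p n a x μ :=
  Ideal.Quotient.liftₐ _ (minorHom p n a x μ i₀) (minorHom_eq_zero p n a x μ i₀)

theorem minorQuot_mk (g : MvPolynomial (Idx n i₀) R) :
    minorQuot p n a x μ i₀ (Ideal.Quotient.mk _ g) = minorHom p n a x μ i₀ g := by
  rw [minorQuot, Ideal.Quotient.liftₐ_apply]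
  exact Ideal.Quotient.lift_mk _ _ _

section field

theorem faithful : FaithfulSMul R (AM p n a x μ) :=
  (faithfulSMul_iff_algebraMap_injective R (AM p n a x μ)).mpr
    (algebraMap_injective p n (fun i => μ * a i) x (two_le p))

variable [IsDomain (AM p n a x μ)] [FaithfulSMul R (AM p n a x μ)]

/-- the relations over the fraction field -/
noncomputable def qK (j : Idx n i₀) : Polynomial (FractionRing R) :=
  (qminor p n a x μ i₀ j).map (algebraMap R (FractionRing R))

theorem qK_monic (j : Idx n i₀) : (qK p n a x μ i₀ j).Monic :=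
  (as1_monic p (two_le p) _ _).map _

theorem qK_natDegree (j : Idx n i₀) : (qK p n a x μ i₀ j).natDegree = p := by
  rw [qK, qminor, (as1_monic p (two_le p) _ _).natDegree_map]
  exact as1_natDegree p (two_le p) _ _

/-- the images of the minor elements in the fraction field -/
noncomputable def zL (j : Idx n i₀) : FractionRing (AM p n a x μ) :=
  algebraMap (AM p n a x μ) (FractionRing (AM p n a x μ)) (zminor p n a x μ i₀ j)

theorem aeval_zL (j : Idx n i₀) :
    Polynomial.aeval (zL p n a x μ i₀ j) (qK p n a x μ i₀ j) = 0 := by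
  rw [qK, Polynomial.aeval_map_algebraMap, zL, Polynomial.aeval_algebraMap_apply, aeval_zminor,
    map_zero]

theorem aevalL_eq_zero (g : MvPolynomial (Idx n i₀) (FractionRing R))
    (hg : g ∈ relIdeal (qK p n a x μ i₀)) :
    MvPolynomial.aeval (zL p n a x μ i₀) g = 0 := by
  have hle : relIdeal (qK p n a x μ i₀) ≤ RingHom.ker
      (MvPolynomial.aeval (R := FractionRing R) (zL p n a x μ i₀)).toRingHom := by
    rw [Ideal.span_le]
    rintro _ ⟨j, rfl⟩
    rw [SetLike.mem_coe, RingHom.mem_ker]
    change MvPolynomial.aeval (zL p n a x μ i₀) (Polynomial.aeval (X j) (qK p n a x μ i₀ j)) = 0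
    rw [← Polynomial.aeval_algHom_apply, MvPolynomial.aeval_X, aeval_zL]
  exact hle hg

/-- `K[Z_j]/(relations) → Frac A`. -/
noncomputable def psi :
    (MvPolynomial (Idx n i₀) (FractionRing R) ⧸ relIdeal (qK p n a x μ i₀)) →ₐ[FractionRing R]
      FractionRing (AM p n a x μ) :=
  Ideal.Quotient.liftₐ _ (MvPolynomial.aeval (zL p n a x μ i₀)) (aevalL_eq_zero p n a x μ i₀)

theorem psi_mk (g : MvPolynomial (Idx n i₀) (FractionRing R)) :
    psi p n a x μ i₀ (Ideal.Quotient.mk _ g) = MvPolynomial.aeval (zL p n a x μ i₀) g := by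
  rw [psi, Ideal.Quotient.liftₐ_apply]
  exact Ideal.Quotient.lift_mk _ _ _

theorem finrank_LL :
      Module.finrank (FractionRing R) (FractionRing (AM p n a x μ)) = p ^ n := by
  rw [IsFractionRing.finrank_eq R (FractionRing R) (AM p n a x μ) (FractionRing (AM p n a x μ))]
  exact ASFree.finrank_eq p n (fun i => μ * a i) x (two_le p)

theorem card_Idx : Fintype.card (Idx n i₀) = n - 1 := by
  have h := Fintype.card_subtype_compl (fun j : Fin n => j = i₀)
  rw [Fintype.card_fin, Fintype.card_subtype_eq] at h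
  convert h

theorem finrank_BK :
    Module.finrank (FractionRing R)
      (MvPolynomial (Idx n i₀) (FractionRing R) ⧸ relIdeal (qK p n a x μ i₀)) = p ^ (n - 1) := by
  rw [MonicFamilyI.finrank_eq _ (qK_monic p n a x μ i₀)]
  simp only [qK_natDegree, Finset.prod_const, Finset.card_univ, card_Idx]

/-- generation: a subfield of `Frac A` containing the `z_j` and `u_{i₀}` is everything -/
theorem eq_top_of_mem (ha0 : a i₀ ≠ 0)
    (E : IntermediateField (FractionRing R) (FractionRing (AM p n a x μ)))
    (hz : ∀ j, zL p n a x μ i₀ j ∈ E)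
    (hu : algebraMap (AM p n a x μ) (FractionRing (AM p n a x μ))
      (gen p n (fun i => μ * a i) x i₀) ∈ E) : E = ⊤ := by
  have hR : ∀ r : R, algebraMap (AM p n a x μ) (FractionRing (AM p n a x μ))
      (algebraMap R (AM p n a x μ) r) ∈ E := by
    intro r
    rw [← IsScalarTower.algebraMap_apply R (AM p n a x μ) (FractionRing (AM p n a x μ)),
      IsScalarTower.algebraMap_apply R (FractionRing R) (FractionRing (AM p n a x μ))]
    exact E.algebraMap_mem _
  have ha0L : algebraMap (AM p n a x μ) (FractionRing (AM p n a x μ))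
      (algebraMap R (AM p n a x μ) (a i₀)) ≠ 0 := by
    intro h0
    have h1 := (IsFractionRing.injective (AM p n a x μ) (FractionRing (AM p n a x μ)))
      (h0.trans (map_zero _).symm)
    exact ha0 ((FaithfulSMul.algebraMap_injective R (AM p n a x μ)) (h1.trans (map_zero _).symm))
  have hgen : ∀ i, algebraMap (AM p n a x μ) (FractionRing (AM p n a x μ))
      (gen p n (fun i => μ * a i) x i) ∈ E := by
    intro i
    by_cases hi : i = i₀
    · rw [hi]; exact hu
    · have h1 := hz ⟨i, hi⟩
      rw [zL, zminor, map_sub, map_mul, map_mul] at h1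
      have h2 := E.add_mem h1 (E.mul_mem (hR (a i)) hu)
      rw [sub_add_cancel] at h2
      have h3 := E.div_mem h2 (hR (a i₀))
      rwa [mul_div_cancel_left₀ _ ha0L] at h3
  have hA : ∀ y : AM p n a x μ,
      algebraMap (AM p n a x μ) (FractionRing (AM p n a x μ)) y ∈ E := by
    intro y
    obtain ⟨g, rfl⟩ := Ideal.Quotient.mk_surjective y
    induction g using MvPolynomial.induction_on with
    | C r => exact hR r
    | add f g hf hg => rw [map_add, map_add]; exact E.add_mem hf hg
    | mul_X f i hf => rw [map_mul, map_mul]; exact E.mul_mem hf (hgen i)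
  rw [eq_top_iff]
  intro l _
  obtain ⟨y, y', -, rfl⟩ := IsFractionRing.div_surjective (A := AM p n a x μ) l
  exact E.div_mem (hA y) (hA y')

theorem psi_injective (ha0 : a i₀ ≠ 0) : Function.Injective (psi p n a x μ i₀) := by
  have hLL := finrank_LL p n a x μ
  have _fd : FiniteDimensional (FractionRing R) (FractionRing (AM p n a x μ)) :=
    FiniteDimensional.of_finrank_pos (by rw [hLL]; exact pow_pos (by have := two_le p; omega) n)
  have _fin : Module.Finite (FractionRing R)
      (MvPolynomial (Idx n i₀) (FractionRing R) ⧸ relIdeal (qK p n a x μ i₀)) :=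
    MonicFamilyI.finite _ (qK_monic p n a x μ i₀)
  let P : Polynomial (FractionRing R) :=
    (asPoly1 p n (fun i => μ * a i) x i₀).map (algebraMap R (FractionRing R))
  have hPmonic : P.Monic := (asPoly1_monic p n (fun i => μ * a i) x (two_le p) i₀).map _
  have hPdeg : P.natDegree = p := by
    rw [(asPoly1_monic p n (fun i => μ * a i) x (two_le p) i₀).natDegree_map]
    exact asPoly1_natDegree p n (fun i => μ * a i) x (two_le p) i₀
  refine FieldDeg.injective_of_finrank (psi p n a x μ i₀)
    (algebraMap (AM p n a x μ) (FractionRing (AM p n a x μ)) (gen p n (fun i => μ * a i) x i₀))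
    P hPmonic.ne_zero ?_ ?_ ?_
  · rw [Polynomial.aeval_map_algebraMap, Polynomial.aeval_algebraMap_apply, gen_root, map_zero]
  · intro E hE hu
    refine eq_top_of_mem p n a x μ i₀ ha0 E (fun j => ?_) hu
    have := hE (Ideal.Quotient.mk _ (X j))
    rwa [psi_mk, MvPolynomial.aeval_X] at this
  · rw [finrank_BK, hPdeg, hLL, ← pow_succ]
    have hn : n - 1 + 1 = n := by
      have : 0 < n := Fin.pos i₀
      omega
    rw [hn]

theorem minorQuot_injective (ha0 : a i₀ ≠ 0) :
    Function.Injective (minorQuot p n a x μ i₀) := by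
  have hsq : ∀ y, algebraMap (AM p n a x μ) (FractionRing (AM p n a x μ))
      (minorQuot p n a x μ i₀ y) =
      psi p n a x μ i₀ (baseChangeHom (K := FractionRing R) (qminor p n a x μ i₀) y) := by
    intro y
    obtain ⟨g, rfl⟩ := Ideal.Quotient.mk_surjective y
    rw [minorQuot_mk, baseChangeHom_mk]
    change _ = psi p n a x μ i₀ (Ideal.Quotient.mk (relIdeal (qK p n a x μ i₀)) _)
    rw [psi_mk]
    induction g using MvPolynomial.induction_on with
    | C r =>
      rw [MvPolynomial.map_C, MvPolynomial.aeval_C, minorHom, MvPolynomial.aeval_C,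
        ← IsScalarTower.algebraMap_apply R (AM p n a x μ) (FractionRing (AM p n a x μ)),
        ← IsScalarTower.algebraMap_apply R (FractionRing R) (FractionRing (AM p n a x μ))]
    | add f g hf hg => rw [map_add, map_add, map_add, map_add, hf, hg]
    | mul_X f j hf =>
      rw [map_mul, map_mul, map_mul, map_mul, hf, MvPolynomial.map_X, MvPolynomial.aeval_X,
        minorHom, MvPolynomial.aeval_X]
      rfl
  rw [injective_iff_map_eq_zero]
  intro y hy
  have h1 := hsq y
  rw [hy, map_zero] at h1
  have h2 := (injective_iff_map_eq_zero _).mp (psi_injective p n a x μ i₀ ha0) _ h1.symm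
  exact (injective_iff_map_eq_zero _).mp
    (baseChangeHom_injective (K := FractionRing R) (qminor p n a x μ i₀)
      (IsFractionRing.injective R (FractionRing R))
      (fun j => as1_monic p (two_le p) _ _) p (fun j => as1_natDegree p (two_le p) _ _)) y h2

/-- the kernel of `R[Z_j] → A` is generated by the relations -/
theorem ker_minorHom (ha0 : a i₀ ≠ 0) :
    RingHom.ker (minorHom p n a x μ i₀) = relIdeal (qminor p n a x μ i₀) := by
  apply le_antisymm
  · intro g hg
    rw [RingHom.mem_ker] at hg
    have h1 : minorQuot p n a x μ i₀ (Ideal.Quotient.mk _ g) = 0 := by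
      rw [minorQuot_mk]; exact hg
    have h2 := (injective_iff_map_eq_zero _).mp (minorQuot_injective p n a x μ i₀ ha0) _ h1
    exact Ideal.Quotient.eq_zero_iff_mem.mp h2
  · intro g hg
    rw [RingHom.mem_ker]
    exact minorHom_eq_zero p n a x μ i₀ g hg

end field

theorem minorQuot_injective' [IsDomain (AM p n a x μ)] (ha0 : a i₀ ≠ 0) :
    Function.Injective (minorQuot p n a x μ i₀) := by
  haveI := faithful p n a x μ
  exact minorQuot_injective p n a x μ i₀ ha0

theorem ker_minorHom' [IsDomain (AM p n a x μ)] (ha0 : a i₀ ≠ 0) :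
    RingHom.ker (minorHom p n a x μ i₀) = relIdeal (qminor p n a x μ i₀) := by
  haveI := faithful p n a x μ
  exact ker_minorHom p n a x μ i₀ ha0

end Groth.Agent.Lib.Seat73.ASMinor
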