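import Mathlib

/-!
# Descent of normality along a "generically free" extension (seat 73)

Let `B → A` be an injective map of domains with `A` integrally closed, `h ∈ B` nonzero, `u ∈ A`, and
suppose that `1, u, …, u^(d-1)` are `B`-linearly independent in `A` and that every element of `A`
becomes a `B`-combination of them after multiplication by a power of `h`.  Then `B[1/h]` is integrally
closed.
-/

set_option autoImplicit false
set_option linter.unusedSectionVars false
set_option linter.style.haveILetI false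

namespace Groth.Agent.Lib.Seat73.NormalDescent

open scoped Pointwise

section powspan

variable {B A : Type*} [CommRing B] [CommRing A] [Algebra B A]

/-- the `B`-span of `1, u, …, u^(d-1)` -/
def powSpan (u : A) (d : ℕ) : Submodule B A :=
  Submodule.span B (Set.range fun t : Fin d => u ^ (t : ℕ))

theorem pow_mem_powSpan (u : A) (d : ℕ) (t : ℕ) (ht : t < d) : u ^ t ∈ powSpan (B := B) u d :=
  Submodule.subset_span ⟨⟨t, ht⟩, rfl⟩

theorem mul_mem_powSpan (u : A) (d : ℕ) (hu : u ^ d ∈ powSpan (B := B) u d) (α : A)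
    (hα : α ∈ powSpan (B := B) u d) : u * α ∈ powSpan (B := B) u d := by
  unfold powSpan at hα
  induction hα using Submodule.span_induction with
  | mem y hy =>
    obtain ⟨t, rfl⟩ := hy
    rw [← pow_succ']
    by_cases ht : (t : ℕ) + 1 < d
    · exact pow_mem_powSpan u d _ ht
    · have : (t : ℕ) + 1 = d := by have := t.2; omega
      rw [this]; exact hu
  | zero => rw [mul_zero]; exact Submodule.zero_mem _
  | add y z _ _ hy hz => rw [mul_add]; exact Submodule.add_mem _ hy hz
  | smul b y _ hy => rw [mul_smul_comm]; exact Submodule.smul_mem _ _ hy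

theorem mul_mem_powSpan' (u : A) (d : ℕ) (hu : u ^ d ∈ powSpan (B := B) u d) (α : A)
    (hα : α ∈ powSpan (B := B) u d) : α * u ∈ powSpan (B := B) u d := by
  rw [mul_comm]; exact mul_mem_powSpan u d hu α hα

end powspan

section descent

variable {B A : Type*} [CommRing B] [IsDomain B] [CommRing A] [IsDomain A] [Algebra B A]

/-- Descent of normality. -/
theorem isIntegrallyClosed_away [IsIntegrallyClosed A]
    (hinj : Function.Injective (algebraMap B A)) (h : B) (hh : h ≠ 0) (u : A) (d : ℕ) (hd : 0 < d)
    (hspan : ∀ α : A, ∃ M : ℕ, h ^ M • α ∈ powSpan (B := B) u d)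
    (hind : LinearIndependent B (fun t : Fin d => u ^ (t : ℕ))) :
    IsIntegrallyClosed (Localization.Away h) := by
  classical
  let S := Localization.Away h
  let FB := FractionRing B
  let L := FractionRing A
  have hle : Submonoid.powers h ≤ nonZeroDivisors B := by
    rw [Submonoid.powers_le]
    exact mem_nonZeroDivisors_of_ne_zero hh
  letI algSF : Algebra S FB :=
    IsLocalization.localizationAlgebraOfSubmonoidLe S FB (Submonoid.powers h) (nonZeroDivisors B) hle
  haveI towSF : IsScalarTower B S FB :=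
    IsLocalization.localization_isScalarTower_of_submonoid_le S FB (Submonoid.powers h)
      (nonZeroDivisors B) hle
  haveI fracSF : IsFractionRing S FB :=
    IsFractionRing.isFractionRing_of_isDomain_of_isLocalization (Submonoid.powers h) S FB
  -- the map on fraction fields
  have hcomap : nonZeroDivisors B ≤ (nonZeroDivisors A).comap (algebraMap B A) :=
    nonZeroDivisors_le_comap_nonZeroDivisors_of_injective _ hinj
  let φ : FB →+* L := IsLocalization.map L (algebraMap B A) hcomap
  have hφ : ∀ b : B, φ (algebraMap B FB b) = algebraMap A L (algebraMap B A b) := fun b =>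
    IsLocalization.map_eq hcomap b
  rw [isIntegrallyClosed_iff FB]
  intro y hy
  obtain ⟨m, hm⟩ := IsIntegral.exists_multiple_integral_of_isLocalization (Submonoid.powers h) (Rₘ := S) y hy
  obtain ⟨m, ⟨m', rfl⟩⟩ := m
  rw [Submonoid.smul_def, Algebra.smul_def] at hm
  change IsIntegral B (algebraMap B FB (h ^ m') * y) at hm
  -- `y' = h^m' y = β / γ`
  obtain ⟨β, γ, hγ, hβγ⟩ := IsFractionRing.div_surjective (A := B) (algebraMap B FB (h ^ m') * y)
  have hγ0 : γ ≠ 0 := nonZeroDivisors.ne_zero hγ
  have hγF : algebraMap B FB γ ≠ 0 := by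
    intro h0
    exact hγ0 ((IsFractionRing.injective B FB) (h0.trans (map_zero _).symm))
  -- integrality transfers to `L`
  have hint : IsIntegral A (φ (algebraMap B FB (h ^ m') * y)) := by
    refine IsIntegral.map_of_comp_eq (algebraMap B A) φ ?_ hm
    ext b
    exact (hφ b).symm
  obtain ⟨α, hα⟩ := (isIntegrallyClosed_iff L).mp inferInstance hint
  -- `γ α = β` in `A`
  have hαβ : algebraMap B A γ * α = algebraMap B A β := by
    apply IsFractionRing.injective A L
    rw [map_mul, hα, ← hφ, ← hφ, ← map_mul, ← hβγ, mul_div_cancel₀ _ hγF]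
  obtain ⟨M, hM⟩ := hspan α
  rw [powSpan, Submodule.mem_span_range_iff_exists_fun] at hM
  obtain ⟨c, hc⟩ := hM
  -- the linear relation
  let e : Fin d → B := fun t => γ * c t - if t = ⟨0, hd⟩ then h ^ M * β else 0
  have hsum : ∑ t, e t • u ^ (t : ℕ) = 0 := by
    have h1 : ∑ t : Fin d, e t • u ^ (t : ℕ) =
        γ • ∑ t : Fin d, c t • u ^ (t : ℕ) -
          ∑ t : Fin d, (if t = ⟨0, hd⟩ then h ^ M * β else 0) • u ^ (t : ℕ) := by
      rw [Finset.smul_sum, ← Finset.sum_sub_distrib]
      refine Finset.sum_congr rfl fun t _ => ?_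
      rw [sub_smul, mul_smul]
    rw [h1, hc, Finset.sum_eq_single (⟨0, hd⟩ : Fin d)]
    · rw [if_pos rfl, pow_zero, Algebra.smul_def, Algebra.smul_def, Algebra.smul_def, mul_one,
        map_mul, ← hαβ]
      ring
    · intro t _ ht
      rw [if_neg ht, zero_smul]
    · intro h0
      exact absurd (Finset.mem_univ _) h0
  have h0 := Fintype.linearIndependent_iff.mp hind e hsum ⟨0, hd⟩
  have h1 : γ * c ⟨0, hd⟩ = h ^ M * β := by
    have : e ⟨0, hd⟩ = γ * c ⟨0, hd⟩ - h ^ M * β := by
      change γ * c ⟨0, hd⟩ - (if (⟨0, hd⟩ : Fin d) = ⟨0, hd⟩ then h ^ M * β else 0) = _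
      rw [if_pos rfl]
    rw [this] at h0
    exact sub_eq_zero.mp h0
  -- conclude `y = c₀ / h^(M+m')`
  have hunit : IsUnit (algebraMap B S (h ^ (M + m'))) :=
    IsLocalization.map_units S (⟨h ^ (M + m'), ⟨M + m', rfl⟩⟩ : Submonoid.powers h)
  obtain ⟨v, hv⟩ := hunit
  refine ⟨algebraMap B S (c ⟨0, hd⟩) * ↑v⁻¹, ?_⟩
  have hhF : algebraMap B FB (h ^ (M + m')) ≠ 0 := by
    intro h0'
    exact pow_ne_zero _ hh ((IsFractionRing.injective B FB) (h0'.trans (map_zero _).symm))
  have hvF : algebraMap S FB (↑v⁻¹) * algebraMap B FB (h ^ (M + m')) = 1 := by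
    rw [IsScalarTower.algebraMap_apply B S FB, ← hv, ← map_mul, Units.inv_mul, map_one]
  have hy' : algebraMap B FB (h ^ m') * y * algebraMap B FB γ = algebraMap B FB β := by
    rw [← hβγ, div_mul_cancel₀ _ hγF]
  have hkey : algebraMap B FB (c ⟨0, hd⟩) = algebraMap B FB (h ^ (M + m')) * y := by
    apply mul_left_cancel₀ hγF
    rw [← map_mul, h1, map_mul, ← hy', pow_add, map_mul]
    ring
  rw [map_mul, ← IsScalarTower.algebraMap_apply B S FB, hkey]
  calc algebraMap B FB (h ^ (M + m')) * y * algebraMap S FB ↑v⁻¹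
      = (algebraMap S FB ↑v⁻¹ * algebraMap B FB (h ^ (M + m'))) * y := by ring
    _ = y := by rw [hvF, one_mul]

end descent

end Groth.Agent.Lib.Seat73.NormalDescent
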