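import Mathlib
import Groth.Agent.Lib.Seat73ASMinor
import Groth.Agent.Lib.Seat73NormalDescent

/-!
# Normality of the minor complete intersection away from `μ a_{i₀}` (seat 73)

`B = R[Z_j : j ≠ i₀]/(relations of the minor elements)` embeds in the Artin–Schreier algebra `A`.  The
diagonal substitution `u_i ↦ u_i + s μ a_i` fixes `B`, so `1, u_{i₀}, …, u_{i₀}^(p-1)` are `B`-linearly
independent; and after inverting `h = μ a_{i₀}` they generate `A` over `B`.  Hence `B[1/h]` is integrally
closed as soon as `A` is.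
-/

set_option autoImplicit false
set_option linter.unusedSectionVars false
set_option linter.style.haveILetI false
universe u

namespace Groth.Agent.Lib.Seat73.ASMinorNormal

open MvPolynomial Groth.Agent.Lib.Seat73.ArtinSchreier Groth.Agent.Lib.Seat73.ASAut
  Groth.Agent.Lib.Seat73.MonicFamilyI Groth.Agent.Lib.Seat73.ASMinor
  Groth.Agent.Lib.Seat73.NormalDescent

variable {R : Type u} [CommRing R] [IsDomain R] (p n : ℕ) [hp : Fact p.Prime] [CharP R p]
  (a x : Fin n → R) (μ : R) (i₀ : Fin n)

/-- The complete intersection of the minor relations. -/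
abbrev BM : Type u := MvPolynomial (Idx n i₀) R ⧸ relIdeal (qminor p n a x μ i₀)

/-- `A` as a `B`-algebra via `Z_j ↦ z_j`. -/
@[reducible] noncomputable def algBA : Algebra (BM p n a x μ i₀) (AM p n a x μ) :=
  (minorQuot p n a x μ i₀).toRingHom.toAlgebra

attribute [local instance] algBA

theorem algebraMap_BA (b : BM p n a x μ i₀) :
    algebraMap (BM p n a x μ i₀) (AM p n a x μ) b = minorQuot p n a x μ i₀ b := rfl

theorem smul_def_BA (b : BM p n a x μ i₀) (α : AM p n a x μ) :
    b • α = minorQuot p n a x μ i₀ b * α := by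
  have := Algebra.smul_def b α
  exact this

theorem mul_smul_BA (b c : BM p n a x μ i₀) (α : AM p n a x μ) : (b * c) • α = b • c • α :=
  mul_smul b c α

theorem one_smul_BA (α : AM p n a x μ) : (1 : BM p n a x μ i₀) • α = α :=
  one_smul (BM p n a x μ i₀) α

theorem smul_add_BA (b : BM p n a x μ i₀) (α β : AM p n a x μ) : b • (α + β) = b • α + b • β :=
  smul_add b α β

theorem smul_mul_assoc_BA (b : BM p n a x μ i₀) (α β : AM p n a x μ) :
    (b • α) * β = b • (α * β) :=
  smul_mul_assoc b α β

theorem algebraMap_smul_BA (r : R) (α : AM p n a x μ) :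
    (algebraMap R (BM p n a x μ i₀) r) • α = algebraMap R (AM p n a x μ) r * α := by
  rw [smul_def_BA, AlgHom.commutes]

theorem mkX_smul_BA (j : Idx n i₀) (α : AM p n a x μ) :
    (Ideal.Quotient.mk (relIdeal (qminor p n a x μ i₀)) (X j)) • α = zminor p n a x μ i₀ j * α := by
  rw [smul_def_BA, minorQuot_mk, minorHom, MvPolynomial.aeval_X]

/-! ### the diagonal substitution fixes `B` -/

theorem shift_zminor (s : ZMod p) (j : Idx n i₀) :
    shift p n (fun i => μ * a i) x (fun _ => s) (zminor p n a x μ i₀ j) =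
      zminor p n a x μ i₀ j := by
  rw [zminor, map_sub, map_mul, map_mul, AlgHom.commutes, AlgHom.commutes, shift_gen, shift_gen,
    shiftVal, shiftVal]
  simp only [map_mul]
  ring

theorem shift_comp_minorQuot (s : ZMod p) :
    (shift p n (fun i => μ * a i) x (fun _ => s)).comp (minorQuot p n a x μ i₀) =
      minorQuot p n a x μ i₀ := by
  apply Ideal.Quotient.algHom_ext
  apply MvPolynomial.algHom_ext
  intro j
  change shift p n (fun i => μ * a i) x (fun _ => s)
      (minorQuot p n a x μ i₀ (Ideal.Quotient.mk _ (X j))) =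
    minorQuot p n a x μ i₀ (Ideal.Quotient.mk _ (X j))
  rw [minorQuot_mk, minorHom, MvPolynomial.aeval_X, shift_zminor]

theorem shift_minorQuot (s : ZMod p) (b : BM p n a x μ i₀) :
    shift p n (fun i => μ * a i) x (fun _ => s) (minorQuot p n a x μ i₀ b) =
      minorQuot p n a x μ i₀ b :=
  DFunLike.congr_fun (shift_comp_minorQuot p n a x μ i₀ s) b

/-! ### linear independence of the powers of `u_{i₀}` over `B` -/

theorem linearIndependent_pow [IsDomain (AM p n a x μ)] (hh : μ * a i₀ ≠ 0)
    (hinj : Function.Injective (minorQuot p n a x μ i₀)) :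
    LinearIndependent (BM p n a x μ i₀)
      (fun t : Fin p => (gen p n (fun i => μ * a i) x i₀) ^ (t : ℕ)) := by
  classical
  rw [Fintype.linearIndependent_iff]
  intro g hg t
  let e : Fin p ≃ ZMod p := (Fintype.equivFinOfCardEq (ZMod.card p)).symm
  let f : Fin p → AM p n a x μ := fun s =>
    gen p n (fun i => μ * a i) x i₀ +
      algebraMap R (AM p n a x μ) (zeta p (e s) * (μ * a i₀))
  have hf : Function.Injective f := by
    intro s s' hss
    have h1 := add_left_cancel hss
    have h2 := algebraMap_injective p n (fun i => μ * a i) x (two_le p) h1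
    have h3 := mul_right_cancel₀ hh h2
    exact e.injective (ZMod.castHom_injective R h3)
  have hfv : ∀ s, ∑ t : Fin p, f s ^ (t : ℕ) * minorQuot p n a x μ i₀ (g t) = 0 := by
    intro s
    have h1 := congrArg (shift p n (fun i => μ * a i) x (fun _ => e s)) hg
    rw [map_zero, map_sum] at h1
    rw [← h1]
    refine Finset.sum_congr rfl fun t _ => ?_
    rw [smul_def_BA, map_mul, map_pow, shift_minorQuot, shift_gen, shiftVal, mul_comm]
  have h0 := Matrix.eq_zero_of_forall_index_sum_pow_mul_eq_zero hf hfv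
  have h1 : minorQuot p n a x μ i₀ (g t) = 0 := congrFun h0 t
  exact hinj (h1.trans (map_zero _).symm)

/-! ### generation after inverting `μ a_{i₀}` -/

theorem gen_pow_mem_powSpan :
    (gen p n (fun i => μ * a i) x i₀) ^ p ∈
      powSpan (B := BM p n a x μ i₀) (gen p n (fun i => μ * a i) x i₀) p := by
  have h2 := two_le p
  rw [gen_pow]
  refine Submodule.add_mem _ ?_ ?_
  · rw [← algebraMap_smul_BA p n a x μ i₀]
    refine Submodule.smul_mem _ _ ?_
    have := pow_mem_powSpan (B := BM p n a x μ i₀) (gen p n (fun i => μ * a i) x i₀) p 1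
      (by omega)
    rwa [pow_one] at this
  · have := pow_mem_powSpan (B := BM p n a x μ i₀) (gen p n (fun i => μ * a i) x i₀) p 0
      (by omega)
    rw [pow_zero] at this
    have h3 := Submodule.smul_mem _ (algebraMap R (BM p n a x μ i₀) (x i₀)) this
    rwa [algebraMap_smul_BA, mul_one] at h3

theorem mul_gen_mem_powSpan (j : Idx n i₀) (β : AM p n a x μ)
    (hβ : β ∈ powSpan (B := BM p n a x μ i₀) (gen p n (fun i => μ * a i) x i₀) p) :
    β * (algebraMap R (AM p n a x μ) (μ * a i₀) * gen p n (fun i => μ * a i) x j.1) ∈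
      powSpan (B := BM p n a x μ i₀) (gen p n (fun i => μ * a i) x i₀) p := by
  have key : β * (algebraMap R (AM p n a x μ) (μ * a i₀) * gen p n (fun i => μ * a i) x j.1) =
      (algebraMap R (BM p n a x μ i₀) μ *
          Ideal.Quotient.mk (relIdeal (qminor p n a x μ i₀)) (X j)) • β +
        (algebraMap R (BM p n a x μ i₀) (μ * a j.1)) •
          (β * gen p n (fun i => μ * a i) x i₀) := by
    rw [mul_smul_BA, mkX_smul_BA, algebraMap_smul_BA, algebraMap_smul_BA, zminor]
    simp only [map_mul]
    ring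
  rw [key]
  refine Submodule.add_mem _ (Submodule.smul_mem _ _ hβ) (Submodule.smul_mem _ _ ?_)
  exact mul_mem_powSpan' _ p (gen_pow_mem_powSpan p n a x μ i₀) β hβ

theorem exists_pow_smul_mem (α : AM p n a x μ) :
    ∃ M : ℕ, (algebraMap R (BM p n a x μ i₀) (μ * a i₀)) ^ M • α ∈
      powSpan (B := BM p n a x μ i₀) (gen p n (fun i => μ * a i) x i₀) p := by
  have h2 := two_le p
  obtain ⟨g, rfl⟩ := Ideal.Quotient.mk_surjective α
  induction g using MvPolynomial.induction_on with
  | C r =>
    refine ⟨0, ?_⟩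
    rw [pow_zero, one_smul_BA]
    have := pow_mem_powSpan (B := BM p n a x μ i₀) (gen p n (fun i => μ * a i) x i₀) p 0
      (by omega)
    rw [pow_zero] at this
    have h3 := Submodule.smul_mem _ (algebraMap R (BM p n a x μ i₀) r) this
    rw [algebraMap_smul_BA, mul_one] at h3
    exact h3
  | add f g hf hg =>
    obtain ⟨M₁, h₁⟩ := hf
    obtain ⟨M₂, h₂⟩ := hg
    refine ⟨M₁ + M₂, ?_⟩
    rw [map_add, smul_add_BA]
    refine Submodule.add_mem _ ?_ ?_
    · rw [add_comm, pow_add, mul_smul_BA]
      exact Submodule.smul_mem _ _ h₁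
    · rw [pow_add, mul_smul_BA]
      exact Submodule.smul_mem _ _ h₂
  | mul_X f i hf =>
    obtain ⟨M, hM⟩ := hf
    have e0 : Ideal.Quotient.mk (asIdeal p n (fun i => μ * a i) x) (f * X i) =
        Ideal.Quotient.mk (asIdeal p n (fun i => μ * a i) x) f *
          ASAut.gen p n (fun i => μ * a i) x i := map_mul _ _ _
    rw [e0]
    by_cases hi : i = i₀
    · refine ⟨M, ?_⟩
      rw [hi, ← smul_mul_assoc_BA]
      exact mul_mem_powSpan' _ p (gen_pow_mem_powSpan p n a x μ i₀) _ hM
    · refine ⟨M + 1, ?_⟩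
      have := mul_gen_mem_powSpan p n a x μ i₀ ⟨i, hi⟩ _ hM
      have e : (algebraMap R (BM p n a x μ i₀) (μ * a i₀)) ^ (M + 1) •
          ((Ideal.Quotient.mk (asIdeal p n (fun i => μ * a i) x)) f *
            ASAut.gen p n (fun i => μ * a i) x i) =
          ((algebraMap R (BM p n a x μ i₀) (μ * a i₀)) ^ M •
            (Ideal.Quotient.mk (asIdeal p n (fun i => μ * a i) x)) f) *
          (algebraMap R (AM p n a x μ) (μ * a i₀) * ASAut.gen p n (fun i => μ * a i) x i) := by
        rw [pow_succ, mul_smul_BA, algebraMap_smul_BA, smul_mul_assoc_BA]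
        congr 1
        ring
      rw [e]
      exact this

/-! ### the conclusion -/

theorem isDomain_BM [IsDomain (AM p n a x μ)] (ha0 : a i₀ ≠ 0) : IsDomain (BM p n a x μ i₀) :=
  Function.Injective.isDomain (minorQuot p n a x μ i₀).toRingHom
    (minorQuot_injective' p n a x μ i₀ ha0)

theorem isIntegrallyClosed_away [IsDomain (AM p n a x μ)] [IsIntegrallyClosed (AM p n a x μ)]
    (ha0 : a i₀ ≠ 0) (hμ : μ ≠ 0) :
    IsIntegrallyClosed (Localization.Away (algebraMap R (BM p n a x μ i₀) (μ * a i₀))) := by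
  haveI := isDomain_BM p n a x μ i₀ ha0
  have hinj := minorQuot_injective' p n a x μ i₀ ha0
  have hh : μ * a i₀ ≠ 0 := mul_ne_zero hμ ha0
  have hhB : algebraMap R (BM p n a x μ i₀) (μ * a i₀) ≠ 0 := by
    intro h0
    have h1 : minorQuot p n a x μ i₀ (algebraMap R (BM p n a x μ i₀) (μ * a i₀)) = 0 := by
      rw [h0, map_zero]
    rw [AlgHom.commutes] at h1
    exact hh (algebraMap_injective p n (fun i => μ * a i) x (two_le p)
      (h1.trans (map_zero _).symm))
  exact NormalDescent.isIntegrallyClosed_away (B := BM p n a x μ i₀) (A := AM p n a x μ) hinj _ hhB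
    (gen p n (fun i => μ * a i) x i₀) p (by have := two_le p; omega)
    (exists_pow_smul_mem p n a x μ i₀)
    (linearIndependent_pow p n a x μ i₀ hh hinj)

end Groth.Agent.Lib.Seat73.ASMinorNormal
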