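import Mathlib
import Groth.Agent.Lib.Seat73ASMinorNormal
import Groth.Agent.Lib.Helper5RLR
import Groth.Agent.Lib.Helper28Catenary

/-!
# The minor complete intersection over a power series ring (seat 73)

For `R = k[[x_1..x_n]]`, `n ≥ 2`: `B = R[Z_j : j ≠ i₀]/(minor relations)` is free of rank `p^(n-1)`, a
domain, and `B[1/(μ a_{i₀})]` is integrally closed.
-/

set_option autoImplicit false
set_option linter.unusedSectionVars false
set_option linter.style.haveILetI false
universe u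

namespace Groth.Agent.Lib.Seat73.ASMinorMain

open MvPolynomial Groth.Agent.Lib.Seat73.ArtinSchreier Groth.Agent.Lib.Seat73.ASAut
  Groth.Agent.Lib.Seat73.MonicFamilyI Groth.Agent.Lib.Seat73.ASMinor
  Groth.Agent.Lib.Seat73.ASMinorNormal

theorem minorCI_main (p : ℕ) [Fact p.Prime] (k : Type u) [Field k] [CharP k p] (n : ℕ) (hn : 2 ≤ n)
    [IsDomain (MvPowerSeries (Fin n) k)] [CharP (MvPowerSeries (Fin n) k) p]
    (a : Fin n → MvPowerSeries (Fin n) k) (μ : MvPowerSeries (Fin n) k)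
    (ham : ∀ i, MvPowerSeries.constantCoeff (a i) = 0)
    (hcop : ∀ i j, i ≠ j → IsRelPrime (a i) (a j))
    (hμ : μ ≠ 0) (i₀ : Fin n)
    (J : Ideal (MvPolynomial (Idx n i₀) (MvPowerSeries (Fin n) k)))
    (hJ : J = relIdeal (qminor p n a MvPowerSeries.X μ i₀)) :
    Module.Free (MvPowerSeries (Fin n) k)
        (MvPolynomial (Idx n i₀) (MvPowerSeries (Fin n) k) ⧸ J) ∧
      Module.finrank (MvPowerSeries (Fin n) k)
        (MvPolynomial (Idx n i₀) (MvPowerSeries (Fin n) k) ⧸ J) = p ^ (n - 1) ∧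
      IsDomain (MvPolynomial (Idx n i₀) (MvPowerSeries (Fin n) k) ⧸ J) ∧
      IsIntegrallyClosed (Localization.Away
        (algebraMap (MvPowerSeries (Fin n) k)
          (MvPolynomial (Idx n i₀) (MvPowerSeries (Fin n) k) ⧸ J) (μ * a i₀))) := by
  subst hJ
  have hp : 2 ≤ p := (Fact.out : p.Prime).two_le
  have ha : ∀ i, a i ∈ IsLocalRing.maximalIdeal (MvPowerSeries (Fin n) k) := fun i =>
    (mem_maximalIdeal_iff_constantCoeff k n (a i)).2 (ham i)
  have hb : ∀ i, μ * a i ∈ IsLocalRing.maximalIdeal (MvPowerSeries (Fin n) k) := fun i =>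
    Ideal.mul_mem_left _ _ (ha i)
  have hx := X_mem_maximalIdeal k n
  have hspan := maximalIdeal_le_span_X k n
  have _reg := isRegularLocalRing p n (fun i => μ * a i) MvPowerSeries.X hp hb hx hspan
    (le_ringKrullDim_mvPowerSeries k n)
  have _domA : IsDomain (AM p n a MvPowerSeries.X μ) :=
    Groth.Agent.Lib.Helper5.isDomain_of_isRegularLocalRing (AM p n a MvPowerSeries.X μ)
  have _icA : IsIntegrallyClosed (AM p n a MvPowerSeries.X μ) :=
    Groth.Agent.Lib.Helper28.isIntegrallyClosed_of_isRegularLocalRing (AM p n a MvPowerSeries.X μ)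
  -- `a i₀ ≠ 0`
  have ha0 : a i₀ ≠ 0 := by
    intro h0
    obtain ⟨j, hj⟩ : ∃ j : Fin n, j ≠ i₀ := by
      by_cases h : i₀ = ⟨0, by omega⟩
      · exact ⟨⟨1, by omega⟩, by rw [h]; simp [Fin.ext_iff]⟩
      · exact ⟨⟨0, by omega⟩, fun h' => h h'.symm⟩
    have h1 := hcop i₀ j hj.symm
    rw [h0, isRelPrime_zero_left] at h1
    exact (IsLocalRing.mem_maximalIdeal _).mp (ha j) h1
  have hmonic : ∀ j, (qminor p n a MvPowerSeries.X μ i₀ j).Monic :=
    fun j => as1_monic p hp _ _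
  refine ⟨MonicFamilyI.free _ hmonic, ?_, isDomain_BM p n a MvPowerSeries.X μ i₀ ha0,
    ASMinorNormal.isIntegrallyClosed_away p n a MvPowerSeries.X μ i₀ ha0 hμ⟩
  rw [MonicFamilyI.finrank_eq _ hmonic]
  have hdeg : ∀ j, (qminor p n a MvPowerSeries.X μ i₀ j).natDegree = p :=
    fun j => as1_natDegree p hp _ _
  simp only [hdeg, Finset.prod_const, Finset.card_univ, card_Idx]

end Groth.Agent.Lib.Seat73.ASMinorMain
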