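import Mathlib
import Groth.Agent.Lib.Seat73MonicFamilyI

/-!
# Coefficient extraction in the monomial basis of `R[u]/(q_i(u_i))` (seat 73)

For monic `q_i` of degree `d`, the quotient `R[u_i : i ∈ ι]/(q_i(u_i))` has the monomial basis
`∏ u_i^(e_i)`, `e_i < d`.  For a linear form `z = ∑ β_i u_i` and a polynomial `g ∈ R[T]` of degree `< d`
the coordinate of `g(z)` at `u_j^m` (`m < d`) is `g_m β_j^m`.
-/

set_option autoImplicit false
set_option linter.unusedSectionVars false
set_option linter.style.haveILetI false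
universe u v

namespace Groth.Agent.Lib.Seat73.MonoCoeff

open MvPolynomial Groth.Agent.Lib.Seat73.MonicFamilyI

section linform

variable {R : Type u} [CommRing R] {ι : Type v} [Fintype ι] [DecidableEq ι] (β : ι → R)

/-- the linear form `∑ β_i X_i` -/
noncomputable def linForm : MvPolynomial ι R := ∑ i, C (β i) * X i

theorem linForm_isHomogeneous : (linForm β).IsHomogeneous 1 :=
  IsHomogeneous.sum _ _ _ fun i _ => isHomogeneous_C_mul_X _ _

theorem linForm_pow_isHomogeneous (m : ℕ) : (linForm β ^ m).IsHomogeneous m := by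
  have := (linForm_isHomogeneous β).pow m
  rwa [one_mul] at this

theorem coeff_single_linForm_pow (j : ι) (m : ℕ) :
    coeff (Finsupp.single j m) (linForm β ^ m) = β j ^ m := by
  induction m with
  | zero => simp
  | succ m ih =>
    rw [pow_succ, linForm, Finset.mul_sum, coeff_sum, Finset.sum_eq_single j]
    · rw [← mul_assoc, coeff_mul_X', if_pos (by simp), mul_comm _ (C (β j)), coeff_C_mul]
      have : Finsupp.single j (m + 1) - Finsupp.single j 1 = Finsupp.single j m := by
        rw [← Finsupp.single_tsub]; simp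
      rw [this]
      change β j * coeff (Finsupp.single j m) (linForm β ^ m) = _
      rw [ih, pow_succ, mul_comm]
    · intro i _ hij
      rw [← mul_assoc, coeff_mul_X', if_neg]
      rw [Finsupp.support_single_ne_zero _ (Nat.succ_ne_zero m), Finset.mem_singleton]
      exact hij
    · intro h
      exact absurd (Finset.mem_univ j) h

theorem coeff_aeval_linForm (g : Polynomial R) (v : ι →₀ ℕ) :
    coeff v (Polynomial.aeval (linForm β) g) =
      g.coeff v.degree * coeff v (linForm β ^ v.degree) := by
  rw [Polynomial.aeval_eq_sum_range, coeff_sum]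
  by_cases hv : v.degree ∈ Finset.range (g.natDegree + 1)
  · rw [Finset.sum_eq_single_of_mem _ hv]
    · rw [coeff_smul, smul_eq_mul]
    · intro i _ hi
      rw [coeff_smul, (linForm_pow_isHomogeneous β i).coeff_eq_zero (fun h => hi h.symm), smul_zero]
  · rw [Finset.sum_eq_zero]
    · rw [Finset.mem_range, not_lt] at hv
      rw [Polynomial.coeff_eq_zero_of_natDegree_lt (by omega), zero_mul]
    · intro i hi
      have hne : v.degree ≠ i := fun h => hv (h ▸ hi)
      rw [coeff_smul, (linForm_pow_isHomogeneous β i).coeff_eq_zero hne, smul_zero]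

theorem lt_of_mem_support_aeval_linForm (g : Polynomial R) (d : ℕ) (hg : g.natDegree < d)
    (v : ι →₀ ℕ) (hv : v ∈ (Polynomial.aeval (linForm β) g).support) (i : ι) : v i < d := by
  rw [mem_support_iff, coeff_aeval_linForm] at hv
  have h1 : g.coeff v.degree ≠ 0 := fun h => hv (by rw [h, zero_mul])
  have h2 := Polynomial.le_natDegree_of_ne_zero h1
  have h3 := Finsupp.le_degree i v
  omega

end linform

section basis

variable {R : Type u} [CommRing R] [Nontrivial R] {ι : Type v} [Fintype ι] [DecidableEq ι]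
  (q : ι → Polynomial R) (hq : ∀ i, (q i).Monic) (d : ℕ) (hd : ∀ i, (q i).natDegree = d)

/-- the exponent vector of a basis index -/
noncomputable def expOf (e : ι → Fin d) : ι →₀ ℕ :=
  Finsupp.equivFunOnFinite.symm (fun i => (e i : ℕ))

theorem expOf_apply (e : ι → Fin d) (i : ι) : expOf d e i = (e i : ℕ) := rfl

/-- clamp an exponent vector to a basis index -/
def clamp (hd0 : 0 < d) (v : ι →₀ ℕ) : ι → Fin d := fun i => ⟨v i % d, Nat.mod_lt _ hd0⟩

theorem clamp_eq_iff (hd0 : 0 < d) (v : ι →₀ ℕ) (hv : ∀ i, v i < d) (e : ι → Fin d) :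
    clamp d hd0 v = e ↔ v = expOf d e := by
  constructor
  · intro h
    ext i
    rw [expOf_apply, ← h]
    exact (Nat.mod_eq_of_lt (hv i)).symm
  · intro h
    funext i
    apply Fin.ext
    change v i % d = (e i : ℕ)
    rw [Nat.mod_eq_of_lt (hv i), h, expOf_apply]

theorem mk_monomial_eq_basis (hd0 : 0 < d) (v : ι →₀ ℕ) (hv : ∀ i, v i < d) :
    Ideal.Quotient.mk (relIdeal q) (monomial v 1) = basisOfDeg q hq d hd (clamp d hd0 v) := by
  rw [basisOfDeg_apply, monomial_eq, C_1, one_mul, Finsupp.prod_fintype _ _ (fun i => pow_zero _),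
    map_prod]
  refine Finset.prod_congr rfl fun i _ => ?_
  rw [map_pow]
  congr 1
  exact (Nat.mod_eq_of_lt (hv i)).symm

theorem repr_mk_of_reduced (hd0 : 0 < d) (F : MvPolynomial ι R)
    (hF : ∀ v ∈ F.support, ∀ i, v i < d) (e : ι → Fin d) :
    (basisOfDeg q hq d hd).repr (Ideal.Quotient.mk (relIdeal q) F) e = coeff (expOf d e) F := by
  classical
  have h1 : Ideal.Quotient.mk (relIdeal q) F =
      ∑ v ∈ F.support, coeff v F • basisOfDeg q hq d hd (clamp d hd0 v) := by
    conv_lhs => rw [F.as_sum]
    rw [map_sum]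
    refine Finset.sum_congr rfl fun v hv => ?_
    rw [← mk_monomial_eq_basis q hq d hd hd0 v (hF v hv)]
    have : monomial v (coeff v F) = coeff v F • monomial v (1 : R) := by
      rw [smul_monomial, smul_eq_mul, mul_one]
    rw [this]
    exact map_smul (Ideal.Quotient.mkₐ R (relIdeal q)) _ _
  rw [h1, map_sum, Finsupp.finsetSum_apply]
  have h2 : ∀ v ∈ F.support,
      ((basisOfDeg q hq d hd).repr (coeff v F • basisOfDeg q hq d hd (clamp d hd0 v))) e =
        if v = expOf d e then coeff v F else 0 := by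
    intro v hv
    rw [map_smul, Module.Basis.repr_self, Finsupp.smul_apply, Finsupp.single_apply, smul_eq_mul]
    by_cases h : v = expOf d e
    · rw [if_pos ((clamp_eq_iff d hd0 v (hF v hv) e).mpr h), if_pos h, mul_one]
    · rw [if_neg (fun h' => h ((clamp_eq_iff d hd0 v (hF v hv) e).mp h')), if_neg h, mul_zero]
  rw [Finset.sum_congr rfl h2, Finset.sum_ite_eq']
  split_ifs with h
  · rfl
  · exact (notMem_support_iff.mp h).symm

end basis

section main

variable {R : Type u} [CommRing R] [Nontrivial R] {ι : Type v} [Fintype ι] [DecidableEq ι]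
  (q : ι → Polynomial R) (d : ℕ)

/-- the coordinate functional at `u_j^m` -/
theorem exists_coeff_functional (hq : ∀ i, (q i).Monic) (hd : ∀ i, (q i).natDegree = d)
    (J : Ideal (MvPolynomial ι R)) (hJ : J = relIdeal q) (j : ι)
    (m : ℕ) (hm : m < d) :
    ∃ L : (MvPolynomial ι R ⧸ J) →ₗ[R] R, ∀ (β : ι → R) (g : Polynomial R), g.natDegree < d →
      L (Polynomial.aeval
        (∑ i, algebraMap R (MvPolynomial ι R ⧸ J) (β i) * Ideal.Quotient.mk J (X i)) g) =
        g.coeff m * β j ^ m := by
  subst hJ
  have hd0 : 0 < d := by omega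
  let e : ι → Fin d := fun i => if i = j then ⟨m, hm⟩ else ⟨0, hd0⟩
  have he : expOf d e = Finsupp.single j m := by
    ext i
    rw [expOf_apply, Finsupp.single_apply]
    by_cases h : i = j
    · rw [if_pos h.symm]; simp [e, h]
    · rw [if_neg (fun h' => h h'.symm)]; simp [e, h]
  refine ⟨(basisOfDeg q hq d hd).coord e, fun β g hg => ?_⟩
  have h1 : (∑ i, algebraMap R (MvPolynomial ι R ⧸ relIdeal q) (β i) *
      Ideal.Quotient.mk (relIdeal q) (X i)) = Ideal.Quotient.mkₐ R (relIdeal q) (linForm β) := by
    rw [linForm, map_sum]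
    refine Finset.sum_congr rfl fun i _ => ?_
    rw [map_mul, Ideal.Quotient.mkₐ_eq_mk]
    rfl
  have h2 : Polynomial.aeval (Ideal.Quotient.mkₐ R (relIdeal q) (linForm β)) g =
      Ideal.Quotient.mkₐ R (relIdeal q) (Polynomial.aeval (linForm β) g) :=
    Polynomial.aeval_algHom_apply _ _ _
  rw [h1, h2, Ideal.Quotient.mkₐ_eq_mk, Module.Basis.coord_apply,
    repr_mk_of_reduced q hq d hd hd0 _ (lt_of_mem_support_aeval_linForm β g d hg), he,
    coeff_aeval_linForm, Finsupp.degree_single, coeff_single_linForm_pow]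

end main

end Groth.Agent.Lib.Seat73.MonoCoeff
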