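import Mathlib
import Groth.Agent.Lib.Seat73ASMinor
import Groth.Agent.Lib.Seat73ASFixed
import Groth.Agent.Lib.Seat73MonoCoeff

/-!
# Invariants of the orthogonal complement of a vector in an Artin–Schreier family (seat 73)

`A = R[u]/(u_i^p - (μ a_i)^(p-1) u_i - x_i)`, `H = (ℤ/p)^n` acting by `u_i ↦ u_i + ν_i μ a_i`.  For
`0 ≠ s ∈ (ℤ/p)^n` put `z_s = ∑_{s_i ≠ 0} s_i α_i u_i` with `α_i = ∏_{j ≠ i, s_j ≠ 0} a_j`.  Then
`A^{s^⊥} = R[z_s] ≅ R[T]/(f_s)` when `R` is factorial and the `a_i`, `μ` are pairwise coprime.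
-/

set_option autoImplicit false
set_option linter.unusedSectionVars false
set_option linter.style.haveILetI false
universe u

namespace Groth.Agent.Lib.Seat73.ASOrth

open Groth.Agent.Lib.Seat73.ArtinSchreier Groth.Agent.Lib.Seat73.ASAut
  Groth.Agent.Lib.Seat73.ASMinor

variable {R : Type u} [CommRing R] [IsDomain R] (p n : ℕ) [hp : Fact p.Prime] [CharP R p]
  (a x : Fin n → R) (μ : R) (s : Fin n → ZMod p)

/-- the support of `s` -/
def supp : Finset (Fin n) := Finset.univ.filter (fun i => s i ≠ 0)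

/-- `s_i` in `R` -/
noncomputable def cc (i : Fin n) : R := zeta p (s i)

/-- `α = ∏_{s_i ≠ 0} a_i` -/
noncomputable def alpha : R := ∏ i ∈ supp p n s, a i

/-- `α_i = ∏_{j ≠ i, s_j ≠ 0} a_j` -/
noncomputable def alphai (i : Fin n) : R := ∏ j ∈ (supp p n s).erase i, a j

/-- `β_i = s_i α_i` -/
noncomputable def beta (i : Fin n) : R := cc p n s i * alphai p n a s i

/-- `z_s` -/
noncomputable def zs : AM p n a x μ :=
  ∑ i ∈ supp p n s, algebraMap R (AM p n a x μ) (beta p n a s i) * gen p n (fun i => μ * a i) x i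

/-- `f_s` -/
noncomputable def fs : Polynomial R :=
  Polynomial.X ^ p - Polynomial.C ((μ * alpha p n a s) ^ (p - 1)) * Polynomial.X -
    Polynomial.C (∑ i ∈ supp p n s, cc p n s i * alphai p n a s i ^ p * x i)

/-- the pairing `⟨ν, s⟩` -/
def pairing (ν : Fin n → ZMod p) : ZMod p := ∑ i, ν i * s i

theorem mem_supp (i : Fin n) : i ∈ supp p n s ↔ s i ≠ 0 := by
  rw [supp, Finset.mem_filter]; simp

theorem cc_eq_zero (i : Fin n) (hi : i ∉ supp p n s) : cc p n s i = (0 : R) := by
  rw [mem_supp, not_not] at hi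
  rw [cc, hi, map_zero]

theorem beta_eq_zero (i : Fin n) (hi : i ∉ supp p n s) : beta p n a s i = 0 := by
  rw [beta, cc_eq_zero p n s i hi, zero_mul]

theorem cc_pow (i : Fin n) : (cc p n s i : R) ^ p = cc p n s i := zeta_pow p _

theorem isUnit_cc (i : Fin n) (hi : i ∈ supp p n s) : IsUnit (cc p n s i : R) := by
  rw [mem_supp] at hi
  exact (IsUnit.mk0 _ hi).map (zeta (R := R) p)

theorem alpha_eq (i : Fin n) (hi : i ∈ supp p n s) :
    alpha p n a s = a i * alphai p n a s i :=
  (Finset.mul_prod_erase _ _ hi).symm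

theorem zs_eq_sum_univ :
    zs p n a x μ s =
      ∑ i, algebraMap R (AM p n a x μ) (beta p n a s i) * gen p n (fun i => μ * a i) x i := by
  rw [zs]
  refine Finset.sum_subset (Finset.subset_univ _) fun i _ hi => ?_
  rw [beta_eq_zero p n a s i hi, map_zero, zero_mul]

theorem pairing_eq_sum_supp (ν : Fin n → ZMod p) :
    pairing p n s ν = ∑ i ∈ supp p n s, ν i * s i := by
  rw [pairing]
  refine (Finset.sum_subset (Finset.subset_univ _) fun i _ hi => ?_).symm
  rw [mem_supp, not_not] at hi
  rw [hi, mul_zero]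

theorem shift_zs (ν : Fin n → ZMod p) :
    shift p n (fun i => μ * a i) x ν (zs p n a x μ s) =
      zs p n a x μ s +
        algebraMap R (AM p n a x μ) (zeta p (pairing p n s ν) * (μ * alpha p n a s)) := by
  rw [zs, map_sum, pairing_eq_sum_supp, map_sum, Finset.sum_mul, map_sum, ← Finset.sum_add_distrib]
  refine Finset.sum_congr rfl fun i hi => ?_
  rw [map_mul, AlgHom.commutes, shift_gen, shiftVal, mul_add, ← map_mul]
  congr 2
  rw [alpha_eq p n a s i hi, beta, cc, map_mul]
  ring

theorem aeval_zs_fs :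
    Polynomial.aeval (zs p n a x μ s) (fs p n a x μ s) = 0 := by
  haveI := charP_AS p n (fun i => μ * a i) x
  have h2 := two_le p
  obtain ⟨N, hN⟩ : ∃ N, p = N + 1 := ⟨p - 1, by omega⟩
  have hN1 : p - 1 = N := by omega
  have hfs : Polynomial.aeval (zs p n a x μ s) (fs p n a x μ s) =
      (zs p n a x μ s) ^ p -
        algebraMap R (AM p n a x μ) ((μ * alpha p n a s) ^ (p - 1)) * zs p n a x μ s -
        algebraMap R (AM p n a x μ) (∑ i ∈ supp p n s, cc p n s i * alphai p n a s i ^ p * x i) := by
    rw [fs]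
    simp only [map_sub, map_mul, map_pow, Polynomial.aeval_X, Polynomial.aeval_C]
  rw [hfs, zs, sum_pow_char, Finset.mul_sum, map_sum, ← Finset.sum_sub_distrib,
    ← Finset.sum_sub_distrib]
  refine Finset.sum_eq_zero fun i hi => ?_
  rw [mul_pow, gen_pow, ← map_pow, beta, mul_pow, cc_pow, alpha_eq p n a s i hi, hN1]
  have e1 : alphai p n a s i ^ p = alphai p n a s i ^ N * alphai p n a s i :=
    (congrArg (fun k => alphai p n a s i ^ k) hN).trans (pow_succ _ _)
  rw [e1]
  simp only [map_mul, map_pow]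
  ring


/-! ### Lagrange interpolation: a multiple of an `s^⊥`-invariant lies in `R[z_s]` -/

section lagrange

variable [IsDomain (AM p n a x μ)]

theorem exists_poly_of_fixed (hb : ∀ i, μ * a i ≠ 0) (hs : s ≠ 0) (t : AM p n a x μ)
    (ht : ∀ ν : Fin n → ZMod p, pairing p n s ν = 0 →
      shift p n (fun i => μ * a i) x ν t = t) :
    ∃ (Q₀ : Polynomial R) (ε : R), IsUnit ε ∧ Q₀.natDegree < p ∧
      Polynomial.aeval (zs p n a x μ s) Q₀ =
        algebraMap R (AM p n a x μ) (ε * (μ * alpha p n a s) ^ (p - 1)) * t := by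
  classical
  have h2 := two_le p
  obtain ⟨j₀, hj₀⟩ : ∃ j, s j ≠ 0 := by
    by_contra hcon
    push Not at hcon
    exact hs (funext hcon)
  let ν₀ : Fin n → ZMod p := Pi.single j₀ (s j₀)⁻¹
  have hν₀ : pairing p n s ν₀ = 1 := by
    rw [pairing, Finset.sum_eq_single j₀]
    · simp only [ν₀, Pi.single_eq_same]
      exact inv_mul_cancel₀ hj₀
    · intro i _ hi
      simp only [ν₀, Pi.single_eq_of_ne hi, zero_mul]
    · intro h
      exact absurd (Finset.mem_univ _) h
  have hpair_add : ∀ ν ν' : Fin n → ZMod p,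
      pairing p n s (ν + ν') = pairing p n s ν + pairing p n s ν' := by
    intro ν ν'
    simp only [pairing, Pi.add_apply, add_mul, Finset.sum_add_distrib]
  have hpair_smul : ∀ (m : ZMod p) (ν : Fin n → ZMod p),
      pairing p n s (m • ν) = m * pairing p n s ν := by
    intro m ν
    simp only [pairing, Pi.smul_apply, smul_eq_mul, Finset.mul_sum, mul_assoc]
  set h : R := μ * alpha p n a s with hh
  let w : ZMod p → AM p n a x μ := fun m =>
    zs p n a x μ s + algebraMap R (AM p n a x μ) (zeta p m * h)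
  let tt : ZMod p → AM p n a x μ := fun m => shift p n (fun i => μ * a i) x (m • ν₀) t
  let Q : Polynomial (AM p n a x μ) :=
    ∑ m : ZMod p, Polynomial.C (tt m) *
      ∏ m' ∈ Finset.univ.erase m, (Polynomial.X - Polynomial.C (w m'))
  have hshift_comp : ∀ (c c' : Fin n → ZMod p) (y : AM p n a x μ),
      shift p n (fun i => μ * a i) x c (shift p n (fun i => μ * a i) x c' y) =
        shift p n (fun i => μ * a i) x (c + c') y := by
    intro c c' y
    rw [← shift_comp]; rfl
  -- the action of a shift on the interpolation data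
  have hw : ∀ (c : Fin n → ZMod p) (m : ZMod p),
      shift p n (fun i => μ * a i) x c (w m) = w (m + pairing p n s c) := by
    intro c m
    simp only [w]
    rw [map_add, AlgHom.commutes, shift_zs, add_assoc, ← map_add, ← add_mul, ← map_add,
      add_comm m]
  have htt : ∀ (c : Fin n → ZMod p) (m : ZMod p),
      shift p n (fun i => μ * a i) x c (tt m) = tt (m + pairing p n s c) := by
    intro c m
    simp only [tt]
    have h0 : pairing p n s (c - pairing p n s c • ν₀) = 0 := by
      rw [sub_eq_add_neg, hpair_add, ← neg_smul, hpair_smul, hν₀]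
      ring
    have h1 := ht _ h0
    conv_rhs => rw [← h1]
    rw [hshift_comp, hshift_comp]
    congr 1
    rw [add_smul]
    abel
  -- invariance of `Q`
  have hinv : ∀ c : Fin n → ZMod p,
      Q.map (shift p n (fun i => μ * a i) x c).toRingHom = Q := by
    intro c
    set e := pairing p n s c with he
    simp only [Q, Polynomial.map_sum, Polynomial.map_mul, Polynomial.map_prod, Polynomial.map_sub,
      Polynomial.map_X, Polynomial.map_C]
    refine Fintype.sum_equiv (Equiv.addRight e) _ _ fun m => ?_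
    have e1 : (shift p n (fun i => μ * a i) x c).toRingHom (tt m) = tt (m + e) := htt c m
    rw [e1]
    change _ = Polynomial.C (tt (m + e)) * _
    congr 1
    refine Finset.prod_equiv (Equiv.addRight e) (fun i => ?_) (fun i _ => ?_)
    · simp only [Finset.mem_erase, Finset.mem_univ, and_true, Equiv.coe_addRight, ne_eq,
        add_left_inj]
    · have e2 : (shift p n (fun i => μ * a i) x c).toRingHom (w i) = w (i + e) := hw c i
      rw [e2]
      rfl
  -- the coefficients of `Q` come from `R`
  have hcoef : ∀ k, Q.coeff k ∈ Set.range (algebraMap R (AM p n a x μ)) := by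
    intro k
    rw [← ASFixed.fixed_iff p n (fun i => μ * a i) x hb]
    intro σ
    obtain ⟨c, rfl⟩ := autHom_surjective p n (fun i => μ * a i) x hb σ
    change shift p n (fun i => μ * a i) x (Multiplicative.toAdd c) (Q.coeff k) = Q.coeff k
    have := congrArg (fun P : Polynomial (AM p n a x μ) => P.coeff k) (hinv (Multiplicative.toAdd c))
    simp only [Polynomial.coeff_map] at this
    exact this
  have hlift : Q ∈ Polynomial.lifts (algebraMap R (AM p n a x μ)) :=
    (Polynomial.lifts_iff_coeff_lifts Q).mpr hcoef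
  obtain ⟨Q₀, hQ₀, hdeg⟩ := Polynomial.exists_degree_eq_of_mem_lifts hlift
  -- degree bound
  have hQdeg : Q.natDegree < p := by
    have : Q.natDegree ≤ p - 1 := by
      refine Polynomial.natDegree_sum_le_of_forall_le _ _ fun m _ => ?_
      refine (Polynomial.natDegree_C_mul_le _ _).trans ?_
      refine (Polynomial.natDegree_prod_le _ _).trans (le_of_eq ?_)
      calc ∑ i ∈ Finset.univ.erase m, (Polynomial.X - Polynomial.C (w i)).natDegree
          = ∑ i ∈ Finset.univ.erase m, 1 := by
            refine Finset.sum_congr rfl fun i _ => Polynomial.natDegree_X_sub_C _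
        _ = p - 1 := by
            rw [Finset.sum_const, Finset.card_erase_of_mem (Finset.mem_univ _), Finset.card_univ,
              ZMod.card, smul_eq_mul, mul_one]
    omega
  have hQ₀deg : Q₀.natDegree < p := by
    rw [Polynomial.natDegree_eq_of_degree_eq hdeg]; exact hQdeg
  -- the unit
  let ε : R := ∏ m' ∈ Finset.univ.erase (0 : ZMod p), (-(zeta p m' : R))
  have hε : IsUnit ε := by
    refine IsUnit.prod_iff.mpr fun m' hm' => ?_
    have hm0 : m' ≠ 0 := (Finset.mem_erase.mp hm').1
    exact ((IsUnit.mk0 _ hm0).map (zeta (R := R) p)).neg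
  refine ⟨Q₀, ε, hε, hQ₀deg, ?_⟩
  -- evaluation
  rw [← Polynomial.eval_map_algebraMap, hQ₀]
  simp only [Q, Polynomial.eval_finsetSum, Polynomial.eval_mul, Polynomial.eval_C,
    Polynomial.eval_prod, Polynomial.eval_sub, Polynomial.eval_X]
  rw [Finset.sum_eq_single (0 : ZMod p)]
  · have ht0 : tt 0 = t := by
      simp only [tt, zero_smul]
      rw [shift_zero]; rfl
    rw [ht0, mul_comm]
    congr 1
    have e1 : ∀ m' ∈ Finset.univ.erase (0 : ZMod p), zs p n a x μ s - w m' =
        algebraMap R (AM p n a x μ) (-(zeta p m' : R) * h) := by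
      intro m' _
      simp only [w]
      rw [neg_mul, map_neg]
      ring
    rw [Finset.prod_congr rfl e1, ← map_prod, Finset.prod_mul_distrib, Finset.prod_const,
      Finset.card_erase_of_mem (Finset.mem_univ _), Finset.card_univ, ZMod.card]
  · intro m _ hm
    have h0 : (0 : ZMod p) ∈ Finset.univ.erase m :=
      Finset.mem_erase.mpr ⟨fun h' => hm h'.symm, Finset.mem_univ _⟩
    rw [Finset.prod_eq_zero h0, mul_zero]
    simp only [w]
    rw [map_zero, zero_mul, map_zero, add_zero, sub_self]
  · intro h0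
    exact absurd (Finset.mem_univ _) h0

end lagrange


/-! ### divisibility in a factorial ring -/

section ufd

variable [UniqueFactorizationMonoid R]

theorem dvd_of_forall_dvd (hcop : ∀ i j, i ≠ j → IsRelPrime (a i) (a j))
    (hμa : ∀ i, IsRelPrime μ (a i)) (hne : (supp p n s).Nonempty) (N m : ℕ) (r : R)
    (h : ∀ j ∈ supp p n s, (μ * alpha p n a s) ^ N ∣ r * beta p n a s j ^ m) :
    (μ * alpha p n a s) ^ N ∣ r := by
  have hrel_alphai : ∀ j, IsRelPrime (a j) (alphai p n a s j) := fun j =>
    IsRelPrime.prod_right fun i hi => hcop j i (Finset.mem_erase.mp hi).1.symm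
  have hrel_beta : ∀ j ∈ supp p n s, IsRelPrime (a j) (beta p n a s j) := fun j hj =>
    (isUnit_cc p n s j hj).isRelPrime_right.mul_right (hrel_alphai j)
  have hμ_alphai : ∀ j, IsRelPrime μ (alphai p n a s j) := fun j =>
    IsRelPrime.prod_right fun i _ => hμa i
  have hμ_beta : ∀ j ∈ supp p n s, IsRelPrime μ (beta p n a s j) := fun j hj =>
    (isUnit_cc p n s j hj).isRelPrime_right.mul_right (hμ_alphai j)
  have hexp : (μ * alpha p n a s) ^ N = μ ^ N * ∏ i ∈ supp p n s, a i ^ N := by
    rw [mul_pow, alpha, Finset.prod_pow]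
  rw [hexp]
  refine IsRelPrime.mul_dvd ?_ ?_ ?_
  · exact IsRelPrime.prod_right fun i _ => (hμa i).pow
  · obtain ⟨j, hj⟩ := hne
    have h1 : μ ^ N ∣ r * beta p n a s j ^ m :=
      dvd_trans (pow_dvd_pow_of_dvd (Dvd.intro _ rfl) N) (h j hj)
    exact ((hμ_beta j hj).pow).dvd_of_dvd_mul_right h1
  · refine Finset.prod_dvd_of_isRelPrime ?_ ?_
    · intro i _ j _ hij
      exact (hcop i j hij).pow
    · intro i hi
      have h0 : a i ∣ μ * alpha p n a s := by
        rw [alpha_eq p n a s i hi]
        exact ⟨μ * alphai p n a s i, by ring⟩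
      have h1 : a i ^ N ∣ r * beta p n a s i ^ m :=
        dvd_trans (pow_dvd_pow_of_dvd h0 N) (h i hi)
      exact ((hrel_beta i hi).pow).dvd_of_dvd_mul_right h1

end ufd

/-! ### the coordinate functionals -/

theorem exists_functional (j : Fin n) (m : ℕ) (hm : m < p) :
    ∃ L : AM p n a x μ →ₗ[R] R, ∀ g : Polynomial R, g.natDegree < p →
      L (Polynomial.aeval (zs p n a x μ s) g) = g.coeff m * beta p n a s j ^ m := by
  have h2 := two_le p
  obtain ⟨L, hL⟩ := MonoCoeff.exists_coeff_functional (asPoly1 p n (fun i => μ * a i) x) p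
    (asPoly1_monic p n (fun i => μ * a i) x h2) (asPoly1_natDegree p n (fun i => μ * a i) x h2)
    (asIdeal p n (fun i => μ * a i) x) (ASFree.asIdeal_eq_relIdeal p n _ x h2) j m hm
  refine ⟨L, fun g hg => ?_⟩
  rw [zs_eq_sum_univ]
  exact hL (beta p n a s) g hg

theorem eq_zero_of_aeval_eq_zero (j : Fin n) (hβ : beta p n a s j ≠ 0) (g : Polynomial R)
    (hg : g.natDegree < p) (h0 : Polynomial.aeval (zs p n a x μ s) g = 0) : g = 0 := by
  ext m
  rw [Polynomial.coeff_zero]
  by_cases hm : m < p
  · obtain ⟨L, hL⟩ := exists_functional p n a x μ s j m hm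
    have := hL g hg
    rw [h0, map_zero] at this
    exact (mul_eq_zero.mp this.symm).resolve_right (pow_ne_zero _ hβ)
  · exact Polynomial.coeff_eq_zero_of_natDegree_lt (by omega)

theorem fs_eq_as1 :
    fs p n a x μ s = as1 p (μ * alpha p n a s)
      (∑ i ∈ supp p n s, cc p n s i * alphai p n a s i ^ p * x i) := by
  have hp1 : p - 1 + 1 = p := by have := two_le p; omega
  rw [fs, as1, hp1, sub_sub]

theorem fs_monic : (fs p n a x μ s).Monic := by
  rw [fs_eq_as1]; exact as1_monic p (two_le p) _ _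

theorem fs_natDegree : (fs p n a x μ s).natDegree = p := by
  rw [fs_eq_as1]; exact as1_natDegree p (two_le p) _ _

/-! ### the main theorem -/

theorem ker_aeval_zs (j : Fin n) (hβ : beta p n a s j ≠ 0) :
    RingHom.ker (Polynomial.aeval (zs p n a x μ s) : Polynomial R →ₐ[R] AM p n a x μ) =
      Ideal.span {fs p n a x μ s} := by
  have h2 := two_le p
  have hmonic := fs_monic p n a x μ s
  apply le_antisymm
  · intro g hg
    rw [RingHom.mem_ker] at hg
    have h1 := Polynomial.modByMonic_add_div g (fs p n a x μ s)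
    have h3 : Polynomial.aeval (zs p n a x μ s) (g %ₘ fs p n a x μ s) = 0 := by
      have := congrArg (Polynomial.aeval (zs p n a x μ s)) h1
      rw [map_add, map_mul, aeval_zs_fs, zero_mul, add_zero, hg] at this
      exact this
    have hne1 : fs p n a x μ s ≠ 1 := by
      intro h
      have := fs_natDegree p n a x μ s
      rw [h, Polynomial.natDegree_one] at this
      omega
    have h4 : (g %ₘ fs p n a x μ s).natDegree < p := by
      have := Polynomial.natDegree_modByMonic_lt g hmonic hne1
      rwa [fs_natDegree] at this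
    have h5 := eq_zero_of_aeval_eq_zero p n a x μ s j hβ _ h4 h3
    rw [Ideal.mem_span_singleton]
    exact (Polynomial.modByMonic_eq_zero_iff_dvd hmonic).mp h5
  · rw [Ideal.span_singleton_le_iff_mem, RingHom.mem_ker]
    exact aeval_zs_fs p n a x μ s

theorem fixed_iff_mem_range [UniqueFactorizationMonoid R] [IsDomain (AM p n a x μ)]
    (hb : ∀ i, μ * a i ≠ 0) (hcop : ∀ i j, i ≠ j → IsRelPrime (a i) (a j))
    (hμa : ∀ i, IsRelPrime μ (a i)) (hs : s ≠ 0) (t : AM p n a x μ) :
    (∀ ν : Fin n → ZMod p, pairing p n s ν = 0 →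
      shift p n (fun i => μ * a i) x ν t = t) ↔
      t ∈ (Polynomial.aeval (zs p n a x μ s) : Polynomial R →ₐ[R] AM p n a x μ).range := by
  have h2 := two_le p
  constructor
  · intro ht
    obtain ⟨Q₀, ε, hε, hdeg, hQ⟩ := exists_poly_of_fixed p n a x μ s hb hs t ht
    have hne : (supp p n s).Nonempty := by
      by_contra hcon
      rw [Finset.not_nonempty_iff_eq_empty] at hcon
      apply hs
      funext i
      have : i ∉ supp p n s := by rw [hcon]; exact Finset.notMem_empty _
      rw [mem_supp, not_not] at this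
      exact this
    obtain ⟨d, hd⟩ : ∃ d : R, d = ε * (μ * alpha p n a s) ^ (p - 1) := ⟨_, rfl⟩
    rw [← hd] at hQ
    -- `d ≠ 0`
    have hμ0 : μ ≠ 0 := by
      obtain ⟨j, _⟩ := hne
      exact left_ne_zero_of_mul (hb j)
    have hα0 : alpha p n a s ≠ 0 := by
      rw [alpha, Finset.prod_ne_zero_iff]
      intro i _
      exact right_ne_zero_of_mul (hb i)
    have hd0 : d ≠ 0 := by
      rw [hd]
      exact mul_ne_zero hε.ne_zero (pow_ne_zero _ (mul_ne_zero hμ0 hα0))
    -- `d` divides all coefficients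
    have hdvd : ∀ m, d ∣ Q₀.coeff m := by
      intro m
      by_cases hm : m < p
      · rw [hd, hε.mul_left_dvd]
        refine dvd_of_forall_dvd p n a μ s hcop hμa hne (p - 1) m _ fun j hj => ?_
        obtain ⟨L, hL⟩ := exists_functional p n a x μ s j m hm
        have h1 := hL Q₀ hdeg
        rw [hQ, ← Algebra.smul_def, map_smul, smul_eq_mul] at h1
        rw [← h1, hd]
        exact ⟨ε * L t, by ring⟩
      · rw [Polynomial.coeff_eq_zero_of_natDegree_lt (by omega)]
        exact dvd_zero _
    obtain ⟨Q₁, hQ₁⟩ := (Polynomial.C_dvd_iff_dvd_coeff d Q₀).mpr hdvd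
    refine ⟨Q₁, ?_⟩
    have hdA : algebraMap R (AM p n a x μ) d ≠ 0 := by
      intro h0
      exact hd0 (algebraMap_injective p n (fun i => μ * a i) x h2 (h0.trans (map_zero _).symm))
    apply mul_left_cancel₀ hdA
    change algebraMap R (AM p n a x μ) d * Polynomial.aeval (zs p n a x μ s) Q₁ = _
    rw [← hQ, hQ₁, map_mul, Polynomial.aeval_C]
  · rintro ⟨g, rfl⟩ ν hν
    change shift p n (fun i => μ * a i) x ν (Polynomial.aeval (zs p n a x μ s) g) =
      Polynomial.aeval (zs p n a x μ s) g
    rw [← Polynomial.aeval_algHom_apply, shift_zs, hν, map_zero, zero_mul, map_zero, add_zero]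


/-! ### the statement through given generators `σ_i` of the group -/

theorem sigma_eq [IsDomain (AM p n a x μ)]
    (σ : Fin n → (AM p n a x μ ≃ₐ[R] AM p n a x μ))
    (hσ : ∀ i j, σ i (gen p n (fun i => μ * a i) x j) = gen p n (fun i => μ * a i) x j +
      (if i = j then algebraMap R (AM p n a x μ) (μ * a i) else 0)) (i : Fin n) :
    σ i = autHom p n (fun i => μ * a i) x (Multiplicative.ofAdd (Pi.single i 1)) := by
  have : ((σ i : AM p n a x μ ≃ₐ[R] AM p n a x μ) : AM p n a x μ →ₐ[R] AM p n a x μ) =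
      ((autHom p n (fun i => μ * a i) x (Multiplicative.ofAdd (Pi.single i 1)) :
        AM p n a x μ ≃ₐ[R] AM p n a x μ) : AM p n a x μ →ₐ[R] AM p n a x μ) := by
    apply algHom_ext_gen
    intro j
    change σ i (gen p n (fun i => μ * a i) x j) =
      autHom p n (fun i => μ * a i) x (Multiplicative.ofAdd (Pi.single i 1))
        (gen p n (fun i => μ * a i) x j)
    rw [hσ, autHom_apply_gen, shiftVal, toAdd_ofAdd]
    congr 1
    by_cases hij : i = j
    · rw [if_pos hij, hij, Pi.single_eq_same, map_one, one_mul]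
    · rw [if_neg hij, Pi.single_eq_of_ne (fun h => hij h.symm), map_zero, zero_mul, map_zero]
  ext z
  exact DFunLike.congr_fun this z

theorem list_prod_eq [IsDomain (AM p n a x μ)]
    (σ : Fin n → (AM p n a x μ ≃ₐ[R] AM p n a x μ))
    (hσ : ∀ i j, σ i (gen p n (fun i => μ * a i) x j) = gen p n (fun i => μ * a i) x j +
      (if i = j then algebraMap R (AM p n a x μ) (μ * a i) else 0)) (ν : Fin n → ZMod p) :
    (List.ofFn (fun i : Fin n => σ i ^ (ν i).val)).prod =
      autHom p n (fun i => μ * a i) x (Multiplicative.ofAdd ν) := by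
  haveI : NeZero p := ⟨hp.out.ne_zero⟩
  have h1 : (fun i : Fin n => σ i ^ (ν i).val) =
      (autHom p n (fun i => μ * a i) x) ∘
        (fun i : Fin n => Multiplicative.ofAdd (Pi.single i (ν i) : Fin n → ZMod p)) := by
    funext i
    rw [Function.comp_apply, sigma_eq p n a x μ σ hσ i, ← map_pow, ← ofAdd_nsmul]
    congr 2
    funext j
    by_cases hji : j = i
    · rw [hji, Pi.smul_apply, Pi.single_eq_same, Pi.single_eq_same, nsmul_eq_mul, mul_one,
        ZMod.natCast_zmod_val]
    · rw [Pi.smul_apply, Pi.single_eq_of_ne hji, Pi.single_eq_of_ne hji, smul_zero]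
  rw [h1, ← List.map_ofFn, ← map_list_prod, List.prod_ofFn, ← ofAdd_sum, Finset.univ_sum_single]

theorem orth_main [UniqueFactorizationMonoid R] [IsDomain (AM p n a x μ)]
    (hb : ∀ i, μ * a i ≠ 0) (hcop : ∀ i j, i ≠ j → IsRelPrime (a i) (a j))
    (hμa : ∀ i, IsRelPrime μ (a i)) (hs : s ≠ 0)
    (σ : Fin n → (AM p n a x μ ≃ₐ[R] AM p n a x μ))
    (hσ : ∀ i j, σ i (gen p n (fun i => μ * a i) x j) = gen p n (fun i => μ * a i) x j +
      (if i = j then algebraMap R (AM p n a x μ) (μ * a i) else 0)) :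
    (∀ t : AM p n a x μ, (∀ ν : Fin n → ZMod p, ∑ i, ν i * s i = 0 →
        (List.ofFn (fun i : Fin n => σ i ^ (ν i).val)).prod t = t) ↔
      t ∈ (Polynomial.aeval (zs p n a x μ s) : Polynomial R →ₐ[R] AM p n a x μ).range) ∧
    RingHom.ker (Polynomial.aeval (zs p n a x μ s) : Polynomial R →ₐ[R] AM p n a x μ) =
      Ideal.span {fs p n a x μ s} := by
  obtain ⟨j, hj⟩ : ∃ j, s j ≠ 0 := by
    by_contra hcon
    push Not at hcon
    exact hs (funext hcon)
  have hjs : j ∈ supp p n s := (mem_supp p n s j).mpr hj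
  have hβ : beta p n a s j ≠ 0 := by
    rw [beta]
    refine mul_ne_zero (isUnit_cc p n s j hjs).ne_zero ?_
    rw [alphai, Finset.prod_ne_zero_iff]
    intro i _
    exact right_ne_zero_of_mul (hb i)
  refine ⟨fun t => ?_, ker_aeval_zs p n a x μ s j hβ⟩
  rw [← fixed_iff_mem_range p n a x μ s hb hcop hμa hs t]
  refine forall_congr' fun ν => ?_
  rw [list_prod_eq p n a x μ σ hσ ν]
  rfl

end Groth.Agent.Lib.Seat73.ASOrth
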