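import Mathlib

/-!
# The skew group ring of a Frobenius algebra with an invariant form is symmetric (seat 73)

Let `A` be a commutative `R`-algebra with a finite group `G` of `R`-algebra automorphisms and a
`G`-invariant `R`-linear form `λ : A → R` whose pairing `(b, c) ↦ λ(bc)` is perfect.  Then
`φ(∑ a_h h) = λ(a_1)` is a symmetrising form on the skew group ring `A∗G`.
-/

set_option autoImplicit false
set_option linter.unusedSectionVars false
set_option linter.style.haveILetI false

namespace Groth.Agent.Lib.Seat73.SkewSym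

open SkewMonoidAlgebra

variable {R A G : Type*} [CommRing R] [CommRing A] [Algebra R A] [Group G]
  [MulSemiringAction G A] [SMulCommClass G R A]

/-- `φ(f) = λ(f_1)` -/
noncomputable def phi (lam : A →ₗ[R] R) : SkewMonoidAlgebra A G →ₗ[R] R :=
  lam.comp ((Finsupp.lapply (1 : G)).comp (coeffLinearEquiv (S := R) (k := A) (G := G)).toLinearMap)

theorem phi_apply (lam : A →ₗ[R] R) (f : SkewMonoidAlgebra A G) :
    phi lam f = lam (f.coeff 1) := rfl

theorem phi_single_mul (lam : A →ₗ[R] R) (h : G) (b : A) (y : SkewMonoidAlgebra A G) :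
    phi lam (single h b * y) = lam (b * h • y.coeff h⁻¹) := by
  rw [phi_apply, coeff_single_mul, mul_one]

open Classical in
theorem phi_single_mul_single (lam : A →ₗ[R] R) (h h' : G) (b b' : A) :
    phi lam (single h b * single h' b') = if h * h' = 1 then lam (b * h • b') else 0 := by
  rw [single_mul_single, phi_apply, coeff_single_apply]
  split_ifs with h1
  · rfl
  · exact map_zero _

theorem phi_symm (lam : A →ₗ[R] R) (hinv : ∀ (h : G) (b : A), lam (h • b) = lam b)
    (x y : SkewMonoidAlgebra A G) : phi lam (x * y) = phi lam (y * x) := by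
  induction x using SkewMonoidAlgebra.induction_on with
  | zero => rw [zero_mul, mul_zero]
  | single h b =>
    induction y using SkewMonoidAlgebra.induction_on with
    | zero => rw [zero_mul, mul_zero]
    | single h' b' =>
      rw [phi_single_mul_single, phi_single_mul_single]
      by_cases h1 : h * h' = 1
      · have h2 : h' * h = 1 := by
          have : h' = h⁻¹ := (eq_inv_of_mul_eq_one_right h1)
          rw [this, inv_mul_cancel]
        rw [if_pos h1, if_pos h2]
        have h3 : h' = h⁻¹ := eq_inv_of_mul_eq_one_right h1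
        rw [h3, ← hinv h (b' * h⁻¹ • b), smul_mul', smul_inv_smul, mul_comm]
      · have h2 : ¬ h' * h = 1 := by
          intro h2
          apply h1
          have : h = h'⁻¹ := eq_inv_of_mul_eq_one_right h2
          rw [this, inv_mul_cancel]
        rw [if_neg h1, if_neg h2]
    | add f g hf hg => rw [mul_add, add_mul, map_add, map_add, hf, hg]
  | add f g hf hg => rw [add_mul, mul_add, map_add, map_add, hf, hg]

theorem phi_surj [Finite G] (lam : A →ₗ[R] R)
    (hsurj : ∀ ψ : A →ₗ[R] R, ∃ c, ∀ b, ψ b = lam (b * c))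
    (ψ : SkewMonoidAlgebra A G →ₗ[R] R) :
    ∃ y : SkewMonoidAlgebra A G, ∀ x, ψ x = phi lam (x * y) := by
  classical
  cases nonempty_fintype G
  have hex : ∀ h : G, ∃ c : A, ∀ b : A, ψ (single h b) = lam (b * c) := by
    intro h
    obtain ⟨c, hc⟩ := hsurj (ψ.comp (lsingle R h))
    exact ⟨c, fun b => hc b⟩
  choose c hc using hex
  refine ⟨∑ h : G, single h⁻¹ (h⁻¹ • c h), fun x => ?_⟩
  induction x using SkewMonoidAlgebra.induction_on with
  | zero => rw [zero_mul, map_zero, map_zero]
  | single h b =>
    rw [Finset.mul_sum, _root_.map_sum, Finset.sum_eq_single h]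
    · rw [phi_single_mul_single, if_pos (mul_inv_cancel h), smul_inv_smul, hc]
    · intro h' _ hh'
      rw [phi_single_mul_single, if_neg]
      intro h1
      apply hh'
      have := eq_inv_of_mul_eq_one_right h1
      exact (inv_injective this).symm ▸ rfl
    · intro h0
      exact absurd (Finset.mem_univ _) h0
  | add f g hf hg => rw [add_mul, map_add, map_add, hf, hg]

theorem phi_inj (lam : A →ₗ[R] R) (hinj : ∀ c, (∀ b, lam (b * c) = 0) → c = 0) :
    Function.Injective
      (fun y : SkewMonoidAlgebra A G => fun x : SkewMonoidAlgebra A G => phi lam (x * y)) := by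
  intro y y' hyy
  have hz : ∀ x, phi lam (x * (y - y')) = 0 := by
    intro x
    rw [mul_sub, map_sub, sub_eq_zero]
    exact congrFun hyy x
  have hcoef : ∀ h : G, (y - y').coeff h = 0 := by
    intro h
    have h1 : ∀ b, lam (b * h⁻¹ • (y - y').coeff h) = 0 := by
      intro b
      have := hz (single h⁻¹ b)
      rwa [phi_single_mul, inv_inv] at this
    have h2 := hinj _ h1
    exact (smul_eq_zero_iff_eq h⁻¹).mp h2
  have : y - y' = 0 := SkewMonoidAlgebra.ext fun h => by rw [hcoef h]; rfl
  exact sub_eq_zero.mp this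

theorem exists_symmetrising [Finite G] (lam : A →ₗ[R] R)
    (hinv : ∀ (h : G) (b : A), lam (h • b) = lam b)
    (hsurj : ∀ ψ : A →ₗ[R] R, ∃ c, ∀ b, ψ b = lam (b * c))
    (hinj : ∀ c, (∀ b, lam (b * c) = 0) → c = 0) :
    ∃ φ : SkewMonoidAlgebra A G →ₗ[R] R,
      (∀ x y : SkewMonoidAlgebra A G, φ (x * y) = φ (y * x)) ∧
      Function.Injective
        (fun y : SkewMonoidAlgebra A G => fun x : SkewMonoidAlgebra A G => φ (x * y)) ∧
      ∀ ψ : SkewMonoidAlgebra A G →ₗ[R] R, ∃ y : SkewMonoidAlgebra A G, ∀ x, ψ x = φ (x * y) :=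
  ⟨phi lam, phi_symm lam hinv, phi_inj lam hinj, phi_surj lam hsurj⟩

end Groth.Agent.Lib.Seat73.SkewSym
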