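import Mathlib
import Groth.Agent.Lib.Seat73MonicFamilyI
import Groth.Agent.Lib.Seat73ASMinor

/-!
# The top-coefficient functional on `R[u]/(q_i(u_i))` (seat 73)

For monic `q_i` of degree `d ≥ 1` the coordinate `λ` at the top monomial `∏ u_i^(d-1)` of the monomial
basis is multiplicative on products of one-variable elements.  For Artin–Schreier polynomials
`T^p - c^(p-1) T - x` the pairing `(b, b') ↦ λ(b b')` is perfect (explicit dual basis).
-/

set_option autoImplicit false
set_option linter.unusedSectionVars false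
set_option linter.style.haveILetI false
universe u v

namespace Groth.Agent.Lib.Seat73.TopCoeff

open Polynomial Groth.Agent.Lib.Seat73.MonicFamilyI Groth.Agent.Lib.Seat73.ASMinor

section one

variable {R : Type u} [CommRing R] {q : Polynomial R} (hq : q.Monic)

/-- the `k`-th coefficient of the reduced representative -/
noncomputable def lam1 (k : ℕ) : AdjoinRoot q →ₗ[R] R :=
  (Polynomial.lcoeff R k).comp (AdjoinRoot.modByMonicHom hq)

theorem lam1_mk (k : ℕ) (g : Polynomial R) :
    lam1 hq k (AdjoinRoot.mk q g) = (g %ₘ q).coeff k := by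
  rw [lam1, LinearMap.comp_apply, AdjoinRoot.modByMonicHom_mk]
  rfl

theorem lam1_mk_of_lt [Nontrivial R] (k : ℕ) (g : Polynomial R) (hg : g.degree < q.degree) :
    lam1 hq k (AdjoinRoot.mk q g) = g.coeff k := by
  rw [lam1_mk, (Polynomial.modByMonic_eq_self_iff hq).mpr hg]

theorem lam1_root_pow_of_lt [Nontrivial R] (k m : ℕ) (hm : m < q.natDegree) :
    lam1 hq k (AdjoinRoot.root q ^ m) = if k = m then 1 else 0 := by
  have h1 : AdjoinRoot.root q ^ m = AdjoinRoot.mk q (X ^ m) := by
    rw [map_pow, AdjoinRoot.mk_X]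
  rw [h1, lam1_mk_of_lt hq, Polynomial.coeff_X_pow]
  rw [Polynomial.degree_X_pow, Polynomial.degree_eq_natDegree hq.ne_zero]
  exact_mod_cast hm

theorem lam1_root_add_pow [Nontrivial R] (a : R) (w : ℕ) (hw : w < q.natDegree) (hd : 0 < q.natDegree) :
    lam1 hq (q.natDegree - 1) ((AdjoinRoot.root q + algebraMap R (AdjoinRoot q) a) ^ w) =
      if q.natDegree - 1 = w then 1 else 0 := by
  have h1 : (AdjoinRoot.root q + algebraMap R (AdjoinRoot q) a) ^ w =
      AdjoinRoot.mk q ((X + C a) ^ w) := by
    rw [map_pow, map_add, AdjoinRoot.mk_X, AdjoinRoot.mk_C]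
    rfl
  have hdeg : ((X + C a : Polynomial R) ^ w).natDegree = w := Polynomial.natDegree_pow_X_add_C w a
  have hmon : ((X + C a : Polynomial R) ^ w).Monic := (Polynomial.monic_X_add_C a).pow w
  rw [h1, lam1_mk_of_lt hq]
  · split_ifs with h
    · rw [h]
      have := hmon.coeff_natDegree
      rwa [hdeg] at this
    · apply Polynomial.coeff_eq_zero_of_natDegree_lt
      rw [hdeg]; omega
  · rw [Polynomial.degree_eq_natDegree hmon.ne_zero, Polynomial.degree_eq_natDegree hq.ne_zero, hdeg]
    exact_mod_cast hw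

end one

section abstract

variable {R : Type*} {A : Type*} [CommRing R] [CommRing A] [Algebra R A] {κ : Type*} [Fintype κ]
  [DecidableEq κ]

/-- for a finite free algebra, if every linear form is `λ(· c)` then `c` is unique (Orzech) -/
theorem eq_zero_of_forall_mul (b : Module.Basis κ R A) (lam : A →ₗ[R] R)
    (hsurj : ∀ ψ : A →ₗ[R] R, ∃ c, ∀ x, ψ x = lam (x * c)) (c : A)
    (hc : ∀ x, lam (x * c) = 0) : c = 0 := by
  haveI : Module.Finite R A := Module.Finite.of_basis b
  let Φ : A →ₗ[R] Module.Dual R A := (LinearMap.mul R A).compr₂ lam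
  have hΦ : ∀ c x, Φ c x = lam (c * x) := fun c x => rfl
  have hsurjΦ : Function.Surjective Φ := by
    intro ψ
    obtain ⟨c, hc⟩ := hsurj ψ
    refine ⟨c, ?_⟩
    ext x
    rw [hΦ, mul_comm]
    exact (hc x).symm
  let E := b.toDualEquiv
  have hsurj' : Function.Surjective (E.symm.toLinearMap.comp Φ) :=
    E.symm.surjective.comp hsurjΦ
  have hinj' := OrzechProperty.injective_of_surjective_endomorphism _ hsurj'
  have hΦc : Φ c = 0 := by
    ext x
    rw [hΦ, mul_comm]
    exact hc x
  apply hinj'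
  rw [LinearMap.comp_apply, hΦc, map_zero, map_zero]

end abstract

section family

variable {R : Type u} [CommRing R] [Nontrivial R] {ι : Type v} [Fintype ι] [DecidableEq ι]
  (q : ι → Polynomial R) (hq : ∀ i, (q i).Monic) (d : ℕ) (hd : ∀ i, (q i).natDegree = d)
  (hd0 : 0 < d)

/-- the coordinate at the top monomial -/
noncomputable def lam : (MvPolynomial ι R ⧸ relIdeal q) →ₗ[R] R :=
  (basisOfDeg q hq d hd).coord (fun _ => ⟨d - 1, by omega⟩)

theorem repr_prod (z : ∀ i, AdjoinRoot (q i)) (e : ι → Fin d) :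
    (basisOfDeg q hq d hd).repr (∏ i, comp q i (z i)) e = ∏ i, lam1 (hq i) (e i) (z i) := by
  rw [basisOfDeg, Module.Basis.repr_reindex_apply, basis, Module.Basis.map_repr,
    LinearEquiv.trans_apply]
  have h1 : (equivTP q).symm.toLinearEquiv.symm (∏ i, comp q i (z i)) =
      PiTensorProduct.tprod R z := by
    rw [← fromTP_tprod]
    exact DFunLike.congr_fun (toTP_comp_fromTP q) _
  rw [h1, Basis.piTensorProduct_repr_tprod_apply]
  refine Finset.prod_congr rfl fun i _ => ?_
  rw [AdjoinRoot.powerBasisAux'_repr_apply_to_fun]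
  rfl

theorem lam_prod (z : ∀ i, AdjoinRoot (q i)) :
    lam q hq d hd hd0 (∏ i, comp q i (z i)) = ∏ i, lam1 (hq i) (d - 1) (z i) := by
  rw [lam, Module.Basis.coord_apply, repr_prod]

theorem basisOfDeg_eq_prod_comp (e : ι → Fin d) :
    basisOfDeg q hq d hd e = ∏ i, comp q i (AdjoinRoot.root (q i) ^ (e i : ℕ)) := by
  rw [basisOfDeg_apply]
  refine Finset.prod_congr rfl fun i _ => ?_
  rw [map_pow, comp_root]

/-- a family of one-variable dual elements gives perfectness of the `λ`-pairing: surjectivity -/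
theorem exists_eq_lam_mul (f : ∀ i, ℕ → AdjoinRoot (q i))
    (hf : ∀ i (w v : ℕ), w < d → v < d →
      lam1 (hq i) (d - 1) (AdjoinRoot.root (q i) ^ w * f i v) = if w = v then 1 else 0)
    (ψ : (MvPolynomial ι R ⧸ relIdeal q) →ₗ[R] R) :
    ∃ c, ∀ b, ψ b = lam q hq d hd hd0 (b * c) := by
  classical
  let F : (ι → Fin d) → (MvPolynomial ι R ⧸ relIdeal q) := fun v =>
    ∏ i, comp q i (f i (v i))
  refine ⟨∑ v, ψ (basisOfDeg q hq d hd v) • F v, fun b => ?_⟩
  have key : ψ = (lam q hq d hd hd0).comp
      (LinearMap.mulRight R (∑ v, ψ (basisOfDeg q hq d hd v) • F v)) := by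
    apply (basisOfDeg q hq d hd).ext
    intro w
    rw [LinearMap.comp_apply, LinearMap.mulRight_apply, Finset.mul_sum, map_sum]
    have h1 : ∀ v, lam q hq d hd hd0 (basisOfDeg q hq d hd w *
        ψ (basisOfDeg q hq d hd v) • F v) =
        if w = v then ψ (basisOfDeg q hq d hd v) else 0 := by
      intro v
      rw [mul_smul_comm, map_smul, basisOfDeg_eq_prod_comp q hq d hd w]
      simp only [F]
      rw [← Finset.prod_mul_distrib]
      have h2 : ∀ i, comp q i (AdjoinRoot.root (q i) ^ (w i : ℕ)) * comp q i (f i (v i)) =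
          comp q i (AdjoinRoot.root (q i) ^ (w i : ℕ) * f i (v i)) := fun i => (map_mul _ _ _).symm
      simp only [h2]
      rw [lam_prod]
      have h3 : ∀ i, lam1 (hq i) (d - 1) (AdjoinRoot.root (q i) ^ (w i : ℕ) * f i (v i)) =
          if w i = v i then 1 else 0 := by
        intro i
        rw [hf i _ _ (w i).2 (v i).2]
        simp only [Fin.val_inj]
      simp only [h3]
      rw [Finset.prod_ite_zero, Finset.prod_const_one, smul_eq_mul]
      by_cases hwv : w = v
      · rw [if_pos hwv, if_pos (fun i _ => congrFun hwv i), mul_one]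
      · rw [if_neg hwv, if_neg, mul_zero]
        intro hall
        exact hwv (funext fun i => hall i (Finset.mem_univ i))
    rw [Finset.sum_congr rfl fun v _ => h1 v, Finset.sum_ite_eq, if_pos (Finset.mem_univ _)]
  conv_lhs => rw [key]
  rfl

/-- injectivity from surjectivity (Orzech) -/
theorem eq_zero_of_lam_mul_eq_zero (f : ∀ i, ℕ → AdjoinRoot (q i))
    (hf : ∀ i (w v : ℕ), w < d → v < d →
      lam1 (hq i) (d - 1) (AdjoinRoot.root (q i) ^ w * f i v) = if w = v then 1 else 0)
    (c : MvPolynomial ι R ⧸ relIdeal q) (hc : ∀ b, lam q hq d hd hd0 (b * c) = 0) : c = 0 :=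
  eq_zero_of_forall_mul (basisOfDeg q hq d hd) (lam q hq d hd hd0)
    (exists_eq_lam_mul q hq d hd hd0 f hf) c hc

end family

end Groth.Agent.Lib.Seat73.TopCoeff
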