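import Mathlib
import Groth.Agent.Lib.Seat73TopCoeff

/-!
# The dual basis of the power basis of `R[T]/(T^p - c^(p-1) T - x)` for the top-coefficient form (seat 73)
-/

set_option autoImplicit false
set_option linter.unusedSectionVars false
set_option linter.style.haveILetI false
universe u

namespace Groth.Agent.Lib.Seat73.TopCoeffAS

open Polynomial Groth.Agent.Lib.Seat73.ASMinor Groth.Agent.Lib.Seat73.TopCoeff

variable {R : Type u} [CommRing R] [Nontrivial R] (p : ℕ) (c x : R)

local notation "qq" => as1 p c x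

theorem root_pow (hp : 2 ≤ p) :
    (AdjoinRoot.root qq) ^ p =
      algebraMap R (AdjoinRoot qq) (c ^ (p - 1)) * AdjoinRoot.root qq + algebraMap R (AdjoinRoot qq) x := by
  have h := AdjoinRoot.aeval_eq (f := qq) qq
  rw [AdjoinRoot.mk_self, aeval_as1 p hp] at h
  have h' := sub_eq_zero.mp h
  rw [sub_eq_iff_eq_add] at h'
  rw [h']
  ring

/-- the value of the top-coefficient form on `root^(p+r)` -/
theorem lam1_root_pow_add (hp : 2 ≤ p) (r : ℕ) (hr : r + 1 < p) :
    lam1 (as1_monic p hp c x) (p - 1) ((AdjoinRoot.root qq) ^ (p + r)) =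
      if r + 1 = p - 1 then c ^ (p - 1) else 0 := by
  have hdeg : (qq).natDegree = p := as1_natDegree p hp c x
  have e : (AdjoinRoot.root qq) ^ (p + r) =
      (c ^ (p - 1)) • (AdjoinRoot.root qq) ^ (r + 1) + x • (AdjoinRoot.root qq) ^ r := by
    rw [pow_add, root_pow p c x hp, Algebra.smul_def, Algebra.smul_def, pow_succ]
    ring
  rw [e, map_add, map_smul, map_smul,
    lam1_root_pow_of_lt _ _ _ (by rw [hdeg]; omega),
    lam1_root_pow_of_lt _ _ _ (by rw [hdeg]; omega)]
  have h2 : ¬ (p - 1 = r) := by omega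
  rw [if_neg h2, smul_zero, add_zero, smul_eq_mul]
  by_cases h : r + 1 = p - 1
  · rw [if_pos h, if_pos h.symm, mul_one]
  · rw [if_neg h, if_neg (fun h' => h h'.symm), mul_zero]

/-- the dual elements -/
noncomputable def dual1 (v : ℕ) : AdjoinRoot qq :=
  if v = 0 then (AdjoinRoot.root qq) ^ (p - 1) - algebraMap R (AdjoinRoot qq) (c ^ (p - 1))
  else (AdjoinRoot.root qq) ^ (p - 1 - v)

theorem lam1_mul_dual1 (hp : 2 ≤ p) (w v : ℕ) (hw : w < p) (hv : v < p) :
    lam1 (as1_monic p hp c x) (p - 1) ((AdjoinRoot.root qq) ^ w * dual1 p c x v) =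
      if w = v then 1 else 0 := by
  have hdeg : (qq).natDegree = p := as1_natDegree p hp c x
  by_cases hv0 : v = 0
  · rw [dual1, if_pos hv0, mul_sub, ← pow_add, map_sub, mul_comm _ (algebraMap R _ _),
      ← Algebra.smul_def, map_smul, smul_eq_mul, hv0]
    by_cases hw0 : w = 0
    · rw [hw0, zero_add, lam1_root_pow_of_lt _ _ _ (by rw [hdeg]; omega),
        lam1_root_pow_of_lt _ _ _ (by rw [hdeg]; omega), if_pos rfl, if_neg (by omega), mul_zero,
        sub_zero, if_pos rfl]
    · have e : w + (p - 1) = p + (w - 1) := by omega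
      rw [e, lam1_root_pow_add p c x hp (w - 1) (by omega),
        lam1_root_pow_of_lt _ _ _ (by rw [hdeg]; omega), if_neg hw0]
      by_cases hwp : w - 1 + 1 = p - 1
      · rw [if_pos hwp, if_pos (by omega), mul_one, sub_self]
      · rw [if_neg hwp, if_neg (by omega), mul_zero, sub_zero]
  · rw [dual1, if_neg hv0, ← pow_add]
    by_cases hm : w + (p - 1 - v) < p
    · rw [lam1_root_pow_of_lt _ _ _ (by rw [hdeg]; exact hm)]
      by_cases hwv : w = v
      · rw [if_pos hwv, if_pos (by omega)]
      · rw [if_neg hwv, if_neg (by omega)]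
    · have e : w + (p - 1 - v) = p + (w - 1 - v) := by omega
      rw [e, lam1_root_pow_add p c x hp (w - 1 - v) (by omega), if_neg (by omega),
        if_neg (by omega)]

end Groth.Agent.Lib.Seat73.TopCoeffAS
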