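import Mathlib
import Groth.Agent.Lib.Seat73TopCoeffAS
import Groth.Agent.Lib.Seat73SkewSym
import Groth.Agent.Lib.Seat73ASFree

/-!
# The skew group ring of an Artin–Schreier family is a symmetric algebra (seat 73)
-/

set_option autoImplicit false
set_option linter.unusedSectionVars false
set_option linter.style.haveILetI false
universe u v

namespace Groth.Agent.Lib.Seat73.ASSkew

open MvPolynomial Groth.Agent.Lib.Seat73.MonicFamilyI Groth.Agent.Lib.Seat73.ASMinor
  Groth.Agent.Lib.Seat73.TopCoeff Groth.Agent.Lib.Seat73.TopCoeffAS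

variable {R : Type u} [CommRing R] [Nontrivial R] (p n : ℕ) (a x : Fin n → R)

/-- the one-variable Artin–Schreier polynomials -/
noncomputable def qfam (i : Fin n) : Polynomial R := as1 p (a i) (x i)

theorem qfam_monic (hp : 2 ≤ p) (i : Fin n) : (qfam p n a x i).Monic := as1_monic p hp _ _

theorem qfam_natDegree (hp : 2 ≤ p) (i : Fin n) : (qfam p n a x i).natDegree = p :=
  as1_natDegree p hp _ _

/-- the top-coefficient form -/
noncomputable def lamAS (hp : 2 ≤ p) : (MvPolynomial (Fin n) R ⧸ relIdeal (qfam p n a x)) →ₗ[R] R :=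
  lam (qfam p n a x) (qfam_monic p n a x hp) p (qfam_natDegree p n a x hp) (by omega)

theorem lamAS_surj (hp : 2 ≤ p)
    (ψ : (MvPolynomial (Fin n) R ⧸ relIdeal (qfam p n a x)) →ₗ[R] R) :
    ∃ c, ∀ b, ψ b = lamAS p n a x hp (b * c) :=
  exists_eq_lam_mul (qfam p n a x) (qfam_monic p n a x hp) p (qfam_natDegree p n a x hp) (by omega)
    (fun i => dual1 p (a i) (x i))
    (fun i w v hw hv => lam1_mul_dual1 p (a i) (x i) hp w v hw hv) ψ

theorem lamAS_inj (hp : 2 ≤ p) (c : MvPolynomial (Fin n) R ⧸ relIdeal (qfam p n a x))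
    (hc : ∀ b, lamAS p n a x hp (b * c) = 0) : c = 0 :=
  eq_zero_of_lam_mul_eq_zero (qfam p n a x) (qfam_monic p n a x hp) p (qfam_natDegree p n a x hp)
    (by omega) (fun i => dual1 p (a i) (x i))
    (fun i w v hw hv => lam1_mul_dual1 p (a i) (x i) hp w v hw hv) c hc

/-- invariance of the top coefficient under `u_i ↦ u_i + a_i` -/
theorem lamAS_comp_eq (hp : 2 ≤ p)
    (σ : (MvPolynomial (Fin n) R ⧸ relIdeal (qfam p n a x)) →ₐ[R]
      (MvPolynomial (Fin n) R ⧸ relIdeal (qfam p n a x)))
    (hσ : ∀ i, σ (Ideal.Quotient.mk _ (X i)) =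
      Ideal.Quotient.mk _ (X i) + algebraMap R _ (a i)) (b : _) :
    lamAS p n a x hp (σ b) = lamAS p n a x hp b := by
  have hq := qfam_monic p n a x hp
  have hd := qfam_natDegree p n a x hp
  have key : (lamAS p n a x hp).comp σ.toLinearMap = lamAS p n a x hp := by
    apply (basisOfDeg (qfam p n a x) hq p hd).ext
    intro w
    rw [LinearMap.comp_apply, AlgHom.toLinearMap_apply]
    have h1 : σ (basisOfDeg (qfam p n a x) hq p hd w) =
        ∏ i, comp (qfam p n a x) i
          ((AdjoinRoot.root (qfam p n a x i) + algebraMap R _ (a i)) ^ (w i : ℕ)) := by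
      rw [basisOfDeg_apply, map_prod]
      refine Finset.prod_congr rfl fun i _ => ?_
      rw [map_pow, hσ, map_pow, map_add, comp_root, AlgHom.commutes]
    rw [h1, basisOfDeg_eq_prod_comp, lamAS, lam_prod, lam_prod]
    refine Finset.prod_congr rfl fun i _ => ?_
    have h2 := lam1_root_add_pow (hq i) (a i) (w i : ℕ) (by rw [hd i]; exact (w i).2)
      (by rw [hd i]; omega)
    rw [hd i] at h2
    rw [h2, lam1_root_pow_of_lt (hq i) _ _ (by rw [hd i]; exact (w i).2)]
  exact DFunLike.congr_fun key b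

section group

variable {G : Type v} [Group G] [Finite G]

theorem skew_main (hp : 2 ≤ p) (J : Ideal (MvPolynomial (Fin n) R))
    (hJ : J = relIdeal (qfam p n a x))
    [MulSemiringAction G (MvPolynomial (Fin n) R ⧸ J)]
    [SMulCommClass G R (MvPolynomial (Fin n) R ⧸ J)]
    (g : G) (hgen : ∀ h : G, h ∈ Subgroup.zpowers g)
    (hg : ∀ i, g • (Ideal.Quotient.mk J (X i)) =
      Ideal.Quotient.mk J (X i) + algebraMap R (MvPolynomial (Fin n) R ⧸ J) (a i)) :
    ∃ φ : SkewMonoidAlgebra (MvPolynomial (Fin n) R ⧸ J) G →ₗ[R] R,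
      (∀ x y : SkewMonoidAlgebra (MvPolynomial (Fin n) R ⧸ J) G, φ (x * y) = φ (y * x)) ∧
      Function.Injective (fun y : SkewMonoidAlgebra (MvPolynomial (Fin n) R ⧸ J) G =>
        fun x : SkewMonoidAlgebra (MvPolynomial (Fin n) R ⧸ J) G => φ (x * y)) ∧
      ∀ ψ : SkewMonoidAlgebra (MvPolynomial (Fin n) R ⧸ J) G →ₗ[R] R,
        ∃ y : SkewMonoidAlgebra (MvPolynomial (Fin n) R ⧸ J) G, ∀ x, ψ x = φ (x * y) := by
  subst hJ
  -- invariance under `g`
  have hg1 : ∀ b, lamAS p n a x hp (g • b) = lamAS p n a x hp b := fun b =>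
    lamAS_comp_eq p n a x hp
      (MulSemiringAction.toAlgHom R (MvPolynomial (Fin n) R ⧸ relIdeal (qfam p n a x)) g) hg b
  -- invariance under the whole group
  let S : Subgroup G :=
    { carrier := {h | ∀ b, lamAS p n a x hp (h • b) = lamAS p n a x hp b}
      one_mem' := fun b => by rw [one_smul]
      mul_mem' := fun {h h'} hh hh' b => by rw [mul_smul, hh, hh']
      inv_mem' := fun {h} hh b => by
        have := hh (h⁻¹ • b)
        rw [smul_inv_smul] at this
        exact this.symm }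
  have hS : Subgroup.zpowers g ≤ S := by
    rw [Subgroup.zpowers_le]
    exact hg1
  have hinv : ∀ (h : G) (b : _), lamAS p n a x hp (h • b) = lamAS p n a x hp b :=
    fun h => hS (hgen h)
  exact SkewSym.exists_symmetrising (lamAS p n a x hp) hinv (lamAS_surj p n a x hp)
    (lamAS_inj p n a x hp)

end group

end Groth.Agent.Lib.Seat73.ASSkew
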