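import Mathlib
import Groth.Agent.S2082
import Groth.Agent.Lib.Helper5RLR3
import Groth.Agent.Lib.Helper5IntDim

/-!
A regular local ring which is a finite injective extension of a regular local ring is free over it
(miracle flatness), in arbitrary universes.
-/

set_option autoImplicit false

universe u v

namespace Groth.Agent.Lib.Seat73.RegFinFree

open IsLocalRing

theorem ringKrullDim_quotient_comap_of_isIntegral (B R : Type*) [CommRing B] [CommRing R]
    [Algebra B R] [Algebra.IsIntegral B R] (P : Ideal R) :
    ringKrullDim (B ⧸ P.comap (algebraMap B R)) = ringKrullDim (R ⧸ P) := by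
  have hf : ((Ideal.Quotient.mk P).comp (algebraMap B R)).IsIntegral :=
    RingHom.IsIntegral.trans _ _ (algebraMap_isIntegral_iff.mpr inferInstance)
      (RingHom.isIntegral_of_surjective _ Ideal.Quotient.mk_surjective)
  have := Groth.Agent.Lib.Helper5.ringKrullDim_eq_ringKrullDim_quotient_ker_of_isIntegral _ hf
  rw [this, ← RingHom.comap_ker, Ideal.mk_ker]

theorem free_same_universe {R A : Type u} [CommRing R] [CommRing A] [IsRegularLocalRing R]
    [IsRegularLocalRing A] [Algebra R A] [Module.Finite R A]
    (hinj : Function.Injective (algebraMap R A)) : Module.Free R A := by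
  have _f : FaithfulSMul R A := (faithfulSMul_iff_algebraMap_injective R A).mpr hinj
  have _i : Algebra.IsIntegral R A := inferInstance
  have _l : IsLocalHom (algebraMap R A) := inferInstance
  have _cm : LocCoh.IsCohenMacaulayLocalRing A :=
    Groth.Agent.Lib.Helper5.isCohenMacaulayLocalRing_of_isRegularLocalRing A
  have hle : (maximalIdeal R).map (algebraMap R A) ≤ maximalIdeal A :=
    ((IsLocalRing.local_hom_TFAE (algebraMap R A)).out 0 2).mp _l
  have hcomap : ((maximalIdeal R).map (algebraMap R A)).comap (algebraMap R A) = maximalIdeal R := by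
    refine ((maximalIdeal.isMaximal R).eq_of_le ?_ Ideal.le_comap_map).symm
    intro htop
    have h1 : (1 : R) ∈ ((maximalIdeal R).map (algebraMap R A)).comap (algebraMap R A) := by
      rw [htop]; trivial
    rw [Ideal.mem_comap, map_one] at h1
    exact (Ideal.ne_top_iff_one _).mp (maximalIdeal.isMaximal A).ne_top (hle h1)
  have hfib : ringKrullDim (A ⧸ (maximalIdeal R).map (algebraMap R A)) = 0 := by
    rw [← ringKrullDim_quotient_comap_of_isIntegral R A, hcomap]
    exact ringKrullDim_eq_zero_of_isField
      ((Ideal.Quotient.maximal_ideal_iff_isField_quotient _).mp (maximalIdeal.isMaximal R))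
  have hdim : ringKrullDim A = ringKrullDim R +
      ringKrullDim (A ⧸ (maximalIdeal R).map (algebraMap R A)) := by
    rw [hfib, add_zero]
    exact Groth.Agent.Lib.Helper5.ringKrullDim_eq_of_isIntegral_of_injective R A hinj
  have _flat : Module.Flat R A := Groth.Agent.S2082.result hdim
  exact Module.free_of_flat_of_isLocalRing

attribute [local instance] RingHomInvPair.of_ringEquiv in
/-- A regular local ring which is a finite injective extension of a regular local ring is free
over it. -/
theorem free_of_finite_injective {R : Type u} {A : Type v} [CommRing R] [CommRing A]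
    [IsRegularLocalRing R] [IsRegularLocalRing A] [Algebra R A] [Module.Finite R A]
    (hinj : Function.Injective (algebraMap R A)) : Module.Free R A := by
  let eR : ULift.{v} R ≃+* R := ULift.ringEquiv
  let eA : ULift.{u} A ≃+* A := ULift.ringEquiv
  let φ : ULift.{v} R →+* ULift.{u} A :=
    (eA.symm : A →+* ULift.{u} A).comp ((algebraMap R A).comp (eR : ULift.{v} R →+* R))
  let _alg : Algebra (ULift.{v} R) (ULift.{u} A) := Algebra.ofModule
    (fun r x y => ULift.ext _ _ (smul_mul_assoc r.down x.down y.down))
    (fun r x y => ULift.ext _ _ (mul_smul_comm r.down x.down y.down))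
  have hφ : algebraMap (ULift.{v} R) (ULift.{u} A) = φ := by
    ext r
    change (r • (1 : ULift.{u} A)).down = algebraMap R A r.down
    rw [Algebra.algebraMap_eq_smul_one]
    rfl
  have _r1 : IsRegularLocalRing (ULift.{v} R) := IsRegularLocalRing.of_ringEquiv eR.symm
  have _r2 : IsRegularLocalRing (ULift.{u} A) := IsRegularLocalRing.of_ringEquiv eA.symm
  have hfin : φ.Finite := by
    refine RingHom.Finite.comp (RingHom.Finite.of_surjective _ eA.symm.surjective)
      (RingHom.Finite.comp ?_ (RingHom.Finite.of_surjective _ eR.surjective))
    exact RingHom.finite_algebraMap.mpr inferInstance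
  have _fin : Module.Finite (ULift.{v} R) (ULift.{u} A) :=
    RingHom.finite_algebraMap.mp (by rw [hφ]; exact hfin)
  have hinj' : Function.Injective (algebraMap (ULift.{v} R) (ULift.{u} A)) := by
    rw [hφ]
    exact eA.symm.injective.comp (hinj.comp eR.injective)
  have hfree : Module.Free (ULift.{v} R) (ULift.{u} A) := free_same_universe hinj'
  let e₂ : ULift.{u} A ≃ₛₗ[(eR : ULift.{v} R →+* R)] A :=
    { toFun := ULift.down
      invFun := ULift.up
      left_inv := fun _ => rfl
      right_inv := fun _ => rfl
      map_add' := fun _ _ => rfl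
      map_smul' := fun _ _ => rfl }
  exact Module.Free.of_equiv e₂

end Groth.Agent.Lib.Seat73.RegFinFree
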