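import Mathlib
import Groth.Agent.S2082
import Groth.Agent.Lib.Helper5CM
import Groth.Agent.Lib.Helper5IntDim
import Groth.Agent.Lib.Helper28Normal
import Groth.Agent.Lib.Seat73RegFinFree

/-!
A normal local domain of Krull dimension two which is a finite injective extension of a regular
local ring is free over it (in arbitrary universes).
-/

set_option autoImplicit false

universe u v

namespace Groth.Agent.Lib.Seat73.CMFree

open IsLocalRing

theorem free_of_CM_same_universe {R A : Type u} [CommRing R] [CommRing A] [IsRegularLocalRing R]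
    [LocCoh.IsCohenMacaulayLocalRing A] [Algebra R A] [Module.Finite R A]
    (hinj : Function.Injective (algebraMap R A)) : Module.Free R A := by
  have _f : FaithfulSMul R A := (faithfulSMul_iff_algebraMap_injective R A).mpr hinj
  have _i : Algebra.IsIntegral R A := inferInstance
  have _l : IsLocalHom (algebraMap R A) := inferInstance
  have hle : (maximalIdeal R).map (algebraMap R A) ≤ maximalIdeal A :=
    ((IsLocalRing.local_hom_TFAE (algebraMap R A)).out 0 2).mp _l
  have hcomap : ((maximalIdeal R).map (algebraMap R A)).comap (algebraMap R A) = maximalIdeal R := by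
    refine ((maximalIdeal.isMaximal R).eq_of_le ?_ Ideal.le_comap_map).symm
    intro htop
    have h1 : (1 : R) ∈ ((maximalIdeal R).map (algebraMap R A)).comap (algebraMap R A) := by
      rw [htop]; trivial
    rw [Ideal.mem_comap, map_one] at h1
    exact (Ideal.ne_top_iff_one _).mp (maximalIdeal.isMaximal A).ne_top (hle h1)
  have hfib : ringKrullDim (A ⧸ (maximalIdeal R).map (algebraMap R A)) = 0 := by
    rw [← Groth.Agent.Lib.Seat73.RegFinFree.ringKrullDim_quotient_comap_of_isIntegral R A, hcomap]
    exact ringKrullDim_eq_zero_of_isField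
      ((Ideal.Quotient.maximal_ideal_iff_isField_quotient _).mp (maximalIdeal.isMaximal R))
  have hdim : ringKrullDim A = ringKrullDim R +
      ringKrullDim (A ⧸ (maximalIdeal R).map (algebraMap R A)) := by
    rw [hfib, add_zero]
    exact Groth.Agent.Lib.Helper5.ringKrullDim_eq_of_isIntegral_of_injective R A hinj
  have _flat : Module.Flat R A := Groth.Agent.S2082.result hdim
  exact Module.free_of_flat_of_isLocalRing

theorem isCohenMacaulayLocalRing_of_normal_dim_two {A : Type u} [CommRing A] [IsDomain A]
    [IsIntegrallyClosed A] [IsLocalRing A] [IsNoetherianRing A] (hdim : ringKrullDim A = 2) :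
    LocCoh.IsCohenMacaulayLocalRing A := by
  refine ⟨?_⟩
  have h1 : (2 : ℕ∞) ≤ LocCoh.depth A A :=
    Groth.Agent.Lib.Helper28.two_le_depth_of_isIntegrallyClosed_of_two_le_dim (by rw [hdim])
  have h2 : ((LocCoh.depth A A : ℕ∞) : WithBot ℕ∞) ≤ Module.supportDim A A :=
    Groth.Agent.Lib.Helper5.depth_le_supportDim
  rw [Module.supportDim_self_eq_ringKrullDim, hdim] at h2 ⊢
  apply le_antisymm
  · have h3 : ((2 : ℕ∞) : WithBot ℕ∞) ≤ ((LocCoh.depth A A : ℕ∞) : WithBot ℕ∞) :=
      WithBot.coe_le_coe.mpr h1
    exact h3
  · exact h2

theorem free_same_universe {R A : Type u} [CommRing R] [CommRing A] [IsRegularLocalRing R]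
    [IsDomain A] [IsIntegrallyClosed A] [IsLocalRing A] [Algebra R A] [Module.Finite R A]
    (hinj : Function.Injective (algebraMap R A)) (hdim : ringKrullDim A = 2) :
    Module.Free R A := by
  have hN : IsNoetherianRing A := isNoetherian_of_tower R (isNoetherian_of_isNoetherianRing_of_finite R A)
  have := isCohenMacaulayLocalRing_of_normal_dim_two hdim
  exact free_of_CM_same_universe hinj

attribute [local instance] RingHomInvPair.of_ringEquiv in
/-- A normal local domain of dimension two, finite and injective over a regular local ring, is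
free over it. -/
theorem free_of_normal_dim_two {R : Type u} {A : Type v} [CommRing R] [CommRing A]
    [IsRegularLocalRing R] [IsDomain A] [IsIntegrallyClosed A] [IsLocalRing A] [Algebra R A]
    [Module.Finite R A] (hinj : Function.Injective (algebraMap R A))
    (hdim : ringKrullDim A = 2) : Module.Free R A := by
  let eR : ULift.{v} R ≃+* R := ULift.ringEquiv
  let eA : ULift.{u} A ≃+* A := ULift.ringEquiv
  let φ : ULift.{v} R →+* ULift.{u} A :=
    (eA.symm : A →+* ULift.{u} A).comp ((algebraMap R A).comp (eR : ULift.{v} R →+* R))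
  let _alg : Algebra (ULift.{v} R) (ULift.{u} A) := Algebra.ofModule
    (fun r x y => ULift.ext _ _ (smul_mul_assoc r.down x.down y.down))
    (fun r x y => ULift.ext _ _ (mul_smul_comm r.down x.down y.down))
  have hφ : algebraMap (ULift.{v} R) (ULift.{u} A) = φ := by
    ext r
    change (r • (1 : ULift.{u} A)).down = algebraMap R A r.down
    rw [Algebra.algebraMap_eq_smul_one]
    rfl
  have _r1 : IsRegularLocalRing (ULift.{v} R) := IsRegularLocalRing.of_ringEquiv eR.symm
  have _d : IsDomain (ULift.{u} A) := eA.toMulEquiv.isDomain _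
  have _ic : IsIntegrallyClosed (ULift.{u} A) := IsIntegrallyClosed.of_equiv eA.symm
  have _lr : IsLocalRing (ULift.{u} A) := eA.symm.isLocalRing
  have hdim' : ringKrullDim (ULift.{u} A) = 2 := by
    rw [ringKrullDim_eq_of_ringEquiv eA, hdim]
  have hfin : φ.Finite := by
    refine RingHom.Finite.comp (RingHom.Finite.of_surjective _ eA.symm.surjective)
      (RingHom.Finite.comp ?_ (RingHom.Finite.of_surjective _ eR.surjective))
    exact RingHom.finite_algebraMap.mpr inferInstance
  have _fin : Module.Finite (ULift.{v} R) (ULift.{u} A) :=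
    RingHom.finite_algebraMap.mp (by rw [hφ]; exact hfin)
  have hinj' : Function.Injective (algebraMap (ULift.{v} R) (ULift.{u} A)) := by
    rw [hφ]
    exact eA.symm.injective.comp (hinj.comp eR.injective)
  have hfree : Module.Free (ULift.{v} R) (ULift.{u} A) := free_same_universe hinj' hdim'
  let e₂ : ULift.{u} A ≃ₛₗ[(eR : ULift.{v} R →+* R)] A :=
    { toFun := ULift.down
      invFun := ULift.up
      left_inv := fun _ => rfl
      right_inv := fun _ => rfl
      map_add' := fun _ _ => rfl
      map_smul' := fun _ _ => rfl }
  exact Module.Free.of_equiv e₂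

end Groth.Agent.Lib.Seat73.CMFree
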