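import Mathlib

/-!
# Chevalley–Shephard–Todd, sufficiency half: the flatness criterion

`lTensor_injective_of_reflections`: let `R → A` be an injective ring map, `A` a noetherian local ring, `G` a finite
group acting on `A` by `R`-algebra automorphisms with invariants `R` and order invertible in `A`.  Suppose `G` is
generated by elements `g` for which `g • a - a = z * Δ a` with `z` in the maximal ideal and `Δ` an `R`-linear map.
Then for every injective `R`-linear map `ι : N → R` from a finite module, `A ⊗ N → A ⊗ R` is injective.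
-/

open TensorProduct IsLocalRing

namespace Groth.Agent.Lib.Seat73.CST

section Tensor

variable {R A : Type*} [CommRing R] [CommRing A] [Algebra R A]
variable {N : Type*} [AddCommGroup N] [Module R N]

/-- An `R`-linear endomorphism of `A`, tensored with `N`, preserves the kernel of `A ⊗ N → A ⊗ R`. -/
theorem lTensor_rTensor_eq_zero (ι : N →ₗ[R] R) {B : Type*} [AddCommGroup B] [Module R B]
    (D : A →ₗ[R] B) {t : A ⊗[R] N}
    (ht : ι.lTensor A t = 0) : ι.lTensor B (D.rTensor N t) = 0 := by
  have h : ι.lTensor B ∘ₗ D.rTensor N = D.rTensor R ∘ₗ ι.lTensor A := by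
    rw [LinearMap.lTensor_comp_rTensor, LinearMap.rTensor_comp_lTensor]
  have h2 := LinearMap.congr_fun h t
  simp only [LinearMap.comp_apply] at h2
  rw [h2, ht, map_zero]

theorem mulLeft_rTensor (z : A) (t : A ⊗[R] N) :
    (LinearMap.mulLeft R z).rTensor N t = z • t := by
  induction t using TensorProduct.induction_on with
  | zero => simp
  | tmul b n => simp [TensorProduct.smul_tmul']
  | add x y hx hy => rw [map_add, hx, hy, smul_add]

variable {G : Type*} [Group G] [MulSemiringAction G A] [SMulCommClass G R A]

theorem toLinearMap_rTensor_smul (g : G) (a : A) (t : A ⊗[R] N) :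
    (DistribSMul.toLinearMap R A g).rTensor N (a • t) =
      (g • a) • (DistribSMul.toLinearMap R A g).rTensor N t := by
  induction t using TensorProduct.induction_on with
  | zero => simp
  | tmul b n => simp [TensorProduct.smul_tmul', smul_mul']
  | add x y hx hy => rw [smul_add, map_add, hx, hy, map_add, smul_add]

end Tensor

section Main

variable {R A : Type*} [CommRing R] [CommRing A] [Algebra R A] [IsLocalRing A] [IsNoetherianRing A]
variable {G : Type*} [Group G] [Finite G] [MulSemiringAction G A] [SMulCommClass G R A]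
variable {N : Type*} [AddCommGroup N] [Module R N] [Module.Finite R N]

omit [IsNoetherianRing A] [Finite G] in
theorem smul_mem_maximalIdeal (g : G) {a : A} (ha : a ∈ maximalIdeal A) : g • a ∈ maximalIdeal A := by
  rw [mem_maximalIdeal, mem_nonunits_iff] at ha ⊢
  intro h
  apply ha
  have := h.map (MulSemiringAction.toRingHom G A g⁻¹)
  simpa using this

/-- The flatness criterion: see the module docstring. -/
theorem lTensor_injective_of_reflections
    (hinj : Function.Injective (algebraMap R A))
    (hfix : ∀ a : A, (∀ g : G, g • a = a) → a ∈ (algebraMap R A).range)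
    (hcard : IsUnit (Nat.card G : A))
    (S : Set G) (hS : Subgroup.closure S = ⊤)
    (hrefl : ∀ g ∈ S, ∃ z ∈ maximalIdeal A, ∃ Δ : A →ₗ[R] A, ∀ a, g • a - a = z * Δ a)
    (ι : N →ₗ[R] R) (hι : Function.Injective ι) :
    Function.Injective (ι.lTensor A) := by
  classical
  cases nonempty_fintype G
  -- the kernel, as an `A`-submodule
  let T : Submodule A (A ⊗[R] N) := LinearMap.ker (ι.baseChange A)
  have hT : ∀ t, t ∈ T ↔ ι.lTensor A t = 0 := fun t => by
    rw [LinearMap.mem_ker]; rfl
  let σ : G → (A ⊗[R] N →ₗ[R] A ⊗[R] N) := fun g => (DistribSMul.toLinearMap R A g).rTensor N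
  have hσT : ∀ g t, t ∈ T → σ g t ∈ T := fun g t ht => by
    rw [hT] at ht ⊢
    exact lTensor_rTensor_eq_zero ι _ ht
  let MT : Submodule A (A ⊗[R] N) := maximalIdeal A • T
  have hσMT : ∀ g t, t ∈ MT → σ g t ∈ MT := by
    intro g t ht
    refine Submodule.smul_induction_on ht ?_ ?_
    · intro a ha t ht
      show (DistribSMul.toLinearMap R A g).rTensor N (a • t) ∈ MT
      rw [toLinearMap_rTensor_smul]
      exact Submodule.smul_mem_smul (smul_mem_maximalIdeal g ha) (hσT g t ht)
    · intro x y hx hy
      rw [map_add]; exact add_mem hx hy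
  have hσ1 : ∀ t, σ 1 t = t := by
    intro t
    have : DistribSMul.toLinearMap R A (1 : G) = LinearMap.id := by ext a; simp
    simp only [σ, this, LinearMap.rTensor_id, LinearMap.id_apply]
  have hσmul : ∀ g h t, σ (g * h) t = σ g (σ h t) := by
    intro g h t
    have : DistribSMul.toLinearMap R A (g * h) =
        DistribSMul.toLinearMap R A g ∘ₗ DistribSMul.toLinearMap R A h := by
      ext a; simp [mul_smul]
    simp only [σ, this, LinearMap.rTensor_comp, LinearMap.comp_apply]
  -- the key property, for all `g`
  have key : ∀ g : G, ∀ t ∈ T, σ g t - t ∈ MT := by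
    intro g
    have hg : g ∈ Subgroup.closure S := by rw [hS]; trivial
    induction hg using Subgroup.closure_induction with
    | mem g hg =>
      intro t ht
      obtain ⟨z, hz, Δ, hΔ⟩ := hrefl g hg
      have h1 : DistribSMul.toLinearMap R A g - LinearMap.id = LinearMap.mulLeft R z ∘ₗ Δ := by
        ext a; simpa using hΔ a
      have h2 : σ g t - t = z • Δ.rTensor N t := by
        have := congrArg (fun f => LinearMap.rTensor N f t) h1
        simp only [LinearMap.rTensor_sub, LinearMap.rTensor_id, LinearMap.sub_apply,
          LinearMap.id_apply, LinearMap.rTensor_comp, LinearMap.comp_apply, mulLeft_rTensor] at this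
        exact this
      rw [h2]
      refine Submodule.smul_mem_smul hz ?_
      rw [hT] at ht ⊢
      exact lTensor_rTensor_eq_zero ι _ ht
    | one => intro t ht; rw [hσ1, sub_self]; exact zero_mem _
    | mul g h _ _ ihg ihh =>
      intro t ht
      have : σ (g * h) t - t = σ g (σ h t - t) + (σ g t - t) := by
        rw [hσmul, map_sub]; abel
      rw [this]
      exact add_mem (hσMT g _ (ihh t ht)) (ihg t ht)
    | inv g _ ihg =>
      intro t ht
      have : σ g⁻¹ t - t = - σ g⁻¹ (σ g t - t) := by
        rw [map_sub, ← hσmul, inv_mul_cancel, hσ1]; abel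
      rw [this]
      exact neg_mem (hσMT _ _ (ihg t ht))
  -- the averaging operator factors through `R`
  let e : A →ₗ[R] A := ∑ g : G, DistribSMul.toLinearMap R A g
  have he : ∀ a, e a = ∑ g : G, g • a := fun a => by simp [e, LinearMap.sum_apply]
  have herange : ∀ a, e a ∈ LinearMap.range (Algebra.linearMap R A) := by
    intro a
    obtain ⟨r, hr⟩ := hfix (e a) (fun h => by
      rw [he, Finset.smul_sum]
      exact Fintype.sum_equiv (Equiv.mulLeft h) _ _ (fun g => by simp [mul_smul]))
    exact ⟨r, hr⟩
  let φ := LinearEquiv.ofInjective (Algebra.linearMap R A) hinj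
  let e₀ : A →ₗ[R] R := φ.symm.toLinearMap ∘ₗ
    (e.codRestrict (LinearMap.range (Algebra.linearMap R A)) herange)
  have he₀ : Algebra.linearMap R A ∘ₗ e₀ = e := by
    ext a
    have h1 : ∀ y, Algebra.linearMap R A (φ.symm y) = (y : A) := by
      intro y
      have := LinearEquiv.ofInjective_apply (Algebra.linearMap R A) (h := hinj) (φ.symm y)
      rw [← this]
      simp [φ]
    simp only [LinearMap.comp_apply, e₀, LinearEquiv.coe_coe, h1, LinearMap.codRestrict_apply]
  have hsum : ∀ t ∈ T, ∑ g : G, σ g t = 0 := by
    intro t ht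
    rw [hT] at ht
    have h0 : e₀.rTensor N t = 0 := by
      apply Module.Flat.lTensor_preserves_injective_linearMap (M := R) ι hι
      rw [map_zero]
      exact lTensor_rTensor_eq_zero ι e₀ ht
    have h1 : e.rTensor N t = 0 := by
      rw [← he₀, LinearMap.rTensor_comp, LinearMap.comp_apply, h0, map_zero]
    have h2 : e.rTensor N = ∑ g : G, σ g := by
      simp only [e, σ, ← LinearMap.coe_rTensorHom, map_sum]
    rw [h2, LinearMap.sum_apply] at h1
    exact h1
  have hle : T ≤ MT := by
    intro t ht
    have h1 : ∑ g : G, (σ g t - t) ∈ MT := sum_mem fun g _ => key g t ht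
    rw [Finset.sum_sub_distrib, hsum t ht, zero_sub, Finset.sum_const, Finset.card_univ,
      ← Nat.card_eq_fintype_card, neg_mem_iff] at h1
    obtain ⟨u, hu⟩ := hcard
    have h2 : t = (↑u⁻¹ : A) • (Nat.card G • t) := by
      rw [← Nat.cast_smul_eq_nsmul A, smul_smul, ← hu, Units.inv_mul, one_smul]
    rw [h2]
    exact Submodule.smul_mem _ _ h1
  have hfg : T.FG := IsNoetherian.noetherian T
  have hbot : T = ⊥ := Submodule.eq_bot_of_le_smul_of_le_jacobson_bot (maximalIdeal A) T hfg hle
    (IsLocalRing.maximalIdeal_le_jacobson ⊥)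
  rw [← LinearMap.ker_eq_bot] at ⊢
  rw [Submodule.eq_bot_iff]
  intro t ht
  have : t ∈ T := (hT t).2 ht
  rw [hbot] at this
  exact this

end Main

end Groth.Agent.Lib.Seat73.CST
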