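import Mathlib

/-!
# Chevalley–Shephard–Todd, sufficiency half: the structure of a pseudo-reflection

Let `A` be a noetherian local `k`-algebra with residue field `k` whose maximal ideal `M` is generated by `n`
elements, and `g` a `k`-algebra endomorphism of finite order `N` invertible in `k` such that `A` modulo `M ^ 2` and the
elements `g a - a` has dimension at least `n`.  Then there is `z ∈ M` dividing all `g a - a`
(`exists_dvd_of_pseudoreflection`).
-/

open IsLocalRing

namespace Groth.Agent.Lib.Seat73.CSTRefl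

/-- Ideals of a Noetherian local ring are closed for the adic topology of the maximal ideal.
(Same proof as `Groth.Agent.Lib.Seat71.PSFix.mem_of_forall_mem_sup_pow`, repeated to keep imports light.) -/
theorem mem_of_forall_mem_sup_pow {R : Type*} [CommRing R] [IsNoetherianRing R] [IsLocalRing R]
    (J : Ideal R) (x : R) (hx : ∀ n : ℕ, x ∈ J ⊔ IsLocalRing.maximalIdeal R ^ n) : x ∈ J := by
  have h := Ideal.iInf_pow_smul_eq_bot_of_isLocalRing (I := IsLocalRing.maximalIdeal R)
    (M := R ⧸ J) (Ideal.IsPrime.ne_top inferInstance)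
  have hmem : Ideal.Quotient.mk J x ∈
      (⨅ i : ℕ, IsLocalRing.maximalIdeal R ^ i • ⊤ : Submodule R (R ⧸ J)) := by
    rw [Submodule.mem_iInf]
    intro i
    obtain ⟨j, hj, y, hy, rfl⟩ := Submodule.mem_sup.1 (hx i)
    have h1 : Ideal.Quotient.mk J (j + y) = y • (Ideal.Quotient.mk J 1) := by
      rw [map_add, Ideal.Quotient.eq_zero_iff_mem.2 hj, zero_add]
      show _ = Ideal.Quotient.mk J (y * 1)
      rw [mul_one]
    rw [h1]
    exact Submodule.smul_mem_smul hy Submodule.mem_top
  rw [h] at hmem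
  exact Ideal.Quotient.eq_zero_iff_mem.1 ((Submodule.mem_bot _).1 hmem)

section Div

variable {k A : Type*} [Field k] [CommRing A] [Algebra k A] [IsLocalRing A] [IsNoetherianRing A]

/-- If the maximal ideal is generated by `g`-fixed elements and one element `z` with `z ∣ g z - z`, then `z` divides
all `g a - a`. -/
theorem dvd_map_sub_of_generators
    (hres : ∀ a : A, ∃ c : k, a - algebraMap k A c ∈ maximalIdeal A)
    (g : A →ₐ[k] A)
    (F : Set A) (hF : ∀ y ∈ F, g y = y) (hFM : F ⊆ maximalIdeal A)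
    (z : A) (hz : z ∣ g z - z) (hzM : z ∈ maximalIdeal A)
    (hM : maximalIdeal A ≤ Ideal.span (F ∪ {z}))
    (a : A) : z ∣ g a - a := by
  rw [← Ideal.mem_span_singleton]
  apply mem_of_forall_mem_sup_pow
  intro j
  induction j generalizing a with
  | zero => simp
  | succ j ih =>
    obtain ⟨c, hc⟩ := hres a
    have h1 : g a - a = g (a - algebraMap k A c) - (a - algebraMap k A c) := by
      rw [map_sub, AlgHom.commutes]; ring
    rw [h1]
    have key : ∀ x ∈ Ideal.span (F ∪ {z}), x ∈ maximalIdeal A ∧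
        g x - x ∈ Ideal.span {z} ⊔ maximalIdeal A ^ (j + 1) := by
      intro x hx
      induction hx using Submodule.span_induction with
      | mem y hy =>
        rcases hy with hy | hy
        · refine ⟨hFM hy, ?_⟩
          rw [hF y hy, sub_self]; exact zero_mem _
        · rw [Set.mem_singleton_iff] at hy
          subst hy
          exact ⟨hzM, Ideal.mem_sup_left (Ideal.mem_span_singleton.2 hz)⟩
      | zero => exact ⟨zero_mem _, by simp⟩
      | add x y _ _ hx hy =>
        refine ⟨add_mem hx.1 hy.1, ?_⟩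
        have : g (x + y) - (x + y) = (g x - x) + (g y - y) := by rw [map_add]; ring
        rw [this]; exact add_mem hx.2 hy.2
      | smul b x _ hx =>
        refine ⟨Ideal.mul_mem_left _ _ hx.1, ?_⟩
        have : g (b • x) - b • x = g b * (g x - x) + (g b - b) * x := by
          rw [smul_eq_mul, map_mul]; ring
        rw [this]
        refine add_mem (Ideal.mul_mem_left _ _ hx.2) ?_
        obtain ⟨u, hu, v, hv, huv⟩ := Submodule.mem_sup.1 (ih b)
        rw [← huv, add_mul]
        refine add_mem (Ideal.mem_sup_left (Ideal.mul_mem_right _ _ hu)) (Ideal.mem_sup_right ?_)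
        rw [pow_succ]
        exact Ideal.mul_mem_mul hv hx.1
    exact (key _ (hM hc)).2

end Div

section Dim

variable {k A : Type*} [Field k] [CommRing A] [Algebra k A] [IsLocalRing A]

/-- `A ⧸ M ^ 2` is spanned by `1` and the images of the generators of `M`. -/
theorem finrank_quot_sq_le
    (hres : ∀ a : A, ∃ c : k, a - algebraMap k A c ∈ maximalIdeal A)
    (n : ℕ) (s : Fin n → A) (hs : maximalIdeal A = Ideal.span (Set.range s)) :
    Module.Finite k (A ⧸ maximalIdeal A ^ 2) ∧
      Module.finrank k (A ⧸ maximalIdeal A ^ 2) ≤ n + 1 := by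
  let f : (k × (Fin n → k)) →ₗ[k] A ⧸ maximalIdeal A ^ 2 :=
    (LinearMap.toSpanSingleton k _ 1).coprod
      (Fintype.linearCombination k (fun i => Ideal.Quotient.mk (maximalIdeal A ^ 2) (s i)))
  have hf : Function.Surjective f := by
    intro q
    obtain ⟨a, rfl⟩ := Ideal.Quotient.mk_surjective q
    obtain ⟨c₀, hc₀⟩ := hres a
    rw [hs] at hc₀
    obtain ⟨b, hb⟩ := (Ideal.mem_span_range_iff_exists_fun).1 hc₀
    choose c hc using fun i => hres (b i)
    refine ⟨(c₀, c), ?_⟩
    simp only [f, LinearMap.coprod_apply, LinearMap.toSpanSingleton_apply,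
      Fintype.linearCombination_apply]
    have h1 : a = algebraMap k A c₀ + ∑ i, algebraMap k A (c i) * s i +
        ∑ i, (b i - algebraMap k A (c i)) * s i := by
      rw [add_assoc, ← Finset.sum_add_distrib]
      have : ∀ i, algebraMap k A (c i) * s i + (b i - algebraMap k A (c i)) * s i = b i * s i :=
        fun i => by ring
      simp only [this, hb]; ring
    have h2 : ∑ i, (b i - algebraMap k A (c i)) * s i ∈ maximalIdeal A ^ 2 := by
      refine sum_mem fun i _ => ?_
      rw [pow_two]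
      refine Ideal.mul_mem_mul (hc i) ?_
      rw [hs]; exact Ideal.subset_span ⟨i, rfl⟩
    conv_rhs => rw [h1]
    rw [map_add, Ideal.Quotient.eq_zero_iff_mem.2 h2, add_zero, map_add, map_sum]
    congr 1
    · rw [Algebra.smul_def, mul_one]; rfl
    · refine Finset.sum_congr rfl fun i _ => ?_
      rw [Algebra.smul_def, map_mul]; rfl
  refine ⟨Module.Finite.of_surjective f hf, ?_⟩
  have := LinearMap.finrank_le_finrank_of_surjective hf
  simpa [add_comm] using this

/-- If `A` modulo `I + M ^ 2` has dimension at least `n`, then `I` is a line modulo `M ^ 2`. -/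
theorem exists_line
    (hres : ∀ a : A, ∃ c : k, a - algebraMap k A c ∈ maximalIdeal A)
    (n : ℕ) (s : Fin n → A) (hs : maximalIdeal A = Ideal.span (Set.range s))
    (I : Ideal A)
    (hrank : n ≤ Module.finrank k (A ⧸ (I ⊔ maximalIdeal A ^ 2))) :
    ∃ w ∈ I, ∀ x ∈ I, ∃ c : k, x - c • w ∈ maximalIdeal A ^ 2 := by
  obtain ⟨hfin, hle⟩ := finrank_quot_sq_le hres n s hs
  have hJ : maximalIdeal A ^ 2 ≤ I ⊔ maximalIdeal A ^ 2 := le_sup_right
  let f : (A ⧸ maximalIdeal A ^ 2) →ₗ[k] (A ⧸ (I ⊔ maximalIdeal A ^ 2)) :=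
    (Ideal.Quotient.factorₐ k hJ).toLinearMap
  have hfmk : ∀ a, f (Ideal.Quotient.mk _ a) = Ideal.Quotient.mk _ a := fun a => rfl
  have hf : Function.Surjective f := Ideal.Quotient.factor_surjective hJ
  have h1 := LinearMap.finrank_range_add_finrank_ker f
  rw [LinearMap.range_eq_top.2 hf, finrank_top] at h1
  have h2 : Module.finrank k (LinearMap.ker f) ≤ 1 := by omega
  obtain ⟨⟨v, hv⟩, hvspan⟩ := finrank_le_one_iff.1 h2
  obtain ⟨w₀, rfl⟩ := Ideal.Quotient.mk_surjective v
  rw [LinearMap.mem_ker, hfmk, Ideal.Quotient.eq_zero_iff_mem] at hv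
  obtain ⟨w, hw, q, hq, hwq⟩ := Submodule.mem_sup.1 hv
  refine ⟨w, hw, fun x hx => ?_⟩
  have hxker : Ideal.Quotient.mk (maximalIdeal A ^ 2) x ∈ LinearMap.ker f := by
    rw [LinearMap.mem_ker, hfmk, Ideal.Quotient.eq_zero_iff_mem]; exact Ideal.mem_sup_left hx
  obtain ⟨c, hc⟩ := hvspan ⟨_, hxker⟩
  refine ⟨c, ?_⟩
  have hc' : c • Ideal.Quotient.mk (maximalIdeal A ^ 2) w₀ = Ideal.Quotient.mk _ x :=
    congrArg Subtype.val hc
  have h3 : Ideal.Quotient.mk (maximalIdeal A ^ 2) (c • w₀) = Ideal.Quotient.mk _ x := by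
    rw [← hc', Algebra.smul_def, Algebra.smul_def, map_mul]; rfl
  have h4 : c • w₀ - x ∈ maximalIdeal A ^ 2 := by
    rw [← Ideal.Quotient.eq_zero_iff_mem, map_sub, h3, sub_self]
  have h5 : x - c • w = - (c • w₀ - x) + c • q := by
    rw [← hwq, smul_add]; ring
  rw [h5]
  exact add_mem (neg_mem h4) (Submodule.smul_of_tower_mem _ c hq)

end Dim

section Avg

variable {k A : Type*} [Field k] [CommRing A] [Algebra k A]

/-- The twisted average `N⁻¹ Σ_{j<N} ζ^{-j} g^j x`. -/
noncomputable def avg (g : A →ₐ[k] A) (N : ℕ) (ζ : k) (x : A) : A :=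
  (N : k)⁻¹ • ∑ j ∈ Finset.range N, (ζ⁻¹) ^ j • (g^[j] x)

theorem map_avg (g : A →ₐ[k] A) (N : ℕ) (hN : N ≠ 0) (ζ : k) (hζ : ζ ^ N = 1)
    (hgN : ∀ a, g^[N] a = a) (x : A) : g (avg g N ζ x) = ζ • avg g N ζ x := by
  have hζ0 : ζ ≠ 0 := by
    rintro rfl
    rw [zero_pow hN] at hζ
    exact zero_ne_one hζ
  unfold avg
  rw [map_smul, map_sum, smul_comm ζ]
  congr 1
  rw [Finset.smul_sum]
  let f : ℕ → A := fun j => ζ • (ζ⁻¹) ^ j • (g^[j] x)
  have h1 : ∀ j, g ((ζ⁻¹) ^ j • (g^[j] x)) = f (j + 1) := by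
    intro j
    simp only [f]
    have e : ζ * ζ⁻¹ ^ (j + 1) = ζ⁻¹ ^ j := by
      rw [pow_succ, mul_comm, mul_assoc, inv_mul_cancel₀ hζ0, mul_one]
    rw [map_smul, Function.iterate_succ_apply', smul_smul, e]
  have h2 : f N = f 0 := by
    simp only [f]
    rw [hgN, inv_pow, hζ, inv_one, one_smul, pow_zero, one_smul, Function.iterate_zero_apply]
  have h3 : ∑ j ∈ Finset.range N, f (j + 1) = ∑ j ∈ Finset.range N, f j := by
    have e1 := Finset.sum_range_succ' f N
    have e2 := Finset.sum_range_succ f N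
    rw [e2, h2] at e1
    exact (add_right_cancel e1).symm
  rw [Finset.sum_congr rfl (fun j _ => h1 j), h3]

theorem iterate_mem (g : A →ₐ[k] A) (J : Ideal A) (hJ : ∀ a ∈ J, g a ∈ J) {x : A} (hx : x ∈ J)
    (j : ℕ) : g^[j] x ∈ J := by
  induction j with
  | zero => simpa using hx
  | succ j ih => rw [Function.iterate_succ_apply']; exact hJ _ ih

theorem avg_mem (g : A →ₐ[k] A) (N : ℕ) (ζ : k) (J : Ideal A) (hJ : ∀ a ∈ J, g a ∈ J) {x : A}
    (hx : x ∈ J) : avg g N ζ x ∈ J := by
  unfold avg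
  refine Submodule.smul_of_tower_mem _ _ (sum_mem fun j _ => Submodule.smul_of_tower_mem _ _ ?_)
  exact iterate_mem g J hJ hx j

theorem avg_sub_mem (g : A →ₐ[k] A) (N : ℕ) (hN : (N : k) ≠ 0) (ζ : k) (hζ0 : ζ ≠ 0) (J : Ideal A)
    (x : A) (h : ∀ j, g^[j] x - ζ ^ j • x ∈ J) : avg g N ζ x - x ∈ J := by
  have h1 : x = (N : k)⁻¹ • ∑ _j ∈ Finset.range N, x := by
    rw [Finset.sum_const, Finset.card_range, ← Nat.cast_smul_eq_nsmul k, smul_smul,
      inv_mul_cancel₀ hN, one_smul]
  have h2 : avg g N ζ x - (N : k)⁻¹ • ∑ _j ∈ Finset.range N, x =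
      (N : k)⁻¹ • ∑ j ∈ Finset.range N, (ζ⁻¹) ^ j • (g^[j] x - ζ ^ j • x) := by
    unfold avg
    rw [← smul_sub, ← Finset.sum_sub_distrib]
    congr 1
    refine Finset.sum_congr rfl fun j _ => ?_
    rw [smul_sub, smul_smul, inv_pow, inv_mul_cancel₀ (pow_ne_zero _ hζ0), one_smul]
  rw [← h1] at h2
  rw [h2]
  exact Submodule.smul_of_tower_mem _ _ (sum_mem fun j _ => Submodule.smul_of_tower_mem _ _ (h j))

end Avg

section Main

variable {k A : Type*} [Field k] [CommRing A] [Algebra k A] [IsLocalRing A] [IsNoetherianRing A]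

/-- The structure of a pseudo-reflection: see the module docstring. -/
theorem exists_dvd_of_pseudoreflection
    (hres : ∀ a : A, ∃ c : k, a - algebraMap k A c ∈ maximalIdeal A)
    (g : A →ₐ[k] A) (hgM : ∀ a ∈ maximalIdeal A, g a ∈ maximalIdeal A)
    (N : ℕ) (hN : (N : k) ≠ 0) (hgN : ∀ a, g^[N] a = a)
    (n : ℕ) (s : Fin n → A) (hs : maximalIdeal A = Ideal.span (Set.range s))
    (hrank : n ≤ Module.finrank k
      (A ⧸ (Ideal.span {x | ∃ a, x = g a - a} ⊔ maximalIdeal A ^ 2))) :
    ∃ z ∈ maximalIdeal A, ∀ a, z ∣ g a - a := by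
  obtain ⟨I, hI⟩ : ∃ I : Ideal A, I = Ideal.span {x | ∃ a, x = g a - a} := ⟨_, rfl⟩
  rw [← hI] at hrank
  have hN0 : N ≠ 0 := by rintro rfl; simp at hN
  obtain ⟨w, hwI, hline⟩ := exists_line hres n s hs I hrank
  have hgI : ∀ a, g a - a ∈ I := fun a => by rw [hI]; exact Ideal.subset_span ⟨a, rfl⟩
  have hIM : I ≤ maximalIdeal A := by
    rw [hI, Ideal.span_le]
    rintro x ⟨a, rfl⟩
    obtain ⟨c, hc⟩ := hres a
    have h1 : g a - a = g (a - algebraMap k A c) - (a - algebraMap k A c) := by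
      rw [map_sub, AlgHom.commutes]; ring
    rw [h1]
    exact sub_mem (hgM _ hc) hc
  have hgM2 : ∀ a ∈ maximalIdeal A ^ 2, g a ∈ maximalIdeal A ^ 2 := by
    intro a ha
    have h1 : Ideal.map g (maximalIdeal A) ≤ maximalIdeal A := by
      rw [Ideal.map_le_iff_le_comap]; exact fun a ha => hgM a ha
    have h2 := Ideal.mem_map_of_mem g ha
    rw [Ideal.map_pow] at h2
    exact Ideal.pow_right_mono h1 2 h2
  have hiter : ∀ x j, g^[j] x - x ∈ I := by
    intro x j
    induction j with
    | zero => simp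
    | succ j ih =>
      have : g^[j + 1] x - x = (g (g^[j] x) - g^[j] x) + (g^[j] x - x) := by
        rw [Function.iterate_succ_apply']; ring
      rw [this]; exact add_mem (hgI _) ih
  let F : Set A := {y | y ∈ maximalIdeal A ∧ g y = y}
  obtain ⟨z, hzM, ⟨ζ, hζ⟩, hwz⟩ : ∃ z ∈ maximalIdeal A, (∃ ζ : k, g z = ζ • z) ∧
      w - z ∈ maximalIdeal A ^ 2 := by
    by_cases hw2 : w ∈ maximalIdeal A ^ 2
    · exact ⟨0, zero_mem _, ⟨1, by simp⟩, by simpa using hw2⟩
    · obtain ⟨c, hc⟩ := hline (g w - w) (hgI w)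
      have h1 : g w - (1 + c) • w ∈ maximalIdeal A ^ 2 := by
        have : g w - (1 + c) • w = g w - w - c • w := by rw [add_smul, one_smul]; ring
        rw [this]; exact hc
      have h2 : ∀ j, g^[j] w - (1 + c) ^ j • w ∈ maximalIdeal A ^ 2 := by
        intro j
        induction j with
        | zero => simp
        | succ j ih =>
          have : g^[j + 1] w - (1 + c) ^ (j + 1) • w =
              g (g^[j] w - (1 + c) ^ j • w) + (1 + c) ^ j • (g w - (1 + c) • w) := by
            rw [Function.iterate_succ_apply', map_sub, map_smul, smul_sub, smul_smul, pow_succ]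
            ring
          rw [this]
          exact add_mem (hgM2 _ ih) (Submodule.smul_of_tower_mem _ _ h1)
      have h3 : (1 + c) ^ N = 1 := by
        by_contra hne
        apply hw2
        have h4 := h2 N
        rw [hgN] at h4
        have h5 : (1 - (1 + c) ^ N) • w ∈ maximalIdeal A ^ 2 := by rwa [sub_smul, one_smul]
        have h6 : (1 - (1 + c) ^ N) ≠ 0 := sub_ne_zero.2 (Ne.symm hne)
        have h7 := Submodule.smul_of_tower_mem (maximalIdeal A ^ 2) (1 - (1 + c) ^ N)⁻¹ h5
        rwa [smul_smul, inv_mul_cancel₀ h6, one_smul] at h7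
      have hζ0 : (1 + c) ≠ 0 := by
        intro h
        rw [h, zero_pow hN0] at h3
        exact zero_ne_one h3
      refine ⟨avg g N (1 + c) w, avg_mem g N _ _ hgM (hIM hwI),
        ⟨1 + c, map_avg g N hN0 _ h3 hgN w⟩, ?_⟩
      have := avg_sub_mem g N hN (1 + c) hζ0 (maximalIdeal A ^ 2) w h2
      rw [← neg_sub]
      exact neg_mem this
  refine ⟨z, hzM, dvd_map_sub_of_generators hres g F (fun y hy => hy.2) (fun y hy => hy.1) z ?_
    hzM ?_⟩
  · rw [hζ]
    exact ⟨algebraMap k A (ζ - 1), by rw [Algebra.smul_def, map_sub, map_one]; ring⟩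
  · apply Submodule.le_of_le_smul_of_le_jacobson_bot (I := maximalIdeal A)
      (IsNoetherian.noetherian _) (maximalIdeal_le_jacobson ⊥)
    intro x hx
    rw [Ideal.smul_eq_mul, ← pow_two]
    have hp : avg g N 1 x ∈ F :=
      ⟨avg_mem g N 1 _ hgM hx, by rw [map_avg g N hN0 1 (one_pow N) hgN, one_smul]⟩
    have hxp : x - avg g N 1 x ∈ I := by
      have := avg_sub_mem g N hN 1 one_ne_zero I x (fun j => by simpa using hiter x j)
      rw [← neg_sub]
      exact neg_mem this
    obtain ⟨c, hc⟩ := hline _ hxp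
    have hx' : x = (avg g N 1 x + c • z) + ((x - avg g N 1 x - c • w) + c • (w - z)) := by
      rw [smul_sub]; ring
    rw [hx']
    exact Submodule.add_mem_sup
      (add_mem (Ideal.subset_span (Or.inl hp))
        (Submodule.smul_of_tower_mem _ c (Ideal.subset_span (Or.inr rfl))))
      (add_mem hc (Submodule.smul_of_tower_mem _ c hwz))

end Main

end Groth.Agent.Lib.Seat73.CSTRefl
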