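import Mathlib

/-!
# The Eakin–Nagata theorem (Formanek's proof) — Seat 78

* `isNoetherian_of_annihilator_le`: a finite module whose annihilator contains that of a finite
  Noetherian module is Noetherian;
* `exists_maximal_annihilator_quotient`: Zorn step;
* `isNoetherian_of_acc_smul_top`: Formanek's theorem (module form);
* `isNoetherianRing_of_finite`: **Eakin–Nagata**: `A` Noetherian, finite over the subring `B`
  (`FaithfulSMul B A`) implies `B` Noetherian.
-/

set_option autoImplicit false
set_option linter.style.haveILetI false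
set_option linter.unusedSectionVars false

namespace Groth.Agent.Lib.Seat78.EakinNagata

variable {B : Type*} [CommRing B]

/-- (E1) A finite module whose annihilator contains the annihilator of a finite Noetherian module
is Noetherian. -/
theorem isNoetherian_of_annihilator_le {M₁ M₂ : Type*} [AddCommGroup M₁] [Module B M₁]
    [AddCommGroup M₂] [Module B M₂] [Module.Finite B M₁] [Module.Finite B M₂] [IsNoetherian B M₂]
    (h : Module.annihilator B M₂ ≤ Module.annihilator B M₁) : IsNoetherian B M₁ := by
  classical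
  obtain ⟨s₂, hs₂⟩ := (Module.Finite.fg_top : (⊤ : Submodule B M₂).FG)
  obtain ⟨s₁, hs₁⟩ := (Module.Finite.fg_top : (⊤ : Submodule B M₁).FG)
  set a := Module.annihilator B M₂ with ha
  -- `B ⧸ a` is a Noetherian `B`-module
  let ψ : B →ₗ[B] (s₂ → M₂) := LinearMap.pi fun m => LinearMap.toSpanSingleton B M₂ (m : M₂)
  have hker : LinearMap.ker ψ = a := by
    ext b
    rw [LinearMap.mem_ker, ha, Module.mem_annihilator]
    constructor
    · intro hb m
      have hm : m ∈ Submodule.span B (s₂ : Set M₂) := by rw [hs₂]; trivial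
      induction hm using Submodule.span_induction with
      | mem x hx =>
        have := congrFun hb ⟨x, hx⟩
        simpa [ψ] using this
      | zero => simp
      | add x y _ _ hx hy => rw [smul_add, hx, hy, add_zero]
      | smul c x _ hx => rw [smul_comm, hx, smul_zero]
    · intro hb
      funext m
      simpa [ψ] using hb (m : M₂)
  haveI hBa : IsNoetherian B (B ⧸ a) := by
    rw [← hker]
    exact isNoetherian_of_linearEquiv (LinearMap.quotKerEquivRange ψ).symm
  -- `M₁` is a quotient of `(B ⧸ a)^k`
  let φ : (s₁ → B) →ₗ[B] M₁ := Fintype.linearCombination B (fun m : s₁ => (m : M₁))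
  have hφ : Function.Surjective φ := by
    rw [← LinearMap.range_eq_top]
    show LinearMap.range (Fintype.linearCombination B (fun m : s₁ => (m : M₁))) = ⊤
    rw [Fintype.range_linearCombination]
    simpa using hs₁
  let P : Submodule B (s₁ → B) := Submodule.pi Set.univ fun _ => a
  have hP : P ≤ LinearMap.ker φ := by
    intro x hx
    rw [LinearMap.mem_ker]
    show Fintype.linearCombination B (fun m : s₁ => (m : M₁)) x = 0
    rw [Fintype.linearCombination_apply]
    refine Finset.sum_eq_zero fun m _ => ?_
    have : x m ∈ a := hx m (Set.mem_univ m)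
    exact Module.mem_annihilator.mp (h this) _
  haveI : IsNoetherian B ((s₁ → B) ⧸ P) :=
    isNoetherian_of_linearEquiv (Submodule.quotientPi (fun _ : s₁ => a)).symm
  exact isNoetherian_of_surjective (P.liftQ φ hP)
    (by
      rw [LinearMap.range_eq_top]
      intro m
      obtain ⟨x, rfl⟩ := hφ m
      exact ⟨Submodule.Quotient.mk x, by simp⟩)


theorem mem_annihilator_quotient_iff {M : Type*} [AddCommGroup M] [Module B M] (N : Submodule B M)
    (b : B) : b ∈ Module.annihilator B (M ⧸ N) ↔ ∀ m : M, b • m ∈ N := by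
  rw [Module.mem_annihilator]
  constructor
  · intro h m
    have := h (Submodule.Quotient.mk m)
    rwa [← Submodule.Quotient.mk_smul, Submodule.Quotient.mk_eq_zero] at this
  · intro h x
    obtain ⟨m, rfl⟩ := Submodule.Quotient.mk_surjective N x
    rw [← Submodule.Quotient.mk_smul, Submodule.Quotient.mk_eq_zero]
    exact h m

/-- (E2) Zorn: a submodule maximal among those `N` with `Ann(M/N) ≤ Ann(M)`. -/
theorem exists_maximal_annihilator_quotient (M : Type*) [AddCommGroup M] [Module B M]
    [Module.Finite B M] :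
    ∃ N₀ : Submodule B M,
      Maximal (fun N : Submodule B M => Module.annihilator B (M ⧸ N) ≤ Module.annihilator B M) N₀ := by
  classical
  obtain ⟨gen, hgen⟩ := (Module.Finite.fg_top : (⊤ : Submodule B M).FG)
  refine zorn_le₀ {N : Submodule B M | Module.annihilator B (M ⧸ N) ≤ Module.annihilator B M} ?_
  intro c hcs hc
  rcases c.eq_empty_or_nonempty with rfl | hne
  · refine ⟨⊥, ?_, fun z hz => absurd hz (Set.notMem_empty z)⟩
    intro b hb
    rw [mem_annihilator_quotient_iff] at hb
    rw [Module.mem_annihilator]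
    intro m
    simpa using hb m
  · refine ⟨sSup c, ?_, fun z hz => le_sSup hz⟩
    intro b hb
    rw [mem_annihilator_quotient_iff] at hb
    have hdir : DirectedOn (· ≤ ·) c := hc.directedOn
    -- a single member of the chain contains all `b • m`, `m` a generator
    have hfin : ∀ t : Finset M, ∃ N ∈ c, ∀ m ∈ t, b • m ∈ N := by
      intro t
      induction t using Finset.induction_on with
      | empty =>
        obtain ⟨N, hN⟩ := hne
        exact ⟨N, hN, fun m hm => absurd hm (Finset.notMem_empty m)⟩
      | insert x t _ ih =>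
        obtain ⟨N, hN, hNt⟩ := ih
        obtain ⟨N', hN', hx⟩ := (Submodule.mem_sSup_of_directed hne hdir).mp (hb x)
        obtain ⟨N'', hN'', h1, h2⟩ := hdir N hN N' hN'
        refine ⟨N'', hN'', fun m hm => ?_⟩
        rcases Finset.mem_insert.mp hm with rfl | hm
        · exact h2 hx
        · exact h1 (hNt m hm)
    obtain ⟨N, hN, hNgen⟩ := hfin gen
    have hall : ∀ m : M, b • m ∈ N := by
      intro m
      have hm : m ∈ Submodule.span B (gen : Set M) := by rw [hgen]; trivial
      induction hm using Submodule.span_induction with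
      | mem x hx => exact hNgen x hx
      | zero => simp
      | add x y _ _ hx hy => rw [smul_add]; exact N.add_mem hx hy
      | smul r x _ hx => rw [smul_comm]; exact N.smul_mem r hx
    exact hcs hN ((mem_annihilator_quotient_iff N b).mpr hall)


/-- (E3) Formanek's theorem, module form: a finite module with ACC on the submodules `I • ⊤` is
Noetherian. -/
theorem isNoetherian_of_acc_smul_top (M : Type*) [AddCommGroup M] [Module B M] [Module.Finite B M]
    (hacc : ∀ S : Set (Ideal B), S.Nonempty →
      ∃ I ∈ S, ∀ J ∈ S, I • (⊤ : Submodule B M) ≤ J • ⊤ → J • (⊤ : Submodule B M) ≤ I • ⊤) :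
    IsNoetherian B M := by
  classical
  by_contra hM
  set S₀ : Set (Ideal B) := {I | ¬ IsNoetherian B (M ⧸ I • (⊤ : Submodule B M))} with hS₀
  have hbot : (⊥ : Ideal B) ∈ S₀ := by
    intro h
    apply hM
    have e : (M ⧸ (⊥ : Ideal B) • (⊤ : Submodule B M)) ≃ₗ[B] M :=
      Submodule.quotEquivOfEqBot _ (Submodule.bot_smul _)
    exact isNoetherian_of_linearEquiv e
  obtain ⟨I, hI, hmax⟩ := hacc S₀ ⟨⊥, hbot⟩
  set T₀ : Submodule B M := I • (⊤ : Submodule B M) with hT₀
  -- property (P)
  have hP : ∀ J : Ideal B, J • (⊤ : Submodule B (M ⧸ T₀)) ≠ ⊥ →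
      IsNoetherian B ((M ⧸ T₀) ⧸ J • (⊤ : Submodule B (M ⧸ T₀))) := by
    intro J hJ
    by_contra hJN
    have hK : I ⊔ J ∈ S₀ := by
      intro hKN
      apply hJN
      let f : M →ₗ[B] (M ⧸ T₀) ⧸ J • (⊤ : Submodule B (M ⧸ T₀)) :=
        (J • (⊤ : Submodule B (M ⧸ T₀))).mkQ ∘ₗ T₀.mkQ
      have hf : (I ⊔ J) • (⊤ : Submodule B M) ≤ LinearMap.ker f := by
        rw [Submodule.sup_smul]
        refine sup_le ?_ ?_
        · intro x hx
          rw [LinearMap.mem_ker]
          show (J • (⊤ : Submodule B (M ⧸ T₀))).mkQ (T₀.mkQ x) = 0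
          have hx0 : T₀.mkQ x = 0 := by
            rw [Submodule.mkQ_apply]
            exact (Submodule.Quotient.mk_eq_zero T₀).mpr hx
          rw [hx0, map_zero]
        · rw [Submodule.smul_le]
          intro j hj m _
          rw [LinearMap.mem_ker, map_smul]
          show j • (J • (⊤ : Submodule B (M ⧸ T₀))).mkQ (T₀.mkQ m) = 0
          rw [← map_smul, Submodule.mkQ_apply, Submodule.Quotient.mk_eq_zero]
          exact Submodule.smul_mem_smul hj Submodule.mem_top
      refine isNoetherian_of_surjective (Submodule.liftQ _ f hf) ?_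
      rw [LinearMap.range_eq_top]
      intro y
      obtain ⟨y', rfl⟩ := Submodule.Quotient.mk_surjective _ y
      obtain ⟨m, rfl⟩ := Submodule.Quotient.mk_surjective _ y'
      exact ⟨Submodule.Quotient.mk m, rfl⟩
    have h1 := hmax (I ⊔ J) hK (Submodule.smul_mono_left le_sup_left)
    apply hJ
    rw [eq_bot_iff, Submodule.smul_le]
    intro j hj x _
    obtain ⟨m, rfl⟩ := Submodule.Quotient.mk_surjective _ x
    rw [← Submodule.Quotient.mk_smul, Submodule.mem_bot, Submodule.Quotient.mk_eq_zero]
    exact h1 (Submodule.smul_mem_smul (Ideal.mem_sup_right hj) Submodule.mem_top)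
  -- Zorn
  obtain ⟨N₀, hN₀, hN₀max⟩ := exists_maximal_annihilator_quotient (B := B) (M ⧸ T₀)
  -- `M₂ = M₁ ⧸ N₀` is Noetherian
  haveI hM₂ : IsNoetherian B ((M ⧸ T₀) ⧸ N₀) := by
    rw [isNoetherian_def]
    intro N
    by_cases hN : N = ⊥
    · rw [hN]; exact Submodule.fg_bot
    set N' : Submodule B (M ⧸ T₀) := N.comap N₀.mkQ with hN'
    have hN₀N' : N₀ ≤ N' := by
      intro x hx
      rw [hN', Submodule.mem_comap, Submodule.mkQ_apply, (Submodule.Quotient.mk_eq_zero N₀).mpr hx]
      exact N.zero_mem
    have hmap : N'.map N₀.mkQ = N :=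
      Submodule.map_comap_eq_of_surjective (Submodule.mkQ_surjective N₀) N
    have hnot : ¬ Module.annihilator B ((M ⧸ T₀) ⧸ N') ≤ Module.annihilator B (M ⧸ T₀) := by
      intro hle
      have := hN₀max hle hN₀N'
      apply hN
      rw [← hmap, eq_bot_iff]
      calc N'.map N₀.mkQ ≤ N₀.map N₀.mkQ := Submodule.map_mono this
        _ = ⊥ := by
            rw [eq_bot_iff]
            rintro _ ⟨y, hy, rfl⟩
            rw [Submodule.mem_bot, Submodule.mkQ_apply]
            exact (Submodule.Quotient.mk_eq_zero N₀).mpr hy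
    obtain ⟨b, hb1, hb2⟩ := Set.not_subset.mp hnot
    rw [SetLike.mem_coe, mem_annihilator_quotient_iff] at hb1
    have hb2' : ∃ m : M ⧸ T₀, b • m ≠ 0 := by
      by_contra hcon
      push Not at hcon
      exact hb2 (Module.mem_annihilator.mpr hcon)
    obtain ⟨m₀, hm₀⟩ := hb2'
    set T : Submodule B (M ⧸ T₀) := Ideal.span {b} • (⊤ : Submodule B (M ⧸ T₀)) with hT
    have hTne : T ≠ ⊥ := by
      intro h
      apply hm₀
      have : b • m₀ ∈ T := Submodule.smul_mem_smul (Ideal.mem_span_singleton_self b) Submodule.mem_top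
      rwa [h, Submodule.mem_bot] at this
    haveI := hP (Ideal.span {b}) hTne
    have hTN' : T ≤ N' := by
      rw [hT, Submodule.smul_le]
      intro r hr m _
      obtain ⟨c, rfl⟩ := Ideal.mem_span_singleton'.mp hr
      rw [mul_smul]
      exact N'.smul_mem c (hb1 m)
    have hTfg : T.FG := by
      have : T = (⊤ : Submodule B (M ⧸ T₀)).map (DistribSMul.toLinearMap B (M ⧸ T₀) b) := by
        rw [hT, Submodule.ideal_span_singleton_smul]
        rfl
      rw [this]
      exact Submodule.FG.map _ Module.Finite.fg_top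
    have hN'fg : N'.FG := by
      refine Submodule.fg_of_fg_map_of_fg_inf_ker T.mkQ (IsNoetherian.noetherian _) ?_
      rw [Submodule.ker_mkQ, inf_eq_right.mpr hTN']
      exact hTfg
    rw [← hmap]
    exact Submodule.FG.map _ hN'fg
  exact hI (isNoetherian_of_annihilator_le (M₁ := M ⧸ T₀) (M₂ := (M ⧸ T₀) ⧸ N₀) hN₀)

/-- **Eakin–Nagata**: if a Noetherian ring `A` is finite over a subring `B`, then `B` is
Noetherian. -/
theorem isNoetherianRing_of_finite (A : Type*) [CommRing A] [Algebra B A] [FaithfulSMul B A]
    [Module.Finite B A] [IsNoetherianRing A] : IsNoetherianRing B := by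
  haveI : IsNoetherian B A := by
    apply isNoetherian_of_acc_smul_top
    intro S hS
    have hne : ((Ideal.map (algebraMap B A)) '' S).Nonempty := hS.image _
    obtain ⟨_, ⟨I, hIS, rfl⟩, hmax⟩ :=
      (set_has_maximal_iff_noetherian (R := A) (M := A)).mpr inferInstance _ hne
    refine ⟨I, hIS, fun J hJ hle => ?_⟩
    rw [Ideal.smul_top_eq_map, Ideal.smul_top_eq_map] at hle ⊢
    have h1 : I.map (algebraMap B A) ≤ J.map (algebraMap B A) := fun x hx => hle hx
    have h2 := hmax _ ⟨J, hJ, rfl⟩
    have h3 : J.map (algebraMap B A) = I.map (algebraMap B A) := by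
      by_contra hne'
      exact h2 (lt_of_le_of_ne h1 (Ne.symm hne'))
    rw [h3]
  have hann : Module.annihilator B A ≤ Module.annihilator B B := by
    intro b hb
    have h1 : b • (1 : A) = 0 := Module.mem_annihilator.mp hb 1
    have h2 : algebraMap B A b = 0 := by rw [Algebra.algebraMap_eq_smul_one]; exact h1
    have h3 : b = 0 := FaithfulSMul.algebraMap_injective B A (by rw [h2, map_zero])
    rw [h3]
    exact Submodule.zero_mem _
  exact isNoetherian_of_annihilator_le (M₁ := B) (M₂ := A) hann


end Groth.Agent.Lib.Seat78.EakinNagata
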