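import Groth.Agent.Lib.Seat73CST
import Groth.Agent.Lib.Seat73CSTRefl
import Groth.Agent.Lib.Helper28RegLoc
import Groth.Agent.Lib.Seat78EakinNagata

/-!
# Chevalley–Shephard–Todd, sufficiency half (assembly)

`flat_and_isRegularLocalRing`: let `A` be a regular local `k`-algebra with residue field `k`, whose maximal ideal is
generated by `n` elements, and `G` a finite group of order invertible in `k` acting by `k`-algebra automorphisms with
`A` finite over `A^G`.  If `G` is generated by the `g` for which `A` modulo `M ^ 2` and the `g a - a` has dimension at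
least `n`, then `A` is flat over `A^G` and `A^G` is regular.
-/

universe u

open IsLocalRing

namespace Groth.Agent.Lib.Seat73.CSTMain

variable {k A : Type u} [Field k] [CommRing A] [Algebra k A]
variable {G : Type*} [Group G] [MulSemiringAction G A] [SMulCommClass G k A]

instance smulCommClass_subalgebra : SMulCommClass G (FixedPoints.subalgebra k A G) A :=
  ⟨fun g r a => by
    show g • ((r : A) * a) = (r : A) * g • a
    rw [smul_mul', r.2 g]⟩

theorem isUnit_of_isUnit_coe (s : FixedPoints.subalgebra k A G) (hs : IsUnit (s : A)) : IsUnit s := by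
  obtain ⟨e, he⟩ := hs.exists_right_inv
  have heinv : ∀ g : G, g • e = e := by
    intro g
    have h1 : g • ((s : A) * e) = 1 := by rw [he, smul_one]
    rw [smul_mul', s.2 g] at h1
    calc g • e = ((s : A) * e) * g • e := by rw [he, one_mul]
      _ = e * ((s : A) * g • e) := by ring
      _ = e := by rw [h1, mul_one]
  exact IsUnit.of_mul_eq_one (⟨e, heinv⟩ : FixedPoints.subalgebra k A G) (Subtype.ext he)

theorem isLocalRing_subalgebra [IsLocalRing A] : IsLocalRing (FixedPoints.subalgebra k A G) := by
  refine IsLocalRing.of_nonunits_add ?_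
  intro a b ha hb
  have ha' : (a : A) ∈ nonunits A := fun h => ha (isUnit_of_isUnit_coe a h)
  have hb' : (b : A) ∈ nonunits A := fun h => hb (isUnit_of_isUnit_coe b h)
  intro hab
  have : IsUnit ((a + b : FixedPoints.subalgebra k A G) : A) :=
    hab.map (FixedPoints.subalgebra k A G).val
  exact IsLocalRing.nonunits_add ha' hb' this

theorem isLocalHom_subalgebra : IsLocalHom (algebraMap (FixedPoints.subalgebra k A G) A) :=
  ⟨fun s hs => isUnit_of_isUnit_coe s hs⟩

theorem flat_and_isRegularLocalRing [IsRegularLocalRing A] [IsDomain A] [Finite G]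
    (hres : ∀ a : A, ∃ c : k, a - algebraMap k A c ∈ maximalIdeal A)
    (hG : (Nat.card G : k) ≠ 0)
    [Module.Finite (FixedPoints.subalgebra k A G) A]
    (n : ℕ) (s : Fin n → A) (hs : maximalIdeal A = Ideal.span (Set.range s))
    (hgen : Subgroup.closure {g : G | n ≤ Module.finrank k
      (A ⧸ (Ideal.span {x : A | ∃ a, x = g • a - a} ⊔ maximalIdeal A ^ 2))} = ⊤) :
    Module.Flat (FixedPoints.subalgebra k A G) A ∧
      IsRegularLocalRing (FixedPoints.subalgebra k A G) := by
  have : IsLocalRing (FixedPoints.subalgebra k A G) := isLocalRing_subalgebra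
  have : IsLocalHom (algebraMap (FixedPoints.subalgebra k A G) A) := isLocalHom_subalgebra
  have : IsNoetherianRing (FixedPoints.subalgebra k A G) :=
    Groth.Agent.Lib.Seat78.EakinNagata.isNoetherianRing_of_finite A
  have : Module.FinitePresentation (FixedPoints.subalgebra k A G) A :=
    Module.finitePresentation_of_finite _ _
  -- the reflections
  have hrefl : ∀ g ∈ {g : G | n ≤ Module.finrank k
      (A ⧸ (Ideal.span {x : A | ∃ a, x = g • a - a} ⊔ maximalIdeal A ^ 2))},
      ∃ z ∈ maximalIdeal A, ∃ Δ : A →ₗ[FixedPoints.subalgebra k A G] A,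
        ∀ a, g • a - a = z * Δ a := by
    intro g hg
    have hiter : ∀ (j : ℕ) (a : A), (⇑(MulSemiringAction.toAlgHom k A g))^[j] a = g ^ j • a := by
      intro j a
      induction j with
      | zero => simp
      | succ j ih =>
        rw [Function.iterate_succ_apply', ih, pow_succ', mul_smul]; rfl
    obtain ⟨z, hzM, hz⟩ := Groth.Agent.Lib.Seat73.CSTRefl.exists_dvd_of_pseudoreflection hres
      (MulSemiringAction.toAlgHom k A g)
      (fun a ha => Groth.Agent.Lib.Seat73.CST.smul_mem_maximalIdeal g ha)
      (Nat.card G) hG (fun a => by rw [hiter, pow_card_eq_one', one_smul]) n s hs hg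
    have hz' : ∀ a, z ∣ g • a - a := hz
    by_cases hz0 : z = 0
    · refine ⟨z, hzM, 0, fun a => ?_⟩
      have := hz' a
      rw [hz0, zero_dvd_iff] at this
      rw [this, hz0, zero_mul]
    · choose Δf hΔ using hz'
      refine ⟨z, hzM, { toFun := Δf, map_add' := ?_, map_smul' := ?_ }, hΔ⟩
      · intro a b
        apply mul_left_cancel₀ hz0
        rw [← hΔ, mul_add, ← hΔ, ← hΔ, smul_add]; ring
      · intro r a
        apply mul_left_cancel₀ hz0
        simp only [RingHom.id_apply]
        rw [← hΔ, mul_smul_comm, ← hΔ, smul_comm g r a, smul_sub]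
  have hcard : IsUnit (Nat.card G : A) := by
    have : (Nat.card G : A) = algebraMap k A (Nat.card G : k) := (map_natCast _ _).symm
    rw [this]
    exact (isUnit_iff_ne_zero.2 hG).map _
  have hinj := Groth.Agent.Lib.Seat73.CST.lTensor_injective_of_reflections
    (R := FixedPoints.subalgebra k A G) (A := A) (G := G)
    Subtype.val_injective (fun a ha => ⟨⟨a, ha⟩, rfl⟩) hcard _ hgen hrefl
    (maximalIdeal (FixedPoints.subalgebra k A G)).subtype Subtype.val_injective
  have hfree : Module.Free (FixedPoints.subalgebra k A G) A := by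
    apply Module.free_of_maximalIdeal_rTensor_injective
    exact (LinearMap.lTensor_inj_iff_rTensor_inj _ _).1 hinj
  have hflat : Module.Flat (FixedPoints.subalgebra k A G) A := inferInstance
  exact ⟨hflat, Groth.Agent.Lib.Helper28.isRegularLocalRing_of_flat_of_isLocalHom _ A⟩

end Groth.Agent.Lib.Seat73.CSTMain
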