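import Mathlib

/-!
If an `R`-algebra `A` is the coproduct of subalgebras `B_1, …, B_n`, then
`A ≃ B_{i₀} ⊗ (⨂_{j ≠ i₀} B_j)`, compatibly with the inclusion of `B_{i₀}`.
-/

set_option autoImplicit false

universe u v

namespace Groth.Agent.Lib.Seat73.Coprod

open TensorProduct

variable {R : Type u} {A : Type v} [CommRing R] [CommRing A] [Algebra R A] {n : ℕ}
  (B : Fin n → Subalgebra R A) (i₀ : Fin n)

/-- The tensor product of the other factors. -/
abbrev NN : Type (max u v) := PiTensorProduct R (fun j : {j : Fin n // j ≠ i₀} => ↥(B j.1))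

/-- The candidate decomposition. -/
abbrev TT : Type (max u v) := ↥(B i₀) ⊗[R] NN B i₀

/-- The product map `⨂_{j ≠ i₀} B_j → A`. -/
noncomputable def liftN : NN B i₀ →ₐ[R] A :=
  PiTensorProduct.liftAlgHom
    ((MultilinearMap.mkPiAlgebra R {j : Fin n // j ≠ i₀} A).compLinearMap
      (fun j => (B j.1).val.toLinearMap))
    (by simp)
    (by
      intro x y
      simp only [MultilinearMap.compLinearMap_apply, MultilinearMap.mkPiAlgebra_apply,
        AlgHom.toLinearMap_apply, Pi.mul_apply, map_mul]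
      exact Finset.prod_mul_distrib)

theorem liftN_single (j : {j : Fin n // j ≠ i₀}) (b : ↥(B j.1)) :
    liftN B i₀ (PiTensorProduct.singleAlgHom (R := R) (A := fun j : {j : Fin n // j ≠ i₀} => ↥(B j.1)) j b)
      = (b : A) := by
  classical
  unfold liftN
  rw [PiTensorProduct.singleAlgHom_apply, PiTensorProduct.liftAlgHom_apply,
    PiTensorProduct.lift.tprod]
  simp only [MultilinearMap.compLinearMap_apply, MultilinearMap.mkPiAlgebra_apply,
    AlgHom.toLinearMap_apply]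
  rw [Finset.prod_eq_single j]
  · simp
  · intro j' _ hj'
    simp [MonoidHom.mulSingle_apply, Pi.mulSingle_eq_of_ne hj']
  · intro h
    exact absurd (Finset.mem_univ j) h

/-- The map `B_{i₀} ⊗ N → A`. -/
noncomputable def chi : TT B i₀ →ₐ[R] A :=
  Algebra.TensorProduct.productMap (B i₀).val (liftN B i₀)

/-- The family of maps `B_j → B_{i₀} ⊗ N`. -/
noncomputable def phi (j : Fin n) : ↥(B j) →ₐ[R] TT B i₀ :=
  if h : j = i₀ then
    (Algebra.TensorProduct.includeLeft : ↥(B i₀) →ₐ[R] TT B i₀).comp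
      (Subalgebra.inclusion (le_of_eq (congrArg B h)))
  else
    (Algebra.TensorProduct.includeRight : NN B i₀ →ₐ[R] TT B i₀).comp
      (PiTensorProduct.singleAlgHom (R := R) (A := fun j : {j : Fin n // j ≠ i₀} => ↥(B j.1)) ⟨j, h⟩)

theorem chi_phi (j : Fin n) (x : ↥(B j)) : chi B i₀ (phi B i₀ j x) = (x : A) := by
  unfold phi chi
  by_cases h : j = i₀
  · rw [dif_pos h, AlgHom.comp_apply, Algebra.TensorProduct.includeLeft_apply,
      Algebra.TensorProduct.productMap_left_apply]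
    rfl
  · rw [dif_neg h, AlgHom.comp_apply, Algebra.TensorProduct.includeRight_apply,
      Algebra.TensorProduct.productMap_right_apply]
    exact liftN_single B i₀ ⟨j, h⟩ x

theorem phi_self (x : ↥(B i₀)) : phi B i₀ i₀ x = x ⊗ₜ[R] (1 : NN B i₀) := by
  unfold phi
  rw [dif_pos rfl, AlgHom.comp_apply, Algebra.TensorProduct.includeLeft_apply]
  rfl

theorem phi_ne (j : {j : Fin n // j ≠ i₀}) (x : ↥(B j.1)) :
    phi B i₀ j.1 x = (1 : ↥(B i₀)) ⊗ₜ[R]
      (PiTensorProduct.singleAlgHom (R := R) (A := fun j : {j : Fin n // j ≠ i₀} => ↥(B j.1)) j x) := by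
  unfold phi
  rw [dif_neg j.2, AlgHom.comp_apply, Algebra.TensorProduct.includeRight_apply]

variable (hcoprod : ∀ (C : Type (max u v)) [CommRing C] [Algebra R C]
    (φ : ∀ i : Fin n, ↥(B i) →ₐ[R] C),
    ∃! ψ : A →ₐ[R] C, ∀ i (x : ↥(B i)), ψ x = φ i x)

include hcoprod in
/-- The decomposition `A ≃ B_{i₀} ⊗ N`. -/
theorem exists_algEquiv :
    ∃ Ψ : A ≃ₐ[R] TT B i₀, ∀ x : ↥(B i₀), Ψ (x : A) = x ⊗ₜ[R] (1 : NN B i₀) := by
  obtain ⟨ψ, hψ, -⟩ := hcoprod (TT B i₀) (phi B i₀)
  -- `χ ∘ ψ = id`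
  have h1 : (chi B i₀).comp ψ = AlgHom.id R A := by
    have hu := hcoprod (ULift.{u} A) (fun j => (ULift.algEquiv (R := R) (A := A)).symm.toAlgHom.comp (B j).val)
    have e1 : ∀ (i : Fin n) (x : ↥(B i)),
        ((ULift.algEquiv (R := R) (A := A)).symm.toAlgHom.comp ((chi B i₀).comp ψ)) x =
          ((ULift.algEquiv (R := R) (A := A)).symm.toAlgHom.comp (B i).val) x := by
      intro i x
      rw [AlgHom.comp_apply, AlgHom.comp_apply, hψ, chi_phi]
      rfl
    have e2 : ∀ (i : Fin n) (x : ↥(B i)),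
        ((ULift.algEquiv (R := R) (A := A)).symm.toAlgHom.comp (AlgHom.id R A)) x =
          ((ULift.algEquiv (R := R) (A := A)).symm.toAlgHom.comp (B i).val) x := by
      intro i x
      rfl
    have e3 := hu.unique e1 e2
    ext a
    have e4 := DFunLike.congr_fun e3 a
    exact (ULift.algEquiv (R := R) (A := A)).symm.injective e4
  -- `ψ ∘ χ = id`
  have key : ∀ (j : {j : Fin n // j ≠ i₀}) (x : ↥(B j.1)),
      ψ (chi B i₀ ((1 : ↥(B i₀)) ⊗ₜ[R] (PiTensorProduct.singleAlgHom (R := R)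
        (A := fun j : {j : Fin n // j ≠ i₀} => ↥(B j.1)) j x))) =
      (1 : ↥(B i₀)) ⊗ₜ[R] (PiTensorProduct.singleAlgHom (R := R)
        (A := fun j : {j : Fin n // j ≠ i₀} => ↥(B j.1)) j x) := by
    intro j x
    rw [← phi_ne, chi_phi, hψ]
  have h2 : ψ.comp (chi B i₀) = AlgHom.id R (TT B i₀) := by
    apply Algebra.TensorProduct.ext
    · ext x
      change ψ (chi B i₀ (x ⊗ₜ[R] (1 : NN B i₀))) = x ⊗ₜ[R] (1 : NN B i₀)
      rw [← phi_self, chi_phi, hψ]
    · apply PiTensorProduct.algHom_ext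
      intro j
      ext x
      exact key j x
  refine ⟨AlgEquiv.ofAlgHom ψ (chi B i₀) h2 h1, fun x => ?_⟩
  change ψ x = _
  rw [hψ, phi_self]

end Groth.Agent.Lib.Seat73.Coprod
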