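import Mathlib

/-!
If `M ⊗ N` is a free module over a local ring, with `M`, `N` finitely generated and `N ≠ 0`,
then `M` is free.
-/

set_option autoImplicit false

namespace Groth.Agent.Lib.Seat73.TensorFree

open TensorProduct IsLocalRing

variable {R : Type*} [CommRing R] [IsLocalRing R]

/-- A minimal surjection from a free module. -/
theorem exists_surjective (M : Type*) [AddCommGroup M] [Module R M] [Module.Finite R M] :
    ∃ f : (Fin (Module.finrank (ResidueField R) (ResidueField R ⊗[R] M)) → R) →ₗ[R] M,
      Function.Surjective f := by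
  set k := ResidueField R
  let bM : Module.Basis (Fin (Module.finrank k (k ⊗[R] M))) k (k ⊗[R] M) := Module.finBasis k _
  have hsurj : Function.Surjective (TensorProduct.mk R k M 1) :=
    TensorProduct.mk_surjective R M k Ideal.Quotient.mk_surjective
  choose m hm using fun i => hsurj (bM i)
  have hspan : Submodule.span R (Set.range m) = ⊤ :=
    IsLocalRing.span_eq_top_of_tmul_eq_basis m bM hm
  refine ⟨Fintype.linearCombination R m, ?_⟩
  rw [← LinearMap.range_eq_top, Fintype.range_linearCombination, hspan]

theorem free_of_tensor_free (M N : Type*) [AddCommGroup M] [Module R M] [AddCommGroup N]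
    [Module R N] [Module.Finite R M] [Module.Finite R N] [Nontrivial N]
    [Module.Free R (M ⊗[R] N)] : Module.Free R M := by
  obtain ⟨a, ha⟩ : ∃ a : ℕ, a = Module.finrank (ResidueField R) (ResidueField R ⊗[R] M) := ⟨_, rfl⟩
  obtain ⟨b, hb⟩ : ∃ b : ℕ, b = Module.finrank (ResidueField R) (ResidueField R ⊗[R] N) := ⟨_, rfl⟩
  obtain ⟨f, hf⟩ : ∃ f : (Fin a → R) →ₗ[R] M, Function.Surjective f := by
    rw [ha]; exact exists_surjective (R := R) M
  obtain ⟨g, hg⟩ : ∃ g : (Fin b → R) →ₗ[R] N, Function.Surjective g := by
    rw [hb]; exact exists_surjective (R := R) N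
  have hb0 : 0 < b := by
    have : Nontrivial (ResidueField R ⊗[R] N) := by
      rw [← not_subsingleton_iff_nontrivial, IsLocalRing.subsingleton_tensorProduct,
        not_subsingleton_iff_nontrivial]
      infer_instance
    rw [hb]
    exact Module.finrank_pos
  -- rank count
  have hrank : Module.finrank R (M ⊗[R] N) = a * b := by
    rw [← Module.finrank_baseChange (R := ResidueField R) (S := R) (M' := M ⊗[R] N),
      (TensorProduct.AlgebraTensorModule.distribBaseChange R (ResidueField R) M N).finrank_eq,
      Module.finrank_tensorProduct, ha, hb]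
  have hrank' : Module.finrank R ((Fin a → R) ⊗[R] (Fin b → R)) = a * b := by
    rw [Module.finrank_tensorProduct, Module.finrank_fin_fun, Module.finrank_fin_fun]
  obtain ⟨e⟩ : Nonempty (((Fin a → R) ⊗[R] (Fin b → R)) ≃ₗ[R] (M ⊗[R] N)) :=
    FiniteDimensional.nonempty_linearEquiv_of_finrank_eq (hrank'.trans hrank.symm)
  have hfg : Function.Surjective (TensorProduct.map f g) := TensorProduct.map_surjective hf hg
  have hinj : Function.Injective (TensorProduct.map f g) :=
    OrzechProperty.injective_of_surjective_of_injective e.toLinearMap _ e.injective hfg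
  -- `f` is injective
  have hfinj : Function.Injective f := by
    rw [injective_iff_map_eq_zero]
    intro x hx
    have h1 : TensorProduct.map f g (x ⊗ₜ[R] (Pi.single (⟨0, hb0⟩ : Fin b) 1 : Fin b → R)) = 0 := by
      rw [TensorProduct.map_tmul, hx, TensorProduct.zero_tmul]
    have h2 : x ⊗ₜ[R] (Pi.single (⟨0, hb0⟩ : Fin b) 1 : Fin b → R) = 0 :=
      hinj (by rw [h1, map_zero])
    have h3 := congrArg ((TensorProduct.rid R (Fin a → R)).toLinearMap ∘ₗ
      TensorProduct.map LinearMap.id (LinearMap.proj (⟨0, hb0⟩ : Fin b))) h2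
    rw [LinearMap.comp_apply, TensorProduct.map_tmul, map_zero] at h3
    simpa using h3
  exact Module.Free.of_equiv (LinearEquiv.ofBijective f ⟨hfinj, hf⟩)

end Groth.Agent.Lib.Seat73.TensorFree
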