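import Mathlib
import Groth.Agent.Lib.Seat73Coprod
import Groth.Agent.Lib.Seat73TensorFree
import Groth.Agent.Lib.Seat73RegFinFree
import Groth.Agent.Lib.Helper28RegLoc

/-!
If a regular local ring `A`, finite over a regular local ring `R`, is the coproduct of
inverse-closed `R`-subalgebras `B_i`, then each `B_i` is free over `R` and regular local.
-/

set_option autoImplicit false

universe u v

namespace Groth.Agent.Lib.Seat73.CoprodReg

open TensorProduct

variable {R : Type u} {A : Type v} [CommRing R] [CommRing A] [IsRegularLocalRing R]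
  [IsRegularLocalRing A] [Algebra R A] [Module.Finite R A] {n : ℕ}
  (B : Fin n → Subalgebra R A)

theorem main (hinj : Function.Injective (algebraMap R A))
    (hunit : ∀ i (b : ↥(B i)), IsUnit (b : A) → IsUnit b)
    (hcoprod : ∀ (C : Type (max u v)) [CommRing C] [Algebra R C]
      (φ : ∀ i : Fin n, ↥(B i) →ₐ[R] C),
      ∃! ψ : A →ₐ[R] C, ∀ i (x : ↥(B i)), ψ x = φ i x) (i : Fin n) :
    Module.Free R ↥(B i) ∧ IsRegularLocalRing ↥(B i) := by
  have _nA : IsNoetherian R A := isNoetherian_of_isNoetherianRing_of_finite R A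
  have hfin : ∀ j, Module.Finite R ↥(B j) := fun j =>
    Module.IsNoetherian.finite R ↥(Subalgebra.toSubmodule (B j))
  have hfreeA : Module.Free R A := RegFinFree.free_of_finite_injective hinj
  obtain ⟨Ψ, hΨ⟩ := Coprod.exists_algEquiv B i hcoprod
  have hfreeT : Module.Free R (Coprod.TT B i) := Module.Free.of_equiv Ψ.toLinearEquiv
  have _finN : Module.Finite R (Coprod.NN B i) := inferInstance
  have _ntN : Nontrivial (Coprod.NN B i) := by
    by_contra hN
    rw [not_nontrivial_iff_subsingleton] at hN
    have h01 : (1 : Coprod.TT B i) = 0 := by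
      rw [Algebra.TensorProduct.one_def, Subsingleton.elim (1 : Coprod.NN B i) 0,
        TensorProduct.tmul_zero]
    have : (1 : A) = 0 := by
      have := congrArg Ψ.symm h01
      rwa [map_one, map_zero] at this
    exact one_ne_zero this
  have hfreeB : Module.Free R ↥(B i) := TensorFree.free_of_tensor_free ↥(B i) (Coprod.NN B i)
  have hfreeT' : Module.Free R (Coprod.NN B i ⊗[R] ↥(B i)) :=
    Module.Free.of_equiv (TensorProduct.comm R ↥(B i) (Coprod.NN B i))
  have hfreeN : Module.Free R (Coprod.NN B i) := TensorFree.free_of_tensor_free (Coprod.NN B i) ↥(B i)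
  refine ⟨hfreeB, ?_⟩
  have _lh : IsLocalHom (algebraMap ↥(B i) A) := ⟨fun b hb => hunit i b hb⟩
  have _lB : IsLocalRing ↥(B i) := RingHom.domain_isLocalRing (algebraMap ↥(B i) A)
  have _nB : IsNoetherianRing ↥(B i) :=
    isNoetherian_of_tower R (inferInstance : IsNoetherian R ↥(B i))
  -- `A` is free over `B i`
  have hsm : ∀ (b : ↥(B i)) (t : ↥(B i) ⊗[R] Coprod.NN B i),
      (b ⊗ₜ[R] (1 : Coprod.NN B i)) * t = b • t := by
    intro b t
    have h := Algebra.smul_def b t
    rw [Algebra.TensorProduct.algebraMap_apply] at h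
    exact h.symm
  let e : A ≃ₗ[↥(B i)] (↥(B i) ⊗[R] Coprod.NN B i) :=
    { Ψ.toLinearEquiv.toAddEquiv with
      map_smul' := fun b a => by
        change Ψ ((b : A) * a) = b • Ψ a
        rw [map_mul, hΨ]
        exact hsm b (Ψ a) }
  have hfreeBA : Module.Free ↥(B i) A := Module.Free.of_equiv e.symm
  have _flat : Module.Flat ↥(B i) A := inferInstance
  exact Groth.Agent.Lib.Helper28.isRegularLocalRing_of_flat_of_isLocalHom ↥(B i) A

end Groth.Agent.Lib.Seat73.CoprodReg
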