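import Mathlib

/-!
# The representation of a group of ring automorphisms on the cotangent space of a local ring

If `G` acts on a local ring `A` by ring automorphisms inducing the identity on the residue
field, then `G` acts linearly on `m / m²` over the residue field.
-/

set_option autoImplicit false
universe u v

namespace Groth.Agent.Lib.Seat73.CotRep

open IsLocalRing

variable {A : Type u} [CommRing A] [IsLocalRing A]
  {G : Type v} [Group G] [MulSemiringAction G A]

theorem smul_mem_maximalIdeal (σ : G) {w : A} (hw : w ∈ maximalIdeal A) :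
    σ • w ∈ maximalIdeal A := by
  rw [IsLocalRing.mem_maximalIdeal, mem_nonunits_iff] at hw ⊢
  intro hu
  apply hw
  have : w = σ⁻¹ • (σ • w) := by rw [inv_smul_smul]
  rw [this]
  exact hu.map (MulSemiringAction.toRingHom G A σ⁻¹)

/-- The additive map on the cotangent space induced by `σ`. -/
noncomputable def cotMapZ (σ : G) : CotangentSpace A →ₗ[ℤ] CotangentSpace A :=
  Ideal.mapCotangent (maximalIdeal A) (maximalIdeal A)
    (MulSemiringAction.toRingHom G A σ).toIntAlgHom
    (fun _ hx => smul_mem_maximalIdeal σ hx)

theorem cotMapZ_toCotangent (σ : G) (x : maximalIdeal A) :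
    cotMapZ σ ((maximalIdeal A).toCotangent x) =
      (maximalIdeal A).toCotangent ⟨σ • (x : A), smul_mem_maximalIdeal σ x.2⟩ := rfl

theorem cotMapZ_smul (hres : ∀ (σ : G) (a : A), σ • a - a ∈ maximalIdeal A)
    (σ : G) (a : A) (x : CotangentSpace A) : cotMapZ σ (a • x) = a • cotMapZ σ x := by
  obtain ⟨y, rfl⟩ := (maximalIdeal A).toCotangent_surjective x
  rw [← map_smul, cotMapZ_toCotangent, cotMapZ_toCotangent]
  have h1 : (⟨σ • ((a • y : maximalIdeal A) : A), smul_mem_maximalIdeal σ (a • y).2⟩ :
      maximalIdeal A) = (σ • a) • ⟨σ • (y : A), smul_mem_maximalIdeal σ y.2⟩ := by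
    apply Subtype.ext
    simp [smul_mul']
  rw [h1, map_smul]
  have h2 : (σ • a - a) • (maximalIdeal A).toCotangent
      ⟨σ • (y : A), smul_mem_maximalIdeal σ y.2⟩ = 0 :=
    Ideal.Cotangent.smul_eq_zero_of_mem (hres σ a) _
  rw [sub_smul, sub_eq_zero] at h2
  exact h2

/-- The `k`-linear map on the cotangent space induced by `σ`. -/
noncomputable def cotMap (hres : ∀ (σ : G) (a : A), σ • a - a ∈ maximalIdeal A) (σ : G) :
    CotangentSpace A →ₗ[ResidueField A] CotangentSpace A where
  toFun := cotMapZ σ
  map_add' := map_add _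
  map_smul' := by
    intro c x
    obtain ⟨a, rfl⟩ := IsLocalRing.residue_surjective c
    simp only [RingHom.id_apply]
    have h : ∀ z : CotangentSpace A, (residue A a) • z = a • z := fun z =>
      (IsScalarTower.algebraMap_smul (ResidueField A) a z)
    rw [h, h]
    exact cotMapZ_smul hres σ a x

theorem cotMap_toCotangent (hres : ∀ (σ : G) (a : A), σ • a - a ∈ maximalIdeal A)
    (σ : G) (x : maximalIdeal A) :
    cotMap hres σ ((maximalIdeal A).toCotangent x) =
      (maximalIdeal A).toCotangent ⟨σ • (x : A), smul_mem_maximalIdeal σ x.2⟩ := rfl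

/-- The representation of `G` on the cotangent space. -/
noncomputable def cotRep (hres : ∀ (σ : G) (a : A), σ • a - a ∈ maximalIdeal A) :
    Representation (ResidueField A) G (CotangentSpace A) where
  toFun := cotMap hres
  map_one' := by
    ext x
    obtain ⟨y, rfl⟩ := (maximalIdeal A).toCotangent_surjective x
    rw [cotMap_toCotangent]
    simp
  map_mul' := by
    intro σ τ
    ext x
    obtain ⟨y, rfl⟩ := (maximalIdeal A).toCotangent_surjective x
    rw [Module.End.mul_apply, cotMap_toCotangent, cotMap_toCotangent, cotMap_toCotangent]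
    congr 1
    apply Subtype.ext
    simp [mul_smul]

theorem cotRep_toCotangent (hres : ∀ (σ : G) (a : A), σ • a - a ∈ maximalIdeal A)
    (σ : G) (x : maximalIdeal A) :
    cotRep hres σ ((maximalIdeal A).toCotangent x) =
      (maximalIdeal A).toCotangent ⟨σ • (x : A), smul_mem_maximalIdeal σ x.2⟩ := rfl

end Groth.Agent.Lib.Seat73.CotRep
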