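import Mathlib

/-!
# The Chase–Harrison–Rosenberg identity for a finite group action with trivial inertia

Let a finite group `G` act on a commutative ring `A` and let `P` be a prime of `A` such that no
`σ ≠ 1` lies in the inertia group of any conjugate of `P`.  Then there are a `G`-invariant
`f ∉ P` and finitely many pairs `(x_i, y_i)` with `∑ x_i σ(y_i) = f δ_{σ,1}` for all `σ ∈ G`.
-/

set_option autoImplicit false
universe u w
open scoped TensorProduct

namespace Groth.Agent.Lib.Seat73.GalId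

variable {A : Type u} [CommRing A] {G : Type w} [Group G] [MulSemiringAction G A]

/-- the ring hom `A ⊗[ℤ] A → A`, `x ⊗ y ↦ x * σ • y` -/
noncomputable def mu (σ : G) : A ⊗[ℤ] A →+* A :=
  (Algebra.TensorProduct.productMap (AlgHom.id ℤ A)
    ((MulSemiringAction.toRingHom G A σ).toIntAlgHom)).toRingHom

theorem mu_tmul (σ : G) (x y : A) : mu σ (x ⊗ₜ[ℤ] y) = x * σ • y := by
  simp [mu]

theorem exists_list (t : A ⊗[ℤ] A) :
    ∃ l : List (A × A), ∀ σ : G, mu σ t = (l.map fun p => p.1 * σ • p.2).sum := by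
  induction t using TensorProduct.induction_on with
  | zero => exact ⟨[], fun σ => by simp⟩
  | tmul x y => exact ⟨[(x, y)], fun σ => by simp [mu_tmul]⟩
  | add t₁ t₂ h₁ h₂ =>
    obtain ⟨l₁, h₁⟩ := h₁
    obtain ⟨l₂, h₂⟩ := h₂
    exact ⟨l₁ ++ l₂, fun σ => by rw [map_add, h₁, h₂, List.map_append, List.sum_append]⟩

/-- the ideal generated by the `σ a - a` -/
noncomputable def diffIdeal (σ : G) : Ideal A where
  carrier := Set.range fun t : A ⊗[ℤ] A => mu σ t - mu (1 : G) t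
  add_mem' := by
    rintro _ _ ⟨t₁, rfl⟩ ⟨t₂, rfl⟩
    exact ⟨t₁ + t₂, by simp only [map_add]; ring⟩
  zero_mem' := ⟨0, by simp⟩
  smul_mem' := by
    rintro c _ ⟨t, rfl⟩
    refine ⟨(c ⊗ₜ[ℤ] (1 : A)) * t, ?_⟩
    simp only [map_mul, mu_tmul, smul_one, mul_one, smul_eq_mul]
    ring

theorem mem_diffIdeal (σ : G) (a : A) : σ • a - a ∈ diffIdeal (A := A) σ :=
  ⟨(1 : A) ⊗ₜ[ℤ] a, by simp [mu_tmul]⟩

variable [Fintype G]

theorem smul_prod_smul (g : G) (a : A) : g • ∏ τ : G, τ • a = ∏ τ : G, τ • a := by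
  have h1 : g • ∏ τ : G, τ • a = ∏ τ : G, g • τ • a :=
    map_prod (MulSemiringAction.toRingHom G A g) _ _
  rw [h1]
  exact Fintype.prod_equiv (Equiv.mulLeft g) _ _ (fun τ => by simp [mul_smul])

theorem exists_identity [DecidableEq G] (P : Ideal A) [P.IsPrime]
    (h : ∀ (τ σ : G), σ ≠ 1 → ∃ a : A, τ • (σ • a - a) ∉ P) :
    ∃ f : A, (∀ g : G, g • f = f) ∧ f ∉ P ∧ ∃ l : List (A × A),
      ∀ σ : G, (l.map fun p => p.1 * σ • p.2).sum = if σ = 1 then f else 0 := by
  have key : ∀ σ : G, σ ≠ 1 → ∃ (fσ : A) (tσ : A ⊗[ℤ] A), (∀ g : G, g • fσ = fσ) ∧ fσ ∉ P ∧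
      mu (1 : G) tσ = fσ ∧ mu σ tσ = 0 := by
    intro σ hσ
    -- prime avoidance
    have hav : ∃ a ∈ diffIdeal (A := A) σ, ∀ τ : G, τ • a ∉ P := by
      by_contra hcon
      push Not at hcon
      have hsub : ((diffIdeal (A := A) σ : Ideal A) : Set A) ⊆
          ⋃ τ ∈ ((Finset.univ : Finset G) : Set G),
            (Ideal.comap (MulSemiringAction.toRingHom G A τ) P : Set A) := by
        intro a ha
        obtain ⟨τ, hτ⟩ := hcon a ha
        simp only [Finset.coe_univ, Set.mem_univ, Set.iUnion_true, Set.mem_iUnion, SetLike.mem_coe,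
          Ideal.mem_comap]
        exact ⟨τ, hτ⟩
      rw [Ideal.subset_union_prime (1 : G) (1 : G)
        (fun τ _ _ _ => Ideal.comap_isPrime _ _)] at hsub
      obtain ⟨τ, -, hτ⟩ := hsub
      obtain ⟨a, ha⟩ := h τ σ hσ
      exact ha (hτ (mem_diffIdeal σ a))
    obtain ⟨a, haI, haP⟩ := hav
    have hN : (∏ τ : G, τ • a) ∈ diffIdeal (A := A) σ := by
      have hdvd : a ∣ ∏ τ : G, τ • a := by
        have := Finset.dvd_prod_of_mem (fun τ : G => τ • a) (Finset.mem_univ (1 : G))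
        simpa using this
      obtain ⟨c, hc⟩ := hdvd
      rw [hc]
      exact Ideal.mul_mem_right _ _ haI
    obtain ⟨s, hs⟩ := hN
    refine ⟨∏ τ : G, τ • a, (mu σ s) ⊗ₜ[ℤ] (1 : A) - s, fun g => smul_prod_smul g a, ?_, ?_, ?_⟩
    · intro hmem
      rw [Ideal.IsPrime.prod_mem_iff] at hmem
      obtain ⟨τ, -, hτ⟩ := hmem
      exact haP τ hτ
    · rw [map_sub, mu_tmul, smul_one, mul_one]
      exact hs
    · rw [map_sub, mu_tmul, smul_one, mul_one, sub_self]
  choose! F T hF using key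
  obtain ⟨l, hl⟩ := exists_list (G := G) (∏ σ ∈ (Finset.univ : Finset G).erase 1, T σ)
  refine ⟨∏ σ ∈ (Finset.univ : Finset G).erase 1, F σ, ?_, ?_, l, ?_⟩
  · intro g
    have h1 : g • ∏ σ ∈ (Finset.univ : Finset G).erase 1, F σ =
        ∏ σ ∈ (Finset.univ : Finset G).erase 1, g • F σ :=
      map_prod (MulSemiringAction.toRingHom G A g) _ _
    rw [h1]
    refine Finset.prod_congr rfl fun σ hσ => ?_
    exact (hF σ (Finset.ne_of_mem_erase hσ)).1 g
  · intro hmem
    rw [Ideal.IsPrime.prod_mem_iff] at hmem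
    obtain ⟨σ, hσ, hσP⟩ := hmem
    exact (hF σ (Finset.ne_of_mem_erase hσ)).2.1 hσP
  · intro σ
    rw [← hl σ, map_prod]
    split_ifs with hσ
    · subst hσ
      refine Finset.prod_congr rfl fun ρ hρ => ?_
      exact (hF ρ (Finset.ne_of_mem_erase hρ)).2.2.1
    · exact Finset.prod_eq_zero (Finset.mem_erase.mpr ⟨hσ, Finset.mem_univ σ⟩) (hF σ hσ).2.2.2

end Groth.Agent.Lib.Seat73.GalId
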