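import Mathlib
import Groth.Agent.Lib.Seat73GalId

/-!
# Purity of the branch locus in the free case

Let `A` be a Noetherian local domain with a faithful action of a finite nontrivial group `G` which
is trivial on the residue field, and with trivial inertia at all non-maximal primes, where the
maximal ideal has height `> 1`.  Then `A` is not free (of finite rank) over the ring of invariants.
-/

set_option autoImplicit false
universe u w

namespace Groth.Agent.Lib.Seat73.PurityFree

open IsLocalRing Groth.Agent.Lib.Seat73.GalId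

variable {A : Type u} [CommRing A] {G : Type w} [Group G] [Fintype G] [MulSemiringAction G A]

theorem smul_sum_smul (g : G) (a : A) : g • ∑ τ : G, τ • a = ∑ τ : G, τ • a := by
  rw [Finset.smul_sum]
  exact Fintype.sum_equiv (Equiv.mulLeft g) _ _ (fun τ => by simp [mul_smul])

variable (A G) in
/-- the trace to the ring of invariants -/
noncomputable def trL : A →ₗ[FixedPoints.subring A G] FixedPoints.subring A G where
  toFun a := ⟨∑ σ : G, σ • a, fun g => smul_sum_smul g a⟩
  map_add' a b := by
    apply Subtype.ext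
    simp [smul_add, Finset.sum_add_distrib]
  map_smul' s a := by
    apply Subtype.ext
    have hs : ∀ σ : G, σ • (s : A) = s := fun σ => s.2 σ
    simp [Subring.smul_def, smul_mul', hs, Finset.mul_sum]

theorem coe_trL (a : A) : ((trL A G a : FixedPoints.subring A G) : A) = ∑ σ : G, σ • a := rfl

/-- the key consequence of the Galois identity: `f a = ∑ tr(y a) x`. -/
theorem identity_apply [DecidableEq G] (f : A) (l : List (A × A))
    (hl : ∀ σ : G, (l.map fun p => p.1 * σ • p.2).sum = if σ = 1 then f else 0) (a : A) :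
    f * a = (l.map fun p => trL A G (p.2 * a) • p.1).sum := by
  have h1 : ∑ σ : G, (l.map fun p => p.1 * σ • p.2).sum * σ • a = f * a := by
    simp_rw [hl]
    rw [Finset.sum_eq_single (1 : G)]
    · simp
    · intro σ _ hσ
      simp [hσ]
    · intro h
      exact absurd (Finset.mem_univ _) h
  rw [← h1]
  have h2 : ∀ p : A × A, trL A G (p.2 * a) • p.1 = ∑ σ : G, p.1 * σ • p.2 * σ • a := by
    intro p
    rw [Subring.smul_def, coe_trL, smul_eq_mul, Finset.sum_mul]
    refine Finset.sum_congr rfl fun σ _ => ?_
    rw [smul_mul']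
    ring
  simp_rw [h2]
  clear hl h1 h2
  induction l with
  | nil => simp
  | cons p l ih =>
    simp only [List.map_cons, List.sum_cons, add_mul, Finset.sum_add_distrib]
    rw [ih]

section gram

variable {ι : Type*} [Fintype ι] [DecidableEq ι]
  (b : Module.Basis ι (FixedPoints.subring A G) A)

/-- the Gram matrix of the trace form -/
noncomputable def gram : Matrix ι ι (FixedPoints.subring A G) :=
  fun i j => trL A G (b i * b j)

theorem trL_smul_mul (c : FixedPoints.subring A G) (y a : A) :
    trL A G ((c • y) * a) = c * trL A G (y * a) := by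
  rw [smul_mul_assoc, map_smul, smul_eq_mul]

theorem exists_matrix_mul_gram [DecidableEq G] (f : FixedPoints.subring A G) (l : List (A × A))
    (hl : ∀ σ : G, (l.map fun p => p.1 * σ • p.2).sum = if σ = 1 then (f : A) else 0) :
    ∃ ζ : Matrix ι ι (FixedPoints.subring A G), ζ * gram b = f • (1 : Matrix ι ι _) := by
  -- the elements `z j`
  obtain ⟨z, hz⟩ : ∃ z : ι → A, z = fun j => (l.map fun p => b.repr p.1 j • p.2).sum := ⟨_, rfl⟩
  have claim : ∀ (a : A) (j : ι), trL A G (z j * a) = f * b.repr a j := by
    intro a j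
    have h1 : f • a = (l.map fun p => trL A G (p.2 * a) • p.1).sum := by
      rw [Subring.smul_def, smul_eq_mul]
      exact identity_apply (f : A) l hl a
    have h2 : b.repr (f • a) j = f * b.repr a j := by
      rw [map_smul, Finsupp.smul_apply, smul_eq_mul]
    rw [← h2, h1, hz]
    clear h1 h2 hl hz
    induction l with
    | nil => simp
    | cons p l ih =>
      simp only [List.map_cons, List.sum_cons, add_mul, map_add, Finsupp.add_apply]
      rw [ih, trL_smul_mul, map_smul, Finsupp.smul_apply, smul_eq_mul, mul_comm]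
  refine ⟨Matrix.of fun j k => b.repr (z j) k, ?_⟩
  apply Matrix.ext
  intro j i
  rw [Matrix.mul_apply, Matrix.smul_apply, Matrix.one_apply, smul_eq_mul]
  simp only [Matrix.of_apply]
  have h3 : ∑ k, b.repr (z j) k * gram b k i = trL A G (z j * b i) := by
    conv_rhs => rw [← b.sum_repr (z j), Finset.sum_mul, map_sum]
    refine Finset.sum_congr rfl fun k _ => ?_
    rw [trL_smul_mul]
    rfl
  rw [h3, claim, Module.Basis.repr_self_apply]
  congr 1
  by_cases hij : i = j
  · subst hij; simp
  · rw [if_neg hij, if_neg (Ne.symm hij)]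

omit [Fintype G] in
theorem smul_mem_maximalIdeal [IsLocalRing A] (τ : G) {x : A} (hx : x ∈ maximalIdeal A) :
    τ • x ∈ maximalIdeal A := by
  rw [mem_maximalIdeal, mem_nonunits_iff] at hx ⊢
  intro hu
  apply hx
  have := hu.map (MulSemiringAction.toRingHom G A τ⁻¹)
  simpa using this

omit [Fintype G] in
theorem comap_ne_maximalIdeal [IsLocalRing A] (τ : G) (P : Ideal A) [P.IsPrime]
    (hP : P ≠ maximalIdeal A) :
    Ideal.comap (MulSemiringAction.toRingHom G A τ) P ≠ maximalIdeal A := by
  intro h
  apply hP
  refine ((maximalIdeal.isMaximal A).eq_of_le Ideal.IsPrime.ne_top' ?_).symm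
  intro x hx
  have h1 : τ⁻¹ • x ∈ maximalIdeal A := smul_mem_maximalIdeal τ⁻¹ hx
  rw [← h, Ideal.mem_comap, MulSemiringAction.toRingHom_apply, smul_inv_smul] at h1
  exact h1

theorem isUnit_det_gram [IsDomain A] [IsNoetherianRing A] [IsLocalRing A] [DecidableEq G]
    (hht : 1 < (maximalIdeal A).height)
    (hin : ∀ P : Ideal A, P.IsPrime → P ≠ maximalIdeal A → ∀ σ : G, σ ≠ 1 →
      ∃ a : A, σ • a - a ∉ P) :
    IsUnit (((gram b).det : FixedPoints.subring A G) : A) := by
  by_contra hnu
  have hne : Ideal.span {(((gram b).det : FixedPoints.subring A G) : A)} ≠ ⊤ := by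
    rwa [Ne, Ideal.span_singleton_eq_top]
  obtain ⟨P, hP⟩ := Ideal.nonempty_minimalPrimes hne
  have hPprime : P.IsPrime := hP.1.1
  have hdP : (((gram b).det : FixedPoints.subring A G) : A) ∈ P :=
    hP.1.2 (Ideal.mem_span_singleton_self _)
  have hPht : P.height ≤ 1 :=
    Ideal.height_le_one_of_isPrincipal_of_mem_minimalPrimes _ P hP
  have hPm : P ≠ maximalIdeal A := by
    intro h
    rw [h] at hPht
    exact absurd hPht (not_le.mpr hht)
  obtain ⟨f, hfinv, hfP, l, hl⟩ := exists_identity (G := G) P (fun τ σ hσ => by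
    have := Ideal.comap_isPrime (MulSemiringAction.toRingHom G A τ) P
    obtain ⟨a, ha⟩ := hin _ (Ideal.comap_isPrime (MulSemiringAction.toRingHom G A τ) P)
      (comap_ne_maximalIdeal τ P hPm) σ hσ
    exact ⟨a, ha⟩)
  obtain ⟨ζ, hζ⟩ := exists_matrix_mul_gram b ⟨f, hfinv⟩ l hl
  have hdet := congrArg Matrix.det hζ
  rw [Matrix.det_mul, Matrix.det_smul, Matrix.det_one, mul_one] at hdet
  have hdetA := congrArg (fun s : FixedPoints.subring A G => (s : A)) hdet
  simp only [Subring.coe_mul, SubmonoidClass.coe_pow] at hdetA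
  have hfpow : f ^ Fintype.card ι ∈ P := by
    rw [← hdetA]
    exact Ideal.mul_mem_left _ _ hdP
  exact hfP (hPprime.mem_of_pow_mem _ hfpow)

include b in
/-- **Purity in the free case.** -/
theorem false_of_free [IsDomain A] [IsNoetherianRing A] [IsLocalRing A] [DecidableEq G]
    (hfaith : ∀ σ : G, (∀ a : A, σ • a = a) → σ = 1)
    (hres : ∀ (σ : G) (a : A), σ • a - a ∈ maximalIdeal A)
    (hnt : ∃ g : G, g ≠ 1)
    (hht : 1 < (maximalIdeal A).height)
    (hin : ∀ P : Ideal A, P.IsPrime → P ≠ maximalIdeal A → ∀ σ : G, σ ≠ 1 →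
      ∃ a : A, σ • a - a ∉ P) : False := by
  have hu := isUnit_det_gram b hht hin
  -- the determinant is a unit of the invariant ring
  have hu' : IsUnit (gram b).det := by
    obtain ⟨e, he⟩ := hu.exists_right_inv
    have hd0 : (((gram b).det : FixedPoints.subring A G) : A) ≠ 0 := hu.ne_zero
    have heinv : ∀ g : G, g • e = e := by
      intro g
      have h1 : g • ((((gram b).det : FixedPoints.subring A G) : A) * e) = 1 := by
        rw [he, smul_one]
      rw [smul_mul', (gram b).det.2 g] at h1
      exact mul_left_cancel₀ hd0 (h1.trans he.symm)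
    exact IsUnit.of_mul_eq_one (⟨e, heinv⟩ : FixedPoints.subring A G) (Subtype.ext he)
  -- the dual basis
  obtain ⟨d, hd⟩ : ∃ d : ι → A, d = fun j => ∑ k, (gram b)⁻¹ j k • b k := ⟨_, rfl⟩
  have hdual : ∀ j i, trL A G (d j * b i) = if i = j then 1 else 0 := by
    intro j i
    have h1 : trL A G (d j * b i) = ((gram b)⁻¹ * gram b) j i := by
      rw [Matrix.mul_apply, hd, Finset.sum_mul, map_sum]
      refine Finset.sum_congr rfl fun k _ => ?_
      rw [trL_smul_mul]
      rfl
    rw [h1, Matrix.nonsing_inv_mul _ hu', Matrix.one_apply]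
    by_cases hij : i = j
    · subst hij; simp
    · rw [if_neg hij, if_neg (Ne.symm hij)]
  have hrecon : ∀ a : A, ∑ j, trL A G (d j * a) • b j = a := by
    intro a
    have h1 : (∑ j, ((trL A G).comp (LinearMap.mulLeft _ (d j))).smulRight (b j) :
        A →ₗ[FixedPoints.subring A G] A) = LinearMap.id := by
      apply b.ext
      intro i
      simp only [LinearMap.coe_sum, Finset.sum_apply, LinearMap.smulRight_apply,
        LinearMap.comp_apply, LinearMap.mulLeft_apply, LinearMap.id_apply, hdual]
      rw [Finset.sum_eq_single i]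
      · simp
      · intro j _ hj
        rw [if_neg (Ne.symm hj), zero_smul]
      · intro h
        exact absurd (Finset.mem_univ _) h
    have h2 := LinearMap.congr_fun h1 a
    simpa only [LinearMap.coe_sum, Finset.sum_apply, LinearMap.smulRight_apply,
      LinearMap.comp_apply, LinearMap.mulLeft_apply, LinearMap.id_apply] using h2
  -- coefficients
  obtain ⟨c, hc⟩ : ∃ c : G → A, c = fun σ => ∑ j, b j * σ • d j := ⟨_, rfl⟩
  have hsum : ∀ a : A, ∑ σ : G, c σ * σ • a = a := by
    intro a
    have h1 : ∑ σ : G, c σ * σ • a = ∑ j, ∑ σ : G, σ • (d j * a) * b j := by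
      rw [hc]
      simp_rw [Finset.sum_mul]
      rw [Finset.sum_comm]
      refine Finset.sum_congr rfl fun j _ => Finset.sum_congr rfl fun σ _ => ?_
      rw [smul_mul']
      ring
    rw [h1]
    conv_rhs => rw [← hrecon a]
    refine Finset.sum_congr rfl fun j _ => ?_
    rw [Subring.smul_def, coe_trL, smul_eq_mul, Finset.sum_mul]
  -- Dedekind independence
  have hli := linearIndependent_monoidHom A A
  let φ : G → (A →* A) := fun σ => (MulSemiringAction.toRingHom G A σ : A →* A)
  have hφinj : Function.Injective φ := by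
    intro σ τ hστ
    have h1 : τ⁻¹ * σ = 1 := by
      apply hfaith
      intro a
      have := DFunLike.congr_fun hστ a
      change σ • a = τ • a at this
      rw [mul_smul, this, inv_smul_smul]
    rw [inv_mul_eq_one] at h1
    exact h1.symm
  have hli2 := hli.comp φ hφinj
  rw [Fintype.linearIndependent_iff] at hli2
  have hzero := hli2 (fun σ => c σ - if σ = 1 then 1 else 0) (by
    funext a
    simp only [Function.comp_apply, Finset.sum_apply, Pi.smul_apply, smul_eq_mul, Pi.zero_apply, φ]
    change ∑ σ : G, (c σ - if σ = 1 then 1 else 0) * σ • a = 0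
    simp_rw [sub_mul, Finset.sum_sub_distrib]
    rw [hsum a, Finset.sum_eq_single (1 : G)]
    · simp
    · intro σ _ hσ
      simp [hσ]
    · intro h
      exact absurd (Finset.mem_univ _) h)
  obtain ⟨g, hg⟩ := hnt
  have hc1 : c 1 = 1 := by
    have := hzero 1
    rw [if_pos rfl, sub_eq_zero] at this
    exact this
  have hcg : c g = 0 := by
    have := hzero g
    rw [if_neg hg, sub_zero] at this
    exact this
  have hmem : c 1 - c g ∈ maximalIdeal A := by
    rw [hc]
    simp only [one_smul]
    rw [← Finset.sum_sub_distrib]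
    refine Ideal.sum_mem _ fun j _ => ?_
    rw [← mul_sub]
    apply Ideal.mul_mem_left
    have := hres g (d j)
    rw [← neg_sub]
    exact neg_mem this
  rw [hc1, hcg, sub_zero] at hmem
  exact (Ideal.ne_top_iff_one _).mp (maximalIdeal.isMaximal A).ne_top hmem

end gram

end Groth.Agent.Lib.Seat73.PurityFree
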