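import Mathlib
import Groth.Agent.Lib.Seat73PurityFree

/-!
# Normality and completeness of rings of invariants

* `isIntegrallyClosed_fixedPoints`: invariants of an integrally closed domain are integrally closed.
* `isAdicComplete_fixedPoints`: if `A` is a complete Noetherian local ring, finite over its
  Noetherian ring of invariants `A^G`, then `A^G` is complete for the ideal `m_A ∩ A^G`.
-/

set_option autoImplicit false
universe u w

namespace Groth.Agent.Lib.Seat73.FixedComplete

open IsLocalRing

section normal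

variable {A : Type u} [CommRing A] [IsDomain A] [IsIntegrallyClosed A]
  {G : Type w} [Group G] [MulSemiringAction G A]

theorem isIntegrallyClosed_fixedPoints : IsIntegrallyClosed (FixedPoints.subring A G) := by
  have hinj : Function.Injective (algebraMap (FixedPoints.subring A G) A) := Subtype.val_injective
  have hcomap : nonZeroDivisors (FixedPoints.subring A G) ≤
      (nonZeroDivisors A).comap (algebraMap (FixedPoints.subring A G) A) :=
    nonZeroDivisors_le_comap_nonZeroDivisors_of_injective _ hinj
  let FB := FractionRing (FixedPoints.subring A G)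
  let L := FractionRing A
  let φ : FB →+* L := IsLocalization.map L (algebraMap (FixedPoints.subring A G) A) hcomap
  have hφ : ∀ b : FixedPoints.subring A G,
      φ (algebraMap (FixedPoints.subring A G) FB b) = algebraMap A L (b : A) := fun b =>
    IsLocalization.map_eq hcomap b
  rw [isIntegrallyClosed_iff FB]
  intro y hy
  obtain ⟨β, γ, hγ, hβγ⟩ := IsFractionRing.div_surjective (A := FixedPoints.subring A G) y
  have hγ0 : γ ≠ 0 := nonZeroDivisors.ne_zero hγ
  have hγF : algebraMap (FixedPoints.subring A G) FB γ ≠ 0 := by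
    intro h0
    exact hγ0 ((IsFractionRing.injective _ FB) (h0.trans (map_zero _).symm))
  have hint : IsIntegral A (φ y) := by
    refine IsIntegral.map_of_comp_eq (algebraMap (FixedPoints.subring A G) A) φ ?_ hy
    ext b
    exact (hφ b).symm
  obtain ⟨α, hα⟩ := (isIntegrallyClosed_iff L).mp inferInstance hint
  have hαβ : (γ : A) * α = β := by
    apply IsFractionRing.injective A L
    rw [map_mul, hα, ← hφ, ← hφ, ← map_mul, ← hβγ, mul_div_cancel₀ _ hγF]
  have hγA : (γ : A) ≠ 0 := fun h => hγ0 (Subtype.ext h)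
  have hαinv : ∀ σ : G, σ • α = α := by
    intro σ
    have h1 : σ • ((γ : A) * α) = (γ : A) * α := by rw [hαβ]; exact β.2 σ
    rw [smul_mul', γ.2 σ] at h1
    exact mul_left_cancel₀ hγA h1
  refine ⟨⟨α, hαinv⟩, ?_⟩
  rw [← hβγ, eq_div_iff hγF, ← map_mul]
  congr 1
  apply Subtype.ext
  rw [Subring.coe_mul, mul_comm]
  exact hαβ

end normal

section complete

variable {A : Type u} [CommRing A] [IsLocalRing A] {G : Type w} [Group G] [MulSemiringAction G A]

theorem coe_mem_pow_of_mem_pow (n : ℕ) {x : FixedPoints.subring A G}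
    (hx : x ∈ Ideal.comap (FixedPoints.subring A G).subtype (maximalIdeal A) ^ n) :
    (x : A) ∈ maximalIdeal A ^ n := by
  have h1 : Ideal.map (FixedPoints.subring A G).subtype
      (Ideal.comap (FixedPoints.subring A G).subtype (maximalIdeal A) ^ n) ≤ maximalIdeal A ^ n := by
    rw [Ideal.map_pow]
    exact Ideal.pow_right_mono Ideal.map_comap_le n
  exact h1 (Ideal.mem_map_of_mem _ hx)

theorem smul_mem_pow (σ : G) (n : ℕ) {x : A} (hx : x ∈ maximalIdeal A ^ n) :
    σ • x ∈ maximalIdeal A ^ n := by
  have h1 : Ideal.map (MulSemiringAction.toRingHom G A σ) (maximalIdeal A ^ n) ≤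
      maximalIdeal A ^ n := by
    rw [Ideal.map_pow]
    refine Ideal.pow_right_mono ?_ n
    rw [Ideal.map_le_iff_le_comap]
    intro y hy
    exact Groth.Agent.Lib.Seat73.PurityFree.smul_mem_maximalIdeal σ hy
  exact h1 (Ideal.mem_map_of_mem _ hx)

theorem isHausdorff_fixedPoints [IsHausdorff (maximalIdeal A) A] :
    IsHausdorff (Ideal.comap (FixedPoints.subring A G).subtype (maximalIdeal A))
      (FixedPoints.subring A G) := by
  refine ⟨fun x hx => ?_⟩
  apply Subtype.ext
  apply IsHausdorff.haus (I := maximalIdeal A) inferInstance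
  intro n
  have := hx n
  rw [SModEq.zero, smul_eq_mul, Ideal.mul_top] at this ⊢
  exact coe_mem_pow_of_mem_pow n this

variable [IsNoetherianRing A]
  (hfin : Module.Finite (FixedPoints.subring A G) A)
  (hnoeth : IsNoetherianRing (FixedPoints.subring A G))

omit [IsNoetherianRing A] in
include hfin hnoeth in
/-- Artin–Rees for the invariants inside `A`. -/
theorem exists_artinRees : ∃ c : ℕ, ∀ (n : ℕ) (x : FixedPoints.subring A G),
    (x : A) ∈ ((Ideal.comap (FixedPoints.subring A G).subtype (maximalIdeal A)) ^ (n + c) •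
      (⊤ : Submodule (FixedPoints.subring A G) A)) →
    x ∈ (Ideal.comap (FixedPoints.subring A G).subtype (maximalIdeal A)) ^ n := by
  obtain ⟨c, hc⟩ := Ideal.exists_pow_inf_eq_pow_smul
    (Ideal.comap (FixedPoints.subring A G).subtype (maximalIdeal A))
    (LinearMap.range (Algebra.linearMap (FixedPoints.subring A G) A))
  refine ⟨c, fun n x hx => ?_⟩
  have h1 : (x : A) ∈ (Ideal.comap (FixedPoints.subring A G).subtype (maximalIdeal A)) ^ (n + c) •
      (⊤ : Submodule (FixedPoints.subring A G) A) ⊓
      LinearMap.range (Algebra.linearMap (FixedPoints.subring A G) A) := ⟨hx, ⟨x, rfl⟩⟩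
  rw [hc (n + c) (Nat.le_add_left c n), Nat.add_sub_cancel] at h1
  have h2 : (Ideal.comap (FixedPoints.subring A G).subtype (maximalIdeal A)) ^ n •
      ((Ideal.comap (FixedPoints.subring A G).subtype (maximalIdeal A)) ^ c •
        (⊤ : Submodule (FixedPoints.subring A G) A) ⊓
        LinearMap.range (Algebra.linearMap (FixedPoints.subring A G) A)) ≤
      Submodule.map (Algebra.linearMap (FixedPoints.subring A G) A)
        ((Ideal.comap (FixedPoints.subring A G).subtype (maximalIdeal A)) ^ n • ⊤) := by
    rw [Submodule.map_smul'', Submodule.map_top]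
    exact Submodule.smul_mono le_rfl inf_le_right
  obtain ⟨y, hy, hyx⟩ := h2 h1
  rw [smul_eq_mul, Ideal.mul_top] at hy
  have : y = x := Subtype.ext hyx
  rw [← this]
  exact hy

include hfin in
theorem exists_pow_le_map : ∃ e : ℕ, maximalIdeal A ^ e ≤
    Ideal.map (algebraMap (FixedPoints.subring A G) A)
      (Ideal.comap (FixedPoints.subring A G).subtype (maximalIdeal A)) := by
  have hint : Algebra.IsIntegral (FixedPoints.subring A G) A := inferInstance
  have hImax : (Ideal.comap (algebraMap (FixedPoints.subring A G) A) (maximalIdeal A)).IsMaximal :=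
    Ideal.isMaximal_comap_of_isIntegral_of_isMaximal _
  apply Ideal.exists_pow_le_of_le_radical_of_fg _ (IsNoetherian.noetherian _)
  rw [Ideal.radical_eq_sInf]
  refine le_sInf ?_
  rintro 𝔮 ⟨h𝔮, h𝔮prime⟩
  have h1 : Ideal.comap (algebraMap (FixedPoints.subring A G) A) (maximalIdeal A) ≤
      Ideal.comap (algebraMap (FixedPoints.subring A G) A) 𝔮 := by
    rw [← Ideal.map_le_iff_le_comap]
    exact h𝔮
  have h2 : Ideal.comap (algebraMap (FixedPoints.subring A G) A) 𝔮 =
      Ideal.comap (algebraMap (FixedPoints.subring A G) A) (maximalIdeal A) :=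
    (hImax.eq_of_le (Ideal.comap_ne_top _ h𝔮prime.ne_top) h1).symm
  have h3 : 𝔮.IsMaximal := by
    apply Ideal.isMaximal_of_isIntegral_of_isMaximal_comap (R := FixedPoints.subring A G) 𝔮
    rw [h2]
    exact hImax
  exact le_of_eq (IsLocalRing.eq_maximalIdeal h3).symm

include hfin hnoeth in
theorem isAdicComplete_fixedPoints [IsAdicComplete (maximalIdeal A) A] :
    IsAdicComplete (Ideal.comap (FixedPoints.subring A G).subtype (maximalIdeal A))
      (FixedPoints.subring A G) := by
  have hH := isHausdorff_fixedPoints (A := A) (G := G)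
  refine { toIsHausdorff := hH, toIsPrecomplete := ⟨fun f hf => ?_⟩ }
  obtain ⟨c, hc⟩ := exists_artinRees hfin hnoeth
  obtain ⟨e, he⟩ := exists_pow_le_map hfin
  -- the limit in `A`
  have hg : ∀ {m n : ℕ}, m ≤ n →
      ((f m : A)) ≡ (f n : A) [SMOD (maximalIdeal A ^ m • ⊤ : Submodule A A)] := by
    intro m n hmn
    have := hf hmn
    rw [SModEq.sub_mem, smul_eq_mul, Ideal.mul_top] at this ⊢
    exact coe_mem_pow_of_mem_pow m this
  obtain ⟨L, hL⟩ := IsPrecomplete.prec (I := maximalIdeal A) inferInstance hg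
  have hLinv : ∀ σ : G, σ • L = L := by
    intro σ
    rw [← sub_eq_zero]
    apply IsHausdorff.haus (I := maximalIdeal A) inferInstance
    intro n
    have h1 := hL n
    rw [SModEq.sub_mem, smul_eq_mul, Ideal.mul_top] at h1
    rw [SModEq.zero, smul_eq_mul, Ideal.mul_top]
    have h2 : σ • ((f n : A) - L) ∈ maximalIdeal A ^ n := smul_mem_pow σ n h1
    rw [smul_sub, (f n).2 σ] at h2
    have h3 : σ • L - L = ((f n : A) - L) - ((f n : A) - σ • L) := by ring
    rw [h3]
    exact sub_mem h1 h2
  refine ⟨⟨L, hLinv⟩, fun n => ?_⟩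
  rw [SModEq.sub_mem, smul_eq_mul, Ideal.mul_top]
  obtain ⟨n', hn'⟩ : ∃ n' : ℕ, n' = e * (n + c) + n := ⟨_, rfl⟩
  have hnn' : n ≤ n' := by omega
  have h1 : f n - f n' ∈ Ideal.comap (FixedPoints.subring A G).subtype (maximalIdeal A) ^ n := by
    have := hf hnn'
    rwa [SModEq.sub_mem, smul_eq_mul, Ideal.mul_top] at this
  have h2 : f n' - ⟨L, hLinv⟩ ∈
      Ideal.comap (FixedPoints.subring A G).subtype (maximalIdeal A) ^ n := by
    apply hc
    have h3 := hL n'
    rw [SModEq.sub_mem, smul_eq_mul, Ideal.mul_top] at h3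
    have h4 : maximalIdeal A ^ n' ≤ (maximalIdeal A ^ e) ^ (n + c) := by
      rw [← pow_mul]
      exact Ideal.pow_le_pow_right (by omega)
    have h5 : (maximalIdeal A ^ e) ^ (n + c) ≤
        Ideal.map (algebraMap (FixedPoints.subring A G) A)
          (Ideal.comap (FixedPoints.subring A G).subtype (maximalIdeal A) ^ (n + c)) := by
      rw [Ideal.map_pow]
      exact Ideal.pow_right_mono he _
    have h6 := h5 (h4 h3)
    rw [Ideal.smul_top_eq_map]
    exact h6
  have h7 : f n - ⟨L, hLinv⟩ = (f n - f n') + (f n' - ⟨L, hLinv⟩) := by ring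
  rw [h7]
  exact add_mem h1 h2

end complete

end Groth.Agent.Lib.Seat73.FixedComplete
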