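import Mathlib

/-!
# Elements of flat modules are detected at the associated primes of the base ring
-/

set_option autoImplicit false
universe u v

namespace Groth.Agent.Lib.Seat73.FlatAss

variable {R : Type u} [CommRing R] [IsNoetherianRing R]
  {M : Type v} [AddCommGroup M] [Module R M] [Module.Flat R M]

/-- If `M` is flat over the Noetherian ring `R` and `b : M` is killed, for every associated
prime `q` of `R`, by some element outside `q`, then `b = 0`. -/
theorem eq_zero_of_forall_associatedPrimes (b : M)
    (h : ∀ q ∈ associatedPrimes R R, ∃ g : R, g ∉ q ∧ g • b = 0) : b = 0 := by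
  classical
  by_contra hb
  obtain ⟨P, hP, hle⟩ := exists_le_isAssociatedPrime_of_isNoetherianRing R b hb
  have hPprime : P.IsPrime := hP.isPrime
  obtain ⟨-, x, hx⟩ := isAssociatedPrime_iff.mp hP
  have hx0 : x ≠ 0 := by
    rintro rfl
    apply hPprime.ne_top
    rw [hx]
    ext r
    simp [Submodule.mem_colon_singleton]
  -- every element of `P` is a zero divisor of `R`
  have hsub : (P : Set R) ⊆ ⋃ q ∈ (associatedPrimes.finite R R).toFinset, (q : Set R) := by
    intro r hr
    have hr' : r ∈ ((nonZeroDivisors R : Set R))ᶜ := by
      intro hnzd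
      have hreg : IsSMulRegular M r := Module.Flat.isSMulRegular_of_nonZeroDivisors hnzd
      have hrx : r • x = 0 := by
        have : r ∈ (⊥ : Submodule R M).colon {x} := hx ▸ hr
        simpa [Submodule.mem_colon_singleton] using this
      exact hx0 (hreg (by simpa using hrx))
    rw [← biUnion_associatedPrimes_eq_compl_nonZeroDivisors] at hr'
    simpa using hr'
  obtain ⟨q, hq, hPq⟩ := (Ideal.subset_union_prime (R := R) (f := fun q : Ideal R => q)
    ⊤ ⊤ (fun i hi _ _ => by
      have : i ∈ associatedPrimes R R := by simpa using hi
      exact this.isPrime)).mp hsub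
  have hq' : q ∈ associatedPrimes R R := by simpa using hq
  obtain ⟨g, hgq, hgb⟩ := h q hq'
  apply hgq
  apply hPq
  apply hle
  simpa [Submodule.mem_colon_singleton] using hgb

end Groth.Agent.Lib.Seat73.FlatAss
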