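import Mathlib

/-!
# A flatness criterion

Let `A` be an `R`-algebra and `M` a flat `A`-module.  If `f • id_A` factors `R`-linearly through a
flat `R`-module and `f` acts surjectively on `M`, then `M` is flat over `R`.
-/

set_option autoImplicit false
universe u v w t s
open scoped TensorProduct
open TensorProduct

namespace Groth.Agent.Lib.Seat73.FlatSplit

section
variable {R : Type u} {A : Type v} [CommRing R] [CommRing A] [Algebra R A]
    {F : Type t} [AddCommGroup F] [Module R F] [Module.Flat R F]
    (α : A →ₗ[R] F) (β : F →ₗ[R] A) (f : R) (hβα : ∀ a, β (α a) = f • a)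
    {N N' : Type s} [AddCommGroup N] [AddCommGroup N'] [Module R N] [Module R N']
    (g : N →ₗ[R] N') (hg : Function.Injective g)

include hβα hg in
theorem key (k : A ⊗[R] N) (hk : (g.lTensor A) k = 0) : f • k = 0 := by
  have h1 : (g.lTensor F) ((α.rTensor N) k) = (α.rTensor N') ((g.lTensor A) k) := by
    rw [← LinearMap.comp_apply, ← LinearMap.comp_apply, LinearMap.lTensor_comp_rTensor,
      LinearMap.rTensor_comp_lTensor]
  rw [hk, map_zero] at h1
  have h3 : (α.rTensor N) k = 0 :=
    (Module.Flat.lTensor_preserves_injective_linearMap g hg) (h1.trans (map_zero _).symm)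
  have h4 : β.comp α = f • LinearMap.id := LinearMap.ext fun a => by
    rw [LinearMap.comp_apply, hβα, LinearMap.smul_apply, LinearMap.id_apply]
  have h5 : ((β.comp α).rTensor N) k = f • k := by
    rw [h4, LinearMap.rTensor_smul, LinearMap.rTensor_id, LinearMap.smul_apply,
      LinearMap.id_apply]
  rw [← h5, LinearMap.rTensor_comp, LinearMap.comp_apply, h3, map_zero]

end

section
variable {R : Type u} {A : Type v} [CommRing R] [CommRing A] [Algebra R A]
    {M : Type w} [AddCommGroup M] [Module A M] [Module R M] [IsScalarTower R A M]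
    {K : Type s} [AddCommGroup K] [Module A K] [Module R K] [IsScalarTower R A K]
    {L : Type t} [AddCommGroup L] [Module A L]

theorem lTensor_eq_zero (f : R) (hf : ∀ m : M, ∃ m' : M, f • m' = m) (j : K →ₗ[A] L)
    (hK : ∀ k : K, j (f • k) = 0) (w' : M ⊗[A] K) : (j.lTensor M) w' = 0 := by
  induction w' using TensorProduct.induction_on with
  | zero => rw [map_zero]
  | tmul m k =>
    obtain ⟨m', rfl⟩ := hf m
    rw [← algebraMap_smul A f m', TensorProduct.smul_tmul, algebraMap_smul,
      LinearMap.lTensor_tmul, hK, tmul_zero]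
  | add x y hx hy => rw [map_add, hx, hy, add_zero]

end

theorem lTensor_injective_of_smul {R : Type u} {A : Type v} [CommRing R] [CommRing A]
    [Algebra R A] {M : Type w} [AddCommGroup M] [Module A M] [Module R M] [IsScalarTower R A M]
    [Module.Flat A M]
    {X Y : Type s} [AddCommGroup X] [AddCommGroup Y] [Module A X] [Module A Y] [Module R X]
    [IsScalarTower R A X]
    (gA : X →ₗ[A] Y) (f : R) (hf : ∀ m : M, ∃ m' : M, f • m' = m)
    (hker : ∀ x, gA x = 0 → f • x = 0) : Function.Injective (gA.lTensor M) := by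
  rw [injective_iff_map_eq_zero]
  intro w hw
  have hexact : Function.Exact ((LinearMap.ker gA).subtype.lTensor M) (gA.lTensor M) :=
    Module.Flat.lTensor_exact M (LinearMap.exact_subtype_ker_map gA)
  obtain ⟨w', rfl⟩ := (hexact _).mp hw
  refine lTensor_eq_zero f hf _ (fun k => ?_) w'
  rw [Submodule.subtype_apply, Submodule.coe_smul_of_tower]
  exact hker _ (LinearMap.mem_ker.mp k.2)

theorem flat_of_factor {R : Type u} {A : Type v} [CommRing R] [CommRing A] [Algebra R A]
    {M : Type w} [AddCommGroup M] [Module A M] [Module R M] [IsScalarTower R A M]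
    [Module.Flat A M]
    {F : Type t} [AddCommGroup F] [Module R F] [Module.Flat R F]
    (α : A →ₗ[R] F) (β : F →ₗ[R] A) (f : R) (hβα : ∀ a, β (α a) = f • a)
    (hf : ∀ m : M, ∃ m' : M, f • m' = m) : Module.Flat R M := by
  rw [Module.Flat.iff_lTensor_preserves_injective_linearMap]
  intro N N' _ _ _ _ g hg
  obtain ⟨gA, hgA⟩ : ∃ gA : A ⊗[R] N →ₗ[A] A ⊗[R] N', gA = AlgebraTensorModule.lTensor A A g :=
    ⟨_, rfl⟩
  have hgA' : ∀ k, gA k = (g.lTensor A) k := fun k => by rw [hgA]; rfl
  have hinj : Function.Injective (gA.lTensor M) := by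
    refine lTensor_injective_of_smul gA f hf (fun x hx => ?_)
    refine key α β f hβα g hg x ?_
    rw [← hgA']
    exact hx
  rw [injective_iff_map_eq_zero]
  intro z hz
  have hcomm := AlgebraTensorModule.lTensor_comp_cancelBaseChange (R := R) (A := A) (B := A)
    (M := M) (N := N) g
  have h1 := LinearMap.congr_fun hcomm ((AlgebraTensorModule.cancelBaseChange R A A M N).symm z)
  rw [LinearMap.comp_apply, LinearMap.comp_apply, LinearEquiv.coe_coe, LinearEquiv.coe_coe,
    LinearEquiv.apply_symm_apply, ← hgA] at h1
  have h1' : (AlgebraTensorModule.lTensor A M g) z = 0 := hz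
  rw [h1'] at h1
  have h2 : (gA.lTensor M) ((AlgebraTensorModule.cancelBaseChange R A A M N).symm z) = 0 :=
    (AlgebraTensorModule.cancelBaseChange R A A M N').injective (h1.symm.trans (map_zero _).symm)
  have h3 := hinj (h2.trans (map_zero _).symm)
  have h4 := congrArg (AlgebraTensorModule.cancelBaseChange R A A M N) h3
  rw [map_zero, LinearEquiv.apply_symm_apply] at h4
  exact h4

end Groth.Agent.Lib.Seat73.FlatSplit
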