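import Mathlib
import Groth.Agent.Lib.Helper19FilteredComplete

/-!
# A freeness criterion via regular sequences, and complete Nakayama (seat 73)

* `indep_of_regular`: over a Noetherian local ring `P`, if `rs` (in the maximal ideal) is a weakly
  regular sequence on `M` and the family `b` is linearly independent modulo `rs`, then `b` is linearly
  independent.
* `span_eq_top_of_isAdicComplete`: complete Nakayama (restated from `Helper19.Normalization`, to keep
  the import closure small).
-/

set_option autoImplicit false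
universe u v

namespace Groth.Agent.Lib.Seat73.FreeCrit

open IsLocalRing RingTheory.Sequence
open scoped Pointwise

section indep

variable {P : Type u} [CommRing P] [IsNoetherianRing P] [IsLocalRing P] {d : ℕ}

theorem mem_of_forall_mem_sup_pow (J : Ideal P) (y : P) (hy : y ∈ maximalIdeal P) (r : P)
    (h : ∀ m : ℕ, r ∈ J ⊔ Ideal.span {y ^ m}) : r ∈ J := by
  have hne : Ideal.span {y} ≠ ⊤ := by
    intro htop
    have : (1 : P) ∈ Ideal.span {y} := htop ▸ Submodule.mem_top
    rw [Ideal.mem_span_singleton] at this
    exact (mem_maximalIdeal y).mp hy (isUnit_of_dvd_one this)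
  have hK := Ideal.iInf_pow_smul_eq_bot_of_isLocalRing (R := P) (M := P ⧸ J) (Ideal.span {y}) hne
  have hmem : (Ideal.Quotient.mk J r) ∈ (⨅ i : ℕ, Ideal.span {y} ^ i • ⊤ : Submodule P (P ⧸ J)) := by
    rw [Submodule.mem_iInf]
    intro m
    obtain ⟨j, hj, z, hz, rfl⟩ := Submodule.mem_sup.mp (h m)
    obtain ⟨e, rfl⟩ := Ideal.mem_span_singleton'.mp hz
    rw [map_add, Ideal.Quotient.eq_zero_iff_mem.mpr hj, zero_add, mul_comm, map_mul]
    have : Ideal.Quotient.mk J (y ^ m) * Ideal.Quotient.mk J e =
        (y ^ m) • (Ideal.Quotient.mk J e) := by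
      rw [Algebra.smul_def]; rfl
    rw [this]
    refine Submodule.smul_mem_smul ?_ Submodule.mem_top
    rw [Ideal.span_singleton_pow]
    exact Ideal.mem_span_singleton_self _
  rw [hK, Submodule.mem_bot] at hmem
  exact Ideal.Quotient.eq_zero_iff_mem.mp hmem

/-- If `rs` is weakly regular on `M`, `J` kills `M`, and the family `b` is independent modulo `rs`
(up to `J`), then it is independent (up to `J`). -/
theorem indep_of_regular_aux :
    ∀ (rs : List P), (∀ r ∈ rs, r ∈ maximalIdeal P) →
      ∀ (M : Type v) [AddCommGroup M] [Module P M] (J : Ideal P),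
        (∀ j ∈ J, ∀ m : M, j • m = 0) → IsWeaklyRegular M rs → ∀ (b : Fin d → M),
        (∀ r : Fin d → P, ∑ i, r i • b i ∈ (Ideal.ofList rs • ⊤ : Submodule P M) →
          ∀ i, r i ∈ J ⊔ Ideal.ofList rs) →
        ∀ r : Fin d → P, ∑ i, r i • b i = 0 → ∀ i, r i ∈ J := by
  intro rs
  induction rs with
  | nil =>
    intro _ M _ _ J _ _ b H r hr i
    have := H r (by rw [hr]; exact Submodule.zero_mem _) i
    rwa [Ideal.ofList_nil, sup_bot_eq] at this
  | cons y rs ih =>
    intro hmem M _ _ J hJ hreg b H
    rw [isWeaklyRegular_cons_iff] at hreg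
    obtain ⟨hy, hreg'⟩ := hreg
    have hym : y ∈ maximalIdeal P := hmem y (List.mem_cons_self ..)
    -- the quotient situation
    let b' : Fin d → QuotSMulTop y M := fun i => Submodule.Quotient.mk (b i)
    have hJ' : ∀ j ∈ J ⊔ Ideal.span {y}, ∀ m : QuotSMulTop y M, j • m = 0 := by
      intro j hj m
      obtain ⟨m, rfl⟩ := Submodule.Quotient.mk_surjective _ m
      obtain ⟨j0, hj0, z, hz, rfl⟩ := Submodule.mem_sup.mp hj
      obtain ⟨c, rfl⟩ := Ideal.mem_span_singleton'.mp hz
      rw [add_smul, ← Submodule.Quotient.mk_smul, ← Submodule.Quotient.mk_smul, hJ j0 hj0 m,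
        Submodule.Quotient.mk_zero, zero_add, Submodule.Quotient.mk_eq_zero, mul_comm, mul_smul]
      exact Submodule.smul_mem_pointwise_smul _ _ _ Submodule.mem_top
    have H' : ∀ r : Fin d → P,
        ∑ i, r i • b' i ∈ (Ideal.ofList rs • ⊤ : Submodule P (QuotSMulTop y M)) →
          ∀ i, r i ∈ (J ⊔ Ideal.span {y}) ⊔ Ideal.ofList rs := by
      intro r hr i
      have hsum : ∑ i, r i • b' i =
          (Submodule.mkQ (y • ⊤ : Submodule P M)) (∑ i, r i • b i) := by
        rw [map_sum]
        refine Finset.sum_congr rfl fun i _ => ?_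
        rw [map_smul]; rfl
      have hmap : (Ideal.ofList rs • ⊤ : Submodule P (QuotSMulTop y M)) =
          Submodule.map (Submodule.mkQ (y • ⊤ : Submodule P M))
            (Ideal.ofList rs • ⊤ : Submodule P M) := by
        rw [Submodule.map_smul'', Submodule.map_top, Submodule.range_mkQ]
      rw [hsum, hmap] at hr
      obtain ⟨m0, hm0, hm0e⟩ := hr
      have hdiff : ∑ i, r i • b i - m0 ∈ (y • ⊤ : Submodule P M) := by
        have h1 := (Submodule.Quotient.eq _).mp hm0e
        have h2 := Submodule.neg_mem _ h1
        rwa [neg_sub] at h2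
      obtain ⟨m1, -, hm1⟩ := (Submodule.mem_smul_pointwise_iff_exists _ _ _).mp hdiff
      have hin : ∑ i, r i • b i ∈ (Ideal.ofList (y :: rs) • ⊤ : Submodule P M) := by
        have e : ∑ i, r i • b i = y • m1 + m0 := by rw [hm1]; abel
        rw [e, Ideal.ofList_cons]
        refine Submodule.add_mem _ ?_ ?_
        · exact Submodule.smul_mem_smul
            (Ideal.mem_sup_left (Ideal.mem_span_singleton_self y)) Submodule.mem_top
        · exact Submodule.smul_mono_left le_sup_right hm0
      have := H r hin i
      rwa [Ideal.ofList_cons, ← sup_assoc] at this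
    have K' := ih (fun r hr => hmem r (List.mem_cons_of_mem _ hr)) (QuotSMulTop y M)
      (J ⊔ Ideal.span {y}) hJ' hreg' b' H'
    -- successive divisibility by `y`
    have Q : ∀ m : ℕ, ∀ r : Fin d → P, ∑ i, r i • b i = 0 →
        ∀ i, r i ∈ J ⊔ Ideal.span {y ^ m} := by
      intro m
      induction m with
      | zero =>
        intro r _ i
        rw [pow_zero, Ideal.span_singleton_one, sup_top_eq]
        exact Submodule.mem_top
      | succ m ihm =>
        intro r hr i
        have h1 : ∑ i, r i • b' i = 0 := by
          have hsum : ∑ i, r i • b' i =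
              (Submodule.mkQ (y • ⊤ : Submodule P M)) (∑ i, r i • b i) := by
            rw [map_sum]
            refine Finset.sum_congr rfl fun i _ => ?_
            rw [map_smul]; rfl
          rw [hsum, hr, map_zero]
        have h2 := K' r h1
        have h3 : ∀ i, ∃ j ∈ J, ∃ c : P, r i = j + c * y := by
          intro i
          obtain ⟨j, hj, z, hz, hjz⟩ := Submodule.mem_sup.mp (h2 i)
          obtain ⟨c, rfl⟩ := Ideal.mem_span_singleton'.mp hz
          exact ⟨j, hj, c, hjz.symm⟩
        choose j hj c hc using h3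
        have h4 : y • ∑ i, c i • b i = 0 := by
          rw [Finset.smul_sum, ← hr]
          refine Finset.sum_congr rfl fun i _ => ?_
          rw [hc i, add_smul, hJ (j i) (hj i), zero_add, smul_smul, mul_comm]
        have h5 : ∑ i, c i • b i = 0 :=
          hy (show y • ∑ i, c i • b i = y • (0 : M) by rw [h4, smul_zero])
        have h6 := ihm c h5 i
        obtain ⟨j', hj', z, hz, hjz⟩ := Submodule.mem_sup.mp h6
        obtain ⟨e, rfl⟩ := Ideal.mem_span_singleton'.mp hz
        rw [hc i, ← hjz]
        have : j i + (j' + e * y ^ m) * y = (j i + j' * y) + e * y ^ (m + 1) := by ring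
        rw [this]
        refine Submodule.add_mem_sup (J.add_mem (hj i) (J.mul_mem_right _ hj')) ?_
        exact Ideal.mem_span_singleton'.mpr ⟨e, rfl⟩
    intro r hr i
    exact mem_of_forall_mem_sup_pow J y hym (r i) fun m => Q m r hr i

/-- If `rs` (in the maximal ideal of the Noetherian local ring `P`) is weakly regular on `M` and the
finite family `b` is linearly independent modulo `rs`, then `b` is linearly independent. -/
theorem indep_of_regular (rs : List P) (hrs : ∀ r ∈ rs, r ∈ maximalIdeal P)
    (M : Type v) [AddCommGroup M] [Module P M] (hreg : IsWeaklyRegular M rs) (b : Fin d → M)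
    (H : ∀ r : Fin d → P, ∑ i, r i • b i ∈ (Ideal.ofList rs • ⊤ : Submodule P M) →
      ∀ i, r i ∈ Ideal.ofList rs)
    (r : Fin d → P) (hr : ∑ i, r i • b i = 0) : r = 0 := by
  funext i
  have := indep_of_regular_aux rs hrs M ⊥
    (fun j hj m => by rw [(Submodule.mem_bot P).mp hj, zero_smul]) hreg b
    (fun r hr i => by rw [bot_sup_eq]; exact H r hr i) r hr i
  exact (Submodule.mem_bot P).mp this

end indep

section Nakayama

variable {P M : Type*} [CommRing P] (I : Ideal P) [IsAdicComplete I P]
  [AddCommGroup M] [Module P M] [IsHausdorff I M]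

/-- complete Nakayama: generators modulo `I` generate a separated module over a complete ring
(restated from `Groth.Agent.Lib.Helper19.Normalization.span_eq_top_of_isAdicComplete`) -/
theorem span_eq_top_of_isAdicComplete {r : ℕ} (x : Fin r → M)
    (h : ⊤ ≤ Submodule.span P (Set.range x) ⊔ (I • ⊤ : Submodule P M)) :
    Submodule.span P (Set.range x) = ⊤ := by
  classical
  rw [eq_top_iff]
  intro y _
  have key := Groth.Agent.Lib.Helper19.exists_coeff_of_approx I
    (fun k : ℕ => (I ^ k • ⊤ : Submodule P M))
    (fun y hy => IsHausdorff.haus' (I := I) y fun n => by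
      rw [SModEq.zero]
      exact hy n) x 0
    (by
      intro k y hy
      have h1 : (I ^ k • ⊤ : Submodule P M) ≤
          I ^ k • Submodule.span P (Set.range x) ⊔ I ^ (k + 1) • ⊤ := by
        calc (I ^ k • ⊤ : Submodule P M)
            ≤ I ^ k • (Submodule.span P (Set.range x) ⊔ (I • ⊤ : Submodule P M)) :=
              Submodule.smul_mono le_rfl h
          _ = I ^ k • Submodule.span P (Set.range x) ⊔ I ^ k • (I • ⊤ : Submodule P M) :=
              Submodule.smul_sup _ _ _
          _ = I ^ k • Submodule.span P (Set.range x) ⊔ I ^ (k + 1) • ⊤ := by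
              rw [← mul_smul, ← pow_succ]
      obtain ⟨n', hn', z, hz, rfl⟩ := Submodule.mem_sup.1 (h1 hy)
      obtain ⟨a, ha, rfl⟩ := (Submodule.mem_ideal_smul_span_iff_exists_sum _ _ _).1 hn'
      refine ⟨fun i => a i, fun i => by simpa using ha i, ?_⟩
      have hsum : (a.sum fun i c => c • x i) = ∑ i, a i • x i :=
        Finsupp.sum_fintype _ _ (fun i => zero_smul _ _)
      rw [hsum, add_sub_cancel_left]
      exact hz)
    (by
      intro k i a ha
      rw [add_zero] at ha
      exact Submodule.smul_mem_smul ha Submodule.mem_top)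
    y (by rw [pow_zero, Ideal.one_eq_top, Submodule.top_smul]; exact Submodule.mem_top)
  obtain ⟨a, -, rfl⟩ := key
  exact Submodule.sum_mem _ fun i _ => Submodule.smul_mem _ _ (Submodule.subset_span ⟨i, rfl⟩)

end Nakayama

end Groth.Agent.Lib.Seat73.FreeCrit
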