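import Mathlib

/-!
# A "Hartogs" lemma over a unique factorization domain

Let `R` be a UFD, `A` a torsion-free `R`-module and `e` an `R`-linearly independent family in `A`
with span `N`.  If a submodule `S` of `A` satisfies `D • S ≤ N` for some `D ≠ 0`, and for every
prime element `π` of `R` there is `f` not divisible by `π` with `f • S ≤ N`, then `S ≤ N`.
-/

set_option autoImplicit false
universe u v

namespace Groth.Agent.Lib.Seat73.Hartogs

variable {R : Type u} [CommRing R] [IsDomain R]
  {A : Type v} [AddCommGroup A] [Module R A] [Module.IsTorsionFree R A]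
  {ι : Type*} {e : ι → A}

/-- the basic step: if `π y` and `f y` are in the span of a linearly independent family and `π` is
a prime not dividing `f`, then `y` is in the span. -/
theorem mem_span_of_prime_smul_mem (he : LinearIndependent R e) {π f : R} (hπ : Prime π)
    (hf : ¬ π ∣ f) {y : A} (h1 : π • y ∈ Submodule.span R (Set.range e))
    (h2 : f • y ∈ Submodule.span R (Set.range e)) : y ∈ Submodule.span R (Set.range e) := by
  rw [Finsupp.mem_span_range_iff_exists_finsupp] at h1 h2
  obtain ⟨r, hr⟩ := h1
  obtain ⟨s, hs⟩ := h2
  -- `f • r = π • s`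
  have hrs : f • r = π • s := by
    apply he.finsuppLinearCombination_injective
    show Finsupp.linearCombination R e (f • r) = Finsupp.linearCombination R e (π • s)
    rw [map_smul, map_smul, Finsupp.linearCombination_apply, Finsupp.linearCombination_apply, hr, hs,
      smul_comm]
  have hdiv : ∀ j, π ∣ r j := by
    intro j
    have h3 : f * r j = π * s j := by
      have := DFunLike.congr_fun hrs j
      simpa using this
    have h4 : π ∣ f * r j := ⟨s j, h3⟩
    exact (hπ.dvd_or_dvd h4).resolve_left hf
  choose r' hr' using hdiv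
  rw [Finsupp.mem_span_range_iff_exists_finsupp]
  have hsupp : ∀ j, r' j ≠ 0 → j ∈ r.support := by
    intro j hj
    rw [Finsupp.mem_support_iff, hr' j]
    exact mul_ne_zero hπ.ne_zero hj
  refine ⟨Finsupp.onFinset r.support r' hsupp, ?_⟩
  have h5 : π • (Finsupp.onFinset r.support r' hsupp).sum (fun i a => a • e i) = π • y := by
    rw [← hr, Finsupp.smul_sum]
    rw [Finsupp.sum, Finsupp.sum]
    refine (Finset.sum_subset (Finsupp.support_onFinset_subset) ?_).trans
      (Finset.sum_congr rfl ?_)
    · intro j _ hj
      rw [Finsupp.notMem_support_iff] at hj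
      rw [hj, zero_smul, smul_zero]
    · intro j _
      rw [Finsupp.onFinset_apply, smul_smul, ← hr' j]
  exact (smul_right_injective A hπ.ne_zero) h5

/-- **Hartogs lemma** over a UFD. -/
theorem le_span_of_forall_prime [UniqueFactorizationMonoid R] (he : LinearIndependent R e)
    (S : Submodule R A) (D : R) (hD : D ≠ 0)
    (hDS : ∀ x ∈ S, D • x ∈ Submodule.span R (Set.range e))
    (hprime : ∀ π : R, Prime π → ∃ f : R, ¬ π ∣ f ∧
      ∀ x ∈ S, f • x ∈ Submodule.span R (Set.range e)) :
    S ≤ Submodule.span R (Set.range e) := by
  have key : ∀ D : R, D ≠ 0 → ∀ x ∈ S, D • x ∈ Submodule.span R (Set.range e) →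
      x ∈ Submodule.span R (Set.range e) := by
    intro D
    induction D using UniqueFactorizationMonoid.induction_on_prime with
    | h₁ => intro h; exact absurd rfl h
    | h₂ u hu =>
      intro _ x _ hx
      obtain ⟨u, rfl⟩ := hu
      have := Submodule.smul_mem _ (↑u⁻¹ : R) hx
      rwa [smul_smul, Units.inv_mul, one_smul] at this
    | h₃ a π ha hπ ih =>
      intro _ x hxS hx
      obtain ⟨f, hf, hfS⟩ := hprime π hπ
      apply ih ha x hxS
      apply mem_span_of_prime_smul_mem he hπ hf
      · rwa [smul_smul]
      · exact hfS _ (Submodule.smul_mem _ _ hxS)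
  intro x hx
  exact key D hD x hx (hDS x hx)

end Groth.Agent.Lib.Seat73.Hartogs
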