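import Mathlib
import Groth.Agent.Lib.Seat73FlatAss

/-!
# Morphisms from a flat affine scheme over a Noetherian base agreeing over an open
containing the associated points agree.
-/

set_option autoImplicit false
universe u

namespace Groth.Agent.Lib.Seat73.HomExt

open CategoryTheory AlgebraicGeometry

variable {X Y : Scheme.{u}}

/-- If two morphisms agree on the open `V`, their `appLE` into sections over `V` agree. -/
theorem appLE_eq_of_ι_comp_eq (φ ψ : X ⟶ Y) (O : Y.Opens) (V : X.Opens)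
    (e : V ≤ φ ⁻¹ᵁ O) (e' : V ≤ ψ ⁻¹ᵁ O) (h : V.ι ≫ φ = V.ι ≫ ψ) :
    φ.appLE O V e = ψ.appLE O V e' := by
  have h1 : φ.resLE O V e = ψ.resLE O V e' := by
    rw [← cancel_mono O.ι, Scheme.Hom.resLE_comp_ι, Scheme.Hom.resLE_comp_ι, h]
  have h2 := congrArg (fun f => Scheme.Hom.appTop f) h1
  simp only [Scheme.Hom.appTop, Scheme.Hom.resLE_app_top] at h2
  rw [← cancel_epi O.topIso.hom, ← cancel_mono V.topIso.inv]
  simpa only [Category.assoc] using h2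

/-- If the `appLE` of two morphisms agree for an affine open target `O`, the morphisms agree
on the source open. -/
theorem ι_comp_eq_of_appLE_eq (φ ψ : X ⟶ Y) (O : Y.Opens) (hO : IsAffineOpen O) (V : X.Opens)
    (e : V ≤ φ ⁻¹ᵁ O) (e' : V ≤ ψ ⁻¹ᵁ O) (h : φ.appLE O V e = ψ.appLE O V e') :
    V.ι ≫ φ = V.ι ≫ ψ := by
  have : IsAffine O.toScheme := hO
  have h1 : φ.resLE O V e = ψ.resLE O V e' := by
    apply ext_of_isAffine
    simp only [Scheme.Hom.appTop, Scheme.Hom.resLE_app_top, h]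
  rw [← Scheme.Hom.resLE_comp_ι φ e, ← Scheme.Hom.resLE_comp_ι ψ e', h1]


/-- Two morphisms `G₁ ⟶ G₂` over a locally Noetherian base `S`, with `G₁ → S` affine and flat and
`G₂ → S` affine, which agree over an open `U ⊆ S` containing all associated points of `S`,
are equal. -/
theorem hom_ext_of_flat {S G₁ G₂ : Scheme.{u}} [IsLocallyNoetherian S] (f₁ : G₁ ⟶ S) (f₂ : G₂ ⟶ S)
    [IsAffineHom f₁] [Flat f₁] [IsAffineHom f₂]
    (U : S.Opens)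
    (hU : ∀ s : S, IsLocalRing.maximalIdeal (S.presheaf.stalk s) ∈
        associatedPrimes (S.presheaf.stalk s) (S.presheaf.stalk s) → s ∈ U)
    (φ ψ : G₁ ⟶ G₂) (hφ : φ ≫ f₂ = f₁) (hψ : ψ ≫ f₂ = f₁)
    (h : (f₁ ⁻¹ᵁ U).ι ≫ φ = (f₁ ⁻¹ᵁ U).ι ≫ ψ) : φ = ψ := by
  apply Scheme.hom_ext_of_forall
  intro x
  obtain ⟨_, ⟨V, hV0, rfl⟩, hxV, -⟩ :=
    S.isBasis_affineOpens.exists_subset_of_mem_open (Set.mem_univ (f₁ x)) isOpen_univ
  have hV : IsAffineOpen V := hV0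
  refine ⟨f₁ ⁻¹ᵁ V, hxV, ?_⟩
  have hW₁ : IsAffineOpen (f₁ ⁻¹ᵁ V) := hV.preimage f₁
  have hW₂ : IsAffineOpen (f₂ ⁻¹ᵁ V) := hV.preimage f₂
  have e : f₁ ⁻¹ᵁ V ≤ φ ⁻¹ᵁ (f₂ ⁻¹ᵁ V) := by rw [← Scheme.Hom.comp_preimage, hφ]
  have e' : f₁ ⁻¹ᵁ V ≤ ψ ⁻¹ᵁ (f₂ ⁻¹ᵁ V) := by rw [← Scheme.Hom.comp_preimage, hψ]
  apply ι_comp_eq_of_appLE_eq φ ψ _ hW₂ _ e e'
  ext c
  have hnoeth : IsNoetherianRing Γ(S, V) := IsLocallyNoetherian.component_noetherian ⟨V, hV⟩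
  let alg : Algebra Γ(S, V) Γ(G₁, f₁ ⁻¹ᵁ V) := (f₁.app V).hom.toAlgebra
  have hflat : Module.Flat Γ(S, V) Γ(G₁, f₁ ⁻¹ᵁ V) := by
    have := Scheme.Hom.flat_appLE f₁ hV hW₁ le_rfl
    rwa [Scheme.Hom.appLE_eq_app] at this
  rw [← sub_eq_zero]
  apply FlatAss.eq_zero_of_forall_associatedPrimes (R := Γ(S, V))
  intro q hq
  have hqprime : q.IsPrime := hq.isPrime
  set y : PrimeSpectrum Γ(S, V) := ⟨q, hqprime⟩ with hy
  have hyV : hV.fromSpec y ∈ V := by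
    have : hV.fromSpec y ∈ Set.range hV.fromSpec := ⟨y, rfl⟩
    rwa [hV.range_fromSpec] at this
  -- the point lies in `U`
  have hsU : hV.fromSpec y ∈ U := by
    apply hU
    let algst : Algebra Γ(S, V) (S.presheaf.stalk (hV.fromSpec y)) :=
      TopCat.Presheaf.algebra_section_stalk S.presheaf ⟨hV.fromSpec y, hyV⟩
    have loc : IsLocalization.AtPrime (S.presheaf.stalk (hV.fromSpec y)) y.asIdeal :=
      hV.isLocalization_stalk' y hyV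
    apply Module.associatedPrimes.mem_associatedPrimes_of_comap_mem_associatedPrimes_of_isLocalizedModule
      q.primeCompl (Algebra.linearMap Γ(S, V) (S.presheaf.stalk (hV.fromSpec y)))
    have hc : Ideal.comap (algebraMap Γ(S, V) (S.presheaf.stalk (hV.fromSpec y)))
        (IsLocalRing.maximalIdeal (S.presheaf.stalk (hV.fromSpec y))) = q :=
      IsLocalization.AtPrime.under_maximalIdeal (S.presheaf.stalk (hV.fromSpec y)) q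
    rw [hc]
    exact hq
  obtain ⟨g, hgU, hsg⟩ := hV.exists_basicOpen_le (V := U) ⟨hV.fromSpec y, hsU⟩ hyV
  have hgq : g ∉ q := by
    have : y ∈ hV.fromSpec ⁻¹ᵁ S.basicOpen g := hsg
    rw [hV.fromSpec_preimage_basicOpen] at this
    exact this
  -- vanishing on the basic open
  set D : G₁.Opens := G₁.basicOpen (f₁.app V g) with hD
  have hDeq : D = f₁ ⁻¹ᵁ S.basicOpen g := (Scheme.preimage_basicOpen f₁ g).symm
  have hDU : D ≤ f₁ ⁻¹ᵁ U := by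
    rw [hDeq]
    exact Scheme.Hom.preimage_mono f₁ hgU
  have hDV : D ≤ f₁ ⁻¹ᵁ V := G₁.basicOpen_le _
  have hDι : D.ι ≫ φ = D.ι ≫ ψ := by
    rw [← Scheme.homOfLE_ι G₁ hDU, Category.assoc, Category.assoc, h]
  have happ := appLE_eq_of_ι_comp_eq φ ψ (f₂ ⁻¹ᵁ V) D (hDV.trans e) (hDV.trans e') hDι
  have hres : (φ.appLE (f₂ ⁻¹ᵁ V) (f₁ ⁻¹ᵁ V) e c - ψ.appLE (f₂ ⁻¹ᵁ V) (f₁ ⁻¹ᵁ V) e' c) |_ D = 0 := by
    have h1 : ∀ (χ : G₁ ⟶ G₂) (eχ : f₁ ⁻¹ᵁ V ≤ χ ⁻¹ᵁ (f₂ ⁻¹ᵁ V)),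
        (χ.appLE (f₂ ⁻¹ᵁ V) (f₁ ⁻¹ᵁ V) eχ c) |_ D = χ.appLE (f₂ ⁻¹ᵁ V) D (hDV.trans eχ) c := by
      intro χ eχ
      rw [← Scheme.Hom.appLE_map χ eχ (homOfLE hDV).op]
      rfl
    have h2 : (φ.appLE (f₂ ⁻¹ᵁ V) (f₁ ⁻¹ᵁ V) e c - ψ.appLE (f₂ ⁻¹ᵁ V) (f₁ ⁻¹ᵁ V) e' c) |_ D =
        (φ.appLE (f₂ ⁻¹ᵁ V) (f₁ ⁻¹ᵁ V) e c) |_ D - (ψ.appLE (f₂ ⁻¹ᵁ V) (f₁ ⁻¹ᵁ V) e' c) |_ D :=
      map_sub _ _ _
    rw [h2, h1 φ e, h1 ψ e', happ, sub_self]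
  obtain ⟨n, hn⟩ := exists_pow_mul_eq_zero_of_res_basicOpen_eq_zero_of_isAffineOpen G₁ hW₁ _
    (f₁.app V g) hres
  refine ⟨g ^ n, fun hmem => hgq (hqprime.mem_of_pow_mem n hmem), ?_⟩
  rw [Algebra.smul_def, map_pow]
  exact hn

end Groth.Agent.Lib.Seat73.HomExt
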