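import Mathlib

/-!
# Subgroups of order `p` generating a commutative group of order `p ^ n`

If `n` subgroups of order `p` generate a commutative group of order `p ^ n`, they are independent.
-/

set_option autoImplicit false
universe w

namespace Groth.Agent.Lib.Seat73.IndepSub

variable {H : Type w} [Group H] [Finite H] {n : ℕ} (Gi : Fin n → Subgroup H)

theorem disjoint_erase (hcomm : ∀ g h : H, g * h = h * g) (p : ℕ) (hcard : Nat.card H = p ^ n)
    (hGi : ∀ i, Nat.card (Gi i) = p) (hsup : (⨆ i, Gi i) = ⊤) (i : Fin n) :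
    Disjoint (Gi i) (⨆ j ∈ (Finset.univ.erase i : Finset (Fin n)), Gi j) := by
  classical
  have hc : Pairwise fun i j : Fin n => ∀ x y : H, x ∈ Gi i → y ∈ Gi j → Commute x y :=
    fun _ _ _ x y _ _ => hcomm x y
  have hsurj : Function.Surjective (Subgroup.noncommPiCoprod hc) := by
    rw [← MonoidHom.range_eq_top, Subgroup.noncommPiCoprod_range, hsup]
  have hcardpi : Nat.card (∀ i, Gi i) = Nat.card H := by
    rw [Nat.card_pi, hcard]
    simp [hGi]
  have hinj : Function.Injective (Subgroup.noncommPiCoprod hc) :=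
    (hsurj.bijective_of_nat_card_le hcardpi.le).injective
  rw [Subgroup.disjoint_def]
  intro x hx1 hx2
  -- `x` is the image of some `u` with `u i = 1`
  have hle : (⨆ j ∈ (Finset.univ.erase i : Finset (Fin n)), Gi j) ≤
      (MonoidHom.ker (Pi.evalMonoidHom (fun i => Gi i) i)).map (Subgroup.noncommPiCoprod hc) := by
    refine iSup₂_le fun j hj y hy => ?_
    refine ⟨Pi.mulSingle j ⟨y, hy⟩, ?_, ?_⟩
    · rw [SetLike.mem_coe, MonoidHom.mem_ker, Pi.evalMonoidHom_apply,
        Pi.mulSingle_eq_of_ne (Finset.ne_of_mem_erase hj).symm]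
    · rw [Subgroup.noncommPiCoprod_mulSingle]
  obtain ⟨u, hu, hux⟩ := hle hx2
  have h1 : Subgroup.noncommPiCoprod hc (Pi.mulSingle i ⟨x, hx1⟩) = x := by
    rw [Subgroup.noncommPiCoprod_mulSingle]
  have h2 : u = Pi.mulSingle i ⟨x, hx1⟩ := hinj (hux.trans h1.symm)
  rw [SetLike.mem_coe, MonoidHom.mem_ker, Pi.evalMonoidHom_apply, h2, Pi.mulSingle_eq_same] at hu
  exact congrArg Subtype.val hu

/-- the lattice identity used in the induction -/
theorem biSup_compl_insert (hcomm : ∀ g h : H, g * h = h * g) (p : ℕ) (hcard : Nat.card H = p ^ n)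
    (hGi : ∀ i, Nat.card (Gi i) = p) (hsup : (⨆ i, Gi i) = ⊤) (S : Finset (Fin n)) (i : Fin n)
    (hi : i ∉ S) :
    (⨆ j ∈ (insert i S)ᶜ, Gi j) =
      (⨆ j ∈ Sᶜ, Gi j) ⊓ (⨆ j ∈ (Finset.univ.erase i : Finset (Fin n)), Gi j) := by
  apply le_antisymm
  · refine le_inf ?_ ?_
    · refine biSup_mono fun j hj => ?_
      rw [Finset.mem_compl] at hj ⊢
      exact fun h => hj (Finset.mem_insert_of_mem h)
    · refine biSup_mono fun j hj => ?_
      rw [Finset.mem_compl] at hj
      exact Finset.mem_erase.mpr ⟨fun h => hj (h ▸ Finset.mem_insert_self i S), Finset.mem_univ _⟩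
  · intro x hx
    have hSc : Sᶜ = insert i (insert i S)ᶜ := by
      ext j
      simp only [Finset.mem_compl, Finset.mem_insert]
      constructor
      · intro hj
        by_cases hji : j = i
        · exact Or.inl hji
        · exact Or.inr (fun h => h.elim hji hj)
      · rintro (rfl | hj)
        · exact hi
        · exact fun h => hj (Or.inr h)
    have hKn : (⨆ j ∈ (insert i S)ᶜ, Gi j).Normal :=
      ⟨fun n hn g => by rw [hcomm g n, mul_inv_cancel_right]; exact hn⟩
    have hx1 : x ∈ (⨆ j ∈ Sᶜ, Gi j) := hx.1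
    rw [hSc, Finset.iSup_insert, Subgroup.mem_sup_of_normal_right] at hx1
    obtain ⟨g, hg, k, hk, rfl⟩ := hx1
    have hkV : k ∈ (⨆ j ∈ (Finset.univ.erase i : Finset (Fin n)), Gi j) := by
      refine (biSup_mono fun j hj => ?_ : (⨆ j ∈ (insert i S)ᶜ, Gi j) ≤ _) hk
      rw [Finset.mem_compl] at hj
      exact Finset.mem_erase.mpr ⟨fun h => hj (h ▸ Finset.mem_insert_self i S), Finset.mem_univ _⟩
    have hgV : g ∈ (⨆ j ∈ (Finset.univ.erase i : Finset (Fin n)), Gi j) := by
      have := Subgroup.mul_mem _ hx.2 (Subgroup.inv_mem _ hkV)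
      rwa [mul_inv_cancel_right] at this
    have hg1 : g = 1 :=
      Subgroup.disjoint_def.mp (disjoint_erase Gi hcomm p hcard hGi hsup i) hg hgV
    rw [hg1, one_mul]
    exact hk

end Groth.Agent.Lib.Seat73.IndepSub
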