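import Mathlib

/-!
# Inertia groups and invariants of a normal subgroup

Let a finite group `H` act on a commutative ring `A`, let `V` be a normal subgroup and `P` a prime
of `A` whose inertia group is contained in `V`.  If `h ∈ H` acts trivially on `A^V` modulo `P`,
then `h ∈ V`.
-/

set_option autoImplicit false
universe u w

namespace Groth.Agent.Lib.Seat73.InertiaImage

open scoped Pointwise

variable {A : Type u} [CommRing A] {H : Type w} [Group H] [Finite H] [MulSemiringAction H A]

instance smulCommClass_fixedPoints (V : Subgroup H) :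
    SMulCommClass V (FixedPoints.subring A V) A where
  smul_comm v b a := by
    rw [Subring.smul_def, Subring.smul_def, smul_eq_mul, smul_eq_mul, smul_mul', b.2 v]

instance isInvariant_fixedPoints (V : Subgroup H) :
    Algebra.IsInvariant (FixedPoints.subring A V) A V where
  isInvariant a ha := ⟨⟨a, ha⟩, rfl⟩

theorem mem_of_forall_smul_sub_mem (V : Subgroup H) [V.Normal] (P : Ideal A) [P.IsPrime]
    (hI : P.inertia H ≤ V) (h : H)
    (hh : ∀ a : A, (∀ v : V, v • a = a) → h • a - a ∈ P) : h ∈ V := by
  -- step 1: `P` and `h⁻¹ • P` lie over the same prime of `A^V`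
  have hunder : P.under (FixedPoints.subring A V) = (h⁻¹ • P).under (FixedPoints.subring A V) := by
    ext b
    rw [Ideal.under_def, Ideal.under_def, Ideal.mem_comap, Ideal.mem_comap,
      Ideal.mem_inv_pointwise_smul_iff]
    have e : algebraMap (FixedPoints.subring A V) A b = (b : A) := rfl
    rw [e]
    have hb := hh (b : A) b.2
    constructor
    · intro hbP
      have := P.add_mem hb hbP
      rwa [sub_add_cancel] at this
    · intro hbP
      have := P.sub_mem hbP hb
      rwa [sub_sub_cancel] at this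
  obtain ⟨v, hv⟩ := Algebra.IsInvariant.exists_smul_of_under_eq (FixedPoints.subring A V) A V
    P (h⁻¹ • P) hunder
  -- `g = h * v` stabilizes `P`
  obtain ⟨g, hg⟩ : ∃ g : H, g = h * (v : H) := ⟨_, rfl⟩
  have hgP : g • P = P := by
    have h1 : (v : H) • P = h⁻¹ • P := hv.symm
    rw [hg, mul_smul, h1, smul_inv_smul]
  have hgV : h ∈ V ↔ g ∈ V := by
    rw [hg]
    exact (Subgroup.mul_mem_cancel_right V v.2).symm
  rw [hgV]
  have hgB : ∀ a : A, (∀ v : V, v • a = a) → g • a - a ∈ P := by
    intro a ha
    have h1 : g • a = h • a := by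
      rw [hg, mul_smul]
      congr 1
      exact ha v
    rw [h1]
    exact hh a ha
  -- the automorphism of `A ⧸ P` over `A^V ⧸ Q` induced by `g`
  have hmap : P = P.map ((MulSemiringAction.toRingEquiv H A g : A ≃+* A) : A →+* A) := by
    conv_lhs => rw [← hgP]
    rfl
  obtain ⟨σ, hσ⟩ : ∃ σ : (A ⧸ P) ≃ₐ[(FixedPoints.subring A V) ⧸ P.under (FixedPoints.subring A V)]
      (A ⧸ P), ∀ a : A, σ (Ideal.Quotient.mk P a) = Ideal.Quotient.mk P (g • a) := by
    refine ⟨{ Ideal.quotientEquiv P P (MulSemiringAction.toRingEquiv H A g) hmap with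
      commutes' := ?_ }, fun a => rfl⟩
    intro r
    obtain ⟨b, rfl⟩ := Ideal.Quotient.mk_surjective r
    have e1 : algebraMap ((FixedPoints.subring A V) ⧸ P.under (FixedPoints.subring A V)) (A ⧸ P)
        (Ideal.Quotient.mk _ b) = Ideal.Quotient.mk P (b : A) := rfl
    rw [e1]
    show Ideal.Quotient.mk P (g • (b : A)) = Ideal.Quotient.mk P (b : A)
    rw [Ideal.Quotient.eq]
    exact hgB b b.2
  obtain ⟨v', hv'⟩ := Ideal.Quotient.stabilizerHom_surjective V
    (P.under (FixedPoints.subring A V)) P σ
  -- `g⁻¹ * v'` lies in the inertia group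
  have hin : g⁻¹ * ((v' : V) : H) ∈ P.inertia H := by
    intro a
    have h1 : Ideal.Quotient.mk P ((v' : V) • a) = Ideal.Quotient.mk P (g • a) := by
      rw [← hσ a, ← hv']
      rfl
    rw [Ideal.Quotient.eq] at h1
    have h2 : g⁻¹ • (((v' : V) : H) • a - g • a) ∈ g⁻¹ • P := Ideal.smul_mem_pointwise_smul _ _ _ h1
    have h3 : g⁻¹ • P = P := by
      rw [inv_smul_eq_iff, hgP]
    rw [h3, smul_sub, inv_smul_smul, ← mul_smul] at h2
    exact h2
  have h4 := hI hin
  have h5 : g⁻¹ ∈ V := (Subgroup.mul_mem_cancel_right V (v' : V).2).mp h4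
  exact (Subgroup.inv_mem_iff V).mp h5

end Groth.Agent.Lib.Seat73.InertiaImage
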