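import Mathlib

/-!
Speiser's lemma (Galois descent for vector spaces) in embedded form, and the "no-name lemma":
for a finite group `G` of automorphisms of a field `L`, a `G`-stable subfield `K` on which `G` acts
faithfully, and a `G`-stable `K`-subspace `W ⊆ L`, `W` is spanned over `K` by its `G`-fixed vectors.
-/

set_option autoImplicit false

namespace Groth.Agent.Lib.Seat73.Speiser

open IntermediateField

variable {k L : Type*} [Field k] [Field L] [Algebra k L]
  (G : Subgroup (L ≃ₐ[k] L)) [Finite G] (K : IntermediateField k L)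

/-- The restriction of `σ` to `K`, as a multiplicative character `K →* L`. -/
noncomputable def chi (σ : G) : K →* L :=
  (((σ : L ≃ₐ[k] L) : L →ₐ[k] L).comp K.val : K →ₐ[k] L)

theorem chi_apply (σ : G) (a : K) : chi G K σ a = (σ : L ≃ₐ[k] L) (a : L) := rfl

theorem chi_injective (hfaith : ∀ σ ∈ G, (∀ a ∈ K, σ a = a) → σ = 1) :
    Function.Injective (chi G K) := by
  intro σ τ h
  have h1 : ((τ⁻¹ * σ : G) : L ≃ₐ[k] L) = 1 := by
    apply hfaith _ (τ⁻¹ * σ).2
    intro a ha
    have h2 : (σ : L ≃ₐ[k] L) a = (τ : L ≃ₐ[k] L) a := by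
      have := DFunLike.congr_fun h ⟨a, ha⟩
      simpa [chi_apply] using this
    simp only [Subgroup.coe_mul, Subgroup.coe_inv, AlgEquiv.mul_apply, h2]
    exact (τ : L ≃ₐ[k] L).symm_apply_apply a
  have h3 : τ⁻¹ * σ = 1 := Subtype.ext h1
  exact (inv_mul_eq_one.mp h3).symm

theorem linearIndependent_chi (hfaith : ∀ σ ∈ G, (∀ a ∈ K, σ a = a) → σ = 1) :
    LinearIndependent L (fun σ : G => (chi G K σ : K → L)) :=
  (linearIndependent_monoidHom K L).comp (chi G K) (chi_injective G K hfaith)

/-- **Speiser's lemma**, embedded form. -/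
theorem le_span_fixed
    (hK : ∀ σ ∈ G, ∀ a ∈ K, σ a ∈ K)
    (hfaith : ∀ σ ∈ G, (∀ a ∈ K, σ a = a) → σ = 1)
    (W : Submodule K L) (hW : ∀ σ ∈ G, ∀ w ∈ W, σ w ∈ W) :
    W ≤ Submodule.span K {w | w ∈ W ∧ ∀ σ ∈ G, σ w = w} := by
  classical
  have _ft : Fintype G := Fintype.ofFinite G
  intro w hw
  by_contra hnot
  obtain ⟨φ, hφw, hφ⟩ := Submodule.exists_dual_map_eq_bot_of_notMem hnot inferInstance
  have hvan : ∀ v ∈ {w | w ∈ W ∧ ∀ σ ∈ G, σ w = w}, φ v = 0 := by
    intro v hv
    have : φ v ∈ Submodule.map φ (Submodule.span K {w | w ∈ W ∧ ∀ σ ∈ G, σ w = w}) :=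
      Submodule.mem_map_of_mem (Submodule.subset_span hv)
    rw [hφ] at this
    exact (Submodule.mem_bot K).mp this
  -- the trace of `a • w`
  have htr : ∀ a : K, (∑ σ : G, (⟨(σ : L ≃ₐ[k] L) (a : L), hK _ σ.2 _ a.2⟩ : K) • ((σ : L ≃ₐ[k] L) w))
      ∈ {w | w ∈ W ∧ ∀ σ ∈ G, σ w = w} := by
    intro a
    refine ⟨Submodule.sum_mem _ fun σ _ => Submodule.smul_mem _ _ (hW _ σ.2 _ hw), ?_⟩
    intro τ hτ
    rw [map_sum]
    refine Fintype.sum_equiv (Equiv.mulLeft (⟨τ, hτ⟩ : G)) _ _ fun σ => ?_
    simp only [IntermediateField.smul_def, smul_eq_mul, map_mul, Equiv.coe_mulLeft,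
      Subgroup.coe_mul, AlgEquiv.mul_apply]
  have hsum : ∀ a : K, ∑ σ : G, ((φ ((σ : L ≃ₐ[k] L) w) : K) : L) * chi G K σ a = 0 := by
    intro a
    have h1 := hvan _ (htr a)
    rw [map_sum] at h1
    have h2 : ((∑ σ : G, φ ((⟨(σ : L ≃ₐ[k] L) (a : L), hK _ σ.2 _ a.2⟩ : K) • ((σ : L ≃ₐ[k] L) w)) : K) : L)
        = 0 := by rw [h1]; rfl
    rw [← h2]
    push_cast
    refine Finset.sum_congr rfl fun σ _ => ?_
    rw [map_smul, smul_eq_mul]
    push_cast
    rw [chi_apply, mul_comm]
  have hli := Fintype.linearIndependent_iff.mp (linearIndependent_chi G K hfaith)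
    (fun σ => ((φ ((σ : L ≃ₐ[k] L) w) : K) : L))
    (by
      funext a
      rw [Finset.sum_apply, Pi.zero_apply]
      simp only [Pi.smul_apply, smul_eq_mul]
      exact hsum a) 1
  apply hφw
  simpa using hli

/-- A `G`-stable `K`-span of a linearly independent family `y` has a basis of `G`-fixed vectors. -/
theorem exists_fixed_basis
    (hK : ∀ σ ∈ G, ∀ a ∈ K, σ a ∈ K)
    (hfaith : ∀ σ ∈ G, (∀ a ∈ K, σ a = a) → σ = 1)
    {m : ℕ} (y : Fin m → L) (hy : LinearIndependent K y)
    (hGy : ∀ σ ∈ G, ∀ j, σ (y j) ∈ Submodule.span K (Set.range y)) :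
    ∃ t : Fin m → L, (∀ j, ∀ σ ∈ G, σ (t j) = t j) ∧
      (∀ j, t j ∈ Submodule.span K (Set.range y)) ∧
      (∀ j, y j ∈ Submodule.span K (Set.range t)) := by
  classical
  set W : Submodule K L := Submodule.span K (Set.range y) with hWdef
  have hW : ∀ σ ∈ G, ∀ w ∈ W, σ w ∈ W := by
    intro σ hσ w hw
    induction hw using Submodule.span_induction with
    | mem x hx =>
      obtain ⟨j, rfl⟩ := hx
      exact hGy σ hσ j
    | zero => rw [map_zero]; exact Submodule.zero_mem _
    | add x z _ _ hx hz => rw [map_add]; exact Submodule.add_mem _ hx hz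
    | smul a x _ hx =>
      have : σ (a • x) = (⟨σ (a : L), hK σ hσ _ a.2⟩ : K) • σ x := by
        simp only [IntermediateField.smul_def, smul_eq_mul, map_mul]
      rw [this]
      exact Submodule.smul_mem _ _ hx
  have hspan : Submodule.span K {w | w ∈ W ∧ ∀ σ ∈ G, σ w = w} = W :=
    le_antisymm (Submodule.span_le.mpr fun v hv => hv.1) (le_span_fixed G K hK hfaith W hW)
  have _fin : Module.Finite K ↥(Submodule.span K {w | w ∈ W ∧ ∀ σ ∈ G, σ w = w}) := by
    rw [hspan]
    exact Module.Finite.span_of_finite K (Set.finite_range y)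
  obtain ⟨f, hfS, hfspan, -⟩ :=
    Submodule.exists_fun_fin_finrank_span_eq K {w | w ∈ W ∧ ∀ σ ∈ G, σ w = w}
  have hn : Module.finrank K (Submodule.span K {w | w ∈ W ∧ ∀ σ ∈ G, σ w = w}) = m := by
    rw [hspan, hWdef, finrank_span_eq_card hy, Fintype.card_fin]
  refine ⟨f ∘ Fin.cast hn.symm, fun j σ hσ => (hfS _).2 σ hσ, fun j => (hfS _).1, fun j => ?_⟩
  have hr : Set.range (f ∘ Fin.cast hn.symm) = Set.range f := by
    exact (finCongr hn.symm).surjective.range_comp f
  rw [hr, hfspan, hspan]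
  exact Submodule.subset_span ⟨j, rfl⟩

end Groth.Agent.Lib.Seat73.Speiser

namespace Groth.Agent.Lib.Seat73.Speiser

/-- Algebraic independence is preserved by an invertible linear change of the family. -/
theorem algebraicIndependent_of_span {K L : Type*} [Field K] [Field L] [Algebra K L] {m : ℕ}
    (y t : Fin m → L) (hy : AlgebraicIndependent K y)
    (ht : ∀ j, t j ∈ Submodule.span K (Set.range y))
    (hyt : ∀ j, y j ∈ Submodule.span K (Set.range t)) :
    AlgebraicIndependent K t := by
  classical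
  choose B hB using fun j => (Submodule.mem_span_range_iff_exists_fun K).mp (ht j)
  choose C hC using fun j => (Submodule.mem_span_range_iff_exists_fun K).mp (hyt j)
  -- `C * B = 1`
  have hCB : (Matrix.of C) * (Matrix.of B) = (1 : Matrix (Fin m) (Fin m) K) := by
    ext j l
    have h1 : ∑ l, ((∑ i, C j i * B i l) - (if j = l then 1 else 0)) • y l = 0 := by
      simp only [sub_smul, Finset.sum_sub_distrib, Finset.sum_smul, ite_smul, one_smul, zero_smul,
        Finset.sum_ite_eq, Finset.mem_univ, if_true]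
      rw [sub_eq_zero, Finset.sum_comm]
      conv_rhs => rw [← hC j]
      refine Finset.sum_congr rfl fun i _ => ?_
      rw [← hB i, Finset.smul_sum]
      refine Finset.sum_congr rfl fun l _ => ?_
      rw [mul_smul]
    have h2 := Fintype.linearIndependent_iff.mp hy.linearIndependent _ h1 l
    rw [Matrix.mul_apply, Matrix.one_apply]
    simpa [sub_eq_zero] using h2
  have hBC : (Matrix.of B) * (Matrix.of C) = (1 : Matrix (Fin m) (Fin m) K) :=
    mul_eq_one_comm.mp hCB
  obtain ⟨p, hp⟩ : ∃ p : Fin m → MvPolynomial (Fin m) K,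
      p = fun j => ∑ i, B j i • MvPolynomial.X i := ⟨_, rfl⟩
  obtain ⟨q, hq⟩ : ∃ q : Fin m → MvPolynomial (Fin m) K,
      q = fun j => ∑ i, C j i • MvPolynomial.X i := ⟨_, rfl⟩
  have hqp : (MvPolynomial.aeval q).comp (MvPolynomial.aeval p) =
      AlgHom.id K (MvPolynomial (Fin m) K) := by
    apply MvPolynomial.algHom_ext
    intro j
    rw [AlgHom.comp_apply, MvPolynomial.aeval_X, AlgHom.id_apply, hp]
    simp only [map_sum, map_smul, MvPolynomial.aeval_X, hq, Finset.smul_sum]
    rw [Finset.sum_comm]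
    have : ∀ l, ∑ i, B j i • C i l • (MvPolynomial.X l : MvPolynomial (Fin m) K) =
        (if j = l then (1 : K) else 0) • MvPolynomial.X l := by
      intro l
      have h3 := congrFun (congrFun hBC j) l
      rw [Matrix.mul_apply, Matrix.one_apply] at h3
      simp only [Matrix.of_apply] at h3
      rw [← h3, Finset.sum_smul]
      refine Finset.sum_congr rfl fun i _ => ?_
      rw [mul_smul]
    rw [Finset.sum_congr rfl fun l _ => this l]
    simp
  have hpind : AlgebraicIndependent K p := by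
    rw [algebraicIndependent_iff_injective_aeval]
    have hl : ∀ x, MvPolynomial.aeval q (MvPolynomial.aeval p x) = x := fun x => by
      have h6 := DFunLike.congr_fun hqp x
      rwa [AlgHom.comp_apply, AlgHom.id_apply] at h6
    exact Function.LeftInverse.injective (g := MvPolynomial.aeval q) hl
  have h4 := hy.aeval_of_algebraicIndependent hpind
  have h5 : (fun i => MvPolynomial.aeval y (p i)) = t := by
    funext j
    rw [hp]
    simp only [map_sum, map_smul, MvPolynomial.aeval_X]
    exact hB j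
  rwa [h5] at h4

end Groth.Agent.Lib.Seat73.Speiser
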