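import Mathlib
import Groth.Agent.Lib.Seat73Speiser

/-!
The "no-name lemma", abstract field-theoretic form: norm argument computing the fixed field of
`K(t)` when the `t_j` are `G`-fixed and algebraically independent over the `G`-stable field `K`.
-/

set_option autoImplicit false

namespace Groth.Agent.Lib.Seat73.NoName

open IntermediateField

variable {k L : Type*} [Field k] [Field L] [Algebra k L]
  (G : Subgroup (L ≃ₐ[k] L)) (K : IntermediateField k L)
  (hK : ∀ σ ∈ G, ∀ a ∈ K, σ a ∈ K)

/-- The restriction of `σ ∈ G` to the stable subfield `K`. -/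
noncomputable def rho (σ : G) : K →+* K :=
  (((σ : L ≃ₐ[k] L) : L →+* L).comp (algebraMap K L)).codRestrict K
    (fun a => hK _ σ.2 _ a.2)

theorem rho_apply (σ : G) (a : K) : ((rho G K hK σ a : K) : L) = (σ : L ≃ₐ[k] L) (a : L) := rfl

variable {m : ℕ} (t : Fin m → L) (hfix : ∀ j, ∀ σ ∈ G, σ (t j) = t j)

include hfix in
theorem apply_aeval (σ : G) (P : MvPolynomial (Fin m) K) :
    (σ : L ≃ₐ[k] L) (MvPolynomial.aeval t P) =
      MvPolynomial.aeval t (MvPolynomial.map (rho G K hK σ) P) := by
  induction P using MvPolynomial.induction_on with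
  | C a =>
    rw [MvPolynomial.map_C, MvPolynomial.aeval_C, MvPolynomial.aeval_C]
    rfl
  | add p q hp hq => rw [map_add, map_add, hp, hq, map_add, map_add]
  | mul_X p j hp =>
    rw [map_mul, map_mul, hp, MvPolynomial.aeval_X, hfix j _ σ.2, map_mul, map_mul,
      MvPolynomial.map_X, MvPolynomial.aeval_X]

variable (hind : AlgebraicIndependent K t)

include hK hfix hind in
/-- A `G`-fixed polynomial expression in the `t_j` with coefficients in `K` has coefficients in
`K ∩ L^G`. -/
theorem mem_adjoin_of_fixed (P : MvPolynomial (Fin m) K)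
    (hP : ∀ σ ∈ G, σ (MvPolynomial.aeval t P) = MvPolynomial.aeval t P) :
    MvPolynomial.aeval t P ∈ IntermediateField.adjoin (↥(K ⊓ fixedField G)) (Set.range t) := by
  have hcoef : ∀ μ, ((MvPolynomial.coeff μ P : K) : L) ∈ K ⊓ fixedField G := by
    intro μ
    refine ⟨(MvPolynomial.coeff μ P).2, ?_⟩
    rw [SetLike.mem_coe, IntermediateField.mem_fixedField_iff]
    intro σ hσ
    have h1 := hP σ hσ
    rw [apply_aeval G K hK t hfix ⟨σ, hσ⟩ P] at h1
    have h2 := (algebraicIndependent_iff_injective_aeval.mp hind) h1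
    have h3 := congrArg (MvPolynomial.coeff μ) h2
    rw [MvPolynomial.coeff_map] at h3
    have h4 := congrArg (fun a : K => (a : L)) h3
    exact h4
  rw [MvPolynomial.aeval_def, MvPolynomial.eval₂_eq]
  refine sum_mem fun μ _ => mul_mem ?_ (prod_mem fun j _ => pow_mem ?_ _)
  · exact (IntermediateField.adjoin (↥(K ⊓ fixedField G)) (Set.range t)).algebraMap_mem
      ⟨_, hcoef μ⟩
  · exact IntermediateField.subset_adjoin _ _ ⟨j, rfl⟩

variable [Finite G]

include hK hfix hind in
/-- **No-name lemma**, abstract form: the fixed field of `G` on `L = K(t)` is `(K ∩ L^G)(t)`. -/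
theorem fixedField_le_adjoin
    (htop : IntermediateField.adjoin K (Set.range t) = ⊤) :
    fixedField G ≤ (IntermediateField.adjoin (↥(K ⊓ fixedField G)) (Set.range t)).restrictScalars k := by
  classical
  have _ft : Fintype G := Fintype.ofFinite G
  intro f hf
  rw [IntermediateField.mem_fixedField_iff] at hf
  rw [IntermediateField.mem_restrictScalars]
  have hmem : f ∈ IntermediateField.adjoin K (Set.range t) := by rw [htop]; trivial
  obtain ⟨r, s, hrs⟩ := (IntermediateField.mem_adjoin_range_iff K t f).mp hmem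
  by_cases hs0 : MvPolynomial.aeval t s = 0
  · rw [hrs, hs0, div_zero]; exact zero_mem _
  -- the norm of the denominator
  set N : L := ∏ σ : G, (σ : L ≃ₐ[k] L) (MvPolynomial.aeval t s) with hN
  have hN0 : N ≠ 0 := by
    rw [hN, Finset.prod_ne_zero_iff]
    intro σ _
    exact (map_ne_zero_iff _ (σ : L ≃ₐ[k] L).injective).mpr hs0
  have hNfix : ∀ τ ∈ G, τ N = N := by
    intro τ hτ
    rw [hN, map_prod]
    exact Fintype.prod_equiv (Equiv.mulLeft (⟨τ, hτ⟩ : G)) _ _ fun σ => rfl
  have hNpoly : N = MvPolynomial.aeval t (∏ σ : G, MvPolynomial.map (rho G K hK σ) s) := by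
    rw [hN, map_prod]
    exact Finset.prod_congr rfl fun σ _ => apply_aeval G K hK t hfix σ s
  have hNmem : N ∈ IntermediateField.adjoin (↥(K ⊓ fixedField G)) (Set.range t) := by
    rw [hNpoly]
    apply mem_adjoin_of_fixed G K hK t hfix hind
    intro σ hσ
    rw [← hNpoly]
    exact hNfix σ hσ
  have hfN : f * N = MvPolynomial.aeval t
      (r * ∏ σ ∈ (Finset.univ : Finset G).erase 1, MvPolynomial.map (rho G K hK σ) s) := by
    have h1 : N = MvPolynomial.aeval t s *
        ∏ σ ∈ (Finset.univ : Finset G).erase 1, (σ : L ≃ₐ[k] L) (MvPolynomial.aeval t s) := by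
      rw [hN, ← Finset.mul_prod_erase _ _ (Finset.mem_univ (1 : G))]
      rfl
    rw [map_mul, map_prod, h1, hrs, ← mul_assoc, div_mul_cancel₀ _ hs0]
    congr 1
    exact Finset.prod_congr rfl fun σ _ => apply_aeval G K hK t hfix σ s
  have hfNmem : f * N ∈ IntermediateField.adjoin (↥(K ⊓ fixedField G)) (Set.range t) := by
    rw [hfN]
    apply mem_adjoin_of_fixed G K hK t hfix hind
    intro σ hσ
    rw [← hfN, map_mul, hf σ hσ, hNfix σ hσ]
  have : f = f * N / N := by rw [mul_div_assoc, div_self hN0, mul_one]
  rw [this]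
  exact div_mem hfNmem hNmem

include hfix in
theorem adjoin_le_fixedField :
    (IntermediateField.adjoin (↥(K ⊓ fixedField G)) (Set.range t)).restrictScalars k ≤ fixedField G := by
  have h : K ⊓ fixedField G ≤ fixedField G := inf_le_right
  refine (IntermediateField.le_extendScalars_iff h _).mp ?_
  rw [IntermediateField.adjoin_le_iff]
  rintro _ ⟨j, rfl⟩
  change t j ∈ fixedField G
  rw [IntermediateField.mem_fixedField_iff]
  exact hfix j

omit hK in
/-- **No-name lemma**, abstract form.  `G` a finite group of automorphisms of `L`, `K` a `G`-stable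
subfield on which `G` acts faithfully, `L = K(y)` with `y` algebraically independent over `K` and
spanning a `G`-stable `K`-subspace.  Then `L^G` is purely transcendental over `K ∩ L^G`. -/
theorem noname
    (hK : ∀ σ ∈ G, ∀ a ∈ K, σ a ∈ K)
    (hfaith : ∀ σ ∈ G, (∀ a ∈ K, σ a = a) → σ = 1)
    (y : Fin m → L) (hy : AlgebraicIndependent K y)
    (hGy : ∀ σ ∈ G, ∀ j, σ (y j) ∈ Submodule.span K (Set.range y))
    (htop : IntermediateField.adjoin K (Set.range y) = ⊤) :
    ∃ t : Fin m → L, AlgebraicIndependent ↥(K ⊓ fixedField G) t ∧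
      (IntermediateField.adjoin ↥(K ⊓ fixedField G) (Set.range t)).restrictScalars k =
        fixedField G := by
  obtain ⟨t, htfix, hty, hyt⟩ :=
    Speiser.exists_fixed_basis G K hK hfaith y hy.linearIndependent hGy
  have htind : AlgebraicIndependent K t := Speiser.algebraicIndependent_of_span y t hy hty hyt
  have httop : IntermediateField.adjoin K (Set.range t) = ⊤ := by
    rw [eq_top_iff, ← htop, IntermediateField.adjoin_le_iff]
    rintro _ ⟨j, rfl⟩
    have hle : Submodule.span K (Set.range t) ≤
        (IntermediateField.adjoin K (Set.range t)).toSubalgebra.toSubmodule :=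
      Submodule.span_le.mpr (IntermediateField.subset_adjoin K _)
    exact hle (hyt j)
  refine ⟨t, ?_, le_antisymm (adjoin_le_fixedField G K t htfix)
    (fixedField_le_adjoin G K hK t htfix htind httop)⟩
  have hle : K ⊓ fixedField G ≤ K := inf_le_left
  refine AlgebraicIndependent.of_ringHom_of_comp_eq (S := K) (B := L)
    (IntermediateField.inclusion hle) (RingHom.id L) ?_ (IntermediateField.inclusion_injective hle) ?_
  · exact htind
  · ext a
    rfl

end Groth.Agent.Lib.Seat73.NoName
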