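import Mathlib
import Groth.Prelude.Def_W4c2brnrinvarInvFld
import Groth.Agent.Lib.Seat73NoName

/-!
Concrete facts about the rational function field `InvFld.Fld ι k` needed for the no-name lemma.
-/

set_option autoImplicit false

namespace Groth.Agent.Lib.Seat73.InvFldLib

open IntermediateField

variable {k : Type*} [Field k] {ι : Type*}

theorem algebraicIndependent_X :
    AlgebraicIndependent k (fun i : ι => (InvFld.X i : InvFld.Fld ι k)) :=
  (MvPolynomial.algebraicIndependent_X ι k).map'
    (f := IsScalarTower.toAlgHom k (MvPolynomial ι k) (InvFld.Fld ι k))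
    (IsFractionRing.injective _ _)

theorem algebraMap_mem_adjoin (S : Set (InvFld.Fld ι k))
    (hS : ∀ i : ι, (InvFld.X i : InvFld.Fld ι k) ∈ adjoin k S) (p : MvPolynomial ι k) :
    algebraMap (MvPolynomial ι k) (InvFld.Fld ι k) p ∈ adjoin k S := by
  induction p using MvPolynomial.induction_on with
  | C c =>
    have : algebraMap (MvPolynomial ι k) (InvFld.Fld ι k) (MvPolynomial.C c) =
        algebraMap k (InvFld.Fld ι k) c := by
      rw [IsScalarTower.algebraMap_apply k (MvPolynomial ι k) (InvFld.Fld ι k)]
      rfl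
    rw [this]
    exact (adjoin k S).algebraMap_mem c
  | add p q hp hq => rw [map_add]; exact add_mem hp hq
  | mul_X p i hp => rw [map_mul]; exact mul_mem hp (hS i)

theorem adjoin_eq_top (S : Set (InvFld.Fld ι k))
    (hS : ∀ i : ι, (InvFld.X i : InvFld.Fld ι k) ∈ adjoin k S) : adjoin k S = ⊤ := by
  rw [eq_top_iff]
  intro z _
  obtain ⟨p, q, hq, rfl⟩ := IsFractionRing.div_surjective (A := MvPolynomial ι k) z
  exact div_mem (algebraMap_mem_adjoin S hS p) (algebraMap_mem_adjoin S hS q)

section split

variable {α β : Type*} (a : α → ι) (b : β → ι)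

open scoped IntermediateField.algebraAdjoinAdjoin in
theorem algebraicIndependent_X_comp (hab : Function.Injective (Sum.elim a b)) :
    AlgebraicIndependent ↥(adjoin k (Set.range fun i => (InvFld.X (a i) : InvFld.Fld ι k)))
      (fun j => (InvFld.X (b j) : InvFld.Fld ι k)) := by
  have h1 : AlgebraicIndependent k
      (Sum.elim (fun j => (InvFld.X (b j) : InvFld.Fld ι k)) (fun i => (InvFld.X (a i) : InvFld.Fld ι k))) := by
    have hinj : Function.Injective (Sum.elim b a) := by
      have : Sum.elim b a = Sum.elim a b ∘ Sum.swap := by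
        funext x; cases x <;> rfl
      rw [this]
      exact hab.comp Sum.swap_leftInverse.injective
    have h2 := (algebraicIndependent_X (k := k) (ι := ι)).comp _ hinj
    convert h2 using 1
    funext x; cases x <;> rfl
  have h3 := (AlgebraicIndependent.sumElim_iff.mp h1).2
  exact h3.extendScalars _

theorem adjoin_adjoin_eq_top (hab : Function.Surjective (Sum.elim a b)) :
    adjoin ↥(adjoin k (Set.range fun i => (InvFld.X (a i) : InvFld.Fld ι k)))
      (Set.range fun j => (InvFld.X (b j) : InvFld.Fld ι k)) = ⊤ := by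
  apply IntermediateField.restrictScalars_injective k
  rw [IntermediateField.adjoin_adjoin_left, IntermediateField.restrictScalars_top]
  apply adjoin_eq_top
  intro i
  obtain ⟨x, rfl⟩ := hab i
  cases x with
  | inl x => exact subset_adjoin _ _ (Or.inl ⟨x, rfl⟩)
  | inr x => exact subset_adjoin _ _ (Or.inr ⟨x, rfl⟩)

theorem stable_of_span (σ : InvFld.Fld ι k ≃ₐ[k] InvFld.Fld ι k)
    (hσ : ∀ i, σ (InvFld.X (a i)) ∈
      Submodule.span k (Set.range fun i => (InvFld.X (a i) : InvFld.Fld ι k))) :
    ∀ z ∈ adjoin k (Set.range fun i => (InvFld.X (a i) : InvFld.Fld ι k)),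
      σ z ∈ adjoin k (Set.range fun i => (InvFld.X (a i) : InvFld.Fld ι k)) := by
  have hle : adjoin k (Set.range fun i => (InvFld.X (a i) : InvFld.Fld ι k)) ≤
      (adjoin k (Set.range fun i => (InvFld.X (a i) : InvFld.Fld ι k))).comap (σ : _ →ₐ[k] _) := by
    rw [IntermediateField.adjoin_le_iff]
    rintro _ ⟨i, rfl⟩
    have hsp : Submodule.span k (Set.range fun i => (InvFld.X (a i) : InvFld.Fld ι k)) ≤
        (adjoin k (Set.range fun i => (InvFld.X (a i) : InvFld.Fld ι k))).toSubalgebra.toSubmodule :=
      Submodule.span_le.mpr (IntermediateField.subset_adjoin k _)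
    exact hsp (hσ i)
  intro z hz
  exact hle hz

theorem mem_span_of_mem_span (K : IntermediateField k (InvFld.Fld ι k)) (S : Set (InvFld.Fld ι k))
    (z : InvFld.Fld ι k) (hz : z ∈ Submodule.span k S) : z ∈ Submodule.span K S :=
  Submodule.span_le_restrictScalars k K S hz

end split

end Groth.Agent.Lib.Seat73.InvFldLib
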