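import Mathlib
import Groth.Prelude.Def_W4c2brnrinvarInvFld
import Groth.Agent.Lib.Seat73InvFld

/-!
Maps out of rational function fields `InvFld.Fld ι k` and the diagonal action on `k(x, y)`.
-/

set_option autoImplicit false

namespace Groth.Agent.Lib.Seat73.InvFldLib

open IntermediateField

variable {k : Type*} [Field k] {ι κ : Type*}

section lift

variable {E : Type*} [Field E] [Algebra k E]

/-- The map `k(x_i) → E` sending the variables to an algebraically independent family. -/
noncomputable def lift (v : ι → E) (hv : AlgebraicIndependent k v) : InvFld.Fld ι k →ₐ[k] E :=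
  IsFractionRing.liftAlgHom (g := MvPolynomial.aeval v)
    (algebraicIndependent_iff_injective_aeval.mp hv)

theorem lift_algebraMap (v : ι → E) (hv : AlgebraicIndependent k v) (p : MvPolynomial ι k) :
    lift v hv (algebraMap _ _ p) = MvPolynomial.aeval v p := by
  unfold lift
  rw [IsFractionRing.liftAlgHom_apply, IsFractionRing.lift_algebraMap]
  rfl

theorem lift_X (v : ι → E) (hv : AlgebraicIndependent k v) (i : ι) :
    lift v hv (InvFld.X i) = v i := by
  unfold InvFld.X
  rw [lift_algebraMap, MvPolynomial.aeval_X]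

theorem algHom_ext {R : Type*} [CommRing R] [Algebra k R] (φ ψ : InvFld.Fld ι k →ₐ[k] R)
    (h : ∀ i, φ (InvFld.X i) = ψ (InvFld.X i)) : φ = ψ := by
  have h1 : φ.comp (IsScalarTower.toAlgHom k (MvPolynomial ι k) (InvFld.Fld ι k)) =
      ψ.comp (IsScalarTower.toAlgHom k (MvPolynomial ι k) (InvFld.Fld ι k)) :=
    MvPolynomial.algHom_ext fun i => h i
  apply AlgHom.coe_ringHom_injective
  apply IsLocalization.ringHom_ext (nonZeroDivisors (MvPolynomial ι k))
  exact RingHom.ext fun p => DFunLike.congr_fun h1 p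

end lift

/-- The embedding `k(x_i : i ∈ ι) → k(x_j : j ∈ κ)` induced by an injection `ι → κ`. -/
noncomputable def emb (f : ι → κ) (hf : Function.Injective f) :
    InvFld.Fld ι k →ₐ[k] InvFld.Fld κ k :=
  lift (fun i => (InvFld.X (f i) : InvFld.Fld κ k)) (algebraicIndependent_X.comp f hf)

theorem emb_X (f : ι → κ) (hf : Function.Injective f) (i : ι) :
    emb (k := k) f hf (InvFld.X i) = InvFld.X (f i) := lift_X _ _ i

theorem emb_injective (f : ι → κ) (hf : Function.Injective f) :
    Function.Injective (emb (k := k) f hf) := (emb f hf).toRingHom.injective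

theorem fieldRange_emb (f : ι → κ) (hf : Function.Injective f) :
    (emb (k := k) f hf).fieldRange =
      adjoin k (Set.range fun i => (InvFld.X (f i) : InvFld.Fld κ k)) := by
  have h1 : (⊤ : IntermediateField k (InvFld.Fld ι k)) =
      adjoin k (Set.range fun i => (InvFld.X i : InvFld.Fld ι k)) :=
    (adjoin_eq_top _ fun i => subset_adjoin _ _ (Set.mem_range_self i)).symm
  rw [AlgHom.fieldRange_eq_map, h1, IntermediateField.adjoin_map]
  congr 1
  ext z
  constructor
  · rintro ⟨_, ⟨i, rfl⟩, rfl⟩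
    exact ⟨i, (emb_X f hf i).symm⟩
  · rintro ⟨i, rfl⟩
    exact ⟨_, ⟨i, rfl⟩, emb_X f hf i⟩

theorem apply_mem_span_range {V W : Type*} [AddCommGroup V] [Module k V] [AddCommGroup W]
    [Module k W] (φ : V →ₗ[k] W) {α : Type*} (u : α → V) (z : V)
    (hz : z ∈ Submodule.span k (Set.range u)) :
    φ z ∈ Submodule.span k (Set.range fun i => φ (u i)) := by
  have h := Submodule.apply_mem_span_image_of_mem_span φ hz
  rwa [← Set.range_comp] at h

/-- An automorphism which is linear on the variables is invertible on their span. -/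
theorem X_mem_span_apply [Finite ι] (σ : InvFld.Fld ι k ≃ₐ[k] InvFld.Fld ι k)
    (hσ : ∀ i, σ (InvFld.X i) ∈
      Submodule.span k (Set.range fun j : ι => (InvFld.X j : InvFld.Fld ι k))) (j : ι) :
    (InvFld.X j : InvFld.Fld ι k) ∈
      Submodule.span k (Set.range fun i : ι => σ (InvFld.X i)) := by
  set V : Submodule k (InvFld.Fld ι k) :=
    Submodule.span k (Set.range fun j : ι => (InvFld.X j : InvFld.Fld ι k)) with hV
  have hVV : ∀ x ∈ V, σ.toLinearMap x ∈ V := by
    intro x hx
    induction hx using Submodule.span_induction with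
    | mem x hx => obtain ⟨i, rfl⟩ := hx; exact hσ i
    | zero => rw [map_zero]; exact Submodule.zero_mem _
    | add x z _ _ hx hz => rw [map_add]; exact Submodule.add_mem _ hx hz
    | smul a x _ hx => rw [map_smul]; exact Submodule.smul_mem _ _ hx
  have _fd : FiniteDimensional k V := FiniteDimensional.span_of_finite k (Set.finite_range _)
  have hinj : Function.Injective (σ.toLinearMap.restrict hVV) := by
    intro x z hxz
    apply Subtype.ext
    apply σ.injective
    exact congrArg Subtype.val hxz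
  have hsurj := LinearMap.surjective_of_injective hinj
  obtain ⟨v, hv⟩ := hsurj ⟨InvFld.X j, Submodule.subset_span ⟨j, rfl⟩⟩
  have hv' : σ (v : InvFld.Fld ι k) = InvFld.X j := congrArg Subtype.val hv
  rw [← hv']
  exact apply_mem_span_range σ.toLinearMap _ _ v.2

section diag

variable {n m : ℕ} (σ : InvFld.Fld (Fin n) k ≃ₐ[k] InvFld.Fld (Fin n) k)
  (τ : InvFld.Fld (Fin m) k ≃ₐ[k] InvFld.Fld (Fin m) k)

/-- The embedding `k(x) → k(x, y)`. -/
noncomputable abbrev embL : InvFld.Fld (Fin n) k →ₐ[k] InvFld.Fld (Fin n ⊕ Fin m) k :=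
  emb Sum.inl Sum.inl_injective

/-- The embedding `k(y) → k(x, y)`. -/
noncomputable abbrev embR : InvFld.Fld (Fin m) k →ₐ[k] InvFld.Fld (Fin n ⊕ Fin m) k :=
  emb Sum.inr Sum.inr_injective

/-- The images of the variables under the diagonal automorphism. -/
noncomputable def diagFam : Fin n ⊕ Fin m → InvFld.Fld (Fin n ⊕ Fin m) k :=
  Sum.elim (fun i => embL (m := m) (σ (InvFld.X i))) (fun j => embR (n := n) (τ (InvFld.X j)))

variable (hσ : ∀ i, σ (InvFld.X i) ∈
    Submodule.span k (Set.range fun j : Fin n => (InvFld.X j : InvFld.Fld (Fin n) k)))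
  (hτ : ∀ i, τ (InvFld.X i) ∈
    Submodule.span k (Set.range fun j : Fin m => (InvFld.X j : InvFld.Fld (Fin m) k)))

include hσ in
theorem embL_apply_mem_span (i : Fin n) :
    embL (m := m) (σ (InvFld.X i)) ∈ Submodule.span k
      (Set.range fun j : Fin n => (InvFld.X (Sum.inl j) : InvFld.Fld (Fin n ⊕ Fin m) k)) := by
  have h := apply_mem_span_range (embL (k := k) (n := n) (m := m)).toLinearMap _ _ (hσ i)
  have h2 : (fun j : Fin n => (embL (k := k) (n := n) (m := m)).toLinearMap (InvFld.X j)) =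
      fun j : Fin n => (InvFld.X (Sum.inl j) : InvFld.Fld (Fin n ⊕ Fin m) k) := by
    funext j
    exact emb_X Sum.inl Sum.inl_injective j
  rw [h2] at h
  exact h

include hτ in
theorem embR_apply_mem_span (i : Fin m) :
    embR (n := n) (τ (InvFld.X i)) ∈ Submodule.span k
      (Set.range fun j : Fin m => (InvFld.X (Sum.inr j) : InvFld.Fld (Fin n ⊕ Fin m) k)) := by
  have h := apply_mem_span_range (embR (k := k) (n := n) (m := m)).toLinearMap _ _ (hτ i)
  have h2 : (fun j : Fin m => (embR (k := k) (n := n) (m := m)).toLinearMap (InvFld.X j)) =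
      fun j : Fin m => (InvFld.X (Sum.inr j) : InvFld.Fld (Fin n ⊕ Fin m) k) := by
    funext j
    exact emb_X Sum.inr Sum.inr_injective j
  rw [h2] at h
  exact h

include hτ in
theorem algebraicIndependent_diagFam : AlgebraicIndependent k (diagFam σ τ) := by
  obtain ⟨KA, hKA⟩ : ∃ KA : IntermediateField k (InvFld.Fld (Fin n ⊕ Fin m) k), KA =
    adjoin k (Set.range fun i : Fin n => (InvFld.X (Sum.inl i) : InvFld.Fld (Fin n ⊕ Fin m) k)) :=
    ⟨_, rfl⟩
  have hy : AlgebraicIndependent KA
      (fun j : Fin m => (InvFld.X (Sum.inr j) : InvFld.Fld (Fin n ⊕ Fin m) k)) := by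
    rw [hKA]
    exact algebraicIndependent_X_comp Sum.inl Sum.inr
      (by rw [Sum.elim_inl_inr]; exact Function.injective_id)
  have ht : AlgebraicIndependent KA (fun j : Fin m => embR (n := n) (τ (InvFld.X j))) := by
    refine Speiser.algebraicIndependent_of_span _ _ hy ?_ ?_
    · intro j
      exact mem_span_of_mem_span _ _ _ (embR_apply_mem_span τ hτ j)
    · intro j
      apply mem_span_of_mem_span
      have h := apply_mem_span_range (embR (k := k) (n := n) (m := m)).toLinearMap _ _
        (X_mem_span_apply τ hτ j)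
      have h2 : (embR (k := k) (n := n) (m := m)).toLinearMap (InvFld.X j) = InvFld.X (Sum.inr j) :=
        emb_X Sum.inr Sum.inr_injective j
      rw [h2] at h
      exact h
  have hx : AlgebraicIndependent k (fun i : Fin n => embL (m := m) (σ (InvFld.X i))) := by
    have h1 : AlgebraicIndependent k (fun i : Fin n => σ (InvFld.X i)) :=
      (algebraicIndependent_X (k := k) (ι := Fin n)).map' (f := σ.toAlgHom) σ.injective
    exact h1.map' (f := embL (k := k) (n := n) (m := m)) (emb_injective Sum.inl Sum.inl_injective)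
  have hxS : Set.range (fun i : Fin n => embL (m := m) (σ (InvFld.X i))) ⊆
      Set.range (algebraMap KA (InvFld.Fld (Fin n ⊕ Fin m) k)) := by
    rintro _ ⟨i, rfl⟩
    have hmem : embL (m := m) (σ (InvFld.X i)) ∈ KA := by
      rw [hKA, ← fieldRange_emb Sum.inl Sum.inl_injective]
      exact ⟨_, rfl⟩
    exact ⟨⟨_, hmem⟩, rfl⟩
  have h1 := hx.sumElim_of_tower (S := KA) hxS ht
  have h2 := h1.comp Sum.swap Sum.swap_leftInverse.injective
  have h3 : diagFam σ τ = (Sum.elim (fun j : Fin m => embR (n := n) (τ (InvFld.X j)))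
      (fun i : Fin n => embL (m := m) (σ (InvFld.X i)))) ∘ Sum.swap := by
    funext x
    cases x with
    | inl x => rfl
    | inr x => rfl
  rw [h3]
  exact h2

/-- The diagonal endomorphism of `k(x, y)` attached to `σ` on `k(x)` and a linear `τ` on `k(y)`. -/
noncomputable def psi : InvFld.Fld (Fin n ⊕ Fin m) k →ₐ[k] InvFld.Fld (Fin n ⊕ Fin m) k :=
  lift (diagFam σ τ) (algebraicIndependent_diagFam σ τ hτ)

theorem psi_X_inl (i : Fin n) :
    psi σ τ hτ (InvFld.X (Sum.inl i)) = embL (m := m) (σ (InvFld.X i)) := lift_X _ _ _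

theorem psi_X_inr (j : Fin m) :
    psi σ τ hτ (InvFld.X (Sum.inr j)) = embR (n := n) (τ (InvFld.X j)) := lift_X _ _ _

theorem psi_comp_embL : (psi σ τ hτ).comp embL = (embL (m := m)).comp (σ : _ →ₐ[k] _) := by
  apply algHom_ext
  intro i
  rw [AlgHom.comp_apply, emb_X, psi_X_inl]
  rfl

theorem psi_comp_embR : (psi σ τ hτ).comp embR = (embR (n := n)).comp (τ : _ →ₐ[k] _) := by
  apply algHom_ext
  intro i
  rw [AlgHom.comp_apply, emb_X, psi_X_inr]
  rfl

theorem psi_embL (z : InvFld.Fld (Fin n) k) : psi σ τ hτ (embL z) = embL (m := m) (σ z) :=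
  DFunLike.congr_fun (psi_comp_embL σ τ hτ) z

theorem psi_embR (z : InvFld.Fld (Fin m) k) : psi σ τ hτ (embR z) = embR (n := n) (τ z) :=
  DFunLike.congr_fun (psi_comp_embR σ τ hτ) z

theorem psi_mul (σ' : InvFld.Fld (Fin n) k ≃ₐ[k] InvFld.Fld (Fin n) k)
    (τ' : InvFld.Fld (Fin m) k ≃ₐ[k] InvFld.Fld (Fin m) k)
    (hτ' : ∀ i, τ' (InvFld.X i) ∈
      Submodule.span k (Set.range fun j : Fin m => (InvFld.X j : InvFld.Fld (Fin m) k)))
    (hττ' : ∀ i, (τ * τ') (InvFld.X i) ∈
      Submodule.span k (Set.range fun j : Fin m => (InvFld.X j : InvFld.Fld (Fin m) k))) :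
    psi (σ * σ') (τ * τ') hττ' = (psi σ τ hτ).comp (psi σ' τ' hτ') := by
  apply algHom_ext
  intro x
  cases x with
  | inl i =>
    rw [AlgHom.comp_apply, psi_X_inl, psi_X_inl, psi_embL]
    rfl
  | inr j =>
    rw [AlgHom.comp_apply, psi_X_inr, psi_X_inr, psi_embR]
    rfl

theorem psi_one (h1 : ∀ i, (1 : InvFld.Fld (Fin m) k ≃ₐ[k] InvFld.Fld (Fin m) k) (InvFld.X i) ∈
      Submodule.span k (Set.range fun j : Fin m => (InvFld.X j : InvFld.Fld (Fin m) k))) :
    psi (1 : InvFld.Fld (Fin n) k ≃ₐ[k] InvFld.Fld (Fin n) k) 1 h1 = AlgHom.id k _ := by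
  apply algHom_ext
  intro x
  cases x with
  | inl i =>
    rw [psi_X_inl, AlgHom.id_apply]
    exact emb_X _ _ i
  | inr j =>
    rw [psi_X_inr, AlgHom.id_apply]
    exact emb_X _ _ j

end diag

end Groth.Agent.Lib.Seat73.InvFldLib
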