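import Mathlib

/-!
# Length sub-additivity for quotients by ideals containing a product

`length (A ⧸ (I ⊔ (a*b))) ≤ length (A ⧸ (I ⊔ (a))) + length (A ⧸ (I ⊔ (b)))`,
with a version for finite products.
-/

set_option autoImplicit false
universe u v

namespace Groth.Agent.Lib.Seat73.Length

open Ideal

variable {A : Type u} [CommRing A]

/-- Multiplication by `b` as a linear map `A ⧸ (I ⊔ (a)) → A ⧸ (I ⊔ (a * b))`. -/
noncomputable def mulMap (I : Ideal A) (a b : A) :
    (A ⧸ (I ⊔ span {a})) →ₗ[A] (A ⧸ (I ⊔ span {a * b})) :=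
  Submodule.liftQ _ ((Submodule.mkQ (I ⊔ span {a * b})).comp (LinearMap.mulLeft A b)) (by
    intro x hx
    rw [LinearMap.mem_ker]
    simp only [LinearMap.coe_comp, Function.comp_apply, LinearMap.mulLeft_apply,
      Submodule.mkQ_apply]
    rw [Submodule.Quotient.mk_eq_zero]
    obtain ⟨i, hi, y, hy, rfl⟩ := Submodule.mem_sup.mp hx
    obtain ⟨c, rfl⟩ := Ideal.mem_span_singleton'.mp hy
    rw [mul_add]
    refine Submodule.add_mem _ ?_ ?_
    · exact Ideal.mem_sup_left (Ideal.mul_mem_left _ _ hi)
    · refine Ideal.mem_sup_right (Ideal.mem_span_singleton'.mpr ⟨c, ?_⟩)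
      ring)

/-- The projection `A ⧸ (I ⊔ (a * b)) → A ⧸ (I ⊔ (b))`. -/
noncomputable def projMap (I : Ideal A) (a b : A) :
    (A ⧸ (I ⊔ span {a * b})) →ₗ[A] (A ⧸ (I ⊔ span {b})) :=
  Submodule.liftQ _ (Submodule.mkQ (I ⊔ span {b})) (by
    intro x hx
    rw [LinearMap.mem_ker, Submodule.mkQ_apply, Submodule.Quotient.mk_eq_zero]
    obtain ⟨i, hi, y, hy, rfl⟩ := Submodule.mem_sup.mp hx
    obtain ⟨c, rfl⟩ := Ideal.mem_span_singleton'.mp hy
    refine Submodule.add_mem _ (Ideal.mem_sup_left hi) ?_
    refine Ideal.mem_sup_right (Ideal.mem_span_singleton'.mpr ⟨c * a, ?_⟩)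
    ring)

theorem projMap_surjective (I : Ideal A) (a b : A) : Function.Surjective (projMap I a b) := by
  intro y
  obtain ⟨x, rfl⟩ := Submodule.mkQ_surjective _ y
  exact ⟨Submodule.mkQ _ x, rfl⟩

theorem ker_projMap_le_range_mulMap (I : Ideal A) (a b : A) :
    LinearMap.ker (projMap I a b) ≤ LinearMap.range (mulMap I a b) := by
  intro y hy
  obtain ⟨x, rfl⟩ := Submodule.mkQ_surjective _ y
  rw [LinearMap.mem_ker] at hy
  simp only [projMap, Submodule.mkQ_apply, Submodule.liftQ_apply] at hy
  rw [Submodule.Quotient.mk_eq_zero] at hy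
  obtain ⟨i, hi, z, hz, rfl⟩ := Submodule.mem_sup.mp hy
  obtain ⟨c, rfl⟩ := Ideal.mem_span_singleton'.mp hz
  refine ⟨Submodule.mkQ _ c, ?_⟩
  simp only [mulMap, Submodule.mkQ_apply, Submodule.liftQ_apply, LinearMap.coe_comp,
    Function.comp_apply, LinearMap.mulLeft_apply]
  rw [eq_comm, ← sub_eq_zero, ← Submodule.Quotient.mk_sub, Submodule.Quotient.mk_eq_zero]
  have : i + c * b - b * c = i := by ring
  rw [this]
  exact Ideal.mem_sup_left hi

/-- Sub-additivity of length for a product of two elements. -/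
theorem length_quot_mul_le (I : Ideal A) (a b : A) :
    Module.length A (A ⧸ (I ⊔ span {a * b})) ≤
      Module.length A (A ⧸ (I ⊔ span {a})) + Module.length A (A ⧸ (I ⊔ span {b})) := by
  rw [Module.length_eq_add_of_exact (LinearMap.ker (projMap I a b)).subtype (projMap I a b)
    (Submodule.subtype_injective _) (projMap_surjective I a b)
    (LinearMap.exact_subtype_ker_map _)]
  gcongr
  -- length of the kernel ≤ length of the range of `mulMap` ≤ length of the source
  calc Module.length A (LinearMap.ker (projMap I a b))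
      ≤ Module.length A (LinearMap.range (mulMap I a b)) :=
        Module.length_le_of_injective (Submodule.inclusion (ker_projMap_le_range_mulMap I a b))
          (Submodule.inclusion_injective _)
    _ ≤ Module.length A (A ⧸ (I ⊔ span {a})) :=
        Module.length_le_of_surjective (mulMap I a b).rangeRestrict
          (LinearMap.surjective_rangeRestrict _)

/-- Sub-additivity of length for a finite product. -/
theorem length_quot_prod_le {ι : Type v} (I : Ideal A) (s : Finset ι) (f : ι → A) :
    Module.length A (A ⧸ (I ⊔ span {∏ i ∈ s, f i})) ≤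
      ∑ i ∈ s, Module.length A (A ⧸ (I ⊔ span {f i})) := by
  classical
  induction s using Finset.induction_on with
  | empty =>
    have key : ∀ x : A, x = 1 → Module.length A (A ⧸ (I ⊔ span {x})) = 0 := by
      rintro _ rfl
      rw [Module.length_eq_zero_iff]
      have : I ⊔ span {(1 : A)} = ⊤ := by
        rw [Ideal.span_singleton_one, sup_top_eq]
      rw [this]
      infer_instance
    rw [Finset.sum_empty, nonpos_iff_eq_zero]
    exact key _ Finset.prod_empty
  | insert i s hi ih =>
    rw [Finset.prod_insert hi, Finset.sum_insert hi]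
    exact (length_quot_mul_le I (f i) (∏ j ∈ s, f j)).trans (by gcongr)

end Groth.Agent.Lib.Seat73.Length

namespace Groth.Agent.Lib.Seat73.Length

open Ideal

variable {A : Type u} [CommRing A]

theorem length_congr {I J : Ideal A} (h : I = J) :
    Module.length A (A ⧸ I) = Module.length A (A ⧸ J) := by
  subst h; rfl

theorem span_range_succ {n : ℕ} (g : Fin (n + 1) → A) :
    span (Set.range g) = span {g 0} ⊔ span (Set.range fun i : Fin n => g i.succ) := by
  rw [← Ideal.span_union]
  congr 1
  ext x
  simp only [Set.mem_range, Set.singleton_union, Set.mem_insert_iff]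
  constructor
  · rintro ⟨i, rfl⟩
    refine Fin.cases ?_ (fun j => ?_) i
    · exact Or.inl rfl
    · exact Or.inr ⟨j, rfl⟩
  · rintro (rfl | ⟨j, rfl⟩)
    · exact ⟨0, rfl⟩
    · exact ⟨j.succ, rfl⟩

/-- Sub-additivity of length, for an `n`-tuple of products over a finite type. -/
theorem length_quot_span_prod_le (G : Type v) [Fintype G] :
    ∀ (n : ℕ) (I : Ideal A) (f : Fin n → G → A),
      Module.length A (A ⧸ (I ⊔ span (Set.range fun i => ∏ σ : G, f i σ))) ≤
        ∑ τ : Fin n → G, Module.length A (A ⧸ (I ⊔ span (Set.range fun i => f i (τ i)))) := by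
  intro n
  induction n with
  | zero =>
    intro I f
    have h1 : (Set.range fun i : Fin 0 => ∏ σ : G, f i σ) = ∅ := Set.range_eq_empty _
    rw [Fintype.sum_eq_single (fun i : Fin 0 => i.elim0) (fun τ hτ => (hτ (Subsingleton.elim _ _)).elim)]
    have h2 : (Set.range fun i : Fin 0 => f i (i.elim0 : G)) = ∅ := Set.range_eq_empty _
    rw [h1, h2]
  | succ n ih =>
    intro I f
    have e1 : I ⊔ span (Set.range fun i => ∏ σ : G, f i σ) =
        (I ⊔ span (Set.range fun i : Fin n => ∏ σ : G, f i.succ σ)) ⊔ span {∏ σ : G, f 0 σ} := by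
      rw [span_range_succ]; ac_rfl
    rw [length_congr e1]
    refine (length_quot_prod_le (I ⊔ span (Set.range fun i : Fin n => ∏ σ : G, f i.succ σ))
      Finset.univ (f 0)).trans ?_
    rw [← (Fin.consEquiv (fun _ : Fin (n + 1) => G)).sum_comp, Fintype.sum_prod_type]
    refine Finset.sum_le_sum fun σ _ => ?_
    have e2 : (I ⊔ span (Set.range fun i : Fin n => ∏ σ : G, f i.succ σ)) ⊔ span {f 0 σ} =
        (I ⊔ span {f 0 σ}) ⊔ span (Set.range fun i : Fin n => ∏ σ : G, f i.succ σ) := by
      ac_rfl
    rw [length_congr e2]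
    refine (ih (I ⊔ span {f 0 σ}) (fun i => f i.succ)).trans (le_of_eq ?_)
    refine Finset.sum_congr rfl fun τ _ => ?_
    apply length_congr
    rw [span_range_succ (fun i => f i ((Fin.consEquiv (fun _ : Fin (n + 1) => G)) (σ, τ) i))]
    simp only [Fin.consEquiv_apply, Fin.cons_zero, Fin.cons_succ]
    ac_rfl

end Groth.Agent.Lib.Seat73.Length
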