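import Mathlib
import Groth.Agent.Lib.Seat73Length

/-!
# Additivity of length for quotients by ideals containing a product of regular elements
-/

set_option autoImplicit false
universe u v

namespace Groth.Agent.Lib.Seat73.Length

open Ideal

variable {A : Type u} [CommRing A]

theorem mulMap_mk (I : Ideal A) (a b x : A) :
    mulMap I a b (Submodule.Quotient.mk x) = Submodule.Quotient.mk (b * x) := rfl

theorem projMap_mk (I : Ideal A) (a b x : A) :
    projMap I a b (Submodule.Quotient.mk x) = Submodule.Quotient.mk x := rfl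

theorem mulMap_injective (I : Ideal A) (a b : A) (hb : IsSMulRegular (A ⧸ I) b) :
    Function.Injective (mulMap I a b) := by
  rw [injective_iff_map_eq_zero]
  intro y hy
  obtain ⟨x, rfl⟩ := Submodule.Quotient.mk_surjective _ y
  rw [mulMap_mk, Submodule.Quotient.mk_eq_zero] at hy
  obtain ⟨i, hi, z, hz, hiz⟩ := Submodule.mem_sup.mp hy
  obtain ⟨c, rfl⟩ := Ideal.mem_span_singleton'.mp hz
  -- b * (x - c * a) ∈ I
  have h1 : b * (x - c * a) ∈ I := by
    have : b * (x - c * a) = i := by
      have := hiz
      linear_combination -this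
    rw [this]; exact hi
  have h2 : (Ideal.Quotient.mk I) (x - c * a) = 0 := by
    apply hb
    show b • (Ideal.Quotient.mk I) (x - c * a) = b • (0 : A ⧸ I)
    rw [smul_zero, Algebra.smul_def, Ideal.Quotient.algebraMap_eq, ← map_mul]
    exact Ideal.Quotient.eq_zero_iff_mem.mpr h1
  rw [Ideal.Quotient.eq_zero_iff_mem] at h2
  rw [Submodule.Quotient.mk_eq_zero]
  have : x = (x - c * a) + c * a := by ring
  rw [this]
  exact Submodule.add_mem _ (Ideal.mem_sup_left h2)
    (Ideal.mem_sup_right (Ideal.mem_span_singleton'.mpr ⟨c, rfl⟩))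

theorem exact_mulMap_projMap (I : Ideal A) (a b : A) :
    Function.Exact (mulMap I a b) (projMap I a b) := by
  rw [LinearMap.exact_iff]
  apply le_antisymm (ker_projMap_le_range_mulMap I a b)
  rintro _ ⟨y, rfl⟩
  obtain ⟨x, rfl⟩ := Submodule.Quotient.mk_surjective _ y
  rw [LinearMap.mem_ker, mulMap_mk, projMap_mk, Submodule.Quotient.mk_eq_zero]
  exact Ideal.mem_sup_right (Ideal.mem_span_singleton'.mpr ⟨x, by ring⟩)

/-- Additivity of length for a product of two elements, the second regular modulo `I`. -/
theorem length_quot_mul_eq (I : Ideal A) (a b : A) (hb : IsSMulRegular (A ⧸ I) b) :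
    Module.length A (A ⧸ (I ⊔ span {a * b})) =
      Module.length A (A ⧸ (I ⊔ span {a})) + Module.length A (A ⧸ (I ⊔ span {b})) :=
  Module.length_eq_add_of_exact (mulMap I a b) (projMap I a b) (mulMap_injective I a b hb)
    (projMap_surjective I a b) (exact_mulMap_projMap I a b)

/-- Additivity of length for a finite product of elements regular modulo `I`. -/
theorem length_quot_prod_eq {ι : Type v} (I : Ideal A) (s : Finset ι) (f : ι → A)
    (h : ∀ i ∈ s, IsSMulRegular (A ⧸ I) (f i)) :
    Module.length A (A ⧸ (I ⊔ span {∏ i ∈ s, f i})) =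
      ∑ i ∈ s, Module.length A (A ⧸ (I ⊔ span {f i})) := by
  classical
  induction s using Finset.induction_on with
  | empty =>
    have key : ∀ x : A, x = 1 → Module.length A (A ⧸ (I ⊔ span {x})) = 0 := by
      rintro _ rfl
      rw [Module.length_eq_zero_iff]
      have : I ⊔ span {(1 : A)} = ⊤ := by
        rw [Ideal.span_singleton_one, sup_top_eq]
      rw [this]
      infer_instance
    rw [Finset.sum_empty]
    exact key _ Finset.prod_empty
  | insert i s hi ih =>
    rw [Finset.prod_insert hi, Finset.sum_insert hi]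
    have hreg : IsSMulRegular (A ⧸ I) (∏ j ∈ s, f j) := by
      apply Finset.prod_induction f (fun x => IsSMulRegular (A ⧸ I) x)
      · intro a b ha hb; exact ha.mul hb
      · exact IsSMulRegular.one _
      · intro j hj; exact h j (Finset.mem_insert_of_mem hj)
    rw [length_quot_mul_eq I (f i) (∏ j ∈ s, f j) hreg,
      ih (fun j hj => h j (Finset.mem_insert_of_mem hj))]

variable {G : Type v} [Fintype G]

/-- The regularity hypotheses needed to expand an `n`-tuple of products coordinate by coordinate. -/
def RegHyp : (n : ℕ) → Ideal A → (Fin n → G → A) → Prop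
  | 0, _, _ => True
  | (n + 1), I, f =>
    (∀ σ : G, IsSMulRegular
      (A ⧸ (I ⊔ span (Set.range fun i : Fin n => ∏ σ : G, f i.succ σ))) (f 0 σ)) ∧
    ∀ σ : G, RegHyp n (I ⊔ span {f 0 σ}) (fun i => f i.succ)

/-- Additivity of length for an `n`-tuple of products over a finite type. -/
theorem length_quot_span_prod_eq :
    ∀ (n : ℕ) (I : Ideal A) (f : Fin n → G → A), RegHyp n I f →
      Module.length A (A ⧸ (I ⊔ span (Set.range fun i => ∏ σ : G, f i σ))) =
        ∑ τ : Fin n → G, Module.length A (A ⧸ (I ⊔ span (Set.range fun i => f i (τ i)))) := by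
  intro n
  induction n with
  | zero =>
    intro I f _
    have h1 : (Set.range fun i : Fin 0 => ∏ σ : G, f i σ) = ∅ := Set.range_eq_empty _
    rw [Fintype.sum_eq_single (fun i : Fin 0 => i.elim0)
      (fun τ hτ => (hτ (Subsingleton.elim _ _)).elim)]
    have h2 : (Set.range fun i : Fin 0 => f i (i.elim0 : G)) = ∅ := Set.range_eq_empty _
    rw [h1, h2]
  | succ n ih =>
    intro I f hreg
    obtain ⟨hreg0, hregS⟩ := hreg
    have e1 : I ⊔ span (Set.range fun i => ∏ σ : G, f i σ) =
        (I ⊔ span (Set.range fun i : Fin n => ∏ σ : G, f i.succ σ)) ⊔ span {∏ σ : G, f 0 σ} := by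
      rw [span_range_succ]; ac_rfl
    rw [length_congr e1, length_quot_prod_eq _ Finset.univ (f 0) (fun σ _ => hreg0 σ)]
    rw [← (Fin.consEquiv (fun _ : Fin (n + 1) => G)).sum_comp, Fintype.sum_prod_type]
    refine Finset.sum_congr rfl fun σ _ => ?_
    have e2 : (I ⊔ span (Set.range fun i : Fin n => ∏ σ : G, f i.succ σ)) ⊔ span {f 0 σ} =
        (I ⊔ span {f 0 σ}) ⊔ span (Set.range fun i : Fin n => ∏ σ : G, f i.succ σ) := by
      ac_rfl
    rw [length_congr e2, ih (I ⊔ span {f 0 σ}) (fun i => f i.succ) (hregS σ)]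
    refine Finset.sum_congr rfl fun τ _ => ?_
    apply length_congr
    rw [span_range_succ (fun i => f i ((Fin.consEquiv (fun _ : Fin (n + 1) => G)) (σ, τ) i))]
    simp only [Fin.consEquiv_apply, Fin.cons_zero, Fin.cons_succ]
    ac_rfl

end Groth.Agent.Lib.Seat73.Length
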