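import Mathlib

/-!
# Representations of finite `p`-groups in characteristic `p`

* `exists_fixed_ne_zero`: a nonzero representation has a nonzero fixed vector.
* `exists_family_span_eq_top`: a `d`-dimensional representation admits a family `e : Fin d → V`
  such that for every choice `τ : Fin d → G` the vectors `ρ (τ i) (e i)` span `V`
  (a "unitriangular" basis).
-/

set_option autoImplicit false
universe u v w

namespace Groth.Agent.Lib.Seat73.PGroupRep

variable {p : ℕ} [Fact p.Prime] {k : Type u} [Field k] [CharP k p]
  {G : Type v} [Group G] [Finite G]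

theorem exists_fixed_ne_zero (hG : IsPGroup p G) {V : Type w} [AddCommGroup V] [Module k V]
    [Nontrivial V] (ρ : Representation k G V) :
    ∃ w : V, w ≠ 0 ∧ ∀ g : G, ρ g w = w := by
  classical
  obtain ⟨v, hv⟩ := exists_ne (0 : V)
  have hpV : ∀ x : V, p • x = 0 := by
    intro x
    rw [← Nat.cast_smul_eq_nsmul k, CharP.cast_eq_zero, zero_smul]
  have _inst : Module (ZMod p) V := AddCommGroup.zmodModule hpV
  let W : Submodule (ZMod p) V := Submodule.span (ZMod p) (Set.range fun g : G => ρ g v)
  have hWstable : ∀ g : G, ∀ x ∈ W, ρ g x ∈ W := by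
    intro g x hx
    induction hx using Submodule.span_induction with
    | mem y hy =>
      obtain ⟨h, rfl⟩ := hy
      refine Submodule.subset_span ⟨g * h, ?_⟩
      simp only [map_mul, Module.End.mul_apply]
    | zero => simp
    | add y z _ _ ihy ihz => rw [map_add]; exact Submodule.add_mem _ ihy ihz
    | smul c y _ ih =>
      rw [ZMod.map_smul (ρ g) c y]
      exact Submodule.smul_mem _ _ ih
  have : Module.Finite (ZMod p) W := Module.Finite.span_of_finite _ (Set.finite_range _)
  have : Finite W := Module.finite_of_finite (ZMod p)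
  let _ : MulAction G W :=
    { smul := fun g x => ⟨ρ g x.1, hWstable g x.1 x.2⟩
      one_smul := fun x => by
        apply Subtype.ext
        show ρ 1 x.1 = x.1
        simp
      mul_smul := fun g h x => by
        apply Subtype.ext
        show ρ (g * h) x.1 = ρ g (ρ h x.1)
        simp [map_mul] }
  have hsmul : ∀ (g : G) (x : W), ((g • x : W) : V) = ρ g x.1 := fun g x => rfl
  have hvW : v ∈ W := by
    refine Submodule.subset_span ⟨1, ?_⟩
    simp
  have hdvd : p ∣ Nat.card W := by
    have h1 : addOrderOf (⟨v, hvW⟩ : W) = p := by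
      refine addOrderOf_eq_prime ?_ ?_
      · apply Subtype.ext
        simpa using hpV v
      · intro h
        exact hv (congrArg Subtype.val h)
    have h2 := addOrderOf_dvd_natCard (⟨v, hvW⟩ : W)
    rwa [h1] at h2
  have h0 : (0 : W) ∈ MulAction.fixedPoints G W := by
    intro g
    apply Subtype.ext
    rw [hsmul]
    simp
  obtain ⟨b, hb, hb0⟩ := hG.exists_fixed_point_of_prime_dvd_card_of_fixed_point W hdvd h0
  refine ⟨b.1, fun h => hb0 (Subtype.ext h.symm), fun g => ?_⟩
  have := hb g
  rw [← hsmul, this]

theorem exists_family_span_eq_top (hG : IsPGroup p G) :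
    ∀ (d : ℕ) (V : Type w) [AddCommGroup V] [Module k V] [Module.Finite k V]
      (ρ : Representation k G V), Module.finrank k V = d →
      ∃ e : Fin d → V, ∀ τ : Fin d → G,
        Submodule.span k (Set.range fun i => ρ (τ i) (e i)) = ⊤ := by
  intro d
  induction d with
  | zero =>
    intro V _ _ _ ρ hd
    have : Subsingleton V := Module.finrank_zero_iff.mp hd
    exact ⟨fun i => i.elim0, fun τ => Subsingleton.elim _ _⟩
  | succ d ih =>
    intro V _ _ _ ρ hd
    have : Nontrivial V := Module.nontrivial_of_finrank_pos (R := k) (by omega)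
    obtain ⟨w, hw0, hwfix⟩ := exists_fixed_ne_zero (p := p) hG ρ
    set W : Submodule k V := Submodule.span k {w} with hW
    have hstable : ∀ g, W ≤ W.comap (ρ g) := by
      intro g x hx
      rw [Submodule.mem_comap]
      obtain ⟨c, rfl⟩ := Submodule.mem_span_singleton.mp hx
      rw [map_smul, hwfix g]
      exact Submodule.smul_mem _ _ (Submodule.mem_span_singleton_self w)
    have hdq : Module.finrank k (V ⧸ W) = d := by
      have h1 := Submodule.finrank_quotient_add_finrank W
      have h2 : Module.finrank k W = 1 := finrank_span_singleton hw0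
      omega
    obtain ⟨ebar, hebar⟩ := ih (V ⧸ W) (ρ.quotient W hstable) hdq
    have hsurj := Submodule.mkQ_surjective W
    choose e he using fun i => hsurj (ebar i)
    refine ⟨Fin.cons w e, fun τ => ?_⟩
    set S : Submodule k V :=
      Submodule.span k (Set.range fun i => ρ (τ i) ((Fin.cons w e : Fin (d + 1) → V) i)) with hS
    have hWS : W ≤ S := by
      rw [hW, Submodule.span_le, Set.singleton_subset_iff]
      refine Submodule.subset_span ⟨0, ?_⟩
      simp [hwfix]
    have hmap : S.map W.mkQ = ⊤ := by
      rw [eq_top_iff, ← hebar (fun i => τ i.succ), Submodule.span_le]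
      rintro _ ⟨i, rfl⟩
      refine ⟨ρ (τ i.succ) (e i), Submodule.subset_span ⟨i.succ, ?_⟩, ?_⟩
      · simp
      · simp only [Representation.quotient_apply, ← he i, Submodule.mkQ_apply,
          Submodule.mapQ_apply]
    have := Submodule.comap_map_mkQ W S
    rw [hmap, Submodule.comap_top, sup_eq_right.mpr hWS] at this
    exact this.symm

end Groth.Agent.Lib.Seat73.PGroupRep
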