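import Mathlib
import Groth.Agent.Lib.Helper28Unmixed
import Groth.Agent.Lib.Helper5RLR3
import Groth.Agent.Lib.Seat73LengthEq

/-!
# Systems of parameters in Cohen–Macaulay local rings and the regularity hypotheses `RegHyp`
-/

set_option autoImplicit false
universe u v

namespace Groth.Agent.Lib.Seat73.SopReg

open Ideal IsLocalRing RingTheory.Sequence Groth.Agent.Lib.Seat73.Length

variable {A : Type u} [CommRing A]

/-- The value of a "mixed system": at coordinate `i`, either the product `∏ σ, f i σ` or one of
its factors. -/
def mixedVal {G : Type v} [Fintype G] {n : ℕ} (f : Fin n → G → A) (m : Fin n → Option G)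
    (i : Fin n) : A :=
  (m i).elim (∏ σ : G, f i σ) (f i)

section CM

variable [hCM : LocCoh.IsCohenMacaulayLocalRing A]

/-- In a CM local ring of dimension `d`, if the list `L ++ [y]` of `d` elements of `m` generates an
`m`-primary ideal, then `y` is regular modulo `ofList L`. -/
theorem isSMulRegular_of_primary (d : ℕ) (hd : ringKrullDim A = d) (L : List A) (y : A)
    (hlen : L.length + 1 = d) (hL : ∀ x ∈ L, x ∈ maximalIdeal A) (hy : y ∈ maximalIdeal A)
    (hprim : maximalIdeal A ≤ (ofList L ⊔ span {y}).radical) :
    IsSMulRegular (A ⧸ ofList L) y := by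
  have hmem : ∀ x ∈ L ++ [y], x ∈ maximalIdeal A := by
    intro x hx
    rcases List.mem_append.mp hx with h | h
    · exact hL x h
    · rw [List.mem_singleton] at h; rw [h]; exact hy
  have hof : ofList (L ++ [y]) = ofList L ⊔ span {y} := by
    rw [ofList_append, ofList_singleton]
  have hle : ofList (L ++ [y]) ≤ maximalIdeal A := by
    rw [Ideal.span_le]; intro x hx; exact hmem x hx
  have hrad : (ofList (L ++ [y])).radical = maximalIdeal A := by
    apply le_antisymm
    · exact (Ideal.radical_mono hle).trans (Ideal.IsPrime.radical_le_iff (inferInstance) |>.mpr le_rfl)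
    · rw [hof]; exact hprim
  have hht : ((L ++ [y]).length : ℕ∞) ≤ (ofList (L ++ [y])).height := by
    have hhr : (ofList (L ++ [y])).radical.height = (ofList (L ++ [y])).height := by
      rw [Ideal.height_eq_inf_minimalPrimes (ofList (L ++ [y])).radical,
        Ideal.height_eq_inf_minimalPrimes (ofList (L ++ [y])), Ideal.radical_minimalPrimes]
    rw [← hhr, hrad]
    have h1 : ((maximalIdeal A).height : WithBot ℕ∞) = ringKrullDim A :=
      IsLocalRing.maximalIdeal_height_eq_ringKrullDim
    rw [hd] at h1
    have h2 : (maximalIdeal A).height = (d : ℕ∞) := by exact_mod_cast h1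
    rw [h2, List.length_append, List.length_singleton, hlen]
  obtain ⟨hreg, -, -⟩ := Groth.Agent.Lib.Helper28.isWeaklyRegular_of_length_le_height
    (L ++ [y]) hmem hht
  rw [isWeaklyRegular_append_iff, isWeaklyRegular_singleton_iff] at hreg
  have e : (A ⧸ (ofList L • ⊤ : Submodule A A)) ≃ₗ[A] (A ⧸ ofList L) :=
    Submodule.quotEquivOfEq _ _ (by rw [smul_eq_mul, Ideal.mul_top])
  exact (e.isSMulRegular_congr y).mp hreg.2

variable {G : Type v} [Fintype G] [Nonempty G]

theorem prod_mem_maximalIdeal {n : ℕ} (f : Fin n → G → A) (hf : ∀ i σ, f i σ ∈ maximalIdeal A)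
    (i : Fin n) : ∏ σ : G, f i σ ∈ maximalIdeal A := by
  obtain ⟨σ₀⟩ := ‹Nonempty G›
  exact Ideal.mem_of_dvd _ (Finset.dvd_prod_of_mem (f i) (Finset.mem_univ σ₀)) (hf i σ₀)

omit hCM in
theorem ofList_ofFn {n : ℕ} (g : Fin n → A) : ofList (List.ofFn g) = span (Set.range g) := by
  unfold Ideal.ofList
  congr 1
  ext x
  simp [List.mem_ofFn]

/-- In a CM local ring of dimension `d`, if all mixed systems built from `ys` and `f` are
`m`-primary and `ys.length + n = d`, the regularity hypotheses `RegHyp` hold. -/
theorem regHyp_of_mixed_primary (d : ℕ) (hd : ringKrullDim A = d) :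
    ∀ (n : ℕ) (ys : List A) (f : Fin n → G → A), ys.length + n = d →
      (∀ y ∈ ys, y ∈ maximalIdeal A) → (∀ i σ, f i σ ∈ maximalIdeal A) →
      (∀ m : Fin n → Option G,
        maximalIdeal A ≤ (ofList ys ⊔ span (Set.range (mixedVal f m))).radical) →
      RegHyp n (ofList ys) f := by
  intro n
  induction n with
  | zero => intro ys f _ _ _ _; trivial
  | succ n ih =>
    intro ys f hlen hys hf hprim
    refine ⟨fun σ => ?_, fun σ => ?_⟩
    · -- regularity of `f 0 σ` modulo `ys` and the tail products
      set L : List A := ys ++ List.ofFn (fun i : Fin n => ∏ σ : G, f i.succ σ) with hLdef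
      have hLof : ofList L = ofList ys ⊔ span (Set.range fun i : Fin n => ∏ σ : G, f i.succ σ) := by
        rw [hLdef, ofList_append, ofList_ofFn]
      have hLlen : L.length + 1 = d := by
        rw [hLdef, List.length_append, List.length_ofFn]; omega
      have hLmem : ∀ x ∈ L, x ∈ maximalIdeal A := by
        intro x hx
        rcases List.mem_append.mp hx with h | h
        · exact hys x h
        · obtain ⟨i, rfl⟩ := (List.mem_ofFn' _ _).mp h
          exact prod_mem_maximalIdeal (fun i => f i.succ) (fun i σ => hf i.succ σ) i
      have hp := hprim (Fin.cons (some σ) (fun _ => none))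
      have hrange : ofList ys ⊔ span (Set.range (mixedVal f (Fin.cons (some σ) (fun _ => none)))) =
          ofList L ⊔ span {f 0 σ} := by
        rw [hLof, span_range_succ]
        have h0 : mixedVal f (Fin.cons (some σ) (fun _ => none)) 0 = f 0 σ := by
          simp [mixedVal]
        have hs : (fun i : Fin n => mixedVal f (Fin.cons (some σ) (fun _ => none)) i.succ) =
            fun i : Fin n => ∏ σ : G, f i.succ σ := by
          funext i; simp [mixedVal]
        rw [h0, hs]
        ac_rfl
      rw [hrange] at hp
      have hreg := isSMulRegular_of_primary d hd L (f 0 σ) hLlen hLmem (hf 0 σ) hp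
      rw [hLof] at hreg
      exact hreg
    · -- recursive hypotheses
      have hof : ofList (ys ++ [f 0 σ]) = ofList ys ⊔ span {f 0 σ} := by
        rw [ofList_append, ofList_singleton]
      rw [← hof]
      apply ih (ys ++ [f 0 σ]) (fun i => f i.succ)
      · rw [List.length_append, List.length_singleton]; omega
      · intro x hx
        rcases List.mem_append.mp hx with h | h
        · exact hys x h
        · rw [List.mem_singleton] at h; rw [h]; exact hf 0 σ
      · intro i τ; exact hf i.succ τ
      · intro m
        have hp := hprim (Fin.cons (some σ) m)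
        have hrange : ofList ys ⊔ span (Set.range (mixedVal f (Fin.cons (some σ) m))) =
            ofList (ys ++ [f 0 σ]) ⊔ span (Set.range (mixedVal (fun i => f i.succ) m)) := by
          rw [hof, span_range_succ]
          have h0 : mixedVal f (Fin.cons (some σ) m) 0 = f 0 σ := by simp [mixedVal]
          have hs : (fun i : Fin n => mixedVal f (Fin.cons (some σ) m) i.succ) =
              mixedVal (fun i => f i.succ) m := by
            funext i; simp [mixedVal]
          rw [h0, hs]
          ac_rfl
        rw [hrange] at hp
        exact hp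

end CM

end Groth.Agent.Lib.Seat73.SopReg
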