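import Mathlib
import Groth.Agent.Lib.Seat73SopReg
import Groth.Agent.Lib.Seat73FreeCrit
import Groth.Agent.Lib.Seat73LenField
import Groth.Agent.Lib.Seat73ArtinSchreier

/-!
# A complete regular local ring is finite free over a power series ring on a system of parameters
(seat 73)
-/

set_option autoImplicit false
set_option linter.unusedSectionVars false
universe u v

namespace Groth.Agent.Lib.Seat73.PsFree

open IsLocalRing RingTheory.Sequence Groth.Agent.Lib.Seat73.ArtinSchreier

variable (A : Type u) [CommRing A] [IsRegularLocalRing A] (n : ℕ) (k : Type v) [Field k]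
  [Algebra k A] [Algebra (MvPowerSeries (Fin n) k) A] [IsScalarTower k (MvPowerSeries (Fin n) k) A]
  (x : Fin n → A)

local notation "P" => MvPowerSeries (Fin n) k
local notation "JX" => (Ideal.span (Set.range (MvPowerSeries.X : Fin n → MvPowerSeries (Fin n) k)))
local notation "IX" => (Ideal.span (Set.range x))

section basic

theorem map_J (hX : ∀ i, algebraMap (MvPowerSeries (Fin n) k) A (MvPowerSeries.X i) = x i) :
    Ideal.map (algebraMap P A) JX = IX := by
  rw [Ideal.map_span, ← Set.range_comp]
  congr 2
  funext i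
  exact hX i

theorem pow_smul_top (hX : ∀ i, algebraMap (MvPowerSeries (Fin n) k) A (MvPowerSeries.X i) = x i)
    (m : ℕ) : (JX ^ m • ⊤ : Submodule P A) = (IX ^ m).restrictScalars P := by
  rw [Ideal.smul_top_eq_map, Ideal.map_pow, map_J A n k x hX]

theorem smul_top (hX : ∀ i, algebraMap (MvPowerSeries (Fin n) k) A (MvPowerSeries.X i) = x i) :
    (JX • ⊤ : Submodule P A) = (IX).restrictScalars P := by
  have := pow_smul_top A n k x hX 1
  rwa [pow_one, pow_one] at this

end basic

variable (hx : Ideal.radical (Ideal.span (Set.range x)) = maximalIdeal A)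
include hx

theorem x_mem (i : Fin n) : x i ∈ maximalIdeal A := by
  rw [← hx]
  exact Ideal.le_radical (Ideal.subset_span ⟨i, rfl⟩)

theorem I_le : IX ≤ maximalIdeal A := by
  rw [← hx]; exact Ideal.le_radical

theorem isFiniteLength_quot : IsFiniteLength A (A ⧸ IX) := by
  have hmin : maximalIdeal A ∈ (IX).minimalPrimes := by
    refine ⟨⟨inferInstance, I_le A n x hx⟩, fun q ⟨hq, hIq⟩ _ => ?_⟩
    rw [← hx]
    exact hq.radical_le_iff.mpr hIq
  have _art : IsArtinianRing (A ⧸ IX) :=
    IsLocalRing.quotient_artinian_of_mem_minimalPrimes_of_isLocalRing _ hmin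
  have h1 : IsFiniteLength (A ⧸ IX) (A ⧸ IX) := (isArtinianRing_iff_isFiniteLength (A ⧸ IX)).mp inferInstance
  rw [← Module.length_ne_top_iff] at h1 ⊢
  rwa [Module.length_eq_of_surjective (S := A) (R := A ⧸ IX) (M := A ⧸ IX)
    Ideal.Quotient.mk_surjective]

/-- the parameters form a regular sequence -/
theorem isWeaklyRegular_ofFn (hn : ringKrullDim A = n) :
    IsWeaklyRegular A (List.ofFn x) := by
  have _cm : LocCoh.IsCohenMacaulayLocalRing A :=
    Groth.Agent.Lib.Helper5.isCohenMacaulayLocalRing_of_isRegularLocalRing A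
  have hmem : ∀ y ∈ List.ofFn x, y ∈ maximalIdeal A := by
    intro y hy
    obtain ⟨i, rfl⟩ := (List.mem_ofFn' _ _).mp hy
    exact x_mem A n x hx i
  have hht : ((List.ofFn x).length : ℕ∞) ≤ (Ideal.ofList (List.ofFn x)).height := by
    have hhr : (Ideal.ofList (List.ofFn x)).radical.height = (Ideal.ofList (List.ofFn x)).height := by
      rw [Ideal.height_eq_inf_minimalPrimes (Ideal.ofList (List.ofFn x)).radical,
        Ideal.height_eq_inf_minimalPrimes (Ideal.ofList (List.ofFn x)), Ideal.radical_minimalPrimes]
    rw [← hhr, Groth.Agent.Lib.Seat73.SopReg.ofList_ofFn, hx]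
    have h1 : ((maximalIdeal A).height : WithBot ℕ∞) = ringKrullDim A :=
      IsLocalRing.maximalIdeal_height_eq_ringKrullDim
    rw [hn] at h1
    have h2 : (maximalIdeal A).height = (n : ℕ∞) := by exact_mod_cast h1
    rw [h2, List.length_ofFn]
  exact (Groth.Agent.Lib.Helper28.isWeaklyRegular_of_length_le_height (List.ofFn x) hmem hht).1

theorem mk_algebraMap_eq
    (hX : ∀ i, algebraMap (MvPowerSeries (Fin n) k) A (MvPowerSeries.X i) = x i) (r : P) :
    Ideal.Quotient.mk IX (algebraMap P A r) =
      algebraMap k (A ⧸ IX) (MvPowerSeries.constantCoeff r) := by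
  have h1 : r - MvPowerSeries.C (MvPowerSeries.constantCoeff r) ∈ JX := by
    apply maximalIdeal_le_span_X k n
    rw [mem_maximalIdeal_iff_constantCoeff, map_sub, MvPowerSeries.constantCoeff_C, sub_self]
  have h2 : algebraMap P A (r - MvPowerSeries.C (MvPowerSeries.constantCoeff r)) ∈ IX := by
    rw [← map_J A n k x hX]
    exact Ideal.mem_map_of_mem _ h1
  rw [map_sub, ← Ideal.Quotient.eq] at h2
  rw [h2]
  have h3 : (MvPowerSeries.C (MvPowerSeries.constantCoeff r) : P) =
      algebraMap k P (MvPowerSeries.constantCoeff r) := rfl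
  rw [h3, ← IsScalarTower.algebraMap_apply k P A]
  rfl

theorem exists_basis [IsAdicComplete (maximalIdeal A) A] (hn : ringKrullDim A = n)
    (hk : Function.Surjective (IsLocalRing.residue A ∘ algebraMap k A))
    (hX : ∀ i, algebraMap (MvPowerSeries (Fin n) k) A (MvPowerSeries.X i) = x i) :
    ∃ (d : ℕ) (b : Fin d → A), (d : ℕ∞) = Module.length A (A ⧸ IX) ∧
      Submodule.span P (Set.range b) = ⊤ ∧
      ∀ r : Fin d → P, ∑ i, r i • b i = 0 → r = 0 := by
  classical
  have hfl := isFiniteLength_quot A n x hx
  have hlen : Module.length A (A ⧸ IX) = Module.length k (A ⧸ IX) :=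
    LenField.length_eq_length_of_residue_surjective hk hfl
  have hflk : IsFiniteLength k (A ⧸ IX) := by
    rw [← Module.length_ne_top_iff, ← hlen, Module.length_ne_top_iff]
    exact hfl
  have _noeth : IsNoetherian k (A ⧸ IX) := (isFiniteLength_iff_isNoetherian_isArtinian.mp hflk).1
  have _fin : Module.Finite k (A ⧸ IX) := inferInstance
  let d := Module.finrank k (A ⧸ IX)
  let β : Module.Basis (Fin d) k (A ⧸ IX) := Module.finBasis k (A ⧸ IX)
  have hlift : ∀ i, ∃ a : A, Ideal.Quotient.mk IX a = β i := fun i =>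
    Ideal.Quotient.mk_surjective (β i)
  choose b hb using hlift
  refine ⟨d, b, ?_, ?_, ?_⟩
  · rw [hlen, Module.length_eq_finrank]
  · -- complete Nakayama
    have _haus : IsHausdorff JX A := by
      refine ⟨fun a ha => ?_⟩
      apply IsHausdorff.haus' (I := maximalIdeal A) a
      intro m
      have h1 := ha m
      rw [SModEq.zero] at h1 ⊢
      rw [pow_smul_top A n k x hX m, Submodule.restrictScalars_mem] at h1
      rw [smul_eq_mul, Ideal.mul_top]
      exact Ideal.pow_right_mono (I_le A n x hx) m h1
    apply FreeCrit.span_eq_top_of_isAdicComplete JX b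
    intro a _
    have hrepr := β.sum_repr (Ideal.Quotient.mk IX a)
    set c := β.repr (Ideal.Quotient.mk IX a) with hc
    have hmem : a - ∑ i, (algebraMap k P (c i)) • b i ∈ IX := by
      rw [← Ideal.Quotient.eq, map_sum, ← hrepr]
      refine Finset.sum_congr rfl fun i _ => ?_
      have e1 : (algebraMap k P (c i)) • b i = algebraMap k A (c i) * b i := by
        rw [Algebra.smul_def, ← IsScalarTower.algebraMap_apply k P A]
      rw [e1, map_mul, hb i, Algebra.smul_def]
      rfl
    rw [Submodule.mem_sup]
    refine ⟨∑ i, (algebraMap k P (c i)) • b i, ?_, a - ∑ i, (algebraMap k P (c i)) • b i, ?_,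
      by abel⟩
    · exact Submodule.sum_mem _ fun i _ =>
        Submodule.smul_mem _ _ (Submodule.subset_span ⟨i, rfl⟩)
    · rw [smul_top A n k x hX, Submodule.restrictScalars_mem]
      exact hmem
  · -- independence from the regular sequence
    have hreg : IsWeaklyRegular A (List.ofFn (MvPowerSeries.X : Fin n → P)) := by
      rw [← isWeaklyRegular_map_algebraMap_iff A A, List.map_ofFn]
      have : (algebraMap P A) ∘ (MvPowerSeries.X : Fin n → P) = x := funext hX
      rw [this]
      exact isWeaklyRegular_ofFn A n x hx hn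
    have hrs : ∀ r ∈ List.ofFn (MvPowerSeries.X : Fin n → P), r ∈ maximalIdeal P := by
      intro r hr
      obtain ⟨i, rfl⟩ := (List.mem_ofFn' _ _).mp hr
      exact X_mem_maximalIdeal k n i
    intro r hr
    refine FreeCrit.indep_of_regular (List.ofFn (MvPowerSeries.X : Fin n → P)) hrs A hreg b ?_ r hr
    intro r hr i
    rw [Groth.Agent.Lib.Seat73.SopReg.ofList_ofFn] at hr ⊢
    rw [smul_top A n k x hX, Submodule.restrictScalars_mem, ← Ideal.Quotient.eq_zero_iff_mem,
      map_sum] at hr
    have h1 : ∑ i, (MvPowerSeries.constantCoeff (r i)) • β i = 0 := by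
      rw [← hr]
      refine Finset.sum_congr rfl fun i _ => ?_
      rw [Algebra.smul_def (r i) (b i), map_mul, hb i, mk_algebraMap_eq A n k x hx hX,
        Algebra.smul_def]
    have h2 := Fintype.linearIndependent_iff.mp β.linearIndependent _ h1 i
    apply maximalIdeal_le_span_X k n
    rw [mem_maximalIdeal_iff_constantCoeff]
    exact h2

end Groth.Agent.Lib.Seat73.PsFree
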