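import Mathlib

/-!
# Extending an element of `m \ m²` to a small generating set of the maximal ideal,
and a Nakayama argument for the "inertia ideal" of an automorphism.
-/

set_option autoImplicit false
universe u v w

namespace Groth.Agent.Lib.Seat73.RegSys

open IsLocalRing

variable {A : Type u} [CommRing A] [IsLocalRing A] [IsNoetherianRing A]

/-- An element of `m \ m²` belongs to a generating set of `m` with at most
`dim_k (m/m²)` elements. -/
theorem exists_gens_of_notMem_sq (v : A) (hv : v ∈ maximalIdeal A)
    (hv2 : v ∉ maximalIdeal A ^ 2) :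
    ∃ s : Finset A, v ∈ s ∧ Ideal.span (s : Set A) = maximalIdeal A ∧
      s.card ≤ Module.finrank (ResidueField A) (CotangentSpace A) := by
  classical
  set π := (maximalIdeal A).toCotangent with hπ
  set vbar : CotangentSpace A := π ⟨v, hv⟩ with hvbar
  have hvbar0 : vbar ≠ 0 := by
    rw [hvbar, Ne, Ideal.toCotangent_eq_zero]
    exact hv2
  have hs : LinearIndepOn (ResidueField A) (id : CotangentSpace A → CotangentSpace A) {vbar} := by
    rw [linearIndepOn_singleton_iff]; exact hvbar0
  obtain ⟨b, -, hvb, hspan, hli⟩ := exists_linearIndepOn_id_extension hs (Set.subset_univ _)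
  have hli' : LinearIndependent (ResidueField A) (fun x : b => (x : CotangentSpace A)) := hli
  have hbfin : b.Finite := by
    have := hli'.finite
    exact Set.toFinite b
  have hsurj := (maximalIdeal A).toCotangent_surjective
  let lift : CotangentSpace A → maximalIdeal A := fun x =>
    if x = vbar then ⟨v, hv⟩ else (hsurj x).choose
  have hlift : ∀ x, π (lift x) = x := by
    intro x
    by_cases hx : x = vbar
    · simp only [lift, hx, if_true]; exact hvbar.symm
    · simp only [lift, hx, if_false]; exact (hsurj x).choose_spec
  refine ⟨hbfin.toFinset.image (fun x => (lift x : A)), ?_, ?_, ?_⟩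
  · rw [Finset.mem_image]
    refine ⟨vbar, ?_, ?_⟩
    · rw [Set.Finite.mem_toFinset]; exact hvb (Set.mem_singleton _)
    · simp [lift]
  · have h1 : Submodule.span (ResidueField A) (π '' (lift '' b)) = ⊤ := by
      have : π '' (lift '' b) = b := by
        rw [Set.image_image]
        simp only [hlift, Set.image_id']
      rw [this]
      exact top_le_iff.mp (fun x _ => hspan (Set.mem_univ x))
    rw [CotangentSpace.span_image_eq_top_iff] at h1
    have h2 := congrArg (Submodule.map (maximalIdeal A).subtype) h1
    rw [Submodule.map_span, Submodule.map_top, Submodule.range_subtype] at h2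
    refine Eq.trans ?_ h2
    show Submodule.span A _ = Submodule.span A _
    congr 1
    ext x
    simp only [Finset.coe_image, Set.Finite.coe_toFinset, Set.mem_image, Submodule.subtype_apply]
    constructor
    · rintro ⟨y, hy, rfl⟩
      exact ⟨lift y, ⟨y, hy, rfl⟩, rfl⟩
    · rintro ⟨_, ⟨y, hy, rfl⟩, rfl⟩
      exact ⟨y, hy, rfl⟩
  · refine Finset.card_image_le.trans ?_
    let _ : Fintype b := hbfin.fintype
    rw [Set.Finite.card_toFinset hbfin]
    exact hli'.fintype_card_le_finrank


/-- Nakayama argument: if a local endomorphism `σ` of a Noetherian local ring `A` fixes a set of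
representatives of the residue field, and `s` generates the maximal ideal, then every
`σ a - a` lies in the ideal generated by the `σ w - w`, `w ∈ s`. -/
theorem sub_mem_span_image (σ : A →+* A)
    (hfix : ∀ a : A, ∃ c : A, σ c = c ∧ a - c ∈ maximalIdeal A)
    (s : Set A) (hs : Ideal.span s = maximalIdeal A) (a : A) :
    σ a - a ∈ Ideal.span ((fun w => σ w - w) '' s) := by
  set J : Ideal A := Ideal.span ((fun w => σ w - w) '' s) with hJ
  set Iσ : Ideal A := Ideal.span (Set.range fun a => σ a - a) with hIσ
  have hmem : ∀ a, σ a - a ∈ Iσ := fun a => Ideal.subset_span ⟨a, rfl⟩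
  -- key inclusion
  have key : ∀ y ∈ Ideal.span s, σ y - y ∈ J ⊔ maximalIdeal A • Iσ := by
    intro y hy
    induction hy using Submodule.span_induction with
    | mem w hw => exact Ideal.mem_sup_left (Ideal.subset_span ⟨w, hw, rfl⟩)
    | zero => simp
    | add y z _ _ ihy ihz =>
      have : σ (y + z) - (y + z) = (σ y - y) + (σ z - z) := by rw [map_add]; ring
      rw [this]; exact Submodule.add_mem _ ihy ihz
    | smul r y hy ih =>
      have : σ (r • y) - r • y = σ r * (σ y - y) + y * (σ r - r) := by
        rw [smul_eq_mul, map_mul]; ring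
      rw [this]
      refine Submodule.add_mem _ (Ideal.mul_mem_left _ _ ih) (Ideal.mem_sup_right ?_)
      rw [smul_eq_mul]
      exact Ideal.mul_mem_mul (hs ▸ hy) (hmem r)
  have hle : Iσ ≤ J ⊔ maximalIdeal A • Iσ := by
    rw [hIσ, Ideal.span_le]
    rintro _ ⟨a, rfl⟩
    obtain ⟨c, hc, hac⟩ := hfix a
    have : σ a - a = σ (a - c) - (a - c) := by rw [map_sub, hc]; ring
    show σ a - a ∈ J ⊔ maximalIdeal A • Iσ
    rw [this]
    exact key _ (hs ▸ hac)
  have := Submodule.le_of_le_smul_of_le_jacobson_bot (IsNoetherian.noetherian Iσ)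
    (IsLocalRing.jacobson_eq_maximalIdeal (⊥ : Ideal A) bot_ne_top).ge hle
  exact this (hmem a)

end Groth.Agent.Lib.Seat73.RegSys
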