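import Mathlib
import Groth.Agent.Lib.Seat73InvFld2

/-!
Stable equivalence of fields of invariants of two faithful linear representations of a finite group
(consequence of the no-name lemma).
-/

set_option autoImplicit false

universe u

namespace Groth.Agent.Lib.Seat73.StableEquiv

open IntermediateField InvFldLib

section recog

variable {k : Type u} [Field k]

/-- Functoriality of the rational function field in the coefficient field. -/
noncomputable def fldCongr (ι : Type*) {F₁ F₂ : Type*} [Field F₁] [Field F₂] [Algebra k F₁]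
    [Algebra k F₂] (e : F₁ ≃ₐ[k] F₂) : InvFld.Fld ι F₁ ≃ₐ[k] InvFld.Fld ι F₂ :=
  IsFractionRing.algEquivOfAlgEquiv (MvPolynomial.mapAlgEquiv ι e)

variable {L : Type*} [Field L] [Algebra k L]

/-- The identity `↥E ≃ₐ[k] ↥(E.restrictScalars k)`. -/
noncomputable def restrictScalarsEquiv (F : IntermediateField k L) (E : IntermediateField F L) :
    ↥E ≃ₐ[k] ↥(E.restrictScalars k) where
  toFun x := ⟨x.1, x.2⟩
  invFun x := ⟨x.1, x.2⟩
  left_inv _ := rfl
  right_inv _ := rfl
  map_mul' _ _ := rfl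
  map_add' _ _ := rfl
  commutes' _ := rfl

theorem nonempty_algEquiv_of_adjoin (F E : IntermediateField k L) {r : ℕ} (t : Fin r → L)
    (hind : AlgebraicIndependent F t)
    (hE : (adjoin F (Set.range t)).restrictScalars k = E) :
    Nonempty (InvFld.Fld (Fin r) ↥F ≃ₐ[k] ↥E) := by
  subst hE
  exact ⟨((hind.aevalEquivField).restrictScalars k).trans (restrictScalarsEquiv F _)⟩

end recog

section diag

variable {k : Type u} [Field k] {n m : ℕ} {Γ : Type*} [Group Γ]
  (a : Γ →* (InvFld.Fld (Fin n) k ≃ₐ[k] InvFld.Fld (Fin n) k))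
  (b : Γ →* (InvFld.Fld (Fin m) k ≃ₐ[k] InvFld.Fld (Fin m) k))
  (hlb : ∀ g i, b g (InvFld.X i) ∈
    Submodule.span k (Set.range fun j : Fin m => (InvFld.X j : InvFld.Fld (Fin m) k)))

theorem psi_congr {σ σ' : InvFld.Fld (Fin n) k ≃ₐ[k] InvFld.Fld (Fin n) k}
    {τ τ' : InvFld.Fld (Fin m) k ≃ₐ[k] InvFld.Fld (Fin m) k} (hσ : σ = σ') (hτ : τ = τ')
    (h : ∀ i, τ (InvFld.X i) ∈
      Submodule.span k (Set.range fun j : Fin m => (InvFld.X j : InvFld.Fld (Fin m) k)))
    (h' : ∀ i, τ' (InvFld.X i) ∈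
      Submodule.span k (Set.range fun j : Fin m => (InvFld.X j : InvFld.Fld (Fin m) k))) :
    psi σ τ h = psi σ' τ' h' := by
  subst hσ hτ
  rfl

/-- The diagonal endomorphism attached to `g`. -/
noncomputable def PsiG (g : Γ) :
    InvFld.Fld (Fin n ⊕ Fin m) k →ₐ[k] InvFld.Fld (Fin n ⊕ Fin m) k :=
  psi (a g) (b g) (hlb g)

theorem PsiG_mul (g h : Γ) : PsiG a b hlb (g * h) = (PsiG a b hlb g).comp (PsiG a b hlb h) := by
  unfold PsiG
  rw [← psi_mul (a g) (b g) (hlb g) (a h) (b h) (hlb h) (by rw [← map_mul]; exact hlb (g * h))]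
  exact psi_congr (map_mul a g h) (map_mul b g h) _ _

theorem PsiG_one : PsiG a b hlb 1 = AlgHom.id k _ := by
  unfold PsiG
  rw [← psi_one (n := n) (m := m) (by rw [← map_one b]; exact hlb 1)]
  exact psi_congr (map_one a) (map_one b) _ _

/-- The diagonal action of `Γ` on `k(x, y)`. -/
noncomputable def Phi :
    Γ →* (InvFld.Fld (Fin n ⊕ Fin m) k ≃ₐ[k] InvFld.Fld (Fin n ⊕ Fin m) k) where
  toFun g := AlgEquiv.ofAlgHom (PsiG a b hlb g) (PsiG a b hlb g⁻¹)
    (by rw [← PsiG_mul, mul_inv_cancel, PsiG_one])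
    (by rw [← PsiG_mul, inv_mul_cancel, PsiG_one])
  map_one' := by
    ext z
    change PsiG a b hlb 1 z = z
    rw [PsiG_one]
    rfl
  map_mul' g h := by
    ext z
    change PsiG a b hlb (g * h) z = PsiG a b hlb g (PsiG a b hlb h z)
    rw [PsiG_mul]
    rfl

theorem Phi_apply (g : Γ) (z : InvFld.Fld (Fin n ⊕ Fin m) k) :
    Phi a b hlb g z = PsiG a b hlb g z := rfl

theorem Phi_embL (g : Γ) (z : InvFld.Fld (Fin n) k) :
    Phi a b hlb g (embL z) = embL (m := m) (a g z) := psi_embL (a g) (b g) (hlb g) z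

theorem Phi_embR (g : Γ) (z : InvFld.Fld (Fin m) k) :
    Phi a b hlb g (embR z) = embR (n := n) (b g z) := psi_embR (a g) (b g) (hlb g) z

end diag

section main

variable {k : Type u} [Field k] {n m : ℕ} {Γ : Type*} [Group Γ] [Finite Γ]
  (a : Γ →* (InvFld.Fld (Fin n) k ≃ₐ[k] InvFld.Fld (Fin n) k))
  (b : Γ →* (InvFld.Fld (Fin m) k ≃ₐ[k] InvFld.Fld (Fin m) k))
  (ha : Function.Injective a) (hb : Function.Injective b)
  (hla : ∀ g i, a g (InvFld.X i) ∈
    Submodule.span k (Set.range fun j : Fin n => (InvFld.X j : InvFld.Fld (Fin n) k)))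
  (hlb : ∀ g i, b g (InvFld.X i) ∈
    Submodule.span k (Set.range fun j : Fin m => (InvFld.X j : InvFld.Fld (Fin m) k)))

theorem eq_one_of_fix_X {ι : Type*} (σ : InvFld.Fld ι k ≃ₐ[k] InvFld.Fld ι k)
    (h : ∀ i, σ (InvFld.X i) = InvFld.X i) : σ = 1 := by
  have h1 : (σ : InvFld.Fld ι k →ₐ[k] InvFld.Fld ι k) = AlgHom.id k _ :=
    algHom_ext _ _ fun i => h i
  ext z
  exact DFunLike.congr_fun h1 z

instance finite_range_Phi : Finite ↥(Phi a b hlb).range :=
  Finite.of_surjective (Phi a b hlb).rangeRestrict (Phi a b hlb).rangeRestrict_surjective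

include ha hla in
theorem half_left :
    Nonempty (InvFld.Fld (Fin m) ↥(fixedField a.range) ≃ₐ[k] ↥(fixedField (Phi a b hlb).range)) := by
  obtain ⟨G', hG'⟩ : ∃ G' : Subgroup (InvFld.Fld (Fin n ⊕ Fin m) k ≃ₐ[k] InvFld.Fld (Fin n ⊕ Fin m) k),
    G' = (Phi a b hlb).range := ⟨_, rfl⟩
  have _fin : Finite G' := by rw [hG']; infer_instance
  obtain ⟨KA, hKA⟩ : ∃ KA : IntermediateField k (InvFld.Fld (Fin n ⊕ Fin m) k), KA =
    adjoin k (Set.range fun i : Fin n => (InvFld.X (Sum.inl i) : InvFld.Fld (Fin n ⊕ Fin m) k)) :=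
    ⟨_, rfl⟩
  have hKA' : KA = (embL (k := k) (n := n) (m := m)).fieldRange := by
    rw [hKA]; exact (fieldRange_emb Sum.inl Sum.inl_injective).symm
  have hXl : ∀ i : Fin n, (InvFld.X (Sum.inl i) : InvFld.Fld (Fin n ⊕ Fin m) k) =
      embL (InvFld.X i) := fun i => (emb_X Sum.inl Sum.inl_injective i).symm
  have hXr : ∀ j : Fin m, (InvFld.X (Sum.inr j) : InvFld.Fld (Fin n ⊕ Fin m) k) =
      embR (InvFld.X j) := fun j => (emb_X Sum.inr Sum.inr_injective j).symm
  have hK : ∀ σ ∈ G', ∀ z ∈ KA, σ z ∈ KA := by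
    intro σ hσ
    rw [hG'] at hσ
    obtain ⟨g, rfl⟩ := hσ
    rw [hKA]
    refine stable_of_span Sum.inl _ fun i => ?_
    rw [hXl, Phi_embL]
    exact embL_apply_mem_span (a g) (hla g) i
  have hfaith : ∀ σ ∈ G', (∀ z ∈ KA, σ z = z) → σ = 1 := by
    intro σ hσ hfix
    rw [hG'] at hσ
    obtain ⟨g, rfl⟩ := hσ
    have hg : a g = 1 := by
      apply eq_one_of_fix_X
      intro i
      apply emb_injective Sum.inl Sum.inl_injective
      have h1 := hfix (embL (InvFld.X i)) (by rw [hKA']; exact ⟨_, rfl⟩)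
      rw [Phi_embL] at h1
      exact h1
    have hg1 : g = 1 := ha (by rw [hg, map_one])
    rw [hg1, map_one]
  have hy : AlgebraicIndependent KA
      (fun j : Fin m => (InvFld.X (Sum.inr j) : InvFld.Fld (Fin n ⊕ Fin m) k)) := by
    rw [hKA]
    exact algebraicIndependent_X_comp Sum.inl Sum.inr
      (by rw [Sum.elim_inl_inr]; exact Function.injective_id)
  have hGy : ∀ σ ∈ G', ∀ j, σ (InvFld.X (Sum.inr j)) ∈ Submodule.span KA
      (Set.range fun j : Fin m => (InvFld.X (Sum.inr j) : InvFld.Fld (Fin n ⊕ Fin m) k)) := by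
    intro σ hσ j
    rw [hG'] at hσ
    obtain ⟨g, rfl⟩ := hσ
    apply mem_span_of_mem_span
    rw [hXr, Phi_embR]
    exact embR_apply_mem_span (b g) (hlb g) j
  have htop : adjoin KA
      (Set.range fun j : Fin m => (InvFld.X (Sum.inr j) : InvFld.Fld (Fin n ⊕ Fin m) k)) = ⊤ := by
    rw [hKA]
    exact adjoin_adjoin_eq_top Sum.inl Sum.inr
      (by rw [Sum.elim_inl_inr]; exact Function.surjective_id)
  obtain ⟨t, hind, hE⟩ := NoName.noname G' KA hK hfaith _ hy hGy htop
  obtain ⟨e1⟩ := nonempty_algEquiv_of_adjoin (KA ⊓ fixedField G') (fixedField G') t hind hE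
  -- the restriction of `embL` to the fixed fields
  have hmem : ∀ z : ↥(fixedField a.range), embL (m := m) (z : InvFld.Fld (Fin n) k) ∈
      KA ⊓ fixedField G' := by
    intro z
    rw [IntermediateField.mem_inf]
    refine ⟨by rw [hKA']; exact ⟨_, rfl⟩, ?_⟩
    rw [IntermediateField.mem_fixedField_iff]
    intro σ hσ
    rw [hG'] at hσ
    obtain ⟨g, rfl⟩ := hσ
    rw [Phi_embL]
    congr 1
    exact (IntermediateField.mem_fixedField_iff _ _).mp z.2 (a g) ⟨g, rfl⟩
  let f0 : ↥(fixedField a.range) →ₐ[k] ↥(KA ⊓ fixedField G') :=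
    { toFun := fun z => ⟨embL (m := m) (z : InvFld.Fld (Fin n) k), hmem z⟩
      map_one' := Subtype.ext (map_one _)
      map_mul' := fun x y => Subtype.ext (map_mul _ _ _)
      map_zero' := Subtype.ext (map_zero _)
      map_add' := fun x y => Subtype.ext (map_add _ _ _)
      commutes' := fun c => Subtype.ext (AlgHom.commutes _ c) }
  have hf0 : Function.Bijective f0 := by
    constructor
    · intro x y hxy
      apply Subtype.ext
      apply emb_injective Sum.inl Sum.inl_injective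
      exact congrArg Subtype.val hxy
    · intro w
      have hw := (IntermediateField.mem_inf.mp w.2)
      have hw1 : (w : InvFld.Fld (Fin n ⊕ Fin m) k) ∈
          (embL (k := k) (n := n) (m := m)).fieldRange := by rw [← hKA']; exact hw.1
      obtain ⟨z, hz⟩ := hw1
      have hzfix : z ∈ fixedField a.range := by
        rw [IntermediateField.mem_fixedField_iff]
        rintro _ ⟨g, rfl⟩
        apply emb_injective Sum.inl Sum.inl_injective
        have h1 := (IntermediateField.mem_fixedField_iff _ _).mp hw.2 (Phi a b hlb g)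
          (by rw [hG']; exact ⟨g, rfl⟩)
        rw [← hz] at h1
        rw [← Phi_embL a b hlb g z]
        exact h1
      exact ⟨⟨z, hzfix⟩, Subtype.ext hz⟩
  have e2 : ↥(fixedField G') ≃ₐ[k] ↥(fixedField (Phi a b hlb).range) := by
    rw [hG']
  exact ⟨((fldCongr (Fin m) (AlgEquiv.ofBijective f0 hf0)).trans e1).trans e2⟩

include hb hla in
theorem half_right :
    Nonempty (InvFld.Fld (Fin n) ↥(fixedField b.range) ≃ₐ[k] ↥(fixedField (Phi a b hlb).range)) := by
  obtain ⟨G', hG'⟩ : ∃ G' : Subgroup (InvFld.Fld (Fin n ⊕ Fin m) k ≃ₐ[k] InvFld.Fld (Fin n ⊕ Fin m) k),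
    G' = (Phi a b hlb).range := ⟨_, rfl⟩
  have _fin : Finite G' := by rw [hG']; infer_instance
  obtain ⟨KB, hKB⟩ : ∃ KB : IntermediateField k (InvFld.Fld (Fin n ⊕ Fin m) k), KB =
    adjoin k (Set.range fun i : Fin m => (InvFld.X (Sum.inr i) : InvFld.Fld (Fin n ⊕ Fin m) k)) :=
    ⟨_, rfl⟩
  have hKB' : KB = (embR (k := k) (n := n) (m := m)).fieldRange := by
    rw [hKB]; exact (fieldRange_emb Sum.inr Sum.inr_injective).symm
  have hXl : ∀ i : Fin n, (InvFld.X (Sum.inl i) : InvFld.Fld (Fin n ⊕ Fin m) k) =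
      embL (InvFld.X i) := fun i => (emb_X Sum.inl Sum.inl_injective i).symm
  have hXr : ∀ j : Fin m, (InvFld.X (Sum.inr j) : InvFld.Fld (Fin n ⊕ Fin m) k) =
      embR (InvFld.X j) := fun j => (emb_X Sum.inr Sum.inr_injective j).symm
  have hK : ∀ σ ∈ G', ∀ z ∈ KB, σ z ∈ KB := by
    intro σ hσ
    rw [hG'] at hσ
    obtain ⟨g, rfl⟩ := hσ
    rw [hKB]
    refine stable_of_span Sum.inr _ fun i => ?_
    rw [hXr, Phi_embR]
    exact embR_apply_mem_span (b g) (hlb g) i
  have hfaith : ∀ σ ∈ G', (∀ z ∈ KB, σ z = z) → σ = 1 := by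
    intro σ hσ hfix
    rw [hG'] at hσ
    obtain ⟨g, rfl⟩ := hσ
    have hg : b g = 1 := by
      apply eq_one_of_fix_X
      intro i
      apply emb_injective Sum.inr Sum.inr_injective
      have h1 := hfix (embR (InvFld.X i)) (by rw [hKB']; exact ⟨_, rfl⟩)
      rw [Phi_embR] at h1
      exact h1
    have hg1 : g = 1 := hb (by rw [hg, map_one])
    rw [hg1, map_one]
  have hsw : Sum.elim (Sum.inr : Fin m → Fin n ⊕ Fin m) (Sum.inl : Fin n → Fin n ⊕ Fin m) =
      Sum.swap := by
    funext x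
    cases x <;> rfl
  have hy : AlgebraicIndependent KB
      (fun j : Fin n => (InvFld.X (Sum.inl j) : InvFld.Fld (Fin n ⊕ Fin m) k)) := by
    rw [hKB]
    exact algebraicIndependent_X_comp Sum.inr Sum.inl
      (by rw [hsw]; exact Sum.swap_leftInverse.injective)
  have hGy : ∀ σ ∈ G', ∀ j, σ (InvFld.X (Sum.inl j)) ∈ Submodule.span KB
      (Set.range fun j : Fin n => (InvFld.X (Sum.inl j) : InvFld.Fld (Fin n ⊕ Fin m) k)) := by
    intro σ hσ j
    rw [hG'] at hσ
    obtain ⟨g, rfl⟩ := hσ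
    apply mem_span_of_mem_span
    rw [hXl, Phi_embL]
    exact embL_apply_mem_span (a g) (hla g) j
  have htop : adjoin KB
      (Set.range fun j : Fin n => (InvFld.X (Sum.inl j) : InvFld.Fld (Fin n ⊕ Fin m) k)) = ⊤ := by
    rw [hKB]
    exact adjoin_adjoin_eq_top Sum.inr Sum.inl
      (by rw [hsw]; exact Sum.swap_leftInverse.surjective)
  obtain ⟨t, hind, hE⟩ := NoName.noname G' KB hK hfaith _ hy hGy htop
  obtain ⟨e1⟩ := nonempty_algEquiv_of_adjoin (KB ⊓ fixedField G') (fixedField G') t hind hE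
  -- the restriction of `embR` to the fixed fields
  have hmem : ∀ z : ↥(fixedField b.range), embR (n := n) (z : InvFld.Fld (Fin m) k) ∈
      KB ⊓ fixedField G' := by
    intro z
    rw [IntermediateField.mem_inf]
    refine ⟨by rw [hKB']; exact ⟨_, rfl⟩, ?_⟩
    rw [IntermediateField.mem_fixedField_iff]
    intro σ hσ
    rw [hG'] at hσ
    obtain ⟨g, rfl⟩ := hσ
    rw [Phi_embR]
    congr 1
    exact (IntermediateField.mem_fixedField_iff _ _).mp z.2 (b g) ⟨g, rfl⟩
  let f0 : ↥(fixedField b.range) →ₐ[k] ↥(KB ⊓ fixedField G') :=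
    { toFun := fun z => ⟨embR (n := n) (z : InvFld.Fld (Fin m) k), hmem z⟩
      map_one' := Subtype.ext (map_one _)
      map_mul' := fun x y => Subtype.ext (map_mul _ _ _)
      map_zero' := Subtype.ext (map_zero _)
      map_add' := fun x y => Subtype.ext (map_add _ _ _)
      commutes' := fun c => Subtype.ext (AlgHom.commutes _ c) }
  have hf0 : Function.Bijective f0 := by
    constructor
    · intro x y hxy
      apply Subtype.ext
      apply emb_injective Sum.inr Sum.inr_injective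
      exact congrArg Subtype.val hxy
    · intro w
      have hw := (IntermediateField.mem_inf.mp w.2)
      have hw1 : (w : InvFld.Fld (Fin n ⊕ Fin m) k) ∈
          (embR (k := k) (n := n) (m := m)).fieldRange := by rw [← hKB']; exact hw.1
      obtain ⟨z, hz⟩ := hw1
      have hzfix : z ∈ fixedField b.range := by
        rw [IntermediateField.mem_fixedField_iff]
        rintro _ ⟨g, rfl⟩
        apply emb_injective Sum.inr Sum.inr_injective
        have h1 := (IntermediateField.mem_fixedField_iff _ _).mp hw.2 (Phi a b hlb g)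
          (by rw [hG']; exact ⟨g, rfl⟩)
        rw [← hz] at h1
        rw [← Phi_embR a b hlb g z]
        exact h1
      exact ⟨⟨z, hzfix⟩, Subtype.ext hz⟩
  have e2 : ↥(fixedField G') ≃ₐ[k] ↥(fixedField (Phi a b hlb).range) := by
    rw [hG']
  exact ⟨((fldCongr (Fin n) (AlgEquiv.ofBijective f0 hf0)).trans e1).trans e2⟩

include ha hb hla hlb in
/-- **Stable equivalence of invariant fields** of two faithful linear representations of a finite
group. -/
theorem stable_equiv :
    Nonempty (InvFld.Fld (Fin m) ↥(fixedField a.range) ≃ₐ[k]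
      InvFld.Fld (Fin n) ↥(fixedField b.range)) := by
  obtain ⟨e1⟩ := half_left a b ha hla hlb
  obtain ⟨e2⟩ := half_right a b hb hla hlb
  exact ⟨e1.trans e2.symm⟩

end main

end Groth.Agent.Lib.Seat73.StableEquiv
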