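import Mathlib
import Groth.Agent.Lib.Seat73StableEquiv

/-!
The field of invariants of the symmetric group permuting the variables of `k(x_1, …, x_n)` is
generated by the elementary symmetric polynomials, which are algebraically independent.
-/

set_option autoImplicit false

universe u

namespace Groth.Agent.Lib.Seat73.SymInv

open IntermediateField InvFldLib

variable {k : Type u} [Field k] {n : ℕ}

theorem emb_mul (π ρ : Equiv.Perm (Fin n)) :
    emb (k := k) (π * ρ) (π * ρ).injective = (emb π π.injective).comp (emb ρ ρ.injective) := by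
  apply algHom_ext
  intro i
  rw [AlgHom.comp_apply, emb_X, emb_X, emb_X]
  rfl

theorem emb_one : emb (k := k) (1 : Equiv.Perm (Fin n)) (1 : Equiv.Perm (Fin n)).injective =
    AlgHom.id k _ := by
  apply algHom_ext
  intro i
  rw [emb_X]
  rfl

theorem emb_perm_congr {π ρ : Equiv.Perm (Fin n)} (h : π = ρ) :
    emb (k := k) π π.injective = emb ρ ρ.injective := by
  subst h
  rfl

/-- The automorphism of `k(x_1, …, x_n)` permuting the variables. -/
noncomputable def permAut : Equiv.Perm (Fin n) →*
    (InvFld.Fld (Fin n) k ≃ₐ[k] InvFld.Fld (Fin n) k) where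
  toFun π := AlgEquiv.ofAlgHom (emb π π.injective)
    (emb (π⁻¹ : Equiv.Perm (Fin n)) (π⁻¹ : Equiv.Perm (Fin n)).injective)
    (by rw [← emb_mul, emb_perm_congr (mul_inv_cancel π), emb_one])
    (by rw [← emb_mul, emb_perm_congr (inv_mul_cancel π), emb_one])
  map_one' := by
    ext z
    change emb (1 : Equiv.Perm (Fin n)) (1 : Equiv.Perm (Fin n)).injective z = z
    rw [emb_one]
    rfl
  map_mul' π ρ := by
    ext z
    change emb (π * ρ) (π * ρ).injective z = emb π π.injective (emb ρ ρ.injective z)
    rw [emb_mul]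
    rfl

theorem permAut_apply (π : Equiv.Perm (Fin n)) (z : InvFld.Fld (Fin n) k) :
    permAut π z = emb π π.injective z := rfl

theorem permAut_X (π : Equiv.Perm (Fin n)) (i : Fin n) :
    permAut (k := k) π (InvFld.X i) = InvFld.X (π i) := emb_X π π.injective i

theorem permAut_algebraMap (π : Equiv.Perm (Fin n)) (p : MvPolynomial (Fin n) k) :
    permAut (k := k) π (algebraMap _ _ p) = algebraMap _ _ (MvPolynomial.rename π p) := by
  have h : ((permAut (k := k) π : InvFld.Fld (Fin n) k ≃ₐ[k] InvFld.Fld (Fin n) k) :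
        InvFld.Fld (Fin n) k →ₐ[k] InvFld.Fld (Fin n) k).comp
      (IsScalarTower.toAlgHom k (MvPolynomial (Fin n) k) (InvFld.Fld (Fin n) k)) =
      (IsScalarTower.toAlgHom k (MvPolynomial (Fin n) k) (InvFld.Fld (Fin n) k)).comp
        (MvPolynomial.rename π) := by
    apply MvPolynomial.algHom_ext
    intro i
    rw [AlgHom.comp_apply, AlgHom.comp_apply, MvPolynomial.rename_X]
    exact permAut_X π i
  exact DFunLike.congr_fun h p

theorem permAut_injective : Function.Injective (permAut (k := k) (n := n)) := by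
  intro π ρ h
  ext i
  have h1 : (InvFld.X (π i) : InvFld.Fld (Fin n) k) = InvFld.X (ρ i) := by
    rw [← permAut_X, ← permAut_X, h]
  have := (algebraicIndependent_X (k := k) (ι := Fin n)).injective h1
  rw [this]

/-- The elementary symmetric polynomials in `k(x_1, …, x_n)`. -/
noncomputable def esym (i : Fin n) : InvFld.Fld (Fin n) k :=
  algebraMap (MvPolynomial (Fin n) k) _ (MvPolynomial.esymm (Fin n) k (i + 1))

theorem algebraicIndependent_esym : AlgebraicIndependent k (esym (k := k) (n := n)) := by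
  have h1 : AlgebraicIndependent k (fun i : Fin n => MvPolynomial.esymm (Fin n) k (i + 1)) := by
    rw [algebraicIndependent_iff_injective_aeval]
    have h2 := MvPolynomial.esymmAlgHom_injective (σ := Fin n) k (n := n) (by simp)
    intro p q hpq
    apply h2
    apply Subtype.ext
    rw [MvPolynomial.esymmAlgHom_apply, MvPolynomial.esymmAlgHom_apply]
    exact hpq
  exact h1.map' (f := IsScalarTower.toAlgHom k (MvPolynomial (Fin n) k) (InvFld.Fld (Fin n) k))
    (IsFractionRing.injective _ _)

theorem algebraMap_mem_adjoin_of_isSymmetric (p : MvPolynomial (Fin n) k) (hp : p.IsSymmetric) :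
    algebraMap (MvPolynomial (Fin n) k) (InvFld.Fld (Fin n) k) p ∈
      adjoin k (Set.range (esym (k := k) (n := n))) := by
  obtain ⟨q, hq⟩ := MvPolynomial.esymmAlgHom_surjective (σ := Fin n) k (n := n) (by simp) ⟨p, hp⟩
  have h1 : p = MvPolynomial.aeval (fun i : Fin n => MvPolynomial.esymm (Fin n) k (i + 1)) q := by
    rw [← MvPolynomial.esymmAlgHom_apply, hq]
  have h2 : algebraMap (MvPolynomial (Fin n) k) (InvFld.Fld (Fin n) k) p =
      MvPolynomial.aeval (esym (k := k) (n := n)) q := by
    rw [h1]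
    exact (MvPolynomial.aeval_algebraMap_apply (InvFld.Fld (Fin n) k)
      (fun i : Fin n => MvPolynomial.esymm (Fin n) k (i + 1)) q).symm
  rw [h2]
  apply IntermediateField.algebra_adjoin_le_adjoin
  rw [Algebra.adjoin_range_eq_range_aeval]
  exact ⟨q, rfl⟩

/-- The fixed field of the symmetric group is generated by the elementary symmetric polynomials. -/
theorem fixedField_permAut_range :
    fixedField (permAut (k := k) (n := n)).range = adjoin k (Set.range (esym (k := k) (n := n))) := by
  classical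
  apply le_antisymm
  · intro f hf
    rw [IntermediateField.mem_fixedField_iff] at hf
    obtain ⟨p, q, hq, rfl⟩ := IsFractionRing.div_surjective (A := MvPolynomial (Fin n) k) f
    have hq0 : q ≠ 0 := nonZeroDivisors.ne_zero hq
    -- the norm of the denominator
    obtain ⟨N, hN⟩ : ∃ N : MvPolynomial (Fin n) k,
        N = ∏ π : Equiv.Perm (Fin n), MvPolynomial.rename π q := ⟨_, rfl⟩
    obtain ⟨q', hq'⟩ : ∃ q' : MvPolynomial (Fin n) k,
        q' = ∏ π ∈ (Finset.univ : Finset (Equiv.Perm (Fin n))).erase 1, MvPolynomial.rename π q :=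
      ⟨_, rfl⟩
    have hNq : N = q * q' := by
      rw [hN, hq', ← Finset.mul_prod_erase _ _ (Finset.mem_univ (1 : Equiv.Perm (Fin n)))]
      simp
    have hN0 : N ≠ 0 := by
      rw [hN, Finset.prod_ne_zero_iff]
      intro π _
      exact (map_ne_zero_iff _ (MvPolynomial.rename_injective _ π.injective)).mpr hq0
    have hNsym : N.IsSymmetric := by
      intro ρ
      rw [hN, map_prod]
      refine Fintype.prod_equiv (Equiv.mulLeft ρ) _ _ fun π => ?_
      rw [MvPolynomial.rename_rename]
      rfl
    have hfix : ∀ ρ : Equiv.Perm (Fin n),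
        MvPolynomial.rename ρ (p * q') = p * q' := by
      intro ρ
      apply IsFractionRing.injective (MvPolynomial (Fin n) k) (InvFld.Fld (Fin n) k)
      have h1 : algebraMap (MvPolynomial (Fin n) k) (InvFld.Fld (Fin n) k) (p * q') =
          (algebraMap _ _ p / algebraMap _ _ q) * algebraMap _ _ N := by
        have hq1 : algebraMap (MvPolynomial (Fin n) k) (InvFld.Fld (Fin n) k) q ≠ 0 :=
          (map_ne_zero_iff _ (IsFractionRing.injective _ _)).mpr hq0
        rw [hNq, map_mul, map_mul]
        field_simp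
      rw [← permAut_algebraMap, h1, map_mul, hf (permAut ρ) ⟨ρ, rfl⟩, permAut_algebraMap, hNsym ρ]
    have hmem1 := algebraMap_mem_adjoin_of_isSymmetric (p * q') hfix
    have hmem2 := algebraMap_mem_adjoin_of_isSymmetric N hNsym
    have hN1 : algebraMap (MvPolynomial (Fin n) k) (InvFld.Fld (Fin n) k) N ≠ 0 :=
      (map_ne_zero_iff _ (IsFractionRing.injective _ _)).mpr hN0
    have hq1 : algebraMap (MvPolynomial (Fin n) k) (InvFld.Fld (Fin n) k) q ≠ 0 :=
      (map_ne_zero_iff _ (IsFractionRing.injective _ _)).mpr hq0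
    have hq'1 : algebraMap (MvPolynomial (Fin n) k) (InvFld.Fld (Fin n) k) q' ≠ 0 := by
      intro h0
      apply hN1
      rw [hNq, map_mul, h0, mul_zero]
    have : algebraMap (MvPolynomial (Fin n) k) (InvFld.Fld (Fin n) k) p / algebraMap _ _ q =
        algebraMap _ _ (p * q') / algebraMap _ _ N := by
      rw [hNq, map_mul, map_mul]
      field_simp
    rw [this]
    exact div_mem hmem1 hmem2
  · rw [IntermediateField.adjoin_le_iff]
    rintro _ ⟨i, rfl⟩
    change esym i ∈ fixedField _
    rw [IntermediateField.mem_fixedField_iff]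
    rintro _ ⟨π, rfl⟩
    unfold esym
    rw [permAut_algebraMap, MvPolynomial.esymm_isSymmetric (Fin n) k _ π]

section pure

variable {A : Type u} [Field A] [Algebra k A]

/-- If `F = k(ē)` with `ē` algebraically independent, then `F(Y_1, …, Y_m)` is purely transcendental
over `k`. -/
theorem pure_of_adjoin (F : IntermediateField k A) {r : ℕ} (ē : Fin r → A)
    (hē : AlgebraicIndependent k ē) (hF : adjoin k (Set.range ē) = F) (m : ℕ) :
    ∃ (N : ℕ) (t : Fin N → InvFld.Fld (Fin m) ↥F),
      AlgebraicIndependent k t ∧ adjoin k (Set.range t) = ⊤ := by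
  subst hF
  obtain ⟨F, hF⟩ : ∃ F : IntermediateField k A, F = adjoin k (Set.range ē) := ⟨_, rfl⟩
  rw [← hF]
  have hmem : ∀ i, ē i ∈ F := fun i => by rw [hF]; exact subset_adjoin _ _ ⟨i, rfl⟩
  obtain ⟨e, he⟩ : ∃ e : Fin r → ↥F, e = fun i => ⟨ē i, hmem i⟩ := ⟨_, rfl⟩
  have heind : AlgebraicIndependent k e := by
    apply AlgebraicIndependent.of_comp F.val
    have : (F.val ∘ e) = ē := by rw [he]; rfl
    rw [this]
    exact hē
  have hetop : adjoin k (Set.range e) = ⊤ := by
    apply IntermediateField.lift_injective F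
    rw [IntermediateField.lift_adjoin, IntermediateField.lift_top, ← Set.range_comp]
    have h3 : (Subtype.val ∘ e : Fin r → A) = ē := by rw [he]; rfl
    rw [h3]
    exact hF.symm
  have hX : AlgebraicIndependent ↥F (fun j : Fin m => (InvFld.X j : InvFld.Fld (Fin m) ↥F)) :=
    algebraicIndependent_X
  have h1 := heind.sumElim_comp hX
  obtain ⟨w, hw⟩ : ∃ w : Fin m ⊕ Fin r → InvFld.Fld (Fin m) ↥F,
      w = Sum.elim (fun j : Fin m => (InvFld.X j : InvFld.Fld (Fin m) ↥F))
        (algebraMap ↥F (InvFld.Fld (Fin m) ↥F) ∘ e) := ⟨_, rfl⟩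
  rw [← hw] at h1
  refine ⟨m + r, w ∘ finSumFinEquiv.symm, h1.comp _ finSumFinEquiv.symm.injective, ?_⟩
  rw [finSumFinEquiv.symm.surjective.range_comp]
  obtain ⟨T, hT⟩ : ∃ T : IntermediateField k (InvFld.Fld (Fin m) ↥F), T = adjoin k (Set.range w) :=
    ⟨_, rfl⟩
  rw [← hT]
  have hwl : ∀ j : Fin m, (InvFld.X j : InvFld.Fld (Fin m) ↥F) ∈ T := by
    intro j
    rw [hT]
    exact subset_adjoin _ _ ⟨Sum.inl j, by rw [hw]; rfl⟩
  have hwr : ∀ i : Fin r, algebraMap ↥F (InvFld.Fld (Fin m) ↥F) (e i) ∈ T := by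
    intro i
    rw [hT]
    exact subset_adjoin _ _ ⟨Sum.inr i, by rw [hw]; rfl⟩
  have hc : ∀ c : ↥F, algebraMap ↥F (InvFld.Fld (Fin m) ↥F) c ∈ T := by
    have hle : adjoin k (Set.range e) ≤
        T.comap (IsScalarTower.toAlgHom k ↥F (InvFld.Fld (Fin m) ↥F)) := by
      rw [IntermediateField.adjoin_le_iff]
      rintro _ ⟨i, rfl⟩
      exact hwr i
    intro c
    have : c ∈ adjoin k (Set.range e) := by rw [hetop]; trivial
    exact hle this
  have hp : ∀ p : MvPolynomial (Fin m) ↥F,
      algebraMap (MvPolynomial (Fin m) ↥F) (InvFld.Fld (Fin m) ↥F) p ∈ T := by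
    intro p
    induction p using MvPolynomial.induction_on with
    | C c =>
      have : algebraMap (MvPolynomial (Fin m) ↥F) (InvFld.Fld (Fin m) ↥F) (MvPolynomial.C c) =
          algebraMap ↥F (InvFld.Fld (Fin m) ↥F) c := by
        rw [IsScalarTower.algebraMap_apply ↥F (MvPolynomial (Fin m) ↥F) (InvFld.Fld (Fin m) ↥F)]
        rfl
      rw [this]
      exact hc c
    | add p q hp hq => rw [map_add]; exact add_mem hp hq
    | mul_X p i hp => rw [map_mul]; exact mul_mem hp (hwl i)
  rw [eq_top_iff]
  intro z _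
  obtain ⟨p, q, hq, rfl⟩ := IsFractionRing.div_surjective (A := MvPolynomial (Fin m) ↥F) z
  exact div_mem (hp p) (hp q)

/-- Transport of a purely transcendental generating family along an isomorphism. -/
theorem transport {E E' : Type*} [Field E] [Field E'] [Algebra k E] [Algebra k E']
    (φ : E ≃ₐ[k] E') {N : ℕ} (t : Fin N → E) (h1 : AlgebraicIndependent k t)
    (h2 : adjoin k (Set.range t) = ⊤) :
    AlgebraicIndependent k (φ ∘ t) ∧ adjoin k (Set.range (φ ∘ t)) = ⊤ := by
  refine ⟨h1.map' (f := (φ : E →ₐ[k] E')) φ.injective, ?_⟩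
  rw [Set.range_comp]
  have := IntermediateField.adjoin_map k (Set.range t) (φ : E →ₐ[k] E')
  rw [h2, ← AlgHom.fieldRange_eq_map, AlgEquiv.fieldRange_eq_top] at this
  exact this.symm

end pure

end Groth.Agent.Lib.Seat73.SymInv
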