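import Mathlib

/-!
# Seat73 library: tame extensions of a discretely valued field with "everything is inertia"

Part A: valuation-theoretic lemmas for a valuation subring `W` of a field `Ω`:
roots of unity of order prime to the residue characteristic are distinct modulo the maximal ideal;
an automorphism moving every element of `W` by an element of the maximal ideal fixes every unit
`γ` whose `r`-th power it fixes.
-/

open Polynomial

universe u

namespace Groth.Agent.Lib.Seat73.TameA

variable {Ω : Type u} [Field Ω] (W : ValuationSubring Ω)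

/-- Elements integral over a ring whose image lies in `W` lie in `W`. -/
theorem valuation_le_one_of_isIntegral {R : Type*} [CommRing R] [Algebra R Ω]
    (hR : ∀ a : R, W.valuation (algebraMap R Ω a) ≤ 1) {x : Ω} (hx : IsIntegral R x) :
    W.valuation x ≤ 1 := by
  obtain ⟨f, hm, hf⟩ := hx
  by_cases hn : f.natDegree = 0
  · rw [Polynomial.natDegree_eq_zero] at hn
    obtain ⟨c, rfl⟩ := hn
    have hc : c = 1 := by simpa using hm.leadingCoeff
    subst hc
    simp at hf
  simp only [Polynomial.eval₂_eq_sum_range, Finset.sum_range_succ, hm.coeff_natDegree, map_one,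
    one_mul, add_eq_zero_iff_eq_neg] at hf
  apply_fun W.valuation at hf
  rw [Valuation.map_neg, map_pow] at hf
  contrapose! hf
  refine ne_of_lt (W.valuation.map_sum_lt ?_ ?_)
  · simp [hn, (hf.trans' (zero_lt_one)).ne']
  · simp only [Finset.mem_range, map_mul, map_pow]
    intro _ hi
    exact mul_lt_of_le_one_of_lt (hR _) <| pow_lt_pow_right₀ hf hi

/-- If `v(x)^r = 1` with `r ≠ 0` then `v(x) = 1`. -/
theorem valuation_eq_one_of_pow {x : Ω} {r : ℕ} (hr : r ≠ 0) (h : W.valuation (x ^ r) = 1) :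
    W.valuation x = 1 := by
  rw [map_pow] at h
  rcases lt_trichotomy (W.valuation x) 1 with h1 | h1 | h1
  · exact absurd h (pow_lt_one₀ zero_le h1 hr).ne
  · exact h1
  · exact absurd h (one_lt_pow₀ h1 hr).ne'

/-- A nontrivial `r`-th root of unity `ζ` has `ζ - 1` a unit of `W` as soon as `r` is one. -/
theorem valuation_sub_one_of_pow_eq_one {r : ℕ} (hr : r ≠ 0) (hrW : W.valuation (r : Ω) = 1)
    {ζ : Ω} (hζ : ζ ^ r = 1) (hζ1 : ζ ≠ 1) : W.valuation (ζ - 1) = 1 := by
  have hvζ : W.valuation ζ = 1 := valuation_eq_one_of_pow W hr (by rw [hζ, map_one])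
  have hsum : ∑ i ∈ Finset.range r, ζ ^ i = 0 := by
    have h := mul_geom_sum ζ r
    rw [hζ, sub_self] at h
    rcases mul_eq_zero.mp h with h | h
    · exact absurd (sub_eq_zero.mp h) hζ1
    · exact h
  -- `r = ∑ (1 - ζ^i) = (1 - ζ) * t`
  have key : (r : Ω) = (1 - ζ) * ∑ i ∈ Finset.range r, ∑ j ∈ Finset.range i, ζ ^ j := by
    have h1 : (r : Ω) = ∑ i ∈ Finset.range r, (1 - ζ ^ i) := by
      rw [Finset.sum_sub_distrib, hsum, sub_zero]
      simp
    rw [h1, Finset.mul_sum]
    refine Finset.sum_congr rfl fun i _ => ?_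
    have := mul_geom_sum ζ i
    linear_combination this
  have ht : W.valuation (∑ i ∈ Finset.range r, ∑ j ∈ Finset.range i, ζ ^ j) ≤ 1 := by
    refine W.valuation.map_sum_le fun i _ => W.valuation.map_sum_le fun j _ => ?_
    rw [map_pow, hvζ, one_pow]
  have hle : W.valuation (ζ - 1) ≤ 1 := by
    refine (W.valuation.map_sub_le (x := ζ) (y := 1) (g := 1) ?_ ?_)
    · rw [hvζ]
    · rw [map_one]
  have h2 : W.valuation (1 - ζ) = W.valuation (ζ - 1) := by
    rw [← neg_sub, Valuation.map_neg]
  apply le_antisymm hle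
  have h3 := congrArg W.valuation key
  rw [hrW, map_mul, h2] at h3
  calc (1 : W.ValueGroup) = _ := h3
    _ ≤ W.valuation (ζ - 1) * 1 := by gcongr
    _ = _ := mul_one _

/-- An automorphism `σ` with `v(σ γ - γ) < 1` fixes a unit `γ` of `W` if it fixes `γ ^ r`. -/
theorem eq_of_pow_eq_of_valuation_sub_lt_one {r : ℕ} (hr : r ≠ 0)
    (hrW : W.valuation (r : Ω) = 1) {γ γ' : Ω} (hγ : W.valuation γ = 1)
    (hpow : γ' ^ r = γ ^ r) (hlt : W.valuation (γ' - γ) < 1) : γ' = γ := by
  have hγ0 : γ ≠ 0 := by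
    rintro rfl
    simp at hγ
  by_contra hne
  have hζ : (γ' / γ) ^ r = 1 := by
    rw [div_pow, hpow, div_self (pow_ne_zero _ hγ0)]
  have hζ1 : γ' / γ ≠ 1 := by
    intro h
    exact hne ((div_eq_one_iff_eq hγ0).mp h)
  have h := valuation_sub_one_of_pow_eq_one W hr hrW hζ hζ1
  have h2 : γ' - γ = γ * (γ' / γ - 1) := by
    field_simp
  rw [h2, map_mul, hγ, h, one_mul] at hlt
  exact lt_irrefl _ hlt

end Groth.Agent.Lib.Seat73.TameA
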