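import Mathlib
import Groth.Agent.Lib.Seat73TameA

/-!
# Seat73 library: tame extensions, part B

`R` a discrete valuation ring with fraction field `K`, `Ω` a separable closure of `K`, `W` a
valuation subring of `Ω` containing the image of `R`, such that every `K`-automorphism of `Ω`
moves every element of `W` by an element of the maximal ideal of `W` ("everything is inertia").

* units of `R` have valuation one; `r`-th roots of unity (`r` prime to the residue characteristic)
  lie in `K`; an automorphism fixing `γ ^ r` fixes the unit `γ`;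
* `X ^ r - π` is irreducible over `K` for a uniformizer `π` (Eisenstein);
* the Kummer extension `K(π^{1/r})` has degree `r`, is Galois, and does not depend on the root.
-/

open Polynomial IntermediateField

universe u

set_option linter.unusedSectionVars false

namespace Groth.Agent.Lib.Seat73.TameB

open Groth.Agent.Lib.Seat73.TameA

variable {R K Ω : Type u} [CommRing R] [IsDomain R] [IsDiscreteValuationRing R] [Field K]
  [Algebra R K] [IsFractionRing R K] [Field Ω] [Algebra K Ω] [IsSepClosure K Ω] [Algebra R Ω]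
  [IsScalarTower R K Ω] (W : ValuationSubring Ω)

section basic

variable (hW1 : ∀ a : R, algebraMap R Ω a ∈ W)
include hW1

theorem val_le_one (a : R) : W.valuation (algebraMap R Ω a) ≤ 1 :=
  (W.valuation_le_one_iff _).mpr (hW1 a)

theorem val_unit {a : R} (ha : IsUnit a) : W.valuation (algebraMap R Ω a) = 1 := by
  obtain ⟨u, rfl⟩ := ha
  have h1 := val_le_one W hW1 (u : R)
  have h2 := val_le_one W hW1 ((u⁻¹ : Rˣ) : R)
  have h3 : W.valuation (algebraMap R Ω (u : R)) * W.valuation (algebraMap R Ω ((u⁻¹ : Rˣ) : R))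
      = 1 := by
    rw [← map_mul, ← map_mul, Units.mul_inv, map_one, map_one]
  apply le_antisymm h1
  calc (1 : W.ValueGroup) = _ := h3.symm
    _ ≤ W.valuation (algebraMap R Ω (u : R)) * 1 := by gcongr
    _ = _ := mul_one _

theorem val_natCast {r : ℕ} (hrk : (r : IsLocalRing.ResidueField R) ≠ 0) :
    W.valuation (r : Ω) = 1 := by
  have hu : IsUnit (r : R) := by
    by_contra h
    apply hrk
    have : (r : R) ∈ IsLocalRing.maximalIdeal R := (IsLocalRing.mem_maximalIdeal _).mpr h
    rw [← map_natCast (IsLocalRing.residue R)]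
    exact (IsLocalRing.residue_eq_zero_iff _).mpr this
  have := val_unit W hW1 hu
  rwa [map_natCast] at this

end basic

omit [IsDomain R] [IsDiscreteValuationRing R] [Algebra R K] [IsFractionRing R K] [Algebra R Ω]
  [IsScalarTower R K Ω] in
/-- An element fixed by all automorphisms lies in `K`. -/
theorem mem_range_of_fixed {x : Ω} (hx : ∀ σ : Ω ≃ₐ[K] Ω, σ x = x) :
    x ∈ Set.range (algebraMap K Ω) :=
  (InfiniteGalois.mem_range_algebraMap_iff_fixed x).mpr hx

section inertia

variable (hI : ∀ (σ : Ω ≃ₐ[K] Ω) (x : Ω), x ∈ W → σ x ∈ W ∧ W.valuation (σ x - x) < 1)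
include hI

theorem sigma_val_lt (σ : Ω ≃ₐ[K] Ω) {x : Ω} (hx : W.valuation x < 1) :
    W.valuation (σ x) < 1 := by
  have hxW : x ∈ W := (W.valuation_le_one_iff _).mp hx.le
  have h := (hI σ x hxW).2
  have : σ x = (σ x - x) + x := by ring
  rw [this]
  exact W.valuation.map_add_lt h hx

theorem fixed_of_pow {r : ℕ} (hr : r ≠ 0) (hrW : W.valuation (r : Ω) = 1)
    (σ : Ω ≃ₐ[K] Ω) {γ : Ω} (hγ : W.valuation γ = 1) (hpow : σ (γ ^ r) = γ ^ r) : σ γ = γ := by
  refine eq_of_pow_eq_of_valuation_sub_lt_one W hr hrW hγ ?_ ?_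
  · rw [← map_pow, hpow]
  · exact (hI σ γ ((W.valuation_le_one_iff _).mp hγ.le)).2

/-- `r`-th roots of unity lie in `K`. -/
theorem root_of_unity_mem {r : ℕ} (hr : r ≠ 0) (hrW : W.valuation (r : Ω) = 1)
    {ζ : Ω} (hζ : ζ ^ r = 1) : ζ ∈ Set.range (algebraMap K Ω) := by
  apply mem_range_of_fixed
  intro σ
  refine fixed_of_pow W hI hr hrW σ ?_ ?_
  · exact valuation_eq_one_of_pow W hr (by rw [hζ, map_one])
  · rw [hζ, map_one]

end inertia


theorem irreducible_X_pow_sub_C {π : R} (hπ : Irreducible π) {r : ℕ} (hr : 0 < r) :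
    Irreducible (X ^ r - C (algebraMap R K π) : K[X]) := by
  have hm : (X ^ r - C π : R[X]).Monic := monic_X_pow_sub_C π hr.ne'
  have hdeg : (X ^ r - C π : R[X]).natDegree = r := natDegree_X_pow_sub_C
  have hE : (X ^ r - C π : R[X]).IsEisensteinAt (IsLocalRing.maximalIdeal R) := by
    refine ⟨?_, ?_, ?_⟩
    · rw [hm.leadingCoeff]
      exact fun h => (IsLocalRing.maximalIdeal.isMaximal R).ne_top
        ((Ideal.eq_top_iff_one _).mpr h)
    · intro n hn
      rw [hdeg] at hn
      rw [coeff_sub, coeff_X_pow, coeff_C, if_neg hn.ne]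
      split_ifs
      · rw [zero_sub, neg_mem_iff, hπ.maximalIdeal_eq]
        exact Ideal.mem_span_singleton_self π
      · simp
    · rw [coeff_sub, coeff_X_pow, coeff_C, if_neg hr.ne, if_pos rfl, zero_sub, neg_mem_iff,
        hπ.maximalIdeal_eq, Ideal.span_singleton_pow, Ideal.mem_span_singleton]
      intro h
      have h2 : π ^ 2 ∣ π ^ 1 := by simpa using h
      have := (pow_dvd_pow_iff hπ.ne_zero hπ.not_isUnit).mp h2
      omega
  have hirr : Irreducible (X ^ r - C π : R[X]) :=
    hE.irreducible (IsLocalRing.maximalIdeal.isMaximal R).isPrime hm.isPrimitive (by rw [hdeg]; exact hr)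
  have := (hm.irreducible_iff_irreducible_map_fraction_map (K := K)).mp hirr
  simpa using this


section kummer

variable {π : R} (hπ : Irreducible π) {r : ℕ} (hr : 0 < r)
include hπ hr

theorem minpoly_root {α : Ω} (hα : α ^ r = algebraMap R Ω π) :
    minpoly K α = X ^ r - C (algebraMap R K π) := by
  refine (minpoly.eq_of_irreducible_of_monic (irreducible_X_pow_sub_C hπ hr) ?_
    (monic_X_pow_sub_C _ hr.ne')).symm
  simp [hα, ← IsScalarTower.algebraMap_apply]

theorem finrank_adjoin_root {α : Ω} (hα : α ^ r = algebraMap R Ω π) :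
    Module.finrank K K⟮α⟯ = r := by
  have hint : IsIntegral K α := Algebra.IsIntegral.isIntegral α
  rw [IntermediateField.adjoin.finrank hint, minpoly_root hπ hr hα, natDegree_X_pow_sub_C]

theorem adjoin_root_le (hμ : ∀ ζ : Ω, ζ ^ r = 1 → ζ ∈ Set.range (algebraMap K Ω))
    {α β : Ω} (hα : α ^ r = algebraMap R Ω π) (hβ : β ^ r = algebraMap R Ω π) :
    K⟮β⟯ ≤ K⟮α⟯ := by
  have hπ0 : algebraMap R Ω π ≠ 0 := by
    rw [IsScalarTower.algebraMap_apply R K Ω]
    simpa using hπ.ne_zero
  have hα0 : α ≠ 0 := by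
    rintro rfl
    rw [zero_pow hr.ne'] at hα
    exact hπ0 hα.symm
  obtain ⟨z, hz⟩ := hμ (β / α) (by rw [div_pow, hα, hβ, div_self hπ0])
  rw [IntermediateField.adjoin_simple_le_iff]
  have : β = algebraMap K Ω z * α := by
    rw [hz]; field_simp
  rw [this]
  exact mul_mem (IntermediateField.algebraMap_mem _ z) (mem_adjoin_simple_self K α)

theorem adjoin_root_eq (hμ : ∀ ζ : Ω, ζ ^ r = 1 → ζ ∈ Set.range (algebraMap K Ω))
    {α β : Ω} (hα : α ^ r = algebraMap R Ω π) (hβ : β ^ r = algebraMap R Ω π) :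
    K⟮β⟯ = K⟮α⟯ :=
  le_antisymm (adjoin_root_le hπ hr hμ hα hβ) (adjoin_root_le hπ hr hμ hβ hα)

theorem isGalois_adjoin_root (hμ : ∀ ζ : Ω, ζ ^ r = 1 → ζ ∈ Set.range (algebraMap K Ω))
    {α : Ω} (hα : α ^ r = algebraMap R Ω π) : IsGalois K K⟮α⟯ := by
  have hn : Normal K K⟮α⟯ := by
    rw [IntermediateField.normal_iff_forall_map_le']
    intro σ
    rw [IntermediateField.adjoin_map, Set.image_singleton]
    refine adjoin_root_le hπ hr hμ hα ?_
    change (σ α) ^ r = _
    rw [← map_pow, hα, IsScalarTower.algebraMap_apply R K Ω, AlgEquiv.commutes]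
  exact ⟨⟩

end kummer


end Groth.Agent.Lib.Seat73.TameB
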