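import Mathlib
import Groth.Agent.Lib.Seat73TameA
import Groth.Agent.Lib.Seat73TameB

/-!
# Seat73 library: tame extensions, part C

Setting as in part B (`R` a DVR, `K` its fraction field, `Ω` a separable closure, `W` a valuation
subring of `Ω` over `R`, every automorphism in the inertia group).  For a finite Galois
subextension `L` of degree `r` prime to the residue characteristic, with `S` the integral closure
of `R` in `L`:

* `Q₀`: the prime of `S` cut out by `W`; it is the only prime over the maximal ideal of `R`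
  (`eq_Q₀_of_liesOver`, `eq_Q₀_of_isMaximal`), because the Galois group fixes it;
* the residue extension is purely inseparable (`isPurelyInseparable_residue`);
* hence `e = r` (`ramificationIdx_Q₀`, `ramificationIdx_eq_finrank`);
* `L` contains an `r`-th root of any uniformizer of `R` (`exists_root`).
-/

open Polynomial IntermediateField
open scoped Pointwise

universe u

set_option linter.unusedSectionVars false

namespace Groth.Agent.Lib.Seat73.TameC

open Groth.Agent.Lib.Seat73.TameA Groth.Agent.Lib.Seat73.TameB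

variable {R K Ω : Type u} [CommRing R] [IsDomain R] [IsDiscreteValuationRing R] [Field K]
  [Algebra R K] [IsFractionRing R K] [Field Ω] [Algebra K Ω] [IsSepClosure K Ω] [Algebra R Ω]
  [IsScalarTower R K Ω] (L : IntermediateField K Ω) [FiniteDimensional K L] [IsGalois K L]

local instance : IsScalarTower R L Ω := IsScalarTower.of_algebraMap_eq fun _ => rfl

noncomputable local instance : IsDedekindDomain (integralClosure R L) :=
  integralClosure.isDedekindDomain R K L

local instance : Module.Finite R (integralClosure R L) :=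
  IsIntegralClosure.finite R K L _

local instance : IsFractionRing (integralClosure R L) L :=
  integralClosure.isFractionRing_of_finite_extension K L

local instance : Module.IsTorsionFree R (integralClosure R L) := by
  have : FaithfulSMul R L := by
    rw [faithfulSMul_iff_algebraMap_injective, IsScalarTower.algebraMap_eq R K L]
    exact (algebraMap K L).injective.comp (IsFractionRing.injective R K)
  infer_instance

noncomputable local instance : MulSemiringAction Gal(L/K) (integralClosure R L) :=
  IsIntegralClosure.MulSemiringAction R K L _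

local instance : IsGaloisGroup Gal(L/K) R (integralClosure R L) :=
  IsGaloisGroup.of_isFractionRing _ _ _ K L

variable (W : ValuationSubring Ω)

/-- elements of the integral closure have valuation `≤ 1`. -/
theorem val_le_one_of_mem (hW1 : ∀ a : R, algebraMap R Ω a ∈ W) (s : integralClosure R L) :
    W.valuation ((s : L) : Ω) ≤ 1 := by
  refine valuation_le_one_of_isIntegral W (fun a => (W.valuation_le_one_iff _).mpr (hW1 a)) ?_
  have h : IsIntegral R (s : L) := s.2
  exact h.algebraMap (B := Ω)

/-- The ideal of elements of positive valuation. -/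
def Q₀ (hS : ∀ s : integralClosure R L, W.valuation ((s : L) : Ω) ≤ 1) :
    Ideal (integralClosure R L) where
  carrier := {s | W.valuation ((s : L) : Ω) < 1}
  add_mem' := fun {a b} ha hb => by
    simp only [Set.mem_ofPred_eq] at ha hb ⊢
    push_cast
    exact W.valuation.map_add_lt ha hb
  zero_mem' := by simp
  smul_mem' := fun c x hx => by
    simp only [Set.mem_ofPred_eq, smul_eq_mul] at hx ⊢
    push_cast
    rw [map_mul]
    exact mul_lt_one_of_nonneg_of_lt_one_right (hS c) zero_le hx

variable {L W}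

theorem mem_Q₀ {hS : ∀ s : integralClosure R L, W.valuation ((s : L) : Ω) ≤ 1}
    {s : integralClosure R L} : s ∈ Q₀ L W hS ↔ W.valuation ((s : L) : Ω) < 1 := Iff.rfl

theorem Q₀_isPrime (hS : ∀ s : integralClosure R L, W.valuation ((s : L) : Ω) ≤ 1) :
    (Q₀ L W hS).IsPrime := by
  refine ⟨?_, ?_⟩
  · rw [Ne, Ideal.eq_top_iff_one, mem_Q₀]
    simp
  · intro a b hab
    rw [mem_Q₀] at hab ⊢
    rw [mem_Q₀]
    push_cast at hab
    rw [map_mul] at hab
    by_contra! h
    have h1 : W.valuation ((a : L) : Ω) = 1 := le_antisymm (hS a) h.1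
    have h2 : W.valuation ((b : L) : Ω) = 1 := le_antisymm (hS b) h.2
    rw [h1, h2, one_mul] at hab
    exact lt_irrefl _ hab

theorem Q₀_liesOver (hS : ∀ s : integralClosure R L, W.valuation ((s : L) : Ω) ≤ 1)
    (hW2 : ∀ a ∈ IsLocalRing.maximalIdeal R, W.valuation (algebraMap R Ω a) < 1) :
    (Q₀ L W hS).LiesOver (IsLocalRing.maximalIdeal R) := by
  have := Q₀_isPrime hS
  refine ⟨?_⟩
  have hle : IsLocalRing.maximalIdeal R ≤ (Q₀ L W hS).under R := by
    intro a ha
    rw [Ideal.mem_comap, mem_Q₀]
    exact hW2 a ha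
  exact ((IsLocalRing.maximalIdeal.isMaximal R).eq_of_le
    (Ideal.IsPrime.ne_top inferInstance) hle)

section galois

variable (hS : ∀ s : integralClosure R L, W.valuation ((s : L) : Ω) ≤ 1)
  (hI : ∀ (σ : Ω ≃ₐ[K] Ω) (x : Ω), x ∈ W → σ x ∈ W ∧ W.valuation (σ x - x) < 1)

theorem coe_smul (σ : Gal(L/K)) (s : integralClosure R L) :
    (((σ • s : integralClosure R L) : L) : Ω) = (σ.liftNormal Ω) ((s : L) : Ω) := by
  have h1 : ((σ • s : integralClosure R L) : L) = σ (s : L) :=
    algebraMap_galRestrict_apply R σ s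
  rw [h1]
  exact (σ.liftNormal_commutes Ω (s : L)).symm

include hI in
theorem smul_sub_mem_Q₀ (σ : Gal(L/K)) (s : integralClosure R L) :
    σ • s - s ∈ Q₀ L W hS := by
  rw [mem_Q₀]
  push_cast
  rw [coe_smul]
  exact (hI _ _ ((W.valuation_le_one_iff _).mp (hS s))).2

include hI in
theorem smul_Q₀ (σ : Gal(L/K)) : σ • Q₀ L W hS = Q₀ L W hS := by
  have hle : ∀ τ : Gal(L/K), τ • Q₀ L W hS ≤ Q₀ L W hS := by
    intro τ x hx
    obtain ⟨y, hy, rfl⟩ := (Ideal.mem_map_iff_of_surjective _
      (MulSemiringAction.toRingEquiv Gal(L/K) (integralClosure R L) τ).surjective).mp hx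
    have h := smul_sub_mem_Q₀ hS hI τ y
    have : τ • y = (τ • y - y) + y := by ring
    change τ • y ∈ _
    rw [this]
    exact Ideal.add_mem _ h hy
  refine le_antisymm (hle σ) ?_
  intro x hx
  have h1 : σ⁻¹ • x ∈ Q₀ L W hS := by
    have h := smul_sub_mem_Q₀ hS hI σ⁻¹ x
    have : σ⁻¹ • x = (σ⁻¹ • x - x) + x := by ring
    rw [this]
    exact Ideal.add_mem _ h hx
  have h2 : x = σ • (σ⁻¹ • x) := (smul_inv_smul σ x).symm
  rw [h2]
  exact Ideal.mem_map_of_mem _ h1

end galois

section unique

variable (hS : ∀ s : integralClosure R L, W.valuation ((s : L) : Ω) ≤ 1)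
  (hW2 : ∀ a ∈ IsLocalRing.maximalIdeal R, W.valuation (algebraMap R Ω a) < 1)
  (hI : ∀ (σ : Ω ≃ₐ[K] Ω) (x : Ω), x ∈ W → σ x ∈ W ∧ W.valuation (σ x - x) < 1)

include hW2 hI in
theorem eq_Q₀_of_liesOver (P : Ideal (integralClosure R L)) [P.IsPrime]
    [P.LiesOver (IsLocalRing.maximalIdeal R)] : P = Q₀ L W hS := by
  have := Q₀_isPrime hS
  have := Q₀_liesOver hS hW2
  obtain ⟨σ, hσ⟩ := Ideal.exists_smul_eq_of_isGaloisGroup (IsLocalRing.maximalIdeal R)
    (Q₀ L W hS) P Gal(L/K)
  rw [← hσ, smul_Q₀ hS hI]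

include hW2 hI in
theorem eq_Q₀_of_isMaximal (P : Ideal (integralClosure R L)) [hP : P.IsMaximal] :
    P = Q₀ L W hS := by
  have h1 : (P.under R).IsMaximal := Ideal.isMaximal_comap_of_isIntegral_of_isMaximal P
  have h2 : P.under R = IsLocalRing.maximalIdeal R := IsLocalRing.eq_maximalIdeal h1
  have : P.LiesOver (IsLocalRing.maximalIdeal R) := ⟨h2.symm⟩
  exact eq_Q₀_of_liesOver hS hW2 hI P

include hW2 hI in
theorem primesOver_eq :
    (IsLocalRing.maximalIdeal R).primesOver (integralClosure R L) = {Q₀ L W hS} := by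
  ext P
  constructor
  · rintro ⟨h1, h2⟩
    exact eq_Q₀_of_liesOver hS hW2 hI P
  · rintro rfl
    exact ⟨Q₀_isPrime hS, Q₀_liesOver hS hW2⟩

include hW2 in
theorem Q₀_isMaximal : (Q₀ L W hS).IsMaximal := by
  have := Q₀_isPrime hS
  have := Q₀_liesOver hS hW2
  exact Ideal.IsMaximal.of_liesOver_isMaximal (Q₀ L W hS) (IsLocalRing.maximalIdeal R)

end unique

section residue

variable (hS : ∀ s : integralClosure R L, W.valuation ((s : L) : Ω) ≤ 1)
  (hW2 : ∀ a ∈ IsLocalRing.maximalIdeal R, W.valuation (algebraMap R Ω a) < 1)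
  (hI : ∀ (σ : Ω ≃ₐ[K] Ω) (x : Ω), x ∈ W → σ x ∈ W ∧ W.valuation (σ x - x) < 1)

attribute [local instance] Ideal.Quotient.field

include hI in
theorem isPurelyInseparable_residue [(Q₀ L W hS).IsMaximal]
    [(Q₀ L W hS).LiesOver (IsLocalRing.maximalIdeal R)] :
    IsPurelyInseparable (R ⧸ IsLocalRing.maximalIdeal R)
      (integralClosure R L ⧸ Q₀ L W hS) := by
  classical
  rw [isPurelyInseparable_iff_natSepDegree_eq_one]
  intro x
  obtain ⟨s, rfl⟩ := Ideal.Quotient.mk_surjective x
  have : Fintype Gal(L/K) := Fintype.ofFinite _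
  obtain ⟨F₀, hF₀⟩ := Algebra.IsInvariant.charpoly_mem_lifts R (integralClosure R L) Gal(L/K) s
  set k := R ⧸ IsLocalRing.maximalIdeal R
  set l := integralClosure R L ⧸ Q₀ L W hS
  set x : l := Ideal.Quotient.mk _ s
  have hmap : (F₀.map (algebraMap R k)).map (algebraMap k l) =
      (X - C x) ^ Fintype.card Gal(L/K) := by
    rw [Polynomial.map_map, ← IsScalarTower.algebraMap_eq,
      IsScalarTower.algebraMap_eq R (integralClosure R L) l, ← Polynomial.map_map]
    rw [coe_mapRingHom] at hF₀
    rw [hF₀]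
    rw [MulSemiringAction.charpoly, Polynomial.map_prod]
    have hc : ∀ g ∈ (Finset.univ : Finset Gal(L/K)),
        Polynomial.map (algebraMap (integralClosure R L) l) (X - C (g • s)) = X - C x := by
      intro g _
      rw [Polynomial.map_sub, Polynomial.map_X, Polynomial.map_C]
      congr 2
      change Ideal.Quotient.mk _ (g • s) = Ideal.Quotient.mk _ s
      rw [Ideal.Quotient.eq]
      exact smul_sub_mem_Q₀ hS hI g s
    rw [Finset.prod_congr rfl hc, Finset.prod_const, Finset.card_univ]
  have hcard : Fintype.card Gal(L/K) ≠ 0 := Fintype.card_ne_zero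
  have hroot : aeval x (F₀.map (algebraMap R k)) = 0 := by
    rw [← Polynomial.eval_map_algebraMap, hmap]
    simp [hcard]
  have hdvd := minpoly.dvd k x hroot
  have hdvd2 := Polynomial.map_dvd (algebraMap k l) hdvd
  rw [hmap] at hdvd2
  have hne : ((X - C x) ^ Fintype.card Gal(L/K) : l[X]) ≠ 0 := pow_ne_zero _ (X_sub_C_ne_zero x)
  have h1 := natSepDegree_le_of_dvd _ _ hdvd2 hne
  rw [natSepDegree_map, natSepDegree_X_sub_C_pow, if_neg hcard] at h1
  have hint : IsIntegral k x := Algebra.IsIntegral.isIntegral x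
  have h2 : (minpoly k x).natSepDegree ≠ 0 := by
    rw [Ne, natSepDegree_eq_zero_iff]
    exact (minpoly.natDegree_pos hint).ne'
  exact le_antisymm h1 (Nat.one_le_iff_ne_zero.mpr h2)

end residue

section ram

variable (hS : ∀ s : integralClosure R L, W.valuation ((s : L) : Ω) ≤ 1)
  (hW2 : ∀ a ∈ IsLocalRing.maximalIdeal R, W.valuation (algebraMap R Ω a) < 1)
  (hI : ∀ (σ : Ω ≃ₐ[K] Ω) (x : Ω), x ∈ W → σ x ∈ W ∧ W.valuation (σ x - x) < 1)

attribute [local instance] Ideal.Quotient.field

include hW2 hI in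
theorem ramificationIdx_Q₀ (hrk : ((Module.finrank K L : ℕ) : IsLocalRing.ResidueField R) ≠ 0) :
    (Q₀ L W hS).ramificationIdx R = Module.finrank K L := by
  have hmax := Q₀_isMaximal hS hW2
  have hprime := Q₀_isPrime hS
  have hlies := Q₀_liesOver hS hW2
  have hpi := isPurelyInseparable_residue hS hI
  have hformula := Ideal.ncard_primesOver_mul_ramificationIdxIn_mul_inertiaDegIn
    (IsLocalRing.maximalIdeal R) (integralClosure R L) Gal(L/K)
  rw [primesOver_eq hS hW2 hI, Set.ncard_singleton, one_mul,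
    Ideal.ramificationIdxIn_eq_ramificationIdx _ (Q₀ L W hS) Gal(L/K),
    Ideal.inertiaDegIn_eq_inertiaDeg _ (Q₀ L W hS) Gal(L/K),
    Ideal.inertiaDeg_eq_of_isMaximal (IsLocalRing.maximalIdeal R) (Q₀ L W hS),
    IsGalois.card_aut_eq_finrank] at hformula
  obtain ⟨q, hq⟩ := ExpChar.exists (R ⧸ IsLocalRing.maximalIdeal R)
  obtain ⟨n, hn⟩ := IsPurelyInseparable.finrank_eq_pow (R ⧸ IsLocalRing.maximalIdeal R)
    (integralClosure R L ⧸ Q₀ L W hS) q
  rw [hn] at hformula
  have hone : q ^ n = 1 := by
    rcases Nat.eq_zero_or_pos n with rfl | hnpos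
    · exact pow_zero _
    · rcases hq with _ | ⟨hprime'⟩
      · simp
      · exfalso
        apply hrk
        have hdvd : q ∣ Module.finrank K L := by
          rw [← hformula]
          exact Dvd.dvd.mul_left (dvd_pow_self _ hnpos.ne') _
        exact (CharP.cast_eq_zero_iff (R ⧸ IsLocalRing.maximalIdeal R) q _).mpr hdvd
  rwa [hone, mul_one] at hformula

end ram

section root

variable (hW1 : ∀ a : R, algebraMap R Ω a ∈ W)
  (hW2 : ∀ a ∈ IsLocalRing.maximalIdeal R, W.valuation (algebraMap R Ω a) < 1)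
  (hI : ∀ (σ : Ω ≃ₐ[K] Ω) (x : Ω), x ∈ W → σ x ∈ W ∧ W.valuation (σ x - x) < 1)

include hW1 hW2 hI in
/-- Every maximal ideal of the integral closure has ramification index `[L : K]`. -/
theorem ramificationIdx_eq_finrank
    (hrk : ((Module.finrank K L : ℕ) : IsLocalRing.ResidueField R) ≠ 0)
    (P : Ideal (integralClosure R L)) [P.IsMaximal] :
    P.ramificationIdx R = Module.finrank K L := by
  have hS := val_le_one_of_mem L W hW1
  rw [eq_Q₀_of_isMaximal hS hW2 hI P]
  exact ramificationIdx_Q₀ hS hW2 hI hrk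

include hW1 hW2 hI in
/-- `L` contains an `r`-th root of the uniformizer, `r = [L : K]`. -/
theorem exists_root (hrk : ((Module.finrank K L : ℕ) : IsLocalRing.ResidueField R) ≠ 0)
    {π : R} (hπ : Irreducible π) :
    ∃ β : L, β ^ (Module.finrank K L) = algebraMap R L π := by
  have hS := val_le_one_of_mem L W hW1
  have hmax := Q₀_isMaximal hS hW2
  have hprime := Q₀_isPrime hS
  have hlies := Q₀_liesOver hS hW2
  have hr0 : Module.finrank K L ≠ 0 := Module.finrank_pos.ne'
  have hrW : W.valuation ((Module.finrank K L : ℕ) : Ω) = 1 := val_natCast W hW1 hrk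
  -- `S` is local
  have hloc : IsLocalRing (integralClosure R L) :=
    IsLocalRing.of_unique_max_ideal ⟨Q₀ L W hS, hmax,
      fun P hP => by have := hP; exact eq_Q₀_of_isMaximal hS hW2 hI P⟩
  have hQ : IsLocalRing.maximalIdeal (integralClosure R L) = Q₀ L W hS :=
    (IsLocalRing.eq_maximalIdeal hmax).symm
  have hx0 : algebraMap R (integralClosure R L) π ≠ 0 := by
    rw [Ne, FaithfulSMul.algebraMap_eq_zero_iff]
    exact hπ.ne_zero
  have hxQ : algebraMap R (integralClosure R L) π ∈ Q₀ L W hS := by
    rw [mem_Q₀]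
    exact hW2 π (by rw [hπ.maximalIdeal_eq]; exact Ideal.mem_span_singleton_self π)
  have hnf : ¬ IsField (integralClosure R L) := by
    rw [IsLocalRing.isField_iff_maximalIdeal_eq, hQ]
    intro h
    rw [h] at hxQ
    exact hx0 hxQ
  have hdvr : IsDiscreteValuationRing (integralClosure R L) := by
    have h := (IsDiscreteValuationRing.TFAE (integralClosure R L) hnf).out 0 2
    exact h.mpr inferInstance
  obtain ⟨ϖ, hϖ⟩ := IsDiscreteValuationRing.exists_irreducible (integralClosure R L)
  obtain ⟨n, u, hu⟩ := IsDiscreteValuationRing.associated_pow_irreducible hx0 hϖ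
  -- the ramification index is `n`
  have hmap : Ideal.map (algebraMap R (integralClosure R L)) (IsLocalRing.maximalIdeal R) =
      (Q₀ L W hS) ^ n := by
    rw [hπ.maximalIdeal_eq, Ideal.map_span, Set.image_singleton, ← hQ, hϖ.maximalIdeal_eq,
      Ideal.span_singleton_pow, Ideal.span_singleton_eq_span_singleton]
    exact ⟨u, hu⟩
  have hn : n = Module.finrank K L := by
    have h1 : (IsLocalRing.maximalIdeal R).ramificationIdx' (Q₀ L W hS) = n := by
      refine Ideal.ramificationIdx'_spec hmap.le ?_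
      rw [hmap, ← hQ, hϖ.maximalIdeal_eq, Ideal.span_singleton_pow, Ideal.span_singleton_pow,
        Ideal.span_singleton_le_span_singleton]
      intro h
      have := (pow_dvd_pow_iff hϖ.ne_zero hϖ.not_isUnit).mp h
      omega
    have hbot : IsLocalRing.maximalIdeal R ≠ ⊥ := by
      rw [hπ.maximalIdeal_eq, Ne, Ideal.span_singleton_eq_bot]
      exact hπ.ne_zero
    rw [← h1, Ideal.ramificationIdx'_eq_ramificationIdx _ _ hbot]
    exact ramificationIdx_Q₀ hS hW2 hI hrk
  subst hn
  -- the unit `w = u⁻¹`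
  have hwv : W.valuation ((((u⁻¹ : (integralClosure R L)ˣ) : integralClosure R L) : L) : Ω) = 1 := by
    have h1 := hS ((u⁻¹ : (integralClosure R L)ˣ) : integralClosure R L)
    have h2 := hS (u : integralClosure R L)
    have h3 : W.valuation ((((u⁻¹ : (integralClosure R L)ˣ) : integralClosure R L) : L) : Ω) *
        W.valuation (((u : integralClosure R L) : L) : Ω) = 1 := by
      rw [← map_mul]
      norm_cast
      rw [inv_mul_cancel]
      simp
    apply le_antisymm h1
    calc (1 : W.ValueGroup) = _ := h3.symm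
      _ ≤ W.valuation ((((u⁻¹ : (integralClosure R L)ˣ) : integralClosure R L) : L) : Ω) * 1 := by
        gcongr
      _ = _ := mul_one _
  have hsc : IsSepClosed Ω := IsSepClosure.sep_closed K
  have hne : NeZero ((Module.finrank K L : ℕ) : Ω) := ⟨by
    intro h
    rw [h, map_zero] at hrW
    exact zero_ne_one hrW⟩
  obtain ⟨γ, hγ⟩ := IsSepClosed.exists_pow_nat_eq
    ((((u⁻¹ : (integralClosure R L)ˣ) : integralClosure R L) : L) : Ω) (Module.finrank K L)
  have hγv : W.valuation γ = 1 := valuation_eq_one_of_pow W hr0 (by rw [hγ, hwv])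
  have hγL : γ ∈ L := by
    rw [← InfiniteGalois.fixedField_fixingSubgroup L, IntermediateField.mem_fixedField_iff]
    intro σ hσ
    refine fixed_of_pow W hI hr0 hrW σ hγv ?_
    rw [hγ]
    exact (IntermediateField.mem_fixingSubgroup_iff L σ).mp hσ _ (SetLike.coe_mem _)
  refine ⟨(ϖ : L) * ⟨γ, hγL⟩, ?_⟩
  apply Subtype.ext
  push_cast
  rw [mul_pow, hγ]
  have h4 : ((algebraMap R (integralClosure R L) π * (u : integralClosure R L) :
      integralClosure R L) : L) = ((ϖ ^ Module.finrank K L : integralClosure R L) : L) := by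
    rw [hu]
  push_cast at h4
  have h6 : (((u : integralClosure R L) : L) : Ω) *
      ((((u⁻¹ : (integralClosure R L)ˣ) : integralClosure R L) : L) : Ω) = 1 := by
    norm_cast
    rw [mul_inv_cancel]
    simp
  have h7 : ((algebraMap R L π : L) : Ω) * (((u : integralClosure R L) : L) : Ω) =
      ((ϖ : L) : Ω) ^ Module.finrank K L := by
    have := congrArg (fun z : L => (z : Ω)) h4
    simpa using this
  rw [← h7, mul_assoc, h6, mul_one]

end root

end Groth.Agent.Lib.Seat73.TameC
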