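import Mathlib
import Groth.Agent.Lib.Seat73TameA

/-!
# Seat73 library: tame extensions, part D (automorphisms acting trivially on the graded ring)

For a valuation subring `W` of a field `Ω` algebraic over `K`:

* `GrTrivial W h`: the `K`-automorphism `h` satisfies `v (h y - y) < v y` for all `y ≠ 0`;
  closed under products, powers, inverses;
* `GrTrivial.fixed_of_pow_fixed`: if `ℓ` is a unit of `W` and `h ^ ℓ` fixes `x` then `h` fixes `x`
  (telescoping sum argument); `GrTrivial.exists_pow_fixed`: orbits have `q`-power size, `q` the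
  residue characteristic exponent;
* `exists_pow_fixed_of_isAlgebraic`: finite orbits in algebraic extensions;
* `exists_pow_val_eq`: a power of `v x` lies in the value group of `K` (two dominant terms of the
  minimal polynomial);
* `val_sub_one_lt_of_pow`: `c ^ (q ^ a) ≡ 1` implies `c ≡ 1` modulo the maximal ideal of `W`.
-/

open Polynomial IntermediateField

universe u

set_option linter.unusedSectionVars false

namespace Groth.Agent.Lib.Seat73.TameD

open Groth.Agent.Lib.Seat73.TameA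

variable {K Ω : Type u} [Field K] [Field Ω] [Algebra K Ω] (W : ValuationSubring Ω)

/-- `h` acts trivially on the graded ring of the valuation. -/
def GrTrivial (h : Ω ≃ₐ[K] Ω) : Prop :=
  ∀ y : Ω, y ≠ 0 → W.valuation (h y - y) < W.valuation y

variable {W}

theorem GrTrivial.val_eq {h : Ω ≃ₐ[K] Ω} (hh : GrTrivial W h) (y : Ω) :
    W.valuation (h y) = W.valuation y := by
  by_cases hy : y = 0
  · simp [hy]
  · have h1 := hh y hy
    have : h y = y + (h y - y) := by ring
    rw [this]
    exact W.valuation.map_add_eq_of_lt_left h1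

theorem GrTrivial.one : GrTrivial W (1 : Ω ≃ₐ[K] Ω) := by
  intro y hy
  simp only [AlgEquiv.one_apply, sub_self, map_zero]
  exact zero_lt_iff.mpr ((W.valuation.ne_zero_iff).mpr hy)

theorem GrTrivial.mul {h g : Ω ≃ₐ[K] Ω} (hh : GrTrivial W h) (hg : GrTrivial W g) :
    GrTrivial W (h * g) := by
  intro y hy
  have hgy : g y ≠ 0 := by simpa using hy
  have h1 := hh (g y) hgy
  rw [hg.val_eq] at h1
  have h2 := hg y hy
  have : (h * g) y - y = (h (g y) - g y) + (g y - y) := by
    simp [AlgEquiv.mul_apply]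
  rw [this]
  exact W.valuation.map_add_lt h1 h2

theorem GrTrivial.pow {h : Ω ≃ₐ[K] Ω} (hh : GrTrivial W h) (n : ℕ) : GrTrivial W (h ^ n) := by
  induction n with
  | zero => simpa using GrTrivial.one
  | succ n ih => rw [pow_succ]; exact ih.mul hh

theorem GrTrivial.inv {h : Ω ≃ₐ[K] Ω} (hh : GrTrivial W h) : GrTrivial W h⁻¹ := by
  intro y hy
  have hy' : h⁻¹ y ≠ 0 := by simpa using hy
  have h1 := hh (h⁻¹ y) hy'
  have h2 : h (h⁻¹ y) = y := by
    change h (h.symm y) = y
    simp
  rw [h2] at h1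
  have h3 : W.valuation (h⁻¹ y) = W.valuation y := by
    have := hh.val_eq (h⁻¹ y)
    rw [h2] at this
    exact this.symm
  rw [← neg_sub, Valuation.map_neg, ← h3]
  exact h1

/-- If `h` acts trivially on the graded ring, `ℓ` is a unit of `W` and `h ^ ℓ` fixes `x`, then
`h` fixes `x`. -/
theorem GrTrivial.fixed_of_pow_fixed {h : Ω ≃ₐ[K] Ω} (hh : GrTrivial W h) {ℓ : ℕ}
    (hℓ : W.valuation (ℓ : Ω) = 1) {x : Ω} (hx : (h ^ ℓ) x = x) : h x = x := by
  by_contra hne
  have hy : h x - x ≠ 0 := sub_ne_zero.mpr hne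
  have htel : ∑ i ∈ Finset.range ℓ, (h ^ i) (h x - x) = 0 := by
    have h1 : ∀ i, (h ^ i) (h x - x) = (h ^ (i + 1)) x - (h ^ i) x := by
      intro i
      rw [map_sub, pow_succ, AlgEquiv.mul_apply]
    simp_rw [h1]
    rw [Finset.sum_range_sub (fun i => (h ^ i) x), hx]
    simp
  have hsplit : ∑ i ∈ Finset.range ℓ, (h ^ i) (h x - x) =
      (ℓ : Ω) * (h x - x) + ∑ i ∈ Finset.range ℓ, ((h ^ i) (h x - x) - (h x - x)) := by
    rw [Finset.sum_sub_distrib, Finset.sum_const, Finset.card_range, nsmul_eq_mul]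
    ring
  rw [hsplit] at htel
  have hlt : W.valuation (∑ i ∈ Finset.range ℓ, ((h ^ i) (h x - x) - (h x - x))) <
      W.valuation ((ℓ : Ω) * (h x - x)) := by
    rw [map_mul, hℓ, one_mul]
    refine W.valuation.map_sum_lt ((W.valuation.ne_zero_iff).mpr hy) fun i _ => ?_
    exact (hh.pow i) _ hy
  have := W.valuation.map_add_eq_of_lt_left hlt
  rw [htel, map_zero, map_mul, hℓ, one_mul] at this
  exact (W.valuation.ne_zero_iff.mpr hy) this.symm

theorem GrTrivial.exists_pow_fixed {h : Ω ≃ₐ[K] Ω} (hh : GrTrivial W h) (q : ℕ)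
    (hq : ∀ n : ℕ, n ≠ 0 → ∃ a n', n = q ^ a * n' ∧ W.valuation (n' : Ω) = 1)
    {x : Ω} {n : ℕ} (hn : n ≠ 0) (hx : (h ^ n) x = x) : ∃ a, (h ^ (q ^ a)) x = x := by
  obtain ⟨a, n', rfl, hn'⟩ := hq n hn
  refine ⟨a, (hh.pow (q ^ a)).fixed_of_pow_fixed hn' ?_⟩
  rwa [← pow_mul]

omit W in
/-- Every element of an algebraic extension has a finite orbit under any automorphism. -/
theorem exists_pow_fixed_of_isAlgebraic [Algebra.IsAlgebraic K Ω] (h : Ω ≃ₐ[K] Ω) (x : Ω) :
    ∃ n : ℕ, n ≠ 0 ∧ (h ^ n) x = x := by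
  have hint : IsIntegral K x := Algebra.IsIntegral.isIntegral x
  have hfin : ((minpoly K x).rootSet Ω).Finite := Polynomial.rootSet_finite _ _
  have hmem : ∀ i : ℕ, (h ^ i) x ∈ (minpoly K x).rootSet Ω := by
    intro i
    rw [Polynomial.mem_rootSet]
    refine ⟨minpoly.ne_zero hint, ?_⟩
    rw [Polynomial.aeval_algHom_apply, minpoly.aeval, map_zero]
  have : Finite ((minpoly K x).rootSet Ω) := hfin
  obtain ⟨i, j, hij, heq⟩ := Finite.exists_ne_map_eq_of_infinite
    (fun i : ℕ => (⟨(h ^ i) x, hmem i⟩ : (minpoly K x).rootSet Ω))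
  have heq' : (h ^ i) x = (h ^ j) x := congrArg Subtype.val heq
  wlog hlt : i < j generalizing i j
  · exact this j i hij.symm heq.symm heq'.symm (lt_of_le_of_ne (not_lt.mp hlt) hij.symm)
  refine ⟨j - i, by omega, ?_⟩
  have h1 : h ^ j = h ^ i * h ^ (j - i) := by rw [← pow_add]; congr 1; omega
  rw [h1, AlgEquiv.mul_apply] at heq'
  exact ((h ^ i).injective heq').symm

omit W in
/-- Some power of the valuation of an algebraic element is a ratio of valuations of elements of
the base field. -/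
theorem exists_pow_val_eq [Algebra.IsAlgebraic K Ω] {Γ : Type*}
    [LinearOrderedCommGroupWithZero Γ] (v : Valuation Ω Γ)
    {x : Ω} (hx : x ≠ 0) :
    ∃ N : ℕ, N ≠ 0 ∧ ∃ a b : K, a ≠ 0 ∧ b ≠ 0 ∧
      v x ^ N * v (algebraMap K Ω b) = v (algebraMap K Ω a) := by
  classical
  have hint : IsIntegral K x := Algebra.IsIntegral.isIntegral x
  set f := minpoly K x with hf
  set d := f.natDegree with hd
  let t : ℕ → Ω := fun i => algebraMap K Ω (f.coeff i) * x ^ i
  have hsum : ∑ i ∈ Finset.range (d + 1), t i = 0 := by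
    have := minpoly.aeval K x
    rw [← hf, Polynomial.aeval_eq_sum_range] at this
    simpa [t, Algebra.smul_def] using this
  have hmonic : f.coeff d = 1 := (minpoly.monic hint).coeff_natDegree
  have htd : v (t d) ≠ 0 := by
    simp only [t, hmonic, map_one, one_mul, map_pow]
    exact pow_ne_zero _ ((v.ne_zero_iff).mpr hx)
  obtain ⟨i₀, hi₀, hmax⟩ := Finset.exists_max_image (Finset.range (d + 1)) (fun i => v (t i))
    ⟨d, Finset.self_mem_range_succ d⟩
  have hti₀ : v (t i₀) ≠ 0 := by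
    intro h0
    have := hmax d (Finset.self_mem_range_succ d)
    rw [h0] at this
    exact htd (le_antisymm this zero_le)
  have hex : ∃ j ∈ Finset.range (d + 1), j ≠ i₀ ∧ v (t j) = v (t i₀) := by
    by_contra hcon
    push Not at hcon
    have hlt : ∀ i ∈ Finset.range (d + 1) \ {i₀}, v (t i) < v (t i₀) := by
      intro i hi
      rw [Finset.mem_sdiff, Finset.mem_singleton] at hi
      exact lt_of_le_of_ne (hmax i hi.1) (hcon i hi.1 hi.2)
    have := v.map_sum_eq_of_lt hi₀ hlt
    rw [hsum, map_zero] at this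
    exact hti₀ this.symm
  obtain ⟨j, hj, hne, heq⟩ := hex
  have hcj : f.coeff j ≠ 0 := by
    intro h0
    apply hti₀
    rw [← heq]
    simp [t, h0]
  have hci₀ : f.coeff i₀ ≠ 0 := by
    intro h0
    apply hti₀
    simp [t, h0]
  simp only [t, map_mul, map_pow] at heq
  have hvx : v x ≠ 0 := (v.ne_zero_iff).mpr hx
  rcases lt_or_gt_of_ne hne with hlt | hlt
  · -- j < i₀
    obtain ⟨k, rfl⟩ := Nat.exists_eq_add_of_lt hlt
    refine ⟨k + 1, by omega, f.coeff j, f.coeff (j + k + 1), hcj, hci₀, ?_⟩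
    have h2 : v x ^ j ≠ 0 := pow_ne_zero _ hvx
    refine mul_right_cancel₀ h2 ?_
    rw [heq]
    simp only [pow_add, pow_one]
    ac_rfl
  · obtain ⟨k, rfl⟩ := Nat.exists_eq_add_of_lt hlt
    refine ⟨k + 1, by omega, f.coeff i₀, f.coeff (i₀ + k + 1), hci₀, hcj, ?_⟩
    have h2 : v x ^ i₀ ≠ 0 := pow_ne_zero _ hvx
    refine mul_right_cancel₀ h2 ?_
    rw [← heq]
    simp only [pow_add, pow_one]
    ac_rfl

/-- In residue characteristic exponent `q`, a unit `c` with `c ^ (q ^ a) ≡ 1` is `≡ 1`. -/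
theorem val_sub_one_lt_of_pow (q : ℕ) [ExpChar (IsLocalRing.ResidueField W) q] {c : Ω}
    (hc : W.valuation c = 1) (a : ℕ) (h : W.valuation (c ^ (q ^ a) - 1) < 1) :
    W.valuation (c - 1) < 1 := by
  have hcW : c ∈ W := (W.valuation_le_one_iff c).mp hc.le
  set c' : W := ⟨c, hcW⟩ with hc'
  have h1 : c' ^ (q ^ a) - 1 ∈ IsLocalRing.maximalIdeal W := by
    rw [W.valuation_lt_one_iff]
    simpa [hc'] using h
  have h2 : IsLocalRing.residue W c' ^ (q ^ a) = 1 := by
    have := (IsLocalRing.residue_eq_zero_iff _).mpr h1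
    rw [map_sub, map_pow, map_one, sub_eq_zero] at this
    exact this
  have h3 : IsLocalRing.residue W c' = 1 := by
    apply iterateFrobenius_inj (IsLocalRing.ResidueField W) q a
    rw [iterateFrobenius_def, iterateFrobenius_def, h2, one_pow]
  have h4 : c' - 1 ∈ IsLocalRing.maximalIdeal W := by
    rw [← IsLocalRing.residue_eq_zero_iff, map_sub, map_one, h3, sub_self]
  rw [W.valuation_lt_one_iff] at h4
  simpa [hc'] using h4

end Groth.Agent.Lib.Seat73.TameD
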