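import Mathlib
import Groth.Agent.Lib.Seat73TameA
import Groth.Agent.Lib.Seat73TameB
import Groth.Agent.Lib.Seat73TameD

/-!
# Seat73 library: tame extensions, part E

Setting of part B.  The value group of `Ω` is the divisible hull of that of `K`
(`exists_pow_val_eq_pow`), and an automorphism fixing all tame roots `π^{1/n}` of the uniformizer
(`n` a unit of `W`) acts trivially on the graded ring (`grTrivial_of_fixes_tame_roots`): it lies
in the wild inertia group.
-/

open Polynomial IntermediateField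

universe u

set_option linter.unusedSectionVars false

namespace Groth.Agent.Lib.Seat73.TameE

open Groth.Agent.Lib.Seat73.TameA Groth.Agent.Lib.Seat73.TameB Groth.Agent.Lib.Seat73.TameD

variable {R K Ω : Type u} [CommRing R] [IsDomain R] [IsDiscreteValuationRing R] [Field K]
  [Algebra R K] [IsFractionRing R K] [Field Ω] [Algebra K Ω] [IsSepClosure K Ω] [Algebra R Ω]
  [IsScalarTower R K Ω] (W : ValuationSubring Ω)

section valueGroup

variable (hW1 : ∀ a : R, algebraMap R Ω a ∈ W) {π : R} (hπ : Irreducible π)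
include hW1 hπ

/-- valuation of a nonzero element of `R` is a power of `v π`. -/
theorem val_eq_pow {a : R} (ha : a ≠ 0) :
    ∃ m : ℕ, W.valuation (algebraMap R Ω a) = W.valuation (algebraMap R Ω π) ^ m := by
  obtain ⟨m, u, hu⟩ := IsDiscreteValuationRing.associated_pow_irreducible ha hπ
  refine ⟨m, ?_⟩
  have h1 : W.valuation (algebraMap R Ω a) * W.valuation (algebraMap R Ω (u : R)) =
      W.valuation (algebraMap R Ω π) ^ m := by
    rw [← map_mul, ← map_mul, hu, map_pow, map_pow]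
  rwa [val_unit W hW1 u.isUnit, mul_one] at h1

theorem val_field_eq {a : K} (ha : a ≠ 0) :
    ∃ m₁ m₂ : ℕ, W.valuation (algebraMap K Ω a) * W.valuation (algebraMap R Ω π) ^ m₂ =
      W.valuation (algebraMap R Ω π) ^ m₁ := by
  obtain ⟨r₁, r₂, hr₂, rfl⟩ := IsFractionRing.div_surjective (A := R) a
  have hr₂0 : r₂ ≠ 0 := nonZeroDivisors.ne_zero hr₂
  have hr₁0 : r₁ ≠ 0 := by
    rintro rfl
    simp at ha
  obtain ⟨m₁, h1⟩ := val_eq_pow W hW1 hπ hr₁0
  obtain ⟨m₂, h2⟩ := val_eq_pow W hW1 hπ hr₂0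
  refine ⟨m₁, m₂, ?_⟩
  rw [← h1, ← h2, IsScalarTower.algebraMap_apply R K Ω r₂, IsScalarTower.algebraMap_apply R K Ω r₁,
    ← map_mul, ← map_mul]
  congr 2
  rw [div_mul_cancel₀]
  simpa using hr₂0

variable (K) in
include K in
/-- A power of the valuation of any nonzero element is a ratio of powers of `v π`. -/
theorem exists_pow_val_eq_pow {x : Ω} (hx : x ≠ 0) :
    ∃ N : ℕ, N ≠ 0 ∧ ∃ s t : ℕ, W.valuation x ^ N * W.valuation (algebraMap R Ω π) ^ s =
      W.valuation (algebraMap R Ω π) ^ t := by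
  obtain ⟨N, hN, a, b, ha, hb, hab⟩ := exists_pow_val_eq (K := K) W.valuation hx
  obtain ⟨a₁, a₂, ha'⟩ := val_field_eq W hW1 hπ ha
  obtain ⟨b₁, b₂, hb'⟩ := val_field_eq W hW1 hπ hb
  refine ⟨N, hN, b₁ + a₂, a₁ + b₂, ?_⟩
  rw [pow_add, pow_add, ← hb', ← ha', ← hab]
  ac_rfl

end valueGroup

section grTrivial

variable (hW1 : ∀ a : R, algebraMap R Ω a ∈ W)
  (hI : ∀ (σ : Ω ≃ₐ[K] Ω) (x : Ω), x ∈ W → σ x ∈ W ∧ W.valuation (σ x - x) < 1)
  {π : R} (hπ : Irreducible π)
  (q : ℕ) [ExpChar (IsLocalRing.ResidueField W) q]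
  (hq : ∀ n : ℕ, n ≠ 0 → ∃ a n', n = q ^ a * n' ∧ W.valuation (n' : Ω) = 1)

include hW1 hI hπ hq in
/-- An automorphism fixing all tame roots of the uniformizer acts trivially on the graded ring. -/
theorem grTrivial_of_fixes_tame_roots (h : Ω ≃ₐ[K] Ω)
    (hfix : ∀ (n : ℕ) (z : Ω), W.valuation (n : Ω) = 1 → z ^ n = algebraMap R Ω π → h z = z) :
    GrTrivial W h := by
  intro x hx
  have hπ0 : algebraMap R Ω π ≠ 0 := by
    rw [IsScalarTower.algebraMap_apply R K Ω]; simpa using hπ.ne_zero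
  obtain ⟨N, hN, s, t, hst⟩ := exists_pow_val_eq_pow K W hW1 hπ hx
  obtain ⟨a, N', rfl, hN'⟩ := hq N hN
  have hN'0 : N' ≠ 0 := by
    rintro rfl
    simp at hN
  have hsc : IsSepClosed Ω := IsSepClosure.sep_closed K
  have hne : NeZero ((N' : ℕ) : Ω) := ⟨by
    intro h0
    rw [h0, map_zero] at hN'
    exact zero_ne_one hN'⟩
  obtain ⟨z, hz⟩ := IsSepClosed.exists_pow_nat_eq (algebraMap R Ω π) N'
  have hz0 : z ≠ 0 := by
    rintro rfl
    rw [zero_pow hN'0] at hz
    exact hπ0 hz.symm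
  have hhz : h z = z := hfix N' z hN' hz
  -- the unit `w`
  set w : Ω := x ^ (q ^ a) * z ^ s / z ^ t with hw
  have hwv : W.valuation w = 1 := by
    have h1 : (W.valuation (x ^ (q ^ a) * z ^ s)) ^ N' = (W.valuation (z ^ t)) ^ N' := by
      rw [map_mul, mul_pow, map_pow, map_pow, map_pow, ← pow_mul, ← pow_mul, ← pow_mul,
        mul_comm s N', mul_comm t N', pow_mul _ N' s, pow_mul _ N' t, ← map_pow _ z, hz]
      exact hst
    have h2 := (pow_left_inj₀ zero_le zero_le hN'0).mp h1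
    rw [hw, map_div₀, h2, div_self]
    exact (W.valuation.ne_zero_iff).mpr (pow_ne_zero _ hz0)
  have hw0 : w ≠ 0 := by
    intro h0
    rw [h0, map_zero] at hwv
    exact zero_ne_one hwv
  have hwW : w ∈ W := (W.valuation_le_one_iff w).mp hwv.le
  have hhw := (hI h w hwW).2
  -- `c = h x / x`
  set c : Ω := h x / x with hc
  have hcpow : c ^ (q ^ a) = h w / w := by
    rw [hc, div_pow, hw, map_div₀, map_mul, map_pow, map_pow, map_pow, hhz]
    have hx' : h x ≠ 0 := by simpa using hx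
    field_simp
  have hcpow1 : W.valuation (c ^ (q ^ a) - 1) < 1 := by
    have : c ^ (q ^ a) - 1 = (h w - w) / w := by
      rw [hcpow]; field_simp
    rw [this, map_div₀, hwv, div_one]
    exact hhw
  have hcv : W.valuation c = 1 := by
    apply valuation_eq_one_of_pow W
      (pow_ne_zero a (expChar_pos (IsLocalRing.ResidueField W) q).ne' : q ^ a ≠ 0)
    have : c ^ (q ^ a) = 1 + (c ^ (q ^ a) - 1) := by ring
    rw [this]
    rw [W.valuation.map_add_eq_of_lt_left (by rw [map_one]; exact hcpow1), map_one]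
  have hc1 := val_sub_one_lt_of_pow q hcv a hcpow1
  have hfin : h x - x = x * (c - 1) := by
    rw [hc]; field_simp
  rw [hfin, map_mul]
  calc W.valuation x * W.valuation (c - 1) < W.valuation x * 1 := by
        exact mul_lt_mul_of_pos_left hc1 (zero_lt_iff.mpr ((W.valuation.ne_zero_iff).mpr hx))
    _ = _ := mul_one _

end grTrivial

end Groth.Agent.Lib.Seat73.TameE
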