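import Mathlib

/-!
# Seat73 library: tame extensions, part F (roots of automorphisms with small orbits)

`exists_pow_eq`: a `K`-automorphism `h` of a field `Ω` all of whose orbits are finite of size prime
to `r` is an `r`-th power in `Aut_K(Ω)`; the root is `x ↦ h^{b(x)} x` with `b(x) r ≡ 1` modulo the
size of the orbit of `x`.
-/

open Function

universe u

set_option linter.unusedSectionVars false

namespace Groth.Agent.Lib.Seat73.TameF

variable {K Ω : Type u} [Field K] [Field Ω] [Algebra K Ω]

section root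

variable (h : Ω ≃ₐ[K] Ω) (r : ℕ) (hr : r ≠ 0)
  (horb : ∀ x : Ω, ∃ n : ℕ, n ≠ 0 ∧ n.Coprime r ∧ (h ^ n) x = x)

include horb in
theorem minimalPeriod_pos (x : Ω) : 0 < minimalPeriod (⇑h) x := by
  obtain ⟨n, hn, -, hx⟩ := horb x
  rw [AlgEquiv.coe_pow] at hx
  exact (IsPeriodicPt.minimalPeriod_pos (Nat.pos_of_ne_zero hn) hx)

include horb in
theorem minimalPeriod_coprime (x : Ω) : (minimalPeriod (⇑h) x).Coprime r := by
  obtain ⟨n, hn, hc, hx⟩ := horb x
  rw [AlgEquiv.coe_pow] at hx
  exact Nat.Coprime.coprime_dvd_left (IsPeriodicPt.minimalPeriod_dvd hx) hc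

include horb in
theorem mem_periodicPts (x : Ω) : x ∈ periodicPts (⇑h) :=
  minimalPeriod_pos_iff_mem_periodicPts.mp (minimalPeriod_pos h r horb x)

/-- iterates agree when exponents are congruent modulo the minimal period -/
theorem iterate_congr {x : Ω} {m m' : ℕ} (hm : m ≡ m' [MOD minimalPeriod (⇑h) x]) :
    (⇑h)^[m] x = (⇑h)^[m'] x := by
  rw [← (isPeriodicPt_minimalPeriod (⇑h) x).iterate_mod_apply m,
    ← (isPeriodicPt_minimalPeriod (⇑h) x).iterate_mod_apply m', hm]

include horb in
/-- an inverse of `r` modulo the minimal period -/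
theorem exists_inv (n : ℕ) (hn : n ≠ 0) (hc : n.Coprime r) : ∃ b : ℕ, b * r ≡ 1 [MOD n] := by
  have : NeZero n := ⟨hn⟩
  refine ⟨((r : ZMod n)⁻¹).val, ?_⟩
  rw [← ZMod.natCast_eq_natCast_iff]
  push_cast
  rw [ZMod.natCast_zmod_val, mul_comm]
  exact ZMod.coe_mul_inv_eq_one r hc.symm

/-- the inverse exponent at `x` -/
noncomputable def b (x : Ω) : ℕ :=
  (exists_inv h r horb (minimalPeriod (⇑h) x) (minimalPeriod_pos h r horb x).ne'
    (minimalPeriod_coprime h r horb x)).choose

theorem b_spec (x : Ω) : b h r horb x * r ≡ 1 [MOD minimalPeriod (⇑h) x] :=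
  (exists_inv h r horb (minimalPeriod (⇑h) x) (minimalPeriod_pos h r horb x).ne'
    (minimalPeriod_coprime h r horb x)).choose_spec

/-- the `r`-th root as a function -/
noncomputable def g (x : Ω) : Ω := (⇑h)^[b h r horb x] x

theorem g_eq {x : Ω} {m n : ℕ} (hn : (h ^ n) x = x) (hm : m * r ≡ 1 [MOD n]) :
    g h r horb x = (⇑h)^[m] x := by
  unfold g
  apply iterate_congr
  rw [AlgEquiv.coe_pow] at hn
  have hd : minimalPeriod (⇑h) x ∣ n := IsPeriodicPt.minimalPeriod_dvd hn
  have h1 : m * r ≡ 1 [MOD minimalPeriod (⇑h) x] := hm.of_dvd hd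
  have h2 := (b_spec h r horb x).trans h1.symm
  exact Nat.ModEq.cancel_right_of_coprime (minimalPeriod_coprime h r horb x) h2

end root

section hom

variable (h : Ω ≃ₐ[K] Ω) (r : ℕ) (hr : r ≠ 0)
  (horb : ∀ x : Ω, ∃ n : ℕ, n ≠ 0 ∧ n.Coprime r ∧ (h ^ n) x = x)

theorem pow_mul_fixed {x : Ω} {n : ℕ} (hn : (h ^ n) x = x) (k : ℕ) : (h ^ (n * k)) x = x := by
  rw [pow_mul]
  induction k with
  | zero => simp
  | succ k ih => rw [pow_succ, AlgEquiv.mul_apply, hn, ih]

include horb in
/-- common exponent for two elements -/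
theorem exists_common (x y : Ω) : ∃ n m : ℕ, (h ^ n) x = x ∧ (h ^ n) y = y ∧ m * r ≡ 1 [MOD n] := by
  obtain ⟨nx, hnx, hcx, hx⟩ := horb x
  obtain ⟨ny, hny, hcy, hy⟩ := horb y
  obtain ⟨m, hm⟩ := exists_inv h r horb (nx * ny) (mul_ne_zero hnx hny) (Nat.Coprime.mul_left hcx hcy)
  refine ⟨nx * ny, m, pow_mul_fixed h hx ny, ?_, hm⟩
  rw [mul_comm]
  exact pow_mul_fixed h hy nx

theorem g_add (x y : Ω) : g h r horb (x + y) = g h r horb x + g h r horb y := by
  obtain ⟨n, m, hx, hy, hm⟩ := exists_common h r horb x y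
  have hxy : (h ^ n) (x + y) = x + y := by rw [map_add, hx, hy]
  rw [g_eq h r horb hx hm, g_eq h r horb hy hm, g_eq h r horb hxy hm, ← AlgEquiv.coe_pow, map_add]

theorem g_mul (x y : Ω) : g h r horb (x * y) = g h r horb x * g h r horb y := by
  obtain ⟨n, m, hx, hy, hm⟩ := exists_common h r horb x y
  have hxy : (h ^ n) (x * y) = x * y := by rw [map_mul, hx, hy]
  rw [g_eq h r horb hx hm, g_eq h r horb hy hm, g_eq h r horb hxy hm, ← AlgEquiv.coe_pow, map_mul]

theorem g_algebraMap (k : K) : g h r horb (algebraMap K Ω k) = algebraMap K Ω k := by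
  unfold g
  rw [← AlgEquiv.coe_pow, AlgEquiv.commutes]

/-- iterating `g` -/
theorem g_iterate (x : Ω) (j : ℕ) :
    (g h r horb)^[j] x = (⇑h)^[j * b h r horb x] x := by
  induction j with
  | zero => simp
  | succ j ih =>
    rw [Function.iterate_succ_apply', ih]
    set y := (⇑h)^[j * b h r horb x] x with hy
    have hP : minimalPeriod (⇑h) y = minimalPeriod (⇑h) x :=
      minimalPeriod_apply_iterate (mem_periodicPts h r horb x) _
    have hyfix : (h ^ (minimalPeriod (⇑h) x)) y = y := by
      rw [AlgEquiv.coe_pow, ← hP]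
      exact isPeriodicPt_minimalPeriod (⇑h) y
    rw [g_eq h r horb hyfix (b_spec h r horb x), hy, ← Function.iterate_add_apply]
    congr 1
    ring

include hr in
theorem g_iterate_r (x : Ω) : (g h r horb)^[r] x = h x := by
  rw [g_iterate]
  have h1 : r * b h r horb x ≡ 1 [MOD minimalPeriod (⇑h) x] := by
    rw [mul_comm]; exact b_spec h r horb x
  rw [iterate_congr h h1]
  rfl

include hr in
theorem g_bijective : Function.Bijective (g h r horb) := by
  have hbij : Function.Bijective ((g h r horb)^[r]) := by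
    have : (g h r horb)^[r] = ⇑h := funext (g_iterate_r h r hr horb)
    rw [this]
    exact h.bijective
  obtain ⟨k, rfl⟩ := Nat.exists_eq_succ_of_ne_zero hr
  constructor
  · have := hbij.1
    rw [Function.iterate_succ] at this
    exact Function.Injective.of_comp this
  · have := hbij.2
    rw [Function.iterate_succ'] at this
    exact Function.Surjective.of_comp this

include hr horb in
/-- An automorphism all of whose orbits have size prime to `r` is an `r`-th power. -/
theorem exists_pow_eq : ∃ τ : Ω ≃ₐ[K] Ω, τ ^ r = h := by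
  let f : Ω →ₐ[K] Ω :=
    { toFun := g h r horb
      map_one' := by simpa using g_algebraMap h r horb 1
      map_mul' := g_mul h r horb
      map_zero' := by simpa using g_algebraMap h r horb 0
      map_add' := g_add h r horb
      commutes' := g_algebraMap h r horb }
  refine ⟨AlgEquiv.ofBijective f (g_bijective h r hr horb), ?_⟩
  ext x
  rw [AlgEquiv.coe_pow]
  exact g_iterate_r h r hr horb x

end hom

end Groth.Agent.Lib.Seat73.TameF
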