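import Mathlib
import Groth.Agent.Lib.Seat73TameA
import Groth.Agent.Lib.Seat73TameB
import Groth.Agent.Lib.Seat73TameD
import Groth.Agent.Lib.Seat73TameE
import Groth.Agent.Lib.Seat73TameF

/-!
# Seat73 library: tame extensions, part G (kernel of the fundamental character)

Setting of parts B/E (a valuation subring `W` of the separable closure `Ω` dominating the DVR `R`,
all of `Gal(Ω/K)` acting as inertia).  For `ρ ^ r = π` with `r` a unit of `W`:

* `isClosed_setOf_apply_eq`: point conditions `{τ | τ y = c}` are closed in the Krull topology;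
* `apply_mul_eq`, `exists_conj`: `σ y / y` is independent of the tame root `y`; tame roots are
  conjugate;
* `exists_tau_finite`, `exists_tau`: (compactness) for `σ` fixing `ρ` there is `τ` with
  `τ y / y = σ y' / y'` for all tame roots `y` of `π` and all `y' ^ r = y`;
* `exists_pow_mul_pow`: every `σ` fixing `ρ` is a product `τ ^ r * π'' ^ r` of two `r`-th powers in
  `Gal(Ω/K)`.
-/

open Polynomial IntermediateField
open scoped Pointwise

universe u

set_option linter.unusedSectionVars false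

namespace Groth.Agent.Lib.Seat73.TameG

open Groth.Agent.Lib.Seat73.TameA Groth.Agent.Lib.Seat73.TameB Groth.Agent.Lib.Seat73.TameD
  Groth.Agent.Lib.Seat73.TameE

variable {R K Ω : Type u} [CommRing R] [IsDomain R] [IsDiscreteValuationRing R] [Field K]
  [Algebra R K] [IsFractionRing R K] [Field Ω] [Algebra K Ω] [IsSepClosure K Ω] [Algebra R Ω]
  [IsScalarTower R K Ω] (W : ValuationSubring Ω)

omit [IsDomain R] [IsDiscreteValuationRing R] [Algebra R K] [IsFractionRing R K] [Algebra R Ω]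
  [IsScalarTower R K Ω] in
/-- point conditions are closed in the Krull topology -/
theorem isClosed_setOf_apply_eq (y c : Ω) : IsClosed {τ : Ω ≃ₐ[K] Ω | τ y = c} := by
  by_cases hne : ∃ τ₀ : Ω ≃ₐ[K] Ω, τ₀ y = c
  · obtain ⟨τ₀, hτ₀⟩ := hne
    have hopen : IsOpen (MulAction.stabilizer (Ω ≃ₐ[K] Ω) y : Set (Ω ≃ₐ[K] Ω)) :=
      stabilizer_isOpen_of_isIntegral y
    have hclosed : IsClosed (MulAction.stabilizer (Ω ≃ₐ[K] Ω) y : Set (Ω ≃ₐ[K] Ω)) :=
      Subgroup.isClosed_of_isOpen _ hopen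
    have heq : {τ : Ω ≃ₐ[K] Ω | τ y = c} =
        τ₀ • (MulAction.stabilizer (Ω ≃ₐ[K] Ω) y : Set (Ω ≃ₐ[K] Ω)) := by
      ext τ
      rw [Set.mem_smul_set_iff_inv_smul_mem]
      simp only [Set.mem_ofPred_eq, smul_eq_mul, SetLike.mem_coe, MulAction.mem_stabilizer_iff,
        AlgEquiv.smul_def, AlgEquiv.mul_apply]
      constructor
      · intro h
        rw [h, ← hτ₀]
        change τ₀.symm (τ₀ y) = y
        simp
      · intro h
        have := congrArg τ₀ h
        change τ₀ (τ₀.symm (τ y)) = τ₀ y at this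
        rw [AlgEquiv.apply_symm_apply] at this
        rw [this, hτ₀]
    rw [heq]
    exact hclosed.leftCoset τ₀
  · have : {τ : Ω ≃ₐ[K] Ω | τ y = c} = ∅ := by
      ext τ
      simp only [Set.mem_ofPred_eq, Set.mem_empty_iff_false, iff_false]
      exact fun h => hne ⟨τ, h⟩
    rw [this]
    exact isClosed_empty

section roots

variable (hW1 : ∀ a : R, algebraMap R Ω a ∈ W)
  (hI : ∀ (σ : Ω ≃ₐ[K] Ω) (x : Ω), x ∈ W → σ x ∈ W ∧ W.valuation (σ x - x) < 1)
  {π : R} (hπ : Irreducible π)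

variable (K) in
include K hπ in
theorem algebraMap_ne_zero : algebraMap R Ω π ≠ 0 := by
  rw [IsScalarTower.algebraMap_apply R K Ω]; simpa using hπ.ne_zero

variable (K) in
include K hπ in
theorem root_ne_zero {n : ℕ} (hn : n ≠ 0) {y : Ω} (hy : y ^ n = algebraMap R Ω π) : y ≠ 0 := by
  rintro rfl
  rw [zero_pow hn] at hy
  exact algebraMap_ne_zero K hπ hy.symm

include hI hπ in
/-- `σ y / y` does not depend on the choice of the `n`-th root `y` of `π`, for tame `n`. -/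
theorem apply_mul_eq {n : ℕ} (hn : n ≠ 0) (hnW : W.valuation (n : Ω) = 1) {y y' : Ω}
    (hy : y ^ n = algebraMap R Ω π) (hy' : y' ^ n = algebraMap R Ω π) (σ : Ω ≃ₐ[K] Ω) :
    σ y * y' = σ y' * y := by
  have hy0 := root_ne_zero K hπ hn hy
  have hζ : (y' / y) ^ n = 1 := by
    rw [div_pow, hy, hy', div_self (algebraMap_ne_zero K hπ)]
  obtain ⟨k, hk⟩ := root_of_unity_mem W hI hn hnW hζ
  have h1 : y' = algebraMap K Ω k * y := by
    rw [hk]; field_simp
  rw [h1, map_mul, AlgEquiv.commutes]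
  ring

include hπ in
/-- roots of `X ^ n - π` are conjugate -/
theorem exists_conj {n : ℕ} (hn : n ≠ 0) {y y' : Ω}
    (hy : y ^ n = algebraMap R Ω π) (hy' : y' ^ n = algebraMap R Ω π) :
    ∃ τ : Ω ≃ₐ[K] Ω, τ y = y' := by
  have hmin := minpoly_root (K := K) hπ (Nat.pos_of_ne_zero hn) hy
  refine minpoly.exists_algEquiv_of_root' (Algebra.IsAlgebraic.isAlgebraic y) ?_
  rw [hmin]
  simp [hy', ← IsScalarTower.algebraMap_apply]

end roots

section step2

variable (hW1 : ∀ a : R, algebraMap R Ω a ∈ W)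
  (hI : ∀ (σ : Ω ≃ₐ[K] Ω) (x : Ω), x ∈ W → σ x ∈ W ∧ W.valuation (σ x - x) < 1)
  {π : R} (hπ : Irreducible π) {r : ℕ} (hr : r ≠ 0) (hrW : W.valuation (r : Ω) = 1)
  {ρ : Ω} (hρ : ρ ^ r = algebraMap R Ω π) (σ : Ω ≃ₐ[K] Ω) (hσ : σ ρ = ρ)

include hI hπ hr hrW hρ hσ in
/-- finite-level version: finitely many tame conditions can be met simultaneously -/
theorem exists_tau_finite (u : Finset (Ω × Ω × ℕ)) :
    ∃ τ : Ω ≃ₐ[K] Ω, ∀ i ∈ u, (i.2.2 ≠ 0 ∧ W.valuation ((i.2.2 : ℕ) : Ω) = 1 ∧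
      i.1 ^ i.2.2 = algebraMap R Ω π ∧ i.2.1 ^ r = i.1) → τ i.1 * i.2.1 = σ i.2.1 * i.1 := by
  classical
  set cond : Ω × Ω × ℕ → Prop := fun i => i.2.2 ≠ 0 ∧ W.valuation ((i.2.2 : ℕ) : Ω) = 1 ∧
      i.1 ^ i.2.2 = algebraMap R Ω π ∧ i.2.1 ^ r = i.1 with hcond
  set N : ℕ := ∏ i ∈ u.filter cond, i.2.2 with hN
  have hN0 : N ≠ 0 := by
    rw [hN, Finset.prod_ne_zero_iff]
    intro i hi
    exact (Finset.mem_filter.mp hi).2.1
  have hNW : W.valuation ((N : ℕ) : Ω) = 1 := by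
    rw [hN, Nat.cast_prod, map_prod]
    refine Finset.prod_eq_one fun i hi => ?_
    exact (Finset.mem_filter.mp hi).2.2.1
  have hNr0 : N * r ≠ 0 := mul_ne_zero hN0 hr
  have hNrW : W.valuation ((N * r : ℕ) : Ω) = 1 := by
    rw [Nat.cast_mul, map_mul, hNW, hrW, one_mul]
  have hsc : IsSepClosed Ω := IsSepClosure.sep_closed K
  have hne : NeZero ((N * r : ℕ) : Ω) := ⟨by
    intro h0
    rw [h0, map_zero] at hNrW
    exact zero_ne_one hNrW⟩
  obtain ⟨Y, hY⟩ := IsSepClosed.exists_pow_nat_eq (algebraMap R Ω π) (N * r)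
  have hY0 : Y ≠ 0 := root_ne_zero K hπ hNr0 hY
  have hρ0 : ρ ≠ 0 := root_ne_zero K hπ hr hρ
  set c : Ω := σ Y / Y with hc
  have hσY : σ Y = c * Y := by rw [hc]; field_simp
  -- (F1)
  have hF1 : σ (Y ^ N) = Y ^ N := by
    have h1 : (Y ^ N) ^ r = algebraMap R Ω π := by rw [← pow_mul, hY]
    have h2 := apply_mul_eq W hI hπ hr hrW h1 hρ σ
    rw [hσ] at h2
    have h3 : σ (Y ^ N) * ρ = Y ^ N * ρ := by rw [h2]; ring
    exact mul_right_cancel₀ hρ0 h3
  have hcN : c ^ N = 1 := by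
    rw [hc, div_pow, ← map_pow, hF1, div_self (pow_ne_zero _ hY0)]
  -- (F3)
  set y₀ : Ω := Y ^ r with hy₀
  have hy₀N : y₀ ^ N = algebraMap R Ω π := by rw [hy₀, ← pow_mul, mul_comm, hY]
  have hcy₀ : (c * y₀) ^ N = algebraMap R Ω π := by rw [mul_pow, hcN, one_mul, hy₀N]
  obtain ⟨τ₀, hτ₀⟩ := exists_conj (K := K) hπ hN0 hy₀N hcy₀
  refine ⟨τ₀, ?_⟩
  rintro ⟨y, y', n⟩ hi ⟨hn0, hnW, hyn, hy'r⟩
  simp only at hn0 hnW hyn hy'r ⊢
  have hmem : (y, y', n) ∈ u.filter cond := Finset.mem_filter.mpr ⟨hi, ⟨hn0, hnW, hyn, hy'r⟩⟩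
  obtain ⟨k, hk⟩ : n ∣ N := by
    rw [hN]
    exact Finset.dvd_prod_of_mem (fun i : Ω × Ω × ℕ => i.2.2) hmem
  have hy0 : y ≠ 0 := root_ne_zero K hπ hn0 hyn
  have hy₀0 : y₀ ≠ 0 := pow_ne_zero _ hY0
  -- τ₀ y = c^k y
  have hA : τ₀ y = c ^ k * y := by
    have h1 : (y₀ ^ k) ^ n = algebraMap R Ω π := by rw [← pow_mul, mul_comm, ← hk, hy₀N]
    have h2 := apply_mul_eq W hI hπ hn0 hnW h1 hyn τ₀
    rw [map_pow, hτ₀, mul_pow] at h2
    have h3 : τ₀ y * y₀ ^ k = c ^ k * y * y₀ ^ k := by rw [← h2]; ring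
    exact mul_right_cancel₀ (pow_ne_zero _ hy₀0) h3
  -- σ y' = c^k y'
  have hy'0 : y' ≠ 0 := by
    rintro rfl
    rw [zero_pow hr] at hy'r
    exact hy0 hy'r.symm
  have hB : σ y' = c ^ k * y' := by
    have h1 : (Y ^ k) ^ (n * r) = algebraMap R Ω π := by
      rw [← pow_mul, ← mul_assoc, mul_comm k n, ← hk, hY]
    have h1' : y' ^ (n * r) = algebraMap R Ω π := by
      rw [mul_comm, pow_mul, hy'r, hyn]
    have hnr0 : n * r ≠ 0 := mul_ne_zero hn0 hr
    have hnrW : W.valuation ((n * r : ℕ) : Ω) = 1 := by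
      rw [Nat.cast_mul, map_mul, hnW, hrW, one_mul]
    have h2 := apply_mul_eq W hI hπ hnr0 hnrW h1 h1' σ
    rw [map_pow, hσY, mul_pow] at h2
    have h3 : σ y' * Y ^ k = c ^ k * y' * Y ^ k := by rw [← h2]; ring
    exact mul_right_cancel₀ (pow_ne_zero _ hY0) h3
  rw [hA, hB]
  ring


include hI hπ hr hrW hρ hσ in
/-- compactness: all tame conditions can be met simultaneously -/
theorem exists_tau :
    ∃ τ : Ω ≃ₐ[K] Ω, ∀ (n : ℕ) (y y' : Ω), n ≠ 0 → W.valuation ((n : ℕ) : Ω) = 1 →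
      y ^ n = algebraMap R Ω π → y' ^ r = y → τ y * y' = σ y' * y := by
  classical
  set cond : Ω × Ω × ℕ → Prop := fun i => i.2.2 ≠ 0 ∧ W.valuation ((i.2.2 : ℕ) : Ω) = 1 ∧
      i.1 ^ i.2.2 = algebraMap R Ω π ∧ i.2.1 ^ r = i.1 with hcond
  let t : Ω × Ω × ℕ → Set (Ω ≃ₐ[K] Ω) := fun i => {τ | cond i → τ i.1 * i.2.1 = σ i.2.1 * i.1}
  have htc : ∀ i, IsClosed (t i) := by
    intro i
    by_cases hc : cond i
    · have hy'0 : i.2.1 ≠ 0 := by
        intro h0
        obtain ⟨hn0, -, hyn, hy'r⟩ := hc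
        have hy0 := root_ne_zero K hπ hn0 hyn
        rw [h0, zero_pow hr] at hy'r
        exact hy0 hy'r.symm
      have : t i = {τ | τ i.1 = σ i.2.1 * i.1 / i.2.1} := by
        ext τ
        simp only [t, Set.mem_ofPred_eq]
        constructor
        · intro h
          rw [eq_div_iff hy'0]
          exact h hc
        · intro h _
          rw [h]
          field_simp
      rw [this]
      exact isClosed_setOf_apply_eq _ _
    · have : t i = Set.univ := by
        ext τ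
        simp [t, hc]
      rw [this]
      exact isClosed_univ
  have hfin : ∀ u : Finset (Ω × Ω × ℕ), (Set.univ ∩ ⋂ i ∈ u, t i).Nonempty := by
    intro u
    obtain ⟨τ, hτ⟩ := exists_tau_finite W hI hπ hr hrW hρ σ hσ u
    refine ⟨τ, Set.mem_univ _, ?_⟩
    simp only [Set.mem_iInter]
    intro i hi
    exact hτ i hi
  obtain ⟨τ, -, hτ⟩ := isCompact_univ.inter_iInter_nonempty t htc hfin
  refine ⟨τ, fun n y y' hn0 hnW hyn hy'r => ?_⟩
  have := Set.mem_iInter.mp hτ (y, y', n)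
  exact this ⟨hn0, hnW, hyn, hy'r⟩


include hW1 hI hπ hr hrW hρ hσ in
/-- key claim: an element of the kernel of the fundamental character is a product of two `r`-th
powers. -/
theorem exists_pow_mul_pow (q : ℕ) [ExpChar (IsLocalRing.ResidueField W) q]
    (hq : ∀ n : ℕ, n ≠ 0 → ∃ a n', n = q ^ a * n' ∧ W.valuation (n' : Ω) = 1)
    (hqr : q.Coprime r) :
    ∃ τ π'' : Ω ≃ₐ[K] Ω, σ = τ ^ r * π'' ^ r := by
  obtain ⟨τ, hτ⟩ := exists_tau W hI hπ hr hrW hρ σ hσ
  have hsc : IsSepClosed Ω := IsSepClosure.sep_closed K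
  have hsep : Algebra.IsSeparable K Ω := IsSepClosure.separable
  have hner : NeZero ((r : ℕ) : Ω) := ⟨by
    intro h0
    rw [h0, map_zero] at hrW
    exact zero_ne_one hrW⟩
  have hπ0 := algebraMap_ne_zero (Ω := Ω) K hπ
  set π' : Ω ≃ₐ[K] Ω := (τ ^ r)⁻¹ * σ with hπ'
  have hfix : ∀ (n : ℕ) (z : Ω), W.valuation (n : Ω) = 1 → z ^ n = algebraMap R Ω π →
      π' z = z := by
    intro n z hnW hz
    have hn0 : n ≠ 0 := by
      rintro rfl
      rw [Nat.cast_zero, map_zero] at hnW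
      exact zero_ne_one hnW
    have hz0 := root_ne_zero K hπ hn0 hz
    obtain ⟨z', hz'⟩ := IsSepClosed.exists_pow_nat_eq z r
    have hz'0 : z' ≠ 0 := by
      rintro rfl
      rw [zero_pow hr] at hz'
      exact hz0 hz'.symm
    have h1 := hτ n z z' hn0 hnW hz hz'
    set ξ : Ω := σ z' / z' with hξ
    have hσz' : σ z' = ξ * z' := by rw [hξ]; field_simp
    have hτz : τ z = ξ * z := by
      have : τ z * z' = ξ * z * z' := by rw [h1, hσz']; ring
      exact mul_right_cancel₀ hz'0 this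
    have hz'nr : z' ^ (n * r) = algebraMap R Ω π := by
      rw [mul_comm, pow_mul, hz', hz]
    have hξpow : ξ ^ (n * r) = 1 := by
      rw [hξ, div_pow, ← map_pow, hz'nr, IsScalarTower.algebraMap_apply R K Ω, AlgEquiv.commutes,
        div_self]
      rw [← IsScalarTower.algebraMap_apply R K Ω]
      exact hπ0
    have hnr0 : n * r ≠ 0 := mul_ne_zero hn0 hr
    have hnrW : W.valuation ((n * r : ℕ) : Ω) = 1 := by
      rw [Nat.cast_mul, map_mul, hnW, hrW, one_mul]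
    obtain ⟨k, hk⟩ := root_of_unity_mem W hI hnr0 hnrW hξpow
    have hτj : ∀ j : ℕ, (τ ^ j) z = ξ ^ j * z := by
      intro j
      induction j with
      | zero => simp
      | succ j ih =>
        rw [pow_succ', AlgEquiv.mul_apply, ih, map_mul, map_pow, ← hk, AlgEquiv.commutes, hk, hτz]
        ring
    have hσz : σ z = ξ ^ r * z := by
      rw [← hz', map_pow, hσz', mul_pow]
    have h2 : (τ ^ r) z = σ z := by rw [hτj, hσz]
    rw [hπ', AlgEquiv.mul_apply, ← h2]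
    exact (τ ^ r).symm_apply_apply z
  have hgr : GrTrivial W π' := grTrivial_of_fixes_tame_roots W hW1 hI hπ q hq π' hfix
  have horb : ∀ x : Ω, ∃ n : ℕ, n ≠ 0 ∧ n.Coprime r ∧ (π' ^ n) x = x := by
    intro x
    obtain ⟨n, hn0, hn⟩ := exists_pow_fixed_of_isAlgebraic π' x
    obtain ⟨a, ha⟩ := hgr.exists_pow_fixed q hq hn0 hn
    exact ⟨q ^ a, pow_ne_zero a (expChar_pos (IsLocalRing.ResidueField W) q).ne',
      Nat.Coprime.pow_left a hqr, ha⟩
  obtain ⟨π'', hπ''⟩ := Groth.Agent.Lib.Seat73.TameF.exists_pow_eq π' r hr horb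
  refine ⟨τ, π'', ?_⟩
  rw [hπ'', hπ', ← mul_assoc, mul_inv_cancel, one_mul]

end step2

end Groth.Agent.Lib.Seat73.TameG
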