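import Mathlib
import Groth.Agent.Lib.Seat1IntHensel
import Groth.Agent.Lib.Seat73TameA
import Groth.Agent.Lib.Seat73TameB

/-!
# Seat73 library: tame extensions, part H (strictly henselian DVRs give the setting of parts B–G)

* `isLocalRing_of_isIntegral`: a domain integral over a henselian local ring is local;
* `isIntegral_or_inv`: for a henselian DVR `R` with fraction field `K` and a separable algebraic
  extension `Ω`, every `x : Ω` has `x` or `x⁻¹` integral over `R` (the integral closure of `R` in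
  `K⟮x⟯` is a local Dedekind domain, hence a valuation ring);
* `W R K Ω`: the integral closure of `R` in `Ω` as a `ValuationSubring`; `algebraMap_mem_W`,
  `val_lt_one` (it dominates `R`), `apply_mem_W`, `val_apply_lt` (Galois stable);
* if the residue field of `R` is separably closed: `exists_pow_sub_lt` (the residue extension is
  purely inseparable) and `inertia` (every automorphism acts trivially on the residue field);
* `expChar_W`, `exists_eq_pow_mul`, `coprime_of_cast_ne_zero`: bookkeeping for the residue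
  characteristic exponent.
-/

open Polynomial IntermediateField

universe u

set_option linter.unusedSectionVars false

namespace Groth.Agent.Lib.Seat73.TameH

/-- A domain integral over a henselian local ring is local. -/
theorem isLocalRing_of_isIntegral (O B : Type u) [CommRing O] [HenselianLocalRing O] [CommRing B]
    [IsDomain B] [Algebra O B] [Algebra.IsIntegral O B] : IsLocalRing B := by
  have key : ∀ (𝔪 : Ideal B) [𝔪.IsMaximal] (t : B), t ∉ 𝔪 → IsUnit t := by
    intro 𝔪 _ t ht
    obtain ⟨e, c, he, hem, hmul⟩ :=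
      Groth.Agent.Lib.Seat1.IntHensel.exists_idem_mul_eq O B 𝔪 t ht
    have he1 : e = 1 := by
      rcases (IsIdempotentElem.iff_eq_zero_or_one).mp he with h | h
      · exact absurd (h ▸ 𝔪.zero_mem) hem
      · exact h
    rw [he1, mul_one] at hmul
    exact IsUnit.of_mul_eq_one c hmul
  obtain ⟨𝔪, h𝔪⟩ := Ideal.exists_maximal B
  apply IsLocalRing.of_unique_max_ideal
  refine ⟨𝔪, h𝔪, fun 𝔫 h𝔫 => ?_⟩
  by_contra hne
  have hnle : ¬ 𝔫 ≤ 𝔪 := fun hle => hne (h𝔫.eq_of_le h𝔪.ne_top hle)
  obtain ⟨t, ht𝔫, ht𝔪⟩ := Set.not_subset.mp hnle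
  exact h𝔫.ne_top (Ideal.eq_top_of_isUnit_mem _ ht𝔫 (key 𝔪 t ht𝔪))

variable {R K Ω : Type u} [CommRing R] [IsDomain R] [IsDiscreteValuationRing R]
  [HenselianLocalRing R] [Field K]
  [Algebra R K] [IsFractionRing R K] [Field Ω] [Algebra K Ω] [Algebra.IsSeparable K Ω]
  [Algebra R Ω] [IsScalarTower R K Ω]

variable (K) in
include K in
theorem isIntegral_or_inv (x : Ω) : IsIntegral R x ∨ IsIntegral R x⁻¹ := by
  set L : IntermediateField K Ω := K⟮x⟯ with hL
  have hfd : FiniteDimensional K L := adjoin.finiteDimensional (Algebra.IsIntegral.isIntegral x)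
  have hst : IsScalarTower R L Ω := IsScalarTower.of_algebraMap_eq fun _ => rfl
  have hded : IsDedekindDomain (integralClosure R L) := integralClosure.isDedekindDomain R K L
  have hloc : IsLocalRing (integralClosure R L) := isLocalRing_of_isIntegral R _
  have hfr : IsFractionRing (integralClosure R L) L :=
    integralClosure.isFractionRing_of_finite_extension K L
  have hnf : ¬ IsField (integralClosure R L) := by
    intro hf
    have hinj : Function.Injective (algebraMap R (integralClosure R L)) := by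
      intro a b hab
      have h1 := congrArg (fun s : integralClosure R L => ((s : L) : Ω)) hab
      have h2 : ∀ c : R, (((algebraMap R (integralClosure R L) c : integralClosure R L) : L) : Ω)
          = algebraMap K Ω (algebraMap R K c) := by
        intro c
        rw [← IsScalarTower.algebraMap_apply R K Ω]
        rfl
      rw [h2, h2] at h1
      exact IsFractionRing.injective R K ((algebraMap K Ω).injective h1)
    exact IsDiscreteValuationRing.not_isField R (isField_of_isIntegral_of_isField hinj hf)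
  have hval : ValuationRing (integralClosure R L) :=
    ((IsDiscreteValuationRing.TFAE _ hnf).out 2 1).mp hded
  rcases ValuationRing.isInteger_or_isInteger (integralClosure R L)
    (⟨x, mem_adjoin_simple_self K x⟩ : L) with ⟨s, hs⟩ | ⟨s, hs⟩
  · left
    have h1 : IsIntegral R (s : L) := s.2
    have h2 : IsIntegral R (algebraMap L Ω (s : L)) := h1.algebraMap
    have h3 : algebraMap L Ω (s : L) = x := by
      have := congrArg (algebraMap L Ω) hs
      simpa using this
    rwa [h3] at h2
  · right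
    have h1 : IsIntegral R (s : L) := s.2
    have h2 : IsIntegral R (algebraMap L Ω (s : L)) := h1.algebraMap
    have h3 : algebraMap L Ω (s : L) = x⁻¹ := by
      have := congrArg (algebraMap L Ω) hs
      simpa using this
    rwa [h3] at h2


section W

variable (R K Ω) in
/-- The integral closure of `R` in `Ω`, as a valuation subring. -/
def W : ValuationSubring Ω :=
  { (integralClosure R Ω).toSubring with
    mem_or_inv_mem' := fun x => isIntegral_or_inv K x }

theorem mem_W {x : Ω} : x ∈ W R K Ω ↔ IsIntegral R x := Iff.rfl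

theorem algebraMap_mem_W (a : R) : algebraMap R Ω a ∈ W R K Ω := mem_W.mpr isIntegral_algebraMap

theorem val_lt_one (a : R) (ha : a ∈ IsLocalRing.maximalIdeal R) :
    (W R K Ω).valuation (algebraMap R Ω a) < 1 := by
  by_contra hlt
  have hle : (W R K Ω).valuation (algebraMap R Ω a) ≤ 1 :=
    ((W R K Ω).valuation_le_one_iff _).mpr (algebraMap_mem_W a)
  have h1 : (W R K Ω).valuation (algebraMap R Ω a) = 1 := le_antisymm hle (not_lt.mp hlt)
  have ha0 : a ≠ 0 := by
    rintro rfl
    rw [map_zero, map_zero] at h1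
    exact zero_ne_one h1
  have h2 : (W R K Ω).valuation (algebraMap R Ω a)⁻¹ ≤ 1 := by
    rw [map_inv₀, h1, inv_one]
  have h3 : IsIntegral R (algebraMap R Ω a)⁻¹ :=
    mem_W.mp (((W R K Ω).valuation_le_one_iff _).mp h2)
  rw [IsScalarTower.algebraMap_apply R K Ω, ← map_inv₀,
    isIntegral_algebraMap_iff (algebraMap K Ω).injective] at h3
  obtain ⟨b, hb⟩ := IsIntegrallyClosed.isIntegral_iff.mp h3
  have haK : algebraMap R K a ≠ 0 := by simpa using ha0
  have h4 : algebraMap R K (a * b) = algebraMap R K 1 := by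
    rw [map_mul, hb, map_one, mul_inv_cancel₀ haK]
  have h5 : a * b = 1 := IsFractionRing.injective R K h4
  exact (IsLocalRing.mem_maximalIdeal a).mp ha (IsUnit.of_mul_eq_one b h5)

theorem apply_mem_W (σ : Ω ≃ₐ[K] Ω) {x : Ω} (hx : x ∈ W R K Ω) : σ x ∈ W R K Ω := by
  rw [mem_W] at hx ⊢
  exact hx.map (σ.restrictScalars R)

noncomputable instance : Algebra R (W R K Ω) :=
  (RingHom.codRestrict (algebraMap R Ω) (W R K Ω) algebraMap_mem_W).toAlgebra

instance : IsScalarTower R (W R K Ω) Ω := IsScalarTower.of_algebraMap_eq fun _ => rfl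

theorem coe_algebraMap (a : R) : ((algebraMap R (W R K Ω) a : W R K Ω) : Ω) = algebraMap R Ω a :=
  rfl

instance : IsLocalHom (algebraMap R (W R K Ω)) := by
  refine ⟨fun a ha => ?_⟩
  by_contra hnu
  have hmem : a ∈ IsLocalRing.maximalIdeal R := (IsLocalRing.mem_maximalIdeal a).mpr hnu
  have h1 := val_lt_one (K := K) (Ω := Ω) a hmem
  have h2 := ((W R K Ω).valuation_eq_one_iff _).mp ha
  rw [coe_algebraMap] at h2
  exact (ne_of_lt h1) h2

instance : Algebra.IsIntegral R (W R K Ω) := by
  refine ⟨fun w => ?_⟩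
  have : IsIntegral R ((algebraMap (W R K Ω) Ω) w) := mem_W.mp w.2
  exact (isIntegral_algebraMap_iff (A := W R K Ω) (B := Ω) Subtype.val_injective).mp this

instance : Algebra.IsAlgebraic (IsLocalRing.ResidueField R) (IsLocalRing.ResidueField (W R K Ω)) := by
  refine ⟨fun y => ?_⟩
  obtain ⟨w, rfl⟩ := IsLocalRing.residue_surjective y
  have h1 : IsIntegral R w := Algebra.IsIntegral.isIntegral w
  have h2 : IsIntegral R (algebraMap (W R K Ω) (IsLocalRing.ResidueField (W R K Ω)) w) :=
    h1.algebraMap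
  have h3 : IsIntegral (IsLocalRing.ResidueField R)
      (algebraMap (W R K Ω) (IsLocalRing.ResidueField (W R K Ω)) w) := h2.tower_top
  exact h3.isAlgebraic

end W

section inertia

theorem val_apply_lt (σ : Ω ≃ₐ[K] Ω) {y : Ω} (hy : (W R K Ω).valuation y < 1) :
    (W R K Ω).valuation (σ y) < 1 := by
  by_contra h
  have hyW : y ∈ W R K Ω := ((W R K Ω).valuation_le_one_iff _).mp hy.le
  have hσy := apply_mem_W σ hyW
  have h1 : (W R K Ω).valuation (σ y) = 1 :=
    le_antisymm (((W R K Ω).valuation_le_one_iff _).mpr hσy) (not_lt.mp h)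
  have h2 : (σ y)⁻¹ ∈ W R K Ω := by
    rw [← (W R K Ω).valuation_le_one_iff, map_inv₀, h1, inv_one]
  have h3 : σ.symm ((σ y)⁻¹) ∈ W R K Ω := apply_mem_W σ.symm h2
  rw [map_inv₀, σ.symm_apply_apply] at h3
  have h4 := ((W R K Ω).valuation_le_one_iff _).mpr h3
  have h5 := ((W R K Ω).valuation_le_one_iff _).mpr hyW
  rw [map_inv₀] at h4
  have hy0 : (W R K Ω).valuation y ≠ 0 := by
    intro h0
    rw [(W R K Ω).valuation.zero_iff] at h0
    rw [h0, map_zero, map_zero] at h1
    exact zero_ne_one h1
  have h6 : 1 ≤ (W R K Ω).valuation y := (inv_le_one₀ (zero_lt_iff.mpr hy0)).mp h4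
  exact not_lt.mpr h6 hy

variable [IsSepClosed (IsLocalRing.ResidueField R)]

theorem exists_pow_sub_lt (q : ℕ) [ExpChar (IsLocalRing.ResidueField R) q] (w : W R K Ω) :
    ∃ (n : ℕ) (a : R), (W R K Ω).valuation ((w : Ω) ^ q ^ n - algebraMap R Ω a) < 1 := by
  obtain ⟨n, c, hc⟩ := IsPurelyInseparable.pow_mem (IsLocalRing.ResidueField R) q
    (IsLocalRing.residue (W R K Ω) w)
  obtain ⟨a, rfl⟩ := IsLocalRing.residue_surjective c
  refine ⟨n, a, ?_⟩
  have h0 : IsLocalRing.residue (W R K Ω) (w ^ q ^ n - algebraMap R (W R K Ω) a) = 0 := by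
    rw [map_sub, map_pow, ← hc, IsLocalRing.ResidueField.algebraMap_residue]
    exact sub_self _
  rw [IsLocalRing.residue_eq_zero_iff, ValuationSubring.valuation_lt_one_iff] at h0
  exact h0

theorem apply_sub_lt (σ : Ω ≃ₐ[K] Ω) {x : Ω} (hx : x ∈ W R K Ω) :
    (W R K Ω).valuation (σ x - x) < 1 := by
  obtain ⟨q, hq⟩ := ExpChar.exists (IsLocalRing.ResidueField R)
  obtain ⟨n, a, hna⟩ := exists_pow_sub_lt q (⟨x, hx⟩ : W R K Ω)
  simp only at hna
  have h1 := val_apply_lt σ hna
  have hσa : σ (algebraMap R Ω a) = algebraMap R Ω a := by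
    rw [IsScalarTower.algebraMap_apply R K Ω, AlgEquiv.commutes]
  rw [map_sub, map_pow, hσa] at h1
  have h2 : (W R K Ω).valuation ((σ x) ^ q ^ n - x ^ q ^ n) < 1 := by
    have : (σ x) ^ q ^ n - x ^ q ^ n =
        ((σ x) ^ q ^ n - algebraMap R Ω a) - (x ^ q ^ n - algebraMap R Ω a) := by ring
    rw [this]
    exact Valuation.map_sub_lt _ h1 hna
  have hexp : ExpChar (IsLocalRing.ResidueField (W R K Ω)) q :=
    expChar_of_injective_algebraMap (algebraMap (IsLocalRing.ResidueField R)
      (IsLocalRing.ResidueField (W R K Ω))).injective q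
  set u : W R K Ω := ⟨σ x, apply_mem_W σ hx⟩ with hu
  set w : W R K Ω := ⟨x, hx⟩ with hw
  have h3 : IsLocalRing.residue (W R K Ω) (u - w) ^ q ^ n = 0 := by
    rw [map_sub, sub_pow_expChar_pow, ← map_pow, ← map_pow, ← map_sub,
      IsLocalRing.residue_eq_zero_iff, ValuationSubring.valuation_lt_one_iff]
    exact h2
  have h4 := pow_eq_zero_iff (pow_ne_zero n (expChar_pos (IsLocalRing.ResidueField R) q).ne') |>.mp h3
  rw [IsLocalRing.residue_eq_zero_iff, ValuationSubring.valuation_lt_one_iff] at h4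
  exact h4

/-- every automorphism acts as inertia -/
theorem inertia (σ : Ω ≃ₐ[K] Ω) (x : Ω) (hx : x ∈ W R K Ω) :
    σ x ∈ W R K Ω ∧ (W R K Ω).valuation (σ x - x) < 1 :=
  ⟨apply_mem_W σ hx, apply_sub_lt σ hx⟩

omit [IsSepClosed (IsLocalRing.ResidueField R)] in
theorem expChar_W (q : ℕ) [ExpChar (IsLocalRing.ResidueField R) q] :
    ExpChar (IsLocalRing.ResidueField (W R K Ω)) q :=
  expChar_of_injective_algebraMap (algebraMap (IsLocalRing.ResidueField R)
    (IsLocalRing.ResidueField (W R K Ω))).injective q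

omit [IsSepClosed (IsLocalRing.ResidueField R)] in
theorem exists_eq_pow_mul (q : ℕ) [hq : ExpChar (IsLocalRing.ResidueField R) q] (n : ℕ)
    (hn : n ≠ 0) : ∃ a n', n = q ^ a * n' ∧ (W R K Ω).valuation (n' : Ω) = 1 := by
  rcases hq with _ | ⟨hprime⟩
  · refine ⟨0, n, by simp, ?_⟩
    exact Groth.Agent.Lib.Seat73.TameB.val_natCast (W R K Ω) algebraMap_mem_W
      (Nat.cast_ne_zero.mpr hn)
  · obtain ⟨a, n', hn', h⟩ := Nat.exists_eq_pow_mul_and_not_dvd hn q hprime.ne_one
    refine ⟨a, n', h, ?_⟩
    refine Groth.Agent.Lib.Seat73.TameB.val_natCast (W R K Ω) algebraMap_mem_W ?_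
    rw [Ne, CharP.cast_eq_zero_iff (IsLocalRing.ResidueField R) q]
    exact hn'

end inertia


theorem coprime_of_cast_ne_zero {k : Type*} [Field k] (q : ℕ) [hq : ExpChar k q] {r : ℕ}
    (hr : (r : k) ≠ 0) : q.Coprime r := by
  rcases hq with _ | ⟨hprime⟩
  · exact Nat.coprime_one_left r
  · rw [Nat.Prime.coprime_iff_not_dvd hprime]
    rwa [Ne, CharP.cast_eq_zero_iff k q] at hr

end Groth.Agent.Lib.Seat73.TameH
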