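import Mathlib
import Groth.Agent.Lib.Seat73GalId
import Groth.Agent.Lib.Seat73InertiaImage
import Groth.Agent.Lib.Seat73Hartogs

/-!
# The two-factor lemma for invariant rings
-/

set_option autoImplicit false
set_option linter.unusedSectionVars false
universe u v w

namespace Groth.Agent.Lib.Seat73.TwoFactor

open scoped Pointwise

variable {A : Type v} [CommRing A] {H : Type w} [Group H] [MulSemiringAction H A]

section Tr

variable (V : Subgroup H) [V.Normal] [Fintype (H ⧸ V)] (s : H ⧸ V → H)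

/-- the "trace" along a section of `H → H ⧸ V` -/
def T (a : A) : A := ∑ q : H ⧸ V, s q • a

theorem T_add (a b : A) : T V s (a + b) = T V s a + T V s b := by
  simp only [T, smul_add, Finset.sum_add_distrib]

theorem T_zero : T V s (0 : A) = 0 := by
  simp only [T, smul_zero, Finset.sum_const_zero]

theorem T_sum {ι : Type*} (t : Finset ι) (a : ι → A) : T V s (∑ i ∈ t, a i) = ∑ i ∈ t, T V s (a i) := by
  classical
  induction t using Finset.induction_on with
  | empty => simp [T_zero]
  | insert i t hi ih => rw [Finset.sum_insert hi, Finset.sum_insert hi, T_add, ih]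

theorem T_mul_left (a c : A) (ha : ∀ q, s q • a = a) : T V s (a * c) = a * T V s c := by
  simp only [T, smul_mul', ha, Finset.mul_sum]

theorem T_algebraMap_mul {R : Type u} [CommRing R] [Algebra R A] [SMulCommClass H R A] (r : R) (c : A) :
    T V s (algebraMap R A r * c) = algebraMap R A r * T V s c := by
  apply T_mul_left
  intro q
  rw [Algebra.algebraMap_eq_smul_one, smul_comm, smul_one]

variable {V s}

theorem smul_T (hs : ∀ q, ((s q : H) : H ⧸ V) = q) (W : Subgroup H) (hsW : ∀ q, s q ∈ W) (y : A)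
    (hy : ∀ k ∈ W ⊓ V, k • y = y) (g : H) (hg : g ∈ W) : g • T V s y = T V s y := by
  rw [T, Finset.smul_sum]
  refine Fintype.sum_equiv (Equiv.mulLeft (g : H ⧸ V)) _ _ (fun q => ?_)
  rw [Equiv.coe_mulLeft]
  obtain ⟨k, hk⟩ : ∃ k : H, k = (s ((g : H ⧸ V) * q))⁻¹ * (g * s q) := ⟨_, rfl⟩
  have hkW : k ∈ W := by
    rw [hk]
    exact W.mul_mem (W.inv_mem (hsW _)) (W.mul_mem hg (hsW _))
  have hkV : k ∈ V := by
    rw [← QuotientGroup.eq_one_iff, hk, QuotientGroup.mk_mul, QuotientGroup.mk_inv, hs,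
      QuotientGroup.mk_mul, hs, inv_mul_cancel]
  have h1 : g * s q = s ((g : H ⧸ V) * q) * k := by
    rw [hk, mul_inv_cancel_left]
  rw [← mul_smul, h1, mul_smul, hy k ⟨hkW, hkV⟩]

open Classical in
theorem identity_apply (hs : ∀ q, ((s q : H) : H ⧸ V) = q) {n : ℕ} (x y : Fin n → A) (f : A)
    (hid : ∀ h : H, ∑ i, x i * h • y i = if h ∈ V then f else 0) (x0 : A)
    (hx0 : s 1 • x0 = x0) : f * x0 = ∑ i, x i * T V s (y i * x0) := by
  have h1 : ∑ q : H ⧸ V, (∑ i, x i * s q • y i) * s q • x0 = f * x0 := by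
    simp_rw [hid]
    rw [Finset.sum_eq_single (1 : H ⧸ V)]
    · have h2 : s 1 ∈ V := by
        rw [← QuotientGroup.eq_one_iff, hs]
      rw [if_pos h2, hx0]
    · intro q _ hq
      have h2 : s q ∉ V := by
        rw [← QuotientGroup.eq_one_iff, hs]
        exact hq
      rw [if_neg h2, zero_mul]
    · intro h
      exact absurd (Finset.mem_univ _) h
  rw [← h1]
  simp only [T, Finset.mul_sum, Finset.sum_mul, smul_mul']
  rw [Finset.sum_comm]
  refine Finset.sum_congr rfl fun q _ => Finset.sum_congr rfl fun i _ => ?_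
  ring

end Tr

section CHR

variable (R : Type u) [CommRing R] [Algebra R A] [SMulCommClass H R A] [Finite H]

open Classical in
/-- The Chase–Harrison–Rosenberg identity for the action of `H ⧸ V` on `A^V` at a prime whose
inertia groups lie in `V`, expressed in `A`. -/
theorem exists_identity_of_inertia_le (V : Subgroup H) [V.Normal] (P : Ideal A) [P.IsPrime]
    (hI : ∀ t : H, (t⁻¹ • P).inertia H ≤ V) :
    ∃ (f : A) (n : ℕ) (x y : Fin n → FixedPoints.subalgebra R A V), (∀ h : H, h • f = f) ∧ f ∉ P ∧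
      ∀ h : H, ∑ i, (x i : A) * h • (y i : A) = if h ∈ V then f else 0 := by
  have : Fintype (H ⧸ V) := Fintype.ofFinite _
  have hQ : (P.comap (FixedPoints.subalgebra R A V).val.toRingHom).IsPrime := Ideal.comap_isPrime _ _
  obtain ⟨f, hfinv, hfP, l, hl⟩ := Groth.Agent.Lib.Seat73.GalId.exists_identity (G := H ⧸ V)
    (P.comap (FixedPoints.subalgebra R A V).val.toRingHom) (by
      intro τ σ hσ
      induction τ using QuotientGroup.induction_on with | _ t => ?_
      induction σ using QuotientGroup.induction_on with | _ s0 => ?_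
      have hs0 : s0 ∉ V := by
        rwa [Ne, QuotientGroup.eq_one_iff] at hσ
      by_contra hcon
      push Not at hcon
      apply hs0
      have hprime : (t⁻¹ • P).IsPrime := Ideal.IsPrime.smul _
      refine Groth.Agent.Lib.Seat73.InertiaImage.mem_of_forall_smul_sub_mem V (t⁻¹ • P) (hI t) s0 ?_
      intro a ha
      rw [Ideal.mem_inv_pointwise_smul_iff]
      exact hcon ⟨a, ha⟩)
  refine ⟨(f : A), l.length, fun i => l[i.1].1, fun i => l[i.1].2, ?_, hfP, ?_⟩
  · intro h
    exact congrArg Subtype.val (hfinv (h : H ⧸ V))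
  · intro h
    have h1 := congrArg Subtype.val (hl (h : H ⧸ V))
    have h2 : ∑ i : Fin l.length, ((l[i.1].1 : FixedPoints.subalgebra R A V) : A) *
        h • ((l[i.1].2 : FixedPoints.subalgebra R A V) : A) =
        (l.map fun p => ((p.1 : FixedPoints.subalgebra R A V) : A) * h • (p.2 : A)).sum :=
      Fin.sum_univ_fun_getElem l
        (fun p => ((p.1 : FixedPoints.subalgebra R A V) : A) * h • (p.2 : A))
    rw [h2]
    have h3 : ((l.map fun p => p.1 * (h : H ⧸ V) • p.2).sum : FixedPoints.subalgebra R A V).1 =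
        (l.map fun p => ((p.1 : FixedPoints.subalgebra R A V) : A) * h • (p.2 : A)).sum := by
      have := map_list_sum (FixedPoints.subalgebra R A V).val (l.map fun p => p.1 * (h : H ⧸ V) • p.2)
      rw [List.map_map] at this
      exact this
    rw [← h3, h1]
    by_cases hV : h ∈ V
    · rw [if_pos hV, if_pos ((QuotientGroup.eq_one_iff h).mpr hV)]
    · rw [if_neg hV, if_neg (fun hh => hV ((QuotientGroup.eq_one_iff h).mp hh))]
      rfl

end CHR

section LinInd

variable (R : Type u) [CommRing R] [Algebra R A] [SMulCommClass H R A] [Finite H] [IsDomain A]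
  [FaithfulSMul H A]

omit [Finite H] [IsDomain A] in
theorem inertia_bot_le (V : Subgroup H) (t : H) : (t⁻¹ • (⊥ : Ideal A)).inertia H ≤ V := by
  intro h hh
  have h1 : h = 1 := by
    apply FaithfulSMul.eq_of_smul_eq_smul (α := A)
    intro a
    have h2 : h • a - a ∈ t⁻¹ • (⊥ : Ideal A) := hh a
    rw [Ideal.smul_bot, Ideal.mem_bot, sub_eq_zero] at h2
    rw [h2, one_smul]
  rw [h1]
  exact V.one_mem

variable {R}

open Classical in
theorem exists_dual (hfix : ∀ a : A, (∀ h : H, h • a = a) → a ∈ Set.range (algebraMap R A))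
    (V : Subgroup H) [V.Normal] [Fintype (H ⧸ V)] (s : H ⧸ V → H)
    (hs : ∀ q, ((s q : H) : H ⧸ V) = q)
    {κ : Type*} [Fintype κ] (β : Module.Basis κ R (FixedPoints.subalgebra R A V)) :
    ∃ (f : A) (z : κ → FixedPoints.subalgebra R A V), f ≠ 0 ∧
      ∀ m k, T V s ((z m : A) * (β k : A)) = if m = k then f else 0 := by
  have hbot : (⊥ : Ideal A).IsPrime := Ideal.isPrime_bot
  obtain ⟨f, n, x, y, hfinv, hf0, hid⟩ := exists_identity_of_inertia_le R V (⊥ : Ideal A)
    (inertia_bot_le V)
  rw [Ideal.mem_bot] at hf0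
  obtain ⟨f', hf'⟩ := hfix f hfinv
  -- the elements `z m`
  obtain ⟨z, hz⟩ : ∃ z : κ → FixedPoints.subalgebra R A V,
      z = fun m => ∑ i, β.repr (x i) m • y i := ⟨_, rfl⟩
  refine ⟨f, z, hf0, ?_⟩
  have hs1 : s 1 ∈ V := by
    rw [← QuotientGroup.eq_one_iff, hs]
  -- `T (z m * β k)` is invariant
  have hTinv : ∀ m k, ∃ r : R, algebraMap R A r = T V s ((z m : A) * (β k : A)) := by
    intro m k
    apply hfix
    intro h
    refine smul_T hs ⊤ (fun _ => Subgroup.mem_top _) _ ?_ h (Subgroup.mem_top _)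
    intro v hv
    exact (z m * β k).2 ⟨v, hv.2⟩
  choose r hr using hTinv
  -- the key identity
  have hkey : ∀ k, f * (β k : A) = ∑ m, (β m : A) * T V s ((z m : A) * (β k : A)) := by
    intro k
    rw [identity_apply hs (fun i => (x i : A)) (fun i => (y i : A)) f hid (β k : A)
      ((β k).2 ⟨s 1, hs1⟩)]
    have hx : ∀ i, (x i : A) = ∑ m, algebraMap R A (β.repr (x i) m) * (β m : A) := by
      intro i
      conv_lhs => rw [← β.sum_repr (x i)]
      rw [AddSubmonoidClass.coe_finsetSum]
      refine Finset.sum_congr rfl fun m _ => ?_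
      rw [Algebra.smul_def]
      rfl
    have hzT : ∀ m, T V s ((z m : A) * (β k : A)) =
        ∑ i, algebraMap R A (β.repr (x i) m) * T V s ((y i : A) * (β k : A)) := by
      intro m
      rw [hz]
      simp only
      rw [AddSubmonoidClass.coe_finsetSum, Finset.sum_mul, T_sum]
      refine Finset.sum_congr rfl fun i _ => ?_
      rw [← T_algebraMap_mul, Algebra.smul_def]
      congr 1
      show algebraMap R A (β.repr (x i) m) * (y i : A) * (β k : A) = _
      rw [mul_assoc]
    simp_rw [hzT, Finset.mul_sum]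
    rw [Finset.sum_comm]
    refine Finset.sum_congr rfl fun i _ => ?_
    rw [hx i, Finset.sum_mul]
    refine Finset.sum_congr rfl fun m _ => ?_
    ring
  intro m k
  -- compare coefficients
  have hlin : ∑ m, (r m k - if m = k then f' else 0) • β m = 0 := by
    apply Subtype.ext
    rw [AddSubmonoidClass.coe_finsetSum]
    have h1 : ∀ m, (((r m k - if m = k then f' else 0) • β m : FixedPoints.subalgebra R A V) : A) =
        (β m : A) * T V s ((z m : A) * (β k : A)) - if m = k then f * (β k : A) else 0 := by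
      intro m
      rw [Algebra.smul_def]
      show algebraMap R A (r m k - if m = k then f' else 0) * (β m : A) = _
      rw [map_sub, hr, sub_mul, mul_comm]
      congr 1
      by_cases hmk : m = k
      · rw [if_pos hmk, if_pos hmk, hf', hmk]
      · rw [if_neg hmk, if_neg hmk, map_zero, zero_mul]
    simp_rw [h1]
    rw [Finset.sum_sub_distrib, ← hkey k, Finset.sum_ite_eq' Finset.univ k, if_pos (Finset.mem_univ _),
      sub_self]
    rfl
  have h2 := Fintype.linearIndependent_iff.mp β.linearIndependent _ hlin m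
  rw [← hr, sub_eq_zero.mp h2]
  by_cases hmk : m = k
  · rw [if_pos hmk, if_pos hmk, hf']
  · rw [if_neg hmk, if_neg hmk, map_zero]

theorem eq_zero_of_sum_mul_eq_zero
    (hfix : ∀ a : A, (∀ h : H, h • a = a) → a ∈ Set.range (algebraMap R A))
    (U V : Subgroup H) [V.Normal] [Fintype (H ⧸ V)] (s : H ⧸ V → H)
    (hs : ∀ q, ((s q : H) : H ⧸ V) = q) (hsU : ∀ q, s q ∈ U)
    {κ : Type*} [Fintype κ] (β : Module.Basis κ R (FixedPoints.subalgebra R A V))
    (a : κ → A) (ha : ∀ k, ∀ u ∈ U, u • a k = a k)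
    (h0 : ∑ k, a k * (β k : A) = 0) : ∀ k, a k = 0 := by
  classical
  obtain ⟨f, z, hf0, hz⟩ := exists_dual hfix V s hs β
  intro m
  have h1 : T V s ((z m : A) * ∑ k, a k * (β k : A)) = a m * f := by
    rw [Finset.mul_sum, T_sum]
    have h2 : ∀ k, T V s ((z m : A) * (a k * (β k : A))) = a k * if m = k then f else 0 := by
      intro k
      rw [← hz m k, ← T_mul_left V s (a k) _ (fun q => ha k _ (hsU q))]
      congr 1
      ring
    simp_rw [h2]
    rw [Finset.sum_eq_single m]
    · rw [if_pos rfl]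
    · intro k _ hk
      rw [if_neg (Ne.symm hk), mul_zero]
    · intro h
      exact absurd (Finset.mem_univ _) h
  rw [h0, mul_zero, T_zero] at h1
  exact (mul_eq_zero.mp h1.symm).resolve_right hf0

end LinInd

section Main

variable {R : Type u} [CommRing R] [Algebra R A] [SMulCommClass H R A] [Finite H]

/-- a section of `H → H ⧸ V` with values in `U`, when `H = U V`. -/
theorem exists_section (U V : Subgroup H) [V.Normal] (hUV : U ⊔ V = ⊤) :
    ∃ s : H ⧸ V → H, (∀ q, ((s q : H) : H ⧸ V) = q) ∧ ∀ q, s q ∈ U := by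
  have h1 : ∀ q : H ⧸ V, ∃ u : H, ((u : H) : H ⧸ V) = q ∧ u ∈ U := by
    intro q
    obtain ⟨h, rfl⟩ := QuotientGroup.mk_surjective q
    have h2 : h ∈ U ⊔ V := by
      rw [hUV]
      exact Subgroup.mem_top _
    obtain ⟨u, hu, v, hv, rfl⟩ := Subgroup.mem_sup_of_normal_right.mp h2
    refine ⟨u, ?_, hu⟩
    rw [QuotientGroup.eq]
    rw [inv_mul_cancel_left]
    exact hv
  choose s hs using h1
  exact ⟨s, fun q => (hs q).1, fun q => (hs q).2⟩

/-- the inertia groups of conjugate primes coincide in a commutative group -/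
theorem inertia_inv_smul_of_comm (hcomm : ∀ g h : H, g * h = h * g) (P : Ideal A) (t : H) :
    (t⁻¹ • P).inertia H = P.inertia H := by
  ext h
  constructor
  · intro hh a
    have h1 : h • (t⁻¹ • a) - t⁻¹ • a ∈ t⁻¹ • P := hh (t⁻¹ • a)
    rw [Ideal.mem_inv_pointwise_smul_iff, smul_sub, smul_inv_smul, ← mul_smul, ← mul_smul,
      hcomm t, mul_assoc, mul_inv_cancel, mul_one] at h1
    exact h1
  · intro hh a
    show h • a - a ∈ t⁻¹ • P
    rw [Ideal.mem_inv_pointwise_smul_iff, smul_sub, ← mul_smul, hcomm t, mul_smul]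
    exact hh (t • a)

/-- the unramified direction: if the inertia groups of `P` lie in `V`, then `f A^{U ⊓ V}` lies in
`A^U A^V` for some invariant `f ∉ P`. -/
theorem exists_smul_eq_sum_mul (R : Type u) [CommRing R] [Algebra R A] [SMulCommClass H R A]
    (U V : Subgroup H) [V.Normal] (hUV : U ⊔ V = ⊤)
    (P : Ideal A) [P.IsPrime] (hI : ∀ t : H, (t⁻¹ • P).inertia H ≤ V) :
    ∃ f : A, (∀ h : H, h • f = f) ∧ f ∉ P ∧ ∀ x0 : A, (∀ k ∈ U ⊓ V, k • x0 = x0) →
      ∃ (n : ℕ) (a b : Fin n → A), (∀ i, ∀ u ∈ U, u • a i = a i) ∧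
        (∀ i, ∀ v ∈ V, v • b i = b i) ∧ f * x0 = ∑ i, a i * b i := by
  classical
  have : Fintype (H ⧸ V) := Fintype.ofFinite _
  obtain ⟨s, hs, hsU⟩ := exists_section U V hUV
  obtain ⟨f, n, x, y, hfinv, hfP, hid⟩ := exists_identity_of_inertia_le R V P hI
  refine ⟨f, hfinv, hfP, ?_⟩
  intro x0 hx0
  have hs1 : s 1 ∈ U ⊓ V := by
    have h2 : s 1 ∈ V := by
      rw [← QuotientGroup.eq_one_iff, hs]
    exact ⟨hsU 1, h2⟩
  refine ⟨n, fun i => T V s ((y i : A) * x0), fun i => (x i : A), ?_, ?_, ?_⟩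
  · intro i u hu
    refine smul_T hs U hsU _ ?_ u hu
    intro k hk
    rw [smul_mul', hx0 k hk]
    congr 1
    exact (y i).2 ⟨k, hk.2⟩
  · intro i v hv
    exact (x i).2 ⟨v, hv⟩
  · rw [identity_apply hs (fun i => (x i : A)) (fun i => (y i : A)) f hid x0 (hx0 _ hs1)]
    refine Finset.sum_congr rfl fun i _ => ?_
    rw [mul_comm]

omit [Finite H] in
theorem inertia_bot_le' [IsDomain A] [FaithfulSMul H A] (V : Subgroup H) :
    (⊥ : Ideal A).inertia H ≤ V := by
  intro h hh
  have h1 : h = 1 := by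
    apply FaithfulSMul.eq_of_smul_eq_smul (α := A)
    intro a
    have h2 : h • a - a ∈ (⊥ : Ideal A) := hh a
    rw [Ideal.mem_bot, sub_eq_zero] at h2
    rw [h2, one_smul]
  rw [h1]
  exact V.one_mem

/-- **The two-factor lemma.** -/
theorem two_factor [IsDomain R] [UniqueFactorizationMonoid R]
    [IsDomain A] [IsNoetherianRing A] [Algebra.IsIntegral R A]
    (hinj : Function.Injective (algebraMap R A)) [FaithfulSMul H A]
    (hfix : ∀ a : A, (∀ h : H, h • a = a) → a ∈ Set.range (algebraMap R A))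
    (hcomm : ∀ g h : H, g * h = h * g)
    (U V : Subgroup H) (hUV : U ⊔ V = ⊤)
    {ι κ : Type*} [Finite ι] [Finite κ] (α : Module.Basis ι R (FixedPoints.subalgebra R A U))
    (β : Module.Basis κ R (FixedPoints.subalgebra R A V))
    (hin : ∀ P : Ideal A, P.IsPrime → P.height = 1 → P.inertia H ≤ U ∨ P.inertia H ≤ V) :
    FixedPoints.subalgebra R A ↥(U ⊓ V) =
        FixedPoints.subalgebra R A U ⊔ FixedPoints.subalgebra R A V ∧
      Module.Free R (FixedPoints.subalgebra R A ↥(U ⊓ V)) := by
  classical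
  have : Fintype ι := Fintype.ofFinite _
  have : Fintype κ := Fintype.ofFinite _
  have hUn : U.Normal := ⟨fun n hn g => by rw [hcomm g n, mul_inv_cancel_right]; exact hn⟩
  have hVn : V.Normal := ⟨fun n hn g => by rw [hcomm g n, mul_inv_cancel_right]; exact hn⟩
  have : Fintype (H ⧸ V) := Fintype.ofFinite _
  have hTF : Module.IsTorsionFree R A := Module.isTorsionFree_iff_algebraMap_injective.mpr hinj
  obtain ⟨s, hs, hsU⟩ := exists_section U V hUV
  -- the family
  obtain ⟨e, he_def⟩ : ∃ e : ι × κ → A, e = fun jk => (α jk.1 : A) * (β jk.2 : A) := ⟨_, rfl⟩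
  -- linear independence
  have he : LinearIndependent R e := by
    rw [Fintype.linearIndependent_iff]
    intro g hg jk
    have ha : ∀ k, ∀ u ∈ U, u • (∑ j, algebraMap R A (g (j, k)) * (α j : A)) =
        ∑ j, algebraMap R A (g (j, k)) * (α j : A) := by
      intro k u hu
      rw [Finset.smul_sum]
      refine Finset.sum_congr rfl fun j _ => ?_
      have hαj : u • (α j : A) = α j := (α j).2 ⟨u, hu⟩
      rw [smul_mul', hαj]
      congr 1
      rw [Algebra.algebraMap_eq_smul_one, smul_comm, smul_one]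
    have h1 : ∑ k, (∑ j, algebraMap R A (g (j, k)) * (α j : A)) * (β k : A) = 0 := by
      rw [← hg, Fintype.sum_prod_type, Finset.sum_comm]
      refine Finset.sum_congr rfl fun k _ => ?_
      rw [Finset.sum_mul]
      refine Finset.sum_congr rfl fun j _ => ?_
      rw [he_def, Algebra.smul_def, mul_assoc]
    have h2 := eq_zero_of_sum_mul_eq_zero hfix U V s hs hsU β
      (fun k => ∑ j, algebraMap R A (g (j, k)) * (α j : A)) ha h1 jk.2
    have h3 : ∑ j, g (j, jk.2) • α j = 0 := by
      apply Subtype.ext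
      rw [AddSubmonoidClass.coe_finsetSum]
      refine Eq.trans (Finset.sum_congr rfl fun j _ => ?_) h2
      rw [Algebra.smul_def]
      rfl
    exact Fintype.linearIndependent_iff.mp α.linearIndependent _ h3 jk.1
  -- products lie in the span
  have hmul : ∀ a b : A, (∀ u ∈ U, u • a = a) → (∀ v ∈ V, v • b = b) →
      a * b ∈ Submodule.span R (Set.range e) := by
    intro a b ha hb
    have h1 : a = ∑ j, algebraMap R A (α.repr ⟨a, fun u => ha u u.2⟩ j) * (α j : A) := by
      have := congrArg Subtype.val (α.sum_repr ⟨a, fun u => ha u u.2⟩)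
      rw [AddSubmonoidClass.coe_finsetSum] at this
      refine this.symm.trans (Finset.sum_congr rfl fun j _ => ?_)
      rw [Algebra.smul_def]
      rfl
    have h2 : b = ∑ k, algebraMap R A (β.repr ⟨b, fun v => hb v v.2⟩ k) * (β k : A) := by
      have := congrArg Subtype.val (β.sum_repr ⟨b, fun v => hb v v.2⟩)
      rw [AddSubmonoidClass.coe_finsetSum] at this
      refine this.symm.trans (Finset.sum_congr rfl fun k _ => ?_)
      rw [Algebra.smul_def]
      rfl
    rw [h1, h2, Finset.sum_mul_sum]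
    refine Submodule.sum_mem _ fun j _ => Submodule.sum_mem _ fun k _ => ?_
    have h3 : algebraMap R A (α.repr ⟨a, fun u => ha u u.2⟩ j) * (α j : A) *
        (algebraMap R A (β.repr ⟨b, fun v => hb v v.2⟩ k) * (β k : A)) =
        (α.repr ⟨a, fun u => ha u u.2⟩ j * β.repr ⟨b, fun v => hb v v.2⟩ k) • e (j, k) := by
      rw [he_def, Algebra.smul_def, map_mul]
      ring
    rw [h3]
    exact Submodule.smul_mem _ _ (Submodule.subset_span ⟨(j, k), rfl⟩)
  -- the key step at a prime
  have key : ∀ P : Ideal A, P.IsPrime → (P.inertia H ≤ U ∨ P.inertia H ≤ V) →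
      ∃ r : R, algebraMap R A r ∉ P ∧ ∀ x : A, (∀ k ∈ U ⊓ V, k • x = x) →
        r • x ∈ Submodule.span R (Set.range e) := by
    intro P hP hPin
    rcases hPin with hPU | hPV
    · obtain ⟨f, hfinv, hfP, hf⟩ := exists_smul_eq_sum_mul R V U (sup_comm U V ▸ hUV) P
        (fun t => by rw [inertia_inv_smul_of_comm hcomm]; exact hPU)
      obtain ⟨r, hr⟩ := hfix f hfinv
      refine ⟨r, by rwa [hr], ?_⟩
      intro x hx
      obtain ⟨n, a, b, ha, hb, hab⟩ := hf x (fun k hk => hx k ⟨hk.2, hk.1⟩)
      rw [Algebra.smul_def, hr, hab]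
      refine Submodule.sum_mem _ fun i _ => ?_
      rw [mul_comm]
      exact hmul _ _ (hb i) (ha i)
    · obtain ⟨f, hfinv, hfP, hf⟩ := exists_smul_eq_sum_mul R U V hUV P
        (fun t => by rw [inertia_inv_smul_of_comm hcomm]; exact hPV)
      obtain ⟨r, hr⟩ := hfix f hfinv
      refine ⟨r, by rwa [hr], ?_⟩
      intro x hx
      obtain ⟨n, a, b, ha, hb, hab⟩ := hf x hx
      rw [Algebra.smul_def, hr, hab]
      exact Submodule.sum_mem _ fun i _ => hmul _ _ (ha i) (hb i)
  -- Hartogs
  have hmemS : ∀ x : A, x ∈ Subalgebra.toSubmodule (FixedPoints.subalgebra R A ↥(U ⊓ V)) →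
      ∀ k ∈ U ⊓ V, k • x = x := fun x hx k hk => hx ⟨k, hk⟩
  have h_le : Subalgebra.toSubmodule (FixedPoints.subalgebra R A ↥(U ⊓ V)) ≤
      Submodule.span R (Set.range e) := by
    obtain ⟨D, hD, hDS⟩ := key ⊥ Ideal.isPrime_bot (Or.inr (inertia_bot_le' V))
    refine Hartogs.le_span_of_forall_prime he _ D ?_ (fun x hx => hDS x (hmemS x hx)) ?_
    · intro h
      apply hD
      rw [h, map_zero]
      exact Ideal.zero_mem _
    · intro π hπ
      have hπprime : (Ideal.span {π}).IsPrime :=
        (Ideal.span_singleton_prime hπ.ne_zero).mpr hπ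
      obtain ⟨Q, hQ, hQπ⟩ := Ideal.exists_ideal_over_prime_of_isIntegral_of_isDomain (S := A)
        (Ideal.span {π}) (by
          rw [(RingHom.injective_iff_ker_eq_bot _).mp hinj]
          exact bot_le)
      have hπQ : algebraMap R A π ∈ Q := by
        have : π ∈ Q.comap (algebraMap R A) := by
          rw [hQπ]
          exact Ideal.mem_span_singleton_self π
        exact this
      have hle : Ideal.span {algebraMap R A π} ≤ Q := by
        rwa [Ideal.span_singleton_le_iff_mem]
      obtain ⟨P, hPmin, -⟩ := Ideal.exists_minimalPrimes_le hle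
      have hPprime : P.IsPrime := hPmin.1.1
      have hπP : algebraMap R A π ∈ P := hPmin.1.2 (Ideal.mem_span_singleton_self _)
      have hht : P.height = 1 := by
        apply le_antisymm (Ideal.height_le_one_of_isPrincipal_of_mem_minimalPrimes _ P hPmin)
        rw [Order.one_le_iff_ne_zero, Ne, Ideal.height_eq_zero_iff_eq_bot]
        intro hbot
        rw [hbot, Ideal.mem_bot] at hπP
        exact hπ.ne_zero (hinj (hπP.trans (map_zero _).symm))
      obtain ⟨r, hr, hrS⟩ := key P hPprime (hin P hPprime hht)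
      refine ⟨r, ?_, fun x hx => hrS x (hmemS x hx)⟩
      rintro ⟨c, rfl⟩
      apply hr
      rw [map_mul]
      exact Ideal.mul_mem_right _ _ hπP
  have h_span_le : Submodule.span R (Set.range e) ≤ Subalgebra.toSubmodule
      (FixedPoints.subalgebra R A U ⊔ FixedPoints.subalgebra R A V) := by
    rw [Submodule.span_le]
    rintro _ ⟨jk, rfl⟩
    rw [he_def]
    show _ ∈ (FixedPoints.subalgebra R A U ⊔ FixedPoints.subalgebra R A V)
    exact mul_mem ((le_sup_left : FixedPoints.subalgebra R A U ≤ _) (α jk.1).2)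
      ((le_sup_right : FixedPoints.subalgebra R A V ≤ _) (β jk.2).2)
  have h_sup_le : FixedPoints.subalgebra R A U ⊔ FixedPoints.subalgebra R A V ≤
      FixedPoints.subalgebra R A ↥(U ⊓ V) := by
    refine sup_le ?_ ?_
    · intro x hx k
      exact hx ⟨k, k.2.1⟩
    · intro x hx k
      exact hx ⟨k, k.2.2⟩
  refine ⟨le_antisymm (fun x hx => h_span_le (h_le hx)) h_sup_le, ?_⟩
  -- freeness
  have hemem : ∀ jk, e jk ∈ FixedPoints.subalgebra R A ↥(U ⊓ V) :=
    fun jk => h_sup_le (h_span_le (Submodule.subset_span ⟨jk, rfl⟩))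
  have hli : LinearIndependent R (fun jk => (⟨e jk, hemem jk⟩ : FixedPoints.subalgebra R A ↥(U ⊓ V))) :=
    LinearIndependent.of_comp (FixedPoints.subalgebra R A ↥(U ⊓ V)).val.toLinearMap he
  refine Module.Free.of_basis (Module.Basis.mk hli ?_)
  rintro ⟨x, hx⟩ -
  have h1 := h_le hx
  have h2 : Submodule.span R (Set.range e) = Submodule.map
      (FixedPoints.subalgebra R A ↥(U ⊓ V)).val.toLinearMap (Submodule.span R (Set.range
        (fun jk => (⟨e jk, hemem jk⟩ : FixedPoints.subalgebra R A ↥(U ⊓ V))))) := by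
    rw [Submodule.map_span, ← Set.range_comp]
    rfl
  rw [h2] at h1
  obtain ⟨y, hy, hyx⟩ := h1
  have : y = ⟨x, hx⟩ := Subtype.ext hyx
  rwa [← this]

end Main

end Groth.Agent.Lib.Seat73.TwoFactor
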