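import Mathlib
import Groth.Agent.S15790
import Groth.Agent.S15792
import Groth.Agent.S15801
import Groth.Agent.Lib.Helper19PsLiftComplete
import Groth.Agent.Lib.Helper5IntDim
import Groth.Agent.Lib.Seat78EakinNagata
import Groth.Agent.Lib.Seat73PurityFree

/-!
# Finiteness of a complete regular local ring over the invariants of a finite `p`-group

`A` complete regular local of characteristic `p`, `k → A` onto the residue field, `G` a finite
`p`-group acting by `k`-automorphisms.  Then `A` is finite over a power series subring
`k[[x_1, …, x_n]]` generated by invariant norms, hence finite over `A^G`, and `A^G` is Noetherian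
and local.
-/

set_option autoImplicit false
universe u v w

namespace Groth.Agent.Lib.Seat73.WildFin

open IsLocalRing

section general

variable {A : Type u} [CommRing A] {G : Type w} [Group G] [MulSemiringAction G A]

/-- the ring of invariants of a local ring is local -/
theorem isLocalRing_fixedPoints [IsLocalRing A] : IsLocalRing (FixedPoints.subring A G) := by
  have hunit : ∀ s : FixedPoints.subring A G, IsUnit (s : A) → IsUnit s := by
    intro s hs
    obtain ⟨e, he⟩ := hs.exists_right_inv
    have heinv : ∀ g : G, g • e = e := by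
      intro g
      have h1 : g • ((s : A) * e) = 1 := by rw [he, smul_one]
      rw [smul_mul', s.2 g] at h1
      calc g • e = ((s : A) * e) * g • e := by rw [he, one_mul]
        _ = e * ((s : A) * g • e) := by ring
        _ = e := by rw [h1, mul_one]
    exact IsUnit.of_mul_eq_one (⟨e, heinv⟩ : FixedPoints.subring A G) (Subtype.ext he)
  refine IsLocalRing.of_nonunits_add ?_
  intro a b ha hb
  have ha' : (a : A) ∈ nonunits A := fun h => ha (hunit a h)
  have hb' : (b : A) ∈ nonunits A := fun h => hb (hunit b h)
  intro hab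
  have : IsUnit ((a + b : FixedPoints.subring A G) : A) := hab.map (FixedPoints.subring A G).subtype
  exact IsLocalRing.nonunits_add ha' hb' this

theorem smul_sub_mem_maximalIdeal [IsLocalRing A] {k : Type v} [Field k] [Algebra k A]
    (hk : Function.Surjective (residue A ∘ algebraMap k A))
    (hGk : ∀ (σ : G) (c : k), σ • algebraMap k A c = algebraMap k A c) (σ : G) (a : A) :
    σ • a - a ∈ maximalIdeal A := by
  obtain ⟨r, hr⟩ := hk (residue A a)
  have hmem : a - algebraMap k A r ∈ maximalIdeal A := by
    rw [← residue_eq_zero_iff, map_sub, sub_eq_zero]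
    exact hr.symm
  have h1 := Groth.Agent.Lib.Seat73.PurityFree.smul_mem_maximalIdeal σ hmem
  have h2 : σ • a - a = σ • (a - algebraMap k A r) - (a - algebraMap k A r) := by
    rw [smul_sub, hGk]
    ring
  rw [h2]
  exact sub_mem h1 hmem

end general

variable (p : ℕ) [Fact p.Prime] (A : Type u) [CommRing A] [IsRegularLocalRing A] [CharP A p]
  [IsAdicComplete (maximalIdeal A) A]
  (k : Type v) [Field k] [Algebra k A]
  (hk : Function.Surjective (residue A ∘ algebraMap k A))
  (G : Type w) [Group G] [Fintype G] [MulSemiringAction G A] (hG : IsPGroup p G)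
  (hGk : ∀ (σ : G) (c : k), σ • algebraMap k A c = algebraMap k A c)

include hk hG hGk in
theorem exists_normParameters :
    ∃ (n : ℕ) (φ : MvPowerSeries (Fin n) k →ₐ[k] A) (d : ℕ) (b : Fin d → A),
      (ringKrullDim A = n) ∧
      (∀ (σ : G) (r : MvPowerSeries (Fin n) k), σ • φ r = φ r) ∧
      Function.Bijective (fun r : Fin d → MvPowerSeries (Fin n) k => ∑ i, φ (r i) * b i) := by
  have hres : ∀ (σ : G) (a : A), σ • a - a ∈ maximalIdeal A :=
    smul_sub_mem_maximalIdeal hk hGk
  obtain ⟨n, hn⟩ := Groth.Agent.Lib.Helper5.exists_nat_ringKrullDim_eq A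
  obtain ⟨u, hu⟩ := Groth.Agent.S15792.result p A G hG hres n hn
  have hu1 : Ideal.span (Set.range u) = maximalIdeal A := by
    have := hu (fun _ => 1)
    simpa using this
  obtain ⟨x, hxdef⟩ : ∃ x : Fin n → A, x = fun i => ∏ σ : G, σ • u i := ⟨_, rfl⟩
  have hxm : ∀ i, x i ∈ maximalIdeal A := by
    intro i
    rw [hxdef]
    have hdvd : u i ∣ ∏ σ : G, σ • u i := by
      have := Finset.dvd_prod_of_mem (fun τ : G => τ • u i) (Finset.mem_univ (1 : G))
      simpa using this
    obtain ⟨c, hc⟩ := hdvd
    change (∏ σ : G, σ • u i) ∈ _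
    rw [hc]
    apply Ideal.mul_mem_right
    rw [← hu1]
    exact Ideal.subset_span ⟨i, rfl⟩
  have hxinv : ∀ (σ : G) (i : Fin n), σ • x i = x i := by
    intro σ i
    rw [hxdef]
    exact Groth.Agent.Lib.Seat73.GalId.smul_prod_smul σ (u i)
  have hx : (Ideal.span (Set.range x)).radical = maximalIdeal A := by
    apply le_antisymm
    · have h1 : Ideal.span (Set.range x) ≤ maximalIdeal A := by
        rw [Ideal.span_le]
        rintro _ ⟨i, rfl⟩
        exact hxm i
      calc (Ideal.span (Set.range x)).radical ≤ (maximalIdeal A).radical := Ideal.radical_mono h1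
        _ = maximalIdeal A := (Ideal.IsMaximal.isPrime' _).radical
    · rw [hxdef]
      refine (Groth.Agent.S15790.result A G n u hu1).mpr fun τ => ?_
      rw [hu τ]
      exact Ideal.le_radical
  obtain ⟨φ, hφ⟩ := Groth.Agent.Lib.Helper19.exists_algHom_X_eq_of_isAdicComplete (Λ := k)
    (maximalIdeal A) x hxm
  obtain ⟨d, b, -, hb⟩ := Groth.Agent.S15801.result A n hn k hk x hx φ hφ
  refine ⟨n, φ, d, b, hn, ?_, hb⟩
  intro σ r
  let σa : A →ₐ[k] A :=
    { (MulSemiringAction.toRingHom G A σ) with
      commutes' := fun c => hGk σ c }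
  have hcomp : σa.comp φ = φ := by
    apply Groth.Agent.Lib.Helper19.algHom_ext_of_X_of_isHausdorff (maximalIdeal A)
    · intro s
      rw [AlgHom.comp_apply, hφ]
      change σ • x s ∈ _
      rw [hxinv]
      exact hxm s
    · intro s
      rw [AlgHom.comp_apply, hφ]
      exact hxinv σ s
  exact AlgHom.congr_fun hcomp r

include hk hG hGk in
theorem finite_fixedPoints : Module.Finite (FixedPoints.subring A G) A := by
  obtain ⟨n, φ, d, b, -, hinv, hb⟩ := exists_normParameters p A k hk G hG hGk
  refine Module.Finite.of_surjective (Fintype.linearCombination (FixedPoints.subring A G) b) ?_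
  intro a
  obtain ⟨r, hr⟩ := hb.2 a
  refine ⟨fun i => ⟨φ (r i), fun σ => hinv σ (r i)⟩, ?_⟩
  rw [Fintype.linearCombination_apply, ← hr]
  rfl

include hk hG hGk in
theorem isNoetherianRing_fixedPoints : IsNoetherianRing (FixedPoints.subring A G) := by
  have := finite_fixedPoints p A k hk G hG hGk
  have : FaithfulSMul (FixedPoints.subring A G) A :=
    (faithfulSMul_iff_algebraMap_injective _ _).mpr Subtype.val_injective
  exact Groth.Agent.Lib.Seat78.EakinNagata.isNoetherianRing_of_finite A

end Groth.Agent.Lib.Seat73.WildFin
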