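import Groth.Agent.S16572
import Groth.Agent.Lib.Helper20EtaPtSN

/-!
# Affine covers with algebraically closed residue fields (helper74)

Scheme-level glue around the prior ring-level statement `S16572` (adjoining a root of every monic
polynomial makes all residue fields algebraically closed and algebraic over those of the base).
-/

universe u

namespace Groth.Agent.Lib.Seat74.AlgClosedCover

open AlgebraicGeometry CategoryTheory Limits
open Groth.Agent.Lib.Helper20.EtaPt

/-- All residue fields of the source are algebraically closed and algebraic over the residue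
fields of the target. -/
def ACR {X' X : Scheme.{u}} (f : X' ⟶ X) : Prop :=
  ∀ x' : X', IsAlgClosed (X'.residueField x') ∧ (f.residueFieldMap x').hom.IsIntegral

theorem isIntegral_hom_of_isIso {R S : CommRingCat.{u}} (e : R ⟶ S) [IsIso e] :
    e.hom.IsIntegral :=
  RingHom.isIntegral_of_surjective _ (ConcreteCategory.bijective_of_isIso e).2

theorem isIntegral_iso_hom {R S : CommRingCat.{u}} (e : R ≅ S) : e.hom.hom.IsIntegral :=
  isIntegral_hom_of_isIso e.hom

theorem isIntegral_iso_inv {R S : CommRingCat.{u}} (e : R ≅ S) : e.inv.hom.IsIntegral :=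
  isIntegral_hom_of_isIso e.inv

theorem isIntegral_hom_comp {R S T : CommRingCat.{u}} (a : R ⟶ S) (b : S ⟶ T)
    (ha : a.hom.IsIntegral) (hb : b.hom.IsIntegral) : (a ≫ b).hom.IsIntegral := by
  rw [CommRingCat.hom_comp]
  exact RingHom.IsIntegral.trans _ _ ha hb

theorem acr_comp {X' Y X : Scheme.{u}} (h : X' ⟶ Y) (j : Y ⟶ X) (hh : ACR h)
    (hj : ∀ y : Y, IsIso (j.residueFieldMap y)) : ACR (h ≫ j) := by
  intro x'
  refine ⟨(hh x').1, ?_⟩
  have e := Scheme.residueFieldMap_comp h j x'
  have := hj (h x')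
  have key := isIntegral_hom_comp (j.residueFieldMap (h x')) (h.residueFieldMap x')
    (isIntegral_hom_of_isIso _) (hh x').2
  exact e ▸ key

theorem acr_SpecMap (A : Type u) [CommRing A] :
    ACR (Spec.map (CommRingCat.ofHom (algebraMap A (Groth.Agent.S16572.TT A)))) := by
  intro y
  have hy : (y : PrimeSpectrum (Groth.Agent.S16572.TT A)).asIdeal.IsPrime := y.isPrime
  obtain ⟨h1, h2⟩ := (Groth.Agent.S16572.result A).2
    (y : PrimeSpectrum (Groth.Agent.S16572.TT A)).asIdeal
  constructor
  · exact IsAlgClosed.of_ringEquiv _ _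
      ((Scheme.Spec.residueFieldIso (CommRingCat.of (Groth.Agent.S16572.TT A)) y).symm
        |>.commRingCatIsoToRingEquiv)
  · have key := residueFieldMap_Spec (CommRingCat.ofHom (algebraMap A (Groth.Agent.S16572.TT A))) y
    have e := (Iso.inv_comp_eq _).mp key
    rw [e]
    refine isIntegral_hom_comp _ _ (isIntegral_iso_hom _)
      (isIntegral_hom_comp _ _ ?_ (isIntegral_iso_inv _))
    exact h2

theorem acr_of_comp_isOpenImmersion {Y' X' X : Scheme.{u}} (ι : Y' ⟶ X') [IsOpenImmersion ι]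
    (f : X' ⟶ X) (h : ACR (ι ≫ f)) (y' : Y') :
    IsAlgClosed (X'.residueField (ι y')) ∧ (f.residueFieldMap (ι y')).hom.IsIntegral := by
  obtain ⟨h1, h2⟩ := h y'
  constructor
  · exact IsAlgClosed.of_ringEquiv _ _
      ((asIso (ι.residueFieldMap y')).symm.commRingCatIsoToRingEquiv)
  · have e := Scheme.residueFieldMap_comp ι f y'
    have h2' : (f.residueFieldMap (ι y') ≫ ι.residueFieldMap y').hom.IsIntegral := e ▸ h2
    rw [CommRingCat.hom_comp] at h2'
    exact RingHom.IsIntegral.tower_bot _ _ (ι.residueFieldMap y').hom.injective h2'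

theorem acr_sigmaDesc {σ : Type u} (g : σ → Scheme.{u}) {X : Scheme.{u}} (φ : ∀ i, g i ⟶ X)
    (h : ∀ i, ACR (φ i)) : ACR (Sigma.desc φ) := by
  intro x'
  obtain ⟨(i : σ), (y' : g i), rfl⟩ := (sigmaOpenCover g).exists_eq x'
  have hi : ACR (Sigma.ι g i ≫ Sigma.desc φ) := (Sigma.ι_desc φ i).symm ▸ h i
  exact acr_of_comp_isOpenImmersion (Sigma.ι g i) (Sigma.desc φ) hi y'

/-- Affine case. -/
theorem exists_affine (Y : Scheme.{u}) [IsAffine Y] :
    ∃ (Y' : Scheme.{u}) (h : Y' ⟶ Y), IsAffine Y' ∧ Surjective h ∧ ACR h := by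
  refine ⟨Spec (CommRingCat.of (Groth.Agent.S16572.TT Γ(Y, ⊤))),
    Spec.map (CommRingCat.ofHom (algebraMap Γ(Y, ⊤) (Groth.Agent.S16572.TT Γ(Y, ⊤)))) ≫
      Y.isoSpec.inv, inferInstance, ?_, ?_⟩
  · have h1 : Surjective (Spec.map (CommRingCat.ofHom
        (algebraMap Γ(Y, ⊤) (Groth.Agent.S16572.TT Γ(Y, ⊤))))) :=
      ⟨(Groth.Agent.S16572.result Γ(Y, ⊤)).1⟩
    infer_instance
  · exact acr_comp _ _ (acr_SpecMap Γ(Y, ⊤)) (fun _ => inferInstance)

/-- Every quasi-compact quasi-separated scheme receives a quasi-compact surjective morphism from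
an affine scheme all of whose residue fields are algebraically closed and algebraic over the
residue fields of the target. -/
theorem exists_affine_cover (X : Scheme.{u}) [CompactSpace X] [QuasiSeparatedSpace X] :
    ∃ (X' : Scheme.{u}) (f : X' ⟶ X), IsAffine X' ∧ QuasiCompact f ∧ Surjective f ∧ ACR f := by
  let 𝒰 := X.affineCover.finiteSubcover
  have haff : ∀ i, IsAffine (𝒰.X i) := fun i => by
    dsimp only [𝒰, Scheme.OpenCover.finiteSubcover_X]; infer_instance
  choose Y' h hY' hsurj hacr using fun i => exists_affine (𝒰.X i)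
  have : ∀ i, IsAffine (Y' i) := hY'
  refine ⟨∐ Y', Sigma.desc (fun i => h i ≫ 𝒰.f i), inferInstance, inferInstance, ?_, ?_⟩
  · constructor
    intro x
    obtain ⟨i, y, rfl⟩ := 𝒰.exists_eq x
    obtain ⟨y', rfl⟩ := (hsurj i).surj y
    refine ⟨Sigma.ι Y' i y', ?_⟩
    rw [← Scheme.Hom.comp_apply, Sigma.ι_desc]
    rfl
  · exact acr_sigmaDesc Y' _ (fun i => acr_comp _ _ (hacr i) (fun _ => inferInstance))

end Groth.Agent.Lib.Seat74.AlgClosedCover
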