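import Groth.Agent.Lib.Helper28Unmixed

/-!
# Seat 74: a quotient of a Cohen–Macaulay local ring by a regular sequence has no embedded
maximal ideal: if the maximal ideal is associated, the quotient has dimension zero.
-/

set_option autoImplicit false
universe u

namespace Groth.Agent.Lib.Seat74.CMQuot

open RingTheory.Sequence Groth.Agent.Lib.Helper28

theorem ringKrullDim_eq_zero_of_regular_ker {R T : Type u} [CommRing R] [CommRing T]
    [hR : LocCoh.IsCohenMacaulayLocalRing R] [IsLocalRing T]
    (φ : R →+* T) (hφ : Function.Surjective φ) (rs : List R) (hreg : IsRegular R rs)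
    (hker : RingHom.ker φ = Ideal.ofList rs)
    (hz : IsAssociatedPrime (IsLocalRing.maximalIdeal T) T) : ringKrullDim T = 0 := by
  have hNT : IsNoetherianRing T := isNoetherianRing_of_surjective R T φ hφ
  have hne : Ideal.ofList rs ≠ ⊤ := by
    rw [← hker]
    exact RingHom.ker_ne_top φ
  have hle : Ideal.ofList rs ≤ IsLocalRing.maximalIdeal R := IsLocalRing.le_maximalIdeal hne
  have hmem : ∀ r ∈ rs, r ∈ IsLocalRing.maximalIdeal R := fun r hr =>
    hle (Ideal.subset_span hr)
  have hCM : LocCoh.IsCohenMacaulayModule R R := hR.supportDim_eq_depth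
  have hQ := isCohenMacaulayModule_quot_ofList hCM rs hmem hreg.toIsWeaklyRegular
  -- the maximal ideal is associated to the quotient module
  have hloc : IsLocalHom φ := IsLocalHom.of_surjective φ hφ
  have hcomap : (IsLocalRing.maximalIdeal T).comap φ = IsLocalRing.maximalIdeal R :=
    ((IsLocalRing.local_hom_TFAE φ).out 0 4).mp hloc
  obtain ⟨-, t, ht⟩ := (Submodule.isAssociatedPrime_iff (N := (⊥ : Submodule T T))).mp hz
  obtain ⟨r, rfl⟩ := hφ t
  have hass : IsLocalRing.maximalIdeal R ∈
      associatedPrimes R (R ⧸ (Ideal.ofList rs • ⊤ : Submodule R R)) := by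
    refine ⟨inferInstance, Submodule.Quotient.mk r, ?_⟩
    have hcol : IsLocalRing.maximalIdeal R =
        (⊥ : Submodule R (R ⧸ (Ideal.ofList rs • ⊤ : Submodule R R))).colon
          {Submodule.Quotient.mk r} := by
      ext a
      rw [Submodule.mem_colon_singleton, Submodule.mem_bot, ← Submodule.Quotient.mk_smul,
        Submodule.Quotient.mk_eq_zero, smul_eq_mul, smul_eq_mul, Ideal.mul_top, ← hker,
        RingHom.mem_ker, map_mul, ← hcomap, Ideal.mem_comap, ht, Submodule.mem_colon_singleton,
        Submodule.mem_bot, smul_eq_mul]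
    rw [← hcol]
    exact (Ideal.IsPrime.radical inferInstance).symm
  have hd0 : LocCoh.depth R (R ⧸ (Ideal.ofList rs • ⊤ : Submodule R R)) = 0 :=
    depth_eq_zero_iff.mpr hass
  unfold LocCoh.IsCohenMacaulayModule at hQ
  rw [hd0] at hQ
  have e : (R ⧸ (Ideal.ofList rs • ⊤ : Submodule R R)) ≃ₗ[R] (R ⧸ Ideal.ofList rs) :=
    Submodule.quotEquivOfEq _ _ (by rw [smul_eq_mul, Ideal.mul_top])
  rw [Module.supportDim_eq_of_equiv e, Module.supportDim_quotient_eq_ringKrullDim, ← hker] at hQ
  rw [← ringKrullDim_eq_of_ringEquiv (RingHom.quotientKerEquivOfSurjective hφ), hQ]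
  rfl

end Groth.Agent.Lib.Seat74.CMQuot
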