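import Mathlib

/-!
# Seat 74: tensoring a mapping cone with a complex

For a morphism `φ : K ⟶ K'` of cochain complexes of `A`-modules and a complex `L`, the
complex `mappingCone φ ⊗ L` is isomorphic to `mappingCone (φ ▷ L)`.
-/

set_option autoImplicit false
universe u
open CategoryTheory CategoryTheory.Limits CochainComplex HomComplex MonoidalCategory
  HomologicalComplex

namespace Groth.Agent.Lib.Seat74.ConeTensor

variable {A : Type u} [CommRing A]

section

variable {K K' : CochainComplex (ModuleCat.{u} A) ℤ} (φ : K ⟶ K')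
  (L : CochainComplex (ModuleCat.{u} A) ℤ)

/-- The component of the comparison map on a summand. -/
noncomputable def αSummand (p q n : ℤ) (h : p + q = n) :
    (mappingCone φ).X p ⊗ L.X q ⟶ (mappingCone (φ ▷ L)).X n :=
  ((mappingCone.fst φ).1.v p (p + 1) rfl ▷ L.X q) ≫ ιTensorObj K L (p + 1) q (n + 1) (by omega) ≫
      (mappingCone.inl (φ ▷ L)).v (n + 1) n (by omega) +
    ((mappingCone.snd φ).v p p (add_zero p) ▷ L.X q) ≫ ιTensorObj K' L p q n h ≫
      (mappingCone.inr (φ ▷ L)).f n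

lemma αSummand_eq (p p' q n n' : ℤ) (hp : p + 1 = p') (hn : n + 1 = n') (h : p + q = n) :
    αSummand φ L p q n h =
      ((mappingCone.fst φ).1.v p p' hp ▷ L.X q) ≫ ιTensorObj K L p' q n' (by omega) ≫
          (mappingCone.inl (φ ▷ L)).v n' n (by omega) +
        ((mappingCone.snd φ).v p p (add_zero p) ▷ L.X q) ≫ ιTensorObj K' L p q n h ≫
          (mappingCone.inr (φ ▷ L)).f n := by
  subst hp hn
  rfl

/-- The comparison map in degree `n`. -/
noncomputable def α (n : ℤ) : (mappingCone φ ⊗ L).X n ⟶ (mappingCone (φ ▷ L)).X n :=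
  mapBifunctorDesc (fun p q h => αSummand φ L p q n h)

@[reassoc (attr := simp)]
lemma ι_α (p q n : ℤ) (h : p + q = n) :
    ιTensorObj (mappingCone φ) L p q n h ≫ α φ L n = αSummand φ L p q n h := by
  simp [α]

/-- First part of the inverse comparison map. -/
noncomputable def β₁ (n n' : ℤ) (hn : n + 1 = n') : (K ⊗ L).X n' ⟶ (mappingCone φ ⊗ L).X n :=
  mapBifunctorDesc (K₁ := K) (K₂ := L) (F := curriedTensor (ModuleCat.{u} A))
    (c := ComplexShape.up ℤ) (j := n') (fun p q h =>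
      ((mappingCone.inl φ).v p (p - 1) (by omega) ▷ L.X q) ≫
        ιTensorObj (mappingCone φ) L (p - 1) q n (by
          have : p + q = n' := h
          omega))

@[reassoc]
lemma ι_β₁ (p p₀ q n n' : ℤ) (hp : p₀ + 1 = p) (hn : n + 1 = n') (h : p + q = n') :
    ιTensorObj K L p q n' h ≫ β₁ φ L n n' hn =
      ((mappingCone.inl φ).v p p₀ (by omega) ▷ L.X q) ≫
        ιTensorObj (mappingCone φ) L p₀ q n (by omega) := by
  obtain rfl : p₀ = p - 1 := by omega
  simp [β₁]

/-- Second part of the inverse comparison map. -/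
noncomputable def β₂ (n : ℤ) : (K' ⊗ L).X n ⟶ (mappingCone φ ⊗ L).X n :=
  mapBifunctorDesc (K₁ := K') (K₂ := L) (F := curriedTensor (ModuleCat.{u} A))
    (c := ComplexShape.up ℤ) (j := n) (fun p q h =>
      ((mappingCone.inr φ).f p ▷ L.X q) ≫ ιTensorObj (mappingCone φ) L p q n h)

@[reassoc (attr := simp)]
lemma ι_β₂ (p q n : ℤ) (h : p + q = n) :
    ιTensorObj K' L p q n h ≫ β₂ φ L n =
      ((mappingCone.inr φ).f p ▷ L.X q) ≫ ιTensorObj (mappingCone φ) L p q n h := by
  simp [β₂]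

/-- The inverse comparison map in degree `n`. -/
noncomputable def β (n : ℤ) : (mappingCone (φ ▷ L)).X n ⟶ (mappingCone φ ⊗ L).X n :=
  (mappingCone.fst (φ ▷ L)).1.v n (n + 1) rfl ≫ β₁ φ L n (n + 1) rfl +
    (mappingCone.snd (φ ▷ L)).v n n (add_zero n) ≫ β₂ φ L n

@[reassoc]
lemma inl_β (n n' : ℤ) (hn : n + 1 = n') :
    (mappingCone.inl (φ ▷ L)).v n' n (by omega) ≫ β φ L n = β₁ φ L n n' hn := by
  subst hn
  simp [β]

@[reassoc (attr := simp)]
lemma inr_β (n : ℤ) :
    (mappingCone.inr (φ ▷ L)).f n ≫ β φ L n = β₂ φ L n := by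
  simp [β]

lemma α_β (n : ℤ) : α φ L n ≫ β φ L n = 𝟙 _ := by
  apply mapBifunctor.hom_ext
  intro p q h
  have h' : p + q = n := h
  change ιTensorObj (mappingCone φ) L p q n h' ≫ α φ L n ≫ β φ L n =
    ιTensorObj (mappingCone φ) L p q n h' ≫ 𝟙 _
  rw [ι_α_assoc, αSummand_eq φ L p (p + 1) q n (n + 1) rfl rfl h']
  simp only [Preadditive.add_comp, Category.assoc, inl_β φ L n (n + 1) rfl, inr_β,
    ι_β₁ φ L (p + 1) p q n (n + 1) rfl rfl (by omega), ι_β₂, Category.comp_id]
  rw [← comp_whiskerRight_assoc, ← comp_whiskerRight_assoc, ← Preadditive.add_comp,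
    ← MonoidalPreadditive.add_whiskerRight, mappingCone.id_X, id_whiskerRight, Category.id_comp]

lemma β_α (n : ℤ) : β φ L n ≫ α φ L n = 𝟙 _ := by
  apply mappingCone.ext_from _ (n + 1) n rfl
  · rw [inl_β_assoc φ L n (n + 1) rfl, Category.comp_id]
    apply mapBifunctor.hom_ext
    intro p q h
    have h' : p + q = n + 1 := h
    change ιTensorObj K L p q (n + 1) h' ≫ β₁ φ L n (n + 1) rfl ≫ α φ L n =
      ιTensorObj K L p q (n + 1) h' ≫ (mappingCone.inl (φ ▷ L)).v (n + 1) n (by omega)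
    rw [ι_β₁_assoc φ L p (p - 1) q n (n + 1) (by omega) rfl h', ι_α,
      αSummand_eq φ L (p - 1) p q n (n + 1) (by omega) rfl (by omega)]
    simp only [Preadditive.comp_add]
    rw [← comp_whiskerRight_assoc, ← comp_whiskerRight_assoc, mappingCone.inl_v_fst_v,
      mappingCone.inl_v_snd_v]
    simp
  · rw [inr_β_assoc, Category.comp_id]
    apply mapBifunctor.hom_ext
    intro p q h
    have h' : p + q = n := h
    change ιTensorObj K' L p q n h' ≫ β₂ φ L n ≫ α φ L n =
      ιTensorObj K' L p q n h' ≫ (mappingCone.inr (φ ▷ L)).f n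
    rw [ι_β₂_assoc, ι_α, αSummand_eq φ L p (p + 1) q n (n + 1) rfl rfl h']
    simp only [Preadditive.comp_add]
    rw [← comp_whiskerRight_assoc, ← comp_whiskerRight_assoc, mappingCone.inr_f_fst_v,
      mappingCone.inr_f_snd_v]
    simp

end

lemma neg_whiskerRight' {X Y : ModuleCat.{u} A} (f : X ⟶ Y) (Z : ModuleCat.{u} A) :
    (-f) ▷ Z = -(f ▷ Z) :=
  (tensorRight Z).map_neg (f := f)

/-- The differential of a tensor product of complexes on a summand. -/
@[reassoc]
lemma ι_tensor_d (K L : CochainComplex (ModuleCat.{u} A) ℤ) (p q n : ℤ) (h : p + q = n) :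
    ιTensorObj K L p q n h ≫ (K ⊗ L).d n (n + 1) =
      (K.d p (p + 1) ▷ L.X q) ≫ ιTensorObj K L (p + 1) q (n + 1) (by omega) +
        p.negOnePow • (K.X p ◁ L.d q (q + 1)) ≫ ιTensorObj K L p (q + 1) (n + 1) (by omega) := by
  change ιTensorObj K L p q n h ≫
    (mapBifunctor K L (curriedTensor _) (ComplexShape.up ℤ)).d n (n + 1) = _
  rw [mapBifunctor.d_eq, Preadditive.comp_add, mapBifunctor.ι_D₁, mapBifunctor.ι_D₂,
    mapBifunctor.d₁_eq _ _ _ _ (show (ComplexShape.up ℤ).Rel p (p + 1) from rfl) q (n + 1)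
      (by simp; omega),
    mapBifunctor.d₂_eq _ _ _ _ p (show (ComplexShape.up ℤ).Rel q (q + 1) from rfl) (n + 1)
      (by simp; omega)]
  simp

/-- A whiskered morphism of complexes on a summand. -/
@[reassoc]
lemma ι_whiskerRight_f {K K' : CochainComplex (ModuleCat.{u} A) ℤ} (φ : K ⟶ K')
    (L : CochainComplex (ModuleCat.{u} A) ℤ) (p q n : ℤ) (h : p + q = n) :
    ιTensorObj K L p q n h ≫ (φ ▷ L).f n = (φ.f p ▷ L.X q) ≫ ιTensorObj K' L p q n h := by
  change ιTensorObj K L p q n h ≫ (mapBifunctorMap φ (𝟙 L) _ _).f n = _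
  rw [ι_mapBifunctorMap]
  simp

section

variable {K K' : CochainComplex (ModuleCat.{u} A) ℤ} (φ : K ⟶ K')
  (L : CochainComplex (ModuleCat.{u} A) ℤ)

lemma α_comm (n n' : ℤ) (hn : n + 1 = n') :
    α φ L n ≫ (mappingCone (φ ▷ L)).d n n' = (mappingCone φ ⊗ L).d n n' ≫ α φ L n' := by
  subst hn
  apply mapBifunctor.hom_ext
  intro p q h
  have h' : p + q = n := h
  change ιTensorObj (mappingCone φ) L p q n h' ≫ α φ L n ≫ (mappingCone (φ ▷ L)).d n (n + 1) =
    ιTensorObj (mappingCone φ) L p q n h' ≫ (mappingCone φ ⊗ L).d n (n + 1) ≫ α φ L (n + 1)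
  rw [ι_α_assoc, ι_tensor_d_assoc]
  simp only [Preadditive.add_comp, Category.assoc, Linear.units_smul_comp, ι_α]
  simp only [αSummand, Preadditive.add_comp, Preadditive.comp_add, Category.assoc,
    mappingCone.inl_v_d (φ ▷ L) (n + 1) n (n + 1 + 1) (by omega) (by omega),
    mappingCone.inr_f_d, Preadditive.comp_sub, ι_whiskerRight_f_assoc, ι_tensor_d_assoc,
    Preadditive.add_comp, Linear.units_smul_comp, Linear.comp_units_smul]
  rw [← comp_whiskerRight_assoc ((mappingCone φ).d p (p + 1))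
      ((mappingCone.fst φ).1.v (p + 1) (p + 1 + 1) rfl),
    mappingCone.d_fst_v φ p (p + 1) (p + 1 + 1) rfl rfl,
    ← comp_whiskerRight_assoc ((mappingCone φ).d p (p + 1))
      ((mappingCone.snd φ).v (p + 1) (p + 1) (add_zero _)),
    mappingCone.d_snd_v φ p (p + 1) rfl]
  simp only [whisker_exchange_assoc, Int.negOnePow_succ, MonoidalPreadditive.add_whiskerRight,
    neg_whiskerRight', comp_whiskerRight, Preadditive.add_comp,
    Preadditive.neg_comp, Category.assoc, Units.neg_smul, smul_add]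
  abel

/-- Tensoring a mapping cone with a complex: `mappingCone φ ⊗ L ≅ mappingCone (φ ▷ L)`. -/
noncomputable def coneTensorIso : mappingCone φ ⊗ L ≅ mappingCone (φ ▷ L) :=
  HomologicalComplex.Hom.isoOfComponents
    (fun n => ⟨α φ L n, β φ L n, α_β φ L n, β_α φ L n⟩)
    (fun n n' h => α_comm φ L n n' h)

end

/-- Whiskering a scalar multiple of the identity. -/
lemma smul_id_whiskerRight (K L : CochainComplex (ModuleCat.{u} A) ℤ) (x : A) :
    (x • 𝟙 K) ▷ L = x • 𝟙 (K ⊗ L) := by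
  ext n : 1
  apply mapBifunctor.hom_ext
  intro p q h
  have h' : p + q = n := h
  change ιTensorObj K L p q n h' ≫ ((x • 𝟙 K) ▷ L).f n = ιTensorObj K L p q n h' ≫ (x • 𝟙 (K ⊗ L)).f n
  rw [ι_whiskerRight_f]
  simp only [smul_f_apply, id_f, MonoidalLinear.smul_whiskerRight, id_whiskerRight,
    Linear.smul_comp, Linear.comp_smul, Category.id_comp]
  congr 1

/-- Isomorphic complexes have isomorphic cones of scalar multiplications. -/
noncomputable def coneSmulIso {K L : CochainComplex (ModuleCat.{u} A) ℤ} (e : K ≅ L) (x : A) :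
    mappingCone (x • 𝟙 K) ≅ mappingCone (x • 𝟙 L) where
  hom := mappingCone.map _ _ e.hom e.hom (by simp)
  inv := mappingCone.map _ _ e.inv e.inv (by simp)
  hom_inv_id := by
    rw [← mappingCone.map_comp]
    simp [mappingCone.map_id]
  inv_hom_id := by
    rw [← mappingCone.map_comp]
    simp [mappingCone.map_id]

/-- `cone (x on K) ⊗ L ≅ cone (x on K ⊗ L)`. -/
noncomputable def coneSmulTensorIso (K L : CochainComplex (ModuleCat.{u} A) ℤ) (x : A) :
    mappingCone (x • 𝟙 K) ⊗ L ≅ mappingCone (x • 𝟙 (K ⊗ L)) :=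
  coneTensorIso (x • 𝟙 K) L ≪≫ eqToIso (by rw [smul_id_whiskerRight])

end Groth.Agent.Lib.Seat74.ConeTensor
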