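import Mathlib
import Groth.Prelude.Def_W4c3severiratdpLat

/-!
# Seat 74: elements of the Weyl group of the del Pezzo lattice `DP δ`

Reflections in roots, coordinate permutations, closure properties of `IsWeyl`,
and a sorting lemma.
-/

set_option autoImplicit false

namespace Groth.Agent.Lib.Seat74.DPWeyl

open W4c3severiratdp

variable {δ : ℕ}

/-! ### The form -/

theorem form_add_left (u v w : DP δ) : form (u + v) w = form u w + form v w := by
  simp only [form, Pi.add_apply, add_mul, Finset.sum_add_distrib]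
  ring

theorem form_add_right (u v w : DP δ) : form u (v + w) = form u v + form u w := by
  simp only [form, Pi.add_apply, mul_add, Finset.sum_add_distrib]
  ring

theorem form_smul_left (c : ℤ) (v w : DP δ) : form (c • v) w = c * form v w := by
  simp only [form, Pi.smul_apply, smul_eq_mul, mul_sub, Finset.mul_sum, mul_assoc]

theorem form_smul_right (c : ℤ) (v w : DP δ) : form v (c • w) = c * form v w := by
  simp only [form, Pi.smul_apply, smul_eq_mul, mul_sub, Finset.mul_sum]
  congr 1
  · ring
  · exact Finset.sum_congr rfl fun i _ => by ring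

theorem form_comm (v w : DP δ) : form v w = form w v := by
  simp only [form]
  congr 1
  · ring
  · exact Finset.sum_congr rfl fun i _ => by ring

/-- The form through the full coordinate sum. -/
theorem form_eq_full (v w : DP δ) :
    form v w = 2 * (v 0 * w 0) - ∑ k : Fin (δ + 1), v k * w k := by
  rw [form, Fin.sum_univ_succ]
  ring

/-! ### Closure properties of `IsWeyl` -/

theorem isWeyl_refl : IsWeyl (LinearEquiv.refl ℤ (DP δ)) :=
  ⟨fun _ _ => rfl, rfl⟩

theorem isWeyl_trans {g h : DP δ ≃ₗ[ℤ] DP δ} (hg : IsWeyl g) (hh : IsWeyl h) :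
    IsWeyl (g.trans h) := by
  refine ⟨fun v w => ?_, ?_⟩
  · simp only [LinearEquiv.trans_apply]
    rw [hh.1, hg.1]
  · simp only [LinearEquiv.trans_apply]
    rw [hg.2, hh.2]

theorem isWeyl_symm {g : DP δ ≃ₗ[ℤ] DP δ} (hg : IsWeyl g) : IsWeyl g.symm := by
  refine ⟨fun v w => ?_, ?_⟩
  · have := hg.1 (g.symm v) (g.symm w)
    simpa using this.symm
  · rw [LinearEquiv.symm_apply_eq]
    exact hg.2.symm

theorem isWeyl_form_canon {g : DP δ ≃ₗ[ℤ] DP δ} (hg : IsWeyl g) (v : DP δ) :
    form (canon δ) (g v) = form (canon δ) v := by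
  have := hg.1 (canon δ) v
  rw [hg.2] at this
  exact this

theorem isWeyl_isConic_iff {g : DP δ ≃ₗ[ℤ] DP δ} (hg : IsWeyl g) (v : DP δ) :
    IsConic (g v) ↔ IsConic v := by
  unfold IsConic
  rw [hg.1, isWeyl_form_canon hg]

theorem isWeyl_isExc_iff {g : DP δ ≃ₗ[ℤ] DP δ} (hg : IsWeyl g) (v : DP δ) :
    IsExc (g v) ↔ IsExc v := by
  unfold IsExc
  rw [hg.1, isWeyl_form_canon hg]

/-! ### Reflections -/

/-- The reflection `v ↦ v + (v·r) r` as a linear map. -/
def reflLM (r : DP δ) : DP δ →ₗ[ℤ] DP δ where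
  toFun v := v + form v r • r
  map_add' u v := by
    rw [form_add_left, add_smul]
    abel
  map_smul' c v := by
    rw [form_smul_left, RingHom.id_apply, smul_add, smul_smul]

theorem reflLM_apply (r v : DP δ) : reflLM r v = v + form v r • r := rfl

theorem reflLM_involutive (r : DP δ) (hr : form r r = -2) :
    Function.Involutive (reflLM r) := by
  intro v
  rw [reflLM_apply, reflLM_apply, form_add_left, form_smul_left, hr, add_assoc, ← add_smul]
  have : form v r + (form v r + form v r * -2) = 0 := by ring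
  rw [this, zero_smul, add_zero]

/-- The reflection in a root `r` (`r·r = -2`). -/
def reflLE (r : DP δ) (hr : form r r = -2) : DP δ ≃ₗ[ℤ] DP δ :=
  LinearEquiv.ofInvolutive (reflLM r) (reflLM_involutive r hr)

theorem reflLE_apply (r : DP δ) (hr : form r r = -2) (v : DP δ) :
    reflLE r hr v = v + form v r • r := rfl

theorem isWeyl_reflLE (r : DP δ) (hr : form r r = -2) (hK : form (canon δ) r = 0) :
    IsWeyl (reflLE r hr) := by
  refine ⟨fun v w => ?_, ?_⟩
  · rw [reflLE_apply, reflLE_apply, form_add_left, form_add_right, form_add_right,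
      form_smul_left, form_smul_left, form_smul_right, form_smul_right, hr, form_comm r w]
    ring
  · rw [reflLE_apply, hK, zero_smul, add_zero]

/-! ### Coordinate permutations -/

/-- The linear automorphism `v ↦ v ∘ e`. -/
def permLE (e : Equiv.Perm (Fin (δ + 1))) : DP δ ≃ₗ[ℤ] DP δ :=
  LinearEquiv.funCongrLeft ℤ ℤ e

theorem permLE_apply (e : Equiv.Perm (Fin (δ + 1))) (v : DP δ) (k : Fin (δ + 1)) :
    permLE e v k = v (e k) := rfl

theorem canon_comp (e : Equiv.Perm (Fin (δ + 1))) (he : e 0 = 0) (k : Fin (δ + 1)) :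
    canon δ (e k) = canon δ k := by
  refine Fin.cases ?_ (fun i => ?_) k
  · rw [he]
  · have hne : e i.succ ≠ 0 := by
      intro h
      rw [← he] at h
      exact Fin.succ_ne_zero i (e.injective h)
    obtain ⟨j, hj⟩ := Fin.exists_succ_eq.mpr hne
    rw [← hj]
    simp [canon]

theorem isWeyl_permLE (e : Equiv.Perm (Fin (δ + 1))) (he : e 0 = 0) : IsWeyl (permLE e) := by
  refine ⟨fun v w => ?_, ?_⟩
  · rw [form_eq_full, form_eq_full]
    simp only [permLE_apply, he]
    rw [Equiv.sum_comp e (fun k => v k * w k)]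
  · funext k
    rw [permLE_apply, canon_comp e he]

/-- Lift a permutation of `Fin n` to `Fin (n + 1)` fixing `0`. -/
def liftPerm {n : ℕ} (σ : Equiv.Perm (Fin n)) : Equiv.Perm (Fin (n + 1)) :=
  Equiv.Perm.decomposeFin.symm (0, σ)

theorem liftPerm_zero {n : ℕ} (σ : Equiv.Perm (Fin n)) : liftPerm σ 0 = 0 :=
  Equiv.Perm.decomposeFin_symm_apply_zero 0 σ

theorem liftPerm_succ {n : ℕ} (σ : Equiv.Perm (Fin n)) (i : Fin n) :
    liftPerm σ i.succ = (σ i).succ := by
  rw [liftPerm, Equiv.Perm.decomposeFin_symm_apply_succ]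
  simp

/-- Every integer tuple can be sorted into antitone order. -/
theorem exists_perm_antitone {n : ℕ} (b : Fin n → ℤ) :
    ∃ σ : Equiv.Perm (Fin n), Antitone (b ∘ σ) := by
  refine ⟨Fin.revPerm.trans (Tuple.sort b), fun i j hij => ?_⟩
  simp only [Function.comp_apply, Equiv.trans_apply, Fin.revPerm_apply]
  exact Tuple.monotone_sort b (Fin.rev_le_rev.2 hij)

end Groth.Agent.Lib.Seat74.DPWeyl
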