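import Mathlib
import Groth.Agent.Lib.Seat74DPWeyl
import Groth.Agent.Lib.Helper24DPConic

/-!
# Seat 74: Weyl group orbits of pairs of conic classes in the del Pezzo lattices

Stage 1: the Weyl group is transitive on conic classes (descent by sorting and the standard
quadratic transformation).  Stage 2: inside the stabilizer of `Q0 = (1; 1, 0, …)` every conic class
is carried to a terminal form, and terminal forms are classified by a kernel computation.
-/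

set_option autoImplicit false

namespace Groth.Agent.Lib.Seat74.DPConicPairs
open W4c3severiratdp Groth.Agent.Lib.Seat74.DPWeyl Groth.Agent.Lib.Helper24DPConic

variable {δ : ℕ}

/-- entry accessor with default value `0` -/
def ent (v : DP δ) (i : ℕ) : ℤ := (List.ofFn v).getD i 0

/-- the base conic class `(1; 1, 0, …, 0)` -/
def Q0 (δ : ℕ) : DP δ := fun k => if (k : ℕ) ≤ 1 then 1 else 0

/-- the root `(1; 1, 1, 1, 0, …, 0)` -/
def r0 (δ : ℕ) : DP δ := fun k => if (k : ℕ) ≤ 3 then 1 else 0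

theorem form_r0_r0 (h3 : 3 ≤ δ) (h8 : δ ≤ 8) : form (r0 δ) (r0 δ) = -2 := by
  interval_cases δ <;> decide

theorem form_canon_r0 (h3 : 3 ≤ δ) (h8 : δ ≤ 8) : form (canon δ) (r0 δ) = 0 := by
  interval_cases δ <;> decide

theorem form_Q0_r0 (h3 : 3 ≤ δ) (h8 : δ ≤ 8) : form (Q0 δ) (r0 δ) = 0 := by
  interval_cases δ <;> decide

theorem form_r0 (h3 : 3 ≤ δ) (h8 : δ ≤ 8) (v : DP δ) :
    form v (r0 δ) = ent v 0 - ent v 1 - ent v 2 - ent v 3 := by
  interval_cases δ <;>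
  · simp [form, r0, ent, Fin.sum_univ_succ, List.ofFn_succ]
    try ring

theorem form_Q0 (h2 : 2 ≤ δ) (h8 : δ ≤ 8) (v : DP δ) :
    form v (Q0 δ) = ent v 0 - ent v 1 := by
  interval_cases δ <;>
  · simp [form, Q0, ent, List.ofFn_succ]

theorem ofFn_Q0 (h2 : 2 ≤ δ) (h8 : δ ≤ 8) :
    List.ofFn (Q0 δ) = 1 :: 1 :: List.replicate (δ - 1) 0 := by
  interval_cases δ <;> decide

theorem ent_zero (v : DP δ) : ent v 0 = v 0 := by
  simp [ent, List.ofFn_succ]

theorem ofFn_eq_cons (v : DP δ) : List.ofFn v = v 0 :: List.ofFn (Fin.tail v) := by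
  rw [List.ofFn_succ]
  rfl

theorem ent_succ (v : DP δ) (i : ℕ) : ent v (i + 1) = (List.ofFn (Fin.tail v)).getD i 0 := by
  rw [ent, ofFn_eq_cons, List.getD_cons_succ]

/-! ### Stage 1 -/

/-- terminal forms for stage 1, by enumeration -/
def TF1 (δ : ℕ) : List (List ℤ) :=
  arng.flatMap fun a =>
    ((solA δ 11 (3 * a - 2) (a * a)).filter
      (fun l => decide (3 ≤ δ → l.getD 0 0 + l.getD 1 0 + l.getD 2 0 ≤ a))).map (fun l => a :: l)

theorem TF1_eq : ∀ δ ∈ [2, 3, 4, 5, 6, 7, 8], TF1 δ = [1 :: 1 :: List.replicate (δ - 1) 0] := by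
  decide +kernel

/-- A conic class with antitone tail lies in the enumeration. -/
theorem ofFn_tail_mem_solA (h8 : δ ≤ 8) (v : DP δ) (hv : IsConic v)
    (hanti : Antitone (Fin.tail v)) :
    v 0 ∈ arng ∧ List.ofFn (Fin.tail v) ∈ solA δ 11 (3 * v 0 - 2) (v 0 * v 0) := by
  obtain ⟨ha1, ha2⟩ := conic_bounds h8 v hv
  have hc := (conic_iff v).1 hv
  have hle : v 0 * v 0 ≤ 121 := by nlinarith
  have hb : ∀ i, Fin.tail v i ≤ 11 := by
    intro i
    have h1 : Fin.tail v i * Fin.tail v i ≤ ∑ j, Fin.tail v j * Fin.tail v j :=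
      Finset.single_le_sum (f := fun j => Fin.tail v j * Fin.tail v j)
        (fun j _ => mul_self_nonneg _) (Finset.mem_univ i)
    have h2 : ∑ j, Fin.tail v j * Fin.tail v j = v 0 * v 0 := hc.2
    nlinarith
  exact ⟨mem_arng.2 ⟨ha1, ha2⟩,
    mem_solA δ (Fin.tail v) 11 (3 * v 0 - 2) (v 0 * v 0) hle hanti hb hc.1 hc.2⟩

theorem eq_Q0_of_terminal (h2 : 2 ≤ δ) (h8 : δ ≤ 8) (v : DP δ) (hv : IsConic v)
    (hanti : Antitone (Fin.tail v))
    (hterm : 3 ≤ δ → ent v 1 + ent v 2 + ent v 3 ≤ ent v 0) : v = Q0 δ := by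
  obtain ⟨ha, hl⟩ := ofFn_tail_mem_solA h8 v hv hanti
  have hmem : List.ofFn v ∈ TF1 δ := by
    rw [ofFn_eq_cons]
    simp only [TF1, List.mem_flatMap, List.mem_map, List.mem_filter, decide_eq_true_eq]
    refine ⟨v 0, ha, List.ofFn (Fin.tail v), ⟨hl, fun h3 => ?_⟩, rfl⟩
    have := hterm h3
    rw [ent_succ, ent_succ, ent_succ, ent_zero] at this
    exact this
  have hδ : δ ∈ [2, 3, 4, 5, 6, 7, 8] := by
    interval_cases δ <;> simp
  rw [TF1_eq δ hδ, List.mem_singleton, ← ofFn_Q0 h2 h8] at hmem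
  exact List.ofFn_injective hmem

theorem r0_zero : r0 δ 0 = 1 := by simp [r0]

/-- Stage 1: every conic class is Weyl-equivalent to `Q0`. -/
theorem stage1 (h2 : 2 ≤ δ) (h8 : δ ≤ 8) : ∀ (n : ℕ) (v : DP δ), IsConic v → (v 0).toNat ≤ n →
    ∃ g : DP δ ≃ₗ[ℤ] DP δ, IsWeyl g ∧ g v = Q0 δ := by
  intro n
  induction n with
  | zero =>
    intro v hv hn
    have := (conic_bounds h8 v hv).1
    omega
  | succ n ih =>
    intro v hv hn
    obtain ⟨σ, hσ⟩ := exists_perm_antitone (Fin.tail v)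
    have he0 : liftPerm σ 0 = 0 := liftPerm_zero σ
    have hW1 : IsWeyl (permLE (liftPerm σ)) := isWeyl_permLE _ he0
    set w := permLE (liftPerm σ) v with hw
    have hwc : IsConic w := (isWeyl_isConic_iff hW1 v).2 hv
    have hw0 : w 0 = v 0 := by rw [hw, permLE_apply, he0]
    have hwt : Fin.tail w = Fin.tail v ∘ σ := by
      funext i
      show w i.succ = v (σ i).succ
      rw [hw, permLE_apply, liftPerm_succ]
    have hanti : Antitone (Fin.tail w) := by rw [hwt]; exact hσ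
    by_cases hterm : 3 ≤ δ → ent w 1 + ent w 2 + ent w 3 ≤ ent w 0
    · exact ⟨_, hW1, eq_Q0_of_terminal h2 h8 w hwc hanti hterm⟩
    · rw [Classical.not_imp, not_le] at hterm
      obtain ⟨h3, hlt⟩ := hterm
      have hr := form_r0_r0 h3 h8
      have hW2 : IsWeyl (reflLE (r0 δ) hr) := isWeyl_reflLE _ hr (form_canon_r0 h3 h8)
      set w' := reflLE (r0 δ) hr w with hw'
      have hwc' : IsConic w' := (isWeyl_isConic_iff hW2 w).2 hwc
      have hw'0 : w' 0 = w 0 + form w (r0 δ) := by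
        rw [hw', reflLE_apply]
        simp [r0_zero]
      have hlt' : w' 0 < w 0 := by
        rw [hw'0, form_r0 h3 h8]
        rw [ent_zero] at hlt ⊢
        linarith
      have hb := (conic_bounds h8 w' hwc').1
      obtain ⟨g, hg, hgw⟩ := ih w' hwc' (by omega)
      refine ⟨(permLE (liftPerm σ)).trans ((reflLE (r0 δ) hr).trans g),
        isWeyl_trans hW1 (isWeyl_trans hW2 hg), ?_⟩
      simp only [LinearEquiv.trans_apply]
      exact hgw

/-! ### Stage 2 -/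

/-- terminal forms for stage 2 (`δ = d + 1`), by enumeration -/
def TF (d : ℕ) : List (List ℤ) :=
  arng.flatMap fun a => rng.flatMap fun b =>
    ((solA d 11 (3 * a - 2 - b) (a * a - b * b)).filter
      (fun l => decide (2 ≤ d → l.getD 0 0 + l.getD 1 0 ≤ a - b))).map (fun l => a :: b :: l)

theorem TF_eq_1 : TF 1 = [[1, 0, 1], [1, 1, 0]] := by decide +kernel
theorem TF_eq_2 : TF 2 = [[1, 0, 1, 0], [1, 1, 0, 0]] := by decide +kernel
theorem TF_eq_3 : TF 3 = [[1, 0, 1, 0, 0], [1, 1, 0, 0, 0]] := by decide +kernel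
theorem TF_eq_4 : TF 4 = [[1, 0, 1, 0, 0, 0], [1, 1, 0, 0, 0, 0], [2, 0, 1, 1, 1, 1]] := by
  decide +kernel
theorem TF_eq_5 : TF 5 = [[1, 0, 1, 0, 0, 0, 0], [1, 1, 0, 0, 0, 0, 0], [2, 0, 1, 1, 1, 1, 0]] := by
  decide +kernel
theorem TF_eq_6 : TF 6 = [[1, 0, 1, 0, 0, 0, 0, 0], [1, 1, 0, 0, 0, 0, 0, 0],
    [2, 0, 1, 1, 1, 1, 0, 0], [3, 0, 2, 1, 1, 1, 1, 1], [5, 1, 2, 2, 2, 2, 2, 2]] := by
  decide +kernel
theorem TF_eq_7 : TF 7 = [[1, 0, 1, 0, 0, 0, 0, 0, 0], [1, 1, 0, 0, 0, 0, 0, 0, 0],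
    [2, 0, 1, 1, 1, 1, 0, 0, 0], [3, 0, 2, 1, 1, 1, 1, 1, 0], [4, 0, 2, 2, 2, 1, 1, 1, 1],
    [5, 0, 2, 2, 2, 2, 2, 2, 1], [5, 1, 2, 2, 2, 2, 2, 2, 0], [7, 1, 3, 3, 3, 3, 2, 2, 2],
    [8, 1, 3, 3, 3, 3, 3, 3, 3], [11, 3, 4, 4, 4, 4, 4, 4, 4]] := by
  decide +kernel

/-- Terminal forms are determined by the intersection number with `Q0`, except for `δ = 8` and
intersection number `4`. -/
theorem TF_unique (d : ℕ) (h1 : 1 ≤ d) (h7 : d ≤ 7) (x y : List ℤ) (hx : x ∈ TF d) (hy : y ∈ TF d)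
    (hn : x.getD 0 0 - x.getD 1 0 = y.getD 0 0 - y.getD 1 0)
    (hexc : ¬ (d = 7 ∧ x.getD 0 0 - x.getD 1 0 = 4)) : x = y := by
  interval_cases d
  · rw [TF_eq_1] at hx hy; revert hn hexc; revert y; revert x; decide
  · rw [TF_eq_2] at hx hy; revert hn hexc; revert y; revert x; decide
  · rw [TF_eq_3] at hx hy; revert hn hexc; revert y; revert x; decide
  · rw [TF_eq_4] at hx hy; revert hn hexc; revert y; revert x; decide
  · rw [TF_eq_5] at hx hy; revert hn hexc; revert y; revert x; decide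
  · rw [TF_eq_6] at hx hy; revert hn hexc; revert y; revert x; decide
  · rw [TF_eq_7] at hx hy; revert hn hexc; revert y; revert x; decide

theorem TF_four (x : List ℤ) (hx : x ∈ TF 7) (hn : x.getD 0 0 - x.getD 1 0 = 4) :
    x = [4, 0, 2, 2, 2, 1, 1, 1, 1] ∨ x = [5, 1, 2, 2, 2, 2, 2, 2, 0] := by
  rw [TF_eq_7] at hx; revert hn; revert x; decide

section Stage2

variable {d : ℕ}

theorem ofFn_eq_cons2 (v : DP (d + 1)) :
    List.ofFn v = v 0 :: v (Fin.succ 0) :: List.ofFn (Fin.tail (Fin.tail v)) := by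
  rw [List.ofFn_succ, List.ofFn_succ]
  rfl

theorem ent_one (v : DP (d + 1)) : ent v 1 = v (Fin.succ 0) := by
  rw [ent, ofFn_eq_cons2]
  rfl

theorem ent_add_two (v : DP (d + 1)) (i : ℕ) :
    ent v (i + 2) = (List.ofFn (Fin.tail (Fin.tail v))).getD i 0 := by
  rw [ent, ofFn_eq_cons2]
  rfl

/-- A conic class with antitone second tail which is terminal lies in the enumeration `TF`. -/
theorem ofFn_mem_TF (h7 : d ≤ 7) (v : DP (d + 1)) (hv : IsConic v)
    (hanti : Antitone (Fin.tail (Fin.tail v)))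
    (hterm : 2 ≤ d → ent v 2 + ent v 3 ≤ ent v 0 - ent v 1) : List.ofFn v ∈ TF d := by
  obtain ⟨ha1, ha2⟩ := conic_bounds (by omega : d + 1 ≤ 8) v hv
  have hc := (conic_iff v).1 hv
  rw [Fin.sum_univ_succ, Fin.sum_univ_succ] at hc
  set a := v 0 with ha
  set b := v (Fin.succ 0) with hb
  set y : Fin d → ℤ := Fin.tail (Fin.tail v) with hy
  have hy1 : ∑ i, y i = 3 * a - 2 - b := by
    have : ∑ i : Fin d, v i.succ.succ = ∑ i, y i := rfl
    linarith [hc.1]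
  have hy2 : ∑ i, y i * y i = a * a - b * b := by
    have : ∑ i : Fin d, v i.succ.succ * v i.succ.succ = ∑ i, y i * y i := rfl
    linarith [hc.2]
  have hnn : 0 ≤ ∑ i, y i * y i := Finset.sum_nonneg fun i _ => mul_self_nonneg _
  have hbb : b * b ≤ a * a := by linarith
  have hle : a * a - b * b ≤ 121 := by nlinarith [mul_self_nonneg b]
  have hb1 : -11 ≤ b := by nlinarith
  have hb2 : b ≤ 11 := by nlinarith
  have hyb : ∀ i, y i ≤ 11 := by
    intro i
    have h1 : y i * y i ≤ ∑ j, y j * y j :=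
      Finset.single_le_sum (f := fun j => y j * y j)
        (fun j _ => mul_self_nonneg _) (Finset.mem_univ i)
    nlinarith
  have hmem := mem_solA d y 11 (3 * a - 2 - b) (a * a - b * b) hle hanti hyb hy1 hy2
  rw [ofFn_eq_cons2]
  simp only [TF, List.mem_flatMap, List.mem_map, List.mem_filter, decide_eq_true_eq]
  refine ⟨a, mem_arng.2 ⟨ha1, ha2⟩, b, mem_rng.2 ⟨hb1, hb2⟩, List.ofFn y, ⟨hmem, fun h2 => ?_⟩, rfl⟩
  have := hterm h2
  rw [ent_add_two v 0, ent_add_two v 1, ent_zero, ent_one] at this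
  exact this

theorem liftLift_zero (τ : Equiv.Perm (Fin d)) : liftPerm (liftPerm τ) 0 = 0 := liftPerm_zero _

theorem liftLift_one (τ : Equiv.Perm (Fin d)) :
    liftPerm (liftPerm τ) (Fin.succ 0) = Fin.succ 0 := by
  rw [liftPerm_succ, liftPerm_zero]

theorem liftLift_succ_succ (τ : Equiv.Perm (Fin d)) (i : Fin d) :
    liftPerm (liftPerm τ) i.succ.succ = (τ i).succ.succ := by
  rw [liftPerm_succ, liftPerm_succ]

theorem permLE_liftLift_Q0 (τ : Equiv.Perm (Fin d)) :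
    permLE (liftPerm (liftPerm τ)) (Q0 (d + 1)) = Q0 (d + 1) := by
  funext k
  rw [permLE_apply]
  refine Fin.cases ?_ (fun j => ?_) k
  · rw [liftLift_zero]
  · refine Fin.cases ?_ (fun i => ?_) j
    · rw [liftLift_one]
    · rw [liftLift_succ_succ]
      simp [Q0]

/-- Stage 2: inside the stabilizer of `Q0`, every conic class is carried to a terminal form. -/
theorem stage2 (h1 : 1 ≤ d) (h7 : d ≤ 7) : ∀ (n : ℕ) (v : DP (d + 1)), IsConic v →
    (v 0).toNat ≤ n →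
    ∃ g : DP (d + 1) ≃ₗ[ℤ] DP (d + 1), IsWeyl g ∧ g (Q0 (d + 1)) = Q0 (d + 1) ∧
      List.ofFn (g v) ∈ TF d := by
  have h8 : d + 1 ≤ 8 := by omega
  intro n
  induction n with
  | zero =>
    intro v hv hn
    have := (conic_bounds h8 v hv).1
    omega
  | succ n ih =>
    intro v hv hn
    obtain ⟨τ, hτ⟩ := exists_perm_antitone (Fin.tail (Fin.tail v))
    have hW1 : IsWeyl (permLE (liftPerm (liftPerm τ))) := isWeyl_permLE _ (liftLift_zero τ)
    set w := permLE (liftPerm (liftPerm τ)) v with hw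
    have hwc : IsConic w := (isWeyl_isConic_iff hW1 v).2 hv
    have hw0 : w 0 = v 0 := by rw [hw, permLE_apply, liftLift_zero]
    have hwt : Fin.tail (Fin.tail w) = Fin.tail (Fin.tail v) ∘ τ := by
      funext i
      show w i.succ.succ = v (τ i).succ.succ
      rw [hw, permLE_apply, liftLift_succ_succ]
    have hanti : Antitone (Fin.tail (Fin.tail w)) := by rw [hwt]; exact hτ
    by_cases hterm : 2 ≤ d → ent w 2 + ent w 3 ≤ ent w 0 - ent w 1
    · exact ⟨_, hW1, permLE_liftLift_Q0 τ, ofFn_mem_TF h7 w hwc hanti hterm⟩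
    · rw [Classical.not_imp, not_le] at hterm
      obtain ⟨h2, hlt⟩ := hterm
      have h3 : 3 ≤ d + 1 := by omega
      have hr := form_r0_r0 h3 h8
      have hW2 : IsWeyl (reflLE (r0 (d + 1)) hr) := isWeyl_reflLE _ hr (form_canon_r0 h3 h8)
      set w' := reflLE (r0 (d + 1)) hr w with hw'
      have hwc' : IsConic w' := (isWeyl_isConic_iff hW2 w).2 hwc
      have hw'0 : w' 0 = w 0 + form w (r0 (d + 1)) := by
        rw [hw', reflLE_apply]
        simp [r0_zero]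
      have hlt' : w' 0 < w 0 := by
        rw [hw'0, form_r0 h3 h8]
        rw [ent_zero] at hlt ⊢
        linarith
      have hb := (conic_bounds h8 w' hwc').1
      obtain ⟨g, hg, hgQ, hgw⟩ := ih w' hwc' (by omega)
      refine ⟨(permLE (liftPerm (liftPerm τ))).trans ((reflLE (r0 (d + 1)) hr).trans g),
        isWeyl_trans hW1 (isWeyl_trans hW2 hg), ?_, ?_⟩
      · simp only [LinearEquiv.trans_apply]
        rw [permLE_liftLift_Q0, reflLE_apply, form_Q0_r0 h3 h8, zero_smul, add_zero, hgQ]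
      · simp only [LinearEquiv.trans_apply]
        exact hgw

end Stage2

/-! ### Pairs of conic classes -/

theorem form_Q0_eq_getD (h2 : 2 ≤ δ) (h8 : δ ≤ 8) (v : DP δ) :
    (List.ofFn v).getD 0 0 - (List.ofFn v).getD 1 0 = form v (Q0 δ) :=
  (form_Q0 h2 h8 v).symm

/-- The intersection number determines the Weyl orbit of an ordered pair of conic classes, except
for `δ = 8` and intersection number `4`. -/
theorem conic_pairs (h2 : 2 ≤ δ) (h8 : δ ≤ 8) (v₁ v₂ w₁ w₂ : DP δ)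
    (hv₁ : IsConic v₁) (hv₂ : IsConic v₂) (hw₁ : IsConic w₁) (hw₂ : IsConic w₂)
    (heq : form v₁ v₂ = form w₁ w₂) (hexc : ¬ (δ = 8 ∧ form v₁ v₂ = 4)) :
    ∃ g : DP δ ≃ₗ[ℤ] DP δ, IsWeyl g ∧ g v₁ = w₁ ∧ g v₂ = w₂ := by
  obtain ⟨d, rfl⟩ : ∃ d, δ = d + 1 := ⟨δ - 1, by omega⟩
  obtain ⟨g₁, hg₁, hg₁v⟩ := stage1 h2 h8 _ v₁ hv₁ le_rfl
  obtain ⟨h₁, hh₁, hh₁w⟩ := stage1 h2 h8 _ w₁ hw₁ le_rfl
  have hvc : IsConic (g₁ v₂) := (isWeyl_isConic_iff hg₁ v₂).2 hv₂
  have hwc : IsConic (h₁ w₂) := (isWeyl_isConic_iff hh₁ w₂).2 hw₂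
  obtain ⟨g₂, hg₂, hg₂Q, hg₂v⟩ := stage2 (by omega) (by omega) _ (g₁ v₂) hvc le_rfl
  obtain ⟨h₂, hh₂, hh₂Q, hh₂w⟩ := stage2 (by omega) (by omega) _ (h₁ w₂) hwc le_rfl
  have n1 : form (g₂ (g₁ v₂)) (Q0 (d + 1)) = form v₁ v₂ := by
    have e1 := hg₂.1 (g₁ v₂) (Q0 (d + 1))
    rw [hg₂Q] at e1
    rw [e1, ← hg₁v, hg₁.1, form_comm]
  have n2 : form (h₂ (h₁ w₂)) (Q0 (d + 1)) = form w₁ w₂ := by
    have e1 := hh₂.1 (h₁ w₂) (Q0 (d + 1))
    rw [hh₂Q] at e1
    rw [e1, ← hh₁w, hh₁.1, form_comm]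
  have key : List.ofFn (g₂ (g₁ v₂)) = List.ofFn (h₂ (h₁ w₂)) := by
    apply TF_unique d (by omega) (by omega) _ _ hg₂v hh₂w
    · rw [form_Q0_eq_getD h2 h8, form_Q0_eq_getD h2 h8, n1, n2, heq]
    · rw [form_Q0_eq_getD h2 h8, n1]
      rintro ⟨hd, h4⟩
      exact hexc ⟨by omega, h4⟩
  have key' : g₂ (g₁ v₂) = h₂ (h₁ w₂) := List.ofFn_injective key
  refine ⟨g₁.trans (g₂.trans (h₂.symm.trans h₁.symm)),
    isWeyl_trans hg₁ (isWeyl_trans hg₂ (isWeyl_trans (isWeyl_symm hh₂) (isWeyl_symm hh₁))), ?_, ?_⟩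
  · simp only [LinearEquiv.trans_apply]
    rw [hg₁v, hg₂Q, LinearEquiv.symm_apply_eq, LinearEquiv.symm_apply_eq, hh₁w, hh₂Q]
  · simp only [LinearEquiv.trans_apply]
    rw [key', LinearEquiv.symm_apply_apply, LinearEquiv.symm_apply_apply]

/-- the two representatives for intersection number `4` when `δ = 8` -/
def P4 : DP 8 := ![4, 0, 2, 2, 2, 1, 1, 1, 1]
/-- the two representatives for intersection number `4` when `δ = 8` -/
def P4' : DP 8 := ![5, 1, 2, 2, 2, 2, 2, 2, 0]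

theorem isConic_Q0_8 : IsConic (Q0 8) := by
  rw [conic_iff]; decide

theorem isConic_P4 : IsConic P4 := by
  rw [conic_iff]; decide

theorem isConic_P4' : IsConic P4' := by
  rw [conic_iff]; decide

/-- For `δ = 8` the pairs of conic classes with intersection number `4` form exactly two orbits. -/
theorem conic_pairs_four :
    ∃ p₁ p₂ q₁ q₂ : DP 8, IsConic p₁ ∧ IsConic p₂ ∧ IsConic q₁ ∧ IsConic q₂ ∧ form p₁ p₂ = 4 ∧
      form q₁ q₂ = 4 ∧
      (¬ ∃ g : DP 8 ≃ₗ[ℤ] DP 8, IsWeyl g ∧ g p₁ = q₁ ∧ g p₂ = q₂) ∧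
      ∀ v₁ v₂ : DP 8, IsConic v₁ → IsConic v₂ → form v₁ v₂ = 4 →
        ∃ g : DP 8 ≃ₗ[ℤ] DP 8, IsWeyl g ∧
          ((g v₁ = p₁ ∧ g v₂ = p₂) ∨ (g v₁ = q₁ ∧ g v₂ = q₂)) := by
  refine ⟨Q0 8, P4, Q0 8, P4', isConic_Q0_8, isConic_P4, isConic_Q0_8, isConic_P4', by decide,
    by decide, ?_, ?_⟩
  · rintro ⟨g, -, h1, h2⟩
    have hsum : g (Q0 8 + P4) = (2 : ℤ) • (![3, 1, 1, 1, 1, 1, 1, 1, 0] : DP 8) := by
      rw [map_add, h1, h2]
      decide
    have h3 : Q0 8 + P4 = (2 : ℤ) • g.symm (![3, 1, 1, 1, 1, 1, 1, 1, 0] : DP 8) := by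
      rw [← map_smul, ← hsum, LinearEquiv.symm_apply_apply]
    have h4 := congrFun h3 0
    have h5 : (Q0 8 + P4) 0 = 5 := by decide
    rw [h5, Pi.smul_apply, smul_eq_mul] at h4
    omega
  · intro v₁ v₂ hv₁ hv₂ h4
    obtain ⟨g₁, hg₁, hg₁v⟩ := stage1 (by norm_num) le_rfl _ v₁ hv₁ le_rfl
    have hvc : IsConic (g₁ v₂) := (isWeyl_isConic_iff hg₁ v₂).2 hv₂
    obtain ⟨g₂, hg₂, hg₂Q, hg₂v⟩ := stage2 (d := 7) (by norm_num) le_rfl _ (g₁ v₂) hvc le_rfl
    have n1 : form (g₂ (g₁ v₂)) (Q0 8) = 4 := by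
      have e1 := hg₂.1 (g₁ v₂) (Q0 8)
      rw [hg₂Q] at e1
      rw [e1, ← hg₁v, hg₁.1, form_comm, h4]
    have hn : (List.ofFn (g₂ (g₁ v₂))).getD 0 0 - (List.ofFn (g₂ (g₁ v₂))).getD 1 0 = 4 := by
      rw [form_Q0_eq_getD (by norm_num) le_rfl, n1]
    refine ⟨g₁.trans g₂, isWeyl_trans hg₁ hg₂, ?_⟩
    simp only [LinearEquiv.trans_apply]
    rw [hg₁v, hg₂Q]
    rcases TF_four _ hg₂v hn with h | h
    · left
      refine ⟨rfl, List.ofFn_injective (h.trans ?_)⟩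
      decide
    · right
      refine ⟨rfl, List.ofFn_injective (h.trans ?_)⟩
      decide

end Groth.Agent.Lib.Seat74.DPConicPairs
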