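import Mathlib
import Groth.Agent.Lib.Seat74DPConicPairs

/-!
# Seat 74: exceptional classes in the del Pezzo lattice of degree one (`δ = 8`)

Stage A: the Weyl group is transitive on exceptional classes.  Stage B: the stabilizer of an
exceptional class `L` carries every exceptional class to a terminal form, determined by its
intersection number with `L`.
-/

set_option autoImplicit false

namespace Groth.Agent.Lib.Seat74.DPExc
open W4c3severiratdp Groth.Agent.Lib.Seat74.DPWeyl Groth.Agent.Lib.Seat74.DPConicPairs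
  Groth.Agent.Lib.Helper24DPConic

theorem exc_iff {δ : ℕ} (v : DP δ) :
    IsExc v ↔ (∑ i : Fin δ, v i.succ = 3 * v 0 - 1 ∧
      ∑ i : Fin δ, v i.succ * v i.succ = v 0 * v 0 + 1) := by
  unfold IsExc form canon
  simp only [Fin.cases_zero, Fin.cases_succ, neg_mul, one_mul, Finset.sum_neg_distrib]
  constructor
  · rintro ⟨h1, h2⟩
    constructor <;> linarith
  · rintro ⟨h1, h2⟩
    constructor <;> linarith

theorem exc_bounds (v : DP 8) (h : IsExc v) : -1 ≤ v 0 ∧ v 0 ≤ 7 := by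
  rw [exc_iff] at h
  have hcs := cs_bound (fun i : Fin 8 => v i.succ)
  rw [h.1, h.2] at hcs
  push_cast at hcs
  constructor <;> nlinarith

/-- candidate values `-1, …, 7` of the first coordinate -/
def arngE : List ℤ := (List.range 9).map fun k : ℕ => (k : ℤ) - 1

theorem mem_arngE {a : ℤ} : a ∈ arngE ↔ -1 ≤ a ∧ a ≤ 7 := by
  rw [arngE, List.mem_map]
  constructor
  · rintro ⟨i, hi, rfl⟩
    rw [List.mem_range] at hi
    omega
  · rintro ⟨h1, h2⟩
    exact ⟨(a + 1).toNat, by rw [List.mem_range]; omega, by omega⟩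

/-- the exceptional class `e_8` -/
def L8 : DP 8 := fun k => if (k : ℕ) = 8 then -1 else 0
/-- the exceptional class `e_1` -/
def L1 : DP 8 := fun k => if (k : ℕ) = 1 then -1 else 0
/-- the root `ℓ - e_2 - e_3 - e_4` -/
def r1 : DP 8 := fun k => if (k : ℕ) = 0 ∨ (2 ≤ (k : ℕ) ∧ (k : ℕ) ≤ 4) then 1 else 0

theorem form_r1_r1 : form r1 r1 = -2 := by decide
theorem form_canon_r1 : form (canon 8) r1 = 0 := by decide
theorem form_L1_r1 : form L1 r1 = 0 := by decide
theorem form_L8_r0 : form L8 (r0 8) = 0 := by decide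

theorem form_r1 (v : DP 8) : form v r1 = ent v 0 - ent v 2 - ent v 3 - ent v 4 := by
  simp [form, r1, ent, Fin.sum_univ_succ, List.ofFn_succ]
  try ring

theorem form_L1 (v : DP 8) : form v L1 = ent v 1 := by
  simp [form, L1, ent, List.ofFn_succ]

theorem r1_zero : r1 0 = 1 := by decide

/-! ### Stage A -/

/-- terminal forms for stage A -/
def TFE1 : List (List ℤ) :=
  arngE.flatMap fun a =>
    ((solA 8 11 (3 * a - 1) (a * a + 1)).filter
      (fun l => decide (l.getD 0 0 + l.getD 1 0 + l.getD 2 0 ≤ a))).map (fun l => a :: l)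

theorem TFE1_eq : TFE1 = [[0, 0, 0, 0, 0, 0, 0, 0, -1]] := by decide +kernel

theorem ofFn_L8 : List.ofFn L8 = [0, 0, 0, 0, 0, 0, 0, 0, -1] := by decide

theorem ofFn_tail_mem_solA_exc (v : DP 8) (hv : IsExc v) (hanti : Antitone (Fin.tail v)) :
    v 0 ∈ arngE ∧ List.ofFn (Fin.tail v) ∈ solA 8 11 (3 * v 0 - 1) (v 0 * v 0 + 1) := by
  obtain ⟨ha1, ha2⟩ := exc_bounds v hv
  have hc := (exc_iff v).1 hv
  have hle : v 0 * v 0 + 1 ≤ 121 := by nlinarith
  have hb : ∀ i, Fin.tail v i ≤ 11 := by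
    intro i
    have h1 : Fin.tail v i * Fin.tail v i ≤ ∑ j, Fin.tail v j * Fin.tail v j :=
      Finset.single_le_sum (f := fun j => Fin.tail v j * Fin.tail v j)
        (fun j _ => mul_self_nonneg _) (Finset.mem_univ i)
    have h2 : ∑ j, Fin.tail v j * Fin.tail v j = v 0 * v 0 + 1 := hc.2
    nlinarith
  exact ⟨mem_arngE.2 ⟨ha1, ha2⟩,
    mem_solA 8 (Fin.tail v) 11 (3 * v 0 - 1) (v 0 * v 0 + 1) hle hanti hb hc.1 hc.2⟩

theorem eq_L8_of_terminal (v : DP 8) (hv : IsExc v) (hanti : Antitone (Fin.tail v))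
    (hterm : ent v 1 + ent v 2 + ent v 3 ≤ ent v 0) : v = L8 := by
  obtain ⟨ha, hl⟩ := ofFn_tail_mem_solA_exc v hv hanti
  have hmem : List.ofFn v ∈ TFE1 := by
    rw [ofFn_eq_cons]
    simp only [TFE1, List.mem_flatMap, List.mem_map, List.mem_filter, decide_eq_true_eq]
    refine ⟨v 0, ha, List.ofFn (Fin.tail v), ⟨hl, ?_⟩, rfl⟩
    rw [ent_succ, ent_succ, ent_succ, ent_zero] at hterm
    exact hterm
  rw [TFE1_eq, List.mem_singleton, ← ofFn_L8] at hmem
  exact List.ofFn_injective hmem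

/-- Stage A: every exceptional class is Weyl-equivalent to `e_8`. -/
theorem stageA : ∀ (n : ℕ) (v : DP 8), IsExc v → (v 0 + 1).toNat ≤ n →
    ∃ g : DP 8 ≃ₗ[ℤ] DP 8, IsWeyl g ∧ g v = L8 := by
  intro n
  induction n with
  | zero =>
    intro v hv hn
    obtain ⟨σ, hσ⟩ := exists_perm_antitone (Fin.tail v)
    have he0 : liftPerm σ 0 = 0 := liftPerm_zero σ
    have hW1 : IsWeyl (permLE (liftPerm σ)) := isWeyl_permLE _ he0
    set w := permLE (liftPerm σ) v with hw
    have hwc : IsExc w := (isWeyl_isExc_iff hW1 v).2 hv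
    have hw0 : w 0 = v 0 := by rw [hw, permLE_apply, he0]
    have hwt : Fin.tail w = Fin.tail v ∘ σ := by
      funext i
      show w i.succ = v (σ i).succ
      rw [hw, permLE_apply, liftPerm_succ]
    have hanti : Antitone (Fin.tail w) := by rw [hwt]; exact hσ
    by_cases hterm : ent w 1 + ent w 2 + ent w 3 ≤ ent w 0
    · exact ⟨_, hW1, eq_L8_of_terminal w hwc hanti hterm⟩
    · exfalso
      rw [not_le] at hterm
      have hr := form_r0_r0 (δ := 8) (by norm_num) le_rfl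
      have hW2 : IsWeyl (reflLE (r0 8) hr) :=
        isWeyl_reflLE _ hr (form_canon_r0 (by norm_num) le_rfl)
      have hwc' : IsExc (reflLE (r0 8) hr w) := (isWeyl_isExc_iff hW2 w).2 hwc
      have hw'0 : (reflLE (r0 8) hr w) 0 = w 0 + form w (r0 8) := by
        rw [reflLE_apply]
        simp [r0_zero]
      have hb := (exc_bounds _ hwc').1
      have hb0 := (exc_bounds _ hv).1
      rw [hw'0, form_r0 (by norm_num) le_rfl, ← ent_zero w] at hb
      rw [← hw0, ← ent_zero w] at hn hb0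
      omega
  | succ n ih =>
    intro v hv hn
    obtain ⟨σ, hσ⟩ := exists_perm_antitone (Fin.tail v)
    have he0 : liftPerm σ 0 = 0 := liftPerm_zero σ
    have hW1 : IsWeyl (permLE (liftPerm σ)) := isWeyl_permLE _ he0
    set w := permLE (liftPerm σ) v with hw
    have hwc : IsExc w := (isWeyl_isExc_iff hW1 v).2 hv
    have hw0 : w 0 = v 0 := by rw [hw, permLE_apply, he0]
    have hwt : Fin.tail w = Fin.tail v ∘ σ := by
      funext i
      show w i.succ = v (σ i).succ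
      rw [hw, permLE_apply, liftPerm_succ]
    have hanti : Antitone (Fin.tail w) := by rw [hwt]; exact hσ
    by_cases hterm : ent w 1 + ent w 2 + ent w 3 ≤ ent w 0
    · exact ⟨_, hW1, eq_L8_of_terminal w hwc hanti hterm⟩
    · rw [not_le] at hterm
      have hr := form_r0_r0 (δ := 8) (by norm_num) le_rfl
      have hW2 : IsWeyl (reflLE (r0 8) hr) :=
        isWeyl_reflLE _ hr (form_canon_r0 (by norm_num) le_rfl)
      set w' := reflLE (r0 8) hr w with hw'
      have hwc' : IsExc w' := (isWeyl_isExc_iff hW2 w).2 hwc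
      have hw'0 : w' 0 = w 0 + form w (r0 8) := by
        rw [hw', reflLE_apply]
        simp [r0_zero]
      have hlt' : w' 0 < w 0 := by
        rw [hw'0, form_r0 (by norm_num) le_rfl]
        rw [ent_zero] at hterm ⊢
        linarith
      have hb := (exc_bounds w' hwc').1
      obtain ⟨g, hg, hgw⟩ := ih w' hwc' (by omega)
      refine ⟨(permLE (liftPerm σ)).trans ((reflLE (r0 8) hr).trans g),
        isWeyl_trans hW1 (isWeyl_trans hW2 hg), ?_⟩
      simp only [LinearEquiv.trans_apply]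
      exact hgw

/-- Every exceptional class is Weyl-equivalent to `e_1`. -/
theorem exists_weyl_to_L1 (v : DP 8) (hv : IsExc v) :
    ∃ g : DP 8 ≃ₗ[ℤ] DP 8, IsWeyl g ∧ g v = L1 := by
  obtain ⟨g, hg, hgv⟩ := stageA _ v hv le_rfl
  have hc : IsWeyl (permLE (Equiv.swap (1 : Fin 9) 8)) := isWeyl_permLE _ (by decide)
  refine ⟨g.trans (permLE (Equiv.swap (1 : Fin 9) 8)), isWeyl_trans hg hc, ?_⟩
  simp only [LinearEquiv.trans_apply]
  rw [hgv]
  funext k
  rw [permLE_apply]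
  revert k
  decide

/-! ### Stage B -/

/-- terminal forms for stage B -/
def TFE : List (List ℤ) :=
  arngE.flatMap fun a => rng.flatMap fun b =>
    ((solA 7 11 (3 * a - 1 - b) (a * a + 1 - b * b)).filter
      (fun l => decide (l.getD 0 0 + l.getD 1 0 + l.getD 2 0 ≤ a))).map (fun l => a :: b :: l)

theorem TFE_eq : TFE = [[0, -1, 0, 0, 0, 0, 0, 0, 0], [0, 0, 0, 0, 0, 0, 0, 0, -1],
    [1, 1, 1, 0, 0, 0, 0, 0, 0], [3, 2, 1, 1, 1, 1, 1, 1, 0], [6, 3, 2, 2, 2, 2, 2, 2, 2]] := by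
  decide +kernel

theorem TFE_unique (x y : List ℤ) (hx : x ∈ TFE) (hy : y ∈ TFE)
    (hn : x.getD 1 0 = y.getD 1 0) : x = y := by
  rw [TFE_eq] at hx hy
  revert hn; revert y; revert x
  decide

theorem ofFn_mem_TFE (v : DP 8) (hv : IsExc v) (hanti : Antitone (Fin.tail (Fin.tail v)))
    (hterm : ent v 2 + ent v 3 + ent v 4 ≤ ent v 0) : List.ofFn v ∈ TFE := by
  obtain ⟨ha1, ha2⟩ := exc_bounds v hv
  have hc := (exc_iff v).1 hv
  have hc1 := hc.1
  have hc2 := hc.2
  rw [Fin.sum_univ_succ] at hc1 hc2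
  set a := v 0 with ha
  set b := v (Fin.succ 0) with hb
  set y : Fin 7 → ℤ := Fin.tail (Fin.tail v) with hy
  have hy1 : ∑ i, y i = 3 * a - 1 - b := by
    have : ∑ i : Fin 7, v i.succ.succ = ∑ i, y i := rfl
    linarith [hc1]
  have hy2 : ∑ i, y i * y i = a * a + 1 - b * b := by
    have : ∑ i : Fin 7, v i.succ.succ * v i.succ.succ = ∑ i, y i * y i := rfl
    linarith [hc2]
  have hnn : 0 ≤ ∑ i, y i * y i := Finset.sum_nonneg fun i _ => mul_self_nonneg _
  have hbb : b * b ≤ a * a + 1 := by linarith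
  have hle : a * a + 1 - b * b ≤ 121 := by nlinarith [mul_self_nonneg b]
  have hb1 : -11 ≤ b := by nlinarith
  have hb2 : b ≤ 11 := by nlinarith
  have hyb : ∀ i, y i ≤ 11 := by
    intro i
    have h1 : y i * y i ≤ ∑ j, y j * y j :=
      Finset.single_le_sum (f := fun j => y j * y j)
        (fun j _ => mul_self_nonneg _) (Finset.mem_univ i)
    nlinarith
  have hmem := mem_solA 7 y 11 (3 * a - 1 - b) (a * a + 1 - b * b) hle hanti hyb hy1 hy2
  rw [ofFn_eq_cons2]
  simp only [TFE, List.mem_flatMap, List.mem_map, List.mem_filter, decide_eq_true_eq]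
  refine ⟨a, mem_arngE.2 ⟨ha1, ha2⟩, b, mem_rng.2 ⟨hb1, hb2⟩, List.ofFn y, ⟨hmem, ?_⟩, rfl⟩
  rw [ent_add_two v 0, ent_add_two v 1, ent_add_two v 2, ent_zero] at hterm
  exact hterm

theorem permLE_liftLift_L1 (τ : Equiv.Perm (Fin 7)) :
    permLE (liftPerm (liftPerm τ)) L1 = L1 := by
  funext k
  rw [permLE_apply]
  refine Fin.cases ?_ (fun j => ?_) k
  · rw [liftLift_zero]
  · refine Fin.cases ?_ (fun i => ?_) j
    · rw [liftLift_one]
    · rw [liftLift_succ_succ]
      simp [L1]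

/-- Stage B: inside the stabilizer of `e_1`, every exceptional class is carried to a terminal
form. -/
theorem stageB : ∀ (n : ℕ) (v : DP 8), IsExc v → (v 0 + 1).toNat ≤ n →
    ∃ g : DP 8 ≃ₗ[ℤ] DP 8, IsWeyl g ∧ g L1 = L1 ∧ List.ofFn (g v) ∈ TFE := by
  have main : ∀ (n : ℕ), (∀ w' : DP 8, IsExc w' → (w' 0 + 1).toNat < n →
      ∃ g : DP 8 ≃ₗ[ℤ] DP 8, IsWeyl g ∧ g L1 = L1 ∧ List.ofFn (g w') ∈ TFE) →
      ∀ v : DP 8, IsExc v → (v 0 + 1).toNat ≤ n →
      ∃ g : DP 8 ≃ₗ[ℤ] DP 8, IsWeyl g ∧ g L1 = L1 ∧ List.ofFn (g v) ∈ TFE := by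
    intro n ih v hv hn
    obtain ⟨τ, hτ⟩ := exists_perm_antitone (Fin.tail (Fin.tail v))
    have hW1 : IsWeyl (permLE (liftPerm (liftPerm τ))) := isWeyl_permLE _ (liftLift_zero τ)
    set w := permLE (liftPerm (liftPerm τ)) v with hw
    have hwc : IsExc w := (isWeyl_isExc_iff hW1 v).2 hv
    have hw0 : w 0 = v 0 := by rw [hw, permLE_apply, liftLift_zero]
    have hwt : Fin.tail (Fin.tail w) = Fin.tail (Fin.tail v) ∘ τ := by
      funext i
      show w i.succ.succ = v (τ i).succ.succ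
      rw [hw, permLE_apply, liftLift_succ_succ]
    have hanti : Antitone (Fin.tail (Fin.tail w)) := by rw [hwt]; exact hτ
    by_cases hterm : ent w 2 + ent w 3 + ent w 4 ≤ ent w 0
    · exact ⟨_, hW1, permLE_liftLift_L1 τ, ofFn_mem_TFE w hwc hanti hterm⟩
    · rw [not_le] at hterm
      have hW2 : IsWeyl (reflLE r1 form_r1_r1) := isWeyl_reflLE _ form_r1_r1 form_canon_r1
      set w' := reflLE r1 form_r1_r1 w with hw'
      have hwc' : IsExc w' := (isWeyl_isExc_iff hW2 w).2 hwc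
      have hw'0 : w' 0 = w 0 + form w r1 := by
        rw [hw', reflLE_apply]
        simp [r1_zero]
      have hlt' : w' 0 < w 0 := by
        rw [hw'0, form_r1]
        rw [ent_zero] at hterm ⊢
        linarith
      have hb := (exc_bounds w' hwc').1
      obtain ⟨g, hg, hgQ, hgw⟩ := ih w' hwc' (by omega)
      refine ⟨(permLE (liftPerm (liftPerm τ))).trans ((reflLE r1 form_r1_r1).trans g),
        isWeyl_trans hW1 (isWeyl_trans hW2 hg), ?_, ?_⟩
      · simp only [LinearEquiv.trans_apply]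
        rw [permLE_liftLift_L1, reflLE_apply, form_L1_r1, zero_smul, add_zero, hgQ]
      · simp only [LinearEquiv.trans_apply]
        exact hgw
  intro n
  induction n using Nat.strong_induction_on with
  | _ n ih =>
    intro v hv hn
    exact main n (fun w' hw' hlt => ih _ hlt w' hw' le_rfl) v hv hn

/-- Exceptional classes with the same intersection number with `L` lie in one orbit of the
stabilizer of `L`. -/
theorem exc_orbits (L L₁ L₂ : DP 8) (hL : IsExc L) (hL₁ : IsExc L₁) (hL₂ : IsExc L₂)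
    (h : form L₁ L = form L₂ L) :
    ∃ g : DP 8 ≃ₗ[ℤ] DP 8, IsWeyl g ∧ g L = L ∧ g L₁ = L₂ := by
  obtain ⟨g₀, hg₀, hg₀L⟩ := exists_weyl_to_L1 L hL
  have hx₁ : IsExc (g₀ L₁) := (isWeyl_isExc_iff hg₀ L₁).2 hL₁
  have hx₂ : IsExc (g₀ L₂) := (isWeyl_isExc_iff hg₀ L₂).2 hL₂
  obtain ⟨g₁, hg₁, hg₁L, hg₁x⟩ := stageB _ (g₀ L₁) hx₁ le_rfl
  obtain ⟨g₂, hg₂, hg₂L, hg₂x⟩ := stageB _ (g₀ L₂) hx₂ le_rfl
  have n1 : form (g₁ (g₀ L₁)) L1 = form L₁ L := by
    have e1 := hg₁.1 (g₀ L₁) L1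
    rw [hg₁L] at e1
    rw [e1, ← hg₀L, hg₀.1]
  have n2 : form (g₂ (g₀ L₂)) L1 = form L₂ L := by
    have e1 := hg₂.1 (g₀ L₂) L1
    rw [hg₂L] at e1
    rw [e1, ← hg₀L, hg₀.1]
  have key : List.ofFn (g₁ (g₀ L₁)) = List.ofFn (g₂ (g₀ L₂)) := by
    apply TFE_unique _ _ hg₁x hg₂x
    have e1 := form_L1 (g₁ (g₀ L₁))
    have e2 := form_L1 (g₂ (g₀ L₂))
    unfold ent at e1 e2
    rw [← e1, ← e2, n1, n2, h]
  have key' : g₁ (g₀ L₁) = g₂ (g₀ L₂) := List.ofFn_injective key
  refine ⟨g₀.trans (g₁.trans (g₂.symm.trans g₀.symm)),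
    isWeyl_trans hg₀ (isWeyl_trans hg₁ (isWeyl_trans (isWeyl_symm hg₂) (isWeyl_symm hg₀))), ?_, ?_⟩
  · simp only [LinearEquiv.trans_apply]
    rw [hg₀L, hg₁L, LinearEquiv.symm_apply_eq, LinearEquiv.symm_apply_eq, hg₀L, hg₂L]
  · simp only [LinearEquiv.trans_apply]
    rw [key', LinearEquiv.symm_apply_apply, LinearEquiv.symm_apply_apply]

end Groth.Agent.Lib.Seat74.DPExc
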