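import Mathlib
import Groth.Agent.Lib.Seat74DPExc

/-!
# Seat 74: triples of exceptional classes with sum `-2K + L` (`δ = 8`)

The stabilizer of an exceptional class `L` has exactly four orbits on unordered triples of
exceptional classes with sum `-2K + L`.
-/

set_option autoImplicit false

namespace Groth.Agent.Lib.Seat74.DPTriples
open W4c3severiratdp Groth.Agent.Lib.Seat74.DPWeyl Groth.Agent.Lib.Seat74.DPConicPairs
  Groth.Agent.Lib.Seat74.DPExc Groth.Agent.Lib.Helper24DPConic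

theorem form_sub_left {δ : ℕ} (u v w : DP δ) : form (u - v) w = form u w - form v w := by
  have h := form_add_left (u - v) v w
  rw [sub_add_cancel] at h
  linarith

theorem form_sub_right {δ : ℕ} (u v w : DP δ) : form u (v - w) = form u v - form u w := by
  rw [form_comm, form_sub_left, form_comm v u, form_comm w u]

/-- the class `ℓ - e_1 - e_2` -/
def F1 : DP 8 := fun k => if (k : ℕ) ≤ 2 then 1 else 0

/-- the target sum `e_1 - 2K` -/
def T : DP 8 := L1 - 2 • canon 8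

/-- `T - F1` -/
def S : DP 8 := T - F1

/-- the class `(2; 0, 0, 1, 1, 1, 1, 1, 0)` -/
def A : DP 8 := fun k => if (k : ℕ) = 0 then 2 else if (k : ℕ) ≤ 2 ∨ (k : ℕ) = 8 then 0 else 1

/-- the class `(3; 0, 1, 2, 1, 1, 1, 1, 1)` -/
def B : DP 8 := fun k =>
  if (k : ℕ) = 0 then 3 else if (k : ℕ) = 1 then 0 else if (k : ℕ) = 3 then 2 else 1

theorem ofFn_L1 : List.ofFn L1 = [0, -1, 0, 0, 0, 0, 0, 0, 0] := by decide
theorem ofFn_F1 : List.ofFn F1 = [1, 1, 1, 0, 0, 0, 0, 0, 0] := by decide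
theorem ofFn_A : List.ofFn A = [2, 0, 0, 1, 1, 1, 1, 1, 0] := by decide
theorem ofFn_B : List.ofFn B = [3, 0, 1, 2, 1, 1, 1, 1, 1] := by decide
theorem ofFn_T : List.ofFn T = [6, 1, 2, 2, 2, 2, 2, 2, 2] := by decide
theorem ofFn_S : List.ofFn S = [5, 0, 1, 2, 2, 2, 2, 2, 2] := by decide

theorem form_T_L1 : form T L1 = 1 := by decide
theorem form_S_S : form S S = 0 := by decide

/-- The four representative triples (for `L = e_1`). -/
def R : Fin 4 → Fin 3 → DP 8 :=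
  ![![L1, L1, T - L1 - L1], ![L1, L8, T - L1 - L8], ![L1, F1, T - L1 - F1], ![A, T - F1 - A, F1]]

theorem R_exc : ∀ j i, IsExc (R j i) := by
  intro j i
  rw [exc_iff]
  revert j i
  decide

theorem R_sum : ∀ j, R j 0 + R j 1 + R j 2 = T := by decide

/-- the invariant separating the four orbits -/
def inv (j : Fin 4) : ℤ := ∑ i : Fin 3, form (R j i) L1 ^ 2

theorem inv_injective : ∀ j j' : Fin 4, inv j = inv j' → j = j' := by decide

/-! ### Exceptional classes relative to `e_1` -/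

theorem TFE_m_range : ∀ x ∈ TFE, -1 ≤ x.getD 1 0 ∧ x.getD 1 0 ≤ 3 := by
  rw [TFE_eq]; decide

theorem TFE_m_neg1 : ∀ x ∈ TFE, x.getD 1 0 = -1 → x = [0, -1, 0, 0, 0, 0, 0, 0, 0] := by
  rw [TFE_eq]; decide

theorem TFE_m_zero : ∀ x ∈ TFE, x.getD 1 0 = 0 → x = [0, 0, 0, 0, 0, 0, 0, 0, -1] := by
  rw [TFE_eq]; decide

theorem TFE_m_one : ∀ x ∈ TFE, x.getD 1 0 = 1 → x = [1, 1, 1, 0, 0, 0, 0, 0, 0] := by
  rw [TFE_eq]; decide

theorem getD_one_eq_form (v : DP 8) : (List.ofFn v).getD 1 0 = form v L1 :=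
  (form_L1 v).symm

/-- Stage B, packaged with the invariance of the intersection number. -/
theorem stageB' (E : DP 8) (hE : IsExc E) :
    ∃ g : DP 8 ≃ₗ[ℤ] DP 8, IsWeyl g ∧ g L1 = L1 ∧ List.ofFn (g E) ∈ TFE ∧
      (List.ofFn (g E)).getD 1 0 = form E L1 := by
  obtain ⟨g, hg, hgL, hgE⟩ := stageB _ E hE le_rfl
  refine ⟨g, hg, hgL, hgE, ?_⟩
  rw [getD_one_eq_form]
  have e1 := hg.1 E L1
  rw [hgL] at e1
  exact e1

theorem exc_m_range (E : DP 8) (hE : IsExc E) : -1 ≤ form E L1 ∧ form E L1 ≤ 3 := by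
  obtain ⟨g, -, -, hmem, hm⟩ := stageB' E hE
  rw [← hm]
  exact TFE_m_range _ hmem

theorem exc_eq_L1 (E : DP 8) (hE : IsExc E) (h : form E L1 = -1) : E = L1 := by
  obtain ⟨g, -, hgL, hmem, hm⟩ := stageB' E hE
  have h1 := TFE_m_neg1 _ hmem (hm.trans h)
  rw [← ofFn_L1] at h1
  have h2 : g E = L1 := List.ofFn_injective h1
  rw [← hgL] at h2
  exact g.injective h2

theorem weyl_fix_T {g : DP 8 ≃ₗ[ℤ] DP 8} (hg : IsWeyl g) (hL : g L1 = L1) : g T = T := by
  rw [T, map_sub, map_nsmul, hL, hg.2]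

/-! ### Stage C -/

theorem lift3_zero (τ : Equiv.Perm (Fin 6)) : liftPerm (liftPerm (liftPerm τ)) 0 = 0 :=
  liftPerm_zero _

theorem lift3_one (τ : Equiv.Perm (Fin 6)) :
    liftPerm (liftPerm (liftPerm τ)) (Fin.succ 0) = Fin.succ 0 := by
  rw [liftPerm_succ, liftPerm_zero]

theorem lift3_two (τ : Equiv.Perm (Fin 6)) :
    liftPerm (liftPerm (liftPerm τ)) (Fin.succ (Fin.succ 0)) = Fin.succ (Fin.succ 0) := by
  rw [liftPerm_succ, liftPerm_succ, liftPerm_zero]

theorem lift3_succ (τ : Equiv.Perm (Fin 6)) (i : Fin 6) :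
    liftPerm (liftPerm (liftPerm τ)) i.succ.succ.succ = (τ i).succ.succ.succ := by
  rw [liftPerm_succ, liftPerm_succ, liftPerm_succ]

theorem permLE_lift3_L1 (τ : Equiv.Perm (Fin 6)) :
    permLE (liftPerm (liftPerm (liftPerm τ))) L1 = L1 := by
  funext k
  rw [permLE_apply]
  refine Fin.cases ?_ (fun j => ?_) k
  · rw [lift3_zero]
  · refine Fin.cases ?_ (fun j' => ?_) j
    · rw [lift3_one]
    · refine Fin.cases ?_ (fun i => ?_) j'
      · rw [lift3_two]
      · rw [lift3_succ]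
        simp [L1]

theorem permLE_lift3_F1 (τ : Equiv.Perm (Fin 6)) :
    permLE (liftPerm (liftPerm (liftPerm τ))) F1 = F1 := by
  funext k
  rw [permLE_apply]
  refine Fin.cases ?_ (fun j => ?_) k
  · rw [lift3_zero]
  · refine Fin.cases ?_ (fun j' => ?_) j
    · rw [lift3_one]
    · refine Fin.cases ?_ (fun i => ?_) j'
      · rw [lift3_two]
      · rw [lift3_succ]
        simp [F1]

theorem ofFn_eq_cons3 (v : DP 8) :
    List.ofFn v = v 0 :: v (Fin.succ 0) :: v (Fin.succ (Fin.succ 0)) ::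
      List.ofFn (Fin.tail (Fin.tail (Fin.tail v))) := by
  rw [List.ofFn_succ, List.ofFn_succ, List.ofFn_succ]
  rfl

/-- terminal forms for stage C -/
def TFC : List (List ℤ) :=
  arngE.flatMap fun a =>
    (solA 6 11 (3 * a - 1 - (a - 2)) (a * a + 1 - (a - 2) * (a - 2))).map
      (fun l => a :: 0 :: (a - 2) :: l)

theorem TFC_eq : TFC = [[2, 0, 0, 1, 1, 1, 1, 1, 0], [3, 0, 1, 2, 1, 1, 1, 1, 1]] := by
  decide +kernel

/-- explicit form of `S` -/
def Sexp : DP 8 := fun k =>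
  if (k : ℕ) = 0 then 5 else if (k : ℕ) = 1 then 0 else if (k : ℕ) = 2 then 1 else 2

theorem S_eq : S = Sexp := by decide

theorem form_S_expand (v : DP 8) :
    form v S = 5 * v 0 - (v (Fin.succ (Fin.succ 0)) + 2 * ∑ i : Fin 6, v i.succ.succ.succ) := by
  rw [S_eq, form, Fin.sum_univ_succ, Fin.sum_univ_succ, Finset.mul_sum]
  have h0 : Sexp 0 = 5 := by decide
  have h1 : Sexp (Fin.succ 0) = 0 := by decide
  have h2 : Sexp (Fin.succ (Fin.succ 0)) = 1 := by decide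
  have h3 : ∀ i : Fin 6, Sexp i.succ.succ.succ = 2 := by decide
  rw [h0, h1, h2]
  simp only [h3]
  have : ∑ i : Fin 6, v i.succ.succ.succ * 2 = ∑ i : Fin 6, 2 * v i.succ.succ.succ :=
    Finset.sum_congr rfl fun i _ => mul_comm _ _
  rw [this]
  ring

theorem form_L1_expand (v : DP 8) : form v L1 = v (Fin.succ 0) := by
  rw [form_L1, ent_one]

theorem ofFn_mem_TFC (v : DP 8) (hv : IsExc v) (h1 : form v L1 = 0) (hS : form v S = 0)
    (hanti : Antitone (Fin.tail (Fin.tail (Fin.tail v)))) : List.ofFn v ∈ TFC := by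
  obtain ⟨ha1, ha2⟩ := exc_bounds v hv
  have hc := (exc_iff v).1 hv
  have hc1 := hc.1
  have hc2 := hc.2
  rw [Fin.sum_univ_succ, Fin.sum_univ_succ] at hc1 hc2
  rw [form_L1_expand] at h1
  rw [form_S_expand] at hS
  set a := v 0 with ha
  set b := v (Fin.succ (Fin.succ 0)) with hb
  set y : Fin 6 → ℤ := Fin.tail (Fin.tail (Fin.tail v)) with hy
  have e1 : ∑ i : Fin 6, v i.succ.succ.succ = ∑ i, y i := rfl
  have e2 : ∑ i : Fin 6, v i.succ.succ.succ * v i.succ.succ.succ = ∑ i, y i * y i := rfl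
  rw [h1] at hc1 hc2
  rw [e1] at hc1 hS
  rw [e2] at hc2
  have hb' : b = a - 2 := by linarith
  have hy1 : ∑ i, y i = 3 * a - 1 - (a - 2) := by linarith
  have hy2 : ∑ i, y i * y i = a * a + 1 - (a - 2) * (a - 2) := by
    rw [← hb']
    linarith
  have hnn : 0 ≤ ∑ i, y i * y i := Finset.sum_nonneg fun i _ => mul_self_nonneg _
  have hle : a * a + 1 - (a - 2) * (a - 2) ≤ 121 := by nlinarith
  have hyb : ∀ i, y i ≤ 11 := by
    intro i
    have h1 : y i * y i ≤ ∑ j, y j * y j :=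
      Finset.single_le_sum (f := fun j => y j * y j)
        (fun j _ => mul_self_nonneg _) (Finset.mem_univ i)
    nlinarith
  have hmem := mem_solA 6 y 11 _ _ hle hanti hyb hy1 hy2
  rw [ofFn_eq_cons3, h1, ← hb, hb']
  simp only [TFC, List.mem_flatMap, List.mem_map]
  exact ⟨a, mem_arngE.2 ⟨ha1, ha2⟩, List.ofFn y, hmem, rfl⟩

/-- Stage C: inside the stabilizer of `e_1` and `F1`. -/
theorem stageC (E : DP 8) (hE : IsExc E) (h1 : form E L1 = 0) (hS : form E S = 0) :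
    ∃ h : DP 8 ≃ₗ[ℤ] DP 8, IsWeyl h ∧ h L1 = L1 ∧ h F1 = F1 ∧ (h E) 0 = E 0 ∧
      (h E = A ∨ h E = B) := by
  obtain ⟨τ, hτ⟩ := exists_perm_antitone (Fin.tail (Fin.tail (Fin.tail E)))
  have hW : IsWeyl (permLE (liftPerm (liftPerm (liftPerm τ)))) := isWeyl_permLE _ (lift3_zero τ)
  set w := permLE (liftPerm (liftPerm (liftPerm τ))) E with hw
  have hwc : IsExc w := (isWeyl_isExc_iff hW E).2 hE
  have hw0 : w 0 = E 0 := by rw [hw, permLE_apply, lift3_zero]
  have hwt : Fin.tail (Fin.tail (Fin.tail w)) = Fin.tail (Fin.tail (Fin.tail E)) ∘ τ := by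
    funext i
    show w i.succ.succ.succ = E (τ i).succ.succ.succ
    rw [hw, permLE_apply, lift3_succ]
  have hanti : Antitone (Fin.tail (Fin.tail (Fin.tail w))) := by rw [hwt]; exact hτ
  have hL := permLE_lift3_L1 τ
  have hF := permLE_lift3_F1 τ
  have hT := weyl_fix_T hW hL
  have hSfix : permLE (liftPerm (liftPerm (liftPerm τ))) S = S := by
    rw [S, map_sub, hT, hF]
  have hw1 : form w L1 = 0 := by
    have e1 := hW.1 E L1
    rw [hL] at e1
    rw [hw, e1, h1]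
  have hwS : form w S = 0 := by
    have e1 := hW.1 E S
    rw [hSfix] at e1
    rw [hw, e1, hS]
  have hmem := ofFn_mem_TFC w hwc hw1 hwS hanti
  rw [TFC_eq] at hmem
  refine ⟨_, hW, hL, hF, hw0, ?_⟩
  simp only [List.mem_cons, List.not_mem_nil, or_false] at hmem
  rcases hmem with h | h
  · left
    rw [← ofFn_A] at h
    exact List.ofFn_injective h
  · right
    rw [← ofFn_B] at h
    exact List.ofFn_injective h

/-! ### Triples -/

theorem exists_perm3 : ∀ i0 i1 i2 : Fin 3, i0 ≠ i1 → i0 ≠ i2 → i1 ≠ i2 →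
    ∃ ρ : Equiv.Perm (Fin 3), ρ 0 = i0 ∧ ρ 1 = i1 ∧ ρ 2 = i2 := by decide

theorem others3 : ∀ i0 : Fin 3, ∃ i1 i2 : Fin 3, i0 ≠ i1 ∧ i0 ≠ i2 ∧ i1 ≠ i2 := by decide

theorem sum_perm3 (t : Fin 3 → DP 8) (ρ : Equiv.Perm (Fin 3)) :
    t (ρ 0) + t (ρ 1) + t (ρ 2) = t 0 + t 1 + t 2 := by
  have h := Equiv.sum_comp ρ t
  rw [Fin.sum_univ_three, Fin.sum_univ_three] at h
  exact h

/-- Case 1: one member of the triple is `e_1`. -/
theorem core1 (u : Fin 3 → DP 8) (hu : ∀ i, IsExc (u i)) (hsum : u 0 + u 1 + u 2 = T)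
    (h0 : form (u 0) L1 = -1) (hle : form (u 1) L1 ≤ form (u 2) L1) :
    ∃ j, ∃ g : DP 8 ≃ₗ[ℤ] DP 8, IsWeyl g ∧ g L1 = L1 ∧ ∀ i, g (u i) = R j i := by
  have hu0 : u 0 = L1 := exc_eq_L1 _ (hu 0) h0
  have hm : form (u 0) L1 + form (u 1) L1 + form (u 2) L1 = 1 := by
    rw [← form_add_left, ← form_add_left, hsum, form_T_L1]
  obtain ⟨hlo, -⟩ := exc_m_range (u 1) (hu 1)
  have hm1 : form (u 1) L1 = -1 ∨ form (u 1) L1 = 0 ∨ form (u 1) L1 = 1 := by omega
  obtain ⟨g, hg, hgL, hmem, hgm⟩ := stageB' (u 1) (hu 1)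
  have hgT := weyl_fix_T hg hgL
  have hu2 : u 2 = T - u 0 - u 1 := by rw [← hsum]; abel
  have hg2 : g (u 2) = T - L1 - g (u 1) := by rw [hu2, map_sub, map_sub, hgT, hu0, hgL]
  rcases hm1 with h | h | h
  · have e := TFE_m_neg1 _ hmem (hgm.trans h)
    rw [← ofFn_L1] at e
    have e' : g (u 1) = L1 := List.ofFn_injective e
    refine ⟨0, g, hg, hgL, fun i => ?_⟩
    fin_cases i
    · show g (u 0) = L1
      rw [hu0, hgL]
    · exact e'
    · show g (u 2) = T - L1 - L1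
      rw [hg2, e']
  · have e := TFE_m_zero _ hmem (hgm.trans h)
    rw [← ofFn_L8] at e
    have e' : g (u 1) = L8 := List.ofFn_injective e
    refine ⟨1, g, hg, hgL, fun i => ?_⟩
    fin_cases i
    · show g (u 0) = L1
      rw [hu0, hgL]
    · exact e'
    · show g (u 2) = T - L1 - L8
      rw [hg2, e']
  · have e := TFE_m_one _ hmem (hgm.trans h)
    rw [← ofFn_F1] at e
    have e' : g (u 1) = F1 := List.ofFn_injective e
    refine ⟨2, g, hg, hgL, fun i => ?_⟩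
    fin_cases i
    · show g (u 0) = L1
      rw [hu0, hgL]
    · exact e'
    · show g (u 2) = T - L1 - F1
      rw [hg2, e']

theorem form_S_eq_zero (E1 E2 : DP 8) (hE1 : IsExc E1) (hE2 : IsExc E2) (hs : E1 + E2 = S) :
    form E1 S = 0 := by
  have h2 : E2 = S - E1 := by rw [← hs]; abel
  have h3 := hE2.1
  rw [h2, form_sub_left, form_sub_right, form_sub_right, form_S_S, hE1.1, form_comm S E1] at h3
  linarith

theorem B_zero : B 0 = 3 := by decide
theorem A_zero : A 0 = 2 := by decide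
theorem S_zero : S 0 = 5 := by decide

/-- Case 2: intersection numbers `(0, 0, 1)` with `e_1`. -/
theorem core2 (u : Fin 3 → DP 8) (hu : ∀ i, IsExc (u i)) (hsum : u 0 + u 1 + u 2 = T)
    (h0 : form (u 0) L1 = 0) (h1 : form (u 1) L1 = 0) (h2 : form (u 2) L1 = 1) :
    ∃ g : DP 8 ≃ₗ[ℤ] DP 8, IsWeyl g ∧ g L1 = L1 ∧
      ∃ σ : Equiv.Perm (Fin 3), ∀ i, g (u (σ i)) = R 3 i := by
  obtain ⟨g, hg, hgL, hmem, hgm⟩ := stageB' (u 2) (hu 2)
  have hgT := weyl_fix_T hg hgL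
  have e := TFE_m_one _ hmem (hgm.trans h2)
  rw [← ofFn_F1] at e
  have hgu2 : g (u 2) = F1 := List.ofFn_injective e
  have hE1 : IsExc (g (u 0)) := (isWeyl_isExc_iff hg _).2 (hu 0)
  have hE2 : IsExc (g (u 1)) := (isWeyl_isExc_iff hg _).2 (hu 1)
  have hs : g (u 0) + g (u 1) = S := by
    have : u 0 + u 1 = T - u 2 := by rw [← hsum]; abel
    rw [← map_add, this, map_sub, hgT, hgu2, S]
  have hs' : g (u 1) + g (u 0) = S := by rw [add_comm]; exact hs
  have hm1 : form (g (u 0)) L1 = 0 := by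
    have e1 := hg.1 (u 0) L1
    rw [hgL] at e1
    rw [e1, h0]
  have hm2 : form (g (u 1)) L1 = 0 := by
    have e1 := hg.1 (u 1) L1
    rw [hgL] at e1
    rw [e1, h1]
  have hS1 := form_S_eq_zero _ _ hE1 hE2 hs
  have hS2 := form_S_eq_zero _ _ hE2 hE1 hs'
  obtain ⟨h, hh, hhL, hhF, hh0, hhE⟩ := stageC _ hE1 hm1 hS1
  have hhS : h S = S := by rw [S, map_sub, weyl_fix_T hh hhL, hhF]
  rcases hhE with hA | hB
  · refine ⟨g.trans h, isWeyl_trans hg hh, ?_, Equiv.refl _, fun i => ?_⟩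
    · simp only [LinearEquiv.trans_apply]
      rw [hgL, hhL]
    · simp only [LinearEquiv.trans_apply, Equiv.refl_apply]
      fin_cases i
      · exact hA
      · show h (g (u 1)) = T - F1 - A
        have : g (u 1) = S - g (u 0) := by rw [← hs]; abel
        rw [this, map_sub, hhS, hA]
        rfl
      · show h (g (u 2)) = F1
        rw [hgu2, hhF]
  · have ha1 : (g (u 0)) 0 = 3 := by rw [← hh0, hB, B_zero]
    have ha2 : (g (u 1)) 0 = 2 := by
      have := congrFun hs 0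
      rw [Pi.add_apply, S_zero, ha1] at this
      linarith
    obtain ⟨h', hh', hhL', hhF', hh0', hhE'⟩ := stageC _ hE2 hm2 hS2
    have hhS' : h' S = S := by rw [S, map_sub, weyl_fix_T hh' hhL', hhF']
    have hA' : h' (g (u 1)) = A := by
      rcases hhE' with hA' | hB'
      · exact hA'
      · exfalso
        rw [hB', B_zero, ha2] at hh0'
        omega
    refine ⟨g.trans h', isWeyl_trans hg hh', ?_, Equiv.swap 0 1, fun i => ?_⟩
    · simp only [LinearEquiv.trans_apply]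
      rw [hgL, hhL']
    · simp only [LinearEquiv.trans_apply]
      fin_cases i
      · show h' (g (u (Equiv.swap (0 : Fin 3) 1 0))) = A
        rw [Equiv.swap_apply_left]
        exact hA'
      · show h' (g (u (Equiv.swap (0 : Fin 3) 1 1))) = T - F1 - A
        rw [Equiv.swap_apply_right]
        have : g (u 0) = S - g (u 1) := by rw [← hs]; abel
        rw [this, map_sub, hhS', hA']
        rfl
      · show h' (g (u (Equiv.swap (0 : Fin 3) 1 2))) = F1
        rw [Equiv.swap_apply_of_ne_of_ne (by decide) (by decide), hgu2, hhF']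

/-- The classification of triples for `L = e_1`. -/
theorem triples_L1 (t : Fin 3 → DP 8) (ht : ∀ i, IsExc (t i)) (hsum : t 0 + t 1 + t 2 = T) :
    ∃ j, ∃ g : DP 8 ≃ₗ[ℤ] DP 8, IsWeyl g ∧ g L1 = L1 ∧
      ∃ σ : Equiv.Perm (Fin 3), ∀ i, g (t (σ i)) = R j i := by
  have hm : form (t 0) L1 + form (t 1) L1 + form (t 2) L1 = 1 := by
    rw [← form_add_left, ← form_add_left, hsum, form_T_L1]
  have hr := fun i => exc_m_range (t i) (ht i)
  by_cases hneg : ∃ i, form (t i) L1 = -1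
  · obtain ⟨i0, hi0⟩ := hneg
    obtain ⟨i1, i2, h01, h02, h12⟩ := others3 i0
    rcases le_total (form (t i1) L1) (form (t i2) L1) with hle | hle
    · obtain ⟨ρ, hρ0, hρ1, hρ2⟩ := exists_perm3 i0 i1 i2 h01 h02 h12
      obtain ⟨j, g, hg, hgL, hgu⟩ := core1 (fun i => t (ρ i)) (fun i => ht _)
        (by rw [sum_perm3, hsum]) (by simp only [hρ0, hi0]) (by simp only [hρ1, hρ2, hle])
      exact ⟨j, g, hg, hgL, ρ, hgu⟩
    · obtain ⟨ρ, hρ0, hρ1, hρ2⟩ := exists_perm3 i0 i2 i1 h02 h01 (Ne.symm h12)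
      obtain ⟨j, g, hg, hgL, hgu⟩ := core1 (fun i => t (ρ i)) (fun i => ht _)
        (by rw [sum_perm3, hsum]) (by simp only [hρ0, hi0]) (by simp only [hρ1, hρ2, hle])
      exact ⟨j, g, hg, hgL, ρ, hgu⟩
  · have hnn : ∀ i, 0 ≤ form (t i) L1 := by
      intro i
      have h1 := (hr i).1
      have h2 : form (t i) L1 ≠ -1 := fun h => hneg ⟨i, h⟩
      omega
    have h0 := hnn 0
    have h1 := hnn 1
    have h2 := hnn 2
    have hcases : (form (t 0) L1 = 0 ∧ form (t 1) L1 = 0 ∧ form (t 2) L1 = 1) ∨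
        (form (t 0) L1 = 0 ∧ form (t 1) L1 = 1 ∧ form (t 2) L1 = 0) ∨
        (form (t 0) L1 = 1 ∧ form (t 1) L1 = 0 ∧ form (t 2) L1 = 0) := by omega
    rcases hcases with ⟨a0, a1, a2⟩ | ⟨a0, a1, a2⟩ | ⟨a0, a1, a2⟩
    · obtain ⟨g, hg, hgL, σ, hgu⟩ := core2 t ht hsum a0 a1 a2
      exact ⟨3, g, hg, hgL, σ, hgu⟩
    · obtain ⟨ρ, hρ0, hρ1, hρ2⟩ := exists_perm3 0 2 1 (by decide) (by decide) (by decide)
      obtain ⟨g, hg, hgL, σ, hgu⟩ := core2 (fun i => t (ρ i)) (fun i => ht _)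
        (by rw [sum_perm3, hsum]) (by simp only [hρ0, a0]) (by simp only [hρ1, a2])
        (by simp only [hρ2, a1])
      exact ⟨3, g, hg, hgL, σ.trans ρ, fun i => hgu i⟩
    · obtain ⟨ρ, hρ0, hρ1, hρ2⟩ := exists_perm3 2 1 0 (by decide) (by decide) (by decide)
      obtain ⟨g, hg, hgL, σ, hgu⟩ := core2 (fun i => t (ρ i)) (fun i => ht _)
        (by rw [sum_perm3, hsum]) (by simp only [hρ0, a2]) (by simp only [hρ1, a1])
        (by simp only [hρ2, a0])
      exact ⟨3, g, hg, hgL, σ.trans ρ, fun i => hgu i⟩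

/-- The stabilizer of an exceptional class `L` has exactly four orbits on unordered triples of
exceptional classes with sum `L - 2K`. -/
theorem triple_orbits (L : DP 8) (hL : IsExc L) :
    ∃ r : Fin 4 → (Fin 3 → DP 8),
      (∀ j, (∀ i, IsExc (r j i)) ∧ r j 0 + r j 1 + r j 2 = L - 2 • canon 8) ∧
      (∀ j j', (∃ g : DP 8 ≃ₗ[ℤ] DP 8, IsWeyl g ∧ g L = L ∧
        ∃ σ : Equiv.Perm (Fin 3), ∀ i, g (r j (σ i)) = r j' i) → j = j') ∧
      ∀ t : Fin 3 → DP 8, (∀ i, IsExc (t i)) → t 0 + t 1 + t 2 = L - 2 • canon 8 →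
        ∃ j, ∃ g : DP 8 ≃ₗ[ℤ] DP 8, IsWeyl g ∧ g L = L ∧
          ∃ σ : Equiv.Perm (Fin 3), ∀ i, g (t (σ i)) = r j i := by
  obtain ⟨g₀, hg₀, hg₀L⟩ := exists_weyl_to_L1 L hL
  have hs₀ := isWeyl_symm hg₀
  have hsL : g₀.symm L1 = L := by rw [← hg₀L, LinearEquiv.symm_apply_apply]
  have hsT : g₀.symm T = L - 2 • canon 8 := by
    rw [T, map_sub, map_nsmul, hsL, hs₀.2]
  have hgT : g₀ (L - 2 • canon 8) = T := by
    rw [← hsT, LinearEquiv.apply_symm_apply]
  refine ⟨fun j i => g₀.symm (R j i), fun j => ⟨fun i => ?_, ?_⟩, ?_, ?_⟩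
  · exact (isWeyl_isExc_iff hs₀ _).2 (R_exc j i)
  · rw [← map_add, ← map_add, R_sum j, hsT]
  · rintro j j' ⟨g, hg, hgL, σ, hσ⟩
    apply inv_injective
    -- the invariant
    have key : ∀ (k : Fin 4) (i : Fin 3), form (g₀.symm (R k i)) L = form (R k i) L1 := by
      intro k i
      have e1 := hs₀.1 (R k i) L1
      rw [hsL] at e1
      exact e1
    unfold inv
    have hσ' : ∀ i, g (g₀.symm (R j (σ i))) = g₀.symm (R j' i) := hσ
    have e2 : ∀ i, form (R j' i) L1 = form (R j (σ i)) L1 := by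
      intro i
      rw [← key j' i, ← hσ' i, ← key j (σ i)]
      have e3 := hg.1 (g₀.symm (R j (σ i))) L
      rw [hgL] at e3
      exact e3
    have e4 : ∑ i, form (R j' i) L1 ^ 2 = ∑ i, form (R j (σ i)) L1 ^ 2 :=
      Finset.sum_congr rfl (fun i _ => by rw [e2 i])
    rw [e4]
    exact (Equiv.sum_comp σ (fun i => form (R j i) L1 ^ 2)).symm
  · intro t ht hsum
    obtain ⟨j, g, hg, hgL, σ, hσ⟩ := triples_L1 (fun i => g₀ (t i))
      (fun i => (isWeyl_isExc_iff hg₀ _).2 (ht i))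
      (by rw [← map_add, ← map_add, hsum, hgT])
    refine ⟨j, g₀.trans (g.trans g₀.symm), isWeyl_trans hg₀ (isWeyl_trans hg hs₀), ?_, σ,
      fun i => ?_⟩
    · simp only [LinearEquiv.trans_apply]
      rw [hg₀L, hgL, hsL]
    · simp only [LinearEquiv.trans_apply]
      rw [hσ i]

end Groth.Agent.Lib.Seat74.DPTriples
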