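import Mathlib
import Groth.Prelude.Def_Neron

/-!
# Flat algebras over Dedekind domains with finite generic fibre are quasi-finite

* `finite_residue_tensor`: over a valuation ring `A` with fraction field `K` and residue field `κ`,
  a flat module `M` with `K ⊗ M` finite-dimensional has `κ ⊗ M` finite-dimensional.
* `quasiFinite_of_flat_of_finite_generic`: over a Dedekind domain `R`, a flat algebra `B` with
  `K ⊗ B` finite over `K` is quasi-finite.
-/

set_option autoImplicit false
universe u

open TensorProduct

namespace Groth.Agent.Lib.Seat74.FlatQF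

section ValRing

variable (A : Type*) [CommRing A] [IsDomain A] [ValuationRing A]
  (K : Type*) [Field K] [Algebra A K] [IsFractionRing A K]
  (M : Type*) [AddCommGroup M] [Module A M]

lemma one_tmul_surjective (x : IsLocalRing.ResidueField A ⊗[A] M) :
    ∃ m : M, (1 : IsLocalRing.ResidueField A) ⊗ₜ[A] m = x := by
  induction x using TensorProduct.induction_on with
  | zero => exact ⟨0, by simp⟩
  | tmul k m =>
    obtain ⟨a, rfl⟩ := IsLocalRing.residue_surjective k
    refine ⟨a • m, ?_⟩
    rw [← TensorProduct.smul_tmul, Algebra.smul_def, mul_one]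
    rfl
  | add x y hx hy =>
    obtain ⟨m, rfl⟩ := hx
    obtain ⟨m', rfl⟩ := hy
    exact ⟨m + m', TensorProduct.tmul_add _ _ _⟩

omit [IsDomain A] [ValuationRing A] in
lemma one_tmul_injective [Module.Flat A M] :
    Function.Injective (fun m : M => (1 : K) ⊗ₜ[A] m) := by
  have h1 : Function.Injective (Algebra.linearMap A K) := IsFractionRing.injective A K
  have h2 := Module.Flat.rTensor_preserves_injective_linearMap (M := M) _ h1
  have h3 : (fun m : M => (1 : K) ⊗ₜ[A] m) =
      (LinearMap.rTensor M (Algebra.linearMap A K)) ∘ (TensorProduct.lid A M).symm := by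
    ext m
    simp
  rw [h3]
  exact h2.comp (TensorProduct.lid A M).symm.injective

theorem finite_residue_tensor [Module.Flat A M] [Module.Finite K (K ⊗[A] M)] :
    Module.Finite (IsLocalRing.ResidueField A) (IsLocalRing.ResidueField A ⊗[A] M) := by
  classical
  rw [← Module.rank_lt_aleph0_iff]
  refine lt_of_le_of_lt (rank_le (n := Module.finrank K (K ⊗[A] M)) ?_) (Cardinal.natCast_lt_aleph0)
  intro s hs
  by_contra hlt
  push Not at hlt
  choose f hf using one_tmul_surjective A M
  -- the lifted family in `K ⊗ M` is linearly dependent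
  have hdep : ¬ LinearIndependent K (fun i : s => (1 : K) ⊗ₜ[A] f i.1) := by
    intro hli
    have := hli.fintype_card_le_finrank
    rw [Fintype.card_coe] at this
    omega
  rw [Fintype.not_linearIndependent_iff] at hdep
  obtain ⟨c, hc, x₀, hx₀⟩ := hdep
  let v := ValuationRing.valuation A K
  obtain ⟨j, -, hj⟩ := Finset.exists_max_image Finset.univ (fun x : s => v (c x))
    ⟨x₀, Finset.mem_univ _⟩
  have hcj : c j ≠ 0 := by
    intro h0
    have := hj x₀ (Finset.mem_univ _)
    simp only [h0, map_zero, le_zero_iff] at this
    exact hx₀ (by simpa using this)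
  have hint : ∀ x : s, ∃ a : A, algebraMap A K a = c x / c j := by
    intro x
    rw [← ValuationRing.mem_integer_iff, Valuation.mem_integer_iff, map_div₀]
    exact div_le_one_of_le₀ (hj x (Finset.mem_univ _)) zero_le'
  choose a ha using hint
  have haj : a j = 1 := by
    apply IsFractionRing.injective A K
    rw [ha, div_self hcj, map_one]
  -- the relation descends to `M`
  have hrel : ∑ x : s, a x • f x.1 = 0 := by
    apply one_tmul_injective A K M
    simp only [TensorProduct.tmul_zero, TensorProduct.tmul_sum]
    have : ∀ x : s, (1 : K) ⊗ₜ[A] (a x • f x.1) = (c j)⁻¹ • (c x • ((1 : K) ⊗ₜ[A] f x.1)) := by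
      intro x
      rw [← TensorProduct.smul_tmul, Algebra.smul_def, mul_one, ha, smul_smul,
        TensorProduct.smul_tmul', smul_eq_mul, mul_one, div_eq_inv_mul]
    simp_rw [this]
    rw [← Finset.smul_sum, hc, smul_zero]
  -- and then to the residue field
  have hrel' : ∑ x : s, IsLocalRing.residue A (a x) • (x : IsLocalRing.ResidueField A ⊗[A] M) = 0 := by
    have : ∀ x : s, IsLocalRing.residue A (a x) • (x : IsLocalRing.ResidueField A ⊗[A] M) =
        (1 : IsLocalRing.ResidueField A) ⊗ₜ[A] (a x • f x.1) := by
      intro x
      conv_lhs => rw [← hf x.1]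
      rw [← TensorProduct.smul_tmul, TensorProduct.smul_tmul', smul_eq_mul, mul_one,
        Algebra.smul_def, mul_one]
      rfl
    simp_rw [this]
    rw [← TensorProduct.tmul_sum, hrel, TensorProduct.tmul_zero]
  have := (Fintype.linearIndependent_iff.mp hs) _ hrel' j
  rw [haj, map_one] at this
  exact one_ne_zero this

end ValRing

section Dedekind

variable (R : Type*) [CommRing R] [IsDedekindDomain R] (B : Type*) [CommRing B] [Algebra R B]

theorem valuationRing_atPrime (P : Ideal R) [P.IsPrime] :
    ValuationRing (Localization.AtPrime P) := by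
  by_cases hP : P = ⊥
  · subst hP
    have hf : IsField (Localization.AtPrime (⊥ : Ideal R)) := by
      have : IsFractionRing R (Localization.AtPrime (⊥ : Ideal R)) := by
        have : (⊥ : Ideal R).primeCompl = nonZeroDivisors R := by
          ext x
          simp [Ideal.primeCompl, mem_nonZeroDivisors_iff_ne_zero]
        show IsLocalization (nonZeroDivisors R) _
        rw [← this]
        infer_instance
      exact @Field.toIsField _ (IsFractionRing.toField R)
    let _ := hf.toField
    infer_instance
  · have := IsLocalization.AtPrime.isDiscreteValuationRing_of_dedekind_domain R hP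
      (Localization.AtPrime P)
    infer_instance

theorem quasiFinite_of_flat_of_finite_generic [Module.Flat R B]
    [Module.Finite (FractionRing R) (FractionRing R ⊗[R] B)] : Algebra.QuasiFinite R B := by
  refine ⟨fun P hP => ?_⟩
  let A := Localization.AtPrime P
  let K := FractionRing R
  have e1 : K ⊗[A] (A ⊗[R] B) ≃ₗ[K] K ⊗[R] B :=
    TensorProduct.AlgebraTensorModule.cancelBaseChange R A K K B
  have : Module.Finite K (K ⊗[A] (A ⊗[R] B)) :=
    Module.Finite.of_surjective e1.symm.toLinearMap e1.symm.surjective
  have := valuationRing_atPrime R P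
  have h := finite_residue_tensor A K (A ⊗[R] B)
  have e2 : P.ResidueField ⊗[A] (A ⊗[R] B) ≃ₗ[P.ResidueField] P.ResidueField ⊗[R] B :=
    TensorProduct.AlgebraTensorModule.cancelBaseChange R A P.ResidueField P.ResidueField B
  exact Module.Finite.of_surjective e2.toLinearMap e2.surjective

end Dedekind

section Scheme

open CategoryTheory CategoryTheory.Limits AlgebraicGeometry

/-- Affine case: a flat morphism `Spec B ⟶ Spec R` to a Dedekind base whose generic fibre is
locally quasi-finite is locally quasi-finite. -/
theorem lqf_Spec_of_flat_of_generic (R : Type u) [CommRing R] [IsDedekindDomain R]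
    (B : CommRingCat.{u}) (f : Spec B ⟶ Spec (CommRingCat.of R)) [Flat f]
    [LocallyQuasiFinite (pullback.snd f (Neron.genPt R))] : LocallyQuasiFinite f := by
  obtain ⟨φ, rfl⟩ := Spec.map_surjective f
  have hfl : φ.hom.Flat := (HasRingHomProperty.Spec_iff (P := @Flat)).mp inferInstance
  rw [HasRingHomProperty.Spec_iff (P := @LocallyQuasiFinite)]
  algebraize [φ.hom]
  have h2 : LocallyQuasiFinite (pullback.fst (Neron.genPt R) (Spec.map φ)) := by
    rw [← pullbackSymmetry_hom_comp_snd]
    infer_instance
  have h3 : LocallyQuasiFinite (Spec.map (CommRingCat.ofHom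
      (algebraMap (FractionRing R) (FractionRing R ⊗[R] B)))) := by
    rw [← pullbackSpecIso_inv_fst' R (FractionRing R) B]
    exact MorphismProperty.comp_mem _ _ _ (inferInstance) h2
  rw [HasRingHomProperty.Spec_iff (P := @LocallyQuasiFinite)] at h3
  have h4 : Algebra.QuasiFinite (FractionRing R) (FractionRing R ⊗[R] B) :=
    RingHom.quasiFinite_algebraMap.mp h3
  have : Module.Finite (FractionRing R) (FractionRing R ⊗[R] B) := Module.Finite.of_quasiFinite
  exact quasiFinite_of_flat_of_finite_generic R B

theorem lqf_comp_of_flat_of_generic (R : Type u) [CommRing R] [IsDedekindDomain R]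
    (X : Scheme.{u}) (f : X ⟶ Spec (CommRingCat.of R)) [Flat f]
    [LocallyQuasiFinite (pullback.snd f (Neron.genPt R))] (B : CommRingCat.{u}) (j : Spec B ⟶ X)
    [IsOpenImmersion j] : LocallyQuasiFinite (j ≫ f) := by
  have : LocallyQuasiFinite (pullback.snd (j ≫ f) (Neron.genPt R)) := by
    have e : pullback.map (j ≫ f) (Neron.genPt R) f (Neron.genPt R)
        j (𝟙 _) (𝟙 _) (by simp) (by simp) ≫ pullback.snd f (Neron.genPt R) =
        pullback.snd (j ≫ f) (Neron.genPt R) :=
      (pullback.lift_snd _ _ _).trans (Category.comp_id _)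
    rw [← e]
    infer_instance
  exact lqf_Spec_of_flat_of_generic R _ (j ≫ f)

set_option backward.isDefEq.respectTransparency.types false in
theorem lqf_comp_of_flat_of_generic' (R : Type u) [CommRing R] [IsDedekindDomain R]
    (X : Scheme.{u}) (f : X ⟶ Spec (CommRingCat.of R)) [Flat f]
    [LocallyQuasiFinite (pullback.snd f (Neron.genPt R))] (U : Scheme.{u}) [IsAffine U] (j : U ⟶ X)
    [IsOpenImmersion j] : LocallyQuasiFinite (j ≫ f) := by
  have h := lqf_comp_of_flat_of_generic R X f _ (U.isoSpec.inv ≫ j)
  rw [Category.assoc] at h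
  exact (MorphismProperty.cancel_left_of_respectsIso @LocallyQuasiFinite U.isoSpec.inv _).mp h

set_option backward.isDefEq.respectTransparency.types false in
/-- A flat scheme over a Dedekind base with locally quasi-finite generic fibre is locally
quasi-finite. -/
theorem lqf_of_flat_of_generic (R : Type u) [CommRing R] [IsDedekindDomain R]
    (X : Scheme.{u}) (f : X ⟶ Spec (CommRingCat.of R)) [Flat f]
    [LocallyQuasiFinite (pullback.snd f (Neron.genPt R))] : LocallyQuasiFinite f :=
  (IsZariskiLocalAtSource.iff_of_openCover X.affineCover).mpr fun i =>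
    lqf_comp_of_flat_of_generic' R X f _ (X.affineCover.f i)

end Scheme

end Groth.Agent.Lib.Seat74.FlatQF
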