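import Mathlib

/-!
# Seat 74: `Spec` of a localization as a cofiltered limit of basic opens

For a submonoid `M` of a ring `B` and a localization `Bt = M⁻¹B`, the scheme `Spec Bt` is the
limit of the cofiltered diagram of basic opens `D(m) ⊆ Spec B`, `m ∈ M`
(`LocLimit.isLimitCone`).
-/

set_option autoImplicit false
universe u
open CategoryTheory CategoryTheory.Limits AlgebraicGeometry TopologicalSpace

namespace Groth.Agent.Lib.Seat74.LocLimit

variable {B : Type u} [CommRing B] (M : Submonoid B)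

/-- the index type: elements of `M`, ordered by inclusion of basic opens -/
def Idx (M : Submonoid B) : Type u := M

/-- the basic open of `Spec B` attached to `m ∈ M` -/
noncomputable def bo (m : Idx M) : (Spec (CommRingCat.of B)).Opens :=
  PrimeSpectrum.basicOpen ((show M from m : M) : B)

noncomputable instance : Preorder (Idx M) := Preorder.lift (bo M)

theorem le_iff (m m' : Idx M) : m ≤ m' ↔ bo M m ≤ bo M m' := Iff.rfl

instance : Nonempty (Idx M) := ⟨(1 : M)⟩

instance : IsDirected (Idx M) (· ≥ ·) := by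
  refine ⟨fun a b => ⟨((show M from a) * (show M from b) : M), ?_, ?_⟩⟩
  · show bo M _ ≤ bo M a
    intro x hx
    have : x ∈ PrimeSpectrum.basicOpen (((show M from a : M) : B) * ((show M from b : M) : B)) := hx
    rw [PrimeSpectrum.basicOpen_mul] at this
    exact this.1
  · show bo M _ ≤ bo M b
    intro x hx
    have : x ∈ PrimeSpectrum.basicOpen (((show M from a : M) : B) * ((show M from b : M) : B)) := hx
    rw [PrimeSpectrum.basicOpen_mul] at this
    exact this.2

instance : IsCofiltered (Idx M) := isCofiltered_of_directed_ge_nonempty _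

/-- the diagram of basic opens -/
noncomputable abbrev diagram : Idx M ⥤ Scheme.{u} where
  obj m := (bo M m : Scheme.{u})
  map f := (Spec (CommRingCat.of B)).homOfLE (leOfHom f)
  map_id _ := Scheme.homOfLE_rfl _ _
  map_comp _ _ := (Scheme.homOfLE_homOfLE _ _ _).symm

variable (Bt : Type u) [CommRing Bt] [Algebra B Bt] [IsLocalization M Bt]

/-- `Spec Bt → Spec B` -/
noncomputable def e : Spec (CommRingCat.of Bt) ⟶ Spec (CommRingCat.of B) :=
  Spec.map (CommRingCat.ofHom (algebraMap B Bt))

theorem range_e_subset (m : Idx M) : Set.range (e Bt) ⊆ Set.range (bo M m).ι := by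
  rintro _ ⟨q, rfl⟩
  rw [Scheme.Opens.range_ι]
  show ((show M from m : M) : B) ∉ Ideal.comap (algebraMap B Bt) (q : PrimeSpectrum Bt).asIdeal
  intro hmem
  have hu : IsUnit (algebraMap B Bt ((show M from m : M) : B)) :=
    IsLocalization.map_units Bt (show M from m : M)
  exact (q : PrimeSpectrum Bt).2.ne_top (Ideal.eq_top_of_isUnit_mem _ hmem hu)

/-- the projections of the cone -/
noncomputable def proj (m : Idx M) : Spec (CommRingCat.of Bt) ⟶ (bo M m : Scheme.{u}) :=
  IsOpenImmersion.lift (bo M m).ι (e Bt) (range_e_subset M Bt m)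

@[reassoc (attr := simp)] theorem proj_ι (m : Idx M) : proj M Bt m ≫ (bo M m).ι = e Bt :=
  IsOpenImmersion.lift_fac _ _ _

/-- the cone over the diagram of basic opens with apex `Spec Bt` -/
noncomputable def cone : Cone (diagram M) where
  pt := Spec (CommRingCat.of Bt)
  π :=
    { app := fun m => proj M Bt m
      naturality := by
        intro m m' f
        change 𝟙 _ ≫ proj M Bt m' = proj M Bt m ≫ (Spec (CommRingCat.of B)).homOfLE (leOfHom f)
        rw [Category.id_comp, ← cancel_mono (bo M m').ι, Category.assoc, Scheme.homOfLE_ι, proj_ι,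
          proj_ι] }

theorem isUnit_of_basicOpen_eq_top {T : Scheme.{u}} (r : Γ(T, ⊤)) (h : T.basicOpen r = ⊤) :
    IsUnit r := by
  apply RingedSpace.isUnit_of_isUnit_germ T.toRingedSpace ⊤ r
  intro x hx
  have hx' : x ∈ T.basicOpen r := by rw [h]; trivial
  exact (T.mem_basicOpen_top r x).mp hx'

include M in
/-- any morphism to `Spec B` whose image lies in all `D(m)` factors through `Spec Bt` -/
theorem exists_lift {T : Scheme.{u}} (τ : T ⟶ Spec (CommRingCat.of B))
    (hτ : ∀ m : Idx M, τ ⁻¹ᵁ bo M m = ⊤) :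
    ∃ l : T ⟶ Spec (CommRingCat.of Bt), l ≫ e Bt = τ := by
  set ψ : CommRingCat.of B ⟶ Γ(T, ⊤) :=
    (Scheme.ΓSpecIso (CommRingCat.of B)).inv ≫ τ.appTop with hψ
  have hτψ : τ = T.toSpecΓ ≫ Spec.map ψ := by
    rw [hψ, Spec.map_comp, ← Category.assoc, ← Scheme.toSpecΓ_naturality, Category.assoc,
      toSpecΓ_SpecMap_ΓSpecIso_inv, Category.comp_id]
  have hunit : ∀ m : M, IsUnit (ψ.hom (m : B)) := by
    intro m
    apply isUnit_of_basicOpen_eq_top
    rw [← Scheme.toSpecΓ_preimage_basicOpen]
    have h1 := hτ m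
    rw [hτψ, Scheme.Hom.comp_preimage] at h1
    have h2 : (Spec.map ψ ⁻¹ᵁ bo M m : (Spec Γ(T, ⊤)).Opens) =
        (PrimeSpectrum.basicOpen (ψ.hom (m : B)) : (Spec Γ(T, ⊤)).Opens) := by
      ext x
      exact Iff.rfl
    rw [h2] at h1
    exact h1
  let ψ' : Bt →+* Γ(T, ⊤) := IsLocalization.lift (M := M) (g := ψ.hom) hunit
  refine ⟨T.toSpecΓ ≫ Spec.map (CommRingCat.ofHom ψ'), ?_⟩
  rw [e, Category.assoc, ← Spec.map_comp, hτψ]
  congr 2
  ext b
  simp [ψ']

/-- the terminal index `1 ∈ M` -/
def one : Idx M := (1 : M)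

theorem bo_one : bo M (one M) = ⊤ := by
  show (PrimeSpectrum.basicOpen ((1 : M) : B) : (Spec (CommRingCat.of B)).Opens) = ⊤
  rw [Submonoid.coe_one]
  exact PrimeSpectrum.basicOpen_one

theorem le_one (m : Idx M) : m ≤ one M := by
  rw [le_iff, bo_one]; exact le_top

include M in
theorem mono_e : Mono (e (B := B) Bt) := by
  have : IsPreimmersion (e (B := B) Bt) := IsPreimmersion.of_isLocalization (R := B) (S := Bt) M
  infer_instance

theorem cone_w_ι (s : Cone (diagram M)) (m : Idx M) :
    s.π.app m ≫ (bo M m).ι = s.π.app (one M) ≫ (bo M (one M)).ι := by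
  have h1 := s.w (homOfLE (le_one M m))
  have h2 : (diagram M).map (homOfLE (le_one M m)) ≫ (bo M (one M)).ι = (bo M m).ι :=
    Scheme.homOfLE_ι _ (leOfHom (homOfLE (le_one M m)))
  rw [← h1, Category.assoc, h2]

/-- `Spec (M⁻¹B)` is the limit of the basic opens `D(m)`, `m ∈ M`. -/
noncomputable def isLimitCone : IsLimit (cone M Bt) := by
  apply IsLimit.ofExistsUnique
  intro s
  have hτ : ∀ m : Idx M, (s.π.app (one M) ≫ (bo M (one M)).ι) ⁻¹ᵁ bo M m = ⊤ := by
    intro m
    rw [← cone_w_ι M s m]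
    show s.π.app m ⁻¹ᵁ ((bo M m).ι ⁻¹ᵁ bo M m) = ⊤
    have : (bo M m).ι ⁻¹ᵁ bo M m = ⊤ := by
      ext x
      simp
    rw [this, Scheme.Hom.preimage_top]
  obtain ⟨l, hl⟩ : ∃ l : s.pt ⟶ Spec (CommRingCat.of Bt),
      l ≫ e Bt = s.π.app (one M) ≫ (bo M (one M)).ι := exists_lift M Bt _ hτ
  have hfac : ∀ m : Idx M, l ≫ (cone M Bt).π.app m = s.π.app m := by
    intro m
    change l ≫ proj M Bt m = s.π.app m
    rw [← cancel_mono (bo M m).ι, Category.assoc, proj_ι, hl, cone_w_ι M s m]
  refine ⟨l, hfac, ?_⟩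
  intro l' hl'
  have h1 : (show s.pt ⟶ Spec (CommRingCat.of Bt) from l') ≫ proj M Bt (one M) =
      s.π.app (one M) := hl' (one M)
  have key : (show s.pt ⟶ Spec (CommRingCat.of Bt) from l') ≫ e (B := B) Bt =
      l ≫ e (B := B) Bt := by
    rw [hl, ← h1, Category.assoc, proj_ι]
  have := mono_e M Bt
  exact (cancel_mono (e (B := B) Bt)).mp key

theorem isAffineOpen_bo (m : Idx M) : IsAffineOpen (bo M m) :=
  IsAffineOpen.Spec_basicOpen (R := CommRingCat.of B) ((show M from m : M) : B)

instance (m : Idx M) : IsAffine ((diagram M).obj m) := isAffineOpen_bo M m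

instance {m m' : Idx M} (f : m ⟶ m') : IsAffineHom ((diagram M).map f) :=
  isAffineHom_of_isAffine _

instance [IsNoetherianRing B] (m : Idx M) : IsNoetherian ((diagram M).obj m) where
  toIsLocallyNoetherian :=
    inferInstanceAs (IsLocallyNoetherian ((bo M m : (Spec (CommRingCat.of B)).Opens) : Scheme.{u}))
  toCompactSpace := inferInstance

end Groth.Agent.Lib.Seat74.LocLimit
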