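import Mathlib
import Groth.Agent.Lib.Helper12SchDenseExt

/-!
# Seat 74: the Néron mapping property in elementary terms, and its descent along flat surjective
base change

* `ExtProp U y n` : every `S`-morphism `y⁻¹(U) → N` extends uniquely to an `S`-morphism `Y → N`.
* `bijective_iff_extProp` : translation from the `Over.pullback` formulation.
* `extProp_of_flat_surjective` : descent of `ExtProp` along a flat surjective `S' → S`
  (`S` locally Noetherian, `U` schematically dense, `N` separated and locally of finite type).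
-/

set_option autoImplicit false
universe u
open CategoryTheory CategoryTheory.Limits AlgebraicGeometry TopologicalSpace

namespace Groth.Agent.Lib.Seat74.NeronMP

/-- A topological lemma: in a Noetherian quasi-sober space, if an open `A` contains every
generization of `y₀` lying in the open `W`, then `A ⊇ V ∩ W` for some open neighbourhood `V` of
`y₀`. -/
theorem exists_open_nhd_inter_subset {X : Type*} [TopologicalSpace X] [NoetherianSpace X]
    [QuasiSober X] (y₀ : X) {W A : Set X} (hW : IsOpen W) (hA : IsOpen A)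
    (h : ∀ η ∈ W, η ⤳ y₀ → η ∈ A) : ∃ V : Set X, IsOpen V ∧ y₀ ∈ V ∧ V ∩ W ⊆ A := by
  set B := W \ A with hB
  have hCA : closure B ⊆ Aᶜ := by
    apply closure_minimal _ hA.isClosed_compl
    intro x hx
    exact hx.2
  refine ⟨(closure B)ᶜ, isClosed_closure.isOpen_compl, ?_, ?_⟩
  · intro hy
    obtain ⟨T, hTf, hTc, hTi, hTU⟩ :=
      NoetherianSpace.exists_finite_set_isClosed_irreducible (isClosed_closure : IsClosed (closure B))
    -- the components meeting `B`
    have hBsub : B ⊆ ⋃₀ {Z ∈ T | (Z ∩ B).Nonempty} := by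
      intro b hb
      have hbC : b ∈ closure B := subset_closure hb
      rw [hTU] at hbC
      obtain ⟨Z, hZT, hbZ⟩ := hbC
      exact ⟨Z, ⟨hZT, ⟨b, hbZ, hb⟩⟩, hbZ⟩
    have hclosed : IsClosed (⋃₀ {Z ∈ T | (Z ∩ B).Nonempty}) := by
      rw [Set.sUnion_eq_biUnion]
      apply Set.Finite.isClosed_biUnion (hTf.subset (fun Z hZ => hZ.1))
      intro Z hZ
      exact hTc Z hZ.1
    have hy' : y₀ ∈ ⋃₀ {Z ∈ T | (Z ∩ B).Nonempty} := closure_minimal hBsub hclosed hy
    obtain ⟨Z, ⟨hZT, ⟨b, hbZ, hbB⟩⟩, hyZ⟩ := hy'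
    have hgen := (hTi Z hZT).isGenericPoint_genericPoint (hTc Z hZT)
    set ζ := (hTi Z hZT).genericPoint
    have hζb : ζ ⤳ b := hgen.specializes hbZ
    have hζy : ζ ⤳ y₀ := hgen.specializes hyZ
    have hζW : ζ ∈ W := hζb.mem_open hW hbB.1
    have hζZ : ζ ∈ Z := hgen.mem
    have hζC : ζ ∈ closure B := by
      rw [hTU]; exact ⟨Z, hZT, hζZ⟩
    exact hCA hζC (h ζ hζW hζy)
  · rintro x ⟨hxC, hxW⟩
    by_contra hxA
    exact hxC (subset_closure ⟨hxW, hxA⟩)

section ExtProp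

variable {S : Scheme.{u}}

/-- The elementary extension property: every `S`-morphism from the preimage of `U` in `Y` to `N`
extends uniquely to an `S`-morphism `Y → N`. -/
def ExtProp (U : S.Opens) {Y N : Scheme.{u}} (y : Y ⟶ S) (n : N ⟶ S) : Prop :=
  ∀ (W : Scheme.{u}) (j : W ⟶ Y) [IsOpenImmersion j], Set.range j = y ⁻¹' (U : Set S) →
    ∀ k : W ⟶ N, k ≫ n = j ≫ y → ∃! f : Y ⟶ N, f ≫ n = y ∧ j ≫ f = k

theorem extProp_iff (U : S.Opens) {Y N : Scheme.{u}} (y : Y ⟶ S) (n : N ⟶ S)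
    {W₀ : Scheme.{u}} (j₀ : W₀ ⟶ Y) [IsOpenImmersion j₀] (hj₀ : Set.range j₀ = y ⁻¹' (U : Set S)) :
    ExtProp U y n ↔
      ∀ k : W₀ ⟶ N, k ≫ n = j₀ ≫ y → ∃! f : Y ⟶ N, f ≫ n = y ∧ j₀ ≫ f = k := by
  constructor
  · intro h k hk
    exact h W₀ j₀ hj₀ k hk
  · intro h W j _ hj k hk
    let e := IsOpenImmersion.isoOfRangeEq j j₀ (hj.trans hj₀.symm)
    have he : e.hom ≫ j₀ = j := IsOpenImmersion.isoOfRangeEq_hom_fac _ _ _
    have he' : e.inv ≫ j = j₀ := by rw [← he, Iso.inv_hom_id_assoc]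
    obtain ⟨f, ⟨hf1, hf2⟩, hfu⟩ := h (e.inv ≫ k) (by rw [Category.assoc, hk, ← Category.assoc, he'])
    refine ⟨f, ⟨hf1, ?_⟩, ?_⟩
    · rw [← he, Category.assoc, hf2, Iso.hom_inv_id_assoc]
    · rintro f' ⟨hf1', hf2'⟩
      apply hfu
      refine ⟨hf1', ?_⟩
      rw [← he', Category.assoc, hf2']

/-- translation of the `Over.pullback` formulation of the Néron mapping property -/
theorem bijective_iff_extProp (U : S.Opens) (Y N : Over S) :
    Function.Bijective (fun f : Y ⟶ N => (Over.pullback U.ι).map f) ↔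
      ExtProp U Y.hom N.hom := by
  have hrange : Set.range (pullback.fst Y.hom U.ι) = Y.hom ⁻¹' (U : Set S) := by
    rw [Scheme.Pullback.range_fst, Scheme.Opens.range_ι]
  rw [extProp_iff U Y.hom N.hom (pullback.fst Y.hom U.ι) hrange]
  constructor
  · rintro ⟨hinj, hsurj⟩ k hk
    let k' : (Over.pullback U.ι).obj Y ⟶ (Over.pullback U.ι).obj N :=
      Over.homMk (pullback.lift k (pullback.snd Y.hom U.ι) (by rw [hk, pullback.condition]))
        (pullback.lift_snd _ _ _)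
    obtain ⟨f, hf⟩ := hsurj k'
    have hf' := congrArg (fun φ => φ.left ≫ pullback.fst N.hom U.ι) hf
    simp only [Over.pullback_map_left, pullback.lift_fst, k', Over.homMk_left] at hf'
    refine ⟨f.left, ⟨Over.w f, hf'⟩, ?_⟩
    rintro f₁ ⟨h1, h2⟩
    have : Over.homMk f₁ h1 = f := by
      apply hinj
      ext1
      apply pullback.hom_ext
      · simp only [Over.pullback_map_left, pullback.lift_fst, Over.homMk_left, h2, hf']
      · simp only [Over.pullback_map_left, pullback.lift_snd]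
    rw [← this]
    rfl
  · intro h
    constructor
    · intro f₁ f₂ h12
      have h12' := congrArg (fun φ => φ.left ≫ pullback.fst N.hom U.ι) h12
      simp only [Over.pullback_map_left, pullback.lift_fst] at h12'
      obtain ⟨f, -, hfu⟩ := h (pullback.fst Y.hom U.ι ≫ f₁.left)
        (by rw [Category.assoc, Over.w f₁])
      have e1 := hfu f₁.left ⟨Over.w f₁, rfl⟩
      have e2 := hfu f₂.left ⟨Over.w f₂, h12'.symm⟩
      ext1
      rw [e1, e2]
    · intro k'
      have hk' : (k'.left ≫ pullback.fst N.hom U.ι) ≫ N.hom = pullback.fst Y.hom U.ι ≫ Y.hom := by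
        have := Over.w k'
        simp only [Over.pullback_obj_hom] at this
        rw [Category.assoc, pullback.condition, ← Category.assoc, this, pullback.condition]
      obtain ⟨f, ⟨hf1, hf2⟩, -⟩ := h (k'.left ≫ pullback.fst N.hom U.ι) hk'
      refine ⟨Over.homMk f hf1, ?_⟩
      ext1
      apply pullback.hom_ext
      · simp only [Over.pullback_map_left, pullback.lift_fst, Over.homMk_left, hf2]
      · have := Over.w k'
        simp only [Over.pullback_obj_hom] at this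
        simp only [Over.pullback_map_left, pullback.lift_snd, this]

/-- `ExtProp` for a base-changed target amounts to `ExtProp` for the original target. -/
theorem extProp_of_extProp_baseChange {S' : Scheme.{u}} (g : S' ⟶ S) (U : S.Opens)
    {Y' N : Scheme.{u}} (y' : Y' ⟶ S') (n : N ⟶ S)
    (h : ExtProp (g ⁻¹ᵁ U) y' (pullback.snd n g)) : ExtProp U (y' ≫ g) n := by
  intro W j _ hj k hk
  have hj' : Set.range j = y' ⁻¹' ((g ⁻¹ᵁ U : S'.Opens) : Set S') := by
    rw [hj]; rfl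
  obtain ⟨f, ⟨hf1, hf2⟩, hfu⟩ := h W j hj'
    (pullback.lift k (j ≫ y') (by rw [hk, Category.assoc])) (by rw [pullback.lift_snd])
  refine ⟨f ≫ pullback.fst n g, ⟨?_, ?_⟩, ?_⟩
  · rw [Category.assoc, pullback.condition, ← Category.assoc, hf1]
  · rw [← Category.assoc, hf2, pullback.lift_fst]
  · rintro f₁ ⟨h1, h2⟩
    have := hfu (pullback.lift f₁ y' h1) ⟨pullback.lift_snd _ _ _, ?_⟩
    · rw [← this, pullback.lift_fst]
    · apply pullback.hom_ext
      · rw [Category.assoc, pullback.lift_fst, pullback.lift_fst, h2]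
      · rw [Category.assoc, pullback.lift_snd, pullback.lift_snd]

end ExtProp

section Compat

variable {Y N W : Scheme.{u}} (j : W ⟶ Y) (k : W ⟶ N)

/-- `c : T → N` agrees with `k : W → N` on the part of `T` lying over `W` (along `m : T → Y`),
in functor-of-points form. -/
def Compat {T : Scheme.{u}} (m : T ⟶ Y) (c : T ⟶ N) : Prop :=
  ∀ (Z : Scheme.{u}) (a : Z ⟶ T) (b : Z ⟶ W), a ≫ m = b ≫ j → a ≫ c = b ≫ k

variable {j k}

theorem Compat.comp {T T₂ : Scheme.{u}} {m : T ⟶ Y} {c : T ⟶ N} (h : Compat j k m c)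
    (r : T₂ ⟶ T) : Compat j k (r ≫ m) (r ≫ c) := by
  intro Z a b hab
  rw [← Category.assoc]
  exact h Z (a ≫ r) b (by rw [Category.assoc, hab])

theorem Compat.congr {T : Scheme.{u}} {m m' : T ⟶ Y} {c c' : T ⟶ N} (h : Compat j k m c)
    (hm : m = m') (hc : c = c') : Compat j k m' c' := by
  subst hm hc; exact h

theorem compat_id_iff (f : Y ⟶ N) : Compat j k (𝟙 Y) f ↔ j ≫ f = k := by
  constructor
  · intro h
    have := h W j (𝟙 W) (by simp)
    simpa using this
  · intro h Z a b hab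
    rw [Category.comp_id] at hab
    rw [hab, Category.assoc, h]

theorem Compat.of_comp_flat_surjective {T T₂ : Scheme.{u}} (r : T₂ ⟶ T) [Flat r] [Surjective r]
    {m : T ⟶ Y} {c : T ⟶ N} (h : Compat j k (r ≫ m) (r ≫ c)) : Compat j k m c := by
  intro Z a b hab
  have : Epi (pullback.fst a r) := Flat.epi_of_flat_of_surjective _
  rw [← cancel_epi (pullback.fst a r)]
  have := h (pullback a r) (pullback.snd a r) (pullback.fst a r ≫ b)
    (by rw [← Category.assoc, ← pullback.condition, Category.assoc, hab, Category.assoc])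
  rw [← Category.assoc, ← pullback.condition, Category.assoc] at this
  rw [this, Category.assoc]

/-- Two `S`-morphisms from a flat `S`-scheme `T` to the separated `S`-scheme `N` which both
agree with `k` over `U` are equal. -/
theorem compat_unique {S : Scheme.{u}} [IsLocallyNoetherian S] (U : S.Opens)
    (hU : CInt.IsSchematicallyDense U) (y : Y ⟶ S) (n : N ⟶ S) [IsSeparated n]
    [IsOpenImmersion j] (hj : Set.range j = y ⁻¹' (U : Set S))
    {T : Scheme.{u}} (t : T ⟶ S) [Flat t] (m : T ⟶ Y) (hm : m ≫ y = t) (c₁ c₂ : T ⟶ N)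
    (h1 : c₁ ≫ n = t) (h2 : c₂ ≫ n = t) (hc1 : Compat j k m c₁) (hc2 : Compat j k m c₂) :
    c₁ = c₂ := by
  have hdense : CInt.IsSchematicallyDense (t ⁻¹ᵁ U) :=
    Groth.Agent.Lib.Helper12.SchDense.isSchematicallyDense_preimage_of_flat t U hU
  refine Groth.Agent.Lib.Helper12.SchDense.ext_of_isSchematicallyDense n (h1.trans h2.symm)
    (t ⁻¹ᵁ U) hdense ?_
  have hrange : Set.range ((t ⁻¹ᵁ U).ι ≫ m) ⊆ Set.range j := by
    rintro _ ⟨x, rfl⟩
    rw [hj]
    show y (((t ⁻¹ᵁ U).ι ≫ m) x) ∈ U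
    rw [← Scheme.Hom.comp_apply, Category.assoc, hm]
    exact x.2
  have hfac := IsOpenImmersion.lift_fac j ((t ⁻¹ᵁ U).ι ≫ m) hrange
  rw [hc1 _ (t ⁻¹ᵁ U).ι (IsOpenImmersion.lift j ((t ⁻¹ᵁ U).ι ≫ m) hrange) hfac.symm,
    hc2 _ (t ⁻¹ᵁ U).ι (IsOpenImmersion.lift j ((t ⁻¹ᵁ U).ι ≫ m) hrange) hfac.symm]

theorem flat_fromSpecStalk (X : Scheme.{u}) (x : X) : Flat (X.fromSpecStalk x) := by
  obtain ⟨_, ⟨U, hU, rfl⟩, hyU, -⟩ := X.isBasis_affineOpens.exists_subset_of_mem_open
    (Set.mem_univ x) isOpen_univ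
  rw [← hU.fromSpecStalk_eq_fromSpecStalk hyU]
  delta IsAffineOpen.fromSpecStalk
  have : IsOpenImmersion hU.fromSpec := hU.isOpenImmersion_fromSpec
  have : Flat (Spec.map (X.presheaf.germ U x hyU)) := by
    rw [HasRingHomProperty.Spec_iff (P := @Flat)]
    let _ := X.presheaf.algebra_section_stalk ⟨x, hyU⟩
    have := hU.isLocalization_stalk ⟨x, hyU⟩
    have : Module.Flat Γ(X, U) (X.presheaf.stalk x) :=
      IsLocalization.flat _ (hU.primeIdealOf ⟨x, hyU⟩).asIdeal.primeCompl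
    exact (RingHom.flat_algebraMap_iff).mpr this
  infer_instance

/-- the stalk map of a flat morphism induces a flat surjective morphism of local schemes -/
theorem flat_surjective_SpecMap_stalkMap {X X' : Scheme.{u}} (π : X' ⟶ X) [Flat π] (x' : X') :
    Flat (Spec.map (π.stalkMap x')) ∧ Surjective (Spec.map (π.stalkMap x')) := by
  rw [flat_and_surjective_SpecMap_iff]
  algebraize [(π.stalkMap x').hom]
  have : Module.FaithfullyFlat (X.presheaf.stalk (π x')) (X'.presheaf.stalk x') :=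
    @Module.FaithfullyFlat.of_flat_of_isLocalHom _ _ _ _ _ _ _
      (Flat.stalkMap π x') (π.toLRSHom.prop x')
  exact ‹RingHom.FaithfullyFlat _›

/-- **Descent at a local ring.** -/
theorem exists_germ_extension {S : Scheme.{u}} [IsLocallyNoetherian S] (U : S.Opens)
    (hU : CInt.IsSchematicallyDense U) (y : Y ⟶ S) [Flat y] (n : N ⟶ S) [IsSeparated n]
    [IsOpenImmersion j] (hj : Set.range j = y ⁻¹' (U : Set S))
    {Y' : Scheme.{u}} (π : Y' ⟶ Y) [Flat π] (f' : Y' ⟶ N) (hf' : f' ≫ n = π ≫ y)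
    (hc : Compat j k π f') (y₀' : Y') :
    ∃ φ : Spec (Y.presheaf.stalk (π y₀')) ⟶ N,
      φ ≫ n = Y.fromSpecStalk (π y₀') ≫ y ∧ Compat j k (Y.fromSpecStalk (π y₀')) φ := by
  set ρ := Spec.map (π.stalkMap y₀') with hρ
  obtain ⟨hρflat, hρsurj⟩ := flat_surjective_SpecMap_stalkMap π y₀'
  have hρfac : ρ ≫ Y.fromSpecStalk (π y₀') = Y'.fromSpecStalk y₀' ≫ π :=
    Scheme.SpecMap_stalkMap_fromSpecStalk π
  have hflatY : Flat (Y.fromSpecStalk (π y₀')) := flat_fromSpecStalk Y _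
  have hepi : Epi ρ := Flat.epi_of_flat_of_surjective ρ
  set φ' := Y'.fromSpecStalk y₀' ≫ f' with hφ'
  -- the kernel pair condition
  have hker : pullback.fst ρ ρ ≫ φ' = pullback.snd ρ ρ ≫ φ' := by
    refine compat_unique (j := j) (k := k) U hU y n hj
      (pullback.fst ρ ρ ≫ ρ ≫ Y.fromSpecStalk (π y₀') ≫ y)
      (pullback.fst ρ ρ ≫ ρ ≫ Y.fromSpecStalk (π y₀')) (by simp only [Category.assoc]) _ _ ?_ ?_ ?_ ?_
    · rw [hφ', Category.assoc, Category.assoc, hf', ← Category.assoc (Y'.fromSpecStalk y₀'), ← hρfac,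
        Category.assoc]
    · rw [hφ', Category.assoc, Category.assoc, hf', ← Category.assoc (Y'.fromSpecStalk y₀'), ← hρfac,
        Category.assoc, pullback.condition_assoc]
    · refine (hc.comp (pullback.fst ρ ρ ≫ Y'.fromSpecStalk y₀')).congr ?_ ?_
      · rw [Category.assoc, ← hρfac]
      · rw [Category.assoc]
    · refine (hc.comp (pullback.snd ρ ρ ≫ Y'.fromSpecStalk y₀')).congr ?_ ?_
      · rw [Category.assoc, ← hρfac, pullback.condition_assoc]
      · rw [Category.assoc]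
  have hdesc : ∀ {Z : Scheme.{u}} (g₁ g₂ : Z ⟶ Spec (Y'.presheaf.stalk y₀')),
      g₁ ≫ ρ = g₂ ≫ ρ → g₁ ≫ φ' = g₂ ≫ φ' := by
    intro Z g₁ g₂ h12
    calc g₁ ≫ φ' = (pullback.lift g₁ g₂ h12 ≫ pullback.fst ρ ρ) ≫ φ' := by
          rw [pullback.lift_fst]
      _ = (pullback.lift g₁ g₂ h12 ≫ pullback.snd ρ ρ) ≫ φ' := by
          rw [Category.assoc, hker, Category.assoc]
      _ = g₂ ≫ φ' := by rw [pullback.lift_snd]
  have heff : EffectiveEpi ρ := inferInstance
  refine ⟨EffectiveEpi.desc ρ φ' hdesc, ?_, ?_⟩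
  · rw [← cancel_epi ρ, EffectiveEpi.fac_assoc, hφ', Category.assoc, hf',
      ← Category.assoc (Y'.fromSpecStalk y₀'), ← hρfac, Category.assoc]
  · apply Compat.of_comp_flat_surjective ρ
    refine (hc.comp (Y'.fromSpecStalk y₀')).congr hρfac.symm ?_
    rw [EffectiveEpi.fac]

/-- **Spreading out.** An extension over the local ring at `y₀` compatible with `k` spreads out
to an open neighbourhood, compatibly with `k`. -/
theorem exists_nhd_extension_of_germ {S : Scheme.{u}} (y : Y ⟶ S) (n : N ⟶ S)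
    [LocallyOfFiniteType n] [IsLocallyNoetherian Y] [IsOpenImmersion j]
    (y₀ : Y) (φ : Spec (Y.presheaf.stalk y₀) ⟶ N) (hφ : φ ≫ n = Y.fromSpecStalk y₀ ≫ y)
    (hc : Compat j k (Y.fromSpecStalk y₀) φ) :
    ∃ (V : Scheme.{u}) (i : V ⟶ Y) (_ : IsOpenImmersion i) (fV : V ⟶ N),
      y₀ ∈ Set.range i ∧ fV ≫ n = i ≫ y ∧ Compat j k i fV := by
  obtain ⟨V, hV, fV, hfV1, hfV2⟩ := spread_out_of_isGermInjective' y n φ hφ
  obtain ⟨_, ⟨V₀ : Y.Opens, hV₀aff, rfl⟩, hy₀, hsub⟩ :=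
    Y.isBasis_affineOpens.exists_subset_of_mem_open hV V.2
  have hsub' : V₀ ≤ V := hsub
  have : IsNoetherianRing Γ(Y, V₀) := IsLocallyNoetherian.component_noetherian ⟨V₀, hV₀aff⟩
  have hNS : NoetherianSpace V₀ := noetherianSpace_of_isAffineOpen V₀ hV₀aff
  set g₀ : V₀.toScheme ⟶ N := Y.homOfLE hsub' ≫ fV with hg₀
  have hg₀n : g₀ ≫ n = V₀.ι ≫ y := by
    rw [hg₀, Category.assoc, hfV2, Scheme.homOfLE_ι_assoc]
  let y₀' : V₀.toScheme := ⟨y₀, hy₀⟩
  let Wset : Set V₀.toScheme := {x | V₀.ι x ∈ Set.range j}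
  let Aset : Set V₀.toScheme :=
    {x | ∃ O : V₀.toScheme.Opens, x ∈ O ∧ Compat j k (O.ι ≫ V₀.ι) (O.ι ≫ g₀)}
  have hWopen : IsOpen Wset := j.isOpenEmbedding.isOpen_range.preimage V₀.ι.continuous
  have hAopen : IsOpen Aset := by
    rw [isOpen_iff_forall_mem_open]
    rintro x ⟨O, hxO, hO⟩
    exact ⟨O, fun x' hx' => ⟨O, hx', hO⟩, O.2, hxO⟩
  -- key claim
  have hkey : ∀ η ∈ Wset, η ⤳ y₀' → η ∈ Aset := by
    intro η hηW hηy
    have hfstrange : Set.range (pullback.fst V₀.ι j) = V₀.ι ⁻¹' Set.range j :=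
      Scheme.Pullback.range_fst V₀.ι j
    obtain ⟨q, hq⟩ : η ∈ Set.range (pullback.fst V₀.ι j) := by rw [hfstrange]; exact hηW
    have hQN : IsLocallyNoetherian (pullback V₀.ι j) :=
      isLocallyNoetherian_of_isOpenImmersion (pullback.fst V₀.ι j)
    set θ : Spec ((pullback V₀.ι j).presheaf.stalk q) ⟶ Y :=
      (pullback V₀.ι j).fromSpecStalk q ≫ pullback.fst V₀.ι j ≫ V₀.ι with hθ
    have hθcl : θ (IsLocalRing.closedPoint ((pullback V₀.ι j).presheaf.stalk q)) = V₀.ι η := by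
      have e0 : θ (IsLocalRing.closedPoint ((pullback V₀.ι j).presheaf.stalk q)) =
          V₀.ι (pullback.fst V₀.ι j ((pullback V₀.ι j).fromSpecStalk q
            (IsLocalRing.closedPoint ((pullback V₀.ι j).presheaf.stalk q)))) := rfl
      rw [e0, Scheme.fromSpecStalk_closedPoint, hq]
    have hspec : θ (IsLocalRing.closedPoint ((pullback V₀.ι j).presheaf.stalk q)) ⤳ y₀ := by
      rw [hθcl]
      exact hηy.map V₀.ι.continuous
    set a₀ := Spec.map (Scheme.stalkClosedPointTo θ) ≫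
      Spec.map (Y.presheaf.stalkSpecializes hspec) with ha₀
    have ha₀θ : a₀ ≫ Y.fromSpecStalk y₀ = θ := by
      rw [ha₀, Category.assoc, Scheme.SpecMap_stalkSpecializes_fromSpecStalk,
        Scheme.Spec_stalkClosedPointTo_fromSpecStalk]
    have h1 : a₀ ≫ φ = ((pullback V₀.ι j).fromSpecStalk q ≫ pullback.snd V₀.ι j) ≫ k := by
      apply hc
      rw [ha₀θ, hθ, Category.assoc, pullback.condition]
    have h2 : a₀ ≫ V.fromSpecStalkOfMem y₀ hV =
        (pullback V₀.ι j).fromSpecStalk q ≫ pullback.fst V₀.ι j ≫ Y.homOfLE hsub' := by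
      rw [← cancel_mono V.ι, Category.assoc, Scheme.Opens.fromSpecStalkOfMem_ι, ha₀θ, hθ,
        Category.assoc, Category.assoc, Scheme.homOfLE_ι]
    have e : (pullback V₀.ι j).fromSpecStalk q ≫ (pullback.fst V₀.ι j ≫ g₀) =
        (pullback V₀.ι j).fromSpecStalk q ≫ (pullback.snd V₀.ι j ≫ k) := by
      rw [hg₀, ← Category.assoc (pullback.fst V₀.ι j), ← Category.assoc, ← h2, Category.assoc,
        ← hfV1, h1, Category.assoc]
    obtain ⟨OQ, hqOQ, hOQ⟩ := spread_out_unique_of_isGermInjective' _ _ e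
    refine ⟨pullback.fst V₀.ι j ''ᵁ OQ, ⟨q, hqOQ, hq⟩, ?_⟩
    intro Z a' b' hab
    have hcond : (a' ≫ (pullback.fst V₀.ι j ''ᵁ OQ).ι) ≫ V₀.ι = b' ≫ j := by
      rw [Category.assoc, hab]
    have hrange : Set.range (pullback.lift (a' ≫ (pullback.fst V₀.ι j ''ᵁ OQ).ι) b' hcond) ⊆
        Set.range OQ.ι := by
      rintro _ ⟨z, rfl⟩
      rw [Scheme.Opens.range_ι]
      have hz : pullback.fst V₀.ι j (pullback.lift (a' ≫ (pullback.fst V₀.ι j ''ᵁ OQ).ι) b' hcond z) ∈
          (pullback.fst V₀.ι j ''ᵁ OQ : V₀.toScheme.Opens) := by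
        rw [← Scheme.Hom.comp_apply, pullback.lift_fst, Scheme.Hom.comp_apply]
        exact (a' z).2
      obtain ⟨q', hq'OQ, hq'⟩ := hz
      have := (pullback.fst V₀.ι j).isOpenEmbedding.injective hq'
      rw [← this]
      exact hq'OQ
    have hfac := IsOpenImmersion.lift_fac OQ.ι _ hrange
    calc a' ≫ (pullback.fst V₀.ι j ''ᵁ OQ).ι ≫ g₀
        = pullback.lift (a' ≫ (pullback.fst V₀.ι j ''ᵁ OQ).ι) b' hcond ≫
            (pullback.fst V₀.ι j ≫ g₀) := by
          rw [pullback.lift_fst_assoc, Category.assoc]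
      _ = pullback.lift (a' ≫ (pullback.fst V₀.ι j ''ᵁ OQ).ι) b' hcond ≫
            (pullback.snd V₀.ι j ≫ k) := by
          rw [← hfac, Category.assoc, hOQ, Category.assoc]
      _ = b' ≫ k := by rw [← Category.assoc, pullback.lift_snd]
  obtain ⟨V₁set, hV₁open, hy₀V₁, hV₁sub⟩ :=
    exists_open_nhd_inter_subset y₀' hWopen hAopen hkey
  let V₁ : V₀.toScheme.Opens := ⟨V₁set, hV₁open⟩
  refine ⟨V₁.toScheme, V₁.ι ≫ V₀.ι, inferInstance, V₁.ι ≫ g₀, ?_, ?_, ?_⟩
  · exact ⟨⟨y₀', hy₀V₁⟩, rfl⟩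
  · rw [Category.assoc, hg₀n, Category.assoc]
  · intro Z a b hab
    apply Scheme.hom_ext_of_forall
    intro z
    have hxV₁ : (a ≫ V₁.ι) z ∈ V₁set := by
      rw [Scheme.Hom.comp_apply]; exact (a z).2
    have hxW : (a ≫ V₁.ι) z ∈ Wset := by
      show V₀.ι ((a ≫ V₁.ι) z) ∈ Set.range j
      rw [← Scheme.Hom.comp_apply, Category.assoc, hab, Scheme.Hom.comp_apply]
      exact ⟨_, rfl⟩
    obtain ⟨O, hxO, hO⟩ := hV₁sub ⟨hxV₁, hxW⟩
    refine ⟨(a ≫ V₁.ι) ⁻¹ᵁ O, hxO, ?_⟩
    have := hO _ ((a ≫ V₁.ι) ∣_ O) (((a ≫ V₁.ι) ⁻¹ᵁ O).ι ≫ b)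
      (by rw [morphismRestrict_ι_assoc, Category.assoc, Category.assoc, hab])
    rw [morphismRestrict_ι_assoc] at this
    rw [← Category.assoc a, this, Category.assoc]

end Compat

section Main

/-- **Descent of the extension property along a flat surjective base change.** -/
theorem extProp_of_flat_surjective {S S' : Scheme.{u}} [IsLocallyNoetherian S] (g : S' ⟶ S)
    [Flat g] [Surjective g] (U : S.Opens) (hU : CInt.IsSchematicallyDense U)
    {N : Scheme.{u}} (n : N ⟶ S) [IsSeparated n] [LocallyOfFiniteType n]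
    (H : ∀ (Y' : Scheme.{u}) (y' : Y' ⟶ S'), Smooth y' → ExtProp U (y' ≫ g) n)
    {Y : Scheme.{u}} (y : Y ⟶ S) [Smooth y] : ExtProp U y n := by
  intro W j _ hj k hk
  have hYN : IsLocallyNoetherian Y := LocallyOfFiniteType.isLocallyNoetherian y
  -- uniqueness
  have huniq : ∀ f₁ f₂ : Y ⟶ N, (f₁ ≫ n = y ∧ j ≫ f₁ = k) → (f₂ ≫ n = y ∧ j ≫ f₂ = k) →
      f₁ = f₂ := by
    rintro f₁ f₂ ⟨h1, h1'⟩ ⟨h2, h2'⟩
    exact compat_unique (j := j) (k := k) U hU y n hj y (𝟙 Y) (Category.id_comp y) f₁ f₂ h1 h2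
      ((compat_id_iff f₁).mpr h1') ((compat_id_iff f₂).mpr h2')
  -- base change to `S'`
  have hcond : pullback.snd y g ≫ g = pullback.fst y g ≫ y := pullback.condition.symm
  have hrange' : Set.range (pullback.fst (pullback.fst y g) j) =
      (pullback.snd y g ≫ g) ⁻¹' (U : Set S) := by
    rw [Scheme.Pullback.range_fst, hj, hcond]
    rfl
  obtain ⟨f', ⟨hf'1, hf'2⟩, -⟩ := H _ (pullback.snd y g) inferInstance _
    (pullback.fst (pullback.fst y g) j) hrange' (pullback.snd (pullback.fst y g) j ≫ k)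
    (by rw [Category.assoc, hk, hcond, pullback.condition_assoc])
  rw [hcond] at hf'1
  have hc' : Compat j k (pullback.fst y g) f' := by
    intro Z a b hab
    calc a ≫ f' = (pullback.lift a b hab ≫ pullback.fst (pullback.fst y g) j) ≫ f' := by
          rw [pullback.lift_fst]
      _ = (pullback.lift a b hab ≫ pullback.snd (pullback.fst y g) j) ≫ k := by
          rw [Category.assoc, hf'2, Category.assoc]
      _ = b ≫ k := by rw [pullback.lift_snd]
  -- local extensions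
  have hloc : ∀ y₀ : Y, ∃ (V : Scheme.{u}) (i : V ⟶ Y) (_ : IsOpenImmersion i) (fV : V ⟶ N),
      y₀ ∈ Set.range i ∧ fV ≫ n = i ≫ y ∧ Compat j k i fV := by
    intro y₀
    obtain ⟨y₀', rfl⟩ := (inferInstance : Surjective (pullback.fst y g)).surj y₀
    obtain ⟨φ, hφ1, hφ2⟩ := exists_germ_extension (j := j) (k := k) U hU y n hj
      (pullback.fst y g) f' hf'1 hc' y₀'
    exact exists_nhd_extension_of_germ y n _ φ hφ1 hφ2
  choose V i hi fV hmem hfVn hfVc using hloc
  let 𝒰 : Y.OpenCover :=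
    { I₀ := Y, X := V, f := i,
      mem₀ := by
        rw [Scheme.presieve₀_mem_precoverage_iff]
        exact ⟨fun x => ⟨x, hmem x⟩, fun x => hi x⟩ }
  have hglue : ∀ x₁ x₂ : Y, pullback.fst (𝒰.f x₁) (𝒰.f x₂) ≫ fV x₁ =
      pullback.snd (𝒰.f x₁) (𝒰.f x₂) ≫ fV x₂ := by
    intro x₁ x₂
    have : IsOpenImmersion (i x₁) := hi x₁
    have : IsOpenImmersion (i x₂) := hi x₂
    refine compat_unique (j := j) (k := k) U hU y n hj
      (pullback.fst (i x₁) (i x₂) ≫ i x₁ ≫ y) (pullback.fst (i x₁) (i x₂) ≫ i x₁)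
      (by rw [Category.assoc]) _ _ ?_ ?_ ((hfVc x₁).comp _) ?_
    · rw [Category.assoc, hfVn]
    · rw [Category.assoc, hfVn, pullback.condition_assoc]
    · exact ((hfVc x₂).comp (pullback.snd (i x₁) (i x₂))).congr pullback.condition.symm rfl
  refine ⟨𝒰.glueMorphisms fV hglue, ⟨?_, ?_⟩, fun f₁ hf₁ => huniq f₁ _ hf₁ ⟨?_, ?_⟩⟩
  · apply 𝒰.hom_ext
    intro x
    rw [Scheme.Cover.ι_glueMorphisms_assoc]
    exact hfVn x
  · apply (𝒰.pullback₁ j).hom_ext
    intro x
    show pullback.fst j (i x) ≫ j ≫ 𝒰.glueMorphisms fV hglue = pullback.fst j (i x) ≫ k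
    rw [pullback.condition_assoc]
    have : i x ≫ 𝒰.glueMorphisms fV hglue = fV x := 𝒰.ι_glueMorphisms fV hglue x
    rw [this]
    exact hfVc x _ (pullback.snd j (i x)) (pullback.fst j (i x)) pullback.condition.symm
  · apply 𝒰.hom_ext
    intro x
    rw [Scheme.Cover.ι_glueMorphisms_assoc]
    exact hfVn x
  · apply (𝒰.pullback₁ j).hom_ext
    intro x
    show pullback.fst j (i x) ≫ j ≫ 𝒰.glueMorphisms fV hglue = pullback.fst j (i x) ≫ k
    rw [pullback.condition_assoc]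
    have : i x ≫ 𝒰.glueMorphisms fV hglue = fV x := 𝒰.ι_glueMorphisms fV hglue x
    rw [this]
    exact hfVc x _ (pullback.snd j (i x)) (pullback.fst j (i x)) pullback.condition.symm

end Main

end Groth.Agent.Lib.Seat74.NeronMP
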