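import Mathlib
import Groth.Agent.Lib.Seat74NeronMP

/-!
# Seat 74: the Néron mapping property along a non-open "generic fibre" `j : W ⟶ Y`

Generalisation of `Seat74NeronMP` to the case where `U → S` is not an open immersion (e.g. the
generic point `Spec K → S` of an integral scheme).

* `ExtPropAlong j y n` : every `S`-morphism `W → N` extends uniquely along `j : W → Y`.
* `bijective_iff_extPropAlong` : translation from the `Over.pullback` formulation.
* `FlatDominant j` : every flat base change of `j` is scheme-theoretically dominant.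
* `exists_germ_extension'`, `exists_nhd_extension_of_germ'` : fpqc descent to a local ring and
  spreading out, for such `j`.
* `extPropAlong_of_local` : glueing local solutions.
-/

set_option autoImplicit false
universe u
open CategoryTheory CategoryTheory.Limits AlgebraicGeometry TopologicalSpace

namespace Groth.Agent.Lib.Seat74.NeronMP2

open Groth.Agent.Lib.Seat74.NeronMP

/-- A topological lemma: in a Noetherian quasi-sober space, if an open `A` contains every
generization of `y₀` lying in the generization-stable set `W`, then `A ⊇ V ∩ W` for some open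
neighbourhood `V` of `y₀`. -/
theorem exists_open_nhd_inter_subset' {X : Type*} [TopologicalSpace X] [NoetherianSpace X]
    [QuasiSober X] (y₀ : X) {W A : Set X} (hW : StableUnderGeneralization W) (hA : IsOpen A)
    (h : ∀ η ∈ W, η ⤳ y₀ → η ∈ A) : ∃ V : Set X, IsOpen V ∧ y₀ ∈ V ∧ V ∩ W ⊆ A := by
  set B := W \ A with hB
  have hCA : closure B ⊆ Aᶜ := by
    apply closure_minimal _ hA.isClosed_compl
    intro x hx
    exact hx.2
  refine ⟨(closure B)ᶜ, isClosed_closure.isOpen_compl, ?_, ?_⟩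
  · intro hy
    obtain ⟨T, hTf, hTc, hTi, hTU⟩ :=
      NoetherianSpace.exists_finite_set_isClosed_irreducible (isClosed_closure : IsClosed (closure B))
    have hBsub : B ⊆ ⋃₀ {Z ∈ T | (Z ∩ B).Nonempty} := by
      intro b hb
      have hbC : b ∈ closure B := subset_closure hb
      rw [hTU] at hbC
      obtain ⟨Z, hZT, hbZ⟩ := hbC
      exact ⟨Z, ⟨hZT, ⟨b, hbZ, hb⟩⟩, hbZ⟩
    have hclosed : IsClosed (⋃₀ {Z ∈ T | (Z ∩ B).Nonempty}) := by
      rw [Set.sUnion_eq_biUnion]
      apply Set.Finite.isClosed_biUnion (hTf.subset (fun Z hZ => hZ.1))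
      intro Z hZ
      exact hTc Z hZ.1
    have hy' : y₀ ∈ ⋃₀ {Z ∈ T | (Z ∩ B).Nonempty} := closure_minimal hBsub hclosed hy
    obtain ⟨Z, ⟨hZT, ⟨b, hbZ, hbB⟩⟩, hyZ⟩ := hy'
    have hgen := (hTi Z hZT).isGenericPoint_genericPoint (hTc Z hZT)
    set ζ := (hTi Z hZT).genericPoint
    have hζb : ζ ⤳ b := hgen.specializes hbZ
    have hζy : ζ ⤳ y₀ := hgen.specializes hyZ
    have hζW : ζ ∈ W := hW hζb hbB.1
    have hζZ : ζ ∈ Z := hgen.mem
    have hζC : ζ ∈ closure B := by
      rw [hTU]; exact ⟨Z, hZT, hζZ⟩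
    exact hCA hζC (h ζ hζW hζy)
  · rintro x ⟨hxC, hxW⟩
    by_contra hxA
    exact hxC (subset_closure ⟨hxW, hxA⟩)

section ExtPropAlong

/-- The elementary extension property along `j : W ⟶ Y`: every `S`-morphism `W → N` extends
uniquely to an `S`-morphism `Y → N`. -/
def ExtPropAlong {S Y N W : Scheme.{u}} (j : W ⟶ Y) (y : Y ⟶ S) (n : N ⟶ S) : Prop :=
  ∀ k : W ⟶ N, k ≫ n = j ≫ y → ∃! f : Y ⟶ N, f ≫ n = y ∧ j ≫ f = k

/-- translation of the `Over.pullback` formulation of the Néron mapping property -/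
theorem bijective_iff_extPropAlong {S U : Scheme.{u}} (ι : U ⟶ S) (Y N : Over S) :
    Function.Bijective (fun f : Y ⟶ N => (Over.pullback ι).map f) ↔
      ExtPropAlong (pullback.fst Y.hom ι) Y.hom N.hom := by
  constructor
  · rintro ⟨hinj, hsurj⟩ k hk
    let k' : (Over.pullback ι).obj Y ⟶ (Over.pullback ι).obj N :=
      Over.homMk (pullback.lift k (pullback.snd Y.hom ι) (by rw [hk, pullback.condition]))
        (pullback.lift_snd _ _ _)
    obtain ⟨f, hf⟩ := hsurj k'
    have hf' := congrArg (fun φ => φ.left ≫ pullback.fst N.hom ι) hf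
    simp only [Over.pullback_map_left, pullback.lift_fst, k', Over.homMk_left] at hf'
    refine ⟨f.left, ⟨Over.w f, hf'⟩, ?_⟩
    rintro f₁ ⟨h1, h2⟩
    have : Over.homMk f₁ h1 = f := by
      apply hinj
      ext1
      apply pullback.hom_ext
      · simp only [Over.pullback_map_left, pullback.lift_fst, Over.homMk_left, h2, hf']
      · simp only [Over.pullback_map_left, pullback.lift_snd]
    rw [← this]
    rfl
  · intro h
    constructor
    · intro f₁ f₂ h12
      have h12' := congrArg (fun φ => φ.left ≫ pullback.fst N.hom ι) h12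
      simp only [Over.pullback_map_left, pullback.lift_fst] at h12'
      obtain ⟨f, -, hfu⟩ := h (pullback.fst Y.hom ι ≫ f₁.left)
        (by rw [Category.assoc, Over.w f₁])
      have e1 := hfu f₁.left ⟨Over.w f₁, rfl⟩
      have e2 := hfu f₂.left ⟨Over.w f₂, h12'.symm⟩
      ext1
      rw [e1, e2]
    · intro k'
      have hk' : (k'.left ≫ pullback.fst N.hom ι) ≫ N.hom = pullback.fst Y.hom ι ≫ Y.hom := by
        have := Over.w k'
        simp only [Over.pullback_obj_hom] at this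
        rw [Category.assoc, pullback.condition, ← Category.assoc, this, pullback.condition]
      obtain ⟨f, ⟨hf1, hf2⟩, -⟩ := h (k'.left ≫ pullback.fst N.hom ι) hk'
      refine ⟨Over.homMk f hf1, ?_⟩
      ext1
      apply pullback.hom_ext
      · simp only [Over.pullback_map_left, pullback.lift_fst, Over.homMk_left, hf2]
      · have := Over.w k'
        simp only [Over.pullback_obj_hom] at this
        simp only [Over.pullback_map_left, pullback.lift_snd, this]

/-- `ExtPropAlong` for a base-changed target amounts to `ExtPropAlong` for the original target. -/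
theorem extPropAlong_of_baseChange {S S' : Scheme.{u}} (g : S' ⟶ S)
    {Y' N W : Scheme.{u}} (j : W ⟶ Y') (y' : Y' ⟶ S') (n : N ⟶ S)
    (h : ExtPropAlong j y' (pullback.snd n g)) : ExtPropAlong j (y' ≫ g) n := by
  intro k hk
  obtain ⟨f, ⟨hf1, hf2⟩, hfu⟩ := h
    (pullback.lift k (j ≫ y') (by rw [hk, Category.assoc])) (by rw [pullback.lift_snd])
  refine ⟨f ≫ pullback.fst n g, ⟨?_, ?_⟩, ?_⟩
  · rw [Category.assoc, pullback.condition, ← Category.assoc, hf1]
  · rw [← Category.assoc, hf2, pullback.lift_fst]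
  · rintro f₁ ⟨h1, h2⟩
    have := hfu (pullback.lift f₁ y' h1) ⟨pullback.lift_snd _ _ _, ?_⟩
    · rw [← this, pullback.lift_fst]
    · apply pullback.hom_ext
      · rw [Category.assoc, pullback.lift_fst, pullback.lift_fst, h2]
      · rw [Category.assoc, pullback.lift_snd, pullback.lift_snd]

end ExtPropAlong

section Dominant

/-- every flat base change of `j` is scheme-theoretically dominant -/
def FlatDominant {W Y : Scheme.{u}} (j : W ⟶ Y) : Prop :=
  ∀ (T : Scheme.{u}) (m : T ⟶ Y), Flat m → IsSchemeTheoreticallyDominant (pullback.fst m j)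

theorem flatDominant_pullback_fst {S U Y : Scheme.{u}} (y : Y ⟶ S) [Flat y] (ι : U ⟶ S)
    [QuasiCompact ι] [IsSchemeTheoreticallyDominant ι] : FlatDominant (pullback.fst y ι) := by
  intro T m hm
  have h1 : IsPullback (pullback.snd m (pullback.fst y ι)) (pullback.fst m (pullback.fst y ι))
      (pullback.fst y ι) m := (IsPullback.of_hasPullback _ _).flip
  have h2 : IsPullback (pullback.snd y ι) (pullback.fst y ι) ι y :=
    (IsPullback.of_hasPullback _ _).flip
  exact IsSchemeTheoreticallyDominant.of_isPullback (h1.paste_horiz h2)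

/-- a closed immersion through which a scheme-theoretically dominant morphism factors is an
isomorphism -/
theorem isIso_of_dominant_factors {A E Z : Scheme.{u}} (e : E ⟶ Z) [IsClosedImmersion e]
    (d : A ⟶ Z) [IsSchemeTheoreticallyDominant d] (l : A ⟶ E) (hl : l ≫ e = d) : IsIso e := by
  rw [IsClosedImmersion.isIso_iff_ker_eq_bot, eq_bot_iff]
  have := Scheme.Hom.le_ker_comp l e
  rw [hl, d.ker_eq_bot] at this
  exact this

/-- two morphisms to a separated `S`-scheme which agree after composing with a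
scheme-theoretically dominant morphism agree -/
theorem ext_of_dominant {A Z Y S : Scheme.{u}} {a b : Z ⟶ Y} (s : Y ⟶ S) [IsSeparated s]
    (h : a ≫ s = b ≫ s) (d : A ⟶ Z) [IsSchemeTheoreticallyDominant d]
    (hab : d ≫ a = d ≫ b) : a = b := by
  let X' : Over S := Over.mk (a ≫ s)
  let Y' : Over S := Over.mk s
  let U' : Over S := Over.mk (d ≫ a ≫ s)
  let f' : X' ⟶ Y' := Over.homMk a
  let g' : X' ⟶ Y' := Over.homMk b (by simp [X', Y', h])
  let ι' : U' ⟶ X' := Over.homMk d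
  have : IsSeparated Y'.hom := ‹_›
  have hι' : ι' ≫ f' = ι' ≫ g' := by ext1; exact hab
  have hfac : (equalizer.lift ι' hι').left ≫ (equalizer.ι f' g').left = d := by
    rw [← Over.comp_left, equalizer.lift_ι]
    rfl
  have := isIso_of_dominant_factors (Z := Z) (equalizer.ι f' g').left d
    (equalizer.lift ι' hι').left hfac
  rw [← cancel_epi (equalizer.ι f' g').left]
  exact congr($(equalizer.condition f' g').left)

end Dominant

section Compat

variable {Y N W : Scheme.{u}} {j : W ⟶ Y} {k : W ⟶ N}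

/-- Two morphisms from a flat `Y`-scheme `T` to the separated `S`-scheme `N` which both
agree with `k` over `W` are equal. -/
theorem compat_unique' {S : Scheme.{u}} (hj : FlatDominant j) (n : N ⟶ S) [IsSeparated n]
    {T : Scheme.{u}} (m : T ⟶ Y) [Flat m] (c₁ c₂ : T ⟶ N) (h : c₁ ≫ n = c₂ ≫ n)
    (hc1 : Compat j k m c₁) (hc2 : Compat j k m c₂) : c₁ = c₂ := by
  have := hj T m inferInstance
  refine ext_of_dominant n h (pullback.fst m j) ?_
  rw [hc1 _ (pullback.fst m j) (pullback.snd m j) pullback.condition,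
    hc2 _ (pullback.fst m j) (pullback.snd m j) pullback.condition]

/-- **Descent at a local ring.** -/
theorem exists_germ_extension' {S : Scheme.{u}} (hj : FlatDominant j) (y : Y ⟶ S) (n : N ⟶ S)
    [IsSeparated n] {Y' : Scheme.{u}} (π : Y' ⟶ Y) [Flat π] (f' : Y' ⟶ N)
    (hf' : f' ≫ n = π ≫ y) (hc : Compat j k π f') (y₀' : Y') :
    ∃ φ : Spec (Y.presheaf.stalk (π y₀')) ⟶ N,
      φ ≫ n = Y.fromSpecStalk (π y₀') ≫ y ∧ Compat j k (Y.fromSpecStalk (π y₀')) φ := by
  set ρ := Spec.map (π.stalkMap y₀') with hρ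
  obtain ⟨hρflat, hρsurj⟩ := flat_surjective_SpecMap_stalkMap π y₀'
  have hρfac : ρ ≫ Y.fromSpecStalk (π y₀') = Y'.fromSpecStalk y₀' ≫ π :=
    Scheme.SpecMap_stalkMap_fromSpecStalk π
  have hflatY : Flat (Y.fromSpecStalk (π y₀')) := flat_fromSpecStalk Y _
  have hepi : Epi ρ := Flat.epi_of_flat_of_surjective ρ
  set φ' := Y'.fromSpecStalk y₀' ≫ f' with hφ'
  -- the kernel pair condition
  have hker : pullback.fst ρ ρ ≫ φ' = pullback.snd ρ ρ ≫ φ' := by
    refine compat_unique' (j := j) (k := k) hj n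
      (pullback.fst ρ ρ ≫ ρ ≫ Y.fromSpecStalk (π y₀')) _ _ ?_ ?_ ?_
    · rw [hφ', Category.assoc, Category.assoc, Category.assoc, Category.assoc, hf',
        ← Category.assoc (Y'.fromSpecStalk y₀'), ← hρfac, Category.assoc, pullback.condition_assoc]
    · refine (hc.comp (pullback.fst ρ ρ ≫ Y'.fromSpecStalk y₀')).congr ?_ ?_
      · rw [Category.assoc, ← hρfac]
      · rw [Category.assoc]
    · refine (hc.comp (pullback.snd ρ ρ ≫ Y'.fromSpecStalk y₀')).congr ?_ ?_
      · rw [Category.assoc, ← hρfac, pullback.condition_assoc]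
      · rw [Category.assoc]
  have hdesc : ∀ {Z : Scheme.{u}} (g₁ g₂ : Z ⟶ Spec (Y'.presheaf.stalk y₀')),
      g₁ ≫ ρ = g₂ ≫ ρ → g₁ ≫ φ' = g₂ ≫ φ' := by
    intro Z g₁ g₂ h12
    calc g₁ ≫ φ' = (pullback.lift g₁ g₂ h12 ≫ pullback.fst ρ ρ) ≫ φ' := by
          rw [pullback.lift_fst]
      _ = (pullback.lift g₁ g₂ h12 ≫ pullback.snd ρ ρ) ≫ φ' := by
          rw [Category.assoc, hker, Category.assoc]
      _ = g₂ ≫ φ' := by rw [pullback.lift_snd]
  have heff : EffectiveEpi ρ := inferInstance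
  refine ⟨EffectiveEpi.desc ρ φ' hdesc, ?_, ?_⟩
  · rw [← cancel_epi ρ, EffectiveEpi.fac_assoc, hφ', Category.assoc, hf',
      ← Category.assoc (Y'.fromSpecStalk y₀'), ← hρfac, Category.assoc]
  · apply Compat.of_comp_flat_surjective ρ
    refine (hc.comp (Y'.fromSpecStalk y₀')).congr hρfac.symm ?_
    rw [EffectiveEpi.fac]

/-- **Spreading out.** An extension over the local ring at `y₀` compatible with `k` spreads out
to an open neighbourhood, compatibly with `k`. -/
theorem exists_nhd_extension_of_germ' {S : Scheme.{u}} (y : Y ⟶ S) (n : N ⟶ S)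
    [LocallyOfFiniteType n] [IsLocallyNoetherian Y] [IsLocallyNoetherian W] [IsPreimmersion j]
    (hjgen : StableUnderGeneralization (Set.range j))
    (y₀ : Y) (φ : Spec (Y.presheaf.stalk y₀) ⟶ N) (hφ : φ ≫ n = Y.fromSpecStalk y₀ ≫ y)
    (hc : Compat j k (Y.fromSpecStalk y₀) φ) :
    ∃ (V : Scheme.{u}) (i : V ⟶ Y) (_ : IsOpenImmersion i) (fV : V ⟶ N),
      y₀ ∈ Set.range i ∧ fV ≫ n = i ≫ y ∧ Compat j k i fV := by
  obtain ⟨V, hV, fV, hfV1, hfV2⟩ := spread_out_of_isGermInjective' y n φ hφ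
  obtain ⟨_, ⟨V₀ : Y.Opens, hV₀aff, rfl⟩, hy₀, hsub⟩ :=
    Y.isBasis_affineOpens.exists_subset_of_mem_open hV V.2
  have hsub' : V₀ ≤ V := hsub
  have : IsNoetherianRing Γ(Y, V₀) := IsLocallyNoetherian.component_noetherian ⟨V₀, hV₀aff⟩
  have hNS : NoetherianSpace V₀ := noetherianSpace_of_isAffineOpen V₀ hV₀aff
  set g₀ : V₀.toScheme ⟶ N := Y.homOfLE hsub' ≫ fV with hg₀
  have hg₀n : g₀ ≫ n = V₀.ι ≫ y := by
    rw [hg₀, Category.assoc, hfV2, Scheme.homOfLE_ι_assoc]
  let y₀' : V₀.toScheme := ⟨y₀, hy₀⟩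
  let Wset : Set V₀.toScheme := V₀.ι ⁻¹' Set.range j
  let Aset : Set V₀.toScheme :=
    {x | ∃ O : V₀.toScheme.Opens, x ∈ O ∧ Compat j k (O.ι ≫ V₀.ι) (O.ι ≫ g₀)}
  have hWgen : StableUnderGeneralization Wset := hjgen.preimage V₀.ι.continuous
  have hAopen : IsOpen Aset := by
    rw [isOpen_iff_forall_mem_open]
    rintro x ⟨O, hxO, hO⟩
    exact ⟨O, fun x' hx' => ⟨O, hx', hO⟩, O.2, hxO⟩
  -- key claim
  have hkey : ∀ η ∈ Wset, η ⤳ y₀' → η ∈ Aset := by
    intro η hηW hηy
    have hfstrange : Set.range (pullback.fst V₀.ι j) = V₀.ι ⁻¹' Set.range j :=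
      Scheme.Pullback.range_fst V₀.ι j
    obtain ⟨q, hq⟩ : η ∈ Set.range (pullback.fst V₀.ι j) := by rw [hfstrange]; exact hηW
    have hQN : IsLocallyNoetherian (pullback V₀.ι j) :=
      isLocallyNoetherian_of_isOpenImmersion (pullback.snd V₀.ι j)
    set θ : Spec ((pullback V₀.ι j).presheaf.stalk q) ⟶ Y :=
      (pullback V₀.ι j).fromSpecStalk q ≫ pullback.fst V₀.ι j ≫ V₀.ι with hθ
    have hθcl : θ (IsLocalRing.closedPoint ((pullback V₀.ι j).presheaf.stalk q)) = V₀.ι η := by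
      have e0 : θ (IsLocalRing.closedPoint ((pullback V₀.ι j).presheaf.stalk q)) =
          V₀.ι (pullback.fst V₀.ι j ((pullback V₀.ι j).fromSpecStalk q
            (IsLocalRing.closedPoint ((pullback V₀.ι j).presheaf.stalk q)))) := rfl
      rw [e0, Scheme.fromSpecStalk_closedPoint, hq]
    have hspec : θ (IsLocalRing.closedPoint ((pullback V₀.ι j).presheaf.stalk q)) ⤳ y₀ := by
      rw [hθcl]
      exact hηy.map V₀.ι.continuous
    set a₀ := Spec.map (Scheme.stalkClosedPointTo θ) ≫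
      Spec.map (Y.presheaf.stalkSpecializes hspec) with ha₀
    have ha₀θ : a₀ ≫ Y.fromSpecStalk y₀ = θ := by
      rw [ha₀, Category.assoc, Scheme.SpecMap_stalkSpecializes_fromSpecStalk,
        Scheme.Spec_stalkClosedPointTo_fromSpecStalk]
    have h1 : a₀ ≫ φ = ((pullback V₀.ι j).fromSpecStalk q ≫ pullback.snd V₀.ι j) ≫ k := by
      apply hc
      rw [ha₀θ, hθ, Category.assoc, pullback.condition]
    have h2 : a₀ ≫ V.fromSpecStalkOfMem y₀ hV =
        (pullback V₀.ι j).fromSpecStalk q ≫ pullback.fst V₀.ι j ≫ Y.homOfLE hsub' := by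
      rw [← cancel_mono V.ι, Category.assoc, Scheme.Opens.fromSpecStalkOfMem_ι, ha₀θ, hθ,
        Category.assoc, Category.assoc, Scheme.homOfLE_ι]
    have e : (pullback V₀.ι j).fromSpecStalk q ≫ (pullback.fst V₀.ι j ≫ g₀) =
        (pullback V₀.ι j).fromSpecStalk q ≫ (pullback.snd V₀.ι j ≫ k) := by
      rw [hg₀, ← Category.assoc (pullback.fst V₀.ι j), ← Category.assoc, ← h2, Category.assoc,
        ← hfV1, h1, Category.assoc]
    obtain ⟨OQ, hqOQ, hOQ⟩ := spread_out_unique_of_isGermInjective' _ _ e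
    -- `OQ` is the preimage of an open of `V₀`
    have hemb : Topology.IsEmbedding (pullback.fst V₀.ι j) :=
      (pullback.fst V₀.ι j).isEmbedding
    obtain ⟨O'set, hO'open, hO'pre⟩ := hemb.isInducing.isOpen_iff.mp OQ.2
    let O' : V₀.toScheme.Opens := ⟨O'set, hO'open⟩
    refine ⟨O', ?_, ?_⟩
    · show η ∈ O'set
      rw [← hq]
      have : q ∈ pullback.fst V₀.ι j ⁻¹' O'set := by rw [hO'pre]; exact hqOQ
      exact this
    intro Z a' b' hab
    have hcond : (a' ≫ O'.ι) ≫ V₀.ι = b' ≫ j := by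
      rw [Category.assoc, hab]
    have hrange : Set.range (pullback.lift (a' ≫ O'.ι) b' hcond) ⊆ Set.range OQ.ι := by
      rintro _ ⟨z, rfl⟩
      rw [Scheme.Opens.range_ι]
      have hz : pullback.fst V₀.ι j (pullback.lift (a' ≫ O'.ι) b' hcond z) ∈ O'set := by
        rw [← Scheme.Hom.comp_apply, pullback.lift_fst, Scheme.Hom.comp_apply]
        exact (a' z).2
      have : pullback.lift (a' ≫ O'.ι) b' hcond z ∈ pullback.fst V₀.ι j ⁻¹' O'set := hz
      rw [hO'pre] at this
      exact this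
    have hfac := IsOpenImmersion.lift_fac OQ.ι _ hrange
    calc a' ≫ O'.ι ≫ g₀
        = pullback.lift (a' ≫ O'.ι) b' hcond ≫ (pullback.fst V₀.ι j ≫ g₀) := by
          rw [pullback.lift_fst_assoc, Category.assoc]
      _ = pullback.lift (a' ≫ O'.ι) b' hcond ≫ (pullback.snd V₀.ι j ≫ k) := by
          rw [← hfac, Category.assoc, hOQ, Category.assoc]
      _ = b' ≫ k := by rw [← Category.assoc, pullback.lift_snd]
  obtain ⟨V₁set, hV₁open, hy₀V₁, hV₁sub⟩ :=
    exists_open_nhd_inter_subset' y₀' hWgen hAopen hkey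
  let V₁ : V₀.toScheme.Opens := ⟨V₁set, hV₁open⟩
  refine ⟨V₁.toScheme, V₁.ι ≫ V₀.ι, inferInstance, V₁.ι ≫ g₀, ?_, ?_, ?_⟩
  · exact ⟨⟨y₀', hy₀V₁⟩, rfl⟩
  · rw [Category.assoc, hg₀n, Category.assoc]
  · intro Z a b hab
    apply Scheme.hom_ext_of_forall
    intro z
    have hxV₁ : (a ≫ V₁.ι) z ∈ V₁set := by
      rw [Scheme.Hom.comp_apply]; exact (a z).2
    have hxW : (a ≫ V₁.ι) z ∈ Wset := by
      show V₀.ι ((a ≫ V₁.ι) z) ∈ Set.range j
      rw [← Scheme.Hom.comp_apply, Category.assoc, hab, Scheme.Hom.comp_apply]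
      exact ⟨_, rfl⟩
    obtain ⟨O, hxO, hO⟩ := hV₁sub ⟨hxV₁, hxW⟩
    refine ⟨(a ≫ V₁.ι) ⁻¹ᵁ O, hxO, ?_⟩
    have := hO _ ((a ≫ V₁.ι) ∣_ O) (((a ≫ V₁.ι) ⁻¹ᵁ O).ι ≫ b)
      (by rw [morphismRestrict_ι_assoc, Category.assoc, Category.assoc, hab])
    rw [morphismRestrict_ι_assoc] at this
    rw [← Category.assoc a, this, Category.assoc]

/-- **Glueing.** -/
theorem existsUnique_of_local {S : Scheme.{u}} (hj : FlatDominant j) (y : Y ⟶ S) (n : N ⟶ S)
    [IsSeparated n]
    (hloc : ∀ y₀ : Y, ∃ (V : Scheme.{u}) (i : V ⟶ Y) (_ : IsOpenImmersion i) (fV : V ⟶ N),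
      y₀ ∈ Set.range i ∧ fV ≫ n = i ≫ y ∧ Compat j k i fV) :
    ∃! f : Y ⟶ N, f ≫ n = y ∧ j ≫ f = k := by
  have huniq : ∀ f₁ f₂ : Y ⟶ N, (f₁ ≫ n = y ∧ j ≫ f₁ = k) → (f₂ ≫ n = y ∧ j ≫ f₂ = k) →
      f₁ = f₂ := by
    rintro f₁ f₂ ⟨h1, h1'⟩ ⟨h2, h2'⟩
    exact compat_unique' (j := j) (k := k) hj n (𝟙 Y) f₁ f₂ (h1.trans h2.symm)
      ((compat_id_iff f₁).mpr h1') ((compat_id_iff f₂).mpr h2')
  choose V i hi fV hmem hfVn hfVc using hloc
  let 𝒰 : Y.OpenCover :=
    { I₀ := Y, X := V, f := i,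
      mem₀ := by
        rw [Scheme.presieve₀_mem_precoverage_iff]
        exact ⟨fun x => ⟨x, hmem x⟩, fun x => hi x⟩ }
  have hglue : ∀ x₁ x₂ : Y, pullback.fst (𝒰.f x₁) (𝒰.f x₂) ≫ fV x₁ =
      pullback.snd (𝒰.f x₁) (𝒰.f x₂) ≫ fV x₂ := by
    intro x₁ x₂
    have : IsOpenImmersion (i x₁) := hi x₁
    have : IsOpenImmersion (i x₂) := hi x₂
    refine compat_unique' (j := j) (k := k) hj n
      (pullback.fst (i x₁) (i x₂) ≫ i x₁) _ _ ?_ ((hfVc x₁).comp _) ?_
    · rw [Category.assoc, hfVn, Category.assoc, hfVn, pullback.condition_assoc]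
    · exact ((hfVc x₂).comp (pullback.snd (i x₁) (i x₂))).congr pullback.condition.symm rfl
  have hg1 : 𝒰.glueMorphisms fV hglue ≫ n = y := by
    apply 𝒰.hom_ext
    intro x
    rw [Scheme.Cover.ι_glueMorphisms_assoc]
    exact hfVn x
  have hg2 : j ≫ 𝒰.glueMorphisms fV hglue = k := by
    apply (𝒰.pullback₁ j).hom_ext
    intro x
    show pullback.fst j (i x) ≫ j ≫ 𝒰.glueMorphisms fV hglue = pullback.fst j (i x) ≫ k
    rw [pullback.condition_assoc]
    have : i x ≫ 𝒰.glueMorphisms fV hglue = fV x := 𝒰.ι_glueMorphisms fV hglue x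
    rw [this]
    exact hfVc x _ (pullback.snd j (i x)) (pullback.fst j (i x)) pullback.condition.symm
  exact ⟨𝒰.glueMorphisms fV hglue, ⟨hg1, hg2⟩, fun f₁ hf₁ => huniq f₁ _ hf₁ ⟨hg1, hg2⟩⟩

/-- **Main criterion.** If every point of `Y` lies in the image of a flat `π : Y' → Y` over which
the extension problem for `k` has a (compatible) solution, then `k` extends uniquely. -/
theorem extPropAlong_of_flat_local {S : Scheme.{u}} (y : Y ⟶ S) (n : N ⟶ S)
    [IsSeparated n] [LocallyOfFiniteType n] [IsLocallyNoetherian Y] [IsLocallyNoetherian W]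
    [IsPreimmersion j] (hj : FlatDominant j)
    (hjgen : StableUnderGeneralization (Set.range j))
    (H : ∀ k : W ⟶ N, k ≫ n = j ≫ y → ∀ y₀ : Y, ∃ (Y' : Scheme.{u}) (π : Y' ⟶ Y) (_ : Flat π)
      (f' : Y' ⟶ N), y₀ ∈ Set.range π ∧ f' ≫ n = π ≫ y ∧ Compat j k π f') :
    ExtPropAlong j y n := by
  intro k hk
  apply existsUnique_of_local hj y n
  intro y₀
  obtain ⟨Y', π, hπ, f', ⟨y₀', rfl⟩, hf'1, hc'⟩ := H k hk y₀
  obtain ⟨φ, hφ1, hφ2⟩ := exists_germ_extension' (j := j) (k := k) hj y n π f' hf'1 hc' y₀'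
  exact exists_nhd_extension_of_germ' y n hjgen _ φ hφ1 hφ2

end Compat

end Groth.Agent.Lib.Seat74.NeronMP2
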