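import Mathlib
import Groth.Agent.Lib.Seat74NeronMP2

/-!
# Seat 74: more formal properties of `ExtPropAlong`, and the generic point of a finite extension

* `extPropAlong_baseChange_iff` : the extension property for a base-changed target.
* `extPropAlong_iso_iff` : invariance under isomorphisms of the source of `j`.
* `isPullback_genPt` : for a domain `R'` algebraic and torsion-free over a domain `R`,
  `Spec Frac R' = Spec R' ×_{Spec R} Spec Frac R`.
-/

set_option autoImplicit false
universe u
open CategoryTheory CategoryTheory.Limits AlgebraicGeometry TopologicalSpace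

namespace Groth.Agent.Lib.Seat74.NeronBC

open Groth.Agent.Lib.Seat74.NeronMP Groth.Agent.Lib.Seat74.NeronMP2

theorem extPropAlong_baseChange_iff {S S' : Scheme.{u}} (g : S' ⟶ S)
    {Y' N W : Scheme.{u}} (j : W ⟶ Y') (y' : Y' ⟶ S') (n : N ⟶ S) :
    ExtPropAlong j y' (pullback.snd n g) ↔ ExtPropAlong j (y' ≫ g) n := by
  refine ⟨extPropAlong_of_baseChange g j y' n, ?_⟩
  intro h k hk
  obtain ⟨f, ⟨hf1, hf2⟩, hfu⟩ := h (k ≫ pullback.fst n g)
    (by rw [Category.assoc, pullback.condition, ← Category.assoc, hk, Category.assoc])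
  refine ⟨pullback.lift f y' hf1, ⟨pullback.lift_snd _ _ _, ?_⟩, ?_⟩
  · apply pullback.hom_ext
    · rw [Category.assoc, pullback.lift_fst, hf2]
    · rw [Category.assoc, pullback.lift_snd, hk]
  · rintro f₁ ⟨h1, h2⟩
    have := hfu (f₁ ≫ pullback.fst n g) ⟨?_, ?_⟩
    · apply pullback.hom_ext
      · rw [pullback.lift_fst, this]
      · rw [pullback.lift_snd, h1]
    · rw [Category.assoc, pullback.condition, ← Category.assoc, h1]
    · rw [← Category.assoc, h2]

theorem extPropAlong_iso_iff {S Y N W W' : Scheme.{u}} (e : W' ≅ W) (j : W ⟶ Y) (y : Y ⟶ S)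
    (n : N ⟶ S) : ExtPropAlong (e.hom ≫ j) y n ↔ ExtPropAlong j y n := by
  constructor
  · intro h k hk
    obtain ⟨f, ⟨hf1, hf2⟩, hfu⟩ := h (e.hom ≫ k) (by rw [Category.assoc, hk, Category.assoc])
    refine ⟨f, ⟨hf1, ?_⟩, ?_⟩
    · rw [← cancel_epi e.hom, ← Category.assoc, hf2]
    · rintro f₁ ⟨h1, h2⟩
      exact hfu f₁ ⟨h1, by rw [Category.assoc, h2]⟩
  · intro h k hk
    obtain ⟨f, ⟨hf1, hf2⟩, hfu⟩ := h (e.inv ≫ k)
      (by rw [Category.assoc, hk, Category.assoc, Iso.inv_hom_id_assoc])
    refine ⟨f, ⟨hf1, ?_⟩, ?_⟩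
    · rw [Category.assoc, hf2, Iso.hom_inv_id_assoc]
    · rintro f₁ ⟨h1, h2⟩
      exact hfu f₁ ⟨h1, by rw [← h2, Category.assoc, Iso.inv_hom_id_assoc]⟩

open scoped nonZeroDivisors in
/-- For a domain `R'` algebraic over a domain `R` with `R → R'` injective, the generic point of
`Spec R'` is the base change of the generic point of `Spec R`. -/
theorem isPullback_genPt (R R' : Type u) [CommRing R] [IsDomain R] [CommRing R'] [IsDomain R']
    [Algebra R R'] [FaithfulSMul R R'] [Algebra.IsAlgebraic R R'] :
    ∃ κ : Spec (CommRingCat.of (FractionRing R')) ⟶ Spec (CommRingCat.of (FractionRing R)),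
      IsPullback κ (Spec.map (CommRingCat.ofHom (algebraMap R' (FractionRing R'))))
        (Spec.map (CommRingCat.ofHom (algebraMap R (FractionRing R))))
        (Spec.map (CommRingCat.ofHom (algebraMap R R'))) := by
  have hle : R⁰ ≤ (R'⁰).comap (algebraMap R R') :=
    nonZeroDivisors_le_comap_nonZeroDivisors_of_injective _
      (FaithfulSMul.algebraMap_injective R R')
  let fₘ : FractionRing R →+* FractionRing R' :=
    IsLocalization.map (FractionRing R') (algebraMap R R') hle
  have H : fₘ.comp (algebraMap R (FractionRing R)) =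
      (algebraMap R' (FractionRing R')).comp (algebraMap R R') := IsLocalization.map_comp hle
  have : IsLocalization (R⁰.map (algebraMap R R')) (FractionRing R') :=
    inferInstanceAs (IsLocalization (Algebra.algebraMapSubmonoid R' R⁰) (FractionRing R'))
  have hpo := CommRingCat.isPushout_of_isLocalization (algebraMap R R') fₘ H R⁰
  exact ⟨Spec.map (CommRingCat.ofHom fₘ), (isPullback_SpecMap_of_isPushout _ _ _ _ hpo).flip⟩

end Groth.Agent.Lib.Seat74.NeronBC
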