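import Mathlib
import Groth.Agent.Lib.Seat74NeronMP

/-!
# Seat 74: the Néron mapping property passes to cofiltered limits with affine transition maps

`extProp_of_isLimit` : if `D` is a cofiltered diagram of Noetherian `S`-schemes with affine
transition maps, each having the extension property `ExtProp U (t.app i) n` w.r.t. an `S`-scheme
`N` locally of finite presentation, then the limit has the extension property too.
-/

set_option autoImplicit false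
universe u
open CategoryTheory CategoryTheory.Limits AlgebraicGeometry TopologicalSpace

namespace Groth.Agent.Lib.Seat74.NeronLim

open Groth.Agent.Lib.Seat74.NeronMP

variable {I : Type u} [Category.{u} I] {S N : Scheme.{u}} (D : I ⥤ Scheme.{u})
  (t : D ⟶ (Functor.const I).obj S) (n : N ⟶ S) (c : Cone D) (hc : IsLimit c)

/-- the structure morphism of the limit does not depend on the index -/
theorem π_app_comp_t_app [IsCofiltered I] (i j : I) :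
    c.π.app i ≫ t.app i = c.π.app j ≫ t.app j := by
  have h1 : c.π.app (IsCofiltered.min i j) ≫ t.app (IsCofiltered.min i j) =
      c.π.app i ≫ t.app i := by
    have := t.naturality (IsCofiltered.minToLeft i j)
    simp only [Functor.const_obj_obj, Functor.const_obj_map, Category.comp_id] at this
    rw [← this, ← Category.assoc, c.w]
  have h2 : c.π.app (IsCofiltered.min i j) ≫ t.app (IsCofiltered.min i j) =
      c.π.app j ≫ t.app j := by
    have := t.naturality (IsCofiltered.minToRight i j)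
    simp only [Functor.const_obj_obj, Functor.const_obj_map, Category.comp_id] at this
    rw [← this, ← Category.assoc, c.w]
  rw [← h1, h2]

theorem map_comp_t_app {i j : I} (f : i ⟶ j) : D.map f ≫ t.app j = t.app i := by
  have := t.naturality f
  simpa only [Functor.const_obj_obj, Functor.const_obj_map, Category.comp_id] using this

theorem compactSpace_opens {X : Scheme.{u}} [IsNoetherian X] (V : X.Opens) :
    CompactSpace (V : Scheme.{u}) :=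
  isCompact_iff_compactSpace.mp (NoetherianSpace.isCompact (V : Set X))

include hc in
/-- existence part -/
theorem exists_extension [IsCofiltered I] [LocallyOfFinitePresentation n]
    [∀ {i j} (f : i ⟶ j), IsAffineHom (D.map f)] [∀ i, IsNoetherian (D.obj i)]
    (U : S.Opens) (H : ∀ i, ExtProp U (t.app i) n) (i₀ : I)
    (U' : (D.obj i₀).Opens) (hU' : U' = t.app i₀ ⁻¹ᵁ U)
    (k : ((c.π.app i₀ ⁻¹ᵁ U' : c.pt.Opens) : Scheme.{u}) ⟶ N)
    (hk : k ≫ n = (c.π.app i₀ ⁻¹ᵁ U').ι ≫ c.π.app i₀ ≫ t.app i₀) :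
    ∃ f : c.pt ⟶ N, f ≫ n = c.π.app i₀ ≫ t.app i₀ ∧ (c.π.app i₀ ⁻¹ᵁ U').ι ≫ f = k := by
  have hcomp : ∀ j : Over i₀, CompactSpace ((opensDiagram D i₀ U').obj j) := fun j =>
    compactSpace_opens _
  have hqs : ∀ j : Over i₀, QuasiSeparatedSpace ((opensDiagram D i₀ U').obj j) := fun j => by
    have : IsLocallyNoetherian ((D.map j.hom ⁻¹ᵁ U' : (D.obj j.left).Opens) : Scheme.{u}) :=
      isLocallyNoetherian_of_isOpenImmersion (D.map j.hom ⁻¹ᵁ U').ι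
    show QuasiSeparatedSpace ((D.map j.hom ⁻¹ᵁ U' : (D.obj j.left).Opens) : Scheme.{u})
    infer_instance
  have hres : ∀ j : Over i₀, (opensCone D c i₀ U').π.app j ≫ (D.map j.hom ⁻¹ᵁ U').ι =
      (c.π.app i₀ ⁻¹ᵁ U').ι ≫ c.π.app j.left := fun j => Scheme.Hom.resLE_comp_ι _ _
  have hclean : ∀ j : Over i₀,
      ((c.π.app i₀ ⁻¹ᵁ U').ι ≫ c.π.app j.left) ≫ t.app j.left = k ≫ n := fun j => by
    rw [Category.assoc, hk, π_app_comp_t_app D t c j.left i₀]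
  obtain ⟨j, g, hg1, hg2⟩ := Scheme.exists_π_app_comp_eq_of_locallyOfFinitePresentation
    (opensDiagram D i₀ U') (opensDiagramι D i₀ U' ≫ (Over.forget i₀).whiskerLeft t) n
    (opensCone D c i₀ U') (isLimitOpensCone D c hc i₀ U') k (by
      ext j : 2
      change (opensCone D c i₀ U').π.app j ≫ (D.map j.hom ⁻¹ᵁ U').ι ≫ t.app j.left = k ≫ n
      exact ((Category.assoc _ _ _).symm.trans (congrArg (· ≫ t.app j.left) (hres j))).trans
        (hclean j))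
  have hg2' : g ≫ n = (D.map j.hom ⁻¹ᵁ U').ι ≫ t.app j.left := hg2
  have hrange : Set.range (D.map j.hom ⁻¹ᵁ U').ι = t.app j.left ⁻¹' (U : Set S) := by
    rw [Scheme.Opens.range_ι, hU', ← Scheme.Hom.comp_preimage, map_comp_t_app D t j.hom]
    rfl
  obtain ⟨fj, ⟨hfj1, hfj2⟩, -⟩ := H j.left _ (D.map j.hom ⁻¹ᵁ U').ι hrange g hg2'
  refine ⟨c.π.app j.left ≫ fj, ?_, ?_⟩
  · rw [Category.assoc, hfj1, π_app_comp_t_app D t c j.left i₀]
  · rw [← hg1, ← hfj2]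
    exact ((Category.assoc _ _ _).symm.trans (congrArg (· ≫ fj) (hres j).symm)).trans
      (Category.assoc _ _ _)

include hc in
/-- uniqueness part -/
theorem unique_extension [IsCofiltered I] [LocallyOfFinitePresentation n]
    [∀ {i j} (f : i ⟶ j), IsAffineHom (D.map f)] [∀ i, IsNoetherian (D.obj i)]
    (U : S.Opens) (H : ∀ i, ExtProp U (t.app i) n) (i₀ : I)
    (W : c.pt.Opens) (hW : W = (c.π.app i₀ ≫ t.app i₀) ⁻¹ᵁ U)
    (f₁ f₂ : c.pt ⟶ N) (h1 : f₁ ≫ n = c.π.app i₀ ≫ t.app i₀)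
    (h2 : f₂ ≫ n = c.π.app i₀ ≫ t.app i₀) (h12 : W.ι ≫ f₁ = W.ι ≫ f₂) : f₁ = f₂ := by
  have hcs : ∀ i, CompactSpace (D.obj i) := fun i => inferInstance
  have hqs0 : ∀ i, QuasiSeparatedSpace (D.obj i) := fun i => inferInstance
  obtain ⟨i₁, g₁, hg₁, hg₁'⟩ := Scheme.exists_π_app_comp_eq_of_locallyOfFinitePresentation
    D t n c hc f₁ (by
      ext j : 2
      simp only [NatTrans.comp_app, Functor.const_map_app]
      rw [h1, π_app_comp_t_app D t c j i₀])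
  obtain ⟨i₂, g₂, hg₂, hg₂'⟩ := Scheme.exists_π_app_comp_eq_of_locallyOfFinitePresentation
    D t n c hc f₂ (by
      ext j : 2
      simp only [NatTrans.comp_app, Functor.const_map_app]
      rw [h2, π_app_comp_t_app D t c j i₀])
  set i₃ := IsCofiltered.min i₁ i₂ with hi₃
  set g₁' := D.map (IsCofiltered.minToLeft i₁ i₂) ≫ g₁ with hg₁'def
  set g₂' := D.map (IsCofiltered.minToRight i₁ i₂) ≫ g₂ with hg₂'def
  have e1 : c.π.app i₃ ≫ g₁' = f₁ := by rw [hg₁'def, ← Category.assoc, c.w, hg₁]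
  have e2 : c.π.app i₃ ≫ g₂' = f₂ := by rw [hg₂'def, ← Category.assoc, c.w, hg₂]
  have e1' : g₁' ≫ n = t.app i₃ := by
    rw [hg₁'def, Category.assoc, hg₁', map_comp_t_app]
  have e2' : g₂' ≫ n = t.app i₃ := by
    rw [hg₂'def, Category.assoc, hg₂', map_comp_t_app]
  -- the `U`-part at stage `i₃`
  obtain ⟨U₃, hU₃⟩ : ∃ U₃ : (D.obj i₃).Opens, U₃ = t.app i₃ ⁻¹ᵁ U := ⟨_, rfl⟩
  have hcomp : ∀ j : Over i₃, CompactSpace ((opensDiagram D i₃ U₃).obj j) := fun j =>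
    compactSpace_opens _
  have hWeq : c.π.app i₃ ⁻¹ᵁ U₃ = W := by
    rw [hW, hU₃, ← Scheme.Hom.comp_preimage, π_app_comp_t_app D t c i₃ i₀]
  have hres : ∀ j : Over i₃, (opensCone D c i₃ U₃).π.app j ≫ (D.map j.hom ⁻¹ᵁ U₃).ι =
      (c.π.app i₃ ⁻¹ᵁ U₃).ι ≫ c.π.app j.left := fun j => Scheme.Hom.resLE_comp_ι _ _
  have hιW : (c.π.app i₃ ⁻¹ᵁ U₃).ι = c.pt.homOfLE hWeq.le ≫ W.ι := (c.pt.homOfLE_ι hWeq.le).symm
  have hagree : (c.π.app i₃ ⁻¹ᵁ U₃).ι ≫ f₁ = (c.π.app i₃ ⁻¹ᵁ U₃).ι ≫ f₂ := by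
    rw [hιW, Category.assoc, h12, Category.assoc]
  set o : Over i₃ := Over.mk (𝟙 i₃) with ho
  have hab : (opensCone D c i₃ U₃).π.app o ≫ ((D.map o.hom ⁻¹ᵁ U₃).ι ≫ g₁') =
      (opensCone D c i₃ U₃).π.app o ≫ ((D.map o.hom ⁻¹ᵁ U₃).ι ≫ g₂') := by
    have ea : ∀ g : D.obj i₃ ⟶ N, (opensCone D c i₃ U₃).π.app o ≫ ((D.map o.hom ⁻¹ᵁ U₃).ι ≫ g) =
        (c.π.app i₃ ⁻¹ᵁ U₃).ι ≫ c.π.app i₃ ≫ g := fun g =>
      ((Category.assoc _ _ _).symm.trans (congrArg (· ≫ g) (hres o))).trans (Category.assoc _ _ _)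
    rw [ea g₁', ea g₂', e1, e2, hagree]
  obtain ⟨k, hik, hk⟩ := Scheme.exists_hom_comp_eq_comp_of_locallyOfFiniteType
    (opensDiagram D i₃ U₃) (opensDiagramι D i₃ U₃ ≫ (Over.forget i₃).whiskerLeft t) n
    (opensCone D c i₃ U₃) (isLimitOpensCone D c hc i₃ U₃) (i := o)
    ((D.map o.hom ⁻¹ᵁ U₃).ι ≫ g₁') ((D.map o.hom ⁻¹ᵁ U₃).ι ≫ g₂')
    (by
      change (D.map o.hom ⁻¹ᵁ U₃).ι ≫ t.app i₃ = ((D.map o.hom ⁻¹ᵁ U₃).ι ≫ g₁') ≫ n
      rw [Category.assoc, e1'])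
    (by
      change (D.map o.hom ⁻¹ᵁ U₃).ι ≫ t.app i₃ = ((D.map o.hom ⁻¹ᵁ U₃).ι ≫ g₂') ≫ n
      rw [Category.assoc, e2'])
    hab
  -- at stage `k.left`
  have hmap : (opensDiagram D i₃ U₃).map hik ≫ (D.map o.hom ⁻¹ᵁ U₃).ι =
      (D.map k.hom ⁻¹ᵁ U₃).ι ≫ D.map hik.left := Scheme.Hom.resLE_comp_ι _ _
  have hk' : (D.map k.hom ⁻¹ᵁ U₃).ι ≫ (D.map hik.left ≫ g₁') =
      (D.map k.hom ⁻¹ᵁ U₃).ι ≫ (D.map hik.left ≫ g₂') := by
    have ea : ∀ g : D.obj i₃ ⟶ N, (opensDiagram D i₃ U₃).map hik ≫ ((D.map o.hom ⁻¹ᵁ U₃).ι ≫ g) =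
        (D.map k.hom ⁻¹ᵁ U₃).ι ≫ (D.map hik.left ≫ g) := fun g =>
      ((Category.assoc _ _ _).symm.trans (congrArg (· ≫ g) hmap)).trans (Category.assoc _ _ _)
    rw [← ea g₁', ← ea g₂']
    exact hk
  have hrange : Set.range (D.map k.hom ⁻¹ᵁ U₃).ι = t.app k.left ⁻¹' (U : Set S) := by
    rw [Scheme.Opens.range_ι, hU₃, ← Scheme.Hom.comp_preimage, map_comp_t_app D t k.hom]
    rfl
  have hmt : D.map hik.left ≫ t.app i₃ = t.app k.left := map_comp_t_app D t hik.left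
  obtain ⟨f, -, hfu⟩ := H k.left _ (D.map k.hom ⁻¹ᵁ U₃).ι hrange
    ((D.map k.hom ⁻¹ᵁ U₃).ι ≫ (D.map hik.left ≫ g₁'))
    (by rw [Category.assoc, Category.assoc, e1', hmt])
  have u1 := hfu (D.map hik.left ≫ g₁') ⟨by rw [Category.assoc, e1', hmt], rfl⟩
  have u2 := hfu (D.map hik.left ≫ g₂') ⟨by rw [Category.assoc, e2', hmt], hk'.symm⟩
  have hw : c.π.app k.left ≫ D.map hik.left = c.π.app i₃ := c.w hik.left
  rw [← e1, ← e2, ← hw, Category.assoc, Category.assoc, u1, u2]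

include hc in
/-- **The extension property passes to cofiltered limits with affine transition maps.** -/
theorem extProp_of_isLimit [IsCofiltered I] [LocallyOfFinitePresentation n]
    [∀ {i j} (f : i ⟶ j), IsAffineHom (D.map f)] [∀ i, IsNoetherian (D.obj i)]
    (U : S.Opens) (H : ∀ i, ExtProp U (t.app i) n) (i₀ : I) :
    ExtProp U (c.π.app i₀ ≫ t.app i₀) n := by
  have hrange : Set.range (c.π.app i₀ ⁻¹ᵁ (t.app i₀ ⁻¹ᵁ U)).ι =
      (c.π.app i₀ ≫ t.app i₀) ⁻¹' (U : Set S) := by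
    rw [Scheme.Opens.range_ι]
    rfl
  rw [extProp_iff U _ n (c.π.app i₀ ⁻¹ᵁ (t.app i₀ ⁻¹ᵁ U)).ι hrange]
  intro k hk
  obtain ⟨f, hf1, hf2⟩ := exists_extension D t n c hc U H i₀ _ rfl k hk
  refine ⟨f, ⟨hf1, hf2⟩, ?_⟩
  rintro f' ⟨h1', h2'⟩
  exact unique_extension D t n c hc U H i₀ (c.π.app i₀ ⁻¹ᵁ (t.app i₀ ⁻¹ᵁ U))
    (by rw [Scheme.Hom.comp_preimage]) f' f h1' hf1 (h2'.trans hf2.symm)

end Groth.Agent.Lib.Seat74.NeronLim
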