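import Mathlib
import Groth.Agent.Lib.Helper18EssEtale

/-!
# Seat 74: spreading out a smooth algebra over a localization at a prime

If `Bt` is a smooth algebra over `A_p`, then there is a smooth `A`-algebra `B` such that
`Bt` is the localization of `B` at the image of `A ∖ p` (`exists_smooth_spread`).
-/

set_option autoImplicit false
universe u

namespace Groth.Agent.Lib.Seat74.SmoothSpread

theorem comap_mem_smoothLocus {A C Bt : Type u} [CommRing A] [CommRing C] [CommRing Bt]
    [Algebra A C] [Algebra C Bt] [Algebra A Bt] [IsScalarTower A C Bt] (M' : Submonoid C)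
    [IsLocalization M' Bt] [Algebra.FormallySmooth A Bt] (P' : PrimeSpectrum Bt) :
    PrimeSpectrum.comap (algebraMap C Bt) P' ∈ Algebra.smoothLocus A C := by
  let q := PrimeSpectrum.comap (algebraMap C Bt) P'
  have : IsLocalization.AtPrime (Localization.AtPrime P'.asIdeal) q.asIdeal :=
    IsLocalization.isLocalization_isLocalization_atPrime_isLocalization M' _ P'.asIdeal
  have h1 : Algebra.FormallySmooth A (Localization.AtPrime P'.asIdeal) := by
    have : Algebra.FormallySmooth Bt (Localization.AtPrime P'.asIdeal) :=
      Algebra.FormallySmooth.of_isLocalization P'.asIdeal.primeCompl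
    exact Algebra.FormallySmooth.comp A Bt _
  show Algebra.FormallySmooth A (Localization.AtPrime q.asIdeal)
  refine (Algebra.FormallySmooth.iff_of_equiv ?_).mpr h1
  exact (IsLocalization.algEquiv q.asIdeal.primeCompl _ _).restrictScalars A

theorem exists_smooth_spread (A : Type u) [CommRing A] (p : Ideal A) [p.IsPrime]
    (Ap : Type u) [CommRing Ap] [Algebra A Ap] [IsLocalization.AtPrime Ap p]
    (Bt : Type u) [CommRing Bt] [Algebra Ap Bt] [Algebra A Bt] [IsScalarTower A Ap Bt]
    [Algebra.Smooth Ap Bt] :
    ∃ (B : Type u) (_ : CommRing B) (_ : Algebra A B) (_ : Algebra B Bt)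
      (_ : IsScalarTower A B Bt),
      Algebra.Smooth A B ∧ IsLocalization (Algebra.algebraMapSubmonoid B p.primeCompl) Bt := by
  have hfpBt : Algebra.FinitePresentation Ap Bt := inferInstance
  obtain ⟨C, _, _, _, _, hfp, hloc⟩ := Groth.Agent.Lib.Helper18EssEtale.spread A p Ap Bt
  have : Algebra.FormallySmooth A Ap := Algebra.FormallySmooth.of_isLocalization p.primeCompl
  have : Algebra.FormallySmooth A Bt := Algebra.FormallySmooth.comp A Ap Bt
  obtain ⟨M', hM'⟩ : ∃ M' : Submonoid C, M' = Algebra.algebraMapSubmonoid C p.primeCompl :=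
    ⟨_, rfl⟩
  rw [← hM'] at hloc
  let Z : Set (PrimeSpectrum C) := (Algebra.smoothLocus A C)ᶜ
  have hZ : IsClosed Z := Algebra.isOpen_smoothLocus.isClosed_compl
  let I := PrimeSpectrum.vanishingIdeal Z
  have hI : PrimeSpectrum.zeroLocus (I : Set C) = Z := by
    rw [PrimeSpectrum.zeroLocus_vanishingIdeal_eq_closure, hZ.closure_eq]
  have hnd : ¬ Disjoint (I : Set C) (M' : Set C) := by
    intro hd
    obtain ⟨P, hPprime, hIP, hPd⟩ := Ideal.exists_le_prime_disjoint I M' hd
    have hPZ : (⟨P, hPprime⟩ : PrimeSpectrum C) ∈ Z := by rw [← hI]; exact hIP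
    apply hPZ
    have hP'prime : (Ideal.map (algebraMap C Bt) P).IsPrime :=
      IsLocalization.isPrime_of_isPrime_disjoint M' Bt P hPprime hPd.symm
    have hcomap := IsLocalization.comap_map_of_isPrime_disjoint M' Bt hPprime hPd.symm
    have := comap_mem_smoothLocus (A := A) M' ⟨_, hP'prime⟩
    convert this using 1
    ext1
    exact hcomap.symm
  obtain ⟨x, hxI, hxM⟩ := Set.not_disjoint_iff.mp hnd
  have hsub : (PrimeSpectrum.basicOpen x : Set (PrimeSpectrum C)) ⊆ Algebra.smoothLocus A C := by
    intro P hP
    by_contra hPs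
    have hPZ : P ∈ Z := hPs
    rw [← hI] at hPZ
    exact hP (hPZ hxI)
  have hsm : Algebra.Smooth A (Localization.Away x) :=
    Algebra.basicOpen_subset_smoothLocus_iff_smooth.mp hsub
  have hu : IsUnit (algebraMap C Bt x) := IsLocalization.map_units Bt (⟨x, hxM⟩ : M')
  letI : Algebra (Localization.Away x) Bt := (IsLocalization.Away.lift x hu).toAlgebra
  have htC : IsScalarTower C (Localization.Away x) Bt :=
    IsScalarTower.of_algebraMap_eq' (IsLocalization.Away.lift_comp x hu).symm
  have htA : IsScalarTower A (Localization.Away x) Bt := by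
    apply IsScalarTower.of_algebraMap_eq
    intro a
    rw [IsScalarTower.algebraMap_apply A C Bt, IsScalarTower.algebraMap_apply C (Localization.Away x) Bt,
      ← IsScalarTower.algebraMap_apply A C (Localization.Away x)]
  refine ⟨Localization.Away x, inferInstance, inferInstance, inferInstance, htA, hsm, ?_⟩
  have hle : Submonoid.powers x ≤ M' := (Submonoid.powers_le).mpr hxM
  have := IsLocalization.isLocalization_of_submonoid_le (Localization.Away x) Bt
    (Submonoid.powers x) M' hle
  have heq : M'.map (algebraMap C (Localization.Away x)) =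
      Algebra.algebraMapSubmonoid (Localization.Away x) p.primeCompl := by
    rw [hM']
    exact Algebra.algebraMapSubmonoid_map_map p.primeCompl
  rw [← heq]
  exact this

end Groth.Agent.Lib.Seat74.SmoothSpread
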