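import Mathlib
import Groth.Agent.Lib.Seat74NeronMP
import Groth.Agent.Lib.Seat74NeronMP2
import Groth.Agent.Lib.Seat74NeronBC
import Groth.Agent.Lib.Seat74NeronLim
import Groth.Agent.Lib.Seat74LocLimit
import Groth.Agent.Lib.Seat74SmoothSpread

/-!
# Seat 74: the Néron mapping property localises at `Spec 𝒪_{S,s}`

* `extProp_of_affine`: the extension property can be checked on affine opens of the source.
* `extProp_of_atPrime`: the extension property for all smooth `S`-schemes implies it for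
  `Spec Bt → Spec A → S`, `Bt` smooth over a localization `A_p` (spreading out + limits).
* `extProp_fromSpecStalk`: the scheme version.
-/

set_option autoImplicit false
universe u
open CategoryTheory CategoryTheory.Limits AlgebraicGeometry TopologicalSpace

namespace Groth.Agent.Lib.Seat74.NeronLoc

open Groth.Agent.Lib.Seat74.NeronMP Groth.Agent.Lib.Seat74.NeronMP2

variable {S Y N : Scheme.{u}}

theorem compat_iff {W : Scheme.{u}} (j : W ⟶ Y) (k : W ⟶ N) {T : Scheme.{u}} (o : T ⟶ Y)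
    (c : T ⟶ N) : Compat j k o c ↔ pullback.fst o j ≫ c = pullback.snd o j ≫ k := by
  constructor
  · intro h
    exact h _ _ _ pullback.condition
  · intro h Z a b hab
    have h1 : pullback.lift a b hab ≫ pullback.fst o j = a := pullback.lift_fst _ _ _
    have h2 : pullback.lift a b hab ≫ pullback.snd o j = b := pullback.lift_snd _ _ _
    rw [← h1, Category.assoc, h, ← Category.assoc, h2]

theorem exists_affine_nhd (T : Scheme.{u}) (x : T) :
    ∃ (R : CommRingCat.{u}) (o : Spec R ⟶ T), IsOpenImmersion o ∧ x ∈ Set.range o :=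
  ⟨T.affineOpenCover.X (T.affineOpenCover.idx x), T.affineOpenCover.f _, inferInstance,
    T.affineOpenCover.covers x⟩

theorem hom_ext_of_local {T : Scheme.{u}} (c₁ c₂ : T ⟶ N)
    (h : ∀ x : T, ∃ (V : Scheme.{u}) (i : V ⟶ T) (_ : IsOpenImmersion i),
      x ∈ Set.range i ∧ i ≫ c₁ = i ≫ c₂) : c₁ = c₂ := by
  choose V i hi hmem heq using h
  let 𝒰 : T.OpenCover :=
    { I₀ := T, X := V, f := i,
      mem₀ := by
        rw [Scheme.presieve₀_mem_precoverage_iff]
        exact ⟨fun x => ⟨x, hmem x⟩, fun x => hi x⟩ }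
  exact 𝒰.hom_ext _ _ heq

/-- the extension property can be checked on the affine opens of the source -/
theorem extProp_of_affine (U : S.Opens) (y : Y ⟶ S) (n : N ⟶ S)
    (H : ∀ (R : CommRingCat.{u}) (o : Spec R ⟶ Y) [IsOpenImmersion o], ExtProp U (o ≫ y) n) :
    ExtProp U y n := by
  intro W j _ hj k hk
  have h1 : ∀ (R : CommRingCat.{u}) (o : Spec R ⟶ Y) [IsOpenImmersion o],
      ∃! c : Spec R ⟶ N, c ≫ n = o ≫ y ∧ Compat j k o c := by
    intro R o _
    have hr : Set.range (pullback.fst o j) = (o ≫ y) ⁻¹' (U : Set S) := by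
      rw [Scheme.Pullback.range_fst, hj]
      rfl
    obtain ⟨c, ⟨hc1, hc2⟩, hcu⟩ := H R o _ (pullback.fst o j) hr (pullback.snd o j ≫ k)
      (by rw [Category.assoc, hk, ← Category.assoc, ← pullback.condition, Category.assoc])
    refine ⟨c, ⟨hc1, (compat_iff j k o c).mpr hc2⟩, ?_⟩
    rintro c' ⟨h1, h2⟩
    exact hcu c' ⟨h1, (compat_iff j k o c').mp h2⟩
  have h2 : ∀ (T : Scheme.{u}) (o : T ⟶ Y) [IsOpenImmersion o] (c₁ c₂ : T ⟶ N),
      c₁ ≫ n = o ≫ y → c₂ ≫ n = o ≫ y → Compat j k o c₁ → Compat j k o c₂ → c₁ = c₂ := by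
    intro T o _ c₁ c₂ e1 e2 hc1 hc2
    apply hom_ext_of_local
    intro x
    obtain ⟨R, i, hi, hx⟩ := exists_affine_nhd T x
    refine ⟨_, i, hi, hx, ?_⟩
    obtain ⟨c, -, hcu⟩ := h1 R (i ≫ o)
    rw [hcu (i ≫ c₁) ⟨by rw [Category.assoc, e1, Category.assoc], hc1.comp _⟩,
      hcu (i ≫ c₂) ⟨by rw [Category.assoc, e2, Category.assoc], hc2.comp _⟩]
  have hloc : ∀ y₀ : Y, ∃ (V : Scheme.{u}) (i : V ⟶ Y) (_ : IsOpenImmersion i) (fV : V ⟶ N),
      y₀ ∈ Set.range i ∧ fV ≫ n = i ≫ y ∧ Compat j k i fV := by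
    intro y₀
    obtain ⟨R, i, hi, hx⟩ := exists_affine_nhd Y y₀
    obtain ⟨c, ⟨hc1, hc2⟩, -⟩ := h1 R i
    exact ⟨_, i, hi, c, hx, hc1, hc2⟩
  choose V i hi fV hmem hfVn hfVc using hloc
  let 𝒰 : Y.OpenCover :=
    { I₀ := Y, X := V, f := i,
      mem₀ := by
        rw [Scheme.presieve₀_mem_precoverage_iff]
        exact ⟨fun x => ⟨x, hmem x⟩, fun x => hi x⟩ }
  have hglue : ∀ x₁ x₂ : Y, pullback.fst (𝒰.f x₁) (𝒰.f x₂) ≫ fV x₁ =
      pullback.snd (𝒰.f x₁) (𝒰.f x₂) ≫ fV x₂ := by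
    intro x₁ x₂
    have : IsOpenImmersion (i x₁) := hi x₁
    have : IsOpenImmersion (i x₂) := hi x₂
    refine h2 _ (pullback.fst (i x₁) (i x₂) ≫ i x₁) _ _ ?_ ?_ ((hfVc x₁).comp _) ?_
    · rw [Category.assoc, hfVn, Category.assoc]
    · show (pullback.snd (i x₁) (i x₂) ≫ fV x₂) ≫ n = (pullback.fst (i x₁) (i x₂) ≫ i x₁) ≫ y
      rw [Category.assoc, hfVn, Category.assoc, pullback.condition_assoc]
    · exact ((hfVc x₂).comp (pullback.snd (i x₁) (i x₂))).congr pullback.condition.symm rfl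
  have hg1 : 𝒰.glueMorphisms fV hglue ≫ n = y := by
    apply 𝒰.hom_ext
    intro x
    rw [Scheme.Cover.ι_glueMorphisms_assoc]
    exact hfVn x
  have hg2 : j ≫ 𝒰.glueMorphisms fV hglue = k := by
    apply (𝒰.pullback₁ j).hom_ext
    intro x
    show pullback.fst j (i x) ≫ j ≫ 𝒰.glueMorphisms fV hglue = pullback.fst j (i x) ≫ k
    rw [pullback.condition_assoc]
    have : i x ≫ 𝒰.glueMorphisms fV hglue = fV x := 𝒰.ι_glueMorphisms fV hglue x
    rw [this]
    exact hfVc x _ (pullback.snd j (i x)) (pullback.fst j (i x)) pullback.condition.symm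
  refine ⟨_, ⟨hg1, hg2⟩, ?_⟩
  rintro f ⟨hf1, hf2⟩
  exact h2 Y (𝟙 Y) f _ (by rw [hf1, Category.id_comp]) (by rw [hg1, Category.id_comp])
    ((compat_id_iff f).mpr hf2) ((compat_id_iff _).mpr hg2)

theorem extProp_baseChange_iff {S' : Scheme.{u}} (g : S' ⟶ S) (U : S.Opens) {Y' : Scheme.{u}}
    (y' : Y' ⟶ S') (n : N ⟶ S) :
    ExtProp (g ⁻¹ᵁ U) y' (pullback.snd n g) ↔ ExtProp U (y' ≫ g) n := by
  constructor
  · exact extProp_of_extProp_baseChange g U y' n
  · intro h W j _ hj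
    have hj' : Set.range j = (y' ≫ g) ⁻¹' (U : Set S) := by
      rw [hj]; rfl
    exact (Groth.Agent.Lib.Seat74.NeronBC.extPropAlong_baseChange_iff g j y' n).mpr (h W j hj')

/-- **Spreading out + limit argument.** If all smooth `S`-schemes have the extension property
w.r.t. `N`, then so does `Spec Bt → Spec A → S` for `Bt` smooth over a localization `A_p`
(`A` Noetherian, `Spec A → S` smooth). -/
theorem extProp_of_atPrime (A : Type u) [CommRing A] [IsNoetherianRing A] (p : Ideal A)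
    [p.IsPrime] (Ap : Type u) [CommRing Ap] [Algebra A Ap] [IsLocalization.AtPrime Ap p]
    (Bt : Type u) [CommRing Bt] [Algebra Ap Bt] [Algebra A Bt] [IsScalarTower A Ap Bt]
    [Algebra.Smooth Ap Bt] (a : Spec (CommRingCat.of A) ⟶ S) [Smooth a] (n : N ⟶ S)
    [LocallyOfFinitePresentation n] (U : S.Opens)
    (H : ∀ (Y : Scheme.{u}) (y : Y ⟶ S), Smooth y → ExtProp U y n) :
    ExtProp U (Spec.map (CommRingCat.ofHom (algebraMap A Bt)) ≫ a) n := by
  obtain ⟨B, _, _, _, htow, hsm, hloc⟩ :=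
    Groth.Agent.Lib.Seat74.SmoothSpread.exists_smooth_spread A p Ap Bt
  have hBnoeth : IsNoetherianRing B := Algebra.FiniteType.isNoetherianRing A B
  obtain ⟨M, hM⟩ : ∃ M : Submonoid B, M = Algebra.algebraMapSubmonoid B p.primeCompl := ⟨_, rfl⟩
  rw [← hM] at hloc
  let b : Spec (CommRingCat.of B) ⟶ S := Spec.map (CommRingCat.ofHom (algebraMap A B)) ≫ a
  have hb : Smooth b := by
    have : Smooth (Spec.map (CommRingCat.ofHom (algebraMap A B))) := by
      rw [HasRingHomProperty.Spec_iff (P := @Smooth)]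
      exact RingHom.smooth_algebraMap.mpr hsm
    infer_instance
  let t : LocLimit.diagram M ⟶ (Functor.const _).obj S :=
    { app := fun m => (LocLimit.bo M m).ι ≫ b
      naturality := by
        intro m m' f
        change (Spec (CommRingCat.of B)).homOfLE (leOfHom f) ≫ (LocLimit.bo M m').ι ≫ b =
          ((LocLimit.bo M m).ι ≫ b) ≫ 𝟙 _
        rw [Category.comp_id, Scheme.homOfLE_ι_assoc] }
  have key := NeronLim.extProp_of_isLimit (LocLimit.diagram M) t n (LocLimit.cone M Bt)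
    (LocLimit.isLimitCone M Bt) U (fun m => H _ _ (by
      change Smooth ((LocLimit.bo M m).ι ≫ b)
      infer_instance)) (LocLimit.one M)
  have heq : Spec.map (CommRingCat.ofHom (algebraMap A Bt)) ≫ a =
      (LocLimit.cone M Bt).π.app (LocLimit.one M) ≫ t.app (LocLimit.one M) := by
    change _ = LocLimit.proj M Bt (LocLimit.one M) ≫ (LocLimit.bo M (LocLimit.one M)).ι ≫ b
    rw [LocLimit.proj_ι_assoc]
    change _ = Spec.map (CommRingCat.ofHom (algebraMap B Bt)) ≫
      Spec.map (CommRingCat.ofHom (algebraMap A B)) ≫ a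
    rw [← Category.assoc, ← Spec.map_comp, ← CommRingCat.ofHom_comp,
      ← IsScalarTower.algebraMap_eq]
  rw [heq]
  exact key

/-- **Localisation.** If all smooth `S`-schemes have the extension property w.r.t. `N`
(`S` locally Noetherian), then so does every smooth `Spec 𝒪_{S,s}`-scheme, viewed over `S`. -/
theorem extProp_fromSpecStalk [IsLocallyNoetherian S] (U : S.Opens) (n : N ⟶ S)
    [LocallyOfFinitePresentation n]
    (H : ∀ (Y : Scheme.{u}) (y : Y ⟶ S), Smooth y → ExtProp U y n) (s : S)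
    {Y' : Scheme.{u}} (y' : Y' ⟶ Spec (S.presheaf.stalk s)) [Smooth y'] :
    ExtProp U (y' ≫ S.fromSpecStalk s) n := by
  apply extProp_of_affine
  intro R o _
  obtain ⟨_, ⟨V₀, hV₀, rfl⟩, hs, -⟩ := S.isBasis_affineOpens.exists_subset_of_mem_open
    (Set.mem_univ s) isOpen_univ
  have hV₀' : IsAffineOpen V₀ := hV₀
  obtain ⟨ψ, hψ⟩ : ∃ ψ : S.presheaf.stalk s ⟶ R, Spec.map ψ = o ≫ y' :=
    ⟨Spec.preimage (o ≫ y'), Spec.map_preimage _⟩
  have hψsm : ψ.hom.Smooth := by
    rw [← HasRingHomProperty.Spec_iff (P := @Smooth), hψ]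
    infer_instance
  have hnoeth : IsNoetherianRing Γ(S, V₀) :=
    IsLocallyNoetherian.component_noetherian ⟨V₀, hV₀'⟩
  letI alg1 : Algebra Γ(S, V₀) (S.presheaf.stalk s) := S.presheaf.algebra_section_stalk ⟨s, hs⟩
  have hloc : IsLocalization.AtPrime (S.presheaf.stalk s) (hV₀'.primeIdealOf ⟨s, hs⟩).asIdeal :=
    hV₀'.isLocalization_stalk ⟨s, hs⟩
  letI alg2 : Algebra (S.presheaf.stalk s) R := ψ.hom.toAlgebra
  letI alg3 : Algebra Γ(S, V₀) R := (ψ.hom.comp (algebraMap Γ(S, V₀) (S.presheaf.stalk s))).toAlgebra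
  have htow : IsScalarTower Γ(S, V₀) (S.presheaf.stalk s) R := IsScalarTower.of_algebraMap_eq' rfl
  have hsm : Algebra.Smooth (S.presheaf.stalk s) R := hψsm
  have hfs : Smooth hV₀'.fromSpec := inferInstance
  have key := extProp_of_atPrime (S := S) (N := N) Γ(S, V₀) (hV₀'.primeIdealOf ⟨s, hs⟩).asIdeal
    (S.presheaf.stalk s) R hV₀'.fromSpec n U H
  have heq : o ≫ y' ≫ S.fromSpecStalk s =
      Spec.map (CommRingCat.ofHom (algebraMap Γ(S, V₀) R)) ≫ hV₀'.fromSpec := by
    rw [← Category.assoc, ← hψ, ← hV₀'.fromSpecStalk_eq_fromSpecStalk hs]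
    delta IsAffineOpen.fromSpecStalk
    rw [← Category.assoc, ← Spec.map_comp]
    rfl
  rw [heq]
  exact key

end Groth.Agent.Lib.Seat74.NeronLoc
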