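import Mathlib
import Groth.Prelude.Def_CohB1
import Groth.Agent.Lib.Seat74NeronLoc

/-!
# Morphisms out of a proper scheme over a complete Noetherian ring are determined by their
restrictions to the infinitesimal thickenings

* `exists_away_eq`: Krull-intersection argument at the ring level.
* `eq_of_thick_eq`: the scheme-level statement.
-/

set_option autoImplicit false
universe u

open CategoryTheory CategoryTheory.Limits AlgebraicGeometry

namespace Groth.Agent.Lib.Seat74.FormalUniq

theorem exists_away_eq {A B C : Type u} [CommRing A] [CommRing B] [CommRing C]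
    [IsNoetherianRing B] (a : A →+* B) (c : A →+* C) (hc : c.FiniteType) (g₁ g₂ : C →+* B)
    (h1 : g₁.comp c = a) (h2 : g₂.comp c = a) (I : Ideal A) (q : Ideal B) [q.IsPrime]
    (hIq : I.map a ≤ q) (hn : ∀ (n : ℕ) (y : C), g₁ y - g₂ y ∈ (I.map a) ^ n) :
    ∃ s : B, s ∉ q ∧ (algebraMap B (Localization.Away s)).comp g₁ =
      (algebraMap B (Localization.Away s)).comp g₂ := by
  classical
  have hr : ∀ y : C, ∃ r : B, r ∈ I.map a ∧ (1 - r) * (g₁ y - g₂ y) = 0 := by
    intro y
    have hmem : g₁ y - g₂ y ∈ (⨅ i : ℕ, (I.map a) ^ i • ⊤ : Submodule B B) := by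
      rw [Submodule.mem_iInf]
      intro i
      rw [smul_eq_mul, Ideal.mul_top]
      exact hn i y
    obtain ⟨r, hr⟩ := ((I.map a).mem_iInf_smul_pow_eq_bot_iff (g₁ y - g₂ y)).mp hmem
    refine ⟨r.1, r.2, ?_⟩
    rw [sub_mul, one_mul, ← smul_eq_mul, hr, sub_self]
  choose r hr1 hr2 using hr
  let _ := c.toAlgebra
  have hfg : (⊤ : Subalgebra A C).FG := hc.out
  obtain ⟨S, hS⟩ := hfg
  refine ⟨∏ y ∈ S, (1 - r y), ?_, ?_⟩
  · intro hmem
    rw [Ideal.IsPrime.prod_mem_iff] at hmem
    obtain ⟨y, -, hy⟩ := hmem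
    have h1q : (1 : B) ∈ q := by
      have := q.add_mem hy (hIq (hr1 y))
      rwa [sub_add_cancel] at this
    exact (Ideal.ne_top_iff_one q).mp (Ideal.IsPrime.ne_top ‹_›) h1q
  · set s := ∏ y ∈ S, (1 - r y) with hs
    have hSeq : ∀ y ∈ S, algebraMap B (Localization.Away s) (g₁ y) =
        algebraMap B (Localization.Away s) (g₂ y) := by
      intro y hy
      obtain ⟨k, hk⟩ := Finset.dvd_prod_of_mem (fun y => 1 - r y) hy
      have h0 : s * (g₁ y - g₂ y) = 0 := by
        rw [hs, hk, mul_comm (1 - r y) k, mul_assoc, hr2 y, mul_zero]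
      have h0' := congrArg (algebraMap B (Localization.Away s)) h0
      rw [map_mul, map_zero] at h0'
      have hu : IsUnit (algebraMap B (Localization.Away s) s) :=
        IsLocalization.Away.algebraMap_isUnit s
      have := (hu.mul_right_eq_zero).mp h0'
      rwa [map_sub, sub_eq_zero] at this
    let E : Subalgebra A C :=
      { (RingHom.eqLocus ((algebraMap B (Localization.Away s)).comp g₁)
          ((algebraMap B (Localization.Away s)).comp g₂)).toSubsemiring with
        algebraMap_mem' := fun x => by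
          show (algebraMap B (Localization.Away s)) (g₁ (c x)) =
            (algebraMap B (Localization.Away s)) (g₂ (c x))
          have e1 : g₁ (c x) = a x := RingHom.congr_fun h1 x
          have e2 : g₂ (c x) = a x := RingHom.congr_fun h2 x
          rw [e1, e2] }
    have hE : (⊤ : Subalgebra A C) ≤ E := by
      rw [← hS]
      apply Algebra.adjoin_le
      intro y hy
      exact hSeq y (Finset.mem_coe.mp hy)
    ext y
    exact hE (Algebra.mem_top : y ∈ (⊤ : Subalgebra A C))

open Groth.Agent.Lib.Seat74.NeronLoc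

variable {A : Type u} [CommRing A]

theorem mem_range_specQuot (I : Ideal A) (n : ℕ) (p : PrimeSpectrum A)
    (hp : I ≤ p.asIdeal) : p ∈ Set.range (CohB1.specQuot I n) := by
  have h1 : Set.range (PrimeSpectrum.comap (Ideal.Quotient.mk (I ^ (n + 1)))) =
      PrimeSpectrum.zeroLocus ((I ^ (n + 1) : Ideal A) : Set A) := by
    rw [range_comap_of_surjective _ _ Ideal.Quotient.mk_surjective, Ideal.mk_ker]
  have h2 : p ∈ PrimeSpectrum.zeroLocus ((I ^ (n + 1) : Ideal A) : Set A) :=
    (PrimeSpectrum.mem_zeroLocus _ _).mpr ((Ideal.pow_le_self (Nat.succ_ne_zero n)).trans hp)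
  rw [← h1] at h2
  exact h2

/-- local agreement near a closed point -/
theorem exists_nhd_eq [IsNoetherianRing A] (I : Ideal A) [IsAdicComplete I A] {X Y : Scheme.{u}}
    (f : X ⟶ Spec (CommRingCat.of A)) (h : Y ⟶ Spec (CommRingCat.of A)) [IsProper f]
    [LocallyOfFiniteType h] (φ ψ : X ⟶ Y) (hφ : φ ≫ h = f) (hψ : ψ ≫ h = f)
    (e : ∀ n : ℕ, CohB1.thickι f I n ≫ φ = CohB1.thickι f I n ≫ ψ) (x : X)
    (hxcl : IsClosed ({x} : Set X)) :
    ∃ (V : Scheme.{u}) (i : V ⟶ X) (_ : IsOpenImmersion i), x ∈ Set.range i ∧ i ≫ φ = i ≫ ψ := by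
  -- `f x` is a closed point, hence contains `I`
  have hfx : IsClosed ({f x} : Set (Spec (CommRingCat.of A))) := by
    have := f.isClosedMap _ hxcl
    rwa [Set.image_singleton] at this
  have hmax : (f x).asIdeal.IsMaximal :=
    (PrimeSpectrum.isClosed_singleton_iff_isMaximal _).mp hfx
  have hI : I ≤ (f x).asIdeal :=
    (IsAdicComplete.le_jacobson_bot I).trans (sInf_le ⟨bot_le, hmax⟩)
  -- `φ x = ψ x`
  have hφψ : φ x = ψ x := by
    have hx0 : x ∈ Set.range (CohB1.thickι f I 0) := by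
      show x ∈ Set.range (pullback.fst f (CohB1.specQuot I 0))
      rw [Scheme.Pullback.range_fst]
      exact mem_range_specQuot I 0 (f x) hI
    obtain ⟨x0, rfl⟩ := hx0
    rw [← Scheme.Hom.comp_apply, e 0, Scheme.Hom.comp_apply]
  -- affine charts
  obtain ⟨C, iV, hiV, hV⟩ := exists_affine_nhd Y (φ x)
  let U' : X.Opens := φ ⁻¹ᵁ iV.opensRange ⊓ ψ ⁻¹ᵁ iV.opensRange
  have hxU' : x ∈ U' := ⟨hV, by show ψ x ∈ Set.range iV; rw [← hφψ]; exact hV⟩
  obtain ⟨B, iU0, hiU0, ⟨x', hx'⟩⟩ := exists_affine_nhd (U' : Scheme.{u}) ⟨x, hxU'⟩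
  let iU : Spec B ⟶ X := iU0 ≫ U'.ι
  have hx'x : iU x' = x := by
    show U'.ι (iU0 x') = x
    rw [hx']
    rfl
  have hrφ : Set.range (iU ≫ φ) ⊆ Set.range iV := by
    rintro _ ⟨z, rfl⟩
    exact (iU0 z).2.1
  have hrψ : Set.range (iU ≫ ψ) ⊆ Set.range iV := by
    rintro _ ⟨z, rfl⟩
    exact (iU0 z).2.2
  obtain ⟨φs, hφs⟩ := Spec.map_surjective (IsOpenImmersion.lift iV (iU ≫ φ) hrφ)
  obtain ⟨ψs, hψs⟩ := Spec.map_surjective (IsOpenImmersion.lift iV (iU ≫ ψ) hrψ)
  have hφs' : Spec.map φs ≫ iV = iU ≫ φ := by rw [hφs, IsOpenImmersion.lift_fac]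
  have hψs' : Spec.map ψs ≫ iV = iU ≫ ψ := by rw [hψs, IsOpenImmersion.lift_fac]
  obtain ⟨a, ha⟩ := Spec.map_surjective (iU ≫ f)
  obtain ⟨c, hc⟩ := Spec.map_surjective (iV ≫ h)
  have hcft : c.hom.FiniteType := by
    have : LocallyOfFiniteType (Spec.map c) := by rw [hc]; infer_instance
    exact (HasRingHomProperty.Spec_iff (P := @LocallyOfFiniteType)).mp this
  have haft : a.hom.FiniteType := by
    have : LocallyOfFiniteType (Spec.map a) := by rw [ha]; infer_instance
    exact (HasRingHomProperty.Spec_iff (P := @LocallyOfFiniteType)).mp this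
  have hBnoeth : IsNoetherianRing B := by
    let _ := a.hom.toAlgebra
    have : Algebra.FiniteType A B := haft
    exact Algebra.FiniteType.isNoetherianRing A B
  have h1 : φs.hom.comp c.hom = a.hom := by
    have : Spec.map (c ≫ φs) = Spec.map a := by
      rw [Spec.map_comp, hc, ← Category.assoc, hφs', Category.assoc, hφ, ha]
    exact congrArg CommRingCat.Hom.hom (Spec.map_injective this)
  have h2 : ψs.hom.comp c.hom = a.hom := by
    have : Spec.map (c ≫ ψs) = Spec.map a := by
      rw [Spec.map_comp, hc, ← Category.assoc, hψs', Category.assoc, hψ, ha]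
    exact congrArg CommRingCat.Hom.hom (Spec.map_injective this)
  have hx'prime : x'.asIdeal.IsPrime := x'.isPrime
  have hIq : I.map a.hom ≤ x'.asIdeal := by
    rw [Ideal.map_le_iff_le_comap]
    have : (Spec.map a) x' = f x := by
      rw [ha, Scheme.Hom.comp_apply, hx'x]
    have h3 : ((Spec.map a) x').asIdeal = x'.asIdeal.comap a.hom := rfl
    rw [← h3, this]
    exact hI
  have hn : ∀ (n : ℕ) (y : C), φs.hom y - ψs.hom y ∈ (I.map a.hom) ^ n := by
    intro n y
    cases n with
    | zero => simp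
    | succ n =>
      rw [← Ideal.map_pow]
      set J : Ideal B := (I ^ (n + 1)).map a.hom with hJ
      let π : B →+* B ⧸ J := Ideal.Quotient.mk J
      let abar : A ⧸ I ^ (n + 1) →+* B ⧸ J := Ideal.quotientMap J a.hom Ideal.le_comap_map
      let u : Spec (CommRingCat.of (B ⧸ J)) ⟶ X := Spec.map (CommRingCat.ofHom π) ≫ iU
      have hu : u ≫ f = Spec.map (CommRingCat.ofHom abar) ≫ CohB1.specQuot I n := by
        show (Spec.map (CommRingCat.ofHom π) ≫ iU) ≫ f = _
        rw [Category.assoc, ← ha, CohB1.specQuot, ← Spec.map_comp, ← Spec.map_comp]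
        congr 1
      let t : Spec (CommRingCat.of (B ⧸ J)) ⟶ CohB1.thick f I n :=
        pullback.lift u (Spec.map (CommRingCat.ofHom abar)) hu
      have ht : t ≫ CohB1.thickι f I n = u := pullback.lift_fst _ _ _
      have huφψ : u ≫ φ = u ≫ ψ := by
        rw [← ht, Category.assoc, e n, Category.assoc]
      have h4 : Spec.map (CommRingCat.ofHom π) ≫ Spec.map φs =
          Spec.map (CommRingCat.ofHom π) ≫ Spec.map ψs := by
        rw [← cancel_mono iV, Category.assoc, Category.assoc, hφs', hψs']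
        exact huφψ
      rw [← Spec.map_comp, ← Spec.map_comp] at h4
      have h5 := congrArg CommRingCat.Hom.hom (Spec.map_injective h4)
      have h6 : π (φs.hom y) = π (ψs.hom y) := RingHom.congr_fun h5 y
      rw [← Ideal.Quotient.eq]
      exact h6
  obtain ⟨s, hsq, hs⟩ := exists_away_eq a.hom c.hom hcft φs.hom ψs.hom h1 h2 I x'.asIdeal hIq hn
  let loc : CommRingCat.of B ⟶ CommRingCat.of (Localization.Away s) :=
    CommRingCat.ofHom (algebraMap B (Localization.Away s))
  refine ⟨_, Spec.map loc ≫ iU, inferInstance, ?_, ?_⟩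
  · have hx'r : x' ∈ Set.range (Spec.map loc) := by
      have h7 : Set.range (PrimeSpectrum.comap (algebraMap B (Localization.Away s))) =
          PrimeSpectrum.basicOpen s := PrimeSpectrum.localization_away_comap_range _ s
      have h8 : (x' : PrimeSpectrum B) ∈ (PrimeSpectrum.basicOpen s : Set (PrimeSpectrum B)) := hsq
      rw [← h7] at h8
      exact h8
    obtain ⟨z, hz⟩ := hx'r
    exact ⟨z, by rw [Scheme.Hom.comp_apply, hz, hx'x]⟩
  · have e1 : (Spec.map loc ≫ iU) ≫ φ = Spec.map loc ≫ (iU ≫ φ) := Category.assoc _ _ _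
    have e2 : (Spec.map loc ≫ iU) ≫ ψ = Spec.map loc ≫ (iU ≫ ψ) := Category.assoc _ _ _
    have e3 : φs ≫ loc = ψs ≫ loc := by
      ext y
      exact RingHom.congr_fun hs y
    rw [e1, e2, ← hφs', ← hψs', ← Category.assoc, ← Category.assoc,
      ← Spec.map_comp, ← Spec.map_comp, e3]

/-- Two `A`-morphisms from a proper `A`-scheme (`A` Noetherian, `I`-adically complete) to a
locally finite type `A`-scheme which agree on all infinitesimal thickenings are equal. -/
theorem eq_of_thick_eq [IsNoetherianRing A] (I : Ideal A) [IsAdicComplete I A] {X Y : Scheme.{u}}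
    (f : X ⟶ Spec (CommRingCat.of A)) (h : Y ⟶ Spec (CommRingCat.of A)) [IsProper f]
    [LocallyOfFiniteType h] (φ ψ : X ⟶ Y) (hφ : φ ≫ h = f) (hψ : ψ ≫ h = f)
    (e : ∀ n : ℕ, CohB1.thickι f I n ≫ φ = CohB1.thickι f I n ≫ ψ) : φ = ψ := by
  let W : Set X := {x | ∃ (V : Scheme.{u}) (i : V ⟶ X) (_ : IsOpenImmersion i),
    x ∈ Set.range i ∧ i ≫ φ = i ≫ ψ}
  have hWopen : IsOpen W := by
    rw [isOpen_iff_forall_mem_open]
    rintro x ⟨V, i, hi, hx, hi2⟩
    exact ⟨Set.range i, fun y hy => ⟨V, i, hi, hy, hi2⟩, i.isOpenEmbedding.isOpen_range, hx⟩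
  suffices hW : W = Set.univ by
    apply hom_ext_of_local
    intro x
    have : x ∈ W := hW ▸ Set.mem_univ x
    exact this
  by_contra hne
  have hne' : (Wᶜ).Nonempty := Set.nonempty_compl.mpr hne
  have : CompactSpace X := QuasiCompact.compactSpace_of_compactSpace f
  obtain ⟨x, hxW, hxcl⟩ := (hWopen.isClosed_compl).exists_closed_singleton hne'
  exact hxW (exists_nhd_eq I f h φ ψ hφ hψ e x hxcl)

end Groth.Agent.Lib.Seat74.FormalUniq
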