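import Mathlib
import Groth.Agent.S0415

/-!
# Seat 74: Stein factor of a proper morphism with geometrically connected fibres

Helper lemmas:
* `subsingleton_primeSpectrum_of_isIntegral` : an integral algebra over a field with connected
  spectrum has exactly (at most) one prime.
* `section_unique` : two retractions `A → K` of an integral map `K → A` from a field agree when
  `Spec A` is connected.
* `toNormalization_surjective` : the first Stein factor of a proper map is surjective.
-/

set_option autoImplicit false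
universe u
open CategoryTheory CategoryTheory.Limits AlgebraicGeometry

namespace Groth.Agent.Lib.Seat74.SteinUH

/-- In a ring integral over a field, every element `a` satisfies `a ^ n * (1 - a * b) = 0`
for suitable `n`, `b`. -/
theorem exists_pow_mul_eq_zero {K A : Type*} [Field K] [CommRing A] (ι : K →+* A)
    (hι : ι.IsIntegral) (a : A) : ∃ (n : ℕ) (b : A), a ^ n * (1 - a * b) = 0 := by
  obtain ⟨p, hp, hpa⟩ := hι a
  have hp0 : p ≠ 0 := hp.ne_zero
  obtain ⟨q, hpq, hq⟩ := p.exists_eq_pow_rootMultiplicity_mul_and_not_dvd hp0 0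
  set n := p.rootMultiplicity 0
  have hq0 : q.coeff 0 ≠ 0 := by
    intro h
    apply hq
    rw [Polynomial.C_0, sub_zero, Polynomial.X_dvd_iff]
    exact h
  set c := q.coeff 0
  have hqa : Polynomial.eval₂ ι a q = Polynomial.eval₂ ι a q.divX * a + ι c := by
    conv_lhs => rw [← Polynomial.divX_mul_X_add q]
    simp [Polynomial.eval₂_add, Polynomial.eval₂_mul, c]
  have h0 : a ^ n * Polynomial.eval₂ ι a q = 0 := by
    rw [hpq] at hpa
    simpa [Polynomial.eval₂_mul, Polynomial.eval₂_pow] using hpa
  refine ⟨n, - ι c⁻¹ * Polynomial.eval₂ ι a q.divX, ?_⟩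
  have h1 : (1 : A) - a * (- ι c⁻¹ * Polynomial.eval₂ ι a q.divX) =
      ι c⁻¹ * Polynomial.eval₂ ι a q := by
    rw [hqa]
    have : ι c⁻¹ * ι c = 1 := by rw [← map_mul, inv_mul_cancel₀ hq0, map_one]
    linear_combination (-1 : A) * this
  rw [h1, mul_left_comm, h0, mul_zero]

/-- In a ring integral over a field, every basic open is clopen. -/
theorem isClopen_basicOpen_of_isIntegral {K A : Type*} [Field K] [CommRing A] (ι : K →+* A)
    (hι : ι.IsIntegral) (a : A) :
    IsClopen (PrimeSpectrum.basicOpen a : Set (PrimeSpectrum A)) := by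
  refine ⟨?_, (PrimeSpectrum.basicOpen a).isOpen⟩
  obtain ⟨n, b, hab⟩ := exists_pow_mul_eq_zero ι hι a
  rw [← isOpen_compl_iff]
  have : ((PrimeSpectrum.basicOpen a : Set (PrimeSpectrum A)))ᶜ =
      (PrimeSpectrum.basicOpen (1 - a * b) : Set (PrimeSpectrum A)) := by
    ext P
    simp only [Set.mem_compl_iff, SetLike.mem_coe, PrimeSpectrum.mem_basicOpen, not_not]
    constructor
    · intro ha h1
      have : (1 : A) ∈ P.asIdeal := by
        have h2 : a * b ∈ P.asIdeal := P.asIdeal.mul_mem_right _ ha
        have := P.asIdeal.add_mem h1 h2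
        simpa using this
      exact P.2.ne_top ((Ideal.eq_top_iff_one _).mpr this)
    · intro h1
      by_contra ha
      have h2 : a ^ n * (1 - a * b) ∈ P.asIdeal := by rw [hab]; exact P.asIdeal.zero_mem
      rcases P.2.mem_or_mem h2 with h3 | h3
      · exact ha (P.2.mem_of_pow_mem _ h3)
      · exact h1 h3
  rw [this]
  exact (PrimeSpectrum.basicOpen _).isOpen

/-- A ring integral over a field with preconnected spectrum has at most one prime. -/
theorem subsingleton_primeSpectrum_of_isIntegral {K A : Type*} [Field K] [CommRing A]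
    (ι : K →+* A) (hι : ι.IsIntegral) [PreconnectedSpace (PrimeSpectrum A)] :
    Subsingleton (PrimeSpectrum A) := by
  -- every basic open is empty or everything
  have key : ∀ (a : A) (P Q : PrimeSpectrum A), a ∈ P.asIdeal → a ∈ Q.asIdeal := by
    intro a P Q haP
    have hcl := isClopen_basicOpen_of_isIntegral ι hι a
    rcases isClopen_iff.mp hcl with h | h
    · by_contra haQ
      have : Q ∈ (PrimeSpectrum.basicOpen a : Set (PrimeSpectrum A)) := haQ
      rw [h] at this
      exact this
    · exfalso
      have : P ∈ (PrimeSpectrum.basicOpen a : Set (PrimeSpectrum A)) := by rw [h]; trivial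
      exact this haP
  refine ⟨fun P Q => ?_⟩
  ext a
  exact ⟨key a P Q, key a Q P⟩

/-- Two retractions of an integral ring map from a field agree when the spectrum of the target
is preconnected. -/
theorem retraction_unique {K A : Type*} [Field K] [CommRing A] (ι : K →+* A) (hι : ι.IsIntegral)
    [PreconnectedSpace (PrimeSpectrum A)] (φ₁ φ₂ : A →+* K) (h₁ : φ₁.comp ι = RingHom.id K)
    (h₂ : φ₂.comp ι = RingHom.id K) : φ₁ = φ₂ := by
  have hs := subsingleton_primeSpectrum_of_isIntegral ι hι
  have hk : RingHom.ker φ₁ = RingHom.ker φ₂ := by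
    have := hs.elim ⟨RingHom.ker φ₁, RingHom.ker_isPrime φ₁⟩ ⟨RingHom.ker φ₂, RingHom.ker_isPrime φ₂⟩
    exact congrArg PrimeSpectrum.asIdeal this
  ext a
  have h1 : a - ι (φ₁ a) ∈ RingHom.ker φ₁ := by
    rw [RingHom.mem_ker, map_sub, sub_eq_zero]
    exact (congr($h₁ (φ₁ a))).symm
  rw [hk, RingHom.mem_ker, map_sub, sub_eq_zero] at h1
  rw [h1]
  exact (congr($h₂ (φ₁ a))).symm

/-- Sections of an integral morphism from a preconnected scheme to the spectrum of a field are
unique. -/
theorem section_unique {K : Type u} [Field K] {T : Scheme.{u}} (p : T ⟶ Spec (.of K))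
    [IsIntegralHom p] [PreconnectedSpace T] (σ₁ σ₂ : Spec (.of K) ⟶ T) (h₁ : σ₁ ≫ p = 𝟙 _)
    (h₂ : σ₂ ≫ p = 𝟙 _) : σ₁ = σ₂ := by
  have : IsAffine T := isAffine_of_isAffineHom p
  apply ext_of_isAffine
  let e := Scheme.ΓSpecIso (.of K)
  let ι : K →+* Γ(T, ⊤) := (e.inv ≫ p.appTop).hom
  let φ₁ : Γ(T, ⊤) →+* K := (σ₁.appTop ≫ e.hom).hom
  let φ₂ : Γ(T, ⊤) →+* K := (σ₂.appTop ≫ e.hom).hom
  have hι : ι.IsIntegral := by
    have h := p.isIntegral_app ⊤ (isAffineOpen_top _)
    have : ι = (p.app ⊤).hom.comp e.inv.hom := rfl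
    rw [this]
    refine RingHom.IsIntegral.trans _ _ ?_ h
    exact RingHom.isIntegral_of_surjective _ (e.symm.commRingCatIsoToRingEquiv.surjective)
  have : PreconnectedSpace (PrimeSpectrum Γ(T, ⊤)) := by
    have hh : T ≃ₜ Spec Γ(T, ⊤) := T.isoSpec.hom.homeomorph
    have h5 : PreconnectedSpace (Spec Γ(T, ⊤)) := ⟨by
      have := (isPreconnected_univ (α := T)).image hh hh.continuous.continuousOn
      simpa using this⟩
    exact h5
  have hφ : ∀ (σ : Spec (.of K) ⟶ T), σ ≫ p = 𝟙 _ →
      ((σ.appTop ≫ e.hom).hom).comp ι = RingHom.id K := by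
    intro σ hσ
    have : p.appTop ≫ σ.appTop = 𝟙 _ := by
      rw [← Scheme.Hom.comp_appTop, hσ]; rfl
    have h2 : (e.inv ≫ p.appTop) ≫ (σ.appTop ≫ e.hom) = 𝟙 _ := by
      rw [Category.assoc, reassoc_of% this, Iso.inv_hom_id]
    exact congrArg CommRingCat.Hom.hom h2
  have key := retraction_unique ι hι φ₁ φ₂ (hφ σ₁ h₁) (hφ σ₂ h₂)
  have h3 : σ₁.appTop ≫ e.hom = σ₂.appTop ≫ e.hom := CommRingCat.hom_ext key
  exact (cancel_mono e.hom).mp h3

/-- The first Stein factor `X ⟶ f.normalization` of a proper morphism is surjective. -/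
theorem toNormalization_surjective {X S : Scheme.{u}} (f : X ⟶ S) [IsProper f] :
    Function.Surjective f.toNormalization := by
  have : IsProper (f.toNormalization ≫ f.fromNormalization) := by
    rw [f.toNormalization_fromNormalization]; infer_instance
  have : IsProper f.toNormalization := IsProper.of_comp _ f.fromNormalization
  have hd := f.toNormalization.denseRange
  have hc : IsClosed (Set.range f.toNormalization) := f.toNormalization.isClosedMap.isClosed_range
  rw [← Set.range_eq_univ, ← hc.closure_eq]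
  exact hd.closure_range

end Groth.Agent.Lib.Seat74.SteinUH
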