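import Mathlib

/-!
# Clopen subsets of a scheme and idempotent global sections

* `isClopen_basicOpen_of_isIdempotentElem`
* `exists_idempotent_of_isClopen`
* `idempotent_eq_of_basicOpen_eq`
-/

set_option autoImplicit false
universe u

open CategoryTheory CategoryTheory.Limits AlgebraicGeometry TopologicalSpace Opposite

namespace Groth.Agent.Lib.Seat87.SchIdem

theorem local_idem_eq_one {L : Type*} [CommRing L] [IsLocalRing L] {a : L}
    (ha : IsIdempotentElem a) (hu : IsUnit a) : a = 1 := by
  have h1 : a * a = a * 1 := by rw [ha.eq, mul_one]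
  exact hu.mul_left_cancel h1

theorem local_idem_eq_zero {L : Type*} [CommRing L] [IsLocalRing L] {a : L}
    (ha : IsIdempotentElem a) (hu : ¬ IsUnit a) : a = 0 := by
  have h1 : IsUnit (1 - a) := by
    rcases IsLocalRing.isUnit_or_isUnit_one_sub_self a with h | h
    · exact absurd h hu
    · exact h
  have h2 : (1 - a) * a = 0 := by rw [sub_mul, one_mul, ha.eq, sub_self]
  exact (h1.mul_right_eq_zero).mp h2

variable {X : Scheme.{u}}

theorem basicOpen_one_sub_eq_compl {e : Γ(X, ⊤)} (he : IsIdempotentElem e) :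
    ((X.basicOpen (1 - e) : X.Opens) : Set X) = ((X.basicOpen e : X.Opens) : Set X)ᶜ := by
  have h1 : X.basicOpen e ⊓ X.basicOpen (1 - e) = ⊥ := by
    rw [← Scheme.basicOpen_mul, mul_sub, mul_one, he.eq, sub_self, Scheme.basicOpen_zero]
  have h2 : (⊤ : X.Opens) ≤ X.basicOpen e ⊔ X.basicOpen (1 - e) := by
    have := X.basicOpen_add_le e (1 - e)
    rwa [add_sub_cancel, Scheme.basicOpen_one] at this
  ext x
  simp only [Set.mem_compl_iff, SetLike.mem_coe]
  constructor
  · intro hx hx'
    have : x ∈ X.basicOpen e ⊓ X.basicOpen (1 - e) := ⟨hx', hx⟩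
    rw [h1] at this
    exact this
  · intro hx
    have : x ∈ X.basicOpen e ⊔ X.basicOpen (1 - e) := h2 (Opens.mem_top x)
    rcases this with h | h
    · exact absurd h hx
    · exact h

theorem isClopen_basicOpen_of_isIdempotentElem {e : Γ(X, ⊤)} (he : IsIdempotentElem e) :
    IsClopen ((X.basicOpen e : X.Opens) : Set X) := by
  refine ⟨?_, (X.basicOpen e).2⟩
  rw [← isOpen_compl_iff, ← basicOpen_one_sub_eq_compl he]
  exact (X.basicOpen (1 - e)).2

theorem idempotent_eq_of_basicOpen_eq {e e' : Γ(X, ⊤)} (he : IsIdempotentElem e)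
    (he' : IsIdempotentElem e') (h : X.basicOpen e = X.basicOpen e') : e = e' := by
  refine TopCat.Presheaf.section_ext X.sheaf ⊤ e e' ?_
  intro x hx
  have hg : IsIdempotentElem (X.presheaf.germ ⊤ x hx e) := he.map _
  have hg' : IsIdempotentElem (X.presheaf.germ ⊤ x hx e') := he'.map _
  by_cases hxe : x ∈ X.basicOpen e
  · have hxe' : x ∈ X.basicOpen e' := h ▸ hxe
    rw [Scheme.mem_basicOpen _ _ _ hx] at hxe hxe'
    exact (local_idem_eq_one hg hxe).trans (local_idem_eq_one hg' hxe').symm
  · have hxe' : x ∉ X.basicOpen e' := h ▸ hxe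
    rw [Scheme.mem_basicOpen _ _ _ hx] at hxe hxe'
    exact (local_idem_eq_zero hg hxe).trans (local_idem_eq_zero hg' hxe').symm

theorem exists_idempotent_of_isClopen {U : Set X} (hU : IsClopen U) :
    ∃ e : Γ(X, ⊤), IsIdempotentElem e ∧ ((X.basicOpen e : X.Opens) : Set X) = U := by
  let U₁ : X.Opens := ⟨U, hU.isOpen⟩
  let U₂ : X.Opens := ⟨Uᶜ, hU.isClosed.isOpen_compl⟩
  let W : Bool → X.Opens := fun b => if b then U₁ else U₂
  have hW : ∀ b, W b ≤ ⊤ := fun b => le_top
  let sf : ∀ b : Bool, Γ(X, W b) := fun b => if b then 1 else 0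
  have hdisj : U₁ ⊓ U₂ = ⊥ := by
    ext x
    simp [U₁, U₂]
  have hcomp : TopCat.Presheaf.IsCompatible X.presheaf W sf := by
    rintro (_ | _) (_ | _)
    · rfl
    · haveI : Subsingleton Γ(X, W false ⊓ W true) := by
        have : W false ⊓ W true = ⊥ := by rw [inf_comm]; exact hdisj
        rw [this]; infer_instance
      exact Subsingleton.elim _ _
    · haveI : Subsingleton Γ(X, W true ⊓ W false) := by
        have : W true ⊓ W false = ⊥ := hdisj
        rw [this]; infer_instance
      exact Subsingleton.elim _ _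
    · rfl
  have hcover : (⊤ : X.Opens) ≤ iSup W := by
    intro x _
    rw [Opens.mem_iSup]
    by_cases hx : x ∈ U
    · exact ⟨true, hx⟩
    · exact ⟨false, hx⟩
  obtain ⟨e0, he, -⟩ := TopCat.Sheaf.existsUnique_gluing' X.sheaf W ⊤
    (fun b => homOfLE (hW b)) hcover sf hcomp
  obtain ⟨e, rfl⟩ : ∃ e : Γ(X, ⊤), e = e0 := ⟨e0, rfl⟩
  have he1 : (X.presheaf.map (homOfLE (hW true)).op).hom e = 1 := he true
  have he0 : (X.presheaf.map (homOfLE (hW false)).op).hom e = 0 := he false
  refine ⟨e, ?_, ?_⟩
  · refine TopCat.Sheaf.eq_of_locally_eq' X.sheaf W ⊤ (fun b => homOfLE (hW b)) hcover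
      (e * e) e ?_
    rintro (_ | _)
    · show (X.presheaf.map (homOfLE (hW false)).op).hom (e * e)
        = (X.presheaf.map (homOfLE (hW false)).op).hom e
      rw [RingHom.map_mul, he0, mul_zero]
    · show (X.presheaf.map (homOfLE (hW true)).op).hom (e * e)
        = (X.presheaf.map (homOfLE (hW true)).op).hom e
      rw [RingHom.map_mul, he1, mul_one]
  · have h1 := X.basicOpen_res e (homOfLE (hW true)).op
    have h0 := X.basicOpen_res e (homOfLE (hW false)).op
    have he1' : X.presheaf.map (homOfLE (hW true)).op e = 1 := he1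
    have he0' : X.presheaf.map (homOfLE (hW false)).op e = 0 := he0
    rw [he1', Scheme.basicOpen_one] at h1
    rw [he0', Scheme.basicOpen_zero] at h0
    ext x
    constructor
    · intro hx
      by_contra hxU
      have : x ∈ W false ⊓ X.basicOpen e := ⟨hxU, hx⟩
      rw [← h0] at this
      exact this
    · intro hx
      have : x ∈ W true := hx
      rw [h1] at this
      exact this.2

end Groth.Agent.Lib.Seat87.SchIdem
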