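import Mathlib
import Groth.Agent.Lib.Seat74SteinUH
import Groth.Agent.Lib.Seat87SchIdem

/-!
# Seat 74: geometric connectedness of a proper scheme over a field via its global sections

Algebra:
* `exists_pow_sub_nilpotent`, `idem_trivial_tensor` : if every `a ∈ R` has `a ^ q ^ n ∈ k + nil`, then
  `R ⊗[k] K` has only trivial idempotents for every field `K/k`.
* `local_of_idem_trivial_tensor` : conversely for `R` integral over `k`.

Geometry:
* `connectedSpace_iff_idem` : a scheme is connected iff its ring of global functions is nontrivial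
  with only trivial idempotents.
* `nonempty_ringEquiv_tensor` : flat base change for global sections, `Γ(X_K) ≃+* Γ(X) ⊗[k] K`.
-/

set_option autoImplicit false
universe u
open TensorProduct CategoryTheory CategoryTheory.Limits AlgebraicGeometry

namespace Groth.Agent.Lib.Seat74.GeomConnGamma

section algebra

variable {k : Type u} [Field k] {R : Type u} [CommRing R] [Algebra k R]

theorem isNilpotent_tmul_left {K : Type u} [CommRing K] [Algebra k K] {ν : R} (hν : IsNilpotent ν)
    (c : K) : IsNilpotent (ν ⊗ₜ[k] c) := by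
  obtain ⟨N, hN⟩ := hν
  exact ⟨N, by rw [Algebra.TensorProduct.tmul_pow, hN, zero_tmul]⟩

/-- an idempotent which is nilpotent vanishes -/
theorem idem_eq_zero_of_isNilpotent {S : Type*} [CommRing S] {e : S} (he : IsIdempotentElem e)
    (hn : IsNilpotent e) : e = 0 := by
  obtain ⟨N, hN⟩ := hn
  rcases Nat.eq_zero_or_pos N with rfl | hpos
  · rw [pow_zero] at hN
    have : Subsingleton S := subsingleton_of_zero_eq_one hN.symm
    exact Subsingleton.elim _ _
  · rw [IsIdempotentElem.pow_eq he hpos.ne'] at hN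
    exact hN

variable (q : ℕ) [ExpChar k q]

/-- if every `a ∈ R` has `a ^ q ^ n ∈ k + nil`, the same holds in `R ⊗[k] K` relative to `K` -/
theorem exists_pow_sub_nilpotent [Nontrivial R]
    (h : ∀ a : R, ∃ (n : ℕ) (c : k), IsNilpotent (a ^ (q ^ n) - algebraMap k R c))
    (K : Type u) [Field K] [Algebra k K] (x : R ⊗[k] K) :
    ∃ (n : ℕ) (c : K), IsNilpotent (x ^ (q ^ n) - (1 : R) ⊗ₜ[k] c) := by
  have hinjL : Function.Injective (Algebra.TensorProduct.includeLeft : R →ₐ[k] R ⊗[k] K) :=
    Algebra.TensorProduct.includeLeft_injective (algebraMap k K).injective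
  have : Nontrivial (R ⊗[k] K) := hinjL.nontrivial
  have hE : ExpChar (R ⊗[k] K) q :=
    expChar_of_injective_algebraMap (algebraMap k (R ⊗[k] K)).injective q
  have hqpos : ∀ m : ℕ, q ^ m ≠ 0 := fun m => (pow_pos (expChar_pos k q) m).ne'
  -- raising the exponent
  have raise : ∀ (y : R ⊗[k] K) (n : ℕ) (c : K), IsNilpotent (y ^ (q ^ n) - (1 : R) ⊗ₜ[k] c) →
      ∀ m : ℕ, IsNilpotent (y ^ (q ^ (n + m)) - (1 : R) ⊗ₜ[k] (c ^ (q ^ m))) := by
    intro y n c hy m
    have : y ^ (q ^ (n + m)) - (1 : R) ⊗ₜ[k] (c ^ (q ^ m)) =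
        (y ^ (q ^ n) - (1 : R) ⊗ₜ[k] c) ^ (q ^ m) := by
      rw [sub_pow_expChar_pow, ← pow_mul, ← pow_add, Algebra.TensorProduct.tmul_pow, one_pow]
    rw [this]
    exact hy.pow_of_pos (hqpos m)
  induction x using TensorProduct.induction_on with
  | zero => exact ⟨0, 0, by simp⟩
  | tmul r c =>
    obtain ⟨n, a, hn⟩ := h r
    refine ⟨n, a • c ^ (q ^ n), ?_⟩
    have : (r ⊗ₜ[k] c) ^ (q ^ n) - (1 : R) ⊗ₜ[k] (a • c ^ (q ^ n)) =
        (r ^ (q ^ n) - algebraMap k R a) ⊗ₜ[k] (c ^ (q ^ n)) := by
      rw [Algebra.TensorProduct.tmul_pow, sub_tmul, Algebra.algebraMap_eq_smul_one, smul_tmul]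
    rw [this]
    exact isNilpotent_tmul_left hn _
  | add x y hx hy =>
    obtain ⟨n, c, hn⟩ := hx
    obtain ⟨m, d, hm⟩ := hy
    refine ⟨n + m, c ^ (q ^ m) + d ^ (q ^ n), ?_⟩
    have h1 := raise x n c hn m
    have h2 := raise y m d hm n
    rw [add_comm m n] at h2
    have : (x + y) ^ (q ^ (n + m)) - (1 : R) ⊗ₜ[k] (c ^ (q ^ m) + d ^ (q ^ n)) =
        (x ^ (q ^ (n + m)) - (1 : R) ⊗ₜ[k] (c ^ (q ^ m))) +
          (y ^ (q ^ (n + m)) - (1 : R) ⊗ₜ[k] (d ^ (q ^ n))) := by
      rw [add_pow_expChar_pow, tmul_add]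
      ring
    rw [this]
    exact (Commute.all _ _).isNilpotent_add h1 h2

/-- if every `a ∈ R` has `a ^ q ^ n ∈ k + nil`, then `R ⊗[k] K` has only trivial idempotents -/
theorem idem_trivial_tensor [Nontrivial R]
    (h : ∀ a : R, ∃ (n : ℕ) (c : k), IsNilpotent (a ^ (q ^ n) - algebraMap k R c))
    (K : Type u) [Field K] [Algebra k K] (e : R ⊗[k] K) (he : IsIdempotentElem e) :
    e = 0 ∨ e = 1 := by
  have hinjL : Function.Injective (Algebra.TensorProduct.includeLeft : R →ₐ[k] R ⊗[k] K) :=
    Algebra.TensorProduct.includeLeft_injective (algebraMap k K).injective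
  have : Nontrivial (R ⊗[k] K) := hinjL.nontrivial
  have hqpos : ∀ m : ℕ, q ^ m ≠ 0 := fun m => (pow_pos (expChar_pos k q) m).ne'
  obtain ⟨n, c, hn⟩ := exists_pow_sub_nilpotent q h K e
  rw [IsIdempotentElem.pow_eq he (hqpos n)] at hn
  set ν := e - (1 : R) ⊗ₜ[k] c with hν
  let j : K →+* R ⊗[k] K := (Algebra.TensorProduct.includeRight : K →ₐ[k] R ⊗[k] K).toRingHom
  have hj : ∀ d : K, j d = (1 : R) ⊗ₜ[k] d := fun d => rfl
  have hjinj : Function.Injective j := j.injective
  have hcc : IsNilpotent (j (c * c - c)) := by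
    have : j (c * c - c) = ν * (ν - 2 * e + 1) := by
      have he' : e * e = e := he
      rw [map_sub, map_mul, hj]
      have : (1 : R) ⊗ₜ[k] c = e - ν := by rw [hν]; ring
      rw [this]
      calc (e - ν) * (e - ν) - (e - ν) = e * e - 2 * e * ν + ν * ν - e + ν := by ring
        _ = e - 2 * e * ν + ν * ν - e + ν := by rw [he']
        _ = ν * (ν - 2 * e + 1) := by ring
    rw [this]
    exact (Commute.all _ _).isNilpotent_mul_right hn
  have hc : c * c - c = 0 := by
    have := (IsNilpotent.map_iff hjinj).mp hcc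
    exact this.eq_zero
  have hc' : c = 0 ∨ c = 1 := by
    have : c * (c - 1) = 0 := by rw [mul_sub, mul_one, hc]
    rcases mul_eq_zero.mp this with h0 | h1
    · exact Or.inl h0
    · exact Or.inr (sub_eq_zero.mp h1)
  rcases hc' with rfl | rfl
  · left
    rw [tmul_zero, sub_zero] at hν
    rw [hν] at hn
    exact idem_eq_zero_of_isNilpotent he hn
  · right
    have h1 : IsIdempotentElem (1 - e) := he.one_sub
    have h2 : IsNilpotent (1 - e) := by
      have : (1 : R ⊗[k] K) - e = -ν := by
        rw [hν, Algebra.TensorProduct.one_def]; ring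
      rw [this]
      exact hn.neg
    have := idem_eq_zero_of_isNilpotent h1 h2
    exact (sub_eq_zero.mp this).symm

/-- a nontrivial ring with only trivial idempotents has connected spectrum -/
theorem connectedSpace_of_idem_trivial {S : Type*} [CommRing S] [Nontrivial S]
    (h : ∀ e : S, IsIdempotentElem e → e = 0 ∨ e = 1) : ConnectedSpace (PrimeSpectrum S) := by
  rw [connectedSpace_iff_clopen]
  refine ⟨inferInstance, fun s hs => ?_⟩
  obtain ⟨e, he, rfl⟩ := PrimeSpectrum.isClopen_iff.1 hs
  rcases h e he with rfl | rfl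
  · left; simp
  · right; simp

/-- **Lemma A.** If `R` is integral over the field `k` and every `R ⊗[k] K` (`K` a field) has only
trivial idempotents, then `R` is local of dimension `0` with residue field purely inseparable
over `k`. -/
theorem local_of_idem_trivial_tensor [Algebra.IsIntegral k R] [Nontrivial R]
    (hid : ∀ (K : Type u) [Field K] [Algebra k K] (e : R ⊗[k] K),
      IsIdempotentElem e → e = 0 ∨ e = 1) :
    IsLocalRing R ∧ ringKrullDim R = 0 ∧
      ∀ a : R, ∃ (n : ℕ) (c : k), IsNilpotent (a ^ (q ^ n) - algebraMap k R c) := by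
  have hint : (algebraMap k R).IsIntegral := algebraMap_isIntegral_iff.mpr inferInstance
  -- idempotents of `R` are trivial
  have hidR : ∀ e : R, IsIdempotentElem e → e = 0 ∨ e = 1 := by
    intro e he
    have hinjL : Function.Injective (Algebra.TensorProduct.includeLeft : R →ₐ[k] R ⊗[k] k) :=
      Algebra.TensorProduct.includeLeft_injective (algebraMap k k).injective
    rcases hid k _ (he.map (Algebra.TensorProduct.includeLeft : R →ₐ[k] R ⊗[k] k)) with h0 | h1
    · left
      exact hinjL (h0.trans (map_zero _).symm)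
    · right
      exact hinjL (h1.trans (map_one _).symm)
  have hconn : ConnectedSpace (PrimeSpectrum R) := connectedSpace_of_idem_trivial hidR
  have hsub : Subsingleton (PrimeSpectrum R) :=
    Groth.Agent.Lib.Seat74.SteinUH.subsingleton_primeSpectrum_of_isIntegral _ hint
  have hloc : IsLocalRing R := by
    obtain ⟨m, hm⟩ := Ideal.exists_maximal R
    refine IsLocalRing.of_unique_max_ideal ⟨m, hm, fun m' hm' => ?_⟩
    exact congrArg PrimeSpectrum.asIdeal
      (hsub.elim ⟨m', hm'.isPrime⟩ ⟨m, hm.isPrime⟩)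
  refine ⟨hloc, ?_, ?_⟩
  · have : Nonempty (PrimeSpectrum R) := inferInstance
    exact Order.krullDim_eq_zero
  -- the maximal ideal is the nilradical
  have hnil : ∀ x : R, x ∈ IsLocalRing.maximalIdeal R → IsNilpotent x := by
    intro x hx
    rw [← mem_nilradical, nilradical_eq_sInf, Ideal.mem_sInf]
    intro P hP
    have hP' : P.IsPrime := hP
    have : (⟨P, hP'⟩ : PrimeSpectrum R) = ⟨IsLocalRing.maximalIdeal R, inferInstance⟩ :=
      hsub.elim _ _
    have h2 : P = IsLocalRing.maximalIdeal R := congrArg PrimeSpectrum.asIdeal this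
    rw [h2]
    exact hx
  -- the residue field is purely inseparable
  let L := IsLocalRing.ResidueField R
  have hLalg : Algebra.IsAlgebraic k L := by
    have : Algebra.IsIntegral k L :=
      Algebra.IsIntegral.of_surjective (IsScalarTower.toAlgHom k R L)
        IsLocalRing.residue_surjective
    exact Algebra.IsIntegral.isAlgebraic
  have hpi : IsPurelyInseparable k L := by
    rw [isPurelyInseparable_iff_subsingleton_emb]
    refine ⟨fun σ₁ σ₂ => ?_⟩
    let Ω := AlgebraicClosure L
    -- idempotents of `Ω ⊗ R` are trivial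
    have hidΩ : ∀ e : Ω ⊗[k] R, IsIdempotentElem e → e = 0 ∨ e = 1 := by
      intro e he
      rcases hid Ω _ (he.map (Algebra.TensorProduct.comm k Ω R)) with h0 | h1
      · left
        exact (Algebra.TensorProduct.comm k Ω R).injective (h0.trans (map_zero _).symm)
      · right
        exact (Algebra.TensorProduct.comm k Ω R).injective (h1.trans (map_one _).symm)
    have hinjR : Function.Injective (Algebra.TensorProduct.includeRight : R →ₐ[k] Ω ⊗[k] R) :=
      Algebra.TensorProduct.includeRight_injective (algebraMap k Ω).injective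
    have : Nontrivial (Ω ⊗[k] R) := hinjR.nontrivial
    have hconnΩ : ConnectedSpace (PrimeSpectrum (Ω ⊗[k] R)) := connectedSpace_of_idem_trivial hidΩ
    have hintΩ : (algebraMap Ω (Ω ⊗[k] R)).IsIntegral := algebraMap_isIntegral_iff.mpr inferInstance
    let φ : (L →ₐ[k] Ω) → (Ω ⊗[k] R →ₐ[Ω] Ω) := fun σ =>
      Algebra.TensorProduct.lift (AlgHom.id Ω Ω) (σ.comp (IsScalarTower.toAlgHom k R L))
        (fun _ _ => Commute.all _ _)
    have hφ : ∀ σ, (φ σ).toRingHom.comp (algebraMap Ω (Ω ⊗[k] R)) = RingHom.id Ω := by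
      intro σ
      ext c
      simp [φ]
    have key := Groth.Agent.Lib.Seat74.SteinUH.retraction_unique _ hintΩ _ _ (hφ σ₁) (hφ σ₂)
    ext l
    obtain ⟨r, rfl⟩ := IsLocalRing.residue_surjective l
    have := congrArg (fun ψ : Ω ⊗[k] R →+* Ω => ψ ((1 : Ω) ⊗ₜ[k] r)) key
    have h3 : σ₁ ((algebraMap R L) r) = σ₂ ((algebraMap R L) r) := by simpa [φ] using this
    exact h3
  intro a
  obtain ⟨n, c, hc⟩ := IsPurelyInseparable.pow_mem k q (IsLocalRing.residue R a)
  refine ⟨n, c, hnil _ ?_⟩
  rw [← IsLocalRing.residue_eq_zero_iff, map_sub, map_pow, ← hc]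
  rw [sub_eq_zero]
  exact (IsScalarTower.algebraMap_apply k R L c)

end algebra

section geometry

open Groth.Agent.Lib.Seat87.SchIdem

/-- a scheme is connected iff its ring of global functions is nontrivial with only trivial
idempotents -/
theorem connectedSpace_iff_idem (Z : Scheme.{u}) :
    ConnectedSpace Z ↔
      Nontrivial Γ(Z, ⊤) ∧ ∀ e : Γ(Z, ⊤), IsIdempotentElem e → e = 0 ∨ e = 1 := by
  constructor
  · intro hZ
    have hne : Nonempty (⊤ : Z.Opens) := ⟨⟨Nonempty.some inferInstance, trivial⟩⟩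
    refine ⟨Scheme.component_nontrivial Z ⊤, fun e he => ?_⟩
    have hcl := isClopen_basicOpen_of_isIdempotentElem he
    rcases isClopen_iff.mp hcl with h | h
    · left
      apply idempotent_eq_of_basicOpen_eq he IsIdempotentElem.zero
      apply TopologicalSpace.Opens.ext
      rw [h, Scheme.basicOpen_zero]
      rfl
    · right
      apply idempotent_eq_of_basicOpen_eq he IsIdempotentElem.one
      apply TopologicalSpace.Opens.ext
      rw [h, Scheme.basicOpen_one]
      rfl
  · rintro ⟨hnt, hid⟩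
    have hne : Nonempty Z := by
      by_contra h
      rw [not_nonempty_iff] at h
      have : Subsingleton Γ(Z, ⊤) := by
        have : (⊤ : Z.Opens) = ⊥ := by
          ext x; exact (h.false x).elim
        rw [this]; infer_instance
      exact not_subsingleton Γ(Z, ⊤) this
    rw [connectedSpace_iff_clopen]
    refine ⟨hne, fun s hs => ?_⟩
    obtain ⟨e, he, rfl⟩ := exists_idempotent_of_isClopen hs
    rcases hid e he with rfl | rfl
    · left
      rw [Scheme.basicOpen_zero]; rfl
    · right
      rw [Scheme.basicOpen_one]; rfl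

theorem appLE_top_top {X Y : Scheme.{u}} (f : X ⟶ Y) (h : (⊤ : X.Opens) ≤ f ⁻¹ᵁ ⊤) :
    f.appLE ⊤ ⊤ h = f.appTop := by
  rw [Scheme.Hom.appLE]
  have : X.presheaf.map (homOfLE h).op = 𝟙 _ := X.presheaf.map_id _
  rw [this]
  exact Category.comp_id _

/-- **Flat base change for global sections over a field**, as a bare ring isomorphism. -/
theorem nonempty_ringEquiv_tensor {k : Type u} [Field k] {X : Scheme.{u}}
    (f : X ⟶ Spec (CommRingCat.of k)) [QuasiCompact f] [QuasiSeparated f]
    [Algebra k Γ(X, ⊤)]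
    (hR : algebraMap k Γ(X, ⊤) = ((Scheme.ΓSpecIso (CommRingCat.of k)).inv ≫ f.appTop).hom)
    (K : Type u) [Field K] [Algebra k K] {Z : Scheme.{u}} (fst : Z ⟶ X)
    (snd : Z ⟶ Spec (CommRingCat.of K))
    (h : IsPullback fst snd f (Spec.map (CommRingCat.ofHom (algebraMap k K)))) :
    Nonempty (Γ(X, ⊤) ⊗[k] K ≃+* Γ(Z, ⊤)) := by
  have hflat : Flat (Spec.map (CommRingCat.ofHom (algebraMap k K))) := by
    rw [HasRingHomProperty.Spec_iff (P := @Flat)]
    exact (RingHom.flat_algebraMap_iff).mpr inferInstance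
  have hXc : CompactSpace X := (quasiCompact_iff_compactSpace f).mp inferInstance
  have hXqs : QuasiSeparatedSpace X := (quasiSeparated_iff_quasiSeparatedSpace f).mp inferInstance
  have h1 : (⊤ : (Spec (CommRingCat.of K)).Opens) ≤
      (Spec.map (CommRingCat.ofHom (algebraMap k K))) ⁻¹ᵁ ⊤ := by simp
  have h2 : (⊤ : X.Opens) ≤ f ⁻¹ᵁ ⊤ := by simp
  have hiso := isIso_pushoutSection_of_isQuasiSeparated_of_flat_right h
    (US := ⊤) (UT := ⊤) (UX := ⊤) (UY := ⊤) h1 h2 (by simp)
    (isAffineOpen_top _) (isAffineOpen_top _) isCompact_univ isQuasiSeparated_univ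
  have hpo := (isIso_pushoutSection_iff h (US := ⊤) (UT := ⊤) (UX := ⊤) (UY := ⊤)
    h1 h2 (by simp)).mp hiso
  have hpo' : IsPushout (CommRingCat.ofHom (algebraMap k Γ(X, ⊤)))
      (CommRingCat.ofHom (algebraMap k K)) fst.appTop
      ((Scheme.ΓSpecIso (CommRingCat.of K)).inv ≫ snd.appTop) := by
    refine hpo.of_iso (Scheme.ΓSpecIso (CommRingCat.of k)) (Iso.refl _)
      (Scheme.ΓSpecIso (CommRingCat.of K)) (Iso.refl _) ?_ ?_ ?_ ?_
    · rw [hR, appLE_top_top]
      simp
    · rw [appLE_top_top]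
      exact Scheme.ΓSpecIso_naturality (CommRingCat.ofHom (algebraMap k K))
    · rw [appLE_top_top]
      simp
    · rw [appLE_top_top]
      simp
  exact ⟨((CommRingCat.isPushout_tensorProduct k Γ(X, ⊤) K).isoPushout ≪≫
    hpo'.isoPushout.symm).commRingCatIsoToRingEquiv⟩

end geometry

end Groth.Agent.Lib.Seat74.GeomConnGamma
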