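import Groth.Agent.Lib.Seat74SemiNorm2

/-!
# Factoring morphisms through finite universal homeomorphisms (helper74)

Let `ν : T' ⟶ T` be a universal homeomorphism, `X ⟶ S` separated and locally of finite type, and
`g : T' ⟶ X` an `S`-morphism.  The scheme-theoretic image `Z` of the graph `T' ⟶ T ×_S X` is finite
and a universal homeomorphism over `T` (`exists_graph_factor`), and `g` factors through it.
Two factorizations through finite universal homeomorphisms agree on the equalizer inside the fibre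
product, which is again a finite universal homeomorphism over `T` (`exists_equalizer_factor`).
-/

universe u
open AlgebraicGeometry CategoryTheory Limits HTop

namespace Groth.Agent.Lib.Seat74.GraphFactor
open Groth.Agent.Lib.Seat74.SemiNorm

theorem universallyInjective_of_comp_surjective {X Y Z : Scheme.{u}} (f : X ⟶ Y) (g : Y ⟶ Z)
    [UniversallyInjective (f ≫ g)] [Surjective f] : UniversallyInjective g := by
  constructor
  intro X' Y' i₁ i₂ f' H
  have h1 := UniversallyInjective.universally_injective _ _ _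
    ((IsPullback.of_hasPullback i₁ f).paste_horiz H)
  have hs' : Surjective (pullback.fst i₁ f) := inferInstance
  have hs : Function.Surjective (pullback.fst i₁ f) := (pullback.fst i₁ f).surjective
  intro a b hab
  obtain ⟨a', rfl⟩ := hs a
  obtain ⟨b', rfl⟩ := hs b
  have h2 : a' = b' := h1 (by
    show (pullback.fst i₁ f ≫ f') a' = (pullback.fst i₁ f ≫ f') b'
    rw [Scheme.Hom.comp_apply, Scheme.Hom.comp_apply]
    exact hab)
  rw [h2]

/-- If `e ≫ π` induces isomorphisms on residue fields and `e` is surjective, so does `π`. -/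
theorem rfi_of_comp_surjective {X Y Z : Scheme.{u}} (e : X ⟶ Y) (π : Y ⟶ Z) [Surjective e]
    (h : ResidueFieldsIso (e ≫ π)) : ResidueFieldsIso π := by
  intro y
  obtain ⟨x, rfl⟩ := e.surjective y
  have h1 : IsIso (π.residueFieldMap (e x) ≫ e.residueFieldMap x) := by
    have h0 := h x
    rw [Scheme.residueFieldMap_comp] at h0
    exact h0
  have h2 : IsIso (e.residueFieldMap x) := by
    rw [ConcreteCategory.isIso_iff_bijective]
    refine ⟨(e.residueFieldMap x).hom.injective, ?_⟩
    intro z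
    obtain ⟨w, hw⟩ := (ConcreteCategory.bijective_of_isIso
      (π.residueFieldMap (e x) ≫ e.residueFieldMap x)).2 z
    exact ⟨π.residueFieldMap (e x) w, hw⟩
  exact IsIso.of_isIso_comp_right (π.residueFieldMap (e x)) (e.residueFieldMap x)

/-- **Graph trick.**  An `S`-morphism `g : T' ⟶ X` from the source of a universal homeomorphism
`ν : T' ⟶ T` to a separated `S`-scheme locally of finite type factors through a finite universal
homeomorphism `π : T₁ ⟶ T` (the scheme-theoretic image of the graph), via a surjection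
`h : T' ⟶ T₁`. -/
theorem exists_graph_factor {S X T T' : Scheme.{u}} [X.IsSeparated]
    (fX : X ⟶ S) [LocallyOfFiniteType fX] (fT : T ⟶ S) (ν : T' ⟶ T)
    (hν : FlatMor.IsUnivHomeo ν) (g : T' ⟶ X) (hg : g ≫ fX = ν ≫ fT) :
    ∃ (T₁ : Scheme.{u}) (π : T₁ ⟶ T) (_ : IsFinite π) (_ : FlatMor.IsUnivHomeo π) (g₁ : T₁ ⟶ X)
      (h : T' ⟶ T₁), Surjective h ∧ h ≫ π = ν ∧ g₁ ≫ fX = π ≫ fT ∧ h ≫ g₁ = g := by
  obtain ⟨hint, hui, hsurj⟩ := (Groth.Agent.S0415.result ν).mp hν
  let p : pullback fT fX ⟶ T := pullback.fst fT fX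
  let γ : T' ⟶ pullback fT fX := pullback.lift ν g hg.symm
  have hγp : γ ≫ p = ν := pullback.lift_fst _ _ _
  have hγq : γ ≫ pullback.snd fT fX = g := pullback.lift_snd _ _ _
  have hsepp : IsSeparated p := inferInstance
  have hloftp : LocallyOfFiniteType p := inferInstance
  have hγint : IsIntegralHom (γ ≫ p) := hγp ▸ hint
  have hγint' : IsIntegralHom γ := IsIntegralHom.of_comp γ p
  have hγuc : UniversallyClosed γ := inferInstance
  let e : T' ⟶ γ.image := γ.toImage
  let i : γ.image ⟶ pullback fT fX := γ.imageι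
  have hei : e ≫ i = γ := γ.toImage_imageι
  have hedom : IsDominant e := inferInstance
  have heuc : UniversallyClosed e := inferInstance
  have hesurj : Surjective e :=
    surjective_of_isDominant_of_isClosed_range e e.isClosedMap.isClosed_range
  let π : γ.image ⟶ T := i ≫ p
  have heπ : e ≫ π = ν := by rw [← Category.assoc, hei, hγp]
  have h1 : UniversallyClosed (e ≫ π) := heπ ▸ inferInstance
  have hπuc : UniversallyClosed π := UniversallyClosed.of_comp_surjective e π
  have h2 : UniversallyInjective (e ≫ π) := heπ ▸ hui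
  have hπui : UniversallyInjective π := universallyInjective_of_comp_surjective e π
  have hπsep : IsSeparated π := inferInstance
  have hπloft : LocallyOfFiniteType π := inferInstance
  have hπproper : IsProper π := {}
  have hπfin : IsFinite π := IsFinite.of_isProper_of_locallyQuasiFinite π
  have h3 : Surjective (e ≫ π) := heπ ▸ hsurj
  have hπsurj : Surjective π := Surjective.of_comp e π
  refine ⟨γ.image, π, hπfin, (Groth.Agent.S0415.result π).mpr ⟨inferInstance, hπui, hπsurj⟩,
    i ≫ pullback.snd fT fX, e, hesurj, heπ, ?_, ?_⟩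
  · rw [Category.assoc, ← pullback.condition, Category.assoc]
  · rw [← Category.assoc, hei, hγq]

/-- Two factorizations of an `S`-morphism from the source of a universal homeomorphism
`ν : T' ⟶ T` through finite universal homeomorphisms `T₁, T₂ ⟶ T` agree on a finite universal
homeomorphism `T₃ ⟶ T` dominating both: the equalizer inside `T₁ ×_T T₂`. -/
theorem exists_equalizer_factor {X T T' T₁ T₂ : Scheme.{u}} [X.IsSeparated]
    (ν : T' ⟶ T) (hν : FlatMor.IsUnivHomeo ν)
    (π₁ : T₁ ⟶ T) (π₂ : T₂ ⟶ T) [IsFinite π₁] [IsFinite π₂]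
    (hπ₁ : FlatMor.IsUnivHomeo π₁) (hπ₂ : FlatMor.IsUnivHomeo π₂)
    (g₁ : T₁ ⟶ X) (g₂ : T₂ ⟶ X) (h₁ : T' ⟶ T₁) (h₂ : T' ⟶ T₂)
    (e₁ : h₁ ≫ π₁ = ν) (e₂ : h₂ ≫ π₂ = ν) (e : h₁ ≫ g₁ = h₂ ≫ g₂) :
    ∃ (T₃ : Scheme.{u}) (π₃ : T₃ ⟶ T) (_ : IsFinite π₃) (_ : FlatMor.IsUnivHomeo π₃)
      (a₁ : T₃ ⟶ T₁) (a₂ : T₃ ⟶ T₂), a₁ ≫ π₁ = π₃ ∧ a₂ ≫ π₂ = π₃ ∧ a₁ ≫ g₁ = a₂ ≫ g₂ ∧
      (ResidueFieldsIso π₁ → ResidueFieldsIso π₂ → ResidueFieldsIso π₃) := by
  obtain ⟨-, -, hνsurj⟩ := (Groth.Agent.S0415.result ν).mp hν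
  let q : pullback π₁ π₂ ⟶ T := pullback.fst π₁ π₂ ≫ π₁
  have hqUH : FlatMor.IsUnivHomeo q :=
    isUnivHomeo_comp (isUnivHomeo_of_isPullback (IsPullback.of_hasPullback π₁ π₂) hπ₂) hπ₁
  obtain ⟨hqint, hqui, hqsurj⟩ := (Groth.Agent.S0415.result q).mp hqUH
  have hqfin : IsFinite q := inferInstance
  let u : pullback π₁ π₂ ⟶ X := pullback.fst π₁ π₂ ≫ g₁
  let v : pullback π₁ π₂ ⟶ X := pullback.snd π₁ π₂ ≫ g₂
  let a : equalizer u v ⟶ pullback π₁ π₂ := equalizer.ι u v
  have hacl : IsClosedImmersion a := inferInstance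
  let k : T' ⟶ pullback π₁ π₂ := pullback.lift h₁ h₂ (e₁.trans e₂.symm)
  have hk1 : k ≫ pullback.fst π₁ π₂ = h₁ := pullback.lift_fst _ _ _
  have hk2 : k ≫ pullback.snd π₁ π₂ = h₂ := pullback.lift_snd _ _ _
  have hkuv : k ≫ u = k ≫ v := by
    rw [← Category.assoc, ← Category.assoc, hk1, hk2, e]
  let k' : T' ⟶ equalizer u v := equalizer.lift k hkuv
  have hk'a : k' ≫ a = k := equalizer.lift_ι _ _
  have hkq : k ≫ q = ν := by rw [← Category.assoc, hk1, e₁]
  have hasurj : Surjective a := by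
    refine ⟨fun z => ?_⟩
    obtain ⟨t', ht'⟩ := hνsurj.surj (q z)
    refine ⟨k' t', ?_⟩
    apply q.injective
    have h4 : q (a (k' t')) = ((k' ≫ a) ≫ q) t' := rfl
    rw [h4, hk'a, hkq, ht']
  have haui : UniversallyInjective a := inferInstance
  have hπ₃UH : FlatMor.IsUnivHomeo (a ≫ q) :=
    (Groth.Agent.S0415.result (a ≫ q)).mpr
      ⟨inferInstance, MorphismProperty.comp_mem _ a q haui hqui, inferInstance⟩
  refine ⟨equalizer u v, a ≫ q, inferInstance, hπ₃UH, a ≫ pullback.fst π₁ π₂,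
    a ≫ pullback.snd π₁ π₂, Category.assoc _ _ _, ?_, ?_, ?_⟩
  · rw [Category.assoc, ← pullback.condition]
  · rw [Category.assoc, Category.assoc]
    exact equalizer.condition u v
  · intro hr₁ hr₂
    exact rfi_comp (rfi_of_surjectiveOnStalks a) (rfi_comp (rfi_pullback_fst π₁ π₂ hr₂) hr₁)

end Groth.Agent.Lib.Seat74.GraphFactor
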