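import Groth.Agent.Lib.Seat74GraphFactor
import Mathlib.AlgebraicGeometry.AffineSpace
import Groth.Agent.S7421

/-!
# Descent of functions along proper surjections onto seminormal schemes (helper74)

`exists_unique_descent`: `X` seminormal, `π : Y ⟶ X` proper surjective with `Y` reduced; a global
function `s` on `Y` whose two pullbacks to `Y ×_X Y` agree descends uniquely to `X`.

Proof: the scheme-theoretic image `Z` of `(π, s) : Y ⟶ 𝔸¹_X` is proper over `X`; the two maps
`Y ×_X Y ⇉ Z` agree, which makes `Z ⟶ X` universally injective (its diagonal is surjective) with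
trivial residue field extensions; so `Z ⟶ X` is a universal homeomorphism with trivial residue field
extensions from a reduced scheme to a seminormal one, hence an isomorphism.
-/

set_option autoImplicit false
universe u
open AlgebraicGeometry CategoryTheory Limits HTop
open scoped TensorProduct

namespace Groth.Agent.Lib.Seat74.HDescent

open Groth.Agent.Lib.Seat74.SemiNorm Groth.Agent.Lib.Seat74.GraphFactor

/-- Faithfully flat descent for a field extension: `l ⊗ 1 = 1 ⊗ l` in `L ⊗_K L` forces `l ∈ K`. -/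
theorem mem_range_of_tmul_eq (K L : Type u) [Field K] [Field L] [Algebra K L] (l : L)
    (h : l ⊗ₜ[K] (1 : L) = (1 : L) ⊗ₜ[K] l) : l ∈ (algebraMap K L).range := by
  by_contra hl
  have hl' : l ∉ Submodule.span K {(1 : L)} := by
    intro hmem
    obtain ⟨a, ha⟩ := Submodule.mem_span_singleton.mp hmem
    exact hl ⟨a, by rw [Algebra.algebraMap_eq_smul_one, ha]⟩
  obtain ⟨φ, hφl, hφW⟩ := Submodule.exists_le_ker_of_notMem hl'
  have h1 : φ 1 = 0 := hφW (Submodule.subset_span rfl)
  have h2 := congrArg (fun t => TensorProduct.lid K L (φ.rTensor L t)) h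
  simp only [LinearMap.rTensor_tmul, TensorProduct.lid_tmul, h1, zero_smul] at h2
  rcases smul_eq_zero.mp h2 with h3 | h3
  · exact hφl h3
  · exact one_ne_zero h3

/-- Algebraic core: if every pair of ring maps out of `L` agreeing on `K` agrees on `M`
(`K → M → L` fields), then `K → M` is surjective. -/
theorem surjective_of_epi_like (K M L : Type u) [Field K] [Field M] [Field L] (a : K →+* M)
    (b : M →+* L)
    (H : ∀ (R : Type u) [CommRing R] (u₁ u₂ : L →+* R),
      u₁.comp (b.comp a) = u₂.comp (b.comp a) → u₁.comp b = u₂.comp b) :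
    Function.Surjective a := by
  let _ : Algebra K L := (b.comp a).toAlgebra
  intro m
  have h0 := H (L ⊗[K] L) Algebra.TensorProduct.includeLeftRingHom
    (Algebra.TensorProduct.includeRight : L →ₐ[K] L ⊗[K] L).toRingHom (by
      ext k
      show (algebraMap K L k) ⊗ₜ[K] (1 : L) = (1 : L) ⊗ₜ[K] (algebraMap K L k)
      rw [Algebra.algebraMap_eq_smul_one, TensorProduct.smul_tmul])
  have h4 : (b m) ⊗ₜ[K] (1 : L) = (1 : L) ⊗ₜ[K] (b m) := congr($h0 m)
  obtain ⟨k, hk⟩ := mem_range_of_tmul_eq K L (b m) h4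
  exact ⟨k, b.injective hk⟩

/-- Categorical core: if the two composites `Y ×_X Y ⇉ Y ⟶ Z` agree (`Y ⟶ Z ⟶ X`), then maps out
of `κ(y)` which agree on `κ(x)` agree on `κ(z)`. -/
theorem residueFieldMap_comp_eq_of_fst_eq_snd {X Y Z : Scheme.{u}} (e : Y ⟶ Z) (ρ : Z ⟶ X)
    (h : pullback.fst (e ≫ ρ) (e ≫ ρ) ≫ e = pullback.snd (e ≫ ρ) (e ≫ ρ) ≫ e) (y : Y)
    (R : CommRingCat.{u}) (u₁ u₂ : Y.residueField y ⟶ R)
    (hu : (e ≫ ρ).residueFieldMap y ≫ u₁ = (e ≫ ρ).residueFieldMap y ≫ u₂) :
    e.residueFieldMap y ≫ u₁ = e.residueFieldMap y ≫ u₂ := by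
  have hj : Spec.map u₁ ≫ Spec.map ((e ≫ ρ).residueFieldMap y) =
      Spec.map u₂ ≫ Spec.map ((e ≫ ρ).residueFieldMap y) :=
    (Spec.map_comp _ _).symm.trans ((congrArg Spec.map hu).trans (Spec.map_comp _ _))
  have hσ : Y.fromSpecResidueField y ≫ (e ≫ ρ) =
      Spec.map ((e ≫ ρ).residueFieldMap y) ≫ X.fromSpecResidueField _ :=
    (Scheme.Hom.SpecMap_residueFieldMap_fromSpecResidueField (e ≫ ρ) y).symm
  have hcomm : (Spec.map u₁ ≫ Y.fromSpecResidueField y) ≫ (e ≫ ρ) =
      (Spec.map u₂ ≫ Y.fromSpecResidueField y) ≫ (e ≫ ρ) := by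
    rw [Category.assoc, Category.assoc, hσ, ← Category.assoc, ← Category.assoc, hj]
  have h1 : (Spec.map u₁ ≫ Y.fromSpecResidueField y) ≫ e =
      (Spec.map u₂ ≫ Y.fromSpecResidueField y) ≫ e := by
    have h0 := congrArg (fun m => pullback.lift _ _ hcomm ≫ m) h
    simp only [← Category.assoc] at h0
    rw [pullback.lift_fst, pullback.lift_snd] at h0
    exact h0
  have hσe : Y.fromSpecResidueField y ≫ e =
      Spec.map (e.residueFieldMap y) ≫ Z.fromSpecResidueField (e y) :=
    (Scheme.Hom.SpecMap_residueFieldMap_fromSpecResidueField e y).symm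
  have h2 : Spec.map u₁ ≫ Spec.map (e.residueFieldMap y) =
      Spec.map u₂ ≫ Spec.map (e.residueFieldMap y) := by
    rw [← cancel_mono (Z.fromSpecResidueField (e y)), Category.assoc, Category.assoc, ← hσe,
      ← Category.assoc, ← Category.assoc]
    exact h1
  exact Spec.map_injective ((Spec.map_comp _ _).trans (h2.trans (Spec.map_comp _ _).symm))

/-- If the two composites `Y ×_X Y ⇉ Y ⟶ Z` agree (`Y ⟶ Z ⟶ X`), then `Z ⟶ X` induces
isomorphisms of residue fields at all points in the image of `Y`. -/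
theorem isIso_residueFieldMap_of_fst_eq_snd {X Y Z : Scheme.{u}} (e : Y ⟶ Z) (ρ : Z ⟶ X)
    (π : Y ⟶ X) (hπ : e ≫ ρ = π)
    (h : pullback.fst π π ≫ e = pullback.snd π π ≫ e) (y : Y) :
    IsIso (ρ.residueFieldMap (e y)) := by
  subst hπ
  have hc : (e ≫ ρ).residueFieldMap y = ρ.residueFieldMap (e y) ≫ e.residueFieldMap y :=
    Scheme.residueFieldMap_comp e ρ y
  rw [ConcreteCategory.isIso_iff_bijective]
  refine ⟨(ρ.residueFieldMap (e y)).hom.injective, ?_⟩
  refine surjective_of_epi_like _ _ _ (ρ.residueFieldMap (e y)).hom (e.residueFieldMap y).hom ?_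
  intro R _ u₁ u₂ hu
  have key := residueFieldMap_comp_eq_of_fst_eq_snd e ρ h y (CommRingCat.of R)
    (CommRingCat.ofHom u₁) (CommRingCat.ofHom u₂) (by
      rw [hc]
      ext k
      exact congr($hu k))
  ext m
  exact congr($key m)

/-- The scheme-theoretic image of a quasi-compact morphism from a reduced scheme is reduced. -/
theorem isReduced_image {X Y : Scheme.{u}} (f : X ⟶ Y) [QuasiCompact f] [IsReduced X] :
    IsReduced f.image := by
  have h2 : ∀ U : Y.affineOpens, _root_.IsReduced Γ(f.image, f.imageι ⁻¹ᵁ U) := fun U =>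
    isReduced_of_injective (f.toImage.app (f.imageι ⁻¹ᵁ U)).hom (f.toImage_app_injective U)
  have h3 : ∀ z : f.image, _root_.IsReduced (f.image.presheaf.stalk z) := by
    intro z
    obtain ⟨_, ⟨U, hU, rfl⟩, hzU, -⟩ :=
      Y.isBasis_affineOpens.exists_subset_of_mem_open (Set.mem_univ (f.imageι z)) isOpen_univ
    have hV : IsAffineOpen (f.imageι ⁻¹ᵁ U) := hU.preimage f.imageι
    let _ : Algebra Γ(f.image, f.imageι ⁻¹ᵁ U) (f.image.presheaf.stalk z) :=
      TopCat.Presheaf.algebra_section_stalk f.image.presheaf (⟨z, hzU⟩ : (f.imageι ⁻¹ᵁ U : _))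
    have := hV.isLocalization_stalk ⟨z, hzU⟩
    exact isReduced_localizationPreserves (hV.primeIdealOf ⟨z, hzU⟩).asIdeal.primeCompl
      (f.image.presheaf.stalk z) (h2 ⟨U, hU⟩)
  exact isReduced_of_isReduced_stalk f.image

/-- Injectivity of pullback of functions along a surjective morphism to a reduced scheme. -/
theorem appTop_injective_of_surjective {X Y : Scheme.{u}} (π : Y ⟶ X) [Surjective π]
    [IsReduced X] : Function.Injective π.appTop := by
  rw [injective_iff_map_eq_zero]
  intro t ht
  have h1 : π ⁻¹ᵁ X.basicOpen t = ⊥ := by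
    rw [Scheme.preimage_basicOpen_top, ht, Scheme.basicOpen_zero]
  have h2 : X.basicOpen t = ⊥ := by
    ext x
    simp only [TopologicalSpace.Opens.coe_bot, Set.mem_empty_iff_false, iff_false]
    intro hx
    obtain ⟨y, rfl⟩ := π.surjective x
    have : y ∈ π ⁻¹ᵁ X.basicOpen t := hx
    rw [h1] at this
    exact this
  exact (basicOpen_eq_bot_iff t).mp h2

set_option backward.isDefEq.respectTransparency.types false in
/-- **h-descent of functions on seminormal schemes.**  `X` seminormal, `π : Y ⟶ X` proper and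
surjective with `Y` reduced: a global function on `Y` whose two pullbacks to `Y ×_X Y` agree is
the pullback of exactly one global function on `X`. -/
theorem exists_unique_descent {X Y : Scheme.{u}} (hX : IsSeminormal X) (π : Y ⟶ X) [IsProper π]
    [Surjective π] [IsReduced Y] (s : Γ(Y, ⊤))
    (hs : (pullback.fst π π).appTop s = (pullback.snd π π).appTop s) :
    ∃! t : Γ(X, ⊤), π.appTop t = s := by
  have hredX : IsReduced X := Groth.Agent.S7421.result.2 X hX
  let p : 𝔸(PUnit.{u + 1}; X) ⟶ X := 𝔸(PUnit.{u + 1}; X) ↘ X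
  let γ : Y ⟶ 𝔸(PUnit.{u + 1}; X) := AffineSpace.homOfVector π (fun _ => s)
  have hγp : γ ≫ p = π := AffineSpace.homOfVector_over π _
  have hγc : γ.appTop (AffineSpace.coord X PUnit.unit) = s :=
    AffineSpace.homOfVector_appTop_coord π _ _
  have hγuc' : UniversallyClosed (γ ≫ p) := hγp ▸ inferInstance
  have hγuc : UniversallyClosed γ := UniversallyClosed.of_comp_of_isSeparated γ p
  let e : Y ⟶ γ.image := γ.toImage
  let i : γ.image ⟶ 𝔸(PUnit.{u + 1}; X) := γ.imageι
  have hei : e ≫ i = γ := γ.toImage_imageι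
  have hedom : IsDominant e := inferInstance
  have heuc : UniversallyClosed e := inferInstance
  have hesurj : Surjective e :=
    surjective_of_isDominant_of_isClosed_range e e.isClosedMap.isClosed_range
  let ρ : γ.image ⟶ X := i ≫ p
  have heρ : e ≫ ρ = π := by rw [← Category.assoc, hei, hγp]
  have h1 : UniversallyClosed (e ≫ ρ) := heρ ▸ inferInstance
  have hρuc : UniversallyClosed ρ := UniversallyClosed.of_comp_surjective e ρ
  have hρsep : IsSeparated ρ := inferInstance
  have hρloft : LocallyOfFiniteType ρ := inferInstance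
  have hρproper : IsProper ρ := {}
  have h3 : Surjective (e ≫ ρ) := heρ ▸ inferInstance
  have hρsurj : Surjective ρ := Surjective.of_comp e ρ
  -- the two maps `Y ×_X Y ⇉ Z` agree
  have hfs : pullback.fst π π ≫ e = pullback.snd π π ≫ e := by
    rw [← cancel_mono i, Category.assoc, Category.assoc, hei]
    apply AffineSpace.hom_ext
    · rw [Category.assoc, Category.assoc]
      show pullback.fst π π ≫ γ ≫ p = pullback.snd π π ≫ γ ≫ p
      rw [hγp, pullback.condition]
    · intro j
      rw [Scheme.Hom.comp_appTop, Scheme.Hom.comp_appTop, CommRingCat.comp_apply,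
        CommRingCat.comp_apply, hγc]
      exact hs
  -- universal injectivity via the diagonal
  have hρui : UniversallyInjective ρ := by
    rw [UniversallyInjective.iff_diagonal]
    have hE : Surjective (pullback.map π π ρ ρ e e (𝟙 X)
        ((Category.comp_id _).trans heρ.symm) ((Category.comp_id _).trans heρ.symm)) :=
      MorphismProperty.pullbackMap (P := @Surjective.{u}) hesurj hesurj heρ.symm heρ.symm
    have hEq : pullback.map π π ρ ρ e e (𝟙 X)
        ((Category.comp_id _).trans heρ.symm) ((Category.comp_id _).trans heρ.symm) =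
        (pullback.fst π π ≫ e) ≫ pullback.diagonal ρ := by
      apply pullback.hom_ext
      · rw [pullback.lift_fst, Category.assoc, pullback.diagonal_fst, Category.comp_id]
      · rw [pullback.lift_snd, Category.assoc, pullback.diagonal_snd, Category.comp_id, hfs]
    rw [hEq] at hE
    exact Surjective.of_comp (pullback.fst π π ≫ e) (pullback.diagonal ρ)
  have hρfin : IsFinite ρ := IsFinite.of_isProper_of_locallyQuasiFinite ρ
  have hρUH : FlatMor.IsUnivHomeo ρ :=
    (Groth.Agent.S0415.result ρ).mpr ⟨inferInstance, hρui, hρsurj⟩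
  have hρrfi : ResidueFieldsIso ρ := by
    intro z
    obtain ⟨y, rfl⟩ := e.surjective z
    exact isIso_residueFieldMap_of_fst_eq_snd e ρ π heρ hfs y
  have hZred : IsReduced γ.image := isReduced_image γ
  have hρiso : IsIso ρ := isIso_of_isUnivHomeo_of_residueFieldsIso' ρ hρUH hρrfi hX
  have hinv : ρ.appTop ((inv ρ).appTop (i.appTop (AffineSpace.coord X PUnit.unit))) =
      i.appTop (AffineSpace.coord X PUnit.unit) := by
    rw [← CommRingCat.comp_apply, ← Scheme.Hom.comp_appTop, IsIso.hom_inv_id,
      Scheme.Hom.id_appTop]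
    rfl
  have hec : e.appTop (i.appTop (AffineSpace.coord X PUnit.unit)) = s := by
    rw [← CommRingCat.comp_apply, ← Scheme.Hom.comp_appTop, hei, hγc]
  have hπtop : π.appTop = ρ.appTop ≫ e.appTop := by
    rw [← heρ, Scheme.Hom.comp_appTop]
  have hts : π.appTop ((inv ρ).appTop (i.appTop (AffineSpace.coord X PUnit.unit))) = s := by
    rw [hπtop, CommRingCat.comp_apply, hinv, hec]
  refine ⟨(inv ρ).appTop (i.appTop (AffineSpace.coord X PUnit.unit)), hts, ?_⟩
  intro t' ht'
  apply appTop_injective_of_surjective π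
  rw [ht', hts]

end Groth.Agent.Lib.Seat74.HDescent
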