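import Mathlib.RingTheory.Kaehler.JacobiZariski
import Mathlib.RingTheory.Kaehler.Polynomial
import Mathlib.RingTheory.Etale.Basic
import Mathlib.RingTheory.Smooth.Basic
import Mathlib.RingTheory.Jacobson.Ring
import Mathlib.FieldTheory.IsAlgClosed.Basic

/-!
# Étale coordinates: a smooth algebra whose differentials have a basis `dt_i` is formally étale
over the polynomial ring in the `t_i`; rational points of finite type algebras over an
algebraically closed field.
-/

set_option autoImplicit false
set_option linter.style.haveILetI false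
universe u v w

namespace Groth.Agent.Lib.Seat88.FrobDetA

open KaehlerDifferential MvPolynomial TensorProduct

section tower

variable {R : Type u} {S : Type v} {T : Type w} [CommRing R] [CommRing S] [CommRing T]
  [Algebra R S] [Algebra S T] [Algebra R T] [IsScalarTower R S T]

/-- For `R → S → T` with `T` formally smooth over `R`: if `T ⊗_S Ω_{S/R} → Ω_{T/R}` is bijective
then `T` is formally étale over `S`. -/
theorem formallyEtale_of_bijective_mapBaseChange [Algebra.FormallySmooth R T]
    (h : Function.Bijective (mapBaseChange R S T)) : Algebra.FormallyEtale S T := by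
  have hex := KaehlerDifferential.exact_mapBaseChange_map R S T
  have hsurj : Function.Surjective (KaehlerDifferential.map R S T T) :=
    KaehlerDifferential.map_surjective R S T
  have h1 := Algebra.H1Cotangent.exact_map_δ R S T
  have h2 := Algebra.H1Cotangent.exact_δ_mapBaseChange R S T
  refine ⟨⟨fun x y => ?_⟩, ⟨fun x y => ?_⟩⟩
  · have hz : ∀ z : Ω[T⁄S], z = 0 := by
      intro z
      obtain ⟨w, rfl⟩ := hsurj z
      obtain ⟨v, rfl⟩ := h.2 w
      exact (hex _).mpr ⟨v, rfl⟩
    rw [hz x, hz y]
  · have hz : ∀ z : Algebra.H1Cotangent S T, z = 0 := by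
      intro z
      have hδ : Algebra.H1Cotangent.δ R S T z = 0 := by
        apply h.1
        rw [map_zero]
        exact (h2 _).mpr ⟨z, rfl⟩
      obtain ⟨w, rfl⟩ := (h1 z).mp hδ
      rw [Subsingleton.elim w 0, map_zero]
    rw [hz x, hz y]

end tower

section coords

variable {k : Type u} [Field k] {A : Type v} [CommRing A] [Algebra k A] {n : ℕ}

/-- `A` is formally étale over `k[X_1..X_n]` via `X_i ↦ t_i` when the `dt_i` form a basis. -/
theorem formallyEtale_of_basis [Algebra.FormallySmooth k A] (t : Fin n → A)
    (b : Module.Basis (Fin n) A (Ω[A⁄k])) (hb : ∀ i, b i = D k A (t i))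
    [Algebra (MvPolynomial (Fin n) k) A] [IsScalarTower k (MvPolynomial (Fin n) k) A]
    (halg : ∀ i, algebraMap (MvPolynomial (Fin n) k) A (X i) = t i) :
    Algebra.FormallyEtale (MvPolynomial (Fin n) k) A := by
  apply formallyEtale_of_bijective_mapBaseChange (R := k)
  let b0 : Module.Basis (Fin n) (MvPolynomial (Fin n) k) (Ω[MvPolynomial (Fin n) k⁄k]) :=
    KaehlerDifferential.mvPolynomialBasis k (Fin n)
  let b1 : Module.Basis (Fin n) A (A ⊗[MvPolynomial (Fin n) k] Ω[MvPolynomial (Fin n) k⁄k]) :=
    b0.baseChange A
  have hmap : mapBaseChange k (MvPolynomial (Fin n) k) A = (b1.equiv b (Equiv.refl _)).toLinearMap := by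
    apply b1.ext
    intro i
    rw [LinearEquiv.coe_coe, Module.Basis.equiv_apply, Equiv.refl_apply, hb i]
    show mapBaseChange k (MvPolynomial (Fin n) k) A (b0.baseChange A i) = _
    rw [Module.Basis.baseChange_apply, mapBaseChange_tmul, one_smul]
    show KaehlerDifferential.map k k (MvPolynomial (Fin n) k) A
      (KaehlerDifferential.mvPolynomialBasis k (Fin n) i) = _
    rw [KaehlerDifferential.mvPolynomialBasis_apply, KaehlerDifferential.map_D, halg]
  rw [hmap]
  exact (b1.equiv b (Equiv.refl _)).bijective

end coords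

section point

/-- A nontrivial algebra of finite type over an algebraically closed field has a rational point. -/
theorem exists_algHom_to_field (k : Type u) [Field k] [IsAlgClosed k] (A : Type v) [CommRing A]
    [Nontrivial A] [Algebra k A] [Algebra.FiniteType k A] : Nonempty (A →ₐ[k] k) := by
  obtain ⟨m, hm⟩ := Ideal.exists_maximal A
  letI : Field (A ⧸ m) := Ideal.Quotient.field m
  haveI : Algebra.FiniteType k (A ⧸ m) :=
    Algebra.FiniteType.of_surjective (Ideal.Quotient.mkₐ k m) (Ideal.Quotient.mkₐ_surjective k m)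
  haveI : Module.Finite k (A ⧸ m) := finite_of_finite_type_of_isJacobsonRing k (A ⧸ m)
  haveI : Algebra.IsIntegral k (A ⧸ m) := Algebra.IsIntegral.of_finite k (A ⧸ m)
  have hbij : Function.Bijective (algebraMap k (A ⧸ m)) :=
    IsAlgClosed.algebraMap_bijective_of_isIntegral
  let e : k ≃ₐ[k] (A ⧸ m) := AlgEquiv.ofBijective (Algebra.ofId k (A ⧸ m)) hbij
  exact ⟨(e.symm : (A ⧸ m) →ₐ[k] k).comp (Ideal.Quotient.mkₐ k m)⟩

end point

end Groth.Agent.Lib.Seat88.FrobDetA
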