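import Mathlib
import Groth.Agent.Lib.Seat1HenselSection
import Groth.Agent.Lib.Seat88FrobDetA

/-!
# Seat 74: sections of smooth algebras over strictly henselian local rings

If `R` is a henselian local ring with algebraically closed residue field and `B` is a smooth
`R`-algebra having a prime over the maximal ideal, then `B` has an `R`-algebra section `B → R`
(`exists_section_of_smooth`).
-/

set_option autoImplicit false
set_option linter.style.haveILetI false
universe u
open IsLocalRing TensorProduct

namespace Groth.Agent.Lib.Seat74.HenselSmooth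

/-- a finite type algebra over a local ring with algebraically closed residue field `k` which has a
prime over the maximal ideal has a `k`-point -/
theorem exists_algHom_residueField {R : Type u} [CommRing R] [IsLocalRing R]
    [IsAlgClosed (ResidueField R)] {B : Type u} [CommRing B] [Algebra R B] [Algebra.FiniteType R B]
    (q : Ideal B) [q.IsPrime] (hq : (maximalIdeal R).map (algebraMap R B) ≤ q) :
    Nonempty (B →ₐ[R] ResidueField R) := by
  have h0 : ∀ a ∈ maximalIdeal R, (Algebra.ofId R (B ⧸ q)) a = 0 := by
    intro a ha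
    show algebraMap R (B ⧸ q) a = 0
    rw [IsScalarTower.algebraMap_apply R B (B ⧸ q), Ideal.Quotient.algebraMap_eq,
      Ideal.Quotient.eq_zero_iff_mem]
    exact hq (Ideal.mem_map_of_mem _ ha)
  let f1 : ResidueField R →ₐ[R] B ⧸ q :=
    Ideal.Quotient.liftₐ (maximalIdeal R) (Algebra.ofId R (B ⧸ q)) h0
  let F : ResidueField R ⊗[R] B →ₐ[R] B ⧸ q :=
    Algebra.TensorProduct.lift f1 (Ideal.Quotient.mkₐ R q) (fun _ _ => Commute.all _ _)
  have : Nontrivial (ResidueField R ⊗[R] B) := F.toRingHom.domain_nontrivial
  obtain ⟨χ⟩ := Groth.Agent.Lib.Seat88.FrobDetA.exists_algHom_to_field (ResidueField R)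
    (ResidueField R ⊗[R] B)
  exact ⟨(χ.restrictScalars R).comp Algebra.TensorProduct.includeRight⟩

/-- a standard smooth algebra over a strictly henselian local ring with a prime over the maximal
ideal has a section -/
theorem exists_section_of_isStandardSmooth {R : Type u} [CommRing R] [HenselianLocalRing R]
    [IsAlgClosed (ResidueField R)] {B : Type u} [CommRing B] [Algebra R B]
    (hB : (algebraMap R B).IsStandardSmooth) (q : Ideal B) [q.IsPrime]
    (hq : (maximalIdeal R).map (algebraMap R B) ≤ q) : Nonempty (B →ₐ[R] R) := by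
  classical
  have hBs : Algebra.IsStandardSmooth R B := RingHom.isStandardSmooth_algebraMap.mp hB
  have hft : Algebra.FiniteType R B := inferInstance
  obtain ⟨n, g, hg1, hg2⟩ := hB.exists_etale_mvPolynomial
  obtain ⟨χ⟩ := exists_algHom_residueField q hq
  choose r hr using fun i : Fin n => Ideal.Quotient.mk_surjective (I := maximalIdeal R)
    (χ (g (MvPolynomial.X i)))
  let ev : MvPolynomial (Fin n) R →ₐ[R] R := MvPolynomial.aeval r
  letI algB : Algebra (MvPolynomial (Fin n) R) B := g.toAlgebra
  letI algR : Algebra (MvPolynomial (Fin n) R) R := ev.toRingHom.toAlgebra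
  letI algk : Algebra (MvPolynomial (Fin n) R) (ResidueField R) :=
    ((residue R).comp ev.toRingHom).toAlgebra
  have tow1 : IsScalarTower (MvPolynomial (Fin n) R) R (ResidueField R) :=
    IsScalarTower.of_algebraMap_eq' rfl
  have hχg : ∀ p : MvPolynomial (Fin n) R, χ (g p) = residue R (ev p) := by
    intro p
    have hgalg : ∀ a : R, g (MvPolynomial.C a) = algebraMap R B a := fun a => by
      rw [← hg1]; rfl
    let g' : MvPolynomial (Fin n) R →ₐ[R] B :=
      { g with commutes' := fun a => hgalg a }
    have h1 : χ.comp g' = (IsScalarTower.toAlgHom R R (ResidueField R)).comp ev := by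
      apply MvPolynomial.algHom_ext
      intro i
      show χ (g (MvPolynomial.X i)) = residue R (MvPolynomial.aeval r (MvPolynomial.X i))
      rw [MvPolynomial.aeval_X]
      exact (hr i).symm
    exact congr($h1 p)
  have het : Algebra.Etale (MvPolynomial (Fin n) R) B := hg2
  have hetB' : Algebra.Etale R (R ⊗[MvPolynomial (Fin n) R] B) := inferInstance
  let χB : B →ₐ[MvPolynomial (Fin n) R] ResidueField R :=
    { χ.toRingHom with commutes' := fun p => hχg p }
  let χ' : R ⊗[MvPolynomial (Fin n) R] B →ₐ[R] ResidueField R :=
    Algebra.TensorProduct.lift (IsScalarTower.toAlgHom R R (ResidueField R)) χB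
      (fun _ _ => Commute.all _ _)
  obtain ⟨f, -⟩ := Groth.Agent.Lib.Seat1.HenselSection.exists_algHom_residue χ'
  let incl : B →+* R ⊗[MvPolynomial (Fin n) R] B :=
    (Algebra.TensorProduct.includeRight :
      B →ₐ[MvPolynomial (Fin n) R] R ⊗[MvPolynomial (Fin n) R] B).toRingHom
  suffices hcomm : ∀ a : R, (f.toRingHom.comp incl) (algebraMap R B a) = algebraMap R R a from
    ⟨{ toRingHom := f.toRingHom.comp incl, commutes' := hcomm }⟩
  intro a
  show f ((1 : R) ⊗ₜ[MvPolynomial (Fin n) R] (algebraMap R B a)) = a
  have h1 : algebraMap R B a = (MvPolynomial.C a : MvPolynomial (Fin n) R) • (1 : B) := by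
    rw [Algebra.smul_def, mul_one]
    show algebraMap R B a = g (MvPolynomial.C a)
    rw [← hg1]; rfl
  rw [h1, ← TensorProduct.smul_tmul]
  have h2 : (MvPolynomial.C a : MvPolynomial (Fin n) R) • (1 : R) = a := by
    rw [Algebra.smul_def, mul_one]
    show ev (MvPolynomial.C a) = a
    simp [ev]
  rw [h2]
  have h3 : (a ⊗ₜ[MvPolynomial (Fin n) R] (1 : B)) =
      algebraMap R (R ⊗[MvPolynomial (Fin n) R] B) a := by
    rw [Algebra.TensorProduct.algebraMap_apply]
    rfl
  rw [h3, f.commutes]
  rfl

/-- a smooth algebra over a strictly henselian local ring with a prime over the maximal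
ideal has a section -/
theorem exists_section_of_smooth {R : Type u} [CommRing R] [HenselianLocalRing R]
    [IsAlgClosed (ResidueField R)] {B : Type u} [CommRing B] [Algebra R B] [Algebra.Smooth R B]
    (q : Ideal B) [hqp : q.IsPrime] (hq : (maximalIdeal R).map (algebraMap R B) ≤ q) :
    Nonempty (B →ₐ[R] R) := by
  have hsm : (algebraMap R B).Smooth := RingHom.smooth_algebraMap.mpr inferInstance
  obtain ⟨s, hs, h⟩ := RingHom.smooth_iff_locally_isStandardSmooth.mp hsm
  obtain ⟨t, hts, htq⟩ : ∃ t ∈ s, t ∉ q := by
    by_contra hcon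
    push_neg at hcon
    have : Ideal.span s ≤ q := Ideal.span_le.mpr hcon
    rw [hs] at this
    exact hqp.ne_top (top_le_iff.mp this)
  have hstd := h t hts
  have hdisj : Disjoint (Submonoid.powers t : Set B) (q : Set B) :=
    (Ideal.disjoint_powers_iff_notMem t hqp.isRadical).mpr htq
  have hq'prime : (Ideal.map (algebraMap B (Localization.Away t)) q).IsPrime :=
    IsLocalization.isPrime_of_isPrime_disjoint (Submonoid.powers t) _ q hqp hdisj
  have hq' : (maximalIdeal R).map (algebraMap R (Localization.Away t)) ≤
      Ideal.map (algebraMap B (Localization.Away t)) q := by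
    rw [IsScalarTower.algebraMap_eq R B (Localization.Away t), ← Ideal.map_map]
    exact Ideal.map_mono hq
  obtain ⟨σ⟩ := exists_section_of_isStandardSmooth (B := Localization.Away t)
    (by rwa [IsScalarTower.algebraMap_eq R B (Localization.Away t)])
    (Ideal.map (algebraMap B (Localization.Away t)) q) hq'
  exact ⟨σ.comp (IsScalarTower.toAlgHom R B (Localization.Away t))⟩

end Groth.Agent.Lib.Seat74.HenselSmooth
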