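import Mathlib
import Groth.Prelude.Def_Koszul

/-!
# Seat 74: helpers on the mapping-cone Koszul complex

* `Twist K' K x`: termwise isomorphisms `K'.X q ≅ K.X q` under which the differential of `K'`
  becomes `x` times the differential of `K`;
* `twist_koszul`: such a twist exists between `K(x f₁, …, x fₙ)` and `K(f₁, …, fₙ)`;
* `homologyEquiv`: the homology of a complex of modules as `ker / range` (concrete quotient);
* `nonempty_quot_equiv`: the resulting computation of the cohomology of a twisted complex.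
-/

set_option autoImplicit false
universe u
open CategoryTheory CategoryTheory.Limits CochainComplex HomComplex

namespace Groth.Agent.Lib.Seat74.Koszul

variable {A : Type u} [CommRing A]

/-- Termwise isomorphisms under which the differential of `K'` is `x` times that of `K`. -/
structure Twist (K' K : CochainComplex (ModuleCat.{u} A) ℤ) (x : A) where
  θ : ∀ q : ℤ, K'.X q ≅ K.X q
  comm : ∀ p q : ℤ, p + 1 = q → K'.d p q ≫ (θ q).hom = x • ((θ p).hom ≫ K.d p q)

namespace Twist

variable {K' K : CochainComplex (ModuleCat.{u} A) ℤ} {x : A} (T : Twist K' K x) (f : A)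

/-- The termwise map on cones. -/
noncomputable def coneHom (q : ℤ) :
    (mappingCone ((x * f) • 𝟙 K')).X q ⟶ (mappingCone (f • 𝟙 K)).X q :=
  (mappingCone.fst ((x * f) • 𝟙 K')).1.v q (q + 1) rfl ≫ (T.θ (q + 1)).hom ≫
      (mappingCone.inl (f • 𝟙 K)).v (q + 1) q (by omega) +
    (mappingCone.snd ((x * f) • 𝟙 K')).v q q (add_zero q) ≫ (T.θ q).hom ≫
      (mappingCone.inr (f • 𝟙 K)).f q

/-- The termwise inverse map on cones. -/
noncomputable def coneInv (q : ℤ) :
    (mappingCone (f • 𝟙 K)).X q ⟶ (mappingCone ((x * f) • 𝟙 K')).X q :=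
  (mappingCone.fst (f • 𝟙 K)).1.v q (q + 1) rfl ≫ (T.θ (q + 1)).inv ≫
      (mappingCone.inl ((x * f) • 𝟙 K')).v (q + 1) q (by omega) +
    (mappingCone.snd (f • 𝟙 K)).v q q (add_zero q) ≫ (T.θ q).inv ≫
      (mappingCone.inr ((x * f) • 𝟙 K')).f q

lemma coneHom_coneInv (q : ℤ) : T.coneHom f q ≫ T.coneInv f q = 𝟙 _ := by
  simp [coneHom, coneInv, mappingCone.id_X]

lemma coneInv_coneHom (q : ℤ) : T.coneInv f q ≫ T.coneHom f q = 𝟙 _ := by
  simp [coneHom, coneInv, mappingCone.id_X]

/-- The twist on mapping cones. -/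
noncomputable def cone : Twist (mappingCone ((x * f) • 𝟙 K')) (mappingCone (f • 𝟙 K)) x where
  θ q := ⟨T.coneHom f q, T.coneInv f q, T.coneHom_coneInv f q, T.coneInv_coneHom f q⟩
  comm p q hpq := by
    subst hpq
    have h1 := T.comm (p + 1) (p + 1 + 1) rfl
    have h2 := T.comm p (p + 1) rfl
    apply mappingCone.ext_from _ (p + 1) p rfl
    · apply mappingCone.ext_to _ (p + 1) (p + 1 + 1) rfl
      · simp [coneHom, mappingCone.inl_v_d_assoc _ (p + 1) p (p + 1 + 1) (by omega) (by omega),
          mappingCone.inl_v_d _ (p + 1) p (p + 1 + 1) (by omega) (by omega), h1]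
      · simp [coneHom, mappingCone.inl_v_d_assoc _ (p + 1) p (p + 1 + 1) (by omega) (by omega),
          mappingCone.inl_v_d _ (p + 1) p (p + 1 + 1) (by omega) (by omega), mul_smul]
    · apply mappingCone.ext_to _ (p + 1) (p + 1 + 1) rfl
      · simp [coneHom]
      · simp [coneHom, h2]

end Twist

/-- The identity twist on a complex with zero differentials. -/
def Twist.ofZero (K : CochainComplex (ModuleCat.{u} A) ℤ) (x : A)
    (hK : ∀ p q : ℤ, K.d p q = 0) : Twist K K x where
  θ q := Iso.refl _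
  comm p q _ := by simp [hK]

/-- The Koszul complex of `(x f₁, …, x fₙ)` is a twist by `x` of the Koszul complex of
`(f₁, …, fₙ)`. -/
theorem twist_koszul (x : A) : ∀ l : List A,
    Nonempty (Twist (Koszul.koszul A (l.map (fun f => x * f))) (Koszul.koszul A l) x)
  | [] => ⟨Twist.ofZero _ x (fun p q => by
      show ((HomologicalComplex.single (ModuleCat.{u} A) (ComplexShape.up ℤ) 0).obj
        (ModuleCat.of A A)).d p q = 0
      simp)⟩
  | f :: l => by
    obtain ⟨T⟩ := twist_koszul x l
    exact ⟨T.cone f⟩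

/-- Regularity on the terms of a single complex. -/
theorem isSMulRegular_single_X (x : A) (M : ModuleCat.{u} A) (hx : IsSMulRegular M x) (q : ℤ) :
    IsSMulRegular (((HomologicalComplex.single (ModuleCat.{u} A) (ComplexShape.up ℤ) 0).obj M).X q)
      x := by
  by_cases hq : q = 0
  · subst hq
    let e : ((HomologicalComplex.single (ModuleCat.{u} A) (ComplexShape.up ℤ) 0).obj M).X 0 ≅ M :=
      HomologicalComplex.singleObjXSelf (ComplexShape.up ℤ) 0 M
    intro a b hab
    have hab' : x • a = x • b := hab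
    have h2 : x • e.hom.hom a = x • e.hom.hom b := by
      rw [← LinearMap.map_smul, ← LinearMap.map_smul, hab']
    have h3 : e.hom.hom a = e.hom.hom b := hx h2
    have h4 := congrArg e.inv.hom h3
    have h5 : ∀ c, e.inv.hom (e.hom.hom c) = c := fun c => by
      simp
    rwa [h5, h5] at h4
  · have hz : IsZero (((HomologicalComplex.single (ModuleCat.{u} A) (ComplexShape.up ℤ) 0).obj
        M).X q) :=
      HomologicalComplex.isZero_single_obj_X (ComplexShape.up ℤ) 0 M q hq
    have : Subsingleton (((HomologicalComplex.single (ModuleCat.{u} A)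
        (ComplexShape.up ℤ) 0).obj M).X q) :=
      ModuleCat.subsingleton_of_isZero hz
    intro a b _
    exact Subsingleton.elim a b

/-- Regularity on the terms of a mapping cone. -/
theorem isSMulRegular_cone_X {K L : CochainComplex (ModuleCat.{u} A) ℤ} (φ : K ⟶ L) (x : A)
    (q : ℤ) (h1 : IsSMulRegular (K.X (q + 1)) x) (h2 : IsSMulRegular (L.X q) x) :
    IsSMulRegular ((mappingCone φ).X q) x := by
  intro a b hab
  have hab' : x • a = x • b := hab
  have hfst : ((mappingCone.fst φ).1.v q (q + 1) rfl).hom a =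
      ((mappingCone.fst φ).1.v q (q + 1) rfl).hom b := by
    apply h1
    show x • _ = x • _
    rw [← LinearMap.map_smul, ← LinearMap.map_smul, hab']
  have hsnd : ((mappingCone.snd φ).v q q (add_zero q)).hom a =
      ((mappingCone.snd φ).v q q (add_zero q)).hom b := by
    apply h2
    show x • _ = x • _
    rw [← LinearMap.map_smul, ← LinearMap.map_smul, hab']
  have hid := mappingCone.id_X φ q (q + 1) rfl
  have ha := congrArg (fun m => m.hom a) hid
  have hb := congrArg (fun m => m.hom b) hid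
  simp only [ModuleCat.hom_add, ModuleCat.hom_comp, LinearMap.add_apply, LinearMap.comp_apply,
    ModuleCat.hom_id, LinearMap.id_apply] at ha hb
  rw [← ha, ← hb, hfst, hsnd]

/-- A regular element is regular on every term of a Koszul complex. -/
theorem isSMulRegular_koszul_X (x : A) (hx : x ∈ nonZeroDivisors A) :
    ∀ (l : List A) (q : ℤ), IsSMulRegular ((Koszul.koszul A l).X q) x
  | [], q => by
    refine isSMulRegular_single_X x (ModuleCat.of A A) ?_ q
    intro a b hab
    have hab' : x * a = x * b := hab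
    exact (mul_cancel_left_mem_nonZeroDivisors hx).mp hab'
  | f :: l, q =>
    isSMulRegular_cone_X (f • 𝟙 (Koszul.koszul A l)) x q
      (isSMulRegular_koszul_X x hx l (q + 1)) (isSMulRegular_koszul_X x hx l q)

section homology

variable (K : CochainComplex (ModuleCat.{u} A) ℤ) (q : ℤ)

/-- The cohomology of a complex of modules as the concrete quotient `ker / range`. -/
noncomputable def homologyEquiv :
    K.homology q ≃ₗ[A] (LinearMap.ker (K.d q (q + 1)).hom ⧸
      Submodule.comap (LinearMap.ker (K.d q (q + 1)).hom).subtype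
        (LinearMap.range (K.d (q - 1) q).hom)) :=
  ((ShortComplex.homologyMapIso (K.isoSc' (q - 1) q (q + 1) (by simp) (by simp))).trans
    (K.sc' (q - 1) q (q + 1)).moduleCatHomologyIso).toLinearEquiv.trans
    (Submodule.quotEquivOfEq _ _ (by
      ext y
      simp only [LinearMap.mem_range]
      constructor
      · rintro ⟨m, rfl⟩
        exact ⟨m, rfl⟩
      · rintro ⟨m, hm⟩
        exact ⟨m, Subtype.ext hm⟩))

end homology

section algebra

variable {M₁ M₂ M₃ M₁' M₂' M₃' : Type u}
  [AddCommGroup M₁] [Module A M₁] [AddCommGroup M₂] [Module A M₂] [AddCommGroup M₃] [Module A M₃]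
  [AddCommGroup M₁'] [Module A M₁'] [AddCommGroup M₂'] [Module A M₂'] [AddCommGroup M₃']
  [Module A M₃']

/-- The cohomology of a twisted three-term complex. -/
theorem nonempty_quot_equiv (f : M₁ →ₗ[A] M₂) (g : M₂ →ₗ[A] M₃) (f' : M₁' →ₗ[A] M₂')
    (g' : M₂' →ₗ[A] M₃') (θ₁ : M₁' ≃ₗ[A] M₁) (θ₂ : M₂' ≃ₗ[A] M₂) (θ₃ : M₃' ≃ₗ[A] M₃) (x : A)
    (h₁ : ∀ m, θ₂ (f' m) = x • f (θ₁ m)) (h₂ : ∀ m, θ₃ (g' m) = x • g (θ₂ m))
    (hx : IsSMulRegular M₃ x) :
    Nonempty ((LinearMap.ker g' ⧸ Submodule.comap (LinearMap.ker g').subtype (LinearMap.range f'))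
      ≃ₗ[A] (LinearMap.ker g ⧸ Submodule.comap (LinearMap.ker g).subtype
        (Ideal.span {x} • LinearMap.range f))) := by
  have hker : ∀ m, m ∈ LinearMap.ker g' ↔ θ₂ m ∈ LinearMap.ker g := by
    intro m
    rw [LinearMap.mem_ker, LinearMap.mem_ker]
    constructor
    · intro hm
      have := h₂ m
      rw [hm, map_zero] at this
      apply hx
      show x • g (θ₂ m) = x • 0
      rw [smul_zero, ← this]
    · intro hm
      have := h₂ m
      rw [hm, smul_zero] at this
      exact θ₃.injective (by rw [this, map_zero])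
  have hmapker : (LinearMap.ker g').map (θ₂ : M₂' →ₗ[A] M₂) = LinearMap.ker g := by
    ext z
    constructor
    · rintro ⟨m, hm, rfl⟩
      exact (hker m).mp hm
    · intro hz
      refine ⟨θ₂.symm z, (hker _).mpr (by simpa using hz), by simp⟩
  let e : LinearMap.ker g' ≃ₗ[A] LinearMap.ker g := LinearEquiv.ofSubmodules θ₂ _ _ hmapker
  have he : ∀ y : LinearMap.ker g', ((e y : LinearMap.ker g) : M₂) = θ₂ y.1 := fun y => rfl
  refine ⟨Submodule.Quotient.equiv _ _ e ?_⟩
  ext z
  simp only [Submodule.mem_map, Submodule.mem_comap, Submodule.subtype_apply]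
  rw [Submodule.ideal_span_singleton_smul, Submodule.mem_smul_pointwise_iff_exists]
  constructor
  · rintro ⟨y, ⟨m, hm⟩, rfl⟩
    refine ⟨f (θ₁ m), ⟨_, rfl⟩, ?_⟩
    show x • f (θ₁ m) = θ₂ y.1
    rw [← hm, h₁]
  · rintro ⟨b, ⟨m₁, rfl⟩, hb⟩
    have hz : θ₂ (f' (θ₁.symm m₁)) = z.1 := by
      rw [h₁, LinearEquiv.apply_symm_apply, hb]
    have hmem : f' (θ₁.symm m₁) ∈ LinearMap.ker g' := by
      rw [hker, hz]
      exact z.2
    refine ⟨⟨f' (θ₁.symm m₁), hmem⟩, ⟨_, rfl⟩, ?_⟩
    apply Subtype.ext
    exact (he ⟨f' (θ₁.symm m₁), hmem⟩).trans hz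

end algebra

/-- The cohomology of a complex `K'` which is a twist by a regular element `x` of `K`:
cocycles of `K` modulo `x` times the coboundaries. -/
theorem nonempty_homology_twist_iso {K' K : CochainComplex (ModuleCat.{u} A) ℤ} {x : A}
    (T : Twist K' K x) (q : ℤ) (hx : IsSMulRegular (K.X (q + 1)) x) :
    Nonempty (K'.homology q ≅
      ModuleCat.of A (↥(LinearMap.ker (K.d q (q + 1)).hom) ⧸
        Submodule.comap (LinearMap.ker (K.d q (q + 1)).hom).subtype
          (Ideal.span {x} • LinearMap.range (K.d (q - 1) q).hom))) := by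
  have h₁ : ∀ m, (T.θ q).toLinearEquiv ((K'.d (q - 1) q).hom m) =
      x • (K.d (q - 1) q).hom ((T.θ (q - 1)).toLinearEquiv m) := by
    intro m
    have := congrArg (fun φ => φ.hom m) (T.comm (q - 1) q (by omega))
    simpa using this
  have h₂ : ∀ m, (T.θ (q + 1)).toLinearEquiv ((K'.d q (q + 1)).hom m) =
      x • (K.d q (q + 1)).hom ((T.θ q).toLinearEquiv m) := by
    intro m
    have := congrArg (fun φ => φ.hom m) (T.comm q (q + 1) rfl)
    simpa using this
  obtain ⟨e⟩ := nonempty_quot_equiv (K.d (q - 1) q).hom (K.d q (q + 1)).hom (K'.d (q - 1) q).hom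
    (K'.d q (q + 1)).hom (T.θ (q - 1)).toLinearEquiv (T.θ q).toLinearEquiv
    (T.θ (q + 1)).toLinearEquiv x h₁ h₂ hx
  exact ⟨((homologyEquiv K' q).trans e).toModuleIso⟩

end Groth.Agent.Lib.Seat74.Koszul
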