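import Mathlib
import Groth.Agent.Lib.Seat74NeronLoc

/-!
# The extension property (Néron mapping property) and coproducts of schemes

* `extProp_of_iso`: invariance of `ExtProp` under isomorphisms of the target.
* `extProp_of_local`: `ExtProp` can be checked on any class of opens of the source which is stable
  under shrinking and covers.
* `isPullback_sigmaι`: `N i = (∐ N) ×_{∐ B} B i`.
* `extProp_sigma_iff`: the Néron mapping property for `∐ N i → ∐ B i`.
-/

set_option autoImplicit false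
universe u

open CategoryTheory CategoryTheory.Limits AlgebraicGeometry TopologicalSpace

namespace Groth.Agent.Lib.Seat74.NeronSigma

open Groth.Agent.Lib.Seat74.NeronMP Groth.Agent.Lib.Seat74.NeronMP2
  Groth.Agent.Lib.Seat74.NeronLoc

variable {S Y N : Scheme.{u}}

theorem extProp_of_iso (U : S.Opens) (y : Y ⟶ S) {N N' : Scheme.{u}} (n : N ⟶ S) (n' : N' ⟶ S)
    (e : N ≅ N') (he : e.hom ≫ n' = n) (h : ExtProp U y n') : ExtProp U y n := by
  intro W j _ hj k hk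
  obtain ⟨f, ⟨hf1, hf2⟩, hfu⟩ := h W j hj (k ≫ e.hom) (by rw [Category.assoc, he, hk])
  refine ⟨f ≫ e.inv, ⟨?_, ?_⟩, ?_⟩
  · rw [← he, Category.assoc, Iso.inv_hom_id_assoc, hf1]
  · rw [← Category.assoc, hf2, Category.assoc, Iso.hom_inv_id, Category.comp_id]
  · rintro f' ⟨h1, h2⟩
    have := hfu (f' ≫ e.hom) ⟨by rw [Category.assoc, he, h1], by rw [← Category.assoc, h2]⟩
    rw [← this, Category.assoc, Iso.hom_inv_id, Category.comp_id]

/-- the extension property can be checked on a covering class of opens of the source which is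
stable under shrinking -/
theorem extProp_of_local (U : S.Opens) (y : Y ⟶ S) (n : N ⟶ S)
    (P : ∀ {T : Scheme.{u}}, (T ⟶ Y) → Prop)
    (hP1 : ∀ x : Y, ∃ (T : Scheme.{u}) (o : T ⟶ Y), IsOpenImmersion o ∧ x ∈ Set.range o ∧ P o)
    (hP2 : ∀ {T T' : Scheme.{u}} (o : T ⟶ Y) (i : T' ⟶ T), P o → P (i ≫ o))
    (H : ∀ (T : Scheme.{u}) (o : T ⟶ Y) [IsOpenImmersion o], P o → ExtProp U (o ≫ y) n) :
    ExtProp U y n := by
  intro W j _ hj k hk
  have h1 : ∀ (T : Scheme.{u}) (o : T ⟶ Y) [IsOpenImmersion o], P o →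
      ∃! c : T ⟶ N, c ≫ n = o ≫ y ∧ Compat j k o c := by
    intro T o _ hPo
    have hr : Set.range (pullback.fst o j) = (o ≫ y) ⁻¹' (U : Set S) := by
      rw [Scheme.Pullback.range_fst, hj]
      rfl
    obtain ⟨c, ⟨hc1, hc2⟩, hcu⟩ := H T o hPo _ (pullback.fst o j) hr (pullback.snd o j ≫ k)
      (by rw [Category.assoc, hk, ← Category.assoc, ← pullback.condition, Category.assoc])
    refine ⟨c, ⟨hc1, (compat_iff j k o c).mpr hc2⟩, ?_⟩
    rintro c' ⟨h1, h2⟩
    exact hcu c' ⟨h1, (compat_iff j k o c').mp h2⟩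
  have hnhd : ∀ (T : Scheme.{u}) (o : T ⟶ Y) [IsOpenImmersion o] (x : T),
      ∃ (V : Scheme.{u}) (i : V ⟶ T) (_ : IsOpenImmersion i), x ∈ Set.range i ∧ P (i ≫ o) := by
    intro T o _ x
    obtain ⟨T₀, o₀, ho₀, hx₀, hPo₀⟩ := hP1 (o x)
    refine ⟨pullback o o₀, pullback.fst o o₀, inferInstance, ?_, ?_⟩
    · rw [Scheme.Pullback.range_fst]
      exact hx₀
    · rw [pullback.condition]
      exact hP2 o₀ _ hPo₀
  have h2 : ∀ (T : Scheme.{u}) (o : T ⟶ Y) [IsOpenImmersion o] (c₁ c₂ : T ⟶ N),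
      c₁ ≫ n = o ≫ y → c₂ ≫ n = o ≫ y → Compat j k o c₁ → Compat j k o c₂ → c₁ = c₂ := by
    intro T o _ c₁ c₂ e1 e2 hc1 hc2
    apply hom_ext_of_local
    intro x
    obtain ⟨V, i, hi, hx, hPi⟩ := hnhd T o x
    refine ⟨_, i, hi, hx, ?_⟩
    obtain ⟨c, -, hcu⟩ := h1 V (i ≫ o) hPi
    rw [hcu (i ≫ c₁) ⟨by rw [Category.assoc, e1, Category.assoc], hc1.comp _⟩,
      hcu (i ≫ c₂) ⟨by rw [Category.assoc, e2, Category.assoc], hc2.comp _⟩]
  have hloc : ∀ y₀ : Y, ∃ (V : Scheme.{u}) (i : V ⟶ Y) (_ : IsOpenImmersion i) (fV : V ⟶ N),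
      y₀ ∈ Set.range i ∧ fV ≫ n = i ≫ y ∧ Compat j k i fV := by
    intro y₀
    obtain ⟨T, i, hi, hx, hPi⟩ := hP1 y₀
    obtain ⟨c, ⟨hc1, hc2⟩, -⟩ := h1 T i hPi
    exact ⟨_, i, hi, c, hx, hc1, hc2⟩
  choose V i hi fV hmem hfVn hfVc using hloc
  let 𝒰 : Y.OpenCover :=
    { I₀ := Y, X := V, f := i,
      mem₀ := by
        rw [Scheme.presieve₀_mem_precoverage_iff]
        exact ⟨fun x => ⟨x, hmem x⟩, fun x => hi x⟩ }
  have hglue : ∀ x₁ x₂ : Y, pullback.fst (𝒰.f x₁) (𝒰.f x₂) ≫ fV x₁ =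
      pullback.snd (𝒰.f x₁) (𝒰.f x₂) ≫ fV x₂ := by
    intro x₁ x₂
    have : IsOpenImmersion (i x₁) := hi x₁
    have : IsOpenImmersion (i x₂) := hi x₂
    refine h2 _ (pullback.fst (i x₁) (i x₂) ≫ i x₁) _ _ ?_ ?_ ((hfVc x₁).comp _) ?_
    · rw [Category.assoc, hfVn, Category.assoc]
    · show (pullback.snd (i x₁) (i x₂) ≫ fV x₂) ≫ n = (pullback.fst (i x₁) (i x₂) ≫ i x₁) ≫ y
      rw [Category.assoc, hfVn, Category.assoc, pullback.condition_assoc]
    · exact ((hfVc x₂).comp (pullback.snd (i x₁) (i x₂))).congr pullback.condition.symm rfl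
  have hg1 : 𝒰.glueMorphisms fV hglue ≫ n = y := by
    apply 𝒰.hom_ext
    intro x
    rw [Scheme.Cover.ι_glueMorphisms_assoc]
    exact hfVn x
  have hg2 : j ≫ 𝒰.glueMorphisms fV hglue = k := by
    apply (𝒰.pullback₁ j).hom_ext
    intro x
    show pullback.fst j (i x) ≫ j ≫ 𝒰.glueMorphisms fV hglue = pullback.fst j (i x) ≫ k
    rw [pullback.condition_assoc]
    have : i x ≫ 𝒰.glueMorphisms fV hglue = fV x := 𝒰.ι_glueMorphisms fV hglue x
    rw [this]
    exact hfVc x _ (pullback.snd j (i x)) (pullback.fst j (i x)) pullback.condition.symm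
  refine ⟨_, ⟨hg1, hg2⟩, ?_⟩
  rintro f ⟨hf1, hf2⟩
  exact h2 Y (𝟙 Y) f _ (by rw [hf1, Category.id_comp]) (by rw [hg1, Category.id_comp])
    ((compat_id_iff f).mpr hf2) ((compat_id_iff _).mpr hg2)

section Sigma

variable {I : Type u} (B N : I → Scheme.{u}) (f : ∀ i, N i ⟶ B i)

theorem range_fst_subset (i : I) (s : PullbackCone (Limits.Sigma.map f) (Sigma.ι B i)) :
    Set.range s.fst ⊆ Set.range (Sigma.ι N i) := by
  intro x hx
  obtain ⟨t, rfl⟩ := hx
  obtain ⟨j, n, hn⟩ : ∃ (j : I) (n : N j), Sigma.ι N j n = s.fst t :=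
    (sigmaOpenCover N).exists_eq (s.fst t)
  have h1 : (Limits.Sigma.map f) (s.fst t) = Sigma.ι B i (s.snd t) := by
    rw [← Scheme.Hom.comp_apply, s.condition, Scheme.Hom.comp_apply]
  have h2 : (Limits.Sigma.map f) (s.fst t) = Sigma.ι B j (f j n) := by
    rw [← hn]
    show (Sigma.ι N j ≫ Limits.Sigma.map f) n = _
    rw [Sigma.ι_map, Scheme.Hom.comp_apply]
  have h3 := (sigmaι_eq_iff B _ _ _ _).mp (h1.symm.trans h2)
  obtain rfl : i = j := congrArg Sigma.fst h3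
  exact ⟨n, hn⟩

theorem isPullback_sigmaι (i : I) :
    IsPullback (Sigma.ι N i) (f i) (Limits.Sigma.map f) (Sigma.ι B i) := by
  refine ⟨⟨Sigma.ι_map f i⟩, ⟨PullbackCone.IsLimit.mk _
    (fun s => IsOpenImmersion.lift (Sigma.ι N i) s.fst (range_fst_subset B N f i s))
    (fun s => ?_) (fun s => ?_) (fun s m h1 _ => ?_)⟩⟩
  · exact IsOpenImmersion.lift_fac _ _ _
  · rw [← cancel_mono (Sigma.ι B i), Category.assoc, ← Sigma.ι_map f i,
      IsOpenImmersion.lift_fac_assoc, s.condition]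
  · rw [← cancel_mono (Sigma.ι N i), h1, IsOpenImmersion.lift_fac]

theorem smooth_ι_comp_map (h : ∀ i, Smooth (f i)) (i : I) :
    Smooth (Sigma.ι N i ≫ Limits.Sigma.map f) := by
  rw [Sigma.ι_map]
  have := h i
  infer_instance

set_option backward.isDefEq.respectTransparency.types false in
theorem smooth_sigmaMap_iff : Smooth (Limits.Sigma.map f) ↔ ∀ i, Smooth (f i) := by
  constructor
  · intro h i
    exact MorphismProperty.of_isPullback (isPullback_sigmaι B N f i) h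
  · intro h
    exact (IsZariskiLocalAtSource.iff_of_openCover (sigmaOpenCover N)).mpr fun i =>
      smooth_ι_comp_map B N f h i

set_option backward.isDefEq.respectTransparency.types false in
theorem smooth_of_comp_openImmersion {X Y Z : Scheme.{u}} (a : X ⟶ Y) (b : Y ⟶ Z)
    [IsOpenImmersion b] (h : Smooth (a ≫ b)) : Smooth a :=
  MorphismProperty.of_postcomp (W := @Smooth) (W' := @IsOpenImmersion) a b inferInstance h

theorem extProp_component_of_sigma (U : (∐ B).Opens)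
    (h : ∀ (Y : Scheme.{u}) (y : Y ⟶ ∐ B), Smooth y → ExtProp U y (Limits.Sigma.map f)) (i : I)
    {Y' : Scheme.{u}} (y' : Y' ⟶ B i) (hy' : Smooth y') :
    ExtProp ((Sigma.ι B i) ⁻¹ᵁ U) y' (f i) := by
  have h1 : ExtProp U (y' ≫ Sigma.ι B i) (Limits.Sigma.map f) := h _ _ inferInstance
  rw [← extProp_baseChange_iff] at h1
  exact extProp_of_iso _ y' (f i) (pullback.snd _ _) (isPullback_sigmaι B N f i).isoPullback
    (IsPullback.isoPullback_hom_snd _) h1

theorem extProp_sigma_of_components (U : (∐ B).Opens)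
    (h : ∀ (i : I) (Y' : Scheme.{u}) (y' : Y' ⟶ B i), Smooth y' →
      ExtProp ((Sigma.ι B i) ⁻¹ᵁ U) y' (f i))
    {Y : Scheme.{u}} (y : Y ⟶ ∐ B) (hy : Smooth y) : ExtProp U y (Limits.Sigma.map f) := by
  refine extProp_of_local U y _
    (fun {T} o => ∃ i, Set.range (o ≫ y) ⊆ Set.range (Sigma.ι B i)) ?_ ?_ ?_
  · intro x
    obtain ⟨i, b, hb⟩ : ∃ (i : I) (b : B i), Sigma.ι B i b = y x :=
      (sigmaOpenCover B).exists_eq (y x)
    refine ⟨_, (y ⁻¹ᵁ (Sigma.ι B i).opensRange).ι, inferInstance, ?_, i, ?_⟩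
    · rw [Scheme.Opens.range_ι]
      exact ⟨b, hb⟩
    · rintro _ ⟨t, rfl⟩
      exact t.2
  · rintro T T' o i' ⟨i, hi⟩
    refine ⟨i, ?_⟩
    rintro _ ⟨t, rfl⟩
    exact hi ⟨i' t, rfl⟩
  · rintro T o _ ⟨i, hi⟩
    let y' : T ⟶ B i := IsOpenImmersion.lift (Sigma.ι B i) (o ≫ y) hi
    have hy' : y' ≫ Sigma.ι B i = o ≫ y := IsOpenImmersion.lift_fac _ _ _
    have hsm : Smooth y' := by
      have : Smooth (y' ≫ Sigma.ι B i) := by
        rw [hy']
        infer_instance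
      exact smooth_of_comp_openImmersion y' (Sigma.ι B i) this
    rw [← hy', ← extProp_baseChange_iff]
    exact extProp_of_iso _ y' (pullback.snd _ _) (f i)
      (isPullback_sigmaι B N f i).isoPullback.symm (IsPullback.isoPullback_inv_snd _)
      (h i T y' hsm)

end Sigma

end Groth.Agent.Lib.Seat74.NeronSigma
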