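import Mathlib

/-!
# The integral closure of a reduced ring in its total ring of fractions (helper74)

For a commutative ring `A` with total ring of fractions `K = FractionRing A` and a subalgebra
`B ⊆ K`: `K` is also the total ring of fractions of `B` (`isFractionRing_subalgebra`), so the integral
closure of `A` in `K` is integrally closed (`isIntegrallyClosed_integralClosure`).
-/

set_option autoImplicit false
universe u

namespace Groth.Agent.Lib.Seat74.NormTotal

variable (A : Type u) [CommRing A]

/-- The total ring of fractions of `A` is the total ring of fractions of every `A`-subalgebra. -/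
theorem isFractionRing_subalgebra (B : Subalgebra A (FractionRing A)) :
    IsFractionRing B (FractionRing A) := by
  have hinjA : Function.Injective (algebraMap A (FractionRing A)) :=
    IsFractionRing.injective A (FractionRing A)
  refine ⟨?_, ?_, ?_⟩
  · -- regular elements of `B` are units of `K`
    rintro ⟨y, hy⟩
    obtain ⟨a, s, hys⟩ := IsLocalization.exists_mk'_eq (nonZeroDivisors A) (y : FractionRing A)
    have hspec : (y : FractionRing A) * algebraMap A (FractionRing A) s =
        algebraMap A (FractionRing A) a := by
      rw [← hys]; exact IsLocalization.mk'_spec (FractionRing A) a s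
    have hsu : IsUnit (algebraMap A (FractionRing A) s) :=
      IsLocalization.map_units (FractionRing A) s
    have ha : a ∈ nonZeroDivisors A := by
      rw [mem_nonZeroDivisors_iff_right]
      intro a' ha'
      have h0 : ((y : FractionRing A) * algebraMap A (FractionRing A) a') *
          algebraMap A (FractionRing A) s = 0 := by
        rw [mul_right_comm, hspec, ← map_mul, mul_comm, ha', map_zero]
      have h1 : (y : FractionRing A) * algebraMap A (FractionRing A) a' = 0 :=
        (hsu.mul_left_eq_zero).mp h0
      have h2 : y * algebraMap A B a' = 0 := Subtype.ext h1
      have h3 : algebraMap A B a' = 0 :=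
        (mem_nonZeroDivisors_iff_right.mp hy) (algebraMap A B a') ((mul_comm _ _).trans h2)
      have h4 : algebraMap A (FractionRing A) a' = 0 := congrArg Subtype.val h3
      exact hinjA (h4.trans (map_zero _).symm)
    have hau : IsUnit (algebraMap A (FractionRing A) a) :=
      IsLocalization.map_units (FractionRing A) ⟨a, ha⟩
    show IsUnit (y : FractionRing A)
    exact isUnit_of_mul_isUnit_left (hspec ▸ hau)
  · -- every element of `K` is a fraction
    intro z
    obtain ⟨a, s, hz⟩ := IsLocalization.exists_mk'_eq (nonZeroDivisors A) z
    have hsu : IsUnit (algebraMap A (FractionRing A) s) :=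
      IsLocalization.map_units (FractionRing A) s
    have hsB : algebraMap A B s ∈ nonZeroDivisors B := by
      rw [mem_nonZeroDivisors_iff_right]
      intro b hb
      have h1 : (b : FractionRing A) * algebraMap A (FractionRing A) s = 0 :=
        congrArg Subtype.val hb
      exact Subtype.ext ((hsu.mul_left_eq_zero).mp h1)
    refine ⟨(algebraMap A B a, ⟨algebraMap A B s, hsB⟩), ?_⟩
    show z * algebraMap A (FractionRing A) s = algebraMap A (FractionRing A) a
    rw [← hz]
    exact IsLocalization.mk'_spec (FractionRing A) a s
  · intro x y hxy
    exact ⟨1, by rw [Subtype.ext hxy]⟩

/-- The integral closure of `A` in its total ring of fractions is integrally closed. -/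
theorem isIntegrallyClosed_integralClosure :
    IsIntegrallyClosed (integralClosure A (FractionRing A)) := by
  have := isFractionRing_subalgebra A (integralClosure A (FractionRing A))
  rw [isIntegrallyClosed_iff_isIntegrallyClosedIn (FractionRing A)]
  infer_instance

end Groth.Agent.Lib.Seat74.NormTotal
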