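import Groth.Prelude.Def_W4c1hilbchowincPtFun
import Groth.Agent.Lib.Seat62SpecEval
import Groth.Agent.Lib.Seat94DVRCompletion

/-!
# Pointwise functions: complete discrete valuation rings suffice (helper74)

`variesAlongDVR_of_complete`: a pointwise function on a scheme which varies algebraically along all
complete discrete valuation rings varies algebraically along all discrete valuation rings
(pass to the completion `R̂` of a DVR `R`; an element of `R̂` whose value at the generic point comes
from `Frac R` lies in `R`).
-/

set_option autoImplicit false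
universe u
open CategoryTheory AlgebraicGeometry W4c1hilbchowinc

namespace Groth.Agent.Lib.Seat74.PtFunComplete

open Groth.Agent.Lib.Seat62.SpecEval Groth.Agent.Lib.Seat94.DVRCompletion

/-- Pullback of pointwise functions is functorial. -/
theorem pullback_comp {X Y Z : Scheme.{u}} (h : Z ⟶ Y) (g : Y ⟶ X) (f : PtFun X) :
    f.pullback (h ≫ g) = (f.pullback g).pullback h := by
  funext z
  show (h ≫ g).residueFieldMap z (f ((h ≫ g) z)) =
    h.residueFieldMap z (g.residueFieldMap (h z) (f (g (h z))))
  rw [Scheme.residueFieldMap_comp]
  rfl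

/-- A pointwise function on `Spec R` is algebraic iff it is the family of values of an element. -/
theorem isAlgebraic_iff {R : Type u} [CommRing R] (f : PtFun (Spec (CommRingCat.of R))) :
    f.IsAlgebraic ↔ ∃ r : R, ∀ y, evA R y r = f y := by
  constructor
  · rintro ⟨s, hs⟩
    refine ⟨(Scheme.ΓSpecIso (CommRingCat.of R)).hom s, fun y => ?_⟩
    rw [← Γevaluation_eq_evA]
    exact congrFun hs y
  · rintro ⟨r, hr⟩
    exact ⟨(Scheme.ΓSpecIso (CommRingCat.of R)).inv r, funext fun y =>
      (evA_apply y r).symm.trans (hr y)⟩

/-- A pointwise function on the spectrum of a DVR whose pullback to the completion is algebraic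
is algebraic. -/
theorem isAlgebraic_of_completion (R : Type u) [CommRing R] [IsDomain R]
    [IsDiscreteValuationRing R] (f : PtFun (Spec (CommRingCat.of R)))
    (h : (f.pullback (Spec.map (CommRingCat.ofHom
      (algebraMap R (AdicCompletion (IsLocalRing.maximalIdeal R) R))))).IsAlgebraic) :
    f.IsAlgebraic := by
  obtain ⟨hdom, hdvr⟩ := adicCompletion_isDVR R
  have hinj : Function.Injective (algebraMap R (AdicCompletion (IsLocalRing.maximalIdeal R) R)) :=
    AdicCompletion.of_injective (IsLocalRing.maximalIdeal R) R
  have hloc : IsLocalHom (algebraMap R (AdicCompletion (IsLocalRing.maximalIdeal R) R)) :=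
    inferInstance
  rw [isAlgebraic_iff] at h ⊢
  obtain ⟨r', hr'⟩ := h
  -- the generic point of the completion
  let η' : Spec (CommRingCat.of (AdicCompletion (IsLocalRing.maximalIdeal R) R)) :=
    ⟨⊥, Ideal.isPrime_bot⟩
  obtain ⟨u, v, hv, huv⟩ := exists_evA_rep
    (Spec.map (CommRingCat.ofHom
      (algebraMap R (AdicCompletion (IsLocalRing.maximalIdeal R) R))) η')
    (f (Spec.map (CommRingCat.ofHom
      (algebraMap R (AdicCompletion (IsLocalRing.maximalIdeal R) R))) η'))
  have h1 : evA _ η' (r' * algebraMap R _ v - algebraMap R _ u) = 0 := by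
    rw [map_sub, map_mul, hr' η', ← residueFieldMap_evA (algebraMap R _) η' v,
      ← residueFieldMap_evA (algebraMap R _) η' u]
    show (Spec.map (CommRingCat.ofHom (algebraMap R _))).residueFieldMap η' _ *
      (Spec.map (CommRingCat.ofHom (algebraMap R _))).residueFieldMap η' _ -
      (Spec.map (CommRingCat.ofHom (algebraMap R _))).residueFieldMap η' _ = 0
    rw [← map_mul, huv, sub_self]
  have h2 : r' * algebraMap R _ v = algebraMap R _ u := by
    have h3 := (evA_eq_zero_iff η' _).mp h1
    exact sub_eq_zero.mp (Ideal.mem_bot.mp h3)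
  have hv0 : v ≠ 0 := by
    intro h0
    apply hv
    rw [h0]
    exact Ideal.zero_mem _
  have hιv : algebraMap R (AdicCompletion (IsLocalRing.maximalIdeal R) R) v ≠ 0 := by
    intro h0
    exact hv0 (hinj (h0.trans (map_zero _).symm))
  obtain ⟨r, hr⟩ : ∃ r : R, algebraMap R _ r = r' := by
    obtain ⟨w, hw | hw⟩ := ValuationRing.cond v u
    · -- v * w = u
      refine ⟨w, ?_⟩
      have h4 : algebraMap R (AdicCompletion (IsLocalRing.maximalIdeal R) R) v *
          (r' - algebraMap R _ w) = 0 := by
        rw [mul_sub, mul_comm, h2, ← hw, map_mul, sub_self]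
      rcases mul_eq_zero.mp h4 with h5 | h5
      · exact absurd h5 hιv
      · exact (sub_eq_zero.mp h5).symm
    · -- u * w = v
      by_cases hwu : IsUnit w
      · obtain ⟨w', hw'⟩ := hwu.exists_right_inv
        refine ⟨w', ?_⟩
        have hu' : u = v * w' := by rw [← hw, mul_assoc, hw', mul_one]
        have h4 : algebraMap R (AdicCompletion (IsLocalRing.maximalIdeal R) R) v *
            (r' - algebraMap R _ w') = 0 := by
          rw [mul_sub, mul_comm, h2, hu', map_mul, sub_self]
        rcases mul_eq_zero.mp h4 with h5 | h5
        · exact absurd h5 hιv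
        · exact (sub_eq_zero.mp h5).symm
      · exfalso
        have hu0 : algebraMap R (AdicCompletion (IsLocalRing.maximalIdeal R) R) u ≠ 0 := by
          intro h0
          have : u = 0 := hinj (h0.trans (map_zero _).symm)
          exact hv0 (by rw [← hw, this, zero_mul])
        have h4 : algebraMap R (AdicCompletion (IsLocalRing.maximalIdeal R) R) u *
            (r' * algebraMap R _ w - 1) = 0 := by
          have h6 : r' * (algebraMap R _ u * algebraMap R _ w) = algebraMap R _ u := by
            rw [← map_mul, hw]; exact h2
          have h8 : algebraMap R (AdicCompletion (IsLocalRing.maximalIdeal R) R) u *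
              (r' * algebraMap R _ w - 1) =
              r' * (algebraMap R _ u * algebraMap R _ w) - algebraMap R _ u := by ring
          rw [h8, h6, sub_self]
        rcases mul_eq_zero.mp h4 with h5 | h5
        · exact hu0 h5
        · have h7 : IsUnit (algebraMap R (AdicCompletion (IsLocalRing.maximalIdeal R) R) w) :=
            IsUnit.of_mul_eq_one _ ((mul_comm _ _).trans (sub_eq_zero.mp h5))
          exact hwu (hloc.map_nonunit w h7)
  -- the completion map is surjective on spectra
  have hsurj : ∀ y : Spec (CommRingCat.of R), ∃ y', Spec.map (CommRingCat.ofHom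
      (algebraMap R (AdicCompletion (IsLocalRing.maximalIdeal R) R))) y' = y := by
    intro y
    by_cases hy : y.asIdeal = ⊥
    · refine ⟨η', PrimeSpectrum.ext ?_⟩
      rw [hy]
      exact (RingHom.injective_iff_ker_eq_bot _).mp hinj
    · have hmax : y.asIdeal.IsMaximal := Ring.DimensionLEOne.maximalOfPrime hy y.isPrime
      have hy' : y.asIdeal = IsLocalRing.maximalIdeal R := IsLocalRing.eq_maximalIdeal hmax
      refine ⟨IsLocalRing.closedPoint (AdicCompletion (IsLocalRing.maximalIdeal R) R),
        PrimeSpectrum.ext ?_⟩
      rw [hy']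
      exact ((IsLocalRing.local_hom_TFAE (algebraMap R
        (AdicCompletion (IsLocalRing.maximalIdeal R) R))).out 0 4).mp hloc
  refine ⟨r, fun y => ?_⟩
  obtain ⟨y', rfl⟩ := hsurj y
  apply ((Spec.map (CommRingCat.ofHom (algebraMap R _))).residueFieldMap y').hom.injective
  refine (residueFieldMap_evA (algebraMap R _) y' r).trans ?_
  rw [hr]
  exact hr' y'

/-- **Complete DVRs suffice**: a pointwise function varying algebraically along complete discrete
valuation rings varies algebraically along all discrete valuation rings. -/
theorem variesAlongDVR_of_complete {X : Scheme.{u}} (f : PtFun X)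
    (hf : f.VariesAlongCompleteDVR) : f.VariesAlongDVR := by
  intro R _ _ _ g
  obtain ⟨hdom, hdvr⟩ := adicCompletion_isDVR R
  apply isAlgebraic_of_completion R
  rw [← pullback_comp]
  exact hf (AdicCompletion (IsLocalRing.maximalIdeal R) R) _

end Groth.Agent.Lib.Seat74.PtFunComplete
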