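import Groth.Agent.Lib.Seat74SemiNormAdjoin

/-!
# Descent of elements to a seminormal ring along an integral extension (helper74)

`mem_range_of_pointwise`: `A` seminormal, `g : A → B` injective and integral with `B` reduced, and
`b ∈ B` such that for every prime `p` of `A` there is `φ_p ∈ κ(p)` whose image in `κ(q)` is the
value of `b`, for every prime `q` of `B` over `p`.  Then `b ∈ A`.
(`A → A[b]` is a universal homeomorphism with trivial residue field extensions.)
-/

set_option autoImplicit false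
universe u
open AlgebraicGeometry CategoryTheory Limits HTop

namespace Groth.Agent.Lib.Seat74.SemiNormDescent

open Groth.Agent.Lib.Seat74.SemiNorm Groth.Agent.Lib.Seat74.SemiNormAdjoin
open Groth.Agent.Lib.Helper20.AWN

attribute [local instance] RingHom.ker_isPrime

/-- Factor version: `C → C'' ↪ C'` with `C → C''` a universal homeomorphism on spectra, `C`
seminormal, `C''` reduced, and the values of all elements of `C''` in the residue fields of `C'`
coming from the residue fields of `C`.  Then `C → C''` is bijective. -/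
theorem bijective_of_UH_of_values {C C'' C' : Type u} [CommRing C] [CommRing C''] [CommRing C']
    (g₁ : C →+* C'') (g₂ : C'' →+* C') (hinj₂ : Function.Injective g₂) (hint₂ : g₂.IsIntegral)
    (hUH₁ : UH g₁) (hC : IsSeminormalRing C) [IsReduced C'']
    (key : ∀ (Q : PrimeSpectrum C') (t : C''), algebraMap C' Q.asIdeal.ResidueField (g₂ t) ∈
      (Ideal.ResidueField.map (PrimeSpectrum.comap (g₂.comp g₁) Q).asIdeal Q.asIdeal
        (g₂.comp g₁) rfl).range) :
    Function.Bijective g₁ := by
  have hres : ∀ Q'' : PrimeSpectrum C'', Function.Surjective (Ideal.ResidueField.map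
      (PrimeSpectrum.comap g₁ Q'').asIdeal Q''.asIdeal g₁ rfl) := by
    intro Q''
    obtain ⟨Q, rfl⟩ := hint₂.comap_surjective hinj₂ Q''
    have hm := residueFieldMap_comp g₁ g₂ (g₂.comp g₁) rfl
      (PrimeSpectrum.comap g₁ (PrimeSpectrum.comap g₂ Q)).asIdeal
      (PrimeSpectrum.comap g₂ Q).asIdeal Q.asIdeal rfl rfl rfl
    have hmem : ∀ t : C'',
        algebraMap C'' (PrimeSpectrum.comap g₂ Q).asIdeal.ResidueField t ∈
          (Ideal.ResidueField.map (PrimeSpectrum.comap g₁ (PrimeSpectrum.comap g₂ Q)).asIdeal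
            (PrimeSpectrum.comap g₂ Q).asIdeal g₁ rfl).fieldRange := by
      intro t
      obtain ⟨w, hw⟩ := key Q t
      refine ⟨w, (Ideal.ResidueField.map (PrimeSpectrum.comap g₂ Q).asIdeal Q.asIdeal g₂
        rfl).injective ?_⟩
      exact (congr($hm w)).trans (hw.trans
        (Ideal.ResidueField.map_algebraMap (PrimeSpectrum.comap g₂ Q).asIdeal Q.asIdeal g₂ rfl
          t).symm)
    intro z
    obtain ⟨a, b, -, rfl⟩ := IsFractionRing.div_surjective
      (A := C'' ⧸ (PrimeSpectrum.comap g₂ Q).asIdeal) z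
    obtain ⟨a₀, rfl⟩ := Ideal.Quotient.mk_surjective a
    obtain ⟨b₀, rfl⟩ := Ideal.Quotient.mk_surjective b
    rw [Ideal.algebraMap_quotient_residueField_mk, Ideal.algebraMap_quotient_residueField_mk]
    exact div_mem (hmem a₀) (hmem b₀)
  exact bijective_of_UH_of_residue g₁ hUH₁ hres hC

/-- **Pointwise descent to a seminormal ring.**  `g : A → B` injective integral, `A` seminormal,
`B` reduced, `b ∈ B`, and `φ` a choice of elements of the residue fields of `A` such that the value
of `b` at every prime `Q` of `B` is the image of `φ (g⁻¹ Q)`.  Then `b` is in the image of `g`. -/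
theorem mem_range_of_pointwise {A B : Type u} [CommRing A] [CommRing B] (g : A →+* B)
    (hint : g.IsIntegral) (hinj : Function.Injective g) (hA : IsSeminormalRing A) [IsReduced B]
    (b : B) (φ : ∀ p : PrimeSpectrum A, p.asIdeal.ResidueField)
    (hφ : ∀ Q : PrimeSpectrum B, algebraMap B Q.asIdeal.ResidueField b =
      Ideal.ResidueField.map (PrimeSpectrum.comap g Q).asIdeal Q.asIdeal g rfl
        (φ (PrimeSpectrum.comap g Q))) :
    b ∈ g.range := by
  classical
  -- generalized form of `hφ`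
  have hφG : ∀ (P : PrimeSpectrum A) (Q : Ideal B) [Q.IsPrime] (h : P.asIdeal = Q.comap g),
      algebraMap B Q.ResidueField b = Ideal.ResidueField.map P.asIdeal Q g h (φ P) := by
    intro P Q _ h
    obtain rfl : P = PrimeSpectrum.comap g ⟨Q, inferInstance⟩ := PrimeSpectrum.ext h
    exact hφ ⟨Q, inferInstance⟩
  let _ : Algebra A B := g.toAlgebra
  let C'' : Subalgebra A B := Algebra.adjoin A {b}
  let g₁ : A →+* C'' := algebraMap A C''
  let g₂ : C'' →+* B := C''.val.toRingHom
  have hg12 : g₂.comp g₁ = g := RingHom.ext fun _ => rfl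
  have hinj₂ : Function.Injective g₂ := Subtype.val_injective
  have hint₂ : g₂.IsIntegral := RingHom.IsIntegral.tower_top g₁ g₂ (hg12 ▸ hint)
  have hint₁ : g₁.IsIntegral := RingHom.IsIntegral.tower_bot g₁ g₂ hinj₂ (hg12 ▸ hint)
  have hinj₁ : Function.Injective g₁ := fun x y hxy => hinj (congrArg g₂ hxy)
  have hred : IsReduced C'' := isReduced_of_injective g₂ hinj₂
  let bb : C'' := ⟨b, Algebra.subset_adjoin (Set.mem_singleton b)⟩
  -- the value of `b` under any map from `A[b]` to a field
  have hval : ∀ (K : Type u) [Field K] (χ : C'' →+* K),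
      ∃ (hu : (RingHom.ker (χ.comp g₁)).primeCompl ≤ (IsUnit.submonoid K).comap (χ.comp g₁)),
      χ bb = Ideal.ResidueField.lift (RingHom.ker (χ.comp g₁)) (χ.comp g₁) le_rfl hu
        (φ ⟨RingHom.ker (χ.comp g₁), RingHom.ker_isPrime _⟩) := by
    intro K _ χ
    have hu : (RingHom.ker (χ.comp g₁)).primeCompl ≤ (IsUnit.submonoid K).comap (χ.comp g₁) := by
      intro x hx
      exact (isUnit_iff_ne_zero.mpr (fun h0 => hx (RingHom.mem_ker.mpr h0)))
    refine ⟨hu, ?_⟩
    have hu'' : (RingHom.ker χ).primeCompl ≤ (IsUnit.submonoid K).comap χ := by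
      intro x hx
      exact (isUnit_iff_ne_zero.mpr (fun h0 => hx (RingHom.mem_ker.mpr h0)))
    obtain ⟨Q, hQ⟩ := hint₂.comap_surjective hinj₂ ⟨RingHom.ker χ, inferInstance⟩
    have hQ' : RingHom.ker χ = Q.asIdeal.comap g₂ := (congrArg PrimeSpectrum.asIdeal hQ).symm
    have hP1 : RingHom.ker (χ.comp g₁) = (RingHom.ker χ).comap g₁ := (RingHom.comap_ker χ g₁).symm
    have hPQ : RingHom.ker (χ.comp g₁) = Q.asIdeal.comap g := by
      rw [hP1, hQ', ← hg12]; rfl
    have hm := residueFieldMap_comp g₁ g₂ g hg12 (RingHom.ker (χ.comp g₁)) (RingHom.ker χ)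
      Q.asIdeal hP1 hQ' hPQ
    have h1 := hφG ⟨RingHom.ker (χ.comp g₁), inferInstance⟩ Q.asIdeal hPQ
    -- value of `bb` in `κ(ker χ)`
    have h2 : algebraMap C'' (RingHom.ker χ).ResidueField bb =
        Ideal.ResidueField.map (RingHom.ker (χ.comp g₁)) (RingHom.ker χ) g₁ hP1
          (φ ⟨RingHom.ker (χ.comp g₁), inferInstance⟩) := by
      apply (Ideal.ResidueField.map (RingHom.ker χ) Q.asIdeal g₂ hQ').injective
      refine (Ideal.ResidueField.map_algebraMap (RingHom.ker χ) Q.asIdeal g₂ hQ' bb).trans ?_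
      exact h1.trans (congr($hm (φ ⟨RingHom.ker (χ.comp g₁), inferInstance⟩))).symm
    have h3 : χ bb = Ideal.ResidueField.lift (RingHom.ker χ) χ le_rfl hu''
        (algebraMap C'' (RingHom.ker χ).ResidueField bb) :=
      (Ideal.ResidueField.lift_algebraMap (RingHom.ker χ) χ le_rfl hu'' bb).symm
    have h4 : (Ideal.ResidueField.lift (RingHom.ker χ) χ le_rfl hu'').comp
        (Ideal.ResidueField.map (RingHom.ker (χ.comp g₁)) (RingHom.ker χ) g₁ hP1) =
        Ideal.ResidueField.lift (RingHom.ker (χ.comp g₁)) (χ.comp g₁) le_rfl hu := by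
      apply Ideal.ResidueField.ringHom_ext
      ext a
      simp
    rw [h3, h2]
    exact congr($h4 _)
  -- `A → A[b]` is a universal homeomorphism on spectra
  have hUH₁ : UH g₁ := by
    refine ⟨hint₁, hint₁.comap_surjective hinj₁, ?_⟩
    intro K _ χ₁ χ₂ h
    have hb : χ₁ bb = χ₂ bb := by
      obtain ⟨hu₁, e₁⟩ := hval K χ₁
      obtain ⟨hu₂, e₂⟩ := hval K χ₂
      rw [e₁, e₂]
      have : ∀ (θ₁ θ₂ : A →+* K) (hθ : θ₁ = θ₂)
          (hu₁ : (RingHom.ker θ₁).primeCompl ≤ (IsUnit.submonoid K).comap θ₁)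
          (hu₂ : (RingHom.ker θ₂).primeCompl ≤ (IsUnit.submonoid K).comap θ₂),
          Ideal.ResidueField.lift (RingHom.ker θ₁) θ₁ le_rfl hu₁
            (φ ⟨RingHom.ker θ₁, RingHom.ker_isPrime _⟩) =
          Ideal.ResidueField.lift (RingHom.ker θ₂) θ₂ le_rfl hu₂
            (φ ⟨RingHom.ker θ₂, RingHom.ker_isPrime _⟩) := by
        intro θ₁ θ₂ hθ hu₁ hu₂
        subst hθ
        rfl
      exact this _ _ h hu₁ hu₂
    -- two ring maps out of `A[b]` agreeing on `A` and on `b` agree
    ext ⟨t, ht⟩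
    induction ht using Algebra.adjoin_induction with
    | mem x hx =>
      rw [Set.mem_singleton_iff] at hx
      subst hx
      exact hb
    | algebraMap r => exact congr($h r)
    | add x y hx hy ihx ihy =>
      have e : (⟨x + y, add_mem hx hy⟩ : C'') = ⟨x, hx⟩ + ⟨y, hy⟩ := rfl
      rw [e, map_add, map_add, ihx, ihy]
    | mul x y hx hy ihx ihy =>
      have e : (⟨x * y, mul_mem hx hy⟩ : C'') = ⟨x, hx⟩ * ⟨y, hy⟩ := rfl
      rw [e, map_mul, map_mul, ihx, ihy]
  -- values of all elements of `A[b]`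
  have key : ∀ (Q : PrimeSpectrum B) (t : C''), algebraMap B Q.asIdeal.ResidueField (g₂ t) ∈
      (Ideal.ResidueField.map (PrimeSpectrum.comap (g₂.comp g₁) Q).asIdeal Q.asIdeal
        (g₂.comp g₁) rfl).range := by
    intro Q t
    have hb' : algebraMap B Q.asIdeal.ResidueField b ∈
        (Ideal.ResidueField.map (PrimeSpectrum.comap (g₂.comp g₁) Q).asIdeal Q.asIdeal
          (g₂.comp g₁) rfl).range := by
      have hP : (PrimeSpectrum.comap (g₂.comp g₁) Q).asIdeal = Q.asIdeal.comap g := by
        rw [← hg12]; rfl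
      refine ⟨φ (PrimeSpectrum.comap (g₂.comp g₁) Q), ?_⟩
      have h5 := hφG (PrimeSpectrum.comap (g₂.comp g₁) Q) Q.asIdeal hP
      rw [h5]
      have : ∀ (g' : A →+* B) (hg' : g' = g) (hP' : (PrimeSpectrum.comap g' Q).asIdeal =
          Q.asIdeal.comap g),
          Ideal.ResidueField.map (PrimeSpectrum.comap g' Q).asIdeal Q.asIdeal g' rfl
            (φ (PrimeSpectrum.comap g' Q)) =
          Ideal.ResidueField.map (PrimeSpectrum.comap g' Q).asIdeal Q.asIdeal g hP'
            (φ (PrimeSpectrum.comap g' Q)) := by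
        intro g' hg' hP'
        subst hg'
        rfl
      exact this _ hg12 hP
    obtain ⟨t, ht⟩ := t
    induction ht using Algebra.adjoin_induction with
    | mem x hx =>
      rw [Set.mem_singleton_iff] at hx
      subst hx
      exact hb'
    | algebraMap r =>
      exact ⟨algebraMap A _ r, Ideal.ResidueField.map_algebraMap _ _ (g₂.comp g₁) rfl r⟩
    | add x y hx hy ihx ihy =>
      have e : g₂ (⟨x + y, add_mem hx hy⟩ : C'') = g₂ ⟨x, hx⟩ + g₂ ⟨y, hy⟩ := rfl
      rw [e, map_add]
      exact add_mem ihx ihy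
    | mul x y hx hy ihx ihy =>
      have e : g₂ (⟨x * y, mul_mem hx hy⟩ : C'') = g₂ ⟨x, hx⟩ * g₂ ⟨y, hy⟩ := rfl
      rw [e, map_mul]
      exact mul_mem ihx ihy
  have hbij := bijective_of_UH_of_values g₁ g₂ hinj₂ hint₂ hUH₁ hA key
  obtain ⟨r, hr⟩ := hbij.2 bb
  exact ⟨r, congrArg Subtype.val hr⟩

end Groth.Agent.Lib.Seat74.SemiNormDescent
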