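import Groth.Prelude.Def_W4c1hilbchowincPtFun
import Groth.Agent.Lib.Seat62SpecEval
import Groth.Agent.Lib.Seat74SemiNormDescent

/-!
# Descent of algebraic pointwise functions to a seminormal ring (helper74)

`existsUnique_of_pullback_algebraic`: `A` seminormal, `g : A → B` injective integral with `B` reduced,
`f` a pointwise function on `Spec A` whose pullback to `Spec B` is the family of values of `b ∈ B`.
Then `f` is the family of values of exactly one global section.
-/

set_option autoImplicit false
universe u
open CategoryTheory AlgebraicGeometry W4c1hilbchowinc HTop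

namespace Groth.Agent.Lib.Seat74.PtFunDescent

open Groth.Agent.Lib.Seat62.SpecEval Groth.Agent.Lib.Seat74.SemiNormDescent

set_option backward.isDefEq.respectTransparency false in
/-- `evA` in terms of the residue field isomorphism of `Spec`. -/
theorem evA_eq_residueFieldIso_inv {A : Type u} [CommRing A] (x : Spec (CommRingCat.of A))
    (a : A) : evA A x a = (Scheme.Spec.residueFieldIso (CommRingCat.of A) x).inv
      (algebraMap A x.asIdeal.ResidueField a) := by
  have := Scheme.Spec.algebraMap_residueFieldIso_inv (CommRingCat.of A) x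
  exact (congrArg (fun φ => φ.hom a) this).symm

set_option backward.isDefEq.respectTransparency false in
theorem existsUnique_of_pullback_algebraic {A B : Type u} [CommRing A] [CommRing B]
    (g : A →+* B) (hint : g.IsIntegral) (hinj : Function.Injective g) (hA : IsSeminormalRing A)
    [IsReduced B] (f : PtFun (Spec (CommRingCat.of A))) (b : B)
    (hb : ∀ Q : Spec (CommRingCat.of B),
      evA B Q b = (f.pullback (Spec.map (CommRingCat.ofHom g))) Q) :
    ∃! a : Γ(Spec (CommRingCat.of A), ⊤), PtFun.ofSection (Spec (CommRingCat.of A)) a = f := by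
  classical
  have hredA : IsReduced A := Groth.Agent.Lib.Helper11.isReduced_of_isSeminormalRing hA
  have hmem : b ∈ g.range := by
    refine mem_range_of_pointwise g hint hinj hA b
      (fun p => (Scheme.Spec.residueFieldIso (CommRingCat.of A) p).hom (f p)) (fun Q => ?_)
    apply (ConcreteCategory.bijective_of_isIso
      (Scheme.Spec.residueFieldIso (CommRingCat.of B) Q).inv).1
    have h1 := congrArg (fun φ => φ.hom ((Scheme.Spec.residueFieldIso (CommRingCat.of A)
        (PrimeSpectrum.comap g Q)).hom (f (PrimeSpectrum.comap g Q))))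
      (Groth.Agent.Lib.Helper20.EtaPt.residueFieldMap_Spec (CommRingCat.ofHom g) Q)
    refine (evA_eq_residueFieldIso_inv Q b).symm.trans ((hb Q).trans ?_)
    refine Eq.trans ?_ h1
    show (Spec.map (CommRingCat.ofHom g)).residueFieldMap Q
        (f (Spec.map (CommRingCat.ofHom g) Q)) = _
    simp only [CommRingCat.hom_comp, RingHom.comp_apply]
    congr 1
    exact (Iso.hom_inv_id_apply (Scheme.Spec.residueFieldIso (CommRingCat.of A)
      (PrimeSpectrum.comap g Q)) _).symm
  obtain ⟨a, ha⟩ := hmem
  have hval : ∀ p : Spec (CommRingCat.of A), evA A p a = f p := by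
    intro p
    obtain ⟨Q, rfl⟩ := hint.comap_surjective hinj p
    apply ((Spec.map (CommRingCat.ofHom g)).residueFieldMap Q).hom.injective
    refine (residueFieldMap_evA g Q a).trans ?_
    rw [ha]
    exact hb Q
  refine ⟨(Scheme.ΓSpecIso (CommRingCat.of A)).inv a,
    funext fun p => (evA_apply p a).symm.trans (hval p), ?_⟩
  intro s hs
  have h1 : ∀ p : Spec (CommRingCat.of A),
      evA A p ((Scheme.ΓSpecIso (CommRingCat.of A)).hom s - a) = 0 := by
    intro p
    rw [map_sub, ← Γevaluation_eq_evA, hval p]
    exact sub_eq_zero.mpr (congrFun hs p)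
  have h2 : (Scheme.ΓSpecIso (CommRingCat.of A)).hom s - a = 0 := by
    have h3 : (Scheme.ΓSpecIso (CommRingCat.of A)).hom s - a ∈ nilradical A := by
      rw [nilradical_eq_sInf, Ideal.mem_sInf]
      intro p hp
      exact (evA_eq_zero_iff (⟨p, hp⟩ : Spec (CommRingCat.of A)) _).mp (h1 ⟨p, hp⟩)
    rwa [nilradical_eq_zero, Ideal.zero_eq_bot, Ideal.mem_bot] at h3
  have h4 : (Scheme.ΓSpecIso (CommRingCat.of A)).hom s = a := sub_eq_zero.mp h2
  rw [← h4]
  exact (Iso.hom_inv_id_apply (Scheme.ΓSpecIso (CommRingCat.of A)) s).symm

end Groth.Agent.Lib.Seat74.PtFunDescent
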