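import Mathlib
import Groth.Agent.Lib.Seat74NeronMP2

/-!
# Seat 74: extending rational maps to proper schemes across points with valuation local rings

* `valuationRing_of_dim_le_one` : a Noetherian normal local domain of dimension `≤ 1` is a
  valuation ring.
* `fromSpecStalk_bot_mem_of_dense` : the generic point of `Spec 𝒪_{X,x}` (a domain) lies in every
  dense open of a locally Noetherian scheme.
* `exists_local_extension` : a morphism `U → Y` (`U ⊆ X` dense open, `Y` proper over `S`) extends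
  to a neighbourhood of any point `x` whose local ring is a valuation ring.
* `exists_extension_of_forall` : glueing.
-/

set_option autoImplicit false
universe u
open CategoryTheory CategoryTheory.Limits AlgebraicGeometry TopologicalSpace

namespace Groth.Agent.Lib.Seat74.RatMapExt

open Groth.Agent.Lib.Seat74.NeronMP Groth.Agent.Lib.Seat74.NeronMP2

theorem valuationRing_of_dim_le_one (O : Type u) [CommRing O] [IsDomain O] [IsLocalRing O]
    [IsNoetherianRing O] [IsIntegrallyClosed O] (h : ringKrullDim O ≤ 1) : ValuationRing O := by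
  have h1 : Ring.KrullDimLE 1 O := Ring.krullDimLE_iff.mpr (by simpa using h)
  have h2 : IsIntegrallyClosed O ∧
      ∀ P : Ideal O, P ≠ ⊥ → P.IsPrime → P = IsLocalRing.maximalIdeal O := by
    refine ⟨inferInstance, ?_⟩
    intro P hP hPp
    exact IsLocalRing.eq_maximalIdeal (hPp.isMaximal_of_ne_bot hP)
  exact ((tfae_of_isNoetherianRing_of_isLocalRing_of_isDomain O).out 3 1).mp h2

/-- a point without proper generizations lies in every dense open of a locally Noetherian
scheme -/
theorem mem_of_dense_of_forall_specializes {X : Scheme.{u}} [IsLocallyNoetherian X] (U : X.Opens)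
    (hU : Dense (U : Set X)) (ξ : X) (hmax : ∀ ξ' : X, ξ' ⤳ ξ → ξ' = ξ) : ξ ∈ U := by
  by_contra hξU
  obtain ⟨_, ⟨W₀ : X.Opens, hW₀aff, rfl⟩, hξW₀, -⟩ :=
    X.isBasis_affineOpens.exists_subset_of_mem_open (Set.mem_univ ξ) isOpen_univ
  have : IsNoetherianRing Γ(X, W₀) := IsLocallyNoetherian.component_noetherian ⟨W₀, hW₀aff⟩
  have hNS : NoetherianSpace W₀ := noetherianSpace_of_isAffineOpen W₀ hW₀aff
  let ξ' : W₀.toScheme := ⟨ξ, hξW₀⟩
  have hkey : ∀ η ∈ (W₀.ι ⁻¹' (U : Set X)), η ⤳ ξ' → η ∈ (∅ : Set W₀.toScheme) := by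
    intro η hηU hηξ
    exfalso
    have h1 : W₀.ι η ⤳ ξ := hηξ.map W₀.ι.continuous
    apply hξU
    rw [← hmax _ h1]
    exact hηU
  obtain ⟨V, hVopen, hξV, hVsub⟩ := exists_open_nhd_inter_subset ξ'
    (U.2.preimage W₀.ι.continuous) isOpen_empty hkey
  have hopen : IsOpen (W₀.ι '' V) := W₀.ι.isOpenEmbedding.isOpenMap V hVopen
  obtain ⟨z, ⟨v, hvV, rfl⟩, hzU⟩ := hU.inter_open_nonempty _ hopen ⟨ξ, ξ', hξV, rfl⟩
  exact hVsub ⟨hvV, hzU⟩

/-- for a domain `O` with fraction field `K`, the image of `Spec K` in `Spec O` has no proper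
generization -/
theorem eq_of_specializes_SpecMap_fractionRing {O : Type u} [CommRing O] [IsDomain O]
    (pt : Spec (CommRingCat.of (FractionRing O))) (q : Spec (CommRingCat.of O))
    (h : q ⤳ Spec.map (CommRingCat.ofHom (algebraMap O (FractionRing O))) pt) :
    q = Spec.map (CommRingCat.ofHom (algebraMap O (FractionRing O))) pt := by
  have hle : (q : PrimeSpectrum O).asIdeal ≤
      (Spec.map (CommRingCat.ofHom (algebraMap O (FractionRing O))) pt : PrimeSpectrum O).asIdeal :=
    (PrimeSpectrum.le_iff_specializes (R := O) q _).mpr h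
  have hbot : (Spec.map (CommRingCat.ofHom (algebraMap O (FractionRing O))) pt :
      PrimeSpectrum O).asIdeal = ⊥ := by
    have hpt : (pt : PrimeSpectrum (FractionRing O)).asIdeal = ⊥ :=
      ((Ideal.eq_bot_or_top _).resolve_right (pt : PrimeSpectrum (FractionRing O)).2.ne_top)
    change Ideal.comap (algebraMap O (FractionRing O)) (pt : PrimeSpectrum (FractionRing O)).asIdeal = ⊥
    rw [hpt, Ideal.comap_bot_of_injective _ (IsFractionRing.injective O (FractionRing O))]
  apply PrimeSpectrum.ext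
  apply le_antisymm hle
  rw [hbot]
  exact bot_le

/-- **Local extension by the valuative criterion.** -/
theorem exists_local_extension {S X Y : Scheme.{u}} (pX : X ⟶ S) (pY : Y ⟶ S)
    [IsLocallyNoetherian X] [IsProper pY] (U : X.Opens) (hU : Dense (U : Set X))
    (f : (U : Scheme.{u}) ⟶ Y) (hf : f ≫ pY = U.ι ≫ pX) (x : X)
    [IsDomain (X.presheaf.stalk x)] [ValuationRing (X.presheaf.stalk x)] :
    ∃ (V : Scheme.{u}) (i : V ⟶ X) (_ : IsOpenImmersion i) (fV : V ⟶ Y),
      x ∈ Set.range i ∧ fV ≫ pY = i ≫ pX ∧ Compat U.ι f i fV := by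
  set c : Spec (CommRingCat.of (FractionRing (X.presheaf.stalk x))) ⟶
      Spec (CommRingCat.of (X.presheaf.stalk x)) :=
    Spec.map (CommRingCat.ofHom (algebraMap (X.presheaf.stalk x)
      (FractionRing (X.presheaf.stalk x)))) with hc
  set φx : Spec (CommRingCat.of (X.presheaf.stalk x)) ⟶ X := X.fromSpecStalk x with hφx
  have hrange : Set.range (c ≫ φx) ⊆ Set.range U.ι := by
    rintro _ ⟨pt, rfl⟩
    rw [Scheme.Opens.range_ι]
    apply mem_of_dense_of_forall_specializes U hU
    intro ξ' hξ'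
    have hx : (c ≫ φx) pt ⤳ x := by
      have : (c ≫ φx) pt ∈ Set.range (X.fromSpecStalk x) := ⟨c pt, rfl⟩
      rwa [Scheme.range_fromSpecStalk] at this
    have h2 : ξ' ∈ Set.range (X.fromSpecStalk x) := by
      rw [Scheme.range_fromSpecStalk]; exact hξ'.trans hx
    obtain ⟨q, rfl⟩ := h2
    have h3 : q ⤳ c pt := by
      rw [← (X.fromSpecStalk x).isEmbedding.isInducing.specializes_iff]; exact hξ'
    rw [eq_of_specializes_SpecMap_fractionRing pt q h3]
    rfl
  set lU := IsOpenImmersion.lift U.ι (c ≫ φx) hrange with hlUdef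
  have hlU : lU ≫ U.ι = c ≫ φx := IsOpenImmersion.lift_fac _ _ _
  have hex : ValuativeCriterion.Existence pY := by
    have : UniversallyClosed pY := inferInstance
    rw [UniversallyClosed.eq_valuativeCriterion] at this
    exact this.1
  let Sq : ValuativeCommSq pY :=
    { R := X.presheaf.stalk x
      K := FractionRing (X.presheaf.stalk x)
      i₁ := lU ≫ f
      i₂ := φx ≫ pX
      commSq := ⟨by rw [Category.assoc, hf, ← Category.assoc, hlU, Category.assoc]⟩ }
  obtain ⟨⟨l, hl1, hl2⟩⟩ := (hex Sq).exists_lift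
  have hl1' : c ≫ l = lU ≫ f := hl1
  have hl2' : l ≫ pY = φx ≫ pX := hl2
  -- compatibility
  have hclaim : pullback.fst φx U.ι ≫ l = pullback.snd φx U.ι ≫ f := by
    have hred : IsReduced (pullback φx U.ι) := isReduced_of_isOpenImmersion (pullback.fst φx U.ι)
    set ι : Spec (CommRingCat.of (FractionRing (X.presheaf.stalk x))) ⟶ pullback φx U.ι :=
      pullback.lift c lU hlU.symm with hι
    have hdom : IsDominant ι := by
      rw [isDominant_iff, DenseRange, dense_iff_closure_eq]
      apply Set.eq_univ_of_forall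
      intro p
      have pt : Spec (CommRingCat.of (FractionRing (X.presheaf.stalk x))) :=
        (⟨⊥, Ideal.isPrime_bot⟩ : PrimeSpectrum (FractionRing (X.presheaf.stalk x)))
      have hsp : pullback.fst φx U.ι (ι pt) ⤳ pullback.fst φx U.ι p := by
        have e1 : pullback.fst φx U.ι (ι pt) = c pt := by
          rw [← Scheme.Hom.comp_apply, hι, pullback.lift_fst]
        rw [e1]
        apply (PrimeSpectrum.le_iff_specializes (R := X.presheaf.stalk x) (c pt) _).mp
        have hbot : (c pt : PrimeSpectrum (X.presheaf.stalk x)).asIdeal = ⊥ := by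
          have hpt : (pt : PrimeSpectrum (FractionRing (X.presheaf.stalk x))).asIdeal = ⊥ :=
            ((Ideal.eq_bot_or_top _).resolve_right
              (pt : PrimeSpectrum (FractionRing (X.presheaf.stalk x))).2.ne_top)
          change Ideal.comap (algebraMap (X.presheaf.stalk x) (FractionRing (X.presheaf.stalk x)))
            (pt : PrimeSpectrum (FractionRing (X.presheaf.stalk x))).asIdeal = ⊥
          rw [hpt, Ideal.comap_bot_of_injective _
            (IsFractionRing.injective (X.presheaf.stalk x) (FractionRing (X.presheaf.stalk x)))]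
        change (c pt : PrimeSpectrum (X.presheaf.stalk x)).asIdeal ≤ _
        rw [hbot]
        exact bot_le
      have hsp' : ι pt ⤳ p :=
        ((pullback.fst φx U.ι).isEmbedding.isInducing.specializes_iff).mp hsp
      have hsub : ({ι pt} : Set ↥(pullback φx U.ι)) ⊆ Set.range ⇑ι := by
        rintro _ rfl
        exact ⟨pt, rfl⟩
      exact closure_mono hsub hsp'.mem_closure
    refine ext_of_isDominant_of_isSeparated pY ?_ ι ?_
    · rw [Category.assoc, hl2', Category.assoc, hf, pullback.condition_assoc]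
    · rw [hι, pullback.lift_fst_assoc, pullback.lift_snd_assoc, hl1']
  have hcompat : Compat U.ι f φx l := by
    intro Z a b hab
    calc a ≫ l = (pullback.lift a b hab ≫ pullback.fst φx U.ι) ≫ l := by rw [pullback.lift_fst]
      _ = (pullback.lift a b hab ≫ pullback.snd φx U.ι) ≫ f := by
          rw [Category.assoc, hclaim, Category.assoc]
      _ = b ≫ f := by rw [pullback.lift_snd]
  exact exists_nhd_extension_of_germ pX pY x l hl2' hcompat

/-- **Glueing.** A morphism from a dense open `U` of a reduced locally Noetherian scheme `X` to a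
proper `S`-scheme extends to an open containing `U` and any prescribed set `B` of points whose
local rings are valuation rings. -/
theorem exists_extension_of_forall {S X Y : Scheme.{u}} (pX : X ⟶ S) (pY : Y ⟶ S)
    [IsLocallyNoetherian X] [IsReduced X] [IsProper pY] (U : X.Opens) (hU : Dense (U : Set X))
    (f : (U : Scheme.{u}) ⟶ Y) (hf : f ≫ pY = U.ι ≫ pX) (B : Set X)
    (hB : ∀ x ∈ B, ∃ (_ : IsDomain (X.presheaf.stalk x)), ValuationRing (X.presheaf.stalk x)) :
    ∃ (V : X.Opens) (hUV : U ≤ V) (g : (V : Scheme.{u}) ⟶ Y),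
      g ≫ pY = V.ι ≫ pX ∧ X.homOfLE hUV ≫ g = f ∧ B ⊆ (V : Set X) := by
  have hloc : ∀ x : B, ∃ (V : Scheme.{u}) (i : V ⟶ X) (_ : IsOpenImmersion i) (fV : V ⟶ Y),
      x.1 ∈ Set.range i ∧ fV ≫ pY = i ≫ pX ∧ Compat U.ι f i fV := by
    intro x
    obtain ⟨h1, h2⟩ := hB x.1 x.2
    exact exists_local_extension pX pY U hU f hf x.1
  choose Vx ix hix fVx hmem hfV hcomp using hloc
  have hix' : ∀ x, IsOpenImmersion (ix x) := hix
  obtain ⟨V, hV⟩ : ∃ V : X.Opens, V = U ⊔ ⨆ x : B, (ix x).opensRange := ⟨_, rfl⟩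
  have hUV : U ≤ V := by rw [hV]; exact le_sup_left
  have hxV : ∀ x : B, (ix x).opensRange ≤ V := fun x => by
    rw [hV]
    exact le_sup_of_le_right (le_iSup (fun x : B => (ix x).opensRange) x)
  set j' := X.homOfLE hUV with hj'
  have hj'ι : j' ≫ V.ι = U.ι := X.homOfLE_ι hUV
  have hVN : IsLocallyNoetherian (V : Scheme.{u}) := isLocallyNoetherian_of_isOpenImmersion V.ι
  have hVred : IsReduced (V : Scheme.{u}) := isReduced_of_isOpenImmersion V.ι
  have hdom : IsDominant j' := by
    rw [isDominant_iff, DenseRange, dense_iff_inter_open]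
    intro O hO hOne
    obtain ⟨v, hv⟩ := hOne
    have hopen : IsOpen (V.ι '' O) := V.ι.isOpenEmbedding.isOpenMap O hO
    obtain ⟨z, ⟨v', hv'O, rfl⟩, hzU⟩ := hU.inter_open_nonempty _ hopen ⟨V.ι v, v, hv, rfl⟩
    refine ⟨v', hv'O, ⟨V.ι v', hzU⟩, ?_⟩
    apply V.ι.isOpenEmbedding.injective
    have e : V.ι (j' ⟨V.ι v', hzU⟩) = (j' ≫ V.ι) ⟨V.ι v', hzU⟩ := rfl
    rw [e, hj'ι]
    rfl
  have hsdom : IsSchemeTheoreticallyDominant j' := IsSchemeTheoreticallyDominant.of_isDominant j'
  have hFD : FlatDominant j' := by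
    intro T m hm
    infer_instance
  have hloc' : ∀ v : (V : Scheme.{u}), ∃ (V' : Scheme.{u}) (i : V' ⟶ (V : Scheme.{u}))
      (_ : IsOpenImmersion i) (fV : V' ⟶ Y),
      v ∈ Set.range i ∧ fV ≫ pY = i ≫ V.ι ≫ pX ∧ Compat j' f i fV := by
    intro v
    have hv0 : v.1 ∈ V := v.2
    have hv : v.1 ∈ U ⊔ ⨆ x : B, (ix x).opensRange := by rw [← hV]; exact hv0
    rw [TopologicalSpace.Opens.mem_sup] at hv
    rcases hv with hvU | hvB
    · refine ⟨U, j', inferInstance, f, ?_, ?_, ?_⟩
      · refine ⟨⟨v.1, hvU⟩, ?_⟩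
        apply V.ι.isOpenEmbedding.injective
        have e : V.ι (j' ⟨v.1, hvU⟩) = (j' ≫ V.ι) ⟨v.1, hvU⟩ := rfl
        rw [e, hj'ι]
        rfl
      · rw [hf, ← Category.assoc, hj'ι]
      · intro Z a b hab
        rw [(cancel_mono j').mp hab]
    · rw [TopologicalSpace.Opens.mem_iSup] at hvB
      obtain ⟨x, hvx⟩ := hvB
      have := hix' x
      have hrange : Set.range (ix x) ⊆ Set.range V.ι := by
        rw [Scheme.Opens.range_ι]
        exact hxV x
      set i' := IsOpenImmersion.lift V.ι (ix x) hrange with hi'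
      have hi'ι : i' ≫ V.ι = ix x := IsOpenImmersion.lift_fac _ _ _
      have hi'open : IsOpenImmersion i' := by
        have : IsOpenImmersion (i' ≫ V.ι) := by rw [hi'ι]; infer_instance
        exact IsOpenImmersion.of_comp i' V.ι
      refine ⟨Vx x, i', hi'open, fVx x, ?_, ?_, ?_⟩
      · obtain ⟨w, hw⟩ := hvx
        refine ⟨w, ?_⟩
        apply V.ι.isOpenEmbedding.injective
        have e : V.ι (i' w) = (i' ≫ V.ι) w := rfl
        rw [e, hi'ι]
        exact hw
      · rw [hfV x, ← Category.assoc, hi'ι]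
      · intro Z a b hab
        apply hcomp x
        rw [← hi'ι, ← Category.assoc, hab, Category.assoc, hj'ι]
  obtain ⟨g, ⟨hg1, hg2⟩, -⟩ := existsUnique_of_local (j := j') (k := f) hFD (V.ι ≫ pX) pY hloc'
  refine ⟨V, hUV, g, hg1, hg2, ?_⟩
  intro x hx
  exact hxV ⟨x, hx⟩ (hmem ⟨x, hx⟩)

end Groth.Agent.Lib.Seat74.RatMapExt
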