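import Mathlib
import Groth.Agent.Lib.Seat87GrpLim3
import Groth.Agent.Lib.Seat43GenFibre
import Groth.Agent.Lib.Seat33GrpdImage

/-!
# Schematic closure of a closed subgroup of the generic fibre (helper74)

General lemmas:
* `dominant_pullback_map`: product of two schematically dominant quasi-compact morphisms, under
  flatness hypotheses.
* `flat_of_dominant_of_over_genPt`: a scheme over a Dedekind domain which receives a schematically
  dominant quasi-compact morphism from a scheme over the fraction field is flat.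
* `isPullback_of_dominant`: such a scheme has the source as its generic fibre when the source is
  closed in the generic fibre of an ambient scheme.
-/

set_option autoImplicit false
set_option linter.unusedSectionVars false
universe u

open CategoryTheory CategoryTheory.Limits AlgebraicGeometry

namespace Groth.Agent.Lib.Seat74.SchClosure

open Groth.Agent.Lib.Seat33.GrpdImage

/-- product of two scheme-theoretically dominant quasi-compact morphisms, with flatness. -/
theorem dominant_pullback_map {B B' X₁ Y₁ X₂ Y₂ : Scheme.{u}}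
    (f₁ : X₁ ⟶ B) (g₁ : Y₁ ⟶ B) (f₂ : X₂ ⟶ B') (g₂ : Y₂ ⟶ B') (a : X₁ ⟶ X₂) (b : Y₁ ⟶ Y₂)
    (e : B ⟶ B') [Mono e] (h₁ : f₁ ≫ e = a ≫ f₂) (h₂ : g₁ ≫ e = b ≫ g₂)
    [IsSchemeTheoreticallyDominant a] [QuasiCompact a]
    [IsSchemeTheoreticallyDominant b] [QuasiCompact b] [Flat (b ≫ g₂)] [Flat f₂] :
    IsSchemeTheoreticallyDominant (pullback.map f₁ g₁ f₂ g₂ a b e h₁ h₂) := by
  let Ta : pullback f₁ g₁ ⟶ pullback f₂ (b ≫ g₂) :=
    pullback.map f₁ g₁ f₂ (b ≫ g₂) a (𝟙 _) e h₁ (by rw [h₂, Category.id_comp])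
  let Tb : pullback f₂ (b ≫ g₂) ⟶ pullback f₂ g₂ :=
    pullback.map f₂ (b ≫ g₂) f₂ g₂ (𝟙 _) b (𝟙 _) (by simp) (by simp)
  have hTa_snd : Ta ≫ pullback.snd f₂ (b ≫ g₂) = pullback.snd f₁ g₁ := by
    dsimp only [Ta]; rw [pullback.lift_snd, Category.comp_id]
  have hTa_fst : Ta ≫ pullback.fst f₂ (b ≫ g₂) = pullback.fst f₁ g₁ ≫ a := by
    dsimp only [Ta]; rw [pullback.lift_fst]
  have hTb_fst : Tb ≫ pullback.fst f₂ g₂ = pullback.fst f₂ (b ≫ g₂) := by
    dsimp only [Tb]; rw [pullback.lift_fst, Category.comp_id]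
  have hTb_snd : Tb ≫ pullback.snd f₂ g₂ = pullback.snd f₂ (b ≫ g₂) ≫ b := by
    dsimp only [Tb]; rw [pullback.lift_snd]
  have hT : pullback.map f₁ g₁ f₂ g₂ a b e h₁ h₂ = Ta ≫ Tb := by
    apply pullback.hom_ext
    · rw [Category.assoc, hTb_fst, hTa_fst, pullback.lift_fst]
    · rw [Category.assoc, hTb_snd, ← Category.assoc, hTa_snd, pullback.lift_snd]
  have hbig : IsPullback (pullback.snd f₁ g₁) (pullback.fst f₁ g₁) (b ≫ g₂) (a ≫ f₂) := by
    have h0 : IsPullback (pullback.fst f₁ g₁) (pullback.snd f₁ g₁) (f₁ ≫ e) (g₁ ≫ e) :=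
      ⟨⟨by rw [pullback.condition_assoc]⟩, ⟨pullbackIsPullbackOfCompMono f₁ g₁ e⟩⟩
    rw [h₁, h₂] at h0
    exact h0.flip
  have hleft : IsPullback Ta (pullback.fst f₁ g₁) (pullback.fst f₂ (b ≫ g₂)) a := by
    refine IsPullback.of_right (h₁₂ := pullback.snd f₂ (b ≫ g₂)) (h₂₂ := f₂) ?_ hTa_fst
      (IsPullback.of_hasPullback f₂ (b ≫ g₂)).flip
    rw [hTa_snd]
    exact hbig
  have : IsSchemeTheoreticallyDominant Ta :=
    IsSchemeTheoreticallyDominant.of_isPullback hleft.flip
  have hleft' : IsPullback Tb (pullback.snd f₂ (b ≫ g₂)) (pullback.snd f₂ g₂) b := by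
    refine IsPullback.of_right (h₁₂ := pullback.fst f₂ g₂) (h₂₂ := g₂) ?_ hTb_snd
      (IsPullback.of_hasPullback f₂ g₂)
    rw [hTb_fst]
    exact IsPullback.of_hasPullback f₂ (b ≫ g₂)
  have : IsSchemeTheoreticallyDominant Tb :=
    IsSchemeTheoreticallyDominant.of_isPullback hleft'.flip
  rw [hT]
  infer_instance

set_option backward.isDefEq.respectTransparency.types false in
theorem flat_of_openCover {X Y : Scheme.{u}} (f : X ⟶ Y) (𝒰 : X.OpenCover)
    (h : ∀ i, Flat (𝒰.f i ≫ f)) : Flat f :=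
  IsZariskiLocalAtSource.of_openCover (P := @Flat) 𝒰 h

/-- a scheme over `Spec R` (`R` Dedekind) receiving a schematically dominant quasi-compact
morphism from a scheme over the fraction field is flat over `Spec R`. -/
theorem flat_of_dominant_of_over_genPt {R : Type u} [CommRing R] [IsDedekindDomain R]
    {W H : Scheme.{u}} (φ : W ⟶ H) [IsSchemeTheoreticallyDominant φ] [QuasiCompact φ]
    (pH : H ⟶ Spec (CommRingCat.of R)) (w : W ⟶ Spec (CommRingCat.of (FractionRing R)))
    (hw : w ≫ Neron.genPt R = φ ≫ pH) : Flat pH := by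
  let 𝒰 := H.openCoverOfIsOpenCover (fun U : H.affineOpens => U.1) (iSup_affineOpens_eq_top H)
  apply flat_of_openCover pH 𝒰
  intro U
  change Flat ((U : H.affineOpens).1.ι ≫ pH)
  let U' : H.affineOpens := U
  have hU : IsAffine (U'.1 : Scheme.{u}) := U'.2
  let Wo : Over (Spec (CommRingCat.of R)) := Over.mk ((φ ⁻¹ᵁ U'.1).ι ≫ φ ≫ pH)
  let Q : Over (Spec (CommRingCat.of R)) := Over.mk (U'.1.ι ≫ pH)
  have : IsAffine Q.left := hU
  let w' : Wo ⟶ Over.mk (Neron.genPt R) := Over.homMk ((φ ⁻¹ᵁ U'.1).ι ≫ w) (by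
    change ((φ ⁻¹ᵁ U'.1).ι ≫ w) ≫ Neron.genPt R = (φ ⁻¹ᵁ U'.1).ι ≫ φ ≫ pH
    rw [Category.assoc, hw])
  let ψ : Wo ⟶ Q := Over.homMk (φ ∣_ U'.1) (by
    change (φ ∣_ U'.1) ≫ U'.1.ι ≫ pH = (φ ⁻¹ᵁ U'.1).ι ≫ φ ≫ pH
    rw [morphismRestrict_ι_assoc])
  have hinj : Function.Injective ψ.left.appTop.hom := by
    change Function.Injective (φ ∣_ U'.1).appTop.hom
    have h1 := morphismRestrict_appTop φ U'.1
    have h2 : Function.Injective (φ.app (U'.1.ι ''ᵁ ⊤) ≫
        W.presheaf.map (eqToHom (image_morphismRestrict_preimage φ U'.1 ⊤)).op).hom := by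
      rw [CommRingCat.hom_comp, RingHom.coe_comp]
      exact (ConcreteCategory.bijective_of_isIso (W.presheaf.map (eqToHom _).op)).1.comp
        (φ.app_injective _)
    rw [h1]; exact h2
  exact Groth.Agent.Lib.Seat43.GenFibre.flat_of_injective_of_over_genPt w' ψ hinj

/-- For a monomorphism `η`, the square `[w, 𝟙; η, w ≫ η]` is cartesian. -/
theorem isPullback_id_of_mono {S P W : Scheme.{u}} (η : P ⟶ S) [Mono η] (w : W ⟶ P) :
    IsPullback w (𝟙 W) η (w ≫ η) := by
  have h1 : IsPullback w (𝟙 W) (𝟙 P) w := IsPullback.of_vert_isIso ⟨by simp⟩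
  have h2 : IsPullback (𝟙 P) (𝟙 P) η η := IsKernelPair.id_of_mono η
  have := h1.paste_horiz h2
  rwa [Category.comp_id] at this

/-- generic fibre of a schematic closure: if `φ : W ⟶ H` is schematically dominant
quasi-compact with `W` living over `P` (`η : P ⟶ S` a flat monomorphism) and `W` is closed in
`G ×_S P` compatibly with a monomorphism `j : H ⟶ G`, then `W = H ×_S P`. -/
theorem isPullback_of_dominant {S P : Scheme.{u}} (η : P ⟶ S) [Mono η] [Flat η]
    {W H G : Scheme.{u}} (φ : W ⟶ H) [IsSchemeTheoreticallyDominant φ] [QuasiCompact φ]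
    (j : H ⟶ G) [Mono j] (pG : G ⟶ S) (w : W ⟶ P)
    (i : W ⟶ pullback pG η) [IsClosedImmersion i]
    (hi1 : i ≫ pullback.fst pG η = φ ≫ j) (hi2 : i ≫ pullback.snd pG η = w) :
    IsPullback φ w (j ≫ pG) η := by
  have hw : φ ≫ j ≫ pG = w ≫ η := by
    rw [← Category.assoc, ← hi1, Category.assoc, pullback.condition, ← Category.assoc, hi2]
  let c : W ⟶ pullback (j ≫ pG) η := pullback.lift φ w hw
  have hc1 : c ≫ pullback.fst (j ≫ pG) η = φ := pullback.lift_fst ..
  have hc2 : c ≫ pullback.snd (j ≫ pG) η = w := pullback.lift_snd ..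
  let jK : pullback (j ≫ pG) η ⟶ pullback pG η :=
    pullback.map (j ≫ pG) η pG η j (𝟙 P) (𝟙 S) (by simp) (by simp)
  have hjK1 : jK ≫ pullback.fst pG η = pullback.fst (j ≫ pG) η ≫ j := pullback.lift_fst ..
  have hjK2 : jK ≫ pullback.snd pG η = pullback.snd (j ≫ pG) η ≫ 𝟙 P := pullback.lift_snd ..
  have hc : c ≫ jK = i := by
    apply pullback.hom_ext
    · rw [Category.assoc, hjK1, ← Category.assoc, hc1, hi1]
    · rw [Category.assoc, hjK2, Category.comp_id, hc2, hi2]
  have : Mono jK := by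
    refine ⟨fun a b hab => ?_⟩
    apply pullback.hom_ext
    · have := congr($hab ≫ pullback.fst pG η)
      rw [Category.assoc, Category.assoc, hjK1, ← Category.assoc, ← Category.assoc] at this
      exact (cancel_mono j).mp this
    · have := congr($hab ≫ pullback.snd pG η)
      rw [Category.assoc, Category.assoc, hjK2, Category.comp_id] at this
      exact this
  have : IsClosedImmersion (c ≫ jK) := by rw [hc]; infer_instance
  have : IsClosedImmersion c := IsClosedImmersion.of_comp c jK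
  have hsq : IsPullback c (𝟙 W) (pullback.fst (j ≫ pG) η) φ := by
    refine IsPullback.of_right ?_ (by rw [hc1, Category.id_comp])
      (IsPullback.of_hasPullback (j ≫ pG) η).flip
    rw [hc2, hw]
    exact isPullback_id_of_mono η w
  have : IsSchemeTheoreticallyDominant c := IsSchemeTheoreticallyDominant.of_isPullback hsq.flip
  have : IsIso c := IsClosedImmersion.isIso_iff_ker_eq_bot.mpr c.ker_eq_bot
  exact IsPullback.of_iso_pullback ⟨hw⟩ (asIso c) hc1 hc2

section Bar

open MonoidalCategory CartesianMonoidalCategory MonObj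

variable {S P : Scheme.{u}} (q : P ⟶ S)

/-- The morphism over `S` corresponding to a morphism over `P` into a base change. -/
noncomputable def bar {T : Over P} {G : Over S} (a : T ⟶ (Over.pullback q).obj G) :
    (Over.map q).obj T ⟶ G :=
  ((Over.mapPullbackAdj q).homEquiv T G).symm a

lemma bar_left {T : Over P} {G : Over S} (a : T ⟶ (Over.pullback q).obj G) :
    (bar q a).left = a.left ≫ pullback.fst G.hom q := rfl

lemma bar_mul {T : Over P} {G : Over S} [GrpObj G] (a b : T ⟶ (Over.pullback q).obj G) :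
    bar q (a * b) = bar q a * bar q b := by
  apply ((Over.mapPullbackAdj q).homEquiv T G).injective
  rw [bar, Equiv.apply_symm_apply, Adjunction.homEquiv_unit, Functor.map_mul, MonObj.comp_mul,
    ← Adjunction.homEquiv_unit, ← Adjunction.homEquiv_unit, bar, bar, Equiv.apply_symm_apply,
    Equiv.apply_symm_apply]

lemma bar_one {T : Over P} {G : Over S} [GrpObj G] :
    bar q (1 : T ⟶ (Over.pullback q).obj G) = 1 := by
  apply ((Over.mapPullbackAdj q).homEquiv T G).injective
  rw [bar, Equiv.apply_symm_apply, Adjunction.homEquiv_unit, Functor.map_one, MonObj.comp_one]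

lemma bar_inv {T : Over P} {G : Over S} [GrpObj G] (a : T ⟶ (Over.pullback q).obj G) :
    bar q (a⁻¹) = (bar q a)⁻¹ := by
  apply ((Over.mapPullbackAdj q).homEquiv T G).injective
  rw [bar, Equiv.apply_symm_apply, Adjunction.homEquiv_unit, Functor.map_inv', GrpObj.comp_inv,
    ← Adjunction.homEquiv_unit, bar, Equiv.apply_symm_apply]

end Bar

section Main

open MonoidalCategory CartesianMonoidalCategory MonObj GrpObj

variable {R : Type u} [CommRing R] [IsDedekindDomain R]
  (G : Over (Spec (CommRingCat.of R))) [GrpObj G]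
  (HK : Over (Spec (CommRingCat.of (FractionRing R)))) [GrpObj HK]
  (i : HK ⟶ Red.bc (Neron.genPt R) G)

/-- The composite `H_K ⟶ G_K ⟶ G`. -/
noncomputable def psi : HK.left ⟶ G.left := i.left ≫ pullback.fst G.hom (Neron.genPt R)

instance [IsClosedImmersion i.left] : QuasiCompact (psi G HK i) := by
  unfold psi; infer_instance

/-- The schematic closure of `H_K` in `G`. -/
noncomputable abbrev clH : Over (Spec (CommRingCat.of R)) :=
  Over.mk ((psi G HK i).imageι ≫ G.hom)

/-- The closed immersion of the schematic closure. -/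
noncomputable abbrev clJ : clH G HK i ⟶ G := Over.homMk (psi G HK i).imageι rfl

/-- `H_K ⟶ H`. -/
noncomputable abbrev clPhi : HK.left ⟶ (clH G HK i).left := (psi G HK i).toImage

lemma clPhi_clJ : clPhi G HK i ≫ (clJ G HK i).left = psi G HK i :=
  (psi G HK i).toImage_imageι

instance : IsClosedImmersion (clJ G HK i).left :=
  inferInstanceAs (IsClosedImmersion (psi G HK i).imageι)

instance : Mono (clJ G HK i) := by
  have : Mono (clJ G HK i).left := inferInstance
  exact Over.mono_of_mono_left _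

variable [IsClosedImmersion i.left]

instance : IsSchemeTheoreticallyDominant (clPhi G HK i) :=
  isSchemeTheoreticallyDominant_toImage _

instance : QuasiCompact (clPhi G HK i) :=
  inferInstanceAs (QuasiCompact (psi G HK i).toImage)

lemma clPhi_hom : clPhi G HK i ≫ (clH G HK i).hom = HK.hom ≫ Neron.genPt R := by
  change (psi G HK i).toImage ≫ (psi G HK i).imageι ≫ G.hom = _
  rw [Scheme.Hom.toImage_imageι_assoc, psi, Category.assoc, pullback.condition,
    ← Category.assoc]
  congr 1
  exact Over.w i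

theorem flat_clH : Flat (clH G HK i).hom :=
  flat_of_dominant_of_over_genPt (clPhi G HK i) _ HK.hom (clPhi_hom G HK i).symm

theorem isPullback_clPhi :
    IsPullback (clPhi G HK i) HK.hom (clH G HK i).hom (Neron.genPt R) := by
  have : Mono (Neron.genPt R) :=
    have := Groth.Agent.Lib.Seat43.GenFibre.isPreimmersion_genPt R
    inferInstance
  have : Flat (Neron.genPt R) := Groth.Agent.Lib.Seat43.GenFibre.flat_genPt R
  exact isPullback_of_dominant (Neron.genPt R) (clPhi G HK i) (psi G HK i).imageι G.hom HK.hom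
    i.left (clPhi_clJ G HK i).symm (Over.w i)

/-- Factorisation through the schematic closure via kernels. -/
lemma exists_lift_of_ker_le {T : Over (Spec (CommRingCat.of R))} (m : T ⟶ G)
    (h : (psi G HK i).ker ≤ m.left.ker) : ∃ z : T ⟶ clH G HK i, z ≫ clJ G HK i = m := by
  have h' : (psi G HK i).imageι.ker ≤ m.left.ker := by
    change (psi G HK i).ker.subschemeι.ker ≤ _
    rwa [Scheme.IdealSheafData.ker_subschemeι]
  refine ⟨Over.homMk (IsClosedImmersion.lift (psi G HK i).imageι m.left h') ?_, ?_⟩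
  · change IsClosedImmersion.lift (psi G HK i).imageι m.left h' ≫ (psi G HK i).imageι ≫ G.hom = _
    rw [IsClosedImmersion.lift_fac_assoc, Over.w m]
  · ext
    exact IsClosedImmersion.lift_fac _ _ _

variable [IsMonHom i]

/-- The unit section factors through the schematic closure. -/
theorem exists_one : ∃ z : 𝟙_ (Over (Spec (CommRingCat.of R))) ⟶ clH G HK i,
    z ≫ clJ G HK i = 1 := by
  apply exists_lift_of_ker_le
  let T : Over (Spec (CommRingCat.of (FractionRing R))) := 𝟙_ _
  have h1 : bar (Neron.genPt R) ((1 : T ⟶ HK) ≫ i) = 1 := by rw [MonObj.one_comp, bar_one]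
  have h2 : (bar (Neron.genPt R) ((1 : T ⟶ HK) ≫ i)).left =
      (1 : T ⟶ HK).left ≫ psi G HK i := by
    rw [bar_left, Over.comp_left, Category.assoc]; rfl
  have h3 : (1 : (Over.map (Neron.genPt R)).obj T ⟶ G) =
      toUnit _ ≫ (1 : 𝟙_ (Over (Spec (CommRingCat.of R))) ⟶ G) := (MonObj.comp_one _).symm
  have h4 : ((Over.map (Neron.genPt R)).obj T).hom ≫
      (1 : 𝟙_ (Over (Spec (CommRingCat.of R))) ⟶ G).left =
      (1 : T ⟶ HK).left ≫ psi G HK i := by
    rw [← h2, h1, h3, Over.comp_left, Over.toUnit_left]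
  have h5 : IsSchemeTheoreticallyDominant ((Over.map (Neron.genPt R)).obj T).hom := by
    refine ⟨?_⟩
    have : ((Over.map (Neron.genPt R)).obj T).hom = Neron.genPt R := by
      simp [T]
    rw [this]
    exact Groth.Agent.Lib.Seat43.GenFibre.ker_genPt R
  calc (psi G HK i).ker ≤ ((1 : T ⟶ HK).left ≫ psi G HK i).ker := ker_le_ker_comp _ _
    _ = (((Over.map (Neron.genPt R)).obj T).hom ≫
        (1 : 𝟙_ (Over (Spec (CommRingCat.of R))) ⟶ G).left).ker := by rw [h4]
    _ = (1 : 𝟙_ (Over (Spec (CommRingCat.of R))) ⟶ G).left.ker := ker_comp_of_dominant _ _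

/-- A point of `H_K` gives a point of `H` over `Spec R`. -/
noncomputable def liftPt {T : Over (Spec (CommRingCat.of (FractionRing R)))} (a : T ⟶ HK) :
    (Over.map (Neron.genPt R)).obj T ⟶ clH G HK i :=
  Over.homMk (a.left ≫ clPhi G HK i) (by
    change (a.left ≫ clPhi G HK i) ≫ (clH G HK i).hom = T.hom ≫ Neron.genPt R
    rw [Category.assoc, clPhi_hom, ← Category.assoc, Over.w a])

lemma liftPt_left {T : Over (Spec (CommRingCat.of (FractionRing R)))} (a : T ⟶ HK) :
    (liftPt G HK i a).left = a.left ≫ clPhi G HK i := rfl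

lemma liftPt_clJ {T : Over (Spec (CommRingCat.of (FractionRing R)))} (a : T ⟶ HK) :
    liftPt G HK i a ≫ clJ G HK i = bar (Neron.genPt R) (a ≫ i) := by
  ext
  rw [Over.comp_left, liftPt_left, Category.assoc, clPhi_clJ, bar_left, Over.comp_left,
    Category.assoc]
  rfl

/-- The inverse factors through the schematic closure. -/
theorem exists_inv : ∃ z : clH G HK i ⟶ clH G HK i, z ≫ clJ G HK i = (clJ G HK i)⁻¹ := by
  apply exists_lift_of_ker_le
  have h1 : liftPt G HK i (𝟙 HK) ≫ (clJ G HK i)⁻¹ =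
      bar (Neron.genPt R) ((𝟙 HK)⁻¹ ≫ i) := by
    rw [GrpObj.comp_inv, liftPt_clJ, ← bar_inv, GrpObj.inv_comp]
  have h2 : clPhi G HK i ≫ ((clJ G HK i)⁻¹).left = ((𝟙 HK)⁻¹ : HK ⟶ HK).left ≫ psi G HK i := by
    have := congrArg (fun m => m.left) h1
    simp only [Over.comp_left, liftPt_left, Over.id_left, Category.id_comp, bar_left,
      Category.assoc] at this
    exact this
  calc (psi G HK i).ker ≤ (((𝟙 HK)⁻¹ : HK ⟶ HK).left ≫ psi G HK i).ker := ker_le_ker_comp _ _
    _ = (clPhi G HK i ≫ ((clJ G HK i)⁻¹).left).ker := by rw [h2]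
    _ = ((clJ G HK i)⁻¹).left.ker := ker_comp_of_dominant _ _

/-- The multiplication factors through the schematic closure. -/
theorem exists_mul : ∃ z : clH G HK i ⊗ clH G HK i ⟶ clH G HK i,
    z ≫ clJ G HK i = (fst (clH G HK i) (clH G HK i) ≫ clJ G HK i) *
      (snd (clH G HK i) (clH G HK i) ≫ clJ G HK i) := by
  apply exists_lift_of_ker_le
  set m₂ := (fst (clH G HK i) (clH G HK i) ≫ clJ G HK i) *
      (snd (clH G HK i) (clH G HK i) ≫ clJ G HK i) with hm₂
  let T : Over (Spec (CommRingCat.of (FractionRing R))) := HK ⊗ HK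
  let a : T ⟶ HK := fst HK HK
  let b : T ⟶ HK := snd HK HK
  let D : (Over.map (Neron.genPt R)).obj T ⟶ clH G HK i ⊗ clH G HK i :=
    lift (liftPt G HK i a) (liftPt G HK i b)
  have h1 : D ≫ m₂ = bar (Neron.genPt R) ((a * b) ≫ i) := by
    rw [hm₂, MonObj.comp_mul, lift_fst_assoc, lift_snd_assoc, liftPt_clJ, liftPt_clJ, ← bar_mul,
      MonObj.mul_comp]
  have h2 : D.left ≫ m₂.left = (a * b).left ≫ psi G HK i := by
    have := congrArg (fun m => m.left) h1
    simp only [Over.comp_left, bar_left, Category.assoc] at this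
    exact this
  have hD : IsSchemeTheoreticallyDominant D.left := by
    have hflat : Flat (clH G HK i).hom := flat_clH G HK i
    have : Flat (Neron.genPt R) := Groth.Agent.Lib.Seat43.GenFibre.flat_genPt R
    have : Mono (Neron.genPt R) :=
      have := Groth.Agent.Lib.Seat43.GenFibre.isPreimmersion_genPt R
      inferInstance
    have : Flat (clPhi G HK i ≫ (clH G HK i).hom) := by rw [clPhi_hom]; infer_instance
    have hD' : D.left = pullback.map HK.hom HK.hom (clH G HK i).hom (clH G HK i).hom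
        (clPhi G HK i) (clPhi G HK i) (Neron.genPt R) (clPhi_hom G HK i).symm
        (clPhi_hom G HK i).symm := by
      apply pullback.hom_ext
      · rw [pullback.lift_fst]
        change (D ≫ fst (clH G HK i) (clH G HK i)).left = _
        rw [lift_fst]; rfl
      · rw [pullback.lift_snd]
        change (D ≫ snd (clH G HK i) (clH G HK i)).left = _
        rw [lift_snd]; rfl
    rw [hD']
    exact dominant_pullback_map _ _ _ _ _ _ _ _ _
  calc (psi G HK i).ker ≤ ((a * b).left ≫ psi G HK i).ker := ker_le_ker_comp _ _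
    _ = (D.left ≫ m₂.left).ker := by rw [h2]
    _ = m₂.left.ker := ker_comp_of_dominant _ _

/-- The subgroup of points of `G` factoring through the schematic closure. -/
noncomputable def ptsSub (X : Over (Spec (CommRingCat.of R))) : Subgroup (X ⟶ G) where
  carrier := {g | ∃ a : X ⟶ clH G HK i, a ≫ clJ G HK i = g}
  mul_mem' := by
    rintro _ _ ⟨a, rfl⟩ ⟨b, rfl⟩
    obtain ⟨z, hz⟩ := exists_mul G HK i
    refine ⟨lift a b ≫ z, ?_⟩
    rw [Category.assoc, hz, MonObj.comp_mul, lift_fst_assoc, lift_snd_assoc]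
  one_mem' := by
    obtain ⟨z, hz⟩ := exists_one G HK i
    exact ⟨toUnit X ≫ z, by rw [Category.assoc, hz, MonObj.comp_one]⟩
  inv_mem' := by
    rintro _ ⟨a, rfl⟩
    obtain ⟨z, hz⟩ := exists_inv G HK i
    exact ⟨a ≫ z, by rw [Category.assoc, hz, GrpObj.comp_inv]⟩

/-- The schematic closure in `G` of a closed `K`-subgroup of the generic fibre is a flat closed
`R`-subgroup scheme of `G` with generic fibre `H_K`. -/
theorem exists_closure :
    ∃ (H : Over (Spec (CommRingCat.of R))) (_ : GrpObj H) (j : H ⟶ G) (φ : HK.left ⟶ H.left),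
      IsMonHom j ∧ IsClosedImmersion j.left ∧ Flat H.hom ∧
      IsPullback φ HK.hom H.hom (Neron.genPt R) ∧
      φ ≫ j.left = i.left ≫ pullback.fst G.hom (Neron.genPt R) ∧
      φ.ker = ⊥ :=
  ⟨clH G HK i,
    Groth.Agent.Lib.Seat87.GrpLim.subGrpObj (clJ G HK i) (ptsSub G HK i) (fun _ _ => Iff.rfl),
    clJ G HK i, clPhi G HK i,
    Groth.Agent.Lib.Seat87.GrpLim.isMonHom_sub (clJ G HK i) (ptsSub G HK i) (fun _ _ => Iff.rfl),
    inferInstance, flat_clH G HK i, isPullback_clPhi G HK i, clPhi_clJ G HK i,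
    (clPhi G HK i).ker_eq_bot⟩

end Main

end Groth.Agent.Lib.Seat74.SchClosure
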