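import Mathlib
import Groth.Prelude.Def_AlgSpSub
import Groth.Agent.S3843

/-!
# Seat74: schematic density of an open subspace of an algebraic space can be read on every étale chart

* `dense_of_flat_surjective`: schematic density of an open descends along a flat surjective morphism of schemes;
* `dense_inf`: the intersection of two schematically dense opens is schematically dense;
* `exists_isPullback_preimage`: the inverse image of an open of a chart representing `j` along a morphism of charts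
  represents `j` on the new chart;
* `le_of_isPullback`: two opens of a chart representing the same open subspace agree;
* `dense_chart`: `AlgSp.IsSchDense j` implies density of the inverse image on EVERY étale chart.
-/

set_option autoImplicit false
universe u

open CategoryTheory CategoryTheory.Limits AlgebraicGeometry AlgSp

namespace Groth.Agent.Lib.Seat74.SchDenseChart

section Sch

lemma stalkMap_injective {X Y : Scheme.{u}} (f : X ⟶ Y) [Flat f] (x : X) :
    Function.Injective (f.stalkMap x).hom := by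
  algebraize [(f.stalkMap x).hom]
  have : Module.FaithfullyFlat (Y.presheaf.stalk (f x)) (X.presheaf.stalk x) :=
    @Module.FaithfullyFlat.of_flat_of_isLocalHom _ _ _ _ _ _ _
      (Flat.stalkMap f x) (f.toLRSHom.prop x)
  exact ‹RingHom.FaithfullyFlat _›.injective

/-- A flat surjective morphism is injective on sections over every open. -/
lemma app_injective_of_flat_surjective {X Y : Scheme.{u}} (g : X ⟶ Y) [Flat g] [Surjective g]
    (U : Y.Opens) : Function.Injective (g.app U).hom := by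
  rw [injective_iff_map_eq_zero]
  intro x hx
  apply TopCat.Presheaf.section_ext Y.sheaf U x 0
  intro w hw
  change Y.presheaf.germ U w hw x = Y.presheaf.germ U w hw 0
  rw [map_zero]
  obtain ⟨y, rfl⟩ := ‹Surjective g›.surj w
  apply stalkMap_injective g y
  rw [map_zero]
  erw [Scheme.Hom.germ_stalkMap_apply g U y hw x]
  erw [hx, map_zero]

/-- Schematic density of an open descends along a flat surjective morphism. -/
theorem dense_of_flat_surjective {X Y : Scheme.{u}} (g : X ⟶ Y) [Flat g] [Surjective g]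
    (W : Y.Opens) (h : CInt.IsSchematicallyDense (g ⁻¹ᵁ W)) : CInt.IsSchematicallyDense W := by
  intro O
  rw [injective_iff_map_eq_zero]
  intro t ht
  apply app_injective_of_flat_surjective g O
  rw [map_zero]
  apply h (g ⁻¹ᵁ O)
  rw [map_zero]
  have hnat := congr($(g.naturality (homOfLE (inf_le_left : O ⊓ W ≤ O)).op) t)
  have h2 : (X.presheaf.map (homOfLE (inf_le_left : g ⁻¹ᵁ O ⊓ g ⁻¹ᵁ W ≤ g ⁻¹ᵁ O)).op)
      ((g.app O) t) = (g.app (O ⊓ W)) ((Y.presheaf.map (homOfLE (inf_le_left : O ⊓ W ≤ O)).op) t) :=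
    hnat.symm
  rw [h2, ht]
  exact map_zero _

/-- The intersection of two schematically dense opens is schematically dense. -/
theorem dense_inf {X : Scheme.{u}} (W₁ W₂ : X.Opens) (h₁ : CInt.IsSchematicallyDense W₁)
    (h₂ : CInt.IsSchematicallyDense W₂) : CInt.IsSchematicallyDense (W₁ ⊓ W₂) := by
  intro O
  have e : X.presheaf.map (homOfLE (inf_le_left : O ⊓ (W₁ ⊓ W₂) ≤ O)).op =
      X.presheaf.map (homOfLE (inf_le_left : O ⊓ W₁ ≤ O)).op ≫
        X.presheaf.map (homOfLE (inf_le_left : (O ⊓ W₁) ⊓ W₂ ≤ O ⊓ W₁)).op ≫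
          X.presheaf.map (eqToHom (inf_assoc O W₁ W₂).symm).op := by
    rw [← Functor.map_comp, ← Functor.map_comp]; rfl
  rw [e]
  have h3 : Function.Injective (X.presheaf.map (eqToHom (inf_assoc O W₁ W₂).symm).op) :=
    (ConcreteCategory.bijective_of_isIso _).1
  simp only [CommRingCat.hom_comp, RingHom.coe_comp]
  exact h3.comp ((h₂ (O ⊓ W₁)).comp (h₁ O))

end Sch

section Sp

variable {S : Scheme.{u}}

/-- The object of `Over S` attached to an open of a chart. -/
abbrev opn (V : Over S) (W : V.left.Opens) : Over S := Over.mk (W.ι ≫ V.hom)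

/-- The inclusion of an open of a chart, over `S`. -/
abbrev opnι (V : Over S) (W : V.left.Opens) : opn V W ⟶ V := Over.homMk W.ι rfl

/-- The inverse image of an open of a chart representing `j`, along a morphism of charts, represents `j`. -/
theorem exists_isPullback_preimage {F G : AlgSp.Sp S} (j : G ⟶ F) {V₁ V₂ : Over S} (k : V₂ ⟶ V₁)
    (φ₁ : (AlgSp.yon S).obj V₁ ⟶ F) (W₁ : V₁.left.Opens)
    (fst₁ : (AlgSp.yon S).obj (opn V₁ W₁) ⟶ G)
    (sq₁ : IsPullback fst₁ ((AlgSp.yon S).map (opnι V₁ W₁)) j φ₁) :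
    ∃ fst₂ : (AlgSp.yon S).obj (opn V₂ (k.left ⁻¹ᵁ W₁)) ⟶ G,
      IsPullback fst₂ ((AlgSp.yon S).map (opnι V₂ (k.left ⁻¹ᵁ W₁))) j ((AlgSp.yon S).map k ≫ φ₁) := by
  have hk'w : (k.left ∣_ W₁) ≫ W₁.ι ≫ V₁.hom = (k.left ⁻¹ᵁ W₁).ι ≫ V₂.hom := by
    rw [← Category.assoc, morphismRestrict_ι, Category.assoc, Over.w k]
  let k' : opn V₂ (k.left ⁻¹ᵁ W₁) ⟶ opn V₁ W₁ := Over.homMk (k.left ∣_ W₁) hk'w
  have hOver : IsPullback k' (opnι V₂ (k.left ⁻¹ᵁ W₁)) (opnι V₁ W₁) k := by
    refine IsPullback.of_map (Over.forget S) ?_ ?_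
    · apply Over.OverMorphism.ext
      simp only [Over.comp_left, Over.homMk_left, k']
      exact morphismRestrict_ι k.left W₁
    · exact isPullback_morphismRestrict k.left W₁
  exact ⟨_, (hOver.map (AlgSp.yon S)).paste_horiz sq₁⟩

/-- Two opens of a chart representing the same subsheaf: one inclusion. -/
theorem le_of_isPullback {F G : AlgSp.Sp S} (j : G ⟶ F) {V : Over S}
    (ψ : (AlgSp.yon S).obj V ⟶ F) (O O' : V.left.Opens)
    (fst : (AlgSp.yon S).obj (opn V O) ⟶ G) (fst' : (AlgSp.yon S).obj (opn V O') ⟶ G)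
    (sq : IsPullback fst ((AlgSp.yon S).map (opnι V O)) j ψ)
    (sq' : IsPullback fst' ((AlgSp.yon S).map (opnι V O')) j ψ) : O ≤ O' := by
  obtain ⟨ε, hε⟩ := (AlgSp.yon S).map_surjective
    (sq'.lift fst ((AlgSp.yon S).map (opnι V O)) sq.w)
  have h1 : ε ≫ opnι V O' = opnι V O := by
    apply (AlgSp.yon S).map_injective
    rw [Functor.map_comp, hε, IsPullback.lift_snd]
  have h2 : ε.left ≫ O'.ι = O.ι := congrArg (fun m => m.left) h1
  intro x hx
  have h3 : O'.ι (ε.left ⟨x, hx⟩) = O.ι ⟨x, hx⟩ := by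
    rw [← h2]; rfl
  have h4 : (O.ι ⟨x, hx⟩ : V.left) = x := rfl
  rw [← h4, ← h3]
  exact (ε.left ⟨x, hx⟩).2

/-- **Chart independence of schematic density**: if `j` is a scheme theoretically dense open subspace (on SOME étale
surjective chart) then its inverse image on EVERY étale chart is schematically dense. -/
theorem dense_chart {F G : AlgSp.Sp S} (j : G ⟶ F) (hj : AlgSp.IsSchDense j) (V : Over S)
    (φ : (AlgSp.yon S).obj V ⟶ F) (hφ : AlgSp.RepWith @Etale φ) (W : V.left.Opens)
    (fst : (AlgSp.yon S).obj (opn V W) ⟶ G)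
    (sq : IsPullback fst ((AlgSp.yon S).map (opnι V W)) j φ) : CInt.IsSchematicallyDense W := by
  obtain ⟨-, V₁, φ₁, W₁, fst₁, hφe, hφs, sq₁, hdense⟩ := hj
  obtain ⟨V₂, p, pr, sqP⟩ := hφe.1 φ
  have : Etale p.left := hφe.2 φ pr p sqP
  have : Surjective p.left := hφs.2 φ pr p sqP
  obtain ⟨q, rfl⟩ := (AlgSp.yon S).map_surjective pr
  have : Etale q.left := hφ.2 φ₁ ((AlgSp.yon S).map p) q sqP.flip
  obtain ⟨f₁, h₁⟩ := exists_isPullback_preimage j q φ₁ W₁ fst₁ sq₁
  obtain ⟨f₂, h₂⟩ := exists_isPullback_preimage j p φ W fst sq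
  rw [sqP.w] at h₁
  have heq : q.left ⁻¹ᵁ W₁ = p.left ⁻¹ᵁ W :=
    le_antisymm (le_of_isPullback j _ _ _ f₁ f₂ h₁ h₂) (le_of_isPullback j _ _ _ f₂ f₁ h₂ h₁)
  have hd : CInt.IsSchematicallyDense (q.left ⁻¹ᵁ W₁) := Groth.Agent.S3843.result q.left W₁ hdense
  rw [heq] at hd
  exact dense_of_flat_surjective p.left W hd

end Sp

end Groth.Agent.Lib.Seat74.SchDenseChart
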