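import Groth.Agent.Lib.Helper20PerfSch
import Groth.Agent.Lib.Helper20UHStep
import Groth.Agent.Lib.Helper11SN
import Groth.Agent.Lib.Helper20ResFld
import Groth.Agent.Lib.Helper14FtPts
import Groth.Agent.S7420
import Groth.Agent.S0416

/-!
# Seminormal schemes and universal homeomorphisms with trivial residue field extensions (helper74)

Main result `isIso_of_isUnivHomeo_of_residueFieldsIso`: a universal homeomorphism `f : W ⟶ V`
inducing isomorphisms on all residue fields, with `V` seminormal and `W` reduced, is an isomorphism.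
-/

universe u

namespace Groth.Agent.Lib.Seat74.SemiNorm

open AlgebraicGeometry CategoryTheory Limits HTop
open Groth.Agent.Lib.Helper20.AWN Groth.Agent.Lib.Helper20.EtaPt

/-! ### Ring level -/

/-- A ring map out of a seminormal ring into a reduced ring, whose `Spec` is a universal
homeomorphism with trivial residue field extensions, is bijective. -/
theorem bijective_of_UH_of_residue {A B : Type u} [CommRing A] [CommRing B] (φ : A →+* B)
    (hUH : UH φ)
    (hres : ∀ Q : PrimeSpectrum B, Function.Surjective (Ideal.ResidueField.map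
      (PrimeSpectrum.comap φ Q).asIdeal Q.asIdeal φ rfl))
    (hA : IsSeminormalRing A) [IsReduced B] : Function.Bijective φ := by
  have : IsReduced A := Groth.Agent.Lib.Helper11.isReduced_of_isSeminormalRing hA
  have hinj : Function.Injective φ := by
    rw [injective_iff_map_eq_zero]
    intro a ha
    have h1 : a ∈ nilradical A := UH.ker_le_nilradical φ hUH (RingHom.mem_ker.mpr ha)
    rw [nilradical_eq_zero] at h1
    exact h1
  refine ⟨hinj, ?_⟩
  let _ : Algebra A B := φ.toAlgebra
  have hφ : algebraMap A B = φ := rfl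
  let T : Subalgebra A B := ⊥
  have hcomp : (algebraMap T B).comp (algebraMap A T) = φ := by
    ext a; rfl
  have hTint : (algebraMap T B).IsIntegral := by
    intro b
    exact (show IsIntegral A b from hUH.1 b).tower_top
  have hUHT : UH (algebraMap T B) :=
    UH_of_comp_right (algebraMap A T) (algebraMap T B) Subtype.val_injective hTint
      (by rw [hcomp]; exact hUH)
  have hresT : ∀ Q : PrimeSpectrum B, Function.Surjective (Ideal.ResidueField.map
      (PrimeSpectrum.comap (algebraMap T B) Q).asIdeal Q.asIdeal (algebraMap T B) rfl) := by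
    intro Q z
    obtain ⟨y, hy⟩ := hres Q z
    have h1 : (PrimeSpectrum.comap φ Q).asIdeal =
        Ideal.comap (algebraMap A T) (PrimeSpectrum.comap (algebraMap T B) Q).asIdeal := by
      show Ideal.comap φ Q.asIdeal = Ideal.comap _ (Ideal.comap _ Q.asIdeal)
      rw [Ideal.comap_comap, hcomp]
    have h3 : (PrimeSpectrum.comap φ Q).asIdeal =
        Ideal.comap ((algebraMap T B).comp (algebraMap A T)) Q.asIdeal := by
      rw [hcomp]; rfl
    have hc := residueField_map_comp
      (PrimeSpectrum.comap φ Q).asIdeal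
      (PrimeSpectrum.comap (algebraMap T B) Q).asIdeal Q.asIdeal
      (algebraMap A T) (algebraMap T B) h1 rfl h3
    refine ⟨Ideal.ResidueField.map _ _ (algebraMap A T) h1 y, ?_⟩
    rw [← hy]
    have := RingHom.congr_fun hc y
    simp only [RingHom.comp_apply] at this
    rw [← this]
    congr 1
  have hT : T = ⊤ := by
    apply eq_top_of_closed_of_residue T hUHT hresT
    intro b h2 h3
    obtain ⟨x, hx⟩ := Algebra.mem_bot.mp h2
    obtain ⟨y, hy⟩ := Algebra.mem_bot.mp h3
    have hxy : x ^ 3 = y ^ 2 := by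
      apply hinj
      rw [map_pow, map_pow, ← hφ, hx, hy]; ring
    obtain ⟨a, ⟨ha2, ha3⟩, -⟩ := hA x y hxy
    have : φ a = b := by
      apply Groth.Agent.Lib.Helper11.eq_of_sq_eq_of_cube_eq
      · rw [← map_pow, ← ha2, ← hφ, hx]
      · rw [← map_pow, ← ha3, ← hφ, hy]
    exact Algebra.mem_bot.mpr ⟨a, this⟩
  intro b
  have hb : b ∈ T := by rw [hT]; trivial
  exact Algebra.mem_bot.mp hb

/-! ### Residue field isomorphisms -/

theorem rfi_comp {X Y Z : Scheme.{u}} {f : X ⟶ Y} {g : Y ⟶ Z} (hf : ResidueFieldsIso f)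
    (hg : ResidueFieldsIso g) : ResidueFieldsIso (f ≫ g) := by
  intro x
  rw [Scheme.residueFieldMap_comp]
  exact @IsIso.comp_isIso _ _ _ _ _ _ _ (hg (f x)) (hf x)

theorem rfi_of_comp {X Y Z : Scheme.{u}} {f : X ⟶ Y} {g : Y ⟶ Z}
    (hfg : ResidueFieldsIso (f ≫ g)) (hg : ResidueFieldsIso g) : ResidueFieldsIso f := by
  intro x
  have h := hfg x
  rw [Scheme.residueFieldMap_comp] at h
  exact @IsIso.of_isIso_comp_left _ _ _ _ _ (g.residueFieldMap (f x)) (f.residueFieldMap x)
    (hg (f x)) h

theorem rfi_of_surjectiveOnStalks {X Y : Scheme.{u}} (f : X ⟶ Y) [SurjectiveOnStalks f] :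
    ResidueFieldsIso f :=
  fun x => Groth.Agent.Lib.Helper14.isIso_residueFieldMap_of_surjectiveOnStalks f x

theorem rfi_of_isOpenImmersion {X Y : Scheme.{u}} (f : X ⟶ Y) [IsOpenImmersion f] :
    ResidueFieldsIso f :=
  fun _ => inferInstance

theorem rfi_pullback_fst {X Y S : Scheme.{u}} (f : X ⟶ S) (g : Y ⟶ S) (hg : ResidueFieldsIso g) :
    ResidueFieldsIso (pullback.fst f g) := by
  intro w
  rw [ConcreteCategory.isIso_iff_bijective]
  apply Groth.Agent.Lib.Helper20.ResFld.bijective_fst_residueFieldMap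
  exact (ConcreteCategory.isIso_iff_bijective _).mp (hg _)

theorem rfi_of_isPullback {P X Y S : Scheme.{u}} {fst : P ⟶ X} {snd : P ⟶ Y} {f : X ⟶ S}
    {g : Y ⟶ S} (h : IsPullback fst snd f g) (hg : ResidueFieldsIso g) : ResidueFieldsIso fst := by
  have : fst = h.isoPullback.hom ≫ pullback.fst f g := by simp
  rw [this]
  exact rfi_comp (rfi_of_isOpenImmersion _) (rfi_pullback_fst f g hg)

theorem rfi_morphismRestrict {X Y : Scheme.{u}} (f : X ⟶ Y) (hf : ResidueFieldsIso f)
    (U : Y.Opens) : ResidueFieldsIso (f ∣_ U) := by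
  apply rfi_of_comp (g := U.ι) _ (rfi_of_isOpenImmersion _)
  rw [morphismRestrict_ι]
  exact rfi_comp (rfi_of_isOpenImmersion _) hf

theorem rfi_SpecMap_app {X Y : Scheme.{u}} (f : X ⟶ Y) (hf : ResidueFieldsIso f)
    (U : Y.Opens) (hU : IsAffineOpen U) (hV : IsAffineOpen (f ⁻¹ᵁ U)) :
    ResidueFieldsIso (Spec.map (f.app U)) := by
  have e : hV.isoSpec.hom ≫ Spec.map (f.app U) = (f ∣_ U) ≫ hU.isoSpec.hom := by
    simp only [IsAffineOpen.isoSpec_hom]
    exact Scheme.Opens.toSpecΓ_naturality f U
  have e' : Spec.map (f.app U) = hV.isoSpec.inv ≫ (f ∣_ U) ≫ hU.isoSpec.hom := by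
    rw [← e, Iso.inv_hom_id_assoc]
  rw [e']
  exact rfi_comp (rfi_of_isOpenImmersion _)
    (rfi_comp (rfi_morphismRestrict f hf U) (rfi_of_isOpenImmersion _))

/-! ### Universal homeomorphisms -/

theorem isUnivHomeo_comp {X Y Z : Scheme.{u}} {f : X ⟶ Y} {g : Y ⟶ Z}
    (hf : FlatMor.IsUnivHomeo f) (hg : FlatMor.IsUnivHomeo g) : FlatMor.IsUnivHomeo (f ≫ g) := by
  obtain ⟨h1, h2, h3⟩ := (Groth.Agent.S0415.result f).mp hf
  obtain ⟨h1', h2', h3'⟩ := (Groth.Agent.S0415.result g).mp hg
  exact (Groth.Agent.S0415.result (f ≫ g)).mpr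
    ⟨inferInstance, MorphismProperty.comp_mem _ f g h2 h2', inferInstance⟩

theorem isUnivHomeo_of_isPullback {P X Y S : Scheme.{u}} {fst : P ⟶ X} {snd : P ⟶ Y} {f : X ⟶ S}
    {g : Y ⟶ S} (h : IsPullback fst snd f g) (hg : FlatMor.IsUnivHomeo g) :
    FlatMor.IsUnivHomeo fst := by
  unfold FlatMor.IsUnivHomeo at hg ⊢
  exact MorphismProperty.of_isPullback h.flip hg

theorem isUnivHomeo_morphismRestrict {X Y : Scheme.{u}} (f : X ⟶ Y) (hf : FlatMor.IsUnivHomeo f)
    (U : Y.Opens) : FlatMor.IsUnivHomeo (f ∣_ U) :=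
  isUnivHomeo_of_isPullback (isPullback_morphismRestrict f U) hf

theorem isUnivHomeo_of_isIso {X Y : Scheme.{u}} (f : X ⟶ Y) [IsIso f] : FlatMor.IsUnivHomeo f :=
  (Groth.Agent.S0415.result f).mpr ⟨inferInstance, inferInstance, inferInstance⟩

/-! ### The main proposition -/

/-- A universal homeomorphism with trivial residue field extensions from a reduced scheme to a
seminormal scheme is an isomorphism. -/
theorem isIso_of_isUnivHomeo_of_residueFieldsIso {W V : Scheme.{u}} (f : W ⟶ V)
    (hf : FlatMor.IsUnivHomeo f) (hres : ResidueFieldsIso f)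
    (hV : ∀ U : V.affineOpens, IsSeminormalRing Γ(V, U)) [IsReduced W] : IsIso f := by
  obtain ⟨hint, hinj, hsurj⟩ := (Groth.Agent.S0415.result f).mp hf
  have : IsAffineHom f := inferInstance
  rw [← MorphismProperty.isomorphisms.iff]
  apply IsZariskiLocalAtTarget.of_forall_exists_morphismRestrict
  intro y
  obtain ⟨_, ⟨U, hU, rfl⟩, hyU, -⟩ :=
    V.isBasis_affineOpens.exists_subset_of_mem_open (Set.mem_univ y) isOpen_univ
  refine ⟨U, hyU, ?_⟩
  rw [MorphismProperty.isomorphisms.iff, isIso_morphismRestrict_iff_isIso_app f hU]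
  have hUH : UH (f.app U).hom := by
    have := Groth.Agent.Lib.Helper20.PerfSch.isUnivHomeo_SpecMap_app f hf U hU
    rwa [← isUnivHomeo_iff_UH]
  have hSN : IsSeminormalRing Γ(V, U) := hV ⟨U, hU⟩
  have hrfi : ResidueFieldsIso (Spec.map (f.app U)) :=
    rfi_SpecMap_app f hres U hU (hU.preimage f)
  have hb := bijective_of_UH_of_residue (f.app U).hom hUH
    (fun Q => ((isIso_residueFieldMap_iff (f.app U) Q).mp (hrfi Q)).2) hSN
  exact (ConcreteCategory.isIso_iff_bijective (f.app U)).mpr hb

theorem isIso_of_isUnivHomeo_of_residueFieldsIso' {W V : Scheme.{u}} (f : W ⟶ V)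
    (hf : FlatMor.IsUnivHomeo f) (hres : ResidueFieldsIso f)
    (hV : IsSeminormal V) [IsReduced W] : IsIso f :=
  isIso_of_isUnivHomeo_of_residueFieldsIso f hf hres ((Groth.Agent.S7420.result V).1.mp hV)

/-! ### Reduction -/

/-- The reduction of a scheme. -/
noncomputable def red (X : Scheme.{u}) : Scheme.{u} := X.nilradical.subscheme

/-- The closed immersion of the reduction. -/
noncomputable def redι (X : Scheme.{u}) : red X ⟶ X := X.nilradical.subschemeι

instance (X : Scheme.{u}) : IsClosedImmersion (redι X) :=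
  inferInstanceAs (IsClosedImmersion X.nilradical.subschemeι)

instance (X : Scheme.{u}) : Surjective (redι X) := by
  constructor
  rw [← Set.range_eq_univ]
  show Set.range X.nilradical.subschemeι = Set.univ
  rw [Scheme.IdealSheafData.range_subschemeι, Scheme.support_nilradical]
  rfl

instance (X : Scheme.{u}) : IsReduced (red X) := by
  have : ∀ U, IsReduced ((X.nilradical.subschemeCover.openCover).X U) := by
    intro (U : X.affineOpens)
    show IsReduced (Spec (.of (Γ(X, U.1) ⧸ X.nilradical.ideal U)))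
    have : _root_.IsReduced (Γ(X, U) ⧸ X.nilradical.ideal U) := by
      rw [← Ideal.isRadical_iff_quotient_reduced]
      show ((⊥ : Scheme.IdealSheafData X).radical.ideal U).IsRadical
      rw [Scheme.IdealSheafData.radical_ideal]
      exact Ideal.radical_isRadical _
    infer_instance
  exact IsReduced.of_openCover (X := red X) (X.nilradical.subschemeCover.openCover)

theorem isUnivHomeo_redι (X : Scheme.{u}) : FlatMor.IsUnivHomeo (redι X) :=
  (Groth.Agent.S0415.result (redι X)).mpr ⟨inferInstance, inferInstance, inferInstance⟩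

theorem rfi_redι (X : Scheme.{u}) : ResidueFieldsIso (redι X) :=
  rfi_of_surjectiveOnStalks _

/-- Key consequence: if `f : W ⟶ V` is a universal homeomorphism with trivial residue field
extensions and `V` has seminormal affine opens, then `f` has a section. -/
theorem exists_section {W V : Scheme.{u}} (f : W ⟶ V)
    (hf : FlatMor.IsUnivHomeo f) (hres : ResidueFieldsIso f)
    (hV : ∀ U : V.affineOpens, IsSeminormalRing Γ(V, U)) : ∃ s : V ⟶ W, s ≫ f = 𝟙 V := by
  have : IsIso (redι W ≫ f) :=
    isIso_of_isUnivHomeo_of_residueFieldsIso (redι W ≫ f)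
      (isUnivHomeo_comp (isUnivHomeo_redι W) hf) (rfi_comp (rfi_redι W) hres) hV
  exact ⟨inv (redι W ≫ f) ≫ redι W, by rw [Category.assoc, IsIso.inv_hom_id]⟩

end Groth.Agent.Lib.Seat74.SemiNorm
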