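import Groth.Agent.Lib.Seat74SemiNorm
import Groth.Agent.S7421
universe u
open AlgebraicGeometry CategoryTheory Limits HTop
namespace Groth.Agent.Lib.Seat74.SemiNorm

theorem isSeminormalRing_of_ringEquiv {A B : Type u} [CommRing A] [CommRing B] (e : A ≃+* B)
    (hA : IsSeminormalRing A) : IsSeminormalRing B := by
  intro x y hxy
  obtain ⟨a, ⟨h2, h3⟩, huniq⟩ := hA (e.symm x) (e.symm y) (by rw [← map_pow, ← map_pow, hxy])
  refine ⟨e a, ⟨?_, ?_⟩, ?_⟩
  · rw [← map_pow, ← h2, e.apply_symm_apply]
  · rw [← map_pow, ← h3, e.apply_symm_apply]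
  · rintro b ⟨hb2, hb3⟩
    have := huniq (e.symm b) ⟨by rw [← map_pow, ← hb2], by rw [← map_pow, ← hb3]⟩
    rw [← this, e.apply_symm_apply]

/-- Affine opens of an open subscheme (more generally, of the source of an open immersion into a
seminormal scheme) have seminormal rings of sections. -/
theorem isSeminormalRing_of_isOpenImmersion {Y X : Scheme.{u}} (f : Y ⟶ X) [IsOpenImmersion f]
    (hX : IsSeminormal X) (V : Y.affineOpens) : IsSeminormalRing Γ(Y, V) := by
  have hV : IsAffineOpen (f ''ᵁ V.1) := V.2.image_of_isOpenImmersion f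
  have h1 : IsSeminormalRing Γ(X, f ''ᵁ V.1) := ((Groth.Agent.S7420.result X).1.mp hX) ⟨_, hV⟩
  exact isSeminormalRing_of_ringEquiv (f.appIso V.1).commRingCatIsoToRingEquiv h1

theorem isSeminormal_of_isOpenImmersion {Y X : Scheme.{u}} (f : Y ⟶ X) [IsOpenImmersion f]
    (hX : IsSeminormal X) : IsSeminormal Y :=
  (Groth.Agent.S7420.result Y).1.mpr (isSeminormalRing_of_isOpenImmersion f hX)

/-- Two morphisms from a reduced scheme which agree after composing with a separated universally
injective morphism are equal. -/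
theorem eq_of_comp_eq {X Y Z : Scheme.{u}} [IsReduced X] (h₁ h₂ : X ⟶ Y) (π : Y ⟶ Z)
    [IsSeparated π] [UniversallyInjective π] (h : h₁ ≫ π = h₂ ≫ π) : h₁ = h₂ := by
  refine ext_of_fromSpecResidueField_eq h₁ h₂ π Set.univ dense_univ (fun x _ => ?_) h
  have key : ∀ (K : Type u) [Field K], Function.Injective (fun g : Spec (.of K) ⟶ Y ↦ g ≫ π) :=
    ((tfae_universallyInjective π).out 0 1).mp ‹_›
  apply key (X.residueField x)
  simp only [Category.assoc, h]

/-- A universal homeomorphism with trivial residue field extensions whose source is seminormal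
is a seminormalization. -/
theorem isSeminormalization_of_isSeminormal {X' X : Scheme.{u}} (ν : X' ⟶ X)
    (hUH : FlatMor.IsUnivHomeo ν) (hRFI : ResidueFieldsIso ν) (hX' : IsSeminormal X') :
    IsSeminormalization ν := by
  refine ⟨⟨hUH, hRFI⟩, fun Y π hπ hπ' => ?_⟩
  have : IsReduced X' := (Groth.Agent.S7421.result).2 X' hX'
  obtain ⟨hint, hinj, hsurj⟩ := (Groth.Agent.S0415.result π).mp hπ
  obtain ⟨s, hs⟩ := exists_section (pullback.fst ν π)
    (isUnivHomeo_of_isPullback (IsPullback.of_hasPullback ν π) hπ)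
    (rfi_pullback_fst ν π hπ') ((Groth.Agent.S7420.result X').1.mp hX')
  refine ⟨s ≫ pullback.snd ν π, ?_, fun h hh => ?_⟩
  · show (s ≫ pullback.snd ν π) ≫ π = ν
    rw [Category.assoc, ← pullback.condition, ← Category.assoc, hs, Category.id_comp]
  · apply eq_of_comp_eq _ _ π
    rw [hh, Category.assoc, ← pullback.condition, ← Category.assoc, hs, Category.id_comp]

end Groth.Agent.Lib.Seat74.SemiNorm
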