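import Groth.Agent.Lib.Seat74SemiNorm2
import Groth.Agent.S15941
import Groth.Prelude.Def_Pi1
universe u
open AlgebraicGeometry CategoryTheory Limits HTop
namespace Groth.Agent.Lib.Seat74.SemiNorm

/-- A reduced ring all of whose localizations at primes are seminormal is seminormal. -/
theorem isSeminormalRing_of_forall_atPrime {A : Type u} [CommRing A] [IsReduced A]
    (h : ∀ p : PrimeSpectrum A, ∃ (B : Type u) (_ : CommRing B) (_ : Algebra A B),
      IsLocalization.AtPrime B p.asIdeal ∧ IsSeminormalRing B) : IsSeminormalRing A := by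
  classical
  refine Groth.Agent.Lib.Helper11.isSeminormalRing_iff.mpr ⟨inferInstance, fun x y hxy => ?_⟩
  -- local solutions in normalized form
  have hloc : ∀ p : PrimeSpectrum A, ∃ f : A, f ∉ p.asIdeal ∧
      ∃ c : A, c ^ 2 = x * f ^ 2 ∧ c ^ 3 = y * f ^ 3 := by
    intro p
    obtain ⟨B, _, _, hB, hSN⟩ := h p
    obtain ⟨a, ⟨h2, h3⟩, -⟩ := hSN (algebraMap A B x) (algebraMap A B y)
      (by rw [← map_pow, ← map_pow, hxy])
    obtain ⟨b, s, rfl⟩ := IsLocalization.exists_mk'_eq p.asIdeal.primeCompl a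
    have e2 : algebraMap A B (x * (s : A) ^ 2) = algebraMap A B (b ^ 2) := by
      rw [map_mul, map_pow, map_pow, h2, ← mul_pow, IsLocalization.mk'_spec]
    have e3 : algebraMap A B (y * (s : A) ^ 3) = algebraMap A B (b ^ 3) := by
      rw [map_mul, map_pow, map_pow, h3, ← mul_pow, IsLocalization.mk'_spec]
    obtain ⟨t2, ht2⟩ := (IsLocalization.eq_iff_exists p.asIdeal.primeCompl B).mp e2
    obtain ⟨t3, ht3⟩ := (IsLocalization.eq_iff_exists p.asIdeal.primeCompl B).mp e3
    refine ⟨(s : A) * ((t2 : A) * (t3 : A)), ?_, b * ((t2 : A) * (t3 : A)), ?_, ?_⟩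
    · exact (s * (t2 * t3)).2
    · linear_combination (-(t2 : A) * (t3 : A) ^ 2) * ht2
    · linear_combination (-(t2 : A) ^ 3 * (t3 : A) ^ 2) * ht3
  -- the set of good denominators spans the unit ideal
  let F : Set A := {f | ∃ c : A, c ^ 2 = x * f ^ 2 ∧ c ^ 3 = y * f ^ 3}
  have hF : Ideal.span F = ⊤ := by
    by_contra hne
    obtain ⟨m, hm, hle⟩ := Ideal.exists_le_maximal _ hne
    obtain ⟨f, hf, c, hc⟩ := hloc ⟨m, hm.isPrime⟩
    exact hf (hle (Ideal.subset_span ⟨c, hc⟩))
  obtain ⟨s, hsF, hs⟩ := (Ideal.span_eq_top_iff_finite F).mp hF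
  have hex : ∀ f : A, ∃ c : A, f ∈ s → c ^ 2 = x * f ^ 2 ∧ c ^ 3 = y * f ^ 3 := by
    intro f
    by_cases hf : f ∈ s
    · obtain ⟨c, hc⟩ := hsF hf
      exact ⟨c, fun _ => hc⟩
    · exact ⟨0, fun h => absurd h hf⟩
  choose c hc using hex
  have compat : ∀ f ∈ s, ∀ g ∈ s, c f * g ^ 1 = c g * f ^ 1 := by
    intro f hf g hg
    obtain ⟨hf2, hf3⟩ := hc f hf
    obtain ⟨hg2, hg3⟩ := hc g hg
    apply Groth.Agent.Lib.Helper11.eq_of_sq_eq_of_cube_eq
    · rw [mul_pow, mul_pow, hf2, hg2]; ring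
    · rw [mul_pow, mul_pow, hf3, hg3]; ring
  obtain ⟨a, ha⟩ := Groth.Agent.Lib.Helper11.exists_glue s hs 1 c compat
  refine ⟨a, ?_, ?_⟩
  · have : x - a ^ 2 = 0 := by
      apply Groth.Agent.Lib.Helper11.eq_zero_of_span_pow_mul s hs
      intro f hf
      refine ⟨2, ?_⟩
      have h1 := ha f hf
      rw [pow_one] at h1
      calc f ^ 2 * (x - a ^ 2) = x * f ^ 2 - (f * a) ^ 2 := by ring
        _ = 0 := by rw [h1, (hc f hf).1, sub_self]
    exact sub_eq_zero.mp this
  · have : y - a ^ 3 = 0 := by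
      apply Groth.Agent.Lib.Helper11.eq_zero_of_span_pow_mul s hs
      intro f hf
      refine ⟨3, ?_⟩
      have h1 := ha f hf
      rw [pow_one] at h1
      calc f ^ 3 * (y - a ^ 3) = y * f ^ 3 - (f * a) ^ 3 := by ring
        _ = 0 := by rw [h1, (hc f hf).2, sub_self]
    exact sub_eq_zero.mp this

/-- Affine opens of a normal scheme have seminormal rings of sections. -/
theorem isSeminormalRing_of_isNormalScheme {X : Scheme.{u}} (hn : Pi1.IsNormalScheme X)
    (V : X.affineOpens) : IsSeminormalRing Γ(X, V) := by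
  have : ∀ x : X, _root_.IsReduced (X.presheaf.stalk x) := fun x => by
    have := (hn x).1
    infer_instance
  have : IsReduced X := isReduced_of_isReduced_stalk X
  apply isSeminormalRing_of_forall_atPrime
  intro p
  have hp : V.2.fromSpec p ∈ V.1 := (V.2.isoSpec.inv p).2
  have h1 := (hn (V.2.fromSpec p)).1
  have h2 := (hn (V.2.fromSpec p)).2
  exact ⟨X.presheaf.stalk (V.2.fromSpec p), inferInstance,
    TopCat.Presheaf.algebra_section_stalk X.presheaf ⟨_, hp⟩,
    V.2.isLocalization_stalk' p hp, Groth.Agent.S15941.result _⟩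

theorem isSeminormal_of_isNormalScheme {X : Scheme.{u}} (hn : Pi1.IsNormalScheme X) :
    IsSeminormal X :=
  (Groth.Agent.S7420.result X).1.mpr (isSeminormalRing_of_isNormalScheme hn)

end Groth.Agent.Lib.Seat74.SemiNorm
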