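import Groth.Agent.Lib.Seat74SemiNorm3
universe u
open AlgebraicGeometry CategoryTheory Limits HTop
namespace Groth.Agent.Lib.Seat74.SemiNorm

/-- A ring map to a subring-like intermediate: if `ψ ∘ φ` is finite, `ψ` injective and the base is
Noetherian, then `φ` is finite. -/
theorem finite_of_comp_of_injective {A B C : Type u} [CommRing A] [CommRing B] [CommRing C]
    [IsNoetherianRing A] (φ : A →+* B) (ψ : B →+* C) (hψ : Function.Injective ψ)
    (h : (ψ.comp φ).Finite) : φ.Finite := by
  algebraize [φ, ψ, ψ.comp φ]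
  have : Module.Finite A C := h
  have : IsNoetherian A C := isNoetherian_of_isNoetherianRing_of_finite A C
  exact Module.Finite.of_injective (IsScalarTower.toAlgHom A B C).toLinearMap hψ

theorem isHomeomorph_of_isUnivHomeo {X Y : Scheme.{u}} (f : X ⟶ Y) (hf : FlatMor.IsUnivHomeo f) :
    IsHomeomorph f :=
  hf (𝟙 X) (𝟙 Y) f IsPullback.of_id_snd

theorem isDominant_of_comp {X Y Z : Scheme.{u}} (g : X ⟶ Y) (ν : Y ⟶ Z)
    (hν : FlatMor.IsUnivHomeo ν) [IsDominant (g ≫ ν)] : IsDominant g := by
  have hh := isHomeomorph_of_isUnivHomeo ν hν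
  constructor
  show Dense (Set.range g)
  rw [hh.isInducing.dense_iff]
  intro x
  have h1 : DenseRange (g ≫ ν) := (g ≫ ν).denseRange
  have h2 : Set.range (g ≫ ν) = ν '' Set.range g := by
    rw [← Set.range_comp]; rfl
  rw [← h2]
  exact h1 (ν x)

end Groth.Agent.Lib.Seat74.SemiNorm
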