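import Groth.Agent.Lib.Seat74SemiNorm2
universe u
open AlgebraicGeometry CategoryTheory Limits HTop IsLocalRing
namespace Groth.Agent.Lib.Seat74.SemiNorm

theorem isIso_residueFieldMap_of_lift_aux {W T : Scheme.{u}} (p : W ⟶ T) (t : T)
    (K : Type u) [Field K] (ι : T.residueField t ⟶ .of K) [IsIso ι]
    (m : Spec (.of K) ⟶ W) (hm : m ≫ p = Spec.map ι ≫ T.fromSpecResidueField t) :
    IsIso (p.residueFieldMap (m (closedPoint K))) := by
  let φ : W.residueField (m (closedPoint K)) ⟶ .of K :=
    W.descResidueField (Scheme.stalkClosedPointTo m)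
  have h1 : T.descResidueField (Scheme.stalkClosedPointTo (m ≫ p)) =
      p.residueFieldMap (m (closedPoint K)) ≫ φ :=
    Scheme.descResidueField_stalkClosedPointTo_comp p m
  have h2 : (T.SpecToEquivOfField K) (Spec.map ι ≫ T.fromSpecResidueField t) = ⟨t, ι⟩ := by
    rw [← Equiv.eq_symm_apply]
    rfl
  have h3 : (T.SpecToEquivOfField K) (m ≫ p) = ⟨t, ι⟩ := by rw [hm, h2]
  obtain ⟨e, he⟩ := Scheme.SpecToEquivOfField_eq_iff.mp h3
  have h4 : p.residueFieldMap (m (closedPoint K)) ≫ φ = (T.residueFieldCongr e).hom ≫ ι := by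
    rw [← h1]; exact he
  have hiso : IsIso (p.residueFieldMap (m (closedPoint K)) ≫ φ) := by
    rw [h4]
    exact @IsIso.comp_isIso _ _ _ _ _ (T.residueFieldCongr e).hom ι inferInstance ‹IsIso ι›
  have hφ : IsIso φ := by
    rw [ConcreteCategory.isIso_iff_bijective]
    refine ⟨φ.hom.injective, ?_⟩
    have hs := (ConcreteCategory.bijective_of_isIso
      (p.residueFieldMap (m (closedPoint K)) ≫ φ)).2
    intro z
    obtain ⟨y, hy⟩ := hs z
    exact ⟨p.residueFieldMap (m (closedPoint K)) y, hy⟩
  exact IsIso.of_isIso_comp_right (p.residueFieldMap (m (closedPoint K))) φ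

/-- A morphism to the target of a proper universally injective morphism `f`, from a seminormal
scheme, which lifts through `f` at every point, lifts through `f`. -/
theorem exists_lift_of_isProper_of_universallyInjective {T X Y : Scheme.{u}} (hT : IsSeminormal T)
    (f : X ⟶ Y) [IsProper f] [UniversallyInjective f] (g : T ⟶ Y)
    (hlift : ∀ t : T, ∃ l : Spec (T.residueField t) ⟶ X,
      l ≫ f = T.fromSpecResidueField t ≫ g) : ∃ h : T ⟶ X, h ≫ f = g := by
  have hui : UniversallyInjective (pullback.fst g f) :=
    MorphismProperty.of_isPullback (P := @UniversallyInjective)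
      (IsPullback.of_hasPullback g f).flip ‹_›
  have hpinj : Function.Injective (pullback.fst g f) := (pullback.fst g f).injective
  have hpt : ∀ (t : T) (m : Spec (T.residueField t) ⟶ pullback g f),
      m ≫ pullback.fst g f = T.fromSpecResidueField t →
      pullback.fst g f (m (closedPoint (T.residueField t))) = t := by
    intro t m hm
    have h := Scheme.Hom.comp_apply m (pullback.fst g f) (closedPoint (T.residueField t))
    rw [hm] at h
    exact h.symm.trans (Scheme.fromSpecResidueField_apply t _)
  have key : ∀ t : T, ∃ m : Spec (T.residueField t) ⟶ pullback g f,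
      m ≫ pullback.fst g f = T.fromSpecResidueField t := fun t => by
    obtain ⟨l, hl⟩ := hlift t
    exact ⟨pullback.lift (T.fromSpecResidueField t) l hl.symm, pullback.lift_fst _ _ _⟩
  have hsurj : Surjective (pullback.fst g f) := ⟨fun t => by
    obtain ⟨m, hm⟩ := key t
    exact ⟨m (closedPoint _), hpt t m hm⟩⟩
  have hRFI : ResidueFieldsIso (pullback.fst g f) := by
    intro w
    obtain ⟨m, hm⟩ := key (pullback.fst g f w)
    have hw : m (closedPoint _) = w := hpinj (hpt _ m hm)
    have := isIso_residueFieldMap_of_lift_aux (pullback.fst g f) (pullback.fst g f w)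
      (T.residueField (pullback.fst g f w)) (𝟙 _) m
      (hm.trans (by rw [Spec.map_id]; exact (Category.id_comp _).symm))
    exact hw ▸ this
  have hfin : IsFinite (pullback.fst g f) := IsFinite.of_isProper_of_locallyQuasiFinite _
  have hUH : FlatMor.IsUnivHomeo (pullback.fst g f) :=
    (Groth.Agent.S0415.result _).mpr ⟨inferInstance, inferInstance, hsurj⟩
  obtain ⟨s, hs⟩ := exists_section (pullback.fst g f) hUH hRFI
    ((Groth.Agent.S7420.result T).1.mp hT)
  exact ⟨s ≫ pullback.snd g f, by
    rw [Category.assoc, ← pullback.condition, ← Category.assoc, hs, Category.id_comp]⟩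

end Groth.Agent.Lib.Seat74.SemiNorm
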