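import Groth.Agent.Lib.Seat74GraphFactor

/-!
# Membership in the image of a universal homeomorphism out of a seminormal ring (helper74)

`mem_range_of_residue`: let `g : C → C'` be a ring map with `Spec g` a universal homeomorphism, `C`
seminormal and `C'` reduced.  An element `c' ∈ C'` whose image in every residue field `κ(Q)` of `C'`
lies in the residue field `κ(g⁻¹ Q)` of `C` belongs to the image of `g`.
(Apply `bijective_of_UH_of_residue` to `C → C[c']`.)
-/

set_option autoImplicit false
universe u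
open AlgebraicGeometry CategoryTheory Limits HTop

namespace Groth.Agent.Lib.Seat74.SemiNormAdjoin

open Groth.Agent.Lib.Seat74.SemiNorm Groth.Agent.Lib.Seat74.GraphFactor
open Groth.Agent.Lib.Helper20.AWN

/-- Functoriality of `Ideal.ResidueField.map`. -/
theorem residueFieldMap_comp {R S T : Type u} [CommRing R] [CommRing S] [CommRing T]
    (f : R →+* S) (g : S →+* T) (h : R →+* T) (hh : g.comp f = h)
    (I : Ideal R) [I.IsPrime] (J : Ideal S) [J.IsPrime] (K : Ideal T) [K.IsPrime]
    (hf : I = J.comap f) (hg : J = K.comap g) (hgf : I = K.comap h) :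
    (Ideal.ResidueField.map J K g hg).comp (Ideal.ResidueField.map I J f hf) =
      Ideal.ResidueField.map I K h hgf := by
  subst hh
  apply Ideal.ResidueField.ringHom_ext
  ext r
  simp

/-- If `g₂ ∘ g₁` is a universal homeomorphism on spectra and `g₂` is injective, then `g₁` is a
universal homeomorphism on spectra. -/
theorem UH_of_comp_injective {C C'' C' : Type u} [CommRing C] [CommRing C''] [CommRing C']
    (g₁ : C →+* C'') (g₂ : C'' →+* C') (hinj : Function.Injective g₂)
    (h : UH (g₂.comp g₁)) : UH g₁ := by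
  have hint₂ : g₂.IsIntegral := RingHom.IsIntegral.tower_top g₁ g₂ h.1
  have hint₁ : g₁.IsIntegral := RingHom.IsIntegral.tower_bot g₁ g₂ hinj h.1
  have hsch : FlatMor.IsUnivHomeo (Spec.map (CommRingCat.ofHom (g₂.comp g₁))) :=
    (isUnivHomeo_iff_UH _).mpr h
  have e : Spec.map (CommRingCat.ofHom (g₂.comp g₁)) =
      Spec.map (CommRingCat.ofHom g₂) ≫ Spec.map (CommRingCat.ofHom g₁) := by
    rw [CommRingCat.ofHom_comp, Spec.map_comp]
  rw [e] at hsch
  obtain ⟨hint, hui, hsurj⟩ := (Groth.Agent.S0415.result _).mp hsch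
  have hs₂ : Surjective (Spec.map (CommRingCat.ofHom g₂)) :=
    ⟨hint₂.comap_surjective hinj⟩
  have hui₁ := universallyInjective_of_comp_surjective (Spec.map (CommRingCat.ofHom g₂))
    (Spec.map (CommRingCat.ofHom g₁))
  have hsurj₁ := Surjective.of_comp (Spec.map (CommRingCat.ofHom g₂))
    (Spec.map (CommRingCat.ofHom g₁))
  have hint₁' : IsIntegralHom (Spec.map (CommRingCat.ofHom g₁)) :=
    IsIntegralHom.SpecMap_iff.mpr hint₁
  exact (isUnivHomeo_iff_UH g₁).mp ((Groth.Agent.S0415.result _).mpr ⟨hint₁', hui₁, hsurj₁⟩)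

/-- Let `g : C → C'` induce a universal homeomorphism on spectra, with `C` seminormal and `C'`
reduced.  If the image of `c'` in every residue field `κ(Q)` of `C'` comes from `κ(g⁻¹ Q)`, then
`c'` is in the image of `g`. -/
theorem mem_range_of_residue {C C' : Type u} [CommRing C] [CommRing C'] (g : C →+* C')
    (hUH : UH g) (hC : IsSeminormalRing C) [IsReduced C'] (c' : C')
    (key : ∀ Q : PrimeSpectrum C', algebraMap C' Q.asIdeal.ResidueField c' ∈
      (Ideal.ResidueField.map (PrimeSpectrum.comap g Q).asIdeal Q.asIdeal g rfl).range) :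
    c' ∈ g.range := by
  have keyG : ∀ (P : Ideal C) [P.IsPrime] (Q : Ideal C') [Q.IsPrime] (h : P = Q.comap g),
      algebraMap C' Q.ResidueField c' ∈ (Ideal.ResidueField.map P Q g h).range := by
    intro P _ Q _ h
    subst h
    exact key ⟨Q, inferInstance⟩
  let _ : Algebra C C' := g.toAlgebra
  let C'' : Subalgebra C C' := Algebra.adjoin C {c'}
  let g₁ : C →+* C'' := algebraMap C C''
  let g₂ : C'' →+* C' := C''.val.toRingHom
  have hg12 : g₂.comp g₁ = g := RingHom.ext fun _ => rfl
  have hinj₂ : Function.Injective g₂ := Subtype.val_injective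
  have hint₂ : g₂.IsIntegral := RingHom.IsIntegral.tower_top g₁ g₂ (hg12 ▸ hUH.1)
  have hUH₁ : UH g₁ := UH_of_comp_injective g₁ g₂ hinj₂ (hg12 ▸ hUH)
  have hred : IsReduced C'' := isReduced_of_injective g₂ hinj₂
  have hres : ∀ Q'' : PrimeSpectrum C'', Function.Surjective (Ideal.ResidueField.map
      (PrimeSpectrum.comap g₁ Q'').asIdeal Q''.asIdeal g₁ rfl) := by
    intro Q''
    obtain ⟨Q, rfl⟩ := hint₂.comap_surjective hinj₂ Q''
    have hP : (PrimeSpectrum.comap g₁ (PrimeSpectrum.comap g₂ Q)).asIdeal =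
        Q.asIdeal.comap g := by
      rw [← hg12]; rfl
    have hm := residueFieldMap_comp g₁ g₂ g hg12
      (PrimeSpectrum.comap g₁ (PrimeSpectrum.comap g₂ Q)).asIdeal
      (PrimeSpectrum.comap g₂ Q).asIdeal Q.asIdeal rfl rfl hP
    obtain ⟨w, hw⟩ := keyG _ Q.asIdeal hP
    have hmem : ∀ (a : C') (ha : a ∈ Algebra.adjoin C {c'}),
        algebraMap C'' (PrimeSpectrum.comap g₂ Q).asIdeal.ResidueField ⟨a, ha⟩ ∈
          (Ideal.ResidueField.map (PrimeSpectrum.comap g₁ (PrimeSpectrum.comap g₂ Q)).asIdeal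
            (PrimeSpectrum.comap g₂ Q).asIdeal g₁ rfl).fieldRange := by
      intro a ha
      induction ha using Algebra.adjoin_induction with
      | mem x hx =>
        rw [Set.mem_singleton_iff] at hx
        subst hx
        refine ⟨w, (Ideal.ResidueField.map (PrimeSpectrum.comap g₂ Q).asIdeal Q.asIdeal g₂
          rfl).injective ?_⟩
        exact (congr($hm w)).trans (hw.trans
          (Ideal.ResidueField.map_algebraMap (PrimeSpectrum.comap g₂ Q).asIdeal Q.asIdeal g₂ rfl
            ⟨x, Algebra.subset_adjoin (Set.mem_singleton x)⟩).symm)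
      | algebraMap r =>
        exact ⟨algebraMap C _ r, Ideal.ResidueField.map_algebraMap _ _ g₁ rfl r⟩
      | add x y hx hy ihx ihy =>
        have e : (⟨x + y, add_mem hx hy⟩ : C'') = ⟨x, hx⟩ + ⟨y, hy⟩ := rfl
        rw [e, map_add]
        exact add_mem ihx ihy
      | mul x y hx hy ihx ihy =>
        have e : (⟨x * y, mul_mem hx hy⟩ : C'') = ⟨x, hx⟩ * ⟨y, hy⟩ := rfl
        rw [e, map_mul]
        exact mul_mem ihx ihy
    intro z
    obtain ⟨a, b, -, rfl⟩ := IsFractionRing.div_surjective
      (A := C'' ⧸ (PrimeSpectrum.comap g₂ Q).asIdeal) z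
    obtain ⟨a₀, rfl⟩ := Ideal.Quotient.mk_surjective a
    obtain ⟨b₀, rfl⟩ := Ideal.Quotient.mk_surjective b
    rw [Ideal.algebraMap_quotient_residueField_mk, Ideal.algebraMap_quotient_residueField_mk]
    exact div_mem (hmem a₀.1 a₀.2) (hmem b₀.1 b₀.2)
  have hbij := bijective_of_UH_of_residue g₁ hUH₁ hres hC
  obtain ⟨r, hr⟩ := hbij.2 ⟨c', Algebra.subset_adjoin (Set.mem_singleton c')⟩
  exact ⟨r, congrArg Subtype.val hr⟩

end Groth.Agent.Lib.Seat74.SemiNormAdjoin
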