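import Mathlib

/-!
# Fibres of the canonical morphism `X ⟶ Spec Γ(X, 𝒪_X)` over a discrete valuation ring

* `exists_mul_of_fst_appTop_eq_zero`: a global function vanishing on the pullback of `V(π)` is
  divisible by `π` on every affine open.
-/

set_option autoImplicit false
universe u

open CategoryTheory CategoryTheory.Limits AlgebraicGeometry

namespace Groth.Agent.Lib.Seat74.SpecGammaFibre

/-- The closed immersion `Spec (A/π) ⟶ Spec A`. -/
noncomputable abbrev quotMap {A : Type u} [CommRing A] (π : A) :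
    Spec (CommRingCat.of (A ⧸ Ideal.span {π})) ⟶ Spec (CommRingCat.of A) :=
  Spec.map (CommRingCat.ofHom (Ideal.Quotient.mk (Ideal.span {π})))

/-- The image of `π` in the global sections of `X`. -/
noncomputable abbrev piX {A : Type u} [CommRing A] (π : A) {X : Scheme.{u}}
    (f : X ⟶ Spec (CommRingCat.of A)) : Γ(X, ⊤) :=
  f.appTop ((Scheme.ΓSpecIso (CommRingCat.of A)).inv π)

theorem exists_mul_of_fst_appTop_eq_zero {A : Type u} [CommRing A] (π : A) {X : Scheme.{u}}
    (f : X ⟶ Spec (CommRingCat.of A)) (b : Γ(X, ⊤))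
    (hb : (pullback.fst f (quotMap π)).appTop b = 0)
    (U : X.Opens) (hU : IsAffineOpen U) :
    ∃ y : Γ(X, U), X.presheaf.map (homOfLE le_top).op b =
      X.presheaf.map (homOfLE le_top).op (piX π f) * y := by
  set R : CommRingCat := Γ(X, U) with hR
  set πU : R := X.presheaf.map (homOfLE le_top).op (piX π f) with hπU
  let q : R →+* R ⧸ Ideal.span {πU} := Ideal.Quotient.mk _
  let ζ : Spec (CommRingCat.of (R ⧸ Ideal.span {πU})) ⟶ Spec R := Spec.map (CommRingCat.ofHom q)
  let φ : CommRingCat.of A ⟶ R :=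
    (Scheme.ΓSpecIso (CommRingCat.of A)).inv ≫ f.appTop ≫ X.presheaf.map (homOfLE le_top).op
  have hφπ : φ.hom π = πU := rfl
  have hker : ∀ a ∈ Ideal.span {π}, (q.comp φ.hom) a = 0 := by
    intro a ha
    obtain ⟨c, rfl⟩ := Ideal.mem_span_singleton'.mp ha
    simp only [RingHom.comp_apply, map_mul, hφπ]
    rw [Ideal.Quotient.eq_zero_iff_mem.mpr (Ideal.mem_span_singleton_self πU), mul_zero]
  let ψ : A ⧸ Ideal.span {π} →+* R ⧸ Ideal.span {πU} :=
    Ideal.Quotient.lift (Ideal.span {π}) (q.comp φ.hom) hker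
  have hfs : hU.fromSpec ≫ f = Spec.map φ := by
    have h1 := IsAffineOpen.SpecMap_appLE_fromSpec f (isAffineOpen_top _) hU (by simp)
    rw [← h1, IsAffineOpen.fromSpec_top, Scheme.isoSpec_Spec_inv, ← Spec.map_comp]
    rfl
  have w : (ζ ≫ hU.fromSpec) ≫ f = Spec.map (CommRingCat.ofHom ψ) ≫ quotMap π := by
    rw [Category.assoc, hfs, ← Spec.map_comp, ← Spec.map_comp]
    congr 1
  let lam := pullback.lift (ζ ≫ hU.fromSpec) (Spec.map (CommRingCat.ofHom ψ)) w
  have h1 : lam ≫ pullback.fst f (quotMap π) = ζ ≫ hU.fromSpec := pullback.lift_fst ..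
  have h2 : (ζ ≫ hU.fromSpec).appTop b = 0 := by
    rw [← h1, Scheme.Hom.comp_appTop, CommRingCat.comp_apply, hb, map_zero]
  have h3 : (ζ ≫ hU.fromSpec).appTop b =
      (Scheme.ΓSpecIso (CommRingCat.of (R ⧸ Ideal.span {πU}))).inv
        (q (X.presheaf.map (homOfLE le_top).op b)) := by
    rw [Scheme.Hom.comp_appTop, CommRingCat.comp_apply]
    have h4 : hU.fromSpec.appTop = X.presheaf.map (homOfLE le_top).op ≫
        (Scheme.ΓSpecIso Γ(X, U)).inv := by
      have := hU.fromSpec_app_of_le ⊤ le_top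
      rw [Scheme.Hom.appTop, this]
      have h0 : (Spec Γ(X, U)).presheaf.map (homOfLE (le_top : hU.fromSpec ⁻¹ᵁ ⊤ ≤ ⊤)).op = 𝟙 _ :=
        (Spec Γ(X, U)).presheaf.map_id _
      rw [h0]
      exact congrArg (X.presheaf.map (homOfLE le_top).op ≫ ·) (Category.comp_id _)
    rw [h4, CommRingCat.comp_apply]
    have h5 := Scheme.ΓSpecIso_inv_naturality (CommRingCat.ofHom q)
    have h6 := congr($h5 (X.presheaf.map (homOfLE le_top).op b))
    simp only [CommRingCat.comp_apply] at h6
    exact h6.symm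
  rw [h3] at h2
  have h7 : q (X.presheaf.map (homOfLE le_top).op b) = 0 := by
    have hinj : Function.Injective
        (Scheme.ΓSpecIso (CommRingCat.of (R ⧸ Ideal.span {πU}))).inv :=
      (ConcreteCategory.bijective_of_isIso _).1
    exact hinj (by rw [h2, map_zero])
  obtain ⟨y, hy⟩ := Ideal.mem_span_singleton'.mp (Ideal.Quotient.eq_zero_iff_mem.mp h7)
  exact ⟨y, by rw [← hy, mul_comm]⟩

/-- `π` is a nonzerodivisor on the sections of a flat `A`-scheme over an affine open. -/
theorem piX_regular_of_isAffineOpen {A : Type u} [CommRing A] (π : A) (hπ : IsSMulRegular A π)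
    {X : Scheme.{u}} (f : X ⟶ Spec (CommRingCat.of A)) [Flat f] (U : X.Opens)
    (hU : IsAffineOpen U) (y : Γ(X, U))
    (hy : X.presheaf.map (homOfLE le_top).op (piX π f) * y = 0) : y = 0 := by
  let φ : CommRingCat.of A ⟶ Γ(X, U) :=
    (Scheme.ΓSpecIso (CommRingCat.of A)).inv ≫ f.appLE ⊤ U (by simp)
  have hφ : φ.hom.Flat := by
    have h1 : (f.appLE ⊤ U (by simp)).hom.Flat := f.flat_appLE (isAffineOpen_top _) hU _
    have h2 : (Scheme.ΓSpecIso (CommRingCat.of A)).inv.hom.Flat :=
      RingHom.Flat.of_bijective (ConcreteCategory.bijective_of_isIso _)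
    exact RingHom.Flat.comp h2 h1
  have hφπ : φ.hom π = X.presheaf.map (homOfLE le_top).op (piX π f) := rfl
  algebraize [φ.hom]
  have hreg : IsSMulRegular Γ(X, U) (algebraMap A Γ(X, U) π) := hπ.of_flat
  rw [RingHom.algebraMap_toAlgebra, hφπ] at hreg
  exact hreg (by simpa using hy)

/-- `π` is a nonzerodivisor on the sections of a flat `A`-scheme over any open. -/
theorem piX_regular {A : Type u} [CommRing A] (π : A) (hπ : IsSMulRegular A π)
    {X : Scheme.{u}} (f : X ⟶ Spec (CommRingCat.of A)) [Flat f] (V : X.Opens) (y : Γ(X, V))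
    (hy : X.presheaf.map (homOfLE le_top).op (piX π f) * y = 0) : y = 0 := by
  refine X.IsSheaf.section_ext (U := Opposite.op V) fun x hx ↦ ?_
  obtain ⟨_, ⟨U, hU, rfl⟩, hxU, hUV : U ≤ V⟩ :=
    X.isBasis_affineOpens.exists_subset_of_mem_open hx V.isOpen
  refine ⟨U, hUV, hxU, ?_⟩
  rw [map_zero]
  apply piX_regular_of_isAffineOpen π hπ f U hU
  have := congr(X.presheaf.map (homOfLE hUV).op $hy)
  rw [map_mul, map_zero, ← CommRingCat.comp_apply, ← Functor.map_comp] at this
  exact this

/-- Gluing: a global function divisible by `π` on every affine open is divisible by `π`. -/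
theorem exists_mul_of_forall_affine {A : Type u} [CommRing A] (π : A) (hπ : IsSMulRegular A π)
    {X : Scheme.{u}} (f : X ⟶ Spec (CommRingCat.of A)) [Flat f] (b : Γ(X, ⊤))
    (hb : ∀ (U : X.Opens), IsAffineOpen U → ∃ y : Γ(X, U),
      X.presheaf.map (homOfLE le_top).op b = X.presheaf.map (homOfLE le_top).op (piX π f) * y) :
    ∃ y : Γ(X, ⊤), b = piX π f * y := by
  choose yU hyU using fun U : X.affineOpens => hb U.1 U.2
  have hcompat : TopCat.Presheaf.IsCompatible X.presheaf (fun U : X.affineOpens => U.1) yU := by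
    intro U V
    have : X.presheaf.map (TopologicalSpace.Opens.infLELeft U.1 V.1).op (yU U) -
        X.presheaf.map (TopologicalSpace.Opens.infLERight U.1 V.1).op (yU V) = 0 := by
      apply piX_regular π hπ f (U.1 ⊓ V.1)
      rw [mul_sub, sub_eq_zero]
      have e1 := congr(X.presheaf.map (TopologicalSpace.Opens.infLELeft U.1 V.1).op $(hyU U))
      have e2 := congr(X.presheaf.map (TopologicalSpace.Opens.infLERight U.1 V.1).op $(hyU V))
      simp only [map_mul, ← CommRingCat.comp_apply, ← Functor.map_comp] at e1 e2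
      have e1' : X.presheaf.map (homOfLE (le_top : U.1 ⊓ V.1 ≤ ⊤)).op b =
          X.presheaf.map (homOfLE (le_top : U.1 ⊓ V.1 ≤ ⊤)).op (piX π f) *
            X.presheaf.map (TopologicalSpace.Opens.infLELeft U.1 V.1).op (yU U) := e1
      have e2' : X.presheaf.map (homOfLE (le_top : U.1 ⊓ V.1 ≤ ⊤)).op b =
          X.presheaf.map (homOfLE (le_top : U.1 ⊓ V.1 ≤ ⊤)).op (piX π f) *
            X.presheaf.map (TopologicalSpace.Opens.infLERight U.1 V.1).op (yU V) := e2
      exact e1'.symm.trans e2'
    exact sub_eq_zero.mp this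
  have hcov : (⊤ : X.Opens) ≤ ⨆ U : X.affineOpens, (U : X.Opens) := by
    rw [iSup_affineOpens_eq_top]
  obtain ⟨y, hy, -⟩ : ∃! y : Γ(X, ⊤), ∀ U : X.affineOpens,
      X.presheaf.map (homOfLE (le_top : U.1 ≤ ⊤)).op y = yU U :=
    X.sheaf.existsUnique_gluing' (fun U : X.affineOpens => U.1) ⊤
      (fun U => homOfLE le_top) hcov yU hcompat
  refine ⟨y, ?_⟩
  apply X.sheaf.eq_of_locally_eq' (fun U : X.affineOpens => U.1) ⊤ (fun U => homOfLE le_top) hcov
  intro U
  have h1 : X.presheaf.map (homOfLE (le_top : U.1 ≤ ⊤)).op y = yU U := hy U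
  change X.presheaf.map (homOfLE (le_top : U.1 ≤ ⊤)).op b =
    X.presheaf.map (homOfLE (le_top : U.1 ≤ ⊤)).op (piX π f * y)
  rw [map_mul, h1]
  exact hyU U

/-- A global function on a flat `A`-scheme vanishing on the pullback of `V(π)` is divisible
by `π`. -/
theorem exists_mul_of_fst_appTop_eq_zero' {A : Type u} [CommRing A] (π : A)
    (hπ : IsSMulRegular A π) {X : Scheme.{u}} (f : X ⟶ Spec (CommRingCat.of A)) [Flat f]
    (b : Γ(X, ⊤)) (hb : (pullback.fst f (quotMap π)).appTop b = 0) :
    ∃ y : Γ(X, ⊤), b = piX π f * y :=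
  exists_mul_of_forall_affine π hπ f b
    fun U hU => exists_mul_of_fst_appTop_eq_zero π f b hb U hU

/-- The closed fibre case: the base change of `X ⟶ Spec Γ(X, 𝒪_X)` to `Spec (A/π)` is
schematically dominant when `X` is flat and quasi-compact over `A` and `π` is a
nonzerodivisor. -/
theorem dominant_quot {A : Type u} [CommRing A] (π : A) (hπ : IsSMulRegular A π)
    {X : Scheme.{u}} (f : X ⟶ Spec (CommRingCat.of A)) [Flat f] [QuasiCompact f]
    (g : Spec Γ(X, ⊤) ⟶ Spec (CommRingCat.of A)) (hg : X.toSpecΓ ≫ g = f) :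
    IsSchemeTheoreticallyDominant
      (pullback.map f (quotMap π) g (quotMap π) X.toSpecΓ (𝟙 _) (𝟙 _)
        ((Category.comp_id f).trans hg.symm)
        ((Category.comp_id _).trans (Category.id_comp _).symm)) := by
  set ρ := quotMap π with hρ
  set m := pullback.map f ρ g ρ X.toSpecΓ (𝟙 _) (𝟙 _)
        ((Category.comp_id f).trans hg.symm)
        ((Category.comp_id _).trans (Category.id_comp _).symm) with hm
  have hmj : m ≫ pullback.fst g ρ = pullback.fst f ρ ≫ X.toSpecΓ := pullback.lift_fst ..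
  have : IsClosedImmersion ρ :=
    IsClosedImmersion.spec_of_surjective _ Ideal.Quotient.mk_surjective
  have : CompactSpace ↥(pullback f ρ) :=
    (quasiCompact_iff_compactSpace (pullback.snd f ρ)).mp inferInstance
  have : QuasiCompact m := (quasiCompact_iff_compactSpace m).mpr inferInstance
  have hjsurj : Function.Surjective (pullback.fst g ρ).appTop :=
    (IsClosedImmersion.isAffine_surjective_of_isAffine (pullback.fst g ρ)).2
  have hc : Function.Bijective X.toSpecΓ.appTop := by
    rw [Scheme.toSpecΓ_appTop]; exact ConcreteCategory.bijective_of_isIso _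
  have hρπ : ρ.appTop ((Scheme.ΓSpecIso (CommRingCat.of A)).inv π) = 0 := by
    have h5 := Scheme.ΓSpecIso_inv_naturality
      (CommRingCat.ofHom (Ideal.Quotient.mk (Ideal.span {π})))
    have h6 : ρ.appTop ((Scheme.ΓSpecIso (CommRingCat.of A)).inv π) =
        (Scheme.ΓSpecIso (CommRingCat.of (A ⧸ Ideal.span {π}))).inv
          ((CommRingCat.ofHom (Ideal.Quotient.mk (Ideal.span {π}))) π) := (congr($h5 π)).symm
    have : (CommRingCat.ofHom (Ideal.Quotient.mk (Ideal.span {π}))) π = 0 :=
      Ideal.Quotient.eq_zero_iff_mem.mpr (Ideal.mem_span_singleton_self π)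
    rw [h6, this, map_zero]
  rw [isSchemeTheoreticallyDominant_iff]
  apply Scheme.IdealSheafData.ext_of_isAffine
  rw [Scheme.Hom.ker_apply]
  simp only [Scheme.IdealSheafData.ideal_bot, Pi.bot_apply]
  rw [← RingHom.injective_iff_ker_eq_bot, injective_iff_map_eq_zero]
  intro t ht
  obtain ⟨b', rfl⟩ := hjsurj t
  have h1 : (pullback.fst f ρ).appTop (X.toSpecΓ.appTop b') = 0 := by
    have h2 := congr(Scheme.Hom.appTop $hmj)
    simp only [Scheme.Hom.comp_appTop] at h2
    have h3 := congr($h2 b')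
    simp only [CommRingCat.comp_apply] at h3
    rw [← h3]; exact ht
  obtain ⟨y, hy⟩ := exists_mul_of_fst_appTop_eq_zero' π hπ f _ h1
  obtain ⟨y', rfl⟩ := hc.2 y
  have hgf : ∀ x, X.toSpecΓ.appTop (g.appTop x) = f.appTop x := by
    intro x
    have h2 := congr(Scheme.Hom.appTop $hg)
    simp only [Scheme.Hom.comp_appTop] at h2
    exact congr($h2 x)
  have hb' : b' = g.appTop ((Scheme.ΓSpecIso (CommRingCat.of A)).inv π) * y' := by
    apply hc.1
    rw [map_mul, hgf]
    exact hy
  have h4 : (pullback.fst g ρ).appTop (g.appTop ((Scheme.ΓSpecIso (CommRingCat.of A)).inv π))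
      = 0 := by
    have h2 := congr(Scheme.Hom.appTop $(pullback.condition (f := g) (g := ρ)))
    simp only [Scheme.Hom.comp_appTop] at h2
    have h3 := congr($h2 ((Scheme.ΓSpecIso (CommRingCat.of A)).inv π))
    simp only [CommRingCat.comp_apply] at h3
    rw [h3, hρπ, map_zero]
  rw [hb', map_mul, h4, zero_mul]

/-- The flat case: the base change of `X ⟶ Spec Γ(X, 𝒪_X)` along a flat morphism is
schematically dominant. -/
theorem dominant_of_flat {S X P : Scheme.{u}} (f : X ⟶ S) [CompactSpace X]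
    (ρ : P ⟶ S) [Flat ρ] (g : Spec Γ(X, ⊤) ⟶ S) (hg : X.toSpecΓ ≫ g = f) :
    IsSchemeTheoreticallyDominant
      (pullback.map f ρ g ρ X.toSpecΓ (𝟙 _) (𝟙 _)
        ((Category.comp_id f).trans hg.symm)
        ((Category.comp_id _).trans (Category.id_comp _).symm)) := by
  set m := pullback.map f ρ g ρ X.toSpecΓ (𝟙 _) (𝟙 _)
        ((Category.comp_id f).trans hg.symm)
        ((Category.comp_id _).trans (Category.id_comp _).symm) with hm
  have hmj : m ≫ pullback.fst g ρ = pullback.fst f ρ ≫ X.toSpecΓ := pullback.lift_fst ..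
  have hmr : m ≫ pullback.snd g ρ = pullback.snd f ρ ≫ 𝟙 _ := pullback.lift_snd ..
  have H : IsPullback m (pullback.fst f ρ) (pullback.fst g ρ) X.toSpecΓ := by
    refine IsPullback.of_right ?_ hmj (IsPullback.of_hasPullback g ρ).flip
    rw [hmr, Category.comp_id, hg]
    exact (IsPullback.of_hasPullback f ρ).flip
  have : IsSchemeTheoreticallyDominant X.toSpecΓ := ⟨X.ker_toSpecΓ⟩
  have : QuasiCompact X.toSpecΓ := (quasiCompact_iff_compactSpace _).mpr inferInstance
  exact IsSchemeTheoreticallyDominant.of_isPullback H.flip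

/-- Transport along an isomorphism of the base-changing morphism. -/
theorem dominant_of_iso {S X P P' : Scheme.{u}} (f : X ⟶ S) (ρ : P ⟶ S) (ρ' : P' ⟶ S)
    (e : P ≅ P') (he : e.hom ≫ ρ' = ρ) (g : Spec Γ(X, ⊤) ⟶ S) (hg : X.toSpecΓ ≫ g = f)
    (H : IsSchemeTheoreticallyDominant
      (pullback.map f ρ' g ρ' X.toSpecΓ (𝟙 _) (𝟙 _)
        ((Category.comp_id f).trans hg.symm)
        ((Category.comp_id _).trans (Category.id_comp _).symm))) :
    IsSchemeTheoreticallyDominant
      (pullback.map f ρ g ρ X.toSpecΓ (𝟙 _) (𝟙 _)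
        ((Category.comp_id f).trans hg.symm)
        ((Category.comp_id _).trans (Category.id_comp _).symm)) := by
  let α : pullback f ρ ⟶ pullback f ρ' :=
    pullback.map f ρ f ρ' (𝟙 X) e.hom (𝟙 S) (by simp) (by simp [he])
  let β : pullback g ρ ⟶ pullback g ρ' :=
    pullback.map g ρ g ρ' (𝟙 _) e.hom (𝟙 S) (by simp) (by simp [he])
  set m := pullback.map f ρ g ρ X.toSpecΓ (𝟙 _) (𝟙 _)
        ((Category.comp_id f).trans hg.symm)
        ((Category.comp_id _).trans (Category.id_comp _).symm) with hm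
  set m' := pullback.map f ρ' g ρ' X.toSpecΓ (𝟙 _) (𝟙 _)
        ((Category.comp_id f).trans hg.symm)
        ((Category.comp_id _).trans (Category.id_comp _).symm) with hm'
  have hm1 : m ≫ pullback.fst g ρ = pullback.fst f ρ ≫ X.toSpecΓ := pullback.lift_fst ..
  have hm2 : m ≫ pullback.snd g ρ = pullback.snd f ρ ≫ 𝟙 _ := pullback.lift_snd ..
  have hm1' : m' ≫ pullback.fst g ρ' = pullback.fst f ρ' ≫ X.toSpecΓ := pullback.lift_fst ..
  have hm2' : m' ≫ pullback.snd g ρ' = pullback.snd f ρ' ≫ 𝟙 _ := pullback.lift_snd ..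
  have hα1 : α ≫ pullback.fst f ρ' = pullback.fst f ρ ≫ 𝟙 _ := pullback.lift_fst ..
  have hα2 : α ≫ pullback.snd f ρ' = pullback.snd f ρ ≫ e.hom := pullback.lift_snd ..
  have hβ1 : β ≫ pullback.fst g ρ' = pullback.fst g ρ ≫ 𝟙 _ := pullback.lift_fst ..
  have hβ2 : β ≫ pullback.snd g ρ' = pullback.snd g ρ ≫ e.hom := pullback.lift_snd ..
  have hαβ : m ≫ β = α ≫ m' := by
    apply pullback.hom_ext
    · rw [Category.assoc, hβ1, Category.comp_id, hm1, Category.assoc, hm1', ← Category.assoc,
        hα1, Category.comp_id]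
    · rw [Category.assoc, hβ2, ← Category.assoc, hm2, Category.comp_id, Category.assoc, hm2',
        Category.comp_id, hα2]
  have : m = α ≫ m' ≫ inv β :=
    ((IsIso.eq_comp_inv β).mpr hαβ).trans (Category.assoc _ _ _)
  rw [this]
  infer_instance

/-- The residue field of the zero ideal of a domain is flat over the domain. -/
theorem flat_algebraMap_residueField_bot' (A : Type u) [CommRing A] [(⊥ : Ideal A).IsPrime] :
    (algebraMap A (⊥ : Ideal A).ResidueField).Flat := by
  have h1 : (algebraMap A (Localization.AtPrime (⊥ : Ideal A))).Flat :=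
    RingHom.flat_algebraMap_iff.mpr (IsLocalization.flat _ (⊥ : Ideal A).primeCompl)
  have h2 : Function.Bijective (IsLocalRing.residue (Localization.AtPrime (⊥ : Ideal A))) := by
    refine ⟨?_, IsLocalRing.residue_surjective⟩
    rw [injective_iff_map_eq_zero]
    intro x hx
    have hx' : x ∈ IsLocalRing.maximalIdeal (Localization.AtPrime (⊥ : Ideal A)) :=
      (IsLocalRing.residue_eq_zero_iff x).mp hx
    rw [← Localization.AtPrime.map_eq_maximalIdeal, Ideal.map_bot] at hx'
    exact hx'
  rw [IsScalarTower.algebraMap_eq A (Localization.AtPrime (⊥ : Ideal A))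
    (⊥ : Ideal A).ResidueField]
  exact RingHom.Flat.comp h1 (RingHom.Flat.of_bijective h2)

theorem flat_algebraMap_residueField_bot (A : Type u) [CommRing A] (p : Ideal A) [p.IsPrime]
    (hp : p = ⊥) : (algebraMap A p.ResidueField).Flat := by
  subst hp
  exact flat_algebraMap_residueField_bot' A

set_option backward.isDefEq.respectTransparency.types false in
/-- The inclusion of the generic point of the spectrum of a domain is flat. -/
theorem flat_fromSpecResidueField_of_bot (R : CommRingCat.{u}) (x : Spec R)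
    (hx : x.asIdeal = ⊥) : Flat ((Spec R).fromSpecResidueField x) := by
  rw [← Scheme.Spec.map_residueFieldIso_inv_eq_fromSpecResidueField]
  have : Flat (Spec.map (CommRingCat.ofHom (algebraMap R x.asIdeal.ResidueField))) :=
    Flat.SpecMap_iff.mpr (flat_algebraMap_residueField_bot R x.asIdeal hx)
  infer_instance

set_option backward.isDefEq.respectTransparency.types false in
/-- The inclusion of a closed point with principal maximal ideal `(π)` is isomorphic to
`Spec (R/π) ⟶ Spec R`. -/
theorem exists_iso_quotMap (R : CommRingCat.{u}) (x : Spec R) (π : R)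
    (hx : x.asIdeal = Ideal.span {π}) (hmax : x.asIdeal.IsMaximal) :
    ∃ e : Spec ((Spec R).residueField x) ≅ Spec (CommRingCat.of (R ⧸ Ideal.span {π})),
      e.hom ≫ Spec.map (CommRingCat.ofHom (Ideal.Quotient.mk (Ideal.span {π}))) =
        (Spec R).fromSpecResidueField x := by
  let θ₁ : (R ⧸ Ideal.span {π}) →+* x.asIdeal.ResidueField :=
    (algebraMap (R ⧸ x.asIdeal) x.asIdeal.ResidueField).comp
      (Ideal.quotEquivOfEq hx.symm).toRingHom
  have hθ₁ : Function.Bijective θ₁ :=
    (x.asIdeal.bijective_algebraMap_quotient_residueField).comp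
      (Ideal.quotEquivOfEq hx.symm).bijective
  have hθ₁mk : θ₁.comp (Ideal.Quotient.mk (Ideal.span {π})) =
      algebraMap R x.asIdeal.ResidueField := by
    ext a
    change algebraMap (R ⧸ x.asIdeal) x.asIdeal.ResidueField
      (Ideal.quotEquivOfEq hx.symm (Ideal.Quotient.mk _ a)) = algebraMap R x.asIdeal.ResidueField a
    rw [Ideal.quotEquivOfEq_mk]
    exact (IsScalarTower.algebraMap_apply R (R ⧸ x.asIdeal) x.asIdeal.ResidueField a).symm
  let θ : CommRingCat.of (R ⧸ Ideal.span {π}) ⟶ (Spec R).residueField x :=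
    CommRingCat.ofHom θ₁ ≫ (Scheme.Spec.residueFieldIso R x).inv
  have : IsIso (CommRingCat.ofHom θ₁) := (ConcreteCategory.isIso_iff_bijective _).mpr hθ₁
  have : IsIso θ := inferInstance
  refine ⟨asIso (Spec.map θ), ?_⟩
  rw [← Scheme.Spec.map_residueFieldIso_inv_eq_fromSpecResidueField]
  simp only [asIso_hom, θ, Spec.map_comp, Category.assoc]
  rw [← Spec.map_comp (CommRingCat.ofHom (Ideal.Quotient.mk _)) (CommRingCat.ofHom θ₁),
    ← CommRingCat.ofHom_comp, hθ₁mk]

set_option backward.isDefEq.respectTransparency.types false in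
/-- Over a discrete valuation ring, the base change of `X ⟶ Spec Γ(X, 𝒪_X)` to every fibre is
schematically dominant, for `X` flat and quasi-compact over `A`. -/
theorem dominant_fibre_dvr (A : Type u) [CommRing A] [IsDomain A] [IsDiscreteValuationRing A]
    (X : Scheme.{u}) (f : X ⟶ Spec (CommRingCat.of A)) [Flat f] [QuasiCompact f]
    (g : Spec Γ(X, ⊤) ⟶ Spec (CommRingCat.of A)) (hg : X.toSpecΓ ≫ g = f)
    (s : ↥(Spec (CommRingCat.of A))) :
    IsSchemeTheoreticallyDominant
      (pullback.map f ((Spec (CommRingCat.of A)).fromSpecResidueField s) g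
        ((Spec (CommRingCat.of A)).fromSpecResidueField s)
        X.toSpecΓ (𝟙 _) (𝟙 _) ((Category.comp_id f).trans hg.symm)
        ((Category.comp_id _).trans (Category.id_comp _).symm)) := by
  have : CompactSpace X := (quasiCompact_iff_compactSpace f).mp inferInstance
  by_cases hs : s.asIdeal = ⊥
  · have : Flat ((Spec (CommRingCat.of A)).fromSpecResidueField s) :=
      flat_fromSpecResidueField_of_bot (CommRingCat.of A) s hs
    exact dominant_of_flat f _ g hg
  · obtain ⟨π, hπ⟩ := IsDiscreteValuationRing.exists_irreducible A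
    have hmax : s.asIdeal.IsMaximal := Ideal.IsPrime.isMaximal s.isPrime hs
    have hp : s.asIdeal = Ideal.span {π} := by
      rw [← hπ.maximalIdeal_eq]; exact IsLocalRing.eq_maximalIdeal hmax
    obtain ⟨e, he⟩ := exists_iso_quotMap (CommRingCat.of A) s π hp hmax
    have hreg : IsSMulRegular A π :=
      (IsRegular.of_ne_zero hπ.ne_zero).left.isSMulRegular
    exact dominant_of_iso f _ (quotMap π) e he g hg (dominant_quot π hreg f g hg)

end Groth.Agent.Lib.Seat74.SpecGammaFibre
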