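import Groth.Agent.Lib.Helper14TSResidue
import Groth.Agent.Lib.Seat61SymTensor

/-!
# Symmetric tensors and purely inseparable residue extensions (helper74)

`mem_range_of_TS`: if `L/K` is a purely inseparable field extension of degree dividing `d`, `B` an
`A`-algebra with compatible maps `A → K`, `B → L`, then the image in `L` of the product `m_d(x)` of
any symmetric tensor `x ∈ TS^d_A(B)` lies in `K`.
-/

set_option autoImplicit false
universe u
open scoped TensorProduct

namespace Groth.Agent.Lib.Seat74.SymPow

open Groth.Agent.Lib.Helper14.TSResidue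

/-- In a purely inseparable extension, `d`-th powers lie in the base field when `[L:K] ∣ d`. -/
theorem pow_mem_range_of_finrank_dvd (K L : Type u) [Field K] [Field L] [Algebra K L]
    [IsPurelyInseparable K L] {d : ℕ} (hd : Module.finrank K L ∣ d) (l : L) :
    l ^ d ∈ (algebraMap K L).range := by
  have : ExpChar K (ringExpChar K) := ringExpChar.expChar K
  obtain ⟨n, y, h⟩ := IsPurelyInseparable.minpoly_eq_X_pow_sub_C K (ringExpChar K) l
  have hint : IsIntegral K l := IsPurelyInseparable.isIntegral' K l
  have h1 : (minpoly K l).natDegree = ringExpChar K ^ n := by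
    rw [h]; exact Polynomial.natDegree_X_pow_sub_C
  have h2 : ringExpChar K ^ n ∣ d := h1 ▸ (minpoly.degree_dvd hint).trans hd
  obtain ⟨c, rfl⟩ := h2
  have h3 : l ^ (ringExpChar K ^ n) = algebraMap K L y := by
    have := minpoly.aeval K l
    rw [h] at this
    simpa [sub_eq_zero] using this
  rw [pow_mul, h3, ← map_pow]
  exact ⟨y ^ c, rfl⟩

/-- Instance-level version: `L/K` purely inseparable of degree dividing `d`, `ψ : B →ₐ[A] L`. -/
theorem algHom_mul_mem_range (A B : Type u) [CommRing A] [CommRing B] [Algebra A B]
    (K L : Type u) [Field K] [Field L] [Algebra A K] [Algebra K L] [Algebra A L]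
    [IsScalarTower A K L] [IsPurelyInseparable K L] (d : ℕ) (hd : Module.finrank K L ∣ d)
    (ψ : B →ₐ[A] L) (x : ⨂[A] _ : Fin d, B) (hx : x ∈ SymTen.TS A B d) :
    ψ (PiTensorProduct.lift (MultilinearMap.mkPiAlgebra A (Fin d) B) x) ∈
      (algebraMap K L).range := by
  by_cases hK : Finite K
  · -- finite fields are perfect: the extension is trivial
    have hs : Function.Surjective (algebraMap K L) :=
      IsPurelyInseparable.surjective_algebraMap_of_isSeparable K L
    exact hs _
  · have hKinf : Infinite K := not_finite_iff_infinite.mp hK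
    let ψK : K ⊗[A] B →ₐ[K] L :=
      Algebra.TensorProduct.lift (Algebra.ofId K L) ψ (fun _ _ => Commute.all _ _)
    have hψK : ∀ b : B, ψK ((1 : K) ⊗ₜ[A] b) = ψ b := by
      intro b
      simp [ψK]
    let mK := PiTensorProduct.lift (MultilinearMap.mkPiAlgebra K (Fin d) (K ⊗[A] B))
    -- compatibility of the multiplication maps with base change
    have hcompat : ∀ t : ⨂[A] _ : Fin d, B,
        ψ (PiTensorProduct.lift (MultilinearMap.mkPiAlgebra A (Fin d) B) t) =
          ψK (mK (thetaB A B K d t)) := by
      intro t
      induction t using PiTensorProduct.induction_on with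
      | smul_tprod r f =>
        have e1 : ψ (PiTensorProduct.lift (MultilinearMap.mkPiAlgebra A (Fin d) B)
            (r • PiTensorProduct.tprod A f)) = r • ∏ i, ψ (f i) := by
          rw [map_smul, map_smul, PiTensorProduct.lift.tprod, MultilinearMap.mkPiAlgebra_apply,
            map_prod]
        have e2 : thetaB A B K d (r • PiTensorProduct.tprod A f) =
            (algebraMap A K r) • PiTensorProduct.tprod K (fun i => (1 : K) ⊗ₜ[A] f i) := by
          rw [map_smul, thetaB_tprod, algebraMap_smul]
        rw [e1, e2, map_smul, map_smul, PiTensorProduct.lift.tprod,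
          MultilinearMap.mkPiAlgebra_apply, map_prod, algebraMap_smul]
        congr 1
        exact Finset.prod_congr rfl (fun i _ => (hψK (f i)).symm)
      | add t₁ t₂ h₁ h₂ => simp only [map_add, h₁, h₂]
    rw [hcompat x]
    have hy := thetaB_mem_TS A B K d hx
    have hspan := Groth.Agent.Lib.Seat61.SymTensor.mem_span_tprod_const_of_symmetric
      (thetaB A B K d x) hy
    let Λ : (⨂[K] _ : Fin d, K ⊗[A] B) →ₗ[K] L := ψK.toLinearMap ∘ₗ mK
    let R : Submodule K L := LinearMap.range (Algebra.linearMap K L)
    have hle : Submodule.span K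
        (Set.range fun v : K ⊗[A] B => PiTensorProduct.tprod K (fun _ : Fin d => v)) ≤
          R.comap Λ := by
      rw [Submodule.span_le]
      rintro _ ⟨v, rfl⟩
      show Λ (PiTensorProduct.tprod K fun _ : Fin d => v) ∈ R
      have h1 : Λ (PiTensorProduct.tprod K fun _ : Fin d => v) = (ψK v) ^ d := by
        show ψK (mK (PiTensorProduct.tprod K fun _ : Fin d => v)) = _
        rw [PiTensorProduct.lift.tprod, MultilinearMap.mkPiAlgebra_apply, Finset.prod_const,
          Finset.card_univ, Fintype.card_fin, map_pow]
      rw [h1]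
      obtain ⟨w, hw⟩ := pow_mem_range_of_finrank_dvd K L hd (ψK v)
      exact ⟨w, hw⟩
    obtain ⟨w, hw⟩ := hle hspan
    exact ⟨w, hw⟩

/-- **Symmetric tensors and purely inseparable extensions**, in terms of ring maps only:
for compatible ring maps `A → K`, `j : K → L`, `ψ : B → L` with `j` purely inseparable of degree
dividing `d`, the image of `m_d(x)`, `x ∈ TS^d_A(B)`, lies in the image of `K`. -/
theorem mem_range_of_TS (A B : Type u) [CommRing A] [CommRing B] [Algebra A B]
    (K L : Type u) [Field K] [Field L] (ιK : A →+* K) (j : K →+* L) (ψ : B →+* L)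
    (hψ : ψ.comp (algebraMap A B) = j.comp ιK)
    (hpi : @IsPurelyInseparable K L _ _ j.toAlgebra) (d : ℕ)
    (hd : @Module.finrank K L _ _ j.toAlgebra.toModule ∣ d)
    (x : ⨂[A] _ : Fin d, B) (hx : x ∈ SymTen.TS A B d) :
    ψ (PiTensorProduct.lift (MultilinearMap.mkPiAlgebra A (Fin d) B) x) ∈ j.range := by
  let _ : Algebra A K := ιK.toAlgebra
  let _ : Algebra K L := j.toAlgebra
  let _ : Algebra A L := (j.comp ιK).toAlgebra
  have : IsScalarTower A K L := IsScalarTower.of_algebraMap_eq (fun _ => rfl)
  let ψ' : B →ₐ[A] L := { ψ with commutes' := fun a => congr($hψ a) }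
  exact algHom_mul_mem_range A B K L d hd ψ' x hx

end Groth.Agent.Lib.Seat74.SymPow
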