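import Mathlib
import Groth.Agent.Lib.Seat36GeomRedProd

/-!
# Seat 74: tensor powers of a geometrically reduced algebra stay reduced after base change to fields

* `tpowSuccEquiv`, `tpowZeroEquiv` : `T^{d+1}_A(B) ≃ₐ T^d_A(B) ⊗ B`, `T^0_A(B) ≃ₐ A`.
* `isReduced_tensor_tpow` : if `K ⊗[A] B` is reduced for every field `K` over `A`, then so is
  `K ⊗[A] T^d_A(B)`.
-/

set_option autoImplicit false
universe u
open TensorProduct PiTensorProduct

namespace Groth.Agent.Lib.Seat74.TPowRed

section equivs
variable (A : Type u) [CommRing A] (B : Type u) [CommRing B] [Algebra A B]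

/-- multiplicativity of a linear map out of a tensor power can be checked on pure tensors -/
theorem piTensor_map_mul {ι : Type*} {C : Type*} [Ring C] [Algebra A C]
    (E : (⨂[A] _ : ι, B) →ₗ[A] C)
    (h : ∀ x y : ι → B, E (tprod A x * tprod A y) = E (tprod A x) * E (tprod A y))
    (x y : ⨂[A] _ : ι, B) : E (x * y) = E x * E y := by
  induction x using PiTensorProduct.induction_on with
  | smul_tprod r x =>
    induction y using PiTensorProduct.induction_on with
    | smul_tprod s y =>
      rw [smul_mul_smul_comm, map_smul, map_smul, map_smul, h, smul_mul_smul_comm]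
    | add y z hy hz => rw [mul_add, map_add, map_add, mul_add, hy, hz]
  | add x z hx hz => rw [add_mul, map_add, map_add, add_mul, hx, hz]

/-- `B^{⊗(a+b)} ≅ B^{⊗a} ⊗ B^{⊗b}` -/
noncomputable def tpowAddEquiv (a b : ℕ) :
    (⨂[A] _ : Fin (a + b), B) ≃ₐ[A] (⨂[A] _ : Fin a, B) ⊗[A] (⨂[A] _ : Fin b, B) :=
  AlgEquiv.ofLinearEquiv
    ((reindex A (fun _ : Fin (a + b) => B) finSumFinEquiv.symm).trans (tmulEquiv A B).symm)
    (by
      rw [PiTensorProduct.one_def]
      simp [Algebra.TensorProduct.one_def, PiTensorProduct.one_def]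
      rfl)
    (by
      apply piTensor_map_mul
      intro x y
      simp [tprod_mul_tprod]
      rfl)

/-- `B^{⊗1} ≅ B` -/
noncomputable def tpowOneEquiv : (⨂[A] _ : Fin 1, B) ≃ₐ[A] B :=
  AlgEquiv.ofLinearEquiv (subsingletonEquiv (0 : Fin 1))
    (by rw [PiTensorProduct.one_def, subsingletonEquiv_apply_tprod]; rfl)
    (by
      apply piTensor_map_mul
      intro x y
      simp [tprod_mul_tprod])

/-- `B^{⊗0} ≅ A` -/
noncomputable def tpowZeroEquiv : (⨂[A] _ : Fin 0, B) ≃ₐ[A] A :=
  AlgEquiv.ofLinearEquiv (isEmptyEquiv (Fin 0))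
    (by rw [PiTensorProduct.one_def, isEmptyEquiv_apply_tprod])
    (by
      apply piTensor_map_mul
      intro x y
      simp [tprod_mul_tprod])

end equivs

section red

/-- base change commutes with tensor products, as algebras -/
noncomputable def distribBC (k L B C : Type*) [CommRing k] [CommRing L] [Algebra k L]
    [CommRing B] [Algebra k B] [CommRing C] [Algebra k C] :
    L ⊗[k] (B ⊗[k] C) ≃ₐ[L] (L ⊗[k] B) ⊗[L] (L ⊗[k] C) :=
  AlgEquiv.ofLinearEquiv (TensorProduct.AlgebraTensorModule.distribBaseChange k L B C)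
    (by simp [Algebra.TensorProduct.one_def])
    ((LinearMap.map_mul_iff _).mpr <| by ext; simp)

variable {A : Type u} [CommRing A] {B : Type u} [CommRing B] [Algebra A B]

/-- if all field base changes of `B` are reduced, then each `K ⊗[A] B` is geometrically reduced
over `K` -/
theorem isGeometricallyReduced_baseChange
    (hred : ∀ (K : Type u) [Field K] [Algebra A K], IsReduced (K ⊗[A] B))
    (K : Type u) [Field K] [Algebra A K] : Algebra.IsGeometricallyReduced K (K ⊗[A] B) := by
  rw [Algebra.isGeometricallyReduced_field_iff]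
  have := hred (AlgebraicClosure K)
  exact isReduced_of_injective
    (Algebra.TensorProduct.cancelBaseChange A K K (AlgebraicClosure K) B)
    (AlgEquiv.injective _)

/-- if all field base changes of `B` are reduced, then so are all field base changes of the
tensor powers `T^d_A(B)` -/
theorem isReduced_tensor_tpow
    (hred : ∀ (K : Type u) [Field K] [Algebra A K], IsReduced (K ⊗[A] B)) (d : ℕ)
    (K : Type u) [Field K] [Algebra A K] : IsReduced (K ⊗[A] (⨂[A] _ : Fin d, B)) := by
  induction d with
  | zero =>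
    let e : K ⊗[A] (⨂[A] _ : Fin 0, B) ≃ₐ[A] K :=
      (Algebra.TensorProduct.congr AlgEquiv.refl (tpowZeroEquiv A B)).trans
        (Algebra.TensorProduct.rid A A K)
    exact isReduced_of_injective e e.injective
  | succ d ih =>
    have hg := isGeometricallyReduced_baseChange hred K
    have h1 : IsReduced ((K ⊗[A] (⨂[A] _ : Fin d, B)) ⊗[K] (K ⊗[A] B)) :=
      Groth.Agent.Lib.Seat36.GeomRedProd.isReduced_tensor_of_isReduced_of_isGeometricallyReduced
        K _ _
    let e1 : K ⊗[A] (⨂[A] _ : Fin (d + 1), B) ≃ₐ[A] K ⊗[A] ((⨂[A] _ : Fin d, B) ⊗[A] B) :=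
      Algebra.TensorProduct.congr AlgEquiv.refl
        ((tpowAddEquiv A B d 1).trans
          (Algebra.TensorProduct.congr AlgEquiv.refl (tpowOneEquiv A B)))
    let e2 := distribBC A K (⨂[A] _ : Fin d, B) B
    exact isReduced_of_injective ((e2.toRingEquiv.toRingHom).comp e1.toRingEquiv.toRingHom)
      (e2.injective.comp e1.injective)

end red

end Groth.Agent.Lib.Seat74.TPowRed
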