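import Mathlib
import Groth.Prelude.Def_SymTen
import Groth.Agent.Lib.Helper14FlatStage2
import Groth.Agent.Lib.Helper14TSFree

/-!
# Seat 74: `TS^d_A(B) ⊆ T^d_A(B)` is pure when `B` is flat

* `free_case` : for a finite free module, a symmetric tensor lying in `I • T^d` is an `I`-combination
  of the orbit sums `symT`.
* `mem_smul_TS` : for flat `B`, `TS^d(B) ∩ I • T^d(B) ⊆ I • TS^d(B)`.
* `lTensor_TS_injective` : for a field `K` over `A`, `K ⊗ TS^d(B) → K ⊗ T^d(B)` is injective.
-/

set_option autoImplicit false
universe u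
open TensorProduct

namespace Groth.Agent.Lib.Seat74.TSPure

open Groth.Agent.Lib.Helper14.FlatStage Groth.Agent.Lib.Helper14.TSFree

section free
variable (A : Type u) [CommRing A] (d m : ℕ)

/-- coefficients of an element of `I • ⊤` with respect to a basis lie in `I` -/
lemma repr_mem_of_mem_smul_top {ι M : Type*} [AddCommGroup M] [Module A M]
    (b : Module.Basis ι A M) (I : Ideal A) {x : M} (hx : x ∈ I • (⊤ : Submodule A M)) (i : ι) :
    b.repr x i ∈ I := by
  rw [← b.span_eq, Submodule.mem_ideal_smul_span_iff_exists_sum] at hx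
  obtain ⟨a, ha, rfl⟩ := hx
  have : b.repr (a.sum fun i c => c • b i) = a := by
    have h1 : (a.sum fun i c => c • b i) = Finsupp.linearCombination A b a := by
      rw [Finsupp.linearCombination_apply]
    rw [h1, b.repr_linearCombination]
  rw [this]
  exact ha i

theorem free_case (I : Ideal A) (w : ⨂[A] _ : Fin d, (Fin m → A))
    (hsym : ∀ σ : Equiv.Perm (Fin d),
      PiTensorProduct.reindex A (fun _ : Fin d => (Fin m → A)) σ w = w)
    (hI : w ∈ I • (⊤ : Submodule A (⨂[A] _ : Fin d, (Fin m → A)))) :
    ∃ g : (Fin d → Fin m) → A, (∀ c, g c ∈ I) ∧ w = ∑ c, g c • symT A d m (type c) := by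
  classical
  refine ⟨fun c => if c = rep d m c then (bTb A d m).repr w c else 0, fun c => ?_,
    symm_decomp A d m hsym⟩
  beta_reduce
  split_ifs
  · exact repr_mem_of_mem_smul_top A (bTb A d m) I hI c
  · exact I.zero_mem

end free

section flat
variable {A : Type u} [CommRing A] {B : Type u} [CommRing B] [Algebra A B] [Module.Flat A B]
  (d : ℕ)

omit [Module.Flat A B] in
/-- the image of a symmetric tensor under a tensor power map is symmetric -/
lemma Tmap_mem_TS {X : Type u} [AddCommGroup X] [Module A X] (f : X →ₗ[A] B)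
    (z : ⨂[A] _ : Fin d, X)
    (hz : ∀ σ : Equiv.Perm (Fin d), PiTensorProduct.reindex A (fun _ : Fin d => X) σ z = z) :
    Tmap d f z ∈ SymTen.TS A B d := by
  rw [SymTen.mem_TS_iff]
  intro σ
  rw [← Tmap_reindex, hz σ]

/-- **Ideal criterion**: for flat `B`, `TS^d(B) ∩ I • T^d(B) ⊆ I • TS^d(B)`. -/
theorem mem_smul_TS (I : Ideal A) (t : ⨂[A] _ : Fin d, B) (ht : t ∈ SymTen.TS A B d)
    (hI : t ∈ I • (⊤ : Submodule A (⨂[A] _ : Fin d, B))) :
    t ∈ I • (Subalgebra.toSubmodule (SymTen.TS A B d)) := by
  classical
  have hspan : (⊤ : Submodule A (⨂[A] _ : Fin d, B)) =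
      Submodule.span A (Set.range (id : (⨂[A] _ : Fin d, B) → _)) := by
    rw [Set.range_id, Submodule.span_univ]
  rw [hspan, Submodule.mem_ideal_smul_span_iff_exists_sum] at hI
  obtain ⟨a, ha, hat⟩ := hI
  -- represent `t` and the tensors in the support of `a` on a common stage
  let tt : Option (⨂[A] _ : Fin d, B) → ⨂[A] _ : Fin d, B := fun o => o.elim t id
  obtain ⟨κ, _, _, u, z, hz⟩ := exists_rep_family (A := A) (M := B) d
    (Finset.insertNone a.support) tt
  have hz0 : Tmap d u (z none) = t := hz none (by simp)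
  have hzx : ∀ x ∈ a.support, Tmap d u (z (some x)) = x := fun x hx =>
    hz (some x) (by simpa using hx)
  -- the relations to be killed
  let zz : Option (Equiv.Perm (Fin d)) → ⨂[A] _ : Fin d, (κ → A) := fun o =>
    o.elim (z none - ∑ x ∈ a.support, a x • z (some x))
      (fun σ => PiTensorProduct.reindex A (fun _ : Fin d => (κ → A)) σ (z none) - z none)
  have hzz : ∀ o ∈ (Finset.univ : Finset (Option (Equiv.Perm (Fin d)))),
      Tmap d u (zz o) = 0 := by
    intro o _
    cases o with
    | none =>
      show Tmap d u (z none - ∑ x ∈ a.support, a x • z (some x)) = 0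
      rw [map_sub, map_sum, hz0, sub_eq_zero, ← hat, Finsupp.sum]
      refine Finset.sum_congr rfl (fun x hx => ?_)
      rw [map_smul, hzx x hx]
      rfl
    | some σ =>
      show Tmap d u (PiTensorProduct.reindex A (fun _ : Fin d => (κ → A)) σ (z none) - z none) = 0
      rw [map_sub, Tmap_reindex, hz0, (SymTen.mem_TS_iff A B d t).mp ht σ, sub_self]
  obtain ⟨κ', _, _, α, y, hy, hα⟩ := exists_factor_of_forall_map_eq_zero d
    (Finset.univ : Finset (Option (Equiv.Perm (Fin d)))) u zz hzz
  -- the good representative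
  set w := Tmap d α (z none) with hw
  have hw_sym : ∀ σ : Equiv.Perm (Fin d),
      PiTensorProduct.reindex A (fun _ : Fin d => (κ' → A)) σ w = w := by
    intro σ
    have h1 := hα (some σ) (Finset.mem_univ _)
    have h2 : Tmap d α (PiTensorProduct.reindex A (fun _ : Fin d => (κ → A)) σ (z none) - z none)
        = 0 := h1
    rw [map_sub, Tmap_reindex, sub_eq_zero] at h2
    exact h2
  have hw_eq : w = ∑ x ∈ a.support, a x • Tmap d α (z (some x)) := by
    have h1 := hα none (Finset.mem_univ _)
    have h2 : Tmap d α (z none - ∑ x ∈ a.support, a x • z (some x)) = 0 := h1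
    rw [map_sub, sub_eq_zero, map_sum] at h2
    rw [hw, h2]
    exact Finset.sum_congr rfl (fun x _ => map_smul _ _ _)
  have hw_t : Tmap d y w = t := by
    rw [hw, ← Tmap_comp, hy, hz0]
  -- pass to `Fin n`
  let e : κ' ≃ Fin (Fintype.card κ') := Fintype.equivFin κ'
  let L : (Fin (Fintype.card κ') → A) ≃ₗ[A] (κ' → A) := LinearEquiv.funCongrLeft A A e
  set w' := Tmap d L.symm.toLinearMap w with hw'
  have hw'_sym : ∀ σ : Equiv.Perm (Fin d),
      PiTensorProduct.reindex A (fun _ : Fin d => (Fin (Fintype.card κ') → A)) σ w' = w' := by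
    intro σ
    rw [hw', ← Tmap_reindex, hw_sym σ]
  have hw'_I : w' ∈ I • (⊤ : Submodule A (⨂[A] _ : Fin d, (Fin (Fintype.card κ') → A))) := by
    rw [hw', hw_eq, map_sum]
    refine Submodule.sum_mem _ (fun x _ => ?_)
    rw [map_smul]
    exact Submodule.smul_mem_smul (ha x) Submodule.mem_top
  obtain ⟨g, hg, hwg⟩ := free_case A d (Fintype.card κ') I w' hw'_sym hw'_I
  have hLL : Tmap d L.toLinearMap w' = w := by
    rw [hw', ← Tmap_comp]
    have : L.toLinearMap ∘ₗ L.symm.toLinearMap = LinearMap.id := by
      ext x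
      simp
    rw [this, Tmap_id]
  have ht_eq : t = ∑ c, g c • Tmap d (y ∘ₗ L.toLinearMap) (symT A d (Fintype.card κ') (type c)) := by
    rw [← hw_t, ← hLL, ← Tmap_comp, hwg, map_sum]
    exact Finset.sum_congr rfl (fun c _ => map_smul _ _ _)
  rw [ht_eq]
  refine Submodule.sum_mem _ (fun c _ => ?_)
  refine Submodule.smul_mem_smul (hg c) ?_
  exact Tmap_mem_TS d _ _ (fun σ => reindex_symT A d _ σ _)

/-- injectivity of `TS ⊆ T` modulo any ideal -/
theorem quot_lTensor_TS_injective (I : Ideal A) :
    Function.Injective ((Subalgebra.toSubmodule (SymTen.TS A B d)).subtype.lTensor (A ⧸ I)) := by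
  rw [injective_iff_map_eq_zero]
  intro x hx
  obtain ⟨n, rfl⟩ := TensorProduct.mk_surjective A _ (A ⧸ I) Ideal.Quotient.mk_surjective x
  simp only [TensorProduct.mk_apply, LinearMap.lTensor_tmul, Submodule.subtype_apply] at hx ⊢
  have h1 : (n : ⨂[A] _ : Fin d, B) ∈ I • (⊤ : Submodule A (⨂[A] _ : Fin d, B)) := by
    have := congrArg (TensorProduct.quotTensorEquivQuotSMul _ I) hx
    rw [TensorProduct.quotTensorEquivQuotSMul_mk_one_tmul, map_zero,
      Submodule.Quotient.mk_eq_zero] at this
    exact this
  have h2 := mem_smul_TS (A := A) (B := B) d I (n : ⨂[A] _ : Fin d, B) n.2 h1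
  apply (TensorProduct.quotTensorEquivQuotSMul _ I).injective
  rw [TensorProduct.quotTensorEquivQuotSMul_mk_one_tmul, map_zero, Submodule.Quotient.mk_eq_zero]
  exact (Submodule.mem_smul_top_iff I _ n).mpr h2

end flat

section field

/-- a field is flat over any domain mapping injectively to it -/
theorem flat_of_injective_of_field (D K : Type u) [CommRing D] [IsDomain D] [Field K] [Algebra D K]
    (hinj : Function.Injective (algebraMap D K)) : Module.Flat D K := by
  let _ : Algebra (FractionRing D) K := (IsFractionRing.lift hinj).toAlgebra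
  have : IsScalarTower D (FractionRing D) K :=
    IsScalarTower.of_algebraMap_eq (fun x => (IsFractionRing.lift_algebraMap hinj x).symm)
  have : Module.Flat D (FractionRing D) := IsLocalization.flat _ (nonZeroDivisors D)
  exact Module.Flat.trans D (FractionRing D) K

variable {A : Type u} [CommRing A] (K : Type u) [Field K] [Algebra A K]
  {N M : Type u} [AddCommGroup N] [Module A N] [AddCommGroup M] [Module A M]

/-- If `N → M` stays injective modulo the kernel of `A → K`, it stays injective after `K ⊗ -`. -/
theorem lTensor_field_injective (f : N →ₗ[A] M)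
    (hf : Function.Injective (f.lTensor (A ⧸ RingHom.ker (algebraMap A K)))) :
    Function.Injective (f.lTensor K) := by
  set p := RingHom.ker (algebraMap A K) with hp
  let _ : Algebra (A ⧸ p) K := (RingHom.kerLift (algebraMap A K)).toAlgebra
  have : IsScalarTower A (A ⧸ p) K := IsScalarTower.of_algebraMap_eq (fun a => rfl)
  have : p.IsPrime := RingHom.ker_isPrime _
  have : Module.Flat (A ⧸ p) K :=
    flat_of_injective_of_field (A ⧸ p) K (RingHom.kerLift_injective (algebraMap A K))
  -- the base-changed map is injective, and stays so after `K ⊗[D] -`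
  have h1 : Function.Injective (f.baseChange (A ⧸ p)) := by
    rw [LinearMap.baseChange_eq_ltensor]
    exact hf
  have h2 : Function.Injective ((f.baseChange (A ⧸ p)).lTensor K) :=
    Module.Flat.lTensor_preserves_injective_linearMap _ h1
  -- naturality of `cancelBaseChange`
  have hnat : ∀ z : K ⊗[A ⧸ p] ((A ⧸ p) ⊗[A] N),
      TensorProduct.AlgebraTensorModule.cancelBaseChange A (A ⧸ p) K K M
          ((f.baseChange (A ⧸ p)).lTensor K z) =
        f.lTensor K (TensorProduct.AlgebraTensorModule.cancelBaseChange A (A ⧸ p) K K N z) := by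
    intro z
    induction z using TensorProduct.induction_on with
    | zero => simp
    | add x y hx hy => simp only [map_add, hx, hy]
    | tmul k w =>
      induction w using TensorProduct.induction_on with
      | zero => simp
      | add x y hx hy => simp only [TensorProduct.tmul_add, map_add, hx, hy]
      | tmul a n => simp
  intro x y hxy
  have hx := (TensorProduct.AlgebraTensorModule.cancelBaseChange A (A ⧸ p) K K N).surjective x
  have hy := (TensorProduct.AlgebraTensorModule.cancelBaseChange A (A ⧸ p) K K N).surjective y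
  obtain ⟨x', rfl⟩ := hx
  obtain ⟨y', rfl⟩ := hy
  rw [← hnat, ← hnat] at hxy
  have := h2 ((TensorProduct.AlgebraTensorModule.cancelBaseChange A (A ⧸ p) K K M).injective hxy)
  rw [this]

end field

section main
variable {A : Type u} [CommRing A] {B : Type u} [CommRing B] [Algebra A B] [Module.Flat A B]
  (d : ℕ) (K : Type u) [Field K] [Algebra A K]

/-- **Purity of `TS ⊆ T` against fields.** -/
theorem lTensor_TS_injective :
    Function.Injective ((Subalgebra.toSubmodule (SymTen.TS A B d)).subtype.lTensor K) :=
  lTensor_field_injective K _ (quot_lTensor_TS_injective d _)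

end main

end Groth.Agent.Lib.Seat74.TSPure
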