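import Mathlib

/-!
# A criterion for colimits of sheaves of modules (helper75)

Let `D : K ⥤ SheafOfModules R` and let `c` be a cocone of `D`.  If the canonical map from the
colimit of the underlying presheaves of modules to the underlying presheaf of `c.pt` is locally
injective and locally surjective, then `c` is a colimit cocone.

* `isIso_sheafification_map`: a locally bijective map of presheaves of modules becomes an
  isomorphism after sheafification.
* `isColimit_of_locallyBijective`: the criterion.
-/

set_option autoImplicit false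
set_option linter.style.haveILetI false
universe w w' v v' u u'

open CategoryTheory Category Limits

namespace Groth.Agent.Lib.Seat75.ColimCrit

variable {C : Type u'} [Category.{v'} C] {J : GrothendieckTopology C} (R : Sheaf J RingCat.{u})
  [HasWeakSheafify J AddCommGrpCat.{v}] [J.WEqualsLocallyBijective AddCommGrpCat.{v}]

open PresheafOfModules

theorem isIso_sheafification_map {P Q : PresheafOfModules.{v} R.obj} (θ : P ⟶ Q)
    (h1 : Presheaf.IsLocallyInjective J ((toPresheaf R.obj).map θ))
    (h2 : Presheaf.IsLocallySurjective J ((toPresheaf R.obj).map θ)) :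
    IsIso ((sheafification.{v} (𝟙 R.obj)).map θ) := by
  rw [← isIso_iff_of_reflects_iso _ (SheafOfModules.toSheaf.{v} R)]
  change IsIso ((presheafToSheaf J AddCommGrpCat.{v}).map ((toPresheaf R.obj).map θ))
  rw [← GrothendieckTopology.W_iff, GrothendieckTopology.W_iff_isLocallyBijective]
  exact ⟨h1, h2⟩

variable {K : Type w} [Category.{w'} K]

theorem isColimit_of_locallyBijective (D : K ⥤ SheafOfModules.{v} R) (c : Cocone D)
    [HasColimit (D ⋙ SheafOfModules.forget R)]
    (h1 : Presheaf.IsLocallyInjective J ((toPresheaf R.obj).map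
      (colimit.desc (D ⋙ SheafOfModules.forget R) ((SheafOfModules.forget R).mapCocone c))))
    (h2 : Presheaf.IsLocallySurjective J ((toPresheaf R.obj).map
      (colimit.desc (D ⋙ SheafOfModules.forget R) ((SheafOfModules.forget R).mapCocone c)))) :
    Nonempty (IsColimit c) := by
  set Φ := sheafification.{v} (𝟙 R.obj) with hΦ
  set adj := sheafificationAdjunction.{v} (𝟙 R.obj) with hadj
  set θ := colimit.desc (D ⋙ SheafOfModules.forget R) ((SheafOfModules.forget R).mapCocone c)
    with hθ
  have hθiso : IsIso (Φ.map θ) := isIso_sheafification_map R θ h1 h2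
  -- the colimit cocone obtained by sheafification
  let e : D ≅ (D ⋙ SheafOfModules.forget R) ⋙ Φ :=
    Functor.isoWhiskerLeft D (asIso adj.counit).symm
  have hc₁ : IsColimit (Φ.mapCocone (colimit.cocone (D ⋙ SheafOfModules.forget R))) :=
    isColimitOfPreserves Φ (colimit.isColimit _)
  let c₁ : Cocone D := (Cocone.precompose e.hom).obj
    (Φ.mapCocone (colimit.cocone (D ⋙ SheafOfModules.forget R)))
  have hc₁' : IsColimit c₁ := (IsColimit.precomposeHomEquiv e _).symm hc₁
  -- comparison with `c`
  let cu : ∀ M : SheafOfModules.{v} R, Φ.obj ((SheafOfModules.forget R).obj M) ⟶ M :=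
    fun M => adj.counit.app M
  haveI hcu : ∀ M, IsIso (cu M) := fun M => by
    change IsIso (adj.counit.app M)
    infer_instance
  let φ : c₁.pt ⟶ c.pt := Φ.map θ ≫ cu c.pt
  haveI : IsIso φ := IsIso.comp_isIso
  refine ⟨IsColimit.ofIsoColimit hc₁' (Cocone.ext (asIso φ) (fun k => ?_))⟩
  have h3 : c₁.ι.app k = inv (cu (D.obj k)) ≫
      Φ.map (colimit.ι (D ⋙ SheafOfModules.forget R) k) := by
    change (asIso adj.counit).symm.hom.app (D.obj k) ≫ _ = _
    congr 1
    change (inv adj.counit).app (D.obj k) = inv (adj.counit.app (D.obj k))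
    exact NatIso.isIso_inv_app adj.counit (D.obj k)
  have h4 : Φ.map ((SheafOfModules.forget R).map (c.ι.app k)) ≫ cu c.pt =
      cu (D.obj k) ≫ c.ι.app k := adj.counit.naturality (c.ι.app k)
  change c₁.ι.app k ≫ φ = c.ι.app k
  have h5 : colimit.ι (D ⋙ SheafOfModules.forget R) k ≫ θ =
      (SheafOfModules.forget R).map (c.ι.app k) := colimit.ι_desc _ _
  rw [h3, Category.assoc]
  change inv (cu (D.obj k)) ≫ Φ.map (colimit.ι (D ⋙ SheafOfModules.forget R) k) ≫
    Φ.map θ ≫ cu c.pt = _
  rw [← Category.assoc (Φ.map _), ← Φ.map_comp, h5, h4, IsIso.inv_hom_id_assoc]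

end Groth.Agent.Lib.Seat75.ColimCrit
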