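import Mathlib
import Groth.Agent.Lib.Seat75ColimCrit

/-!
# A sectionwise criterion for sequential colimits of `O_X`-modules (helper75)

`isColimit_of_sections`: a cocone `c` of a sequence `D : ℕ ⥤ X.Modules` is a colimit cocone as soon as
(inj) a section of `D n` killed by the leg of `c` is killed by a transition map, and
(surj) every section of `c.pt` is locally in the image of some leg.
-/

set_option autoImplicit false
set_option linter.style.haveILetI false
universe u

open CategoryTheory Category Limits AlgebraicGeometry TopologicalSpace Opposite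

namespace Groth.Agent.Lib.Seat75.ColimCrit

variable {X : Scheme.{u}}

theorem isColimit_of_sections (D : ℕ ⥤ X.Modules) (c : Cocone D)
    (hinj : ∀ (n : ℕ) (W : X.Opens) (t : Γ(D.obj n, W)), (c.ι.app n).app W t = 0 →
      ∃ (m : ℕ) (h : n ≤ m), (D.map (homOfLE h)).app W t = 0)
    (hsurj : ∀ (W : X.Opens) (b : Γ(c.pt, W)) (x : X), x ∈ W →
      ∃ (W' : X.Opens) (h : W' ≤ W) (_ : x ∈ W') (n : ℕ) (t : Γ(D.obj n, W')),
        (c.ι.app n).app W' t = c.pt.presheaf.map (homOfLE h).op b) :
    Nonempty (IsColimit c) := by
  set D' := D ⋙ SheafOfModules.forget X.ringCatSheaf with hD'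
  set θ := colimit.desc D' ((SheafOfModules.forget X.ringCatSheaf).mapCocone c) with hθ
  -- representatives of sections of the presheaf colimit
  have hrep : ∀ (W : (Opens X)ᵒᵖ) (p : ((colimit D').obj W : Type u)),
      ∃ (n : ℕ) (t : Γ(D.obj n, W.unop)), ((colimit.ι D' n).app W).hom t = p := by
    intro W p
    have hE : IsColimit ((PresheafOfModules.evaluation X.ringCatSheaf.obj W).mapCocone
        (colimit.cocone D')) := isColimitOfPreserves _ (colimit.isColimit D')
    haveI h00 : PreservesFilteredColimitsOfSize.{0, 0}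
        (forget (ModuleCat.{u} (X.ringCatSheaf.obj.obj W))) :=
      preservesSmallestFilteredColimits_of_preservesFilteredColimits _
    haveI : PreservesColimitsOfShape ℕ (forget (ModuleCat.{u} (X.ringCatSheaf.obj.obj W))) :=
      h00.preserves_filtered_colimits ℕ
    obtain ⟨n, t, ht⟩ := Concrete.isColimit_exists_rep
      (D' ⋙ PresheafOfModules.evaluation X.ringCatSheaf.obj W) hE p
    exact ⟨n, t, ht⟩
  have hfac : ∀ (W : (Opens X)ᵒᵖ) (n : ℕ) (t : Γ(D.obj n, W.unop)),
      (θ.app W).hom (((colimit.ι D' n).app W).hom t) = (c.ι.app n).app W.unop t := by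
    intro W n t
    have h := colimit.ι_desc ((SheafOfModules.forget X.ringCatSheaf).mapCocone c) n
    have h2 := congrArg (fun f => (PresheafOfModules.Hom.app f W).hom t) h
    exact h2
  refine isColimit_of_locallyBijective X.ringCatSheaf D c ?_ ?_
  · apply Presheaf.isLocallyInjective_of_injective
    intro W
    have hinj' : Function.Injective
        (((PresheafOfModules.toPresheaf X.ringCatSheaf.obj).map θ).app W).hom := by
      rw [injective_iff_map_eq_zero]
      intro p hp
      obtain ⟨n, t, rfl⟩ := hrep W p
      have h1 : (c.ι.app n).app W.unop t = 0 := by rw [← hfac W n t]; exact hp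
      obtain ⟨m, hnm, hm⟩ := hinj n W.unop t h1
      have h2 := colimit.w D' (homOfLE hnm)
      have h3 := congrArg (fun f => (PresheafOfModules.Hom.app f W).hom t) h2
      have h4 : ((colimit.ι D' m).app W).hom ((D.map (homOfLE hnm)).app W.unop t) =
          ((colimit.ι D' n).app W).hom t := h3
      rw [← h4, hm]
      exact map_zero (ModuleCat.Hom.hom ((colimit.ι D' m).app W))
    exact hinj'
  · refine ⟨fun {W} b => ?_⟩
    intro x hx
    obtain ⟨W', h, hxW', n, t, ht⟩ := hsurj W b x hx
    refine ⟨W', homOfLE h, ?_, hxW'⟩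
    exact ⟨((colimit.ι D' n).app (op W')).hom t, (hfac (op W') n t).trans ht⟩

end Groth.Agent.Lib.Seat75.ColimCrit
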