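import Groth.Agent.Lib.Seat75DualFrame
import Groth.Agent.Lib.Helper23SecTw6

/-!
# The dual of an invertible module is its inverse (helper75)

`nonempty_dual_tensor_iso`: for an invertible module `L` on any scheme,
`RefHull.dual L ⊗ L ≅ O_X`.  The isomorphism is given by the global section of `L^* ⊗ L` glued from
the local sections `e^* ⊗ e` for local frames `e` of `L`.
-/

set_option autoImplicit false
set_option linter.style.haveILetI false
set_option linter.unusedSectionVars false
universe u

open AlgebraicGeometry CategoryTheory TopologicalSpace Opposite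

namespace Groth.Agent.Lib.Seat75.DualInv

open Groth.Agent.Lib.Helper23.SecTw Groth.Agent.Lib.Helper23.GenLocus Groth.Agent.Lib.Helper6
  Groth.Agent.Lib.Helper23.Extend
  Groth.Agent.Lib.Seat75.SecOrd Groth.Agent.Lib.Seat75.DualFrame RefHull

variable {X : Scheme.{u}}

/-- a morphism `O_X ⟶ M` given by a global frame is an isomorphism. -/
theorem isIso_secHom_of_isGen (M : X.Modules) (e : Γ(M, ⊤)) (he : IsGen M ⊤ e) :
    IsIso (secHom M e) := by
  rw [Scheme.Modules.Hom.isIso_iff_isIso_app]
  intro W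
  rw [ConcreteCategory.isIso_iff_bijective]
  have hfun : ⇑((secHom M e).app W) =
      (fun r : Γ(X, W) => r • res M (le_top : W ≤ ⊤) e) ∘ (ofS W) := by
    funext b
    have h1 := app_toS (secHom M e) W (ofS W b)
    rw [toS_ofS] at h1
    rw [h1, sv_secHom]
    rfl
  rw [hfun]
  exact (he W le_top).comp ⟨fun a b h => h, fun b => ⟨b, rfl⟩⟩

/-- the dual frame of a restricted frame. -/
lemma res_dualSec (L : X.Modules) {V V' : X.Opens} {e : Γ(L, V)} (he : IsGen L V e) (h : V' ≤ V) :
    res (dual L) h (dualSec L he) = dualSec L (he.mono h) := by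
  have := dual_section_eq L (he.mono h) (le_refl V') (res (dual L) h (dualSec L he)) 1 (fun z => ?_)
  · rw [this, one_smul, res_self]
  · have hz : (res (dual L) h (dualSec L he)).1 z = dualStalk L he z.1 (h z.2) := rfl
    rw [hz, map_one, one_smul,
      TopCat.Presheaf.germ_res_apply L.presheaf (homOfLE h) z.1 z.2 e, dualStalk_gen]

/-- two frames on the same open differ by a unit. -/
lemma exists_unit_of_isGen (L : X.Modules) {W : X.Opens} {a b : Γ(L, W)} (ha : IsGen L W a)
    (hb : IsGen L W b) : ∃ g h : Γ(X, W), b = g • a ∧ a = h • b ∧ h * g = 1 := by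
  obtain ⟨g, hg⟩ := (ha W le_rfl).2 b
  obtain ⟨h, hh⟩ := (hb W le_rfl).2 a
  have hg' : g • a = b := by simpa only [res_self] using hg
  have hh' : h • b = a := by simpa only [res_self] using hh
  refine ⟨g, h, hg'.symm, hh'.symm, ?_⟩
  apply (ha W le_rfl).1
  change (h * g) • res L le_rfl a = (1 : Γ(X, W)) • res L le_rfl a
  rw [res_self, mul_smul, hg', hh', one_smul]

/-- the local section `e^* ⊗ e` does not depend on the frame `e`. -/
lemma tm_dualSec_eq (L : X.Modules) {W : X.Opens} {a b : Γ(L, W)} (ha : IsGen L W a)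
    (hb : IsGen L W b) :
    tm (dual L) L W (dualSec L hb) b = tm (dual L) L W (dualSec L ha) a := by
  obtain ⟨g, h, hba, hab, hhg⟩ := exists_unit_of_isGen L ha hb
  have hd : dualSec L hb = h • res (dual L) (le_refl W) (dualSec L ha) := by
    refine dual_section_eq L ha (le_refl W) (dualSec L hb) h (fun z => ?_)
    rw [dualSec_apply]
    have h1 : L.presheaf.germ W z.1 z.2 a = X.presheaf.germ W z.1 z.2 h • L.presheaf.germ W z.1 z.2 b := by
      conv_lhs => rw [hab]
      rw [germ_smul]
    rw [h1, dualStalk_smul_gen]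
  rw [hd, res_self, tm_smul_left]
  conv_lhs => rw [hba]
  rw [tm_smul_right, smul_smul, hhg, one_smul]

/-- **the dual of an invertible module is its inverse.** -/
theorem nonempty_dual_tensor_iso (L : X.Modules) (hL : PicF.IsInvertible L) :
    Nonempty (CohB1.tensorMod (dual L) L ≅ Coh.structureModule X) := by
  set M := CohB1.tensorMod (dual L) L with hM
  have hfr : ∀ x : X, ∃ (W : X.Opens) (e : Γ(L, W)), x ∈ W ∧ IsGen L W e := fun x => exists_gen L hL x
  choose V e hxV he using hfr
  let σ : ∀ x : X, Γ(M, V x) := fun x => tm (dual L) L (V x) (dualSec L (he x)) (e x)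
  have hσgen : ∀ x, IsGen M (V x) (σ x) := fun x =>
    isGen_tm (dual L) L (V x) _ _ (isGen_dualSec L (he x)) (he x)
  have hcov : (⊤ : X.Opens) ≤ ⨆ x : X, V x := fun y _ => Opens.mem_iSup.2 ⟨y, hxV y⟩
  have hcompat : TopCat.Presheaf.IsCompatible M.presheaf V σ := by
    intro x x'
    change res M (inf_le_left : V x ⊓ V x' ≤ V x) (σ x) = res M (inf_le_right : V x ⊓ V x' ≤ V x') (σ x')
    change res M inf_le_left (tm (dual L) L (V x) (dualSec L (he x)) (e x)) =
      res M inf_le_right (tm (dual L) L (V x') (dualSec L (he x')) (e x'))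
    rw [res_tm, res_tm, res_dualSec, res_dualSec]
    exact tm_dualSec_eq L ((he x').mono inf_le_right) ((he x).mono inf_le_left)
  obtain ⟨σ₀, hσ₀, -⟩ := (modSheaf M).existsUnique_gluing' V ⊤ (fun x => homOfLE le_top) hcov σ hcompat
  let σ₁ : Γ(M, ⊤) := σ₀
  have hσ₁ : ∀ x : X, res M (le_top : V x ≤ ⊤) σ₁ = σ x := hσ₀
  have hgen : IsGen M ⊤ σ₁ := by
    apply isGen_of_bijective_germ
    intro y _
    have h1 : M.presheaf.germ ⊤ y trivial σ₁ = M.presheaf.germ (V y) y (hxV y) (σ y) := by
      rw [← hσ₁ y]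
      exact (TopCat.Presheaf.germ_res_apply M.presheaf (homOfLE (le_top : V y ≤ ⊤)) y (hxV y) σ₁).symm
    rw [h1]
    exact bijective_smul_germ_of_isGen M (hσgen y) y (hxV y)
  haveI := isIso_secHom_of_isGen M σ₁ hgen
  exact ⟨(asIso (secHom M σ₁)).symm⟩

end Groth.Agent.Lib.Seat75.DualInv
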