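import Groth.Agent.Lib.Seat75OrdCompare
import Groth.Agent.Lib.Seat75Hartogs

/-!
# Rational functions of non-negative order are regular (helper75)

On a normal integral locally Noetherian scheme:
* `ord_algebraMap_nonneg`, `ord_algebraMap_unit`: orders of regular functions / units.
* `mem_range_of_ord_nonneg`: at a codimension one point, `0 ≤ ord_x k` implies `k ∈ O_{X,x}`.
* `mem_range_of_forall_ord_nonneg`: (Hartogs) if `0 ≤ ord_y k` at all codimension one
  generizations `y` of `z`, then `k ∈ O_{X,z}`.
* `exists_unit_of_forall_ord_eq_zero`: if all these orders vanish, `k` is a unit of `O_{X,z}`.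
-/

set_option autoImplicit false
set_option linter.style.haveILetI false
set_option linter.unusedSectionVars false
universe u

open AlgebraicGeometry CategoryTheory TopologicalSpace Opposite

namespace Groth.Agent.Lib.Seat75.OrdNonneg

open Groth.Agent.Lib.Seat75.OrdCompare Groth.Agent.Lib.Seat75.Hartogs

variable {X : Scheme.{u}} [IsIntegral X] [IsLocallyNoetherian X]

lemma ord_one (x : X) : Scheme.ord (1 : X.functionField) x = 0 := by
  have := Scheme.ord_mul (x := x) (one_ne_zero (α := X.functionField)) one_ne_zero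
  rw [mul_one] at this
  omega

lemma ord_inv (x : X) {k : X.functionField} (hk : k ≠ 0) :
    Scheme.ord k⁻¹ x = - Scheme.ord k x := by
  have := Scheme.ord_mul (x := x) hk (inv_ne_zero hk)
  rw [mul_inv_cancel₀ hk, ord_one] at this
  omega

lemma ord_pow (x : X) {k : X.functionField} (hk : k ≠ 0) (n : ℕ) :
    Scheme.ord (k ^ n) x = n * Scheme.ord k x := by
  induction n with
  | zero => simp [ord_one]
  | succ n ih =>
    rw [pow_succ, Scheme.ord_mul (pow_ne_zero n hk) hk, ih]
    push_cast
    ring

/-- regular functions have non-negative order. -/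
lemma ord_algebraMap_nonneg (x : X) (a : X.presheaf.stalk x)
    (ha : algebraMap (X.presheaf.stalk x) X.functionField a ≠ 0) :
    0 ≤ Scheme.ord (algebraMap (X.presheaf.stalk x) X.functionField a) x := by
  by_cases hx : Order.coheight x = 1
  · rw [Scheme.le_ord_iff hx ha]
    haveI : Ring.KrullDimLE 1 (X.presheaf.stalk x) := krullDimLE_of_coheight_le hx.le
    have ha0 : a ≠ 0 := by
      rintro rfl
      exact ha (map_zero _)
    exact Ring.ordFrac_ge_one_of_ne_zero ha0
  · rw [Scheme.ord_eq_zero_of_coheight_neq_one hx]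

/-- units have order zero. -/
lemma ord_algebraMap_unit (x : X) (u : (X.presheaf.stalk x)ˣ) :
    Scheme.ord (algebraMap (X.presheaf.stalk x) X.functionField u) x = 0 := by
  have hu0 : algebraMap (X.presheaf.stalk x) X.functionField u ≠ 0 := by
    rw [Ne, map_eq_zero_iff _ (IsFractionRing.injective (X.presheaf.stalk x) X.functionField)]
    exact u.ne_zero
  have hui0 : algebraMap (X.presheaf.stalk x) X.functionField (u⁻¹ : (X.presheaf.stalk x)ˣ) ≠ 0 := by
    rw [Ne, map_eq_zero_iff _ (IsFractionRing.injective (X.presheaf.stalk x) X.functionField)]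
    exact (u⁻¹).ne_zero
  have h1 := ord_algebraMap_nonneg x u hu0
  have h2 := ord_algebraMap_nonneg x (u⁻¹ : (X.presheaf.stalk x)ˣ) hui0
  have h3 := Scheme.ord_mul (x := x) hu0 hui0
  rw [← map_mul, ← Units.val_mul, mul_inv_cancel, Units.val_one, map_one, ord_one] at h3
  omega

/-- at a codimension one point of a normal scheme, functions of non-negative order are regular. -/
theorem mem_range_of_ord_nonneg (hX : Pi1.IsNormalScheme X) (x : X) (hx : Order.coheight x = 1)
    (k : X.functionField) (hk : k ≠ 0) (h : 0 ≤ Scheme.ord k x) :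
    k ∈ Set.range (algebraMap (X.presheaf.stalk x) X.functionField) := by
  haveI := isDiscreteValuationRing_stalk hX x hx
  obtain ⟨π, hπ⟩ := IsDiscreteValuationRing.exists_irreducible (X.presheaf.stalk x)
  set p : X.functionField := algebraMap (X.presheaf.stalk x) X.functionField π with hp
  have hp0 : p ≠ 0 := by
    rw [hp, Ne, map_eq_zero_iff _ (IsFractionRing.injective (X.presheaf.stalk x) X.functionField)]
    exact hπ.ne_zero
  have hp1 : Scheme.ord p x = 1 := by
    rw [Scheme.ord_eq_iff hx hp0]
    have := Ring.ordFrac_irreducible (K := X.functionField) hπ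
    rw [WithZero.exp_eq_coe_ofAdd] at this
    exact this
  obtain ⟨n, hn⟩ := Int.eq_ofNat_of_zero_le h
  set g : X.functionField := k * (p ^ n)⁻¹ with hg
  have hpn0 : p ^ n ≠ 0 := pow_ne_zero n hp0
  have hg0 : g ≠ 0 := mul_ne_zero hk (inv_ne_zero hpn0)
  have hg1 : Scheme.ord g x = 0 := by
    rw [hg, Scheme.ord_mul hk (inv_ne_zero hpn0), ord_inv x hpn0, ord_pow x hp0, hp1, hn]
    ring
  obtain ⟨u, hu⟩ := exists_unit_of_ord_eq_zero hX x hx g hg0 hg1
  refine ⟨u * π ^ n, ?_⟩
  rw [map_mul, map_pow, hu, hg, ← hp, mul_assoc, inv_mul_cancel₀ hpn0, mul_one]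

/-- **Hartogs**: a rational function with non-negative orders at all codimension one
generizations of `z` is regular at `z`. -/
theorem mem_range_of_forall_ord_nonneg (hX : Pi1.IsNormalScheme X) (z : X) (k : X.functionField)
    (hk : k ≠ 0) (h : ∀ y : X, y ⤳ z → Order.coheight y = 1 → 0 ≤ Scheme.ord k y) :
    k ∈ Set.range (algebraMap (X.presheaf.stalk z) X.functionField) :=
  local_hartogs hX z k (fun y hyz hy => mem_range_of_ord_nonneg hX y hy k hk (h y hyz hy))

/-- a rational function with vanishing orders at all codimension one generizations of `z` is a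
unit at `z`. -/
theorem exists_unit_of_forall_ord_eq_zero (hX : Pi1.IsNormalScheme X) (z : X) (k : X.functionField)
    (hk : k ≠ 0) (h : ∀ y : X, y ⤳ z → Order.coheight y = 1 → Scheme.ord k y = 0) :
    ∃ u : (X.presheaf.stalk z)ˣ, algebraMap (X.presheaf.stalk z) X.functionField u = k := by
  obtain ⟨a, ha⟩ := mem_range_of_forall_ord_nonneg hX z k hk (fun y hyz hy => (h y hyz hy).ge)
  obtain ⟨b, hb⟩ := mem_range_of_forall_ord_nonneg hX z k⁻¹ (inv_ne_zero hk) (fun y hyz hy => by
    rw [ord_inv y hk, h y hyz hy]; rfl)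
  have hab : a * b = 1 := by
    apply IsFractionRing.injective (X.presheaf.stalk z) X.functionField
    rw [map_mul, ha, hb, mul_inv_cancel₀ hk, map_one]
  exact ⟨⟨a, b, hab, (mul_comm b a).trans hab⟩, ha⟩

end Groth.Agent.Lib.Seat75.OrdNonneg
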