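import Groth.Prelude.Def_RefFun
import Groth.Agent.Lib.Seat75HomCoh
import Groth.Agent.Lib.Seat75Ref1Iso
import Groth.Agent.Lib.Seat75Lattice
import Groth.Agent.Lib.Seat75OrdNonneg
import Groth.Agent.Lib.Helper23Restr
import Groth.Agent.Lib.Helper23TensorQCoh
import Groth.Agent.Lib.Helper23Serre
import Groth.Agent.Lib.Helper18FinFlat1

/-!
# Duals and reflexive tensor products of rank one reflexive modules (helper75)

* `bidualMap_dual_comp`: the triangle identity `j_{F^*} ≫ (j_F)^* = 𝟙`.
* `isReflexive_dual`: the dual of a reflexive module is reflexive.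
* `dual_eq_zero_of_res_eq_zero`, `stalkSpecializes_injective_dual`, `hom_ext_of_generic_dual`:
  duals on integral schemes are torsion-free, and morphisms into them are determined generically.
* `isReflexive_dual_of_bijective`: a dual `P = Q^*` whose biduality map is bijective on the generic
  stalk is reflexive; `isReflexive_ddual_of_isGen`: `M^**` is reflexive if `M` has a frame near `η`.
* `genInvertible_of_isGen`, `isCoh_unit`, `isRef1_unit`, `isRef1_dual`, `isRef1_refTensor`:
  closure properties of `RefHull.IsRef1`.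
-/

set_option autoImplicit false
set_option linter.style.haveILetI false
set_option linter.unusedSectionVars false
universe u

open AlgebraicGeometry CategoryTheory TopologicalSpace Opposite

namespace Groth.Agent.Lib.Seat75.DualRefl

open Groth.Agent.Lib.Helper23.SecTw Groth.Agent.Lib.Helper23.GenLocus Groth.Agent.Lib.Helper6
  Groth.Agent.Lib.Seat75.SecOrd Groth.Agent.Lib.Seat75.DualFrame Groth.Agent.Lib.Seat75.HomExt
  Groth.Agent.Lib.Seat75.Ref1Iso Groth.Agent.Lib.Seat75.Ref1Frame Groth.Agent.Lib.Seat75.Lattice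
  Groth.Agent.Lib.Seat75.HomCoh RefHull RefFun

variable {X : Scheme.{u}}

/-- the triangle identity for biduality. -/
theorem bidualMap_dual_comp (F : X.Modules) :
    bidualMap (dual F) ≫ dualMap (bidualMap F) = 𝟙 (dual F) := by
  apply Scheme.Modules.hom_ext
  intro U
  ext s
  apply Subtype.ext
  funext x
  change ((homComap (bidualMap F) (Coh.structureModule X)).app U
    ((bidualMap (dual F)).app U s)).1 x = s.1 x
  rw [homComap_app_apply, bidualMap_app_apply]
  apply LinearMap.ext
  intro v
  rw [LinearMap.comp_apply, bidualAt_apply, evalStalk_bidualMap, bidualAt_apply, evalStalk_germ]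

/-- the dual of a reflexive module is reflexive. -/
theorem isReflexive_dual (F : X.Modules) (hF : IsReflexive F) : IsReflexive (dual F) := by
  haveI : IsIso (bidualMap F) := hF
  haveI : IsIso (dualMap (bidualMap F)) :=
    (dualIso (asIso (bidualMap F)).symm).isIso_hom
  have h := bidualMap_dual_comp F
  have : bidualMap (dual F) = inv (dualMap (bidualMap F)) := by
    rw [← cancel_mono (dualMap (bidualMap F)), h, IsIso.inv_hom_id]
  change IsIso (bidualMap (dual F))
  rw [this]
  infer_instance

section integral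
variable [IsIntegral X]

/-- sections of a dual on an integral scheme vanish if they vanish on a nonempty open subset. -/
theorem dual_eq_zero_of_res_eq_zero (M : X.Modules) {U W : X.Opens} (hW : W ≤ U)
    (hne : (W : Set X).Nonempty) (s : Γ(dual M, U)) (h : res (dual M) hW s = 0) : s = 0 := by
  apply Subtype.ext
  funext y
  change s.1 y = 0
  apply LinearMap.ext
  intro v
  rw [LinearMap.zero_apply]
  obtain ⟨U', hy', μ, rfl⟩ := M.presheaf.exists_germ_eq v
  obtain ⟨W'', hyW'', j, n, hn⟩ := isLocSect_of_mem s (U' ⊓ U) (homOfLE inf_le_right)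
    (res M inf_le_left μ) ⟨y.1, hy', y.2⟩
  have hn0 : n = 0 := by
    have hne' : ((W'' ⊓ W : X.Opens) : Set X).Nonempty :=
      nonempty_preirreducible_inter W''.isOpen W.isOpen ⟨y.1, hyW''⟩ hne
    have hz0 : res (Coh.structureModule X) (inf_le_left : W'' ⊓ W ≤ W'')
        (0 : Γ(Coh.structureModule X, W'')) = 0 := map_zero _
    apply res_structure_injective (inf_le_left : W'' ⊓ W ≤ W'') hne'
    rw [hz0]
    refine TopCat.Presheaf.section_ext (modSheaf (Coh.structureModule X)) (W'' ⊓ W) _ _
      (fun z hz => ?_)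
    have h0 : (modSheaf (Coh.structureModule X)).presheaf.germ (W'' ⊓ W) z hz 0 = 0 := map_zero _
    refine Eq.trans ?_ h0.symm
    change (Coh.structureModule X).presheaf.germ (W'' ⊓ W) z hz
      (res (Coh.structureModule X) inf_le_left n) = 0
    rw [TopCat.Presheaf.germ_res_apply (Coh.structureModule X).presheaf
      (homOfLE (inf_le_left : W'' ⊓ W ≤ W'')) z hz n]
    have h2 := hn ⟨z, hz.1⟩
    rw [← h2]
    have h3 : s.1 ⟨z, hW hz.2⟩ = 0 := by
      have := congrArg (fun t : Γ(dual M, W) => t.1 ⟨z, hz.2⟩) h
      exact this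
    have h4 : s.1 ⟨z, (homOfLE (inf_le_right : U' ⊓ U ≤ U)).le (j.le hz.1)⟩ = s.1 ⟨z, hW hz.2⟩ := rfl
    rw [h4, h3, LinearMap.zero_apply]
  have hz := hn ⟨y.1, hyW''⟩
  rw [TopCat.Presheaf.germ_res_apply M.presheaf (homOfLE (inf_le_left : U' ⊓ U ≤ U')) y.1
    (j.le hyW'') μ] at hz
  have h5 : s.1 ⟨y.1, (homOfLE (inf_le_right : U' ⊓ U ≤ U)).le (j.le hyW'')⟩ = s.1 y := rfl
  rw [h5] at hz
  rw [hz, hn0, map_zero]

/-- for a dual on an integral scheme the specialization maps to the generic stalk are
injective. -/
theorem stalkSpecializes_injective_dual (M : X.Modules) (x : X) (h : genericPoint X ⤳ x) :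
    Function.Injective ((dual M).presheaf.stalkSpecializes h) := by
  rw [injective_iff_map_eq_zero]
  intro m hm
  obtain ⟨U, hxU, μ, rfl⟩ := (dual M).presheaf.exists_germ_eq m
  have hηU : genericPoint X ∈ U := h.mem_open U.isOpen hxU
  rw [spec_germ] at hm
  have hm' : (dual M).presheaf.germ U (genericPoint X) hηU μ =
      (dual M).presheaf.germ U (genericPoint X) hηU 0 := by
    rw [hm, map_zero]
  obtain ⟨W, hηW, hWU, hres⟩ := exists_res_eq_of_germ_eq (dual M) (genericPoint X) hηU μ 0 hm'
  have hres' : res (dual M) hWU μ = 0 := hres.trans (map_zero _)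
  rw [dual_eq_zero_of_res_eq_zero M hWU ⟨_, hηW⟩ μ hres', map_zero]

/-- morphisms into a dual on an integral scheme are determined by their generic stalk maps. -/
theorem hom_ext_of_generic_dual (M : X.Modules) {G : X.Modules} (φ ψ : G ⟶ dual M)
    (h : stalkMapₗ φ (genericPoint X) = stalkMapₗ ψ (genericPoint X)) : φ = ψ := by
  apply Scheme.Modules.hom_ext
  intro U
  ext g
  refine TopCat.Presheaf.section_ext (modSheaf (dual M)) U _ _ (fun x hx => ?_)
  change (dual M).presheaf.germ U x hx (φ.app U g) = (dual M).presheaf.germ U x hx (ψ.app U g)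
  apply stalkSpecializes_injective_dual M x
    ((genericPoint_spec X).specializes (Set.mem_univ x))
  rw [← stalkMapₗ_germ, ← stalkMapₗ_germ, spec_stalkMapₗ, spec_stalkMapₗ, h]

/-- a dual whose biduality map is bijective on the generic stalk is reflexive. -/
theorem isReflexive_dual_of_bijective (Q : X.Modules)
    (hb : Function.Bijective (stalkMapₗ (bidualMap (dual Q)) (genericPoint X))) :
    IsReflexive (dual Q) := by
  set j := bidualMap (dual Q) with hj
  set r : ddual (dual Q) ⟶ dual Q := dualMap (bidualMap Q) with hr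
  have hjr : j ≫ r = 𝟙 (dual Q) := bidualMap_dual_comp Q
  have hrj : r ≫ j = 𝟙 (ddual (dual Q)) := by
    apply hom_ext_of_generic_dual (dual (dual Q))
    rw [HomExt.stalkMapₗ_comp, HomExt.stalkMapₗ_id]
    have h1 : (stalkMapₗ r (genericPoint X)).comp (stalkMapₗ j (genericPoint X)) = LinearMap.id := by
      rw [← HomExt.stalkMapₗ_comp, hjr, HomExt.stalkMapₗ_id]
    apply LinearMap.ext
    intro v
    obtain ⟨w, rfl⟩ := hb.2 v
    rw [LinearMap.comp_apply, ← LinearMap.comp_apply (stalkMapₗ r (genericPoint X)), h1]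
    rfl
  exact ⟨⟨r, hjr, hrj⟩⟩

/-- the reflexive hull of a module with a frame near the generic point is reflexive. -/
theorem isReflexive_ddual_of_isGen (M : X.Modules) {V : X.Opens} {e : Γ(M, V)} (he : IsGen M V e)
    (hηV : genericPoint X ∈ V) : IsReflexive (ddual M) := by
  apply isReflexive_dual_of_bijective (dual M)
  have he' := isGen_bidual M he
  refine bijective_of_gen _ ((ddual M).presheaf.germ V (genericPoint X) hηV
    ((bidualMap M).app V e)) (bijective_smul_germ_of_isGen (ddual M) he' _ hηV) ?_
  rw [stalkMapₗ_germ]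
  exact bijective_smul_germ_of_isGen (ddual (ddual M)) (isGen_bidual (ddual M) he') _ hηV

/-- a module with a frame near the generic point is generically invertible. -/
theorem genInvertible_of_isGen (M : X.Modules) {V : X.Opens} {e : Γ(M, V)} (he : IsGen M V e)
    (hηV : genericPoint X ∈ V) : GenInvertible M := by
  refine ⟨V, ?_, ?_⟩
  · rw [dense_iff_closure_eq, ← Set.univ_subset_iff, ← genericPoint_spec X]
    exact closure_mono (Set.singleton_subset_iff.mpr hηV)
  · apply isInvertible_of_isGen
    intro y
    have htop : V.ι ''ᵁ ⊤ ≤ V := by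
      have := Scheme.Hom.image_le_opensRange V.ι ⊤
      rwa [Scheme.Opens.opensRange_ι] at this
    exact ⟨⊤, _, trivial, isGen_restrict_of_isGen M V ⊤
      (res M htop e) (he.mono htop)⟩

/-- the structure sheaf is generically invertible. -/
theorem genInvertible_unit : GenInvertible (Coh.structureModule X) :=
  genInvertible_of_isGen _ (isGen_one (⊤ : X.Opens)) trivial

end integral

/-- the structure sheaf is coherent. -/
theorem isCoh_unit (X : Scheme.{u}) : Coh.IsCoh (Coh.structureModule X) := by
  refine ⟨Groth.Agent.Lib.Helper23.Serre.isQuasicoherent_structureModule' X, ?_⟩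
  haveI := Groth.Agent.Helper18FinFlat.isFinitePresentation_structureModule X
  infer_instance

section closure
variable [IsIntegral X] [IsLocallyNoetherian X]

/-- the structure sheaf is rank one reflexive. -/
theorem isRef1_unit : IsRef1 (Coh.structureModule X) :=
  ⟨isCoh_unit X, isReflexive_unit, genInvertible_unit⟩

/-- the dual of a rank one reflexive module is rank one reflexive. -/
theorem isRef1_dual (F : X.Modules) (hF : IsRef1 F) : IsRef1 (dual F) := by
  obtain ⟨V, e, hηV, he⟩ := exists_gen_generic F hF.2.2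
  exact ⟨isCoh_homSh _ _ hF.1 (isCoh_unit X), isReflexive_dual F hF.2.1,
    genInvertible_of_isGen _ (isGen_dualSec F he) hηV⟩

/-- the tensor product of coherent modules is coherent. -/
theorem isCoh_tensorMod (F G : X.Modules) (hF : Coh.IsCoh F) (hG : Coh.IsCoh G) :
    Coh.IsCoh (CohB1.tensorMod F G) := by
  haveI : F.IsQuasicoherent := hF.1
  haveI : SheafOfModules.IsFiniteType (R := X.ringCatSheaf) F := hF.2
  haveI : G.IsQuasicoherent := hG.1
  haveI : SheafOfModules.IsFiniteType (R := X.ringCatSheaf) G := hG.2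
  exact ⟨Groth.Agent.Lib.Helper23.TensorQCoh.isQuasicoherent_tensorMod F G,
    Groth.Agent.Lib.Helper23.TensorQCoh.isFiniteType_tensorMod F G⟩

/-- the reflexive tensor product of rank one reflexive modules is rank one reflexive. -/
theorem isRef1_refTensor (F G : X.Modules) (hF : IsRef1 F) (hG : IsRef1 G) :
    IsRef1 (ddual (CohB1.tensorMod F G)) := by
  obtain ⟨V, e, hηV, he⟩ := exists_gen_generic F hF.2.2
  obtain ⟨V', e', hηV', he'⟩ := exists_gen_generic G hG.2.2
  have hT := isGen_tm F G _ _ _ (he.mono (inf_le_left : V ⊓ V' ≤ V))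
    (he'.mono (inf_le_right : V ⊓ V' ≤ V'))
  have hcohT := isCoh_tensorMod F G hF.1 hG.1
  exact ⟨isCoh_homSh _ _ (isCoh_homSh _ _ hcohT (isCoh_unit X)) (isCoh_unit X),
    isReflexive_ddual_of_isGen _ hT ⟨hηV, hηV'⟩,
    genInvertible_of_isGen _ (isGen_bidual _ hT) ⟨hηV, hηV'⟩⟩

end closure

end Groth.Agent.Lib.Seat75.DualRefl
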