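import Groth.Agent.Lib.Helper23IdealSec
import Groth.Agent.Lib.Seat75DualFrame

/-!
# Frames of locally principal ideal modules (helper75)

`exists_isGen_idealMod`: on an integral scheme, if the ideal sheaf `J` is generated over the affine
open `W` by one nonzero function `a`, then the section of `ClSub.idealMod J` over `W` corresponding
to `a` is a frame (`IsGen`).
-/

set_option autoImplicit false
set_option linter.style.haveILetI false
set_option linter.unusedSectionVars false
universe u

open AlgebraicGeometry CategoryTheory TopologicalSpace Opposite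

namespace Groth.Agent.Lib.Seat75.IdealFrame

open Groth.Agent.Lib.Helper23.SecTw Groth.Agent.Lib.Helper23.GenLocus Groth.Agent.Lib.Helper6
  Groth.Agent.Lib.Helper23.Extend Groth.Agent.Lib.Helper23.IdealSec
  Groth.Agent.Lib.Helper20.IdealModSec
  Groth.Agent.Lib.Seat75.SecOrd Groth.Agent.Lib.Seat75.DualFrame

variable {X : Scheme.{u}}

/-- the inclusion of the ideal module commutes with restriction. -/
lemma ι_res (J : X.IdealSheafData) {U V : X.Opens} (h : V ≤ U) (τ : Γ(ClSub.idealMod J, U)) :
    (ClSub.idealModι J).app V (res (ClSub.idealMod J) h τ) =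
      res (Coh.structureModule X) h ((ClSub.idealModι J).app U τ) :=
  app_map (ClSub.idealModι J) (homOfLE h) τ

/-- the inclusion of the ideal module is linear. -/
lemma ι_smul (J : X.IdealSheafData) {U : X.Opens} (r : Γ(X, U)) (τ : Γ(ClSub.idealMod J, U)) :
    (ClSub.idealModι J).app U (r • τ) = r • (ClSub.idealModι J).app U τ :=
  Scheme.Modules.Hom.app_smul _ _ _

theorem exists_isGen_idealMod [IsIntegral X] (J : X.IdealSheafData) (W : X.affineOpens)
    (a : Γ(X, W.1)) (ha0 : a ≠ 0) (hJ : J.ideal W = Ideal.span {a}) :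
    ∃ σ : Γ(ClSub.idealMod J, W.1), (ClSub.idealModι J).app W.1 σ = toS W.1 a ∧
      IsGen (ClSub.idealMod J) W.1 σ := by
  obtain ⟨σ, hσ⟩ := exists_ι_eq J W a (by rw [hJ]; exact Ideal.mem_span_singleton_self a)
  refine ⟨σ, hσ, isGen_of_bijective_germ _ _ _ (fun y hy => ⟨?_, ?_⟩)⟩
  · -- injectivity
    have key : ∀ d : X.presheaf.stalk y,
        d • (ClSub.idealMod J).presheaf.germ W.1 y hy σ = 0 → d = 0 := by
      intro d hd
      obtain ⟨V₀, hyV₀, r₀, rfl⟩ := X.presheaf.exists_germ_eq d
      -- shrink to `V ≤ W`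
      set V : X.Opens := V₀ ⊓ W.1 with hV
      have hyV : y ∈ V := ⟨hyV₀, hy⟩
      set r : Γ(X, V) := resf (inf_le_left : V ≤ V₀) r₀ with hr
      have hgr : X.presheaf.germ V y hyV r = X.presheaf.germ V₀ y hyV₀ r₀ :=
        X.presheaf.germ_res_apply (homOfLE (inf_le_left : V ≤ V₀)) y hyV r₀
      have hVW : V ≤ W.1 := inf_le_right
      have h1 : (ClSub.idealMod J).presheaf.germ V y hyV (r • res (ClSub.idealMod J) hVW σ) =
          (ClSub.idealMod J).presheaf.germ V y hyV 0 := by
        rw [germ_smul, map_zero, hgr,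
          TopCat.Presheaf.germ_res_apply (ClSub.idealMod J).presheaf (homOfLE hVW) y hyV σ]
        exact hd
      obtain ⟨V', hyV', hV'V, hres⟩ :=
        exists_res_eq_of_germ_eq (ClSub.idealMod J) y hyV _ _ h1
      rw [res_smul, res_res, res_zero] at hres
      have h2 := congrArg ((ClSub.idealModι J).app V') hres
      rw [ι_smul, ι_res, hσ, map_zero] at h2
      have h3 : resf hV'V r * resf (hV'V.trans hVW) a = 0 := congrArg (ofS V') h2
      haveI : Nonempty V' := ⟨⟨y, hyV'⟩⟩
      have ha' : resf (hV'V.trans hVW) a ≠ 0 := by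
        intro h0
        haveI : Nonempty W.1 := ⟨⟨y, hy⟩⟩
        exact ha0 (map_injective_of_isIntegral X (homOfLE (hV'V.trans hVW))
          (h0.trans (map_zero _).symm))
      have h4 : resf hV'V r = 0 := (mul_eq_zero.1 h3).resolve_right ha'
      rw [← hgr, ← X.presheaf.germ_res_apply (homOfLE hV'V) y hyV' r]
      change X.presheaf.germ V' y hyV' (resf hV'V r) = 0
      rw [h4, map_zero]
    intro c₁ c₂ h12
    rw [← sub_eq_zero]
    apply key
    rw [sub_smul, sub_eq_zero]
    exact h12
  · -- surjectivity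
    intro m
    obtain ⟨V₀, hyV₀, τ₀, rfl⟩ := (ClSub.idealMod J).presheaf.exists_germ_eq m
    obtain ⟨g, hgV, hyg⟩ := W.2.exists_basicOpen_le (V := V₀ ⊓ W.1) ⟨y, ⟨hyV₀, hy⟩⟩ hy
    have hgW : X.basicOpen g ≤ W.1 := X.basicOpen_le g
    have hgV₀ : X.basicOpen g ≤ V₀ := hgV.trans inf_le_left
    set τ := res (ClSub.idealMod J) hgV₀ τ₀ with hτ
    have hmem : ofS (X.basicOpen g) ((ClSub.idealModι J).app (X.basicOpen g) τ) ∈
        Ideal.span {resf hgW a} := by
      have := ι_mem_ideal J (X.affineBasicOpen g) τ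
      rw [← J.map_ideal_basicOpen W g, hJ, Ideal.map_span, Set.image_singleton] at this
      exact this
    obtain ⟨r, hr⟩ := Ideal.mem_span_singleton'.1 hmem
    have hr' : resf hgW a * r = ofS (X.basicOpen g) ((ClSub.idealModι J).app (X.basicOpen g) τ) := by
      rw [mul_comm]; exact hr
    have h1 : τ = r • res (ClSub.idealMod J) hgW σ := by
      apply ι_injective J (X.basicOpen g)
      have e1 : (ClSub.idealModι J).app (X.basicOpen g) (r • res (ClSub.idealMod J) hgW σ) =
          toS (X.basicOpen g) (r * resf hgW a) := by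
        rw [ι_smul, ι_res J hgW σ, hσ]; rfl
      rw [e1, hr, toS_ofS]
    refine ⟨X.presheaf.germ (X.basicOpen g) y hyg r, ?_⟩
    change X.presheaf.germ (X.basicOpen g) y hyg r • (ClSub.idealMod J).presheaf.germ W.1 y hy σ = _
    rw [← TopCat.Presheaf.germ_res_apply (ClSub.idealMod J).presheaf (homOfLE hgW) y hyg σ,
      ← germ_smul, ← TopCat.Presheaf.germ_res_apply (ClSub.idealMod J).presheaf (homOfLE hgV₀) y hyg τ₀]
    exact congrArg _ h1.symm

end Groth.Agent.Lib.Seat75.IdealFrame
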