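import Groth.Prelude.Def_RefHull
import Groth.Agent.Lib.Seat75HomExt

/-!
# Local Hartogs extension of rational sections of a reflexive hull (helper75)

On an integral locally Noetherian normal scheme `X`: let `H` be an `O_X`-module, `W` an open and
`σ ∈ H_η` a rational section which comes from `H_y` for all points `y ∈ W` of codimension one
(`RegOn H W σ`).  Then there is a section `sec` of the reflexive hull `H^**` over `W` whose germ at
the generic point is the image of `σ` under the biduality map (`germ_sec`).
-/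

set_option autoImplicit false
set_option linter.style.haveILetI false
set_option linter.unusedSectionVars false
universe u

open AlgebraicGeometry CategoryTheory TopologicalSpace Opposite

namespace Groth.Agent.Lib.Seat75.LocalExt

open Groth.Agent.Lib.Helper23.SecTw Groth.Agent.Lib.Helper6
  Groth.Agent.Lib.Seat75.SecOrd Groth.Agent.Lib.Seat75.DualFrame Groth.Agent.Lib.Seat75.Hartogs
  Groth.Agent.Lib.Seat75.HomExt RefHull

variable {X : Scheme.{u}} [IsIntegral X] [IsLocallyNoetherian X] (H : X.Modules) (W : X.Opens)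
  (σ : H.presheaf.stalk (genericPoint X))

/-- `σ` comes from the stalks of `H` at all codimension one points of `W`. -/
def RegOn : Prop :=
  ∀ y : X, y ∈ W → Order.coheight y = 1 →
    ∃ h : H.presheaf.stalk y, H.presheaf.stalkSpecializes (hη y) h = σ

/-- the generic value of the pairing with `σ`. -/
noncomputable def gv (x : X) (θ : (dual H).presheaf.stalk x) :
    (Coh.structureModule X).presheaf.stalk (genericPoint X) :=
  evalStalk H (Coh.structureModule X) (genericPoint X)
    ((dual H).presheaf.stalkSpecializes (hη x) θ) σ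

variable {H W σ}

lemma gv_spec {x y : X} (h : y ⤳ x) (θ : (dual H).presheaf.stalk x) :
    gv H σ y ((dual H).presheaf.stalkSpecializes h θ) = gv H σ x θ := by
  unfold gv
  rw [spec_spec]

lemma exists_val (hX : Pi1.IsNormalScheme X) (hσ : RegOn H W σ) (x : X) (hx : x ∈ W)
    (θ : (dual H).presheaf.stalk x) :
    ∃ t : (Coh.structureModule X).presheaf.stalk x,
      (Coh.structureModule X).presheaf.stalkSpecializes (hη x) t = gv H σ x θ := by
  refine hartogsO hX x _ (fun y hyx hy hy1 => ?_) (hη x)
  obtain ⟨h, hh⟩ := hσ y (hyx.mem_open W.isOpen hx) hy1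
  refine ⟨evalStalk H (Coh.structureModule X) y ((dual H).presheaf.stalkSpecializes hyx θ) h, ?_⟩
  rw [evalStalk_specializes, ← gv_spec hyx]
  unfold gv
  rw [hh]

noncomputable def valAt (hX : Pi1.IsNormalScheme X) (hσ : RegOn H W σ) (x : X) (hx : x ∈ W)
    (θ : (dual H).presheaf.stalk x) : (Coh.structureModule X).presheaf.stalk x :=
  Classical.choose (exists_val hX hσ x hx θ)

lemma spec_valAt (hX : Pi1.IsNormalScheme X) (hσ : RegOn H W σ) (x : X) (hx : x ∈ W)
    (θ : (dual H).presheaf.stalk x) :
    (Coh.structureModule X).presheaf.stalkSpecializes (hη x) (valAt hX hσ x hx θ) = gv H σ x θ :=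
  Classical.choose_spec (exists_val hX hσ x hx θ)

lemma gv_add (x : X) (θ θ' : (dual H).presheaf.stalk x) :
    gv H σ x (θ + θ') = gv H σ x θ + gv H σ x θ' := by
  unfold gv
  rw [map_add, map_add, LinearMap.add_apply]

lemma gv_smul (x : X) (a : X.presheaf.stalk x) (θ : (dual H).presheaf.stalk x) :
    gv H σ x (a • θ) = X.presheaf.stalkSpecializes (hη x) a • gv H σ x θ := by
  unfold gv
  rw [stalkSpecializes_smul, map_smul, LinearMap.smul_apply]

/-- the stalk of the extension at `x ∈ W`: a linear form on `(H^*)_x`. -/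
noncomputable def stalkForm (hX : Pi1.IsNormalScheme X) (hσ : RegOn H W σ) (x : X) (hx : x ∈ W) :
    StalkHom (dual H) (Coh.structureModule X) x where
  toFun θ := valAt hX hσ x hx θ
  map_add' θ θ' := specO_injective x (hη x) (by
    rw [map_add, spec_valAt, spec_valAt, spec_valAt, gv_add])
  map_smul' a θ := specO_injective x (hη x) (by
    rw [RingHom.id_apply, stalkSpecializes_smul, spec_valAt, spec_valAt, gv_smul])

lemma spec_stalkForm (hX : Pi1.IsNormalScheme X) (hσ : RegOn H W σ) (x : X) (hx : x ∈ W)
    (θ : (dual H).presheaf.stalk x) :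
    (Coh.structureModule X).presheaf.stalkSpecializes (hη x) (stalkForm hX hσ x hx θ) =
      gv H σ x θ :=
  spec_valAt hX hσ x hx θ

/-- **the extension**: a section of `H^**` over `W`. -/
noncomputable def sec (hX : Pi1.IsNormalScheme X) (hσ : RegOn H W σ) : Γ(ddual H, W) :=
  ⟨fun x => stalkForm hX hσ x.1 x.2, fun V i m x => by
    obtain ⟨W₀, hxW₀, n₀, hn₀⟩ := (Coh.structureModule X).presheaf.exists_germ_eq
      (stalkForm hX hσ x.1 (i.le x.2) ((dual H).presheaf.germ V x.1 x.2 m))
    refine ⟨W₀ ⊓ V, ⟨hxW₀, x.2⟩, homOfLE inf_le_right,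
      (Coh.structureModule X).presheaf.map (homOfLE (inf_le_left : W₀ ⊓ V ≤ W₀)).op n₀, fun y => ?_⟩
    apply specO_injective y.1 (hη y.1)
    rw [TopCat.Presheaf.germ_res_apply, spec_stalkForm, spec_germ,
      ← spec_germ (Coh.structureModule X) (hη x.1) hxW₀ n₀, hn₀, spec_stalkForm]
    unfold gv
    rw [spec_germ, spec_germ]⟩

/-- the germ of the extension at the generic point. -/
theorem germ_sec (hX : Pi1.IsNormalScheme X) (hσ : RegOn H W σ) (hηW : genericPoint X ∈ W) :
    (ddual H).presheaf.germ W (genericPoint X) hηW (sec hX hσ) =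
      stalkMapₗ (bidualMap H) (genericPoint X) σ := by
  obtain ⟨U', hU', f, rfl⟩ := H.presheaf.exists_germ_eq σ
  rw [stalkMapₗ_germ]
  refine TopCat.Presheaf.germ_ext (ddual H).presheaf (W ⊓ U') ⟨hηW, hU'⟩ (homOfLE inf_le_left)
    (homOfLE inf_le_right) ?_
  refine Subtype.ext (funext fun x => ?_)
  change stalkForm hX hσ x.1 x.2.1 = bidualAt H x.1 (H.presheaf.germ U' x.1 x.2.2 f)
  apply LinearMap.ext
  intro θ
  apply specO_injective x.1 (hη x.1)
  rw [spec_stalkForm, bidualAt_apply, evalStalk_specializes]
  unfold gv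
  rw [spec_germ]

end Groth.Agent.Lib.Seat75.LocalExt
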