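import Mathlib
import Groth.Agent.Lib.Helper3LocDimBC
import Groth.Agent.Lib.Helper8Grp
import Groth.Agent.Lib.Helper25OrbitLC
import Groth.Agent.Lib.Helper4DimFormulaW
import Groth.Agent.Lib.Helper4FibDimH

/-!
# Fibre dimension of orbit maps (helper75)

For an action `a` of a group scheme `G` on `X` over `S` and a section `x` of `X`, the local fibre
dimension of the orbit map `G → X` is the same at `snd w` and `μ w` for every point `w` of
`G ×_S G` (`fibreDimAt_orbitMap_snd_eq_mul`), hence constant on `G` when `S` is a point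
(`fibreDimAt_orbitMap_eq`).
-/

set_option autoImplicit false
set_option linter.style.haveILetI false
universe u

open CategoryTheory CategoryTheory.Limits MonoidalCategory CartesianMonoidalCategory MonObj GrpObj
  AlgebraicGeometry TopologicalSpace Topology

namespace Groth.Agent.Lib.Seat75.OrbitDim

open Groth.Agent.Lib.Helper3.LocDimBC
  Groth.Agent.Lib.Helper25.OrbitLC AlgGrp AlgGrp.Action

section general
variable {C : Type*} [Category C] [CartesianMonoidalCategory C]

/-- The second shear isomorphism `(g, h) ↦ (g h, h)`. -/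
def shearIso' (G : C) [GrpObj G] : G ⊗ G ≅ G ⊗ G where
  hom := lift (fst G G * snd G G) (snd G G)
  inv := lift (fst G G * (snd G G)⁻¹) (snd G G)
  hom_inv_id := by
    apply CartesianMonoidalCategory.hom_ext <;> simp [MonObj.comp_mul, GrpObj.comp_inv]
  inv_hom_id := by
    apply CartesianMonoidalCategory.hom_ext <;> simp [MonObj.comp_mul]

lemma fst_mul_snd (G : C) [GrpObj G] : fst G G * snd G G = μ[G] := by
  rw [CategoryTheory.Hom.mul_def]
  simp

end general

section
variable {S : Scheme.{u}} {G X : Over S} [GrpObj G] (a : AlgGrp.Action G X)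
  (x : 𝟙_ (Over S) ⟶ X)

lemma whiskerLeft_eq_lift : G ◁ a.orbitMap x = lift (fst G G) (snd G G ≫ a.orbitMap x) := by
  apply CartesianMonoidalCategory.hom_ext
  · rw [whiskerLeft_fst, lift_fst]
  · rw [whiskerLeft_snd, lift_snd]

lemma whiskerLeft_orbitMap_act : (G ◁ a.orbitMap x) ≫ a.act = μ[G] ≫ a.orbitMap x := by
  rw [whiskerLeft_eq_lift, comp_orbitMap, comp_orbitMap, ← fst_mul_snd, lift_mul_act]

lemma shear_comm : (Groth.Agent.Lib.Helper8.shearIso G).hom ≫ (G ◁ a.orbitMap x) =
    (G ◁ a.orbitMap x) ≫ shear a (𝟙 G) := by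
  apply CartesianMonoidalCategory.hom_ext
  · rw [Category.assoc, Category.assoc, whiskerLeft_fst, shear_fst, whiskerLeft_fst]
    simp [Groth.Agent.Lib.Helper8.shearIso]
  · rw [Category.assoc, Category.assoc, whiskerLeft_snd, shear_snd, Groth.Agent.Lib.Helper25.OrbitLC.trans]
    have h1 : lift (fst G X ≫ 𝟙 G) (snd G X) = 𝟙 (G ⊗ X) := by
      rw [Category.comp_id, lift_fst_snd]
    rw [h1, Category.id_comp, whiskerLeft_orbitMap_act]
    have h2 : (Groth.Agent.Lib.Helper8.shearIso G).hom ≫ snd G G = μ[G] := by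
      simp [Groth.Agent.Lib.Helper8.shearIso, fst_mul_snd]
    rw [← Category.assoc, h2]

variable [LocallyOfFiniteType (a.orbitMap x).left]

theorem fibreDimAt_whiskerLeft (w : ↥(G ⊗ G).left) :
    FlatMor.fibreDimAt (G ◁ a.orbitMap x).left w =
      FlatMor.fibreDimAt (a.orbitMap x).left ((snd G G).left w) := by
  have hbot : IsPullback (snd G X).left (fst G X).left X.hom G.hom :=
    (IsPullback.of_hasPullback G.hom X.hom).flip
  have htot : IsPullback (snd G G).left ((G ◁ a.orbitMap x).left ≫ (fst G X).left)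
      ((a.orbitMap x).left ≫ X.hom) G.hom := by
    rw [← Over.comp_left, whiskerLeft_fst, Over.w]
    exact (IsPullback.of_hasPullback G.hom G.hom).flip
  have hcomm : (snd G G).left ≫ (a.orbitMap x).left =
      (G ◁ a.orbitMap x).left ≫ (snd G X).left := by
    rw [← Over.comp_left, ← Over.comp_left, whiskerLeft_snd]
  have hsq : IsPullback (snd G G).left (G ◁ a.orbitMap x).left (a.orbitMap x).left
      (snd G X).left := IsPullback.of_bot htot hcomm hbot
  exact fibreDimAt_eq_of_isPullback (a.orbitMap x).left (snd G X).left (snd G G).left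
    (G ◁ a.orbitMap x).left hsq w

theorem fibreDimAt_orbitMap_snd_eq_mul (w : ↥(G ⊗ G).left) :
    FlatMor.fibreDimAt (a.orbitMap x).left ((snd G G).left w) =
      FlatMor.fibreDimAt (a.orbitMap x).left (μ[G].left w) := by
  haveI : LocallyOfFiniteType (G ◁ a.orbitMap x).left := by
    have hbot : IsPullback (snd G X).left (fst G X).left X.hom G.hom :=
      (IsPullback.of_hasPullback G.hom X.hom).flip
    have htot : IsPullback (snd G G).left ((G ◁ a.orbitMap x).left ≫ (fst G X).left)
        ((a.orbitMap x).left ≫ X.hom) G.hom := by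
      rw [← Over.comp_left, whiskerLeft_fst, Over.w]
      exact (IsPullback.of_hasPullback G.hom G.hom).flip
    have hcomm : (snd G G).left ≫ (a.orbitMap x).left =
        (G ◁ a.orbitMap x).left ≫ (snd G X).left := by
      rw [← Over.comp_left, ← Over.comp_left, whiskerLeft_snd]
    have hsq : IsPullback (snd G G).left (G ◁ a.orbitMap x).left (a.orbitMap x).left
        (snd G X).left := IsPullback.of_bot htot hcomm hbot
    exact MorphismProperty.of_isPullback hsq inferInstance
  haveI : IsIso (Groth.Agent.Lib.Helper8.shearIso G).hom.left :=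
    inferInstanceAs (IsIso ((Over.forget S).map (Groth.Agent.Lib.Helper8.shearIso G).hom))
  haveI : IsIso (shear a (𝟙 G)).left :=
    ⟨(shear a (𝟙 G)⁻¹).left, by rw [← Over.comp_left, shear_shear_inv]; rfl,
      by rw [← Over.comp_left, shear_inv_shear]; rfl⟩
  have hsq : IsPullback (Groth.Agent.Lib.Helper8.shearIso G).hom.left (G ◁ a.orbitMap x).left
      (G ◁ a.orbitMap x).left (shear a (𝟙 G)).left :=
    IsPullback.of_horiz_isIso ⟨by rw [← Over.comp_left, ← Over.comp_left, shear_comm]⟩
  have h1 := fibreDimAt_eq_of_isPullback (G ◁ a.orbitMap x).left (shear a (𝟙 G)).left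
    (Groth.Agent.Lib.Helper8.shearIso G).hom.left (G ◁ a.orbitMap x).left hsq w
  rw [fibreDimAt_whiskerLeft, fibreDimAt_whiskerLeft] at h1
  rw [h1, ← Scheme.Hom.comp_apply, ← Over.comp_left]
  have h2 : (Groth.Agent.Lib.Helper8.shearIso G).hom ≫ snd G G = μ[G] := by
    simp [Groth.Agent.Lib.Helper8.shearIso, fst_mul_snd]
  rw [h2]

/-- the local fibre dimension of the orbit map is the same at any two points of `G` over the same
point of the base. -/
theorem fibreDimAt_orbitMap_eq (g g' : G.left) (h : G.hom g = G.hom g') :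
    FlatMor.fibreDimAt (a.orbitMap x).left g = FlatMor.fibreDimAt (a.orbitMap x).left g' := by
  obtain ⟨w₀, hw1, hw2⟩ := Scheme.Pullback.exists_preimage_pullback g' g h.symm
  have h3 : (shearIso' G).hom ≫ fst G G = μ[G] := by simp [shearIso', fst_mul_snd]
  have h4 : (shearIso' G).hom ≫ snd G G = snd G G := by simp [shearIso']
  set w := (shearIso' G).inv.left w₀ with hw
  have e1 : (snd G G).left w = g := by
    rw [← hw2, hw, ← Scheme.Hom.comp_apply, ← Over.comp_left]
    have : (shearIso' G).inv ≫ snd G G = snd G G := by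
      rw [Iso.inv_comp_eq, h4]
    rw [this]
    rfl
  have e2 : μ[G].left w = g' := by
    rw [← hw1, hw, ← Scheme.Hom.comp_apply, ← Over.comp_left]
    have : (shearIso' G).inv ≫ μ[G] = fst G G := by
      rw [Iso.inv_comp_eq, h3]
    rw [this]
    rfl
  rw [← e1, ← e2]
  exact fibreDimAt_orbitMap_snd_eq_mul a x w

end

end Groth.Agent.Lib.Seat75.OrbitDim
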