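import Mathlib
import Groth.Agent.S16130
import Groth.Agent.Lib.Seat75OrbitBdry
import Groth.Agent.Lib.Helper4FibDimK

/-!
# The orbit dimension as a function of the point (helper75)

* `graphMap a : G ⊗ X ⟶ X ⊗ X`, `(g, x) ↦ (g x, x)`; `unitSec : X ⟶ G ⊗ X`, `x ↦ (1, x)`;
* `isPullback_inG`: the orbit map of a section `x` is the base change of `graphMap` along `(id, x)`;
* `fibreDimAt_graphMap_unitSec`: the local fibre dimension of `graphMap` at `(1, x)` is that of the
  orbit map of `x` at the unit;
* `dim_stabilizer_eq`: over a field, the stabilizer has dimension the local fibre dimension of the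
  orbit map (at any point);
* `dim_closure_orbit`: the orbit closure has the dimension of the orbit;
* `exists_isClosed_orbitDim_le`: the locus of rational points with orbit dimension `≤ r` is closed.
-/

set_option autoImplicit false
set_option linter.style.haveILetI false
universe u
open CategoryTheory MonoidalCategory CartesianMonoidalCategory MonObj GrpObj AlgebraicGeometry CategoryTheory.Limits
open AlgGrp

namespace Groth.Agent.Lib.Seat75.OrbitDimFn

open Groth.Agent.Lib.Helper4.VarDim Groth.Agent.Lib.Helper4.FibDim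
  Groth.Agent.Lib.Helper7.TopDim Groth.Agent.Lib.Seat75.OrbitDim Groth.Agent.Lib.Helper3.LocDimBC
  Groth.Agent.Lib.Helper25.OrbitLC

section general
variable {S : Scheme.{u}} {G X : Over S} [GrpObj G] (a : AlgGrp.Action G X)
  (x : 𝟙_ (Over S) ⟶ X)

/-- `(g, x) ↦ (g x, x)`. -/
noncomputable def graphMap : G ⊗ X ⟶ X ⊗ X := lift a.act (snd G X)

/-- `x ↦ (1, x)`. -/
noncomputable def unitSec (G X : Over S) [GrpObj G] : X ⟶ G ⊗ X := lift (toUnit X ≫ η[G]) (𝟙 X)

/-- `g ↦ (g, x)`. -/
noncomputable def inG (G : Over S) : G ⟶ G ⊗ X := lift (𝟙 G) (toUnit G ≫ x)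

/-- `x' ↦ (x', x)`. -/
noncomputable def inX : X ⟶ X ⊗ X := lift (𝟙 X) (toUnit X ≫ x)

lemma inG_act : inG x G ≫ a.act = a.orbitMap x := by
  have := AlgGrp.Action.comp_orbitMap a (𝟙 G) x
  rw [Category.id_comp] at this
  exact this.symm

lemma inG_graphMap : inG x G ≫ graphMap a = a.orbitMap x ≫ inX x := by
  apply CartesianMonoidalCategory.hom_ext
  · rw [Category.assoc, Category.assoc, graphMap, lift_fst, inX, lift_fst, Category.comp_id,
      inG_act]
  · rw [Category.assoc, Category.assoc, graphMap, lift_snd, inX, lift_snd, inG, lift_snd,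
      ← Category.assoc, toUnit_unique (a.orbitMap x ≫ toUnit X) (toUnit G)]

theorem isPullback_inG : IsPullback (inG x G) (a.orbitMap x) (graphMap a) (inX x) := by
  refine ⟨⟨inG_graphMap a x⟩, ⟨PullbackCone.IsLimit.mk _ (fun s => s.fst ≫ fst G X) ?_ ?_ ?_⟩⟩
  · intro s
    have hsnd : s.fst ≫ snd G X = toUnit s.pt ≫ x := by
      have h := congrArg (fun f => f ≫ snd X X) s.condition
      simp only [Category.assoc, graphMap, lift_snd, inX] at h
      rw [h, ← Category.assoc, toUnit_unique (s.snd ≫ toUnit X) (toUnit s.pt)]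
    apply CartesianMonoidalCategory.hom_ext
    · rw [Category.assoc, inG, lift_fst, Category.comp_id]
    · rw [Category.assoc, inG, lift_snd, hsnd, ← Category.assoc,
        toUnit_unique ((s.fst ≫ fst G X) ≫ toUnit G) (toUnit s.pt)]
  · intro s
    have hsnd : s.fst ≫ snd G X = toUnit s.pt ≫ x := by
      have h := congrArg (fun f => f ≫ snd X X) s.condition
      simp only [Category.assoc, graphMap, lift_snd, inX] at h
      rw [h, ← Category.assoc, toUnit_unique (s.snd ≫ toUnit X) (toUnit s.pt)]
    have hfst : s.fst ≫ a.act = s.snd := by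
      have h := congrArg (fun f => f ≫ fst X X) s.condition
      simp only [Category.assoc, graphMap, lift_fst, inX, Category.comp_id] at h
      exact h
    rw [AlgGrp.Action.comp_orbitMap, ← hsnd, lift_comp_fst_snd]
    exact hfst
  · intro s m h1 _
    have := congrArg (fun f => f ≫ fst G X) h1
    simp only [Category.assoc, inG, lift_fst, Category.comp_id] at this
    exact this

lemma unit_inG : η[G] ≫ inG x G = x ≫ unitSec G X := by
  apply CartesianMonoidalCategory.hom_ext
  · rw [Category.assoc, Category.assoc, inG, lift_fst, unitSec, lift_fst, Category.comp_id,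
      ← Category.assoc, toUnit_unique (x ≫ toUnit X) (𝟙 _), Category.id_comp]
  · rw [Category.assoc, Category.assoc, inG, lift_snd, unitSec, lift_snd, Category.comp_id,
      ← Category.assoc, toUnit_unique (η[G] ≫ toUnit G) (𝟙 _), Category.id_comp]

variable [LocallyOfFiniteType (graphMap a).left]

theorem fibreDimAt_graphMap_unitSec (p : ↥(𝟙_ (Over S)).left) :
    FlatMor.fibreDimAt (graphMap a).left ((unitSec G X).left (x.left p)) =
      FlatMor.fibreDimAt (a.orbitMap x).left (η[G].left p) := by
  have hsq := (isPullback_inG a x).map (Over.forget S)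
  have h := fibreDimAt_eq_of_isPullback (graphMap a).left (inX x).left (inG x G).left
    (a.orbitMap x).left hsq (η[G].left p)
  rw [h]
  congr 1
  change (x.left ≫ (unitSec G X).left) p = ((η[G]).left ≫ (inG x G).left) p
  rw [← Over.comp_left, ← Over.comp_left, unit_inG]

end general

section arith

lemma iSup_natCast_eq {J : Type*} [Nonempty J] (f : J → ℕ) (hb : BddAbove (Set.range f)) :
    ∃ N : ℕ, (⨆ i, ((f i : ℕ) : WithBot ℕ∞)) = ((N : ℕ) : WithBot ℕ∞) := by
  obtain ⟨i₀, hi₀⟩ := Nat.sSup_mem (Set.range_nonempty f) hb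
  refine ⟨f i₀, le_antisymm (iSup_le fun i => ?_) (le_iSup (fun i => ((f i : ℕ) : WithBot ℕ∞)) i₀)⟩
  have h1 : f i ≤ f i₀ := by rw [hi₀]; exact le_csSup hb ⟨i, rfl⟩
  exact_mod_cast h1

lemma le_iff_sub_le (N r d : ℕ) (hd : d = N - r) (A B : WithBot ℕ∞)
    (h : ((N : ℕ) : WithBot ℕ∞) = A + B) :
    A ≤ ((r : ℕ) : WithBot ℕ∞) ↔ ((d : ℕ) : WithBot ℕ∞) ≤ B := by
  induction A using WithBot.recBotCoe with
  | bot =>
    rw [WithBot.bot_add] at h
    exact absurd h (by simp)
  | coe a =>
    induction B using WithBot.recBotCoe with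
    | bot =>
      rw [WithBot.add_bot] at h
      exact absurd h (by simp)
    | coe b =>
      induction a using ENat.recTopCoe with
      | top =>
        exfalso
        rw [← WithBot.coe_add, top_add] at h
        have h' : ((N : ℕ∞) : WithBot ℕ∞) = ((⊤ : ℕ∞) : WithBot ℕ∞) := by exact_mod_cast h
        exact ENat.natCast_ne_top N (WithBot.coe_injective h')
      | coe m =>
        induction b using ENat.recTopCoe with
        | top =>
          exfalso
          rw [← WithBot.coe_add, add_top] at h
          have h' : ((N : ℕ∞) : WithBot ℕ∞) = ((⊤ : ℕ∞) : WithBot ℕ∞) := by exact_mod_cast h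
          exact ENat.natCast_ne_top N (WithBot.coe_injective h')
        | coe n =>
          have hN : N = m + n := by exact_mod_cast h
          constructor
          · intro h'
            have h1 : m ≤ r := by exact_mod_cast h'
            have h2 : d ≤ n := by omega
            exact_mod_cast h2
          · intro h'
            have h1 : d ≤ n := by exact_mod_cast h'
            have h2 : m ≤ r := by omega
            exact_mod_cast h2

end arith

section field
variable (k : Type u) [Field k] (G X : Over (Spec (CommRingCat.of k))) [GrpObj G]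
  [LocallyOfFiniteType G.hom] [QuasiCompact G.hom]
  [LocallyOfFiniteType X.hom] [QuasiCompact X.hom] (a : AlgGrp.Action G X)
  (x : 𝟙_ (Over (Spec (CommRingCat.of k))) ⟶ X)

omit [QuasiCompact G.hom] [QuasiCompact X.hom] [LocallyOfFiniteType X.hom] in
theorem locallyOfFiniteType_orbitMap : LocallyOfFiniteType (a.orbitMap x).left := by
  haveI : LocallyOfFiniteType ((a.orbitMap x).left ≫ X.hom) := by rw [Over.w]; infer_instance
  exact locallyOfFiniteType_of_comp (a.orbitMap x).left X.hom

omit [QuasiCompact G.hom] [QuasiCompact X.hom] in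
theorem locallyOfFiniteType_graphMap : LocallyOfFiniteType (graphMap a).left := by
  haveI : LocallyOfFiniteType (G ⊗ X).hom := by
    rw [Over.tensorObj_hom]; infer_instance
  haveI : LocallyOfFiniteType ((graphMap a).left ≫ (X ⊗ X).hom) := by rw [Over.w]; infer_instance
  exact locallyOfFiniteType_of_comp (graphMap a).left (X ⊗ X).hom

omit [QuasiCompact G.hom] [QuasiCompact X.hom] [LocallyOfFiniteType X.hom] in
/-- the stabilizer has dimension the local fibre dimension of the orbit map at any point. -/
theorem dim_stabilizer_eq (g : G.left) :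
    topologicalKrullDim ↥(Limits.pullback (a.orbitMap x).left x.left) =
      FlatMor.fibreDimAt (a.orbitMap x).left g := by
  haveI := locallyOfFiniteType_orbitMap k G X a x
  haveI hsub : Subsingleton (Spec (CommRingCat.of k)) := by
    change Subsingleton (PrimeSpectrum k)
    infer_instance
  rw [topologicalKrullDim_eq_iSup_localDim]
  have hz : ∀ z : ↥(Limits.pullback (a.orbitMap x).left x.left),
      FlatMor.localDim ↥(Limits.pullback (a.orbitMap x).left x.left) z =
        FlatMor.fibreDimAt (a.orbitMap x).left g := by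
    intro z
    haveI : Subsingleton ↥(𝟙_ (Over (Spec (CommRingCat.of k)))).left := hsub
    rw [← Groth.Agent.S16130.fibreDimAt_eq_localDim_of_subsingleton
      (pullback.snd (a.orbitMap x).left x.left) z,
      fibreDimAt_eq_of_isPullback (a.orbitMap x).left x.left
        (pullback.fst (a.orbitMap x).left x.left) (pullback.snd (a.orbitMap x).left x.left)
        (IsPullback.of_hasPullback (a.orbitMap x).left x.left) z]
    exact fibreDimAt_orbitMap_eq a x _ g (Subsingleton.elim _ _)
  haveI : Nonempty ↥(Limits.pullback (a.orbitMap x).left x.left) := by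
    have h0 : Nonempty (Spec (CommRingCat.of k)) := inferInstance
    obtain ⟨p⟩ := h0
    have hcomm : (η[G]).left ≫ (a.orbitMap x).left = 𝟙 _ ≫ x.left := by
      rw [Category.id_comp, ← Over.comp_left]
      congr 1
      rw [AlgGrp.Action.comp_orbitMap]
      have h1 : (1 : 𝟙_ (Over (Spec (CommRingCat.of k))) ⟶ G) = η[G] := by
        rw [Hom.one_def, toUnit_unique (toUnit _) (𝟙 _), Category.id_comp]
      rw [← h1, AlgGrp.Action.lift_one_act, toUnit_unique (toUnit _) (𝟙 _), Category.id_comp]
    exact ⟨(pullback.lift (η[G]).left (𝟙 _) hcomm).base p⟩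
  simp only [hz]
  exact ciSup_const

/-- the orbit closure has the dimension of the orbit. -/
theorem dim_closure_orbit :
    topologicalKrullDim ↥(closure (Set.range (a.orbitMap x).left.base)) =
      topologicalKrullDim ↥(Set.range (a.orbitMap x).left.base) := by
  letI : X.left.Over (Spec (CommRingCat.of k)) := ⟨X.hom⟩
  haveI : LocallyOfFiniteType (X.left ↘ Spec (CommRingCat.of k)) := ‹LocallyOfFiniteType X.hom›
  have hlc : IsLocallyClosed (Set.range (a.orbitMap x).left.base) :=
    isLocallyClosed_range_orbitMap k G X a x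
  haveI : IsLocallyNoetherian G.left := LocallyOfFiniteType.isLocallyNoetherian G.hom
  haveI : CompactSpace G.left := QuasiCompact.compactSpace_of_compactSpace G.hom
  haveI : IsNoetherian G.left := {}
  haveI hqc : QuasiCompact (a.orbitMap x).left := inferInstance
  rw [topologicalKrullDim_eq_iSup_trdegNat_of_isLocallyClosed k X.left _
      isClosed_closure.isLocallyClosed,
    topologicalKrullDim_eq_iSup_trdegNat_of_isLocallyClosed k X.left _ hlc]
  apply le_antisymm
  · refine iSup_le fun t => ?_
    obtain ⟨g, hg⟩ := Groth.Agent.Lib.Helper12.exists_specializes_of_mem_closure_range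
      (a.orbitMap x).left t.1 t.2
    have h1 : trdegNat k X.left t.1 ≤ trdegNat k X.left ((a.orbitMap x).left.base g) := by
      by_cases hne : (a.orbitMap x).left.base g = t.1
      · rw [hne]
      · exact (trdegNat_lt_of_specializes k X.left _ _ hg hne).le
    refine le_trans ?_ (le_iSup (fun s : Set.range (a.orbitMap x).left.base =>
      ((trdegNat k X.left s : ℕ) : WithBot ℕ∞)) ⟨_, g, rfl⟩)
    exact_mod_cast h1
  · refine iSup_le fun t => ?_
    exact le_iSup (fun s : closure (Set.range (a.orbitMap x).left.base) =>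
      ((trdegNat k X.left s : ℕ) : WithBot ℕ∞)) ⟨t.1, subset_closure t.2⟩

/-- the dimension of `G` is a natural number. -/
theorem exists_dim_eq_nat : ∃ N : ℕ, topologicalKrullDim ↥G.left = ((N : ℕ) : WithBot ℕ∞) := by
  letI : G.left.Over (Spec (CommRingCat.of k)) := ⟨G.hom⟩
  haveI : LocallyOfFiniteType (G.left ↘ Spec (CommRingCat.of k)) := ‹LocallyOfFiniteType G.hom›
  haveI : CompactSpace G.left := QuasiCompact.compactSpace_of_compactSpace G.hom
  obtain ⟨g₀⟩ : Nonempty G.left := by
    have h0 : Nonempty (Spec (CommRingCat.of k)) := inferInstance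
    obtain ⟨p⟩ := h0
    exact ⟨(η[G]).left.base p⟩
  haveI : Nonempty G.left := ⟨g₀⟩
  obtain ⟨M, hM⟩ := exists_trdegNat_le k G.left
  rw [topologicalKrullDim_eq_iSup_trdegNat k G.left]
  exact iSup_natCast_eq (fun g : G.left => trdegNat k G.left g)
    ⟨M, by rintro _ ⟨g, rfl⟩; exact hM g⟩

/-- the locus of rational points whose orbit has dimension at most `r` is closed. -/
theorem exists_isClosed_orbitDim_le [IsAlgClosed k] [Smooth G.hom] [IsReduced X.left]
    [IsSeparated X.hom] (r : ℕ) :
    ∃ Z : Set ↥X.left, IsClosed Z ∧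
      ∀ x : 𝟙_ (Over (Spec (CommRingCat.of k))) ⟶ X,
        topologicalKrullDim ↥(closure (Set.range ⇑(a.orbitMap x).left.base)) ≤
            ((r : ℕ) : WithBot ℕ∞) ↔
          Set.range ⇑x.left.base ⊆ Z := by
  haveI := locallyOfFiniteType_graphMap k G X a
  obtain ⟨N, hN⟩ := exists_dim_eq_nat k G
  refine ⟨(unitSec G X).left.base ⁻¹' {w | (((N - r : ℕ) : ℕ) : WithBot ℕ∞) ≤
    FlatMor.fibreDimAt (graphMap a).left w},
    (isClosed_setOf_natCast_le_fibreDimAt (graphMap a).left (N - r)).preimage
      (unitSec G X).left.base.hom.continuous, fun x => ?_⟩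
  have hpt : ∀ q : ↥(𝟙_ (Over (Spec (CommRingCat.of k)))).left,
      q = (IsLocalRing.closedPoint k : ↥(Spec (CommRingCat.of k))) := fun q => by
    haveI hsub : Subsingleton (Spec (CommRingCat.of k)) := by
      change Subsingleton (PrimeSpectrum k)
      infer_instance
    exact Subsingleton.elim (α := ↥(Spec (CommRingCat.of k))) _ _
  set p : ↥(𝟙_ (Over (Spec (CommRingCat.of k)))).left :=
    (IsLocalRing.closedPoint k : ↥(Spec (CommRingCat.of k))) with hp
  have hrange : Set.range ⇑x.left.base = {x.left.base p} := by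
    ext y
    constructor
    · rintro ⟨q, rfl⟩
      rw [hpt q]
      rfl
    · rintro rfl
      exact ⟨p, rfl⟩
  rw [hrange, Set.singleton_subset_iff, dim_closure_orbit k G X a x]
  change _ ↔ (((N - r : ℕ) : ℕ) : WithBot ℕ∞) ≤
    FlatMor.fibreDimAt (graphMap a).left ((unitSec G X).left (x.left p))
  rw [fibreDimAt_graphMap_unitSec a x p, ← dim_stabilizer_eq k G X a x (η[G].left p)]
  have hdim := Groth.Agent.S16130.result k G X a x
  rw [hN] at hdim
  exact le_iff_sub_le N r (N - r) rfl _ _ hdim

end field

end Groth.Agent.Lib.Seat75.OrbitDimFn
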