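import Groth.Agent.Lib.Seat75PerfStage
import Mathlib.Algebra.Module.Projective
import Mathlib.RingTheory.Flat.FaithfullyFlat.Algebra
import Mathlib.LinearAlgebra.TensorProduct.DirectLimit
import Mathlib.LinearAlgebra.TensorProduct.Tower
import Mathlib.LinearAlgebra.DFinsupp

/-!
# Purity of the Frobenius stages inside the perfect closure

If `R` is a projective module over itself through Frobenius, then every stage `Stage p R n` is a projective
`R`-module and the inclusion `Stage p R n → PerfectClosure R p` is universally injective.
-/

set_option autoImplicit false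

namespace Groth.Agent.Lib.Seat75.PerfPure

open TensorProduct Groth.Agent.Lib.Seat75.PerfStage

universe u

section Trans

variable {A : Type u} {B : Type u} {C : Type u} [CommRing A] [CommRing B] [Algebra A B]
  [AddCommGroup C] [Module A C] [Module B C] [IsScalarTower A B C]

/-- Projectivity is transitive. -/
theorem projective_trans [Module.Projective A B] [Module.Projective B C] : Module.Projective A C := by
  classical
  obtain ⟨s, hs⟩ := Module.projective_def'.mp (inferInstance : Module.Projective B C)
  haveI : Module.Projective A (C →₀ B) :=
    Module.Projective.of_equiv (finsuppLequivDFinsupp (ι := C) (M := B) A).symm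
  refine Module.Projective.of_split (M := C →₀ B) (s.restrictScalars A)
    ((Finsupp.linearCombination B id).restrictScalars A) ?_
  ext x
  exact LinearMap.congr_fun hs x

end Trans

section Tower

variable (p : ℕ) [Fact p.Prime] (R : Type u) [CommRing R] [CharP R p]

/-- `Stage (n + k)` as an algebra over `Stage n` through `r ↦ r ^ (p ^ k)`. -/
@[reducible] noncomputable def algebraTower (n k : ℕ) : Algebra (Stage p R n) (Stage p R (n + k)) :=
  ((toStage p R (n + k) : R →+* Stage p R (n + k)).comp
    ((iterateFrobenius R p k).comp ((toStage p R n).symm : Stage p R n →+* R))).toAlgebra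

attribute [local instance] algebraTower

theorem algebraMap_tower (n k : ℕ) (r : Stage p R n) :
    algebraMap (Stage p R n) (Stage p R (n + k)) r =
      toStage p R (n + k) (((toStage p R n).symm r) ^ p ^ k) := by
  change toStage p R (n + k) (iterateFrobenius R p k ((toStage p R n).symm r)) = _
  rw [iterateFrobenius_def]

instance isScalarTower_tower (n k : ℕ) : IsScalarTower R (Stage p R n) (Stage p R (n + k)) :=
  IsScalarTower.of_algebraMap_eq fun s => by
    rw [algebraMap_tower, algebraMap_stage, algebraMap_stage, RingEquiv.symm_apply_apply, ← pow_mul,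
      ← pow_add]

instance invPair₁ (n : ℕ) : RingHomInvPair (toStage p R n : R →+* Stage p R n)
    ((toStage p R n).symm : Stage p R n →+* R) := RingHomInvPair.of_ringEquiv _

instance invPair₂ (n : ℕ) : RingHomInvPair ((toStage p R n).symm : Stage p R n →+* R)
    (toStage p R n : R →+* Stage p R n) := RingHomInvPair.of_ringEquiv_symm _

/-- The identity `Stage k → Stage (n + k)`, semilinear over `R ≃ Stage n`. -/
noncomputable def stageEquiv (n k : ℕ) :
    Stage p R k ≃ₛₗ[(toStage p R n : R →+* Stage p R n)] Stage p R (n + k) where
  toFun x := toStage p R (n + k) ((toStage p R k).symm x)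
  map_add' a b := by rw [map_add, map_add]
  map_smul' s x := by
    rw [smul_stage, Algebra.smul_def, algebraMap_tower]
    simp only [RingEquiv.symm_apply_apply, RingEquiv.coe_toRingHom, map_mul]
  invFun y := toStage p R k ((toStage p R (n + k)).symm y)
  left_inv x := by simp
  right_inv y := by simp

theorem projective_tower (n k : ℕ) [Module.Projective R (Stage p R k)] :
    Module.Projective (Stage p R n) (Stage p R (n + k)) :=
  Module.Projective.of_equiv (stageEquiv p R n k)

theorem faithfullyFlat_tower (n k : ℕ) [Module.Projective R (Stage p R k)] :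
    Module.FaithfullyFlat (Stage p R n) (Stage p R (n + k)) := by
  have hproj : Module.Projective (Stage p R n) (Stage p R (n + k)) := projective_tower p R n k
  rw [Module.FaithfullyFlat.iff_flat_and_proper_ideal]
  refine ⟨Module.Flat.of_projective, fun I hI h => hI ?_⟩
  -- the elements of `Stage (n + k)` lying in `I`
  let I' : Submodule (Stage p R n) (Stage p R (n + k)) :=
    { carrier := {x | toStage p R n ((toStage p R (n + k)).symm x) ∈ I}
      add_mem' := fun {a b} ha hb => by
        simp only [Set.mem_ofPred_eq, map_add] at ha hb ⊢
        exact I.add_mem ha hb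
      zero_mem' := by simp
      smul_mem' := fun c x hx => by
        simp only [Set.mem_ofPred_eq] at hx ⊢
        rw [Algebra.smul_def, algebraMap_tower, map_mul, map_mul, RingEquiv.symm_apply_apply]
        exact I.mul_mem_left _ hx }
  have hle : I • (⊤ : Submodule (Stage p R n) (Stage p R (n + k))) ≤ I' := by
    rw [Submodule.smul_le]
    intro r hr x _
    change toStage p R n ((toStage p R (n + k)).symm (r • x)) ∈ I
    rw [Algebra.smul_def, algebraMap_tower, map_mul, map_mul, RingEquiv.symm_apply_apply, map_pow,
      RingEquiv.apply_symm_apply]
    exact I.mul_mem_right _ (I.pow_mem_of_mem hr _ (pow_pos (Fact.out : p.Prime).pos k))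
  have h1 : (1 : Stage p R (n + k)) ∈ I' := by
    apply hle
    rw [h]
    trivial
  have h1' : toStage p R n ((toStage p R (n + k)).symm 1) ∈ I := h1
  rw [map_one, map_one] at h1'
  exact (Ideal.eq_top_iff_one I).mpr h1'

/-- The transition maps between the stages are universally injective. -/
theorem rTensor_trans_injective (n k : ℕ) [Module.Projective R (Stage p R k)]
    (N : Type u) [AddCommGroup N] [Module R N] :
    Function.Injective (LinearMap.rTensor N (trans p R n k)) := by
  haveI := faithfullyFlat_tower p R n k
  let e := AlgebraTensorModule.cancelBaseChange R (Stage p R n) (Stage p R n) (Stage p R (n + k)) N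
  have key : ∀ y : Stage p R n ⊗[R] N, LinearMap.rTensor N (trans p R n k) y =
      e (TensorProduct.mk (Stage p R n) (Stage p R (n + k)) (Stage p R n ⊗[R] N) 1 y) := by
    intro y
    induction y using TensorProduct.induction_on with
    | zero => simp
    | tmul r x =>
      rw [LinearMap.rTensor_tmul, TensorProduct.mk_apply,
        AlgebraTensorModule.cancelBaseChange_tmul, Algebra.smul_def, algebraMap_tower, mul_one,
        trans_apply]
    | add a b ha hb => rw [map_add, ha, hb, map_add, map_add]
  intro a b hab
  rw [key, key] at hab
  exact Module.FaithfullyFlat.tensorProduct_mk_injective (A := Stage p R n)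
    (B := Stage p R (n + k)) _ (e.injective hab)

/-- The zeroth stage is `R` itself. -/
noncomputable def stageZeroEquiv : Stage p R 0 ≃ₗ[R] R where
  toFun x := (toStage p R 0).symm x
  map_add' a b := map_add _ a b
  map_smul' s x := by
    rw [RingHom.id_apply, smul_stage, map_mul, RingEquiv.symm_apply_apply, pow_zero, pow_one,
      smul_eq_mul]
  invFun y := toStage p R 0 y
  left_inv x := by simp
  right_inv y := by simp

/-- If `R` is projective over itself through Frobenius then so are all the stages. -/
theorem projective_stage [Module.Projective R (Stage p R 1)] (n : ℕ) :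
    Module.Projective R (Stage p R n) := by
  induction n with
  | zero => exact Module.Projective.of_equiv (stageZeroEquiv p R).symm
  | succ n ih =>
    haveI := ih
    haveI : Module.Projective (Stage p R n) (Stage p R (n + 1)) := projective_tower p R n 1
    exact projective_trans (A := R) (B := Stage p R n) (C := Stage p R (n + 1))

end Tower

section Colimit

variable (p : ℕ) [Fact p.Prime] (R : Type u) [CommRing R] [CharP R p]

attribute [local instance] algebraPC

/-- The transition map `Stage i → Stage j` for `i ≤ j`, `r ↦ r ^ (p ^ (j - i))`. -/
noncomputable def transLE (i j : ℕ) (h : i ≤ j) : Stage p R i →ₗ[R] Stage p R j where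
  toFun r := toStage p R j (((toStage p R i).symm r) ^ p ^ (j - i))
  map_add' a b := by
    simp only [map_add, ← iterateFrobenius_def]
  map_smul' s r := by
    rw [RingHom.id_apply, smul_stage, smul_stage, map_mul, RingEquiv.symm_apply_apply, mul_pow,
      map_mul, ← pow_mul, ← pow_add, Nat.add_sub_cancel' h]

theorem transLE_apply (i j : ℕ) (h : i ≤ j) (r : Stage p R i) :
    transLE p R i j h r = toStage p R j (((toStage p R i).symm r) ^ p ^ (j - i)) := rfl

theorem incl_transLE (i j : ℕ) (h : i ≤ j) (r : Stage p R i) :
    incl p R j (transLE p R i j h r) = incl p R i r := by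
  obtain ⟨k, rfl⟩ := Nat.exists_eq_add_of_le h
  rw [incl_apply, incl_apply, transLE_apply, RingEquiv.symm_apply_apply, Nat.add_sub_cancel_left,
    mk_frob_pow]

theorem transLE_eq_trans (n k : ℕ) : transLE p R n (n + k) (Nat.le_add_right n k) = trans p R n k := by
  ext r
  rw [transLE_apply, trans_apply, Nat.add_sub_cancel_left]

instance directedSystem_stage :
    DirectedSystem (Stage p R) (fun i j h => transLE p R i j h) where
  map_self i x := by
    rw [transLE_apply, Nat.sub_self, pow_zero, pow_one, RingEquiv.apply_symm_apply]
  map_map k j i hij hjk x := by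
    rw [transLE_apply, transLE_apply, transLE_apply, RingEquiv.symm_apply_apply, ← pow_mul, ← pow_add]
    congr 3
    omega

/-- The comparison map from the direct limit of the stages to the perfect closure. -/
noncomputable def fromLimit :
    Module.DirectLimit (Stage p R) (fun i j h => transLE p R i j h) →ₗ[R] PerfectClosure R p :=
  Module.DirectLimit.lift R ℕ (Stage p R) (fun i j h => transLE p R i j h) (fun i => incl p R i)
    (fun i j h x => incl_transLE p R i j h x)

theorem fromLimit_of (i : ℕ) (x : Stage p R i) :
    fromLimit p R (Module.DirectLimit.of R ℕ (Stage p R) (fun i j h => transLE p R i j h) i x) =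
      incl p R i x :=
  Module.DirectLimit.lift_of _ _ x

theorem fromLimit_bijective : Function.Bijective (fromLimit p R) := by
  constructor
  · rw [injective_iff_map_eq_zero]
    intro z hz
    obtain ⟨i, x, rfl⟩ := Module.DirectLimit.exists_of z
    rw [fromLimit_of, incl_apply] at hz
    have h0 : PerfectClosure.mk R p (i, (toStage p R i).symm x) = PerfectClosure.mk R p (i, 0) := by
      rw [hz, PerfectClosure.mk_zero_right]
    obtain ⟨k, hk⟩ := (PerfectClosure.mk_eq_iff R p _ _).mp h0
    simp only [iterate_frobenius] at hk
    rw [zero_pow (pow_ne_zero _ (Fact.out : p.Prime).ne_zero)] at hk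
    rw [← Module.DirectLimit.of_f (hij := Nat.le_add_right i (i + k)), transLE_apply,
      Nat.add_sub_cancel_left, hk, map_zero, map_zero]
  · intro y
    obtain ⟨⟨n, r⟩, rfl⟩ := PerfectClosure.mk_surjective R p y
    exact ⟨Module.DirectLimit.of R ℕ (Stage p R) (fun i j h => transLE p R i j h) n (toStage p R n r),
      by rw [fromLimit_of, incl_apply, RingEquiv.symm_apply_apply]⟩

/-- If an element of `Stage n ⊗ N` dies in `PerfectClosure R p ⊗ N`, it already dies in a later stage. -/
theorem exists_rTensor_trans_eq_zero (n : ℕ) (N : Type u) [AddCommGroup N] [Module R N]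
    (y : Stage p R n ⊗[R] N) (hy : LinearMap.rTensor N (incl p R n) y = 0) :
    ∃ k : ℕ, LinearMap.rTensor N (trans p R n k) y = 0 := by
  let e := LinearEquiv.ofBijective (fromLimit p R) (fromLimit_bijective p R)
  have h1 : incl p R n = (fromLimit p R).comp
      (Module.DirectLimit.of R ℕ (Stage p R) (fun i j h => transLE p R i j h) n) := by
    ext x
    rw [LinearMap.comp_apply, fromLimit_of]
  rw [h1, LinearMap.rTensor_comp, LinearMap.comp_apply] at hy
  have h2 : LinearMap.rTensor N
      (Module.DirectLimit.of R ℕ (Stage p R) (fun i j h => transLE p R i j h) n) y = 0 := by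
    apply (LinearEquiv.rTensor N e).injective
    rw [map_zero]
    exact hy
  have h3 := TensorProduct.directLimitLeft_rTensor_of (fun i j h => transLE p R i j h) N y
  rw [h2, map_zero] at h3
  obtain ⟨j, hij, hj⟩ := Module.DirectLimit.of.zero_exact h3.symm
  obtain ⟨k, rfl⟩ := Nat.exists_eq_add_of_le hij
  refine ⟨k, ?_⟩
  rw [← transLE_eq_trans]
  exact hj

/-- The inclusions of the stages into the perfect closure are universally injective. -/
theorem rTensor_incl_injective (hproj : ∀ k, Module.Projective R (Stage p R k)) (n : ℕ)
    (N : Type u) [AddCommGroup N] [Module R N] :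
    Function.Injective (LinearMap.rTensor N (incl p R n)) := by
  rw [injective_iff_map_eq_zero]
  intro y hy
  obtain ⟨k, hk⟩ := exists_rTensor_trans_eq_zero p R n N y hy
  haveI := hproj k
  apply rTensor_trans_injective p R n k N
  rw [hk, map_zero]

end Colimit

end Groth.Agent.Lib.Seat75.PerfPure
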