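import Mathlib.FieldTheory.PerfectClosure
import Mathlib.Algebra.CharP.Frobenius
import Mathlib.LinearAlgebra.TensorProduct.RightExactness

/-!
# The perfect closure of a ring of characteristic `p` as a union of Frobenius stages

`Stage p R n` is a copy of `R`, an `R`-algebra through the `n`-th iterate of Frobenius.  The map
`incl p R n : Stage p R n →ₗ[R] PerfectClosure R p`, `r ↦ r ^ (1 / p ^ n)`, is `R`-linear, and the
perfect closure is the union of the images of these maps.
-/

set_option autoImplicit false

namespace Groth.Agent.Lib.Seat75.PerfStage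

open TensorProduct

universe u

set_option linter.unusedVariables false in
/-- A copy of `R`, which is an `R`-algebra through `s ↦ s ^ (p ^ n)`. -/
@[nolint unusedArguments]
def Stage (p : ℕ) (R : Type u) (n : ℕ) : Type u := R

variable (p : ℕ) [Fact p.Prime] (R : Type u) [CommRing R] [CharP R p]

instance (n : ℕ) : CommRing (Stage p R n) := inferInstanceAs (CommRing R)

/-- The identity of underlying rings. -/
def toStage (n : ℕ) : R ≃+* Stage p R n := RingEquiv.refl R

instance algebraStage (n : ℕ) : Algebra R (Stage p R n) :=
  ((toStage p R n : R →+* Stage p R n).comp (iterateFrobenius R p n)).toAlgebra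

theorem algebraMap_stage (n : ℕ) (s : R) :
    algebraMap R (Stage p R n) s = toStage p R n (s ^ p ^ n) := by
  change toStage p R n (iterateFrobenius R p n s) = _
  rw [iterateFrobenius_def]

theorem smul_stage (n : ℕ) (s : R) (r : Stage p R n) :
    s • r = toStage p R n (s ^ p ^ n) * r := by
  rw [Algebra.smul_def, algebraMap_stage]

/-- The algebra structure of the perfect closure over `R`. -/
@[reducible] noncomputable def algebraPC : Algebra R (PerfectClosure R p) :=
  (PerfectClosure.of R p).toAlgebra

attribute [local instance] algebraPC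

theorem smul_mk (s : R) (n : ℕ) (r : R) :
    s • PerfectClosure.mk R p (n, r) = PerfectClosure.mk R p (n, s ^ p ^ n * r) := by
  rw [Algebra.smul_def]
  change PerfectClosure.of R p s * _ = _
  rw [PerfectClosure.of_apply, PerfectClosure.mk_mul_mk]
  simp only [zero_add, iterate_frobenius, pow_zero, pow_one]

theorem mk_add (n : ℕ) (a b : R) :
    PerfectClosure.mk R p (n, a + b) = PerfectClosure.mk R p (n, a) + PerfectClosure.mk R p (n, b) := by
  rw [PerfectClosure.mk_add_mk]
  simp only
  rw [PerfectClosure.R.sound R p n n (a + b) _ rfl, iterate_map_add]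

theorem mk_frob_pow (n k : ℕ) (r : R) :
    PerfectClosure.mk R p (n + k, r ^ p ^ k) = PerfectClosure.mk R p (n, r) := by
  rw [PerfectClosure.R.sound R p k n r _ rfl, iterate_frobenius, add_comm]

/-- The inclusion of the `n`-th stage into the perfect closure: `r ↦ r ^ (1 / p ^ n)`. -/
noncomputable def incl (n : ℕ) : Stage p R n →ₗ[R] PerfectClosure R p where
  toFun r := PerfectClosure.mk R p (n, (toStage p R n).symm r)
  map_add' a b := by
    rw [map_add, mk_add]
  map_smul' s r := by
    rw [RingHom.id_apply, smul_mk, smul_stage, map_mul, RingEquiv.symm_apply_apply]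

theorem incl_apply (n : ℕ) (r : Stage p R n) :
    incl p R n r = PerfectClosure.mk R p (n, (toStage p R n).symm r) := rfl

/-- The transition map `Stage n → Stage (n + k)`, `r ↦ r ^ (p ^ k)`. -/
noncomputable def trans (n k : ℕ) : Stage p R n →ₗ[R] Stage p R (n + k) where
  toFun r := toStage p R (n + k) (((toStage p R n).symm r) ^ p ^ k)
  map_add' a b := by
    simp only [map_add, ← iterateFrobenius_def]
  map_smul' s r := by
    rw [RingHom.id_apply, smul_stage, smul_stage, map_mul, RingEquiv.symm_apply_apply, mul_pow,
      map_mul, ← pow_mul, ← pow_add]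

theorem trans_apply (n k : ℕ) (r : Stage p R n) :
    trans p R n k r = toStage p R (n + k) (((toStage p R n).symm r) ^ p ^ k) := rfl

theorem incl_trans (n k : ℕ) (r : Stage p R n) : incl p R (n + k) (trans p R n k r) = incl p R n r := by
  rw [incl_apply, incl_apply, trans_apply, RingEquiv.symm_apply_apply, mk_frob_pow]

theorem incl_comp_trans (n k : ℕ) : (incl p R (n + k)).comp (trans p R n k) = incl p R n :=
  LinearMap.ext (incl_trans p R n k)

/-- Every element of `PerfectClosure R p ⊗ P` comes from some stage. -/
theorem exists_mem_range_rTensor (P : Type*) [AddCommGroup P] [Module R P]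
    (x : PerfectClosure R p ⊗[R] P) :
    ∃ n : ℕ, x ∈ LinearMap.range (LinearMap.rTensor P (incl p R n)) := by
  have mono : ∀ (n k : ℕ), LinearMap.range (LinearMap.rTensor P (incl p R n)) ≤
      LinearMap.range (LinearMap.rTensor P (incl p R (n + k))) := by
    intro n k
    rw [← incl_comp_trans p R n k, LinearMap.rTensor_comp]
    exact LinearMap.range_comp_le_range _ _
  induction x using TensorProduct.induction_on with
  | zero => exact ⟨0, zero_mem _⟩
  | tmul a y =>
    obtain ⟨⟨n, r⟩, rfl⟩ := PerfectClosure.mk_surjective R p a
    exact ⟨n, (toStage p R n r) ⊗ₜ y, by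
      rw [LinearMap.rTensor_tmul, incl_apply, RingEquiv.symm_apply_apply]⟩
  | add a b ha hb =>
    obtain ⟨n, hn⟩ := ha
    obtain ⟨m, hm⟩ := hb
    refine ⟨n + m, add_mem (mono n m hn) ?_⟩
    rw [add_comm n m]
    exact mono m n hm

end Groth.Agent.Lib.Seat75.PerfStage
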