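import Groth.Prelude.Def_Ref1Cl
import Groth.Agent.S16086
import Groth.Agent.S16090
import Groth.Agent.Lib.Seat75DualRefl
import Groth.Agent.Lib.Seat75OrdNonneg

/-!
# The group law on classes of rank one reflexive modules (helper75)

`HasDiv F D`: the module `F` has a nonzero rational section whose Weil divisor is `D`.
On an integral locally Noetherian normal scheme, for rank one coherent reflexive modules:
* `exists_hasDiv`: every such module has a divisor;
* `nonempty_iso_of_hasDiv`: modules with the same divisor are isomorphic;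
* `hasDiv_refTensor`, `hasDiv_unit`, `hasDiv_dual`: the divisor of `(F ⊗ G)^**` is the sum, of `O_X` is
  zero, of `F^*` is the opposite.
* `mul`, `one`, `inv` on `RefFun.Ref1Set X` and the group axioms `mul_comm'`, `mul_assoc'`, `one_mul'`,
  `inv_mul'`.
-/

set_option autoImplicit false
set_option linter.style.haveILetI false
set_option linter.unusedSectionVars false
universe u

open AlgebraicGeometry CategoryTheory TopologicalSpace Opposite

namespace Groth.Agent.Lib.Seat75.Ref1Group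

open Groth.Agent.Lib.Helper23.SecTw Groth.Agent.Lib.Helper6
  Groth.Agent.Lib.Seat75.SecOrd Groth.Agent.Lib.Seat75.DualFrame Groth.Agent.Lib.Seat75.HomExt
  Groth.Agent.Lib.Seat75.Ref1Iso Groth.Agent.Lib.Seat75.Ref1Frame
  Groth.Agent.Lib.Seat75.DualRefl Groth.Agent.Lib.Seat75.OrdNonneg Groth.Agent.S16086 RefHull

variable {X : Scheme.{u}} [IsIntegral X] [IsLocallyNoetherian X]

/-- `F` has a nonzero rational section with Weil divisor `D`. -/
def HasDiv (F : X.Modules) (D : X → ℤ) : Prop :=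
  ∃ s : Cyc.secFibre F (genericPoint X), s ≠ 0 ∧ ∀ x : X, Order.coheight x = 1 →
    Cyc.secOrdAt F (genericPoint X) x (hη x) s = D x

lemma ne_zero_of_bijective {R M : Type*} [Ring R] [Nontrivial R] [AddCommGroup M] [Module R M]
    (e : M) (he : Function.Bijective (fun c : R => c • e)) : e ≠ 0 := by
  rintro rfl
  have : (1 : R) = 0 := he.1 (by simp)
  exact one_ne_zero this

lemma mk_ne_zero (F : X.Modules) (e : F.presheaf.stalk (genericPoint X)) (he : e ≠ 0) :
    (Submodule.Quotient.mk e : Cyc.secFibre F (genericPoint X)) ≠ 0 := by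
  intro h
  exact he (mk_injective F e 0 (h.trans (Submodule.Quotient.mk_zero _).symm))

theorem exists_hasDiv (F : X.Modules) (hF : IsRef1 F) : ∃ D, HasDiv F D := by
  obtain ⟨e, he⟩ := exists_generic_gen F hF.2.2
  exact ⟨fun x => Cyc.secOrdAt F (genericPoint X) x (hη x) (Submodule.Quotient.mk e),
    Submodule.Quotient.mk e, mk_ne_zero F e (ne_zero_of_bijective e he), fun x hx => rfl⟩

theorem nonempty_iso_of_hasDiv (hX : Pi1.IsNormalScheme X) (F G : X.Modules) (hF : IsRef1 F)
    (hG : IsRef1 G) (D : X → ℤ) (h1 : HasDiv F D) (h2 : HasDiv G D) : Nonempty (F ≅ G) := by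
  obtain ⟨s, hs, hsD⟩ := h1
  obtain ⟨t, ht, htD⟩ := h2
  rw [Groth.Agent.S16086.result X hX F G hF hG s hs t ht]
  refine ⟨1, one_ne_zero, fun x hx => ?_⟩
  have h1 := hsD x hx
  have h2 := htD x hx
  have h3 := ord_one (X := X) x
  change Cyc.secOrdAt F (genericPoint X) x (hη x) s =
    Cyc.secOrdAt G (genericPoint X) x (hη x) t + Scheme.ord (1 : X.functionField) x
  omega

theorem hasDiv_refTensor (hX : Pi1.IsNormalScheme X) (F G : X.Modules) (hF : IsRef1 F)
    (hG : IsRef1 G) (D E : X → ℤ) (h1 : HasDiv F D) (h2 : HasDiv G E) :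
    HasDiv (ddual (CohB1.tensorMod F G)) (D + E) := by
  obtain ⟨s, hs, hsD⟩ := h1
  obtain ⟨t, ht, htD⟩ := h2
  obtain ⟨w, hw, hwD⟩ := Groth.Agent.S16090.result X hX F G hF hG s hs t ht
  refine ⟨w, hw, fun x hx => ?_⟩
  rw [Pi.add_apply, ← hsD x hx, ← htD x hx]
  exact hwD x hx

theorem hasDiv_unit : HasDiv (Coh.structureModule X) 0 :=
  ⟨Submodule.Quotient.mk (oneGerm (genericPoint X)),
    mk_ne_zero _ _ (ne_zero_of_bijective _ (bijective_smul_oneGerm (genericPoint X))),
    fun x hx => secOrdAt_unit_one x hx⟩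

theorem hasDiv_dual (hX : Pi1.IsNormalScheme X) (F : X.Modules) (hF : IsRef1 F) (D : X → ℤ)
    (h : HasDiv F D) : HasDiv (dual F) (-D) := by
  obtain ⟨s, hs, hsD⟩ := h
  obtain ⟨s₀, rfl⟩ := Submodule.Quotient.mk_surjective _ s
  have hs₀ : s₀ ≠ 0 := by
    rintro rfl
    exact hs (Submodule.Quotient.mk_zero _)
  obtain ⟨V, e, hηV, he⟩ := exists_gen_generic F hF.2.2
  have hbe := bijective_smul_germ_of_isGen F he (genericPoint X) hηV
  obtain ⟨α, hα⟩ := hbe.2 s₀
  have hα' : α • F.presheaf.germ V (genericPoint X) hηV e = s₀ := hα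
  have hα0 : α ≠ 0 := by
    rintro rfl
    rw [zero_smul] at hα'
    exact hs₀ hα'.symm
  set g₁ := (dual F).presheaf.germ V (genericPoint X) hηV (dualSec F he) with hg₁
  have hbg₁ := bijective_smul_germ_of_isGen (dual F) (isGen_dualSec F he) (genericPoint X) hηV
  have hg₁0 : g₁ ≠ 0 := ne_zero_of_bijective _ hbg₁
  have hw₀ : α⁻¹ • g₁ ≠ 0 := by
    intro h0
    rcases smul_eq_zero.1 h0 with h | h
    · exact inv_ne_zero hα0 h
    · exact hg₁0 h
  refine ⟨Submodule.Quotient.mk (α⁻¹ • g₁), mk_ne_zero _ _ hw₀, fun x hx => ?_⟩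
  rw [Pi.neg_apply, ← hsD x hx]
  obtain ⟨Vx, a, hxVx, ha⟩ := exists_gen_codim_one hX F hF x hx
  have hηVx : genericPoint X ∈ Vx := (hη x).mem_open Vx.isOpen hxVx
  have hba := bijective_smul_germ_of_isGen F ha x hxVx
  have hbaη := bijective_smul_germ_of_isGen F ha (genericPoint X) hηVx
  obtain ⟨β, hβ⟩ := hbaη.2 s₀
  have hβ' : β • F.presheaf.germ Vx (genericPoint X) hηVx a = s₀ := hβ
  have hβ0 : β ≠ 0 := by
    rintro rfl
    rw [zero_smul] at hβ'
    exact hs₀ hβ'.symm
  have hspa : F.presheaf.stalkSpecializes (hη x) (F.presheaf.germ Vx x hxVx a) =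
      F.presheaf.germ Vx (genericPoint X) hηVx a := spec_germ F (hη x) hxVx a
  have e1 := secOrdAt_eq_ord F x hx (F.presheaf.germ Vx x hxVx a) hba (by rw [hspa]; exact hbaη)
    s₀ β hβ0 (by rw [hspa, hβ'])
  -- the dual frame at `x`
  set g₂ := (dual F).presheaf.germ Vx (genericPoint X) hηVx (dualSec F ha) with hg₂
  have hbu := bijective_smul_germ_of_isGen (dual F) (isGen_dualSec F ha) x hxVx
  have hbg₂ := bijective_smul_germ_of_isGen (dual F) (isGen_dualSec F ha) (genericPoint X) hηVx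
  have hspu : (dual F).presheaf.stalkSpecializes (hη x)
      ((dual F).presheaf.germ Vx x hxVx (dualSec F ha)) = g₂ :=
    spec_germ (dual F) (hη x) hxVx (dualSec F ha)
  -- comparison of the two dual frames
  obtain ⟨c, hc⟩ := hbg₁.2 g₂
  have hc' : c • g₁ = g₂ := hc
  have hga : F.presheaf.germ Vx (genericPoint X) hηVx a =
      (β⁻¹ * α) • F.presheaf.germ V (genericPoint X) hηV e := by
    rw [← smul_smul, hα', ← hβ', smul_smul, inv_mul_cancel₀ hβ0, one_smul]
  have hE1 : evalStalk F (Coh.structureModule X) (genericPoint X) g₁ =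
      dualStalk F he (genericPoint X) hηV := by
    rw [hg₁, evalStalk_germ]; rfl
  have hE2 : evalStalk F (Coh.structureModule X) (genericPoint X) g₂ =
      dualStalk F ha (genericPoint X) hηVx := by
    rw [hg₂, evalStalk_germ]; rfl
  have hev : evalStalk F (Coh.structureModule X) (genericPoint X) (c • g₁)
      (F.presheaf.germ Vx (genericPoint X) hηVx a) =
      evalStalk F (Coh.structureModule X) (genericPoint X) g₂
      (F.presheaf.germ Vx (genericPoint X) hηVx a) := by rw [hc']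
  rw [map_smul, LinearMap.smul_apply, hE1, hE2, dualStalk_gen, hga, dualStalk_smul_gen,
    smul_smul] at hev
  have hone : c * (β⁻¹ * α) = 1 := by
    apply (bijective_smul_oneGerm (genericPoint X)).1
    change (c * (β⁻¹ * α)) • oneGerm (genericPoint X) = (1 : X.presheaf.stalk (genericPoint X)) • _
    rw [hev, one_smul]
  have hw : α⁻¹ • g₁ = β⁻¹ • g₂ := by
    rw [← hc', smul_smul]
    congr 1
    have : c = β * α⁻¹ := by
      field_simp
      field_simp at hone
      linear_combination hone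
    rw [this]
    field_simp
  have e2 := secOrdAt_eq_ord (dual F) x hx ((dual F).presheaf.germ Vx x hxVx (dualSec F ha)) hbu
    (by rw [hspu]; exact hbg₂) (α⁻¹ • g₁) β⁻¹ (inv_ne_zero hβ0) (by rw [hspu, hw])
  rw [e1, e2, ord_inv x hβ0]

/-! ### the operations on classes -/

/-- the dual on isomorphism classes. -/
noncomputable def dualCl : PicF.Cl X → PicF.Cl X :=
  Quot.lift (fun F => PicF.cl (dual F)) (by
    rintro F F' ⟨e⟩
    exact Quot.sound ⟨RefFun.dualIso e⟩)

/-- the carrier, spelled out as in the statement. -/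
abbrev R1 (X : Scheme.{u}) : Type (u + 1) :=
  {c : PicF.Cl X // ∃ F : X.Modules, PicF.cl F = c ∧ RefHull.IsRef1 F}

/-- the product of classes. -/
noncomputable def mul (a b : R1 X) : R1 X :=
  ⟨RefFun.refMulCl a.1 b.1, by
    obtain ⟨F, hFa, hF⟩ := a.2
    obtain ⟨G, hGb, hG⟩ := b.2
    exact ⟨ddual (CohB1.tensorMod F G), by rw [← hFa, ← hGb]; rfl, isRef1_refTensor F G hF hG⟩⟩

/-- the neutral class. -/
noncomputable def one : R1 X := ⟨PicF.cl (Coh.structureModule X), _, rfl, isRef1_unit⟩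

/-- the inverse class. -/
noncomputable def inv (a : R1 X) : R1 X :=
  ⟨dualCl a.1, by
    obtain ⟨F, hFa, hF⟩ := a.2
    exact ⟨dual F, by rw [← hFa]; rfl, isRef1_dual F hF⟩⟩

theorem mul_comm' (hX : Pi1.IsNormalScheme X) (a b : R1 X) : mul a b = mul b a := by
  obtain ⟨_, F, rfl, hF⟩ := a
  obtain ⟨_, G, rfl, hG⟩ := b
  apply Subtype.ext
  change PicF.cl (ddual (CohB1.tensorMod F G)) = PicF.cl (ddual (CohB1.tensorMod G F))
  obtain ⟨D, hD⟩ := exists_hasDiv F hF
  obtain ⟨E, hE⟩ := exists_hasDiv G hG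
  refine Quot.sound (nonempty_iso_of_hasDiv hX _ _ (isRef1_refTensor F G hF hG)
    (isRef1_refTensor G F hG hF) (D + E) (hasDiv_refTensor hX F G hF hG D E hD hE) ?_)
  rw [add_comm]
  exact hasDiv_refTensor hX G F hG hF E D hE hD

theorem mul_assoc' (hX : Pi1.IsNormalScheme X) (a b c : R1 X) :
    mul (mul a b) c = mul a (mul b c) := by
  obtain ⟨_, F, rfl, hF⟩ := a
  obtain ⟨_, G, rfl, hG⟩ := b
  obtain ⟨_, H, rfl, hH⟩ := c
  apply Subtype.ext
  change PicF.cl (ddual (CohB1.tensorMod (ddual (CohB1.tensorMod F G)) H)) =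
    PicF.cl (ddual (CohB1.tensorMod F (ddual (CohB1.tensorMod G H))))
  obtain ⟨D, hD⟩ := exists_hasDiv F hF
  obtain ⟨E, hE⟩ := exists_hasDiv G hG
  obtain ⟨K, hK⟩ := exists_hasDiv H hH
  have hFG := isRef1_refTensor F G hF hG
  have hGH := isRef1_refTensor G H hG hH
  refine Quot.sound (nonempty_iso_of_hasDiv hX _ _ (isRef1_refTensor _ H hFG hH)
    (isRef1_refTensor F _ hF hGH) (D + E + K)
    (hasDiv_refTensor hX _ H hFG hH (D + E) K (hasDiv_refTensor hX F G hF hG D E hD hE) hK) ?_)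
  rw [add_assoc]
  exact hasDiv_refTensor hX F _ hF hGH D (E + K) hD (hasDiv_refTensor hX G H hG hH E K hE hK)

theorem one_mul' (hX : Pi1.IsNormalScheme X) (a : R1 X) : mul one a = a := by
  obtain ⟨_, F, rfl, hF⟩ := a
  apply Subtype.ext
  change PicF.cl (ddual (CohB1.tensorMod (Coh.structureModule X) F)) = PicF.cl F
  obtain ⟨D, hD⟩ := exists_hasDiv F hF
  refine Quot.sound (nonempty_iso_of_hasDiv hX _ _ (isRef1_refTensor _ F isRef1_unit hF) hF D ?_ hD)
  have := hasDiv_refTensor hX _ F isRef1_unit hF 0 D hasDiv_unit hD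
  rwa [zero_add] at this

theorem inv_mul' (hX : Pi1.IsNormalScheme X) (a : R1 X) : mul (inv a) a = one := by
  obtain ⟨_, F, rfl, hF⟩ := a
  apply Subtype.ext
  change PicF.cl (ddual (CohB1.tensorMod (dual F) F)) = PicF.cl (Coh.structureModule X)
  obtain ⟨D, hD⟩ := exists_hasDiv F hF
  have hdF := isRef1_dual F hF
  refine Quot.sound (nonempty_iso_of_hasDiv hX _ _ (isRef1_refTensor _ F hdF hF) isRef1_unit 0 ?_
    hasDiv_unit)
  have := hasDiv_refTensor hX _ F hdF hF (-D) D (hasDiv_dual hX F hF D hD) hD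
  rwa [neg_add_cancel] at this

end Groth.Agent.Lib.Seat75.Ref1Group
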