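import Groth.Prelude.Def_RefPow
import Groth.Agent.Lib.Seat75DualRefl
import Groth.Agent.Lib.Seat55ReflPush

/-!
# Frames of the reflexive powers `F^[n]` and of the powers `s^n` of a section (helper75)

* `sv_sPow_succ_succ`: the sections of `s^(n+2)`.
* `exists_frame_pow`: if `e` is a frame of `F` over `V` and `s = c • e` there, then `F^[n]` has a
  frame `e_n` over `V` with `s^n = c^n • e_n`.
* `isRef1_refPow`: reflexive powers of a rank one reflexive module are rank one reflexive.
* `isGen_sv_of_le`, `isGen_sv_sPow_of_le`: on opens inside an open `U` all of whose points lie in the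
  iso locus of `s`, the sections `s` and `s^n` are frames.
* `isIso_restrict_sPow`: `s^n` restricts to an isomorphism over such an `U`.
-/

set_option autoImplicit false
set_option linter.style.haveILetI false
set_option linter.unusedSectionVars false
universe u

open AlgebraicGeometry CategoryTheory TopologicalSpace Opposite

namespace Groth.Agent.Lib.Seat75.RefPowFrame

open Groth.Agent.Lib.Helper23.SecTw Groth.Agent.Lib.Helper23.GenLocus Groth.Agent.Lib.Helper6
  Groth.Agent.Lib.Seat75.SecOrd Groth.Agent.Lib.Seat75.DualFrame Groth.Agent.Lib.Seat75.HomExt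
  Groth.Agent.Lib.Seat75.Ref1Iso Groth.Agent.Lib.Seat75.DualRefl RefHull RefPow

variable {X : Scheme.{u}} {F : X.Modules} (s : Coh.structureModule X ⟶ F)

lemma sv_comp {M N : X.Modules} (a : Coh.structureModule X ⟶ M) (φ : M ⟶ N) (W : X.Opens) :
    sv (a ≫ φ) W = φ.app W (sv a W) := rfl

lemma sv_sPow_zero (W : X.Opens) : sv (sPow s 0) W = toS W 1 := rfl

lemma sv_sPow_one (W : X.Opens) : sv (sPow s 1) W = sv s W :=
  congrArg (fun a : Coh.structureModule X ⟶ F => sv a W) (sPow_one s)

lemma sv_sPow_succ (n : ℕ) (W : X.Opens) :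
    sv (sPow s (n + 1)) W = (mulBy s n).app W (sv (sPow s n) W) := rfl

lemma sv_sPow_succ_succ (n : ℕ) (W : X.Opens) :
    sv (sPow s (n + 2)) W = (bidualMap (CohB1.tensorMod (refPow F (n + 1)) F)).app W
      (tm (refPow F (n + 1)) F W (sv (sPow s (n + 1)) W) (sv s W)) := by
  rw [sv_sPow_succ, mulBy_succ_app]
  rfl

/-- frames of the reflexive powers. -/
theorem exists_frame_pow {V : X.Opens} {e : Γ(F, V)} (he : IsGen F V e) (c : Γ(X, V))
    (hc : sv s V = c • e) (n : ℕ) :
    ∃ en : Γ(refPow F n, V), IsGen (refPow F n) V en ∧ sv (sPow s n) V = c ^ n • en := by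
  induction n using Nat.twoStepInduction with
  | zero => exact ⟨toS V 1, isGen_one V, by
      rw [pow_zero]
      exact (one_smul Γ(X, V) (toS V 1)).symm⟩
  | one => exact ⟨e, he, by
      rw [pow_one]
      exact (sv_sPow_one s V).trans hc⟩
  | more n _ ih =>
    obtain ⟨en, hen, hsn⟩ := ih
    refine ⟨(bidualMap (CohB1.tensorMod (refPow F (n + 1)) F)).app V
      (tm (refPow F (n + 1)) F V en e), isGen_bidual _ (isGen_tm _ _ _ _ _ hen he), ?_⟩
    rw [sv_sPow_succ_succ, hsn, hc, tm_smul_left, tm_smul_right, smul_smul,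
      Scheme.Modules.Hom.app_smul, ← pow_succ]
    rfl

/-- reflexive powers of a rank one reflexive module are rank one reflexive. -/
theorem isRef1_refPow [IsIntegral X] [IsLocallyNoetherian X] (hF : IsRef1 F) (n : ℕ) :
    IsRef1 (refPow F n) := by
  induction n using Nat.twoStepInduction with
  | zero => exact isRef1_unit
  | one => exact hF
  | more n _ ih => exact isRef1_refTensor _ _ ih hF

section restrict

variable (U : X.Opens)

lemma image_preimage_of_le {W : X.Opens} (hW : W ≤ U) : U.ι ''ᵁ (U.ι ⁻¹ᵁ W) = W := by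
  rw [Scheme.Hom.image_preimage_eq_opensRange_inf, Scheme.Opens.opensRange_ι]
  exact inf_eq_right.2 hW

/-- a morphism which restricts to an isomorphism over `U` is bijective on sections over opens
inside `U`. -/
theorem bijective_app_of_isIso_restrict {M N : X.Modules} (φ : M ⟶ N)
    (hφ : IsIso ((Scheme.Modules.restrictFunctor U.ι).map φ)) {W : X.Opens} (hW : W ≤ U) :
    Function.Bijective (φ.app W) := by
  have h1 : IsIso (((Scheme.Modules.restrictFunctor U.ι).map φ).app (U.ι ⁻¹ᵁ W)) :=
    Scheme.Modules.Hom.isIso_iff_isIso_app.1 hφ _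
  have h2 : IsIso (φ.app (U.ι ''ᵁ (U.ι ⁻¹ᵁ W))) := h1
  have h3 : IsIso (φ.app W) := by
    rw [image_preimage_of_le U hW] at h2
    exact h2
  exact ConcreteCategory.bijective_of_isIso _

variable (hs : ∀ x : X, x ∈ U → Function.Bijective (stalkMapₗ s x))
include hs

theorem isIso_restrict_of_isoLocus : IsIso ((Scheme.Modules.restrictFunctor U.ι).map s) :=
  Groth.Agent.Lib.Seat55.ReflPush.isIso_restrict_of_stalk_bijective s U (fun y => hs _ y.2)

/-- `s` is a frame of `F` on opens inside `U`. -/
theorem isGen_sv_of_le {W : X.Opens} (hW : W ≤ U) : IsGen F W (sv s W) := by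
  intro W' hW'
  have hb := bijective_app_of_isIso_restrict U s (isIso_restrict_of_isoLocus s U hs) (hW'.trans hW)
  have h : (fun r : Γ(X, W') => r • res F hW' (sv s W)) = fun r => s.app W' (toS W' r) := by
    funext r
    rw [res_sv, app_toS]
  rw [h]
  exact hb.comp ⟨fun a b h => h, fun b => ⟨b, rfl⟩⟩

/-- `s^n` is a frame of `F^[n]` on opens inside `U`. -/
theorem isGen_sv_sPow_of_le {W : X.Opens} (hW : W ≤ U) (n : ℕ) :
    IsGen (refPow F n) W (sv (sPow s n) W) := by
  obtain ⟨en, hen, h⟩ := exists_frame_pow s (isGen_sv_of_le s U hs hW) 1 (one_smul _ _).symm n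
  rw [one_pow, one_smul] at h
  rw [h]
  exact hen

/-- `s^n` is bijective on the stalks at the points of `U`. -/
theorem bijective_stalkMapₗ_sPow (n : ℕ) (x : X) (hx : x ∈ U) :
    Function.Bijective (stalkMapₗ (sPow s n) x) := by
  refine bijective_of_gen _ ((Coh.structureModule X).presheaf.germ U x hx (toS U 1))
    (bijective_smul_germ_of_isGen _ (isGen_one U) x hx) ?_
  rw [stalkMapₗ_germ]
  exact bijective_smul_germ_of_isGen _ (isGen_sv_sPow_of_le s U hs le_rfl n) x hx

/-- `s^n` restricts to an isomorphism over `U`. -/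
theorem isIso_restrict_sPow (n : ℕ) :
    IsIso ((Scheme.Modules.restrictFunctor U.ι).map (sPow s n)) :=
  Groth.Agent.Lib.Seat55.ReflPush.isIso_restrict_of_stalk_bijective (sPow s n) U
    (fun y => bijective_stalkMapₗ_sPow s U hs n _ y.2)

end restrict

end Groth.Agent.Lib.Seat75.RefPowFrame
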