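import Groth.Prelude.Def_RefPow
import Groth.Agent.Lib.Seat75RefPowFrame

/-!
# The cocone from the reflexive powers `F^[n]` to `j_* O_U` (helper75)

`U` an open all of whose points lie in the iso locus of `s : O_X ⟶ F`.
* `leg n : F^[n] ⟶ j_*(O_X|_U)`, adjoint to the inverse of the restriction of `s^n`;
  `leg_zero` (it is the unit for `n = 0`), `mulBy_leg` (compatibility), `cocone`.
* `app_leg`: `s^n` applied to `leg n (t)` is the restriction of `t`.
-/

set_option autoImplicit false
set_option linter.style.haveILetI false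
set_option linter.unusedSectionVars false
universe u

open AlgebraicGeometry CategoryTheory TopologicalSpace Opposite

namespace Groth.Agent.Lib.Seat75.RefPowCocone

open Groth.Agent.Lib.Helper23.SecTw Groth.Agent.Lib.Helper23.GenLocus Groth.Agent.Lib.Helper6
  Groth.Agent.Lib.Seat75.RefPowFrame RefHull RefPow

variable {X : Scheme.{u}} {F : X.Modules} (s : Coh.structureModule X ⟶ F) (U : X.Opens)
  (hs : ∀ x : X, x ∈ U → Function.Bijective (stalkMapₗ s x))

/-- `j_*(O_X|_U)`. -/
noncomputable abbrev Q (U : X.Opens) : X.Modules :=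
  (Scheme.Modules.pushforward U.ι).obj ((Coh.structureModule X).restrict U.ι)

/-- the map `M ⟶ j_*(O_X|_U)` attached to a section `σ` of `M` which restricts to an
isomorphism over `U`. -/
noncomputable def legOf {M : X.Modules} (σ : Coh.structureModule X ⟶ M)
    (hσ : IsIso ((Scheme.Modules.restrictFunctor U.ι).map σ)) : M ⟶ Q U :=
  (Scheme.Modules.restrictAdjunction U.ι).homEquiv _ _
    (inv ((Scheme.Modules.restrictFunctor U.ι).map σ))

theorem legOf_id (h : IsIso ((Scheme.Modules.restrictFunctor U.ι).map (𝟙 (Coh.structureModule X)))) :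
    legOf U (𝟙 (Coh.structureModule X)) h =
      (Scheme.Modules.restrictAdjunction U.ι).unit.app (Coh.structureModule X) := by
  unfold legOf
  rw [Adjunction.homEquiv_unit]
  have h2 : inv ((Scheme.Modules.restrictFunctor U.ι).map (𝟙 (Coh.structureModule X))) = 𝟙 _ := by
    apply IsIso.inv_eq_of_hom_inv_id
    rw [CategoryTheory.Functor.map_id, Category.comp_id]
  rw [h2, CategoryTheory.Functor.map_id]
  exact Category.comp_id _

theorem comp_legOf {M N : X.Modules} (σ : Coh.structureModule X ⟶ M) (φ : M ⟶ N)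
    (hσ : IsIso ((Scheme.Modules.restrictFunctor U.ι).map σ))
    (hσφ : IsIso ((Scheme.Modules.restrictFunctor U.ι).map (σ ≫ φ))) :
    φ ≫ legOf U (σ ≫ φ) hσφ = legOf U σ hσ := by
  unfold legOf
  rw [← Adjunction.homEquiv_naturality_left]
  congr 1
  apply IsIso.eq_inv_of_hom_inv_id
  rw [← Category.assoc, ← CategoryTheory.Functor.map_comp, IsIso.hom_inv_id]

/-- the comparison map `F^[n] ⟶ j_*(O_X|_U)`. -/
noncomputable def leg (n : ℕ) : refPow F n ⟶ Q U :=
  legOf U (sPow s n) (isIso_restrict_sPow s U hs n)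

theorem leg_zero :
    leg s U hs 0 = (Scheme.Modules.restrictAdjunction U.ι).unit.app (Coh.structureModule X) :=
  legOf_id U _

theorem mulBy_leg (n : ℕ) : mulBy s n ≫ leg s U hs (n + 1) = leg s U hs n :=
  comp_legOf U (sPow s n) (mulBy s n) _ _

/-- `σ` applied to `legOf σ (t)` is the restriction of `t`. -/
theorem app_legOf {M : X.Modules} (σ : Coh.structureModule X ⟶ M)
    (hσ : IsIso ((Scheme.Modules.restrictFunctor U.ι).map σ)) (W : X.Opens) (t : Γ(M, W)) :
    σ.app (U.ι ''ᵁ (U.ι ⁻¹ᵁ W)) ((legOf U σ hσ).app W t) =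
      M.presheaf.map (homOfLE (U.ι.image_preimage_le W)).op t := by
  have h1 : legOf U σ hσ = (Scheme.Modules.restrictAdjunction U.ι).unit.app M ≫
      (Scheme.Modules.pushforward U.ι).map (inv ((Scheme.Modules.restrictFunctor U.ι).map σ)) := by
    unfold legOf
    rw [Adjunction.homEquiv_unit]
  have h2 : inv ((Scheme.Modules.restrictFunctor U.ι).map σ) ≫
      (Scheme.Modules.restrictFunctor U.ι).map σ = 𝟙 _ := IsIso.inv_hom_id _
  have h3 := congrArg (fun φ => (Scheme.Modules.Hom.app φ (U.ι ⁻¹ᵁ W))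
    (M.presheaf.map (homOfLE (U.ι.image_preimage_le W)).op t)) h2
  rw [h1]
  exact h3

theorem app_leg (n : ℕ) (W : X.Opens) (t : Γ(refPow F n, W)) :
    (sPow s n).app (U.ι ''ᵁ (U.ι ⁻¹ᵁ W)) ((leg s U hs n).app W t) =
      (refPow F n).presheaf.map (homOfLE (U.ι.image_preimage_le W)).op t :=
  app_legOf U (sPow s n) _ W t

/-- the cocone from the system of reflexive powers to `j_*(O_X|_U)`. -/
noncomputable def coconeι : RefPow.diagram F s ⟶ (Functor.const ℕ).obj (Q U) :=
  NatTrans.ofSequence (fun n => leg s U hs n) (fun n => by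
    have h := RefPow.diagram_map F s n
    change (diagram F s).map (homOfLE (Nat.le_succ n)) ≫ leg s U hs (n + 1) =
      leg s U hs n ≫ 𝟙 (Q U)
    exact (congrArg (fun φ => φ ≫ leg s U hs (n + 1)) h).trans
      ((mulBy_leg s U hs n).trans (Category.comp_id _).symm))

theorem coconeι_app (n : ℕ) : (coconeι s U hs).app n = leg s U hs n := rfl

end Groth.Agent.Lib.Seat75.RefPowCocone
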