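import Groth.Agent.Lib.Seat75WeilIdeal
import Groth.Agent.Lib.Seat75IdealFrame
import Groth.Agent.Lib.Seat75Ref1Group
import Groth.Agent.Lib.Helper23RelAmpleCounit
import Groth.Agent.Lib.Helper20OmegaAff

/-!
# The rank one reflexive module of a Weil divisor (helper75)

For an effective Weil divisor `E : X → ℕ` (locally finite support, supported in codimension one) on
an integral locally Noetherian normal scheme, the reflexive hull of its ideal module is rank one
coherent reflexive and has a rational section with divisor `-E` (`hasDiv_weilMod`).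
-/

set_option autoImplicit false
set_option linter.style.haveILetI false
set_option linter.unusedSectionVars false
universe u

open AlgebraicGeometry CategoryTheory TopologicalSpace Opposite

namespace Groth.Agent.Lib.Seat75.WeilMod

open Groth.Agent.Lib.Helper23.SecTw Groth.Agent.Lib.Helper23.GenLocus Groth.Agent.Lib.Helper6
  Groth.Agent.Lib.Seat75.SecOrd Groth.Agent.Lib.Seat75.DualFrame Groth.Agent.Lib.Seat75.HomExt
  Groth.Agent.Lib.Seat75.Ref1Iso Groth.Agent.Lib.Seat75.Ref1Frame
  Groth.Agent.Lib.Seat75.DualRefl Groth.Agent.Lib.Seat75.OrdNonneg Groth.Agent.Lib.Seat75.OrdCompare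
  Groth.Agent.Lib.Seat75.WeilIdeal Groth.Agent.Lib.Seat75.IdealFrame
  Groth.Agent.Lib.Seat75.Ref1Group Groth.Agent.S16086 RefHull

variable {X : Scheme.{u}} [IsIntegral X] [IsLocallyNoetherian X]

lemma eq_of_specializes_of_coheight {y z : X} (hy : Order.coheight y = 1)
    (hz : Order.coheight z = 1) (h : y ⤳ z) : y = z := by
  by_contra hne
  have hlt : z < y := by
    rw [lt_iff_le_not_ge]
    refine ⟨Scheme.le_iff_specializes.2 h, fun h' => hne ?_⟩
    exact (inseparable_iff_specializes_and.2 ⟨h, Scheme.le_iff_specializes.1 h'⟩).eq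
  have := Order.coheight_add_one_le hlt
  rw [hy, hz] at this
  exact absurd this (by decide)

lemma coheight_genericPoint : Order.coheight (genericPoint X) = 0 := by
  rw [Order.coheight_eq_zero]
  intro b _
  exact Scheme.le_iff_specializes.2 (hη b)

/-- spreading out a generator of the stalk of the ideal of an effective divisor. -/
theorem exists_local_generator (E : X → ℕ) (hE : LocallyFiniteSupport E) (z : X)
    (hz : ∀ y, E y ≠ 0 → y ⤳ z → y = z)
    (hpr : ∃ c : X.presheaf.stalk z, c ≠ 0 ∧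
      Ideal.span {c} = IsLocalRing.maximalIdeal (X.presheaf.stalk z) ^ E z) :
    ∃ (W : X.affineOpens) (hzW : z ∈ W.1) (a : Γ(X, W.1)), a ≠ 0 ∧
      (idealSheaf E hE).ideal W = Ideal.span {a} ∧
      Ideal.span {X.presheaf.germ W.1 z hzW a} =
        IsLocalRing.maximalIdeal (X.presheaf.stalk z) ^ E z := by
  obtain ⟨c, hc0, hc⟩ := hpr
  -- an affine neighbourhood of `z`
  obtain ⟨_, ⟨U, hU, rfl⟩, hzU, -⟩ :=
    X.isBasis_affineOpens.exists_subset_of_mem_open (Set.mem_univ z) isOpen_univ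
  have hfin := hE.finite_inter_support_of_isCompact hU.isCompact
  set T : Set X := ((U : Set X) ∩ Function.support E) \ {z} with hT
  have hTfin : T.Finite := hfin.subset Set.sdiff_subset
  set C : Set X := ⋃ y ∈ T, closure {y} with hC
  have hCcl : IsClosed C := hTfin.isClosed_biUnion (fun y _ => isClosed_closure)
  have hzC : z ∉ C := by
    intro hz'
    obtain ⟨y, hyT, hzy⟩ := Set.mem_iUnion₂.1 hz'
    exact hyT.2 (hz y hyT.1.2 (specializes_iff_mem_closure.2 hzy))
  obtain ⟨V₀, hzV₀, a₀', ha₀'⟩ := X.presheaf.exists_germ_eq c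
  set O : X.Opens := (U ⊓ ⟨Cᶜ, hCcl.isOpen_compl⟩) ⊓ V₀ with hO
  have hzO : z ∈ O := ⟨⟨hzU, hzC⟩, hzV₀⟩
  obtain ⟨_, ⟨W₂, hW₂, rfl⟩, hzW₂, hW₂O⟩ :=
    X.isBasis_affineOpens.exists_subset_of_mem_open hzO O.isOpen
  have hW₂O' : W₂ ≤ O := hW₂O
  -- away from `z` the divisor vanishes on `W₂`
  have hP : ∀ y ∈ W₂, y ≠ z → E y = 0 := by
    intro y hy hyz
    by_contra hEy
    have hyO := hW₂O' hy
    apply hyO.1.2
    exact Set.mem_iUnion₂.2 ⟨y, ⟨⟨hyO.1.1, hEy⟩, hyz⟩, subset_closure rfl⟩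
  have hmem : ∀ (V : X.Opens) (hV : V ≤ W₂) (hzV : z ∈ V) (b : Γ(X, V)),
      X.presheaf.germ V z hzV b ∈ IsLocalRing.maximalIdeal (X.presheaf.stalk z) ^ E z →
        b ∈ idealAt E V := by
    intro V hV hzV b hb
    rw [mem_idealAt]
    intro y hy
    by_cases hyz : y = z
    · subst hyz; exact hb
    · rw [hP y (hV hy) hyz, pow_zero, Ideal.one_eq_top]; trivial
  set a₀ : Γ(X, W₂) := resf (hW₂O'.trans inf_le_right) a₀' with ha₀
  have hga₀ : X.presheaf.germ W₂ z hzW₂ a₀ = c := by
    rw [ha₀, ← ha₀']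
    exact X.presheaf.germ_res_apply (homOfLE (hW₂O'.trans inf_le_right)) z hzW₂ a₀'
  have ha₀mem : a₀ ∈ idealAt E W₂ := hmem W₂ le_rfl hzW₂ a₀ (by
    rw [hga₀, ← hc]; exact Ideal.mem_span_singleton_self c)
  -- finite generation
  haveI : IsNoetherianRing Γ(X, W₂) := IsLocallyNoetherian.component_noetherian ⟨W₂, hW₂⟩
  obtain ⟨G, hG⟩ := (isNoetherianRing_iff_ideal_fg Γ(X, W₂)).1 inferInstance (idealAt E W₂)
  have hcb : ∀ b : G, ∃ cb : X.presheaf.stalk z, cb * c = X.presheaf.germ W₂ z hzW₂ b.1 := by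
    intro b
    have hb : b.1 ∈ idealAt E W₂ := by rw [← hG]; exact Ideal.subset_span b.2
    have := mem_idealAt.1 hb z hzW₂
    rw [← hc] at this
    exact Ideal.mem_span_singleton'.1 this
  choose cb hcb using hcb
  obtain ⟨W₃, hzW₃, hW₃, t, ht⟩ := exists_common_nhd_ring z cb W₂ hzW₂
  obtain ⟨g, hg, hzg⟩ := hW₂.exists_basicOpen_le (V := W₃) ⟨z, hzW₃⟩ hzW₂
  have hgW₂ : X.basicOpen g ≤ W₂ := X.basicOpen_le g
  have hzg' : z ∈ X.basicOpen g := hzg
  haveI : Nonempty (X.basicOpen g) := ⟨⟨z, hzg'⟩⟩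
  have hrel : ∀ b : G, resf hgW₂ b.1 = resf hg (t b) * resf hgW₂ a₀ := by
    intro b
    apply germ_injective_of_isIntegral X z hzg'
    rw [map_mul]
    change X.presheaf.germ (X.basicOpen g) z hzg' (X.presheaf.map (homOfLE hgW₂).op b.1) =
      X.presheaf.germ (X.basicOpen g) z hzg' (X.presheaf.map (homOfLE hg).op (t b)) *
        X.presheaf.germ (X.basicOpen g) z hzg' (X.presheaf.map (homOfLE hgW₂).op a₀)
    rw [X.presheaf.germ_res_apply (homOfLE hgW₂) z hzg' b.1,
      X.presheaf.germ_res_apply (homOfLE hg) z hzg' (t b),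
      X.presheaf.germ_res_apply (homOfLE hgW₂) z hzg' a₀, ht, hga₀, hcb]
  refine ⟨X.affineBasicOpen (U := ⟨W₂, hW₂⟩) g, hzg', resf hgW₂ a₀, ?_, ?_, ?_⟩
  · intro h0
    have h0' : resf hgW₂ a₀ = 0 := h0
    apply hc0
    rw [← hga₀, ← X.presheaf.germ_res_apply (homOfLE hgW₂) z hzg' a₀]
    change X.presheaf.germ (X.basicOpen g) z hzg' (resf hgW₂ a₀) = 0
    rw [h0', map_zero]
  · change idealAt E (X.basicOpen g) = _
    rw [← map_idealAt_basicOpen E hE ⟨W₂, hW₂⟩ g]
    apply le_antisymm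
    · change (idealAt E W₂).map _ ≤ _
      rw [← hG, Ideal.map_span]
      refine Ideal.span_le.2 ?_
      rintro _ ⟨b, hb, rfl⟩
      change resf hgW₂ b ∈ _
      rw [hrel ⟨b, hb⟩]
      exact Ideal.mul_mem_left _ _ (Ideal.mem_span_singleton_self _)
    · refine Ideal.span_le.2 ?_
      rw [Set.singleton_subset_iff]
      exact Ideal.mem_map_of_mem _ ha₀mem
  · have : X.presheaf.germ (X.basicOpen g) z hzg' (resf hgW₂ a₀) = c := by
      rw [← hga₀]
      exact X.presheaf.germ_res_apply (homOfLE hgW₂) z hzg' a₀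
    change Ideal.span {X.presheaf.germ (X.basicOpen g) z hzg' (resf hgW₂ a₀)} = _
    rw [this, hc]

lemma exists_principal_of_zero (E : X → ℕ) (z : X) (h : E z = 0) :
    ∃ c : X.presheaf.stalk z, c ≠ 0 ∧
      Ideal.span {c} = IsLocalRing.maximalIdeal (X.presheaf.stalk z) ^ E z :=
  ⟨1, one_ne_zero, by rw [h, pow_zero, Ideal.span_singleton_one, Ideal.one_eq_top]⟩

lemma exists_principal_of_codimOne (hX : Pi1.IsNormalScheme X) (z : X)
    (hz : Order.coheight z = 1) (n : ℕ) :
    ∃ c : X.presheaf.stalk z, c ≠ 0 ∧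
      Ideal.span {c} = IsLocalRing.maximalIdeal (X.presheaf.stalk z) ^ n := by
  haveI := isDiscreteValuationRing_stalk hX z hz
  obtain ⟨π, hπ⟩ := IsDiscreteValuationRing.exists_irreducible (X.presheaf.stalk z)
  refine ⟨π ^ n, pow_ne_zero n hπ.ne_zero, ?_⟩
  rw [← Ideal.span_singleton_pow, ← hπ.maximalIdeal_eq]

/-- the order of a generator of `𝔪_z ^ n`. -/
lemma ord_of_span_eq (hX : Pi1.IsNormalScheme X) (z : X) (hz : Order.coheight z = 1)
    (c : X.presheaf.stalk z) (n : ℕ)
    (hc : Ideal.span {c} = IsLocalRing.maximalIdeal (X.presheaf.stalk z) ^ n) :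
    Scheme.ord (algebraMap (X.presheaf.stalk z) X.functionField c) z = n := by
  haveI := isDiscreteValuationRing_stalk hX z hz
  obtain ⟨π, hπ⟩ := IsDiscreteValuationRing.exists_irreducible (X.presheaf.stalk z)
  set p : X.functionField := algebraMap (X.presheaf.stalk z) X.functionField π with hp
  have hinj := IsFractionRing.injective (X.presheaf.stalk z) X.functionField
  have hp0 : p ≠ 0 := by
    rw [hp, Ne, map_eq_zero_iff _ hinj]
    exact hπ.ne_zero
  have hp1 : Scheme.ord p z = 1 := by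
    rw [Scheme.ord_eq_iff hz hp0]
    have := Ring.ordFrac_irreducible (K := X.functionField) hπ
    rw [WithZero.exp_eq_coe_ofAdd] at this
    exact this
  rw [hπ.maximalIdeal_eq, Ideal.span_singleton_pow, Ideal.span_singleton_eq_span_singleton] at hc
  obtain ⟨u, hu⟩ := hc
  have hu0 : algebraMap (X.presheaf.stalk z) X.functionField u ≠ 0 := by
    rw [Ne, map_eq_zero_iff _ hinj]
    exact u.ne_zero
  have hc0 : algebraMap (X.presheaf.stalk z) X.functionField c ≠ 0 := by
    rw [Ne, map_eq_zero_iff _ hinj]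
    rintro rfl
    rw [zero_mul] at hu
    exact pow_ne_zero n hπ.ne_zero hu.symm
  have h1 := Scheme.ord_mul (x := z) hc0 hu0
  rw [← map_mul, hu, map_pow, ← hp, ord_pow z hp0, hp1, ord_algebraMap_unit z u] at h1
  omega

/-- the ideal module of an effective divisor is coherent. -/
theorem isCoh_idealMod (E : X → ℕ) (hE : LocallyFiniteSupport E) :
    Coh.IsCoh (ClSub.idealMod (idealSheaf E hE)) := by
  refine ⟨Groth.Agent.Lib.Helper20.OmegaAff.isQuasicoherent_idealMod _,
    Groth.Agent.Lib.Helper23.RelAmpleCounit.isFT_idealMod _ (fun W => ?_)⟩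
  haveI : IsNoetherianRing Γ(X, W.1) := IsLocallyNoetherian.component_noetherian W
  exact (isNoetherianRing_iff_ideal_fg Γ(X, W.1)).1 inferInstance _

/-- the reflexive module `O_X(-E)` of an effective Weil divisor. -/
noncomputable def weilMod (E : X → ℕ) (hE : LocallyFiniteSupport E) : X.Modules :=
  ddual (ClSub.idealMod (idealSheaf E hE))

theorem isRef1_and_hasDiv_weilMod (hX : Pi1.IsNormalScheme X) (E : X → ℕ)
    (hE : LocallyFiniteSupport E) (hE1 : ∀ x, E x ≠ 0 → Order.coheight x = 1) :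
    IsRef1 (weilMod E hE) ∧ HasDiv (weilMod E hE) (fun x => -(E x : ℤ)) := by
  set J := idealSheaf E hE with hJdef
  set I := ClSub.idealMod J with hIdef
  -- the generic frame
  have hEη : E (genericPoint X) = 0 := by
    by_contra h
    have := hE1 _ h
    rw [coheight_genericPoint] at this
    exact absurd this (by decide)
  have hzη : ∀ y, E y ≠ 0 → y ⤳ genericPoint X → y = genericPoint X := fun y _ h =>
    (inseparable_iff_specializes_and.2 ⟨h, hη y⟩).eq
  obtain ⟨Wη, hηW, aη, haη0, hJη, -⟩ := exists_local_generator E hE (genericPoint X) hzη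
    (exists_principal_of_zero E _ hEη)
  obtain ⟨ση, hιη, hgenη⟩ := exists_isGen_idealMod J Wη aη haη0 hJη
  have hRef : IsRef1 (weilMod E hE) :=
    ⟨Groth.Agent.Lib.Seat75.HomCoh.isCoh_homSh _ _
      (Groth.Agent.Lib.Seat75.HomCoh.isCoh_homSh _ _ (isCoh_idealMod E hE) (isCoh_unit X))
      (isCoh_unit X),
    isReflexive_ddual_of_isGen I hgenη hηW,
    genInvertible_of_isGen _ (isGen_bidual I hgenη) hηW⟩
  refine ⟨hRef, ?_⟩
  set φ := stalkMapₗ (bidualMap I) (genericPoint X) with hφ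
  set eη := (ddual I).presheaf.germ Wη.1 (genericPoint X) hηW ((bidualMap I).app Wη.1 ση) with heη
  have heη' : eη = φ (I.presheaf.germ Wη.1 (genericPoint X) hηW ση) :=
    (stalkMapₗ_germ (bidualMap I) (genericPoint X) hηW ση).symm
  have hbeη := bijective_smul_germ_of_isGen (ddual I) (isGen_bidual I hgenη) (genericPoint X) hηW
  set kη : X.presheaf.stalk (genericPoint X) := X.presheaf.germ Wη.1 (genericPoint X) hηW aη
    with hkη
  haveI : Nonempty Wη.1 := ⟨⟨genericPoint X, hηW⟩⟩
  have hkη0 : kη ≠ 0 := by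
    intro h0
    exact haη0 (germ_injective_of_isIntegral X (genericPoint X) hηW (h0.trans (map_zero _).symm))
  have hw₀ : kη⁻¹ • eη ≠ 0 := by
    intro h0
    rcases smul_eq_zero.1 h0 with h | h
    · exact inv_ne_zero hkη0 h
    · exact ne_zero_of_bijective _ hbeη h
  refine ⟨Submodule.Quotient.mk (kη⁻¹ • eη), mk_ne_zero _ _ hw₀, fun x hx => ?_⟩
  -- the frame at `x`
  have hzx : ∀ y, E y ≠ 0 → y ⤳ x → y = x := fun y hy h =>
    eq_of_specializes_of_coheight (hE1 y hy) hx h
  obtain ⟨Wx, hxW, ax, hax0, hJx, hspanx⟩ := exists_local_generator E hE x hzx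
    (exists_principal_of_codimOne hX x hx (E x))
  obtain ⟨σx, hιx, hgenx⟩ := exists_isGen_idealMod J Wx ax hax0 hJx
  have hηWx : genericPoint X ∈ Wx.1 := (hη x).mem_open Wx.1.isOpen hxW
  set ex := (bidualMap I).app Wx.1 σx with hex
  have hgex := isGen_bidual I hgenx
  have hbx := bijective_smul_germ_of_isGen (ddual I) hgex x hxW
  have hbxη := bijective_smul_germ_of_isGen (ddual I) hgex (genericPoint X) hηWx
  have hspx : (ddual I).presheaf.stalkSpecializes (hη x) ((ddual I).presheaf.germ Wx.1 x hxW ex) =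
      (ddual I).presheaf.germ Wx.1 (genericPoint X) hηWx ex := spec_germ (ddual I) (hη x) hxW ex
  set kx : X.presheaf.stalk (genericPoint X) := X.presheaf.germ Wx.1 (genericPoint X) hηWx ax
    with hkx
  haveI : Nonempty Wx.1 := ⟨⟨x, hxW⟩⟩
  have hkx0 : kx ≠ 0 := by
    intro h0
    exact hax0 (germ_injective_of_isIntegral X (genericPoint X) hηWx (h0.trans (map_zero _).symm))
  -- comparison of the two frames of the ideal module
  set V : X.Opens := Wx.1 ⊓ Wη.1 with hV
  have hηV : genericPoint X ∈ V := ⟨hηWx, hηW⟩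
  have hsec : resf (inf_le_right : V ≤ Wη.1) aη • res I (inf_le_left : V ≤ Wx.1) σx =
      resf (inf_le_left : V ≤ Wx.1) ax • res I (inf_le_right : V ≤ Wη.1) ση := by
    apply Groth.Agent.Lib.Helper20.IdealModSec.ι_injective J V
    rw [ι_smul, ι_smul, ι_res, ι_res, hιx, hιη]
    exact congrArg (toS V) (mul_comm (resf inf_le_right aη) (resf inf_le_left ax))
  have hgerm : kη • I.presheaf.germ Wx.1 (genericPoint X) hηWx σx =
      kx • I.presheaf.germ Wη.1 (genericPoint X) hηW ση := by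
    have := congrArg (I.presheaf.germ V (genericPoint X) hηV) hsec
    rw [germ_smul, germ_smul,
      TopCat.Presheaf.germ_res_apply I.presheaf (homOfLE (inf_le_left : V ≤ Wx.1)) _ hηV σx,
      TopCat.Presheaf.germ_res_apply I.presheaf (homOfLE (inf_le_right : V ≤ Wη.1)) _ hηV ση,
      X.presheaf.germ_res_apply (homOfLE (inf_le_right : V ≤ Wη.1)) _ hηV aη,
      X.presheaf.germ_res_apply (homOfLE (inf_le_left : V ≤ Wx.1)) _ hηV ax] at this
    exact this
  have hframes : kη • (ddual I).presheaf.germ Wx.1 (genericPoint X) hηWx ex = kx • eη := by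
    have h1 : (ddual I).presheaf.germ Wx.1 (genericPoint X) hηWx ex =
        φ (I.presheaf.germ Wx.1 (genericPoint X) hηWx σx) :=
      (stalkMapₗ_germ (bidualMap I) (genericPoint X) hηWx σx).symm
    rw [h1, heη']
    calc kη • φ (I.presheaf.germ Wx.1 (genericPoint X) hηWx σx)
        = φ (kη • I.presheaf.germ Wx.1 (genericPoint X) hηWx σx) := (LinearMap.map_smul φ kη _).symm
      _ = φ (kx • I.presheaf.germ Wη.1 (genericPoint X) hηW ση) := by rw [hgerm]
      _ = kx • φ (I.presheaf.germ Wη.1 (genericPoint X) hηW ση) := LinearMap.map_smul φ kx _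
  have hw : kη⁻¹ • eη = kx⁻¹ • (ddual I).presheaf.germ Wx.1 (genericPoint X) hηWx ex := by
    have h1 : (ddual I).presheaf.germ Wx.1 (genericPoint X) hηWx ex = (kη⁻¹ * kx) • eη := by
      rw [← smul_smul, ← hframes, smul_smul, inv_mul_cancel₀ hkη0, one_smul]
    rw [h1, smul_smul]
    congr 1
    field_simp
  have e2 := secOrdAt_eq_ord (ddual I) x hx ((ddual I).presheaf.germ Wx.1 x hxW ex) hbx
    (by rw [hspx]; exact hbxη) (kη⁻¹ • eη) kx⁻¹ (inv_ne_zero hkx0) (by rw [hspx, hw])
  have hkx' : kx = algebraMap (X.presheaf.stalk x) X.functionField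
      (X.presheaf.germ Wx.1 x hxW ax) :=
    (ConcreteCategory.congr_hom (TopCat.Presheaf.germ_stalkSpecializes X.presheaf hxW (hη x))
      ax).symm
  have e3 := ord_of_span_eq hX x hx _ _ hspanx
  rw [← hkx'] at e3
  have hfinal : Cyc.secOrdAt (ddual I) (genericPoint X) x (hη x)
      (Submodule.Quotient.mk (kη⁻¹ • eη) : Cyc.secFibre (ddual I) (genericPoint X)) =
        -(E x : ℤ) := by
    rw [e2, ord_inv x hkx0, e3]
  exact hfinal

end Groth.Agent.Lib.Seat75.WeilMod
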