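import Groth.Prelude.Def_RefPow
import Groth.Agent.Lib.Seat75RefPowCocone
import Groth.Agent.Lib.Seat75LocalExt
import Groth.Agent.S3841

/-!
# The system of reflexive powers and `j_* O_U`: injectivity and local surjectivity (helper75)

`X` integral locally Noetherian normal, `F` rank one reflexive, `s : O_X ⟶ F`, `U` an open whose
points are exactly the points of the iso locus of `s`.
* `mulBy_app_eq_zero_of_leg`: a section of `F^[n]` killed by `leg n` is killed by multiplication by `s`.
* `exists_local_lift`: every section of `j_*(O_X|_U)` is locally in the image of some `leg n`.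
-/

set_option autoImplicit false
set_option linter.style.haveILetI false
set_option linter.unusedSectionVars false
universe u

open AlgebraicGeometry CategoryTheory TopologicalSpace Opposite

namespace Groth.Agent.Lib.Seat75.RefPowColim

open Groth.Agent.Lib.Helper23.SecTw Groth.Agent.Lib.Helper23.GenLocus Groth.Agent.Lib.Helper6
  Groth.Agent.Lib.Seat75.SecOrd Groth.Agent.Lib.Seat75.DualFrame Groth.Agent.Lib.Seat75.HomExt
  Groth.Agent.Lib.Seat75.Ref1Iso Groth.Agent.Lib.Seat75.Ref1Frame Groth.Agent.Lib.Seat75.DualRefl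
  Groth.Agent.Lib.Seat75.OrdNonneg Groth.Agent.Lib.Seat75.OrdCompare
  Groth.Agent.Lib.Seat75.RefPowFrame Groth.Agent.Lib.Seat75.RefPowCocone
  Groth.Agent.Lib.Seat75.LocalExt RefHull RefPow

variable {X : Scheme.{u}}

/-- sections over an empty open are equal. -/
lemma eq_of_isEmpty (M : X.Modules) (W : X.Opens) (hW : ∀ x : X, x ∉ W) (a b : Γ(M, W)) : a = b :=
  TopCat.Presheaf.section_ext (modSheaf M) W a b (fun x hx => absurd hx (hW x))

variable [IsIntegral X]

/-- sections of a reflexive module with the same generic germ are equal. -/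
lemma eq_of_germ_generic (G : X.Modules) (hG : IsReflexive G) {W : X.Opens}
    (hηW : genericPoint X ∈ W) (a b : Γ(G, W))
    (h : G.presheaf.germ W (genericPoint X) hηW a = G.presheaf.germ W (genericPoint X) hηW b) :
    a = b := by
  obtain ⟨W', hηW', hW'W, hres⟩ := exists_res_eq_of_germ_eq G (genericPoint X) hηW a b h
  have h0 : res G hW'W (a - b) = 0 :=
    (map_sub (ConcreteCategory.hom (G.presheaf.map (homOfLE hW'W).op)) a b).trans
      (by rw [show (ConcreteCategory.hom (G.presheaf.map (homOfLE hW'W).op)) a =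
        (ConcreteCategory.hom (G.presheaf.map (homOfLE hW'W).op)) b from hres, sub_self])
  exact sub_eq_zero.1 (eq_zero_of_res_eq_zero G hG hW'W ⟨_, hηW'⟩ (a - b) h0)

lemma mem_image_preimage (U W : X.Opens) (x : X) :
    x ∈ U.ι ''ᵁ (U.ι ⁻¹ᵁ W) ↔ x ∈ U ∧ x ∈ W := by
  rw [Scheme.Hom.image_preimage_eq_opensRange_inf, Scheme.Opens.opensRange_ι]
  rfl

variable [IsLocallyNoetherian X] {F : X.Modules}

/-- if `s` is not bijective at the generic point, all its sections vanish. -/
lemma sv_eq_zero_of_not_bijective (hF : IsRef1 F) (s : Coh.structureModule X ⟶ F)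
    (hη : ¬ Function.Bijective (stalkMapₗ s (genericPoint X))) (W : X.Opens) : sv s W = 0 := by
  obtain ⟨e, he⟩ := Groth.Agent.S16086.exists_generic_gen F hF.2.2
  have hg : stalkMapₗ s (genericPoint X) (oneGerm (genericPoint X)) = 0 := by
    by_contra hne
    apply hη
    exact bijective_of_gen _ (oneGerm (genericPoint X)) (bijective_smul_oneGerm (genericPoint X))
      (Groth.Agent.S16086.bijective_smul_of_ne_zero e he _ hne)
  have h1 : F.presheaf.germ ⊤ (genericPoint X) trivial (sv s ⊤) = 0 := by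
    rw [← hg]
    exact (stalkMapₗ_germ s (U := ⊤) (genericPoint X) trivial (toS ⊤ 1)).symm
  have h2 : sv s ⊤ = 0 := eq_of_germ_generic F hF.2.1 (W := ⊤) trivial (sv s ⊤) 0
    (h1.trans (map_zero _).symm)
  rw [← res_sv s (le_top : W ≤ ⊤), h2]
  exact map_zero _

variable (hF : IsRef1 F) (s : Coh.structureModule X ⟶ F) (U : X.Opens)
  (hU : ∀ x : X, x ∈ U ↔ Function.Bijective (stalkMapₗ s x))
include hF

/-- a section of `F^[n]` killed by `leg n` is killed by multiplication by `s`. -/
theorem mulBy_app_eq_zero_of_leg (n : ℕ) (W : X.Opens) (t : Γ(refPow F n, W))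
    (h : (leg s U (fun x hx => (hU x).1 hx) n).app W t = 0) : (mulBy s n).app W t = 0 := by
  have h1 : (refPow F n).presheaf.map (homOfLE (U.ι.image_preimage_le W)).op t = 0 := by
    rw [← app_leg s U (fun x hx => (hU x).1 hx) n W t]
    exact (congrArg (fun z : Γ(Q U, W) => (sPow s n).app (U.ι ''ᵁ (U.ι ⁻¹ᵁ W)) z) h).trans
      (map_zero _)
  by_cases hηW : genericPoint X ∈ W
  · by_cases hηU : genericPoint X ∈ U
    · have ht : t = 0 := eq_zero_of_res_eq_zero (refPow F n) (isRef1_refPow hF n).2.1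
        (U.ι.image_preimage_le W) ⟨_, (mem_image_preimage U W _).2 ⟨hηU, hηW⟩⟩ t h1
      rw [ht, map_zero]
    · have hsv := sv_eq_zero_of_not_bijective hF s (fun hb => hηU ((hU _).2 hb)) W
      cases n with
      | zero =>
        have h2 : (mulBy s 0).app W t = (ofS W t) • sv s W := app_toS s W (ofS W t)
        rw [h2, hsv, smul_zero]
        rfl
      | succ n =>
        rw [mulBy_succ_app]
        have h2 : SecTwist.tmul (refPow F (n + 1)) F W t (SecTwist.val s W) =
            tm (refPow F (n + 1)) F W t (sv s W) := rfl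
        rw [h2, hsv, tm_zero_right, map_zero]
        rfl
  · have hW : ∀ x : X, x ∉ W := fun x hx => hηW ((hη x).mem_open W.isOpen hx)
    exact eq_of_isEmpty _ W hW _ _

omit hF in
/-- a lower bound for the orders of a rational function on an affine open. -/
lemma exists_bound (hX : Pi1.IsNormalScheme X) (β : X.functionField) (hβ : β ≠ 0) (W : X.Opens)
    (hW : IsCompact (W : Set X)) :
    ∃ N : ℕ, ∀ y : X, y ∈ W → Order.coheight y = 1 → -(N : ℤ) ≤ Scheme.ord β y := by
  classical
  have h1 : β • oneGerm (genericPoint X) ≠ 0 := by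
    intro h0
    apply hβ
    apply (bijective_smul_oneGerm (genericPoint X)).1
    change β • oneGerm (genericPoint X) =
      (0 : X.presheaf.stalk (genericPoint X)) • oneGerm (genericPoint X)
    rw [h0, zero_smul]
  set σ : Cyc.secFibre (Coh.structureModule X) (genericPoint X) :=
    Submodule.Quotient.mk (β • oneGerm (genericPoint X)) with hσ
  have hσ0 : σ ≠ 0 := Groth.Agent.Lib.Seat75.Ref1Group.mk_ne_zero _ _ h1
  set Z : X → ℤ := fun x => if Order.coheight x = 1 then
    Cyc.secOrdAt (Coh.structureModule X) (genericPoint X) x (hη x) σ else 0 with hZ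
  have hloc := Groth.Agent.S16087.locallyFinite_secOrd hX (Coh.structureModule X) isRef1_unit σ hσ0
  choose t ht hfin using hloc
  obtain ⟨T, -, hT⟩ := hW.elim_nhds_subcover t (fun x _ => ht x)
  have hS : ((W : Set X) ∩ Function.support Z).Finite := by
    refine (T.finite_toSet.biUnion (fun x _ => hfin x)).subset ?_
    rintro z ⟨hzW, hz⟩
    obtain ⟨x, hxT, hzx⟩ := Set.mem_iUnion₂.1 (hT hzW)
    exact Set.mem_biUnion (Finset.mem_coe.2 hxT) ⟨hzx, hz⟩
  refine ⟨hS.toFinset.sup (fun y => (-(Z y)).toNat), fun y hyW hy => ?_⟩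
  have hZy : Z y = Scheme.ord β y := by
    simp only [hZ, if_pos hy]
    exact Groth.Agent.S3841.secOrdAt_unit_smul β hβ y hy
  rw [← hZy]
  by_cases h0 : Z y = 0
  · rw [h0]
    omega
  · have hyS : y ∈ hS.toFinset := hS.mem_toFinset.2 ⟨hyW, h0⟩
    have h2 : (-(Z y)).toNat ≤ hS.toFinset.sup (fun y => (-(Z y)).toNat) :=
      Finset.le_sup (f := fun y => (-(Z y)).toNat) hyS
    have h3 : -(Z y) ≤ ((-(Z y)).toNat : ℤ) := Int.self_le_toNat _
    omega

omit hF in
lemma bijective_smul_unit_smul {R M : Type*} [CommRing R] [AddCommGroup M] [Module R M] (g : M)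
    (hg : Function.Bijective (fun c : R => c • g)) (u : R) (hu : IsUnit u) :
    Function.Bijective (fun c : R => c • (u • g)) := by
  have h : (fun c : R => c • (u • g)) = (fun c : R => c • g) ∘ (fun c : R => c * u) := by
    funext c
    simp only [Function.comp_apply, smul_smul]
  rw [h]
  exact hg.comp (hu.unit.mulRight_bijective)

omit hF in
/-- the value of the stalk map of `s` on the unit germ, in terms of a section. -/
lemma stalkMapₗ_oneGerm (y : X) {V : X.Opens} (hy : y ∈ V) :
    stalkMapₗ s y (oneGerm y) = F.presheaf.germ V y hy (sv s V) := by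
  rw [← germ_toS_one y hy, stalkMapₗ_germ]
  rfl

include hU in
/-- the rational section `β • s^(N+1) ⊗ s` comes from the stalks at the codimension one points
of `W'` if `β` is regular on `W' ∩ U` and has poles of order at most `N` on `W'`. -/
theorem regOn_of_bound (hX : Pi1.IsNormalScheme X) (N : ℕ) (β : X.functionField) (hβ : β ≠ 0)
    (W' : X.Opens)
    (hbound : ∀ y : X, y ∈ W' → Order.coheight y = 1 → -(N : ℤ) ≤ Scheme.ord β y)
    (hηU : genericPoint X ∈ U)
    (hηW₁ : genericPoint X ∈ U.ι ''ᵁ (U.ι ⁻¹ᵁ W'))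
    (bO : Γ(X, U.ι ''ᵁ (U.ι ⁻¹ᵁ W')))
    (hbO : X.presheaf.germ _ (genericPoint X) hηW₁ bO = β) :
    RegOn (CohB1.tensorMod (refPow F (N + 1)) F) W'
      (β • (CohB1.tensorMod (refPow F (N + 1)) F).presheaf.germ ⊤ (genericPoint X) trivial
        (tm (refPow F (N + 1)) F ⊤ (sv (sPow s (N + 1)) ⊤) (sv s ⊤))) := by
  set H := CohB1.tensorMod (refPow F (N + 1)) F with hH
  set τ₀ := tm (refPow F (N + 1)) F ⊤ (sv (sPow s (N + 1)) ⊤) (sv s ⊤) with hτ₀
  intro y hyW hy1
  by_cases hyU : y ∈ U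
  · have hy₁ : y ∈ U.ι ''ᵁ (U.ι ⁻¹ᵁ W') := (mem_image_preimage U W' y).2 ⟨hyU, hyW⟩
    refine ⟨H.presheaf.germ _ y hy₁ (bO • res H le_top τ₀), ?_⟩
    rw [spec_germ, germ_smul, hbO]
    congr 1
    exact TopCat.Presheaf.germ_res_apply H.presheaf (homOfLE le_top) _ _ τ₀
  · obtain ⟨V, e, hyV, he⟩ := exists_gen_codim_one hX F hF y hy1
    have hηV : genericPoint X ∈ V := (hη y).mem_open V.isOpen hyV
    obtain ⟨c, hc⟩ := (he V le_rfl).2 (sv s V)
    have hc' : sv s V = c • e := by
      have : c • res F (le_refl V) e = sv s V := hc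
      rw [res_self] at this
      exact this.symm
    obtain ⟨e', he', hpow⟩ := exists_frame_pow s he c hc' (N + 1)
    set τ := tm (refPow F (N + 1)) F V e' e with hτ
    have hτgen : IsGen H V τ := isGen_tm _ _ _ _ _ he' he
    have hres : res H (le_top : V ≤ ⊤) τ₀ = c ^ (N + 2) • τ := by
      rw [hτ₀, res_tm, res_sv, res_sv, hpow, hc', tm_smul_left, tm_smul_right, smul_smul,
        ← pow_succ]
    set cy := X.presheaf.germ V y hyV c with hcy
    set cη := X.presheaf.germ V (genericPoint X) hηV c with hcη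
    have hcyη : algebraMap (X.presheaf.stalk y) X.functionField cy = cη :=
      Groth.Agent.S3841.algebraMap_germ hyV c
    have hsy : stalkMapₗ s y (oneGerm y) = cy • F.presheaf.germ V y hyV e := by
      rw [stalkMapₗ_oneGerm s y hyV, hc', germ_smul]
    have hsη : stalkMapₗ s (genericPoint X) (oneGerm (genericPoint X)) =
        cη • F.presheaf.germ V (genericPoint X) hηV e := by
      rw [stalkMapₗ_oneGerm s (genericPoint X) hηV, hc', germ_smul]
    have hcy_mem : cy ∈ IsLocalRing.maximalIdeal (X.presheaf.stalk y) := by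
      rw [IsLocalRing.mem_maximalIdeal, mem_nonunits_iff]
      intro hu
      apply hyU
      rw [hU]
      refine bijective_of_gen _ (oneGerm y) (bijective_smul_oneGerm y) ?_
      rw [hsy]
      exact bijective_smul_unit_smul _ (bijective_smul_germ_of_isGen F he y hyV) cy hu
    have hcη0 : cη ≠ 0 := by
      intro h0
      have hb := (hU _).1 hηU
      have h1 : stalkMapₗ s (genericPoint X) (oneGerm (genericPoint X)) = 0 := by
        rw [hsη, h0, zero_smul]
      have h2 : oneGerm (genericPoint X) = 0 := hb.1 (h1.trans (map_zero _).symm)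
      exact Groth.Agent.Lib.Seat75.Ref1Group.ne_zero_of_bijective _
        (bijective_smul_oneGerm (genericPoint X)) h2
    have hcy0 : cy ≠ 0 := by
      intro h0
      apply hcη0
      rw [← hcyη, h0, map_zero]
    have hord : 1 ≤ Scheme.ord cη y := by
      have := Groth.Agent.S5105.one_le_ord_of_mem_maximalIdeal hX y hy1 cy hcy_mem hcy0
      rwa [hcyη] at this
    set κ : X.functionField := β * cη ^ (N + 2) with hκ
    have hpow0 : cη ^ (N + 2) ≠ 0 := pow_ne_zero _ hcη0
    have hκ0 : κ ≠ 0 := mul_ne_zero hβ hpow0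
    have hκord : 0 ≤ Scheme.ord κ y := by
      rw [hκ, Scheme.ord_mul hβ hpow0, ord_pow y hcη0]
      have h1 := hbound y hyW hy1
      have h2 : ((N + 2 : ℕ) : ℤ) ≤ ((N + 2 : ℕ) : ℤ) * Scheme.ord cη y :=
        le_mul_of_one_le_right (by positivity) hord
      push_cast at h2 ⊢
      omega
    obtain ⟨a, ha⟩ := mem_range_of_ord_nonneg hX y hy1 κ hκ0 hκord
    refine ⟨a • H.presheaf.germ V y hyV τ, ?_⟩
    rw [stalkSpecializes_smul, spec_germ]
    have ha' : X.presheaf.stalkSpecializes (hη y) a = κ := ha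
    rw [ha', hκ, ← smul_smul]
    congr 1
    have h3 : H.presheaf.germ ⊤ (genericPoint X) trivial τ₀ =
        H.presheaf.germ V (genericPoint X) hηV (res H le_top τ₀) :=
      (TopCat.Presheaf.germ_res_apply H.presheaf (homOfLE le_top) _ hηV τ₀).symm
    rw [h3, hres, germ_smul, map_pow]

include hU in
/-- every section of `j_*(O_X|_U)` is locally in the image of some `leg n`. -/
theorem exists_local_lift (hX : Pi1.IsNormalScheme X) (W : X.Opens) (b : Γ(Q U, W)) (x : X)
    (hx : x ∈ W) :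
    ∃ (W' : X.Opens) (h : W' ≤ W) (_ : x ∈ W') (n : ℕ) (t : Γ(refPow F n, W')),
      (leg s U (fun x hx => (hU x).1 hx) n).app W' t = (Q U).presheaf.map (homOfLE h).op b := by
  have hs : ∀ x : X, x ∈ U → Function.Bijective (stalkMapₗ s x) := fun x hx => (hU x).1 hx
  by_cases hηU : genericPoint X ∈ U
  swap
  · refine ⟨W, le_rfl, hx, 0, 0, ?_⟩
    have hemp : ∀ z : X, z ∉ U.ι ''ᵁ (U.ι ⁻¹ᵁ W) := fun z hz =>
      hηU ((hη z).mem_open U.isOpen ((mem_image_preimage U W z).1 hz).1)
    exact eq_of_isEmpty (Coh.structureModule X) _ hemp _ _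
  obtain ⟨_, ⟨W', hW'aff, rfl⟩, hxW', hW'W⟩ :=
    X.isBasis_affineOpens.exists_subset_of_mem_open hx W.isOpen
  have hηW' : genericPoint X ∈ W' := (hη x).mem_open W'.isOpen hxW'
  have hηW₁ : genericPoint X ∈ U.ι ''ᵁ (U.ι ⁻¹ᵁ W') :=
    (mem_image_preimage U W' _).2 ⟨hηU, hηW'⟩
  have hW₁U : U.ι ''ᵁ (U.ι ⁻¹ᵁ W') ≤ U := fun z hz => ((mem_image_preimage U W' z).1 hz).1
  set b' : Γ(Q U, W') := (Q U).presheaf.map (homOfLE hW'W).op b with hb'
  let bO : Γ(X, U.ι ''ᵁ (U.ι ⁻¹ᵁ W')) := ofS (U.ι ''ᵁ (U.ι ⁻¹ᵁ W')) b'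
  set β : X.functionField := X.presheaf.germ _ (genericPoint X) hηW₁ bO with hβdef
  by_cases hβ : β = 0
  · refine ⟨W', hW'W, hxW', 0, 0, ?_⟩
    have h0 : bO = 0 := germ_injective_of_isIntegral X (genericPoint X) hηW₁
      (hβ.trans (map_zero _).symm)
    exact (map_zero _).trans h0.symm
  obtain ⟨N, hN⟩ := exists_bound hX β hβ W' hW'aff.isCompact
  have hreg := regOn_of_bound hF s U hU hX N β hβ W' hN hηU hηW₁ bO rfl
  have hgerm := germ_sec hX hreg hηW'
  refine ⟨W', hW'W, hxW', N + 2, LocalExt.sec hX hreg, ?_⟩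
  have hbij := bijective_app_of_isIso_restrict U (sPow s (N + 2))
    (isIso_restrict_sPow s U hs (N + 2)) hW₁U
  apply hbij.1
  refine Eq.trans (app_leg s U hs (N + 2) W' (LocalExt.sec hX hreg)) ?_
  have h1 : (sPow s (N + 2)).app (U.ι ''ᵁ (U.ι ⁻¹ᵁ W')) b' =
      bO • sv (sPow s (N + 2)) (U.ι ''ᵁ (U.ι ⁻¹ᵁ W')) := app_toS _ _ bO
  refine Eq.trans ?_ h1.symm
  apply eq_of_germ_generic (refPow F (N + 2)) (isRef1_refPow hF (N + 2)).2.1 hηW₁
  rw [germ_smul]
  have e1 : (refPow F (N + 2)).presheaf.germ (U.ι ''ᵁ (U.ι ⁻¹ᵁ W')) (genericPoint X) hηW₁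
      ((refPow F (N + 2)).presheaf.map (homOfLE (U.ι.image_preimage_le W')).op
        (LocalExt.sec hX hreg)) =
      (refPow F (N + 2)).presheaf.germ W' (genericPoint X) hηW' (LocalExt.sec hX hreg) :=
    TopCat.Presheaf.germ_res_apply (refPow F (N + 2)).presheaf
      (homOfLE (U.ι.image_preimage_le W')) _ hηW₁ _
  have e2 : (refPow F (N + 2)).presheaf.germ W' (genericPoint X) hηW' (LocalExt.sec hX hreg) =
      β • (refPow F (N + 2)).presheaf.germ ⊤ (genericPoint X) trivial
        (sv (sPow s (N + 2)) ⊤) := by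
    have e4 := stalkMapₗ_germ (bidualMap (CohB1.tensorMod (refPow F (N + 1)) F)) (U := ⊤)
      (genericPoint X) trivial (tm (refPow F (N + 1)) F ⊤ (sv (sPow s (N + 1)) ⊤) (sv s ⊤))
    have e5 := (sv_sPow_succ_succ s N ⊤).symm
    refine hgerm.trans ((map_smul _ β _).trans ?_)
    exact congrArg (fun z => β • z) (e4.trans (congrArg _ e5))
  have e3 : (refPow F (N + 2)).presheaf.germ (U.ι ''ᵁ (U.ι ⁻¹ᵁ W')) (genericPoint X) hηW₁
      (sv (sPow s (N + 2)) (U.ι ''ᵁ (U.ι ⁻¹ᵁ W'))) =
      (refPow F (N + 2)).presheaf.germ ⊤ (genericPoint X) trivial (sv (sPow s (N + 2)) ⊤) := by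
    rw [← res_sv (sPow s (N + 2)) (le_top : U.ι ''ᵁ (U.ι ⁻¹ᵁ W') ≤ ⊤)]
    exact TopCat.Presheaf.germ_res_apply (refPow F (N + 2)).presheaf (homOfLE le_top) _ hηW₁ _
  rw [e3]
  exact e1.trans e2

end Groth.Agent.Lib.Seat75.RefPowColim
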