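import Mathlib.LinearAlgebra.DirectSum.Finsupp
import Mathlib.Algebra.Module.Projective
import Mathlib.LinearAlgebra.TensorProduct.RightExactness

/-!
# Tensoring a jointly injective family of linear maps with a module

`g i : P →ₗ[R] N i` is *jointly injective* when `(∀ i, g i x = 0) → x = 0`.  We show that tensoring with a
projective module preserves joint injectivity, and a criterion for a module `M` which is exhausted by images of
projective modules along universally injective maps.
-/

set_option autoImplicit false

namespace Groth.Agent.Lib.Seat75.TensorPi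

open TensorProduct

universe u v w

variable {R : Type u} [CommRing R]
variable {P : Type v} [AddCommGroup P] [Module R P]
variable {ι : Type w} {N : ι → Type v} [∀ i, AddCommGroup (N i)] [∀ i, Module R (N i)]

/-- Joint injectivity is preserved by tensoring with a free module `J →₀ R`. -/
theorem finsupp_jointly_injective {J : Type u} (g : ∀ i, P →ₗ[R] N i)
    (hg : ∀ x : P, (∀ i, g i x = 0) → x = 0)
    (z : (J →₀ R) ⊗[R] P) (hz : ∀ i, LinearMap.lTensor (J →₀ R) (g i) z = 0) : z = 0 := by
  classical
  apply (TensorProduct.finsuppScalarLeft R P J).injective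
  rw [map_zero]
  ext j
  rw [Finsupp.zero_apply]
  apply hg
  intro i
  have key : ∀ z : (J →₀ R) ⊗[R] P, g i ((TensorProduct.finsuppScalarLeft R P J z) j) =
      (TensorProduct.finsuppScalarLeft R (N i) J (LinearMap.lTensor (J →₀ R) (g i) z)) j := by
    intro z
    induction z using TensorProduct.induction_on with
    | zero => simp
    | tmul f x =>
      rw [LinearMap.lTensor_tmul, TensorProduct.finsuppScalarLeft_apply_tmul_apply,
        TensorProduct.finsuppScalarLeft_apply_tmul_apply, map_smul]
    | add a b ha hb =>
      simp only [map_add, Finsupp.add_apply, ha, hb]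
  rw [key, hz i, map_zero, Finsupp.zero_apply]

/-- Joint injectivity is preserved by tensoring with a projective module. -/
theorem projective_jointly_injective (Q : Type u) [AddCommGroup Q] [Module R Q]
    [Module.Projective R Q] (g : ∀ i, P →ₗ[R] N i)
    (hg : ∀ x : P, (∀ i, g i x = 0) → x = 0)
    (y : Q ⊗[R] P) (hy : ∀ i, LinearMap.lTensor Q (g i) y = 0) : y = 0 := by
  obtain ⟨s, hs⟩ := Module.projective_def'.mp (inferInstance : Module.Projective R Q)
  set z : (Q →₀ R) ⊗[R] P := LinearMap.rTensor P s y with hz
  have hz0 : z = 0 := by
    apply finsupp_jointly_injective g hg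
    intro i
    have : LinearMap.lTensor (Q →₀ R) (g i) z =
        LinearMap.rTensor (N i) s (LinearMap.lTensor Q (g i) y) := by
      rw [hz, ← LinearMap.comp_apply, ← LinearMap.comp_apply, LinearMap.lTensor_comp_rTensor,
        LinearMap.rTensor_comp_lTensor]
    rw [this, hy i, map_zero]
  have : y = LinearMap.rTensor P (Finsupp.linearCombination R id) z := by
    rw [hz, ← LinearMap.comp_apply, ← LinearMap.rTensor_comp, hs, LinearMap.rTensor_id,
      LinearMap.id_apply]
  rw [this, hz0, map_zero]

/-- Let `M` be a module such that every element of `M ⊗ P` comes from `Q ⊗ P` for a projective module `Q` and a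
linear map `Q → M` that stays injective after tensoring with each `N i`.  Then tensoring with `M` preserves the
joint injectivity of the family `g`. -/
theorem jointly_injective_of_exists (M : Type u) [AddCommGroup M] [Module R M]
    (g : ∀ i, P →ₗ[R] N i) (hg : ∀ x : P, (∀ i, g i x = 0) → x = 0)
    (H : ∀ x : M ⊗[R] P, ∃ (Q : Type u) (_ : AddCommGroup Q) (_ : Module R Q)
      (_ : Module.Projective R Q) (j : Q →ₗ[R] M),
        x ∈ LinearMap.range (LinearMap.rTensor P j) ∧
          ∀ i, Function.Injective (LinearMap.rTensor (N i) j))
    (x : M ⊗[R] P) (hx : ∀ i, LinearMap.lTensor M (g i) x = 0) : x = 0 := by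
  obtain ⟨Q, _, _, _, j, ⟨y, rfl⟩, hj⟩ := H x
  have hy : y = 0 := by
    apply projective_jointly_injective Q g hg
    intro i
    apply hj i
    rw [map_zero, ← LinearMap.comp_apply, LinearMap.rTensor_comp_lTensor,
      ← LinearMap.lTensor_comp_rTensor, LinearMap.comp_apply, hx i]
  rw [hy, map_zero]

end Groth.Agent.Lib.Seat75.TensorPi
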