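import Mathlib

/-!
# The ideal sheaf of an effective Weil divisor (helper75)

For `E : X → ℕ` with locally finite support, `idealAt E U` is the ideal of the functions on `U`
whose germ at every `x ∈ U` lies in `𝔪_x ^ E x`; these ideals form an ideal sheaf `idealSheaf E hE`
(`X.IdealSheafData`).
-/

set_option autoImplicit false
set_option linter.style.haveILetI false
universe u

open AlgebraicGeometry CategoryTheory TopologicalSpace Opposite

namespace Groth.Agent.Lib.Seat75.WeilIdeal

variable {X : Scheme.{u}}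

/-- the ideal of functions on `U` vanishing to order `E x` at every `x ∈ U`. -/
noncomputable def idealAt (E : X → ℕ) (U : X.Opens) : Ideal Γ(X, U) :=
  ⨅ x : U, Ideal.comap (X.presheaf.germ U x.1 x.2).hom
    (IsLocalRing.maximalIdeal (X.presheaf.stalk x.1) ^ E x.1)

lemma mem_idealAt {E : X → ℕ} {U : X.Opens} {a : Γ(X, U)} :
    a ∈ idealAt E U ↔ ∀ (x : X) (hx : x ∈ U), X.presheaf.germ U x hx a ∈
      IsLocalRing.maximalIdeal (X.presheaf.stalk x) ^ E x := by
  simp only [idealAt, Ideal.mem_iInf, Ideal.mem_comap]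
  exact ⟨fun h x hx => h ⟨x, hx⟩, fun h x => h x.1 x.2⟩

lemma res_mem_idealAt {E : X → ℕ} {U V : X.Opens} (h : V ≤ U) {a : Γ(X, U)}
    (ha : a ∈ idealAt E U) : X.presheaf.map (homOfLE h).op a ∈ idealAt E V := by
  rw [mem_idealAt] at ha ⊢
  intro x hx
  rw [X.presheaf.germ_res_apply (homOfLE h) x hx a]
  exact ha x (h hx)

/-- `E` is bounded on quasi-compact opens. -/
lemma exists_bound {E : X → ℕ} (hE : LocallyFiniteSupport E) {U : X.Opens}
    (hU : IsCompact (U : Set X)) : ∃ N, ∀ x ∈ U, E x ≤ N := by
  have hfin := hE.finite_inter_support_of_isCompact hU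
  refine ⟨hfin.toFinset.sup E, fun x hx => ?_⟩
  by_cases h0 : E x = 0
  · rw [h0]; exact Nat.zero_le _
  · exact Finset.le_sup (f := E) (hfin.mem_toFinset.2 ⟨hx, h0⟩)

theorem map_idealAt_basicOpen (E : X → ℕ) (hE : LocallyFiniteSupport E) (U : X.affineOpens)
    (f : Γ(X, U)) :
    (idealAt E U.1).map (X.presheaf.map (homOfLE <| X.basicOpen_le f).op).hom =
      idealAt E (X.basicOpen f) := by
  apply le_antisymm
  · rw [Ideal.map_le_iff_le_comap]
    intro a ha
    exact res_mem_idealAt (X.basicOpen_le f) ha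
  · intro h hh
    haveI := U.2.isLocalization_basicOpen f
    obtain ⟨⟨a, ⟨_, n, rfl⟩⟩, han⟩ := IsLocalization.surj (Submonoid.powers f) h
    obtain ⟨N, hN⟩ := exists_bound hE U.2.isCompact
    set ρ := (X.presheaf.map (homOfLE <| X.basicOpen_le f).op).hom with hρ
    have han' : h * ρ (f ^ n) = ρ a := han
    have hmem : f ^ N * a ∈ idealAt E U.1 := by
      rw [mem_idealAt]
      intro x hx
      rw [map_mul, map_pow]
      by_cases hxf : x ∈ X.basicOpen f
      · apply Ideal.mul_mem_left
        have h1 : X.presheaf.germ U.1 x hx a = X.presheaf.germ (X.basicOpen f) x hxf (ρ a) :=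
          (X.presheaf.germ_res_apply (homOfLE <| X.basicOpen_le f) x hxf a).symm
        rw [h1, ← han', map_mul]
        exact Ideal.mul_mem_right _ _ (mem_idealAt.1 hh x hxf)
      · apply Ideal.mul_mem_right
        have h2 : X.presheaf.germ U.1 x hx f ∈ IsLocalRing.maximalIdeal (X.presheaf.stalk x) := by
          rw [IsLocalRing.mem_maximalIdeal, mem_nonunits_iff]
          intro hu
          exact hxf ((X.mem_basicOpen f x hx).2 hu)
        exact Ideal.pow_le_pow_right (hN x hx) (Ideal.pow_mem_pow h2 N)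
    have hunit : IsUnit (ρ f) := RingedSpace.isUnit_res_basicOpen _ f
    have h3 : h * ρ f ^ (n + N) = ρ (f ^ N * a) := by
      rw [map_mul, ← han', map_pow, map_pow, pow_add]
      ring
    have h4 : h * ρ f ^ (n + N) ∈ (idealAt E U.1).map ρ := by
      rw [h3]
      exact Ideal.mem_map_of_mem ρ hmem
    exact (Ideal.mul_unit_mem_iff_mem _ (hunit.pow (n + N))).1 h4

/-- the ideal sheaf of the effective divisor `E`. -/
noncomputable def idealSheaf (E : X → ℕ) (hE : LocallyFiniteSupport E) : X.IdealSheafData where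
  ideal U := idealAt E U.1
  map_ideal_basicOpen U f := map_idealAt_basicOpen E hE U f

@[simp] lemma idealSheaf_ideal (E : X → ℕ) (hE : LocallyFiniteSupport E) (U : X.affineOpens) :
    (idealSheaf E hE).ideal U = idealAt E U.1 := rfl

end Groth.Agent.Lib.Seat75.WeilIdeal
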