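import Groth.Prelude.Def_ARSys
import Mathlib.Algebra.Category.ModuleCat.Limits
import Mathlib.RingTheory.Ideal.Operations
import Mathlib.RingTheory.Finiteness.Ideal

set_option autoImplicit false

universe u

open CategoryTheory CategoryTheory.Limits Opposite

namespace Groth.Agent.Lib.Seat76.AdicLim

variable {A : Type u} [CommRing A]

/-- transition linear maps of an inverse system of modules -/
noncomputable abbrev tl (Y : ℕᵒᵖ ⥤ ModuleCat.{u} A) {n k : ℕ} (h : n ≤ k) :
    Y.obj (op k) →ₗ[A] Y.obj (op n) := (ARSys.tr Y h).hom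

theorem tl_comp (Y : ℕᵒᵖ ⥤ ModuleCat.{u} A) {n k l : ℕ} (h₁ : n ≤ k) (h₂ : k ≤ l)
    (y : Y.obj (op l)) : tl Y h₁ (tl Y h₂ y) = tl Y (h₁.trans h₂) y := by
  have : ARSys.tr Y h₂ ≫ ARSys.tr Y h₁ = ARSys.tr Y (h₁.trans h₂) := by
    unfold ARSys.tr
    rw [← Y.map_comp]
    rfl
  change (ARSys.tr Y h₂ ≫ ARSys.tr Y h₁).hom y = _
  rw [this]

theorem tl_refl (Y : ℕᵒᵖ ⥤ ModuleCat.{u} A) (n : ℕ) (y : Y.obj (op n)) :
    tl Y (le_refl n) y = y := by
  have : ARSys.tr Y (le_refl n) = 𝟙 _ := by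
    unfold ARSys.tr
    rw [← Y.map_id]
    rfl
  change (ARSys.tr Y (le_refl n)).hom y = _
  rw [this]
  rfl

/-- compatible families -/
def secSub (Y : ℕᵒᵖ ⥤ ModuleCat.{u} A) : Submodule A (∀ n : ℕ, Y.obj (op n)) where
  carrier := {x | ∀ n, tl Y (Nat.le_succ n) (x (n + 1)) = x n}
  add_mem' := by
    intro x y hx hy n
    change tl Y _ (x (n + 1) + y (n + 1)) = x n + y n
    rw [map_add, hx n, hy n]
  zero_mem' := by
    intro n
    change tl Y _ 0 = 0
    rw [map_zero]
  smul_mem' := by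
    intro c x hx n
    change tl Y _ (c • x (n + 1)) = c • x n
    rw [map_smul, hx n]

theorem secSub_tl {Y : ℕᵒᵖ ⥤ ModuleCat.{u} A} {x : ∀ n : ℕ, Y.obj (op n)} (hx : x ∈ secSub Y)
    {n k : ℕ} (h : n ≤ k) : tl Y h (x k) = x n := by
  induction k, h using Nat.le_induction with
  | base => exact tl_refl Y n _
  | succ k hk ih =>
    rw [← tl_comp Y hk (Nat.le_succ k), hx k, ih]

/-- elements of `span(range g) • N'` are `g`-combinations of elements of `N'` -/
theorem exists_sum_of_mem_span_smul {P : Type u} [AddCommGroup P] [Module A P] {s : ℕ}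
    (g : Fin s → A) (N' : Submodule A P) {x : P}
    (hx : x ∈ Ideal.span (Set.range g) • N') :
    ∃ u : Fin s → P, (∀ j, u j ∈ N') ∧ x = ∑ j, g j • u j := by
  refine Submodule.smul_induction_on hx ?_ ?_
  · intro r hr n hn
    obtain ⟨c, rfl⟩ := Ideal.mem_span_range_iff_exists_fun.mp hr
    refine ⟨fun j => c j • n, fun j => N'.smul_mem _ hn, ?_⟩
    rw [Finset.sum_smul]
    refine Finset.sum_congr rfl (fun j _ => ?_)
    rw [smul_smul, mul_comm]
  · rintro x y ⟨u, hu, rfl⟩ ⟨v, hv, rfl⟩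
    refine ⟨fun j => u j + v j, fun j => N'.add_mem (hu j) (hv j), ?_⟩
    rw [← Finset.sum_add_distrib]
    refine Finset.sum_congr rfl (fun j _ => ?_)
    rw [smul_add]

section Main

variable (Y : ℕᵒᵖ ⥤ ModuleCat.{u} A) (I : Ideal A)

/-- hypotheses on an `I`-adic inverse system of modules -/
structure AdicHyp : Prop where
  surj : ∀ {n k : ℕ} (h : n ≤ k), Function.Surjective (tl Y h)
  killed : ∀ (n : ℕ) (a : A), a ∈ I ^ (n + 1) → ∀ y : Y.obj (op n), a • y = 0
  ker_le : ∀ {n k : ℕ} (h : n ≤ k),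
    LinearMap.ker (tl Y h) ≤ I ^ (n + 1) • (⊤ : Submodule A (Y.obj (op k)))

variable {Y I}

theorem AdicHyp.smul_top_eq_bot (hY : AdicHyp Y I) (q : ℕ) :
    I ^ (q + 1) • (⊤ : Submodule A (Y.obj (op q))) = ⊥ := by
  rw [eq_bot_iff, Submodule.smul_le]
  intro r hr y _
  rw [hY.killed q r hr y]
  exact Submodule.zero_mem _

theorem map_tl_smul_top_le {n k : ℕ} (h : n ≤ k) (i : ℕ) {y : Y.obj (op k)}
    (hy : y ∈ I ^ i • (⊤ : Submodule A (Y.obj (op k)))) :
    tl Y h y ∈ I ^ i • (⊤ : Submodule A (Y.obj (op n))) := by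
  have h1 : tl Y h y ∈ Submodule.map (tl Y h) (I ^ i • (⊤ : Submodule A (Y.obj (op k)))) :=
    Submodule.mem_map_of_mem hy
  rw [Submodule.map_smul''] at h1
  exact Submodule.smul_mono le_rfl le_top h1

theorem lift_step (hY : AdicHyp Y I) (n : ℕ) {s : ℕ} (g : Fin s → A)
    (hg : Ideal.span (Set.range g) = I ^ (n + 1))
    (z : ∀ n, Y.obj (op n)) (hz : z ∈ secSub Y) (i : ℕ) (w : Fin s → Y.obj (op (n + i)))
    (hw : z (n + i) = ∑ j, g j • w j) :
    ∃ w' : Fin s → Y.obj (op (n + i + 1)), z (n + i + 1) = ∑ j, g j • w' j ∧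
      ∀ j, tl Y (Nat.le_succ (n + i)) (w' j) - w j ∈
        I ^ i • (⊤ : Submodule A (Y.obj (op (n + i)))) := by
  choose v hv using fun j => hY.surj (Nat.le_succ (n + i)) (w j)
  have hd : z (n + i + 1) - ∑ j, g j • v j ∈ LinearMap.ker (tl Y (Nat.le_succ (n + i))) := by
    rw [LinearMap.mem_ker, map_sub, map_sum, hz (n + i), hw, sub_eq_zero]
    refine Finset.sum_congr rfl (fun j _ => ?_)
    rw [map_smul, hv j]
  have hd' := hY.ker_le (Nat.le_succ (n + i)) hd
  have hpow : I ^ (n + i + 1) = Ideal.span (Set.range g) * I ^ i := by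
    rw [hg, ← pow_add]
    congr 1
    omega
  rw [hpow, Submodule.mul_smul] at hd'
  obtain ⟨u, hu, hdu⟩ := exists_sum_of_mem_span_smul g _ hd'
  refine ⟨fun j => v j + u j, ?_, fun j => ?_⟩
  · have : z (n + i + 1) = (z (n + i + 1) - ∑ j, g j • v j) + ∑ j, g j • v j := by abel
    rw [this, hdu, ← Finset.sum_add_distrib]
    refine Finset.sum_congr rfl (fun j _ => ?_)
    rw [smul_add]
    exact add_comm _ _
  · have : tl Y (Nat.le_succ (n + i)) (v j + u j) - w j = tl Y (Nat.le_succ (n + i)) (u j) := by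
      rw [map_add, hv j]
      abel
    rw [this]
    exact map_tl_smul_top_le _ i (hu j)

/-- Stacks 09B8-type statement: for an `I`-adic system with `I` finitely generated, the kernel of
`lim Y → Y_n` is `I^(n+1) • lim Y`. -/
theorem ker_le_smul_top (hY : AdicHyp Y I) (hI : I.FG) (n : ℕ) (z : secSub Y)
    (hzn : z.1 n = 0) : z ∈ I ^ (n + 1) • (⊤ : Submodule A (secSub Y)) := by
  classical
  obtain ⟨z, hz⟩ := z
  change z n = 0 at hzn
  -- finite generating family of `I^(n+1)`
  obtain ⟨S, hS⟩ := Ideal.FG.pow (n := n + 1) hI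
  obtain ⟨s, g, hg⟩ : ∃ (s : ℕ) (g : Fin s → A), Ideal.span (Set.range g) = I ^ (n + 1) := by
    refine ⟨S.card, fun j => (S.equivFin.symm j : A), ?_⟩
    rw [← hS]
    congr 1
    ext a
    constructor
    · rintro ⟨j, rfl⟩
      exact (S.equivFin.symm j).2
    · intro ha
      exact ⟨S.equivFin ⟨a, ha⟩, by simp⟩
  -- the recursive approximations
  let Wt : ℕ → Type u := fun i => {w : Fin s → Y.obj (op (n + i)) // z (n + i) = ∑ j, g j • w j}
  have step : ∀ (i : ℕ) (w : Wt i), ∃ w' : Wt (i + 1),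
      ∀ j, tl Y (Nat.le_succ (n + i)) (w'.1 j) - w.1 j ∈
        I ^ i • (⊤ : Submodule A (Y.obj (op (n + i)))) := by
    intro i w
    obtain ⟨w', h1, h2⟩ := lift_step hY n g hg z hz i w.1 w.2
    exact ⟨⟨w', h1⟩, h2⟩
  let W0 : Wt 0 := ⟨fun _ => 0, by
    change z n = _
    rw [hzn]
    simp⟩
  let W : ∀ i, Wt i := fun i => Nat.rec W0 (fun i w => Classical.choose (step i w)) i
  have hW : ∀ i j, tl Y (Nat.le_succ (n + i)) ((W (i + 1)).1 j) - (W i).1 j ∈
      I ^ i • (⊤ : Submodule A (Y.obj (op (n + i)))) :=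
    fun i => Classical.choose_spec (step i (W i))
  -- the limit elements
  have hle : ∀ q : ℕ, q ≤ n + (q + 1) := fun q => by omega
  let Wlim : Fin s → ∀ q : ℕ, Y.obj (op q) := fun j q => tl Y (hle q) ((W (q + 1)).1 j)
  have hWlim : ∀ j, Wlim j ∈ secSub Y := by
    intro j q
    change tl Y (Nat.le_succ q) (tl Y (hle (q + 1)) ((W (q + 1 + 1)).1 j)) =
      tl Y (hle q) ((W (q + 1)).1 j)
    rw [tl_comp]
    have e1 : tl Y ((Nat.le_succ q).trans (hle (q + 1))) ((W (q + 1 + 1)).1 j) =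
        tl Y (hle q) (tl Y (Nat.le_succ (n + (q + 1))) ((W (q + 1 + 1)).1 j)) := by
      rw [tl_comp]
    rw [e1]
    have hδ := hW (q + 1) j
    have hδ' := map_tl_smul_top_le (hle q) (q + 1) hδ
    rw [hY.smul_top_eq_bot q, Submodule.mem_bot, map_sub, sub_eq_zero] at hδ'
    exact hδ'
  have hsum : ∀ q, z q = ∑ j, g j • Wlim j q := by
    intro q
    have h1 : z q = tl Y (hle q) (z (n + (q + 1))) := (secSub_tl hz (hle q)).symm
    rw [h1, (W (q + 1)).2, map_sum]
    refine Finset.sum_congr rfl (fun j _ => ?_)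
    rw [map_smul]
  have hz' : (⟨z, hz⟩ : secSub Y) = ∑ j, g j • (⟨Wlim j, hWlim j⟩ : secSub Y) := by
    apply Subtype.ext
    funext q
    rw [Submodule.coe_sum, Finset.sum_apply]
    exact hsum q
  rw [hz']
  refine Submodule.sum_mem _ (fun j _ => ?_)
  refine Submodule.smul_mem_smul ?_ Submodule.mem_top
  rw [← hg]
  exact Ideal.subset_span ⟨j, rfl⟩

end Main

section Transport

variable {X Y : ℕᵒᵖ ⥤ ModuleCat.{u} A}

/-- transport of the limit-topology statement along a pro-isomorphism -/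
theorem ker_le_of_proIso (m : ℕ → ℕ) (hm : Monotone m) (hmn : ∀ n, n ≤ m n)
    (a : ∀ n, X.obj (op (m n)) ⟶ Y.obj (op n))
    (nat : ∀ (n k : ℕ) (h : n ≤ k), a k ≫ ARSys.tr Y h = ARSys.tr X (hm h) ≫ a n)
    (pro : ∀ n, ∃ (m1 : ℕ) (h : n ≤ m1) (b : Y.obj (op m1) ⟶ X.obj (op (m n))),
      a m1 ≫ b = ARSys.tr X (hm h) ∧ b ≫ a n = ARSys.tr Y h)
    (I : Ideal A) (hI : I.FG) (hY : AdicHyp Y I) (k : ℕ) (x : secSub X)
    (hx : x.1 (m k) = 0) : x ∈ I ^ (k + 1) • (⊤ : Submodule A (secSub X)) := by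
  choose m1 h1 b hb1 hb2 using pro
  have nat_e : ∀ (n k : ℕ) (h : n ≤ k) (d : X.obj (op (m k))),
      tl Y h ((a k).hom d) = (a n).hom (tl X (hm h) d) := by
    intro n k h d
    have := congrArg (fun φ => φ.hom d) (nat n k h)
    exact this
  have hb1_e : ∀ (n : ℕ) (d : X.obj (op (m (m1 n)))),
      (b n).hom ((a (m1 n)).hom d) = tl X (hm (h1 n)) d := by
    intro n d
    have := congrArg (fun φ => φ.hom d) (hb1 n)
    exact this
  have hb2_e : ∀ (n : ℕ) (y : Y.obj (op (m1 n))),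
      (a n).hom ((b n).hom y) = tl Y (h1 n) y := by
    intro n y
    have := congrArg (fun φ => φ.hom y) (hb2 n)
    exact this
  have star : ∀ (s p : ℕ) (hp : m1 s ≤ p) (d : X.obj (op (m p))),
      tl X (hm ((h1 s).trans hp)) d = (b s).hom (tl Y hp ((a p).hom d)) := by
    intro s p hp d
    rw [nat_e, hb1_e, tl_comp]
  -- the key identity
  have key : ∀ (q q' : ℕ) (hqq' : q ≤ q') (y : ∀ n, Y.obj (op n)) (hy : y ∈ secSub Y),
      tl X (hm hqq') ((b q').hom (y (m1 q'))) = (b q).hom (y (m1 q)) := by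
    intro q q' hqq' y hy
    let r := max (m1 q) (m1 q')
    have hr : m1 q ≤ r := le_max_left _ _
    have hr' : m1 q' ≤ r := le_max_right _ _
    let d := (b r).hom (y (m1 r))
    have had : (a r).hom d = y r := by
      change (a r).hom ((b r).hom (y (m1 r))) = y r
      rw [hb2_e, secSub_tl hy]
    have e1 : tl X (hm ((h1 q).trans hr)) d = (b q).hom (y (m1 q)) := by
      rw [star q r hr d, had, secSub_tl hy]
    have e2 : tl X (hm ((h1 q').trans hr')) d = (b q').hom (y (m1 q')) := by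
      rw [star q' r hr' d, had, secSub_tl hy]
    rw [← e2, tl_comp, ← e1]
  -- Ψ
  let Ψ : secSub Y →ₗ[A] secSub X :=
    { toFun := fun y => ⟨fun q => tl X (hmn q) ((b q).hom (y.1 (m1 q))), by
        intro q
        change tl X (Nat.le_succ q) (tl X (hmn (q + 1)) ((b (q + 1)).hom (y.1 (m1 (q + 1))))) =
          tl X (hmn q) ((b q).hom (y.1 (m1 q)))
        rw [tl_comp, ← key q (q + 1) (Nat.le_succ q) y.1 y.2, tl_comp]⟩
      map_add' := by
        intro y y'
        apply Subtype.ext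
        funext q
        change tl X (hmn q) ((b q).hom (y.1 (m1 q) + y'.1 (m1 q))) =
          tl X (hmn q) ((b q).hom (y.1 (m1 q))) + tl X (hmn q) ((b q).hom (y'.1 (m1 q)))
        rw [map_add, map_add]
      map_smul' := by
        intro c y
        apply Subtype.ext
        funext q
        change tl X (hmn q) ((b q).hom (c • y.1 (m1 q))) =
          c • tl X (hmn q) ((b q).hom (y.1 (m1 q)))
        rw [map_smul, map_smul] }
  -- Φ x
  let Φx : secSub Y := ⟨fun n => (a n).hom (x.1 (m n)), by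
    intro n
    change tl Y (Nat.le_succ n) ((a (n + 1)).hom (x.1 (m (n + 1)))) = (a n).hom (x.1 (m n))
    rw [nat_e, secSub_tl x.2]⟩
  have hΨΦ : Ψ Φx = x := by
    apply Subtype.ext
    funext q
    change tl X (hmn q) ((b q).hom ((a (m1 q)).hom (x.1 (m (m1 q))))) = x.1 q
    rw [hb1_e, tl_comp, secSub_tl x.2]
  have hΦ0 : Φx.1 k = 0 := by
    change (a k).hom (x.1 (m k)) = 0
    rw [hx, map_zero]
  have h1 := ker_le_smul_top hY hI k Φx hΦ0
  have h2 : Ψ Φx ∈ Submodule.map Ψ (I ^ (k + 1) • (⊤ : Submodule A (secSub Y))) :=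
    Submodule.mem_map_of_mem h1
  rw [Submodule.map_smul'', hΨΦ] at h2
  exact Submodule.smul_mono le_rfl le_top h2

end Transport

section AbstractLimit

variable (X : ℕᵒᵖ ⥤ ModuleCat.{u} A)

theorem map_eq_tl {j j' : ℕᵒᵖ} (f : j ⟶ j') (x : X.obj j) :
    (X.map f).hom x = tl X (leOfHom f.unop) x := by
  have : f = (homOfLE (leOfHom f.unop)).op := Subsingleton.elim _ _
  conv_lhs => rw [this]

/-- the cone of compatible families -/
noncomputable def secCone : Cone X where
  pt := ModuleCat.of A (secSub X)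
  π :=
    { app := fun j => ModuleCat.ofHom
        ((LinearMap.proj (R := A) (φ := fun n : ℕ => X.obj (op n)) j.unop).comp (secSub X).subtype)
      naturality := by
        intro j j' f
        ext x
        change x.1 j'.unop = (X.map f).hom (x.1 j.unop)
        rw [map_eq_tl, secSub_tl x.2] }

/-- statements about compatible families transfer to the abstract limit -/
theorem ker_limit_le (I : Ideal A) (k n : ℕ)
    (H : ∀ x : secSub X, x.1 n = 0 → x ∈ I ^ k • (⊤ : Submodule A (secSub X))) :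
    LinearMap.ker (limit.π X (op n)).hom ≤ I ^ k • (⊤ : Submodule A ↑(limit X)) := by
  intro x hx
  rw [LinearMap.mem_ker] at hx
  -- the family of projections
  let ex : secSub X := ⟨fun q => (limit.π X (op q)).hom x, by
    intro q
    have := limit.w X (homOfLE (Nat.le_succ q)).op
    have h2 := congrArg (fun φ => φ.hom x) this
    exact h2⟩
  let r : ModuleCat.of A (secSub X) ⟶ limit X := limit.lift X (secCone X)
  have hr : ∀ (j : ℕᵒᵖ) (s : secSub X), (limit.π X j).hom (r.hom s) = s.1 j.unop := by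
    intro j s
    have := limit.lift_π (secCone X) j
    have h2 := congrArg (fun φ => φ.hom s) this
    exact h2
  have hx' : r.hom ex = x := by
    apply Concrete.limit_ext
    intro j
    exact hr j ex
  have h1 := H ex hx
  have h2 : r.hom ex ∈ Submodule.map r.hom (I ^ k • (⊤ : Submodule A (secSub X))) :=
    Submodule.mem_map_of_mem h1
  rw [Submodule.map_smul'', hx'] at h2
  exact Submodule.smul_mono le_rfl le_top h2

end AbstractLimit

end Groth.Agent.Lib.Seat76.AdicLim
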