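import Groth.Agent.Lib.Seat76AlgzExt
import Groth.Agent.Lib.Seat76ComplChar
import Groth.Agent.Lib.Helper23FinTypeLocal
import Groth.Agent.S0797

/-!
# A formal system on an open of `Spec A` (`A` complete) which extends is a completion (seat 76)

Namespace `Groth.Agent.Lib.Seat76.AlgzCompl`.
-/

set_option autoImplicit false

universe u

open CategoryTheory CategoryTheory.Limits Opposite AlgebraicGeometry

namespace Groth.Agent.Lib.Seat76.AlgzCompl

open Groth.Agent.Lib.Seat76.ProML Groth.Agent.Lib.Seat76.AlgzExt Groth.Agent.Lib.Seat76.AdicLim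
  Groth.Agent.Lib.Seat76.AlgzLim

section ModuleLevel

variable {A : Type u} [CommRing A]

theorem exists_factor_of_ker_le {L M N : ModuleCat.{u} A} (p : L ⟶ M) (g : L ⟶ N)
    (hp : Function.Surjective p.hom) (hk : LinearMap.ker p.hom ≤ LinearMap.ker g.hom) :
    ∃ h : M ⟶ N, p ≫ h = g := by
  refine ⟨ModuleCat.ofHom ((Submodule.liftQ _ g.hom hk).comp
    (LinearMap.quotKerEquivOfSurjective p.hom hp).symm.toLinearMap), ?_⟩
  ext x
  change (Submodule.liftQ _ g.hom hk)
    ((LinearMap.quotKerEquivOfSurjective p.hom hp).symm (p.hom x)) = g.hom x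
  have : (LinearMap.quotKerEquivOfSurjective p.hom hp).symm (p.hom x) =
      Submodule.Quotient.mk x := by
    rw [LinearEquiv.symm_apply_eq]
    rfl
  rw [this]
  rfl

end ModuleLevel

section Transpose

variable (A : Type u) [CommRing A] (U : (Spec (CommRingCat.of A)).Opens)

/-- the double transpose of a map `(N~)|_U ⟶ Tq` -/
noncomputable def transpose (N : ModuleCat.{u} A) (Tq : (U : Scheme.{u}).Modules)
    (g : (Scheme.Modules.restrictFunctor U.ι).obj ((tilde.functor (CommRingCat.of A)).obj N) ⟶ Tq) :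
    N ⟶ (moduleSpecΓFunctor (R := CommRingCat.of A)).obj
      ((Scheme.Modules.pushforward U.ι).obj Tq) :=
  (tilde.adjunction (R := CommRingCat.of A)).homEquiv N ((Scheme.Modules.pushforward U.ι).obj Tq)
    ((Scheme.Modules.restrictAdjunction U.ι).homEquiv _ Tq g)

/-- the inverse double transpose -/
noncomputable def untranspose (N : ModuleCat.{u} A) (Tq : (U : Scheme.{u}).Modules)
    (h : N ⟶ (moduleSpecΓFunctor (R := CommRingCat.of A)).obj
      ((Scheme.Modules.pushforward U.ι).obj Tq)) :
    (Scheme.Modules.restrictFunctor U.ι).obj ((tilde.functor (CommRingCat.of A)).obj N) ⟶ Tq :=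
  ((Scheme.Modules.restrictAdjunction U.ι).homEquiv _ Tq).symm
    (((tilde.adjunction (R := CommRingCat.of A)).homEquiv N
      ((Scheme.Modules.pushforward U.ι).obj Tq)).symm h)

theorem untranspose_transpose (N : ModuleCat.{u} A) (Tq : (U : Scheme.{u}).Modules)
    (g : (Scheme.Modules.restrictFunctor U.ι).obj ((tilde.functor (CommRingCat.of A)).obj N) ⟶ Tq) :
    untranspose A U N Tq (transpose A U N Tq g) = g := by
  unfold untranspose transpose
  rw [Equiv.symm_apply_apply, Equiv.symm_apply_apply]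

theorem map_comp_untranspose {N N' : ModuleCat.{u} A} (p : N ⟶ N') (Tq : (U : Scheme.{u}).Modules)
    (h : N' ⟶ (moduleSpecΓFunctor (R := CommRingCat.of A)).obj
      ((Scheme.Modules.pushforward U.ι).obj Tq)) :
    (Scheme.Modules.restrictFunctor U.ι).map ((tilde.functor (CommRingCat.of A)).map p) ≫
      untranspose A U N' Tq h = untranspose A U N Tq (p ≫ h) := by
  unfold untranspose
  rw [← Adjunction.homEquiv_naturality_left_symm, ← Adjunction.homEquiv_naturality_left_symm]

theorem transpose_comp_smulMod (N : ModuleCat.{u} A) (Tq : (U : Scheme.{u}).Modules)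
    (g : (Scheme.Modules.restrictFunctor U.ι).obj ((tilde.functor (CommRingCat.of A)).obj N) ⟶ Tq)
    (a : A) (x : N) :
    (transpose A U N Tq (g ≫ Formal.smulMod A Tq a)).hom x = a • (transpose A U N Tq g).hom x := by
  unfold transpose
  rw [Adjunction.homEquiv_naturality_right, Adjunction.homEquiv_naturality_right,
    pushforward_map_smulMod]
  exact Γ_smulMod_apply A ((Scheme.Modules.pushforward U.ι).obj Tq) a _

theorem transpose_zero (N : ModuleCat.{u} A) (Tq : (U : Scheme.{u}).Modules) (x : N) :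
    (transpose A U N Tq 0).hom x = 0 := by
  unfold transpose
  rw [Adjunction.homEquiv_unit, Adjunction.homEquiv_unit, Functor.map_zero, comp_zero]
  rfl

/-- if `g` is killed by `a`, its transpose kills `a • x` -/
theorem transpose_smul_eq_zero (N : ModuleCat.{u} A) (Tq : (U : Scheme.{u}).Modules)
    (g : (Scheme.Modules.restrictFunctor U.ι).obj ((tilde.functor (CommRingCat.of A)).obj N) ⟶ Tq)
    (a : A) (hg : Formal.smulMod A _ a ≫ g = 0) (x : N) :
    (transpose A U N Tq g).hom (a • x) = 0 := by
  rw [map_smul, ← transpose_comp_smulMod, ← Groth.Agent.S9530.smulMod_comp, hg]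
  exact transpose_zero A U N Tq x

end Transpose

section Main

open Groth.Agent.Lib.Seat76.ComplChar

variable (A : Type u) [CommRing A]

/-- global sections of a coherent module on `Spec A` form a finite module -/
theorem finite_Γ_of_isCoh (N : (Spec (CommRingCat.of A)).Modules) (hN : Coh.IsCoh N) :
    Module.Finite A ((moduleSpecΓFunctor (R := CommRingCat.of A)).obj N) := by
  have h1 : N.IsQuasicoherent := hN.1
  have h2 : SheafOfModules.IsFiniteType (R := (Spec (CommRingCat.of A)).ringCatSheaf) N := hN.2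
  have h3 := Groth.Agent.Lib.Helper23.FinType.finite_of_isFiniteType N
    (isAffineOpen_top (Spec (CommRingCat.of A)))
  exact (Groth.Agent.Lib.Helper23.FinType.finite_Γtop_iff (CommRingCat.of A) N).1 h3

theorem main [IsNoetherianRing A] (I : Ideal A) [IsAdicComplete I A] (U : (Spec (CommRingCat.of A)).Opens)
    (G : ℕᵒᵖ ⥤ (U : Scheme.{u}).Modules) (hG : Formal.IsCohFormal I G)
    (h : @Algz.Extends A _ (Spec (CommRingCat.of A)) ⟨𝟙 (Spec (CommRingCat.of A))⟩ I U G) :
    ∃ F : (U : Scheme.{u}).Modules, Coh.IsCoh F ∧ Nonempty (Formal.completion I F ≅ G) := by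
  obtain ⟨G'', hG'', ⟨e⟩⟩ := h
  let T := tilde.functor (CommRingCat.of A)
  let ρ := Scheme.Modules.restrictFunctor U.ι
  let adjT := tilde.adjunction (R := CommRingCat.of A)
  let Y : ℕᵒᵖ ⥤ ModuleCat.{u} A := G'' ⋙ moduleSpecΓFunctor (R := CommRingCat.of A)
  have hY : AdicHyp Y I := adicHyp_Γ I G'' hG''
  have hfinY : ∀ n, Module.Finite A (Y.obj (op n)) := fun n =>
    finite_Γ_of_isCoh A (G''.obj (op n)) (hG''.1 n)
  -- the module-theoretic heart
  have hker : ∀ n, LinearMap.ker (tl Y (Nat.le_succ n)) =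
      I ^ (n + 1) • (⊤ : Submodule A (Y.obj (op (n + 1)))) := by
    intro n
    apply le_antisymm (hY.ker_le (Nat.le_succ n))
    rw [Submodule.smul_le]
    intro r hr y _
    rw [LinearMap.mem_ker, map_smul, hY.killed n r hr]
  obtain ⟨hLfin, hL⟩ := Groth.Agent.S0797.result A I (fun n => Y.obj (op n))
    (fun n => tl Y (Nat.le_succ n)) (fun n => hY.surj (Nat.le_succ n))
    (fun n => hY.smul_top_eq_bot n) hker (secSub Y) (fun x => Iff.rfl)
  let L : ModuleCat.{u} A := ModuleCat.of A (secSub Y)
  let pr : ∀ n : ℕ, L ⟶ Y.obj (op n) := fun n => (secCone Y).π.app (op n)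
  have hpr_surj : ∀ n, Function.Surjective (pr n).hom := fun n => (hL n).1
  have hpr_ker : ∀ n, LinearMap.ker (pr n).hom = I ^ (n + 1) • (⊤ : Submodule A L) :=
    fun n => (hL n).2
  have hpr_succ : ∀ n, pr (n + 1) ≫ Y.map (homOfLE (n.le_add_right 1)).op = pr n := fun n =>
    (secCone Y).w (homOfLE (n.le_add_right 1)).op
  -- the coherent module on `U`
  let F : (U : Scheme.{u}).Modules := ρ.obj (T.obj L)
  have hqcG'' : ∀ n, (G''.obj (op n)).IsQuasicoherent := fun n => (hG''.1 n).1
  have hεiso : ∀ n, IsIso (adjT.counit.app (G''.obj (op n))) := fun n =>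
    Scheme.Modules.isIso_fromTildeΓ_of_isQuasicoherent (G''.obj (op n))
  -- the comparison isomorphisms `((Γ G''_n)~)|_U ≅ G_n`
  let c : ∀ n : ℕ, ρ.obj (T.obj (Y.obj (op n))) ⟶ G.obj (op n) := fun n =>
    ρ.map (adjT.counit.app (G''.obj (op n))) ≫ e.hom.app (op n)
  have hc : ∀ n, IsIso (c n) := by
    intro n
    have := hεiso n
    have h1 : IsIso (ρ.map (adjT.counit.app (G''.obj (op n)))) := Functor.map_isIso _ _
    exact IsIso.comp_isIso
  have hc_succ : ∀ n, ρ.map (T.map (Y.map (homOfLE (n.le_add_right 1)).op)) ≫ c n =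
      c (n + 1) ≫ G.map (homOfLE (n.le_add_right 1)).op := by
    intro n
    have h1 := adjT.counit.naturality (G''.map (homOfLE (n.le_add_right 1)).op)
    have h2 := e.hom.naturality (homOfLE (n.le_add_right 1)).op
    simp only [Functor.comp_obj, Functor.comp_map, Functor.id_obj, Functor.id_map] at h1 h2
    change ρ.map (T.map (Y.map (homOfLE (n.le_add_right 1)).op)) ≫
        ρ.map (adjT.counit.app (G''.obj (op n))) ≫ e.hom.app (op n) =
      (ρ.map (adjT.counit.app (G''.obj (op (n + 1)))) ≫ e.hom.app (op (n + 1))) ≫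
        G.map (homOfLE (n.le_add_right 1)).op
    rw [Category.assoc, ← h2, ← Category.assoc, ← Category.assoc, ← ρ.map_comp, ← ρ.map_comp]
    congr 2
  let ψ : ∀ n : ℕ, F ⟶ G.obj (op n) := fun n => ρ.map (T.map (pr n)) ≫ c n
  have hT : T.PreservesEpimorphisms :=
    Functor.preservesEpimorphisms_of_adjunction (tilde.adjunction (R := CommRingCat.of A))
  refine ⟨F, ⟨?_, ?_⟩, ?_⟩
  · -- quasi-coherent
    have : (T.obj L).IsQuasicoherent :=
      inferInstanceAs ((tilde (R := CommRingCat.of A) L).IsQuasicoherent)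
    infer_instance
  · -- finite type
    have h1 : SheafOfModules.IsFiniteType (R := (Spec (CommRingCat.of A)).ringCatSheaf)
        (T.obj L) :=
      (Groth.Agent.Lib.Helper23.FinType.isFiniteType_tilde_iff (CommRingCat.of A) L).2 hLfin
    have h2 : (T.obj L).IsQuasicoherent :=
      inferInstanceAs ((tilde (R := CommRingCat.of A) L).IsQuasicoherent)
    exact Groth.Agent.Lib.Helper23.FinType.isFiniteType_restrict U.ι (T.obj L)
  · refine nonempty_completion_iso I F G ψ ?_ ?_ ?_ ?_
    · intro n
      change (ρ.map (T.map (pr (n + 1))) ≫ c (n + 1)) ≫ G.map (homOfLE (n.le_add_right 1)).op =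
        ρ.map (T.map (pr n)) ≫ c n
      rw [Category.assoc, ← hc_succ, ← Category.assoc, ← ρ.map_comp, ← T.map_comp, hpr_succ]
    · intro n
      have h1 : Epi (pr n) := (ModuleCat.epi_iff_surjective _).mpr (hpr_surj n)
      have h2 : Epi (T.map (pr n)) := inferInstance
      have h3 : Epi (ρ.map (T.map (pr n))) := inferInstance
      have h4 : Epi (c n) := @IsIso.epi_of_iso _ _ _ _ _ (hc n)
      exact @epi_comp _ _ _ _ _ _ h3 _ h4
    · intro n
      rw [Groth.Agent.S9530.smulFamily_comp_eq_zero_iff]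
      intro a ha
      rw [Groth.Agent.S9530.smulMod_comp, hG.2.1 n a ha, comp_zero]
    · intro n Tq g hg
      rw [Groth.Agent.S9530.smulFamily_comp_eq_zero_iff] at hg
      have hkill : LinearMap.ker (pr n).hom ≤ LinearMap.ker (transpose A U L Tq g).hom := by
        rw [hpr_ker n, Submodule.smul_le]
        intro r hr x _
        rw [LinearMap.mem_ker]
        exact transpose_smul_eq_zero A U L Tq g r (hg r hr) x
      obtain ⟨h, hh⟩ := exists_factor_of_ker_le (pr n) (transpose A U L Tq g) (hpr_surj n) hkill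
      have := hc n
      refine ⟨inv (c n) ≫ untranspose A U (Y.obj (op n)) Tq h, ?_⟩
      change (ρ.map (T.map (pr n)) ≫ c n) ≫ inv (c n) ≫ untranspose A U (Y.obj (op n)) Tq h = g
      rw [Category.assoc, IsIso.hom_inv_id_assoc]
      have e1 := map_comp_untranspose A U (pr n) Tq h
      rw [hh, untranspose_transpose] at e1
      exact e1

end Main

end Groth.Agent.Lib.Seat76.AlgzCompl
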