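import Groth.Agent.Lib.Seat76AdicLim
import Mathlib.Algebra.Category.ModuleCat.Images
import Mathlib.Algebra.Category.ModuleCat.EpiMono
import Mathlib.CategoryTheory.Subobject.Limits

/-!
# Mittag-Leffler systems of modules: the limit surjects onto the stable images (seat 76)

Namespace `Groth.Agent.Lib.Seat76.MLLim`.

* `range_le_of_imageSubobject_le`: comparison of image subobjects in `ModuleCat` gives comparison of ranges.
* `limitOfSec`, `limit_π_limitOfSec`: compatible families give elements of the abstract limit.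
* `exists_sec_of_onto`: lifting an element along a subsystem with surjective transition maps.
* `exists_range_tl_le_range_π`: for a Mittag-Leffler system `Y` of modules and every `n` there is `k ≥ n` such that
  the image of `Y_k → Y_n` lies in the image of `lim Y → Y_n`.
-/

set_option autoImplicit false

universe u

open CategoryTheory CategoryTheory.Limits Opposite

namespace Groth.Agent.Lib.Seat76.MLLim

open Groth.Agent.Lib.Seat76.AdicLim

variable {A : Type u} [CommRing A]

theorem arrow_mem_range {Y Z : ModuleCat.{u} A} (g : Y ⟶ Z)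
    (w : ((imageSubobject g : Subobject Z) : ModuleCat.{u} A)) :
    (imageSubobject g).arrow.hom w ∈ LinearMap.range g.hom := by
  have hE : Epi (factorThruImageSubobject g) := inferInstance
  obtain ⟨y, rfl⟩ := (ModuleCat.epi_iff_surjective _).mp hE w
  refine ⟨y, ?_⟩
  have := imageSubobject_arrow_comp g
  exact (congrArg (fun φ => φ.hom y) this).symm

theorem range_le_of_imageSubobject_le {X Y Z : ModuleCat.{u} A} (f : X ⟶ Z) (g : Y ⟶ Z)
    (h : imageSubobject f ≤ imageSubobject g) :
    LinearMap.range f.hom ≤ LinearMap.range g.hom := by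
  rintro z ⟨x, rfl⟩
  have e : (factorThruImageSubobject f ≫ Subobject.ofLE _ _ h) ≫ (imageSubobject g).arrow = f := by
    rw [Category.assoc, Subobject.ofLE_arrow, imageSubobject_arrow_comp]
  have := arrow_mem_range g ((factorThruImageSubobject f ≫ Subobject.ofLE _ _ h).hom x)
  have e2 := congrArg (fun φ => φ.hom x) e
  rw [← e2]
  exact this

theorem range_eq_of_imageSubobject_eq {X Y Z : ModuleCat.{u} A} (f : X ⟶ Z) (g : Y ⟶ Z)
    (h : imageSubobject f = imageSubobject g) :
    LinearMap.range f.hom = LinearMap.range g.hom :=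
  le_antisymm (range_le_of_imageSubobject_le f g h.le) (range_le_of_imageSubobject_le g f h.ge)

section Limit

variable (Y : ℕᵒᵖ ⥤ ModuleCat.{u} A)

/-- the element of the abstract limit given by a compatible family -/
noncomputable def limitOfSec (s : secSub Y) : ↑(limit Y) :=
  (limit.lift Y (secCone Y)).hom s

theorem limit_π_limitOfSec (s : secSub Y) (n : ℕ) :
    (limit.π Y (op n)).hom (limitOfSec Y s) = s.1 n := by
  have := limit.lift_π (secCone Y) (op n)
  exact congrArg (fun φ => φ.hom s) this

variable {Y}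

/-- lifting along a subsystem with surjective transition maps -/
theorem exists_sec_of_onto (St : ∀ n, Submodule A (Y.obj (op n)))
    (honto : ∀ (n : ℕ) (x : Y.obj (op n)), x ∈ St n →
      ∃ y ∈ St (n + 1), tl Y (Nat.le_succ n) y = x)
    (n : ℕ) (x : Y.obj (op n)) (hx : x ∈ St n) : ∃ s : secSub Y, s.1 n = x := by
  let z : ∀ j : ℕ, {y : Y.obj (op (n + j)) // y ∈ St (n + j)} := fun j =>
    Nat.rec (motive := fun j => {y : Y.obj (op (n + j)) // y ∈ St (n + j)}) ⟨x, hx⟩
      (fun j zj => ⟨Classical.choose (honto (n + j) zj.1 zj.2),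
        (Classical.choose_spec (honto (n + j) zj.1 zj.2)).1⟩) j
  have hz : ∀ j, tl Y (Nat.le_succ (n + j)) (z (j + 1)).1 = (z j).1 := fun j =>
    (Classical.choose_spec (honto (n + j) (z j).1 (z j).2)).2
  have hz0 : (z 0).1 = x := rfl
  have hzx : ∀ j, tl Y (Nat.le_add_right n j) (z j).1 = x := by
    intro j
    induction j with
    | zero => rw [hz0]; exact tl_refl Y n x
    | succ j ih =>
      rw [← tl_comp Y (Nat.le_add_right n j) (Nat.le_succ (n + j)), hz j, ih]
  refine ⟨⟨fun k => tl Y (Nat.le_add_left k n) (z k).1, ?_⟩, ?_⟩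
  · intro k
    change tl Y (Nat.le_succ k) (tl Y (Nat.le_add_left (k + 1) n) (z (k + 1)).1) =
      tl Y (Nat.le_add_left k n) (z k).1
    rw [tl_comp, ← hz k, tl_comp]
  · exact hzx n

end Limit

section ML

variable {Y : ℕᵒᵖ ⥤ ModuleCat.{u} A}

theorem exists_range_tl_le_range_π (hML : ARSys.IsML Y) (n : ℕ) :
    ∃ (k : ℕ) (h : n ≤ k), LinearMap.range (tl Y h) ≤ LinearMap.range (limit.π Y (op n)).hom := by
  choose r hr using hML
  let St : ∀ n, Submodule A (Y.obj (op n)) := fun n =>
    LinearMap.range (tl Y (Nat.le_add_right n (r n)))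
  -- stable images
  have ha : ∀ (n k : ℕ) (h : n ≤ k), n + r n ≤ k → LinearMap.range (tl Y h) = St n := by
    intro n k h hk
    obtain ⟨s, rfl⟩ := Nat.exists_eq_add_of_le h
    have hs : r n ≤ s := by omega
    exact range_eq_of_imageSubobject_eq _ _ (hr n s hs)
  have honto : ∀ (n : ℕ) (x : Y.obj (op n)), x ∈ St n →
      ∃ y ∈ St (n + 1), tl Y (Nat.le_succ n) y = x := by
    intro n x hx
    let K := max (n + 1 + r (n + 1)) (n + r n)
    have h1 : n + 1 ≤ K := (Nat.le_add_right _ _).trans (le_max_left _ _)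
    have h0 : n ≤ K := (Nat.le_succ n).trans h1
    rw [← ha n K h0 (le_max_right _ _)] at hx
    obtain ⟨z, rfl⟩ := hx
    refine ⟨tl Y h1 z, ?_, tl_comp Y _ _ z⟩
    rw [← ha (n + 1) K h1 (le_max_left _ _)]
    exact ⟨z, rfl⟩
  refine ⟨n + r n, Nat.le_add_right n (r n), ?_⟩
  intro x hx
  obtain ⟨s, hs⟩ := exists_sec_of_onto St honto n x hx
  exact ⟨limitOfSec Y s, (limit_π_limitOfSec Y s n).trans hs⟩

end ML

end Groth.Agent.Lib.Seat76.MLLim
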