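import Groth.Agent.Lib.Seat76AlgzExt
import Groth.Agent.Lib.Seat76MLLim

/-!
# Mittag-Leffler sections: `M~|_U → F_n` is an epimorphism (seat 76)

Namespace `Groth.Agent.Lib.Seat76.AlgzEpi`.
-/

set_option autoImplicit false

universe u

open CategoryTheory CategoryTheory.Limits Opposite AlgebraicGeometry

namespace Groth.Agent.Lib.Seat76.AlgzEpi

open Groth.Agent.Lib.Seat76.ProML Groth.Agent.Lib.Seat76.AlgzExt Groth.Agent.Lib.Seat76.AdicLim
  Groth.Agent.Lib.Seat76.MLLim

variable (A : Type u) [CommRing A]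

/-- the adjoint map of `g : N ⟶ H⁰(U, F)` -/
theorem adjoint_eq (U : (Spec (CommRingCat.of A)).Opens) (F : (U : Scheme.{u}).Modules)
    (N : ModuleCat.{u} A)
    (g : N ⟶ (moduleSpecΓFunctor (R := CommRingCat.of A)).obj
      ((Scheme.Modules.pushforward U.ι).obj F)) :
    ((Scheme.Modules.restrictAdjunction U.ι).homEquiv _ F).symm
      (((tilde.adjunction (R := CommRingCat.of A)).homEquiv N
        ((Scheme.Modules.pushforward U.ι).obj F)).symm g) =
    (Scheme.Modules.restrictFunctor U.ι).map ((tilde.functor (CommRingCat.of A)).map g) ≫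
      thetaHom U F := by
  rw [Adjunction.homEquiv_counit, Adjunction.homEquiv_counit, Functor.map_comp, Category.assoc]
  rfl

theorem epi_of_range_le {C : Type*} [Category C] (F : ModuleCat.{u} A ⥤ C)
    [F.PreservesEpimorphisms] {L K N : ModuleCat.{u} A} (π : L ⟶ N) (t : K ⟶ N)
    (hrange : LinearMap.range t.hom ≤ LinearMap.range π.hom) {Z : C} (θ : F.obj N ⟶ Z)
    (hE : Epi (F.map t ≫ θ)) : Epi (F.map π ≫ θ) := by
  let R : Submodule A N := LinearMap.range π.hom
  let N' : ModuleCat.{u} A := ModuleCat.of A R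
  let p : L ⟶ N' := ModuleCat.ofHom (LinearMap.rangeRestrict π.hom)
  let i : N' ⟶ N := ModuleCat.ofHom R.subtype
  let q : K ⟶ N' := ModuleCat.ofHom
    (LinearMap.codRestrict R t.hom (fun y => hrange ⟨y, rfl⟩))
  have hpi : p ≫ i = π := by
    ext x
    rfl
  have hqi : q ≫ i = t := by
    ext x
    rfl
  have hp : Epi p := by
    rw [ModuleCat.epi_iff_surjective]
    exact LinearMap.surjective_rangeRestrict _
  have hE2 : Epi (F.map i ≫ θ) := by
    rw [← hqi, Functor.map_comp, Category.assoc] at hE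
    exact epi_of_epi (F.map q) _
  rw [← hpi, Functor.map_comp, Category.assoc]
  have : Epi (F.map p) := inferInstance
  exact epi_comp _ _

theorem main (I : Ideal A) (U : (Spec (CommRingCat.of A)).Opens) [QuasiCompact U.ι]
    (G : ℕᵒᵖ ⥤ (U : Scheme.{u}).Modules) (hG : Formal.IsCohFormal I G)
    (ha : ARSys.IsML (Algz.sectMod A U G)) (n : ℕ) :
    Epi (((Scheme.Modules.restrictAdjunction U.ι).homEquiv _ (G.obj (op n))).symm
      (((tilde.adjunction (R := CommRingCat.of A)).homEquiv (limit (Algz.sectMod A U G))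
        ((Scheme.Modules.pushforward U.ι).obj (G.obj (op n)))).symm
          (limit.π (Algz.sectMod A U G) (op n)))) := by
  have key := adjoint_eq A U (G.obj (op n)) (limit (Algz.sectMod A U G))
    (limit.π (Algz.sectMod A U G) (op n))
  refine (congrArg (fun f => Epi f) key).mpr ?_
  let H := Algz.sectMod A U G
  obtain ⟨k, hk, hrange⟩ := exists_range_tl_le_range_π ha n
  have hqc : ∀ n, (G.obj (op n)).IsQuasicoherent := fun n => (hG.1 n).1
  have hθk : IsIso (thetaHom U (G.obj (op k))) := isIso_thetaHom U (G.obj (op k))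
  let F : ModuleCat.{u} A ⥤ (U : Scheme.{u}).Modules :=
    tilde.functor (CommRingCat.of A) ⋙ Scheme.Modules.restrictFunctor U.ι
  have hT : (tilde.functor (CommRingCat.of A)).PreservesEpimorphisms :=
    Functor.preservesEpimorphisms_of_adjunction (tilde.adjunction (R := CommRingCat.of A))
  have hF : F.PreservesEpimorphisms := by
    refine ⟨fun {X Y} f hf => ?_⟩
    have h1 : Epi ((tilde.functor (CommRingCat.of A)).map f) := inferInstance
    change Epi ((Scheme.Modules.restrictFunctor U.ι).map
      ((tilde.functor (CommRingCat.of A)).map f))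
    infer_instance
  have hE1 : Epi (F.map (ARSys.tr H hk) ≫ thetaHom U (G.obj (op n))) := by
    have e : F.map (ARSys.tr H hk) ≫ thetaHom U (G.obj (op n)) =
        thetaHom U (G.obj (op k)) ≫ ARSys.tr G hk := thetaHom_nat U (ARSys.tr G hk)
    rw [e]
    have h2 : Epi (ARSys.tr G hk) := epi_tr_of_isCohFormal I G hG n k hk
    have h3 : Epi (thetaHom U (G.obj (op k))) := @IsIso.epi_of_iso _ _ _ _ _ hθk
    exact @epi_comp _ _ _ _ _ _ h3 _ h2
  exact epi_of_range_le A F (limit.π H (op n)) (ARSys.tr H hk) hrange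
    (thetaHom U (G.obj (op n))) hE1

end Groth.Agent.Lib.Seat76.AlgzEpi
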