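import Groth.Agent.Lib.Seat76ProML
import Groth.Agent.Lib.Seat76AdicLim
import Groth.Agent.S9530

set_option autoImplicit false

universe u

open CategoryTheory CategoryTheory.Limits Opposite AlgebraicGeometry

namespace Groth.Agent.Lib.Seat76.AlgzLim

open Groth.Agent.Lib.Seat76.AdicLim Groth.Agent.Lib.Seat76.ProML

variable (A : Type u) [CommRing A]

theorem Γ_smulMod_apply (M : (Spec (CommRingCat.of A)).Modules) (a : A)
    (y : (moduleSpecΓFunctor (R := CommRingCat.of A)).obj M) :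
    ((moduleSpecΓFunctor (R := CommRingCat.of A)).map
      (@Formal.smulMod A _ (Spec (CommRingCat.of A)) ⟨𝟙 _⟩ M a)).hom y = a • y := rfl

/-- the tilde of a module killed by `a` is killed by `a` -/
theorem smulMod_tilde_eq_zero (N : ModuleCat.{u} A) (a : A) (ha : ∀ y : N, a • y = 0) :
    @Formal.smulMod A _ (Spec (CommRingCat.of A)) ⟨𝟙 _⟩
      ((tilde.functor (CommRingCat.of A)).obj N) a = 0 := by
  let adj := tilde.adjunction (R := CommRingCat.of A)
  apply (adj.homEquiv _ _).injective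
  rw [Adjunction.homEquiv_unit, Adjunction.homEquiv_unit]
  congr 1
  ext y
  have h0 : ((moduleSpecΓFunctor (R := CommRingCat.of A)).map
      (0 : (tilde.functor (CommRingCat.of A)).obj N ⟶ (tilde.functor (CommRingCat.of A)).obj N)).hom y
      = 0 := rfl
  rw [h0, Γ_smulMod_apply]
  -- `y` comes from `N`
  let τ := (tilde.toTildeΓNatIso (R := CommRingCat.of A)).app N
  have hy : y = τ.hom.hom (τ.inv.hom y) := by
    have := congrArg (fun φ => φ.hom y) τ.inv_hom_id
    exact this.symm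
  rw [hy, ← map_smul, ha, map_zero]

/-- a morphism through which every map killed by `J` factors has kernel on global sections
inside `J • ⊤` -/
theorem ker_Γ_le (M M' : (Spec (CommRingCat.of A)).Modules) [M.IsQuasicoherent] (π : M ⟶ M')
    (J : Ideal A)
    (hfac : ∀ (Tq : (Spec (CommRingCat.of A)).Modules) (g : M ⟶ Tq),
      (∀ a ∈ J, @Formal.smulMod A _ (Spec (CommRingCat.of A)) ⟨𝟙 _⟩ M a ≫ g = 0) →
        ∃ g' : M' ⟶ Tq, π ≫ g' = g)
    {y : (moduleSpecΓFunctor (R := CommRingCat.of A)).obj M}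
    (hy : ((moduleSpecΓFunctor (R := CommRingCat.of A)).map π).hom y = 0) :
    y ∈ J • (⊤ : Submodule A ((moduleSpecΓFunctor (R := CommRingCat.of A)).obj M)) := by
  let Γ := moduleSpecΓFunctor (R := CommRingCat.of A)
  let T := tilde.functor (CommRingCat.of A)
  let adj := tilde.adjunction (R := CommRingCat.of A)
  let Nq : ModuleCat.{u} A := ModuleCat.of A
    ((moduleSpecΓFunctor (R := CommRingCat.of A)).obj M ⧸
      (J • (⊤ : Submodule A ((moduleSpecΓFunctor (R := CommRingCat.of A)).obj M))))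
  let q : Γ.obj M ⟶ Nq := ModuleCat.ofHom
    (X := ((moduleSpecΓFunctor (R := CommRingCat.of A)).obj M : Type u))
    (Submodule.mkQ (J • (⊤ : Submodule A ((moduleSpecΓFunctor (R := CommRingCat.of A)).obj M))))
  let ε : T.obj (Γ.obj M) ⟶ M := adj.counit.app M
  have hε : IsIso ε := Scheme.Modules.isIso_fromTildeΓ_of_isQuasicoherent M
  let g : M ⟶ T.obj Nq := inv ε ≫ T.map q
  have hkill : ∀ a ∈ J, @Formal.smulMod A _ (Spec (CommRingCat.of A)) ⟨𝟙 _⟩ M a ≫ g = 0 := by
    intro a ha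
    rw [@Groth.Agent.S9530.smulMod_comp A _ (Spec (CommRingCat.of A)) ⟨𝟙 _⟩ _ _ g a,
      smulMod_tilde_eq_zero A Nq a, comp_zero]
    intro z
    obtain ⟨z0, rfl⟩ := Submodule.mkQ_surjective _ z
    rw [← map_smul, Submodule.mkQ_apply, Submodule.Quotient.mk_eq_zero]
    exact Submodule.smul_mem_smul ha Submodule.mem_top
  obtain ⟨g', hg'⟩ := hfac (T.obj Nq) g hkill
  have e1 : (Γ.map g).hom y = 0 := by
    rw [← hg', Functor.map_comp]
    change (Γ.map g').hom ((Γ.map π).hom y) = 0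
    rw [hy, map_zero]
  have e2 : Γ.map (inv ε) = adj.unit.app (Γ.obj M) := by
    have tri : adj.unit.app (Γ.obj M) ≫ Γ.map ε = 𝟙 _ := adj.right_triangle_components M
    have : Γ.map (inv ε) = inv (Γ.map ε) := Functor.map_inv Γ ε
    rw [this, ← cancel_mono (Γ.map ε), IsIso.inv_hom_id]
    exact tri.symm
  have e3 : Γ.map g = q ≫ adj.unit.app Nq := by
    change Γ.map (inv ε ≫ T.map q) = _
    rw [Functor.map_comp, e2]
    exact (adj.unit.naturality q).symm
  rw [e3] at e1
  have e4 : (adj.unit.app Nq).hom (q.hom y) = 0 := e1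
  have hinj : Function.Injective (adj.unit.app Nq).hom := by
    have hi : IsIso (adj.unit.app Nq) := by
      change IsIso ((tilde.toTildeΓNatIso (R := CommRingCat.of A)).hom.app Nq)
      infer_instance
    exact ((ConcreteCategory.isIso_iff_bijective (adj.unit.app Nq)).mp hi).1
  have e5 : q.hom y = 0 := hinj (by rw [e4, map_zero])
  have e6 : (Submodule.mkQ (J • (⊤ : Submodule A
      ((moduleSpecΓFunctor (R := CommRingCat.of A)).obj M)))) y = 0 := e5
  rw [Submodule.mkQ_apply, Submodule.Quotient.mk_eq_zero] at e6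
  exact e6

variable {A}

/-- the system of global sections of a coherent formal system on `Spec A` is `I`-adic -/
theorem adicHyp_Γ (I : Ideal A) (G' : ℕᵒᵖ ⥤ (Spec (CommRingCat.of A)).Modules)
    (hG' : @Formal.IsCohFormal A _ (Spec (CommRingCat.of A)) ⟨𝟙 _⟩ I G') :
    AdicHyp (G' ⋙ moduleSpecΓFunctor (R := CommRingCat.of A)) I := by
  let Γ := moduleSpecΓFunctor (R := CommRingCat.of A)
  let T := tilde.functor (CommRingCat.of A)
  let adj := tilde.adjunction (R := CommRingCat.of A)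
  refine ⟨?_, ?_, ?_⟩
  · intro n k h
    have hn : (G'.obj (op n)).IsQuasicoherent := (hG'.1 n).1
    have hk : (G'.obj (op k)).IsQuasicoherent := (hG'.1 k).1
    have hE : Epi (ARSys.tr G' h) :=
      @epi_tr_of_isCohFormal A _ (Spec (CommRingCat.of A)) ⟨𝟙 _⟩ I G' hG' n k h
    have hE' : Epi (Γ.map (ARSys.tr G' h)) := epi_Γ_map (R := CommRingCat.of A) _ _ (ARSys.tr G' h)
    exact (ModuleCat.epi_iff_surjective _).mp hE'
  · intro n a ha y
    have h0 := hG'.2.1 n a ha
    have := Γ_smulMod_apply A (G'.obj (op n)) a y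
    rw [h0] at this
    exact this.symm
  · intro n k h y hy
    rw [LinearMap.mem_ker] at hy
    have hk : (G'.obj (op k)).IsQuasicoherent := (hG'.1 k).1
    exact ker_Γ_le A (G'.obj (op k)) (G'.obj (op n)) (G'.map (homOfLE h).op) (I ^ (n + 1))
      (fun Tq g hg => @Groth.Agent.S9530.exists_factor A _ (Spec (CommRingCat.of A)) ⟨𝟙 _⟩
        I G' hG' n k h Tq g hg) hy

variable (A)

/-- the pro-isomorphism data in module form extracted from a canonical extension -/
theorem exists_data (I : Ideal A) (U : (Spec (CommRingCat.of A)).Opens)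
    (G : ℕᵒᵖ ⥤ (U : Scheme.{u}).Modules) (h : Algz.CanonicallyExtends A I U G) :
    ∃ (G' : ℕᵒᵖ ⥤ (Spec (CommRingCat.of A)).Modules)
      (_ : @Formal.IsCohFormal A _ (Spec (CommRingCat.of A)) ⟨𝟙 _⟩ I G')
      (m : ℕ → ℕ) (hm : Monotone m) (_ : ∀ n, n ≤ m n)
      (a : ∀ n, (Algz.sectMod A U G).obj (op (m n)) ⟶
        (G' ⋙ moduleSpecΓFunctor (R := CommRingCat.of A)).obj (op n)),
      (∀ (n k : ℕ) (h : n ≤ k),
        a k ≫ ARSys.tr (G' ⋙ moduleSpecΓFunctor (R := CommRingCat.of A)) h =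
          ARSys.tr (Algz.sectMod A U G) (hm h) ≫ a n) ∧
      (∀ n, ∃ (m1 : ℕ) (h : n ≤ m1)
        (b : (G' ⋙ moduleSpecΓFunctor (R := CommRingCat.of A)).obj (op m1) ⟶
          (Algz.sectMod A U G).obj (op (m n))),
        a m1 ≫ b = ARSys.tr (Algz.sectMod A U G) (hm h) ∧
          b ≫ a n = ARSys.tr (G' ⋙ moduleSpecΓFunctor (R := CommRingCat.of A)) h) := by
  obtain ⟨G', hG', m, hm, hmn, a, ha⟩ := h
  let Γ := moduleSpecΓFunctor (R := CommRingCat.of A)
  let T := tilde.functor (CommRingCat.of A)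
  let τ : 𝟭 _ ≅ T ⋙ Γ := tilde.toTildeΓNatIso (R := CommRingCat.of A)
  let X := Algz.sectMod A U G
  let a0 : ∀ n, T.obj (X.obj (op (m n))) ⟶ G'.obj (op n) := fun n => a.app (op n)
  have a0_nat : ∀ (n k : ℕ) (h : n ≤ k),
      a0 k ≫ ARSys.tr G' h = T.map (ARSys.tr X (hm h)) ≫ a0 n :=
    fun n k h => (a.naturality (homOfLE h).op).symm
  have τ_nat : ∀ {P Q : ModuleCat.{u} A} (f : P ⟶ Q),
      f ≫ τ.hom.app Q = τ.hom.app P ≫ Γ.map (T.map f) := fun f => τ.hom.naturality f
  refine ⟨G', hG', m, hm, hmn,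
    (fun n => τ.hom.app (X.obj (op (m n))) ≫ Γ.map (a0 n)), ?_, ?_⟩
  · intro n k h
    change (τ.hom.app (X.obj (op (m k))) ≫ Γ.map (a0 k)) ≫ Γ.map (ARSys.tr G' h) =
      ARSys.tr X (hm h) ≫ τ.hom.app (X.obj (op (m n))) ≫ Γ.map (a0 n)
    rw [Category.assoc, ← Γ.map_comp, a0_nat, Γ.map_comp, ← Category.assoc, ← τ_nat,
      Category.assoc]
  · intro n
    obtain ⟨m1, h1, b1, hb, hb'⟩ := ha n
    let b : G'.obj (op m1) ⟶ T.obj (X.obj (op (m n))) := b1
    have hb0 : a0 m1 ≫ b = T.map (ARSys.tr X (hm h1)) := hb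
    have hb0' : b ≫ a0 n = ARSys.tr G' h1 := hb'
    refine ⟨m1, h1, Γ.map b ≫ τ.inv.app (X.obj (op (m n))), ?_, ?_⟩
    · rw [Category.assoc, ← Category.assoc (Γ.map (a0 m1)), ← Γ.map_comp, hb0,
        ← Category.assoc, ← τ_nat, Category.assoc, Iso.hom_inv_id_app]
      exact Category.comp_id _
    · change (Γ.map b ≫ τ.inv.app (X.obj (op (m n)))) ≫
        τ.hom.app (X.obj (op (m n))) ≫ Γ.map (a0 n) = Γ.map (ARSys.tr G' h1)
      rw [Category.assoc, Iso.inv_hom_id_app_assoc, ← Γ.map_comp, hb0']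

/-- S9533 -/
theorem main [IsNoetherianRing A] (I : Ideal A) (U : (Spec (CommRingCat.of A)).Opens)
    (G : ℕᵒᵖ ⥤ (U : Scheme.{u}).Modules) (h : Algz.CanonicallyExtends A I U G) (k : ℕ) :
    ∃ n : ℕ, LinearMap.ker (limit.π (Algz.sectMod A U G) (op n)).hom ≤
      I ^ k • (⊤ : Submodule A ↑(limit (Algz.sectMod A U G))) := by
  obtain ⟨G', hG', m, hm, hmn, a, nat, pro⟩ := exists_data A I U G h
  cases k with
  | zero =>
    refine ⟨0, ?_⟩
    rw [pow_zero, Ideal.one_eq_top, Submodule.top_smul]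
    exact le_top
  | succ k =>
    refine ⟨m k, ?_⟩
    apply ker_limit_le (Algz.sectMod A U G) I (k + 1) (m k)
    intro x hx
    exact ker_le_of_proIso m hm hmn a nat pro I (IsNoetherian.noetherian I)
      (adicHyp_Γ I G' hG') k x hx

end Groth.Agent.Lib.Seat76.AlgzLim
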