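import Groth.Agent.Lib.Seat76ProML
import Groth.Agent.Lib.Seat76AlgzLim
import Groth.Agent.Lib.Helper20FormalPull
import Groth.Agent.Lib.Helper23QCohLocal
import Groth.Agent.S9530

/-!
# A canonically extending coherent formal system extends (seat 76)

Namespace `Groth.Agent.Lib.Seat76.AlgzExt`.

* `nonempty_iso_of_data`: abstract lemma: pro-isomorphism data between two inverse systems with
  epimorphic transition maps, plus levelwise factorizations, give an isomorphism of systems.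
* `restrict_map_smulMod`: restriction to an open of `Spec A` commutes with multiplication by `a : A`.
* `thetaHom`, `thetaHom_nat`, `isIso_thetaHom`: the natural map `((H⁰(U, F))~)|_U ⟶ F`, an isomorphism
  for quasi-coherent `F` when `U ⟶ Spec A` is quasi-compact.
* `main`: `Algz.CanonicallyExtends → Algz.Extends` for a coherent formal system on an open of the
  spectrum of a Noetherian ring.
-/

set_option autoImplicit false

universe v u

open CategoryTheory CategoryTheory.Limits Opposite AlgebraicGeometry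

namespace Groth.Agent.Lib.Seat76.AlgzExt

open Groth.Agent.Lib.Seat76.ProML

section Abstract

variable {C : Type u} [Category.{v} C]

theorem nonempty_iso_of_data (P Q : ARSys.PS C) (m : ℕ → ℕ) (hm : Monotone m)
    (hle : ∀ n, n ≤ m n)
    (hP : ∀ (n k : ℕ) (h : n ≤ k), Epi (ARSys.tr P h))
    (hQ : ∀ (n k : ℕ) (h : n ≤ k), Epi (ARSys.tr Q h))
    (a' : ∀ n, P.obj (op (m n)) ⟶ Q.obj (op n))
    (a'_nat : ∀ (n k : ℕ) (h : n ≤ k), a' k ≫ ARSys.tr Q h = ARSys.tr P (hm h) ≫ a' n)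
    (β : ∀ n, P.obj (op n) ⟶ Q.obj (op n)) (hβ : ∀ n, ARSys.tr P (hle n) ≫ β n = a' n)
    (γ : ∀ n, Q.obj (op n) ⟶ P.obj (op n))
    (hdata : ∀ n, ∃ (k : ℕ) (h : n ≤ k) (b : Q.obj (op k) ⟶ P.obj (op (m n))),
      a' k ≫ b = ARSys.tr P (hm h) ∧ b ≫ a' n = ARSys.tr Q h ∧
      ARSys.tr Q h ≫ γ n = b ≫ ARSys.tr P (hle n)) :
    Nonempty (Q ≅ P) := by
  -- naturality of `β`
  have β_nat : ∀ (n k : ℕ) (h : n ≤ k), ARSys.tr P h ≫ β n = β k ≫ ARSys.tr Q h := by
    intro n k h
    have := hP k (m k) (hle k)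
    rw [← cancel_epi (ARSys.tr P (hle k))]
    calc ARSys.tr P (hle k) ≫ ARSys.tr P h ≫ β n
        = ARSys.tr P (h.trans (hle k)) ≫ β n := by rw [← Category.assoc, tr_comp]
      _ = (ARSys.tr P (hm h) ≫ ARSys.tr P (hle n)) ≫ β n := by rw [tr_comp]
      _ = ARSys.tr P (hm h) ≫ a' n := by rw [Category.assoc, hβ]
      _ = a' k ≫ ARSys.tr Q h := (a'_nat n k h).symm
      _ = ARSys.tr P (hle k) ≫ β k ≫ ARSys.tr Q h := by rw [← Category.assoc, hβ]
  have h1 : ∀ n, β n ≫ γ n = 𝟙 _ := by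
    intro n
    obtain ⟨k, h, b, e1, e2, e3⟩ := hdata n
    have := hP n (m k) (h.trans (hle k))
    rw [← cancel_epi (ARSys.tr P (h.trans (hle k)))]
    calc ARSys.tr P (h.trans (hle k)) ≫ β n ≫ γ n
        = (ARSys.tr P (hle k) ≫ ARSys.tr P h) ≫ β n ≫ γ n := by rw [tr_comp]
      _ = ARSys.tr P (hle k) ≫ (ARSys.tr P h ≫ β n) ≫ γ n := by simp only [Category.assoc]
      _ = ARSys.tr P (hle k) ≫ (β k ≫ ARSys.tr Q h) ≫ γ n := by rw [β_nat]
      _ = (ARSys.tr P (hle k) ≫ β k) ≫ ARSys.tr Q h ≫ γ n := by simp only [Category.assoc]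
      _ = a' k ≫ b ≫ ARSys.tr P (hle n) := by rw [hβ, e3]
      _ = ARSys.tr P (hm h) ≫ ARSys.tr P (hle n) := by rw [← Category.assoc, e1]
      _ = ARSys.tr P (h.trans (hle k)) := by rw [tr_comp]
      _ = ARSys.tr P (h.trans (hle k)) ≫ 𝟙 _ := (Category.comp_id _).symm
  have h2 : ∀ n, γ n ≫ β n = 𝟙 _ := by
    intro n
    obtain ⟨k, h, b, e1, e2, e3⟩ := hdata n
    have := hQ n k h
    rw [← cancel_epi (ARSys.tr Q h)]
    calc ARSys.tr Q h ≫ γ n ≫ β n
        = (b ≫ ARSys.tr P (hle n)) ≫ β n := by rw [← Category.assoc, e3]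
      _ = b ≫ a' n := by rw [Category.assoc, hβ]
      _ = ARSys.tr Q h := e2
      _ = ARSys.tr Q h ≫ 𝟙 _ := (Category.comp_id _).symm
  refine ⟨(NatIso.ofComponents (fun n => ⟨β n.unop, γ n.unop, h1 n.unop, h2 n.unop⟩) ?_).symm⟩
  intro x y f
  have hf : f = (homOfLE (leOfHom f.unop)).op := Subsingleton.elim _ _
  rw [hf]
  exact β_nat y.unop x.unop (leOfHom f.unop)

end Abstract

section Restrict

variable {X Y : Scheme.{u}} (f : X ⟶ Y) [IsOpenImmersion f]

theorem restrict_map_smulModΓ (M : Y.Modules) (r : Coh.Γtop Y) :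
    (Scheme.Modules.restrictFunctor f).map (Formal.smulModΓ M r) =
      Formal.smulModΓ ((Scheme.Modules.restrictFunctor f).obj M) (f.appTop.hom r) := by
  let adj := Scheme.Modules.restrictAdjunction f
  apply (adj.homEquiv _ _).injective
  rw [Adjunction.homEquiv_unit, Adjunction.homEquiv_unit,
    Groth.Agent.Lib.Helper20.FormalPull.pushforward_map_smulModΓ]
  have h1 : adj.unit.app M ≫ (Scheme.Modules.pushforward f).map
      ((Scheme.Modules.restrictFunctor f).map (Formal.smulModΓ M r)) =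
        Formal.smulModΓ M r ≫ adj.unit.app M :=
    (adj.unit.naturality (Formal.smulModΓ M r)).symm
  exact h1.trans (Groth.Agent.S9530.smulModΓ_comp (adj.unit.app M) r)

end Restrict

section OverA

variable {A : Type u} [CommRing A] (U : (Spec (CommRingCat.of A)).Opens)

theorem restrict_map_smulMod (M : (Spec (CommRingCat.of A)).Modules) (a : A) :
    (Scheme.Modules.restrictFunctor U.ι).map
        (@Formal.smulMod A _ (Spec (CommRingCat.of A)) ⟨𝟙 _⟩ M a) =
      Formal.smulMod A ((Scheme.Modules.restrictFunctor U.ι).obj M) a := by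
  rw [Formal.smulMod, Formal.smulMod, restrict_map_smulModΓ]
  congr 1

theorem pushforward_map_smulMod (F : (U : Scheme.{u}).Modules) (a : A) :
    (Scheme.Modules.pushforward U.ι).map (Formal.smulMod A F a) =
      @Formal.smulMod A _ (Spec (CommRingCat.of A)) ⟨𝟙 _⟩
        ((Scheme.Modules.pushforward U.ι).obj F) a := by
  rw [Formal.smulMod, Formal.smulMod,
    ← Groth.Agent.Lib.Helper20.FormalPull.pushforward_map_smulModΓ]
  congr 1

end OverA

section Theta

variable {A : Type u} [CommRing A] (U : (Spec (CommRingCat.of A)).Opens)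

/-- the natural map `((H⁰(U, F))~)|_U ⟶ F` -/
noncomputable def thetaHom (F : (U : Scheme.{u}).Modules) :
    (Scheme.Modules.restrictFunctor U.ι).obj ((tilde.functor (CommRingCat.of A)).obj
      ((moduleSpecΓFunctor (R := CommRingCat.of A)).obj
        ((Scheme.Modules.pushforward U.ι).obj F))) ⟶ F :=
  (Scheme.Modules.restrictFunctor U.ι).map
      ((tilde.adjunction (R := CommRingCat.of A)).counit.app
        ((Scheme.Modules.pushforward U.ι).obj F)) ≫
    (Scheme.Modules.restrictAdjunction U.ι).counit.app F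

theorem thetaHom_nat {F F' : (U : Scheme.{u}).Modules} (φ : F ⟶ F') :
    (Scheme.Modules.restrictFunctor U.ι).map ((tilde.functor (CommRingCat.of A)).map
      ((moduleSpecΓFunctor (R := CommRingCat.of A)).map
        ((Scheme.Modules.pushforward U.ι).map φ))) ≫ thetaHom U F' = thetaHom U F ≫ φ := by
  unfold thetaHom
  have h1 := (tilde.adjunction (R := CommRingCat.of A)).counit.naturality
    ((Scheme.Modules.pushforward U.ι).map φ)
  have h2 := (Scheme.Modules.restrictAdjunction U.ι).counit.naturality φ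
  simp only [Functor.comp_obj, Functor.comp_map, Functor.id_obj, Functor.id_map] at h1 h2
  rw [← Category.assoc, ← Functor.map_comp, h1, Functor.map_comp, Category.assoc, h2,
    Category.assoc]

theorem isIso_thetaHom [QuasiCompact U.ι] (F : (U : Scheme.{u}).Modules) [F.IsQuasicoherent] :
    IsIso (thetaHom U F) := by
  have hq : ((Scheme.Modules.pushforward U.ι).obj F).IsQuasicoherent :=
    Groth.Agent.Lib.Helper23.QCohLocal.isQuasicoherent_pushforward U.ι F
  have h1 : IsIso ((tilde.adjunction (R := CommRingCat.of A)).counit.app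
      ((Scheme.Modules.pushforward U.ι).obj F)) :=
    Scheme.Modules.isIso_fromTildeΓ_of_isQuasicoherent
      ((Scheme.Modules.pushforward U.ι).obj F)
  unfold thetaHom
  infer_instance

end Theta

section Main

open Groth.Agent.Lib.Seat76.AlgzLim

variable (A : Type u) [CommRing A]

theorem main (I : Ideal A) (U : (Spec (CommRingCat.of A)).Opens) [QuasiCompact U.ι]
    (G : ℕᵒᵖ ⥤ (U : Scheme.{u}).Modules) (hG : Formal.IsCohFormal I G)
    (h : Algz.CanonicallyExtends A I U G) :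
    @Algz.Extends A _ (Spec (CommRingCat.of A)) ⟨𝟙 (Spec (CommRingCat.of A))⟩ I U G := by
  obtain ⟨G', hG', m, hm, hle, a, ha⟩ := h
  refine ⟨G', hG', ?_⟩
  let T := tilde.functor (CommRingCat.of A)
  let ρ := Scheme.Modules.restrictFunctor U.ι
  let J := Scheme.Modules.pushforward U.ι
  -- the functor `F ↦ (H⁰(U, F))~`
  let E : (U : Scheme.{u}).Modules ⥤ (Spec (CommRingCat.of A)).Modules :=
    Scheme.Modules.pushforward U.ι ⋙ moduleSpecΓFunctor (R := CommRingCat.of A) ⋙
      tilde.functor (CommRingCat.of A)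
  have hqc : ∀ n, (G.obj (op n)).IsQuasicoherent := fun n => (hG.1 n).1
  let θ : ∀ n, ρ.obj (E.obj (G.obj (op n))) ⟶ G.obj (op n) := fun n => thetaHom U (G.obj (op n))
  have hθ : ∀ n, IsIso (θ n) := fun n => isIso_thetaHom U (G.obj (op n))
  have θ_nat : ∀ {n k : ℕ} (φ : G.obj (op k) ⟶ G.obj (op n)),
      ρ.map (E.map φ) ≫ θ n = θ k ≫ φ := fun φ => thetaHom_nat U φ
  -- components of the pro-isomorphism with clean types
  let a0 : ∀ n, E.obj (G.obj (op (m n))) ⟶ G'.obj (op n) := fun n => a.app (op n)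
  have a0_nat : ∀ (n k : ℕ) (h : n ≤ k),
      a0 k ≫ ARSys.tr G' h = E.map (ARSys.tr G (hm h)) ≫ a0 n :=
    fun n k h => (a.naturality (homOfLE h).op).symm
  choose k hk b hb1 hb2 using ha
  let b0 : ∀ n, G'.obj (op (k n)) ⟶ E.obj (G.obj (op (m n))) := fun n => b n
  have hb1' : ∀ n, a0 (k n) ≫ b0 n = E.map (ARSys.tr G (hm (hk n))) := hb1
  have hb2' : ∀ n, b0 n ≫ a0 n = ARSys.tr G' (hk n) := hb2
  -- the terms of the system of sections are killed
  have hE_killed : ∀ n, ∀ x ∈ I ^ (n + 1),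
      @Formal.smulMod A _ (Spec (CommRingCat.of A)) ⟨𝟙 _⟩ (E.obj (G.obj (op n))) x = 0 := by
    intro n x hx
    refine smulMod_tilde_eq_zero A _ x ?_
    intro y
    have e1 := Γ_smulMod_apply A ((Scheme.Modules.pushforward U.ι).obj (G.obj (op n))) x y
    rw [← pushforward_map_smulMod, hG.2.1 n x hx] at e1
    rw [← e1]
    rfl
  -- the terms of the restricted system are killed
  have hQ_killed : ∀ n, ∀ x ∈ I ^ (n + 1),
      Formal.smulMod A (ρ.obj (G'.obj (op n))) x = 0 := by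
    intro n x hx
    rw [← restrict_map_smulMod, hG'.2.1 n x hx]
    exact Functor.map_zero _ _ _
  -- the levelwise maps
  let a' : ∀ n, G.obj (op (m n)) ⟶ ρ.obj (G'.obj (op n)) := fun n =>
    inv (θ (m n)) ≫ ρ.map (a0 n)
  have hβ : ∀ n, ∃ g : G.obj (op n) ⟶ ρ.obj (G'.obj (op n)), ARSys.tr G (hle n) ≫ g = a' n := by
    intro n
    refine Groth.Agent.S9530.exists_factor hG n (m n) (hle n) _ (a' n) ?_
    intro x hx
    rw [Groth.Agent.S9530.smulMod_comp, hQ_killed n x hx, comp_zero]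
  choose β hβ' using hβ
  have hγ : ∀ n, ∃ g : G'.obj (op n) ⟶ E.obj (G.obj (op n)),
      ARSys.tr G' (hk n) ≫ g = b0 n ≫ E.map (ARSys.tr G (hle n)) := by
    intro n
    refine @Groth.Agent.S9530.exists_factor A _ (Spec (CommRingCat.of A)) ⟨𝟙 _⟩ I G' hG' n (k n)
      (hk n) _ (b0 n ≫ E.map (ARSys.tr G (hle n))) ?_
    intro x hx
    rw [@Groth.Agent.S9530.smulMod_comp A _ (Spec (CommRingCat.of A)) ⟨𝟙 _⟩, hE_killed n x hx,
      comp_zero]
  choose γ0 hγ0 using hγ
  refine nonempty_iso_of_data G (G' ⋙ ρ) m hm hle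
    (fun n k h => epi_tr_of_isCohFormal I G hG n k h) ?_ a' ?_ β hβ'
    (fun n => ρ.map (γ0 n) ≫ θ n) ?_
  · intro n k h
    have : Epi (ARSys.tr G' h) :=
      @epi_tr_of_isCohFormal A _ (Spec (CommRingCat.of A)) ⟨𝟙 _⟩ I G' hG' n k h
    change Epi (ρ.map (ARSys.tr G' h))
    infer_instance
  · intro n k h
    change (inv (θ (m k)) ≫ ρ.map (a0 k)) ≫ ρ.map (ARSys.tr G' h) =
      ARSys.tr G (hm h) ≫ inv (θ (m n)) ≫ ρ.map (a0 n)
    rw [Category.assoc, ← ρ.map_comp, a0_nat, ρ.map_comp, IsIso.inv_comp_eq, ← Category.assoc,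
      ← Category.assoc, ← θ_nat, Category.assoc, Category.assoc, IsIso.hom_inv_id_assoc]
  · intro n
    refine ⟨k n, hk n, ρ.map (b0 n) ≫ θ (m n), ?_, ?_, ?_⟩
    · change (inv (θ (m (k n))) ≫ ρ.map (a0 (k n))) ≫ ρ.map (b0 n) ≫ θ (m n) = _
      rw [Category.assoc, ← Category.assoc (ρ.map (a0 (k n))), ← ρ.map_comp, hb1', θ_nat,
        IsIso.inv_hom_id_assoc]
    · change (ρ.map (b0 n) ≫ θ (m n)) ≫ inv (θ (m n)) ≫ ρ.map (a0 n) = ρ.map (ARSys.tr G' (hk n))
      rw [Category.assoc, IsIso.hom_inv_id_assoc, ← ρ.map_comp, hb2']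
    · change ρ.map (ARSys.tr G' (hk n)) ≫ ρ.map (γ0 n) ≫ θ n =
        (ρ.map (b0 n) ≫ θ (m n)) ≫ ARSys.tr G (hle n)
      rw [← Category.assoc, ← ρ.map_comp, hγ0, ρ.map_comp, Category.assoc, θ_nat, Category.assoc]

end Main

end Groth.Agent.Lib.Seat76.AlgzExt
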