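import Groth.Agent.Lib.Seat76MLLim
import Groth.Prelude.Def_DerCA
import Mathlib.LinearAlgebra.Quotient.Basic
import Mathlib.LinearAlgebra.Isomorphisms

/-!
# The system `n ↦ M / I^(n+1) M` and a Mittag-Leffler system with adic limit topology (seat 76)

Namespace `Groth.Agent.Lib.Seat76.QuotSys`.

* `quotSys I M`: the inverse system `n ↦ M / I^(n+1) M` of modules, `quotπ` its projections.
* `exists_proIso`: if `H` is a Mittag-Leffler system of modules with `H_n` killed by `I^(n+1)` and the limit
  topology on `M = lim H` is the `I`-adic one, then `H` is pro-isomorphic to `quotSys I M`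
  (in the form of `Algz.IsProIsomorphic`, unfolded).
* `finite_quot_of_finite_range`: if moreover the images of `M → H_n` are finite modules, so are the `M / I^(n+1) M`.
-/

set_option autoImplicit false

universe u

open CategoryTheory CategoryTheory.Limits Opposite

namespace Groth.Agent.Lib.Seat76.QuotSys

open Groth.Agent.Lib.Seat76.AdicLim Groth.Agent.Lib.Seat76.MLLim

variable {A : Type u} [CommRing A]

theorem pow_smul_top_le (I : Ideal A) (M : ModuleCat.{u} A) {n k : ℕ} (h : n ≤ k) :
    I ^ (k + 1) • (⊤ : Submodule A M) ≤ I ^ (n + 1) • (⊤ : Submodule A M) :=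
  Submodule.smul_mono_left (Ideal.pow_le_pow_right (Nat.succ_le_succ h))

/-- the inverse system `n ↦ M / I^(n+1) M` -/
noncomputable def quotSys (I : Ideal A) (M : ModuleCat.{u} A) : ℕᵒᵖ ⥤ ModuleCat.{u} A where
  obj n := ModuleCat.of A (M ⧸ (I ^ (n.unop + 1) • (⊤ : Submodule A M)))
  map {n k} f := ModuleCat.ofHom (Submodule.factor (pow_smul_top_le I M (leOfHom f.unop)))
  map_id n := by
    apply ModuleCat.hom_ext
    apply LinearMap.ext
    intro x
    obtain ⟨x, rfl⟩ := Submodule.mkQ_surjective _ x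
    exact Submodule.factor_mk (le_refl _) x
  map_comp f g := by
    apply ModuleCat.hom_ext
    apply LinearMap.ext
    intro x
    obtain ⟨x, rfl⟩ := Submodule.mkQ_surjective _ x
    simp only [ModuleCat.hom_comp, ModuleCat.hom_ofHom, LinearMap.comp_apply,
      Submodule.factor_mk]

/-- the projection `M → M / I^(n+1) M` -/
noncomputable def quotπ (I : Ideal A) (M : ModuleCat.{u} A) (n : ℕ) : M ⟶ (quotSys I M).obj (op n) :=
  ModuleCat.ofHom (Submodule.mkQ (I ^ (n + 1) • (⊤ : Submodule A M)))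

theorem quotπ_surjective (I : Ideal A) (M : ModuleCat.{u} A) (n : ℕ) :
    Function.Surjective (quotπ I M n).hom := Submodule.mkQ_surjective _

theorem ker_quotπ (I : Ideal A) (M : ModuleCat.{u} A) (n : ℕ) :
    LinearMap.ker (quotπ I M n).hom = I ^ (n + 1) • (⊤ : Submodule A M) := Submodule.ker_mkQ _

theorem quotπ_tr (I : Ideal A) (M : ModuleCat.{u} A) {n k : ℕ} (h : n ≤ k) :
    quotπ I M k ≫ ARSys.tr (quotSys I M) h = quotπ I M n := by
  apply ModuleCat.hom_ext
  apply LinearMap.ext
  intro x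
  exact Submodule.factor_mk (pow_smul_top_le I M h) x

theorem tl_quotπ (I : Ideal A) (M : ModuleCat.{u} A) {n k : ℕ} (h : n ≤ k) (x : M) :
    tl (quotSys I M) h ((quotπ I M k).hom x) = (quotπ I M n).hom x := by
  have := quotπ_tr I M h
  exact congrArg (fun φ => φ.hom x) this

theorem exists_factor_of_ker_le {L M N : ModuleCat.{u} A} (p : L ⟶ M) (g : L ⟶ N)
    (hp : Function.Surjective p.hom) (hk : LinearMap.ker p.hom ≤ LinearMap.ker g.hom) :
    ∃ h : M ⟶ N, p ≫ h = g := by
  refine ⟨ModuleCat.ofHom ((Submodule.liftQ _ g.hom hk).comp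
    (LinearMap.quotKerEquivOfSurjective p.hom hp).symm.toLinearMap), ?_⟩
  ext x
  change (Submodule.liftQ _ g.hom hk)
    ((LinearMap.quotKerEquivOfSurjective p.hom hp).symm (p.hom x)) = g.hom x
  have : (LinearMap.quotKerEquivOfSurjective p.hom hp).symm (p.hom x) =
      Submodule.Quotient.mk x := by
    rw [LinearEquiv.symm_apply_eq]
    rfl
  rw [this]
  rfl

section Limit

variable (H : ℕᵒᵖ ⥤ ModuleCat.{u} A)

theorem π_eq_tl {n k : ℕ} (h : n ≤ k) (x : ↑(limit H)) :
    (limit.π H (op n)).hom x = tl H h ((limit.π H (op k)).hom x) := by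
  have := limit.w H (homOfLE h).op
  exact (congrArg (fun φ => φ.hom x) this).symm

theorem ker_π_mono {n k : ℕ} (h : n ≤ k) :
    LinearMap.ker (limit.π H (op k)).hom ≤ LinearMap.ker (limit.π H (op n)).hom := by
  intro x hx
  rw [LinearMap.mem_ker] at hx ⊢
  rw [π_eq_tl H h, hx, map_zero]

end Limit

section Indices

/-- a monotone majorant -/
def msup (f : ℕ → ℕ) (n : ℕ) : ℕ := (Finset.range (n + 1)).sup f

theorem le_msup (f : ℕ → ℕ) (n : ℕ) : f n ≤ msup f n :=
  Finset.le_sup (f := f) (Finset.self_mem_range_succ n)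

theorem msup_mono (f : ℕ → ℕ) : Monotone (msup f) := by
  intro n k h
  exact Finset.sup_mono (Finset.range_mono (Nat.succ_le_succ h))

end Indices

section Main

variable {H : ℕᵒᵖ ⥤ ModuleCat.{u} A} {I : Ideal A}

theorem exists_proIso
    (hkilled : ∀ (n : ℕ) (a : A), a ∈ I ^ (n + 1) → ∀ y : H.obj (op n), a • y = 0)
    (hML : ARSys.IsML H)
    (hb : ∀ k : ℕ, ∃ n : ℕ, LinearMap.ker (limit.π H (op n)).hom ≤
      I ^ k • (⊤ : Submodule A ↑(limit H))) :
    ∃ (m : ℕ → ℕ) (hm : Monotone m) (_ : ∀ n, n ≤ m n)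
      (a : DerCA.reindex H hm ⟶ quotSys I (limit H)), DerCA.IsProIso a := by
  -- indices
  choose N0 hN0 using fun n => hb (n + 1)
  let N : ℕ → ℕ := msup (fun j => max (N0 j) j)
  have hNmono : Monotone N := msup_mono _
  have hN_le : ∀ n, n ≤ N n := fun n =>
    (le_max_right (N0 n) n).trans (le_msup (fun j => max (N0 j) j) n)
  have hN0_le : ∀ n, N0 n ≤ N n := fun n =>
    (le_max_left (N0 n) n).trans (le_msup (fun j => max (N0 j) j) n)
  have hNker : ∀ n, LinearMap.ker (limit.π H (op (N n))).hom ≤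
      I ^ (n + 1) • (⊤ : Submodule A ↑(limit H)) := fun n =>
    (ker_π_mono H (hN0_le n)).trans (hN0 n)
  choose K hK hKrange using fun j => exists_range_tl_le_range_π hML j
  let m : ℕ → ℕ := msup (fun j => K (N j))
  have hm : Monotone m := msup_mono _
  have hKm : ∀ n, K (N n) ≤ m n := fun n => le_msup (fun j => K (N j)) n
  have hNm : ∀ n, N n ≤ m n := fun n => (hK (N n)).trans (hKm n)
  have hle : ∀ n, n ≤ m n := fun n => (hN_le n).trans (hNm n)
  -- lifting
  have F1 : ∀ (n : ℕ) (y : H.obj (op (m n))),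
      ∃ x : ↑(limit H), (limit.π H (op (N n))).hom x = tl H (hNm n) y := by
    intro n y
    have h1 : tl H (hNm n) y ∈ LinearMap.range (tl H (hK (N n))) := by
      refine ⟨tl H (hKm n) y, ?_⟩
      exact tl_comp H (hK (N n)) (hKm n) y
    exact hKrange (N n) h1
  -- the maps `a n`
  have hex : ∀ n : ℕ, ∃ a : H.obj (op (m n)) ⟶ (quotSys I (limit H)).obj (op n),
      ∀ (y : H.obj (op (m n))) (x : ↑(limit H)),
        (limit.π H (op (N n))).hom x = tl H (hNm n) y → a.hom y = (quotπ I (limit H) n).hom x := by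
    intro n
    let R : Submodule A (H.obj (op (N n))) := LinearMap.range (limit.π H (op (N n))).hom
    let p : limit H ⟶ ModuleCat.of A R :=
      ModuleCat.ofHom (LinearMap.rangeRestrict (limit.π H (op (N n))).hom)
    have hp : Function.Surjective p.hom := LinearMap.surjective_rangeRestrict _
    have hkp : LinearMap.ker p.hom ≤ LinearMap.ker (quotπ I (limit H) n).hom := by
      rw [ker_quotπ]
      intro x hx
      apply hNker n
      rw [LinearMap.mem_ker] at hx ⊢
      exact congrArg Subtype.val hx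
    obtain ⟨ψ, hψ⟩ := exists_factor_of_ker_le p (quotπ I (limit H) n) hp hkp
    let φ : H.obj (op (m n)) ⟶ ModuleCat.of A R := ModuleCat.ofHom
      (LinearMap.codRestrict R (tl H (hNm n)) (fun y => by
        obtain ⟨x, hx⟩ := F1 n y
        exact ⟨x, hx⟩))
    refine ⟨φ ≫ ψ, ?_⟩
    intro y x hxy
    have e1 : φ.hom y = p.hom x := Subtype.ext hxy.symm
    change ψ.hom (φ.hom y) = _
    rw [e1, ← hψ]
    rfl
  choose a ha using hex
  -- the maps `b n`
  have hexb : ∀ n : ℕ, ∃ b : (quotSys I (limit H)).obj (op (m n)) ⟶ H.obj (op (m n)),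
      ∀ x : ↑(limit H), b.hom ((quotπ I (limit H) (m n)).hom x) = (limit.π H (op (m n))).hom x := by
    intro n
    have hk : LinearMap.ker (quotπ I (limit H) (m n)).hom ≤
        LinearMap.ker (limit.π H (op (m n))).hom := by
      rw [ker_quotπ, Submodule.smul_le]
      intro r hr x _
      rw [LinearMap.mem_ker, map_smul]
      exact hkilled (m n) r hr _
    obtain ⟨b, hb⟩ := exists_factor_of_ker_le (quotπ I (limit H) (m n)) (limit.π H (op (m n)))
      (quotπ_surjective I (limit H) (m n)) hk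
    exact ⟨b, fun x => congrArg (fun φ => φ.hom x) hb⟩
  choose b hb' using hexb
  -- naturality
  have a_nat : ∀ (n k : ℕ) (h : n ≤ k),
      a k ≫ ARSys.tr (quotSys I (limit H)) h = ARSys.tr H (hm h) ≫ a n := by
    intro n k h
    ext y
    obtain ⟨x, hx⟩ := F1 k y
    change tl (quotSys I (limit H)) h ((a k).hom y) = (a n).hom (tl H (hm h) y)
    rw [ha k y x hx, tl_quotπ]
    symm
    apply ha n
    rw [π_eq_tl H (hNmono h), hx, tl_comp, tl_comp]
  refine ⟨m, hm, hle, { app := fun n => a n.unop, naturality := ?_ }, ?_⟩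
  · intro x y f
    have hf : f = (homOfLE (leOfHom f.unop)).op := Subsingleton.elim _ _
    rw [hf]
    exact (a_nat y.unop x.unop (leOfHom f.unop)).symm
  · intro n
    refine ⟨m n, hle n, b n, ?_, ?_⟩
    · change a (m n) ≫ b n = ARSys.tr H (hm (hle n))
      ext y
      obtain ⟨x, hx⟩ := F1 (m n) y
      change (b n).hom ((a (m n)).hom y) = tl H (hm (hle n)) y
      rw [ha (m n) y x hx, hb' n x, π_eq_tl H (hN_le (m n)), hx, tl_comp]
    · change b n ≫ a n = ARSys.tr (quotSys I (limit H)) (hle n)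
      ext z
      obtain ⟨x, rfl⟩ := quotπ_surjective I (limit H) (m n) z
      change (a n).hom ((b n).hom ((quotπ I (limit H) (m n)).hom x)) =
        tl (quotSys I (limit H)) (hle n) ((quotπ I (limit H) (m n)).hom x)
      rw [hb' n x, tl_quotπ]
      apply ha n
      exact π_eq_tl H (hNm n) x

end Main

section Finite

variable {H : ℕᵒᵖ ⥤ ModuleCat.{u} A} {I : Ideal A}

theorem finite_quot_of_finite_range
    (hb : ∀ k : ℕ, ∃ n : ℕ, LinearMap.ker (limit.π H (op n)).hom ≤
      I ^ k • (⊤ : Submodule A ↑(limit H)))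
    (hc : ∀ n : ℕ, Module.Finite A ↥(LinearMap.range (limit.π H (op n)).hom)) (n : ℕ) :
    Module.Finite A ((quotSys I (limit H)).obj (op n)) := by
  obtain ⟨N0, hN0⟩ := hb (n + 1)
  let R : Submodule A (H.obj (op N0)) := LinearMap.range (limit.π H (op N0)).hom
  let p : limit H ⟶ ModuleCat.of A R :=
    ModuleCat.ofHom (LinearMap.rangeRestrict (limit.π H (op N0)).hom)
  have hp : Function.Surjective p.hom := LinearMap.surjective_rangeRestrict _
  have hkp : LinearMap.ker p.hom ≤ LinearMap.ker (quotπ I (limit H) n).hom := by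
    rw [ker_quotπ]
    intro x hx
    apply hN0
    rw [LinearMap.mem_ker] at hx ⊢
    exact congrArg Subtype.val hx
  obtain ⟨ψ, hψ⟩ := exists_factor_of_ker_le p (quotπ I (limit H) n) hp hkp
  have hψs : Function.Surjective ψ.hom := by
    intro z
    obtain ⟨x, rfl⟩ := quotπ_surjective I (limit H) n z
    exact ⟨p.hom x, congrArg (fun φ => φ.hom x) hψ⟩
  have := hc N0
  exact Module.Finite.of_surjective ψ.hom hψs

end Finite

end Groth.Agent.Lib.Seat76.QuotSys
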