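import Mathlib.AlgebraicGeometry.Modules.Tilde

/-!
# Sections of tilde modules over basic opens, elementwise (seat 76)

Namespace `Groth.Agent.Lib.Seat76.TildeLoc`.

* `toΓ N f : N →ₗ[R] Γ(N~, D(f))`, a localization away from `f`.
* `map_app_toΓ`: naturality.
* `eq_zero_of_compatible`: a compatible family of sections of `(Q_n)~` over `D(f)` whose images in `(H_n)~` vanish is
  zero, provided the kernels of `M → Q_n → H_n` are cofinal with those of `M → Q_k`.
-/

set_option autoImplicit false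

universe u

open CategoryTheory Opposite AlgebraicGeometry

namespace Groth.Agent.Lib.Seat76.TildeLoc

variable {R : CommRingCat.{u}}

/-- the basic open `D(f)` as an open of the scheme `Spec R` -/
def D (f : R) : (Spec R).Opens := PrimeSpectrum.basicOpen f

/-- `N → Γ(N~, D(f))` -/
noncomputable def toΓ (N : ModuleCat.{u} R) (f : R) :
    N →ₗ[R] Γ(tilde N, (D f)) :=
  (tilde.toOpen N (PrimeSpectrum.basicOpen f)).hom

instance (N : ModuleCat.{u} R) (f : R) : IsLocalizedModule.Away f (toΓ N f) :=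
  inferInstanceAs (IsLocalizedModule.Away f
    (tilde.toOpen N (PrimeSpectrum.basicOpen f)).hom)

theorem map_app_toΓ {N N' : ModuleCat.{u} R} (φ : N ⟶ N') (f : R) (z : N) :
    Scheme.Modules.Hom.app (tilde.map φ)
      (D f) (toΓ N f z) =
      toΓ N' f (φ.hom z) := by
  have := tilde.toOpen_map_app φ (PrimeSpectrum.basicOpen f)
  exact congrArg (fun ψ => ψ.hom z) this

theorem app_smul {P P' : (Spec R).Modules} (φ : P ⟶ P')
    (U : (Spec R).Opens) (a : R) (x : Γ(P, U)) :
    Scheme.Modules.Hom.app φ U (a • x) = a • Scheme.Modules.Hom.app φ U x := by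
  rw [Scheme.Modules.smul_Spec_def, Scheme.Modules.smul_Spec_def]
  exact Scheme.Modules.Hom.app_smul φ _ x

theorem eq_zero_of_pow_smul {P : (Spec R).Modules} (f : R) (n : ℕ)
    (x : Γ(P, (D f)))
    (h : f ^ n • x = 0) : x = 0 := by
  have hreg : IsSMulRegular
      Γ(P, (D f)) f :=
    Scheme.Modules.isSMulRegular_of_le_basicOpen (M := P) le_rfl
  have := hreg.pow n
  exact this (h.trans (smul_zero _).symm)

theorem eq_zero_of_compatible (M : ModuleCat.{u} R) (Q H : ℕ → ModuleCat.{u} R)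
    (q : ∀ n, M ⟶ Q n) (hq : ∀ n, Function.Surjective (q n).hom)
    (t : ∀ n, Q (n + 1) ⟶ Q n) (hqt : ∀ n, q (n + 1) ≫ t n = q n)
    (ℓ : ∀ n, Q n ⟶ H n)
    (hK : ∀ k, ∃ n, k ≤ n ∧ ∀ w : M, (ℓ n).hom ((q n).hom w) = 0 → (q k).hom w = 0)
    (f : R) (x : ∀ n, Γ(tilde (Q n), D f))
    (hx : ∀ n, Scheme.Modules.Hom.app (tilde.map (t n)) (D f) (x (n + 1)) = x n)
    (hx0 : ∀ n, Scheme.Modules.Hom.app (tilde.map (ℓ n)) (D f) (x n) = 0) :
    ∀ k, x k = 0 := by
  intro k
  obtain ⟨n, hkn, hKn⟩ := hK k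
  obtain ⟨⟨z, s⟩, hz⟩ := IsLocalizedModule.surj (Submonoid.powers f) (toΓ (Q n) f) (x n)
  obtain ⟨e, he⟩ := s.2
  obtain ⟨w, rfl⟩ := hq n z
  have hz' : f ^ e • x n = toΓ (Q n) f ((q n).hom w) := by
    have : (s : R) • x n = toΓ (Q n) f ((q n).hom w) := hz
    rw [← he] at this
    exact this
  -- descend to all `j ≤ n`
  have hC : ∀ j, j ≤ n → f ^ e • x j = toΓ (Q j) f ((q j).hom w) := by
    intro j hj
    induction hj using Nat.decreasingInduction with
    | self => exact hz'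
    | of_succ j hj ih =>
      rw [← hx j, ← app_smul, ih, map_app_toΓ]
      congr 1
      exact congrArg (fun φ => φ.hom w) (hqt j)
  -- kill
  have h1 : toΓ (H n) f ((ℓ n).hom ((q n).hom w)) = 0 := by
    rw [← map_app_toΓ, ← hz', app_smul, hx0 n, smul_zero]
  obtain ⟨c, hc⟩ := (IsLocalizedModule.eq_zero_iff (Submonoid.powers f) (toΓ (H n) f)).mp h1
  obtain ⟨N, hN⟩ := c.2
  have hN' : f ^ N = (c : R) := hN
  have h2 : (ℓ n).hom ((q n).hom (f ^ N • w)) = 0 := by
    rw [map_smul, map_smul, hN']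
    exact hc
  have h3 : f ^ N • (q k).hom w = 0 := by
    rw [← map_smul]
    exact hKn _ h2
  have h4 : f ^ (N + e) • x k = 0 := by
    rw [pow_add, mul_smul, hC k hkn, ← map_smul, h3, map_zero]
  exact eq_zero_of_pow_smul f (N + e) (x k) h4

end Groth.Agent.Lib.Seat76.TildeLoc
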