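import Groth.Agent.Lib.Seat76AlgzExt
import Groth.Agent.Lib.Seat76TildeLoc
import Groth.Agent.Lib.Seat76QuotSys
import Groth.Agent.Lib.Helper23FinTypeLocal
import Groth.Agent.Lib.Seat49StalkInj
import Groth.Prelude.Def_Formal2

/-!
# `(M/I^(n+1)M)~|_U` is coherent and injects into `(F_n)` (seat 76)

Namespace `Groth.Agent.Lib.Seat76.AlgzInj`.
-/

set_option autoImplicit false

universe u

open CategoryTheory CategoryTheory.Limits Opposite AlgebraicGeometry

namespace Groth.Agent.Lib.Seat76.AlgzInj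

open Groth.Agent.Lib.Seat76.ProML Groth.Agent.Lib.Seat76.AlgzExt Groth.Agent.Lib.Seat76.AdicLim
  Groth.Agent.Lib.Seat76.QuotSys Groth.Agent.Lib.Seat76.TildeLoc

variable (A : Type u) [CommRing A]

/-- module-level: a quotient of `L` whose kernel contains `ker π` is a quotient of the image of `π` -/
theorem exists_sub_quot {L Hn Qn : ModuleCat.{u} A} (π : L ⟶ Hn) (qn : L ⟶ Qn)
    (hq : Function.Surjective qn.hom) (hk : LinearMap.ker π.hom ≤ LinearMap.ker qn.hom) :
    ∃ (Rm : ModuleCat.{u} A) (i : Rm ⟶ Hn) (ψ : Rm ⟶ Qn), Mono i ∧ Epi ψ := by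
  let R : Submodule A Hn := LinearMap.range π.hom
  let p : L ⟶ ModuleCat.of A R := ModuleCat.ofHom (LinearMap.rangeRestrict π.hom)
  have hp : Function.Surjective p.hom := LinearMap.surjective_rangeRestrict _
  have hkp : LinearMap.ker p.hom ≤ LinearMap.ker qn.hom := by
    intro x hx
    apply hk
    rw [LinearMap.mem_ker] at hx ⊢
    exact congrArg Subtype.val hx
  obtain ⟨ψ, hψ⟩ := exists_factor_of_ker_le p qn hp hkp
  have hψs : Function.Surjective ψ.hom := by
    intro z
    obtain ⟨x, rfl⟩ := hq z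
    exact ⟨p.hom x, congrArg (fun φ => φ.hom x) hψ⟩
  refine ⟨ModuleCat.of A R, ModuleCat.ofHom R.subtype, ψ, ?_, (ModuleCat.epi_iff_surjective ψ).2 hψs⟩
  rw [ModuleCat.mono_iff_injective]
  exact Submodule.injective_subtype R

/-- part (i): coherence of `(M/I^(n+1)M)~|_U` -/
theorem isCoh_restrict_tmod_quotPow [IsNoetherianRing A] (I : Ideal A)
    (U : (Spec (CommRingCat.of A)).Opens)
    (G : ℕᵒᵖ ⥤ (U : Scheme.{u}).Modules) (hG : Formal.IsCohFormal I G)
    (hb : ∀ k : ℕ, ∃ n : ℕ, LinearMap.ker (limit.π (Algz.sectMod A U G) (op n)).hom ≤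
      I ^ k • (⊤ : Submodule A ↑(limit (Algz.sectMod A U G)))) (n : ℕ) :
    Coh.IsCoh ((Scheme.Modules.restrictFunctor U.ι).obj
      (Formal2.tmod A (Formal2.quotPow A I ↑(limit (Algz.sectMod A U G)) n))) := by
  let T := tilde.functor (CommRingCat.of A)
  let ρ := Scheme.Modules.restrictFunctor U.ι
  let H := Algz.sectMod A U G
  let Qn : ModuleCat.{u} A := ModuleCat.of A (Formal2.quotPow A I ↑(limit H) n)
  let qn : limit H ⟶ Qn := ModuleCat.ofHom (Formal2.quotPowπ A I ↑(limit H) n)
  obtain ⟨N0, hN0⟩ := hb (n + 1)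
  have hk : LinearMap.ker (limit.π H (op N0)).hom ≤ LinearMap.ker qn.hom := by
    intro x hx
    rw [LinearMap.mem_ker]
    exact (Submodule.Quotient.mk_eq_zero _).mpr (hN0 hx)
  obtain ⟨Rm, i, ψ, hi, hψe⟩ := exists_sub_quot A (limit.π H (op N0)) qn
    (Submodule.mkQ_surjective _) hk
  -- quasi-coherence
  have hqR : (T.obj Rm).IsQuasicoherent :=
    inferInstanceAs ((tilde (R := CommRingCat.of A) Rm).IsQuasicoherent)
  have hqQ : (T.obj Qn).IsQuasicoherent :=
    inferInstanceAs ((tilde (R := CommRingCat.of A) Qn).IsQuasicoherent)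
  have hqρR : (ρ.obj (T.obj Rm)).IsQuasicoherent := inferInstance
  have hqρQ : (ρ.obj (T.obj Qn)).IsQuasicoherent := inferInstance
  have hqG : (G.obj (op N0)).IsQuasicoherent := (hG.1 N0).1
  have hfG : SheafOfModules.IsFiniteType (R := (U : Scheme.{u}).ringCatSheaf) (G.obj (op N0)) :=
    (hG.1 N0).2
  -- the monomorphism into `G_{N0}`
  have hθ : IsIso (thetaHom U (G.obj (op N0))) := isIso_thetaHom U (G.obj (op N0))
  have hTm : Mono (T.map i) :=
    (Groth.Agent.Lib.Seat49.StalkInj.preservesMonomorphisms_tilde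
      (R := CommRingCat.of A)).preserves i
  have hρm : Mono (ρ.map (T.map i)) := inferInstance
  have hmono : Mono (ρ.map (T.map i) ≫ thetaHom U (G.obj (op N0))) :=
    @mono_comp _ _ _ _ _ _ hρm _ (@IsIso.mono_of_iso _ _ _ _ _ hθ)
  have hfR : SheafOfModules.IsFiniteType (R := (U : Scheme.{u}).ringCatSheaf)
      (ρ.obj (T.obj Rm)) :=
    Groth.Agent.Lib.Helper23.FinType.isFiniteType_of_mono
      (ρ.map (T.map i) ≫ thetaHom U (G.obj (op N0)))
  have hT : T.PreservesEpimorphisms :=
    Functor.preservesEpimorphisms_of_adjunction (tilde.adjunction (R := CommRingCat.of A))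
  have hTe : Epi (T.map ψ) := inferInstance
  have hρe : Epi (ρ.map (T.map ψ)) := inferInstance
  exact ⟨hqρQ, @Groth.Agent.Lib.Helper23.FinType.isFiniteType_of_epi _ (ρ.obj (T.obj Rm))
    (ρ.obj (T.obj Qn)) hqρR hqρQ (ρ.map (T.map ψ)) hρe hfR⟩

/-- part (ii): injectivity on compatible families of sections over `D(f)` -/
theorem eq_zero_of_sections [IsNoetherianRing A] (I : Ideal A)
    (U : (Spec (CommRingCat.of A)).Opens)
    (G : ℕᵒᵖ ⥤ (U : Scheme.{u}).Modules) (hG : Formal.IsCohFormal I G)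
    (hb : ∀ k : ℕ, ∃ n : ℕ, LinearMap.ker (limit.π (Algz.sectMod A U G) (op n)).hom ≤
      I ^ k • (⊤ : Submodule A ↑(limit (Algz.sectMod A U G))))
    (ℓ : ∀ n : ℕ, ModuleCat.of A (Formal2.quotPow A I ↑(limit (Algz.sectMod A U G)) n) ⟶
      (Algz.sectMod A U G).obj (op n))
    (hℓ : ∀ n : ℕ, ModuleCat.ofHom (Formal2.quotPowπ A I ↑(limit (Algz.sectMod A U G)) n) ≫ ℓ n =
      limit.π (Algz.sectMod A U G) (op n))
    (f : A)
    (x : ∀ n : ℕ, (Scheme.Modules.presheaf (Formal2.tmod A
      (Formal2.quotPow A I ↑(limit (Algz.sectMod A U G)) n))).obj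
        (op (PrimeSpectrum.basicOpen f : (Spec (CommRingCat.of A)).Opens)))
    (hx : ∀ n : ℕ, Scheme.Modules.Hom.app (Formal2.tmodMap A
      (Formal2.quotPowTrans A I ↑(limit (Algz.sectMod A U G)) n))
        (PrimeSpectrum.basicOpen f : (Spec (CommRingCat.of A)).Opens) (x (n + 1)) = x n)
    (hx0 : ∀ n : ℕ, Scheme.Modules.Hom.app
      (((tilde.adjunction (R := CommRingCat.of A)).homEquiv
        (ModuleCat.of A (Formal2.quotPow A I ↑(limit (Algz.sectMod A U G)) n))
          ((Scheme.Modules.pushforward U.ι).obj (G.obj (op n)))).symm (ℓ n))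
        (PrimeSpectrum.basicOpen f : (Spec (CommRingCat.of A)).Opens) (x n) = 0) :
    ∀ n : ℕ, x n = 0 := by
  let H := Algz.sectMod A U G
  let adjT := tilde.adjunction (R := CommRingCat.of A)
  have hqc : ∀ n, (G.obj (op n)).IsQuasicoherent := fun n => (hG.1 n).1
  have hqJ : ∀ n, ((Scheme.Modules.pushforward U.ι).obj (G.obj (op n))).IsQuasicoherent := fun n =>
    Groth.Agent.Lib.Helper23.QCohLocal.isQuasicoherent_pushforward U.ι (G.obj (op n))
  have hε : ∀ n, IsIso (adjT.counit.app ((Scheme.Modules.pushforward U.ι).obj (G.obj (op n)))) :=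
    fun n => Scheme.Modules.isIso_fromTildeΓ_of_isQuasicoherent
      ((Scheme.Modules.pushforward U.ι).obj (G.obj (op n)))
  refine eq_zero_of_compatible (R := CommRingCat.of A) (limit H)
    (fun n => ModuleCat.of A (Formal2.quotPow A I ↑(limit H) n)) (fun n => H.obj (op n))
    (fun n => ModuleCat.ofHom (Formal2.quotPowπ A I ↑(limit H) n))
    (fun n => Submodule.mkQ_surjective _)
    (fun n => ModuleCat.ofHom (Formal2.quotPowTrans A I ↑(limit H) n)) ?_ ℓ ?_ f x hx ?_
  · intro n
    apply ModuleCat.hom_ext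
    apply LinearMap.ext
    intro w
    change Formal2.quotPowTrans A I ↑(limit H) n ((Formal2.quotPowπ A I ↑(limit H) (n + 1)) w) =
      (Formal2.quotPowπ A I ↑(limit H) n) w
    simp only [Formal2.quotPowTrans, Submodule.mkQ_apply, Submodule.mapQ_apply, LinearMap.id_coe,
      id_eq]
  · intro k
    obtain ⟨N0, hN0⟩ := hb (k + 1)
    refine ⟨max N0 k, le_max_right _ _, ?_⟩
    intro w hw
    have h1 : (limit.π H (op (max N0 k))).hom w = 0 := by
      rw [← hℓ]
      exact hw
    have h2 : w ∈ LinearMap.ker (limit.π H (op N0)).hom :=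
      ker_π_mono H (le_max_left N0 k) h1
    exact (Submodule.Quotient.mk_eq_zero _).mpr (hN0 h2)
  · intro n
    have e1 : (adjT.homEquiv
        (ModuleCat.of A (Formal2.quotPow A I ↑(limit (Algz.sectMod A U G)) n))
          ((Scheme.Modules.pushforward U.ι).obj (G.obj (op n)))).symm (ℓ n) =
        (tilde.functor (CommRingCat.of A)).map (ℓ n) ≫
          adjT.counit.app ((Scheme.Modules.pushforward U.ι).obj (G.obj (op n))) :=
      Adjunction.homEquiv_counit adjT _ _ (ℓ n)
    have h0 : Scheme.Modules.Hom.app ((tilde.functor (CommRingCat.of A)).map (ℓ n) ≫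
          adjT.counit.app ((Scheme.Modules.pushforward U.ι).obj (G.obj (op n))))
        (PrimeSpectrum.basicOpen f : (Spec (CommRingCat.of A)).Opens) (x n) = 0 :=
      (congrArg (fun φ => Scheme.Modules.Hom.app φ
        (PrimeSpectrum.basicOpen f : (Spec (CommRingCat.of A)).Opens) (x n)) e1).symm.trans (hx0 n)
    have := hε n
    have e2 : (tilde.functor (CommRingCat.of A)).map (ℓ n) =
        ((tilde.functor (CommRingCat.of A)).map (ℓ n) ≫
          adjT.counit.app ((Scheme.Modules.pushforward U.ι).obj (G.obj (op n)))) ≫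
          inv (adjT.counit.app ((Scheme.Modules.pushforward U.ι).obj (G.obj (op n)))) :=
      (IsIso.eq_comp_inv
        (adjT.counit.app ((Scheme.Modules.pushforward U.ι).obj (G.obj (op n))))).mpr rfl
    have h3 : Scheme.Modules.Hom.app ((tilde.functor (CommRingCat.of A)).map (ℓ n))
        (PrimeSpectrum.basicOpen f : (Spec (CommRingCat.of A)).Opens) (x n) =
        Scheme.Modules.Hom.app
          (inv (adjT.counit.app ((Scheme.Modules.pushforward U.ι).obj (G.obj (op n)))))
          (PrimeSpectrum.basicOpen f : (Spec (CommRingCat.of A)).Opens)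
          (Scheme.Modules.Hom.app ((tilde.functor (CommRingCat.of A)).map (ℓ n) ≫
            adjT.counit.app ((Scheme.Modules.pushforward U.ι).obj (G.obj (op n))))
            (PrimeSpectrum.basicOpen f : (Spec (CommRingCat.of A)).Opens) (x n)) :=
      congrArg (fun φ => Scheme.Modules.Hom.app φ
        (PrimeSpectrum.basicOpen f : (Spec (CommRingCat.of A)).Opens) (x n)) e2
    refine h3.trans ?_
    rw [h0]
    exact map_zero _

end Groth.Agent.Lib.Seat76.AlgzInj
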