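import Groth.Agent.Lib.Seat76QuotSys
import Groth.Agent.Lib.Seat76AlgzLim
import Groth.Agent.Lib.Helper23FinType2
import Groth.Agent.S9530
import Groth.Agent.Lib.Seat76AlgzExt

/-!
# The coherent formal system `((M / I^(n+1) M)~)` on `Spec A` (seat 76)

Namespace `Groth.Agent.Lib.Seat76.AlgzQuot`.

* `isIso_cokernelDesc_of_factor`: categorical criterion for `cokernel.desc` to be an isomorphism.
* `isCohFormal_quotSys_tilde`: if all `M / I^(n+1) M` are finite modules then `n ↦ (M / I^(n+1) M)~` is an object of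
  Coh(Spec A, I O).
* `main`: S9534.
-/

set_option autoImplicit false

universe u

open CategoryTheory CategoryTheory.Limits Opposite AlgebraicGeometry

namespace Groth.Agent.Lib.Seat76.AlgzQuot

open Groth.Agent.Lib.Seat76.AdicLim Groth.Agent.Lib.Seat76.AlgzLim Groth.Agent.Lib.Seat76.QuotSys

section Cat

variable {C : Type*} [Category C] [HasZeroMorphisms C]

theorem isIso_cokernelDesc_of_factor {P Q R : C} (s : P ⟶ Q) [HasCokernel s] (t : Q ⟶ R) [Epi t]
    (h : s ≫ t = 0) (hfac : ∃ g' : R ⟶ cokernel s, t ≫ g' = cokernel.π s) :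
    IsIso (cokernel.desc s t h) := by
  obtain ⟨g', hg'⟩ := hfac
  refine ⟨g', ?_, ?_⟩
  · rw [← cancel_epi (cokernel.π s), ← Category.assoc, cokernel.π_desc, hg', Category.comp_id]
  · rw [← cancel_epi t, ← Category.assoc, hg', cokernel.π_desc, Category.comp_id]

end Cat

section Tilde

variable (A : Type u) [CommRing A]

/-- transposing under the tilde adjunction commutes with multiplication by `a` -/
theorem homEquiv_comp_smulMod (N : ModuleCat.{u} A) (Tq : (Spec (CommRingCat.of A)).Modules)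
    (g : (tilde.functor (CommRingCat.of A)).obj N ⟶ Tq) (a : A) (x : N) :
    ((tilde.adjunction (R := CommRingCat.of A)).homEquiv N Tq
      (g ≫ @Formal.smulMod A _ (Spec (CommRingCat.of A)) ⟨𝟙 _⟩ Tq a)).hom x =
    a • ((tilde.adjunction (R := CommRingCat.of A)).homEquiv N Tq g).hom x := by
  rw [Adjunction.homEquiv_naturality_right]
  exact Γ_smulMod_apply A Tq a _

theorem homEquiv_zero (N : ModuleCat.{u} A) (Tq : (Spec (CommRingCat.of A)).Modules) (x : N) :
    ((tilde.adjunction (R := CommRingCat.of A)).homEquiv N Tq 0).hom x = 0 := by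
  rw [Adjunction.homEquiv_unit]
  rfl

theorem homEquiv_smul_eq_zero (N : ModuleCat.{u} A) (Tq : (Spec (CommRingCat.of A)).Modules)
    (g : (tilde.functor (CommRingCat.of A)).obj N ⟶ Tq) (a : A)
    (hg : @Formal.smulMod A _ (Spec (CommRingCat.of A)) ⟨𝟙 _⟩ _ a ≫ g = 0) (x : N) :
    ((tilde.adjunction (R := CommRingCat.of A)).homEquiv N Tq g).hom (a • x) = 0 := by
  rw [map_smul, ← homEquiv_comp_smulMod,
    ← @Groth.Agent.S9530.smulMod_comp A _ (Spec (CommRingCat.of A)) ⟨𝟙 _⟩, hg]
  exact homEquiv_zero A N Tq x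

end Tilde

section CohFormal

variable (A : Type u) [CommRing A]

theorem ker_tl_quot_le (I : Ideal A) (M : ModuleCat.{u} A) (n : ℕ) {N : ModuleCat.{u} A}
    (gb : (quotSys I M).obj (op (n + 1)) ⟶ N)
    (hgb : ∀ a ∈ I ^ (n + 1), ∀ z : (quotSys I M).obj (op (n + 1)), gb.hom (a • z) = 0) :
    LinearMap.ker (tl (quotSys I M) (Nat.le_succ n)) ≤ LinearMap.ker gb.hom := by
  intro z hz
  obtain ⟨x, rfl⟩ := quotπ_surjective I M (n + 1) z
  rw [LinearMap.mem_ker, tl_quotπ] at hz
  have hx : x ∈ I ^ (n + 1) • (⊤ : Submodule A M) := by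
    rw [← ker_quotπ]
    exact hz
  rw [LinearMap.mem_ker]
  refine Submodule.smul_induction_on hx ?_ ?_
  · intro a ha x' _
    rw [map_smul]
    exact hgb a ha _
  · intro x₁ x₂ h₁ h₂
    rw [map_add, map_add, h₁, h₂, add_zero]

theorem isCohFormal_quotSys_tilde (I : Ideal A) (M : ModuleCat.{u} A)
    (hfin : ∀ n, Module.Finite A ((quotSys I M).obj (op n))) :
    @Formal.IsCohFormal A _ (Spec (CommRingCat.of A)) ⟨𝟙 _⟩ I
      (quotSys I M ⋙ tilde.functor (CommRingCat.of A)) := by
  let T := tilde.functor (CommRingCat.of A)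
  let adjT := tilde.adjunction (R := CommRingCat.of A)
  have hkilled : ∀ n, ∀ a ∈ I ^ (n + 1),
      @Formal.smulMod A _ (Spec (CommRingCat.of A)) ⟨𝟙 _⟩ (T.obj ((quotSys I M).obj (op n))) a = 0 := by
    intro n a ha
    refine smulMod_tilde_eq_zero A _ a ?_
    intro z
    obtain ⟨x, rfl⟩ := quotπ_surjective I M n z
    rw [← map_smul]
    have : a • x ∈ LinearMap.ker (quotπ I M n).hom := by
      rw [ker_quotπ]
      exact Submodule.smul_mem_smul ha Submodule.mem_top
    exact this
  have hT : T.PreservesEpimorphisms :=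
    Functor.preservesEpimorphisms_of_adjunction (tilde.adjunction (R := CommRingCat.of A))
  refine ⟨fun n => ⟨?_, ?_⟩, hkilled, fun n => ?_⟩
  · exact inferInstanceAs ((tilde (R := CommRingCat.of A) ((quotSys I M).obj (op n))).IsQuasicoherent)
  · exact (Groth.Agent.Lib.Helper23.FinType.isFiniteType_tilde_iff (CommRingCat.of A)
      ((quotSys I M).obj (op n))).2 (hfin n)
  · have h0 : @Formal.smulFamily A _ (Spec (CommRingCat.of A)) ⟨𝟙 _⟩ (I ^ (n + 1))
          (T.obj ((quotSys I M).obj (op (n + 1)))) ≫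
        T.map ((quotSys I M).map (homOfLE (Nat.le_succ n)).op) = 0 := by
      rw [@Groth.Agent.S9530.smulFamily_comp_eq_zero_iff A _ (Spec (CommRingCat.of A)) ⟨𝟙 _⟩]
      intro a ha
      rw [@Groth.Agent.S9530.smulMod_comp A _ (Spec (CommRingCat.of A)) ⟨𝟙 _⟩, hkilled n a ha,
        comp_zero]
    refine ⟨h0, ?_⟩
    have hsurj : Function.Surjective (tl (quotSys I M) (Nat.le_succ n)) := by
      intro z
      obtain ⟨x, rfl⟩ := quotπ_surjective I M n z
      exact ⟨(quotπ I M (n + 1)).hom x, tl_quotπ I M (Nat.le_succ n) x⟩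
    have hE0 : Epi (ARSys.tr (quotSys I M) (Nat.le_succ n)) :=
      (ModuleCat.epi_iff_surjective _).mpr hsurj
    have hE : Epi (T.map ((quotSys I M).map (homOfLE (Nat.le_succ n)).op)) :=
      T.map_epi (ARSys.tr (quotSys I M) (Nat.le_succ n))
    refine isIso_cokernelDesc_of_factor _ _ h0 ?_
    -- factor the cokernel projection
    let g := cokernel.π (@Formal.smulFamily A _ (Spec (CommRingCat.of A)) ⟨𝟙 _⟩ (I ^ (n + 1))
      (T.obj ((quotSys I M).obj (op (n + 1)))))
    have hg : ∀ a ∈ I ^ (n + 1), @Formal.smulMod A _ (Spec (CommRingCat.of A)) ⟨𝟙 _⟩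
        (T.obj ((quotSys I M).obj (op (n + 1)))) a ≫ g = 0 :=
      (@Groth.Agent.S9530.smulFamily_comp_eq_zero_iff A _ (Spec (CommRingCat.of A)) ⟨𝟙 _⟩ _ _ _
        g).1 (cokernel.condition _)
    have hker := ker_tl_quot_le A I M n (adjT.homEquiv _ _ g)
      (fun a ha z => homEquiv_smul_eq_zero A _ _ g a (hg a ha) z)
    obtain ⟨h', hh'⟩ := exists_factor_of_ker_le (ARSys.tr (quotSys I M) (Nat.le_succ n))
      (adjT.homEquiv _ _ g) hsurj hker
    refine ⟨(adjT.homEquiv _ _).symm h', ?_⟩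
    rw [← Adjunction.homEquiv_naturality_left_symm, hh', Equiv.symm_apply_apply]

end CohFormal

section Main

open Groth.Agent.Lib.Seat76.AlgzExt

variable (A : Type u) [CommRing A]

theorem sectMod_killed (I : Ideal A) (U : (Spec (CommRingCat.of A)).Opens)
    (G : ℕᵒᵖ ⥤ (U : Scheme.{u}).Modules) (hG : Formal.IsCohFormal I G) (n : ℕ) (a : A)
    (ha : a ∈ I ^ (n + 1)) (y : (Algz.sectMod A U G).obj (op n)) : a • y = 0 := by
  have e1 := Γ_smulMod_apply A ((Scheme.Modules.pushforward U.ι).obj (G.obj (op n))) a y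
  rw [← pushforward_map_smulMod, hG.2.1 n a ha] at e1
  exact e1.symm.trans rfl

theorem main (I : Ideal A) (U : (Spec (CommRingCat.of A)).Opens)
    (G : ℕᵒᵖ ⥤ (U : Scheme.{u}).Modules) (hG : Formal.IsCohFormal I G)
    (ha : ARSys.IsML (Algz.sectMod A U G))
    (hb : ∀ k : ℕ, ∃ n : ℕ, LinearMap.ker (limit.π (Algz.sectMod A U G) (op n)).hom ≤
      I ^ k • (⊤ : Submodule A ↑(limit (Algz.sectMod A U G))))
    (hc : ∀ n : ℕ, Module.Finite A ↥(LinearMap.range (limit.π (Algz.sectMod A U G) (op n)).hom)) :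
    Algz.CanonicallyExtends A I U G := by
  let T := tilde.functor (CommRingCat.of A)
  let H := Algz.sectMod A U G
  obtain ⟨m, hm, hle, a, hpro⟩ := exists_proIso (H := H) (I := I)
    (fun n a ha y => sectMod_killed A I U G hG n a ha y) ha hb
  refine ⟨quotSys I (limit H) ⋙ T,
    isCohFormal_quotSys_tilde A I (limit H) (finite_quot_of_finite_range hb hc), m, hm, hle,
    { app := fun n => T.map (a.app n), naturality := ?_ }, ?_⟩
  · intro x y f
    have := a.naturality f
    change T.map ((DerCA.reindex H hm).map f) ≫ T.map (a.app y) =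
      T.map (a.app x) ≫ T.map ((quotSys I (limit H)).map f)
    rw [← T.map_comp, ← T.map_comp, this]
  · intro n
    obtain ⟨k, h, b, e1, e2⟩ := hpro n
    refine ⟨k, h, T.map b, ?_, ?_⟩
    · change T.map (a.app (op k)) ≫ T.map b = T.map (ARSys.tr (DerCA.reindex H hm) h)
      rw [← T.map_comp, e1]
    · change T.map b ≫ T.map (a.app (op n)) = T.map (ARSys.tr (quotSys I (limit H)) h)
      rw [← T.map_comp, e2]

end Main

end Groth.Agent.Lib.Seat76.AlgzQuot
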