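import Mathlib

/-!
# Sections of `X ×_A T` over the preimage of an affine open (seat 76)

For `p : X ⟶ Spec A`, a ring map `c : A ⟶ T` and an affine open `W` of `X`, the sections of
`X ×_{Spec A} Spec T` over the preimage of `W` are the pushout of `Γ(X, W)` and `T` over `A`.
-/

set_option autoImplicit false
set_option linter.style.haveILetI false
universe u
open CategoryTheory CategoryTheory.Limits AlgebraicGeometry TopologicalSpace Opposite TensorProduct

namespace Groth.Agent.Lib.Seat76.BCPO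

variable {X : Scheme.{u}} (A : CommRingCat.{u}) (p : X ⟶ Spec A) {T : CommRingCat.{u}} (c : A ⟶ T)

/-- The preimage of `W` in `X ×_A T`. -/
noncomputable abbrev preW (W : X.Opens) : (pullback p (Spec.map c)).Opens :=
  pullback.fst p (Spec.map c) ⁻¹ᵁ W ⊓ pullback.snd p (Spec.map c) ⁻¹ᵁ ⊤

theorem preW_le_fst (W : X.Opens) : preW A p c W ≤ pullback.fst p (Spec.map c) ⁻¹ᵁ W := inf_le_left

theorem preW_le_snd (W : X.Opens) : preW A p c W ≤ pullback.snd p (Spec.map c) ⁻¹ᵁ ⊤ :=
  inf_le_right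

theorem le_top_preimage (W : X.Opens) : W ≤ p ⁻¹ᵁ ⊤ := fun _ _ => trivial

theorem mem_preW {W : X.Opens} {y : ↥(pullback p (Spec.map c))}
    (hy : pullback.fst p (Spec.map c) y ∈ W) : y ∈ preW A p c W :=
  ⟨hy, trivial⟩

theorem isAffineOpen_preW {W : X.Opens} (hW : IsAffineOpen W) : IsAffineOpen (preW A p c W) := by
  have hc : IsPullback (pullback.fst p (Spec.map c)) (pullback.snd p (Spec.map c)) p (Spec.map c) :=
    IsPullback.of_hasPullback p (Spec.map c)
  have hUST : (⊤ : (Spec T).Opens) ≤ Spec.map c ⁻¹ᵁ ⊤ := fun _ _ => trivial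
  have h1 : IsAffine (⊤ : (Spec A).Opens) := isAffineOpen_top _
  have h2 : IsAffine (⊤ : (Spec T).Opens) := isAffineOpen_top _
  have h3 : IsAffine W := hW
  exact .of_isIso
    (Scheme.Hom.isPullback_resLE hc hUST (le_top_preimage A p W) rfl).isoPullback.hom

/-- The structure map `A ⟶ Γ(X, W)`. -/
noncomputable def αW (W : X.Opens) : A ⟶ Γ(X, W) :=
  (Scheme.ΓSpecIso A).inv ≫ p.appLE ⊤ W (le_top_preimage A p W)

/-- The structure map `T ⟶ Γ(X ×_A T, preimage of W)`. -/
noncomputable def βW (W : X.Opens) : T ⟶ Γ(pullback p (Spec.map c), preW A p c W) :=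
  (Scheme.ΓSpecIso T).inv ≫
    (pullback.snd p (Spec.map c)).appLE ⊤ (preW A p c W) (preW_le_snd A p c W)

/-- The restriction map `Γ(X, W) ⟶ Γ(X ×_A T, preimage of W)`. -/
noncomputable def γW (W : X.Opens) : Γ(X, W) ⟶ Γ(pullback p (Spec.map c), preW A p c W) :=
  (pullback.fst p (Spec.map c)).appLE W (preW A p c W) (preW_le_fst A p c W)

theorem isPushout_sections {W : X.Opens} (hW : IsAffineOpen W) :
    IsPushout (αW A p W) c (γW A p c W) (βW A p c W) := by
  have hc : IsPullback (pullback.fst p (Spec.map c)) (pullback.snd p (Spec.map c)) p (Spec.map c) :=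
    IsPullback.of_hasPullback p (Spec.map c)
  have hUST : (⊤ : (Spec T).Opens) ≤ Spec.map c ⁻¹ᵁ ⊤ := fun _ _ => trivial
  have hpo := (isIso_pushoutSection_iff hc hUST (le_top_preimage A p W)
    (rfl : preW A p c W = _)).1
    (isIso_pushoutSection_of_isAffineOpen hc hUST (le_top_preimage A p W) rfl
      (isAffineOpen_top _) (isAffineOpen_top _) hW)
  refine hpo.of_iso (Scheme.ΓSpecIso A) (Iso.refl _)
    (Scheme.ΓSpecIso T) (Iso.refl _) ?_ ?_ ?_ ?_
  · simp [αW]
  · have := Scheme.ΓSpecIso_naturality c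
    refine Eq.trans ?_ this
    congr 1
  · simp [γW]
  · simp [βW]

end Groth.Agent.Lib.Seat76.BCPO
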