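import Groth.Prelude.Def_EtBase
import Groth.Prelude.Def_EtCore
import Mathlib.AlgebraicGeometry.Morphisms.UniversallyOpen

/-!
# Sections of an abelian etale sheaf over a finite Galois covering

`F(X) → F(Y)` is injective with image the `G`-invariants, for a Galois covering `Y → X` with group `G`
in the small etale site.
-/

set_option autoImplicit false
universe u w
open CategoryTheory CategoryTheory.Limits AlgebraicGeometry Opposite

namespace Groth.Agent.Lib.Seat76.EtGalois

variable {X : Scheme.{u}}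

set_option backward.isDefEq.respectTransparency.types false in
/-- The injections of a coproduct cofan in the small etale site are jointly surjective. -/
theorem jointly_surjective_of_isColimit {ι : Type*} {Z : ι → X.Etale} {W : X.Etale}
    (f : ∀ i, Z i ⟶ W) (hc : IsColimit (Cofan.mk W f)) :
    ⋃ i, Set.range (f i).left = Set.univ := by
  let U : W.left.Opens := ⟨⋃ i, Set.range (f i).left,
    isOpen_iUnion fun i => (f i).left.isOpenMap.isOpen_range⟩
  let WU : X.Etale := Scheme.Etale.mk (U.ι ≫ W.hom)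
  let incl : WU ⟶ W := MorphismProperty.Over.homMk U.ι rfl
  have hrange : ∀ i, Set.range (f i).left ⊆ Set.range U.ι := by
    intro i
    rw [Scheme.Opens.range_ι]
    exact Set.subset_iUnion (fun i => Set.range (f i).left) i
  let l : ∀ i, (Z i).left ⟶ (U : Scheme.{u}) := fun i =>
    IsOpenImmersion.lift U.ι (f i).left (hrange i)
  have hl : ∀ i, l i ≫ U.ι = (f i).left := fun i => IsOpenImmersion.lift_fac _ _ _
  let f' : ∀ i, Z i ⟶ WU := fun i =>
    MorphismProperty.Over.homMk (l i) (by
      change l i ≫ U.ι ≫ W.hom = (Z i).hom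
      rw [← Category.assoc, hl]
      exact Over.w (f i).hom)
  have hf' : ∀ i, f' i ≫ incl = f i := by
    intro i
    apply MorphismProperty.Over.Hom.ext
    exact hl i
  let d : W ⟶ WU := hc.desc (Cofan.mk WU f')
  have hd : ∀ i, f i ≫ d = f' i := fun i => hc.fac (Cofan.mk WU f') ⟨i⟩
  have hid : d ≫ incl = 𝟙 W := by
    apply hc.hom_ext
    rintro ⟨i⟩
    change f i ≫ d ≫ incl = f i ≫ 𝟙 W
    rw [← Category.assoc, hd, hf', Category.comp_id]
  apply Set.eq_univ_of_forall
  intro w
  have h1 : (d ≫ incl).left w = w := by rw [hid]; rfl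
  have h2 : (d ≫ incl).left w = U.ι (d.left w) := rfl
  have h3 : U.ι (d.left w) ∈ (U : Set W.left) := (d.left w).2
  rw [← h2, h1] at h3
  exact h3


variable (F : EtCoh.Ab X)

/-- The underlying presheaf of types of an abelian etale sheaf is a sheaf. -/
theorem isSheaf_forget :
    Presieve.IsSheaf X.smallEtaleTopology (F.obj ⋙ forget AddCommGrpCat.{u+1}) :=
  (isSheaf_iff_isSheaf_of_type _ _).1
    ((Presheaf.isSheaf_iff_isSheaf_forget _ _ (forget AddCommGrpCat.{u+1})).1 F.property)

/-- separatedness for a jointly surjective family -/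
theorem sep_of_jointly_surjective {W : X.Etale} {ι : Type*} {Z : ι → X.Etale} (f : ∀ i, Z i ⟶ W)
    (hf : ⋃ i, Set.range (f i).left = Set.univ) (s t : EtCoh.sect F W)
    (h : ∀ i, F.obj.map (f i).op s = F.obj.map (f i).op t) : s = t := by
  have hcov : Sieve.ofArrows _ f ∈ X.smallEtaleTopology W :=
    (Scheme.ofArrows_mem_smallEtaleTopology_iff f).2 hf
  have hsep := ((isSheaf_forget F) _ hcov).isSeparatedFor
  have hsep' : Presieve.IsSeparatedFor (F.obj ⋙ forget AddCommGrpCat.{u+1}) (Presieve.ofArrows Z f) :=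
    (Presieve.isSeparatedFor_iff_generate).2 hsep
  let x : Presieve.FamilyOfElements (F.obj ⋙ forget AddCommGrpCat.{u+1}) (Presieve.ofArrows Z f) :=
    fun V g _ => (F.obj ⋙ forget AddCommGrpCat.{u+1}).map g.op s
  apply hsep' x s t
  · intro V g hg
    rfl
  · intro V g hg
    obtain ⟨i⟩ := hg
    exact (h i).symm


/-- Galois coverings: injectivity and the image of restriction. -/
theorem galois_main (Y : X.Etale) (hY : Function.Surjective Y.hom.base)
    {G : Type u} [Group G] [Finite G] (σ : G →* Aut Y)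
    (hgal : Nonempty (IsColimit (Cofan.mk (Y ⨯ Y) (fun g : G => prod.lift (𝟙 Y) (σ g).hom)))) :
    Function.Injective (F.obj.map ((EtCore.topIsTerminal X).from Y).op) ∧
      Set.range (F.obj.map ((EtCore.topIsTerminal X).from Y).op) =
        {s : EtCoh.sect F Y | ∀ g : G, F.obj.map (σ g).hom.op s = s} := by
  set π := (EtCore.topIsTerminal X).from Y with hπ
  set P := F.obj ⋙ forget AddCommGrpCat.{u+1} with hP
  -- π is a cover
  have hπleft : π.left = Y.hom := by
    have := Over.w π.hom
    exact (Category.comp_id π.left).symm.trans this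
  have hcov : Sieve.generate (Presieve.singleton π) ∈ X.smallEtaleTopology (EtCoh.top X) := by
    have h1 : Sieve.ofArrows (fun _ : PUnit.{1} => Y) (fun _ => π) ∈
        X.smallEtaleTopology (EtCoh.top X) := by
      rw [Scheme.ofArrows_mem_smallEtaleTopology_iff]
      apply Set.eq_univ_of_forall
      intro x
      obtain ⟨y, hy⟩ := hY x
      refine Set.mem_iUnion.2 ⟨PUnit.unit, y, ?_⟩
      rw [hπleft]
      exact hy
    rwa [Sieve.ofArrows, Presieve.ofArrows_pUnit] at h1
  have hsh : Presieve.IsSheafFor P (Presieve.singleton π) :=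
    (Presieve.isSheafFor_iff_generate _).2 ((isSheaf_forget F) _ hcov)
  have hinj : Function.Injective (P.map π.op) :=
    Presieve.isSeparatedFor_singleton.1 hsh.isSeparatedFor
  refine ⟨hinj, ?_⟩
  obtain ⟨hc⟩ := hgal
  have hjs := jointly_surjective_of_isColimit _ hc
  apply Set.Subset.antisymm
  · rintro _ ⟨t, rfl⟩ g
    have : (σ g).hom ≫ π = π := (EtCore.topIsTerminal X).hom_ext _ _
    change (F.obj.map π.op ≫ F.obj.map (σ g).hom.op) t = _
    rw [← F.obj.map_comp, ← op_comp, this]
  · intro s hs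
    -- pr1^* s = pr2^* s
    have hpr : F.obj.map (prod.fst : Y ⨯ Y ⟶ Y).op s = F.obj.map (prod.snd : Y ⨯ Y ⟶ Y).op s := by
      apply sep_of_jointly_surjective F _ hjs
      intro g
      change (F.obj.map (prod.fst : Y ⨯ Y ⟶ Y).op ≫ F.obj.map (prod.lift (𝟙 Y) (σ g).hom).op) s =
        (F.obj.map (prod.snd : Y ⨯ Y ⟶ Y).op ≫ F.obj.map (prod.lift (𝟙 Y) (σ g).hom).op) s
      rw [← F.obj.map_comp, ← F.obj.map_comp, ← op_comp, ← op_comp, prod.lift_fst, prod.lift_snd,
        hs g, op_id, F.obj.map_id]
      rfl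
    obtain ⟨t, ht, -⟩ := Presieve.isSheafFor_singleton.1 hsh s (by
      intro Z p₁ p₂ _
      have e1 : F.obj.map p₁.op s =
          F.obj.map (prod.lift p₁ p₂).op (F.obj.map (prod.fst : Y ⨯ Y ⟶ Y).op s) := by
        have : p₁.op = (prod.fst : Y ⨯ Y ⟶ Y).op ≫ (prod.lift p₁ p₂).op := by
          rw [← op_comp, prod.lift_fst]
        rw [this, F.obj.map_comp]
        rfl
      have e2 : F.obj.map p₂.op s =
          F.obj.map (prod.lift p₁ p₂).op (F.obj.map (prod.snd : Y ⨯ Y ⟶ Y).op s) := by
        have : p₂.op = (prod.snd : Y ⨯ Y ⟶ Y).op ≫ (prod.lift p₁ p₂).op := by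
          rw [← op_comp, prod.lift_snd]
        rw [this, F.obj.map_comp]
        rfl
      change F.obj.map p₁.op s = F.obj.map p₂.op s
      rw [e1, e2, hpr])
    exact ⟨t, ht⟩


end Groth.Agent.Lib.Seat76.EtGalois
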