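import Mathlib
import Groth.Prelude.Def_EtOpen

/-!
# Seat 76: subterminal sheaves of sets on the small etale site are the Zariski opens
-/

set_option autoImplicit false
universe u
open CategoryTheory Limits AlgebraicGeometry Opposite

namespace Groth.Agent.Lib.Seat76.EtSub

variable {X : Scheme.{u}}

set_option backward.defeqAttrib.useBackward true in
set_option backward.isDefEq.respectTransparency false in
/-- a covering sieve of the small etale site is jointly surjective -/
theorem exists_mem_range {W : X.Etale} (S : Sieve W) (hS : S ∈ X.smallEtaleTopology W)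
    (w : W.left) : ∃ (V : X.Etale) (g : V ⟶ W), S g ∧ w ∈ Set.range g.left := by
  obtain ⟨𝒰, _, h, hle⟩ := (Scheme.mem_smallGrothendieckTopology _ _).1 hS
  obtain ⟨i, y, rfl⟩ := 𝒰.exists_eq w
  exact ⟨_, _, hle _ _ ⟨i⟩, ⟨y, rfl⟩⟩

/-- the presheaf of sets represented by an object, lifted one universe -/
noncomputable abbrev hP (V : X.Etale) : X.Etaleᵒᵖ ⥤ Type (u + 1) :=
  yoneda.obj V ⋙ uliftFunctor.{u + 1, u}

set_option backward.defeqAttrib.useBackward true in
set_option backward.isDefEq.respectTransparency false in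
/-- morphisms into an open immersion are unique -/
instance subsingleton_hom (U : X.Opens) (W : X.Etale) : Subsingleton (W ⟶ EtDesc.ofOpen U) := by
  constructor
  intro a b
  apply MorphismProperty.Over.Hom.ext
  rw [← cancel_mono U.ι]
  have ha := MorphismProperty.Over.w a
  have hb := MorphismProperty.Over.w b
  exact ha.trans hb.symm

set_option backward.defeqAttrib.useBackward true in
set_option backward.isDefEq.respectTransparency false in
theorem range_subset_of_hom (U : X.Opens) {W : X.Etale} (k : W ⟶ EtDesc.ofOpen U) :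
    Set.range W.hom ⊆ (U : Set X) := by
  rintro _ ⟨w, rfl⟩
  have h1 : k.left ≫ U.ι = W.hom := MorphismProperty.Over.w k
  rw [← h1]
  exact (k.left w).2

set_option backward.defeqAttrib.useBackward true in
set_option backward.isDefEq.respectTransparency false in
/-- the morphism to an open given by a containment of ranges -/
noncomputable def homOfRange (U : X.Opens) (W : X.Etale) (h : Set.range W.hom ⊆ (U : Set X)) :
    W ⟶ EtDesc.ofOpen U :=
  MorphismProperty.Over.homMk (IsOpenImmersion.lift U.ι W.hom
    (h.trans (Scheme.Opens.range_ι U).symm.subset)) (IsOpenImmersion.lift_fac _ _ _) trivial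

theorem nonempty_hom_iff (U : X.Opens) (W : X.Etale) :
    Nonempty (W ⟶ EtDesc.ofOpen U) ↔ Set.range W.hom ⊆ (U : Set X) :=
  ⟨fun ⟨k⟩ => range_subset_of_hom U k, fun h => ⟨homOfRange U W h⟩⟩

instance subsingleton_hP (U : X.Opens) (W : X.Etaleᵒᵖ) :
    Subsingleton ((hP (EtDesc.ofOpen U)).obj W) := by
  change Subsingleton (ULift (W.unop ⟶ EtDesc.ofOpen U))
  infer_instance

set_option backward.defeqAttrib.useBackward true in
set_option backward.isDefEq.respectTransparency false in
theorem hom_apply_eq {V W : X.Etale} (g : V ⟶ W) (v : V.left) : W.hom (g.left v) = V.hom v := by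
  have h1 : g.left ≫ W.hom = V.hom := MorphismProperty.Over.w g
  rw [← h1]
  rfl

/-- the presheaf represented by a Zariski open is a sheaf for the etale topology -/
theorem isSheaf_hP (U : X.Opens) :
    Presheaf.IsSheaf X.smallEtaleTopology (hP (EtDesc.ofOpen U)) := by
  rw [isSheaf_iff_isSheaf_of_type]
  intro W S hS x hx
  have hne : Nonempty (W ⟶ EtDesc.ofOpen U) := by
    rw [nonempty_hom_iff]
    rintro _ ⟨w, rfl⟩
    obtain ⟨V, g, hg, v, rfl⟩ := exists_mem_range S hS w
    have k : V ⟶ EtDesc.ofOpen U := ULift.down (x g hg)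
    rw [hom_apply_eq]
    exact range_subset_of_hom U k ⟨v, rfl⟩
  obtain ⟨t⟩ := hne
  refine ⟨(ULift.up t : ULift (W ⟶ EtDesc.ofOpen U)), ?_, ?_⟩
  · intro V g hg
    exact Subsingleton.elim _ _
  · intro y _
    exact Subsingleton.elim (α := (hP (EtDesc.ofOpen U)).obj (op W)) _ _

/-- the sheaf represented by a Zariski open -/
noncomputable def hSh (U : X.Opens) : EtDesc.Sh X := ⟨hP (EtDesc.ofOpen U), isSheaf_hP U⟩

/-- the sheaf attached to an open is the representable one -/
noncomputable def repIso (U : X.Opens) : EtDesc.repSh (EtDesc.ofOpen U) ≅ hSh U :=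
  (sheafificationIso (hSh U)).symm

instance subsingleton_hom_hSh (U : X.Opens) (G : EtDesc.Sh X) : Subsingleton (G ⟶ hSh U) := by
  constructor
  intro a b
  apply Sheaf.hom_ext
  apply NatTrans.ext
  funext W
  apply ConcreteCategory.hom_ext
  intro s
  exact Subsingleton.elim (α := (hP (EtDesc.ofOpen U)).obj W) _ _

theorem mono_of_subsingleton_hom (F : EtDesc.Sh X)
    (h : ∀ G : EtDesc.Sh X, Subsingleton (G ⟶ F)) : Mono (terminal.from F) :=
  ⟨fun a b _ => (h _).elim a b⟩

theorem subsingleton_hom_of_mono (F : EtDesc.Sh X) (hF : Mono (terminal.from F))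
    (G : EtDesc.Sh X) : Subsingleton (G ⟶ F) :=
  ⟨fun _ _ => (cancel_mono (terminal.from F)).1 (Subsingleton.elim _ _)⟩

/-- part (a) -/
theorem partA (U : X.Opens) : Mono (terminal.from (EtDesc.repSh (EtDesc.ofOpen U))) := by
  apply mono_of_subsingleton_hom
  intro G
  exact ((repIso U).homToEquiv (Z := G)).subsingleton

/-- functoriality of the attached sheaf in the etale object -/
noncomputable def repMap {V W : X.Etale} (g : V ⟶ W) : EtDesc.repSh V ⟶ EtDesc.repSh W :=
  (presheafToSheaf X.smallEtaleTopology (Type (u + 1))).map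
    (Functor.whiskerRight (yoneda.map g) uliftFunctor.{u + 1, u})

theorem range_ofOpen_hom (U : X.Opens) : Set.range (EtDesc.ofOpen U).hom = (U : Set X) :=
  Scheme.Opens.range_ι U

/-- part (b) -/
theorem partB (U V : X.Opens) :
    U ≤ V ↔ Nonempty (EtDesc.repSh (EtDesc.ofOpen U) ⟶ EtDesc.repSh (EtDesc.ofOpen V)) := by
  constructor
  · intro h
    exact ⟨repMap (homOfRange V (EtDesc.ofOpen U) (by
      rw [range_ofOpen_hom]
      exact h))⟩
  · rintro ⟨f⟩
    let f' : hSh U ⟶ hSh V := (repIso U).inv ≫ f ≫ (repIso V).hom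
    have t : ULift (EtDesc.ofOpen U ⟶ EtDesc.ofOpen V) :=
      f'.hom.app (op (EtDesc.ofOpen U)) (ULift.up (𝟙 (EtDesc.ofOpen U)))
    have h1 := range_subset_of_hom V t.down
    rw [range_ofOpen_hom] at h1
    exact h1

/-- sections over `W` are maps out of the sheaf attached to `W` -/
noncomputable def sectEquiv (W : X.Etale) (F : EtDesc.Sh X) :
    (EtDesc.repSh W ⟶ F) ≃ F.obj.obj (op W) :=
  ((sheafificationAdjunction X.smallEtaleTopology (Type (u + 1))).homEquiv (hP W) F).trans
    uliftYonedaEquiv.{u + 1}

theorem subsingleton_sect (F : EtDesc.Sh X) (hF : Mono (terminal.from F)) (W : X.Etale) :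
    Subsingleton (F.obj.obj (op W)) := by
  have := subsingleton_hom_of_mono F hF (EtDesc.repSh W)
  exact (sectEquiv W F).symm.subsingleton

/-- the open attached to a sheaf: the union of the images of the etale schemes carrying a section -/
def supp (F : EtDesc.Sh X) : X.Opens :=
  ⟨⋃ (W : X.Etale) (_ : Nonempty (F.obj.obj (op W))), Set.range W.hom,
    isOpen_iUnion fun W => isOpen_iUnion fun _ => W.hom.isOpenMap.isOpen_range⟩

theorem range_subset_supp (F : EtDesc.Sh X) (W : X.Etale) (h : Nonempty (F.obj.obj (op W))) :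
    Set.range W.hom ⊆ (supp F : Set X) := by
  intro x hx
  exact Set.mem_iUnion₂.2 ⟨W, h, hx⟩

theorem exists_of_mem_supp (F : EtDesc.Sh X) (x : X) (hx : x ∈ supp F) :
    ∃ (V : X.Etale) (_ : F.obj.obj (op V)) (v : V.left), V.hom v = x := by
  obtain ⟨V, ⟨s⟩, v, rfl⟩ := Set.mem_iUnion₂.1 hx
  exact ⟨V, s, v, rfl⟩

set_option backward.defeqAttrib.useBackward true in
set_option backward.isDefEq.respectTransparency false in
/-- glueing sections of a sheaf with at most one section everywhere -/
theorem nonempty_sect_of_range_subset (F : EtDesc.Sh X)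
    (hsub : ∀ W : X.Etale, Subsingleton (F.obj.obj (op W))) (W : X.Etale)
    (h : Set.range W.hom ⊆ (supp F : Set X)) : Nonempty (F.obj.obj (op W)) := by
  classical
  have hex : ∀ w : W.left, ∃ (V : X.Etale) (_ : F.obj.obj (op V)) (v : V.left),
      V.hom v = W.hom w := fun w => exists_of_mem_supp F _ (h ⟨w, rfl⟩)
  choose V s v hv using hex
  let Z : W.left → X.Etale := fun w => Scheme.Etale.mk (pullback.fst W.hom (V w).hom ≫ W.hom)
  let p : ∀ w, Z w ⟶ W := fun w =>
    MorphismProperty.Over.homMk (pullback.fst W.hom (V w).hom) rfl trivial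
  let q : ∀ w, Z w ⟶ V w := fun w =>
    MorphismProperty.Over.homMk (pullback.snd W.hom (V w).hom) pullback.condition.symm trivial
  have hcov : Sieve.ofArrows Z p ∈ X.smallEtaleTopology W := by
    rw [Scheme.ofArrows_mem_smallEtaleTopology_iff]
    ext w
    simp only [Set.mem_iUnion, Set.mem_univ, iff_true]
    obtain ⟨z, hz1, _⟩ := Scheme.Pullback.exists_preimage_pullback w (v w) (hv w).symm
    exact ⟨w, z, hz1⟩
  have hsheaf := (isSheaf_iff_isSheaf_of_type _ _).1 F.property
  have hne : ∀ (T : X.Etale) (g : T ⟶ W), (Sieve.ofArrows Z p) g →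
      Nonempty (F.obj.obj (op T)) := by
    intro T g hg
    obtain ⟨_, k, _, ⟨w⟩, _⟩ := hg
    exact ⟨F.obj.map (k ≫ q w).op (s w)⟩
  let x : Presieve.FamilyOfElements F.obj (Sieve.ofArrows Z p).arrows :=
    fun T g hg => Classical.choice (hne T g hg)
  have hx : x.Compatible := by
    intro Y₁ Y₂ T g₁ g₂ f₁ f₂ h₁ h₂ _
    exact (hsub T).elim _ _
  obtain ⟨t, _, _⟩ := hsheaf _ hcov x hx
  exact ⟨t⟩

/-- a sheaf with at most one section everywhere is the sheaf of its support -/
noncomputable def isoSupp (F : EtDesc.Sh X)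
    (hsub : ∀ W : X.Etale, Subsingleton (F.obj.obj (op W))) : F ≅ hSh (supp F) where
  hom := ObjectProperty.homMk
    { app := fun W => TypeCat.ofHom (fun s : F.obj.obj W =>
        (ULift.up (homOfRange (supp F) W.unop (range_subset_supp F W.unop ⟨s⟩)) :
          ULift (W.unop ⟶ EtDesc.ofOpen (supp F))))
      naturality := by
        intro W W' g
        apply ConcreteCategory.hom_ext
        intro s
        exact Subsingleton.elim (α := (hP (EtDesc.ofOpen (supp F))).obj W') _ _ }
  inv := ObjectProperty.homMk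
    { app := fun W => TypeCat.ofHom (fun t : ULift (W.unop ⟶ EtDesc.ofOpen (supp F)) =>
        (Classical.choice (nonempty_sect_of_range_subset F hsub W.unop
          (range_subset_of_hom (supp F) t.down)) : F.obj.obj W))
      naturality := by
        intro W W' g
        apply ConcreteCategory.hom_ext
        intro s
        exact (hsub W'.unop).elim _ _ }
  hom_inv_id := by
    apply Sheaf.hom_ext
    apply NatTrans.ext
    funext W
    apply ConcreteCategory.hom_ext
    intro s
    exact (hsub W.unop).elim _ _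
  inv_hom_id := Subsingleton.elim _ _

/-- part (c) -/
theorem partC (F : EtDesc.Sh X) (hF : Mono (terminal.from F)) :
    ∃ U : X.Opens, Nonempty (F ≅ EtDesc.repSh (EtDesc.ofOpen U)) :=
  ⟨supp F, ⟨isoSupp F (subsingleton_sect F hF) ≪≫ (repIso (supp F)).symm⟩⟩

end Groth.Agent.Lib.Seat76.EtSub
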