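import Groth.Prelude.Def_KZero
import Groth.Agent.Lib.Helper17K0a
import Mathlib.Algebra.Category.ModuleCat.Abelian
import Mathlib.Algebra.Homology.ShortComplex.ModuleCat
import Mathlib.RingTheory.Ideal.AssociatedPrime.Finiteness
import Mathlib.RingTheory.Flat.Basic
import Mathlib.RingTheory.Flat.Localization
import Mathlib.LinearAlgebra.FiniteDimensional.Lemmas
import Mathlib.LinearAlgebra.TensorProduct.RightExactness
import Mathlib.RingTheory.TensorProduct.Quotient
import Mathlib.RingTheory.Localization.FractionRing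
import Mathlib.RingTheory.PrincipalIdealDomain
import Mathlib.RingTheory.Ideal.Quotient.Operations
import Mathlib.Algebra.MvPolynomial.CommRing
import Mathlib.RingTheory.Polynomial.Basic
import Mathlib.Algebra.Polynomial.AlgebraMap
import Mathlib.Algebra.Polynomial.FieldDivision
import Mathlib.RingTheory.Ideal.Quotient.Noetherian

/-!
# `K₀` of finitely generated modules over a ring `A` with `x * y = 0` whose two "axes"
`A/(x)`, `A/(y)` are principal ideal domains; application to the node `k[x,y]/(xy)`.

* generation: prime filtrations (Mathlib) + every prime contains `x` or `y` + PID;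
* independence: ranks at the two generic points (localisations that are fields).
-/

set_option autoImplicit false
set_option linter.style.haveILetI false
set_option linter.unusedSectionVars false
universe u
open CategoryTheory KZero TensorProduct

namespace Groth.Agent.Lib.Seat76.K0Node

variable (A : Type u) [CommRing A]

/-- the object property "finitely generated" -/
abbrev PF : ObjectProperty (ModuleCat.{u} A) := fun M => Module.Finite A M

/-- class of a module -/
noncomputable def cls (M : Type u) [AddCommGroup M] [Module A M] : K0sub (PF A) :=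
  clSub (PF A) (ModuleCat.of A M)

variable {A}

theorem cls_exact {N₁ N₂ N₃ : Type u} [AddCommGroup N₁] [Module A N₁] [Module.Finite A N₁]
    [AddCommGroup N₂] [Module A N₂] [Module.Finite A N₂]
    [AddCommGroup N₃] [Module A N₃] [Module.Finite A N₃]
    (f : N₁ →ₗ[A] N₂) (g : N₂ →ₗ[A] N₃) (hf : Function.Injective f) (hg : Function.Surjective g)
    (hfg : Function.Exact f g) : cls A N₂ = cls A N₁ + cls A N₃ := by
  let S : ShortComplex (ModuleCat.{u} A) :=
    ShortComplex.mk (ModuleCat.ofHom f) (ModuleCat.ofHom g) (by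
      ext a
      exact hfg.apply_apply_eq_zero a)
  have hS : S.ShortExact := ModuleCat.shortComplex_shortExact S hfg hf hg
  exact Groth.Agent.Lib.Helper17.K0a.clSub_shortExact (PF A) S hS
    (inferInstanceAs (Module.Finite A N₁)) (inferInstanceAs (Module.Finite A N₂))
    (inferInstanceAs (Module.Finite A N₃))

theorem cls_subsingleton (N : Type u) [AddCommGroup N] [Module A N] [Subsingleton N] :
    cls A N = 0 := by
  have h := cls_exact (A := A) (0 : N →ₗ[A] N) (0 : N →ₗ[A] N)
    (Function.injective_of_subsingleton _) (Function.surjective_to_subsingleton _)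
    (fun a => ⟨fun _ => ⟨a, Subsingleton.elim _ _⟩, fun _ => Subsingleton.elim _ _⟩)
  have := congrArg (fun t => t - cls A N) h
  simpa using this.symm

theorem cls_equiv {N N' : Type u} [AddCommGroup N] [Module A N] [Module.Finite A N]
    [AddCommGroup N'] [Module A N'] (e : N ≃ₗ[A] N') : cls A N = cls A N' := by
  have : Module.Finite A N' := Module.Finite.equiv e
  have h := cls_exact (A := A) (e : N →ₗ[A] N') (0 : N' →ₗ[A] PUnit.{u+1}) e.injective
    (Function.surjective_to_subsingleton _)
    ((e.exact_zero_iff_surjective _).2 e.surjective)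
  rw [cls_subsingleton PUnit.{u+1}, add_zero] at h
  exact h.symm


/-- lift an additive function on finite modules to K0 -/
theorem exists_hom_of_additive (r : ModuleCat.{u} A → ℤ)
    (hr : ∀ S : ShortComplex (ModuleCat.{u} A), S.ShortExact → Module.Finite A S.X₁ →
      Module.Finite A S.X₂ → Module.Finite A S.X₃ → r S.X₂ = r S.X₁ + r S.X₃) :
    ∃ ρ : K0sub (PF A) →+ ℤ, ∀ M : ModuleCat.{u} A, Module.Finite A M →
      ρ (clSub (PF A) M) = r M := by
  let ρ₀ : FreeAbelianGroup (Subtype (PF A)) →+ ℤ :=
    FreeAbelianGroup.lift (fun X : Subtype (PF A) => r X.1)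
  have hle : relSub (PF A) ≤ ρ₀.ker := by
    unfold relSub
    rw [AddSubgroup.closure_le]
    rintro _ ⟨S, h₁, h₂, h₃, hS, rfl⟩
    change ρ₀ _ = 0
    rw [map_sub, map_sub]
    simp only [ρ₀, FreeAbelianGroup.lift_apply_of]
    rw [hr S hS h₁ h₂ h₃]
    ring
  refine ⟨QuotientAddGroup.lift (relSub (PF A)) ρ₀ hle, fun M hM => ?_⟩
  rw [Groth.Agent.Lib.Helper17.K0a.clSub_of_prop (PF A) hM]
  simp [ρ₀]

section Rank

variable (K : Type u) [Field K] [Algebra A K] [Module.Flat A K]

theorem finrank_additive {N₁ N₂ N₃ : Type u} [AddCommGroup N₁] [Module A N₁] [Module.Finite A N₁]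
    [AddCommGroup N₂] [Module A N₂] [Module.Finite A N₂]
    [AddCommGroup N₃] [Module A N₃] [Module.Finite A N₃]
    (f : N₁ →ₗ[A] N₂) (g : N₂ →ₗ[A] N₃) (hf : Function.Injective f) (hg : Function.Surjective g)
    (hfg : Function.Exact f g) :
    Module.finrank K (K ⊗[A] N₂) = Module.finrank K (K ⊗[A] N₁) + Module.finrank K (K ⊗[A] N₃) := by
  let f' : K ⊗[A] N₁ →ₗ[K] K ⊗[A] N₂ := f.baseChange K
  let g' : K ⊗[A] N₂ →ₗ[K] K ⊗[A] N₃ := g.baseChange K
  have hf' : Function.Injective f' := Module.Flat.lTensor_preserves_injective_linearMap f hf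
  have hg' : Function.Surjective g' := LinearMap.lTensor_surjective K hg
  have hfg' : Function.Exact f' g' := lTensor_exact K hfg hg
  have h1 := LinearMap.finrank_range_add_finrank_ker g'
  have h2 : Module.finrank K (LinearMap.range g') = Module.finrank K (K ⊗[A] N₃) := by
    rw [LinearMap.range_eq_top.2 hg', finrank_top]
  have h3 : Module.finrank K (LinearMap.ker g') = Module.finrank K (K ⊗[A] N₁) := by
    rw [(LinearMap.exact_iff.1 hfg'), LinearMap.finrank_range_of_inj hf']
  omega

end Rank


section Rank2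

variable (K : Type u) [Field K] [Algebra A K] [Module.Flat A K]

theorem exists_rank_hom : ∃ ρ : K0sub (PF A) →+ ℤ,
    ∀ (M : Type u) [AddCommGroup M] [Module A M] [Module.Finite A M],
      ρ (cls A M) = (Module.finrank K (K ⊗[A] M) : ℤ) := by
  obtain ⟨ρ, hρ⟩ := exists_hom_of_additive (A := A)
    (fun M => (Module.finrank K (K ⊗[A] M) : ℤ)) (by
      intro S hS h₁ h₂ h₃
      have := finrank_additive K S.f.hom S.g.hom hS.moduleCat_injective_f
        hS.moduleCat_surjective_g
        ((ShortComplex.ShortExact.moduleCat_exact_iff_function_exact S).1 hS.exact)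
      exact_mod_cast this)
  exact ⟨ρ, fun M _ _ hM => hρ (ModuleCat.of A M) hM⟩

theorem finrank_quot_of_le (I : Ideal A) (hI : I ≤ RingHom.ker (algebraMap A K)) :
    Module.finrank K (K ⊗[A] (A ⧸ I)) = 1 := by
  have e := (Algebra.TensorProduct.quotIdealMapEquivTensorQuot K I).toLinearEquiv
  rw [← e.finrank_eq]
  have hmap : I.map (algebraMap A K) = ⊥ := by
    rw [eq_bot_iff, Ideal.map_le_iff_le_comap]
    intro a ha
    exact hI ha
  rw [hmap]
  have e2 : (K ⧸ (⊥ : Ideal K)) ≃ₗ[K] K := Submodule.quotEquivOfEqBot ⊥ rfl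
  rw [e2.finrank_eq, Module.finrank_self]

theorem finrank_quot_of_not_le (I : Ideal A) (a : A) (ha : a ∈ I) (hne : algebraMap A K a ≠ 0) :
    Module.finrank K (K ⊗[A] (A ⧸ I)) = 0 := by
  have e := (Algebra.TensorProduct.quotIdealMapEquivTensorQuot K I).toLinearEquiv
  rw [← e.finrank_eq]
  have hmap : I.map (algebraMap A K) = ⊤ := by
    apply Ideal.eq_top_of_isUnit_mem _ (Ideal.mem_map_of_mem _ ha)
    exact isUnit_iff_ne_zero.2 hne
  rw [hmap]
  haveI : Subsingleton (K ⧸ (⊤ : Ideal K)) := Ideal.Quotient.subsingleton_iff.2 rfl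
  exact Module.finrank_zero_of_subsingleton

end Rank2

section Loc

variable {B : Type u} [CommRing B] [IsDomain B] (π : A →+* B) (hπ : Function.Surjective π)
  (x y : A) (hxy : x * y = 0) (hker : RingHom.ker π = Ideal.span {x}) (hy : π y ≠ 0)

/-- the algebra structure on the fraction field of `B` over `A` through `π`. -/
@[reducible] noncomputable def algFrac : Algebra A (FractionRing B) :=
  ((algebraMap B (FractionRing B)).comp π).toAlgebra

include hπ hxy hker hy in
theorem isLocalization_frac :
    letI := algFrac π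
    IsLocalization (Submonoid.comap π (nonZeroDivisors B)) (FractionRing B) := by
  letI := algFrac π
  have hmap : ∀ a : A, algebraMap A (FractionRing B) a = algebraMap B (FractionRing B) (π a) :=
    fun a => rfl
  refine
    { map_units := ?_
      surj := ?_
      exists_of_eq := ?_ }
  · rintro ⟨s, hs⟩
    rw [hmap]
    exact IsLocalization.map_units (FractionRing B) (⟨π s, hs⟩ : nonZeroDivisors B)
  · intro z
    obtain ⟨⟨b, t⟩, hbt⟩ := IsLocalization.surj (nonZeroDivisors B) z
    obtain ⟨a, rfl⟩ := hπ b
    obtain ⟨s, hs⟩ := hπ t.1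
    refine ⟨(a, ⟨s, ?_⟩), ?_⟩
    · change π s ∈ nonZeroDivisors B
      rw [hs]; exact t.2
    · change z * algebraMap A (FractionRing B) s = algebraMap A (FractionRing B) a
      rw [hmap, hmap, hs]
      exact hbt
  · intro a b hab
    rw [hmap, hmap] at hab
    have h1 : π a = π b := IsFractionRing.injective B (FractionRing B) hab
    have h2 : a - b ∈ RingHom.ker π := by
      rw [RingHom.mem_ker, map_sub, h1, sub_self]
    rw [hker, Ideal.mem_span_singleton] at h2
    obtain ⟨t, ht⟩ := h2
    refine ⟨⟨y, ?_⟩, ?_⟩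
    · change π y ∈ nonZeroDivisors B
      exact mem_nonZeroDivisors_of_ne_zero hy
    · change y * a = y * b
      have : y * (a - b) = 0 := by rw [ht, ← mul_assoc, mul_comm y x, hxy, zero_mul]
      rw [mul_sub, sub_eq_zero] at this
      exact this

include hπ hxy hker hy in
theorem flat_frac : letI := algFrac π; Module.Flat A (FractionRing B) := by
  letI := algFrac π
  haveI := isLocalization_frac π hπ x y hxy hker hy
  exact IsLocalization.flat (FractionRing B) (Submonoid.comap π (nonZeroDivisors B))

end Loc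


section Prime

variable {B : Type u} [CommRing B] [IsDomain B] [IsPrincipalIdealRing B]
  (π : A →+* B) (hπ : Function.Surjective π) (x : A) (hker : RingHom.ker π = Ideal.span {x})

include hπ hker in
theorem cls_quot_prime (p : Ideal A) (hx : x ∈ p) :
    cls A (A ⧸ p) = cls A (A ⧸ Ideal.span {x}) ∨ cls A (A ⧸ p) = 0 := by
  letI : Algebra A B := π.toAlgebra
  have halg : ∀ a : A, algebraMap A B a = π a := fun a => rfl
  haveI : Module.Finite A B := Module.Finite.of_surjective (Algebra.linearMap A B) hπ
  let q : Ideal B := p.map π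
  have hcomap : q.comap π = p := by
    rw [Ideal.comap_map_of_surjective π hπ p]
    apply le_antisymm
    · apply sup_le le_rfl
      change RingHom.ker π ≤ p
      rw [hker, Ideal.span_singleton_le_iff_mem]
      exact hx
    · exact le_sup_left
  -- the A-linear surjection A → B ⧸ q with kernel p
  let φ : A →ₗ[A] (B ⧸ q) := (Ideal.Quotient.mkₐ A q).toLinearMap.comp (Algebra.linearMap A B)
  have hφ : Function.Surjective φ := by
    intro z
    obtain ⟨b, rfl⟩ := Ideal.Quotient.mk_surjective z
    obtain ⟨a, rfl⟩ := hπ b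
    exact ⟨a, rfl⟩
  have hkerφ : LinearMap.ker φ = p := by
    ext a
    rw [LinearMap.mem_ker]
    change Ideal.Quotient.mk q (π a) = 0 ↔ a ∈ p
    rw [Ideal.Quotient.eq_zero_iff_mem, ← Ideal.mem_comap, hcomap]
  have e1 : (A ⧸ p) ≃ₗ[A] (B ⧸ q) :=
    (Submodule.quotEquivOfEq _ _ hkerφ.symm).trans (φ.quotKerEquivOfSurjective hφ)
  rw [cls_equiv e1]
  obtain ⟨f, hf⟩ : ∃ f : B, q = Ideal.span {f} :=
    ⟨_, (Submodule.IsPrincipal.span_singleton_generator q).symm⟩
  by_cases hf0 : f = 0
  · left
    have hq : q = ⊥ := by rw [hf, hf0]; simp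
    have hp : p = Ideal.span {x} := by
      rw [← hcomap, hq, ← hker]
      rfl
    rw [← cls_equiv e1]
    exact cls_equiv (Submodule.quotEquivOfEq _ _ hp)
  · right
    haveI : Module.Finite A (B ⧸ q) := Module.Finite.equiv e1
    have h := cls_exact (A := A) (LinearMap.mulLeft A f) (Ideal.Quotient.mkₐ A q).toLinearMap
      (fun b b' h => mul_left_cancel₀ hf0 h) (Ideal.Quotient.mkₐ_surjective A q)
      (by
        intro b
        change Ideal.Quotient.mk q b = 0 ↔ b ∈ Set.range (fun c => f * c)
        rw [Ideal.Quotient.eq_zero_iff_mem, hf, Ideal.mem_span_singleton']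
        constructor
        · rintro ⟨c, rfl⟩; exact ⟨c, mul_comm _ _⟩
        · rintro ⟨c, rfl⟩; exact ⟨c, mul_comm _ _⟩)
    have := congrArg (fun t => t - cls A B) h
    simpa using this.symm

end Prime


/-- the rank homomorphism at the generic point of `V(x)`. -/
theorem exists_rank_hom_frac {B : Type u} [CommRing B] [IsDomain B] (π : A →+* B)
    (hπ : Function.Surjective π) (x y : A) (hxy : x * y = 0)
    (hker : RingHom.ker π = Ideal.span {x}) (hy : π y ≠ 0) :
    ∃ ρ : K0sub (PF A) →+ ℤ, ρ (cls A (A ⧸ Ideal.span {x})) = 1 ∧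
      ρ (cls A (A ⧸ Ideal.span {y})) = 0 := by
  letI := algFrac π
  haveI := flat_frac π hπ x y hxy hker hy
  obtain ⟨ρ, hρ⟩ := exists_rank_hom (A := A) (FractionRing B)
  have hmap : ∀ a : A, algebraMap A (FractionRing B) a = algebraMap B (FractionRing B) (π a) :=
    fun a => rfl
  refine ⟨ρ, ?_, ?_⟩
  · rw [hρ, finrank_quot_of_le]
    · rfl
    · rw [Ideal.span_singleton_le_iff_mem, RingHom.mem_ker, hmap]
      have : π x = 0 := by
        have : x ∈ RingHom.ker π := by rw [hker]; exact Ideal.mem_span_singleton_self x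
        exact this
      rw [this, map_zero]
  · rw [hρ, finrank_quot_of_not_le (FractionRing B) _ y (Ideal.mem_span_singleton_self y)]
    · rfl
    · rw [hmap]
      intro h
      exact hy (IsFractionRing.injective B (FractionRing B) (h.trans (map_zero _).symm))

theorem main (x y : A) (hxy : x * y = 0) [IsNoetherianRing A]
    {Bx By : Type u} [CommRing Bx] [IsDomain Bx] [IsPrincipalIdealRing Bx]
    [CommRing By] [IsDomain By] [IsPrincipalIdealRing By]
    (πx : A →+* Bx) (hπx : Function.Surjective πx) (hkx : RingHom.ker πx = Ideal.span {x})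
    (hyx : πx y ≠ 0)
    (πy : A →+* By) (hπy : Function.Surjective πy) (hky : RingHom.ker πy = Ideal.span {y})
    (hxy' : πy x ≠ 0) :
    Function.Bijective (fun p : ℤ × ℤ =>
      p.1 • cls A (A ⧸ Ideal.span {x}) + p.2 • cls A (A ⧸ Ideal.span {y})) := by
  obtain ⟨ρx, hρx1, hρx0⟩ := exists_rank_hom_frac πx hπx x y hxy hkx hyx
  obtain ⟨ρy, hρy1, hρy0⟩ := exists_rank_hom_frac πy hπy y x (by rw [mul_comm]; exact hxy) hky hxy'
  constructor
  · rintro ⟨a, b⟩ ⟨a', b'⟩ h
    simp only at h
    have h1 := congrArg ρx h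
    have h2 := congrArg ρy h
    simp only [map_add, map_zsmul, hρx1, hρx0, hρy1, hρy0, smul_eq_mul, mul_one, mul_zero,
      add_zero, zero_add] at h1 h2
    rw [h1, h2]
  · -- surjectivity
    let Φ : ℤ × ℤ →+ K0sub (PF A) :=
      { toFun := fun p => p.1 • cls A (A ⧸ Ideal.span {x}) + p.2 • cls A (A ⧸ Ideal.span {y})
        map_zero' := by simp
        map_add' := by
          intro p q
          simp only [Prod.fst_add, Prod.snd_add, add_smul]
          abel }
    have hfin : ∀ (M : Type u) [AddCommGroup M] [Module A M] [Module.Finite A M],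
        cls A M ∈ Φ.range := by
      intro M _ _ hM
      induction hM using IsNoetherianRing.induction_on_isQuotientEquivQuotientPrime A with
      | subsingleton N =>
        rw [cls_subsingleton N]; exact Φ.range.zero_mem
      | quotient N p e =>
        rw [cls_equiv e]
        have hmem : x * y ∈ p.asIdeal := by rw [hxy]; exact p.asIdeal.zero_mem
        rcases p.2.mem_or_mem hmem with hx | hy
        · rcases cls_quot_prime πx hπx x hkx p.asIdeal hx with h | h
          · rw [h]; exact ⟨(1, 0), by simp [Φ]⟩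
          · rw [h]; exact Φ.range.zero_mem
        · rcases cls_quot_prime πy hπy y hky p.asIdeal hy with h | h
          · rw [h]; exact ⟨(0, 1), by simp [Φ]⟩
          · rw [h]; exact Φ.range.zero_mem
      | exact N₁ N₂ N₃ f g hf hg hfg h₁ h₃ =>
        rw [cls_exact f g hf hg hfg]
        exact Φ.range.add_mem h₁ h₃
    intro z
    suffices h : z ∈ Φ.range by
      obtain ⟨p, hp⟩ := h
      exact ⟨p, hp⟩
    induction z using QuotientAddGroup.induction_on with
    | H w =>
      induction w using FreeAbelianGroup.induction_on with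
      | zero => exact Φ.range.zero_mem
      | of X =>
        have : (QuotientAddGroup.mk (FreeAbelianGroup.of X) : K0sub (PF A)) = cls A X.1 :=
          (Groth.Agent.Lib.Helper17.K0a.clSub_of_prop (PF A) X.2).symm
        rw [this]
        haveI : Module.Finite A X.1 := X.2
        exact hfin X.1
      | neg X h =>
        rw [QuotientAddGroup.mk_neg]
        exact Φ.range.neg_mem h
      | add a b ha hb =>
        rw [QuotientAddGroup.mk_add]
        exact Φ.range.add_mem ha hb


section Concrete

variable (k : Type u) [Field k]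

/-- the coordinate ring of the node -/
abbrev Node : Type u :=
  MvPolynomial (Fin 2) k ⧸ Ideal.span {(MvPolynomial.X 0 * MvPolynomial.X 1 : MvPolynomial (Fin 2) k)}

variable {k}

/-- evaluation killing `X i` and sending the other variable to `T`. -/
noncomputable def ev (i : Fin 2) : MvPolynomial (Fin 2) k →ₐ[k] Polynomial k :=
  MvPolynomial.aeval (fun l => if l = i then 0 else Polynomial.X)

theorem ev_X_self (i : Fin 2) : ev (k := k) i (MvPolynomial.X i) = 0 := by
  simp [ev]

theorem ev_X_ne (i j : Fin 2) (h : j ≠ i) : ev (k := k) i (MvPolynomial.X j) = Polynomial.X := by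
  simp [ev, h]

theorem ev_prod (i : Fin 2) :
    ev (k := k) i (MvPolynomial.X 0 * MvPolynomial.X 1) = 0 := by
  rw [map_mul]
  fin_cases i
  · rw [show (⟨0, by omega⟩ : Fin 2) = 0 from rfl, ev_X_self, zero_mul]
  · rw [show (⟨1, by omega⟩ : Fin 2) = 1 from rfl, ev_X_self, mul_zero]

/-- the induced map on the node ring -/
noncomputable def evQ (i : Fin 2) : Node k →ₐ[k] Polynomial k :=
  Ideal.Quotient.liftₐ _ (ev i) (by
    intro a ha
    rw [Ideal.mem_span_singleton] at ha
    obtain ⟨c, rfl⟩ := ha
    rw [map_mul, ev_prod, zero_mul])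

theorem evQ_mk (i : Fin 2) (r : MvPolynomial (Fin 2) k) :
    evQ i (Ideal.Quotient.mk _ r) = ev i r := rfl

/-- a section -/
noncomputable def sec (j : Fin 2) : Polynomial k →ₐ[k] Node k :=
  Polynomial.aeval (Ideal.Quotient.mk _ (MvPolynomial.X j))

theorem sec_X (j : Fin 2) : sec (k := k) j Polynomial.X = Ideal.Quotient.mk _ (MvPolynomial.X j) := by
  simp [sec]

theorem evQ_sec (i j : Fin 2) (h : j ≠ i) (f : Polynomial k) : evQ i (sec j f) = f := by
  have : (evQ (k := k) i).comp (sec j) = AlgHom.id k _ := by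
    apply Polynomial.algHom_ext
    rw [AlgHom.comp_apply, sec_X, evQ_mk, ev_X_ne i j h]
    rfl
  exact DFunLike.congr_fun this f

theorem evQ_surjective (i j : Fin 2) (h : j ≠ i) : Function.Surjective (evQ (k := k) i) :=
  fun f => ⟨sec j f, evQ_sec i j h f⟩

theorem sub_sec_mem (i j : Fin 2) (h : j ≠ i) (r : MvPolynomial (Fin 2) k) :
    (Ideal.Quotient.mk _ r : Node k) - sec j (ev i r) ∈
      Ideal.span {(Ideal.Quotient.mk _ (MvPolynomial.X i) : Node k)} := by
  induction r using MvPolynomial.induction_on with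
  | C c =>
    have h1 : ev (k := k) i (MvPolynomial.C c) = Polynomial.C c := by
      simp [ev]
    have h2 : sec (k := k) j (Polynomial.C c) = Ideal.Quotient.mk _ (MvPolynomial.C c) := by
      simp [sec]
      rfl
    rw [h1, h2, sub_self]
    exact Ideal.zero_mem _
  | add p q hp hq =>
    rw [map_add, map_add, map_add]
    have : (Ideal.Quotient.mk _ p : Node k) + Ideal.Quotient.mk _ q - (sec j (ev i p) + sec j (ev i q)) =
        (Ideal.Quotient.mk _ p - sec j (ev i p)) + (Ideal.Quotient.mk _ q - sec j (ev i q)) := by ring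
    rw [this]
    exact Ideal.add_mem _ hp hq
  | mul_X p l hp =>
    rw [map_mul, map_mul, map_mul]
    by_cases hl : l = i
    · subst hl
      rw [ev_X_self, map_zero, mul_zero, sub_zero]
      exact Ideal.mul_mem_left _ _ (Ideal.mem_span_singleton_self _)
    · have hlj : l = j := by
        fin_cases l <;> fin_cases i <;> fin_cases j <;> simp_all
      subst hlj
      rw [ev_X_ne i l hl, sec_X, ← sub_mul]
      exact Ideal.mul_mem_right _ _ hp

theorem ker_evQ (i j : Fin 2) (h : j ≠ i) :
    RingHom.ker (evQ (k := k) i).toRingHom =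
      Ideal.span {(Ideal.Quotient.mk _ (MvPolynomial.X i) : Node k)} := by
  apply le_antisymm
  · intro a ha
    obtain ⟨r, rfl⟩ := Ideal.Quotient.mk_surjective a
    have h0 : ev i r = 0 := ha
    have := sub_sec_mem i j h r
    rwa [h0, map_zero, sub_zero] at this
  · rw [Ideal.span_singleton_le_iff_mem, RingHom.mem_ker]
    change evQ i (Ideal.Quotient.mk _ (MvPolynomial.X i)) = 0
    rw [evQ_mk, ev_X_self]

theorem evQ_X_ne (i j : Fin 2) (h : j ≠ i) :
    (evQ (k := k) i).toRingHom (Ideal.Quotient.mk _ (MvPolynomial.X j)) ≠ 0 := by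
  change evQ i (Ideal.Quotient.mk _ (MvPolynomial.X j)) ≠ 0
  rw [evQ_mk, ev_X_ne i j h]
  exact Polynomial.X_ne_zero

/-- `K₀` of the node: the classes of the two axes form a basis. -/
theorem node_bijective :
    Function.Bijective (fun p : ℤ × ℤ =>
      p.1 • cls (Node k) (Node k ⧸ Ideal.span {(Ideal.Quotient.mk _ (MvPolynomial.X 0) : Node k)}) +
      p.2 • cls (Node k) (Node k ⧸ Ideal.span {(Ideal.Quotient.mk _ (MvPolynomial.X 1) : Node k)})) := by
  have hxy : (Ideal.Quotient.mk _ (MvPolynomial.X 0) : Node k) * Ideal.Quotient.mk _ (MvPolynomial.X 1) = 0 := by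
    rw [← map_mul, Ideal.Quotient.eq_zero_iff_mem]
    exact Ideal.mem_span_singleton_self _
  exact main (A := Node k) _ _ hxy
    (evQ (k := k) 0).toRingHom (evQ_surjective 0 1 (by decide)) (ker_evQ 0 1 (by decide))
    (evQ_X_ne 0 1 (by decide))
    (evQ (k := k) 1).toRingHom (evQ_surjective 1 0 (by decide)) (ker_evQ 1 0 (by decide))
    (evQ_X_ne 1 0 (by decide))

end Concrete


end Groth.Agent.Lib.Seat76.K0Node
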