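import Mathlib
import Groth.Prelude.Def_ProCons
import Groth.Prelude.Def_FDesc
import Groth.Agent.S3403
import Groth.Agent.S3398
import Groth.Agent.S15542
import Groth.Agent.S2495
import Groth.Agent.S2493

/-!
# Seat 76: locally closed pro-constructible subsets descend along quasi-flat surjective
quasi-compact morphisms
-/

set_option autoImplicit false
universe u
open CategoryTheory Limits AlgebraicGeometry TopologicalSpace

namespace Groth.Agent.Lib.Seat76.LCProCons

/-- the complement of a pro-constructible set is ind-constructible -/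
theorem isIndConstructible_compl {T : Type*} [TopologicalSpace T] {E : Set T}
    (hE : ProCons.IsProConstructible E) : ProCons.IsIndConstructible Eᶜ := by
  intro x
  obtain ⟨U, hU, hxU, S, hS, hES⟩ := hE x
  refine ⟨U, hU, hxU, compl '' S, ?_, ?_⟩
  · rintro _ ⟨A, hA, rfl⟩
    intro t
    obtain ⟨V, hV, hVo, hVc⟩ := hS A hA t
    exact ⟨V, hV, hVo, by simpa using hVc.compl⟩
  · rw [Set.preimage_compl, hES]
    ext t
    simp only [Set.mem_compl_iff, Set.mem_sInter, not_forall, Set.sUnion_image, Set.mem_iUnion,
      exists_prop]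

/-- a point of the closure of a pro-constructible subset of a scheme is a specialization of a
point of that subset -/
theorem exists_specializes_of_mem_closure {Y : Scheme.{u}} {Z : Set Y}
    (hZ : ProCons.IsProConstructible Z) {y : Y} (hy : y ∈ closure Z) :
    ∃ z ∈ Z, z ⤳ y := by
  by_contra hcon
  push Not at hcon
  have h1 : y ∈ interior Zᶜ := by
    rw [Groth.Agent.S3403.result Y Zᶜ (isIndConstructible_compl hZ) y]
    intro y' hy' hy'Z
    exact hcon y' hy'Z hy'
  rw [interior_compl] at h1
  exact h1 hy

/-- the preimage of the closure along a generalizing map, for pro-constructible sets -/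
theorem preimage_closure_eq {X Y : Scheme.{u}} (f : X ⟶ Y) (hf : GeneralizingMap f.base)
    {Z : Set Y} (hZ : ProCons.IsProConstructible Z) :
    f.base ⁻¹' closure Z = closure (f.base ⁻¹' Z) := by
  refine Set.Subset.antisymm ?_ (f.continuous.closure_preimage_subset Z)
  intro x hx
  obtain ⟨z, hzZ, hz⟩ := exists_specializes_of_mem_closure hZ hx
  obtain ⟨x', hx', rfl⟩ := hf hz
  have h1 : x ∈ closure {x'} := specializes_iff_mem_closure.mp hx'
  exact closure_mono (Set.singleton_subset_iff.mpr (show x' ∈ f.base ⁻¹' Z from hzZ)) h1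

theorem main {X Y : Scheme.{u}} (f : X ⟶ Y)
    (hf : FDesc.IsQuasiFlat f) [Surjective f] [QuasiCompact f] (Z : Set ↥Y) :
    (IsLocallyClosed Z ∧ ProCons.IsProConstructible Z) ↔
      (IsLocallyClosed (⇑f ⁻¹' Z) ∧ ProCons.IsProConstructible (⇑f ⁻¹' Z)) := by
  constructor
  · rintro ⟨h1, h2⟩
    exact ⟨h1.preimage f.continuous, Groth.Agent.S15542.result f Z h2⟩
  · rintro ⟨h1, h2⟩
    have hZ : ProCons.IsProConstructible Z := by
      have := Groth.Agent.S3398.result f _ h2
      rwa [Set.image_preimage_eq Z f.surjective] at this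
    refine ⟨?_, hZ⟩
    have hgen : GeneralizingMap f.base := Groth.Agent.S2493.result f hf
    have hq : Topology.IsQuotientMap f.base := Groth.Agent.S2495.result f hf
    have hcl := preimage_closure_eq f hgen hZ
    rw [isLocallyClosed_iff_isOpen_coborder] at h1 ⊢
    rw [← hq.isOpen_preimage]
    have : f.base ⁻¹' coborder Z = coborder (f.base ⁻¹' Z) := by
      rw [coborder, coborder, Set.preimage_compl, Set.preimage_sdiff, hcl]
    rw [this]
    exact h1

end Groth.Agent.Lib.Seat76.LCProCons
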