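import Mathlib

/-!
# Mayer–Vietoris for quotients in an abelian category

Given subobjects `A, B ⊆ S ⊆ M` and `I` with a short exact "Mayer–Vietoris" sequence
`I ⟶ A ⊞ B ⟶ S`, the quotients of `M` form a short exact sequence
`M/I ⟶ M/A ⊞ M/B ⟶ M/S`.
-/

namespace Groth.Agent.Lib.Seat76.QuotMV

open CategoryTheory CategoryTheory.Limits CategoryTheory.Category

universe v u

variable {𝒜 : Type u} [Category.{v} 𝒜] [Abelian 𝒜]

variable {M I A B S QI QA QB QS : 𝒜}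
  (c : I ⟶ M) (a : A ⟶ M) (b : B ⟶ M) (s : S ⟶ M)
  (i₁ : I ⟶ A) (i₂ : I ⟶ B) (j₁ : A ⟶ S) (j₂ : B ⟶ S)
  (pI : M ⟶ QI) (pA : M ⟶ QA) (pB : M ⟶ QB) (pS : M ⟶ QS)
  (α : QI ⟶ QA) (α' : QI ⟶ QB) (β : QA ⟶ QS) (β' : QB ⟶ QS)

theorem quot_zero [Epi pI] (hα : pI ≫ α = pA) (hα' : pI ≫ α' = pB) (hβ : pA ≫ β = pS)
    (hβ' : pB ≫ β' = pS) :
    biprod.lift α (-α') ≫ biprod.desc β β' = 0 := by
  rw [biprod.lift_desc, Preadditive.neg_comp, ← sub_eq_add_neg, sub_eq_zero,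
    ← cancel_epi pI, ← assoc, ← assoc, hα, hα', hβ, hβ']

include c a b s i₁ i₂ j₁ j₂ pI pA pB pS in
theorem quot_shortExact [Mono s] [Epi pI] [Epi pA] [Epi pB] [Epi pS]
    (hc₁ : i₁ ≫ a = c) (ha : j₁ ≫ s = a) (hb : j₂ ≫ s = b)
    (wMV : biprod.lift i₁ (-i₂) ≫ biprod.desc j₁ j₂ = 0)
    (hMV : (ShortComplex.mk _ _ wMV).Exact) [Epi (biprod.desc j₁ j₂)]
    (wI : c ≫ pI = 0) (wA : a ≫ pA = 0) (hA : (ShortComplex.mk _ _ wA).Exact)
    (wB : b ≫ pB = 0) (hB : (ShortComplex.mk _ _ wB).Exact)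
    (wS : s ≫ pS = 0) (hS : (ShortComplex.mk _ _ wS).Exact)
    (hα : pI ≫ α = pA) (hα' : pI ≫ α' = pB) (hβ : pA ≫ β = pS) (hβ' : pB ≫ β' = pS) :
    (ShortComplex.mk (biprod.lift α (-α')) (biprod.desc β β')
      (quot_zero pI pA pB pS α α' β β' hα hα' hβ hβ')).ShortExact := by
  have epiβ : Epi β := epi_of_epi_fac hβ
  have epig : Epi (biprod.desc β β') := epi_of_epi_fac (biprod.inl_desc β β')
  have monof : Mono (biprod.lift α (-α')) := by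
    refine Preadditive.mono_of_cancel_zero _ (fun {T} z hz => ?_)
    have hz1 : z ≫ α = 0 := by simpa using hz =≫ biprod.fst
    have hz2 : z ≫ α' = 0 := by simpa using hz =≫ biprod.snd
    obtain ⟨T₁, π₁, _, m, hm⟩ := surjective_up_to_refinements_of_epi pI z
    have hmA : m ≫ pA = 0 := by rw [← hα, ← assoc, ← hm, assoc, hz1, comp_zero]
    have hmB : m ≫ pB = 0 := by rw [← hα', ← assoc, ← hm, assoc, hz2, comp_zero]
    obtain ⟨T₂, π₂, _, p, hp⟩ := hA.exact_up_to_refinements m hmA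
    obtain ⟨T₃, π₃, _, q, hq⟩ := hB.exact_up_to_refinements (π₂ ≫ m) (by rw [assoc, hmB, comp_zero])
    dsimp at hp hq
    have h0 : biprod.lift (π₃ ≫ p) (-q) ≫ biprod.desc j₁ j₂ = 0 := by
      rw [← cancel_mono s, zero_comp, biprod.lift_desc]
      simp only [Preadditive.add_comp, Preadditive.neg_comp, assoc, ha, hb]
      rw [← hp, ← hq, add_neg_cancel]
    obtain ⟨T₄, π₄, _, w, hw⟩ := hMV.exact_up_to_refinements _ h0
    dsimp at hw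
    have hw1 : π₄ ≫ π₃ ≫ p = w ≫ i₁ := by simpa using hw =≫ biprod.fst
    have : (π₄ ≫ π₃ ≫ π₂ ≫ π₁) ≫ z = 0 := by
      calc (π₄ ≫ π₃ ≫ π₂ ≫ π₁) ≫ z = π₄ ≫ π₃ ≫ π₂ ≫ (π₁ ≫ z) := by simp only [assoc]
        _ = π₄ ≫ π₃ ≫ (π₂ ≫ m) ≫ pI := by rw [hm]; simp only [assoc]
        _ = (π₄ ≫ π₃ ≫ p) ≫ a ≫ pI := by rw [hp]; simp only [assoc]
        _ = w ≫ (i₁ ≫ a) ≫ pI := by rw [hw1]; simp only [assoc]
        _ = 0 := by rw [hc₁, wI, comp_zero]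
    have e : Epi (π₄ ≫ π₃ ≫ π₂ ≫ π₁) := inferInstance
    rwa [← cancel_epi (π₄ ≫ π₃ ≫ π₂ ≫ π₁), comp_zero]
  refine ShortComplex.ShortExact.mk ?_
  rw [ShortComplex.exact_iff_exact_up_to_refinements]
  intro T x₂ hx₂
  dsimp at x₂ hx₂ ⊢
  obtain ⟨T₁, π₁, _, x, hx⟩ := surjective_up_to_refinements_of_epi pA (x₂ ≫ biprod.fst)
  obtain ⟨T₂, π₂, _, y, hy⟩ := surjective_up_to_refinements_of_epi pB (π₁ ≫ x₂ ≫ biprod.snd)
  have hsum : (π₂ ≫ x + y) ≫ pS = 0 := by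
    have h1 : x₂ ≫ biprod.fst ≫ β + x₂ ≫ biprod.snd ≫ β' = 0 := by
      rw [← Preadditive.comp_add, ← biprod.desc_eq]
      exact hx₂
    have e1 : x ≫ pS = π₁ ≫ x₂ ≫ biprod.fst ≫ β := by
      rw [← hβ, ← assoc x, ← hx]; simp only [assoc]
    have e2 : y ≫ pS = π₂ ≫ π₁ ≫ x₂ ≫ biprod.snd ≫ β' := by
      rw [← hβ', ← assoc y, ← hy]; simp only [assoc]
    rw [Preadditive.add_comp, assoc, e1, e2, ← Preadditive.comp_add, ← Preadditive.comp_add, h1,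
      comp_zero, comp_zero]
  obtain ⟨T₃, π₃, _, t, ht⟩ := hS.exact_up_to_refinements _ hsum
  dsimp at ht
  obtain ⟨T₄, π₄, _, pq, hpq⟩ := surjective_up_to_refinements_of_epi (biprod.desc j₁ j₂) t
  let p := pq ≫ biprod.fst
  let q := pq ≫ biprod.snd
  have hpq' : π₄ ≫ t = p ≫ j₁ + q ≫ j₂ := by
    rw [hpq, biprod.desc_eq, Preadditive.comp_add]
    simp only [p, q, assoc]
  have hkey : π₄ ≫ π₃ ≫ π₂ ≫ x + π₄ ≫ π₃ ≫ y = p ≫ a + q ≫ b := by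
    rw [← ha, ← hb, ← assoc p, ← assoc q, ← Preadditive.add_comp, ← hpq', assoc, ← ht]
    simp
  let z := π₄ ≫ π₃ ≫ π₂ ≫ x - p ≫ a
  have hz' : z = -(π₄ ≫ π₃ ≫ y - q ≫ b) := by
    simp only [z]
    rw [neg_sub, sub_eq_sub_iff_add_eq_add]
    rw [hkey, add_comm]
  refine ⟨T₄, π₄ ≫ π₃ ≫ π₂ ≫ π₁, inferInstance, z ≫ pI, ?_⟩
  apply biprod.hom_ext
  · simp only [assoc, biprod.lift_fst]
    rw [hα]
    simp only [z, Preadditive.sub_comp, assoc, wA, comp_zero, sub_zero]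
    rw [hx]
  · simp only [assoc, biprod.lift_snd, Preadditive.comp_neg]
    rw [hα', hz']
    simp only [Preadditive.neg_comp, Preadditive.sub_comp, assoc, wB, comp_zero, sub_zero, neg_neg]
    rw [hy]

end Groth.Agent.Lib.Seat76.QuotMV
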