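import Groth.Prelude.Def_LocCohZ
import Groth.Agent.Lib.Seat76QuotMV
import Mathlib

/-!
# Mayer–Vietoris for cohomology with supports (`LocCohZ.HZc`)
-/

namespace Groth.Agent.Lib.Seat76.LocCohMV

open CategoryTheory CategoryTheory.Limits Opposite TopologicalSpace LocCohZ

universe u

variable {X : TopCat.{u}}

/-- The map of free sheaves `ℤ_V ⟶ ℤ_W` for `V ≤ W`. -/
noncomputable abbrev fm {V W : Opens X} (h : V ≤ W) :
    CohCx.freeSheaf (Opens.grothendieckTopology X) V ⟶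
      CohCx.freeSheaf (Opens.grothendieckTopology X) W :=
  CohCx.freeSheafMap (Opens.grothendieckTopology X) (homOfLE h)

lemma fm_comp {V W T : Opens X} (h : V ≤ W) (h' : W ≤ T) : fm h ≫ fm h' = fm (h.trans h') := by
  dsimp only [fm]
  rw [← CohFree.freeSheafMap_comp]
  rfl

lemma fm_refl (V : Opens X) : fm (le_refl V) = 𝟙 _ := by
  dsimp only [fm]
  exact CohFree.freeSheafMap_id _ V

lemma π_zqMap {W V W' V' : Opens X} (h : W ≤ V) (h' : W' ≤ V') (hW : W' ≤ W) (hV : V' ≤ V) :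
    cokernel.π (fm h') ≫ zqMap h h' hW hV = fm hV ≫ cokernel.π (fm h) := by
  simp [zqMap, fm]

lemma π_zqMap_top {W W' : Opens X} (hW : W' ≤ W) :
    cokernel.π (fm (le_top : W' ≤ ⊤)) ≫ zqMap (le_top : W ≤ ⊤) (le_top : W' ≤ ⊤) hW le_rfl =
      cokernel.π (fm (le_top : W ≤ ⊤)) := by
  rw [π_zqMap, fm_refl, Category.id_comp]

variable (U U' : Opens X)

/-- The Mayer–Vietoris short complex of the sheaves `ℤ_X/ℤ_W`. -/
noncomputable abbrev mvSeq : ShortComplex (CohTop.Ab X) :=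
  ShortComplex.mk
    (biprod.lift (zqMap (le_top : U ≤ ⊤) (le_top : U ⊓ U' ≤ ⊤) inf_le_left le_rfl)
      (-(zqMap (le_top : U' ≤ ⊤) (le_top : U ⊓ U' ≤ ⊤) inf_le_right le_rfl)))
    (biprod.desc (zqMap (le_top : U ⊔ U' ≤ ⊤) (le_top : U ≤ ⊤) le_sup_left le_rfl)
      (zqMap (le_top : U ⊔ U' ≤ ⊤) (le_top : U' ≤ ⊤) le_sup_right le_rfl))
    (QuotMV.quot_zero (cokernel.π (fm (le_top : U ⊓ U' ≤ ⊤))) (cokernel.π (fm (le_top : U ≤ ⊤)))
      (cokernel.π (fm (le_top : U' ≤ ⊤))) (cokernel.π (fm (le_top : U ⊔ U' ≤ ⊤))) _ _ _ _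
      (π_zqMap_top _) (π_zqMap_top _) (π_zqMap_top _) (π_zqMap_top _))

theorem mvSeq_shortExact : (mvSeq U U').ShortExact := by
  have hMVse := (Opens.mayerVietorisSquare U U').shortComplex_shortExact
  have wMV : biprod.lift (fm (inf_le_left : U ⊓ U' ≤ U)) (-(fm (inf_le_right : U ⊓ U' ≤ U'))) ≫
      biprod.desc (fm (le_sup_left : U ≤ U ⊔ U')) (fm (le_sup_right : U' ≤ U ⊔ U')) = 0 :=
    (Opens.mayerVietorisSquare U U').shortComplex.zero
  have hMV : (ShortComplex.mk _ _ wMV).Exact := hMVse.exact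
  have : Epi (biprod.desc (fm (le_sup_left : U ≤ U ⊔ U')) (fm (le_sup_right : U' ≤ U ⊔ U'))) :=
    hMVse.epi_g
  have : Mono (fm (le_top : U ⊔ U' ≤ ⊤)) := by dsimp only [fm]; infer_instance
  exact QuotMV.quot_shortExact (fm (le_top : U ⊓ U' ≤ ⊤)) (fm (le_top : U ≤ ⊤))
    (fm (le_top : U' ≤ ⊤)) (fm (le_top : U ⊔ U' ≤ ⊤))
    (fm inf_le_left) (fm inf_le_right) (fm le_sup_left) (fm le_sup_right)
    (cokernel.π _) (cokernel.π _) (cokernel.π _) (cokernel.π _) _ _ _ _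
    (fm_comp _ _) (fm_comp _ _) (fm_comp _ _) wMV hMV
    (cokernel.condition _) (cokernel.condition _)
    (ShortComplex.exact_of_g_is_cokernel _ (cokernelIsCokernel _))
    (cokernel.condition _) (ShortComplex.exact_of_g_is_cokernel _ (cokernelIsCokernel _))
    (cokernel.condition _) (ShortComplex.exact_of_g_is_cokernel _ (cokernelIsCokernel _))
    (π_zqMap_top _) (π_zqMap_top _) (π_zqMap_top _) (π_zqMap_top _)

open Abelian

variable (F : CohTop.Ab X)

/-- restriction maps as compositions. -/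
lemma resZ_apply (i : ℕ) {W V W' V' : Opens X} (h : W ≤ V) (h' : W' ≤ V') (hW : W' ≤ W)
    (hV : V' ≤ V) (x : HZ F i h) :
    resZ F i h h' hW hV x = (Ext.mk₀ (zqMap h h' hW hV)).comp x (zero_add i) := rfl

/-- `(mk₀ g).comp x` in terms of the two restrictions. -/
lemma mk₀_g_comp (i : ℕ) (x : HZc F i (U ⊔ U')) :
    Ext.biprodAddEquiv ((Ext.mk₀ (mvSeq U U').g).comp x (zero_add i)) =
      (resZ F i (le_top : U ⊔ U' ≤ ⊤) (le_top : U ≤ ⊤) le_sup_left le_rfl x,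
       resZ F i (le_top : U ⊔ U' ≤ ⊤) (le_top : U' ≤ ⊤) le_sup_right le_rfl x) := by
  apply Prod.ext
  · simp only [Ext.biprodAddEquiv_apply_fst, resZ_apply, Ext.mk₀_comp_mk₀_assoc, mvSeq,
      biprod.inl_desc]
  · simp only [Ext.biprodAddEquiv_apply_snd, resZ_apply, Ext.mk₀_comp_mk₀_assoc, mvSeq,
      biprod.inr_desc]

/-- `(mk₀ f).comp` of a pair in terms of the two restrictions. -/
lemma mk₀_f_comp (i : ℕ) (y : HZc F i U × HZc F i U') :
    (Ext.mk₀ (mvSeq U U').f).comp (Ext.biprodAddEquiv.symm y) (zero_add i) =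
      resZ F i (le_top : U ≤ ⊤) (le_top : U ⊓ U' ≤ ⊤) inf_le_left le_rfl y.1 -
        resZ F i (le_top : U' ≤ ⊤) (le_top : U ⊓ U' ≤ ⊤) inf_le_right le_rfl y.2 := by
  simp only [Ext.biprodAddEquiv_symm_apply, Ext.comp_add, resZ_apply, Ext.mk₀_comp_mk₀_assoc,
    mvSeq, biprod.lift_fst, biprod.lift_snd, Ext.mk₀_neg, Ext.neg_comp, sub_eq_add_neg]

theorem mayer_vietoris (F : CohTop.Ab X) (U U' : Opens X) :
    Function.Injective (fun x : LocCohZ.HZc F 0 (U ⊔ U') =>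
      (LocCohZ.resZ F 0 (le_top : U ⊔ U' ≤ ⊤) (le_top : U ≤ ⊤) le_sup_left le_rfl x,
       LocCohZ.resZ F 0 (le_top : U ⊔ U' ≤ ⊤) (le_top : U' ≤ ⊤) le_sup_right le_rfl x)) ∧
    ∃ δ : ∀ i : ℕ, LocCohZ.HZc F i (U ⊓ U') →+ LocCohZ.HZc F (i + 1) (U ⊔ U'),
      ∀ i : ℕ,
        (∀ y : LocCohZ.HZc F i U × LocCohZ.HZc F i U',
          LocCohZ.resZ F i (le_top : U ≤ ⊤) (le_top : U ⊓ U' ≤ ⊤) inf_le_left le_rfl y.1 -
              LocCohZ.resZ F i (le_top : U' ≤ ⊤) (le_top : U ⊓ U' ≤ ⊤) inf_le_right le_rfl y.2 = 0 ↔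
            ∃ x : LocCohZ.HZc F i (U ⊔ U'),
              LocCohZ.resZ F i (le_top : U ⊔ U' ≤ ⊤) (le_top : U ≤ ⊤) le_sup_left le_rfl x = y.1 ∧
              LocCohZ.resZ F i (le_top : U ⊔ U' ≤ ⊤) (le_top : U' ≤ ⊤) le_sup_right le_rfl x = y.2) ∧
        (∀ w : LocCohZ.HZc F i (U ⊓ U'),
          δ i w = 0 ↔ ∃ y : LocCohZ.HZc F i U × LocCohZ.HZc F i U',
            LocCohZ.resZ F i (le_top : U ≤ ⊤) (le_top : U ⊓ U' ≤ ⊤) inf_le_left le_rfl y.1 -
              LocCohZ.resZ F i (le_top : U' ≤ ⊤) (le_top : U ⊓ U' ≤ ⊤) inf_le_right le_rfl y.2 = w) ∧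
        (∀ x : LocCohZ.HZc F (i + 1) (U ⊔ U'),
          (LocCohZ.resZ F (i + 1) (le_top : U ⊔ U' ≤ ⊤) (le_top : U ≤ ⊤) le_sup_left le_rfl x = 0 ∧
            LocCohZ.resZ F (i + 1) (le_top : U ⊔ U' ≤ ⊤) (le_top : U' ≤ ⊤) le_sup_right le_rfl x = 0) ↔
            ∃ w : LocCohZ.HZc F i (U ⊓ U'), δ i w = x) := by
  have hT := mvSeq_shortExact U U'
  have epig : Epi (mvSeq U U').g := hT.epi_g
  refine ⟨?_, fun i => hT.extClass.precomp F (add_comm 1 i), fun i => ⟨?_, ?_, ?_⟩⟩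
  · -- injectivity in degree 0
    intro x x' hxx
    have h1 : Ext.biprodAddEquiv ((Ext.mk₀ (mvSeq U U').g).comp x (zero_add 0)) =
        Ext.biprodAddEquiv ((Ext.mk₀ (mvSeq U U').g).comp x' (zero_add 0)) := by
      rw [mk₀_g_comp, mk₀_g_comp]
      exact hxx
    exact Ext.precomp_mk₀_injective_of_epi F (mvSeq U U').g (Ext.biprodAddEquiv.injective h1)
  · -- exactness at the direct sum
    intro y
    rw [← mk₀_f_comp]
    constructor
    · intro h0
      obtain ⟨x, hx⟩ := Ext.contravariant_sequence_exact₂ hT F _ h0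
      have := congrArg Ext.biprodAddEquiv hx
      rw [mk₀_g_comp, AddEquiv.apply_symm_apply] at this
      exact ⟨x, congrArg Prod.fst this, congrArg Prod.snd this⟩
    · rintro ⟨x, hx1, hx2⟩
      have : Ext.biprodAddEquiv.symm y = (Ext.mk₀ (mvSeq U U').g).comp x (zero_add i) := by
        rw [AddEquiv.symm_apply_eq, mk₀_g_comp]
        exact Prod.ext hx1.symm hx2.symm
      rw [this, Ext.mk₀_comp_mk₀_assoc, (mvSeq U U').zero, Ext.mk₀_zero, Ext.zero_comp]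
  · -- exactness at the union of supports
    intro w
    constructor
    · intro h0
      obtain ⟨x₂, hx₂⟩ := Ext.contravariant_sequence_exact₁ hT F w (add_comm 1 i) h0
      refine ⟨Ext.biprodAddEquiv x₂, ?_⟩
      rw [← mk₀_f_comp, AddEquiv.symm_apply_apply]
      exact hx₂
    · rintro ⟨y, rfl⟩
      rw [← mk₀_f_comp]
      show hT.extClass.comp _ (add_comm 1 i) = 0
      rw [hT.extClass_comp_assoc]
  · -- exactness at the intersection of supports, one degree up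
    intro x
    constructor
    · rintro ⟨h1, h2⟩
      have h0 : (Ext.mk₀ (mvSeq U U').g).comp x (zero_add (i + 1)) = 0 := by
        apply Ext.biprodAddEquiv.injective
        rw [mk₀_g_comp, map_zero]
        exact Prod.ext h1 h2
      obtain ⟨w, hw⟩ := Ext.contravariant_sequence_exact₃ hT F x h0 (add_comm 1 i)
      exact ⟨w, hw⟩
    · rintro ⟨w, rfl⟩
      have h0 : (Ext.mk₀ (mvSeq U U').g).comp (hT.extClass.comp w (add_comm 1 i))
          (zero_add (i + 1)) = 0 := by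
        rw [hT.comp_extClass_assoc]
      have := congrArg Ext.biprodAddEquiv h0
      rw [mk₀_g_comp, map_zero] at this
      exact ⟨congrArg Prod.fst this, congrArg Prod.snd this⟩

end Groth.Agent.Lib.Seat76.LocCohMV
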