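import Groth.Prelude.Def_MeroSh
import Mathlib.AlgebraicGeometry.Properties
import Mathlib.AlgebraicGeometry.AffineScheme

set_option autoImplicit false

universe u

open CategoryTheory AlgebraicGeometry TopologicalSpace Opposite

namespace Groth.Agent.Lib.Seat76.MeroGen

variable {X : Scheme.{u}}

/-- `x` is the generic point of an irreducible component. -/
def IsGen (x : X) : Prop := closure ({x} : Set X) ∈ irreducibleComponents (X : Type u)

/-- every point is a specialization of a generic point of an irreducible component -/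
theorem exists_isGen_specializes (z : X) : ∃ η : X, IsGen η ∧ η ⤳ z := by
  obtain ⟨η, hη⟩ := QuasiSober.sober (isIrreducible_irreducibleComponent (x := z))
    isClosed_irreducibleComponent
  refine ⟨η, ?_, ?_⟩
  · unfold IsGen
    rw [hη.def]
    exact irreducibleComponent_mem_irreducibleComponents z
  · rw [specializes_iff_mem_closure, hη.def]
    exact mem_irreducibleComponent

/-- two generic points with one specializing to the other are equal -/
theorem IsGen.eq_of_specializes {x x' : X} (hx : IsGen x) (hx' : IsGen x') (h : x' ⤳ x) :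
    x' = x := by
  have h1 : closure ({x} : Set X) ⊆ closure ({x'} : Set X) :=
    (specializes_iff_closure_subset.mp h)
  have h2 : closure ({x'} : Set X) ⊆ closure ({x} : Set X) :=
    hx.2 (isIrreducible_singleton.closure) h1
  have h3 : x ⤳ x' := specializes_iff_closure_subset.mpr h2
  exact (h.antisymm h3).eq

theorem finite_isGen (hfin : (irreducibleComponents (X : Type u)).Finite) :
    {x : X | IsGen x}.Finite := by
  refine Set.Finite.of_finite_image (f := fun x : X => closure ({x} : Set X)) ?_ ?_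
  · exact hfin.subset (by rintro _ ⟨x, hx, rfl⟩; exact hx)
  · intro x hx x' hx' (h : closure ({x} : Set X) = closure ({x'} : Set X))
    have h1 : x' ⤳ x := specializes_iff_closure_subset.mpr h.le
    exact (IsGen.eq_of_specializes hx hx' h1).symm

/-- L1: on a reduced scheme a function vanishing at all generic points of components is zero -/
theorem eq_zero_of_germ_isGen [IsReduced X] {W : X.Opens} (c : Γ(X, W))
    (h : ∀ (x : X) (hx : x ∈ W), IsGen x → X.presheaf.germ W x hx c = 0) : c = 0 := by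
  rw [← basicOpen_eq_bot_iff]
  by_contra hne
  obtain ⟨z, hz⟩ : ∃ z : X, z ∈ X.basicOpen c := by
    by_contra hcon
    apply hne
    ext z
    simp only [Opens.coe_bot, Set.mem_empty_iff_false, iff_false]
    intro hz
    exact hcon ⟨z, hz⟩
  obtain ⟨η, hη, hηz⟩ := exists_isGen_specializes z
  have hηc : η ∈ X.basicOpen c := hηz.mem_open (X.basicOpen c).isOpen hz
  have hηW : η ∈ W := X.basicOpen_le c hηc
  have hu := (X.mem_basicOpen c η hηW).mp hηc
  rw [h η hηW hη] at hu
  exact not_isUnit_zero hu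

/-- L2: two meromorphic functions agreeing at all generic points agree (reduced scheme) -/
theorem kmod_ext_of_isGen [IsReduced X] {U : X.Opens} (s s' : Γ(Mero.kmod X, U))
    (h : ∀ x : U, IsGen x.1 → s.1 x = s'.1 x) : s = s' := by
  apply Subtype.ext
  funext y
  obtain ⟨Va, ma, ia, ra, sa, wa⟩ := s.2 y
  obtain ⟨Vb, mb, ib, rb, sb, wb⟩ := s'.2 y
  -- the open where both are fractions
  let V : X.Opens := Va ⊓ Vb
  have hyV : y.1 ∈ V := ⟨ma, mb⟩
  let ja : V ⟶ Va := homOfLE inf_le_left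
  let jb : V ⟶ Vb := homOfLE inf_le_right
  let c : Γ(X, V) := X.presheaf.map jb.op sb.1 * X.presheaf.map ja.op ra -
    X.presheaf.map ja.op sa.1 * X.presheaf.map jb.op rb
  have key : ∀ (z : X) (hz : z ∈ V), s.1 ⟨z, ia.le hz.1⟩ = s'.1 ⟨z, ia.le hz.1⟩ →
      X.presheaf.germ V z hz c = 0 := by
    intro z hz hzz
    have wa' := wa ⟨z, hz.1⟩
    have wb' := wb ⟨z, hz.2⟩
    dsimp only at wa' wb'
    have e1 : s.1 ⟨z, ia.le hz.1⟩ = LocalizedModule.mk (X.presheaf.germ Va z hz.1 ra)
        (Mero.regGerm ⟨z, hz.1⟩ sa) := wa'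
    have e2 : s'.1 ⟨z, ia.le hz.1⟩ = LocalizedModule.mk (X.presheaf.germ Vb z hz.2 rb)
        (Mero.regGerm ⟨z, hz.2⟩ sb) := wb'
    rw [e1, e2, LocalizedModule.mk_eq] at hzz
    obtain ⟨u, hu⟩ := hzz
    have hu' : (u : X.presheaf.stalk z) * (X.presheaf.germ Vb z hz.2 sb.1 *
        X.presheaf.germ Va z hz.1 ra - X.presheaf.germ Va z hz.1 sa.1 *
        X.presheaf.germ Vb z hz.2 rb) = 0 := by
      rw [mul_sub]
      exact sub_eq_zero.mpr hu
    have hnz := Mero.regStalk_le_nonZeroDivisors z u.2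
    have := (mem_nonZeroDivisors_iff.mp hnz).1 _ hu'
    simp only [c, map_sub, map_mul, TopCat.Presheaf.germ_res_apply]
    exact this
  have hc : c = 0 := eq_zero_of_germ_isGen c (fun z hz hgen =>
    key z hz (h ⟨z, ia.le hz.1⟩ hgen))
  have wa' := wa ⟨y.1, ma⟩
  have wb' := wb ⟨y.1, mb⟩
  dsimp only at wa' wb'
  have e1 : s.1 y = LocalizedModule.mk (X.presheaf.germ Va y.1 ma ra)
      (Mero.regGerm ⟨y.1, ma⟩ sa) := wa'
  have e2 : s'.1 y = LocalizedModule.mk (X.presheaf.germ Vb y.1 mb rb)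
      (Mero.regGerm ⟨y.1, mb⟩ sb) := wb'
  rw [e1, e2, LocalizedModule.mk_eq]
  refine ⟨1, ?_⟩
  have hg : X.presheaf.germ V y.1 hyV c = 0 := by rw [hc, map_zero]
  simp only [c, map_sub, map_mul, TopCat.Presheaf.germ_res_apply] at hg
  rw [one_smul, one_smul]
  exact sub_eq_zero.mp hg

theorem isField_stalk [IsReduced X] {x : X} (hx : IsGen x) : IsField (X.presheaf.stalk x) :=
  isField_stalk_of_closure_mem_irreducibleComponents X x hx

/-- L5: at a generic point of a reduced scheme, `O_{X,x} → K_{X,x}` is bijective -/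
theorem bijective_algebraMap_KStalk [IsReduced X] {x : X} (hx : IsGen x) :
    Function.Bijective (algebraMap (X.presheaf.stalk x) (Mero.KStalk X x)) := by
  have hF := isField_stalk hx
  have H : Mero.regStalk X x ≤ IsUnit.submonoid (X.presheaf.stalk x) := by
    intro g hg
    have hnz := Mero.regStalk_le_nonZeroDivisors x hg
    have hne : g ≠ 0 := nonZeroDivisors.ne_zero hnz
    obtain ⟨g', hg'⟩ := hF.mul_inv_cancel hne
    exact IsUnit.of_mul_eq_one g' hg'
  exact (IsLocalization.atUnits (X.presheaf.stalk x) (Mero.regStalk X x)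
    (S := Mero.KStalk X x) H).bijective

/-- in a field-valued stalk, a non-unit germ is zero -/
theorem germ_eq_zero_of_not_mem_basicOpen [IsReduced X] {W : X.Opens} (f : Γ(X, W)) {x : X}
    (hx : IsGen x) (hxW : x ∈ W) (h : x ∉ X.basicOpen f) : X.presheaf.germ W x hxW f = 0 := by
  by_contra hne
  apply h
  rw [X.mem_basicOpen f x hxW]
  obtain ⟨g', hg'⟩ := (isField_stalk hx).mul_inv_cancel hne
  exact IsUnit.of_mul_eq_one g' hg'

/-- separating functions on an affine open -/
theorem exists_separating {W : X.Opens} (hW : IsAffineOpen W) (G : Finset X)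
    (hG : ∀ x ∈ G, IsGen x) {x : X} (hx : IsGen x) (hxW : x ∈ W) :
    ∃ f : Γ(X, W), x ∈ X.basicOpen f ∧ ∀ x' ∈ G, x' ≠ x → x' ∉ X.basicOpen f := by
  classical
  let Z : Set X := ⋃ x' ∈ G.erase x, closure ({x'} : Set X)
  have hZ : IsClosed Z := isClosed_biUnion_finset (fun x' _ => isClosed_closure)
  let O : X.Opens := ⟨Zᶜ, hZ.isOpen_compl⟩
  have hxO : x ∈ O := by
    intro hxZ
    simp only [Z, Set.mem_iUnion] at hxZ
    obtain ⟨x', hx'G, hxx'⟩ := hxZ
    have hx'G' := Finset.mem_erase.mp hx'G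
    have hsp : x' ⤳ x := specializes_iff_mem_closure.mpr hxx'
    exact hx'G'.1 (IsGen.eq_of_specializes hx (hG x' hx'G'.2) hsp)
  obtain ⟨f, hfO, hxf⟩ := hW.exists_basicOpen_le (V := O) ⟨x, hxO⟩ hxW
  refine ⟨f, hxf, fun x' hx'G hne hx'f => ?_⟩
  have : x' ∈ O := hfO hx'f
  apply this
  simp only [Z, Set.mem_iUnion]
  exact ⟨x', Finset.mem_erase.mpr ⟨hne, hx'G⟩, subset_closure rfl⟩

/-- a germ at a generic point in an affine open, as a fraction of global functions on the affine open -/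
theorem exists_fraction [IsReduced X] {W : X.Opens} (hW : IsAffineOpen W) {x : X}
    (hx : IsGen x) (hxW : x ∈ W) (t : Mero.KStalk X x) :
    ∃ a s : Γ(X, W), IsUnit (X.presheaf.germ W x hxW s) ∧
      t * algebraMap (X.presheaf.stalk x) (Mero.KStalk X x) (X.presheaf.germ W x hxW s) =
        algebraMap (X.presheaf.stalk x) (Mero.KStalk X x) (X.presheaf.germ W x hxW a) := by
  obtain ⟨τ, hτ⟩ := (bijective_algebraMap_KStalk hx).2 t
  let _ : Algebra Γ(X, W) (X.presheaf.stalk x) :=
    TopCat.Presheaf.algebra_section_stalk X.presheaf ⟨x, hxW⟩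
  have hloc : IsLocalization.AtPrime (X.presheaf.stalk x) (hW.primeIdealOf ⟨x, hxW⟩).asIdeal :=
    hW.isLocalization_stalk ⟨x, hxW⟩
  obtain ⟨⟨a, s⟩, has⟩ := IsLocalization.surj (hW.primeIdealOf ⟨x, hxW⟩).asIdeal.primeCompl τ
  have hu : IsUnit (algebraMap Γ(X, W) (X.presheaf.stalk x) (s : Γ(X, W))) :=
    IsLocalization.map_units (X.presheaf.stalk x) s
  refine ⟨a, s, hu, ?_⟩
  rw [← hτ, ← map_mul]
  exact congrArg _ has

/-- a function on an open of a reduced scheme whose germs at generic points are units is regular -/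
theorem mem_regSub_of_isUnit_germ [IsReduced X] {W : X.Opens} (b : Γ(X, W))
    (hb : ∀ (x : X) (hxW : x ∈ W), IsGen x → IsUnit (X.presheaf.germ W x hxW b)) :
    b ∈ Mero.regSub X W := by
  intro z
  rw [mem_nonZeroDivisors_iff]
  have main : ∀ c : X.presheaf.stalk z.1, c * X.presheaf.germ W z.1 z.2 b = 0 → c = 0 := by
    intro c hc
    obtain ⟨V0, hzV0, c0, rfl⟩ := X.presheaf.germ_exist (x := z.1) c
    -- restrict to V0 ⊓ W
    let V1 : X.Opens := V0 ⊓ W
    have hzV1 : z.1 ∈ V1 := ⟨hzV0, z.2⟩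
    let c1 : Γ(X, V1) := X.presheaf.map (homOfLE (inf_le_left : V1 ≤ V0)).op c0
    let b1 : Γ(X, V1) := X.presheaf.map (homOfLE (inf_le_right : V1 ≤ W)).op b
    have h1 : X.presheaf.germ V1 z.1 hzV1 (c1 * b1) = X.presheaf.germ V1 z.1 hzV1 0 := by
      rw [map_mul, map_zero]
      simp only [c1, b1, TopCat.Presheaf.germ_res_apply]
      exact hc
    obtain ⟨V2, hzV2, i1, i2, h2⟩ := X.presheaf.germ_eq z.1 hzV1 hzV1 _ _ h1
    rw [map_zero, map_mul] at h2
    let c2 : Γ(X, V2) := X.presheaf.map i1.op c1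
    let b2 : Γ(X, V2) := X.presheaf.map i1.op b1
    have h3 : c2 * b2 = 0 := h2
    have hc2 : c2 = 0 := by
      apply eq_zero_of_germ_isGen
      intro x hxV2 hgen
      have hxW : x ∈ W := (i1.le hxV2).2
      have hub : IsUnit (X.presheaf.germ V2 x hxV2 b2) := by
        simp only [b2, b1, TopCat.Presheaf.germ_res_apply]
        exact hb x hxW hgen
      have h4 : X.presheaf.germ V2 x hxV2 c2 * X.presheaf.germ V2 x hxV2 b2 = 0 := by
        rw [← map_mul, h3, map_zero]
      exact (hub.mul_left_eq_zero).mp h4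
    have : X.presheaf.germ V0 z.1 hzV0 c0 = X.presheaf.germ V2 z.1 hzV2 c2 := by
      simp only [c2, c1, TopCat.Presheaf.germ_res_apply]
    rw [this, hc2, map_zero]
  refine ⟨fun c hc => main c ?_, main⟩
  rw [mul_comm]
  exact hc

/-- the meromorphic function `a / b` on an open -/
noncomputable def fracSection {W : X.Opens} (a : Γ(X, W)) (b : Mero.regSub X W) :
    Γ(Mero.kmod X, W) :=
  ⟨fun z => LocalizedModule.mk (X.presheaf.germ W z.1 z.2 a) (Mero.regGerm z b),
    fun z => ⟨W, z.2, 𝟙 _, a, b, fun _ => rfl⟩⟩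

theorem fracSection_apply {W : X.Opens} (a : Γ(X, W)) (b : Mero.regSub X W) (z : W) :
    (fracSection a b).1 z =
      LocalizedModule.mk (X.presheaf.germ W z.1 z.2 a) (Mero.regGerm z b) := rfl

/-- L3: prescribed values at the generic points of an affine open are realised by one fraction -/
theorem exists_local_section [IsReduced X] (hfin : (irreducibleComponents (X : Type u)).Finite)
    (t : ∀ x : X, Mero.KStalk X x) {W : X.Opens} (hW : IsAffineOpen W) :
    ∃ s : Γ(Mero.kmod X, W), ∀ x : W, IsGen x.1 → s.1 x = t x.1 := by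
  classical
  have hGfin : {x : X | IsGen x ∧ x ∈ W}.Finite := (finite_isGen hfin).subset (fun x hx => hx.1)
  let G : Finset X := hGfin.toFinset
  have hG : ∀ x, x ∈ G ↔ IsGen x ∧ x ∈ W := fun x => hGfin.mem_toFinset
  have hGgen : ∀ x ∈ G, IsGen x := fun x hx => ((hG x).mp hx).1
  -- choices
  have h1 : ∀ x : X, ∃ f : Γ(X, W), x ∈ G → (x ∈ X.basicOpen f ∧
      ∀ x' ∈ G, x' ≠ x → x' ∉ X.basicOpen f) := by
    intro x
    by_cases hx : x ∈ G
    · obtain ⟨f, hf⟩ := exists_separating hW G hGgen ((hG x).mp hx).1 ((hG x).mp hx).2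
      exact ⟨f, fun _ => hf⟩
    · exact ⟨0, fun h => absurd h hx⟩
  choose e he using h1
  have h2 : ∀ x : X, ∃ a s : Γ(X, W), ∀ (hx : x ∈ G),
      IsUnit (X.presheaf.germ W x ((hG x).mp hx).2 s) ∧
      t x * algebraMap (X.presheaf.stalk x) (Mero.KStalk X x)
          (X.presheaf.germ W x ((hG x).mp hx).2 s) =
        algebraMap (X.presheaf.stalk x) (Mero.KStalk X x)
          (X.presheaf.germ W x ((hG x).mp hx).2 a) := by
    intro x
    by_cases hx : x ∈ G
    · obtain ⟨a, s, h⟩ := exists_fraction hW ((hG x).mp hx).1 ((hG x).mp hx).2 (t x)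
      exact ⟨a, s, fun _ => h⟩
    · exact ⟨0, 0, fun h => absurd h hx⟩
  choose a' s' has using h2
  let a : Γ(X, W) := ∑ x ∈ G, e x * a' x
  let b : Γ(X, W) := ∑ x ∈ G, e x * s' x
  -- germs at generic points
  have germ_sum : ∀ (c : X → Γ(X, W)) (x : X) (hx : x ∈ G),
      X.presheaf.germ W x ((hG x).mp hx).2 (∑ x' ∈ G, e x' * c x') =
        X.presheaf.germ W x ((hG x).mp hx).2 (e x) * X.presheaf.germ W x ((hG x).mp hx).2 (c x) := by
    intro c x hx
    rw [map_sum, Finset.sum_eq_single x]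
    · rw [map_mul]
    · intro x' hx' hne
      rw [map_mul]
      have : X.presheaf.germ W x ((hG x).mp hx).2 (e x') = 0 :=
        germ_eq_zero_of_not_mem_basicOpen (e x') ((hG x).mp hx).1 ((hG x).mp hx).2
          ((he x' hx').2 x hx hne.symm)
      rw [this, zero_mul]
    · intro h
      exact absurd hx h
  have hue : ∀ (x : X) (hx : x ∈ G), IsUnit (X.presheaf.germ W x ((hG x).mp hx).2 (e x)) :=
    fun x hx => (X.mem_basicOpen (e x) x ((hG x).mp hx).2).mp (he x hx).1
  have hb : b ∈ Mero.regSub X W := by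
    apply mem_regSub_of_isUnit_germ
    intro x hxW hgen
    have hx : x ∈ G := (hG x).mpr ⟨hgen, hxW⟩
    have := germ_sum s' x hx
    change X.presheaf.germ W x hxW b = _ at this
    rw [this]
    exact (hue x hx).mul (has x hx).1
  refine ⟨fracSection a ⟨b, hb⟩, fun x hgen => ?_⟩
  have hx : x.1 ∈ G := (hG x.1).mpr ⟨hgen, x.2⟩
  rw [fracSection_apply]
  have ea : X.presheaf.germ W x.1 x.2 a = _ := germ_sum a' x.1 hx
  have eb : X.presheaf.germ W x.1 x.2 b = _ := germ_sum s' x.1 hx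
  obtain ⟨hus, hfrac⟩ := has x.1 hx
  have hmk : (LocalizedModule.mk (X.presheaf.germ W x.1 x.2 a) (Mero.regGerm x ⟨b, hb⟩) :
      Mero.KStalk X x.1) = IsLocalization.mk' (Mero.KStalk X x.1)
        (X.presheaf.germ W x.1 x.2 a) (Mero.regGerm x ⟨b, hb⟩) := by
    rw [← Localization.mk_eq_mk']
    rfl
  rw [hmk, IsLocalization.mk'_eq_iff_eq_mul]
  change algebraMap _ _ (X.presheaf.germ W x.1 x.2 a) =
    t x.1 * algebraMap _ _ (X.presheaf.germ W x.1 x.2 b)
  rw [ea, eb, map_mul, map_mul, mul_comm (t x.1), mul_assoc, mul_comm _ (t x.1), hfrac]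

/-- L4: gluing the local fractions -/
theorem exists_section [IsReduced X] (hfin : (irreducibleComponents (X : Type u)).Finite)
    (t : ∀ x : X, Mero.KStalk X x) (U : X.Opens) :
    ∃ s : Γ(Mero.kmod X, U), ∀ x : U, IsGen x.1 → s.1 x = t x.1 := by
  have h1 : ∀ y : U, ∃ W : X.Opens, IsAffineOpen W ∧ y.1 ∈ W ∧ W.1 ⊆ U :=
    fun y => exists_isAffineOpen_mem_and_subset y.2
  choose W hWaff hyW hWU using h1
  have h2 : ∀ y : U, ∃ s : Γ(Mero.kmod X, W y), ∀ x : W y, IsGen x.1 → s.1 x = t x.1 :=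
    fun y => exists_local_section hfin t (hWaff y)
  choose sW hsW using h2
  -- compatibility
  have compat : ∀ (y y' : U) (z : X) (hz : z ∈ W y) (hz' : z ∈ W y'),
      (sW y).1 ⟨z, hz⟩ = (sW y').1 ⟨z, hz'⟩ := by
    intro y y' z hz hz'
    let V : X.Opens := W y ⊓ W y'
    let r1 : Γ(Mero.kmod X, V) := (Mero.kmod X).presheaf.map (homOfLE (inf_le_left : V ≤ W y)).op (sW y)
    let r2 : Γ(Mero.kmod X, V) := (Mero.kmod X).presheaf.map (homOfLE (inf_le_right : V ≤ W y')).op (sW y')
    have e : r1 = r2 := by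
      apply kmod_ext_of_isGen
      intro x hgen
      change (sW y).1 ⟨x.1, x.2.1⟩ = (sW y').1 ⟨x.1, x.2.2⟩
      rw [hsW y ⟨x.1, x.2.1⟩ hgen, hsW y' ⟨x.1, x.2.2⟩ hgen]
    have := congrArg (fun r : Γ(Mero.kmod X, V) => r.1 ⟨z, ⟨hz, hz'⟩⟩) e
    exact this
  refine ⟨⟨fun y => (sW y).1 ⟨y.1, hyW y⟩, fun y => ?_⟩, fun x hgen => ?_⟩
  · obtain ⟨V, m, i, a, b, w⟩ := (sW y).2 ⟨y.1, hyW y⟩
    refine ⟨V, m, i ≫ homOfLE (hWU y), a, b, fun z => ?_⟩
    have w' := w z
    dsimp only at w' ⊢
    rw [← w']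
    exact compat _ y z.1 _ (i.le z.2)
  · exact hsW x ⟨x.1, hyW x⟩ hgen

theorem main (X : Scheme.{u}) [IsReduced X]
    (hfin : (irreducibleComponents (X : Type u)).Finite) (U : X.Opens) :
    Function.Bijective (fun s : Γ(Mero.kmod X, U) =>
      fun x : {x : U // closure ({x.1} : Set X) ∈ irreducibleComponents (X : Type u)} =>
        Mero.evalK X U x.1 s) ∧
    (∀ x : X, closure ({x} : Set X) ∈ irreducibleComponents (X : Type u) →
      IsField (X.presheaf.stalk x) ∧
        Function.Bijective (algebraMap (X.presheaf.stalk x) (Mero.KStalk X x))) := by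
  classical
  refine ⟨⟨?_, ?_⟩, fun x hx => ⟨isField_stalk hx, bijective_algebraMap_KStalk hx⟩⟩
  · intro s s' h
    apply kmod_ext_of_isGen
    intro x hgen
    exact congrFun h ⟨x, hgen⟩
  · intro T
    let t : ∀ x : X, Mero.KStalk X x := fun x =>
      if h : x ∈ U ∧ IsGen x then T ⟨⟨x, h.1⟩, h.2⟩ else 0
    obtain ⟨s, hs⟩ := exists_section hfin t U
    refine ⟨s, ?_⟩
    funext x
    change s.1 x.1 = T x
    rw [hs x.1 x.2]
    have h : (x.1.1 ∈ U ∧ IsGen x.1.1) := ⟨x.1.2, x.2⟩
    simp only [t, dif_pos h]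

end Groth.Agent.Lib.Seat76.MeroGen
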