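import Mathlib.RingTheory.MvPolynomial.Basic
import Mathlib.Algebra.MvPolynomial.CommRing
import Mathlib.RingTheory.Ideal.Maps
import Mathlib.LinearAlgebra.Matrix.Determinant.Basic
import Mathlib.Algebra.Module.Projective
import Mathlib.LinearAlgebra.Quotient.Basic
import Mathlib.LinearAlgebra.LinearIndependent.Defs
import Mathlib.Data.Fin.Tuple.Basic
import Mathlib.LinearAlgebra.Matrix.Block
import Mathlib.LinearAlgebra.LinearIndependent.Basic
import Mathlib.LinearAlgebra.Basis.Basic

/-!
# The kernel of a linear substitution `A[a_0..a_N] → A[y_1..y_s]`, `a_j ↦ Σ m_i(j) y_i`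
is the ideal of maximal minors of `[m; a]`, when `A^(N+1)/span(m)` is projective.

Tools: a weak Cauchy–Binet (`det (G * H)` lies in the ideal of column-minors of `G`), a retraction
of `span m ⊆ A^(N+1)`, and a lower triangular determinant.
-/

set_option autoImplicit false
set_option linter.unusedSectionVars false
set_option linter.deprecated false
universe u
open scoped BigOperators

namespace Groth.Agent.Lib.Seat76.Minors

section CB

variable {P : Type*} [CommRing P] {α l : Type*} [Fintype α] [DecidableEq α] [Fintype l]
  [DecidableEq l]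

/-- Cauchy–Binet, in the weak form needed: `det (G * H)` lies in the ideal generated by the
"minors" of `G` obtained by choosing columns (with repetition allowed). -/
theorem det_mul_mem_span (G : Matrix α l P) (H : Matrix l α P) :
    (G * H).det ∈ Ideal.span (Set.range fun c : α → l =>
      (Matrix.of fun a b => G a (c b)).det) := by
  classical
  set f := (Matrix.detRowAlternating (n := α) (R := P)) with hf
  have h1 : (G * H).det = f (fun β => ∑ k, H k β • (fun a => G a k)) := by
    rw [← Matrix.det_transpose]
    change f (G * H).transpose = _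
    congr 1
    funext β a
    simp only [Matrix.transpose_apply, Matrix.mul_apply, Finset.sum_apply, Pi.smul_apply,
      smul_eq_mul]
    exact Finset.sum_congr rfl fun k _ => mul_comm _ _
  have hexp : f (fun β => ∑ k, H k β • (fun a => G a k)) =
      ∑ c : α → l, f (fun β => H (c β) β • (fun a => G a (c β))) :=
    f.toMultilinearMap.map_sum (fun (β : α) (k : l) => H k β • (fun a => G a k))
  rw [h1, hexp]
  refine Submodule.sum_mem _ fun c _ => ?_
  have h2 : f (fun β => H (c β) β • (fun a => G a (c β))) =
      (∏ β, H (c β) β) • f (fun β a => G a (c β)) :=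
    f.toMultilinearMap.map_smul_univ (fun β => H (c β) β) (fun β a => G a (c β))
  rw [h2, smul_eq_mul]
  apply Ideal.mul_mem_left
  apply Ideal.subset_span
  refine ⟨c, ?_⟩
  exact (Matrix.det_transpose (Matrix.of fun a b => G a (c b))).symm

end CB


section Rows

variable {R : Type*} [CommRing R] {n ι : Type*} [Fintype n] [DecidableEq n] [Fintype ι]

/-- a matrix one of whose rows is a linear combination of other rows has determinant zero -/
theorem det_eq_zero_of_row_eq_sum (B : Matrix n n R) (k : n) (g : ι → n) (hg : ∀ t, g t ≠ k)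
    (c : ι → R) (h : B k = ∑ t, c t • B (g t)) : B.det = 0 := by
  classical
  set f := (Matrix.detRowAlternating (n := n) (R := R)) with hf
  let B' : n → n → R := B
  have h1 : B.det = f (Function.update B' k (∑ t, c t • B' (g t))) := by
    have : Function.update B' k (∑ t, c t • B' (g t)) = B' := by
      rw [← h]
      exact Function.update_eq_self k B'
    rw [this]
    rfl
  have h2 : f (Function.update B' k (∑ t, c t • B' (g t))) =
      ∑ t, f (Function.update B' k (c t • B' (g t))) :=
    f.toMultilinearMap.map_update_sum Finset.univ k (fun t => c t • B' (g t)) B'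
  rw [h1, h2]
  refine Finset.sum_eq_zero fun t _ => ?_
  have h3 : f (Function.update B' k (c t • B' (g t))) =
      c t • f (Function.update B' k (B' (g t))) :=
    f.toMultilinearMap.map_update_smul B' k (c t) (B' (g t))
  rw [h3]
  have h4 : f (Function.update B' k (B' (g t))) = 0 := by
    apply f.map_eq_zero_of_eq _ _ (hg t).symm
    rw [Function.update_self, Function.update_of_ne (hg t)]
  rw [h4, smul_zero]

end Rows


theorem exists_retraction (A : Type u) [CommRing A] (N s : ℕ) (m : Fin s → (Fin (N + 1) → A))
    (hli : LinearIndependent A m)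
    (hproj : Module.Projective A ((Fin (N + 1) → A) ⧸ Submodule.span A (Set.range m))) :
    ∃ R : Fin (N + 1) → Fin s → A, ∀ i' i, ∑ j, m i' j * R j i = if i' = i then 1 else 0 := by
  classical
  set M := Submodule.span A (Set.range m) with hM
  obtain ⟨σ, hσ⟩ := Module.projective_lifting_property M.mkQ LinearMap.id
    (Submodule.mkQ_surjective M)
  let π : (Fin (N + 1) → A) →ₗ[A] (Fin (N + 1) → A) := LinearMap.id - σ.comp M.mkQ
  have hπ : ∀ v, π v ∈ M := by
    intro v
    rw [← Submodule.ker_mkQ M, LinearMap.mem_ker]
    have : M.mkQ (σ (M.mkQ v)) = M.mkQ v := by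
      have := LinearMap.congr_fun hσ (M.mkQ v)
      simpa using this
    change M.mkQ (v - σ (M.mkQ v)) = 0
    rw [map_sub, this, sub_self]
  have hmem : ∀ i, m i ∈ M := fun i => Submodule.subset_span ⟨i, rfl⟩
  have hπm : ∀ i, π (m i) = m i := by
    intro i
    have : M.mkQ (m i) = 0 := (Submodule.Quotient.mk_eq_zero M).2 (hmem i)
    change m i - σ (M.mkQ (m i)) = m i
    rw [this, map_zero, sub_zero]
  let r : (Fin (N + 1) → A) →ₗ[A] (Fin s →₀ A) := hli.repr.comp (π.codRestrict M hπ)
  have hr : ∀ i, r (m i) = Finsupp.single i 1 := by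
    intro i
    have : π.codRestrict M hπ (m i) = ⟨m i, hmem i⟩ := Subtype.ext (hπm i)
    change hli.repr (π.codRestrict M hπ (m i)) = _
    rw [this]
    exact hli.repr_eq_single i ⟨m i, hmem i⟩ rfl
  refine ⟨fun j i => r (Pi.single j 1) i, fun i' i => ?_⟩
  have hv : m i' = ∑ j, m i' j • (Pi.single j (1 : A) : Fin (N + 1) → A) := by
    funext j
    simp [Finset.sum_apply, Pi.single_apply]
  have := congrArg (fun t => r t i) hv
  simp only [map_sum, map_smul, Finsupp.coe_finsetSum, Finsupp.coe_smul, Finset.sum_apply,
    Pi.smul_apply, smul_eq_mul] at this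
  rw [← this, hr i', Finsupp.single_apply]


section Main

open MvPolynomial

variable (A : Type u) [CommRing A] (N s : ℕ) (m : Fin s → (Fin (N + 1) → A))

/-- the substitution `a_j ↦ Σ_i m_i(j) y_i` -/
noncomputable def phi : MvPolynomial (Fin (N + 1)) A →ₐ[A] MvPolynomial (Fin s) A :=
  MvPolynomial.aeval (R := A) (S₁ := MvPolynomial (Fin s) A)
    (fun j : Fin (N + 1) => ∑ i : Fin s, MvPolynomial.C (m i j) * MvPolynomial.X i)

/-- the `(s+1) × (N+1)` matrix `[m; a]` -/
noncomputable def Gmat : Matrix (Fin (s + 1)) (Fin (N + 1)) (MvPolynomial (Fin (N + 1)) A) :=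
  Matrix.of fun a l => Fin.snoc (α := fun _ => MvPolynomial (Fin (N + 1)) A)
    (fun i' : Fin s => MvPolynomial.C (m i' l)) (MvPolynomial.X l) a

/-- the ideal of maximal minors -/
noncomputable def minorIdeal : Ideal (MvPolynomial (Fin (N + 1)) A) :=
  Ideal.span (Set.range fun c : Fin (s + 1) → Fin (N + 1) =>
        (Matrix.of fun (i : Fin (s + 1)) (j : Fin (s + 1)) =>
          (Fin.snoc (α := fun _ => MvPolynomial (Fin (N + 1)) A)
            (fun i' : Fin s => MvPolynomial.C (m i' (c j))) (MvPolynomial.X (c j)) i)).det)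

theorem minorIdeal_le_ker : minorIdeal A N s m ≤ RingHom.ker (phi A N s m) := by
  unfold minorIdeal
  rw [Ideal.span_le]
  rintro _ ⟨c, rfl⟩
  rw [SetLike.mem_coe, RingHom.mem_ker]
  change (phi A N s m) (Matrix.det _) = 0
  rw [AlgHom.map_det]
  apply det_eq_zero_of_row_eq_sum _ (Fin.last s) (fun i : Fin s => Fin.castSucc i)
    (fun i => (Fin.castSucc_lt_last i).ne) (fun i : Fin s => (MvPolynomial.X i : MvPolynomial (Fin s) A))
  funext j
  simp only [AlgHom.mapMatrix_apply, Matrix.map_apply, Matrix.of_apply, Fin.snoc_last,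
    Finset.sum_apply, Pi.smul_apply, Fin.snoc_castSucc, smul_eq_mul]
  simp only [phi, aeval_X, aeval_C]
  refine Finset.sum_congr rfl fun i _ => ?_
  rw [mul_comm]
  rfl

variable {A N s m}

/-- the section of `phi` attached to a retraction matrix `R` -/
noncomputable def psi (R : Fin (N + 1) → Fin s → A) :
    MvPolynomial (Fin s) A →ₐ[A] MvPolynomial (Fin (N + 1)) A :=
  MvPolynomial.aeval (R := A) (S₁ := MvPolynomial (Fin (N + 1)) A)
    (fun i : Fin s => ∑ j : Fin (N + 1), MvPolynomial.C (R j i) * MvPolynomial.X j)

/-- `g - ψ (φ g)` lies in the ideal generated by the `X j - ψ (φ (X j))`. -/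
theorem sub_psi_phi_mem (R : Fin (N + 1) → Fin s → A) (g : MvPolynomial (Fin (N + 1)) A) :
    g - psi R (phi A N s m g) ∈ Ideal.span (Set.range fun j : Fin (N + 1) =>
      (MvPolynomial.X j : MvPolynomial (Fin (N + 1)) A) - psi R (phi A N s m (MvPolynomial.X j))) := by
  induction g using MvPolynomial.induction_on with
  | C c =>
    have h1 : phi A N s m (MvPolynomial.C c) = MvPolynomial.C c := by simp [phi]
    have h2 : psi (N := N) R (MvPolynomial.C c) = MvPolynomial.C c := by simp [psi]
    rw [h1, h2, sub_self]
    exact Ideal.zero_mem _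
  | add p q hp hq =>
    rw [map_add, map_add]
    have : p + q - (psi R (phi A N s m p) + psi R (phi A N s m q)) =
        (p - psi R (phi A N s m p)) + (q - psi R (phi A N s m q)) := by ring
    rw [this]
    exact Ideal.add_mem _ hp hq
  | mul_X p j hp =>
    rw [map_mul, map_mul]
    have : p * MvPolynomial.X j - psi R (phi A N s m p) * psi R (phi A N s m (MvPolynomial.X j)) =
        (p - psi R (phi A N s m p)) * MvPolynomial.X j +
          psi R (phi A N s m p) * (MvPolynomial.X j - psi R (phi A N s m (MvPolynomial.X j))) := by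
      ring
    rw [this]
    exact Ideal.add_mem _ (Ideal.mul_mem_right _ _ hp)
      (Ideal.mul_mem_left _ _ (Ideal.subset_span ⟨j, rfl⟩))

/-- `X j - ψ (φ (X j))` written out -/
theorem X_sub_psi_phi (R : Fin (N + 1) → Fin s → A) (j : Fin (N + 1)) :
    (MvPolynomial.X j : MvPolynomial (Fin (N + 1)) A) - psi R (phi A N s m (MvPolynomial.X j)) =
      ∑ l : Fin (N + 1), MvPolynomial.X l *
        MvPolynomial.C ((if l = j then 1 else 0) - ∑ i : Fin s, R l i * m i j) := by
  have h1 : phi A N s m (MvPolynomial.X j) =
      ∑ i : Fin s, MvPolynomial.C (m i j) * MvPolynomial.X i := by simp [phi]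
  have h2 : ∀ i : Fin s, psi (N := N) R (MvPolynomial.X i) =
      ∑ l : Fin (N + 1), MvPolynomial.C (R l i) * MvPolynomial.X l := by
    intro i; simp [psi]
  have h3 : ∀ c : A, psi (N := N) (s := s) R (MvPolynomial.C c) = MvPolynomial.C c := by
    intro c; simp [psi]
  rw [h1, map_sum]
  simp only [map_mul, h2, h3]
  simp only [map_sub, map_sum, map_mul, mul_sub, Finset.sum_sub_distrib]
  congr 1
  · have : ∀ l : Fin (N + 1), (MvPolynomial.X l : MvPolynomial (Fin (N + 1)) A) *
        MvPolynomial.C (if l = j then (1 : A) else 0) = if l = j then MvPolynomial.X l else 0 := by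
      intro l
      split_ifs <;> simp
    simp only [this, Finset.sum_ite_eq', Finset.mem_univ, if_true]
  · simp only [Finset.mul_sum]
    rw [Finset.sum_comm]
    refine Finset.sum_congr rfl fun l _ => ?_
    refine Finset.sum_congr rfl fun i _ => ?_
    ring

/-- the `(N+1) × (s+1)` matrix `[R | h_j]` -/
noncomputable def Hmat (R : Fin (N + 1) → Fin s → A) (j : Fin (N + 1)) :
    Matrix (Fin (N + 1)) (Fin (s + 1)) (MvPolynomial (Fin (N + 1)) A) :=
  Matrix.of fun l b => Fin.snoc (α := fun _ => MvPolynomial (Fin (N + 1)) A)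
    (fun i : Fin s => MvPolynomial.C (R l i))
    (MvPolynomial.C ((if l = j then 1 else 0) - ∑ i : Fin s, R l i * m i j)) b

theorem minorIdeal_eq_span_Gmat :
    minorIdeal A N s m = Ideal.span (Set.range fun c : Fin (s + 1) → Fin (N + 1) =>
      (Matrix.of fun a b => Gmat A N s m a (c b)).det) := rfl

theorem X_sub_psi_phi_mem (R : Fin (N + 1) → Fin s → A)
    (hR : ∀ i' i, ∑ j, m i' j * R j i = if i' = i then 1 else 0) (j : Fin (N + 1)) :
    (MvPolynomial.X j : MvPolynomial (Fin (N + 1)) A) - psi R (phi A N s m (MvPolynomial.X j)) ∈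
      minorIdeal A N s m := by
  classical
  set T := Gmat A N s m * Hmat (m := m) R j with hT
  have hmem : T.det ∈ minorIdeal A N s m := by
    rw [minorIdeal_eq_span_Gmat]
    exact det_mul_mem_span _ _
  -- entries of T
  have e11 : ∀ i' i : Fin s, T (Fin.castSucc i') (Fin.castSucc i) = if i' = i then 1 else 0 := by
    intro i' i
    simp only [hT, Matrix.mul_apply, Gmat, Hmat, Matrix.of_apply, Fin.snoc_castSucc]
    simp only [← map_mul, ← map_sum, hR i' i]
    split_ifs <;> simp
  have e12 : ∀ i' : Fin s, T (Fin.castSucc i') (Fin.last s) = 0 := by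
    intro i'
    simp only [hT, Matrix.mul_apply, Gmat, Hmat, Matrix.of_apply, Fin.snoc_castSucc, Fin.snoc_last]
    simp only [← map_mul, ← map_sum]
    have : ∑ l : Fin (N + 1), m i' l * ((if l = j then 1 else 0) - ∑ i : Fin s, R l i * m i j) = 0 := by
      simp only [mul_sub, Finset.sum_sub_distrib, mul_ite, mul_one, mul_zero, Finset.sum_ite_eq',
        Finset.mem_univ, if_true, Finset.mul_sum]
      rw [Finset.sum_comm]
      have : ∀ i : Fin s, ∑ l : Fin (N + 1), m i' l * (R l i * m i j) =
          (if i' = i then 1 else 0) * m i j := by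
        intro i
        rw [← hR i' i, Finset.sum_mul]
        refine Finset.sum_congr rfl fun l _ => ?_
        ring
      simp only [this, ite_mul, one_mul, zero_mul, Finset.sum_ite_eq, Finset.mem_univ, if_true,
        sub_self]
    rw [this, map_zero]
  have e22 : T (Fin.last s) (Fin.last s) =
      (MvPolynomial.X j : MvPolynomial (Fin (N + 1)) A) - psi R (phi A N s m (MvPolynomial.X j)) := by
    rw [X_sub_psi_phi]
    simp only [hT, Matrix.mul_apply, Gmat, Hmat, Matrix.of_apply, Fin.snoc_last]
  have htri : T.BlockTriangular OrderDual.toDual := by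
    intro a b hab
    have hab' : a < b := hab
    induction b using Fin.lastCases with
    | last =>
      induction a using Fin.lastCases with
      | last => exact absurd hab' (lt_irrefl _)
      | cast i' => exact e12 i'
    | cast i =>
      induction a using Fin.lastCases with
      | last => exact absurd hab' (not_lt.2 (Fin.le_last _))
      | cast i' =>
        rw [e11, if_neg]
        intro h
        rw [h] at hab'
        exact lt_irrefl _ hab'
  have hdet : T.det = T (Fin.last s) (Fin.last s) := by
    rw [Matrix.det_of_lowerTriangular T htri, Fin.prod_univ_castSucc]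
    simp only [e11, if_true, Finset.prod_const_one, one_mul]
  rw [← e22, ← hdet]
  exact hmem

variable (A N s m) in
theorem ker_phi_eq_minorIdeal (hli : LinearIndependent A m)
    (hproj : Module.Projective A ((Fin (N + 1) → A) ⧸ Submodule.span A (Set.range m))) :
    RingHom.ker (phi A N s m) = minorIdeal A N s m := by
  apply le_antisymm _ (minorIdeal_le_ker A N s m)
  obtain ⟨R, hR⟩ := exists_retraction A N s m hli hproj
  intro g hg
  have h0 : phi A N s m g = 0 := hg
  have h1 := sub_psi_phi_mem (m := m) R g
  rw [h0, map_zero, sub_zero] at h1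
  refine (Ideal.span_le.2 ?_) h1
  rintro _ ⟨j, rfl⟩
  exact X_sub_psi_phi_mem R hR j

end Main


end Groth.Agent.Lib.Seat76.Minors
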