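import Mathlib

/-!
# Sections of `X ×_A A/J` over the preimage of an affine open (seat 76)

For `p : X ⟶ Spec A`, an ideal `J` of `A` and an affine open `W` of `X`, the sections of
`X ×_{Spec A} Spec (A/J)` over the preimage of `W` are `(A/J) ⊗_A Γ(X, W)`.
-/

set_option autoImplicit false
set_option linter.style.haveILetI false
universe u
open CategoryTheory CategoryTheory.Limits AlgebraicGeometry TopologicalSpace Opposite TensorProduct

namespace Groth.Agent.Lib.Seat76.NilpPO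

variable {X : Scheme.{u}} (A : CommRingCat.{u}) (p : X ⟶ Spec A) (J : Ideal ↑A)

/-- The closed immersion `Spec (A/J) ⟶ Spec A`. -/
noncomputable abbrev sJ : Spec (CommRingCat.of (↑A ⧸ J)) ⟶ Spec A :=
  Spec.map (CommRingCat.ofHom (Ideal.Quotient.mk J))

/-- The preimage of `W` in `X ×_A A/J`. -/
noncomputable abbrev preW (W : X.Opens) : (pullback p (sJ A J)).Opens :=
  pullback.fst p (sJ A J) ⁻¹ᵁ W ⊓ pullback.snd p (sJ A J) ⁻¹ᵁ ⊤

theorem preW_le_fst (W : X.Opens) : preW A p J W ≤ pullback.fst p (sJ A J) ⁻¹ᵁ W := inf_le_left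

theorem preW_le_snd (W : X.Opens) : preW A p J W ≤ pullback.snd p (sJ A J) ⁻¹ᵁ ⊤ := inf_le_right

theorem le_top_preimage (W : X.Opens) : W ≤ p ⁻¹ᵁ ⊤ := fun _ _ => trivial

theorem isAffineOpen_preW {W : X.Opens} (hW : IsAffineOpen W) : IsAffineOpen (preW A p J W) := by
  have hc : IsPullback (pullback.fst p (sJ A J)) (pullback.snd p (sJ A J)) p (sJ A J) :=
    IsPullback.of_hasPullback p (sJ A J)
  have hUST : (⊤ : (Spec (CommRingCat.of (↑A ⧸ J))).Opens) ≤ sJ A J ⁻¹ᵁ ⊤ := fun _ _ => trivial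
  have h1 : IsAffine (⊤ : (Spec A).Opens) := isAffineOpen_top _
  have h2 : IsAffine (⊤ : (Spec (CommRingCat.of (↑A ⧸ J))).Opens) := isAffineOpen_top _
  have h3 : IsAffine W := hW
  exact .of_isIso
    (Scheme.Hom.isPullback_resLE hc hUST (le_top_preimage A p W) rfl).isoPullback.hom

/-- The structure map `A ⟶ Γ(X, W)`. -/
noncomputable def αW (W : X.Opens) : A ⟶ Γ(X, W) :=
  (Scheme.ΓSpecIso A).inv ≫ p.appLE ⊤ W (le_top_preimage A p W)

/-- The structure map `A/J ⟶ Γ(X ×_A A/J, preimage of W)`. -/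
noncomputable def βW (W : X.Opens) :
    CommRingCat.of (↑A ⧸ J) ⟶ Γ(pullback p (sJ A J), preW A p J W) :=
  (Scheme.ΓSpecIso (CommRingCat.of (↑A ⧸ J))).inv ≫
    (pullback.snd p (sJ A J)).appLE ⊤ (preW A p J W) (preW_le_snd A p J W)

/-- The restriction map `Γ(X, W) ⟶ Γ(X ×_A A/J, preimage of W)`. -/
noncomputable def γW (W : X.Opens) : Γ(X, W) ⟶ Γ(pullback p (sJ A J), preW A p J W) :=
  (pullback.fst p (sJ A J)).appLE W (preW A p J W) (preW_le_fst A p J W)

theorem isPushout_sections {W : X.Opens} (hW : IsAffineOpen W) :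
    IsPushout (αW A p W) (CommRingCat.ofHom (Ideal.Quotient.mk J)) (γW A p J W) (βW A p J W) := by
  have hc : IsPullback (pullback.fst p (sJ A J)) (pullback.snd p (sJ A J)) p (sJ A J) :=
    IsPullback.of_hasPullback p (sJ A J)
  have hUST : (⊤ : (Spec (CommRingCat.of (↑A ⧸ J))).Opens) ≤ sJ A J ⁻¹ᵁ ⊤ := fun _ _ => trivial
  have hpo := (isIso_pushoutSection_iff hc hUST (le_top_preimage A p W)
    (rfl : preW A p J W = _)).1
    (isIso_pushoutSection_of_isAffineOpen hc hUST (le_top_preimage A p W) rfl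
      (isAffineOpen_top _) (isAffineOpen_top _) hW)
  refine hpo.of_iso (Scheme.ΓSpecIso A) (Iso.refl _)
    (Scheme.ΓSpecIso (CommRingCat.of (↑A ⧸ J))) (Iso.refl _) ?_ ?_ ?_ ?_
  · simp [αW]
  · have := Scheme.ΓSpecIso_naturality (CommRingCat.ofHom (Ideal.Quotient.mk J))
    refine Eq.trans ?_ this
    congr 1
  · simp [γW]
  · simp [βW]

/-- The sections over the preimage of `W` are `(A/J) ⊗_A Γ(X, W)`. -/
theorem exists_tensor_equiv {W : X.Opens} (hW : IsAffineOpen W) :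
    letI : Algebra ↑A Γ(X, W) := (αW A p W).hom.toAlgebra
    ∃ φ : (↑A ⧸ J) ⊗[↑A] Γ(X, W) ≃+ Γ(pullback p (sJ A J), preW A p J W),
      ∀ (a : ↑A ⧸ J) (r : Γ(X, W)),
        φ (a ⊗ₜ r) = (βW A p J W).hom a * (γW A p J W).hom r := by
  letI algAR : Algebra ↑A Γ(X, W) := (αW A p W).hom.toAlgebra
  letI algRR : Algebra Γ(X, W) Γ(pullback p (sJ A J), preW A p J W) :=
    (γW A p J W).hom.toAlgebra
  letI algBR : Algebra (↑A ⧸ J) Γ(pullback p (sJ A J), preW A p J W) :=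
    (βW A p J W).hom.toAlgebra
  letI algARb : Algebra ↑A Γ(pullback p (sJ A J), preW A p J W) :=
    ((γW A p J W).hom.comp (αW A p W).hom).toAlgebra
  haveI st1 : IsScalarTower ↑A Γ(X, W) Γ(pullback p (sJ A J), preW A p J W) :=
    .of_algebraMap_eq' rfl
  haveI st2 : IsScalarTower ↑A (↑A ⧸ J) Γ(pullback p (sJ A J), preW A p J W) :=
    .of_algebraMap_eq' (congrArg CommRingCat.Hom.hom (isPushout_sections A p J hW).w)
  have h3 : Algebra.IsPushout ↑A Γ(X, W) (↑A ⧸ J) Γ(pullback p (sJ A J), preW A p J W) :=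
    CommRingCat.isPushout_iff_isPushout.1 (isPushout_sections A p J hW)
  haveI hpush : Algebra.IsPushout ↑A (↑A ⧸ J) Γ(X, W)
      Γ(pullback p (sJ A J), preW A p J W) := h3.symm
  exact ⟨(Algebra.IsPushout.equiv ↑A (↑A ⧸ J) Γ(X, W)
    Γ(pullback p (sJ A J), preW A p J W)).toAddEquiv,
    fun a r => Algebra.IsPushout.equiv_tmul ↑A (↑A ⧸ J) Γ(X, W)
      Γ(pullback p (sJ A J), preW A p J W) a r⟩

end Groth.Agent.Lib.Seat76.NilpPO
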