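import Mathlib

/-!
# 1-generic bilinear maps over an algebraically closed field

A system of `w` bilinear forms on `k^m × k^n` with `w + 2 ≤ m + n` has a zero `(u, v)` with
`u ≠ 0` and `v ≠ 0`.  The proof works in the coordinate ring of the Segre cone
`k[x_i y_j] ⊆ k[x, y]`: the vertex has height at least `m + n - 1` (explicit chain of primes),
Krull's height theorem bounds the height of a minimal prime over the `w` linear forms by `w`,
the Jacobson property gives a maximal ideal different from the vertex, and the Nullstellensatz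
turns it into a nonzero point of the cone, i.e. a rank one matrix.
-/

namespace Groth.Agent.Lib.Seat76.OneGeneric

open MvPolynomial

universe u

section core

variable (k : Type u) [Field k] (m n : ℕ)

/-- The Segre map `z_{ij} ↦ x_i y_j`. -/
noncomputable def theta :
    MvPolynomial (Fin m × Fin n) k →ₐ[k] MvPolynomial (Fin m ⊕ Fin n) k :=
  aeval (fun p => X (Sum.inl p.1) * X (Sum.inr p.2))

/-- The order in which variables get killed: `x_0, …, x_{m-2}, y_0, …, y_{n-1}`; the variable
`x_{m-1}` is never killed. -/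
def rk : Fin m ⊕ Fin n → ℕ
  | Sum.inl i => if i.val + 1 < m then i.val else m + n
  | Sum.inr j => (m - 1) + j.val

/-- Kill the variables of rank `< t`. -/
noncomputable def rho (t : ℕ) :
    MvPolynomial (Fin m ⊕ Fin n) k →ₐ[k] MvPolynomial (Fin m ⊕ Fin n) k :=
  aeval (fun v => if rk m n v < t then 0 else X v)

lemma aeval_zero_theta (p : MvPolynomial (Fin m × Fin n) k) :
    aeval (0 : Fin m ⊕ Fin n → k) (theta k m n p) = aeval (0 : Fin m × Fin n → k) p := by
  have : (aeval (0 : Fin m ⊕ Fin n → k)).comp (theta k m n) = aeval (0 : Fin m × Fin n → k) := by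
    apply MvPolynomial.algHom_ext
    intro p
    simp [theta]
  exact DFunLike.congr_fun this p

lemma aeval_zero_rho (t : ℕ) (q : MvPolynomial (Fin m ⊕ Fin n) k) :
    aeval (0 : Fin m ⊕ Fin n → k) (rho k m n t q) = aeval (0 : Fin m ⊕ Fin n → k) q := by
  have : (aeval (0 : Fin m ⊕ Fin n → k)).comp (rho k m n t) = aeval (0 : Fin m ⊕ Fin n → k) := by
    apply MvPolynomial.algHom_ext
    intro v
    simp only [rho, AlgHom.comp_apply, aeval_X]
    split_ifs <;> simp
  exact DFunLike.congr_fun this q

lemma rho_succ_rho (t : ℕ) (q : MvPolynomial (Fin m ⊕ Fin n) k) :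
    rho k m n (t + 1) (rho k m n t q) = rho k m n (t + 1) q := by
  have : (rho k m n (t + 1)).comp (rho k m n t) = rho k m n (t + 1) := by
    apply MvPolynomial.algHom_ext
    intro v
    simp only [rho, AlgHom.comp_apply, aeval_X]
    by_cases h : rk m n v < t
    · have h' : rk m n v < t + 1 := by omega
      simp [h, h']
    · simp [h]
  exact DFunLike.congr_fun this q

lemma rho_theta_X (t : ℕ) (i : Fin m) (j : Fin n) :
    rho k m n t (theta k m n (X (i, j))) =
      (if rk m n (Sum.inl i) < t then 0 else X (Sum.inl i)) *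
        (if rk m n (Sum.inr j) < t then 0 else X (Sum.inr j)) := by
  simp [rho, theta]

/-- The linear form with coefficients `a`. -/
noncomputable def lin {w : ℕ} (a : Fin w → Fin m → Fin n → k) (r : Fin w) :
    MvPolynomial (Fin m × Fin n) k :=
  ∑ i, ∑ j, C (a r i j) * X (i, j)

lemma aeval_lin {w : ℕ} (a : Fin w → Fin m → Fin n → k) (r : Fin w) (c : Fin m × Fin n → k) :
    aeval c (lin k m n a r) = ∑ i, ∑ j, a r i j * c (i, j) := by
  simp [lin, map_sum]

theorem core_abstract [IsAlgClosed k] (hm : 0 < m) (hn : 0 < n) (w : ℕ) (hw : w + 2 ≤ m + n)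
    (a : Fin w → Fin m → Fin n → k)
    (B : Type u) [CommRing B] [IsNoetherianRing B] [IsJacobsonRing B]
    (π : MvPolynomial (Fin m × Fin n) k →+* B) (hπ : Function.Surjective π)
    (j : B →+* MvPolynomial (Fin m ⊕ Fin n) k) (hj : Function.Injective j)
    (hjπ : ∀ p, j (π p) = theta k m n p) :
    ∃ c : Fin m × Fin n → k, c ≠ 0 ∧
      (∀ i i' j j', c (i, j) * c (i', j') = c (i, j') * c (i', j)) ∧
      ∀ r, ∑ i, ∑ j, a r i j * c (i, j) = 0 := by
  classical
  -- evaluation at the vertex
  let ε : B →+* k := ((aeval (0 : Fin m ⊕ Fin n → k) :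
    MvPolynomial (Fin m ⊕ Fin n) k →ₐ[k] k) : MvPolynomial (Fin m ⊕ Fin n) k →+* k).comp j
  have hεπ : ∀ p, ε (π p) = aeval (0 : Fin m × Fin n → k) p := by
    intro p
    simp only [ε, RingHom.comp_apply, hjπ, RingHom.coe_coe]
    exact aeval_zero_theta k m n p
  have hεsurj : Function.Surjective ε := by
    intro c
    refine ⟨π (C c), ?_⟩
    rw [hεπ]
    simp
  let m0 : Ideal B := RingHom.ker ε
  have hm0max : m0.IsMaximal := RingHom.ker_isMaximal_of_surjective ε hεsurj
  have hm0prime : m0.IsPrime := hm0max.isPrime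
  -- the chain of primes
  let Q : ℕ → Ideal B := fun t =>
    RingHom.ker (((rho k m n t : MvPolynomial (Fin m ⊕ Fin n) k →ₐ[k] _) :
      MvPolynomial (Fin m ⊕ Fin n) k →+* MvPolynomial (Fin m ⊕ Fin n) k).comp j)
  have hQprime : ∀ t, (Q t).IsPrime := fun t => RingHom.ker_isPrime _
  have hQmem : ∀ t b, b ∈ Q t ↔ rho k m n t (j b) = 0 := by
    intro t b
    simp only [Q, RingHom.mem_ker, RingHom.comp_apply, RingHom.coe_coe]
  have hQle : ∀ t, Q t ≤ Q (t + 1) := by
    intro t b hb
    rw [hQmem] at hb ⊢
    rw [← rho_succ_rho, hb, map_zero]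
  have hQlt : ∀ t, t + 1 ≤ m + n - 1 → Q t < Q (t + 1) := by
    intro t ht
    refine lt_of_le_of_ne (hQle t) ?_
    intro heq
    by_cases htm : t + 1 < m
    · -- witness `z_{t,0}`
      let i : Fin m := ⟨t, by omega⟩
      let jj : Fin n := ⟨0, hn⟩
      have h1 : π (X (i, jj)) ∈ Q (t + 1) := by
        rw [hQmem, hjπ, rho_theta_X]
        have : rk m n (Sum.inl i) < t + 1 := by
          simp only [rk, i]
          rw [if_pos htm]
          omega
        rw [if_pos this, zero_mul]
      have h2 : π (X (i, jj)) ∉ Q t := by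
        rw [hQmem, hjπ, rho_theta_X]
        have hA : ¬ rk m n (Sum.inl i) < t := by
          simp only [rk, i]
          rw [if_pos htm]
          omega
        have hB : ¬ rk m n (Sum.inr jj) < t := by
          simp only [rk, jj]
          omega
        rw [if_neg hA, if_neg hB]
        exact mul_ne_zero (X_ne_zero _) (X_ne_zero _)
      exact h2 (heq ▸ h1)
    · -- witness `z_{m-1, t-(m-1)}`
      let i : Fin m := ⟨m - 1, by omega⟩
      let jj : Fin n := ⟨t - (m - 1), by omega⟩
      have hA : ∀ s, s ≤ m + n - 1 → ¬ rk m n (Sum.inl i) < s := by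
        intro s hs
        simp only [rk, i]
        have : ¬ (m - 1 + 1 < m) := by omega
        rw [if_neg this]
        omega
      have hBval : rk m n (Sum.inr jj) = t := by
        simp only [rk, jj]
        omega
      have h1 : π (X (i, jj)) ∈ Q (t + 1) := by
        rw [hQmem, hjπ, rho_theta_X]
        have : rk m n (Sum.inr jj) < t + 1 := by omega
        rw [if_pos this, mul_zero]
      have h2 : π (X (i, jj)) ∉ Q t := by
        rw [hQmem, hjπ, rho_theta_X]
        have hB : ¬ rk m n (Sum.inr jj) < t := by omega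
        rw [if_neg (hA t (by omega)), if_neg hB]
        exact mul_ne_zero (X_ne_zero _) (X_ne_zero _)
      exact h2 (heq ▸ h1)
  have hQheight : ∀ t, t ≤ m + n - 1 → (t : ℕ∞) ≤ (Q t).height := by
    intro t
    induction t with
    | zero => intro _; simp
    | succ t ih =>
      intro ht
      have h1 := ih (by omega)
      have : (Q t).IsPrime := hQprime t
      have : (Q (t + 1)).IsPrime := hQprime (t + 1)
      have h2 := Ideal.height_add_one_le_of_lt_of_isPrime (hQlt t ht)
      calc ((t + 1 : ℕ) : ℕ∞) = (t : ℕ∞) + 1 := by push_cast; rfl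
        _ ≤ (Q t).height + 1 := by gcongr
        _ ≤ (Q (t + 1)).height := h2
  have hQm0 : ∀ t, Q t ≤ m0 := by
    intro t b hb
    rw [hQmem] at hb
    simp only [m0, RingHom.mem_ker, ε, RingHom.comp_apply, RingHom.coe_coe]
    rw [← aeval_zero_rho k m n t, hb, map_zero]
  have hm0height : ((m + n - 1 : ℕ) : ℕ∞) ≤ m0.height :=
    (hQheight _ le_rfl).trans (Ideal.height_mono (hQm0 _))
  -- the ideal of the linear forms
  let l : Fin w → B := fun r => π (lin k m n a r)
  let J : Ideal B := Ideal.span (Set.range l)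
  have hJ : J ≤ m0 := by
    rw [Ideal.span_le]
    rintro _ ⟨r, rfl⟩
    simp only [SetLike.mem_coe, m0, RingHom.mem_ker, l]
    rw [hεπ, aeval_lin]
    simp
  obtain ⟨P, hPmin, hPle⟩ := Ideal.exists_minimalPrimes_le hJ
  have hPprime : P.IsPrime := hPmin.1.1
  have hPheight : P.height ≤ w := by
    have h1 : P ∈ (Ideal.span ((Finset.univ.image l : Finset B) : Set B)).minimalPrimes := by
      simpa [J] using hPmin
    have h2 := Ideal.height_le_card_of_mem_minimalPrimes_span_finset h1
    refine h2.trans ?_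
    have : (Finset.univ.image l).card ≤ w := by
      simpa using (Finset.card_image_le (s := (Finset.univ : Finset (Fin w))) (f := l))
    exact_mod_cast this
  have hPne : P ≠ m0 := by
    intro h
    rw [h] at hPheight
    have h3 : ((m + n - 1 : ℕ) : ℕ∞) ≤ (w : ℕ∞) := hm0height.trans hPheight
    have h4 : m + n - 1 ≤ w := by exact_mod_cast h3
    omega
  -- a maximal ideal different from the vertex
  obtain ⟨M, hMmax, hPM, hMne⟩ : ∃ M : Ideal B, M.IsMaximal ∧ P ≤ M ∧ M ≠ m0 := by
    by_contra hall
    push Not at hall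
    have hjac : P.jacobson = P := IsJacobsonRing.out inferInstance hPprime.isRadical
    have hle : m0 ≤ P.jacobson := by
      unfold Ideal.jacobson
      apply le_sInf
      rintro M ⟨hPM, hM⟩
      rw [hall M hM hPM]
    rw [hjac] at hle
    exact hPne (le_antisymm hPle hle)
  have hMA : (Ideal.comap π M).IsMaximal := Ideal.comap_isMaximal_of_surjective π hπ
  obtain ⟨c, hc⟩ := (MvPolynomial.isMaximal_iff_eq_vanishingIdeal_singleton).mp hMA
  have hmem : ∀ p, π p ∈ M ↔ aeval c p = 0 := by
    intro p
    rw [← Ideal.mem_comap, hc, mem_vanishingIdeal_singleton_iff]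
  refine ⟨c, ?_, ?_, ?_⟩
  · intro h0
    apply hMne
    apply Ideal.comap_injective_of_surjective π hπ
    ext p
    rw [Ideal.mem_comap, hmem, h0, Ideal.mem_comap, RingHom.mem_ker, hεπ]
  · intro i i' j₁ j₂
    have hz : π (X (i, j₁) * X (i', j₂) - X (i, j₂) * X (i', j₁)) = 0 := by
      apply hj
      rw [hjπ, map_zero]
      simp only [theta, map_sub, map_mul, aeval_X]
      ring
    have := (hmem _).mp (hz ▸ M.zero_mem)
    simp only [map_sub, map_mul, aeval_X] at this
    exact sub_eq_zero.mp this
  · intro r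
    have h1 : π (lin k m n a r) ∈ M := hPM (hPmin.1.2 (Ideal.subset_span ⟨r, rfl⟩))
    have := (hmem _).mp h1
    rwa [aeval_lin] at this

/-- Existence of a nonzero point of the Segre cone on which the `w` linear forms vanish. -/
theorem core [IsAlgClosed k] (hm : 0 < m) (hn : 0 < n) (w : ℕ) (hw : w + 2 ≤ m + n)
    (a : Fin w → Fin m → Fin n → k) :
    ∃ c : Fin m × Fin n → k, c ≠ 0 ∧
      (∀ i i' j j', c (i, j) * c (i', j') = c (i, j') * c (i', j)) ∧
      ∀ r, ∑ i, ∑ j, a r i j * c (i, j) = 0 := by
  let f : MvPolynomial (Fin m × Fin n) k →+* MvPolynomial (Fin m ⊕ Fin n) k :=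
    (theta k m n : MvPolynomial (Fin m × Fin n) k →+* MvPolynomial (Fin m ⊕ Fin n) k)
  refine core_abstract k m n hm hn w hw a (MvPolynomial (Fin m × Fin n) k ⧸ RingHom.ker f)
    (Ideal.Quotient.mk _) Ideal.Quotient.mk_surjective (RingHom.kerLift f)
    (RingHom.kerLift_injective f) ?_
  intro p
  rfl

/-- `w` bilinear forms on `k^m × k^n` with `w + 2 ≤ m + n` have a common zero `(u, v)` with
`u ≠ 0` and `v ≠ 0`. -/
theorem exists_bilinear_zero [IsAlgClosed k] (hm : 0 < m) (hn : 0 < n) (w : ℕ)
    (hw : w + 2 ≤ m + n) (a : Fin w → Fin m → Fin n → k) :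
    ∃ (u : Fin m → k) (v : Fin n → k), u ≠ 0 ∧ v ≠ 0 ∧
      ∀ r, ∑ i, ∑ j, a r i j * (u i * v j) = 0 := by
  obtain ⟨c, hc0, hrel, hlin⟩ := core k m n hm hn w hw a
  obtain ⟨⟨i0, j0⟩, h0⟩ : ∃ p, c p ≠ 0 := by
    by_contra h
    push Not at h
    exact hc0 (funext h)
  refine ⟨fun i => c (i, j0), fun j => c (i0, j), ?_, ?_, ?_⟩
  · intro h
    exact h0 (congrFun h i0)
  · intro h
    exact h0 (congrFun h j0)
  · intro r
    have : ∀ i j, a r i j * (c (i, j0) * c (i0, j)) = c (i0, j0) * (a r i j * c (i, j)) := by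
      intro i j
      have := hrel i i0 j j0
      calc a r i j * (c (i, j0) * c (i0, j)) = a r i j * (c (i, j) * c (i0, j0)) := by rw [this]
        _ = c (i0, j0) * (a r i j * c (i, j)) := by ring
    simp only [this, ← Finset.mul_sum, hlin r, mul_zero]

end core

/-- The dimension bound for 1-generic bilinear maps. -/
theorem finrank_bound {k : Type u} [Field k] [IsAlgClosed k] {U V W : Type*}
    [AddCommGroup U] [Module k U] [AddCommGroup V] [Module k V] [AddCommGroup W] [Module k W]
    [Module.Finite k U] [Module.Finite k V] [Module.Finite k W] [Nontrivial U] [Nontrivial V]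
    (φ : U →ₗ[k] V →ₗ[k] W) (hφ : ∀ (a : U) (b : V), a ≠ 0 → b ≠ 0 → φ a b ≠ 0) :
    Module.finrank k U + Module.finrank k V ≤ Module.finrank k W + 1 := by
  classical
  by_contra hlt
  push Not at hlt
  set m := Module.finrank k U with hm_def
  set n := Module.finrank k V with hn_def
  set w := Module.finrank k W with hw_def
  have hm : 0 < m := Module.finrank_pos
  have hn : 0 < n := Module.finrank_pos
  let bU := Module.finBasis k U
  let bV := Module.finBasis k V
  let bW := Module.finBasis k W
  obtain ⟨u, v, hu, hv, huv⟩ := exists_bilinear_zero k m n hm hn w (by omega)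
    (fun r i j => bW.repr (φ (bU i) (bV j)) r)
  let x : U := ∑ i, u i • bU i
  let y : V := ∑ j, v j • bV j
  have hx : x ≠ 0 := by
    intro h
    apply hu
    have := (Fintype.linearIndependent_iff.mp bU.linearIndependent) u h
    exact funext this
  have hy : y ≠ 0 := by
    intro h
    apply hv
    have := (Fintype.linearIndependent_iff.mp bV.linearIndependent) v h
    exact funext this
  apply hφ x y hx hy
  apply bW.repr.injective
  rw [map_zero]
  ext r
  simp only [x, y, map_sum, map_smul, LinearMap.sum_apply, LinearMap.smul_apply,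
    Finsupp.coe_finsetSum, Finsupp.coe_smul, Finset.sum_apply, Pi.smul_apply, smul_eq_mul,
    Finsupp.coe_zero, Pi.zero_apply]
  rw [← huv r]
  rw [Finset.sum_comm]
  refine Finset.sum_congr rfl fun i _ => ?_
  rw [Finset.mul_sum]
  refine Finset.sum_congr rfl fun j _ => ?_
  ring

end Groth.Agent.Lib.Seat76.OneGeneric
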