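import Mathlib.RingTheory.PicardGroup
import Mathlib.LinearAlgebra.TensorPower.Basic
import Mathlib.LinearAlgebra.Matrix.Determinant.Basic
import Mathlib.RingTheory.Nilpotent.Basic
import Mathlib.RingTheory.Nilpotent.Lemmas

/-!
# If `N^n ≃ R^n` for an invertible module `N` then `[N]^n = 1` in `Pic R`

The proof is by the determinant: the multilinear map `x ↦ det (e_{ij}(x_j))` gives a linear map
`N^{⊗ n} → R`, which is shown to be surjective (hence bijective, both sides being invertible).
-/

set_option autoImplicit false

namespace Groth.Agent.Lib.Seat76.PicPow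

open TensorProduct Function

universe u v

section TensorPow

variable {R : Type u} [CommRing R] (N : Type v) [AddCommGroup N] [Module R N]
  [Module.Invertible R N]

/-- The tensor powers of an invertible module are invertible and represent the powers of its class
in the Picard group. -/
theorem tpow_invertible_and_mk (n : ℕ) :
    ∃ h : Module.Invertible R (⨂[R]^n N),
      @CommRing.Pic.mk R (⨂[R]^n N) _ _ _ h = CommRing.Pic.mk R N ^ n := by
  induction n with
  | zero =>
    have e : (⨂[R]^0 N) ≃ₗ[R] R := PiTensorProduct.isEmptyEquiv (Fin 0)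
    have h : Module.Invertible R (⨂[R]^0 N) := Module.Invertible.congr e.symm
    refine ⟨h, ?_⟩
    rw [pow_zero]
    exact CommRing.Pic.mk_eq_one_iff.mpr ⟨e⟩
  | succ n ih =>
    obtain ⟨h, hmk⟩ := ih
    have e1 : (⨂[R]^1 N) ≃ₗ[R] N := PiTensorProduct.subsingletonEquiv 0
    have e : (⨂[R]^n N) ⊗[R] N ≃ₗ[R] ⨂[R]^(n + 1) N :=
      (TensorProduct.congr (LinearEquiv.refl R _) e1.symm).trans TensorPower.mulEquiv
    have h' : Module.Invertible R (⨂[R]^(n + 1) N) := Module.Invertible.congr e
    refine ⟨h', ?_⟩
    rw [pow_succ, ← hmk, ← CommRing.Pic.mk_tensor]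
    exact CommRing.Pic.mk_eq_mk_iff.mpr ⟨e.symm⟩

end TensorPow

section Alt

variable {R : Type u} [CommRing R] {ι m : Type*} [Fintype m] [DecidableEq m] [DecidableEq ι]

/-- An alternating form on `(m → R)`, evaluated on a family with two "proportional" rows
(all `2 × 2` minors of the two rows vanish), squares to zero. -/
theorem alt_sq_zero (g : (m → R) [⋀^ι]→ₗ[R] R) (v : ι → m → R) (k k' : ι) (hkk : k ≠ k')
    (h : ∀ i i', v k i * v k' i' = v k i' * v k' i) : g v * g v = 0 := by
  have h1 : ∀ i', v k' i' * g v = 0 := by
    intro i'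
    have hv : v k' i' • v k = v k i' • v k' := by
      funext i
      simp only [Pi.smul_apply, smul_eq_mul]
      rw [mul_comm, h i i']
    have e1 : v k' i' * g v = g (update v k (v k' i' • v k)) := by
      rw [g.map_update_smul, update_eq_self, smul_eq_mul]
    have e2 : g (update v k (v k')) = 0 := by
      apply g.map_eq_zero_of_eq _ _ hkk
      rw [update_self, update_of_ne hkk.symm]
    rw [e1, hv, g.map_update_smul, e2, smul_zero]
  have h2 : g v = ∑ i', v k' i' * g (update v k' (Pi.single i' 1)) := by
    have hsum : v k' = ∑ i', v k' i' • (Pi.single i' (1 : R) : m → R) := by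
      funext i
      simp [Finset.sum_apply, Pi.single_apply]
    conv_lhs => rw [← update_eq_self k' v, hsum]
    change g.toMultilinearMap _ = _
    rw [g.toMultilinearMap.map_update_sum]
    refine Finset.sum_congr rfl fun i' _ => ?_
    rw [MultilinearMap.map_update_smul, smul_eq_mul]
    rfl
  calc g v * g v = (∑ i', v k' i' * g (update v k' (Pi.single i' 1))) * g v := by rw [← h2]
    _ = ∑ i', (v k' i' * g v) * g (update v k' (Pi.single i' 1)) := by
        rw [Finset.sum_mul]
        refine Finset.sum_congr rfl fun i' _ => ?_
        ring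
    _ = 0 := by simp [h1]

end Alt

section Det

variable {R : Type u} [CommRing R] {N : Type v} [AddCommGroup N] [Module R N]

/-- For an invertible module, `α u * β u' = α u' * β u` for linear forms `α β`. -/
theorem form_comm [Module.Invertible R N] (α β : N →ₗ[R] R) (u u' : N) :
    α u * β u' = α u' * β u := by
  have h := congrArg (TensorProduct.lift ((LinearMap.mul R R).compl₁₂ α β))
    (Module.Invertible.tmul_comm (R := R) (m₁ := u) (m₂ := u'))
  simpa using h

variable {n : ℕ} (e : (Fin n → N) ≃ₗ[R] (Fin n → R))

/-- `u ↦ e (single j u)`, the `j`-th "column block" of `e`. -/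
noncomputable def rowMap (j : Fin n) : N →ₗ[R] (Fin n → R) :=
  e.toLinearMap ∘ₗ LinearMap.single R (fun _ : Fin n => N) j

/-- `x ↦ det (e (single j (x j)) i)` as a multilinear map. -/
noncomputable def detMulti : MultilinearMap R (fun _ : Fin n => N) R :=
  (Matrix.detRowAlternating (n := Fin n) (R := R)).toMultilinearMap.compLinearMap (rowMap e)

/-- The induced linear map on the tensor power. -/
noncomputable def detLin : (⨂[R]^n N) →ₗ[R] R := PiTensorProduct.lift (detMulti e)

theorem detLin_tprod (x : Fin n → N) :
    detLin e (PiTensorProduct.tprod R x) =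
      Matrix.detRowAlternating (n := Fin n) (R := R) (fun j => rowMap e j (x j)) := by
  unfold detLin
  rw [PiTensorProduct.lift.tprod]
  rfl

theorem sum_rowMap (y : Fin n → N) : ∑ j, rowMap e j (y j) = e y := by
  unfold rowMap
  simp only [LinearMap.coe_comp, LinearEquiv.coe_coe, comp_apply, LinearMap.coe_single]
  rw [← map_sum]
  congr 1
  funext i
  simp [Finset.sum_apply, Pi.single_apply]

theorem detLin_surjective [Module.Invertible R N] : Function.Surjective (detLin e) := by
  classical
  set f := (Matrix.detRowAlternating (n := Fin n) (R := R)) with hf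
  set I : Ideal R := LinearMap.range (detLin e) with hI
  -- the preimages of the standard basis
  let y : Fin n → Fin n → N := fun k => e.symm (Pi.single k 1)
  have hy : ∀ k, ∑ j, rowMap e j (y k j) = Pi.single k 1 := by
    intro k
    rw [sum_rowMap]
    exact e.apply_symm_apply _
  have hone : f (fun k => ∑ j, rowMap e j (y k j)) = 1 := by
    have : (fun k => ∑ j, rowMap e j (y k j)) = (1 : Matrix (Fin n) (Fin n) R) := by
      funext k
      rw [hy k]
      funext i
      simp [Matrix.one_apply, Pi.single_apply, eq_comm]
    rw [this]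
    exact Matrix.det_one
  have hexp := f.toMultilinearMap.map_sum (fun (k : Fin n) (j : Fin n) => rowMap e j (y k j))
  have hexp' : (1 : R) = ∑ r : Fin n → Fin n, f (fun k => rowMap e (r k) (y k (r k))) := by
    rw [← hone]
    exact hexp
  -- split the sum
  have hinj : ∀ r : Fin n → Fin n, Function.Injective r →
      f (fun k => rowMap e (r k) (y k (r k))) ∈ I := by
    intro r hr
    have hbij : Function.Bijective r := Finite.injective_iff_bijective.mp hr
    let σ : Equiv.Perm (Fin n) := Equiv.ofBijective r hbij
    let x : Fin n → N := fun j => y (σ.symm j) j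
    have hfun : (fun k => rowMap e (r k) (y k (r k))) = (fun j => rowMap e j (x j)) ∘ σ := by
      funext k
      simp only [comp_apply, x]
      have : σ k = r k := rfl
      rw [this]
      have h2 : σ.symm (r k) = k := by
        rw [← this]; exact σ.symm_apply_apply k
      rw [h2]
    rw [hfun, f.map_perm, ← detLin_tprod]
    exact I.smul_of_tower_mem _ ⟨_, rfl⟩
  have hninj : ∀ r : Fin n → Fin n, ¬ Function.Injective r →
      IsNilpotent (f (fun k => rowMap e (r k) (y k (r k)))) := by
    intro r hr
    rw [Function.Injective] at hr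
    push Not at hr
    obtain ⟨k, k', hrr, hkk⟩ := hr
    refine ⟨2, ?_⟩
    rw [pow_two]
    apply alt_sq_zero f _ k k' hkk
    intro i i'
    rw [← hrr]
    exact (form_comm ((LinearMap.proj i).comp (rowMap e (r k)))
      ((LinearMap.proj i').comp (rowMap e (r k))) (y k (r k)) (y k' (r k))).trans (mul_comm _ _)
  have hsplit : (1 : R) =
      (∑ r ∈ Finset.univ.filter (fun r : Fin n → Fin n => Function.Injective r),
        f (fun k => rowMap e (r k) (y k (r k)))) +
      (∑ r ∈ Finset.univ.filter (fun r : Fin n → Fin n => ¬ Function.Injective r),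
        f (fun k => rowMap e (r k) (y k (r k)))) := by
    rw [hexp']
    exact (Finset.sum_filter_add_sum_filter_not _ _ _).symm
  set a := ∑ r ∈ Finset.univ.filter (fun r : Fin n → Fin n => Function.Injective r),
        f (fun k => rowMap e (r k) (y k (r k))) with ha
  set ν := ∑ r ∈ Finset.univ.filter (fun r : Fin n → Fin n => ¬ Function.Injective r),
        f (fun k => rowMap e (r k) (y k (r k))) with hν
  have haI : a ∈ I := I.sum_mem fun r hr => hinj r (Finset.mem_filter.mp hr).2
  have hνn : IsNilpotent ν := isNilpotent_sum fun r hr => hninj r (Finset.mem_filter.mp hr).2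
  have hunit : IsUnit a := by
    have : a = 1 - ν := by rw [hsplit]; ring
    rw [this]
    exact hνn.isUnit_one_sub
  have htop : I = ⊤ := Ideal.eq_top_of_isUnit_mem I haI hunit
  rw [← LinearMap.range_eq_top]
  exact htop

include e in
/-- **Main result**: if `N^n ≃ R^n` then `[N]^n = 1`. -/
theorem pic_mk_pow_eq_one [Module.Invertible R N] : CommRing.Pic.mk R N ^ n = 1 := by
  obtain ⟨h, hmk⟩ := tpow_invertible_and_mk (R := R) N n
  rw [← hmk]
  have hbij : Function.Bijective (detLin e) :=
    Module.Invertible.bijective_of_surjective (detLin_surjective e)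
  exact CommRing.Pic.mk_eq_one_iff.mpr ⟨LinearEquiv.ofBijective (detLin e) hbij⟩

end Det

end Groth.Agent.Lib.Seat76.PicPow
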