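import Groth.Prelude.Def_Algz

set_option autoImplicit false

universe v u

open CategoryTheory CategoryTheory.Limits Opposite

namespace Groth.Agent.Lib.Seat76.ProML

section General

variable {C : Type u} [Category.{v} C]

theorem tr_comp (X : ARSys.PS C) {n k l : ℕ} (h₁ : n ≤ k) (h₂ : k ≤ l) :
    ARSys.tr X h₂ ≫ ARSys.tr X h₁ = ARSys.tr X (h₁.trans h₂) := by
  unfold ARSys.tr
  rw [← X.map_comp]
  rfl

variable [Abelian C]

theorem imageSubobject_epi_comp {P Q R : C} (f : P ⟶ Q) [Epi f] (g : Q ⟶ R) :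
    imageSubobject (f ≫ g) = imageSubobject g := by
  apply le_antisymm (imageSubobject_comp_le f g)
  have : Epi (Subobject.ofLE _ _ (imageSubobject_comp_le f g)) := inferInstance
  have hm : Mono (Subobject.ofLE _ _ (imageSubobject_comp_le f g)) := inferInstance
  have hi : IsIso (Subobject.ofLE _ _ (imageSubobject_comp_le f g)) := isIso_of_mono_of_epi _
  exact Subobject.le_of_comm (inv (Subobject.ofLE _ _ (imageSubobject_comp_le f g))) (by simp)

/-- Clean form of the Mittag-Leffler criterion. -/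
theorem isML_of_proIso_aux (X Y : ARSys.PS C) (m : ℕ → ℕ) (hm : Monotone m) (hmn : ∀ n, n ≤ m n)
    (a : ∀ n, X.obj (op (m n)) ⟶ Y.obj (op n))
    (nat : ∀ (n k : ℕ) (h : n ≤ k), a k ≫ ARSys.tr Y h = ARSys.tr X (hm h) ≫ a n)
    (pro : ∀ n, ∃ (m1 : ℕ) (h : n ≤ m1) (b : Y.obj (op m1) ⟶ X.obj (op (m n))),
      a m1 ≫ b = ARSys.tr X (hm h) ∧ b ≫ a n = ARSys.tr Y h)
    (hY : ∀ (n k : ℕ) (h : n ≤ k), Epi (ARSys.tr Y h)) : ARSys.IsML X := by
  intro n
  obtain ⟨m1, h1, b1, hb1, hb1'⟩ := pro n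
  have key : ∀ k (hk : m m1 ≤ k) (hnk : n ≤ k),
      imageSubobject (ARSys.tr X hnk) = imageSubobject (b1 ≫ ARSys.tr X (hmn n)) := by
    intro k hk hnk
    have hm1k : m1 ≤ k := (hmn m1).trans hk
    apply le_antisymm
    · have e : ARSys.tr X hnk = (ARSys.tr X hk ≫ a m1) ≫ (b1 ≫ ARSys.tr X (hmn n)) := by
        rw [Category.assoc, ← Category.assoc (a m1), hb1, tr_comp, tr_comp]
      rw [e]
      exact imageSubobject_comp_le _ _
    · obtain ⟨m3, h3, b3, hb3, hb3'⟩ := pro k
      have hE : Epi (ARSys.tr Y (hm1k.trans h3)) := hY _ _ _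
      have e : ARSys.tr Y (hm1k.trans h3) ≫ (b1 ≫ ARSys.tr X (hmn n)) =
          (b3 ≫ ARSys.tr X (hmn k)) ≫ ARSys.tr X hnk := by
        have e1 : ARSys.tr Y (hm1k.trans h3) = b3 ≫ a k ≫ ARSys.tr Y hm1k := by
          rw [← Category.assoc, hb3', tr_comp]
        rw [e1, nat m1 k hm1k]
        simp only [Category.assoc]
        rw [← Category.assoc (a m1), hb1, tr_comp, tr_comp, tr_comp]
      rw [← imageSubobject_epi_comp (ARSys.tr Y (hm1k.trans h3)) (b1 ≫ ARSys.tr X (hmn n)), e]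
      exact imageSubobject_comp_le _ _
  refine ⟨m m1, fun s hs => ?_⟩
  have h₁ : imageSubobject (ARSys.shiftMap X s n) = imageSubobject (b1 ≫ ARSys.tr X (hmn n)) :=
    key (n + s) (hs.trans (Nat.le_add_left _ _)) (Nat.le_add_right _ _)
  have h₂ : imageSubobject (ARSys.shiftMap X (m m1) n) =
      imageSubobject (b1 ≫ ARSys.tr X (hmn n)) :=
    key (n + m m1) (Nat.le_add_left _ _) (Nat.le_add_right _ _)
  rw [h₁, h₂]

/-- A system receiving a pro-isomorphism (after reindexing) to a system with epimorphic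
transition maps satisfies the Mittag-Leffler condition. -/
theorem isML_of_proIso (X Y : ARSys.PS C) (m : ℕ → ℕ) (hm : Monotone m) (hmn : ∀ n, n ≤ m n)
    (a : DerCA.reindex X hm ⟶ Y) (ha : DerCA.IsProIso a)
    (hY : ∀ (n k : ℕ) (h : n ≤ k), Epi (ARSys.tr Y h)) : ARSys.IsML X :=
  isML_of_proIso_aux X Y m hm hmn (fun n => a.app (op n))
    (fun n k h => (a.naturality (homOfLE h).op).symm) ha hY

end General

section Affine

open AlgebraicGeometry

variable {R : CommRingCat.{u}}

/-- Global sections preserve epimorphisms between quasi-coherent modules on an affine scheme. -/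
theorem epi_Γ_map (M N : (Spec R).Modules) [M.IsQuasicoherent] [N.IsQuasicoherent]
    (f : M ⟶ N) [Epi f] : Epi ((moduleSpecΓFunctor (R := R)).map f) := by
  have nat := (Scheme.Modules.fromTildeΓNatTrans (R := R)).naturality f
  have hM : IsIso ((Scheme.Modules.fromTildeΓNatTrans (R := R)).app M) :=
    Scheme.Modules.isIso_fromTildeΓ_of_isQuasicoherent M
  have hN : IsIso ((Scheme.Modules.fromTildeΓNatTrans (R := R)).app N) :=
    Scheme.Modules.isIso_fromTildeΓ_of_isQuasicoherent N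
  have e : (tilde.functor R).map ((moduleSpecΓFunctor (R := R)).map f) =
      (Scheme.Modules.fromTildeΓNatTrans (R := R)).app M ≫ f ≫
        inv ((Scheme.Modules.fromTildeΓNatTrans (R := R)).app N) := by
    rw [← Category.assoc, IsIso.eq_comp_inv]
    exact nat
  have hE : Epi ((tilde.functor R).map ((moduleSpecΓFunctor (R := R)).map f)) := by
    rw [e]
    infer_instance
  exact (tilde.functor R).epi_of_epi_map hE

end Affine

section CohFormal

open AlgebraicGeometry

variable {A : Type u} [CommRing A] {X : Scheme.{u}} [X.Over (Spec (CommRingCat.of A))]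

theorem epi_tr_of_isCohFormal (I : Ideal A) (G : ℕᵒᵖ ⥤ X.Modules) (hG : Formal.IsCohFormal I G)
    (n k : ℕ) (h : n ≤ k) : Epi (ARSys.tr G h) := by
  induction k, h using Nat.le_induction with
  | base =>
    have : ARSys.tr G (le_refl n) = 𝟙 _ := by
      unfold ARSys.tr
      rw [← G.map_id]
      rfl
    rw [this]
    infer_instance
  | succ k hk ih =>
    obtain ⟨h0, hiso⟩ := hG.2.2 k
    have e1 : ARSys.tr G (Nat.le_succ k) =
        cokernel.π _ ≫ cokernel.desc _ (G.map (homOfLE (Nat.le_succ k)).op) h0 := by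
      rw [cokernel.π_desc]
    have hE : Epi (ARSys.tr G (Nat.le_succ k)) := by
      rw [e1]
      infer_instance
    have e2 := tr_comp G hk (Nat.le_succ k)
    have : Epi (ARSys.tr G (Nat.le_succ k) ≫ ARSys.tr G hk) := epi_comp _ _
    rw [e2] at this
    exact this

end CohFormal

section Main

open AlgebraicGeometry

variable (A : Type u) [CommRing A]

theorem isML_sectMod (I : Ideal A) (U : (Spec (CommRingCat.of A)).Opens)
    (G : ℕᵒᵖ ⥤ (U : Scheme.{u}).Modules)
    (h : Algz.CanonicallyExtends A I U G) : ARSys.IsML (Algz.sectMod A U G) := by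
  obtain ⟨G', hG', m, hm, hmn, a, ha⟩ := h
  let Γ := moduleSpecΓFunctor (R := CommRingCat.of A)
  let T := tilde.functor (CommRingCat.of A)
  let τ : 𝟭 _ ≅ T ⋙ Γ := tilde.toTildeΓNatIso (R := CommRingCat.of A)
  let X := Algz.sectMod A U G
  -- components of the pro-isomorphism, with clean types
  let a0 : ∀ n, T.obj (X.obj (op (m n))) ⟶ G'.obj (op n) := fun n => a.app (op n)
  have a0_nat : ∀ (n k : ℕ) (h : n ≤ k),
      a0 k ≫ ARSys.tr G' h = T.map (ARSys.tr X (hm h)) ≫ a0 n :=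
    fun n k h => (a.naturality (homOfLE h).op).symm
  have τ_nat : ∀ {P Q : ModuleCat.{u} A} (f : P ⟶ Q),
      f ≫ τ.hom.app Q = τ.hom.app P ≫ Γ.map (T.map f) := fun f => τ.hom.naturality f
  refine isML_of_proIso_aux X (G' ⋙ Γ) m hm hmn
    (fun n => τ.hom.app (X.obj (op (m n))) ≫ Γ.map (a0 n)) ?_ ?_ ?_
  · intro n k h
    change (τ.hom.app (X.obj (op (m k))) ≫ Γ.map (a0 k)) ≫ Γ.map (ARSys.tr G' h) =
      ARSys.tr X (hm h) ≫ τ.hom.app (X.obj (op (m n))) ≫ Γ.map (a0 n)
    rw [Category.assoc, ← Γ.map_comp, a0_nat, Γ.map_comp, ← Category.assoc, ← τ_nat,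
      Category.assoc]
  · intro n
    obtain ⟨m1, h1, b1, hb, hb'⟩ := ha n
    let b : G'.obj (op m1) ⟶ T.obj (X.obj (op (m n))) := b1
    have hb0 : a0 m1 ≫ b = T.map (ARSys.tr X (hm h1)) := hb
    have hb0' : b ≫ a0 n = ARSys.tr G' h1 := hb'
    refine ⟨m1, h1, Γ.map b ≫ τ.inv.app (X.obj (op (m n))), ?_, ?_⟩
    · rw [Category.assoc, ← Category.assoc (Γ.map (a0 m1)), ← Γ.map_comp, hb0,
        ← Category.assoc, ← τ_nat, Category.assoc, Iso.hom_inv_id_app]
      exact Category.comp_id _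
    · change (Γ.map b ≫ τ.inv.app (X.obj (op (m n)))) ≫
        τ.hom.app (X.obj (op (m n))) ≫ Γ.map (a0 n) = Γ.map (ARSys.tr G' h1)
      rw [Category.assoc, Iso.inv_hom_id_app_assoc, ← Γ.map_comp, hb0']
  · intro n k h
    have hn : (G'.obj (op n)).IsQuasicoherent := (hG'.1 n).1
    have hk : (G'.obj (op k)).IsQuasicoherent := (hG'.1 k).1
    have hE : Epi (ARSys.tr G' h) :=
      @epi_tr_of_isCohFormal A _ (Spec (CommRingCat.of A)) ⟨𝟙 _⟩ I G' hG' n k h
    exact epi_Γ_map (R := CommRingCat.of A) _ _ (ARSys.tr G' h)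

end Main

end Groth.Agent.Lib.Seat76.ProML
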