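import Mathlib
import Groth.Agent.Lib.Helper20OmegaAff

/-!
# A natural comparison for sections of a pullback module over affine opens

For `g : X' ⟶ X`, affine opens `U ⊆ X`, `W ⊆ X'` with `W ≤ g⁻¹U`, `A = Γ(X,U)`, `B = Γ(X',W)`:
a natural transformation `tau` from `F ↦ B ⊗_A Γ(Spec A, F|_U)` to `F ↦ Γ(Spec B, (g^*F)|_W)`,
which is an isomorphism on quasi-coherent modules.
-/

set_option autoImplicit false
universe u
open CategoryTheory AlgebraicGeometry Limits Opposite TopologicalSpace
open Groth.Agent.Lib.Helper20.OmegaAff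

namespace Groth.Agent.Lib.Seat76.PullSec

variable {X' X : Scheme.{u}} (g : X' ⟶ X) {U : X.Opens} (hU : IsAffineOpen U) {W : X'.Opens}
  (hW : IsAffineOpen W) (e : W ≤ g ⁻¹ᵁ U)

/-- restriction to `W` of the pullback is the pullback along `Spec B ⟶ Spec A` of the restriction
to `U` (natural isomorphism of functors) -/
noncomputable def restrictPullbackNatIso :
    Scheme.Modules.pullback g ⋙ Scheme.Modules.restrictFunctor hW.fromSpec ≅
      Scheme.Modules.restrictFunctor hU.fromSpec ⋙
        Scheme.Modules.pullback (Spec.map (g.appLE U W e)) :=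
  Functor.isoWhiskerLeft _ (Scheme.Modules.restrictFunctorIsoPullback hW.fromSpec) ≪≫
    Scheme.Modules.pullbackComp hW.fromSpec g ≪≫
    Scheme.Modules.pullbackCongr (IsAffineOpen.SpecMap_appLE_fromSpec g hU hW e).symm ≪≫
    (Scheme.Modules.pullbackComp (Spec.map (g.appLE U W e)) hU.fromSpec).symm ≪≫
    Functor.isoWhiskerRight (Scheme.Modules.restrictFunctorIsoPullback hU.fromSpec).symm _

/-- sections over `U` as a `Γ(X,U)`-module, functorially -/
noncomputable abbrev secU : X.Modules ⥤ ModuleCat.{u} Γ(X, U) :=
  Scheme.Modules.restrictFunctor hU.fromSpec ⋙ moduleSpecΓFunctor (R := Γ(X, U))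

/-- the component of the comparison map -/
noncomputable def tauApp (F : X.Modules) :
    (ModuleCat.extendScalars (g.appLE U W e).hom).obj ((secU hU).obj F) ⟶
      (secU hW).obj ((Scheme.Modules.pullback g).obj F) :=
  (tilde.toTildeΓNatIso (R := Γ(X', W))).hom.app
      ((ModuleCat.extendScalars (g.appLE U W e).hom).obj ((secU hU).obj F)) ≫
    (moduleSpecΓFunctor (R := Γ(X', W))).map
      ((pullbackTildeIso (g.appLE U W e)).inv.app ((secU hU).obj F) ≫
        (Scheme.Modules.pullback (Spec.map (g.appLE U W e))).map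
          ((Scheme.Modules.fromTildeΓNatTrans (R := Γ(X, U))).app
            ((Scheme.Modules.restrictFunctor hU.fromSpec).obj F)) ≫
        (restrictPullbackNatIso g hU hW e).inv.app F)

theorem tauApp_naturality {F G : X.Modules} (a : F ⟶ G) :
    (ModuleCat.extendScalars (g.appLE U W e).hom).map ((secU hU).map a) ≫ tauApp g hU hW e G =
      tauApp g hU hW e F ≫ (secU hW).map ((Scheme.Modules.pullback g).map a) := by
  unfold tauApp
  have h1 := (tilde.toTildeΓNatIso (R := Γ(X', W))).hom.naturality
    ((ModuleCat.extendScalars (g.appLE U W e).hom).map ((secU hU).map a))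
  have h2 := (pullbackTildeIso (g.appLE U W e)).inv.naturality ((secU hU).map a)
  have h3 := (Scheme.Modules.fromTildeΓNatTrans (R := Γ(X, U))).naturality
    ((Scheme.Modules.restrictFunctor hU.fromSpec).map a)
  have h4 := (restrictPullbackNatIso g hU hW e).inv.naturality a
  simp only [Functor.id_obj, Functor.comp_obj, Functor.id_map, Functor.comp_map] at h1 h2 h3 h4
  simp only [secU, Functor.comp_obj, Functor.comp_map, Category.assoc]
  rw [reassoc_of% h1, ← Functor.map_comp, ← Functor.map_comp, reassoc_of% h2]
  rw [← Functor.map_comp_assoc, h3, Functor.map_comp_assoc, h4]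
  simp only [Functor.map_comp, Category.assoc]

instance isIso_tauApp (F : X.Modules) [F.IsQuasicoherent] : IsIso (tauApp g hU hW e F) := by
  unfold tauApp
  haveI : ((Scheme.Modules.restrictFunctor hU.fromSpec).obj F).IsQuasicoherent :=
    Scheme.Modules.isQuasicoherent_restrictFunctor hU.fromSpec F
  haveI : IsIso ((Scheme.Modules.fromTildeΓNatTrans (R := Γ(X, U))).app
      ((Scheme.Modules.restrictFunctor hU.fromSpec).obj F)) :=
    Scheme.Modules.isIso_fromTildeΓ_of_isQuasicoherent
      ((Scheme.Modules.restrictFunctor hU.fromSpec).obj F)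
  infer_instance

end Groth.Agent.Lib.Seat76.PullSec
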