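import Groth.Agent.Lib.Seat76TildeLoc
import Groth.Agent.Lib.Helper23Extend2
import Groth.Prelude.Def_Wider

/-!
# Maps of modules which become isomorphisms on the punctured spectrum (seat 76)

Namespace `Groth.Agent.Lib.Seat76.PunctTors`.

* `exists_pow_smul_mem`: if a power of every `f ∈ 𝔞` brings `x` into a submodule `S`, a power of `𝔞` does
  (`𝔞` finitely generated).
* `basicOpen_le_puncturedOpen`: `D(f) ≤ Spec A ∖ V(𝔞)` for `f ∈ 𝔞`.
* `torsion_of_isIso_restrict`: if `h : Q ⟶ P` induces an isomorphism `(Q~)|_U ≅ (P~)|_U` on `U = Spec A ∖ V(𝔞)`, the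
  kernel and cokernel of `h` are `𝔞`-power torsion, elementwise.
-/

set_option autoImplicit false

universe u

open CategoryTheory CategoryTheory.Limits Opposite AlgebraicGeometry

namespace Groth.Agent.Lib.Seat76.PunctTors

open Groth.Agent.Lib.Seat76.TildeLoc

section Alg

variable {A : Type*} [CommRing A] {M : Type*} [AddCommGroup M] [Module A M]

theorem exists_pow_smul_mem (𝔞 : Ideal A) (h𝔞 : 𝔞.FG) (S : Submodule A M) (x : M)
    (h : ∀ f ∈ 𝔞, ∃ k : ℕ, f ^ k • x ∈ S) : ∃ m : ℕ, ∀ a ∈ 𝔞 ^ m, a • x ∈ S := by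
  have h1 : 𝔞 ≤ (S.colon {x}).radical := fun f hf => by
    obtain ⟨k, hk⟩ := h f hf
    exact ⟨k, Submodule.mem_colon_singleton.mpr hk⟩
  obtain ⟨m, hm⟩ := Ideal.exists_pow_le_of_le_radical_of_fg h1 h𝔞
  exact ⟨m, fun a ha => Submodule.mem_colon_singleton.mp (hm ha)⟩

end Alg

section Generic

variable {R : CommRingCat.{u}}

theorem torsion_of_bijective (𝔞 : Ideal R) (h𝔞 : 𝔞.FG) {Q P : ModuleCat.{u} R} (h : Q ⟶ P)
    (hbij : ∀ f ∈ 𝔞, Function.Bijective (Scheme.Modules.Hom.app (tilde.map h) (D f))) :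
    (∀ z : Q, h.hom z = 0 → ∃ m : ℕ, ∀ a ∈ 𝔞 ^ m, a • z = 0) ∧
    (∀ y : P, ∃ m : ℕ, ∀ a ∈ 𝔞 ^ m, a • y ∈ LinearMap.range h.hom) := by
  constructor
  · intro z hz
    have key : ∀ f ∈ 𝔞, ∃ k : ℕ, f ^ k • z ∈ (⊥ : Submodule R Q) := by
      intro f hf
      have h1 : toΓ Q f z = 0 := by
        apply (hbij f hf).1
        rw [map_app_toΓ, hz, map_zero, map_zero]
      obtain ⟨c, hc⟩ := (IsLocalizedModule.eq_zero_iff (Submonoid.powers f) (toΓ Q f)).mp h1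
      obtain ⟨k, hk⟩ := c.2
      refine ⟨k, ?_⟩
      rw [Submodule.mem_bot]
      have hk' : f ^ k = (c : R) := hk
      rw [hk']
      exact hc
    obtain ⟨m, hm⟩ := exists_pow_smul_mem 𝔞 h𝔞 ⊥ z key
    exact ⟨m, fun a ha => (Submodule.mem_bot R).mp (hm a ha)⟩
  · intro y
    refine exists_pow_smul_mem 𝔞 h𝔞 (LinearMap.range h.hom) y ?_
    intro f hf
    obtain ⟨w, hw⟩ := (hbij f hf).2 (toΓ P f y)
    obtain ⟨⟨q, s⟩, hq⟩ := IsLocalizedModule.surj (Submonoid.powers f) (toΓ Q f) w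
    obtain ⟨e, he⟩ := s.2
    have hq' : f ^ e • w = toΓ Q f q := by
      have : (s : R) • w = toΓ Q f q := hq
      rw [← he] at this
      exact this
    have h2 : toΓ P f (f ^ e • y - h.hom q) = 0 := by
      rw [map_sub, map_smul, ← hw, ← app_smul, hq', map_app_toΓ, sub_self]
    obtain ⟨c, hc⟩ := (IsLocalizedModule.eq_zero_iff (Submonoid.powers f) (toΓ P f)).mp h2
    obtain ⟨k, hk⟩ := c.2
    have hk' : f ^ k = (c : R) := hk
    refine ⟨k + e, ⟨f ^ k • q, ?_⟩⟩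
    have hc' : f ^ k • (f ^ e • y - h.hom q) = 0 := by
      rw [hk']
      exact hc
    rw [smul_sub, sub_eq_zero] at hc'
    rw [map_smul, ← hc', pow_add, mul_smul]

theorem torsion_of_isoOn (𝔞 : Ideal R) (h𝔞 : 𝔞.FG) (U : (Spec R).Opens) (hU : ∀ f ∈ 𝔞, D f ≤ U)
    {Q P : ModuleCat.{u} R} (h : Q ⟶ P)
    (hon : Groth.Agent.Lib.Helper23.Extend.IsoOn ((tilde.functor R).map h) U) :
    (∀ z : Q, h.hom z = 0 → ∃ m : ℕ, ∀ a ∈ 𝔞 ^ m, a • z = 0) ∧
    (∀ y : P, ∃ m : ℕ, ∀ a ∈ 𝔞 ^ m, a • y ∈ LinearMap.range h.hom) := by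
  refine torsion_of_bijective 𝔞 h𝔞 h ?_
  intro f hf
  have h1 : IsIso (Scheme.Modules.Hom.app (tilde.map h) (D f)) := hon (D f) (hU f hf)
  exact ConcreteCategory.bijective_of_isIso _

end Generic

section Punct

variable (A : Type u) [CommRing A]

theorem basicOpen_le_puncturedOpen (𝔞 : Ideal A) (f : A) (hf : f ∈ 𝔞) :
    (D (R := CommRingCat.of A) f) ≤ LocCoh.puncturedOpen A 𝔞 := by
  intro p hp hz
  exact hp (hz hf)

theorem torsion_of_isIso_restrict (𝔞 : Ideal A) (h𝔞 : 𝔞.FG) {Q P : ModuleCat.{u} A} (h : Q ⟶ P)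
    (hiso : IsIso ((Scheme.Modules.restrictFunctor (LocCoh.puncturedOpen A 𝔞).ι).map
      ((tilde.functor (CommRingCat.of A)).map h))) :
    (∀ z : Q, h.hom z = 0 → ∃ m : ℕ, ∀ a ∈ 𝔞 ^ m, a • z = 0) ∧
    (∀ y : P, ∃ m : ℕ, ∀ a ∈ 𝔞 ^ m, a • y ∈ LinearMap.range h.hom) := by
  have hon := (Groth.Agent.Lib.Helper23.Extend.isIso_restrict_iff
    (LocCoh.puncturedOpen A 𝔞).ι ((tilde.functor (CommRingCat.of A)).map h)).1 hiso
  rw [Scheme.Opens.opensRange_ι] at hon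
  exact torsion_of_isoOn (R := CommRingCat.of A) 𝔞 h𝔞 (LocCoh.puncturedOpen A 𝔞)
    (basicOpen_le_puncturedOpen A 𝔞) h hon

end Punct

end Groth.Agent.Lib.Seat76.PunctTors
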