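import Groth.Agent.Lib.Seat76AlgzCompl
import Groth.Agent.Lib.Seat76AlgzQuot
import Groth.Agent.Lib.Seat76PunctTors
import Groth.Agent.Lib.Helper23Extend2
import Groth.Agent.S9498
import Groth.Prelude.Def_Formal2

/-!
# Coherent formal modules on the punctured spectrum come from systems of finite modules (seat 76)

Namespace `Groth.Agent.Lib.Seat76.PunctSys`.
-/

set_option autoImplicit false

universe u

open CategoryTheory CategoryTheory.Limits Opposite AlgebraicGeometry

namespace Groth.Agent.Lib.Seat76.PunctSys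

open Groth.Agent.Lib.Seat76.AlgzExt Groth.Agent.Lib.Seat76.AlgzCompl Groth.Agent.Lib.Seat76.AlgzLim

variable (A : Type u) [CommRing A] (U : (Spec (CommRingCat.of A)).Opens)

section Basic

theorem untranspose_eq (N : ModuleCat.{u} A) (F : (U : Scheme.{u}).Modules)
    (c : N ⟶ (moduleSpecΓFunctor (R := CommRingCat.of A)).obj
      ((Scheme.Modules.pushforward U.ι).obj F)) :
    untranspose A U N F c =
      (Scheme.Modules.restrictFunctor U.ι).map ((tilde.functor (CommRingCat.of A)).map c) ≫
        thetaHom U F := by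
  unfold untranspose thetaHom
  rw [Adjunction.homEquiv_counit, Adjunction.homEquiv_counit, Functor.map_comp, Category.assoc]

/-- a finite submodule of sections inducing an isomorphism on `U` -/
theorem exists_initial [QuasiCompact U.ι] (hU : IsCompact (U : Set (Spec (CommRingCat.of A))))
    (F : (U : Scheme.{u}).Modules) [F.IsQuasicoherent]
    [SheafOfModules.IsFiniteType (R := (U : Scheme.{u}).ringCatSheaf) F] :
    ∃ (N : ModuleCat.{u} A) (_ : Module.Finite A N)
      (c : N ⟶ (moduleSpecΓFunctor (R := CommRingCat.of A)).obj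
        ((Scheme.Modules.pushforward U.ι).obj F)), Mono c ∧ IsIso (untranspose A U N F c) := by
  let B := (Scheme.Modules.pushforward U.ι).obj F
  have hB : B.IsQuasicoherent :=
    Groth.Agent.Lib.Helper23.QCohLocal.isQuasicoherent_pushforward U.ι F
  have hcounit : IsIso ((Scheme.Modules.restrictAdjunction U.ι).counit.app F) := inferInstance
  let e0 : (Scheme.Modules.restrictFunctor U.ι).obj B ≅ F :=
    asIso ((Scheme.Modules.restrictAdjunction U.ι).counit.app F)
  have hft : SheafOfModules.IsFiniteType (R := (U : Scheme.{u}).ringCatSheaf) (B.restrict U.ι) :=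
    Groth.Agent.Lib.Helper23.FinType.isFiniteType_of_iso e0.symm
  obtain ⟨N, hN, c, hc, hiso⟩ :=
    Groth.Agent.Lib.Helper23.Extend.exists_finite_mono_isIso_restrict (CommRingCat.of A) B U hU
  refine ⟨N, hN, c, hc, ?_⟩
  have h1 : untranspose A U N F c =
      (Scheme.Modules.restrictFunctor U.ι).map
        (Groth.Agent.Lib.Helper23.Extend.adjTilde (CommRingCat.of A) B c) ≫
      (Scheme.Modules.restrictAdjunction U.ι).counit.app F := by
    unfold untranspose
    rw [Adjunction.homEquiv_counit]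
    rfl
  rw [h1]
  infer_instance

end Basic

section Pullback

variable [QuasiCompact U.ι]

theorem isIso_restrict_tilde_of_isIso_untranspose (F : (U : Scheme.{u}).Modules) [F.IsQuasicoherent]
    {N : ModuleCat.{u} A}
    (c : N ⟶ (moduleSpecΓFunctor (R := CommRingCat.of A)).obj
      ((Scheme.Modules.pushforward U.ι).obj F))
    (hc : IsIso (untranspose A U N F c)) :
    IsIso ((Scheme.Modules.restrictFunctor U.ι).map ((tilde.functor (CommRingCat.of A)).map c)) := by
  have hθ := isIso_thetaHom U F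
  rw [untranspose_eq] at hc
  exact IsIso.of_isIso_comp_right _ (thetaHom U F)

theorem isIso_untranspose_pullback {F' F : (U : Scheme.{u}).Modules} [F.IsQuasicoherent] (τ : F' ⟶ F)
    {N' N : ModuleCat.{u} A}
    (c' : N' ⟶ (moduleSpecΓFunctor (R := CommRingCat.of A)).obj
      ((Scheme.Modules.pushforward U.ι).obj F'))
    (c : N ⟶ (moduleSpecΓFunctor (R := CommRingCat.of A)).obj
      ((Scheme.Modules.pushforward U.ι).obj F))
    (hc' : IsIso (untranspose A U N' F' c')) (hc : IsIso (untranspose A U N F c)) :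
    IsIso (untranspose A U _ F'
      (pullback.fst (c' ≫ (moduleSpecΓFunctor (R := CommRingCat.of A)).map
        ((Scheme.Modules.pushforward U.ι).map τ)) c ≫ c')) := by
  let T := tilde.functor (CommRingCat.of A)
  let ρ := Scheme.Modules.restrictFunctor U.ι
  let φ := c' ≫ (moduleSpecΓFunctor (R := CommRingCat.of A)).map
    ((Scheme.Modules.pushforward U.ι).map τ)
  rw [← map_comp_untranspose]
  have h1 : IsIso (ρ.map (T.map (pullback.fst φ c))) := by
    have hpb := IsPullback.of_hasPullback φ c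
    have hT : PreservesFiniteLimits T := (Groth.Agent.S9498.aux (CommRingCat.of A)).1
    have hρ : ρ.IsRightAdjoint :=
      Groth.Agent.Lib.Helper23.QCohLocal.restrictFunctor_isRightAdjoint U.ι
    have hpb' := hpb.map (T ⋙ ρ)
    have h2 : IsIso ((T ⋙ ρ).map c) := isIso_restrict_tilde_of_isIso_untranspose A U F c hc
    exact hpb'.isIso_fst_of_isIso
  exact IsIso.comp_isIso

end Pullback

section Quot

theorem isIso_restrict_tilde_quot (I : Ideal A) (k : ℕ) {E E' : (U : Scheme.{u}).Modules} (τ : E ⟶ E')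
    (hτ : Formal.smulFamily (I ^ k) E ≫ τ = 0) (hiso : IsIso (cokernel.desc _ τ hτ))
    {N N' Q : ModuleCat.{u} A} (g : N ⟶ N') (q : N ⟶ Q) (h : Q ⟶ N') (hq : Epi q) (hqh : q ≫ h = g)
    (hQ : ∀ a ∈ I ^ k, ∀ z : Q, a • z = 0)
    (e : (Scheme.Modules.restrictFunctor U.ι).obj ((tilde.functor (CommRingCat.of A)).obj N) ⟶ E)
    (he : IsIso e)
    (e' : (Scheme.Modules.restrictFunctor U.ι).obj ((tilde.functor (CommRingCat.of A)).obj N') ⟶ E')
    (he' : IsIso e')
    (hnat : (Scheme.Modules.restrictFunctor U.ι).map ((tilde.functor (CommRingCat.of A)).map g) ≫ e' =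
      e ≫ τ) :
    IsIso ((Scheme.Modules.restrictFunctor U.ι).map ((tilde.functor (CommRingCat.of A)).map h)) := by
  let T := tilde.functor (CommRingCat.of A)
  let ρ := Scheme.Modules.restrictFunctor U.ι
  have hT : T.PreservesEpimorphisms :=
    Functor.preservesEpimorphisms_of_adjunction (tilde.adjunction (R := CommRingCat.of A))
  have hq0 : Epi (T.map q) := inferInstance
  have hq1 : Epi (ρ.map (T.map q)) := inferInstance
  have hτe : Epi τ := by
    have h1 : τ = cokernel.π _ ≫ cokernel.desc _ τ hτ := (cokernel.π_desc _ _ _).symm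
    rw [h1]
    infer_instance
  have hg1 : Epi (ρ.map (T.map g)) := by
    have h1 : ρ.map (T.map g) = e ≫ τ ≫ inv e' := by
      rw [← Category.assoc, ← hnat, Category.assoc, IsIso.hom_inv_id, Category.comp_id]
    rw [h1]
    infer_instance
  have hfac : ρ.map (T.map q) ≫ ρ.map (T.map h) = ρ.map (T.map g) := by
    rw [← ρ.map_comp, ← T.map_comp, hqh]
  have hh1 : Epi (ρ.map (T.map h)) := epi_of_epi_fac hfac
  have hkill : ∀ a ∈ I ^ k, Formal.smulMod A (ρ.obj (T.obj Q)) a = 0 := by
    intro a ha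
    rw [← restrict_map_smulMod, smulMod_tilde_eq_zero A Q a (hQ a ha), Functor.map_zero]
  have hd0 : Formal.smulFamily (I ^ k) E ≫ (inv e ≫ ρ.map (T.map q)) = 0 := by
    rw [Groth.Agent.S9530.smulFamily_comp_eq_zero_iff]
    intro a ha
    rw [Groth.Agent.S9530.smulMod_comp, hkill a ha, comp_zero]
  let d := cokernel.desc _ _ hd0
  let cd := cokernel.desc (Formal.smulFamily (I ^ k) E) τ hτ
  have hcd : IsIso cd := hiso
  let r := e' ≫ inv cd ≫ d
  have hr : ρ.map (T.map h) ≫ r = 𝟙 _ := by
    rw [← cancel_epi (ρ.map (T.map q)), ← Category.assoc, hfac, Category.comp_id]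
    have h1 : ρ.map (T.map g) = e ≫ τ ≫ inv e' := by
      rw [← Category.assoc, ← hnat, Category.assoc, IsIso.hom_inv_id, Category.comp_id]
    have h2 : τ ≫ inv cd = cokernel.π (Formal.smulFamily (I ^ k) E) := by
      rw [IsIso.comp_inv_eq, cokernel.π_desc]
    calc ρ.map (T.map g) ≫ r
        = e ≫ (τ ≫ inv cd) ≫ d := by
          rw [h1]
          simp only [r, Category.assoc, IsIso.inv_hom_id_assoc]
      _ = e ≫ cokernel.π _ ≫ d := by rw [h2]
      _ = ρ.map (T.map q) := by
          rw [cokernel.π_desc, IsIso.hom_inv_id_assoc]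
  have hsm : IsSplitMono (ρ.map (T.map h)) := ⟨⟨⟨r, hr⟩⟩⟩
  exact isIso_of_epi_of_isSplitMono _

end Quot

section UC

theorem untranspose_comp {F F' : (U : Scheme.{u}).Modules} (τ : F ⟶ F') (N : ModuleCat.{u} A)
    (c : N ⟶ (moduleSpecΓFunctor (R := CommRingCat.of A)).obj
      ((Scheme.Modules.pushforward U.ι).obj F)) :
    untranspose A U N F' (c ≫ (moduleSpecΓFunctor (R := CommRingCat.of A)).map
      ((Scheme.Modules.pushforward U.ι).map τ)) = untranspose A U N F c ≫ τ := by
  unfold untranspose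
  rw [Adjunction.homEquiv_naturality_right_symm, Adjunction.homEquiv_naturality_right_symm]

end UC

section Rec

variable [IsNoetherianRing A] [QuasiCompact U.ι]

/-- the data at one level -/
structure Stage (F : ℕᵒᵖ ⥤ (U : Scheme.{u}).Modules) (n : ℕ) where
  N : ModuleCat.{u} A
  c : N ⟶ (moduleSpecΓFunctor (R := CommRingCat.of A)).obj
      ((Scheme.Modules.pushforward U.ι).obj (F.obj (op n)))
  mono : Mono c
  fin : Module.Finite A N
  iso : IsIso (untranspose A U N (F.obj (op n)) c)

variable {A U}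

/-- the transition map on sections -/
noncomputable abbrev Htr (F : ℕᵒᵖ ⥤ (U : Scheme.{u}).Modules) (n : ℕ) :
    (moduleSpecΓFunctor (R := CommRingCat.of A)).obj
      ((Scheme.Modules.pushforward U.ι).obj (F.obj (op (n + 1)))) ⟶
    (moduleSpecΓFunctor (R := CommRingCat.of A)).obj
      ((Scheme.Modules.pushforward U.ι).obj (F.obj (op n))) :=
  (moduleSpecΓFunctor (R := CommRingCat.of A)).map
    ((Scheme.Modules.pushforward U.ι).map (F.map (homOfLE (Nat.le_succ n)).op))

/-- the next stage, as a pullback -/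
noncomputable def Stage.next {F : ℕᵒᵖ ⥤ (U : Scheme.{u}).Modules} {n : ℕ}
    (hq : (F.obj (op n)).IsQuasicoherent) (s : Stage A U F n) (s' : Stage A U F (n + 1)) :
    Stage A U F (n + 1) where
  N := pullback (s'.c ≫ Htr F n) s.c
  c := pullback.fst (s'.c ≫ Htr F n) s.c ≫ s'.c
  mono := by
    have h1 := s.mono
    have h2 := s'.mono
    infer_instance
  fin := by
    have h1 := s.mono
    have h2 : Mono (pullback.fst (s'.c ≫ Htr F n) s.c) := inferInstance
    have h3 := s'.fin
    exact Module.Finite.of_injective (pullback.fst (s'.c ≫ Htr F n) s.c).hom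
      ((ModuleCat.mono_iff_injective _).1 h2)
  iso := isIso_untranspose_pullback A U (F.map (homOfLE (Nat.le_succ n)).op) s'.c s.c s'.iso s.iso

theorem exists_system (F : ℕᵒᵖ ⥤ (U : Scheme.{u}).Modules)
    (hq : ∀ n, (F.obj (op n)).IsQuasicoherent)
    (hft : ∀ n, SheafOfModules.IsFiniteType (R := (U : Scheme.{u}).ringCatSheaf) (F.obj (op n)))
    (hU : IsCompact (U : Set (Spec (CommRingCat.of A)))) :
    ∃ (N : ℕ → ModuleCat.{u} A)
      (c : ∀ n, N n ⟶ (moduleSpecΓFunctor (R := CommRingCat.of A)).obj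
        ((Scheme.Modules.pushforward U.ι).obj (F.obj (op n))))
      (g : ∀ n, N (n + 1) ⟶ N n),
      (∀ n, Mono (c n)) ∧ (∀ n, Module.Finite A (N n)) ∧
      (∀ n, IsIso (untranspose A U (N n) (F.obj (op n)) (c n))) ∧
      ∀ n, g n ≫ c n = c (n + 1) ≫ Htr F n := by
  have hinit : ∀ n, Nonempty (Stage A U F n) := by
    intro n
    have := hq n
    have := hft n
    obtain ⟨N, hN, c, hc, hiso⟩ := exists_initial A U hU (F.obj (op n))
    exact ⟨⟨N, c, hc, hN, hiso⟩⟩
  let init : ∀ n, Stage A U F n := fun n => (hinit n).some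
  let stage : ∀ n, Stage A U F n := fun n =>
    Nat.rec (motive := fun n => Stage A U F n) (init 0)
      (fun n s => Stage.next (hq n) s (init (n + 1))) n
  refine ⟨fun n => (stage n).N, fun n => (stage n).c,
    fun n => pullback.snd ((init (n + 1)).c ≫ Htr F n) (stage n).c,
    fun n => (stage n).mono, fun n => (stage n).fin, fun n => (stage n).iso, ?_⟩
  intro n
  have h1 := pullback.condition (f := (init (n + 1)).c ≫ Htr F n) (g := (stage n).c)
  change pullback.snd ((init (n + 1)).c ≫ Htr F n) (stage n).c ≫ (stage n).c =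
    (pullback.fst ((init (n + 1)).c ≫ Htr F n) (stage n).c ≫ (init (n + 1)).c) ≫ Htr F n
  rw [← h1, Category.assoc]

end Rec

section Main

open Groth.Agent.Lib.Seat76.AlgzQuot Groth.Agent.Lib.Seat76.PunctTors

theorem main (A : Type u) [CommRing A] [IsNoetherianRing A]
    (I 𝔞 : Ideal A) (F : ℕᵒᵖ ⥤ (↑(LocCoh.puncturedOpen A 𝔞) : Scheme.{u}).Modules)
    (hF : Formal.IsCohFormal I F) :
    ∃ (M : ℕ → Type u) (_ : ∀ n, AddCommGroup (M n)) (_ : ∀ n, Module A (M n)) (g : ∀ n, M (n + 1) →ₗ[A] M n),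
      (∀ n, Module.Finite A (M n)) ∧ (∀ n, I ^ (n + 1) • (⊤ : Submodule A (M n)) = ⊥) ∧
      (∀ n (x : M (n + 1)), g n x = 0 → ∃ m : ℕ, ∀ a ∈ 𝔞 ^ m, a • x ∈ I ^ (n + 1) • (⊤ : Submodule A (M (n + 1)))) ∧
      (∀ n (y : M n), ∃ m : ℕ, ∀ a ∈ 𝔞 ^ m, a • y ∈ LinearMap.range (g n)) ∧
      Nonempty (F ≅ Functor.ofOpSequence
        (X := fun n => (Scheme.Modules.restrictFunctor (LocCoh.puncturedOpen A 𝔞).ι).obj (Formal2.tmod A (M n)))
        (fun n => (Scheme.Modules.restrictFunctor (LocCoh.puncturedOpen A 𝔞).ι).map (Formal2.tmodMap A (g n)))) := by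
  let U := LocCoh.puncturedOpen A 𝔞
  let T := tilde.functor (CommRingCat.of A)
  let ρ := Scheme.Modules.restrictFunctor U.ι
  have hqc : QuasiCompact U.ι := inferInstance
  have hU : IsCompact (U : Set (Spec (CommRingCat.of A))) :=
    TopologicalSpace.NoetherianSpace.isCompact _
  obtain ⟨N, c, g, hmono, hfin, hiso, hg⟩ :=
    exists_system F (fun n => (hF.1 n).1) (fun n => (hF.1 n).2) hU
  have hkill : ∀ n, ∀ a ∈ I ^ (n + 1), ∀ y : N n, a • y = 0 := by
    intro n a ha y
    have hinj := (ModuleCat.mono_iff_injective _).1 (hmono n)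
    apply hinj
    rw [map_smul, map_zero]
    exact sectMod_killed A I U F hF n a ha ((c n).hom y)
  -- naturality of the comparison
  have hnat : ∀ n, ρ.map (T.map (g n)) ≫ untranspose A U (N n) (F.obj (op n)) (c n) =
      untranspose A U (N (n + 1)) (F.obj (op (n + 1))) (c (n + 1)) ≫
        F.map (homOfLE (Nat.le_succ n)).op := by
    intro n
    rw [map_comp_untranspose, hg n]
    exact untranspose_comp A U _ _ _
  -- the quotient comparison
  have hle : ∀ n, I ^ (n + 1) • (⊤ : Submodule A (N (n + 1))) ≤ LinearMap.ker (g n).hom := by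
    intro n
    rw [Submodule.smul_le]
    intro a ha x _
    rw [LinearMap.mem_ker, map_smul]
    exact hkill n a ha _
  have htors : ∀ n,
      (∀ z : N (n + 1) ⧸ (I ^ (n + 1) • (⊤ : Submodule A (N (n + 1)))),
        Submodule.liftQ _ (g n).hom (hle n) z = 0 → ∃ m : ℕ, ∀ a ∈ 𝔞 ^ m, a • z = 0) ∧
      (∀ y : N n, ∃ m : ℕ, ∀ a ∈ 𝔞 ^ m,
        a • y ∈ LinearMap.range (Submodule.liftQ _ (g n).hom (hle n))) := by
    intro n
    let Q : ModuleCat.{u} A :=
      ModuleCat.of A (N (n + 1) ⧸ (I ^ (n + 1) • (⊤ : Submodule A (N (n + 1)))))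
    let q : N (n + 1) ⟶ Q := ModuleCat.ofHom (Submodule.mkQ _)
    let h : Q ⟶ N n := ModuleCat.ofHom (Submodule.liftQ _ (g n).hom (hle n))
    have hq : Epi q := (ModuleCat.epi_iff_surjective _).2 (Submodule.mkQ_surjective _)
    have hqh : q ≫ h = g n := by
      ext x
      rfl
    have hQ : ∀ a ∈ I ^ (n + 1), ∀ z : Q, a • z = 0 := by
      intro a ha z
      obtain ⟨x, rfl⟩ := Submodule.mkQ_surjective _ z
      rw [← map_smul, Submodule.mkQ_apply, Submodule.Quotient.mk_eq_zero]
      exact Submodule.smul_mem_smul ha Submodule.mem_top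
    obtain ⟨hτ, hτiso⟩ := hF.2.2 n
    have h1 := isIso_restrict_tilde_quot A U I (n + 1) (F.map (homOfLE (Nat.le_succ n)).op)
      hτ hτiso (g n) q h hq hqh hQ _ (hiso (n + 1)) _ (hiso n) (hnat n)
    exact torsion_of_isIso_restrict A 𝔞 (IsNoetherian.noetherian 𝔞) h h1
  refine ⟨fun n => N n, fun n => inferInstance, fun n => inferInstance, fun n => (g n).hom,
    hfin, ?_, ?_, ?_, ?_⟩
  · intro n
    rw [eq_bot_iff, Submodule.smul_le]
    intro a ha x _
    rw [Submodule.mem_bot]
    exact hkill n a ha x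
  · intro n x hx
    obtain ⟨m, hm⟩ := (htors n).1 (Submodule.Quotient.mk x) hx
    refine ⟨m, fun a ha => ?_⟩
    have := hm a ha
    rw [← Submodule.Quotient.mk_smul, Submodule.Quotient.mk_eq_zero] at this
    exact this
  · intro n y
    obtain ⟨m, hm⟩ := (htors n).2 y
    refine ⟨m, fun a ha => ?_⟩
    obtain ⟨z, hz⟩ := hm a ha
    obtain ⟨x, rfl⟩ := Submodule.mkQ_surjective _ z
    exact ⟨x, hz⟩
  · let G : ℕᵒᵖ ⥤ (U : Scheme.{u}).Modules := Functor.ofOpSequence
        (X := fun n => ρ.obj (T.obj (N n))) (fun n => ρ.map (T.map (g n)))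
    let α : G ⟶ F := NatTrans.ofOpSequence
      (fun n => untranspose A U (N n) (F.obj (op n)) (c n)) (by
        intro n
        rw [Functor.ofOpSequence_map_homOfLE_succ]
        exact hnat n)
    have hα : IsIso α := by
      have : ∀ X, IsIso (α.app X) := fun X => hiso X.unop
      exact NatIso.isIso_of_isIso_app α
    exact ⟨(asIso α).symm⟩

end Main

end Groth.Agent.Lib.Seat76.PunctSys
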