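import Mathlib
import Groth.Agent.S0484

/-!
# Pushforward of sheaves of modules along a functor with a continuous right adjoint

If the continuous functor `F` underlying a morphism of ringed sites has a continuous right adjoint
(for instance `F = Opens.map g` for a homeomorphism `g`), then the pushforward of sheaves of
modules preserves all small colimits.
-/

set_option autoImplicit false
set_option linter.style.haveILetI false
universe u
open CategoryTheory CategoryTheory.Limits

namespace Groth.Agent.Lib.Seat76.PushHomeo

section Site

variable {C D : Type u} [SmallCategory C] [SmallCategory D]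
  {J : GrothendieckTopology C} {K : GrothendieckTopology D} {F : C ⥤ D}
  {S : Sheaf J RingCat.{u}} {R : Sheaf K RingCat.{u}} [Functor.IsContinuous F J K]
  (φ : S ⟶ (F.sheafPushforwardContinuous RingCat.{u} J K).obj R)

/-- the pushforward of modules lies over the pushforward of abelian sheaves -/
noncomputable def pushforwardCompToSheaf :
    SheafOfModules.pushforward.{u} φ ⋙ SheafOfModules.toSheaf.{u} S ≅
      SheafOfModules.toSheaf.{u} R ⋙ F.sheafPushforwardContinuous AddCommGrpCat.{u} J K :=
  NatIso.ofComponents (fun M => Iso.refl _) (by intros; rfl)

theorem preservesColimits_pushforward_of_adj (G : D ⥤ C) [Functor.IsContinuous G K J]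
    (adj : F ⊣ G) : PreservesColimitsOfSize.{u, u} (SheafOfModules.pushforward.{u} φ) := by
  constructor
  intro I _
  haveI : (F.sheafPushforwardContinuous AddCommGrpCat.{u} J K).IsLeftAdjoint :=
    (adj.sheafPushforwardContinuous (E := AddCommGrpCat.{u}) J K).isLeftAdjoint
  haveI h1 : PreservesColimitsOfShape I (SheafOfModules.toSheaf.{u} R) :=
    Groth.Agent.S0484.preservesColimitsOfShape_toSheaf K R I
  haveI h2 : PreservesColimitsOfShape I (SheafOfModules.toSheaf.{u} S) :=
    Groth.Agent.S0484.preservesColimitsOfShape_toSheaf J S I
  haveI h3 : PreservesColimitsOfShape I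
      (SheafOfModules.pushforward.{u} φ ⋙ SheafOfModules.toSheaf.{u} S) :=
    preservesColimitsOfShape_of_natIso (pushforwardCompToSheaf φ).symm
  haveI h4 : ReflectsColimitsOfShape I (SheafOfModules.toSheaf.{u} S) :=
    reflectsColimitsOfShape_of_reflectsIsomorphisms
  exact preservesColimitsOfShape_of_reflects_of_preserves (SheafOfModules.pushforward.{u} φ)
    (SheafOfModules.toSheaf.{u} S)

end Site

section Top

open TopologicalSpace AlgebraicGeometry

/-- mutually inverse continuous maps induce adjoint functors on open sets -/
noncomputable def opensMapAdj {Z X : TopCat.{u}} (g : Z ⟶ X) (h : X ⟶ Z)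
    (h1 : ∀ z, h (g z) = z) (h2 : ∀ x, g (h x) = x) : Opens.map g ⊣ Opens.map h :=
  Adjunction.mkOfHomEquiv
    { homEquiv := fun U V =>
        { toFun := fun a => homOfLE (fun x hx => by
            have : h x ∈ (Opens.map g).obj U := by
              change g (h x) ∈ U
              rw [h2]; exact hx
            exact leOfHom a this)
          invFun := fun b => homOfLE (fun z hz => by
            have : g z ∈ (Opens.map h).obj V := leOfHom b hz
            change h (g z) ∈ V at this
            rwa [h1] at this)
          left_inv := fun _ => Subsingleton.elim _ _
          right_inv := fun _ => Subsingleton.elim _ _ }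
      homEquiv_naturality_left_symm := by intros; apply Subsingleton.elim
      homEquiv_naturality_right := by intros; apply Subsingleton.elim }

/-- The direct image of modules along a morphism of schemes which is a homeomorphism (with
continuous inverse `h`) preserves colimits. -/
theorem preservesColimits_pushforward_of_inverse {Z X : Scheme.{u}} (g : Z ⟶ X)
    (h : X.toTopCat ⟶ Z.toTopCat) (h1 : ∀ z, h (g z) = z) (h2 : ∀ x, g (h x) = x) :
    PreservesColimitsOfSize.{u, u} (Scheme.Modules.pushforward g) :=
  preservesColimits_pushforward_of_adj g.toRingCatSheafHom (Opens.map h)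
    (opensMapAdj g.base h h1 h2)

end Top

end Groth.Agent.Lib.Seat76.PushHomeo
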