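import Mathlib

/-!
# Joint injectivity and finitely generated subalgebras (seat 76)

Pure algebra behind EGA IV 11.9.x "separating families pass to the limit": for an `A`-algebra `R`,
`R`-linear maps `u i : M → N i` into `R`-modules flat over `A`, and an `A`-algebra `A'`, joint
injectivity of the `u i` after tensoring with all localisations `(R ⊗[A] B)[1/s]`, `B` running
through the finitely generated subalgebras of `A'`, implies the same with `B = A'`.
-/

set_option autoImplicit false
universe u v w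
open TensorProduct

namespace Groth.Agent.Lib.Seat76.SepFG

section JI
variable {R : Type u} [CommRing R] {M : Type v} [AddCommGroup M] [Module R M]
  {ι : Type w} {N : ι → Type v} [∀ i, AddCommGroup (N i)] [∀ i, Module R (N i)]
  (u : ∀ i, M →ₗ[R] N i)

/-- Joint injectivity of the family `u` after tensoring with `C`. -/
def JI (C : Type*) [AddCommGroup C] [Module R C] : Prop :=
  ∀ x : C ⊗[R] M, (∀ i, (u i).lTensor C x = 0) → x = 0

theorem JI.of_linearEquiv {C C' : Type*} [AddCommGroup C] [Module R C] [AddCommGroup C']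
    [Module R C'] (e : C ≃ₗ[R] C') (h : JI u C) : JI u C' := by
  intro x hx
  have h1 : e.symm.toLinearMap.rTensor M x = 0 := by
    apply h
    intro i
    rw [← LinearMap.comp_apply, LinearMap.lTensor_comp_rTensor, ← LinearMap.rTensor_comp_lTensor,
      LinearMap.comp_apply, hx i, map_zero]
  have h2 := congrArg (e.toLinearMap.rTensor M) h1
  rw [map_zero, ← LinearMap.comp_apply, ← LinearMap.rTensor_comp] at h2
  simpa using h2

/-- Joint injectivity up to `s`-power torsion after tensoring with the `R`-algebra `S`. -/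
def TJI (S : Type*) [CommRing S] [Algebra R S] (s : S) : Prop :=
  ∀ y : S ⊗[R] M, (∀ i, ∃ k : ℕ, s ^ k • (u i).lTensor S y = 0) → ∃ k : ℕ, s ^ k • y = 0

end JI

section Loc
variable {R : Type u} [CommRing R] {M : Type v} [AddCommGroup M] [Module R M]
  {ι : Type w} {N : ι → Type v} [∀ i, AddCommGroup (N i)] [∀ i, Module R (N i)]
  (u : ∀ i, M →ₗ[R] N i)
  (S : Type*) [CommRing S] [Algebra R S] (s : S)
  (L : Type*) [CommRing L] [Algebra S L] [Algebra R L] [IsScalarTower R S L]

variable (R) in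
/-- The localisation map `S ⊗ P → L ⊗ P`. -/
noncomputable abbrev locMap (P : Type*) [AddCommGroup P] [Module R P] :
    S ⊗[R] P →ₗ[S] L ⊗[R] P :=
  AlgebraTensorModule.rTensor R P (Algebra.linearMap S L)

theorem locMap_natural (i : ι) (y : S ⊗[R] M) :
    (u i).lTensor L (locMap R S L M y) = locMap R S L (N i) ((u i).lTensor S y) := by
  induction y using TensorProduct.induction_on with
  | zero => simp
  | tmul c m => simp
  | add y1 y2 h1 h2 => simp only [map_add, h1, h2]

theorem lTensor_smul {P Q : Type*} [AddCommGroup P] [Module R P] [AddCommGroup Q] [Module R Q]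
    (f : P →ₗ[R] Q) (c : S) (x : L ⊗[R] P) : f.lTensor L (c • x) = c • f.lTensor L x := by
  induction x using TensorProduct.induction_on with
  | zero => simp
  | tmul l m => rw [TensorProduct.smul_tmul', LinearMap.lTensor_tmul, LinearMap.lTensor_tmul,
      TensorProduct.smul_tmul']
  | add x1 x2 h1 h2 => simp only [smul_add, map_add, h1, h2]

variable [IsLocalization.Away s L]

include s in
theorem ji_iff_tji : JI u L ↔ TJI u S s := by
  have hM : IsLocalizedModule (Submonoid.powers s) (locMap R S L M) := inferInstance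
  have hN : ∀ i, IsLocalizedModule (Submonoid.powers s) (locMap R S L (N i)) :=
    fun i => inferInstance
  constructor
  · intro h y hy
    have h0 : locMap R S L M y = 0 := by
      apply h
      intro i
      rw [locMap_natural]
      obtain ⟨k, hk⟩ := hy i
      exact (IsLocalizedModule.eq_zero_iff (Submonoid.powers s) _).2 ⟨⟨s ^ k, k, rfl⟩, hk⟩
    obtain ⟨⟨c, k, rfl⟩, hc⟩ := (IsLocalizedModule.eq_zero_iff (Submonoid.powers s) _).1 h0
    exact ⟨k, hc⟩
  · intro h x hx
    obtain ⟨⟨y, t⟩, hyt⟩ := IsLocalizedModule.surj (Submonoid.powers s) (locMap R S L M) x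
    have h1 : ∀ i, ∃ k : ℕ, s ^ k • (u i).lTensor S y = 0 := by
      intro i
      have h2 : locMap R S L (N i) ((u i).lTensor S y) = 0 := by
        rw [← locMap_natural, ← hyt, Submonoid.smul_def, lTensor_smul, hx i, smul_zero]
      obtain ⟨⟨c, k, rfl⟩, hc⟩ := (IsLocalizedModule.eq_zero_iff (Submonoid.powers s) _).1 h2
      exact ⟨k, hc⟩
    obtain ⟨k, hk⟩ := h y h1
    have h2 : locMap R S L M y = 0 :=
      (IsLocalizedModule.eq_zero_iff (Submonoid.powers s) _).2 ⟨⟨s ^ k, k, rfl⟩, hk⟩
    rw [h2] at hyt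
    refine IsLocalizedModule.smul_injective (locMap R S L M) t ?_
    change t • x = t • (0 : L ⊗[R] M)
    rw [smul_zero]
    exact hyt

end Loc

section FG
variable {A : Type u} [CommRing A] {A' : Type u} [CommRing A'] [Algebra A A']
  {R : Type u} [CommRing R] [Algebra A R]

variable (R) in
/-- `R ⊗ B → R ⊗ A'` for a subalgebra `B` of `A'`. -/
noncomputable abbrev incl (B : Subalgebra A A') : R ⊗[A] B →ₐ[R] R ⊗[A] A' :=
  Algebra.TensorProduct.map (AlgHom.id R R) B.val

variable (R) in
/-- `R ⊗ B → R ⊗ B'` for subalgebras `B ≤ B'`. -/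
noncomputable abbrev tr {B B' : Subalgebra A A'} (h : B ≤ B') : R ⊗[A] B →ₐ[R] R ⊗[A] B' :=
  Algebra.TensorProduct.map (AlgHom.id R R) (Subalgebra.inclusion h)

theorem incl_tr {B B' : Subalgebra A A'} (h : B ≤ B') (c : R ⊗[A] B) :
    incl R B' (tr R h c) = incl R B c := by
  induction c using TensorProduct.induction_on with
  | zero => simp
  | tmul r b => simp
  | add c1 c2 h1 h2 => simp only [map_add, h1, h2]

theorem exists_fg_mem_range (c : R ⊗[A] A') :
    ∃ B : Subalgebra A A', B.FG ∧ ∃ cB : R ⊗[A] B, incl R B cB = c := by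
  induction c using TensorProduct.induction_on with
  | zero => exact ⟨⊥, Subalgebra.fg_bot, 0, map_zero _⟩
  | tmul r a =>
    refine ⟨Algebra.adjoin A {a}, ⟨{a}, by rw [Finset.coe_singleton]⟩,
      r ⊗ₜ ⟨a, Algebra.subset_adjoin (Set.mem_singleton a)⟩, ?_⟩
    simp
  | add c1 c2 h1 h2 =>
    obtain ⟨B1, hB1, c1', rfl⟩ := h1
    obtain ⟨B2, hB2, c2', rfl⟩ := h2
    refine ⟨B1 ⊔ B2, hB1.sup hB2, tr R (le_sup_left : B1 ≤ B1 ⊔ B2) c1' +
      tr R (le_sup_right : B2 ≤ B1 ⊔ B2) c2', ?_⟩
    rw [map_add, incl_tr, incl_tr]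

variable {M : Type v} [AddCommGroup M] [Module R M]

theorem incl_tr_rTensor {B B' : Subalgebra A A'} (h : B ≤ B') (z : (R ⊗[A] B) ⊗[R] M) :
    (incl R B').toLinearMap.rTensor M ((tr R h).toLinearMap.rTensor M z) =
      (incl R B).toLinearMap.rTensor M z := by
  induction z using TensorProduct.induction_on with
  | zero => simp
  | tmul c m =>
    rw [LinearMap.rTensor_tmul, LinearMap.rTensor_tmul, LinearMap.rTensor_tmul]
    congr 1
    exact incl_tr h c
  | add z1 z2 h1 h2 => simp only [map_add, h1, h2]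

theorem exists_fg_mem_range_rTensor (y : (R ⊗[A] A') ⊗[R] M) :
    ∃ B : Subalgebra A A', B.FG ∧ ∃ yB : (R ⊗[A] B) ⊗[R] M,
      (incl R B).toLinearMap.rTensor M yB = y := by
  induction y using TensorProduct.induction_on with
  | zero => exact ⟨⊥, Subalgebra.fg_bot, 0, map_zero _⟩
  | tmul c m =>
    obtain ⟨B, hB, cB, rfl⟩ := exists_fg_mem_range c
    exact ⟨B, hB, cB ⊗ₜ m, rfl⟩
  | add y1 y2 h1 h2 =>
    obtain ⟨B1, hB1, y1', rfl⟩ := h1
    obtain ⟨B2, hB2, y2', rfl⟩ := h2
    refine ⟨B1 ⊔ B2, hB1.sup hB2, (tr R (le_sup_left : B1 ≤ B1 ⊔ B2)).toLinearMap.rTensor M y1' +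
      (tr R (le_sup_right : B2 ≤ B1 ⊔ B2)).toLinearMap.rTensor M y2', ?_⟩
    rw [map_add, incl_tr_rTensor, incl_tr_rTensor]

theorem incl_rTensor_smul (B : Subalgebra A A') (c : R ⊗[A] B) (z : (R ⊗[A] B) ⊗[R] M) :
    (incl R B).toLinearMap.rTensor M (c • z) = incl R B c • (incl R B).toLinearMap.rTensor M z := by
  induction z using TensorProduct.induction_on with
  | zero => simp
  | tmul c' m =>
    rw [TensorProduct.smul_tmul', LinearMap.rTensor_tmul, LinearMap.rTensor_tmul,
      TensorProduct.smul_tmul', smul_eq_mul, smul_eq_mul]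
    congr 1
    exact map_mul (incl R B) c c'
  | add z1 z2 h1 h2 => simp only [smul_add, map_add, h1, h2]

section Inj
variable {P : Type v} [AddCommGroup P] [Module R P] [Module A P] [IsScalarTower A R P]

variable (A R P) in
/-- `(R ⊗[A] Q) ⊗[R] P ≃ P ⊗[A] Q`. -/
noncomputable def kap (Q : Type u) [AddCommGroup Q] [Module A Q] :
    (R ⊗[A] Q) ⊗[R] P ≃ₗ[R] P ⊗[A] Q :=
  (TensorProduct.comm R _ _) ≪≫ₗ AlgebraTensorModule.cancelBaseChange A R R P Q

theorem kap_tmul (Q : Type u) [AddCommGroup Q] [Module A Q] (r : R) (q : Q) (x : P) :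
    kap A R P Q ((r ⊗ₜ q) ⊗ₜ x) = (r • x) ⊗ₜ q := by
  simp [kap]

theorem kap_natural (B : Subalgebra A A') (z : (R ⊗[A] B) ⊗[R] P) :
    kap A R P A' ((incl R B).toLinearMap.rTensor P z) =
      B.val.toLinearMap.lTensor P (kap A R P B z) := by
  induction z using TensorProduct.induction_on with
  | zero => simp
  | tmul c x =>
    induction c using TensorProduct.induction_on with
    | zero => simp
    | tmul r b =>
      rw [LinearMap.rTensor_tmul, kap_tmul]
      change kap A R P A' ((r ⊗ₜ (b : A')) ⊗ₜ x) = _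
      rw [kap_tmul, LinearMap.lTensor_tmul]
      rfl
    | add c1 c2 h1 h2 => rw [add_tmul, map_add, map_add, map_add, map_add, h1, h2]
  | add z1 z2 h1 h2 => simp only [map_add, h1, h2]

theorem incl_rTensor_injective [Module.Flat A P] (B : Subalgebra A A') :
    Function.Injective ((incl R B).toLinearMap.rTensor P) := by
  rw [injective_iff_map_eq_zero]
  intro z hz
  have h1 := kap_natural (P := P) B z
  rw [hz, map_zero] at h1
  have h2 : Function.Injective (B.val.toLinearMap.lTensor P) :=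
    Module.Flat.lTensor_preserves_injective_linearMap _ Subtype.val_injective
  have h3 : kap A R P B z = 0 := h2 (by rw [← h1, map_zero])
  exact (LinearEquiv.map_eq_zero_iff _).1 h3

end Inj

section Main
variable {ι : Type w} {N : ι → Type v} [∀ i, AddCommGroup (N i)] [∀ i, Module R (N i)]
  [∀ i, Module A (N i)] [∀ i, IsScalarTower A R (N i)] [∀ i, Module.Flat A (N i)]
  (u : ∀ i, M →ₗ[R] N i)

theorem tji_of_forall_fg
    (H : ∀ B : Subalgebra A A', B.FG → ∀ sB : R ⊗[A] B, TJI u (R ⊗[A] B) sB)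
    (s : R ⊗[A] A') : TJI u (R ⊗[A] A') s := by
  intro y hy
  obtain ⟨B1, hB1, s1, rfl⟩ := exists_fg_mem_range s
  obtain ⟨B2, hB2, y2, rfl⟩ := exists_fg_mem_range_rTensor y
  have hB : (B1 ⊔ B2).FG := hB1.sup hB2
  rw [← incl_tr (le_sup_left : B1 ≤ B1 ⊔ B2) s1] at hy ⊢
  rw [← incl_tr_rTensor (le_sup_right : B2 ≤ B1 ⊔ B2) y2] at hy ⊢
  generalize tr R (le_sup_left : B1 ≤ B1 ⊔ B2) s1 = sB at hy ⊢
  generalize (tr R (le_sup_right : B2 ≤ B1 ⊔ B2)).toLinearMap.rTensor M y2 = yB at hy ⊢
  generalize B1 ⊔ B2 = B at *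
  have h1 : ∀ i, ∃ k : ℕ, sB ^ k • (u i).lTensor _ yB = 0 := by
    intro i
    obtain ⟨k, hk⟩ := hy i
    refine ⟨k, incl_rTensor_injective (P := N i) B ?_⟩
    rw [map_zero, incl_rTensor_smul, map_pow, ← LinearMap.comp_apply,
      LinearMap.rTensor_comp_lTensor, ← LinearMap.lTensor_comp_rTensor, LinearMap.comp_apply]
    exact hk
  obtain ⟨k, hk⟩ := H B hB sB yB h1
  refine ⟨k, ?_⟩
  rw [← map_pow, ← incl_rTensor_smul, hk, map_zero]

/-- Joint injectivity after tensoring with every localisation `(R ⊗[A] B)[1/s]`, `B` a finitely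
generated subalgebra of `A'`, gives joint injectivity after tensoring with every localisation
`(R ⊗[A] A')[1/s]`. -/
theorem ji_of_forall_fg
    (H : ∀ B : Subalgebra A A', B.FG → ∀ sB : R ⊗[A] B, JI u (Localization.Away sB))
    (s : R ⊗[A] A') : JI u (Localization.Away s) := by
  rw [ji_iff_tji u (R ⊗[A] A') s (Localization.Away s)]
  refine tji_of_forall_fg u (fun B hB sB => ?_) s
  rw [← ji_iff_tji u (R ⊗[A] B) sB (Localization.Away sB)]
  exact H B hB sB

end Main

end FG

end Groth.Agent.Lib.Seat76.SepFG
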