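import Mathlib
import Groth.Agent.Lib.Seat76SepFG
import Groth.Agent.Lib.Seat76BCPO

/-!
# Quasi-compact opens of `X ×_k T` descend to a finitely generated subalgebra (seat 76)
-/

set_option autoImplicit false
set_option linter.style.haveILetI false
universe u
open CategoryTheory CategoryTheory.Limits AlgebraicGeometry TopologicalSpace Opposite TensorProduct

namespace Groth.Agent.Lib.Seat76.BCPO

variable {X : Scheme.{u}} (A : CommRingCat.{u}) (p : X ⟶ Spec A) {T : CommRingCat.{u}} (c : A ⟶ T)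

/-- The sections over the preimage of `W` are `Γ(X, W) ⊗[A] T`. -/
theorem exists_tensor_equiv [Algebra ↑A ↑T] (hc : algebraMap ↑A ↑T = c.hom)
    {W : X.Opens} (hW : IsAffineOpen W) :
    letI : Algebra ↑A Γ(X, W) := (αW A p W).hom.toAlgebra
    ∃ σ : Γ(X, W) ⊗[↑A] ↑T ≃+* Γ(pullback p (Spec.map c), preW A p c W),
      ∀ (r : Γ(X, W)) (t : ↑T), σ (r ⊗ₜ t) = (γW A p c W).hom r * (βW A p c W).hom t := by
  letI algAR : Algebra ↑A Γ(X, W) := (αW A p W).hom.toAlgebra
  letI algRS : Algebra Γ(X, W) Γ(pullback p (Spec.map c), preW A p c W) :=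
    (γW A p c W).hom.toAlgebra
  letI algTS : Algebra ↑T Γ(pullback p (Spec.map c), preW A p c W) := (βW A p c W).hom.toAlgebra
  letI algAS : Algebra ↑A Γ(pullback p (Spec.map c), preW A p c W) :=
    ((γW A p c W).hom.comp (αW A p W).hom).toAlgebra
  haveI st1 : IsScalarTower ↑A Γ(X, W) Γ(pullback p (Spec.map c), preW A p c W) :=
    .of_algebraMap_eq' rfl
  have hpo := isPushout_sections A p c hW
  haveI st2 : IsScalarTower ↑A ↑T Γ(pullback p (Spec.map c), preW A p c W) := by
    refine .of_algebraMap_eq' ?_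
    have h1 := congrArg CommRingCat.Hom.hom hpo.w
    rw [hc]
    exact h1
  haveI hpush : Algebra.IsPushout ↑A Γ(X, W) ↑T Γ(pullback p (Spec.map c), preW A p c W) := by
    have hc' : CommRingCat.ofHom (algebraMap ↑A ↑T) = c := by
      ext x
      rw [hc]
      rfl
    refine CommRingCat.isPushout_iff_isPushout.1 ?_
    rw [hc']
    exact hpo
  exact ⟨(Algebra.IsPushout.equiv ↑A Γ(X, W) ↑T
      Γ(pullback p (Spec.map c), preW A p c W)).toRingEquiv,
    fun r t => Algebra.IsPushout.equiv_tmul ↑A Γ(X, W) ↑T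
      Γ(pullback p (Spec.map c), preW A p c W) r t⟩

/-- The basic opens of the preimages of the affine opens of `X` form a basis of `X ×_A T`. -/
theorem isBasis_basicOpen :
    Opens.IsBasis (Set.range fun i : (Σ W : X.affineOpens,
        Γ(pullback p (Spec.map c), preW A p c W.1)) =>
      (pullback p (Spec.map c)).basicOpen i.2) := by
  rw [Opens.isBasis_iff_nbhd]
  intro V' y hy
  obtain ⟨W, hW, hxW, -⟩ := exists_isAffineOpen_mem_and_subset
    (Opens.mem_top (pullback.fst p (Spec.map c) y))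
  have hyU : y ∈ preW A p c W := mem_preW A p c hxW
  obtain ⟨f, hfV, hyf⟩ := (isAffineOpen_preW A p c hW).exists_basicOpen_le ⟨y, hy⟩ hyU
  exact ⟨_, ⟨⟨⟨W, hW⟩, f⟩, rfl⟩, hyf, hfV⟩

end Groth.Agent.Lib.Seat76.BCPO

namespace Groth.Agent.Lib.Seat76.SepFG

variable {A : Type u} [CommRing A] {A' : Type u} [CommRing A'] [Algebra A A']

theorem fg_finset_sup {κ : Type*} (s : Finset κ) (B : κ → Subalgebra A A')
    (hB : ∀ i ∈ s, (B i).FG) : (s.sup B).FG := by
  classical
  induction s using Finset.induction_on with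
  | empty => simpa using Subalgebra.fg_bot
  | insert a s ha ih =>
    rw [Finset.sup_insert]
    exact (hB a (Finset.mem_insert_self a s)).sup
      (ih fun i hi => hB i (Finset.mem_insert_of_mem hi))

/-- Finitely many elements of tensor products `Rs i ⊗[A] A'` come from one finitely generated
subalgebra of `A'`. -/
theorem exists_fg_forall_mem_range {κ : Type*} (Rs : κ → Type u) [∀ i, CommRing (Rs i)]
    [∀ i, Algebra A (Rs i)] (c : ∀ i, Rs i ⊗[A] A') (s : Set κ) (hs : s.Finite) :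
    ∃ B : Subalgebra A A', B.FG ∧ ∀ i ∈ s, ∃ cB : Rs i ⊗[A] B, incl (Rs i) B cB = c i := by
  choose B hB cB hcB using fun i => exists_fg_mem_range (R := Rs i) (c i)
  refine ⟨hs.toFinset.sup B, fg_finset_sup _ _ (fun i _ => hB i), fun i hi => ?_⟩
  have hle : B i ≤ hs.toFinset.sup B := Finset.le_sup (f := B) (hs.mem_toFinset.2 hi)
  exact ⟨tr (Rs i) hle (cB i), by rw [incl_tr, hcB]⟩

end Groth.Agent.Lib.Seat76.SepFG

namespace Groth.Agent.Lib.Seat76.QCOpenFG

open Groth.Agent.Lib.Seat76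

theorem appLE_congr_hom {Y Z : Scheme.{u}} {f g : Y ⟶ Z} (h : f = g) (U : Z.Opens) (V : Y.Opens)
    (e : V ≤ f ⁻¹ᵁ U) : f.appLE U V e = g.appLE U V (h ▸ e) := by
  subst h
  rfl

variable {X : Scheme.{u}} (A : CommRingCat.{u}) (p : X ⟶ Spec A) {T T' : CommRingCat.{u}}
  (c : A ⟶ T) (c' : A ⟶ T') (ι : T' ⟶ T)

/-- Compatibility of the sections over the preimages of `W` along a transition morphism
`X ×_A T ⟶ X ×_A T'`. -/
theorem transition (π : pullback p (Spec.map c) ⟶ pullback p (Spec.map c'))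
    (h1 : π ≫ pullback.fst p (Spec.map c') = pullback.fst p (Spec.map c))
    (h2 : π ≫ pullback.snd p (Spec.map c') = pullback.snd p (Spec.map c) ≫ Spec.map ι)
    (W : X.Opens) :
    ∃ hle : BCPO.preW A p c W ≤ π ⁻¹ᵁ BCPO.preW A p c' W,
      π ⁻¹ᵁ BCPO.preW A p c' W ≤ BCPO.preW A p c W ∧
      BCPO.γW A p c' W ≫ π.appLE _ _ hle = BCPO.γW A p c W ∧
      BCPO.βW A p c' W ≫ π.appLE _ _ hle = ι ≫ BCPO.βW A p c W := by
  have hpt : ∀ y, pullback.fst p (Spec.map c') (π y) = pullback.fst p (Spec.map c) y := by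
    intro y
    rw [← Scheme.Hom.comp_apply, h1]
  have hle : BCPO.preW A p c W ≤ π ⁻¹ᵁ BCPO.preW A p c' W := by
    intro y hy
    exact ⟨by change pullback.fst p (Spec.map c') (π y) ∈ W; rw [hpt]; exact hy.1, trivial⟩
  refine ⟨hle, ?_, ?_, ?_⟩
  · intro y hy
    exact ⟨by have := hy.1; change pullback.fst p (Spec.map c') (π y) ∈ W at this
              rw [hpt] at this; exact this, trivial⟩
  · rw [BCPO.γW, BCPO.γW, Scheme.Hom.appLE_comp_appLE]
    exact appLE_congr_hom h1 _ _ _
  · rw [BCPO.βW, BCPO.βW, Category.assoc, Scheme.Hom.appLE_comp_appLE,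
      appLE_congr_hom h2, ← Scheme.Hom.appLE_comp_appLE _ _ ⊤ ⊤ _ (fun _ _ => trivial)
        (BCPO.preW_le_snd A p c W), ← Category.assoc, ← Category.assoc]
    congr 1
    have h3 := Scheme.ΓSpecIso_inv_naturality ι
    rw [h3]
    congr 1

/-- A quasi-compact open of `X ×_k T` is the preimage of a quasi-compact open of `X ×_k T'` for
some finitely generated subalgebra `T'` of `T`. -/
theorem exists_fg_descent {X : Scheme.{u}} (k : Type u) [CommRing k]
    (p : X ⟶ Spec (CommRingCat.of k)) (T : Type u) [CommRing T] [Algebra k T]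
    (V : Set ↥(pullback p (Spec.map (CommRingCat.ofHom (algebraMap k T))))) (hV : IsOpen V)
    (hVc : IsCompact V) :
    ∃ T' : Subalgebra k T, T'.FG ∧
      ∃ V' : Set ↥(pullback p (Spec.map (CommRingCat.ofHom (algebraMap k ↥T')))),
        IsOpen V' ∧ IsCompact V' ∧
        ∀ π : pullback p (Spec.map (CommRingCat.ofHom (algebraMap k T))) ⟶
            pullback p (Spec.map (CommRingCat.ofHom (algebraMap k ↥T'))),
          π ≫ pullback.fst _ _ = pullback.fst _ _ →
          π ≫ pullback.snd _ _ =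
            pullback.snd _ _ ≫ Spec.map (CommRingCat.ofHom T'.val.toRingHom) →
            π.base ⁻¹' V' = V := by
  -- finite cover by basic opens
  let I := Σ W : X.affineOpens, Γ(pullback p (Spec.map (CommRingCat.ofHom (algebraMap k T))), BCPO.preW (CommRingCat.of k) p (CommRingCat.ofHom (algebraMap k T)) W.1)
  let b : I → (pullback p (Spec.map (CommRingCat.ofHom (algebraMap k T)))).Opens :=
    fun i => (pullback p (Spec.map (CommRingCat.ofHom (algebraMap k T)))).basicOpen i.2
  have hb : Opens.IsBasis (Set.range b) := BCPO.isBasis_basicOpen (CommRingCat.of k) p (CommRingCat.ofHom (algebraMap k T))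
  have hb' : ∀ i, IsCompact (b i : Set ↥(pullback p (Spec.map (CommRingCat.ofHom (algebraMap k T))))) :=
    fun i => ((BCPO.isAffineOpen_preW (CommRingCat.of k) p (CommRingCat.ofHom (algebraMap k T)) i.1.2).basicOpen i.2).isCompact
  obtain ⟨s, hs, hVs⟩ :=
    (Opens.IsBasis.isCompact_open_iff_eq_finite_iUnion b hb hb' V).1 ⟨hVc, hV⟩
  -- algebra structures and tensor descriptions
  letI alg : ∀ W : X.affineOpens, Algebra k Γ(X, W.1) :=
    fun W => (BCPO.αW (CommRingCat.of k) p W.1).hom.toAlgebra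
  have hex : ∀ W : X.affineOpens,
      ∃ σ : Γ(X, W.1) ⊗[k] T ≃+* Γ(pullback p (Spec.map (CommRingCat.ofHom (algebraMap k T))), BCPO.preW (CommRingCat.of k) p (CommRingCat.ofHom (algebraMap k T)) W.1),
        ∀ (r : Γ(X, W.1)) (t : T), σ (r ⊗ₜ t) =
          (BCPO.γW (CommRingCat.of k) p (CommRingCat.ofHom (algebraMap k T)) W.1).hom r * (BCPO.βW (CommRingCat.of k) p (CommRingCat.ofHom (algebraMap k T)) W.1).hom t :=
    fun W => BCPO.exists_tensor_equiv (CommRingCat.of k) p (CommRingCat.ofHom (algebraMap k T)) rfl W.2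
  choose σ hσ using hex
  obtain ⟨T', hT', hc'⟩ := SepFG.exists_fg_forall_mem_range (A := k) (A' := T)
    (fun i : I => Γ(X, i.1.1)) (fun i => (σ i.1).symm i.2) s hs
  refine ⟨T', hT', ?_⟩
  have hex' : ∀ W : X.affineOpens,
      ∃ σ' : Γ(X, W.1) ⊗[k] ↥T' ≃+* Γ(pullback p (Spec.map (CommRingCat.ofHom (algebraMap k ↥T'))), BCPO.preW (CommRingCat.of k) p (CommRingCat.ofHom (algebraMap k ↥T')) W.1),
        ∀ (r : Γ(X, W.1)) (t : ↥T'), σ' (r ⊗ₜ t) =
          (BCPO.γW (CommRingCat.of k) p (CommRingCat.ofHom (algebraMap k ↥T')) W.1).hom r * (BCPO.βW (CommRingCat.of k) p (CommRingCat.ofHom (algebraMap k ↥T')) W.1).hom t :=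
    fun W => BCPO.exists_tensor_equiv (CommRingCat.of k) p (CommRingCat.ofHom (algebraMap k ↥T')) rfl W.2
  choose σ' hσ' using hex'
  choose! z hz using hc'
  let b' : I → (pullback p (Spec.map (CommRingCat.ofHom (algebraMap k ↥T')))).Opens :=
    fun i => (pullback p (Spec.map (CommRingCat.ofHom (algebraMap k ↥T')))).basicOpen (σ' i.1 (z i))
  refine ⟨⋃ i ∈ s, (b' i : Set ↥(pullback p (Spec.map (CommRingCat.ofHom (algebraMap k ↥T'))))), isOpen_biUnion (fun i _ => (b' i).2),
    hs.isCompact_biUnion (fun i _ =>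
      ((BCPO.isAffineOpen_preW (CommRingCat.of k) p (CommRingCat.ofHom (algebraMap k ↥T')) i.1.2).basicOpen _).isCompact), ?_⟩
  intro π h1 h2
  rw [hVs, Set.preimage_iUnion₂]
  refine Set.iUnion₂_congr (fun i hi => ?_)
  obtain ⟨hle, hge, hγ, hβ⟩ := transition (CommRingCat.of k) p (CommRingCat.ofHom (algebraMap k T)) (CommRingCat.ofHom (algebraMap k ↥T')) (CommRingCat.ofHom T'.val.toRingHom) π h1 h2
    i.1.1
  have key : ∀ y : Γ(X, i.1.1) ⊗[k] ↥T',
      (π.appLE _ _ hle).hom (σ' i.1 y) = σ i.1 (SepFG.incl Γ(X, i.1.1) T' y) := by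
    intro y
    induction y using TensorProduct.induction_on with
    | zero => simp
    | tmul r t =>
      rw [hσ', map_mul]
      have e1 : (π.appLE _ _ hle).hom ((BCPO.γW (CommRingCat.of k) p (CommRingCat.ofHom (algebraMap k ↥T')) i.1.1).hom r) =
          (BCPO.γW (CommRingCat.of k) p (CommRingCat.ofHom (algebraMap k T)) i.1.1).hom r := congr($hγ r)
      have e2 : (π.appLE _ _ hle).hom ((BCPO.βW (CommRingCat.of k) p (CommRingCat.ofHom (algebraMap k ↥T')) i.1.1).hom t) =
          (BCPO.βW (CommRingCat.of k) p (CommRingCat.ofHom (algebraMap k T)) i.1.1).hom (t : T) := congr($hβ t)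
      rw [e1, e2]
      change _ = σ i.1 (r ⊗ₜ (t : T))
      rw [hσ]
    | add y1 y2 h1 h2 => simp only [map_add, h1, h2]
  have h3 := Scheme.basicOpen_appLE π _ _ hle (σ' i.1 (z i))
  have key' := key (z i)
  rw [hz i hi, RingEquiv.apply_symm_apply] at key'
  have h4 : π ⁻¹ᵁ b' i = b i := by
    change π ⁻¹ᵁ b' i = (pullback p (Spec.map (CommRingCat.ofHom (algebraMap k T)))).basicOpen i.2
    rw [← key']
    refine le_antisymm ?_ ?_
    · refine le_trans ?_ h3.ge
      refine le_inf ?_ le_rfl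
      exact le_trans (π.preimage_mono ((pullback p (Spec.map (CommRingCat.ofHom (algebraMap k ↥T')))).basicOpen_le _)) hge
    · exact h3.le.trans inf_le_right
  exact congrArg (fun U : (pullback p (Spec.map (CommRingCat.ofHom (algebraMap k T)))).Opens =>
    (U : Set ↥(pullback p (Spec.map (CommRingCat.ofHom (algebraMap k T)))))) h4

end Groth.Agent.Lib.Seat76.QCOpenFG
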