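import Mathlib
import Groth.Prelude.Def_FDesc
import Groth.Agent.Lib.Helper2QuasiFlat2

/-!
# Seat 76: base change of "components dominate components" along a quasi-flat morphism
-/

set_option autoImplicit false
universe u
open CategoryTheory Limits AlgebraicGeometry TopologicalSpace

namespace Groth.Agent.Lib.Seat76.QFComp

section Top

variable {T : Type*} [TopologicalSpace T]

/-- the generic point of an irreducible component has no proper generalization -/
theorem eq_of_specializes_of_mem_irreducibleComponents [T0Space T] {S : Set T}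
    (hS : S ∈ irreducibleComponents T) {ξ : T} (hξ : IsGenericPoint ξ S) {z : T} (hz : z ⤳ ξ) :
    z = ξ := by
  have h1 : S ⊆ closure {z} := by
    rw [← hξ.def]
    exact closure_minimal (Set.singleton_subset_iff.mpr (specializes_iff_mem_closure.mp hz))
      isClosed_closure
  have h2 : IsIrreducible (closure {z}) := isIrreducible_singleton.closure
  have h3 : closure {z} ⊆ S := hS.2 h2 h1
  have h4 : z ∈ S := h3 (subset_closure rfl)
  have h5 : ξ ⤳ z := hξ.specializes h4
  exact (hz.antisymm h5).eq

/-- a point without proper generalizations is the generic point of an irreducible component -/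
theorem closure_singleton_mem_irreducibleComponents [QuasiSober T] {y : T}
    (hy : ∀ z : T, z ⤳ y → z = y) : closure {y} ∈ irreducibleComponents T := by
  refine ⟨isIrreducible_singleton.closure, fun S hS hle => ?_⟩
  obtain ⟨η, hη⟩ := QuasiSober.sober hS.closure isClosed_closure
  have h1 : y ∈ closure S := subset_closure (hle (subset_closure rfl))
  have h2 : η ⤳ y := hη.specializes h1
  have h3 : η = y := hy η h2
  intro s hs
  have : s ∈ closure S := subset_closure hs
  rw [← hη.def, h3] at this
  exact this

end Top

/-- base change along a morphism factoring through an integral one-point scheme is flat -/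
theorem flat_of_isPullback_of_fac {X Y W S P : Scheme.{u}} [Subsingleton S] [IsIntegral S]
    (f : X ⟶ Y) (w : W ⟶ S) (s : S ⟶ Y) (a : P ⟶ X) (b : P ⟶ W)
    (h : IsPullback a b f (w ≫ s)) : Flat b := by
  have hR : IsPullback (pullback.fst f s) (pullback.snd f s) f s := IsPullback.of_hasPullback f s
  have hcomm : a ≫ f = (b ≫ w) ≫ s := by rw [Category.assoc]; exact h.w
  have hl1 : pullback.lift a (b ≫ w) hcomm ≫ pullback.fst f s = a := pullback.lift_fst _ _ _
  have hl2 : pullback.lift a (b ≫ w) hcomm ≫ pullback.snd f s = b ≫ w := pullback.lift_snd _ _ _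
  have hL : IsPullback (pullback.lift a (b ≫ w) hcomm) b (pullback.snd f s) w := by
    refine IsPullback.of_right ?_ hl2 hR
    rw [hl1]; exact h
  have hfl : Flat (pullback.snd f s) := inferInstance
  exact MorphismProperty.of_isPullback hL hfl


open Groth.Agent.Lib.Helper2 in
/-- the main statement: components of the base change dominate components of the base -/
theorem closure_image_mem {X Y Y' : Scheme.{u}} (f : X ⟶ Y) (g : Y' ⟶ Y)
    (hf : ∀ Z ∈ irreducibleComponents ↥X, closure (⇑f '' Z) ∈ irreducibleComponents ↥Y)
    (hg : FDesc.IsQuasiFlat g) (Z' : Set ↥(pullback f g))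
    (hZ' : Z' ∈ irreducibleComponents ↥(pullback f g)) :
    closure (⇑(pullback.snd f g) '' Z') ∈ irreducibleComponents ↥Y' := by
  have hZirr : IsIrreducible Z' := hZ'.1
  have hZcl : IsClosed Z' := isClosed_of_mem_irreducibleComponents Z' hZ'
  obtain ⟨z', hz'⟩ := QuasiSober.sober hZirr hZcl
  have hzmax : ∀ z₁ : ↥(pullback f g), z₁ ⤳ z' → z₁ = z' := fun z₁ h =>
    eq_of_specializes_of_mem_irreducibleComponents hZ' hz' h
  -- the first projection is quasi-flat, hence generalizing
  have hp : FDesc.IsQuasiFlat (pullback.fst f g) :=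
    QuasiFlat.isQuasiFlat_of_isPullback (IsPullback.of_hasPullback f g).flip hg
  have hpgen : GeneralizingMap (pullback.fst f g).base :=
    QuasiFlat.generalizingMap_of_isQuasiFlat _ hp
  -- step 1: x is maximal
  have hxmax : ∀ x₁ : X, x₁ ⤳ (pullback.fst f g) z' → x₁ = (pullback.fst f g) z' := by
    intro x₁ h
    obtain ⟨z₁, hz₁, rfl⟩ := hpgen h
    rw [hzmax z₁ hz₁]
  -- step 2: y is maximal
  have hymax : ∀ y₁ : Y, y₁ ⤳ f ((pullback.fst f g) z') → y₁ = f ((pullback.fst f g) z') := by
    intro y₁ h
    have hT := closure_singleton_mem_irreducibleComponents hxmax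
    have hT' := hf _ hT
    rw [closure_image_closure f.continuous, Set.image_singleton] at hT'
    exact eq_of_specializes_of_mem_irreducibleComponents hT' rfl h
  -- step 3: y' is maximal
  have hy'max : ∀ y₁ : Y', y₁ ⤳ (pullback.snd f g) z' → y₁ = (pullback.snd f g) z' := by
    intro y₁ h
    have hcond : g ((pullback.snd f g) z') = f ((pullback.fst f g) z') := by
      rw [← Scheme.Hom.comp_apply, ← Scheme.Hom.comp_apply, pullback.condition]
    have hgy₁ : g y₁ = g ((pullback.snd f g) z') := by
      rw [hcond]
      exact hymax _ (hcond ▸ h.map g.continuous)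
    -- the fibre of g over y := g (q z')
    obtain ⟨y, hy⟩ : ∃ y : Y, g ((pullback.snd f g) z') = y := ⟨_, rfl⟩
    rw [hy] at hgy₁
    have hb : Flat (pullback.snd (pullback.snd f g) (g.fiberι y)) := by
      have h1 : IsPullback
          (pullback.fst (pullback.snd f g) (g.fiberι y) ≫ pullback.fst f g)
          (pullback.snd (pullback.snd f g) (g.fiberι y)) f (g.fiberι y ≫ g) :=
        (IsPullback.of_hasPullback (pullback.snd f g)
          (g.fiberι y)).paste_horiz (IsPullback.of_hasPullback f g)
      rw [Scheme.Hom.fiber_fac] at h1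
      exact flat_of_isPullback_of_fac f _ _ _ _ h1
    have hbgen := Flat.generalizingMap (pullback.snd (pullback.snd f g) (g.fiberι y))
    -- points of the fibre
    have hr := g.range_fiberι y
    obtain ⟨w₀, hw₀⟩ : (pullback.snd f g) z' ∈ Set.range (g.fiberι y) := by rw [hr]; exact hy
    obtain ⟨w₁, hw₁⟩ : y₁ ∈ Set.range (g.fiberι y) := by rw [hr]; exact hgy₁
    have hw : w₁ ⤳ w₀ := by
      rw [← (g.fiberι y).isEmbedding.isInducing.specializes_iff, hw₀, hw₁]
      exact h
    obtain ⟨t₀, ht₀⟩ : z' ∈ Set.range (pullback.fst (pullback.snd f g) (g.fiberι y)) := by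
      rw [Scheme.Pullback.range_fst]
      exact ⟨w₀, hw₀⟩
    have ht₀' : (pullback.snd (pullback.snd f g) (g.fiberι y)) t₀ = w₀ := by
      apply (g.fiberι y).isEmbedding.injective
      rw [hw₀, ← ht₀, ← Scheme.Hom.comp_apply, ← Scheme.Hom.comp_apply, pullback.condition]
    obtain ⟨t₁, ht₁, ht₁'⟩ := hbgen (ht₀'.symm ▸ hw)
    have h2 : (pullback.fst (pullback.snd f g) (g.fiberι y)) t₁ = z' := by
      apply hzmax
      rw [← ht₀]
      exact ht₁.map (Scheme.Hom.continuous _)
    rw [← hw₁, ← ht₁', ← h2, ← Scheme.Hom.comp_apply, ← Scheme.Hom.comp_apply,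
      pullback.condition]
  have := closure_singleton_mem_irreducibleComponents hy'max
  rw [← hz'.def, closure_image_closure (pullback.snd f g).continuous, Set.image_singleton]
  exact this

end Groth.Agent.Lib.Seat76.QFComp
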