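import Mathlib

/-!
# Quasi-homeomorphisms and sheaf categories (seat 76)

If `U ↦ f⁻¹ U` is a bijection on open sets, then the pushforward of sheaves along `f` is an
equivalence of categories (with values in an arbitrary category).
-/

set_option autoImplicit false
universe u v w
open CategoryTheory TopologicalSpace Opposite

namespace Groth.Agent.Lib.Seat76.QuasiHomeo

variable {X₀ X : TopCat.{u}} (f : X₀ ⟶ X)

/-- For a map that is injective on opens (via preimage), preimage reflects the order. -/
theorem le_of_map_le (hf : Function.Injective (fun U : Opens X => (Opens.map f).obj U))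
    {U V : Opens X} (h : (Opens.map f).obj U ≤ (Opens.map f).obj V) : U ≤ V := by
  have h1 : (Opens.map f).obj (U ⊓ V) = (Opens.map f).obj U := by
    apply le_antisymm
    · exact (Opens.map f).monotone inf_le_left
    · intro x hx
      exact ⟨hx, h hx⟩
  have h2 : U ⊓ V = U := hf h1
  exact h2 ▸ inf_le_right

theorem isEquivalence_opensMap
    (hf : Function.Bijective (fun U : Opens X => (Opens.map f).obj U)) :
    (Opens.map f).IsEquivalence where
  faithful := inferInstance
  full := ⟨fun {U V} g => ⟨homOfLE (le_of_map_le f hf.1 (leOfHom g)), Subsingleton.elim _ _⟩⟩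
  essSurj := ⟨fun W => by
    obtain ⟨U, hU⟩ := hf.2 W
    exact ⟨U, ⟨eqToIso hU⟩⟩⟩

theorem isDenseSubsite_opensMap
    (hf : Function.Bijective (fun U : Opens X => (Opens.map f).obj U)) :
    (Opens.map f).IsDenseSubsite (Opens.grothendieckTopology X) (Opens.grothendieckTopology X₀) := by
  have := isEquivalence_opensMap f hf
  refine { functorPushforward_mem_iff := ?_ }
  intro U S
  constructor
  · intro hS x hx
    -- the union of the members of `S`
    let U' : Opens X := sSup {V | ∃ i : V ⟶ U, S i}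
    have hU'U : U' ≤ U := sSup_le (fun V ⟨i, _⟩ => leOfHom i)
    have hle : (Opens.map f).obj U ≤ (Opens.map f).obj U' := by
      intro y hy
      obtain ⟨W, i, ⟨V, j, k, hj, _⟩, hyW⟩ := hS y hy
      have hyV : y ∈ (Opens.map f).obj V := leOfHom k hyW
      have hVU' : V ≤ U' := le_sSup ⟨j, hj⟩
      exact (Opens.map f).monotone hVU' hyV
    have hUU' : U ≤ U' := le_of_map_le f hf.1 hle
    have hx' : x ∈ U' := hUU' hx
    rw [Opens.mem_sSup] at hx'
    obtain ⟨V, ⟨i, hi⟩, hxV⟩ := hx'
    exact ⟨V, i, hi, hxV⟩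
  · intro hS
    exact (coverPreserving_opens_map f).cover_preserve hS

/-- If preimage is a bijection on opens, pushforward of sheaves is an equivalence. -/
theorem isEquivalence_pushforward (C : Type v) [Category.{w} C]
    (hf : Function.Bijective (fun U : Opens X => (Opens.map f).obj U)) :
    (TopCat.Sheaf.pushforward C f).IsEquivalence := by
  have := isEquivalence_opensMap f hf
  let e : Opens X₀ ≌ Opens X := (Opens.map f).asEquivalence.symm
  have : e.inverse.IsDenseSubsite (Opens.grothendieckTopology X)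
      (Opens.grothendieckTopology X₀) := isDenseSubsite_opensMap f hf
  exact inferInstanceAs ((e.sheafCongr (Opens.grothendieckTopology X₀)
    (Opens.grothendieckTopology X) C).functor).IsEquivalence

/-! ## Converse for sheaves of sets -/


/-- The subterminal sheaf of sets attached to an open subset. -/
def subterminalSheaf {Y : TopCat.{u}} (W : Opens Y) : TopCat.Sheaf (Type u) Y :=
  ⟨yoneda.obj W, TopCat.Presheaf.isSheaf_of_isSheafUniqueGluing_types _ (fun ι U sf _ => by
    refine ⟨(homOfLE (iSup_le fun i => leOfHom (show U i ⟶ W from sf i)) : iSup U ⟶ W), ?_, ?_⟩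
    · intro i
      exact Subsingleton.elim (α := (U i ⟶ W)) _ _
    · intro t _
      exact Subsingleton.elim (α := (iSup U ⟶ W)) _ _)⟩


theorem bijective_of_pushforward_type [(TopCat.Sheaf.pushforward (Type u) f).Full]
    [(TopCat.Sheaf.pushforward (Type u) f).EssSurj] :
    Function.Bijective (fun U : Opens X => (Opens.map f).obj U) := by
  have key : ∀ U V : Opens X, (Opens.map f).obj U = (Opens.map f).obj V → V ≤ U := by
    intro U V h
    let G := (TopCat.Sheaf.pushforward (Type u) f).objPreimage (subterminalSheaf U)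
    let φ : (TopCat.Sheaf.pushforward (Type u) f).obj G ≅ subterminalSheaf U :=
      (TopCat.Sheaf.pushforward (Type u) f).objObjPreimageIso (subterminalSheaf U)
    let s₁ : G.1.obj (op ((Opens.map f).obj U)) :=
      φ.inv.hom.app (op U) (show U ⟶ U from 𝟙 U)
    let s₂ : G.1.obj (op ((Opens.map f).obj V)) := G.1.map (eqToHom h.symm).op s₁
    exact leOfHom (show V ⟶ U from φ.hom.hom.app (op V) s₂)
  constructor
  · intro U V h
    exact le_antisymm (key V U h.symm) (key U V h)
  · intro W
    let U : Opens X := sSup {U' | (Opens.map f).obj U' ≤ W}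
    have hle : (Opens.map f).obj U ≤ W := by
      intro x hx
      have hx' : f x ∈ U := hx
      rw [Opens.mem_sSup] at hx'
      obtain ⟨U', hU', hxU'⟩ := hx'
      exact hU' hxU'
    refine ⟨U, le_antisymm hle ?_⟩
    let ψ : (TopCat.Sheaf.pushforward (Type u) f).obj (subterminalSheaf W) ⟶
        (TopCat.Sheaf.pushforward (Type u) f).obj (subterminalSheaf ((Opens.map f).obj U)) :=
      ObjectProperty.homMk
        { app := fun U'' => TypeCat.ofHom (fun g =>
            (show (Opens.map f).obj U''.unop ⟶ (Opens.map f).obj U from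
              (Opens.map f).map (homOfLE (le_sSup
                (leOfHom (show (Opens.map f).obj U''.unop ⟶ W from g))))))
          naturality := fun U₁ U₂ i => by
            ext g
            exact Subsingleton.elim (α := ((Opens.map f).obj U₂.unop ⟶ (Opens.map f).obj U)) _ _ }
    let θ := (TopCat.Sheaf.pushforward (Type u) f).preimage ψ
    exact leOfHom (show W ⟶ (Opens.map f).obj U from θ.hom.app (op W) (show W ⟶ W from 𝟙 W))


/-! ## Converse for sheaves of abelian groups -/


section pts
variable {Y : TopCat.{u}} {I : Type u} (φ : I → Y) (A : Type u) [AddCommGroup A]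

/-- The presheaf of abelian groups `V ↦ (φ⁻¹ V → A)`: the product of the skyscraper sheaves at
the points `φ i`. -/
def ptsPresheaf : TopCat.Presheaf AddCommGrpCat.{u} Y where
  obj V := AddCommGrpCat.of ({i : I // φ i ∈ V.unop} → A)
  map g := AddCommGrpCat.ofHom
    { toFun := fun s i => s ⟨i.1, leOfHom g.unop i.2⟩
      map_zero' := rfl
      map_add' := fun _ _ => rfl }
  map_id _ := rfl
  map_comp _ _ := rfl

theorem ptsPresheaf_isSheaf : (ptsPresheaf φ A).IsSheaf := by
  rw [TopCat.Presheaf.isSheaf_iff_isSheafUniqueGluing]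
  intro ι U sf hsf
  choose index index_spec using fun i : {i : I // φ i ∈ iSup U} => Opens.mem_iSup.mp i.2
  let s : {i : I // φ i ∈ iSup U} → A := fun i => (sf (index i) : _ → A) ⟨i.1, index_spec i⟩
  refine ⟨s, ?_, ?_⟩
  · intro j
    funext i
    have := congr_fun (hsf (index ⟨i.1, (Opens.leSupr U j).le i.2⟩) j)
      ⟨i.1, ⟨index_spec ⟨i.1, _⟩, i.2⟩⟩
    exact this
  · intro t ht
    funext i
    exact congr_fun (ht (index i)) ⟨i.1, index_spec i⟩

/-- The sheaf `V ↦ (φ⁻¹ V → A)`. -/
def ptsSheaf : TopCat.Sheaf AddCommGrpCat.{u} Y := ⟨ptsPresheaf φ A, ptsPresheaf_isSheaf φ A⟩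

end pts


theorem injective_of_pushforward_ab [(TopCat.Sheaf.pushforward AddCommGrpCat.{u} f).EssSurj] :
    Function.Injective (fun U : Opens X => (Opens.map f).obj U) := by
  have key : ∀ U V : Opens X, (Opens.map f).obj U = (Opens.map f).obj V → U ≤ V := by
    intro U V h x hxU
    by_contra hxV
    let H : TopCat.Sheaf AddCommGrpCat.{u} X := ptsSheaf (fun _ : PUnit.{u+1} => x) (ULift.{u} ℤ)
    let G := (TopCat.Sheaf.pushforward AddCommGrpCat.{u} f).objPreimage H
    let φ : (TopCat.Sheaf.pushforward AddCommGrpCat.{u} f).obj G ≅ H :=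
      (TopCat.Sheaf.pushforward AddCommGrpCat.{u} f).objObjPreimageIso H
    let e₁ : H.1.obj (op U) ≅ G.1.obj (op ((Opens.map f).obj U)) :=
      ((sheafToPresheaf _ _).mapIso φ.symm).app (op U)
    let e₂ : G.1.obj (op ((Opens.map f).obj U)) ≅ G.1.obj (op ((Opens.map f).obj V)) :=
      G.1.mapIso (eqToIso (congrArg op h))
    let e₃ : G.1.obj (op ((Opens.map f).obj V)) ≅ H.1.obj (op V) :=
      ((sheafToPresheaf _ _).mapIso φ).app (op V)
    let e : H.1.obj (op U) ≅ H.1.obj (op V) := e₁ ≪≫ e₂ ≪≫ e₃
    let s : {i : PUnit.{u+1} // x ∈ U} → ULift.{u} ℤ := fun _ => ⟨1⟩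
    have hs : e.hom.hom s = e.hom.hom 0 := by
      funext i
      exact absurd i.2 hxV
    have hs' : s = 0 := by
      have h1 : e.inv.hom (e.hom.hom s) = s := Iso.hom_inv_id_apply e s
      have h2 : e.inv.hom (e.hom.hom 0) = 0 := Iso.hom_inv_id_apply e _
      exact h1.symm.trans ((congrArg _ hs).trans h2)
    have := congr_fun hs' ⟨PUnit.unit, hxU⟩
    have h10 : (1 : ℤ) = 0 := congrArg ULift.down this
    exact one_ne_zero h10
  intro U V h
  exact le_antisymm (key U V h) (key V U h.symm)

section surj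
variable (W : Opens X₀) (x₀ : X₀)

/-- Functions on the complement of `W` with integer values. -/
abbrev FunZ : Type u := {z : X₀ // z ∉ W} → ULift.{u} ℤ

/-- The functions vanishing on the preimage of a neighbourhood of `f x₀`. -/
def germZero : AddSubgroup (FunZ W) where
  carrier := {g | ∃ U' : Opens X, x₀ ∈ (Opens.map f).obj U' ∧
    ∀ z : {z : X₀ // z ∉ W}, z.1 ∈ (Opens.map f).obj U' → g z = 0}
  zero_mem' := ⟨⊤, trivial, fun _ _ => rfl⟩
  add_mem' := by
    rintro a b ⟨U₁, h₁, h₁'⟩ ⟨U₂, h₂, h₂'⟩
    exact ⟨U₁ ⊓ U₂, ⟨h₁, h₂⟩, fun z hz => by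
      simp only [Pi.add_apply, h₁' z hz.1, h₂' z hz.2, add_zero]⟩
  neg_mem' := by
    rintro a ⟨U₁, h₁, h₁'⟩
    exact ⟨U₁, h₁, fun z hz => by simp only [Pi.neg_apply, h₁' z hz, neg_zero]⟩

open Classical in
/-- Extension by zero. -/
noncomputable def ext₀ (U' : Opens X) :
    ({z : {z : X₀ // z ∉ W} // z.1 ∈ (Opens.map f).obj U'} → ULift.{u} ℤ) →+ FunZ W where
  toFun g z := if h : z.1 ∈ (Opens.map f).obj U' then g ⟨z, h⟩ else 0
  map_zero' := by
    funext z
    by_cases h : z.1 ∈ (Opens.map f).obj U'
    · simp only [dif_pos h, Pi.zero_apply]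
    · simp only [dif_neg h, Pi.zero_apply]
  map_add' a b := by
    funext z
    by_cases h : z.1 ∈ (Opens.map f).obj U'
    · simp only [dif_pos h, Pi.add_apply]
    · simp only [dif_neg h, Pi.add_apply, add_zero]

theorem ext₀_apply_of_mem (U' : Opens X)
    (g : {z : {z : X₀ // z ∉ W} // z.1 ∈ (Opens.map f).obj U'} → ULift.{u} ℤ)
    (z : {z : X₀ // z ∉ W}) (h : z.1 ∈ (Opens.map f).obj U') :
    ext₀ f W U' g z = g ⟨z, h⟩ := by
  simp only [ext₀, AddMonoidHom.coe_mk, ZeroHom.coe_mk, dif_pos h]

/-- The germ map, as a morphism of sheaves on `X`. -/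
noncomputable def germHom :
    (TopCat.Sheaf.pushforward AddCommGrpCat.{u} f).obj
      (ptsSheaf (Subtype.val : {z : X₀ // z ∉ W} → X₀) (ULift.{u} ℤ)) ⟶
    (TopCat.Sheaf.pushforward AddCommGrpCat.{u} f).obj
      (ptsSheaf (fun _ : PUnit.{u+1} => x₀) (FunZ W ⧸ germZero f W x₀)) :=
  ObjectProperty.homMk
    { app := fun U' => AddCommGrpCat.ofHom
        ({ toFun := fun g _ => QuotientAddGroup.mk (ext₀ f W U'.unop g)
           map_zero' := by
             funext i
             simp
           map_add' := fun a b => by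
             funext i
             simp } :
          ({z : {z : X₀ // z ∉ W} // z.1 ∈ (Opens.map f).obj U'.unop} → ULift.{u} ℤ) →+
            ({i : PUnit.{u+1} // x₀ ∈ (Opens.map f).obj U'.unop} → FunZ W ⧸ germZero f W x₀))
      naturality := fun U₁ U₂ i => by
        ext g
        funext j
        have hmono : (Opens.map f).obj U₂.unop ≤ (Opens.map f).obj U₁.unop :=
          (Opens.map f).monotone (leOfHom i.unop)
        let g' : ({z : {z : X₀ // z ∉ W} // z.1 ∈ (Opens.map f).obj U₁.unop} → ULift.{u} ℤ) := g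
        show (QuotientAddGroup.mk (ext₀ f W U₂.unop (fun z => g' ⟨z.1, hmono z.2⟩)) :
          FunZ W ⧸ germZero f W x₀) = QuotientAddGroup.mk (ext₀ f W U₁.unop g')
        rw [QuotientAddGroup.eq]
        refine ⟨U₂.unop, j.2, fun z hz => ?_⟩
        have e1 := ext₀_apply_of_mem f W U₁.unop g' z (hmono hz)
        have e2 := ext₀_apply_of_mem f W U₂.unop (fun z => g' ⟨z.1, hmono z.2⟩) z hz
        show -(ext₀ f W U₂.unop (fun z => g' ⟨z.1, hmono z.2⟩) z) + ext₀ f W U₁.unop g' z = 0
        rw [e1, e2]
        exact neg_add_cancel _ }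

end surj

theorem surjective_of_pushforward_ab [(TopCat.Sheaf.pushforward AddCommGrpCat.{u} f).Full] :
    Function.Surjective (fun U : Opens X => (Opens.map f).obj U) := by
  intro W
  let U : Opens X := sSup {U' | (Opens.map f).obj U' ≤ W}
  have hle : (Opens.map f).obj U ≤ W := by
    intro x hx
    have hx' : f x ∈ U := hx
    rw [Opens.mem_sSup] at hx'
    obtain ⟨U', hU', hxU'⟩ := hx'
    exact hU' hxU'
  refine ⟨U, le_antisymm hle ?_⟩
  intro x₀ hx₀
  by_contra hx₀U
  let G : TopCat.Sheaf AddCommGrpCat.{u} X₀ :=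
    ptsSheaf (Subtype.val : {z : X₀ // z ∉ W} → X₀) (ULift.{u} ℤ)
  let T : TopCat.Sheaf AddCommGrpCat.{u} X₀ :=
    ptsSheaf (fun _ : PUnit.{u+1} => x₀) (FunZ W ⧸ germZero f W x₀)
  let θ : G ⟶ T := (TopCat.Sheaf.pushforward AddCommGrpCat.{u} f).preimage (germHom f W x₀)
  have hθ : (TopCat.Sheaf.pushforward AddCommGrpCat.{u} f).map θ = germHom f W x₀ :=
    Functor.map_preimage _ _
  let V' : Opens X₀ := (Opens.map f).obj ⊤
  let one : ({z : {z : X₀ // z ∉ W} // z.1 ∈ V'} → ULift.{u} ℤ) := fun _ => ⟨1⟩
  have hx₀V' : x₀ ∈ V' := trivial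
  have hWV' : W ≤ V' := fun _ _ => trivial
  have h0 : (θ.hom.app (op V')).hom one ⟨PUnit.unit, hx₀V'⟩ = 0 := by
    have nat := θ.hom.naturality (homOfLE hWV').op
    have nat' := congrArg (fun m => m.hom one) nat
    have hsub : (G.1.map (homOfLE hWV').op).hom one = 0 := by
      funext z
      exact absurd z.2 z.1.2
    have nat'' : (θ.hom.app (op W)).hom ((G.1.map (homOfLE hWV').op).hom one) =
      (T.1.map (homOfLE hWV').op).hom ((θ.hom.app (op V')).hom one) := nat'
    rw [hsub, map_zero] at nat''
    exact (congr_fun nat'' ⟨PUnit.unit, hx₀⟩).symm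
  have h1 : (germHom f W x₀).hom.app (op ⊤) = θ.hom.app (op V') :=
    (congrArg (fun m => m.hom.app (op ⊤)) hθ).symm
  have h2 : (QuotientAddGroup.mk (ext₀ f W ⊤ one) : FunZ W ⧸ germZero f W x₀) = 0 := by
    have : ((germHom f W x₀).hom.app (op ⊤)).hom one ⟨PUnit.unit, hx₀V'⟩ = 0 := by
      rw [h1]; exact h0
    exact this
  rw [QuotientAddGroup.eq_zero_iff] at h2
  obtain ⟨U', hx₀U', hU'⟩ := h2
  apply hx₀U
  have hU'W : (Opens.map f).obj U' ≤ W := by
    intro z hz
    by_contra hzW
    have := hU' ⟨z, hzW⟩ hz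
    rw [ext₀_apply_of_mem f W ⊤ one ⟨z, hzW⟩ trivial] at this
    have h10 : (1 : ℤ) = 0 := congrArg ULift.down this
    exact one_ne_zero h10
  have hU'U : U' ≤ U := le_sSup hU'W
  exact (Opens.map f).monotone hU'U hx₀U'


theorem bijective_of_pushforward_ab [(TopCat.Sheaf.pushforward AddCommGrpCat.{u} f).Full]
    [(TopCat.Sheaf.pushforward AddCommGrpCat.{u} f).EssSurj] :
    Function.Bijective (fun U : Opens X => (Opens.map f).obj U) :=
  ⟨injective_of_pushforward_ab f, surjective_of_pushforward_ab f⟩

/-- The three conditions are equivalent. -/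
theorem tfae :
    [Function.Bijective (fun U : Opens X => (Opens.map f).obj U),
      (TopCat.Sheaf.pullback (Type u) f).IsEquivalence,
      (TopCat.Sheaf.pullback AddCommGrpCat.{u} f).IsEquivalence].TFAE := by
  tfae_have 1 → 2 := fun h => by
    have := isEquivalence_pushforward f (Type u) h
    exact (TopCat.Sheaf.pullbackPushforwardAdjunction (Type u) f).isEquivalence_left_of_isEquivalence_right
  tfae_have 2 → 1 := fun h => by
    have := (TopCat.Sheaf.pullbackPushforwardAdjunction (Type u) f).isEquivalence_right_of_isEquivalence_left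
    exact bijective_of_pushforward_type f
  tfae_have 1 → 3 := fun h => by
    have := isEquivalence_pushforward f AddCommGrpCat.{u} h
    exact (TopCat.Sheaf.pullbackPushforwardAdjunction AddCommGrpCat.{u} f).isEquivalence_left_of_isEquivalence_right
  tfae_have 3 → 1 := fun h => by
    have := (TopCat.Sheaf.pullbackPushforwardAdjunction AddCommGrpCat.{u} f).isEquivalence_right_of_isEquivalence_left
    exact bijective_of_pushforward_ab f
  tfae_finish

end Groth.Agent.Lib.Seat76.QuasiHomeo
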