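import Mathlib

/-!
# Jointly injective families lift along a nilpotent ideal with free graded pieces (seat 76)

Pure algebra: `A` a ring, `J` a nilpotent ideal such that every `(A/J) ⊗ J^k` is free over `A/J`,
`u i : M → N i` linear maps into flat `A`-modules.  If the family is jointly injective after
`(A/J) ⊗ -`, it is jointly injective.
-/

set_option autoImplicit false
universe u v w
open TensorProduct

namespace Groth.Agent.Lib.Seat76.SepNilp

section coord
variable {R : Type*} {S : Type*} {G : Type*} [CommRing R] [CommRing S] [Algebra R S]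
  [AddCommGroup G] [Module R G] [Module S G] [IsScalarTower R S G]
  {B : Type*} (β : Module.Basis B S G) (M : Type*) [AddCommGroup M] [Module R M]

/-- For a free `S`-module `G`, the coordinate maps `G ⊗[R] M → S ⊗[R] M` are jointly injective. -/
theorem eq_zero_of_coord (x : G ⊗[R] M)
    (h : ∀ b, ((β.coord b).restrictScalars R).rTensor M x = 0) : x = 0 := by
  classical
  let e : G ≃ₗ[R] (B →₀ S) := β.repr.restrictScalars R
  have hinj : Function.Injective (e.toLinearMap.rTensor M) :=
    (LinearEquiv.rTensor M e).injective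
  apply hinj
  rw [map_zero]
  apply (TensorProduct.finsuppLeft R R S M B).injective
  ext b : 1
  rw [TensorProduct.finsuppLeft_apply, map_zero, Finsupp.zero_apply, ← LinearMap.comp_apply,
    ← LinearMap.rTensor_comp]
  have : (Finsupp.lapply b : (B →₀ S) →ₗ[R] S) ∘ₗ e.toLinearMap =
      (β.coord b).restrictScalars R := by
    ext g
    simp [e, Module.Basis.coord_apply]
  rw [this]
  exact h b

end coord

section filtration
variable {A : Type u} [CommRing A] (J : Ideal A)

/-- The inclusion `J^(k+1) → J^k`. -/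
def inc (k : ℕ) : ↥(J ^ (k + 1)) →ₗ[A] ↥(J ^ k) :=
  Submodule.inclusion (Ideal.pow_le_pow_right (Nat.le_succ k))

/-- The reduction `x ↦ 1 ⊗ x : J^k → (A/J) ⊗ J^k`. -/
def red (k : ℕ) : ↥(J ^ k) →ₗ[A] (A ⧸ J) ⊗[A] ↥(J ^ k) :=
  TensorProduct.mk A (A ⧸ J) ↥(J ^ k) 1

theorem red_surjective (k : ℕ) : Function.Surjective (red J k) := by
  have h := TensorProduct.quotTensorEquivQuotSMul_symm_comp_mkQ (M := ↥(J ^ k)) J
  have h2 : Function.Surjective
      ((TensorProduct.quotTensorEquivQuotSMul (↥(J ^ k)) J).symm.toLinearMap ∘ₗ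
        (J • ⊤ : Submodule A ↥(J ^ k)).mkQ) := by
    rw [LinearMap.coe_comp]
    exact (LinearEquiv.surjective _).comp (Submodule.mkQ_surjective _)
  rw [h] at h2
  exact h2

theorem mem_smul_top_iff (k : ℕ) (x : ↥(J ^ k)) :
    x ∈ (J • ⊤ : Submodule A ↥(J ^ k)) ↔ x.1 ∈ J ^ (k + 1) := by
  have h1 : (J • ⊤ : Submodule A ↥(J ^ k)).map (J ^ k).subtype = J ^ (k + 1) := by
    rw [Submodule.map_smul'', Submodule.map_subtype_top, pow_succ']
    rfl
  rw [← h1]
  constructor
  · intro hx
    exact ⟨x, hx, rfl⟩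
  · rintro ⟨y, hy, hyx⟩
    have : y = x := Subtype.ext hyx
    rwa [← this]

theorem exact_inc_red (k : ℕ) : Function.Exact (inc J k) (red J k) := by
  intro x
  have h := TensorProduct.quotTensorEquivQuotSMul_comp_mk (M := ↥(J ^ k)) J
  have h1 : red J k x = 0 ↔ x ∈ (J • ⊤ : Submodule A ↥(J ^ k)) := by
    rw [← Submodule.Quotient.mk_eq_zero, ← Submodule.mkQ_apply, ← h, LinearMap.comp_apply,
      LinearEquiv.coe_coe, LinearEquiv.map_eq_zero_iff]
    rfl
  rw [h1, mem_smul_top_iff]
  constructor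
  · intro hx
    exact ⟨⟨x.1, hx⟩, rfl⟩
  · rintro ⟨y, rfl⟩
    exact y.2

end filtration

section comm
variable {R : Type*} [CommRing R] {M N P Q : Type*} [AddCommGroup M] [AddCommGroup N]
  [AddCommGroup P] [AddCommGroup Q] [Module R M] [Module R N] [Module R P] [Module R Q]

theorem lTensor_rTensor_comm (f : M →ₗ[R] P) (g : N →ₗ[R] Q) (z : M ⊗[R] N) :
    g.lTensor P (f.rTensor N z) = f.rTensor Q (g.lTensor M z) := by
  rw [← LinearMap.comp_apply, ← LinearMap.comp_apply, LinearMap.lTensor_comp_rTensor,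
    LinearMap.rTensor_comp_lTensor]

end comm

section main
variable {A : Type u} [CommRing A] (J : Ideal A)
  {M : Type v} [AddCommGroup M] [Module A M] {ι : Type w} {N : ι → Type v}
  [∀ i, AddCommGroup (N i)] [∀ i, Module A (N i)]
  (u : ∀ i, M →ₗ[A] N i)

/-- The multiplication map `J^k ⊗ M → M`. -/
def mulMap (k : ℕ) (M : Type v) [AddCommGroup M] [Module A M] : ↥(J ^ k) ⊗[A] M →ₗ[A] M :=
  (TensorProduct.lid A M).toLinearMap ∘ₗ (J ^ k).subtype.rTensor M

theorem mulMap_inc (k : ℕ) (τ : ↥(J ^ (k + 1)) ⊗[A] M) :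
    mulMap J k M ((inc J k).rTensor M τ) = mulMap J (k + 1) M τ := by
  unfold mulMap
  rw [LinearMap.comp_apply, LinearMap.comp_apply, ← LinearMap.comp_apply (LinearMap.rTensor M _),
    ← LinearMap.rTensor_comp]
  rfl

variable (hfree : ∀ k : ℕ, Module.Free (A ⧸ J) ((A ⧸ J) ⊗[A] ↥(J ^ k)))
  [∀ i, Module.Flat A (N i)]
  (H : ∀ x : (A ⧸ J) ⊗[A] M, (∀ i, (u i).lTensor (A ⧸ J) x = 0) → x = 0)

include hfree H in
theorem step (k : ℕ) (t : M) (τ : ↥(J ^ k) ⊗[A] M) (hτ : mulMap J k M τ = t)
    (hu : ∀ i, (u i).lTensor _ τ = 0) :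
    ∃ τ' : ↥(J ^ (k + 1)) ⊗[A] M, mulMap J (k + 1) M τ' = t ∧ ∀ i, (u i).lTensor _ τ' = 0 := by
  have := hfree k
  let β := Module.Free.chooseBasis (A ⧸ J) ((A ⧸ J) ⊗[A] ↥(J ^ k))
  have hx : (red J k).rTensor M τ = 0 := by
    refine eq_zero_of_coord β M _ (fun b => H _ (fun i => ?_))
    rw [lTensor_rTensor_comm, lTensor_rTensor_comm, hu i, map_zero, map_zero]
  have hex := rTensor_exact M (exact_inc_red J k) (red_surjective J k)
  obtain ⟨τ', hτ'⟩ := (hex τ).1 hx
  refine ⟨τ', ?_, fun i => ?_⟩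
  · rw [← mulMap_inc, hτ', hτ]
  · have hinj : Function.Injective ((inc J k).rTensor (N i)) :=
      Module.Flat.rTensor_preserves_injective_linearMap _
        (Submodule.inclusion_injective _)
    apply hinj
    rw [map_zero, ← lTensor_rTensor_comm, hτ', hu i]

include hfree H in
/-- A family of maps into flat modules which is jointly injective modulo a nilpotent ideal with
free graded pieces is jointly injective. -/
theorem eq_zero_of_forall_eq_zero (hJ : IsNilpotent J) (t : M) (ht : ∀ i, u i t = 0) : t = 0 := by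
  obtain ⟨n, hn⟩ := hJ
  have P : ∀ k, ∃ τ : ↥(J ^ k) ⊗[A] M, mulMap J k M τ = t ∧ ∀ i, (u i).lTensor _ τ = 0 := by
    intro k
    induction k with
    | zero =>
      refine ⟨⟨1, by rw [pow_zero, Ideal.one_eq_top]; trivial⟩ ⊗ₜ t, ?_, fun i => ?_⟩
      · simp [mulMap]
      · rw [LinearMap.lTensor_tmul, ht i, tmul_zero]
    | succ k ih =>
      obtain ⟨τ, h1, h2⟩ := ih
      exact step J u hfree H k t τ h1 h2
  have hsub : ∀ a : ↥(J ^ n), a = 0 := fun a => Subtype.ext (by
    have h0 : (a : A) ∈ (0 : Ideal A) := by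
      rw [← hn]
      exact a.2
    simpa using h0)
  have hzero : ∀ τ : ↥(J ^ n) ⊗[A] M, τ = 0 := by
    intro τ
    induction τ using TensorProduct.induction_on with
    | zero => rfl
    | tmul a m => rw [hsub a, zero_tmul]
    | add x y hx hy => rw [hx, hy, add_zero]
  obtain ⟨τ, h1, -⟩ := P n
  rw [← h1, hzero τ, map_zero]

end main

section bridge
variable (A Abar R Rbar : Type u) [CommRing A] [CommRing Abar] [Algebra A Abar]
  [CommRing R] [CommRing Rbar] [Algebra A R] [Algebra A Rbar] [Algebra R Rbar] [Algebra Abar Rbar]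
  [IsScalarTower A R Rbar] [IsScalarTower A Abar Rbar] [Algebra.IsPushout A Abar R Rbar]
  {M : Type v} [AddCommGroup M] [Module A M] [Module R M] [IsScalarTower A R M]
  {ι : Type w} {N : ι → Type v} [∀ i, AddCommGroup (N i)] [∀ i, Module A (N i)]
  [∀ i, Module R (N i)] [∀ i, IsScalarTower A R (N i)]
  (u : ∀ i, M →ₗ[R] N i)

theorem cancel_natural (i : ι) (x : Abar ⊗[A] M) :
    (u i).lTensor Rbar ((Algebra.IsPushout.cancelBaseChange A Abar R Rbar M).symm x) =
      (Algebra.IsPushout.cancelBaseChange A Abar R Rbar (N i)).symm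
        (((u i).restrictScalars A).lTensor Abar x) := by
  induction x using TensorProduct.induction_on with
  | zero => simp
  | tmul s m =>
    rw [Algebra.IsPushout.cancelBaseChange_symm_tmul, LinearMap.lTensor_tmul,
      LinearMap.lTensor_tmul, Algebra.IsPushout.cancelBaseChange_symm_tmul]
    rfl
  | add x y hx hy => simp only [map_add, hx, hy]

/-- Joint injectivity after `Rbar ⊗[R] -` gives joint injectivity after `Abar ⊗[A] -` when
`Rbar` is the pushout of `R` and `Abar` over `A`. -/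
theorem jointly_injective_of_isPushout
    (H : ∀ x : Rbar ⊗[R] M, (∀ i, (u i).lTensor Rbar x = 0) → x = 0)
    (x : Abar ⊗[A] M) (hx : ∀ i, ((u i).restrictScalars A).lTensor Abar x = 0) : x = 0 := by
  have h1 : (Algebra.IsPushout.cancelBaseChange A Abar R Rbar M).symm x = 0 := by
    apply H
    intro i
    rw [cancel_natural, hx i, map_zero]
  exact (LinearEquiv.map_eq_zero_iff _).1 h1

end bridge

end Groth.Agent.Lib.Seat76.SepNilp
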