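import Mathlib
import Groth.Agent.Lib.Seat76SepNilp
import Groth.Agent.Lib.Seat76NilpPO

/-!
# Schematic density lifts along a nilpotent ideal with free graded pieces (seat 76)
-/

set_option autoImplicit false
set_option linter.style.haveILetI false
universe u
open CategoryTheory CategoryTheory.Limits AlgebraicGeometry TopologicalSpace Opposite TensorProduct
open Groth.Agent.Lib.Seat76.NilpPO

namespace Groth.Agent.Lib.Seat76.SchDenseNilp

theorem appLE_of_eq {X Y : Scheme.{u}} {f f' : X ⟶ Y} (h : f = f') (U : Y.Opens) (V : X.Opens)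
    (e : V ≤ f ⁻¹ᵁ U) (e' : V ≤ f' ⁻¹ᵁ U) : f.appLE U V e = f'.appLE U V e' := by
  subst h
  rfl

section
variable {X : Scheme.{u}} (A : CommRingCat.{u}) (p : X ⟶ Spec A) (J : Ideal ↑A)
  {Z : Scheme.{u}} (v : Z ⟶ X)

/-- The base change of `v` to `A/J`. -/
noncomputable abbrev v₀ : pullback (v ≫ p) (sJ A J) ⟶ pullback p (sJ A J) :=
  pullback.map (v ≫ p) (sJ A J) p (sJ A J) v (𝟙 _) (𝟙 _) (Category.comp_id _)
    ((Category.comp_id _).trans (Category.id_comp _).symm)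

theorem v₀_fst : v₀ A p J v ≫ pullback.fst p (sJ A J) = pullback.fst (v ≫ p) (sJ A J) ≫ v :=
  pullback.lift_fst _ _ _

theorem v₀_snd : v₀ A p J v ≫ pullback.snd p (sJ A J) = pullback.snd (v ≫ p) (sJ A J) := by
  rw [v₀, pullback.map, pullback.lift_snd, Category.comp_id]

variable {W : X.Opens} {c : Z.Opens} (hle : c ≤ v ⁻¹ᵁ W)

include hle in
theorem preW_le : preW A (v ≫ p) J c ≤ v₀ A p J v ⁻¹ᵁ preW A p J W := by
  intro z hz
  refine ⟨?_, trivial⟩
  have h1 : (pullback.fst (v ≫ p) (sJ A J)).base z ∈ c := hz.1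
  have h2 : v.base ((pullback.fst (v ≫ p) (sJ A J)).base z) ∈ W := hle h1
  have h3 := congrArg (fun f => f.base z) (v₀_fst A p J v)
  simp only [Scheme.Hom.comp_base, TopCat.comp_app] at h3
  change (pullback.fst p (sJ A J)).base ((v₀ A p J v).base z) ∈ W
  rw [h3]
  exact h2

theorem α_comp : αW A p W ≫ v.appLE W c hle = αW A (v ≫ p) c := by
  simp [αW, Scheme.Hom.appLE_comp_appLE]

theorem γ_comp : γW A p J W ≫ (v₀ A p J v).appLE _ _ (preW_le A p J v hle) =
    v.appLE W c hle ≫ γW A (v ≫ p) J c := by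
  simp only [γW, Scheme.Hom.appLE_comp_appLE]
  exact appLE_of_eq (v₀_fst A p J v) _ _ _ _

theorem β_comp : βW A p J W ≫ (v₀ A p J v).appLE _ _ (preW_le A p J v hle) =
    βW A (v ≫ p) J c := by
  simp only [βW, Category.assoc, Scheme.Hom.appLE_comp_appLE]
  congr 1
  exact appLE_of_eq (v₀_snd A p J v) _ _ _ _

end

section main
variable {X : Scheme.{u}} (A : CommRingCat.{u}) (p : X ⟶ Spec A) (J : Ideal ↑A)
  {ι : Type u} (Z : ι → Scheme.{u}) (v : ∀ i, Z i ⟶ X)

/-- Affine opens of the `Z i` mapping into `W`. -/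
def Idx (W : X.Opens) : Type u :=
  Σ i : ι, {c : (Z i).Opens // IsAffineOpen c ∧ c ≤ v i ⁻¹ᵁ W}

theorem eq_zero_of_affine [Flat p] [∀ i, Flat (v i ≫ p)] (hJ : IsNilpotent J)
    (hfree : ∀ k : ℕ, Module.Free (↑A ⧸ J) ((↑A ⧸ J) ⊗[↑A] ↥(J ^ k)))
    (h0 : ∀ (V : (pullback p (sJ A J)).Opens) (t : Γ(pullback p (sJ A J), V)),
      (∀ i, (v₀ A p J (v i)).app V t = 0) → t = 0)
    {W : X.Opens} (hW : IsAffineOpen W) (t : Γ(X, W)) (ht : ∀ i, (v i).app W t = 0) : t = 0 := by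
  classical
  letI algR : Algebra ↑A Γ(X, W) := (αW A p W).hom.toAlgebra
  letI algN : ∀ k : Idx Z v W, Algebra ↑A Γ(Z k.1, k.2.1) := fun k =>
    (αW A (v k.1 ≫ p) k.2.1).hom.toAlgebra
  haveI flatN : ∀ k : Idx Z v W, Module.Flat ↑A Γ(Z k.1, k.2.1) := by
    intro k
    have h1 : (αW A (v k.1 ≫ p) k.2.1).hom.Flat := by
      unfold αW
      exact RingHom.Flat.comp
        (RingHom.Flat.of_bijective (ConcreteCategory.bijective_of_isIso (Scheme.ΓSpecIso A).inv))
        (Flat.flat_appLE (v k.1 ≫ p) (isAffineOpen_top _) k.2.2.1 _)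
    exact h1
  let uL : ∀ k : Idx Z v W, Γ(X, W) →ₗ[↑A] Γ(Z k.1, k.2.1) := fun k =>
    { toFun := ((v k.1).appLE W k.2.1 k.2.2.2).hom
      map_add' := map_add _
      map_smul' := fun a r => by
        change ((v k.1).appLE W k.2.1 k.2.2.2).hom ((αW A p W).hom a * r) =
          (αW A (v k.1 ≫ p) k.2.1).hom a * _
        rw [map_mul, ← α_comp A p (v k.1) k.2.2.2]
        rfl }
  obtain ⟨φ, hφ⟩ := exists_tensor_equiv A p J hW
  choose φN hφN using fun k : Idx Z v W => exists_tensor_equiv A (v k.1 ≫ p) J k.2.2.1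
  have hcompat : ∀ (k : Idx Z v W) (x : (↑A ⧸ J) ⊗[↑A] Γ(X, W)),
      ((v₀ A p J (v k.1)).appLE _ _ (preW_le A p J (v k.1) k.2.2.2)).hom (φ x) =
        φN k ((uL k).lTensor _ x) := by
    intro k x
    induction x using TensorProduct.induction_on with
    | zero => simp
    | tmul a r =>
      rw [hφ, LinearMap.lTensor_tmul, hφN, map_mul]
      congr 1
      · exact congr($(β_comp A p J (v k.1) k.2.2.2) a)
      · exact congr($(γ_comp A p J (v k.1) k.2.2.2) r)
    | add x y hx hy => simp only [map_add, hx, hy]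
  have H : ∀ x : (↑A ⧸ J) ⊗[↑A] Γ(X, W),
      (∀ k, (uL k).lTensor (↑A ⧸ J) x = 0) → x = 0 := by
    intro x hx
    have h1 : φ x = 0 := by
      apply h0
      intro i
      refine (pullback (v i ≫ p) (sJ A J)).sheaf.eq_of_locally_eq'
        (fun c : {c : (Z i).Opens // IsAffineOpen c ∧ c ≤ v i ⁻¹ᵁ W} =>
          preW A (v i ≫ p) J c.1)
        _ (fun c => homOfLE (preW_le A p J (v i) c.2.2)) ?_ _ _ ?_
      · intro z hz
        have h3 := congrArg (fun f => f.base z) (v₀_fst A p J (v i))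
        simp only [Scheme.Hom.comp_base, TopCat.comp_app] at h3
        have hz1 : (pullback.fst p (sJ A J)).base ((v₀ A p J (v i)).base z) ∈ W := hz.1
        rw [h3] at hz1
        obtain ⟨c, hc, hzc, hcW⟩ := exists_isAffineOpen_mem_and_subset
          (x := (pullback.fst (v i ≫ p) (sJ A J)).base z) (U := v i ⁻¹ᵁ W) hz1
        exact Opens.mem_iSup.mpr ⟨⟨c, hc, hcW⟩, ⟨hzc, trivial⟩⟩
      · intro c
        have := hcompat ⟨i, c⟩ x
        rw [hx ⟨i, c⟩, map_zero] at this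
        exact this.trans (map_zero _).symm
    exact (AddEquiv.map_eq_zero_iff φ).1 h1
  refine SepNilp.eq_zero_of_forall_eq_zero J uL hfree H hJ t (fun k => ?_)
  change ((v k.1).appLE W k.2.1 k.2.2.2).hom t = 0
  rw [Scheme.Hom.appLE, CommRingCat.comp_apply, ht k.1, map_zero]

theorem schDense_of_mod_nilpotent [Flat p] [∀ i, Flat (v i ≫ p)] (hJ : IsNilpotent J)
    (hfree : ∀ k : ℕ, Module.Free (↑A ⧸ J) ((↑A ⧸ J) ⊗[↑A] ↥(J ^ k)))
    (h0 : ∀ (V : (pullback p (sJ A J)).Opens) (t : Γ(pullback p (sJ A J), V)),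
      (∀ i, (v₀ A p J (v i)).app V t = 0) → t = 0)
    (V : X.Opens) (t : Γ(X, V)) (ht : ∀ i, (v i).app V t = 0) : t = 0 := by
  refine X.sheaf.eq_of_locally_eq' (fun W : {W : X.affineOpens // W.1 ≤ V} => W.1.1) V
    (fun W => homOfLE W.2) ?_ t 0 ?_
  · intro x hx
    obtain ⟨W, hW, hxW, hWV⟩ := exists_isAffineOpen_mem_and_subset (x := x) hx
    exact Opens.mem_iSup.mpr ⟨⟨⟨W, hW⟩, hWV⟩, hxW⟩
  · intro W
    refine Eq.trans ?_ (map_zero _).symm
    apply eq_zero_of_affine A p J Z v hJ hfree h0 W.1.2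
    intro i
    have h1 := (v i).naturality (homOfLE W.2).op
    have h2 := congr($h1 t)
    rw [CommRingCat.comp_apply, CommRingCat.comp_apply, ht i, map_zero] at h2
    exact h2

end main

end Groth.Agent.Lib.Seat76.SchDenseNilp
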