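import Mathlib

/-!
# Separating families and flat base change over an Artinian ring (algebra part)

If `A` is Artinian, `B` a flat `A`-module and `ν i : M → N i` a family of linear maps with zero
joint kernel, then the maps `B ⊗ ν i` have zero joint kernel.
-/

set_option autoImplicit false
universe u v w
open TensorProduct

namespace Groth.Agent.Lib.Seat76.SepArtin

variable {A : Type u} [CommRing A]

/-- In an Artinian module, an infimum of a family of submodules is attained on a finite subfamily. -/
theorem exists_finset_iInf_eq_bot {M₀ : Type v} [AddCommGroup M₀] [Module A M₀] [IsArtinian A M₀]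
    {ι : Type w} (K : ι → Submodule A M₀) (hK : ⨅ i, K i = ⊥) :
    ∃ S : Finset ι, ⨅ i ∈ S, K i = ⊥ := by
  classical
  obtain ⟨K₀, ⟨S, rfl⟩, hmin⟩ := IsArtinian.set_has_minimal
    (Set.range fun S : Finset ι => ⨅ i ∈ S, K i) ⟨_, ⟨∅, rfl⟩⟩
  refine ⟨S, ?_⟩
  rw [eq_bot_iff, ← hK]
  refine le_iInf fun j => ?_
  by_contra hj
  apply hmin (⨅ i ∈ insert j S, K i) ⟨insert j S, rfl⟩
  rw [Finset.iInf_insert]
  refine lt_of_le_of_ne inf_le_right fun h => hj ?_
  have h' : K j ⊓ ⨅ x ∈ S, K x = ⨅ i ∈ S, K i := h
  rw [← h']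
  exact inf_le_left

theorem eq_zero_of_forall_lTensor_eq_zero [IsArtinianRing A] (B : Type v) [AddCommGroup B]
    [Module A B] [Module.Flat A B] {M : Type v} [AddCommGroup M] [Module A M] {ι : Type w}
    {N : ι → Type v} [∀ i, AddCommGroup (N i)] [∀ i, Module A (N i)]
    (ν : ∀ i, M →ₗ[A] N i) (hν : ∀ m, (∀ i, ν i m = 0) → m = 0)
    (t : B ⊗[A] M) (ht : ∀ i, (ν i).lTensor B t = 0) : t = 0 := by
  classical
  obtain ⟨M₀, hfin, hM₀⟩ := TensorProduct.exists_finite_submodule_right_of_setFinite
    ({t} : Set (B ⊗[A] M)) (Set.finite_singleton t)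
  obtain ⟨t₀, rfl⟩ := hM₀ (Set.mem_singleton t)
  let K : ι → Submodule A M₀ := fun i => LinearMap.ker ((ν i).comp M₀.subtype)
  have hK : ⨅ i, K i = ⊥ := by
    rw [eq_bot_iff]
    intro m hm
    rw [Submodule.mem_iInf] at hm
    rw [Submodule.mem_bot]
    apply Subtype.ext
    apply hν
    intro i
    exact hm i
  obtain ⟨S, hS⟩ := exists_finset_iInf_eq_bot K hK
  let f : M₀ →ₗ[A] (∀ i : S, N i) := LinearMap.pi fun i => (ν i).comp M₀.subtype
  have hf : Function.Injective f := by
    rw [← LinearMap.ker_eq_bot, eq_bot_iff, ← hS]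
    intro m hm
    rw [Submodule.mem_iInf]
    intro i
    rw [Submodule.mem_iInf]
    intro hi
    have := congrFun (LinearMap.mem_ker.1 hm) ⟨i, hi⟩
    exact this
  have hf' : Function.Injective (f.lTensor B) := Module.Flat.lTensor_preserves_injective_linearMap f hf
  have h0 : f.lTensor B t₀ = 0 := by
    apply (TensorProduct.piRight A A B (fun i : S => N i)).injective
    rw [map_zero]
    funext i
    have key : (LinearMap.proj i).comp
        ((TensorProduct.piRight A A B (fun i : S => N i)).toLinearMap.comp (f.lTensor B)) =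
        ((ν i).lTensor B).comp (M₀.subtype.lTensor B) := by
      apply TensorProduct.ext'
      intro b m
      simp [f]
    have := LinearMap.congr_fun key t₀
    simp only [LinearMap.coe_comp, Function.comp_apply, LinearMap.coe_proj, Function.eval,
      LinearEquiv.coe_coe] at this
    rw [this, ht]
    rfl
  have : t₀ = 0 := hf' (by rw [h0, map_zero])
  rw [this, map_zero]

/-- Variant where the maps on tensor products are only known through their values on pure
tensors. -/
theorem eq_zero_of_forall_eq_zero [IsArtinianRing A] (B : Type v) [AddCommGroup B]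
    [Module A B] [Module.Flat A B] {M : Type v} [AddCommGroup M] [Module A M] {ι : Type w}
    {N : ι → Type v} [∀ i, AddCommGroup (N i)] [∀ i, Module A (N i)]
    (ν : ∀ i, M →ₗ[A] N i) (hν : ∀ m, (∀ i, ν i m = 0) → m = 0)
    (φ : ∀ i, B ⊗[A] M →+ B ⊗[A] N i) (hφ : ∀ i b m, φ i (b ⊗ₜ m) = b ⊗ₜ ν i m)
    (t : B ⊗[A] M) (ht : ∀ i, φ i t = 0) : t = 0 := by
  apply eq_zero_of_forall_lTensor_eq_zero B ν hν t
  intro i
  rw [← ht i]
  have : ∀ x : B ⊗[A] M, (ν i).lTensor B x = φ i x := by
    intro x
    induction x using TensorProduct.induction_on with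
    | zero => simp
    | tmul b m => simp [hφ]
    | add x y hx hy => rw [map_add, map_add, hx, hy]
  exact this t

end Groth.Agent.Lib.Seat76.SepArtin
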