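import Mathlib
import Groth.Prelude.Def_Coh
import Groth.Prelude.Def_FlatMod2
import Groth.Agent.Lib.Seat76SepNilp
import Groth.Agent.Lib.Helper18OmLS13
import Groth.Agent.Lib.Helper23PB
import Groth.Agent.Lib.Helper13ModBasis
import Groth.Agent.Lib.Helper2FlatOver

/-!
# Separating families lift along a nilpotent ideal with free graded pieces (seat 76)

Scheme-level version of `Seat76SepNilp`: over `Spec A`, with `J` nilpotent and `J^k/J^(k+1)` free,
a family `u i : F ⟶ G i` into modules flat over `A` is separating as soon as its pullback to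
`X ×_A A/J` is separating.
-/

set_option autoImplicit false
set_option linter.style.haveILetI false
universe u
open CategoryTheory CategoryTheory.Limits AlgebraicGeometry TopologicalSpace Opposite TensorProduct
open Groth.Agent.Helper13PullbackUnit Groth.Agent.Helper18OmLS

namespace Groth.Agent.Lib.Seat76.SepNilpSch

section affine
variable {X : Scheme.{u}} (A : CommRingCat.{u}) (p : X ⟶ Spec A) (J : Ideal ↑A)

/-- The sections of a morphism of modules over an open, as a linear map. -/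
noncomputable def appLin {F G : X.Modules} (φ : F ⟶ G) (W : X.Opens) : Γ(F, W) →ₗ[Γ(X, W)] Γ(G, W) where
  toFun := φ.app W
  map_add' := map_add _
  map_smul' r x := Scheme.Modules.Hom.app_smul φ r x

theorem eq_zero_of_affine (hJ : IsNilpotent J)
    (hfree : ∀ k : ℕ, Module.Free (↑A ⧸ J) ((↑A ⧸ J) ⊗[↑A] ↥(J ^ k)))
    (F : X.Modules) [F.IsQuasicoherent] {ι : Type u} (G : ι → X.Modules)
    [∀ i, (G i).IsQuasicoherent] (hG : ∀ i, FlatMod.IsFlatOver p (G i)) (u : ∀ i, F ⟶ G i)
    (h0 : ∀ (V : (pullback p (Spec.map (CommRingCat.ofHom (Ideal.Quotient.mk J)))).Opens)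
      (t : Γ((Scheme.Modules.pullback (pullback.fst p
        (Spec.map (CommRingCat.ofHom (Ideal.Quotient.mk J))))).obj F, V)),
      (∀ i, ((Scheme.Modules.pullback (pullback.fst p
        (Spec.map (CommRingCat.ofHom (Ideal.Quotient.mk J))))).map (u i)).app V t = 0) → t = 0)
    {W : X.Opens} (hW : IsAffineOpen W) (t : Γ(F, W)) (ht : ∀ i, (u i).app W t = 0) : t = 0 := by
  set s := Spec.map (CommRingCat.ofHom (Ideal.Quotient.mk J)) with hs
  set g := pullback.fst p s with hg
  set q := pullback.snd p s with hq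
  have hc : IsPullback g q p s := IsPullback.of_hasPullback p s
  have hUST : (⊤ : (Spec (CommRingCat.of (↑A ⧸ J))).Opens) ≤ s ⁻¹ᵁ ⊤ := fun _ _ => trivial
  have hUSX : W ≤ p ⁻¹ᵁ ⊤ := fun _ _ => trivial
  set UY : (pullback p s).Opens := g ⁻¹ᵁ W ⊓ q ⁻¹ᵁ ⊤ with hUYdef
  have hle : UY ≤ g ⁻¹ᵁ W := inf_le_left
  have hle' : UY ≤ q ⁻¹ᵁ ⊤ := inf_le_right
  have hUY : IsAffineOpen UY := by
    have h1 : IsAffine (⊤ : (Spec A).Opens) := isAffineOpen_top _
    have h2 : IsAffine (⊤ : (Spec (CommRingCat.of (↑A ⧸ J))).Opens) := isAffineOpen_top _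
    have h3 : IsAffine W := hW
    exact .of_isIso (Scheme.Hom.isPullback_resLE hc hUST hUSX rfl).isoPullback.hom
  have hpo := (isIso_pushoutSection_iff hc hUST hUSX (rfl : UY = _)).1
    (isIso_pushoutSection_of_isAffineOpen hc hUST hUSX rfl (isAffineOpen_top _)
      (isAffineOpen_top _) hW)
  -- pass to the rings `A` and `A/J`
  let α : A ⟶ Γ(X, W) := (Scheme.ΓSpecIso A).inv ≫ p.appLE ⊤ W hUSX
  let β : CommRingCat.of (↑A ⧸ J) ⟶ Γ(pullback p s, UY) :=
    (Scheme.ΓSpecIso (CommRingCat.of (↑A ⧸ J))).inv ≫ q.appLE ⊤ UY hle'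
  have hpo' : IsPushout α (CommRingCat.ofHom (Ideal.Quotient.mk J)) (g.appLE W UY hle) β := by
    refine hpo.of_iso (Scheme.ΓSpecIso A) (Iso.refl _)
      (Scheme.ΓSpecIso (CommRingCat.of (↑A ⧸ J))) (Iso.refl _) ?_ ?_ ?_ ?_
    · simp [α]
    · have := Scheme.ΓSpecIso_naturality (CommRingCat.ofHom (Ideal.Quotient.mk J))
      refine Eq.trans ?_ this
      congr 1
    · simp
    · simp [β]
  -- algebra structures
  letI algAR : Algebra ↑A Γ(X, W) := α.hom.toAlgebra
  letI algRR : Algebra Γ(X, W) Γ(pullback p s, UY) := (g.appLE W UY hle).hom.toAlgebra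
  letI algBR : Algebra (↑A ⧸ J) Γ(pullback p s, UY) := β.hom.toAlgebra
  letI algARb : Algebra ↑A Γ(pullback p s, UY) := ((g.appLE W UY hle).hom.comp α.hom).toAlgebra
  haveI st1 : IsScalarTower ↑A Γ(X, W) Γ(pullback p s, UY) := .of_algebraMap_eq' rfl
  haveI st2 : IsScalarTower ↑A (↑A ⧸ J) Γ(pullback p s, UY) := by
    refine .of_algebraMap_eq' ?_
    have := congrArg CommRingCat.Hom.hom hpo'.w
    exact this
  have hpush : Algebra.IsPushout ↑A (↑A ⧸ J) Γ(X, W) Γ(pullback p s, UY) := by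
    have h3 : Algebra.IsPushout ↑A Γ(X, W) (↑A ⧸ J) Γ(pullback p s, UY) :=
      CommRingCat.isPushout_iff_isPushout.1 hpo'
    exact h3.symm
  -- module structures over `A`
  letI modM : Module ↑A Γ(F, W) := Module.compHom Γ(F, W) α.hom
  haveI stM : IsScalarTower ↑A Γ(X, W) Γ(F, W) :=
    ⟨fun a b m => by change (α.hom a * b) • m = α.hom a • (b • m); rw [mul_smul]⟩
  letI modN : ∀ i, Module ↑A Γ(G i, W) := fun i => Module.compHom Γ(G i, W) α.hom
  haveI stN : ∀ i, IsScalarTower ↑A Γ(X, W) Γ(G i, W) := fun i =>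
    ⟨fun a b m => by change (α.hom a * b) • m = α.hom a • (b • m); rw [mul_smul]⟩
  -- flatness of the sections of `G i` over `A`
  haveI flatN : ∀ i, Module.Flat ↑A Γ(G i, W) := by
    intro i
    have h1 := Groth.Agent.Lib.Helper2.FlatOver.flat_sections_of_isFlatOverAt p (G i) hW
      (isAffineOpen_top (Spec A)) hUSX (fun x _ => hG i x)
    letI : Module Γ(Spec A, ⊤) Γ(G i, W) := Module.compHom Γ(G i, W) (p.appLE ⊤ W hUSX).hom
    haveI : Module.Flat Γ(Spec A, ⊤) Γ(G i, W) := h1
    refine Groth.Agent.Lib.Helper2.FlatOver.flat_of_semilinear_equiv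
      (Scheme.ΓSpecIso A).commRingCatIsoToRingEquiv (AddEquiv.refl _) (fun r m => ?_)
    change (p.appLE ⊤ W hUSX).hom r • m = α.hom ((Scheme.ΓSpecIso A).hom.hom r) • m
    congr 1
    change _ = (p.appLE ⊤ W hUSX).hom ((Scheme.ΓSpecIso A).inv.hom ((Scheme.ΓSpecIso A).hom.hom r))
    congr 1
    exact (Iso.hom_inv_id_apply (Scheme.ΓSpecIso A) r).symm
  -- the linear maps
  let uL : ∀ i, Γ(F, W) →ₗ[Γ(X, W)] Γ(G i, W) := fun i => appLin (u i) W
  -- sections of the pullbacks
  obtain ⟨eF, heF⟩ := exists_pullback_equiv g F hle hW hUY rfl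
  choose eG heG using fun i => exists_pullback_equiv g (G i) hle hW hUY rfl
  have hnat : ∀ i (x : Γ(pullback p s, UY) ⊗[Γ(X, W)] Γ(F, W)),
      ((Scheme.Modules.pullback g).map (u i)).app UY (eF x) = eG i ((uL i).lTensor _ x) := by
    intro i x
    induction x using TensorProduct.induction_on with
    | zero => simp
    | tmul b m =>
      rw [heF, LinearMap.lTensor_tmul, heG, Scheme.Modules.Hom.app_smul,
        Groth.Agent.Lib.Helper23.PB.map_unitSec]
      rfl
    | add x y hx hy => simp only [map_add, hx, hy]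
  have H2 : ∀ x : Γ(pullback p s, UY) ⊗[Γ(X, W)] Γ(F, W),
      (∀ i, (uL i).lTensor _ x = 0) → x = 0 := by
    intro x hx
    have h1 : eF x = 0 := by
      apply h0 UY
      intro i
      rw [hnat, hx i, map_zero]
    exact (LinearEquiv.map_eq_zero_iff eF).1 h1
  have H1 := SepNilp.jointly_injective_of_isPushout ↑A (↑A ⧸ J) Γ(X, W)
    Γ(pullback p s, UY) uL H2
  exact SepNilp.eq_zero_of_forall_eq_zero J (fun i => (uL i).restrictScalars ↑A) hfree H1 hJ t ht

theorem separating_of_mod_nilpotent (hJ : IsNilpotent J)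
    (hfree : ∀ k : ℕ, Module.Free (↑A ⧸ J) ((↑A ⧸ J) ⊗[↑A] ↥(J ^ k)))
    (F : X.Modules) [F.IsQuasicoherent] {ι : Type u} (G : ι → X.Modules)
    [∀ i, (G i).IsQuasicoherent] (hG : ∀ i, FlatMod.IsFlatOver p (G i)) (u : ∀ i, F ⟶ G i)
    (h0 : ∀ (V : (pullback p (Spec.map (CommRingCat.ofHom (Ideal.Quotient.mk J)))).Opens)
      (t : Γ((Scheme.Modules.pullback (pullback.fst p
        (Spec.map (CommRingCat.ofHom (Ideal.Quotient.mk J))))).obj F, V)),
      (∀ i, ((Scheme.Modules.pullback (pullback.fst p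
        (Spec.map (CommRingCat.ofHom (Ideal.Quotient.mk J))))).map (u i)).app V t = 0) → t = 0)
    (V : X.Opens) (t : Γ(F, V)) (ht : ∀ i, (u i).app V t = 0) : t = 0 := by
  have hB : Opens.IsBasis (Set.range (Subtype.val : X.affineOpens → X.Opens)) := by
    rw [Subtype.range_coe]
    exact X.isBasis_affineOpens
  refine Groth.Agent.Helper13ModBasis.section_ext_basis (Subtype.val : X.affineOpens → X.Opens) hB
    F t 0 ?_
  rintro ⟨W, hW⟩ hle
  change F.presheaf.map (homOfLE hle).op t = F.presheaf.map (homOfLE hle).op 0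
  rw [map_zero]
  set t' := F.presheaf.map (homOfLE hle).op t with ht'
  have ht'0 : ∀ i, (u i).app W t' = 0 := by
    intro i
    have h1 := congr($((u i).mapPresheaf.naturality (homOfLE hle).op) t)
    have h2 : (u i).app W t' = (G i).presheaf.map (homOfLE hle).op ((u i).app V t) := h1
    rw [h2, ht i, map_zero]
  exact eq_zero_of_affine A p J hJ hfree F G hG u h0 hW t' ht'0

end affine

end Groth.Agent.Lib.Seat76.SepNilpSch
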