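import Mathlib
import Groth.Prelude.Def_Coh
import Groth.Prelude.Def_FlatMod2
import Groth.Agent.Lib.Seat76SepFG
import Groth.Agent.Lib.Seat76BCPO
import Groth.Agent.Lib.Seat76SepNilpSch

/-!
# Separating families and finitely generated subalgebras, scheme level (seat 76)

For `p : X ⟶ Spec A`, a ring map `c : A ⟶ T` and an affine open `W` of `X`, the separating
property of the pulled back family over the basic opens of the preimage of `W` in `X ×_A T` is
joint injectivity after tensoring with the localisations of `Γ(X, W) ⊗[A] T`.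
-/

set_option autoImplicit false
set_option linter.style.haveILetI false
universe u
open CategoryTheory CategoryTheory.Limits AlgebraicGeometry TopologicalSpace Opposite TensorProduct
open Groth.Agent.Helper13PullbackUnit Groth.Agent.Helper18OmLS

namespace Groth.Agent.Lib.Seat76.SepFGSch

open Groth.Agent.Lib.Seat76

variable {X : Scheme.{u}} (A : CommRingCat.{u}) (p : X ⟶ Spec A) {T : CommRingCat.{u}} (c : A ⟶ T)
  (F : X.Modules) {ι : Type u} (G : ι → X.Modules) (u : ∀ i, F ⟶ G i)

/-- The pulled back family is separating at the open `V` of `X ×_A T`. -/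
def SepAt (V : (pullback p (Spec.map c)).Opens) : Prop :=
  ∀ t : Γ((Scheme.Modules.pullback (pullback.fst p (Spec.map c))).obj F, V),
    (∀ i, ((Scheme.Modules.pullback (pullback.fst p (Spec.map c))).map (u i)).app V t = 0) → t = 0

variable [F.IsQuasicoherent] [∀ i, (G i).IsQuasicoherent]

theorem exists_equiv_sepAt_iff [Algebra ↑A ↑T] (hc : algebraMap ↑A ↑T = c.hom)
    {W : X.Opens} (hW : IsAffineOpen W) :
    letI : Algebra ↑A Γ(X, W) := (BCPO.αW A p W).hom.toAlgebra
    ∃ σ : Γ(X, W) ⊗[↑A] ↑T ≃+* Γ(pullback p (Spec.map c), BCPO.preW A p c W),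
      ∀ s' : Γ(X, W) ⊗[↑A] ↑T,
        SepAt A p c F G u ((pullback p (Spec.map c)).basicOpen (σ s')) ↔
          SepFG.JI (fun i => SepNilpSch.appLin (u i) W) (Localization.Away s') := by
  letI algAR : Algebra ↑A Γ(X, W) := (BCPO.αW A p W).hom.toAlgebra
  set g := pullback.fst p (Spec.map c) with hg
  set U := BCPO.preW A p c W with hUdef
  have hU : IsAffineOpen U := BCPO.isAffineOpen_preW A p c hW
  letI algRS : Algebra Γ(X, W) Γ(pullback p (Spec.map c), U) := (BCPO.γW A p c W).hom.toAlgebra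
  letI algTS : Algebra ↑T Γ(pullback p (Spec.map c), U) := (BCPO.βW A p c W).hom.toAlgebra
  letI algAS : Algebra ↑A Γ(pullback p (Spec.map c), U) :=
    ((BCPO.γW A p c W).hom.comp (BCPO.αW A p W).hom).toAlgebra
  haveI st1 : IsScalarTower ↑A Γ(X, W) Γ(pullback p (Spec.map c), U) := .of_algebraMap_eq' rfl
  have hpo := BCPO.isPushout_sections A p c hW
  haveI st2 : IsScalarTower ↑A ↑T Γ(pullback p (Spec.map c), U) := by
    refine .of_algebraMap_eq' ?_
    have h1 := congrArg CommRingCat.Hom.hom hpo.w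
    rw [hc]
    exact h1
  have hpush : Algebra.IsPushout ↑A Γ(X, W) ↑T Γ(pullback p (Spec.map c), U) := by
    have hc' : CommRingCat.ofHom (algebraMap ↑A ↑T) = c := by
      ext x
      rw [hc]
      rfl
    refine CommRingCat.isPushout_iff_isPushout.1 ?_
    rw [hc']
    exact hpo
  let σ : Γ(X, W) ⊗[↑A] ↑T ≃ₐ[Γ(X, W)] Γ(pullback p (Spec.map c), U) :=
    Algebra.IsPushout.equiv ↑A Γ(X, W) ↑T Γ(pullback p (Spec.map c), U)
  refine ⟨σ.toRingEquiv, fun s' => ?_⟩
  change SepAt A p c F G u ((pullback p (Spec.map c)).basicOpen (σ s')) ↔ _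
  set s : Γ(pullback p (Spec.map c), U) := σ s' with hs
  set D := (pullback p (Spec.map c)).basicOpen s with hDdef
  have hD : IsAffineOpen D := hU.basicOpen s
  have hDU : D ≤ U := (pullback p (Spec.map c)).basicOpen_le s
  have hle : D ≤ g ⁻¹ᵁ W := hDU.trans (BCPO.preW_le_fst A p c W)
  haveI hloc : IsLocalization.Away s Γ(pullback p (Spec.map c), D) := hU.isLocalization_basicOpen s
  letI algRC : Algebra Γ(X, W) Γ(pullback p (Spec.map c), D) := (g.appLE W D hle).hom.toAlgebra
  haveI st3 : IsScalarTower Γ(X, W) Γ(pullback p (Spec.map c), U) Γ(pullback p (Spec.map c), D) := by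
    refine .of_algebraMap_eq' ?_
    have h1 := Scheme.Hom.appLE_map g (BCPO.preW_le_fst A p c W) (homOfLE hDU).op
    exact (congrArg CommRingCat.Hom.hom h1).symm
  -- the localisation of `Γ(X, W) ⊗ T` away from `s'` is `Γ(D)`
  have H : Submonoid.map σ.symm (Submonoid.powers s) = Submonoid.powers s' := by
    rw [Submonoid.map_powers, hs]
    congr 1
    exact σ.symm_apply_apply s'
  let e : Γ(pullback p (Spec.map c), D) ≃ₐ[Γ(X, W)] Localization.Away s' :=
    IsLocalization.algEquivOfAlgEquiv Γ(pullback p (Spec.map c), D) (Localization.Away s')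
      σ.symm H
  -- sections of the pullbacks over `D`
  let uL : ∀ i, Γ(F, W) →ₗ[Γ(X, W)] Γ(G i, W) := fun i => SepNilpSch.appLin (u i) W
  obtain ⟨eF, heF⟩ := exists_pullback_equiv g F hle hW hD rfl
  choose eG heG using fun i => exists_pullback_equiv g (G i) hle hW hD rfl
  have hnat : ∀ i (x : Γ(pullback p (Spec.map c), D) ⊗[Γ(X, W)] Γ(F, W)),
      ((Scheme.Modules.pullback g).map (u i)).app D (eF x) = eG i ((uL i).lTensor _ x) := by
    intro i x
    induction x using TensorProduct.induction_on with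
    | zero => simp
    | tmul b m =>
      rw [heF, LinearMap.lTensor_tmul, heG, Scheme.Modules.Hom.app_smul,
        Groth.Agent.Lib.Helper23.PB.map_unitSec]
      rfl
    | add x y hx hy => simp only [map_add, hx, hy]
  have key : SepAt A p c F G u D ↔ SepFG.JI uL Γ(pullback p (Spec.map c), D) := by
    constructor
    · intro h x hx
      have h1 : eF x = 0 := by
        apply h
        intro i
        rw [hnat, hx i, map_zero]
      exact (LinearEquiv.map_eq_zero_iff eF).1 h1
    · intro h t ht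
      obtain ⟨x, rfl⟩ := eF.surjective t
      have h1 : x = 0 := by
        apply h
        intro i
        have h2 := ht i
        rw [hnat] at h2
        exact (LinearEquiv.map_eq_zero_iff (eG i)).1 h2
      rw [h1, map_zero]
  rw [key]
  exact ⟨fun h => SepFG.JI.of_linearEquiv uL e.toLinearEquiv h,
    fun h => SepFG.JI.of_linearEquiv uL e.symm.toLinearEquiv h⟩

/-- EGA IV 11.9.x, case `Z_λ = X`: if the pulled back family is separating over every finitely
generated subalgebra of `A'`, it is separating over `A'`. -/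
theorem separating_baseChange (A' : CommRingCat.{u}) (φ : A ⟶ A')
    (hG : ∀ i, FlatMod.IsFlatOver p (G i))
    (hfg : ∀ (B : CommRingCat.{u}) (a : A ⟶ B) (b : B ⟶ A'), a ≫ b = φ →
      Function.Injective b.hom → a.hom.FiniteType →
      ∀ V : (pullback p (Spec.map a)).Opens, SepAt A p a F G u V)
    (V : (pullback p (Spec.map φ)).Opens) : SepAt A p φ F G u V := by
  letI algAA' : Algebra ↑A ↑A' := φ.hom.toAlgebra
  set g := pullback.fst p (Spec.map φ) with hg
  intro t ht
  let I := Σ W : X.affineOpens, Γ(pullback p (Spec.map φ), BCPO.preW A p φ W.1)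
  let Bs : I → (pullback p (Spec.map φ)).Opens :=
    fun i => (pullback p (Spec.map φ)).basicOpen i.2
  have hB : Opens.IsBasis (Set.range Bs) := by
    rw [Opens.isBasis_iff_nbhd]
    intro V' y hy
    obtain ⟨W, hW, hxW, -⟩ := exists_isAffineOpen_mem_and_subset
      (Opens.mem_top (g y))
    have hyU : y ∈ BCPO.preW A p φ W := BCPO.mem_preW A p φ hxW
    obtain ⟨f, hfV, hyf⟩ := (BCPO.isAffineOpen_preW A p φ hW).exists_basicOpen_le ⟨y, hy⟩ hyU
    exact ⟨_, ⟨⟨⟨W, hW⟩, f⟩, rfl⟩, hyf, hfV⟩
  refine Groth.Agent.Helper13ModBasis.section_ext_basis Bs hB _ t 0 ?_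
  rintro ⟨⟨W, hW⟩, s⟩ hle
  rw [map_zero]
  set t' := ((Scheme.Modules.pullback g).obj F).presheaf.map (homOfLE hle).op t with ht'
  have ht'0 : ∀ i, ((Scheme.Modules.pullback g).map (u i)).app _ t' = 0 := by
    intro i
    have h1 := congr($(((Scheme.Modules.pullback g).map (u i)).mapPresheaf.naturality
      (homOfLE hle).op) t)
    have h2 : ((Scheme.Modules.pullback g).map (u i)).app _ t' =
        ((Scheme.Modules.pullback g).obj (G i)).presheaf.map (homOfLE hle).op
          (((Scheme.Modules.pullback g).map (u i)).app V t) := h1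
    rw [h2, ht i, map_zero]
  suffices h : SepAt A p φ F G u ((pullback p (Spec.map φ)).basicOpen s) from h t' ht'0
  obtain ⟨σ, hσ⟩ := exists_equiv_sepAt_iff A p φ F G u rfl hW
  obtain ⟨s', rfl⟩ := σ.surjective s
  rw [hσ]
  -- algebra structures
  letI algAR : Algebra ↑A Γ(X, W) := (BCPO.αW A p W).hom.toAlgebra
  letI modN : ∀ i, Module ↑A Γ(G i, W) := fun i =>
    Module.compHom Γ(G i, W) (BCPO.αW A p W).hom
  haveI stN : ∀ i, IsScalarTower ↑A Γ(X, W) Γ(G i, W) := fun i =>
    ⟨fun a b m => by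
      change ((BCPO.αW A p W).hom a * b) • m = (BCPO.αW A p W).hom a • (b • m)
      rw [mul_smul]⟩
  haveI flatN : ∀ i, Module.Flat ↑A Γ(G i, W) := by
    intro i
    have hUSX : W ≤ p ⁻¹ᵁ ⊤ := fun _ _ => trivial
    have h1 := Groth.Agent.Lib.Helper2.FlatOver.flat_sections_of_isFlatOverAt p (G i) hW
      (isAffineOpen_top (Spec A)) hUSX (fun x _ => hG i x)
    letI : Module Γ(Spec A, ⊤) Γ(G i, W) := Module.compHom Γ(G i, W) (p.appLE ⊤ W hUSX).hom
    haveI : Module.Flat Γ(Spec A, ⊤) Γ(G i, W) := h1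
    refine Groth.Agent.Lib.Helper2.FlatOver.flat_of_semilinear_equiv
      (Scheme.ΓSpecIso A).commRingCatIsoToRingEquiv (AddEquiv.refl _) (fun r m => ?_)
    change (p.appLE ⊤ W hUSX).hom r • m =
      (BCPO.αW A p W).hom ((Scheme.ΓSpecIso A).hom.hom r) • m
    congr 1
    change _ = (p.appLE ⊤ W hUSX).hom
      ((Scheme.ΓSpecIso A).inv.hom ((Scheme.ΓSpecIso A).hom.hom r))
    congr 1
    exact (Iso.hom_inv_id_apply (Scheme.ΓSpecIso A) r).symm
  refine SepFG.ji_of_forall_fg (fun i => SepNilpSch.appLin (u i) W) (fun Bsub hBfg sB => ?_) s'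
  obtain ⟨σB, hσB⟩ := exists_equiv_sepAt_iff A p
    (CommRingCat.ofHom (algebraMap ↑A ↥Bsub)) F G u rfl hW
  rw [← hσB]
  refine hfg (CommRingCat.of ↥Bsub) _ (CommRingCat.ofHom Bsub.val.toRingHom) rfl
    Subtype.val_injective ?_ _
  rw [CommRingCat.hom_ofHom, RingHom.finiteType_algebraMap]
  exact (Subalgebra.fg_iff_finiteType Bsub).1 hBfg

end Groth.Agent.Lib.Seat76.SepFGSch
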