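import Mathlib
import Groth.Agent.Lib.Seat76PullSec
import Groth.Agent.Lib.Seat76SepArtin

/-!
# Separating families of quasi-coherent modules on an Artinian scheme pull back along flat maps
-/

set_option autoImplicit false
set_option linter.style.haveILetI false
universe u
open CategoryTheory AlgebraicGeometry Limits Opposite TopologicalSpace TensorProduct

namespace Groth.Agent.Lib.Seat76.SepPull

open Groth.Agent.Lib.Seat76.PullSec

theorem separating_pullback {X X' : Scheme.{u}} [IsLocallyArtinian X] (F : X.Modules)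
    [F.IsQuasicoherent] {ι : Type u} (G : ι → X.Modules) [∀ i, (G i).IsQuasicoherent]
    (u : ∀ i, F ⟶ G i) (g : X' ⟶ X) [Flat g]
    (h : ∀ (V : X.Opens) (t : Γ(F, V)),
      (∀ i, (Scheme.Modules.Hom.mapPresheaf (u i)).app (op V) t = 0) → t = 0)
    (V' : X'.Opens) (t' : Γ((Scheme.Modules.pullback g).obj F, V'))
    (ht' : ∀ i, (Scheme.Modules.Hom.mapPresheaf ((Scheme.Modules.pullback g).map (u i))).app
      (op V') t' = 0) : t' = 0 := by
  apply TopCat.Presheaf.IsSheaf.section_ext ((Scheme.Modules.pullback g).obj F).isSheaf (U := op V')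
  intro x' hx'
  obtain ⟨U, hU, hxU, -⟩ := exists_isAffineOpen_mem_and_subset (x := g x') (U := ⊤) trivial
  obtain ⟨W, hW, hxW, hWle⟩ := exists_isAffineOpen_mem_and_subset (x := x')
    (U := V' ⊓ g ⁻¹ᵁ U) ⟨hx', hxU⟩
  have e : W ≤ g ⁻¹ᵁ U := hWle.trans inf_le_right
  have hW₁ : hW.fromSpec ''ᵁ ⊤ = W := by
    rw [Scheme.Hom.image_top_eq_opensRange, hW.opensRange_fromSpec]
  have hle : hW.fromSpec ''ᵁ ⊤ ≤ V' := hW₁.le.trans (hWle.trans inf_le_left)
  refine ⟨hW.fromSpec ''ᵁ ⊤, hle, by rw [hW₁]; exact hxW, ?_⟩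
  rw [map_zero]
  set s : Γ((Scheme.Modules.pullback g).obj F, hW.fromSpec ''ᵁ ⊤) :=
    ((Scheme.Modules.pullback g).obj F).presheaf.map (homOfLE hle).op t' with hs
  -- the pulled-back maps kill `s`
  have hs0 : ∀ i, ((secU hW).map ((Scheme.Modules.pullback g).map (u i))).hom s = 0 := by
    intro i
    change (Scheme.Modules.Hom.mapPresheaf ((Scheme.Modules.pullback g).map (u i))).app
      (op (hW.fromSpec ''ᵁ ⊤))
      (((Scheme.Modules.pullback g).obj F).presheaf.map (homOfLE hle).op t') = 0
    have hnat := (Scheme.Modules.Hom.mapPresheaf ((Scheme.Modules.pullback g).map (u i))).naturality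
      (homOfLE hle).op
    have hnat' := ConcreteCategory.congr_hom hnat t'
    rw [ConcreteCategory.comp_apply, ConcreteCategory.comp_apply] at hnat'
    rw [hnat', ht' i, map_zero]
  -- transport to the tensor product
  haveI : IsArtinianRing Γ(X, U) := IsLocallyArtinian.isArtinianRing_presheaf_obj ⟨U, hU⟩
  let ψ := (g.appLE U W e).hom
  let E := ModuleCat.extendScalars ψ
  let τF := tauApp g hU hW e F
  let m : E.obj ((secU hU).obj F) := (inv τF).hom s
  have hm : τF.hom m = s := by
    change ((inv τF) ≫ τF).hom s = s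
    rw [IsIso.inv_hom_id]
    rfl
  have hmi : ∀ i, (E.map ((secU hU).map (u i))).hom m = 0 := by
    intro i
    have hinj : Function.Injective (tauApp g hU hW e (G i)).hom :=
      ((ModuleCat.mono_iff_injective _).1 inferInstance)
    apply hinj
    rw [map_zero]
    have hn := tauApp_naturality g hU hW e (u i)
    have hn' := ModuleCat.hom_ext_iff.1 hn
    have hn'' := LinearMap.congr_fun hn' m
    rw [ModuleCat.hom_comp, ModuleCat.hom_comp, LinearMap.comp_apply, LinearMap.comp_apply] at hn''
    rw [hn'', hm]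
    exact hs0 i
  -- the algebra lemma
  have hflat : ψ.Flat := Flat.flat_appLE g hU hW e
  haveI : Module.Flat Γ(X, U)
      ((ModuleCat.restrictScalars ψ).obj (ModuleCat.of Γ(X', W) Γ(X', W))) := hflat
  have hm0 : m = 0 := by
    refine Groth.Agent.Lib.Seat76.SepArtin.eq_zero_of_forall_eq_zero
      (A := Γ(X, U)) ((ModuleCat.restrictScalars ψ).obj (ModuleCat.of Γ(X', W) Γ(X', W)))
      (M := (secU hU).obj F) (N := fun i => (secU hU).obj (G i))
      (fun i => ((secU hU).map (u i)).hom) ?_
      (fun i => (E.map ((secU hU).map (u i))).hom.toAddMonoidHom) ?_ m ?_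
    · intro m₀ hm₀
      exact h (hU.fromSpec ''ᵁ ⊤) m₀ hm₀
    · intro i b m₀
      rfl
    · intro i
      exact hmi i
  rw [← hm, hm0, map_zero]
  rfl

end Groth.Agent.Lib.Seat76.SepPull
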