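import Mathlib

/-!
# Serre's criterion: an extension of an ideal of projective dimension one by the ring is free
iff its class generates `Ext¹`

Pieces:
* `surj_connecting_iff`: in an abelian category, for a short exact sequence with projective `X₁`,
  the connecting map `Hom(X₁, Y) → Ext¹(X₃, Y)` is surjective iff `Ext¹(X₂, Y) = 0`.
* `projective_of_extension_property`: a quotient `G/K` of a free module by a finite free
  submodule all of whose functionals extend to `G` is projective.
* `presentation`: for an extension `0 → X₁ → X₂ → X₃ → 0` of modules and a surjection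
  `φ : A^q → X₃`, the module `X₂` is a quotient of `X₁ × A^q` with kernel isomorphic to `ker φ`.
-/

namespace Groth.Agent.Lib.Seat76.SerreExt

open CategoryTheory Abelian

universe w v u

section cat

variable {C : Type u} [Category.{v} C] [Abelian C] [HasExt.{w} C]

theorem surj_connecting_iff {S : ShortComplex C} (hS : S.ShortExact) (Y : C)
    [Projective S.X₁] :
    (∀ x : Ext S.X₃ Y 1, ∃ f : S.X₁ ⟶ Y, hS.extClass.comp (Ext.mk₀ f) (add_zero 1) = x) ↔
      ∀ y : Ext S.X₂ Y 1, y = 0 := by
  constructor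
  · intro h y
    have h1 : (Ext.mk₀ S.f).comp y (zero_add 1) = 0 := Ext.eq_zero_of_projective _
    obtain ⟨x₃, hx₃⟩ := Ext.contravariant_sequence_exact₂ hS Y y h1
    obtain ⟨f, hf⟩ := h x₃
    rw [← hx₃, ← hf]
    rw [← Ext.comp_assoc_of_third_deg_zero, hS.comp_extClass, Ext.zero_comp]
  · intro h x
    have h1 : (Ext.mk₀ S.g).comp x (zero_add 1) = 0 := h _
    obtain ⟨x₁, hx₁⟩ := Ext.contravariant_sequence_exact₃ hS Y x h1 (n₀ := 0) (add_zero 1)
    refine ⟨Ext.homEquiv₀ x₁, ?_⟩
    rw [Ext.mk₀_homEquiv₀_apply]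
    exact hx₁

end cat

section modules

variable {A : Type u} [CommRing A]

theorem projective_of_extension_property {G M : Type v} [AddCommGroup G] [Module A G]
    [AddCommGroup M] [Module A M] [Module.Projective A G] (π : G →ₗ[A] M)
    (hπ : Function.Surjective π) [Module.Free A (LinearMap.ker π)]
    [Module.Finite A (LinearMap.ker π)]
    (hext : ∀ c : LinearMap.ker π →ₗ[A] A, ∃ c' : G →ₗ[A] A, ∀ x : LinearMap.ker π, c' x = c x) :
    Module.Projective A M := by
  classical
  let K := LinearMap.ker π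
  let b := Module.Free.chooseBasis A K
  choose c' hc' using fun i => hext (b.coord i)
  -- the retraction
  let r : G →ₗ[A] K := ∑ i, (c' i).smulRight (b i)
  have hr : ∀ x : K, r (x : G) = x := by
    intro x
    simp only [r, LinearMap.sum_apply, LinearMap.smulRight_apply, hc', Module.Basis.coord_apply]
    exact b.sum_repr x
  -- the section of `π`
  let t : G →ₗ[A] G := LinearMap.id - K.subtype ∘ₗ r
  have ht : K ≤ LinearMap.ker t := by
    intro x hx
    have := hr ⟨x, hx⟩
    simp only [t, LinearMap.mem_ker, LinearMap.sub_apply, LinearMap.id_apply, LinearMap.comp_apply,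
      Submodule.subtype_apply]
    rw [this]
    simp
  let σ : M →ₗ[A] G := (K.liftQ t ht) ∘ₗ (π.quotKerEquivOfSurjective hπ).symm.toLinearMap
  have hσ : π ∘ₗ σ = LinearMap.id := by
    ext m
    obtain ⟨g, rfl⟩ := hπ m
    have h1 : (π.quotKerEquivOfSurjective hπ).symm (π g) = Submodule.Quotient.mk g := by
      rw [LinearEquiv.symm_apply_eq]
      rfl
    simp only [σ, LinearMap.comp_apply, LinearEquiv.coe_coe, h1, LinearMap.id_apply]
    rw [Submodule.liftQ_apply]
    simp only [t, LinearMap.sub_apply, LinearMap.id_apply, LinearMap.comp_apply,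
      Submodule.subtype_apply, map_sub]
    have : π ((r g : K) : G) = 0 := (r g).2
    rw [this, sub_zero]
  exact Module.Projective.of_split σ π hσ

variable {X₁ X₂ X₃ : Type v} [AddCommGroup X₁] [Module A X₁] [AddCommGroup X₂] [Module A X₂]
  [AddCommGroup X₃] [Module A X₃]

/-- The presentation of the middle term of an extension. -/
theorem presentation (f : X₁ →ₗ[A] X₂) (g : X₂ →ₗ[A] X₃) (hf : Function.Injective f)
    (hg : Function.Surjective g) (hfg : Function.Exact f g) {q : ℕ}
    (φ : (Fin q → A) →ₗ[A] X₃) (hφ : Function.Surjective φ) :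
    ∃ π : (X₁ × (Fin q → A)) →ₗ[A] X₂, Function.Surjective π ∧
      Nonempty (LinearMap.ker π ≃ₗ[A] LinearMap.ker φ) := by
  obtain ⟨lift, hlift⟩ := Module.projective_lifting_property g φ hg
  have hlift' : ∀ x, g (lift x) = φ x := fun x => LinearMap.congr_fun hlift x
  refine ⟨f.coprod lift, ?_, ?_⟩
  · intro y
    obtain ⟨x, hx⟩ := hφ (g y)
    have : g (y - lift x) = 0 := by rw [map_sub, hlift', hx, sub_self]
    obtain ⟨a, ha⟩ := (hfg _).mp this
    refine ⟨(a, x), ?_⟩
    simp [ha]
  · have hmem : ∀ z : LinearMap.ker (f.coprod lift), (z : X₁ × (Fin q → A)).2 ∈ LinearMap.ker φ := by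
      rintro ⟨⟨a, x⟩, hz⟩
      have hz' : f a + lift x = 0 := by simpa using hz
      have : g (f a + lift x) = 0 := by rw [hz', map_zero]
      rw [map_add, hlift', hfg.apply_apply_eq_zero, zero_add] at this
      exact this
    let ψ : LinearMap.ker (f.coprod lift) →ₗ[A] LinearMap.ker φ :=
      LinearMap.codRestrict _ ((LinearMap.snd A X₁ (Fin q → A)) ∘ₗ (LinearMap.ker (f.coprod lift)).subtype)
        hmem
    refine ⟨LinearEquiv.ofBijective ψ ⟨?_, ?_⟩⟩
    · rw [← LinearMap.ker_eq_bot, LinearMap.ker_eq_bot']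
      rintro ⟨⟨a, x⟩, hz⟩ h0
      have hx : x = 0 := congrArg Subtype.val h0
      have hz' : f a + lift x = 0 := by simpa using hz
      rw [hx, map_zero, add_zero] at hz'
      have ha : a = 0 := hf (by rw [hz', map_zero])
      ext <;> simp [ha, hx]
    · rintro ⟨x, hx⟩
      have hx' : φ x = 0 := hx
      have : g (lift x) = 0 := by rw [hlift', hx']
      obtain ⟨a, ha⟩ := (hfg _).mp this
      refine ⟨⟨(-a, x), ?_⟩, ?_⟩
      · simp [ha]
      · rfl

end modules

section bridge

variable {A : Type u} [CommRing A]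

/-- If `Ext¹(M, Y) = 0` then every map from the kernel of a surjection `G → M` to `Y` extends
to `G`. -/
theorem extension_property_of_ext_vanish {G M : Type u} [AddCommGroup G] [Module A G]
    [AddCommGroup M] [Module A M] (π : G →ₗ[A] M) (hπ : Function.Surjective π)
    (Y : ModuleCat.{u} A) (hvan : ∀ y : Ext (ModuleCat.of A M) Y 1, y = 0)
    (c : LinearMap.ker π →ₗ[A] Y) :
    ∃ c' : G →ₗ[A] Y, ∀ x : LinearMap.ker π, c' x = c x := by
  have hT := LinearMap.shortExact_shortComplexKer hπ
  let x₁ : Ext (π.shortComplexKer).X₁ Y 0 := Ext.mk₀ (ModuleCat.ofHom c)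
  have h0 : hT.extClass.comp x₁ (add_zero 1) = 0 := hvan _
  obtain ⟨x₂, hx₂⟩ := Ext.contravariant_sequence_exact₁ hT Y x₁ (add_zero 1) h0
  let h : (π.shortComplexKer).X₂ ⟶ Y := Ext.homEquiv₀ x₂
  have h1 : Ext.mk₀ ((π.shortComplexKer).f ≫ h) = Ext.mk₀ (ModuleCat.ofHom c) := by
    rw [← Ext.mk₀_comp_mk₀, Ext.mk₀_homEquiv₀_apply]
    exact hx₂
  have h2 : (π.shortComplexKer).f ≫ h = ModuleCat.ofHom c := (Ext.mk₀_bijective _ _).1 h1
  refine ⟨h.hom, fun x => ?_⟩
  have := congrArg (fun t => t.hom x) h2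
  simpa using this

theorem serre_free_iff [IsNoetherianRing A] [IsLocalRing A] (I : Ideal A)
    (hres : ∃ (q : ℕ) (φ : (Fin q → A) →ₗ[A] ↥I), Function.Surjective φ ∧
      Module.Free A ↥(LinearMap.ker φ))
    (S : ShortComplex (ModuleCat.{u} A)) (hS : S.ShortExact)
    (h₁ : Nonempty (S.X₁ ≅ ModuleCat.of A A)) (h₃ : Nonempty (S.X₃ ≅ ModuleCat.of A ↥I)) :
    Module.Free A S.X₂ ↔
      ∀ x : Ext S.X₃ S.X₁ 1, ∃ f : S.X₁ ⟶ S.X₁,
        hS.extClass.comp (Ext.mk₀ f) (add_zero 1) = x := by
  obtain ⟨e₁⟩ := h₁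
  obtain ⟨e₃⟩ := h₃
  have hproj : Projective S.X₁ := Projective.of_iso e₁.symm inferInstance
  rw [surj_connecting_iff hS S.X₁]
  constructor
  · intro hfree y
    have : Projective S.X₂ := inferInstance
    exact Ext.eq_zero_of_projective _
  · intro hvan
    obtain ⟨q, φ, hφ, hfree⟩ := hres
    let ε₃ : ↥I ≃ₗ[A] S.X₃ := e₃.symm.toLinearEquiv
    let ε₁ : S.X₁ ≃ₗ[A] A := e₁.toLinearEquiv
    let φ' : (Fin q → A) →ₗ[A] S.X₃ := ε₃.toLinearMap ∘ₗ φ
    have hφ' : Function.Surjective φ' := ε₃.surjective.comp hφ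
    have hker : LinearMap.ker φ' = LinearMap.ker φ := LinearEquiv.ker_comp _ _
    obtain ⟨π, hπ, ⟨ε⟩⟩ := presentation S.f.hom S.g.hom hS.moduleCat_injective_f
      hS.moduleCat_surjective_g
      ((ShortComplex.ShortExact.moduleCat_exact_iff_function_exact S).mp hS.exact) φ' hφ'
    have hfreeK : Module.Free A (LinearMap.ker π) :=
      Module.Free.of_equiv (ε.trans (LinearEquiv.ofEq _ _ hker)).symm
    have hfinK : Module.Finite A (LinearMap.ker π) := Module.Finite.equiv ε.symm
    have hfin₁ : Module.Finite A S.X₁ := Module.Finite.equiv ε₁.symm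
    have hfree₁ : Module.Free A S.X₁ := Module.Free.of_equiv ε₁.symm
    have hprojM : Module.Projective A S.X₂ := by
      refine projective_of_extension_property π hπ ?_
      intro c
      obtain ⟨c', hc'⟩ := extension_property_of_ext_vanish π hπ S.X₁ (fun y => hvan y)
        (ε₁.symm.toLinearMap ∘ₗ c)
      refine ⟨ε₁.toLinearMap ∘ₗ c', fun x => ?_⟩
      simp [hc']
    have hfinM : Module.Finite A S.X₂ := Module.Finite.of_surjective π hπ
    exact Module.free_of_flat_of_isLocalRing

end bridge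

end Groth.Agent.Lib.Seat76.SerreExt
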