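import Mathlib
import Groth.Agent.Lib.Helper13Tor
import Groth.Agent.Lib.Helper13TorNat

/-!
# `Tor` of the cokernel of a map of flat modules (seat 76)

Consequences of the long exact sequence of `Tor` in the first variable (helper13) for a short exact
sequence whose middle term is flat.
-/

set_option autoImplicit false
universe u
open CategoryTheory CategoryTheory.Limits MonoidalCategory TensorProduct

namespace Groth.Agent.Lib.Seat76.TorTwoTerm

open Groth.Agent.Helper13Tor

section linalg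
variable {R : Type*} [CommRing R] {V V' W W' : Type*} [AddCommGroup V] [Module R V]
  [AddCommGroup V'] [Module R V'] [AddCommGroup W] [Module R W] [AddCommGroup W'] [Module R W']

/-- Kernels of maps conjugate under linear equivalences are equivalent. -/
noncomputable def kerEquivOfComm (e₁ : V ≃ₗ[R] V') (e₂ : W ≃ₗ[R] W') (a : V →ₗ[R] W)
    (b : V' →ₗ[R] W') (h : ∀ x, e₂ (a x) = b (e₁ x)) : LinearMap.ker a ≃ₗ[R] LinearMap.ker b :=
  e₁.ofSubmodules (LinearMap.ker a) (LinearMap.ker b) (by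
    ext y
    constructor
    · rintro ⟨x, hx, rfl⟩
      have hx' : a x = 0 := hx
      change b (e₁ x) = 0
      rw [← h, hx', map_zero]
    · intro hy
      have hy' : b y = 0 := hy
      refine ⟨e₁.symm y, ?_, by simp⟩
      change a (e₁.symm y) = 0
      apply e₂.injective
      rw [h, LinearEquiv.apply_symm_apply, hy', map_zero])

/-- For `β` surjective, `ker (γ ∘ β) / ker β ≃ ker γ`. -/
theorem nonempty_quot_equiv_ker {U : Type*} [AddCommGroup U] [Module R U] (β : V →ₗ[R] W)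
    (γ : W →ₗ[R] U) (hβ : Function.Surjective β) (N : Submodule R V) (hN : N = LinearMap.ker β) :
    Nonempty ((↥(LinearMap.ker (γ ∘ₗ β)) ⧸
      Submodule.comap (LinearMap.ker (γ ∘ₗ β)).subtype N) ≃ₗ[R] LinearMap.ker γ) := by
  subst hN
  let r : ↥(LinearMap.ker (γ ∘ₗ β)) →ₗ[R] ↥(LinearMap.ker γ) :=
    LinearMap.restrict β (fun x hx => hx)
  have hr : Function.Surjective r := by
    rintro ⟨w, hw⟩
    obtain ⟨v, rfl⟩ := hβ w
    exact ⟨⟨v, hw⟩, rfl⟩
  have hk : LinearMap.ker r =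
      Submodule.comap (LinearMap.ker (γ ∘ₗ β)).subtype (LinearMap.ker β) := by
    ext x
    simp only [LinearMap.mem_ker, Submodule.mem_comap, Submodule.subtype_apply]
    constructor
    · intro h
      exact congrArg Subtype.val h
    · intro h
      exact Subtype.ext h
  exact ⟨(Submodule.quotEquivOfEq _ _ hk.symm).trans (r.quotKerEquivOfSurjective hr)⟩

end linalg

variable {R : Type u} [CommRing R] (S : ShortComplex (ModuleCat.{u} R)) (hS : S.ShortExact)
  (Y : ModuleCat.{u} R)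

include hS in
/-- With flat middle term, `Tor_{n+2}(X₃, Y) ≅ Tor_{n+1}(X₁, Y)`. -/
theorem nonempty_tor_succ_iso [Module.Flat R S.X₂] (n : ℕ) :
    Nonempty (((Tor (ModuleCat.{u} R) (n + 2)).obj S.X₃).obj Y ≅
      ((Tor (ModuleCat.{u} R) (n + 1)).obj S.X₁).obj Y) := by
  obtain ⟨δ, w₁, w₂, h₁, h₂⟩ := exists_δ S hS Y (n + 1)
  have z₂ : IsZero (((Tor (ModuleCat.{u} R) (n + 1 + 1)).obj S.X₂).obj Y) :=
    isZero_tor_of_flat Y S.X₂ (n + 1 + 1) (by omega)
  have z₁ : IsZero (((Tor (ModuleCat.{u} R) (n + 1)).obj S.X₂).obj Y) :=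
    isZero_tor_of_flat Y S.X₂ (n + 1) (by omega)
  have hm : Mono δ := h₁.mono_g (z₂.eq_of_src _ _)
  have he : Epi δ := h₂.epi_f (z₁.eq_of_tgt _ _)
  have : IsIso δ := isIso_of_mono_of_epi δ
  exact ⟨asIso δ⟩

include hS in
/-- With flat middle term, `Tor_1(X₃, Y)` is the kernel of `X₁ ⊗ Y → X₂ ⊗ Y`. -/
theorem nonempty_tor_one_equiv_ker [Module.Flat R S.X₂] :
    Nonempty (((Tor (ModuleCat.{u} R) 1).obj S.X₃).obj Y ≃ₗ[R]
      LinearMap.ker (S.f.hom.rTensor Y)) := by
  obtain ⟨δ, w₁, w₂, h₁, h₂⟩ := exists_δ S hS Y 0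
  have z₂ : IsZero (((Tor (ModuleCat.{u} R) (0 + 1)).obj S.X₂).obj Y) :=
    isZero_tor_of_flat Y S.X₂ (0 + 1) (by omega)
  have hm : Mono δ := h₁.mono_g (z₂.eq_of_src _ _)
  have hinj : Function.Injective δ.hom := (ModuleCat.mono_iff_injective δ).1 hm
  have hrange : LinearMap.range δ.hom =
      LinearMap.ker (((Tor (ModuleCat.{u} R) 0).map S.f).app Y).hom :=
    (ShortComplex.moduleCat_exact_iff_range_eq_ker _).1 h₂
  let e₁ := ((torZeroIso.app S.X₁).app Y).toLinearEquiv
  let e₂ := ((torZeroIso.app S.X₂).app Y).toLinearEquiv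
  have hnat : ∀ x, e₂ ((((Tor (ModuleCat.{u} R) 0).map S.f).app Y).hom x) =
      (S.f.hom.rTensor Y) (e₁ x) := by
    intro x
    have h := congr($((torZeroIso (R := R)).hom.naturality S.f) |>.app Y)
    have h' := congr($h x)
    exact h'
  exact ⟨(LinearEquiv.ofInjective δ.hom hinj).trans
    ((LinearEquiv.ofEq _ _ hrange).trans (kerEquivOfComm e₁ e₂ _ _ hnat))⟩

end Groth.Agent.Lib.Seat76.TorTwoTerm
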