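import Mathlib

/-!
# Kronecker powers of matrices and the antisymmetrizer (helper77)

For a commutative ring `T` and `g : Matrix (Fin n) (Fin n) T` the Kronecker power
`kron g : Matrix (Fin n → Fin n) (Fin n → Fin n) T`, `kron g i j = ∏ k, g (i k) (j k)`, is
multiplicative.  The "antisymmetrizer" `alt T n`, `alt i j = eps i * eps j` (with `eps j` the sign of
`j` if `j` is a permutation and `0` otherwise), satisfies `kron g * alt = det g • alt = alt * kron g`,
hence is fixed under conjugation by Kronecker powers of invertible matrices.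
-/

set_option autoImplicit false

namespace Groth.Agent.Lib.Seat77.AzKron

open Matrix Equiv Finset

variable {T : Type*} [CommRing T] {n : ℕ}

/-- index set of the standard basis of the `n`-th tensor power of `T^n` -/
abbrev Idx (n : ℕ) := Fin n → Fin n

/-- Kronecker power of a square matrix -/
def kron (g : Matrix (Fin n) (Fin n) T) : Matrix (Idx n) (Idx n) T :=
  fun i j => ∏ k, g (i k) (j k)

@[simp] lemma kron_apply (g : Matrix (Fin n) (Fin n) T) (i j : Idx n) :
    kron g i j = ∏ k, g (i k) (j k) := rfl

lemma kron_one : kron (1 : Matrix (Fin n) (Fin n) T) = 1 := by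
  ext i j
  simp only [kron, Matrix.one_apply]
  by_cases h : i = j
  · subst h; simp
  · rw [if_neg h]
    obtain ⟨k, hk⟩ := Function.ne_iff.mp h
    exact Finset.prod_eq_zero (Finset.mem_univ k) (if_neg hk)

lemma kron_mul (g h : Matrix (Fin n) (Fin n) T) : kron (g * h) = kron g * kron h := by
  ext i l
  simp only [kron, Matrix.mul_apply]
  rw [Finset.prod_univ_sum]
  simp only [Fintype.piFinset_univ, Finset.prod_mul_distrib]

lemma kron_transpose (g : Matrix (Fin n) (Fin n) T) : kron gᵀ = (kron g)ᵀ := by
  ext i j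
  simp [kron]

lemma kron_map {T' : Type*} [CommRing T'] (f : T →+* T') (g : Matrix (Fin n) (Fin n) T) :
    kron (g.map f) = (kron g).map f := by
  ext i j
  simp [kron, map_prod]

/-- the sign of `j` if `j` is a permutation, zero otherwise -/
def eps (n : ℕ) (j : Idx n) : ℤ :=
  ∑ σ : Perm (Fin n), if (⇑σ = j) then (Perm.sign σ : ℤ) else 0

lemma sum_eps_mul (F : Idx n → T) :
    ∑ j, ((eps n j : ℤ) : T) * F j = ∑ σ : Perm (Fin n), ((Perm.sign σ : ℤ) : T) * F σ := by
  simp only [eps, Int.cast_sum, Finset.sum_mul]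
  rw [Finset.sum_comm]
  refine Finset.sum_congr rfl fun σ _ => ?_
  rw [Finset.sum_eq_single (⇑σ : Idx n)]
  · simp
  · intro j _ hj
    rw [if_neg (Ne.symm hj)]
    simp
  · intro h
    exact absurd (Finset.mem_univ _) h

lemma eps_id : eps n (fun k => k) = 1 := by
  unfold eps
  rw [Finset.sum_eq_single (1 : Perm (Fin n))]
  · have h : (⇑(1 : Perm (Fin n)) : Fin n → Fin n) = fun k => k := rfl
    rw [if_pos h]
    simp
  · intro σ _ hσ
    rw [if_neg]
    intro h
    apply hσ
    ext k
    have := congrFun h k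
    simp [this]
  · intro h
    exact absurd (Finset.mem_univ _) h

lemma det_one_submatrix (j : Idx n) :
    ((1 : Matrix (Fin n) (Fin n) T).submatrix id j).det = ((eps n j : ℤ) : T) := by
  rw [Matrix.det_apply', eps, Int.cast_sum]
  refine Finset.sum_congr rfl fun σ _ => ?_
  simp only [Matrix.submatrix_apply, id_eq, Matrix.one_apply]
  rw [Finset.prod_ite_zero]
  by_cases h : ⇑σ = j
  · rw [if_pos h, if_pos (fun k _ => congrFun h k)]
    simp
  · rw [if_neg h, if_neg]
    · simp
    · intro h'
      exact h (funext fun k => h' k (Finset.mem_univ k))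

lemma eps_mul_kron (g : Matrix (Fin n) (Fin n) T) (j : Idx n) :
    ∑ i, ((eps n i : ℤ) : T) * kron g i j = g.det * ((eps n j : ℤ) : T) := by
  rw [sum_eps_mul]
  have h1 : g.submatrix id j = g * (1 : Matrix (Fin n) (Fin n) T).submatrix id j := by
    ext a k
    simp [Matrix.mul_apply, Matrix.one_apply]
  have h2 : (g.submatrix id j).det = g.det * ((eps n j : ℤ) : T) := by
    rw [h1, Matrix.det_mul, det_one_submatrix]
  rw [← h2, Matrix.det_apply']
  rfl

lemma kron_mul_eps (g : Matrix (Fin n) (Fin n) T) (i : Idx n) :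
    ∑ j, kron g i j * ((eps n j : ℤ) : T) = g.det * ((eps n i : ℤ) : T) := by
  have := eps_mul_kron gᵀ i
  rw [kron_transpose, Matrix.det_transpose] at this
  rw [← this]
  refine Finset.sum_congr rfl fun j _ => ?_
  rw [Matrix.transpose_apply, mul_comm]

variable (T n) in
/-- the antisymmetrizer, as a matrix in the standard basis of `(T^n)^{⊗ n}` -/
def alt : Matrix (Idx n) (Idx n) T := fun i j => ((eps n i : ℤ) : T) * ((eps n j : ℤ) : T)

@[simp] lemma alt_apply (i j : Idx n) :
    alt T n i j = ((eps n i : ℤ) : T) * ((eps n j : ℤ) : T) := rfl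

lemma alt_map {T' : Type*} [CommRing T'] (f : T →+* T') : (alt T n).map f = alt T' n := by
  ext i j
  simp [alt]

lemma kron_mul_alt (g : Matrix (Fin n) (Fin n) T) : kron g * alt T n = g.det • alt T n := by
  ext i l
  rw [Matrix.mul_apply, Matrix.smul_apply, smul_eq_mul]
  simp only [alt_apply]
  rw [← mul_assoc, ← kron_mul_eps g i, Finset.sum_mul]
  refine Finset.sum_congr rfl fun j _ => ?_
  ring

lemma alt_mul_kron (g : Matrix (Fin n) (Fin n) T) : alt T n * kron g = g.det • alt T n := by
  ext i l
  rw [Matrix.mul_apply, Matrix.smul_apply, smul_eq_mul]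
  simp only [alt_apply]
  rw [mul_left_comm, ← eps_mul_kron g l, Finset.mul_sum]
  refine Finset.sum_congr rfl fun j _ => ?_
  ring

/-- the antisymmetrizer is fixed by conjugation with Kronecker powers -/
lemma kron_conj_alt (g g' : Matrix (Fin n) (Fin n) T) (h : g * g' = 1) :
    kron g * alt T n * kron g' = alt T n := by
  rw [kron_mul_alt, ← alt_mul_kron, Matrix.mul_assoc, ← kron_mul, h, kron_one, Matrix.mul_one]

end Groth.Agent.Lib.Seat77.AzKron
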