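import Mathlib
import Groth.Agent.Lib.Seat77AzKron

/-!
# Tensor powers of a matrix representation (helper77)

For an `R`-algebra hom `ρ : A → Mₙ(T)` the `n`-th tensor power
`tpowRep ρ : A^{⊗ n} → M_{Idx n}(T)` in Kronecker form, its functoriality in `T`, behaviour under
conjugation, and the `T`-linear extension `extT`.
-/

set_option autoImplicit false

namespace Groth.Agent.Lib.Seat77.AzTPow

open TensorProduct PiTensorProduct Matrix
open Groth.Agent.Lib.Seat77.AzKron

section Kron

variable {T : Type*} [CommRing T] {n : ℕ}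

/-- Kronecker product of a family of matrices -/
def kronFam (m : Fin n → Matrix (Fin n) (Fin n) T) : Matrix (Idx n) (Idx n) T :=
  fun i j => ∏ k, m k (i k) (j k)

@[simp] lemma kronFam_apply (m : Fin n → Matrix (Fin n) (Fin n) T) (i j : Idx n) :
    kronFam m i j = ∏ k, m k (i k) (j k) := rfl

lemma kronFam_const (g : Matrix (Fin n) (Fin n) T) : kronFam (fun _ => g) = kron g := rfl

lemma kronFam_one : kronFam (fun _ : Fin n => (1 : Matrix (Fin n) (Fin n) T)) = 1 := kron_one

lemma kronFam_mul (a b : Fin n → Matrix (Fin n) (Fin n) T) :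
    kronFam (fun k => a k * b k) = kronFam a * kronFam b := by
  ext i l
  simp only [kronFam, Matrix.mul_apply]
  rw [Finset.prod_univ_sum]
  simp only [Fintype.piFinset_univ, Finset.prod_mul_distrib]

lemma kronFam_map {T' : Type*} [CommRing T'] (f : T →+* T')
    (m : Fin n → Matrix (Fin n) (Fin n) T) :
    kronFam (fun k => (m k).map f) = (kronFam m).map f := by
  ext i j
  simp [kronFam, map_prod]

/-- the Kronecker product as a multilinear map -/
noncomputable def kronMulti :
    MultilinearMap T (fun _ : Fin n => Matrix (Fin n) (Fin n) T) (Matrix (Idx n) (Idx n) T) :=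
  MultilinearMap.pi (M' := fun _ : Idx n => Idx n → T) fun i =>
    MultilinearMap.pi (M' := fun _ : Idx n => T) fun j =>
      (MultilinearMap.mkPiAlgebra T (Fin n) T).compLinearMap
        (fun k => Matrix.entryLinearMap T T (i k) (j k))

lemma kronMulti_apply (m : Fin n → Matrix (Fin n) (Fin n) T) : kronMulti m = kronFam m := by
  ext i j
  rfl

end Kron

section Rep

variable {R : Type*} [CommRing R] {A : Type*} [Ring A] [Algebra R A]
  {T : Type*} [CommRing T] [Algebra R T] {n : ℕ}

/-- the `n`-th tensor power of a representation `A → Mₙ(T)`, in Kronecker form -/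
noncomputable def tpowRep (ρ : A →ₐ[R] Matrix (Fin n) (Fin n) T) :
    (⨂[R] _ : Fin n, A) →ₐ[R] Matrix (Idx n) (Idx n) T :=
  PiTensorProduct.liftAlgHom
    (((kronMulti (T := T) (n := n)).restrictScalars R).compLinearMap (fun _ => ρ.toLinearMap))
    (by
      show kronMulti (fun _ : Fin n => ρ 1) = 1
      rw [kronMulti_apply]
      simp only [map_one]
      exact kronFam_one)
    (fun x y => by
      show kronMulti (fun k : Fin n => ρ (x k * y k)) =
        kronMulti (fun k : Fin n => ρ (x k)) * kronMulti (fun k : Fin n => ρ (y k))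
      rw [kronMulti_apply, kronMulti_apply, kronMulti_apply]
      simp only [map_mul]
      exact kronFam_mul _ _)

@[simp] lemma tpowRep_tprod (ρ : A →ₐ[R] Matrix (Fin n) (Fin n) T) (a : Fin n → A) :
    tpowRep ρ (tprod R a) = kronFam (fun k => ρ (a k)) := by
  rw [← kronMulti_apply]
  simp [tpowRep]

/-- functoriality in the coefficient ring -/
lemma tpowRep_mapMatrix {T' : Type*} [CommRing T'] [Algebra R T'] (j : T →ₐ[R] T')
    (ρ : A →ₐ[R] Matrix (Fin n) (Fin n) T) (x : ⨂[R] _ : Fin n, A) :
    tpowRep (j.mapMatrix.comp ρ) x = (tpowRep ρ x).map j := by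
  induction x using PiTensorProduct.induction_on with
  | smul_tprod r a =>
    rw [map_smul, map_smul, tpowRep_tprod, tpowRep_tprod]
    have h1 : (r • kronFam (fun k => ρ (a k))).map j = r • (kronFam (fun k => ρ (a k))).map j := by
      ext i l
      rw [Matrix.map_apply, Matrix.smul_apply, Matrix.smul_apply, Matrix.map_apply,
        Algebra.smul_def, Algebra.smul_def, map_mul, AlgHom.commutes]
    rw [h1]
    congr 1
    exact kronFam_map (j : T →+* T') _
  | add x y hx hy =>
    rw [map_add, map_add, hx, hy]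
    ext i l
    simp

/-- behaviour under conjugation -/
lemma tpowRep_conj (ρ ρ' : A →ₐ[R] Matrix (Fin n) (Fin n) T)
    (g g' : Matrix (Fin n) (Fin n) T) (h : ∀ a, ρ' a = g * ρ a * g') (x : ⨂[R] _ : Fin n, A) :
    tpowRep ρ' x = kron g * tpowRep ρ x * kron g' := by
  induction x using PiTensorProduct.induction_on with
  | smul_tprod r a =>
    rw [map_smul, map_smul, tpowRep_tprod, tpowRep_tprod, Matrix.mul_smul, Matrix.smul_mul]
    congr 1
    simp only [h]
    rw [kronFam_mul, kronFam_mul]
    rfl
  | add x y hx hy =>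
    rw [map_add, map_add, hx, hy, Matrix.mul_add, Matrix.add_mul]

end Rep

section Ext

variable {R : Type*} [CommRing R] {C : Type*} [Ring C] [Algebra R C]
  {T : Type*} [CommRing T] [Algebra R T] {ι : Type*} [Fintype ι] [DecidableEq ι]

/-- `T`-linear extension of an `R`-algebra hom into a matrix algebra over `T` -/
noncomputable def extT (φ : C →ₐ[R] Matrix ι ι T) : T ⊗[R] C →ₐ[T] Matrix ι ι T :=
  Algebra.TensorProduct.lift (Algebra.ofId T (Matrix ι ι T)) φ
    (fun t c => Algebra.commutes t (φ c))

@[simp] lemma extT_tmul (φ : C →ₐ[R] Matrix ι ι T) (t : T) (c : C) :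
    extT φ (t ⊗ₜ[R] c) = t • φ c := by
  have h := Algebra.TensorProduct.lift_tmul (Algebra.ofId T (Matrix ι ι T)) φ
    (fun t c => Algebra.commutes t (φ c)) t c
  rw [Algebra.ofId_apply, ← Algebra.smul_def] at h
  exact h

lemma extT_mapMatrix {T' : Type*} [CommRing T'] [Algebra R T'] (j : T →ₐ[R] T')
    (φ : C →ₐ[R] Matrix ι ι T) (z : T ⊗[R] C) :
    extT (j.mapMatrix.comp φ) (j.toLinearMap.rTensor C z) = (extT φ z).map j := by
  induction z using TensorProduct.induction_on with
  | zero =>
    simp only [map_zero]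
    ext i l
    simp
  | tmul t c =>
    rw [LinearMap.rTensor_tmul, extT_tmul, extT_tmul]
    ext i l
    simp
  | add x y hx hy =>
    rw [map_add, map_add, map_add, hx, hy]
    ext i l
    simp

/-- a representation is a splitting if its `T`-linear extension is bijective -/
def IsSplit {n : ℕ} {A : Type*} [Ring A] [Algebra R A] (ρ : A →ₐ[R] Matrix (Fin n) (Fin n) T) : Prop :=
  Function.Bijective (extT ρ)

end Ext

section Eval

variable {R : Type*} [CommRing R] {M : Type*} [AddCommGroup M] [Module R M]
  {T : Type*} [CommRing T] [Algebra R T]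

/-- evaluate a linear form after base change -/
noncomputable def ev (ξ : M →ₗ[R] R) : T ⊗[R] M →ₗ[T] T :=
  (TensorProduct.AlgebraTensorModule.rid R T T).toLinearMap ∘ₗ (ξ.baseChange T)

@[simp] lemma ev_tmul (ξ : M →ₗ[R] R) (t : T) (m : M) : ev ξ (t ⊗ₜ[R] m) = ξ m • t := by
  simp [ev]

lemma ev_rTensor {T' : Type*} [CommRing T'] [Algebra R T'] (j : T →ₐ[R] T') (ξ : M →ₗ[R] R)
    (z : T ⊗[R] M) : ev ξ (j.toLinearMap.rTensor M z) = j (ev ξ z) := by
  induction z using TensorProduct.induction_on with
  | zero => simp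
  | tmul t m => simp
  | add x y hx hy => rw [map_add, map_add, map_add, map_add, hx, hy]

/-- dual basis expansion after base change -/
lemma sum_ev_smul {k : ℕ} (x : Fin k → M) (ξ : Fin k → M →ₗ[R] R)
    (h : ∀ m : M, m = ∑ i, ξ i m • x i) (z : T ⊗[R] M) :
    z = ∑ i, ev (ξ i) z • ((1 : T) ⊗ₜ[R] x i) := by
  induction z using TensorProduct.induction_on with
  | zero => simp
  | tmul t m =>
    conv_lhs => rw [h m, TensorProduct.tmul_sum]
    refine Finset.sum_congr rfl fun i _ => ?_
    rw [ev_tmul, TensorProduct.smul_tmul', TensorProduct.tmul_smul, smul_eq_mul, mul_one,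
      TensorProduct.smul_tmul', ]
  | add a b ha hb =>
    conv_lhs => rw [ha, hb]
    rw [← Finset.sum_add_distrib]
    refine Finset.sum_congr rfl fun i _ => ?_
    rw [map_add, add_smul]

end Eval

end Groth.Agent.Lib.Seat77.AzTPow
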