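import Mathlib
import Groth.Agent.S19587
import Groth.Agent.Lib.LeadAzumaya
import Groth.Agent.Lib.LeadAzumayaLocal
import Groth.Agent.Lib.Seat78RedChar
import Groth.Agent.Lib.Seat77AzTPow

/-!
# Tensor powers of Azumaya algebras and of splittings (helper77)

* `isAzumaya_tpow`: tensor powers of an Azumaya algebra are Azumaya;
* `isSplit_mapMatrix`: base change of a splitting;
* `extT_tpowRep_bijective`: the tensor power of a splitting is a splitting.
-/

set_option autoImplicit false

namespace Groth.Agent.Lib.Seat77.AzTPow2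

open TensorProduct PiTensorProduct Matrix
open Groth.Agent.Lib.Seat77.AzKron Groth.Agent.Lib.Seat77.AzTPow

section TPowEquiv

variable (R : Type*) [CommRing R] (A : Type*) [Ring A] [Algebra R A]

/-- multiplicativity of a linear map out of a tensor power can be checked on pure tensors -/
theorem piTensor_map_mul {ι : Type*} {B : Type*} [Ring B] [Algebra R B]
    (E : (⨂[R] _ : ι, A) →ₗ[R] B)
    (h : ∀ x y : ι → A, E (tprod R x * tprod R y) = E (tprod R x) * E (tprod R y))
    (x y : ⨂[R] _ : ι, A) : E (x * y) = E x * E y := by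
  induction x using PiTensorProduct.induction_on with
  | smul_tprod r x =>
    induction y using PiTensorProduct.induction_on with
    | smul_tprod s y =>
      rw [smul_mul_smul_comm, map_smul, map_smul, map_smul, h, smul_mul_smul_comm]
    | add y z hy hz => rw [mul_add, map_add, map_add, mul_add, hy, hz]
  | add x z hx hz => rw [add_mul, map_add, map_add, add_mul, hx, hz]

/-- `A^{⊗(a+b)} ≅ A^{⊗a} ⊗ A^{⊗b}` -/
noncomputable def tpowAddEquiv (a b : ℕ) :
    (⨂[R] _ : Fin (a + b), A) ≃ₐ[R] (⨂[R] _ : Fin a, A) ⊗[R] (⨂[R] _ : Fin b, A) :=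
  AlgEquiv.ofLinearEquiv
    ((reindex R (fun _ : Fin (a + b) => A) finSumFinEquiv.symm).trans (tmulEquiv R A).symm)
    (by
      rw [PiTensorProduct.one_def]
      simp [Algebra.TensorProduct.one_def, PiTensorProduct.one_def]
      rfl)
    (by
      apply piTensor_map_mul
      intro x y
      simp [tprod_mul_tprod]
      rfl)

/-- `A^{⊗1} ≅ A` -/
noncomputable def tpowOneEquiv : (⨂[R] _ : Fin 1, A) ≃ₐ[R] A :=
  AlgEquiv.ofLinearEquiv (subsingletonEquiv (0 : Fin 1))
    (by rw [PiTensorProduct.one_def, subsingletonEquiv_apply_tprod]; rfl)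
    (by
      apply piTensor_map_mul
      intro x y
      simp [tprod_mul_tprod])

/-- `A^{⊗0} ≅ R` -/
noncomputable def tpowZeroEquiv : (⨂[R] _ : Fin 0, A) ≃ₐ[R] R :=
  AlgEquiv.ofLinearEquiv (isEmptyEquiv (Fin 0))
    (by rw [PiTensorProduct.one_def, isEmptyEquiv_apply_tprod])
    (by
      apply piTensor_map_mul
      intro x y
      simp [tprod_mul_tprod])

/-- tensor powers of Azumaya algebras are Azumaya -/
theorem isAzumaya_tpow [IsAzumaya R A] (r : ℕ) : IsAzumaya R (⨂[R] _ : Fin r, A) := by
  induction r with
  | zero => exact IsAzumaya.of_AlgEquiv R _ _ (tpowZeroEquiv R A).symm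
  | succ r ih =>
    have := ih
    have : IsAzumaya R (⨂[R] _ : Fin 1, A) := IsAzumaya.of_AlgEquiv R _ _ (tpowOneEquiv R A).symm
    have : IsAzumaya R ((⨂[R] _ : Fin r, A) ⊗[R] (⨂[R] _ : Fin 1, A)) :=
      Groth.Agent.S19587.result R _ _
    exact IsAzumaya.of_AlgEquiv R _ _ (tpowAddEquiv R A r 1).symm

end TPowEquiv

section Split

variable {R : Type*} [CommRing R] {A : Type*} [Ring A] [Algebra R A]
  {T : Type*} [CommRing T] [Algebra R T] {n : ℕ}

/-- base change of a splitting -/
theorem isSplit_mapMatrix {T' : Type*} [CommRing T'] [Algebra R T'] (j : T →ₐ[R] T')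
    (ρ : A →ₐ[R] Matrix (Fin n) (Fin n) T) (h : IsSplit ρ) : IsSplit (j.mapMatrix.comp ρ) := by
  let φ : (T ⊗[R] A) ≃ₐ[T] Matrix (Fin n) (Fin n) T := AlgEquiv.ofBijective (extT ρ) h
  obtain ⟨Φ, hΦ⟩ := Groth.Agent.Lib.Seat78.RedChar.exists_baseChange_splitting φ (j : T →+* T')
    (fun r => j.commutes r)
  have key : ∀ z, extT (j.mapMatrix.comp ρ) z = Φ z := by
    intro z
    induction z using TensorProduct.induction_on with
    | zero => simp
    | tmul t a =>
      rw [extT_tmul]
      have h1 : t ⊗ₜ[R] a = t • ((1 : T') ⊗ₜ[R] a) := by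
        rw [TensorProduct.smul_tmul', smul_eq_mul, mul_one]
      rw [h1, map_smul, hΦ]
      congr 1
      show (ρ a).map j = (extT ρ ((1 : T) ⊗ₜ[R] a)).map j
      rw [extT_tmul, one_smul]
    | add x y hx hy => rw [map_add, map_add, hx, hy]
  have : ⇑(extT (j.mapMatrix.comp ρ)) = ⇑Φ := funext key
  show Function.Bijective (extT (j.mapMatrix.comp ρ))
  rw [this]
  exact Φ.bijective

/-- the `T`-span of the image of a splitting is everything -/
theorem span_range_of_isSplit (ρ : A →ₐ[R] Matrix (Fin n) (Fin n) T) (h : IsSplit ρ) :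
    Submodule.span T (Set.range ρ) = ⊤ := by
  have key : ∀ z, extT ρ z ∈ Submodule.span T (Set.range ρ) := by
    intro z
    induction z using TensorProduct.induction_on with
    | zero => simp
    | tmul t a =>
      rw [extT_tmul]
      exact Submodule.smul_mem _ _ (Submodule.subset_span ⟨a, rfl⟩)
    | add x y hx hy =>
      rw [map_add]
      exact Submodule.add_mem _ hx hy
  rw [eq_top_iff]
  intro X _
  obtain ⟨z, rfl⟩ := h.2 X
  exact key z

/-- all Kronecker products lie in the range of the tensor power of a splitting -/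
theorem kronFam_mem_range (ρ : A →ₐ[R] Matrix (Fin n) (Fin n) T) (h : IsSplit ρ)
    (m : Fin n → Matrix (Fin n) (Fin n) T) : kronFam m ∈ (extT (tpowRep ρ)).range := by
  classical
  have key : ∀ (S : Finset (Fin n)) (m : Fin n → Matrix (Fin n) (Fin n) T),
      (∀ k, k ∉ S → m k ∈ Set.range ρ) → kronFam m ∈ (extT (tpowRep ρ)).range := by
    intro S
    induction S using Finset.induction_on with
    | empty =>
      intro m hm
      choose a ha using fun k => hm k (Finset.notMem_empty k)
      refine ⟨(1 : T) ⊗ₜ[R] tprod R a, ?_⟩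
      show extT (tpowRep ρ) ((1 : T) ⊗ₜ[R] tprod R a) = _
      rw [extT_tmul, one_smul, tpowRep_tprod]
      congr 1
      funext k
      exact ha k
    | insert k₀ S hk₀ ih =>
      intro m hm
      let W : Submodule T (Matrix (Fin n) (Fin n) T) :=
        { carrier := {x | kronFam (Function.update m k₀ x) ∈ (extT (tpowRep ρ)).range}
          add_mem' := by
            intro x y hx hy
            simp only [Set.mem_ofPred_eq] at hx hy ⊢
            rw [← kronMulti_apply, MultilinearMap.map_update_add, kronMulti_apply, kronMulti_apply]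
            exact add_mem hx hy
          zero_mem' := by
            simp only [Set.mem_ofPred_eq]
            rw [← kronMulti_apply, MultilinearMap.map_update_zero]
            exact zero_mem _
          smul_mem' := by
            intro c x hx
            simp only [Set.mem_ofPred_eq] at hx ⊢
            rw [← kronMulti_apply, MultilinearMap.map_update_smul, kronMulti_apply]
            exact Subalgebra.smul_mem _ hx c }
      have hW : Submodule.span T (Set.range ρ) ≤ W := by
        rw [Submodule.span_le]
        rintro _ ⟨a, rfl⟩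
        show kronFam (Function.update m k₀ (ρ a)) ∈ (extT (tpowRep ρ)).range
        apply ih
        intro k hk
        by_cases hkk : k = k₀
        · subst hkk
          rw [Function.update_self]
          exact ⟨a, rfl⟩
        · rw [Function.update_of_ne hkk]
          apply hm
          simp [hkk, hk]
      rw [span_range_of_isSplit ρ h] at hW
      have := hW (Submodule.mem_top : m k₀ ∈ ⊤)
      have h2 : kronFam (Function.update m k₀ (m k₀)) ∈ (extT (tpowRep ρ)).range := this
      rwa [Function.update_eq_self] at h2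
  exact key Finset.univ m (fun k hk => absurd (Finset.mem_univ k) hk)

variable [IsAzumaya R A]

/-- the tensor power of a splitting is a splitting -/
theorem extT_tpowRep_bijective (hn : 0 < n) (ρ : A →ₐ[R] Matrix (Fin n) (Fin n) T)
    (h : IsSplit ρ) : Function.Bijective (extT (tpowRep ρ)) := by
  classical
  have : Nonempty (Fin n) := ⟨⟨0, hn⟩⟩
  constructor
  · -- injective: the kernel is a two-sided ideal of an Azumaya algebra
    have : IsAzumaya R (⨂[R] _ : Fin n, A) := isAzumaya_tpow R A n
    have : IsAzumaya T (T ⊗[R] (⨂[R] _ : Fin n, A)) :=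
      Groth.Agent.Lib.LeadAzumaya.isAzumaya_baseChange T _
    let f := extT (T := T) (tpowRep ρ)
    let I : TwoSidedIdeal (T ⊗[R] (⨂[R] _ : Fin n, A)) := TwoSidedIdeal.ker f.toRingHom
    have hI := Groth.Agent.Lib.LeadAzumaya.asIdeal_eq_map_comap (R := T) I
    have hc : (TwoSidedIdeal.asIdeal I).comap
        (algebraMap T (T ⊗[R] (⨂[R] _ : Fin n, A))) = ⊥ := by
      rw [eq_bot_iff]
      intro t ht
      rw [Ideal.mem_comap, TwoSidedIdeal.mem_asIdeal, TwoSidedIdeal.mem_ker] at ht
      have h1 : f (algebraMap T _ t) = algebraMap T (Matrix (Idx n) (Idx n) T) t := f.commutes t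
      have h2 : algebraMap T (Matrix (Idx n) (Idx n) T) t = 0 := by
        rw [← h1]; exact ht
      have h3 := congrFun (congrFun h2 (fun k => k)) (fun k => k)
      rw [Matrix.algebraMap_matrix_apply] at h3
      simpa using h3
    rw [hc, Ideal.map_bot] at hI
    intro z z' hzz
    have h0 : z - z' ∈ TwoSidedIdeal.asIdeal I := by
      rw [TwoSidedIdeal.mem_asIdeal, TwoSidedIdeal.mem_ker]
      show f (z - z') = 0
      rw [map_sub, sub_eq_zero]
      exact hzz
    rw [hI] at h0
    exact sub_eq_zero.mp h0
  · -- surjective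
    intro X
    have hX : X ∈ (extT (T := T) (tpowRep ρ)).range := by
      rw [Matrix.matrix_eq_sum_single X]
      refine Subalgebra.sum_mem _ fun i _ => Subalgebra.sum_mem _ fun j _ => ?_
      have h1 : Matrix.single i j (X i j) =
          X i j • kronFam (fun k => Matrix.single (i k) (j k) (1 : T)) := by
        ext i' j'
        rw [Matrix.smul_apply, kronFam_apply, smul_eq_mul]
        by_cases hij : i = i' ∧ j = j'
        · obtain ⟨rfl, rfl⟩ := hij
          simp
        · rw [Matrix.single_apply_of_ne i j (X i j) i' j' hij]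
          rw [not_and_or] at hij
          rcases hij with hi | hj
          · obtain ⟨k, hk⟩ := Function.ne_iff.mp hi
            rw [Finset.prod_eq_zero (Finset.mem_univ k), mul_zero]
            exact Matrix.single_apply_of_ne _ _ _ _ _ (fun hh => hk hh.1)
          · obtain ⟨k, hk⟩ := Function.ne_iff.mp hj
            rw [Finset.prod_eq_zero (Finset.mem_univ k), mul_zero]
            exact Matrix.single_apply_of_ne _ _ _ _ _ (fun hh => hk hh.2)
      rw [h1]
      exact Subalgebra.smul_mem _ (kronFam_mem_range ρ h _) _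
    exact hX

end Split

end Groth.Agent.Lib.Seat77.AzTPow2
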