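import Mathlib
import Groth.Agent.Lib.LeadLocalInner
import Groth.Agent.Lib.Seat77AzTPow2

/-!
# The canonical antisymmetrizer of a split Azumaya algebra (helper77)

For a splitting `ρ : A → Mₙ(T)` of an Azumaya `R`-algebra, `mu ρ ∈ T ⊗ A^{⊗ n}` is the preimage of the
antisymmetrizer matrix.  It is functorial in `T` (`mu_mapMatrix`) and does not depend on the
splitting (`mu_eq_of_isSplit`), because automorphisms of matrix algebras are locally inner.
-/

set_option autoImplicit false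

namespace Groth.Agent.Lib.Seat77.AzCmp

open TensorProduct PiTensorProduct Matrix
open Groth.Agent.Lib.Seat77.AzKron Groth.Agent.Lib.Seat77.AzTPow Groth.Agent.Lib.Seat77.AzTPow2

variable {R : Type*} [CommRing R] {A : Type*} [Ring A] [Algebra R A] [IsAzumaya R A]
  {T : Type*} [CommRing T] [Algebra R T] {n : ℕ}

omit [IsAzumaya R A] in
lemma tpowRep_comp_mapMatrix {T' : Type*} [CommRing T'] [Algebra R T'] (j : T →ₐ[R] T')
    (ρ : A →ₐ[R] Matrix (Fin n) (Fin n) T) :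
    tpowRep (j.mapMatrix.comp ρ) = j.mapMatrix.comp (tpowRep ρ) :=
  AlgHom.ext fun x => tpowRep_mapMatrix j ρ x

omit [IsAzumaya R A] in
lemma alt_map_algHom {T' : Type*} [CommRing T'] [Algebra R T'] (j : T →ₐ[R] T') :
    (alt T n).map j = alt T' n := alt_map (j : T →+* T')

omit [IsAzumaya R A] in
/-- base change formula for the extended tensor power representation -/
lemma extT_tpowRep_rTensor {T' : Type*} [CommRing T'] [Algebra R T'] (j : T →ₐ[R] T')
    (ρ : A →ₐ[R] Matrix (Fin n) (Fin n) T) (z : T ⊗[R] (⨂[R] _ : Fin n, A)) :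
    extT (tpowRep (j.mapMatrix.comp ρ)) (j.toLinearMap.rTensor _ z) =
      (extT (tpowRep ρ) z).map j := by
  rw [tpowRep_comp_mapMatrix]
  exact extT_mapMatrix j (tpowRep ρ) z

/-- the canonical element: preimage of the antisymmetrizer -/
noncomputable def mu (hn : 0 < n) (ρ : A →ₐ[R] Matrix (Fin n) (Fin n) T) (h : IsSplit ρ) :
    T ⊗[R] (⨂[R] _ : Fin n, A) :=
  (AlgEquiv.ofBijective (extT (tpowRep ρ)) (extT_tpowRep_bijective hn ρ h)).symm (alt T n)

lemma extT_mu (hn : 0 < n) (ρ : A →ₐ[R] Matrix (Fin n) (Fin n) T) (h : IsSplit ρ) :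
    extT (tpowRep ρ) (mu hn ρ h) = alt T n :=
  (AlgEquiv.ofBijective (extT (tpowRep ρ)) (extT_tpowRep_bijective hn ρ h)).apply_symm_apply _

lemma eq_mu (hn : 0 < n) (ρ : A →ₐ[R] Matrix (Fin n) (Fin n) T) (h : IsSplit ρ)
    (z : T ⊗[R] (⨂[R] _ : Fin n, A)) (hz : extT (tpowRep ρ) z = alt T n) : z = mu hn ρ h :=
  (extT_tpowRep_bijective hn ρ h).1 (hz.trans (extT_mu hn ρ h).symm)

/-- functoriality of the canonical element -/
lemma mu_mapMatrix (hn : 0 < n) {T' : Type*} [CommRing T'] [Algebra R T'] (j : T →ₐ[R] T')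
    (ρ : A →ₐ[R] Matrix (Fin n) (Fin n) T) (h : IsSplit ρ) (h' : IsSplit (j.mapMatrix.comp ρ)) :
    mu hn (j.mapMatrix.comp ρ) h' = j.toLinearMap.rTensor _ (mu hn ρ h) := by
  symm
  apply eq_mu
  rw [extT_tpowRep_rTensor, extT_mu, alt_map_algHom]

omit [IsAzumaya R A] in
/-- two splittings over a local ring are conjugate -/
lemma exists_conj_of_isLocalRing [IsLocalRing T] (hn : 0 < n)
    (ρ₁ ρ₂ : A →ₐ[R] Matrix (Fin n) (Fin n) T) (h₁ : IsSplit ρ₁) (h₂ : IsSplit ρ₂) :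
    ∃ g g' : Matrix (Fin n) (Fin n) T, g * g' = 1 ∧ ∀ a, ρ₂ a = g * ρ₁ a * g' := by
  have : Nonempty (Fin n) := ⟨⟨0, hn⟩⟩
  have : IsAzumaya T (Matrix (Fin n) (Fin n) T) := IsAzumaya.matrix T (Fin n)
  let φ₁ : (T ⊗[R] A) ≃ₐ[T] Matrix (Fin n) (Fin n) T := AlgEquiv.ofBijective (extT ρ₁) h₁
  let φ₂ : (T ⊗[R] A) ≃ₐ[T] Matrix (Fin n) (Fin n) T := AlgEquiv.ofBijective (extT ρ₂) h₂
  obtain ⟨g, hg⟩ := Groth.Agent.Lib.LeadLocalInner.exists_unit_conj (φ₁.symm.trans φ₂)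
  refine ⟨(g : Matrix (Fin n) (Fin n) T), ((g⁻¹ : (Matrix (Fin n) (Fin n) T)ˣ) : _),
    Units.mul_inv g, fun a => ?_⟩
  have h1 : φ₁ ((1 : T) ⊗ₜ[R] a) = ρ₁ a := by
    show extT ρ₁ ((1 : T) ⊗ₜ[R] a) = ρ₁ a
    rw [extT_tmul, one_smul]
  have h2 : φ₂ ((1 : T) ⊗ₜ[R] a) = ρ₂ a := by
    show extT ρ₂ ((1 : T) ⊗ₜ[R] a) = ρ₂ a
    rw [extT_tmul, one_smul]
  have := hg (ρ₁ a)
  rw [← h1, AlgEquiv.trans_apply, AlgEquiv.symm_apply_apply, h2, h1] at this
  exact this

/-- **independence of the splitting** -/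
theorem mu_eq_of_isSplit (hn : 0 < n) (ρ₁ ρ₂ : A →ₐ[R] Matrix (Fin n) (Fin n) T)
    (h₁ : IsSplit ρ₁) (h₂ : IsSplit ρ₂) : mu hn ρ₁ h₁ = mu hn ρ₂ h₂ := by
  apply eq_mu
  set z := mu hn ρ₁ h₁ with hz
  have hz1 : extT (tpowRep ρ₁) z = alt T n := extT_mu hn ρ₁ h₁
  ext i l
  rw [← sub_eq_zero]
  apply eq_zero_of_localization
  intro P hP
  let j : T →ₐ[R] Localization.AtPrime P := IsScalarTower.toAlgHom R T (Localization.AtPrime P)
  have hs₁ := isSplit_mapMatrix j ρ₁ h₁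
  have hs₂ := isSplit_mapMatrix j ρ₂ h₂
  obtain ⟨g, g', hgg', hconj⟩ := exists_conj_of_isLocalRing hn _ _ hs₁ hs₂
  -- conjugation formula on the extended representation
  have hext : ∀ w : Localization.AtPrime P ⊗[R] (⨂[R] _ : Fin n, A),
      extT (tpowRep (j.mapMatrix.comp ρ₂)) w =
        kron g * extT (tpowRep (j.mapMatrix.comp ρ₁)) w * kron g' := by
    intro w
    induction w using TensorProduct.induction_on with
    | zero => simp
    | tmul t x =>
      rw [extT_tmul, extT_tmul, tpowRep_conj _ _ g g' hconj, Matrix.mul_smul, Matrix.smul_mul]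
    | add x y hx hy => rw [map_add, map_add, hx, hy, Matrix.mul_add, Matrix.add_mul]
  have h3 := hext (j.toLinearMap.rTensor _ z)
  rw [extT_tpowRep_rTensor, extT_tpowRep_rTensor, hz1, alt_map_algHom,
    kron_conj_alt g g' hgg'] at h3
  have h4 := congrFun (congrFun h3 i) l
  rw [Matrix.map_apply] at h4
  show algebraMap T (Localization.AtPrime P) (extT (tpowRep ρ₂) z i l - alt T n i l) = 0
  rw [map_sub, sub_eq_zero]
  have h5 : algebraMap T (Localization.AtPrime P) (alt T n i l) =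
      alt (Localization.AtPrime P) n i l := by
    rw [← alt_map (algebraMap T (Localization.AtPrime P))]
    rfl
  rw [h5]
  exact h4

end Groth.Agent.Lib.Seat77.AzCmp
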