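import Mathlib
import Groth.Agent.Lib.LeadAzumaya
import Groth.Agent.Lib.Seat77AzKron

/-!
# The left ideal generated by an antisymmetrizer (helper77)

Abstract package: `B` an `R`-algebra, `s : B`, `E = B s` the principal left ideal, `S` a flat
`R`-algebra with an `S`-algebra isomorphism `Φ : S ⊗ B ≃ M_I(S)` carrying `1 ⊗ s` to the
antisymmetrizer matrix.  Then `S ⊗ E` is free of rank `|I|`, `S ⊗ (B/E)` is projective and
`S ⊗ B → End_S(S ⊗ E)` is bijective.
-/

set_option autoImplicit false

namespace Groth.Agent.Lib.Seat77.AzEnd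

open TensorProduct Matrix
open Groth.Agent.Lib.Seat77.AzKron

section General

variable {S : Type*} [CommRing S] {M N : Type*} [AddCommGroup M] [Module S M]
  [AddCommGroup N] [Module S N]

/-- the cokernel of a von Neumann regular endomorphism of a projective module is projective -/
theorem projective_of_exact_of_regular (F G : M →ₗ[S] M) (π : M →ₗ[S] N)
    (hex : Function.Exact F π) (hsurj : Function.Surjective π)
    (hreg : ∀ x, F (G (F x)) = F x) [Module.Projective S M] : Module.Projective S N := by
  -- `1 - F G` kills `ker π = range F`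
  have hker : LinearMap.ker π ≤ LinearMap.ker (LinearMap.id - F ∘ₗ G) := by
    intro x hx
    rw [LinearMap.mem_ker] at hx
    obtain ⟨y, rfl⟩ := (hex x).mp hx
    rw [LinearMap.mem_ker, LinearMap.sub_apply, LinearMap.id_apply, LinearMap.comp_apply, hreg,
      sub_self]
  let e := π.quotKerEquivOfSurjective hsurj
  let σ : N →ₗ[S] M := ((LinearMap.ker π).liftQ (LinearMap.id - F ∘ₗ G) hker) ∘ₗ e.symm.toLinearMap
  have hσ : ∀ x, σ (π x) = x - F (G x) := by
    intro x
    have : e.symm (π x) = (LinearMap.ker π).mkQ x := by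
      rw [LinearEquiv.symm_apply_eq]
      rfl
    show ((LinearMap.ker π).liftQ (LinearMap.id - F ∘ₗ G) hker) (e.symm (π x)) = _
    rw [this]
    rfl
  refine Module.Projective.of_split σ π ?_
  apply LinearMap.ext
  intro y
  obtain ⟨x, rfl⟩ := hsurj y
  rw [LinearMap.comp_apply, hσ, map_sub, LinearMap.id_apply, sub_eq_self]
  exact (hex _).mpr ⟨G x, rfl⟩

end General

section MatrixLemmas

variable {S : Type*} [CommRing S] {n : ℕ}

/-- the identity index -/
def idI (n : ℕ) : Idx n := fun k => k

lemma eps_idI : eps n (idI n) = 1 := eps_id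

lemma alt_regular : alt S n * Matrix.single (idI n) (idI n) (1 : S) * alt S n = alt S n := by
  ext i l
  rw [Matrix.mul_apply]
  simp only [Matrix.mul_apply, Matrix.single_apply, alt_apply]
  rw [Finset.sum_eq_single (idI n)]
  · rw [Finset.sum_eq_single (idI n)]
    · simp [eps_idI]
    · intro k _ hk
      rw [if_neg (fun h => hk h.1.symm), mul_zero]
    · intro h; exact absurd (Finset.mem_univ _) h
  · intro j _ hj
    rw [Finset.sum_eq_zero, zero_mul]
    intro k _
    rw [if_neg, mul_zero]
    intro hh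
    exact hj hh.2.symm
  · intro h; exact absurd (Finset.mem_univ _) h

/-- the column at the identity index -/
def col : Matrix (Idx n) (Idx n) S →ₗ[S] (Idx n → S) where
  toFun Y i := Y i (idI n)
  map_add' _ _ := rfl
  map_smul' _ _ := rfl

@[simp] lemma col_apply (Y : Matrix (Idx n) (Idx n) S) (i : Idx n) : col Y i = Y i (idI n) := rfl

lemma col_mul (X Y : Matrix (Idx n) (Idx n) S) : col (X * Y) = X.mulVec (col Y) := by
  ext i
  rw [col_apply, Matrix.mul_apply]
  simp only [Matrix.mulVec, dotProduct, col_apply]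

lemma mul_alt_apply (X : Matrix (Idx n) (Idx n) S) (i j : Idx n) :
    (X * alt S n) i j = (X * alt S n) i (idI n) * ((eps n j : ℤ) : S) := by
  simp only [Matrix.mul_apply, alt_apply, eps_idI, Int.cast_one, mul_one, Finset.sum_mul]
  refine Finset.sum_congr rfl fun k _ => ?_
  ring

lemma vecMulVec_eps (v : Idx n → S) :
    Matrix.vecMulVec v (fun j => ((eps n j : ℤ) : S)) =
      Matrix.vecMulVec v (Pi.single (idI n) 1) * alt S n := by
  ext i j
  rw [Matrix.mul_apply, Finset.sum_eq_single (idI n)]
  · simp [Matrix.vecMulVec_apply, eps_idI]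
  · intro k _ hk
    simp [Matrix.vecMulVec_apply, Pi.single_apply, hk]
  · intro h; exact absurd (Finset.mem_univ _) h

end MatrixLemmas

section Package

variable {R : Type*} [CommRing R] {B : Type*} [Ring B] [Algebra R B] (s : B)

/-- the principal left ideal `B s` -/
abbrev idealE : Submodule R B := LinearMap.range (LinearMap.mulRight R s)

/-- left multiplication on the left ideal -/
noncomputable def actE : B →ₐ[R] Module.End R (idealE (R := R) s) where
  toFun b := (LinearMap.mulLeft R b).restrict (p := idealE s) (q := idealE s) (by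
    rintro _ ⟨x, rfl⟩
    exact ⟨b * x, by simp [mul_assoc]⟩)
  map_one' := by
    ext x
    simp
  map_mul' a b := by
    ext x
    simp [mul_assoc]
  map_zero' := by
    ext x
    simp
  map_add' a b := by
    ext x
    simp [add_mul]
  commutes' r := by
    ext x
    simp [Algebra.smul_def]

@[simp] lemma actE_apply_coe (b : B) (x : idealE (R := R) s) : ((actE s b x : idealE s) : B) = b * x :=
  rfl

variable {S : Type*} [CommRing S] [Algebra R S] [Module.Flat R S] {n : ℕ}
  (Φ : (S ⊗[R] B) ≃ₐ[S] Matrix (Idx n) (Idx n) S)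

/-- the inclusion of the base-changed ideal -/
noncomputable def iotaS : S ⊗[R] (idealE (R := R) s) →ₗ[S] S ⊗[R] B :=
  (idealE s).subtype.baseChange S

lemma iotaS_injective : Function.Injective (iotaS (R := R) (S := S) s) := by
  have := Module.Flat.lTensor_preserves_injective_linearMap (M := S) (idealE (R := R) s).subtype
    (idealE s).injective_subtype
  exact this

/-- the base-changed action -/
noncomputable def actS : S ⊗[R] B →ₗ[S] Module.End S (S ⊗[R] (idealE (R := R) s)) :=
  (LinearMap.tensorProductEnd R S (idealE s)).toLinearMap ∘ₗ ((actE s).toLinearMap.baseChange S)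

lemma actS_tmul (t : S) (b : B) (t' : S) (x : idealE (R := R) s) :
    actS s (t ⊗ₜ[R] b) (t' ⊗ₜ[R] x) = (t * t') ⊗ₜ[R] (actE s b x) := by
  have h1 : (actE s).toLinearMap.baseChange S (t ⊗ₜ[R] b) = t ⊗ₜ[R] (actE s b) :=
    LinearMap.baseChange_tmul _ _ _
  show (LinearMap.tensorProductEnd R S (idealE s))
    ((actE s).toLinearMap.baseChange S (t ⊗ₜ[R] b)) (t' ⊗ₜ[R] x) = _
  rw [h1]
  exact Groth.Agent.Lib.LeadAzumaya.tensorProductEnd_tmul_apply S (idealE s) t (actE s b) t' x

lemma iotaS_actS (w : S ⊗[R] B) (z : S ⊗[R] (idealE (R := R) s)) :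
    iotaS s (actS s w z) = w * iotaS s z := by
  induction w using TensorProduct.induction_on with
  | zero => simp
  | tmul t b =>
    induction z using TensorProduct.induction_on with
    | zero => simp
    | tmul t' x =>
      rw [actS_tmul]
      simp [iotaS]
    | add z z' hz hz' => rw [map_add, map_add, map_add, hz, hz', mul_add]
  | add w w' hw hw' =>
    rw [map_add, LinearMap.add_apply, map_add, hw, hw', add_mul]

/-- every element of `(S ⊗ B)(1 ⊗ s)` comes from `S ⊗ E` -/
lemma exists_iotaS_eq (w : S ⊗[R] B) :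
    ∃ z : S ⊗[R] (idealE (R := R) s), iotaS s z = w * ((1 : S) ⊗ₜ[R] s) := by
  induction w using TensorProduct.induction_on with
  | zero => exact ⟨0, by simp⟩
  | tmul t b =>
    refine ⟨t ⊗ₜ[R] ⟨b * s, ⟨b, rfl⟩⟩, ?_⟩
    simp [iotaS]
  | add w w' hw hw' =>
    obtain ⟨z, hz⟩ := hw
    obtain ⟨z', hz'⟩ := hw'
    exact ⟨z + z', by rw [map_add, hz, hz', add_mul]⟩

/-- every element of `S ⊗ E` lies in `(S ⊗ B)(1 ⊗ s)` -/
lemma exists_eq_mul (z : S ⊗[R] (idealE (R := R) s)) :
    ∃ w : S ⊗[R] B, iotaS s z = w * ((1 : S) ⊗ₜ[R] s) := by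
  induction z using TensorProduct.induction_on with
  | zero => exact ⟨0, by simp⟩
  | tmul t x =>
    obtain ⟨x, b, rfl⟩ := x
    refine ⟨t ⊗ₜ[R] b, ?_⟩
    simp [iotaS]
  | add z z' hz hz' =>
    obtain ⟨w, hw⟩ := hz
    obtain ⟨w', hw'⟩ := hz'
    exact ⟨w + w', by rw [map_add, hw, hw', add_mul]⟩

variable (hΦ : Φ ((1 : S) ⊗ₜ[R] s) = alt S n)

/-- coordinates on `S ⊗ E` -/
noncomputable def theta : S ⊗[R] (idealE (R := R) s) →ₗ[S] (Idx n → S) :=
  col ∘ₗ Φ.toLinearMap ∘ₗ iotaS s

include hΦ in
lemma theta_bijective : Function.Bijective (theta s Φ) := by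
  constructor
  · intro z z' hzz
    apply iotaS_injective s
    apply Φ.injective
    obtain ⟨w, hw⟩ := exists_eq_mul s z
    obtain ⟨w', hw'⟩ := exists_eq_mul s z'
    have h1 : Φ (iotaS s z) = Φ w * alt S n := by rw [hw, map_mul, hΦ]
    have h2 : Φ (iotaS s z') = Φ w' * alt S n := by rw [hw', map_mul, hΦ]
    ext i j
    rw [h1, h2, mul_alt_apply, mul_alt_apply (Φ w')]
    congr 1
    have := congrFun hzz i
    simp only [theta, LinearMap.comp_apply, AlgEquiv.toLinearMap_apply, col_apply] at this
    rw [h1, h2] at this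
    exact this
  · intro v
    obtain ⟨z, hz⟩ := exists_iotaS_eq s (Φ.symm (Matrix.vecMulVec v (Pi.single (idI n) 1)))
    refine ⟨z, ?_⟩
    ext i
    simp only [theta, LinearMap.comp_apply, AlgEquiv.toLinearMap_apply, col_apply]
    rw [hz, map_mul, AlgEquiv.apply_symm_apply, hΦ, ← vecMulVec_eps, Matrix.vecMulVec_apply,
      eps_idI, Int.cast_one, mul_one]

lemma theta_actS (w : S ⊗[R] B) (z : S ⊗[R] (idealE (R := R) s)) :
    theta s Φ (actS s w z) = (Φ w).mulVec (theta s Φ z) := by
  simp only [theta, LinearMap.comp_apply, AlgEquiv.toLinearMap_apply]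
  rw [iotaS_actS, map_mul, col_mul]

include hΦ in
/-- the base-changed action is bijective -/
theorem actS_bijective : Function.Bijective (actS (R := R) (S := S) s) := by
  classical
  let θ : (S ⊗[R] (idealE (R := R) s)) ≃ₗ[S] (Idx n → S) :=
    LinearEquiv.ofBijective (theta s Φ) (theta_bijective s Φ hΦ)
  have key : ∀ w, actS s w = θ.symm.conj (Matrix.toLin' (Φ w)) := by
    intro w
    apply LinearMap.ext
    intro z
    apply θ.injective
    rw [LinearEquiv.conj_apply, LinearMap.comp_apply, LinearMap.comp_apply]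
    simp only [LinearEquiv.coe_coe, LinearEquiv.symm_symm, LinearEquiv.apply_symm_apply]
    show theta s Φ (actS s w z) = _
    rw [theta_actS, Matrix.toLin'_apply]
    rfl
  have hfun : ⇑(actS (R := R) (S := S) s) =
      ⇑(θ.symm.conj) ∘ ⇑(Matrix.toLin' (R := S) (n := Idx n) (m := Idx n)) ∘ ⇑Φ := by
    funext w
    exact key w
  rw [hfun]
  exact (θ.symm.conj).bijective.comp ((Matrix.toLin' (R := S)).bijective.comp Φ.bijective)

include hΦ in
/-- rank of the base-changed ideal -/
theorem finrank_tensor_idealE [Nontrivial S] :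
    Module.finrank S (S ⊗[R] (idealE (R := R) s)) = n ^ n := by
  have e : (S ⊗[R] (idealE (R := R) s)) ≃ₗ[S] (Idx n → S) :=
    LinearEquiv.ofBijective (theta s Φ) (theta_bijective s Φ hΦ)
  rw [e.finrank_eq, Module.finrank_pi, Fintype.card_fun, Fintype.card_fin]

include hΦ in
/-- the base change of `B / E` is projective -/
theorem projective_tensor_quotient [Module.Projective R B] :
    Module.Projective S (S ⊗[R] (B ⧸ idealE (R := R) s)) := by
  let Fm : S ⊗[R] B →ₗ[S] S ⊗[R] B := (LinearMap.mulRight R s).baseChange S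
  let π : S ⊗[R] B →ₗ[S] S ⊗[R] (B ⧸ idealE (R := R) s) := (idealE s).mkQ.baseChange S
  have hFm : ∀ w, Fm w = w * ((1 : S) ⊗ₜ[R] s) := by
    intro w
    induction w using TensorProduct.induction_on with
    | zero => simp
    | tmul t b => simp [Fm]
    | add w w' hw hw' => rw [map_add, hw, hw', add_mul]
  let Gm : S ⊗[R] B →ₗ[S] S ⊗[R] B :=
    Φ.symm.toLinearMap ∘ₗ
      (LinearMap.mulRight S (Matrix.single (idI n) (idI n) (1 : S))) ∘ₗ Φ.toLinearMap
  have hex0 : Function.Exact (LinearMap.mulRight R s) (idealE (R := R) s).mkQ := by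
    intro y
    rw [Submodule.mkQ_apply, Submodule.Quotient.mk_eq_zero]
    exact Iff.rfl
  have hex : Function.Exact Fm π := by
    have := lTensor_exact S hex0 (Submodule.mkQ_surjective _)
    exact this
  have hsurj : Function.Surjective π := by
    have := LinearMap.lTensor_surjective S (Submodule.mkQ_surjective (idealE (R := R) s))
    exact this
  have hreg : ∀ x, Fm (Gm (Fm x)) = Fm x := by
    intro x
    apply Φ.injective
    rw [hFm (Gm (Fm x)), map_mul, hΦ]
    simp only [Gm, LinearMap.comp_apply, AlgEquiv.toLinearMap_apply, AlgEquiv.apply_symm_apply,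
      LinearMap.mulRight_apply]
    rw [hFm x, map_mul, hΦ, Matrix.mul_assoc, Matrix.mul_assoc, ← Matrix.mul_assoc (alt S n),
      alt_regular]
  exact projective_of_exact_of_regular Fm Gm π hex hsurj hreg

end Package

end Groth.Agent.Lib.Seat77.AzEnd
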