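import Mathlib
import Groth.Agent.S5710
import Groth.Agent.S5711
import Groth.Agent.Lib.LeadAzumaya
import Groth.Agent.Lib.LeadLocalInner
import Groth.Agent.Lib.Seat77AzTPow

/-!
# Local splittings of Azumaya algebras (helper77)

For an Azumaya `R`-algebra `A` of rank `n²` at a prime `p` (`n > 0`), there is a finite free nontrivial
`R_p`-algebra `S` and a splitting `ρ : A → Mₙ(S)` (from S5710/S5711: maximal étale subalgebras over
local rings).
-/

set_option autoImplicit false
universe u

namespace Groth.Agent.Lib.Seat77.AzLoc

open TensorProduct Matrix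
open Groth.Agent.Lib.Seat77.AzTPow

/-- data of a local splitting at a prime -/
structure LocSplit (R : Type u) [CommRing R] (A : Type u) [Ring A] [Algebra R A] (n : ℕ)
    (p : Ideal R) [p.IsPrime] where
  S : Type u
  [instCR : CommRing S]
  [instAlgLoc : Algebra (Localization.AtPrime p) S]
  [instAlg : Algebra R S]
  [instTower : IsScalarTower R (Localization.AtPrime p) S]
  [instFree : Module.Free (Localization.AtPrime p) S]
  [instFin : Module.Finite (Localization.AtPrime p) S]
  [instNontriv : Nontrivial S]
  ρ : A →ₐ[R] Matrix (Fin n) (Fin n) S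
  split : IsSplit ρ
  π : S →ₗ[Localization.AtPrime p] Localization.AtPrime p
  π_one : π 1 = 1

attribute [instance] LocSplit.instCR LocSplit.instAlgLoc LocSplit.instAlg LocSplit.instTower
  LocSplit.instFree LocSplit.instFin LocSplit.instNontriv

variable (R : Type u) [CommRing R] (A : Type u) [Ring A] [Algebra R A] [IsAzumaya R A]

/-- a retraction of the structure map of a finite free nontrivial algebra over a local ring -/
theorem exists_retraction (L : Type*) [CommRing L] [IsLocalRing L] (S : Type*) [CommRing S]
    [Algebra L S] [Module.Free L S] [Module.Finite L S] [Nontrivial S] :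
    ∃ π : S →ₗ[L] L, π 1 = 1 := by
  apply Groth.Agent.Lib.LeadLocalInner.exists_dual_eq_one
  intro h1
  have htop : (⊤ : Submodule L S) ≤ (IsLocalRing.maximalIdeal L) • (⊤ : Submodule L S) := by
    intro x _
    have : x = x • (1 : S) := by simp
    rw [this]
    -- `m • ⊤` is stable under multiplication by `S`
    refine Submodule.smul_induction_on h1 ?_ ?_
    · intro r hr y _
      rw [smul_eq_mul, mul_smul_comm]
      exact Submodule.smul_mem_smul hr Submodule.mem_top
    · intro a b ha hb
      rw [smul_add]
      exact Submodule.add_mem _ ha hb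
  have hbot : (⊤ : Submodule L S) = ⊥ :=
    Submodule.eq_bot_of_le_smul_of_le_jacobson_bot (IsLocalRing.maximalIdeal L) _
      Module.Finite.fg_top htop (by rw [IsLocalRing.jacobson_eq_maximalIdeal ⊥ bot_ne_top])
  have : (1 : S) ∈ (⊥ : Submodule L S) := hbot ▸ Submodule.mem_top
  rw [Submodule.mem_bot] at this
  exact one_ne_zero this

theorem exists_locSplit (n : ℕ) (hn : 0 < n) (p : Ideal R) [p.IsPrime]
    (hrk : Module.rankAtStalk (R := R) A ⟨p, inferInstance⟩ = n ^ 2) :
    Nonempty (LocSplit R A n p) := by
  classical
  let R' := Localization.AtPrime p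
  let A' := R' ⊗[R] A
  have : IsAzumaya R' A' := Groth.Agent.Lib.LeadAzumaya.isAzumaya_baseChange R' A
  have hfin : Module.finrank R' A' = n ^ 2 := by
    rw [← hrk, Module.rankAtStalk_eq_finrank_tensorProduct]
  obtain ⟨E, instCR, instAlg, hEt, hFin, hFree, hrkE, u, hu⟩ :=
    Groth.Agent.S5710.result R' A' n hfin
  let modEA : Module E A' :=
    { smul := fun e a => a * u e
      one_smul := fun a => by show a * u 1 = a; rw [map_one, mul_one]
      mul_smul := fun e e' a => by
        show a * u (e * e') = a * u e' * u e
        rw [mul_comm e e', map_mul, mul_assoc]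
      smul_zero := fun e => by show (0 : A') * u e = 0; rw [zero_mul]
      smul_add := fun e a b => by show (a + b) * u e = a * u e + b * u e; rw [add_mul]
      add_smul := fun e e' a => by show a * u (e + e') = a * u e + a * u e'; rw [map_add, mul_add]
      zero_smul := fun a => by show a * u 0 = 0; rw [map_zero, mul_zero] }
  have hmod : ∀ (e : E) (a : A'), e • a = a * u e := fun e a => rfl
  obtain ⟨hfree, hrkA, ⟨ψ⟩⟩ := Groth.Agent.S5711.result R' A' n hfin E hrkE u hu hmod
  have hnE : Nontrivial E := by
    by_contra hE
    rw [not_nontrivial_iff_subsingleton] at hE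
    have : Module.finrank R' E = 0 := Module.finrank_zero_of_subsingleton
    omega
  have : Module.Finite E A' := Module.finite_of_finrank_pos (by rw [hrkA]; exact hn)
  let b : Module.Basis (Fin n) E A' := Module.finBasisOfFinrankEq E A' hrkA
  let φ : (E ⊗[R'] A') ≃ₐ[E] Matrix (Fin n) (Fin n) E := ψ.trans (algEquivMatrix b)
  let algRE : Algebra R E := ((algebraMap R' E).comp (algebraMap R R')).toAlgebra
  have tower : IsScalarTower R R' E := IsScalarTower.of_algebraMap_eq (fun _ => rfl)
  let ρ : A →ₐ[R] Matrix (Fin n) (Fin n) E :=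
    { toFun := fun a => φ ((1 : E) ⊗ₜ[R'] ((1 : R') ⊗ₜ[R] a))
      map_one' := by
        rw [← Algebra.TensorProduct.one_def, ← Algebra.TensorProduct.one_def, map_one]
      map_mul' := fun a a' => by
        rw [← map_mul, Algebra.TensorProduct.tmul_mul_tmul, Algebra.TensorProduct.tmul_mul_tmul,
          one_mul, one_mul]
      map_zero' := by rw [TensorProduct.tmul_zero, TensorProduct.tmul_zero, map_zero]
      map_add' := fun a a' => by
        rw [TensorProduct.tmul_add, TensorProduct.tmul_add, map_add]
      commutes' := fun r => by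
        have h1 : (1 : R') ⊗ₜ[R] (algebraMap R A r) = algebraMap R' A' (algebraMap R R' r) := by
          rw [Algebra.TensorProduct.algebraMap_apply, Algebra.algebraMap_self, RingHom.id_apply,
            Algebra.algebraMap_eq_smul_one (A := A), TensorProduct.tmul_smul,
            TensorProduct.smul_tmul', ← Algebra.algebraMap_eq_smul_one]
        have h2 : (1 : E) ⊗ₜ[R'] (algebraMap R' A' (algebraMap R R' r)) =
            (algebraMap R' E (algebraMap R R' r)) • (1 : E ⊗[R'] A') := by
          rw [Algebra.algebraMap_eq_smul_one (A := A'), TensorProduct.tmul_smul,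
            Algebra.TensorProduct.one_def, Algebra.algebraMap_eq_smul_one (A := E),
            smul_assoc, one_smul]
          rfl
        show φ ((1 : E) ⊗ₜ[R'] ((1 : R') ⊗ₜ[R] (algebraMap R A r))) = _
        rw [h1, h2, map_smul, map_one, ← Algebra.algebraMap_eq_smul_one,
          IsScalarTower.algebraMap_apply R E (Matrix (Fin n) (Fin n) E)]
        rfl }
  have hρ : ∀ a, ρ a = φ ((1 : E) ⊗ₜ[R'] ((1 : R') ⊗ₜ[R] a)) := fun a => rfl
  have hsplit : IsSplit ρ := by
    let c : E ⊗[R'] (R' ⊗[R] A) ≃ₗ[E] E ⊗[R] A :=
      TensorProduct.AlgebraTensorModule.cancelBaseChange R R' E E A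
    have key : ∀ z : E ⊗[R'] (R' ⊗[R] A), extT ρ (c z) = φ z := by
      intro z
      induction z using TensorProduct.induction_on with
      | zero => simp
      | tmul e y =>
        induction y using TensorProduct.induction_on with
        | zero => simp
        | tmul r' a =>
          have h1 : c (e ⊗ₜ[R'] (r' ⊗ₜ[R] a)) = (r' • e) ⊗ₜ[R] a := by
            simp [c]
          rw [h1, extT_tmul, hρ]
          have h2 : e ⊗ₜ[R'] (r' ⊗ₜ[R] a) = (r' • e) • ((1 : E) ⊗ₜ[R'] ((1 : R') ⊗ₜ[R] a)) := by
            rw [TensorProduct.smul_tmul', smul_eq_mul, mul_one, TensorProduct.smul_tmul,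
              TensorProduct.smul_tmul', smul_eq_mul, mul_one]
          rw [h2, map_smul]
        | add y y' hy hy' =>
          rw [TensorProduct.tmul_add, map_add, map_add, map_add, hy, hy']
      | add z z' hz hz' => rw [map_add, map_add, map_add, hz, hz']
    have hfun : ⇑(extT ρ) = ⇑φ ∘ ⇑c.symm := by
      funext w
      rw [Function.comp_apply, ← key, LinearEquiv.apply_symm_apply]
    show Function.Bijective (extT ρ)
    rw [hfun]
    exact φ.bijective.comp c.symm.bijective
  obtain ⟨π, hπ⟩ := exists_retraction R' E
  exact ⟨{ S := E, ρ := ρ, split := hsplit, π := π, π_one := hπ }⟩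

end Groth.Agent.Lib.Seat77.AzLoc
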