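import Mathlib
import Groth.Agent.Lib.Seat78RedChar
import Groth.Agent.Lib.Seat77AzCmp
import Groth.Agent.Lib.Seat77AzLoc

/-!
# The global antisymmetrizer of an Azumaya algebra of constant rank `n²` (helper77)

Given local splittings `L p` at all primes, there is a global element `s ∈ A^{⊗ n}` which maps to the
antisymmetrizer matrix under the tensor power of every `(L p).ρ`.  Construction: the product of the
local splitting rings is a (universally injective) splitting ring; the canonical element over it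
descends coordinatewise: locally by faithfully flat descent along `R_p → (L p).S`, globally because
an element of `∏ S_p / R` vanishing at all primes is zero.
-/

set_option autoImplicit false
universe u

namespace Groth.Agent.Lib.Seat77.AzGlob

open TensorProduct PiTensorProduct Matrix
open Groth.Agent.Lib.Seat77.AzKron Groth.Agent.Lib.Seat77.AzTPow Groth.Agent.Lib.Seat77.AzTPow2
  Groth.Agent.Lib.Seat77.AzCmp Groth.Agent.Lib.Seat77.AzLoc

variable {R : Type u} [CommRing R] {A : Type u} [Ring A] [Algebra R A] [IsAzumaya R A] {n : ℕ}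

section LocalDescent

lemma mu_congr {T : Type*} [CommRing T] [Algebra R T] (hn : 0 < n)
    {ρ ρ' : A →ₐ[R] Matrix (Fin n) (Fin n) T} (e : ρ = ρ') (h : IsSplit ρ) (h' : IsSplit ρ') :
    mu hn ρ h = mu hn ρ' h' := by
  subst e
  rfl

/-- local descent: coordinates of the canonical element over a local splitting ring lie in `R_p` -/
theorem ev_mu_mem_range (hn : 0 < n) (p : Ideal R) [p.IsPrime] (L : LocSplit R A n p)
    (ξ : (⨂[R] _ : Fin n, A) →ₗ[R] R) :
    ∃ r' : Localization.AtPrime p,
      algebraMap (Localization.AtPrime p) L.S r' = ev ξ (mu hn L.ρ L.split) := by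
  let j₁ : L.S →ₐ[R] L.S ⊗[Localization.AtPrime p] L.S := Algebra.TensorProduct.includeLeft
  let j₂ : L.S →ₐ[R] L.S ⊗[Localization.AtPrime p] L.S :=
    { toRingHom := (Algebra.TensorProduct.includeRight :
        L.S →ₐ[Localization.AtPrime p] L.S ⊗[Localization.AtPrime p] L.S).toRingHom
      commutes' := fun r => by
        show (1 : L.S) ⊗ₜ[Localization.AtPrime p] (algebraMap R L.S r) =
          (algebraMap R L.S r) ⊗ₜ[Localization.AtPrime p] (1 : L.S)
        rw [IsScalarTower.algebraMap_apply R (Localization.AtPrime p) L.S,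
          Algebra.algebraMap_eq_smul_one (A := L.S), TensorProduct.tmul_smul,
          TensorProduct.smul_tmul'] }
  have h1 := isSplit_mapMatrix j₁ L.ρ L.split
  have h2 := isSplit_mapMatrix j₂ L.ρ L.split
  have e := mu_eq_of_isSplit hn _ _ h1 h2
  rw [mu_mapMatrix hn j₁ L.ρ L.split h1, mu_mapMatrix hn j₂ L.ρ L.split h2] at e
  have e' := congrArg (ev ξ) e
  rw [ev_rTensor, ev_rTensor] at e'
  exact Groth.Agent.Lib.Seat78.RedChar.mem_range_algebraMap_of_tmul_eq (Localization.AtPrime p) L.S
    (ev ξ (mu hn L.ρ L.split)) e'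

end LocalDescent

section Product

variable (L : ∀ p : PrimeSpectrum R, LocSplit R A n p.asIdeal)

/-- the product of the local splitting rings -/
abbrev PT : Type u := ∀ p : PrimeSpectrum R, (L p).S

/-- the product representation -/
noncomputable def rhoT : A →ₐ[R] Matrix (Fin n) (Fin n) (PT L) where
  toFun a := Matrix.of fun i j p => (L p).ρ a i j
  map_one' := by
    ext i j p
    simp only [Matrix.of_apply, map_one, Matrix.one_apply]
    split_ifs <;> rfl
  map_mul' a b := by
    ext i j p
    simp only [Matrix.of_apply, map_mul, Matrix.mul_apply, Finset.sum_apply, Pi.mul_apply]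
  map_zero' := by
    ext i j p
    simp
  map_add' a b := by
    ext i j p
    simp
  commutes' r := by
    ext i j p
    simp only [Matrix.of_apply, AlgHom.commutes, Matrix.algebraMap_matrix_apply]
    split_ifs <;> rfl

/-- the projections -/
noncomputable def proj (p : PrimeSpectrum R) : PT L →ₐ[R] (L p).S :=
  Pi.evalAlgHom R (fun p : PrimeSpectrum R => (L p).S) p

lemma proj_comp_rhoT (p : PrimeSpectrum R) : (proj L p).mapMatrix.comp (rhoT L) = (L p).ρ := by
  ext a i j
  rfl

/-- the product ring splits `A` -/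
theorem isSplit_rhoT : IsSplit (rhoT L) := by
  classical
  obtain ⟨m, x, ξ, hx⟩ := Groth.Agent.Lib.LeadAzumaya.exists_dualBasis (R := R) A
  have hnat : ∀ (p : PrimeSpectrum R) (y : PT L ⊗[R] A),
      extT (L p).ρ ((proj L p).toLinearMap.rTensor A y) = (extT (rhoT L) y).map (proj L p) := by
    intro p y
    rw [← proj_comp_rhoT L p]
    exact extT_mapMatrix (proj L p) (rhoT L) y
  constructor
  · intro y y' hyy
    have h0 : ∀ y : PT L ⊗[R] A, extT (rhoT L) y = 0 → y = 0 := by
      intro y hy
      rw [sum_ev_smul x ξ hx y]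
      refine Finset.sum_eq_zero fun k _ => ?_
      have : ev (ξ k) y = 0 := by
        funext p
        have h1 : extT (L p).ρ ((proj L p).toLinearMap.rTensor A y) = 0 := by
          rw [hnat, hy]
          ext i j
          simp
        have h2 : (proj L p).toLinearMap.rTensor A y = 0 :=
          (L p).split.1 (h1.trans (map_zero _).symm)
        have h3 := ev_rTensor (proj L p) (ξ k) y
        rw [h2, map_zero] at h3
        exact h3.symm
      rw [this, zero_smul]
    have := h0 (y - y') (by rw [map_sub, hyy, sub_self])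
    exact sub_eq_zero.mp this
  · intro X
    let yp : ∀ p : PrimeSpectrum R, (L p).S ⊗[R] A := fun p =>
      (AlgEquiv.ofBijective (extT (L p).ρ) (L p).split).symm (X.map (proj L p))
    have hyp : ∀ p, extT (L p).ρ (yp p) = X.map (proj L p) := fun p =>
      (AlgEquiv.ofBijective (extT (L p).ρ) (L p).split).apply_symm_apply _
    let t : Fin m → PT L := fun k p => ev (ξ k) (yp p)
    refine ⟨∑ k, t k ⊗ₜ[R] x k, ?_⟩
    rw [map_sum]
    ext i j p
    have h1 := congrFun (congrFun (hyp p) i) j
    rw [sum_ev_smul x ξ hx (yp p), map_sum] at h1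
    simp only [map_smul, extT_tmul, one_smul] at h1
    rw [Matrix.map_apply] at h1
    show (∑ k, extT (rhoT L) (t k ⊗ₜ[R] x k)) i j p = X i j p
    have h2 : (proj L p) (X i j) = X i j p := rfl
    rw [← h2, ← h1]
    simp only [extT_tmul]
    rw [Matrix.sum_apply, Finset.sum_apply, Matrix.sum_apply]
    rfl

/-- at each prime, some denominator outside the prime brings the coordinate into `R` -/
theorem exists_smul_ev_muT_mem_range (hn : 0 < n) (ξ : (⨂[R] _ : Fin n, A) →ₗ[R] R)
    (p : PrimeSpectrum R) :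
    ∃ g : R, g ∉ p.asIdeal ∧ ∃ r : R,
      algebraMap R (PT L) r = g • ev ξ (mu hn (rhoT L) (isSplit_rhoT L)) := by
  set cT := ev ξ (mu hn (rhoT L) (isSplit_rhoT L)) with hcT
  let j₁ : PT L →ₐ[R] (L p).S ⊗[R] PT L := Algebra.TensorProduct.includeRight
  let j₂ : (L p).S →ₐ[R] (L p).S ⊗[R] PT L := Algebra.TensorProduct.includeLeft
  have h1 := isSplit_mapMatrix j₁ (rhoT L) (isSplit_rhoT L)
  have h2 := isSplit_mapMatrix j₂ (L p).ρ (L p).split
  have e := mu_eq_of_isSplit hn _ _ h1 h2
  rw [mu_mapMatrix hn j₁ (rhoT L) (isSplit_rhoT L) h1,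
    mu_mapMatrix hn j₂ (L p).ρ (L p).split h2] at e
  have e' := congrArg (ev ξ) e
  rw [ev_rTensor, ev_rTensor] at e'
  obtain ⟨r', hr'⟩ := ev_mu_mem_range hn p.asIdeal (L p) ξ
  rw [← hr', ← hcT] at e'
  -- e' : 1 ⊗ cT = (alg r') ⊗ 1
  have e2 : (1 : (L p).S) ⊗ₜ[R] cT =
      (algebraMap (Localization.AtPrime p.asIdeal) (L p).S r') ⊗ₜ[R] (1 : PT L) := e'
  have e3 := congrArg (((L p).π.restrictScalars R).rTensor (PT L)) e2
  rw [LinearMap.rTensor_tmul, LinearMap.rTensor_tmul] at e3
  simp only [LinearMap.coe_restrictScalars] at e3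
  rw [(L p).π_one, Algebra.algebraMap_eq_smul_one, map_smul, (L p).π_one, smul_eq_mul,
    mul_one] at e3
  -- e3 : 1 ⊗ cT = r' ⊗ 1 in R_p ⊗ T
  obtain ⟨a, g, hag⟩ := IsLocalization.exists_mk'_eq p.asIdeal.primeCompl r'
  have hspec : r' * algebraMap R (Localization.AtPrime p.asIdeal) (g : R) =
      algebraMap R (Localization.AtPrime p.asIdeal) a := by
    rw [← hag]; exact IsLocalization.mk'_spec _ a g
  have e4 : (1 : Localization.AtPrime p.asIdeal) ⊗ₜ[R] ((g : R) • cT - a • (1 : PT L)) = 0 := by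
    rw [TensorProduct.tmul_sub, TensorProduct.tmul_smul, TensorProduct.tmul_smul, e3,
      TensorProduct.smul_tmul', TensorProduct.smul_tmul', sub_eq_zero]
    congr 1
    rw [Algebra.smul_def, Algebra.smul_def, mul_one, mul_comm, hspec]
  have e5 : (TensorProduct.mk R (Localization.AtPrime p.asIdeal) (PT L) 1)
      ((g : R) • cT - a • (1 : PT L)) = 0 := e4
  rw [IsLocalizedModule.eq_zero_iff p.asIdeal.primeCompl] at e5
  obtain ⟨c, hc⟩ := e5
  refine ⟨(c : R) * (g : R), ?_, (c : R) * a, ?_⟩
  · exact (p.asIdeal.primeCompl.mul_mem c.2 g.2)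
  · rw [Submonoid.smul_def, smul_sub, sub_eq_zero] at hc
    rw [mul_smul, hc, Algebra.algebraMap_eq_smul_one, mul_smul]

/-- global descent: coordinates of the canonical element over the product ring lie in `R` -/
theorem ev_muT_mem_range (hn : 0 < n) (ξ : (⨂[R] _ : Fin n, A) →ₗ[R] R) :
    ∃ r : R, algebraMap R (PT L) r = ev ξ (mu hn (rhoT L) (isSplit_rhoT L)) := by
  set cT := ev ξ (mu hn (rhoT L) (isSplit_rhoT L)) with hcT
  let J : Ideal R :=
    { carrier := {g | ∃ r : R, algebraMap R (PT L) r = g • cT}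
      add_mem' := by
        rintro a b ⟨r, hr⟩ ⟨r', hr'⟩
        exact ⟨r + r', by rw [map_add, hr, hr', add_smul]⟩
      zero_mem' := ⟨0, by simp⟩
      smul_mem' := by
        rintro c a ⟨r, hr⟩
        refine ⟨c * r, ?_⟩
        show algebraMap R (PT L) (c * r) = (c * a) • cT
        rw [mul_smul, ← hr, map_mul, Algebra.smul_def] }
  have hJ : J = ⊤ := by
    by_contra hne
    obtain ⟨m, hm, hJm⟩ := Ideal.exists_le_maximal J hne
    obtain ⟨g, hg, r, hr⟩ := exists_smul_ev_muT_mem_range L hn ξ ⟨m, hm.isPrime⟩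
    exact hg (hJm ⟨r, hr⟩)
  have h1 : (1 : R) ∈ J := by rw [hJ]; trivial
  obtain ⟨r, hr⟩ := h1
  exact ⟨r, by rw [hr, one_smul]⟩

/-- **the global antisymmetrizer** -/
theorem exists_global (hn : 0 < n) :
    ∃ s : ⨂[R] _ : Fin n, A, ∀ p : PrimeSpectrum R, tpowRep (L p).ρ s = alt (L p).S n := by
  classical
  have : IsAzumaya R (⨂[R] _ : Fin n, A) := isAzumaya_tpow R A n
  obtain ⟨m, x, ξ, hx⟩ :=
    Groth.Agent.Lib.LeadAzumaya.exists_dualBasis (R := R) (⨂[R] _ : Fin n, A)
  choose r hr using fun k => ev_muT_mem_range L hn (ξ k)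
  refine ⟨∑ k, r k • x k, fun p => ?_⟩
  have hp := isSplit_mapMatrix (proj L p) (rhoT L) (isSplit_rhoT L)
  have hmu := mu_mapMatrix hn (proj L p) (rhoT L) (isSplit_rhoT L) hp
  have h1 : (1 : (L p).S) ⊗ₜ[R] (∑ k, r k • x k) =
      (proj L p).toLinearMap.rTensor _ (mu hn (rhoT L) (isSplit_rhoT L)) := by
    rw [sum_ev_smul x ξ hx ((proj L p).toLinearMap.rTensor _ (mu hn (rhoT L) (isSplit_rhoT L))),
      TensorProduct.tmul_sum]
    refine Finset.sum_congr rfl fun k _ => ?_
    rw [ev_rTensor, ← hr k, AlgHom.commutes, TensorProduct.tmul_smul, algebraMap_smul]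
  have h2 : tpowRep (L p).ρ (∑ k, r k • x k) =
      extT (tpowRep (L p).ρ) ((1 : (L p).S) ⊗ₜ[R] (∑ k, r k • x k)) := by
    rw [extT_tmul, one_smul]
  rw [h2, h1, ← hmu, mu_congr hn (proj_comp_rhoT L p) hp (L p).split]
  exact extT_mu hn (L p).ρ (L p).split

end Product

end Groth.Agent.Lib.Seat77.AzGlob
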