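import Mathlib
import Groth.Agent.Lib.Seat77AzInvO
import Groth.Agent.Lib.Helper18StdEtaleCover
import Groth.Agent.S15587

/-!
# Ordinary involutions: the orthogonal / symplectic decomposition of `Spec S` in the everywhere
ramified case
-/

set_option autoImplicit false
set_option linter.style.haveILetI false

open scoped TensorProduct
open IsLocalRing

namespace Groth.Agent.Lib.Seat77.AzInvP

open Groth.Agent.Lib.Seat25.AzSH Groth.Agent.Lib.Seat25.AzDesc Groth.Agent.Lib.Seat25.AzInvA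
  Groth.Agent.Lib.Seat25.AzInvB
open Groth.Agent.Lib.Helper3 Groth.Agent.Lib.Helper3.IndEt
open Groth.Agent.Lib.Seat14.EtLoc
open AzInv Groth.Agent.Lib.Seat77.AzInvA Groth.Agent.Lib.Seat77.AzInvB
  Groth.Agent.Lib.Seat77.AzInvC
  Groth.Agent.Lib.Seat77.AzInvE Groth.Agent.Lib.Seat77.AzInvF Groth.Agent.Lib.Seat77.AzInvG
  Groth.Agent.Lib.Seat77.AzInvH
  Groth.Agent.Lib.Seat77.AzInvJ Groth.Agent.Lib.Seat77.AzInvK Groth.Agent.Lib.Seat77.AzInvL
  Groth.Agent.Lib.Seat77.AzInvM Groth.Agent.Lib.Seat77.AzInvN Groth.Agent.Lib.Seat77.AzInvO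

universe u v w w'

section FieldPt

variable (S : Type u) (R : Type v) [CommRing S] [CommRing R] [Algebra S R]
  (lam : R ≃ₐ[S] R) (hlam : ∀ r, lam (lam r) = r)
  (hfix : RInv.IsFixedRing S R lam.toRingEquiv)

include hlam hfix in
/-- at a field-valued point over a branch point, `P ⊗ R` is nonzero and `lam` is the identity
modulo its radical. -/
theorem field_point (q : PrimeSpectrum S)
    (hr : ¬ RInv.IsQuadEtale (Localization.AtPrime q.asIdeal)
      (Localization.AtPrime q.asIdeal ⊗[S] R))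
    (P : Type u) [Field P] [Algebra S P] (hker : RingHom.ker (algebraMap S P) = q.asIdeal) :
    Nontrivial (P ⊗[S] R) ∧
      ∀ c : P ⊗[S] R, lamBC lam P c - c ∈ Ring.jacobson (P ⊗[S] R) := by
  classical
  obtain ⟨𝔔, h𝔔, huniq, hlamQ⟩ :=
    (Groth.Agent.S15587.result S R lam.toRingEquiv (fun r => hlam r) hfix q).mp hr
  have hnt : Nontrivial (P ⊗[S] R) := by
    obtain ⟨W, hW, -, -⟩ := Groth.Agent.Lib.Helper18StdEtaleCover.exists_prime_tensor S P R
      (⊥ : Ideal P) 𝔔.asIdeal (by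
        rw [Ideal.under_def, Ideal.under_def, h𝔔, ← hker]
        rfl)
    by_contra hn
    rw [not_nontrivial_iff_subsingleton] at hn
    exact hW.ne_top (Subsingleton.elim _ _)
  refine ⟨hnt, fun c => ?_⟩
  rw [← Ideal.jacobson_bot, Ideal.jacobson, Ideal.mem_sInf]
  intro M hM
  have hMp : M.IsPrime := hM.2.isPrime
  let ιR : R →+* P ⊗[S] R := (Algebra.TensorProduct.includeRight : R →ₐ[S] P ⊗[S] R).toRingHom
  let 𝔔' : PrimeSpectrum R := ⟨M.comap ιR, Ideal.comap_isPrime _ _⟩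
  have h𝔔' : 𝔔'.asIdeal.comap (algebraMap S R) = q.asIdeal := by
    ext s
    change (1 : P) ⊗ₜ[S] algebraMap S R s ∈ M ↔ s ∈ q.asIdeal
    have h1 : (1 : P) ⊗ₜ[S] algebraMap S R s = algebraMap S P s ⊗ₜ[S] (1 : R) := by
      rw [Algebra.algebraMap_eq_smul_one, Algebra.algebraMap_eq_smul_one, TensorProduct.smul_tmul]
    rw [h1, ← hker, RingHom.mem_ker]
    constructor
    · intro hmem
      by_contra hne
      have h2 : ((algebraMap S P s)⁻¹ ⊗ₜ[S] (1 : R)) * (algebraMap S P s ⊗ₜ[S] (1 : R)) = 1 := by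
        rw [Algebra.TensorProduct.tmul_mul_tmul, inv_mul_cancel₀ hne, mul_one,
          Algebra.TensorProduct.one_def]
      exact hMp.ne_top ((Ideal.eq_top_iff_one _).mpr (h2 ▸ M.mul_mem_left _ hmem))
    · intro h0
      rw [h0, TensorProduct.zero_tmul]
      exact M.zero_mem
  have hQQ : 𝔔' = 𝔔 := huniq 𝔔' h𝔔'
  have hmem : ∀ r : R, (1 : P) ⊗ₜ[S] (lam r - r) ∈ M := by
    intro r
    have h1 : lam r - r ∈ 𝔔'.asIdeal := by rw [hQQ]; exact hlamQ r
    exact h1
  induction c using TensorProduct.induction_on with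
  | zero => simp
  | add x y hx hy =>
    have h1 : lamBC lam P (x + y) - (x + y) = (lamBC lam P x - x) + (lamBC lam P y - y) := by
      rw [map_add]; ring
    rw [h1]
    exact M.add_mem hx hy
  | tmul p r =>
    have h1 : lamBC lam P (p ⊗ₜ[S] r) - p ⊗ₜ[S] r = (p ⊗ₜ[S] (1 : R)) * ((1 : P) ⊗ₜ[S] (lam r - r)) := by
      rw [lamBC_tmul, Algebra.TensorProduct.tmul_mul_tmul, mul_one, one_mul, TensorProduct.tmul_sub]
    rw [h1]
    exact M.mul_mem_left _ (hmem r)

end FieldPt

section Types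

variable (S : Type u) (R : Type v) [CommRing S] [CommRing R] [Algebra S R]
  (lam : R ≃ₐ[S] R) (hlam : ∀ r, lam (lam r) = r)
  (hfix : RInv.IsFixedRing S R lam.toRingEquiv)
  (A : Type w) [Ring A] [Algebra S A] [Algebra R A] [IsScalarTower S R A]
  (t : LamInv R A lam) (n : ℕ) (hn : 0 < n) (hA : AzInv.IsAzumayaDeg R A n)

omit [Algebra S R] in
/-- the set of primes having an étale neighbourhood with a given property is open. -/
theorem isOpen_etNbhd_set (Q : ∀ (B : Type u) [CommRing B] [Algebra S B], Prop) :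
    IsOpen {q : PrimeSpectrum S | ∃ N : EtNbhd S q, Q N.B} := by
  rw [isOpen_iff_forall_mem_open]
  rintro q ⟨N, hN⟩
  haveI := N.etale
  refine ⟨Set.range (PrimeSpectrum.comap (algebraMap S N.B)), ?_, isOpen_range_comap N.B,
    ⟨N.q, N.hq⟩⟩
  rintro _ ⟨p, rfl⟩
  exact ⟨{ B := N.B, etale := N.etale, q := p, hq := rfl }, hN⟩

include hlam hfix hn hA in
/-- every prime has an étale neighbourhood with diagonal or with symplectic matrix units. -/
theorem diag_or_symp_nbhd (h2 : IsUnit (2 : S)) (m : ℕ) (hnm : n = m * 2)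
    (q : PrimeSpectrum S) :
    (∃ N : EtNbhd S q, HasDiagMU lam t n N.B) ∨ (∃ N : EtNbhd S q, HasSympMU lam t m N.B) := by
  obtain ⟨T, _, _, _, _, hF, hq⟩ := exists_strictHenselization_atPrime S q.asIdeal
  have : Module.Flat S T := flat_of_factor' hF
  rcases hasDiagMU_or_hasSympMU S R lam hlam hfix A t n hn hA h2 T with
    hD | ⟨-, m', hnm', hSp⟩
  · left
    obtain ⟨E, _, _, hE, g, hDE⟩ := hasDiagMU_descend lam t n hF hD
    exact exists_etNbhd_of_map q hq (fun B _ _ => HasDiagMU lam t n B) E hE g hDE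
  · right
    have hmm : m' = m := by omega
    subst hmm
    obtain ⟨E, _, _, hE, g, hDE⟩ := hasSympMU_descend lam t hF hSp
    exact exists_etNbhd_of_map q hq (fun B _ _ => HasSympMU lam t m' B) E hE g hDE

include hlam hfix hn hA in
/-- at a branch point the two kinds of neighbourhoods exclude each other. -/
theorem not_diag_and_symp_nbhd (h2 : IsUnit (2 : S)) (m : ℕ) (hnm : n = m * 2)
    (q : PrimeSpectrum S)
    (hr : ¬ RInv.IsQuadEtale (Localization.AtPrime q.asIdeal)
      (Localization.AtPrime q.asIdeal ⊗[S] R))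
    (N₁ : EtNbhd S q) (h₁ : HasDiagMU lam t n N₁.B)
    (N₂ : EtNbhd S q) (h₂ : HasSympMU lam t m N₂.B) : False := by
  classical
  obtain ⟨W, hW, hW₁, hW₂⟩ := Groth.Agent.Lib.Helper18StdEtaleCover.exists_prime_tensor S N₁.B N₂.B
    N₁.q.asIdeal N₂.q.asIdeal (by
      rw [Ideal.under_def, Ideal.under_def]
      have e₁ := congrArg PrimeSpectrum.asIdeal N₁.hq
      have e₂ := congrArg PrimeSpectrum.asIdeal N₂.hq
      exact e₁.trans e₂.symm)
  let E := N₁.B ⊗[S] N₂.B
  let P := W.ResidueField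
  have hker : RingHom.ker (algebraMap S P) = q.asIdeal := by
    rw [IsScalarTower.algebraMap_eq S E P, ← RingHom.comap_ker, Ideal.ker_algebraMap_residueField]
    have e₁ := congrArg PrimeSpectrum.asIdeal N₁.hq
    ext s
    rw [← e₁]
    change algebraMap S E s ∈ W ↔ algebraMap S N₁.B s ∈ N₁.q.asIdeal
    rw [← hW₁]
    change _ ↔ (Algebra.TensorProduct.includeLeft (R := S) (S := S) (A := N₁.B) (B := N₂.B)
      (algebraMap S N₁.B s)) ∈ W
    rw [AlgHom.commutes]
  obtain ⟨hnt, hramP⟩ := field_point S R lam hlam hfix q hr P hker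
  have h2P : IsUnit (2 : P ⊗[S] R) := by
    rw [← map_ofNat (algebraMap S (P ⊗[S] R)) 2]
    exact h2.map _
  let φ₁ : N₁.B →ₐ[S] P := (IsScalarTower.toAlgHom S E P).comp Algebra.TensorProduct.includeLeft
  let φ₂ : N₂.B →ₐ[S] P := (IsScalarTower.toAlgHom S E P).comp Algebra.TensorProduct.includeRight
  have hD := HasDiagMU.map lam t n φ₁ h₁
  have hS := HasSympMU.map lam t φ₂ h₂
  haveI := hA.1
  subst hnm
  have hm : 0 < m := by omega
  exact diag_symp_false lam t t hramP h2P hn hm Nat.one_pos Nat.one_pos hA.2 hA.2 hD hS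
    ⟨AlgEquiv.refl, fun _ _ => rfl, fun _ => rfl⟩

omit [Algebra S R] in
/-- an idempotent lying in no prime ideal is `1`. -/
theorem idem_eq_one {B : Type*} [CommRing B] (x : B) (hx : IsIdempotentElem x)
    (h : ∀ p : PrimeSpectrum B, x ∉ p.asIdeal) : x = 1 := by
  have hu : IsUnit x := by
    by_contra hnu
    obtain ⟨M, hM, hxM⟩ := exists_max_ideal_of_mem_nonunits (mem_nonunits_iff.mpr hnu)
    exact h ⟨M, hM.isPrime⟩ hxM
  obtain ⟨y, hy⟩ := hu.exists_left_inv
  calc x = (y * x) * x := by rw [hy, one_mul]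
    _ = y * (x * x) := by ring
    _ = 1 := by rw [hx.eq, hy]

include hlam hfix hn hA in
/-- the idempotent separating the orthogonal and the symplectic locus. -/
theorem exists_idem (h2 : IsUnit (2 : S))
    (hr : ∀ p : PrimeSpectrum S, ¬ RInv.IsQuadEtale (Localization.AtPrime p.asIdeal)
      (Localization.AtPrime p.asIdeal ⊗[S] R))
    (m : ℕ) (hnm : n = m * 2) :
    ∃ ε : S, IsIdempotentElem ε ∧
      (∀ q : PrimeSpectrum S, ε ∉ q.asIdeal →
        ∃ N : EtNbhd S q, HasDiagMU lam t n N.B ∧ algebraMap S N.B ε = 1) ∧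
      (∀ q : PrimeSpectrum S, ε ∈ q.asIdeal →
        ∃ N : EtNbhd S q, HasSympMU lam t m N.B ∧ algebraMap S N.B ε = 0) := by
  classical
  obtain ⟨Up, hUp⟩ : ∃ Up : Set (PrimeSpectrum S),
      Up = {q | ∃ N : EtNbhd S q, HasDiagMU lam t n N.B} := ⟨_, rfl⟩
  obtain ⟨Um, hUm⟩ : ∃ Um : Set (PrimeSpectrum S),
      Um = {q | ∃ N : EtNbhd S q, HasSympMU lam t m N.B} := ⟨_, rfl⟩
  have hcov : ∀ q, q ∈ Up ∨ q ∈ Um := by
    intro q
    rw [hUp, hUm]
    exact diag_or_symp_nbhd S R lam hlam hfix A t n hn hA h2 m hnm q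
  have hdis : ∀ q, q ∈ Up → q ∈ Um → False := by
    intro q h₁ h₂
    rw [hUp] at h₁
    rw [hUm] at h₂
    obtain ⟨N₁, h₁⟩ := h₁
    obtain ⟨N₂, h₂⟩ := h₂
    exact not_diag_and_symp_nbhd S R lam hlam hfix A t n hn hA h2 m hnm q (hr q) N₁ h₁ N₂ h₂
  have hcompl : Upᶜ = Um := by
    ext q
    constructor
    · intro hq
      exact (hcov q).resolve_left hq
    · intro hq hq'
      exact hdis q hq' hq
  have hoU : IsOpen Up := by
    rw [hUp]
    exact isOpen_etNbhd_set S (fun B _ _ => HasDiagMU lam t n B)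
  have hoM : IsOpen Um := by
    rw [hUm]
    exact isOpen_etNbhd_set S (fun B _ _ => HasSympMU lam t m B)
  have hclopen : IsClopen Up := ⟨by rw [← isOpen_compl_iff, hcompl]; exact hoM, hoU⟩
  obtain ⟨ε, hε, hUε⟩ := PrimeSpectrum.isClopen_iff.mp hclopen
  have hmemU : ∀ q : PrimeSpectrum S, q ∈ Up ↔ ε ∉ q.asIdeal := by
    intro q
    rw [hUε]
    rfl
  have hUpN : ∀ (q : PrimeSpectrum S) (N : EtNbhd S q), HasDiagMU lam t n N.B →
      ∀ p : PrimeSpectrum N.B, PrimeSpectrum.comap (algebraMap S N.B) p ∈ Up := by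
    intro q N hN p
    rw [hUp]
    exact ⟨{ B := N.B, etale := N.etale, q := p, hq := rfl }, hN⟩
  have hUmN : ∀ (q : PrimeSpectrum S) (N : EtNbhd S q), HasSympMU lam t m N.B →
      ∀ p : PrimeSpectrum N.B, PrimeSpectrum.comap (algebraMap S N.B) p ∈ Um := by
    intro q N hN p
    rw [hUm]
    exact ⟨{ B := N.B, etale := N.etale, q := p, hq := rfl }, hN⟩
  refine ⟨ε, hε, fun q hq => ?_, fun q hq => ?_⟩
  · have hqU := (hmemU q).mpr hq
    rw [hUp] at hqU
    obtain ⟨N, hN⟩ := hqU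
    refine ⟨N, hN, ?_⟩
    apply idem_eq_one _ (hε.map (algebraMap S N.B))
    intro p hp
    exact (hmemU _).mp (hUpN q N hN p) hp
  · have hqU : q ∉ Up := fun h => (hmemU q).mp h hq
    have hqM := (hcov q).resolve_left hqU
    rw [hUm] at hqM
    obtain ⟨N, hN⟩ := hqM
    refine ⟨N, hN, ?_⟩
    have h1 : 1 - algebraMap S N.B ε = 1 := by
      apply idem_eq_one _ (hε.map (algebraMap S N.B)).one_sub
      intro p hp
      have hnp : PrimeSpectrum.comap (algebraMap S N.B) p ∉ Up := fun h =>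
        hdis _ h (hUmN q N hN p)
      have hεp : algebraMap S N.B ε ∈ p.asIdeal := by
        by_contra hc
        exact hnp ((hmemU _).mpr hc)
      refine p.2.ne_top ((Ideal.eq_top_iff_one _).mpr ?_)
      have := p.asIdeal.add_mem hp hεp
      rwa [sub_add_cancel] at this
    linear_combination -h1

end Types

section Target

variable {S : Type u} {R : Type v} [CommRing S] [CommRing R] [Algebra S R]
  (lam : R ≃ₐ[S] R) (hlam : ∀ r, lam (lam r) = r)

/-- base change of a conjugated involution. -/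
theorem conj_bc {A : Type w} [Ring A] [Algebra S A] [Algebra R A] [IsScalarTower S R A]
    (T : LamInv R A lam) (w : Aˣ) (e : R) (hw : T ↑w = e • (↑w : A)) (he : lam e * e = 1)
    (B : Type u) [CommRing B] [Algebra S B] (x : B ⊗[S] A) :
    (T.conj w e hw he).bc S lam B x =
      ((1 : B) ⊗ₜ[S] (↑w : A)) * T.bc S lam B x * ((1 : B) ⊗ₜ[S] (↑w⁻¹ : A)) := by
  induction x using TensorProduct.induction_on with
  | zero => simp
  | add x y hx hy => rw [map_add, map_add, hx, hy, mul_add, add_mul]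
  | tmul b a =>
    rw [LamInv.bc_tmul, LamInv.bc_tmul, LamInv.conj_apply, Algebra.TensorProduct.tmul_mul_tmul,
      Algebra.TensorProduct.tmul_mul_tmul, one_mul, mul_one]

variable (R) (m : ℕ) (ε : S)

/-- `ε • 1 + (1 - ε) • J`. -/
noncomputable def wmat : Matrix (Fin (m * 2)) (Fin (m * 2)) R :=
  algebraMap S R ε • (1 : Matrix (Fin (m * 2)) (Fin (m * 2)) R) +
    (1 - algebraMap S R ε) • Jstd R m

/-- `ε • 1 - (1 - ε) • J`. -/
noncomputable def winv : Matrix (Fin (m * 2)) (Fin (m * 2)) R :=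
  algebraMap S R ε • (1 : Matrix (Fin (m * 2)) (Fin (m * 2)) R) -
    (1 - algebraMap S R ε) • Jstd R m

variable {ε}

theorem wmat_mul_winv (hε : IsIdempotentElem ε) : wmat R m ε * winv R m ε = 1 := by
  obtain ⟨a, ha⟩ : ∃ a : R, a = algebraMap S R ε := ⟨_, rfl⟩
  have haa : a * a = a := by rw [ha, ← map_mul, hε.eq]
  have hab : a * (1 - a) = 0 := by rw [mul_sub, mul_one, haa, sub_self]
  have hbb : (1 - a) * (1 - a) = 1 - a := by
    calc (1 - a) * (1 - a) = 1 - a - (a * (1 - a)) := by ring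
      _ = 1 - a := by rw [hab, sub_zero]
  unfold wmat winv
  rw [← ha, add_mul, mul_sub, mul_sub, smul_mul_smul_comm, smul_mul_smul_comm, smul_mul_smul_comm,
    smul_mul_smul_comm, Jstd_mul_Jstd, mul_one, one_mul, mul_one, haa, hab, mul_comm (1 - a) a,
    hab, hbb, zero_smul, sub_zero, smul_neg, zero_sub, neg_neg, ← add_smul,
    add_sub_cancel, one_smul]

theorem winv_mul_wmat (hε : IsIdempotentElem ε) : winv R m ε * wmat R m ε = 1 :=
  mul_eq_one_comm.mp (wmat_mul_winv R m hε)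

/-- the global unit `w`. -/
noncomputable def wunit (hε : IsIdempotentElem ε) : (Matrix (Fin (m * 2)) (Fin (m * 2)) R)ˣ :=
  ⟨wmat R m ε, winv R m ε, wmat_mul_winv R m hε, winv_mul_wmat R m hε⟩

variable {R}

theorem transpose_Jstd :
    LamInv.transpose lam (Fin (m * 2)) hlam (Jstd R m) = -Jstd R m := by
  ext i j
  rw [LamInv.transpose_apply, Jstd_apply, Matrix.neg_apply, Jstd_apply]
  by_cases h : j = swp m i
  · have h' : i = swp m j := by rw [h, swp_swp]
    rw [if_pos h, if_pos h', map_intCast, h, sgn_swp]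
    push_cast
    ring
  · have h' : ¬ i = swp m j := fun hh => h (by rw [hh, swp_swp])
    rw [if_neg h, if_neg h', map_zero, neg_zero]

theorem transpose_wmat (hε : IsIdempotentElem ε) :
    LamInv.transpose lam (Fin (m * 2)) hlam (wmat R m ε) =
      (2 * algebraMap S R ε - 1) • wmat R m ε := by
  obtain ⟨a, ha⟩ : ∃ a : R, a = algebraMap S R ε := ⟨_, rfl⟩
  have haa : a * a = a := by rw [ha, ← map_mul, hε.eq]
  have hla : lam a = a := by rw [ha, lam.commutes]
  unfold wmat
  rw [← ha, LamInv.map_add, LamInv.map_smul, LamInv.map_smul, LamInv.map_one, transpose_Jstd,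
    map_sub, map_one, hla, smul_add, smul_smul, smul_smul, smul_neg]
  have h1 : (2 * a - 1) * a = a := by
    calc (2 * a - 1) * a = 2 * (a * a) - a := by ring
      _ = a := by rw [haa]; ring
  have h2 : (2 * a - 1) * (1 - a) = -(1 - a) := by
    calc (2 * a - 1) * (1 - a) = 3 * a - 2 * (a * a) - 1 := by ring
      _ = -(1 - a) := by rw [haa]; ring
  rw [h1, h2, neg_smul]

theorem lam_e_mul_e (hε : IsIdempotentElem ε) :
    lam (2 * algebraMap S R ε - 1) * (2 * algebraMap S R ε - 1) = 1 := by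
  obtain ⟨a, ha⟩ : ∃ a : R, a = algebraMap S R ε := ⟨_, rfl⟩
  have haa : a * a = a := by rw [ha, ← map_mul, hε.eq]
  have hla : lam a = a := by rw [ha, lam.commutes]
  rw [← ha, map_sub, map_mul, map_one, map_ofNat, hla]
  calc (2 * a - 1) * (2 * a - 1) = 4 * (a * a) - 4 * a + 1 := by ring
    _ = 1 := by rw [haa]; ring

/-- the target: `M_{2m}(R)` with `x ↦ w (lam-transpose x) w⁻¹`. -/
noncomputable def target (hε : IsIdempotentElem ε) :
    LamInv R (Matrix (Fin (m * 2)) (Fin (m * 2)) R) lam :=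
  (LamInv.transpose lam (Fin (m * 2)) hlam).conj (wunit R m hε) (2 * algebraMap S R ε - 1)
    (transpose_wmat lam hlam m hε) (lam_e_mul_e lam hε)

variable (B : Type u) [CommRing B] [Algebra S B]

omit [CommRing R] [Algebra S R] in
theorem smul_tensor_eq (R' : Type*) [Ring R'] [Algebra S R'] (s : S) (z : B ⊗[S] R') :
    s • z = algebraMap S B s • z := (algebraMap_smul B s z).symm

theorem one_tmul_wmat_of_one (hB : algebraMap S B ε = 1) :
    (1 : B) ⊗ₜ[S] wmat R m ε = 1 ∧ (1 : B) ⊗ₜ[S] winv R m ε = 1 := by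
  have h1 : ∀ M : Matrix (Fin (m * 2)) (Fin (m * 2)) R,
      (1 : B) ⊗ₜ[S] (algebraMap S R ε • M) = (1 : B) ⊗ₜ[S] M := by
    intro M
    rw [algebraMap_smul, TensorProduct.tmul_smul, smul_tensor_eq, hB, one_smul]
  have h2 : ∀ M : Matrix (Fin (m * 2)) (Fin (m * 2)) R,
      (1 : B) ⊗ₜ[S] ((1 - algebraMap S R ε) • M) = 0 := by
    intro M
    rw [← map_one (algebraMap S R), ← map_sub, algebraMap_smul, TensorProduct.tmul_smul,
      smul_tensor_eq, map_sub, map_one, hB, sub_self, zero_smul]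
  unfold wmat winv
  rw [TensorProduct.tmul_add, TensorProduct.tmul_sub, h1, h2, add_zero, sub_zero]
  exact ⟨rfl, rfl⟩

theorem one_tmul_wmat_of_zero (hB : algebraMap S B ε = 0) :
    (1 : B) ⊗ₜ[S] wmat R m ε = (1 : B) ⊗ₜ[S] Jstd R m ∧
      (1 : B) ⊗ₜ[S] winv R m ε = (1 : B) ⊗ₜ[S] (-Jstd R m) := by
  have h1 : ∀ M : Matrix (Fin (m * 2)) (Fin (m * 2)) R,
      (1 : B) ⊗ₜ[S] (algebraMap S R ε • M) = 0 := by
    intro M
    rw [algebraMap_smul, TensorProduct.tmul_smul, smul_tensor_eq, hB, zero_smul]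
  have h2 : ∀ M : Matrix (Fin (m * 2)) (Fin (m * 2)) R,
      (1 : B) ⊗ₜ[S] ((1 - algebraMap S R ε) • M) = (1 : B) ⊗ₜ[S] M := by
    intro M
    rw [← map_one (algebraMap S R), ← map_sub, algebraMap_smul, TensorProduct.tmul_smul,
      smul_tensor_eq, map_sub, map_one, hB, sub_zero, one_smul]
  unfold wmat winv
  rw [TensorProduct.tmul_add, TensorProduct.tmul_sub, h1, h2, zero_add, zero_sub,
    TensorProduct.tmul_neg]
  exact ⟨rfl, rfl⟩

omit [CommRing B] [Algebra S B] in
theorem single_family (B : Type u) [CommRing B] [Algebra S B] :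
    (∀ a b c d : Fin (m * 2), ((1 : B) ⊗ₜ[S] Matrix.single a b (1 : R)) *
        ((1 : B) ⊗ₜ[S] Matrix.single c d (1 : R)) =
      if b = c then (1 : B) ⊗ₜ[S] Matrix.single a d (1 : R) else 0) ∧
    ∑ a : Fin (m * 2), (1 : B) ⊗ₜ[S] Matrix.single a a (1 : R) = 1 := by
  classical
  constructor
  · intro a b c d
    rw [Algebra.TensorProduct.tmul_mul_tmul, one_mul]
    by_cases h : b = c
    · subst h
      rw [if_pos rfl, Matrix.single_mul_single_same, one_mul]
    · rw [if_neg h, Matrix.single_mul_single_of_ne _ _ _ _ h, TensorProduct.tmul_zero]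
  · rw [← TensorProduct.tmul_sum, Matrix.sum_single_one, Algebra.TensorProduct.one_def]

theorem transpose_single (a b : Fin (m * 2)) :
    LamInv.transpose lam (Fin (m * 2)) hlam (Matrix.single a b (1 : R)) =
      Matrix.single b a (1 : R) := by
  ext i j
  rw [LamInv.transpose_apply]
  by_cases h : b = i ∧ a = j
  · obtain ⟨rfl, rfl⟩ := h
    simp
  · have h' : ¬ (a = j ∧ b = i) := fun hh => h ⟨hh.2, hh.1⟩
    rw [Matrix.single_apply, if_neg h', Matrix.single_apply, if_neg h, map_zero]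

/-- where `ε = 1`, the target has diagonal (even symmetric) matrix units. -/
theorem hasDiagMU_target (hε : IsIdempotentElem ε) (hB : algebraMap S B ε = 1) :
    HasDiagMU lam (target lam hlam m hε) (m * 2) B := by
  classical
  obtain ⟨hmu, hsum⟩ := single_family (S := S) (R := R) m B
  obtain ⟨hw1, hw2⟩ := one_tmul_wmat_of_one (R := R) m B hB
  refine ⟨fun a b => (1 : B) ⊗ₜ[S] Matrix.single a b (1 : R), fun _ => 1, fun _ => 1, hmu, hsum,
    fun _ => one_mul 1, fun a b => ?_⟩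
  refine (conj_bc lam (LamInv.transpose lam (Fin (m * 2)) hlam) (wunit R m hε) _
    (transpose_wmat lam hlam m hε) (lam_e_mul_e lam hε) B _).trans ?_
  rw [LamInv.bc_tmul, transpose_single, one_mul, one_smul]
  change (1 : B) ⊗ₜ[S] wmat R m ε * _ * (1 : B) ⊗ₜ[S] winv R m ε = _
  rw [hw1, hw2, one_mul, mul_one]

/-- where `ε = 0`, the target has symplectic matrix units. -/
theorem hasSympMU_target (hε : IsIdempotentElem ε) (hB : algebraMap S B ε = 0) :
    HasSympMU lam (target lam hlam m hε) m B := by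
  classical
  obtain ⟨hmu, hsum⟩ := single_family (S := S) (R := R) m B
  obtain ⟨hw1, hw2⟩ := one_tmul_wmat_of_zero (R := R) m B hB
  refine ⟨fun a b => (1 : B) ⊗ₜ[S] Matrix.single a b (1 : R), hmu, hsum, fun a b => ?_⟩
  refine (conj_bc lam (LamInv.transpose lam (Fin (m * 2)) hlam) (wunit R m hε) _
    (transpose_wmat lam hlam m hε) (lam_e_mul_e lam hε) B _).trans ?_
  rw [LamInv.bc_tmul, transpose_single]
  change (1 : B) ⊗ₜ[S] wmat R m ε * _ * (1 : B) ⊗ₜ[S] winv R m ε = _
  rw [hw1, hw2, Algebra.TensorProduct.tmul_mul_tmul, Algebra.TensorProduct.tmul_mul_tmul, one_mul,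
    one_mul, Jstd_single_Jstd, Int.cast_smul_eq_zsmul, TensorProduct.tmul_smul]

end Target

section Main

variable (S : Type u) (R : Type v) [CommRing S] [CommRing R] [Algebra S R]
  (lam : R ≃ₐ[S] R) (hlam : ∀ r, lam (lam r) = r)
  (hfix : RInv.IsFixedRing S R lam.toRingEquiv)
  (hsq : ∀ (S₁ : Type u) [CommRing S₁] [Algebra S S₁] [Algebra.Etale S S₁] (x : S₁ˣ),
    ∃ (S₂ : Type u) (_ : CommRing S₂) (_ : Algebra S₁ S₂) (_ : Algebra.Etale S₁ S₂)
      (_ : Module.FaithfullyFlat S₁ S₂) (y : S₂), y * y = algebraMap S₁ S₂ ↑x)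
  (A : Type w) [Ring A] [Algebra S A] [Algebra R A] [IsScalarTower S R A]
  (t : LamInv R A lam)

include hfix hsq in
/-- **Ordinary involutions, everywhere ramified case, even degree.** -/
theorem ordinary_ramified_even (h2 : IsUnit (2 : S))
    (hr : ∀ p : PrimeSpectrum S, ¬ RInv.IsQuadEtale (Localization.AtPrime p.asIdeal)
      (Localization.AtPrime p.asIdeal ⊗[S] R))
    (m : ℕ) (hm : 0 < m) (hA : AzInv.IsAzumayaDeg R A (m * 2)) :
    ∃ (w : (Matrix (Fin (m * 2)) (Fin (m * 2)) R)ˣ) (e : R)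
      (hw : AzInv.LamInv.transpose lam (Fin (m * 2)) hlam
        (↑w : Matrix (Fin (m * 2)) (Fin (m * 2)) R) =
          e • (↑w : Matrix (Fin (m * 2)) (Fin (m * 2)) R))
      (he : lam e * e = 1),
      AzInv.LocIsoEt S lam t ((AzInv.LamInv.transpose lam (Fin (m * 2)) hlam).conj w e hw he) := by
  have hn : 0 < m * 2 := Nat.mul_pos hm (by norm_num)
  obtain ⟨ε, hε, hpos, hneg⟩ := exists_idem S R lam hlam hfix A t (m * 2) hn hA h2 hr m rfl
  refine ⟨wunit R m hε, 2 * algebraMap S R ε - 1, transpose_wmat lam hlam m hε,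
    lam_e_mul_e lam hε, ?_⟩
  change LocIsoEt S lam t (target lam hlam m hε)
  apply locIsoEt_of_local
  intro q
  by_cases hq : ε ∈ q.asIdeal
  · obtain ⟨N, hN, hB⟩ := hneg q hq
    exact ⟨N, isoOver_of_hasPatMU lam t _ (m * 2) hn hA (isAzumayaDeg_matrix (m * 2) hn) N.B
      (swp_swp m) (HasSympMU.toPat lam t hN)
      (HasSympMU.toPat lam _ (hasSympMU_target lam hlam m N.B hε hB))⟩
  · obtain ⟨N, hN, hB⟩ := hpos q hq
    exact exists_etNbhd_isoOver_of_diag lam t _ hsq (m * 2) hn hA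
      (isAzumayaDeg_matrix (m * 2) hn) q N ⟨hN, hasDiagMU_target lam hlam m N.B hε hB⟩

include hfix hsq in
/-- **Ordinary involutions, neutral cases** (`n` odd or `R` quadratic étale): `w = 1`. -/
theorem ordinary_neutral (n : ℕ) (hn : 0 < n) (hA : AzInv.IsAzumayaDeg R A n)
    (hcase : Odd n ∨ RInv.IsQuadEtale S R) :
    ∃ (w : (Matrix (Fin n) (Fin n) R)ˣ) (e : R)
      (hw : AzInv.LamInv.transpose lam (Fin n) hlam (↑w : Matrix (Fin n) (Fin n) R) =
          e • (↑w : Matrix (Fin n) (Fin n) R))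
      (he : lam e * e = 1),
      AzInv.LocIsoEt S lam t ((AzInv.LamInv.transpose lam (Fin n) hlam).conj w e hw he) := by
  refine ⟨1, 1, by rw [Units.val_one, LamInv.map_one, one_smul], by rw [map_one, one_mul], ?_⟩
  apply locIsoEt_of_local
  intro q
  exact exists_etNbhd_isoOver_neutral S R lam hlam hfix hsq n hn A _ hA
    (isAzumayaDeg_matrix n hn) t _ hcase q

end Main

end Groth.Agent.Lib.Seat77.AzInvP
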