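import Mathlib
import Groth.Agent.Lib.Helper7AzFib
import Groth.Agent.Lib.Seat77AzGlob
import Groth.Agent.Lib.Seat77AzEnd

/-!
# An Azumaya algebra of rank `n²` has split `n`-th tensor power (helper77)

Assembly of the Saltman-type argument: `E = A^{⊗ n} · s` for the global antisymmetrizer `s`.
-/

set_option autoImplicit false
universe u

namespace Groth.Agent.Lib.Seat77.AzMain

open TensorProduct PiTensorProduct Matrix
open Groth.Agent.Lib.Seat77.AzKron Groth.Agent.Lib.Seat77.AzTPow Groth.Agent.Lib.Seat77.AzTPow2
  Groth.Agent.Lib.Seat77.AzCmp Groth.Agent.Lib.Seat77.AzLoc Groth.Agent.Lib.Seat77.AzGlob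
  Groth.Agent.Lib.Seat77.AzEnd

section Family

variable {R : Type u} [CommRing R]

/-- bijectivity can be checked after base change to a jointly faithfully flat family -/
theorem bijective_of_ff_family {M N : Type*} [AddCommGroup M] [Module R M] [AddCommGroup N]
    [Module R N] (f : M →ₗ[R] N)
    (H : ∀ (P : Ideal R) [P.IsMaximal], ∃ (S : Type u) (_ : CommRing S) (_ : Algebra R S)
      (_ : Algebra (Localization.AtPrime P) S) (_ : IsScalarTower R (Localization.AtPrime P) S)
      (_ : Module.FaithfullyFlat (Localization.AtPrime P) S), Function.Bijective (f.lTensor S)) :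
    Function.Bijective f := by
  apply Groth.Agent.Lib.Helper7.AzFib.bijective_of_lTensor_localization_maximal
  intro P hP
  obtain ⟨S, _, _, _, _, _, hS⟩ := H P
  let cM := TensorProduct.AlgebraTensorModule.cancelBaseChange R (Localization.AtPrime P) S S M
  let cN := TensorProduct.AlgebraTensorModule.cancelBaseChange R (Localization.AtPrime P) S S N
  have key : ∀ z, cN (((f.baseChange (Localization.AtPrime P)).lTensor S) z) = f.lTensor S (cM z) := by
    intro z
    induction z using TensorProduct.induction_on with
    | zero => simp
    | tmul t y =>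
      induction y using TensorProduct.induction_on with
      | zero => simp
      | tmul r' m => simp [cM, cN]
      | add y y' hy hy' =>
        rw [TensorProduct.tmul_add, map_add, map_add, map_add, map_add, hy, hy']
    | add z z' hz hz' => rw [map_add, map_add, map_add, map_add, hz, hz']
  have h1 : Function.Bijective ((f.baseChange (Localization.AtPrime P)).lTensor S) := by
    have hfun : ⇑((f.baseChange (Localization.AtPrime P)).lTensor S) =
        ⇑cN.symm ∘ ⇑(f.lTensor S) ∘ ⇑cM := by
      funext z
      rw [Function.comp_apply, Function.comp_apply, ← key, LinearEquiv.symm_apply_apply]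
    rw [hfun]
    exact cN.symm.bijective.comp (hS.comp cM.bijective)
  have h2 := (Module.FaithfullyFlat.lTensor_bijective_iff_bijective (Localization.AtPrime P) S
    (f.baseChange (Localization.AtPrime P))).mp h1
  exact h2

/-- projectivity of a finitely presented module can be checked after base change to a jointly
faithfully flat family -/
theorem projective_of_ff_family (Q : Type*) [AddCommGroup Q] [Module R Q]
    [Module.FinitePresentation R Q]
    (H : ∀ (P : Ideal R) [P.IsMaximal], ∃ (S : Type u) (_ : CommRing S) (_ : Algebra R S)
      (_ : Algebra (Localization.AtPrime P) S) (_ : IsScalarTower R (Localization.AtPrime P) S)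
      (_ : Module.FaithfullyFlat (Localization.AtPrime P) S), Module.Projective S (S ⊗[R] Q)) :
    Module.Projective R Q := by
  apply Module.projective_of_localization_maximal' (fun P _ => Localization.AtPrime P)
    (fun P _ => Localization.AtPrime P ⊗[R] Q)
    (fun P _ => TensorProduct.mk R (Localization.AtPrime P) Q 1)
  intro P hP
  obtain ⟨S, _, _, _, _, _, hS⟩ := H P
  let c := TensorProduct.AlgebraTensorModule.cancelBaseChange R (Localization.AtPrime P) S S Q
  haveI : Module.Projective S (S ⊗[Localization.AtPrime P] (Localization.AtPrime P ⊗[R] Q)) :=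
    Module.Projective.of_equiv c.symm
  exact (Groth.Agent.Lib.LeadAzumaya.finite_projective_of_faithfullyFlat_baseChange S
    (Localization.AtPrime P ⊗[R] Q)).2

end Family

section Main

variable (R : Type u) [CommRing R] (A : Type u) [Ring A] [Algebra R A] [IsAzumaya R A]

set_option backward.isDefEq.respectTransparency false in
theorem main_pos (n : ℕ) (hn : 0 < n)
    (hrk : ∀ p : PrimeSpectrum R, Module.rankAtStalk (R := R) A p = n ^ 2) :
    ∃ (E : Type u) (_ : AddCommGroup E) (_ : Module R E), Module.Finite R E ∧
      Module.Projective R E ∧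
      (∀ p : PrimeSpectrum R, Module.rankAtStalk (R := R) E p = n ^ n) ∧
      Nonempty ((⨂[R] _ : Fin n, A) ≃ₐ[R] Module.End R E) := by
  classical
  have hL : ∀ p : PrimeSpectrum R, Nonempty (LocSplit R A n p.asIdeal) :=
    fun p => exists_locSplit R A n hn p.asIdeal (hrk p)
  let L : ∀ p : PrimeSpectrum R, LocSplit R A n p.asIdeal := fun p => (hL p).some
  obtain ⟨s, hs⟩ := exists_global L hn
  have hAzB : IsAzumaya R (⨂[R] _ : Fin n, A) := isAzumaya_tpow R A n
  -- the splitting data at each prime
  have hflat : ∀ p : PrimeSpectrum R, Module.Flat R (L p).S := fun p =>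
    Module.Flat.trans R (Localization.AtPrime p.asIdeal) (L p).S
  let Φ : ∀ p : PrimeSpectrum R,
      ((L p).S ⊗[R] (⨂[R] _ : Fin n, A)) ≃ₐ[(L p).S] Matrix (Idx n) (Idx n) (L p).S := fun p =>
    AlgEquiv.ofBijective (extT (tpowRep (L p).ρ)) (extT_tpowRep_bijective hn _ (L p).split)
  have hΦ : ∀ p, Φ p ((1 : (L p).S) ⊗ₜ[R] s) = alt (L p).S n := by
    intro p
    show extT (tpowRep (L p).ρ) ((1 : (L p).S) ⊗ₜ[R] s) = _
    rw [extT_tmul, one_smul, hs p]
  -- finiteness
  have hfinE : Module.Finite R (idealE (R := R) s) := Module.Finite.range _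
  -- projectivity of the quotient
  have hfpQ : Module.FinitePresentation R ((⨂[R] _ : Fin n, A) ⧸ idealE (R := R) s) := by
    have : Module.FinitePresentation R (⨂[R] _ : Fin n, A) :=
      Module.finitePresentation_of_projective R _
    refine Module.finitePresentation_of_surjective (idealE (R := R) s).mkQ
      (Submodule.mkQ_surjective _) ?_
    rw [Submodule.ker_mkQ]
    exact Module.Finite.iff_fg.mp hfinE
  have hprojQ : Module.Projective R ((⨂[R] _ : Fin n, A) ⧸ idealE (R := R) s) := by
    apply projective_of_ff_family
    intro P hP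
    let p : PrimeSpectrum R := ⟨P, hP.isPrime⟩
    haveI := hflat p
    exact ⟨(L p).S, inferInstance, inferInstance, inferInstance, inferInstance, inferInstance,
      projective_tensor_quotient s (Φ p) (hΦ p)⟩
  have hprojE : Module.Projective R (idealE (R := R) s) := by
    obtain ⟨τ, hτ⟩ := Module.projective_lifting_property (idealE (R := R) s).mkQ LinearMap.id
      (Submodule.mkQ_surjective _)
    have hmem : ∀ b, b - τ ((idealE (R := R) s).mkQ b) ∈ idealE (R := R) s := by
      intro b
      have h0 : b - τ ((idealE (R := R) s).mkQ b) ∈ LinearMap.ker (idealE (R := R) s).mkQ := by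
        rw [LinearMap.mem_ker, map_sub]
        have := LinearMap.congr_fun hτ ((idealE (R := R) s).mkQ b)
        rw [LinearMap.comp_apply, LinearMap.id_apply] at this
        rw [this, sub_self]
      rwa [Submodule.ker_mkQ] at h0
    let r : (⨂[R] _ : Fin n, A) →ₗ[R] idealE (R := R) s :=
      (LinearMap.id - τ ∘ₗ (idealE (R := R) s).mkQ).codRestrict _ (fun b => hmem b)
    refine Module.Projective.of_split (idealE (R := R) s).subtype r ?_
    apply LinearMap.ext
    intro x
    apply Subtype.ext
    show (x : ⨂[R] _ : Fin n, A) - τ ((idealE (R := R) s).mkQ x) = x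
    have : (idealE (R := R) s).mkQ (x : ⨂[R] _ : Fin n, A) = 0 := by
      rw [Submodule.mkQ_apply, Submodule.Quotient.mk_eq_zero]
      exact x.2
    rw [this, map_zero, sub_zero]
  refine ⟨idealE (R := R) s, inferInstance, inferInstance, hfinE, hprojE, ?_, ?_⟩
  · -- rank
    intro p
    haveI := hflat p
    rw [Module.rankAtStalk_eq_finrank_tensorProduct]
    haveI : Module.Free (Localization.AtPrime p.asIdeal)
        (Localization.AtPrime p.asIdeal ⊗[R] (idealE (R := R) s)) :=
      Module.free_of_flat_of_isLocalRing
    have h1 := Module.finrank_baseChange (R := (L p).S) (S := Localization.AtPrime p.asIdeal)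
      (M' := Localization.AtPrime p.asIdeal ⊗[R] (idealE (R := R) s))
    rw [← h1]
    let c := TensorProduct.AlgebraTensorModule.cancelBaseChange R (Localization.AtPrime p.asIdeal)
      (L p).S (L p).S (idealE (R := R) s)
    rw [c.finrank_eq]
    exact finrank_tensor_idealE s (Φ p) (hΦ p)
  · -- the algebra isomorphism
    have hbij : Function.Bijective (actE (R := R) s).toLinearMap := by
      refine @bijective_of_ff_family R _ (⨂[R] _ : Fin n, A) (Module.End R (idealE (R := R) s))
        _ _ _ _ (actE (R := R) s).toLinearMap ?_
      intro P hP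
      let p : PrimeSpectrum R := ⟨P, hP.isPrime⟩
      haveI := hflat p
      refine ⟨(L p).S, inferInstance, inferInstance, inferInstance, inferInstance, inferInstance,
        ?_⟩
      have h1 := actS_bijective s (Φ p) (hΦ p)
      have h2 := Groth.Agent.Lib.LeadAzumaya.tensorProductEnd_bijective (R := R) (L p).S
        (idealE (R := R) s)
      have h3 : Function.Bijective ((actE (R := R) s).toLinearMap.baseChange (L p).S) := by
        have hcomp : ⇑(actS (R := R) (S := (L p).S) s) =
            ⇑(LinearMap.tensorProductEnd R (L p).S (idealE (R := R) s)) ∘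
              ⇑((actE (R := R) s).toLinearMap.baseChange (L p).S) := rfl
        rw [hcomp] at h1
        exact (Function.Bijective.of_comp_iff' h2 _).mp h1
      exact h3
    exact ⟨AlgEquiv.ofBijective (actE (R := R) s) hbij⟩

end Main

end Groth.Agent.Lib.Seat77.AzMain
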