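import Mathlib
import Groth.Agent.Lib.Seat77AzMain

/-!
# S13796: the `n`-th tensor power of an Azumaya algebra of rank `n²` is split (helper77)
-/

set_option autoImplicit false
universe u

namespace Groth.Agent.Lib.Seat77.AzMain

open TensorProduct PiTensorProduct

theorem rankAtStalk_pos_of_faithful {R : Type u} [CommRing R] (M : Type*) [AddCommGroup M]
    [Module R M] [Module.Finite R M] [Module.Projective R M] [FaithfulSMul R M]
    (q : PrimeSpectrum R) : 0 < Module.rankAtStalk M q := by
  rw [Module.rankAtStalk_pos_iff_mem_support, Module.support_eq_zeroLocus,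
    Module.annihilator_eq_bot.mpr inferInstance]
  simp

theorem main (R : Type u) [CommRing R] (A : Type u) [Ring A] [Algebra R A]
    [IsAzumaya R A] (n : ℕ)
    (hrk : ∀ p : PrimeSpectrum R, Module.rankAtStalk (R := R) A p = n ^ 2) :
    ∃ (E : Type u) (_ : AddCommGroup E) (_ : Module R E), Module.Finite R E ∧
      Module.Projective R E ∧
      (∀ p : PrimeSpectrum R, Module.rankAtStalk (R := R) E p = n ^ n) ∧
      Nonempty ((⨂[R] _ : Fin n, A) ≃ₐ[R] Module.End R E) := by
  rcases subsingleton_or_nontrivial R with hR | hR
  · -- trivial ring: everything is zero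
    have hB : Subsingleton (⨂[R] _ : Fin n, A) := Module.subsingleton R _
    have hE : Subsingleton (Module.End R PUnit.{u+1}) := Module.subsingleton R _
    refine ⟨PUnit.{u+1}, inferInstance, inferInstance, inferInstance, inferInstance, ?_, ?_⟩
    · intro p
      exact absurd (Subsingleton.elim _ _) p.isPrime.ne_top
    · exact ⟨{ toFun := fun _ => 0
               invFun := fun _ => 0
               left_inv := fun _ => Subsingleton.elim _ _
               right_inv := fun _ => Subsingleton.elim _ _
               map_mul' := fun _ _ => Subsingleton.elim _ _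
               map_add' := fun _ _ => Subsingleton.elim _ _
               commutes' := fun _ => Subsingleton.elim _ _ }⟩
  · rcases Nat.eq_zero_or_pos n with h0 | hn
    · exfalso
      obtain ⟨m, hm⟩ := Ideal.exists_maximal R
      have h1 := hrk ⟨m, hm.isPrime⟩
      have h2 := rankAtStalk_pos_of_faithful A (⟨m, hm.isPrime⟩ : PrimeSpectrum R)
      rw [h1, h0] at h2
      simp at h2
    · exact main_pos R A n hn hrk

end Groth.Agent.Lib.Seat77.AzMain
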