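import Mathlib

/-!
# Cubic forms: induction principle and Taylor-type identities (helper77)

* `cubic_induction`: a property of polynomials which is closed under linear combinations and holds
  for the monomials `X i * X j * X k` holds for all homogeneous cubics.
* `taylor`: `F(σa + τx) = σ³F(a) + σ²τ D_xF(a) + στ² D_aF(x) + τ³F(x)`.
* `polar_line`: `D_aF(σa + τx) = 3σ²F(a) + 2στ D_xF(a) + τ² D_aF(x)`.
* `polar_plane`: `D_aF(t₁w₁ + t₂w₂)` is a binary quadratic form in `(t₁, t₂)`.
-/

namespace Groth.Agent.Lib.Seat77.Cubic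

open MvPolynomial Pointwise

variable {K : Type*} [Field K] {n : ℕ}

/-- induction principle for homogeneous cubics -/
theorem cubic_induction (p : MvPolynomial (Fin n) K → Prop) (h0 : p 0)
    (hadd : ∀ f g, p f → p g → p (f + g)) (hsmul : ∀ (c : K) f, p f → p (c • f))
    (hmon : ∀ i j k : Fin n, p (X i * X j * X k))
    (F : MvPolynomial (Fin n) K) (hF : F.IsHomogeneous 3) : p F := by
  have h1 : F ∈ homogeneousSubmodule (Fin n) K 3 := (mem_homogeneousSubmodule 3 F).mpr hF
  rw [← homogeneousSubmodule_one_pow, homogeneousSubmodule_one_eq_span_X, Submodule.span_pow] at h1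
  clear hF
  induction h1 using Submodule.span_induction with
  | mem x hx =>
    rw [show (3 : ℕ) = 1 + 1 + 1 from rfl, pow_succ, pow_succ, pow_one] at hx
    obtain ⟨y, hy, z, ⟨k, rfl⟩, rfl⟩ := hx
    obtain ⟨y₁, ⟨i, rfl⟩, y₂, ⟨j, rfl⟩, rfl⟩ := hy
    exact hmon i j k
  | zero => exact h0
  | add x y _ _ hx hy => exact hadd x y hx hy
  | smul c x _ hx => exact hsmul c x hx

/-- the directional derivative `D_a F (y) = Σ a_m ∂_m F (y)` -/
noncomputable def D (a y : Fin n → K) (F : MvPolynomial (Fin n) K) : K :=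
  ∑ m : Fin n, a m * eval y (pderiv m F)

theorem D_zero (a y : Fin n → K) : D a y (0 : MvPolynomial (Fin n) K) = 0 := by
  simp [D]

theorem D_add (a y : Fin n → K) (f g : MvPolynomial (Fin n) K) :
    D a y (f + g) = D a y f + D a y g := by
  simp only [D, map_add, mul_add, Finset.sum_add_distrib]

theorem D_smul (a y : Fin n → K) (c : K) (f : MvPolynomial (Fin n) K) :
    D a y (c • f) = c * D a y f := by
  simp only [D, Finset.mul_sum]
  refine Finset.sum_congr rfl fun m _ => ?_
  rw [Derivation.map_smul, smul_eval]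
  ring

theorem D_mon (a y : Fin n → K) (i j k : Fin n) :
    D a y (X i * X j * X k) = a i * y j * y k + y i * a j * y k + y i * y j * a k := by
  classical
  have h : ∀ m : Fin n, a m * eval y (pderiv m (X i * X j * X k : MvPolynomial (Fin n) K)) =
      (if i = m then a m * y j * y k else 0) + (if j = m then y i * a m * y k else 0) +
        (if k = m then y i * y j * a m else 0) := by
    intro m
    simp only [Derivation.leibniz, pderiv_X, Pi.single_apply, smul_eq_mul, map_add, map_mul,
      eval_X]
    split_ifs <;> simp <;> ring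
  simp only [D, h, Finset.sum_add_distrib, Finset.sum_ite_eq, Finset.mem_univ, if_true]

theorem eval_mon (y : Fin n → K) (i j k : Fin n) :
    eval y (X i * X j * X k : MvPolynomial (Fin n) K) = y i * y j * y k := by
  simp

/-- Taylor expansion of a cubic form along a line -/
theorem taylor (F : MvPolynomial (Fin n) K) (hF : F.IsHomogeneous 3) (a x : Fin n → K)
    (σ τ : K) :
    eval (σ • a + τ • x) F =
      σ ^ 3 * eval a F + σ ^ 2 * τ * D x a F + σ * τ ^ 2 * D a x F + τ ^ 3 * eval x F := by
  refine cubic_induction (fun F => eval (σ • a + τ • x) F =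
      σ ^ 3 * eval a F + σ ^ 2 * τ * D x a F + σ * τ ^ 2 * D a x F + τ ^ 3 * eval x F)
    ?_ ?_ ?_ ?_ F hF
  · simp [D_zero]
  · intro f g hf hg
    simp only [map_add, D_add, hf, hg]
    ring
  · intro c f hf
    simp only [smul_eval, D_smul, hf]
    ring
  · intro i j k
    simp only [D_mon, eval_mon, Pi.add_apply, Pi.smul_apply, smul_eq_mul]
    ring

/-- the first polar along a line through the pole -/
theorem polar_line (F : MvPolynomial (Fin n) K) (hF : F.IsHomogeneous 3) (a x : Fin n → K)
    (σ τ : K) :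
    D a (σ • a + τ • x) F =
      3 * σ ^ 2 * eval a F + 2 * σ * τ * D x a F + τ ^ 2 * D a x F := by
  refine cubic_induction (fun F => D a (σ • a + τ • x) F =
      3 * σ ^ 2 * eval a F + 2 * σ * τ * D x a F + τ ^ 2 * D a x F)
    ?_ ?_ ?_ ?_ F hF
  · simp [D_zero]
  · intro f g hf hg
    simp only [map_add, D_add, hf, hg]
    ring
  · intro c f hf
    simp only [smul_eval, D_smul, hf]
    ring
  · intro i j k
    simp only [D_mon, eval_mon, Pi.add_apply, Pi.smul_apply, smul_eq_mul]
    ring

/-- the first polar restricted to a plane is a binary quadratic form -/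
theorem polar_plane (F : MvPolynomial (Fin n) K) (hF : F.IsHomogeneous 3) (a w₁ w₂ : Fin n → K)
    (t₁ t₂ : K) :
    D a (t₁ • w₁ + t₂ • w₂) F =
      t₁ ^ 2 * D a w₁ F + t₁ * t₂ * (D a (w₁ + w₂) F - D a w₁ F - D a w₂ F) +
        t₂ ^ 2 * D a w₂ F := by
  refine cubic_induction (fun F => D a (t₁ • w₁ + t₂ • w₂) F =
      t₁ ^ 2 * D a w₁ F + t₁ * t₂ * (D a (w₁ + w₂) F - D a w₁ F - D a w₂ F) +
        t₂ ^ 2 * D a w₂ F)
    ?_ ?_ ?_ ?_ F hF
  · simp [D_zero]
  · intro f g hf hg
    simp only [D_add, hf, hg]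
    ring
  · intro c f hf
    simp only [D_smul, hf]
    ring
  · intro i j k
    simp only [D_mon, Pi.add_apply, Pi.smul_apply, smul_eq_mul]
    ring

end Groth.Agent.Lib.Seat77.Cubic
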