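import Mathlib

/-!
# Cubic forms, part B (helper77): hyperplane sections, binary forms, linear forms

* `mem_span_of_vanishes`: a polynomial vanishing on the hyperplane `ℓ = 0` is a multiple of `ℓ`;
* `binary_quadratic_factor`, `binary_cubic_factor`: binary forms over an algebraically closed field
  are products of linear forms;
* `linPoly`: the degree-one polynomial of a linear functional.
-/

namespace Groth.Agent.Lib.Seat77.Cubic

open MvPolynomial

variable {K : Type*} [Field K] {n : ℕ}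

/-- A polynomial vanishing on the hyperplane `Σ c_i x_i = 0` is divisible by `Σ c_i X_i`. -/
theorem mem_span_of_vanishes [Infinite K] (c : Fin n → K) (m : Fin n) (hm : c m ≠ 0)
    (G : MvPolynomial (Fin n) K)
    (hG : ∀ x : Fin n → K, (∑ i, c i * x i = 0) → eval x G = 0) :
    G ∈ Ideal.span {∑ i, C (c i) * X i} := by
  classical
  set ℓ : MvPolynomial (Fin n) K := ∑ i, C (c i) * X i with hℓ
  let g : Fin n → MvPolynomial (Fin n) K := fun i => X i - (if i = m then C (c m)⁻¹ * ℓ else 0)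
  have hevalℓ : ∀ x : Fin n → K, eval x ℓ = ∑ i, c i * x i := by
    intro x
    simp [hℓ]
  -- `bind₁ g G = 0`
  have hA : bind₁ g G = 0 := by
    apply MvPolynomial.funext
    intro x
    rw [map_zero]
    have h1 : eval x (bind₁ g G) = eval (fun i => eval x (g i)) G := eval₂Hom_bind₁ _ _ _ _
    rw [h1]
    apply hG
    have h2 : ∀ i, eval x (g i) = x i - (if i = m then (c m)⁻¹ * ∑ j, c j * x j else 0) := by
      intro i
      simp only [g, map_sub, eval_X]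
      split_ifs
      · rw [map_mul, eval_C, hevalℓ]
      · rw [map_zero]
    simp only [h2, mul_sub, Finset.sum_sub_distrib, mul_ite, mul_zero, Finset.sum_ite_eq',
      Finset.mem_univ, if_true]
    rw [← mul_assoc, mul_inv_cancel₀ hm, one_mul, sub_self]
  -- `G - bind₁ g G ∈ (ℓ)`
  have hB : Ideal.Quotient.mkₐ K (Ideal.span {ℓ}) =
      (Ideal.Quotient.mkₐ K (Ideal.span {ℓ})).comp (bind₁ g) := by
    apply MvPolynomial.algHom_ext
    intro i
    rw [AlgHom.comp_apply, bind₁_X_right]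
    symm
    rw [Ideal.Quotient.mkₐ_eq_mk, Ideal.Quotient.mk_eq_mk_iff_sub_mem]
    simp only [g, sub_sub_cancel_left]
    split_ifs
    · exact neg_mem (Ideal.mul_mem_left _ _ (Ideal.mem_span_singleton_self ℓ))
    · rw [neg_zero]; exact zero_mem _
  have hC := congrArg (fun φ => φ G) hB
  simp only [AlgHom.comp_apply, hA, map_zero] at hC
  rwa [Ideal.Quotient.mkₐ_eq_mk, Ideal.Quotient.eq_zero_iff_mem] at hC

section binary

variable [IsAlgClosed K]

theorem exists_root_quadratic (b₀ b₁ b₂ : K) (h : b₀ ≠ 0) :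
    ∃ r : K, b₀ * r ^ 2 + b₁ * r + b₂ = 0 := by
  have hdeg : (Polynomial.C b₀ * Polynomial.X ^ 2 + Polynomial.C b₁ * Polynomial.X +
      Polynomial.C b₂).degree ≠ 0 := by
    rw [Polynomial.degree_quadratic h]
    decide
  obtain ⟨r, hr⟩ := IsAlgClosed.exists_root _ hdeg
  refine ⟨r, ?_⟩
  simpa using hr

theorem exists_root_cubic (c₀ c₁ c₂ c₃ : K) (h : c₀ ≠ 0) :
    ∃ r : K, c₀ * r ^ 3 + c₁ * r ^ 2 + c₂ * r + c₃ = 0 := by
  have hdeg : (Polynomial.C c₀ * Polynomial.X ^ 3 + Polynomial.C c₁ * Polynomial.X ^ 2 +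
      Polynomial.C c₂ * Polynomial.X + Polynomial.C c₃).degree ≠ 0 := by
    rw [Polynomial.degree_cubic h]
    decide
  obtain ⟨r, hr⟩ := IsAlgClosed.exists_root _ hdeg
  refine ⟨r, ?_⟩
  simpa using hr

theorem binary_quadratic_factor (b₀ b₁ b₂ : K) :
    ∃ α₁ β₁ α₂ β₂ : K, ∀ t₁ t₂ : K,
      b₀ * t₁ ^ 2 + b₁ * t₁ * t₂ + b₂ * t₂ ^ 2 = (α₁ * t₁ + β₁ * t₂) * (α₂ * t₁ + β₂ * t₂) := by
  by_cases h : b₀ = 0
  · refine ⟨0, 1, b₁, b₂, fun t₁ t₂ => ?_⟩
    rw [h]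
    ring
  · obtain ⟨r, hr⟩ := exists_root_quadratic b₀ b₁ b₂ h
    refine ⟨1, -r, b₀, b₁ + b₀ * r, fun t₁ t₂ => ?_⟩
    have : b₂ = -(b₀ * r ^ 2 + b₁ * r) := by linear_combination hr
    rw [this]
    ring

theorem binary_cubic_factor (c₀ c₁ c₂ c₃ : K) :
    ∃ α₁ β₁ α₂ β₂ α₃ β₃ : K, ∀ t₁ t₂ : K,
      c₀ * t₁ ^ 3 + c₁ * t₁ ^ 2 * t₂ + c₂ * t₁ * t₂ ^ 2 + c₃ * t₂ ^ 3 =
        (α₁ * t₁ + β₁ * t₂) * (α₂ * t₁ + β₂ * t₂) * (α₃ * t₁ + β₃ * t₂) := by
  by_cases h : c₀ = 0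
  · obtain ⟨α₁, β₁, α₂, β₂, hq⟩ := binary_quadratic_factor c₁ c₂ c₃
    refine ⟨0, 1, α₁, β₁, α₂, β₂, fun t₁ t₂ => ?_⟩
    rw [h, mul_assoc (0 * t₁ + 1 * t₂), ← hq]
    ring
  · obtain ⟨r, hr⟩ := exists_root_cubic c₀ c₁ c₂ c₃ h
    obtain ⟨α₁, β₁, α₂, β₂, hq⟩ :=
      binary_quadratic_factor c₀ (c₁ + c₀ * r) (c₂ + c₁ * r + c₀ * r ^ 2)
    refine ⟨1, -r, α₁, β₁, α₂, β₂, fun t₁ t₂ => ?_⟩
    have : c₃ = -(c₀ * r ^ 3 + c₁ * r ^ 2 + c₂ * r) := by linear_combination hr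
    rw [mul_assoc (1 * t₁ + -r * t₂), ← hq, this]
    ring

end binary

/-- the degree one polynomial attached to a linear functional -/
noncomputable def linPoly (T : (Fin n → K) →ₗ[K] K) : MvPolynomial (Fin n) K :=
  ∑ i, C (T (Pi.single i 1)) * X i

theorem eval_linPoly (T : (Fin n → K) →ₗ[K] K) (x : Fin n → K) : eval x (linPoly T) = T x := by
  classical
  simp only [linPoly, map_sum, map_mul, eval_C, eval_X]
  conv_rhs => rw [LinearMap.pi_apply_eq_sum_univ T x]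
  refine Finset.sum_congr rfl fun i _ => ?_
  rw [smul_eq_mul, mul_comm]
  congr 2
  ext j
  simp [Pi.single_apply, eq_comm]

theorem linPoly_isHomogeneous (T : (Fin n → K) →ₗ[K] K) : (linPoly T).IsHomogeneous 1 := by
  apply IsHomogeneous.sum
  intro i _
  exact isHomogeneous_C_mul_X _ _

end Groth.Agent.Lib.Seat77.Cubic
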