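import Mathlib
import Groth.Agent.Lib.Seat77CubicA
import Groth.Agent.Lib.Seat77CubicB

/-!
# A conic and a cubic in the plane with seven common points have a common component (helper77)

* `quadratic_induction`, `linear_induction`, `binary1`, `binary2`, `binary3`: forms of degree ≤ 3 along a line.
* `exists_homogeneous_quotient`: quotient of a homogeneous polynomial by a linear form, taken homogeneous.
* `lf u v`, `lp u v`: the linear form / polynomial `det(u, v, ·)` of the line through `u`, `v` in `K³`;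
  `exists_eq_of_lf_eq_zero`, `line_dvd`.
* `bezout23`: a nonzero quadratic form `Q` and a cubic form `P` in three variables vanishing at seven pairwise
  independent points have a common homogeneous factor of degree 1 or 2 (classical argument through lines; no
  resultants).
-/

namespace Groth.Agent.Lib.Seat77.Conic

open MvPolynomial Pointwise Matrix Groth.Agent.Lib.Seat77.Cubic

variable {K : Type*} [Field K]

section General

variable {n : ℕ}

/-- induction principle for homogeneous quadrics -/
theorem quadratic_induction (p : MvPolynomial (Fin n) K → Prop) (h0 : p 0)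
    (hadd : ∀ f g, p f → p g → p (f + g)) (hsmul : ∀ (c : K) f, p f → p (c • f))
    (hmon : ∀ i j : Fin n, p (X i * X j))
    (F : MvPolynomial (Fin n) K) (hF : F.IsHomogeneous 2) : p F := by
  have h1 : F ∈ homogeneousSubmodule (Fin n) K 2 := (mem_homogeneousSubmodule 2 F).mpr hF
  rw [← homogeneousSubmodule_one_pow, homogeneousSubmodule_one_eq_span_X, Submodule.span_pow] at h1
  clear hF
  induction h1 using Submodule.span_induction with
  | mem x hx =>
    rw [show (2 : ℕ) = 1 + 1 from rfl, pow_succ, pow_one] at hx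
    obtain ⟨y₁, ⟨i, rfl⟩, y₂, ⟨j, rfl⟩, rfl⟩ := hx
    exact hmon i j
  | zero => exact h0
  | add x y _ _ hx hy => exact hadd x y hx hy
  | smul c x _ hx => exact hsmul c x hx

/-- induction principle for linear forms -/
theorem linear_induction (p : MvPolynomial (Fin n) K → Prop) (h0 : p 0)
    (hadd : ∀ f g, p f → p g → p (f + g)) (hsmul : ∀ (c : K) f, p f → p (c • f))
    (hmon : ∀ i : Fin n, p (X i))
    (F : MvPolynomial (Fin n) K) (hF : F.IsHomogeneous 1) : p F := by
  have h1 : F ∈ homogeneousSubmodule (Fin n) K 1 := (mem_homogeneousSubmodule 1 F).mpr hF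
  rw [homogeneousSubmodule_one_eq_span_X] at h1
  clear hF
  induction h1 using Submodule.span_induction with
  | mem x hx =>
    obtain ⟨i, rfl⟩ := hx
    exact hmon i
  | zero => exact h0
  | add x y _ _ hx hy => exact hadd x y hx hy
  | smul c x _ hx => exact hsmul c x hx

/-- a quadratic form along a line: `P(su+tv) = s²P(u) + st(P(u+v)-P(u)-P(v)) + t²P(v)` -/
theorem binary2 (P : MvPolynomial (Fin n) K) (hP : P.IsHomogeneous 2) (u v : Fin n → K) (s t : K) :
    eval (s • u + t • v) P =
      s ^ 2 * eval u P + s * t * (eval (u + v) P - eval u P - eval v P) + t ^ 2 * eval v P := by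
  refine quadratic_induction (fun P => eval (s • u + t • v) P =
      s ^ 2 * eval u P + s * t * (eval (u + v) P - eval u P - eval v P) + t ^ 2 * eval v P)
    ?_ ?_ ?_ ?_ P hP
  · simp
  · intro f g hf hg
    simp only [map_add, hf, hg]
    ring
  · intro c f hf
    simp only [smul_eval, hf]
    ring
  · intro i j
    simp only [map_mul, eval_X, Pi.add_apply, Pi.smul_apply, smul_eq_mul]
    ring

/-- a linear form along a line -/
theorem binary1 (P : MvPolynomial (Fin n) K) (hP : P.IsHomogeneous 1) (u v : Fin n → K) (s t : K) :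
    eval (s • u + t • v) P = s * eval u P + t * eval v P := by
  refine linear_induction (fun P => eval (s • u + t • v) P = s * eval u P + t * eval v P)
    ?_ ?_ ?_ ?_ P hP
  · simp
  · intro f g hf hg
    simp only [map_add, hf, hg]
    ring
  · intro c f hf
    simp only [smul_eval, hf]
    ring
  · intro i
    simp only [eval_X, Pi.add_apply, Pi.smul_apply, smul_eq_mul]

/-- a cubic form along a line -/
theorem binary3 (P : MvPolynomial (Fin n) K) (hP : P.IsHomogeneous 3) (u v : Fin n → K) (s t : K) :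
    eval (s • u + t • v) P =
      s ^ 3 * eval u P + s ^ 2 * t * D v u P + s * t ^ 2 * D u v P + t ^ 3 * eval v P :=
  taylor P hP u v s t

/-- the quotient of a homogeneous polynomial by a nonzero linear form can be taken homogeneous -/
theorem exists_homogeneous_quotient {ℓ P R : MvPolynomial (Fin n) K} {d : ℕ}
    (hℓ : ℓ.IsHomogeneous 1) (hP : P.IsHomogeneous (d + 1)) (h : P = ℓ * R) :
    ∃ R' : MvPolynomial (Fin n) K, R'.IsHomogeneous d ∧ P = ℓ * R' := by
  refine ⟨homogeneousComponent d R, homogeneousComponent_isHomogeneous d R, ?_⟩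
  have h1 : P = ∑ i ∈ Finset.range (R.totalDegree + 1), ℓ * homogeneousComponent i R := by
    rw [← Finset.mul_sum, sum_homogeneousComponent, h]
  have h2 : homogeneousComponent (d + 1) P = P := homogeneousComponent_eq_self hP
  rw [← h2]
  conv_lhs => rw [h1]
  rw [map_sum]
  have h3 : ∀ i ∈ Finset.range (R.totalDegree + 1),
      homogeneousComponent (d + 1) (ℓ * homogeneousComponent i R) =
        if i = d then ℓ * homogeneousComponent i R else 0 := by
    intro i _
    have hi : (ℓ * homogeneousComponent i R) ∈ homogeneousSubmodule (Fin n) K (1 + i) :=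
      hℓ.mul (homogeneousComponent_isHomogeneous i R)
    rw [homogeneousComponent_of_mem hi]
    by_cases hid : i = d
    · subst hid
      rw [if_pos (by ring), if_pos rfl]
    · rw [if_neg (by omega), if_neg hid]
  rw [Finset.sum_congr rfl h3, Finset.sum_ite_eq']
  split_ifs with hd
  · rfl
  · -- `d` beyond the total degree: the component vanishes
    rw [Finset.mem_range, not_lt] at hd
    rw [homogeneousComponent_eq_zero _ _ (by omega), mul_zero]

/-- a homogeneous polynomial of degree zero is a constant -/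
theorem eq_C_of_isHomogeneous_zero {P : MvPolynomial (Fin n) K} (hP : P.IsHomogeneous 0) :
    P = C (coeff 0 P) :=
  totalDegree_eq_zero_iff_eq_C.1 ((totalDegree_zero_iff_isHomogeneous (Fin n)).2 hP)

end General

/-- the linear functional `y ↦ det(u, v, y)` cutting out the line through `u` and `v` -/
noncomputable def lf (u v : Fin 3 → K) : (Fin 3 → K) →ₗ[K] K :=
  dotProductBilin K K (u ⨯₃ v) 

theorem lf_apply (u v y : Fin 3 → K) : lf u v y = (u ⨯₃ v) ⬝ᵥ y := rfl

theorem lf_left (u v : Fin 3 → K) : lf u v u = 0 := by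
  rw [lf_apply, dotProduct_comm]; exact dot_self_cross u v

theorem lf_right (u v : Fin 3 → K) : lf u v v = 0 := by
  rw [lf_apply, dotProduct_comm]; exact dot_cross_self u v

theorem lf_eq_det (u v y : Fin 3 → K) : lf u v y = Matrix.det ![y, u, v] := by
  rw [lf_apply, dotProduct_comm, triple_product_eq_det]

/-- the degree one polynomial of the line through `u` and `v` -/
noncomputable def lp (u v : Fin 3 → K) : MvPolynomial (Fin 3) K := linPoly (lf u v)

theorem eval_lp (u v y : Fin 3 → K) : eval y (lp u v) = lf u v y := eval_linPoly _ _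

theorem lp_isHomogeneous (u v : Fin 3 → K) : (lp u v).IsHomogeneous 1 := linPoly_isHomogeneous _

theorem lf_ne_zero {u v : Fin 3 → K} (h : LinearIndependent K ![u, v]) : lf u v ≠ 0 := by
  intro h0
  have h1 := crossProduct_ne_zero_iff_linearIndependent.2 h
  apply h1
  ext i
  have := LinearMap.congr_fun h0 (Pi.single i 1)
  simpa [lf_apply] using this

/-- the kernel of `lf u v` is the plane spanned by `u` and `v` -/
theorem exists_eq_of_lf_eq_zero {u v y : Fin 3 → K} (h : LinearIndependent K ![u, v])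
    (hy : lf u v y = 0) : ∃ s t : K, y = s • u + t • v := by
  have hker : Module.finrank K (LinearMap.ker (lf u v)) = 2 := by
    have h1 := LinearMap.finrank_range_add_finrank_ker (lf u v)
    have h2 : LinearMap.range (lf u v) = ⊤ := by
      refine LinearMap.range_eq_top.2 (LinearMap.surjective_of_ne_zero (lf_ne_zero h))
    rw [h2, finrank_top, Module.finrank_self, Module.finrank_fin_fun] at h1
    omega
  have hsp : Submodule.span K {u, v} ≤ LinearMap.ker (lf u v) := by
    rw [Submodule.span_le]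
    rintro z (rfl | rfl)
    · exact lf_left _ _
    · exact lf_right _ _
  have hfr : Module.finrank K (Submodule.span K {u, v}) = 2 := by
    have h3 := finrank_span_eq_card h
    have h4 : Set.range ![u, v] = {u, v} := by
      ext z
      simp only [Set.mem_range, Fin.exists_fin_two, Matrix.cons_val_zero, Matrix.cons_val_one,
        Set.mem_insert_iff, Set.mem_singleton_iff, eq_comm]
    rw [h4] at h3
    simpa using h3
  have heq : Submodule.span K {u, v} = LinearMap.ker (lf u v) :=
    Submodule.eq_of_le_of_finrank_eq hsp (by rw [hfr, hker])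
  have hy' : y ∈ Submodule.span K {u, v} := by rw [heq]; exact hy
  obtain ⟨s, t, hst⟩ := Submodule.mem_span_pair.1 hy'
  exact ⟨s, t, hst.symm⟩

/-- a homogeneous polynomial vanishing on the plane spanned by `u`, `v` is divisible by the line form, with homogeneous
quotient -/
theorem line_dvd [Infinite K] {u v : Fin 3 → K} (h : LinearIndependent K ![u, v]) {d : ℕ}
    {P : MvPolynomial (Fin 3) K} (hP : P.IsHomogeneous (d + 1))
    (hvan : ∀ s t : K, eval (s • u + t • v) P = 0) :
    ∃ R : MvPolynomial (Fin 3) K, R.IsHomogeneous d ∧ P = lp u v * R := by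
  have hne := crossProduct_ne_zero_iff_linearIndependent.2 h
  obtain ⟨m, hm⟩ : ∃ m, (u ⨯₃ v) m ≠ 0 := by
    by_contra hcon
    exact hne (funext fun m => by_contra fun hm => hcon ⟨m, hm⟩)
  have hmem := mem_span_of_vanishes (fun i => lf u v (Pi.single i 1)) m
    (by simpa [lf_apply] using hm) P (by
      intro x hx
      have hx' : lf u v x = 0 := by
        rw [← eval_linPoly (lf u v) x]
        simpa [linPoly] using hx
      obtain ⟨s, t, rfl⟩ := exists_eq_of_lf_eq_zero h hx'
      exact hvan s t)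
  obtain ⟨R, hR⟩ := Ideal.mem_span_singleton.1 hmem
  exact exists_homogeneous_quotient (lp_isHomogeneous u v) hP hR

/-- a nonzero linear form vanishing at two independent points is a nonzero multiple of their line form -/
theorem linear_eq_smul_lp [Infinite K] {u v : Fin 3 → K} (h : LinearIndependent K ![u, v])
    {L : MvPolynomial (Fin 3) K} (hL : L.IsHomogeneous 1) (hu : eval u L = 0) (hv : eval v L = 0) :
    ∃ c : K, L = lp u v * C c := by
  obtain ⟨R, hR, hLR⟩ := line_dvd h (d := 0) hL (fun s t => by rw [binary1 L hL, hu, hv]; ring)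
  exact ⟨coeff 0 R, by rw [hLR, ← eq_C_of_isHomogeneous_zero hR]⟩

/-- a cubic vanishing at four pairwise independent points of a line vanishes on the line -/
theorem cubic_vanishes_on_line {u v w z : Fin 3 → K} (huv : LinearIndependent K ![u, v])
    (huw : LinearIndependent K ![u, w]) (hvw : LinearIndependent K ![v, w])
    (huz : LinearIndependent K ![u, z]) (hvz : LinearIndependent K ![v, z])
    (hwz : LinearIndependent K ![w, z])
    (hw : lf u v w = 0) (hz : lf u v z = 0)
    {P : MvPolynomial (Fin 3) K} (hP : P.IsHomogeneous 3)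
    (h1 : eval u P = 0) (h2 : eval v P = 0) (h3 : eval w P = 0) (h4 : eval z P = 0) :
    ∀ s t : K, eval (s • u + t • v) P = 0 := by
  obtain ⟨s₁, t₁, rfl⟩ := exists_eq_of_lf_eq_zero huv hw
  obtain ⟨s₂, t₂, rfl⟩ := exists_eq_of_lf_eq_zero huv hz
  rw [LinearIndependent.pair_iff] at huw hvw huz hvz hwz
  have hs₁ : s₁ ≠ 0 := by
    intro h0
    have := hvw (-t₁) 1 (by rw [h0]; simp)
    exact one_ne_zero this.2
  have ht₁ : t₁ ≠ 0 := by
    intro h0
    have := huw (-s₁) 1 (by rw [h0]; simp)
    exact one_ne_zero this.2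
  have hs₂ : s₂ ≠ 0 := by
    intro h0
    have := hvz (-t₂) 1 (by rw [h0]; simp)
    exact one_ne_zero this.2
  have ht₂ : t₂ ≠ 0 := by
    intro h0
    have := huz (-s₂) 1 (by rw [h0]; simp)
    exact one_ne_zero this.2
  have hdet : s₁ * t₂ - s₂ * t₁ ≠ 0 := by
    intro h0
    have := hwz s₂ (-s₁) (by
      have : s₂ • (s₁ • u + t₁ • v) + -s₁ • (s₂ • u + t₂ • v) = (-(s₁ * t₂ - s₂ * t₁)) • v := by
        ext i
        simp only [Pi.add_apply, Pi.smul_apply, smul_eq_mul]
        ring
      rw [this, h0, neg_zero, zero_smul])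
    exact hs₂ this.1
  rw [binary3 P hP, h1, h2] at h3 h4
  have e3 : s₁ * D v u P + t₁ * D u v P = 0 := by
    have : s₁ * t₁ * (s₁ * D v u P + t₁ * D u v P) = 0 := by linear_combination h3
    exact (mul_eq_zero.1 this).resolve_left (mul_ne_zero hs₁ ht₁)
  have e4 : s₂ * D v u P + t₂ * D u v P = 0 := by
    have : s₂ * t₂ * (s₂ * D v u P + t₂ * D u v P) = 0 := by linear_combination h4
    exact (mul_eq_zero.1 this).resolve_left (mul_ne_zero hs₂ ht₂)
  have c1 : D v u P = 0 := by
    have : (s₁ * t₂ - s₂ * t₁) * D v u P = 0 := by linear_combination t₂ * e3 - t₁ * e4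
    exact (mul_eq_zero.1 this).resolve_left hdet
  have c2 : D u v P = 0 := by
    have : (s₁ * t₂ - s₂ * t₁) * D u v P = 0 := by linear_combination s₁ * e4 - s₂ * e3
    exact (mul_eq_zero.1 this).resolve_left hdet
  intro s t
  rw [binary3 P hP, h1, h2, c1, c2]
  ring

theorem exists_four {α : Type*} [DecidableEq α] (S : Finset α) (h : 4 ≤ S.card) :
    ∃ a b c d, a ∈ S ∧ b ∈ S ∧ c ∈ S ∧ d ∈ S ∧ a ≠ b ∧ a ≠ c ∧ a ≠ d ∧ b ≠ c ∧ b ≠ d ∧ c ≠ d := by
  obtain ⟨a, ha⟩ : S.Nonempty := Finset.card_pos.1 (by omega)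
  have h1 : 2 < (S.erase a).card := by rw [Finset.card_erase_of_mem ha]; omega
  obtain ⟨b, c, d, hb, hc, hd, hbc, hbd, hcd⟩ := Finset.two_lt_card_iff.1 h1
  rw [Finset.mem_erase] at hb hc hd
  exact ⟨a, b, c, d, ha, hb.2, hc.2, hd.2, hb.1.symm, hc.1.symm, hd.1.symm, hbc, hbd, hcd⟩

section Main

variable [Infinite K] (p : Fin 7 → Fin 3 → K)

include p in
/-- a linear form vanishing at four of the points divides a cubic through the points -/
theorem dvd_cubic_of_four (hp : ∀ i j, i ≠ j → LinearIndependent K ![p i, p j])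
    {L : MvPolynomial (Fin 3) K} (hL : L.IsHomogeneous 1) (hL0 : L ≠ 0)
    {P : MvPolynomial (Fin 3) K} (hP : P.IsHomogeneous 3) (hPp : ∀ i, eval (p i) P = 0)
    (S : Finset (Fin 7)) (hS : 4 ≤ S.card) (hLS : ∀ i ∈ S, eval (p i) L = 0) : L ∣ P := by
  obtain ⟨a, b, c, d, ha, hb, hc, hd, hab, hac, had, hbc, hbd, hcd⟩ := exists_four S hS
  obtain ⟨k, hk⟩ := linear_eq_smul_lp (hp a b hab) hL (hLS a ha) (hLS b hb)
  have hk0 : k ≠ 0 := by
    rintro rfl
    exact hL0 (by rw [hk, map_zero, mul_zero])
  have hlf : ∀ i ∈ S, lf (p a) (p b) (p i) = 0 := by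
    intro i hi
    have := hLS i hi
    rw [hk, map_mul, eval_C, eval_lp] at this
    exact (mul_eq_zero.1 this).resolve_right hk0
  have hvan := cubic_vanishes_on_line (hp a b hab) (hp a c hac) (hp b c hbc) (hp a d had)
    (hp b d hbd) (hp c d hcd) (hlf c hc) (hlf d hd) hP (hPp a) (hPp b) (hPp c) (hPp d)
  obtain ⟨R, -, hR⟩ := line_dvd (hp a b hab) (d := 2) hP hvan
  refine ⟨C k⁻¹ * R, ?_⟩
  rw [hR, hk]
  have : (C k : MvPolynomial (Fin 3) K) * C k⁻¹ = 1 := by
    rw [← C_mul, mul_inv_cancel₀ hk0, C_1]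
  calc lp (p a) (p b) * R = lp (p a) (p b) * (C k * C k⁻¹) * R := by rw [this, mul_one]
    _ = lp (p a) (p b) * C k * (C k⁻¹ * R) := by ring

include p in
/-- Bezout for a reducible conic -/
theorem common_factor_of_reducible (hp : ∀ i j, i ≠ j → LinearIndependent K ![p i, p j])
    {Q P L L' : MvPolynomial (Fin 3) K} (hL : L.IsHomogeneous 1) (hL' : L'.IsHomogeneous 1)
    (hQ : Q = L * L') (hQ0 : Q ≠ 0) (hP : P.IsHomogeneous 3)
    (hQp : ∀ i, eval (p i) Q = 0) (hPp : ∀ i, eval (p i) P = 0) :
    ∃ (D : MvPolynomial (Fin 3) K) (d : ℕ), (d = 1 ∨ d = 2) ∧ D.IsHomogeneous d ∧ D ≠ 0 ∧ D ∣ Q ∧ D ∣ P := by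
  classical
  have hL0 : L ≠ 0 := by rintro rfl; exact hQ0 (by rw [hQ, zero_mul])
  have hL'0 : L' ≠ 0 := by rintro rfl; exact hQ0 (by rw [hQ, mul_zero])
  let A : Finset (Fin 7) := Finset.univ.filter fun i => eval (p i) L = 0
  let B : Finset (Fin 7) := Finset.univ.filter fun i => eval (p i) L' = 0
  have hAB : A ∪ B = Finset.univ := by
    ext i
    simp only [A, B, Finset.mem_union, Finset.mem_filter, Finset.mem_univ, true_and, iff_true]
    have := hQp i
    rw [hQ, map_mul] at this
    exact mul_eq_zero.1 this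
  have hcard : 7 ≤ A.card + B.card := by
    have := Finset.card_union_le A B
    rw [hAB, Finset.card_univ, Fintype.card_fin] at this
    exact this
  rcases (by omega : 4 ≤ A.card ∨ 4 ≤ B.card) with hA | hB
  · refine ⟨L, 1, Or.inl rfl, hL, hL0, ⟨L', hQ⟩, ?_⟩
    exact dvd_cubic_of_four p hp hL hL0 hP hPp A hA (fun i hi => (Finset.mem_filter.1 hi).2)
  · refine ⟨L', 1, Or.inl rfl, hL', hL'0, ⟨L, by rw [hQ, mul_comm]⟩, ?_⟩
    exact dvd_cubic_of_four p hp hL' hL'0 hP hPp B hB (fun i hi => (Finset.mem_filter.1 hi).2)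


include p in
/-- **Bezout for a conic and a cubic**: a nonzero quadratic form and a cubic form in three variables with seven pairwise
independent common zeros have a nonconstant homogeneous common factor. -/
theorem bezout23 (hp : ∀ i j, i ≠ j → LinearIndependent K ![p i, p j])
    {Q P : MvPolynomial (Fin 3) K} (hQ : Q.IsHomogeneous 2) (hQ0 : Q ≠ 0) (hP : P.IsHomogeneous 3)
    (hQp : ∀ i, eval (p i) Q = 0) (hPp : ∀ i, eval (p i) P = 0) :
    ∃ (D : MvPolynomial (Fin 3) K) (d : ℕ), (d = 1 ∨ d = 2) ∧ D.IsHomogeneous d ∧ D ≠ 0 ∧ D ∣ Q ∧ D ∣ P := by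
  -- `Q` along the line through two of the points
  have hQline : ∀ i j (s t : K), eval (s • p i + t • p j) Q = s * t * eval (p i + p j) Q := by
    intro i j s t
    rw [binary2 Q hQ, hQp i, hQp j]
    ring
  by_cases h1 : ∃ i j, i ≠ j ∧ eval (p i + p j) Q = 0
  · obtain ⟨i, j, hij, hβ⟩ := h1
    obtain ⟨L', hL', hQL⟩ := line_dvd (hp i j hij) (d := 1) hQ
      (fun s t => by rw [hQline, hβ, mul_zero])
    exact common_factor_of_reducible p hp (lp_isHomogeneous _ _) hL' hQL hQ0 hP hQp hPp
  have hβ : ∀ i j, i ≠ j → eval (p i + p j) Q ≠ 0 := fun i j hij h => h1 ⟨i, j, hij, h⟩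
  -- no three of the points are collinear
  have hcol : ∀ i j k, i ≠ j → i ≠ k → j ≠ k → lf (p i) (p j) (p k) ≠ 0 := by
    intro i j k hij hik hjk h0
    obtain ⟨s, t, hst⟩ := exists_eq_of_lf_eq_zero (hp i j hij) h0
    have hik' := LinearIndependent.pair_iff.1 (hp i k hik)
    have hjk' := LinearIndependent.pair_iff.1 (hp j k hjk)
    have hs : s ≠ 0 := by
      intro hs0
      have := hjk' (-t) 1 (by rw [hst, hs0]; simp)
      exact one_ne_zero this.2
    have ht : t ≠ 0 := by
      intro ht0
      have := hik' (-s) 1 (by rw [hst, ht0]; simp)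
      exact one_ne_zero this.2
    have h2 := hQp k
    rw [hst, hQline] at h2
    exact hβ i j hij ((mul_eq_zero.1 h2).resolve_left (mul_ne_zero hs ht))
  -- the classical argument
  set β := eval ((p 0) + (p 1)) Q with hβdef
  have hβ0 : β ≠ 0 := hβ 0 1 (by decide)
  set c₁ := D (p 1) (p 0) P with hc₁
  set c₂ := D (p 0) (p 1) P with hc₂
  set δ₁ := lf (p 1) (p 2) (p 0) with hδ₁
  set δ₂ := lf (p 0) (p 2) (p 1) with hδ₂
  have hδ₁0 : δ₁ ≠ 0 := hcol 1 2 0 (by decide) (by decide) (by decide)
  have hδ₂0 : δ₂ ≠ 0 := hcol 0 2 1 (by decide) (by decide) (by decide)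
  let Lfun : (Fin 3 → K) →ₗ[K] K := (c₁ / (β * δ₁)) • lf (p 1) (p 2) + (c₂ / (β * δ₂)) • lf (p 0) (p 2)
  let L := linPoly Lfun
  have hL : L.IsHomogeneous 1 := linPoly_isHomogeneous _
  have hLu₁ : eval (p 0) L = c₁ / β := by
    rw [eval_linPoly]
    simp only [Lfun, LinearMap.add_apply, LinearMap.smul_apply, smul_eq_mul, lf_left, mul_zero, add_zero]
    rw [← hδ₁]
    field_simp
  have hLu₂ : eval (p 1) L = c₂ / β := by
    rw [eval_linPoly]
    simp only [Lfun, LinearMap.add_apply, LinearMap.smul_apply, smul_eq_mul, lf_left, mul_zero, zero_add]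
    rw [← hδ₂]
    field_simp
  have hQL : (Q * L).IsHomogeneous 3 := hQ.mul hL
  have hP' : (P - Q * L).IsHomogeneous 3 := hP.sub hQL
  obtain ⟨Q', hQ', hPQ'⟩ := line_dvd (hp 0 1 (by decide)) (d := 2) hP' (by
    intro s t
    rw [map_sub, map_mul, binary3 P hP, hQline, binary1 L hL, hPp 0, hPp 1, hLu₁, hLu₂,
      ← hβdef, ← hc₁, ← hc₂]
    field_simp
    ring)
  have hQ'p : ∀ m : Fin 7, m ≠ 0 → m ≠ 1 → eval (p m) Q' = 0 := by
    intro m hm0 hm1
    have h2 : eval (p m) (P - Q * L) = 0 := by rw [map_sub, map_mul, hPp, hQp, zero_mul, sub_zero]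
    rw [hPQ', map_mul, eval_lp] at h2
    exact (mul_eq_zero.1 h2).resolve_left (hcol 0 1 m (by decide) hm0.symm hm1.symm)
  set z := (p 2) + (p 3) with hz
  have hQz : eval z Q ≠ 0 := hβ 2 3 (by decide)
  set μ := eval z Q' / eval z Q with hμ
  have hQ'' : (Q' - C μ * Q).IsHomogeneous 2 := by
    refine hQ'.sub ?_
    have := (isHomogeneous_C (Fin 3) μ).mul hQ
    simpa using this
  obtain ⟨L'', hL'', hQL''⟩ := line_dvd (hp 2 3 (by decide)) (d := 1) hQ'' (by
    intro s t
    rw [binary2 _ hQ'']
    simp only [map_sub, map_mul, eval_C, hQp, hQ'p 2 (by decide) (by decide),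
      hQ'p 3 (by decide) (by decide), ← hz, hμ]
    field_simp
    ring)
  have hL''p : ∀ m : Fin 7, m ≠ 0 → m ≠ 1 → m ≠ 2 → m ≠ 3 → eval (p m) L'' = 0 := by
    intro m hm0 hm1 hm2 hm3
    have h2 : eval (p m) (Q' - C μ * Q) = 0 := by
      rw [map_sub, map_mul, hQ'p m hm0 hm1, hQp, mul_zero, sub_zero]
    rw [hQL'', map_mul, eval_lp] at h2
    exact (mul_eq_zero.1 h2).resolve_left (hcol 2 3 m (by decide) hm2.symm hm3.symm)
  obtain ⟨k, hk⟩ := linear_eq_smul_lp (hp 4 5 (by decide)) hL''
    (hL''p 4 (by decide) (by decide) (by decide) (by decide))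
    (hL''p 5 (by decide) (by decide) (by decide) (by decide))
  have hk0 : k = 0 := by
    have h2 := hL''p 6 (by decide) (by decide) (by decide) (by decide)
    rw [hk, map_mul, eval_C, eval_lp] at h2
    exact (mul_eq_zero.1 h2).resolve_left (hcol 4 5 6 (by decide) (by decide) (by decide))
  have hL''0 : L'' = 0 := by rw [hk, hk0, map_zero, mul_zero]
  have hQ'eq : Q' = C μ * Q := by
    have := hQL''
    rw [hL''0, mul_zero, sub_eq_zero] at this
    exact this
  refine ⟨Q, 2, Or.inr rfl, hQ, hQ0, dvd_refl Q, ⟨C μ * lp (p 0) (p 1) + L, ?_⟩⟩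
  have : P = (P - Q * L) + Q * L := by ring
  rw [this, hPQ', hQ'eq]
  ring

end Main

end Groth.Agent.Lib.Seat77.Conic
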