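import Mathlib

/-!
# Plane conics and their symmetric matrices (helper77)

For a symmetric `3 × 3` matrix `Q` over a field with `2` invertible and the ternary quadratic form
`qf Q = Σ Q i j • X i X j`:

* `L a = Σ a i • X i`, the linear form with coefficient vector `a`; `eval_L`, `L_isHomogeneous`,
  `exists_eq_L` (every linear form is an `L a`), `L_eq_zero_iff`.
* `eval_qf`, `two_mul_apply_of_eq_mul` (`qf Q = L a * L b` forces `2 Q i j = a i b j + a j b i`).
* `exists_diag`: `Q = Pᵀ * diagonal w * P` with `P` invertible; `qf_eq_sum_sq`, `rank_eq_card`, `det_eq`.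
* `eval_pderiv_qf`: the gradient of `qf Q` at `u` is `2 Q u`.
* `exists_L_mul_L_of_mul`: if a quadratic form is a product of two non-units then it is a product of two
  linear forms.
-/

namespace Groth.Agent.Lib.Seat77.Conic2

open MvPolynomial Matrix

variable {K : Type*} [Field K]

/-- the linear form with coefficient vector `a` -/
noncomputable def L (a : Fin 3 → K) : MvPolynomial (Fin 3) K := ∑ i : Fin 3, a i • X i

theorem eval_L (a x : Fin 3 → K) : eval x (L a) = ∑ i, a i * x i := by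
  simp [L, smul_eval]

theorem L_isHomogeneous (a : Fin 3 → K) : (L a).IsHomogeneous 1 := by
  unfold L
  apply IsHomogeneous.sum
  intro i _
  have := (isHomogeneous_C (Fin 3) (a i)).mul (isHomogeneous_X K i)
  simpa [smul_eq_C_mul] using this

theorem exists_eq_L {ℓ : MvPolynomial (Fin 3) K} (hℓ : ℓ.IsHomogeneous 1) : ∃ a, ℓ = L a := by
  have hmem : ℓ ∈ homogeneousSubmodule (Fin 3) K 1 := hℓ
  rw [homogeneousSubmodule_one_eq_span_X, Submodule.mem_span_range_iff_exists_fun] at hmem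
  obtain ⟨a, ha⟩ := hmem
  exact ⟨a, ha.symm⟩

theorem L_eq_zero_iff (a : Fin 3 → K) : L a = 0 ↔ a = 0 := by
  constructor
  · intro h
    funext i
    have := congrArg (eval (Pi.single i 1)) h
    rw [eval_L] at this
    simpa [Pi.single_apply] using this
  · rintro rfl
    simp [L]

theorem L_add (a b : Fin 3 → K) : L (a + b) = L a + L b := by
  simp [L, add_smul, Finset.sum_add_distrib]

theorem L_sub (a b : Fin 3 → K) : L (a - b) = L a - L b := by
  simp [L, sub_smul, Finset.sum_sub_distrib]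

theorem L_smul (c : K) (a : Fin 3 → K) : L (c • a) = c • L a := by
  simp [L, Finset.smul_sum, smul_smul]

/-- the ternary quadratic form of a matrix -/
noncomputable def qf (Q : Matrix (Fin 3) (Fin 3) K) : MvPolynomial (Fin 3) K :=
  ∑ i : Fin 3, ∑ j : Fin 3, Q i j • (X i * X j)

theorem eval_qf (Q : Matrix (Fin 3) (Fin 3) K) (x : Fin 3 → K) :
    eval x (qf Q) = ∑ i, ∑ j, Q i j * (x i * x j) := by
  simp [qf, smul_eval]

theorem qf_isHomogeneous (Q : Matrix (Fin 3) (Fin 3) K) : (qf Q).IsHomogeneous 2 := by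
  unfold qf
  apply IsHomogeneous.sum
  intro i _
  apply IsHomogeneous.sum
  intro j _
  have := (isHomogeneous_C (Fin 3) (Q i j)).mul ((isHomogeneous_X K i).mul (isHomogeneous_X K j))
  simpa [smul_eq_C_mul] using this

/-- if `qf Q = L a * L b` with `Q` symmetric then `2 Q = a bᵀ + b aᵀ` -/
theorem two_mul_apply_of_eq_mul {Q : Matrix (Fin 3) (Fin 3) K} (hQ : Q.IsSymm) {a b : Fin 3 → K}
    (h : qf Q = L a * L b) (i j : Fin 3) : 2 * Q i j = a i * b j + a j * b i := by
  have key : ∀ x : Fin 3 → K, ∑ i, ∑ j, Q i j * (x i * x j) = (∑ i, a i * x i) * (∑ i, b i * x i) := by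
    intro x
    rw [← eval_qf, h, map_mul, eval_L, eval_L]
  have h1 := key ![1, 0, 0]
  have h2 := key ![0, 1, 0]
  have h3 := key ![0, 0, 1]
  have h4 := key ![1, 1, 0]
  have h5 := key ![1, 0, 1]
  have h6 := key ![0, 1, 1]
  simp [Fin.sum_univ_three] at h1 h2 h3 h4 h5 h6
  have s01 : Q 1 0 = Q 0 1 := hQ.apply 0 1
  have s02 : Q 2 0 = Q 0 2 := hQ.apply 0 2
  have s12 : Q 2 1 = Q 1 2 := hQ.apply 1 2
  rw [s01] at h4
  rw [s02] at h5
  rw [s12] at h6
  fin_cases i <;> fin_cases j <;> simp only [Fin.zero_eta, Fin.mk_one, Fin.reduceFinMk, Fin.isValue]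
  · linear_combination 2 * h1
  · linear_combination h4 - h1 - h2
  · linear_combination h5 - h1 - h3
  · rw [s01]; linear_combination h4 - h1 - h2
  · linear_combination 2 * h2
  · linear_combination h6 - h2 - h3
  · rw [s02]; linear_combination h5 - h1 - h3
  · rw [s12]; linear_combination h6 - h2 - h3
  · linear_combination 2 * h3

/-- diagonalization of a symmetric `3 × 3` matrix over a field with `2` invertible -/
theorem exists_diag [Invertible (2 : K)] {Q : Matrix (Fin 3) (Fin 3) K} (hQ : Q.IsSymm) :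
    ∃ (P : Matrix (Fin 3) (Fin 3) K) (w : Fin 3 → K), IsUnit P.det ∧ Q = Pᵀ * diagonal w * P := by
  classical
  have hB : LinearMap.IsSymm (Matrix.toBilin' Q) :=
    LinearMap.BilinForm.isSymm_iff.mp (Matrix.isSymm_toBilin'_iff_isSymm.mpr hQ)
  obtain ⟨v0, hv0⟩ := LinearMap.BilinForm.exists_orthogonal_basis hB
  have e : Fin (Module.finrank K (Fin 3 → K)) ≃ Fin 3 := finCongr (by simp)
  let v := v0.reindex e
  have hv : ∀ i j, i ≠ j → Matrix.toBilin' Q (v i) (v j) = 0 := by
    intro i j hij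
    have := hv0 (show e.symm i ≠ e.symm j by simpa using hij)
    simpa [v] using this
  let S : Matrix (Fin 3) (Fin 3) K := (Pi.basisFun K (Fin 3)).toMatrix v
  have hS : IsUnit S.det := by
    have := (Pi.basisFun K (Fin 3)).invertibleToMatrix v
    exact Matrix.isUnit_det_of_invertible S
  have hSij : ∀ i j, S i j = v j i := by
    intro i j
    simp [S, Module.Basis.toMatrix_apply]
  have hD : Sᵀ * Q * S = diagonal (fun i => Matrix.toBilin' Q (v i) (v i)) := by
    ext i j
    have : (Sᵀ * Q * S) i j = Matrix.toBilin' Q (v i) (v j) := by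
      rw [Matrix.toBilin'_apply']
      simp only [Matrix.mul_apply, Matrix.transpose_apply, hSij, dotProduct, Matrix.mulVec,
        Fin.sum_univ_three]
      ring
    rw [this]
    by_cases hij : i = j
    · subst hij; simp
    · rw [hv i j hij, Matrix.diagonal_apply_ne _ hij]
  refine ⟨S⁻¹, fun i => Matrix.toBilin' Q (v i) (v i), ?_, ?_⟩
  · rw [Matrix.det_nonsing_inv]
    exact (Ring.inverse_unit hS.unit ▸ (hS.unit⁻¹).isUnit : IsUnit (Ring.inverse S.det))
  · rw [← hD]
    have h1 : S * S⁻¹ = 1 := Matrix.mul_nonsing_inv S hS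
    calc Q = (S * S⁻¹)ᵀ * Q * (S * S⁻¹) := by rw [h1]; simp
      _ = S⁻¹ᵀ * (Sᵀ * Q * S) * S⁻¹ := by
        rw [Matrix.transpose_mul]; simp only [Matrix.mul_assoc]

theorem qf_eq_sum_sq [Infinite K] {Q P : Matrix (Fin 3) (Fin 3) K} {w : Fin 3 → K}
    (h : Q = Pᵀ * diagonal w * P) : qf Q = ∑ i, w i • (L (P i)) ^ 2 := by
  apply MvPolynomial.funext
  intro x
  rw [eval_qf, map_sum]
  simp only [smul_eval, map_pow, eval_L]
  subst h
  simp only [Matrix.mul_apply, Matrix.transpose_apply, Matrix.diagonal_apply, Fin.sum_univ_three]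
  simp
  ring

theorem rank_eq_card [DecidableEq K] {Q P : Matrix (Fin 3) (Fin 3) K} {w : Fin 3 → K}
    (hP : IsUnit P.det) (h : Q = Pᵀ * diagonal w * P) :
    Q.rank = Fintype.card {i // w i ≠ 0} := by
  rw [h, Matrix.rank_mul_eq_left_of_isUnit_det P _ hP,
    Matrix.rank_mul_eq_right_of_isUnit_det Pᵀ _ (by rwa [Matrix.det_transpose]),
    Matrix.rank_diagonal]

theorem det_eq {Q P : Matrix (Fin 3) (Fin 3) K} {w : Fin 3 → K}
    (h : Q = Pᵀ * diagonal w * P) : Q.det = P.det ^ 2 * (w 0 * w 1 * w 2) := by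
  rw [h, Matrix.det_mul, Matrix.det_mul, Matrix.det_transpose, Matrix.det_diagonal,
    Fin.prod_univ_three]
  ring

theorem eval_pderiv_qf {Q : Matrix (Fin 3) (Fin 3) K} (hQ : Q.IsSymm) (u : Fin 3 → K) (i : Fin 3) :
    eval u (pderiv i (qf Q)) = 2 * (Q *ᵥ u) i := by
  have s01 : Q 1 0 = Q 0 1 := hQ.apply 0 1
  have s02 : Q 2 0 = Q 0 2 := hQ.apply 0 2
  have s12 : Q 2 1 = Q 1 2 := hQ.apply 1 2
  simp only [qf, Derivation.map_smul, Derivation.leibniz, pderiv_X, smul_eval, map_add,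
    smul_eq_mul, map_mul, eval_X, Matrix.mulVec, dotProduct, Fin.sum_univ_three]
  fin_cases i <;> simp [s01, s02, s12] <;> ring

theorem totalDegree_pos_of_not_isUnit {g : MvPolynomial (Fin 3) K} (hg0 : g ≠ 0) (hg : ¬ IsUnit g) :
    0 < g.totalDegree := by
  by_contra h
  have h0 : g.totalDegree = 0 := by omega
  rw [totalDegree_eq_zero_iff_eq_C] at h0
  apply hg
  rw [h0]
  apply IsUnit.map
  rw [isUnit_iff_ne_zero]
  intro hc
  apply hg0
  rw [h0, hc, C_0]

/-- decomposition of a polynomial of total degree one -/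
theorem eq_C_add_L {g : MvPolynomial (Fin 3) K} (hg : g.totalDegree = 1) :
    ∃ (c : K) (a : Fin 3 → K), g = C c + L a := by
  obtain ⟨a, ha⟩ := exists_eq_L (homogeneousComponent_isHomogeneous 1 g)
  refine ⟨coeff 0 g, a, ?_⟩
  have := sum_homogeneousComponent g
  rw [hg] at this
  conv_lhs => rw [← this]
  simp [Finset.sum_range_succ, homogeneousComponent_zero, ha]

/-- a quadratic form which is a product of two non-units is a product of two linear forms -/
theorem exists_L_mul_L_of_mul {F g h : MvPolynomial (Fin 3) K} (hF : F.IsHomogeneous 2) (hF0 : F ≠ 0)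
    (hgh : F = g * h) (hg : ¬ IsUnit g) (hh : ¬ IsUnit h) : ∃ a b, F = L a * L b := by
  have hg0 : g ≠ 0 := by rintro rfl; exact hF0 (by rw [hgh, zero_mul])
  have hh0 : h ≠ 0 := by rintro rfl; exact hF0 (by rw [hgh, mul_zero])
  have h1 := totalDegree_pos_of_not_isUnit hg0 hg
  have h2 := totalDegree_pos_of_not_isUnit hh0 hh
  have h3 : g.totalDegree + h.totalDegree = 2 := by
    rw [← totalDegree_mul_of_isDomain hg0 hh0, ← hgh, hF.totalDegree hF0]
  obtain ⟨c, a, rfl⟩ := eq_C_add_L (show g.totalDegree = 1 by omega)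
  obtain ⟨d, b, rfl⟩ := eq_C_add_L (show h.totalDegree = 1 by omega)
  refine ⟨a, b, ?_⟩
  have e : F = C (c * d) + (L (c • b) + L (d • a)) + L a * L b := by
    rw [hgh, L_smul, L_smul, C_mul, smul_eq_C_mul, smul_eq_C_mul]; ring
  have hc0 : (C (c * d) : MvPolynomial (Fin 3) K).IsHomogeneous 0 := isHomogeneous_C _ _
  have hc1 : (L (c • b) + L (d • a)).IsHomogeneous 1 := (L_isHomogeneous _).add (L_isHomogeneous _)
  have hc2 : (L a * L b).IsHomogeneous 2 := (L_isHomogeneous a).mul (L_isHomogeneous b)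
  have := congrArg (homogeneousComponent 2) e
  rw [map_add, map_add, homogeneousComponent_of_mem hF, homogeneousComponent_of_mem hc0,
    homogeneousComponent_of_mem hc1, homogeneousComponent_of_mem hc2] at this
  simpa using this

theorem eq_zero_of_rank_eq_zero {Q : Matrix (Fin 3) (Fin 3) K} (h0 : Q.rank = 0) : Q = 0 := by
  rw [Matrix.rank, Submodule.finrank_eq_zero, LinearMap.range_eq_bot] at h0
  have : Matrix.toLin' Q = 0 := by rw [Matrix.toLin'_apply']; exact h0
  exact (LinearEquiv.map_eq_zero_iff _).mp this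


theorem exists_common_zero (a b : Fin 3 → K) :
    ∃ u : Fin 3 → K, u ≠ 0 ∧ ∑ i, a i * u i = 0 ∧ ∑ i, b i * u i = 0 := by
  have hdet : (Matrix.of ![a, b, 0] : Matrix (Fin 3) (Fin 3) K).det = 0 := by
    simp [Matrix.det_fin_three]
  obtain ⟨u, hu, h⟩ := Matrix.exists_mulVec_eq_zero_iff.mpr hdet
  refine ⟨u, hu, ?_, ?_⟩
  · simpa [Matrix.mulVec, dotProduct] using congrFun h 0
  · simpa [Matrix.mulVec, dotProduct] using congrFun h 1

theorem det_eq_zero_of_eq_mul (h2 : (2 : K) ≠ 0) {Q : Matrix (Fin 3) (Fin 3) K} (hQ : Q.IsSymm)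
    {a b : Fin 3 → K} (h : qf Q = L a * L b) : Q.det = 0 := by
  obtain ⟨u, hu, hau, hbu⟩ := exists_common_zero a b
  apply Matrix.exists_mulVec_eq_zero_iff.mp
  refine ⟨u, hu, ?_⟩
  funext i
  have key : ∀ j, 2 * Q i j = a i * b j + a j * b i := two_mul_apply_of_eq_mul hQ h i
  have : 2 * (Q *ᵥ u) i = 0 := by
    simp only [Matrix.mulVec, dotProduct, Finset.mul_sum, ← mul_assoc, key]
    simp only [add_mul, Finset.sum_add_distrib, mul_assoc, ← Finset.mul_sum]
    have e1 : ∑ j, b j * u j = 0 := hbu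
    have e2 : ∑ j, a j * (b i * u j) = b i * ∑ j, a j * u j := by
      rw [Finset.mul_sum]; exact Finset.sum_congr rfl fun j _ => by ring
    rw [e1, e2, hau]; ring
  simpa [h2] using this

theorem rank_eq_one_of_eq_sq [DecidableEq K] (h2 : (2 : K) ≠ 0) {Q : Matrix (Fin 3) (Fin 3) K}
    (hQ : Q.IsSymm) (hQ0 : Q ≠ 0) {a : Fin 3 → K} (h : qf Q = L a ^ 2) : Q.rank = 1 := by
  have hQa : Q = Matrix.vecMulVec a a := by
    ext i j
    have := two_mul_apply_of_eq_mul hQ (by rw [h, sq]) i j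
    rw [Matrix.vecMulVec_apply]
    have h3 : 2 * Q i j = 2 * (a i * a j) := by rw [this]; ring
    exact mul_left_cancel₀ h2 h3
  have h1 : Q.rank ≤ 1 := hQa ▸ Matrix.rank_vecMulVec_le a a
  have h0 : Q.rank ≠ 0 := by
    intro h0
    apply hQ0
    exact eq_zero_of_rank_eq_zero h0
  omega

theorem exists_det_ne_zero {a b : Fin 3 → K} (hab : LinearIndependent K ![a, b]) :
    ∃ y : Fin 3 → K, y ⬝ᵥ (crossProduct a b) ≠ 0 := by
  have hc := crossProduct_ne_zero_iff_linearIndependent.mpr hab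
  obtain ⟨i, hi⟩ : ∃ i, (crossProduct a b) i ≠ 0 := by
    by_contra hcon
    push Not at hcon
    exact hc (funext hcon)
  refine ⟨Pi.single i 1, ?_⟩
  simpa using hi

theorem rank_eq_two_of_eq_mul [DecidableEq K] (h2 : (2 : K) ≠ 0) {Q : Matrix (Fin 3) (Fin 3) K}
    (hQ : Q.IsSymm) {a b : Fin 3 → K} (hab : LinearIndependent K ![a, b]) (h : qf Q = L a * L b) :
    Q.rank = 2 := by
  obtain ⟨y, hy⟩ := exists_det_ne_zero hab
  let P : Matrix (Fin 3) (Fin 3) K := Matrix.of ![a + b, a - b, y]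
  have hPdet : P.det = -2 * (y ⬝ᵥ (crossProduct a b)) := by
    rw [Matrix.det_fin_three, cross_apply, vec3_dotProduct]
    simp [P]
    ring
  have hP : IsUnit P.det := by
    rw [isUnit_iff_ne_zero, hPdet]
    exact mul_ne_zero (neg_ne_zero.mpr h2) hy
  have h4 : (4 : K) ≠ 0 := by
    have : (4 : K) = 2 * 2 := by norm_num
    rw [this]; exact mul_ne_zero h2 h2
  let w : Fin 3 → K := ![1 / 4, -1 / 4, 0]
  have hQP : Q = Pᵀ * diagonal w * P := by
    ext i j
    have key := two_mul_apply_of_eq_mul hQ h i j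
    have e : (Pᵀ * diagonal w * P) i j =
        1 / 4 * ((a i + b i) * (a j + b j)) - 1 / 4 * ((a i - b i) * (a j - b j)) := by
      simp only [Matrix.mul_apply, Matrix.transpose_apply, Matrix.diagonal_apply, Fin.sum_univ_three]
      simp [P, w]
      ring
    rw [e]
    field_simp
    linear_combination 2 * key
  rw [rank_eq_card hP hQP]
  have : Fintype.card {i // w i ≠ 0} = Fintype.card (Fin 2) := by
    apply Fintype.card_congr
    refine ⟨fun x => ⟨x.1.1, ?_⟩, fun x => ⟨⟨x.1, by omega⟩, ?_⟩, ?_, ?_⟩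
    · rcases x with ⟨x, hx⟩
      fin_cases x
      · simp
      · simp
      · simp [w] at hx
    · fin_cases x
      · simpa [w] using h4
      · simpa [w] using h4
    · intro x; rfl
    · intro x; rfl
  rw [this]; rfl

theorem card_eq [DecidableEq K] (w : Fin 3 → K) :
    Fintype.card {i // w i ≠ 0} =
      (if w 0 ≠ 0 then 1 else 0) + (if w 1 ≠ 0 then 1 else 0) + (if w 2 ≠ 0 then 1 else 0) := by
  rw [Fintype.card_subtype, Finset.card_filter, Fin.sum_univ_three]

theorem rows_pair {P : Matrix (Fin 3) (Fin 3) K} (hP : IsUnit P.det) {i j : Fin 3} (hij : i ≠ j)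
    (s t : K) (h : s • P i + t • P j = 0) : s = 0 ∧ t = 0 := by
  have hinj := Matrix.vecMul_injective_of_isUnit ((Matrix.isUnit_iff_isUnit_det P).mpr hP)
  have h1 : (Pi.single i s + Pi.single j t) ᵥ* P = 0 ᵥ* P := by
    rw [Matrix.add_vecMul, Matrix.single_vecMul, Matrix.single_vecMul, Matrix.zero_vecMul]
    exact h
  have h2 := hinj h1
  constructor
  · have := congrFun h2 i
    simpa [Pi.single_apply, hij] using this
  · have := congrFun h2 j
    simpa [Pi.single_apply, hij.symm] using this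

theorem exists_factor [IsAlgClosed K] (h2 : (2 : K) ≠ 0) {P : Matrix (Fin 3) (Fin 3) K}
    (hP : IsUnit P.det) {i j : Fin 3} (hij : i ≠ j) {s t : K} (hs : s ≠ 0) (ht : t ≠ 0) :
    ∃ a b : Fin 3 → K, LinearIndependent K ![a, b] ∧
      s • L (P i) ^ 2 + t • L (P j) ^ 2 = L a * L b := by
  obtain ⟨α, hα⟩ := IsAlgClosed.exists_pow_nat_eq s (n := 2) (by norm_num)
  obtain ⟨β, hβ⟩ := IsAlgClosed.exists_pow_nat_eq (-t) (n := 2) (by norm_num)
  have hα0 : α ≠ 0 := by rintro rfl; apply hs; rw [← hα]; ring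
  have hβ0 : β ≠ 0 := by rintro rfl; apply ht; have : -t = 0 := by rw [← hβ]; ring
                         simpa using this
  refine ⟨α • P i + β • P j, α • P i - β • P j, ?_, ?_⟩
  · rw [LinearIndependent.pair_iff]
    intro x y hxy
    have e : (x * α + y * α) • P i + (x * β - y * β) • P j = 0 := by
      rw [← hxy]; module
    obtain ⟨e1, e2⟩ := rows_pair hP hij _ _ e
    have e1' : x + y = 0 := by
      have : (x + y) * α = 0 := by rw [← e1]; ring
      exact (mul_eq_zero.mp this).resolve_right hα0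
    have e2' : x - y = 0 := by
      have : (x - y) * β = 0 := by rw [← e2]; ring
      exact (mul_eq_zero.mp this).resolve_right hβ0
    have hx : 2 * x = 0 := by linear_combination e1' + e2'
    have hy : 2 * y = 0 := by linear_combination e1' - e2'
    exact ⟨(mul_eq_zero.mp hx).resolve_left h2, (mul_eq_zero.mp hy).resolve_left h2⟩
  · rw [L_add, L_sub, L_smul, L_smul, ← hα]
    have : t = -(β ^ 2) := by rw [hβ]; ring
    rw [this]
    simp only [smul_eq_C_mul, map_pow, map_neg]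
    ring

theorem exists_sq_of_rank_one [IsAlgClosed K] [Invertible (2 : K)] {Q : Matrix (Fin 3) (Fin 3) K}
    (hQ : Q.IsSymm) (hr : Q.rank = 1) : ∃ a : Fin 3 → K, qf Q = L a ^ 2 := by
  classical
  obtain ⟨P, w, hP, hQP⟩ := exists_diag hQ
  rw [rank_eq_card hP hQP, card_eq] at hr
  have hsum := qf_eq_sum_sq hQP
  rw [Fin.sum_univ_three] at hsum
  have one : ∀ (i : Fin 3) (s : K), ∃ a : Fin 3 → K, s • L (P i) ^ 2 = L a ^ 2 := by
    intro i s
    obtain ⟨α, hα⟩ := IsAlgClosed.exists_pow_nat_eq s (n := 2) (by norm_num)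
    refine ⟨α • P i, ?_⟩
    rw [L_smul, ← hα]
    simp only [smul_eq_C_mul, map_pow]
    ring
  by_cases h0 : w 0 = 0 <;> by_cases h1 : w 1 = 0 <;> by_cases h2 : w 2 = 0 <;>
    simp [h0, h1, h2] at hr
  · obtain ⟨a, ha⟩ := one 2 (w 2)
    exact ⟨a, by rw [hsum, h0, h1, ← ha]; simp⟩
  · obtain ⟨a, ha⟩ := one 1 (w 1)
    exact ⟨a, by rw [hsum, h0, h2, ← ha]; simp⟩
  · obtain ⟨a, ha⟩ := one 0 (w 0)
    exact ⟨a, by rw [hsum, h1, h2, ← ha]; simp⟩

theorem exists_mul_of_rank_two [IsAlgClosed K] [Invertible (2 : K)] {Q : Matrix (Fin 3) (Fin 3) K}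
    (hQ : Q.IsSymm) (hr : Q.rank = 2) :
    ∃ a b : Fin 3 → K, LinearIndependent K ![a, b] ∧ qf Q = L a * L b := by
  classical
  have h2' : (2 : K) ≠ 0 := (isUnit_of_invertible (2 : K)).ne_zero
  obtain ⟨P, w, hP, hQP⟩ := exists_diag hQ
  rw [rank_eq_card hP hQP, card_eq] at hr
  have hsum := qf_eq_sum_sq hQP
  rw [Fin.sum_univ_three] at hsum
  by_cases h0 : w 0 = 0 <;> by_cases h1 : w 1 = 0 <;> by_cases h2 : w 2 = 0 <;>
    simp [h0, h1, h2] at hr
  · obtain ⟨a, b, hab, h⟩ := exists_factor h2' hP (show (1 : Fin 3) ≠ 2 by decide) h1 h2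
    exact ⟨a, b, hab, by rw [hsum, h0, ← h]; simp⟩
  · obtain ⟨a, b, hab, h⟩ := exists_factor h2' hP (show (0 : Fin 3) ≠ 2 by decide) h0 h2
    exact ⟨a, b, hab, by rw [hsum, h1, ← h]; simp⟩
  · obtain ⟨a, b, hab, h⟩ := exists_factor h2' hP (show (0 : Fin 3) ≠ 1 by decide) h0 h1
    exact ⟨a, b, hab, by rw [hsum, h2, ← h]; simp⟩

theorem rank_le_two_of_det_eq_zero [Invertible (2 : K)] {Q : Matrix (Fin 3) (Fin 3) K}
    (hQ : Q.IsSymm) (hd : Q.det = 0) : Q.rank ≤ 2 := by
  classical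
  obtain ⟨P, w, hP, hQP⟩ := exists_diag hQ
  rw [rank_eq_card hP hQP, card_eq]
  rw [det_eq hQP] at hd
  have hP0 : P.det ^ 2 ≠ 0 := pow_ne_zero _ hP.ne_zero
  have hw : w 0 * w 1 * w 2 = 0 := (mul_eq_zero.mp hd).resolve_left hP0
  by_cases h0 : w 0 = 0 <;> by_cases h1 : w 1 = 0 <;> by_cases h2 : w 2 = 0 <;>
    simp [h0, h1, h2] at hw ⊢

end Groth.Agent.Lib.Seat77.Conic2
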