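import Mathlib

/-!
# Linear families of singular `2 × 2` matrices (helper77)

* `dichotomy`: if `A`, `B`, `A + B` are singular `2 × 2` matrices then `B * adj A = 0` or `adj A * B = 0`.
* `family`: an additive family `N x` of `2 × 2` matrices, singular for `x` in an additively closed set `H`, has a
  common nonzero right kernel vector or a common nonzero left kernel vector on `H`.
* `exists_perp`: a linear map `k³ → k²` vanishing on the kernel of a linear form has image in a line.
* `exists_row_col`: if `det (N x) = l₁ x * l₂ x` for a linear family `N` and a linear form `l₁`, there are nonzero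
  `r`, `c` with `r (N x) c = 0` for all `x`.
* `exists_GL_row`, `exists_GL_col`: a nonzero vector is the first row / second column of an element of `GL₂`.
-/

namespace Groth.Agent.Lib.Seat77.Conic3

open Matrix

variable {k : Type*} [Field k]

theorem dichotomy (A B : Matrix (Fin 2) (Fin 2) k) (hA : A.det = 0) (hB : B.det = 0)
    (hAB : (A + B).det = 0) : B * A.adjugate = 0 ∨ A.adjugate * B = 0 := by
  rw [Matrix.det_fin_two] at hA hB hAB
  simp only [Matrix.add_apply] at hAB
  by_contra hcon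
  push Not at hcon
  obtain ⟨hX, hY⟩ := hcon
  obtain ⟨i, j, hij⟩ : ∃ i j, (B * A.adjugate) i j ≠ 0 := by
    by_contra h
    push Not at h
    exact hX (Matrix.ext h)
  obtain ⟨m, l, hml⟩ : ∃ m l, (A.adjugate * B) m l ≠ 0 := by
    by_contra h
    push Not at h
    exact hY (Matrix.ext h)
  have key : (B * A.adjugate) i j * (A.adjugate * B) m l = 0 := by
    simp only [Matrix.mul_apply, Matrix.adjugate_fin_two, Fin.sum_univ_two]
    fin_cases i <;> fin_cases j <;> fin_cases m <;> fin_cases l <;> simp <;> grind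
  exact mul_ne_zero hij hml key

theorem adjugate_ne_zero {A : Matrix (Fin 2) (Fin 2) k} (hA : A ≠ 0) : A.adjugate ≠ 0 := by
  intro h
  apply hA
  rw [Matrix.adjugate_fin_two] at h
  ext i j
  have h00 := congrFun (congrFun h 0) 0
  have h01 := congrFun (congrFun h 0) 1
  have h10 := congrFun (congrFun h 1) 0
  have h11 := congrFun (congrFun h 1) 1
  simp at h00 h01 h10 h11
  fin_cases i <;> fin_cases j <;> simp [*]

theorem family {V : Type*} [AddCommGroup V] (N : V → Matrix (Fin 2) (Fin 2) k)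
    (hadd : ∀ x y, N (x + y) = N x + N y) (H : Set V)
    (Hadd : ∀ x y, x ∈ H → y ∈ H → x + y ∈ H) (hdet : ∀ x ∈ H, (N x).det = 0) :
    (∃ c : Fin 2 → k, c ≠ 0 ∧ ∀ x ∈ H, N x *ᵥ c = 0) ∨
      (∃ r : Fin 2 → k, r ≠ 0 ∧ ∀ x ∈ H, r ᵥ* N x = 0) := by
  by_cases hall : ∀ x ∈ H, N x = 0
  · left
    refine ⟨![1, 0], by simp, fun x hx => ?_⟩
    rw [hall x hx, Matrix.zero_mulVec]
  push Not at hall
  obtain ⟨x₀, hx₀, hA⟩ := hall
  set A := N x₀ with hAdef
  have hadj := adjugate_ne_zero hA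
  have hdich : ∀ x ∈ H, N x * A.adjugate = 0 ∨ A.adjugate * N x = 0 := by
    intro x hx
    apply dichotomy A (N x) (hdet x₀ hx₀) (hdet x hx)
    rw [hAdef, ← hadd]
    exact hdet _ (Hadd _ _ hx₀ hx)
  have hone : (∀ x ∈ H, N x * A.adjugate = 0) ∨ (∀ x ∈ H, A.adjugate * N x = 0) := by
    by_contra hcon
    push Not at hcon
    obtain ⟨⟨x₁, hx₁, h1⟩, ⟨x₂, hx₂, h2⟩⟩ := hcon
    have h1' := (hdich x₁ hx₁).resolve_left h1
    have h2' := (hdich x₂ hx₂).resolve_right h2
    rcases hdich (x₁ + x₂) (Hadd _ _ hx₁ hx₂) with h | h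
    · rw [hadd, Matrix.add_mul, h2', add_zero] at h
      exact h1 h
    · rw [hadd, Matrix.mul_add, h1', zero_add] at h
      exact h2 h
  rcases hone with h | h
  · left
    obtain ⟨j, hj⟩ : ∃ j, (fun i => A.adjugate i j) ≠ 0 := by
      by_contra hc
      push Not at hc
      exact hadj (Matrix.ext fun i j => congrFun (hc j) i)
    refine ⟨fun i => A.adjugate i j, hj, fun x hx => ?_⟩
    funext i
    have := congrFun (congrFun (h x hx) i) j
    simpa [Matrix.mul_apply, Matrix.mulVec, dotProduct] using this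
  · right
    obtain ⟨i, hi⟩ : ∃ i, A.adjugate i ≠ 0 := by
      by_contra hc
      push Not at hc
      exact hadj (Matrix.ext fun i j => congrFun (hc i) j)
    refine ⟨A.adjugate i, hi, fun x hx => ?_⟩
    funext j
    have := congrFun (congrFun (h x hx) i) j
    simpa [Matrix.mul_apply, Matrix.vecMul, dotProduct] using this

theorem exists_perp {V : Type*} [AddCommGroup V] [Module k V] (φ : V →ₗ[k] (Fin 2 → k))
    (l : V →ₗ[k] k) (h : ∀ x, l x = 0 → φ x = 0) :
    ∃ r : Fin 2 → k, r ≠ 0 ∧ ∀ x, r ⬝ᵥ φ x = 0 := by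
  by_cases hx : ∃ x₀, l x₀ ≠ 0
  · obtain ⟨x₀, hx₀⟩ := hx
    set v := φ x₀ with hv
    obtain ⟨r, hr0, hrv⟩ : ∃ r : Fin 2 → k, r ≠ 0 ∧ r ⬝ᵥ v = 0 := by
      by_cases hv0 : v = 0
      · exact ⟨![1, 0], by simp, by rw [hv0]; simp⟩
      · refine ⟨![v 1, -v 0], ?_, ?_⟩
        · intro hc
          apply hv0
          have h0 := congrFun hc 0
          have h1 := congrFun hc 1
          simp at h0 h1
          funext i
          fin_cases i <;> simp [h0, h1]
        · simp [dotProduct, Fin.sum_univ_two]; ring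
    refine ⟨r, hr0, fun x => ?_⟩
    have hx' : l (x - (l x / l x₀) • x₀) = 0 := by
      rw [map_sub, map_smul, smul_eq_mul, div_mul_cancel₀ _ hx₀, sub_self]
    have := h _ hx'
    rw [map_sub, map_smul, sub_eq_zero] at this
    rw [this, dotProduct_smul, hrv, smul_zero]
  · push Not at hx
    refine ⟨![1, 0], by simp, fun x => ?_⟩
    rw [h x (hx x)]; simp

theorem exists_row_col {V : Type*} [AddCommGroup V] [Module k V]
    (N : V →ₗ[k] Matrix (Fin 2) (Fin 2) k) (l₁ : V →ₗ[k] k) (l₂ : V → k)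
    (hdet : ∀ x, (N x).det = l₁ x * l₂ x) :
    ∃ r c : Fin 2 → k, r ≠ 0 ∧ c ≠ 0 ∧ ∀ x, r ⬝ᵥ (N x *ᵥ c) = 0 := by
  have hfam := family (fun x => N x) (fun x y => map_add N x y) {x | l₁ x = 0}
    (fun x y hx hy => by
      simp only [Set.mem_ofPred_eq] at hx hy ⊢
      rw [map_add, hx, hy, add_zero])
    (fun x hx => by
      simp only [Set.mem_ofPred_eq] at hx
      rw [hdet, hx, zero_mul])
  rcases hfam with ⟨c, hc, h⟩ | ⟨r, hr, h⟩
  · let φ : V →ₗ[k] (Fin 2 → k) :=
      { toFun := fun x => N x *ᵥ c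
        map_add' := fun x y => by simp [Matrix.add_mulVec]
        map_smul' := fun t x => by simp [Matrix.smul_mulVec] }
    obtain ⟨r, hr, hrφ⟩ := exists_perp φ l₁ (fun x hx => h x hx)
    exact ⟨r, c, hr, hc, hrφ⟩
  · let φ : V →ₗ[k] (Fin 2 → k) :=
      { toFun := fun x => r ᵥ* N x
        map_add' := fun x y => by simp [Matrix.vecMul_add]
        map_smul' := fun t x => by simp [Matrix.vecMul_smul] }
    obtain ⟨c, hc, hcφ⟩ := exists_perp φ l₁ (fun x hx => h x hx)
    refine ⟨r, c, hr, hc, fun x => ?_⟩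
    rw [Matrix.dotProduct_mulVec, dotProduct_comm]
    exact hcφ x

theorem exists_GL_row {r : Fin 2 → k} (hr : r ≠ 0) :
    ∃ g : GL (Fin 2) k, ∀ j, g.val 0 j = r j := by
  by_cases h0 : r 0 = 0
  · have h1 : r 1 ≠ 0 := by
      intro h1
      apply hr
      funext i
      fin_cases i <;> simp [h0, h1]
    refine ⟨Matrix.GeneralLinearGroup.mkOfDetNeZero !![r 0, r 1; 1, 0] ?_, ?_⟩
    · rw [Matrix.det_fin_two_of]; simpa using h1
    · intro j; fin_cases j <;> simp [Matrix.GeneralLinearGroup.mkOfDetNeZero]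
  · refine ⟨Matrix.GeneralLinearGroup.mkOfDetNeZero !![r 0, r 1; 0, 1] ?_, ?_⟩
    · rw [Matrix.det_fin_two_of]; simpa using h0
    · intro j; fin_cases j <;> simp [Matrix.GeneralLinearGroup.mkOfDetNeZero]

theorem exists_GL_col {c : Fin 2 → k} (hc : c ≠ 0) :
    ∃ h : GL (Fin 2) k, ∀ i, h.val i 1 = c i := by
  by_cases h1 : c 1 = 0
  · have h0 : c 0 ≠ 0 := by
      intro h0
      apply hc
      funext i
      fin_cases i <;> simp [h0, h1]
    refine ⟨Matrix.GeneralLinearGroup.mkOfDetNeZero !![0, c 0; 1, c 1] ?_, ?_⟩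
    · rw [Matrix.det_fin_two_of]; simpa using h0
    · intro j; fin_cases j <;> simp [Matrix.GeneralLinearGroup.mkOfDetNeZero]
  · refine ⟨Matrix.GeneralLinearGroup.mkOfDetNeZero !![1, c 0; 0, c 1] ?_, ?_⟩
    · rw [Matrix.det_fin_two_of]; simpa using h1
    · intro j; fin_cases j <;> simp [Matrix.GeneralLinearGroup.mkOfDetNeZero]

end Groth.Agent.Lib.Seat77.Conic3
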