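import Mathlib

/-!
# Cubic forms, part C (helper77): linear algebra of a 3-dimensional subspace with a marked vector
-/

namespace Groth.Agent.Lib.Seat77.Cubic

open Module

variable {K : Type*} [Field K] {V : Type*} [AddCommGroup V] [Module K V]

/-- coordinates on a 3-dimensional subspace adapted to a nonzero vector -/
theorem exists_adapted [FiniteDimensional K V] (H : Submodule K V) (hH : finrank K H = 3)
    (a : V) (haH : a ∈ H) (ha : a ≠ 0) :
    ∃ (w₁ w₂ : V) (T₀ T₁ T₂ : V →ₗ[K] K), w₁ ∈ H ∧ w₂ ∈ H ∧ T₁ a = 0 ∧ T₂ a = 0 ∧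
      T₁ w₁ = 1 ∧ T₁ w₂ = 0 ∧ T₂ w₁ = 0 ∧ T₂ w₂ = 1 ∧
      ∀ x ∈ H, x = T₀ x • a + T₁ x • w₁ + T₂ x • w₂ := by
  let a' : H := ⟨a, haH⟩
  have ha' : a' ≠ 0 := fun h => ha (congrArg Subtype.val h)
  have h0 : LinearIndependent K ![a'] := LinearIndependent.of_subsingleton 0 ha'
  obtain ⟨x₁, h1⟩ := exists_linearIndependent_cons_of_lt_finrank h0 (by rw [hH]; norm_num)
  obtain ⟨x₂, h2⟩ := exists_linearIndependent_cons_of_lt_finrank h1 (by rw [hH]; norm_num)
  let b : Basis (Fin 3) K H := basisOfLinearIndependentOfCardEqFinrank h2 (by simp [hH])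
  have hb : ⇑b = Fin.cons x₂ (Fin.cons x₁ ![a']) := coe_basisOfLinearIndependentOfCardEqFinrank _ _
  have hb0 : b 0 = x₂ := by rw [hb]; rfl
  have hb1 : b 1 = x₁ := by rw [hb]; rfl
  have hb2 : b 2 = a' := by rw [hb]; rfl
  obtain ⟨T₀, hT₀⟩ := LinearMap.exists_extend (b.coord 2)
  obtain ⟨T₁, hT₁⟩ := LinearMap.exists_extend (b.coord 1)
  obtain ⟨T₂, hT₂⟩ := LinearMap.exists_extend (b.coord 0)
  have e₀ : ∀ x : H, T₀ x = b.coord 2 x := fun x => congrArg (fun f => f x) hT₀
  have e₁ : ∀ x : H, T₁ x = b.coord 1 x := fun x => congrArg (fun f => f x) hT₁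
  have e₂ : ∀ x : H, T₂ x = b.coord 0 x := fun x => congrArg (fun f => f x) hT₂
  refine ⟨x₁, x₂, T₀, T₁, T₂, x₁.2, x₂.2, ?_, ?_, ?_, ?_, ?_, ?_, ?_⟩
  · have := e₁ (b 2)
    rw [Basis.coord_apply, Basis.repr_self, Finsupp.single_apply, hb2] at this
    simpa using this
  · have := e₂ (b 2)
    rw [Basis.coord_apply, Basis.repr_self, Finsupp.single_apply, hb2] at this
    simpa using this
  · have := e₁ (b 1)
    rw [Basis.coord_apply, Basis.repr_self, Finsupp.single_apply, hb1] at this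
    simpa using this
  · have := e₁ (b 0)
    rw [Basis.coord_apply, Basis.repr_self, Finsupp.single_apply, hb0] at this
    simpa using this
  · have := e₂ (b 1)
    rw [Basis.coord_apply, Basis.repr_self, Finsupp.single_apply, hb1] at this
    simpa using this
  · have := e₂ (b 0)
    rw [Basis.coord_apply, Basis.repr_self, Finsupp.single_apply, hb0] at this
    simpa using this
  · intro x hx
    have h3 := b.sum_repr ⟨x, hx⟩
    rw [Fin.sum_univ_three, hb0, hb1, hb2] at h3
    have h4 := congrArg Subtype.val h3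
    simp only [Submodule.coe_add, Submodule.coe_smul] at h4
    have f₀ := e₀ ⟨x, hx⟩
    have f₁ := e₁ ⟨x, hx⟩
    have f₂ := e₂ ⟨x, hx⟩
    simp only [Basis.coord_apply] at f₀ f₁ f₂
    change T₀ x = _ at f₀
    change T₁ x = _ at f₁
    change T₂ x = _ at f₂
    rw [f₀, f₁, f₂]
    calc x = (b.repr ⟨x, hx⟩) 0 • (x₂ : V) + (b.repr ⟨x, hx⟩) 1 • (x₁ : V) +
          (b.repr ⟨x, hx⟩) 2 • a := h4.symm
      _ = _ := by abel

/-- the span of a linearly independent pair has dimension two -/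
theorem finrank_span_pair {x y : V} (h : ∀ s t : K, s • x + t • y = 0 → s = 0 ∧ t = 0) :
    finrank K (Submodule.span K ({x, y} : Set V)) = 2 := by
  have hli : LinearIndependent K ![x, y] := LinearIndependent.pair_iff.mpr h
  have h1 := finrank_span_eq_card hli
  rw [Fintype.card_fin] at h1
  have h2 : Set.range ![x, y] = ({x, y} : Set V) := by
    ext z
    simp only [Matrix.range_cons, Matrix.range_empty, Set.union_empty, Set.union_singleton,
      Set.mem_insert_iff, Set.mem_singleton_iff]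
    tauto
  rw [h2] at h1
  exact h1

end Groth.Agent.Lib.Seat77.Cubic
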