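import Mathlib
import Groth.Agent.Lib.Seat77CubicA
import Groth.Agent.Lib.Seat77CubicB
import Groth.Agent.Lib.Seat77Conic

/-!
# Lines through a singular point of a cubic surface (helper77)

`no_seven_lines`: an irreducible cubic form `F` in four variables which is not a cone, singular at `a ≠ 0`, cannot vanish
on seven planes `⟨a, x i⟩` with the `x i` pairwise independent modulo `a`.  Projection from `a` turns the lines into the
common zeros in `P²` of the quadratic form `q = D_a F` and the cubic `F` restricted to a complement; `Conic.bezout23`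
produces a common factor, which contradicts irreducibility.
-/

namespace Groth.Agent.Lib.Seat77.CubicLines

open MvPolynomial Groth.Agent.Lib.Seat77.Cubic Groth.Agent.Lib.Seat77.Conic

variable {K : Type*} [Field K]

/-- evaluation of a substituted polynomial -/
theorem eval_bind₁' {σ τ : Type*} (g : σ → MvPolynomial τ K) (P : MvPolynomial σ K) (y : τ → K) :
    eval y (bind₁ g P) = eval (fun i => eval y (g i)) P :=
  eval₂Hom_bind₁ _ _ _ _

/-- a nonzero polynomial over an infinite field has a point where it does not vanish -/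
theorem exists_eval_ne_zero [Infinite K] {n : ℕ} {P : MvPolynomial (Fin n) K} (hP : P ≠ 0) :
    ∃ y : Fin n → K, eval y P ≠ 0 := by
  by_contra hcon
  apply hP
  apply MvPolynomial.funext
  intro y
  rw [map_zero]
  by_contra h
  exact hcon ⟨y, h⟩

/-- a nonzero homogeneous polynomial of positive degree which divides an irreducible homogeneous polynomial of larger
degree: impossible. -/
theorem false_of_dvd_irreducible {n : ℕ} {F G : MvPolynomial (Fin n) K} {d e : ℕ}
    (hF : F.IsHomogeneous e) (hirr : Irreducible F) (hG : G.IsHomogeneous d) (hG0 : G ≠ 0)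
    (hd : 0 < d) (hde : d < e) (hdvd : G ∣ F) : False := by
  obtain ⟨E, hE⟩ := hdvd
  rcases hirr.isUnit_or_isUnit hE with hu | hu
  · obtain ⟨r, -, hr⟩ := isUnit_iff_eq_C_of_isReduced.1 hu
    have h0 : G.IsHomogeneous 0 := by rw [hr]; exact isHomogeneous_C _ _
    have := IsHomogeneous.inj_right hG h0 hG0
    omega
  · obtain ⟨r, -, hr⟩ := isUnit_iff_eq_C_of_isReduced.1 hu
    have hF0 : F ≠ 0 := hirr.ne_zero
    have h1 : F.IsHomogeneous (d + 0) := by
      rw [hE, hr]; exact hG.mul (isHomogeneous_C _ _)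
    have := IsHomogeneous.inj_right hF h1 hF0
    omega

section Main

variable [Infinite K]

theorem no_seven_lines (F : MvPolynomial (Fin 4) K) (hF : F.IsHomogeneous 3) (hirr : Irreducible F)
    (hcone : ¬ ∃ v : Fin 4 → K, v ≠ 0 ∧ ∑ i : Fin 4, v i • pderiv i F = 0)
    (a : Fin 4 → K) (ha : a ≠ 0) (hFa : eval a F = 0) (hsing : ∀ i : Fin 4, eval a (pderiv i F) = 0)
    (x : Fin 7 → (Fin 4 → K))
    (hx : ∀ i j, i ≠ j → ∀ r s t : K, r • a + s • x i + t • x j = 0 → s = 0 ∧ t = 0)
    (hFx : ∀ i (σ τ : K), eval (σ • a + τ • x i) F = 0) : False := by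
  classical
  -- Taylor expansion at the singular point
  have hDa : ∀ v : Fin 4 → K, D v a F = 0 := by
    intro v
    simp only [D, hsing, mul_zero, Finset.sum_const_zero]
  have hT : ∀ (v : Fin 4 → K) (σ τ : K),
      eval (σ • a + τ • v) F = σ * τ ^ 2 * D a v F + τ ^ 3 * eval v F := by
    intro v σ τ
    rw [taylor F hF, hFa, hDa]
    ring
  have hq : ∀ (v : Fin 4 → K) (σ τ : K), D a (σ • a + τ • v) F = τ ^ 2 * D a v F := by
    intro v σ τ
    rw [polar_line F hF, hFa, hDa]
    ring
  have hFxi : ∀ i, eval (x i) F = 0 := by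
    intro i
    have := hFx i 0 1
    rwa [zero_smul, zero_add, one_smul] at this
  have hqxi : ∀ i, D a (x i) F = 0 := by
    intro i
    have := hFx i 1 1
    rw [hT, hFxi] at this
    simpa using this
  -- a linear form `σ₀` with `σ₀ a = 1`
  obtain ⟨m, hm⟩ : ∃ m, a m ≠ 0 := by
    by_contra hcon
    exact ha (funext fun m => by_contra fun hm => hcon ⟨m, hm⟩)
  let σ₀ : (Fin 4 → K) →ₗ[K] K := (a m)⁻¹ • LinearMap.proj m
  have hσ₀a : σ₀ a = 1 := by
    simp only [σ₀, LinearMap.smul_apply, LinearMap.proj_apply, smul_eq_mul]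
    exact inv_mul_cancel₀ hm
  -- its kernel, with a basis
  let W₀ := LinearMap.ker σ₀
  have hW₀ : Module.finrank K W₀ = 3 := by
    change Module.finrank K (LinearMap.ker σ₀) = 3
    have h1 := LinearMap.finrank_range_add_finrank_ker σ₀
    have h2 : LinearMap.range σ₀ = ⊤ := by
      refine LinearMap.range_eq_top.2 (LinearMap.surjective_of_ne_zero ?_)
      intro h0
      rw [h0, LinearMap.zero_apply] at hσ₀a
      exact zero_ne_one hσ₀a
    rw [h2, finrank_top, Module.finrank_self, Module.finrank_fin_fun] at h1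
    omega
  let b : Module.Basis (Fin 3) K W₀ := Module.finBasisOfFinrankEq K W₀ hW₀
  let ι : (Fin 3 → K) →ₗ[K] (Fin 4 → K) := W₀.subtype ∘ₗ b.equivFun.symm.toLinearMap
  let πW : (Fin 4 → K) →ₗ[K] W₀ :=
    LinearMap.codRestrict W₀ (LinearMap.id - LinearMap.smulRight σ₀ a) (by
      intro v
      simp only [W₀, LinearMap.mem_ker, LinearMap.sub_apply, LinearMap.id_apply,
        LinearMap.smulRight_apply, map_sub, map_smul, hσ₀a, smul_eq_mul, mul_one, sub_self])
  let yv : (Fin 4 → K) →ₗ[K] (Fin 3 → K) := b.equivFun.toLinearMap ∘ₗ πW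
  have hR1 : ∀ v, ι (yv v) = v - σ₀ v • a := by
    intro v
    simp only [ι, yv, LinearMap.comp_apply, LinearEquiv.coe_coe, LinearEquiv.symm_apply_apply,
      Submodule.subtype_apply, πW, LinearMap.codRestrict_apply, LinearMap.sub_apply,
      LinearMap.id_apply, LinearMap.smulRight_apply]
  have hσι : ∀ y, σ₀ (ι y) = 0 := by
    intro y
    exact (b.equivFun.symm y).2
  have hR2 : ∀ y, yv (ι y) = y := by
    intro y
    have h1 : πW (ι y) = b.equivFun.symm y := by
      apply Subtype.ext
      simp only [πW, LinearMap.codRestrict_apply, LinearMap.sub_apply, LinearMap.id_apply,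
        LinearMap.smulRight_apply, hσι, zero_smul, sub_zero]
      rfl
    simp only [yv, LinearMap.comp_apply, h1, LinearEquiv.coe_coe, LinearEquiv.apply_symm_apply]
  have hdecomp : ∀ v, v = σ₀ v • a + (1 : K) • ι (yv v) := by
    intro v
    rw [hR1, one_smul]
    abel
  -- the substitutions
  let g : Fin 4 → MvPolynomial (Fin 3) K := fun i => linPoly (LinearMap.proj i ∘ₗ ι)
  let h : Fin 3 → MvPolynomial (Fin 4) K := fun j => linPoly (LinearMap.proj j ∘ₗ yv)
  have hg : ∀ y, (fun i => eval y (g i)) = ι y := by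
    intro y
    funext i
    simp only [g, eval_linPoly, LinearMap.comp_apply, LinearMap.proj_apply]
  have hh : ∀ v, (fun j => eval v (h j)) = yv v := by
    intro v
    funext j
    simp only [h, eval_linPoly, LinearMap.comp_apply, LinearMap.proj_apply]
  let Qp : MvPolynomial (Fin 4) K := ∑ i : Fin 4, a i • pderiv i F
  have hQp : Qp.IsHomogeneous 2 := by
    apply IsHomogeneous.sum
    intro i _
    have : (pderiv i F).IsHomogeneous (3 - 1) := hF.pderiv
    rw [smul_eq_C_mul]
    simpa using (isHomogeneous_C (Fin 4) (a i)).mul this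
  have hQpeval : ∀ v, eval v Qp = D a v F := by
    intro v
    simp only [Qp, map_sum, smul_eval, D]
  let C₃ : MvPolynomial (Fin 3) K := bind₁ g F
  let Q₃ : MvPolynomial (Fin 3) K := bind₁ g Qp
  have hC₃ : C₃.IsHomogeneous 3 := by
    have := hF.aeval g (fun i => linPoly_isHomogeneous _)
    simpa using this
  have hQ₃ : Q₃.IsHomogeneous 2 := by
    have := hQp.aeval g (fun i => linPoly_isHomogeneous _)
    simpa using this
  have hC₃eval : ∀ y, eval y C₃ = eval (ι y) F := by
    intro y
    rw [eval_bind₁', hg]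
  have hQ₃eval : ∀ y, eval y Q₃ = D a (ι y) F := by
    intro y
    rw [eval_bind₁', hg, hQpeval]
  -- `Q₃ ≠ 0` since `F` is not a cone
  have hQ₃0 : Q₃ ≠ 0 := by
    intro h0
    apply hcone
    refine ⟨a, ha, ?_⟩
    change Qp = 0
    apply MvPolynomial.funext
    intro v
    rw [map_zero, hQpeval]
    have h1 := hq (ι (yv v)) (σ₀ v) 1
    rw [← hdecomp v] at h1
    rw [h1, ← hQ₃eval, h0, map_zero, mul_zero]
  -- the seven points
  let p : Fin 7 → Fin 3 → K := fun i => yv (x i)
  have hιp : ∀ i, ι (p i) = (-σ₀ (x i)) • a + (1 : K) • x i := by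
    intro i
    rw [hR1, one_smul, neg_smul]
    abel
  have hp : ∀ i j, i ≠ j → LinearIndependent K ![p i, p j] := by
    intro i j hij
    rw [LinearIndependent.pair_iff]
    intro s t hst
    have h1 : ι (s • p i + t • p j) = 0 := by rw [hst, map_zero]
    rw [map_add, map_smul, map_smul, hR1, hR1] at h1
    apply hx i j hij (-(s * σ₀ (x i) + t * σ₀ (x j))) s t
    rw [← h1]
    simp only [smul_sub, smul_smul, neg_smul, add_smul]
    abel
  have hQ₃p : ∀ i, eval (p i) Q₃ = 0 := by
    intro i
    rw [hQ₃eval, hιp, hq, hqxi, mul_zero]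
  have hC₃p : ∀ i, eval (p i) C₃ = 0 := by
    intro i
    rw [hC₃eval, hιp]
    exact hFx i _ _
  obtain ⟨D₃, d, hd, hD₃, hD₃0, hDQ, hDC⟩ := bezout23 p hp hQ₃ hQ₃0 hC₃ hQ₃p hC₃p
  -- back to four variables
  have hρeval : ∀ (P : MvPolynomial (Fin 3) K) v, eval v (bind₁ h P) = eval (yv v) P := by
    intro P v
    rw [eval_bind₁', hh]
  have hFdecomp : F = linPoly σ₀ * bind₁ h Q₃ + bind₁ h C₃ := by
    apply MvPolynomial.funext
    intro v
    rw [map_add, map_mul, eval_linPoly, hρeval, hρeval, hQ₃eval, hC₃eval]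
    conv_lhs => rw [hdecomp v, hT]
    ring
  have hρD : (bind₁ h D₃).IsHomogeneous d := by
    have := hD₃.aeval h (fun j => linPoly_isHomogeneous _)
    simpa using this
  have hρD0 : bind₁ h D₃ ≠ 0 := by
    obtain ⟨y, hy⟩ := exists_eval_ne_zero hD₃0
    intro h0
    apply hy
    have := hρeval D₃ (ι y)
    rw [h0, map_zero, hR2] at this
    exact this.symm
  have hdvd : bind₁ h D₃ ∣ F := by
    rw [hFdecomp]
    exact dvd_add (Dvd.dvd.mul_left (map_dvd (bind₁ h) hDQ) _) (map_dvd (bind₁ h) hDC)
  exact false_of_dvd_irreducible hF hirr hρD hρD0 (by omega) (by omega) hdvd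

end Main

end Groth.Agent.Lib.Seat77.CubicLines
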