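import Groth.Agent.Lib.Seat77DPGen

/-!
# Divided powers on a sum of two ideals

If `γ` on `I` and `δ` on `J` agree on `I ⊓ J`, there is a unique divided power structure on
`I ⊔ J` extending both.
-/

set_option autoImplicit false
universe u

namespace Groth.Agent.Lib.Seat77.DPAdd

open Groth.Agent.Lib.Seat77.DPGen

variable {A : Type u} [CommRing A] {I J : Ideal A} (γ : DividedPowers I) (δ : DividedPowers J)

theorem exp_zero : γ.exp 0 = 1 := by
  ext n
  rw [DividedPowers.exp, PowerSeries.coeff_mk, PowerSeries.coeff_one]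
  by_cases hn : n = 0
  · subst hn
    rw [γ.dpow_zero I.zero_mem, if_pos rfl]
  · rw [γ.dpow_eval_zero hn, if_neg hn]

theorem exp_mul (c : A) {a : A} (ha : a ∈ I) :
    γ.exp (c * a) = PowerSeries.rescale c (γ.exp a) := by
  ext n
  rw [PowerSeries.coeff_rescale, DividedPowers.exp, PowerSeries.coeff_mk, DividedPowers.exp,
    PowerSeries.coeff_mk, γ.dpow_mul ha]

variable (h : ∀ (n : ℕ) (x : A), x ∈ I ⊓ J → γ.dpow n x = δ.dpow n x)

include h in
theorem exp_eq_of_mem_inf {c : A} (hc : c ∈ I ⊓ J) : γ.exp c = δ.exp c := by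
  ext n
  rw [DividedPowers.exp, PowerSeries.coeff_mk, DividedPowers.exp, PowerSeries.coeff_mk, h n c hc]

include h in
theorem well_def {a a' b b' : A} (ha : a ∈ I) (ha' : a' ∈ I) (hb : b ∈ J) (hb' : b' ∈ J)
    (hab : a + b = a' + b') : γ.exp a * δ.exp b = γ.exp a' * δ.exp b' := by
  have hcI : a - a' ∈ I := I.sub_mem ha ha'
  have hcJ : a - a' ∈ J := by
    have : a - a' = b' - b := by linear_combination hab
    rw [this]
    exact J.sub_mem hb' hb
  have e1 : γ.exp a = γ.exp a' * γ.exp (a - a') := by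
    rw [← γ.exp_add ha' hcI]
    congr 1
    ring
  have e2 : δ.exp b' = δ.exp (a - a') * δ.exp b := by
    rw [← δ.exp_add hcJ hb]
    congr 1
    linear_combination -hab
  rw [e1, e2, exp_eq_of_mem_inf γ δ h ⟨hcI, hcJ⟩, mul_assoc]

open Classical in
/-- the divided power operations on `I ⊔ J` -/
noncomputable def dp (n : ℕ) (x : A) : A :=
  if hx : x ∈ I ⊔ J then
    PowerSeries.coeff n (γ.exp (Submodule.mem_sup.1 hx).choose *
      δ.exp (Submodule.mem_sup.1 hx).choose_spec.2.choose)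
  else 0

include h in
theorem mk_dp {a b : A} (ha : a ∈ I) (hb : b ∈ J) :
    PowerSeries.mk (fun n => dp γ δ n (a + b)) = γ.exp a * δ.exp b := by
  have hx : a + b ∈ I ⊔ J := Submodule.add_mem_sup ha hb
  ext n
  rw [PowerSeries.coeff_mk, dp, dif_pos hx]
  have h1 := (Submodule.mem_sup.1 hx).choose_spec.1
  have h2 := (Submodule.mem_sup.1 hx).choose_spec.2.choose_spec.1
  have h3 := (Submodule.mem_sup.1 hx).choose_spec.2.choose_spec.2
  rw [well_def γ δ h h1 ha h2 hb h3]

include h in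
theorem dp_eq {a b : A} (ha : a ∈ I) (hb : b ∈ J) (n : ℕ) :
    dp γ δ n (a + b) = PowerSeries.coeff n (γ.exp a * δ.exp b) := by
  rw [← mk_dp γ δ h ha hb, PowerSeries.coeff_mk]

include h in
theorem dp_eq_sum {a b : A} (ha : a ∈ I) (hb : b ∈ J) (n : ℕ) :
    dp γ δ n (a + b) = ∑ k ∈ Finset.antidiagonal n, γ.dpow k.1 a * δ.dpow k.2 b := by
  rw [dp_eq γ δ h ha hb, PowerSeries.coeff_mul]
  refine Finset.sum_congr rfl fun k _ => ?_
  rw [DividedPowers.exp, PowerSeries.coeff_mk, DividedPowers.exp, PowerSeries.coeff_mk]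

include h in
theorem dp_left {a : A} (ha : a ∈ I) (n : ℕ) : dp γ δ n a = γ.dpow n a := by
  have := dp_eq γ δ h ha J.zero_mem n
  rw [add_zero, exp_zero, mul_one] at this
  rw [this, DividedPowers.exp, PowerSeries.coeff_mk]

include h in
theorem dp_right {b : A} (hb : b ∈ J) (n : ℕ) : dp γ δ n b = δ.dpow n b := by
  have := dp_eq γ δ h I.zero_mem hb n
  rw [zero_add, exp_zero, one_mul] at this
  rw [this, DividedPowers.exp, PowerSeries.coeff_mk]

include h in
theorem preDP : PreDP (I ⊔ J) (dp γ δ) where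
  null n x hx := by rw [dp, dif_neg hx]
  zero x hx := by
    obtain ⟨a, ha, b, hb, rfl⟩ := Submodule.mem_sup.1 hx
    rw [dp_eq_sum γ δ h ha hb]
    simp [γ.dpow_zero ha, δ.dpow_zero hb]
  one x hx := by
    obtain ⟨a, ha, b, hb, rfl⟩ := Submodule.mem_sup.1 hx
    rw [dp_eq_sum γ δ h ha hb, Finset.Nat.sum_antidiagonal_eq_sum_range_succ_mk,
      Finset.sum_range_succ, Finset.sum_range_one]
    simp [γ.dpow_zero ha, δ.dpow_zero hb, γ.dpow_one ha, δ.dpow_one hb, add_comm]
  mem n x hn hx := by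
    obtain ⟨a, ha, b, hb, rfl⟩ := Submodule.mem_sup.1 hx
    rw [dp_eq_sum γ δ h ha hb]
    refine Submodule.sum_mem _ fun k hk => ?_
    rw [Finset.mem_antidiagonal] at hk
    by_cases hk1 : k.1 = 0
    · exact Ideal.mul_mem_left _ _ (Ideal.mem_sup_right (δ.dpow_mem (by omega) hb))
    · exact Ideal.mul_mem_right _ _ (Ideal.mem_sup_left (γ.dpow_mem hk1 ha))
  add n x y hx hy := by
    obtain ⟨a, ha, b, hb, rfl⟩ := Submodule.mem_sup.1 hx
    obtain ⟨a', ha', b', hb', rfl⟩ := Submodule.mem_sup.1 hy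
    have e : a + b + (a' + b') = (a + a') + (b + b') := by ring
    rw [e, dp_eq γ δ h (I.add_mem ha ha') (J.add_mem hb hb'), γ.exp_add ha ha',
      δ.exp_add hb hb']
    have e2 : γ.exp a * γ.exp a' * (δ.exp b * δ.exp b') =
        (γ.exp a * δ.exp b) * (γ.exp a' * δ.exp b') := by ring
    rw [e2, PowerSeries.coeff_mul]
    refine Finset.sum_congr rfl fun k _ => ?_
    rw [dp_eq γ δ h ha hb, dp_eq γ δ h ha' hb']
  mul n c x hx := by
    obtain ⟨a, ha, b, hb, rfl⟩ := Submodule.mem_sup.1 hx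
    rw [mul_add, dp_eq γ δ h (I.mul_mem_left c ha) (J.mul_mem_left c hb), exp_mul γ c ha,
      exp_mul δ c hb, ← map_mul, PowerSeries.coeff_rescale, dp_eq γ δ h ha hb]

include h in
theorem good_of_mem (s : A) (hs : s ∈ (I : Set A) ∪ (J : Set A)) : Good (I ⊔ J) (dp γ δ) s := by
  rcases hs with hs | hs
  · have hs' : s ∈ I := hs
    refine ⟨Ideal.mem_sup_left hs', fun m n => ?_, fun m n hn => ?_⟩
    · rw [dp_left γ δ h hs', dp_left γ δ h hs', dp_left γ δ h hs', γ.mul_dpow hs']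
    · rw [dp_left γ δ h hs', dp_left γ δ h (γ.dpow_mem hn hs'), dp_left γ δ h hs',
        γ.dpow_comp hn hs']
  · have hs' : s ∈ J := hs
    refine ⟨Ideal.mem_sup_right hs', fun m n => ?_, fun m n hn => ?_⟩
    · rw [dp_right γ δ h hs', dp_right γ δ h hs', dp_right γ δ h hs', δ.mul_dpow hs']
    · rw [dp_right γ δ h hs', dp_right γ δ h (δ.dpow_mem hn hs'), dp_right γ δ h hs',
        δ.dpow_comp hn hs']

theorem span_union : Ideal.span ((I : Set A) ∪ (J : Set A)) = I ⊔ J := by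
  rw [Ideal.span_union, Ideal.span_eq, Ideal.span_eq]

/-- the divided power structure on `I ⊔ J` -/
noncomputable def dividedPowersSup : DividedPowers (I ⊔ J) :=
  dividedPowers (preDP γ δ h) _ span_union (good_of_mem γ δ h)

theorem dividedPowersSup_left {a : A} (ha : a ∈ I) (n : ℕ) :
    (dividedPowersSup γ δ h).dpow n a = γ.dpow n a := dp_left γ δ h ha n

theorem dividedPowersSup_right {b : A} (hb : b ∈ J) (n : ℕ) :
    (dividedPowersSup γ δ h).dpow n b = δ.dpow n b := dp_right γ δ h hb n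

omit h in
theorem eq_of_restrict (ε ε' : DividedPowers (I ⊔ J))
    (hI : ∀ (n : ℕ) (x : A), x ∈ I → ε.dpow n x = ε'.dpow n x)
    (hJ : ∀ (n : ℕ) (x : A), x ∈ J → ε.dpow n x = ε'.dpow n x) : ε = ε' := by
  ext n x hx
  obtain ⟨a, ha, b, hb, rfl⟩ := Submodule.mem_sup.1 hx
  rw [ε.dpow_add (Ideal.mem_sup_left ha) (Ideal.mem_sup_right hb),
    ε'.dpow_add (Ideal.mem_sup_left ha) (Ideal.mem_sup_right hb)]
  refine Finset.sum_congr rfl fun k _ => ?_
  rw [hI _ _ ha, hJ _ _ hb]

end Groth.Agent.Lib.Seat77.DPAdd
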