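import Groth.Agent.Lib.Seat77DPPolyInf2

/-!
# The divided power envelope
-/

set_option autoImplicit false
universe u

namespace Groth.Agent.Lib.Seat77.DPEnv

open Groth.Agent.Lib.Seat77.DPPolyInf MvPolynomial

section Setup

variable (B : Type u) [CommRing B]

/-- the torsion-free cover `ℤ[B]` of `B` -/
abbrev ZB : Type u := MvPolynomial B ℤ

/-- its rationalisation -/
abbrev QB : Type u := MvPolynomial B ℚ

/-- `ℤ[B] → ℚ[B]` -/
@[instance_reducible]
noncomputable def algZQ : Algebra (ZB B) (QB B) := (MvPolynomial.map (Int.castRingHom ℚ)).toAlgebra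

attribute [local instance] algZQ

omit [CommRing B] in
theorem hinjZ : Function.Injective (algebraMap (ZB B) (QB B)) :=
  MvPolynomial.map_injective _ Int.cast_injective

/-- the evaluation `ℤ[B] → B` -/
noncomputable def pi : ZB B →+* B := (MvPolynomial.aeval (R := ℤ) (fun b : B => b)).toRingHom

theorem pi_X (b : B) : pi B (X b) = b := by
  change MvPolynomial.aeval (R := ℤ) (fun b : B => b) (X b) = b
  rw [MvPolynomial.aeval_X]

theorem pi_surjective : Function.Surjective (pi B) := fun b => ⟨X b, pi_X B b⟩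

end Setup

attribute [local instance] algZQ

section Env

variable {R B : Type u} [CommRing R] [CommRing B] [Algebra R B] {I : Ideal R}
  (γ : DividedPowers I) (J : Ideal B) (hIJ : I.map (algebraMap R B) ≤ J)

/-- the divided power polynomial algebra over `ℤ[B]` on variables indexed by `J` -/
abbrev W : Type u := dpAlg (ZB B) (QB B) J

/-- the variable attached to `t ∈ J` -/
noncomputable def xt (t : J) : W J := dpb (ZB B) (QB B) J (Finsupp.single t 1)

/-- the constant attached to `b ∈ B` -/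
noncomputable def brk (b : B) : W J := algebraMap (ZB B) (W J) (X b)

/-- the ideals we may divide by -/
structure Good (K₀ : Ideal (W J)) : Prop where
  ker : (RingHom.ker (pi B)).map (algebraMap (ZB B) (W J)) ≤ K₀
  var : ∀ t : J, xt J t - brk J (t : B) ∈ K₀
  base : ∀ (a : R) (ha : a ∈ I) (n : ℕ),
    dpb (ZB B) (QB B) J (Finsupp.single ⟨algebraMap R B a, hIJ (Ideal.mem_map_of_mem _ ha)⟩ n) -
      brk J (algebraMap R B (γ.dpow n a)) ∈ K₀
  sub : (dpI (ZB B) (QB B) J).IsSubDPIdeal (K₀ ⊓ augI (ZB B) (QB B) J)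

/-- the smallest good ideal -/
noncomputable def Kmin : Ideal (W J) := sInf {K₀ | Good γ J hIJ K₀}

theorem good_Kmin : Good γ J hIJ (Kmin γ J hIJ) where
  ker := le_sInf fun K₀ h => h.ker
  var t := Ideal.mem_sInf.2 fun {K₀} h => h.var t
  base a ha n := Ideal.mem_sInf.2 fun {K₀} h => h.base a ha n
  sub := by
    refine ⟨inf_le_right, fun n hn x hx => ⟨?_, (dpI (ZB B) (QB B) J).dpow_mem hn hx.2⟩⟩
    refine Ideal.mem_sInf.2 fun {K₀} h => ?_
    exact (h.sub.dpow_mem n hn ⟨Ideal.mem_sInf.1 hx.1 h, hx.2⟩).1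

/-- the envelope -/
abbrev D : Type u := W J ⧸ Kmin γ J hIJ

/-- `ℤ[B] → D` -/
noncomputable def zD : ZB B →+* D γ J hIJ :=
  (Ideal.Quotient.mk (Kmin γ J hIJ)).comp (algebraMap (ZB B) (W J))

theorem ker_le : RingHom.ker (pi B) ≤ RingHom.ker (zD γ J hIJ) := by
  intro z hz
  rw [RingHom.mem_ker, zD, RingHom.comp_apply, Ideal.Quotient.eq_zero_iff_mem]
  exact (good_Kmin γ J hIJ).ker (Ideal.mem_map_of_mem _ hz)

/-- the structure map `B → D` -/
noncomputable def beta : B →+* D γ J hIJ :=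
  RingHom.liftOfSurjective (pi B) (pi_surjective B) ⟨zD γ J hIJ, ker_le γ J hIJ⟩

theorem beta_pi (z : ZB B) : beta γ J hIJ (pi B z) = zD γ J hIJ z :=
  RingHom.liftOfRightInverse_comp_apply _ _ _ _ z

theorem beta_apply (b : B) :
    beta γ J hIJ b = Ideal.Quotient.mk (Kmin γ J hIJ) (brk J b) := by
  have h := beta_pi γ J hIJ (X b)
  rw [pi_X] at h
  exact h

/-- the divided power ideal of the envelope -/
noncomputable abbrev JD : @Ideal (D γ J hIJ) CommSemiring.toSemiring :=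
  (augI (ZB B) (QB B) J).map (Ideal.Quotient.mk (Kmin γ J hIJ))

/-- the divided power structure of the envelope -/
noncomputable def γD : DividedPowers (JD γ J hIJ) :=
  DividedPowers.Quotient.dividedPowers (dpI (ZB B) (QB B) J) (good_Kmin γ J hIJ).sub

theorem xt_mem (t : J) : xt J t ∈ augI (ZB B) (QB B) J :=
  dpb_single_mem (ZB B) (QB B) J t 1 le_rfl

theorem beta_mem (t : J) :
    beta γ J hIJ (t : B) = Ideal.Quotient.mk (Kmin γ J hIJ) (xt J t) := by
  rw [beta_apply]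
  exact (Ideal.Quotient.eq.2 ((good_Kmin γ J hIJ).var t)).symm

theorem map_le : J.map (beta γ J hIJ) ≤ JD γ J hIJ := by
  rw [Ideal.map_le_iff_le_comap]
  intro t ht
  rw [Ideal.mem_comap, beta_mem γ J hIJ ⟨t, ht⟩]
  exact Ideal.mem_map_of_mem _ (xt_mem J _)

theorem isDPMorphism_base :
    γ.IsDPMorphism (γD γ J hIJ) ((beta γ J hIJ).comp (algebraMap R B)) := by
  refine ⟨?_, fun {n} a ha => ?_⟩
  · rw [← Ideal.map_map]
    exact (Ideal.map_mono hIJ).trans (map_le γ J hIJ)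
  · have hmem : algebraMap R B a ∈ J := hIJ (Ideal.mem_map_of_mem _ ha)
    rw [RingHom.comp_apply, RingHom.comp_apply, beta_mem γ J hIJ ⟨_, hmem⟩, γD,
      DividedPowers.Quotient.dpow_apply _ _ (xt_mem J _), xt, dpI_dpow_dpb_one, beta_apply]
    exact Ideal.Quotient.eq.2 ((good_Kmin γ J hIJ).base a ha n)

end Env

section Univ

variable {R B : Type u} [CommRing R] [CommRing B] [Algebra R B] {I : Ideal R}
  (γ : DividedPowers I) (J : Ideal B) (hIJ : I.map (algebraMap R B) ≤ J)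
  {C : Type u} [CommRing C] [Algebra R C] {KC : Ideal C} (δ : DividedPowers KC)
  (hδ : γ.IsDPMorphism δ (algebraMap R C)) (ψ : B →ₐ[R] C) (hψ : J.map ψ ≤ KC)

/-- `C` as a `ℤ[B]`-algebra -/
@[instance_reducible]
noncomputable def algZC : Algebra (ZB B) C := (ψ.toRingHom.comp (pi B)).toAlgebra

include hψ in
theorem psi_mem (t : J) : ψ (t : B) ∈ KC := hψ (Ideal.mem_map_of_mem ψ t.2)

/-- the map from the divided power polynomial algebra -/
noncomputable def PhiA : @AlgHom (ZB B) (W J) C _ _ _ _ (algZC ψ) :=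
  letI := algZC ψ
  lift (ZB B) (QB B) J (hinjZ B) δ (fun t : J => ψ (t : B)) (psi_mem J ψ hψ)

/-- the map from the divided power polynomial algebra, as a ring homomorphism -/
noncomputable def Phi : W J →+* C :=
  letI := algZC ψ
  (PhiA J δ ψ hψ).toRingHom

theorem Phi_alg (z : ZB B) : Phi J δ ψ hψ (algebraMap (ZB B) (W J) z) = ψ (pi B z) := by
  let _ := algZC ψ
  exact (PhiA J δ ψ hψ).commutes z

theorem Phi_single (t : J) (n : ℕ) :
    Phi J δ ψ hψ (dpb (ZB B) (QB B) J (Finsupp.single t n)) = δ.dpow n (ψ (t : B)) := by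
  let _ := algZC ψ
  exact lift_single (ZB B) (QB B) J (hinjZ B) δ (fun t : J => ψ (t : B)) (psi_mem J ψ hψ) t n

theorem Phi_isDPMorphism : (dpI (ZB B) (QB B) J).IsDPMorphism δ (Phi J δ ψ hψ) := by
  let _ := algZC ψ
  exact lift_isDPMorphism (ZB B) (QB B) J (hinjZ B) δ (fun t : J => ψ (t : B)) (psi_mem J ψ hψ)

include hδ in
theorem good_ker : Good γ J hIJ (RingHom.ker (Phi J δ ψ hψ)) where
  ker := by
    rw [Ideal.map_le_iff_le_comap]
    intro z hz
    rw [Ideal.mem_comap, RingHom.mem_ker, Phi_alg, (RingHom.mem_ker).1 hz, map_zero]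
  var t := by
    rw [RingHom.mem_ker, map_sub, xt, Phi_single, brk, Phi_alg, pi_X,
      δ.dpow_one (psi_mem J ψ hψ t), sub_self]
  base a ha n := by
    rw [RingHom.mem_ker, map_sub, Phi_single, brk, Phi_alg, pi_X]
    change δ.dpow n (ψ (algebraMap R B a)) - ψ (algebraMap R B (γ.dpow n a)) = 0
    rw [ψ.commutes, ψ.commutes, hδ.2 a ha, sub_self]
  sub := DividedPowers.isSubDPIdeal_ker _ δ (Phi_isDPMorphism J δ ψ hψ)

include hδ in
theorem Kmin_le : Kmin γ J hIJ ≤ RingHom.ker (Phi J δ ψ hψ) :=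
  sInf_le (good_ker γ J hIJ δ hδ ψ hψ)

/-- the induced map on the envelope -/
noncomputable def chi : D γ J hIJ →+* C :=
  Ideal.Quotient.lift (Kmin γ J hIJ) (Phi J δ ψ hψ)
    fun _ hw => (RingHom.mem_ker).1 (Kmin_le γ J hIJ δ hδ ψ hψ hw)

theorem chi_mk (w : W J) :
    chi γ J hIJ δ hδ ψ hψ (Ideal.Quotient.mk (Kmin γ J hIJ) w) = Phi J δ ψ hψ w :=
  Ideal.Quotient.lift_mk _ _ _

theorem chi_beta (b : B) : chi γ J hIJ δ hδ ψ hψ (beta γ J hIJ b) = ψ b := by
  rw [beta_apply, chi_mk, brk, Phi_alg, pi_X]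

theorem chi_isDPMorphism : (γD γ J hIJ).IsDPMorphism δ (chi γ J hIJ δ hδ ψ hψ) := by
  have hmem : ∀ y ∈ JD γ J hIJ, ∃ w ∈ augI (ZB B) (QB B) J,
      Ideal.Quotient.mk (Kmin γ J hIJ) w = y := fun y hy =>
    (Ideal.mem_map_iff_of_surjective _ Ideal.Quotient.mk_surjective).1 hy
  refine ⟨?_, fun {n} y hy => ?_⟩
  · rw [Ideal.map_le_iff_le_comap]
    intro y hy
    obtain ⟨w, hw, rfl⟩ := hmem y hy
    rw [Ideal.mem_comap, chi_mk]
    exact (Phi_isDPMorphism J δ ψ hψ).1 (Ideal.mem_map_of_mem _ hw)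
  · obtain ⟨w, hw, rfl⟩ := hmem y hy
    rw [γD, DividedPowers.Quotient.dpow_apply _ _ hw, chi_mk, chi_mk,
      (Phi_isDPMorphism J δ ψ hψ).2 w hw]

theorem chi_unique (χ' : D γ J hIJ →+* C) (h1 : ∀ b, χ' (beta γ J hIJ b) = ψ b)
    (h2 : (γD γ J hIJ).IsDPMorphism δ χ') : χ' = chi γ J hIJ δ hδ ψ hψ := by
  let _ := algZC ψ
  let φ' : W J →ₐ[ZB B] C :=
    { χ'.comp (Ideal.Quotient.mk (Kmin γ J hIJ)) with
      commutes' := fun z => by
        change χ' (zD γ J hIJ z) = ψ (pi B z)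
        rw [← beta_pi, h1] }
  have hφ'1 : ∀ t : J, φ' (dpb (ZB B) (QB B) J (Finsupp.single t 1)) = ψ (t : B) := by
    intro t
    change χ' (Ideal.Quotient.mk (Kmin γ J hIJ) (xt J t)) = ψ (t : B)
    rw [← beta_mem, h1]
  have hφ'2 : (dpI (ZB B) (QB B) J).IsDPMorphism δ φ'.toRingHom :=
    DividedPowers.IsDPMorphism.comp δ h2
      (DividedPowers.Quotient.isDPMorphism (dpI (ZB B) (QB B) J) (good_Kmin γ J hIJ).sub)
  have key := lift_unique (ZB B) (QB B) J (hinjZ B) δ (fun t : J => ψ (t : B)) (psi_mem J ψ hψ) φ'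
    hφ'1 hφ'2
  apply Ideal.Quotient.ringHom_ext
  ext w
  rw [RingHom.comp_apply, RingHom.comp_apply, chi_mk]
  exact DFunLike.congr_fun key w

end Univ

section Final

theorem exists_envelope {A B : Type u} [CommRing A] [CommRing B] [Algebra A B] {I : Ideal A}
    (γ : DividedPowers I) (J : Ideal B) (hIJ : I.map (algebraMap A B) ≤ J) :
    ∃ (D : Type u) (_ : CommRing D) (_ : Algebra B D) (JD : Ideal D) (γD : DividedPowers JD),
      J.map (algebraMap B D) ≤ JD ∧
      γ.IsDPMorphism γD ((algebraMap B D).comp (algebraMap A B)) ∧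
      ∀ (C : Type u) [CommRing C] [Algebra A C] (K : Ideal C) (δ : DividedPowers K),
        γ.IsDPMorphism δ (algebraMap A C) →
        ∀ ψ : B →ₐ[A] C, J.map ψ ≤ K →
          ∃! χ : D →+* C, χ.comp (algebraMap B D) = ψ ∧ γD.IsDPMorphism δ χ := by
  refine ⟨D γ J hIJ, inferInstance, (beta γ J hIJ).toAlgebra, ?_⟩
  refine ⟨JD γ J hIJ, γD γ J hIJ, ?_⟩
  refine ⟨map_le γ J hIJ, isDPMorphism_base γ J hIJ, ?_⟩
  intro C _ _ K δ hδ ψ hψ
  refine ⟨chi γ J hIJ δ hδ ψ hψ, ⟨?_, chi_isDPMorphism γ J hIJ δ hδ ψ hψ⟩, ?_⟩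
  · ext b
    exact chi_beta γ J hIJ δ hδ ψ hψ b
  · rintro χ' ⟨h1, h2⟩
    refine chi_unique γ J hIJ δ hδ ψ hψ χ' (fun b => ?_) h2
    exact DFunLike.congr_fun h1 b

end Final

end Groth.Agent.Lib.Seat77.DPEnv
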