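import Groth.Agent.Lib.Seat77DPGen
import Mathlib.RingTheory.Flat.EquationalCriterion

/-!
# Extension of divided powers along a flat ring map

`(A, I, γ)` a divided power ring and `B` a flat `A`-algebra: `γ` extends to `I B`.
-/

set_option autoImplicit false
universe u v

namespace Groth.Agent.Lib.Seat77.DPFlat

open Groth.Agent.Lib.Seat77.DPGen PowerSeries

variable {A : Type u} {B : Type v} [CommRing A] [CommRing B] [Algebra A B] {I : Ideal A}
  (γ : DividedPowers I)

/-- the power series `Σ bⁿ f(γₙ x) Tⁿ` -/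
noncomputable def g (x : A) (b : B) : B⟦X⟧ := rescale b ((γ.exp x).map (algebraMap A B))

theorem coeff_g (x : A) (b : B) (n : ℕ) :
    coeff n (g γ x b) = b ^ n * algebraMap A B (γ.dpow n x) := by
  rw [g, coeff_rescale, coeff_map, DividedPowers.exp, coeff_mk]

theorem g_zero_right {x : A} (hx : x ∈ I) : g γ x (0 : B) = 1 := by
  ext n
  rw [coeff_g, coeff_one]
  by_cases hn : n = 0
  · subst hn
    rw [if_pos rfl, pow_zero, one_mul, γ.dpow_zero hx, map_one]
  · rw [if_neg hn, zero_pow hn, zero_mul]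

theorem g_zero_left (b : B) : g γ 0 b = 1 := by
  ext n
  rw [coeff_g, coeff_one]
  by_cases hn : n = 0
  · subst hn
    rw [if_pos rfl, pow_zero, one_mul, γ.dpow_zero I.zero_mem, map_one]
  · rw [if_neg hn, γ.dpow_eval_zero hn, map_zero, mul_zero]

theorem g_add_left {x x' : A} (hx : x ∈ I) (hx' : x' ∈ I) (b : B) :
    g γ (x + x') b = g γ x b * g γ x' b := by
  rw [g, γ.exp_add hx hx', map_mul, map_mul]
  rfl

theorem g_add_right {x : A} (hx : x ∈ I) (b b' : B) :
    g γ x (b + b') = g γ x b * g γ x b' := by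
  ext n
  rw [coeff_g, coeff_mul, (Commute.all b b').add_pow', Finset.sum_mul]
  refine Finset.sum_congr rfl fun k hk => ?_
  rw [Finset.mem_antidiagonal] at hk
  rw [coeff_g, coeff_g]
  have h1 : algebraMap A B (γ.dpow k.1 x) * algebraMap A B (γ.dpow k.2 x) =
      (n.choose k.1 : B) * algebraMap A B (γ.dpow n x) := by
    rw [← map_mul, γ.mul_dpow hx, map_mul, map_natCast, hk]
  rw [nsmul_eq_mul]
  linear_combination (-(b ^ k.1 * b' ^ k.2)) * h1

theorem g_mul_left (a : A) {x : A} (hx : x ∈ I) (b : B) :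
    g γ (a * x) b = g γ x (algebraMap A B a * b) := by
  ext n
  rw [coeff_g, coeff_g, γ.dpow_mul hx, map_mul, map_pow]
  ring

theorem rescale_g (c : B) (x : A) (b : B) : rescale c (g γ x b) = g γ x (b * c) := by
  rw [g, rescale_rescale, g]

theorem g_sum_right {ι : Type*} (s : Finset ι) {x : A} (hx : x ∈ I) (b : ι → B) :
    g γ x (∑ j ∈ s, b j) = ∏ j ∈ s, g γ x (b j) := by
  classical
  induction s using Finset.induction with
  | empty => rw [Finset.sum_empty, Finset.prod_empty, g_zero_right γ hx]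
  | insert a s ha ih => rw [Finset.sum_insert ha, Finset.prod_insert ha, g_add_right γ hx, ih]

theorem g_sum_left {ι : Type*} (s : Finset ι) (x : ι → A) (hx : ∀ i ∈ s, x i ∈ I) (b : B) :
    g γ (∑ i ∈ s, x i) b = ∏ i ∈ s, g γ (x i) b := by
  classical
  induction s using Finset.induction with
  | empty => rw [Finset.sum_empty, Finset.prod_empty, g_zero_left]
  | insert a s ha ih =>
    rw [Finset.sum_insert ha, Finset.prod_insert ha,
      g_add_left γ (hx a (Finset.mem_insert_self a s))
        (I.sum_mem fun i hi => hx i (Finset.mem_insert_of_mem hi)),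
      ih fun i hi => hx i (Finset.mem_insert_of_mem hi)]

/-- a relation `Σ xᵢ bᵢ = 0` in a flat algebra has trivial exponential -/
theorem prod_g_eq_one [Module.Flat A B] {ι : Type*} [Fintype ι] (x : ι → A) (hx : ∀ i, x i ∈ I)
    (b : ι → B) (h : ∑ i, x i • b i = 0) : ∏ i, g γ (x i) (b i) = 1 := by
  obtain ⟨k, a, y, hb, ha⟩ := Module.Flat.isTrivialRelation_of_sum_smul_eq_zero h
  calc ∏ i, g γ (x i) (b i) = ∏ i, ∏ j, g γ (a i j * x i) (y j) := by
        refine Finset.prod_congr rfl fun i _ => ?_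
        rw [hb i, g_sum_right γ _ (hx i)]
        refine Finset.prod_congr rfl fun j _ => ?_
        rw [g_mul_left γ _ (hx i), Algebra.smul_def]
    _ = ∏ j, ∏ i, g γ (a i j * x i) (y j) := Finset.prod_comm
    _ = ∏ j, g γ (∑ i, a i j * x i) (y j) := by
        refine Finset.prod_congr rfl fun j _ => ?_
        rw [g_sum_left γ _ _ fun i _ => I.mul_mem_left _ (hx i)]
    _ = 1 := by
        refine Finset.prod_eq_one fun j _ => ?_
        have : ∑ i, a i j * x i = 0 := by
          rw [← ha j]
          exact Finset.sum_congr rfl fun i _ => mul_comm _ _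
        rw [this, g_zero_left]

/-- the exponential of a representation `Σ b_x f(x)` -/
noncomputable def Er (r : I →₀ B) : B⟦X⟧ := r.prod fun x b => g γ (x : A) b

/-- the element represented -/
noncomputable def val : (I →₀ B) →ₗ[B] B :=
  Finsupp.linearCombination B fun x : I => algebraMap A B (x : A)

theorem val_apply (r : I →₀ B) : val (I := I) r = r.sum fun x b => b * algebraMap A B (x : A) := by
  rw [val, Finsupp.linearCombination_apply]
  rfl

theorem val_single (x : I) (b : B) : val (Finsupp.single x b) = b * algebraMap A B (x : A) := by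
  rw [val, Finsupp.linearCombination_single, smul_eq_mul]

theorem range_val : LinearMap.range (val (I := I) (B := B)) = I.map (algebraMap A B) := by
  rw [val, Finsupp.range_linearCombination]
  change Submodule.span B _ = Ideal.span _
  congr 1
  ext y
  constructor
  · rintro ⟨x, rfl⟩
    exact ⟨x, x.2, rfl⟩
  · rintro ⟨x, hx, rfl⟩
    exact ⟨⟨x, hx⟩, rfl⟩

theorem Er_add (r r' : I →₀ B) : Er γ (r + r') = Er γ r * Er γ r' :=
  Finsupp.prod_add_index' (fun x => g_zero_right γ x.2) fun x b b' => g_add_right γ x.2 b b'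

theorem Er_single (x : I) (b : B) : Er γ (Finsupp.single x b) = g γ (x : A) b :=
  Finsupp.prod_single_index (g_zero_right γ x.2)

theorem Er_smul (c : B) (r : I →₀ B) : Er γ (c • r) = rescale c (Er γ r) := by
  have : c • r = Finsupp.mapRange (fun b => c * b) (mul_zero c) r := by
    ext x
    simp
  rw [this, Er, Finsupp.prod_mapRange_index fun x => g_zero_right γ x.2, Er, Finsupp.prod,
    Finsupp.prod, map_prod]
  refine Finset.prod_congr rfl fun x _ => ?_
  rw [rescale_g, mul_comm]

theorem Er_eq_one [Module.Flat A B] (r : I →₀ B) (h : val r = 0) : Er γ r = 1 := by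
  rw [Er, Finsupp.prod, ← Finset.prod_coe_sort]
  refine prod_g_eq_one γ (fun i : r.support => ((i : I) : A)) (fun i => (i : I).2)
    (fun i => r (i : I)) ?_
  rw [val_apply, Finsupp.sum, ← Finset.sum_coe_sort] at h
  rw [← h]
  refine Finset.sum_congr rfl fun i _ => ?_
  rw [Algebra.smul_def, mul_comm]

theorem Er_congr [Module.Flat A B] (r r' : I →₀ B) (h : val r = val r') : Er γ r = Er γ r' := by
  have h1 : Er γ (r - r') = 1 := Er_eq_one γ _ (by rw [map_sub, h, sub_self])
  have h2 : r = (r - r') + r' := by abel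
  rw [h2, Er_add, h1, one_mul]

/-! ### coefficients of products of exponential-like series -/

theorem constantCoeff_g {x : A} (hx : x ∈ I) (b : B) : constantCoeff (g γ x b) = 1 := by
  rw [← coeff_zero_eq_constantCoeff_apply, coeff_g, pow_zero, one_mul, γ.dpow_zero hx, map_one]

theorem constantCoeff_Er (r : I →₀ B) : constantCoeff (Er γ r) = 1 := by
  rw [Er, Finsupp.prod, map_prod]
  exact Finset.prod_eq_one fun x _ => constantCoeff_g γ x.2 _

theorem coeff_one_mul' (F G : B⟦X⟧) :
    coeff 1 (F * G) = constantCoeff F * coeff 1 G + coeff 1 F * constantCoeff G := by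
  rw [coeff_mul, Finset.Nat.sum_antidiagonal_eq_sum_range_succ_mk, Finset.sum_range_succ,
    Finset.sum_range_one]
  simp

theorem coeff_one_prod {ι : Type*} (s : Finset ι) (F : ι → B⟦X⟧)
    (hF : ∀ i ∈ s, constantCoeff (F i) = 1) : coeff 1 (∏ i ∈ s, F i) = ∑ i ∈ s, coeff 1 (F i) := by
  classical
  induction s using Finset.induction with
  | empty => simp
  | insert a s ha ih =>
    have h1 : constantCoeff (∏ i ∈ s, F i) = 1 := by
      rw [map_prod]
      exact Finset.prod_eq_one fun i hi => hF i (Finset.mem_insert_of_mem hi)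
    rw [Finset.prod_insert ha, Finset.sum_insert ha, coeff_one_mul',
      hF a (Finset.mem_insert_self a s), h1, ih fun i hi => hF i (Finset.mem_insert_of_mem hi)]
    ring

theorem coeff_one_Er (r : I →₀ B) : coeff 1 (Er γ r) = val r := by
  rw [Er, Finsupp.prod, coeff_one_prod _ _ fun x _ => constantCoeff_g γ x.2 _, val_apply,
    Finsupp.sum]
  refine Finset.sum_congr rfl fun x _ => ?_
  rw [coeff_g, pow_one, γ.dpow_one x.2]

theorem coeff_mul_mem (J : Ideal B) (F G : B⟦X⟧) (hF : ∀ n, n ≠ 0 → coeff n F ∈ J)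
    (hG : ∀ n, n ≠ 0 → coeff n G ∈ J) (n : ℕ) (hn : n ≠ 0) : coeff n (F * G) ∈ J := by
  rw [coeff_mul]
  refine Submodule.sum_mem _ fun k hk => ?_
  rw [Finset.mem_antidiagonal] at hk
  by_cases hk1 : k.1 = 0
  · exact J.mul_mem_left _ (hG _ (by omega))
  · exact J.mul_mem_right _ (hF _ hk1)

theorem coeff_prod_mem (J : Ideal B) {ι : Type*} (s : Finset ι) (F : ι → B⟦X⟧)
    (hF : ∀ i ∈ s, ∀ n, n ≠ 0 → coeff n (F i) ∈ J) (n : ℕ) (hn : n ≠ 0) :
    coeff n (∏ i ∈ s, F i) ∈ J := by
  classical
  induction s using Finset.induction generalizing n with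
  | empty =>
    rw [Finset.prod_empty, coeff_one, if_neg hn]
    exact J.zero_mem
  | insert a s ha ih =>
    rw [Finset.prod_insert ha]
    exact coeff_mul_mem J _ _ (hF a (Finset.mem_insert_self a s))
      (fun m hm => ih (fun i hi => hF i (Finset.mem_insert_of_mem hi)) m hm) n hn

theorem coeff_Er_mem (r : I →₀ B) (n : ℕ) (hn : n ≠ 0) :
    coeff n (Er γ r) ∈ I.map (algebraMap A B) := by
  rw [Er, Finsupp.prod]
  refine coeff_prod_mem _ _ _ (fun x _ m hm => ?_) n hn
  rw [coeff_g]
  exact Ideal.mul_mem_left _ _ (Ideal.mem_map_of_mem _ (γ.dpow_mem hm x.2))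

/-! ### the extended divided powers -/

open Classical in
/-- the divided power operations on `I B` -/
noncomputable def dpB (n : ℕ) (y : B) : B :=
  if hy : ∃ r : I →₀ B, val r = y then coeff n (Er γ hy.choose) else 0

variable [Module.Flat A B]

theorem dpB_val (r : I →₀ B) (n : ℕ) : dpB γ n (val r) = coeff n (Er γ r) := by
  have hy : ∃ r' : I →₀ B, val r' = val r := ⟨r, rfl⟩
  rw [dpB, dif_pos hy, Er_congr γ _ r hy.choose_spec]

omit [Module.Flat A B] in
theorem exists_rep {y : B} (hy : y ∈ I.map (algebraMap A B)) : ∃ r : I →₀ B, val r = y := by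
  rw [← range_val] at hy
  exact hy

theorem dpB_algebraMap {x : A} (hx : x ∈ I) (n : ℕ) :
    dpB γ n (algebraMap A B x) = algebraMap A B (γ.dpow n x) := by
  have h := dpB_val γ (Finsupp.single (⟨x, hx⟩ : I) (1 : B)) n
  rw [val_single, one_mul, Er_single, coeff_g, one_pow, one_mul] at h
  exact h

theorem preDP : PreDP (I.map (algebraMap A B)) (dpB γ) where
  null n y hy := by
    rw [dpB, dif_neg]
    rintro ⟨r, rfl⟩
    apply hy
    rw [← range_val]
    exact ⟨r, rfl⟩
  zero y hy := by
    obtain ⟨r, rfl⟩ := exists_rep hy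
    rw [dpB_val, coeff_zero_eq_constantCoeff_apply, constantCoeff_Er]
  one y hy := by
    obtain ⟨r, rfl⟩ := exists_rep hy
    rw [dpB_val, coeff_one_Er]
  mem n y hn hy := by
    obtain ⟨r, rfl⟩ := exists_rep hy
    rw [dpB_val]
    exact coeff_Er_mem γ r n hn
  add n y y' hy hy' := by
    obtain ⟨r, rfl⟩ := exists_rep hy
    obtain ⟨r', rfl⟩ := exists_rep hy'
    rw [← map_add, dpB_val, Er_add, coeff_mul]
    refine Finset.sum_congr rfl fun k _ => ?_
    rw [dpB_val, dpB_val]
  mul n c y hy := by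
    obtain ⟨r, rfl⟩ := exists_rep hy
    rw [← smul_eq_mul, ← map_smul, dpB_val, Er_smul, coeff_rescale, dpB_val]

theorem good_of_mem (s : B) (hs : s ∈ (algebraMap A B) '' (I : Set A)) :
    Good (I.map (algebraMap A B)) (dpB γ) s := by
  obtain ⟨x, hx, rfl⟩ := hs
  have hx' : x ∈ I := hx
  refine ⟨Ideal.mem_map_of_mem _ hx', fun m n => ?_, fun m n hn => ?_⟩
  · rw [dpB_algebraMap γ hx', dpB_algebraMap γ hx', dpB_algebraMap γ hx', ← map_mul,
      γ.mul_dpow hx', map_mul, map_natCast]
  · rw [dpB_algebraMap γ hx', dpB_algebraMap γ (γ.dpow_mem hn hx'), dpB_algebraMap γ hx',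
      γ.dpow_comp hn hx', map_mul, map_natCast]

/-- the extension of `γ` to `I B` for a flat `A`-algebra `B` -/
noncomputable def dividedPowersFlat : DividedPowers (I.map (algebraMap A B)) :=
  dividedPowers (preDP γ) _ rfl (good_of_mem γ)

theorem isDPMorphism : γ.IsDPMorphism (dividedPowersFlat (B := B) γ) (algebraMap A B) :=
  ⟨le_rfl, fun a ha => dpB_algebraMap γ ha _⟩

omit [Module.Flat A B] in
/-- uniqueness of the extension (no flatness needed) -/
theorem eq_of_isDPMorphism (δ δ' : DividedPowers (I.map (algebraMap A B)))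
    (h : γ.IsDPMorphism δ (algebraMap A B)) (h' : γ.IsDPMorphism δ' (algebraMap A B)) :
    δ = δ' := by
  refine DividedPowers.dpow_eq_from_gens δ' δ (S := (algebraMap A B) '' (I : Set A)) rfl ?_
  rintro n _ ⟨a', ha, rfl⟩
  rw [h.2 a' ha, h'.2 a' ha]

end Groth.Agent.Lib.Seat77.DPFlat
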