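import Groth.Agent.Lib.Seat90DPPoly

/-!
# Divided power structures from generators

A family of maps `d n : A → A` satisfying all axioms of a divided power structure on `I` except
possibly `mul_dpow` and `dpow_comp`, and satisfying those two for the elements of a generating set,
is a divided power structure.  The closure of the two rules under addition is obtained from the
universal case: the divided power polynomial ring `ℤ⟨X, Y⟩` (helper90's `dpAlg ℤ ℚ 2`).
-/

set_option autoImplicit false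
universe u

namespace Groth.Agent.Lib.Seat77.DPGen

open Groth.Agent.Lib.Seat90.DPPoly

section

variable {A : Type u} [CommRing A] (I : Ideal A) (d : ℕ → A → A)

/-- all the axioms of a divided power structure except `mul_dpow` and `dpow_comp` -/
structure PreDP : Prop where
  null : ∀ (n : ℕ) (x : A), x ∉ I → d n x = 0
  zero : ∀ x ∈ I, d 0 x = 1
  one : ∀ x ∈ I, d 1 x = x
  mem : ∀ (n : ℕ) (x : A), n ≠ 0 → x ∈ I → d n x ∈ I
  add : ∀ (n : ℕ) (x y : A), x ∈ I → y ∈ I →
    d n (x + y) = (Finset.antidiagonal n).sum fun k => d k.1 x * d k.2 y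
  mul : ∀ (n : ℕ) (a x : A), x ∈ I → d n (a * x) = a ^ n * d n x

/-- an element of `I` for which `mul_dpow` and `dpow_comp` hold -/
def Good (x : A) : Prop :=
  x ∈ I ∧ (∀ m n : ℕ, d m x * d n x = ((m + n).choose m : A) * d (m + n) x) ∧
    (∀ m n : ℕ, n ≠ 0 → d m (d n x) = (Nat.uniformBell m n : A) * d (m * n) x)

variable {I d}

theorem PreDP.eval_zero (hd : PreDP I d) {n : ℕ} (hn : n ≠ 0) : d n 0 = 0 := by
  have h := hd.mul n 0 0 I.zero_mem
  rw [mul_zero, zero_pow hn, zero_mul] at h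
  exact h

theorem good_zero (hd : PreDP I d) : Good I d 0 := by
  refine ⟨I.zero_mem, fun m n => ?_, fun m n hn => ?_⟩
  · by_cases hm : m = 0
    · subst hm
      rw [hd.zero 0 I.zero_mem, zero_add, Nat.choose_zero_right, Nat.cast_one]
    · rw [hd.eval_zero hm, hd.eval_zero (n := m + n) (by omega), zero_mul, mul_zero]
  · rw [hd.eval_zero hn]
    by_cases hm : m = 0
    · subst hm
      rw [zero_mul, hd.zero 0 I.zero_mem, Nat.uniformBell_zero_left, Nat.cast_one, one_mul]
    · rw [hd.eval_zero hm, hd.eval_zero (Nat.mul_ne_zero hm hn), mul_zero]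

theorem good_mul (hd : PreDP I d) (a : A) {x : A} (hx : Good I d x) : Good I d (a * x) := by
  obtain ⟨hxI, hmul, hcomp⟩ := hx
  refine ⟨I.mul_mem_left a hxI, fun m n => ?_, fun m n hn => ?_⟩
  · rw [hd.mul m a x hxI, hd.mul n a x hxI, hd.mul (m + n) a x hxI, pow_add]
    linear_combination (a ^ m * a ^ n) * hmul m n
  · rw [hd.mul n a x hxI, hd.mul m (a ^ n) (d n x) (hd.mem n x hn hxI), hcomp m n hn,
      hd.mul (m * n) a x hxI, ← pow_mul, mul_comm n m]
    ring

end

section Universal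

variable {A : Type u} [CommRing A] {I : Ideal A} {d : ℕ → A → A}

theorem hinj : Function.Injective (algebraMap ℤ ℚ) := Int.cast_injective

/-- the universal ring `ℤ⟨X, Y⟩` -/
abbrev U : Type := dpAlg ℤ ℚ 2

/-- the map `X^[i] Y^[j] ↦ d i x * d j y`, as a linear map -/
noncomputable def phiL (d : ℕ → A → A) (x y : A) : U →ₗ[ℤ] A :=
  (dpBasis ℤ ℚ 2 hinj).constr ℤ (fun e => d (e 0) x * d (e 1) y)

theorem phiL_dpb (x y : A) (e : Fin 2 →₀ ℕ) :
    phiL d x y (dpb ℤ ℚ 2 e) = d (e 0) x * d (e 1) y := by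
  unfold phiL
  rw [← dpBasis_apply ℤ ℚ 2 hinj, Module.Basis.constr_basis]

theorem phiL_one {x y : A} (hx : d 0 x = 1) (hy : d 0 y = 1) : phiL d x y 1 = 1 := by
  rw [← dpb_zero, phiL_dpb]
  simp [hx, hy]

theorem phiL_mul {x y : A}
    (hx : ∀ m n : ℕ, d m x * d n x = ((m + n).choose m : A) * d (m + n) x)
    (hy : ∀ m n : ℕ, d m y * d n y = ((m + n).choose m : A) * d (m + n) y) (p q : U) :
    phiL d x y (p * q) = phiL d x y p * phiL d x y q := by
  have : (LinearMap.mul ℤ U).compr₂ (phiL d x y) =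
      (LinearMap.mul ℤ A).compl₁₂ (phiL d x y) (phiL d x y) := by
    refine (dpBasis ℤ ℚ 2 hinj).ext fun e => (dpBasis ℤ ℚ 2 hinj).ext fun e' => ?_
    simp only [LinearMap.compr₂_apply, LinearMap.mul_apply', LinearMap.compl₁₂_apply]
    rw [dpBasis_apply, dpBasis_apply, dpb_mul, map_nsmul, phiL_dpb, phiL_dpb, phiL_dpb]
    unfold mchoose
    rw [Fin.prod_univ_two, Finsupp.add_apply, Finsupp.add_apply, nsmul_eq_mul, Nat.cast_mul]
    linear_combination (-(d (e 1) y * d (e' 1) y)) * hx (e 0) (e' 0) -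
      (((e 0 + e' 0).choose (e 0) : A) * d (e 0 + e' 0) x) * hy (e 1) (e' 1)
  exact LinearMap.congr_fun (LinearMap.congr_fun this p) q

/-- the map `X^[i] Y^[j] ↦ d i x * d j y`, as a ring homomorphism -/
noncomputable def phi (d : ℕ → A → A) {x y : A} (hx0 : d 0 x = 1) (hy0 : d 0 y = 1)
    (hx : ∀ m n : ℕ, d m x * d n x = ((m + n).choose m : A) * d (m + n) x)
    (hy : ∀ m n : ℕ, d m y * d n y = ((m + n).choose m : A) * d (m + n) y) : U →+* A where
  toFun := phiL d x y
  map_one' := phiL_one hx0 hy0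
  map_mul' := phiL_mul hx hy
  map_zero' := map_zero _
  map_add' := map_add _

theorem phi_apply {x y : A} (hx0 : d 0 x = 1) (hy0 : d 0 y = 1)
    (hx : ∀ m n : ℕ, d m x * d n x = ((m + n).choose m : A) * d (m + n) x)
    (hy : ∀ m n : ℕ, d m y * d n y = ((m + n).choose m : A) * d (m + n) y) (u : U) :
    phi d hx0 hy0 hx hy u = phiL d x y u := rfl

theorem phi_dpb {x y : A} (hx0 : d 0 x = 1) (hy0 : d 0 y = 1)
    (hx : ∀ m n : ℕ, d m x * d n x = ((m + n).choose m : A) * d (m + n) x)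
    (hy : ∀ m n : ℕ, d m y * d n y = ((m + n).choose m : A) * d (m + n) y) (e : Fin 2 →₀ ℕ) :
    phi d hx0 hy0 hx hy (dpb ℤ ℚ 2 e) = d (e 0) x * d (e 1) y := phiL_dpb x y e

/-- `phi` is compatible with the divided powers on the augmentation ideal -/
theorem phi_dpow (hd : PreDP I d) {x y : A} (gx : Good I d x) (gy : Good I d y) (u : U)
    (hu : u ∈ augI ℤ ℚ 2) :
    phi d (hd.zero x gx.1) (hd.zero y gy.1) gx.2.1 gy.2.1 u ∈ I ∧
      ∀ n : ℕ, phi d (hd.zero x gx.1) (hd.zero y gy.1) gx.2.1 gy.2.1 ((dpI ℤ ℚ 2).dpow n u) =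
        d n (phi d (hd.zero x gx.1) (hd.zero y gy.1) gx.2.1 gy.2.1 u) := by
  set φ := phi d (hd.zero x gx.1) (hd.zero y gy.1) gx.2.1 gy.2.1 with hφ
  have hx0 := hd.zero x gx.1
  have hy0 := hd.zero y gy.1
  unfold augI at hu
  induction hu using Submodule.span_induction with
  | mem u h =>
    obtain ⟨i, m, hm, rfl⟩ := h
    have hm0 : m ≠ 0 := by omega
    have key : ∀ k : ℕ, φ (dpb ℤ ℚ 2 (Finsupp.single i k)) =
        if i = 0 then d k x else d k y := by
      intro k
      rw [hφ, phi_dpb]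
      fin_cases i
      · simp [hy0]
      · simp [hx0]
    refine ⟨?_, fun n => ?_⟩
    · rw [key]
      split_ifs
      · exact hd.mem m x hm0 gx.1
      · exact hd.mem m y hm0 gy.1
    · rw [dpI_dpow_dpb ℤ ℚ 2 i n m hm0, map_nsmul, key, key, nsmul_eq_mul]
      split_ifs
      · rw [gx.2.2 n m hm0]
      · rw [gy.2.2 n m hm0]
  | zero =>
    refine ⟨by rw [map_zero]; exact I.zero_mem, fun n => ?_⟩
    by_cases hn : n = 0
    · subst hn
      rw [(dpI ℤ ℚ 2).dpow_zero (Ideal.zero_mem _), map_one, map_zero, hd.zero 0 I.zero_mem]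
    · rw [(dpI ℤ ℚ 2).dpow_eval_zero hn, map_zero, hd.eval_zero hn]
  | add u v hu hv h1 h2 =>
    refine ⟨by rw [map_add]; exact I.add_mem h1.1 h2.1, fun n => ?_⟩
    rw [(dpI ℤ ℚ 2).dpow_add hu hv, map_sum, map_add, hd.add n _ _ h1.1 h2.1]
    refine Finset.sum_congr rfl fun k _ => ?_
    rw [map_mul, h1.2, h2.2]
  | smul a u hu h1 =>
    refine ⟨by rw [smul_eq_mul, map_mul]; exact I.mul_mem_left _ h1.1, fun n => ?_⟩
    rw [smul_eq_mul, (dpI ℤ ℚ 2).dpow_mul hu, map_mul, map_mul, map_pow, h1.2,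
      hd.mul n _ _ h1.1]

theorem good_add (hd : PreDP I d) {x y : A} (gx : Good I d x) (gy : Good I d y) :
    Good I d (x + y) := by
  set φ := phi d (hd.zero x gx.1) (hd.zero y gy.1) gx.2.1 gy.2.1 with hφ
  have hx0 := hd.zero x gx.1
  have hy0 := hd.zero y gy.1
  set T : U := dpb ℤ ℚ 2 (Finsupp.single 0 1) + dpb ℤ ℚ 2 (Finsupp.single 1 1) with hT
  have hTI : T ∈ augI ℤ ℚ 2 :=
    Ideal.add_mem _ (dpb_single_mem ℤ ℚ 2 0 1 le_rfl) (dpb_single_mem ℤ ℚ 2 1 1 le_rfl)
  have hφT : φ T = x + y := by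
    rw [hT, map_add, hφ, phi_dpb, phi_dpb]
    simp [hx0, hy0, hd.one x gx.1, hd.one y gy.1]
  have hdn : ∀ n : ℕ, d n (x + y) = φ ((dpI ℤ ℚ 2).dpow n T) := by
    intro n
    rw [(phi_dpow hd gx gy T hTI).2 n, ← hφ, hφT]
  refine ⟨I.add_mem gx.1 gy.1, fun m n => ?_, fun m n hn => ?_⟩
  · rw [hdn, hdn, hdn, ← map_mul, (dpI ℤ ℚ 2).mul_dpow hTI, map_mul, map_natCast]
  · have h1 : (dpI ℤ ℚ 2).dpow n T ∈ augI ℤ ℚ 2 := (dpI ℤ ℚ 2).dpow_mem hn hTI
    rw [hdn n, ← (phi_dpow hd gx gy _ h1).2 m, ← hφ, (dpI ℤ ℚ 2).dpow_comp hn hTI, map_mul,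
      map_natCast, hdn]

end Universal

section Main

variable {A : Type u} [CommRing A] {I : Ideal A} {d : ℕ → A → A}

theorem good_of_mem_span (hd : PreDP I d) (S : Set A) (hS : Ideal.span S = I)
    (hgood : ∀ s ∈ S, Good I d s) (x : A) (hx : x ∈ I) : Good I d x := by
  rw [← hS] at hx
  induction hx using Submodule.span_induction with
  | mem s hs => exact hgood s hs
  | zero => exact good_zero hd
  | add u v _ _ h1 h2 => exact good_add hd h1 h2
  | smul a u _ h1 => exact good_mul hd a h1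

/-- a partial divided power structure satisfying `mul_dpow` and `dpow_comp` on generators is a
divided power structure -/
noncomputable def dividedPowers (hd : PreDP I d) (S : Set A) (hS : Ideal.span S = I)
    (hgood : ∀ s ∈ S, Good I d s) : DividedPowers I where
  dpow := d
  dpow_null {n x} hx := hd.null n x hx
  dpow_zero {x} hx := hd.zero x hx
  dpow_one {x} hx := hd.one x hx
  dpow_mem {n x} hn hx := hd.mem n x hn hx
  dpow_add {n x y} hx hy := hd.add n x y hx hy
  dpow_mul {n a x} hx := hd.mul n a x hx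
  mul_dpow {m n x} hx := (good_of_mem_span hd S hS hgood x hx).2.1 m n
  dpow_comp {m n x} hn hx := (good_of_mem_span hd S hS hgood x hx).2.2 m n hn

theorem dividedPowers_dpow (hd : PreDP I d) (S : Set A) (hS : Ideal.span S = I)
    (hgood : ∀ s ∈ S, Good I d s) : (dividedPowers hd S hS hgood).dpow = d := rfl

end Main

end Groth.Agent.Lib.Seat77.DPGen
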