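import Groth.Agent.Lib.Seat77DPAdd
import Groth.Agent.Lib.Seat77DPFlat

/-!
# Divided powers on `I P + P₊` for a divided power polynomial algebra `P` over `(R, I, γ)`
-/

set_option autoImplicit false
universe u v w

namespace Groth.Agent.Lib.Seat77.DPPolyAdd

variable {R : Type u} [CommRing R] {Λ : Type w} {P : Type v} [CommRing P] [Algebra R P]
  (x : Λ → ℕ → P) (hx0 : ∀ l, x l 0 = 1)
  (hxmul : ∀ l n m, x l n * x l m = ((n + m).choose n : P) * x l (n + m))
  (b : Module.Basis (Λ →₀ ℕ) R P) (hb : ∀ e : Λ →₀ ℕ, b e = e.prod (fun l k => x l k))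

/-- the augmentation ideal -/
abbrev Pplus : Ideal P := Ideal.span {y : P | ∃ (l : Λ) (n : ℕ), 1 ≤ n ∧ y = x l n}

include hx0 hb in
theorem basis_eq_prod (e : Λ →₀ ℕ) (s : Finset Λ) (hs : e.support ⊆ s) :
    b e = ∏ l ∈ s, x l (e l) := by
  rw [hb]
  exact Finsupp.prod_of_support_subset _ hs _ fun l _ => hx0 l

include hb in
theorem basis_zero : b 0 = 1 := by
  rw [hb, Finsupp.prod_zero_index]

include hx0 hb in
theorem basis_single (l : Λ) (n : ℕ) : b (Finsupp.single l n) = x l n := by
  rw [hb, Finsupp.prod_single_index (hx0 l)]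

include hx0 hxmul hb in
theorem basis_mul (e e' : Λ →₀ ℕ) :
    ∃ c : ℕ, b e * b e' = c • b (e + e') ∧ (e = 0 → e' = 0 → c = 1) := by
  classical
  refine ⟨∏ l ∈ e.support ∪ e'.support, (e l + e' l).choose (e l), ?_, ?_⟩
  · rw [basis_eq_prod x hx0 b hb e _ Finset.subset_union_left,
      basis_eq_prod x hx0 b hb e' _ Finset.subset_union_right,
      basis_eq_prod x hx0 b hb (e + e') _ Finsupp.support_add, ← Finset.prod_mul_distrib,
      nsmul_eq_mul, Nat.cast_prod, ← Finset.prod_mul_distrib]
    refine Finset.prod_congr rfl fun l _ => ?_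
    rw [hxmul, Finsupp.add_apply]
  · rintro rfl rfl
    simp

/-- the constant coefficient -/
noncomputable def eps : P →ₗ[R] R := b.coord 0

theorem eps_basis_zero : eps b (b 0) = 1 := by
  rw [eps, Module.Basis.coord_apply, Module.Basis.repr_self, Finsupp.single_eq_same]

theorem eps_basis_ne (e : Λ →₀ ℕ) (he : e ≠ 0) : eps b (b e) = 0 := by
  rw [eps, Module.Basis.coord_apply, Module.Basis.repr_self, Finsupp.single_eq_of_ne he.symm]

include hx0 hxmul hb in
theorem eps_mul (p q : P) : eps b (p * q) = eps b p * eps b q := by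
  have : (LinearMap.mul R P).compr₂ (eps b) = (LinearMap.mul R R).compl₁₂ (eps b) (eps b) := by
    refine b.ext fun e => b.ext fun e' => ?_
    simp only [LinearMap.compr₂_apply, LinearMap.mul_apply', LinearMap.compl₁₂_apply]
    obtain ⟨c, hc, hc1⟩ := basis_mul x hx0 hxmul b hb e e'
    rw [hc, map_nsmul]
    by_cases he : e = 0
    · by_cases he' : e' = 0
      · rw [hc1 he he', he, he', add_zero, eps_basis_zero, one_smul, one_mul]
      · rw [eps_basis_ne b e' he', mul_zero, eps_basis_ne, smul_zero]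
        rw [he, zero_add]
        exact he'
    · rw [eps_basis_ne b e he, zero_mul, eps_basis_ne, smul_zero]
      intro h0
      apply he
      ext l
      have := DFunLike.congr_fun h0 l
      rw [Finsupp.add_apply, Finsupp.zero_apply] at this
      rw [Finsupp.zero_apply]
      omega
  exact LinearMap.congr_fun (LinearMap.congr_fun this p) q

include hx0 hxmul hb in
theorem eps_eq_zero_of_mem (y : P) (hy : y ∈ Pplus x) : eps b y = 0 := by
  induction hy using Submodule.span_induction with
  | mem y h =>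
    obtain ⟨l, n, hn, rfl⟩ := h
    rw [← basis_single x hx0 b hb, eps_basis_ne]
    intro h0
    have := DFunLike.congr_fun h0 l
    rw [Finsupp.single_eq_same, Finsupp.zero_apply] at this
    omega
  | zero => exact map_zero _
  | add u v _ _ h1 h2 => rw [map_add, h1, h2, add_zero]
  | smul p u _ h1 => rw [smul_eq_mul, eps_mul x hx0 hxmul b hb, h1, mul_zero]

include hx0 hb in
theorem basis_mem_Pplus (e : Λ →₀ ℕ) (he : e ≠ 0) : b e ∈ Pplus x := by
  obtain ⟨l, hl⟩ : ∃ l, e l ≠ 0 := by
    by_contra hcon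
    apply he
    ext l
    by_contra hl
    exact hcon ⟨l, hl⟩
  have hmem : l ∈ e.support := Finsupp.mem_support_iff.2 hl
  rw [basis_eq_prod x hx0 b hb e e.support subset_rfl]
  obtain ⟨c, hc⟩ := Finset.dvd_prod_of_mem (fun l => x l (e l)) hmem
  rw [hc]
  exact Ideal.mul_mem_right _ _ (Ideal.subset_span ⟨l, e l, Nat.one_le_iff_ne_zero.2 hl, rfl⟩)

include hx0 hxmul hb in
theorem inf_le_mul (I : Ideal R) :
    I.map (algebraMap R P) ⊓ Pplus x ≤ I.map (algebraMap R P) * Pplus x := by
  classical
  rintro y ⟨hy1, hy2⟩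
  have h1 : y ∈ I • (⊤ : Submodule R P) := by
    rw [Ideal.smul_top_eq_map]
    exact hy1
  rw [← b.span_eq, Submodule.mem_ideal_smul_span_iff_exists_sum] at h1
  obtain ⟨a, ha, rfl⟩ := h1
  have h0 : a 0 = 0 := by
    have := eps_eq_zero_of_mem x hx0 hxmul b hb _ hy2
    rw [Finsupp.sum, map_sum] at this
    rw [Finset.sum_eq_single 0] at this
    · rw [map_smul, eps_basis_zero, smul_eq_mul, mul_one] at this
      exact this
    · intro e _ he
      rw [map_smul, eps_basis_ne b e he, smul_zero]
    · intro h00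
      rw [Finsupp.notMem_support_iff.1 h00, zero_smul, map_zero]
  refine Submodule.sum_mem _ fun e he => ?_
  by_cases he0 : e = 0
  · subst he0
    change a 0 • b 0 ∈ _
    rw [h0, zero_smul]
    exact Submodule.zero_mem _
  · change a e • b e ∈ _
    rw [Algebra.smul_def]
    exact Ideal.mul_mem_mul (Ideal.mem_map_of_mem _ (ha e)) (basis_mem_Pplus x hx0 b hb e he0)

section Final

variable {I : Ideal R} (γ : DividedPowers I) (δplus : DividedPowers (Pplus x))

include b in
theorem flat : Module.Flat R P :=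
  haveI := Module.Free.of_basis b
  inferInstance

include hx0 hxmul hb in
theorem agree [Module.Flat R P] (n : ℕ) (y : P) (hy : y ∈ I.map (algebraMap R P) ⊓ Pplus x) :
    (DPFlat.dividedPowersFlat (B := P) γ).dpow n y = δplus.dpow n y := by
  refine DividedPowers.coincide_on_smul _ δplus ?_
  rw [Ideal.smul_eq_mul]
  exact inf_le_mul x hx0 hxmul b hb I hy

include hx0 hxmul hb in
theorem existsUnique :
    ∃! δ : DividedPowers (I.map (algebraMap R P) ⊔ Pplus x),
      γ.IsDPMorphism δ (algebraMap R P) ∧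
        ∀ (n : ℕ) (y : P), y ∈ Pplus x → δ.dpow n y = δplus.dpow n y := by
  have := flat b
  have hag := agree x hx0 hxmul b hb γ δplus
  refine ⟨DPAdd.dividedPowersSup (DPFlat.dividedPowersFlat (B := P) γ) δplus hag,
    ⟨⟨le_sup_left, fun a ha => ?_⟩, fun n y hy => DPAdd.dividedPowersSup_right _ _ hag hy n⟩, ?_⟩
  · rw [DPAdd.dividedPowersSup_left _ _ hag (Ideal.mem_map_of_mem _ ha)]
    exact (DPFlat.isDPMorphism γ).2 a ha
  · rintro δ' ⟨h1, h2⟩
    refine DPAdd.eq_of_restrict δ' _ (fun n y hy => ?_) (fun n y hy => ?_)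
    · rw [DPAdd.dividedPowersSup_left _ _ hag hy]
      exact DividedPowers.dpow_comp_from_gens (DPFlat.dividedPowersFlat (B := P) γ) δ'
        (f := RingHom.id P) (S := (algebraMap R P) '' (I : Set R)) rfl
        (fun s hs => by
          obtain ⟨a, ha, rfl⟩ := hs
          exact Ideal.mem_sup_left (Ideal.mem_map_of_mem _ ha))
        (fun {m} s hs => by
          obtain ⟨a, ha, rfl⟩ := hs
          rw [RingHom.id_apply, RingHom.id_apply, h1.2 a ha]
          exact (DPFlat.isDPMorphism γ).2 a ha) y hy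
    · rw [DPAdd.dividedPowersSup_right _ _ hag hy, h2 n y hy]

end Final

end Groth.Agent.Lib.Seat77.DPPolyAdd
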