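import Groth.Agent.Lib.Seat77DPPolyInf

/-!
# The universal property of the divided power polynomial algebra (arbitrary index type,
torsion-free coefficients)
-/

set_option autoImplicit false
universe u v w t

namespace Groth.Agent.Lib.Seat77.DPPolyInf

open MvPolynomial Nat

section Prod

variable (A : Type u) [CommRing A] (K : Type v) [CommRing K] [Algebra ℚ K] [Algebra A K]
  (Λ : Type w)

theorem mchoose_single_of_notMem (i : Λ) (n : ℕ) (f : Λ →₀ ℕ) (hi : i ∉ f.support) :
    mchoose Λ (Finsupp.single i n) f = 1 := by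
  classical
  unfold mchoose
  refine Finset.prod_eq_one fun j _ => ?_
  change ((Finsupp.single i n) j + f j).choose ((Finsupp.single i n) j) = 1
  by_cases hj : j = i
  · subst hj
    rw [Finsupp.single_eq_same, Finsupp.notMem_support_iff.1 hi, add_zero, Nat.choose_self]
  · rw [Finsupp.single_eq_of_ne hj, Nat.choose_zero_right]

theorem dpb_eq_prod (e : Λ →₀ ℕ) :
    dpb A K Λ e = e.prod fun i k => dpb A K Λ (Finsupp.single i k) := by
  classical
  induction e using Finsupp.induction with
  | zero => rw [Finsupp.prod_zero_index, dpb_zero]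
  | single_add i n f hi hn ih =>
    rw [Finsupp.prod_add_index_of_disjoint, Finsupp.prod_single_index, ← ih, dpb_mul,
      mchoose_single_of_notMem Λ i n f hi, one_smul]
    · rw [Finsupp.single_zero, dpb_zero]
    · rw [Finsupp.support_single i hn, Finset.disjoint_singleton_left]
      exact hi

end Prod

section Lift

variable (A : Type u) [CommRing A] (K : Type v) [CommRing K] [Algebra ℚ K] [Algebra A K]
  (Λ : Type w) (hinj : Function.Injective (algebraMap A K))
  {C : Type t} [CommRing C] [Algebra A C] {KC : Ideal C} (ε : DividedPowers KC) (k : Λ → C)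
  (hk : ∀ l, k l ∈ KC)

/-- the value on a divided power monomial -/
noncomputable def val (e : Λ →₀ ℕ) : C := e.prod fun l n => ε.dpow n (k l)

include hk in
theorem val_eq_prod (e : Λ →₀ ℕ) (s : Finset Λ) (hs : e.support ⊆ s) :
    val Λ ε k e = ∏ l ∈ s, ε.dpow (e l) (k l) :=
  Finsupp.prod_of_support_subset _ hs _ fun l _ => ε.dpow_zero (hk l)

include hk in
theorem val_mul (e e' : Λ →₀ ℕ) :
    val Λ ε k e * val Λ ε k e' = (mchoose Λ e e') • val Λ ε k (e + e') := by
  rw [val_eq_prod Λ ε k hk e _ (support_subset_left e e'),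
    val_eq_prod Λ ε k hk e' _ (support_subset_right e e'),
    val_eq_prod Λ ε k hk (e + e') _ subset_rfl, ← Finset.prod_mul_distrib, nsmul_eq_mul]
  unfold mchoose
  rw [Finsupp.prod, Nat.cast_prod, ← Finset.prod_mul_distrib]
  refine Finset.prod_congr rfl fun l _ => ?_
  rw [ε.mul_dpow (hk l), Finsupp.add_apply]

include hk in
theorem val_single (l : Λ) (n : ℕ) : val Λ ε k (Finsupp.single l n) = ε.dpow n (k l) :=
  Finsupp.prod_single_index (ε.dpow_zero (hk l))

/-- the linear map `X^[e] ↦ ∏ ε_{e_l}(k_l)` -/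
noncomputable def liftL : dpAlg A K Λ →ₗ[A] C := (dpBasis A K Λ hinj).constr A (val Λ ε k)

theorem liftL_dpb (e : Λ →₀ ℕ) : liftL A K Λ hinj ε k (dpb A K Λ e) = val Λ ε k e := by
  rw [liftL, ← dpBasis_apply A K Λ hinj, Module.Basis.constr_basis]

theorem liftL_one : liftL A K Λ hinj ε k 1 = 1 := by
  rw [← dpb_zero, liftL_dpb, val, Finsupp.prod_zero_index]

include hk in
theorem liftL_mul (p q : dpAlg A K Λ) :
    liftL A K Λ hinj ε k (p * q) = liftL A K Λ hinj ε k p * liftL A K Λ hinj ε k q := by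
  have : (LinearMap.mul A (dpAlg A K Λ)).compr₂ (liftL A K Λ hinj ε k) =
      (LinearMap.mul A C).compl₁₂ (liftL A K Λ hinj ε k) (liftL A K Λ hinj ε k) := by
    refine (dpBasis A K Λ hinj).ext fun e => (dpBasis A K Λ hinj).ext fun e' => ?_
    simp only [LinearMap.compr₂_apply, LinearMap.mul_apply', LinearMap.compl₁₂_apply]
    rw [dpBasis_apply, dpBasis_apply, dpb_mul, map_nsmul, liftL_dpb, liftL_dpb, liftL_dpb,
      val_mul Λ ε k hk]
  exact LinearMap.congr_fun (LinearMap.congr_fun this p) q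

/-- the algebra map out of the divided power polynomial algebra -/
noncomputable def lift : dpAlg A K Λ →ₐ[A] C :=
  AlgHom.ofLinearMap (liftL A K Λ hinj ε k) (liftL_one A K Λ hinj ε k) (liftL_mul A K Λ hinj ε k hk)

theorem lift_dpb (e : Λ →₀ ℕ) : lift A K Λ hinj ε k hk (dpb A K Λ e) = val Λ ε k e :=
  liftL_dpb A K Λ hinj ε k e

theorem lift_single (l : Λ) (n : ℕ) :
    lift A K Λ hinj ε k hk (dpb A K Λ (Finsupp.single l n)) = ε.dpow n (k l) := by
  rw [lift_dpb, val_single Λ ε k hk]

theorem lift_isDPMorphism :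
    (dpI A K Λ).IsDPMorphism ε (lift A K Λ hinj ε k hk).toRingHom := by
  refine DividedPowers.IsDPMorphism.on_span (dpI A K Λ) ε (S := augGen A K Λ) rfl ?_ ?_
  · rintro s ⟨l, m, hm, rfl⟩
    change lift A K Λ hinj ε k hk _ ∈ KC
    rw [lift_single]
    exact ε.dpow_mem (by omega) (hk l)
  · rintro n s ⟨l, m, hm, rfl⟩
    change lift A K Λ hinj ε k hk _ = ε.dpow n (lift A K Λ hinj ε k hk _)
    rw [dpI_dpow_dpb A K Λ l n m (by omega), map_nsmul, lift_single, lift_single,
      ε.dpow_comp (by omega) (hk l), nsmul_eq_mul]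

theorem lift_unique (φ : dpAlg A K Λ →ₐ[A] C)
    (h1 : ∀ l, φ (dpb A K Λ (Finsupp.single l 1)) = k l)
    (h2 : (dpI A K Λ).IsDPMorphism ε φ.toRingHom) : φ = lift A K Λ hinj ε k hk := by
  have hφx : ∀ l n, φ (dpb A K Λ (Finsupp.single l n)) = ε.dpow n (k l) := by
    intro l n
    have := h2.2 (n := n) (dpb A K Λ (Finsupp.single l 1)) (dpb_single_mem A K Λ l 1 le_rfl)
    change ε.dpow n (φ _) = φ _ at this
    rw [dpI_dpow_dpb_one, h1] at this
    exact this.symm
  apply AlgHom.toLinearMap_injective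
  refine (dpBasis A K Λ hinj).ext fun e => ?_
  change φ _ = lift A K Λ hinj ε k hk _
  rw [dpBasis_apply, lift_dpb, dpb_eq_prod, map_finsuppProd, val]
  exact Finsupp.prod_congr fun l _ => hφx l (e l)

end Lift

end Groth.Agent.Lib.Seat77.DPPolyInf
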