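import Groth.Agent.Lib.Seat77DPPrimeNum
import Groth.Agent.Lib.Seat77DPGen

/-!
# Divided powers from the `p`-th divided power over a `ℤ_(p)`-algebra
-/

set_option autoImplicit false
universe u

namespace Groth.Agent.Lib.Seat77.DPPrime

open Groth.Agent.Lib.Seat77.DPPrimeNum Groth.Agent.Lib.Seat77.DPGen Groth.Agent.Lib.Seat90.DPPoly
open Nat

variable {A : Type u} [CommRing A]

/-- the candidate divided powers: `γ_n(x) = N_n⁻¹ x^(n % p) γ_(n / p)(d x)` -/
noncomputable def g (p : ℕ) (d : A → A) : ℕ → A → A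
  | n, x =>
    if _h : 1 < p ∧ n ≠ 0 then
      Ring.inverse (Nn p n : A) * x ^ (n % p) * g p d (n / p) (d x)
    else 1
termination_by n => n
decreasing_by exact Nat.div_lt_self (Nat.pos_of_ne_zero _h.2) _h.1

theorem g_zero (p : ℕ) (d : A → A) (x : A) : g p d 0 x = 1 := by
  rw [g, dif_neg]
  simp

section

variable (p : ℕ) [hp : Fact p.Prime] (hA : ∀ n : ℕ, ¬ p ∣ n → IsUnit (n : A)) {I : Ideal A}
  (d : A → A)

include hA in
theorem unitN (n : ℕ) : IsUnit (Nn p n : A) := hA _ (not_dvd_Nn n)

include hA in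
theorem g_key (n : ℕ) (x : A) :
    (Nn p n : A) * g p d n x = x ^ (n % p) * g p d (n / p) (d x) := by
  by_cases hn : n = 0
  · subst hn
    simp [g_zero, Nn_zero]
  · rw [g, dif_pos ⟨hp.out.one_lt, hn⟩, ← mul_assoc, ← mul_assoc,
      Ring.mul_inverse_cancel _ (unitN p hA n), one_mul]

include hA in
theorem cancelN (n : ℕ) {a b : A} (h : (Nn p n : A) * a = (Nn p n : A) * b) : a = b :=
  (unitN p hA n).mul_left_cancel h

include hA in
theorem g_small {n : ℕ} (hn : n < p) (x : A) : (n ! : A) * g p d n x = x ^ n := by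
  have h := g_key p hA d n x
  rw [Nn_of_lt hn, Nat.mod_eq_of_lt hn, Nat.div_eq_of_lt hn, g_zero, mul_one] at h
  exact h

include hA in
theorem g_one (x : A) : g p d 1 x = x := by
  have h := g_small p hA d hp.out.one_lt x
  simpa using h

include hA in
theorem g_p (x : A) : g p d p x = d x := by
  have h := g_key p hA d p x
  rw [Nat.mod_self, Nat.div_self hp.out.pos, pow_zero, one_mul, g_one p hA] at h
  have hN : Nn p p = 1 := by
    have := Nn_mul p 1 hp.out.pos
    rw [mul_one, Nat.uniformBell_one_left] at this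
    exact this
  rw [hN, Nat.cast_one, one_mul] at h
  exact h

variable (hdI : ∀ x ∈ I, d x ∈ I)

include hA hdI in
theorem g_mem (n : ℕ) (hn : n ≠ 0) (x : A) (hx : x ∈ I) : g p d n x ∈ I := by
  induction n using Nat.strong_induction_on generalizing x with
  | _ n ih =>
    have h := g_key p hA d n x
    have hmem : x ^ (n % p) * g p d (n / p) (d x) ∈ I := by
      by_cases hr : n % p = 0
      · have hm : n / p ≠ 0 := by
          intro hm
          have := Nat.div_add_mod n p
          rw [hm, hr] at this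
          simp at this
          exact hn this.symm
        exact I.mul_mem_left _ (ih _ (Nat.div_lt_self (Nat.pos_of_ne_zero hn) hp.out.one_lt) hm _
          (hdI x hx))
      · exact I.mul_mem_right _ (I.pow_mem_of_mem hx _ (Nat.pos_of_ne_zero hr))
    rw [← h] at hmem
    have := I.mul_mem_left (Ring.inverse (Nn p n : A)) hmem
    rwa [← mul_assoc, Ring.inverse_mul_cancel _ (unitN p hA n), one_mul] at this

variable (h2 : ∀ (a x : A), x ∈ I → d (a * x) = a ^ p * d x)

include hA hdI h2 in
theorem g_smul (n : ℕ) (a x : A) (hx : x ∈ I) : g p d n (a * x) = a ^ n * g p d n x := by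
  induction n using Nat.strong_induction_on generalizing a x with
  | _ n ih =>
    by_cases hn : n = 0
    · subst hn
      simp [g_zero]
    · apply cancelN p hA n
      have e : a ^ n = a ^ (n % p) * a ^ (p * (n / p)) := by
        rw [← pow_add, Nat.mod_add_div]
      rw [g_key p hA, h2 a x hx, ih _ (Nat.div_lt_self (Nat.pos_of_ne_zero hn) hp.out.one_lt) _ _
        (hdI x hx), mul_pow, ← pow_mul, e]
      linear_combination (-(a ^ (n % p) * a ^ (p * (n / p)))) * g_key p hA d n x

variable (h1 : ∀ x ∈ I, (p.factorial : A) * d x = x ^ p)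

include hA hdI h1 in
theorem g_mul (n n' : ℕ) (x : A) (hx : x ∈ I) :
    g p d n x * g p d n' x = ((n + n').choose n : A) * g p d (n + n') x := by
  have key : ∀ s : ℕ, ∀ n n' : ℕ, ∀ x : A, x ∈ I → n + n' = s →
      g p d n x * g p d n' x = ((n + n').choose n : A) * g p d (n + n') x := by
    intro s
    induction s using Nat.strong_induction_on with
    | _ s ih =>
      intro n n' x hx hs
      by_cases hs0 : s = 0
      · have hn : n = 0 := by omega
        have hn' : n' = 0 := by omega
        subst hn hn'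
        simp [g_zero]
      · have hp2 : 2 ≤ p := hp.out.two_le
        have hpos : 0 < p := hp.out.pos
        have hm : n / p + n' / p < s := by
          have a1 : n / p ≤ n := Nat.div_le_self _ _
          have a2 : n' / p ≤ n' := Nat.div_le_self _ _
          by_cases hn : n = 0
          · have : n' / p < n' := Nat.div_lt_self (by omega) hp.out.one_lt
            omega
          · have : n / p < n := Nat.div_lt_self (by omega) hp.out.one_lt
            omega
        have hdx : d x ∈ I := hdI x hx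
        have ihm := ih _ hm (n / p) (n' / p) (d x) hdx rfl
        apply cancelN p hA n
        apply cancelN p hA n'
        have e1 := g_key p hA d n x
        have e2 := g_key p hA d n' x
        have e3 := g_key p hA d (n + n') x
        by_cases hc : n % p + n' % p < p
        · obtain ⟨hq, hr⟩ := div_mod_add_of_lt hpos n n' hc
          rw [hq, hr] at e3
          have hNI : ((Nn p n : A)) * (Nn p n' : A) * ((n + n').choose n : A) =
              ((n / p + n' / p).choose (n / p) : A) * (Nn p (n + n') : A) := by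
            exact_mod_cast congrArg (Nat.cast : ℕ → A) (NI1 hpos n n' hc)
          calc (Nn p n' : A) * ((Nn p n : A) * (g p d n x * g p d n' x))
              = ((Nn p n : A) * g p d n x) * ((Nn p n' : A) * g p d n' x) := by ring
            _ = x ^ (n % p + n' % p) * (g p d (n / p) (d x) * g p d (n' / p) (d x)) := by
                rw [e1, e2, pow_add]; ring
            _ = ((n / p + n' / p).choose (n / p) : A) * ((Nn p (n + n') : A) *
                  g p d (n + n') x) := by
                rw [ihm, e3]; ring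
            _ = (Nn p n' : A) * ((Nn p n : A) * (((n + n').choose n : A) * g p d (n + n') x)) := by
                linear_combination (-(g p d (n + n') x)) * hNI
        · have hc' : p ≤ n % p + n' % p := by omega
          obtain ⟨hq, hr⟩ := div_mod_add_of_le hpos n n' hc'
          rw [hq, hr] at e3
          have hNI : ((Nn p n : A)) * (Nn p n' : A) * ((n + n').choose n : A) =
              ((n / p + n' / p).choose (n / p) : A) * (p ! : A) * ((n / p + n' / p + 1 : ℕ) : A) *
                (Nn p (n + n') : A) := by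
            exact_mod_cast congrArg (Nat.cast : ℕ → A) (NI2 hpos n n' hc')
          have hm1 : 1 + (n / p + n' / p) < s := by
            have b1 := Nat.div_add_mod n p
            have b2 := Nat.div_add_mod n' p
            have b3 : 2 * (n / p + n' / p + 1) ≤ p * (n / p + n' / p + 1) :=
              Nat.mul_le_mul_right _ hp2
            have b4 : p * (n / p + n' / p + 1) = p * (n / p) + p * (n' / p) + p := by ring
            omega
          have ih1 := ih _ hm1 1 (n / p + n' / p) (d x) hdx rfl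
          rw [g_one p hA, Nat.choose_one_right] at ih1
          have hxp : x ^ (n % p + n' % p) = x ^ (n % p + n' % p - p) * ((p ! : A) * d x) := by
            rw [h1 x hx, ← pow_add]
            congr 1
            omega
          have e4 : (1 + (n / p + n' / p)) = n / p + n' / p + 1 := by ring
          rw [e4] at ih1
          calc (Nn p n' : A) * ((Nn p n : A) * (g p d n x * g p d n' x))
              = ((Nn p n : A) * g p d n x) * ((Nn p n' : A) * g p d n' x) := by ring
            _ = x ^ (n % p + n' % p) * (g p d (n / p) (d x) * g p d (n' / p) (d x)) := by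
                rw [e1, e2, pow_add]; ring
            _ = ((n / p + n' / p).choose (n / p) : A) * (p ! : A) *
                  (x ^ (n % p + n' % p - p) * (d x * g p d (n / p + n' / p) (d x))) := by
                rw [ihm, hxp]; ring
            _ = ((n / p + n' / p).choose (n / p) : A) * (p ! : A) *
                  ((n / p + n' / p + 1 : ℕ) : A) * ((Nn p (n + n') : A) * g p d (n + n') x) := by
                rw [ih1, e3]; ring
            _ = (Nn p n' : A) * ((Nn p n : A) * (((n + n').choose n : A) * g p d (n + n') x)) := by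
                linear_combination (-(g p d (n + n') x)) * hNI
  exact key (n + n') n n' x hx rfl

include hA hdI h1 in
theorem g_pow (r : ℕ) (x : A) (hx : x ∈ I) : x ^ r = (r ! : A) * g p d r x := by
  induction r with
  | zero => simp [g_zero]
  | succ r ih =>
    have h := g_mul p hA d hdI h1 r 1 x hx
    rw [g_one p hA, Nat.choose_symm_add, Nat.choose_one_right] at h
    rw [pow_succ, ih, Nat.factorial_succ, Nat.cast_mul, mul_assoc, h]
    ring

include hA in
theorem g_key_mul (k : ℕ) (x : A) :
    (Nat.uniformBell k p : A) * g p d (p * k) x = g p d k (d x) := by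
  have h := g_key p hA d (p * k) x
  rw [Nn_mul p k hp.out.pos, Nat.mul_mod_right, Nat.mul_div_cancel_left k hp.out.pos, pow_zero,
    one_mul] at h
  exact h

include hA hdI h1 h2 in
theorem g_d (k : ℕ) (hk : k ≠ 0) (x : A) (hx : x ∈ I) :
    d (g p d k x) = (Nat.uniformBell p k : A) * g p d (p * k) x := by
  induction k using Nat.strong_induction_on generalizing x with
  | _ k ih =>
    have hpos : 0 < p := hp.out.pos
    have hdx : d x ∈ I := hdI x hx
    have hN := unitN p hA k
    have hg : g p d k x = (Ring.inverse (Nn p k : A) * x ^ (k % p)) * g p d (k / p) (d x) := by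
      rw [mul_assoc, ← g_key p hA, ← mul_assoc, Ring.inverse_mul_cancel _ hN, one_mul]
    have hxp : ∀ j : ℕ, x ^ (j * p) = (p ! : A) ^ j * (j ! : A) * g p d j (d x) := by
      intro j
      rw [mul_comm j p, pow_mul, ← h1 x hx, mul_pow, g_pow p hA d hdI h1 j (d x) hdx]
      ring
    by_cases hkp : k < p
    · -- `k / p = 0`
      have hm : k / p = 0 := Nat.div_eq_of_lt hkp
      have hr : k % p = k := Nat.mod_eq_of_lt hkp
      rw [hm, hr, g_zero, mul_one] at hg
      have hNk : Nn p k = k ! := Nn_of_lt hkp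
      rw [hNk] at hg hN
      have hk1 : k = (k - 1) + 1 := by omega
      have hg' : g p d k x = (Ring.inverse (k ! : A) * x ^ (k - 1)) * x := by
        rw [hg, mul_assoc, ← pow_succ, ← hk1]
      have hu : (k ! : A) * Ring.inverse (k ! : A) = 1 := Ring.mul_inverse_cancel _ hN
      have hcoef : (k ! : A) ^ p * (Ring.inverse (k ! : A) * x ^ (k - 1)) ^ p =
          x ^ ((k - 1) * p) := by
        rw [← mul_pow, ← mul_assoc, hu, one_mul, ← pow_mul]
      apply (hN.pow p).mul_left_cancel
      rw [hg', h2 _ x hx, ← mul_assoc, hcoef, hxp (k - 1)]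
      have e1 : (↑(k - 1)! : A) * g p d (k - 1) (d x) * d x = (k ! : A) * g p d k (d x) := by
        rw [← g_pow p hA d hdI h1 k (d x) hdx, ← g_pow p hA d hdI h1 (k - 1) (d x) hdx,
          ← pow_succ, ← hk1]
      have hNI : ((p ! : A)) ^ (k - 1) * (k ! : A) * (Nat.uniformBell k p : A) =
          (Nat.uniformBell p k : A) * (k ! : A) ^ p := by
        exact_mod_cast congrArg (Nat.cast : ℕ → A) (NI3 hpos k hk)
      have e2 := g_key_mul p hA d k x
      calc (p ! : A) ^ (k - 1) * (↑(k - 1)! : A) * g p d (k - 1) (d x) * d x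
          = (p ! : A) ^ (k - 1) * ((↑(k - 1)! : A) * g p d (k - 1) (d x) * d x) := by ring
        _ = (p ! : A) ^ (k - 1) * (k ! : A) * ((Nat.uniformBell k p : A) * g p d (p * k) x) := by
            rw [e1, e2]; ring
        _ = (k ! : A) ^ p * ((Nat.uniformBell p k : A) * g p d (p * k) x) := by
            linear_combination (g p d (p * k) x) * hNI
    · -- `k / p ≠ 0`
      have hm : k / p ≠ 0 := by
        intro h0
        have b1 := Nat.div_add_mod k p
        have b2 := Nat.mod_lt k hpos
        rw [h0] at b1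
        omega
      have hmk : k / p < k := Nat.div_lt_self (Nat.pos_of_ne_zero hk) hp.out.one_lt
      have hgm : g p d (k / p) (d x) ∈ I := g_mem p hA d hdI _ hm _ hdx
      have ihm := ih _ hmk hm (d x) hdx
      have hu : (Nn p k : A) * Ring.inverse (Nn p k : A) = 1 := Ring.mul_inverse_cancel _ hN
      have hcoef : (Nn p k : A) ^ p * (Ring.inverse (Nn p k : A) * x ^ (k % p)) ^ p =
          x ^ (k % p * p) := by
        rw [← mul_pow, ← mul_assoc, hu, one_mul, ← pow_mul]
      apply (hN.pow p).mul_left_cancel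
      rw [hg, h2 _ _ hgm, ihm, ← mul_assoc, hcoef, hxp (k % p)]
      have e1 := g_mul p hA d hdI h1 (k % p) (p * (k / p)) (d x) hdx
      rw [Nat.mod_add_div] at e1
      have e2 := g_key_mul p hA d k x
      have hNI : ((p ! : A)) ^ (k % p) * (↑(k % p)! : A) * (Nat.uniformBell p (k / p) : A) *
          (k.choose (k % p) : A) * (Nat.uniformBell k p : A) =
          (Nat.uniformBell p k : A) * (Nn p k : A) ^ p := by
        exact_mod_cast congrArg (Nat.cast : ℕ → A) (NI4 hpos k hm)
      calc (p ! : A) ^ (k % p) * (↑(k % p)! : A) * g p d (k % p) (d x) *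
            ((Nat.uniformBell p (k / p) : A) * g p d (p * (k / p)) (d x))
          = (p ! : A) ^ (k % p) * (↑(k % p)! : A) * (Nat.uniformBell p (k / p) : A) *
              (g p d (k % p) (d x) * g p d (p * (k / p)) (d x)) := by ring
        _ = (p ! : A) ^ (k % p) * (↑(k % p)! : A) * (Nat.uniformBell p (k / p) : A) *
              ((k.choose (k % p) : A) * ((Nat.uniformBell k p : A) * g p d (p * k) x)) := by
            rw [e1, e2]
        _ = (Nn p k : A) ^ p * ((Nat.uniformBell p k : A) * g p d (p * k) x) := by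
            linear_combination (g p d (p * k) x) * hNI

end

/-- in any divided power ring, `N_n γ_n(z) = z^(n % p) γ_(n / p)(γ_p z)` -/
theorem dp_key {R : Type*} [CommRing R] {J : Ideal R} (hJ : DividedPowers J) (p : ℕ) (hp0 : p ≠ 0)
    (n : ℕ) {z : R} (hz : z ∈ J) :
    (Nn p n : R) * hJ.dpow n z = z ^ (n % p) * hJ.dpow (n / p) (hJ.dpow p z) := by
  rw [hJ.dpow_comp hp0 hz, ← hJ.factorial_mul_dpow_eq_pow hz]
  have e1 := hJ.mul_dpow (m := n % p) (n := n / p * p) hz
  have e2 : n % p + n / p * p = n := by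
    rw [mul_comm]; exact Nat.mod_add_div n p
  rw [e2] at e1
  rw [NI5, Nat.cast_mul, Nat.cast_mul]
  linear_combination (-((↑(n % p)! : R) * (Nat.uniformBell (n / p) p : R))) * e1

section Univ

variable (p : ℕ) [hp : Fact p.Prime] (hA : ∀ n : ℕ, ¬ p ∣ n → IsUnit (n : A)) {I : Ideal A}
  (d : A → A) (hdI : ∀ x ∈ I, d x ∈ I) (h1 : ∀ x ∈ I, (p.factorial : A) * d x = x ^ p)
  (h2 : ∀ (a x : A), x ∈ I → d (a * x) = a ^ p * d x)
  (h3 : ∀ x ∈ I, ∀ y ∈ I, d (x + y) = d x + d y +
    ((Finset.antidiagonal p).filter fun k => 0 < k.1 ∧ 0 < k.2).sum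
      fun k => Ring.inverse ((k.1.factorial * k.2.factorial : ℕ) : A) * x ^ k.1 * y ^ k.2)

/-- the map `ℤ⟨X,Y⟩ → A`, `X^[i] Y^[j] ↦ γ_i(x) γ_j(y)` -/
noncomputable def Phi {x y : A} (hx : x ∈ I) (hy : y ∈ I) : U →+* A :=
  phi (g p d) (g_zero p d x) (g_zero p d y) (fun m n => g_mul p hA d hdI h1 m n x hx)
    (fun m n => g_mul p hA d hdI h1 m n y hy)

theorem Phi_dpb {x y : A} (hx : x ∈ I) (hy : y ∈ I) (e : Fin 2 →₀ ℕ) :
    Phi p hA d hdI h1 hx hy (dpb ℤ ℚ 2 e) = g p d (e 0) x * g p d (e 1) y :=
  phi_dpb _ _ _ _ e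

theorem Phi_single {x y : A} (hx : x ∈ I) (hy : y ∈ I) (i : Fin 2) (k : ℕ) :
    Phi p hA d hdI h1 hx hy (dpb ℤ ℚ 2 (Finsupp.single i k)) =
      if i = 0 then g p d k x else g p d k y := by
  rw [Phi_dpb]
  fin_cases i
  · simp [g_zero]
  · simp [g_zero]

include hA in
theorem unit_factorial {i : ℕ} (hi : i < p) : IsUnit (i ! : A) :=
  hA _ (fun h => absurd ((Nat.Prime.dvd_factorial hp.out).1 h) (by omega))

include h2 in
theorem d_zero : d 0 = 0 := by
  have := h2 0 0 I.zero_mem
  rw [mul_zero, zero_pow hp.out.ne_zero, zero_mul] at this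
  exact this

theorem Phi_small {x y : A} (hx : x ∈ I) (hy : y ∈ I) {i : ℕ} (hi : i < p) (z : U)
    (hz : z ∈ augI ℤ ℚ 2) :
    Phi p hA d hdI h1 hx hy ((dpI ℤ ℚ 2).dpow i z) =
      Ring.inverse (i ! : A) * (Phi p hA d hdI h1 hx hy z) ^ i := by
  have h := congrArg (Phi p hA d hdI h1 hx hy) ((dpI ℤ ℚ 2).factorial_mul_dpow_eq_pow (n := i) hz)
  rw [map_mul, map_natCast, map_pow] at h
  rw [← h, ← mul_assoc, Ring.inverse_mul_cancel _ (unit_factorial p hA hi), one_mul]

include h2 h3 in
theorem Phi_d {x y : A} (hx : x ∈ I) (hy : y ∈ I) (z : U) (hz : z ∈ augI ℤ ℚ 2) :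
    Phi p hA d hdI h1 hx hy z ∈ I ∧
      Phi p hA d hdI h1 hx hy ((dpI ℤ ℚ 2).dpow p z) = d (Phi p hA d hdI h1 hx hy z) := by
  set φ := Phi p hA d hdI h1 hx hy with hφ
  have hp0 : p ≠ 0 := hp.out.ne_zero
  have hz' := hz
  unfold augI at hz
  induction hz using Submodule.span_induction with
  | mem u h =>
    obtain ⟨i, m, hm, rfl⟩ := h
    have hm0 : m ≠ 0 := by omega
    refine ⟨?_, ?_⟩
    · rw [hφ, Phi_single]
      split_ifs
      · exact g_mem p hA d hdI m hm0 x hx
      · exact g_mem p hA d hdI m hm0 y hy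
    · rw [dpI_dpow_dpb ℤ ℚ 2 i p m hm0, map_nsmul, hφ, Phi_single, Phi_single, nsmul_eq_mul]
      split_ifs
      · rw [g_d p hA d hdI h2 h1 m hm0 x hx]
      · rw [g_d p hA d hdI h2 h1 m hm0 y hy]
  | zero =>
    refine ⟨by rw [map_zero]; exact I.zero_mem, ?_⟩
    rw [(dpI ℤ ℚ 2).dpow_eval_zero hp0, map_zero, d_zero p d h2]
  | add u v hu hv h1' h2' =>
    have hu' : u ∈ augI ℤ ℚ 2 := hu
    have hv' : v ∈ augI ℤ ℚ 2 := hv
    obtain ⟨ha, hda⟩ := h1' hu'
    obtain ⟨hb, hdb⟩ := h2' hv'
    refine ⟨by rw [map_add]; exact I.add_mem ha hb, ?_⟩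
    rw [(dpI ℤ ℚ 2).dpow_add hu' hv', map_sum, map_add, h3 _ ha _ hb, Finset.sum_filter]
    have hterm : ∀ k ∈ Finset.antidiagonal p,
        φ ((dpI ℤ ℚ 2).dpow k.1 u * (dpI ℤ ℚ 2).dpow k.2 v) =
          (if k = (p, 0) then d (φ u) else 0) + (if k = (0, p) then d (φ v) else 0) +
            (if 0 < k.1 ∧ 0 < k.2 then
              Ring.inverse ((k.1.factorial * k.2.factorial : ℕ) : A) * φ u ^ k.1 * φ v ^ k.2
            else 0) := by
      rintro ⟨i, j⟩ hk
      rw [Finset.mem_antidiagonal] at hk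
      simp only at hk
      rw [map_mul]
      by_cases hi : i = 0
      · subst hi
        have hj : j = p := by omega
        subst hj
        rw [(dpI ℤ ℚ 2).dpow_zero hu', map_one, one_mul, hdb]
        simp [hp0, Ne.symm hp0]
      · by_cases hj : j = 0
        · subst hj
          have hi' : i = p := by omega
          subst hi'
          rw [(dpI ℤ ℚ 2).dpow_zero hv', map_one, mul_one, hda]
          simp [hp0, Ne.symm hp0]
        · have hip : i < p := by omega
          have hjp : j < p := by omega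
          rw [hφ, Phi_small p hA d hdI h1 hx hy hip u hu', Phi_small p hA d hdI h1 hx hy hjp v hv',
            ← hφ]
          have hne1 : ((i, j) : ℕ × ℕ) ≠ (p, 0) := by
            intro h; exact hj (Prod.mk.inj h).2
          have hne2 : ((i, j) : ℕ × ℕ) ≠ (0, p) := by
            intro h; exact hi (Prod.mk.inj h).1
          rw [if_neg hne1, if_neg hne2, if_pos ⟨Nat.pos_of_ne_zero hi, Nat.pos_of_ne_zero hj⟩,
            Nat.cast_mul, Ring.mul_inverse_rev]
          ring
    rw [Finset.sum_congr rfl hterm, Finset.sum_add_distrib, Finset.sum_add_distrib,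
      Finset.sum_ite_eq' _ (p, 0), Finset.sum_ite_eq' _ (0, p), if_pos, if_pos]
    · simp
    · simp
  | smul a u hu h1' =>
    have hu' : u ∈ augI ℤ ℚ 2 := hu
    obtain ⟨ha, hda⟩ := h1' hu'
    refine ⟨by rw [smul_eq_mul, map_mul]; exact I.mul_mem_left _ ha, ?_⟩
    rw [smul_eq_mul, (dpI ℤ ℚ 2).dpow_mul hu', map_mul, map_mul, map_pow, hda, h2 _ _ ha]

include h2 h3 in
theorem Phi_dpow {x y : A} (hx : x ∈ I) (hy : y ∈ I) (n : ℕ) (z : U) (hz : z ∈ augI ℤ ℚ 2) :
    Phi p hA d hdI h1 hx hy ((dpI ℤ ℚ 2).dpow n z) = g p d n (Phi p hA d hdI h1 hx hy z) := by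
  induction n using Nat.strong_induction_on generalizing z with
  | _ n ih =>
    by_cases hn : n = 0
    · subst hn
      rw [(dpI ℤ ℚ 2).dpow_zero hz, map_one, g_zero]
    · have hp0 : p ≠ 0 := hp.out.ne_zero
      apply cancelN p hA n
      have hk := congrArg (Phi p hA d hdI h1 hx hy) (dp_key (dpI ℤ ℚ 2) p hp0 n hz)
      rw [map_mul, map_natCast, map_mul, map_pow] at hk
      rw [hk, ih _ (Nat.div_lt_self (Nat.pos_of_ne_zero hn) hp.out.one_lt) _
        ((dpI ℤ ℚ 2).dpow_mem hp0 hz), (Phi_d p hA d hdI h1 h2 h3 hx hy z hz).2, g_key p hA]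

end Univ

section Final

variable (p : ℕ) [hp : Fact p.Prime] (hA : ∀ n : ℕ, ¬ p ∣ n → IsUnit (n : A)) {I : Ideal A}
  (d : A → A) (hdI : ∀ x ∈ I, d x ∈ I) (h1 : ∀ x ∈ I, (p.factorial : A) * d x = x ^ p)
  (h2 : ∀ (a x : A), x ∈ I → d (a * x) = a ^ p * d x)
  (h3 : ∀ x ∈ I, ∀ y ∈ I, d (x + y) = d x + d y +
    ((Finset.antidiagonal p).filter fun k => 0 < k.1 ∧ 0 < k.2).sum
      fun k => Ring.inverse ((k.1.factorial * k.2.factorial : ℕ) : A) * x ^ k.1 * y ^ k.2)

theorem X_mem (i : Fin 2) : dpb ℤ ℚ 2 (Finsupp.single i 1) ∈ augI ℤ ℚ 2 :=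
  dpb_single_mem ℤ ℚ 2 i 1 le_rfl

theorem Phi_X {x y : A} (hx : x ∈ I) (hy : y ∈ I) :
    Phi p hA d hdI h1 hx hy (dpb ℤ ℚ 2 (Finsupp.single 0 1)) = x := by
  rw [Phi_single, if_pos rfl, g_one p hA]

theorem Phi_Y {x y : A} (hx : x ∈ I) (hy : y ∈ I) :
    Phi p hA d hdI h1 hx hy (dpb ℤ ℚ 2 (Finsupp.single 1 1)) = y := by
  rw [Phi_single, if_neg (by decide), g_one p hA]

include hA hdI h1 h2 h3 in
theorem g_add (n : ℕ) {x y : A} (hx : x ∈ I) (hy : y ∈ I) :
    g p d n (x + y) = (Finset.antidiagonal n).sum fun k => g p d k.1 x * g p d k.2 y := by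
  set φ := Phi p hA d hdI h1 hx hy with hφ
  have hX := X_mem 0
  have hY := X_mem 1
  have e : x + y = φ (dpb ℤ ℚ 2 (Finsupp.single 0 1) + dpb ℤ ℚ 2 (Finsupp.single 1 1)) := by
    rw [map_add, hφ, Phi_X p hA, Phi_Y p hA]
  rw [e, hφ, ← Phi_dpow p hA d hdI h1 h2 h3 hx hy n _ (Ideal.add_mem _ hX hY),
    (dpI ℤ ℚ 2).dpow_add hX hY, map_sum]
  refine Finset.sum_congr rfl fun k _ => ?_
  rw [map_mul, Phi_dpow p hA d hdI h1 h2 h3 hx hy _ _ hX,
    Phi_dpow p hA d hdI h1 h2 h3 hx hy _ _ hY, Phi_X p hA, Phi_Y p hA]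

include hA hdI h1 h2 h3 in
theorem g_comp (m n : ℕ) (hn : n ≠ 0) {x : A} (hx : x ∈ I) :
    g p d m (g p d n x) = (Nat.uniformBell m n : A) * g p d (m * n) x := by
  have hX := X_mem 0
  have e := Phi_X p hA d hdI h1 hx hx
  have e1 := Phi_dpow p hA d hdI h1 h2 h3 hx hx n _ hX
  have e2 := Phi_dpow p hA d hdI h1 h2 h3 hx hx m _ ((dpI ℤ ℚ 2).dpow_mem hn hX)
  have e3 := Phi_dpow p hA d hdI h1 h2 h3 hx hx (m * n) _ hX
  rw [e] at e1 e3
  rw [e1, (dpI ℤ ℚ 2).dpow_comp hn hX, map_mul, map_natCast, e3] at e2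
  exact e2.symm

open Classical in
/-- the divided power structure with `γ_p = d` -/
noncomputable def dividedPowers : DividedPowers I where
  dpow n x := if x ∈ I then g p d n x else 0
  dpow_null {n x} hx := if_neg hx
  dpow_zero {x} hx := by rw [if_pos hx, g_zero]
  dpow_one {x} hx := by rw [if_pos hx, g_one p hA]
  dpow_mem {n x} hn hx := by rw [if_pos hx]; exact g_mem p hA d hdI n hn x hx
  dpow_add {n x y} hx hy := by
    rw [if_pos (I.add_mem hx hy), g_add p hA d hdI h1 h2 h3 n hx hy]
    refine Finset.sum_congr rfl fun k _ => ?_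
    rw [if_pos hx, if_pos hy]
  dpow_mul {n a x} hx := by
    rw [if_pos (I.mul_mem_left a hx), if_pos hx, g_smul p hA d hdI h2 n a x hx]
  mul_dpow {m n x} hx := by
    simp only [if_pos hx]
    exact g_mul p hA d hdI h1 m n x hx
  dpow_comp {m n x} hn hx := by
    simp only [if_pos hx, if_pos (g_mem p hA d hdI n hn x hx)]
    exact g_comp p hA d hdI h1 h2 h3 m n hn hx

open Classical in
theorem dividedPowers_dpow_p {x : A} (hx : x ∈ I) :
    (dividedPowers p hA d hdI h1 h2 h3).dpow p x = d x := by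
  change (if x ∈ I then g p d p x else 0) = d x
  rw [if_pos hx, g_p p hA]

end Final

section Unique

variable (p : ℕ) [hp : Fact p.Prime] (hA : ∀ n : ℕ, ¬ p ∣ n → IsUnit (n : A)) {I : Ideal A}

include hA in
/-- over a `ℤ_(p)`-algebra a divided power structure is determined by `γ_p` -/
theorem eq_of_dpow_p_eq (γ γ' : DividedPowers I)
    (h : ∀ x ∈ I, γ.dpow p x = γ'.dpow p x) : γ = γ' := by
  apply DividedPowers.ext
  intro n
  induction n using Nat.strong_induction_on with
  | _ n ih =>
    intro x hx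
    rcases Nat.eq_zero_or_pos n with rfl | hn
    · rw [γ.dpow_zero hx, γ'.dpow_zero hx]
    by_cases hpn : p ∣ n
    · obtain ⟨m, rfl⟩ := hpn
      have hm0 : 0 < m := by
        rcases Nat.eq_zero_or_pos m with rfl | h'
        · simp at hn
        · exact h'
      have hm : m < p * m := by
        have := Nat.mul_le_mul_right m hp.out.two_le
        omega
      have hy : γ.dpow p x ∈ I := γ.dpow_mem hp.out.ne_zero hx
      have e1 := γ.dpow_comp (m := m) hp.out.ne_zero hx
      have e2 := γ'.dpow_comp (m := m) hp.out.ne_zero hx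
      rw [← h x hx, ← ih m hm hy, e1] at e2
      have hu : IsUnit ((Nat.uniformBell m p : ℕ) : A) := hA _ (not_dvd_uniformBell m)
      rw [mul_comm p m]
      exact hu.mul_left_cancel e2
    · have e1 := γ.mul_dpow (m := 1) (n := n - 1) hx
      have e2 := γ'.mul_dpow (m := 1) (n := n - 1) hx
      rw [γ.dpow_one hx] at e1
      rw [γ'.dpow_one hx, ← ih (n - 1) (by omega) hx, e1] at e2
      have hn1 : 1 + (n - 1) = n := by omega
      rw [hn1, Nat.choose_one_right] at e2
      exact (hA n hpn).mul_left_cancel e2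

end Unique

end Groth.Agent.Lib.Seat77.DPPrime
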