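import Mathlib.Data.Nat.Choose.Lucas
import Mathlib.Combinatorics.Enumerative.Bell
import Mathlib.Data.Nat.Prime.Factorial

/-!
# Numerics for divided powers over `ℤ_(p)`-algebras

`Nn p n = n! / (p!^(n/p) (n/p)!)` is a natural number prime to `p`.
-/

set_option autoImplicit false

namespace Groth.Agent.Lib.Seat77.DPPrimeNum

open Nat

/-- `n! / (p!^(n/p) * (n/p)!)` -/
def Nn (p n : ℕ) : ℕ := Nat.uniformBell (n / p) p * n.choose (n % p) * (n % p)!

theorem Nn_spec (p n : ℕ) (hp : p ≠ 0) : Nn p n * (p ! ^ (n / p) * (n / p)!) = n ! := by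
  have h1 := Nat.uniformBell_mul_eq (n / p) hp
  have h2 := Nat.choose_mul_factorial_mul_factorial (Nat.mod_le n p)
  have h3 : n - n % p = n / p * p := by
    have := Nat.div_add_mod n p
    rw [mul_comm] at this
    omega
  rw [h3] at h2
  unfold Nn
  calc uniformBell (n / p) p * n.choose (n % p) * (n % p)! * (p ! ^ (n / p) * (n / p)!)
      = n.choose (n % p) * (n % p)! * (uniformBell (n / p) p * p ! ^ (n / p) * (n / p)!) := by ring
    _ = n ! := by rw [h1, h2]

theorem Nn_zero (p : ℕ) : Nn p 0 = 1 := by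
  simp [Nn, Nat.uniformBell_zero_left]

theorem Nn_of_lt {p n : ℕ} (h : n < p) : Nn p n = n ! := by
  unfold Nn
  rw [Nat.div_eq_of_lt h, Nat.mod_eq_of_lt h, Nat.uniformBell_zero_left, Nat.choose_self]
  ring

theorem Nn_mul (p k : ℕ) (hp : 0 < p) : Nn p (p * k) = Nat.uniformBell k p := by
  unfold Nn
  rw [Nat.mul_div_cancel_left k hp, Nat.mul_mod_right, Nat.choose_zero_right, Nat.factorial_zero]
  ring

variable {p : ℕ} [hp : Fact p.Prime]

theorem not_dvd_choose (m r : ℕ) (hr : r < p) : ¬ p ∣ (p * m + r).choose r := by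
  have h := Choose.choose_modEq_choose_mod_mul_choose_div_nat (n := p * m + r) (k := r) (p := p)
  rw [Nat.mul_add_mod, Nat.mod_eq_of_lt hr, Nat.choose_self, Nat.div_eq_of_lt hr,
    Nat.choose_zero_right, mul_one] at h
  intro hdvd
  have h0 : (p * m + r).choose r ≡ 0 [MOD p] := (Nat.modEq_zero_iff_dvd).2 hdvd
  have h1 : 1 ≡ 0 [MOD p] := h.symm.trans h0
  have := (Nat.modEq_zero_iff_dvd).1 h1
  exact hp.out.one_lt.ne' (Nat.dvd_one.1 this)

theorem not_dvd_uniformBell (m : ℕ) : ¬ p ∣ Nat.uniformBell m p := by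
  induction m with
  | zero =>
    rw [Nat.uniformBell_zero_left]
    intro h
    exact hp.out.one_lt.ne' (Nat.dvd_one.1 h)
  | succ m ih =>
    rw [Nat.uniformBell_succ_left]
    intro h
    rcases (Nat.Prime.dvd_mul hp.out).1 h with h | h
    · have hp1 : 1 ≤ p := hp.out.one_lt.le
      have e : m * p + p - 1 = p * m + (p - 1) := by
        rw [mul_comm]
        omega
      rw [e] at h
      exact not_dvd_choose m (p - 1) (by omega) h
    · exact ih h

theorem not_dvd_Nn (n : ℕ) : ¬ p ∣ Nn p n := by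
  unfold Nn
  intro h
  have hr : n % p < p := Nat.mod_lt _ hp.out.pos
  rcases (Nat.Prime.dvd_mul hp.out).1 h with h | h
  · rcases (Nat.Prime.dvd_mul hp.out).1 h with h | h
    · exact not_dvd_uniformBell _ h
    · have e : n = p * (n / p) + n % p := (Nat.div_add_mod n p).symm
      rw [e, Nat.mul_add_mod, Nat.mod_eq_of_lt hr] at h
      rw [← e] at h
      nth_rewrite 1 [e] at h
      exact not_dvd_choose _ _ hr h
  · exact absurd ((Nat.Prime.dvd_factorial hp.out).1 h) (by omega)

section Identities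

variable {p : ℕ}

theorem div_mod_add_of_lt (hp : 0 < p) (n n' : ℕ) (h : n % p + n' % p < p) :
    (n + n') / p = n / p + n' / p ∧ (n + n') % p = n % p + n' % p := by
  constructor
  · rw [Nat.add_div hp, if_neg (by omega), add_zero]
  · rw [Nat.add_mod, Nat.mod_eq_of_lt h]

theorem div_mod_add_of_le (hp : 0 < p) (n n' : ℕ) (h : p ≤ n % p + n' % p) :
    (n + n') / p = n / p + n' / p + 1 ∧ (n + n') % p = n % p + n' % p - p := by
  have h1 : n % p < p := Nat.mod_lt _ hp
  have h2 : n' % p < p := Nat.mod_lt _ hp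
  constructor
  · rw [Nat.add_div hp, if_pos h]
  · rw [Nat.add_mod]
    have : n % p + n' % p = (n % p + n' % p - p) + p := by omega
    rw [this, Nat.add_mod_right, Nat.mod_eq_of_lt (by omega)]
    omega

/-- no carry -/
theorem NI1 (hp : 0 < p) (n n' : ℕ) (h : n % p + n' % p < p) :
    Nn p n * Nn p n' * (n + n').choose n = (n / p + n' / p).choose (n / p) * Nn p (n + n') := by
  have hp0 : p ≠ 0 := hp.ne'
  have e1 := Nn_spec p n hp0
  have e2 := Nn_spec p n' hp0
  have e3 := Nn_spec p (n + n') hp0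
  rw [(div_mod_add_of_lt hp n n' h).1] at e3
  have e4 : (n + n').choose n * n ! * n' ! = (n + n')! := by
    rw [Nat.choose_symm_add]; exact Nat.add_choose_mul_factorial_mul_factorial n n'
  have e5 : (n / p + n' / p).choose (n / p) * (n / p)! * (n' / p)! = (n / p + n' / p)! := by
    rw [Nat.choose_symm_add]; exact Nat.add_choose_mul_factorial_mul_factorial (n / p) (n' / p)
  have hpos : 0 < (p ! ^ (n / p) * (n / p)!) * (p ! ^ (n' / p) * (n' / p)!) :=
    Nat.mul_pos (Nat.mul_pos (Nat.pow_pos (Nat.factorial_pos p)) (Nat.factorial_pos _))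
      (Nat.mul_pos (Nat.pow_pos (Nat.factorial_pos p)) (Nat.factorial_pos _))
  refine Nat.eq_of_mul_eq_mul_right hpos ?_
  calc Nn p n * Nn p n' * (n + n').choose n *
        ((p ! ^ (n / p) * (n / p)!) * (p ! ^ (n' / p) * (n' / p)!))
      = (n + n').choose n * (Nn p n * (p ! ^ (n / p) * (n / p)!)) *
          (Nn p n' * (p ! ^ (n' / p) * (n' / p)!)) := by ring
    _ = (n + n')! := by rw [e1, e2, e4]
    _ = Nn p (n + n') * (p ! ^ (n / p + n' / p) * (n / p + n' / p)!) := e3.symm
    _ = Nn p (n + n') * (p ! ^ (n / p + n' / p) *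
          ((n / p + n' / p).choose (n / p) * (n / p)! * (n' / p)!)) := by rw [e5]
    _ = (n / p + n' / p).choose (n / p) * Nn p (n + n') *
        ((p ! ^ (n / p) * (n / p)!) * (p ! ^ (n' / p) * (n' / p)!)) := by
      rw [pow_add]; ring

/-- carry -/
theorem NI2 (hp : 0 < p) (n n' : ℕ) (h : p ≤ n % p + n' % p) :
    Nn p n * Nn p n' * (n + n').choose n =
      (n / p + n' / p).choose (n / p) * p ! * (n / p + n' / p + 1) * Nn p (n + n') := by
  have hp0 : p ≠ 0 := hp.ne'
  have e1 := Nn_spec p n hp0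
  have e2 := Nn_spec p n' hp0
  have e3 := Nn_spec p (n + n') hp0
  rw [(div_mod_add_of_le hp n n' h).1] at e3
  have e4 : (n + n').choose n * n ! * n' ! = (n + n')! := by
    rw [Nat.choose_symm_add]; exact Nat.add_choose_mul_factorial_mul_factorial n n'
  have e5 : (n / p + n' / p).choose (n / p) * (n / p)! * (n' / p)! = (n / p + n' / p)! := by
    rw [Nat.choose_symm_add]; exact Nat.add_choose_mul_factorial_mul_factorial (n / p) (n' / p)
  have hpos : 0 < (p ! ^ (n / p) * (n / p)!) * (p ! ^ (n' / p) * (n' / p)!) :=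
    Nat.mul_pos (Nat.mul_pos (Nat.pow_pos (Nat.factorial_pos p)) (Nat.factorial_pos _))
      (Nat.mul_pos (Nat.pow_pos (Nat.factorial_pos p)) (Nat.factorial_pos _))
  refine Nat.eq_of_mul_eq_mul_right hpos ?_
  calc Nn p n * Nn p n' * (n + n').choose n *
        ((p ! ^ (n / p) * (n / p)!) * (p ! ^ (n' / p) * (n' / p)!))
      = (n + n').choose n * (Nn p n * (p ! ^ (n / p) * (n / p)!)) *
          (Nn p n' * (p ! ^ (n' / p) * (n' / p)!)) := by ring
    _ = (n + n')! := by rw [e1, e2, e4]
    _ = Nn p (n + n') * (p ! ^ (n / p + n' / p + 1) * (n / p + n' / p + 1)!) := e3.symm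
    _ = Nn p (n + n') * (p ! ^ (n / p + n' / p + 1) * ((n / p + n' / p + 1) *
          ((n / p + n' / p).choose (n / p) * (n / p)! * (n' / p)!))) := by
      rw [Nat.factorial_succ, e5]
    _ = (n / p + n' / p).choose (n / p) * p ! * (n / p + n' / p + 1) * Nn p (n + n') *
        ((p ! ^ (n / p) * (n / p)!) * (p ! ^ (n' / p) * (n' / p)!)) := by
      rw [pow_succ, pow_add]; ring

/-- the identity behind `d (γ_k x) = B(p,k) γ_{pk} x` for `0 < k < p` -/
theorem NI3 (hp : 0 < p) (k : ℕ) (hk : k ≠ 0) :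
    p ! ^ (k - 1) * k ! * Nat.uniformBell k p = Nat.uniformBell p k * k ! ^ p := by
  have e1 := Nat.uniformBell_mul_eq k hp.ne'
  have e2 := Nat.uniformBell_mul_eq p hk
  rw [mul_comm k p] at e1
  refine Nat.eq_of_mul_eq_mul_right (Nat.factorial_pos p) ?_
  have hk1 : k = (k - 1) + 1 := by omega
  calc p ! ^ (k - 1) * k ! * uniformBell k p * p !
      = uniformBell k p * (p ! ^ (k - 1) * p !) * k ! := by ring
    _ = uniformBell k p * p ! ^ k * k ! := by rw [← pow_succ, ← hk1]
    _ = (p * k)! := e1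
    _ = uniformBell p k * k ! ^ p * p ! := e2.symm

/-- the identity behind `d (γ_k x) = B(p,k) γ_{pk} x` for `p ≤ k` -/
theorem NI4 (hp : 0 < p) (k : ℕ) (hm : k / p ≠ 0) :
    p ! ^ (k % p) * (k % p)! * Nat.uniformBell p (k / p) * k.choose (k % p) * Nat.uniformBell k p =
      Nat.uniformBell p k * Nn p k ^ p := by
  have hp0 : p ≠ 0 := hp.ne'
  have hk : k ≠ 0 := by
    rintro rfl
    simp at hm
  have e1 := Nat.uniformBell_mul_eq k hp0
  have e2 := Nat.uniformBell_mul_eq p hk
  have e3 := Nat.uniformBell_mul_eq p hm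
  have e4 := Nat.choose_mul_factorial_mul_factorial (Nat.mod_le k p)
  have e5 := Nn_spec p k hp0
  have h3 : k - k % p = p * (k / p) := by
    have := Nat.div_add_mod k p
    omega
  rw [h3] at e4
  have h6 : k % p + p * (k / p) = k := by
    have := Nat.div_add_mod k p
    omega
  rw [mul_comm k p] at e1
  have hpos : 0 < (p ! ^ (k / p) * (k / p)!) ^ p * p ! :=
    Nat.mul_pos (Nat.pow_pos (Nat.mul_pos (Nat.pow_pos (Nat.factorial_pos p))
      (Nat.factorial_pos _))) (Nat.factorial_pos p)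
  refine Nat.eq_of_mul_eq_mul_right hpos ?_
  calc p ! ^ (k % p) * (k % p)! * uniformBell p (k / p) * k.choose (k % p) * uniformBell k p *
        ((p ! ^ (k / p) * (k / p)!) ^ p * p !)
      = uniformBell k p * (p ! ^ (k % p) * (p ! ^ (k / p)) ^ p) *
          (k.choose (k % p) * (k % p)! * (uniformBell p (k / p) * (k / p)! ^ p * p !)) := by
        rw [mul_pow]; ring
    _ = uniformBell k p * p ! ^ k * k ! := by
        rw [e3, e4, ← pow_mul, ← pow_add, mul_comm (k / p) p, h6]
    _ = (p * k)! := e1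
    _ = uniformBell p k * k ! ^ p * p ! := e2.symm
    _ = uniformBell p k * Nn p k ^ p * ((p ! ^ (k / p) * (k / p)!) ^ p * p !) := by
        rw [← e5, mul_pow]; ring

/-- the identity `N_n γ_n = z^r γ_m(γ_p z)` at the level of coefficients -/
theorem NI5 (n : ℕ) (p : ℕ) : Nn p n = (n % p)! * Nat.uniformBell (n / p) p * n.choose (n % p) := by
  unfold Nn; ring

end Identities

end Groth.Agent.Lib.Seat77.DPPrimeNum
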