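import Groth.Agent.Lib.Seat90DPPoly

/-!
# The divided power polynomial algebra: comparison with an abstract presentation

Given a surjection `A → R` from the torsion-free ring `A` and an abstract divided power polynomial
algebra `P` over `R` (elements `x i n` with the usual product rule whose monomials form a basis),
we construct the surjection `dpAlg A K N → P` and push the divided power structure forward.
-/

set_option autoImplicit false
universe u v w t

namespace Groth.Agent.Lib.Seat90.DPPoly

open MvPolynomial Nat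

section Abstract

variable {R : Type w} [CommRing R] {N : ℕ} {P : Type t} [CommRing P] [Algebra R P]
  (x : Fin N → ℕ → P) (hx0 : ∀ i, x i 0 = 1)
  (hxmul : ∀ i n m, x i n * x i m = ((n + m).choose n : P) * x i (n + m))
  (b : Module.Basis (Fin N →₀ ℕ) R P) (hb : ∀ e : Fin N →₀ ℕ, b e = e.prod (fun i k => x i k))

include hx0 hb in
theorem basis_eq_prod (e : Fin N →₀ ℕ) : b e = ∏ i, x i (e i) := by
  rw [hb, Finsupp.prod_fintype]
  intro i; exact hx0 i

include hx0 hb hxmul in
theorem basis_mul (e e' : Fin N →₀ ℕ) : b e * b e' = (mchoose N e e') • b (e + e') := by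
  rw [basis_eq_prod x hx0 b hb, basis_eq_prod x hx0 b hb, basis_eq_prod x hx0 b hb,
    ← Finset.prod_mul_distrib, nsmul_eq_mul]
  unfold mchoose
  rw [Nat.cast_prod, ← Finset.prod_mul_distrib]
  refine Finset.prod_congr rfl fun i _ => ?_
  rw [hxmul, Finsupp.add_apply]

include hx0 hb in
theorem basis_zero : b 0 = 1 := by
  rw [basis_eq_prod x hx0 b hb]
  simp [hx0]

include hx0 hb in
theorem basis_single (i : Fin N) (n : ℕ) : b (Finsupp.single i n) = x i n := by
  rw [basis_eq_prod x hx0 b hb, Finset.prod_eq_single i]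
  · rw [Finsupp.single_eq_same]
  · intro j _ hj
    rw [Finsupp.single_eq_of_ne hj, hx0]
  · intro h; exact absurd (Finset.mem_univ i) h

end Abstract

section Compare

variable (A : Type u) [CommRing A] (K : Type v) [CommRing K] [Algebra ℚ K] [Algebra A K] (N : ℕ)
  (hinj : Function.Injective (algebraMap A K))
  {R : Type w} [CommRing R] [Algebra A R] (hπ : Function.Surjective (algebraMap A R))
  {P : Type t} [CommRing P] [Algebra R P] [Algebra A P] [IsScalarTower A R P]
  (x : Fin N → ℕ → P) (hx0 : ∀ i, x i 0 = 1)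
  (hxmul : ∀ i n m, x i n * x i m = ((n + m).choose n : P) * x i (n + m))
  (b : Module.Basis (Fin N →₀ ℕ) R P) (hb : ∀ e : Fin N →₀ ℕ, b e = e.prod (fun i k => x i k))

/-- the comparison map, as a linear map -/
noncomputable def cmpL : dpAlg A K N →ₗ[A] P := (dpBasis A K N hinj).constr A (fun e => b e)

omit [Algebra A R] [IsScalarTower A R P] in
theorem cmpL_dpb (e : Fin N →₀ ℕ) : cmpL A K N hinj b (dpb A K N e) = b e := by
  unfold cmpL
  rw [← dpBasis_apply A K N hinj, Module.Basis.constr_basis]

omit [Algebra A R] [IsScalarTower A R P] in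
include hx0 hb hxmul in
theorem cmpL_mul (p q : dpAlg A K N) :
    cmpL A K N hinj b (p * q) = cmpL A K N hinj b p * cmpL A K N hinj b q := by
  have : (LinearMap.mul A (dpAlg A K N)).compr₂ (cmpL A K N hinj b) =
      (LinearMap.mul A P).compl₁₂ (cmpL A K N hinj b) (cmpL A K N hinj b) := by
    refine (dpBasis A K N hinj).ext fun e => (dpBasis A K N hinj).ext fun e' => ?_
    simp only [LinearMap.compr₂_apply, LinearMap.mul_apply', LinearMap.compl₁₂_apply]
    rw [dpBasis_apply, dpBasis_apply, dpb_mul, map_nsmul, cmpL_dpb, cmpL_dpb, cmpL_dpb,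
      basis_mul x hx0 hxmul b hb]
  exact LinearMap.congr_fun (LinearMap.congr_fun this p) q

omit [Algebra A R] [IsScalarTower A R P] in
include hx0 hb in
theorem cmpL_one : cmpL A K N hinj b 1 = 1 := by
  rw [← dpb_zero, cmpL_dpb, basis_zero x hx0 b hb]

/-- the comparison map, as an algebra homomorphism -/
noncomputable def cmp : dpAlg A K N →ₐ[A] P :=
  AlgHom.ofLinearMap (cmpL A K N hinj b) (cmpL_one A K N hinj x hx0 b hb)
    (cmpL_mul A K N hinj x hx0 hxmul b hb)

omit [Algebra A R] [IsScalarTower A R P] in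
theorem cmp_dpb (e : Fin N →₀ ℕ) : cmp A K N hinj x hx0 hxmul b hb (dpb A K N e) = b e :=
  cmpL_dpb A K N hinj b e

include hπ in
theorem cmp_surjective : Function.Surjective (cmp A K N hinj x hx0 hxmul b hb) := by
  intro y
  have hy : y ∈ LinearMap.range (cmp A K N hinj x hx0 hxmul b hb).toLinearMap := by
    rw [← b.linearCombination_repr y, Finsupp.linearCombination_apply]
    refine Submodule.sum_mem _ fun e _ => ?_
    obtain ⟨a, ha⟩ := hπ (b.repr y e)
    change (b.repr y e) • b e ∈ _
    rw [← ha, algebraMap_smul]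
    refine Submodule.smul_mem _ _ ⟨dpb A K N e, ?_⟩
    exact cmp_dpb A K N hinj x hx0 hxmul b hb e
  obtain ⟨z, hz⟩ := hy
  exact ⟨z, hz⟩

/-- coordinates of the image under the comparison map -/
theorem repr_cmp (f : dpAlg A K N) (e : Fin N →₀ ℕ) :
    b.repr (cmp A K N hinj x hx0 hxmul b hb f) e =
      algebraMap A R ((dpBasis A K N hinj).repr f e) := by
  have h : ((b.coord e).restrictScalars A).comp (cmp A K N hinj x hx0 hxmul b hb).toLinearMap =
      (Algebra.linearMap A R).comp ((dpBasis A K N hinj).coord e) := by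
    refine (dpBasis A K N hinj).ext fun e' => ?_
    simp only [LinearMap.comp_apply, LinearMap.restrictScalars_apply, AlgHom.toLinearMap_apply,
      Module.Basis.coord_apply, Algebra.linearMap_apply]
    rw [dpBasis_apply, cmp_dpb, Module.Basis.repr_self, ← dpBasis_apply A K N hinj,
      Module.Basis.repr_self]
    by_cases h : e' = e
    · subst h; simp
    · simp [Finsupp.single_eq_of_ne' h]
  exact LinearMap.congr_fun h f

end Compare

section Aug

variable (A : Type u) [CommRing A] (K : Type v) [CommRing K] [Algebra ℚ K] [Algebra A K] (N : ℕ)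
  (hinj : Function.Injective (algebraMap A K))

theorem mchoose_single_erase (e : Fin N →₀ ℕ) (i : Fin N) :
    mchoose N (Finsupp.single i (e i)) (e.erase i) = 1 := by
  unfold mchoose
  refine Finset.prod_eq_one fun j _ => ?_
  by_cases hj : j = i
  · subst hj
    rw [Finsupp.single_eq_same, Finsupp.erase_same, add_zero, Nat.choose_self]
  · rw [Finsupp.single_eq_of_ne hj, Nat.choose_zero_right]

/-- a nonconstant divided power monomial lies in the augmentation ideal -/
theorem dpb_mem_augI (e : Fin N →₀ ℕ) (he : e ≠ 0) : dpb A K N e ∈ augI A K N := by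
  obtain ⟨i, hi⟩ : ∃ i, e i ≠ 0 := by
    by_contra hcon
    apply he
    ext i
    by_contra hi
    exact hcon ⟨i, hi⟩
  have h : dpb A K N e = dpb A K N (Finsupp.single i (e i)) * dpb A K N (e.erase i) := by
    rw [dpb_mul, mchoose_single_erase, one_smul, Finsupp.single_add_erase]
  rw [h]
  exact Ideal.mul_mem_right _ _ (dpb_single_mem A K N i (e i) (Nat.one_le_iff_ne_zero.2 hi))

theorem incl_eq_linearCombination (f : dpAlg A K N) :
    incl A K N f = Finsupp.linearCombination A (dpm K N) ((dpBasis A K N hinj).repr f) := by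
  conv_lhs => rw [← (dpBasis A K N hinj).linearCombination_repr f]
  change (dpAlg A K N).val.toLinearMap _ = _
  rw [Finsupp.apply_linearCombination]
  congr 2
  funext e
  rw [Function.comp_apply, dpBasis_apply]
  rfl

/-- elements of the augmentation ideal have vanishing constant coordinate -/
theorem repr_zero_of_mem_augI (f : dpAlg A K N) (hf : f ∈ augI A K N) :
    (dpBasis A K N hinj).repr f 0 = 0 := by
  have h1 : augI A K N ≤ RingHom.ker ((constantCoeff : MvPolynomial (Fin N) K →+* K).comp
      (incl A K N)) := by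
    unfold augI
    rw [Ideal.span_le]
    rintro y ⟨i, m, hm, rfl⟩
    rw [SetLike.mem_coe, RingHom.mem_ker, RingHom.comp_apply, incl_apply, dpb_val,
      constantCoeff_eq, coeff_dpm, if_neg]
    intro h
    have := DFunLike.congr_fun h i
    rw [Finsupp.single_eq_same, Finsupp.zero_apply] at this
    omega
  have h2 := h1 hf
  rw [RingHom.mem_ker, RingHom.comp_apply, incl_eq_linearCombination A K N hinj, constantCoeff_eq,
    coeff_linearCombination, Algebra.smul_def] at h2
  have h3 := (isUnit_qinv K N 0).mul_left_eq_zero.1 h2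
  exact hinj (h3.trans (map_zero _).symm)

end Aug

section Push

variable (A : Type u) [CommRing A] (K : Type v) [CommRing K] [Algebra ℚ K] [Algebra A K] (N : ℕ)
  (hinj : Function.Injective (algebraMap A K))
  {R : Type w} [CommRing R] [Algebra A R] (hπ : Function.Surjective (algebraMap A R))
  {P : Type t} [CommRing P] [Algebra R P] [Algebra A P] [IsScalarTower A R P]
  (x : Fin N → ℕ → P) (hx0 : ∀ i, x i 0 = 1)
  (hxmul : ∀ i n m, x i n * x i m = ((n + m).choose n : P) * x i (n + m))
  (b : Module.Basis (Fin N →₀ ℕ) R P) (hb : ∀ e : Fin N →₀ ℕ, b e = e.prod (fun i k => x i k))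

/-- the comparison map as a ring homomorphism -/
noncomputable def cmpR : dpAlg A K N →+* P := (cmp A K N hinj x hx0 hxmul b hb).toRingHom

omit [Algebra A R] [IsScalarTower A R P] in
theorem cmpR_apply (f : dpAlg A K N) :
    cmpR A K N hinj x hx0 hxmul b hb f = cmp A K N hinj x hx0 hxmul b hb f := rfl

theorem algebraMap_repr_mem_ker (f : dpAlg A K N)
    (hf : f ∈ RingHom.ker (cmpR A K N hinj x hx0 hxmul b hb)) (e : Fin N →₀ ℕ) :
    algebraMap A (dpAlg A K N) ((dpBasis A K N hinj).repr f e) ∈
      RingHom.ker (cmpR A K N hinj x hx0 hxmul b hb) := by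
  rw [RingHom.mem_ker, cmpR_apply] at hf ⊢
  have h := repr_cmp A K N hinj x hx0 hxmul b hb f e
  rw [hf, map_zero, Finsupp.zero_apply] at h
  rw [AlgHom.commutes, IsScalarTower.algebraMap_apply A R P, ← h, map_zero]

theorem ker_inf_augI :
    RingHom.ker (cmpR A K N hinj x hx0 hxmul b hb) ⊓ augI A K N =
      augI A K N • RingHom.ker (cmpR A K N hinj x hx0 hxmul b hb) := by
  apply le_antisymm
  · intro f hf
    obtain ⟨hfk, hfa⟩ := Submodule.mem_inf.1 hf
    have h0 := repr_zero_of_mem_augI A K N hinj f hfa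
    rw [← (dpBasis A K N hinj).linearCombination_repr f, Finsupp.linearCombination_apply]
    refine Submodule.sum_mem _ fun e _ => ?_
    by_cases he0 : e = 0
    · subst he0
      change (dpBasis A K N hinj).repr f 0 • _ ∈ _
      rw [h0, zero_smul]
      exact Submodule.zero_mem _
    · change (dpBasis A K N hinj).repr f e • (dpBasis A K N hinj) e ∈ _
      rw [dpBasis_apply, Algebra.smul_def, mul_comm, Ideal.smul_eq_mul]
      exact Ideal.mul_mem_mul (dpb_mem_augI A K N e he0)
        (algebraMap_repr_mem_ker A K N hinj x hx0 hxmul b hb f hfk e)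
  · rw [Ideal.smul_eq_mul]
    exact Ideal.mul_le_inf.trans (le_of_eq (inf_comm _ _))

theorem isSubDPIdeal_ker_inf :
    (dpI A K N).IsSubDPIdeal (RingHom.ker (cmpR A K N hinj x hx0 hxmul b hb) ⊓ augI A K N) := by
  rw [ker_inf_augI]
  exact (DividedPowers.SubDPIdeal.prod (hI := dpI A K N)
    (RingHom.ker (cmpR A K N hinj x hx0 hxmul b hb))).toIsSubDPIdeal

/-- the image of the augmentation ideal -/
theorem map_augI :
    Ideal.span {y : P | ∃ (i : Fin N) (n : ℕ), 1 ≤ n ∧ y = x i n} =
      (augI A K N).map (cmpR A K N hinj x hx0 hxmul b hb) := by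
  unfold augI
  rw [Ideal.map_span]
  congr 1
  ext y
  constructor
  · rintro ⟨i, n, hn, rfl⟩
    refine ⟨dpb A K N (Finsupp.single i n), ⟨i, n, hn, rfl⟩, ?_⟩
    rw [cmpR_apply, cmp_dpb, basis_single x hx0 b hb]
  · rintro ⟨z, ⟨i, n, hn, rfl⟩, rfl⟩
    refine ⟨i, n, hn, ?_⟩
    rw [cmpR_apply, cmp_dpb, basis_single x hx0 b hb]

include hπ in
theorem cmpR_surjective : Function.Surjective (cmpR A K N hinj x hx0 hxmul b hb) :=
  cmp_surjective A K N hinj hπ x hx0 hxmul b hb

/-- the divided power structure on the augmentation ideal of the abstract algebra `P` -/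
noncomputable def dpP :
    DividedPowers (Ideal.span {y : P | ∃ (i : Fin N) (n : ℕ), 1 ≤ n ∧ y = x i n}) :=
  DividedPowers.Quotient.OfSurjective.dividedPowers (dpI A K N)
    (cmpR_surjective A K N hinj hπ x hx0 hxmul b hb) (map_augI A K N hinj x hx0 hxmul b hb)
    (isSubDPIdeal_ker_inf A K N hinj x hx0 hxmul b hb)

theorem dpP_dpow (i : Fin N) (n : ℕ) :
    (dpP A K N hinj hπ x hx0 hxmul b hb).dpow n (x i 1) = x i n := by
  have h1 : x i 1 = cmpR A K N hinj x hx0 hxmul b hb (dpb A K N (Finsupp.single i 1)) := by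
    rw [cmpR_apply, cmp_dpb, basis_single x hx0 b hb]
  rw [h1]
  unfold dpP
  rw [DividedPowers.Quotient.OfSurjective.dpow_apply (dpI A K N)
    (cmpR_surjective A K N hinj hπ x hx0 hxmul b hb) (map_augI A K N hinj x hx0 hxmul b hb)
    (isSubDPIdeal_ker_inf A K N hinj x hx0 hxmul b hb) (dpb_single_mem A K N i 1 le_rfl),
    dpI_dpow_dpb_one, cmpR_apply, cmp_dpb, basis_single x hx0 b hb]

end Push

end Groth.Agent.Lib.Seat90.DPPoly
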