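import Groth.Agent.Lib.Seat77DPPolyAdd
import Groth.Agent.Lib.Seat90DPPoly2
import Groth.Agent.S18420
import Mathlib.RingTheory.TensorProduct.Free

/-!
# The universal divided power polynomial algebra over a divided power ring
-/

set_option autoImplicit false
universe u v w

namespace Groth.Agent.Lib.Seat77.DPUniv

open Groth.Agent.Lib.Seat90.DPPoly TensorProduct

section U

variable (N : ℕ)

theorem hinj : Function.Injective (algebraMap ℤ ℚ) := Int.cast_injective

theorem mchoose_single_single (i : Fin N) (n m : ℕ) :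
    mchoose N (Finsupp.single i n) (Finsupp.single i m) = (n + m).choose n := by
  unfold mchoose
  rw [Finset.prod_eq_single i]
  · rw [Finsupp.single_eq_same, Finsupp.single_eq_same]
  · intro j _ hj
    rw [Finsupp.single_eq_of_ne hj, Finsupp.single_eq_of_ne hj, Nat.choose_zero_right]
  · intro h
    exact absurd (Finset.mem_univ i) h

theorem mchoose_single_of_notMem (i : Fin N) (n : ℕ) (f : Fin N →₀ ℕ) (hi : i ∉ f.support) :
    mchoose N (Finsupp.single i n) f = 1 := by
  unfold mchoose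
  refine Finset.prod_eq_one fun j _ => ?_
  by_cases hj : j = i
  · subst hj
    rw [Finsupp.single_eq_same, Finsupp.notMem_support_iff.1 hi, add_zero, Nat.choose_self]
  · rw [Finsupp.single_eq_of_ne hj, Nat.choose_zero_right]

theorem dpb_eq_prod (e : Fin N →₀ ℕ) :
    dpb ℤ ℚ N e = e.prod fun i k => dpb ℤ ℚ N (Finsupp.single i k) := by
  classical
  induction e using Finsupp.induction with
  | zero => rw [Finsupp.prod_zero_index, dpb_zero]
  | single_add i n f hi hn ih =>
    rw [Finsupp.prod_add_index_of_disjoint, Finsupp.prod_single_index, ← ih, dpb_mul,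
      mchoose_single_of_notMem N i n f hi, one_smul]
    · rw [Finsupp.single_zero, dpb_zero]
    · rw [Finsupp.support_single i hn, Finset.disjoint_singleton_left]
      exact hi

end U

section D

variable (A : Type u) [CommRing A] (N : ℕ)

/-- the divided power polynomial algebra over `A` in `N` variables -/
abbrev D : Type u := A ⊗[ℤ] dpAlg ℤ ℚ N

/-- the divided powers of the variables -/
noncomputable def xD (i : Fin N) (n : ℕ) : D A N := (1 : A) ⊗ₜ[ℤ] dpb ℤ ℚ N (Finsupp.single i n)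

/-- the basis of divided power monomials -/
noncomputable def bD : Module.Basis (Fin N →₀ ℕ) A (D A N) :=
  Algebra.TensorProduct.basis A (dpBasis ℤ ℚ N hinj)

theorem bD_apply (e : Fin N →₀ ℕ) : bD A N e = (1 : A) ⊗ₜ[ℤ] dpb ℤ ℚ N e := by
  rw [bD, Algebra.TensorProduct.basis_apply, dpBasis_apply]

theorem xD_zero (i : Fin N) : xD A N i 0 = 1 := by
  rw [xD, Finsupp.single_zero, dpb_zero]
  rfl

theorem xD_mul (i : Fin N) (n m : ℕ) :
    xD A N i n * xD A N i m = ((n + m).choose n : D A N) * xD A N i (n + m) := by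
  rw [xD, xD, xD, Algebra.TensorProduct.tmul_mul_tmul, one_mul, dpb_mul, mchoose_single_single,
    ← Finsupp.single_add, TensorProduct.tmul_smul, nsmul_eq_mul]

theorem bD_eq_prod (e : Fin N →₀ ℕ) : bD A N e = e.prod fun i k => xD A N i k := by
  rw [bD_apply, dpb_eq_prod]
  change Algebra.TensorProduct.includeRight (R := ℤ) (A := A) (B := dpAlg ℤ ℚ N) _ = _
  rw [map_finsuppProd]
  rfl

end D

section Lift

variable {A : Type u} [CommRing A] {N : ℕ} {P : Type v} [CommRing P] [Algebra A P]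
  (x : Fin N → ℕ → P) (hx0 : ∀ i, x i 0 = 1)
  (hxmul : ∀ i n m, x i n * x i m = ((n + m).choose n : P) * x i (n + m))
  (b : Module.Basis (Fin N →₀ ℕ) A P) (hb : ∀ e : Fin N →₀ ℕ, b e = e.prod (fun i k => x i k))
  {C : Type w} [CommRing C] [Algebra A C] {K : Ideal C} (ε : DividedPowers K) (k : Fin N → C)
  (hk : ∀ i, k i ∈ K)

/-- the linear map `∏ x_i^[e_i] ↦ ∏ ε_{e_i}(k_i)` -/
noncomputable def liftL : P →ₗ[A] C := b.constr A fun e => ∏ i, ε.dpow (e i) (k i)

theorem liftL_basis (e : Fin N →₀ ℕ) : liftL b ε k (b e) = ∏ i, ε.dpow (e i) (k i) := by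
  rw [liftL, Module.Basis.constr_basis]

include hx0 hb hk in
theorem liftL_one : liftL b ε k 1 = 1 := by
  rw [← basis_zero x hx0 b hb, liftL_basis]
  exact Finset.prod_eq_one fun i _ => ε.dpow_zero (hk i)

include hx0 hxmul hb hk in
theorem liftL_mul (p q : P) : liftL b ε k (p * q) = liftL b ε k p * liftL b ε k q := by
  have : (LinearMap.mul A P).compr₂ (liftL b ε k) =
      (LinearMap.mul A C).compl₁₂ (liftL b ε k) (liftL b ε k) := by
    refine b.ext fun e => b.ext fun e' => ?_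
    simp only [LinearMap.compr₂_apply, LinearMap.mul_apply', LinearMap.compl₁₂_apply]
    rw [basis_mul x hx0 hxmul b hb, map_nsmul, liftL_basis, liftL_basis, liftL_basis,
      ← Finset.prod_mul_distrib, nsmul_eq_mul]
    unfold mchoose
    rw [Nat.cast_prod, ← Finset.prod_mul_distrib]
    refine Finset.prod_congr rfl fun i _ => ?_
    rw [ε.mul_dpow (hk i), Finsupp.add_apply]
  exact LinearMap.congr_fun (LinearMap.congr_fun this p) q

/-- the algebra map `P → C` sending `x_i^[n]` to `ε_n(k_i)` -/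
noncomputable def lift : P →ₐ[A] C :=
  AlgHom.ofLinearMap (liftL b ε k) (liftL_one x hx0 b hb ε k hk) (liftL_mul x hx0 hxmul b hb ε k hk)

theorem lift_basis (e : Fin N →₀ ℕ) :
    lift x hx0 hxmul b hb ε k hk (b e) = ∏ i, ε.dpow (e i) (k i) := liftL_basis b ε k e

theorem lift_x (i : Fin N) (n : ℕ) : lift x hx0 hxmul b hb ε k hk (x i n) = ε.dpow n (k i) := by
  rw [← basis_single x hx0 b hb, lift_basis, Finset.prod_eq_single i]
  · rw [Finsupp.single_eq_same]
  · intro j _ hj
    rw [Finsupp.single_eq_of_ne hj, ε.dpow_zero (hk j)]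
  · intro h
    exact absurd (Finset.mem_univ i) h

end Lift

section Morph

variable {A : Type u} [CommRing A] {N : ℕ} {P : Type v} [CommRing P] [Algebra A P]
  (x : Fin N → ℕ → P) (hx0 : ∀ i, x i 0 = 1)
  (hxmul : ∀ i n m, x i n * x i m = ((n + m).choose n : P) * x i (n + m))
  (b : Module.Basis (Fin N →₀ ℕ) A P) (hb : ∀ e : Fin N →₀ ℕ, b e = e.prod (fun i k => x i k))
  {C : Type w} [CommRing C] [Algebra A C] {K : Ideal C} (ε : DividedPowers K) (k : Fin N → C)
  (hk : ∀ i, k i ∈ K)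
  {I : Ideal A} (γ : DividedPowers I)
  (δ : DividedPowers (I.map (algebraMap A P) ⊔ DPPolyAdd.Pplus x))
  (hδ : γ.IsDPMorphism δ (algebraMap A P))
  (hδx : ∀ i n, δ.dpow n (x i 1) = x i n)
  (hε : γ.IsDPMorphism ε (algebraMap A C))

omit [Algebra A C] in
theorem x_one_mem (i : Fin N) : x i 1 ∈ I.map (algebraMap A P) ⊔ DPPolyAdd.Pplus x :=
  Ideal.mem_sup_right (Ideal.subset_span ⟨i, 1, le_rfl, rfl⟩)

include hδ hδx hε in
theorem lift_isDPMorphism :
    δ.IsDPMorphism ε (lift x hx0 hxmul b hb ε k hk).toRingHom := by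
  refine DividedPowers.IsDPMorphism.on_span δ ε
    (S := (algebraMap A P) '' (I : Set A) ∪ {y : P | ∃ (l : Fin N) (n : ℕ), 1 ≤ n ∧ y = x l n})
    (Ideal.span_union _ _).symm ?_ ?_
  · rintro s (⟨a, ha, rfl⟩ | ⟨l, n, hn, rfl⟩)
    · change lift x hx0 hxmul b hb ε k hk (algebraMap A P a) ∈ K
      rw [AlgHom.commutes]
      exact hε.1 (Ideal.mem_map_of_mem _ ha)
    · change lift x hx0 hxmul b hb ε k hk (x l n) ∈ K
      rw [lift_x]
      exact ε.dpow_mem (by omega) (hk l)
  · rintro n s (⟨a, ha, rfl⟩ | ⟨l, m, hm, rfl⟩)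
    · change lift x hx0 hxmul b hb ε k hk (δ.dpow n (algebraMap A P a)) =
        ε.dpow n (lift x hx0 hxmul b hb ε k hk (algebraMap A P a))
      rw [hδ.2 a ha, AlgHom.commutes, AlgHom.commutes, hε.2 a ha]
    · change lift x hx0 hxmul b hb ε k hk (δ.dpow n (x l m)) =
        ε.dpow n (lift x hx0 hxmul b hb ε k hk (x l m))
      rw [← hδx l m, δ.dpow_comp (by omega) (x_one_mem x l), hδx, hδx, map_mul, map_natCast,
        lift_x, lift_x, ε.dpow_comp (by omega) (hk l)]

include hδx in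
theorem lift_unique (φ : P →ₐ[A] C) (h1 : ∀ i, φ (x i 1) = k i)
    (h2 : δ.IsDPMorphism ε φ.toRingHom) : φ = lift x hx0 hxmul b hb ε k hk := by
  have hφx : ∀ i n, φ (x i n) = ε.dpow n (k i) := by
    intro i n
    have := h2.2 (n := n) (x i 1) (x_one_mem x i)
    change ε.dpow n (φ (x i 1)) = φ (δ.dpow n (x i 1)) at this
    rw [hδx, h1] at this
    exact this.symm
  apply AlgHom.toLinearMap_injective
  refine b.ext fun e => ?_
  change φ (b e) = lift x hx0 hxmul b hb ε k hk (b e)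
  rw [lift_basis, basis_eq_prod x hx0 b hb, map_prod]
  exact Finset.prod_congr rfl fun i _ => hφx i (e i)

end Morph

section Final

theorem exists_universal {A : Type u} [CommRing A] {I : Ideal A} (γ : DividedPowers I) (t : ℕ) :
    ∃ (D : Type u) (_ : CommRing D) (_ : Algebra A D) (J : Ideal D) (δ : DividedPowers J)
      (x : Fin t → D), (∀ i, x i ∈ J) ∧ γ.IsDPMorphism δ (algebraMap A D) ∧
      ∀ (C : Type u) [CommRing C] [Algebra A C] (K : Ideal C) (ε : DividedPowers K),
        γ.IsDPMorphism ε (algebraMap A C) → ∀ k : Fin t → C, (∀ i, k i ∈ K) →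
          ∃! φ : D →ₐ[A] C, (∀ i, φ (x i) = k i) ∧ δ.IsDPMorphism ε φ.toRingHom := by
  obtain ⟨δplus, hδplus, -⟩ := Groth.Agent.S18420.result A t (D A t) (xD A t) (xD_zero A t)
    (xD_mul A t) (bD A t) (bD_eq_prod A t)
  obtain ⟨δ, ⟨hδ1, hδ2⟩, -⟩ := DPPolyAdd.existsUnique (xD A t) (xD_zero A t) (xD_mul A t)
    (bD A t) (bD_eq_prod A t) γ δplus
  have hδx : ∀ i n, δ.dpow n (xD A t i 1) = xD A t i n := by
    intro i n
    rw [hδ2 n _ (Ideal.subset_span ⟨i, 1, le_rfl, rfl⟩), hδplus]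
  refine ⟨D A t, inferInstance, inferInstance, _, δ, fun i => xD A t i 1,
    fun i => x_one_mem (xD A t) i, hδ1, ?_⟩
  intro C _ _ K ε hε k hk
  refine ⟨lift (xD A t) (xD_zero A t) (xD_mul A t) (bD A t) (bD_eq_prod A t) ε k hk, ⟨fun i => ?_,
    lift_isDPMorphism (xD A t) (xD_zero A t) (xD_mul A t) (bD A t) (bD_eq_prod A t) ε k hk γ δ hδ1
      hδx hε⟩, ?_⟩
  · rw [lift_x, ε.dpow_one (hk i)]
  · rintro φ ⟨h1, h2⟩
    exact lift_unique (xD A t) (xD_zero A t) (xD_mul A t) (bD A t) (bD_eq_prod A t) ε k hk δ hδx φ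
      h1 h2

end Final

end Groth.Agent.Lib.Seat77.DPUniv
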