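import Mathlib

/-!
# Linear algebra over a PID with a prime element `π` (seat 77)

`M` free of finite rank, `VM ⊆ M` with `πM ⊆ VM`, `VN ⊆ N` with `πN ⊆ VN`.
* `exists_adapted_basis`: a basis `b'` of `M`, with a set `U` of indices, such that
  `VM = {x | ∀ i ∉ U, π ∣ repr x i}`.
* `exists_lift`: a linear map `VM → N/VN` vanishing on `πM` is induced by a linear `M → N`.
* `length_hom_quotient`: `length (Hom(M,N)/{h | h VM ⊆ VN}) = length(N/VN) * s` where
  `rank M = length (M/VM) + s`.
-/

set_option autoImplicit false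
universe u v w

namespace Groth.Agent.Lib.Seat77.DieuLin

open Module

variable {R : Type u} [CommRing R] [IsDomain R] [IsPrincipalIdealRing R]
  {M : Type v} [AddCommGroup M] [Module R M] [Module.Free R M] [Module.Finite R M]

/-- Adapted basis: `VM` is cut out by divisibility of the coordinates outside `U`. -/
theorem exists_adapted_basis (π : R) (hπ : Irreducible π) (VM : Submodule R M)
    (hπM : ∀ m : M, π • m ∈ VM) :
    ∃ (ι : Type v) (_ : Fintype ι) (b' : Basis ι R M) (a : ι → R) (ab' : Basis ι R VM),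
      (∀ i, (ab' i : M) = a i • b' i) ∧ (∀ i, ¬ IsUnit (a i) → π ∣ a i) ∧
      ∀ x : M, x ∈ VM ↔ ∀ i, ¬ IsUnit (a i) → π ∣ b'.repr x i := by
  classical
  let ι := Module.Free.ChooseBasisIndex R M
  let b : Basis ι R M := Module.Free.chooseBasis R M
  have hπ0 : π ≠ 0 := hπ.ne_zero
  have hrank : Module.finrank R VM = Module.finrank R M := by
    apply le_antisymm (Submodule.finrank_le VM)
    let f : M →ₗ[R] VM :=
      { toFun := fun m => ⟨π • m, hπM m⟩
        map_add' := fun x y => Subtype.ext (smul_add π x y)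
        map_smul' := fun c x => Subtype.ext (smul_comm π c x) }
    have hf : Function.Injective f := by
      intro x y hxy
      have : π • x = π • y := congrArg Subtype.val hxy
      exact smul_right_injective M hπ0 this
    exact LinearMap.finrank_le_finrank_of_injective hf
  obtain ⟨b', a, ab', hab⟩ := Submodule.exists_smith_normal_form_of_rank_eq b hrank
  -- a i ∣ π
  have hdvd : ∀ i, a i ∣ π := by
    intro i
    let x : VM := ⟨π • b' i, hπM _⟩
    have hx : (x : M) = ∑ j, (ab'.repr x j) • (ab' j : M) := by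
      conv_lhs => rw [← ab'.sum_repr x]
      rw [Submodule.coe_sum]
      rfl
    have h2 := congrArg (fun y => b'.repr y i) hx
    simp only [x, hab, map_sum, map_smul, Finsupp.coe_finsetSum, Finsupp.coe_smul,
      Finset.sum_apply, Pi.smul_apply, Basis.repr_self, smul_eq_mul] at h2
    rw [Finset.sum_eq_single i] at h2
    · simp only [Finsupp.single_eq_same, mul_one] at h2
      exact ⟨ab'.repr ⟨π • b' i, hπM _⟩ i, h2.trans (mul_comm _ _)⟩
    · intro j _ hji
      rw [Finsupp.single_eq_of_ne hji.symm, mul_zero, mul_zero]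
    · intro h; exact absurd (Finset.mem_univ i) h
  have hcase : ∀ i, ¬ IsUnit (a i) → π ∣ a i := by
    intro i hi
    rcases (hπ.dvd_iff.mp (hdvd i)) with h | h
    · exact absurd h hi
    · exact h.dvd
  refine ⟨ι, inferInstance, b', a, ab', hab, hcase, fun x => ?_⟩
  constructor
  · intro hx i hi
    let y : VM := ⟨x, hx⟩
    have hy : x = ∑ j, (ab'.repr y j) • (ab' j : M) := by
      conv_lhs => rw [show x = (y : M) from rfl, ← ab'.sum_repr y]
      rw [Submodule.coe_sum]
      rfl
    have h2 := congrArg (fun z => b'.repr z i) hy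
    simp only [hab, map_sum, map_smul, Finsupp.coe_finsetSum, Finsupp.coe_smul,
      Finset.sum_apply, Pi.smul_apply, Basis.repr_self, smul_eq_mul] at h2
    rw [Finset.sum_eq_single i] at h2
    · simp only [Finsupp.single_eq_same, mul_one] at h2
      rw [h2]
      exact Dvd.dvd.mul_left (hcase i hi) _
    · intro j _ hji
      rw [Finsupp.single_eq_of_ne hji.symm, mul_zero, mul_zero]
    · intro h; exact absurd (Finset.mem_univ i) h
  · intro hx
    rw [← b'.sum_repr x]
    refine Submodule.sum_mem _ fun i _ => ?_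
    by_cases hi : IsUnit (a i)
    · obtain ⟨u, hu⟩ := hi
      have : b' i = (↑u⁻¹ : R) • (ab' i : M) := by
        rw [hab, ← hu, smul_smul, Units.inv_mul, one_smul]
      rw [this]
      exact VM.smul_mem _ (VM.smul_mem _ (ab' i).2)
    · obtain ⟨d, hd⟩ := hx i hi
      rw [hd, mul_smul]
      exact hπM _

variable {N : Type w} [AddCommGroup N] [Module R N]

/-- (b): a linear map `VM → N/VN` vanishing on `πM` is induced by a linear map `M → N`. -/
theorem exists_lift (π : R) (hπ : Irreducible π) (VM : Submodule R M)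
    (hπM : ∀ m : M, π • m ∈ VM) (VN : Submodule R N)
    (g : VM →ₗ[R] N ⧸ VN) (hg : ∀ m : M, g ⟨π • m, hπM m⟩ = 0) :
    ∃ h : M →ₗ[R] N, ∀ x : VM, VN.mkQ (h x) = g x := by
  classical
  obtain ⟨ι, _, b', a, ab', hab, hcase, hchar⟩ := exists_adapted_basis π hπ VM hπM
  have hbU : ∀ i, IsUnit (a i) → b' i ∈ VM := by
    intro i hi
    obtain ⟨u, hu⟩ := hi
    have : b' i = (↑u⁻¹ : R) • (ab' i : M) := by
      rw [hab, ← hu, smul_smul, Units.inv_mul, one_smul]
    rw [this]
    exact VM.smul_mem _ (ab' i).2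
  let g' : M →ₗ[R] N ⧸ VN :=
    b'.constr R (fun i => if hi : IsUnit (a i) then g ⟨b' i, hbU i hi⟩ else 0)
  obtain ⟨h, hh⟩ := Module.projective_lifting_property VN.mkQ g' VN.mkQ_surjective
  refine ⟨h, fun x => ?_⟩
  have h1 : VN.mkQ (h x) = g' x := by
    rw [← hh]; rfl
  rw [h1]
  have h2 : g' ∘ₗ VM.subtype = g := by
    apply ab'.ext
    intro i
    rw [LinearMap.comp_apply, Submodule.subtype_apply, hab, map_smul, Basis.constr_basis]
    by_cases hi : IsUnit (a i)
    · rw [dif_pos hi, ← map_smul]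
      congr 1
      exact Subtype.ext (hab i).symm
    · rw [dif_neg hi, smul_zero]
      obtain ⟨d, hd⟩ := hcase i hi
      have : ab' i = ⟨π • (d • b' i), hπM _⟩ := by
        apply Subtype.ext
        rw [hab, hd, mul_smul]
      rw [this, hg]
  exact LinearMap.congr_fun h2 x

/-- (c): the length of `Hom(M, N)/{h | h VM ⊆ VN}`. -/
theorem length_hom_quotient (π : R) (hπ : Irreducible π) (VM : Submodule R M)
    (hπM : ∀ m : M, π • m ∈ VM) (VN : Submodule R N) (hπN : ∀ n : N, π • n ∈ VN)
    (K : Submodule R (M →ₗ[R] N)) (hK : ∀ h : M →ₗ[R] N, h ∈ K ↔ ∀ x ∈ VM, h x ∈ VN)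
    (r₂ s₁ : ℕ) (hr₂ : Module.length R (N ⧸ VN) = r₂)
    (hs₁ : (Module.finrank R M : ℕ∞) = Module.length R (M ⧸ VM) + s₁) :
    Module.length R ((M →ₗ[R] N) ⧸ K) = (r₂ * s₁ : ℕ) := by
  classical
  obtain ⟨ι, _, b', a, ab', hab, hcase, hchar⟩ := exists_adapted_basis π hπ VM hπM
  have hbU : ∀ i, IsUnit (a i) → b' i ∈ VM := by
    intro i hi
    obtain ⟨u, hu⟩ := hi
    have : b' i = (↑u⁻¹ : R) • (ab' i : M) := by
      rw [hab, ← hu, smul_smul, Units.inv_mul, one_smul]
    rw [this]
    exact VM.smul_mem _ (ab' i).2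
  -- the map Ψ
  let Ψ : (M →ₗ[R] N) →ₗ[R] ({i // IsUnit (a i)} → N ⧸ VN) :=
    LinearMap.pi (fun i => VN.mkQ ∘ₗ LinearMap.applyₗ (b' i.1))
  have hΨ : ∀ (h : M →ₗ[R] N) (i : {i // IsUnit (a i)}), Ψ h i = VN.mkQ (h (b' i.1)) :=
    fun h i => rfl
  have hΨsurj : Function.Surjective Ψ := by
    intro q
    refine ⟨b'.constr R (fun i => if hi : IsUnit (a i) then
      Classical.choose (VN.mkQ_surjective (q ⟨i, hi⟩)) else 0), ?_⟩
    funext i
    rw [hΨ, Basis.constr_basis, dif_pos i.2]
    exact Classical.choose_spec (VN.mkQ_surjective (q ⟨i.1, i.2⟩))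
  have hker : LinearMap.ker Ψ = K := by
    ext h
    rw [LinearMap.mem_ker, hK]
    constructor
    · intro h0 x hx
      rw [← b'.sum_repr x, map_sum]
      refine Submodule.sum_mem _ fun i _ => ?_
      rw [map_smul]
      by_cases hi : IsUnit (a i)
      · apply VN.smul_mem
        have := congrFun h0 ⟨i, hi⟩
        rw [hΨ] at this
        exact (Submodule.Quotient.mk_eq_zero VN).mp this
      · obtain ⟨d, hd⟩ := (hchar x).mp hx i hi
        rw [hd, mul_smul]
        exact hπN _
    · intro hx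
      funext i
      rw [hΨ]
      exact (Submodule.Quotient.mk_eq_zero VN).mpr (hx _ (hbU i.1 i.2))
  -- the map Φ
  let Φ : M →ₗ[R] ({i // ¬ IsUnit (a i)} → R ⧸ Ideal.span {π}) :=
    LinearMap.pi (fun i => (Ideal.span {π}).mkQ ∘ₗ b'.coord i.1)
  have hΦ : ∀ (m : M) (i : {i // ¬ IsUnit (a i)}), Φ m i = (Ideal.span {π}).mkQ (b'.repr m i.1) :=
    fun m i => rfl
  have hΦsurj : Function.Surjective Φ := by
    intro q
    refine ⟨b'.repr.symm (Finsupp.equivFunOnFinite.symm (fun i => if hi : ¬ IsUnit (a i) then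
      Classical.choose ((Ideal.span {π}).mkQ_surjective (q ⟨i, hi⟩)) else 0)), ?_⟩
    funext i
    rw [hΦ, LinearEquiv.apply_symm_apply]
    change (Ideal.span {π}).mkQ (dite _ _ _) = _
    rw [dif_pos i.2]
    exact Classical.choose_spec ((Ideal.span {π}).mkQ_surjective (q ⟨i.1, i.2⟩))
  have hkerΦ : LinearMap.ker Φ = VM := by
    ext x
    rw [LinearMap.mem_ker, hchar]
    constructor
    · intro h0 i hi
      have := congrFun h0 ⟨i, hi⟩
      rw [hΦ] at this
      exact Ideal.mem_span_singleton.mp ((Submodule.Quotient.mk_eq_zero _).mp this)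
    · intro hx
      funext i
      rw [hΦ]
      exact (Submodule.Quotient.mk_eq_zero _).mpr (Ideal.mem_span_singleton.mpr (hx i.1 i.2))
  -- lengths
  have hsimple : Module.length R (R ⧸ Ideal.span {π}) = 1 := by
    rw [Module.length_eq_one_iff]
    have : (Ideal.span {π}).IsMaximal := PrincipalIdealRing.isMaximal_of_irreducible hπ
    exact isSimpleModule_iff_quot_maximal.mpr ⟨_, this, ⟨LinearEquiv.refl _ _⟩⟩
  have hlenM : Module.length R (M ⧸ VM) = (Fintype.card {i // ¬ IsUnit (a i)} : ℕ) := by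
    have e : (M ⧸ VM) ≃ₗ[R] ({i // ¬ IsUnit (a i)} → R ⧸ Ideal.span {π}) :=
      (Submodule.quotEquivOfEq _ _ hkerΦ.symm).trans (Φ.quotKerEquivOfSurjective hΦsurj)
    rw [e.length_eq, Module.length_pi_of_fintype]
    simp [hsimple]
  have hlenH : Module.length R ((M →ₗ[R] N) ⧸ K) =
      (Fintype.card {i // IsUnit (a i)} : ℕ) * (r₂ : ℕ∞) := by
    have e : ((M →ₗ[R] N) ⧸ K) ≃ₗ[R] ({i // IsUnit (a i)} → N ⧸ VN) :=
      (Submodule.quotEquivOfEq _ _ hker.symm).trans (Ψ.quotKerEquivOfSurjective hΨsurj)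
    rw [e.length_eq, Module.length_pi_of_fintype]
    simp [hr₂]
  have hcard : Fintype.card ι =
      Fintype.card {i // IsUnit (a i)} + Fintype.card {i // ¬ IsUnit (a i)} := by
    rw [Fintype.card_subtype_compl, ← Nat.add_sub_assoc (Fintype.card_subtype_le _),
      Nat.add_sub_cancel_left]
  have hs : s₁ = Fintype.card {i // IsUnit (a i)} := by
    rw [Module.finrank_eq_card_basis b', hlenM, hcard] at hs₁
    have : ((Fintype.card {i // IsUnit (a i)} + Fintype.card {i // ¬ IsUnit (a i)} : ℕ) : ℕ∞) =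
        ((Fintype.card {i // ¬ IsUnit (a i)} + s₁ : ℕ) : ℕ∞) := by
      rw [hs₁]; push_cast; rfl
    have := Nat.cast_injective (R := ℕ∞) this
    omega
  rw [hlenH, hs]
  push_cast
  rw [mul_comm]

end Groth.Agent.Lib.Seat77.DieuLin
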