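import Mathlib

/-!
# Seat77 DualRank: the dual of a finite projective module has the same rank at every prime
-/

set_option autoImplicit false
set_option linter.style.haveILetI false

namespace Groth.Agent.Lib.Seat77.DualRank

open Module

universe u v

variable {R : Type u} [CommRing R] (M : Type v) [AddCommGroup M] [Module R M]
  [Module.Finite R M] [Module.Projective R M]

attribute [local instance] Module.free_of_flat_of_isLocalRing

theorem rankAtStalk_dual (q : PrimeSpectrum R) :
    Module.rankAtStalk (Module.Dual R M) q = Module.rankAtStalk M q := by
  let S := q.asIdeal.primeCompl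
  let Rq := Localization.AtPrime q.asIdeal
  haveI : Module.FinitePresentation R M := Module.finitePresentation_of_projective R M
  have e0 := Module.FinitePresentation.linearEquivMapExtendScalars S (M := M) (N := R)
  have e : LocalizedModule S (M →ₗ[R] R) ≃ₗ[Rq]
      (LocalizedModule S M →ₗ[Rq] LocalizedModule S R) :=
    e0.extendScalarsOfIsLocalization S Rq
  have h1 : Module.rankAtStalk (Module.Dual R M) q =
      Module.finrank Rq (LocalizedModule S M →ₗ[Rq] LocalizedModule S R) := e.finrank_eq
  rw [h1, Module.finrank_linearMap]
  have h2 : Module.finrank Rq (LocalizedModule S R) = 1 := by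
    have := Module.rankAtStalk_eq_of_equiv (R := R) (LinearEquiv.refl R R)
    haveI : Nontrivial R := q.nontrivial
    have h3 := congrFun (Module.rankAtStalk_self (R := R)) q
    exact h3
  rw [h2, mul_one]
  rfl

end Groth.Agent.Lib.Seat77.DualRank
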