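import Mathlib
import Groth.Agent.Lib.Helper3EssEt
import Groth.Agent.Lib.Helper3HenselInt
import Groth.Agent.Lib.Helper3HenselLF

/-!
# Finite étale local algebras over henselian local rings (helper77)

* `isEssentiallyEtale_of_etale_local`: an étale local algebra with local structure map is
  essentially étale;
* `finite_of_isEssentiallyEtale_henselian`: essentially étale local algebras over a henselian
  local ring are finite;
* `bijective_of_residue_bijective`: a map of essentially étale local algebras with henselian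
  source inducing a bijection on residue fields is bijective;
* `isLocalRing_tensor`: `A ⊗[R] S` is local for `R → A` local with surjective residue map, `S`
  finite local with `m_R S = m_S`.
-/

namespace Groth.Agent.Lib.Seat77.FinEtHens

open IsLocalRing TensorProduct Groth.Agent.Lib.Helper3.EssEt

universe u

/-- A local ring which is an étale algebra (with local structure map) is essentially étale. -/
theorem isEssentiallyEtale_of_etale_local (A T : Type u) [CommRing A] [IsLocalRing A]
    [CommRing T] [IsLocalRing T] [Algebra A T] [IsLocalHom (algebraMap A T)]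
    [Algebra.Etale A T] : EGA4loc.IsEssentiallyEtale A T := by
  have hM : (maximalIdeal T).primeCompl ≤ IsUnit.submonoid T := by
    intro x hx
    by_contra h
    exact hx h
  let e0 : T ≃ₐ[T] Localization.AtPrime (maximalIdeal T) :=
    IsLocalization.atUnits T (maximalIdeal T).primeCompl hM
  refine ⟨T, inferInstance, inferInstance, maximalIdeal T, inferInstance, inferInstance, ?_,
    ⟨e0.restrictScalars A⟩⟩
  exact ((local_hom_TFAE (algebraMap A T)).out 0 4 rfl rfl).mp inferInstance

/-- Essentially étale local algebras over a henselian local ring are finite. -/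
theorem finite_of_isEssentiallyEtale_henselian (A E : Type u) [CommRing A] [HenselianLocalRing A]
    [CommRing E] [Algebra A E] (hE : EGA4loc.IsEssentiallyEtale A E) : Module.Finite A E := by
  obtain ⟨C, _, _, q, _, hEt, hq, ⟨e⟩⟩ := hE
  haveI : q.LiesOver (maximalIdeal A) := ⟨hq.symm⟩
  haveI : Algebra.FiniteType A C := inferInstance
  haveI : Algebra.QuasiFinite A C := inferInstance
  haveI : Algebra.QuasiFiniteAt A q := inferInstance
  haveI : Module.Finite A (Localization.AtPrime q) :=
    Groth.Agent.Lib.Helper3.Hensel.finite_localization_of_quasiFiniteAt (R := A) q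
  exact Module.Finite.equiv e.symm.toLinearEquiv

/-- A map of essentially étale local algebras, with henselian source, which is bijective on
residue fields, is bijective. -/
theorem bijective_of_residue_bijective (A E₁ E₂ : Type u) [CommRing A] [IsLocalRing A]
    [CommRing E₁] [HenselianLocalRing E₁] [Algebra A E₁] [IsLocalHom (algebraMap A E₁)]
    [CommRing E₂] [IsLocalRing E₂] [Algebra A E₂] [IsLocalHom (algebraMap A E₂)]
    (h₁ : EGA4loc.IsEssentiallyEtale A E₁) (h₂ : EGA4loc.IsEssentiallyEtale A E₂)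
    (Φ : E₁ →ₐ[A] E₂) [IsLocalHom Φ.toRingHom]
    (hΦ : Function.Bijective (ResidueField.map Φ.toRingHom)) : Function.Bijective Φ := by
  let ρ : ResidueField E₁ ≃+* ResidueField E₂ := RingEquiv.ofBijective _ hΦ
  have hρ : ∀ x : E₁, ρ (residue E₁ x) = residue E₂ (Φ x) := fun x =>
    ResidueField.map_residue Φ.toRingHom x
  have hcompat : (ρ.symm : ResidueField E₂ →+* ResidueField E₁).comp
      (ResidueField.map (algebraMap A E₂)) = ResidueField.map (algebraMap A E₁) := by
    ext a
    obtain ⟨a, rfl⟩ := residue_surjective a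
    simp only [RingHom.comp_apply, ResidueField.map_residue, RingHom.coe_coe]
    rw [RingEquiv.symm_apply_eq, hρ, Φ.commutes]
  obtain ⟨Ψ', ⟨-, hΨc, hΨr⟩, -⟩ := existsUnique_lift A E₂ h₂ E₁ (algebraMap A E₁)
    (ρ.symm : ResidueField E₂ →+* ResidueField E₁) hcompat
  let Ψ : E₂ →ₐ[A] E₁ := { Ψ' with commutes' := fun a => congrArg (fun f => f a) hΨc }
  have hΨ : ∀ x : E₂, residue E₁ (Ψ x) = ρ.symm (residue E₂ x) := hΨr
  have h12 : Ψ.comp Φ = AlgHom.id A E₁ := by
    apply algHom_ext_of_residue A E₁ E₁ h₁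
    intro x
    change residue E₁ (Ψ (Φ x)) = residue E₁ x
    rw [hΨ, ← hρ, RingEquiv.symm_apply_apply]
  have h21 : Φ.comp Ψ = AlgHom.id A E₂ := by
    apply algHom_ext_of_residue A E₂ E₂ h₂
    intro x
    change residue E₂ (Φ (Ψ x)) = residue E₂ x
    rw [← hρ, hΨ, RingEquiv.apply_symm_apply]
  refine ⟨?_, ?_⟩
  · intro x y hxy
    have := congrArg Ψ hxy
    have hx : Ψ (Φ x) = x := congrArg (fun f => f x) h12
    have hy : Ψ (Φ y) = y := congrArg (fun f => f y) h12
    rw [hx, hy] at this
    exact this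
  · intro y
    exact ⟨Ψ y, congrArg (fun f => f y) h21⟩

section tensor

variable (R A S : Type u) [CommRing R] [IsLocalRing R] [CommRing A] [IsLocalRing A]
  [Algebra R A] [IsLocalHom (algebraMap R A)] [CommRing S] [IsLocalRing S] [Algebra R S]

/-- the quotient of `A ⊗[R] S` by `m_A` is a quotient of `S` -/
theorem exists_mk_eq (hres : Function.Surjective (ResidueField.map (algebraMap R A)))
    (t : A ⊗[R] S) :
    ∃ s : S, t - 1 ⊗ₜ[R] s ∈ (maximalIdeal A).map (algebraMap A (A ⊗[R] S)) := by
  induction t using TensorProduct.induction_on with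
  | zero => exact ⟨0, by simp⟩
  | tmul a s =>
    obtain ⟨r, hr⟩ := hres (residue A a)
    obtain ⟨r, rfl⟩ := residue_surjective r
    rw [ResidueField.map_residue, ← sub_eq_zero, ← map_sub, residue_eq_zero_iff] at hr
    refine ⟨r • s, ?_⟩
    have h1 : a ⊗ₜ[R] s - 1 ⊗ₜ[R] (r • s) = (a - algebraMap R A r) ⊗ₜ[R] s := by
      rw [TensorProduct.sub_tmul, TensorProduct.tmul_smul, TensorProduct.smul_tmul',
        Algebra.smul_def, mul_one]
    have h2 : (a - algebraMap R A r) ⊗ₜ[R] s =
        algebraMap A (A ⊗[R] S) (a - algebraMap R A r) * (1 ⊗ₜ[R] s) := by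
      rw [Algebra.TensorProduct.algebraMap_apply, Algebra.TensorProduct.tmul_mul_tmul,
        Algebra.algebraMap_self_apply, mul_one, one_mul]
    rw [h1, h2]
    apply Ideal.mul_mem_right
    apply Ideal.mem_map_of_mem
    have : a - algebraMap R A r = -(algebraMap R A r - a) := by ring
    rw [this]
    exact neg_mem hr
  | add x y hx hy =>
    obtain ⟨s₁, h₁⟩ := hx
    obtain ⟨s₂, h₂⟩ := hy
    refine ⟨s₁ + s₂, ?_⟩
    have : x + y - 1 ⊗ₜ[R] (s₁ + s₂) = (x - 1 ⊗ₜ[R] s₁) + (y - 1 ⊗ₜ[R] s₂) := by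
      rw [TensorProduct.tmul_add]; ring
    rw [this]
    exact add_mem h₁ h₂

/-- `A ⊗[R] S` is local with maximal ideal `m_A (A ⊗ S)` when `R → A` is local and surjective on
residue fields, `S` is a finite local `R`-algebra with `m_R S = m_S`, and `A ⊗ S` is nontrivial. -/
theorem isLocalRing_tensor [Module.Finite R S] [Nontrivial (A ⊗[R] S)]
    (hres : Function.Surjective (ResidueField.map (algebraMap R A)))
    (hm : (maximalIdeal R).map (algebraMap R S) = maximalIdeal S) :
    IsLocalRing (A ⊗[R] S) ∧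
      ∀ 𝔫 : Ideal (A ⊗[R] S), 𝔫.IsMaximal →
        𝔫 = (maximalIdeal A).map (algebraMap A (A ⊗[R] S)) := by
  set I : Ideal (A ⊗[R] S) := (maximalIdeal A).map (algebraMap A (A ⊗[R] S)) with hI
  haveI : Module.Finite A (A ⊗[R] S) := inferInstance
  haveI : Algebra.IsIntegral A (A ⊗[R] S) := Algebra.IsIntegral.of_finite A _
  -- every maximal ideal contains `I`
  have hle : ∀ 𝔫 : Ideal (A ⊗[R] S), 𝔫.IsMaximal → I ≤ 𝔫 := by
    intro 𝔫 h𝔫
    have hmax : (𝔫.comap (algebraMap A (A ⊗[R] S))).IsMaximal :=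
      Ideal.isMaximal_comap_of_isIntegral_of_isMaximal 𝔫
    have h1 := IsLocalRing.eq_maximalIdeal hmax
    rw [hI, Ideal.map_le_iff_le_comap, h1]
  -- `1 ⊗ m_S ⊆ I`
  have hmS : ∀ s ∈ maximalIdeal S, (1 : A) ⊗ₜ[R] s ∈ I := by
    intro s hs
    rw [← hm] at hs
    induction hs using Submodule.span_induction with
    | mem x hx =>
      obtain ⟨r, hr, rfl⟩ := hx
      have h1 : (1 : A) ⊗ₜ[R] (algebraMap R S r) =
          algebraMap A (A ⊗[R] S) (algebraMap R A r) := by
        rw [Algebra.TensorProduct.algebraMap_apply, Algebra.algebraMap_self_apply,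
          Algebra.algebraMap_eq_smul_one r, TensorProduct.tmul_smul,
          TensorProduct.smul_tmul', Algebra.smul_def, mul_one]
      rw [h1]
      apply Ideal.mem_map_of_mem
      exact ((local_hom_TFAE (algebraMap R A)).out 0 2 rfl rfl).mp inferInstance
        (Ideal.mem_map_of_mem _ hr)
    | zero => rw [TensorProduct.tmul_zero]; exact zero_mem _
    | add x y _ _ hx hy => rw [TensorProduct.tmul_add]; exact add_mem hx hy
    | smul a x _ hx =>
      have : (1 : A) ⊗ₜ[R] (a • x) = ((1 : A) ⊗ₜ[R] a) * ((1 : A) ⊗ₜ[R] x) := by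
        rw [Algebra.TensorProduct.tmul_mul_tmul, mul_one, smul_eq_mul]
      rw [this]
      exact Ideal.mul_mem_left _ _ hx
  -- `I` is proper
  obtain ⟨𝔫₀, h𝔫₀⟩ := Ideal.exists_maximal (A ⊗[R] S)
  have hItop : I ≠ ⊤ := fun h => h𝔫₀.ne_top (top_le_iff.mp (h ▸ hle 𝔫₀ h𝔫₀))
  -- `I` is maximal
  have hImax : I.IsMaximal := by
    rw [Ideal.isMaximal_iff]
    refine ⟨fun h => hItop ((Ideal.eq_top_iff_one _).mpr h), ?_⟩
    intro J t hIJ htI htJ
    obtain ⟨s, hs⟩ := exists_mk_eq R A S hres t
    have hsu : IsUnit s := by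
      by_contra hns
      apply htI
      have : t = (t - 1 ⊗ₜ[R] s) + 1 ⊗ₜ[R] s := by ring
      rw [this]
      exact add_mem hs (hmS s hns)
    obtain ⟨s', hs'⟩ := hsu.exists_right_inv
    have h1 : (1 : A) ⊗ₜ[R] s ∈ J := by
      have : (1 : A) ⊗ₜ[R] s = t - (t - 1 ⊗ₜ[R] s) := by ring
      rw [this]
      exact sub_mem htJ (hIJ hs)
    have h2 : ((1 : A) ⊗ₜ[R] s) * ((1 : A) ⊗ₜ[R] s') = 1 := by
      rw [Algebra.TensorProduct.tmul_mul_tmul, mul_one, hs']
      rfl
    rw [← h2]
    exact Ideal.mul_mem_right _ _ h1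
  have huniq : ∀ 𝔫 : Ideal (A ⊗[R] S), 𝔫.IsMaximal → 𝔫 = I := fun 𝔫 h𝔫 =>
    (hImax.eq_of_le h𝔫.ne_top (hle 𝔫 h𝔫)).symm
  exact ⟨IsLocalRing.of_unique_max_ideal ⟨I, hImax, huniq⟩, huniq⟩

end tensor

end Groth.Agent.Lib.Seat77.FinEtHens
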