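import Mathlib
import Groth.Agent.Lib.Seat19Global
import Groth.Agent.Lib.Helper25Shear

/-!
# Seat77 HopfQuotA: the ring-level groupoid of a Hopf ideal

For a commutative Hopf algebra `A` over `R` and a Hopf ideal `I`, we build helper19's ring-level
groupoid datum `RGrpd` with `A`, `A ⊗[R] (A ⧸ I)` (source `a ↦ a ⊗ 1`, target the right coaction).
-/

set_option autoImplicit false
set_option linter.style.haveILetI false
set_option linter.unusedSectionVars false

universe u v

open CategoryTheory CategoryTheory.Limits TensorProduct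

namespace Groth.Agent.Lib.Seat77.HopfQuotA

section Twist

variable {R : Type u} [CommRing R] {A Q Y : Type v} [CommRing A] [CommRing Q] [CommRing Y]
  [Algebra R A] [Algebra R Q] [Algebra R Y]

/-- The square `A → A ⊗ Q`, `τ : A → Y`, `τ ⊗ id : A ⊗ Q → Y ⊗ Q`, `Y → Y ⊗ Q` is a pushout of
commutative rings. -/
theorem isPushout_twist (τ : A →ₐ[R] Y) :
    IsPushout
      (CommRingCat.ofHom (Algebra.TensorProduct.includeLeft : A →ₐ[R] A ⊗[R] Q).toRingHom)
      (CommRingCat.ofHom τ.toRingHom)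
      (CommRingCat.ofHom (Algebra.TensorProduct.map τ (AlgHom.id R Q)).toRingHom)
      (CommRingCat.ofHom (Algebra.TensorProduct.includeLeft : Y →ₐ[R] Y ⊗[R] Q).toRingHom) := by
  letI : Algebra A Y := τ.toRingHom.toAlgebra
  haveI : IsScalarTower R A Y := IsScalarTower.of_algebraMap_eq (fun r => (τ.commutes r).symm)
  letI alg2 : Algebra (A ⊗[R] Q) (Y ⊗[R] Q) :=
    (Algebra.TensorProduct.map τ (AlgHom.id R Q)).toRingHom.toAlgebra
  haveI st : IsScalarTower A (A ⊗[R] Q) (Y ⊗[R] Q) := IsScalarTower.of_algebraMap_eq (fun a => by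
    show algebraMap A (Y ⊗[R] Q) a = (Algebra.TensorProduct.map τ (AlgHom.id R Q)) (a ⊗ₜ 1)
    rw [Algebra.TensorProduct.map_tmul, map_one]
    rfl)
  have h1 : Algebra.IsPushout A Y (A ⊗[R] Q) (Y ⊗[R] Q) :=
    Algebra.IsPushout.tensorProduct_tensorProduct R Q A Y (by
      ext q
      show (Algebra.TensorProduct.map τ (AlgHom.id R Q)) (1 ⊗ₜ q) = 1 ⊗ₜ q
      rw [Algebra.TensorProduct.map_tmul, map_one]
      rfl)
  have h2 : Algebra.IsPushout A (A ⊗[R] Q) Y (Y ⊗[R] Q) := h1.symm
  exact CommRingCat.isPushout_iff_isPushout.mpr h2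

end Twist

section Grpd

variable (R : Type u) [CommRing R] (A : Type v) [CommRing A] [HopfAlgebra R A]
  (I : Ideal A) [I.IsHopfIdeal R]

/-- The right coaction `A → A ⊗ A/I`. -/
noncomputable def rho : A →ₐ[R] A ⊗[R] (A ⧸ I) :=
  (Algebra.TensorProduct.map (AlgHom.id R A) (Ideal.Quotient.mkₐ R I)).comp
    (Bialgebra.comulAlgHom R A)

/-- The subalgebra of invariants. -/
noncomputable def inv : Subalgebra R A :=
  AlgHom.equalizer (rho R A I) (Algebra.TensorProduct.includeLeft : A →ₐ[R] A ⊗[R] (A ⧸ I))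

theorem rho_apply (x : A) :
    rho R A I x =
      (Ideal.Quotient.mkₐ R I).toLinearMap.lTensor A (CoalgebraStruct.comul (R := R) x) := by
  unfold rho
  rw [AlgHom.comp_apply, Bialgebra.comulAlgHom_apply]
  generalize CoalgebraStruct.comul (R := R) x = z
  induction z using TensorProduct.induction_on with
  | zero => simp
  | add x y hx hy => simp only [map_add, hx, hy]
  | tmul a b => simp

/-- The ring of invariants as a type synonym (to control instances: all `Kinv`-algebra structures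
on tensor products are the left ones). -/
def Kinv : Type v := ↥(inv R A I)

noncomputable instance : CommRing (Kinv R A I) := inferInstanceAs (CommRing ↥(inv R A I))
noncomputable instance : Algebra R (Kinv R A I) := inferInstanceAs (Algebra R ↥(inv R A I))
noncomputable instance : Algebra (Kinv R A I) A := inferInstanceAs (Algebra ↥(inv R A I) A)
instance : IsScalarTower R (Kinv R A I) A := inferInstanceAs (IsScalarTower R ↥(inv R A I) A)

theorem algebraMap_Kinv_injective : Function.Injective (algebraMap (Kinv R A I) A) :=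
  Subtype.val_injective

theorem rho_coe (k : Kinv R A I) :
    rho R A I (algebraMap (Kinv R A I) A k) = (algebraMap (Kinv R A I) A k) ⊗ₜ[R] (1 : A ⧸ I) :=
  k.2

theorem mem_range_algebraMap_Kinv {a : A} (h : rho R A I a = a ⊗ₜ[R] (1 : A ⧸ I)) :
    a ∈ Set.range (algebraMap (Kinv R A I) A) :=
  ⟨⟨a, h⟩, rfl⟩

/-- source map -/
noncomputable def sigma : A →ₐ[Kinv R A I] A ⊗[R] (A ⧸ I) := Algebra.TensorProduct.includeLeft

/-- target map -/
noncomputable def tau : A →ₐ[Kinv R A I] A ⊗[R] (A ⧸ I) :=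
  { (rho R A I).toRingHom with
    commutes' := fun k => rho_coe R A I k }

@[simp] theorem sigma_apply (a : A) : sigma R A I a = a ⊗ₜ[R] (1 : A ⧸ I) := rfl

@[simp] theorem tau_apply (a : A) : tau R A I a = rho R A I a := rfl

/-- identity section -/
noncomputable def eps : A ⊗[R] (A ⧸ I) →ₐ[Kinv R A I] A :=
  Algebra.TensorProduct.lift (AlgHom.id (Kinv R A I) A)
    ((Algebra.ofId R A).comp (Bialgebra.counitAlgHom R (A ⧸ I))) (fun _ _ => Commute.all _ _)

@[simp] theorem eps_tmul (a : A) (q : A ⧸ I) :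
    eps R A I (a ⊗ₜ[R] q) = a * algebraMap R A (CoalgebraStruct.counit (R := R) q) := by
  rw [eps, Algebra.TensorProduct.lift_tmul]
  rfl

/-- second projection -/
noncomputable def p1 : A ⊗[R] (A ⧸ I) →ₐ[Kinv R A I] (A ⊗[R] (A ⧸ I)) ⊗[R] (A ⧸ I) :=
  Algebra.TensorProduct.includeLeft

/-- first projection -/
noncomputable def p0 : A ⊗[R] (A ⧸ I) →ₐ[Kinv R A I] (A ⊗[R] (A ⧸ I)) ⊗[R] (A ⧸ I) :=
  Algebra.TensorProduct.map (tau R A I) (AlgHom.id R (A ⧸ I))

/-- composition -/
noncomputable def cc : A ⊗[R] (A ⧸ I) →ₐ[Kinv R A I] (A ⊗[R] (A ⧸ I)) ⊗[R] (A ⧸ I) :=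
  ((Algebra.TensorProduct.assoc R R (Kinv R A I) A (A ⧸ I) (A ⧸ I)).symm.toAlgHom).comp
    (Algebra.TensorProduct.map (AlgHom.id (Kinv R A I) A) (Bialgebra.comulAlgHom R (A ⧸ I)))

@[simp] theorem p1_apply (x : A ⊗[R] (A ⧸ I)) : p1 R A I x = x ⊗ₜ[R] (1 : A ⧸ I) := rfl

@[simp] theorem p0_tmul (a : A) (q : A ⧸ I) :
    p0 R A I (a ⊗ₜ[R] q) = rho R A I a ⊗ₜ[R] q := by
  rw [p0, Algebra.TensorProduct.map_tmul]
  rfl

theorem cc_tmul (a : A) (q : A ⧸ I) :
    cc R A I (a ⊗ₜ[R] q) =
      (TensorProduct.assoc R A (A ⧸ I) (A ⧸ I)).symm (a ⊗ₜ[R] CoalgebraStruct.comul (R := R) q) := by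
  simp only [cc, AlgHom.comp_apply, Algebra.TensorProduct.map_tmul, AlgHom.id_apply,
    Bialgebra.comulAlgHom_apply]
  generalize CoalgebraStruct.comul (R := R) q = z
  induction z using TensorProduct.induction_on with
  | zero => simp
  | add x y hx hy => simp only [tmul_add, map_add, hx, hy]
  | tmul b c => rfl

theorem eps_sigma (a : A) : eps R A I (sigma R A I a) = a := by
  rw [sigma_apply, eps_tmul, Bialgebra.counit_one, map_one, mul_one]

theorem eps_lTensor (z : A ⊗[R] A) :
    eps R A I ((Ideal.Quotient.mkₐ R I).toLinearMap.lTensor A z) =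
      TensorProduct.rid R A ((CoalgebraStruct.counit (R := R) (A := A)).lTensor A z) := by
  induction z using TensorProduct.induction_on with
  | zero => simp
  | add x y hx hy => simp only [map_add, hx, hy]
  | tmul a b =>
    rw [LinearMap.lTensor_tmul, LinearMap.lTensor_tmul, eps_tmul, TensorProduct.rid_tmul,
      Algebra.smul_def, mul_comm]
    rfl

theorem eps_tau (a : A) : eps R A I (tau R A I a) = a := by
  rw [tau_apply, rho_apply, eps_lTensor, Coalgebra.lTensor_counit_comul, TensorProduct.rid_tmul,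
    one_smul]

theorem cc_sigma (a : A) : cc R A I (sigma R A I a) = p1 R A I (sigma R A I a) := by
  rw [sigma_apply, cc_tmul, p1_apply, Bialgebra.comul_one]
  rfl

theorem cc_lTensor (z : A ⊗[R] A) :
    cc R A I ((Ideal.Quotient.mkₐ R I).toLinearMap.lTensor A z) =
      (TensorProduct.assoc R A (A ⧸ I) (A ⧸ I)).symm
        ((TensorProduct.map LinearMap.id
          (TensorProduct.map (Ideal.Quotient.mkₐ R I).toLinearMap
            (Ideal.Quotient.mkₐ R I).toLinearMap))
          ((CoalgebraStruct.comul (R := R) (A := A)).lTensor A z)) := by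
  induction z using TensorProduct.induction_on with
  | zero => simp
  | add x y hx hy => simp only [map_add, hx, hy]
  | tmul a b =>
    rw [LinearMap.lTensor_tmul, LinearMap.lTensor_tmul, cc_tmul, TensorProduct.map_tmul]
    rfl

theorem p0_lTensor (z : A ⊗[R] A) :
    p0 R A I ((Ideal.Quotient.mkₐ R I).toLinearMap.lTensor A z) =
      TensorProduct.map ((Ideal.Quotient.mkₐ R I).toLinearMap.lTensor A)
        (Ideal.Quotient.mkₐ R I).toLinearMap
        ((CoalgebraStruct.comul (R := R) (A := A)).rTensor A z) := by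
  induction z using TensorProduct.induction_on with
  | zero => simp
  | add x y hx hy => simp only [map_add, hx, hy]
  | tmul a b =>
    rw [LinearMap.lTensor_tmul, LinearMap.rTensor_tmul, p0_tmul, TensorProduct.map_tmul, rho_apply]

theorem assoc_nat (w : (A ⊗[R] A) ⊗[R] A) :
    (TensorProduct.assoc R A (A ⧸ I) (A ⧸ I)).symm
        ((TensorProduct.map LinearMap.id
          (TensorProduct.map (Ideal.Quotient.mkₐ R I).toLinearMap
            (Ideal.Quotient.mkₐ R I).toLinearMap))
          (TensorProduct.assoc R A A A w)) =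
      TensorProduct.map ((Ideal.Quotient.mkₐ R I).toLinearMap.lTensor A)
        (Ideal.Quotient.mkₐ R I).toLinearMap w := by
  induction w using TensorProduct.induction_on with
  | zero => simp
  | add x y hx hy => simp only [map_add, hx, hy]
  | tmul x c =>
    induction x using TensorProduct.induction_on with
    | zero => simp
    | add x y hx hy => simp only [add_tmul, map_add, hx, hy]
    | tmul a b => rfl

theorem cc_tau (a : A) : cc R A I (tau R A I a) = p0 R A I (tau R A I a) := by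
  rw [tau_apply, rho_apply, cc_lTensor, p0_lTensor, ← Coalgebra.coassoc_apply, assoc_nat]

theorem po1 : IsPushout (CommRingCat.ofHom (sigma R A I).toRingHom)
    (CommRingCat.ofHom (tau R A I).toRingHom)
    (CommRingCat.ofHom (p0 R A I).toRingHom)
    (CommRingCat.ofHom (R := A ⊗[R] (A ⧸ I)) (S := (A ⊗[R] (A ⧸ I)) ⊗[R] (A ⧸ I))
      (p1 R A I).toRingHom) :=
  isPushout_twist (Q := A ⧸ I) (rho R A I)

open Groth.Agent.Lib.Helper25 in
/-- The shear automorphism of `(A/I) ⊗ (A/I)`. -/
noncomputable def shearQ : (A ⧸ I) ⊗[R] (A ⧸ I) ≃ₐ[R] (A ⧸ I) ⊗[R] (A ⧸ I) :=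
  AlgEquiv.ofAlgHom (shear (k := R) (A := A ⧸ I)) (shearInv (k := R) (A := A ⧸ I))
    (AlgHom.ext fun z => shear_shearInv z) (AlgHom.ext fun z => shearInv_shear z)

/-- The automorphism of `(A ⊗ A/I) ⊗ A/I` induced by the shear map. -/
noncomputable def Psi :
    (A ⊗[R] (A ⧸ I)) ⊗[R] (A ⧸ I) ≃ₐ[R] (A ⊗[R] (A ⧸ I)) ⊗[R] (A ⧸ I) :=
  (Algebra.TensorProduct.assoc R R R A (A ⧸ I) (A ⧸ I)).trans
    ((Algebra.TensorProduct.congr AlgEquiv.refl (shearQ R A I)).trans
      (Algebra.TensorProduct.assoc R R R A (A ⧸ I) (A ⧸ I)).symm)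

open Groth.Agent.Lib.Helper25 in
theorem Psi_tmul (a : A) (q' q : A ⧸ I) :
    Psi R A I ((a ⊗ₜ[R] q') ⊗ₜ[R] q) =
      (TensorProduct.assoc R A (A ⧸ I) (A ⧸ I)).symm
        (a ⊗ₜ[R] ((q' ⊗ₜ[R] (1 : A ⧸ I)) * CoalgebraStruct.comul (R := R) q)) := by
  simp only [Psi, AlgEquiv.trans_apply, Algebra.TensorProduct.assoc_tmul,
    Algebra.TensorProduct.congr_apply, Algebra.TensorProduct.map_tmul]
  show (Algebra.TensorProduct.assoc R R R A (A ⧸ I) (A ⧸ I)).symm
      (a ⊗ₜ[R] shear (k := R) (A := A ⧸ I) (q' ⊗ₜ[R] q)) = _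
  rw [shear_tmul]
  rfl

theorem Psi_map_includeLeft (x : A ⊗[R] (A ⧸ I)) :
    Psi R A I ((Algebra.TensorProduct.map
      (Algebra.TensorProduct.includeLeft : A →ₐ[R] A ⊗[R] (A ⧸ I)) (AlgHom.id R (A ⧸ I))) x) =
      cc R A I x := by
  induction x using TensorProduct.induction_on with
  | zero => simp
  | add x y hx hy => simp only [map_add, hx, hy]
  | tmul a q =>
    rw [Algebra.TensorProduct.map_tmul, Algebra.TensorProduct.includeLeft_apply, AlgHom.id_apply,
      Psi_tmul, cc_tmul, ← Algebra.TensorProduct.one_def, one_mul]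

theorem Psi_p1 (x : A ⊗[R] (A ⧸ I)) :
    Psi R A I (x ⊗ₜ[R] (1 : A ⧸ I)) = x ⊗ₜ[R] (1 : A ⧸ I) := by
  induction x using TensorProduct.induction_on with
  | zero => simp
  | add x y hx hy => simp only [add_tmul, map_add, hx, hy]
  | tmul a q =>
    rw [Psi_tmul, Bialgebra.comul_one, mul_one]
    rfl

theorem po2 : IsPushout (CommRingCat.ofHom (sigma R A I).toRingHom)
    (CommRingCat.ofHom (sigma R A I).toRingHom)
    (CommRingCat.ofHom (cc R A I).toRingHom)
    (CommRingCat.ofHom (R := A ⊗[R] (A ⧸ I)) (S := (A ⊗[R] (A ⧸ I)) ⊗[R] (A ⧸ I))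
      (p1 R A I).toRingHom) := by
  have h := isPushout_twist (R := R) (Q := A ⧸ I)
    (Algebra.TensorProduct.includeLeft : A →ₐ[R] A ⊗[R] (A ⧸ I))
  refine h.of_iso (Iso.refl _) (Iso.refl _) (Iso.refl _)
    (Psi R A I).toRingEquiv.toCommRingCatIso ?_ ?_ ?_ ?_
  · rfl
  · rfl
  · rw [Iso.refl_hom, Category.id_comp]
    refine CommRingCat.hom_ext (RingHom.ext fun x => ?_)
    exact Psi_map_includeLeft R A I x
  · rw [Iso.refl_hom, Category.id_comp]
    refine CommRingCat.hom_ext (RingHom.ext fun x => ?_)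
    exact Psi_p1 R A I x

section Main

variable [Module.Finite R (A ⧸ I)] [Module.Projective R (A ⧸ I)]

theorem sigma_toAlgebra_eq :
    (sigma R A I).toRingHom.toAlgebra =
      (Algebra.TensorProduct.leftAlgebra : Algebra A (A ⊗[R] (A ⧸ I))) :=
  Algebra.algebra_ext _ _ (fun _ => rfl)

open Groth.Agent.Lib.Seat19.RG in
/-- helper19's ring-level groupoid attached to a Hopf ideal. -/
noncomputable def grpd :
    RGrpd (Kinv R A I) A (A ⊗[R] (A ⧸ I)) ((A ⊗[R] (A ⧸ I)) ⊗[R] (A ⧸ I)) where
  σ := sigma R A I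
  τ := tau R A I
  ε := eps R A I
  p0 := p0 R A I
  p1 := p1 R A I
  c := cc R A I
  hεσ := eps_sigma R A I
  hετ := eps_tau R A I
  hcτ := cc_tau R A I
  hcσ := cc_sigma R A I
  po1 := po1 R A I
  po2 := po2 R A I
  fin := by
    rw [sigma_toAlgebra_eq]
    infer_instance
  proj := by
    rw [sigma_toAlgebra_eq]
    infer_instance

open Groth.Agent.Lib.Helper25 in
/-- `a ⊗ a' ↦ (a ⊗ 1) ρ(a')`. -/
noncomputable def phi0 : A ⊗[R] A →ₐ[R] A ⊗[R] (A ⧸ I) :=
  (Algebra.TensorProduct.map (AlgHom.id R A) (Ideal.Quotient.mkₐ R I)).comp (shear (k := R) (A := A))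

open Groth.Agent.Lib.Helper25 in
theorem phi0_tmul (c d : A) :
    phi0 R A I (c ⊗ₜ[R] d) = (c ⊗ₜ[R] (1 : A ⧸ I)) * rho R A I d := by
  rw [phi0, AlgHom.comp_apply, shear_tmul, map_mul, Algebra.TensorProduct.map_tmul, map_one]
  rfl

open Groth.Agent.Lib.Helper25 in
theorem phi0_surjective : Function.Surjective (phi0 R A I) := by
  have h1 : Function.Surjective (shear (k := R) (A := A)) := fun z => ⟨shearInv z, shear_shearInv z⟩
  have h2 : Function.Surjective
      (Algebra.TensorProduct.map (AlgHom.id R A) (Ideal.Quotient.mkₐ R I)) := by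
    have : Function.Surjective (TensorProduct.map (LinearMap.id : A →ₗ[R] A)
        (Ideal.Quotient.mkₐ R I).toLinearMap) :=
      TensorProduct.map_surjective Function.surjective_id (Ideal.Quotient.mkₐ_surjective R I)
    exact this
  exact h2.comp h1

theorem invSurj : (grpd R A I).InvSurj := by
  intro a ha
  have h : sigma R A I a = tau R A I a := ha
  exact mem_range_algebraMap_Kinv R A I h.symm

theorem spanTau : (grpd R A I).SpanTau := by
  unfold Groth.Agent.Lib.Seat19.RG.RGrpd.SpanTau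
  rw [eq_top_iff]
  rintro x -
  obtain ⟨w, rfl⟩ := phi0_surjective R A I x
  induction w using TensorProduct.induction_on with
  | zero => rw [map_zero]; exact Submodule.zero_mem _
  | add x y hx hy => rw [map_add]; exact Submodule.add_mem _ hx hy
  | tmul c d =>
    rw [phi0_tmul]
    exact @Submodule.smul_mem A _ _ _ ((grpd R A I).σ.toRingHom.toAlgebra).toModule _ _ c
      (@Submodule.subset_span A _ _ _ ((grpd R A I).σ.toRingHom.toAlgebra).toModule _ _ ⟨d, rfl⟩)

theorem faithfullyFlat : Module.FaithfullyFlat (Kinv R A I) A :=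
  (grpd R A I).faithfullyFlat_of_mono (invSurj R A I) (algebraMap_Kinv_injective R A I)
    (spanTau R A I)

theorem finite : Module.Finite (Kinv R A I) A :=
  ((grpd R A I).finite_fp_of_mono (invSurj R A I) (algebraMap_Kinv_injective R A I)
    (spanTau R A I)).1

theorem finitePresentation : Algebra.FinitePresentation (Kinv R A I) A :=
  ((grpd R A I).finite_fp_of_mono (invSurj R A I) (algebraMap_Kinv_injective R A I)
    (spanTau R A I)).2

/-- The torsor isomorphism `A ⊗[A^{G'}] A ≃ A ⊗[R] A/I`, `a ⊗ a' ↦ ρ(a) (a' ⊗ 1)`. -/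
theorem productMap_bijective :
    Function.Bijective (Algebra.TensorProduct.productMap (tau R A I) (sigma R A I)) :=
  ⟨(grpd R A I).productMap_injective (invSurj R A I) (algebraMap_Kinv_injective R A I)
    (spanTau R A I), (grpd R A I).productMap_surjective (spanTau R A I)⟩

end Main

end Grpd

end Groth.Agent.Lib.Seat77.HopfQuotA
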