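import Mathlib

/-!
# Seat77 RankTower: multiplicativity of `rankAtStalk` in a tower with fibrewise constant rank

If `K` is a finite flat `R`-algebra and `M` a finite flat `K`-module whose rank at every prime of
`K` above `q` equals `m`, then `rank_R(M)(q) = m * rank_R(K)(q)`.
-/

set_option autoImplicit false
set_option linter.style.haveILetI false
set_option linter.unusedSectionVars false

open TensorProduct

namespace Groth.Agent.Lib.Seat77.RankTower

universe u v w

section Quot

variable {K : Type v} [CommRing K] {M : Type w} [AddCommGroup M] [Module K M]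
  [Module.Finite K M] [Module.Flat K M]

/-- The rank at a maximal ideal, computed over the quotient field. -/
theorem finrank_quotient_tensor (P : Ideal K) [hP : P.IsMaximal] :
    Module.finrank (K ⧸ P) ((K ⧸ P) ⊗[K] M) = Module.rankAtStalk M ⟨P, hP.isPrime⟩ := by
  letI := Ideal.Quotient.field P
  have h := Module.rankAtStalk_baseChange (R := K) (M := M) (S := K ⧸ P)
    ⟨⊥, Ideal.isPrime_bot⟩
  rw [Module.rankAtStalk_eq_finrank_of_free] at h
  simp only [Pi.natCast_apply, Nat.cast_id] at h
  rw [h]
  congr 1
  apply PrimeSpectrum.ext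
  show Ideal.comap (algebraMap K (K ⧸ P)) ⊥ = P
  rw [← RingHom.ker_eq_comap_bot]
  exact Ideal.mk_ker

end Quot

section Tower

attribute [local instance] Algebra.TensorProduct.rightAlgebra

variable {R : Type u} [CommRing R] {K : Type v} [CommRing K] [Algebra R K]
  {M : Type w} [AddCommGroup M] [Module R M] [Module K M] [IsScalarTower R K M]
  [Module.Finite R K] [Module.Flat R K] [Module.Finite K M] [Module.Flat K M]
  [Module.Finite R M] [Module.Flat R M]

/-- Tower formula for `rankAtStalk` when the rank over the intermediate ring is constant on the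
fibre. -/
theorem rankAtStalk_tower (q : PrimeSpectrum R) (m : ℕ)
    (h : ∀ P : PrimeSpectrum K, P.comap (algebraMap R K) = q → Module.rankAtStalk M P = m) :
    Module.rankAtStalk (R := R) M q = m * Module.rankAtStalk (R := R) K q := by
  let k := q.asIdeal.ResidueField
  let Kb := k ⊗[R] K
  let Mb := Kb ⊗[K] M
  haveI : IsArtinianRing Kb := IsArtinianRing.of_finite k Kb
  have rk : ∀ P : MaximalSpectrum Kb,
      Module.finrank (Kb ⧸ P.1) ((Kb ⧸ P.1) ⊗[Kb] Mb) = m := by
    intro P
    haveI := P.2
    rw [finrank_quotient_tensor P.1, Module.rankAtStalk_baseChange]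
    apply h
    apply PrimeSpectrum.ext
    show Ideal.comap (algebraMap R K) (Ideal.comap (algebraMap K Kb) P.1) = q.asIdeal
    rw [Ideal.comap_comap, ← IsScalarTower.algebraMap_eq R K Kb]
    haveI : P.1.IsPrime := P.2.isPrime
    exact (Ideal.over_def P.1 q.asIdeal).symm
  obtain ⟨b⟩ := Module.nonempty_basis_of_flat_of_finrank_eq Kb Mb m rk
  haveI : Module.Free Kb Mb := Module.Free.of_basis b
  have e1 : Mb ≃ₗ[k] k ⊗[R] M := Algebra.IsPushout.cancelBaseChange R k K Kb M
  rw [Module.rankAtStalk_eq, Module.rankAtStalk_eq]
  show Module.finrank k (k ⊗[R] M) = m * Module.finrank k Kb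
  rw [← e1.finrank_eq]
  rcases subsingleton_or_nontrivial Kb with hs | hn
  · haveI : Subsingleton Mb := Module.subsingleton Kb Mb
    rw [Module.finrank_zero_of_subsingleton, Module.finrank_zero_of_subsingleton, mul_zero]
  · rw [← Module.finrank_mul_finrank k Kb Mb, Module.finrank_eq_card_basis b, Fintype.card_fin,
      mul_comm]

end Tower

end Groth.Agent.Lib.Seat77.RankTower
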