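import Mathlib
import Groth.Agent.Lib.Seat77HopfQuotA
import Groth.Agent.Lib.Seat77RankTower
import Groth.Agent.Lib.Helper5LocalFlat

/-!
# Seat77 HopfQuotB: the order of a finite flat group is the order of a subgroup times the index
-/

set_option autoImplicit false
set_option linter.style.haveILetI false
set_option linter.unusedSectionVars false

universe u v

open TensorProduct

namespace Groth.Agent.Lib.Seat77.HopfQuotB

open Groth.Agent.Lib.Seat77.HopfQuotA

variable (R : Type u) [CommRing R] (A : Type v) [CommRing A] [HopfAlgebra R A]
  (I : Ideal A) [I.IsHopfIdeal R]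

theorem finite_quot [Module.Finite R A] : Module.Finite R (A ⧸ I) :=
  Module.Finite.of_surjective (Ideal.Quotient.mkₐ R I).toLinearMap
    (Ideal.Quotient.mkₐ_surjective R I)

variable [Module.Finite R A] [Module.Projective R A] [Module.Projective R (A ⧸ I)]

/-- The rank of `A` over the invariants is the rank of `A/I` over `R`. -/
theorem rankAtStalk_Kinv (P : PrimeSpectrum (Kinv R A I)) :
    Module.rankAtStalk (R := Kinv R A I) A P =
      Module.rankAtStalk (R := R) (A ⧸ I) (P.comap (algebraMap R (Kinv R A I))) := by
  haveI := finite_quot R A I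
  haveI := faithfullyFlat R A I
  haveI := finite R A I
  let e : A ⊗[Kinv R A I] A ≃ₗ[Kinv R A I] A ⊗[R] (A ⧸ I) :=
    LinearEquiv.ofBijective
      (Algebra.TensorProduct.productMap (tau R A I) (sigma R A I)).toLinearMap
      (productMap_bijective R A I)
  have h1 := congrFun (Module.rankAtStalk_eq_of_equiv e) P
  rw [Module.rankAtStalk_tensorProduct, Pi.mul_apply,
    Module.rankAtStalk_tensorProduct_of_isScalarTower] at h1
  have hpos : 0 < Module.rankAtStalk (R := Kinv R A I) A P := by
    rw [PrimeSpectrum.rankAtStalk_pos_iff_mem_range_comap]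
    exact PrimeSpectrum.comap_surjective_of_faithfullyFlat P
  exact Nat.eq_of_mul_eq_mul_left hpos h1

theorem finite_Kinv [IsNoetherianRing R] : Module.Finite R (Kinv R A I) := by
  haveI : IsNoetherian R A := isNoetherian_of_isNoetherianRing_of_finite R A
  exact Module.Finite.of_injective (IsScalarTower.toAlgHom R (Kinv R A I) A).toLinearMap
    (algebraMap_Kinv_injective R A I)

theorem flat_Kinv : Module.Flat R (Kinv R A I) := by
  haveI := finite_quot R A I
  haveI := faithfullyFlat R A I
  exact Groth.Agent.Lib.Helper5.flat_of_faithfullyFlat_of_flat A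

/-- The order of `G` is the order of `G'` times the index. -/
theorem rankAtStalk_eq_mul [IsNoetherianRing R] (q : PrimeSpectrum R) :
    Module.rankAtStalk (R := R) A q =
      Module.rankAtStalk (R := R) (A ⧸ I) q * Module.rankAtStalk (R := R) (Kinv R A I) q := by
  haveI := finite_quot R A I
  haveI := faithfullyFlat R A I
  haveI := finite R A I
  haveI := finite_Kinv R A I
  haveI := flat_Kinv R A I
  exact Groth.Agent.Lib.Seat77.RankTower.rankAtStalk_tower q _
    (fun P hP => by rw [rankAtStalk_Kinv, hP])

end Groth.Agent.Lib.Seat77.HopfQuotB
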