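import Mathlib
import Groth.Agent.Lib.Helper5LocalFlat

/-!
# Flatness over a ring with a nilpotent ideal (seat 77)

* `tor1Vanish_of_fg`: `Tor₁(N, M) = 0` as soon as it vanishes for all finitely generated
  submodules of `N`.
* `tor1Vanish_of_killed`: modules killed by `I` (no finiteness).
* `tor1Vanish_of_pow_killed`: modules killed by a power of `I`.
* `flat_of_nilpotent`: `I` nilpotent, `I ⊗ M → M` injective and `M/IM` flat over `A/I` imply `M` flat.
* `lTensor_subtype_injective_of_gr`: descending induction giving `I ⊗ M → M` injective from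
  injectivity of the graded comparison maps.
-/

set_option autoImplicit false
universe u v

namespace Groth.Agent.Lib.Seat77.NilFlat

open TensorProduct LinearMap Groth.Agent.Lib.Helper5

section

variable {A : Type u} [CommRing A] {M : Type v} [AddCommGroup M] [Module A M]

/-- `Tor₁(N, M)` vanishes if it vanishes for every finitely generated submodule of `N`. -/
theorem tor1Vanish_of_fg {N : Type u} [AddCommGroup N] [Module A N]
    (h : ∀ N' : Submodule A N, N'.FG → Tor1Vanish A M N') : Tor1Vanish A M N := by
  intro Q' Q _ _ _ _ i p hi hp hex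
  rw [LinearMap.lTensor_inj_iff_rTensor_inj, injective_iff_map_eq_zero]
  intro z hz
  obtain ⟨P0, hP0, z0, rfl⟩ := Submodule.exists_fg_le_eq_rTensor_subtype z
  -- push to the image
  have hz1 : (P0.map i).subtype.rTensor M ((i.submoduleMap P0).rTensor M z0) =
      (P0.map i).subtype.rTensor M 0 := by
    rw [map_zero, ← hz, ← LinearMap.rTensor_comp_apply, ← LinearMap.rTensor_comp_apply]
    rfl
  obtain ⟨P2, hP2, hle, hz2⟩ := (hP0.map i).exists_rTensor_fg_inclusion_eq hz1
  rw [map_zero] at hz2
  -- the restricted short exact sequence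
  have hP0le : P0 ≤ P2.comap i := by
    intro x hx
    exact hle (Submodule.mem_map_of_mem hx)
  let i₁ : ↥(P2.comap i) →ₗ[A] ↥P2 := i.restrict (fun x hx => hx)
  let p₁ : ↥P2 →ₗ[A] ↥(P2.map p) := p.submoduleMap P2
  have hi₁ : Function.Injective i₁ := fun x y hxy => Subtype.ext (hi (congrArg Subtype.val hxy))
  have hp₁ : Function.Surjective p₁ := p.submoduleMap_surjective P2
  have hex₁ : Function.Exact i₁ p₁ := by
    rintro ⟨q, hq⟩
    constructor
    · intro h0
      have h0' : p q = 0 := congrArg Subtype.val h0
      obtain ⟨x, hx⟩ := (hex q).mp h0'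
      refine ⟨⟨x, ?_⟩, Subtype.ext hx⟩
      rw [Submodule.mem_comap, hx]
      exact hq
    · rintro ⟨⟨x, hx⟩, hxq⟩
      have hx' : i x = q := congrArg Subtype.val hxq
      apply Subtype.ext
      change p q = 0
      rw [← hx']
      exact (hex (i x)).mpr ⟨x, rfl⟩
  have hinj := h (P2.map p) (hP2.map p) ↥(P2.comap i) ↥P2 i₁ p₁ hi₁ hp₁ hex₁
  rw [LinearMap.lTensor_inj_iff_rTensor_inj] at hinj
  have hz0 : (P0.inclusion hP0le).rTensor M z0 = 0 := by
    apply hinj
    rw [map_zero, ← hz2, ← LinearMap.rTensor_comp_apply, ← LinearMap.rTensor_comp_apply]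
    rfl
  have : P0.subtype = (P2.comap i).subtype ∘ₗ P0.inclusion hP0le := rfl
  rw [this, LinearMap.rTensor_comp_apply, hz0, map_zero]

/-- Arbitrary modules killed by `I`. -/
theorem tor1Vanish_of_killed (I : Ideal A)
    (H1 : Function.Injective (I.subtype.lTensor M))
    (H2 : ∀ K : Ideal (A ⧸ I), Function.Injective (((K.restrictScalars A).subtype).lTensor M))
    (N : Type u) [AddCommGroup N] [Module A N] (hN : ∀ a ∈ I, ∀ x : N, a • x = 0) :
    Tor1Vanish A M N := by
  apply tor1Vanish_of_fg
  intro N' hN'
  have : Module.Finite A N' := Module.Finite.iff_fg.mpr hN'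
  obtain ⟨r, s, hs⟩ := Module.Finite.exists_fin (R := A) (M := N')
  apply tor1Vanish_of_smul_top_eq_bot I H1 H2 r _ s hs
  rw [eq_bot_iff]
  refine Submodule.smul_le.mpr ?_
  intro a ha x _
  rw [Submodule.mem_bot]
  exact Subtype.ext (hN a ha x)

/-- Arbitrary modules killed by a power of `I`. -/
theorem tor1Vanish_of_pow_killed (I : Ideal A)
    (H1 : Function.Injective (I.subtype.lTensor M))
    (H2 : ∀ K : Ideal (A ⧸ I), Function.Injective (((K.restrictScalars A).subtype).lTensor M))
    (n : ℕ) : ∀ (N : Type u) [AddCommGroup N] [Module A N],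
      I ^ n • (⊤ : Submodule A N) = ⊥ → Tor1Vanish A M N := by
  induction n with
  | zero =>
    intro N _ _ hI
    have : Subsingleton N := by
      rw [← Submodule.subsingleton_iff A, ← subsingleton_iff_bot_eq_top, ← hI, pow_zero,
        Ideal.one_eq_top, Submodule.top_smul]
    exact tor1Vanish_of_subsingleton N
  | succ n ih =>
    intro N _ _ hI
    apply tor1Vanish_of_submodule_of_quotient (I • (⊤ : Submodule A N))
    · apply ih
      apply Submodule.map_injective_of_injective (I • (⊤ : Submodule A N)).injective_subtype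
      rw [Submodule.map_smul'', Submodule.map_top, Submodule.range_subtype, Submodule.map_bot,
        ← mul_smul, ← pow_succ, hI]
    · apply tor1Vanish_of_killed I H1 H2
      intro a ha x
      obtain ⟨y, rfl⟩ := Submodule.Quotient.mk_surjective _ x
      rw [← Submodule.Quotient.mk_smul, Submodule.Quotient.mk_eq_zero]
      exact Submodule.smul_mem_smul ha trivial

/-- Flatness criterion for a nilpotent ideal, `Tor`-free form. -/
theorem flat_of_nilpotent {M : Type u} [AddCommGroup M] [Module A M] (I : Ideal A)
    (hI : IsNilpotent I)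
    (H1 : Function.Injective (I.subtype.lTensor M))
    (H2 : ∀ K : Ideal (A ⧸ I), Function.Injective (((K.restrictScalars A).subtype).lTensor M)) :
    Module.Flat A M := by
  obtain ⟨n, hn⟩ := hI
  rw [Module.Flat.iff_lTensor_injective']
  intro J
  apply Tor1Vanish.lTensor_subtype_injective
  apply tor1Vanish_of_pow_killed I H1 H2 n
  rw [hn, Ideal.zero_eq_bot, Submodule.bot_smul]

end

section Gr

universe w

variable {A : Type u} [CommRing A] {M : Type v} [AddCommGroup M] [Module A M]

theorem exists_fin_repr {N : Type w} [AddCommGroup N] [Module A N] (z : M ⊗[A] N) :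
    ∃ (k : ℕ) (x : Fin k → M) (a : Fin k → N), z = ∑ i, x i ⊗ₜ[A] a i := by
  obtain ⟨S, rfl⟩ := TensorProduct.exists_finset z
  refine ⟨S.card, fun i => (S.equivFin.symm i).1.1, fun i => (S.equivFin.symm i).1.2, ?_⟩
  rw [← Finset.sum_coe_sort S]
  exact (Equiv.sum_comp S.equivFin.symm (fun j : S => j.1.1 ⊗ₜ[A] j.1.2)).symm

/-- If `I` kills `G` then `M ⊗ G → (M/IM) ⊗ G` is injective. -/
theorem rTensor_mkQ_injective_of_killed (I : Ideal A) (G : Type w) [AddCommGroup G] [Module A G]
    (hG : ∀ a ∈ I, ∀ g : G, a • g = 0) :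
    Function.Injective ((I • (⊤ : Submodule A M)).mkQ.rTensor G) := by
  have hex : Function.Exact ((I • (⊤ : Submodule A M)).subtype.rTensor G)
      ((I • (⊤ : Submodule A M)).mkQ.rTensor G) :=
    rTensor_exact G (LinearMap.exact_subtype_mkQ _) (Submodule.mkQ_surjective _)
  have hzero : (I • (⊤ : Submodule A M)).subtype.rTensor G = 0 := by
    apply TensorProduct.ext'
    rintro ⟨y, hy⟩ g
    rw [LinearMap.rTensor_tmul, LinearMap.zero_apply, Submodule.subtype_apply]
    change y ⊗ₜ[A] g = 0
    refine Submodule.smul_induction_on hy ?_ ?_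
    · intro a ha m _
      rw [TensorProduct.smul_tmul, hG a ha g, TensorProduct.tmul_zero]
    · intro y₁ y₂ h₁ h₂
      rw [TensorProduct.add_tmul, h₁, h₂, add_zero]
  rw [injective_iff_map_eq_zero]
  intro w hw
  obtain ⟨w', rfl⟩ := (hex w).mp hw
  rw [hzero, LinearMap.zero_apply]

/-- Descending induction: injectivity of the graded comparison maps gives `Jₙ ⊗ M → M` injective
for all `n`, for a filtration `J` reaching `0`. -/
theorem lTensor_subtype_injective_of_gr (I : Ideal A) (J : ℕ → Ideal A) (N : ℕ) (hJN : J N = ⊥)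
    (hJanti : ∀ n, J (n + 1) ≤ J n) (hIJ : ∀ n, I * J n ≤ J (n + 1))
    {G : ℕ → Type w} [∀ n, AddCommGroup (G n)] [∀ n, Module A (G n)]
    (π : ∀ n, ↥(J n) →ₗ[A] G n) (hπs : ∀ n, Function.Surjective (π n))
    (hπk : ∀ n (a : ↥(J n)), π n a = 0 ↔ (a : A) ∈ J (n + 1))
    (hinj : ∀ (n k : ℕ) (a : Fin k → ↥(J n)) (x : Fin k → M),
        ∑ i, (a i : A) • x i = 0 →
        ∑ i, π n (a i) ⊗ₜ[A]
          (Submodule.Quotient.mk (x i) : M ⧸ I • (⊤ : Submodule A M)) = 0) :
    ∀ n, Function.Injective ((J n).subtype.lTensor M) := by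
  have key : ∀ d n, N ≤ n + d → Function.Injective ((J n).subtype.lTensor M) := by
    intro d
    induction d with
    | zero =>
      intro n hn
      have hle : J n ≤ J N := by
        have : Antitone J := antitone_nat_of_succ_le hJanti
        exact this hn
      have hbot : J n = ⊥ := by rw [eq_bot_iff, ← hJN]; exact hle
      have : Subsingleton ↥(J n) := by
        rw [hbot]; infer_instance
      have : Subsingleton (M ⊗[A] ↥(J n)) := inferInstance
      exact Function.injective_of_subsingleton _
    | succ d ih =>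
      intro n hn
      have ih' := ih (n + 1) (by omega)
      rw [injective_iff_map_eq_zero]
      intro z hz
      obtain ⟨k, x, a, rfl⟩ := exists_fin_repr z
      -- (b)
      have hsum : ∑ i, (a i : A) • x i = 0 := by
        have := congrArg (TensorProduct.rid A M) hz
        simpa [map_sum] using this
      have h1 := hinj n k a x hsum
      -- (d)
      have hkill : ∀ c ∈ I, ∀ g : G n, c • g = 0 := by
        intro c hc g
        obtain ⟨b, rfl⟩ := hπs n g
        rw [← map_smul, hπk]
        exact hIJ n (Ideal.mul_mem_mul hc b.2)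
      have hw : (π n).lTensor M (∑ i, x i ⊗ₜ[A] a i) = 0 := by
        apply rTensor_mkQ_injective_of_killed (M := M) I (G n) hkill
        rw [map_zero, map_sum, map_sum]
        have := congrArg (TensorProduct.comm A (G n) (M ⧸ I • (⊤ : Submodule A M))) h1
        simpa [map_sum] using this
      -- (e)
      have hex : Function.Exact (Submodule.inclusion (hJanti n)) (π n) := by
        intro b
        rw [hπk]
        constructor
        · intro hb
          exact ⟨⟨b, hb⟩, rfl⟩
        · rintro ⟨c, rfl⟩
          exact c.2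
      have hex' := lTensor_exact M hex (hπs n)
      obtain ⟨z', hz'⟩ := (hex' _).mp hw
      have hz'0 : z' = 0 := by
        apply ih'
        rw [map_zero, ← hz, ← hz', ← LinearMap.lTensor_comp_apply]
        rfl
      rw [← hz', hz'0, map_zero]
  intro n
  exact key N n (by omega)

end Gr

end Groth.Agent.Lib.Seat77.NilFlat
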