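import Mathlib

/-!
# Seat77 OTa: algebras that become monogenic at a geometric point are commutative

`comm_of_cyclic`: let `R` be a ring, `K` a field which is an `R`-algebra such that every element of
`R` not killed in `K` is a unit (a local ring and an extension of its residue field), and `D` a
(not necessarily commutative) `R`-algebra, free of finite rank `n`.  If `K ⊗ D` contains an element
whose first `n` powers are linearly independent, then `D` is commutative.
-/

set_option autoImplicit false
set_option linter.style.haveILetI false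

namespace Groth.Agent.Lib.Seat77.OTa

open TensorProduct

universe u v w

section Cyclic

variable {R : Type*} [CommRing R] {D : Type*} [Ring D] [Algebra R D] {n : ℕ}

/-- If finitely many powers of `g` span `D`, then `D` is commutative. -/
theorem mul_comm_of_span_pow (g : D)
    (h : Submodule.span R (Set.range fun j : Fin n => g ^ (j : ℕ)) = ⊤) (a b : D) :
    a * b = b * a := by
  have htop : Algebra.adjoin R {g} = ⊤ := by
    rw [eq_top_iff]
    intro x _
    have hx : x ∈ Submodule.span R (Set.range fun j : Fin n => g ^ (j : ℕ)) := by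
      rw [h]; exact Submodule.mem_top
    have hle : Submodule.span R (Set.range fun j : Fin n => g ^ (j : ℕ)) ≤
        Subalgebra.toSubmodule (Algebra.adjoin R {g}) := by
      rw [Submodule.span_le]
      rintro _ ⟨j, rfl⟩
      exact (Algebra.adjoin R {g}).pow_mem (Algebra.subset_adjoin (Set.mem_singleton g)) _
    exact hle hx
  have ha : a ∈ Algebra.adjoin R {g} := by rw [htop]; exact Algebra.mem_top (R := R)
  have hb : b ∈ Algebra.adjoin R {g} := by rw [htop]; exact Algebra.mem_top (R := R)
  have h1 : Commute g b := Algebra.commute_of_mem_adjoin_self hb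
  exact (Algebra.commute_of_mem_adjoin_singleton_of_commute ha h1.symm).eq.symm

/-- The matrix of coordinates of the first `n` powers of `g`. -/
noncomputable def pmat (e : Module.Basis (Fin n) R D) (g : D) : Matrix (Fin n) (Fin n) R :=
  fun i j => e.repr (g ^ (j : ℕ)) i

theorem pmat_eq_toMatrix (e : Module.Basis (Fin n) R D) (g : D) :
    pmat e g = e.toMatrix (fun j : Fin n => g ^ (j : ℕ)) := rfl

theorem mul_comm_of_isUnit_det (e : Module.Basis (Fin n) R D) (g : D)
    (h : IsUnit (pmat e g).det) (a b : D) : a * b = b * a := by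
  have h1 : IsUnit (e.det (fun j : Fin n => g ^ (j : ℕ))) := by
    rw [Module.Basis.det_apply]; exact h
  have h2 := (Module.Basis.is_basis_iff_det e).mpr h1
  exact mul_comm_of_span_pow g h2.2 a b

end Cyclic

section Semilinear

variable {R₁ : Type*} [CommRing R₁] {D₁ : Type*} [Ring D₁] [Algebra R₁ D₁]
  {R₂ : Type*} [CommRing R₂] {D₂ : Type*} [Ring D₂] [Algebra R₂ D₂] {n : ℕ}

/-- Coordinates are compatible with a semilinear ring homomorphism matching the bases. -/
theorem repr_map (f : R₁ →+* R₂) (F : D₁ →+* D₂)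
    (hF : ∀ (r : R₁) (d : D₁), F (r • d) = f r • F d)
    (e₁ : Module.Basis (Fin n) R₁ D₁) (e₂ : Module.Basis (Fin n) R₂ D₂)
    (he : ∀ i, F (e₁ i) = e₂ i) (x : D₁) (i : Fin n) :
    e₂.repr (F x) i = f (e₁.repr x i) := by
  conv_lhs => rw [← e₁.sum_repr x]
  rw [map_sum]
  simp only [hF, he]
  rw [map_sum, Finset.sum_apply']
  simp [Finsupp.single_apply]

theorem pmat_map (f : R₁ →+* R₂) (F : D₁ →+* D₂)
    (hF : ∀ (r : R₁) (d : D₁), F (r • d) = f r • F d)
    (e₁ : Module.Basis (Fin n) R₁ D₁) (e₂ : Module.Basis (Fin n) R₂ D₂)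
    (he : ∀ i, F (e₁ i) = e₂ i) (g : D₁) :
    pmat e₂ (F g) = (pmat e₁ g).map f := by
  ext i j
  rw [Matrix.map_apply, pmat, pmat, ← map_pow, repr_map f F hF e₁ e₂ he]

theorem det_pmat_map (f : R₁ →+* R₂) (F : D₁ →+* D₂)
    (hF : ∀ (r : R₁) (d : D₁), F (r • d) = f r • F d)
    (e₁ : Module.Basis (Fin n) R₁ D₁) (e₂ : Module.Basis (Fin n) R₂ D₂)
    (he : ∀ i, F (e₁ i) = e₂ i) (g : D₁) :
    (pmat e₂ (F g)).det = f (pmat e₁ g).det := by
  rw [pmat_map f F hF e₁ e₂ he, ← RingHom.mapMatrix_apply, ← RingHom.map_det]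

end Semilinear

section Main

variable {R : Type u} [CommRing R] {K : Type v} [Field K] [Algebra R K]
  {D : Type w} [Ring D] [Algebra R D] {n : ℕ}

/-- The base change of a basis along an algebra map. -/
theorem map_basis {T₁ : Type*} [CommRing T₁] [Algebra R T₁] {T₂ : Type*} [CommRing T₂] [Algebra R T₂]
    (f : T₁ →ₐ[R] T₂) (e : Module.Basis (Fin n) R D) (i : Fin n) :
    Algebra.TensorProduct.map f (AlgHom.id R D) (Algebra.TensorProduct.basis T₁ e i) =
      Algebra.TensorProduct.basis T₂ e i := by
  simp [Algebra.TensorProduct.basis_apply]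

theorem map_smul' {T₁ : Type*} [CommRing T₁] [Algebra R T₁] {T₂ : Type*} [CommRing T₂] [Algebra R T₂]
    (f : T₁ →ₐ[R] T₂) (r : T₁) (d : T₁ ⊗[R] D) :
    Algebra.TensorProduct.map f (AlgHom.id R D) (r • d) =
      f r • Algebra.TensorProduct.map f (AlgHom.id R D) d := by
  induction d using TensorProduct.induction_on with
  | zero => simp
  | tmul x y => simp [TensorProduct.smul_tmul']
  | add x y hx hy => simp only [smul_add, map_add, hx, hy]

theorem det_pmat_baseChange {T₁ : Type*} [CommRing T₁] [Algebra R T₁] {T₂ : Type*} [CommRing T₂]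
    [Algebra R T₂] (f : T₁ →ₐ[R] T₂) (e : Module.Basis (Fin n) R D) (g : T₁ ⊗[R] D) :
    (pmat (Algebra.TensorProduct.basis T₂ e)
      (Algebra.TensorProduct.map f (AlgHom.id R D) g)).det =
      f (pmat (Algebra.TensorProduct.basis T₁ e) g).det := by
  have h := det_pmat_map (R₁ := T₁) (R₂ := T₂) (D₁ := T₁ ⊗[R] D) (D₂ := T₂ ⊗[R] D)
    (f : T₁ →+* T₂) ((Algebra.TensorProduct.map f (AlgHom.id R D)).toRingHom)
    (fun r d => map_smul' f r d) (Algebra.TensorProduct.basis T₁ e)
    (Algebra.TensorProduct.basis T₂ e) (fun i => map_basis f e i) g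
  exact h

/-- The inclusion `D → T ⊗ D` is injective when `R → T` is, `D` being free. -/
theorem tmul_injective_of_basis {T : Type*} [CommRing T] [Algebra R T]
    (hT : Function.Injective (algebraMap R T)) (e : Module.Basis (Fin n) R D) :
    Function.Injective (fun d : D => (1 : T) ⊗ₜ[R] d) := by
  intro d d' hdd
  apply e.repr.injective
  ext i
  have h1 := congrArg (fun z => (Algebra.TensorProduct.basis T e).repr z i) hdd
  simp only [Algebra.TensorProduct.basis_repr_tmul, one_smul, Finsupp.mapRange_apply] at h1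
  exact hT h1

theorem comm_of_cyclic (hloc : ∀ c : R, algebraMap R K c ≠ 0 → IsUnit c)
    (e : Module.Basis (Fin n) R D) (h : K ⊗[R] D)
    (hh : LinearIndependent K (fun j : Fin n => h ^ (j : ℕ))) (a b : D) : a * b = b * a := by
  classical
  let S := MvPolynomial (Fin n) R
  let SK := MvPolynomial (Fin n) K
  let ψ : S →ₐ[R] SK := MvPolynomial.mapAlgHom (Algebra.ofId R K)
  have hψ : ∀ s : S, ψ s = MvPolynomial.map (algebraMap R K) s := fun s => rfl
  let gS : S ⊗[R] D := ∑ i, (MvPolynomial.X i : S) ⊗ₜ[R] e i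
  let Δ : S := (pmat (Algebra.TensorProduct.basis S e) gS).det
  let c : Fin n → K := fun i => (Algebra.TensorProduct.basis K e).repr h i
  let ev : SK →ₐ[R] K := (MvPolynomial.aeval c).restrictScalars R
  have hX : ∀ i, (ev.comp ψ) (MvPolynomial.X i) = c i := by
    intro i
    change MvPolynomial.aeval c (MvPolynomial.map (algebraMap R K) (MvPolynomial.X i)) = c i
    rw [MvPolynomial.map_X, MvPolynomial.aeval_X]
  have hg : Algebra.TensorProduct.map (ev.comp ψ) (AlgHom.id R D) gS = h := by
    simp only [gS, map_sum, Algebra.TensorProduct.map_tmul, AlgHom.id_apply, hX]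
    conv_rhs => rw [← (Algebra.TensorProduct.basis K e).sum_repr h]
    refine Finset.sum_congr rfl (fun i _ => ?_)
    rw [Algebra.TensorProduct.basis_repr_symm_apply']
  have hΔ : (ev.comp ψ) Δ ≠ 0 := by
    rw [← det_pmat_baseChange, hg]
    have hfin : Fintype.card (Fin n) = Module.finrank K (K ⊗[R] D) := by
      rw [Module.finrank_eq_card_basis (Algebra.TensorProduct.basis K e)]
    haveI : FiniteDimensional K (K ⊗[R] D) :=
      Module.Finite.of_basis (Algebra.TensorProduct.basis K e)
    have hspan := hh.span_eq_top_of_card_eq_finrank' hfin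
    have hu := (Module.Basis.is_basis_iff_det (Algebra.TensorProduct.basis K e)).mp ⟨hh, hspan⟩
    rw [Module.Basis.det_apply] at hu
    exact hu.ne_zero
  let P : Ideal S := RingHom.ker (ψ : S →+* SK)
  haveI hP : P.IsPrime := RingHom.ker_isPrime _
  have hΔP : Δ ∈ P.primeCompl := by
    intro hmem
    apply hΔ
    rw [AlgHom.comp_apply]
    have : ψ Δ = 0 := hmem
    rw [this, map_zero]
  let R2 := Localization.AtPrime P
  let ι : S →ₐ[R] R2 := IsScalarTower.toAlgHom R S R2
  have hunit : IsUnit (pmat (Algebra.TensorProduct.basis R2 e)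
      (Algebra.TensorProduct.map ι (AlgHom.id R D) gS)).det := by
    rw [det_pmat_baseChange]
    exact IsLocalization.map_units R2 (⟨Δ, hΔP⟩ : P.primeCompl)
  -- `R → R2` is injective
  have hinj : Function.Injective (algebraMap R R2) := by
    rw [injective_iff_map_eq_zero]
    intro r hr
    rw [IsScalarTower.algebraMap_apply R S R2, IsLocalization.map_eq_zero_iff P.primeCompl] at hr
    obtain ⟨m, hm⟩ := hr
    have hm' : ψ (m : S) ≠ 0 := fun h0 => m.2 h0
    rw [hψ, Ne, MvPolynomial.ext_iff] at hm'
    push Not at hm'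
    obtain ⟨mon, hmon⟩ := hm'
    rw [MvPolynomial.coeff_map, MvPolynomial.coeff_zero] at hmon
    have hu := hloc _ hmon
    have h2 := congrArg (MvPolynomial.coeff mon) hm
    rw [MvPolynomial.algebraMap_eq, mul_comm, MvPolynomial.coeff_C_mul,
      MvPolynomial.coeff_zero] at h2
    have := hu.mul_left_cancel (show MvPolynomial.coeff mon (m : S) * r =
      MvPolynomial.coeff mon (m : S) * 0 by rw [mul_zero, mul_comm]; exact h2)
    exact this
  have hcomm := mul_comm_of_isUnit_det (Algebra.TensorProduct.basis R2 e) _ hunit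
    ((1 : R2) ⊗ₜ[R] a) ((1 : R2) ⊗ₜ[R] b)
  rw [Algebra.TensorProduct.tmul_mul_tmul, Algebra.TensorProduct.tmul_mul_tmul, mul_one] at hcomm
  exact tmul_injective_of_basis hinj e hcomm

end Main

end Groth.Agent.Lib.Seat77.OTa
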