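import Mathlib
import Groth.Prelude.Def_CartDual

/-!
# Seat77 OTb: base change of the dual algebra of a bialgebra

`bc T : D R A →ₐ[R] D T (T ⊗ A)` (base change of linear forms is multiplicative for convolution),
`bcK : K ⊗ D R A →ₐ[K] D K (K ⊗ A)` and its surjectivity for free `A`, joint injectivity of the
localizations, and `isCocomm_of_comm`: a finite projective bialgebra with commutative dual algebra
is cocommutative.
-/

set_option autoImplicit false
set_option linter.style.haveILetI false

namespace Groth.Agent.Lib.Seat77.OTb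

open TensorProduct WithConv Coalgebra

universe u v w

section BC

variable {R : Type u} [CommRing R] (T : Type v) [CommRing T] [Algebra R T]
  {A : Type w} [CommRing A] [Bialgebra R A]

/-- Base change of a linear form. -/
noncomputable def bcFun (f : A →ₗ[R] R) : T ⊗[R] A →ₗ[T] T :=
  (Algebra.TensorProduct.rid R T T).toLinearMap ∘ₗ f.baseChange T

theorem bcFun_tmul (f : A →ₗ[R] R) (t : T) (a : A) :
    bcFun T f (t ⊗ₜ[R] a) = f a • t := by
  simp [bcFun]

/-- Base change of a linear form, linear in the form. -/
noncomputable def bcLin : (A →ₗ[R] R) →ₗ[R] (T ⊗[R] A →ₗ[T] T) where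
  toFun f := bcFun T f
  map_add' f g := by
    refine TensorProduct.AlgebraTensorModule.ext (fun t a => ?_)
    simp only [bcFun_tmul, LinearMap.add_apply, add_smul]
  map_smul' r f := by
    refine TensorProduct.AlgebraTensorModule.ext (fun t a => ?_)
    simp only [bcFun_tmul, LinearMap.smul_apply, RingHom.id_apply, smul_eq_mul, mul_smul]

@[simp] theorem bcLin_tmul (f : A →ₗ[R] R) (t : T) (a : A) :
    bcLin T f (t ⊗ₜ[R] a) = f a • t := bcFun_tmul T f t a

theorem bcLin_one_tmul (f : A →ₗ[R] R) (a : A) :
    bcLin T f ((1 : T) ⊗ₜ[R] a) = algebraMap R T (f a) := by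
  rw [bcLin_tmul, Algebra.algebraMap_eq_smul_one]

theorem conv_one_tmul (F G : WithConv (T ⊗[R] A →ₗ[T] T)) (f g : WithConv (A →ₗ[R] R))
    (hF : ∀ a : A, F ((1 : T) ⊗ₜ[R] a) = algebraMap R T (f a))
    (hG : ∀ a : A, G ((1 : T) ⊗ₜ[R] a) = algebraMap R T (g a)) (a : A) :
    (F * G) ((1 : T) ⊗ₜ[R] a) = algebraMap R T ((f * g) a) := by
  rw [LinearMap.convMul_apply, LinearMap.convMul_apply, TensorProduct.comul_tmul,
    CommSemiring.comul_apply]
  generalize CoalgebraStruct.comul (R := R) a = z
  induction z using TensorProduct.induction_on with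
  | zero => simp
  | add x y hx hy =>
    rw [TensorProduct.tmul_add, map_add, map_add, map_add, hx, hy, map_add, map_add, map_add]
  | tmul x y =>
    rw [TensorProduct.AlgebraTensorModule.tensorTensorTensorComm_tmul, TensorProduct.map_tmul,
      LinearMap.mul'_apply, TensorProduct.map_tmul, LinearMap.mul'_apply]
    change F ((1 : T) ⊗ₜ[R] x) * G ((1 : T) ⊗ₜ[R] y) = _
    rw [hF, hG, ← map_mul]

/-- Base change of linear forms, as a map of convolution algebras. -/
noncomputable def bc : CartDual.D R A →ₐ[R] CartDual.D T (T ⊗[R] A) :=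
  AlgHom.ofLinearMap
    ((WithConv.linearEquiv R (T ⊗[R] A →ₗ[T] T)).symm.toLinearMap ∘ₗ bcLin T ∘ₗ
      (WithConv.linearEquiv R (A →ₗ[R] R)).toLinearMap)
    (by
      apply WithConv.ext
      refine TensorProduct.AlgebraTensorModule.ext (fun t a => ?_)
      change bcLin T (1 : WithConv (A →ₗ[R] R)).ofConv (t ⊗ₜ[R] a) =
        (1 : WithConv (T ⊗[R] A →ₗ[T] T)) (t ⊗ₜ[R] a)
      rw [bcLin_tmul, LinearMap.convOne_apply, LinearMap.convOne_apply, TensorProduct.counit_tmul,
        CommSemiring.counit_apply]
      simp)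
    (by
      intro f g
      apply WithConv.ext
      refine TensorProduct.AlgebraTensorModule.ext (fun t a => ?_)
      have ht : t ⊗ₜ[R] a = t • ((1 : T) ⊗ₜ[R] a) := by simp [TensorProduct.smul_tmul']
      rw [ht, map_smul, map_smul]
      congr 1
      change bcLin T (f * g).ofConv ((1 : T) ⊗ₜ[R] a) =
        ((toConv (bcLin T f.ofConv)) * (toConv (bcLin T g.ofConv))) ((1 : T) ⊗ₜ[R] a)
      rw [bcLin_one_tmul]
      exact (conv_one_tmul T _ _ f g (fun a => bcLin_one_tmul T _ a)
        (fun a => bcLin_one_tmul T _ a) a).symm)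

theorem bc_apply_tmul (f : CartDual.D R A) (t : T) (a : A) :
    (bc (R := R) (A := A) T f) (t ⊗ₜ[R] a) = f a • t := bcLin_tmul T f.ofConv t a

end BC

section Field

variable {R : Type u} [CommRing R] (K : Type v) [CommRing K] [Algebra R K]
  {A : Type w} [CommRing A] [Bialgebra R A]

instance : IsScalarTower R K (CartDual.D K (K ⊗[R] A)) where
  smul_assoc r c f := by
    apply WithConv.ext
    refine LinearMap.ext (fun x => ?_)
    change (r • c) • f.ofConv x = r • (c • f.ofConv x)
    rw [smul_assoc]

/-- The comparison map `K ⊗ D R A → D K (K ⊗ A)`. -/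
noncomputable def bcK : K ⊗[R] CartDual.D R A →ₐ[K] CartDual.D K (K ⊗[R] A) :=
  Algebra.TensorProduct.lift (Algebra.ofId K _) (bc K)
    (fun c f => (show Commute (Algebra.ofId K (CartDual.D K (K ⊗[R] A)) c) (bc (R := R) (A := A) K f) from
      Algebra.commute_algebraMap_left c _))

theorem bcK_tmul (c : K) (f : CartDual.D R A) :
    bcK (R := R) (A := A) K (c ⊗ₜ[R] f) = c • bc (R := R) (A := A) K f := by
  unfold bcK
  rw [Algebra.TensorProduct.lift_tmul, Algebra.ofId_apply, Algebra.smul_def]

variable {n : ℕ} (b : Module.Basis (Fin n) R A)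

/-- The dual basis, in `D R A`. -/
noncomputable def dualB : Module.Basis (Fin n) R (CartDual.D R A) :=
  b.dualBasis.map (CartDual.toDual R A).symm

theorem dualB_apply (i j : Fin n) : (dualB b i) (b j) = if j = i then 1 else 0 := by
  change (b.dualBasis i) (b j) = _
  rw [Module.Basis.dualBasis_apply_self]

include b in
theorem bcK_surjective : Function.Surjective (bcK (R := R) (A := A) K) := by
  intro F
  refine ⟨∑ i, F ((1 : K) ⊗ₜ[R] b i) ⊗ₜ[R] dualB b i, ?_⟩
  apply WithConv.ext
  apply (Algebra.TensorProduct.basis K b).ext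
  intro j
  rw [map_sum, WithConv.ofConv_sum, LinearMap.sum_apply, Algebra.TensorProduct.basis_apply]
  simp only [bcK_tmul, WithConv.ofConv_smul, LinearMap.smul_apply]
  have : ∀ i, (bc (R := R) (A := A) K (dualB b i)).ofConv ((1 : K) ⊗ₜ[R] b j) =
      if j = i then 1 else 0 := by
    intro i
    change (bc (R := R) (A := A) K (dualB b i)) ((1 : K) ⊗ₜ[R] b j) = _
    rw [bc_apply_tmul, dualB_apply]
    split_ifs <;> simp
  simp only [this]
  simp

end Field

section Cocomm

variable {R : Type u} [CommRing R] {A : Type w} [CommRing A] [Bialgebra R A]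

theorem dualTensorEquiv_tmul_eq [Module.Finite R A] [Module.Projective R A]
    (f g : Module.Dual R A) (z : A ⊗[R] A) :
    CartDual.dualTensorEquiv R A A (f ⊗ₜ[R] g) z = LinearMap.mul' R R (TensorProduct.map f g z) := by
  induction z using TensorProduct.induction_on with
  | zero => simp
  | add x y hx hy => simp only [map_add, hx, hy]
  | tmul x y => simp

theorem dualTensorEquiv_comm [Module.Finite R A] [Module.Projective R A]
    (f g : Module.Dual R A) (z : A ⊗[R] A) :
    CartDual.dualTensorEquiv R A A (f ⊗ₜ[R] g) (TensorProduct.comm R A A z) =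
      CartDual.dualTensorEquiv R A A (g ⊗ₜ[R] f) z := by
  induction z using TensorProduct.induction_on with
  | zero => simp
  | add x y hx hy => simp only [map_add, hx, hy]
  | tmul x y => simp [mul_comm]

/-- A finite projective bialgebra whose dual algebra is commutative is cocommutative. -/
theorem isCocomm_of_comm [Module.Finite R A] [Module.Projective R A]
    (h : ∀ f g : CartDual.D R A, f * g = g * f) : Coalgebra.IsCocomm R A := by
  refine ⟨LinearMap.ext fun a => ?_⟩
  rw [← sub_eq_zero, ← Module.forall_dual_apply_eq_zero_iff R]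
  intro φ
  obtain ⟨w, rfl⟩ := (CartDual.dualTensorEquiv R A A).surjective φ
  induction w using TensorProduct.induction_on with
  | zero => simp
  | add x y hx hy => rw [map_add, LinearMap.add_apply, hx, hy, add_zero]
  | tmul f g =>
    rw [map_sub, sub_eq_zero, LinearMap.comp_apply, LinearEquiv.coe_coe, dualTensorEquiv_comm,
      dualTensorEquiv_tmul_eq, dualTensorEquiv_tmul_eq]
    have := congrArg (fun F : CartDual.D R A => F a) (h (toConv g) (toConv f))
    exact this

/-- Commutativity of the dual algebra can be checked after localizing at the maximal ideals. -/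
theorem comm_of_localization
    (h : ∀ (P : Ideal R) [P.IsMaximal],
      ∀ F G : CartDual.D (Localization.AtPrime P) (Localization.AtPrime P ⊗[R] A), F * G = G * F)
    (f g : CartDual.D R A) : f * g = g * f := by
  apply WithConv.ext
  refine LinearMap.ext (fun a => ?_)
  rw [← sub_eq_zero]
  apply eq_zero_of_localization
  intro P hP
  have h1 := h P (bc (R := R) (A := A) (Localization.AtPrime P) f)
    (bc (R := R) (A := A) (Localization.AtPrime P) g)
  rw [← map_mul, ← map_mul] at h1
  have h2 := congrArg (fun F : CartDual.D (Localization.AtPrime P) (Localization.AtPrime P ⊗[R] A) =>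
    F ((1 : Localization.AtPrime P) ⊗ₜ[R] a)) h1
  simp only [bc_apply_tmul] at h2
  rw [map_sub, sub_eq_zero, Algebra.algebraMap_eq_smul_one, Algebra.algebraMap_eq_smul_one]
  exact h2

end Cocomm

end Groth.Agent.Lib.Seat77.OTb
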