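import Groth.Agent.Lib.Helper25FinHopf
import Groth.Prelude.Def_CartDual

/-!
# Seat77 OTc: the dual of a Hopf algebra of prime dimension over an algebraically closed field is
monogenic

`exists_cyclic`: if `A` is a commutative Hopf algebra of prime dimension `p` over an algebraically
closed field `K`, then the dual algebra `D K A` contains an element whose first `p` powers are
linearly independent.
-/

set_option autoImplicit false
set_option linter.style.haveILetI false

namespace Groth.Agent.Lib.Seat77.OTc

open TensorProduct WithConv HopfRep Groth.Agent.Lib.Helper25 Groth.Agent.Lib.Helper25.UL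
  Groth.Agent.Lib.Helper25.FinHopf

universe u v

section Der

variable {k : Type u} [Field k] {A : Type v} [CommRing A] [Algebra k A]

theorem der_mem_span_pow (E : Derivation k A A) (x : A) (m : ℕ) (a : A)
    (ha : a ∈ Ideal.span {x ^ (m + 1)}) : E a ∈ Ideal.span {x ^ m} := by
  obtain ⟨b, rfl⟩ := Ideal.mem_span_singleton'.mp ha
  rw [Derivation.leibniz, Derivation.leibniz_pow]
  refine Ideal.add_mem _ ?_ ?_
  · rw [smul_eq_mul, Nat.add_sub_cancel]
    apply Ideal.mul_mem_left
    rw [nsmul_eq_mul, smul_eq_mul, ← mul_assoc, mul_comm _ (x ^ m), mul_assoc]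
    exact Ideal.mul_mem_right _ _ (Ideal.subset_span rfl)
  · rw [smul_eq_mul, pow_succ, mul_assoc]
    exact Ideal.mul_mem_right _ _ (Ideal.subset_span rfl)

theorem iter_mem_span_pow (E : Derivation k A A) (x : A) :
    ∀ (j i : ℕ), j ≤ i → ∀ a ∈ Ideal.span {x ^ i},
      ((E : A →ₗ[k] A) ^ j) a ∈ Ideal.span {x ^ (i - j)} := by
  intro j
  induction j with
  | zero => intro i _ a ha; simpa using ha
  | succ j ih =>
    intro i hji a ha
    obtain ⟨i', rfl⟩ : ∃ i', i = i' + 1 := ⟨i - 1, by omega⟩
    rw [pow_succ, Module.End.mul_apply]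
    have h1 := der_mem_span_pow E x i' a ha
    have h2 := ih i' (by omega) _ h1
    have : i' + 1 - (j + 1) = i' - j := by omega
    rw [this]
    exact h2

theorem counit_iter_pow (E : Derivation k A A) (x : A) (ε : A →ₐ[k] k)
    (hker : RingHom.ker ε = Ideal.span {x}) (hEx : ε (E x) = 1) :
    ∀ i : ℕ, ε (((E : A →ₗ[k] A) ^ i) (x ^ i)) = (i.factorial : k) := by
  intro i
  induction i with
  | zero => simp
  | succ i ih =>
    rw [pow_succ ((E : A →ₗ[k] A)), Module.End.mul_apply]
    change ε (((E : A →ₗ[k] A) ^ i) (E (x ^ (i + 1)))) = _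
    rw [Derivation.leibniz_pow, Nat.add_sub_cancel]
    have hy : E x - 1 ∈ Ideal.span {x} := by
      rw [← hker, RingHom.mem_ker, map_sub, hEx, map_one, sub_self]
    have h1 : x ^ i • E x = x ^ i + x ^ i * (E x - 1) := by rw [smul_eq_mul]; ring
    rw [h1, ← Nat.cast_smul_eq_nsmul k, map_smul, map_add,
      map_smul, map_add, ih]
    have h2 : x ^ i * (E x - 1) ∈ Ideal.span {x ^ (i + 1)} := by
      obtain ⟨c, hc⟩ := Ideal.mem_span_singleton'.mp hy
      rw [← hc, pow_succ]
      refine Ideal.mem_span_singleton'.mpr ⟨c, by ring⟩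
    have h3 := iter_mem_span_pow E x i (i + 1) (by omega) _ h2
    have h4 : ((E : A →ₗ[k] A) ^ i) (x ^ i * (E x - 1)) ∈ RingHom.ker ε := by
      rw [hker]
      have : i + 1 - i = 1 := by omega
      rw [this, pow_one] at h3
      exact h3
    rw [RingHom.mem_ker] at h4
    rw [h4, add_zero, Nat.factorial_succ, Nat.cast_mul, smul_eq_mul]

end Der

section Tri

variable {k : Type u} [Field k] {V : Type v} [AddCommGroup V] [Module k V]

/-- A triangular family of functionals is linearly independent. -/
theorem linearIndependent_of_triangular {p : ℕ} (φ : Fin p → (V →ₗ[k] k)) (y : Fin p → V)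
    (h0 : ∀ i j : Fin p, j < i → φ j (y i) = 0) (h1 : ∀ i, φ i (y i) ≠ 0) :
    LinearIndependent k φ := by
  rw [Fintype.linearIndependent_iff]
  intro c hc
  have key : ∀ n : ℕ, ∀ i : Fin p, p - (i : ℕ) ≤ n → c i = 0 := by
    intro n
    induction n with
    | zero => intro i hi; exact absurd i.2 (by omega)
    | succ n ih =>
      intro i hi
      have h2 := congrArg (fun f : V →ₗ[k] k => f (y i)) hc
      simp only [LinearMap.sum_apply, LinearMap.smul_apply, LinearMap.zero_apply] at h2
      rw [Finset.sum_eq_single i] at h2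
      · rcases mul_eq_zero.mp h2 with h | h
        · exact h
        · exact absurd h (h1 i)
      · intro j _ hji
        rcases lt_or_gt_of_ne hji with hlt | hgt
        · rw [h0 i j hlt, smul_zero]
        · rw [ih j (by have : (i : ℕ) < j := hgt; omega), zero_smul]
      · intro h; exact absurd (Finset.mem_univ i) h
  intro i
  exact key p i (by omega)

end Tri

section Struct

variable {k : Type u} [Field k] (p : ℕ) [hp : Fact p.Prime] [CharP k p]
variable {A : Type v} [CommRing A] [HopfAlgebra k A] [Module.Finite k A]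

/-- The structure of a Hopf algebra of height at most one (after helper25). -/
theorem height_one_structure
    (h : ∀ x : A, CoalgebraStruct.counit (R := k) x = 0 → x ^ p = 0) :
    ∃ (n : ℕ) (x : Fin n → A) (ξ : Fin n → (A →ₗ[k] k)),
      (∀ i, IsEpsDer (ξ i)) ∧ (∀ i j, ξ i (x j) = if i = j then 1 else 0) ∧
      RingHom.ker (Bialgebra.counitAlgHom k A) = Ideal.span (Set.range x) ∧
      Module.finrank k A = p ^ n := by
  classical
  haveI : IsNoetherianRing A := IsNoetherianRing.of_finite k A
  set e : A →ₐ[k] k := Bialgebra.counitAlgHom k A with he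
  obtain ⟨n, x, ξ, hxm, hξ, hξx, hspan⟩ := exists_dual_family' e
  set m : Ideal A := RingHom.ker e with hm
  have hmem : ∀ a : A, a ∈ m ↔ CoalgebraStruct.counit (R := k) a = 0 := fun a => Iff.rfl
  have hmnil : m ≤ nilradical A := by
    intro a ha
    exact mem_nilradical.mpr ⟨p, h a ((hmem a).mp ha)⟩
  have hgen : m = Ideal.span (Set.range x) := by
    apply le_antisymm
    · have hfg : (m : Submodule A A).FG := IsNoetherian.noetherian m
      have hjac : m ≤ Ideal.jacobson ⊥ := by
        rw [Ideal.jacobson_bot]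
        exact hmnil.trans (nilradical_le_jacobson A)
      apply Submodule.le_of_le_smul_of_le_jacobson_bot hfg hjac
      intro b hb
      have h1 := hspan b hb
      have h2 : ∑ i, ξ i b • x i ∈ Ideal.span (Set.range x) := by
        refine Ideal.sum_mem _ (fun i _ => ?_)
        rw [Algebra.smul_def]
        exact Ideal.mul_mem_left _ _ (Ideal.subset_span ⟨i, rfl⟩)
      have h3 : b = ∑ i, ξ i b • x i + (b - ∑ i, ξ i b • x i) := by ring
      rw [h3]
      refine Submodule.add_mem_sup h2 ?_
      rw [Ideal.smul_eq_mul, ← pow_two]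
      exact h1
    · rw [Ideal.span_le]
      rintro _ ⟨i, rfl⟩
      exact hxm i
  have hξ' : ∀ i, IsEpsDer (ξ i) := fun i a b => hξ i a b
  refine ⟨n, x, ξ, hξ', hξx, hgen, finrank_eq_pow_of_derivations (k := k) p n A m ?_ ?_ x hgen ?_
    (fun i => CartH.derT (ξ i) (hξ' i)) ?_⟩
  · intro a
    refine ⟨e a, ?_⟩
    rw [hm, RingHom.mem_ker, map_sub, AlgHom.commutes]
    simp
  · rw [hm, RingHom.mem_ker, map_one]
    exact one_ne_zero
  · intro i
    exact h _ ((hmem _).mp (hxm i))
  · intro i j
    rw [hmem, map_sub]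
    have h1 : CoalgebraStruct.counit (R := k) (CartH.derT (ξ i) (hξ' i) (x j)) = ξ i (x j) :=
      counit_T_regular' (ξ i) (x j)
    rw [h1, hξx]
    split_ifs <;> simp

end Struct

section ConvPow

variable {k : Type u} [Field k] {A : Type v} [CommRing A] [HopfAlgebra k A]

theorem apply_slice (ψ ξ : A →ₗ[k] k) (z : A ⊗[k] A) :
    ψ (slice A ξ z) = LinearMap.mul' k k (TensorProduct.map ψ ξ z) := by
  induction z using TensorProduct.induction_on with
  | zero => simp
  | add x y hx hy => simp only [map_add, hx, hy]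
  | tmul a b => simp [slice_tmul, mul_comm]

theorem convMul_apply_T (ψ ξ : CartDual.D k A) (a : A) :
    (ψ * ξ) a = ψ (T (V := A) ξ.ofConv a) := by
  rw [LinearMap.convMul_apply, T_apply]
  exact (apply_slice ψ.ofConv ξ.ofConv _).symm

theorem convPow_apply_T (ξ : CartDual.D k A) (j : ℕ) (a : A) :
    (ξ ^ j) a = CoalgebraStruct.counit (R := k) (((T (V := A) ξ.ofConv) ^ j) a) := by
  induction j generalizing a with
  | zero =>
    rw [pow_zero, pow_zero, LinearMap.convOne_apply]
    rfl
  | succ j ih =>
    rw [pow_succ, convMul_apply_T, ih, pow_succ, Module.End.mul_apply]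

end ConvPow

section Local

variable {K : Type u} [Field K] [IsAlgClosed K] {A : Type v} [CommRing A] [HopfAlgebra K A]
  [Module.Finite K A]

/-- The characteristic of the base field of an infinitesimal group of prime order `p` is `p`. -/
theorem charP_of_nilpotent (p : ℕ) [hp : Fact p.Prime] (hA : Module.finrank K A = p)
    (hnil : ∀ x : A, CoalgebraStruct.counit (R := K) x = 0 → IsNilpotent x) : CharP K p := by
  obtain ⟨ℓ, hℓ⟩ := CharP.exists K
  rcases CharP.char_is_prime_or_zero K ℓ with hprime | h0
  · haveI := Fact.mk hprime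
    obtain ⟨r, hr⟩ := finrank_eq_pow_of_nilpotent (k := K) ℓ (surjective_frobenius K ℓ) p A hnil hA
    have := (Nat.Prime.pow_eq_iff hp.out).mp hr.symm
    rw [← this.1]
    exact hℓ
  · exfalso
    subst h0
    haveI : CharZero K := CharP.charP_to_charZero K
    haveI : Algebra.FiniteType K A := Module.Finite.finiteType A
    haveI : IsReduced A := CartH.isReduced_of_charZero_hopf (k := K) (A := A)
    have h0 : ∀ x : A, CoalgebraStruct.counit (R := K) x = 0 → x = 0 :=
      fun x hx => (hnil x hx).eq_zero
    have h1 := finrank_eq_one_of_augI_eq_bot h0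
    rw [hA] at h1
    exact hp.out.one_lt.ne' h1

/-- An infinitesimal group of prime order has height one. -/
theorem height_one_of_nilpotent (p : ℕ) [hp : Fact p.Prime] [CharP K p]
    (hA : Module.finrank K A = p)
    (hnil : ∀ x : A, CoalgebraStruct.counit (R := K) x = 0 → IsNilpotent x) :
    ∀ x : A, CoalgebraStruct.counit (R := K) x = 0 → x ^ p = 0 := by
  have hperf := surjective_frobenius K p
  have hL := finrank_eq_mul_of_coideal (k := K) hnil (frobSub (A := A) p hperf)
    (comul_mem_of_mem_frobSub p hperf) (frobIdeal (A := A) p hperf) rfl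
  rw [finrank_frobSub p hperf, hA] at hL
  haveI := charP_hopf K p A
  haveI : Module.Finite K (A ⧸ frobKer (k := K) (A := A) p) :=
    Module.Finite.of_surjective (Ideal.Quotient.mkₐ K _).toLinearMap
      (Ideal.Quotient.mkₐ_surjective K _)
  have hker : frobKer (k := K) (A := A) p ≠ ⊥ := by
    intro hker
    have h0 : ∀ x : A, CoalgebraStruct.counit (R := K) x = 0 → x = 0 := by
      intro x hx
      obtain ⟨N, hN⟩ := hnil x hx
      have key : ∀ j : ℕ, x ^ p ^ j = 0 → x = 0 := by
        intro j
        induction j with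
        | zero => intro h; simpa using h
        | succ j ihj =>
          intro h
          apply ihj
          have : x ^ p ^ j ∈ frobKer (k := K) (A := A) p := by
            rw [mem_frobKer, ← pow_mul, ← pow_succ]
            exact h
          rw [hker] at this
          exact this
      apply key N
      have hle : N ≤ p ^ N := (Nat.lt_pow_self hp.out.one_lt).le
      rw [← Nat.sub_add_cancel hle, pow_add, hN, mul_zero]
    have h1 := finrank_eq_one_of_augI_eq_bot h0
    rw [hA] at h1
    exact hp.out.one_lt.ne' h1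
  have hlt : Module.finrank K (A ⧸ frobKer (k := K) (A := A) p) < p := by
    have := finrank_quot_lt (k := K) _ hker
    omega
  have hone : Module.finrank K (A ⧸ frobKer (k := K) (A := A) p) = 1 := by
    have hdvd : Module.finrank K (A ⧸ frobKer (k := K) (A := A) p) ∣ p := ⟨_, hL⟩
    rcases (Nat.dvd_prime hp.out).mp hdvd with h | h
    · exact h
    · omega
  intro x hx
  have h1ne : (1 : A ⧸ frobKer (k := K) (A := A) p) ≠ 0 := by
    intro h
    rw [← map_one (Ideal.Quotient.mk _), Ideal.Quotient.eq_zero_iff_mem, mem_frobKer, one_pow] at h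
    haveI : Nontrivial A := (Bialgebra.counitAlgHom K A).toRingHom.domain_nontrivial
    exact one_ne_zero h
  obtain ⟨c, hc⟩ := (finrank_eq_one_iff_of_nonzero' _ h1ne).mp hone
    (Ideal.Quotient.mk (frobKer (k := K) (A := A) p) x)
  have h2 : x - algebraMap K A c ∈ frobKer (k := K) (A := A) p := by
    rw [← Ideal.Quotient.eq_zero_iff_mem, map_sub, ← hc, Algebra.smul_def, mul_one]
    exact sub_self _
  rw [mem_frobKer, sub_pow_char, sub_eq_zero] at h2
  have h3 := congrArg (Bialgebra.counitAlgHom K A) h2
  rw [map_pow, map_pow, Bialgebra.counitAlgHom_apply, hx, zero_pow hp.out.ne_zero,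
    AlgHom.commutes] at h3
  have hc0 : c = 0 := by
    have : (algebraMap K K c) ^ p = 0 := h3.symm
    exact pow_eq_zero_iff hp.out.ne_zero |>.mp this
  rw [h2, hc0, map_zero, zero_pow hp.out.ne_zero]

theorem exists_cyclic_of_nilpotent (p : ℕ) [hp : Fact p.Prime] (hA : Module.finrank K A = p)
    (hnil : ∀ x : A, CoalgebraStruct.counit (R := K) x = 0 → IsNilpotent x) :
    ∃ h : CartDual.D K A, LinearIndependent K (fun j : Fin p => h ^ (j : ℕ)) := by
  haveI := charP_of_nilpotent p hA hnil
  have hh1 := height_one_of_nilpotent p hA hnil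
  obtain ⟨n, x, ξ, hξ, hξx, hgen, hfin⟩ := height_one_structure p hh1
  rw [hA] at hfin
  have hn : n = 1 := ((Nat.Prime.pow_eq_iff hp.out).mp hfin.symm).2
  subst hn
  set x0 := x 0 with hx0
  set ξ0 := ξ 0 with hξ0
  have hgen' : RingHom.ker (Bialgebra.counitAlgHom K A) = Ideal.span {x0} := by
    rw [hgen]
    congr 1
    ext y
    constructor
    · rintro ⟨i, rfl⟩
      rw [Subsingleton.elim i 0]
      rfl
    · rintro rfl
      exact ⟨0, rfl⟩
  set E : Derivation K A A := CartH.derT ξ0 (hξ 0) with hE
  have hEx : Bialgebra.counitAlgHom K A (E x0) = 1 := by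
    have h1 : CoalgebraStruct.counit (R := K) (CartH.derT ξ0 (hξ 0) x0) = ξ0 x0 :=
      counit_T_regular' ξ0 x0
    rw [Bialgebra.counitAlgHom_apply, hE, h1, hξx]
    simp
  refine ⟨toConv ξ0, ?_⟩
  have hpow : ∀ (j : ℕ) (a : A), ((toConv ξ0 : CartDual.D K A) ^ j) a =
      Bialgebra.counitAlgHom K A (((E : A →ₗ[K] A) ^ j) a) := by
    intro j a
    rw [convPow_apply_T]
    rfl
  have hLI : LinearIndependent K
      (fun j : Fin p => ((toConv ξ0 : CartDual.D K A) ^ (j : ℕ)).ofConv) := by
    apply linearIndependent_of_triangular _ (fun i : Fin p => x0 ^ (i : ℕ))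
    · intro i j hji
      change ((toConv ξ0 : CartDual.D K A) ^ (j : ℕ)) (x0 ^ (i : ℕ)) = 0
      rw [hpow]
      have h1 := iter_mem_span_pow E x0 j i (le_of_lt hji) (x0 ^ (i : ℕ))
        (Ideal.subset_span rfl)
      have h2 : Ideal.span {x0 ^ ((i : ℕ) - (j : ℕ))} ≤
          RingHom.ker (Bialgebra.counitAlgHom K A) := by
        rw [hgen', Ideal.span_le]
        intro y hy
        rw [Set.mem_singleton_iff] at hy
        rw [hy]
        obtain ⟨d, hd⟩ : ∃ d, (i : ℕ) - (j : ℕ) = d + 1 :=
          ⟨(i : ℕ) - (j : ℕ) - 1, by have : (j : ℕ) < i := hji; omega⟩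
        rw [hd, pow_succ]
        exact Ideal.mul_mem_left _ _ (Ideal.subset_span rfl)
      exact h2 h1
    · intro i
      change ((toConv ξ0 : CartDual.D K A) ^ (i : ℕ)) (x0 ^ (i : ℕ)) ≠ 0
      rw [hpow, counit_iter_pow E x0 (Bialgebra.counitAlgHom K A) hgen' hEx]
      intro h0
      rw [CharP.cast_eq_zero_iff K p, Nat.Prime.dvd_factorial hp.out] at h0
      exact absurd i.2 (by omega)
  exact LinearIndependent.of_comp (WithConv.linearEquiv K (A →ₗ[K] K)).toLinearMap hLI

end Local

section Main

variable {K : Type u} [Field K] [IsAlgClosed K] {A : Type v} [CommRing A] [HopfAlgebra K A]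
  [Module.Finite K A]

omit [IsAlgClosed K] [Module.Finite K A] in
theorem exists_cyclic_of_card (p : ℕ) [hp : Fact p.Prime]
    (hcard : Nat.card (A →ₐ[K] K) = p) :
    ∃ h : CartDual.D K A, LinearIndependent K (fun j : Fin p => h ^ (j : ℕ)) := by
  classical
  have hcard' : Nat.card (WithConv (A →ₐ[K] K)) = p := by
    rw [Nat.card_congr (WithConv.equiv (A →ₐ[K] K)), hcard]
  haveI : IsCyclic (WithConv (A →ₐ[K] K)) := isCyclic_of_prime_card hcard'
  obtain ⟨g, hg⟩ := IsCyclic.exists_generator (α := WithConv (A →ₐ[K] K))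
  have hord : orderOf g = p := by
    rw [orderOf_eq_card_of_forall_mem_zpowers hg, hcard']
  have hinj : Function.Injective (fun j : Fin p => (g ^ (j : ℕ)).ofConv) := by
    intro i j hij
    have h1 : g ^ (i : ℕ) = g ^ (j : ℕ) := WithConv.ofConv_injective hij
    have h2 := pow_injOn_Iio_orderOf (x := g)
      (by rw [Set.mem_Iio, hord]; exact i.2) (by rw [Set.mem_Iio, hord]; exact j.2) h1
    exact Fin.ext h2
  have hLI := (linearIndependent_toLinearMap K A K).comp _ hinj
  refine ⟨toConv g.ofConv.toLinearMap, ?_⟩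
  have hpow : ∀ j : ℕ, (toConv g.ofConv.toLinearMap : CartDual.D K A) ^ j =
      toConv (g ^ j).ofConv.toLinearMap := fun j => (AlgHom.toLinearMap_convPow g j).symm
  simp only [hpow]
  exact LinearIndependent.of_comp (WithConv.linearEquiv K (A →ₗ[K] K)).toLinearMap hLI

/-- The dual algebra of a Hopf algebra of prime dimension over an algebraically closed field is
generated by one element. -/
theorem exists_cyclic (p : ℕ) [hp : Fact p.Prime] (hA : Module.finrank K A = p) :
    ∃ h : CartDual.D K A, LinearIndependent K (fun j : Fin p => h ^ (j : ℕ)) := by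
  have hcm := finrank_eq_card_mul (k := K) (A := A)
  rw [hA] at hcm
  have hdvd : Nat.card (A →ₐ[K] K) ∣ p := ⟨_, hcm⟩
  rcases (Nat.dvd_prime hp.out).mp hdvd with h1 | hp'
  · -- one point: infinitesimal
    apply exists_cyclic_of_nilpotent p hA
    intro x hx
    apply isNilpotent_of_mem_ptRad (k := K)
    rw [mem_ptRad]
    intro g
    haveI := finite_points (k := K) (A := A)
    have hsub : Subsingleton (A →ₐ[K] K) := (Nat.card_eq_one_iff_unique.mp h1).1
    rw [Subsingleton.elim g (Bialgebra.counitAlgHom K A)]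
    exact hx
  · exact exists_cyclic_of_card p hp'

end Main

end Groth.Agent.Lib.Seat77.OTc
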