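import Groth.Agent.Lib.Seat77OTa
import Groth.Agent.Lib.Seat77OTb
import Groth.Agent.Lib.Seat77OTc

/-!
# Seat77 OTd: finite locally free group schemes of prime order are commutative

`isCocomm_of_rank_prime`: a commutative Hopf algebra, finite projective of prime rank `p` at every
prime, is cocommutative (Oort–Tate, Theorem 1, first half), over any commutative base ring.
-/

set_option autoImplicit false
set_option linter.style.haveILetI false

namespace Groth.Agent.Lib.Seat77.OTd

open TensorProduct WithConv Groth.Agent.Lib.Seat77

universe u v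

section Fibre

variable {R : Type u} [CommRing R] {K : Type u} [Field K] [Algebra R K]
  {A : Type v} [CommRing A] [HopfAlgebra R A]

theorem comm_dual_of_cyclic_fibre (hloc : ∀ c : R, algebraMap R K c ≠ 0 → IsUnit c)
    {p : ℕ} (b : Module.Basis (Fin p) R A) (h' : CartDual.D K (K ⊗[R] A))
    (hh' : LinearIndependent K (fun j : Fin p => h' ^ (j : ℕ)))
    (f g : CartDual.D R A) : f * g = g * f := by
  obtain ⟨h, rfl⟩ := OTb.bcK_surjective K b h'
  have hfun : ((OTb.bcK (R := R) (A := A) K).toLinearMap ∘ (fun j : Fin p => h ^ (j : ℕ))) =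
      fun j : Fin p => (OTb.bcK (R := R) (A := A) K h) ^ (j : ℕ) := by
    funext j
    exact map_pow (OTb.bcK (R := R) (A := A) K).toRingHom h j
  have hh'' : LinearIndependent K
      ((OTb.bcK (R := R) (A := A) K).toLinearMap ∘ (fun j : Fin p => h ^ (j : ℕ))) := by
    rw [hfun]
    exact hh'
  have hLI : LinearIndependent K (fun j : Fin p => h ^ (j : ℕ)) :=
    LinearIndependent.of_comp _ hh''
  exact OTa.comm_of_cyclic hloc (OTb.dualB b) h hLI f g

end Fibre

section LocalRing

variable {R : Type u} [CommRing R] [IsLocalRing R] {A : Type v} [CommRing A] [HopfAlgebra R A]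
  [Module.Finite R A] [Module.Projective R A]

theorem comm_dual_of_local (p : ℕ) [hp : Fact p.Prime] (hrk : Module.finrank R A = p)
    (f g : CartDual.D R A) : f * g = g * f := by
  haveI : Module.Free R A := Module.free_of_flat_of_isLocalRing
  let b : Module.Basis (Fin p) R A := Module.finBasisOfFinrankEq R A hrk
  have hloc : ∀ c : R, algebraMap R (AlgebraicClosure (IsLocalRing.ResidueField R)) c ≠ 0 →
      IsUnit c := by
    intro c hc
    rw [IsScalarTower.algebraMap_apply R (IsLocalRing.ResidueField R)
      (AlgebraicClosure (IsLocalRing.ResidueField R))] at hc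
    have h1 : algebraMap R (IsLocalRing.ResidueField R) c ≠ 0 := fun h0 => hc (by rw [h0, map_zero])
    by_contra hu
    exact h1 ((IsLocalRing.residue_eq_zero_iff c).mpr ((IsLocalRing.mem_maximalIdeal c).mpr hu))
  have hA : Module.finrank (AlgebraicClosure (IsLocalRing.ResidueField R))
      (AlgebraicClosure (IsLocalRing.ResidueField R) ⊗[R] A) = p := by
    rw [Module.finrank_baseChange, hrk]
  obtain ⟨h', hh'⟩ := OTc.exists_cyclic (K := AlgebraicClosure (IsLocalRing.ResidueField R))
    (A := AlgebraicClosure (IsLocalRing.ResidueField R) ⊗[R] A) p hA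
  exact comm_dual_of_cyclic_fibre hloc b h' hh' f g

end LocalRing

section Global

/-- **Oort–Tate, Theorem 1 (commutativity)**: a finite locally free group scheme of prime order is
commutative. -/
theorem isCocomm_of_rank_prime (R : Type u) [CommRing R] (p : ℕ) [Fact p.Prime] (A : Type v)
    [CommRing A] [HopfAlgebra R A] [Module.Finite R A] [Module.Projective R A]
    (hp : ∀ q : PrimeSpectrum R, Module.rankAtStalk A q = p) : Coalgebra.IsCocomm R A := by
  apply OTb.isCocomm_of_comm
  apply OTb.comm_of_localization
  intro P hP F G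
  have hr : Module.finrank (Localization.AtPrime P) (Localization.AtPrime P ⊗[R] A) = p := by
    rw [← Module.rankAtStalk_eq_finrank_tensorProduct ⟨P, hP.isPrime⟩]
    exact hp _
  exact comm_dual_of_local p hr F G

end Global

end Groth.Agent.Lib.Seat77.OTd
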