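import Groth.Agent.Lib.Seat90OTDual
import Mathlib.RepresentationTheory.Maschke
import Mathlib.RingTheory.Jacobson.Semiprimary
import Mathlib.Algebra.CharP.Lemmas
import Mathlib.RingTheory.Nilpotent.Lemmas

/-!
# The group algebra of `ℤ/p` (Hopf algebra of `μ_p`): the elements `y_i` of Tate–Oort
-/

set_option autoImplicit false
universe u

namespace Groth.Agent.Lib.Seat90.OTMuP

open WithConv OTChar OTHopf OTDual Coalgebra

section Basic

variable (p : ℕ) [Fact p.Prime] (R : Type u) [CommRing R]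

/-- the cyclic group of order `p`, written multiplicatively -/
abbrev G := Multiplicative (ZMod p)

/-- the group algebra -/
abbrev A := MonoidAlgebra R (G p)

/-- the power map on a group-like element -/
theorem powConv_groupLike {B : Type u} [CommRing B] [HopfAlgebra R B] (n : ℕ) {g : B}
    (hg : IsGroupLikeElem R g) : SGA3b.powConv R B n g = g ^ n := by
  unfold SGA3b.powConv
  induction n with
  | zero =>
    rw [pow_zero, pow_zero]
    change algebraMap R B (counit (R := R) g) = 1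
    rw [hg.counit_eq_one, map_one]
  | succ n ih =>
    rw [pow_succ, pow_succ]
    change ((toConv (AlgHom.id R B) ^ n) * toConv (AlgHom.id R B)) g = _
    rw [AlgHom.convMul_apply, hg.comul_eq_tmul_self, Algebra.TensorProduct.lift_tmul]
    change (toConv (AlgHom.id R B) ^ n).ofConv g * g = _
    rw [ih]

theorem powConv_of (n : ℕ) (g : G p) :
    SGA3b.powConv R (A p R) n (MonoidAlgebra.of R (G p) g) = MonoidAlgebra.of R (G p) (g ^ n) := by
  rw [powConv_groupLike R n (MonoidAlgebra.isGroupLikeElem_of g), map_pow]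

theorem killed : (toConv (AlgHom.id R (A p R))) ^ p = 1 := by
  have h : SGA3b.powConv R (A p R) p = SGA3b.powConv R (A p R) 0 := by
    refine MonoidAlgebra.algHom_ext (fun g => ?_) (Subsingleton.elim _ _)
    have h1 := powConv_of p R p g
    have h0 := powConv_of p R 0 g
    rw [MonoidAlgebra.of_apply] at h1 h0
    rw [h1, h0, pow_zero]
    congr 1
    change Multiplicative.ofAdd (p • Multiplicative.toAdd g) = _
    have : (p : ℕ) • (Multiplicative.toAdd g : ZMod p) = 0 := by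
      rw [nsmul_eq_mul, ZMod.natCast_self, zero_mul]
    rw [this]; rfl
  unfold SGA3b.powConv at h
  have h' := congrArg toConv h
  rw [toConv_ofConv, toConv_ofConv, pow_zero] at h'
  exact h'

/-- the basis element `T^k` -/
noncomputable def T (k : ZMod p) : A p R := MonoidAlgebra.of R (G p) (Multiplicative.ofAdd k)

theorem T_zero : T p R 0 = 1 := by
  unfold T
  rw [ofAdd_zero, map_one]

theorem T_add (a b : ZMod p) : T p R (a + b) = T p R a * T p R b := by
  unfold T
  rw [ofAdd_add, map_mul]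

theorem T_one_pow (n : ℕ) : T p R 1 ^ n = T p R (n : ZMod p) := by
  unfold T
  rw [← map_pow, ← ofAdd_nsmul, nsmul_eq_mul, mul_one]

theorem muT_eq : OortTate.muT R p = T p R 1 := rfl

theorem counit_T (k : ZMod p) : counit (R := R) (T p R k) = 1 :=
  (MonoidAlgebra.isGroupLikeElem_of (R := R) (A := R) (Multiplicative.ofAdd k)).counit_eq_one

theorem Lact_T (m : (ZMod p)ˣ) (k : ZMod p) :
    Lact (R := R) (A := A p R) p m (T p R k) = T p R ((m : ZMod p) * k) := by
  unfold Lact T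
  rw [AlgHom.toLinearMap_apply, powConv_of, ← ofAdd_nsmul, nsmul_eq_mul, ZMod.natCast_zmod_val]

/-- `e_m = T^m - 1` -/
noncomputable def e (m : (ZMod p)ˣ) : A p R := T p R (m : ZMod p) - 1

theorem counit_e (m : (ZMod p)ˣ) : counit (R := R) (e p R m) = 0 := by
  unfold e
  rw [map_sub, counit_T, Bialgebra.counit_one, sub_self]

theorem Lact_e (n m : (ZMod p)ˣ) :
    Lact (R := R) (A := A p R) p n (e p R m) = e p R (n * m) := by
  unfold e
  rw [map_sub, Lact_T, Units.val_mul]
  congr 1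
  unfold Lact
  rw [AlgHom.toLinearMap_apply, map_one]

theorem e_one : e p R 1 = OortTate.muT R p - 1 := by
  unfold e
  rw [Units.val_one, muT_eq]

variable {R}

theorem ygen_eq (u : R) (χ : (ZMod p)ˣ →* Rˣ) (i : ℕ) :
    OortTate.ygen R p u χ i = u • ∑ m : (ZMod p)ˣ, (((χ m⁻¹ : Rˣ) : R) ^ i) • e p R m := by
  change OortTate.proj R (A p R) p u χ i (OortTate.muT R p - 1) = _
  rw [proj_eq_avg, avg_apply, ← e_one]
  congr 1
  refine Finset.sum_congr rfl fun m _ => ?_
  rw [Lact_e, mul_one]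

theorem ygen_eq_avg (u : R) (χ : (ZMod p)ˣ →* Rˣ) (i : ℕ) :
    OortTate.ygen R p u χ i = avg p u χ (Lact (R := R) (A := A p R) p) i (e p R 1) := by
  change OortTate.proj R (A p R) p u χ i (OortTate.muT R p - 1) = _
  rw [proj_eq_avg, ← e_one]

theorem ygen_mem (u : R) (χ : (ZMod p)ˣ →* Rˣ) (i : ℕ) :
    OortTate.ygen R p u χ i ∈ OortTate.eigenAug R (A p R) p χ i := by
  rw [ygen_eq_avg]
  exact avg_mem_eigenAug p u χ (killed p R) i _ (counit_e p R 1)

/-- `e_i (e_m) = χ(m)^i y_i` -/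
theorem avg_e (u : R) (χ : (ZMod p)ˣ →* Rˣ) (i : ℕ) (m : (ZMod p)ˣ) :
    avg p u χ (Lact (R := R) (A := A p R) p) i (e p R m) =
      (((χ m : Rˣ) : R) ^ i) • OortTate.ygen R p u χ i := by
  have h : e p R m = Lact (R := R) (A := A p R) p m (e p R 1) := by rw [Lact_e, mul_one]
  rw [h, avg_L p u χ _ (Lact_mul p (killed p R)), ← ygen_eq_avg]

theorem e_eq_sum (u : R) (hu : u * ((p - 1 : ℕ) : R) = 1)
    (χ : (ZMod p)ˣ →* Rˣ) (hχ : ∀ m : (ZMod p)ˣ, m ≠ 1 → IsUnit ((χ m : R) - 1)) (m : (ZMod p)ˣ) :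
    e p R m = ∑ i ∈ Finset.range (p - 1), (((χ m : Rˣ) : R) ^ i) • OortTate.ygen R p u χ i := by
  rw [← sum_avg p u hu χ (Lact (R := R) (A := A p R) p) (Lact_one p) hχ (e p R m)]
  exact Finset.sum_congr rfl fun i _ => avg_e p u χ i m

end Basic

section Basis

variable (p : ℕ) [Fact p.Prime] (R : Type u) [CommRing R]

/-- the coefficient functional at `T^k` -/
noncomputable def cf (k : ZMod p) : A p R →ₗ[R] R :=
  (Finsupp.lapply (Multiplicative.ofAdd k)) ∘ₗ (MonoidAlgebra.coeffLinearEquiv R).toLinearMap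

theorem cf_T (k j : ZMod p) : cf p R k (T p R j) = if j = k then 1 else 0 := by
  unfold cf T
  simp only [LinearMap.coe_comp, LinearEquiv.coe_coe, Function.comp_apply, Finsupp.lapply_apply,
    MonoidAlgebra.of_apply]
  change (Finsupp.single (Multiplicative.ofAdd j) (1 : R)) (Multiplicative.ofAdd k) = _
  rw [Finsupp.single_apply]
  simp only [EmbeddingLike.apply_eq_iff_eq]

theorem cf_one_e (m : (ZMod p)ˣ) : cf p R 1 (e p R m) = if m = 1 then 1 else 0 := by
  unfold e
  rw [map_sub, ← T_zero p R, cf_T, cf_T, if_neg (zero_ne_one), sub_zero]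
  congr 1
  rw [eq_iff_iff, ← Units.val_one, Units.val_inj]

theorem sum_T_repr (x : A p R) : x = ∑ k : ZMod p, cf p R k x • T p R k := by
  have h := (MonoidAlgebra.basis (G p) R).sum_repr x
  rw [← Equiv.sum_comp (Multiplicative.ofAdd : ZMod p ≃ G p)] at h
  conv_lhs => rw [← h]
  rfl

theorem counit_eq_sum (x : A p R) : counit (R := R) x = ∑ k : ZMod p, cf p R k x := by
  conv_lhs => rw [sum_T_repr p R x]
  rw [map_sum]
  refine Finset.sum_congr rfl fun k _ => ?_
  rw [map_smul, counit_T, smul_eq_mul, mul_one]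

theorem span_e : Submodule.span R (Set.range (e p R)) =
    LinearMap.ker (Bialgebra.counitAlgHom R (A p R)).toLinearMap := by
  apply le_antisymm
  · rw [Submodule.span_le]
    rintro _ ⟨m, rfl⟩
    exact counit_e p R m
  · intro x hx
    have hx0 : ∑ k : ZMod p, cf p R k x = 0 := by
      rw [← counit_eq_sum]; exact hx
    have hx1 : x = ∑ k : ZMod p, cf p R k x • (T p R k - 1) := by
      simp only [smul_sub]
      rw [Finset.sum_sub_distrib, ← Finset.sum_smul, hx0, zero_smul, sub_zero]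
      exact sum_T_repr p R x
    rw [hx1]
    refine Submodule.sum_mem _ fun k _ => ?_
    by_cases hk : k = 0
    · subst hk
      rw [T_zero, sub_self, smul_zero]
      exact Submodule.zero_mem _
    · refine Submodule.smul_mem _ _ (Submodule.subset_span ⟨Units.mk0 k hk, ?_⟩)
      rfl

end Basis

section Y

variable (p : ℕ) [Fact p.Prime] {R : Type u} [CommRing R] (u : R)
  (hu : u * ((p - 1 : ℕ) : R) = 1)
  (χ : (ZMod p)ˣ →* Rˣ) (hχ : ∀ m : (ZMod p)ˣ, m ≠ 1 → IsUnit ((χ m : R) - 1))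

theorem cf_one_ygen (i : ℕ) : cf p R 1 (OortTate.ygen R p u χ i) = u := by
  rw [ygen_eq, map_smul, map_sum]
  have : ∀ m : (ZMod p)ˣ, cf p R 1 ((((χ m⁻¹ : Rˣ) : R) ^ i) • e p R m) =
      if m = 1 then 1 else 0 := by
    intro m
    rw [map_smul, cf_one_e]
    split_ifs with h
    · subst h
      rw [inv_one, chi_one, one_pow, smul_eq_mul, mul_one]
    · rw [smul_zero]
  rw [Finset.sum_congr rfl (fun m _ => this m), Finset.sum_ite_eq' Finset.univ (1 : (ZMod p)ˣ)]
  simp

include hu in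
theorem smul_ygen_eq_zero (i : ℕ) (c : R) (h : c • OortTate.ygen R p u χ i = 0) : c = 0 := by
  have h1 := congrArg (cf p R 1) h
  rw [map_smul, cf_one_ygen, map_zero, smul_eq_mul] at h1
  calc c = c * (u * ((p - 1 : ℕ) : R)) := by rw [hu, mul_one]
    _ = 0 := by rw [← mul_assoc, h1, zero_mul]

theorem ygen_congr (i j : ℕ) (h : ∀ m : (ZMod p)ˣ, ((χ m : Rˣ) : R) ^ i = ((χ m : Rˣ) : R) ^ j) :
    OortTate.ygen R p u χ i = OortTate.ygen R p u χ j := by
  rw [ygen_eq, ygen_eq]
  congr 1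
  refine Finset.sum_congr rfl fun m _ => ?_
  rw [h m⁻¹]

theorem chi_pow_add_card (m : (ZMod p)ˣ) (i : ℕ) :
    ((χ m : Rˣ) : R) ^ (i + (p - 1)) = ((χ m : Rˣ) : R) ^ i := by
  rw [pow_add, chi_pow_card, mul_one]

theorem chi_pow_mod (m : (ZMod p)ˣ) (i : ℕ) :
    ((χ m : Rˣ) : R) ^ i = ((χ m : Rˣ) : R) ^ (i % (p - 1)) := by
  conv_lhs => rw [← Nat.div_add_mod i (p - 1)]
  rw [pow_add, pow_mul, chi_pow_card, one_pow, one_mul]

theorem ygen_mod (i : ℕ) : OortTate.ygen R p u χ i = OortTate.ygen R p u χ (i % (p - 1)) :=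
  ygen_congr p u χ _ _ fun m => chi_pow_mod p χ m i

theorem eigenAug_congr (i j : ℕ) (h : ∀ m : (ZMod p)ˣ, ((χ m : Rˣ) : R) ^ i = ((χ m : Rˣ) : R) ^ j) :
    OortTate.eigenAug R (A p R) p χ i = OortTate.eigenAug R (A p R) p χ j := by
  ext f
  rw [mem_eigenAug, mem_eigenAug]
  simp only [h]

include hu hχ in
/-- the projector `e_j` on `y_i`, for `i, j < p - 1` -/
theorem avg_ygen (i j : ℕ) (hi : i < p - 1) (hj : j < p - 1) :
    avg p u χ (Lact (R := R) (A := A p R) p) j (OortTate.ygen R p u χ i) =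
      if i = j then OortTate.ygen R p u χ i else 0 := by
  have hmem := ygen_mem p u χ i
  rw [mem_eigenAug] at hmem
  split_ifs with h
  · subst h
    exact avg_of_eigen p u hu χ _ i _ hmem.2
  · refine avg_of_eigen_ne p u χ _ hχ j i ?_ _ hmem.2
    intro hdvd
    apply h
    have h2 : 2 ≤ p := (Fact.out : p.Prime).two_le
    have h3 : ((p - 1 : ℕ) : ℤ) ∣ (i : ℤ) - (j : ℤ) := by
      have h4 : ((p - 1 : ℕ) : ℤ) ∣ ((i + (p - 2) * j : ℕ) : ℤ) := Int.natCast_dvd_natCast.mpr hdvd
      have h5 : ((i + (p - 2) * j : ℕ) : ℤ) = ((i : ℤ) - j) + ((p - 1 : ℕ) : ℤ) * j := by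
        have : p - 2 = (p - 1) - 1 := by omega
        rw [this]
        have h6 : 1 ≤ p - 1 := by omega
        push_cast [Nat.cast_sub h6]
        ring
      rw [h5] at h4
      exact (Int.dvd_add_left (Dvd.intro _ rfl)).mp h4
    have h7 : (i : ℤ) - j = 0 := by
      apply Int.eq_zero_of_abs_lt_dvd h3
      rw [abs_lt]
      constructor <;> omega
    omega

include hu hχ in
theorem li_ygen : LinearIndependent R (fun i : Fin (p - 1) => OortTate.ygen R p u χ (i : ℕ)) := by
  rw [Fintype.linearIndependent_iff]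
  intro g hg j
  have h1 := congrArg (avg p u χ (Lact (R := R) (A := A p R) p) (j : ℕ)) hg
  rw [map_sum, map_zero] at h1
  have : ∀ i : Fin (p - 1), avg p u χ (Lact (R := R) (A := A p R) p) (j : ℕ)
      (g i • OortTate.ygen R p u χ (i : ℕ)) =
      if i = j then g j • OortTate.ygen R p u χ (j : ℕ) else 0 := by
    intro i
    rw [map_smul, avg_ygen p u hu χ hχ _ _ i.2 j.2]
    split_ifs with h h' h'
    · rw [h']
    · exact absurd (Fin.ext h) h'
    · exact absurd (congrArg Fin.val h') h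
    · rw [smul_zero]
  rw [Finset.sum_congr rfl (fun i _ => this i), Finset.sum_ite_eq' Finset.univ j] at h1
  simp only [Finset.mem_univ, if_true] at h1
  exact smul_ygen_eq_zero p u hu χ _ _ h1

include hu hχ in
theorem span_ygen :
    Submodule.span R (Set.range (fun i : Fin (p - 1) => OortTate.ygen R p u χ (i : ℕ))) =
      LinearMap.ker (Bialgebra.counitAlgHom R (A p R)).toLinearMap := by
  apply le_antisymm
  · rw [Submodule.span_le]
    rintro _ ⟨i, rfl⟩
    have := ygen_mem p u χ (i : ℕ)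
    rw [mem_eigenAug] at this
    exact this.1
  · rw [← span_e, Submodule.span_le]
    rintro _ ⟨m, rfl⟩
    rw [e_eq_sum p u hu χ hχ m]
    refine Submodule.sum_mem _ fun i hi => ?_
    exact Submodule.smul_mem _ _ (Submodule.subset_span ⟨⟨i, Finset.mem_range.mp hi⟩, rfl⟩)

include hu in
/-- the `χ^i`-eigenspace is spanned by `y_i` -/
theorem exists_of_mem_eigenAug (i : ℕ) (f : A p R) (hf : f ∈ OortTate.eigenAug R (A p R) p χ i) :
    ∃ c : R, f = c • OortTate.ygen R p u χ i := by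
  rw [mem_eigenAug] at hf
  have h1 : f ∈ Submodule.span R (Set.range (e p R)) := by
    rw [span_e]; exact hf.1
  obtain ⟨a, ha⟩ := (Submodule.mem_span_range_iff_exists_fun R).mp h1
  refine ⟨∑ m : (ZMod p)ˣ, a m * ((χ m : Rˣ) : R) ^ i, ?_⟩
  rw [← avg_of_eigen p u hu χ _ i f hf.2, ← ha, map_sum, Finset.sum_smul]
  refine Finset.sum_congr rfl fun m _ => ?_
  rw [map_smul, avg_e, smul_smul]

end Y

section Mul

variable (p : ℕ) {R : Type u} [CommRing R] (χ : (ZMod p)ˣ →* Rˣ)
  {B : Type u} [CommRing B] [HopfAlgebra R B]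

theorem mul_mem_eigenAug (i j : ℕ) (f g : B) (hf : f ∈ OortTate.eigenAug R B p χ i)
    (hg : g ∈ OortTate.eigenAug R B p χ j) : f * g ∈ OortTate.eigenAug R B p χ (i + j) := by
  rw [mem_eigenAug] at hf hg ⊢
  refine ⟨?_, fun m => ?_⟩
  · rw [Bialgebra.counit_mul, hf.1, zero_mul]
  · have h1 := hf.2 m
    have h2 := hg.2 m
    unfold Lact at h1 h2 ⊢
    rw [AlgHom.toLinearMap_apply] at h1 h2 ⊢
    rw [map_mul, h1, h2, smul_mul_smul_comm, pow_add]

theorem pow_mem_eigenAug (f : B) (hf : f ∈ OortTate.eigenAug R B p χ 1) (i : ℕ) (hi : 1 ≤ i) :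
    f ^ i ∈ OortTate.eigenAug R B p χ i := by
  induction i, hi using Nat.le_induction with
  | base => rw [pow_one]; exact hf
  | succ n _ ih =>
    rw [pow_succ]
    exact mul_mem_eigenAug p χ n 1 _ _ ih hf

end Mul

section BaseChange

variable (p : ℕ) [Fact p.Prime] {R : Type u} [CommRing R] {S : Type u} [CommRing S] (f : R →+* S)

/-- base change of group algebras -/
noncomputable def F : A p R →+* A p S := MonoidAlgebra.mapRingHom (G p) f

theorem F_T (k : ZMod p) : F p f (T p R k) = T p S k := by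
  unfold F T
  rw [MonoidAlgebra.of_apply, MonoidAlgebra.mapRingHom_single, map_one, MonoidAlgebra.of_apply]

theorem F_e (m : (ZMod p)ˣ) : F p f (e p R m) = e p S m := by
  unfold e
  rw [map_sub, F_T, map_one]

theorem F_smul (r : R) (x : A p R) : F p f (r • x) = f r • F p f x := by
  rw [Algebra.smul_def, Algebra.smul_def, map_mul]
  congr 1
  unfold F
  rw [MonoidAlgebra.coe_algebraMap, MonoidAlgebra.coe_algebraMap]
  simp only [Function.comp_apply, Algebra.algebraMap_self, RingHom.id_apply,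
    MonoidAlgebra.mapRingHom_single]

/-- the base change of the character -/
noncomputable def chiMap (χ : (ZMod p)ˣ →* Rˣ) : (ZMod p)ˣ →* Sˣ := (Units.map (f : R →* S)).comp χ

theorem chiMap_apply (χ : (ZMod p)ˣ →* Rˣ) (m : (ZMod p)ˣ) :
    ((chiMap p f χ m : Sˣ) : S) = f ((χ m : Rˣ) : R) := rfl

theorem F_ygen (u : R) (χ : (ZMod p)ˣ →* Rˣ) (i : ℕ) :
    F p f (OortTate.ygen R p u χ i) = OortTate.ygen S p (f u) (chiMap p f χ) i := by
  rw [ygen_eq, ygen_eq, F_smul, map_sum]
  congr 1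
  refine Finset.sum_congr rfl fun m _ => ?_
  rw [F_smul, F_e, map_pow, chiMap_apply]

end BaseChange

section CharP

variable (p : ℕ) [Fact p.Prime] (K : Type u) [Field K]

/-- `z = T - 1` -/
noncomputable def z : A p K := T p K 1 - 1

theorem z_pow_pred (hp : (p : K) = 0) :
    z p K ^ (p - 1) = ∑ k ∈ Finset.range p, T p K (k : ZMod p) := by
  have hpr : p.Prime := Fact.out
  have : CharP K p := (CharP.charP_iff_prime_eq_zero hpr).mpr hp
  have h1 : ((Polynomial.X - 1 : Polynomial K)) ^ (p - 1) * (Polynomial.X - 1) =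
      (∑ k ∈ Finset.range p, (Polynomial.X : Polynomial K) ^ k) * (Polynomial.X - 1) := by
    rw [← pow_succ, geom_sum_mul]
    have : p - 1 + 1 = p := Nat.sub_add_cancel hpr.one_le
    rw [this, sub_pow_char, one_pow]
  have hne : (Polynomial.X - 1 : Polynomial K) ≠ 0 := by
    have := Polynomial.X_sub_C_ne_zero (1 : K)
    rwa [map_one] at this
  have h2 := mul_right_cancel₀ hne h1
  have h3 := congrArg (Polynomial.aeval (T p K 1)) h2
  rw [map_pow, map_sub, map_one, Polynomial.aeval_X, map_sum] at h3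
  unfold z
  rw [h3]
  refine Finset.sum_congr rfl fun k _ => ?_
  rw [map_pow, Polynomial.aeval_X, T_one_pow]

theorem z_pow_pred_ne_zero (hp : (p : K) = 0) : z p K ^ (p - 1) ≠ 0 := by
  intro h
  have h1 := congrArg (cf p K 0) h
  rw [z_pow_pred p K hp, map_sum, map_zero] at h1
  have hpr : p.Prime := Fact.out
  rw [Finset.sum_eq_single 0] at h1
  · rw [Nat.cast_zero, cf_T, if_pos rfl] at h1
    exact one_ne_zero h1
  · intro k hk hk0
    rw [cf_T, if_neg]
    intro h0
    rw [ZMod.natCast_eq_zero_iff] at h0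
    exact absurd (Nat.le_of_dvd (Nat.pos_of_ne_zero hk0) h0) (not_le.mpr (Finset.mem_range.mp hk))
  · intro h0
    exact absurd (Finset.mem_range.mpr hpr.pos) h0

theorem z_pow (hp : (p : K) = 0) : z p K ^ p = 0 := by
  have hpr : p.Prime := Fact.out
  have : CharP (A p K) p := by
    rw [CharP.charP_iff_prime_eq_zero hpr]
    rw [← map_natCast (algebraMap K (A p K)) p, hp, map_zero]
  unfold z
  rw [sub_pow_char, one_pow, T_one_pow, ZMod.natCast_self, T_zero, sub_self]

theorem one_add_pow_exists {B : Type u} [CommRing B] (x : B) (n : ℕ) :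
    ∃ c : B, (1 + x) ^ n = 1 + (n : B) * x + x ^ 2 * c := by
  induction n with
  | zero => exact ⟨0, by simp⟩
  | succ n ih =>
    obtain ⟨c, hc⟩ := ih
    refine ⟨(n : B) + c + x * c, ?_⟩
    rw [pow_succ, hc]
    push_cast
    ring

variable {K}
variable (u : K) (hu : u * ((p - 1 : ℕ) : K) = 1) (χ : (ZMod p)ˣ →* Kˣ)

include hu in
theorem ygen_one_eq (hχ : ∀ m : (ZMod p)ˣ, ((χ m : Kˣ) : K) = (((m : ZMod p).val : ℕ) : K)) :
    ∃ c : A p K, OortTate.ygen K p u χ 1 = z p K * (1 + z p K * c) := by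
  have he : ∀ m : (ZMod p)ˣ, ∃ c : A p K,
      e p K m = (((m : ZMod p).val : ℕ) : A p K) * z p K + z p K ^ 2 * c := by
    intro m
    obtain ⟨c, hc⟩ := one_add_pow_exists (z p K) (m : ZMod p).val
    refine ⟨c, ?_⟩
    have h1 : (1 : A p K) + z p K = T p K 1 := by unfold z; ring
    rw [h1, T_one_pow, ZMod.natCast_zmod_val] at hc
    unfold e
    rw [hc]
    ring
  choose c hc using he
  refine ⟨u • ∑ m : (ZMod p)ˣ, ((χ m⁻¹ : Kˣ) : K) • c m, ?_⟩
  rw [ygen_eq]
  have h2 : ∀ m : (ZMod p)ˣ, (((χ m⁻¹ : Kˣ) : K) ^ 1) • e p K m =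
      z p K + z p K ^ 2 * (((χ m⁻¹ : Kˣ) : K) • c m) := by
    intro m
    rw [pow_one, hc m, smul_add]
    congr 1
    · rw [← mul_smul_comm, mul_smul_comm, ← nsmul_eq_mul, ← Nat.cast_smul_eq_nsmul K, smul_smul,
        ← hχ m, chi_inv_mul, one_smul]
    · rw [mul_smul_comm]
  rw [Finset.sum_congr rfl (fun m _ => h2 m), Finset.sum_add_distrib, Finset.sum_const,
    Finset.card_univ, ZMod.card_units, ← Finset.mul_sum, smul_add,
    ← Nat.cast_smul_eq_nsmul K, smul_smul, hu, one_smul, mul_add, mul_one, ← mul_assoc, ← pow_two,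
    mul_smul_comm]

include hu in
theorem ygen_one_pow_ne_zero
    (hchar : (p : K) = 0 → ∀ m : (ZMod p)ˣ, ((χ m : Kˣ) : K) = (((m : ZMod p).val : ℕ) : K))
    (i : ℕ) (hi : i ≤ p - 1) : OortTate.ygen K p u χ 1 ^ i ≠ 0 := by
  intro h0
  by_cases hp : (p : K) = 0
  · obtain ⟨c, hc⟩ := ygen_one_eq p u hu χ (hchar hp)
    have hnil : IsNilpotent (z p K * c) := by
      refine ⟨p, ?_⟩
      rw [mul_pow, z_pow p K hp, zero_mul]
    have hunit : IsUnit ((1 + z p K * c) ^ i) := (hnil.isUnit_one_add).pow i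
    rw [hc, mul_pow] at h0
    have h1 : z p K ^ i = 0 := (hunit.mul_left_eq_zero).mp h0
    apply z_pow_pred_ne_zero p K hp
    have : p - 1 = i + (p - 1 - i) := by omega
    rw [this, pow_add, h1, zero_mul]
  · have hcard : Nat.card (G p) = p := by
      rw [Nat.card_eq_fintype_card, Fintype.card_multiplicative, ZMod.card]
    have : NeZero (Nat.card (G p) : K) := ⟨by rw [hcard]; exact hp⟩
    have : IsSemisimpleRing (A p K) := inferInstanceAs (IsSemisimpleModule (A p K) (A p K))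
    have h1 : OortTate.ygen K p u χ 1 = 0 := by
      by_cases hi0 : i = 0
      · subst hi0
        rw [pow_zero] at h0
        exact absurd h0 one_ne_zero
      · exact (pow_eq_zero_iff hi0).mp h0
    have h2 : (1 : K) • OortTate.ygen K p u χ 1 = 0 := by rw [h1, smul_zero]
    exact one_ne_zero (smul_ygen_eq_zero p u hu χ 1 1 h2)

end CharP

section Main

variable (p : ℕ) [Fact p.Prime] {R : Type u} [CommRing R] (u : R)
  (hu : u * ((p - 1 : ℕ) : R) = 1)
  (χ : (ZMod p)ˣ →* Rˣ) (hχ : ∀ m : (ZMod p)ˣ, m ≠ 1 → IsUnit ((χ m : R) - 1))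
  (hχp : ∀ m : (ZMod p)ˣ,
    ((χ m : Rˣ) : R) - (((m : ZMod p).val : ℕ) : R) ∈ Ideal.span ({(p : R)} : Set R))

include hu hχp in
/-- the constants `w_i` (`y_1^i = w_i y_i`, `i ≤ p - 1`) are units -/
theorem isUnit_of_pow_eq (i : ℕ) (hi : i ≤ p - 1) (w : R) (j : ℕ)
    (h : OortTate.ygen R p u χ 1 ^ i = w • OortTate.ygen R p u χ j) : IsUnit w := by
  by_contra hw
  obtain ⟨𝔪, hmax, hwm⟩ := exists_max_ideal_of_mem_nonunits (mem_nonunits_iff.mpr hw)
  let _ : Field (R ⧸ 𝔪) := Ideal.Quotient.field 𝔪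
  have hfw : Ideal.Quotient.mk 𝔪 w = 0 := Ideal.Quotient.eq_zero_iff_mem.mpr hwm
  have h1 := congrArg (F p (Ideal.Quotient.mk 𝔪)) h
  rw [map_pow, F_ygen, F_smul, hfw, zero_smul] at h1
  have hu' : (Ideal.Quotient.mk 𝔪 u) * ((p - 1 : ℕ) : R ⧸ 𝔪) = 1 := by
    rw [← map_natCast (Ideal.Quotient.mk 𝔪), ← map_mul, hu, map_one]
  have hchar : ((p : ℕ) : R ⧸ 𝔪) = 0 → ∀ m : (ZMod p)ˣ,
      ((chiMap p (Ideal.Quotient.mk 𝔪) χ m : (R ⧸ 𝔪)ˣ) : R ⧸ 𝔪) =
        (((m : ZMod p).val : ℕ) : R ⧸ 𝔪) := by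
    intro hp m
    rw [chiMap_apply]
    obtain ⟨a, ha⟩ := Ideal.mem_span_singleton'.mp (hχp m)
    have h2 := congrArg (Ideal.Quotient.mk 𝔪) ha
    rw [map_mul, map_natCast, hp, mul_zero, map_sub, map_natCast] at h2
    exact sub_eq_zero.mp h2.symm
  exact ygen_one_pow_ne_zero p (Ideal.Quotient.mk 𝔪 u) hu' (chiMap p (Ideal.Quotient.mk 𝔪) χ)
    hchar i hi h1

include hu hχ hχp in
theorem adjoin_ygen_one :
    Algebra.adjoin R ({OortTate.ygen R p u χ 1} : Set (A p R)) = ⊤ := by
  have h2 : 2 ≤ p := (Fact.out : p.Prime).two_le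
  have key : ∀ i, 1 ≤ i → i ≤ p - 1 →
      OortTate.ygen R p u χ i ∈ Algebra.adjoin R ({OortTate.ygen R p u χ 1} : Set (A p R)) := by
    intro i h1 hi
    obtain ⟨w, hw⟩ := exists_of_mem_eigenAug p u hu χ i _
      (pow_mem_eigenAug p χ _ (ygen_mem p u χ 1) i h1)
    obtain ⟨v, rfl⟩ := isUnit_of_pow_eq p u hu χ hχp i hi w i hw
    have h3 : OortTate.ygen R p u χ i = ((v⁻¹ : Rˣ) : R) • OortTate.ygen R p u χ 1 ^ i := by
      rw [hw, smul_smul, Units.inv_mul, one_smul]
    rw [h3]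
    exact Subalgebra.smul_mem _
      (Subalgebra.pow_mem _ (Algebra.subset_adjoin (Set.mem_singleton _)) i) _
  have key0 : ∀ i, i < p - 1 →
      OortTate.ygen R p u χ i ∈ Algebra.adjoin R ({OortTate.ygen R p u χ 1} : Set (A p R)) := by
    intro i hi
    by_cases hi0 : i = 0
    · subst hi0
      have : OortTate.ygen R p u χ 0 = OortTate.ygen R p u χ (p - 1) :=
        ygen_congr p u χ _ _ fun m => by rw [pow_zero, chi_pow_card]
      rw [this]
      exact key (p - 1) (by omega) le_rfl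
    · exact key i (by omega) hi.le
  have hT : ∀ k : ZMod p,
      T p R k ∈ Algebra.adjoin R ({OortTate.ygen R p u χ 1} : Set (A p R)) := by
    intro k
    by_cases hk : k = 0
    · subst hk
      rw [T_zero]
      exact Subalgebra.one_mem _
    · have h4 : T p R k = e p R (Units.mk0 k hk) + 1 := by
        unfold e
        rw [Units.val_mk0, sub_add_cancel]
      rw [h4]
      refine Subalgebra.add_mem _ ?_ (Subalgebra.one_mem _)
      rw [e_eq_sum p u hu χ hχ]
      exact Subalgebra.sum_mem _ fun i hi =>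
        Subalgebra.smul_mem _ (key0 i (Finset.mem_range.mp hi)) _
  rw [eq_top_iff]
  intro x _
  rw [sum_T_repr p R x]
  exact Subalgebra.sum_mem _ fun k _ => Subalgebra.smul_mem _ (hT k) _

include hu in
theorem existsUnique_w : ∃! w : R, OortTate.ygen R p u χ 1 ^ p = w • OortTate.ygen R p u χ 1 := by
  have hpr : p.Prime := Fact.out
  have hmem : OortTate.ygen R p u χ 1 ^ p ∈ OortTate.eigenAug R (A p R) p χ 1 := by
    have h1 := pow_mem_eigenAug p χ _ (ygen_mem p u χ 1) p hpr.one_le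
    have h2 : OortTate.eigenAug R (A p R) p χ p = OortTate.eigenAug R (A p R) p χ 1 := by
      refine eigenAug_congr p χ _ _ fun m => ?_
      have h3 := chi_pow_add_card p χ m 1
      have h4 : 1 + (p - 1) = p := by have := hpr.one_le; omega
      rwa [h4] at h3
    rwa [h2] at h1
  obtain ⟨w, hw⟩ := exists_of_mem_eigenAug p u hu χ 1 _ hmem
  refine ⟨w, hw, fun w' hw' => ?_⟩
  have h3 : (w' - w) • OortTate.ygen R p u χ 1 = 0 := by
    rw [sub_smul, ← hw, ← hw', sub_self]
  exact sub_eq_zero.mp (smul_ygen_eq_zero p u hu χ 1 _ h3)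

end Main

end Groth.Agent.Lib.Seat90.OTMuP
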