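import Mathlib.FieldTheory.Finite.Basic
import Mathlib.GroupTheory.SpecificGroups.Cyclic
import Mathlib.Algebra.Ring.GeomSum
import Mathlib.RingTheory.RootsOfUnity.Basic
import Mathlib.Algebra.Module.LinearMap.Basic
import Mathlib.Algebra.Module.Submodule.Ker
import Mathlib.LinearAlgebra.Span.Basic

/-!
# Character sums for a character `χ : (ZMod p)ˣ →* Rˣ` with `χ m - 1` a unit for `m ≠ 1`,
and the averaging idempotents for an `R`-linear action of `(ZMod p)ˣ` on a module.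
-/

set_option autoImplicit false
universe u v

namespace Groth.Agent.Lib.Seat90.OTChar

open Finset

section Char

variable (p : ℕ) [Fact p.Prime] {R : Type u} [CommRing R]
  (χ : (ZMod p)ˣ →* Rˣ)

theorem chi_pow_card (m : (ZMod p)ˣ) : ((χ m : Rˣ) : R) ^ (p - 1) = 1 := by
  have h : (χ m) ^ (p - 1) = 1 := by
    rw [← map_pow, ZMod.units_pow_card_sub_one_eq_one, map_one]
  have := congrArg (fun x : Rˣ => (x : R)) h
  simpa using this

theorem chi_inv_mul (m : (ZMod p)ˣ) : ((χ m⁻¹ : Rˣ) : R) * ((χ m : Rˣ) : R) = 1 := by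
  rw [← Units.val_mul, ← map_mul, inv_mul_cancel, map_one, Units.val_one]

theorem chi_mul_inv (m : (ZMod p)ˣ) : ((χ m : Rˣ) : R) * ((χ m⁻¹ : Rˣ) : R) = 1 := by
  rw [mul_comm, chi_inv_mul]

theorem chi_mul (m n : (ZMod p)ˣ) : ((χ (m * n) : Rˣ) : R) = ((χ m : Rˣ) : R) * ((χ n : Rˣ) : R) := by
  rw [map_mul, Units.val_mul]

theorem chi_one : ((χ 1 : Rˣ) : R) = 1 := by rw [map_one, Units.val_one]

variable (hχ : ∀ m : (ZMod p)ˣ, m ≠ 1 → IsUnit ((χ m : R) - 1))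
include hχ

/-- Orthogonality: `∑ m, χ(m)^j = 0` unless `(p-1) ∣ j`. -/
theorem sum_chi_pow_eq_zero (j : ℕ) (hj : ¬ (p - 1) ∣ j) :
    ∑ m : (ZMod p)ˣ, ((χ m : Rˣ) : R) ^ j = 0 := by
  obtain ⟨g, hg⟩ := IsCyclic.exists_generator (α := (ZMod p)ˣ)
  have hord : orderOf g = p - 1 := by
    rw [orderOf_eq_card_of_forall_mem_zpowers hg, Nat.card_eq_fintype_card, ZMod.card_units]
  have hgj : g ^ j ≠ 1 := by
    intro h
    exact hj (hord ▸ orderOf_dvd_of_pow_eq_one h)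
  have hunit := hχ (g ^ j) hgj
  have hre : ∑ m : (ZMod p)ˣ, ((χ m : Rˣ) : R) ^ j =
      ((χ (g ^ j) : Rˣ) : R) * ∑ m : (ZMod p)ˣ, ((χ m : Rˣ) : R) ^ j := by
    rw [Finset.mul_sum]
    rw [← Equiv.sum_comp (Equiv.mulLeft g) (fun m => ((χ m : Rˣ) : R) ^ j)]
    refine Finset.sum_congr rfl fun m _ => ?_
    simp only [Equiv.coe_mulLeft]
    rw [chi_mul, mul_pow, map_pow, Units.val_pow_eq_pow_val]
  have h0 : (((χ (g ^ j) : Rˣ) : R) - 1) * ∑ m : (ZMod p)ˣ, ((χ m : Rˣ) : R) ^ j = 0 := by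
    rw [sub_mul, one_mul, ← hre, sub_self]
  exact (hunit.mul_right_eq_zero).1 h0

/-- `∑_{i<p-1} χ(m)^i = 0` for `m ≠ 1`. -/
theorem sum_range_chi_pow (m : (ZMod p)ˣ) (hm : m ≠ 1) :
    ∑ i ∈ range (p - 1), ((χ m : Rˣ) : R) ^ i = 0 := by
  have h := mul_geom_sum ((χ m : Rˣ) : R) (p - 1)
  rw [chi_pow_card, sub_self] at h
  exact ((hχ m hm).mul_right_eq_zero).1 h

end Char

section Action

variable (p : ℕ) [Fact p.Prime] {R : Type u} [CommRing R] (u : R)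
  (hu : u * ((p - 1 : ℕ) : R) = 1)
  (χ : (ZMod p)ˣ →* Rˣ)
  {V : Type v} [AddCommGroup V] [Module R V]
  (L : (ZMod p)ˣ → (V →ₗ[R] V)) (hL1 : L 1 = LinearMap.id)
  (hLmul : ∀ m n, L (m * n) = (L m).comp (L n))

/-- The averaging operator `u • ∑ m, χ(m⁻¹)^i • L m`. -/
noncomputable def avg (i : ℕ) : V →ₗ[R] V :=
  u • ∑ m : (ZMod p)ˣ, (((χ m⁻¹ : Rˣ) : R) ^ i) • L m

theorem avg_apply (i : ℕ) (f : V) :
    avg p u χ L i f = u • ∑ m : (ZMod p)ˣ, (((χ m⁻¹ : Rˣ) : R) ^ i) • L m f := by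
  simp [avg, LinearMap.sum_apply]

include hLmul in
/-- `L n ∘ e_i = χ(n)^i • e_i`. -/
theorem L_avg (i : ℕ) (n : (ZMod p)ˣ) (f : V) :
    L n (avg p u χ L i f) = (((χ n : Rˣ) : R) ^ i) • avg p u χ L i f := by
  have key : L n (∑ m : (ZMod p)ˣ, (((χ m⁻¹ : Rˣ) : R) ^ i) • L m f) =
      (((χ n : Rˣ) : R) ^ i) • ∑ m : (ZMod p)ˣ, (((χ m⁻¹ : Rˣ) : R) ^ i) • L m f := by
    rw [map_sum, Finset.smul_sum]
    rw [← Equiv.sum_comp (Equiv.mulLeft n)
      (fun m => ((χ n : Rˣ) : R) ^ i • ((χ m⁻¹ : Rˣ) : R) ^ i • (L m) f)]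
    refine Finset.sum_congr rfl fun m _ => ?_
    simp only [Equiv.coe_mulLeft]
    rw [map_smul, hLmul, LinearMap.comp_apply, smul_smul, ← mul_pow, mul_inv_rev, chi_mul,
      ← mul_assoc, mul_comm ((χ n : Rˣ) : R), mul_assoc, chi_mul_inv, mul_one]
  rw [avg_apply, map_smul, key, smul_comm]

include hu in
/-- On the `χ^i`-eigenvectors `e_i` is the identity. -/
theorem avg_of_eigen (i : ℕ) (f : V) (hf : ∀ m, L m f = (((χ m : Rˣ) : R) ^ i) • f) :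
    avg p u χ L i f = f := by
  rw [avg_apply]
  have : ∀ m : (ZMod p)ˣ, (((χ m⁻¹ : Rˣ) : R) ^ i) • L m f = f := by
    intro m
    rw [hf m, smul_smul, ← mul_pow, chi_inv_mul, one_pow, one_smul]
  rw [Finset.sum_congr rfl (fun m _ => this m), Finset.sum_const, Finset.card_univ, ZMod.card_units,
    ← Nat.cast_smul_eq_nsmul R, smul_smul, hu, one_smul]

variable (hχ : ∀ m : (ZMod p)ˣ, m ≠ 1 → IsUnit ((χ m : R) - 1))

include hχ in
/-- On `χ^j`-eigenvectors, `e_i` vanishes when `i ≢ j` mod `p-1`. -/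
theorem avg_of_eigen_ne (i j : ℕ) (hij : ¬ (p - 1) ∣ (j + (p - 2) * i)) (f : V)
    (hf : ∀ m, L m f = (((χ m : Rˣ) : R) ^ j) • f) :
    avg p u χ L i f = 0 := by
  rw [avg_apply]
  have hinv : ∀ m : (ZMod p)ˣ, ((χ m⁻¹ : Rˣ) : R) = ((χ m : Rˣ) : R) ^ (p - 2) := by
    intro m
    have h2 : 2 ≤ p := (Fact.out : p.Prime).two_le
    have h1 : ((χ m : Rˣ) : R) ^ (p - 2) * ((χ m : Rˣ) : R) = 1 := by
      rw [← pow_succ]
      have : p - 2 + 1 = p - 1 := by omega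
      rw [this, chi_pow_card]
    calc ((χ m⁻¹ : Rˣ) : R) = ((χ m : Rˣ) : R) ^ (p - 2) * ((χ m : Rˣ) : R) * ((χ m⁻¹ : Rˣ) : R) := by
          rw [h1, one_mul]
      _ = ((χ m : Rˣ) : R) ^ (p - 2) := by rw [mul_assoc, chi_mul_inv, mul_one]
  have : ∀ m : (ZMod p)ˣ, (((χ m⁻¹ : Rˣ) : R) ^ i) • L m f =
      (((χ m : Rˣ) : R) ^ (j + (p - 2) * i)) • f := by
    intro m
    rw [hf m, smul_smul, hinv, ← pow_mul, ← pow_add, add_comm]
  rw [Finset.sum_congr rfl (fun m _ => this m), ← Finset.sum_smul,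
    sum_chi_pow_eq_zero p χ hχ _ hij, zero_smul, smul_zero]

include hu hL1 hχ in
/-- The `e_i`, `i < p - 1`, sum to the identity. -/
theorem sum_avg (f : V) : ∑ i ∈ range (p - 1), avg p u χ L i f = f := by
  simp only [avg_apply]
  rw [← Finset.smul_sum, Finset.sum_comm]
  have : ∀ m : (ZMod p)ˣ, ∑ i ∈ range (p - 1), (((χ m⁻¹ : Rˣ) : R) ^ i) • L m f =
      if m = 1 then ((p - 1 : ℕ) : R) • f else 0 := by
    intro m
    rw [← Finset.sum_smul]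
    split_ifs with hm
    · subst hm
      simp [hL1]
    · have hm' : m⁻¹ ≠ 1 := by simpa using hm
      rw [sum_range_chi_pow p χ hχ _ hm', zero_smul]
  rw [Finset.sum_congr rfl (fun m _ => this m), Finset.sum_ite_eq' Finset.univ (1 : (ZMod p)ˣ)]
  simp only [Finset.mem_univ, if_true]
  rw [smul_smul, hu, one_smul]

end Action

end Groth.Agent.Lib.Seat90.OTChar
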