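import Groth.Prelude.Def_W4c5ffgsreadingcourseOT
import Groth.Agent.Lib.Seat90OTChar

/-!
# The power maps `[m]` of a commutative Hopf algebra killed by `p` as an action of `(ZMod p)ˣ`
-/

set_option autoImplicit false
universe u

namespace Groth.Agent.Lib.Seat90.OTHopf

open WithConv

variable (R : Type u) [CommRing R] (A : Type u) [CommRing A] [HopfAlgebra R A]

theorem powConv_zero : SGA3b.powConv R A 0 = (Algebra.ofId R A).comp (Bialgebra.counitAlgHom R A) := by
  unfold SGA3b.powConv
  rw [pow_zero]; rfl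

theorem powConv_one : SGA3b.powConv R A 1 = AlgHom.id R A := by
  unfold SGA3b.powConv
  rw [pow_one]

theorem powConv_succ (n : ℕ) :
    SGA3b.powConv R A (n + 1) =
      ofConv (toConv (SGA3b.powConv R A n) * toConv (AlgHom.id R A)) := by
  unfold SGA3b.powConv
  rw [pow_succ, toConv_ofConv]

/-- composition of power maps -/
theorem powConv_comp (a b : ℕ) :
    (SGA3b.powConv R A a).comp (SGA3b.powConv R A b) = SGA3b.powConv R A (a * b) := by
  induction b with
  | zero =>
    rw [Nat.mul_zero, powConv_zero]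
    ext x
    simp [Algebra.ofId_apply]
  | succ b ih =>
    rw [powConv_succ, AlgHom.comp_convMul_distrib, toConv_ofConv, ih, AlgHom.comp_id]
    unfold SGA3b.powConv
    rw [toConv_ofConv, toConv_ofConv, ← pow_add, Nat.mul_succ]

/-- the counit is invariant under the power maps -/
theorem counit_comp_powConv (a : ℕ) :
    (Bialgebra.counitAlgHom R A).comp (SGA3b.powConv R A a) = Bialgebra.counitAlgHom R A := by
  induction a with
  | zero =>
    rw [powConv_zero]
    ext x
    simp [Algebra.ofId_apply]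
  | succ a ih =>
    rw [powConv_succ, AlgHom.comp_convMul_distrib, toConv_ofConv, ih, AlgHom.comp_id]
    have h1 : toConv (Bialgebra.counitAlgHom R A) = (1 : WithConv (A →ₐ[R] R)) := by
      rw [AlgHom.convOne_def]
      congr 1
    rw [h1, one_mul, ← h1, ofConv_toConv]

theorem counit_powConv (a : ℕ) (x : A) :
    Coalgebra.counit (R := R) (SGA3b.powConv R A a x) = Coalgebra.counit (R := R) x := by
  have := congrArg (fun f : A →ₐ[R] R => f x) (counit_comp_powConv R A a)
  simpa using this

variable {R A}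

theorem powConv_mod (p : ℕ) (hp : (WithConv.toConv (AlgHom.id R A)) ^ p = 1) (a : ℕ) :
    SGA3b.powConv R A a = SGA3b.powConv R A (a % p) := by
  unfold SGA3b.powConv
  rw [pow_eq_pow_mod a hp]

/-- the linear action of `(ZMod p)ˣ` on `A` by power maps -/
noncomputable def Lact (p : ℕ) (m : (ZMod p)ˣ) : A →ₗ[R] A :=
  (SGA3b.powConv R A (m : ZMod p).val).toLinearMap

theorem Lact_one (p : ℕ) [Fact p.Prime] : Lact (R := R) (A := A) p 1 = LinearMap.id := by
  unfold Lact
  have : ((1 : (ZMod p)ˣ) : ZMod p).val = 1 := by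
    rw [Units.val_one]
    exact ZMod.val_one p
  rw [this, powConv_one]; rfl

theorem Lact_mul (p : ℕ) [Fact p.Prime] (hp : (WithConv.toConv (AlgHom.id R A)) ^ p = 1)
    (m n : (ZMod p)ˣ) :
    Lact (R := R) (A := A) p (m * n) = (Lact (R := R) (A := A) p m).comp (Lact (R := R) (A := A) p n) := by
  unfold Lact
  rw [← AlgHom.comp_toLinearMap, powConv_comp, Units.val_mul, ZMod.val_mul, ← powConv_mod p hp]

theorem counit_Lact (p : ℕ) (m : (ZMod p)ˣ) (x : A) :
    Coalgebra.counit (R := R) (Lact (R := R) p m x) = Coalgebra.counit (R := R) x :=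
  counit_powConv R A _ x

theorem proj_eq_avg (p : ℕ) [Fact p.Prime] (u : R) (χ : (ZMod p)ˣ →* Rˣ) (i : ℕ) :
    OortTate.proj R A p u χ i = OTChar.avg p u χ (Lact (R := R) (A := A) p) i := rfl

theorem mem_eigenAug (p : ℕ) (χ : (ZMod p)ˣ →* Rˣ) (i : ℕ) (f : A) :
    f ∈ OortTate.eigenAug R A p χ i ↔
      Coalgebra.counit (R := R) f = 0 ∧ ∀ m : (ZMod p)ˣ, Lact (R := R) (A := A) p m f = (((χ m : Rˣ) : R) ^ i) • f := by
  unfold OortTate.eigenAug Lact
  simp only [Submodule.mem_inf, LinearMap.mem_ker, Submodule.mem_iInf, Module.End.mem_eigenspace_iff]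
  rfl

end Groth.Agent.Lib.Seat90.OTHopf
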