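import Groth.Agent.Lib.Seat77OTc
import Groth.Agent.Lib.Seat90OTMuP
import Groth.Agent.S18468

/-!
# Seat77 OTe: the eigenspaces `I_i` of a group of prime order over an algebraically closed field

For a Hopf algebra `A` of prime dimension `p` over an algebraically closed field `K` (with the
Oort–Tate data `u`, `χ`): each `I_i = eigenAug K A p χ i` is one-dimensional and `I_1 ^ t = I_t`
for `1 ≤ t ≤ p - 1`.
-/

set_option autoImplicit false
set_option linter.style.haveILetI false

namespace Groth.Agent.Lib.Seat77.OTe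

open TensorProduct WithConv HopfRep Groth.Agent.Lib.Helper25 Groth.Agent.Lib.Helper25.UL
  Groth.Agent.Lib.Helper25.FinHopf Groth.Agent.Lib.Seat90

universe u

section PowConv

variable {K : Type u} [Field K] {A : Type u} [CommRing A] [HopfAlgebra K A]

theorem powConv_apply_eq (n : ℕ) (a : A) :
    SGA3b.powConv K A n a = ((toConv (LinearMap.id : A →ₗ[K] A)) ^ n : WithConv (A →ₗ[K] A)) a := by
  have h := AlgHom.toLinearMap_convPow (toConv (AlgHom.id K A)) n
  have h2 := congrArg (fun F : WithConv (A →ₗ[K] A) => F a) h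
  exact h2

/-- `[n] f ≡ n f` modulo the square of the augmentation ideal. -/
theorem powConv_sub_nsmul_mem (n : ℕ) (f : A) (hf : f ∈ augI K A) :
    SGA3b.powConv K A n f - n • f ∈ augI K A ^ 2 := by
  set idc : WithConv (A →ₗ[K] A) := toConv LinearMap.id with hidc
  set w : WithConv (A →ₗ[K] A) := idc - 1 with hw
  have hw_mem : ∀ a, w a ∈ augI K A := by
    intro a
    change Bialgebra.counitAlgHom K A (a - algebraMap K A (CoalgebraStruct.counit (R := K) a)) = 0
    rw [map_sub, AlgHom.commutes, Bialgebra.counitAlgHom_apply]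
    simp
  have hwf : w f = f := by
    change f - algebraMap K A (CoalgebraStruct.counit (R := K) f) = f
    have : CoalgebraStruct.counit (R := K) f = 0 := hf
    rw [this, map_zero, sub_zero]
  induction n with
  | zero =>
    rw [zero_smul, sub_zero, powConv_apply_eq, pow_zero, LinearMap.convOne_apply]
    have : CoalgebraStruct.counit (R := K) f = 0 := hf
    rw [this, map_zero]
    exact Ideal.zero_mem _
  | succ n ih =>
    set v : WithConv (A →ₗ[K] A) := idc ^ n - 1 with hv
    have hv_mem : ∀ a, v a ∈ augI K A := by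
      intro a
      change Bialgebra.counitAlgHom K A ((idc ^ n) a -
        algebraMap K A (CoalgebraStruct.counit (R := K) a)) = 0
      rw [map_sub, AlgHom.commutes, Bialgebra.counitAlgHom_apply, ← powConv_apply_eq,
        OTHopf.counit_powConv]
      simp
    have h1 : idc ^ (n + 1) = idc ^ n + w + v * w := by
      rw [hv, hw, pow_succ]
      noncomm_ring
    have h2 : (idc ^ (n + 1)) f = (idc ^ n) f + f + (v * w) f := by
      rw [h1]
      change (idc ^ n) f + w f + (v * w) f = _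
      rw [hwf]
    have h3 : (v * w) f ∈ augI K A ^ 2 := by
      rw [pow_two]
      exact convMul_apply_mem v w _ _ hv_mem hw_mem f
    rw [powConv_apply_eq, h2, succ_nsmul]
    rw [powConv_apply_eq] at ih
    have : (idc ^ n) f + f + (v * w) f - (n • f + f) = ((idc ^ n) f - n • f) + (v * w) f := by abel
    rw [this]
    exact Ideal.add_mem _ ih h3

/-- On `(x ^ j)`, the power map `[n]` is multiplication by `n ^ j` modulo `(x ^ (j + 1))`, when
`x` generates the augmentation ideal. -/
theorem powConv_sub_pow_smul_mem (x : A) (hgen : augI K A = Ideal.span {x}) (n j : ℕ) (a : A)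
    (ha : a ∈ Ideal.span {x ^ j}) :
    SGA3b.powConv K A n a - ((n : K) ^ j) • a ∈ Ideal.span {x ^ (j + 1)} := by
  set g := SGA3b.powConv K A n with hg
  obtain ⟨b, rfl⟩ := Ideal.mem_span_singleton'.mp ha
  have hx : x ∈ augI K A := by rw [hgen]; exact Ideal.subset_span rfl
  have h1 := powConv_sub_nsmul_mem n x hx
  rw [hgen, Ideal.span_singleton_pow] at h1
  obtain ⟨r, hr⟩ := Ideal.mem_span_singleton'.mp h1
  have hgx : g x = x * ((n : A) + x * r) := by
    have : g x = n • x + r * x ^ 2 := by rw [hr]; abel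
    rw [this, nsmul_eq_mul]; ring
  obtain ⟨s, hs⟩ : ∃ s, ((n : A) + x * r) ^ j = (n : A) ^ j + x * s := by
    obtain ⟨c, hc⟩ := sub_dvd_pow_sub_pow ((n : A) + x * r) (n : A) j
    refine ⟨r * c, ?_⟩
    have : ((n : A) + x * r) ^ j = (n : A) ^ j + ((n : A) + x * r - n) * c := by rw [← hc]; ring
    rw [this]; ring
  obtain ⟨s', hs'⟩ : ∃ s', g b = b + x * s' := by
    have hb : g b - b ∈ augI K A := by
      change Bialgebra.counitAlgHom K A (g b - b) = 0
      rw [map_sub, Bialgebra.counitAlgHom_apply, Bialgebra.counitAlgHom_apply, hg,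
        OTHopf.counit_powConv, sub_self]
    rw [hgen] at hb
    obtain ⟨c, hc⟩ := Ideal.mem_span_singleton'.mp hb
    exact ⟨c, by rw [mul_comm, hc]; ring⟩
  have hga : g (b * x ^ j) = (b + x * s') * (x ^ j * ((n : A) ^ j + x * s)) := by
    rw [map_mul, map_pow, hgx, mul_pow, hs, hs']
  rw [hga, Algebra.smul_def, map_pow, map_natCast]
  refine Ideal.mem_span_singleton'.mpr ⟨b * s + s' * (n : A) ^ j + x * s' * s, ?_⟩
  ring

end PowConv

section Arith

/-- The representative in `[1, n]` of the class of `i` modulo `n`. -/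
def j0 (n i : ℕ) : ℕ := if i % n = 0 then n else i % n

theorem j0_pos {n : ℕ} (hn : 0 < n) (i : ℕ) : 1 ≤ j0 n i := by
  unfold j0
  split_ifs with h
  · exact hn
  · exact Nat.one_le_iff_ne_zero.mpr h

theorem j0_le {n : ℕ} (hn : 0 < n) (i : ℕ) : j0 n i ≤ n := by
  unfold j0
  split_ifs with h
  · exact le_rfl
  · exact (Nat.mod_lt i hn).le

theorem not_modEq_of_lt_j0 {n : ℕ} (hn : 0 < n) (i l : ℕ) (h1 : 1 ≤ l) (h2 : l < j0 n i) :
    ¬ l ≡ i [MOD n] := by
  unfold j0 at h2
  unfold Nat.ModEq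
  split_ifs at h2 with h
  · rw [h, Nat.mod_eq_of_lt h2]; omega
  · have : l < n := lt_trans h2 (Nat.mod_lt i hn)
    rw [Nat.mod_eq_of_lt this]; omega

theorem not_modEq_of_j0_lt {n : ℕ} (_hn : 0 < n) (i l : ℕ) (h1 : j0 n i < l) (h2 : l ≤ n) :
    ¬ l ≡ i [MOD n] := by
  unfold j0 at h1
  unfold Nat.ModEq
  split_ifs at h1 with h
  · omega
  · rcases lt_or_eq_of_le h2 with h3 | h3
    · rw [Nat.mod_eq_of_lt h3]; omega
    · rw [h3, Nat.mod_self]; exact fun h' => h h'.symm

theorem j0_one {n : ℕ} (hn : 0 < n) : j0 n 1 = 1 := by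
  unfold j0
  rcases Nat.lt_or_ge 1 n with h | h
  · rw [Nat.mod_eq_of_lt h]; simp
  · have : n = 1 := by omega
    subst this; simp

theorem j0_self_of_le {n : ℕ} (t : ℕ) (h1 : 1 ≤ t) (h2 : t ≤ n) : j0 n t = t := by
  unfold j0
  rcases lt_or_eq_of_le h2 with h | h
  · rw [Nat.mod_eq_of_lt h, if_neg (by omega)]
  · rw [h, Nat.mod_self, if_pos rfl]

end Arith

section LocalCase

variable {K : Type u} [Field K] {A : Type u} [CommRing A] [HopfAlgebra K A]
  (p : ℕ) [hp : Fact p.Prime] [CharP K p] (χ : (ZMod p)ˣ →* Kˣ)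
  (hχp : ∀ m : (ZMod p)ˣ, ((χ m : Kˣ) : K) - (((m : ZMod p).val : ℕ) : K) ∈
    Ideal.span ({(p : K)} : Set K))

include hχp in
theorem chi_eq_val (m : (ZMod p)ˣ) : ((χ m : Kˣ) : K) = (((m : ZMod p).val : ℕ) : K) := by
  have h := hχp m
  rw [CharP.cast_eq_zero K p, Ideal.span_singleton_eq_bot.mpr rfl, Ideal.mem_bot, sub_eq_zero] at h
  exact h

omit [HopfAlgebra K A] in
theorem val_pow_sub_ne_zero (m : (ZMod p)ˣ) (hm : ∀ y, y ∈ Subgroup.zpowers m) (i j : ℕ)
    (hij : ¬ j ≡ i [MOD p - 1]) :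
    (((m : ZMod p).val : ℕ) : K) ^ i - (((m : ZMod p).val : ℕ) : K) ^ j ≠ 0 := by
  intro h0
  rw [sub_eq_zero] at h0
  have hcast : (((m : ZMod p).val : ℕ) : K) = ZMod.castHom (dvd_refl p) K (m : ZMod p) := by
    rw [ZMod.castHom_apply, ZMod.natCast_val]
  rw [hcast, ← map_pow, ← map_pow] at h0
  have h1 := (ZMod.castHom (dvd_refl p) K).injective h0
  have h2 : m ^ i = m ^ j := Units.ext (by rw [Units.val_pow_eq_pow_val, Units.val_pow_eq_pow_val, h1])
  rw [pow_eq_pow_iff_modEq] at h2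
  have hord : orderOf m = p - 1 := by
    rw [orderOf_eq_card_of_forall_mem_zpowers hm, Nat.card_eq_fintype_card, ZMod.card_units_eq_totient,
      Nat.totient_prime hp.out]
  rw [hord] at h2
  exact hij h2.symm

include hχp in
theorem mem_span_succ_of_eigen (x : A) (hgen : augI K A = Ideal.span {x}) (i j : ℕ) (f : A)
    (hf : f ∈ OortTate.eigenAug K A p χ i) (hfj : f ∈ Ideal.span {x ^ j})
    (hij : ¬ j ≡ i [MOD p - 1]) : f ∈ Ideal.span {x ^ (j + 1)} := by
  obtain ⟨m, hm⟩ := IsCyclic.exists_generator (α := (ZMod p)ˣ)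
  have h1 := ((OTHopf.mem_eigenAug p χ i f).mp hf).2 m
  unfold OTHopf.Lact at h1
  rw [AlgHom.toLinearMap_apply, chi_eq_val p χ hχp] at h1
  have h2 := powConv_sub_pow_smul_mem x hgen (m : ZMod p).val j f hfj
  rw [h1, ← sub_smul] at h2
  have hc := val_pow_sub_ne_zero (K := K) p m hm i j hij
  have h3 := Submodule.smul_of_tower_mem (Ideal.span {x ^ (j + 1)})
    ((((m : ZMod p).val : ℕ) : K) ^ i - (((m : ZMod p).val : ℕ) : K) ^ j)⁻¹ h2
  rwa [smul_smul, inv_mul_cancel₀ hc, one_smul] at h3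

include hχp in
theorem climb (x : A) (hgen : augI K A = Ideal.span {x}) (i : ℕ) (f : A)
    (hf : f ∈ OortTate.eigenAug K A p χ i) (a b : ℕ) (hab : a ≤ b)
    (hno : ∀ l, a ≤ l → l < b → ¬ l ≡ i [MOD p - 1]) (hfa : f ∈ Ideal.span {x ^ a}) :
    f ∈ Ideal.span {x ^ b} := by
  induction b, hab using Nat.le_induction with
  | base => exact hfa
  | succ b hab ih =>
    have h1 := ih (fun l hl hlb => hno l hl (Nat.lt_succ_of_lt hlb))
    exact mem_span_succ_of_eigen p χ hχp x hgen i b f hf h1 (hno b hab (Nat.lt_succ_self b))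

include hχp in
theorem eigen_mem_j0 (x : A) (hgen : augI K A = Ideal.span {x}) (i : ℕ) (f : A)
    (hf : f ∈ OortTate.eigenAug K A p χ i) : f ∈ Ideal.span {x ^ j0 (p - 1) i} := by
  have hn : 0 < p - 1 := Nat.sub_pos_of_lt hp.out.one_lt
  have h1 : f ∈ Ideal.span {x ^ 1} := by
    rw [pow_one, ← hgen]
    exact ((OTHopf.mem_eigenAug p χ i f).mp hf).1
  exact climb p χ hχp x hgen i f hf 1 _ (j0_pos hn i)
    (fun l hl hlj => not_modEq_of_lt_j0 hn i l hl hlj) h1

include hχp in
theorem eigen_eq_zero_of_mem_succ (x : A) (hgen : augI K A = Ideal.span {x}) (hxp : x ^ p = 0)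
    (i : ℕ) (f : A) (hf : f ∈ OortTate.eigenAug K A p χ i)
    (hfj : f ∈ Ideal.span {x ^ (j0 (p - 1) i + 1)}) : f = 0 := by
  have hn : 0 < p - 1 := Nat.sub_pos_of_lt hp.out.one_lt
  have hle : j0 (p - 1) i + 1 ≤ p := by have := j0_le hn i; omega
  have h1 := climb p χ hχp x hgen i f hf _ p hle
    (fun l hl hlp => not_modEq_of_j0_lt hn i l (by omega) (by omega)) hfj
  rw [hxp, Ideal.span_singleton_eq_bot.mpr rfl, Ideal.mem_bot] at h1
  exact h1

omit [CharP K p] hp in
theorem exists_sub_smul_mem (x : A) (hgen : augI K A = Ideal.span {x}) (j : ℕ) (a : A)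
    (ha : a ∈ Ideal.span {x ^ j}) : ∃ c : K, a - c • x ^ j ∈ Ideal.span {x ^ (j + 1)} := by
  obtain ⟨b, rfl⟩ := Ideal.mem_span_singleton'.mp ha
  obtain ⟨c, hc⟩ : ∃ c : K, c = CoalgebraStruct.counit (R := K) b := ⟨_, rfl⟩
  refine ⟨c, ?_⟩
  have hb : b - algebraMap K A c ∈ augI K A := by
    change Bialgebra.counitAlgHom K A _ = 0
    rw [map_sub, AlgHom.commutes, Bialgebra.counitAlgHom_apply, hc]
    simp
  rw [hgen] at hb
  obtain ⟨s, hs⟩ := Ideal.mem_span_singleton'.mp hb
  refine Ideal.mem_span_singleton'.mpr ⟨s, ?_⟩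
  rw [Algebra.smul_def, pow_succ]
  have : b = algebraMap K A c + s * x := by rw [hs]; ring
  rw [this]
  ring

include hχp in
theorem eigen_proportional (x : A) (hgen : augI K A = Ideal.span {x}) (hxp : x ^ p = 0)
    (i : ℕ) (f f' : A) (hf : f ∈ OortTate.eigenAug K A p χ i)
    (hf' : f' ∈ OortTate.eigenAug K A p χ i) (hf0 : f ≠ 0) : ∃ c : K, c • f = f' := by
  obtain ⟨c, hc⟩ := exists_sub_smul_mem x hgen _ f (eigen_mem_j0 p χ hχp x hgen i f hf)
  obtain ⟨c', hc'⟩ := exists_sub_smul_mem x hgen _ f' (eigen_mem_j0 p χ hχp x hgen i f' hf')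
  have hc0 : c ≠ 0 := by
    intro h0
    rw [h0, zero_smul, sub_zero] at hc
    exact hf0 (eigen_eq_zero_of_mem_succ p χ hχp x hgen hxp i f hf hc)
  have h1 : c' • f - c • f' ∈ OortTate.eigenAug K A p χ i :=
    Submodule.sub_mem _ (Submodule.smul_mem _ _ hf) (Submodule.smul_mem _ _ hf')
  have h2 : c' • f - c • f' ∈ Ideal.span {x ^ (j0 (p - 1) i + 1)} := by
    have : c' • f - c • f' = c' • (f - c • x ^ j0 (p - 1) i) - c • (f' - c' • x ^ j0 (p - 1) i) := by
      rw [smul_sub, smul_sub, smul_smul, smul_smul, mul_comm c c']; abel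
    rw [this]
    exact Ideal.sub_mem _ (Submodule.smul_of_tower_mem _ _ hc) (Submodule.smul_of_tower_mem _ _ hc')
  have h3 := eigen_eq_zero_of_mem_succ p χ hχp x hgen hxp i _ h1 h2
  refine ⟨c⁻¹ * c', ?_⟩
  rw [sub_eq_zero] at h3
  rw [mul_smul, h3, smul_smul, inv_mul_cancel₀ hc0, one_smul]

omit [CharP K p] hp in
theorem pow_sub_pow_mem (I : Ideal A) (a b : A) (ha : a ∈ I) (hb : b ∈ I) (hab : a - b ∈ I ^ 2)
    (t : ℕ) (ht : 1 ≤ t) : a ^ t - b ^ t ∈ I ^ (t + 1) := by
  rw [← geom_sum₂_mul]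
  have h1 : ∑ i ∈ Finset.range t, a ^ i * b ^ (t - 1 - i) ∈ I ^ (t - 1) := by
    refine Ideal.sum_mem _ (fun i hi => ?_)
    have hi' : i < t := Finset.mem_range.mp hi
    have h := Ideal.mul_mem_mul (Ideal.pow_mem_pow ha i) (Ideal.pow_mem_pow hb (t - 1 - i))
    rw [← pow_add] at h
    have : i + (t - 1 - i) = t - 1 := by omega
    rwa [this] at h
  have h2 : t + 1 = (t - 1) + 2 := by omega
  rw [h2, pow_add]
  exact Ideal.mul_mem_mul h1 hab

include hχp in
/-- In the infinitesimal case a nonzero element of `I_1` has nonzero `t`-th power for `t < p`. -/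
theorem pow_ne_zero_of_local (x : A) (hgen : augI K A = Ideal.span {x}) (hxp : x ^ p = 0)
    (E : Derivation K A A) (hEx : Bialgebra.counitAlgHom K A (E x) = 1)
    (f : A) (hf : f ∈ OortTate.eigenAug K A p χ 1) (hf0 : f ≠ 0) (t : ℕ) (ht1 : 1 ≤ t)
    (htp : t < p) : f ^ t ≠ 0 := by
  have hn : 0 < p - 1 := Nat.sub_pos_of_lt hp.out.one_lt
  have h1 := eigen_mem_j0 p χ hχp x hgen 1 f hf
  rw [j0_one hn] at h1
  obtain ⟨c, hc⟩ := exists_sub_smul_mem x hgen 1 f h1
  have hc0 : c ≠ 0 := by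
    intro h0
    rw [h0, zero_smul, sub_zero] at hc
    apply hf0
    apply eigen_eq_zero_of_mem_succ p χ hχp x hgen hxp 1 f hf
    rw [j0_one hn]
    exact hc
  rw [pow_one] at hc h1
  have hker : RingHom.ker (Bialgebra.counitAlgHom K A) = Ideal.span {x} := hgen
  have hcx : c • x ∈ Ideal.span {x} := Submodule.smul_of_tower_mem _ _ (Ideal.subset_span rfl)
  have hsq : f - c • x ∈ Ideal.span {x} ^ 2 := by
    rw [Ideal.span_singleton_pow]; exact hc
  have h2 := pow_sub_pow_mem (Ideal.span {x}) f (c • x) h1 hcx hsq t ht1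
  rw [Ideal.span_singleton_pow] at h2
  have h3 := OTc.iter_mem_span_pow E x t (t + 1) (by omega) _ h2
  have h4 : ((E : A →ₗ[K] A) ^ t) (f ^ t - (c • x) ^ t) ∈
      RingHom.ker (Bialgebra.counitAlgHom K A) := by
    rw [hker]
    have : t + 1 - t = 1 := by omega
    rw [this, pow_one] at h3
    exact h3
  rw [RingHom.mem_ker, map_sub, map_sub, sub_eq_zero] at h4
  intro h0
  rw [h0, map_zero, map_zero, smul_pow, map_smul, map_smul,
    OTc.counit_iter_pow E x (Bialgebra.counitAlgHom K A) hker hEx t] at h4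
  have h5 : (t.factorial : K) ≠ 0 := by
    intro h6
    rw [CharP.cast_eq_zero_iff K p, Nat.Prime.dvd_factorial hp.out] at h6
    omega
  have := h4.symm
  rw [smul_eq_mul, mul_eq_zero] at this
  rcases this with h | h
  · exact hc0 (pow_eq_zero_iff (by omega) |>.mp h)
  · exact h5 h

end LocalCase

section Structure

variable {K : Type u} [Field K] [IsAlgClosed K] {A : Type u} [CommRing A] [HopfAlgebra K A]
  [Module.Finite K A]

theorem local_structure (p : ℕ) [hp : Fact p.Prime] [CharP K p] (hA : Module.finrank K A = p)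
    (hnil : ∀ x : A, CoalgebraStruct.counit (R := K) x = 0 → IsNilpotent x) :
    ∃ (x : A) (E : Derivation K A A), augI K A = Ideal.span {x} ∧ x ^ p = 0 ∧
      Bialgebra.counitAlgHom K A (E x) = 1 := by
  have hh1 := OTc.height_one_of_nilpotent p hA hnil
  obtain ⟨n, x, ξ, hξ, hξx, hgen, hfin⟩ := OTc.height_one_structure p hh1
  rw [hA] at hfin
  have hn : n = 1 := ((Nat.Prime.pow_eq_iff hp.out).mp hfin.symm).2
  subst hn
  have hgen' : augI K A = Ideal.span {x 0} := by
    change RingHom.ker (Bialgebra.counitAlgHom K A) = _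
    rw [hgen]
    congr 1
    ext y
    constructor
    · rintro ⟨i, rfl⟩
      rw [Subsingleton.elim i 0]
      rfl
    · rintro rfl
      exact ⟨0, rfl⟩
  refine ⟨x 0, CartH.derT (ξ 0) (hξ 0), hgen', ?_, ?_⟩
  · apply hh1
    have : x 0 ∈ augI K A := by rw [hgen']; exact Ideal.subset_span rfl
    exact this
  · have h1 : CoalgebraStruct.counit (R := K) (CartH.derT (ξ 0) (hξ 0) (x 0)) = ξ 0 (x 0) :=
      counit_T_regular' (ξ 0) (x 0)
    rw [Bialgebra.counitAlgHom_apply, h1, hξx]
    simp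

end Structure

section EtCase

variable {K : Type u} [Field K] {A : Type u} [CommRing A] [HopfAlgebra K A]
  (p : ℕ) [hp : Fact p.Prime] (χ : (ZMod p)ˣ →* Kˣ)

omit hp in
theorem apply_powConv (g : WithConv (A →ₐ[K] K)) (n : ℕ) (a : A) :
    g.ofConv (SGA3b.powConv K A n a) = (g ^ n).ofConv a := by
  have h := comp_convPow g.ofConv (toConv (AlgHom.id K A)) n
  rw [ofConv_toConv, AlgHom.comp_id, toConv_ofConv] at h
  exact congrArg (fun φ : A →ₐ[K] K => φ a) h

/-- A point of order `p` whose powers are all the points detects the elements of `I_i`. -/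
theorem eigen_eq_zero_of_point [Module.Finite K A] (hA : Module.finrank K A = p)
    (hcard : Nat.card (A →ₐ[K] K) = p) (g : WithConv (A →ₐ[K] K))
    (hg : ∀ y, y ∈ Subgroup.zpowers g) (i : ℕ) (f : A)
    (hf : f ∈ OortTate.eigenAug K A p χ i) (hgf : g.ofConv f = 0) : f = 0 := by
  classical
  haveI := finite_points (k := K) (A := A)
  haveI : Finite (WithConv (A →ₐ[K] K)) := Finite.of_equiv _ (WithConv.equiv (A →ₐ[K] K)).symm
  have hcard' : Nat.card (WithConv (A →ₐ[K] K)) = p := by
    rw [Nat.card_congr (WithConv.equiv (A →ₐ[K] K)), hcard]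
  have hord : orderOf g = p := by
    rw [orderOf_eq_card_of_forall_mem_zpowers hg, hcard']
  have hmem := (OTHopf.mem_eigenAug p χ i f).mp hf
  -- every point kills `f`
  have hall : ∀ h : A →ₐ[K] K, h f = 0 := by
    intro h
    obtain ⟨n, hn⟩ := (mem_powers_iff_mem_zpowers (x := g)).mpr (hg (toConv h))
    have hn' : g ^ (n % p) = toConv h := by
      rw [← hn, ← hord, pow_mod_orderOf]
    have hlt : n % p < p := Nat.mod_lt _ hp.out.pos
    rcases Nat.eq_zero_or_pos (n % p) with h0 | hpos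
    · rw [h0, pow_zero] at hn'
      have : h = (1 : WithConv (A →ₐ[K] K)).ofConv := by rw [hn']
      rw [this]
      change algebraMap K K (CoalgebraStruct.counit (R := K) f) = 0
      rw [hmem.1, map_zero]
    · have hcop : Nat.Coprime (n % p) p := by
        rw [Nat.coprime_comm, Nat.Prime.coprime_iff_not_dvd hp.out]
        intro hd
        exact absurd (Nat.le_of_dvd hpos hd) (by omega)
      set m : (ZMod p)ˣ := ZMod.unitOfCoprime (n % p) hcop with hm
      have hmval : ((m : ZMod p)).val = n % p := by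
        rw [hm, ZMod.coe_unitOfCoprime, ZMod.val_natCast, Nat.mod_eq_of_lt hlt]
      have h1 := hmem.2 m
      unfold OTHopf.Lact at h1
      rw [AlgHom.toLinearMap_apply, hmval] at h1
      have h2 := apply_powConv g (n % p) f
      rw [h1, hn', ofConv_toConv, map_smul, hgf, smul_zero] at h2
      exact h2.symm
  -- the points span the dual
  letI := Fintype.ofFinite (A →ₐ[K] K)
  have hLI := linearIndependent_toLinearMap K A K
  have hfin : Fintype.card (A →ₐ[K] K) = Module.finrank K (Module.Dual K A) := by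
    rw [Subspace.dual_finrank_eq, hA, ← hcard, Nat.card_eq_fintype_card]
  have hspan := hLI.span_eq_top_of_card_eq_finrank' hfin
  rw [← Module.forall_dual_apply_eq_zero_iff K f]
  intro φ
  have hφ : φ ∈ Submodule.span K (Set.range (AlgHom.toLinearMap : (A →ₐ[K] K) → A →ₗ[K] K)) := by
    rw [hspan]; exact Submodule.mem_top
  induction hφ using Submodule.span_induction with
  | mem ψ hψ =>
    obtain ⟨h, rfl⟩ := hψ
    exact hall h
  | zero => rfl
  | add ψ ψ' _ _ h1 h2 => rw [LinearMap.add_apply, h1, h2, add_zero]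
  | smul c ψ _ h1 => rw [LinearMap.smul_apply, h1, smul_zero]

end EtCase

section Sup

variable {K : Type u} [Field K] {V : Type u} [AddCommGroup V] [Module K V] [Module.Finite K V]

theorem finrank_biSup_le_sum {ι : Type*} (s : Finset ι) (N : ι → Submodule K V) :
    Module.finrank K ↥(⨆ i ∈ s, N i) ≤ ∑ i ∈ s, Module.finrank K ↥(N i) := by
  classical
  induction s using Finset.induction_on with
  | empty => simp
  | insert a s ha ih =>
    rw [Finset.iSup_insert, Finset.sum_insert ha]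
    exact (Submodule.finrank_add_le_finrank_add_finrank _ _).trans (Nat.add_le_add_left ih _)

end Sup

section FieldCase

variable {K : Type u} [Field K] [IsAlgClosed K] {A : Type u} [CommRing A] [HopfAlgebra K A]
  [Module.Finite K A] (p : ℕ) [hp : Fact p.Prime] (u : K) (hu : u * ((p - 1 : ℕ) : K) = 1)
  (χ : (ZMod p)ˣ →* Kˣ) (hχ : ∀ m : (ZMod p)ˣ, m ≠ 1 → IsUnit ((χ m : K) - 1))
  (hχp : ∀ m : (ZMod p)ˣ, ((χ m : Kˣ) : K) - (((m : ZMod p).val : ℕ) : K) ∈
    Ideal.span ({(p : K)} : Set K))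

omit [IsAlgClosed K] [Module.Finite K A] in
theorem eigenAug_congr' (i j : ℕ)
    (h : ∀ m : (ZMod p)ˣ, ((χ m : Kˣ) : K) ^ i = ((χ m : Kˣ) : K) ^ j) :
    OortTate.eigenAug K A p χ i = OortTate.eigenAug K A p χ j := by
  ext f
  rw [OTHopf.mem_eigenAug, OTHopf.mem_eigenAug]
  simp only [h]

/-- The dichotomy: either a generating point, or the infinitesimal structure. -/
theorem dichotomy (hA : Module.finrank K A = p) :
    (∃ g : WithConv (A →ₐ[K] K), Nat.card (A →ₐ[K] K) = p ∧ ∀ y, y ∈ Subgroup.zpowers g) ∨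
    (∃ (_ : CharP K p) (x : A) (E : Derivation K A A), augI K A = Ideal.span {x} ∧ x ^ p = 0 ∧
      Bialgebra.counitAlgHom K A (E x) = 1) := by
  have hcm := finrank_eq_card_mul (k := K) (A := A)
  rw [hA] at hcm
  have hdvd : Nat.card (A →ₐ[K] K) ∣ p := ⟨_, hcm⟩
  rcases (Nat.dvd_prime hp.out).mp hdvd with h1 | hp'
  · right
    have hnil : ∀ x : A, CoalgebraStruct.counit (R := K) x = 0 → IsNilpotent x := by
      intro x hx
      apply isNilpotent_of_mem_ptRad (k := K)
      rw [mem_ptRad]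
      intro g
      haveI := finite_points (k := K) (A := A)
      have hsub : Subsingleton (A →ₐ[K] K) := (Nat.card_eq_one_iff_unique.mp h1).1
      rw [Subsingleton.elim g (Bialgebra.counitAlgHom K A)]
      exact hx
    haveI := OTc.charP_of_nilpotent p hA hnil
    obtain ⟨x, E, h1, h2, h3⟩ := local_structure p hA hnil
    exact ⟨inferInstance, x, E, h1, h2, h3⟩
  · left
    have hcard' : Nat.card (WithConv (A →ₐ[K] K)) = p := by
      rw [Nat.card_congr (WithConv.equiv (A →ₐ[K] K)), hp']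
    haveI : IsCyclic (WithConv (A →ₐ[K] K)) := isCyclic_of_prime_card hcard'
    obtain ⟨g, hg⟩ := IsCyclic.exists_generator (α := WithConv (A →ₐ[K] K))
    exact ⟨g, hp', hg⟩

include hχp in
theorem finrank_eigenAug_le_one (hA : Module.finrank K A = p) (i : ℕ) :
    Module.finrank K ↥(OortTate.eigenAug K A p χ i) ≤ 1 := by
  rcases dichotomy p hA with ⟨g, hcard, hg⟩ | ⟨hchar, x, E, hgen, hxp, hEx⟩
  · -- evaluation at `g` is injective on `I_i`
    let ev : ↥(OortTate.eigenAug K A p χ i) →ₗ[K] K :=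
      g.ofConv.toLinearMap ∘ₗ (OortTate.eigenAug K A p χ i).subtype
    have hinj : Function.Injective ev := by
      rw [← LinearMap.ker_eq_bot, LinearMap.ker_eq_bot']
      intro f hf
      apply Subtype.ext
      exact eigen_eq_zero_of_point p χ hA hcard g hg i f.1 f.2 hf
    have := LinearMap.finrank_le_finrank_of_injective hinj
    rwa [Module.finrank_self] at this
  · by_cases hbot : OortTate.eigenAug K A p χ i = ⊥
    · rw [hbot, finrank_bot]; exact Nat.zero_le _
    · obtain ⟨f, hf, hf0⟩ := Submodule.exists_mem_ne_zero_of_ne_bot hbot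
      apply finrank_le_one (⟨f, hf⟩ : ↥(OortTate.eigenAug K A p χ i))
      intro w
      obtain ⟨c, hc⟩ := eigen_proportional p χ hχp x hgen hxp i f w.1 hf w.2 hf0
      exact ⟨c, Subtype.ext hc⟩

include hχp in
theorem pow_ne_zero_of_eigen_one (hA : Module.finrank K A = p) (f : A)
    (hf : f ∈ OortTate.eigenAug K A p χ 1) (hf0 : f ≠ 0) (t : ℕ) (ht1 : 1 ≤ t) (htp : t < p) :
    f ^ t ≠ 0 := by
  rcases dichotomy p hA with ⟨g, hcard, hg⟩ | ⟨hchar, x, E, hgen, hxp, hEx⟩
  · intro h0
    have h1 : g.ofConv f ≠ 0 := fun h => hf0 (eigen_eq_zero_of_point p χ hA hcard g hg 1 f hf h)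
    have h2 := congrArg g.ofConv h0
    rw [map_pow, map_zero] at h2
    exact h1 (pow_eq_zero_iff (by omega) |>.mp h2)
  · exact pow_ne_zero_of_local p χ hχp x hgen hxp E hEx f hf hf0 t ht1 htp

include hu hχ hχp in
theorem finrank_eigenAug_eq_one (hA : Module.finrank K A = p) (i : ℕ) :
    Module.finrank K ↥(OortTate.eigenAug K A p χ i) = 1 := by
  classical
  have h2 : 2 ≤ p := hp.out.two_le
  have hkill : (toConv (AlgHom.id K A)) ^ p = 1 := by
    have := convPow_id_finrank K A
    rwa [hA] at this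
  -- reduce to `i < p - 1`
  have hmod : OortTate.eigenAug K A p χ i = OortTate.eigenAug K A p χ (i % (p - 1)) :=
    eigenAug_congr' p χ _ _ (fun m => OTMuP.chi_pow_mod p χ m i)
  rw [hmod]
  have hi : i % (p - 1) < p - 1 := Nat.mod_lt _ (by omega)
  obtain ⟨-, hsup, -⟩ := Groth.Agent.S18468.result p K u hu χ hχ A hkill
  -- dimension of the augmentation ideal
  have hker : Module.finrank K ↥(LinearMap.ker (Bialgebra.counitAlgHom K A).toLinearMap) = p - 1 := by
    have h1 := LinearMap.finrank_range_add_finrank_ker (Bialgebra.counitAlgHom K A).toLinearMap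
    have h3 : LinearMap.range (Bialgebra.counitAlgHom K A).toLinearMap = ⊤ := by
      rw [LinearMap.range_eq_top]
      intro c
      exact ⟨algebraMap K A c, by simp⟩
    rw [h3, finrank_top, Module.finrank_self, hA] at h1
    omega
  by_contra hne
  have hzero : Module.finrank K ↥(OortTate.eigenAug K A p χ (i % (p - 1))) = 0 := by
    have := finrank_eigenAug_le_one p χ hχp hA (i % (p - 1))
    omega
  have hle := finrank_biSup_le_sum (K := K) (V := A) (Finset.univ : Finset (Fin (p - 1)))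
    (fun j => OortTate.eigenAug K A p χ (j : ℕ))
  have hsup' : (⨆ j ∈ (Finset.univ : Finset (Fin (p - 1))), OortTate.eigenAug K A p χ (j : ℕ)) =
      ⨆ j : Fin (p - 1), OortTate.eigenAug K A p χ (j : ℕ) := by
    simp
  rw [hsup', hsup, hker] at hle
  have hbound : ∑ j : Fin (p - 1), Module.finrank K ↥(OortTate.eigenAug K A p χ (j : ℕ)) ≤
      ∑ j : Fin (p - 1), (if j = ⟨i % (p - 1), hi⟩ then 0 else 1) := by
    refine Finset.sum_le_sum (fun j _ => ?_)
    split_ifs with hj
    · rw [hj]; exact hzero.le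
    · exact finrank_eigenAug_le_one p χ hχp hA j
  rw [Finset.sum_ite, Finset.sum_const_zero, zero_add, Finset.sum_const, smul_eq_mul, mul_one,
    Finset.filter_ne' , Finset.card_erase_of_mem (Finset.mem_univ _), Finset.card_univ,
    Fintype.card_fin] at hbound
  omega

include hu hχ hχp in
theorem eigenAug_one_pow (hA : Module.finrank K A = p) (t : ℕ) (ht1 : 1 ≤ t) (htp : t ≤ p - 1) :
    (OortTate.eigenAug K A p χ 1) ^ t = OortTate.eigenAug K A p χ t := by
  have h2 : 2 ≤ p := hp.out.two_le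
  have h1 := finrank_eigenAug_eq_one p u hu χ hχ hχp hA 1
  obtain ⟨v, hv0, hv⟩ := finrank_eq_one_iff'.mp h1
  have hspan1 : OortTate.eigenAug K A p χ 1 = Submodule.span K {(v : A)} := by
    apply le_antisymm
    · intro w hw
      obtain ⟨c, hc⟩ := hv ⟨w, hw⟩
      rw [Submodule.mem_span_singleton]
      exact ⟨c, congrArg Subtype.val hc⟩
    · rw [Submodule.span_singleton_le_iff_mem]; exact v.2
  have hvt : (v : A) ^ t ∈ OortTate.eigenAug K A p χ t := OTMuP.pow_mem_eigenAug p χ _ v.2 t ht1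
  have hvt0 : (v : A) ^ t ≠ 0 :=
    pow_ne_zero_of_eigen_one p χ hχp hA _ v.2 (fun h => hv0 (Subtype.ext h)) t ht1 (by omega)
  have ht := finrank_eigenAug_eq_one p u hu χ hχ hχp hA t
  rw [hspan1, Submodule.span_pow, Set.singleton_pow]
  apply le_antisymm
  · rw [Submodule.span_singleton_le_iff_mem]; exact hvt
  · intro w hw
    obtain ⟨c, hc⟩ := (finrank_eq_one_iff_of_nonzero' (⟨(v : A) ^ t, hvt⟩ :
      ↥(OortTate.eigenAug K A p χ t)) (fun h => hvt0 (congrArg Subtype.val h))).mp ht ⟨w, hw⟩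
    rw [Submodule.mem_span_singleton]
    exact ⟨c, congrArg Subtype.val hc⟩

end FieldCase

end Groth.Agent.Lib.Seat77.OTe
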