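import Groth.Agent.Lib.Seat77OTe
import Groth.Agent.Lib.Seat77OTd
import Groth.Agent.Lib.Helper6Deligne
import Groth.Agent.Lib.Helper25Torsion

/-!
# Seat77 OTf: the eigenspaces `I_i` of a group scheme of prime order are invertible, `I_1 ^ t = I_t`

Projectors onto the `I_i`, their base change, the rank computation through geometric fibres and
the equality `I_1 ^ t = I_t` (Oort–Tate), over an arbitrary base ring.
-/

set_option autoImplicit false
set_option linter.style.haveILetI false

namespace Groth.Agent.Lib.Seat77.OTf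

open TensorProduct WithConv Groth.Agent.Lib.Seat90 Groth.Agent.Lib.Seat90.OTChar
  Groth.Agent.Lib.Seat90.OTHopf

universe u

section Proj

variable (p : ℕ) [hp : Fact p.Prime] {R : Type u} [CommRing R] (u : R)
  (hu : u * ((p - 1 : ℕ) : R) = 1) (χ : (ZMod p)ˣ →* Rˣ)
  {A : Type u} [CommRing A] [HopfAlgebra R A]
  (hkill : (WithConv.toConv (AlgHom.id R A)) ^ p = 1)

/-- The projection of `A` onto its augmentation ideal. -/
noncomputable def aug : A →ₗ[R] A :=
  LinearMap.id - Algebra.linearMap R A ∘ₗ Coalgebra.counit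

omit hp in
theorem aug_apply (a : A) :
    aug (R := R) a = a - algebraMap R A (Coalgebra.counit (R := R) a) := rfl

/-- The projector onto `I_i`. -/
noncomputable def Pr (i : ℕ) : A →ₗ[R] A := OortTate.proj R A p u χ i ∘ₗ aug

include hkill in
theorem Pr_mem (i : ℕ) (a : A) : Pr p u χ i a ∈ OortTate.eigenAug R A p χ i := by
  change avg p u χ (Lact (R := R) (A := A) p) i (aug (R := R) a) ∈ _
  exact OTDual.avg_mem_eigenAug p u χ hkill i _ (OTDual.sub_counit_mem a)

include hu in
theorem Pr_of_mem (i : ℕ) (f : A) (hf : f ∈ OortTate.eigenAug R A p χ i) :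
    Pr p u χ i f = f := by
  have hf' := (mem_eigenAug p χ i f).mp hf
  change avg p u χ (Lact (R := R) (A := A) p) i (aug (R := R) f) = f
  rw [aug_apply, hf'.1, map_zero, sub_zero]
  exact avg_of_eigen p u hu χ _ i f hf'.2

include hu hkill in
theorem range_Pr (i : ℕ) : LinearMap.range (Pr (A := A) p u χ i) = OortTate.eigenAug R A p χ i := by
  apply le_antisymm
  · rintro _ ⟨a, rfl⟩
    exact Pr_mem p u χ hkill i a
  · intro f hf
    exact ⟨f, Pr_of_mem p u hu χ i f hf⟩

/-- The retraction of `A` onto `I_i`. -/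
noncomputable def retr (i : ℕ) : A →ₗ[R] ↥(OortTate.eigenAug R A p χ i) :=
  (Pr p u χ i).codRestrict _ (Pr_mem p u χ hkill i)

include hu in
theorem retr_comp_subtype (i : ℕ) :
    retr p u χ hkill i ∘ₗ (OortTate.eigenAug R A p χ i).subtype = LinearMap.id := by
  ext f
  exact Pr_of_mem p u hu χ i f.1 f.2

include hu hkill in
theorem finite_eigenAug [Module.Finite R A] (i : ℕ) :
    Module.Finite R ↥(OortTate.eigenAug R A p χ i) := by
  apply Module.Finite.of_surjective (retr p u χ hkill i)
  intro f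
  exact ⟨f.1, Subtype.ext (Pr_of_mem p u hu χ i f.1 f.2)⟩

include hu hkill in
theorem projective_eigenAug [Module.Projective R A] (i : ℕ) :
    Module.Projective R ↥(OortTate.eigenAug R A p χ i) :=
  Module.Projective.of_split (OortTate.eigenAug R A p χ i).subtype (retr p u χ hkill i)
    (retr_comp_subtype p u hu χ hkill i)

end Proj

section BaseChange

variable (p : ℕ) [hp : Fact p.Prime] {R : Type u} [CommRing R] (u : R)
  (hu : u * ((p - 1 : ℕ) : R) = 1) (χ : (ZMod p)ˣ →* Rˣ)
  {A : Type u} [CommRing A] [HopfAlgebra R A]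
  (T : Type u) [CommRing T] [Algebra R T]

/-- The character with values in an `R`-algebra. -/
noncomputable abbrev chiT : (ZMod p)ˣ →* Tˣ := OTMuP.chiMap p (algebraMap R T) χ

theorem chiT_apply (m : (ZMod p)ˣ) : ((chiT p χ T m : Tˣ) : T) = algebraMap R T ((χ m : Rˣ) : R) :=
  rfl

include hu in
omit hp in
theorem hu_T : algebraMap R T u * ((p - 1 : ℕ) : T) = 1 := by
  rw [← map_natCast (algebraMap R T), ← map_mul, hu, map_one]

omit hp in
theorem kill_T (hkill : (WithConv.toConv (AlgHom.id R A)) ^ p = 1) :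
    (WithConv.toConv (AlgHom.id T (T ⊗[R] A))) ^ p = 1 := by
  apply WithConv.ext
  apply Algebra.TensorProduct.ext'
  intro t a
  have h1 := Groth.Agent.Lib.Helper6.Deligne.pow_baseChange (R := R) (A := A) T p t a
  have h0 := Groth.Agent.Lib.Helper6.Deligne.pow_baseChange (R := R) (A := A) T 0 t a
  rw [hkill, ← pow_zero (toConv (AlgHom.id R A)), ← h0, pow_zero] at h1
  exact h1

theorem one_tmul_mem (i : ℕ) (f : A) (hf : f ∈ OortTate.eigenAug R A p χ i) :
    (1 : T) ⊗ₜ[R] f ∈ OortTate.eigenAug T (T ⊗[R] A) p (chiT p χ T) i := by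
  have hf' := (mem_eigenAug p χ i f).mp hf
  rw [mem_eigenAug]
  refine ⟨?_, fun m => ?_⟩
  · rw [TensorProduct.counit_tmul, hf'.1, zero_smul]
  · have h1 := hf'.2 m
    unfold Lact at h1 ⊢
    rw [AlgHom.toLinearMap_apply] at h1 ⊢
    rw [Groth.Agent.Lib.Helper25.Tors.powConv_baseChange, h1, chiT_apply, ← map_pow,
      TensorProduct.tmul_smul, algebraMap_smul]

omit hp in
theorem aug_tmul (t : T) (a : A) :
    aug (R := T) (t ⊗ₜ[R] a) = t ⊗ₜ[R] aug (R := R) a := by
  rw [aug_apply, aug_apply, TensorProduct.counit_tmul, CommSemiring.counit_apply,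
    Algebra.TensorProduct.algebraMap_apply, TensorProduct.tmul_sub]
  congr 1
  rw [Algebra.algebraMap_eq_smul_one (Coalgebra.counit (R := R) a), TensorProduct.tmul_smul,
    TensorProduct.smul_tmul', Algebra.algebraMap_self, RingHom.id_apply]

theorem proj_tmul (i : ℕ) (t : T) (a : A) :
    OortTate.proj T (T ⊗[R] A) p (algebraMap R T u) (chiT p χ T) i (t ⊗ₜ[R] a) =
      t ⊗ₜ[R] OortTate.proj R A p u χ i a := by
  unfold OortTate.proj
  rw [LinearMap.smul_apply, LinearMap.smul_apply, LinearMap.sum_apply, LinearMap.sum_apply,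
    TensorProduct.tmul_smul, algebraMap_smul, TensorProduct.tmul_sum]
  congr 1
  refine Finset.sum_congr rfl (fun m _ => ?_)
  rw [LinearMap.smul_apply, LinearMap.smul_apply, AlgHom.toLinearMap_apply,
    AlgHom.toLinearMap_apply, Groth.Agent.Lib.Helper25.Tors.powConv_baseChange, chiT_apply,
    ← map_pow, algebraMap_smul, TensorProduct.tmul_smul]

theorem Pr_tmul (i : ℕ) (t : T) (a : A) :
    Pr p (algebraMap R T u) (chiT p χ T) i (t ⊗ₜ[R] a) = t ⊗ₜ[R] Pr p u χ i a := by
  unfold Pr
  rw [LinearMap.comp_apply, aug_tmul, proj_tmul, LinearMap.comp_apply]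

theorem Pr_mem_baseChange (hkill : (WithConv.toConv (AlgHom.id R A)) ^ p = 1) (i : ℕ)
    (z : T ⊗[R] A) :
    Pr p (algebraMap R T u) (chiT p χ T) i z ∈ (OortTate.eigenAug R A p χ i).baseChange T := by
  induction z using TensorProduct.induction_on with
  | zero => rw [map_zero]; exact Submodule.zero_mem _
  | tmul t a =>
    rw [Pr_tmul]
    exact Submodule.tmul_mem_baseChange_of_mem t (Pr_mem p u χ hkill i a)
  | add x y hx hy => rw [map_add]; exact Submodule.add_mem _ hx hy

include hu in
/-- The eigenspaces commute with base change. -/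
theorem eigenAug_baseChange (hkill : (WithConv.toConv (AlgHom.id R A)) ^ p = 1) (i : ℕ) :
    OortTate.eigenAug T (T ⊗[R] A) p (chiT p χ T) i =
      (OortTate.eigenAug R A p χ i).baseChange T := by
  apply le_antisymm
  · intro z hz
    rw [← Pr_of_mem p (algebraMap R T u) (hu_T p u hu T) (chiT p χ T) i z hz]
    exact Pr_mem_baseChange p u χ T hkill i z
  · rw [Submodule.baseChange_eq_span, Submodule.span_le]
    rintro _ ⟨f, hf, rfl⟩
    exact one_tmul_mem p χ T i f hf

end BaseChange

end Groth.Agent.Lib.Seat77.OTf
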