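import Groth.Agent.Lib.Seat77OTf

/-!
# Seat77 OTg: invertibility of the eigenspaces `I_i` and `I_1 ^ t = I_t` over an arbitrary base

Base change of products of submodules, geometric fibres, ranks and the support argument.
-/

set_option autoImplicit false
set_option linter.style.haveILetI false

namespace Groth.Agent.Lib.Seat77.OTg

open TensorProduct WithConv Groth.Agent.Lib.Seat90 Groth.Agent.Lib.Seat90.OTChar
  Groth.Agent.Lib.Seat90.OTHopf Groth.Agent.Lib.Seat77.OTf

universe u

section General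

variable {R : Type u} [CommRing R] {A : Type u} [CommRing A] [Algebra R A]
  (T : Type u) [CommRing T] [Algebra R T]

theorem baseChange_mul (M N : Submodule R A) :
    (M * N).baseChange T = M.baseChange T * N.baseChange T := by
  rw [Submodule.mul_eq_span_mul_set, Submodule.baseChange_span, Submodule.baseChange_eq_span,
    Submodule.baseChange_eq_span, Submodule.span_mul_span]
  congr 1
  rw [Submodule.map_coe, Submodule.map_coe]
  exact Set.image_mul (Algebra.TensorProduct.includeRight : A →ₐ[R] T ⊗[R] A)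

theorem baseChange_pow (M : Submodule R A) (t : ℕ) :
    (M ^ t).baseChange T = (M.baseChange T) ^ t := by
  induction t with
  | zero =>
    rw [pow_zero, pow_zero, Submodule.one_eq_span, Submodule.baseChange_span, Set.image_singleton,
      Submodule.one_eq_span]
    rfl
  | succ t ih => rw [pow_succ, pow_succ, baseChange_mul, ih]

end General

section Fibre

variable (p : ℕ) [hp : Fact p.Prime] {R : Type u} [CommRing R] (u : R)
  (hu : u * ((p - 1 : ℕ) : R) = 1) (χ : (ZMod p)ˣ →* Rˣ)
  (hχ : ∀ m : (ZMod p)ˣ, m ≠ 1 → IsUnit ((χ m : R) - 1))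
  (hχp : ∀ m : (ZMod p)ˣ, ((χ m : Rˣ) : R) - (((m : ZMod p).val : ℕ) : R) ∈
    Ideal.span ({(p : R)} : Set R))
  {A : Type u} [CommRing A] [HopfAlgebra R A]
  (hkill : (WithConv.toConv (AlgHom.id R A)) ^ p = 1)
  (K : Type u) [Field K] [Algebra R K]

include hχ in
theorem hχ_T (T : Type u) [CommRing T] [Algebra R T] (m : (ZMod p)ˣ) (hm : m ≠ 1) :
    IsUnit (((chiT p χ T m : Tˣ) : T) - 1) := by
  rw [chiT_apply, ← map_one (algebraMap R T), ← map_sub]
  exact (hχ m hm).map _

include hχp in
theorem hχp_T (T : Type u) [CommRing T] [Algebra R T] (m : (ZMod p)ˣ) :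
    ((chiT p χ T m : Tˣ) : T) - (((m : ZMod p).val : ℕ) : T) ∈ Ideal.span ({(p : T)} : Set T) := by
  obtain ⟨r, hr⟩ := Ideal.mem_span_singleton'.mp (hχp m)
  rw [Ideal.mem_span_singleton']
  refine ⟨algebraMap R T r, ?_⟩
  rw [chiT_apply, ← map_natCast (algebraMap R T) (m : ZMod p).val, ← map_sub, ← hr, map_mul,
    map_natCast]

include hu hkill in
/-- Injectivity of the base change of the inclusion `I_i ⊆ A`. -/
theorem subtype_baseChange_injective (T : Type u) [CommRing T] [Algebra R T] (i : ℕ) :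
    Function.Injective ((OortTate.eigenAug R A p χ i).subtype.baseChange T) := by
  have h := retr_comp_subtype p u hu χ hkill i
  have h2 : (retr p u χ hkill i).baseChange T ∘ₗ
      (OortTate.eigenAug R A p χ i).subtype.baseChange T = LinearMap.id := by
    rw [← LinearMap.baseChange_comp, h, LinearMap.baseChange_id]
  intro x y hxy
  have := congrArg ((retr p u χ hkill i).baseChange T) hxy
  rw [← LinearMap.comp_apply, ← LinearMap.comp_apply, h2] at this
  exact this

end Fibre

section Geometric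

variable (p : ℕ) [hp : Fact p.Prime] {R : Type u} [CommRing R] (u : R)
  (hu : u * ((p - 1 : ℕ) : R) = 1) (χ : (ZMod p)ˣ →* Rˣ)
  (hχ : ∀ m : (ZMod p)ˣ, m ≠ 1 → IsUnit ((χ m : R) - 1))
  (hχp : ∀ m : (ZMod p)ˣ, ((χ m : Rˣ) : R) - (((m : ZMod p).val : ℕ) : R) ∈
    Ideal.span ({(p : R)} : Set R))
  {A : Type u} [CommRing A] [HopfAlgebra R A] [Module.Finite R A] [Module.Projective R A]
  (hkill : (WithConv.toConv (AlgHom.id R A)) ^ p = 1)
  (hrk : ∀ q : PrimeSpectrum R, Module.rankAtStalk A q = p)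
  (K : Type u) [Field K] [IsAlgClosed K] [Algebra R K]

include hrk in
omit hp [IsAlgClosed K] in
theorem finrank_fibre : Module.finrank K (K ⊗[R] A) = p := by
  let pt : PrimeSpectrum K := ⟨⊥, Ideal.isPrime_bot⟩
  have h1 := Module.rankAtStalk_baseChange (R := R) (M := A) (S := K) pt
  have h2 := congrFun (Module.rankAtStalk_eq_finrank_of_free (R := K) (M := K ⊗[R] A)) pt
  rw [h2, hrk] at h1
  simpa using h1

include hu hχ hχp hkill hrk in
theorem finrank_eigenAug_fibre (i : ℕ) :
    Module.finrank K (K ⊗[R] ↥(OortTate.eigenAug R A p χ i)) = 1 := by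
  have hinj := subtype_baseChange_injective p u hu χ hkill K i
  have h1 := LinearMap.finrank_range_of_inj hinj
  rw [← h1]
  change Module.finrank K ↥((OortTate.eigenAug R A p χ i).baseChange K) = 1
  rw [← eigenAug_baseChange p u hu χ K hkill i]
  exact OTe.finrank_eigenAug_eq_one p (algebraMap R K u) (hu_T p u hu K) (chiT p χ K)
    (hχ_T p χ hχ K) (hχp_T p χ hχp K) (finrank_fibre p hrk K) i

end Geometric

section Rank

variable (p : ℕ) [hp : Fact p.Prime] {R : Type u} [CommRing R] (u : R)
  (hu : u * ((p - 1 : ℕ) : R) = 1) (χ : (ZMod p)ˣ →* Rˣ)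
  (hχ : ∀ m : (ZMod p)ˣ, m ≠ 1 → IsUnit ((χ m : R) - 1))
  (hχp : ∀ m : (ZMod p)ˣ, ((χ m : Rˣ) : R) - (((m : ZMod p).val : ℕ) : R) ∈
    Ideal.span ({(p : R)} : Set R))
  {A : Type u} [CommRing A] [HopfAlgebra R A] [Module.Finite R A] [Module.Projective R A]
  (hkill : (WithConv.toConv (AlgHom.id R A)) ^ p = 1)
  (hrk : ∀ q : PrimeSpectrum R, Module.rankAtStalk A q = p)

omit hp in
theorem comap_bot_algClosure (q : PrimeSpectrum R) :
    (⟨⊥, Ideal.isPrime_bot⟩ : PrimeSpectrum (AlgebraicClosure q.asIdeal.ResidueField)).comap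
      (algebraMap R (AlgebraicClosure q.asIdeal.ResidueField)) = q := by
  ext x
  change algebraMap R (AlgebraicClosure q.asIdeal.ResidueField) x ∈ (⊥ : Ideal _) ↔ _
  rw [Ideal.mem_bot, IsScalarTower.algebraMap_apply R q.asIdeal.ResidueField
    (AlgebraicClosure q.asIdeal.ResidueField),
    map_eq_zero_iff _ (algebraMap q.asIdeal.ResidueField
      (AlgebraicClosure q.asIdeal.ResidueField)).injective]
  exact Ideal.algebraMap_residueField_eq_zero

include hu hχ hχp hkill hrk in
theorem rankAtStalk_eigenAug (i : ℕ) (q : PrimeSpectrum R) :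
    Module.rankAtStalk (↥(OortTate.eigenAug R A p χ i)) q = 1 := by
  let K := AlgebraicClosure q.asIdeal.ResidueField
  let pt : PrimeSpectrum K := ⟨⊥, Ideal.isPrime_bot⟩
  haveI := finite_eigenAug p u hu χ hkill (A := A) i
  haveI := projective_eigenAug p u hu χ hkill (A := A) i
  have h1 := Module.rankAtStalk_baseChange (R := R) (M := ↥(OortTate.eigenAug R A p χ i))
    (S := K) pt
  have h2 := congrFun (Module.rankAtStalk_eq_finrank_of_free (R := K)
    (M := K ⊗[R] ↥(OortTate.eigenAug R A p χ i))) pt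
  rw [h2, comap_bot_algClosure q] at h1
  rw [← h1]
  simpa using finrank_eigenAug_fibre p u hu χ hχ hχp hkill hrk K i

end Rank

section Quot

theorem subsingleton_tensor_quotient {R : Type*} [CommRing R] {M : Type*} [AddCommGroup M]
    [Module R M] (N' : Submodule R M) (K : Type*) [CommRing K] [Algebra R K]
    (hsurj : Function.Surjective (N'.subtype.baseChange K)) :
    Subsingleton (K ⊗[R] (M ⧸ N')) := by
  refine ⟨fun a b => ?_⟩
  suffices h : ∀ z : K ⊗[R] (M ⧸ N'), z = 0 by rw [h a, h b]
  intro z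
  have hs : Function.Surjective (N'.mkQ.baseChange K) := by
    rw [LinearMap.baseChange_eq_ltensor]
    exact LinearMap.lTensor_surjective K N'.mkQ_surjective
  obtain ⟨y, rfl⟩ := hs z
  obtain ⟨w, rfl⟩ := hsurj y
  rw [← LinearMap.comp_apply, ← LinearMap.baseChange_comp]
  have : N'.mkQ ∘ₗ N'.subtype = 0 := by
    ext x
    simp
  rw [this, LinearMap.baseChange_zero, LinearMap.zero_apply]

end Quot

section Pow

variable (p : ℕ) [hp : Fact p.Prime] {R : Type u} [CommRing R] (u : R)
  (hu : u * ((p - 1 : ℕ) : R) = 1) (χ : (ZMod p)ˣ →* Rˣ)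
  (hχ : ∀ m : (ZMod p)ˣ, m ≠ 1 → IsUnit ((χ m : R) - 1))
  (hχp : ∀ m : (ZMod p)ˣ, ((χ m : Rˣ) : R) - (((m : ZMod p).val : ℕ) : R) ∈
    Ideal.span ({(p : R)} : Set R))
  {A : Type u} [CommRing A] [HopfAlgebra R A] [Module.Finite R A] [Module.Projective R A]
  (hkill : (WithConv.toConv (AlgHom.id R A)) ^ p = 1)
  (hrk : ∀ q : PrimeSpectrum R, Module.rankAtStalk A q = p)

set_option linter.unusedSectionVars false in
omit [Module.Finite R A] [Module.Projective R A] in
theorem pow_le (t : ℕ) (ht : 1 ≤ t) :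
    (OortTate.eigenAug R A p χ 1) ^ t ≤ OortTate.eigenAug R A p χ t := by
  induction t, ht using Nat.le_induction with
  | base => rw [pow_one]
  | succ n _ ih =>
    rw [pow_succ]
    exact Submodule.mul_le.mpr (fun f hf g hg => OTMuP.mul_mem_eigenAug p χ n 1 f g (ih hf) hg)

include hu hχ hχp hkill hrk in
/-- Surjectivity on geometric fibres of `I_1 ^ t → I_t`. -/
theorem fibre_surjective (K : Type u) [Field K] [IsAlgClosed K] [Algebra R K]
    (t : ℕ) (ht1 : 1 ≤ t) (htp : t ≤ p - 1) :
    Function.Surjective ((((OortTate.eigenAug R A p χ 1) ^ t).comap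
      (OortTate.eigenAug R A p χ t).subtype).subtype.baseChange K) := by
  set M := OortTate.eigenAug R A p χ t with hM
  set N := (OortTate.eigenAug R A p χ 1) ^ t with hN
  have hNM : N ≤ M := pow_le p χ t ht1
  set N' : Submodule R ↥M := N.comap M.subtype with hN'
  let e : ↥N →ₗ[R] ↥N' := (Submodule.inclusion hNM).codRestrict N' (fun x => x.2)
  have hcomp : M.subtype ∘ₗ N'.subtype ∘ₗ e = N.subtype := by
    ext x
    rfl
  have hfield := OTe.eigenAug_one_pow p (algebraMap R K u) (hu_T p u hu K) (chiT p χ K)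
    (hχ_T p χ hχ K) (hχp_T p χ hχp K) (finrank_fibre p hrk K) t ht1 htp
  rw [eigenAug_baseChange p u hu χ K hkill 1, eigenAug_baseChange p u hu χ K hkill t,
    ← baseChange_pow] at hfield
  have hinj := subtype_baseChange_injective p u hu χ hkill K t
  intro z
  have hz : (M.subtype.baseChange K) z ∈ M.baseChange K := ⟨z, rfl⟩
  rw [← hM, ← hN] at hfield
  rw [← hfield] at hz
  obtain ⟨w, hw⟩ := hz
  refine ⟨(e.baseChange K) w, hinj ?_⟩
  rw [← hw, ← hcomp, LinearMap.baseChange_comp, LinearMap.baseChange_comp]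
  rfl

include hu hχ hχp hkill hrk in
theorem eigenAug_one_pow (t : ℕ) (ht1 : 1 ≤ t) (htp : t ≤ p - 1) :
    (OortTate.eigenAug R A p χ 1) ^ t = OortTate.eigenAug R A p χ t := by
  apply le_antisymm (pow_le p χ t ht1)
  set M := OortTate.eigenAug R A p χ t with hM
  set N := (OortTate.eigenAug R A p χ 1) ^ t with hN
  set N' : Submodule R ↥M := N.comap M.subtype with hN'
  haveI : Module.Finite R ↥M := finite_eigenAug p u hu χ hkill (A := A) t
  have hQ : Subsingleton (↥M ⧸ N') := by
    rw [← Module.support_eq_empty_iff (R := R), Set.eq_empty_iff_forall_notMem]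
    intro q hq
    rw [Module.mem_support_iff_nontrivial_residueField_tensorProduct] at hq
    let κ := q.asIdeal.ResidueField
    let K := AlgebraicClosure κ
    have hsub : Subsingleton (K ⊗[R] (↥M ⧸ N')) :=
      subsingleton_tensor_quotient N' K (fibre_surjective p u hu χ hχ hχp hkill hrk K t ht1 htp)
    have h2 : Subsingleton (K ⊗[κ] (κ ⊗[R] (↥M ⧸ N'))) :=
      (AlgebraTensorModule.cancelBaseChange R κ K K (↥M ⧸ N')).injective.subsingleton
    haveI : Module.Free κ K := Module.Free.of_divisionRing κ K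
    haveI : Nontrivial K := inferInstance
    haveI : Module.FaithfullyFlat κ K := Module.FaithfullyFlat.instOfNontrivialOfFree κ K
    have h3 : Subsingleton (κ ⊗[R] (↥M ⧸ N')) :=
      Module.FaithfullyFlat.lTensor_reflects_triviality κ K _
    exact not_nontrivial _ hq
  intro f hf
  have h0 : (Submodule.Quotient.mk ⟨f, hf⟩ : ↥M ⧸ N') = 0 := Subsingleton.elim _ _
  rw [Submodule.Quotient.mk_eq_zero] at h0
  exact h0

end Pow

end Groth.Agent.Lib.Seat77.OTg
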