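import Mathlib

/-!
# Seat77 RankOne: finite projective modules of rank one are invertible

For a finite projective module `M` over a commutative ring `R` with `Module.rankAtStalk M = 1`
everywhere: `x ⊗ y = y ⊗ x` in `M ⊗ M`, `M` is faithful, and `M` is `Module.Invertible`.
-/

set_option autoImplicit false
set_option linter.style.haveILetI false

namespace Groth.Agent.Lib.Seat77.RankOne

open TensorProduct Module

universe u v

variable {R : Type u} [CommRing R] {M : Type v} [AddCommGroup M] [Module R M]
  [Module.Finite R M] [Module.Projective R M]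

/-- At a maximal ideal, a module of rank one localizes to the local ring. -/
theorem nonempty_equiv_localized (hM : ∀ q : PrimeSpectrum R, Module.rankAtStalk M q = 1)
    (P : Ideal R) [hP : P.IsMaximal] :
    Nonempty (Localization P.primeCompl ≃ₗ[Localization P.primeCompl]
      LocalizedModule P.primeCompl M) := by
  haveI : Module.Free (Localization.AtPrime P) (LocalizedModule P.primeCompl M) :=
    Module.free_of_flat_of_isLocalRing
  exact Module.nonempty_linearEquiv_of_finrank_eq_one (hM ⟨P, hP.isPrime⟩)

theorem comm_eq_refl (hM : ∀ q : PrimeSpectrum R, Module.rankAtStalk M q = 1) :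
    TensorProduct.comm R M M = .refl .. := by
  let f (P : Ideal R) [P.IsMaximal] := LocalizedModule.mkLinearMap P.primeCompl M
  let ff (P : Ideal R) [P.IsMaximal] := TensorProduct.map (f P) (f P)
  refine LinearEquiv.toLinearMap_injective <| LinearMap.eq_of_localization_maximal _ ff _ ff _ _
    fun P _ ↦ .trans (b := (TensorProduct.comm ..).toLinearMap) ?_ ?_
  · apply IsLocalizedModule.linearMap_ext P.primeCompl (ff P) (ff P)
    ext; exact IsLocalizedModule.map_apply _ (ff P) ..
  let Rp := Localization P.primeCompl
  have ⟨e⟩ := nonempty_equiv_localized hM P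
  have e := e.symm.restrictScalars R
  ext x y
  refine (congr e e ≪≫ₗ equivOfCompatibleSMul Rp ..).injective ?_
  suffices e y ⊗ₜ[Rp] e x = e x ⊗ₜ e y by simpa [equivOfCompatibleSMul]
  conv_lhs => rw [← mul_one (e y), ← smul_eq_mul, smul_tmul, smul_eq_mul,
    mul_comm, ← smul_eq_mul, ← smul_tmul, smul_eq_mul, mul_one]

theorem tmul_comm (hM : ∀ q : PrimeSpectrum R, Module.rankAtStalk M q = 1) (x y : M) :
    x ⊗ₜ[R] y = y ⊗ₜ x :=
  DFunLike.congr_fun (comm_eq_refl hM) (y ⊗ₜ x)

theorem form_comm (hM : ∀ q : PrimeSpectrum R, Module.rankAtStalk M q = 1) (α β : M →ₗ[R] R)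
    (x y : M) : α x * β y = α y * β x := by
  have h := congrArg (TensorProduct.lift ((LinearMap.mul R R).compl₁₂ α β)) (tmul_comm hM x y)
  simpa using h

/-- `α x • y = α y • x` in a module of rank one. -/
theorem smul_comm_form (hM : ∀ q : PrimeSpectrum R, Module.rankAtStalk M q = 1) (α : M →ₗ[R] R)
    (x y : M) : α x • y = α y • x := by
  have h := congrArg (TensorProduct.lift ((LinearMap.lsmul R M).comp α : M →ₗ[R] M →ₗ[R] M))
    (tmul_comm hM x y)
  simpa using h

/-- A module of rank one is faithful. -/
theorem eq_zero_of_smul_eq_zero (hM : ∀ q : PrimeSpectrum R, Module.rankAtStalk M q = 1) (r : R)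
    (h : ∀ y : M, r • y = 0) : r = 0 := by
  apply eq_zero_of_localization
  intro P hP
  obtain ⟨e⟩ := nonempty_equiv_localized hM P
  have h1 : ∀ z : LocalizedModule P.primeCompl M, r • z = 0 := by
    intro z
    induction z using LocalizedModule.induction_on with
    | h y s => rw [LocalizedModule.smul'_mk, h, LocalizedModule.zero_mk]
  have h2 := h1 (e 1)
  rw [← algebraMap_smul (Localization P.primeCompl) r (e 1), ← map_smul, smul_eq_mul, mul_one]
    at h2
  exact e.map_eq_zero_iff.mp h2

/-- A finite projective module of rank one is invertible. -/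
theorem invertible (hM : ∀ q : PrimeSpectrum R, Module.rankAtStalk M q = 1) :
    Module.Invertible R M := by
  classical
  obtain ⟨n, f, g, -, -, hfg⟩ := Module.Finite.exists_comp_eq_id_of_projective R M
  let x : Fin n → M := fun k => f (Pi.single k 1)
  let l : Fin n → (M →ₗ[R] R) := fun k => LinearMap.proj k ∘ₗ g
  have hdual : ∀ y : M, y = ∑ k, l k y • x k := by
    intro y
    have h1 : f (g y) = y := LinearMap.congr_fun hfg y
    conv_lhs => rw [← h1, ← Finset.univ_sum_single (g y)]
    rw [map_sum]
    refine Finset.sum_congr rfl (fun k _ => ?_)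
    change f (Pi.single k (g y k)) = (g y k) • f (Pi.single k 1)
    rw [← map_smul, ← Pi.single_smul, smul_eq_mul, mul_one]
  let τ : Module.Dual R M ⊗[R] M := ∑ k, l k ⊗ₜ[R] x k
  have ht : ∑ k, l k (x k) = 1 := by
    have h0 : ∑ k, l k (x k) - 1 = 0 := by
      apply eq_zero_of_smul_eq_zero hM
      intro y
      rw [sub_smul, one_smul, Finset.sum_smul, sub_eq_zero]
      conv_rhs => rw [hdual y]
      exact Finset.sum_congr rfl (fun k _ => smul_comm_form hM (l k) (x k) y)
    exact sub_eq_zero.mp h0
  have hτ : contractLeft R M τ = 1 := by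
    rw [map_sum]
    exact ht
  have hw : ∀ w : Module.Dual R M ⊗[R] M, w = contractLeft R M w • τ := by
    intro w
    induction w using TensorProduct.induction_on with
    | zero => rw [map_zero, zero_smul]
    | add a b ha hb => rw [map_add, add_smul, ← ha, ← hb]
    | tmul μ y =>
      rw [contractLeft_apply, Finset.smul_sum]
      conv_lhs => rw [hdual y, TensorProduct.tmul_sum]
      refine Finset.sum_congr rfl (fun k _ => ?_)
      rw [TensorProduct.tmul_smul, TensorProduct.smul_tmul', TensorProduct.smul_tmul']
      congr 1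
      ext z
      rw [LinearMap.smul_apply, LinearMap.smul_apply, smul_eq_mul, smul_eq_mul]
      rw [mul_comm (μ y)]
      exact form_comm hM (l k) μ y z
  refine ⟨⟨?_, ?_⟩⟩
  · intro a b hab
    rw [hw a, hw b, hab]
  · intro r
    exact ⟨r • τ, by rw [map_smul, hτ, smul_eq_mul, mul_one]⟩

end Groth.Agent.Lib.Seat77.RankOne
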