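import Groth.Agent.Lib.Seat77OTg
import Groth.Agent.Lib.Seat77RankOne
import Groth.Agent.Lib.Seat76PicPow

/-!
# Seat77 OTh: the tensor algebra of `I_1` presents a group scheme of prime order

`A = T(I_1) / (x_1 ⋯ x_p = a(x_1 ⊗ ⋯ ⊗ x_p))` (Oort–Tate), over an arbitrary base ring.
-/

set_option autoImplicit false
set_option linter.style.haveILetI false

namespace Groth.Agent.Lib.Seat77.OTh

open TensorProduct WithConv Groth.Agent.Lib.Seat90 Groth.Agent.Lib.Seat90.OTChar
  Groth.Agent.Lib.Seat90.OTHopf Groth.Agent.Lib.Seat77.OTf Groth.Agent.Lib.Seat77.OTg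

universe u

section Basic

variable (p : ℕ) [hp : Fact p.Prime] {R : Type u} [CommRing R] (u : R)
  (hu : u * ((p - 1 : ℕ) : R) = 1) (χ : (ZMod p)ˣ →* Rˣ)
  (hχ : ∀ m : (ZMod p)ˣ, m ≠ 1 → IsUnit ((χ m : R) - 1))
  (hχp : ∀ m : (ZMod p)ˣ, ((χ m : Rˣ) : R) - (((m : ZMod p).val : ℕ) : R) ∈
    Ideal.span ({(p : R)} : Set R))
  {A : Type u} [CommRing A] [HopfAlgebra R A]

theorem eigenAug_congr (i j : ℕ)
    (h : ∀ m : (ZMod p)ˣ, ((χ m : Rˣ) : R) ^ i = ((χ m : Rˣ) : R) ^ j) :
    OortTate.eigenAug R A p χ i = OortTate.eigenAug R A p χ j := by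
  ext f
  rw [mem_eigenAug, mem_eigenAug]
  simp only [h]

theorem eigenAug_mod (i : ℕ) :
    OortTate.eigenAug R A p χ i = OortTate.eigenAug R A p χ (i % (p - 1)) :=
  eigenAug_congr p χ _ _ (fun m => OTMuP.chi_pow_mod p χ m i)

theorem eigenAug_prime : OortTate.eigenAug R A p χ p = OortTate.eigenAug R A p χ 1 := by
  have h2 : 2 ≤ p := hp.out.two_le
  rw [eigenAug_mod p χ p, eigenAug_mod p χ 1]
  congr 1
  have h3 : p = 1 + (p - 1) := by omega
  calc p % (p - 1) = (1 + (p - 1)) % (p - 1) := by rw [← h3]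
    _ = 1 % (p - 1) := Nat.add_mod_right 1 (p - 1)

theorem eigenAug_zero : OortTate.eigenAug R A p χ 0 = OortTate.eigenAug R A p χ (p - 1) := by
  rw [eigenAug_mod p χ (p - 1), Nat.mod_self]

variable [Module.Finite R A] [Module.Projective R A]
  (hkill : (WithConv.toConv (AlgHom.id R A)) ^ p = 1)
  (hrk : ∀ q : PrimeSpectrum R, Module.rankAtStalk A q = p)

include hu hχ hχp hkill hrk in
theorem invertible_eigenAug (i : ℕ) : Module.Invertible R ↥(OortTate.eigenAug R A p χ i) := by
  haveI := finite_eigenAug p u hu χ hkill (A := A) i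
  haveI := projective_eigenAug p u hu χ hkill (A := A) i
  exact Groth.Agent.Lib.Seat77.RankOne.invertible
    (rankAtStalk_eigenAug p u hu χ hχ hχp hkill hrk i)

end Basic

section Surj

variable (p : ℕ) [hp : Fact p.Prime] {R : Type u} [CommRing R] (u : R)
  (hu : u * ((p - 1 : ℕ) : R) = 1) (χ : (ZMod p)ˣ →* Rˣ)
  (hχ : ∀ m : (ZMod p)ˣ, m ≠ 1 → IsUnit ((χ m : R) - 1))
  (hχp : ∀ m : (ZMod p)ˣ, ((χ m : Rˣ) : R) - (((m : ZMod p).val : ℕ) : R) ∈
    Ideal.span ({(p : R)} : Set R))
  {A : Type u} [CommRing A] [HopfAlgebra R A] [Module.Finite R A] [Module.Projective R A]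
  (hkill : (WithConv.toConv (AlgHom.id R A)) ^ p = 1)
  (hrk : ∀ q : PrimeSpectrum R, Module.rankAtStalk A q = p)

/-- The canonical map from the tensor algebra of `I_1`. -/
noncomputable abbrev phi : TensorAlgebra R ↥(OortTate.eigenAug R A p χ 1) →ₐ[R] A :=
  TensorAlgebra.lift R (OortTate.eigenAug R A p χ 1).subtype

include hu hχ hχp hkill hrk in
theorem phi_surjective : Function.Surjective (phi p χ (A := A)) := by
  have h2 : 2 ≤ p := hp.out.two_le
  set S : Submodule R A := Subalgebra.toSubmodule (phi p χ (A := A)).range with hS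
  have hI : OortTate.eigenAug R A p χ 1 ≤ S := by
    intro y hy
    exact ⟨TensorAlgebra.ι R ⟨y, hy⟩, by simp [phi]⟩
  have hpow : ∀ t : ℕ, (OortTate.eigenAug R A p χ 1) ^ t ≤ S := by
    intro t
    induction t with
    | zero =>
      rw [pow_zero, Submodule.one_le]
      exact (phi p χ (A := A)).range.one_mem
    | succ t ih =>
      rw [pow_succ]
      calc (OortTate.eigenAug R A p χ 1) ^ t * OortTate.eigenAug R A p χ 1 ≤ S * S :=
            mul_le_mul' ih hI
        _ = S := (Subalgebra.isIdempotentElem_toSubmodule _).eq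
  have hIi : ∀ i : Fin (p - 1), OortTate.eigenAug R A p χ (i : ℕ) ≤ S := by
    intro i
    by_cases hi : (i : ℕ) = 0
    · rw [hi, eigenAug_zero p χ,
        ← eigenAug_one_pow p u hu χ hχ hχp hkill hrk (p - 1) (by omega) le_rfl]
      exact hpow _
    · rw [← eigenAug_one_pow p u hu χ hχ hχp hkill hrk (i : ℕ) (by omega) (by omega)]
      exact hpow _
  obtain ⟨-, hsup, -⟩ := Groth.Agent.S18468.result p R u hu χ hχ A hkill
  have hker : LinearMap.ker (Bialgebra.counitAlgHom R A).toLinearMap ≤ S := by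
    rw [← hsup]
    exact iSup_le hIi
  intro a
  have h1 : a - algebraMap R A (Coalgebra.counit (R := R) a) ∈ S := by
    apply hker
    rw [LinearMap.mem_ker]
    simp
  have h3 : algebraMap R A (Coalgebra.counit (R := R) a) ∈ S :=
    (phi p χ (A := A)).range.algebraMap_mem _
  have h4 := S.add_mem h1 h3
  rw [sub_add_cancel] at h4
  exact h4

end Surj

section Ker

variable (p : ℕ) [hp : Fact p.Prime] {R : Type u} [CommRing R] (u : R)
  (hu : u * ((p - 1 : ℕ) : R) = 1) (χ : (ZMod p)ˣ →* Rˣ)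
  (hχ : ∀ m : (ZMod p)ˣ, m ≠ 1 → IsUnit ((χ m : R) - 1))
  (hχp : ∀ m : (ZMod p)ˣ, ((χ m : Rˣ) : R) - (((m : ZMod p).val : ℕ) : R) ∈
    Ideal.span ({(p : R)} : Set R))
  {A : Type u} [CommRing A] [HopfAlgebra R A] [Module.Finite R A] [Module.Projective R A]
  (hkill : (WithConv.toConv (AlgHom.id R A)) ^ p = 1)
  (hrk : ∀ q : PrimeSpectrum R, Module.rankAtStalk A q = p)

include hu hχ hχp hkill hrk in
theorem iota_comm (x y : ↥(OortTate.eigenAug R A p χ 1)) :
    TensorAlgebra.ι R x * TensorAlgebra.ι R y = TensorAlgebra.ι R y * TensorAlgebra.ι R x := by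
  haveI := invertible_eigenAug p u hu χ hχ hχp hkill hrk 1
  have h := congrArg (TensorProduct.lift ((LinearMap.mul R
    (TensorAlgebra R ↥(OortTate.eigenAug R A p χ 1))).compl₁₂ (TensorAlgebra.ι R)
      (TensorAlgebra.ι R))) (Module.Invertible.tmul_comm (R := R) (m₁ := x) (m₂ := y))
  simpa using h

include hu hχ hχp hkill hrk in
theorem ta_comm (a b : TensorAlgebra R ↥(OortTate.eigenAug R A p χ 1)) : a * b = b * a := by
  have h1 : ∀ (x : ↥(OortTate.eigenAug R A p χ 1))
      (a : TensorAlgebra R ↥(OortTate.eigenAug R A p χ 1)),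
      a * TensorAlgebra.ι R x = TensorAlgebra.ι R x * a := by
    intro x a
    induction a using TensorAlgebra.induction with
    | algebraMap r => exact Algebra.commutes r _
    | ι y => exact iota_comm p u hu χ hχ hχp hkill hrk y x
    | mul a b ha hb => rw [mul_assoc, hb, ← mul_assoc, ha, mul_assoc]
    | add a b ha hb => rw [add_mul, mul_add, ha, hb]
  induction b using TensorAlgebra.induction with
  | algebraMap r => exact (Algebra.commutes r a).symm
  | ι x => exact h1 x a
  | mul b c hb hc => rw [← mul_assoc, hb, mul_assoc, hc, ← mul_assoc]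
  | add b c hb hc => rw [mul_add, add_mul, hb, hc]

end Ker

section Rel

open scoped TensorProduct

variable (p : ℕ) [hp : Fact p.Prime] {R : Type u} [CommRing R] (u : R)
  (hu : u * ((p - 1 : ℕ) : R) = 1) (χ : (ZMod p)ˣ →* Rˣ)
  (hχ : ∀ m : (ZMod p)ˣ, m ≠ 1 → IsUnit ((χ m : R) - 1))
  (hχp : ∀ m : (ZMod p)ˣ, ((χ m : Rˣ) : R) - (((m : ZMod p).val : ℕ) : R) ∈
    Ideal.span ({(p : R)} : Set R))
  {A : Type u} [CommRing A] [HopfAlgebra R A] [Module.Finite R A] [Module.Projective R A]
  (hkill : (WithConv.toConv (AlgHom.id R A)) ^ p = 1)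
  (hrk : ∀ q : PrimeSpectrum R, Module.rankAtStalk A q = p)

/-- The relation ideal `(x_1 ⋯ x_p = a(x_1 ⊗ ⋯ ⊗ x_p))`. -/
noncomputable def relIdeal (A : Type u) [CommRing A] [HopfAlgebra R A] :
    Ideal (TensorAlgebra R ↥(OortTate.eigenAug R A p χ 1)) :=
  Ideal.span {x : TensorAlgebra R (OortTate.eigenAug R A p χ 1) |
    ∃ (f : Fin p → OortTate.eigenAug R A p χ 1) (g : OortTate.eigenAug R A p χ 1),
      (g : A) = ∏ i, (f i : A) ∧
      x = (List.ofFn fun i => TensorAlgebra.ι R (f i)).prod - TensorAlgebra.ι R g}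

omit hp [Module.Finite R A] [Module.Projective R A] in
theorem list_prod_mem_pow (M : Submodule R A) (l : List A) (h : ∀ a ∈ l, a ∈ M) :
    l.prod ∈ M ^ l.length := by
  induction l with
  | nil =>
    rw [List.prod_nil, List.length_nil, pow_zero]
    exact Submodule.one_le.mp le_rfl
  | cons a l ih =>
    rw [List.prod_cons, List.length_cons, pow_succ']
    exact Submodule.mul_mem_mul (h a (List.mem_cons_self ..))
      (ih (fun b hb => h b (List.mem_cons_of_mem _ hb)))

omit [Module.Finite R A] [Module.Projective R A] in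
theorem list_prod_mem_eigenAug (l : List ↥(OortTate.eigenAug R A p χ 1)) (hl : 1 ≤ l.length) :
    (l.map Subtype.val).prod ∈ OortTate.eigenAug R A p χ l.length := by
  apply pow_le p χ l.length hl
  have := list_prod_mem_pow (OortTate.eigenAug R A p χ 1) (l.map Subtype.val) (by
    intro a ha
    obtain ⟨b, -, rfl⟩ := List.mem_map.mp ha
    exact b.2)
  rwa [List.length_map] at this

omit [Module.Finite R A] [Module.Projective R A] in
theorem rel_mem (l : List ↥(OortTate.eigenAug R A p χ 1)) (hl : l.length = p)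
    (g : ↥(OortTate.eigenAug R A p χ 1)) (hg : (g : A) = (l.map Subtype.val).prod) :
    (l.map (TensorAlgebra.ι R)).prod - TensorAlgebra.ι R g ∈ relIdeal p χ A := by
  apply Ideal.subset_span
  refine ⟨fun i => l.get (Fin.cast hl.symm i), g, ?_, ?_⟩
  · rw [hg, ← List.prod_ofFn]
    congr 1
    rw [← List.ofFn_getElem_eq_map l Subtype.val]
    exact List.ofFn_congr hl _
  · congr 2
    rw [← List.ofFn_getElem_eq_map l (TensorAlgebra.ι R)]
    exact List.ofFn_congr hl _

end Rel

section Low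

open scoped TensorProduct

variable (p : ℕ) [hp : Fact p.Prime] {R : Type u} [CommRing R] (u : R)
  (hu : u * ((p - 1 : ℕ) : R) = 1) (χ : (ZMod p)ˣ →* Rˣ)
  (hχ : ∀ m : (ZMod p)ˣ, m ≠ 1 → IsUnit ((χ m : R) - 1))
  (hχp : ∀ m : (ZMod p)ˣ, ((χ m : Rˣ) : R) - (((m : ZMod p).val : ℕ) : R) ∈
    Ideal.span ({(p : R)} : Set R))
  {A : Type u} [CommRing A] [HopfAlgebra R A] [Module.Finite R A] [Module.Projective R A]
  (hkill : (WithConv.toConv (AlgHom.id R A)) ^ p = 1)
  (hrk : ∀ q : PrimeSpectrum R, Module.rankAtStalk A q = p)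

/-- The sum of the pieces of degree `< p` of the tensor algebra. -/
noncomputable def lowMap (A : Type u) [CommRing A] [HopfAlgebra R A] :
    (Π t : Fin p, ⨂[R]^(t : ℕ) ↥(OortTate.eigenAug R A p χ 1)) →ₗ[R]
      TensorAlgebra R ↥(OortTate.eigenAug R A p χ 1) :=
  ∑ t : Fin p, TensorPower.toTensorAlgebra ∘ₗ LinearMap.proj t

omit [Module.Finite R A] [Module.Projective R A] in
theorem lowMap_apply (v : Π t : Fin p, ⨂[R]^(t : ℕ) ↥(OortTate.eigenAug R A p χ 1)) :
    lowMap p χ A v = ∑ t : Fin p, TensorPower.toTensorAlgebra (v t) := by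
  simp [lowMap, LinearMap.sum_apply]

omit [Module.Finite R A] [Module.Projective R A] in
theorem lowMap_single (t : Fin p) (w : ⨂[R]^(t : ℕ) ↥(OortTate.eigenAug R A p χ 1)) :
    lowMap p χ A (Pi.single t w) = TensorPower.toTensorAlgebra w := by
  classical
  rw [lowMap_apply, Finset.sum_eq_single t]
  · rw [Pi.single_eq_same]
  · intro s _ hs
    rw [Pi.single_eq_of_ne hs, map_zero]
  · intro h
    exact absurd (Finset.mem_univ t) h

include hu hχ hχp hkill hrk in
theorem list_prod_mem (l : List ↥(OortTate.eigenAug R A p χ 1)) :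
    (l.map (TensorAlgebra.ι R)).prod ∈
      (relIdeal p χ A).restrictScalars R ⊔ LinearMap.range (lowMap p χ A) := by
  induction' hn : l.length using Nat.strong_induction_on with n ih generalizing l
  subst hn
  by_cases hlt : l.length < p
  · apply Submodule.mem_sup_right
    refine ⟨Pi.single ⟨l.length, hlt⟩ (PiTensorProduct.tprod R (fun i => l.get i)), ?_⟩
    rw [lowMap_single, TensorPower.toTensorAlgebra_tprod, TensorAlgebra.tprod_apply]
    congr 1
    exact List.ofFn_getElem_eq_map l (TensorAlgebra.ι R)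
  · have hge : p ≤ l.length := Nat.le_of_not_lt hlt
    have h1p : 2 ≤ p := hp.out.two_le
    set l1 := l.take p with hl1
    set l2 := l.drop p with hl2
    have hlen1 : l1.length = p := by rw [hl1, List.length_take]; omega
    have hlen2 : l2.length = l.length - p := by rw [hl2, List.length_drop]
    have hg : (l1.map Subtype.val).prod ∈ OortTate.eigenAug R A p χ 1 := by
      have := list_prod_mem_eigenAug p χ l1 (by omega)
      rwa [hlen1, eigenAug_prime p χ] at this
    set g : ↥(OortTate.eigenAug R A p χ 1) := ⟨_, hg⟩ with hgdef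
    have hrel := rel_mem p χ l1 hlen1 g rfl
    have hsplit : (l.map (TensorAlgebra.ι R)).prod =
        (l2.map (TensorAlgebra.ι R)).prod * ((l1.map (TensorAlgebra.ι R)).prod -
          TensorAlgebra.ι R g) + ((g :: l2).map (TensorAlgebra.ι R)).prod := by
      rw [ta_comm p u hu χ hχ hχp hkill hrk ((l2.map (TensorAlgebra.ι R)).prod), sub_mul,
        List.map_cons, List.prod_cons, sub_add_cancel, ← List.prod_append, ← List.map_append,
        hl1, hl2, List.take_append_drop]
    rw [hsplit]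
    apply Submodule.add_mem
    · apply Submodule.mem_sup_left
      exact Ideal.mul_mem_left _ _ hrel
    · exact ih (g :: l2).length (by rw [List.length_cons, hlen2]; omega) (g :: l2) rfl

end Low

section Span

open scoped TensorProduct

variable (p : ℕ) [hp : Fact p.Prime] {R : Type u} [CommRing R] (u : R)
  (hu : u * ((p - 1 : ℕ) : R) = 1) (χ : (ZMod p)ˣ →* Rˣ)
  (hχ : ∀ m : (ZMod p)ˣ, m ≠ 1 → IsUnit ((χ m : R) - 1))
  (hχp : ∀ m : (ZMod p)ˣ, ((χ m : Rˣ) : R) - (((m : ZMod p).val : ℕ) : R) ∈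
    Ideal.span ({(p : R)} : Set R))
  {A : Type u} [CommRing A] [HopfAlgebra R A] [Module.Finite R A] [Module.Projective R A]
  (hkill : (WithConv.toConv (AlgHom.id R A)) ^ p = 1)
  (hrk : ∀ q : PrimeSpectrum R, Module.rankAtStalk A q = p)

/-- The tensor algebra is spanned by products of generators. -/
theorem mem_span_list_prod {M : Type*} [AddCommGroup M] [Module R M] (z : TensorAlgebra R M) :
    z ∈ Submodule.span R (Set.range fun l : List M => (l.map (TensorAlgebra.ι R)).prod) := by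
  set S := Submodule.span R (Set.range fun l : List M => (l.map (TensorAlgebra.ι R)).prod) with hS
  have hone : (1 : TensorAlgebra R M) ∈ S := Submodule.subset_span ⟨[], by simp⟩
  have hmul : ∀ a b, a ∈ S → b ∈ S → a * b ∈ S := by
    intro a b ha hb
    have h1 : S * S ≤ S := by
      rw [hS, Submodule.span_mul_span, Submodule.span_le]
      rintro _ ⟨_, ⟨l1, rfl⟩, _, ⟨l2, rfl⟩, rfl⟩
      apply Submodule.subset_span
      exact ⟨l1 ++ l2, by simp⟩
    exact h1 (Submodule.mul_mem_mul ha hb)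
  induction z using TensorAlgebra.induction with
  | algebraMap r =>
    rw [Algebra.algebraMap_eq_smul_one]
    exact S.smul_mem r hone
  | ι x => exact Submodule.subset_span ⟨[x], by simp⟩
  | mul a b ha hb => exact hmul a b ha hb
  | add a b ha hb => exact S.add_mem ha hb

include hu hχ hχp hkill hrk in
theorem mem_sup (z : TensorAlgebra R ↥(OortTate.eigenAug R A p χ 1)) :
    z ∈ (relIdeal p χ A).restrictScalars R ⊔ LinearMap.range (lowMap p χ A) := by
  have h := mem_span_list_prod (R := R) z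
  refine (Submodule.span_le.mpr ?_) h
  rintro _ ⟨l, rfl⟩
  exact list_prod_mem p u hu χ hχ hχp hkill hrk l

end Span

section MM

open scoped TensorProduct

variable (p : ℕ) [hp : Fact p.Prime] {R : Type u} [CommRing R] (u : R)
  (hu : u * ((p - 1 : ℕ) : R) = 1) (χ : (ZMod p)ˣ →* Rˣ)
  (hχ : ∀ m : (ZMod p)ˣ, m ≠ 1 → IsUnit ((χ m : R) - 1))
  (hχp : ∀ m : (ZMod p)ˣ, ((χ m : Rˣ) : R) - (((m : ZMod p).val : ℕ) : R) ∈
    Ideal.span ({(p : R)} : Set R))
  {A : Type u} [CommRing A] [HopfAlgebra R A] [Module.Finite R A] [Module.Projective R A]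
  (hkill : (WithConv.toConv (AlgHom.id R A)) ^ p = 1)
  (hrk : ∀ q : PrimeSpectrum R, Module.rankAtStalk A q = p)

/-- Multiplication `I_1^{⊗ t} → A`. -/
noncomputable def mm (A : Type u) [CommRing A] [HopfAlgebra R A] (t : ℕ) :
    (⨂[R]^t ↥(OortTate.eigenAug R A p χ 1)) →ₗ[R] A :=
  (phi p χ (A := A)).toLinearMap ∘ₗ TensorPower.toTensorAlgebra

omit [Module.Finite R A] [Module.Projective R A] in
theorem mm_tprod (t : ℕ) (x : Fin t → ↥(OortTate.eigenAug R A p χ 1)) :
    mm p χ A t (PiTensorProduct.tprod R x) = ∏ i, (x i : A) := by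
  change phi p χ (TensorPower.toTensorAlgebra (PiTensorProduct.tprod R x)) = _
  rw [TensorPower.toTensorAlgebra_tprod, TensorAlgebra.tprod_apply, map_list_prod, List.map_ofFn,
    ← List.prod_ofFn]
  congr 2
  funext i
  simp [phi]

omit [Module.Finite R A] [Module.Projective R A] in
theorem phi_lowMap (v : Π t : Fin p, ⨂[R]^(t : ℕ) ↥(OortTate.eigenAug R A p χ 1)) :
    phi p χ (lowMap p χ A v) = ∑ t : Fin p, mm p χ A t (v t) := by
  rw [lowMap_apply, map_sum]
  rfl

omit [Module.Finite R A] [Module.Projective R A] in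
theorem mm_mem_pow (t : ℕ) (w : ⨂[R]^t ↥(OortTate.eigenAug R A p χ 1)) :
    mm p χ A t w ∈ (OortTate.eigenAug R A p χ 1) ^ t := by
  induction w using PiTensorProduct.induction_on with
  | smul_tprod r x =>
    rw [map_smul, mm_tprod]
    apply Submodule.smul_mem
    have := list_prod_mem_pow (OortTate.eigenAug R A p χ 1) (List.ofFn fun i => (x i : A)) (by
      intro a ha
      obtain ⟨i, rfl⟩ := (List.mem_ofFn' _ _).mp ha
      exact (x i).2)
    rwa [List.length_ofFn, List.prod_ofFn] at this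
  | add a b ha hb =>
    rw [map_add]
    exact Submodule.add_mem _ ha hb

omit [Module.Finite R A] [Module.Projective R A] in
theorem pow_le_range_mm (t : ℕ) :
    (OortTate.eigenAug R A p χ 1) ^ t ≤ LinearMap.range (mm p χ A t) := by
  rw [Submodule.pow_eq_span_pow_set, Submodule.span_le]
  intro a ha
  rw [Set.mem_pow] at ha
  obtain ⟨f, rfl⟩ := ha
  refine ⟨PiTensorProduct.tprod R
    (fun i => (⟨(f i).1, (f i).2⟩ : ↥(OortTate.eigenAug R A p χ 1))), ?_⟩
  rw [mm_tprod, List.prod_ofFn]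

include hu hχ hχp hkill hrk in
theorem mm_injective (t : ℕ) (ht1 : 1 ≤ t) (htp : t ≤ p - 1) :
    Function.Injective (mm p χ A t) := by
  haveI := invertible_eigenAug p u hu χ hχ hχp hkill hrk 1
  haveI := invertible_eigenAug p u hu χ hχ hχp hkill hrk t
  obtain ⟨hinv, -⟩ := Groth.Agent.Lib.Seat76.PicPow.tpow_invertible_and_mk (R := R)
    ↥(OortTate.eigenAug R A p χ 1) t
  haveI := hinv
  have hpow := eigenAug_one_pow p u hu χ hχ hχp hkill hrk t ht1 htp
  have hmem : ∀ w, mm p χ A t w ∈ OortTate.eigenAug R A p χ t := by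
    intro w
    rw [← hpow]
    exact mm_mem_pow p χ t w
  let g : (⨂[R]^t ↥(OortTate.eigenAug R A p χ 1)) →ₗ[R] ↥(OortTate.eigenAug R A p χ t) :=
    (mm p χ A t).codRestrict _ hmem
  have hsurj : Function.Surjective g := by
    intro y
    have hy : (y : A) ∈ (OortTate.eigenAug R A p χ 1) ^ t := by
      rw [hpow]
      exact y.2
    obtain ⟨w, hw⟩ := pow_le_range_mm p χ t hy
    exact ⟨w, Subtype.ext hw⟩
  have hbij := Module.Invertible.bijective_of_surjective hsurj
  intro a b hab
  apply hbij.1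
  exact Subtype.ext hab

omit [Module.Finite R A] [Module.Projective R A] in
theorem mm_zero_apply (w : ⨂[R]^0 ↥(OortTate.eigenAug R A p χ 1)) :
    mm p χ A 0 w = algebraMap R A (PiTensorProduct.isEmptyEquiv (Fin 0) w) := by
  induction w using PiTensorProduct.induction_on with
  | smul_tprod r x =>
    rw [map_smul, map_smul, mm_tprod, PiTensorProduct.isEmptyEquiv_apply_tprod,
      Finset.univ_eq_empty, Finset.prod_empty, smul_eq_mul, mul_one,
      Algebra.algebraMap_eq_smul_one]
  | add a b ha hb => rw [map_add, map_add, map_add, ha, hb]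

end MM

section Main

open scoped TensorProduct

variable (p : ℕ) [hp : Fact p.Prime] {R : Type u} [CommRing R] (u : R)
  (hu : u * ((p - 1 : ℕ) : R) = 1) (χ : (ZMod p)ˣ →* Rˣ)
  (hχ : ∀ m : (ZMod p)ˣ, m ≠ 1 → IsUnit ((χ m : R) - 1))
  (hχp : ∀ m : (ZMod p)ˣ, ((χ m : Rˣ) : R) - (((m : ZMod p).val : ℕ) : R) ∈
    Ideal.span ({(p : R)} : Set R))
  {A : Type u} [CommRing A] [HopfAlgebra R A] [Module.Finite R A] [Module.Projective R A]
  (hkill : (WithConv.toConv (AlgHom.id R A)) ^ p = 1)
  (hrk : ∀ q : PrimeSpectrum R, Module.rankAtStalk A q = p)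

theorem not_dvd_of_ne (q t s : ℕ) (ht1 : 1 ≤ t) (htp : t ≤ q) (hs1 : 1 ≤ s) (hsp : s ≤ q)
    (hne : s ≠ t) : ¬ q ∣ (s + (q - 1) * t) := by
  rintro ⟨c, hc⟩
  have hq : 1 ≤ q := le_trans ht1 htp
  have h1 : (q - 1) * t + t = q * t := by
    obtain ⟨q', rfl⟩ : ∃ q', q = q' + 1 := ⟨q - 1, by omega⟩
    rw [Nat.add_sub_cancel, Nat.succ_mul]
  have h2 : s + q * t = q * c + t := by rw [← h1, ← hc]; ring
  rcases Nat.lt_or_ge s t with hlt | hge
  · have h3 : t - s = q * (t - c) := by
      have : c ≤ t := by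
        by_contra hct
        have hct' : t < c := Nat.lt_of_not_le hct
        have : q * t < q * c := (Nat.mul_lt_mul_left hq).mpr hct'
        omega
      rw [Nat.mul_sub]
      omega
    have h4 : q ∣ t - s := ⟨_, h3⟩
    have h5 := Nat.eq_zero_of_dvd_of_lt h4 (by omega)
    omega
  · have h3 : s - t = q * (c - t) := by
      have : t ≤ c := by
        by_contra hct
        have hct' : c < t := Nat.lt_of_not_le hct
        have : q * c < q * t := (Nat.mul_lt_mul_left hq).mpr hct'
        omega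
      rw [Nat.mul_sub]
      omega
    have h4 : q ∣ s - t := ⟨_, h3⟩
    have h5 := Nat.eq_zero_of_dvd_of_lt h4 (by omega)
    omega

omit [Module.Finite R A] [Module.Projective R A] in
theorem Pr_algebraMap (t : ℕ) (r : R) : Pr p u χ t (algebraMap R A r) = 0 := by
  unfold Pr
  rw [LinearMap.comp_apply, aug_apply]
  simp

include hχ in
omit [Module.Finite R A] [Module.Projective R A] in
theorem Pr_of_mem_ne (t s : ℕ) (ht1 : 1 ≤ t) (htp : t ≤ p - 1) (hs1 : 1 ≤ s) (hsp : s ≤ p - 1)
    (hne : s ≠ t) (f : A) (hf : f ∈ OortTate.eigenAug R A p χ s) : Pr p u χ t f = 0 := by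
  have hf' := (mem_eigenAug p χ s f).mp hf
  change avg p u χ (Lact (R := R) (A := A) p) t (aug (R := R) f) = 0
  rw [aug_apply, hf'.1, map_zero, sub_zero]
  apply avg_of_eigen_ne p u χ _ hχ t s _ f hf'.2
  have h2 : 2 ≤ p := hp.out.two_le
  have : p - 2 = p - 1 - 1 := by omega
  rw [this]
  exact not_dvd_of_ne (p - 1) t s ht1 htp hs1 hsp hne

include hu hχ in
omit [Module.Finite R A] [Module.Projective R A] in
theorem Pr_mm (t : ℕ) (ht1 : 1 ≤ t) (htp : t ≤ p - 1) (s : ℕ) (hsp : s ≤ p - 1)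
    (w : ⨂[R]^s ↥(OortTate.eigenAug R A p χ 1)) :
    Pr p u χ t (mm p χ A s w) = if s = t then mm p χ A s w else 0 := by
  rcases Nat.eq_zero_or_pos s with rfl | hs1
  · rw [mm_zero_apply, Pr_algebraMap, if_neg (by omega)]
  · have hmem : mm p χ A s w ∈ OortTate.eigenAug R A p χ s :=
      pow_le p χ s hs1 (mm_mem_pow p χ s w)
    split_ifs with hst
    · subst hst
      exact Pr_of_mem p u hu χ s _ hmem
    · exact Pr_of_mem_ne p u χ hχ t s ht1 htp hs1 hsp hst _ hmem

include hu hχ hχp hkill hrk in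
theorem mm_eq_zero_imp (t : ℕ) (htp : t ≤ p - 1) (w : ⨂[R]^t ↥(OortTate.eigenAug R A p χ 1))
    (h : mm p χ A t w = 0) : w = 0 := by
  rcases Nat.eq_zero_or_pos t with rfl | ht1
  · rw [mm_zero_apply] at h
    have h1 := congrArg (Coalgebra.counit (R := R) (A := A)) h
    rw [map_zero, Bialgebra.counit_algebraMap] at h1
    exact (PiTensorProduct.isEmptyEquiv (Fin 0)).map_eq_zero_iff.mp h1
  · exact mm_injective p u hu χ hχ hχp hkill hrk t ht1 htp (by rw [h, map_zero])

omit [Module.Finite R A] [Module.Projective R A] in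
theorem relIdeal_le_ker : relIdeal p χ A ≤ RingHom.ker (phi p χ (A := A)) := by
  unfold relIdeal
  rw [Ideal.span_le]
  rintro _ ⟨f, g, hg, rfl⟩
  rw [SetLike.mem_coe, RingHom.mem_ker, map_sub, map_list_prod, List.map_ofFn, sub_eq_zero]
  have h1 : (⇑(phi p χ (A := A)) ∘ fun i => TensorAlgebra.ι R (f i)) = fun i => (f i : A) := by
    funext i
    simp [phi]
  rw [h1, List.prod_ofFn, ← hg]
  simp [phi]

include hu hχ hχp hkill hrk in
theorem ker_phi : RingHom.ker (phi p χ (A := A)) = relIdeal p χ A := by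
  have h2 : 2 ≤ p := hp.out.two_le
  apply le_antisymm _ (relIdeal_le_ker p χ)
  intro z hz
  rw [RingHom.mem_ker] at hz
  have hmem := mem_sup p u hu χ hχ hχp hkill hrk z
  obtain ⟨j, hj, f, ⟨v, rfl⟩, rfl⟩ := Submodule.mem_sup.mp hmem
  have hj' : j ∈ relIdeal p χ A := hj
  have hjker : phi p χ j = 0 := relIdeal_le_ker p χ hj'
  rw [map_add, hjker, zero_add, phi_lowMap] at hz
  -- the components of positive degree vanish
  have hpos : ∀ t : Fin p, 1 ≤ (t : ℕ) → mm p χ A (t : ℕ) (v t) = 0 := by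
    intro t ht1
    have htp : (t : ℕ) ≤ p - 1 := by have := t.2; omega
    have h3 := congrArg (Pr p u χ (t : ℕ)) hz
    rw [map_sum, map_zero, Finset.sum_eq_single t] at h3
    · rw [Pr_mm p u hu χ hχ (t : ℕ) ht1 htp (t : ℕ) htp, if_pos rfl] at h3
      exact h3
    · intro s _ hs
      have hsp : (s : ℕ) ≤ p - 1 := by have := s.2; omega
      rw [Pr_mm p u hu χ hχ (t : ℕ) ht1 htp (s : ℕ) hsp, if_neg]
      exact fun h => hs (Fin.ext h)
    · intro h
      exact absurd (Finset.mem_univ t) h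
  have hall : ∀ t : Fin p, mm p χ A (t : ℕ) (v t) = 0 := by
    intro t
    rcases Nat.eq_zero_or_pos (t : ℕ) with ht0 | ht1
    · rw [Finset.sum_eq_single t] at hz
      · exact hz
      · intro s _ hs
        apply hpos s
        have : (s : ℕ) ≠ (t : ℕ) := fun h => hs (Fin.ext h)
        omega
      · intro h
        exact absurd (Finset.mem_univ t) h
    · exact hpos t ht1
  have hv : ∀ t : Fin p, v t = 0 := by
    intro t
    have htp : (t : ℕ) ≤ p - 1 := by have := t.2; omega
    exact mm_eq_zero_imp p u hu χ hχ hχp hkill hrk (t : ℕ) htp (v t) (hall t)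
  have hlow : lowMap p χ A v = 0 := by
    rw [lowMap_apply]
    apply Finset.sum_eq_zero
    intro t _
    rw [hv t, map_zero]
  rw [hlow, add_zero]
  exact hj'

end Main

end Groth.Agent.Lib.Seat77.OTh
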