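import Groth.Prelude.Def_CartDual2
import Groth.Agent.Lib.Seat90OTHopf

/-!
# Power maps of the Cartier dual are the transposes of the power maps
-/

set_option autoImplicit false
universe u

namespace Groth.Agent.Lib.Seat90.OTDual

open TensorProduct CartDual WithConv

section Lin

variable (R : Type u) [CommRing R] (A : Type u) [Ring A] [Bialgebra R A]
  [Module.Finite R A] [Module.Projective R A]

theorem mul'_apply_eq_ev₂ (w : D R A ⊗[R] D R A) (a : A) :
    (LinearMap.mul' R (D R A) w).ofConv a = ev₂ R A w (Coalgebra.comul (R := R) a) := by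
  induction w using TensorProduct.induction_on with
  | zero => simp
  | tmul y z =>
    rw [LinearMap.mul'_apply, ev₂_tmul_eq']
    rfl
  | add w w' hw hw' =>
    simp only [map_add, WithConv.ofConv_add, LinearMap.add_apply, hw, hw']

theorem ev₂_map_transposeLin₂ (f g : A →ₗ[R] A) (w : D R A ⊗[R] D R A) (t : A ⊗[R] A) :
    ev₂ R A (TensorProduct.map (transposeLin R f) (transposeLin R g) w) t =
      ev₂ R A w (TensorProduct.map f g t) := by
  induction t using TensorProduct.induction_on with
  | zero => simp
  | add t t' ht ht' => simp only [map_add, ht, ht']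
  | tmul a a' =>
    induction w using TensorProduct.induction_on with
    | zero => simp
    | tmul x z => simp
    | add y y' hy hy' => simp only [map_add, LinearMap.add_apply, hy, hy']

theorem transposeLin_convMul (f g : WithConv (A →ₗ[R] A)) :
    toConv (transposeLin R (f * g).ofConv) =
      toConv (transposeLin R f.ofConv) * toConv (transposeLin R g.ofConv) := by
  apply WithConv.ext
  apply LinearMap.ext; intro x
  apply WithConv.ext
  apply LinearMap.ext; intro a
  rw [ofConv_toConv]
  change x.ofConv ((f * g).ofConv a) = ((toConv (transposeLin R f.ofConv) *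
    toConv (transposeLin R g.ofConv)).ofConv x).ofConv a
  have hR : ((toConv (transposeLin R f.ofConv) * toConv (transposeLin R g.ofConv)).ofConv x) =
      LinearMap.mul' R (D R A) (TensorProduct.map (transposeLin R f.ofConv) (transposeLin R g.ofConv)
        (Coalgebra.comul (R := R) x)) := rfl
  rw [hR, mul'_apply_eq_ev₂, ev₂_map_transposeLin₂, comul_def, ev₂_comul]
  rfl

theorem transposeLin_convOne :
    toConv (transposeLin R (1 : WithConv (A →ₗ[R] A)).ofConv) = 1 := by
  apply WithConv.ext
  apply LinearMap.ext; intro x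
  apply WithConv.ext
  apply LinearMap.ext; intro a
  rw [ofConv_toConv]
  change x.ofConv ((1 : WithConv (A →ₗ[R] A)).ofConv a) =
    (((1 : WithConv (D R A →ₗ[R] D R A)).ofConv x).ofConv a)
  rw [LinearMap.convOne_def, LinearMap.convOne_def, ofConv_toConv, ofConv_toConv]
  simp only [LinearMap.coe_comp, Function.comp_apply, Algebra.linearMap_apply,
    Algebra.algebraMap_eq_smul_one, map_smul, smul_eq_mul]
  change _ = ((Coalgebra.counit (R := R) x) • (1 : D R A)).ofConv a
  rw [WithConv.ofConv_smul, LinearMap.smul_apply, coalgebra_counit_apply, LinearMap.convOne_def,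
    ofConv_toConv]
  simp only [LinearMap.coe_comp, Function.comp_apply, Algebra.linearMap_apply,
    Algebra.algebraMap_eq_smul_one, smul_eq_mul, mul_one]
  ring

theorem transposeLin_convPow (f : WithConv (A →ₗ[R] A)) (n : ℕ) :
    toConv (transposeLin R (f ^ n).ofConv) = (toConv (transposeLin R f.ofConv)) ^ n := by
  induction n with
  | zero => rw [pow_zero, pow_zero]; exact transposeLin_convOne R A
  | succ n ih => rw [pow_succ, pow_succ, transposeLin_convMul, ih]

end Lin

section Hopf

variable (R : Type u) [CommRing R] (A : Type u) [CommRing A] [HopfAlgebra R A]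
  [Coalgebra.IsCocomm R A] [Module.Finite R A] [Module.Projective R A]

/-- the power maps of the dual are the transposes of the power maps -/
theorem powConv_dual (n : ℕ) :
    (SGA3b.powConv R (D R A) n).toLinearMap =
      transposeLin R (SGA3b.powConv R A n).toLinearMap := by
  apply WithConv.toConv_injective
  have h1 : toConv (SGA3b.powConv R (D R A) n).toLinearMap =
      (toConv (LinearMap.id : D R A →ₗ[R] D R A)) ^ n := by
    unfold SGA3b.powConv
    rw [AlgHom.toLinearMap_convPow]; rfl
  have h2 : toConv (SGA3b.powConv R A n).toLinearMap =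
      (toConv (LinearMap.id : A →ₗ[R] A)) ^ n := by
    unfold SGA3b.powConv
    rw [AlgHom.toLinearMap_convPow]; rfl
  rw [h1]
  have h3 : (SGA3b.powConv R A n).toLinearMap = ((toConv (LinearMap.id : A →ₗ[R] A)) ^ n).ofConv := by
    rw [← h2, ofConv_toConv]
  rw [h3, transposeLin_convPow]
  rfl

theorem Lact_dual (p : ℕ) (m : (ZMod p)ˣ) :
    OTHopf.Lact (R := R) (A := D R A) p m = transposeLin R (OTHopf.Lact (R := R) (A := A) p m) :=
  powConv_dual R A _

theorem Lact_dual_apply (p : ℕ) (m : (ZMod p)ˣ) (x : D R A) (a : A) :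
    (OTHopf.Lact (R := R) (A := D R A) p m x).ofConv a = x.ofConv (OTHopf.Lact (R := R) (A := A) p m a) := by
  rw [Lact_dual]; rfl

end Hopf

section More

open OTChar OTHopf

variable (p : ℕ) [Fact p.Prime] {R : Type u} [CommRing R] (u : R)
  (χ : (ZMod p)ˣ →* Rˣ)

/-- `e_i ∘ L n = χ(n)^i • e_i` for an action of the commutative group `(ZMod p)ˣ`. -/
theorem avg_L {V : Type u} [AddCommGroup V] [Module R V]
    (L : (ZMod p)ˣ → (V →ₗ[R] V)) (hLmul : ∀ m n, L (m * n) = (L m).comp (L n))
    (i : ℕ) (n : (ZMod p)ˣ) (f : V) :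
    avg p u χ L i (L n f) = (((χ n : Rˣ) : R) ^ i) • avg p u χ L i f := by
  rw [← L_avg p u χ L hLmul i n f, avg_apply, avg_apply, map_smul, map_sum]
  congr 1
  refine Finset.sum_congr rfl fun m _ => ?_
  rw [map_smul]
  congr 1
  have h1 : L m (L n f) = (L (m * n)) f := by rw [hLmul]; rfl
  have h2 : L n (L m f) = (L (n * m)) f := by rw [hLmul]; rfl
  rw [h1, h2, mul_comm]

variable {A : Type u} [CommRing A] [HopfAlgebra R A]

/-- `e_i` maps the augmentation ideal into the `χ^i`-eigenspace. -/
theorem avg_mem_eigenAug (hp : (WithConv.toConv (AlgHom.id R A)) ^ p = 1) (i : ℕ) (f : A)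
    (hf : Coalgebra.counit (R := R) f = 0) :
    avg p u χ (Lact (R := R) (A := A) p) i f ∈ OortTate.eigenAug R A p χ i := by
  rw [mem_eigenAug]
  refine ⟨?_, fun m => L_avg p u χ _ (Lact_mul p hp) i m f⟩
  rw [avg_apply, map_smul, map_sum]
  have : ∀ m : (ZMod p)ˣ, Coalgebra.counit (R := R)
      ((((χ m⁻¹ : Rˣ) : R) ^ i) • Lact (R := R) (A := A) p m f) = 0 := by
    intro m; rw [map_smul, counit_Lact, hf, smul_zero]
  rw [Finset.sum_congr rfl (fun m _ => this m), Finset.sum_const_zero, smul_zero]

theorem sub_counit_mem (a : A) :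
    Coalgebra.counit (R := R) (a - algebraMap R A (Coalgebra.counit (R := R) a)) = 0 := by
  rw [map_sub]
  have : Coalgebra.counit (R := R) (algebraMap R A (Coalgebra.counit (R := R) a)) =
      Coalgebra.counit (R := R) a := by
    rw [Algebra.algebraMap_eq_smul_one, map_smul, Bialgebra.counit_one, smul_eq_mul, mul_one]
  rw [this, sub_self]

theorem Lact_algebraMap (m : (ZMod p)ˣ) (r : R) :
    Lact (R := R) (A := A) p m (algebraMap R A r) = algebraMap R A r := by
  unfold Lact
  exact AlgHom.commutes _ r

variable [Coalgebra.IsCocomm R A] [Module.Finite R A] [Module.Projective R A]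

/-- the averaging operator of the dual is the transpose of the averaging operator -/
theorem avg_dual_apply (i : ℕ) (x : D R A) (a : A) :
    (avg p u χ (Lact (R := R) (A := D R A) p) i x).ofConv a =
      x.ofConv (avg p u χ (Lact (R := R) (A := A) p) i a) := by
  rw [avg_apply, avg_apply, WithConv.ofConv_smul, LinearMap.smul_apply, map_smul]
  congr 1
  rw [map_sum, WithConv.ofConv_sum, LinearMap.sum_apply]
  refine Finset.sum_congr rfl fun m _ => ?_
  rw [WithConv.ofConv_smul, LinearMap.smul_apply, map_smul, Lact_dual_apply]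

end More

end Groth.Agent.Lib.Seat90.OTDual
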