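import Groth.Agent.Lib.Seat77OTh
import Groth.Agent.S18471

/-!
# Seat77 OTi: the Cartier pairing `ϕ : R[μ_p] → A ⊗ A^D` and the element `ϕ(y_1)`

`A ⊗ A^D ≅ End_R(A)` as algebras (convolution on the right); the canonical element `δ` goes to the
identity, `δ ^ m` to `[m]` and `ϕ(y_1)` to the projector onto `I_1`.
-/

set_option autoImplicit false
set_option linter.style.haveILetI false

namespace Groth.Agent.Lib.Seat77.OTi

open TensorProduct WithConv Groth.Agent.Lib.Seat90 Groth.Agent.Lib.Seat90.OTChar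
  Groth.Agent.Lib.Seat90.OTHopf Groth.Agent.Lib.Seat77.OTf Groth.Agent.Lib.Seat77.OTg
  Groth.Agent.Lib.Seat77.OTh

universe u

section Theta

variable {R : Type u} [CommRing R] {A : Type u} [CommRing A] [HopfAlgebra R A]
  [Coalgebra.IsCocomm R A] [Module.Finite R A] [Module.Projective R A]

/-- `a ⊗ φ ↦ (b ↦ φ b • a)`. -/
noncomputable def Theta : A ⊗[R] CartDual.D R A →ₗ[R] (A →ₗ[R] A) :=
  dualTensorHom R A A ∘ₗ (TensorProduct.comm R A (Module.Dual R A)).toLinearMap ∘ₗ
    LinearMap.lTensor A (CartDual.toDual R A).toLinearMap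

omit [Coalgebra.IsCocomm R A] [Module.Finite R A] [Module.Projective R A] in
theorem Theta_tmul (a : A) (φ : CartDual.D R A) (b : A) :
    Theta (R := R) (a ⊗ₜ[R] φ) b = φ.ofConv b • a := by
  simp [Theta]

omit [Coalgebra.IsCocomm R A] in
theorem Theta_injective : Function.Injective (Theta (R := R) (A := A)) := by
  unfold Theta
  rw [LinearMap.coe_comp, LinearMap.coe_comp]
  refine (dualTensorHom_bijective (R := R) (M := A) (N := A)).1.comp
    ((TensorProduct.comm R A (Module.Dual R A)).injective.comp ?_)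
  exact (LinearEquiv.lTensor A (CartDual.toDual R A)).injective

omit [Coalgebra.IsCocomm R A] [Module.Finite R A] [Module.Projective R A] in
/-- `hδ` says that `Theta δ = id`. -/
theorem Theta_apply_eq (z : A ⊗[R] CartDual.D R A) (a : A) :
    Theta (R := R) z a = TensorProduct.rid R A
      (LinearMap.lTensor A ((Module.Dual.eval R A a) ∘ₗ (CartDual.toDual R A).toLinearMap) z) := by
  induction z using TensorProduct.induction_on with
  | zero => simp
  | tmul x φ => simp [Theta_tmul]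
  | add x y hx hy => rw [map_add, LinearMap.add_apply, hx, hy, map_add, map_add]

end Theta

section ThetaAlg

variable {R : Type u} [CommRing R] {A : Type u} [CommRing A] [HopfAlgebra R A]
  [Coalgebra.IsCocomm R A] [Module.Finite R A] [Module.Projective R A]

/-- Search shortcut (cf. `CartDual.instRightDistribClassTensor`). -/
local instance instRightDistribClassAD : RightDistribClass (A ⊗[R] CartDual.D R A) := by
  let _ : Semiring (A ⊗[R] CartDual.D R A) := inferInstance
  infer_instance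

/-- Search shortcut (cf. `CartDual.instLeftDistribClassTensor`). -/
local instance instLeftDistribClassAD : LeftDistribClass (A ⊗[R] CartDual.D R A) := by
  let _ : Semiring (A ⊗[R] CartDual.D R A) := inferInstance
  infer_instance

/-- Search shortcut. -/
noncomputable local instance instMulZeroClassAD : MulZeroClass (A ⊗[R] CartDual.D R A) := by
  let _ : Semiring (A ⊗[R] CartDual.D R A) := inferInstance
  infer_instance

omit [Coalgebra.IsCocomm R A] [Module.Finite R A] [Module.Projective R A] in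
theorem Theta_one : toConv (Theta (R := R) (A := A) 1) = 1 := by
  apply WithConv.ext
  apply LinearMap.ext
  intro b
  rw [Algebra.TensorProduct.one_def]
  change Theta (R := R) ((1 : A) ⊗ₜ[R] (1 : CartDual.D R A)) b = _
  rw [Theta_tmul]
  change (1 : CartDual.D R A) b • (1 : A) = (1 : WithConv (A →ₗ[R] A)) b
  rw [LinearMap.convOne_apply, LinearMap.convOne_apply, Algebra.algebraMap_eq_smul_one,
    Algebra.algebraMap_eq_smul_one, smul_eq_mul, mul_one]

omit [Coalgebra.IsCocomm R A] [Module.Finite R A] [Module.Projective R A] in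
theorem Theta_mul_tmul (a a' : A) (φ φ' : CartDual.D R A) :
    toConv (Theta (R := R) ((a ⊗ₜ[R] φ) * (a' ⊗ₜ[R] φ'))) =
      toConv (Theta (R := R) (a ⊗ₜ[R] φ)) * toConv (Theta (R := R) (a' ⊗ₜ[R] φ')) := by
  have key : ∀ t : A ⊗[R] A,
      LinearMap.mul' R R (TensorProduct.map φ.ofConv φ'.ofConv t) • (a * a') =
        LinearMap.mul' R A (TensorProduct.map (Theta (R := R) (a ⊗ₜ[R] φ))
          (Theta (R := R) (a' ⊗ₜ[R] φ')) t) := by
    intro t
    induction t using TensorProduct.induction_on with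
    | zero => simp
    | tmul c d =>
      rw [TensorProduct.map_tmul, TensorProduct.map_tmul, LinearMap.mul'_apply,
        LinearMap.mul'_apply, Theta_tmul, Theta_tmul, smul_mul_smul_comm]
    | add x y hx hy => rw [map_add, map_add, add_smul, hx, hy, map_add, map_add]
  apply WithConv.ext
  apply LinearMap.ext
  intro b
  rw [Algebra.TensorProduct.tmul_mul_tmul]
  change Theta (R := R) ((a * a') ⊗ₜ[R] (φ * φ')) b = _
  rw [Theta_tmul]
  exact key (Coalgebra.comul (R := R) b)

omit [Coalgebra.IsCocomm R A] [Module.Finite R A] [Module.Projective R A] in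
theorem Theta_mul (x y : A ⊗[R] CartDual.D R A) :
    toConv (Theta (R := R) (x * y)) = toConv (Theta (R := R) x) * toConv (Theta (R := R) y) := by
  induction x using TensorProduct.induction_on with
  | zero => rw [zero_mul, map_zero, toConv_zero, zero_mul]
  | tmul a φ =>
    induction y using TensorProduct.induction_on with
    | zero => rw [mul_zero, map_zero, toConv_zero, mul_zero]
    | tmul a' φ' => exact Theta_mul_tmul a a' φ φ'
    | add y y' hy hy' => rw [mul_add, map_add, toConv_add, hy, hy', map_add, toConv_add, mul_add]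
  | add x x' hx hx' => rw [add_mul, map_add, toConv_add, hx, hx', map_add, toConv_add, add_mul]

/-- `Theta` as an algebra map to the convolution algebra. -/
noncomputable def ThetaAlg : A ⊗[R] CartDual.D R A →ₐ[R] WithConv (A →ₗ[R] A) :=
  AlgHom.ofLinearMap ((WithConv.linearEquiv R (A →ₗ[R] A)).symm.toLinearMap ∘ₗ Theta (R := R))
    Theta_one Theta_mul

omit [Coalgebra.IsCocomm R A] [Module.Finite R A] [Module.Projective R A] in
theorem ThetaAlg_apply (z : A ⊗[R] CartDual.D R A) :
    ThetaAlg (R := R) (A := A) z = toConv (Theta (R := R) z) := rfl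

end ThetaAlg

section Delta

variable (p : ℕ) [hp : Fact p.Prime] {R : Type u} [CommRing R] (u : R)
  (hu : u * ((p - 1 : ℕ) : R) = 1) (χ : (ZMod p)ˣ →* Rˣ)
  {A : Type u} [CommRing A] [HopfAlgebra R A]
  [Coalgebra.IsCocomm R A] [Module.Finite R A] [Module.Projective R A]
  (δ : A ⊗[R] CartDual.D R A)
  (hδ : ∀ a : A, TensorProduct.rid R A
    (LinearMap.lTensor A ((Module.Dual.eval R A a) ∘ₗ (CartDual.toDual R A).toLinearMap) δ) = a)

include hδ in
omit [Coalgebra.IsCocomm R A] [Module.Finite R A] [Module.Projective R A] in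
theorem Theta_delta : Theta (R := R) δ = LinearMap.id := by
  apply LinearMap.ext
  intro a
  rw [Theta_apply_eq, hδ, LinearMap.id_apply]

include hδ in
omit [Coalgebra.IsCocomm R A] [Module.Finite R A] [Module.Projective R A] in
theorem Theta_delta_pow (n : ℕ) :
    Theta (R := R) (δ ^ n) = (SGA3b.powConv R A n).toLinearMap := by
  have h1 : toConv (Theta (R := R) (δ ^ n)) = (toConv (LinearMap.id : A →ₗ[R] A)) ^ n := by
    induction n with
    | zero => rw [pow_zero, pow_zero, Theta_one]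
    | succ n ih => rw [pow_succ, pow_succ, Theta_mul, ih, Theta_delta δ hδ]
  have h2 := AlgHom.toLinearMap_convPow (toConv (AlgHom.id R A)) n
  have h3 : Theta (R := R) (δ ^ n) = ((toConv (LinearMap.id : A →ₗ[R] A)) ^ n).ofConv := by
    rw [← h1, ofConv_toConv]
  rw [h3]
  unfold SGA3b.powConv
  rw [← ofConv_toConv ((toConv (AlgHom.id R A) ^ n).ofConv.toLinearMap), h2]
  rfl

end Delta

section Generic

variable (p : ℕ) [hp : Fact p.Prime] {R : Type u} [CommRing R] (u : R) (χ : (ZMod p)ˣ →* Rˣ)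
  {B : Type*} [Semiring B] [Algebra R B] {V : Type*} [AddCommGroup V] [Module R V]
  (ϕ : MonoidAlgebra R (Multiplicative (ZMod p)) →ₐ[R] B) (Θ : B →ₗ[R] V)

theorem phi_e_generic (m : (ZMod p)ˣ) :
    ϕ (OTMuP.e p R m) + 1 = ϕ (OortTate.muT R p) ^ (m : ZMod p).val := by
  have h1 : OTMuP.T p R (m : ZMod p) = OTMuP.T p R 1 ^ (m : ZMod p).val := by
    rw [OTMuP.T_one_pow, ZMod.natCast_zmod_val]
  unfold OTMuP.e
  rw [← map_one ϕ, ← map_add, sub_add_cancel, h1, map_pow, OTMuP.muT_eq]

theorem Theta_phi_ygen_generic (i : ℕ) :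
    Θ (ϕ (OortTate.ygen R p u χ i)) = u • ∑ m : (ZMod p)ˣ, (((χ m⁻¹ : Rˣ) : R) ^ i) •
      (Θ (ϕ (OortTate.muT R p) ^ (m : ZMod p).val) - Θ 1) := by
  rw [OTMuP.ygen_eq, map_smul, map_smul, map_sum, map_sum]
  congr 1
  refine Finset.sum_congr rfl (fun m _ => ?_)
  rw [map_smul, map_smul, ← phi_e_generic p ϕ m, map_add, add_sub_cancel_right]

end Generic

section Phi

variable (p : ℕ) [hp : Fact p.Prime] {R : Type u} [CommRing R] (u : R)
  (hu : u * ((p - 1 : ℕ) : R) = 1) (χ : (ZMod p)ˣ →* Rˣ)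
  {A : Type u} [CommRing A] [HopfAlgebra R A]
  [Coalgebra.IsCocomm R A] [Module.Finite R A] [Module.Projective R A]
  (δ : A ⊗[R] CartDual.D R A)
  (hδ : ∀ a : A, TensorProduct.rid R A
    (LinearMap.lTensor A ((Module.Dual.eval R A a) ∘ₗ (CartDual.toDual R A).toLinearMap) δ) = a)
  (ϕ : MonoidAlgebra R (Multiplicative (ZMod p)) →ₐ[R] A ⊗[R] CartDual.D R A)
  (hϕ : ϕ (OortTate.muT R p) = δ)

include hδ hϕ in
omit [Coalgebra.IsCocomm R A] [Module.Finite R A] [Module.Projective R A] in
theorem Theta_phi_ygen (i : ℕ) :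
    Theta (R := R) (ϕ (OortTate.ygen R p u χ i)) = Pr p u χ i := by
  rw [Theta_phi_ygen_generic p u χ ϕ (Theta (R := R) (A := A)) i, hϕ]
  apply LinearMap.ext
  intro b
  unfold Pr OortTate.proj
  rw [LinearMap.smul_apply, LinearMap.sum_apply, LinearMap.comp_apply, LinearMap.smul_apply,
    LinearMap.sum_apply]
  congr 1
  refine Finset.sum_congr rfl (fun m _ => ?_)
  rw [LinearMap.smul_apply, LinearMap.smul_apply]
  congr 1
  rw [LinearMap.sub_apply, Theta_delta_pow δ hδ, aug_apply, map_sub]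
  congr 1
  have h1 : Theta (R := R) (1 : A ⊗[R] CartDual.D R A) = (1 : WithConv (A →ₗ[R] A)).ofConv := by
    rw [← Theta_one, ofConv_toConv]
  rw [h1]
  change (1 : WithConv (A →ₗ[R] A)) b = _
  rw [LinearMap.convOne_apply, AlgHom.toLinearMap_apply, AlgHom.commutes]

end Phi

section Main

variable (p : ℕ) [hp : Fact p.Prime] {R : Type u} [CommRing R] (u : R)
  (hu : u * ((p - 1 : ℕ) : R) = 1) (χ : (ZMod p)ˣ →* Rˣ)
  (hχ : ∀ m : (ZMod p)ˣ, m ≠ 1 → IsUnit ((χ m : R) - 1))
  (hχp : ∀ m : (ZMod p)ˣ, ((χ m : Rˣ) : R) - (((m : ZMod p).val : ℕ) : R) ∈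
    Ideal.span ({(p : R)} : Set R))
  {A : Type u} [CommRing A] [HopfAlgebra R A]
  [Coalgebra.IsCocomm R A] [Module.Finite R A] [Module.Projective R A]
  (hkill : (WithConv.toConv (AlgHom.id R A)) ^ p = 1)
  (hrk : ∀ q : PrimeSpectrum R, Module.rankAtStalk A q = p)
  (δ : A ⊗[R] CartDual.D R A)
  (hδ : ∀ a : A, TensorProduct.rid R A
    (LinearMap.lTensor A ((Module.Dual.eval R A a) ∘ₗ (CartDual.toDual R A).toLinearMap) δ) = a)
  (ϕ : MonoidAlgebra R (Multiplicative (ZMod p)) →ₐ[R] A ⊗[R] CartDual.D R A)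
  (hϕ : ϕ (OortTate.muT R p) = δ)

include hu in
/-- An eigenform in `I_i(A^D)` only sees the `I_i(A)`-component. -/
theorem dual_apply_Pr (i : ℕ) (φ : CartDual.D R A)
    (hφ : φ ∈ OortTate.eigenAug R (CartDual.D R A) p χ i) (b : A) :
    φ.ofConv b = φ.ofConv (Pr p u χ i b) := by
  have hf' := (mem_eigenAug p χ i φ).1 hφ
  have h1 : φ.ofConv 1 = 0 := hf'.1
  have h2 : avg p u χ (Lact (R := R) (A := CartDual.D R A) p) i φ = φ :=
    avg_of_eigen p u hu χ _ i φ hf'.2
  change _ = φ.ofConv (avg p u χ (Lact (R := R) (A := A) p) i (aug (R := R) b))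
  rw [← OTDual.avg_dual_apply, h2, aug_apply, map_sub, Algebra.algebraMap_eq_smul_one, map_smul,
    h1, smul_zero, sub_zero]

include hu hχ hχp hkill hrk hδ hϕ in
theorem tmul_eq_smul (a : A) (ha : a ∈ OortTate.eigenAug R A p χ 1) (φ : CartDual.D R A)
    (hφ : φ ∈ OortTate.eigenAug R (CartDual.D R A) p χ 1) :
    ∃ r : R, a ⊗ₜ[R] φ = r • ϕ (OortTate.ygen R p u χ 1) := by
  haveI := invertible_eigenAug p u hu χ hχ hχp hkill hrk (A := A) 1
  let g : ↥(OortTate.eigenAug R A p χ 1) →ₗ[R] ↥(OortTate.eigenAug R A p χ 1) :=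
    ((CartDual.toDual R A φ).comp (OortTate.eigenAug R A p χ 1).subtype).smulRight ⟨a, ha⟩
  obtain ⟨r, hr⟩ := (Module.Invertible.toModuleEnd_bijective R
    ↥(OortTate.eigenAug R A p χ 1)).2 g
  refine ⟨r, Theta_injective (R := R) (A := A) ?_⟩
  rw [map_smul, Theta_phi_ygen p u χ δ hδ ϕ hϕ 1]
  apply LinearMap.ext
  intro b
  rw [Theta_tmul, LinearMap.smul_apply, dual_apply_Pr p u hu χ 1 φ hφ b]
  have h3 := LinearMap.congr_fun hr ⟨Pr p u χ 1 b, Pr_mem p u χ hkill 1 b⟩
  have h4 := congrArg Subtype.val h3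
  simpa [g] using h4.symm

include hu hχ hχp hkill hrk hδ hϕ in
theorem range_le_span :
    LinearMap.range (TensorProduct.map (OortTate.eigenAug R A p χ 1).subtype
      (OortTate.eigenAug R (CartDual.D R A) p χ 1).subtype) ≤
      Submodule.span R {ϕ (OortTate.ygen R p u χ 1)} := by
  rintro _ ⟨w, rfl⟩
  induction w using TensorProduct.induction_on with
  | zero => rw [map_zero]; exact Submodule.zero_mem _
  | tmul a φ =>
    obtain ⟨r, hr⟩ := tmul_eq_smul p u hu χ hχ hχp hkill hrk δ hδ ϕ hϕ a.1 a.2 φ.1 φ.2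
    rw [TensorProduct.map_tmul]
    change a.1 ⊗ₜ[R] φ.1 ∈ _
    rw [hr]
    exact Submodule.smul_mem _ r (Submodule.mem_span_singleton_self _)
  | add x y hx hy => rw [map_add]; exact Submodule.add_mem _ hx hy

include hu hχ hkill hδ hϕ in
theorem phi_ygen_mem_range :
    ϕ (OortTate.ygen R p u χ 1) ∈
      LinearMap.range (TensorProduct.map (OortTate.eigenAug R A p χ 1).subtype
        (OortTate.eigenAug R (CartDual.D R A) p χ 1).subtype) := by
  classical
  haveI := finite_eigenAug p u hu χ hkill (A := A) 1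
  haveI := projective_eigenAug p u hu χ hkill (A := A) 1
  obtain ⟨n, f, g, -, -, hfg⟩ := Module.Finite.exists_comp_eq_id_of_projective R
    ↥(OortTate.eigenAug R A p χ 1)
  let x : Fin n → ↥(OortTate.eigenAug R A p χ 1) := fun k => f (Pi.single k 1)
  let l : Fin n → (↥(OortTate.eigenAug R A p χ 1) →ₗ[R] R) := fun k => LinearMap.proj k ∘ₗ g
  have hdual : ∀ y : ↥(OortTate.eigenAug R A p χ 1), y = ∑ k, l k y • x k := by
    intro y
    have h1 : f (g y) = y := LinearMap.congr_fun hfg y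
    conv_lhs => rw [← h1, ← Finset.univ_sum_single (g y)]
    rw [map_sum]
    refine Finset.sum_congr rfl (fun k _ => ?_)
    change f (Pi.single k (g y k)) = (g y k) • f (Pi.single k 1)
    rw [← map_smul, ← Pi.single_smul, smul_eq_mul, mul_one]
  have hbij := Groth.Agent.S18471.result p R u hu χ hχ A hkill 1
  choose ξ hξ using fun k => hbij.2 (l k)
  refine ⟨∑ k, x k ⊗ₜ[R] ξ k, Theta_injective (R := R) (A := A) ?_⟩
  rw [Theta_phi_ygen p u χ δ hδ ϕ hϕ 1, map_sum, map_sum]
  apply LinearMap.ext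
  intro b
  rw [LinearMap.sum_apply]
  have h2 : Pr p u χ 1 b = ((∑ k, (l k) ⟨Pr p u χ 1 b, Pr_mem p u χ hkill 1 b⟩ • x k :
      ↥(OortTate.eigenAug R A p χ 1)) : A) :=
    congrArg Subtype.val (hdual ⟨Pr p u χ 1 b, Pr_mem p u χ hkill 1 b⟩)
  conv_rhs => rw [h2]
  rw [AddSubmonoidClass.coe_finsetSum]
  refine Finset.sum_congr rfl (fun k _ => ?_)
  rw [TensorProduct.map_tmul, Submodule.subtype_apply, Submodule.subtype_apply, Theta_tmul,
    dual_apply_Pr p u hu χ 1 (ξ k).1 (ξ k).2 b, Submodule.coe_smul]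
  congr 1
  have h3 := LinearMap.congr_fun (hξ k) ⟨Pr p u χ 1 b, Pr_mem p u χ hkill 1 b⟩
  exact h3

include hu hχ hχp hkill hrk hδ hϕ in
omit [Coalgebra.IsCocomm R A] in
theorem smul_phi_ygen_eq_zero (r : R) (h : r • ϕ (OortTate.ygen R p u χ 1) = 0) : r = 0 := by
  haveI := finite_eigenAug p u hu χ hkill (A := A) 1
  haveI := projective_eigenAug p u hu χ hkill (A := A) 1
  apply Groth.Agent.Lib.Seat77.RankOne.eq_zero_of_smul_eq_zero
    (rankAtStalk_eigenAug p u hu χ hχ hχp hkill hrk (A := A) 1) r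
  intro y
  have h1 := congrArg (Theta (R := R) (A := A)) h
  rw [map_smul, Theta_phi_ygen p u χ δ hδ ϕ hϕ 1, map_zero] at h1
  have h2 := LinearMap.congr_fun h1 y.1
  rw [LinearMap.smul_apply, Pr_of_mem p u hu χ 1 y.1 y.2, LinearMap.zero_apply] at h2
  exact Subtype.ext h2

end Main

end Groth.Agent.Lib.Seat77.OTi
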