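import Groth.Agent.Lib.Seat77OTi
import Groth.Agent.Lib.Seat77DualRank

/-!
# Seat77 OTj: a group scheme of prime order is determined by `(I_1, a, b)` (Oort–Tate)

An isomorphism `θ : I_1(A) ≃ I_1(A')` compatible with the `p`-fold products of `A`, `A'` and of the
dual Hopf algebras extends to an isomorphism of bialgebras `A ≃ A'`.
-/

set_option autoImplicit false
set_option linter.style.haveILetI false
set_option linter.unusedSectionVars false

namespace Groth.Agent.Lib.Seat77.OTj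

open TensorProduct WithConv Groth.Agent.Lib.Seat90 Groth.Agent.Lib.Seat90.OTChar
  Groth.Agent.Lib.Seat90.OTHopf Groth.Agent.Lib.Seat77.OTf Groth.Agent.Lib.Seat77.OTg
  Groth.Agent.Lib.Seat77.OTh Groth.Agent.Lib.Seat77.OTi

universe u

section DualHyp

variable (p : ℕ) [hp : Fact p.Prime] {R : Type u} [CommRing R]
  {A : Type u} [CommRing A] [HopfAlgebra R A]
  [Coalgebra.IsCocomm R A] [Module.Finite R A] [Module.Projective R A]
  (hrk : ∀ q : PrimeSpectrum R, Module.rankAtStalk A q = p)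

include hrk in
omit hp in
theorem rank_D : ∀ q : PrimeSpectrum R, Module.rankAtStalk (CartDual.D R A) q = p := by
  intro q
  rw [Module.rankAtStalk_eq_of_equiv (CartDual.toDual R A),
    Groth.Agent.Lib.Seat77.DualRank.rankAtStalk_dual, hrk]

include hrk in
theorem kill_D : (WithConv.toConv (AlgHom.id R (CartDual.D R A))) ^ p = 1 :=
  Groth.Agent.Lib.Helper6.Deligne.deligne R (CartDual.D R A) p (rank_D p hrk)

end DualHyp

section Lift

theorem exists_algHom_of_surjective {R : Type*} [CommRing R] {T B C : Type*} [Ring T] [Ring B]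
    [Ring C] [Algebra R T] [Algebra R B] [Algebra R C] (φ : T →ₐ[R] B)
    (hφ : Function.Surjective φ) (Ψ : T →ₐ[R] C) (H : ∀ z, φ z = 0 → Ψ z = 0) :
    ∃ Θ : B →ₐ[R] C, ∀ z, Θ (φ z) = Ψ z := by
  refine ⟨(Ideal.Quotient.liftₐ (RingHom.ker φ) Ψ (fun a ha => H a ha)).comp
    (Ideal.quotientKerAlgEquivOfSurjective hφ).symm.toAlgHom, fun z => ?_⟩
  rw [AlgHom.comp_apply]
  change (Ideal.Quotient.liftₐ (RingHom.ker φ) Ψ _)
    ((Ideal.quotientKerAlgEquivOfSurjective hφ).symm (φ z)) = _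
  rw [Ideal.quotientKerAlgEquivOfSurjective_symm_apply]
  rfl

end Lift

section Extend

variable (p : ℕ) [hp : Fact p.Prime] {R : Type u} [CommRing R] (u : R)
  (hu : u * ((p - 1 : ℕ) : R) = 1) (χ : (ZMod p)ˣ →* Rˣ)
  (hχ : ∀ m : (ZMod p)ˣ, m ≠ 1 → IsUnit ((χ m : R) - 1))
  (hχp : ∀ m : (ZMod p)ˣ, ((χ m : Rˣ) : R) - (((m : ZMod p).val : ℕ) : R) ∈
    Ideal.span ({(p : R)} : Set R))
  {A : Type u} [CommRing A] [HopfAlgebra R A] [Module.Finite R A] [Module.Projective R A]
  (hkill : (WithConv.toConv (AlgHom.id R A)) ^ p = 1)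
  (hrk : ∀ q : PrimeSpectrum R, Module.rankAtStalk A q = p)
  {A' : Type u} [CommRing A'] [HopfAlgebra R A']

include hu hχ hχp hkill hrk in
/-- Algebra maps out of `A` are determined on `I_1`. -/
theorem algHom_ext_eigenAug {C : Type*} [Ring C] [Algebra R C] (f g : A →ₐ[R] C)
    (h : ∀ x : ↥(OortTate.eigenAug R A p χ 1), f (x : A) = g (x : A)) : f = g := by
  have h1 : f.comp (phi p χ (A := A)) = g.comp (phi p χ (A := A)) := by
    apply TensorAlgebra.hom_ext
    apply LinearMap.ext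
    intro x
    simp only [LinearMap.comp_apply, AlgHom.toLinearMap_apply, AlgHom.comp_apply]
    simpa [phi] using h x
  apply AlgHom.ext
  intro a
  obtain ⟨z, rfl⟩ := phi_surjective p u hu χ hχ hχp hkill hrk a
  exact AlgHom.congr_fun h1 z

include hu hχ hχp hkill hrk in
/-- A linear map `I_1(A) → I_1(A')` compatible with `p`-fold products extends to an algebra map. -/
theorem exists_ext (θ : ↥(OortTate.eigenAug R A p χ 1) →ₗ[R] ↥(OortTate.eigenAug R A' p χ 1))
    (hθ : ∀ (f : Fin p → OortTate.eigenAug R A p χ 1) (g : OortTate.eigenAug R A p χ 1),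
      (g : A) = ∏ i, (f i : A) → ((θ g : OortTate.eigenAug R A' p χ 1) : A') = ∏ i, ((θ (f i)) : A')) :
    ∃ Θ : A →ₐ[R] A', ∀ x : ↥(OortTate.eigenAug R A p χ 1), Θ (x : A) = (θ x : A') := by
  let Ψ : TensorAlgebra R ↥(OortTate.eigenAug R A p χ 1) →ₐ[R] A' :=
    TensorAlgebra.lift R ((OortTate.eigenAug R A' p χ 1).subtype ∘ₗ θ)
  have hΨι : ∀ x, Ψ (TensorAlgebra.ι R x) = (θ x : A') := by
    intro x
    simp [Ψ]
  have hle : relIdeal p χ A ≤ RingHom.ker Ψ := by
    unfold relIdeal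
    rw [Ideal.span_le]
    rintro _ ⟨f, g, hg, rfl⟩
    rw [SetLike.mem_coe, RingHom.mem_ker, map_sub, map_list_prod, List.map_ofFn, sub_eq_zero]
    have h1 : (⇑Ψ ∘ fun i => TensorAlgebra.ι R (f i)) = fun i => ((θ (f i)) : A') := by
      funext i
      exact hΨι (f i)
    rw [h1, List.prod_ofFn, hΨι, hθ f g hg]
  have H : ∀ z, phi p χ (A := A) z = 0 → Ψ z = 0 := by
    intro z hz
    have : z ∈ RingHom.ker (phi p χ (A := A)) := hz
    rw [ker_phi p u hu χ hχ hχp hkill hrk] at this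
    exact hle this
  obtain ⟨Θ, hΘ⟩ := exists_algHom_of_surjective (phi p χ (A := A))
    (phi_surjective p u hu χ hχ hχp hkill hrk) Ψ H
  refine ⟨Θ, fun x => ?_⟩
  have := hΘ (TensorAlgebra.ι R x)
  rw [hΨι] at this
  rw [← this]
  congr 1
  simp [phi]

end Extend

section Compat

variable (p : ℕ) [hp : Fact p.Prime] {R : Type u} [CommRing R] (u : R)
  (hu : u * ((p - 1 : ℕ) : R) = 1) (χ : (ZMod p)ˣ →* Rˣ)
  (hχ : ∀ m : (ZMod p)ˣ, m ≠ 1 → IsUnit ((χ m : R) - 1))
  (hχp : ∀ m : (ZMod p)ˣ, ((χ m : Rˣ) : R) - (((m : ZMod p).val : ℕ) : R) ∈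
    Ideal.span ({(p : R)} : Set R))
  {A : Type u} [CommRing A] [HopfAlgebra R A] [Module.Finite R A] [Module.Projective R A]
  (hkill : (WithConv.toConv (AlgHom.id R A)) ^ p = 1)
  (hrk : ∀ q : PrimeSpectrum R, Module.rankAtStalk A q = p)
  {A' : Type u} [CommRing A'] [HopfAlgebra R A']
  (Θ : A →ₐ[R] A')
  (hΘ : ∀ x : A, x ∈ OortTate.eigenAug R A p χ 1 → Θ x ∈ OortTate.eigenAug R A' p χ 1)

include hu hχ hχp hkill hrk hΘ in
theorem counit_comp : (Bialgebra.counitAlgHom R A').comp Θ = Bialgebra.counitAlgHom R A := by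
  apply algHom_ext_eigenAug p u hu χ hχ hχp hkill hrk
  intro x
  have h1 := ((mem_eigenAug p χ 1 (x : A)).mp x.2).1
  have h2 := ((mem_eigenAug p χ 1 (Θ (x : A))).mp (hΘ x x.2)).1
  rw [AlgHom.comp_apply, Bialgebra.counitAlgHom_apply, Bialgebra.counitAlgHom_apply, h1, h2]

include hu hχ hχp hkill hrk hΘ in
theorem powConv_comp (m : (ZMod p)ˣ) :
    Θ.comp (SGA3b.powConv R A (m : ZMod p).val) =
      (SGA3b.powConv R A' (m : ZMod p).val).comp Θ := by
  apply algHom_ext_eigenAug p u hu χ hχ hχp hkill hrk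
  intro x
  have h1 := ((mem_eigenAug p χ 1 (x : A)).mp x.2).2 m
  have h2 := ((mem_eigenAug p χ 1 (Θ (x : A))).mp (hΘ x x.2)).2 m
  unfold Lact at h1 h2
  rw [AlgHom.toLinearMap_apply] at h1 h2
  rw [AlgHom.comp_apply, AlgHom.comp_apply, h1, h2, map_smul]

include hu hχ hχp hkill hrk hΘ in
theorem Pr_comp (i : ℕ) (b : A) : Θ (Pr p u χ i b) = Pr p u χ i (Θ b) := by
  have hc := AlgHom.congr_fun (counit_comp p u hu χ hχ hχp hkill hrk Θ hΘ) b
  rw [AlgHom.comp_apply, Bialgebra.counitAlgHom_apply, Bialgebra.counitAlgHom_apply] at hc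
  unfold Pr OortTate.proj
  rw [LinearMap.comp_apply, LinearMap.comp_apply, LinearMap.smul_apply, LinearMap.smul_apply,
    LinearMap.sum_apply, LinearMap.sum_apply, map_smul, map_sum]
  congr 1
  refine Finset.sum_congr rfl (fun m _ => ?_)
  rw [LinearMap.smul_apply, LinearMap.smul_apply, map_smul, AlgHom.toLinearMap_apply,
    AlgHom.toLinearMap_apply]
  congr 1
  have h1 := AlgHom.congr_fun (powConv_comp p u hu χ hχ hχp hkill hrk Θ hΘ m) (aug (R := R) b)
  rw [AlgHom.comp_apply, AlgHom.comp_apply] at h1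
  rw [h1]
  congr 1
  rw [aug_apply, aug_apply, map_sub, AlgHom.commutes, hc]

include hu hχ hχp hkill hrk hΘ in
theorem map_eigenAug (i : ℕ) (x : A) (hx : x ∈ OortTate.eigenAug R A p χ i) :
    Θ x ∈ OortTate.eigenAug R A' p χ i := by
  have hx' := (mem_eigenAug p χ i x).mp hx
  rw [mem_eigenAug]
  refine ⟨?_, fun m => ?_⟩
  · have hc := AlgHom.congr_fun (counit_comp p u hu χ hχ hχp hkill hrk Θ hΘ) x
    rw [AlgHom.comp_apply, Bialgebra.counitAlgHom_apply, Bialgebra.counitAlgHom_apply] at hc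
    rw [hc, hx'.1]
  · have h1 := AlgHom.congr_fun (powConv_comp p u hu χ hχ hχp hkill hrk Θ hΘ m) x
    have h2 := hx'.2 m
    unfold Lact at h2 ⊢
    rw [AlgHom.toLinearMap_apply] at h2 ⊢
    rw [AlgHom.comp_apply, AlgHom.comp_apply, h2, map_smul] at h1
    exact h1.symm

end Compat

section Transpose

variable {R : Type u} [CommRing R] {A : Type u} [AddCommGroup A] [Module R A]
  {A' : Type u} [AddCommGroup A'] [Module R A']

/-- The transpose of a linear map, between the carriers of the dual algebras. -/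
noncomputable def tr (f : A →ₗ[R] A') : CartDual.D R A' →ₗ[R] CartDual.D R A :=
  (CartDual.toDual R A).symm.toLinearMap ∘ₗ f.dualMap ∘ₗ (CartDual.toDual R A').toLinearMap

theorem tr_apply (f : A →ₗ[R] A') (φ' : CartDual.D R A') (a : A) :
    (tr f φ').ofConv a = φ'.ofConv (f a) := rfl

end Transpose

section TransposeEigen

variable (p : ℕ) [hp : Fact p.Prime] {R : Type u} [CommRing R] (u : R)
  (hu : u * ((p - 1 : ℕ) : R) = 1) (χ : (ZMod p)ˣ →* Rˣ)
  (hχ : ∀ m : (ZMod p)ˣ, m ≠ 1 → IsUnit ((χ m : R) - 1))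
  (hχp : ∀ m : (ZMod p)ˣ, ((χ m : Rˣ) : R) - (((m : ZMod p).val : ℕ) : R) ∈
    Ideal.span ({(p : R)} : Set R))
  {A : Type u} [CommRing A] [HopfAlgebra R A] [Coalgebra.IsCocomm R A] [Module.Finite R A]
  [Module.Projective R A]
  (hkill : (WithConv.toConv (AlgHom.id R A)) ^ p = 1)
  (hrk : ∀ q : PrimeSpectrum R, Module.rankAtStalk A q = p)
  {A' : Type u} [CommRing A'] [HopfAlgebra R A'] [Coalgebra.IsCocomm R A'] [Module.Finite R A']
  [Module.Projective R A']
  (Θ : A →ₐ[R] A')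
  (hΘ : ∀ x : A, x ∈ OortTate.eigenAug R A p χ 1 → Θ x ∈ OortTate.eigenAug R A' p χ 1)

include hu hχ hχp hkill hrk hΘ in
theorem tr_mem (i : ℕ) (φ' : CartDual.D R A')
    (hφ' : φ' ∈ OortTate.eigenAug R (CartDual.D R A') p χ i) :
    tr Θ.toLinearMap φ' ∈ OortTate.eigenAug R (CartDual.D R A) p χ i := by
  have hf' := (mem_eigenAug p χ i φ').1 hφ'
  have h1 : φ'.ofConv 1 = 0 := hf'.1
  rw [mem_eigenAug]
  refine ⟨?_, fun m => ?_⟩
  · change (tr Θ.toLinearMap φ').ofConv 1 = 0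
    rw [tr_apply, AlgHom.toLinearMap_apply, map_one, h1]
  · apply WithConv.ofConv_injective
    apply LinearMap.ext
    intro a
    rw [OTDual.Lact_dual_apply, tr_apply, AlgHom.toLinearMap_apply, WithConv.ofConv_smul,
      LinearMap.smul_apply, tr_apply, AlgHom.toLinearMap_apply]
    have h2 := AlgHom.congr_fun (powConv_comp p u hu χ hχ hχp hkill hrk Θ hΘ m) a
    rw [AlgHom.comp_apply, AlgHom.comp_apply] at h2
    have h3 : Θ (Lact (R := R) (A := A) p m a) = Lact (R := R) (A := A') p m (Θ a) := h2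
    rw [h3, ← OTDual.Lact_dual_apply, hf'.2 m, WithConv.ofConv_smul, LinearMap.smul_apply]

end TransposeEigen

section Canonical

variable (p : ℕ) [hp : Fact p.Prime] {R : Type u} [CommRing R] (u : R)
  (hu : u * ((p - 1 : ℕ) : R) = 1) (χ : (ZMod p)ˣ →* Rˣ)
  (hχ : ∀ m : (ZMod p)ˣ, m ≠ 1 → IsUnit ((χ m : R) - 1))
  (hχp : ∀ m : (ZMod p)ˣ, ((χ m : Rˣ) : R) - (((m : ZMod p).val : ℕ) : R) ∈
    Ideal.span ({(p : R)} : Set R))

/-- An element of order dividing `p` defines a map from the group algebra of `ℤ/p`. -/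
theorem exists_phi {B : Type*} [Semiring B] [Algebra R B] (δ : B) (h : δ ^ p = 1) :
    ∃ ϕ : MonoidAlgebra R (Multiplicative (ZMod p)) →ₐ[R] B, ϕ (OortTate.muT R p) = δ := by
  have h1p : 1 < p := hp.out.one_lt
  let f : Multiplicative (ZMod p) →* B :=
    { toFun := fun k => δ ^ (Multiplicative.toAdd k).val
      map_one' := by
        change δ ^ (0 : ZMod p).val = 1
        rw [ZMod.val_zero, pow_zero]
      map_mul' := by
        intro a b
        change δ ^ (Multiplicative.toAdd a + Multiplicative.toAdd b).val = _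
        rw [ZMod.val_add, ← pow_eq_pow_mod _ h, pow_add] }
  refine ⟨MonoidAlgebra.lift R B (Multiplicative (ZMod p)) f, ?_⟩
  rw [MonoidAlgebra.lift_of]
  change δ ^ (1 : ZMod p).val = δ
  haveI : Fact (1 < p) := ⟨h1p⟩
  rw [ZMod.val_one, pow_one]

include hu hχ hχp in
/-- `T` is a polynomial in `y_1`. -/
theorem exists_poly : ∃ P : Polynomial R,
    Polynomial.aeval (OortTate.ygen R p u χ 1) P = OortTate.muT R p := by
  have h := OTMuP.adjoin_ygen_one p u hu χ hχ hχp
  have h1 : OortTate.muT R p ∈ Algebra.adjoin R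
      ({OortTate.ygen R p u χ 1} : Set (MonoidAlgebra R (Multiplicative (ZMod p)))) := by
    rw [h]
    exact Algebra.mem_top
  rw [Algebra.adjoin_singleton_eq_range_aeval] at h1
  obtain ⟨P, hP⟩ := h1
  exact ⟨P, hP⟩

variable {A : Type u} [CommRing A] [HopfAlgebra R A]
  [Coalgebra.IsCocomm R A] [Module.Finite R A] [Module.Projective R A]
  (hkill : (WithConv.toConv (AlgHom.id R A)) ^ p = 1)

theorem Theta_surjective : Function.Surjective (Theta (R := R) (A := A)) := by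
  unfold Theta
  rw [LinearMap.coe_comp, LinearMap.coe_comp]
  refine (dualTensorHom_bijective (R := R) (M := A) (N := A)).2.comp
    ((TensorProduct.comm R A (Module.Dual R A)).surjective.comp ?_)
  exact (LinearEquiv.lTensor A (CartDual.toDual R A)).surjective

/-- The canonical element of `A ⊗ A^D`. -/
theorem exists_delta : ∃ δ : A ⊗[R] CartDual.D R A, ∀ a : A, TensorProduct.rid R A
    (LinearMap.lTensor A ((Module.Dual.eval R A a) ∘ₗ (CartDual.toDual R A).toLinearMap) δ) = a := by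
  obtain ⟨δ, hδ⟩ := Theta_surjective (R := R) (A := A) LinearMap.id
  refine ⟨δ, fun a => ?_⟩
  rw [← Theta_apply_eq, hδ, LinearMap.id_apply]

include hkill in
theorem delta_pow (δ : A ⊗[R] CartDual.D R A)
    (hδ : ∀ a : A, TensorProduct.rid R A
      (LinearMap.lTensor A ((Module.Dual.eval R A a) ∘ₗ (CartDual.toDual R A).toLinearMap) δ) = a) :
    δ ^ p = 1 := by
  apply Theta_injective (R := R) (A := A)
  have h0 := Theta_delta_pow δ hδ 0
  rw [pow_zero] at h0
  rw [Theta_delta_pow δ hδ p, h0]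
  unfold SGA3b.powConv
  rw [hkill, pow_zero]

end Canonical

section Natural

variable {R : Type u} [CommRing R]
  {A : Type u} [CommRing A] [HopfAlgebra R A]
  {A' : Type u} [CommRing A'] [HopfAlgebra R A']

/-- Naturality of `Theta` (F1). -/
theorem Theta_map (f : A →ₗ[R] A') (f' : A' →ₗ[R] A) (z : A ⊗[R] CartDual.D R A) :
    Theta (R := R) (A := A') (TensorProduct.map f (tr f') z) =
      f ∘ₗ Theta (R := R) (A := A) z ∘ₗ f' := by
  induction z using TensorProduct.induction_on with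
  | zero => simp
  | tmul a φ =>
    apply LinearMap.ext
    intro b'
    rw [TensorProduct.map_tmul, Theta_tmul, LinearMap.comp_apply, LinearMap.comp_apply, Theta_tmul,
      tr_apply, map_smul]
  | add x y hx hy => rw [map_add, map_add, hx, hy, map_add, LinearMap.add_comp, LinearMap.comp_add]

/-- Naturality of `Theta` (F2). -/
theorem Theta_map' (f : A →ₗ[R] A') (Ψ : CartDual.D R A →ₗ[R] CartDual.D R A')
    (z : A ⊗[R] CartDual.D R A) :
    Theta (R := R) (A := A') (TensorProduct.map f Ψ z) ∘ₗ f =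
      f ∘ₗ Theta (R := R) (A := A) (TensorProduct.map LinearMap.id (tr f ∘ₗ Ψ) z) := by
  induction z using TensorProduct.induction_on with
  | zero => simp
  | tmul a φ =>
    apply LinearMap.ext
    intro b
    rw [TensorProduct.map_tmul, TensorProduct.map_tmul, LinearMap.comp_apply, LinearMap.comp_apply,
      Theta_tmul, Theta_tmul, LinearMap.comp_apply, tr_apply, LinearMap.id_apply, map_smul]
  | add x y hx hy =>
    rw [map_add, map_add, LinearMap.add_comp, hx, hy, map_add, map_add, LinearMap.comp_add]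

/-- `a ⊗ φ ↦ ψ a • φ`. -/
noncomputable def evD (ψ : CartDual.D R A) : A ⊗[R] CartDual.D R A →ₗ[R] CartDual.D R A :=
  TensorProduct.lid R (CartDual.D R A) ∘ₗ LinearMap.rTensor (CartDual.D R A) ψ.ofConv

theorem evD_tmul (ψ : CartDual.D R A) (a : A) (φ : CartDual.D R A) :
    evD ψ (a ⊗ₜ[R] φ) = ψ.ofConv a • φ := by
  simp [evD]

theorem evD_apply (ψ : CartDual.D R A) (z : A ⊗[R] CartDual.D R A) (b : A) :
    (evD ψ z).ofConv b = ψ.ofConv (Theta (R := R) z b) := by
  induction z using TensorProduct.induction_on with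
  | zero => simp
  | tmul a φ =>
    rw [evD_tmul, Theta_tmul, WithConv.ofConv_smul, LinearMap.smul_apply, map_smul, smul_eq_mul,
      smul_eq_mul, mul_comm]
  | add x y hx hy =>
    rw [map_add, WithConv.ofConv_add, LinearMap.add_apply, hx, hy, map_add, LinearMap.add_apply,
      map_add]

theorem evD_map (ψ : CartDual.D R A) (L : CartDual.D R A →ₗ[R] CartDual.D R A)
    (z : A ⊗[R] CartDual.D R A) :
    evD ψ (TensorProduct.map LinearMap.id L z) = L (evD ψ z) := by
  induction z using TensorProduct.induction_on with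
  | zero => simp
  | tmul a φ => rw [TensorProduct.map_tmul, LinearMap.id_apply, evD_tmul, evD_tmul, map_smul]
  | add x y hx hy => rw [map_add, map_add, hx, hy, map_add, map_add]

end Natural

section MainThm

variable (p : ℕ) [hp : Fact p.Prime] {R : Type u} [CommRing R] (u : R)
  (hu : u * ((p - 1 : ℕ) : R) = 1) (χ : (ZMod p)ˣ →* Rˣ)
  (hχ : ∀ m : (ZMod p)ˣ, m ≠ 1 → IsUnit ((χ m : R) - 1))
  (hχp : ∀ m : (ZMod p)ˣ, ((χ m : Rˣ) : R) - (((m : ZMod p).val : ℕ) : R) ∈
    Ideal.span ({(p : R)} : Set R))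
  {A : Type u} [CommRing A] [HopfAlgebra R A] [Coalgebra.IsCocomm R A] [Module.Finite R A]
  [Module.Projective R A]
  (hkill : (WithConv.toConv (AlgHom.id R A)) ^ p = 1)
  (hrk : ∀ q : PrimeSpectrum R, Module.rankAtStalk A q = p)
  {A' : Type u} [CommRing A'] [HopfAlgebra R A'] [Coalgebra.IsCocomm R A'] [Module.Finite R A']
  [Module.Projective R A']
  (hkill' : (WithConv.toConv (AlgHom.id R A')) ^ p = 1)
  (hrk' : ∀ q : PrimeSpectrum R, Module.rankAtStalk A' q = p)

omit [Coalgebra.IsCocomm R A] [Module.Finite R A] [Module.Projective R A] in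
/-- A product of `p` elements of `I_1` lies in `I_1`. -/
theorem prod_mem_eigenAug (f : Fin p → ↥(OortTate.eigenAug R A p χ 1)) :
    ∏ i, (f i : A) ∈ OortTate.eigenAug R A p χ 1 := by
  have h := list_prod_mem_eigenAug p χ (List.ofFn f) (by
    rw [List.length_ofFn]; exact hp.out.one_le)
  rw [List.length_ofFn, eigenAug_prime p χ, List.map_ofFn, List.prod_ofFn] at h
  exact h

include hu hχ hχp hkill hrk hkill' hrk' in
/-- An isomorphism `I_1(A) ≃ I_1(A')` compatible with `p`-fold products extends to an algebra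
isomorphism. -/
theorem exists_algEquiv
    (θ : OortTate.eigenAug R A p χ 1 ≃ₗ[R] OortTate.eigenAug R A' p χ 1)
    (hθ : ∀ (f : Fin p → OortTate.eigenAug R A p χ 1) (g : OortTate.eigenAug R A p χ 1),
      (g : A) = ∏ i, (f i : A) → ((θ g : OortTate.eigenAug R A' p χ 1) : A') = ∏ i, ((θ (f i)) : A')) :
    ∃ (Θ : A →ₐ[R] A') (Θ' : A' →ₐ[R] A),
      (∀ x : ↥(OortTate.eigenAug R A p χ 1), Θ (x : A) = (θ x : A')) ∧
      (∀ x : ↥(OortTate.eigenAug R A' p χ 1), Θ' (x : A') = (θ.symm x : A)) ∧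
      Θ'.comp Θ = AlgHom.id R A ∧ Θ.comp Θ' = AlgHom.id R A' := by
  have hθ' : ∀ (f : Fin p → OortTate.eigenAug R A' p χ 1) (g : OortTate.eigenAug R A' p χ 1),
      (g : A') = ∏ i, (f i : A') →
        ((θ.symm g : OortTate.eigenAug R A p χ 1) : A) = ∏ i, ((θ.symm (f i)) : A) := by
    intro f g hg
    let x : ↥(OortTate.eigenAug R A p χ 1) :=
      ⟨∏ i, ((θ.symm (f i)) : A), prod_mem_eigenAug p χ (fun i => θ.symm (f i))⟩
    have h1 := hθ (fun i => θ.symm (f i)) x rfl
    simp only [LinearEquiv.apply_symm_apply] at h1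
    have h2 : θ x = g := Subtype.ext (h1.trans hg.symm)
    rw [← h2, LinearEquiv.symm_apply_apply]
  obtain ⟨Θ, hΘ⟩ := exists_ext p u hu χ hχ hχp hkill hrk (A' := A') θ.toLinearMap hθ
  obtain ⟨Θ', hΘ'⟩ := exists_ext p u hu χ hχ hχp hkill' hrk' (A' := A) θ.symm.toLinearMap hθ'
  refine ⟨Θ, Θ', hΘ, hΘ', ?_, ?_⟩
  · apply algHom_ext_eigenAug p u hu χ hχ hχp hkill hrk
    intro x
    rw [AlgHom.comp_apply, hΘ, hΘ']
    simp
  · apply algHom_ext_eigenAug p u hu χ hχ hχp hkill' hrk'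
    intro x
    rw [AlgHom.comp_apply, hΘ', hΘ]
    simp

end MainThm

section Comul

variable {R : Type u} [CommRing R]
  {A : Type u} [CommRing A] [HopfAlgebra R A] [Coalgebra.IsCocomm R A] [Module.Finite R A]
  [Module.Projective R A]
  {A' : Type u} [CommRing A'] [HopfAlgebra R A'] [Coalgebra.IsCocomm R A'] [Module.Finite R A']
  [Module.Projective R A']

/-- If the transpose of an algebra map is multiplicative, the map respects comultiplication. -/
theorem comul_compat (Θ' : A' →ₐ[R] A)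
    (hmul : ∀ φ1 φ2 : CartDual.D R A, tr Θ'.toLinearMap (φ1 * φ2) =
      tr Θ'.toLinearMap φ1 * tr Θ'.toLinearMap φ2) (b' : A') :
    TensorProduct.map Θ'.toLinearMap Θ'.toLinearMap (Coalgebra.comul (R := R) b') =
      Coalgebra.comul (R := R) (Θ' b') := by
  apply (Module.bijective_dual_eval R (A ⊗[R] A)).1
  apply LinearMap.ext
  intro g
  obtain ⟨w, rfl⟩ := (CartDual.ev₂ R A).surjective g
  rw [Module.Dual.eval_apply, Module.Dual.eval_apply]
  induction w using TensorProduct.induction_on with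
  | zero => simp
  | tmul φ1 φ2 =>
    rw [CartDual.ev₂_tmul_eq', LinearMap.comp_apply, LinearMap.comp_apply]
    have e : ∀ t : A' ⊗[R] A', TensorProduct.map φ1.ofConv φ2.ofConv
        (TensorProduct.map Θ'.toLinearMap Θ'.toLinearMap t) =
        TensorProduct.map (tr Θ'.toLinearMap φ1).ofConv (tr Θ'.toLinearMap φ2).ofConv t := by
      intro t
      rw [← LinearMap.comp_apply, ← TensorProduct.map_comp]
      rfl
    rw [e]
    have h2 := congrArg (fun F : CartDual.D R A' => F.ofConv b') (hmul φ1 φ2)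
    exact h2.symm
  | add x y hx hy => rw [map_add, LinearMap.add_apply, LinearMap.add_apply, hx, hy]

end Comul

section Psi

variable (p : ℕ) [hp : Fact p.Prime] {R : Type u} [CommRing R] (u : R)
  (hu : u * ((p - 1 : ℕ) : R) = 1) (χ : (ZMod p)ˣ →* Rˣ)
  (hχ : ∀ m : (ZMod p)ˣ, m ≠ 1 → IsUnit ((χ m : R) - 1))
  (hχp : ∀ m : (ZMod p)ˣ, ((χ m : Rˣ) : R) - (((m : ZMod p).val : ℕ) : R) ∈
    Ideal.span ({(p : R)} : Set R))
  {A : Type u} [CommRing A] [HopfAlgebra R A] [Coalgebra.IsCocomm R A] [Module.Finite R A]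
  [Module.Projective R A]
  (hkill : (WithConv.toConv (AlgHom.id R A)) ^ p = 1)
  (hrk : ∀ q : PrimeSpectrum R, Module.rankAtStalk A q = p)
  {A' : Type u} [CommRing A'] [HopfAlgebra R A'] [Coalgebra.IsCocomm R A'] [Module.Finite R A']
  [Module.Projective R A']
  (hkill' : (WithConv.toConv (AlgHom.id R A')) ^ p = 1)
  (hrk' : ∀ q : PrimeSpectrum R, Module.rankAtStalk A' q = p)
  (θ : OortTate.eigenAug R A p χ 1 ≃ₗ[R] OortTate.eigenAug R A' p χ 1)
  (hθD : ∀ (φ : Fin p → OortTate.eigenAug R (CartDual.D R A) p χ 1)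
    (φ' : Fin p → OortTate.eigenAug R (CartDual.D R A') p χ 1)
    (ψ : OortTate.eigenAug R (CartDual.D R A) p χ 1)
    (ψ' : OortTate.eigenAug R (CartDual.D R A') p χ 1),
    (∀ i, ∀ x : OortTate.eigenAug R A p χ 1,
      CartDual.toDual R A (φ i : CartDual.D R A) (x : A) =
        CartDual.toDual R A' (φ' i : CartDual.D R A') ((θ x : OortTate.eigenAug R A' p χ 1) : A')) →
    (ψ : CartDual.D R A) = ∏ i, (φ i : CartDual.D R A) →
    (ψ' : CartDual.D R A') = ∏ i, (φ' i : CartDual.D R A') →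
    ∀ x : OortTate.eigenAug R A p χ 1,
      CartDual.toDual R A (ψ : CartDual.D R A) (x : A) =
        CartDual.toDual R A' (ψ' : CartDual.D R A') ((θ x : OortTate.eigenAug R A' p χ 1) : A'))
  (Θ : A →ₐ[R] A') (Θ' : A' →ₐ[R] A)
  (hΘ : ∀ x : ↥(OortTate.eigenAug R A p χ 1), Θ (x : A) = (θ x : A'))
  (hΘ' : ∀ x : ↥(OortTate.eigenAug R A' p χ 1), Θ' (x : A') = (θ.symm x : A))

include hΘ' in
theorem hΘ'mem : ∀ x : A', x ∈ OortTate.eigenAug R A' p χ 1 →
    Θ' x ∈ OortTate.eigenAug R A p χ 1 := by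
  intro x hx
  have := hΘ' ⟨x, hx⟩
  rw [this]
  exact (θ.symm ⟨x, hx⟩).2

include hΘ in
theorem hΘmem : ∀ x : A, x ∈ OortTate.eigenAug R A p χ 1 →
    Θ x ∈ OortTate.eigenAug R A' p χ 1 := by
  intro x hx
  have := hΘ ⟨x, hx⟩
  rw [this]
  exact (θ ⟨x, hx⟩).2

/-- The transpose of `Θ'` restricted to `I_1(A^D) → I_1(A'^D)`. -/
noncomputable def thetaD :
    ↥(OortTate.eigenAug R (CartDual.D R A) p χ 1) →ₗ[R]
      ↥(OortTate.eigenAug R (CartDual.D R A') p χ 1) :=
  (tr Θ'.toLinearMap).restrict (fun φ hφ =>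
    tr_mem p u hu χ hχ hχp hkill' hrk' Θ' (hΘ'mem p χ θ Θ' hΘ') 1 φ hφ)

theorem thetaD_apply (φ : ↥(OortTate.eigenAug R (CartDual.D R A) p χ 1)) :
    ((thetaD p u hu χ hχ hχp hkill' hrk' θ Θ' hΘ' φ :
      ↥(OortTate.eigenAug R (CartDual.D R A') p χ 1)) : CartDual.D R A') =
      tr Θ'.toLinearMap (φ : CartDual.D R A) := rfl

include hu hχ hθD in
theorem thetaD_compat
    (f : Fin p → OortTate.eigenAug R (CartDual.D R A) p χ 1)
    (g : OortTate.eigenAug R (CartDual.D R A) p χ 1)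
    (hg : (g : CartDual.D R A) = ∏ i, (f i : CartDual.D R A)) :
    ((thetaD p u hu χ hχ hχp hkill' hrk' θ Θ' hΘ' g :
      ↥(OortTate.eigenAug R (CartDual.D R A') p χ 1)) : CartDual.D R A') =
      ∏ i, ((thetaD p u hu χ hχ hχp hkill' hrk' θ Θ' hΘ' (f i) :
        ↥(OortTate.eigenAug R (CartDual.D R A') p χ 1)) : CartDual.D R A') := by
  set tD := thetaD p u hu χ hχ hχp hkill' hrk' θ Θ' hΘ' with htD
  let ψ' : ↥(OortTate.eigenAug R (CartDual.D R A') p χ 1) :=
    ⟨∏ i, ((tD (f i) : ↥(OortTate.eigenAug R (CartDual.D R A') p χ 1)) : CartDual.D R A'),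
      prod_mem_eigenAug p χ (fun i => tD (f i))⟩
  have hkey : ∀ (φ : ↥(OortTate.eigenAug R (CartDual.D R A) p χ 1))
      (x : OortTate.eigenAug R A p χ 1),
      CartDual.toDual R A (φ : CartDual.D R A) (x : A) =
        CartDual.toDual R A' ((tD φ : ↥(OortTate.eigenAug R (CartDual.D R A') p χ 1)) :
          CartDual.D R A') ((θ x : OortTate.eigenAug R A' p χ 1) : A') := by
    intro φ x
    rw [htD, thetaD_apply]
    change _ = (tr Θ'.toLinearMap (φ : CartDual.D R A)).ofConv ((θ x : _) : A')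
    rw [tr_apply, AlgHom.toLinearMap_apply, hΘ' (θ x), LinearEquiv.symm_apply_apply]
    rfl
  have h1 := hθD f (fun i => tD (f i)) g ψ' (fun i x => hkey (f i) x) hg rfl
  have hinj := (Groth.Agent.S18471.result p R u hu χ hχ A' hkill' 1).1
  have h2 : tD g = ψ' := by
    apply hinj
    apply LinearMap.ext
    intro x'
    obtain ⟨x, rfl⟩ := θ.surjective x'
    change CartDual.toDual R A' ((tD g : _) : CartDual.D R A') ((θ x : _) : A') =
      CartDual.toDual R A' (ψ' : CartDual.D R A') ((θ x : _) : A')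
    rw [← hkey g x, h1 x]
  rw [h2]

include hu hχ hχp hkill hrk hkill' hrk' hθD hΘ hΘ' in
/-- The transpose of `Θ'` is multiplicative. -/
theorem tr_mul (hcomp : Θ'.comp Θ = AlgHom.id R A) (hcomp' : Θ.comp Θ' = AlgHom.id R A') :
    ∀ φ1 φ2 : CartDual.D R A, tr Θ'.toLinearMap (φ1 * φ2) =
      tr Θ'.toLinearMap φ1 * tr Θ'.toLinearMap φ2 := by
  have hΘΘ' : ∀ a', Θ (Θ' a') = a' := fun a' => AlgHom.congr_fun hcomp' a'
  have hΘ'Θ : ∀ a, Θ' (Θ a) = a := fun a => AlgHom.congr_fun hcomp a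
  set tD := thetaD p u hu χ hχ hχp hkill' hrk' θ Θ' hΘ' with htD
  obtain ⟨Ψ, hΨ⟩ := exists_ext p u hu χ hχ hχp (kill_D p hrk) (rank_D p hrk)
    (A := CartDual.D R A) (A' := CartDual.D R A') tD
    (thetaD_compat p u hu χ hχ hχp hkill' hrk' θ hθD Θ' hΘ')
  have hΨ' : ∀ ξ : ↥(OortTate.eigenAug R (CartDual.D R A) p χ 1),
      Ψ (ξ : CartDual.D R A) = tr Θ'.toLinearMap (ξ : CartDual.D R A) := fun ξ => hΨ ξ
  obtain ⟨δ, hδ⟩ := exists_delta (R := R) (A := A)
  obtain ⟨δ', hδ'⟩ := exists_delta (R := R) (A := A')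
  obtain ⟨ϕ, hϕ⟩ := exists_phi (R := R) p δ (delta_pow p hkill δ hδ)
  obtain ⟨ϕ', hϕ'⟩ := exists_phi (R := R) p δ' (delta_pow p hkill' δ' hδ')
  obtain ⟨P, hP⟩ := exists_poly p u hu χ hχ hχp
  have hδE : δ = Polynomial.aeval (ϕ (OortTate.ygen R p u χ 1)) P :=
    calc δ = ϕ (OortTate.muT R p) := hϕ.symm
      _ = ϕ (Polynomial.aeval (OortTate.ygen R p u χ 1) P) := congrArg ϕ hP.symm
      _ = Polynomial.aeval (ϕ (OortTate.ygen R p u χ 1)) P :=
        (Polynomial.aeval_algHom_apply ϕ _ P).symm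
  have hδE' : δ' = Polynomial.aeval (ϕ' (OortTate.ygen R p u χ 1)) P :=
    calc δ' = ϕ' (OortTate.muT R p) := hϕ'.symm
      _ = ϕ' (Polynomial.aeval (OortTate.ygen R p u χ 1) P) := congrArg ϕ' hP.symm
      _ = Polynomial.aeval (ϕ' (OortTate.ygen R p u χ 1)) P :=
        (Polynomial.aeval_algHom_apply ϕ' _ P).symm
  let G : A ⊗[R] CartDual.D R A →ₐ[R] A' ⊗[R] CartDual.D R A' := Algebra.TensorProduct.map Θ Ψ
  have hG : ∀ z, G z = TensorProduct.map Θ.toLinearMap Ψ.toLinearMap z := fun z => rfl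
  -- `G` maps `ϕ(y_1)` to `ϕ'(y_1)`
  have hGE : G (ϕ (OortTate.ygen R p u χ 1)) = ϕ' (OortTate.ygen R p u χ 1) := by
    obtain ⟨w, hw⟩ := phi_ygen_mem_range p u hu χ hχ hkill δ hδ ϕ hϕ
    have h1 : ∀ w : ↥(OortTate.eigenAug R A p χ 1) ⊗[R]
        ↥(OortTate.eigenAug R (CartDual.D R A) p χ 1),
        TensorProduct.map Θ.toLinearMap Ψ.toLinearMap
          (TensorProduct.map (OortTate.eigenAug R A p χ 1).subtype
            (OortTate.eigenAug R (CartDual.D R A) p χ 1).subtype w) =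
        TensorProduct.map Θ.toLinearMap (tr Θ'.toLinearMap)
          (TensorProduct.map (OortTate.eigenAug R A p χ 1).subtype
            (OortTate.eigenAug R (CartDual.D R A) p χ 1).subtype w) := by
      intro w
      induction w using TensorProduct.induction_on with
      | zero => simp
      | tmul x ξ =>
        rw [TensorProduct.map_tmul, TensorProduct.map_tmul, TensorProduct.map_tmul,
          Submodule.subtype_apply, Submodule.subtype_apply, AlgHom.toLinearMap_apply,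
          AlgHom.toLinearMap_apply, hΨ' ξ]
      | add x y hx hy => rw [map_add, map_add, map_add, hx, hy]
    apply Theta_injective (R := R) (A := A')
    rw [hG, ← hw, h1 w, hw, Theta_map, Theta_phi_ygen p u χ δ hδ ϕ hϕ 1,
      Theta_phi_ygen p u χ δ' hδ' ϕ' hϕ' 1]
    apply LinearMap.ext
    intro b'
    rw [LinearMap.comp_apply, LinearMap.comp_apply, AlgHom.toLinearMap_apply,
      AlgHom.toLinearMap_apply,
      Pr_comp p u hu χ hχ hχp hkill hrk Θ (hΘmem p χ θ Θ hΘ) 1 (Θ' b'), hΘΘ']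
  have hGδ : G δ = δ' := by
    rw [hδE, hδE', ← Polynomial.aeval_algHom_apply, hGE]
  -- `L = tr Θ ∘ Ψ` is the identity
  let L : CartDual.D R A →ₗ[R] CartDual.D R A := tr Θ.toLinearMap ∘ₗ Ψ.toLinearMap
  have h2 := Theta_map' Θ.toLinearMap Ψ.toLinearMap δ
  rw [← hG, hGδ, Theta_delta δ' hδ'] at h2
  have h3 : Theta (R := R) (A := A) (TensorProduct.map LinearMap.id L δ) = LinearMap.id := by
    apply LinearMap.ext
    intro b
    have h4 := LinearMap.congr_fun h2 b
    rw [LinearMap.comp_apply, LinearMap.id_apply, LinearMap.comp_apply, AlgHom.toLinearMap_apply,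
      AlgHom.toLinearMap_apply] at h4
    have h5 := congrArg Θ' h4
    rw [hΘ'Θ, hΘ'Θ] at h5
    rw [LinearMap.id_apply]
    exact h5.symm
  have h6 : TensorProduct.map LinearMap.id L δ = δ := by
    apply Theta_injective (R := R) (A := A)
    rw [h3, Theta_delta δ hδ]
  have hev : ∀ ψ : CartDual.D R A, evD ψ δ = ψ := by
    intro ψ
    apply WithConv.ofConv_injective
    apply LinearMap.ext
    intro b
    rw [evD_apply, Theta_delta δ hδ, LinearMap.id_apply]
  have hL : ∀ ψ : CartDual.D R A, L ψ = ψ := by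
    intro ψ
    conv_lhs => rw [← hev ψ]
    rw [← evD_map, h6, hev]
  have hΨ_eq : ∀ φ : CartDual.D R A, Ψ φ = tr Θ'.toLinearMap φ := by
    intro φ
    apply WithConv.ofConv_injective
    apply LinearMap.ext
    intro a'
    rw [tr_apply, AlgHom.toLinearMap_apply]
    have h7 := hL φ
    have h8 := congrArg (fun F : CartDual.D R A => F.ofConv (Θ' a')) h7
    change (Ψ φ).ofConv (Θ (Θ' a')) = φ.ofConv (Θ' a') at h8
    rw [hΘΘ'] at h8
    exact h8
  intro φ1 φ2
  rw [← hΨ_eq, ← hΨ_eq, ← hΨ_eq, map_mul]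

end Psi

section Final

variable (p : ℕ) [hp : Fact p.Prime] {R : Type u} [CommRing R] (u : R)
  (hu : u * ((p - 1 : ℕ) : R) = 1) (χ : (ZMod p)ˣ →* Rˣ)
  (hχ : ∀ m : (ZMod p)ˣ, m ≠ 1 → IsUnit ((χ m : R) - 1))
  (hχp : ∀ m : (ZMod p)ˣ, ((χ m : Rˣ) : R) - (((m : ZMod p).val : ℕ) : R) ∈
    Ideal.span ({(p : R)} : Set R))
  {A : Type u} [CommRing A] [HopfAlgebra R A] [Coalgebra.IsCocomm R A] [Module.Finite R A]
  [Module.Projective R A]
  (hkill : (WithConv.toConv (AlgHom.id R A)) ^ p = 1)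
  (hrk : ∀ q : PrimeSpectrum R, Module.rankAtStalk A q = p)
  {A' : Type u} [CommRing A'] [HopfAlgebra R A'] [Coalgebra.IsCocomm R A'] [Module.Finite R A']
  [Module.Projective R A']
  (hkill' : (WithConv.toConv (AlgHom.id R A')) ^ p = 1)
  (hrk' : ∀ q : PrimeSpectrum R, Module.rankAtStalk A' q = p)

include hu hχ hχp hkill hrk hkill' hrk' in
/-- The classification map of Oort–Tate is injective on isomorphism classes. -/
theorem exists_bialgEquiv
    (θ : OortTate.eigenAug R A p χ 1 ≃ₗ[R] OortTate.eigenAug R A' p χ 1)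
    (hθ : ∀ (f : Fin p → OortTate.eigenAug R A p χ 1) (g : OortTate.eigenAug R A p χ 1),
      (g : A) = ∏ i, (f i : A) → ((θ g : OortTate.eigenAug R A' p χ 1) : A') = ∏ i, ((θ (f i)) : A'))
    (hθD : ∀ (φ : Fin p → OortTate.eigenAug R (CartDual.D R A) p χ 1)
      (φ' : Fin p → OortTate.eigenAug R (CartDual.D R A') p χ 1)
      (ψ : OortTate.eigenAug R (CartDual.D R A) p χ 1)
      (ψ' : OortTate.eigenAug R (CartDual.D R A') p χ 1),
      (∀ i, ∀ x : OortTate.eigenAug R A p χ 1,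
        CartDual.toDual R A (φ i : CartDual.D R A) (x : A) =
          CartDual.toDual R A' (φ' i : CartDual.D R A') ((θ x : OortTate.eigenAug R A' p χ 1) : A')) →
      (ψ : CartDual.D R A) = ∏ i, (φ i : CartDual.D R A) →
      (ψ' : CartDual.D R A') = ∏ i, (φ' i : CartDual.D R A') →
      ∀ x : OortTate.eigenAug R A p χ 1,
        CartDual.toDual R A (ψ : CartDual.D R A) (x : A) =
          CartDual.toDual R A' (ψ' : CartDual.D R A') ((θ x : OortTate.eigenAug R A' p χ 1) : A')) :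
    Nonempty (A ≃ₐc[R] A') := by
  obtain ⟨Θ, Θ', hΘ, hΘ', hcomp, hcomp'⟩ :=
    exists_algEquiv p u hu χ hχ hχp hkill hrk hkill' hrk' θ hθ
  have hmul := tr_mul p u hu χ hχ hχp hkill hrk hkill' hrk' θ hθD Θ Θ' hΘ hΘ' hcomp hcomp'
  let e : A' ≃ₐ[R] A := AlgEquiv.ofAlgHom Θ' Θ hcomp hcomp'
  have hcounit : (Bialgebra.counitAlgHom R A).comp (e : A' →ₐ[R] A) = Bialgebra.counitAlgHom R A' :=
    counit_comp p u hu χ hχ hχp hkill' hrk' Θ' (hΘ'mem p χ θ Θ' hΘ')
  have hcomul : (Algebra.TensorProduct.map (e : A' →ₐ[R] A) (e : A' →ₐ[R] A)).comp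
      (Bialgebra.comulAlgHom R A') = (Bialgebra.comulAlgHom R A).comp (e : A' →ₐ[R] A) := by
    apply AlgHom.ext
    intro b'
    exact comul_compat Θ' hmul b'
  exact ⟨(BialgEquiv.ofAlgEquiv e hcounit hcomul).symm⟩

end Final

end Groth.Agent.Lib.Seat77.OTj
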