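import Groth.Agent.Lib.Seat77OTj

/-!
# Seat77 OTk: injectivity of the Oort–Tate classification in the free case

If `I_1(A) = R x`, `I_1(A^D) = R ξ` with `ξ(x) = 1` and similarly for `A'`, and the structure
constants are related by a unit, then `A ≃ A'` as bialgebras.
-/

set_option autoImplicit false
set_option linter.style.haveILetI false
set_option linter.unusedSectionVars false

namespace Groth.Agent.Lib.Seat77.OTk

open TensorProduct WithConv Groth.Agent.Lib.Seat77.OTj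

universe u

section Gen

variable {R : Type u} [CommRing R] {M : Type*} [AddCommGroup M] [Module R M]

/-- Elements of a submodule spanned by `x`, with a functional `ℓ` such that `ℓ x = 1`. -/
theorem eq_smul_of_mem_span (x : M) (ℓ : M →ₗ[R] R) (hℓ : ℓ x = 1) (y : M)
    (hy : y ∈ Submodule.span R {x}) : y = ℓ y • x := by
  obtain ⟨r, rfl⟩ := Submodule.mem_span_singleton.mp hy
  rw [map_smul, hℓ, smul_eq_mul, mul_one]

end Gen

section Free

variable (p : ℕ) [hp : Fact p.Prime] {R : Type u} [CommRing R] (u : R)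
  (hu : u * ((p - 1 : ℕ) : R) = 1) (χ : (ZMod p)ˣ →* Rˣ)
  (hχ : ∀ m : (ZMod p)ˣ, m ≠ 1 → IsUnit ((χ m : R) - 1))
  (hχp : ∀ m : (ZMod p)ˣ, ((χ m : Rˣ) : R) - (((m : ZMod p).val : ℕ) : R) ∈
    Ideal.span ({(p : R)} : Set R))
  {A : Type u} [CommRing A] [HopfAlgebra R A] [Coalgebra.IsCocomm R A] [Module.Finite R A]
  [Module.Projective R A]
  (hkill : (WithConv.toConv (AlgHom.id R A)) ^ p = 1)
  (hrk : ∀ q : PrimeSpectrum R, Module.rankAtStalk A q = p)
  {A' : Type u} [CommRing A'] [HopfAlgebra R A'] [Coalgebra.IsCocomm R A'] [Module.Finite R A']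
  [Module.Projective R A']
  (hkill' : (WithConv.toConv (AlgHom.id R A')) ^ p = 1)
  (hrk' : ∀ q : PrimeSpectrum R, Module.rankAtStalk A' q = p)
  (x : A) (hx : Submodule.span R {x} = OortTate.eigenAug R A p χ 1)
  (ξ : CartDual.D R A) (hξ : Submodule.span R {ξ} = OortTate.eigenAug R (CartDual.D R A) p χ 1)
  (hxξ : CartDual.toDual R A ξ x = 1)
  (x' : A') (hx' : Submodule.span R {x'} = OortTate.eigenAug R A' p χ 1)
  (ξ' : CartDual.D R A') (hξ' : Submodule.span R {ξ'} = OortTate.eigenAug R (CartDual.D R A') p χ 1)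
  (hxξ' : CartDual.toDual R A' ξ' x' = 1)
  (α β α' β' : R) (hα : x ^ p = α • x) (hβ : ξ ^ p = β • ξ) (hα' : x' ^ p = α' • x')
  (hβ' : ξ' ^ p = β' • ξ')
  (v : Rˣ) (hαv : α' = ((v ^ (p - 1) : Rˣ) : R) * α) (hβv : β' = ((v⁻¹ ^ (p - 1) : Rˣ) : R) * β)

include hx in
theorem x_mem : x ∈ OortTate.eigenAug R A p χ 1 := by
  rw [← hx]
  exact Submodule.mem_span_singleton_self x

include hx hxξ in
theorem eq_smul_x (y : A) (hy : y ∈ OortTate.eigenAug R A p χ 1) :
    y = (CartDual.toDual R A ξ y) • x :=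
  eq_smul_of_mem_span x (CartDual.toDual R A ξ) hxξ y (hx ▸ hy)

include hξ hxξ in
theorem eq_smul_ξ (φ : CartDual.D R A) (hφ : φ ∈ OortTate.eigenAug R (CartDual.D R A) p χ 1) :
    φ = (CartDual.toDual R A φ x) • ξ := by
  rw [← hξ] at hφ
  obtain ⟨r, rfl⟩ := Submodule.mem_span_singleton.mp hφ
  rw [map_smul, LinearMap.smul_apply, hxξ, smul_eq_mul, mul_one]

/-- The map `y ↦ (c * ξ y) • x'` from `I_1(A)` to `I_1(A')`. -/
noncomputable def thetaLin (c : R) (hx'm : x' ∈ OortTate.eigenAug R A' p χ 1) :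
    ↥(OortTate.eigenAug R A p χ 1) →ₗ[R] ↥(OortTate.eigenAug R A' p χ 1) :=
  (c • ((CartDual.toDual R A ξ).comp (OortTate.eigenAug R A p χ 1).subtype)).smulRight ⟨x', hx'm⟩

theorem thetaLin_apply (c : R) (hx'm : x' ∈ OortTate.eigenAug R A' p χ 1)
    (y : ↥(OortTate.eigenAug R A p χ 1)) :
    ((thetaLin p χ ξ x' c hx'm y : ↥(OortTate.eigenAug R A' p χ 1)) : A') =
      (c * CartDual.toDual R A ξ (y : A)) • x' := by
  simp [thetaLin]

include hx hxξ hx' hxξ' in
theorem thetaLin_comp (c d : R) (hcd : d * c = 1) (y : ↥(OortTate.eigenAug R A p χ 1)) :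
    thetaLin p χ ξ' x d (x_mem p χ x hx)
      (thetaLin p χ ξ x' c (x_mem p χ x' hx') y) = y := by
  apply Subtype.ext
  rw [thetaLin_apply, thetaLin_apply, map_smul, hxξ', smul_eq_mul, mul_one, ← mul_assoc, hcd,
    one_mul]
  exact (eq_smul_x p χ x hx ξ hxξ y.1 y.2).symm

/-- The isomorphism `I_1(A) ≃ I_1(A')`, `x ↦ v⁻¹ x'`. -/
noncomputable def thetaEquiv :
    ↥(OortTate.eigenAug R A p χ 1) ≃ₗ[R] ↥(OortTate.eigenAug R A' p χ 1) :=
  LinearEquiv.ofLinearMap (thetaLin p χ ξ x' ((v⁻¹ : Rˣ) : R) (x_mem p χ x' hx'))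
    (thetaLin p χ ξ' x ((v : Rˣ) : R) (x_mem p χ x hx))
    (LinearMap.ext fun y' => thetaLin_comp p χ x' hx' ξ' hxξ' x hx ξ hxξ ((v : Rˣ) : R)
      ((v⁻¹ : Rˣ) : R) (by rw [← Units.val_mul, inv_mul_cancel, Units.val_one]) y')
    (LinearMap.ext fun y => thetaLin_comp p χ x hx ξ hxξ x' hx' ξ' hxξ' ((v⁻¹ : Rˣ) : R)
      ((v : Rˣ) : R) (by rw [← Units.val_mul, mul_inv_cancel, Units.val_one]) y)

theorem thetaEquiv_apply (y : ↥(OortTate.eigenAug R A p χ 1)) :
    ((thetaEquiv p χ x hx ξ hxξ x' hx' ξ' hxξ' v y : ↥(OortTate.eigenAug R A' p χ 1)) : A') =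
      (((v⁻¹ : Rˣ) : R) * CartDual.toDual R A ξ (y : A)) • x' :=
  thetaLin_apply p χ ξ x' _ _ y

theorem unit_arith : (((v⁻¹ : Rˣ) : R)) ^ p * ((v ^ (p - 1) : Rˣ) : R) = ((v⁻¹ : Rˣ) : R) := by
  obtain ⟨q, rfl⟩ : ∃ q, p = q + 1 := ⟨p - 1, by have := hp.out.one_le; omega⟩
  rw [Nat.add_sub_cancel, ← Units.val_pow_eq_pow_val, ← Units.val_mul, pow_succ, mul_assoc,
    mul_comm (v⁻¹) (v ^ q), ← mul_assoc, ← mul_pow, inv_mul_cancel, one_pow, one_mul]

include hx hxξ hx' hxξ' hα hα' hαv in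
theorem theta_compat_a
    (f : Fin p → OortTate.eigenAug R A p χ 1) (g : OortTate.eigenAug R A p χ 1)
    (hg : (g : A) = ∏ i, (f i : A)) :
    ((thetaEquiv p χ x hx ξ hxξ x' hx' ξ' hxξ' v g : OortTate.eigenAug R A' p χ 1) : A') =
      ∏ i, ((thetaEquiv p χ x hx ξ hxξ x' hx' ξ' hxξ' v (f i)) : A') := by
  have hf : ∀ i, (f i : A) = (CartDual.toDual R A ξ (f i : A)) • x :=
    fun i => eq_smul_x p χ x hx ξ hxξ _ (f i).2
  have hprod : ∏ i, (f i : A) = ((∏ i, CartDual.toDual R A ξ (f i : A)) * α) • x := by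
    rw [Finset.prod_congr rfl (fun i _ => hf i), Finset.prod_smul, Finset.prod_const,
      Finset.card_univ, Fintype.card_fin, hα, smul_smul]
  have hξg : CartDual.toDual R A ξ (g : A) = (∏ i, CartDual.toDual R A ξ (f i : A)) * α := by
    rw [hg, hprod, map_smul, hxξ, smul_eq_mul, mul_one]
  rw [thetaEquiv_apply, hξg]
  rw [Finset.prod_congr rfl (fun i _ => thetaEquiv_apply p χ x hx ξ hxξ x' hx' ξ' hxξ' v (f i)),
    Finset.prod_smul, Finset.prod_const, Finset.card_univ, Fintype.card_fin, hα', smul_smul,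
    Finset.prod_mul_distrib, Finset.prod_const, Finset.card_univ, Fintype.card_fin, hαv]
  congr 1
  have h := unit_arith p v
  calc ((v⁻¹ : Rˣ) : R) * ((∏ i, CartDual.toDual R A ξ (f i : A)) * α)
      = (((v⁻¹ : Rˣ) : R) ^ p * ((v ^ (p - 1) : Rˣ) : R)) *
          ((∏ i, CartDual.toDual R A ξ (f i : A)) * α) := by rw [h]
    _ = _ := by ring

include hξ hξ' hβ hβ' hβv in
theorem theta_compat_b
    (φ : Fin p → OortTate.eigenAug R (CartDual.D R A) p χ 1)
    (φ' : Fin p → OortTate.eigenAug R (CartDual.D R A') p χ 1)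
    (ψ : OortTate.eigenAug R (CartDual.D R A) p χ 1)
    (ψ' : OortTate.eigenAug R (CartDual.D R A') p χ 1)
    (hcond : ∀ i, ∀ y : OortTate.eigenAug R A p χ 1,
      CartDual.toDual R A (φ i : CartDual.D R A) (y : A) =
        CartDual.toDual R A' (φ' i : CartDual.D R A')
          ((thetaEquiv p χ x hx ξ hxξ x' hx' ξ' hxξ' v y : OortTate.eigenAug R A' p χ 1) : A'))
    (hψ : (ψ : CartDual.D R A) = ∏ i, (φ i : CartDual.D R A))
    (hψ' : (ψ' : CartDual.D R A') = ∏ i, (φ' i : CartDual.D R A'))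
    (y : OortTate.eigenAug R A p χ 1) :
    CartDual.toDual R A (ψ : CartDual.D R A) (y : A) =
      CartDual.toDual R A' (ψ' : CartDual.D R A')
        ((thetaEquiv p χ x hx ξ hxξ x' hx' ξ' hxξ' v y : OortTate.eigenAug R A' p χ 1) : A') := by
  set c : R := ((v⁻¹ : Rˣ) : R) with hc
  have hφ : ∀ i, (φ i : CartDual.D R A) = (CartDual.toDual R A (φ i : CartDual.D R A) x) • ξ :=
    fun i => eq_smul_ξ p χ x ξ hξ hxξ _ (φ i).2
  have hφ' : ∀ i, (φ' i : CartDual.D R A') =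
      (CartDual.toDual R A' (φ' i : CartDual.D R A') x') • ξ' :=
    fun i => eq_smul_ξ p χ x' ξ' hξ' hxξ' _ (φ' i).2
  have hs : ∀ i, CartDual.toDual R A (φ i : CartDual.D R A) x =
      c * CartDual.toDual R A' (φ' i : CartDual.D R A') x' := by
    intro i
    have h1 := hcond i ⟨x, x_mem p χ x hx⟩
    rw [thetaEquiv_apply] at h1
    simp only [hxξ, mul_one, map_smul, smul_eq_mul] at h1
    exact h1
  have hψ2 : (ψ : CartDual.D R A) =
      ((∏ i, CartDual.toDual R A (φ i : CartDual.D R A) x) * β) • ξ := by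
    rw [hψ, Finset.prod_congr rfl (fun i _ => hφ i), Finset.prod_smul, Finset.prod_const,
      Finset.card_univ, Fintype.card_fin, hβ, smul_smul]
  have hψ'2 : (ψ' : CartDual.D R A') =
      ((∏ i, CartDual.toDual R A' (φ' i : CartDual.D R A') x') * β') • ξ' := by
    rw [hψ', Finset.prod_congr rfl (fun i _ => hφ' i), Finset.prod_smul, Finset.prod_const,
      Finset.card_univ, Fintype.card_fin, hβ', smul_smul]
  have e1 : CartDual.toDual R A (ψ : CartDual.D R A) (y : A) =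
      ((∏ i, CartDual.toDual R A (φ i : CartDual.D R A) x) * β) *
        CartDual.toDual R A ξ (y : A) := by
    rw [hψ2, map_smul, LinearMap.smul_apply, smul_eq_mul]
  have e2 : CartDual.toDual R A' (ψ' : CartDual.D R A')
      ((c * CartDual.toDual R A ξ (y : A)) • x') =
      ((∏ i, CartDual.toDual R A' (φ' i : CartDual.D R A') x') * β') *
        ((c * CartDual.toDual R A ξ (y : A)) * 1) := by
    rw [hψ'2]
    simp only [map_smul, LinearMap.smul_apply, smul_eq_mul, hxξ']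
    ring
  rw [thetaEquiv_apply, e1, e2, Finset.prod_congr rfl (fun i _ => hs i), Finset.prod_mul_distrib,
    Finset.prod_const, Finset.card_univ, Fintype.card_fin, hβv, Units.val_pow_eq_pow_val, ← hc]
  simp only [mul_one]
  have hcp : c ^ p = c ^ (p - 1) * c := by
    rw [← pow_succ]
    congr 1
    have := hp.out.one_le
    omega
  rw [hcp]
  ring

include hu hχ hχp hkill hrk hkill' hrk' hx hξ hxξ hx' hξ' hxξ' hα hβ hα' hβ' hαv hβv in
/-- The free case of the injectivity of the Oort–Tate classification. -/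
theorem exists_bialgEquiv_of_free : Nonempty (A ≃ₐc[R] A') :=
  exists_bialgEquiv p u hu χ hχ hχp hkill hrk hkill' hrk'
    (thetaEquiv p χ x hx ξ hxξ x' hx' ξ' hxξ' v)
    (theta_compat_a p χ x hx ξ hxξ x' hx' ξ' hxξ' α α' hα hα' v hαv)
    (theta_compat_b p χ x hx ξ hξ hxξ x' hx' ξ' hξ' hxξ' β β' hβ hβ' v hβv)

end Free

end Groth.Agent.Lib.Seat77.OTk
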