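import Groth.Prelude.Def_W4c3degenlocivbPfaff
import Mathlib.RingTheory.MvPolynomial.Homogeneous
import Mathlib.LinearAlgebra.Matrix.Determinant.Basic
import Mathlib.LinearAlgebra.Matrix.NonsingularInverse

/-!
# Pfaffians (the prelude's `W4c3degenlocivb.pf`): base change, homogeneity, superdiagonal matrices
-/

set_option autoImplicit false

namespace Groth.Agent.Lib.Seat77.PfaffA

open W4c3degenlocivb MvPolynomial

theorem pf_zero {R : Type*} [CommRing R] (T : Matrix (Fin 0) (Fin 0) R) : pf 0 T = 1 := rfl

theorem pf_one {R : Type*} [CommRing R] (T : Matrix (Fin 1) (Fin 1) R) : pf 1 T = 0 := rfl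

theorem pf_succ_succ {R : Type*} [CommRing R] (n : ℕ) (T : Matrix (Fin (n + 2)) (Fin (n + 2)) R) :
    pf (n + 2) T = ∑ j : Fin (n + 1),
      (-1) ^ ((j : ℕ) + 1) * T (Fin.last (n + 1)) (Fin.castSucc j) *
        pf n (T.submatrix (Fin.castSucc ∘ j.succAbove) (Fin.castSucc ∘ j.succAbove)) := rfl

/-- Pfaffians commute with ring homomorphisms. -/
theorem pf_map {R S : Type*} [CommRing R] [CommRing S] (φ : R →+* S) :
    ∀ (n : ℕ) (T : Matrix (Fin n) (Fin n) R), pf n (T.map φ) = φ (pf n T) := by
  intro n
  induction n using Nat.twoStepInduction with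
  | zero => intro T; rw [pf_zero, pf_zero, map_one]
  | one => intro T; rw [pf_one, pf_one, map_zero]
  | more n ih _ =>
    intro T
    rw [pf_succ_succ, pf_succ_succ, map_sum]
    refine Finset.sum_congr rfl fun j _ => ?_
    rw [map_mul, map_mul, map_pow, map_neg, map_one, ← ih]
    rfl

/-- The Pfaffian of a `2m × 2m` matrix of linear forms is homogeneous of degree `m`. -/
theorem pf_isHomogeneous {σ k : Type*} [CommRing k] :
    ∀ (m : ℕ) (T : Matrix (Fin (2 * m)) (Fin (2 * m)) (MvPolynomial σ k)),
      (∀ a b, (T a b).IsHomogeneous 1) → (pf (2 * m) T).IsHomogeneous m := by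
  intro m
  induction m with
  | zero => intro T _; rw [pf_zero]; exact isHomogeneous_one σ k
  | succ m ih =>
    intro T hT
    change (pf (2 * m + 2) T).IsHomogeneous (m + 1)
    rw [pf_succ_succ]
    refine IsHomogeneous.sum _ _ _ fun j _ => ?_
    have h1 : ((-1 : MvPolynomial σ k) ^ ((j : ℕ) + 1)).IsHomogeneous 0 := by
      have : (-1 : MvPolynomial σ k) ^ ((j : ℕ) + 1) = C ((-1) ^ ((j : ℕ) + 1)) := by simp
      rw [this]; exact isHomogeneous_C σ _
    have h2 := (h1.mul (hT (Fin.last (2 * m + 1)) (Fin.castSucc j))).mul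
      (ih (T.submatrix (Fin.castSucc ∘ j.succAbove) (Fin.castSucc ∘ j.succAbove))
        fun a b => hT _ _)
    have e : 0 + 1 + m = m + 1 := by omega
    rw [e] at h2
    exact h2

/-- The alternating matrix with superdiagonal entries `b 0, b 1, …`. -/
def superdiag {R : Type*} [CommRing R] (n : ℕ) (b : ℕ → R) : Matrix (Fin n) (Fin n) R :=
  Matrix.of fun a a' => if (a' : ℕ) = (a : ℕ) + 1 then b a else if (a : ℕ) = (a' : ℕ) + 1 then - b a' else 0

theorem superdiag_apply {R : Type*} [CommRing R] (n : ℕ) (b : ℕ → R) (a a' : Fin n) :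
    superdiag n b a a' =
      if (a' : ℕ) = (a : ℕ) + 1 then b a else if (a : ℕ) = (a' : ℕ) + 1 then - b a' else 0 := rfl

theorem superdiag_submatrix_castSucc {R : Type*} [CommRing R] (n : ℕ) (b : ℕ → R) :
    (superdiag (n + 2) b).submatrix (Fin.castSucc ∘ (Fin.last n).succAbove)
      (Fin.castSucc ∘ (Fin.last n).succAbove) = superdiag n b := by
  ext a a'
  simp [superdiag_apply, Fin.succAbove_last]

/-- Pfaffian of a superdiagonal matrix of size `n + 2`. -/
theorem pf_superdiag_succ_succ {R : Type*} [CommRing R] (n : ℕ) (b : ℕ → R) :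
    pf (n + 2) (superdiag (n + 2) b) = (-1) ^ n * b n * pf n (superdiag n b) := by
  rw [pf_succ_succ, Finset.sum_eq_single (Fin.last n)]
  · rw [superdiag_submatrix_castSucc, superdiag_apply]
    simp only [Fin.val_last, Fin.val_castSucc]
    rw [if_neg (by omega), if_pos trivial, pow_succ]
    ring
  · intro j _ hj
    have hj' : (j : ℕ) ≠ n := fun h => hj (Fin.ext (by simpa using h))
    have hjn : (j : ℕ) < n + 1 := j.isLt
    rw [superdiag_apply]
    simp only [Fin.val_last, Fin.val_castSucc]
    rw [if_neg (by omega), if_neg (by omega), mul_zero, zero_mul]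
  · intro h; exact absurd (Finset.mem_univ _) h

/-- Pfaffian of a superdiagonal matrix of even size: the product of the entries in even position. -/
theorem pf_superdiag_even {R : Type*} [CommRing R] (b : ℕ → R) (m : ℕ) :
    pf (2 * m) (superdiag (2 * m) b) = ∏ j ∈ Finset.range m, b (2 * j) := by
  induction m with
  | zero => simp [pf_zero]
  | succ m ih =>
    change pf (2 * m + 2) (superdiag (2 * m + 2) b) = _
    rw [pf_superdiag_succ_succ, ih, Finset.prod_range_succ, pow_mul]
    simp
    ring

/-- Deleting row and column `i` from a superdiagonal matrix gives a superdiagonal matrix. -/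
theorem superdiag_submatrix_succAbove {R : Type*} [CommRing R] (n : ℕ) (b : ℕ → R)
    (i : Fin (n + 1)) :
    (superdiag (n + 1) b).submatrix i.succAbove i.succAbove =
      superdiag n (fun j => if j + 1 < (i : ℕ) then b j else if j + 1 = (i : ℕ) then 0 else b (j + 1)) := by
  ext a a'
  have ha : ((i.succAbove a : Fin (n + 1)) : ℕ) = if (a : ℕ) < (i : ℕ) then (a : ℕ) else (a : ℕ) + 1 := by
    simp only [Fin.succAbove, Fin.lt_def, Fin.val_castSucc]
    split_ifs <;> simp
  have ha' : ((i.succAbove a' : Fin (n + 1)) : ℕ) = if (a' : ℕ) < (i : ℕ) then (a' : ℕ) else (a' : ℕ) + 1 := by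
    simp only [Fin.succAbove, Fin.lt_def, Fin.val_castSucc]
    split_ifs <;> simp
  simp only [Matrix.submatrix_apply, superdiag_apply, ha, ha']
  split_ifs <;> first | rfl | omega | simp_all

end Groth.Agent.Lib.Seat77.PfaffA
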