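import Groth.Agent.Lib.Seat77PfaffA

/-!
# Sub-Pfaffians of a general alternating matrix of binary linear forms span the binary forms
-/

set_option autoImplicit false

namespace Groth.Agent.Lib.Seat77.PfaffB

open W4c3degenlocivb MvPolynomial Groth.Agent.Lib.Seat77.PfaffA

universe u

variable (k : Type u) [Field k] (r : ℕ)

/-- index type of the coefficient variables -/
abbrev Idx : Type := Fin (2 * r + 1) × Fin (2 * r + 1) × Fin 2

/-- the matrix of binary linear forms with coefficient array `c` -/
noncomputable def Nmat {A : Type*} [CommRing A] (c : Fin (2 * r + 1) → Fin (2 * r + 1) → Fin 2 → A) :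
    Matrix (Fin (2 * r + 1)) (Fin (2 * r + 1)) (MvPolynomial (Fin 2) A) :=
  Matrix.of fun a b => ∑ l : Fin 2, C (c a b l) * X l

/-- the generic matrix -/
noncomputable def Gmat : Matrix (Fin (2 * r + 1)) (Fin (2 * r + 1))
    (MvPolynomial (Fin 2) (MvPolynomial (Idx r) k)) :=
  Nmat r fun a b l => (X (a, b, l) : MvPolynomial (Idx r) k)

/-- evaluation of the coefficient variables at `c` -/
noncomputable def evc (c : Fin (2 * r + 1) → Fin (2 * r + 1) → Fin 2 → k) :
    MvPolynomial (Idx r) k →+* k :=
  eval (fun p : Idx r => c p.1 p.2.1 p.2.2)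

theorem Gmat_map (c : Fin (2 * r + 1) → Fin (2 * r + 1) → Fin 2 → k) :
    (Gmat k r).map (MvPolynomial.map (evc k r c)) = Nmat r c := by
  ext a b : 1
  simp only [Matrix.map_apply, Gmat, Nmat, Matrix.of_apply, map_sum, map_mul, map_C, map_X, evc,
    eval_X]

/-- the exponent of `y_0^m y_1^{r-m}` -/
noncomputable def mon (m : ℕ) : Fin 2 →₀ ℕ := Finsupp.single 0 m + Finsupp.single 1 (r - m)

theorem mon_zero (m : ℕ) : mon r m 0 = m := by simp [mon]

theorem mon_one (m : ℕ) : mon r m 1 = r - m := by simp [mon]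

theorem mon_injective {m m' : ℕ} (h : mon r m = mon r m') : m = m' := by
  have := congrArg (fun d : Fin 2 →₀ ℕ => d 0) h
  simpa [mon_zero] using this

theorem eq_mon_of_degree {d : Fin 2 →₀ ℕ} (h : d.degree = r) : d = mon r (d 0) := by
  have h2 : d 0 + d 1 = r := by
    rw [← h, Finsupp.degree_eq_sum, Fin.sum_univ_two]
  ext i
  fin_cases i
  · simp [mon_zero]
  · simp only [Fin.mk_one, mon_one]; omega

theorem degree_mon {m : ℕ} (hm : m ≤ r) : (mon r m).degree = r := by
  rw [Finsupp.degree_eq_sum, Fin.sum_univ_two, mon_zero, mon_one]; omega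

/-- the even rows -/
def row (s : Fin (r + 1)) : Fin (2 * r + 1) := ⟨2 * (s : ℕ), by have := s.isLt; omega⟩

/-- the `i`-th sub-Pfaffian -/
noncomputable def subPf {A : Type*} [CommRing A]
    (N : Matrix (Fin (2 * r + 1)) (Fin (2 * r + 1)) A) (i : Fin (2 * r + 1)) : A :=
  pf (2 * r) (N.submatrix i.succAbove i.succAbove)

theorem subPf_map {A B : Type*} [CommRing A] [CommRing B] (φ : A →+* B)
    (N : Matrix (Fin (2 * r + 1)) (Fin (2 * r + 1)) A) (i : Fin (2 * r + 1)) :
    subPf r (N.map φ) i = φ (subPf r N i) := by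
  rw [subPf, subPf, ← pf_map]
  rfl

/-- the coefficient matrix of the even sub-Pfaffians -/
noncomputable def Dmat {A : Type*} [CommRing A]
    (N : Matrix (Fin (2 * r + 1)) (Fin (2 * r + 1)) (MvPolynomial (Fin 2) A)) :
    Matrix (Fin (r + 1)) (Fin (r + 1)) A :=
  Matrix.of fun s m => coeff (mon r m) (subPf r N (row r s))

/-- the polynomial `Φ` -/
noncomputable def Phi : MvPolynomial (Idx r) k := (Dmat r (Gmat k r)).det

theorem evc_Phi (c : Fin (2 * r + 1) → Fin (2 * r + 1) → Fin 2 → k) :
    evc k r c (Phi k r) = (Dmat r (Nmat r c)).det := by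
  rw [Phi, RingHom.map_det]
  congr 1
  ext s m
  simp only [RingHom.mapMatrix_apply, Matrix.map_apply, Dmat, Matrix.of_apply]
  rw [← Gmat_map k r c, subPf_map, coeff_map]

theorem subPf_isHomogeneous {A : Type*} [CommRing A]
    (c : Fin (2 * r + 1) → Fin (2 * r + 1) → Fin 2 → A) (i : Fin (2 * r + 1)) :
    (subPf r (Nmat r c) i).IsHomogeneous r := by
  apply pf_isHomogeneous
  intro a b
  simp only [Matrix.submatrix_apply, Nmat, Matrix.of_apply]
  refine IsHomogeneous.sum _ _ _ fun l _ => ?_
  have := (isHomogeneous_C (Fin 2) (c (i.succAbove a) (i.succAbove b) l)).mul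
    (isHomogeneous_X A l)
  simpa using this

/-- a binary form of degree `r` is the sum of its `r + 1` monomial terms -/
theorem eq_sum_monomial {p : MvPolynomial (Fin 2) k} (hp : p.IsHomogeneous r) :
    p = ∑ m : Fin (r + 1), monomial (mon r m) (coeff (mon r m) p) := by
  classical
  ext d
  rw [coeff_sum]
  simp only [coeff_monomial]
  by_cases hd : d.degree = r
  · have hd0 : d 0 < r + 1 := by
      have h2 : d 0 + d 1 = r := by rw [← hd, Finsupp.degree_eq_sum, Fin.sum_univ_two]
      omega
    rw [Finset.sum_eq_single (⟨d 0, hd0⟩ : Fin (r + 1))]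
    · rw [← eq_mon_of_degree r hd, if_pos rfl]
    · intro m _ hm
      rw [if_neg]
      intro h
      apply hm
      rw [eq_mon_of_degree r hd] at h
      exact Fin.ext (by simpa using mon_injective r h)
    · intro h; exact absurd (Finset.mem_univ _) h
  · rw [hp.coeff_eq_zero (by simpa [Finsupp.degree_eq_weight_one] using hd)]
    symm
    refine Finset.sum_eq_zero fun m _ => ?_
    rw [if_neg]
    intro h
    apply hd
    rw [← h]
    exact degree_mon r (Nat.lt_succ_iff.mp m.isLt)

/-- If the coefficient matrix is invertible, the sub-Pfaffians span the binary forms of degree `r`. -/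
theorem span_eq (c : Fin (2 * r + 1) → Fin (2 * r + 1) → Fin 2 → k)
    (hdet : (Dmat r (Nmat r c)).det ≠ 0) :
    Submodule.span k (Set.range fun i : Fin (2 * r + 1) => subPf r (Nmat r c) i) =
      homogeneousSubmodule (Fin 2) k r := by
  classical
  set D := Dmat r (Nmat r c) with hD
  have hunit : IsUnit D.det := isUnit_iff_ne_zero.mpr hdet
  have hinv : D⁻¹ * D = 1 := Matrix.nonsing_inv_mul D hunit
  apply le_antisymm
  · refine Submodule.span_le.mpr ?_
    rintro _ ⟨i, rfl⟩
    exact (mem_homogeneousSubmodule _ _).mpr (subPf_isHomogeneous r c i)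
  · intro p hp
    have hp' : p.IsHomogeneous r := (mem_homogeneousSubmodule _ _).mp hp
    have hQ : ∀ s : Fin (r + 1), subPf r (Nmat r c) (row r s) =
        ∑ m : Fin (r + 1), monomial (mon r m) (D s m) := fun s =>
      eq_sum_monomial k r (subPf_isHomogeneous r c (row r s))
    have hmu : ∀ m : Fin (r + 1), (monomial (mon r m) (1 : k)) =
        ∑ s : Fin (r + 1), D⁻¹ m s • subPf r (Nmat r c) (row r s) := by
      intro m
      simp only [hQ, Finset.smul_sum, smul_monomial, smul_eq_mul]
      rw [Finset.sum_comm]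
      have : ∀ m' : Fin (r + 1), ∑ s : Fin (r + 1), monomial (mon r m') (D⁻¹ m s * D s m') =
          monomial (mon r m') ((1 : Matrix (Fin (r + 1)) (Fin (r + 1)) k) m m') := by
        intro m'
        rw [← map_sum, ← hinv, Matrix.mul_apply]
      simp only [this, Matrix.one_apply]
      rw [Finset.sum_eq_single m]
      · rw [if_pos rfl]
      · intro m' _ hm'
        rw [if_neg (Ne.symm hm'), map_zero]
      · intro h; exact absurd (Finset.mem_univ _) h
    rw [eq_sum_monomial k r hp']
    refine Submodule.sum_mem _ fun m _ => ?_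
    have : monomial (mon r m) (coeff (mon r m) p) = coeff (mon r m) p • monomial (mon r m) (1 : k) := by
      rw [smul_monomial, smul_eq_mul, mul_one]
    rw [this, hmu m]
    refine Submodule.smul_mem _ _ (Submodule.sum_mem _ fun s _ => Submodule.smul_mem _ _ ?_)
    exact Submodule.subset_span ⟨row r s, rfl⟩

end Groth.Agent.Lib.Seat77.PfaffB
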