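import Groth.Agent.Lib.Seat77PfaffB

/-!
# The superdiagonal example: its even sub-Pfaffians are the monomials `y_0^s y_1^{r-s}`
-/

set_option autoImplicit false

namespace Groth.Agent.Lib.Seat77.PfaffC

open W4c3degenlocivb MvPolynomial Groth.Agent.Lib.Seat77.PfaffA Groth.Agent.Lib.Seat77.PfaffB

universe u

variable (k : Type u) [Field k] (r : ℕ)

/-- parity as an element of `Fin 2` -/
def par (j : ℕ) : Fin 2 := ⟨j % 2, Nat.mod_lt _ (by norm_num)⟩

/-- the example coefficient array -/
def c0 (a b : Fin (2 * r + 1)) (l : Fin 2) : k :=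
  if (b : ℕ) = (a : ℕ) + 1 then (if l = par a then 1 else 0)
  else if (a : ℕ) = (b : ℕ) + 1 then - (if l = par b then 1 else 0) else 0

theorem c0_antisymm (a b : Fin (2 * r + 1)) (l : Fin 2) : c0 k r b a l = - c0 k r a b l := by
  unfold c0
  split_ifs <;> first | omega | simp

/-- the superdiagonal entries `y_0, y_1, y_0, …` -/
noncomputable def bb (j : ℕ) : MvPolynomial (Fin 2) k := X (par j)

theorem Nmat_c0 : Nmat r (c0 k r) = superdiag (2 * r + 1) (bb k) := by
  classical
  ext a b
  simp only [Nmat, Matrix.of_apply, superdiag_apply, c0, bb]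
  split_ifs with h1 h2
  · simp only [apply_ite C, map_one, map_zero, ite_mul, one_mul, zero_mul]
    rw [Finset.sum_ite_eq' Finset.univ (par a) X, if_pos (Finset.mem_univ _)]
  · simp only [apply_ite C, map_neg, map_one, map_zero, neg_mul, ite_mul, one_mul, zero_mul,
      Finset.sum_neg_distrib]
    rw [Finset.sum_ite_eq' Finset.univ (par b) X, if_pos (Finset.mem_univ _)]
  · simp

theorem prod_range_ite {M : Type*} [CommMonoid M] (x y : M) (s r : ℕ) (hs : s ≤ r) :
    ∏ j ∈ Finset.range r, (if j < s then x else y) = x ^ s * y ^ (r - s) := by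
  obtain ⟨t, rfl⟩ := Nat.exists_eq_add_of_le hs
  rw [Finset.prod_range_add]
  congr 1
  · rw [Finset.prod_congr rfl fun j hj => if_pos (Finset.mem_range.mp hj), Finset.prod_const,
      Finset.card_range]
  · rw [Finset.prod_congr rfl fun j _ => if_neg (by omega), Finset.prod_const,
      Finset.card_range, Nat.add_sub_cancel_left]

theorem par_even (j : ℕ) : par (2 * j) = 0 := by
  apply Fin.ext; simp [par]

theorem par_odd (j : ℕ) : par (2 * j + 1) = 1 := by
  apply Fin.ext; simp [par, Nat.add_mod]

theorem subPf_c0 (s : Fin (r + 1)) :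
    subPf r (Nmat r (c0 k r)) (row r s) = monomial (mon r s) (1 : k) := by
  have hs : (s : ℕ) ≤ r := Nat.lt_succ_iff.mp s.isLt
  rw [subPf, Nmat_c0, superdiag_submatrix_succAbove, pf_superdiag_even]
  have : ∀ j ∈ Finset.range r,
      (if 2 * j + 1 < ((row r s : Fin (2 * r + 1)) : ℕ) then bb k (2 * j)
        else if 2 * j + 1 = ((row r s : Fin (2 * r + 1)) : ℕ) then 0 else bb k (2 * j + 1)) =
      if j < (s : ℕ) then (X 0 : MvPolynomial (Fin 2) k) else X 1 := by
    intro j _
    simp only [row, bb, par_even, par_odd]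
    split_ifs <;> first | rfl | omega
  rw [Finset.prod_congr rfl this, prod_range_ite _ _ _ _ hs, mon, monomial_add_single,
    X_pow_eq_monomial]

theorem Dmat_c0 : Dmat r (Nmat r (c0 k r)) = 1 := by
  classical
  ext s m
  simp only [Dmat, Matrix.of_apply, subPf_c0, coeff_monomial, Matrix.one_apply]
  by_cases h : s = m
  · subst h; simp
  · rw [if_neg h, if_neg]
    intro h'
    exact h (Fin.ext (mon_injective r h'))

/-- The statement about general alternating matrices of binary linear forms. -/
theorem main :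
    ∃ Φ : MvPolynomial (Fin (2 * r + 1) × Fin (2 * r + 1) × Fin 2) k,
      (∃ c : Fin (2 * r + 1) → Fin (2 * r + 1) → Fin 2 → k, (∀ i j l, c j i l = -c i j l) ∧
        MvPolynomial.eval (fun p => c p.1 p.2.1 p.2.2) Φ ≠ 0) ∧
      ∀ c : Fin (2 * r + 1) → Fin (2 * r + 1) → Fin 2 → k, (∀ i j l, c j i l = -c i j l) →
        MvPolynomial.eval (fun p => c p.1 p.2.1 p.2.2) Φ ≠ 0 →
        Submodule.span k (Set.range fun i : Fin (2 * r + 1) =>
            W4c3degenlocivb.pf (2 * r) ((Matrix.of fun a b => ∑ l : Fin 2, MvPolynomial.C (c a b l) * MvPolynomial.X l).submatrix i.succAbove i.succAbove)) =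
          MvPolynomial.homogeneousSubmodule (Fin 2) k r := by
  refine ⟨Phi k r, ⟨c0 k r, fun i j l => c0_antisymm k r i j l, ?_⟩, ?_⟩
  · have h := evc_Phi k r (c0 k r)
    rw [Dmat_c0, Matrix.det_one] at h
    change evc k r (c0 k r) (Phi k r) ≠ 0
    rw [h]
    exact one_ne_zero
  · intro c _ hc
    have h := evc_Phi k r c
    change evc k r c (Phi k r) ≠ 0 at hc
    rw [h] at hc
    exact span_eq k r c hc

end Groth.Agent.Lib.Seat77.PfaffC
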