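import Mathlib
import Groth.Agent.Lib.Helper3ShN

/-!
# Sub-extensions of the strict henselization (helper77)

Local `R`-algebra maps from essentially étale local `R`-algebras into the model `Rsh R Ω` of the
strict henselization are (up to isomorphism) the stage maps `ofL i`; in particular they are
injective.  Transported to an arbitrary strict henselization `S`.
-/

namespace Groth.Agent.Lib.Seat77.ShSub

open IsLocalRing Groth.Agent.Lib.Helper3.Sh Groth.Agent.Lib.Helper3.EssEt

universe u

/-- transport of "essentially étale" along an algebra isomorphism -/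
theorem isEssentiallyEtale_of_algEquiv {A B B' : Type u} [CommRing A] [IsLocalRing A]
    [CommRing B] [Algebra A B] [CommRing B'] [Algebra A B'] (e : B' ≃ₐ[A] B)
    (h : EGA4loc.IsEssentiallyEtale A B) : EGA4loc.IsEssentiallyEtale A B' := by
  obtain ⟨C, i1, i2, q, i3, h1, h2, ⟨e'⟩⟩ := h
  exact ⟨C, i1, i2, q, i3, h1, h2, ⟨e.trans e'⟩⟩

section model

variable {R : Type u} [CommRing R] [IsLocalRing R] {Ω : Type u} [Field Ω] [Algebra R Ω]
  [Algebra (ResidueField R) Ω] [IsScalarTower R (ResidueField R) Ω]

/-- the stage maps are injective -/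
theorem ofL_injective [IsSepClosure (ResidueField R) Ω] (i : Idx R Ω) :
    Function.Injective (ofL (R := R) (Ω := Ω) i) := by
  letI := (ofL (R := R) (Ω := Ω) i).toAlgebra
  haveI : IsLocalHom (algebraMap i.L (Rsh R Ω)) := inferInstanceAs (IsLocalHom (ofL i))
  haveI : Module.Flat i.L (Rsh R Ω) := flat_over_L i
  haveI : Module.FaithfullyFlat i.L (Rsh R Ω) := Module.FaithfullyFlat.of_flat_of_isLocalHom
  exact FaithfulSMul.algebraMap_injective i.L (Rsh R Ω)

/-- a local algebra map from an essentially étale local algebra to `Rsh R Ω` is a stage map -/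
theorem exists_stage_of_algHom (L' : Type u) [CommRing L'] [IsLocalRing L']
    [Algebra R L'] (hL' : EGA4loc.IsEssentiallyEtale R L') (g : L' →ₐ[R] Rsh R Ω)
    [IsLocalHom g.toRingHom] :
    ∃ (i : Idx R Ω) (e' : L' ≃ₐ[R] i.L), ∀ x, g x = ofL i (e' x) := by
  obtain ⟨C, _, _, q, _, hEt, hq, ⟨e0⟩⟩ := id hL'
  let β : ResidueField L' →ₐ[R] Ω := (embΩ (R := R) (Ω := Ω)).comp (resMap g)
  obtain ⟨i, e', he'⟩ := exists_idx (R := R) (Ω := Ω) L' C q hq e0 β
  refine ⟨i, e', ?_⟩
  have key : g = (ofLₐ i).comp (e' : L' →ₐ[R] i.L) := by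
    apply algHom_ext_of_residue R L' (Rsh R Ω) hL'
    intro x
    apply toΩ_injective_residue (R := R) (Ω := Ω)
    rw [embΩ_residue, embΩ_residue]
    change toΩ (g x) = toΩ (ofL i (e' x))
    rw [toΩ_ofL, he' x]
    change _ = embΩ (resMap g (residue L' x))
    rw [resMap_residue, embΩ_residue]
  intro x
  rw [key]
  rfl

theorem injective_of_algHom [IsSepClosure (ResidueField R) Ω] (L' : Type u) [CommRing L']
    [IsLocalRing L'] [Algebra R L'] (hL' : EGA4loc.IsEssentiallyEtale R L')
    (g : L' →ₐ[R] Rsh R Ω) [IsLocalHom g.toRingHom] : Function.Injective g := by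
  obtain ⟨i, e', h⟩ := exists_stage_of_algHom L' hL' g
  intro x y hxy
  rw [h x, h y] at hxy
  exact e'.injective (ofL_injective i hxy)

end model

section general

variable (A S : Type u) [CommRing A] [IsLocalRing A] [CommRing S] [IsLocalRing S] [Algebra A S]
  [IsLocalHom (algebraMap A S)] [Hensel.IsStrictHenselization A S]

/-- A local algebra map from an essentially étale local `A`-algebra to a strict henselization of
`A` is injective. -/
theorem injective_of_algHom_strictHenselization (L' : Type u) [CommRing L'] [IsLocalRing L']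
    [Algebra A L'] (hL' : EGA4loc.IsEssentiallyEtale A L') (g : L' →ₐ[A] S)
    [IsLocalHom g.toRingHom] : Function.Injective g := by
  let Ω := SeparableClosure (ResidueField A)
  letI : Algebra A Ω := ((algebraMap (ResidueField A) Ω).comp (residue A)).toAlgebra
  haveI : IsScalarTower A (ResidueField A) Ω := IsScalarTower.of_algebraMap_eq (fun _ => rfl)
  obtain ⟨e⟩ := nonempty_algEquiv (R := A) (Ω := Ω) S
  let g' : L' →ₐ[A] Rsh A Ω := (e : S →ₐ[A] Rsh A Ω).comp g
  haveI : IsLocalHom g'.toRingHom := by
    constructor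
    intro a ha
    have h1 : IsUnit (e.symm (g' a)) := ha.map e.symm
    have h2 : e.symm (g' a) = g a := e.symm_apply_apply _
    rw [h2] at h1
    exact isUnit_of_map_unit g.toRingHom a h1
  have := injective_of_algHom (R := A) (Ω := Ω) L' hL' g'
  intro x y hxy
  apply this
  change e (g x) = e (g y)
  rw [hxy]

end general

end Groth.Agent.Lib.Seat77.ShSub
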