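import Mathlib

/-!
# Forms of bidegree `(3,3)` on the quadric through the doubled diagonal points (helper77)

Explicit linear algebra in `k[x0, x1, y0, y1] = MvPolynomial (Fin 4) k` (variables `X 0, X 1, X 2, X 3`).

* `mono i j = x0^i x1^(3-i) y0^j y1^(3-j)`, `decomp`: a form of bidegree `(3,3)` is the sum of its sixteen monomials.
* the forms `l, h1, h2, h3, h, h13, h23, c` and the ten forms `gg m`; their bidegrees, behaviour under the swap
  `ι = rename ![2,3,0,1]` and restriction to the diagonal `Δ = rename ![0,1,0,1]`.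
* `coeff_ι`, `diag_relations` (divisibility of the diagonal restriction by `(x0 x1 (x0 - x1))^2` as linear relations
  on the sixteen coefficients), `inv_case`, `anti_case` (explicit expansions in the ten forms).
* `eq_zero_of_sum_eq_zero`: the ten forms are linearly independent (evaluation at ten points).
-/

namespace Groth.Agent.Lib.Seat77.SpinRat

open MvPolynomial

variable (k : Type*) [Field k]

noncomputable def l : MvPolynomial (Fin 4) k := X 0 * X 3 - X 1 * X 2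
noncomputable def h1 : MvPolynomial (Fin 4) k := X 0 * (X 3 - X 2) + X 2 * (X 1 - X 0)
noncomputable def h2 : MvPolynomial (Fin 4) k := X 1 * (X 2 - X 3) + X 3 * (X 0 - X 1)
noncomputable def h3 : MvPolynomial (Fin 4) k := X 0 * X 3 + X 1 * X 2
noncomputable def h : MvPolynomial (Fin 4) k := h1 k + h2 k + h3 k
noncomputable def h13 : MvPolynomial (Fin 4) k := h1 k - h3 k
noncomputable def h23 : MvPolynomial (Fin 4) k := h2 k - h3 k
noncomputable def c : MvPolynomial (Fin 4) k := X 0 * X 1 * (X 0 - X 1) * (X 2 * X 3 * (X 2 - X 3))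

/-- the swap of the two factors -/
noncomputable def ι : MvPolynomial (Fin 4) k →ₐ[k] MvPolynomial (Fin 4) k :=
  rename (![2, 3, 0, 1] : Fin 4 → Fin 4)

/-- restriction to the diagonal -/
noncomputable def Δ : MvPolynomial (Fin 4) k →ₐ[k] MvPolynomial (Fin 2) k :=
  rename (![0, 1, 0, 1] : Fin 4 → Fin 2)

abbrev w1 : Fin 4 → ℕ := ![1, 1, 0, 0]
abbrev w2 : Fin 4 → ℕ := ![0, 0, 1, 1]

variable {k}

section symm

theorem ι_l : ι k (l k) = -l k := by
  simp only [ι, l, map_sub, map_mul, rename_X]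
  simp
  ring

theorem ι_h1 : ι k (h1 k) = h1 k := by
  simp only [ι, h1, map_add, map_sub, map_mul, rename_X]
  simp
  ring

theorem ι_h2 : ι k (h2 k) = h2 k := by
  simp only [ι, h2, map_add, map_sub, map_mul, rename_X]
  simp
  ring

theorem ι_h3 : ι k (h3 k) = h3 k := by
  simp only [ι, h3, map_add, map_mul, rename_X]
  simp
  ring

theorem ι_h : ι k (h k) = h k := by
  simp only [h, map_add, ι_h1, ι_h2, ι_h3]

theorem ι_h13 : ι k (h13 k) = h13 k := by
  simp only [h13, map_sub, ι_h1, ι_h3]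

theorem ι_h23 : ι k (h23 k) = h23 k := by
  simp only [h23, map_sub, ι_h2, ι_h3]

theorem ι_c : ι k (c k) = c k := by
  simp only [ι, c, map_sub, map_mul, rename_X]
  simp
  ring

theorem Δ_l : Δ k (l k) = 0 := by
  simp only [Δ, l, map_sub, map_mul, rename_X]
  simp
  ring

theorem Δ_c : Δ k (c k) = (X 0 * X 1 * (X 0 - X 1)) ^ 2 := by
  simp only [Δ, c, map_sub, map_mul, rename_X]
  simp
  ring

end symm

section bideg

theorem l_w1 : (l k).IsWeightedHomogeneous w1 1 :=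
  ((isWeightedHomogeneous_X k w1 0).mul (isWeightedHomogeneous_X k w1 3)).sub
    ((isWeightedHomogeneous_X k w1 1).mul (isWeightedHomogeneous_X k w1 2))

theorem l_w2 : (l k).IsWeightedHomogeneous w2 1 :=
  ((isWeightedHomogeneous_X k w2 0).mul (isWeightedHomogeneous_X k w2 3)).sub
    ((isWeightedHomogeneous_X k w2 1).mul (isWeightedHomogeneous_X k w2 2))

end bideg

section bideg2

private theorem Xw1 (i : Fin 4) : (X i : MvPolynomial (Fin 4) k).IsWeightedHomogeneous w1 (w1 i) :=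
  isWeightedHomogeneous_X k w1 i
private theorem Xw2 (i : Fin 4) : (X i : MvPolynomial (Fin 4) k).IsWeightedHomogeneous w2 (w2 i) :=
  isWeightedHomogeneous_X k w2 i

theorem h3_w1 : (h3 k).IsWeightedHomogeneous w1 1 :=
  ((Xw1 0).mul (Xw1 3)).add ((Xw1 1).mul (Xw1 2))
theorem h3_w2 : (h3 k).IsWeightedHomogeneous w2 1 :=
  ((Xw2 0).mul (Xw2 3)).add ((Xw2 1).mul (Xw2 2))

theorem h1_w1 : (h1 k).IsWeightedHomogeneous w1 1 := by
  have e : h1 k = X 0 * X 3 - X 0 * X 2 + (X 2 * X 1 - X 2 * X 0) := by unfold h1; ring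
  rw [e]
  exact (((Xw1 0).mul (Xw1 3)).sub ((Xw1 0).mul (Xw1 2))).add
    (((Xw1 2).mul (Xw1 1)).sub ((Xw1 2).mul (Xw1 0)))
theorem h1_w2 : (h1 k).IsWeightedHomogeneous w2 1 := by
  have e : h1 k = X 0 * X 3 - X 0 * X 2 + (X 2 * X 1 - X 2 * X 0) := by unfold h1; ring
  rw [e]
  exact (((Xw2 0).mul (Xw2 3)).sub ((Xw2 0).mul (Xw2 2))).add
    (((Xw2 2).mul (Xw2 1)).sub ((Xw2 2).mul (Xw2 0)))

theorem h2_w1 : (h2 k).IsWeightedHomogeneous w1 1 := by
  have e : h2 k = X 1 * X 2 - X 1 * X 3 + (X 3 * X 0 - X 3 * X 1) := by unfold h2; ring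
  rw [e]
  exact (((Xw1 1).mul (Xw1 2)).sub ((Xw1 1).mul (Xw1 3))).add
    (((Xw1 3).mul (Xw1 0)).sub ((Xw1 3).mul (Xw1 1)))
theorem h2_w2 : (h2 k).IsWeightedHomogeneous w2 1 := by
  have e : h2 k = X 1 * X 2 - X 1 * X 3 + (X 3 * X 0 - X 3 * X 1) := by unfold h2; ring
  rw [e]
  exact (((Xw2 1).mul (Xw2 2)).sub ((Xw2 1).mul (Xw2 3))).add
    (((Xw2 3).mul (Xw2 0)).sub ((Xw2 3).mul (Xw2 1)))

theorem h_w1 : (h k).IsWeightedHomogeneous w1 1 := (h1_w1.add h2_w1).add h3_w1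
theorem h_w2 : (h k).IsWeightedHomogeneous w2 1 := (h1_w2.add h2_w2).add h3_w2
theorem h13_w1 : (h13 k).IsWeightedHomogeneous w1 1 := h1_w1.sub h3_w1
theorem h13_w2 : (h13 k).IsWeightedHomogeneous w2 1 := h1_w2.sub h3_w2
theorem h23_w1 : (h23 k).IsWeightedHomogeneous w1 1 := h2_w1.sub h3_w1
theorem h23_w2 : (h23 k).IsWeightedHomogeneous w2 1 := h2_w2.sub h3_w2

theorem c_w1 : (c k).IsWeightedHomogeneous w1 3 := by
  have e : c k = (X 0 * X 1 * X 0 - X 0 * X 1 * X 1) * (X 2 * X 3 * X 2 - X 2 * X 3 * X 3) := by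
    unfold c; ring
  rw [e]
  exact ((((Xw1 0).mul (Xw1 1)).mul (Xw1 0)).sub (((Xw1 0).mul (Xw1 1)).mul (Xw1 1))).mul
    ((((Xw1 2).mul (Xw1 3)).mul (Xw1 2)).sub (((Xw1 2).mul (Xw1 3)).mul (Xw1 3)))
theorem c_w2 : (c k).IsWeightedHomogeneous w2 3 := by
  have e : c k = (X 0 * X 1 * X 0 - X 0 * X 1 * X 1) * (X 2 * X 3 * X 2 - X 2 * X 3 * X 3) := by
    unfold c; ring
  rw [e]
  exact ((((Xw2 0).mul (Xw2 1)).mul (Xw2 0)).sub (((Xw2 0).mul (Xw2 1)).mul (Xw2 1))).mul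
    ((((Xw2 2).mul (Xw2 3)).mul (Xw2 2)).sub (((Xw2 2).mul (Xw2 3)).mul (Xw2 3)))

/-- products `l^2 * a` and `l * a * b` of bidegree `(3,3)` -/
theorem llx_w {w : Fin 4 → ℕ} {a : MvPolynomial (Fin 4) k} (hl : (l k).IsWeightedHomogeneous w 1)
    (ha : a.IsWeightedHomogeneous w 1) : (l k ^ 2 * a).IsWeightedHomogeneous w 3 := by
  rw [sq]; exact (hl.mul hl).mul ha

theorem lxy_w {w : Fin 4 → ℕ} {a b : MvPolynomial (Fin 4) k} (hl : (l k).IsWeightedHomogeneous w 1)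
    (ha : a.IsWeightedHomogeneous w 1) (hb : b.IsWeightedHomogeneous w 1) :
    (l k * a * b).IsWeightedHomogeneous w 3 := (hl.mul ha).mul hb

end bideg2

/-- exponent vector of `x0^i x1^(3-i) y0^j y1^(3-j)` -/
noncomputable def mexp (i j : Fin 4) : Fin 4 →₀ ℕ :=
  Finsupp.equivFunOnFinite.symm ![(i : ℕ), 3 - (i : ℕ), (j : ℕ), 3 - (j : ℕ)]

noncomputable def mono (k : Type*) [Field k] (i j : Fin 4) : MvPolynomial (Fin 4) k :=
  X 0 ^ (i : ℕ) * X 1 ^ (3 - (i : ℕ)) * X 2 ^ (j : ℕ) * X 3 ^ (3 - (j : ℕ))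

theorem mono_eq (i j : Fin 4) : mono k i j = monomial (mexp i j) 1 := by
  rw [monomial_eq]
  simp only [C_1, one_mul, mono, mexp]
  rw [Finsupp.prod_fintype _ _ (fun _ => pow_zero _)]
  simp [Fin.prod_univ_four]

theorem mexp_injective {i j i' j' : Fin 4} (h : mexp i j = mexp i' j') : i = i' ∧ j = j' := by
  have h0 := DFunLike.congr_fun h 0
  have h2 := DFunLike.congr_fun h 2
  simp [mexp] at h0 h2
  exact ⟨Fin.ext h0, Fin.ext h2⟩

theorem eq_mexp {d : Fin 4 →₀ ℕ} (h1 : d 0 + d 1 = 3) (h2 : d 2 + d 3 = 3) :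
    d = mexp ⟨d 0, by omega⟩ ⟨d 2, by omega⟩ := by
  ext x
  fin_cases x <;> simp [mexp] <;> omega

theorem decomp {f : MvPolynomial (Fin 4) k} (h1 : f.IsWeightedHomogeneous w1 3)
    (h2 : f.IsWeightedHomogeneous w2 3) :
    f = ∑ i : Fin 4, ∑ j : Fin 4, coeff (mexp i j) f • mono k i j := by
  classical
  ext d
  simp only [coeff_sum, coeff_smul, mono_eq, coeff_monomial, smul_eq_mul, mul_ite, mul_one, mul_zero]
  by_cases hd : d 0 + d 1 = 3 ∧ d 2 + d 3 = 3
  · have hd' := eq_mexp hd.1 hd.2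
    set i₀ : Fin 4 := ⟨d 0, by omega⟩
    set j₀ : Fin 4 := ⟨d 2, by omega⟩
    rw [Finset.sum_eq_single i₀, Finset.sum_eq_single j₀]
    · rw [if_pos hd'.symm, hd']
    · intro j _ hj
      rw [if_neg]
      intro h
      rw [hd'] at h
      exact hj (mexp_injective h).2
    · intro h; exact absurd (Finset.mem_univ _) h
    · intro i _ hi
      apply Finset.sum_eq_zero
      intro j _
      rw [if_neg]
      intro h
      rw [hd'] at h
      exact hi (mexp_injective h).1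
    · intro h; exact absurd (Finset.mem_univ _) h
  · have hz : coeff d f = 0 := by
      rw [not_and_or] at hd
      rcases hd with hd | hd
      · apply h1.coeff_eq_zero
        rw [Finsupp.weight_eq_sum]
        simpa [Fin.sum_univ_four] using hd
      · apply h2.coeff_eq_zero
        rw [Finsupp.weight_eq_sum]
        simpa [Fin.sum_univ_four] using hd
    rw [hz]
    symm
    apply Finset.sum_eq_zero
    intro i _
    apply Finset.sum_eq_zero
    intro j _
    rw [if_neg]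
    intro h
    apply hd
    rw [← h]
    have hi := i.2
    have hj := j.2
    simp [mexp]
    omega

theorem swap_injective : Function.Injective (![2, 3, 0, 1] : Fin 4 → Fin 4) := by decide

theorem mapDomain_mexp (i j : Fin 4) :
    Finsupp.mapDomain (![2, 3, 0, 1] : Fin 4 → Fin 4) (mexp j i) = mexp i j := by
  ext x
  have e0 := Finsupp.mapDomain_apply swap_injective (mexp j i) 2
  have e1 := Finsupp.mapDomain_apply swap_injective (mexp j i) 3
  have e2 := Finsupp.mapDomain_apply swap_injective (mexp j i) 0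
  have e3 := Finsupp.mapDomain_apply swap_injective (mexp j i) 1
  simp at e0 e1 e2 e3
  fin_cases x
  · simpa [mexp] using e0
  · simpa [mexp] using e1
  · simpa [mexp] using e2
  · simpa [mexp] using e3

theorem coeff_ι (f : MvPolynomial (Fin 4) k) (i j : Fin 4) :
    coeff (mexp i j) (ι k f) = coeff (mexp j i) f := by
  rw [← mapDomain_mexp i j]
  exact coeff_rename_mapDomain _ swap_injective f (mexp j i)

/-- divisibility between forms of the same degree -/
theorem exists_eq_C_mul_of_dvd {P Q : MvPolynomial (Fin 2) k} {n : ℕ} (hP : P.IsHomogeneous n)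
    (hQ : Q.IsHomogeneous n) (h : Q ∣ P) : ∃ e : k, P = C e * Q := by
  by_cases hP0 : P = 0
  · exact ⟨0, by simp [hP0]⟩
  obtain ⟨q, rfl⟩ := h
  have hQ0 : Q ≠ 0 := by rintro rfl; simp at hP0
  have hq0 : q ≠ 0 := by rintro rfl; simp at hP0
  have h1 := totalDegree_mul_of_isDomain hQ0 hq0
  rw [hP.totalDegree hP0, hQ.totalDegree hQ0] at h1
  have h2 : q.totalDegree = 0 := by omega
  rw [totalDegree_eq_zero_iff_eq_C] at h2
  exact ⟨coeff 0 q, by rw [h2]; simp [mul_comm]⟩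

theorem Δ_mono (i j : Fin 4) :
    Δ k (mono k i j) = X 0 ^ ((i : ℕ) + (j : ℕ)) * X 1 ^ (6 - ((i : ℕ) + (j : ℕ))) := by
  have hi := i.2
  have hj := j.2
  simp only [Δ, mono, map_mul, map_pow, rename_X]
  simp only [Matrix.cons_val_zero, Matrix.cons_val_one, Matrix.cons_val]
  rw [show 6 - ((i : ℕ) + (j : ℕ)) = (3 - (i : ℕ)) + (3 - (j : ℕ)) by omega, pow_add, pow_add]
  ring

theorem Δ_mono_isHomogeneous (i j : Fin 4) : (Δ k (mono k i j)).IsHomogeneous 6 := by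
  rw [Δ_mono]
  have hi := i.2
  have hj := j.2
  have := ((isHomogeneous_X k (0 : Fin 2)).pow ((i : ℕ) + (j : ℕ))).mul
    ((isHomogeneous_X k (1 : Fin 2)).pow (6 - ((i : ℕ) + (j : ℕ))))
  convert this using 1
  omega

theorem D_sq_isHomogeneous :
    ((X 0 * X 1 * (X 0 - X 1)) ^ 2 : MvPolynomial (Fin 2) k).IsHomogeneous 6 := by
  have h1 : (X 0 - X 1 : MvPolynomial (Fin 2) k).IsHomogeneous 1 :=
    (isHomogeneous_X k 0).sub (isHomogeneous_X k 1)
  have := (((isHomogeneous_X k (0 : Fin 2)).mul (isHomogeneous_X k (1 : Fin 2))).mul h1).pow 2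
  exact this

theorem diag_relations [CharZero k] (a : Fin 4 → Fin 4 → k)
    (hdiv : (X 0 * X 1 * (X 0 - X 1)) ^ 2 ∣ Δ k (∑ i : Fin 4, ∑ j : Fin 4, a i j • mono k i j)) :
    ∃ e : k, a 0 0 = 0 ∧ a 3 3 = 0 ∧ a 0 1 + a 1 0 = 0 ∧ a 2 3 + a 3 2 = 0 ∧
      a 0 2 + a 1 1 + a 2 0 = e ∧ a 0 3 + a 1 2 + a 2 1 + a 3 0 = -2 * e ∧
      a 1 3 + a 2 2 + a 3 1 = e := by
  have hhom : (Δ k (∑ i : Fin 4, ∑ j : Fin 4, a i j • mono k i j)).IsHomogeneous 6 := by
    simp only [map_sum, map_smul]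
    apply IsHomogeneous.sum
    intro i _
    apply IsHomogeneous.sum
    intro j _
    have := (isHomogeneous_C (Fin 2) (a i j)).mul (Δ_mono_isHomogeneous (k := k) i j)
    simpa [smul_eq_C_mul] using this
  obtain ⟨e, he⟩ := exists_eq_C_mul_of_dvd hhom D_sq_isHomogeneous hdiv
  refine ⟨e, ?_⟩
  simp only [map_sum, map_smul, Δ_mono] at he
  have key : ∀ u v : k, eval ![u, v] (∑ i : Fin 4, ∑ j : Fin 4,
      a i j • (X 0 ^ ((i : ℕ) + (j : ℕ)) * X 1 ^ (6 - ((i : ℕ) + (j : ℕ))) : MvPolynomial (Fin 2) k)) =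
      e * (u * v * (u - v)) ^ 2 := by
    intro u v
    rw [he]
    simp
  have E0 := key 1 0
  have E1 := key 0 1
  have E2 := key 1 1
  have E3 := key 1 (-1)
  have E4 := key 1 2
  have E5 := key 2 1
  have E6 := key 1 (-2)
  simp [Fin.sum_univ_four, smul_eval] at E0 E1 E2 E3 E4 E5 E6
  norm_num at E0 E1 E2 E3 E4 E5 E6
  refine ⟨?_, ?_, ?_, ?_, ?_, ?_, ?_⟩
  · linear_combination E1
  · linear_combination E0
  · linear_combination (-1/2 : k) * E0 + (-1/2 : k) * E1 + (-1/3 : k) * E2 + (1/9 : k) * E3 +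
      (1/36 : k) * E4 + (1/90 : k) * E5 + (-1/60 : k) * E6
  · linear_combination (-2 : k) * E0 + (-2 : k) * E1 + (-2/3 : k) * E2 + (-2/9 : k) * E3 +
      (1/36 : k) * E4 + (2/45 : k) * E5 + (1/60 : k) * E6
  · linear_combination (1/4 : k) * E0 + (-5 : k) * E1 + (-1/6 : k) * E2 + (-1/6 : k) * E3 +
      (1/24 : k) * E4 + (1/24 : k) * E6
  · linear_combination (5/2 : k) * E0 + (5/2 : k) * E1 + (3/2 : k) * E2 + (-7/18 : k) * E3 +
      (-1/18 : k) * E4 + (-1/18 : k) * E5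
  · linear_combination (-5/4 : k) * E0 + (4 : k) * E1 + (2/3 : k) * E2 + (2/3 : k) * E3 +
      (-1/24 : k) * E4 + (-1/24 : k) * E6

theorem eq_zero_of_sum_eq_zero [CharZero k] (t : Fin 10 → k)
    (ht : t 0 • c k + t 1 • (l k ^ 2 * h k) + t 2 • (l k ^ 2 * h13 k) + t 3 • (l k ^ 2 * h23 k) +
      t 4 • (l k * h k ^ 2) + t 5 • (l k * h k * h13 k) + t 6 • (l k * h k * h23 k) +
      t 7 • (l k * h13 k ^ 2) + t 8 • (l k * h23 k ^ 2) + t 9 • (l k * h13 k * h23 k) = 0) :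
    ∀ i, t i = 0 := by
  have E0 := congrArg (eval ![0, 1, 1, 0]) ht
  have E1 := congrArg (eval ![0, 1, 1, 1]) ht
  have E2 := congrArg (eval ![0, 1, 1, (-1)]) ht
  have E3 := congrArg (eval ![1, 0, 0, 1]) ht
  have E4 := congrArg (eval ![1, 0, 1, 1]) ht
  have E5 := congrArg (eval ![1, 0, 1, (-1)]) ht
  have E6 := congrArg (eval ![1, 1, 0, 1]) ht
  have E7 := congrArg (eval ![1, 1, 1, 0]) ht
  have E8 := congrArg (eval ![1, 1, 1, (-1)]) ht
  have E9 := congrArg (eval ![1, (-1), 1, (-1)]) ht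
  simp only [map_add, map_sub, map_mul, map_pow, map_zero, smul_eval, c, l, h, h13, h23, h1, h2, h3,
    eval_X, Matrix.cons_val] at E0 E1 E2 E3 E4 E5 E6 E7 E8 E9
  intro i
  fin_cases i <;> simp only [Fin.zero_eta, Fin.mk_one, Fin.reduceFinMk, Fin.isValue]
  · linear_combination (1/4 : k) * E9
  · linear_combination (1/6 : k) * E0 + (1/6 : k) * E3
  · linear_combination (1/12 : k) * E0 + (1/12 : k) * E3 + (-1/4 : k) * E4 + (-1/4 : k) * E7
  · linear_combination (1/12 : k) * E0 + (-1/4 : k) * E1 + (1/12 : k) * E3 + (-1/4 : k) * E6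
  · linear_combination (-1/18 : k) * E0 + (1/18 : k) * E3
  · linear_combination (1/36 : k) * E0 + (-7/36 : k) * E3 + (-1/12 : k) * E5 + (1/12 : k) * E7
  · linear_combination (7/36 : k) * E0 + (-1/12 : k) * E2 + (-1/36 : k) * E3 + (-1/12 : k) * E6
  · linear_combination (1/36 : k) * E0 + (-1/9 : k) * E3 + (1/8 : k) * E4 + (-1/24 : k) * E5 + (-1/12 : k) * E7
  · linear_combination (1/9 : k) * E0 + (-1/8 : k) * E1 + (-1/24 : k) * E2 + (-1/36 : k) * E3 + (1/12 : k) * E6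
  · linear_combination (5/36 : k) * E0 + (1/8 : k) * E1 + (-1/24 : k) * E2 + (-5/36 : k) * E3 + (-1/8 : k) * E4 + (-1/24 : k) * E5 + (1/3 : k) * E6 + (-1/3 : k) * E7 + (1/8 : k) * E8

theorem inv_case [CharZero k] (a : Fin 4 → Fin 4 → k) (hsym : ∀ i j, a i j = a j i) (e : k)
    (r0 : a 0 0 = 0) (r6 : a 3 3 = 0) (r1 : a 0 1 + a 1 0 = 0) (r5 : a 2 3 + a 3 2 = 0)
    (r2 : a 0 2 + a 1 1 + a 2 0 = e) (r3 : a 0 3 + a 1 2 + a 2 1 + a 3 0 = -2 * e)
    (r4 : a 1 3 + a 2 2 + a 3 1 = e) :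
    ∑ i : Fin 4, ∑ j : Fin 4, a i j • mono k i j =
      (2 * a 0 2 + a 1 1) • c k + ((1 / 3 : k) * a 0 3) • (l k ^ 2 * h k) +
      (-(1 / 3 : k) * a 0 3 - (1 / 2 : k) * a 1 3) • (l k ^ 2 * h13 k) +
      (-(1 / 2 : k) * a 0 2 - (1 / 3 : k) * a 0 3) • (l k ^ 2 * h23 k) := by
  have q10 : a 1 0 = 0 := by
    have := hsym 1 0
    have hh2 : (2 : k) * a 1 0 = 0 := by linear_combination r1 + this
    simpa using hh2
  have q01 : a 0 1 = 0 := by rw [hsym 0 1, q10]
  have q32 : a 3 2 = 0 := by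
    have := hsym 3 2
    have hh2 : (2 : k) * a 3 2 = 0 := by linear_combination r5 + this
    simpa using hh2
  have q23 : a 2 3 = 0 := by rw [hsym 2 3, q32]
  have q20 : a 2 0 = a 0 2 := hsym 2 0
  have q30 : a 3 0 = a 0 3 := hsym 3 0
  have q31 : a 3 1 = a 1 3 := hsym 3 1
  have q21 : a 2 1 = a 1 2 := hsym 2 1
  have he : e = 2 * a 0 2 + a 1 1 := by rw [← r2, q20]; ring
  have q12 : a 1 2 = -2 * a 0 2 - a 1 1 - a 0 3 := by
    have hh2 : (2 : k) * a 1 2 = 2 * (-2 * a 0 2 - a 1 1 - a 0 3) := by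
      linear_combination r3 - q21 - q30 - 2 * he
    exact mul_left_cancel₀ two_ne_zero hh2
  have q22 : a 2 2 = 2 * a 0 2 + a 1 1 - 2 * a 1 3 := by
    linear_combination r4 - q31 + he
  apply MvPolynomial.funext
  intro x
  simp only [Fin.sum_univ_four, mono, c, l, h, h13, SpinRat.h23, h1, SpinRat.h2, h3, map_add, map_sub, map_mul, map_pow,
    smul_eval, eval_X]
  rw [r0, r6, q01, q10, q23, q32, q20, q30, q31, q21, q12, q22]
  simp
  ring

theorem anti_case [CharZero k] (a : Fin 4 → Fin 4 → k) (hanti : ∀ i j, a i j = -a j i) :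
    ∑ i : Fin 4, ∑ j : Fin 4, a i j • mono k i j =
      (-(1 / 9 : k) * a 0 3) • (l k * h k ^ 2) +
      ((2 / 9 : k) * a 0 3 + (1 / 6 : k) * a 1 3) • (l k * h k * h13 k) +
      ((1 / 6 : k) * a 0 2 + (2 / 9 : k) * a 0 3) • (l k * h k * h23 k) +
      (-(1 / 9 : k) * a 0 3 - (1 / 6 : k) * a 1 3 - (1 / 4 : k) * a 2 3) • (l k * h13 k ^ 2) +
      (-(1 / 4 : k) * a 0 1 - (1 / 6 : k) * a 0 2 - (1 / 9 : k) * a 0 3) • (l k * h23 k ^ 2) +
      (-(1 / 6 : k) * a 0 2 + (1 / 36 : k) * a 0 3 - (1 / 4 : k) * a 1 2 - (1 / 6 : k) * a 1 3) •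
        (l k * h13 k * h23 k) := by
  have hd : ∀ i, a i i = 0 := by
    intro i
    have := hanti i i
    have hh2 : (2 : k) * a i i = 0 := by linear_combination this
    simpa using hh2
  apply MvPolynomial.funext
  intro x
  simp only [Fin.sum_univ_four, mono, l, h, h13, SpinRat.h23, h1, SpinRat.h2, h3, map_add, map_sub, map_mul, map_pow,
    smul_eval, eval_X]
  rw [hd 0, hd 1, hd 2, hd 3, hanti 1 0, hanti 2 0, hanti 3 0, hanti 2 1, hanti 3 1, hanti 3 2]
  simp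
  ring

end Groth.Agent.Lib.Seat77.SpinRat
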