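import Mathlib.RingTheory.MvPolynomial.Symmetric.Defs
import Mathlib.RingTheory.AdjoinRoot
import Mathlib.RingTheory.Polynomial.Vieta

/-!
# Staircase (Artin) basis of the universal splitting algebra — part A: recurrences

`beta θ α` is the coefficient sequence of the quotient of the monic polynomial with (signed)
coefficients `α` by `T - θ`.  The elementary symmetric polynomials in `n + 1` variables satisfy
`e_{k+1}(t_0, t') = e_{k+1}(t') + t_0 e_k(t')`.
-/

set_option autoImplicit false

namespace Groth.Agent.Lib.Seat77.SymBasisA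

open MvPolynomial

/-- `β_0 = α_0`, `β_{k+1} = α_{k+1} - θ β_k`. -/
def beta {A : Type*} [CommRing A] (θ : A) (α : ℕ → A) : ℕ → A
  | 0 => α 0
  | k + 1 => α (k + 1) - θ * beta θ α k

@[simp] theorem beta_zero {A : Type*} [CommRing A] (θ : A) (α : ℕ → A) : beta θ α 0 = α 0 := rfl

theorem beta_succ {A : Type*} [CommRing A] (θ : A) (α : ℕ → A) (k : ℕ) :
    beta θ α (k + 1) = α (k + 1) - θ * beta θ α k := rfl

theorem beta_congr {A : Type*} [CommRing A] (θ : A) (α α' : ℕ → A) (m : ℕ)
    (h : ∀ k ≤ m, α k = α' k) : beta θ α m = beta θ α' m := by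
  induction m with
  | zero => simpa using h 0 le_rfl
  | succ m ih =>
    rw [beta_succ, beta_succ, h (m + 1) le_rfl, ih fun k hk => h k (hk.trans (Nat.le_succ m))]

theorem map_beta {A B : Type*} [CommRing A] [CommRing B] (φ : A →+* B) (θ : A) (α : ℕ → A)
    (m : ℕ) : φ (beta θ α m) = beta (φ θ) (fun k => φ (α k)) m := by
  induction m with
  | zero => rfl
  | succ m ih => rw [beta_succ, beta_succ, map_sub, map_mul, ih]

/-- `Σ_{k ≤ m} (-1)^k α_k θ^{m-k} = (-1)^m β_m`. -/
theorem sum_eq_beta {A : Type*} [CommRing A] (θ : A) (α : ℕ → A) (m : ℕ) :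
    ∑ k ∈ Finset.range (m + 1), (-1) ^ k * α k * θ ^ (m - k) = (-1) ^ m * beta θ α m := by
  induction m with
  | zero => simp
  | succ m ih =>
    rw [Finset.sum_range_succ, beta_succ]
    have h1 : ∑ k ∈ Finset.range (m + 1), (-1) ^ k * α k * θ ^ (m + 1 - k) =
        θ * ∑ k ∈ Finset.range (m + 1), (-1) ^ k * α k * θ ^ (m - k) := by
      rw [Finset.mul_sum]
      refine Finset.sum_congr rfl fun k hk => ?_
      have hk' : k ≤ m := Nat.lt_succ_iff.mp (Finset.mem_range.mp hk)
      rw [show m + 1 - k = (m - k) + 1 by omega, pow_succ]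
      ring
    rw [h1, ih]
    simp only [Nat.sub_self, pow_zero, mul_one]
    ring

/-- The elementary symmetric functions of `a ::ₘ s`. -/
theorem multiset_esymm_cons {A : Type*} [CommRing A] (a : A) (s : Multiset A) (k : ℕ) :
    (a ::ₘ s).esymm (k + 1) = s.esymm (k + 1) + a * s.esymm k := by
  simp only [Multiset.esymm, Multiset.powersetCard_cons, Multiset.map_add, Multiset.sum_add,
    Multiset.map_map, Function.comp_def, Multiset.prod_cons, Multiset.sum_map_mul_left]

theorem multiset_esymm_zero {A : Type*} [CommRing A] (s : Multiset A) : s.esymm 0 = 1 := by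
  simp [Multiset.esymm]

theorem univ_val_map_succ {A : Type*} (n : ℕ) (g : Fin (n + 1) → A) :
    (Finset.univ : Finset (Fin (n + 1))).val.map g =
      g 0 ::ₘ (Finset.univ : Finset (Fin n)).val.map (fun i => g i.succ) := by
  rw [Fin.univ_succ]
  simp [Multiset.map_map, Function.comp_def]

/-- `e_{k+1}(g_0, g') = e_{k+1}(g') + g_0 e_k(g')`. -/
theorem aeval_esymm_succ {R S : Type*} [CommRing R] [CommRing S] [Algebra R S] (n : ℕ)
    (g : Fin (n + 1) → S) (k : ℕ) :
    aeval g (esymm (Fin (n + 1)) R (k + 1)) =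
      aeval (fun i : Fin n => g i.succ) (esymm (Fin n) R (k + 1)) +
        g 0 * aeval (fun i : Fin n => g i.succ) (esymm (Fin n) R k) := by
  rw [aeval_esymm_eq_multiset_esymm, aeval_esymm_eq_multiset_esymm,
    aeval_esymm_eq_multiset_esymm, univ_val_map_succ, multiset_esymm_cons]

theorem esymm_eq_zero_of_card_lt {R : Type*} [CommRing R] (n k : ℕ) (h : n < k) :
    esymm (Fin n) R k = 0 := by
  rw [esymm, Finset.powersetCard_eq_empty.mpr (by simpa using h), Finset.sum_empty]

/-- The sequence `E'_k = e_k(g')` is `beta (g 0)` of the sequence `E_k = e_k(g)`. -/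
theorem aeval_esymm_tail_eq_beta {R S : Type*} [CommRing R] [CommRing S] [Algebra R S] (n : ℕ)
    (g : Fin (n + 1) → S) (k : ℕ) :
    aeval (fun i : Fin n => g i.succ) (esymm (Fin n) R k) =
      beta (g 0) (fun j => aeval g (esymm (Fin (n + 1)) R j)) k := by
  induction k with
  | zero => simp [esymm_zero]
  | succ k ih =>
    rw [beta_succ, ← ih, aeval_esymm_succ]
    ring

end Groth.Agent.Lib.Seat77.SymBasisA
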