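import Groth.Agent.Lib.Seat77SymBasisA

/-!
# Staircase (Artin) basis of the universal splitting algebra — part B: the adjoined root

For a sequence `α : ℕ → R` with `α 0 = 1` the polynomial `fpoly n α = Σ_k (-1)^k α_k T^{n+1-k}`
is monic of degree `n + 1`; power-basis facts for `AdjoinRoot (fpoly n α)`.
-/

set_option autoImplicit false

namespace Groth.Agent.Lib.Seat77.SymBasisB

open Polynomial Groth.Agent.Lib.Seat77.SymBasisA

universe u

variable {R : Type u} [CommRing R]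

/-- The monic polynomial `Σ_{k ≤ n+1} (-1)^k α_k T^{n+1-k}`. -/
noncomputable def fpoly (n : ℕ) (α : ℕ → R) : R[X] :=
  ∑ k ∈ Finset.range (n + 2), C ((-1) ^ k * α k) * X ^ (n + 1 - k)

theorem fpoly_eq (n : ℕ) (α : ℕ → R) (hα : α 0 = 1) :
    fpoly n α = X ^ (n + 1) +
      ∑ k ∈ Finset.range (n + 1), C ((-1) ^ (k + 1) * α (k + 1)) * X ^ (n - k) := by
  rw [fpoly, Finset.sum_range_succ']
  simp only [pow_zero, one_mul, hα, map_one, Nat.sub_zero]
  rw [add_comm]
  congr 1
  refine Finset.sum_congr rfl fun k _ => ?_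
  rw [show n + 1 - (k + 1) = n - k by omega]

theorem degree_tail_lt (n : ℕ) (α : ℕ → R) :
    degree (∑ k ∈ Finset.range (n + 1), C ((-1) ^ (k + 1) * α (k + 1)) * X ^ (n - k)) <
      ((n + 1 : ℕ) : WithBot ℕ) := by
  refine lt_of_le_of_lt (degree_sum_le _ _) ?_
  rw [Finset.sup_lt_iff (by exact WithBot.bot_lt_coe _)]
  intro k _
  refine lt_of_le_of_lt (degree_C_mul_X_pow_le _ _) ?_
  exact_mod_cast Nat.lt_succ_of_le (Nat.sub_le n k)

theorem fpoly_monic (n : ℕ) (α : ℕ → R) (hα : α 0 = 1) : (fpoly n α).Monic := by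
  rw [fpoly_eq n α hα]
  exact monic_X_pow_add (degree_tail_lt n α)

theorem fpoly_degree [Nontrivial R] (n : ℕ) (α : ℕ → R) (hα : α 0 = 1) :
    (fpoly n α).degree = ((n + 1 : ℕ) : WithBot ℕ) := by
  rw [fpoly_eq n α hα, degree_add_eq_left_of_degree_lt, degree_X_pow]
  rw [degree_X_pow]
  exact degree_tail_lt n α

theorem eval₂_fpoly {S : Type*} [CommRing S] (φ : R →+* S) (θ : S) (n : ℕ) (α : ℕ → R) :
    (fpoly n α).eval₂ φ θ = (-1) ^ (n + 1) * beta θ (fun k => φ (α k)) (n + 1) := by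
  rw [← sum_eq_beta, fpoly, eval₂_finsetSum]
  refine Finset.sum_congr rfl fun k _ => ?_
  simp [eval₂_mul, eval₂_C, eval₂_pow, eval₂_X]

/-- In `AdjoinRoot (fpoly n α)` the sequence `β` vanishes in degree `n + 1`. -/
theorem beta_root_eq_zero (n : ℕ) (α : ℕ → R) :
    beta (AdjoinRoot.root (fpoly n α)) (fun k => AdjoinRoot.of (fpoly n α) (α k)) (n + 1) = 0 := by
  have h := eval₂_fpoly (AdjoinRoot.of (fpoly n α)) (AdjoinRoot.root (fpoly n α)) n α
  rw [AdjoinRoot.eval₂_root] at h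
  have h2 : ((-1 : AdjoinRoot (fpoly n α)) ^ (n + 1)) *
      ((-1) ^ (n + 1) * beta (AdjoinRoot.root (fpoly n α))
        (fun k => AdjoinRoot.of (fpoly n α) (α k)) (n + 1)) = 0 := by
    rw [← h, mul_zero]
  rw [← mul_assoc, ← pow_add, ← two_mul, pow_mul] at h2
  simpa using h2

/-- Every element of `AdjoinRoot (fpoly n α)` is a combination of `1, θ, …, θ^n`. -/
theorem exists_coeffs (n : ℕ) (α : ℕ → R) (hα : α 0 = 1) (ρ : AdjoinRoot (fpoly n α)) :
    ∃ c : ℕ → R, ρ = ∑ m ∈ Finset.range (n + 1),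
      AdjoinRoot.of (fpoly n α) (c m) * AdjoinRoot.root (fpoly n α) ^ m := by
  rcases subsingleton_or_nontrivial R with hR | hR
  · have : Subsingleton (AdjoinRoot (fpoly n α)) := Module.subsingleton R _
    exact ⟨fun _ => 0, Subsingleton.elim _ _⟩
  obtain ⟨g, rfl⟩ := AdjoinRoot.mk_surjective (g := fpoly n α) ρ
  have hmon := fpoly_monic n α hα
  have hne : fpoly n α ≠ 1 := by
    intro h
    have := fpoly_degree n α hα
    rw [h, degree_one] at this
    exact absurd this (by exact_mod_cast (Nat.succ_ne_zero n).symm)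
  have hdeg : (g %ₘ fpoly n α).natDegree < n + 1 := by
    have h1 := natDegree_modByMonic_lt g hmon hne
    have h2 : (fpoly n α).natDegree = n + 1 := natDegree_eq_of_degree_eq_some (fpoly_degree n α hα)
    omega
  refine ⟨fun m => (g %ₘ fpoly n α).coeff m, ?_⟩
  have h3 : AdjoinRoot.mk (fpoly n α) g = AdjoinRoot.mk (fpoly n α) (g %ₘ fpoly n α) := by
    conv_lhs => rw [← modByMonic_add_div g (fpoly n α)]
    rw [map_add, map_mul, AdjoinRoot.mk_self, zero_mul, add_zero]
  rw [h3]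
  conv_lhs => rw [as_sum_range' (g %ₘ fpoly n α) (n + 1) hdeg]
  rw [map_sum]
  refine Finset.sum_congr rfl fun m _ => ?_
  rw [← C_mul_X_pow_eq_monomial, map_mul, map_pow, AdjoinRoot.mk_C, AdjoinRoot.mk_X]

/-- `1, θ, …, θ^n` are linearly independent over `R` in `AdjoinRoot (fpoly n α)`. -/
theorem coeffs_eq_zero (n : ℕ) (α : ℕ → R) (hα : α 0 = 1) (c : ℕ → R)
    (h : ∑ m ∈ Finset.range (n + 1),
      AdjoinRoot.of (fpoly n α) (c m) * AdjoinRoot.root (fpoly n α) ^ m = 0) :
    ∀ m < n + 1, c m = 0 := by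
  rcases subsingleton_or_nontrivial R with hR | hR
  · intro m _; exact Subsingleton.elim _ _
  set P : R[X] := ∑ m ∈ Finset.range (n + 1), C (c m) * X ^ m with hP
  have hmk : AdjoinRoot.mk (fpoly n α) P = 0 := by
    rw [hP, map_sum, ← h]
    refine Finset.sum_congr rfl fun m _ => ?_
    rw [map_mul, map_pow, AdjoinRoot.mk_C, AdjoinRoot.mk_X]
  have hdvd : fpoly n α ∣ P := AdjoinRoot.mk_eq_zero.mp hmk
  have hdegP : P.degree < (fpoly n α).degree := by
    rw [fpoly_degree n α hα, hP]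
    refine lt_of_le_of_lt (degree_sum_le _ _) ?_
    rw [Finset.sup_lt_iff (by exact WithBot.bot_lt_coe _)]
    intro m hm
    refine lt_of_le_of_lt (degree_C_mul_X_pow_le _ _) ?_
    exact_mod_cast Finset.mem_range.mp hm
  have hP0 : P = 0 := by
    by_contra hne
    exact (fpoly_monic n α hα).not_dvd_of_degree_lt hne hdegP hdvd
  intro m hm
  have hc : P.coeff m = c m := by
    rw [hP, finsetSum_coeff]
    simp only [coeff_C_mul_X_pow]
    rw [Finset.sum_eq_single m]
    · simp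
    · intro b _ hb; rw [if_neg (Ne.symm hb)]
    · intro hm'; exact absurd (Finset.mem_range.mpr hm) hm'
  rw [← hc, hP0, coeff_zero]

end Groth.Agent.Lib.Seat77.SymBasisB
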