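import Groth.Agent.Lib.Seat77SymBasisB

/-!
# Staircase (Artin) basis of the universal splitting algebra — part C: the two ring maps

`Psi : R[t_0..t_n] → R₁[t_1..t_n]` with `R₁ = R[θ]/(f(θ))`, sending `t_0 ↦ θ`, and
`Psi' : R₁[t_1..t_n] → R[t_0..t_n]/I`, sending `θ ↦ t_0`; they intertwine the relation ideals.
-/

set_option autoImplicit false

namespace Groth.Agent.Lib.Seat77.SymBasisC

open MvPolynomial Groth.Agent.Lib.Seat77.SymBasisA Groth.Agent.Lib.Seat77.SymBasisB

universe u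

variable {R : Type u} [CommRing R]

/-- The relation ideal generated by `e_k(t) - α_k`, `k ≤ n`. -/
noncomputable def relIdeal (n : ℕ) (α : ℕ → R) : Ideal (MvPolynomial (Fin n) R) :=
  Ideal.span {p | ∃ k ≤ n, p = esymm (Fin n) R k - C (α k)}

theorem esymm_sub_mem (n : ℕ) (α : ℕ → R) (k : ℕ) (hk : k ≤ n) :
    esymm (Fin n) R k - C (α k) ∈ relIdeal n α :=
  Ideal.subset_span ⟨k, hk, rfl⟩

theorem map_esymm_eq {A B : Type*} [CommRing A] [CommRing B] {σ : Type*} [Fintype σ]
    (φ : MvPolynomial σ A →+* B) (k : ℕ) :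
    φ (esymm σ A k) = ∑ t ∈ Finset.powersetCard k Finset.univ, ∏ i ∈ t, φ (X i) := by
  rw [esymm, map_sum]
  exact Finset.sum_congr rfl fun t _ => map_prod φ _ _

section Step

variable (n : ℕ) (α : ℕ → R)

/-- The root `θ`. -/
noncomputable abbrev theta : AdjoinRoot (fpoly n α) := AdjoinRoot.root (fpoly n α)

/-- The coefficient sequence `β` of the quotient of `f` by `T - θ`. -/
noncomputable def bseq : ℕ → AdjoinRoot (fpoly n α) :=
  beta (theta n α) (fun k => AdjoinRoot.of (fpoly n α) (α k))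

theorem bseq_zero (hα : α 0 = 1) : bseq n α 0 = 1 := by
  simp [bseq, hα]

theorem bseq_succ (k : ℕ) :
    bseq n α (k + 1) = AdjoinRoot.of (fpoly n α) (α (k + 1)) - theta n α * bseq n α k := rfl

theorem bseq_top : bseq n α (n + 1) = 0 := beta_root_eq_zero n α

/-- `t_0 ↦ θ`, `t_{i+1} ↦ t_i`. -/
noncomputable def Psi :
    MvPolynomial (Fin (n + 1)) R →ₐ[R] MvPolynomial (Fin n) (AdjoinRoot (fpoly n α)) :=
  aeval (Fin.cons (C (theta n α)) (fun i => X i) :
    Fin (n + 1) → MvPolynomial (Fin n) (AdjoinRoot (fpoly n α)))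

theorem Psi_C (r : R) : Psi n α (C r) = C (AdjoinRoot.of (fpoly n α) r) := by
  rw [Psi, aeval_C, MvPolynomial.algebraMap_apply, AdjoinRoot.algebraMap_eq]

theorem Psi_X_zero : Psi n α (X 0) = C (theta n α) := by
  rw [Psi, aeval_X, Fin.cons_zero]

theorem Psi_X_succ (i : Fin n) : Psi n α (X i.succ) = X i := by
  rw [Psi, aeval_X, Fin.cons_succ]

theorem aeval_X_esymm (k : ℕ) :
    aeval (fun i : Fin n => (X i : MvPolynomial (Fin n) (AdjoinRoot (fpoly n α))))
      (esymm (Fin n) R k) = esymm (Fin n) (AdjoinRoot (fpoly n α)) k := by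
  rw [aeval_esymm_eq_multiset_esymm, esymm_eq_multiset_esymm]

theorem Psi_esymm_succ (k : ℕ) :
    Psi n α (esymm (Fin (n + 1)) R (k + 1)) =
      esymm (Fin n) (AdjoinRoot (fpoly n α)) (k + 1) +
        C (theta n α) * esymm (Fin n) (AdjoinRoot (fpoly n α)) k := by
  rw [Psi, aeval_esymm_succ]
  simp only [Fin.cons_succ, Fin.cons_zero]
  rw [aeval_X_esymm, aeval_X_esymm]

/-- `e_k - β_k` lies in the relation ideal for every `k ≤ n + 1` (for `k = n + 1` it is zero). -/
theorem esymm_sub_bseq_mem (k : ℕ) (hk : k ≤ n + 1) :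
    esymm (Fin n) (AdjoinRoot (fpoly n α)) k - C (bseq n α k) ∈ relIdeal n (bseq n α) := by
  rcases Nat.lt_or_ge k (n + 1) with h | h
  · exact esymm_sub_mem n _ k (Nat.lt_succ_iff.mp h)
  · have hk' : k = n + 1 := le_antisymm hk h
    subst hk'
    rw [esymm_eq_zero_of_card_lt n (n + 1) (Nat.lt_succ_self n), bseq_top, map_zero, sub_zero]
    exact Ideal.zero_mem _

theorem Psi_mem (hα : α 0 = 1) (p : MvPolynomial (Fin (n + 1)) R)
    (hp : p ∈ relIdeal (n + 1) α) : Psi n α p ∈ relIdeal n (bseq n α) := by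
  have hle : relIdeal (n + 1) α ≤ (relIdeal n (bseq n α)).comap (Psi n α).toRingHom := by
    refine Ideal.span_le.mpr ?_
    rintro _ ⟨k, hk, rfl⟩
    rw [SetLike.mem_coe, Ideal.mem_comap]
    change Psi n α (esymm (Fin (n + 1)) R k - C (α k)) ∈ _
    rcases k with _ | j
    · rw [esymm_zero, hα, map_one, sub_self, map_zero]
      exact Ideal.zero_mem _
    · rw [map_sub, Psi_esymm_succ, Psi_C]
      have h1 := esymm_sub_bseq_mem n α (j + 1) hk
      have h2 := esymm_sub_bseq_mem n α j ((Nat.le_succ j).trans hk)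
      have key : esymm (Fin n) (AdjoinRoot (fpoly n α)) (j + 1) +
          C (theta n α) * esymm (Fin n) (AdjoinRoot (fpoly n α)) j -
            C (AdjoinRoot.of (fpoly n α) (α (j + 1))) =
          (esymm (Fin n) (AdjoinRoot (fpoly n α)) (j + 1) - C (bseq n α (j + 1))) +
            C (theta n α) * (esymm (Fin n) (AdjoinRoot (fpoly n α)) j - C (bseq n α j)) := by
        rw [bseq_succ, map_sub, map_mul]
        ring
      rw [key]
      exact Ideal.add_mem _ h1 (Ideal.mul_mem_left _ _ h2)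
  exact hle hp

/-- the quotient ring -/
abbrev Quot : Type u := MvPolynomial (Fin (n + 1)) R ⧸ relIdeal (n + 1) α

/-- the class of a polynomial -/
noncomputable abbrev mkQ : MvPolynomial (Fin (n + 1)) R →+* Quot n α :=
  Ideal.Quotient.mk (relIdeal (n + 1) α)

theorem mkQ_esymm (k : ℕ) (hk : k ≤ n + 1) :
    mkQ n α (esymm (Fin (n + 1)) R k) = mkQ n α (C (α k)) :=
  Ideal.Quotient.eq.mpr (esymm_sub_mem (n + 1) α k hk)

/-- The tail elementary symmetric functions `e_k(t_1..t_n)` inside `R[t_0..t_n]`. -/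
noncomputable def tailE (k : ℕ) : MvPolynomial (Fin (n + 1)) R :=
  aeval (fun i : Fin n => (X i.succ : MvPolynomial (Fin (n + 1)) R)) (esymm (Fin n) R k)

theorem mkQ_tailE (k : ℕ) (hk : k ≤ n + 1) :
    mkQ n α (tailE n k) = beta (mkQ n α (X 0)) (fun j => mkQ n α (C (α j))) k := by
  have h1 := aeval_esymm_tail_eq_beta (R := R) n
    (fun i : Fin (n + 1) => (X i : MvPolynomial (Fin (n + 1)) R)) k
  rw [tailE, h1, map_beta]
  refine beta_congr _ _ _ k fun j hj => ?_
  rw [aeval_X_left, AlgHom.id_apply]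
  exact mkQ_esymm n α j (hj.trans hk)

theorem tailE_top : tailE (R := R) n (n + 1) = 0 := by
  rw [tailE, esymm_eq_zero_of_card_lt n (n + 1) (Nat.lt_succ_self n), map_zero]

theorem eval₂_fpoly_eq_zero :
    (fpoly n α).eval₂ ((mkQ n α).comp C) (mkQ n α (X 0)) = 0 := by
  rw [eval₂_fpoly]
  have h := mkQ_tailE n α (n + 1) le_rfl
  rw [tailE_top, map_zero] at h
  simp only [RingHom.comp_apply]
  rw [← h, mul_zero]

/-- `θ ↦ t_0` on the coefficient ring. -/
noncomputable def liftHom : AdjoinRoot (fpoly n α) →+* Quot n α :=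
  AdjoinRoot.lift ((mkQ n α).comp C) (mkQ n α (X 0)) (eval₂_fpoly_eq_zero n α)

theorem liftHom_of (r : R) : liftHom n α (AdjoinRoot.of (fpoly n α) r) = mkQ n α (C r) := by
  rw [liftHom, AdjoinRoot.lift_of, RingHom.comp_apply]

theorem liftHom_theta : liftHom n α (theta n α) = mkQ n α (X 0) := by
  rw [liftHom, theta, AdjoinRoot.lift_root]

theorem liftHom_bseq (k : ℕ) (hk : k ≤ n + 1) : liftHom n α (bseq n α k) = mkQ n α (tailE n k) := by
  rw [bseq, map_beta, liftHom_theta, mkQ_tailE n α k hk]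
  simp only [liftHom_of]

/-- `θ ↦ t_0`, `t_i ↦ t_{i+1}`. -/
noncomputable def Psi' : MvPolynomial (Fin n) (AdjoinRoot (fpoly n α)) →+* Quot n α :=
  eval₂Hom (liftHom n α) (fun i => mkQ n α (X i.succ))

theorem Psi'_C (ρ : AdjoinRoot (fpoly n α)) : Psi' n α (C ρ) = liftHom n α ρ := by
  rw [Psi', coe_eval₂Hom, eval₂_C]

theorem Psi'_X (i : Fin n) : Psi' n α (X i) = mkQ n α (X i.succ) := by
  rw [Psi', coe_eval₂Hom, eval₂_X]

theorem Psi'_esymm (k : ℕ) :
    Psi' n α (esymm (Fin n) (AdjoinRoot (fpoly n α)) k) = mkQ n α (tailE n k) := by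
  rw [map_esymm_eq, tailE]
  have h2 := map_esymm_eq ((mkQ n α).comp
    (aeval (R := R) (fun i : Fin n => (X i.succ : MvPolynomial (Fin (n + 1)) R))).toRingHom) k
  simp only [RingHom.comp_apply, AlgHom.toRingHom_eq_coe, RingHom.coe_coe, aeval_X] at h2
  rw [h2]
  simp only [Psi'_X]

theorem Psi'_Psi (x : MvPolynomial (Fin (n + 1)) R) : Psi' n α (Psi n α x) = mkQ n α x := by
  have h : (Psi' n α).comp (Psi n α).toRingHom = mkQ n α := by
    refine MvPolynomial.ringHom_ext (fun r => ?_) (fun i => ?_)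
    · simp only [RingHom.comp_apply, AlgHom.toRingHom_eq_coe, RingHom.coe_coe]
      rw [Psi_C, Psi'_C, liftHom_of]
    · simp only [RingHom.comp_apply, AlgHom.toRingHom_eq_coe, RingHom.coe_coe]
      refine Fin.cases ?_ (fun j => ?_) i
      · rw [Psi_X_zero, Psi'_C, liftHom_theta]
      · rw [Psi_X_succ, Psi'_X]
  exact congrArg (fun φ : MvPolynomial (Fin (n + 1)) R →+* Quot n α => φ x) h

theorem Psi'_eq_zero (q : MvPolynomial (Fin n) (AdjoinRoot (fpoly n α)))
    (hq : q ∈ relIdeal n (bseq n α)) : Psi' n α q = 0 := by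
  have hle : relIdeal n (bseq n α) ≤ RingHom.ker (Psi' n α) := by
    refine Ideal.span_le.mpr ?_
    rintro _ ⟨k, hk, rfl⟩
    rw [SetLike.mem_coe, RingHom.mem_ker, map_sub, Psi'_esymm, Psi'_C,
      liftHom_bseq n α k (hk.trans (Nat.le_succ n)), sub_self]
  exact hle hq

/-- Pulling back along `Psi` reflects membership in the relation ideals. -/
theorem mem_of_Psi_mem (x : MvPolynomial (Fin (n + 1)) R)
    (hx : Psi n α x ∈ relIdeal n (bseq n α)) : x ∈ relIdeal (n + 1) α := by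
  have h := Psi'_eq_zero n α _ hx
  rw [Psi'_Psi] at h
  exact Ideal.Quotient.eq_zero_iff_mem.mp h

end Step

end Groth.Agent.Lib.Seat77.SymBasisC
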