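import Groth.Agent.Lib.Seat77SymBasisC

/-!
# Staircase (Artin) basis of the universal splitting algebra — part D: the induction

For every commutative ring `R`, every sequence `α` with `α 0 = 1`, the staircase monomials
`t^d`, `d_i < n - i`, form an `R`-basis of `R[t_1..t_n]` modulo the ideal `(e_k(t) - α_k)`.
-/

set_option autoImplicit false

namespace Groth.Agent.Lib.Seat77.SymBasisD

open MvPolynomial Groth.Agent.Lib.Seat77.SymBasisA Groth.Agent.Lib.Seat77.SymBasisB
  Groth.Agent.Lib.Seat77.SymBasisC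

universe u

/-- Staircase exponent vectors: `d_i < n - i`. -/
def stair (n : ℕ) : Finset (Fin n → ℕ) := Fintype.piFinset fun i => Finset.range (n - i)

theorem mem_stair {n : ℕ} (d : Fin n → ℕ) : d ∈ stair n ↔ ∀ i, d i < n - i := by
  simp [stair, Fintype.mem_piFinset]

theorem cons_tail_eq {n : ℕ} (d : Fin (n + 1) → ℕ) :
    (Fin.cons (d 0) (fun i => d i.succ) : Fin (n + 1) → ℕ) = d := by
  funext i
  refine Fin.cases ?_ (fun j => ?_) i
  · simp
  · simp

/-- The monomial `t^d`. -/
noncomputable def mono {R : Type u} [CommRing R] {n : ℕ} (d : Fin n → ℕ) :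
    MvPolynomial (Fin n) R := ∏ i, X i ^ d i

theorem mono_cons {R : Type u} [CommRing R] {n : ℕ} (m : ℕ) (d : Fin n → ℕ) :
    (mono (Fin.cons m d : Fin (n + 1) → ℕ) : MvPolynomial (Fin (n + 1)) R) =
      X 0 ^ m * ∏ i : Fin n, X i.succ ^ d i := by
  rw [mono, Fin.prod_univ_succ]
  simp only [Fin.cons_zero, Fin.cons_succ]

theorem cons_mem_stair {n : ℕ} (m : ℕ) (d : Fin n → ℕ) :
    (Fin.cons m d : Fin (n + 1) → ℕ) ∈ stair (n + 1) ↔ m < n + 1 ∧ d ∈ stair n := by
  rw [mem_stair, mem_stair]
  constructor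
  · intro h
    refine ⟨by simpa using h 0, fun i => ?_⟩
    have := h i.succ
    simp only [Fin.cons_succ, Fin.val_succ] at this
    omega
  · rintro ⟨h0, h⟩ i
    refine Fin.cases ?_ (fun j => ?_) i
    · simpa using h0
    · have := h j
      simp only [Fin.cons_succ, Fin.val_succ]
      omega

/-- Regrouping a sum over the staircase of size `n + 1`. -/
theorem sum_stair_succ {M : Type*} [AddCommMonoid M] (n : ℕ) (F : (Fin (n + 1) → ℕ) → M) :
    ∑ d ∈ stair (n + 1), F d =
      ∑ d' ∈ stair n, ∑ m ∈ Finset.range (n + 1), F (Fin.cons m d') := by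
  rw [← Finset.sum_product']
  refine Finset.sum_nbij' (fun d => (fun i => d i.succ, d 0)) (fun p => Fin.cons p.2 p.1)
    ?_ ?_ ?_ ?_ ?_
  · intro d hd
    have hd' : (Fin.cons (d 0) (fun i => d i.succ) : Fin (n + 1) → ℕ) ∈ stair (n + 1) := by
      rw [cons_tail_eq]; exact hd
    rw [cons_mem_stair] at hd'
    exact Finset.mem_product.mpr ⟨hd'.2, Finset.mem_range.mpr hd'.1⟩
  · rintro ⟨d', m⟩ hp
    rw [Finset.mem_product] at hp
    exact (cons_mem_stair m d').mpr ⟨Finset.mem_range.mp hp.2, hp.1⟩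
  · intro d _
    exact cons_tail_eq d
  · rintro ⟨d', m⟩ _
    simp
  · intro d _
    simp only
    rw [cons_tail_eq]

section Step

variable {R : Type u} [CommRing R] (n : ℕ) (α : ℕ → R)

theorem Psi_mono_cons (m : ℕ) (d : Fin n → ℕ) :
    Psi n α (mono (Fin.cons m d : Fin (n + 1) → ℕ)) = C (theta n α ^ m) * mono d := by
  rw [mono_cons, map_mul, map_pow, Psi_X_zero, map_prod, mono, map_pow]
  congr 1
  refine Finset.prod_congr rfl fun i _ => ?_
  rw [map_pow, Psi_X_succ]

theorem Psi_sum (r : (Fin (n + 1) → ℕ) → R) :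
    Psi n α (∑ d ∈ stair (n + 1), C (r d) * mono d) =
      ∑ d' ∈ stair n, C (∑ m ∈ Finset.range (n + 1),
        AdjoinRoot.of (fpoly n α) (r (Fin.cons m d')) * theta n α ^ m) * mono d' := by
  rw [sum_stair_succ, map_sum]
  refine Finset.sum_congr rfl fun d' _ => ?_
  rw [map_sum, map_sum, Finset.sum_mul]
  refine Finset.sum_congr rfl fun m _ => ?_
  rw [map_mul, Psi_C, Psi_mono_cons, map_mul, mul_assoc]

end Step

/-- Uniqueness of staircase representatives modulo the relation ideal. -/
theorem unique_repr (n : ℕ) : ∀ (R : Type u) [CommRing R] (α : ℕ → R), α 0 = 1 →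
    ∀ r : (Fin n → ℕ) → R, ∑ d ∈ stair n, C (r d) * mono d ∈ relIdeal n α →
      ∀ d ∈ stair n, r d = 0 := by
  induction n with
  | zero =>
    intro R _ α hα r h d _
    have hI : relIdeal 0 α = ⊥ := by
      refine le_bot_iff.mp (Ideal.span_le.mpr ?_)
      rintro _ ⟨k, hk, rfl⟩
      have : k = 0 := Nat.le_zero.mp hk
      subst this
      simp [esymm_zero, hα]
    rw [hI, Ideal.mem_bot] at h
    have hst : stair 0 = {d} := by
      ext e
      simp only [Finset.mem_singleton]
      exact ⟨fun _ => Subsingleton.elim _ _, fun _ => (mem_stair e).mpr fun i => i.elim0⟩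
    rw [hst, Finset.sum_singleton] at h
    have hm : (mono d : MvPolynomial (Fin 0) R) = 1 := by simp [mono]
    rw [hm, mul_one] at h
    exact (MvPolynomial.C_injective (Fin 0) R) (by rw [h, map_zero])
  | succ n ih =>
    intro R _ α hα r h d hd
    have h1 := Psi_mem n α hα _ h
    rw [Psi_sum] at h1
    have h2 := ih (AdjoinRoot (fpoly n α)) (bseq n α) (bseq_zero n α hα) _ h1
    have hd' : (Fin.cons (d 0) (fun i => d i.succ) : Fin (n + 1) → ℕ) ∈ stair (n + 1) := by
      rw [cons_tail_eq]; exact hd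
    rw [cons_mem_stair] at hd'
    have h3 := coeffs_eq_zero n α hα (fun m => r (Fin.cons m (fun i => d i.succ)))
      (h2 _ hd'.2) (d 0) hd'.1
    simp only [cons_tail_eq] at h3
    exact h3

/-- Existence of staircase representatives modulo the relation ideal. -/
theorem exists_repr (n : ℕ) : ∀ (R : Type u) [CommRing R] (α : ℕ → R), α 0 = 1 →
    ∀ x : MvPolynomial (Fin n) R, ∃ r : (Fin n → ℕ) → R,
      x - ∑ d ∈ stair n, C (r d) * mono d ∈ relIdeal n α := by
  induction n with
  | zero =>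
    intro R _ α _ x
    refine ⟨fun _ => x.coeff 0, ?_⟩
    have hst : stair 0 = {fun i : Fin 0 => i.elim0} := by
      ext e
      simp only [Finset.mem_singleton]
      exact ⟨fun _ => Subsingleton.elim _ _, fun _ => (mem_stair e).mpr fun i => i.elim0⟩
    rw [hst, Finset.sum_singleton]
    have hm : (mono (fun i : Fin 0 => i.elim0) : MvPolynomial (Fin 0) R) = 1 := by simp [mono]
    rw [hm, mul_one, ← MvPolynomial.eq_C_of_isEmpty x, sub_self]
    exact Ideal.zero_mem _
  | succ n ih =>
    intro R _ α hα x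
    obtain ⟨ρ, hρ⟩ := ih (AdjoinRoot (fpoly n α)) (bseq n α) (bseq_zero n α hα) (Psi n α x)
    choose c hc using fun d' : Fin n → ℕ => exists_coeffs n α hα (ρ d')
    refine ⟨fun d => c (fun i => d i.succ) (d 0), ?_⟩
    apply mem_of_Psi_mem n α
    rw [map_sub, Psi_sum]
    have : ∑ d' ∈ stair n, C (∑ m ∈ Finset.range (n + 1),
        AdjoinRoot.of (fpoly n α) (c (fun i => (Fin.cons m d' : Fin (n + 1) → ℕ) i.succ)
          ((Fin.cons m d' : Fin (n + 1) → ℕ) 0)) * theta n α ^ m) * mono d' =
        ∑ d' ∈ stair n, C (ρ d') * mono d' := by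
      refine Finset.sum_congr rfl fun d' _ => ?_
      rw [hc d']
      simp only [Fin.cons_succ, Fin.cons_zero]
    rw [this]
    exact hρ

end Groth.Agent.Lib.Seat77.SymBasisD
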