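import Groth.Agent.Lib.Seat77SymBasisD

/-!
# Staircase (Artin) basis of the universal splitting algebra — part E: statement forms

The existence and uniqueness statements for families indexed by `Π i : Fin n, Fin (n - i)` and the
ideal generated by `e_{i+1}(t) - a_i`, `i : Fin n`; behaviour modulo an ideal `J` of the base.
-/

set_option autoImplicit false

namespace Groth.Agent.Lib.Seat77.SymBasisE

open MvPolynomial Groth.Agent.Lib.Seat77.SymBasisA Groth.Agent.Lib.Seat77.SymBasisB
  Groth.Agent.Lib.Seat77.SymBasisC Groth.Agent.Lib.Seat77.SymBasisD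

universe u

/-- The staircase index type of the statements. -/
abbrev Stair (n : ℕ) : Type := (i : Fin n) → Fin (n - (i : ℕ))

/-- underlying exponent vector -/
def toNat {n : ℕ} (d : Stair n) : Fin n → ℕ := fun i => (d i : ℕ)

theorem toNat_injective (n : ℕ) : Function.Injective (toNat : Stair n → Fin n → ℕ) := by
  intro d e h
  funext i
  exact Fin.ext (congrFun h i)

theorem toNat_mem {n : ℕ} (d : Stair n) : toNat d ∈ stair n :=
  (mem_stair _).mpr fun i => (d i).isLt

theorem stair_eq_image (n : ℕ) : stair n = Finset.univ.image (toNat : Stair n → Fin n → ℕ) := by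
  ext e
  constructor
  · intro he
    rw [mem_stair] at he
    exact Finset.mem_image.mpr ⟨fun i => ⟨e i, he i⟩, Finset.mem_univ _, rfl⟩
  · intro he
    obtain ⟨d, -, rfl⟩ := Finset.mem_image.mp he
    exact toNat_mem d

theorem sum_stair {M : Type*} [AddCommMonoid M] (n : ℕ) (G : (Fin n → ℕ) → M) :
    ∑ e ∈ stair n, G e = ∑ d : Stair n, G (toNat d) := by
  rw [stair_eq_image, Finset.sum_image fun _ _ _ _ h => toNat_injective n h]

section

variable {R : Type u} [CommRing R] (n : ℕ) (a : Fin n → R)

/-- The ideal of the statements. -/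
noncomputable def idealA : Ideal (MvPolynomial (Fin n) R) :=
  Ideal.span (Set.range fun i : Fin n => esymm (Fin n) R ((i : ℕ) + 1) - C (a i))

/-- The sequence `1, a_0, a_1, …, a_{n-1}, 0, …`. -/
def seqOf : ℕ → R := fun k => if k = 0 then 1 else if h : k - 1 < n then a ⟨k - 1, h⟩ else 0

theorem seqOf_zero : seqOf n a 0 = 1 := by simp [seqOf]

theorem seqOf_succ (i : Fin n) : seqOf n a ((i : ℕ) + 1) = a i := by
  simp [seqOf]

theorem idealA_eq : idealA n a = relIdeal n (seqOf n a) := by
  apply le_antisymm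
  · refine Ideal.span_le.mpr ?_
    rintro _ ⟨i, rfl⟩
    have := esymm_sub_mem n (seqOf n a) ((i : ℕ) + 1) i.isLt
    rwa [seqOf_succ] at this
  · refine Ideal.span_le.mpr ?_
    rintro _ ⟨k, hk, rfl⟩
    rcases k with _ | j
    · rw [esymm_zero, seqOf_zero, map_one, sub_self]
      exact Ideal.zero_mem _
    · have := seqOf_succ n a ⟨j, hk⟩
      simp only at this
      rw [this]
      exact Ideal.subset_span ⟨⟨j, hk⟩, rfl⟩

/-- the staircase monomial -/
noncomputable def smono (d : Stair n) : MvPolynomial (Fin n) R := ∏ i : Fin n, X i ^ ((d i : ℕ))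

theorem smono_eq (d : Stair n) : (smono n d : MvPolynomial (Fin n) R) = mono (toNat d) := rfl

/-- Existence of staircase representatives. -/
theorem exists_repr' (x : MvPolynomial (Fin n) R) :
    ∃ j : Stair n → R, x - ∑ d : Stair n, C (j d) * smono n d ∈ idealA n a := by
  obtain ⟨r, hr⟩ := exists_repr n R (seqOf n a) (seqOf_zero n a) x
  refine ⟨fun d => r (toNat d), ?_⟩
  rw [idealA_eq]
  rw [sum_stair] at hr
  exact hr

/-- Uniqueness of staircase representatives. -/
theorem unique_repr' (j : Stair n → R)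
    (h : ∑ d : Stair n, C (j d) * smono n d ∈ idealA n a) : ∀ d, j d = 0 := by
  classical
  intro d
  let r : (Fin n → ℕ) → R := fun e =>
    if he : e ∈ stair n then j (fun i => ⟨e i, (mem_stair e).mp he i⟩) else 0
  have hr : ∀ d : Stair n, r (toNat d) = j d := by
    intro d
    simp only [r, dif_pos (toNat_mem d)]
    rfl
  have h' : ∑ e ∈ stair n, C (r e) * mono e ∈ relIdeal n (seqOf n a) := by
    rw [sum_stair, ← idealA_eq]
    simp only [hr]
    exact h
  have := unique_repr n R (seqOf n a) (seqOf_zero n a) r h' (toNat d) (toNat_mem d)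
  rwa [hr] at this

end

section ModJ

variable {R : Type u} [CommRing R] (n : ℕ) (a : Fin n → R) (J : Ideal R)

theorem map_idealA_le :
    Ideal.map (MvPolynomial.map (Ideal.Quotient.mk J))
      (idealA n a ⊔ Ideal.map (C : R →+* MvPolynomial (Fin n) R) J) ≤
      idealA n (fun i => Ideal.Quotient.mk J (a i)) := by
  rw [Ideal.map_sup]
  refine sup_le ?_ ?_
  · rw [idealA, Ideal.map_span]
    refine Ideal.span_le.mpr ?_
    rintro _ ⟨_, ⟨i, rfl⟩, rfl⟩
    rw [map_sub, map_esymm, map_C]
    exact Ideal.subset_span ⟨i, rfl⟩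
  · rw [Ideal.map_map]
    refine Ideal.map_le_iff_le_comap.mpr fun r hr => ?_
    rw [Ideal.mem_comap, RingHom.comp_apply, map_C, Ideal.Quotient.eq_zero_iff_mem.mpr hr, map_zero]
    exact Ideal.zero_mem _

/-- Coefficients of a staircase combination lying in `I + J R[t]` lie in `J`. -/
theorem coeff_mem_of_mem_sup (j : Stair n → R)
    (h : ∑ d : Stair n, C (j d) * smono n d ∈
      idealA n a ⊔ Ideal.map (C : R →+* MvPolynomial (Fin n) R) J) : ∀ d, j d ∈ J := by
  intro d
  have h1 := map_idealA_le n a J (Ideal.mem_map_of_mem _ h)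
  rw [map_sum] at h1
  have h2 : ∑ d : Stair n, MvPolynomial.map (Ideal.Quotient.mk J) (C (j d) * smono n d) =
      ∑ d : Stair n, C (Ideal.Quotient.mk J (j d)) * smono n d := by
    refine Finset.sum_congr rfl fun d _ => ?_
    rw [map_mul, map_C, smono, smono, map_prod]
    congr 1
    refine Finset.prod_congr rfl fun i _ => ?_
    rw [map_pow, map_X]
  rw [h2] at h1
  exact Ideal.Quotient.eq_zero_iff_mem.mp (unique_repr' n _ _ h1 d)

theorem C_mul_mem_map (r : R) (hr : r ∈ J) (m : MvPolynomial (Fin n) R) :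
    C r * m ∈ Ideal.map (C : R →+* MvPolynomial (Fin n) R) J :=
  Ideal.mul_mem_right _ _ (Ideal.mem_map_of_mem _ hr)

end ModJ

end Groth.Agent.Lib.Seat77.SymBasisE
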