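import Groth.Agent.Lib.Seat77SymBasisE

/-!
# Staircase (Artin) basis — part F: `ℤ[t]` over `ℤ[c]`, `c_i ↦ e_i(t)`

The universal case: over `Λ = ℤ[c_1..c_n]` with `a_i = c_i`, the quotient `Λ[t]/(e_i(t) - c_i)` is
`ℤ[t]`, so every polynomial is uniquely `Σ_d f(p_d) t^d`.
-/

set_option autoImplicit false

namespace Groth.Agent.Lib.Seat77.SymBasisF

open MvPolynomial Groth.Agent.Lib.Seat77.SymBasisC Groth.Agent.Lib.Seat77.SymBasisE

variable (n : ℕ)

/-- The coefficient ring `Λ = ℤ[c_1..c_n]`. -/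
abbrev Lam : Type := MvPolynomial (Fin n) ℤ

/-- `c_i ↦ e_{i+1}(t)`. -/
noncomputable def fhom : Lam n →ₐ[ℤ] MvPolynomial (Fin n) ℤ :=
  aeval (fun i : Fin n => esymm (Fin n) ℤ ((i : ℕ) + 1))

/-- `Λ[t] → ℤ[t]`, `c_i ↦ e_{i+1}(t)`, `t_i ↦ t_i`. -/
noncomputable def psi : MvPolynomial (Fin n) (Lam n) →+* MvPolynomial (Fin n) ℤ :=
  eval₂Hom (fhom n).toRingHom (fun i => X i)

/-- `ℤ[t] → Λ[t]`. -/
noncomputable def iota : MvPolynomial (Fin n) ℤ →+* MvPolynomial (Fin n) (Lam n) :=
  MvPolynomial.map (C : ℤ →+* Lam n)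

theorem psi_C (q : Lam n) : psi n (C q) = fhom n q := by
  rw [psi, coe_eval₂Hom, eval₂_C]; rfl

theorem psi_X (i : Fin n) : psi n (X i) = X i := by
  rw [psi, coe_eval₂Hom, eval₂_X]

theorem psi_esymm (k : ℕ) : psi n (esymm (Fin n) (Lam n) k) = esymm (Fin n) ℤ k := by
  rw [map_esymm_eq]
  simp only [psi_X]
  rfl

theorem psi_iota (x : MvPolynomial (Fin n) ℤ) : psi n (iota n x) = x := by
  have h : (psi n).comp (iota n) = RingHom.id _ := by
    refine MvPolynomial.ringHom_ext (fun z => ?_) (fun i => ?_)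
    · simp only [RingHom.comp_apply, iota, map_C, psi_C, RingHom.id_apply]
      rw [fhom, aeval_C]; rfl
    · simp only [RingHom.comp_apply, iota, map_X, psi_X, RingHom.id_apply]
  exact congrArg (fun φ : MvPolynomial (Fin n) ℤ →+* MvPolynomial (Fin n) ℤ => φ x) h

/-- the universal relation ideal -/
noncomputable abbrev idealX : Ideal (MvPolynomial (Fin n) (Lam n)) :=
  idealA n (fun i : Fin n => (X i : Lam n))

theorem psi_eq_zero_of_mem (y : MvPolynomial (Fin n) (Lam n)) (hy : y ∈ idealX n) :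
    psi n y = 0 := by
  have hle : idealX n ≤ RingHom.ker (psi n) := by
    refine Ideal.span_le.mpr ?_
    rintro _ ⟨i, rfl⟩
    rw [SetLike.mem_coe, RingHom.mem_ker, map_sub, psi_esymm, psi_C, fhom, aeval_X, sub_self]
  exact hle hy

theorem sub_iota_psi_mem (y : MvPolynomial (Fin n) (Lam n)) : y - iota n (psi n y) ∈ idealX n := by
  have h : (Ideal.Quotient.mk (idealX n)).comp ((iota n).comp (psi n)) =
      Ideal.Quotient.mk (idealX n) := by
    refine MvPolynomial.ringHom_ext (fun q => ?_) (fun i => ?_)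
    · -- both sides are ring homs in `q`
      have h2 : ((Ideal.Quotient.mk (idealX n)).comp ((iota n).comp (psi n))).comp
          (C : Lam n →+* MvPolynomial (Fin n) (Lam n)) =
          (Ideal.Quotient.mk (idealX n)).comp (C : Lam n →+* MvPolynomial (Fin n) (Lam n)) := by
        refine MvPolynomial.ringHom_ext (fun z => ?_) (fun i => ?_)
        · simp only [RingHom.comp_apply, psi_C]
          rw [fhom, aeval_C]
          simp [iota]
        · simp only [RingHom.comp_apply, psi_C]
          rw [fhom, aeval_X, iota, map_esymm]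
          exact Ideal.Quotient.eq.mpr (Ideal.subset_span ⟨i, rfl⟩)
      exact congrArg (fun φ : Lam n →+* (MvPolynomial (Fin n) (Lam n) ⧸ idealX n) => φ q) h2
    · simp only [RingHom.comp_apply, psi_X, iota, map_X]
  have h3 := congrArg (fun φ : MvPolynomial (Fin n) (Lam n) →+*
    (MvPolynomial (Fin n) (Lam n) ⧸ idealX n) => φ y) h
  simp only [RingHom.comp_apply] at h3
  exact Ideal.Quotient.eq.mp h3.symm

theorem mem_of_psi_eq_zero (y : MvPolynomial (Fin n) (Lam n)) (hy : psi n y = 0) :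
    y ∈ idealX n := by
  have := sub_iota_psi_mem n y
  rwa [hy, map_zero, sub_zero] at this

theorem psi_sum (p : Stair n → Lam n) :
    psi n (∑ d : Stair n, C (p d) * smono n d) =
      ∑ d : Stair n, fhom n (p d) * ∏ i : Fin n, X i ^ ((d i : ℕ)) := by
  rw [map_sum]
  refine Finset.sum_congr rfl fun d _ => ?_
  rw [map_mul, psi_C, smono, map_prod]
  congr 1
  refine Finset.prod_congr rfl fun i _ => ?_
  rw [map_pow, psi_X]

/-- The main bijectivity statement. -/
theorem bijective :
    Function.Bijective (fun p : Stair n → Lam n =>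
      ∑ d : Stair n, fhom n (p d) * ∏ i : Fin n, (X i : MvPolynomial (Fin n) ℤ) ^ ((d i : ℕ))) := by
  constructor
  · intro p p' h
    simp only at h
    rw [← psi_sum, ← psi_sum, ← sub_eq_zero, ← map_sub, ← Finset.sum_sub_distrib] at h
    have h2 : ∑ d : Stair n, (C (p d) * smono n d - C (p' d) * smono n d) =
        ∑ d : Stair n, C (p d - p' d) * smono n d := by
      refine Finset.sum_congr rfl fun d _ => ?_
      rw [map_sub, sub_mul]
    rw [h2] at h
    have h3 := unique_repr' n _ _ (mem_of_psi_eq_zero n _ h)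
    funext d
    exact sub_eq_zero.mp (h3 d)
  · intro x
    obtain ⟨p, hp⟩ := exists_repr' n (fun i : Fin n => (X i : Lam n)) (iota n x)
    refine ⟨p, ?_⟩
    have h := psi_eq_zero_of_mem n _ hp
    rw [map_sub, psi_iota, psi_sum, sub_eq_zero] at h
    exact h.symm

end Groth.Agent.Lib.Seat77.SymBasisF
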