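import Mathlib

/-!
# Total rings of fractions of reduced rings with finitely many minimal primes (helper77)

* `isUnit_of_mem_nonZeroDivisors`: in a zero-dimensional ring non-zero-divisors are units;
* `krullDimLE_zero_of_isIntegral`: integral over zero-dimensional is zero-dimensional;
* `mem_minimalPrimes_of_disjoint`: in a reduced ring with finitely many minimal primes, a prime
  consisting of zero-divisors is a minimal prime;
* `krullDimLE_zero_fractionRing`, `finite_primeSpectrum_fractionRing`,
  `isArtinianRing_fractionRing`: the total ring of fractions of such a ring is Artinian.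
-/

namespace Groth.Agent.Lib.Seat77.TotFrac

universe u

/-- In a zero-dimensional ring, non-zero-divisors are units. -/
theorem isUnit_of_mem_nonZeroDivisors {R : Type*} [CommRing R] [Ring.KrullDimLE 0 R] {x : R}
    (hx : x ∈ nonZeroDivisors R) : IsUnit x := by
  by_contra hnu
  obtain ⟨m, hm, hxm⟩ := exists_max_ideal_of_mem_nonunits hnu
  haveI := hm.isPrime
  have hmin : m ∈ minimalPrimes R := Ideal.mem_minimalPrimes_of_krullDimLE_zero m
  exact notMem_nonZeroDivisors_of_mem_mem_minimalPrimes hxm hmin hx

/-- A ring integral over a zero-dimensional ring is zero-dimensional. -/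
theorem krullDimLE_zero_of_isIntegral (R L : Type*) [CommRing R] [CommRing L] [Algebra R L]
    [Algebra.IsIntegral R L] [Ring.KrullDimLE 0 R] : Ring.KrullDimLE 0 L := by
  refine Ring.KrullDimLE.mk₀ fun I hI => ?_
  haveI := hI
  haveI : (I.comap (algebraMap R L)).IsPrime := Ideal.comap_isPrime _ _
  exact Ideal.isMaximal_of_isIntegral_of_isMaximal_comap I
    (Ideal.isMaximal_of_isPrime (I.comap (algebraMap R L)))

/-- In a reduced ring with finitely many minimal primes, a prime ideal consisting of
zero-divisors is a minimal prime. -/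
theorem mem_minimalPrimes_of_disjoint (A : Type*) [CommRing A] [IsReduced A]
    (hmin : (minimalPrimes A).Finite) (p : Ideal A) [hp : p.IsPrime]
    (hd : Disjoint (p : Set A) (nonZeroDivisors A)) : p ∈ minimalPrimes A := by
  classical
  have hsub : (p : Set A) ⊆ ⋃ q ∈ hmin.toFinset, (q : Set A) := by
    intro x hx
    have hx' : x ∉ nonZeroDivisors A := fun h => Set.disjoint_left.mp hd hx h
    rw [mem_nonZeroDivisors_iff_right] at hx'
    push Not at hx'
    obtain ⟨y, hxy, hy⟩ := hx'
    have h1 : x ∈ { x : A | ∃ y ∉ (⊥ : Ideal A).radical, x * y ∈ (⊥ : Ideal A).radical } := by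
      refine ⟨y, ?_, ?_⟩
      · have : (⊥ : Ideal A).radical = ⊥ := by
          rw [← Ideal.zero_eq_bot, ← nilradical, nilradical_eq_zero]
        rw [this]
        exact hy
      · rw [mul_comm, hxy]
        exact Ideal.zero_mem _
    rw [← Ideal.iUnion_minimalPrimes] at h1
    simp only [Set.mem_iUnion, SetLike.mem_coe, exists_prop] at h1 ⊢
    obtain ⟨q, hq, hxq⟩ := h1
    exact ⟨q, hmin.mem_toFinset.mpr hq, hxq⟩
  have h2 := (Ideal.subset_union_prime (s := hmin.toFinset) (f := fun q => q) (R := A)
    (Classical.arbitrary _) (Classical.arbitrary _) (fun q hq _ _ =>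
      (hmin.mem_toFinset.mp hq).1.1) (I := p)).mp hsub
  obtain ⟨q, hq, hpq⟩ := h2
  have hq' : q ∈ minimalPrimes A := hmin.mem_toFinset.mp hq
  obtain ⟨q', hq'm, hq'p⟩ := Ideal.exists_minimalPrimes_le (I := ⊥) (J := p) bot_le
  have h3 : q' = q := le_antisymm (hq'p.trans hpq) (hq'.2 ⟨hq'm.1.1, bot_le⟩ (hq'p.trans hpq))
  have h4 : p = q := le_antisymm hpq (h3 ▸ hq'p)
  rw [h4]
  exact hq'

section fractionRing

variable (A : Type u) [CommRing A] [IsReduced A] (hmin : (minimalPrimes A).Finite)
  (K : Type u) [CommRing K] [Algebra A K] [IsLocalization (nonZeroDivisors A) K]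

include hmin

theorem comap_mem_minimalPrimes (P : Ideal K) [P.IsPrime] :
    P.comap (algebraMap A K) ∈ minimalPrimes A := by
  haveI : (P.comap (algebraMap A K)).IsPrime := Ideal.comap_isPrime _ _
  apply mem_minimalPrimes_of_disjoint A hmin
  have := ((IsLocalization.isPrime_iff_isPrime_disjoint (nonZeroDivisors A) K P).mp
    inferInstance).2
  exact this.symm

theorem krullDimLE_zero_fractionRing : Ring.KrullDimLE 0 K := by
  refine Ring.KrullDimLE.mk₀ fun P hP => ?_
  haveI := hP
  obtain ⟨P', hP'max, hPP'⟩ := Ideal.exists_le_maximal P hP.ne_top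
  haveI := hP'max.isPrime
  have h1 := comap_mem_minimalPrimes A hmin K P
  have h2 := comap_mem_minimalPrimes A hmin K P'
  have h3 : P.comap (algebraMap A K) = P'.comap (algebraMap A K) :=
    le_antisymm (Ideal.comap_mono hPP') (h2.2 ⟨h1.1.1, bot_le⟩ (Ideal.comap_mono hPP'))
  have h4 : P = P' := by
    rw [← IsLocalization.map_under (nonZeroDivisors A) K P,
      ← IsLocalization.map_under (nonZeroDivisors A) K P']
    exact congrArg (Ideal.map (algebraMap A K)) h3
  rw [h4]
  exact hP'max

theorem finite_primeSpectrum_fractionRing : Finite (PrimeSpectrum K) := by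
  haveI : Finite (minimalPrimes A) := hmin.to_subtype
  let f : PrimeSpectrum K → minimalPrimes A := fun P =>
    ⟨P.asIdeal.comap (algebraMap A K), comap_mem_minimalPrimes A hmin K P.asIdeal⟩
  apply Finite.of_injective f
  intro P P' h
  have h3 : P.asIdeal.comap (algebraMap A K) = P'.asIdeal.comap (algebraMap A K) :=
    congrArg Subtype.val h
  apply PrimeSpectrum.ext
  rw [← IsLocalization.map_under (nonZeroDivisors A) K P.asIdeal,
    ← IsLocalization.map_under (nonZeroDivisors A) K P'.asIdeal]
  exact congrArg (Ideal.map (algebraMap A K)) h3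

theorem isArtinianRing_fractionRing : IsArtinianRing K := by
  haveI := krullDimLE_zero_fractionRing A hmin K
  haveI := finite_primeSpectrum_fractionRing A hmin K
  haveI : IsReduced K := isReduced_localizationPreserves (nonZeroDivisors A) K inferInstance
  haveI : DiscreteTopology (PrimeSpectrum K) :=
    PrimeSpectrum.discreteTopology_iff_finite_and_krullDimLE_zero.mpr ⟨inferInstance, inferInstance⟩
  haveI : Finite (MaximalSpectrum K) :=
    Finite.of_injective MaximalSpectrum.toPrimeSpectrum MaximalSpectrum.toPrimeSpectrum_injective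
  haveI : ∀ m : MaximalSpectrum K, IsArtinianRing (Localization.AtPrime m.asIdeal) := by
    intro m
    haveI : Ring.KrullDimLE 0 (Localization.AtPrime m.asIdeal) :=
      Ring.KrullDimLE.of_isLocalization m.asIdeal
        (Ideal.mem_minimalPrimes_of_krullDimLE_zero m.asIdeal) _
    have hF : IsField (Localization.AtPrime m.asIdeal) := Ring.KrullDimLE.isField_of_isReduced
    letI := hF.toField
    infer_instance
  exact RingEquiv.isArtinianRing (MaximalSpectrum.toPiLocalizationEquiv K).symm.toRingEquiv

end fractionRing

end Groth.Agent.Lib.Seat77.TotFrac
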