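import Mathlib
import Groth.Agent.Lib.Helper3EssEt
import Groth.Agent.Lib.Seat77TotFrac

/-!
# Total ring of fractions of an essentially étale local algebra (helper77)

`A` reduced with finitely many minimal primes, `E` essentially étale over `A`:
the localization `B A E` of `E` at the image of the non-zero-divisors of `A` is finite over
`FractionRing A`, zero-dimensional, and is the total ring of fractions of `E`.
-/

namespace Groth.Agent.Lib.Seat77.TotFracEt

open Groth.Agent.Lib.Helper3.EssEt Groth.Agent.Lib.Seat77.TotFrac

universe u

theorem algebraMap_mem_nonZeroDivisors_of_flat {A E : Type*} [CommRing A] [CommRing E]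
    [Algebra A E] [Module.Flat A E] {a : A} (ha : a ∈ nonZeroDivisors A) :
    algebraMap A E a ∈ nonZeroDivisors E := by
  have h1 : IsSMulRegular A a := by
    rw [isSMulRegular_iff_right_eq_zero_of_smul]
    intro m hm
    rw [smul_eq_mul, mul_comm] at hm
    exact (mem_nonZeroDivisors_iff_right.mp ha) m hm
  have h2 := IsSMulRegular.of_flat (S := E) h1
  rw [isSMulRegular_iff_right_eq_zero_of_smul] at h2
  rw [mem_nonZeroDivisors_iff_right]
  intro y hy
  apply h2 y
  rw [smul_eq_mul, mul_comm]
  exact hy

theorem flat_of_isEssentiallyEtale (A E : Type u) [CommRing A] [IsLocalRing A] [CommRing E]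
    [Algebra A E] (hE : EGA4loc.IsEssentiallyEtale A E) : Module.Flat A E := by
  obtain ⟨C, _, _, q, _, hEt, hq, ⟨e⟩⟩ := hE
  haveI : Module.Flat C (Localization.AtPrime q) :=
    IsLocalization.flat (Localization.AtPrime q) q.primeCompl
  haveI : Module.Flat A (Localization.AtPrime q) := Module.Flat.trans A C _
  exact Module.Flat.of_linearEquiv e.toLinearEquiv

section

variable (A E : Type u) [CommRing A] [CommRing E] [Algebra A E]

/-- the image in `E` of the non-zero-divisors of `A` -/
abbrev MA : Submonoid E := (nonZeroDivisors A).map (algebraMap A E)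

/-- the localization of `E` at the image of the non-zero-divisors of `A` -/
abbrev B : Type u := Localization (MA A E)

noncomputable instance algKB : Algebra (FractionRing A) (B A E) :=
  (IsLocalization.map (M := nonZeroDivisors A) (T := MA A E) (B A E) (algebraMap A E)
    (Submonoid.le_comap_map _)).toAlgebra

instance towerAKB : IsScalarTower A (FractionRing A) (B A E) := by
  refine IsScalarTower.of_algebraMap_eq (fun a => ?_)
  change _ = (IsLocalization.map (M := nonZeroDivisors A) (T := MA A E) (B A E) (algebraMap A E)
    (Submonoid.le_comap_map _)) (algebraMap A (FractionRing A) a)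
  rw [IsLocalization.map_eq]
  exact IsScalarTower.algebraMap_apply A E (B A E) a

end

section main

variable (A E : Type u) [CommRing A] [IsLocalRing A] [IsReduced A]
  (hmin : (minimalPrimes A).Finite) [CommRing E] [Algebra A E]
  (hE : EGA4loc.IsEssentiallyEtale A E)

include hmin hE

theorem finite_B : Module.Finite (FractionRing A) (B A E) := by
  haveI := essFiniteType_of_isEssentiallyEtale A E hE
  haveI := formallyEtale_of_isEssentiallyEtale A E hE
  haveI : IsArtinianRing (FractionRing A) := isArtinianRing_fractionRing A hmin _
  haveI : Algebra.EssFiniteType E (B A E) := Algebra.EssFiniteType.of_isLocalization _ (MA A E)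
  haveI : Algebra.EssFiniteType A (B A E) := Algebra.EssFiniteType.comp A E (B A E)
  haveI : Algebra.EssFiniteType (FractionRing A) (B A E) :=
    Algebra.EssFiniteType.of_comp A (FractionRing A) (B A E)
  haveI : Algebra.FormallyUnramified E (B A E) :=
    Algebra.FormallyUnramified.of_isLocalization (MA A E)
  haveI : Algebra.FormallyUnramified A (B A E) := Algebra.FormallyUnramified.comp A E (B A E)
  haveI : Algebra.FormallyUnramified (FractionRing A) (B A E) :=
    Algebra.FormallyUnramified.of_restrictScalars A (FractionRing A) (B A E)
  haveI : Algebra.QuasiFinite (FractionRing A) (B A E) := inferInstance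
  exact Module.Finite.of_quasiFinite

theorem krullDimLE_zero_B : Ring.KrullDimLE 0 (B A E) := by
  haveI := finite_B A E hmin hE
  haveI : Algebra.IsIntegral (FractionRing A) (B A E) := Algebra.IsIntegral.of_finite _ _
  haveI := krullDimLE_zero_fractionRing A hmin (FractionRing A)
  exact krullDimLE_zero_of_isIntegral (FractionRing A) (B A E)

theorem MA_le_nonZeroDivisors : MA A E ≤ nonZeroDivisors E := by
  haveI := flat_of_isEssentiallyEtale A E hE
  rintro _ ⟨a, ha, rfl⟩
  exact algebraMap_mem_nonZeroDivisors_of_flat ha

theorem isFractionRing_B : IsFractionRing E (B A E) := by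
  haveI := krullDimLE_zero_B A E hmin hE
  apply IsLocalization.of_le (MA A E) (nonZeroDivisors E) (MA_le_nonZeroDivisors A E hmin hE)
  intro r hr
  apply TotFrac.isUnit_of_mem_nonZeroDivisors
  exact IsLocalization.map_nonZeroDivisors_le (MA A E) (B A E) ⟨r, hr, rfl⟩

/-- the identification of `B A E` with the total ring of fractions -/
noncomputable def equivFrac : B A E ≃ₐ[E] FractionRing E :=
  haveI := isFractionRing_B A E hmin hE
  IsLocalization.algEquiv (nonZeroDivisors E) (B A E) (FractionRing E)

theorem isLocalization_fractionRing : IsLocalization (MA A E) (FractionRing E) :=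
  IsLocalization.isLocalization_of_algEquiv (MA A E) (equivFrac A E hmin hE)

/-- every element of `B A E` can be moved, by a non-zero-divisor of `A`, into the `A`-span of a
fixed finite set. -/
theorem exists_finset_B : ∃ t : Finset (B A E), ∀ x : B A E, ∃ a ∈ nonZeroDivisors A,
    a • x ∈ Submodule.span A (t : Set (B A E)) := by
  classical
  haveI := finite_B A E hmin hE
  obtain ⟨t, ht⟩ := (Module.finite_def.mp (inferInstance : Module.Finite (FractionRing A) (B A E)))
  refine ⟨t, fun x => ?_⟩
  have hx : x ∈ Submodule.span (FractionRing A) (t : Set (B A E)) := by rw [ht]; trivial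
  induction hx using Submodule.span_induction with
  | mem y hy => exact ⟨1, one_mem _, by rw [one_smul]; exact Submodule.subset_span hy⟩
  | zero => exact ⟨1, one_mem _, by rw [smul_zero]; exact zero_mem _⟩
  | add y z _ _ hy hz =>
    obtain ⟨a, ha, hay⟩ := hy
    obtain ⟨b, hb, hbz⟩ := hz
    refine ⟨a * b, mul_mem ha hb, ?_⟩
    rw [smul_add]
    refine add_mem ?_ ?_
    · rw [mul_comm, mul_smul]
      exact Submodule.smul_mem _ _ hay
    · rw [mul_smul]
      exact Submodule.smul_mem _ _ hbz
  | smul k y _ hy =>
    obtain ⟨a, ha, hay⟩ := hy
    obtain ⟨⟨a', s⟩, hs⟩ := IsLocalization.surj (nonZeroDivisors A) k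
    refine ⟨s * a, mul_mem s.2 ha, ?_⟩
    have h1 : ((s : A) * a) • (k • y) = a' • (a • y) := by
      have h2 : (s : A) • k = algebraMap A (FractionRing A) a' := by
        rw [Algebra.smul_def, mul_comm]
        exact hs
      calc ((s : A) * a) • (k • y) = a • (((s : A) • k) • y) := by
            rw [mul_comm, mul_smul, smul_assoc]
        _ = a • ((algebraMap A (FractionRing A) a') • y) := by rw [h2]
        _ = a • (a' • y) := by rw [algebraMap_smul]
        _ = a' • (a • y) := smul_comm _ _ _
    rw [h1]
    exact Submodule.smul_mem _ _ hay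

end main

end Groth.Agent.Lib.Seat77.TotFracEt
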