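import Mathlib
import Groth.Agent.Lib.Seat77TotFracEt

/-!
# Intermediate rings of the total ring of fractions of an essentially étale local algebra (helper77)

`FractionRing E` as a finite `FractionRing A`-algebra; intermediate rings `L` (containing the
inverses of the non-zero-divisors of `A`) are zero-dimensional, so units of `FractionRing E` lying in
`L` are units of `L`.
-/

namespace Groth.Agent.Lib.Seat77.TotFracEt

open Groth.Agent.Lib.Helper3.EssEt Groth.Agent.Lib.Seat77.TotFrac

universe u

section main

variable (A E : Type u) [CommRing A] [IsLocalRing A] [IsReduced A]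
  (hmin : (minimalPrimes A).Finite) [CommRing E] [Algebra A E]
  (hE : EGA4loc.IsEssentiallyEtale A E)

/-- `FractionRing E` as a `FractionRing A`-algebra (through `B A E`) -/
@[instance_reducible]
noncomputable def algKF : Algebra (FractionRing A) (FractionRing E) :=
  (((equivFrac A E hmin hE : B A E ≃ₐ[E] FractionRing E) : B A E →+* FractionRing E).comp
    (algebraMap (FractionRing A) (B A E))).toAlgebra

theorem algKF_apply (k : FractionRing A) :
    letI := algKF A E hmin hE
    algebraMap (FractionRing A) (FractionRing E) k =
      equivFrac A E hmin hE (algebraMap (FractionRing A) (B A E) k) := rfl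

theorem towerAKF :
    letI := algKF A E hmin hE
    IsScalarTower A (FractionRing A) (FractionRing E) := by
  letI := algKF A E hmin hE
  refine IsScalarTower.of_algebraMap_eq (fun a => ?_)
  rw [algKF_apply, ← IsScalarTower.algebraMap_apply A (FractionRing A) (B A E),
    IsScalarTower.algebraMap_apply A E (B A E), AlgEquiv.commutes]
  exact IsScalarTower.algebraMap_apply A E (FractionRing E) a

theorem isIntegral_KF :
    letI := algKF A E hmin hE
    Algebra.IsIntegral (FractionRing A) (FractionRing E) := by
  letI := algKF A E hmin hE
  haveI := finite_B A E hmin hE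
  haveI : Algebra.IsIntegral (FractionRing A) (B A E) := Algebra.IsIntegral.of_finite _ _
  let f : B A E →ₐ[FractionRing A] FractionRing E :=
    { (equivFrac A E hmin hE : B A E →+* FractionRing E) with
      commutes' := fun k => rfl }
  exact Algebra.IsIntegral.of_surjective f (equivFrac A E hmin hE).surjective

include hmin hE in
/-- A unit of `FractionRing E` lying in an intermediate ring `L` has its inverse in `L`. -/
theorem exists_inv_mem (L : Subalgebra A (FractionRing E))
    (hL : ∀ s ∈ nonZeroDivisors A, ∃ y ∈ L, algebraMap A (FractionRing E) s * y = 1)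
    {x : FractionRing E} (hx : x ∈ L) (hu : IsUnit x) : ∃ y ∈ L, x * y = 1 := by
  letI := algKF A E hmin hE
  haveI := towerAKF A E hmin hE
  haveI := isIntegral_KF A E hmin hE
  haveI := krullDimLE_zero_fractionRing A hmin (FractionRing A)
  -- `L` as a `FractionRing A`-subalgebra
  have hK : ∀ k : FractionRing A, algebraMap (FractionRing A) (FractionRing E) k ∈ L := by
    intro k
    obtain ⟨⟨a, s⟩, hs⟩ := IsLocalization.surj (nonZeroDivisors A) k
    obtain ⟨y, hy, hsy⟩ := hL s s.2
    have h1 : algebraMap (FractionRing A) (FractionRing E) k *
        algebraMap A (FractionRing E) s = algebraMap A (FractionRing E) a := by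
      rw [IsScalarTower.algebraMap_apply A (FractionRing A) (FractionRing E),
        IsScalarTower.algebraMap_apply A (FractionRing A) (FractionRing E), ← map_mul, hs]
    have h2 : algebraMap (FractionRing A) (FractionRing E) k =
        algebraMap A (FractionRing E) a * y := by
      rw [← h1, mul_assoc, hsy, mul_one]
    rw [h2]
    exact L.mul_mem (L.algebraMap_mem a) hy
  let L' : Subalgebra (FractionRing A) (FractionRing E) :=
    { L.toSubsemiring with algebraMap_mem' := hK }
  haveI : Algebra.IsIntegral (FractionRing A) L' :=
    Algebra.IsIntegral.of_injective L'.val Subtype.val_injective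
  haveI : Ring.KrullDimLE 0 L' := krullDimLE_zero_of_isIntegral (FractionRing A) L'
  have hx' : x ∈ L' := hx
  have hnzd : (⟨x, hx'⟩ : L') ∈ nonZeroDivisors L' := by
    rw [mem_nonZeroDivisors_iff_right]
    intro z hz
    have h1 : (z : FractionRing E) * x = 0 := congrArg Subtype.val hz
    have h2 : (z : FractionRing E) = 0 := hu.mul_left_eq_zero.mp h1
    exact Subtype.ext h2
  obtain ⟨y, hy⟩ := (TotFrac.isUnit_of_mem_nonZeroDivisors hnzd).exists_right_inv
  exact ⟨y.1, y.2, congrArg Subtype.val hy⟩

end main

end Groth.Agent.Lib.Seat77.TotFracEt
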