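import Mathlib
import Groth.Agent.Lib.Seat77TotFracEt

/-!
# Functoriality of `B A E = (nzd A)⁻¹ E` (helper77)
-/

namespace Groth.Agent.Lib.Seat77.TotFracEt

open Groth.Agent.Lib.Seat77.TotFrac

universe u

section map

variable (A : Type u) [CommRing A] {E₁ E₂ : Type u} [CommRing E₁] [CommRing E₂]
  [Algebra A E₁] [Algebra A E₂]

theorem MA_le_comap (φ : E₁ →ₐ[A] E₂) : MA A E₁ ≤ (MA A E₂).comap (φ : E₁ →+* E₂) := by
  rintro _ ⟨a, ha, rfl⟩
  exact ⟨a, ha, (φ.commutes a).symm⟩

/-- the map induced on localizations -/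
noncomputable def BmapRing (φ : E₁ →ₐ[A] E₂) : B A E₁ →+* B A E₂ :=
  IsLocalization.map (M := MA A E₁) (T := MA A E₂) (B A E₂) (φ : E₁ →+* E₂) (MA_le_comap A φ)

theorem BmapRing_algebraMap (φ : E₁ →ₐ[A] E₂) (x : E₁) :
    BmapRing A φ (algebraMap E₁ (B A E₁) x) = algebraMap E₂ (B A E₂) (φ x) :=
  IsLocalization.map_eq _ _

theorem BmapRing_comp_algebraMap (φ : E₁ →ₐ[A] E₂) :
    (BmapRing A φ).comp (algebraMap (FractionRing A) (B A E₁)) =
      algebraMap (FractionRing A) (B A E₂) := by
  apply IsLocalization.ringHom_ext (nonZeroDivisors A)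
  ext a
  simp only [RingHom.comp_apply]
  rw [← IsScalarTower.algebraMap_apply A (FractionRing A) (B A E₁),
    ← IsScalarTower.algebraMap_apply A (FractionRing A) (B A E₂),
    IsScalarTower.algebraMap_apply A E₁ (B A E₁), BmapRing_algebraMap, φ.commutes,
    ← IsScalarTower.algebraMap_apply]

/-- the algebra map induced on localizations -/
noncomputable def Bmap (φ : E₁ →ₐ[A] E₂) : B A E₁ →ₐ[FractionRing A] B A E₂ :=
  { BmapRing A φ with
    commutes' := fun k => congrArg (fun f => f k) (BmapRing_comp_algebraMap A φ) }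

theorem Bmap_algebraMap (φ : E₁ →ₐ[A] E₂) (x : E₁) :
    Bmap A φ (algebraMap E₁ (B A E₁) x) = algebraMap E₂ (B A E₂) (φ x) :=
  BmapRing_algebraMap A φ x

theorem Bmap_injective (φ : E₁ →ₐ[A] E₂) (hφ : Function.Injective φ) :
    Function.Injective (Bmap A φ) := by
  rw [injective_iff_map_eq_zero]
  intro x hx
  obtain ⟨d, m, rfl⟩ := IsLocalization.exists_mk'_eq (MA A E₁) x
  have h1 : Bmap A φ (IsLocalization.mk' (B A E₁) d m) =
      IsLocalization.mk' (B A E₂) (φ d)
        (⟨(φ : E₁ →+* E₂) m, MA_le_comap A φ m.2⟩ : MA A E₂) :=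
    IsLocalization.map_mk' _ _ _
  rw [h1, IsLocalization.mk'_eq_zero_iff] at hx
  obtain ⟨⟨c, a, ha, hac⟩, hc⟩ := hx
  rw [IsLocalization.mk'_eq_zero_iff]
  refine ⟨⟨algebraMap A E₁ a, a, ha, rfl⟩, ?_⟩
  apply hφ
  rw [map_mul, map_zero, φ.commutes]
  have : c = algebraMap A E₂ a := hac.symm
  rw [← this]
  exact hc

/-- integrality of `B A D` from integrality of `B A E'` for algebras `E'` covering `D` inside
some `S`. -/
theorem isIntegral_B_of_forall {D S : Type u} [CommRing D] [CommRing S] [Algebra A D]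
    [Algebra A S] (ι : D →ₐ[A] S) (hι : Function.Injective ι)
    (h : ∀ d : D, ∃ (E' : Type u) (_ : CommRing E') (_ : Algebra A E') (ψ : E' →ₐ[A] S)
      (x' : E'), Algebra.IsIntegral (FractionRing A) (B A E') ∧ ψ x' = ι d) :
    Algebra.IsIntegral (FractionRing A) (B A D) := by
  constructor
  intro b
  obtain ⟨d, m, rfl⟩ := IsLocalization.exists_mk'_eq (MA A D) b
  obtain ⟨a, ha, ham⟩ := m.2
  obtain ⟨E', _, _, ψ, x', hint, hx'⟩ := h d
  let m' : MA A E' := ⟨algebraMap A E' a, a, ha, rfl⟩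
  let b' : B A E' := IsLocalization.mk' (B A E') x' m'
  have hb' : IsIntegral (FractionRing A) b' := Algebra.IsIntegral.isIntegral b'
  have h1 : Bmap A ψ b' = IsLocalization.mk' (B A S) (ψ x')
      (⟨(ψ : E' →+* S) m', MA_le_comap A ψ m'.2⟩ : MA A S) :=
    IsLocalization.map_mk' _ _ _
  have h2 : Bmap A ι (IsLocalization.mk' (B A D) d m) =
      IsLocalization.mk' (B A S) (ι d) (⟨(ι : D →+* S) m, MA_le_comap A ι m.2⟩ : MA A S) :=
    IsLocalization.map_mk' _ _ _
  have h3 : Bmap A ψ b' = Bmap A ι (IsLocalization.mk' (B A D) d m) := by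
    rw [h1, h2]
    congr 1
    apply Subtype.ext
    change ψ (algebraMap A E' a) = ι (m : D)
    rw [ψ.commutes, ← ham]
    exact (ι.commutes a).symm
  have h4 : IsIntegral (FractionRing A) (Bmap A ι (IsLocalization.mk' (B A D) d m)) := by
    rw [← h3]
    exact hb'.map (Bmap A ψ)
  exact (isIntegral_algHom_iff (Bmap A ι) (Bmap_injective A ι hι)).mp h4

end map

section general

variable (A D : Type u) [CommRing A] [CommRing D] [Algebra A D]

/-- if `B A D` is integral over the zero-dimensional `FractionRing A` it is the total ring of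
fractions of `D`. -/
theorem isFractionRing_B_of_isIntegral [Algebra.IsIntegral (FractionRing A) (B A D)]
    [Ring.KrullDimLE 0 (FractionRing A)] (hMA : MA A D ≤ nonZeroDivisors D) :
    IsFractionRing D (B A D) := by
  haveI : Ring.KrullDimLE 0 (B A D) := krullDimLE_zero_of_isIntegral (FractionRing A) (B A D)
  apply IsLocalization.of_le (MA A D) (nonZeroDivisors D) hMA
  intro r hr
  apply TotFrac.isUnit_of_mem_nonZeroDivisors
  exact IsLocalization.map_nonZeroDivisors_le (MA A D) (B A D) ⟨r, hr, rfl⟩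

/-- a non-zero-divisor of `D` divides the image of a non-zero-divisor of `A`. -/
theorem exists_mul_eq_algebraMap [Algebra.IsIntegral (FractionRing A) (B A D)]
    [Ring.KrullDimLE 0 (FractionRing A)] {s : D} (hs : s ∈ nonZeroDivisors D) :
    ∃ u : D, ∃ a ∈ nonZeroDivisors A, s * u = algebraMap A D a := by
  haveI : Ring.KrullDimLE 0 (B A D) := krullDimLE_zero_of_isIntegral (FractionRing A) (B A D)
  have hu : IsUnit (algebraMap D (B A D) s) := by
    apply TotFrac.isUnit_of_mem_nonZeroDivisors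
    exact IsLocalization.map_nonZeroDivisors_le (MA A D) (B A D) ⟨s, hs, rfl⟩
  obtain ⟨b, hb⟩ := hu.exists_right_inv
  obtain ⟨d', m', rfl⟩ := IsLocalization.exists_mk'_eq (MA A D) b
  have h1 : algebraMap D (B A D) (s * d') = algebraMap D (B A D) (m' : D) := by
    rw [map_mul, ← IsLocalization.mk'_spec' (B A D) d' m', ← mul_assoc,
      mul_comm (algebraMap D (B A D) s), mul_assoc, hb, mul_one]
  obtain ⟨c, hc⟩ := (IsLocalization.eq_iff_exists (MA A D) (B A D)).mp h1
  obtain ⟨a₁, ha₁, hca⟩ := c.2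
  obtain ⟨a₂, ha₂, hma⟩ := m'.2
  refine ⟨c * d', a₁ * a₂, mul_mem ha₁ ha₂, ?_⟩
  rw [map_mul, hca, hma, ← hc]
  ring

theorem exists_finset_B_of_finite [Module.Finite (FractionRing A) (B A D)] :
    ∃ t : Finset (B A D), ∀ x : B A D, ∃ a ∈ nonZeroDivisors A,
      a • x ∈ Submodule.span A (t : Set (B A D)) := by
  classical
  obtain ⟨t, ht⟩ := (Module.finite_def.mp (inferInstance : Module.Finite (FractionRing A) (B A D)))
  refine ⟨t, fun x => ?_⟩
  have hx : x ∈ Submodule.span (FractionRing A) (t : Set (B A D)) := by rw [ht]; trivial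
  induction hx using Submodule.span_induction with
  | mem y hy => exact ⟨1, one_mem _, by rw [one_smul]; exact Submodule.subset_span hy⟩
  | zero => exact ⟨1, one_mem _, by rw [smul_zero]; exact zero_mem _⟩
  | add y z _ _ hy hz =>
    obtain ⟨a, ha, hay⟩ := hy
    obtain ⟨b, hb, hbz⟩ := hz
    refine ⟨a * b, mul_mem ha hb, ?_⟩
    rw [smul_add]
    refine add_mem ?_ ?_
    · rw [mul_comm, mul_smul]
      exact Submodule.smul_mem _ _ hay
    · rw [mul_smul]
      exact Submodule.smul_mem _ _ hbz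
  | smul k y _ hy =>
    obtain ⟨a, ha, hay⟩ := hy
    obtain ⟨⟨a', s⟩, hs⟩ := IsLocalization.surj (nonZeroDivisors A) k
    refine ⟨s * a, mul_mem s.2 ha, ?_⟩
    have h1 : ((s : A) * a) • (k • y) = a' • (a • y) := by
      have h2 : (s : A) • k = algebraMap A (FractionRing A) a' := by
        rw [Algebra.smul_def, mul_comm]
        exact hs
      calc ((s : A) * a) • (k • y) = a • (((s : A) • k) • y) := by
            rw [mul_comm, mul_smul, smul_assoc]
        _ = a • ((algebraMap A (FractionRing A) a') • y) := by rw [h2]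
        _ = a • (a' • y) := by rw [algebraMap_smul]
        _ = a' • (a • y) := smul_comm _ _ _
    rw [h1]
    exact Submodule.smul_mem _ _ hay

end general

end Groth.Agent.Lib.Seat77.TotFracEt
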