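import Mathlib
import Groth.Agent.Lib.Helper14Disp2

/-!
# Coordinates on the semilinear base change `Dieu.BC g P` of a free module

For a basis `e` of the `A`-module `P` and a ring endomorphism `g` of `A`: the coordinate functionals
`coordB e g m : BC g P →ₗ[A] A` (`b ⊗ x ↦ b * g (e.coord m x)`), the expansion of an element of `BC g P` in
the elements `1 ⊗ e m`, the membership criterion for `J • ⊤`, and the behaviour under `BC.castHom`,
`BC.push` and helper14's `inner`.
-/

set_option autoImplicit false
universe u v w
open Dieu TensorProduct Groth.Agent.Lib.Helper14.Disp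

namespace Groth.Agent.Lib.Seat78.BCCoord

variable {A : Type u} [CommRing A] {P : Type v} [AddCommGroup P] [Module A P]
  {I : Type w} (e : Module.Basis I A P)

/-- the `m`-th coordinate on `BC g P` -/
noncomputable def coordB (g : A →+* A) (m : I) : BC g P →ₗ[A] A :=
  BC.lift g ((semilinearOfRingHom g).comp (e.coord m))

theorem coordB_tmul (g : A →+* A) (m : I) (b : A) (x : P) :
    coordB e g m (BC.tmul g b x) = b * g (e.coord m x) := by
  rw [coordB, BC.lift_tmul]
  rfl

theorem tmul_sum (g : A →+* A) (b : A) {ι : Type*} (s : Finset ι) (x : ι → P) :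
    BC.tmul g b (∑ i ∈ s, x i) = ∑ i ∈ s, BC.tmul g b (x i) := by
  classical
  induction s using Finset.induction_on with
  | empty => simp
  | insert a s ha ih => rw [Finset.sum_insert ha, Finset.sum_insert ha, BC.tmul_add, ih]

theorem expansion [Fintype I] (g : A →+* A) (z : BC g P) :
    z = ∑ m, coordB e g m z • BC.tmul g 1 (e m) := by
  induction z using BC.induction_on g with
  | zero => simp
  | tmul b x =>
    have h1 : ∀ m, coordB e g m (BC.tmul g b x) • BC.tmul g 1 (e m) =
        BC.tmul g b (e.coord m x • e m) := by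
      intro m
      rw [coordB_tmul, BC.smul_tmul, mul_one, BC.tmul_mul_apply]
    simp_rw [h1]
    rw [← tmul_sum]
    congr 1
    exact (e.sum_repr x).symm
  | add z₁ z₂ h₁ h₂ =>
    conv_lhs => rw [h₁, h₂]
    rw [← Finset.sum_add_distrib]
    refine Finset.sum_congr rfl fun m _ => ?_
    rw [map_add, add_smul]

theorem mem_smul_top_iff [Fintype I] (g : A →+* A) (J : Ideal A) (z : BC g P) :
    z ∈ J • (⊤ : Submodule A (BC g P)) ↔ ∀ m, coordB e g m z ∈ J := by
  constructor
  · intro hz m
    refine Submodule.smul_induction_on hz ?_ ?_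
    · intro r hr n _
      rw [map_smul, smul_eq_mul]
      exact J.mul_mem_right _ hr
    · intro x y hx hy
      rw [map_add]
      exact J.add_mem hx hy
  · intro h
    rw [expansion e g z]
    exact Submodule.sum_mem _ fun m _ => Submodule.smul_mem_smul (h m) Submodule.mem_top

theorem coordB_castHom {g g' : A →+* A} (h : g = g') (m : I) (z : BC g P) :
    coordB e g' m (BC.castHom h z) = coordB e g m z := by
  subst h
  rfl

theorem coordB_push (g h : A →+* A) (m : I) (v : BC g P) :
    coordB e (h.comp g) m (BC.push g h v) = h (coordB e g m v) := by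
  induction v using BC.induction_on g with
  | zero => simp
  | tmul c x =>
    rw [BC.push_tmul, coordB_tmul, coordB_tmul, map_mul]
    rfl
  | add z₁ z₂ h₁ h₂ => rw [map_add, map_add, map_add, map_add, h₁, h₂]

theorem coordB_apply_eq_sum [Fintype I] (g' : A →+* A) (ψ : P →ₗ[A] BC g' P) (m : I) (y : P) :
    coordB e g' m (ψ y) = ∑ j, e.coord j y * coordB e g' m (ψ (e j)) := by
  conv_lhs => rw [← e.sum_repr y]
  rw [map_sum, map_sum]
  refine Finset.sum_congr rfl fun j _ => ?_
  rw [map_smul, map_smul, smul_eq_mul]
  rfl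

theorem coordB_inner [Fintype I] (τ g' : A →+* A) (ψ : P →ₗ[A] BC g' P) (m : I) (z : BC τ P) :
    coordB e (τ.comp g') m (inner τ g' ψ z) =
      ∑ j, coordB e τ j z * τ (coordB e g' m (ψ (e j))) := by
  induction z using BC.induction_on τ with
  | zero => simp
  | tmul b y =>
    rw [Groth.Agent.Lib.Helper14.Disp.inner_tmul, map_smul, smul_eq_mul, coordB_push, coordB_apply_eq_sum e g' ψ m y, map_sum,
      Finset.mul_sum]
    refine Finset.sum_congr rfl fun j _ => ?_
    rw [coordB_tmul, map_mul, mul_assoc]
  | add z₁ z₂ h₁ h₂ =>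
    rw [map_add, map_add, h₁, h₂, ← Finset.sum_add_distrib]
    refine Finset.sum_congr rfl fun j _ => ?_
    rw [map_add, add_mul]

end Groth.Agent.Lib.Seat78.BCCoord
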