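import Mathlib
import Groth.Agent.Lib.Seat78Corner

/-!
# Corners of Azumaya algebras

For a corner embedding `c : CornerData R A B` (so `B ≃ f A f`, `f = c.ι 1`) of a faithful `B` into an
Azumaya algebra `A`:

* `isAzumaya_of_cornerData`: `B` is Azumaya;
* `nonempty_algEquiv_tensor_end`: `A ⊗ End_R(B) ≃ₐ B ⊗ End_R(A f)`, i.e. `A` and `B` are Brauer
  equivalent.

Also: the corner ring `CornerRing he` of an idempotent as an `R`-algebra, composition of corner
embeddings, and over a connected base the existence of a corner with only trivial idempotents.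
-/

set_option autoImplicit false
universe u v w

namespace Groth.Agent.Lib.Seat78.CornerAz
open TensorProduct Groth.Agent.Lib.Seat78.Corner

section Constructions

variable {R : Type*} [CommRing R] {Λ : Type*} [Ring Λ] [Algebra R Λ]
  {B : Type*} [Ring B] [Algebra R B] {C : Type*} [Ring C] [Algebra R C]

/-- the identity corner embedding -/
noncomputable def cornerRefl : CornerData R Λ Λ where
  ι := LinearMap.id
  π := LinearMap.id
  map_mul _ _ := rfl
  π_ι _ := rfl
  ι_π x := by simp

/-- composition of corner embeddings -/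
noncomputable def cornerComp (c : CornerData R Λ B) (c' : CornerData R B C) : CornerData R Λ C where
  ι := c.ι ∘ₗ c'.ι
  π := c'.π ∘ₗ c.π
  map_mul a a' := by simp [c.map_mul, c'.map_mul]
  π_ι a := by simp [c.π_ι, c'.π_ι]
  ι_π x := by
    simp only [LinearMap.comp_apply]
    rw [c'.ι_π, c.map_mul, c.map_mul, c.ι_π]
    have h1 : c.ι (c'.ι 1) * c.ι 1 = c.ι (c'.ι 1) := c.ι_mul_one _
    have h2 : c.ι 1 * c.ι (c'.ι 1) = c.ι (c'.ι 1) := c.one_mul_ι _
    calc c.ι (c'.ι 1) * (c.ι 1 * x * c.ι 1) * c.ι (c'.ι 1)
        = (c.ι (c'.ι 1) * c.ι 1) * x * (c.ι 1 * c.ι (c'.ι 1)) := by noncomm_ring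
      _ = c.ι (c'.ι 1) * x * c.ι (c'.ι 1) := by rw [h1, h2]

theorem cornerComp_ι_apply (c : CornerData R Λ B) (c' : CornerData R B C) (x : C) :
    (cornerComp c c').ι x = c.ι (c'.ι x) := rfl

theorem CornerData_π_one (c : CornerData R Λ B) : c.π 1 = 1 := by
  apply c.ι_injective
  rw [c.ι_π, mul_one, c.idem.eq]

end Constructions

section IdemCorner

variable {R : Type*} [CommRing R] {A : Type*} [Ring A] [Algebra R A] {e : A}

/-- The corner ring `e A e` of an idempotent (a copy of Mathlib's `IsIdempotentElem.Corner`, which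
we equip with an algebra structure). -/
def CornerRing (he : IsIdempotentElem e) : Type _ := he.Corner

variable (he : IsIdempotentElem e)

noncomputable instance : Ring (CornerRing he) := inferInstanceAs (Ring he.Corner)

/-- the underlying element -/
def CornerRing.val (x : CornerRing he) : A := Subtype.val x

theorem CornerRing.ext {x y : CornerRing he} (h : x.val = y.val) : x = y := Subtype.ext h

theorem CornerRing.val_mem (x : CornerRing he) : e * x.val * e = x.val := by
  obtain ⟨y, hy⟩ := x.2
  change e * y * e = x.val at hy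
  rw [← hy]
  simp only [mul_assoc, he.eq]
  simp only [← mul_assoc, he.eq]

theorem CornerRing.val_add (x y : CornerRing he) : (x + y).val = x.val + y.val := rfl
theorem CornerRing.val_mul (x y : CornerRing he) : (x * y).val = x.val * y.val := rfl
theorem CornerRing.val_zero : (0 : CornerRing he).val = 0 := rfl
theorem CornerRing.val_one : (1 : CornerRing he).val = e := rfl

instance : SMul R (CornerRing he) :=
  ⟨fun r x => ⟨r • x.val, r • x.val, by
    show e * (r • x.val) * e = r • x.val
    rw [mul_smul_comm, smul_mul_assoc, CornerRing.val_mem]⟩⟩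

theorem CornerRing.val_smul (r : R) (x : CornerRing he) : (r • x).val = r • x.val := rfl

/-- `val` as an additive monoid homomorphism -/
def CornerRing.valHom : CornerRing he →+ A where
  toFun := CornerRing.val he
  map_zero' := rfl
  map_add' _ _ := rfl

noncomputable instance : Module R (CornerRing he) :=
  Function.Injective.module R (CornerRing.valHom he) (fun _ _ h => CornerRing.ext he h)
    (fun _ _ => rfl)

noncomputable instance : Algebra R (CornerRing he) :=
  Algebra.ofModule
    (fun r x y => CornerRing.ext he (by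
      simp only [CornerRing.val_mul, CornerRing.val_smul, smul_mul_assoc]))
    (fun r x y => CornerRing.ext he (by
      simp only [CornerRing.val_mul, CornerRing.val_smul, mul_smul_comm]))

/-- The corner embedding of `e A e` into `A`. -/
noncomputable def cornerDataOfIdem : CornerData R A (CornerRing he) where
  ι := { toFun := CornerRing.val he, map_add' := fun _ _ => rfl, map_smul' := fun _ _ => rfl }
  π := { toFun := fun x => ⟨e * x * e, x, rfl⟩
         map_add' := fun x y => CornerRing.ext he (by
          show e * (x + y) * e = e * x * e + e * y * e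
          rw [mul_add, add_mul])
         map_smul' := fun r x => CornerRing.ext he (by
          show e * (r • x) * e = r • (e * x * e)
          rw [mul_smul_comm, smul_mul_assoc]) }
  map_mul _ _ := rfl
  π_ι x := CornerRing.ext he (CornerRing.val_mem he x)
  ι_π _ := rfl

theorem cornerDataOfIdem_ι_one : (cornerDataOfIdem (R := R) he).ι 1 = e := rfl

end IdemCorner

section Opposite

variable {R : Type*} [CommRing R] {A : Type*} [Ring A] [Algebra R A]
  {B : Type*} [Ring B] [Algebra R B] (c : CornerData R A B)

/-- `ι` on opposite algebras -/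
noncomputable def ιop : Bᵐᵒᵖ →ₗ[R] Aᵐᵒᵖ :=
  (MulOpposite.opLinearEquiv R).toLinearMap ∘ₗ c.ι ∘ₗ (MulOpposite.opLinearEquiv R).symm.toLinearMap

/-- `π` on opposite algebras -/
noncomputable def πop : Aᵐᵒᵖ →ₗ[R] Bᵐᵒᵖ :=
  (MulOpposite.opLinearEquiv R).toLinearMap ∘ₗ c.π ∘ₗ (MulOpposite.opLinearEquiv R).symm.toLinearMap

theorem ιop_apply (b : Bᵐᵒᵖ) : ιop c b = MulOpposite.op (c.ι b.unop) := rfl

theorem πop_apply (a : Aᵐᵒᵖ) : πop c a = MulOpposite.op (c.π a.unop) := rfl

theorem ιop_mul (b b' : Bᵐᵒᵖ) : ιop c (b * b') = ιop c b * ιop c b' := by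
  simp only [ιop_apply, MulOpposite.unop_mul, c.map_mul, MulOpposite.op_mul]

theorem πop_ιop (b : Bᵐᵒᵖ) : πop c (ιop c b) = b := by
  simp only [ιop_apply, πop_apply, MulOpposite.unop_op, c.π_ι, MulOpposite.op_unop]

theorem πop_comp_ιop : πop c ∘ₗ ιop c = LinearMap.id := LinearMap.ext (πop_ιop c)

theorem ιop_πop (a : Aᵐᵒᵖ) : ιop c (πop c a) = ιop c 1 * a * ιop c 1 := by
  simp only [ιop_apply, πop_apply, MulOpposite.unop_op, c.ι_π, MulOpposite.op_mul,
    MulOpposite.unop_one, MulOpposite.op_unop, mul_assoc]

end Opposite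

section Azumaya

variable {R : Type*} [CommRing R] {A : Type*} [Ring A] [Algebra R A]
  {B : Type*} [Ring B] [Algebra R B] (c : CornerData R A B)

theorem mulLeftRight_map_ι (z : B ⊗[R] Bᵐᵒᵖ) :
    AlgHom.mulLeftRight R A (TensorProduct.map c.ι (ιop c) z) =
      c.ι ∘ₗ (AlgHom.mulLeftRight R B z) ∘ₗ c.π := by
  induction z using TensorProduct.induction_on with
  | zero => simp
  | tmul b b' =>
    refine LinearMap.ext fun x => ?_
    simp only [TensorProduct.map_tmul, AlgHom.mulLeftRight_apply, ιop_apply, MulOpposite.unop_op,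
      LinearMap.comp_apply, c.map_mul, c.ι_π]
    calc c.ι b * x * c.ι b'.unop = (c.ι b * c.ι 1) * x * (c.ι 1 * c.ι b'.unop) := by
          rw [c.ι_mul_one, c.one_mul_ι]
      _ = c.ι b * (c.ι 1 * x * c.ι 1) * c.ι b'.unop := by noncomm_ring
  | add x y hx hy =>
    rw [map_add, map_add, hx, hy, map_add, LinearMap.add_comp, LinearMap.comp_add]

theorem mulLeftRight_map_π (z : A ⊗[R] Aᵐᵒᵖ) :
    AlgHom.mulLeftRight R B (TensorProduct.map c.π (πop c) z) =
      c.π ∘ₗ (AlgHom.mulLeftRight R A z) ∘ₗ c.ι := by
  induction z using TensorProduct.induction_on with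
  | zero => simp
  | tmul a a' =>
    refine LinearMap.ext fun y => ?_
    apply c.ι_injective
    simp only [TensorProduct.map_tmul, AlgHom.mulLeftRight_apply, πop_apply, MulOpposite.unop_op,
      LinearMap.comp_apply, c.map_mul, c.ι_π]
    calc c.ι 1 * a * c.ι 1 * c.ι y * (c.ι 1 * a'.unop * c.ι 1)
        = c.ι 1 * a * (c.ι 1 * c.ι y * c.ι 1) * a'.unop * c.ι 1 := by noncomm_ring
      _ = c.ι 1 * (a * c.ι y * a'.unop) * c.ι 1 := by
          rw [c.one_mul_ι, c.ι_mul_one]; noncomm_ring
  | add x y hx hy =>
    rw [map_add, map_add, hx, hy, map_add, LinearMap.add_comp, LinearMap.comp_add]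

theorem map_π_map_ι (z : B ⊗[R] Bᵐᵒᵖ) :
    TensorProduct.map c.π (πop c) (TensorProduct.map c.ι (ιop c) z) = z := by
  rw [← LinearMap.comp_apply, ← TensorProduct.map_comp, πop_comp_ιop,
    show c.π ∘ₗ c.ι = LinearMap.id from LinearMap.ext c.π_ι, TensorProduct.map_id]
  rfl

include c in
theorem projective_of_cornerData [Module.Projective R A] : Module.Projective R B :=
  Module.Projective.of_split c.ι c.π (LinearMap.ext c.π_ι)

include c in
theorem finite_of_cornerData [Module.Finite R A] : Module.Finite R B :=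
  Module.Finite.of_surjective c.π (fun b => ⟨c.ι b, c.π_ι b⟩)

include c in
/-- A faithful corner of an Azumaya algebra is Azumaya. -/
theorem isAzumaya_of_cornerData [IsAzumaya R A] [FaithfulSMul R B] : IsAzumaya R B := by
  have h1 : Module.Projective R B := projective_of_cornerData c
  have h2 : Module.Finite R B := finite_of_cornerData c
  have hA : Function.Bijective (AlgHom.mulLeftRight R A) := IsAzumaya.bij
  refine { h1, (inferInstance : FaithfulSMul R B), h2 with bij := ⟨?_, ?_⟩ }
  · rw [injective_iff_map_eq_zero]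
    intro z hz
    have h3 : AlgHom.mulLeftRight R A (TensorProduct.map c.ι (ιop c) z) = 0 := by
      rw [mulLeftRight_map_ι, hz, LinearMap.zero_comp, LinearMap.comp_zero]
    have h4 : TensorProduct.map c.ι (ιop c) z = 0 := by
      apply hA.1
      rw [h3, map_zero]
    rw [← map_π_map_ι c z, h4, map_zero]
  · intro g
    obtain ⟨z, hz⟩ := hA.2 (c.ι ∘ₗ g ∘ₗ c.π)
    refine ⟨TensorProduct.map c.π (πop c) z, ?_⟩
    rw [mulLeftRight_map_π, hz]
    refine LinearMap.ext fun y => ?_
    simp only [LinearMap.comp_apply, c.π_ι]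

end Azumaya

section TensorEnd

variable {R : Type*} [CommRing R] {A : Type*} [Ring A] [Algebra R A]
  {B : Type*} [Ring B] [Algebra R B] (c : CornerData R A B)

/-- the corner embedding `A ⊗ Bᵐᵒᵖ → A ⊗ Aᵐᵒᵖ` -/
noncomputable def lTensorOp : CornerData R (A ⊗[R] Aᵐᵒᵖ) (A ⊗[R] Bᵐᵒᵖ) where
  ι := LinearMap.lTensor A (ιop c)
  π := LinearMap.lTensor A (πop c)
  map_mul := (LinearMap.map_mul_iff _).mpr (by
    ext a b a' b'
    simp [ιop_mul])
  π_ι x := by
    rw [← LinearMap.comp_apply, ← LinearMap.lTensor_comp, πop_comp_ιop, LinearMap.lTensor_id]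
    rfl
  ι_π x := by
    induction x using TensorProduct.induction_on with
    | zero => simp
    | tmul a b =>
      simp only [LinearMap.lTensor_tmul, Algebra.TensorProduct.one_def,
        Algebra.TensorProduct.tmul_mul_tmul, one_mul, mul_one, ιop_πop]
    | add x y hx hy =>
      simp only [map_add, mul_add, add_mul] at hx hy ⊢
      rw [hx, hy]

theorem lTensorOp_ι_one : (lTensorOp c).ι 1 = (1 : A) ⊗ₜ[R] MulOpposite.op (c.ι 1) := by
  show LinearMap.lTensor A (ιop c) 1 = _
  rw [Algebra.TensorProduct.one_def, LinearMap.lTensor_tmul, ιop_apply, MulOpposite.unop_one]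

end TensorEnd

section EndSplit

variable {R : Type*} [CommRing R] {M : Type*} [AddCommGroup M] [Module R M]
  {N : Type*} [AddCommGroup N] [Module R N]

/-- the corner embedding `End N → End M` for a direct summand `N` of `M` -/
noncomputable def endSplit (i : N →ₗ[R] M) (p : M →ₗ[R] N) (h : ∀ n, p (i n) = n) :
    CornerData R (Module.End R M) (Module.End R N) where
  ι := { toFun := fun g => i ∘ₗ g ∘ₗ p
         map_add' := fun g g' => by rw [LinearMap.add_comp, LinearMap.comp_add]
         map_smul' := fun r g => by rw [LinearMap.smul_comp, LinearMap.comp_smul]; rfl }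
  π := { toFun := fun g => p ∘ₗ g ∘ₗ i
         map_add' := fun g g' => by rw [LinearMap.add_comp, LinearMap.comp_add]
         map_smul' := fun r g => by rw [LinearMap.smul_comp, LinearMap.comp_smul]; rfl }
  map_mul g g' := by
    refine LinearMap.ext fun x => ?_
    simp [Module.End.mul_apply, h]
  π_ι g := by
    refine LinearMap.ext fun x => ?_
    simp [h]
  ι_π g := by
    refine LinearMap.ext fun x => ?_
    simp [Module.End.mul_apply]

theorem endSplit_ι_one (i : N →ₗ[R] M) (p : M →ₗ[R] N) (h : ∀ n, p (i n) = n) :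
    (endSplit i p h).ι 1 = i ∘ₗ p := rfl

end EndSplit

section Brauer

variable {R : Type*} [CommRing R] {A : Type*} [Ring A] [Algebra R A]
  {B : Type*} [Ring B] [Algebra R B] (c : CornerData R A B)

/-- the left ideal `A f`, `f = c.ι 1`, as an `R`-submodule of `A` -/
noncomputable def leftIdeal : Submodule R A := LinearMap.range (LinearMap.mulRight R (c.ι 1))

/-- the projection `A → A f` -/
noncomputable def leftIdealProj : A →ₗ[R] leftIdeal c := (LinearMap.mulRight R (c.ι 1)).rangeRestrict

theorem leftIdealProj_subtype (y : leftIdeal c) : leftIdealProj c ((leftIdeal c).subtype y) = y := by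
  obtain ⟨y, x, rfl⟩ := y
  refine Subtype.ext ?_
  show x * c.ι 1 * c.ι 1 = x * c.ι 1
  rw [mul_assoc, c.idem.eq]

include c in
theorem projective_leftIdeal [Module.Projective R A] : Module.Projective R (leftIdeal c) :=
  Module.Projective.of_split (leftIdeal c).subtype (leftIdealProj c)
    (LinearMap.ext (leftIdealProj_subtype c))

include c in
theorem finite_leftIdeal [Module.Finite R A] : Module.Finite R (leftIdeal c) :=
  Module.Finite.of_surjective (leftIdealProj c)
    (fun y => ⟨(leftIdeal c).subtype y, leftIdealProj_subtype c y⟩)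

include c in
theorem nontrivial_leftIdeal [Nontrivial B] : Nontrivial (leftIdeal c) := by
  refine ⟨⟨⟨c.ι 1, c.ι 1, c.idem.eq⟩, 0, fun h => ?_⟩⟩
  have h1 : c.ι 1 = 0 := congrArg Subtype.val h
  have h2 : c.ι (1 : B) = c.ι 0 := by rw [h1, map_zero]
  exact one_ne_zero (c.ι_injective h2)

/-- `A ⊗ Bᵐᵒᵖ ≃ₐ End_R (A f)` for a corner `B = f A f` of an Azumaya algebra `A`. -/
theorem nonempty_algEquiv_end_leftIdeal [IsAzumaya R A] :
    Nonempty (A ⊗[R] Bᵐᵒᵖ ≃ₐ[R] Module.End R (leftIdeal c)) := by
  let Φ : A ⊗[R] Aᵐᵒᵖ ≃ₐ[R] Module.End R A :=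
    AlgEquiv.ofBijective (AlgHom.mulLeftRight R A) IsAzumaya.bij
  let c₁ : CornerData R (Module.End R A) (A ⊗[R] Bᵐᵒᵖ) := (lTensorOp c).transport Φ
  let c₂ : CornerData R (Module.End R A) (Module.End R (leftIdeal c)) :=
    endSplit (leftIdeal c).subtype (leftIdealProj c) (leftIdealProj_subtype c)
  have h12 : c₁.ι 1 = c₂.ι 1 := by
    show Φ ((lTensorOp c).ι 1) = _
    rw [lTensorOp_ι_one, endSplit_ι_one]
    refine LinearMap.ext fun x => ?_
    show AlgHom.mulLeftRight R A _ x = _
    rw [AlgHom.mulLeftRight_apply, one_mul]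
    rfl
  have hi : c₁.ι 1 * c₁.ι 1 = c₁.ι 1 := c₁.idem.eq
  exact ⟨c₁.transfer c₂ (c₁.ι 1) (c₁.ι 1) hi (by rw [← h12, hi]) (by rw [← h12, hi]) hi hi
    (by rw [← h12, hi])⟩

/-- A faithful corner `B` of an Azumaya algebra `A` is Brauer equivalent to `A`:
`A ⊗ End_R(B) ≃ₐ B ⊗ End_R(A f)`. -/
theorem nonempty_algEquiv_tensor_end [IsAzumaya R A] [FaithfulSMul R B] :
    Nonempty (A ⊗[R] Module.End R B ≃ₐ[R] B ⊗[R] Module.End R (leftIdeal c)) := by
  have : IsAzumaya R B := isAzumaya_of_cornerData c
  obtain ⟨E1⟩ := nonempty_algEquiv_end_leftIdeal c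
  let E2 : B ⊗[R] Bᵐᵒᵖ ≃ₐ[R] Module.End R B :=
    AlgEquiv.ofBijective (AlgHom.mulLeftRight R B) IsAzumaya.bij
  exact ⟨(Algebra.TensorProduct.congr (AlgEquiv.refl (R := R) (A₁ := A)) E2.symm).trans <|
    (Algebra.TensorProduct.congr (AlgEquiv.refl (R := R) (A₁ := A))
      (Algebra.TensorProduct.comm R B Bᵐᵒᵖ)).trans <|
    (Algebra.TensorProduct.assoc R R R A Bᵐᵒᵖ B).symm.trans <|
    (Algebra.TensorProduct.congr E1 (AlgEquiv.refl (R := R) (A₁ := B))).trans <|
    Algebra.TensorProduct.comm R (Module.End R (leftIdeal c)) B⟩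

end Brauer

section Connected

variable {R : Type u} [CommRing R]

/-- a finite projective module of everywhere positive rank is faithful -/
theorem faithfulSMul_of_rankAtStalk_pos (M : Type*) [AddCommGroup M] [Module R M]
    [Module.Finite R M] [Module.Projective R M]
    (h : ∀ p : PrimeSpectrum R, 0 < Module.rankAtStalk M p) : FaithfulSMul R M := by
  refine ⟨fun {r s} hrs => ?_⟩
  rw [← sub_eq_zero]
  apply eq_zero_of_localization
  intro J hJ
  have hJp : J.IsPrime := hJ.isPrime
  let p : PrimeSpectrum R := ⟨J, hJp⟩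
  have hfree : Module.Free (Localization.AtPrime J) (LocalizedModule J.primeCompl M) :=
    Module.free_of_flat_of_isLocalRing
  have hpos : 0 < Module.finrank (Localization.AtPrime J) (LocalizedModule J.primeCompl M) := h p
  let b := Module.Free.chooseBasis (Localization.AtPrime J) (LocalizedModule J.primeCompl M)
  have hne : Nonempty (Module.Free.ChooseBasisIndex (Localization.AtPrime J)
      (LocalizedModule J.primeCompl M)) := by
    by_contra hcon
    rw [not_nonempty_iff] at hcon
    rw [Module.finrank_eq_card_chooseBasisIndex] at hpos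
    simp at hpos
  obtain ⟨i⟩ := hne
  have h0 : ∀ x : LocalizedModule J.primeCompl M,
      algebraMap R (Localization.AtPrime J) (r - s) • x = 0 := by
    intro x
    induction x using LocalizedModule.induction_on with
    | h m t =>
      rw [algebraMap_smul, LocalizedModule.smul'_mk, sub_smul, hrs m, sub_self,
        LocalizedModule.zero_mk]
  have h1 := congrArg (fun x => b.repr x i) (h0 (b i))
  simpa using h1

variable [ConnectedSpace (PrimeSpectrum R)]

theorem rankAtStalk_eq_of_connected (M : Type*) [AddCommGroup M] [Module R M]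
    [Module.Finite R M] [Module.Projective R M] (p q : PrimeSpectrum R) :
    Module.rankAtStalk M p = Module.rankAtStalk M q := by
  have : Module.FinitePresentation R M := Module.finitePresentation_of_projective R M
  exact (Module.isLocallyConstant_rankAtStalk (R := R) (M := M)).apply_eq_of_preconnectedSpace p q

theorem rankAtStalk_pos_of_nontrivial (M : Type*) [AddCommGroup M] [Module R M]
    [Module.Finite R M] [Module.Projective R M] [Nontrivial M] (p : PrimeSpectrum R) :
    0 < Module.rankAtStalk M p := by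
  by_contra hcon
  have h0 : Module.rankAtStalk M p = 0 := by omega
  have h1 : Module.rankAtStalk (R := R) M = 0 := by
    funext q
    rw [rankAtStalk_eq_of_connected M q p, h0]
    rfl
  rw [Module.rankAtStalk_eq_zero_iff_subsingleton] at h1
  exact not_subsingleton M h1

theorem faithfulSMul_of_nontrivial (M : Type*) [AddCommGroup M] [Module R M]
    [Module.Finite R M] [Module.Projective R M] [Nontrivial M] : FaithfulSMul R M :=
  faithfulSMul_of_rankAtStalk_pos M (rankAtStalk_pos_of_nontrivial M)

/-- a proper direct summand has strictly smaller rank -/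
theorem rankAtStalk_lt_of_split {M : Type*} [AddCommGroup M] [Module R M]
    [Module.Finite R M] [Module.Projective R M] {N : Type*} [AddCommGroup N] [Module R N]
    (i : N →ₗ[R] M) (p : M →ₗ[R] N) (h : ∀ n, p (i n) = n) (x : M) (hx : p x = 0) (hx0 : x ≠ 0)
    (q : PrimeSpectrum R) : Module.rankAtStalk N q < Module.rankAtStalk M q := by
  have : Module.Projective R N := Module.Projective.of_split i p (LinearMap.ext h)
  have : Module.Finite R N := Module.Finite.of_surjective p (fun n => ⟨i n, h n⟩)
  let K := LinearMap.ker p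
  let pK : M →ₗ[R] K := (LinearMap.id - i ∘ₗ p).codRestrict K (fun m => by
    simp [K, LinearMap.mem_ker, h])
  have hpK : ∀ k : K, pK (K.subtype k) = k := by
    intro k
    refine Subtype.ext ?_
    have : p (k : M) = 0 := k.2
    simp [pK, this]
  have : Module.Projective R K := Module.Projective.of_split K.subtype pK (LinearMap.ext hpK)
  have : Module.Finite R K := Module.Finite.of_surjective pK (fun k => ⟨K.subtype k, hpK k⟩)
  have : Nontrivial K := ⟨⟨⟨x, hx⟩, 0, fun h => hx0 (congrArg Subtype.val h)⟩⟩
  let E : M ≃ₗ[R] N × K :=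
    { toFun := fun m => (p m, pK m)
      map_add' := fun m m' => by simp
      map_smul' := fun r m => by simp
      invFun := fun y => i y.1 + y.2
      left_inv := fun m => by simp [pK]
      right_inv := fun y => by
        have h2 : p (y.2 : M) = 0 := y.2.2
        refine Prod.ext ?_ (Subtype.ext ?_)
        · simp [h, h2]
        · simp [pK, h, h2] }
  have h3 := congrFun (Module.rankAtStalk_eq_of_equiv E) q
  rw [Module.rankAtStalk_prod, Pi.add_apply] at h3
  have h4 : 0 < Module.rankAtStalk K q := rankAtStalk_pos_of_nontrivial K q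
  omega

/-- Over a connected base, a nonzero finite projective algebra has a nonzero corner with only
trivial idempotents. -/
theorem exists_corner_trivial_idem (A : Type v) [Ring A] [Algebra R A] [Module.Finite R A]
    [Module.Projective R A] [Nontrivial A] :
    ∃ (B : Type v) (_ : Ring B) (_ : Algebra R B) (_ : CornerData R A B), Nontrivial B ∧
      ∀ b : B, IsIdempotentElem b → b = 0 ∨ b = 1 := by
  have hne : Nonempty (PrimeSpectrum R) := ConnectedSpace.toNonempty
  obtain ⟨p₀⟩ := hne
  let S : ℕ → Prop := fun n => ∃ (B : Type v) (_ : Ring B) (_ : Algebra R B)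
    (_ : CornerData R A B), Nontrivial B ∧ Module.rankAtStalk B p₀ = n
  have hS : ∃ n, S n := ⟨_, A, inferInstance, inferInstance, cornerRefl, inferInstance, rfl⟩
  classical
  obtain ⟨B, hB1, hB2, c, hnt, hn⟩ := Nat.find_spec hS
  refine ⟨B, hB1, hB2, c, hnt, ?_⟩
  intro g hg
  by_contra hcon
  obtain ⟨hg0, hg1⟩ := not_or.mp hcon
  have : Module.Projective R B := projective_of_cornerData c
  have : Module.Finite R B := finite_of_cornerData c
  let c' : CornerData R B (CornerRing hg) := cornerDataOfIdem hg
  have hntC : Nontrivial (CornerRing hg) := by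
    refine ⟨⟨1, 0, fun h => hg0 ?_⟩⟩
    have := congrArg (CornerRing.val hg) h
    exact this
  have hSC : S (Module.rankAtStalk (CornerRing hg) p₀) :=
    ⟨CornerRing hg, inferInstance, inferInstance, cornerComp c c', hntC, rfl⟩
  have hmin := Nat.find_min' hS hSC
  have hlt : Module.rankAtStalk (CornerRing hg) p₀ < Module.rankAtStalk B p₀ := by
    refine rankAtStalk_lt_of_split c'.ι c'.π c'.π_ι (1 - g) ?_ ?_ p₀
    · rw [map_sub, CornerData_π_one]
      have : c'.π g = 1 := by
        apply c'.ι_injective
        rw [c'.ι_π]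
        show g * g * g = g
        rw [hg.eq, hg.eq]
      rw [this, sub_self]
    · intro h
      exact hg1 (sub_eq_zero.mp h).symm
  omega

end Connected

end Groth.Agent.Lib.Seat78.CornerAz
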