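import Groth.Agent.Lib.Seat78DispLin
import Groth.Agent.S16540

/-!
# Base change of displays along a surjection: lifting homomorphisms to homomorphisms modulo the
# kernel (seat 78)

For `f : S → R` surjective, `φ = W(f)`, `K = ker φ = W(ker f)` and displays `D`, `D'` over `S` with
base changes `DR`, `DR'`:
* `tmul_one_eq_zero_iff`: `1 ⊗ x' = 0` in `W(R) ⊗ P'` iff `x' ∈ K P'` (`P'` finite projective);
* `exists_lift_isHomMod`: every homomorphism `χ : DR → DR'` is `id ⊗ ψ₀` for a `W(S)`-linear `ψ₀`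
  which is a homomorphism modulo `K`;
* `map_eq_zero_iff`, `map_eq_smul_of_sub_mem`, `IsHom.sub`.
-/

set_option autoImplicit false
set_option linter.unusedSectionVars false
set_option linter.style.haveILetI false
universe u v
open Dieu

namespace Groth.Agent.Lib.Seat78.DispBase

open W4c1extbt610 WittVector Groth.Agent.Lib.Seat78.WittSqZero Groth.Agent.Lib.Seat78.DispTheta
  Groth.Agent.Lib.Seat78.DispLin

variable {p : ℕ} [hp : Fact p.Prime] {S R : Type u} [CommRing S] [CommRing R] (f : S →+* R)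
variable {P : Type v} [AddCommGroup P] [Module (WittVector p S) P]
variable {P' : Type v} [AddCommGroup P'] [Module (WittVector p S) P']

local notation "φ" => (WittVector.map f : WittVector p S →+* WittVector p R)

theorem tmul_one_eq_zero_of_mem {x' : P'}
    (hx : x' ∈ RingHom.ker φ • (⊤ : Submodule (WittVector p S) P')) : BC.tmul φ 1 x' = 0 := by
  refine Submodule.smul_induction_on hx ?_ ?_
  · intro a ha y _
    rw [← BC.tmul_mul_apply, (RingHom.mem_ker).1 ha, mul_zero, BC.zero_tmul]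
  · intro y z hy hz
    rw [BC.tmul_add, hy, hz, add_zero]

theorem mem_of_tmul_one_eq_zero [Module.Finite (WittVector p S) P']
    [Module.Projective (WittVector p S) P'] {x' : P'} (hx : BC.tmul φ 1 x' = 0) :
    x' ∈ RingHom.ker φ • (⊤ : Submodule (WittVector p S) P') := by
  obtain ⟨n, fc, gc, -, -, hfg⟩ :=
    Module.Finite.exists_comp_eq_id_of_projective (WittVector p S) P'
  refine mem_of_coord_mem fc gc hfg _ fun j => ?_
  let c : P' →ₗ[WittVector p S] WittVector p S := LinearMap.proj j ∘ₗ gc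
  have h1 : BC.lift φ (semilinearOfRingHom φ) (BC.map φ c (BC.tmul φ 1 x')) = φ (gc x' j) := by
    rw [BC.map_tmul, BC.lift_tmul, one_smul]
    rfl
  rw [hx, map_zero, map_zero] at h1
  exact (RingHom.mem_ker).2 h1.symm

theorem tmul_one_eq_zero_iff [Module.Finite (WittVector p S) P']
    [Module.Projective (WittVector p S) P'] {x' : P'} :
    BC.tmul φ 1 x' = 0 ↔ x' ∈ RingHom.ker φ • (⊤ : Submodule (WittVector p S) P') :=
  ⟨mem_of_tmul_one_eq_zero f, tmul_one_eq_zero_of_mem f⟩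

theorem map_eq_zero_iff [Module.Finite (WittVector p S) P']
    [Module.Projective (WittVector p S) P'] (α : P →ₗ[WittVector p S] P') :
    BC.map φ α = 0 ↔ ∀ x, α x ∈ RingHom.ker φ • (⊤ : Submodule (WittVector p S) P') := by
  constructor
  · intro h x
    apply mem_of_tmul_one_eq_zero f
    have h1 := LinearMap.congr_fun h (BC.tmul φ 1 x)
    rwa [BC.map_tmul, LinearMap.zero_apply] at h1
  · intro h
    apply BC.ext
    intro x
    rw [BC.map_tmul, LinearMap.zero_apply]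
    exact tmul_one_eq_zero_of_mem f (h x)

theorem map_eq_smul_of_sub_mem (c : WittVector p S) (ψ ψ' : P →ₗ[WittVector p S] P')
    (h : ∀ x, ψ' x - c • ψ x ∈ RingHom.ker φ • (⊤ : Submodule (WittVector p S) P')) :
    BC.map φ ψ' = φ c • BC.map φ ψ := by
  apply BC.ext
  intro x
  rw [BC.map_tmul, LinearMap.smul_apply, BC.map_tmul, BC.smul_tmul, mul_one]
  have h1 := tmul_one_eq_zero_of_mem f (h x)
  have h2 : ψ' x = (ψ' x - c • ψ x) + c • ψ x := by abel
  rw [h2, BC.tmul_add, h1, zero_add, ← BC.tmul_apply_eq]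

section isHom

theorem IsHom.sub {R₀ : Type u} [CommRing R₀] {M M' : Type v} [AddCommGroup M]
    [Module (WittVector p R₀) M] [AddCommGroup M'] [Module (WittVector p R₀) M']
    {D : Display3n p R₀ M} {D' : Display3n p R₀ M'} {ψ χ : M →ₗ[WittVector p R₀] M'}
    (hψ : IsHom D D' ψ) (hχ : IsHom D D' χ) : IsHom D D' (ψ - χ) := by
  have hmaps : ∀ q : M, q ∈ D.Q → (ψ - χ) q ∈ D'.Q := fun q hq =>
    sub_mem (hψ.mapsTo q hq) (hχ.mapsTo q hq)
  refine ⟨hmaps, ?_, ?_⟩
  · intro x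
    rw [LinearMap.sub_apply, LinearMap.sub_apply, hψ.comm_F, hχ.comm_F, map_sub]
  · intro q
    rw [LinearMap.sub_apply, hψ.comm_Vinv, hχ.comm_Vinv, ← map_sub]
    rfl

end isHom

section lift
variable (hf : Function.Surjective f)

include hf in
theorem exists_tmul_one_eq (t : BC φ P') : ∃ x' : P', BC.tmul φ 1 x' = t := by
  induction t using BC.induction_on φ with
  | zero => exact ⟨0, BC.tmul_zero _ _⟩
  | tmul b x =>
    obtain ⟨a, rfl⟩ := WittVector.map_surjective f hf b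
    exact ⟨a • x, (BC.tmul_apply_eq φ a x).symm⟩
  | add z₁ z₂ h₁ h₂ =>
    obtain ⟨x₁, rfl⟩ := h₁
    obtain ⟨x₂, rfl⟩ := h₂
    exact ⟨x₁ + x₂, BC.tmul_add _ _ _ _⟩

include hf in
/-- elements of the additive closure of the generators of `Q_R` come from `Q`. -/
theorem exists_of_mem_closure_gens (D' : Display3n p S P') (t : BC φ P')
    (ht : t ∈ AddSubgroup.closure (Groth.Agent.S16540.gens f D'.Q)) :
    ∃ q ∈ D'.Q, t = BC.tmul φ 1 q := by
  induction ht using AddSubgroup.closure_induction with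
  | mem t ht =>
    rcases ht with ⟨w, y, hy, rfl⟩ | ⟨w, x, rfl⟩
    · obtain ⟨a, rfl⟩ := WittVector.map_surjective f hf w
      exact ⟨a • y, D'.Q.smul_mem a hy, BC.tmul_apply_eq φ a y⟩
    · obtain ⟨a, rfl⟩ := WittVector.map_surjective f hf w
      refine ⟨verschiebung a • x, D'.IV_smul_le
        (Submodule.smul_mem_smul (verschiebung_mem_IV p S a) Submodule.mem_top), ?_⟩
      rw [← WittVector.map_verschiebung]
      exact BC.tmul_apply_eq φ _ x
  | zero => exact ⟨0, zero_mem _, (BC.tmul_zero _ _).symm⟩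
  | add t₁ t₂ _ _ h₁ h₂ =>
    obtain ⟨q₁, hq₁, rfl⟩ := h₁
    obtain ⟨q₂, hq₂, rfl⟩ := h₂
    exact ⟨q₁ + q₂, add_mem hq₁ hq₂, (BC.tmul_add _ _ _ _).symm⟩
  | neg t _ h =>
    obtain ⟨q, hq, rfl⟩ := h
    exact ⟨-q, neg_mem hq, (BC.tmul_neg _ _ _).symm⟩

include hf in
/-- `1 ⊗ x' ∈ Q'_R` implies `x' ∈ Q' + K P'`. -/
theorem mem_sup_of_tmul_one_mem (D' : Display3n p S P')
    (DR' : Display3n p R (BC φ P')) (hDR' : IsDispBaseChange f D' DR') {x' : P'}
    (hx : BC.tmul φ 1 x' ∈ DR'.Q) :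
    x' ∈ D'.Q ⊔ RingHom.ker φ • (⊤ : Submodule (WittVector p S) P') := by
  haveI := D'.finite
  haveI := D'.projective
  rw [hDR'.Q_eq, LinearMap.mem_ker] at hx
  obtain ⟨q, hq, hqe⟩ := exists_of_mem_closure_gens f hf D' _
    (Groth.Agent.S16540.mem_closure_gens f D'.Q _ hx)
  have h1 : BC.tmul φ 1 (x' - q) = 0 := by
    rw [sub_eq_add_neg, BC.tmul_add, BC.tmul_neg, hqe, add_neg_cancel]
  have h2 := mem_of_tmul_one_eq_zero f h1
  have h3 : x' = q + (x' - q) := by abel
  rw [h3]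
  exact Submodule.add_mem_sup hq h2

include hf in
/-- **base case**: a homomorphism of the base-changed displays lifts to a homomorphism modulo
`K = ker W(f)`. -/
theorem exists_lift_isHomMod (D : Display3n p S P) (D' : Display3n p S P')
    (DR : Display3n p R (BC φ P)) (hDR : IsDispBaseChange f D DR)
    (DR' : Display3n p R (BC φ P')) (hDR' : IsDispBaseChange f D' DR')
    (χ : BC φ P →ₗ[WittVector p R] BC φ P') (hχ : IsHom DR DR' χ) :
    ∃ ψ₀ : P →ₗ[WittVector p S] P', IsHomMod D D' (RingHom.ker φ) ψ₀ ∧ BC.map φ ψ₀ = χ := by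
  haveI := D.finite
  haveI := D.projective
  haveI := D'.finite
  haveI := D'.projective
  obtain ⟨n, fP, gP, -, -, hfgP⟩ :=
    Module.Finite.exists_comp_eq_id_of_projective (WittVector p S) P
  choose c hc using fun j : Fin n => exists_tmul_one_eq f hf (χ (BC.tmul φ 1 (ee fP j)))
  let ψ₀ : P →ₗ[WittVector p S] P' := ∑ j, (LinearMap.proj j ∘ₗ gP).smulRight (c j)
  have hψ₀_apply : ∀ x, ψ₀ x = ∑ j, gP x j • c j := by
    intro x
    simp only [ψ₀, LinearMap.sum_apply, LinearMap.smulRight_apply, LinearMap.comp_apply,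
      LinearMap.proj_apply]
  have hι : ∀ x, BC.tmul φ 1 (ψ₀ x) = χ (BC.tmul φ 1 x) := by
    intro x
    have h1 : BC.tmul φ 1 (ψ₀ x) = ∑ j, φ (gP x j) • χ (BC.tmul φ 1 (ee fP j)) := by
      rw [hψ₀_apply, ← BC.ι_apply, map_sum]
      refine Finset.sum_congr rfl fun j _ => ?_
      rw [(BC.ι φ P').map_smulₛₗ, BC.ι_apply, hc]
    have h2 : BC.tmul φ 1 x = ∑ j, φ (gP x j) • BC.tmul φ 1 (ee fP j) := by
      conv_lhs => rw [eq_sum fP gP hfgP x, ← BC.ι_apply, map_sum]
      refine Finset.sum_congr rfl fun j _ => ?_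
      rw [(BC.ι φ P).map_smulₛₗ, BC.ι_apply]
    rw [h1, h2, map_sum]
    exact Finset.sum_congr rfl fun j _ => (map_smul χ _ _).symm
  have hmap : BC.map φ ψ₀ = χ := by
    apply BC.ext
    intro x
    rw [BC.map_tmul, hι]
  have hQR : ∀ y : D.Q, BC.tmul φ 1 (y : P) ∈ DR.Q := fun y =>
    Groth.Agent.S16540.gens_subset f D DR hDR (Or.inl ⟨1, y, y.2, rfl⟩)
  have hQR' : ∀ q' : D'.Q, BC.tmul φ 1 (q' : P') ∈ DR'.Q := fun q' =>
    Groth.Agent.S16540.gens_subset f D' DR' hDR' (Or.inl ⟨1, q', q'.2, rfl⟩)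
  refine ⟨ψ₀, ⟨?_, ?_⟩, hmap⟩
  · intro y hy
    apply mem_sup_of_tmul_one_mem f hf D' DR' hDR'
    rw [hι]
    exact hχ.mapsTo _ (hQR ⟨y, hy⟩)
  · intro y q' hyq
    apply mem_of_tmul_one_eq_zero f
    have h1 : BC.tmul φ 1 (ψ₀ (y : P)) = BC.tmul φ 1 (q' : P') := by
      have h2 := tmul_one_eq_zero_of_mem f hyq
      rw [sub_eq_add_neg, BC.tmul_add, BC.tmul_neg, add_neg_eq_zero] at h2
      exact h2
    have h3 : BC.tmul φ 1 (D.Vinv y) = DR.Vinv ⟨BC.tmul φ 1 (y : P), hQR y⟩ := by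
      rw [hDR.Vinv_tmul 1 y (hQR y), map_one]
    have h4 : BC.tmul φ 1 (D'.Vinv q') = DR'.Vinv ⟨BC.tmul φ 1 (q' : P'), hQR' q'⟩ := by
      rw [hDR'.Vinv_tmul 1 q' (hQR' q'), map_one]
    rw [sub_eq_add_neg, BC.tmul_add, BC.tmul_neg, add_neg_eq_zero, hι, h3, hχ.comm_Vinv, h4]
    congr 1
    apply Subtype.ext
    change χ (BC.tmul φ 1 (y : P)) = BC.tmul φ 1 (q' : P')
    rw [← hι, h1]

end lift

end Groth.Agent.Lib.Seat78.DispBase
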