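import Groth.Agent.Lib.Seat78DispTheta
import Groth.Agent.S16535

/-!
# Linear maps with prescribed values on `V⁻¹ Q`; homomorphisms of displays modulo an ideal (seat 78)

* `exists_linear_of_Vinv`: for a 3n-display `D` over `S` (`p` nilpotent in `S`) and a
  Frobenius-semilinear `κ : Q → N` with `κ (V w • x) = w • κ (V 1 • x)`, there is a linear
  `K : P → N` with `K (V⁻¹ y) = κ y`.
* `Vinv_mem_of_mem`: `V'⁻¹ (Q' ∩ J' P') ⊆ J' P'` when `J'` is stable under the shift and Frobenius.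
* `IsHomMod D D' J ψ`: `ψ` is a homomorphism of 3n-displays modulo `J P'`.
-/

set_option autoImplicit false
set_option linter.unusedSectionVars false
set_option linter.style.haveILetI false
universe u v w
open Dieu

namespace Groth.Agent.Lib.Seat78.DispLin

open W4c1extbt610 WittVector Groth.Agent.Lib.Seat78.WittSqZero Groth.Agent.Lib.Seat78.DispNil
  Groth.Agent.Lib.Seat78.DispTheta Groth.Agent.Lib.Helper14.Disp

variable {p : ℕ} [hp : Fact p.Prime] {S : Type u} [CommRing S]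
variable {P : Type v} [AddCommGroup P] [Module (WittVector p S) P]
variable {P' : Type v} [AddCommGroup P'] [Module (WittVector p S) P']

local notation "σ" => (WittVector.frobenius : WittVector p S →+* WittVector p S)

section lin
variable {N : Type w} [AddCommGroup N] [Module (WittVector p S) N]

/-- a linear map with prescribed values on `V⁻¹ Q`. -/
theorem exists_linear_of_Vinv (hpS : IsNilpotent (p : S)) (D : Display3n p S P)
    (κ : D.Q →ₛₗ[σ] N)
    (hκ : ∀ (w : WittVector p S) (x : P) (h : verschiebung w • x ∈ D.Q)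
      (h1 : verschiebung (1 : WittVector p S) • x ∈ D.Q),
      κ ⟨verschiebung w • x, h⟩ = w • κ ⟨verschiebung (1 : WittVector p S) • x, h1⟩) :
    ∃ K : P →ₗ[WittVector p S] N, ∀ y : D.Q, K (D.Vinv y) = κ y := by
  haveI := D.finite
  haveI := D.projective
  obtain ⟨L, T, hLT, hQ⟩ := D.exists_normal
  have hL : L ≤ D.Q := hQ ▸ le_sup_left
  have hsurj := Groth.Agent.S16535.lift_Φ_surjective D L T hLT hL hQ
  have hinj := injective_of_surjective_twist _
    (fun 𝔪 h𝔪 => comap_frobenius_eq_of_isMaximal hpS 𝔪 h𝔪) _ hsurj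
  let e := LinearEquiv.ofBijective (BC.lift σ (Groth.Agent.S16535.Φ D L T hLT hL)) ⟨hinj, hsurj⟩
  have he : ∀ z, e.symm (BC.lift σ (Groth.Agent.S16535.Φ D L T hLT hL) z) = z :=
    fun z => e.symm_apply_apply z
  -- `t ↦ V 1 • t : T → Q`
  let ν : T →ₗ[WittVector p S] D.Q :=
    LinearMap.codRestrict D.Q ((verschiebung (1 : WittVector p S)) • T.subtype)
      (fun t => Groth.Agent.Lib.Helper22.disp_V1_smul_mem D t)
  let κP : P →ₛₗ[σ] N :=
    κ.comp ((Submodule.inclusion hL).comp (L.projectionOnto T hLT)) +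
      κ.comp (ν.comp (T.projectionOnto L hLT.symm))
  have hκP_L : ∀ (l : P) (hl : l ∈ L), κP l = κ ⟨l, hL hl⟩ := by
    intro l hl
    have h1 : L.projectionOnto T hLT l = ⟨l, hl⟩ := Submodule.projectionOnto_apply_left hLT ⟨l, hl⟩
    have h2 : T.projectionOnto L hLT.symm l = 0 :=
      Submodule.projectionOnto_apply_right hLT.symm ⟨l, hl⟩
    simp only [κP, LinearMap.add_apply, LinearMap.comp_apply, h1, h2, map_zero, add_zero]
    rfl
  have hκP_T : ∀ (t : P) (ht : t ∈ T),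
      κP t = κ ⟨verschiebung (1 : WittVector p S) • t,
        Groth.Agent.Lib.Helper22.disp_V1_smul_mem D t⟩ := by
    intro t ht
    have h1 : L.projectionOnto T hLT t = 0 := Submodule.projectionOnto_apply_right hLT ⟨t, ht⟩
    have h2 : T.projectionOnto L hLT.symm t = ⟨t, ht⟩ :=
      Submodule.projectionOnto_apply_left hLT.symm ⟨t, ht⟩
    simp only [κP, LinearMap.add_apply, LinearMap.comp_apply, h1, h2, map_zero, zero_add]
    rfl
  refine ⟨(BC.lift σ κP).comp e.symm.toLinearMap, ?_⟩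
  refine Groth.Agent.S16535.Q_induction D L T hQ _ ?_ ?_ ?_ ?_
  · intro l hlQ hl
    have h1 : D.Vinv ⟨l, hlQ⟩ = BC.lift σ (Groth.Agent.S16535.Φ D L T hLT hL) (BC.tmul σ 1 l) := by
      rw [BC.lift_tmul, one_smul, Groth.Agent.S16535.Φ_apply_L D L T hLT hL l hl]
    change BC.lift σ κP (e.symm (D.Vinv ⟨l, hlQ⟩)) = _
    rw [h1, he, BC.lift_tmul, one_smul, hκP_L l hl]
  · intro w t h ht
    have h1 : D.Vinv ⟨verschiebung w • t, h⟩ =
        BC.lift σ (Groth.Agent.S16535.Φ D L T hLT hL) (BC.tmul σ w t) := by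
      rw [BC.lift_tmul, Groth.Agent.S16535.Φ_apply_T D L T hLT hL t ht,
        ← D.Vinv_verschiebung_smul w t]
    change BC.lift σ κP (e.symm (D.Vinv ⟨_, h⟩)) = _
    rw [h1, he, BC.lift_tmul, hκP_T t ht, ← hκ w t h]
  · rw [map_zero, map_zero, map_zero]
  · intro a b ha hb
    rw [map_add, map_add, map_add, ha, hb]

end lin

section mem
variable (D' : Display3n p S P') (J' : Ideal (WittVector p S))

/-- `V'⁻¹ (Q' ∩ J' P') ⊆ J' P'` for an ideal stable under the shift and Frobenius. -/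
theorem Vinv_mem_of_mem (hsh : ∀ a ∈ J', a.shift 1 ∈ J') (hfr : ∀ a ∈ J', frobenius a ∈ J')
    {y : P'} (hy : y ∈ J' • (⊤ : Submodule (WittVector p S) P')) (hQ : y ∈ D'.Q) :
    D'.Vinv ⟨y, hQ⟩ ∈ J' • (⊤ : Submodule (WittVector p S) P') := by
  haveI := D'.finite
  haveI := D'.projective
  obtain ⟨n, f, g, -, -, hfg⟩ := Module.Finite.exists_comp_eq_id_of_projective (WittVector p S) P'
  obtain ⟨L, T, hLT, hQeq⟩ := D'.exists_normal
  have hLQ : L ≤ D'.Q := hQeq ▸ le_sup_left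
  have hTQ : IV p S • T ≤ D'.Q := hQeq ▸ le_sup_right
  obtain ⟨l, hl, u, hu, rfl⟩ := Submodule.mem_sup.1 (hQeq ▸ hQ)
  let πL : P' →ₗ[WittVector p S] P' := L.projection T hLT
  have hπL_l : ∀ l' ∈ L, πL l' = l' := fun l' hl' =>
    Submodule.projection_apply_left hLT ⟨l', hl'⟩
  have hπL_mem : ∀ x, πL x ∈ L := fun x => Submodule.projection_apply_mem hLT x
  have huT : u ∈ T := by
    refine Submodule.smul_induction_on hu (fun a _ t ht => T.smul_mem a ht) fun _ _ => T.add_mem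
  have hπL_u : πL u = 0 := Submodule.projection_apply_right hLT ⟨u, huT⟩
  have hlJ : l ∈ J' • (⊤ : Submodule (WittVector p S) P') := by
    have h1 := map_mem_smul_top πL J' hy
    rwa [map_add, hπL_l l hl, hπL_u, add_zero] at h1
  have huJ : u ∈ J' • (⊤ : Submodule (WittVector p S) P') := by
    have h1 := sub_mem hy hlJ
    rwa [add_sub_cancel_left] at h1
  have huIV : u ∈ IV p S • (⊤ : Submodule (WittVector p S) P') :=
    Submodule.smul_mono (le_refl _) le_top hu
  have huQ : u ∈ D'.Q := hTQ hu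
  have hlQ : l ∈ D'.Q := hLQ hl
  have hl_sum : l = ∑ j, g l j • ((⟨πL (ee f j), hLQ (hπL_mem _)⟩ : D'.Q) : P') := by
    conv_lhs => rw [← hπL_l l hl, eq_sum f g hfg l, map_sum]
    exact Finset.sum_congr rfl fun j _ => by rw [map_smul]
  have hVl : D'.Vinv ⟨l, hlQ⟩ ∈ J' • (⊤ : Submodule (WittVector p S) P') := by
    have h2 : ∑ j, g l j • ((⟨πL (ee f j), hLQ (hπL_mem _)⟩ : D'.Q) : P') ∈ D'.Q := hl_sum ▸ hlQ
    have h3 : (⟨l, hlQ⟩ : D'.Q) = ⟨_, h2⟩ := Subtype.ext hl_sum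
    rw [h3, Vinv_sum_smul]
    exact Submodule.sum_mem _ fun j _ =>
      Submodule.smul_mem_smul (hfr _ (coord_mem g J' hlJ j)) Submodule.mem_top
  have hVu : D'.Vinv ⟨u, huQ⟩ ∈ J' • (⊤ : Submodule (WittVector p S) P') := by
    rw [Vinv_eq_Θt_of_mem_IV D' f g hfg huIV huQ]
    exact Submodule.sum_mem _ fun j _ =>
      Submodule.smul_mem_smul (hsh _ (coord_mem g J' huJ j)) Submodule.mem_top
  have hsplit : (⟨l + u, hQ⟩ : D'.Q) = ⟨l, hlQ⟩ + ⟨u, huQ⟩ := rfl
  rw [hsplit, map_add]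
  exact add_mem hVl hVu

end mem

section hommod

/-- `ψ` is a homomorphism of 3n-displays modulo `J P'`. -/
structure IsHomMod (D : Display3n p S P) (D' : Display3n p S P') (J : Ideal (WittVector p S))
    (ψ : P →ₗ[WittVector p S] P') : Prop where
  mapsTo : ∀ y ∈ D.Q, ψ y ∈ D'.Q ⊔ J • (⊤ : Submodule (WittVector p S) P')
  comm_Vinv : ∀ (y : D.Q) (q' : D'.Q),
    ψ y - q' ∈ J • (⊤ : Submodule (WittVector p S) P') →
      ψ (D.Vinv y) - D'.Vinv q' ∈ J • (⊤ : Submodule (WittVector p S) P')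

theorem isHom_of_isHomMod_bot (D : Display3n p S P) (D' : Display3n p S P')
    (ψ : P →ₗ[WittVector p S] P') (h : IsHomMod D D' ⊥ ψ) : IsHom D D' ψ := by
  have hbot : (⊥ : Ideal (WittVector p S)) • (⊤ : Submodule (WittVector p S) P') = ⊥ :=
    Submodule.bot_smul _
  have hmaps : ∀ q : P, q ∈ D.Q → ψ q ∈ D'.Q := by
    intro q hq
    have h1 := h.mapsTo q hq
    rwa [hbot, sup_bot_eq] at h1
  have hV : ∀ q : D.Q, ψ (D.Vinv q) = D'.Vinv ⟨ψ q, hmaps q q.2⟩ := by
    intro q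
    have h1 := h.comm_Vinv q ⟨ψ q, hmaps q q.2⟩ (by rw [sub_self]; exact zero_mem _)
    rw [hbot, Submodule.mem_bot] at h1
    exact sub_eq_zero.1 h1
  refine ⟨hmaps, ?_, hV⟩
  intro x
  rw [Groth.Agent.Lib.Helper22.disp_F_eq_Vinv D x, hV,
    Groth.Agent.Lib.Helper22.disp_F_eq_Vinv D' (ψ x)]
  congr 1
  exact Subtype.ext (map_smul ψ _ _)

end hommod

end Groth.Agent.Lib.Seat78.DispLin
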