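import Mathlib
import Groth.Agent.Lib.Seat78BCCoord
import Groth.Agent.Lib.Helper14Disp4
import Groth.Agent.Lib.Helper22Witt
import Groth.Agent.Lib.Helper22Disp
import Groth.Agent.S16535

/-!
# The matrix criterion for the nilpotence condition of a 3n-display

For a 3n-display with a normal decomposition by free modules, the operator `V^#` is computed in
coordinates, its iterates modulo `I_R + p W` are twisted products of a matrix over `R / p R`, and the
nilpotence condition becomes the vanishing of a twisted power of the `L`-block.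
-/

set_option autoImplicit false
set_option linter.unusedSectionVars false
universe u v w
open Dieu WittVector W4c1extbt610 Groth.Agent.Lib.Helper14.Disp Groth.Agent.Lib.Seat78.BCCoord

namespace Groth.Agent.Lib.Seat78.DispMatrix

section Rho

variable (p : ℕ) [Fact p.Prime] (R : Type u) [CommRing R]

/-- `w ↦ w₀ mod p` -/
noncomputable def rho : WittVector p R →+* R ⧸ Ideal.span {(p : R)} :=
  (Ideal.Quotient.mk _).comp (constantCoeff : WittVector p R →+* R)

theorem rho_apply (w : WittVector p R) :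
    rho p R w = Ideal.Quotient.mk (Ideal.span {(p : R)}) (constantCoeff w) := rfl

omit [Fact p.Prime] in
theorem natCast_p_eq_zero : ((p : ℕ) : R ⧸ Ideal.span {(p : R)}) = 0 := by
  rw [← map_natCast (Ideal.Quotient.mk (Ideal.span {(p : R)})), Ideal.Quotient.eq_zero_iff_mem]
  exact Ideal.mem_span_singleton_self _

theorem rho_p : rho p R (p : WittVector p R) = 0 := by
  rw [map_natCast]
  exact natCast_p_eq_zero p R

theorem rho_frobenius (w : WittVector p R) : rho p R (frobenius w) = rho p R w ^ p := by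
  have h := constantCoeff_frobenius_sub_pow_mem w
  rw [rho_apply, rho_apply, ← map_pow, ← sub_eq_zero, ← map_sub, Ideal.Quotient.eq_zero_iff_mem]
  exact h

theorem rho_τ (n : ℕ) (w : WittVector p R) :
    rho p R (τ (frobenius : WittVector p R →+* WittVector p R) n w) = rho p R w ^ p ^ (n + 1) := by
  induction n generalizing w with
  | zero =>
    show rho p R (frobenius w) = _
    rw [rho_frobenius, zero_add, pow_one]
  | succ n ih =>
    show rho p R (frobenius (τ (frobenius : WittVector p R →+* WittVector p R) n w)) = _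
    rw [rho_frobenius, ih, ← pow_mul, ← pow_succ]

theorem mem_J_iff (w : WittVector p R) :
    w ∈ IV p R ⊔ Ideal.span {(p : WittVector p R)} ↔ rho p R w = 0 := by
  constructor
  · intro hw
    obtain ⟨a, ha, b, hb, rfl⟩ := Submodule.mem_sup.mp hw
    obtain ⟨a', rfl⟩ := (Groth.Agent.Lib.Helper22.mem_IV_iff' a).mp ha
    obtain ⟨c, rfl⟩ := Ideal.mem_span_singleton'.mp hb
    rw [map_add, map_mul, rho_p, mul_zero, add_zero, rho_apply]
    have : constantCoeff (verschiebung a') = 0 := verschiebung_coeff_zero a'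
    rw [this, map_zero]
  · intro hw
    rw [rho_apply, Ideal.Quotient.eq_zero_iff_mem] at hw
    have h1 := mem_sup_of_constantCoeff_mem w hw
    have hle : RingHom.ker (constantCoeff : WittVector p R →+* R) ≤ IV p R := by
      intro x hx
      obtain ⟨y, rfl⟩ := (Groth.Agent.Lib.Helper22.mem_ker_constantCoeff_iff x).mp hx
      exact verschiebung_mem_IV p R y
    exact (sup_le_sup_right hle (Ideal.span {(p : WittVector p R)})) h1

end Rho

section TwProd

variable {K : Type*} [CommRing K] (q : ℕ) {I : Type*} [Fintype I] [DecidableEq I]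

/-- the twisted power `X^(q^(N-1)) ⋯ X^(q) X` (entrywise powers) -/
def twProd (X : Matrix I I K) : ℕ → Matrix I I K
  | 0 => 1
  | N + 1 => X.map (fun x => x ^ q ^ N) * twProd X N

theorem twProd_succ (X : Matrix I I K) (N : ℕ) :
    twProd q X (N + 1) = X.map (fun x => x ^ q ^ N) * twProd q X N := rfl

theorem list_prod_eq_twProd (X : Matrix I I K) (N : ℕ) :
    ((List.range N).reverse.map fun i : ℕ => X.map fun x => x ^ q ^ i).prod = twProd q X N := by
  induction N with
  | zero => rfl
  | succ N ih =>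
    rw [List.range_succ, List.reverse_append, List.reverse_singleton, List.singleton_append,
      List.map_cons, List.prod_cons, ih, twProd_succ]

theorem twProd_one (X : Matrix I I K) : twProd q X 1 = X := by
  rw [twProd_succ]
  show X.map (fun x => x ^ q ^ 0) * 1 = X
  rw [mul_one]
  ext i j
  simp

variable {q}

theorem add_pow_q (hq : q.Prime) (hq0 : (q : K) = 0) (a b : K) : (a + b) ^ q = a ^ q + b ^ q := by
  obtain ⟨r, hr⟩ := exists_add_pow_prime_eq hq a b
  rw [hr, hq0]
  ring

theorem sum_pow_q (hq : q.Prime) (hq0 : (q : K) = 0) {ι : Type*} (s : Finset ι) (f : ι → K) :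
    (∑ i ∈ s, f i) ^ q = ∑ i ∈ s, f i ^ q := by
  classical
  induction s using Finset.induction_on with
  | empty => simp [hq.ne_zero]
  | insert a s ha ih => rw [Finset.sum_insert ha, Finset.sum_insert ha, add_pow_q hq hq0, ih]

omit [DecidableEq I] in
theorem map_pow_mul (hq : q.Prime) (hq0 : (q : K) = 0) (X Y : Matrix I I K) :
    (X * Y).map (fun x => x ^ q) = X.map (fun x => x ^ q) * Y.map (fun x => x ^ q) := by
  ext i j
  simp only [Matrix.map_apply, Matrix.mul_apply]
  rw [sum_pow_q hq hq0]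
  refine Finset.sum_congr rfl fun k _ => ?_
  rw [mul_pow]

theorem map_pow_twProd (hq : q.Prime) (hq0 : (q : K) = 0) (X : Matrix I I K) (N : ℕ) :
    (twProd q X N).map (fun x => x ^ q) = twProd q (X.map (fun x => x ^ q)) N := by
  induction N with
  | zero =>
    show (1 : Matrix I I K).map (fun x => x ^ q) = 1
    exact Matrix.map_one _ (zero_pow hq.ne_zero : (0 : K) ^ q = 0) (one_pow _ : (1 : K) ^ q = 1)
  | succ N ih =>
    rw [twProd_succ, twProd_succ, map_pow_mul hq hq0, ih]
    congr 1
    ext i j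
    simp only [Matrix.map_apply]
    rw [← pow_mul, ← pow_mul, mul_comm]

/-- block structure of the twisted powers -/
theorem twProd_fromBlocks {ιT ιL : Type*} [Fintype ιT] [Fintype ιL] [DecidableEq ιT] [DecidableEq ιL]
    (hq : q ≠ 0) (D : Matrix ιL ιT K) (B : Matrix ιL ιL K) (N : ℕ) :
    twProd q (Matrix.fromBlocks (0 : Matrix ιT ιT K) (0 : Matrix ιT ιL K) D B) (N + 1) =
      Matrix.fromBlocks 0 0 (twProd q (B.map (fun x => x ^ q)) N * D) (twProd q B (N + 1)) := by
  induction N with
  | zero =>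
    rw [twProd_one, twProd_one]
    show _ = Matrix.fromBlocks 0 0 ((1 : Matrix ιL ιL K) * D) B
    rw [Matrix.one_mul]
  | succ N ih =>
    rw [twProd_succ, ih, Matrix.fromBlocks_map, Matrix.fromBlocks_multiply]
    have hz : (0 : K) ^ q ^ (N + 1) = 0 := zero_pow (pow_ne_zero _ hq)
    have h1 : ((0 : Matrix ιT ιT K).map fun x => x ^ q ^ (N + 1)) = 0 := Matrix.map_zero _ hz
    have h2 : ((0 : Matrix ιT ιL K).map fun x => x ^ q ^ (N + 1)) = 0 := Matrix.map_zero _ hz
    rw [h1, h2]
    simp only [Matrix.zero_mul, Matrix.mul_zero, add_zero, zero_add]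
    have h3 : (B.map fun x => x ^ q ^ (N + 1)) = ((B.map fun x => x ^ q).map fun x => x ^ q ^ N) := by
      ext i j
      simp only [Matrix.map_apply]
      rw [← pow_mul, pow_succ q N, mul_comm]
    rw [twProd_succ q (B.map fun x => x ^ q) N, twProd_succ q B (N + 1), Matrix.mul_assoc, h3]

end TwProd

section Iterates

variable {p : ℕ} [Fact p.Prime] {R : Type u} [CommRing R]
  {P : Type v} [AddCommGroup P] [Module (WittVector p R) P]
  {I : Type w} [Fintype I] [DecidableEq I] (e : Module.Basis I (WittVector p R) P)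
  (Vs : P →ₗ[WittVector p R] BC (frobenius : WittVector p R →+* WittVector p R) P)

/-- the matrix of the coordinates modulo `I_R + p W` of the iterate `V^{(n+1)#}` -/
noncomputable def Cn (n : ℕ) : Matrix I I (R ⧸ Ideal.span {(p : R)}) := fun m i =>
  rho p R (coordB e (τ (frobenius : WittVector p R →+* WittVector p R) n) m
    (iter (frobenius : WittVector p R →+* WittVector p R) Vs n (e i)))

omit [DecidableEq I] in
theorem Cn_zero_add (m : ℕ) (i' i : I) :
    Cn e Vs (0 + (m + 1)) i' i =
      ∑ j, Cn e Vs m j i * (Cn e Vs 0 i' j) ^ p ^ (m + 1) := by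
  show rho p R (coordB e (τ (frobenius : WittVector p R →+* WittVector p R) (0 + (m + 1))) i'
    (iter (frobenius : WittVector p R →+* WittVector p R) Vs (0 + (m + 1)) (e i))) = _
  rw [iter_add (frobenius : WittVector p R →+* WittVector p R) Vs m 0 (e i), coordB_castHom,
    coordB_inner, map_sum]
  refine Finset.sum_congr rfl fun j _ => ?_
  rw [map_mul, rho_τ]
  rfl

theorem Cn_succ (m : ℕ) :
    Cn e Vs (m + 1) = (Cn e Vs 0).map (fun x => x ^ p ^ (m + 1)) * Cn e Vs m := by
  ext i' i
  have h := Cn_zero_add e Vs m i' i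
  rw [Nat.zero_add] at h
  rw [h, Matrix.mul_apply]
  refine Finset.sum_congr rfl fun j _ => ?_
  rw [Matrix.map_apply, mul_comm]

theorem Cn_eq_twProd (n : ℕ) : Cn e Vs n = twProd p (Cn e Vs 0) (n + 1) := by
  induction n with
  | zero => rw [twProd_one]
  | succ n ih => rw [Cn_succ, ih, twProd_succ p (Cn e Vs 0) (n + 1)]

omit [DecidableEq I] in
theorem forall_mem_iff (n : ℕ) :
    (∀ x : P, vSharpPow Vs n x ∈ (IV p R ⊔ Ideal.span {(p : WittVector p R)}) •
      (⊤ : Submodule (WittVector p R)
        (BC ((frobenius : WittVector p R →+* WittVector p R) ^ (n + 1)) P))) ↔ Cn e Vs n = 0 := by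
  have key : ∀ x : P, (vSharpPow Vs n x ∈ (IV p R ⊔ Ideal.span {(p : WittVector p R)}) •
      (⊤ : Submodule (WittVector p R)
        (BC ((frobenius : WittVector p R →+* WittVector p R) ^ (n + 1)) P))) ↔
      ∀ m, rho p R (coordB e (τ (frobenius : WittVector p R →+* WittVector p R) n) m
        (iter (frobenius : WittVector p R →+* WittVector p R) Vs n x)) = 0 := by
    intro x
    rw [vSharpPow_eq_iter, castHom_mem_smul_top_iff, mem_smul_top_iff e]
    exact forall_congr' fun m => mem_J_iff p R _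
  constructor
  · intro h
    ext m i
    exact (key (e i)).mp (h (e i)) m
  · intro h x
    rw [key]
    intro m
    rw [coordB_apply_eq_sum e _ (iter (frobenius : WittVector p R →+* WittVector p R) Vs n) m x,
      map_sum]
    refine Finset.sum_eq_zero fun j _ => ?_
    rw [map_mul]
    have : rho p R (coordB e (τ (frobenius : WittVector p R →+* WittVector p R) n) m
        (iter (frobenius : WittVector p R →+* WittVector p R) Vs n (e j))) = 0 :=
      congrFun (congrFun h m) j
    rw [this, mul_zero]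

theorem isVNilpotent_iff : IsVNilpotent Vs ↔ ∃ n, Cn e Vs n = 0 := by
  unfold IsVNilpotent
  exact exists_congr fun n => forall_mem_iff e Vs n

end Iterates

section CZero

variable {p : ℕ} [Fact p.Prime] {R : Type u} [CommRing R]
  {P : Type v} [AddCommGroup P] [Module (WittVector p R) P]
  {ιT ιL : Type w} [Fintype ιT] [Fintype ιL] [DecidableEq ιT] [DecidableEq ιL]
  (e : Module.Basis (ιT ⊕ ιL) (WittVector p R) P) (Φe : ιT ⊕ ιL → P)
  (α β : Matrix (ιT ⊕ ιL) (ιT ⊕ ιL) (WittVector p R)) (hαβ : α * β = 1)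
  (hΦ : ∀ j, Φe j = ∑ i, α i j • e i)
  (Vs : P →ₗ[WittVector p R] BC (frobenius : WittVector p R →+* WittVector p R) P)
  (hVsT : ∀ (w : WittVector p R) (a : ιT), Vs (w • Φe (Sum.inl a)) =
    (p : WittVector p R) • BC.tmul (frobenius : WittVector p R →+* WittVector p R) w (e (Sum.inl a)))
  (hVsL : ∀ (w : WittVector p R) (k : ιL), Vs (w • Φe (Sum.inr k)) =
    BC.tmul (frobenius : WittVector p R →+* WittVector p R) w (e (Sum.inr k)))

include hαβ hΦ in
theorem e_eq_sum (i : ιT ⊕ ιL) : e i = ∑ j, β j i • Φe j := by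
  simp_rw [hΦ, Finset.smul_sum, smul_smul]
  rw [Finset.sum_comm]
  have h1 : ∀ k, ∑ j, (β j i * α k j) • e k = (if k = i then (1 : WittVector p R) else 0) • e k := by
    intro k
    rw [← Finset.sum_smul]
    congr 1
    have := congrFun (congrFun hαβ k) i
    rw [Matrix.mul_apply, Matrix.one_apply] at this
    rw [← this]
    refine Finset.sum_congr rfl fun j _ => mul_comm _ _
  simp_rw [h1]
  simp

theorem coord_self (m j : ιT ⊕ ιL) :
    e.coord m (e j) = if j = m then (1 : WittVector p R) else 0 := by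
  rw [Module.Basis.coord_apply, Module.Basis.repr_self, Finsupp.single_apply]

include hαβ hΦ hVsT hVsL in
theorem rho_coordB_Vs (m i : ιT ⊕ ιL) :
    rho p R (coordB e (frobenius : WittVector p R →+* WittVector p R) m (Vs (e i))) =
      ∑ k : ιL, rho p R (β (Sum.inr k) i) * (if (Sum.inr k : ιT ⊕ ιL) = m then 1 else 0) := by
  have h1 : Vs (e i) = ∑ j, Vs (β j i • Φe j) := by
    conv_lhs => rw [e_eq_sum e Φe α β hαβ hΦ i]
    rw [map_sum]
  rw [h1, Fintype.sum_sum_type, map_add, map_add, map_sum, map_sum, map_sum, map_sum]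
  have h2 : ∀ a : ιT, rho p R (coordB e (frobenius : WittVector p R →+* WittVector p R) m
      (Vs (β (Sum.inl a) i • Φe (Sum.inl a)))) = 0 := by
    intro a
    rw [hVsT, map_smul, smul_eq_mul, map_mul, rho_p, zero_mul]
  have h3 : ∀ k : ιL, rho p R (coordB e (frobenius : WittVector p R →+* WittVector p R) m
      (Vs (β (Sum.inr k) i • Φe (Sum.inr k)))) =
      rho p R (β (Sum.inr k) i) * (if (Sum.inr k : ιT ⊕ ιL) = m then 1 else 0) := by
    intro k
    rw [hVsL, coordB_tmul, coord_self, map_mul]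
    congr 1
    split_ifs
    · rw [map_one, map_one]
    · rw [map_zero, map_zero]
  simp_rw [h2, h3]
  rw [Finset.sum_const_zero, zero_add]

include hαβ hΦ hVsT hVsL in
theorem C0_inl (a : ιT) (i : ιT ⊕ ιL) : Cn e Vs 0 (Sum.inl a) i = 0 := by
  show rho p R (coordB e (frobenius : WittVector p R →+* WittVector p R) (Sum.inl a) (Vs (e i))) = 0
  rw [rho_coordB_Vs e Φe α β hαβ hΦ Vs hVsT hVsL]
  refine Finset.sum_eq_zero fun k _ => ?_
  rw [if_neg (by simp), mul_zero]

include hαβ hΦ hVsT hVsL in
theorem C0_inr (k : ιL) (i : ιT ⊕ ιL) : Cn e Vs 0 (Sum.inr k) i = rho p R (β (Sum.inr k) i) := by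
  show rho p R (coordB e (frobenius : WittVector p R →+* WittVector p R) (Sum.inr k) (Vs (e i))) = _
  rw [rho_coordB_Vs e Φe α β hαβ hΦ Vs hVsT hVsL, Finset.sum_eq_single k]
  · rw [if_pos rfl, mul_one]
  · intro k' _ hk'
    rw [if_neg (by simpa using hk'), mul_zero]
  · intro h
    exact absurd (Finset.mem_univ k) h

include hαβ hΦ hVsT hVsL in
theorem C0_eq_fromBlocks :
    Cn e Vs 0 = Matrix.fromBlocks 0 0
      (Matrix.of fun (k : ιL) (a : ιT) => rho p R (β (Sum.inr k) (Sum.inl a)))
      (Matrix.of fun (k l : ιL) => rho p R (β (Sum.inr k) (Sum.inr l))) := by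
  ext m i
  rcases m with a | k
  · rw [C0_inl e Φe α β hαβ hΦ Vs hVsT hVsL]
    rcases i with b | l <;> rfl
  · rw [C0_inr e Φe α β hαβ hΦ Vs hVsT hVsL]
    rcases i with b | l <;> rfl

end CZero

section Main

theorem isDisplay_iff (p : ℕ) [Fact p.Prime] (R : Type u) [CommRing R]
    (hR : ∀ ℓ : ℕ, ℓ.Prime → ℓ ≠ p → IsUnit (ℓ : R)) (hp : IsNilpotent (p : R))
    (P : Type v) [AddCommGroup P] [Module (WittVector p R) P] (D : W4c1extbt610.Display3n p R P)
    (L T : Submodule (WittVector p R) P) (hLT : IsCompl L T)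
    (hLQ : L ≤ D.Q)
    (ιT ιL : Type w) [Fintype ιT] [Fintype ιL] [DecidableEq ιT] [DecidableEq ιL]
    (bT : Module.Basis ιT (WittVector p R) T) (bL : Module.Basis ιL (WittVector p R) L)
    (α β : Matrix (ιT ⊕ ιL) (ιT ⊕ ιL) (WittVector p R)) (hαβ : α * β = 1)
    (hF : ∀ j : ιT, D.F (bT j : P) =
      Finset.univ.sum fun i : ιT ⊕ ιL => α i (Sum.inl j) •
        Sum.elim (fun a : ιT => (bT a : P)) (fun a : ιL => (bL a : P)) i)
    (hV : ∀ k : ιL, D.Vinv ⟨(bL k : P), hLQ (bL k).2⟩ =
      Finset.univ.sum fun i : ιT ⊕ ιL => α i (Sum.inr k) •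
        Sum.elim (fun a : ιT => (bT a : P)) (fun a : ιL => (bL a : P)) i) :
    Dieu.IsDisplay D ↔
      ∃ N : ℕ, 0 < N ∧
        (((List.range N).reverse.map fun i : ℕ =>
            (Matrix.of fun k l : ιL =>
                Ideal.Quotient.mk (Ideal.span {(p : R)})
                  (WittVector.constantCoeff (β (Sum.inr k) (Sum.inr l)))).map
              fun x : R ⧸ Ideal.span {(p : R)} => x ^ p ^ i).prod
          = 0) := by
  -- the basis of `P`
  let e : Module.Basis (ιT ⊕ ιL) (WittVector p R) P :=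
    (bT.prod bL).map (Submodule.prodEquivOfIsCompl T L hLT.symm)
  have he : ∀ i, e i = Sum.elim (fun a : ιT => (bT a : P)) (fun a : ιL => (bL a : P)) i := by
    intro i
    show Submodule.prodEquivOfIsCompl T L hLT.symm ((bT.prod bL) i) = _
    rw [Submodule.coe_prodEquivOfIsCompl', Module.Basis.prod_apply]
    rcases i with a | k
    · simp
    · simp
  let Φe : ιT ⊕ ιL → P :=
    Sum.elim (fun j : ιT => D.F (bT j : P)) (fun k : ιL => D.Vinv ⟨(bL k : P), hLQ (bL k).2⟩)
  have hΦ : ∀ j, Φe j = ∑ i, α i j • e i := by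
    intro j
    simp_rw [he]
    rcases j with a | k
    · exact hF a
    · exact hV k
  have hVsT : ∀ (Vs : P →ₗ[WittVector p R] BC (frobenius : WittVector p R →+* WittVector p R) P),
      IsVSharp D Vs → ∀ (w : WittVector p R) (a : ιT), Vs (w • Φe (Sum.inl a)) =
        (p : WittVector p R) •
          BC.tmul (frobenius : WittVector p R →+* WittVector p R) w (e (Sum.inl a)) := by
    intro Vs hVs w a
    rw [he]
    exact hVs.app_smul_F w (bT a : P)
  have hVsL : ∀ (Vs : P →ₗ[WittVector p R] BC (frobenius : WittVector p R →+* WittVector p R) P),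
      IsVSharp D Vs → ∀ (w : WittVector p R) (k : ιL), Vs (w • Φe (Sum.inr k)) =
        BC.tmul (frobenius : WittVector p R →+* WittVector p R) w (e (Sum.inr k)) := by
    intro Vs hVs w k
    rw [he]
    exact hVs.app_smul_Vinv w ⟨(bL k : P), hLQ (bL k).2⟩
  set Bm : Matrix ιL ιL (R ⧸ Ideal.span {(p : R)}) :=
    Matrix.of fun k l : ιL => Ideal.Quotient.mk (Ideal.span {(p : R)})
      (WittVector.constantCoeff (β (Sum.inr k) (Sum.inr l))) with hBm
  let Dm : Matrix ιL ιT (R ⧸ Ideal.span {(p : R)}) :=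
    Matrix.of fun (k : ιL) (a : ιT) => rho p R (β (Sum.inr k) (Sum.inl a))
  have hC0 : ∀ (Vs : P →ₗ[WittVector p R] BC (frobenius : WittVector p R →+* WittVector p R) P),
      IsVSharp D Vs → Cn e Vs 0 = Matrix.fromBlocks 0 0 Dm Bm := fun Vs hVs =>
    C0_eq_fromBlocks e Φe α β hαβ hΦ Vs (hVsT Vs hVs) (hVsL Vs hVs)
  have hpne : p ≠ 0 := (Fact.out : p.Prime).ne_zero
  simp_rw [list_prod_eq_twProd]
  constructor
  · rintro ⟨Vs, hVs, hnil⟩
    obtain ⟨n, hn⟩ := (isVNilpotent_iff e Vs).mp hnil
    rw [Cn_eq_twProd, hC0 Vs hVs, twProd_fromBlocks hpne, ← Matrix.fromBlocks_zero,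
      Matrix.fromBlocks_inj] at hn
    exact ⟨n + 1, Nat.succ_pos n, hn.2.2.2⟩
  · rintro ⟨N, _, hN⟩
    obtain ⟨Vs, hVs⟩ := (Groth.Agent.S16535.result p R hR hp P D).exists
    refine ⟨Vs, hVs, (isVNilpotent_iff e Vs).mpr ⟨N, ?_⟩⟩
    rw [Cn_eq_twProd, hC0 Vs hVs, twProd_fromBlocks hpne,
      ← map_pow_twProd (Fact.out : p.Prime) (natCast_p_eq_zero p R), twProd_succ, hN,
      Matrix.mul_zero, Matrix.map_zero _ (zero_pow hpne : (0 : R ⧸ Ideal.span {(p : R)}) ^ p = 0),
      Matrix.zero_mul, Matrix.fromBlocks_zero]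

end Main

end Groth.Agent.Lib.Seat78.DispMatrix
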