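import Groth.Agent.Lib.Helper14Disp2

/-!
# The nilpotent operator `ω ↦ Θ^# ∘ (1 ⊗ ω) ∘ V^#` on `Hom(P, N)` (seat 78)

For a display `D` on `P` (with `V^# = Vs` satisfying the nilpotence condition), a `W`-module `N`
killed by `I_R + pW` and a Frobenius-semilinear endomorphism `Θ` of `N`, the operator
`U ω = (Θ ∘ ω)^# ∘ V^#` on `Hom_W(P, N)` is nilpotent.  Consequences: a linear `ω` with
`ω (V⁻¹ y) = Θ (ω y)` on `Q` vanishes, and `ω - U ω = Δ` is solvable for every `Δ`.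
(Zink, rigidity / deformation of homomorphisms of displays; used for S16543, S16544.)
-/

set_option autoImplicit false
universe u v w
open Dieu TensorProduct

namespace Groth.Agent.Lib.Seat78.DispNil

open Groth.Agent.Lib.Helper14.Disp

section general
variable {A : Type u} [CommRing A] (σ : A →+* A)
variable {P : Type v} [AddCommGroup P] [Module A P]
variable {N : Type w} [AddCommGroup N] [Module A N]

/-- composition of semilinear maps along `σ ∘ ρ`. -/
local instance instCompTriple (ρ : A →+* A) : RingHomCompTriple ρ σ (σ.comp ρ) := ⟨rfl⟩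

/-- `(Θ ∘ g)^# ∘ push = Θ ∘ g^#`. -/
theorem lift_comp_push (ρ : A →+* A) (g : P →ₛₗ[ρ] N) (Θ : N →ₛₗ[σ] N) (v : BC ρ P) :
    BC.lift (σ.comp ρ) (Θ.comp g) (BC.push ρ σ v) = Θ (BC.lift ρ g v) := by
  induction v using BC.induction_on ρ with
  | zero => rw [map_zero, map_zero, map_zero, map_zero]
  | tmul c x =>
    rw [BC.push_tmul, BC.lift_tmul, BC.lift_tmul, LinearMap.comp_apply, Θ.map_smulₛₗ]
  | add z₁ z₂ h₁ h₂ => rw [map_add, map_add, map_add, map_add, h₁, h₂]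

/-- the iterates of a `σ`-semilinear endomorphism, `τ σ n`-semilinear. -/
noncomputable def Θpow (Θ : N →ₛₗ[σ] N) : (n : ℕ) → (N →ₛₗ[τ σ n] N)
  | 0 => Θ
  | n + 1 => Θ.comp (Θpow Θ n)

/-- the operator `U ω = (Θ ∘ ω)^# ∘ V^#`. -/
noncomputable def U (Θ : N →ₛₗ[σ] N) (Vs : P →ₗ[A] BC σ P) :
    (P →ₗ[A] N) →+ (P →ₗ[A] N) where
  toFun ω := (BC.lift σ (Θ.comp ω)).comp Vs
  map_zero' := by
    ext x
    rw [LinearMap.comp_apply, LinearMap.zero_apply]
    have : BC.lift σ (Θ.comp (0 : P →ₗ[A] N)) = 0 := by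
      apply BC.ext
      intro y
      rw [BC.lift_tmul, LinearMap.comp_apply, LinearMap.zero_apply, map_zero, smul_zero,
        LinearMap.zero_apply]
    rw [this, LinearMap.zero_apply]
  map_add' ω₁ ω₂ := by
    ext x
    rw [LinearMap.comp_apply, LinearMap.add_apply, LinearMap.comp_apply, LinearMap.comp_apply]
    have : BC.lift σ (Θ.comp (ω₁ + ω₂)) = BC.lift σ (Θ.comp ω₁) + BC.lift σ (Θ.comp ω₂) := by
      apply BC.ext
      intro y
      rw [LinearMap.add_apply, BC.lift_tmul, BC.lift_tmul, BC.lift_tmul, LinearMap.comp_apply,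
        LinearMap.comp_apply, LinearMap.comp_apply, LinearMap.add_apply, map_add, smul_add]
    rw [this, LinearMap.add_apply]

theorem U_apply (Θ : N →ₛₗ[σ] N) (Vs : P →ₗ[A] BC σ P) (ω : P →ₗ[A] N) (x : P) :
    U σ Θ Vs ω x = BC.lift σ (Θ.comp ω) (Vs x) := rfl

/-- `U^(n+1) ω = (Θ^(n+1) ∘ ω)^# ∘ V^{(n+1)#}`. -/
theorem U_iterate (Θ : N →ₛₗ[σ] N) (Vs : P →ₗ[A] BC σ P) (n : ℕ) (ω : P →ₗ[A] N) (x : P) :
    ((U σ Θ Vs)^[n + 1]) ω x =
      BC.lift (τ σ n) ((Θpow σ Θ n).comp ω) (iter σ Vs n x) := by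
  induction n generalizing x with
  | zero => rfl
  | succ n ih =>
    rw [Function.iterate_succ_apply', U_apply]
    change _ = BC.lift (σ.comp (τ σ n)) _ (inner σ (τ σ n) (iter σ Vs n) (Vs x))
    generalize Vs x = z
    induction z using BC.induction_on σ with
    | zero => rw [map_zero, map_zero, map_zero]
    | tmul b y =>
      rw [BC.lift_tmul, Groth.Agent.Lib.Helper14.Disp.inner_tmul, map_smul, LinearMap.comp_apply, ih y]
      congr 1
      exact (lift_comp_push σ (τ σ n) ((Θpow σ Θ n).comp ω) Θ (iter σ Vs n y)).symm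
    | add z₁ z₂ h₁ h₂ => rw [map_add, map_add, map_add, h₁, h₂]

end general

section display
variable {p : ℕ} [Fact p.Prime] {R : Type u} [CommRing R]
variable {P : Type v} [AddCommGroup P] [Module (WittVector p R) P]
variable {N : Type w} [AddCommGroup N] [Module (WittVector p R) N]

local notation "σ" => (WittVector.frobenius : WittVector p R →+* WittVector p R)

/-- nilpotence of `U` on `Hom(P, N)` when `N` is killed by `I_R + pW`. -/
theorem exists_U_iterate_eq_zero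
    (Vs : P →ₗ[WittVector p R] BC σ P) (hnil : IsVNilpotent Vs)
    (hN : ∀ a ∈ W4c1extbt610.IV p R ⊔ Ideal.span {(p : WittVector p R)}, ∀ x : N, a • x = 0)
    (Θ : N →ₛₗ[σ] N) :
    ∃ n : ℕ, ∀ ω : P →ₗ[WittVector p R] N, ((U σ Θ Vs)^[n + 1]) ω = 0 := by
  obtain ⟨n, hn⟩ := hnil
  refine ⟨n, fun ω => ?_⟩
  ext x
  rw [U_iterate, LinearMap.zero_apply]
  have h1 := hn x
  rw [vSharpPow_eq_iter, castHom_mem_smul_top_iff] at h1
  refine Submodule.smul_induction_on h1 ?_ ?_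
  · intro a ha z _
    rw [map_smul]
    exact hN a ha _
  · intro z₁ z₂ h₁ h₂
    rw [map_add, h₁, h₂, add_zero]

/-- rigidity: a linear map `ω : P → N` with `ω ∘ V⁻¹ = Θ ∘ ω` on `Q` vanishes. -/
theorem eq_zero_of_comm (D : W4c1extbt610.Display3n p R P)
    (Vs : P →ₗ[WittVector p R] BC σ P) (hVs : IsVSharp D Vs) (hnil : IsVNilpotent Vs)
    (hN : ∀ a ∈ W4c1extbt610.IV p R ⊔ Ideal.span {(p : WittVector p R)}, ∀ x : N, a • x = 0)
    (Θ : N →ₛₗ[σ] N) (ω : P →ₗ[WittVector p R] N)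
    (h : ∀ y : D.Q, ω (D.Vinv y) = Θ (ω y)) : ω = 0 := by
  have hfix : U σ Θ Vs ω = ω := by
    refine LinearMap.ext_on D.span_range_Vinv ?_
    rintro _ ⟨y, rfl⟩
    have h1 := hVs.app_smul_Vinv 1 y
    rw [one_smul] at h1
    rw [U_apply, h1, BC.lift_tmul, one_smul, LinearMap.comp_apply, h y]
  obtain ⟨n, hn⟩ := exists_U_iterate_eq_zero Vs hnil hN Θ
  rw [← Function.iterate_fixed hfix (n + 1), hn ω]

/-- solvability of `ω - U ω = Δ`. -/
theorem exists_sub_U_eq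
    (Vs : P →ₗ[WittVector p R] BC σ P) (hnil : IsVNilpotent Vs)
    (hN : ∀ a ∈ W4c1extbt610.IV p R ⊔ Ideal.span {(p : WittVector p R)}, ∀ x : N, a • x = 0)
    (Θ : N →ₛₗ[σ] N) (Δ : P →ₗ[WittVector p R] N) :
    ∃ ω : P →ₗ[WittVector p R] N, ω - U σ Θ Vs ω = Δ := by
  obtain ⟨n, hn⟩ := exists_U_iterate_eq_zero Vs hnil hN Θ
  refine ⟨∑ i ∈ Finset.range (n + 1), ((U σ Θ Vs)^[i]) Δ, ?_⟩
  rw [map_sum]
  have h1 : ∀ i, U σ Θ Vs (((U σ Θ Vs)^[i]) Δ) = ((U σ Θ Vs)^[i + 1]) Δ := fun i =>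
    (Function.iterate_succ_apply' _ _ _).symm
  simp only [h1]
  rw [Finset.sum_range_succ' (fun i => ((U σ Θ Vs)^[i]) Δ),
    Finset.sum_range_succ (fun i => ((U σ Θ Vs)^[i + 1]) Δ), hn Δ, Function.iterate_zero, id]
  abel

/-- in the situation of `eq_zero_of_comm`: `U ω (V⁻¹ y) = Θ (ω y)`. -/
theorem U_apply_Vinv (D : W4c1extbt610.Display3n p R P)
    (Vs : P →ₗ[WittVector p R] BC σ P) (hVs : IsVSharp D Vs)
    (Θ : N →ₛₗ[σ] N) (ω : P →ₗ[WittVector p R] N) (y : D.Q) :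
    U σ Θ Vs ω (D.Vinv y) = Θ (ω y) := by
  have h1 := hVs.app_smul_Vinv 1 y
  rw [one_smul] at h1
  rw [U_apply, h1, BC.lift_tmul, one_smul, LinearMap.comp_apply]

end display

end Groth.Agent.Lib.Seat78.DispNil
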