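import Groth.Agent.Lib.Seat78DispTheta

/-!
# Rigidity of homomorphisms of displays (seat 78)

`hom_eq_zero`: let `p` be nilpotent in `S`, `𝔞 ≤ 𝔪` ideals with `p ∈ 𝔪` and `𝔪` nilpotent.  A
homomorphism of 3n-displays `α : D → D'` over `S`, `D` a display, with values in `W(𝔞) P'`, is zero
(Zink, *The display of a formal p-divisible group*, Proposition 40, injectivity).
Also: `W(R)` has no `p`-torsion for reduced `R` with `p = 0`.
-/

set_option autoImplicit false
set_option linter.unusedSectionVars false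
set_option linter.style.haveILetI false
universe u v
open Dieu

namespace Groth.Agent.Lib.Seat78.DispRigid

open W4c1extbt610 WittVector Groth.Agent.Lib.Seat78.WittSqZero Groth.Agent.Lib.Seat78.DispNil
  Groth.Agent.Lib.Seat78.DispTheta

variable {p : ℕ} [hp : Fact p.Prime] {S : Type u} [CommRing S]

/-- the chain `𝔪^k 𝔞` gives shift pairs. -/
theorem shiftPair_chain (𝔪 𝔞 : Ideal S) (h𝔞 : 𝔞 ≤ 𝔪) (hp𝔪 : (p : S) ∈ 𝔪) (k : ℕ) :
    ShiftPair (wIdeal (𝔪 ^ k * 𝔞) : Ideal (WittVector p S)) (wIdeal (𝔪 ^ (k + 1) * 𝔞)) := by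
  refine shiftPair_wIdeal _ _ ?_ ?_ ?_
  · rw [pow_succ]
    have h1 : 𝔪 ^ k * 𝔪 ≤ 𝔪 ^ k := Ideal.mul_le_left
    exact Ideal.mul_mono_left h1
  · intro x hx y hy
    have h1 : 𝔪 ^ k * 𝔞 ≤ 𝔪 ^ k * 𝔪 := Ideal.mul_mono_right h𝔞
    have hx' : x ∈ 𝔪 ^ (k + 1) := by
      rw [pow_succ]
      exact h1 hx
    have h2 : 𝔪 ^ k * 𝔞 ≤ 𝔞 := Ideal.mul_le_right
    have hy' : y ∈ 𝔞 := h2 hy
    exact Ideal.mul_mem_mul hx' hy'
  · intro x hx
    have h1 : (p : S) * x ∈ 𝔪 * (𝔪 ^ k * 𝔞) := Ideal.mul_mem_mul hp𝔪 hx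
    rwa [← mul_assoc, ← pow_succ'] at h1

variable {P P' : Type v} [AddCommGroup P] [Module (WittVector p S) P]
  [AddCommGroup P'] [Module (WittVector p S) P']

/-- **rigidity** (Zink, Proposition 40, injectivity). -/
theorem hom_eq_zero (𝔪 𝔞 : Ideal S) (h𝔞 : 𝔞 ≤ 𝔪) (hp𝔪 : (p : S) ∈ 𝔪) (h𝔪 : IsNilpotent 𝔪)
    (D : Display3n p S P) (D' : Display3n p S P') (hD : IsDisplay D)
    (α : P →ₗ[WittVector p S] P') (hα : IsHom D D' α)
    (h : ∀ x, α x ∈ (wIdeal 𝔞 : Ideal (WittVector p S)) • (⊤ : Submodule (WittVector p S) P')) :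
    α = 0 := by
  obtain ⟨Vs, hVs, hnil⟩ := hD
  have hk : ∀ k : ℕ, ∀ x, α x ∈
      (wIdeal (𝔪 ^ k * 𝔞) : Ideal (WittVector p S)) • (⊤ : Submodule (WittVector p S) P') := by
    intro k
    induction k with
    | zero =>
      intro x
      rw [pow_zero, one_mul]
      exact h x
    | succ k ih =>
      exact step_inj (shiftPair_chain 𝔪 𝔞 h𝔞 hp𝔪 k) D D' Vs hVs hnil α hα ih
  obtain ⟨N, hN⟩ := h𝔪
  ext x
  have h1 := hk N x
  rw [hN, Ideal.zero_eq_bot, Ideal.bot_mul, wIdeal_bot, Submodule.bot_smul] at h1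
  rw [LinearMap.zero_apply]
  exact (Submodule.mem_bot _).1 h1

section torsion
variable {R : Type u} [CommRing R]

/-- `W(R)` has no `p`-torsion when `R` is reduced and `p = 0` in `R`. -/
theorem eq_zero_of_p_mul_eq_zero [IsReduced R] (hpR : (p : R) = 0) (x : WittVector p R)
    (hx : (p : WittVector p R) * x = 0) : x = 0 := by
  rcases subsingleton_or_nontrivial R with hR | hR
  · ext n
    exact Subsingleton.elim _ _
  · obtain ⟨q, hq⟩ := CharP.exists R
    have hqp : q ∣ p := (CharP.cast_eq_zero_iff R q p).1 hpR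
    have hq1 : q ≠ 1 := CharP.char_ne_one R q
    have hqeq : q = p := ((Nat.dvd_prime hp.out).1 hqp).resolve_left hq1
    subst hqeq
    have h1 : verschiebung (frobenius x) = 0 := by
      rw [WittVector.verschiebung_frobenius, mul_comm, hx]
    have h2 : frobenius x = 0 :=
      WittVector.verschiebung_injective q R (by rw [h1, map_zero])
    rw [WittVector.frobenius_eq_map_frobenius] at h2
    exact WittVector.map_injective _ (frobenius_inj R q) (by rw [h2, map_zero])

end torsion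

/-- a `p`-torsion element of a finite projective `W(S)`-module lies in `W(nil S) P'`. -/
theorem mem_wIdeal_nilradical_smul_top (hpS : IsNilpotent (p : S))
    [Module.Finite (WittVector p S) P'] [Module.Projective (WittVector p S) P'] (x : P')
    (hx : (p : WittVector p S) • x = 0) :
    x ∈ (wIdeal (nilradical S) : Ideal (WittVector p S)) • (⊤ : Submodule (WittVector p S) P') := by
  obtain ⟨n, f, g, -, -, hfg⟩ := Module.Finite.exists_comp_eq_id_of_projective (WittVector p S) P'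
  refine mem_of_coord_mem f g hfg _ fun j => ?_
  have h1 : (p : WittVector p S) * g x j = 0 := by
    have h2 : g ((p : WittVector p S) • x) j = 0 := by rw [hx, map_zero, Pi.zero_apply]
    rwa [map_smul, Pi.smul_apply, smul_eq_mul] at h2
  have hpR : (p : S ⧸ nilradical S) = 0 := by
    rw [← map_natCast (Ideal.Quotient.mk (nilradical S)), Ideal.Quotient.eq_zero_iff_mem]
    exact (mem_nilradical).2 hpS
  haveI : IsReduced (S ⧸ nilradical S) := by
    rw [← Ideal.isRadical_iff_quotient_reduced]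
    exact Ideal.radical_isRadical _
  have h3 : (p : WittVector p (S ⧸ nilradical S)) *
      WittVector.map (Ideal.Quotient.mk (nilradical S)) (g x j) = 0 := by
    rw [← map_natCast (WittVector.map (Ideal.Quotient.mk (nilradical S))), ← map_mul, h1, map_zero]
  exact eq_zero_of_p_mul_eq_zero hpR _ h3

end Groth.Agent.Lib.Seat78.DispRigid
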