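import Groth.Agent.Lib.Seat78DispLin

/-!
# The lifting step for homomorphisms of displays modulo a shift pair (seat 78)

For a shift pair `(J, J')`, a 3n-display `D'` and the extension
`V̄ : Q' + J P' → P' / J' P'` of `V'⁻¹` (`V̄ (q' + e) = V'⁻¹ q' + Θ̃ e`), a homomorphism `ψ` modulo
`J` is corrected by a map `ω : P → J P'` so that `ψ + ω` commutes with `V̄` modulo `J'`; then
`p (ψ + ω)` is a homomorphism modulo `J'` (`step_lift`).  (Zink, Theorem 44 / Proposition 40.)
-/

set_option autoImplicit false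
set_option linter.unusedSectionVars false
set_option linter.style.haveILetI false
universe u v
open Dieu

namespace Groth.Agent.Lib.Seat78.DispStep

open W4c1extbt610 WittVector Groth.Agent.Lib.Seat78.WittSqZero Groth.Agent.Lib.Seat78.DispNil
  Groth.Agent.Lib.Seat78.DispTheta Groth.Agent.Lib.Seat78.DispLin

variable {p : ℕ} [hp : Fact p.Prime] {S : Type u} [CommRing S]
variable {P : Type v} [AddCommGroup P] [Module (WittVector p S) P]
variable {P' : Type v} [AddCommGroup P'] [Module (WittVector p S) P']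

local notation "σ" => (WittVector.frobenius : WittVector p S →+* WittVector p S)

section vbar
variable {J J' : Ideal (WittVector p S)} (hJ : ShiftPair J J') (D' : Display3n p S P')
variable {n : ℕ} (f : (Fin n → WittVector p S) →ₗ[WittVector p S] P')
  (g : P' →ₗ[WittVector p S] (Fin n → WittVector p S)) (hfg : f ∘ₗ g = LinearMap.id)

local notation "π'" => Submodule.mkQ (J' • (⊤ : Submodule (WittVector p S) P'))

theorem Θt_zero (F' : P' →ₛₗ[(WittVector.frobenius : WittVector p S →+* WittVector p S)] P') :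
    Θt f g F' 0 = 0 := by
  unfold Θt
  have h0 : (0 : WittVector p S).shift 1 = 0 := by
    ext k
    rw [WittVector.shift_coeff, WittVector.zero_coeff, WittVector.zero_coeff]
  simp only [map_zero, Pi.zero_apply, h0, zero_smul, Finset.sum_const_zero]

theorem exists_decomp {z : P'}
    (hz : z ∈ D'.Q ⊔ J • (⊤ : Submodule (WittVector p S) P')) :
    ∃ (q' : D'.Q) (e : P'), e ∈ J • (⊤ : Submodule (WittVector p S) P') ∧ (q' : P') + e = z := by
  obtain ⟨q, hq, e, he, h⟩ := Submodule.mem_sup.1 hz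
  exact ⟨⟨q, hq⟩, e, he, h⟩

/-- a chosen `Q'`-component of `z ∈ Q' + J P'`. -/
noncomputable def dq (z : ↥(D'.Q ⊔ J • (⊤ : Submodule (WittVector p S) P'))) : D'.Q :=
  (exists_decomp D' z.2).choose

/-- the corresponding `J P'`-component. -/
noncomputable def de (z : ↥(D'.Q ⊔ J • (⊤ : Submodule (WittVector p S) P'))) : P' :=
  (exists_decomp D' z.2).choose_spec.choose

theorem de_mem (z : ↥(D'.Q ⊔ J • (⊤ : Submodule (WittVector p S) P'))) :
    de D' z ∈ J • (⊤ : Submodule (WittVector p S) P') :=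
  (exists_decomp D' z.2).choose_spec.choose_spec.1

theorem dq_add_de (z : ↥(D'.Q ⊔ J • (⊤ : Submodule (WittVector p S) P'))) :
    (dq D' z : P') + de D' z = z :=
  (exists_decomp D' z.2).choose_spec.choose_spec.2

/-- the extension of `V'⁻¹` to `Q' + J P'`, valued in `P' / J' P'` (as a function). -/
noncomputable def vbarFun (z : ↥(D'.Q ⊔ J • (⊤ : Submodule (WittVector p S) P'))) :
    P' ⧸ J' • (⊤ : Submodule (WittVector p S) P') :=
  π' (D'.Vinv (dq D' z)) + π' (Θt f g D'.F (de D' z))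

include hJ hfg in
theorem vbarFun_eq (z : ↥(D'.Q ⊔ J • (⊤ : Submodule (WittVector p S) P'))) (q' : D'.Q) (e : P')
    (he : e ∈ J • (⊤ : Submodule (WittVector p S) P')) (h : (q' : P') + e = z) :
    vbarFun (J' := J') D' f g z = π' (D'.Vinv q') + π' (Θt f g D'.F e) := by
  have he₀ := de_mem D' z
  have h₀ := dq_add_de D' z
  unfold vbarFun
  generalize dq D' z = q₀ at *
  generalize de D' z = e₀ at *
  have hd : e - e₀ = (q₀ : P') - q' := by
    have h2 : (q' : P') + e = (q₀ : P') + e₀ := h.trans h₀.symm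
    rw [sub_eq_sub_iff_add_eq_add, add_comm e]
    exact h2
  have hdJ : e - e₀ ∈ J • (⊤ : Submodule (WittVector p S) P') := sub_mem he he₀
  have hdQ : e - e₀ ∈ D'.Q := by
    rw [hd]
    exact sub_mem q₀.2 q'.2
  have hq : q₀ = q' + ⟨e - e₀, hdQ⟩ := by
    apply Subtype.ext
    change (q₀ : P') = (q' : P') + (e - e₀)
    rw [hd]
    abel
  have h1 : e = e₀ + (e - e₀) := by abel
  rw [hq, map_add, map_add, Vinv_compat D' f g hfg hJ hdJ hdQ]
  conv_rhs => rw [h1, Θt_add f g D'.F hJ he₀ hdJ]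
  abel

/-- the extension `V̄` of `V'⁻¹` to `Q' + J P'` as a semilinear map. -/
noncomputable def vbar :
    ↥(D'.Q ⊔ J • (⊤ : Submodule (WittVector p S) P')) →ₛₗ[σ]
      (P' ⧸ J' • (⊤ : Submodule (WittVector p S) P')) where
  toFun := vbarFun D' f g
  map_add' z₁ z₂ := by
    obtain ⟨q₁, e₁, he₁, h₁⟩ := exists_decomp D' z₁.2
    obtain ⟨q₂, e₂, he₂, h₂⟩ := exists_decomp D' z₂.2
    have h12 : ((q₁ + q₂ : D'.Q) : P') + (e₁ + e₂) = ((z₁ + z₂ : _) : P') := by
      rw [Submodule.coe_add, Submodule.coe_add, ← h₁, ← h₂]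
      abel
    rw [vbarFun_eq hJ D' f g hfg (z₁ + z₂) (q₁ + q₂) (e₁ + e₂) (add_mem he₁ he₂) h12,
      vbarFun_eq hJ D' f g hfg z₁ q₁ e₁ he₁ h₁, vbarFun_eq hJ D' f g hfg z₂ q₂ e₂ he₂ h₂,
      map_add, map_add, Θt_add f g D'.F hJ he₁ he₂]
    abel
  map_smul' ξ z := by
    obtain ⟨q, e, he, h⟩ := exists_decomp D' z.2
    have hξ : ((ξ • q : D'.Q) : P') + ξ • e = ((ξ • z : _) : P') := by
      rw [Submodule.coe_smul, Submodule.coe_smul, ← h, smul_add]
    have hξe : ξ • e ∈ J • (⊤ : Submodule (WittVector p S) P') := Submodule.smul_mem _ _ he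
    rw [vbarFun_eq hJ D' f g hfg (ξ • z) (ξ • q) (ξ • e) hξe hξ,
      vbarFun_eq hJ D' f g hfg z q e he h, D'.Vinv.map_smulₛₗ, map_smul,
      Θt_smul f g D'.F hJ ξ he, map_smul, smul_add]

include hJ hfg in
theorem vbar_apply (z : ↥(D'.Q ⊔ J • (⊤ : Submodule (WittVector p S) P'))) (q' : D'.Q) (e : P')
    (he : e ∈ J • (⊤ : Submodule (WittVector p S) P')) (h : (q' : P') + e = z) :
    vbar hJ D' f g hfg z = π' (D'.Vinv q') + π' (Θt f g D'.F e) :=
  vbarFun_eq hJ D' f g hfg z q' e he h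

end vbar


section step
variable {J J' : Ideal (WittVector p S)}

theorem smul_top_mono {I I' : Ideal (WittVector p S)} (h : I' ≤ I) :
    I' • (⊤ : Submodule (WittVector p S) P') ≤ I • (⊤ : Submodule (WittVector p S) P') :=
  Submodule.smul_mono h le_rfl

theorem p_smul_mem (hJ : ShiftPair J J') {e : P'}
    (he : e ∈ J • (⊤ : Submodule (WittVector p S) P')) :
    (p : WittVector p S) • e ∈ J' • (⊤ : Submodule (WittVector p S) P') := by
  refine Submodule.smul_induction_on he ?_ ?_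
  · intro a ha x _
    rw [← mul_smul]
    exact Submodule.smul_mem_smul (hJ.p_mul_mem a ha) Submodule.mem_top
  · intro x y hx hy
    rw [smul_add]
    exact add_mem hx hy

/-- **the lifting step**: from a homomorphism modulo `J` to a homomorphism modulo `J'`, at the
cost of a factor `p`. -/
theorem step_lift (hpS : IsNilpotent (p : S)) (hJ : ShiftPair J J') (D : Display3n p S P)
    (D' : Display3n p S P')
    (Vs : P →ₗ[WittVector p S] BC σ P) (hVs : IsVSharp D Vs) (hnil : IsVNilpotent Vs)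
    (ψ : P →ₗ[WittVector p S] P') (hψ : IsHomMod D D' J ψ) :
    ∃ ψ' : P →ₗ[WittVector p S] P', IsHomMod D D' J' ψ' ∧
      ∀ x, ψ' x - (p : WittVector p S) • ψ x ∈ J • (⊤ : Submodule (WittVector p S) P') := by
  haveI := D'.finite
  haveI := D'.projective
  haveI := D.projective
  obtain ⟨n, f, g, -, -, hfg⟩ := Module.Finite.exists_comp_eq_id_of_projective (WittVector p S) P'
  -- `ψ` restricted to `Q → Q' + J P'`
  let ψQ : D.Q →ₗ[WittVector p S] ↥(D'.Q ⊔ J • (⊤ : Submodule (WittVector p S) P')) :=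
    ψ.restrict (fun y hy => hψ.mapsTo y hy)
  let κ : D.Q →ₛₗ[σ] (P' ⧸ J' • (⊤ : Submodule (WittVector p S) P')) :=
    (vbar hJ D' f g hfg).comp ψQ
  have hκ_apply : ∀ (y : D.Q) (q' : D'.Q) (e : P')
      (he : e ∈ J • (⊤ : Submodule (WittVector p S) P')) (h : (q' : P') + e = ψ y),
      κ y = Submodule.mkQ (J' • (⊤ : Submodule (WittVector p S) P')) (D'.Vinv q') +
        Submodule.mkQ (J' • (⊤ : Submodule (WittVector p S) P')) (Θt f g D'.F e) := by
    intro y q' e he h
    exact vbar_apply hJ D' f g hfg (ψQ y) q' e he h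
  have hqV : ∀ (w' : WittVector p S) (x : P), verschiebung w' • ψ x ∈ D'.Q := fun w' x =>
    D'.IV_smul_le (Submodule.smul_mem_smul (verschiebung_mem_IV p S w') Submodule.mem_top)
  have hκV : ∀ (w' : WittVector p S) (x : P) (h' : verschiebung w' • x ∈ D.Q),
      κ ⟨verschiebung w' • x, h'⟩ =
        Submodule.mkQ (J' • (⊤ : Submodule (WittVector p S) P')) (w' • D'.F (ψ x)) := by
    intro w' x h'
    rw [hκ_apply ⟨verschiebung w' • x, h'⟩ ⟨verschiebung w' • ψ x, hqV w' x⟩ 0 (zero_mem _)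
      (by rw [add_zero]; exact (map_smul ψ _ _).symm), Θt_zero, map_zero, add_zero,
      D'.Vinv_verschiebung_smul]
  have hκ : ∀ (w : WittVector p S) (x : P) (h : verschiebung w • x ∈ D.Q)
      (h1 : verschiebung (1 : WittVector p S) • x ∈ D.Q),
      κ ⟨verschiebung w • x, h⟩ = w • κ ⟨verschiebung (1 : WittVector p S) • x, h1⟩ := by
    intro w x h h1
    rw [hκV w x h, hκV 1 x h1, one_smul, map_smul]
  obtain ⟨K, hK⟩ := exists_linear_of_Vinv hpS D κ hκ
  obtain ⟨ψ₁, hψ₁⟩ := Module.projective_lifting_property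
    (Submodule.mkQ (J' • (⊤ : Submodule (WittVector p S) P'))) K (Submodule.mkQ_surjective _)
  have hψ₁' : ∀ x, Submodule.mkQ (J' • (⊤ : Submodule (WittVector p S) P')) (ψ₁ x) = K x :=
    fun x => LinearMap.congr_fun hψ₁ x
  -- `ω₀ = ψ₁ - ψ` has values in `J P'`
  have hω₀V : ∀ y : D.Q, (ψ₁ - ψ) (D.Vinv y) ∈ J • (⊤ : Submodule (WittVector p S) P') := by
    intro y
    obtain ⟨q', e, he, hqe⟩ := exists_decomp D' (hψ.mapsTo y y.2)
    have h1 : Submodule.mkQ (J' • (⊤ : Submodule (WittVector p S) P')) (ψ₁ (D.Vinv y)) =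
        Submodule.mkQ (J' • (⊤ : Submodule (WittVector p S) P'))
          (D'.Vinv q' + Θt f g D'.F e) := by
      rw [hψ₁', hK, map_add]
      exact hκ_apply y q' e he hqe
    have h2 := smul_top_mono hJ.le (sub_mem_of_mk_eq h1)
    have h3 : ψ (D.Vinv y) - D'.Vinv q' ∈ J • (⊤ : Submodule (WittVector p S) P') :=
      hψ.comm_Vinv y q' (by rw [← hqe, add_sub_cancel_left]; exact he)
    have h4 := Θt_mem f g D'.F hJ he
    have h5 : (ψ₁ - ψ) (D.Vinv y) = (ψ₁ (D.Vinv y) - (D'.Vinv q' + Θt f g D'.F e)) +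
        Θt f g D'.F e - (ψ (D.Vinv y) - D'.Vinv q') := by
      rw [LinearMap.sub_apply]
      abel
    rw [h5]
    exact sub_mem (add_mem h2 h4) h3
  have hω₀ : ∀ x, (ψ₁ - ψ) x ∈ J • (⊤ : Submodule (WittVector p S) P') := by
    have h1 : Submodule.map (ψ₁ - ψ) ⊤ ≤ J • (⊤ : Submodule (WittVector p S) P') := by
      rw [← D.span_range_Vinv, Submodule.map_span_le]
      rintro _ ⟨y, rfl⟩
      exact hω₀V y
    exact fun x => h1 ⟨x, trivial, rfl⟩
  let ω₀bar : P →ₗ[WittVector p S] Nbar J J' P' :=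
    (Submodule.mkQ _) ∘ₗ ((ψ₁ - ψ).codRestrict (J • (⊤ : Submodule (WittVector p S) P')) hω₀)
  obtain ⟨ωbar, hωbar⟩ := exists_sub_U_eq Vs hnil (Nbar_smul_eq_zero hJ) (Θ hJ f g D'.F) ω₀bar
  obtain ⟨ω, hω⟩ := Module.projective_lifting_property
    (Submodule.mkQ ((J' • (⊤ : Submodule (WittVector p S) P')).comap
      (J • (⊤ : Submodule (WittVector p S) P')).subtype)) ωbar (Submodule.mkQ_surjective _)
  have hω' : ∀ x, (Submodule.Quotient.mk (ω x) : Nbar J J' P') = ωbar x :=
    fun x => LinearMap.congr_fun hω x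
  -- the key congruence for `ω`
  have hωV : ∀ y : D.Q,
      Submodule.mkQ (J' • (⊤ : Submodule (WittVector p S) P')) ((ω (D.Vinv y) : P')) =
        Submodule.mkQ (J' • (⊤ : Submodule (WittVector p S) P')) ((ψ₁ - ψ) (D.Vinv y)) +
        Submodule.mkQ (J' • (⊤ : Submodule (WittVector p S) P')) (Θt f g D'.F (ω y : P')) := by
    intro y
    have h1 : ωbar (D.Vinv y) = ω₀bar (D.Vinv y) + U σ (Θ hJ f g D'.F) Vs ωbar (D.Vinv y) := by
      have h2 := LinearMap.congr_fun hωbar (D.Vinv y)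
      rw [LinearMap.sub_apply] at h2
      rw [← h2]
      abel
    rw [U_apply_Vinv D Vs hVs, ← hω', ← hω' (y : P), Θ_mk] at h1
    change (Submodule.Quotient.mk (ω (D.Vinv y)) : Nbar J J' P') =
      Submodule.Quotient.mk ⟨(ψ₁ - ψ) (D.Vinv y), hω₀ _⟩ + Submodule.Quotient.mk _ at h1
    rw [← Submodule.Quotient.mk_add, Nbar_mk_eq_iff] at h1
    rw [← map_add, Submodule.mkQ_apply, Submodule.mkQ_apply, Submodule.Quotient.eq]
    exact h1
  let ψt : P →ₗ[WittVector p S] P' :=
    ψ + (J • (⊤ : Submodule (WittVector p S) P')).subtype ∘ₗ ω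
  have hψt_apply : ∀ x, ψt x = ψ x + (ω x : P') := fun x => rfl
  -- (A): `ψt` commutes with `V̄` modulo `J'`
  have hA : ∀ (y : D.Q) (q' : D'.Q) (e : P')
      (he : e ∈ J • (⊤ : Submodule (WittVector p S) P')) (h : (q' : P') + e = ψt y),
      ψt (D.Vinv y) - (D'.Vinv q' + Θt f g D'.F e) ∈
        J' • (⊤ : Submodule (WittVector p S) P') := by
    intro y q' e he h
    apply sub_mem_of_mk_eq
    have he' : e - (ω y : P') ∈ J • (⊤ : Submodule (WittVector p S) P') := sub_mem he (ω y).2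
    have h' : (q' : P') + (e - (ω y : P')) = ψ y := by
      rw [hψt_apply] at h
      rw [← add_sub_assoc, h, add_sub_cancel_right]
    have h1 : Submodule.mkQ (J' • (⊤ : Submodule (WittVector p S) P')) (ψ₁ (D.Vinv y)) =
        Submodule.mkQ (J' • (⊤ : Submodule (WittVector p S) P')) (D'.Vinv q') +
        Submodule.mkQ (J' • (⊤ : Submodule (WittVector p S) P'))
          (Θt f g D'.F (e - (ω y : P'))) := by
      rw [hψ₁', hK]
      exact hκ_apply y q' _ he' h'
    have h2 : e = (e - (ω y : P')) + (ω y : P') := by abel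
    have h3 := Θt_add f g D'.F hJ he' (ω y).2
    rw [← h2] at h3
    rw [hψt_apply, map_add, hωV y, LinearMap.sub_apply, map_sub, h1, map_add, h3]
    abel
  refine ⟨(p : WittVector p S) • ψt, ⟨?_, ?_⟩, ?_⟩
  · -- mapsTo
    intro y hy
    obtain ⟨q', e, he, hqe⟩ := exists_decomp D' (hψ.mapsTo y hy)
    have h1 : ((p : WittVector p S) • ψt) y =
        (p : WittVector p S) • (q' : P') + (p : WittVector p S) • (e + (ω y : P')) := by
      rw [LinearMap.smul_apply, hψt_apply, ← hqe, ← smul_add]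
      abel_nf
    rw [h1]
    exact Submodule.add_mem_sup (D'.Q.smul_mem _ q'.2) (p_smul_mem hJ (add_mem he (ω y).2))
  · -- comm_Vinv
    intro y q'' hq''
    obtain ⟨q', e, he, hqe⟩ := exists_decomp D' (hψ.mapsTo y y.2)
    have heω : e + (ω (y : P) : P') ∈ J • (⊤ : Submodule (WittVector p S) P') :=
      add_mem he (ω y).2
    have hdec : (q' : P') + (e + (ω (y : P) : P')) = ψt y := by
      rw [hψt_apply, ← hqe]
      abel
    have hA' := hA y q' _ heω hdec
    -- `d = q'' - p q' ∈ Q' ∩ J' P'`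
    have hd : (q'' : P') - (p : WittVector p S) • (q' : P') ∈
        J' • (⊤ : Submodule (WittVector p S) P') := by
      have h1 : (q'' : P') - (p : WittVector p S) • (q' : P') =
          (p : WittVector p S) • (e + (ω (y : P) : P')) -
            (((p : WittVector p S) • ψt) y - q'') := by
        rw [LinearMap.smul_apply, ← hdec]
        simp only [smul_add]
        abel
      rw [h1]
      exact sub_mem (p_smul_mem hJ heω) hq''
    have hdQ : (q'' : P') - (p : WittVector p S) • (q' : P') ∈ D'.Q :=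
      sub_mem q''.2 (D'.Q.smul_mem _ q'.2)
    have hVd := Vinv_mem_of_mem D' J' hJ.sh_mem' hJ.frob_mem' hd hdQ
    have hq'' : q'' = (p : WittVector p S) • q' +
        ⟨(q'' : P') - (p : WittVector p S) • (q' : P'), hdQ⟩ := by
      apply Subtype.ext
      change (q'' : P') = (p : WittVector p S) • (q' : P') +
        ((q'' : P') - (p : WittVector p S) • (q' : P'))
      abel
    have hVq'' : D'.Vinv q'' = (p : WittVector p S) • D'.Vinv q' +
        D'.Vinv ⟨(q'' : P') - (p : WittVector p S) • (q' : P'), hdQ⟩ := by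
      conv_lhs => rw [hq'']
      rw [map_add, D'.Vinv.map_smulₛₗ, map_natCast]
    have h6 : ((p : WittVector p S) • ψt) (D.Vinv y) - D'.Vinv q'' =
        (p : WittVector p S) • (ψt (D.Vinv y) - (D'.Vinv q' + Θt f g D'.F (e + (ω (y : P) : P'))))
        + (p : WittVector p S) • Θt f g D'.F (e + (ω (y : P) : P'))
        - D'.Vinv ⟨(q'' : P') - (p : WittVector p S) • (q' : P'), hdQ⟩ := by
      rw [LinearMap.smul_apply, hVq'', smul_sub, smul_add]
      abel
    rw [h6]
    exact sub_mem (add_mem (Submodule.smul_mem _ _ hA')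
      (p_smul_mem hJ (Θt_mem f g D'.F hJ heω))) hVd
  · intro x
    have h1 : ((p : WittVector p S) • ψt) x - (p : WittVector p S) • ψ x =
        (p : WittVector p S) • (ω x : P') := by
      rw [LinearMap.smul_apply, hψt_apply, smul_add]
      abel
    rw [h1]
    exact Submodule.smul_mem _ _ (ω x).2

end step

end Groth.Agent.Lib.Seat78.DispStep
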