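import Groth.Agent.Lib.Seat78WittSqZero
import Groth.Agent.Lib.Seat78DispNil

/-!
# The extension `Θ` of `V⁻¹` to `J P'` modulo `J' P'` for a shift pair `(J, J')` (seat 78)

For a 3n-display `D'` on `P'` and ideals `J' ≤ J` of `W(S)` forming a `ShiftPair`, the map
`Θ̃ (Σ a_j e_j) = Σ shift(a_j) F' e_j` (in coordinates of the finite projective module `P'`) is
additive and Frobenius-semilinear on `J P'` modulo `J' P'`, and agrees with `V'⁻¹` on `Q' ∩ J P'`
modulo `J' P'`.  It induces a semilinear endomorphism `Θ` of `N̄ = J P' / J' P'`.  Consequence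
(`step_inj`): a homomorphism of displays with values in `J P'` has values in `J' P'`.
-/

set_option autoImplicit false
set_option linter.unusedSectionVars false
set_option linter.style.haveILetI false
universe u v
open Dieu

namespace Groth.Agent.Lib.Seat78.DispTheta

open W4c1extbt610 WittVector Groth.Agent.Lib.Seat78.WittSqZero Groth.Agent.Lib.Seat78.DispNil

variable {p : ℕ} [hp : Fact p.Prime] {S : Type u} [CommRing S]
variable {P' : Type v} [AddCommGroup P'] [Module (WittVector p S) P']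

local notation "σ" => (WittVector.frobenius : WittVector p S →+* WittVector p S)

section basic

theorem map_mem_smul_top {M M' : Type*} [AddCommGroup M] [Module (WittVector p S) M]
    [AddCommGroup M'] [Module (WittVector p S) M'] (φ : M →ₗ[WittVector p S] M')
    (I : Ideal (WittVector p S)) {x : M} (hx : x ∈ I • (⊤ : Submodule (WittVector p S) M)) :
    φ x ∈ I • (⊤ : Submodule (WittVector p S) M') := by
  refine Submodule.smul_induction_on hx ?_ ?_
  · intro a ha y _
    rw [map_smul]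
    exact Submodule.smul_mem_smul ha Submodule.mem_top
  · intro y z hy hz
    rw [map_add]
    exact add_mem hy hz

theorem semilinear_mem_smul_top {M M' : Type*} [AddCommGroup M] [Module (WittVector p S) M]
    [AddCommGroup M'] [Module (WittVector p S) M'] (φ : M →ₛₗ[σ] M')
    (I I' : Ideal (WittVector p S)) (hI : ∀ a ∈ I, frobenius a ∈ I') {x : M}
    (hx : x ∈ I • (⊤ : Submodule (WittVector p S) M)) :
    φ x ∈ I' • (⊤ : Submodule (WittVector p S) M') := by
  refine Submodule.smul_induction_on hx ?_ ?_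
  · intro a ha y _
    rw [φ.map_smulₛₗ]
    exact Submodule.smul_mem_smul (hI a ha) Submodule.mem_top
  · intro y z hy hz
    rw [map_add]
    exact add_mem hy hz

end basic

section coord
variable {n : ℕ} (f : (Fin n → WittVector p S) →ₗ[WittVector p S] P')
  (g : P' →ₗ[WittVector p S] (Fin n → WittVector p S)) (hfg : f ∘ₗ g = LinearMap.id)

/-- the generators `e_j`. -/
noncomputable def ee (j : Fin n) : P' := f (fun i => if j = i then 1 else 0)

include hfg in
theorem eq_sum (x : P') : x = ∑ j, g x j • ee f j := by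
  have h := LinearMap.congr_fun hfg x
  rw [LinearMap.comp_apply, LinearMap.id_apply, LinearMap.pi_apply_eq_sum_univ] at h
  exact h.symm

theorem coord_mem (I : Ideal (WittVector p S)) {x : P'}
    (hx : x ∈ I • (⊤ : Submodule (WittVector p S) P')) (j : Fin n) : g x j ∈ I := by
  refine Submodule.smul_induction_on hx ?_ ?_
  · intro a ha y _
    rw [map_smul, Pi.smul_apply, smul_eq_mul]
    exact Ideal.mul_mem_right _ _ ha
  · intro y z hy hz
    rw [map_add, Pi.add_apply]
    exact add_mem hy hz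

include hfg in
theorem mem_of_coord_mem (I : Ideal (WittVector p S)) {x : P'} (hx : ∀ j, g x j ∈ I) :
    x ∈ I • (⊤ : Submodule (WittVector p S) P') := by
  rw [eq_sum f g hfg x]
  exact Submodule.sum_mem _ fun j _ => Submodule.smul_mem_smul (hx j) Submodule.mem_top

variable (F' : P' →ₛₗ[(WittVector.frobenius : WittVector p S →+* WittVector p S)] P')

/-- `Θ̃ x = Σ_j shift(x_j) F' e_j`. -/
noncomputable def Θt (x : P') : P' := ∑ j, (g x j).shift 1 • F' (ee f j)

variable {J J' : Ideal (WittVector p S)} (hJ : ShiftPair J J')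

local notation "π'" => Submodule.mkQ (J' • (⊤ : Submodule (WittVector p S) P'))

theorem mk_smul_eq {a b : WittVector p S} (h : a - b ∈ J') (x : P') :
    π' (a • x) = π' (b • x) := by
  rw [Submodule.mkQ_apply, Submodule.mkQ_apply, Submodule.Quotient.eq, ← sub_smul]
  exact Submodule.smul_mem_smul h Submodule.mem_top

theorem mk_eq_zero_of_mem {a : WittVector p S} (h : a ∈ J') (x : P') : π' (a • x) = 0 := by
  rw [Submodule.mkQ_apply, Submodule.Quotient.mk_eq_zero]
  exact Submodule.smul_mem_smul h Submodule.mem_top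

include hJ in
theorem Θt_mem {x : P'} (hx : x ∈ J • (⊤ : Submodule (WittVector p S) P')) :
    Θt f g F' x ∈ J • (⊤ : Submodule (WittVector p S) P') :=
  Submodule.sum_mem _ fun j _ =>
    Submodule.smul_mem_smul (hJ.sh_mem _ (coord_mem g J hx j)) Submodule.mem_top

include hJ in
theorem Θt_mem' {x : P'} (hx : x ∈ J' • (⊤ : Submodule (WittVector p S) P')) :
    Θt f g F' x ∈ J' • (⊤ : Submodule (WittVector p S) P') :=
  Submodule.sum_mem _ fun j _ =>
    Submodule.smul_mem_smul (hJ.sh_mem' _ (coord_mem g J' hx j)) Submodule.mem_top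

include hJ in
theorem Θt_add {x y : P'} (hx : x ∈ J • (⊤ : Submodule (WittVector p S) P'))
    (hy : y ∈ J • (⊤ : Submodule (WittVector p S) P')) :
    π' (Θt f g F' (x + y)) = π' (Θt f g F' x) + π' (Θt f g F' y) := by
  unfold Θt
  rw [map_sum, map_sum, map_sum, ← Finset.sum_add_distrib]
  refine Finset.sum_congr rfl fun j _ => ?_
  have h1 : g (x + y) j = g x j + g y j := by rw [map_add, Pi.add_apply]
  rw [h1, mk_smul_eq (hJ.sh_add _ (coord_mem g J hx j) _ (coord_mem g J hy j)), add_smul, map_add]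

include hJ in
theorem Θt_smul (ξ : WittVector p S) {x : P'}
    (hx : x ∈ J • (⊤ : Submodule (WittVector p S) P')) :
    π' (Θt f g F' (ξ • x)) = π' (frobenius ξ • Θt f g F' x) := by
  unfold Θt
  rw [Finset.smul_sum, map_sum, map_sum]
  refine Finset.sum_congr rfl fun j _ => ?_
  have h1 : g (ξ • x) j = ξ * g x j := by rw [map_smul, Pi.smul_apply, smul_eq_mul]
  rw [h1, mk_smul_eq (hJ.sh_mul ξ _ (coord_mem g J hx j)), mul_smul]

include hJ hfg in
theorem Θt_smul_left {a : WittVector p S} (ha : a ∈ J) (x : P') :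
    π' (Θt f g F' (a • x)) = π' ((a.shift 1) • F' x) := by
  have h1 : F' x = ∑ j, frobenius (g x j) • F' (ee f j) := by
    conv_lhs => rw [eq_sum f g hfg x]
    rw [map_sum]
    exact Finset.sum_congr rfl fun j _ => F'.map_smulₛₗ _ _
  unfold Θt
  rw [h1, Finset.smul_sum, map_sum, map_sum]
  refine Finset.sum_congr rfl fun j _ => ?_
  have h2 : g (a • x) j = g x j * a := by rw [map_smul, Pi.smul_apply, smul_eq_mul, mul_comm]
  rw [h2, mk_smul_eq (hJ.sh_mul (g x j) a ha), mul_comm, mul_smul]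

include hJ hfg in
/-- `Θ̃ (Σ a_i x_i) ≡ Σ shift(a_i) F' x_i`. -/
theorem Θt_sum {ι : Type*} (s : Finset ι) (a : ι → WittVector p S) (ha : ∀ i ∈ s, a i ∈ J)
    (x : ι → P') :
    π' (Θt f g F' (∑ i ∈ s, a i • x i)) = π' (∑ i ∈ s, (a i).shift 1 • F' (x i)) := by
  classical
  induction s using Finset.induction_on with
  | empty =>
    rw [Finset.sum_empty, Finset.sum_empty]
    unfold Θt
    simp only [map_zero, Pi.zero_apply]
    have h0 : (0 : WittVector p S).shift 1 = 0 := by
      ext k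
      rw [WittVector.shift_coeff, WittVector.zero_coeff, WittVector.zero_coeff]
    simp only [h0, zero_smul, Finset.sum_const_zero, map_zero]
  | insert i s hi ih =>
    have hmem1 : a i • x i ∈ J • (⊤ : Submodule (WittVector p S) P') :=
      Submodule.smul_mem_smul (ha i (Finset.mem_insert_self i s)) Submodule.mem_top
    have hmem2 : ∑ k ∈ s, a k • x k ∈ J • (⊤ : Submodule (WittVector p S) P') :=
      Submodule.sum_mem _ fun k hk =>
        Submodule.smul_mem_smul (ha k (Finset.mem_insert_of_mem hk)) Submodule.mem_top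
    rw [Finset.sum_insert hi, Finset.sum_insert hi, Θt_add f g F' hJ hmem1 hmem2, map_add,
      Θt_smul_left f g hfg F' hJ (ha i (Finset.mem_insert_self i s)),
      ih fun k hk => ha k (Finset.mem_insert_of_mem hk)]

end coord

section display
variable (D' : Display3n p S P')

/-- `V⁻¹` of a finite sum `Σ c_j • q_j` with `q_j ∈ Q`. -/
theorem Vinv_sum_smul {ι : Type*} (s : Finset ι) (c : ι → WittVector p S) (q : ι → D'.Q)
    (h : ∑ j ∈ s, c j • (q j : P') ∈ D'.Q) :
    D'.Vinv ⟨∑ j ∈ s, c j • (q j : P'), h⟩ = ∑ j ∈ s, frobenius (c j) • D'.Vinv (q j) := by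
  have h1 : (⟨∑ j ∈ s, c j • (q j : P'), h⟩ : D'.Q) = ∑ j ∈ s, c j • q j := by
    apply Subtype.ext
    rw [Submodule.coe_sum]
    rfl
  rw [h1, map_sum]
  exact Finset.sum_congr rfl fun j _ => D'.Vinv.map_smulₛₗ _ _

/-- `V⁻¹ (Σ V(w_j) • x_j) = Σ w_j • F x_j`. -/
theorem Vinv_sum_verschiebung {ι : Type*} (s : Finset ι) (w : ι → WittVector p S) (x : ι → P')
    (h : ∑ j ∈ s, verschiebung (w j) • x j ∈ D'.Q) :
    D'.Vinv ⟨∑ j ∈ s, verschiebung (w j) • x j, h⟩ = ∑ j ∈ s, w j • D'.F (x j) := by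
  have hm : ∀ j, verschiebung (w j) • x j ∈ D'.Q := fun j =>
    D'.IV_smul_le (Submodule.smul_mem_smul (verschiebung_mem_IV p S (w j)) Submodule.mem_top)
  have h1 : (⟨∑ j ∈ s, verschiebung (w j) • x j, h⟩ : D'.Q) =
      ∑ j ∈ s, (⟨verschiebung (w j) • x j, hm j⟩ : D'.Q) := by
    apply Subtype.ext
    rw [Submodule.coe_sum]
  rw [h1, map_sum]
  exact Finset.sum_congr rfl fun j _ => D'.Vinv_verschiebung_smul _ _

variable {n : ℕ} (f : (Fin n → WittVector p S) →ₗ[WittVector p S] P')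
  (g : P' →ₗ[WittVector p S] (Fin n → WittVector p S)) (hfg : f ∘ₗ g = LinearMap.id)

include hfg in
/-- on `I_S P'`, `Θ̃ = V⁻¹` exactly. -/
theorem Vinv_eq_Θt_of_mem_IV {u : P'}
    (hu : u ∈ IV p S • (⊤ : Submodule (WittVector p S) P')) (hQ : u ∈ D'.Q) :
    D'.Vinv ⟨u, hQ⟩ = Θt f g D'.F u := by
  have hc : ∀ j, g u j = verschiebung ((g u j).shift 1) := by
    intro j
    obtain ⟨w, hw⟩ := (Groth.Agent.Lib.Helper22.mem_IV_iff' _).1 (coord_mem g (IV p S) hu j)
    rw [hw, shift_verschiebung]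
  have h1 : u = ∑ j, verschiebung ((g u j).shift 1) • ee f j := by
    conv_lhs => rw [eq_sum f g hfg u]
    exact Finset.sum_congr rfl fun j _ => by rw [← hc j]
  have h2 : ∑ j, verschiebung ((g u j).shift 1) • ee f j ∈ D'.Q := h1 ▸ hQ
  have h3 : (⟨u, hQ⟩ : D'.Q) = ⟨∑ j, verschiebung ((g u j).shift 1) • ee f j, h2⟩ :=
    Subtype.ext h1
  rw [h3, Vinv_sum_verschiebung]
  rfl

variable {J J' : Ideal (WittVector p S)} (hJ : ShiftPair J J')

local notation "π'" => Submodule.mkQ (J' • (⊤ : Submodule (WittVector p S) P'))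

include hJ hfg in
/-- **compatibility**: on `Q' ∩ J P'`, `V'⁻¹ ≡ Θ̃` modulo `J' P'`. -/
theorem Vinv_compat {y : P'} (hy : y ∈ J • (⊤ : Submodule (WittVector p S) P')) (hQ : y ∈ D'.Q) :
    π' (D'.Vinv ⟨y, hQ⟩) = π' (Θt f g D'.F y) := by
  obtain ⟨L, T, hLT, hQeq⟩ := D'.exists_normal
  have hLQ : L ≤ D'.Q := hQeq ▸ le_sup_left
  have hTQ : IV p S • T ≤ D'.Q := hQeq ▸ le_sup_right
  obtain ⟨l, hl, u, hu, rfl⟩ := Submodule.mem_sup.1 (hQeq ▸ hQ)
  -- the projection onto `L`
  let πL : P' →ₗ[WittVector p S] P' := L.projection T hLT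
  have hπL_l : ∀ l' ∈ L, πL l' = l' := fun l' hl' =>
    Submodule.projection_apply_left hLT ⟨l', hl'⟩
  have hπL_mem : ∀ x, πL x ∈ L := fun x => Submodule.projection_apply_mem hLT x
  have huT : u ∈ T := by
    refine Submodule.smul_induction_on hu (fun a _ t ht => T.smul_mem a ht) fun _ _ => T.add_mem
  have hπL_u : πL u = 0 := Submodule.projection_apply_right hLT ⟨u, huT⟩
  have hlJ : l ∈ J • (⊤ : Submodule (WittVector p S) P') := by
    have h1 := map_mem_smul_top πL J hy
    rwa [map_add, hπL_l l hl, hπL_u, add_zero] at h1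
  have huJ : u ∈ J • (⊤ : Submodule (WittVector p S) P') := by
    have h1 := sub_mem hy hlJ
    rwa [add_sub_cancel_left] at h1
  have huIV : u ∈ IV p S • (⊤ : Submodule (WittVector p S) P') :=
    Submodule.smul_mono (le_refl _) le_top hu
  have huQ : u ∈ D'.Q := hTQ hu
  have hlQ : l ∈ D'.Q := hLQ hl
  -- `l` in terms of the `πL e_j`
  have hl_sum : l = ∑ j, g l j • ((⟨πL (ee f j), hLQ (hπL_mem _)⟩ : D'.Q) : P') := by
    conv_lhs => rw [← hπL_l l hl, eq_sum f g hfg l, map_sum]
    exact Finset.sum_congr rfl fun j _ => by rw [map_smul]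
  -- `V⁻¹ l ∈ J' P'`
  have hVl : π' (D'.Vinv ⟨l, hlQ⟩) = 0 := by
    have h2 : ∑ j, g l j • ((⟨πL (ee f j), hLQ (hπL_mem _)⟩ : D'.Q) : P') ∈ D'.Q := hl_sum ▸ hlQ
    have h3 : (⟨l, hlQ⟩ : D'.Q) = ⟨_, h2⟩ := Subtype.ext hl_sum
    rw [h3, Vinv_sum_smul, map_sum]
    exact Finset.sum_eq_zero fun j _ =>
      mk_eq_zero_of_mem (hJ.frob_mem _ (coord_mem g J hlJ j)) _
  -- `Θ̃ l ∈ J' P'`
  have hΘl : π' (Θt f g D'.F l) = 0 := by
    conv_lhs => rw [hl_sum]
    rw [Θt_sum f g hfg D'.F hJ Finset.univ _ (fun j _ => coord_mem g J hlJ j), map_sum]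
    refine Finset.sum_eq_zero fun j _ => ?_
    rw [Groth.Agent.Lib.Helper22.disp_F_eq_p_smul_Vinv, ← mul_smul, mul_comm]
    exact mk_eq_zero_of_mem (hJ.p_mul_mem _ (hJ.sh_mem _ (coord_mem g J hlJ j))) _
  have hsplit : (⟨l + u, hQ⟩ : D'.Q) = ⟨l, hlQ⟩ + ⟨u, huQ⟩ := rfl
  rw [hsplit, map_add, map_add, hVl, zero_add, Θt_add f g D'.F hJ hlJ huJ, hΘl, zero_add,
    Vinv_eq_Θt_of_mem_IV D' f g hfg huIV huQ]

end display


section quotient

/-- `N̄ = J P' / J' P'`. -/
abbrev Nbar (J J' : Ideal (WittVector p S)) (P' : Type v) [AddCommGroup P']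
    [Module (WittVector p S) P'] : Type v :=
  ↥(J • (⊤ : Submodule (WittVector p S) P')) ⧸
    (J' • (⊤ : Submodule (WittVector p S) P')).comap
      (J • (⊤ : Submodule (WittVector p S) P')).subtype

variable {J J' : Ideal (WittVector p S)}

theorem Nbar_mk_eq_iff (x y : ↥(J • (⊤ : Submodule (WittVector p S) P'))) :
    (Submodule.Quotient.mk x : Nbar J J' P') = Submodule.Quotient.mk y ↔
      (x : P') - y ∈ J' • (⊤ : Submodule (WittVector p S) P') := by
  rw [Submodule.Quotient.eq, Submodule.mem_comap]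
  rfl

theorem Nbar_mk_eq_zero_iff (x : ↥(J • (⊤ : Submodule (WittVector p S) P'))) :
    (Submodule.Quotient.mk x : Nbar J J' P') = 0 ↔
      (x : P') ∈ J' • (⊤ : Submodule (WittVector p S) P') := by
  rw [Submodule.Quotient.mk_eq_zero, Submodule.mem_comap]
  rfl

theorem sub_mem_of_mk_eq {a b : P'}
    (h : Submodule.mkQ (J' • (⊤ : Submodule (WittVector p S) P')) a =
      Submodule.mkQ (J' • (⊤ : Submodule (WittVector p S) P')) b) :
    a - b ∈ J' • (⊤ : Submodule (WittVector p S) P') :=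
  (Submodule.Quotient.eq _).1 h

variable (hJ : ShiftPair J J')

include hJ in
/-- `N̄` is killed by `I_S + pW`. -/
theorem Nbar_smul_eq_zero (a : WittVector p S)
    (ha : a ∈ IV p S ⊔ Ideal.span {(p : WittVector p S)}) (x : Nbar J J' P') : a • x = 0 := by
  obtain ⟨x₀, rfl⟩ := Submodule.Quotient.mk_surjective _ x
  rw [← Submodule.Quotient.mk_smul, Nbar_mk_eq_zero_iff]
  have hmul : ∀ b ∈ J, a * b ∈ J' := by
    intro b hb
    obtain ⟨i, hi, c, hc, rfl⟩ := Submodule.mem_sup.1 ha
    obtain ⟨c', rfl⟩ := Ideal.mem_span_singleton'.1 hc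
    rw [add_mul, mul_assoc]
    exact add_mem (hJ.IV_mul_mem i hi b hb) (Ideal.mul_mem_left _ _ (hJ.p_mul_mem b hb))
  change a • (x₀ : P') ∈ _
  refine Submodule.smul_induction_on x₀.2 ?_ ?_
  · intro b hb y _
    rw [← mul_smul]
    exact Submodule.smul_mem_smul (hmul b hb) Submodule.mem_top
  · intro y z hy hz
    rw [smul_add]
    exact add_mem hy hz

variable {n : ℕ} (f : (Fin n → WittVector p S) →ₗ[WittVector p S] P')
  (g : P' →ₗ[WittVector p S] (Fin n → WittVector p S))
  (F' : P' →ₛₗ[(WittVector.frobenius : WittVector p S →+* WittVector p S)] P')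

/-- `Θ̃` as a semilinear map `J P' → N̄`. -/
noncomputable def Θ₁ : ↥(J • (⊤ : Submodule (WittVector p S) P')) →ₛₗ[σ] Nbar J J' P' where
  toFun x := Submodule.Quotient.mk ⟨Θt f g F' x, Θt_mem f g F' hJ x.2⟩
  map_add' x y := by
    rw [← Submodule.Quotient.mk_add, Nbar_mk_eq_iff]
    have h := Θt_add f g F' hJ x.2 y.2
    rw [← map_add] at h
    exact sub_mem_of_mk_eq h
  map_smul' ξ x := by
    rw [← Submodule.Quotient.mk_smul, Nbar_mk_eq_iff]
    exact sub_mem_of_mk_eq (Θt_smul f g F' hJ ξ x.2)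

/-- the semilinear endomorphism `Θ` of `N̄`. -/
noncomputable def Θ : Nbar J J' P' →ₛₗ[σ] Nbar J J' P' :=
  Submodule.liftQ _ (Θ₁ hJ f g F') (by
    intro x hx
    rw [Submodule.mem_comap] at hx
    rw [LinearMap.mem_ker]
    change (Submodule.Quotient.mk ⟨Θt f g F' x, _⟩ : Nbar J J' P') = 0
    rw [Nbar_mk_eq_zero_iff]
    exact Θt_mem' f g F' hJ hx)

theorem Θ_mk (x : ↥(J • (⊤ : Submodule (WittVector p S) P'))) :
    Θ hJ f g F' (Submodule.Quotient.mk x) =
      Submodule.Quotient.mk ⟨Θt f g F' x, Θt_mem f g F' hJ x.2⟩ := rfl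

end quotient

section rigid
variable {P : Type v} [AddCommGroup P] [Module (WittVector p S) P]
variable {J J' : Ideal (WittVector p S)}

/-- **the step of the rigidity argument**: a homomorphism of 3n-displays `α : D → D'`, `D` a
display, with values in `J P'` has values in `J' P'`. -/
theorem step_inj (hJ : ShiftPair J J') (D : Display3n p S P) (D' : Display3n p S P')
    (Vs : P →ₗ[WittVector p S] BC σ P) (hVs : IsVSharp D Vs) (hnil : IsVNilpotent Vs)
    (α : P →ₗ[WittVector p S] P') (hα : IsHom D D' α)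
    (h : ∀ x, α x ∈ J • (⊤ : Submodule (WittVector p S) P')) (x : P) :
    α x ∈ J' • (⊤ : Submodule (WittVector p S) P') := by
  haveI := D'.finite
  haveI := D'.projective
  obtain ⟨n, f, g, -, -, hfg⟩ := Module.Finite.exists_comp_eq_id_of_projective (WittVector p S) P'
  let ω : P →ₗ[WittVector p S] Nbar J J' P' :=
    (Submodule.mkQ _) ∘ₗ (α.codRestrict (J • (⊤ : Submodule (WittVector p S) P')) h)
  have hω : ω = 0 := by
    refine eq_zero_of_comm D Vs hVs hnil (Nbar_smul_eq_zero hJ) (Θ hJ f g D'.F) ω ?_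
    intro y
    change (Submodule.Quotient.mk ⟨α (D.Vinv y), h _⟩ : Nbar J J' P') =
      Θ hJ f g D'.F (Submodule.Quotient.mk ⟨α y, h _⟩)
    rw [Θ_mk, Nbar_mk_eq_iff]
    change α (D.Vinv y) - Θt f g D'.F (α y) ∈ _
    rw [hα.comm_Vinv y]
    exact sub_mem_of_mk_eq (Vinv_compat D' f g hfg hJ (h y) (hα.mapsTo y y.2))
  have h1 : ω x = 0 := by rw [hω, LinearMap.zero_apply]
  change (Submodule.Quotient.mk ⟨α x, h x⟩ : Nbar J J' P') = 0 at h1
  exact (Nbar_mk_eq_zero_iff _).1 h1

end rigid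

end Groth.Agent.Lib.Seat78.DispTheta
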