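import Mathlib.Algebra.Category.ModuleCat.Pseudofunctor
import Mathlib.CategoryTheory.Sites.Descent.DescentData

/-!
# Seat78: element-level description of the pseudofunctor `G.toPseudofunctor.comp (extension of scalars)`

For a functor `G : (CommRingCatᵒᵖ)ᵒᵖ ⥤ CommRingCat` the pseudofunctor
`G.toPseudofunctor.comp CommRingCat.moduleCatExtendScalarsPseudofunctor` sends a ring `A` to the category of
`G(A)`-modules, with extension of scalars as pullback.  We compute its `mapComp'` isomorphisms on pure tensors.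

Kernel note: `ev` is a *regular* definition wrapping the application of a morphism of modules to an element, so
that the kernel compares arguments first instead of unfolding the (heavy) morphisms.
-/

set_option autoImplicit false
set_option backward.isDefEq.respectTransparency false
set_option backward.isDefEq.respectTransparency.types false
set_option backward.defeqAttrib.useBackward true

open CategoryTheory Opposite TensorProduct
open ChangeOfRings

universe u v w

namespace Groth.Agent.Lib.Seat78.ExtPF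

/-- Evaluation of a morphism of modules at an element (a regular definition on purpose). -/
def ev {R : Type u} [Ring R] {A B : ModuleCat.{u} R} (φ : A ⟶ B) (x : A) : B :=
  (ModuleCat.Hom.hom φ) x

section ev
variable {R : Type u} [Ring R] {A B C : ModuleCat.{u} R}

theorem ev_def (φ : A ⟶ B) (x : A) : ev φ x = (ModuleCat.Hom.hom φ) x := rfl
theorem ev_comp (φ : A ⟶ B) (ψ : B ⟶ C) (x : A) : ev (φ ≫ ψ) x = ev ψ (ev φ x) := rfl
theorem ev_id (x : A) : ev (𝟙 A) x = x := rfl
theorem ev_add (φ : A ⟶ B) (x y : A) : ev φ (x + y) = ev φ x + ev φ y := map_add _ _ _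
theorem ev_zero (φ : A ⟶ B) : ev φ 0 = 0 := map_zero _
theorem ev_smul (φ : A ⟶ B) (r : R) (x : A) : ev φ (r • x) = r • ev φ x := map_smul _ _ _
theorem ev_hom_inv (e : A ≅ B) (x : A) : ev e.inv (ev e.hom x) = x := by
  rw [← ev_comp, e.hom_inv_id, ev_id]
theorem ev_inv_hom (e : A ≅ B) (x : B) : ev e.hom (ev e.inv x) = x := by
  rw [← ev_comp, e.inv_hom_id, ev_id]
end ev

/-- Component of a 2-morphism of `Cat` at an object (a regular definition on purpose). -/
def app2 {C D : Cat.{v, w}} {F G : C ⟶ D} (η : F ⟶ G) (X : C) :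
    F.toFunctor.obj X ⟶ G.toFunctor.obj X :=
  η.toNatTrans.app X

theorem app2_def {C D : Cat.{v, w}} {F G : C ⟶ D} (η : F ⟶ G) (X : C) :
    app2 η X = η.toNatTrans.app X := rfl

theorem app2_comp {C D : Cat.{v, w}} {F G H : C ⟶ D} (η : F ⟶ G) (θ : G ⟶ H) (X : C) :
    app2 (η ≫ θ) X = app2 η X ≫ app2 θ X := rfl

section abstract
variable {C : Type*} [Category C] {D : Type*} [Category D] (G : C ⥤ D)
  (H : Pseudofunctor (LocallyDiscrete D) Cat.{v, w})

theorem map_comp_toLoc {X Y Z : LocallyDiscrete C} (f : X ⟶ Y) (g : Y ⟶ Z) (fg : X ⟶ Z)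
    (hfg : f ≫ g = fg) :
    G.toPseudofunctor.map fg = G.toPseudofunctor.map f ≫ G.toPseudofunctor.map g := by
  subst hfg
  obtain ⟨f⟩ := f; obtain ⟨g⟩ := g
  show (G.map (f ≫ g)).toLoc = (G.map f).toLoc ≫ (G.map g).toLoc
  rw [G.map_comp]; rfl

theorem comp_mapComp'_hom {X Y Z : LocallyDiscrete C} (f : X ⟶ Y) (g : Y ⟶ Z) (fg : X ⟶ Z)
    (hfg : f ≫ g = fg) :
    ((G.toPseudofunctor.comp H).mapComp' f g fg hfg).hom =
      H.map₂ (eqToHom (map_comp_toLoc G f g fg hfg)) ≫
        (H.mapComp (G.toPseudofunctor.map f) (G.toPseudofunctor.map g)).hom := by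
  subst hfg
  rw [Pseudofunctor.mapComp'_eq_mapComp, Pseudofunctor.comp_mapComp, Iso.trans_hom]
  congr 1

end abstract

local notation "EPF" => CommRingCat.moduleCatExtendScalarsPseudofunctor

theorem E_map₂_eqToHom_app {X Y : LocallyDiscrete CommRingCat.{u}} (x y : X ⟶ Y) (hxy : x = y)
    (N : ModuleCat.{u} X.as) (t : Y.as) (n : N) :
    ev (app2 ((EPF).map₂ (eqToHom hxy)) N) (t ⊗ₜ[X.as, x.as.hom] n) =
      (t ⊗ₜ[X.as, y.as.hom] n) := by
  subst hxy
  simp [ev, app2]

theorem extendScalarsComp_hom_app_tmul {R₁ R₂ R₃ : Type u} [CommRing R₁] [CommRing R₂] [CommRing R₃]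
    (f₁₂ : R₁ →+* R₂) (f₂₃ : R₂ →+* R₃) (M : ModuleCat.{u} R₁) (t : R₃) (m : M) :
    (ModuleCat.extendScalarsComp f₁₂ f₂₃).hom.app M (t ⊗ₜ[R₁, f₂₃.comp f₁₂] m) =
      t ⊗ₜ[R₂,f₂₃] ((1 : R₂) ⊗ₜ[R₁,f₁₂] m) := by
  have h1 : (t ⊗ₜ[R₁, f₂₃.comp f₁₂] m : (ModuleCat.extendScalars (f₂₃.comp f₁₂)).obj M) =
      t • ((1 : R₃) ⊗ₜ[R₁, f₂₃.comp f₁₂] m : (ModuleCat.extendScalars (f₂₃.comp f₁₂)).obj M) := by
    rw [ModuleCat.ExtendScalars.smul_tmul, mul_one]
  rw [h1, map_smul, ModuleCat.extendScalarsComp_hom_app_one_tmul]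
  erw [ModuleCat.ExtendScalars.smul_tmul]
  rw [mul_one]

theorem E_mapComp_app_tmul {X Y Z : LocallyDiscrete CommRingCat.{u}} (x : X ⟶ Y) (y : Y ⟶ Z)
    (N : ModuleCat.{u} X.as) (t : Z.as) (n : N) :
    ev (app2 ((EPF).mapComp x y).hom N) (t ⊗ₜ[X.as, (x ≫ y).as.hom] n) =
      (t ⊗ₜ[Y.as, y.as.hom] ((1 : Y.as) ⊗ₜ[X.as, x.as.hom] n :
          (ModuleCat.extendScalars x.as.hom).obj N) :
        (ModuleCat.extendScalars y.as.hom).obj ((ModuleCat.extendScalars x.as.hom).obj N)) :=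
  extendScalarsComp_hom_app_tmul x.as.hom y.as.hom N t n

variable (G : (CommRingCat.{u}ᵒᵖ)ᵒᵖ ⥤ CommRingCat.{u})

set_option quotPrecheck false in
local notation "FG" => Pseudofunctor.comp (Functor.toPseudofunctor G) CommRingCat.moduleCatExtendScalarsPseudofunctor

theorem mapComp'_hom_app_tmul {X Y Z : LocallyDiscrete (CommRingCat.{u}ᵒᵖ)ᵒᵖ}
    (f : X ⟶ Y) (g : Y ⟶ Z) (fg : X ⟶ Z) (hfg : f ≫ g = fg)
    (N : ModuleCat.{u} (G.toPseudofunctor.obj X).as) (t : (G.toPseudofunctor.obj Z).as) (n : N) :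
    ev (app2 ((FG).mapComp' f g fg hfg).hom N)
      (t ⊗ₜ[(G.toPseudofunctor.obj X).as, (G.toPseudofunctor.map fg).as.hom] n) =
    (t ⊗ₜ[(G.toPseudofunctor.obj Y).as, (G.toPseudofunctor.map g).as.hom]
      (((1 : (G.toPseudofunctor.obj Y).as) ⊗ₜ[(G.toPseudofunctor.obj X).as,
          (G.toPseudofunctor.map f).as.hom] n :
        (ModuleCat.extendScalars (G.toPseudofunctor.map f).as.hom).obj N)) :
      (ModuleCat.extendScalars (G.toPseudofunctor.map g).as.hom).obj
        ((ModuleCat.extendScalars (G.toPseudofunctor.map f).as.hom).obj N)) := by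
  rw [comp_mapComp'_hom G (EPF) f g fg hfg, app2_comp, ev_comp]
  have hA := E_map₂_eqToHom_app _ _ (map_comp_toLoc G f g fg hfg) N t n
  have hB := E_mapComp_app_tmul (G.toPseudofunctor.map f) (G.toPseudofunctor.map g) N t n
  exact (congrArg (ev (app2 ((EPF).mapComp (G.toPseudofunctor.map f) (G.toPseudofunctor.map g)).hom N)) hA).trans hB

end Groth.Agent.Lib.Seat78.ExtPF
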