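import Groth.Agent.Lib.Seat58DescAlg
import Groth.Agent.Lib.Seat78ExtPF

/-!
# Seat78: effectivity of descent of modules, algebraic core in "extension of scalars" coordinates

For a flat ring map `R → S`, an `S`-module `N` and the "coaction" `β : N → (S ⊗ S) ⊗_{S, i₂} N` coming
from a descent datum in functor-of-points form (together with its unit and cocycle properties, stated
through the base-change maps along `S ⊗ S → S` and `S ⊗ S ⇉ S ⊗ (S ⊗ S)`), we produce an `R`-module `M`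
with `S ⊗_R M ≅ N` (`exists_iso_of_descent`).  The core is helper58's `Seat58.DescAlg.coalg_descent`.
-/

set_option autoImplicit false
set_option backward.isDefEq.respectTransparency false
set_option backward.isDefEq.respectTransparency.types false
set_option backward.defeqAttrib.useBackward true

open TensorProduct ChangeOfRings
open Groth.Agent.Lib.Seat78.ExtPF

universe u

namespace Groth.Agent.Lib.Seat78.EffAlg

section liftE
variable {S T : Type u} [CommRing S] [CommRing T] (a : S →+* T) (N : ModuleCat.{u} S)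

/-- Additive maps out of an extension of scalars. -/
noncomputable def liftE {P : Type*} [AddCommGroup P] (f : T →+ N →+ P)
    (hf : ∀ (s : S) (t : T) (n : N), f (a s * t) n = f t (s • n)) :
    (ModuleCat.extendScalars a).obj N →+ P :=
  let _ : Module S T := Module.compHom T a
  TensorProduct.liftAddHom f hf

theorem liftE_tmul {P : Type*} [AddCommGroup P] (f : T →+ N →+ P)
    (hf : ∀ (s : S) (t : T) (n : N), f (a s * t) n = f t (s • n)) (t : T) (n : N) :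
    liftE a N f hf (t ⊗ₜ[S,a] n) = f t n := by
  let _ : Module S T := Module.compHom T a
  exact TensorProduct.liftAddHom_tmul f hf t n

theorem induction_E {motive : (ModuleCat.extendScalars a).obj N → Prop} (zero : motive 0)
    (tmul : ∀ (t : T) (n : N), motive (t ⊗ₜ[S,a] n))
    (add : ∀ x y, motive x → motive y → motive (x + y))
    (x : (ModuleCat.extendScalars a).obj N) : motive x := by
  let _ : Module S T := Module.compHom T a
  exact TensorProduct.induction_on x zero tmul add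

theorem smul_tmul_E (s : S) (t : T) (n : N) :
    ((a s * t) ⊗ₜ[S,a] n : (ModuleCat.extendScalars a).obj N) = t ⊗ₜ[S,a] (s • n) := by
  let _ : Module S T := Module.compHom T a
  exact TensorProduct.smul_tmul s t n

end liftE


section core
variable {R S : Type u} [CommRing R] [CommRing S] [Algebra R S] (N : ModuleCat.{u} S)

/-- The `R`-module structure on an `S`-module by restriction of scalars. -/
@[reducible] noncomputable def modR : Module R N := Module.compHom N (algebraMap R S)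

attribute [local instance] modR

instance isScalarTower_modR : IsScalarTower R S N :=
  IsScalarTower.of_algebraMap_smul fun _ _ => rfl

variable (R)

/-- first inclusion `S → S ⊗ S` -/
noncomputable abbrev i₁ : S →+* S ⊗[R] S := Algebra.TensorProduct.includeLeftRingHom
/-- second inclusion `S → S ⊗ S` -/
noncomputable abbrev i₂ : S →+* S ⊗[R] S :=
  ((Algebra.TensorProduct.includeRight : S →ₐ[R] S ⊗[R] S) : S →+* S ⊗[R] S)

/-- `σ n : s ↦ s • n` as an `R`-linear map. -/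
noncomputable def σ : N →ₗ[R] S →ₗ[R] N := (Algebra.lsmul R R N).toLinearMap.flip

theorem σ_apply (n : N) (s : S) : σ R N n s = s • n := rfl

/-- The bi-additive map `(w, n) ↦ (id ⊗ (· • n)) w : S ⊗ S → N → S ⊗ N`. -/
noncomputable def fϑ : (S ⊗[R] S) →+ N →+ S ⊗[R] N :=
  AddMonoidHom.mk' (fun w => AddMonoidHom.mk' (fun n => LinearMap.lTensor S (σ R N n) w)
    (fun n n' => by rw [map_add, LinearMap.lTensor_add, LinearMap.add_apply]))
    (fun w w' => by ext n; simp)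

theorem fϑ_tmul (s s' : S) (n : N) : fϑ R N (s ⊗ₜ[R] s') n = s ⊗ₜ[R] (s' • n) := rfl

theorem fϑ_balanced (s₀ : S) (w : S ⊗[R] S) (n : N) :
    fϑ R N (i₂ R s₀ * w) n = fϑ R N w (s₀ • n) := by
  induction w using TensorProduct.induction_on with
  | zero => simp
  | tmul s s' =>
    show fϑ R N (((1 : S) ⊗ₜ[R] s₀) * (s ⊗ₜ[R] s')) n = _
    rw [Algebra.TensorProduct.tmul_mul_tmul, fϑ_tmul, fϑ_tmul, one_mul, mul_smul, smul_comm]
    
  | add x y hx hy => rw [mul_add, map_add, map_add, AddMonoidHom.add_apply, AddMonoidHom.add_apply, hx, hy]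

/-- `ϑ : (S ⊗ S) ⊗_{S, i₂} N → S ⊗ N`, `(s ⊗ s') ⊗ n ↦ s ⊗ s' n`. -/
noncomputable def ϑ : (ModuleCat.extendScalars (i₂ R)).obj N →+ S ⊗[R] N :=
  liftE (i₂ R) N (fϑ R N) (fϑ_balanced R N)

theorem ϑ_tmul (s s' : S) (n : N) :
    ϑ R N ((s ⊗ₜ[R] s') ⊗ₜ[S, i₂ R] n) = s ⊗ₜ[R] (s' • n) :=
  liftE_tmul _ _ _ _ _ _


theorem fϑ_i₁ (x : S) (w : S ⊗[R] S) (n : N) :
    fϑ R N (i₁ R x * w) n = x • fϑ R N w n := by
  induction w using TensorProduct.induction_on with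
  | zero => simp
  | tmul s s' =>
    show fϑ R N ((x ⊗ₜ[R] (1 : S)) * (s ⊗ₜ[R] s')) n = _
    rw [Algebra.TensorProduct.tmul_mul_tmul, fϑ_tmul, fϑ_tmul, one_mul, TensorProduct.smul_tmul',
      smul_eq_mul]
  | add x y hx hy =>
    rw [mul_add, map_add, map_add, AddMonoidHom.add_apply, AddMonoidHom.add_apply, hx, hy, smul_add]

theorem ϑ_smul (x : S) (y : (ModuleCat.extendScalars (i₂ R)).obj N) :
    ϑ R N (i₁ R x • y) = x • ϑ R N y := by
  induction y using induction_E with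
  | zero => rw [smul_zero, map_zero, smul_zero]
  | tmul w n =>
    rw [ModuleCat.ExtendScalars.smul_tmul]
    exact (liftE_tmul _ _ _ _ _ _).trans ((fϑ_i₁ R N x w n).trans
      (congrArg (x • ·) (liftE_tmul _ _ _ _ _ _).symm))
  | add y y' hy hy' => rw [smul_add, map_add, map_add, hy, hy', smul_add]

theorem i₁_algebraMap (r : R) : i₁ R (algebraMap R S r) = i₂ R (algebraMap R S r) := by
  show (algebraMap R S r) ⊗ₜ[R] (1 : S) = (1 : S) ⊗ₜ[R] (algebraMap R S r)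
  rw [Algebra.algebraMap_eq_smul_one, TensorProduct.smul_tmul]

/-- The bi-additive map `(s, n) ↦ (s ⊗ 1) ⊗ n`. -/
noncomputable def fθ : S →+ N →+ (ModuleCat.extendScalars (i₂ R)).obj N :=
  AddMonoidHom.mk' (fun s => AddMonoidHom.mk' (fun n => (i₁ R s) ⊗ₜ[S, i₂ R] n)
    (fun n n' => by
      let _ : Module S (S ⊗[R] S) := Module.compHom _ (i₂ R)
      exact TensorProduct.tmul_add _ _ _))
    (fun s s' => by
      ext n
      let _ : Module S (S ⊗[R] S) := Module.compHom _ (i₂ R)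
      show (i₁ R (s + s')) ⊗ₜ[S] n = (i₁ R s) ⊗ₜ[S] n + (i₁ R s') ⊗ₜ[S] n
      rw [map_add, TensorProduct.add_tmul])

theorem fθ_apply (s : S) (n : N) : fθ R N s n = (i₁ R s) ⊗ₜ[S, i₂ R] n := rfl

/-- `θ₂ : S ⊗ N → (S ⊗ S) ⊗_{S, i₂} N`, `s ⊗ n ↦ (s ⊗ 1) ⊗ n`. -/
noncomputable def θ₂ : S ⊗[R] N →+ (ModuleCat.extendScalars (i₂ R)).obj N :=
  TensorProduct.liftAddHom (fθ R N) (fun r s n => by
    rw [fθ_apply, fθ_apply]
    show (i₁ R (r • s)) ⊗ₜ[S, i₂ R] n = (i₁ R s) ⊗ₜ[S, i₂ R] ((algebraMap R S r) • n)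
    rw [← smul_tmul_E, Algebra.smul_def, map_mul, i₁_algebraMap])

theorem θ₂_tmul (s : S) (n : N) : θ₂ R N (s ⊗ₜ[R] n) = (i₁ R s) ⊗ₜ[S, i₂ R] n :=
  TensorProduct.liftAddHom_tmul _ _ _ _

theorem θ₂_fϑ (w : S ⊗[R] S) (n : N) : θ₂ R N (fϑ R N w n) = w ⊗ₜ[S, i₂ R] n := by
  induction w using TensorProduct.induction_on with
  | zero =>
    let _ : Module S (S ⊗[R] S) := Module.compHom _ (i₂ R)
    rw [map_zero, AddMonoidHom.zero_apply, map_zero]
    exact (TensorProduct.zero_tmul _ _).symm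
  | tmul s s' =>
    rw [fϑ_tmul, θ₂_tmul, ← smul_tmul_E]
    congr 1
    show ((1 : S) ⊗ₜ[R] s') * (s ⊗ₜ[R] (1 : S)) = _
    rw [Algebra.TensorProduct.tmul_mul_tmul, one_mul, mul_one]
  | add x y hx hy =>
    let _ : Module S (S ⊗[R] S) := Module.compHom _ (i₂ R)
    rw [map_add, AddMonoidHom.add_apply, map_add, hx, hy]
    exact (TensorProduct.add_tmul _ _ _).symm

theorem θ₂_ϑ (y : (ModuleCat.extendScalars (i₂ R)).obj N) : θ₂ R N (ϑ R N y) = y := by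
  induction y using induction_E with
  | zero => rw [map_zero, map_zero]
  | tmul w n => exact (congrArg (θ₂ R N) (liftE_tmul _ _ _ _ _ _)).trans (θ₂_fϑ R N w n)
  | add y y' hy hy' => rw [map_add, map_add, hy, hy']


/-! ### The triple overlap `T₃ = S ⊗ (S ⊗ S)` -/

/-- `S ⊗ S → S ⊗ (S ⊗ S)`, `w ↦ 1 ⊗ w`. -/
noncomputable abbrev g₂₃ : S ⊗[R] S →+* S ⊗[R] (S ⊗[R] S) :=
  ((Algebra.TensorProduct.includeRight : S ⊗[R] S →ₐ[R] S ⊗[R] (S ⊗[R] S)) : S ⊗[R] S →+* S ⊗[R] (S ⊗[R] S))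
/-- `S ⊗ S → S ⊗ (S ⊗ S)`, `s ⊗ s' ↦ s ⊗ (s' ⊗ 1)`. -/
noncomputable abbrev g₁₂ : S ⊗[R] S →+* S ⊗[R] (S ⊗[R] S) :=
  ((Algebra.TensorProduct.map (AlgHom.id R S)
    (Algebra.TensorProduct.includeLeft : S →ₐ[R] S ⊗[R] S) : S ⊗[R] S →ₐ[R] S ⊗[R] (S ⊗[R] S)) :
      S ⊗[R] S →+* S ⊗[R] (S ⊗[R] S))
/-- `S ⊗ S → S ⊗ (S ⊗ S)`, `s ⊗ s' ↦ s ⊗ (1 ⊗ s')`. -/
noncomputable abbrev g₁₃ : S ⊗[R] S →+* S ⊗[R] (S ⊗[R] S) :=
  ((Algebra.TensorProduct.map (AlgHom.id R S)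
    (Algebra.TensorProduct.includeRight : S →ₐ[R] S ⊗[R] S) : S ⊗[R] S →ₐ[R] S ⊗[R] (S ⊗[R] S)) :
      S ⊗[R] S →+* S ⊗[R] (S ⊗[R] S))
/-- `s ↦ s ⊗ (1 ⊗ 1)` -/
noncomputable abbrev j₁ : S →+* S ⊗[R] (S ⊗[R] S) := Algebra.TensorProduct.includeLeftRingHom
/-- `s ↦ 1 ⊗ (s ⊗ 1)` -/
noncomputable abbrev j₂ : S →+* S ⊗[R] (S ⊗[R] S) := (g₂₃ R).comp (i₁ R)
/-- `s ↦ 1 ⊗ (1 ⊗ s)` -/
noncomputable abbrev j₃ : S →+* S ⊗[R] (S ⊗[R] S) := (g₂₃ R).comp (i₂ R)
/-- multiplication `S ⊗ S → S` -/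
noncomputable abbrev mS : S ⊗[R] S →+* S :=
  ((Algebra.TensorProduct.lmul' R : S ⊗[R] S →ₐ[R] S) : S ⊗[R] S →+* S)

theorem g₂₃_apply (w : S ⊗[R] S) : g₂₃ R w = (1 : S) ⊗ₜ[R] w := rfl
theorem g₁₂_tmul (s s' : S) : g₁₂ R (s ⊗ₜ[R] s') = s ⊗ₜ[R] (s' ⊗ₜ[R] (1 : S)) := rfl
theorem g₁₃_tmul (s s' : S) : g₁₃ R (s ⊗ₜ[R] s') = s ⊗ₜ[R] ((1 : S) ⊗ₜ[R] s') := rfl
theorem j₁_apply (s : S) : j₁ R s = s ⊗ₜ[R] ((1 : S) ⊗ₜ[R] (1 : S)) := rfl
theorem j₂_apply (s : S) : j₂ R s = (1 : S) ⊗ₜ[R] (s ⊗ₜ[R] (1 : S)) := rfl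
theorem j₃_apply (s : S) : j₃ R s = (1 : S) ⊗ₜ[R] ((1 : S) ⊗ₜ[R] s) := rfl
theorem mS_tmul (s s' : S) : mS R (s ⊗ₜ[R] s') = s * s' := by simp [mS]

/-- The bi-additive map `(x, n) ↦ (id ⊗ (id ⊗ (· • n))) x : S ⊗ (S ⊗ S) → N → S ⊗ (S ⊗ N)`. -/
noncomputable def fΞ : (S ⊗[R] (S ⊗[R] S)) →+ N →+ S ⊗[R] (S ⊗[R] N) :=
  AddMonoidHom.mk' (fun x => AddMonoidHom.mk'
    (fun n => LinearMap.lTensor S (LinearMap.lTensor S (σ R N n)) x)
    (fun n n' => by
      rw [map_add, LinearMap.lTensor_add, LinearMap.lTensor_add, LinearMap.add_apply]))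
    (fun x x' => by ext n; simp)

theorem fΞ_tmul (s : S) (w : S ⊗[R] S) (n : N) :
    fΞ R N (s ⊗ₜ[R] w) n = s ⊗ₜ[R] (fϑ R N w n) := rfl

theorem fΞ_balanced (s₀ : S) (x : S ⊗[R] (S ⊗[R] S)) (n : N) :
    fΞ R N (j₃ R s₀ * x) n = fΞ R N x (s₀ • n) := by
  induction x using TensorProduct.induction_on with
  | zero => simp
  | tmul s w =>
    show fΞ R N (((1 : S) ⊗ₜ[R] (i₂ R s₀)) * (s ⊗ₜ[R] w)) n = _
    rw [Algebra.TensorProduct.tmul_mul_tmul, fΞ_tmul, fΞ_tmul, one_mul, fϑ_balanced]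
  | add x y hx hy =>
    rw [mul_add, map_add, map_add, AddMonoidHom.add_apply, AddMonoidHom.add_apply, hx, hy]

/-- `Ξ : T₃ ⊗_{S, j₃} N → S ⊗ (S ⊗ N)`, `(s ⊗ (s' ⊗ s'')) ⊗ n ↦ s ⊗ (s' ⊗ s'' n)`. -/
noncomputable def Ξ : (ModuleCat.extendScalars (j₃ R)).obj N →+ S ⊗[R] (S ⊗[R] N) :=
  liftE (j₃ R) N (fΞ R N) (fΞ_balanced R N)

theorem Ξ_tmul (x : S ⊗[R] (S ⊗[R] S)) (n : N) :
    Ξ R N (x ⊗ₜ[S, j₃ R] n) = fΞ R N x n :=
  liftE_tmul _ _ _ _ _ _

/-- The bi-additive map `(t, n) ↦ t • n`. -/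
noncomputable def fL : S →+ N →+ N :=
  AddMonoidHom.mk' (fun t => AddMonoidHom.mk' (fun n => t • n) (fun n n' => smul_add t n n'))
    (fun t t' => by ext n; exact add_smul t t' n)

/-- `S ⊗_{S, id} N → N`, `t ⊗ n ↦ t • n`. -/
noncomputable def lidE : (ModuleCat.extendScalars (RingHom.id S)).obj N →+ N :=
  liftE (RingHom.id S) N (fL N) (fun s t n => by
    show (s * t) • n = t • s • n
    rw [mul_comm, mul_smul])

theorem lidE_tmul (t : S) (n : N) : lidE N (t ⊗ₜ[S, RingHom.id S] n) = t • n :=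
  liftE_tmul _ _ _ _ _ _


/-! ### The core theorem -/

section main
variable (β : N →+ (ModuleCat.extendScalars (i₂ R)).obj N)
  (hβ : ∀ (s : S) (n : N), β (s • n) = i₁ R s • β n)

/-- The coaction `ψ = ϑ ∘ β : N → S ⊗ N`. -/
noncomputable def ψ : N →ₗ[R] S ⊗[R] N where
  toFun n := ϑ R N (β n)
  map_add' n n' := by rw [map_add, map_add]
  map_smul' r n := by
    show ϑ R N (β ((algebraMap R S r) • n)) = r • ϑ R N (β n)
    rw [hβ, ϑ_smul, algebraMap_smul]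

theorem ψ_apply (n : N) : ψ R N β hβ n = ϑ R N (β n) := rfl

/-- The submodule of invariants. -/
noncomputable def invSub : Submodule R N :=
  LinearMap.ker (ψ R N β hβ - TensorProduct.mk R S N 1)

theorem mem_invSub (n : N) : n ∈ invSub R N β hβ ↔ ψ R N β hβ n = (1 : S) ⊗ₜ[R] n := by
  rw [invSub, LinearMap.mem_ker, LinearMap.sub_apply, sub_eq_zero]
  rfl

theorem β_of_mem (n : N) (hn : n ∈ invSub R N β hβ) : β n = (1 : S ⊗[R] S) ⊗ₜ[S, i₂ R] n := by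
  have h := (mem_invSub R N β hβ n).mp hn
  rw [ψ_apply] at h
  have h2 := congrArg (θ₂ R N) h
  rw [θ₂_ϑ, θ₂_tmul, map_one] at h2
  exact h2

variable
  (Dm : (ModuleCat.extendScalars (i₂ R)).obj N →+ (ModuleCat.extendScalars (RingHom.id S)).obj N)
  (hDm : ∀ (w : S ⊗[R] S) (n : N), Dm (w ⊗ₜ[S, i₂ R] n) = (mS R w) ⊗ₜ[S, RingHom.id S] n)
  (hunit : ∀ n : N, Dm (β n) = (1 : S) ⊗ₜ[S, RingHom.id S] n)
  (D₁₂ : (ModuleCat.extendScalars (i₂ R)).obj N →+ (ModuleCat.extendScalars (j₂ R)).obj N)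
  (hD₁₂ : ∀ (w : S ⊗[R] S) (n : N), D₁₂ (w ⊗ₜ[S, i₂ R] n) = (g₁₂ R w) ⊗ₜ[S, j₂ R] n)
  (D₁₃ : (ModuleCat.extendScalars (i₂ R)).obj N →+ (ModuleCat.extendScalars (j₃ R)).obj N)
  (hD₁₃ : ∀ (w : S ⊗[R] S) (n : N), D₁₃ (w ⊗ₜ[S, i₂ R] n) = (g₁₃ R w) ⊗ₜ[S, j₃ R] n)
  (D₂₃ : (ModuleCat.extendScalars (i₂ R)).obj N →+ (ModuleCat.extendScalars (j₃ R)).obj N)
  (hD₂₃ : ∀ (w : S ⊗[R] S) (n : N), D₂₃ (w ⊗ₜ[S, i₂ R] n) = (g₂₃ R w) ⊗ₜ[S, j₃ R] n)
  (Φ₂₃ : (ModuleCat.extendScalars (j₂ R)).obj N →+ (ModuleCat.extendScalars (j₃ R)).obj N)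
  (hΦs : ∀ (t : S ⊗[R] (S ⊗[R] S)) (x : (ModuleCat.extendScalars (j₂ R)).obj N), Φ₂₃ (t • x) = t • Φ₂₃ x)
  (hΦ1 : ∀ n : N, Φ₂₃ ((1 : S ⊗[R] (S ⊗[R] S)) ⊗ₜ[S, j₂ R] n) = D₂₃ (β n))
  (hcoc : ∀ n : N, D₁₃ (β n) = Φ₂₃ (D₁₂ (β n)))

include hDm in
theorem δ_ϑ (y : (ModuleCat.extendScalars (i₂ R)).obj N) :
    Groth.Agent.Lib.Seat58.DescAlg.δ (A := R) (A' := S) (M' := N) (ϑ R N y) = lidE N (Dm y) := by
  induction y using induction_E with
  | zero => rw [map_zero, map_zero, map_zero, map_zero]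
  | tmul w n =>
    rw [hDm, lidE_tmul]
    refine (congrArg _ (liftE_tmul _ _ _ _ _ _)).trans ?_
    induction w using TensorProduct.induction_on with
    | zero => simp
    | tmul s s' =>
      rw [fϑ_tmul, Groth.Agent.Lib.Seat58.DescAlg.δ_tmul, mS_tmul, mul_smul]
    | add x y hx hy =>
      rw [map_add, AddMonoidHom.add_apply, map_add, hx, hy, map_add, add_smul]
  | add y y' hy hy' => rw [map_add, map_add, map_add, map_add, hy, hy']

include hD₁₃ in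
theorem Ξ_D₁₃ (y : (ModuleCat.extendScalars (i₂ R)).obj N) :
    Ξ R N (D₁₃ y) = LinearMap.lTensor S (TensorProduct.mk R S N 1) (ϑ R N y) := by
  induction y using induction_E with
  | zero => rw [map_zero, map_zero, map_zero, map_zero]
  | tmul w n =>
    rw [hD₁₃, Ξ_tmul]
    refine Eq.trans ?_ (congrArg _ (liftE_tmul _ _ _ _ _ _)).symm
    induction w using TensorProduct.induction_on with
    | zero => simp
    | tmul s s' =>
      rw [g₁₃_tmul, fΞ_tmul, fϑ_tmul, fϑ_tmul, LinearMap.lTensor_tmul]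
      rfl
    | add x y hx hy =>
      rw [map_add, map_add, AddMonoidHom.add_apply, hx, hy, map_add, AddMonoidHom.add_apply, map_add]
  | add y y' hy hy' => rw [map_add, map_add, map_add, map_add, hy, hy']


include hD₂₃ in
theorem Ξ_j₁_D₂₃ (s : S) (z : (ModuleCat.extendScalars (i₂ R)).obj N) :
    Ξ R N (j₁ R s • D₂₃ z) = s ⊗ₜ[R] (ϑ R N z) := by
  induction z using induction_E with
  | zero => rw [map_zero, smul_zero, map_zero, map_zero, TensorProduct.tmul_zero]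
  | tmul w n =>
    rw [hD₂₃, ModuleCat.ExtendScalars.smul_tmul, Ξ_tmul]
    refine Eq.trans ?_ (congrArg (s ⊗ₜ[R] ·) (liftE_tmul _ _ _ _ _ _)).symm
    rw [← fΞ_tmul]
    congr 2
    show (s ⊗ₜ[R] ((1 : S) ⊗ₜ[R] (1 : S))) * ((1 : S) ⊗ₜ[R] w) = s ⊗ₜ[R] w
    rw [Algebra.TensorProduct.tmul_mul_tmul, mul_one]
    congr 1
    exact one_mul w
  | add y y' hy hy' =>
    rw [map_add, smul_add, map_add, map_add, hy, hy', TensorProduct.tmul_add]

include hβ hD₁₂ hD₂₃ hΦs hΦ1 in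
theorem Ξ_Φ₂₃_D₁₂ (y : (ModuleCat.extendScalars (i₂ R)).obj N) :
    Ξ R N (Φ₂₃ (D₁₂ y)) = LinearMap.lTensor S (ψ R N β hβ) (ϑ R N y) := by
  induction y using induction_E with
  | zero => rw [map_zero, map_zero, map_zero, map_zero, map_zero]
  | tmul w n =>
    rw [hD₁₂]
    refine Eq.trans ?_ (congrArg _ (liftE_tmul _ _ _ _ _ _)).symm
    induction w using TensorProduct.induction_on with
    | zero =>
      let _ : Module S (S ⊗[R] (S ⊗[R] S)) := Module.compHom _ (j₂ R)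
      rw [map_zero, map_zero, AddMonoidHom.zero_apply, map_zero]
      have : ((0 : S ⊗[R] (S ⊗[R] S)) ⊗ₜ[S] n : (ModuleCat.extendScalars (j₂ R)).obj N) = 0 :=
        TensorProduct.zero_tmul _ _
      rw [this, map_zero, map_zero]
    | tmul s s' =>
      have e1 : ((g₁₂ R (s ⊗ₜ[R] s')) ⊗ₜ[S, j₂ R] n : (ModuleCat.extendScalars (j₂ R)).obj N) =
          j₁ R s • (((1 : S ⊗[R] (S ⊗[R] S)) ⊗ₜ[S, j₂ R] (s' • n)) :
            (ModuleCat.extendScalars (j₂ R)).obj N) := by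
        rw [ModuleCat.ExtendScalars.smul_tmul, ← smul_tmul_E]
        congr 1
        show s ⊗ₜ[R] (s' ⊗ₜ[R] (1 : S)) =
          ((1 : S) ⊗ₜ[R] (s' ⊗ₜ[R] (1 : S))) * ((s ⊗ₜ[R] ((1 : S) ⊗ₜ[R] (1 : S))) * 1)
        rw [mul_one, Algebra.TensorProduct.tmul_mul_tmul, one_mul]
        congr 1
        exact (mul_one _).symm
      rw [e1, hΦs, hΦ1, Ξ_j₁_D₂₃ R N D₂₃ hD₂₃, fϑ_tmul, LinearMap.lTensor_tmul]
      rfl
    | add x y hx hy =>
      let _ : Module S (S ⊗[R] (S ⊗[R] S)) := Module.compHom _ (j₂ R)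
      have : (((g₁₂ R) (x + y)) ⊗ₜ[S] n : (ModuleCat.extendScalars (j₂ R)).obj N) =
          ((g₁₂ R) x) ⊗ₜ[S] n + ((g₁₂ R) y) ⊗ₜ[S] n := by
        rw [map_add]; exact TensorProduct.add_tmul _ _ _
      rw [this, map_add, map_add, hx, hy, map_add, AddMonoidHom.add_apply, map_add]
  | add y y' hy hy' => rw [map_add, map_add, map_add, map_add, map_add, hy, hy']

include hDm hunit hD₁₂ hD₁₃ hD₂₃ hΦs hΦ1 hcoc in
/-- **Effectivity, algebraic core**: the multiplication map `S ⊗ M → N` from the invariants is bijective. -/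
theorem bijective_of_descent [Module.Flat R S] :
    Function.Bijective
      (Groth.Agent.Lib.Seat58.DescAlg.δ (A := R) (A' := S) (M' := N) ∘ₗ
        LinearMap.lTensor S (invSub R N β hβ).subtype) := by
  refine Groth.Agent.Lib.Seat58.DescAlg.coalg_descent (A := R) (A' := S) (M' := N) (ψ R N β hβ)
    ?_ ?_ ?_ (invSub R N β hβ) (mem_invSub R N β hβ)
  · intro x u
    rw [ψ_apply, ψ_apply, hβ, ϑ_smul]
  · intro u
    rw [ψ_apply, δ_ϑ R N Dm hDm, hunit, lidE_tmul, one_smul]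
  · intro u
    rw [ψ_apply, ← Ξ_Φ₂₃_D₁₂ R N β hβ D₁₂ hD₁₂ D₂₃ hD₂₃ Φ₂₃ hΦs hΦ1, ← hcoc, Ξ_D₁₃ R N D₁₃ hD₁₃]

end main



/-! ### Packaging as an isomorphism in `ModuleCat S` -/

section iso
variable (M : Submodule R N)

/-- The bi-additive map `(s, m) ↦ s • m`. -/
noncomputable def fμ : S →+ M →+ N :=
  AddMonoidHom.mk' (fun s => AddMonoidHom.mk' (fun m => s • (m : N))
    (fun m m' => by rw [Submodule.coe_add, smul_add]))
    (fun s s' => by ext m; exact add_smul s s' (m : N))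

/-- The multiplication map `S ⊗_{R, algebraMap} M → N` as an additive map. -/
noncomputable def μAdd : (ModuleCat.extendScalars (algebraMap R S)).obj (ModuleCat.of R M) →+ N :=
  liftE (algebraMap R S) (ModuleCat.of R M) (fμ R N M) (fun r s m => by
    show (algebraMap R S r * s) • ((m : N)) = s • ((r • m : M) : N)
    rw [Submodule.coe_smul, mul_comm, mul_smul]
    rfl)

theorem μAdd_tmul (s : S) (m : M) :
    μAdd R N M (s ⊗ₜ[R, algebraMap R S] m) = s • (m : N) :=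
  liftE_tmul _ _ _ _ _ _

/-- The multiplication map as a morphism of `S`-modules. -/
noncomputable def μHom : (ModuleCat.extendScalars (algebraMap R S)).obj (ModuleCat.of R M) ⟶ N :=
  ModuleCat.ofHom
    { toFun := μAdd R N M
      map_add' := map_add _
      map_smul' := fun s₀ x => by
        show μAdd R N M (s₀ • x) = s₀ • μAdd R N M x
        induction x using induction_E with
        | zero => rw [smul_zero, map_zero, smul_zero]
        | tmul s m =>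
          rw [ModuleCat.ExtendScalars.smul_tmul, μAdd_tmul]
          erw [μAdd_tmul]
          rw [mul_smul]
        | add x y hx hy => rw [smul_add, map_add, map_add, hx, hy, smul_add] }

theorem μHom_apply (x : (ModuleCat.extendScalars (algebraMap R S)).obj (ModuleCat.of R M)) :
    (ModuleCat.Hom.hom (μHom R N M)) x = μAdd R N M x := rfl

/-- comparison `S ⊗_{R, algebraMap} M → S ⊗[R] M` -/
noncomputable def cmp : (ModuleCat.extendScalars (algebraMap R S)).obj (ModuleCat.of R M) →+ S ⊗[R] M :=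
  liftE (algebraMap R S) (ModuleCat.of R M)
    (AddMonoidHom.mk' (fun s => AddMonoidHom.mk' (fun m => s ⊗ₜ[R] m)
      (fun m m' => TensorProduct.tmul_add _ _ _)) (fun s s' => by ext m; exact TensorProduct.add_tmul _ _ _))
    (fun r s m => by
      show (algebraMap R S r * s) ⊗ₜ[R] m = s ⊗ₜ[R] (r • m)
      rw [← Algebra.smul_def, TensorProduct.smul_tmul])

theorem cmp_tmul (s : S) (m : M) : cmp R N M (s ⊗ₜ[R, algebraMap R S] m) = s ⊗ₜ[R] m :=
  liftE_tmul _ _ _ _ _ _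

/-- comparison `S ⊗[R] M → S ⊗_{R, algebraMap} M` -/
noncomputable def cmp' : S ⊗[R] M →+ (ModuleCat.extendScalars (algebraMap R S)).obj (ModuleCat.of R M) :=
  TensorProduct.liftAddHom
    (AddMonoidHom.mk' (fun s => AddMonoidHom.mk' (fun m => (s ⊗ₜ[R, algebraMap R S] m :
        (ModuleCat.extendScalars (algebraMap R S)).obj (ModuleCat.of R M)))
      (fun m m' => by
        let _ : Module R S := Module.compHom S (algebraMap R S)
        exact TensorProduct.tmul_add _ _ _))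
      (fun s s' => by
        ext m
        let _ : Module R S := Module.compHom S (algebraMap R S)
        exact TensorProduct.add_tmul _ _ _))
    (fun r s m => by
      show ((r • s) ⊗ₜ[R, algebraMap R S] m : (ModuleCat.extendScalars (algebraMap R S)).obj (ModuleCat.of R M)) =
        s ⊗ₜ[R, algebraMap R S] (r • m)
      rw [Algebra.smul_def]
      exact smul_tmul_E (algebraMap R S) (ModuleCat.of R M) r s m)

theorem cmp'_tmul (s : S) (m : M) : cmp' R N M (s ⊗ₜ[R] m) = s ⊗ₜ[R, algebraMap R S] m :=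
  TensorProduct.liftAddHom_tmul _ _ _ _

theorem cmp'_cmp (x) : cmp' R N M (cmp R N M x) = x := by
  induction x using induction_E with
  | zero => rw [map_zero, map_zero]
  | tmul s m => rw [cmp_tmul, cmp'_tmul]
  | add x y hx hy => rw [map_add, map_add, hx, hy]

theorem cmp_cmp' (x) : cmp R N M (cmp' R N M x) = x := by
  induction x using TensorProduct.induction_on with
  | zero => rw [map_zero, map_zero]
  | tmul s m => rw [cmp'_tmul, cmp_tmul]
  | add x y hx hy => rw [map_add, map_add, hx, hy]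

theorem μAdd_eq (x) :
    μAdd R N M x = (Groth.Agent.Lib.Seat58.DescAlg.δ (A := R) (A' := S) (M' := N) ∘ₗ
        LinearMap.lTensor S M.subtype) (cmp R N M x) := by
  induction x using induction_E with
  | zero => rw [map_zero, map_zero, map_zero]
  | tmul s m =>
    rw [μAdd_tmul, cmp_tmul, LinearMap.comp_apply, LinearMap.lTensor_tmul,
      Groth.Agent.Lib.Seat58.DescAlg.δ_tmul]
    rfl
  | add x y hx hy => rw [map_add, map_add, map_add, hx, hy]

theorem bijective_μAdd (h : Function.Bijective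
    (Groth.Agent.Lib.Seat58.DescAlg.δ (A := R) (A' := S) (M' := N) ∘ₗ LinearMap.lTensor S M.subtype)) :
    Function.Bijective (μAdd R N M) := by
  have hc : Function.Bijective (cmp R N M) :=
    ⟨Function.LeftInverse.injective (cmp'_cmp R N M), Function.RightInverse.surjective (cmp_cmp' R N M)⟩
  have : ⇑(μAdd R N M) = ⇑(Groth.Agent.Lib.Seat58.DescAlg.δ (A := R) (A' := S) (M' := N) ∘ₗ
      LinearMap.lTensor S M.subtype) ∘ ⇑(cmp R N M) := funext (μAdd_eq R N M)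
  rw [this]
  exact h.comp hc

end iso


section final
variable (β : N →+ (ModuleCat.extendScalars (i₂ R)).obj N)
  (hβ : ∀ (s : S) (n : N), β (s • n) = i₁ R s • β n)
  (Dm : (ModuleCat.extendScalars (i₂ R)).obj N →+ (ModuleCat.extendScalars (RingHom.id S)).obj N)
  (hDm : ∀ (w : S ⊗[R] S) (n : N), Dm (w ⊗ₜ[S, i₂ R] n) = (mS R w) ⊗ₜ[S, RingHom.id S] n)
  (hunit : ∀ n : N, Dm (β n) = (1 : S) ⊗ₜ[S, RingHom.id S] n)
  (D₁₂ : (ModuleCat.extendScalars (i₂ R)).obj N →+ (ModuleCat.extendScalars (j₂ R)).obj N)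
  (hD₁₂ : ∀ (w : S ⊗[R] S) (n : N), D₁₂ (w ⊗ₜ[S, i₂ R] n) = (g₁₂ R w) ⊗ₜ[S, j₂ R] n)
  (D₁₃ : (ModuleCat.extendScalars (i₂ R)).obj N →+ (ModuleCat.extendScalars (j₃ R)).obj N)
  (hD₁₃ : ∀ (w : S ⊗[R] S) (n : N), D₁₃ (w ⊗ₜ[S, i₂ R] n) = (g₁₃ R w) ⊗ₜ[S, j₃ R] n)
  (D₂₃ : (ModuleCat.extendScalars (i₂ R)).obj N →+ (ModuleCat.extendScalars (j₃ R)).obj N)
  (hD₂₃ : ∀ (w : S ⊗[R] S) (n : N), D₂₃ (w ⊗ₜ[S, i₂ R] n) = (g₂₃ R w) ⊗ₜ[S, j₃ R] n)
  (Φ₂₃ : (ModuleCat.extendScalars (j₂ R)).obj N →+ (ModuleCat.extendScalars (j₃ R)).obj N)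
  (hΦs : ∀ (t : S ⊗[R] (S ⊗[R] S)) (x : (ModuleCat.extendScalars (j₂ R)).obj N), Φ₂₃ (t • x) = t • Φ₂₃ x)
  (hΦ1 : ∀ n : N, Φ₂₃ ((1 : S ⊗[R] (S ⊗[R] S)) ⊗ₜ[S, j₂ R] n) = D₂₃ (β n))
  (hcoc : ∀ n : N, D₁₃ (β n) = Φ₂₃ (D₁₂ (β n)))

include hβ hDm hunit hD₁₂ hD₁₃ hD₂₃ hΦs hΦ1 hcoc in
/-- **Effectivity**: there is an `R`-module `M` with `S ⊗_R M ≅ N`, the elements `1 ⊗ m` being
invariant under the descent datum. -/
theorem exists_iso_of_descent [Module.Flat R S] :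
    ∃ (M : ModuleCat.{u} R) (e : (ModuleCat.extendScalars (algebraMap R S)).obj M ≅ N),
      ∀ m : M, β (ev e.hom ((1 : S) ⊗ₜ[R, algebraMap R S] m)) =
        (1 : S ⊗[R] S) ⊗ₜ[S, i₂ R] (ev e.hom ((1 : S) ⊗ₜ[R, algebraMap R S] m)) := by
  have hbij := bijective_μAdd R N (invSub R N β hβ)
    (bijective_of_descent R N β hβ Dm hDm hunit D₁₂ hD₁₂ D₁₃ hD₁₃ D₂₃ hD₂₃ Φ₂₃ hΦs hΦ1 hcoc)
  let E : ((ModuleCat.extendScalars (algebraMap R S)).obj (ModuleCat.of R (invSub R N β hβ))) ≃ₗ[S] N :=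
    LinearEquiv.ofBijective (ModuleCat.Hom.hom (μHom R N (invSub R N β hβ))) hbij
  refine ⟨ModuleCat.of R (invSub R N β hβ), E.toModuleIso, ?_⟩
  intro m
  have h1 : ev E.toModuleIso.hom ((1 : S) ⊗ₜ[R, algebraMap R S] m) = ((m : invSub R N β hβ) : N) := by
    show μAdd R N (invSub R N β hβ) ((1 : S) ⊗ₜ[R, algebraMap R S] m) = _
    rw [μAdd_tmul, one_smul]
  rw [h1]
  exact β_of_mem R N β hβ _ (Subtype.property (m : invSub R N β hβ))

end final

end core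

end Groth.Agent.Lib.Seat78.EffAlg
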