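import Groth.Agent.Lib.Seat78ExtPFEff
import Groth.Agent.Lib.Seat78EffAlg

/-!
# Seat78: effectivity of faithfully flat descent for modules (assembly)

`exists_iso`: for a flat ring map `R → S` (such that the algebraic criterion of `Seat78EffAlg` applies,
i.e. `Module.Flat R S`), every descent datum for `ringModPF`-like pseudofunctors
`F = (unopUnop CommRingCat).toPseudofunctor.comp moduleCatExtendScalarsPseudofunctor` relative to
`Spec S ⟶ Spec R` is isomorphic to the canonical descent datum of an `R`-module.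

The proof translates the descent datum into the algebraic data `(N, β, …)` of
`Seat78EffAlg.exists_iso_of_descent` (pull-backs to `S ⊗ S`, `S ⊗ S ⊗ S` and along the diagonal), and uses
`Seat78ExtPFEff.nonempty_iso_of_commHyp` with the chosen pullback `Spec (S ⊗ S)`.
-/

set_option autoImplicit false
set_option backward.isDefEq.respectTransparency false
set_option backward.isDefEq.respectTransparency.types false
set_option backward.defeqAttrib.useBackward true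

open CategoryTheory Opposite TensorProduct Limits
open ChangeOfRings
open Groth.Agent.Lib.Seat78.ExtPF Groth.Agent.Lib.Seat78.ExtPFDesc Groth.Agent.Lib.Seat78.ExtPFEff
open Groth.Agent.Lib.Seat78.EffAlg

universe u

namespace Groth.Agent.Lib.Seat78.EffMain

/-- The morphism of `CommRingCatᵒᵖ` attached to a ring homomorphism. -/
abbrev mor {A B : Type u} [CommRing A] [CommRing B] (r : A →+* B) :
    (op (CommRingCat.of B) : CommRingCat.{u}ᵒᵖ) ⟶ op (CommRingCat.of A) := (CommRingCat.ofHom r).op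

theorem mor_comp {A B C : Type u} [CommRing A] [CommRing B] [CommRing C] (r : A →+* B) (s : B →+* C)
    (t : A →+* C) (h : s.comp r = t) : mor s ≫ mor r = mor t := by
  subst h
  rfl

theorem mor_id {A : Type u} [CommRing A] : mor (RingHom.id A) = 𝟙 _ := rfl

section
variable (R S : Type u) [CommRing R] [CommRing S] [Algebra R S]

theorem rel_i (R S : Type u) [CommRing R] [CommRing S] [Algebra R S] :
    (i₁ R).comp (algebraMap R S) = (i₂ R).comp (algebraMap R S) :=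
  RingHom.ext fun r => i₁_algebraMap R r

theorem rel_m₁ : (mS R).comp (i₁ R) = RingHom.id S := RingHom.ext fun s => by simp [mS]
theorem rel_m₂ : (mS R).comp (i₂ R) = RingHom.id S := RingHom.ext fun s => by simp [mS]
theorem rel_12_1 : (g₁₂ R).comp (i₁ R) = (j₁ R : S →+* _) := RingHom.ext fun s => by
  show g₁₂ R (s ⊗ₜ[R] (1:S)) = _
  rw [g₁₂_tmul]; rfl
theorem rel_12_2 : (g₁₂ R).comp (i₂ R) = (j₂ R : S →+* _) := RingHom.ext fun s => by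
  show g₁₂ R ((1:S) ⊗ₜ[R] s) = _
  rw [g₁₂_tmul]; rfl
theorem rel_13_1 : (g₁₃ R).comp (i₁ R) = (j₁ R : S →+* _) := RingHom.ext fun s => by
  show g₁₃ R (s ⊗ₜ[R] (1:S)) = _
  rw [g₁₃_tmul]; rfl
theorem rel_13_2 : (g₁₃ R).comp (i₂ R) = (j₃ R : S →+* _) := RingHom.ext fun s => by
  show g₁₃ R ((1:S) ⊗ₜ[R] s) = _
  rw [g₁₃_tmul]; rfl
theorem rel_23_1 : (g₂₃ R).comp (i₁ R) = (j₂ R : S →+* _) := rfl
theorem rel_23_2 : (g₂₃ R).comp (i₂ R) = (j₃ R : S →+* _) := rfl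

example : HasPullbacks CommRingCat.{u}ᵒᵖ := inferInstance

/-- The chosen pullback `Spec (S ⊗ S)` of `Spec S → Spec R` with itself. -/
noncomputable def sq : ChosenPullback (mor (algebraMap R S)) (mor (algebraMap R S)) where
  pullback := op (CommRingCat.of (S ⊗[R] S))
  p₁ := mor (i₁ R)
  p₂ := mor (i₂ R)
  condition := (mor_comp _ _ _ rfl).trans (mor_comp _ _ _ (rel_i R S).symm).symm
  isLimit := ((CommRingCat.isPushout_tensorProduct R S S).op.flip).isLimit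

end

section main
/-- the functor `(CommRingCatᵒᵖ)ᵒᵖ ⥤ CommRingCat` -/
noncomputable abbrev G₀ : (CommRingCat.{u}ᵒᵖ)ᵒᵖ ⥤ CommRingCat.{u} := unopUnop CommRingCat.{u}

set_option quotPrecheck false in
local notation "FG₀" => Pseudofunctor.comp (Functor.toPseudofunctor G₀) CommRingCat.moduleCatExtendScalarsPseudofunctor

variable (R S : Type u) [CommRing R] [CommRing S] [Algebra R S]

/-- projection of `Spec (S ⊗ S)` to `Spec R` -/
noncomputable abbrev q₂ : (op (CommRingCat.of (S ⊗[R] S)) : CommRingCat.{u}ᵒᵖ) ⟶ op (CommRingCat.of R) :=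
  mor (i₁ R) ≫ mor (algebraMap R S)

theorem h₂ : mor (i₂ R) ≫ mor (algebraMap R S) = q₂ R S := (sq R S).condition.symm

/-- projection of `Spec (S ⊗ S ⊗ S)` to `Spec R` -/
noncomputable abbrev q₃ : (op (CommRingCat.of (S ⊗[R] (S ⊗[R] S))) : CommRingCat.{u}ᵒᵖ) ⟶ op (CommRingCat.of R) :=
  mor (j₁ R) ≫ mor (algebraMap R S)

theorem hq₁₂ : mor (g₁₂ R) ≫ q₂ R S = q₃ R S := by
  rw [← Category.assoc, mor_comp _ _ _ (rel_12_1 R S)]
theorem hq₁₃ : mor (g₁₃ R) ≫ q₂ R S = q₃ R S := by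
  rw [← Category.assoc, mor_comp _ _ _ (rel_13_1 R S)]
theorem hρ₂ : mor (j₂ R) ≫ mor (algebraMap R S) = q₃ R S := by
  have h : mor (g₁₂ R) ≫ mor (i₂ R) ≫ mor (algebraMap R S) = q₃ R S := by
    rw [h₂]; exact hq₁₂ R S
  rw [← Category.assoc, mor_comp _ _ _ (rel_12_2 R S)] at h
  exact h
theorem hρ₃ : mor (j₃ R) ≫ mor (algebraMap R S) = q₃ R S := by
  have h : mor (g₁₃ R) ≫ mor (i₂ R) ≫ mor (algebraMap R S) = q₃ R S := by
    rw [h₂]; exact hq₁₃ R S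
  rw [← Category.assoc, mor_comp _ _ _ (rel_13_2 R S)] at h
  exact h
theorem hq₂₃ : mor (g₂₃ R) ≫ q₂ R S = q₃ R S := by
  rw [← Category.assoc, mor_comp _ _ _ (rel_23_1 R S)]
  exact hρ₂ R S


/-- the `S`-module of the descent datum -/
noncomputable abbrev Nm (D : (FG₀).DescentData (fun _ : PUnit.{u + 1} => mor (algebraMap R S))) : ModuleCat.{u} S := objM G₀ D PUnit.unit

/-- the descent map `N → (S ⊗ S) ⊗_{i₂} N` -/
noncomputable def βm (D : (FG₀).DescentData (fun _ : PUnit.{u + 1} => mor (algebraMap R S))) : Nm R S D →+ (ModuleCat.extendScalars (i₂ R)).obj (Nm R S D) :=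
  AddMonoidHom.mk' (βG G₀ D (q₂ R S) (mor (i₁ R)) (mor (i₂ R)) rfl (h₂ R S))
    (βG_add G₀ D (q₂ R S) (mor (i₁ R)) (mor (i₂ R)) rfl (h₂ R S))

theorem βm_smul (D : (FG₀).DescentData (fun _ : PUnit.{u + 1} => mor (algebraMap R S))) (s : S) (n : Nm R S D) : βm R S D (s • n) = i₁ R s • βm R S D n :=
  βG_smul G₀ D (q₂ R S) (mor (i₁ R)) (mor (i₂ R)) rfl (h₂ R S) s n

theorem hΔ₁ : mor (mS R) ≫ mor (i₁ R) = 𝟙 (op (CommRingCat.of S) : CommRingCat.{u}ᵒᵖ) :=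
  mor_comp _ _ _ (rel_m₁ R S)
theorem hΔ₂ : mor (mS R) ≫ mor (i₂ R) = 𝟙 (op (CommRingCat.of S) : CommRingCat.{u}ᵒᵖ) :=
  mor_comp _ _ _ (rel_m₂ R S)

/-- pull-back along the diagonal -/
noncomputable def Dmm (D : (FG₀).DescentData (fun _ : PUnit.{u + 1} => mor (algebraMap R S))) : (ModuleCat.extendScalars (i₂ R)).obj (Nm R S D) →+
    (ModuleCat.extendScalars (RingHom.id S)).obj (Nm R S D) :=
  AddMonoidHom.mk' (Dl G₀ (mor (i₂ R)).op.toLoc (mor (mS R)).op.toLoc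
      (𝟙 (op (CommRingCat.of S) : CommRingCat.{u}ᵒᵖ)).op.toLoc (loc_comp' _ _ _ (hΔ₂ R S)) (Nm R S D))
    (Dl_add G₀ (mor (i₂ R)).op.toLoc (mor (mS R)).op.toLoc
      (𝟙 (op (CommRingCat.of S) : CommRingCat.{u}ᵒᵖ)).op.toLoc (loc_comp' _ _ _ (hΔ₂ R S)) (Nm R S D))

theorem Dmm_tmul (D : (FG₀).DescentData (fun _ : PUnit.{u + 1} => mor (algebraMap R S))) (w : S ⊗[R] S) (n : Nm R S D) :
    Dmm R S D (w ⊗ₜ[S, i₂ R] n) = (mS R w) ⊗ₜ[S, RingHom.id S] n :=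
  Dl_tmul G₀ (mor (i₂ R)).op.toLoc (mor (mS R)).op.toLoc
      (𝟙 (op (CommRingCat.of S) : CommRingCat.{u}ᵒᵖ)).op.toLoc (loc_comp' _ _ _ (hΔ₂ R S)) (Nm R S D) w n

theorem Dmm_unit (D : (FG₀).DescentData (fun _ : PUnit.{u + 1} => mor (algebraMap R S))) (n : Nm R S D) :
    Dmm R S D (βm R S D n) = (1 : S) ⊗ₜ[S, RingHom.id S] n :=
  unit_ev G₀ D (q₂ R S) (mor (i₁ R)) (mor (i₂ R)) rfl (h₂ R S) (mor (mS R)) (hΔ₁ R S) (hΔ₂ R S) n

theorem h_D12m : mor (g₁₂ R) ≫ mor (i₂ R) = mor (j₂ R : S →+* S ⊗[R] (S ⊗[R] S)) :=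
  mor_comp _ _ _ (rel_12_2 R S)

/-- pull-back along `p₁₂` -/
noncomputable def D12m (D : (FG₀).DescentData (fun _ : PUnit.{u + 1} => mor (algebraMap R S))) : (ModuleCat.extendScalars (i₂ R)).obj (Nm R S D) →+
    (ModuleCat.extendScalars (j₂ R : S →+* S ⊗[R] (S ⊗[R] S))).obj (Nm R S D) :=
  AddMonoidHom.mk' (Dl G₀ (mor (i₂ R)).op.toLoc (mor (g₁₂ R)).op.toLoc
      (mor (j₂ R : S →+* S ⊗[R] (S ⊗[R] S))).op.toLoc (loc_comp' _ _ _ (h_D12m R S)) (Nm R S D))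
    (Dl_add G₀ (mor (i₂ R)).op.toLoc (mor (g₁₂ R)).op.toLoc
      (mor (j₂ R : S →+* S ⊗[R] (S ⊗[R] S))).op.toLoc (loc_comp' _ _ _ (h_D12m R S)) (Nm R S D))

theorem D12m_tmul (D : (FG₀).DescentData (fun _ : PUnit.{u + 1} => mor (algebraMap R S))) (w : S ⊗[R] S) (n : Nm R S D) :
    D12m R S D (w ⊗ₜ[S, i₂ R] n) = (g₁₂ R w) ⊗ₜ[S, (j₂ R : S →+* S ⊗[R] (S ⊗[R] S))] n :=
  Dl_tmul G₀ (mor (i₂ R)).op.toLoc (mor (g₁₂ R)).op.toLoc
      (mor (j₂ R : S →+* S ⊗[R] (S ⊗[R] S))).op.toLoc (loc_comp' _ _ _ (h_D12m R S)) (Nm R S D) w n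

theorem h_D13m : mor (g₁₃ R) ≫ mor (i₂ R) = mor (j₃ R : S →+* S ⊗[R] (S ⊗[R] S)) :=
  mor_comp _ _ _ (rel_13_2 R S)

/-- pull-back along `p₁₃` -/
noncomputable def D13m (D : (FG₀).DescentData (fun _ : PUnit.{u + 1} => mor (algebraMap R S))) : (ModuleCat.extendScalars (i₂ R)).obj (Nm R S D) →+
    (ModuleCat.extendScalars (j₃ R : S →+* S ⊗[R] (S ⊗[R] S))).obj (Nm R S D) :=
  AddMonoidHom.mk' (Dl G₀ (mor (i₂ R)).op.toLoc (mor (g₁₃ R)).op.toLoc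
      (mor (j₃ R : S →+* S ⊗[R] (S ⊗[R] S))).op.toLoc (loc_comp' _ _ _ (h_D13m R S)) (Nm R S D))
    (Dl_add G₀ (mor (i₂ R)).op.toLoc (mor (g₁₃ R)).op.toLoc
      (mor (j₃ R : S →+* S ⊗[R] (S ⊗[R] S))).op.toLoc (loc_comp' _ _ _ (h_D13m R S)) (Nm R S D))

theorem D13m_tmul (D : (FG₀).DescentData (fun _ : PUnit.{u + 1} => mor (algebraMap R S))) (w : S ⊗[R] S) (n : Nm R S D) :
    D13m R S D (w ⊗ₜ[S, i₂ R] n) = (g₁₃ R w) ⊗ₜ[S, (j₃ R : S →+* S ⊗[R] (S ⊗[R] S))] n :=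
  Dl_tmul G₀ (mor (i₂ R)).op.toLoc (mor (g₁₃ R)).op.toLoc
      (mor (j₃ R : S →+* S ⊗[R] (S ⊗[R] S))).op.toLoc (loc_comp' _ _ _ (h_D13m R S)) (Nm R S D) w n

theorem h_D23m : mor (g₂₃ R) ≫ mor (i₂ R) = mor (j₃ R : S →+* S ⊗[R] (S ⊗[R] S)) :=
  mor_comp _ _ _ (rel_23_2 R S)

/-- pull-back along `p₂₃` -/
noncomputable def D23m (D : (FG₀).DescentData (fun _ : PUnit.{u + 1} => mor (algebraMap R S))) : (ModuleCat.extendScalars (i₂ R)).obj (Nm R S D) →+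
    (ModuleCat.extendScalars (j₃ R : S →+* S ⊗[R] (S ⊗[R] S))).obj (Nm R S D) :=
  AddMonoidHom.mk' (Dl G₀ (mor (i₂ R)).op.toLoc (mor (g₂₃ R)).op.toLoc
      (mor (j₃ R : S →+* S ⊗[R] (S ⊗[R] S))).op.toLoc (loc_comp' _ _ _ (h_D23m R S)) (Nm R S D))
    (Dl_add G₀ (mor (i₂ R)).op.toLoc (mor (g₂₃ R)).op.toLoc
      (mor (j₃ R : S →+* S ⊗[R] (S ⊗[R] S))).op.toLoc (loc_comp' _ _ _ (h_D23m R S)) (Nm R S D))

theorem D23m_tmul (D : (FG₀).DescentData (fun _ : PUnit.{u + 1} => mor (algebraMap R S))) (w : S ⊗[R] S) (n : Nm R S D) :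
    D23m R S D (w ⊗ₜ[S, i₂ R] n) = (g₂₃ R w) ⊗ₜ[S, (j₃ R : S →+* S ⊗[R] (S ⊗[R] S))] n :=
  Dl_tmul G₀ (mor (i₂ R)).op.toLoc (mor (g₂₃ R)).op.toLoc
      (mor (j₃ R : S →+* S ⊗[R] (S ⊗[R] S))).op.toLoc (loc_comp' _ _ _ (h_D23m R S)) (Nm R S D) w n

theorem h_12_1 : mor (g₁₂ R) ≫ mor (i₁ R) = mor (j₁ R : S →+* S ⊗[R] (S ⊗[R] S)) :=
  mor_comp _ _ _ (rel_12_1 R S)
theorem h_13_1 : mor (g₁₃ R) ≫ mor (i₁ R) = mor (j₁ R : S →+* S ⊗[R] (S ⊗[R] S)) :=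
  mor_comp _ _ _ (rel_13_1 R S)
theorem h_23_1 : mor (g₂₃ R) ≫ mor (i₁ R) = mor (j₂ R : S →+* S ⊗[R] (S ⊗[R] S)) :=
  mor_comp _ _ _ (rel_23_1 R S)

/-- the descent isomorphism pulled back along `p₂₃`, as an additive map -/
noncomputable def Φm (D : (FG₀).DescentData (fun _ : PUnit.{u + 1} => mor (algebraMap R S))) : (ModuleCat.extendScalars (j₂ R : S →+* S ⊗[R] (S ⊗[R] S))).obj (Nm R S D) →+
    (ModuleCat.extendScalars (j₃ R : S →+* S ⊗[R] (S ⊗[R] S))).obj (Nm R S D) :=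
  AddMonoidHom.mk' (ev (D.hom (q₃ R S) (mor (j₂ R : S →+* S ⊗[R] (S ⊗[R] S)))
      (mor (j₃ R : S →+* S ⊗[R] (S ⊗[R] S))) (hρ₂ R S) (hρ₃ R S)))
    (ev_add _)

theorem Φm_smul (D : (FG₀).DescentData (fun _ : PUnit.{u + 1} => mor (algebraMap R S))) (t : S ⊗[R] (S ⊗[R] S))
    (x : (ModuleCat.extendScalars (j₂ R : S →+* S ⊗[R] (S ⊗[R] S))).obj (Nm R S D)) :
    Φm R S D (t • x) = t • Φm R S D x :=
  ev_smul _ t x

theorem Φm_one (D : (FG₀).DescentData (fun _ : PUnit.{u + 1} => mor (algebraMap R S))) (n : Nm R S D) :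
    Φm R S D ((1 : S ⊗[R] (S ⊗[R] S)) ⊗ₜ[S, (j₂ R : S →+* S ⊗[R] (S ⊗[R] S))] n) = D23m R S D (βm R S D n) :=
  pull_ev G₀ D (q₂ R S) (mor (i₁ R)) (mor (i₂ R)) rfl (h₂ R S) (q₃ R S)
    (mor (j₂ R : S →+* S ⊗[R] (S ⊗[R] S))) (mor (j₃ R : S →+* S ⊗[R] (S ⊗[R] S))) (hρ₂ R S) (hρ₃ R S)
    (mor (g₂₃ R)) (hq₂₃ R S) (h_23_1 R S) (h_D23m R S) n

theorem coc (D : (FG₀).DescentData (fun _ : PUnit.{u + 1} => mor (algebraMap R S))) (n : Nm R S D) :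
    D13m R S D (βm R S D n) = Φm R S D (D12m R S D (βm R S D n)) :=
  cocycle_ev G₀ D (q₂ R S) (mor (i₁ R)) (mor (i₂ R)) rfl (h₂ R S) (q₃ R S)
    (mor (j₁ R : S →+* S ⊗[R] (S ⊗[R] S)))
    (mor (j₂ R : S →+* S ⊗[R] (S ⊗[R] S))) (mor (j₃ R : S →+* S ⊗[R] (S ⊗[R] S))) rfl (hρ₂ R S) (hρ₃ R S)
    (mor (g₁₂ R)) (mor (g₁₃ R)) (hq₁₂ R S) (hq₁₃ R S) (h_12_1 R S) (h_D12m R S) (h_13_1 R S) (h_D13m R S) n

theorem exists_iso_aux [Module.Flat R S]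
    (D : (FG₀).DescentData (fun _ : PUnit.{u + 1} => mor (algebraMap R S))) :
    ∃ M : ModuleCat.{u} R,
      Nonempty (((FG₀).toDescentData (fun _ : PUnit.{u + 1} => mor (algebraMap R S))).obj M ≅ D) := by
  obtain ⟨M, e, hinv⟩ := exists_iso_of_descent R (Nm R S D) (βm R S D) (βm_smul R S D)
    (Dmm R S D) (Dmm_tmul R S D) (Dmm_unit R S D) (D12m R S D) (D12m_tmul R S D)
    (D13m R S D) (D13m_tmul R S D) (D23m R S D) (D23m_tmul R S D) (Φm R S D) (Φm_smul R S D)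
    (Φm_one R S D) (coc R S D)
  refine ⟨M, ?_⟩
  refine nonempty_iso_of_commHyp (FG₀) (fun _ _ => sq R S) (M := M) D (fun _ => e) ?_
  rintro ⟨⟩ ⟨⟩
  exact commHyp_of_invariant G₀ D M (sq R S).p (sq R S).p₁ (sq R S).p₂ (sq R S).hp₁ (sq R S).hp₂
    e.hom e.hom hinv

/-- Version for a pseudofunctor `F` which is propositionally equal to `FG₀` (to be applied with `rfl`
to a *defined* pseudofunctor such as `Desc.ringModPF`, so that the kernel never unfolds it inside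
statements). -/
theorem exists_iso [Module.Flat R S]
    (F : Pseudofunctor (LocallyDiscrete (CommRingCat.{u}ᵒᵖ)ᵒᵖ) Cat.{u, u + 1}) (hF : F = FG₀)
    (D : F.DescentData (fun _ : PUnit.{u + 1} => mor (algebraMap R S))) :
    ∃ M : F.obj (.mk (op (op (CommRingCat.of R)))),
      Nonempty ((F.toDescentData (fun _ : PUnit.{u + 1} => mor (algebraMap R S))).obj M ≅ D) := by
  subst hF
  exact exists_iso_aux R S D

end main

end Groth.Agent.Lib.Seat78.EffMain
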