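import Groth.Agent.Lib.Seat78ExtPF
import Mathlib.RingTheory.Flat.Basic

/-!
# Seat78: fully faithfulness of `toDescentData` for `G.toPseudofunctor.comp (extension of scalars)`

For a functor `G : (CommRingCatᵒᵖ)ᵒᵖ ⥤ CommRingCat`, `FG := G.toPseudofunctor.comp moduleCatExtendScalarsPseudofunctor`,
a morphism `f₀ : X ⟶ S` of `CommRingCatᵒᵖ` and two maps `f₁ f₂ : Y ⟶ X` over `S`, we show that
`(FG).toDescentData (fun _ => f₀)` is bijective on morphisms `M ⟶ N` as soon as `N` is flat,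
`G(S) → G(X)` is injective and `G(S) → G(X) ⇉ G(Y)` is an equaliser (`bijective_map_of_flat`).

Kernel note: everything involving the (heavy) `mapComp'` isomorphisms goes through the regular
definitions `ev`/`app2` of `Seat78ExtPF` and through lemmas about an *abstract* pseudofunctor.
-/

set_option autoImplicit false
set_option backward.isDefEq.respectTransparency false
set_option backward.isDefEq.respectTransparency.types false
set_option backward.defeqAttrib.useBackward true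

open CategoryTheory Opposite TensorProduct
open ChangeOfRings
open Groth.Agent.Lib.Seat78.ExtPF

universe u v w

namespace Groth.Agent.Lib.Seat78.ExtPFDesc

theorem app2_hom_inv {C D : Cat.{v, w}} {F G : C ⟶ D} (e : F ≅ G) (X : C) :
    app2 e.hom X ≫ app2 e.inv X = 𝟙 _ := Cat.Hom.hom_inv_id_toNatTrans_app e X

theorem app2_inv_hom {C D : Cat.{v, w}} {F G : C ⟶ D} (e : F ≅ G) (X : C) :
    app2 e.inv X ≫ app2 e.hom X = 𝟙 _ := Cat.Hom.inv_hom_id_toNatTrans_app e X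

theorem ev_of_comp_eq_id {R : Type u} [Ring R] {A B : ModuleCat.{u} R} (a : A ⟶ B) (b : B ⟶ A) (h : a ≫ b = 𝟙 _) (x : A) :
    ev b (ev a x) = x := by
  rw [← ev_comp, h, ev_id]

section abstractEval
variable {R : Type u} [Ring R] {P P₁ P₂ Q Q₁ Q₂ : ModuleCat.{u} R}


/-- Evaluating the compatibility square of a morphism of descent data. -/
theorem comm_eval (a : P₁ ⟶ Q₁) (b : P₂ ⟶ Q₂)
    (k₁Mh : P ⟶ P₁) (k₁Mi : P₁ ⟶ P) (k₂Mh : P ⟶ P₂)
    (k₁Ni : Q₁ ⟶ Q) (k₂Nh : Q ⟶ Q₂) (k₂Ni : Q₂ ⟶ Q)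
    (hM : k₁Mh ≫ k₁Mi = 𝟙 _) (hN : k₂Nh ≫ k₂Ni = 𝟙 _)
    (h : a ≫ (k₁Ni ≫ k₂Nh) = (k₁Mi ≫ k₂Mh) ≫ b) (x : P) :
    ev k₁Ni (ev a (ev k₁Mh x)) = ev k₂Ni (ev b (ev k₂Mh x)) := by
  have h1 := congrArg (fun φ => ev φ (ev k₁Mh x)) h
  simp only [ev_comp] at h1
  rw [ev_of_comp_eq_id _ _ hM] at h1
  have h2 := congrArg (ev k₂Ni) h1
  rw [ev_of_comp_eq_id _ _ hN] at h2
  exact h2

end abstractEval

section tensor
variable {R₁ R₂ : Type u} [CommRing R₁] [CommRing R₂] (f : R₁ →+* R₂)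

theorem tmul_map_one {R₃ : Type u} [CommRing R₃] (g : R₂ →+* R₃) (N : ModuleCat.{u} R₁) (w : R₂) (n : N) :
    ((g w) ⊗ₜ[R₂, g] (((1 : R₂) ⊗ₜ[R₁, f] n : (ModuleCat.extendScalars f).obj N)) :
        (ModuleCat.extendScalars g).obj ((ModuleCat.extendScalars f).obj N)) =
      ((1 : R₃) ⊗ₜ[R₂, g] ((w ⊗ₜ[R₁, f] n : (ModuleCat.extendScalars f).obj N))) := by
  have h1 : (w ⊗ₜ[R₁, f] n : (ModuleCat.extendScalars f).obj N) =
      w • ((1 : R₂) ⊗ₜ[R₁, f] n : (ModuleCat.extendScalars f).obj N) := by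
    rw [ModuleCat.ExtendScalars.smul_tmul, mul_one]
  rw [h1]
  let _ : Module R₂ R₃ := Module.compHom R₃ g
  have h2 : g w = w • (1 : R₃) := by
    show g w = g w * 1
    rw [mul_one]
  rw [h2]
  exact TensorProduct.smul_tmul _ _ _

end tensor

section algebra
variable {A B C : Type u} [CommRing A] [CommRing B] [CommRing C] (ρ₀ : A →+* B)

theorem one_tmul_injective (hρ : Function.Injective ρ₀) (N : ModuleCat.{u} A) [Module.Flat A N] (n n' : N)
    (h : ((1 : B) ⊗ₜ[A, ρ₀] n : (ModuleCat.extendScalars ρ₀).obj N) = (1 : B) ⊗ₜ[A, ρ₀] n') : n = n' := by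
  let _ : Module A B := Module.compHom B ρ₀
  let ι : A →ₗ[A] B :=
    { toFun := ρ₀, map_add' := map_add ρ₀, map_smul' := fun a b => by
        show ρ₀ (a * b) = ρ₀ a * ρ₀ b
        exact map_mul ρ₀ a b }
  have hι : Function.Injective (ι.rTensor N) :=
    Module.Flat.rTensor_preserves_injective_linearMap ι hρ
  have e : ∀ x : N, (ι.rTensor N) ((1 : A) ⊗ₜ[A] x) = ((1 : B) ⊗ₜ[A] x) := by
    intro x
    rw [LinearMap.rTensor_tmul]
    show (ρ₀ 1) ⊗ₜ[A] x = _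
    rw [map_one]
  have h2 : (ι.rTensor N) ((1 : A) ⊗ₜ[A] n) = (ι.rTensor N) ((1 : A) ⊗ₜ[A] n') := by
    rw [e, e]; exact h
  have h3 := congrArg (TensorProduct.lid A N) (hι h2)
  simpa using h3


theorem exists_one_tmul_of_eq (ρ₁ ρ₂ : B →+* C) (ρq : A →+* C)
    (h₁ : ρ₁.comp ρ₀ = ρq) (h₂ : ρ₂.comp ρ₀ = ρq)
    (hex : ∀ b : B, ρ₁ b = ρ₂ b → ∃ a : A, ρ₀ a = b)
    (N : ModuleCat.{u} A) [Module.Flat A N]
    (D₁ D₂ : (ModuleCat.extendScalars ρ₀).obj N → (ModuleCat.extendScalars ρq).obj N)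
    (hD₁a : ∀ y y', D₁ (y + y') = D₁ y + D₁ y') (hD₁z : D₁ 0 = 0)
    (hD₁ : ∀ (b : B) (n : N), D₁ (b ⊗ₜ[A, ρ₀] n) = (ρ₁ b) ⊗ₜ[A, ρq] n)
    (hD₂a : ∀ y y', D₂ (y + y') = D₂ y + D₂ y') (hD₂z : D₂ 0 = 0)
    (hD₂ : ∀ (b : B) (n : N), D₂ (b ⊗ₜ[A, ρ₀] n) = (ρ₂ b) ⊗ₜ[A, ρq] n)
    (y : (ModuleCat.extendScalars ρ₀).obj N) (hy : D₁ y = D₂ y) :
    ∃ n : N, y = ((1 : B) ⊗ₜ[A, ρ₀] n) := by
  let _ : Module A B := Module.compHom B ρ₀
  let _ : Module A C := Module.compHom C ρq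
  let ι : A →ₗ[A] B :=
    { toFun := ρ₀, map_add' := map_add ρ₀, map_smul' := fun a b => by
        show ρ₀ (a * b) = ρ₀ a * ρ₀ b
        exact map_mul ρ₀ a b }
  have hq₁ : ∀ a, ρ₁ (ρ₀ a) = ρq a := fun a => by rw [← h₁]; rfl
  have hq₂ : ∀ a, ρ₂ (ρ₀ a) = ρq a := fun a => by rw [← h₂]; rfl
  let d : B →ₗ[A] C :=
    { toFun := fun b => ρ₁ b - ρ₂ b
      map_add' := fun b b' => by rw [map_add, map_add]; abel
      map_smul' := fun a b => by
        show ρ₁ (ρ₀ a * b) - ρ₂ (ρ₀ a * b) = ρq a * (ρ₁ b - ρ₂ b)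
        rw [map_mul, map_mul, hq₁, hq₂, mul_sub] }
  have hexact : Function.Exact ι d := by
    intro b
    constructor
    · intro hb
      obtain ⟨a, ha⟩ := hex b (sub_eq_zero.mp hb)
      exact ⟨a, ha⟩
    · rintro ⟨a, rfl⟩
      show ρ₁ (ρ₀ a) - ρ₂ (ρ₀ a) = 0
      rw [hq₁, hq₂, sub_self]
  have hE := Module.Flat.rTensor_exact N hexact
  have hd : ∀ z : B ⊗[A] N, (d.rTensor N) z = D₁ z - D₂ z := by
    intro z
    induction z using TensorProduct.induction_on with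
    | zero => rw [map_zero]; exact (by rw [hD₁z, hD₂z, sub_zero] : (0 : C ⊗[A] N) = D₁ 0 - D₂ 0)
    | tmul b n =>
      rw [LinearMap.rTensor_tmul]
      show (ρ₁ b - ρ₂ b) ⊗ₜ[A] n = _
      rw [TensorProduct.sub_tmul]
      exact congrArg₂ (· - ·) (hD₁ b n).symm (hD₂ b n).symm
    | add z z' hz hz' =>
      rw [map_add, hz, hz']
      show _ = D₁ (z + z') - D₂ (z + z')
      rw [hD₁a, hD₂a]; abel
  have h0 : (d.rTensor N) y = 0 := by
    rw [hd]; exact sub_eq_zero.mpr hy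
  obtain ⟨z, hz⟩ := (hE y).mp h0
  refine ⟨TensorProduct.lid A N z, ?_⟩
  have hz' : z = (1 : A) ⊗ₜ[A] (TensorProduct.lid A N z) := by
    rw [← TensorProduct.lid_symm_apply, LinearEquiv.symm_apply_apply]
  rw [hz', LinearMap.rTensor_tmul] at hz
  rw [← hz]
  show (ρ₀ 1) ⊗ₜ[A] _ = _
  rw [map_one]

end algebra

variable (G : (CommRingCat.{u}ᵒᵖ)ᵒᵖ ⥤ CommRingCat.{u})

set_option quotPrecheck false in
local notation "FG" => Pseudofunctor.comp (Functor.toPseudofunctor G) CommRingCat.moduleCatExtendScalarsPseudofunctor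

section Dl
variable {X Y Z : LocallyDiscrete (CommRingCat.{u}ᵒᵖ)ᵒᵖ}
    (f : X ⟶ Y) (g : Y ⟶ Z) (fg : X ⟶ Z) (hfg : f ≫ g = fg)
    (N : ModuleCat.{u} (G.toPseudofunctor.obj X).as)

/-- The map `y ↦ κ⁻¹ (1 ⊗ y)`, i.e. `G(g) ⊗ id : G(Y) ⊗_{G(X)} N → G(Z) ⊗_{G(X)} N`. -/
noncomputable def Dl (y : (ModuleCat.extendScalars (G.toPseudofunctor.map f).as.hom).obj N) :
    (ModuleCat.extendScalars (G.toPseudofunctor.map fg).as.hom).obj N :=
  ev (app2 ((FG).mapComp' f g fg hfg).inv N)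
    (((1 : (G.toPseudofunctor.obj Z).as) ⊗ₜ[(G.toPseudofunctor.obj Y).as, (G.toPseudofunctor.map g).as.hom] y :
      (ModuleCat.extendScalars (G.toPseudofunctor.map g).as.hom).obj
        ((ModuleCat.extendScalars (G.toPseudofunctor.map f).as.hom).obj N)))

theorem Dl_tmul (w : (G.toPseudofunctor.obj Y).as) (n : N) :
    Dl G f g fg hfg N (w ⊗ₜ[(G.toPseudofunctor.obj X).as, (G.toPseudofunctor.map f).as.hom] n) =
      (((G.toPseudofunctor.map g).as.hom w) ⊗ₜ[(G.toPseudofunctor.obj X).as, (G.toPseudofunctor.map fg).as.hom] n) := by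
  have h1 := mapComp'_hom_app_tmul G f g fg hfg N ((G.toPseudofunctor.map g).as.hom w) n
  rw [tmul_map_one] at h1
  have h2 := congrArg (ev (app2 ((FG).mapComp' f g fg hfg).inv N)) h1
  rw [ev_of_comp_eq_id _ _ (app2_hom_inv ((FG).mapComp' f g fg hfg) N)] at h2
  exact h2.symm

theorem Dl_add (y y' : (ModuleCat.extendScalars (G.toPseudofunctor.map f).as.hom).obj N) :
    Dl G f g fg hfg N (y + y') = Dl G f g fg hfg N y + Dl G f g fg hfg N y' := by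
  unfold Dl
  rw [TensorProduct.tmul_add, ev_add]

theorem Dl_zero  :
    Dl G f g fg hfg N 0 = 0 := by
  unfold Dl
  rw [TensorProduct.tmul_zero, ev_zero]

end Dl


section L3
variable {X Y : LocallyDiscrete (CommRingCat.{u}ᵒᵖ)ᵒᵖ} (a : X ⟶ Y)
    {M N : ModuleCat.{u} (G.toPseudofunctor.obj X).as}

theorem map_ev_tmul (φ : M ⟶ N) (s : (G.toPseudofunctor.obj Y).as) (m : M) :
    ev (((FG).map a).toFunctor.map φ)
      (s ⊗ₜ[(G.toPseudofunctor.obj X).as, (G.toPseudofunctor.map a).as.hom] m) =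
    (s ⊗ₜ[(G.toPseudofunctor.obj X).as, (G.toPseudofunctor.map a).as.hom] (ev φ m)) := rfl

theorem one_tmul_smul (r : (G.toPseudofunctor.obj X).as) (m : M) :
    ((1 : (G.toPseudofunctor.obj Y).as) ⊗ₜ[(G.toPseudofunctor.obj X).as, (G.toPseudofunctor.map a).as.hom] (r • m) :
      (ModuleCat.extendScalars (G.toPseudofunctor.map a).as.hom).obj M) =
    ((G.toPseudofunctor.map a).as.hom r) •
      ((1 : (G.toPseudofunctor.obj Y).as) ⊗ₜ[(G.toPseudofunctor.obj X).as, (G.toPseudofunctor.map a).as.hom] m :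
      (ModuleCat.extendScalars (G.toPseudofunctor.map a).as.hom).obj M) := by
  rw [ModuleCat.ExtendScalars.smul_tmul]
  let _ : Module (G.toPseudofunctor.obj X).as (G.toPseudofunctor.obj Y).as :=
    Module.compHom _ (G.toPseudofunctor.map a).as.hom
  exact (TensorProduct.smul_tmul r (1 : (G.toPseudofunctor.obj Y).as) m).symm

theorem one_tmul_add (m m' : M) :
    ((1 : (G.toPseudofunctor.obj Y).as) ⊗ₜ[(G.toPseudofunctor.obj X).as, (G.toPseudofunctor.map a).as.hom] (m + m') :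
      (ModuleCat.extendScalars (G.toPseudofunctor.map a).as.hom).obj M) =
    ((1 : (G.toPseudofunctor.obj Y).as) ⊗ₜ[(G.toPseudofunctor.obj X).as, (G.toPseudofunctor.map a).as.hom] m) +
    ((1 : (G.toPseudofunctor.obj Y).as) ⊗ₜ[(G.toPseudofunctor.obj X).as, (G.toPseudofunctor.map a).as.hom] m') := by
  let _ : Module (G.toPseudofunctor.obj X).as (G.toPseudofunctor.obj Y).as :=
    Module.compHom _ (G.toPseudofunctor.map a).as.hom
  exact TensorProduct.tmul_add _ _ _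

end L3



section absF
variable {C : Type*} [Category C] (F : Pseudofunctor (LocallyDiscrete Cᵒᵖ) Cat.{v, w})
  {ι : Type*} {S : C} {X : ι → C} (f : ∀ i, X i ⟶ S)

theorem loc_comp' {S X Y : C} (f₀ : X ⟶ S) (f₁ : Y ⟶ X) (q : Y ⟶ S) (h : f₁ ≫ f₀ = q) :
    f₀.op.toLoc ≫ f₁.op.toLoc = q.op.toLoc := by
  subst h; rfl

theorem ofObj_hom_eq (M : F.obj (.mk (op S))) ⦃Y : C⦄ (q : Y ⟶ S) ⦃i₁ i₂ : ι⦄ (f₁ : Y ⟶ X i₁) (f₂ : Y ⟶ X i₂)
    (hf₁ : f₁ ≫ f i₁ = q) (hf₂ : f₂ ≫ f i₂ = q) :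
    ((F.toDescentData f).obj M).hom q f₁ f₂ hf₁ hf₂ =
      app2 (F.mapComp' (f i₁).op.toLoc f₁.op.toLoc q.op.toLoc (loc_comp' _ _ _ hf₁)).inv M ≫
      app2 (F.mapComp' (f i₂).op.toLoc f₂.op.toLoc q.op.toLoc (loc_comp' _ _ _ hf₂)).hom M := rfl

theorem comm_abs {M N : F.obj (.mk (op S))} (ψ : (F.toDescentData f).obj M ⟶ (F.toDescentData f).obj N)
    ⦃Y : C⦄ (q : Y ⟶ S) ⦃i₁ i₂ : ι⦄ (f₁ : Y ⟶ X i₁) (f₂ : Y ⟶ X i₂)
    (hf₁ : f₁ ≫ f i₁ = q) (hf₂ : f₂ ≫ f i₂ = q) :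
    app2 (F.mapComp' (f i₁).op.toLoc f₁.op.toLoc q.op.toLoc (loc_comp' _ _ _ hf₁)).hom M ≫
      (F.map f₁.op.toLoc).toFunctor.map (ψ.hom i₁) ≫
      app2 (F.mapComp' (f i₁).op.toLoc f₁.op.toLoc q.op.toLoc (loc_comp' _ _ _ hf₁)).inv N =
    app2 (F.mapComp' (f i₂).op.toLoc f₂.op.toLoc q.op.toLoc (loc_comp' _ _ _ hf₂)).hom M ≫
      (F.map f₂.op.toLoc).toFunctor.map (ψ.hom i₂) ≫
      app2 (F.mapComp' (f i₂).op.toLoc f₂.op.toLoc q.op.toLoc (loc_comp' _ _ _ hf₂)).inv N := by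
  have hc := ψ.comm q f₁ f₂ hf₁ hf₂
  rw [ofObj_hom_eq, ofObj_hom_eq] at hc
  have h1 := app2_hom_inv (F.mapComp' (f i₁).op.toLoc f₁.op.toLoc q.op.toLoc (loc_comp' _ _ _ hf₁)) M
  have h2 := app2_hom_inv (F.mapComp' (f i₂).op.toLoc f₂.op.toLoc q.op.toLoc (loc_comp' _ _ _ hf₂)) N
  calc _ = app2 (F.mapComp' (f i₁).op.toLoc f₁.op.toLoc q.op.toLoc (loc_comp' _ _ _ hf₁)).hom M ≫
        ((F.map f₁.op.toLoc).toFunctor.map (ψ.hom i₁) ≫
          app2 (F.mapComp' (f i₁).op.toLoc f₁.op.toLoc q.op.toLoc (loc_comp' _ _ _ hf₁)).inv N ≫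
          app2 (F.mapComp' (f i₂).op.toLoc f₂.op.toLoc q.op.toLoc (loc_comp' _ _ _ hf₂)).hom N) ≫
          app2 (F.mapComp' (f i₂).op.toLoc f₂.op.toLoc q.op.toLoc (loc_comp' _ _ _ hf₂)).inv N := by
        simp only [Category.assoc]
        rw [h2, Category.comp_id]
    _ = _ := by
        rw [hc]
        simp only [Category.assoc]
        rw [reassoc_of% h1]

end absF

section main
variable {ι : Type v} [Unique ι] {S X Y : CommRingCat.{u}ᵒᵖ} (f₀ : X ⟶ S) (f₁ f₂ : Y ⟶ X) (q : Y ⟶ S)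
    (h₁ : f₁ ≫ f₀ = q) (h₂ : f₂ ≫ f₀ = q)
    (M N : ModuleCat.{u} (G.toPseudofunctor.obj (.mk (op S))).as)

theorem ev_comp3 {R : Type u} [Ring R] {A B C D : ModuleCat.{u} R} (k : A ⟶ B) (a : B ⟶ C) (k' : C ⟶ D) (x : A) :
    ev (k ≫ a ≫ k') x = ev k' (ev a (ev k x)) := rfl

theorem Dl_eq_of_hom (ψ : ((FG).toDescentData (fun _ : ι => f₀)).obj M ⟶ ((FG).toDescentData (fun _ : ι => f₀)).obj N)
    (m : M) :
    Dl G f₀.op.toLoc f₁.op.toLoc q.op.toLoc (loc_comp' f₀ f₁ q h₁) N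
        (ev (ψ.hom default) ((1 : (G.toPseudofunctor.obj (.mk (op X))).as) ⊗ₜ[(G.toPseudofunctor.obj (.mk (op S))).as, (G.toPseudofunctor.map f₀.op.toLoc).as.hom] m)) =
    Dl G f₀.op.toLoc f₂.op.toLoc q.op.toLoc (loc_comp' f₀ f₂ q h₂) N
        (ev (ψ.hom default) ((1 : (G.toPseudofunctor.obj (.mk (op X))).as) ⊗ₜ[(G.toPseudofunctor.obj (.mk (op S))).as, (G.toPseudofunctor.map f₀.op.toLoc).as.hom] m)) := by
  have hc := comm_abs (FG) (fun _ : ι => f₀) ψ q (i₁ := default) (i₂ := default) f₁ f₂ h₁ h₂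
  have key := congrArg (fun φ => ev φ ((1 : (G.toPseudofunctor.obj (.mk (op Y))).as) ⊗ₜ[(G.toPseudofunctor.obj (.mk (op S))).as, (G.toPseudofunctor.map q.op.toLoc).as.hom] m)) hc

  have key2 := (ev_comp3
    (app2 ((FG).mapComp' f₀.op.toLoc f₁.op.toLoc q.op.toLoc (loc_comp' f₀ f₁ q h₁)).hom M)
    (((FG).map f₁.op.toLoc).toFunctor.map (ψ.hom default))
    (app2 ((FG).mapComp' f₀.op.toLoc f₁.op.toLoc q.op.toLoc (loc_comp' f₀ f₁ q h₁)).inv N)
    ((1 : (G.toPseudofunctor.obj (.mk (op Y))).as) ⊗ₜ[(G.toPseudofunctor.obj (.mk (op S))).as, (G.toPseudofunctor.map q.op.toLoc).as.hom] m)).symm.trans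
    (key.trans (ev_comp3
    (app2 ((FG).mapComp' f₀.op.toLoc f₂.op.toLoc q.op.toLoc (loc_comp' f₀ f₂ q h₂)).hom M)
    (((FG).map f₂.op.toLoc).toFunctor.map (ψ.hom default))
    (app2 ((FG).mapComp' f₀.op.toLoc f₂.op.toLoc q.op.toLoc (loc_comp' f₀ f₂ q h₂)).inv N)
    ((1 : (G.toPseudofunctor.obj (.mk (op Y))).as) ⊗ₜ[(G.toPseudofunctor.obj (.mk (op S))).as, (G.toPseudofunctor.map q.op.toLoc).as.hom] m)))
  rw [mapComp'_hom_app_tmul, mapComp'_hom_app_tmul, map_ev_tmul, map_ev_tmul] at key2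
  exact key2


omit [Unique ι] in
theorem toDescentData_map_hom (φ : M ⟶ N) (i : ι) :
    (((FG).toDescentData (fun _ : ι => f₀)).map φ).hom i = ((FG).map f₀.op.toLoc).toFunctor.map φ := rfl

theorem injective_map
    (hinj : ∀ n n' : N,
      ((1 : (G.toPseudofunctor.obj (.mk (op X))).as) ⊗ₜ[(G.toPseudofunctor.obj (.mk (op S))).as, (G.toPseudofunctor.map f₀.op.toLoc).as.hom] n :
        (ModuleCat.extendScalars (G.toPseudofunctor.map f₀.op.toLoc).as.hom).obj N) =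
      ((1 : (G.toPseudofunctor.obj (.mk (op X))).as) ⊗ₜ[(G.toPseudofunctor.obj (.mk (op S))).as, (G.toPseudofunctor.map f₀.op.toLoc).as.hom] n') → n = n') :
    Function.Injective (fun φ : M ⟶ N => ((FG).toDescentData (fun _ : ι => f₀)).map φ) := by
  intro φ φ' h
  have h0 := congrArg (fun ψ => Pseudofunctor.DescentData.Hom.hom ψ (default : ι)) h
  have h0' := (toDescentData_map_hom (ι := ι) G f₀ M N φ default).symm.trans
    (h0.trans (toDescentData_map_hom (ι := ι) G f₀ M N φ' default))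
  apply ModuleCat.hom_ext
  apply LinearMap.ext
  intro m
  apply hinj
  have h1 := congrArg (fun α => ev α ((1 : (G.toPseudofunctor.obj (.mk (op X))).as) ⊗ₜ[(G.toPseudofunctor.obj (.mk (op S))).as, (G.toPseudofunctor.map f₀.op.toLoc).as.hom] m)) h0'
  exact (map_ev_tmul G f₀.op.toLoc φ _ m).symm.trans (h1.trans (map_ev_tmul G f₀.op.toLoc φ' _ m))


set_option quotPrecheck false in
local notation "one⊗" n => ((1 : (G.toPseudofunctor.obj (.mk (op X))).as) ⊗ₜ[(G.toPseudofunctor.obj (.mk (op S))).as, (G.toPseudofunctor.map f₀.op.toLoc).as.hom] n)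

theorem surjective_map
    (hinj : ∀ n n' : N,
      ((one⊗ n : (ModuleCat.extendScalars (G.toPseudofunctor.map f₀.op.toLoc).as.hom).obj N)) = (one⊗ n') → n = n')
    (hex : ∀ y : (ModuleCat.extendScalars (G.toPseudofunctor.map f₀.op.toLoc).as.hom).obj N,
      Dl G f₀.op.toLoc f₁.op.toLoc q.op.toLoc (loc_comp' f₀ f₁ q h₁) N y =
        Dl G f₀.op.toLoc f₂.op.toLoc q.op.toLoc (loc_comp' f₀ f₂ q h₂) N y →
      ∃ n : N, y = (one⊗ n)) :
    Function.Surjective (fun φ : M ⟶ N => ((FG).toDescentData (fun _ : ι => f₀)).map φ) := by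
  intro ψ
  have hch : ∀ m : M, ∃ n : N, ev (ψ.hom default) (one⊗ m) = (one⊗ n) :=
    fun m => hex _ (Dl_eq_of_hom G f₀ f₁ f₂ q h₁ h₂ M N ψ m)
  choose φ₀ hφ₀ using hch
  have hadd : ∀ m m' : M, φ₀ (m + m') = φ₀ m + φ₀ m' := by
    intro m m'
    apply hinj
    rw [← hφ₀, one_tmul_add, one_tmul_add, ev_add, hφ₀, hφ₀]
  have hsmul : ∀ (r : (G.toPseudofunctor.obj (.mk (op S))).as) (m : M), φ₀ (r • m) = r • φ₀ m := by
    intro r m
    apply hinj
    rw [← hφ₀, one_tmul_smul, one_tmul_smul, ev_smul, hφ₀]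
  refine ⟨ModuleCat.ofHom { toFun := φ₀, map_add' := hadd, map_smul' := hsmul }, ?_⟩
  apply Pseudofunctor.DescentData.hom_ext
  intro i
  obtain rfl : i = default := Subsingleton.elim _ _
  refine (toDescentData_map_hom (ι := ι) G f₀ M N _ default).trans ?_
  apply ModuleCat.ExtendScalars.hom_ext
  intro m
  exact (hφ₀ m).symm


omit [Unique ι] in
theorem hom_comp_eq (f : Y ⟶ X) (h : f ≫ f₀ = q) :
    ((G.toPseudofunctor.map f.op.toLoc).as.hom).comp (G.toPseudofunctor.map f₀.op.toLoc).as.hom =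
      (G.toPseudofunctor.map q.op.toLoc).as.hom := by
  have := map_comp_toLoc G f₀.op.toLoc f.op.toLoc q.op.toLoc (loc_comp' f₀ f q h)
  rw [this]
  rfl

include q h₁ h₂ in
/-- **Fully faithfulness of `toDescentData`** for `G.toPseudofunctor.comp (extension of scalars)` on a flat
target, from injectivity of `G(S) → G(X)` and the equaliser property of `G(S) → G(X) ⇉ G(Y)`. -/
theorem bijective_map_of_flat (hN : Module.Flat (G.toPseudofunctor.obj (.mk (op S))).as N)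
    (hρ₀ : Function.Injective (G.toPseudofunctor.map f₀.op.toLoc).as.hom)
    (hex : ∀ b : (G.toPseudofunctor.obj (.mk (op X))).as,
      (G.toPseudofunctor.map f₁.op.toLoc).as.hom b = (G.toPseudofunctor.map f₂.op.toLoc).as.hom b →
      ∃ a : (G.toPseudofunctor.obj (.mk (op S))).as, (G.toPseudofunctor.map f₀.op.toLoc).as.hom a = b) :
    Function.Bijective (fun φ : M ⟶ N => ((FG).toDescentData (fun _ : ι => f₀)).map φ) := by
  have hinj : ∀ n n' : N,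
      ((one⊗ n : (ModuleCat.extendScalars (G.toPseudofunctor.map f₀.op.toLoc).as.hom).obj N)) = (one⊗ n') → n = n' :=
    fun n n' h => one_tmul_injective (G.toPseudofunctor.map f₀.op.toLoc).as.hom hρ₀ N n n' h
  refine ⟨injective_map G f₀ M N hinj, surjective_map G f₀ f₁ f₂ q h₁ h₂ M N hinj ?_⟩
  intro y hy
  exact exists_one_tmul_of_eq (G.toPseudofunctor.map f₀.op.toLoc).as.hom
    (G.toPseudofunctor.map f₁.op.toLoc).as.hom (G.toPseudofunctor.map f₂.op.toLoc).as.hom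
    (G.toPseudofunctor.map q.op.toLoc).as.hom (hom_comp_eq G f₀ q f₁ h₁) (hom_comp_eq G f₀ q f₂ h₂) hex N
    (Dl G f₀.op.toLoc f₁.op.toLoc q.op.toLoc (loc_comp' f₀ f₁ q h₁) N)
    (Dl G f₀.op.toLoc f₂.op.toLoc q.op.toLoc (loc_comp' f₀ f₂ q h₂) N)
    (Dl_add G _ _ _ _ N) (Dl_zero G _ _ _ _ N) (Dl_tmul G _ _ _ _ N)
    (Dl_add G _ _ _ _ N) (Dl_zero G _ _ _ _ N) (Dl_tmul G _ _ _ _ N) y hy

end main


/-- Version of `bijective_map_of_flat` for a pseudofunctor *propositionally* equal to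
`G.toPseudofunctor.comp (extension of scalars)`; this avoids any unfolding in the kernel when the
pseudofunctor is given by a definition. -/
theorem bijective_map_of_flat' {ι : Type v} [Unique ι] {S X Y : CommRingCat.{u}ᵒᵖ} (f₀ : X ⟶ S) (f₁ f₂ : Y ⟶ X)
    (q : Y ⟶ S) (h₁ : f₁ ≫ f₀ = q) (h₂ : f₂ ≫ f₀ = q)
    (F : Pseudofunctor (LocallyDiscrete (CommRingCat.{u}ᵒᵖ)ᵒᵖ) Cat.{u, u + 1}) (hF : F = FG)
    (M N : F.obj (.mk (op S)))
    (N' : ModuleCat.{u} (G.toPseudofunctor.obj (.mk (op S))).as) (hNN' : HEq N N')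
    (hN : Module.Flat (G.toPseudofunctor.obj (.mk (op S))).as N')
    (hρ₀ : Function.Injective (G.toPseudofunctor.map f₀.op.toLoc).as.hom)
    (hex : ∀ b : (G.toPseudofunctor.obj (.mk (op X))).as,
      (G.toPseudofunctor.map f₁.op.toLoc).as.hom b = (G.toPseudofunctor.map f₂.op.toLoc).as.hom b →
      ∃ a : (G.toPseudofunctor.obj (.mk (op S))).as, (G.toPseudofunctor.map f₀.op.toLoc).as.hom a = b) :
    Function.Bijective (fun φ : M ⟶ N => (F.toDescentData (fun _ : ι => f₀)).map φ) := by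
  subst hF
  obtain rfl := eq_of_heq hNN'
  exact bijective_map_of_flat G f₀ f₁ f₂ q h₁ h₂ M N hN hρ₀ hex

end Groth.Agent.Lib.Seat78.ExtPFDesc
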