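import Groth.Agent.Lib.Seat78ExtPFDesc
import Mathlib.CategoryTheory.Sites.Descent.DescentDataPrime

/-!
# Seat78: effectivity criterion for descent data of `G.toPseudofunctor.comp (extension of scalars)`

* `nonempty_iso_of_commHyp` (abstract pseudofunctor `F` on `CommRingCatᵒᵖ`): a family of isomorphisms
  `e i : f_i^* M ≅ D.obj i` satisfying `CommHyp` on chosen pullbacks gives `toDescentData M ≅ D`.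
* `commHyp_of_invariant`: for `FG = G.toPseudofunctor.comp moduleCatExtendScalarsPseudofunctor`, `CommHyp`
  follows from the element-wise invariance `D.hom (1 ⊗ e₁ (1 ⊗ m)) = 1 ⊗ e₂ (1 ⊗ m)`.
* `hom_pull_ev`, `hom_self_ev`, `hom_comp_ev`, `βG`, `unit_ev`, `cocycle_ev`: element-wise forms of the
  axioms of a descent datum.

Kernel notes: (1) the expression `((F.toDescentData f).obj M).hom ...` must never be compared in two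
non-syntactically-equal forms for a concrete `F` (the kernel then unfolds the `mapComp'` coherence
isomorphisms); we therefore go through the regular definition `CommHyp` and abstract lemmas.
(2) The abstract lemmas are stated for the *concrete* category `CommRingCatᵒᵖ` so that instance paths
agree with hand-written statements.
-/

set_option autoImplicit false
set_option backward.isDefEq.respectTransparency false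
set_option backward.isDefEq.respectTransparency.types false
set_option backward.defeqAttrib.useBackward true

open CategoryTheory Opposite TensorProduct Limits
open ChangeOfRings
open Groth.Agent.Lib.Seat78.ExtPF Groth.Agent.Lib.Seat78.ExtPFDesc

universe u v w

namespace Groth.Agent.Lib.Seat78.ExtPFEff

section absF
variable (F : Pseudofunctor (LocallyDiscrete (CommRingCat.{u}ᵒᵖ)ᵒᵖ) Cat.{u, u + 1})
  {ι : Type v} {S : CommRingCat.{u}ᵒᵖ} {X : ι → CommRingCat.{u}ᵒᵖ} {f : ∀ i, X i ⟶ S}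

open Pseudofunctor LocallyDiscreteOpToCat

theorem hom_pull_abs (D : F.DescentData f) ⦃Y' Y : CommRingCat.{u}ᵒᵖ⦄ (g : Y' ⟶ Y) (q : Y ⟶ S) (q' : Y' ⟶ S)
    (hq : g ≫ q = q') ⦃i₁ i₂ : ι⦄ (f₁ : Y ⟶ X i₁) (f₂ : Y ⟶ X i₂) (hf₁ : f₁ ≫ f i₁ = q)
    (hf₂ : f₂ ≫ f i₂ = q) (gf₁ : Y' ⟶ X i₁) (gf₂ : Y' ⟶ X i₂) (hgf₁ : g ≫ f₁ = gf₁)
    (hgf₂ : g ≫ f₂ = gf₂) (hgq₁ : gf₁ ≫ f i₁ = q') (hgq₂ : gf₂ ≫ f i₂ = q') :
    D.hom q' gf₁ gf₂ hgq₁ hgq₂ =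
      app2 (F.mapComp' f₁.op.toLoc g.op.toLoc gf₁.op.toLoc (loc_comp' _ _ _ hgf₁)).hom (D.obj i₁) ≫
        (F.map g.op.toLoc).toFunctor.map (D.hom q f₁ f₂ hf₁ hf₂) ≫
        app2 (F.mapComp' f₂.op.toLoc g.op.toLoc gf₂.op.toLoc (loc_comp' _ _ _ hgf₂)).inv (D.obj i₂) :=
  (D.pullHom_hom g q q' hq f₁ f₂ hf₁ hf₂ gf₁ gf₂ hgf₁ hgf₂).symm

/-- A threefold chosen pullback, from `HasPullbacks`. -/
noncomputable def chosenPullback₃ [HasPullbacks CommRingCat.{u}ᵒᵖ] {X₁ X₂ X₃ : CommRingCat.{u}ᵒᵖ} {f₁ : X₁ ⟶ S} {f₂ : X₂ ⟶ S}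
    {f₃ : X₃ ⟶ S} (h₁₂ : ChosenPullback f₁ f₂) (h₂₃ : ChosenPullback f₂ f₃)
    (h₁₃ : ChosenPullback f₁ f₃) : ChosenPullback₃ h₁₂ h₂₃ h₁₃ where
  chosenPullback :=
    { pullback := pullback h₁₂.p₂ h₂₃.p₁
      p₁ := pullback.fst _ _
      p₂ := pullback.snd _ _
      condition := pullback.condition
      isLimit := (IsPullback.of_hasPullback h₁₂.p₂ h₂₃.p₁).isLimit }
  l := Classical.choice (ChosenPullback.LiftStruct.nonempty (by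
      simp only [Category.assoc, ChosenPullback.hp₁, ChosenPullback.hp₂]
      rw [← h₁₂.hp₂, ← h₂₃.hp₁, pullback.condition_assoc]) (by simp))

theorem nonempty_iso_of_comm [HasPullbacks CommRingCat.{u}ᵒᵖ] (sq : ∀ i j, ChosenPullback (f i) (f j))
    (D₁ D₂ : F.DescentData f) (e : ∀ i, D₁.obj i ≅ D₂.obj i)
    (comm : ∀ i₁ i₂, (F.map (sq i₁ i₂).p₁.op.toLoc).toFunctor.map (e i₁).hom ≫
        D₂.hom (sq i₁ i₂).p (sq i₁ i₂).p₁ (sq i₁ i₂).p₂ (by simp) (by simp) =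
      D₁.hom (sq i₁ i₂).p (sq i₁ i₂).p₁ (sq i₁ i₂).p₂ (by simp) (by simp) ≫
        (F.map (sq i₁ i₂).p₂.op.toLoc).toFunctor.map (e i₂).hom) :
    Nonempty (D₁ ≅ D₂) := by
  let sq₃ : ∀ i₁ i₂ i₃, ChosenPullback₃ (sq i₁ i₂) (sq i₂ i₃) (sq i₁ i₃) :=
    fun i₁ i₂ i₃ => chosenPullback₃ _ _ _
  let E := DescentData'.descentDataEquivalence F sq sq₃
  let i' : E.inverse.obj D₁ ≅ E.inverse.obj D₂ := DescentData'.isoMk e comm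
  exact ⟨(E.counitIso.app D₁).symm ≪≫ E.functor.mapIso i' ≪≫ E.counitIso.app D₂⟩

theorem comm_of_abs {M : F.obj (.mk (op S))} (D : F.DescentData f) ⦃Y : CommRingCat.{u}ᵒᵖ⦄ (q : Y ⟶ S) ⦃i₁ i₂ : ι⦄
    (p₁ : Y ⟶ X i₁) (p₂ : Y ⟶ X i₂) (hp₁ : p₁ ≫ f i₁ = q) (hp₂ : p₂ ≫ f i₂ = q)
    (e₁ : (F.map (f i₁).op.toLoc).toFunctor.obj M ⟶ D.obj i₁)
    (e₂ : (F.map (f i₂).op.toLoc).toFunctor.obj M ⟶ D.obj i₂)
    (h : app2 (F.mapComp' (f i₁).op.toLoc p₁.op.toLoc q.op.toLoc (loc_comp' _ _ _ hp₁)).hom M ≫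
        (F.map p₁.op.toLoc).toFunctor.map e₁ ≫ D.hom q p₁ p₂ hp₁ hp₂ =
      app2 (F.mapComp' (f i₂).op.toLoc p₂.op.toLoc q.op.toLoc (loc_comp' _ _ _ hp₂)).hom M ≫
        (F.map p₂.op.toLoc).toFunctor.map e₂) :
    (F.map p₁.op.toLoc).toFunctor.map e₁ ≫ D.hom q p₁ p₂ hp₁ hp₂ =
      ((F.toDescentData f).obj M).hom q p₁ p₂ hp₁ hp₂ ≫ (F.map p₂.op.toLoc).toFunctor.map e₂ := by
  rw [ofObj_hom_eq, Category.assoc, ← h]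
  rw [← Category.assoc (app2 _ M) (app2 _ M),
    app2_inv_hom (F.mapComp' (f i₁).op.toLoc p₁.op.toLoc q.op.toLoc (loc_comp' _ _ _ hp₁)) M,
    Category.id_comp]

/-- The hypothesis of `comm_of_abs`, as a regular definition (kernel: never compare the two
sides of the commutation square of `toDescentData` in unfolded form). -/
def CommHyp {M : F.obj (.mk (op S))} (D : F.DescentData f) ⦃Y : CommRingCat.{u}ᵒᵖ⦄ (q : Y ⟶ S) ⦃i₁ i₂ : ι⦄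
    (p₁ : Y ⟶ X i₁) (p₂ : Y ⟶ X i₂) (hp₁ : p₁ ≫ f i₁ = q) (hp₂ : p₂ ≫ f i₂ = q)
    (e₁ : (F.map (f i₁).op.toLoc).toFunctor.obj M ⟶ D.obj i₁)
    (e₂ : (F.map (f i₂).op.toLoc).toFunctor.obj M ⟶ D.obj i₂) : Prop :=
  app2 (F.mapComp' (f i₁).op.toLoc p₁.op.toLoc q.op.toLoc (loc_comp' _ _ _ hp₁)).hom M ≫
        (F.map p₁.op.toLoc).toFunctor.map e₁ ≫ D.hom q p₁ p₂ hp₁ hp₂ =
      app2 (F.mapComp' (f i₂).op.toLoc p₂.op.toLoc q.op.toLoc (loc_comp' _ _ _ hp₂)).hom M ≫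
        (F.map p₂.op.toLoc).toFunctor.map e₂

theorem commHyp_iff {M : F.obj (.mk (op S))} (D : F.DescentData f) ⦃Y : CommRingCat.{u}ᵒᵖ⦄ (q : Y ⟶ S) ⦃i₁ i₂ : ι⦄
    (p₁ : Y ⟶ X i₁) (p₂ : Y ⟶ X i₂) (hp₁ : p₁ ≫ f i₁ = q) (hp₂ : p₂ ≫ f i₂ = q)
    (e₁ : (F.map (f i₁).op.toLoc).toFunctor.obj M ⟶ D.obj i₁)
    (e₂ : (F.map (f i₂).op.toLoc).toFunctor.obj M ⟶ D.obj i₂) :
    CommHyp F D q p₁ p₂ hp₁ hp₂ e₁ e₂ ↔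
    (app2 (F.mapComp' (f i₁).op.toLoc p₁.op.toLoc q.op.toLoc (loc_comp' _ _ _ hp₁)).hom M ≫
        (F.map p₁.op.toLoc).toFunctor.map e₁ ≫ D.hom q p₁ p₂ hp₁ hp₂ =
      app2 (F.mapComp' (f i₂).op.toLoc p₂.op.toLoc q.op.toLoc (loc_comp' _ _ _ hp₂)).hom M ≫
        (F.map p₂.op.toLoc).toFunctor.map e₂) := Iff.rfl

/-- If the pulled-back comparison isomorphisms `e i` satisfy `CommHyp` on the chosen pullbacks,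
the descent datum `D` is isomorphic to the canonical descent datum of `M`. -/
theorem nonempty_iso_of_commHyp [HasPullbacks CommRingCat.{u}ᵒᵖ] (sq : ∀ i j, ChosenPullback (f i) (f j))
    {M : F.obj (.mk (op S))} (D : F.DescentData f)
    (e : ∀ i, (F.map (f i).op.toLoc).toFunctor.obj M ≅ D.obj i)
    (h : ∀ i₁ i₂, CommHyp F D (sq i₁ i₂).p (sq i₁ i₂).p₁ (sq i₁ i₂).p₂ (sq i₁ i₂).hp₁ (sq i₁ i₂).hp₂
      (e i₁).hom (e i₂).hom) :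
    Nonempty ((F.toDescentData f).obj M ≅ D) := by
  refine nonempty_iso_of_comm F sq ((F.toDescentData f).obj M) D e (fun i₁ i₂ => ?_)
  exact comm_of_abs F D (sq i₁ i₂).p (sq i₁ i₂).p₁ (sq i₁ i₂).p₂ (sq i₁ i₂).hp₁ (sq i₁ i₂).hp₂
    (e i₁).hom (e i₂).hom (h i₁ i₂)

end absF



theorem hom_ext_ev {R₁ R₂ : Type u} [CommRing R₁] [CommRing R₂] {a : R₁ →+* R₂} {M : ModuleCat.{u} R₁}
    {N : ModuleCat.{u} R₂} {α β : (ModuleCat.extendScalars a).obj M ⟶ N}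
    (h : ∀ m : M, ev α ((1 : R₂) ⊗ₜ[R₁, a] m) = ev β ((1 : R₂) ⊗ₜ[R₁, a] m)) : α = β :=
  ModuleCat.ExtendScalars.hom_ext h

variable (G : (CommRingCat.{u}ᵒᵖ)ᵒᵖ ⥤ CommRingCat.{u})

set_option quotPrecheck false in
local notation "FG" => Pseudofunctor.comp (Functor.toPseudofunctor G) CommRingCat.moduleCatExtendScalarsPseudofunctor

section elt
variable {ι : Type v} {S : CommRingCat.{u}ᵒᵖ} {X : ι → CommRingCat.{u}ᵒᵖ} {f : ∀ i, X i ⟶ S}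

/-- The module over `X i` of a descent datum, typed as a module. -/
abbrev objM (D : (FG).DescentData f) (i : ι) : ModuleCat.{u} (G.toPseudofunctor.obj (.mk (op (X i)))).as := D.obj i

theorem hom_pull_ev (D : (FG).DescentData f) ⦃Y' Y : CommRingCat.{u}ᵒᵖ⦄ (g : Y' ⟶ Y) (q : Y ⟶ S) (q' : Y' ⟶ S)
    (hq : g ≫ q = q') ⦃i₁ i₂ : ι⦄ (f₁ : Y ⟶ X i₁) (f₂ : Y ⟶ X i₂) (hf₁ : f₁ ≫ f i₁ = q)
    (hf₂ : f₂ ≫ f i₂ = q) (gf₁ : Y' ⟶ X i₁) (gf₂ : Y' ⟶ X i₂) (hgf₁ : g ≫ f₁ = gf₁)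
    (hgf₂ : g ≫ f₂ = gf₂) (hgq₁ : gf₁ ≫ f i₁ = q') (hgq₂ : gf₂ ≫ f i₂ = q')
    (n : objM G D i₁) :
    ev (D.hom q' gf₁ gf₂ hgq₁ hgq₂)
      ((1 : (G.toPseudofunctor.obj (.mk (op Y'))).as) ⊗ₜ[(G.toPseudofunctor.obj (.mk (op (X i₁)))).as,
        (G.toPseudofunctor.map gf₁.op.toLoc).as.hom] n) =
    Dl G f₂.op.toLoc g.op.toLoc gf₂.op.toLoc (loc_comp' _ _ _ hgf₂) (objM G D i₂)
      (ev (D.hom q f₁ f₂ hf₁ hf₂)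
        ((1 : (G.toPseudofunctor.obj (.mk (op Y))).as) ⊗ₜ[(G.toPseudofunctor.obj (.mk (op (X i₁)))).as,
          (G.toPseudofunctor.map f₁.op.toLoc).as.hom] n)) := by
  have h := hom_pull_abs (FG) D g q q' hq f₁ f₂ hf₁ hf₂ gf₁ gf₂ hgf₁ hgf₂ hgq₁ hgq₂
  have key := congrArg (fun φ => ev φ
    ((1 : (G.toPseudofunctor.obj (.mk (op Y'))).as) ⊗ₜ[(G.toPseudofunctor.obj (.mk (op (X i₁)))).as,
        (G.toPseudofunctor.map gf₁.op.toLoc).as.hom] n)) h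
  refine key.trans ?_
  refine (ev_comp3
    (app2 ((FG).mapComp' f₁.op.toLoc g.op.toLoc gf₁.op.toLoc (loc_comp' _ _ _ hgf₁)).hom (objM G D i₁))
    (((FG).map g.op.toLoc).toFunctor.map (D.hom q f₁ f₂ hf₁ hf₂))
    (app2 ((FG).mapComp' f₂.op.toLoc g.op.toLoc gf₂.op.toLoc (loc_comp' _ _ _ hgf₂)).inv (objM G D i₂))
    _).trans ?_
  rw [mapComp'_hom_app_tmul, map_ev_tmul]
  rfl



theorem comm_h_elt (D : (FG).DescentData f)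
    (M : ModuleCat.{u} (G.toPseudofunctor.obj (.mk (op S))).as)
    ⦃Y : CommRingCat.{u}ᵒᵖ⦄ (q : Y ⟶ S) ⦃i₁ i₂ : ι⦄
    (p₁ : Y ⟶ X i₁) (p₂ : Y ⟶ X i₂) (hp₁ : p₁ ≫ f i₁ = q) (hp₂ : p₂ ≫ f i₂ = q)
    (e₁ : ((FG).map (f i₁).op.toLoc).toFunctor.obj M ⟶ objM G D i₁)
    (e₂ : ((FG).map (f i₂).op.toLoc).toFunctor.obj M ⟶ objM G D i₂)
    (hinv : ∀ m : M, ev (D.hom q p₁ p₂ hp₁ hp₂)
        ((1 : (G.toPseudofunctor.obj (.mk (op Y))).as) ⊗ₜ[(G.toPseudofunctor.obj (.mk (op (X i₁)))).as,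
          (G.toPseudofunctor.map p₁.op.toLoc).as.hom]
          (ev e₁ ((1 : (G.toPseudofunctor.obj (.mk (op (X i₁)))).as) ⊗ₜ[(G.toPseudofunctor.obj (.mk (op S))).as,
            (G.toPseudofunctor.map (f i₁).op.toLoc).as.hom] m))) =
        ((1 : (G.toPseudofunctor.obj (.mk (op Y))).as) ⊗ₜ[(G.toPseudofunctor.obj (.mk (op (X i₂)))).as,
          (G.toPseudofunctor.map p₂.op.toLoc).as.hom]
          (ev e₂ ((1 : (G.toPseudofunctor.obj (.mk (op (X i₂)))).as) ⊗ₜ[(G.toPseudofunctor.obj (.mk (op S))).as,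
            (G.toPseudofunctor.map (f i₂).op.toLoc).as.hom] m)))) (m : M) :
    ev (app2 ((FG).mapComp' (f i₁).op.toLoc p₁.op.toLoc q.op.toLoc (loc_comp' _ _ _ hp₁)).hom M ≫
        ((FG).map p₁.op.toLoc).toFunctor.map e₁ ≫ D.hom q p₁ p₂ hp₁ hp₂)
      ((1 : (G.toPseudofunctor.obj (.mk (op Y))).as) ⊗ₜ[(G.toPseudofunctor.obj (.mk (op S))).as,
          (G.toPseudofunctor.map q.op.toLoc).as.hom] m) =
    ev (app2 ((FG).mapComp' (f i₂).op.toLoc p₂.op.toLoc q.op.toLoc (loc_comp' _ _ _ hp₂)).hom M ≫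
        ((FG).map p₂.op.toLoc).toFunctor.map e₂)
      ((1 : (G.toPseudofunctor.obj (.mk (op Y))).as) ⊗ₜ[(G.toPseudofunctor.obj (.mk (op S))).as,
          (G.toPseudofunctor.map q.op.toLoc).as.hom] m) := by
  refine (ev_comp3
    (app2 ((FG).mapComp' (f i₁).op.toLoc p₁.op.toLoc q.op.toLoc (loc_comp' _ _ _ hp₁)).hom M)
    (((FG).map p₁.op.toLoc).toFunctor.map e₁) (D.hom q p₁ p₂ hp₁ hp₂) _).trans ?_
  refine Eq.trans ?_ (ev_comp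
    (app2 ((FG).mapComp' (f i₂).op.toLoc p₂.op.toLoc q.op.toLoc (loc_comp' _ _ _ hp₂)).hom M)
    (((FG).map p₂.op.toLoc).toFunctor.map e₂) _).symm
  rw [mapComp'_hom_app_tmul, mapComp'_hom_app_tmul, map_ev_tmul, map_ev_tmul]
  exact hinv m


theorem comm_h (D : (FG).DescentData f)
    (M : ModuleCat.{u} (G.toPseudofunctor.obj (.mk (op S))).as)
    ⦃Y : CommRingCat.{u}ᵒᵖ⦄ (q : Y ⟶ S) ⦃i₁ i₂ : ι⦄
    (p₁ : Y ⟶ X i₁) (p₂ : Y ⟶ X i₂) (hp₁ : p₁ ≫ f i₁ = q) (hp₂ : p₂ ≫ f i₂ = q)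
    (e₁ : ((FG).map (f i₁).op.toLoc).toFunctor.obj M ⟶ objM G D i₁)
    (e₂ : ((FG).map (f i₂).op.toLoc).toFunctor.obj M ⟶ objM G D i₂)
    (hinv : ∀ m : M, ev (D.hom q p₁ p₂ hp₁ hp₂)
        ((1 : (G.toPseudofunctor.obj (.mk (op Y))).as) ⊗ₜ[(G.toPseudofunctor.obj (.mk (op (X i₁)))).as,
          (G.toPseudofunctor.map p₁.op.toLoc).as.hom]
          (ev e₁ ((1 : (G.toPseudofunctor.obj (.mk (op (X i₁)))).as) ⊗ₜ[(G.toPseudofunctor.obj (.mk (op S))).as,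
            (G.toPseudofunctor.map (f i₁).op.toLoc).as.hom] m))) =
        ((1 : (G.toPseudofunctor.obj (.mk (op Y))).as) ⊗ₜ[(G.toPseudofunctor.obj (.mk (op (X i₂)))).as,
          (G.toPseudofunctor.map p₂.op.toLoc).as.hom]
          (ev e₂ ((1 : (G.toPseudofunctor.obj (.mk (op (X i₂)))).as) ⊗ₜ[(G.toPseudofunctor.obj (.mk (op S))).as,
            (G.toPseudofunctor.map (f i₂).op.toLoc).as.hom] m)))) :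
    app2 ((FG).mapComp' (f i₁).op.toLoc p₁.op.toLoc q.op.toLoc (loc_comp' _ _ _ hp₁)).hom M ≫
        ((FG).map p₁.op.toLoc).toFunctor.map e₁ ≫ D.hom q p₁ p₂ hp₁ hp₂ =
    app2 ((FG).mapComp' (f i₂).op.toLoc p₂.op.toLoc q.op.toLoc (loc_comp' _ _ _ hp₂)).hom M ≫
        ((FG).map p₂.op.toLoc).toFunctor.map e₂ :=
  hom_ext_ev (fun m => comm_h_elt G D M q p₁ p₂ hp₁ hp₂ e₁ e₂ hinv m)


/-- An element-wise invariance statement gives `CommHyp`. -/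
theorem commHyp_of_invariant (D : (FG).DescentData f)
    (M : ModuleCat.{u} (G.toPseudofunctor.obj (.mk (op S))).as)
    ⦃Y : CommRingCat.{u}ᵒᵖ⦄ (q : Y ⟶ S) ⦃i₁ i₂ : ι⦄
    (p₁ : Y ⟶ X i₁) (p₂ : Y ⟶ X i₂) (hp₁ : p₁ ≫ f i₁ = q) (hp₂ : p₂ ≫ f i₂ = q)
    (e₁ : ((FG).map (f i₁).op.toLoc).toFunctor.obj M ⟶ objM G D i₁)
    (e₂ : ((FG).map (f i₂).op.toLoc).toFunctor.obj M ⟶ objM G D i₂)
    (hinv : ∀ m : M, ev (D.hom q p₁ p₂ hp₁ hp₂)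
        ((1 : (G.toPseudofunctor.obj (.mk (op Y))).as) ⊗ₜ[(G.toPseudofunctor.obj (.mk (op (X i₁)))).as,
          (G.toPseudofunctor.map p₁.op.toLoc).as.hom]
          (ev e₁ ((1 : (G.toPseudofunctor.obj (.mk (op (X i₁)))).as) ⊗ₜ[(G.toPseudofunctor.obj (.mk (op S))).as,
            (G.toPseudofunctor.map (f i₁).op.toLoc).as.hom] m))) =
        ((1 : (G.toPseudofunctor.obj (.mk (op Y))).as) ⊗ₜ[(G.toPseudofunctor.obj (.mk (op (X i₂)))).as,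
          (G.toPseudofunctor.map p₂.op.toLoc).as.hom]
          (ev e₂ ((1 : (G.toPseudofunctor.obj (.mk (op (X i₂)))).as) ⊗ₜ[(G.toPseudofunctor.obj (.mk (op S))).as,
            (G.toPseudofunctor.map (f i₂).op.toLoc).as.hom] m)))) :
    CommHyp (FG) D q p₁ p₂ hp₁ hp₂ e₁ e₂ :=
  comm_h G D M q p₁ p₂ hp₁ hp₂ e₁ e₂ hinv


theorem hom_self_ev (D : (FG).DescentData f) ⦃Y : CommRingCat.{u}ᵒᵖ⦄ (q : Y ⟶ S) ⦃i : ι⦄ (g : Y ⟶ X i)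
    (hg : g ≫ f i = q)
    (x : (ModuleCat.extendScalars (G.toPseudofunctor.map g.op.toLoc).as.hom).obj (objM G D i)) :
    ev (D.hom q g g hg hg) x = x :=
  congrArg (fun φ => ev φ x) (D.hom_self q g hg)

theorem hom_comp_ev (D : (FG).DescentData f) ⦃Y : CommRingCat.{u}ᵒᵖ⦄ (q : Y ⟶ S) ⦃i₁ i₂ i₃ : ι⦄
    (f₁ : Y ⟶ X i₁) (f₂ : Y ⟶ X i₂) (f₃ : Y ⟶ X i₃) (hf₁ : f₁ ≫ f i₁ = q) (hf₂ : f₂ ≫ f i₂ = q)
    (hf₃ : f₃ ≫ f i₃ = q)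
    (x : (ModuleCat.extendScalars (G.toPseudofunctor.map f₁.op.toLoc).as.hom).obj (objM G D i₁)) :
    ev (D.hom q f₂ f₃ hf₂ hf₃) (ev (D.hom q f₁ f₂ hf₁ hf₂) x) = ev (D.hom q f₁ f₃ hf₁ hf₃) x :=
  congrArg (fun φ => ev φ x) (D.hom_comp q f₁ f₂ f₃ hf₁ hf₂ hf₃)

section cocycle
variable {i : ι}

/-- The "descent isomorphism" `n ↦ φ (1 ⊗ n)` attached to two maps `π₁ π₂ : Y₂ ⟶ X i`. -/
noncomputable def βG (D : (FG).DescentData f) ⦃Y₂ : CommRingCat.{u}ᵒᵖ⦄ (q₂ : Y₂ ⟶ S) (π₁ π₂ : Y₂ ⟶ X i) (h₁ : π₁ ≫ f i = q₂)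
    (h₂ : π₂ ≫ f i = q₂) (n : objM G D i) :
    (ModuleCat.extendScalars (G.toPseudofunctor.map π₂.op.toLoc).as.hom).obj (objM G D i) :=
  ev (D.hom q₂ π₁ π₂ h₁ h₂)
    ((1 : (G.toPseudofunctor.obj (.mk (op Y₂))).as) ⊗ₜ[(G.toPseudofunctor.obj (.mk (op (X i)))).as,
      (G.toPseudofunctor.map π₁.op.toLoc).as.hom] n)

theorem βG_add (D : (FG).DescentData f) ⦃Y₂ : CommRingCat.{u}ᵒᵖ⦄ (q₂ : Y₂ ⟶ S) (π₁ π₂ : Y₂ ⟶ X i) (h₁ : π₁ ≫ f i = q₂)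
    (h₂ : π₂ ≫ f i = q₂) (n n' : objM G D i) :
    βG G D q₂ π₁ π₂ h₁ h₂ (n + n') = βG G D q₂ π₁ π₂ h₁ h₂ n + βG G D q₂ π₁ π₂ h₁ h₂ n' := by
  unfold βG
  rw [one_tmul_add, ev_add]

theorem βG_smul (D : (FG).DescentData f) ⦃Y₂ : CommRingCat.{u}ᵒᵖ⦄ (q₂ : Y₂ ⟶ S) (π₁ π₂ : Y₂ ⟶ X i) (h₁ : π₁ ≫ f i = q₂)
    (h₂ : π₂ ≫ f i = q₂) (r : (G.toPseudofunctor.obj (.mk (op (X i)))).as) (n : objM G D i) :
    βG G D q₂ π₁ π₂ h₁ h₂ (r • n) =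
      ((G.toPseudofunctor.map π₁.op.toLoc).as.hom r) • βG G D q₂ π₁ π₂ h₁ h₂ n := by
  unfold βG
  rw [one_tmul_smul, ev_smul]

/-- Unit axiom, element-wise: pulling `β` back along a common section `Δ` of `π₁, π₂` gives the identity. -/
theorem unit_ev (D : (FG).DescentData f) ⦃Y₂ : CommRingCat.{u}ᵒᵖ⦄ (q₂ : Y₂ ⟶ S) (π₁ π₂ : Y₂ ⟶ X i) (h₁ : π₁ ≫ f i = q₂)
    (h₂ : π₂ ≫ f i = q₂) (Δ : X i ⟶ Y₂) (hΔ₁ : Δ ≫ π₁ = 𝟙 (X i)) (hΔ₂ : Δ ≫ π₂ = 𝟙 (X i))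
    (n : objM G D i) :
    Dl G π₂.op.toLoc Δ.op.toLoc (𝟙 (X i)).op.toLoc (loc_comp' _ _ _ hΔ₂) (objM G D i)
        (βG G D q₂ π₁ π₂ h₁ h₂ n) =
      ((1 : (G.toPseudofunctor.obj (.mk (op (X i)))).as) ⊗ₜ[(G.toPseudofunctor.obj (.mk (op (X i)))).as,
        (G.toPseudofunctor.map (𝟙 (X i)).op.toLoc).as.hom] n) := by
  have hq : Δ ≫ q₂ = f i := by rw [← h₁, ← Category.assoc, hΔ₁, Category.id_comp]
  have h := hom_pull_ev G D Δ q₂ (f i) hq π₁ π₂ h₁ h₂ (𝟙 (X i)) (𝟙 (X i)) hΔ₁ hΔ₂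
    (Category.id_comp _) (Category.id_comp _) n
  rw [hom_self_ev] at h
  exact h.symm

/-- Cocycle axiom, element-wise. -/
theorem cocycle_ev (D : (FG).DescentData f) ⦃Y₂ Y₃ : CommRingCat.{u}ᵒᵖ⦄ (q₂ : Y₂ ⟶ S) (π₁ π₂ : Y₂ ⟶ X i) (h₁ : π₁ ≫ f i = q₂)
    (h₂ : π₂ ≫ f i = q₂) (q₃ : Y₃ ⟶ S) (ρ₁ ρ₂ ρ₃ : Y₃ ⟶ X i) (hρ₁ : ρ₁ ≫ f i = q₃) (hρ₂ : ρ₂ ≫ f i = q₃)
    (hρ₃ : ρ₃ ≫ f i = q₃) (γ₁₂ γ₁₃ : Y₃ ⟶ Y₂) (hq₁₂ : γ₁₂ ≫ q₂ = q₃) (hq₁₃ : γ₁₃ ≫ q₂ = q₃)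
    (h₁₂₁ : γ₁₂ ≫ π₁ = ρ₁) (h₁₂₂ : γ₁₂ ≫ π₂ = ρ₂) (h₁₃₁ : γ₁₃ ≫ π₁ = ρ₁) (h₁₃₂ : γ₁₃ ≫ π₂ = ρ₃)
    (n : objM G D i) :
    Dl G π₂.op.toLoc γ₁₃.op.toLoc ρ₃.op.toLoc (loc_comp' _ _ _ h₁₃₂) (objM G D i)
        (βG G D q₂ π₁ π₂ h₁ h₂ n) =
      ev (D.hom q₃ ρ₂ ρ₃ hρ₂ hρ₃)
        (Dl G π₂.op.toLoc γ₁₂.op.toLoc ρ₂.op.toLoc (loc_comp' _ _ _ h₁₂₂) (objM G D i)
          (βG G D q₂ π₁ π₂ h₁ h₂ n)) := by
  have a := hom_pull_ev G D γ₁₃ q₂ q₃ hq₁₃ π₁ π₂ h₁ h₂ ρ₁ ρ₃ h₁₃₁ h₁₃₂ hρ₁ hρ₃ n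
  have b := hom_pull_ev G D γ₁₂ q₂ q₃ hq₁₂ π₁ π₂ h₁ h₂ ρ₁ ρ₂ h₁₂₁ h₁₂₂ hρ₁ hρ₂ n
  have c := hom_comp_ev G D q₃ ρ₁ ρ₂ ρ₃ hρ₁ hρ₂ hρ₃
    ((1 : (G.toPseudofunctor.obj (.mk (op Y₃))).as) ⊗ₜ[(G.toPseudofunctor.obj (.mk (op (X i)))).as,
      (G.toPseudofunctor.map ρ₁.op.toLoc).as.hom] n)
  exact a.symm.trans (c.symm.trans (congrArg (ev (D.hom q₃ ρ₂ ρ₃ hρ₂ hρ₃)) b))

/-- Pull-back of `β` along `γ₂₃`, element-wise. -/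
theorem pull_ev (D : (FG).DescentData f) ⦃Y₂ Y₃ : CommRingCat.{u}ᵒᵖ⦄ (q₂ : Y₂ ⟶ S) (π₁ π₂ : Y₂ ⟶ X i) (h₁ : π₁ ≫ f i = q₂)
    (h₂ : π₂ ≫ f i = q₂) (q₃ : Y₃ ⟶ S) (ρ₂ ρ₃ : Y₃ ⟶ X i) (hρ₂ : ρ₂ ≫ f i = q₃)
    (hρ₃ : ρ₃ ≫ f i = q₃) (γ₂₃ : Y₃ ⟶ Y₂) (hq₂₃ : γ₂₃ ≫ q₂ = q₃)
    (h₂₃₁ : γ₂₃ ≫ π₁ = ρ₂) (h₂₃₂ : γ₂₃ ≫ π₂ = ρ₃) (n : objM G D i) :
    ev (D.hom q₃ ρ₂ ρ₃ hρ₂ hρ₃)
        ((1 : (G.toPseudofunctor.obj (.mk (op Y₃))).as) ⊗ₜ[(G.toPseudofunctor.obj (.mk (op (X i)))).as,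
          (G.toPseudofunctor.map ρ₂.op.toLoc).as.hom] n) =
      Dl G π₂.op.toLoc γ₂₃.op.toLoc ρ₃.op.toLoc (loc_comp' _ _ _ h₂₃₂) (objM G D i)
        (βG G D q₂ π₁ π₂ h₁ h₂ n) :=
  hom_pull_ev G D γ₂₃ q₂ q₃ hq₂₃ π₁ π₂ h₁ h₂ ρ₂ ρ₃ h₂₃₁ h₂₃₂ hρ₂ hρ₃ n

end cocycle

end elt

end Groth.Agent.Lib.Seat78.ExtPFEff
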