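import Mathlib
import Groth.Agent.S16598
import Groth.Agent.S19587
import Groth.Agent.S19589
import Groth.Agent.Lib.Seat78LGAz
import Groth.Agent.Lib.Seat78Corner

/-!
# Cancellation for Azumaya algebras over LG-rings

`nonempty_algEquiv_of_tensor_end`: over an LG-ring `R`, if `A`, `B` are Azumaya algebras of the same
rank function and `A ⊗ End P ≃ₐ B ⊗ End Q` for faithfully projective modules `P`, `Q`, then
`A ≃ₐ B`.
-/

set_option autoImplicit false
universe u v₁ v₂ w₁ w₂

namespace Groth.Agent.Lib.Seat78.GT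
open TensorProduct Groth.Agent.Lib.Seat78.Corner

theorem rankAtStalk_pos_of_faithful {R : Type u} [CommRing R] (M : Type*) [AddCommGroup M]
    [Module R M] [Module.Finite R M] [Module.Projective R M] [FaithfulSMul R M]
    (q : PrimeSpectrum R) : 0 < Module.rankAtStalk M q := by
  rw [Module.rankAtStalk_pos_iff_mem_support, Module.support_eq_zeroLocus,
    Module.annihilator_eq_bot.mpr inferInstance]
  simp

theorem nonempty_algEquiv_of_tensor_end {R : Type u} [CommRing R] (hR : LGRing.IsLGRing R)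
    (A : Type v₁) [Ring A] [Algebra R A] [IsAzumaya R A]
    (B : Type v₂) [Ring B] [Algebra R B] [IsAzumaya R B]
    (hdeg : ∀ p : PrimeSpectrum R, Module.rankAtStalk A p = Module.rankAtStalk B p)
    (P : Type w₁) [AddCommGroup P] [Module R P] [Module.Finite R P] [Module.Projective R P]
    [FaithfulSMul R P]
    (Q : Type w₂) [AddCommGroup Q] [Module R Q] [Module.Finite R Q] [Module.Projective R Q]
    [FaithfulSMul R Q]
    (e : A ⊗[R] Module.End R P ≃ₐ[R] B ⊗[R] Module.End R Q) : Nonempty (A ≃ₐ[R] B) := by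
  obtain ⟨u, lam, h⟩ := Groth.Agent.S16598.result hR P
  obtain ⟨u', lam', h'⟩ := Groth.Agent.S16598.result hR Q
  have : IsAzumaya R (Module.End R Q) := Groth.Agent.S19589.result R Q
  have : IsAzumaya R (Module.End R P) := Groth.Agent.S19589.result R P
  have : Module.Flat R (Module.End R P) := inferInstance
  have : Module.Flat R (Module.End R Q) := inferInstance
  have : Module.Flat R A := inferInstance
  have : Module.Flat R B := inferInstance
  have : IsAzumaya R (B ⊗[R] Module.End R Q) := Groth.Agent.S19587.result R B (Module.End R Q)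
  let cA : CornerData R (B ⊗[R] Module.End R Q) A := (cornerData A h).transport e
  let cB : CornerData R (B ⊗[R] Module.End R Q) B := cornerData B h'
  have hfA : cA.ι 1 = e ((1 : A) ⊗ₜ[R] tau lam u) := rfl
  have hfB : cB.ι 1 = (1 : B) ⊗ₜ[R] tau lam' u' := rfl
  obtain ⟨EA⟩ := nonempty_linearEquiv_span A h e
  obtain ⟨EB⟩ := nonempty_linearEquiv_span B h' (AlgEquiv.refl (R := R) (A₁ := B ⊗[R] Module.End R Q))
  rw [← hfA] at EA
  have hrefl : (AlgEquiv.refl (R := R) (A₁ := B ⊗[R] Module.End R Q)) ((1 : B) ⊗ₜ[R] tau lam' u') =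
      cB.ι 1 := rfl
  rw [hrefl] at EB
  have : Module.Finite (B ⊗[R] Module.End R Q) (Ideal.span {cA.ι 1} : Ideal (B ⊗[R] Module.End R Q)) :=
    finite_span_singleton _
  have : Module.Finite (B ⊗[R] Module.End R Q) (Ideal.span {cB.ι 1} : Ideal (B ⊗[R] Module.End R Q)) :=
    finite_span_singleton _
  have : Module.Projective (B ⊗[R] Module.End R Q)
      (Ideal.span {cA.ι 1} : Ideal (B ⊗[R] Module.End R Q)) := projective_span_singleton cA.idem
  have : Module.Projective (B ⊗[R] Module.End R Q)
      (Ideal.span {cB.ι 1} : Ideal (B ⊗[R] Module.End R Q)) := projective_span_singleton cB.idem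
  have hrank : ∀ p : PrimeSpectrum R,
      Module.rankAtStalk (Ideal.span {cA.ι 1} : Ideal (B ⊗[R] Module.End R Q)) p =
        Module.rankAtStalk (Ideal.span {cB.ι 1} : Ideal (B ⊗[R] Module.End R Q)) p := by
    intro p
    have h1 := congrFun (Module.rankAtStalk_eq_of_equiv EA) p
    have h2 := congrFun (Module.rankAtStalk_eq_of_equiv EB) p
    rw [Module.rankAtStalk_tensorProduct, Pi.mul_apply] at h1 h2
    rw [← h1, ← h2]
    have h3 := congrFun (Module.rankAtStalk_eq_of_equiv e.toLinearEquiv) p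
    rw [Module.rankAtStalk_tensorProduct, Module.rankAtStalk_tensorProduct, Pi.mul_apply,
      Pi.mul_apply, rankAtStalk_end, rankAtStalk_end, hdeg p] at h3
    have hpos : 0 < Module.rankAtStalk B p := rankAtStalk_pos_of_faithful B p
    have h4 : Module.rankAtStalk P p ^ 2 = Module.rankAtStalk Q p ^ 2 :=
      Nat.eq_of_mul_eq_mul_left hpos h3
    have h5 : Module.rankAtStalk P p = Module.rankAtStalk Q p :=
      Nat.pow_left_injective (n := 2) (by norm_num) h4
    rw [hdeg p, h5]
  obtain ⟨χ⟩ := Groth.Agent.Lib.Seat78.LGAz.nonempty_linearEquiv hR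
    (A := B ⊗[R] Module.End R Q)
    (M := (Ideal.span {cA.ι 1} : Ideal (B ⊗[R] Module.End R Q)))
    (N := (Ideal.span {cB.ι 1} : Ideal (B ⊗[R] Module.End R Q))) hrank
  obtain ⟨x, y, hx1, hx2, hy1, hy2, hxy, hyx⟩ := exists_of_linearEquiv cA.idem cB.idem χ
  exact ⟨cA.transfer cB x y hx1 hx2 hy1 hy2 hxy hyx⟩

end Groth.Agent.Lib.Seat78.GT
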