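import Mathlib

/-!
# Ramification under invariants (Seat 78)

* `exists_smul_eq_zero_of_forall_smul_mem`: Nakayama at a prime without localisation;
* `card_le_of_eq_pow_mul`: if `G` stabilises the principal prime `(π)` of `A`, `B = A^G`, `A` finite
  over `B`, trivial residue extension at `(π)`, then every nonzero element of `q = (π) ∩ B` has
  `π`-adic multiplicity at least `|G|`;
* `prod_smul_dvd_of_pow_dvd`: UFD multiplicity count for norms;
* `exists_eq_span_singleton`: a height-one prime of `A^G` under a prime with trivial residue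
  extension (A a UFD, finite over `A^G`) is principal, generated by the norm of a prime element.
-/

set_option autoImplicit false
set_option linter.style.haveILetI false
set_option linter.unusedSectionVars false

namespace Groth.Agent.Lib.Seat78.InvRam

open Polynomial

/-- Nakayama at a prime, without localisation: if a finite module `Q` satisfies `Q_q = q Q_q`
(elementwise), then `Q_q = 0` (elementwise). -/
theorem exists_smul_eq_zero_of_forall_smul_mem {B : Type*} [CommRing B] (q : Ideal B) [q.IsPrime]
    {Q : Type*} [AddCommGroup Q] [Module B Q] [Module.Finite B Q]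
    (h : ∀ m : Q, ∃ c : B, c ∉ q ∧ c • m ∈ q • (⊤ : Submodule B Q)) :
    ∃ c : B, c ∉ q ∧ ∀ m : Q, c • m = 0 := by
  classical
  obtain ⟨s, hs⟩ := (Module.Finite.fg_top : (⊤ : Submodule B Q).FG)
  choose c hc hcm using h
  set c₀ : B := ∏ m ∈ s, c m with hc₀
  have hc₀q : c₀ ∉ q := by
    rw [hc₀]
    intro hmem
    obtain ⟨m, -, hm⟩ := (Ideal.IsPrime.prod_mem_iff).mp hmem
    exact hc m hm
  have hrange : LinearMap.range (c₀ • (1 : Module.End B Q)) ≤ q • (⊤ : Submodule B Q) := by
    rintro _ ⟨m, rfl⟩
    have hm : m ∈ Submodule.span B (s : Set Q) := by rw [hs]; trivial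
    induction hm using Submodule.span_induction with
    | mem x hx =>
      have : c₀ = (∏ m ∈ s.erase x, c m) * c x := by
        rw [hc₀, ← Finset.prod_erase_mul s _ hx]
      show c₀ • x ∈ _
      rw [this, mul_smul]
      exact Submodule.smul_mem _ _ (hcm x)
    | zero => simp
    | add x y _ _ hx hy => simpa using Submodule.add_mem _ hx hy
    | smul a x _ hx =>
      rw [map_smul]
      exact Submodule.smul_mem _ _ hx
  obtain ⟨p, hmonic, -, hcoeff, hp⟩ :=
    LinearMap.exists_monic_and_natDegree_eq_and_coeff_mem_pow_and_aeval_eq_zero B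
      (c₀ • (1 : Module.End B Q)) q hrange
  refine ⟨p.eval c₀, ?_, fun m => ?_⟩
  · rw [Polynomial.eval_eq_sum_range, Finset.sum_range_succ, hmonic.coeff_natDegree, one_mul]
    intro hmem
    have h1 : ∑ k ∈ Finset.range p.natDegree, p.coeff k * c₀ ^ k ∈ q := by
      refine Ideal.sum_mem _ fun k hk => ?_
      refine Ideal.mul_mem_right _ _ ?_
      have hk' : k < p.natDegree := Finset.mem_range.mp hk
      have : p.natDegree - k ≠ 0 := by omega
      exact Ideal.pow_le_self this (hcoeff k)
    have h2 : c₀ ^ p.natDegree ∈ q := by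
      have := q.sub_mem hmem h1
      simpa using this
    exact hc₀q (Ideal.IsPrime.mem_of_pow_mem inferInstance _ h2)
  · have h3 : c₀ • (1 : Module.End B Q) = algebraMap B (Module.End B Q) c₀ := by
      rw [Algebra.algebraMap_eq_smul_one]
    rw [h3, Polynomial.aeval_algebraMap_apply] at hp
    have := congrArg (fun f : Module.End B Q => f m) hp
    simpa [Module.algebraMap_end_apply] using this


section LemmaA

variable {A B G : Type*} [CommRing A] [IsDomain A]
  [CommRing B] [Algebra B A] [FaithfulSMul B A] [Module.Finite B A]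
  [Group G] [Finite G] [MulSemiringAction G A] [FaithfulSMul G A] [SMulCommClass G B A]
  [Algebra.IsInvariant B A G]

/-- The norm of an element lies in the base. -/
theorem exists_algebraMap_eq_prod_smul [Fintype G] (s : A) :
    ∃ n₀ : B, algebraMap B A n₀ = ∏ g : G, g • s := by
  apply Algebra.IsInvariant.isInvariant (A := B) (B := A) (G := G)
  intro g
  rw [Finset.smul_prod']
  exact Fintype.prod_equiv (Equiv.mulLeft g) _ _ (fun h => by simp [mul_smul])

theorem dvd_of_dvd_smul {π : A} (hstab : ∀ g : G, Associated (g • π) π) {g : G} {s : A}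
    (h : π ∣ g • s) : π ∣ s := by
  have h1 : g⁻¹ • π ∣ g⁻¹ • g • s := by
    obtain ⟨y, hy⟩ := h
    exact ⟨g⁻¹ • y, by rw [hy, smul_mul']⟩
  rw [inv_smul_smul] at h1
  exact (hstab g⁻¹).symm.dvd.trans h1

/-- The filtration step. -/
theorem exists_smul_eq_add_pow_mul (q : Ideal B) [q.IsPrime] (π : A)
    (hres : ∀ a : A, ∃ b c : B, c ∉ q ∧ π ∣ algebraMap B A c * a - algebraMap B A b) (j : ℕ) :
    ∀ a : A, ∃ c : B, c ∉ q ∧ ∃ f ∈ Submodule.span B (Set.range fun i : Fin j => π ^ (i : ℕ)),
      ∃ a' : A, c • a = f + π ^ j * a' := by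
  induction j with
  | zero =>
    intro a
    exact ⟨1, fun h => (inferInstance : q.IsPrime).ne_top ((Ideal.eq_top_iff_one _).mpr h), 0,
      Submodule.zero_mem _, a, by simp⟩
  | succ j ih =>
    intro a
    obtain ⟨c, hc, f, hf, a', ha'⟩ := ih a
    obtain ⟨b₁, c₁, hc₁, a'', ha''⟩ := hres a'
    refine ⟨c₁ * c, fun h => ?_, c₁ • f + b₁ • π ^ j, ?_, a'', ?_⟩
    · rcases (inferInstance : q.IsPrime).mem_or_mem h with h | h
      · exact hc₁ h
      · exact hc h
    · refine Submodule.add_mem _ (Submodule.smul_mem _ _ ?_) (Submodule.smul_mem _ _ ?_)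
      · refine Submodule.span_mono ?_ hf
        rintro _ ⟨i, rfl⟩
        exact ⟨i.castSucc, by simp⟩
      · exact Submodule.subset_span ⟨Fin.last j, by simp⟩
    · rw [mul_smul, ha', smul_add, Algebra.smul_def c₁ (π ^ j * a'), Algebra.smul_def b₁]
      have : algebraMap B A c₁ * a' = algebraMap B A b₁ + π * a'' := by
        rw [← ha'']; ring
      rw [mul_left_comm, this]
      ring

theorem card_le_of_eq_pow_mul (q : Ideal B) [q.IsPrime] (π : A) (hπ : Prime π)
    (hq : ∀ b : B, b ∈ q ↔ π ∣ algebraMap B A b)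
    (hstab : ∀ g : G, Associated (g • π) π)
    (hres : ∀ a : A, ∃ b c : B, c ∉ q ∧ π ∣ algebraMap B A c * a - algebraMap B A b)
    (e : ℕ) (t : B) (ht : t ∈ q) (s : A) (hts : algebraMap B A t = π ^ e * s) (hs : ¬ π ∣ s) :
    Nat.card G ≤ e := by
  classical
  have hBdom : IsDomain B := IsDomain.of_faithfulSMul B A
  have hinj : Function.Injective (algebraMap B A) := FaithfulSMul.algebraMap_injective B A
  letI : Fintype G := Fintype.ofFinite G
  -- the norm of `s`
  obtain ⟨n₀, hn₀⟩ := exists_algebraMap_eq_prod_smul (B := B) (G := G) s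
  have hn₀q : n₀ ∉ q := by
    rw [hq, hn₀]
    intro h
    obtain ⟨g, -, hg⟩ := (Prime.dvd_finsetProd_iff hπ _).mp h
    exact hs (dvd_of_dvd_smul hstab hg)
  set s' : A := ∏ g ∈ (Finset.univ : Finset G).erase 1, g • s with hs'
  have hss' : s * s' = algebraMap B A n₀ := by
    rw [hn₀, hs', ← Finset.mul_prod_erase Finset.univ (fun g : G => g • s) (Finset.mem_univ 1),
      one_smul]
  -- the submodule spanned by the powers of `π`
  set F : Submodule B A := Submodule.span B (Set.range fun i : Fin e => π ^ (i : ℕ)) with hF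
  have key : ∀ m : A ⧸ F, ∃ c : B, c ∉ q ∧ c • m ∈ q • (⊤ : Submodule B (A ⧸ F)) := by
    intro m
    obtain ⟨a, rfl⟩ := Submodule.Quotient.mk_surjective F m
    obtain ⟨c, hc, f, hf, a', ha'⟩ := exists_smul_eq_add_pow_mul q π hres e a
    refine ⟨n₀ * c, fun h => ?_, ?_⟩
    · rcases (inferInstance : q.IsPrime).mem_or_mem h with h | h
      · exact hn₀q h
      · exact hc h
    · have h1 : (n₀ * c) • a = n₀ • f + t • (s' * a') := by
        rw [mul_smul, ha', smul_add, Algebra.smul_def n₀ (π ^ e * a'), Algebra.smul_def t, hts,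
          ← hss']
        ring
      rw [← Submodule.Quotient.mk_smul, h1, Submodule.Quotient.mk_add,
        (Submodule.Quotient.mk_eq_zero F).mpr (F.smul_mem n₀ hf), zero_add,
        Submodule.Quotient.mk_smul]
      exact Submodule.smul_mem_smul ht Submodule.mem_top
  obtain ⟨c, hc, hcm⟩ := exists_smul_eq_zero_of_forall_smul_mem q key
  have hcF : ∀ a : A, c • a ∈ F := by
    intro a
    have := hcm (Submodule.Quotient.mk a)
    rwa [← Submodule.Quotient.mk_smul, Submodule.Quotient.mk_eq_zero] at this
  have hc0 : c ≠ 0 := fun h => hc (h ▸ q.zero_mem)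
  -- rank count
  haveI : IsGaloisGroup G B A := ⟨inferInstance, inferInstance, inferInstance⟩
  have hrank : Nat.card G = Module.finrank B A := IsGaloisGroup.card_eq_finrank' G B A
  by_contra hlt
  rw [not_le] at hlt
  have hle : e + 1 ≤ Module.finrank B A := by omega
  obtain ⟨v, hv⟩ := exists_linearIndependent_of_le_finrank hle
  have hv' : LinearIndependent B (fun i => c • v i) := by
    rw [Fintype.linearIndependent_iff] at hv ⊢
    intro r hr i
    have h2 : ∑ i, (r i * c) • v i = 0 := by
      rw [← hr]
      exact Finset.sum_congr rfl (fun i _ => by rw [mul_smul])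
    have := hv (fun i => r i * c) h2 i
    exact (mul_eq_zero.mp this).resolve_right hc0
  have hsub : Set.range (fun i => c • v i) ≤
      Submodule.span B (Set.range fun i : Fin e => π ^ (i : ℕ)) := by
    rintro _ ⟨i, rfl⟩
    exact hcF (v i)
  have hfin : Fintype (Set.range fun i : Fin e => π ^ (i : ℕ)) := Fintype.ofFinite _
  have h3 := linearIndependent_le_span_aux' _ hv' _ hsub
  have h4 : Fintype.card (Set.range fun i : Fin e => π ^ (i : ℕ)) ≤ e := by
    have := Fintype.card_range_le (fun i : Fin e => π ^ (i : ℕ))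
    simpa using this
  simp only [Fintype.card_fin] at h3
  omega

end LemmaA

section Mult

variable {A G : Type*} [CommRing A] [IsDomain A] [UniqueFactorizationMonoid A]
  [Group G] [MulSemiringAction G A]

theorem prime_smul {π : A} (hπ : Prime π) (g : G) : Prime (g • π) :=
  (MulEquiv.prime_iff (MulSemiringAction.toRingEquiv G A g).toMulEquiv).mpr hπ

theorem associated_smul {x y : A} (h : Associated x y) (g : G) : Associated (g • x) (g • y) :=
  h.map (MulSemiringAction.toRingHom G A g)

/-- If `x` is invariant and divisible by `π ^ |D|`, where `D` is the stabiliser of the prime `(π)`,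
then `x` is divisible by the norm of `π`. -/
theorem prod_smul_dvd_of_pow_dvd [Fintype G] (π : A) (hπ : Prime π) (D : Subgroup G)
    (hD : ∀ g, g ∈ D ↔ Associated (g • π) π) (x : A) (hx : ∀ g : G, g • x = x)
    (hpow : π ^ Nat.card D ∣ x) : ∏ g : G, g • π ∣ x := by
  classical
  have hne : ∏ g : G, g • π ≠ 0 :=
    Finset.prod_ne_zero_iff.mpr fun g _ => (prime_smul hπ g).ne_zero
  rw [UniqueFactorizationMonoid.dvd_iff_emultiplicity_le hne]
  intro ϖ hϖ
  rw [Finset.emultiplicity_prod hϖ]
  have hterm : ∀ g : G, emultiplicity ϖ (g • π) = if ϖ ∣ g • π then 1 else 0 := by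
    intro g
    split_ifs with h
    · have hassoc : Associated ϖ (g • π) := (hϖ.dvd_prime_iff_associated (prime_smul hπ g)).mp h
      rw [emultiplicity_eq_of_associated_left hassoc.symm]
      exact (FiniteMultiplicity.of_prime_left (prime_smul hπ g) (prime_smul hπ g).ne_zero).emultiplicity_self
    · exact emultiplicity_eq_zero.mpr h
  simp_rw [hterm]
  rw [Finset.sum_boole]
  by_cases hex : ∃ g₀ : G, ϖ ∣ g₀ • π
  · obtain ⟨g₀, hg₀⟩ := hex
    have hassoc : Associated ϖ (g₀ • π) :=
      (hϖ.dvd_prime_iff_associated (prime_smul hπ g₀)).mp hg₀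
    have hcard : (Finset.univ.filter fun g : G => ϖ ∣ g • π).card = Nat.card D := by
      rw [Nat.card_eq_fintype_card, ← Finset.card_univ (α := D)]
      symm
      refine Finset.card_bij (fun d _ => g₀ * (d : G)) ?_ ?_ ?_
      · intro d _
        simp only [Finset.mem_filter, Finset.mem_univ, true_and]
        rw [mul_smul]
        exact hassoc.dvd.trans (associated_smul ((hD d).mp d.2) g₀).symm.dvd
      · intro d₁ _ d₂ _ h
        exact Subtype.ext (mul_left_cancel h)
      · intro g hg
        simp only [Finset.mem_filter, Finset.mem_univ, true_and] at hg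
        have h1 : Associated (g • π) (g₀ • π) :=
          ((hϖ.dvd_prime_iff_associated (prime_smul hπ g)).mp hg).symm.trans hassoc
        have h2 : Associated ((g₀⁻¹ * g) • π) π := by
          have := associated_smul h1 g₀⁻¹
          rwa [inv_smul_smul, ← mul_smul] at this
        exact ⟨⟨g₀⁻¹ * g, (hD _).mpr h2⟩, Finset.mem_univ _, by simp⟩
    rw [hcard]
    apply le_emultiplicity_of_pow_dvd
    have h3 : (g₀ • π) ^ Nat.card D ∣ x := by
      have := hpow
      obtain ⟨y, hy⟩ := this
      refine ⟨g₀ • y, ?_⟩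
      rw [← smul_pow', ← smul_mul', ← hy, hx]
    exact (hassoc.pow_pow.dvd).trans h3
  · push Not at hex
    have : (Finset.univ.filter fun g : G => ϖ ∣ g • π) = ∅ := by
      rw [Finset.filter_eq_empty_iff]
      intro g _
      exact hex g
    rw [this]
    simp

variable (G) in
/-- The stabiliser of the principal prime `(π)`. -/
def stab (π : A) : Subgroup G where
  carrier := {g | Associated (g • π) π}
  mul_mem' := by
    intro a b ha hb
    show Associated ((a * b) • π) π
    rw [mul_smul]
    exact (associated_smul hb a).trans ha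
  one_mem' := by
    show Associated ((1 : G) • π) π
    rw [one_smul]
  inv_mem' := by
    intro a ha
    show Associated (a⁻¹ • π) π
    have := associated_smul (Associated.symm ha) a⁻¹
    rwa [inv_smul_smul] at this

theorem mem_stab {π : A} {g : G} : g ∈ stab G π ↔ Associated (g • π) π := Iff.rfl


end Mult

section Main

variable {A B G : Type*} [CommRing A] [IsDomain A] [UniqueFactorizationMonoid A]
  [CommRing B] [Algebra B A] [FaithfulSMul B A] [Module.Finite B A]
  [Group G] [Finite G] [MulSemiringAction G A] [FaithfulSMul G A] [SMulCommClass G B A]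
  [Algebra.IsInvariant B A G]

/-- Every nonzero element of `q` has `π`-multiplicity at least `|G|` (when `G` stabilises `(π)`). -/
theorem pow_card_dvd (q : Ideal B) [q.IsPrime] (π : A) (hπ : Prime π)
    (hq : ∀ b : B, b ∈ q ↔ π ∣ algebraMap B A b)
    (hstab : ∀ g : G, Associated (g • π) π)
    (hres : ∀ a : A, ∃ b c : B, c ∉ q ∧ π ∣ algebraMap B A c * a - algebraMap B A b)
    (x : B) (hx : x ∈ q) : π ^ Nat.card G ∣ algebraMap B A x := by
  by_cases hx0 : x = 0
  · simp [hx0]
  have hinj : Function.Injective (algebraMap B A) := FaithfulSMul.algebraMap_injective B A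
  have hne : algebraMap B A x ≠ 0 := fun h => hx0 (hinj (by rw [h, map_zero]))
  have hfin : FiniteMultiplicity π (algebraMap B A x) :=
    FiniteMultiplicity.of_not_isUnit hπ.not_isUnit hne
  obtain ⟨s, hs1, hs2⟩ := hfin.exists_eq_pow_mul_and_not_dvd
  have := card_le_of_eq_pow_mul q π hπ hq hstab hres _ x hx s hs1 hs2
  rw [hs1]
  exact Dvd.dvd.mul_right (pow_dvd_pow π this) s

include G in
theorem exists_eq_span_singleton (q : Ideal B) [q.IsPrime] (hq : q.height = 1) (p : Ideal A)
    [p.IsPrime] [p.LiesOver q]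
    (hres : ∀ a : A, ∃ b c : B, c ∉ q ∧ algebraMap B A c * a - algebraMap B A b ∈ p) :
    ∃ b₀ : B, q = Ideal.span {b₀} := by
  classical
  letI : Fintype G := Fintype.ofFinite G
  have hBdom : IsDomain B := IsDomain.of_faithfulSMul B A
  have hinj : Function.Injective (algebraMap B A) := FaithfulSMul.algebraMap_injective B A
  have hqne : q ≠ ⊥ := Ideal.ne_bot_of_height_eq_one hq
  have hqp : q = p.comap (algebraMap B A) := Ideal.LiesOver.over
  have hpne : p ≠ ⊥ := by
    rintro rfl
    apply hqne
    rw [hqp, eq_bot_iff]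
    intro x hx
    rw [Ideal.mem_comap, Ideal.mem_bot] at hx
    exact (Ideal.mem_bot).mpr (hinj (by rw [hx, map_zero]))
  obtain ⟨π, hπp, hπ⟩ := Ideal.IsPrime.exists_mem_prime_of_ne_bot inferInstance hpne
  -- the norm of `π`
  obtain ⟨b₀, hb₀⟩ := exists_algebraMap_eq_prod_smul (B := B) (G := G) π
  have hnormne : ∏ g : G, g • π ≠ 0 :=
    Finset.prod_ne_zero_iff.mpr fun g _ => (prime_smul hπ g).ne_zero
  have hb₀ne : b₀ ≠ 0 := by
    rintro rfl
    rw [map_zero] at hb₀
    exact hnormne hb₀.symm
  have hπb : π ∣ algebraMap B A b₀ := by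
    rw [hb₀]
    have : π = (1 : G) • π := (one_smul G π).symm
    conv_lhs => rw [this]
    exact Finset.dvd_prod_of_mem _ (Finset.mem_univ 1)
  -- `(π) ∩ B = q`
  haveI hP₁ : (Ideal.span {π}).IsPrime := (Ideal.span_singleton_prime hπ.ne_zero).mpr hπ
  have hP₁p : Ideal.span {π} ≤ p := (Ideal.span_singleton_le_iff_mem p).mpr hπp
  have hq₁ : (Ideal.span {π}).comap (algebraMap B A) = q := by
    set q₁ := (Ideal.span {π}).comap (algebraMap B A) with hq₁def
    haveI : q₁.IsPrime := Ideal.comap_isPrime _ _
    have hle : q₁ ≤ q := by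
      rw [hqp]
      exact Ideal.comap_mono hP₁p
    by_contra hne
    have hlt : q₁ < q := lt_of_le_of_ne hle hne
    have h1 := Ideal.height_add_one_le_of_lt_of_isPrime hlt
    rw [hq] at h1
    have h0 : q₁.height = 0 := by
      rcases h : q₁.height with _ | n
      · rw [h] at h1; exact absurd h1 (by decide)
      · rw [h] at h1
        have : (n : ℕ∞) + 1 ≤ 1 := h1
        have hn : n = 0 := by
          have : ((n + 1 : ℕ) : ℕ∞) ≤ ((1 : ℕ) : ℕ∞) := by exact_mod_cast this
          have := Nat.cast_le.mp this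
          omega
        subst hn
        rfl
    rw [Ideal.height_eq_zero_iff_eq_bot] at h0
    have : b₀ ∈ q₁ := by
      rw [hq₁def, Ideal.mem_comap, Ideal.mem_span_singleton]
      exact hπb
    rw [h0, Ideal.mem_bot] at this
    exact hb₀ne this
  have hpπ : p = Ideal.span {π} := by
    by_contra hne
    have hlt : Ideal.span {π} < p := lt_of_le_of_ne hP₁p (Ne.symm hne)
    obtain ⟨x, hxp, hxn⟩ := Set.exists_of_ssubset hlt
    haveI : Algebra.IsIntegral B A := Algebra.IsIntegral.of_finite B A
    have := Ideal.comap_lt_comap_of_integral_mem_sdiff (R := B) hP₁p ⟨hxp, hxn⟩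
      (Algebra.IsIntegral.isIntegral (R := B) x)
    rw [hq₁, ← hqp] at this
    exact lt_irrefl _ this
  have hqiff : ∀ b : B, b ∈ q ↔ π ∣ algebraMap B A b := by
    intro b
    rw [hqp, hpπ, Ideal.mem_comap, Ideal.mem_span_singleton]
  have hres' : ∀ a : A, ∃ b c : B, c ∉ q ∧ π ∣ algebraMap B A c * a - algebraMap B A b := by
    intro a
    obtain ⟨b, c, hc, h⟩ := hres a
    rw [hpπ, Ideal.mem_span_singleton] at h
    exact ⟨b, c, hc, h⟩
  -- pass to the stabiliser
  set D : Subgroup G := stab G π with hD
  have hpow : ∀ x ∈ q, π ^ Nat.card D ∣ algebraMap B A x := by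
    intro x hx
    let B' : Subalgebra B A := FixedPoints.subalgebra B A D
    haveI : Module.Finite B' A := Module.Finite.of_restrictScalars_finite B B' A
    haveI : Algebra.IsInvariant B' A D := ⟨fun x h => ⟨⟨x, h⟩, rfl⟩⟩
    let q' : Ideal B' := (Ideal.span {π}).comap (algebraMap B' A)
    haveI : q'.IsPrime := Ideal.comap_isPrime _ _
    have hq' : ∀ b : B', b ∈ q' ↔ π ∣ algebraMap B' A b := by
      intro b
      rw [Ideal.mem_comap, Ideal.mem_span_singleton]
    have hstab : ∀ g : D, Associated (g • π) π := fun g => g.2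
    have hres'' : ∀ a : A, ∃ b c : B', c ∉ q' ∧ π ∣ algebraMap B' A c * a - algebraMap B' A b := by
      intro a
      obtain ⟨b, c, hc, h⟩ := hres' a
      refine ⟨algebraMap B B' b, algebraMap B B' c, ?_, ?_⟩
      · rw [hq', ← IsScalarTower.algebraMap_apply, ← hqiff]
        exact hc
      · rw [← IsScalarTower.algebraMap_apply, ← IsScalarTower.algebraMap_apply]
        exact h
    have hx' : algebraMap B B' x ∈ q' := by
      rw [hq', ← IsScalarTower.algebraMap_apply, ← hqiff]
      exact hx
    have := pow_card_dvd (G := D) q' π hπ hq' hstab hres'' (algebraMap B B' x) hx'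
    rwa [← IsScalarTower.algebraMap_apply] at this
  refine ⟨b₀, le_antisymm ?_ ?_⟩
  · intro x hx
    have hdvd : algebraMap B A b₀ ∣ algebraMap B A x := by
      rw [hb₀]
      exact prod_smul_dvd_of_pow_dvd π hπ D (fun g => Iff.rfl) _
        (fun g => smul_algebraMap g x) (hpow x hx)
    obtain ⟨y, hy⟩ := hdvd
    have hyinv : ∀ g : G, g • y = y := by
      intro g
      have h1 := congrArg (fun z => g • z) hy
      simp only [smul_mul', smul_algebraMap] at h1
      rw [hy] at h1
      have hne : algebraMap B A b₀ ≠ 0 := fun h => hb₀ne (hinj (by rw [h, map_zero]))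
      exact (mul_left_cancel₀ hne h1).symm
    obtain ⟨y₀, hy₀⟩ := Algebra.IsInvariant.isInvariant (A := B) (G := G) y hyinv
    rw [Ideal.mem_span_singleton]
    exact ⟨y₀, hinj (by rw [hy, map_mul, hy₀])⟩
  · rw [Ideal.span_singleton_le_iff_mem, hqiff]
    exact hπb

end Main

end Groth.Agent.Lib.Seat78.InvRam
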