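import Mathlib

set_option linter.style.haveILetI false
set_option linter.unusedVariables false

namespace Groth.Agent.Lib.Seat78.TraceFilt

section TraceSubQuot

variable {R V : Type*} [CommRing R] [AddCommGroup V]
    [Module R V] [Module.Finite R V]
    (W : Submodule R V) [Module.Free R W] [Module.Finite R W] [Module.Free R (V ⧸ W)]

open Module.Basis in
/-- The trace of an endomorphism preserving a submodule is the sum of the traces on the
submodule and on the quotient. (Trace analogue of `LinearMap.det_eq_det_mul_det`.) -/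
theorem trace_eq_trace_restrict_add_trace_mapQ (e : V →ₗ[R] V) (he : W ≤ W.comap e) :
    LinearMap.trace R V e =
      LinearMap.trace R W (e.restrict he) + LinearMap.trace R (V ⧸ W) (W.mapQ W e he) := by
  classical
  let m := Module.Free.ChooseBasisIndex R W
  let bW : Module.Basis m R W := Module.Free.chooseBasis R W
  let n := Module.Free.ChooseBasisIndex R (V ⧸ W)
  let bQ : Module.Basis n R (V ⧸ W) := Module.Free.chooseBasis R (V ⧸ W)
  let b := sumQuot bW bQ
  let A : Matrix m m R := LinearMap.toMatrix bW bW (e.restrict he)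
  let B : Matrix m n R := Matrix.of fun i l ↦
    ((sumQuot bW bQ).repr (e ((sumQuot bW bQ) (Sum.inr l)))) (Sum.inl i)
  let D : Matrix n n R := LinearMap.toMatrix bQ bQ (W.mapQ W e he)
  suffices LinearMap.toMatrix b b e = Matrix.fromBlocks A B 0 D by
    rw [LinearMap.trace_eq_matrix_trace R b, this, LinearMap.trace_eq_matrix_trace R bW,
      LinearMap.trace_eq_matrix_trace R bQ]
    simp [Matrix.trace, Fintype.sum_sum_type, A, D]
  ext u v
  cases u with
  | inl i =>
    cases v with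
    | inl k =>
      simp only [b, sumQuot_inl, Matrix.fromBlocks_apply₁₁, A, LinearMap.toMatrix_apply]
      apply sumQuot_repr_inl_of_mem
    | inr l => simp [b, LinearMap.toMatrix_apply, Matrix.fromBlocks_apply₁₂, B]
  | inr j =>
    cases v with
    | inl k =>
      suffices W.mkQ (e (bW k)) = 0 by simp [LinearMap.toMatrix_apply, b, this]
      rw [← LinearMap.mem_ker, Submodule.ker_mkQ]
      exact he (Submodule.coe_mem (bW k))
    | inr l =>
      simp only [LinearMap.toMatrix_apply, sumQuot_repr_inr,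
        Matrix.fromBlocks_apply₂₂, b, D]
      rw [← sumQuot_inr bW bQ l, W.mapQ_apply]
      simp

end TraceSubQuot

section TraceExact

variable {K V' V V'' : Type*} [Field K] [AddCommGroup V'] [Module K V'] [AddCommGroup V]
  [Module K V] [AddCommGroup V''] [Module K V''] [FiniteDimensional K V]

/-- Additivity of the trace in short exact sequences of finite-dimensional vector spaces. -/
theorem trace_eq_add_of_exact (i : V' →ₗ[K] V) (π : V →ₗ[K] V'')
    (hi : Function.Injective i) (hπ : Function.Surjective π)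
    (hex : LinearMap.range i = LinearMap.ker π)
    (e' : V' →ₗ[K] V') (e : V →ₗ[K] V) (e'' : V'' →ₗ[K] V'')
    (h1 : ∀ x, e (i x) = i (e' x)) (h2 : ∀ x, π (e x) = e'' (π x)) :
    LinearMap.trace K V e = LinearMap.trace K V' e' + LinearMap.trace K V'' e'' := by
  let W : Submodule K V := LinearMap.range i
  have he : W ≤ W.comap e := by
    rintro _ ⟨x, rfl⟩
    exact ⟨e' x, (h1 x).symm⟩
  rw [trace_eq_trace_restrict_add_trace_mapQ W e he]
  congr 1
  · let φ : V' ≃ₗ[K] W := LinearEquiv.ofInjective i hi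
    rw [← LinearMap.trace_conj' e' φ]
    congr 1
    apply LinearMap.ext
    intro w
    obtain ⟨x, hx⟩ : ∃ x, φ x = w := φ.surjective w
    subst hx
    rw [LinearEquiv.conj_apply_apply, LinearEquiv.symm_apply_apply]
    apply Subtype.ext
    rw [LinearMap.coe_restrict_apply]
    exact h1 x
  · let φ : (V ⧸ W) ≃ₗ[K] V'' :=
      (Submodule.quotEquivOfEq W (LinearMap.ker π) hex).trans (π.quotKerEquivOfSurjective hπ)
    have hφ : ∀ v : V, φ (Submodule.Quotient.mk v) = π v := fun v => rfl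
    rw [← LinearMap.trace_conj' (W.mapQ W e he) φ]
    congr 1
    apply LinearMap.ext
    intro w
    obtain ⟨q, hq⟩ : ∃ q, φ q = w := φ.surjective w
    subst hq
    obtain ⟨v, rfl⟩ := Submodule.Quotient.mk_surjective W q
    rw [LinearEquiv.conj_apply_apply, LinearEquiv.symm_apply_apply, hφ]
    show φ (W.mapQ W e he (Submodule.Quotient.mk v)) = _
    rw [Submodule.mapQ_apply, hφ, h2]

end TraceExact

section DedekindFacts

variable {B : Type*} [CommRing B] [IsDedekindDomain B]

theorem exists_mem_not_mem_mul (I Q : Ideal B) (hI : I ≠ ⊥) (hQ : Q ≠ ⊤) :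
    ∃ a ∈ I, a ∉ I * Q := by
  have hlt : I * Q < I := by
    refine lt_of_le_of_ne Ideal.mul_le_left ?_
    intro h
    apply hQ
    have h2 : I * Q = I * ⊤ := by rw [h, Ideal.mul_top]
    exact mul_left_cancel₀ hI h2
  obtain ⟨a, ha, ha'⟩ := SetLike.exists_of_lt hlt
  exact ⟨a, ha, ha'⟩

theorem exists_cofactor (I Q : Ideal B) [hQ : Q.IsPrime] (hQ0 : Q ≠ ⊥)
    (a : B) (ha : a ∈ I) (ha' : a ∉ I * Q) :
    ∃ J : Ideal B, Ideal.span {a} = I * J ∧ J ⊔ Q = ⊤ := by
  have hdvd : I ∣ Ideal.span {a} := Ideal.dvd_iff_le.mpr ((Ideal.span_singleton_le_iff_mem I).mpr ha)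
  obtain ⟨J, hJ⟩ := hdvd
  refine ⟨J, hJ, ?_⟩
  have hQmax : Q.IsMaximal := Ideal.IsPrime.isMaximal hQ hQ0
  have hnle : ¬ J ≤ Q := by
    intro hle
    apply ha'
    have : Ideal.span {a} ≤ I * Q := by
      rw [hJ]; exact Ideal.mul_mono_right hle
    exact this (Ideal.mem_span_singleton_self a)
  by_contra hne
  apply hnle
  have : J ⊔ Q = Q := by
    by_contra h2
    exact hne (hQmax.out.2 (J ⊔ Q) (lt_of_le_of_ne le_sup_right (Ne.symm h2)))
  rw [← this]
  exact le_sup_left

theorem span_sup_mul_eq (I Q : Ideal B) (hI : I ≠ ⊥) [hQ : Q.IsPrime] (hQ0 : Q ≠ ⊥)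
    (a : B) (ha : a ∈ I) (ha' : a ∉ I * Q) : Ideal.span {a} ⊔ I * Q = I := by
  obtain ⟨J, hJ, hJQ⟩ := exists_cofactor I Q hQ0 a ha ha'
  rw [hJ, ← Ideal.mul_sup, hJQ, Ideal.mul_top]

theorem mem_of_mul_mem_mul (I Q : Ideal B) (hI : I ≠ ⊥) [hQ : Q.IsPrime] (hQ0 : Q ≠ ⊥)
    (a : B) (ha : a ∈ I) (ha' : a ∉ I * Q) (c : B) (hc : a * c ∈ I * Q) : c ∈ Q := by
  obtain ⟨J, hJ, hJQ⟩ := exists_cofactor I Q hQ0 a ha ha'
  have h1 : Ideal.span {a} * Ideal.span {c} ≤ I * Q := by
    rw [Ideal.span_singleton_mul_span_singleton, Ideal.span_singleton_le_iff_mem]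
    exact hc
  rw [hJ, mul_assoc] at h1
  have h2 : I * Q ∣ I * (J * Ideal.span {c}) := Ideal.dvd_iff_le.mpr h1
  have h3 : Q ∣ J * Ideal.span {c} := (mul_dvd_mul_iff_left hI).mp h2
  have h4 : J * Ideal.span {c} ≤ Q := Ideal.dvd_iff_le.mp h3
  rcases (Ideal.IsPrime.mul_le hQ).mp h4 with h5 | h5
  · exfalso
    have : J ⊔ Q = Q := sup_eq_right.mpr h5
    rw [this] at hJQ
    exact hQ.ne_top hJQ
  · exact (Ideal.span_singleton_le_iff_mem Q).mp h5

end DedekindFacts

section Step

variable {A B : Type*} [CommRing A] [CommRing B] [Algebra A B] (p : Ideal A)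

/-- The trace over `A ⧸ p` of (the class of) `y` acting on `B ⧸ J`, when `p` maps into `J`
(and `0` otherwise). -/
noncomputable def qTrace (y : B) (J : Ideal B) : A ⧸ p :=
  open Classical in
  if h : p ≤ J.comap (algebraMap A B) then
    @Algebra.trace (A ⧸ p) (B ⧸ J) _ _ (Ideal.Quotient.algebraQuotientOfLEComap h)
      (Ideal.Quotient.mk J y)
  else 0

theorem qTrace_eq (y : B) (J : Ideal B) (h : p ≤ J.comap (algebraMap A B)) :
    qTrace p y J = @Algebra.trace (A ⧸ p) (B ⧸ J) _ _ (Ideal.Quotient.algebraQuotientOfLEComap h)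
      (Ideal.Quotient.mk J y) := by
  unfold qTrace
  rw [dif_pos h]

theorem mk_smul_mk {J : Ideal B} (h : p ≤ J.comap (algebraMap A B)) (r : A) (b : B) :
    letI := Ideal.Quotient.algebraQuotientOfLEComap h
    (Ideal.Quotient.mk p r) • (Ideal.Quotient.mk J b) = Ideal.Quotient.mk J (r • b) := rfl

theorem finite_quot [Module.Finite A B] {J : Ideal B} (h : p ≤ J.comap (algebraMap A B)) :
    letI := Ideal.Quotient.algebraQuotientOfLEComap h
    Module.Finite (A ⧸ p) (B ⧸ J) := by
  letI := Ideal.Quotient.algebraQuotientOfLEComap h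
  haveI : IsScalarTower A (A ⧸ p) (B ⧸ J) := IsScalarTower.of_algebraMap_eq (fun x => rfl)
  haveI : Module.Finite A (B ⧸ J) :=
    Module.Finite.of_surjective (Ideal.Quotient.mkₐ A J).toLinearMap
      (Ideal.Quotient.mkₐ_surjective A J)
  exact Module.Finite.of_restrictScalars_finite A (A ⧸ p) (B ⧸ J)

attribute [local instance] Ideal.Quotient.field

theorem qTrace_mul [IsDedekindDomain B] [p.IsMaximal] [Module.Finite A B] (y : B)
    (I Q : Ideal B) (hI : I ≠ ⊥) [hQ : Q.IsPrime] (hQ0 : Q ≠ ⊥)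
    (h : p ≤ (I * Q).comap (algebraMap A B)) :
    qTrace p y (I * Q) = qTrace p y I + qTrace p y Q := by
  have hI' : p ≤ I.comap (algebraMap A B) := h.trans (Ideal.comap_mono Ideal.mul_le_left)
  have hQ' : p ≤ Q.comap (algebraMap A B) := h.trans (Ideal.comap_mono Ideal.mul_le_right)
  rw [qTrace_eq p y _ h, qTrace_eq p y _ hI', qTrace_eq p y _ hQ']
  letI algD := Ideal.Quotient.algebraQuotientOfLEComap h
  letI algI := Ideal.Quotient.algebraQuotientOfLEComap hI'
  letI algQ := Ideal.Quotient.algebraQuotientOfLEComap hQ'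
  haveI := finite_quot p h
  obtain ⟨a, ha, ha'⟩ := exists_mem_not_mem_mul I Q hI hQ.ne_top
  -- the inclusion `B ⧸ Q → B ⧸ I * Q`, multiplication by `a`
  have hker : Q ≤ LinearMap.ker ((Submodule.mkQ (I * Q)).comp (LinearMap.mulLeft B a)) := by
    intro c hc
    rw [LinearMap.mem_ker, LinearMap.comp_apply, LinearMap.mulLeft_apply, Submodule.mkQ_apply,
      Submodule.Quotient.mk_eq_zero]
    exact Ideal.mul_mem_mul ha hc
  let i0 : B ⧸ Q →ₗ[B] B ⧸ (I * Q) :=
    Submodule.liftQ Q ((Submodule.mkQ (I * Q)).comp (LinearMap.mulLeft B a)) hker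
  have hi0 : ∀ c : B, i0 (Ideal.Quotient.mk Q c) = Ideal.Quotient.mk (I * Q) (a * c) := fun c => rfl
  let i : B ⧸ Q →ₗ[A ⧸ p] B ⧸ (I * Q) :=
    { toFun := i0
      map_add' := i0.map_add
      map_smul' := by
        intro r x
        obtain ⟨r, rfl⟩ := Ideal.Quotient.mk_surjective r
        obtain ⟨c, rfl⟩ := Ideal.Quotient.mk_surjective x
        rw [mk_smul_mk p hQ', hi0, hi0, RingHom.id_apply, mk_smul_mk p h, mul_smul_comm] }
  have hi : ∀ c : B, i (Ideal.Quotient.mk Q c) = Ideal.Quotient.mk (I * Q) (a * c) := fun c => rfl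
  let π0 : B ⧸ (I * Q) →+* B ⧸ I := Ideal.Quotient.factor (Ideal.mul_le_left)
  have hπ0 : ∀ c : B, π0 (Ideal.Quotient.mk (I * Q) c) = Ideal.Quotient.mk I c := fun c => rfl
  let π : B ⧸ (I * Q) →ₗ[A ⧸ p] B ⧸ I :=
    { toFun := π0
      map_add' := π0.map_add
      map_smul' := by
        intro r x
        obtain ⟨r, rfl⟩ := Ideal.Quotient.mk_surjective r
        obtain ⟨c, rfl⟩ := Ideal.Quotient.mk_surjective x
        rw [mk_smul_mk p h, hπ0, hπ0, RingHom.id_apply, mk_smul_mk p hI'] }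
  have hπ : ∀ c : B, π (Ideal.Quotient.mk (I * Q) c) = Ideal.Quotient.mk I c := fun c => rfl
  rw [Algebra.trace_apply, Algebra.trace_apply, Algebra.trace_apply]
  rw [add_comm]
  refine trace_eq_add_of_exact i π ?_ ?_ ?_ _ _ _ ?_ ?_
  · -- injective
    rw [← LinearMap.ker_eq_bot, LinearMap.ker_eq_bot']
    intro x hx
    obtain ⟨c, rfl⟩ := Ideal.Quotient.mk_surjective x
    rw [hi, Ideal.Quotient.eq_zero_iff_mem] at hx
    rw [Ideal.Quotient.eq_zero_iff_mem]
    exact mem_of_mul_mem_mul I Q hI hQ0 a ha ha' c hx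
  · intro x
    obtain ⟨c, rfl⟩ := Ideal.Quotient.mk_surjective x
    exact ⟨Ideal.Quotient.mk (I * Q) c, hπ c⟩
  · ext x
    obtain ⟨b, rfl⟩ := Ideal.Quotient.mk_surjective x
    rw [LinearMap.mem_ker, hπ, Ideal.Quotient.eq_zero_iff_mem]
    constructor
    · rintro ⟨z, hz⟩
      obtain ⟨c, rfl⟩ := Ideal.Quotient.mk_surjective z
      rw [hi, Ideal.Quotient.eq] at hz
      have h1 : a * c ∈ I := Ideal.mul_mem_right c I ha
      have h2 : a * c - b ∈ I := Ideal.mul_le_left hz
      have : b = a * c - (a * c - b) := by ring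
      rw [this]
      exact Ideal.sub_mem I h1 h2
    · intro hb
      rw [← span_sup_mul_eq I Q hI hQ0 a ha ha'] at hb
      obtain ⟨u, hu, z, hz, rfl⟩ := Submodule.mem_sup.mp hb
      obtain ⟨c, rfl⟩ := Ideal.mem_span_singleton'.mp hu
      refine ⟨Ideal.Quotient.mk Q c, ?_⟩
      rw [hi, Ideal.Quotient.eq]
      have : a * c - (c * a + z) = -z := by ring
      rw [this]
      exact Ideal.neg_mem_iff _ |>.mpr hz
  · intro x
    obtain ⟨c, rfl⟩ := Ideal.Quotient.mk_surjective x
    rw [hi, Algebra.coe_lmul_eq_mul, Algebra.coe_lmul_eq_mul, LinearMap.mul_apply',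
      LinearMap.mul_apply', ← map_mul, ← map_mul, hi]
    congr 1
    ring
  · intro x
    obtain ⟨c, rfl⟩ := Ideal.Quotient.mk_surjective x
    rw [hπ, Algebra.coe_lmul_eq_mul, Algebra.coe_lmul_eq_mul, LinearMap.mul_apply',
      LinearMap.mul_apply', ← map_mul, ← map_mul, hπ]

theorem qTrace_top (y : B) : qTrace p y (⊤ : Ideal B) = 0 := by
  have h : p ≤ (⊤ : Ideal B).comap (algebraMap A B) := by rw [Ideal.comap_top]; exact le_top
  rw [qTrace_eq p y _ h]
  letI := Ideal.Quotient.algebraQuotientOfLEComap h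
  have : Ideal.Quotient.mk (⊤ : Ideal B) y = 0 := Ideal.Quotient.eq_zero_iff_mem.mpr trivial
  rw [this, map_zero]

theorem qTrace_prod [IsDedekindDomain B] [p.IsMaximal] [Module.Finite A B] (y : B)
    (t : Multiset (Ideal B)) :
    (∀ Q ∈ t, Q.IsPrime ∧ Q ≠ ⊥) → p ≤ t.prod.comap (algebraMap A B) →
      qTrace p y t.prod = (t.map (qTrace p y)).sum := by
  induction t using Multiset.induction_on with
  | empty =>
    intro _ _
    rw [Multiset.prod_zero, Multiset.map_zero, Multiset.sum_zero, Ideal.one_eq_top, qTrace_top]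
  | cons Q t ih =>
    intro ht h
    rw [Multiset.prod_cons, mul_comm] at h
    have hQ := ht Q (Multiset.mem_cons_self Q t)
    have ht' : ∀ Q' ∈ t, Q'.IsPrime ∧ Q' ≠ ⊥ := fun Q' hQ' => ht Q' (Multiset.mem_cons_of_mem hQ')
    have hne : t.prod ≠ ⊥ := by
      rw [← Ideal.zero_eq_bot]
      apply Multiset.prod_ne_zero
      intro h0
      exact (ht' 0 h0).2 Ideal.zero_eq_bot
    haveI := hQ.1
    rw [Multiset.prod_cons, mul_comm, qTrace_mul p y t.prod Q hne hQ.2 h, Multiset.map_cons,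
      Multiset.sum_cons, ih ht' (h.trans (Ideal.comap_mono Ideal.mul_le_left)), add_comm]

end Step

end Groth.Agent.Lib.Seat78.TraceFilt
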