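import Mathlib.RingTheory.WittVector.Truncated
import Mathlib.RingTheory.WittVector.InitTail
import Mathlib.RingTheory.AdicCompletion.Basic
import Mathlib.RingTheory.Ideal.Quotient.Defs
import Mathlib.Tactic

/-!
# Divisibility by `p ^ u` in Witt vectors over `p`-torsion-free `p`-adically complete rings

Helper library of seat 78 for S14861 / S14862.
-/

set_option autoImplicit false
universe u

namespace Groth.Agent.Lib.Seat78.WittDiv

open WittVector Finset

variable {p : ℕ} [hp : Fact p.Prime] {R : Type u} [CommRing R]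

/-- the ghost component written out as a sum -/
theorem ghost_eq_sum (w : WittVector p R) (n : ℕ) :
    ghostComponent n w = ∑ i ∈ range (n + 1), (p : R) ^ i * w.coeff i ^ p ^ (n - i) := by
  rw [ghostComponent_apply, aeval_wittPolynomial]

omit hp in
theorem pow_cancel (hR : ∀ y : R, (p : R) * y = 0 → y = 0) (n : ℕ) {y z : R}
    (h : (p : R) ^ n * y = (p : R) ^ n * z) : y = z := by
  induction n with
  | zero => simpa using h
  | succ n ih =>
    apply ih
    have h1 : (p : R) * ((p : R) ^ n * y - (p : R) ^ n * z) = 0 := by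
      have : (p : R) * ((p : R) ^ n * y - (p : R) ^ n * z)
          = (p : R) ^ (n + 1) * y - (p : R) ^ (n + 1) * z := by ring
      rw [this, h, sub_self]
    exact sub_eq_zero.mp (hR _ h1)

/-- if the first `m` coefficients are divisible by `p ^ j`, so are the first `m` ghost components -/
theorem dvd_ghost_of_dvd_coeff (v : WittVector p R) (m j : ℕ)
    (hv : ∀ i < m, (p : R) ^ j ∣ v.coeff i) (n : ℕ) (hn : n < m) :
    (p : R) ^ j ∣ ghostComponent n v := by
  rw [ghost_eq_sum]
  refine Finset.dvd_sum fun i hi => ?_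
  have hi' : i < m := lt_of_le_of_lt (Nat.lt_succ_iff.mp (Finset.mem_range.mp hi)) hn
  refine Dvd.dvd.mul_left ?_ _
  exact (hv i hi').trans (dvd_pow_self _ (pow_ne_zero _ hp.out.ne_zero))

/-- if the ghost components `0, …, n` are divisible by `p ^ K`, then the `n`-th coefficient is
divisible by `p ^ (K - n)` (for `p`-torsion free `R`) -/
theorem dvd_coeff_of_dvd_ghost (hR : ∀ y : R, (p : R) * y = 0 → y = 0) (w : WittVector p R)
    (K : ℕ) : ∀ n, (∀ j ≤ n, (p : R) ^ K ∣ ghostComponent j w) → n ≤ K →
      (p : R) ^ (K - n) ∣ w.coeff n := by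
  intro n
  induction n using Nat.strong_induction_on with
  | _ n ih =>
    intro hg hnK
    have h1 : (p : R) ^ K ∣ ghostComponent n w := hg n le_rfl
    rw [ghost_eq_sum, Finset.sum_range_succ] at h1
    have h2 : (p : R) ^ K ∣ ∑ i ∈ range n, (p : R) ^ i * w.coeff i ^ p ^ (n - i) := by
      refine Finset.dvd_sum fun i hi => ?_
      have hin : i < n := Finset.mem_range.mp hi
      have h3 : (p : R) ^ (K - i) ∣ w.coeff i :=
        ih i hin (fun j hj => hg j (hj.trans hin.le)) (hin.le.trans hnK)
      have h4 : (p : R) ^ (K - i) ∣ w.coeff i ^ p ^ (n - i) :=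
        h3.trans (dvd_pow_self _ (pow_ne_zero _ hp.out.ne_zero))
      have h5 : (p : R) ^ K = (p : R) ^ i * (p : R) ^ (K - i) := by
        rw [← pow_add]; congr 1; omega
      rw [h5]
      exact mul_dvd_mul_left _ h4
    have h6 : (p : R) ^ K ∣ (p : R) ^ n * w.coeff n ^ p ^ (n - n) :=
      (dvd_add_right h2).mp h1
    rw [Nat.sub_self, pow_zero, pow_one] at h6
    obtain ⟨r, hr⟩ := h6
    refine ⟨r, pow_cancel hR n ?_⟩
    rw [hr, ← mul_assoc, ← pow_add]
    congr 2; omega

omit hp in
/-- cancelling `p ^ u` in divisibility -/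
theorem dvd_of_pow_mul_dvd (hR : ∀ y : R, (p : R) * y = 0 → y = 0) (u k : ℕ) (t : R)
    (h : (p : R) ^ (k + u) ∣ (p : R) ^ u * t) : (p : R) ^ k ∣ t := by
  obtain ⟨r, hr⟩ := h
  refine ⟨r, pow_cancel hR u ?_⟩
  rw [hr, ← mul_assoc, ← pow_add, add_comm]

/-- **Key estimate.** If the first `m` coefficients of `p ^ u * w` are divisible by
`p ^ (k + u + m)`, then the first `m` coefficients of `w` are divisible by `p ^ k`. -/
theorem dvd_coeff_of_dvd_coeff_pow_mul (hR : ∀ y : R, (p : R) * y = 0 → y = 0)
    (w : WittVector p R) (m u k : ℕ)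
    (h : ∀ i < m, (p : R) ^ (k + u + m) ∣ ((p : WittVector p R) ^ u * w).coeff i) :
    ∀ i < m, (p : R) ^ k ∣ w.coeff i := by
  have hg : ∀ n < m, (p : R) ^ (k + m) ∣ ghostComponent n w := by
    intro n hn
    have h1 := dvd_ghost_of_dvd_coeff _ m _ h n hn
    rw [map_mul, map_pow, map_natCast] at h1
    apply dvd_of_pow_mul_dvd hR u
    rwa [show k + m + u = k + u + m by omega]
  intro i hi
  have h2 := dvd_coeff_of_dvd_ghost hR w (k + m) i (fun j hj => hg j (lt_of_le_of_lt hj hi))
    (by omega)
  exact (pow_dvd_pow _ (by omega)).trans h2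

/-- The ideal of Witt vectors whose first `m` coefficients are divisible by `p ^ j`. -/
noncomputable def ideal (p : ℕ) [Fact p.Prime] (R : Type u) [CommRing R] (m j : ℕ) :
    Ideal (WittVector p R) :=
  Ideal.comap (WittVector.map (p := p) (Ideal.Quotient.mk (Ideal.span {(p : R) ^ j})))
    (RingHom.ker (WittVector.truncate (p := p) (R := R ⧸ Ideal.span {(p : R) ^ j}) m))

theorem mem_ideal_iff (m j : ℕ) (w : WittVector p R) :
    w ∈ ideal p R m j ↔ ∀ i < m, (p : R) ^ j ∣ w.coeff i := by
  unfold ideal
  rw [Ideal.mem_comap, mem_ker_truncate]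
  refine forall₂_congr fun i _ => ?_
  rw [WittVector.map_coeff, Ideal.Quotient.eq_zero_iff_mem, Ideal.mem_span_singleton]

theorem mem_ideal_iff' (m j : ℕ) (w : WittVector p R) :
    w ∈ ideal p R m j ↔ ∀ i < m, w.coeff i ∈ Ideal.span {(p : R) ^ j} := by
  rw [mem_ideal_iff]
  refine forall₂_congr fun i _ => ?_
  rw [Ideal.mem_span_singleton]

theorem ideal_anti (m : ℕ) {j j' : ℕ} (h : j ≤ j') : ideal p R m j' ≤ ideal p R m j := by
  intro w hw
  rw [mem_ideal_iff] at hw ⊢
  exact fun i hi => (pow_dvd_pow _ h).trans (hw i hi)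

/-- coefficients of congruent Witt vectors are congruent -/
theorem coeff_sub_of_sub_mem (m j : ℕ) (x y : WittVector p R) (h : x - y ∈ ideal p R m j) :
    ∀ i < m, (p : R) ^ j ∣ x.coeff i - y.coeff i := by
  unfold ideal at h
  rw [Ideal.mem_comap, map_sub, RingHom.mem_ker, map_sub, sub_eq_zero] at h
  intro i hi
  have h1 := congrArg (fun t => TruncatedWittVector.coeff ⟨i, hi⟩ t) h
  simp only [coeff_truncate, WittVector.map_coeff] at h1
  rw [← Ideal.mem_span_singleton, ← Ideal.Quotient.eq_zero_iff_mem, map_sub, h1, sub_self]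

theorem sub_mem_of_coeff_sub (m j : ℕ) (x y : WittVector p R)
    (h : ∀ i < m, (p : R) ^ j ∣ x.coeff i - y.coeff i) : x - y ∈ ideal p R m j := by
  unfold ideal
  rw [Ideal.mem_comap, map_sub, RingHom.mem_ker, map_sub, sub_eq_zero]
  ext ⟨i, hi⟩
  simp only [coeff_truncate, WittVector.map_coeff]
  have := h i hi
  rw [← Ideal.mem_span_singleton, ← Ideal.Quotient.eq_zero_iff_mem, map_sub, sub_eq_zero] at this
  exact this

omit hp in
theorem span_pow_smul_top (k : ℕ) :
    ((Ideal.span {(p : R)}) ^ k • ⊤ : Submodule R R) = Ideal.span {(p : R) ^ k} := by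
  rw [Ideal.span_singleton_pow, smul_eq_mul, Ideal.mul_top]

/-- **S14861, core form.** -/
theorem exists_solution (hR : ∀ y : R, (p : R) * y = 0 → y = 0)
    [IsAdicComplete (Ideal.span {(p : R)}) R] (a : WittVector p R) (m u : ℕ)
    (h : ∀ s : ℕ, ∃ z : WittVector p R, (p : WittVector p R) ^ u * z - a ∈ ideal p R m s) :
    ∃ x : WittVector p R, ∀ i < m, ((p : WittVector p R) ^ u * x - a).coeff i = 0 := by
  choose z hz using h
  -- the shifted sequence
  set z' : ℕ → WittVector p R := fun k => z (k + u + m) with hz'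
  have hz'mem : ∀ k, (p : WittVector p R) ^ u * z' k - a ∈ ideal p R m (k + u + m) :=
    fun k => hz _
  have hdiff : ∀ k l, k ≤ l → z' l - z' k ∈ ideal p R m k := by
    intro k l hkl
    rw [mem_ideal_iff]
    apply dvd_coeff_of_dvd_coeff_pow_mul hR _ m u k
    rw [← mem_ideal_iff]
    have h1 : (p : WittVector p R) ^ u * (z' l - z' k)
        = ((p : WittVector p R) ^ u * z' l - a) - ((p : WittVector p R) ^ u * z' k - a) := by ring
    rw [h1]
    exact Ideal.sub_mem _ (ideal_anti m (by omega) (hz'mem l)) (hz'mem k)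
  -- limits of coefficients
  have hlim : ∀ i : ℕ, i < m → ∃ L : R, ∀ k, (p : R) ^ k ∣ (z' k).coeff i - L := by
    intro i hi
    obtain ⟨L, hL⟩ := IsPrecomplete.prec' (I := Ideal.span {(p : R)}) (M := R)
      (fun k => (z' k).coeff i) (by
        intro k l hkl
        rw [SModEq.sub_mem, span_pow_smul_top, Ideal.mem_span_singleton]
        have := coeff_sub_of_sub_mem m k _ _ (hdiff k l hkl) i hi
        rw [← dvd_neg, neg_sub] at this
        exact this)
    refine ⟨L, fun k => ?_⟩
    have := hL k
    rwa [SModEq.sub_mem, span_pow_smul_top, Ideal.mem_span_singleton] at this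
  classical
  let x : WittVector p R := WittVector.mk p fun i => if hi : i < m then (hlim i hi).choose else 0
  have hx : ∀ k, x - z' k ∈ ideal p R m k := by
    intro k
    apply sub_mem_of_coeff_sub
    intro i hi
    have := (hlim i hi).choose_spec k
    rw [← dvd_neg, neg_sub] at this
    simpa [x, hi] using this
  refine ⟨x, fun i hi => ?_⟩
  apply IsHausdorff.haus' (I := Ideal.span {(p : R)})
  intro k
  rw [SModEq.sub_mem, sub_zero, span_pow_smul_top, Ideal.mem_span_singleton]
  have h1 : (p : WittVector p R) ^ u * x - a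
      = (p : WittVector p R) ^ u * (x - z' k) + ((p : WittVector p R) ^ u * z' k - a) := by ring
  have h2 : (p : WittVector p R) ^ u * x - a ∈ ideal p R m k := by
    rw [h1]
    exact Ideal.add_mem _ (Ideal.mul_mem_left _ _ (hx k)) (ideal_anti m (by omega) (hz'mem k))
  exact (mem_ideal_iff m k _).mp h2 i hi

/-- vanishing of the first coefficients gives vanishing of the first ghost components -/
theorem ghost_eq_zero_of_coeff_eq_zero (v : WittVector p R) (r : ℕ)
    (hv : ∀ i < r, v.coeff i = 0) (n : ℕ) (hn : n < r) : ghostComponent n v = 0 := by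
  rw [ghost_eq_sum]
  refine Finset.sum_eq_zero fun i hi => ?_
  have hi' : i < r := lt_of_le_of_lt (Nat.lt_succ_iff.mp (Finset.mem_range.mp hi)) hn
  rw [hv i hi', zero_pow (pow_ne_zero _ hp.out.ne_zero), mul_zero]

/-- for `p`-torsion free `R`, vanishing of the first ghost components gives vanishing of the
first coefficients -/
theorem coeff_eq_zero_of_ghost_eq_zero (hR : ∀ y : R, (p : R) * y = 0 → y = 0)
    (w : WittVector p R) : ∀ n, (∀ j ≤ n, ghostComponent j w = 0) → w.coeff n = 0 := by
  intro n
  induction n using Nat.strong_induction_on with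
  | _ n ih =>
    intro hg
    have h1 : ghostComponent n w = 0 := hg n le_rfl
    rw [ghost_eq_sum, Finset.sum_range_succ] at h1
    have h2 : ∑ i ∈ range n, (p : R) ^ i * w.coeff i ^ p ^ (n - i) = 0 := by
      refine Finset.sum_eq_zero fun i hi => ?_
      have hin : i < n := Finset.mem_range.mp hi
      rw [ih i hin (fun j hj => hg j (hj.trans hin.le)),
        zero_pow (pow_ne_zero _ hp.out.ne_zero), mul_zero]
    rw [h2, zero_add, Nat.sub_self, pow_zero, pow_one] at h1
    exact pow_cancel hR n (by rw [h1, mul_zero])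

/-- multiplication by `p ^ u` is injective modulo `ker (truncate r)` -/
theorem mem_ker_truncate_of_pow_mul_mem (hR : ∀ y : R, (p : R) * y = 0 → y = 0) (r u : ℕ)
    (y : WittVector p R)
    (h : (p : WittVector p R) ^ u * y ∈ RingHom.ker (WittVector.truncate (p := p) (R := R) r)) :
    y ∈ RingHom.ker (WittVector.truncate (p := p) (R := R) r) := by
  rw [mem_ker_truncate] at h ⊢
  intro i hi
  apply coeff_eq_zero_of_ghost_eq_zero hR
  intro j hj
  have h1 := ghost_eq_zero_of_coeff_eq_zero _ r h j (lt_of_le_of_lt hj hi)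
  rw [map_mul, map_pow, map_natCast] at h1
  exact pow_cancel hR u (by rw [h1, mul_zero])

theorem ker_truncate_anti {r r' : ℕ} (h : r ≤ r') :
    RingHom.ker (WittVector.truncate (p := p) (R := R) r') ≤
      RingHom.ker (WittVector.truncate (p := p) (R := R) r) := by
  intro w hw
  rw [mem_ker_truncate] at hw ⊢
  exact fun i hi => hw i (lt_of_lt_of_le hi h)

/-- **S14862, core form.** -/
theorem iInf_eq (hR : ∀ y : R, (p : R) * y = 0 → y = 0)
    [IsAdicComplete (Ideal.span {(p : R)}) R] (u : ℕ) :
    (⨅ r : ℕ, ⨅ s : ℕ,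
        Ideal.span {(p : WittVector p R) ^ u} ⊔
          RingHom.ker (WittVector.truncate (p := p) (R := R) r) ⊔
          RingHom.ker (WittVector.map (p := p) (Ideal.Quotient.mk (Ideal.span {(p : R) ^ s})))) =
      Ideal.span {(p : WittVector p R) ^ u} := by
  apply le_antisymm
  · intro a ha
    simp only [Ideal.mem_iInf] at ha
    have hx : ∀ r : ℕ, ∃ x : WittVector p R, (p : WittVector p R) ^ u * x - a ∈
        RingHom.ker (WittVector.truncate (p := p) (R := R) r) := by
      intro r
      obtain ⟨x, hx⟩ := exists_solution hR a r u (fun s => by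
        obtain ⟨y, hy, w, hw, rfl⟩ := Submodule.mem_sup.mp (ha r s)
        obtain ⟨b, hb, v, hv, rfl⟩ := Submodule.mem_sup.mp hy
        obtain ⟨c, rfl⟩ := Ideal.mem_span_singleton'.mp hb
        refine ⟨c, ?_⟩
        have h1 : (p : WittVector p R) ^ u * c - (c * (p : WittVector p R) ^ u + v + w)
            = -(v + w) := by ring
        rw [h1]
        refine Ideal.neg_mem_iff _ |>.mpr (Ideal.add_mem _ ?_ ?_)
        · rw [mem_ideal_iff]
          intro i hi
          rw [(mem_ker_truncate r v).mp hv i hi]
          exact dvd_zero _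
        · rw [mem_ideal_iff]
          intro i _
          have h2 : (WittVector.map (p := p)
              (Ideal.Quotient.mk (Ideal.span {(p : R) ^ s})) w).coeff i = 0 := by
            rw [(RingHom.mem_ker).mp hw, WittVector.zero_coeff]
          rwa [WittVector.map_coeff, Ideal.Quotient.eq_zero_iff_mem,
            Ideal.mem_span_singleton] at h2)
      exact ⟨x, (mem_ker_truncate r _).mpr hx⟩
    choose x hx using hx
    have hc : ∀ r r' : ℕ, r ≤ r' →
        x r' - x r ∈ RingHom.ker (WittVector.truncate (p := p) (R := R) r) := by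
      intro r r' hrr'
      apply mem_ker_truncate_of_pow_mul_mem hR r u
      have h1 : (p : WittVector p R) ^ u * (x r' - x r)
          = ((p : WittVector p R) ^ u * x r' - a) - ((p : WittVector p R) ^ u * x r - a) := by
        ring
      rw [h1]
      exact Ideal.sub_mem _ (ker_truncate_anti hrr' (hx r')) (hx r)
    let X : WittVector p R := WittVector.mk p fun i => (x (i + 1)).coeff i
    have hX : ∀ r, X - x r ∈ RingHom.ker (WittVector.truncate (p := p) (R := R) r) := by
      intro r
      rw [mem_ker_truncate]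
      intro i hi
      have h7 : WittVector.truncate (p := p) (R := R) r X
          = WittVector.truncate (p := p) (R := R) r (x r) := by
        ext ⟨j, hj⟩
        simp only [coeff_truncate]
        have h5 : WittVector.truncate (p := p) (R := R) (j + 1) (x r)
            = WittVector.truncate (p := p) (R := R) (j + 1) (x (j + 1)) := by
          have := (RingHom.mem_ker).mp (hc (j + 1) r hj)
          rwa [map_sub, sub_eq_zero] at this
        have h6 := congrArg (fun t => TruncatedWittVector.coeff ⟨j, Nat.lt_succ_self j⟩ t) h5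
        simp only [coeff_truncate] at h6
        rw [h6]
        simp [X]
      have h8 : X - x r ∈ RingHom.ker (WittVector.truncate (p := p) (R := R) r) := by
        rw [RingHom.mem_ker, map_sub, h7, sub_self]
      exact (mem_ker_truncate r _).mp h8 i hi
    have hfin : (p : WittVector p R) ^ u * X - a = 0 := by
      ext i
      rw [WittVector.zero_coeff]
      have h1 : (p : WittVector p R) ^ u * X - a
          = (p : WittVector p R) ^ u * (X - x (i + 1)) + ((p : WittVector p R) ^ u * x (i + 1) - a) := by
        ring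
      have h2 : (p : WittVector p R) ^ u * X - a ∈
          RingHom.ker (WittVector.truncate (p := p) (R := R) (i + 1)) := by
        rw [h1]
        exact Ideal.add_mem _ (Ideal.mul_mem_left _ _ (hX (i + 1))) (hx (i + 1))
      exact (mem_ker_truncate (i + 1) _).mp h2 i (Nat.lt_succ_self i)
    rw [Ideal.mem_span_singleton']
    exact ⟨X, by rw [mul_comm]; exact sub_eq_zero.mp hfin⟩
  · exact le_iInf fun r => le_iInf fun s => le_sup_of_le_left le_sup_left

end Groth.Agent.Lib.Seat78.WittDiv
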