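import Mathlib
import Groth.Prelude.Def_W4c1extbt610Disp
import Groth.Agent.Lib.Seat78WittDiv
import Groth.Agent.Lib.Seat69WittFrobNil
import Groth.Agent.Lib.Helper22Disp

/-!
# Witt vectors with coefficients in an ideal which is square-zero modulo a smaller ideal (seat 78)

For ideals `𝔠 ≤ 𝔟` of `S` with `𝔟 * 𝔟 ≤ 𝔠` and `p 𝔟 ≤ 𝔠`, the ideal `W(𝔟)/W(𝔠)` of `W(S/𝔠)` has
componentwise addition and `(ξ a)_n = w_n(ξ) a_n`; hence the coefficient shift is additive and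
Frobenius-semilinear modulo `W(𝔠)` (`ShiftPair`).  Used for Zink's rigidity of displays
(S16543, S16544).
-/

set_option autoImplicit false
universe u

namespace Groth.Agent.Lib.Seat78.WittSqZero

open WittVector

variable {p : ℕ} [hp : Fact p.Prime]

section wIdeal
variable {S : Type u} [CommRing S]

/-- `W(𝔟)`: Witt vectors all of whose coefficients lie in `𝔟`. -/
noncomputable def wIdeal (𝔟 : Ideal S) : Ideal (WittVector p S) :=
  RingHom.ker (WittVector.map (Ideal.Quotient.mk 𝔟))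

theorem mem_wIdeal_iff {𝔟 : Ideal S} {a : WittVector p S} :
    a ∈ wIdeal 𝔟 ↔ ∀ n, a.coeff n ∈ 𝔟 := by
  rw [wIdeal, RingHom.mem_ker, WittVector.ext_iff]
  simp only [WittVector.map_coeff, WittVector.zero_coeff, Ideal.Quotient.eq_zero_iff_mem]

theorem sub_mem_wIdeal_iff {𝔠 : Ideal S} {x y : WittVector p S} :
    x - y ∈ wIdeal 𝔠 ↔
      WittVector.map (Ideal.Quotient.mk 𝔠) x = WittVector.map (Ideal.Quotient.mk 𝔠) y := by
  rw [wIdeal, RingHom.mem_ker, map_sub, sub_eq_zero]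

theorem wIdeal_mono {𝔟 𝔠 : Ideal S} (h : 𝔠 ≤ 𝔟) : (wIdeal 𝔠 : Ideal (WittVector p S)) ≤ wIdeal 𝔟 := by
  intro a ha
  rw [mem_wIdeal_iff] at ha ⊢
  exact fun n => h (ha n)

theorem wIdeal_bot : (wIdeal (⊥ : Ideal S) : Ideal (WittVector p S)) = ⊥ := by
  rw [eq_bot_iff]
  intro a ha
  rw [mem_wIdeal_iff] at ha
  rw [Ideal.mem_bot]
  ext n
  rw [WittVector.zero_coeff]
  exact (Ideal.mem_bot).1 (ha n)

theorem ker_map_eq {R : Type u} [CommRing R] (f : S →+* R) :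
    RingHom.ker (WittVector.map f : WittVector p S →+* WittVector p R) = wIdeal (RingHom.ker f) := by
  ext a
  rw [mem_wIdeal_iff, RingHom.mem_ker, WittVector.ext_iff]
  simp only [WittVector.map_coeff, WittVector.zero_coeff, RingHom.mem_ker]

theorem shift_mem_wIdeal {𝔟 : Ideal S} {a : WittVector p S} (ha : a ∈ wIdeal 𝔟) (k : ℕ) :
    a.shift k ∈ wIdeal 𝔟 := by
  rw [mem_wIdeal_iff] at ha ⊢
  intro n
  rw [WittVector.shift_coeff]
  exact ha _

theorem verschiebung_mem_wIdeal {𝔟 : Ideal S} {a : WittVector p S} (ha : a ∈ wIdeal 𝔟) :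
    verschiebung a ∈ wIdeal 𝔟 := by
  rw [mem_wIdeal_iff] at ha ⊢
  intro n
  cases n with
  | zero => rw [WittVector.verschiebung_coeff_zero]; exact zero_mem _
  | succ n => rw [WittVector.verschiebung_coeff_succ]; exact ha n

theorem frobenius_mem_wIdeal {𝔟 : Ideal S} {a : WittVector p S} (ha : a ∈ wIdeal 𝔟) :
    frobenius a ∈ wIdeal 𝔟 := by
  rw [wIdeal, RingHom.mem_ker] at ha ⊢
  rw [(WittVector.frobenius_isPoly p).map (Ideal.Quotient.mk 𝔟) a, ha, map_zero]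

theorem shift_verschiebung (w : WittVector p S) : (verschiebung w).shift 1 = w := by
  ext n
  rw [WittVector.shift_coeff, add_comm, WittVector.verschiebung_coeff_add_one]

theorem map_shift {R : Type u} [CommRing R] (f : S →+* R) (a : WittVector p S) (k : ℕ) :
    WittVector.map f (a.shift k) = (WittVector.map f a).shift k := by
  ext n
  rw [WittVector.map_coeff, WittVector.shift_coeff, WittVector.shift_coeff, WittVector.map_coeff]

theorem ghostComponent_map {R : Type u} [CommRing R] (f : S →+* R) (a : WittVector p S) (n : ℕ) :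
    ghostComponent n (WittVector.map f a) = f (ghostComponent n a) := by
  rw [WittDiv.ghost_eq_sum, WittDiv.ghost_eq_sum, map_sum]
  refine Finset.sum_congr rfl fun i _ => ?_
  rw [map_mul, map_pow, map_pow, map_natCast, WittVector.map_coeff]

end wIdeal

section TorsionFree
variable {T : Type u} [CommRing T]

omit hp in
theorem pow_eq_zero_of_sq {x : T} (hx : x * x = 0) {m : ℕ} (hm : 2 ≤ m) : x ^ m = 0 := by
  refine pow_eq_zero_of_le hm ?_
  rw [pow_two, hx]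

theorem ghost_eq_of_mem (K : Ideal T) (hK : ∀ x ∈ K, ∀ y ∈ K, x * y = 0)
    (a : WittVector p T) (ha : a ∈ wIdeal K) (n : ℕ) :
    ghostComponent n a = (p : T) ^ n * a.coeff n := by
  rw [mem_wIdeal_iff] at ha
  rw [WittDiv.ghost_eq_sum, Finset.sum_range_succ, Nat.sub_self, pow_zero, pow_one,
    Finset.sum_eq_zero, zero_add]
  intro i hi
  have hi' : i < n := Finset.mem_range.1 hi
  have h2 : 2 ≤ p ^ (n - i) := by
    calc 2 ≤ p := hp.out.two_le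
      _ = p ^ 1 := (pow_one p).symm
      _ ≤ p ^ (n - i) := Nat.pow_le_pow_right hp.out.pos (by omega)
  rw [pow_eq_zero_of_sq (hK _ (ha i) _ (ha i)) h2, mul_zero]

theorem tf_add_coeff (hT : ∀ y : T, (p : T) * y = 0 → y = 0) (K : Ideal T)
    (hK : ∀ x ∈ K, ∀ y ∈ K, x * y = 0) (a b : WittVector p T) (ha : a ∈ wIdeal K)
    (hb : b ∈ wIdeal K) (n : ℕ) : (a + b).coeff n = a.coeff n + b.coeff n := by
  apply WittDiv.pow_cancel hT n
  rw [← ghost_eq_of_mem K hK _ (add_mem ha hb), map_add, ghost_eq_of_mem K hK a ha,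
    ghost_eq_of_mem K hK b hb, mul_add]

theorem tf_mul_coeff (hT : ∀ y : T, (p : T) * y = 0 → y = 0) (K : Ideal T)
    (hK : ∀ x ∈ K, ∀ y ∈ K, x * y = 0) (ξ a : WittVector p T) (ha : a ∈ wIdeal K) (n : ℕ) :
    (ξ * a).coeff n = ghostComponent n ξ * a.coeff n := by
  apply WittDiv.pow_cancel hT n
  rw [← ghost_eq_of_mem K hK _ (Ideal.mul_mem_left _ ξ ha), map_mul, ghost_eq_of_mem K hK a ha]
  ring

end TorsionFree

section Model

open TrivSqZeroExt in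
theorem exists_model {Sb : Type u} [CommRing Sb] (𝔟 : Ideal Sb)
    (h𝔟 : ∀ x ∈ 𝔟, ∀ y ∈ 𝔟, x * y = 0) :
    ∃ (T : Type u) (_ : CommRing T) (K : Ideal T) (φ : T →+* Sb),
      (∀ y : T, (p : T) * y = 0 → y = 0) ∧ (∀ x ∈ K, ∀ y ∈ K, x * y = 0) ∧
      (∀ s : Sb, ∃ t : T, φ t = s) ∧ (∀ b ∈ 𝔟, ∃ t ∈ K, φ t = b) := by
  let B := MvPolynomial Sb ℤ
  let M := (↥𝔟 →₀ B)
  let alg : Algebra B Sb := (MvPolynomial.aeval (fun s : Sb => s)).toRingHom.toAlgebra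
  have halg : ∀ b : B, algebraMap B Sb b = MvPolynomial.aeval (fun s : Sb => s) b := fun b => rfl
  let g : M →ₗ[B] Sb := Finsupp.linearCombination B (fun b : ↥𝔟 => (b : Sb))
  have hgmem : ∀ m : M, g m ∈ 𝔟 := by
    intro m
    change Finsupp.linearCombination B (fun b : ↥𝔟 => (b : Sb)) m ∈ 𝔟
    rw [Finsupp.linearCombination_apply]
    refine Ideal.sum_mem _ fun c _ => ?_
    show m c • (c : Sb) ∈ 𝔟
    rw [Algebra.smul_def]
    exact Ideal.mul_mem_left _ _ c.2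
  let φ : TrivSqZeroExt B M →ₐ[B] Sb :=
    liftEquivOfComm ⟨g, fun x y => h𝔟 _ (hgmem x) _ (hgmem y)⟩
  have hφl : ∀ r : B, φ (inl r) = algebraMap B Sb r := fun r => by
    simp only [φ, liftEquivOfComm_apply, lift_apply_inl, Algebra.ofId_apply]
  have hφr : ∀ m : M, φ (inr m) = g m := fun m => by
    simp only [φ, liftEquivOfComm_apply, lift_apply_inr]
  refine ⟨TrivSqZeroExt B M, inferInstance, RingHom.ker (fstHom B B M).toRingHom, φ.toRingHom,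
    ?_, ?_, ?_, ?_⟩
  · intro y hy
    have h1 : ((p : TrivSqZeroExt B M) * y).fst = 0 := by rw [hy]; rfl
    have h2 : ((p : TrivSqZeroExt B M) * y).snd = 0 := by rw [hy]; rfl
    rw [fst_mul, fst_natCast] at h1
    rw [snd_mul, fst_natCast, snd_natCast] at h2
    have hp0 : (p : B) ≠ 0 := by exact_mod_cast hp.out.ne_zero
    have h3 : y.fst = 0 := (mul_eq_zero.1 h1).resolve_left hp0
    have h4 : y.snd = 0 := by
      simp only [smul_zero, add_zero] at h2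
      refine Finsupp.ext fun i => ?_
      have h5 := DFunLike.congr_fun h2 i
      rw [Finsupp.smul_apply, smul_eq_mul, Finsupp.zero_apply] at h5
      rw [Finsupp.zero_apply]
      exact (mul_eq_zero.1 h5).resolve_left hp0
    exact TrivSqZeroExt.ext h3 h4
  · intro x hx y hy
    rw [RingHom.mem_ker] at hx hy
    have hx' : x.fst = 0 := hx
    have hy' : y.fst = 0 := hy
    apply TrivSqZeroExt.ext
    · rw [fst_mul, hx', zero_mul]; rfl
    · rw [snd_mul, hx', hy']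
      simp
  · intro s
    refine ⟨inl (MvPolynomial.X s), ?_⟩
    change φ (inl (MvPolynomial.X s)) = s
    rw [hφl, halg, MvPolynomial.aeval_X]
  · intro b hb
    refine ⟨inr (Finsupp.single ⟨b, hb⟩ 1), ?_, ?_⟩
    · rw [RingHom.mem_ker]
      rfl
    · change φ (inr (Finsupp.single ⟨b, hb⟩ 1)) = b
      rw [hφr]
      change Finsupp.linearCombination B (fun b : ↥𝔟 => (b : Sb)) (Finsupp.single ⟨b, hb⟩ 1) = b
      rw [Finsupp.linearCombination_single, one_smul]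

end Model

section SqZero
variable {Sb : Type u} [CommRing Sb]

theorem exists_lift_witt {T : Type u} [CommRing T] (𝔟 : Ideal Sb) (K : Ideal T) (φ : T →+* Sb)
    (h3 : ∀ s : Sb, ∃ t : T, φ t = s) (h4 : ∀ b ∈ 𝔟, ∃ t ∈ K, φ t = b) :
    (∀ ξ : WittVector p Sb, ∃ ξ' : WittVector p T, WittVector.map φ ξ' = ξ) ∧
      (∀ a ∈ (wIdeal 𝔟 : Ideal (WittVector p Sb)), ∃ a' ∈ (wIdeal K : Ideal (WittVector p T)),
        WittVector.map φ a' = a) := by
  constructor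
  · intro ξ
    refine ⟨WittVector.mk p (fun n => (h3 (ξ.coeff n)).choose), ?_⟩
    ext n
    rw [WittVector.map_coeff, WittVector.coeff_mk]
    exact (h3 (ξ.coeff n)).choose_spec
  · intro a ha
    rw [mem_wIdeal_iff] at ha
    refine ⟨WittVector.mk p (fun n => (h4 _ (ha n)).choose), ?_, ?_⟩
    · rw [mem_wIdeal_iff]
      intro n
      rw [WittVector.coeff_mk]
      exact (h4 _ (ha n)).choose_spec.1
    · ext n
      rw [WittVector.map_coeff, WittVector.coeff_mk]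
      exact (h4 _ (ha n)).choose_spec.2

/-- addition is componentwise on `W(𝔟)` for a square-zero ideal `𝔟` -/
theorem sq_add_coeff (𝔟 : Ideal Sb) (h𝔟 : ∀ x ∈ 𝔟, ∀ y ∈ 𝔟, x * y = 0)
    (a b : WittVector p Sb) (ha : a ∈ wIdeal 𝔟) (hb : b ∈ wIdeal 𝔟) (n : ℕ) :
    (a + b).coeff n = a.coeff n + b.coeff n := by
  obtain ⟨T, _, K, φ, hT, hK, h3, h4⟩ := exists_model (p := p) 𝔟 h𝔟
  obtain ⟨a', ha', rfl⟩ := (exists_lift_witt (p := p) 𝔟 K φ h3 h4).2 a ha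
  obtain ⟨b', hb', rfl⟩ := (exists_lift_witt (p := p) 𝔟 K φ h3 h4).2 b hb
  rw [← map_add, WittVector.map_coeff, WittVector.map_coeff, WittVector.map_coeff,
    tf_add_coeff hT K hK a' b' ha' hb' n, map_add]

/-- `(ξ a)_n = w_n(ξ) a_n` on `W(𝔟)` for a square-zero ideal `𝔟` -/
theorem sq_mul_coeff (𝔟 : Ideal Sb) (h𝔟 : ∀ x ∈ 𝔟, ∀ y ∈ 𝔟, x * y = 0)
    (ξ a : WittVector p Sb) (ha : a ∈ wIdeal 𝔟) (n : ℕ) :
    (ξ * a).coeff n = ghostComponent n ξ * a.coeff n := by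
  obtain ⟨T, _, K, φ, hT, hK, h3, h4⟩ := exists_model (p := p) 𝔟 h𝔟
  obtain ⟨a', ha', rfl⟩ := (exists_lift_witt (p := p) 𝔟 K φ h3 h4).2 a ha
  obtain ⟨ξ', rfl⟩ := (exists_lift_witt (p := p) 𝔟 K φ h3 h4).1 ξ
  rw [← map_mul, WittVector.map_coeff, WittVector.map_coeff, ghostComponent_map,
    tf_mul_coeff hT K hK ξ' a' ha' n, map_mul]

theorem sq_shift_add (𝔟 : Ideal Sb) (h𝔟 : ∀ x ∈ 𝔟, ∀ y ∈ 𝔟, x * y = 0)
    (a b : WittVector p Sb) (ha : a ∈ wIdeal 𝔟) (hb : b ∈ wIdeal 𝔟) :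
    (a + b).shift 1 = a.shift 1 + b.shift 1 := by
  ext n
  rw [WittVector.shift_coeff, sq_add_coeff 𝔟 h𝔟 a b ha hb,
    sq_add_coeff 𝔟 h𝔟 _ _ (shift_mem_wIdeal ha 1) (shift_mem_wIdeal hb 1),
    WittVector.shift_coeff, WittVector.shift_coeff]

theorem sq_shift_mul (𝔟 : Ideal Sb) (h𝔟 : ∀ x ∈ 𝔟, ∀ y ∈ 𝔟, x * y = 0)
    (ξ a : WittVector p Sb) (ha : a ∈ wIdeal 𝔟) :
    (ξ * a).shift 1 = frobenius ξ * a.shift 1 := by
  ext n
  rw [WittVector.shift_coeff, sq_mul_coeff 𝔟 h𝔟 ξ a ha,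
    sq_mul_coeff 𝔟 h𝔟 _ _ (shift_mem_wIdeal ha 1), WittVector.shift_coeff,
    WittVector.ghostComponent_frobenius, add_comm 1 n]

theorem sq_p_mul (𝔟 : Ideal Sb) (h𝔟 : ∀ x ∈ 𝔟, ∀ y ∈ 𝔟, x * y = 0)
    (hp𝔟 : ∀ x ∈ 𝔟, (p : Sb) * x = 0) (a : WittVector p Sb) (ha : a ∈ wIdeal 𝔟) :
    (p : WittVector p Sb) * a = 0 := by
  ext n
  rw [sq_mul_coeff 𝔟 h𝔟 _ a ha, map_natCast, WittVector.zero_coeff]
  exact hp𝔟 _ (mem_wIdeal_iff.1 ha n)

end SqZero

section Relative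
variable {S : Type u} [CommRing S]

open W4c1extbt610 in
/-- the properties of the coefficient shift `a ↦ (a₁, a₂, …)` on an ideal `J` of `W(S)` modulo a
smaller ideal `J'` which are used for the rigidity of displays -/
structure ShiftPair (J J' : Ideal (WittVector p S)) : Prop where
  le : J' ≤ J
  sh_mem : ∀ a ∈ J, a.shift 1 ∈ J
  sh_mem' : ∀ a ∈ J', a.shift 1 ∈ J'
  sh_add : ∀ a ∈ J, ∀ b ∈ J, (a + b).shift 1 - (a.shift 1 + b.shift 1) ∈ J'
  sh_mul : ∀ (ξ : WittVector p S), ∀ a ∈ J, (ξ * a).shift 1 - frobenius ξ * a.shift 1 ∈ J'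
  frob_mem : ∀ a ∈ J, frobenius a ∈ J'
  frob_mem' : ∀ a ∈ J', frobenius a ∈ J'
  p_mul_mem : ∀ a ∈ J, (p : WittVector p S) * a ∈ J'
  IV_mul_mem : ∀ i ∈ IV p S, ∀ a ∈ J, i * a ∈ J'

theorem frobenius_mem_of_sq (𝔟 𝔠 : Ideal S) (hsq : ∀ x ∈ 𝔟, ∀ y ∈ 𝔟, x * y ∈ 𝔠)
    (hp𝔟 : ∀ x ∈ 𝔟, (p : S) * x ∈ 𝔠) (a : WittVector p S) (ha : a ∈ wIdeal 𝔟) :
    frobenius a ∈ wIdeal 𝔠 := by
  rw [mem_wIdeal_iff] at ha ⊢
  intro n
  rw [WittVector.coeff_frobenius, WittVector.frobeniusPoly, map_add, map_pow, map_mul,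
    MvPolynomial.aeval_X, MvPolynomial.aeval_C]
  refine add_mem ?_ ?_
  · obtain ⟨k, hk⟩ : ∃ k, p = 2 + k := ⟨p - 2, by have := hp.out.two_le; omega⟩
    have h2 : a.coeff n ^ p = a.coeff n * a.coeff n * a.coeff n ^ k := by
      rw [← pow_two, ← pow_add, ← hk]
    rw [h2]
    exact Ideal.mul_mem_right _ _ (hsq _ (ha n) _ (ha n))
  · have h1 := Groth.Agent.Lib.Seat69.WittFrobNil.aeval_mem_of_constantCoeff_eq_zero 𝔟 a.coeff ha
      (WittVector.frobeniusPolyAux p n)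
      (Groth.Agent.Lib.Seat69.WittFrobNil.constantCoeff_frobeniusPolyAux p n)
    have h3 := hp𝔟 _ h1
    simpa using h3

open W4c1extbt610 in
theorem shiftPair_wIdeal (𝔟 𝔠 : Ideal S) (hle : 𝔠 ≤ 𝔟) (hsq : ∀ x ∈ 𝔟, ∀ y ∈ 𝔟, x * y ∈ 𝔠)
    (hp𝔟 : ∀ x ∈ 𝔟, (p : S) * x ∈ 𝔠) :
    ShiftPair (wIdeal 𝔟 : Ideal (WittVector p S)) (wIdeal 𝔠) := by
  -- the square-zero ideal `𝔟/𝔠` of `S/𝔠`
  have h𝔟' : ∀ x ∈ 𝔟.map (Ideal.Quotient.mk 𝔠), ∀ y ∈ 𝔟.map (Ideal.Quotient.mk 𝔠), x * y = 0 := by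
    intro x hx y hy
    obtain ⟨x', hx', rfl⟩ :=
      (Ideal.mem_map_iff_of_surjective _ Ideal.Quotient.mk_surjective).1 hx
    obtain ⟨y', hy', rfl⟩ :=
      (Ideal.mem_map_iff_of_surjective _ Ideal.Quotient.mk_surjective).1 hy
    rw [← map_mul, Ideal.Quotient.eq_zero_iff_mem]
    exact hsq _ hx' _ hy'
  have hp' : ∀ x ∈ 𝔟.map (Ideal.Quotient.mk 𝔠), (p : S ⧸ 𝔠) * x = 0 := by
    intro x hx
    obtain ⟨x', hx', rfl⟩ :=
      (Ideal.mem_map_iff_of_surjective _ Ideal.Quotient.mk_surjective).1 hx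
    rw [← map_natCast (Ideal.Quotient.mk 𝔠), ← map_mul, Ideal.Quotient.eq_zero_iff_mem]
    exact hp𝔟 _ hx'
  have hmap : ∀ a ∈ (wIdeal 𝔟 : Ideal (WittVector p S)),
      WittVector.map (Ideal.Quotient.mk 𝔠) a ∈
        (wIdeal (𝔟.map (Ideal.Quotient.mk 𝔠)) : Ideal (WittVector p (S ⧸ 𝔠))) := by
    intro a ha
    rw [mem_wIdeal_iff] at ha ⊢
    intro n
    rw [WittVector.map_coeff]
    exact Ideal.mem_map_of_mem _ (ha n)
  have hfrob : ∀ a ∈ (wIdeal 𝔟 : Ideal (WittVector p S)), frobenius a ∈ wIdeal 𝔠 :=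
    frobenius_mem_of_sq 𝔟 𝔠 hsq hp𝔟
  refine ⟨wIdeal_mono hle, fun a ha => shift_mem_wIdeal ha 1, fun a ha => shift_mem_wIdeal ha 1,
    ?_, ?_, hfrob, fun a ha => frobenius_mem_wIdeal ha, ?_, ?_⟩
  · intro a ha b hb
    rw [sub_mem_wIdeal_iff, map_shift, map_add, map_add, map_shift, map_shift]
    exact sq_shift_add _ h𝔟' _ _ (hmap a ha) (hmap b hb)
  · intro ξ a ha
    rw [sub_mem_wIdeal_iff, map_shift, map_mul, map_mul, map_shift,
      (WittVector.frobenius_isPoly p).map (Ideal.Quotient.mk 𝔠) ξ]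
    exact sq_shift_mul _ h𝔟' _ _ (hmap a ha)
  · intro a ha
    have h0 : (p : WittVector p S) * a - 0 ∈ wIdeal 𝔠 := by
      rw [sub_mem_wIdeal_iff, map_mul, map_natCast, map_zero]
      exact sq_p_mul _ h𝔟' hp' _ (hmap a ha)
    rwa [sub_zero] at h0
  · intro i hi a ha
    obtain ⟨w, rfl⟩ := (Groth.Agent.Lib.Helper22.mem_IV_iff' i).1 hi
    rw [← WittVector.verschiebung_mul_frobenius]
    exact verschiebung_mem_wIdeal (Ideal.mul_mem_left _ w (hfrob a ha))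

end Relative

end Groth.Agent.Lib.Seat78.WittSqZero
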