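import Mathlib.RingTheory.AdjoinRoot
import Mathlib.RingTheory.Derivation.Basic
import Mathlib.Algebra.Polynomial.Derivative

/-!
# Derivations of a monogenic algebra `S = R[x]` (seat 79)

`R → S` commutative rings, `x : S`, `N` an `S`-module.  Given an additive map
`δ : R →+ N` satisfying the Leibniz rule (through `algebraMap R S`) and a vector `n₀ : N`, the
additive map
`Dtil x δ n₀ : R[X] →+ N`, `g ↦ Σ_i x^i • δ (g_i) + g'(x) • n₀`
satisfies the Leibniz rule (through `aeval x`).  If `aeval x` is surjective with kernel generated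
by `f` and `Dtil x δ n₀ f = 0`, it descends to `S`:

* `der … : S → N` with `der_aeval`, `der_algebraMap`, `der_x`, `der_add`, `der_leibniz`, `der_mem`;
* `toDerivation`: a `Λ`-derivation when `δ` kills the image of `Λ`.

(The abstract `S`, rather than `AdjoinRoot f`, keeps instance search fast for the callers.)
-/

set_option autoImplicit false
set_option linter.unusedSectionVars false
universe u v w

open Polynomial

namespace Groth.Agent.Lib.Seat79.AdjoinRootDer

variable {R : Type u} [CommRing R] {S : Type v} [CommRing S] [Algebra R S] (x : S)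
  {N : Type w} [AddCommGroup N] [Module S N]

/-- The coefficientwise part of the derivation on `R[X]`. -/
noncomputable def Etil (δ : R →+ N) : R[X] →+ N where
  toFun g := g.sum (fun i r => x ^ i • δ r)
  map_zero' := by simp
  map_add' g h := by
    rw [Polynomial.sum_add_index]
    · intro i; simp
    · intro i r r'; rw [map_add, smul_add]

theorem Etil_monomial (δ : R →+ N) (n : ℕ) (r : R) :
    Etil x δ (monomial n r) = x ^ n • δ r := by
  change (monomial n r).sum (fun i r => x ^ i • δ r) = _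
  rw [Polynomial.sum_monomial_index]
  simp

theorem Etil_leibniz (δ : R →+ N)
    (hδ : ∀ r r' : R, δ (r * r') = algebraMap R S r • δ r' + algebraMap R S r' • δ r)
    (g h : R[X]) :
    Etil x δ (g * h) = aeval x g • Etil x δ h + aeval x h • Etil x δ g := by
  induction g using Polynomial.induction_on' with
  | add g₁ g₂ h₁ h₂ =>
    rw [add_mul, map_add, h₁, h₂, map_add, map_add, add_smul, smul_add]
    abel
  | monomial n r =>
    induction h using Polynomial.induction_on' with
    | add g₁ g₂ h₁ h₂ =>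
      rw [mul_add, map_add, h₁, h₂, map_add, map_add, add_smul, smul_add]
      abel
    | monomial m r' =>
      rw [monomial_mul_monomial, Etil_monomial, Etil_monomial, Etil_monomial, hδ, aeval_monomial,
        aeval_monomial, smul_add, smul_smul, smul_smul, smul_smul, smul_smul, pow_add]
      congr 1
      · congr 1; ring
      · congr 1; ring

/-- The candidate derivation on `R[X]`. -/
noncomputable def Dtil (δ : R →+ N) (n₀ : N) : R[X] →+ N where
  toFun g := Etil x δ g + aeval x (derivative g) • n₀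
  map_zero' := by simp
  map_add' g h := by
    rw [map_add, derivative_add, map_add, add_smul]
    abel

theorem Dtil_apply (δ : R →+ N) (n₀ : N) (g : R[X]) :
    Dtil x δ n₀ g = Etil x δ g + aeval x (derivative g) • n₀ := rfl

theorem Dtil_leibniz (δ : R →+ N)
    (hδ : ∀ r r' : R, δ (r * r') = algebraMap R S r • δ r' + algebraMap R S r' • δ r)
    (n₀ : N) (g h : R[X]) :
    Dtil x δ n₀ (g * h) = aeval x g • Dtil x δ n₀ h + aeval x h • Dtil x δ n₀ g := by
  rw [Dtil_apply, Dtil_apply, Dtil_apply, Etil_leibniz x δ hδ, derivative_mul, map_add, map_mul,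
    map_mul, smul_add, smul_add, add_smul, smul_smul, smul_smul, mul_comm (aeval x h)]
  abel

theorem Dtil_C (δ : R →+ N) (n₀ : N) (r : R) : Dtil x δ n₀ (C r) = δ r := by
  rw [Dtil_apply, ← monomial_zero_left, Etil_monomial, monomial_zero_left, derivative_C, map_zero,
    zero_smul, add_zero, pow_zero, one_smul]

theorem Dtil_X_pow (δ : R →+ N) (hδ1 : δ 1 = 0) (n₀ : N) (n : ℕ) :
    Dtil x δ n₀ (X ^ n) = ((n : S) * x ^ (n - 1)) • n₀ := by
  rw [Dtil_apply, X_pow_eq_monomial, Etil_monomial, hδ1, smul_zero, zero_add, ← X_pow_eq_monomial,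
    derivative_X_pow, map_mul, map_pow, aeval_X, aeval_C, map_natCast]

theorem Dtil_X (δ : R →+ N) (hδ1 : δ 1 = 0) (n₀ : N) : Dtil x δ n₀ X = n₀ := by
  have h := Dtil_X_pow x δ hδ1 n₀ 1
  rw [pow_one] at h
  rw [h]
  simp

theorem Dtil_mem (δ : R →+ N) (n₀ : N) (N' : Submodule S N) (hδ' : ∀ r, δ r ∈ N') (hn : n₀ ∈ N')
    (g : R[X]) : Dtil x δ n₀ g ∈ N' := by
  rw [Dtil_apply]
  refine N'.add_mem ?_ (N'.smul_mem _ hn)
  change g.sum (fun i r => x ^ i • δ r) ∈ N'
  rw [Polynomial.sum_def]
  exact N'.sum_mem fun i _ => N'.smul_mem _ (hδ' _)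

variable (f : R[X]) (hsurj : Function.Surjective (aeval x : R[X] → S))
  (hker : ∀ g : R[X], aeval x g = 0 → f ∣ g) (hf : aeval x f = 0)
  (δ : R →+ N)
  (hδ : ∀ r r' : R, δ (r * r') = algebraMap R S r • δ r' + algebraMap R S r' • δ r)
  (n₀ : N) (h : Dtil x δ n₀ f = 0)

include hker hf hδ h in
theorem Dtil_eq_of_aeval_eq (g g' : R[X]) (hg : aeval x g = aeval x g') :
    Dtil x δ n₀ g = Dtil x δ n₀ g' := by
  obtain ⟨c, hc⟩ := hker (g - g') (by rw [map_sub, hg, sub_self])
  rw [← sub_eq_zero, ← map_sub, hc, Dtil_leibniz x δ hδ, h, smul_zero, add_zero, hf, zero_smul]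

/-- The map `S → N` induced by `Dtil`. -/
noncomputable def der (hsurj : Function.Surjective (aeval x : R[X] → S)) (δ : R →+ N) (n₀ : N)
    (s : S) : N :=
  Dtil x δ n₀ (Classical.choose (hsurj s))

include hker hf hδ h in
theorem der_aeval (g : R[X]) : der x hsurj δ n₀ (aeval x g) = Dtil x δ n₀ g :=
  Dtil_eq_of_aeval_eq x f hker hf δ hδ n₀ h _ _ (Classical.choose_spec (hsurj (aeval x g)))

include hker hf hδ h in
theorem der_algebraMap (r : R) : der x hsurj δ n₀ (algebraMap R S r) = δ r := by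
  rw [← aeval_C x r, der_aeval x f hsurj hker hf δ hδ n₀ h, Dtil_C]

include hker hf hδ h in
theorem der_x (hδ1 : δ 1 = 0) : der x hsurj δ n₀ x = n₀ := by
  have h1 : der x hsurj δ n₀ (aeval x (X : R[X])) = Dtil x δ n₀ X :=
    der_aeval x f hsurj hker hf δ hδ n₀ h X
  rwa [aeval_X, Dtil_X x δ hδ1] at h1

include hker hf hδ h in
theorem der_add (s s' : S) :
    der x hsurj δ n₀ (s + s') = der x hsurj δ n₀ s + der x hsurj δ n₀ s' := by
  obtain ⟨g, rfl⟩ := hsurj s
  obtain ⟨g', rfl⟩ := hsurj s'
  rw [← map_add, der_aeval x f hsurj hker hf δ hδ n₀ h, der_aeval x f hsurj hker hf δ hδ n₀ h,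
    der_aeval x f hsurj hker hf δ hδ n₀ h, map_add]

include hker hf hδ h in
theorem der_leibniz (s s' : S) :
    der x hsurj δ n₀ (s * s') = s • der x hsurj δ n₀ s' + s' • der x hsurj δ n₀ s := by
  obtain ⟨g, rfl⟩ := hsurj s
  obtain ⟨g', rfl⟩ := hsurj s'
  rw [← map_mul, der_aeval x f hsurj hker hf δ hδ n₀ h, der_aeval x f hsurj hker hf δ hδ n₀ h,
    der_aeval x f hsurj hker hf δ hδ n₀ h, Dtil_leibniz x δ hδ]

include hker hf hδ h in
theorem der_mem (N' : Submodule S N) (hδ' : ∀ r, δ r ∈ N') (hn : n₀ ∈ N') (s : S) :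
    der x hsurj δ n₀ s ∈ N' := by
  obtain ⟨g, rfl⟩ := hsurj s
  rw [der_aeval x f hsurj hker hf δ hδ n₀ h]
  exact Dtil_mem x δ n₀ N' hδ' hn g

/-- `der` as a derivation over a base ring `Λ` killed by `δ`. -/
noncomputable def toDerivation {Λ : Type*} [CommRing Λ] [Algebra Λ R] [Algebra Λ S]
    [IsScalarTower Λ R S] [Module Λ N] [IsScalarTower Λ S N]
    (hΛ : ∀ l : Λ, δ (algebraMap Λ R l) = 0) : Derivation Λ S N :=
  Derivation.mk'
    { toFun := der x hsurj δ n₀
      map_add' := der_add x f hsurj hker hf δ hδ n₀ h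
      map_smul' := fun l s => by
        rw [Algebra.smul_def, der_leibniz x f hsurj hker hf δ hδ n₀ h, RingHom.id_apply,
          IsScalarTower.algebraMap_apply Λ R S, der_algebraMap x f hsurj hker hf δ hδ n₀ h, hΛ,
          smul_zero, add_zero, ← IsScalarTower.algebraMap_apply Λ R S, algebraMap_smul] }
    (fun s s' => der_leibniz x f hsurj hker hf δ hδ n₀ h s s')

theorem toDerivation_apply {Λ : Type*} [CommRing Λ] [Algebra Λ R] [Algebra Λ S]
    [IsScalarTower Λ R S] [Module Λ N] [IsScalarTower Λ S N]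
    (hΛ : ∀ l : Λ, δ (algebraMap Λ R l) = 0) (s : S) :
    toDerivation x f hsurj hker hf δ hδ n₀ h hΛ s = der x hsurj δ n₀ s := rfl

end Groth.Agent.Lib.Seat79.AdjoinRootDer
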