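import Mathlib.Algebra.BigOperators.Ring.Finset
import Mathlib.Algebra.CharP.Basic
import Mathlib.Data.Nat.Choose.Sum
import Mathlib.Data.Nat.Choose.Dvd
import Mathlib.Algebra.BigOperators.Intervals
import Mathlib.Tactic

/-! # A Bell-polynomial congruence (seat 79)

For an additive map `E` with the Leibniz rule on a commutative ring `B` and `g : B`, the sequence
`d n k` (`d 0 k = [k = 1]`, `d (n+1) 0 = 0`, `d (n+1) (k+1) = E (d n (k+1)) + g * d n k`) describes the
normal form of `(g D)^n`; when `p = 0` in `B` one has `d p 2 = E^[p-1] g`, `d p (p+1) = g^p` and all other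
`d p k` vanish. -/

set_option autoImplicit false
set_option linter.unusedSectionVars false
universe u

namespace Groth.Agent.Lib.Seat79.Bell

open Finset

variable {B : Type u} [CommRing B] (E : B →+ B) (g : B)

/-- The coefficient sequence (shifted by one in the second index). -/
def d : ℕ → ℕ → B
  | 0, k => if k = 1 then 1 else 0
  | _ + 1, 0 => 0
  | n + 1, k + 1 => E (d n (k + 1)) + g * d n k

@[simp] theorem d_zero (k : ℕ) : d E g 0 k = if k = 1 then 1 else 0 := by
  cases k <;> rfl

@[simp] theorem d_succ_zero (n : ℕ) : d E g (n + 1) 0 = 0 := rfl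

theorem d_succ_succ (n k : ℕ) : d E g (n + 1) (k + 1) = E (d E g n (k + 1)) + g * d E g n k := rfl

theorem d_col_zero (n : ℕ) : d E g n 0 = 0 := by
  cases n <;> simp

variable (hE : ∀ a b, E (a * b) = E a * b + a * E b)
include hE

theorem E_one : E 1 = 0 := by
  have h := hE 1 1
  simp only [mul_one, one_mul] at h
  have : E 1 + 0 = E 1 + E 1 := by rw [add_zero]; exact h
  exact (add_left_cancel this).symm

theorem E_natCast_mul (m : ℕ) (x : B) : E ((m : B) * x) = (m : B) * E x := by
  rw [← nsmul_eq_mul, map_nsmul, nsmul_eq_mul]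

omit hE in
/-- Above the diagonal the coefficients vanish. -/
theorem d_eq_zero_of_lt : ∀ (n k : ℕ), n + 1 < k → d E g n k = 0 := by
  intro n
  induction n with
  | zero =>
    intro k hk
    rw [d_zero, if_neg (by omega)]
  | succ n ih =>
    intro k hk
    cases k with
    | zero => rfl
    | succ k =>
      rw [d_succ_succ, ih (k + 1) (by omega), ih k (by omega), map_zero, mul_zero, add_zero]

omit hE in
/-- The diagonal coefficient is `g^n`. -/
theorem d_diag : ∀ n : ℕ, d E g n (n + 1) = g ^ n := by
  intro n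
  induction n with
  | zero => simp
  | succ n ih =>
    rw [d_succ_succ, d_eq_zero_of_lt E g n (n + 1 + 1) (by omega), map_zero, zero_add, ih, pow_succ,
      mul_comm]

/-- For `n ≥ 1` the coefficient of `D^0` vanishes. -/
theorem d_col_one : ∀ n : ℕ, d E g (n + 1) 1 = 0 := by
  intro n
  induction n with
  | zero =>
    rw [d_succ_succ, d_zero, d_zero, if_pos rfl, if_neg (by omega), E_one E hE, mul_zero, add_zero]
  | succ n ih =>
    rw [d_succ_succ, ih, map_zero, d_succ_zero, mul_zero, add_zero]

/-- The "derivative" identity. -/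
theorem key : ∀ (n k : ℕ), (k : B) * d E g n (k + 1) =
    ∑ j ∈ range n, (Nat.choose n (j + 1) : B) * (E^[j] g * d E g (n - 1 - j) k) := by
  intro n
  induction n with
  | zero =>
    intro k
    rw [range_zero, sum_empty, d_zero]
    by_cases hk : k = 0
    · subst hk; simp
    · rw [if_neg (by omega), mul_zero]
  | succ n ih =>
    intro k
    cases k with
    | zero =>
      rw [Nat.cast_zero, zero_mul]
      symm
      apply sum_eq_zero
      intro j _
      rw [d_col_zero, mul_zero, mul_zero]
    | succ k =>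
      have h1 := ih (k + 1)
      have h2 := ih k
      -- LHS
      have hL : ((k + 1 : ℕ) : B) * d E g (n + 1) (k + 1 + 1) =
          E (((k + 1 : ℕ) : B) * d E g n (k + 1 + 1)) + g * ((k : B) * d E g n (k + 1)) +
            g * d E g n (k + 1) := by
        rw [d_succ_succ, E_natCast_mul E hE]
        push_cast
        ring
      rw [hL, h1, h2, map_sum, mul_sum]
      -- expand E of each term
      have hE1 : ∀ j ∈ range n, E ((Nat.choose n (j + 1) : B) * (E^[j] g * d E g (n - 1 - j) (k + 1))) +
          g * ((Nat.choose n (j + 1) : B) * (E^[j] g * d E g (n - 1 - j) k)) =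
          (Nat.choose n (j + 1) : B) * (E^[j + 1] g * d E g (n - 1 - j) (k + 1)) +
          (Nat.choose n (j + 1) : B) * (E^[j] g * d E g (n - j) (k + 1)) := by
        intro j hj
        have hj' : j < n := mem_range.1 hj
        have hnj : n - j = (n - 1 - j) + 1 := by omega
        rw [E_natCast_mul E hE, hE, hnj, d_succ_succ, Function.iterate_succ_apply']
        ring
      rw [← sum_add_distrib, sum_congr rfl hE1, sum_add_distrib]
      -- RHS
      have hR : ∑ j ∈ range (n + 1), (Nat.choose (n + 1) (j + 1) : B) *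
            (E^[j] g * d E g (n + 1 - 1 - j) (k + 1)) =
          ∑ j ∈ range (n + 1), (Nat.choose n j : B) * (E^[j] g * d E g (n - j) (k + 1)) +
          ∑ j ∈ range (n + 1), (Nat.choose n (j + 1) : B) * (E^[j] g * d E g (n - j) (k + 1)) := by
        rw [← sum_add_distrib]
        apply sum_congr rfl
        intro j _
        rw [Nat.choose_succ_succ, Nat.cast_add, add_mul, Nat.add_sub_cancel]
      rw [hR, sum_range_succ' (fun j => (Nat.choose n j : B) * (E^[j] g * d E g (n - j) (k + 1))),
        sum_range_succ (fun j => (Nat.choose n (j + 1) : B) * (E^[j] g * d E g (n - j) (k + 1)))]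
      rw [Nat.choose_succ_self, Nat.cast_zero, zero_mul, add_zero, Nat.choose_zero_right, Nat.cast_one,
        one_mul, Function.iterate_zero, id_eq, Nat.sub_zero]
      have hsh : ∑ j ∈ range n, (Nat.choose n (j + 1) : B) * (E^[j + 1] g * d E g (n - (j + 1)) (k + 1)) =
          ∑ j ∈ range n, (Nat.choose n (j + 1) : B) * (E^[j + 1] g * d E g (n - 1 - j) (k + 1)) := by
        apply sum_congr rfl
        intro j _
        rw [show n - (j + 1) = n - 1 - j by omega]
      rw [hsh]
      ring


/-! ### The prime case -/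

variable (p : ℕ) [hp : Fact p.Prime] (hpB : (p : B) = 0)
include hpB

omit hE in
theorem natCast_eq_zero_of_dvd {m : ℕ} (h : p ∣ m) : (m : B) = 0 := by
  obtain ⟨c, rfl⟩ := h
  rw [Nat.cast_mul, hpB, zero_mul]

omit hE in
theorem eq_zero_of_natCast_mul_eq_zero {k : ℕ} (hk0 : 0 < k) (hkp : k < p) {x : B}
    (h : (k : B) * x = 0) : x = 0 := by
  have hcop : Nat.Coprime k p := (Nat.coprime_of_lt_prime hk0.ne' hkp hp.out).symm
  have hb := Nat.gcd_eq_gcd_ab k p
  rw [hcop.gcd_eq_one] at hb
  have hb' : (1 : B) = (k : B) * ((Nat.gcdA k p : ℤ) : B) + (p : B) * ((Nat.gcdB k p : ℤ) : B) := by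
    have := congrArg (fun z : ℤ => (z : B)) hb
    simpa using this
  calc x = 1 * x := (one_mul x).symm
    _ = ((k : B) * ((Nat.gcdA k p : ℤ) : B) + (p : B) * ((Nat.gcdB k p : ℤ) : B)) * x := by rw [← hb']
    _ = ((Nat.gcdA k p : ℤ) : B) * ((k : B) * x) + (p : B) * ((Nat.gcdB k p : ℤ) : B) * x := by ring
    _ = 0 := by rw [h, hpB]; ring

/-- The identity `key` at `n = p`. -/
theorem key_p (k : ℕ) : (k : B) * d E g p (k + 1) = if k = 1 then E^[p - 1] g else 0 := by
  have hp1 : 1 ≤ p := hp.out.one_lt.le
  obtain ⟨q, hq⟩ : ∃ q, p = q + 1 := ⟨p - 1, by omega⟩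
  rw [key E g hE p k]
  have hsum : ∑ j ∈ range p, (Nat.choose p (j + 1) : B) * (E^[j] g * d E g (p - 1 - j) k) =
      ∑ j ∈ range (q + 1), (Nat.choose p (j + 1) : B) * (E^[j] g * d E g (p - 1 - j) k) := by
    rw [hq]
  rw [hsum, sum_range_succ]
  have h0 : ∑ j ∈ range q, (Nat.choose p (j + 1) : B) *
      (E^[j] g * d E g (p - 1 - j) k) = 0 := by
    apply sum_eq_zero
    intro j hj
    have hj' : j < q := mem_range.1 hj
    have hdvd : p ∣ Nat.choose p (j + 1) :=
      hp.out.dvd_choose_self (by omega) (by omega)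
    rw [natCast_eq_zero_of_dvd p hpB hdvd, zero_mul]
  have hq1 : q + 1 = p := hq.symm
  have hq' : q = p - 1 := by omega
  rw [h0, zero_add, hq1, Nat.choose_self, Nat.cast_one, one_mul, show p - 1 - q = 0 by omega,
    d_zero, hq']
  by_cases hk : k = 1
  · rw [if_pos hk, if_pos hk, mul_one]
  · rw [if_neg hk, if_neg hk, mul_zero]

theorem d_p_two : d E g p 2 = E^[p - 1] g := by
  have h := key_p E g hE p hpB 1
  rwa [Nat.cast_one, one_mul, if_pos rfl] at h

theorem d_p_mid {k : ℕ} (hk2 : 2 ≤ k) (hkp : k < p) : d E g p (k + 1) = 0 := by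
  have h := key_p E g hE p hpB k
  rw [if_neg (by omega)] at h
  exact eq_zero_of_natCast_mul_eq_zero p hpB (by omega) hkp h

theorem d_p_one : d E g p 1 = 0 := by
  have hp1 : 1 ≤ p := hp.out.one_lt.le
  rw [show p = (p - 1) + 1 by omega]
  exact d_col_one E g hE (p - 1)

end Groth.Agent.Lib.Seat79.Bell
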