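import Mathlib.LinearAlgebra.Alternating.Uncurry.Fin
import Mathlib.LinearAlgebra.ExteriorPower.Basic
import Groth.Prelude.Def_DeRham

/-!
# Interior product and Cartan's formula for a pinned de Rham differential (seat 79)

`R → A` commutative rings, `M` an `A`-module, `δ : Derivation R A M`, and a family
`d q : ⋀^q M → ⋀^(q+1) M` of `R`-linear maps which satisfies the de Rham rule on generators
`b₀ • e₁ ∧ ⋯ ∧ e_q` whose factors lie in a set `G` of "closed generators"
(`G = range δ` for `DeRham.IsRule`, `G = range (ι ∘ δ) ∪ range dl` for `LogDiff.IsLogRule`).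

* `contr φ q : ⋀^(q+1) M →ₗ[A] ⋀^q M`, the interior product with a functional `φ : M →ₗ[A] A`;
* `lie d φ q : ⋀^q M →ₗ[R] ⋀^q M`, the Lie derivative `d ∘ i_φ + i_φ ∘ d` (`i_φ ∘ d` in degree `0`);
* `lie_gen`: on a generator, `L (b • e₁ ∧ ⋯ ∧ e_q) = φ (δ b) • e₁ ∧ ⋯ ∧ e_q + b • Σ_k e₁ ∧ ⋯ ∧ δ (φ e_k) ∧ ⋯ ∧ e_q`;
* `lie_gen_of_eigen`: if `δ (φ (e k)) = c k • e k` then `L (b • e) = (φ (δ b) + b * Σ c k) • e`;
* `d_comp_lie`: `d ∘ L = L ∘ d`;  `lie_mem_coboundaries`: `L` maps closed forms to exact forms.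
-/

set_option autoImplicit false
universe v u

open exteriorPower

namespace Groth.Agent.Lib.Seat79.Cartan

variable {R : Type v} {A M : Type u} [CommRing R] [CommRing A] [Algebra R A]
  [AddCommGroup M] [Module A M] [Module R M] [IsScalarTower R A M]

section Contr

/-- The interior product with the functional `φ`. -/
noncomputable def contr (φ : M →ₗ[A] A) (q : ℕ) : ↥(⋀[A]^(q + 1) M) →ₗ[A] ↥(⋀[A]^q M) :=
  exteriorPower.alternatingMapLinearEquiv
    (AlternatingMap.alternatizeUncurryFin (φ.smulRight (ιMulti A q)))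

theorem contr_ιMulti (φ : M →ₗ[A] A) (q : ℕ) (v : Fin (q + 1) → M) :
    contr φ q (ιMulti A (q + 1) v) =
      ∑ i : Fin (q + 1), (-1 : ℤ) ^ (i : ℕ) • (φ (v i) • ιMulti A q (i.removeNth v)) := by
  unfold contr
  rw [exteriorPower.alternatingMapLinearEquiv_apply_ιMulti,
    AlternatingMap.alternatizeUncurryFin_apply]
  rfl

omit [AddCommGroup M] in
theorem removeNth_succ_cons {q : ℕ} (i : Fin (q + 1)) (x : M) (e : Fin (q + 1) → M) :
    (i.succ).removeNth (Fin.cons x e : Fin (q + 2) → M) = Fin.cons x (i.removeNth e) := by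
  funext j
  refine Fin.cases ?_ (fun j' => ?_) j
  · rw [Fin.removeNth_apply, Fin.succ_succAbove_zero, Fin.cons_zero, Fin.cons_zero]
  · rw [Fin.removeNth_apply, Fin.succ_succAbove_succ, Fin.cons_succ, Fin.cons_succ,
      Fin.removeNth_apply]

/-- Interior product of `x ∧ e₁ ∧ ⋯ ∧ e_{q+1}`. -/
theorem contr_cons_succ (φ : M →ₗ[A] A) (q : ℕ) (x : M) (e : Fin (q + 1) → M) :
    contr φ (q + 1) (ιMulti A (q + 2) (Fin.cons x e)) =
      φ x • ιMulti A (q + 1) e -
        ∑ i : Fin (q + 1), (-1 : ℤ) ^ (i : ℕ) •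
          (φ (e i) • ιMulti A (q + 1) (Fin.cons x (i.removeNth e))) := by
  rw [contr_ιMulti, Fin.sum_univ_succ]
  have h0 : (0 : Fin (q + 2)).removeNth (Fin.cons x e : Fin (q + 2) → M) = e := by
    rw [Fin.removeNth_zero, Fin.tail_cons]
  rw [h0, Fin.cons_zero, Fin.val_zero, pow_zero, one_smul, sub_eq_add_neg, ← Finset.sum_neg_distrib]
  congr 1
  apply Finset.sum_congr rfl
  intro i _
  rw [Fin.cons_succ, removeNth_succ_cons, Fin.val_succ, pow_succ, mul_neg, mul_one, neg_smul]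

/-- Interior product of a single vector (degree one). -/
theorem contr_cons_zero (φ : M →ₗ[A] A) (x : M) (e : Fin 0 → M) :
    contr φ 0 (ιMulti A 1 (Fin.cons x e)) = φ x • ιMulti A 0 e := by
  rw [contr_ιMulti, Fin.sum_univ_succ]
  have h0 : (0 : Fin 1).removeNth (Fin.cons x e : Fin 1 → M) = e := by
    rw [Fin.removeNth_zero, Fin.tail_cons]
  rw [h0, Fin.cons_zero, Fin.val_zero, pow_zero, one_smul]
  simp

theorem ιMulti_cons_add (q : ℕ) (x y : M) (e : Fin q → M) :
    ιMulti A (q + 1) (Fin.cons (x + y) e) =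
      ιMulti A (q + 1) (Fin.cons x e) + ιMulti A (q + 1) (Fin.cons y e) := by
  have h : (Fin.cons (x + y) e : Fin (q + 1) → M) =
      Function.update (Fin.cons x e : Fin (q + 1) → M) 0 (x + y) :=
    (Fin.update_cons_zero (α := fun _ => M) x e (x + y)).symm
  have hx : Function.update (Fin.cons x e : Fin (q + 1) → M) 0 x = Fin.cons x e :=
    Fin.update_cons_zero (α := fun _ => M) x e x
  have hy : Function.update (Fin.cons x e : Fin (q + 1) → M) 0 y = Fin.cons y e :=
    Fin.update_cons_zero (α := fun _ => M) x e y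
  rw [h, AlternatingMap.map_update_add, hx, hy]

theorem ιMulti_cons_smul (q : ℕ) (c : A) (x : M) (e : Fin q → M) :
    ιMulti A (q + 1) (Fin.cons (c • x) e) = c • ιMulti A (q + 1) (Fin.cons x e) := by
  have h : (Fin.cons (c • x) e : Fin (q + 1) → M) =
      Function.update (Fin.cons x e : Fin (q + 1) → M) 0 (c • x) :=
    (Fin.update_cons_zero (α := fun _ => M) x e (c • x)).symm
  have hx : Function.update (Fin.cons x e : Fin (q + 1) → M) 0 x = Fin.cons x e :=
    Fin.update_cons_zero (α := fun _ => M) x e x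
  rw [h, AlternatingMap.map_update_smul, hx]

theorem ιMulti_cons_sum {ι' : Type*} (s : Finset ι') (q : ℕ) (c : ι' → A) (x : ι' → M)
    (e : Fin q → M) :
    ιMulti A (q + 1) (Fin.cons (∑ j ∈ s, c j • x j) e) =
      ∑ j ∈ s, c j • ιMulti A (q + 1) (Fin.cons (x j) e) := by
  classical
  induction s using Finset.induction_on with
  | empty =>
    rw [Finset.sum_empty, Finset.sum_empty]
    exact (ιMulti A (q + 1)).map_coord_zero (0 : Fin (q + 1)) (by simp)
  | insert a s ha ih =>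
    rw [Finset.sum_insert ha, Finset.sum_insert ha, ιMulti_cons_add, ιMulti_cons_smul, ih]

/-- Moving the first vector to the `i`-th place. -/
theorem neg_one_pow_smul_ιMulti_cons (q : ℕ) (i : Fin (q + 1)) (y : M) (e : Fin (q + 1) → M) :
    (-1 : ℤ) ^ (i : ℕ) • ιMulti A (q + 1) (Fin.cons y (i.removeNth e)) =
      ιMulti A (q + 1) (Function.update e i y) := by
  have h := AlternatingMap.map_insertNth (ιMulti A (q + 1)) i y (i.removeNth e)
  rw [Fin.insertNth_removeNth] at h
  rw [h]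
  rfl

end Contr

section Lie

variable (d : ∀ q : ℕ, ↥(⋀[A]^q M) →ₗ[R] ↥(⋀[A]^(q + 1) M))

/-- The Lie derivative `d ∘ i_φ + i_φ ∘ d` along (the vector field dual to) `φ`. -/
noncomputable def lie (φ : M →ₗ[A] A) : (q : ℕ) → ↥(⋀[A]^q M) →ₗ[R] ↥(⋀[A]^q M)
  | 0 => ((contr φ 0).restrictScalars R) ∘ₗ d 0
  | q + 1 => d q ∘ₗ ((contr φ q).restrictScalars R) + ((contr φ (q + 1)).restrictScalars R) ∘ₗ d (q + 1)

theorem lie_zero_apply (φ : M →ₗ[A] A) (η : ↥(⋀[A]^0 M)) :
    lie d φ 0 η = contr φ 0 (d 0 η) := rfl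

theorem lie_succ_apply (φ : M →ₗ[A] A) (q : ℕ) (η : ↥(⋀[A]^(q + 1) M)) :
    lie d φ (q + 1) η = d q (contr φ q η) + contr φ (q + 1) (d (q + 1) η) := rfl

/-- `d ∘ L = L ∘ d` when `d ∘ d = 0`. -/
theorem d_comp_lie (hdd : ∀ q : ℕ, d (q + 1) ∘ₗ d q = 0) (φ : M →ₗ[A] A) (q : ℕ)
    (η : ↥(⋀[A]^q M)) : d q (lie d φ q η) = lie d φ (q + 1) (d q η) := by
  have hdd' : ∀ (q : ℕ) (x : ↥(⋀[A]^q M)), d (q + 1) (d q x) = 0 := fun q x => by
    have := LinearMap.congr_fun (hdd q) x
    simpa using this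
  cases q with
  | zero =>
    rw [lie_zero_apply, lie_succ_apply, hdd', map_zero, add_zero]
  | succ q =>
    rw [lie_succ_apply, lie_succ_apply, map_add, hdd', zero_add, hdd', map_zero, add_zero]

/-- The Lie derivative of a closed form is exact. -/
theorem lie_mem_coboundaries (φ : M →ₗ[A] A) (q : ℕ) (η : ↥(⋀[A]^q M))
    (hη : η ∈ DeRham.cocycles d q) : lie d φ q η ∈ DeRham.coboundaries d q := by
  have h0 : d q η = 0 := hη
  cases q with
  | zero =>
    rw [lie_zero_apply, h0, map_zero]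
    exact Submodule.zero_mem _
  | succ q =>
    rw [lie_succ_apply, h0, map_zero, add_zero]
    exact LinearMap.mem_range_self _ _

/-- The Lie derivative preserves closed forms. -/
theorem lie_mem_cocycles (hdd : ∀ q : ℕ, d (q + 1) ∘ₗ d q = 0) (φ : M →ₗ[A] A) (q : ℕ)
    (η : ↥(⋀[A]^q M)) (hη : η ∈ DeRham.cocycles d q) : lie d φ q η ∈ DeRham.cocycles d q := by
  have h0 : d q η = 0 := hη
  change d q (lie d φ q η) = 0
  rw [d_comp_lie d hdd, h0, map_zero]

theorem coboundaries_le_cocycles (hdd : ∀ q : ℕ, d (q + 1) ∘ₗ d q = 0) (q : ℕ) :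
    DeRham.coboundaries d q ≤ DeRham.cocycles d q := by
  cases q with
  | zero => exact bot_le
  | succ q =>
    rintro _ ⟨x, rfl⟩
    change d (q + 1) (d q x) = 0
    have := LinearMap.congr_fun (hdd q) x
    simpa using this

variable (δ : Derivation R A M) (G : Set M)
  (hrule : ∀ (q : ℕ) (b₀ : A) (e : Fin q → M), (∀ k, e k ∈ G) →
    d q (b₀ • ιMulti A q e) = ιMulti A (q + 1) (Fin.cons (δ b₀) e))

include hrule

/-- Cartan's formula on a generator, degree zero. -/
theorem lie_gen_zero (φ : M →ₗ[A] A) (b : A) (e : Fin 0 → M) :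
    lie d φ 0 (b • ιMulti A 0 e) = φ (δ b) • ιMulti A 0 e := by
  rw [lie_zero_apply, hrule 0 b e (fun k => k.elim0), contr_cons_zero]

/-- Cartan's formula on a generator, positive degree. -/
theorem lie_gen_succ (φ : M →ₗ[A] A) (q : ℕ) (b : A) (e : Fin (q + 1) → M) (he : ∀ k, e k ∈ G) :
    lie d φ (q + 1) (b • ιMulti A (q + 1) e) =
      φ (δ b) • ιMulti A (q + 1) e +
        b • ∑ k : Fin (q + 1), ιMulti A (q + 1) (Function.update e k (δ (φ (e k)))) := by
  have hrem : ∀ (i : Fin (q + 1)) (k : Fin q), (i.removeNth e) k ∈ G := fun i k => he _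
  -- first term
  have h1 : d q (contr φ q (b • ιMulti A (q + 1) e)) =
      ∑ i : Fin (q + 1), (-1 : ℤ) ^ (i : ℕ) •
        (b • ιMulti A (q + 1) (Fin.cons (δ (φ (e i))) (i.removeNth e)) +
          φ (e i) • ιMulti A (q + 1) (Fin.cons (δ b) (i.removeNth e))) := by
    rw [map_smul, contr_ιMulti, Finset.smul_sum, map_sum]
    apply Finset.sum_congr rfl
    intro i _
    rw [smul_comm b, map_zsmul, smul_smul, hrule q _ _ (hrem i), Derivation.leibniz,
      ιMulti_cons_add, ιMulti_cons_smul, ιMulti_cons_smul]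
  -- second term
  have h2 : contr φ (q + 1) (d (q + 1) (b • ιMulti A (q + 1) e)) =
      φ (δ b) • ιMulti A (q + 1) e -
        ∑ i : Fin (q + 1), (-1 : ℤ) ^ (i : ℕ) •
          (φ (e i) • ιMulti A (q + 1) (Fin.cons (δ b) (i.removeNth e))) := by
    rw [hrule (q + 1) b e he, contr_cons_succ]
  rw [lie_succ_apply, h1, h2]
  simp only [smul_add, Finset.sum_add_distrib]
  have h3 : ∑ i : Fin (q + 1), (-1 : ℤ) ^ (i : ℕ) •
      (b • ιMulti A (q + 1) (Fin.cons (δ (φ (e i))) (i.removeNth e))) =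
      b • ∑ k : Fin (q + 1), ιMulti A (q + 1) (Function.update e k (δ (φ (e k)))) := by
    rw [Finset.smul_sum]
    apply Finset.sum_congr rfl
    intro i _
    rw [smul_comm, neg_one_pow_smul_ιMulti_cons]
  rw [h3]
  abel

/-- Cartan's formula when the `e k` are eigenvectors: `δ (φ (e k)) = c k • e k`. -/
theorem lie_gen_of_eigen (φ : M →ₗ[A] A) (q : ℕ) (b : A) (e : Fin q → M) (he : ∀ k, e k ∈ G)
    (c : Fin q → A) (hc : ∀ k, δ (φ (e k)) = c k • e k) :
    lie d φ q (b • ιMulti A q e) = (φ (δ b) + b * ∑ k, c k) • ιMulti A q e := by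
  cases q with
  | zero =>
    rw [lie_gen_zero d δ G hrule, Finset.univ_eq_empty, Finset.sum_empty, mul_zero, add_zero]
  | succ q =>
    rw [lie_gen_succ d δ G hrule φ q b e he, add_smul, mul_smul, Finset.sum_smul]
    congr 2
    apply Finset.sum_congr rfl
    intro k _
    rw [hc k, AlternatingMap.map_update_smul, Function.update_eq_self]

end Lie

end Groth.Agent.Lib.Seat79.Cartan
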