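import Groth.Agent.Lib.Seat79Bell

/-! # Deligne's identity `(g D)^p = g^p D^p + (g δ)^{p-1}(g) D` in characteristic `p`, and the
`p`-th iterate of a derivation (seat 79) -/

set_option autoImplicit false
set_option linter.unusedSectionVars false
universe u v

namespace Groth.Agent.Lib.Seat79.Deligne

open Finset Groth.Agent.Lib.Seat79.Bell

section NormalForm

variable {B : Type u} [CommRing B] {R : Type v} [Ring R] (φ : B →+* R) (D : R) (δ : B →+ B)
  (hδ : ∀ a b, δ (a * b) = δ a * b + a * δ b)
  (hD : ∀ b, D * φ b = φ b * D + φ (δ b))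
  (g : B)

/-- The additive map `b ↦ g * δ b`. -/
def gd : B →+ B := (AddMonoidHom.mulLeft g).comp δ

@[simp] theorem gd_apply (b : B) : gd δ g b = g * δ b := rfl

include hδ in
theorem gd_leibniz (a b : B) : gd δ g (a * b) = gd δ g a * b + a * gd δ g b := by
  simp only [gd_apply, hδ]
  ring

include hD in
/-- Normal form of `(φ g * D)^n`. -/
theorem normalForm (n : ℕ) :
    (φ g * D) ^ n = ∑ k ∈ range (n + 1), φ (d (gd δ g) g n (k + 1)) * D ^ k := by
  induction n with
  | zero => simp
  | succ n ih =>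
    rw [pow_succ', ih, mul_sum]
    have h1 : ∀ k ∈ range (n + 1), φ g * D * (φ (d (gd δ g) g n (k + 1)) * D ^ k) =
        φ (g * d (gd δ g) g n (k + 1)) * D ^ (k + 1) +
          φ (gd δ g (d (gd δ g) g n (k + 1))) * D ^ k := by
      intro k _
      rw [mul_assoc, ← mul_assoc D, hD, gd_apply, map_mul, map_mul, pow_succ']
      noncomm_ring
    rw [sum_congr rfl h1, sum_add_distrib]
    -- target
    have h2 : ∑ k ∈ range (n + 1 + 1), φ (d (gd δ g) g (n + 1) (k + 1)) * D ^ k =
        ∑ k ∈ range (n + 1 + 1), φ (gd δ g (d (gd δ g) g n (k + 1))) * D ^ k +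
        ∑ k ∈ range (n + 1 + 1), φ (g * d (gd δ g) g n k) * D ^ k := by
      rw [← sum_add_distrib]
      apply sum_congr rfl
      intro k _
      rw [d_succ_succ, map_add, add_mul]
    have h3 : ∑ k ∈ range (n + 1 + 1), φ (gd δ g (d (gd δ g) g n (k + 1))) * D ^ k =
        ∑ k ∈ range (n + 1), φ (gd δ g (d (gd δ g) g n (k + 1))) * D ^ k := by
      rw [sum_range_succ, d_eq_zero_of_lt (gd δ g) g n (n + 1 + 1) (by omega), map_zero, map_zero,
        zero_mul, add_zero]
    have h4 : ∑ k ∈ range (n + 1 + 1), φ (g * d (gd δ g) g n k) * D ^ k =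
        ∑ k ∈ range (n + 1), φ (g * d (gd δ g) g n (k + 1)) * D ^ (k + 1) := by
      rw [sum_range_succ', d_col_zero, mul_zero, map_zero, zero_mul, add_zero]
    rw [h2, h3, h4, add_comm]

variable (p : ℕ) [hp : Fact p.Prime] (hpB : (p : B) = 0)

include hδ hD hpB in
/-- Deligne's identity. -/
theorem deligne :
    (φ g * D) ^ p = φ (g ^ p) * D ^ p + φ ((gd δ g)^[p - 1] g) * D := by
  have hE := gd_leibniz δ hδ g
  have hp2 : 2 ≤ p := hp.out.two_le
  rw [normalForm φ D δ hD g p]
  rw [sum_eq_add (s := range (p + 1)) (f := fun k => φ (d (gd δ g) g p (k + 1)) * D ^ k) p 1 (by omega)]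
  · rw [d_diag, d_p_two (gd δ g) g hE p hpB, pow_one]
  · intro k hk hk2
    have hk' : k < p + 1 := mem_range.1 hk
    by_cases hk0 : k = 0
    · subst hk0
      rw [d_p_one (gd δ g) g hE p hpB, map_zero, zero_mul]
    · rw [d_p_mid (gd δ g) g hE p hpB (k := k) (by omega) (by omega), map_zero, zero_mul]
  · intro h
    exact absurd (mem_range.2 (by omega)) h
  · intro h
    exact absurd (mem_range.2 (by omega)) h

end NormalForm

section IterLeibniz

variable {B : Type u} [CommRing B] (δ : B →+ B)
  (hδ : ∀ a b, δ (a * b) = δ a * b + a * δ b)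

include hδ in
/-- General Leibniz rule for the iterates of a derivation. -/
theorem iterate_mul (n : ℕ) : ∀ a b : B, δ^[n] (a * b) =
    ∑ k ∈ range (n + 1), (Nat.choose n k : B) * (δ^[k] a * δ^[n - k] b) := by
  induction n with
  | zero => intro a b; simp
  | succ n ih =>
    intro a b
    rw [Function.iterate_succ_apply, hδ, iterate_map_add, ih, ih]
    -- first sum: terms δ^[k] (δ a) * δ^[n-k] b ; second: δ^[k] a * δ^[n-k] (δ b)
    have hR : ∑ k ∈ range (n + 1 + 1), (Nat.choose (n + 1) k : B) * (δ^[k] a * δ^[n + 1 - k] b) =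
        δ^[0] a * δ^[n + 1] b +
          ∑ k ∈ range (n + 1), ((Nat.choose n k : B) + (Nat.choose n (k + 1) : B)) *
            (δ^[k + 1] a * δ^[n - k] b) := by
      rw [sum_range_succ']
      rw [Nat.choose_zero_right, Nat.cast_one, one_mul, Nat.sub_zero, add_comm]
      congr 1
      apply sum_congr rfl
      intro k _
      rw [Nat.choose_succ_succ, Nat.cast_add, Nat.add_sub_add_right]
    rw [hR]
    simp only [add_mul, sum_add_distrib]
    have h1 : ∑ k ∈ range (n + 1), (Nat.choose n k : B) * (δ^[k] (δ a) * δ^[n - k] b) =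
        ∑ k ∈ range (n + 1), (Nat.choose n k : B) * (δ^[k + 1] a * δ^[n - k] b) := by
      apply sum_congr rfl
      intro k _
      rw [Function.iterate_succ_apply]
    have h2 : ∑ k ∈ range (n + 1), (Nat.choose n k : B) * (δ^[k] a * δ^[n - k] (δ b)) =
        δ^[0] a * δ^[n + 1] b +
          ∑ k ∈ range (n + 1), (Nat.choose n (k + 1) : B) * (δ^[k + 1] a * δ^[n - k] b) := by
      rw [sum_range_succ' (fun k => (Nat.choose n k : B) * (δ^[k] a * δ^[n - k] (δ b))),
        sum_range_succ (fun k => (Nat.choose n (k + 1) : B) * (δ^[k + 1] a * δ^[n - k] b))]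
      rw [Nat.choose_succ_self, Nat.cast_zero, zero_mul, add_zero, Nat.choose_zero_right, Nat.cast_one,
        one_mul, Nat.sub_zero, ← Function.iterate_succ_apply, add_comm]
      congr 1
      apply sum_congr rfl
      intro k hk
      have hk' : k < n := mem_range.1 hk
      rw [← Function.iterate_succ_apply, show (n - (k + 1)).succ = n - k by omega]
    rw [h1, h2]
    ring

variable (p : ℕ) [hp : Fact p.Prime] (hpB : (p : B) = 0)

include hδ hpB in
/-- In characteristic `p` the `p`-th iterate of a derivation satisfies the Leibniz rule. -/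
theorem iterate_p_mul (a b : B) : δ^[p] (a * b) = δ^[p] a * b + a * δ^[p] b := by
  have hp2 : 2 ≤ p := hp.out.two_le
  rw [iterate_mul δ hδ p a b]
  rw [sum_eq_add (s := range (p + 1))
    (f := fun k => (Nat.choose p k : B) * (δ^[k] a * δ^[p - k] b)) p 0 (by omega)]
  · simp
  · intro k hk hk2
    have hk' : k < p + 1 := mem_range.1 hk
    have hdvd : p ∣ Nat.choose p k := hp.out.dvd_choose_self (by omega) (by omega)
    rw [natCast_eq_zero_of_dvd p hpB hdvd, zero_mul]
  · intro h
    exact absurd (mem_range.2 (by omega)) h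
  · intro h
    exact absurd (mem_range.2 (by omega)) h

end IterLeibniz

end Groth.Agent.Lib.Seat79.Deligne
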