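import Groth.Agent.Lib.Seat79ProjQuot
import Mathlib.RingTheory.WittVector.Frobenius
import Mathlib.RingTheory.WittVector.Identities
import Mathlib.RingTheory.WittVector.Domain
import Mathlib.RingTheory.WittVector.Teichmuller
import Mathlib.FieldTheory.Perfect
import Mathlib.Algebra.Module.Torsion.Basic

/-!
# `M / VM` is projective for Dieudonné modules over a perfect ring (seat 79)

`k` is a perfect ring of characteristic `p`, `W = W(k)`.

* `WI 𝔞`: the ideal of Witt vectors with all coefficients in `𝔞`; for a prime `𝔞` it is stable under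
  `σ` and `σ⁻¹` and `W / WI 𝔞` has no `p`-torsion.
* `V_mem_of_mem`: the key step: if `V m ∈ 𝔐 M` with `𝔐 = WI 𝔞 + pW`, then `V m ∈ WI 𝔞 • VM + pM`.
* `projective_quot_V`: `(M/pM)/(image of V)` is projective over `W/p`.
-/

set_option autoImplicit false
universe u v

namespace Groth.Agent.Lib.Seat79.DieuProj

open WittVector

section Witt

variable {p : ℕ} [Fact p.Prime] {k : Type u} [CommRing k] [CharP k p] [PerfectRing k p]

/-- The ideal of Witt vectors all of whose coefficients lie in `𝔞`. -/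
noncomputable def WI (p : ℕ) [Fact p.Prime] {k : Type u} [CommRing k] (𝔞 : Ideal k) :
    Ideal (WittVector p k) :=
  RingHom.ker (WittVector.map (Ideal.Quotient.mk 𝔞) : WittVector p k →+* WittVector p (k ⧸ 𝔞))

omit [CharP k p] [PerfectRing k p] in
theorem mem_WI_iff (𝔞 : Ideal k) (w : WittVector p k) : w ∈ WI p 𝔞 ↔ ∀ i, w.coeff i ∈ 𝔞 := by
  unfold WI
  rw [RingHom.mem_ker, WittVector.ext_iff]
  refine forall_congr' fun i => ?_
  rw [WittVector.map_coeff, WittVector.zero_coeff, Ideal.Quotient.eq_zero_iff_mem]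

omit [PerfectRing k p] in
theorem frobenius_mem_WI (𝔞 : Ideal k) {w : WittVector p k} (hw : w ∈ WI p 𝔞) :
    frobenius w ∈ WI p 𝔞 := by
  rw [mem_WI_iff] at hw ⊢
  intro i
  rw [coeff_frobenius_charP]
  exact Ideal.pow_mem_of_mem _ (hw i) _ (Fact.out : p.Prime).pos

theorem frobeniusEquiv_symm_mem_WI (𝔞 : Ideal k) [𝔞.IsPrime] {w : WittVector p k}
    (hw : w ∈ WI p 𝔞) : (frobeniusEquiv p k).symm w ∈ WI p 𝔞 := by
  rw [mem_WI_iff] at hw ⊢
  intro i
  have h : frobenius ((frobeniusEquiv p k).symm w) = w := (frobeniusEquiv p k).apply_symm_apply w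
  have h2 := hw i
  rw [← h, coeff_frobenius_charP] at h2
  exact Ideal.IsPrime.mem_of_pow_mem inferInstance _ h2

omit [PerfectRing k p] in
theorem mem_WI_of_p_mul_mem (𝔞 : Ideal k) [𝔞.IsPrime] {w : WittVector p k}
    (hw : (p : WittVector p k) * w ∈ WI p 𝔞) : w ∈ WI p 𝔞 := by
  rw [mem_WI_iff] at hw ⊢
  intro i
  have h := hw (i + 1)
  rw [mul_comm, mul_charP_coeff_succ] at h
  exact Ideal.IsPrime.mem_of_pow_mem inferInstance _ h

theorem mem_span_p_iff (w : WittVector p k) :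
    w ∈ Ideal.span {(p : WittVector p k)} ↔ w.coeff 0 = 0 := by
  constructor
  · intro h
    obtain ⟨c, rfl⟩ := Ideal.mem_span_singleton'.1 h
    exact mul_charP_coeff_zero c
  · intro h
    have h1 : verschiebung (w.shift 1) = w := by
      have := verschiebung_shift w 0 (fun i hi => by
        have : i = 0 := by omega
        rw [this, h])
      rw [this]
      ext i
      rw [shift_coeff, zero_add]
    have h2 : w = (frobeniusEquiv p k).symm (w.shift 1) * p := by
      rw [← verschiebung_frobenius]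
      have : frobenius ((frobeniusEquiv p k).symm (w.shift 1)) = w.shift 1 :=
        (frobeniusEquiv p k).apply_symm_apply _
      rw [this, h1]
    rw [h2]
    exact Ideal.mul_mem_left _ _ (Ideal.mem_span_singleton_self _)

omit [CharP k p] [PerfectRing k p] in
theorem teichmuller_mem_WI (𝔞 : Ideal k) {a : k} (ha : a ∈ 𝔞) : teichmuller p a ∈ WI p 𝔞 := by
  rw [mem_WI_iff]
  intro i
  rcases Nat.eq_zero_or_pos i with rfl | hi
  · rw [teichmuller_coeff_zero]; exact ha
  · rw [teichmuller_coeff_pos p a i hi]; exact 𝔞.zero_mem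

/-- The prime of `k` under a prime of `W` containing `p`. -/
noncomputable def under (𝔐 : Ideal (WittVector p k)) : Ideal k :=
  𝔐.map (constantCoeff : WittVector p k →+* k)

omit [CharP k p] [PerfectRing k p] in
theorem constantCoeff_surjective : Function.Surjective (constantCoeff : WittVector p k →+* k) :=
  fun a => ⟨teichmuller p a, teichmuller_coeff_zero p a⟩

theorem ker_constantCoeff :
    RingHom.ker (constantCoeff : WittVector p k →+* k) = Ideal.span {(p : WittVector p k)} := by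
  ext w
  rw [RingHom.mem_ker, mem_span_p_iff]
  rfl

theorem under_isPrime (𝔐 : Ideal (WittVector p k)) [𝔐.IsPrime]
    (hp : Ideal.span {(p : WittVector p k)} ≤ 𝔐) : (under 𝔐).IsPrime :=
  Ideal.map_isPrime_of_surjective constantCoeff_surjective (by rw [ker_constantCoeff]; exact hp)

theorem WI_under_le (𝔐 : Ideal (WittVector p k))
    (hp : Ideal.span {(p : WittVector p k)} ≤ 𝔐) : WI p (under 𝔐) ≤ 𝔐 := by
  intro w hw
  rw [mem_WI_iff] at hw
  have h0 := hw 0
  unfold under at h0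
  rw [Ideal.mem_map_iff_of_surjective _ constantCoeff_surjective] at h0
  obtain ⟨v, hv, hv0⟩ := h0
  have h1 : w - v ∈ Ideal.span {(p : WittVector p k)} := by
    rw [← ker_constantCoeff, RingHom.mem_ker, map_sub, hv0]
    exact sub_self _
  have h2 : w = (w - v) + v := by ring
  rw [h2]
  exact 𝔐.add_mem (hp h1) hv

theorem le_WI_under_sup (𝔐 : Ideal (WittVector p k)) :
    𝔐 ≤ WI p (under 𝔐) ⊔ Ideal.span {(p : WittVector p k)} := by
  intro w hw
  have h0 : w.coeff 0 ∈ under 𝔐 := Ideal.mem_map_of_mem constantCoeff hw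
  have h1 : w - teichmuller p (w.coeff 0) ∈ Ideal.span {(p : WittVector p k)} := by
    rw [← ker_constantCoeff, RingHom.mem_ker, map_sub]
    change w.coeff 0 - (teichmuller p (w.coeff 0)).coeff 0 = 0
    rw [teichmuller_coeff_zero, sub_self]
  have h2 : w = teichmuller p (w.coeff 0) + (w - teichmuller p (w.coeff 0)) := by ring
  rw [h2]
  exact Submodule.add_mem_sup (teichmuller_mem_WI _ h0) h1

end Witt

section Sec

variable {W : Type u} [CommRing W] {M : Type v} [AddCommGroup M] [Module W M]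

/-- A splitting of the canonical surjection onto a projective module. -/
noncomputable def sec (W : Type u) [CommRing W] (X : Type v) [AddCommGroup X] [Module W X]
    [Module.Projective W X] : X →ₗ[W] X →₀ W :=
  ((Module.projective_def' (R := W) (P := X)).1 inferInstance).choose

theorem sec_spec [Module.Projective W M] (x : M) :
    Finsupp.linearCombination W (id : M → M) (sec W M x) = x :=
  LinearMap.congr_fun ((Module.projective_def' (R := W) (P := M)).1 inferInstance).choose_spec x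

theorem sec_mem [Module.Projective W M] (J : Ideal W) {x : M}
    (hx : x ∈ J • (⊤ : Submodule W M)) (m : M) : sec W M x m ∈ J := by
  refine Submodule.smul_induction_on hx (fun i hi b _ => ?_) (fun x y hx hy => ?_)
  · rw [map_smul, Finsupp.smul_apply, smul_eq_mul]
    exact Ideal.mul_mem_right _ _ hi
  · rw [map_add, Finsupp.add_apply]
    exact Ideal.add_mem _ hx hy

theorem mem_of_sec_mem [Module.Projective W M] (J : Ideal W) {x : M}
    (hx : ∀ m, sec W M x m ∈ J) : x ∈ J • (⊤ : Submodule W M) := by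
  rw [← sec_spec (W := W) x, Finsupp.linearCombination_apply, Finsupp.sum]
  exact Submodule.sum_mem _ fun m _ => Submodule.smul_mem_smul (hx m) Submodule.mem_top

end Sec

section Mod

variable {p : ℕ} [Fact p.Prime] {k : Type u} [CommRing k] [CharP k p] [PerfectRing k p]
  {M : Type v} [AddCommGroup M] [Module (WittVector p k) M]
  (F : M →ₛₗ[(WittVector.frobenius : WittVector p k →+* WittVector p k)] M)
  (V : M →ₛₗ[((WittVector.frobeniusEquiv p k).symm : WittVector p k →+* WittVector p k)] M)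

local notation "𝕎" => WittVector p k
local notation "pI" => Ideal.span {(p : WittVector p k)}

omit [CharP k p] [PerfectRing k p] in
theorem mem_p_smul_top_iff (x : M) :
    x ∈ pI • (⊤ : Submodule 𝕎 M) ↔ ∃ y : M, x = (p : 𝕎) • y := by
  rw [Submodule.ideal_span_singleton_smul, Submodule.mem_smul_pointwise_iff_exists]
  constructor
  · rintro ⟨y, -, rfl⟩; exact ⟨y, rfl⟩
  · rintro ⟨y, rfl⟩; exact ⟨y, Submodule.mem_top, rfl⟩

omit [PerfectRing k p] in
/-- `W / WI 𝔞` has no `p`-torsion, for projective modules. -/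
theorem mem_WI_smul_of_p_smul_mem [Module.Projective 𝕎 M] (𝔞 : Ideal k) [𝔞.IsPrime] {y : M}
    (hy : (p : 𝕎) • y ∈ WI p 𝔞 • (⊤ : Submodule 𝕎 M)) : y ∈ WI p 𝔞 • (⊤ : Submodule 𝕎 M) := by
  refine mem_of_sec_mem _ fun m => ?_
  have h := sec_mem _ hy m
  rw [map_smul, Finsupp.smul_apply, smul_eq_mul] at h
  exact mem_WI_of_p_mul_mem 𝔞 h

omit [PerfectRing k p] in
theorem F_mem (𝔞 : Ideal k) {x : M} (hx : x ∈ WI p 𝔞 • (⊤ : Submodule 𝕎 M)) :
    F x ∈ WI p 𝔞 • (⊤ : Submodule 𝕎 M) := by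
  refine Submodule.smul_induction_on hx (fun w hw m _ => ?_) (fun x y hx hy => ?_)
  · rw [F.map_smulₛₗ]
    exact Submodule.smul_mem_smul (frobenius_mem_WI 𝔞 hw) Submodule.mem_top
  · rw [map_add]
    exact Submodule.add_mem _ hx hy

/-- The image of `V` as a `W`-submodule. -/
noncomputable def VM : Submodule 𝕎 M := Submodule.span 𝕎 (Set.range V)

theorem V_mem (𝔞 : Ideal k) [𝔞.IsPrime] {x : M} (hx : x ∈ WI p 𝔞 • (⊤ : Submodule 𝕎 M)) :
    V x ∈ WI p 𝔞 • VM V := by
  refine Submodule.smul_induction_on hx (fun w hw m _ => ?_) (fun x y hx hy => ?_)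
  · rw [V.map_smulₛₗ]
    exact Submodule.smul_mem_smul (frobeniusEquiv_symm_mem_WI 𝔞 hw)
      (Submodule.subset_span ⟨m, rfl⟩)
  · rw [map_add]
    exact Submodule.add_mem _ hx hy

/-- The key step. `hH` is the absence of `p`-torsion modulo `WI 𝔞`, up to `pM`. -/
theorem V_mem_of_mem (hFV : ∀ m : M, F (V m) = (p : 𝕎) • m) (hVF : ∀ m : M, V (F m) = (p : 𝕎) • m)
    (𝔞 : Ideal k) [𝔞.IsPrime]
    (hH : ∀ y : M, (p : 𝕎) • y ∈ WI p 𝔞 • (⊤ : Submodule 𝕎 M) →
      y ∈ WI p 𝔞 • (⊤ : Submodule 𝕎 M) ⊔ pI • (⊤ : Submodule 𝕎 M))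
    (m : M) (hm : V m ∈ (WI p 𝔞 ⊔ pI) • (⊤ : Submodule 𝕎 M)) :
    V m ∈ WI p 𝔞 • VM V ⊔ pI • (⊤ : Submodule 𝕎 M) := by
  have hVp : ∀ y : M, V ((p : 𝕎) • y) = (p : 𝕎) • V y := by
    intro y
    rw [map_smulₛₗ, map_natCast]
  rw [Submodule.sup_smul] at hm
  obtain ⟨a, ha, c, hc, hac⟩ := Submodule.mem_sup.1 hm
  obtain ⟨b, rfl⟩ := (mem_p_smul_top_iff c).1 hc
  -- `V (m - F b) = a`
  have h1 : V (m - F b) = a := by
    rw [map_sub, hVF, ← hac, add_sub_cancel_right]
  have h2 : (p : 𝕎) • (m - F b) ∈ WI p 𝔞 • (⊤ : Submodule 𝕎 M) := by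
    rw [← hFV, h1]
    exact F_mem F 𝔞 ha
  obtain ⟨c', hc', d, hd, hcd⟩ := Submodule.mem_sup.1 (hH _ h2)
  obtain ⟨d', rfl⟩ := (mem_p_smul_top_iff d).1 hd
  have h3 : m = F b + c' + (p : 𝕎) • d' := by
    rw [add_assoc, hcd]; abel
  rw [h3, map_add, map_add, hVF, hVp]
  have h4 : (p : 𝕎) • b + V c' + (p : 𝕎) • V d' = V c' + (p : 𝕎) • (b + V d') := by
    rw [smul_add]; abel
  rw [h4]
  exact Submodule.add_mem_sup (V_mem V 𝔞 hc')
    ((mem_p_smul_top_iff _).2 ⟨_, rfl⟩)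

/-- The image of `V` in `M / pM`, as in the statements. -/
noncomputable def UV : Submodule (𝕎 ⧸ pI) (M ⧸ pI • (⊤ : Submodule 𝕎 M)) :=
  Submodule.span _ (Set.range fun m : M => (pI • (⊤ : Submodule 𝕎 M)).mkQ (V m))

theorem mkQ_mem_UV_of_mem_VM {v : M} (hv : v ∈ VM V) :
    (pI • (⊤ : Submodule 𝕎 M)).mkQ v ∈ UV V := by
  unfold VM at hv
  induction hv using Submodule.span_induction with
  | mem x hx =>
    obtain ⟨m, rfl⟩ := hx
    exact Submodule.subset_span ⟨m, rfl⟩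
  | zero => rw [map_zero]; exact Submodule.zero_mem _
  | add x y _ _ hx hy => rw [map_add]; exact Submodule.add_mem _ hx hy
  | smul w x _ hx =>
    have h : (pI • (⊤ : Submodule 𝕎 M)).mkQ (w • x) =
        Ideal.Quotient.mk pI w • (pI • (⊤ : Submodule 𝕎 M)).mkQ x := rfl
    rw [h]
    exact Submodule.smul_mem _ _ hx

theorem exists_eq_mkQ_V {x : M ⧸ pI • (⊤ : Submodule 𝕎 M)} (hx : x ∈ UV V) :
    ∃ m : M, x = (pI • (⊤ : Submodule 𝕎 M)).mkQ (V m) := by
  unfold UV at hx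
  induction hx using Submodule.span_induction with
  | mem x hx =>
    obtain ⟨m, rfl⟩ := hx
    exact ⟨m, rfl⟩
  | zero => exact ⟨0, by rw [map_zero, map_zero]⟩
  | add x y _ _ hx hy =>
    obtain ⟨m₁, rfl⟩ := hx
    obtain ⟨m₂, rfl⟩ := hy
    exact ⟨m₁ + m₂, by rw [map_add, map_add]⟩
  | smul a x _ hx =>
    obtain ⟨m, rfl⟩ := hx
    obtain ⟨w, rfl⟩ := Ideal.Quotient.mk_surjective a
    refine ⟨(frobenius w) • m, ?_⟩
    rw [V.map_smulₛₗ]
    have h1 : ((frobeniusEquiv p k).symm : 𝕎 →+* 𝕎) (frobenius w) = w :=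
      (frobeniusEquiv p k).symm_apply_apply w
    rw [h1]
    rfl

omit [CharP k p] [PerfectRing k p] in
theorem exists_mem_of_mem_smul_top (𝔪 : Ideal (𝕎 ⧸ pI)) {x : M ⧸ pI • (⊤ : Submodule 𝕎 M)}
    (hx : x ∈ 𝔪 • (⊤ : Submodule (𝕎 ⧸ pI) (M ⧸ pI • (⊤ : Submodule 𝕎 M)))) :
    ∃ m' ∈ (𝔪.comap (Ideal.Quotient.mk pI)) • (⊤ : Submodule 𝕎 M),
      (pI • (⊤ : Submodule 𝕎 M)).mkQ m' = x := by
  refine Submodule.smul_induction_on hx (fun a ha n _ => ?_) (fun x y hx hy => ?_)
  · obtain ⟨w, rfl⟩ := Ideal.Quotient.mk_surjective a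
    obtain ⟨m, rfl⟩ := Submodule.mkQ_surjective _ n
    exact ⟨w • m, Submodule.smul_mem_smul (Ideal.mem_comap.2 ha) Submodule.mem_top, rfl⟩
  · obtain ⟨m₁, h₁, rfl⟩ := hx
    obtain ⟨m₂, h₂, rfl⟩ := hy
    exact ⟨m₁ + m₂, Submodule.add_mem _ h₁ h₂, map_add _ _ _⟩

theorem mkQ_mem_smul_UV (𝔪 : Ideal (𝕎 ⧸ pI)) (J : Ideal 𝕎)
    (hJ : J ≤ 𝔪.comap (Ideal.Quotient.mk pI)) {y : M} (hy : y ∈ J • VM V) :
    (pI • (⊤ : Submodule 𝕎 M)).mkQ y ∈ 𝔪 • UV V := by
  refine Submodule.smul_induction_on hy (fun w hw v hv => ?_) (fun x y hx hy => ?_)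
  · have h : (pI • (⊤ : Submodule 𝕎 M)).mkQ (w • v) =
        Ideal.Quotient.mk pI w • (pI • (⊤ : Submodule 𝕎 M)).mkQ v := rfl
    rw [h]
    exact Submodule.smul_mem_smul (Ideal.mem_comap.1 (hJ hw)) (mkQ_mem_UV_of_mem_VM V hv)
  · rw [map_add]
    exact Submodule.add_mem _ hx hy

theorem UV_fg [Module.Finite 𝕎 M] : (UV V).FG := by
  obtain ⟨s, hs⟩ := (Module.Finite.fg_top : (⊤ : Submodule 𝕎 M).FG)
  classical
  refine ⟨s.image fun m => (pI • (⊤ : Submodule 𝕎 M)).mkQ (V m), ?_⟩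
  apply le_antisymm
  · refine Submodule.span_mono ?_
    rintro _ hx
    rw [Finset.coe_image] at hx
    obtain ⟨m, -, rfl⟩ := hx
    exact ⟨m, rfl⟩
  · unfold UV
    rw [Submodule.span_le]
    rintro _ ⟨m, rfl⟩
    have hm : m ∈ Submodule.span 𝕎 (s : Set M) := by rw [hs]; exact Submodule.mem_top
    have key : ∀ m ∈ Submodule.span 𝕎 (s : Set M), (pI • (⊤ : Submodule 𝕎 M)).mkQ (V m) ∈
        Submodule.span (𝕎 ⧸ pI)
          ((s.image fun m => (pI • (⊤ : Submodule 𝕎 M)).mkQ (V m) : Finset _) : Set _) := by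
      intro m hm
      induction hm using Submodule.span_induction with
      | mem x hx =>
        exact Submodule.subset_span (Finset.mem_coe.2 (Finset.mem_image_of_mem _ hx))
      | zero => rw [map_zero, map_zero]; exact Submodule.zero_mem _
      | add x y _ _ hx hy => rw [map_add, map_add]; exact Submodule.add_mem _ hx hy
      | smul w x _ hx =>
        rw [V.map_smulₛₗ]
        have h : (pI • (⊤ : Submodule 𝕎 M)).mkQ
            ((((frobeniusEquiv p k).symm : 𝕎 →+* 𝕎) w) • V x) =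
            Ideal.Quotient.mk pI (((frobeniusEquiv p k).symm : 𝕎 →+* 𝕎) w) •
              (pI • (⊤ : Submodule 𝕎 M)).mkQ (V x) := rfl
        rw [h]
        exact Submodule.smul_mem _ _ hx
    exact key m hm

/-- `(M/pM)/(image of V)` is projective over `W/p`. -/
theorem projective_quot_V [Module.Finite 𝕎 M]
    (hproj : Module.Projective (𝕎 ⧸ pI) (M ⧸ pI • (⊤ : Submodule 𝕎 M)))
    (hFV : ∀ m : M, F (V m) = (p : 𝕎) • m) (hVF : ∀ m : M, V (F m) = (p : 𝕎) • m)
    (hH : ∀ (𝔞 : Ideal k) [𝔞.IsPrime] (y : M), (p : 𝕎) • y ∈ WI p 𝔞 • (⊤ : Submodule 𝕎 M) →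
      y ∈ WI p 𝔞 • (⊤ : Submodule 𝕎 M) ⊔ pI • (⊤ : Submodule 𝕎 M)) :
    Module.Projective (𝕎 ⧸ pI) ((M ⧸ pI • (⊤ : Submodule 𝕎 M)) ⧸ UV V) := by
  have hfin : Module.Finite (𝕎 ⧸ pI) (M ⧸ pI • (⊤ : Submodule 𝕎 M)) :=
    Module.Finite.of_restrictScalars_finite 𝕎 _ _
  refine Groth.Agent.Lib.Seat79.ProjQuot.projective_quotient_of_forall_maximal (UV V) (UV_fg V)
    fun 𝔪 h𝔪 x hxU hx𝔪 => ?_
  -- the prime of `W` and of `k`
  have hpM : pI ≤ 𝔪.comap (Ideal.Quotient.mk pI) := by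
    intro w hw
    rw [Ideal.mem_comap, Ideal.Quotient.eq_zero_iff_mem.2 hw]
    exact 𝔪.zero_mem
  have : (𝔪.comap (Ideal.Quotient.mk pI)).IsPrime := Ideal.comap_isPrime _ _
  have : (under (𝔪.comap (Ideal.Quotient.mk pI))).IsPrime := under_isPrime _ hpM
  obtain ⟨m, rfl⟩ := exists_eq_mkQ_V V hxU
  obtain ⟨m', hm', hmm'⟩ := exists_mem_of_mem_smul_top 𝔪 hx𝔪
  have h1 : V m - m' ∈ pI • (⊤ : Submodule 𝕎 M) := by
    rw [← Submodule.ker_mkQ (pI • (⊤ : Submodule 𝕎 M)), LinearMap.mem_ker, map_sub, hmm', sub_self]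
  have h2 : V m ∈ (𝔪.comap (Ideal.Quotient.mk pI)) • (⊤ : Submodule 𝕎 M) := by
    have : V m = (V m - m') + m' := by abel
    rw [this]
    exact Submodule.add_mem _ (Submodule.smul_mono_left hpM h1) hm'
  have h3 := V_mem_of_mem F V hFV hVF (under (𝔪.comap (Ideal.Quotient.mk pI))) (hH _) m
    (Submodule.smul_mono_left (le_WI_under_sup _) h2)
  obtain ⟨y, hy, z, hz, hyz⟩ := Submodule.mem_sup.1 h3
  have h4 : (pI • (⊤ : Submodule 𝕎 M)).mkQ (V m) = (pI • (⊤ : Submodule 𝕎 M)).mkQ y := by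
    rw [← hyz, map_add]
    have : (pI • (⊤ : Submodule 𝕎 M)).mkQ z = 0 := by
      rw [← LinearMap.mem_ker, Submodule.ker_mkQ]; exact hz
    rw [this, add_zero]
  rw [h4]
  exact mkQ_mem_smul_UV V 𝔪 _ (WI_under_le _ hpM) hy

theorem ker_im (hFV : ∀ m : M, F (V m) = (p : 𝕎) • m) (hVF : ∀ m : M, V (F m) = (p : 𝕎) • m)
    (hT : ∀ x : M, (p : 𝕎) • x = 0 → x ∈ pI • (⊤ : Submodule 𝕎 M)) :
    (pI • (⊤ : Submodule 𝕎 M)).comap F =
        Submodule.span 𝕎 (Set.range V) ⊔ pI • (⊤ : Submodule 𝕎 M) ∧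
      (pI • (⊤ : Submodule 𝕎 M)).comap V =
        Submodule.span 𝕎 (Set.range F) ⊔ pI • (⊤ : Submodule 𝕎 M) := by
  have hFp : ∀ y : M, F ((p : 𝕎) • y) = (p : 𝕎) • F y := by
    intro y
    rw [map_smulₛₗ, map_natCast]
  have hVp : ∀ y : M, V ((p : 𝕎) • y) = (p : 𝕎) • V y := by
    intro y
    rw [map_smulₛₗ, map_natCast]
  constructor
  · apply le_antisymm
    · intro x hx
      rw [Submodule.mem_comap, mem_p_smul_top_iff] at hx
      obtain ⟨y, hy⟩ := hx
      have h1 : (p : 𝕎) • (x - V y) = 0 := by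
        rw [smul_sub, ← hVF x, hy, hVp, sub_self]
      have h2 := hT _ h1
      have h3 : x = V y + (x - V y) := by abel
      rw [h3]
      exact Submodule.add_mem_sup (Submodule.subset_span ⟨y, rfl⟩) h2
    · apply sup_le
      · rw [Submodule.span_le]
        rintro _ ⟨y, rfl⟩
        rw [SetLike.mem_coe, Submodule.mem_comap, hFV]
        exact Submodule.smul_mem_smul (Ideal.mem_span_singleton_self _) Submodule.mem_top
      · intro x hx
        rw [mem_p_smul_top_iff] at hx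
        obtain ⟨y, rfl⟩ := hx
        rw [Submodule.mem_comap, hFp]
        exact Submodule.smul_mem_smul (Ideal.mem_span_singleton_self _) Submodule.mem_top
  · apply le_antisymm
    · intro x hx
      rw [Submodule.mem_comap, mem_p_smul_top_iff] at hx
      obtain ⟨y, hy⟩ := hx
      have h1 : (p : 𝕎) • (x - F y) = 0 := by
        rw [smul_sub, ← hFV x, hy, hFp, sub_self]
      have h2 := hT _ h1
      have h3 : x = F y + (x - F y) := by abel
      rw [h3]
      exact Submodule.add_mem_sup (Submodule.subset_span ⟨y, rfl⟩) h2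
    · apply sup_le
      · rw [Submodule.span_le]
        rintro _ ⟨y, rfl⟩
        rw [SetLike.mem_coe, Submodule.mem_comap, hVF]
        exact Submodule.smul_mem_smul (Ideal.mem_span_singleton_self _) Submodule.mem_top
      · intro x hx
        rw [mem_p_smul_top_iff] at hx
        obtain ⟨y, rfl⟩ := hx
        rw [Submodule.mem_comap, hVp]
        exact Submodule.smul_mem_smul (Ideal.mem_span_singleton_self _) Submodule.mem_top

theorem p_mul_eq_zero (a : 𝕎) (h : (p : 𝕎) * a = 0) : a = 0 := by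
  rw [mul_comm, ← WittVector.verschiebung_frobenius] at h
  have h1 : WittVector.frobenius a = 0 := by
    apply WittVector.verschiebung_injective
    rw [h, map_zero]
  apply (WittVector.frobenius_bijective p k).injective
  rw [h1, map_zero]

/-- Projective `W(k)`-modules have no `p`-torsion. -/
theorem eq_zero_of_p_smul_eq_zero [Module.Projective 𝕎 M] (x : M) (hx : (p : 𝕎) • x = 0) :
    x = 0 := by
  have h : sec 𝕎 M x = 0 := by
    refine Finsupp.ext fun m => ?_
    have h1 : sec 𝕎 M ((p : 𝕎) • x) m = 0 := by rw [hx, map_zero]; rfl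
    rw [map_smul, Finsupp.smul_apply, smul_eq_mul] at h1
    exact p_mul_eq_zero _ h1
  rw [← sec_spec (W := 𝕎) x, h, map_zero]

/-- The full (untruncated) case. -/
theorem projective_quot_V_of_projective [Module.Finite 𝕎 M] [Module.Projective 𝕎 M]
    (hFV : ∀ m : M, F (V m) = (p : 𝕎) • m) (hVF : ∀ m : M, V (F m) = (p : 𝕎) • m) :
    Module.Projective (𝕎 ⧸ pI) ((M ⧸ pI • (⊤ : Submodule 𝕎 M)) ⧸ UV V) :=
  projective_quot_V F V
    (Module.Projective.of_equiv ((TensorProduct.quotTensorEquivQuotSMul M pI).extendScalarsOfSurjective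
      Ideal.Quotient.mk_surjective))
    hFV hVF fun 𝔞 _ _ hy => Submodule.mem_sup_left (mem_WI_smul_of_p_smul_mem 𝔞 hy)

end Mod

section Trunc

variable {p : ℕ} [Fact p.Prime] {k : Type u} [CommRing k] [CharP k p] [PerfectRing k p]
  (n : ℕ) {M : Type v} [AddCommGroup M] [Module (WittVector p k) M]
  [Module (WittVector p k ⧸ Ideal.span {(p : WittVector p k) ^ n}) M]
  [IsScalarTower (WittVector p k) (WittVector p k ⧸ Ideal.span {(p : WittVector p k) ^ n}) M]
  [Module.Finite (WittVector p k ⧸ Ideal.span {(p : WittVector p k) ^ n}) M]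
  [Module.Projective (WittVector p k ⧸ Ideal.span {(p : WittVector p k) ^ n}) M]

local notation "𝕎" => WittVector p k
local notation "pI" => Ideal.span {(p : WittVector p k)}
local notation "pnI" => Ideal.span {(p : WittVector p k) ^ n}

omit [CharP k p] [PerfectRing k p] [Module.Finite (𝕎 ⧸ pnI) M] [Module.Projective (𝕎 ⧸ pnI) M] in
theorem mk_smul (w : 𝕎) (x : M) : (Ideal.Quotient.mk pnI w) • x = w • x :=
  algebraMap_smul (𝕎 ⧸ pnI) w x

include n in
omit [CharP k p] [PerfectRing k p] [Module.Projective (𝕎 ⧸ pnI) M] in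
theorem finite_of_trunc : Module.Finite 𝕎 M :=
  Module.Finite.trans (WittVector p k ⧸ Ideal.span {(p : WittVector p k) ^ n}) M

omit [PerfectRing k p] in
/-- No `p`-torsion modulo `WI 𝔞`, up to `p^(n-1) M`. -/
theorem hH_trunc (hn : 2 ≤ n) (𝔞 : Ideal k) [𝔞.IsPrime] (y : M)
    (hy : (p : 𝕎) • y ∈ WI p 𝔞 • (⊤ : Submodule 𝕎 M)) :
    y ∈ WI p 𝔞 • (⊤ : Submodule 𝕎 M) ⊔ pI • (⊤ : Submodule 𝕎 M) := by
  obtain ⟨r, f, g, -, -, hfg⟩ := Module.Finite.exists_comp_eq_id_of_projective (𝕎 ⧸ pnI) M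
  -- coordinates of elements of `J • ⊤`
  have hcoord : ∀ x ∈ WI p 𝔞 • (⊤ : Submodule 𝕎 M), ∀ i,
      g x i ∈ (WI p 𝔞).map (Ideal.Quotient.mk pnI) := by
    intro x hx i
    refine Submodule.smul_induction_on hx (fun w hw m _ => ?_) (fun x y hx hy => ?_)
    · rw [← mk_smul n w m, map_smul, Pi.smul_apply, smul_eq_mul]
      exact Ideal.mul_mem_right _ _ (Ideal.mem_map_of_mem _ hw)
    · rw [map_add, Pi.add_apply]
      exact Ideal.add_mem _ hx hy
  have hdec : ∀ i, ∃ j ∈ WI p 𝔞, ∃ c : 𝕎, g y i = Ideal.Quotient.mk pnI (j + (p : 𝕎) * c) := by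
    intro i
    obtain ⟨a, ha⟩ := Ideal.Quotient.mk_surjective (g y i)
    have h1 := hcoord _ hy i
    rw [← mk_smul n (p : 𝕎) y, map_smul, Pi.smul_apply, smul_eq_mul, ← ha, ← map_mul,
      Ideal.mem_map_iff_of_surjective _ Ideal.Quotient.mk_surjective] at h1
    obtain ⟨j₀, hj₀, hj₀'⟩ := h1
    have h2 : j₀ - (p : 𝕎) * a ∈ pnI := by
      rw [← Ideal.Quotient.eq_zero_iff_mem, map_sub, hj₀', sub_self]
    obtain ⟨c₀, hc₀⟩ := Ideal.mem_span_singleton'.1 h2
    have h3 : (p : 𝕎) ^ n = (p : 𝕎) * (p : 𝕎) ^ (n - 1) := by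
      rw [← pow_succ']; congr 1; omega
    have h4 : (p : 𝕎) * (a + c₀ * (p : 𝕎) ^ (n - 1)) ∈ WI p 𝔞 := by
      have : (p : 𝕎) * (a + c₀ * (p : 𝕎) ^ (n - 1)) = j₀ := by
        rw [mul_add, ← mul_assoc, mul_comm (p : 𝕎) c₀, mul_assoc, ← h3, hc₀]; ring
      rw [this]; exact hj₀
    have h5 := mem_WI_of_p_mul_mem 𝔞 h4
    have h6 : (p : 𝕎) ^ (n - 1) = (p : 𝕎) * (p : 𝕎) ^ (n - 2) := by
      rw [← pow_succ']; congr 1; omega
    refine ⟨a + c₀ * (p : 𝕎) ^ (n - 1), h5, -(c₀ * (p : 𝕎) ^ (n - 2)), ?_⟩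
    rw [← ha]
    congr 1
    rw [h6]; ring
  choose j hj c hc using hdec
  have hy' : y = f (g y) := by
    have := congrArg (fun l => l y) hfg
    simpa using this.symm
  rw [hy', LinearMap.pi_apply_eq_sum_univ f (g y)]
  refine Submodule.sum_mem _ fun i _ => ?_
  rw [hc i, mk_smul, add_smul, mul_smul]
  exact Submodule.add_mem_sup (Submodule.smul_mem_smul (hj i) Submodule.mem_top)
    (Submodule.smul_mem_smul (Ideal.mem_span_singleton_self _) Submodule.mem_top)

omit [CharP k p] [PerfectRing k p] in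
/-- The reduction mod `p` of a finite projective `W/p^n`-module is projective over `W/p`. -/
theorem projective_mod_p_trunc (hn : 1 ≤ n) :
    Module.Projective (𝕎 ⧸ pI) (M ⧸ pI • (⊤ : Submodule 𝕎 M)) := by
  obtain ⟨r, f, g, -, -, hfg⟩ := Module.Finite.exists_comp_eq_id_of_projective (𝕎 ⧸ pnI) M
  have hle : pnI ≤ pI := by
    rw [Ideal.span_singleton_le_span_singleton]
    exact dvd_pow_self _ (by omega)
  let q : (𝕎 ⧸ pnI) →+* (𝕎 ⧸ pI) := Ideal.Quotient.factor hle
  have hq : ∀ w : 𝕎, q (Ideal.Quotient.mk pnI w) = Ideal.Quotient.mk pI w := fun w => rfl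
  let φ : M →ₗ[𝕎] (Fin r → 𝕎 ⧸ pI) :=
    { toFun := fun m i => q (g m i)
      map_add' := fun x y => by
        funext i
        simp only [map_add, Pi.add_apply]
      map_smul' := fun w x => by
        funext i
        rw [← mk_smul n w x, map_smul, Pi.smul_apply, smul_eq_mul, map_mul, hq, RingHom.id_apply,
          Pi.smul_apply, Algebra.smul_def]
        rfl }
  have hφ : pI • (⊤ : Submodule 𝕎 M) ≤ LinearMap.ker φ := by
    rw [Submodule.smul_le]
    intro w hw m _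
    rw [LinearMap.mem_ker, map_smul]
    funext i
    rw [Pi.smul_apply, Algebra.smul_def, Pi.zero_apply]
    have : algebraMap 𝕎 (𝕎 ⧸ pI) w = 0 := Ideal.Quotient.eq_zero_iff_mem.2 hw
    rw [this, zero_mul]
  let ι : (M ⧸ pI • (⊤ : Submodule 𝕎 M)) →ₗ[𝕎 ⧸ pI] (Fin r → 𝕎 ⧸ pI) :=
    ((pI • (⊤ : Submodule 𝕎 M)).liftQ φ hφ).extendScalarsOfSurjective Ideal.Quotient.mk_surjective
  let π : (Fin r → 𝕎 ⧸ pI) →ₗ[𝕎 ⧸ pI] (M ⧸ pI • (⊤ : Submodule 𝕎 M)) :=
    Fintype.linearCombination (𝕎 ⧸ pI)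
      (fun i => (pI • (⊤ : Submodule 𝕎 M)).mkQ (f (fun j => if i = j then 1 else 0)))
  refine Module.Projective.of_split ι π ?_
  refine LinearMap.ext fun x => ?_
  obtain ⟨m, rfl⟩ := Submodule.mkQ_surjective _ x
  have hι : ∀ i, ι ((pI • (⊤ : Submodule 𝕎 M)).mkQ m) i = q (g m i) := fun i => rfl
  have hsurj : ∀ i, ∃ a : 𝕎, Ideal.Quotient.mk pnI a = g m i :=
    fun i => Ideal.Quotient.mk_surjective _
  choose a ha using hsurj
  rw [LinearMap.comp_apply, LinearMap.id_apply, Fintype.linearCombination_apply]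
  have hm : m = f (g m) := by
    have := congrArg (fun l => l m) hfg
    simpa using this.symm
  conv_rhs => rw [hm, LinearMap.pi_apply_eq_sum_univ f (g m), map_sum]
  refine Finset.sum_congr rfl fun i _ => ?_
  rw [hι, ← ha i, hq, mk_smul]
  rfl

end Trunc

end Groth.Agent.Lib.Seat79.DieuProj
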