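/-
Seat79 library: the 3n-display attached to a Dieudonné module over a perfect ring
(`Q = V M`, `V⁻¹` the inverse of the injective `V`).
-/
import Groth.Agent.Lib.Seat79DieuProj
import Groth.Agent.S14858

set_option autoImplicit false
universe u v

namespace Groth.Agent.Lib.Seat79.DieuDisp

open WittVector Disp Groth.Agent.Lib.Seat79.DieuProj

variable {p : ℕ} [Fact p.Prime] {k : Type u} [CommRing k] [CharP k p] [PerfectRing k p]
  {M : Type v} [AddCommGroup M] [Module (WittVector p k) M]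
  (F : M →ₛₗ[(WittVector.frobenius : WittVector p k →+* WittVector p k)] M)
  (V : M →ₛₗ[((WittVector.frobeniusEquiv p k).symm : WittVector p k →+* WittVector p k)] M)

local notation "𝕎" => WittVector p k
local notation "pI" => Ideal.span {(p : WittVector p k)}

theorem symm_frobenius (w : 𝕎) :
    ((frobeniusEquiv p k).symm : 𝕎 →+* 𝕎) (frobenius w) = w :=
  (frobeniusEquiv p k).symm_apply_apply w

theorem frobenius_symm (w : 𝕎) :
    frobenius (((frobeniusEquiv p k).symm : 𝕎 →+* 𝕎) w) = w :=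
  (frobeniusEquiv p k).apply_symm_apply w

/-- `V w = σ⁻¹ w * p` on Witt vectors. -/
theorem verschiebung_eq (w : 𝕎) :
    verschiebung w = ((frobeniusEquiv p k).symm : 𝕎 →+* 𝕎) w * (p : 𝕎) := by
  rw [← verschiebung_frobenius, frobenius_symm]

theorem IV_eq : W4c1extbt610.IV p k = pI := by
  apply le_antisymm
  · unfold W4c1extbt610.IV
    rw [Ideal.span_le]
    rintro _ ⟨w, rfl⟩
    rw [verschiebung_eq]
    exact Ideal.mul_mem_left _ _ (Ideal.mem_span_singleton_self _)
  · rw [Ideal.span_singleton_le_iff_mem]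
    have h : (p : 𝕎) = verschiebung (frobenius (1 : 𝕎)) := by
      rw [verschiebung_frobenius, one_mul]
    rw [h]
    exact W4c1extbt610.verschiebung_mem_IV p k _

/-- The image of `V` as a submodule. -/
def rangeV : Submodule 𝕎 M where
  carrier := Set.range V
  add_mem' := by
    rintro _ _ ⟨a, rfl⟩ ⟨b, rfl⟩
    exact ⟨a + b, map_add V a b⟩
  zero_mem' := ⟨0, map_zero V⟩
  smul_mem' := by
    rintro w _ ⟨a, rfl⟩
    exact ⟨frobenius w • a, by rw [map_smulₛₗ, symm_frobenius]⟩

theorem mem_rangeV (x : M) : x ∈ rangeV V ↔ x ∈ Set.range V := Iff.rfl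

theorem V_verschiebung (hVF : ∀ m : M, V (F m) = (p : 𝕎) • m) (w : 𝕎) (x : M) :
    V (w • F x) = verschiebung w • x := by
  rw [map_smulₛₗ, hVF, verschiebung_eq, mul_smul]

theorem V_injective [Module.Projective 𝕎 M] (hFV : ∀ m : M, F (V m) = (p : 𝕎) • m) :
    Function.Injective V := by
  intro a b hab
  have h : (p : 𝕎) • (a - b) = 0 := by
    rw [← hFV, map_sub, hab, sub_self, map_zero]
  have := eq_zero_of_p_smul_eq_zero (a - b) h
  exact sub_eq_zero.1 this

theorem p_smul_le (hVF : ∀ m : M, V (F m) = (p : 𝕎) • m) :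
    pI • (⊤ : Submodule 𝕎 M) ≤ rangeV V := by
  intro x hx
  obtain ⟨y, rfl⟩ := (mem_p_smul_top_iff x).1 hx
  exact ⟨F y, hVF y⟩

/-- The inverse of `V` on its image. -/
noncomputable def Vinv [Module.Projective 𝕎 M] (hFV : ∀ m : M, F (V m) = (p : 𝕎) • m) :
    rangeV V →ₛₗ[(WittVector.frobenius : 𝕎 →+* 𝕎)] M where
  toFun q := Classical.choose q.2
  map_add' a b := by
    apply V_injective F V hFV
    rw [map_add, Classical.choose_spec (a + b).2, Classical.choose_spec a.2,
      Classical.choose_spec b.2]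
    rfl
  map_smul' w a := by
    apply V_injective F V hFV
    rw [map_smulₛₗ, symm_frobenius, Classical.choose_spec (w • a).2, Classical.choose_spec a.2]
    rfl

theorem V_Vinv [Module.Projective 𝕎 M] (hFV : ∀ m : M, F (V m) = (p : 𝕎) • m) (q : rangeV V) :
    V (Vinv F V hFV q) = q := Classical.choose_spec q.2

theorem Vinv_V [Module.Projective 𝕎 M] (hFV : ∀ m : M, F (V m) = (p : 𝕎) • m) (m : M)
    (h : V m ∈ rangeV V) : Vinv F V hFV ⟨V m, h⟩ = m :=
  V_injective F V hFV (V_Vinv F V hFV ⟨V m, h⟩)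

/-- A complement of `V M` modulo `p M`. -/
theorem exists_compl [Module.Finite 𝕎 M] [Module.Projective 𝕎 M]
    (hFV : ∀ m : M, F (V m) = (p : 𝕎) • m) (hVF : ∀ m : M, V (F m) = (p : 𝕎) • m) :
    ∃ C : Submodule 𝕎 M, rangeV V ⊔ C = ⊤ ∧ rangeV V ⊓ C = pI • (⊤ : Submodule 𝕎 M) := by
  have hproj := projective_quot_V_of_projective F V hFV hVF
  obtain ⟨s, hs⟩ := Module.projective_lifting_property (UV V).mkQ LinearMap.id
    (Submodule.mkQ_surjective _)
  have hs' : ∀ x, (UV V).mkQ (s x) = x := fun x => congrArg (fun l => l x) hs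
  let C : Submodule 𝕎 M :=
    Submodule.comap (pI • (⊤ : Submodule 𝕎 M)).mkQ ((LinearMap.range s).restrictScalars 𝕎)
  have hC : ∀ x : M, x ∈ C ↔ ∃ z, s z = (pI • (⊤ : Submodule 𝕎 M)).mkQ x := fun x => Iff.rfl
  refine ⟨C, ?_, ?_⟩
  · rw [eq_top_iff]
    intro x _
    -- decompose `mkQ x`
    set xb := (pI • (⊤ : Submodule 𝕎 M)).mkQ x with hxb
    have h1 : xb - s ((UV V).mkQ xb) ∈ UV V := by
      have h0 : (UV V).mkQ (xb - s ((UV V).mkQ xb)) = 0 := by rw [map_sub, hs', sub_self]
      rwa [← LinearMap.mem_ker, Submodule.ker_mkQ] at h0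
    obtain ⟨m, hm⟩ := exists_eq_mkQ_V V h1
    have h2 : x = V m + (x - V m) := by abel
    rw [h2]
    refine Submodule.add_mem_sup ⟨m, rfl⟩ ?_
    rw [hC]
    refine ⟨(UV V).mkQ xb, ?_⟩
    rw [map_sub, ← hm, ← hxb]
    abel
  · apply le_antisymm
    · rintro x ⟨⟨m, rfl⟩, hx2⟩
      obtain ⟨z, hz⟩ := (hC _).1 hx2
      have h1 : (pI • (⊤ : Submodule 𝕎 M)).mkQ (V m) ∈ UV V := Submodule.subset_span ⟨m, rfl⟩
      have h2 : (UV V).mkQ ((pI • (⊤ : Submodule 𝕎 M)).mkQ (V m)) = 0 := by
        rw [← LinearMap.mem_ker, Submodule.ker_mkQ]; exact h1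
      rw [← hz, hs'] at h2
      rw [h2, map_zero] at hz
      have h3 : (pI • (⊤ : Submodule 𝕎 M)).mkQ (V m) = 0 := hz.symm
      rw [← LinearMap.mem_ker, Submodule.ker_mkQ] at h3
      exact h3
    · refine le_inf (p_smul_le F V hVF) fun x hx => ?_
      rw [hC]
      refine ⟨0, ?_⟩
      rw [map_zero]
      symm
      rw [← LinearMap.mem_ker, Submodule.ker_mkQ]
      exact hx

/-- The 3n-display `(M, V M, F, V⁻¹)`. -/
noncomputable def display [Module.Finite 𝕎 M] [Module.Projective 𝕎 M]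
    (hFV : ∀ m : M, F (V m) = (p : 𝕎) • m) (hVF : ∀ m : M, V (F m) = (p : 𝕎) • m) :
    W4c1extbt610.Display3n p k M where
  Q := rangeV V
  F := F
  Vinv := Vinv F V hFV
  finite := inferInstance
  projective := inferInstance
  IV_smul_le := by
    rw [IV_eq]
    exact p_smul_le F V hVF
  exists_normal := by
    have hp : Ideal.span {(p : k)} = ⊥ := by
      rw [CharP.cast_eq_zero k p, Ideal.span_singleton_eq_bot]
    have : IsAdicComplete (Ideal.span {(p : k)}) k := by
      rw [hp]; infer_instance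
    refine Groth.Agent.S14858.result p k M (rangeV V) ?_
    rw [IV_eq]
    exact exists_compl F V hFV hVF
  span_range_Vinv := by
    rw [eq_top_iff]
    intro m _
    exact Submodule.subset_span ⟨⟨V m, m, rfl⟩, Vinv_V F V hFV m _⟩
  Vinv_verschiebung_smul := by
    intro w x
    apply V_injective F V hFV
    rw [V_Vinv, V_verschiebung F V hVF]

end Groth.Agent.Lib.Seat79.DieuDisp
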