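import Mathlib.LinearAlgebra.ExteriorPower.Basis
import Mathlib.Algebra.Module.Projective

/-!
# Exterior powers of semilinear maps; projectivity of exterior powers (seat 79)

* `semiMap σ r Φ : ⋀[W]^r M →ₛₗ[σ] ⋀[W]^r N` for a ring endomorphism `σ` of `W` and a `σ`-semilinear
  `Φ : M →ₛₗ[σ] N`, with `semiMap_ιMulti : semiMap σ r Φ (ιMulti v) = ιMulti (Φ ∘ v)`.
  (Mathlib's `exteriorPower.map` is for linear maps only; we pass through the module `Tw σ N`,
  which is `N` with scalars acting through `σ`.)
* `projective_exteriorPower`: `⋀[W]^r P` is projective if `P` is.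
-/

set_option autoImplicit false
universe u v w

open exteriorPower

namespace Groth.Agent.Lib.Seat79.SemilinExt

variable {W : Type u} [CommRing W]

/-- `N` with scalars acting through `σ`. -/
def Tw (_σ : W →+* W) (N : Type w) : Type w := N

instance (σ : W →+* W) (N : Type w) [AddCommGroup N] : AddCommGroup (Tw σ N) :=
  inferInstanceAs (AddCommGroup N)

instance (σ : W →+* W) (N : Type w) [AddCommGroup N] [Module W N] : Module W (Tw σ N) :=
  Module.compHom N σ

variable (σ : W →+* W) {M : Type v} {N : Type w} [AddCommGroup M] [Module W M] [AddCommGroup N]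
  [Module W N]

/-- The alternating map `v ↦ Φ v₁ ∧ ⋯ ∧ Φ v_r` with values in the twisted module. -/
noncomputable def semiAlt (r : ℕ) (Φ : M →ₛₗ[σ] N) : M [⋀^Fin r]→ₗ[W] Tw σ ↥(⋀[W]^r N) where
  toFun v := (ιMulti W r (fun i => Φ (v i)) : ↥(⋀[W]^r N))
  map_update_add' := by
    intro _ v i x y
    have h : ∀ z : M, (fun j => Φ (Function.update v i z j)) =
        Function.update (fun j => Φ (v j)) i (Φ z) := by
      intro z
      funext j
      by_cases hj : j = i
      · subst hj; simp
      · simp [hj]
    rw [h, h, h, map_add]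
    exact AlternatingMap.map_update_add (ιMulti W r (M := N)) _ _ _ _
  map_update_smul' := by
    intro _ v i a x
    have h : ∀ z : M, (fun j => Φ (Function.update v i z j)) =
        Function.update (fun j => Φ (v j)) i (Φ z) := by
      intro z
      funext j
      by_cases hj : j = i
      · subst hj; simp
      · simp [hj]
    rw [h, h, Φ.map_smulₛₗ]
    exact AlternatingMap.map_update_smul (ιMulti W r (M := N)) _ _ _ _
  map_eq_zero_of_eq' := by
    intro v i j hv hij
    exact AlternatingMap.map_eq_zero_of_eq (ιMulti W r (M := N)) _ (by rw [hv]) hij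

/-- The exterior power of a semilinear map. -/
noncomputable def semiMap (r : ℕ) (Φ : M →ₛₗ[σ] N) : ↥(⋀[W]^r M) →ₛₗ[σ] ↥(⋀[W]^r N) where
  toFun x := (exteriorPower.alternatingMapLinearEquiv (semiAlt σ r Φ) x : Tw σ ↥(⋀[W]^r N))
  map_add' x y := map_add _ x y
  map_smul' a x := by
    rw [map_smul]
    rfl

theorem semiMap_ιMulti (r : ℕ) (Φ : M →ₛₗ[σ] N) (v : Fin r → M) :
    semiMap σ r Φ (ιMulti W r v) = ιMulti W r (fun i => Φ (v i)) := by
  change (exteriorPower.alternatingMapLinearEquiv (semiAlt σ r Φ) (ιMulti W r v) :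
    Tw σ ↥(⋀[W]^r N)) = _
  rw [exteriorPower.alternatingMapLinearEquiv_apply_ιMulti]
  rfl

/-- Exterior powers of projective modules are projective. -/
theorem projective_exteriorPower (P : Type v) [AddCommGroup P] [Module W P] [Module.Projective W P]
    (r : ℕ) : Module.Projective W ↥(⋀[W]^r P) := by
  obtain ⟨s, hs⟩ := (Module.projective_def' (R := W) (P := P)).1 inferInstance
  refine Module.Projective.of_split (exteriorPower.map r s)
    (exteriorPower.map r (Finsupp.linearCombination W id)) ?_
  rw [← exteriorPower.map_comp, hs, exteriorPower.map_id]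

end Groth.Agent.Lib.Seat79.SemilinExt
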