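import Groth.Prelude.Def_W4c1extbt610Disp
import Groth.Agent.Lib.Seat79SemilinExt
import Groth.Agent.Lib.Seat79ExtPowSplit

/-!
# Exterior powers of 3n-displays with tangent module of rank one (seat 79)

* `exists_verschiebung_eq`: every element of the ideal `IV` is a Verschiebung; `dv` divides by `V`.
* `vdiv Ψ`: for a projective `M` and a Frobenius-semilinear `Ψ : M → N`, the semilinear map
  `IV • M → N` with `V w • b ↦ w • Ψ b`.
* `mkDisplay`: the 3n-display on `M = A ⊕ B` with `Q = A ⊔ IV • B` and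
  `Vinv (a + V w • b) = Ψ a + w • Ψ b`.
-/

set_option autoImplicit false
universe u v w

open W4c1extbt610

namespace Groth.Agent.Lib.Seat79.DispExt

variable {p : ℕ} [Fact p.Prime] {R : Type u} [CommRing R]

local notation "𝕎" => WittVector p R
local notation "σ" => (WittVector.frobenius : WittVector p R →+* WittVector p R)
local notation "V" => (WittVector.verschiebung : WittVector p R →+ WittVector p R)

theorem smul_verschiebung (a w : 𝕎) : a * V w = V (w * σ a) := by
  rw [WittVector.verschiebung_mul_frobenius, mul_comm]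

theorem exists_verschiebung_eq {i : 𝕎} (hi : i ∈ IV p R) : ∃ w : 𝕎, V w = i := by
  unfold IV at hi
  induction hi using Submodule.span_induction with
  | mem x hx => exact hx
  | zero => exact ⟨0, map_zero _⟩
  | add x y _ _ hx hy =>
    obtain ⟨a, rfl⟩ := hx
    obtain ⟨b, rfl⟩ := hy
    exact ⟨a + b, map_add _ _ _⟩
  | smul a x _ hx =>
    obtain ⟨b, rfl⟩ := hx
    exact ⟨b * σ a, by rw [smul_eq_mul, smul_verschiebung]⟩

/-- Division by `V` (junk outside the image of `V`). -/
noncomputable def dv (i : 𝕎) : 𝕎 := Function.invFun V i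

theorem dv_verschiebung (w : 𝕎) : dv (V w) = w :=
  Function.leftInverse_invFun (WittVector.verschiebung_injective p R) w

theorem verschiebung_dv {i : 𝕎} (hi : i ∈ IV p R) : V (dv i) = i :=
  Function.invFun_eq (exists_verschiebung_eq hi)

theorem dv_zero : dv (0 : 𝕎) = 0 := by
  have h := dv_verschiebung (0 : 𝕎)
  rwa [map_zero] at h

theorem dv_add {i j : 𝕎} (hi : i ∈ IV p R) (hj : j ∈ IV p R) : dv (i + j) = dv i + dv j := by
  obtain ⟨a, rfl⟩ := exists_verschiebung_eq hi
  obtain ⟨b, rfl⟩ := exists_verschiebung_eq hj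
  rw [← map_add, dv_verschiebung, dv_verschiebung, dv_verschiebung]

theorem dv_mul (a : 𝕎) {i : 𝕎} (hi : i ∈ IV p R) : dv (a * i) = σ a * dv i := by
  obtain ⟨b, rfl⟩ := exists_verschiebung_eq hi
  rw [smul_verschiebung, dv_verschiebung, dv_verschiebung, mul_comm]

section VDiv

variable {M : Type v} [AddCommGroup M] [Module (WittVector p R) M] {N : Type w} [AddCommGroup N]
  [Module (WittVector p R) N]

/-- A splitting of the canonical surjection onto a projective module. -/
noncomputable def sec (X : Type v) [AddCommGroup X] [Module 𝕎 X] [Module.Projective 𝕎 X] :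
    X →ₗ[𝕎] X →₀ 𝕎 :=
  ((Module.projective_def' (R := 𝕎) (P := X)).1 inferInstance).choose

theorem sec_spec [Module.Projective 𝕎 M] (x : M) :
    Finsupp.linearCombination 𝕎 (id : M → M) (sec M x) = x :=
  LinearMap.congr_fun ((Module.projective_def' (R := 𝕎) (P := M)).1 inferInstance).choose_spec x

theorem sec_mem [Module.Projective 𝕎 M] {c : M} (hc : c ∈ IV p R • (⊤ : Submodule 𝕎 M)) (m : M) :
    sec M c m ∈ IV p R := by
  refine Submodule.smul_induction_on hc (fun i hi b _ => ?_) (fun x y hx hy => ?_)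
  · rw [map_smul, Finsupp.smul_apply, smul_eq_mul]
    exact Ideal.mul_mem_right _ _ hi
  · rw [map_add, Finsupp.add_apply]
    exact Ideal.add_mem _ hx hy

/-- The coefficients of `sec c` divided by `V`. -/
noncomputable def gdiv [Module.Projective 𝕎 M] (c : M) : M →₀ 𝕎 :=
  (sec M c).mapRange dv dv_zero

theorem semilin_linearCombination (Ψ : M →ₛₗ[σ] N) (f : M →₀ 𝕎) :
    Ψ (Finsupp.linearCombination 𝕎 (id : M → M) f) =
      Finsupp.linearCombination 𝕎 (⇑Ψ) (f.mapRange σ (map_zero _)) := by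
  induction f using Finsupp.induction_linear with
  | zero => simp
  | add f g hf hg =>
    rw [map_add, map_add, hf, hg, Finsupp.mapRange_add (map_add σ), map_add]
  | single m a =>
    rw [Finsupp.mapRange_single, Finsupp.linearCombination_single,
      Finsupp.linearCombination_single, id, Ψ.map_smulₛₗ]

/-- Division by `V` of a semilinear map on `IV • M`: `V w • b ↦ w • Ψ b`. -/
noncomputable def vdiv [Module.Projective 𝕎 M] (Ψ : M →ₛₗ[σ] N) :
    ↥(IV p R • (⊤ : Submodule 𝕎 M)) →ₛₗ[σ] N where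
  toFun c := Finsupp.linearCombination 𝕎 (⇑Ψ) (gdiv (p := p) (R := R) (c : M))
  map_add' := by
    rintro ⟨c, hc⟩ ⟨c', hc'⟩
    rw [← map_add]
    congr 1
    refine Finsupp.ext fun m => ?_
    rw [Finsupp.add_apply]
    change dv (sec (p := p) (R := R) M (c + c') m) = dv (sec M c m) + dv (sec M c' m)
    rw [map_add, Finsupp.add_apply, dv_add (sec_mem hc m) (sec_mem hc' m)]
  map_smul' := by
    rintro a ⟨c, hc⟩
    rw [← map_smul]
    congr 1
    refine Finsupp.ext fun m => ?_
    rw [Finsupp.smul_apply]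
    change dv (sec (p := p) (R := R) M (a • c) m) = σ a • dv (sec M c m)
    rw [map_smul, Finsupp.smul_apply, smul_eq_mul, smul_eq_mul, dv_mul a (sec_mem hc m)]

theorem vdiv_apply [Module.Projective 𝕎 M] (Ψ : M →ₛₗ[σ] N) (w : 𝕎) (b : M)
    (h : V w • b ∈ IV p R • (⊤ : Submodule 𝕎 M)) : vdiv Ψ ⟨V w • b, h⟩ = w • Ψ b := by
  change Finsupp.linearCombination 𝕎 (⇑Ψ) (gdiv (p := p) (R := R) (V w • b)) = w • Ψ b
  conv_rhs => rw [← sec_spec (p := p) (R := R) b, semilin_linearCombination, ← map_smul]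
  congr 1
  refine Finsupp.ext fun m => ?_
  rw [Finsupp.smul_apply]
  change dv (sec (p := p) (R := R) M (V w • b) m) = w • σ (sec M b m)
  rw [map_smul, Finsupp.smul_apply, smul_eq_mul, smul_eq_mul, mul_comm, smul_verschiebung,
    dv_verschiebung]

theorem vdiv_sum [Module.Projective 𝕎 M] (Ψ : M →ₛₗ[σ] N) {ι : Type*} (s : Finset ι) (w : ι → 𝕎)
    (b : ι → M) (h : ∑ j ∈ s, V (w j) • b j ∈ IV p R • (⊤ : Submodule 𝕎 M)) :
    vdiv Ψ ⟨∑ j ∈ s, V (w j) • b j, h⟩ = ∑ j ∈ s, w j • Ψ (b j) := by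
  have hmem : ∀ j, V (w j) • b j ∈ IV p R • (⊤ : Submodule 𝕎 M) := fun j =>
    Submodule.smul_mem_smul (verschiebung_mem_IV p R (w j)) Submodule.mem_top
  have h1 : (⟨∑ j ∈ s, V (w j) • b j, h⟩ : ↥(IV p R • (⊤ : Submodule 𝕎 M))) =
      ∑ j ∈ s, ⟨V (w j) • b j, hmem j⟩ := by
    apply Subtype.ext
    rw [Submodule.coe_sum]
  rw [h1, map_sum]
  exact Finset.sum_congr rfl fun j _ => vdiv_apply Ψ (w j) (b j) (hmem j)

end VDiv

section Mk

variable {M : Type v} [AddCommGroup M] [Module (WittVector p R) M]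
  (A B : Submodule (WittVector p R) M) (hAB : IsCompl A B)
  (Ψ : M →ₛₗ[(WittVector.frobenius : WittVector p R →+* WittVector p R)] M)

include hAB in
theorem IV_smul_top_le : IV p R • (⊤ : Submodule 𝕎 M) ≤ A ⊔ IV p R • B := by
  rw [← hAB.sup_eq_top, Submodule.smul_sup]
  exact sup_le_sup_right Submodule.smul_le_right _

theorem smul_le_smul_top : IV p R • B ≤ IV p R • (⊤ : Submodule 𝕎 M) :=
  Submodule.smul_mono le_rfl le_top

theorem projA_eq {a c : M} (ha : a ∈ A) (hc : c ∈ IV p R • B) :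
    A.projection B hAB (a + c) = a := by
  rw [map_add, Submodule.projection_apply_of_mem_left hAB ha,
    Submodule.projection_apply_of_mem_right hAB (Submodule.smul_le_right hc), add_zero]

theorem projB_eq {a c : M} (ha : a ∈ A) (hc : c ∈ IV p R • B) :
    B.projection A hAB.symm (a + c) = c := by
  rw [map_add, Submodule.projection_apply_of_mem_right hAB.symm ha,
    Submodule.projection_apply_of_mem_left hAB.symm (Submodule.smul_le_right hc), zero_add]

theorem projB_mem {y : M} (hy : y ∈ A ⊔ IV p R • B) :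
    B.projection A hAB.symm y ∈ IV p R • (⊤ : Submodule 𝕎 M) := by
  obtain ⟨a, ha, c, hc, rfl⟩ := Submodule.mem_sup.1 hy
  rw [projB_eq A B hAB ha hc]
  exact smul_le_smul_top B hc

/-- `V⁻¹` of the display built from a normal decomposition `M = A ⊕ B` and `Ψ`. -/
noncomputable def VinvM [Module.Projective 𝕎 M] : ↥(A ⊔ IV p R • B) →ₛₗ[σ] M :=
  Ψ.comp ((A.projection B hAB).comp (A ⊔ IV p R • B).subtype) +
    (vdiv Ψ).comp (LinearMap.codRestrict (IV p R • (⊤ : Submodule 𝕎 M))
      ((B.projection A hAB.symm).comp (A ⊔ IV p R • B).subtype)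
      (fun y => projB_mem A B hAB y.2))

theorem VinvM_eq [Module.Projective 𝕎 M] (y : M) (hy : y ∈ A ⊔ IV p R • B) (a c : M) (ha : a ∈ A)
    (hc : c ∈ IV p R • B) (hy' : y = a + c) :
    VinvM A B hAB Ψ ⟨y, hy⟩ = Ψ a + vdiv Ψ ⟨c, smul_le_smul_top B hc⟩ := by
  subst hy'
  unfold VinvM
  rw [LinearMap.add_apply, LinearMap.comp_apply, LinearMap.comp_apply, LinearMap.comp_apply,
    Submodule.subtype_apply]
  congr 1
  · congr 1
    exact projA_eq A B hAB ha hc
  · congr 1
    exact Subtype.ext (projB_eq A B hAB ha hc)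

theorem VinvM_left [Module.Projective 𝕎 M] (a : M) (ha : a ∈ A) (h : a ∈ A ⊔ IV p R • B) :
    VinvM A B hAB Ψ ⟨a, h⟩ = Ψ a := by
  rw [VinvM_eq A B hAB Ψ a h a 0 ha (Submodule.zero_mem _) (add_zero a).symm]
  have h0 : (⟨0, smul_le_smul_top B (Submodule.zero_mem _)⟩ :
      ↥(IV p R • (⊤ : Submodule 𝕎 M))) = 0 := rfl
  rw [h0, map_zero, add_zero]

theorem VinvM_smul [Module.Projective 𝕎 M] (y : M) (hy : y ∈ A ⊔ IV p R • B) (a b : M) (w : 𝕎)
    (ha : a ∈ A) (hb : b ∈ B) (hy' : y = a + V w • b) :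
    VinvM A B hAB Ψ ⟨y, hy⟩ = Ψ a + w • Ψ b := by
  rw [VinvM_eq A B hAB Ψ y hy a (V w • b) ha
    (Submodule.smul_mem_smul (verschiebung_mem_IV p R w) hb) hy', vdiv_apply]

theorem VinvM_sum [Module.Projective 𝕎 M] {ι : Type*} (s : Finset ι) (y : M)
    (hy : y ∈ A ⊔ IV p R • B) (a : M) (b : ι → M) (w : ι → 𝕎)
    (ha : a ∈ A) (hb : ∀ j, b j ∈ B) (hy' : y = a + ∑ j ∈ s, V (w j) • b j) :
    VinvM A B hAB Ψ ⟨y, hy⟩ = Ψ a + ∑ j ∈ s, w j • Ψ (b j) := by
  rw [VinvM_eq A B hAB Ψ y hy a (∑ j ∈ s, V (w j) • b j) ha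
    (Submodule.sum_mem _ fun j _ => Submodule.smul_mem_smul (verschiebung_mem_IV p R (w j)) (hb j))
    hy', vdiv_sum]

/-- The 3n-display with normal decomposition `M = A ⊕ B` and `V⁻¹(a + V w • b) = Ψ a + w • Ψ b`. -/
noncomputable def mkDisplay [Module.Finite 𝕎 M] [Module.Projective 𝕎 M]
    (hΨ : Submodule.span 𝕎 (Set.range Ψ) = ⊤) : Display3n p R M where
  Q := A ⊔ IV p R • B
  F := Ψ.comp ((p : 𝕎) • A.projection B hAB + B.projection A hAB.symm)
  Vinv := VinvM A B hAB Ψ
  finite := inferInstance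
  projective := inferInstance
  IV_smul_le := IV_smul_top_le A B hAB
  exists_normal := ⟨A, B, hAB, rfl⟩
  span_range_Vinv := by
    rw [eq_top_iff, ← hΨ, Submodule.span_le]
    rintro _ ⟨x, rfl⟩
    have hx := Submodule.projection_add_projection_eq_self hAB x
    have ha : A.projection B hAB x ∈ A := Submodule.projection_apply_mem hAB x
    have hb : B.projection A hAB.symm x ∈ B := Submodule.projection_apply_mem hAB.symm x
    rw [SetLike.mem_coe, ← hx, map_add]
    refine Submodule.add_mem _ (Submodule.subset_span ⟨⟨_, Submodule.mem_sup_left ha⟩, ?_⟩)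
      (Submodule.subset_span ⟨⟨V 1 • B.projection A hAB.symm x, Submodule.mem_sup_right
        (Submodule.smul_mem_smul (verschiebung_mem_IV p R 1) hb)⟩, ?_⟩)
    · exact VinvM_left A B hAB Ψ _ ha _
    · rw [VinvM_smul A B hAB Ψ _ _ 0 _ 1 (Submodule.zero_mem _) hb (zero_add _).symm, map_zero,
        zero_add, one_smul]
  Vinv_verschiebung_smul := by
    intro w x
    have hx := Submodule.projection_add_projection_eq_self hAB x
    have ha : A.projection B hAB x ∈ A := Submodule.projection_apply_mem hAB x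
    have hb : B.projection A hAB.symm x ∈ B := Submodule.projection_apply_mem hAB.symm x
    rw [VinvM_smul A B hAB Ψ _ _ (V w • A.projection B hAB x) (B.projection A hAB.symm x) w
      (Submodule.smul_mem _ _ ha) hb (by rw [← smul_add, hx])]
    rw [LinearMap.comp_apply, LinearMap.add_apply, LinearMap.smul_apply, map_add, Ψ.map_smulₛₗ,
      Ψ.map_smulₛₗ, WittVector.frobenius_verschiebung, map_natCast, smul_add, smul_smul]

end Mk

section Phi

open Groth.Agent.Lib.Seat79.ExtPowSplit

variable {P : Type v} [AddCommGroup P] [Module (WittVector p R) P] (D : Display3n p R P)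
  (L T : Submodule (WittVector p R) P) (hLT : IsCompl L T) (hQ : D.Q = L ⊔ IV p R • T)

include hQ in
theorem L_le_Q : L ≤ D.Q := by rw [hQ]; exact le_sup_left

/-- `V⁻¹` on `L` and `F` on `T`. -/
noncomputable def Φ : P →ₛₗ[σ] P :=
  D.Vinv.comp (LinearMap.codRestrict D.Q (L.projection T hLT)
      (fun x => L_le_Q D L T hQ (Submodule.projection_apply_mem hLT x))) +
    D.F.comp (T.projection L hLT.symm)

theorem Φ_of_mem_L {l : P} (hl : l ∈ L) :
    Φ D L T hLT hQ l = D.Vinv ⟨l, L_le_Q D L T hQ hl⟩ := by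
  unfold Φ
  rw [LinearMap.add_apply, LinearMap.comp_apply, LinearMap.comp_apply,
    Submodule.projection_apply_of_mem_right hLT.symm hl, map_zero, add_zero]
  congr 1
  exact Subtype.ext (Submodule.projection_apply_of_mem_left hLT hl)

theorem Φ_of_mem_T {t : P} (ht : t ∈ T) : Φ D L T hLT hQ t = D.F t := by
  unfold Φ
  rw [LinearMap.add_apply, LinearMap.comp_apply, LinearMap.comp_apply,
    Submodule.projection_apply_of_mem_left hLT.symm ht]
  have h0 : (LinearMap.codRestrict D.Q (L.projection T hLT)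
      (fun x => L_le_Q D L T hQ (Submodule.projection_apply_mem hLT x))) t = 0 :=
    Subtype.ext (Submodule.projection_apply_of_mem_right hLT ht)
  rw [h0, map_zero, zero_add]

theorem Vinv_eq (y : P) (hy : y ∈ D.Q) (l t : P) (w : 𝕎) (hl : l ∈ L) (ht : t ∈ T)
    (hy' : y = l + V w • t) :
    D.Vinv ⟨y, hy⟩ = Φ D L T hLT hQ l + w • Φ D L T hLT hQ t := by
  subst hy'
  have h1 : (⟨l + V w • t, hy⟩ : D.Q) = ⟨l, L_le_Q D L T hQ hl⟩ + ⟨V w • t,
      D.IV_smul_le (Submodule.smul_mem_smul (verschiebung_mem_IV p R w) Submodule.mem_top)⟩ := rfl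
  rw [h1, map_add, D.Vinv_verschiebung_smul, Φ_of_mem_L D L T hLT hQ hl, Φ_of_mem_T D L T hLT hQ ht]

variable (e : T ≃ₗ[WittVector p R] WittVector p R)

include hQ in
theorem exists_decomp {y : P} (hy : y ∈ D.Q) : ∃ l ∈ L, ∃ w : 𝕎, y = l + V w • tt T e := by
  rw [hQ] at hy
  obtain ⟨l, hl, z, hz, rfl⟩ := Submodule.mem_sup.1 hy
  obtain ⟨c, hc, rfl⟩ := (mem_smul_iff T e (IV p R) z).1 hz
  obtain ⟨w, rfl⟩ := exists_verschiebung_eq hc
  exact ⟨l, hl, w, rfl⟩

include e in
theorem span_range_Φ : Submodule.span 𝕎 (Set.range (Φ D L T hLT hQ)) = ⊤ := by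
  rw [eq_top_iff, ← D.span_range_Vinv, Submodule.span_le]
  rintro _ ⟨⟨y, hy⟩, rfl⟩
  obtain ⟨l, hl, w, hyl⟩ := exists_decomp D L T hQ e hy
  rw [SetLike.mem_coe, Vinv_eq D L T hLT hQ y hy l (tt T e) w hl (tt_mem T e) hyl]
  exact Submodule.add_mem _ (Submodule.subset_span ⟨l, rfl⟩)
    (Submodule.smul_mem _ _ (Submodule.subset_span ⟨tt T e, rfl⟩))

end Phi

section Expand

theorem alt_expand {W : Type*} [CommRing W] {M N : Type*} [AddCommGroup M] [Module W M]
    [AddCommGroup N] [Module W N] {r : ℕ} (f : M [⋀^Fin r]→ₗ[W] N) (y : M) (c : Fin r → W)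
    (S : Finset (Fin r)) :
    ∀ l : Fin r → M, f (fun j => l j + (if j ∈ S then c j • y else 0)) =
      f l + ∑ j ∈ S, c j • f (Function.update l j y) := by
  classical
  induction S using Finset.induction_on with
  | empty => intro l; simp
  | insert a S ha ih =>
    intro l
    have h1 : (fun j => l j + (if j ∈ insert a S then c j • y else 0)) =
        Function.update (fun j => l j + (if j ∈ S then c j • y else 0)) a (l a + c a • y) := by
      funext j
      by_cases hj : j = a
      · subst hj; simp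
      · simp [hj]
    have h2 : Function.update (fun j => l j + (if j ∈ S then c j • y else 0)) a y =
        fun j => Function.update l a y j + (if j ∈ S then c j • y else 0) := by
      funext j
      by_cases hj : j = a
      · subst hj; simp [ha]
      · simp [hj]
    have h3 : Function.update (fun j => l j + (if j ∈ S then c j • y else 0)) a (l a) =
        fun j => l j + (if j ∈ S then c j • y else 0) := by
      funext j
      by_cases hj : j = a
      · subst hj; simp [ha]
      · simp [hj]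
    have h4 : ∑ j ∈ S, c j • f (Function.update (Function.update l a y) j y) = 0 := by
      refine Finset.sum_eq_zero fun j hj => ?_
      have hja : j ≠ a := fun h => ha (h ▸ hj)
      rw [AlternatingMap.map_eq_zero_of_eq f _ (i := j) (j := a) ?_ hja, smul_zero]
      rw [Function.update_self, Function.update_of_ne hja.symm, Function.update_self]
    rw [h1, AlternatingMap.map_update_add, AlternatingMap.map_update_smul, h3, h2, ih l,
      ih (Function.update l a y), h4, add_zero, Finset.sum_insert ha]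
    abel

theorem alt_expand_univ {W : Type*} [CommRing W] {M N : Type*} [AddCommGroup M] [Module W M]
    [AddCommGroup N] [Module W N] {r : ℕ} (f : M [⋀^Fin r]→ₗ[W] N) (y : M) (c : Fin r → W)
    (l : Fin r → M) :
    f (fun j => l j + c j • y) = f l + ∑ j, c j • f (Function.update l j y) := by
  have h := alt_expand f y c Finset.univ l
  simpa using h

end Expand

section Unique

variable {P : Type v} [AddCommGroup P] [Module (WittVector p R) P]

theorem display_ext (E E' : Display3n p R P) (hQ : E.Q = E'.Q)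
    (hV : ∀ (x : P) (h : x ∈ E.Q) (h' : x ∈ E'.Q), E.Vinv ⟨x, h⟩ = E'.Vinv ⟨x, h'⟩) : E = E' := by
  obtain ⟨Q, F, Vi, h1, h2, h3, h4, h5, h6⟩ := E
  obtain ⟨Q', F', Vi', h1', h2', h3', h4', h5', h6'⟩ := E'
  dsimp only at hQ hV
  subst hQ
  have hVi : Vi = Vi' := LinearMap.ext (fun ⟨x, hx⟩ => hV x hx hx)
  subst hVi
  have hF : F = F' := by
    refine LinearMap.ext fun x => ?_
    have e1 := h6 1 x
    have e2 := h6' 1 x
    rw [one_smul] at e1 e2
    rw [← e1, ← e2]
  subst hF
  rfl

theorem isExtPow_unique (D : Display3n p R P) (r : ℕ)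
    (E E' : Display3n p R (⋀[WittVector p R]^r P)) (hE : IsExtPow D r E) (hE' : IsExtPow D r E') :
    E' = E := by
  obtain ⟨hQ, hV⟩ := hE
  obtain ⟨hQ', hV'⟩ := hE'
  refine display_ext E' E (hQ'.trans hQ.symm) ?_
  intro y h' h
  have hy : y ∈ Submodule.span 𝕎 (Set.range fun q : Fin r → D.Q =>
      exteriorPower.ιMulti 𝕎 r (fun i => (q i : P))) := by rw [← hQ]; exact h
  revert h h'
  have key : ∀ (h' : y ∈ E'.Q) (h : y ∈ E.Q), E'.Vinv ⟨y, h'⟩ = E.Vinv ⟨y, h⟩ := by
    induction hy using Submodule.span_induction with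
    | mem y hy =>
      obtain ⟨q, rfl⟩ := hy
      intro h' h
      rw [hV q h, hV' q h']
    | zero =>
      intro h' h
      have h1 : (⟨0, h'⟩ : E'.Q) = 0 := rfl
      have h2 : (⟨0, h⟩ : E.Q) = 0 := rfl
      rw [h1, h2, map_zero, map_zero]
    | add x y hx hy ihx ihy =>
      intro h' h
      have hx1 : x ∈ E.Q := by rw [hQ]; exact hx
      have hy1 : y ∈ E.Q := by rw [hQ]; exact hy
      have hx2 : x ∈ E'.Q := by rw [hQ']; exact hx
      have hy2 : y ∈ E'.Q := by rw [hQ']; exact hy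
      have h1 : (⟨x + y, h'⟩ : E'.Q) = ⟨x, hx2⟩ + ⟨y, hy2⟩ := rfl
      have h2 : (⟨x + y, h⟩ : E.Q) = ⟨x, hx1⟩ + ⟨y, hy1⟩ := rfl
      rw [h1, h2, map_add, map_add, ihx hx2 hx1, ihy hy2 hy1]
    | smul a x hx ihx =>
      intro h' h
      have hx1 : x ∈ E.Q := by rw [hQ]; exact hx
      have hx2 : x ∈ E'.Q := by rw [hQ']; exact hx
      have h1 : (⟨a • x, h'⟩ : E'.Q) = a • ⟨x, hx2⟩ := rfl
      have h2 : (⟨a • x, h⟩ : E.Q) = a • ⟨x, hx1⟩ := rfl
      rw [h1, h2, E'.Vinv.map_smulₛₗ, E.Vinv.map_smulₛₗ, ihx hx2 hx1]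
  exact key

end Unique

section Exist

open Groth.Agent.Lib.Seat79.ExtPowSplit Groth.Agent.Lib.Seat79.SemilinExt

variable {P : Type v} [AddCommGroup P] [Module (WittVector p R) P] (D : Display3n p R P)
  (L T : Submodule (WittVector p R) P) (hLT : IsCompl L T) (hQ : D.Q = L ⊔ IV p R • T)
  (e : T ≃ₗ[WittVector p R] WittVector p R)

/-- The exterior power of `Φ`. -/
noncomputable def Ψr (r : ℕ) : ↥(⋀[𝕎]^r P) →ₛₗ[σ] ↥(⋀[𝕎]^r P) :=
  semiMap σ r (Φ D L T hLT hQ)

include e in
theorem span_range_Ψr (r : ℕ) : Submodule.span 𝕎 (Set.range (Ψr D L T hLT hQ r)) = ⊤ := by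
  rw [eq_top_iff, ← exteriorPower.ιMulti_span_of_span 𝕎 r P (span_range_Φ D L T hLT hQ e),
    Submodule.span_le]
  rintro _ ⟨a, ha, rfl⟩
  choose v hv using fun i => ha (Set.mem_range_self i)
  refine Submodule.subset_span ⟨exteriorPower.ιMulti 𝕎 r v, ?_⟩
  unfold Ψr
  rw [semiMap_ιMulti]
  congr 1
  funext i
  exact hv i

/-- The exterior power display in degree `0`. -/
noncomputable def extDisplayZero : Display3n p R ↥(⋀[𝕎]^0 P) :=
  have := D.finite
  have := D.projective
  have := projective_exteriorPower (W := 𝕎) P 0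
  mkDisplay ⊤ ⊥ isCompl_top_bot (Ψr D L T hLT hQ 0) (span_range_Ψr D L T hLT hQ e 0)

theorem isExtPow_zero : IsExtPow D 0 (extDisplayZero D L T hLT hQ e) := by
  have := D.finite
  have := D.projective
  have := projective_exteriorPower (W := 𝕎) P 0
  refine ⟨?_, ?_⟩
  · change ⊤ ⊔ IV p R • ⊥ = _
    rw [top_sup_eq]
    symm
    rw [eq_top_iff, ← exteriorPower.ιMulti_span]
    refine Submodule.span_mono ?_
    rintro _ ⟨v, rfl⟩
    exact ⟨fun i => i.elim0, congrArg (exteriorPower.ιMulti 𝕎 0) (funext fun i => i.elim0)⟩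
  · intro q' hq
    have key : ∀ hq' : exteriorPower.ιMulti 𝕎 0 (fun i => ((q' i : D.Q) : P)) ∈
        (⊤ : Submodule 𝕎 ↥(⋀[𝕎]^0 P)) ⊔ IV p R • ⊥,
        VinvM ⊤ ⊥ isCompl_top_bot (Ψr D L T hLT hQ 0) ⟨_, hq'⟩ =
          exteriorPower.ιMulti 𝕎 0 (fun i => D.Vinv (q' i)) := by
      intro hq'
      rw [VinvM_left _ _ _ _ _ Submodule.mem_top]
      unfold Ψr
      rw [semiMap_ιMulti]
      congr 1
      funext i
      exact i.elim0
    exact key hq

/-- The exterior power display in degree `q + 1`. -/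
noncomputable def extDisplaySucc (q : ℕ) : Display3n p R ↥(⋀[𝕎]^(q + 1) P) :=
  have := D.finite
  have := D.projective
  have := projective_exteriorPower (W := 𝕎) P (q + 1)
  mkDisplay (L' L (q + 1)) (T' L T e q) (isCompl L T hLT e q) (Ψr D L T hLT hQ (q + 1))
    (span_range_Ψr D L T hLT hQ e (q + 1))

theorem isExtPow_succ (q : ℕ) : IsExtPow D (q + 1) (extDisplaySucc D L T hLT hQ e q) := by
  classical
  have := D.finite
  have := D.projective
  have := projective_exteriorPower (W := 𝕎) P (q + 1)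
  refine ⟨?_, ?_⟩
  · change L' L (q + 1) ⊔ IV p R • T' L T e q = _
    rw [← span_wedges L T e (IV p R) q]
    have h : ∀ Q' : Submodule 𝕎 P, Q' = L ⊔ IV p R • T →
        Submodule.span 𝕎 (Set.range fun x : Fin (q + 1) → ↥Q' =>
          exteriorPower.ιMulti 𝕎 (q + 1) (fun i => (x i : P))) =
        Submodule.span 𝕎 (Set.range fun x : Fin (q + 1) → ↥(L ⊔ IV p R • T) =>
          exteriorPower.ιMulti 𝕎 (q + 1) (fun i => (x i : P))) := by
      rintro _ rfl
      rfl
    exact (h D.Q hQ).symm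
  · intro q' hq
    choose l hl w hw using fun j => exists_decomp D L T hQ e (q' j).2
    have h1 : (fun i => ((q' i : D.Q) : P)) = fun j => l j + V (w j) • tt T e := funext hw
    have h2 : exteriorPower.ιMulti 𝕎 (q + 1) (fun i => ((q' i : D.Q) : P)) =
        exteriorPower.ιMulti 𝕎 (q + 1) l +
          ∑ j, V (w j) • exteriorPower.ιMulti 𝕎 (q + 1) (Function.update l j (tt T e)) := by
      rw [h1, alt_expand_univ]
    have h3 : (fun i => D.Vinv (q' i)) =
        fun j => Φ D L T hLT hQ (l j) + w j • Φ D L T hLT hQ (tt T e) :=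
      funext fun j => Vinv_eq D L T hLT hQ _ (q' j).2 (l j) (tt T e) (w j) (hl j) (tt_mem T e) (hw j)
    rw [h3, alt_expand_univ]
    have hmem : ∀ j, exteriorPower.ιMulti 𝕎 (q + 1) (Function.update l j (tt T e)) ∈
        T' L T e q := by
      intro j
      rw [ιMulti_update_eq]
      exact Submodule.smul_of_tower_mem _ _ (cons_mem_T' L T e q _ fun i => hl _)
    have key : ∀ hq' : exteriorPower.ιMulti 𝕎 (q + 1) (fun i => ((q' i : D.Q) : P)) ∈
        L' L (q + 1) ⊔ IV p R • T' L T e q,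
        VinvM (L' L (q + 1)) (T' L T e q) (isCompl L T hLT e q) (Ψr D L T hLT hQ (q + 1))
          ⟨_, hq'⟩ =
        exteriorPower.ιMulti 𝕎 (q + 1) (fun j => Φ D L T hLT hQ (l j)) +
          ∑ j, w j • exteriorPower.ιMulti 𝕎 (q + 1)
            (Function.update (fun j => Φ D L T hLT hQ (l j)) j (Φ D L T hLT hQ (tt T e))) := by
      intro hq'
      rw [VinvM_sum (L' L (q + 1)) (T' L T e q) (isCompl L T hLT e q) (Ψr D L T hLT hQ (q + 1))
        Finset.univ _ _ (exteriorPower.ιMulti 𝕎 (q + 1) l)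
        (fun j => exteriorPower.ιMulti 𝕎 (q + 1) (Function.update l j (tt T e))) w
        (ιMulti_mem_L' L _ l hl) hmem h2]
      unfold Ψr
      rw [semiMap_ιMulti]
      congr 1
      refine Finset.sum_congr rfl fun j _ => ?_
      rw [semiMap_ιMulti]
      congr 2
      funext i
      by_cases hij : i = j
      · subst hij; simp
      · simp [hij]
    exact key hq

end Exist

end Groth.Agent.Lib.Seat79.DispExt
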