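import Mathlib.LinearAlgebra.Contraction
import Mathlib.LinearAlgebra.LeftExact
import Mathlib.Algebra.Module.FinitePresentation
import Mathlib.RingTheory.Flat.Basic

/-! # `Hom(M, R) ⊗ N → Hom(M, N)` is bijective for `M` finitely presented and `N` flat (seat 79) -/

set_option autoImplicit false
universe u v w

namespace Groth.Agent.Lib.Seat79.DualFlat

open TensorProduct

variable {R : Type u} [CommRing R] {M : Type v} [AddCommGroup M] [Module R M]
  {N : Type w} [AddCommGroup N] [Module R N]

/-- Naturality of `dualTensorHom` in the source, with `lcomp` for the dual map. -/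
theorem dualTensorHom_rTensor_lcomp {F : Type*} [AddCommGroup F] [Module R F] (f : F →ₗ[R] M)
    (x : Module.Dual R M ⊗[R] N) :
    dualTensorHom R F N ((LinearMap.lcomp R R f).rTensor N x) = dualTensorHom R M N x ∘ₗ f := by
  induction x using TensorProduct.induction_on with
  | zero => simp
  | add x y hx hy => simp only [map_add, hx, hy, LinearMap.add_comp]
  | tmul g n =>
    apply LinearMap.ext
    intro v
    simp [dualTensorHom_apply]

/-- For `M` finitely presented and `N` flat, the canonical map `M^* ⊗ N → Hom(M, N)` is bijective. -/
theorem dualTensorHom_bijective_of_fp_flat [Module.FinitePresentation R M] [Module.Flat R N] :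
    Function.Bijective (dualTensorHom R M N) := by
  obtain ⟨n, m, f, g, hf, hfg⟩ := Module.FinitePresentation.exists_fin' R M
  have hF : Function.Bijective (dualTensorHom R (Fin n → R) N) := dualTensorHom_bijective
  have hG : Function.Bijective (dualTensorHom R (Fin m → R) N) := dualTensorHom_bijective
  -- the dual sequence `0 → M^* → F^* → G^*` is exact
  have hinj : Function.Injective (LinearMap.lcomp R R f) :=
    LinearMap.lcomp_injective_of_surjective f hf
  have hex : Function.Exact (LinearMap.lcomp R R f) (LinearMap.lcomp R R g) :=
    LinearMap.exact_lcomp_of_exact_of_surjective R hfg hf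
  have hinjN : Function.Injective ((LinearMap.lcomp R R f).rTensor N) :=
    Module.Flat.rTensor_preserves_injective_linearMap _ hinj
  have hexN : Function.Exact ((LinearMap.lcomp R R f).rTensor N) ((LinearMap.lcomp R R g).rTensor N) :=
    Module.Flat.rTensor_exact N hex
  constructor
  · -- injectivity
    intro x₁ x₂ h12
    have hx : dualTensorHom R M N (x₁ - x₂) = 0 := by rw [map_sub, h12, sub_self]
    have h0 : x₁ - x₂ = 0 := by
      apply hinjN
      apply hF.1
      rw [dualTensorHom_rTensor_lcomp, hx, map_zero, map_zero, LinearMap.zero_comp]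
    exact sub_eq_zero.1 h0
  · -- surjectivity
    intro h
    obtain ⟨y, hy⟩ := hF.2 (h ∘ₗ f)
    have hy0 : (LinearMap.lcomp R R g).rTensor N y = 0 := by
      apply hG.1
      rw [dualTensorHom_rTensor_lcomp, hy, map_zero, LinearMap.comp_assoc,
        hfg.linearMap_comp_eq_zero, LinearMap.comp_zero]
    obtain ⟨x, hx⟩ := (hexN y).1 hy0
    refine ⟨x, ?_⟩
    apply LinearMap.ext
    intro v
    obtain ⟨w, rfl⟩ := hf v
    have := dualTensorHom_rTensor_lcomp (N := N) f x
    rw [hx, hy] at this
    exact (LinearMap.congr_fun this w).symm

end Groth.Agent.Lib.Seat79.DualFlat
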