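import Groth.Agent.Lib.Helper6Deligne2
import Groth.Agent.Lib.Helper6Hopf6

/-!
# Étale-étale finite commutative group schemes over a field (ring level)

For a finite-dimensional commutative cocommutative Hopf algebra `A` over a field `k`:

* `tauEquiv` is the shearing automorphism `a ⊗ b ↦ Δ(a) (1 ⊗ b)` of `A ⊗ A`;
* `trace_convMul_trace`: the trace form `Tr : A → k`, seen in the dual `D k A`, satisfies
  `Tr * Tr = (dim A) • Tr` (it is an integral of the dual);
* `exists_integral_of_etale`: if `A` is étale there is an idempotent `e` with `a * e = ε(a) e`, `ε e = 1`,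
  hence `Tr e = 1`;
* `finrank_ne_zero_of_etale`: if `A` and `D k A` are étale then `dim A` is non-zero in `k`.
-/

set_option autoImplicit false

namespace Groth.Agent.Lib.Seat79.EtEt

open Coalgebra TensorProduct WithConv
open Groth.Agent.Lib.Helper6.Deligne Groth.Agent.Lib.Helper6.Hopf

universe u

section Tau

variable {k : Type u} [Field k] {A : Type u} [CommRing A] [HopfAlgebra k A]

/-- The shearing automorphism `a ⊗ b ↦ Δ(a) (1 ⊗ b)` of `A ⊗ A`. -/
noncomputable def tauEquiv : A ⊗[k] A ≃ₐ[k] A ⊗[k] A :=
  AlgEquiv.ofAlgHom (tau (toConv (AlgHom.id k A))) (tau (toConv (AlgHom.id k A))⁻¹)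
    (by rw [tau_comp_tau, mul_inv_cancel, tau_one]) (by rw [tau_comp_tau, inv_mul_cancel, tau_one])

lemma tauEquiv_tmul_one (a : A) : tauEquiv (k := k) (a ⊗ₜ[k] (1 : A)) = comul (R := k) a := by
  change tau (toConv (AlgHom.id k A)) (i₁ a) = _
  have h := congrArg (fun φ => φ a) (tau_comp_i₁ (R := k) (toConv (AlgHom.id k A)))
  simp only [AlgHom.comp_apply] at h
  rw [h]
  change (toConv (i₁ (R := k) (A := A)) * toConv ((i₂ (R := k) (A := A)).comp (AlgHom.id k A))) a = _
  rw [AlgHom.convMul_apply]
  simp only [AlgHom.comp_id]
  rw [Algebra.TensorProduct.lift_includeLeft_includeRight]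
  rfl

end Tau

section Trace

variable {k : Type u} [Field k] {A : Type u} [CommRing A] [HopfAlgebra k A] [Module.Finite k A]

omit [Module.Finite k A] in
lemma trace_tmul [Module.Finite k A] (a b : A) :
    Algebra.trace k (A ⊗[k] A) (a ⊗ₜ[k] b) = Algebra.trace k A a * Algebra.trace k A b := by
  rw [Algebra.trace_apply, Algebra.trace_apply, Algebra.trace_apply,
    ← LinearMap.trace_tensorProduct']
  congr 1
  apply TensorProduct.ext'
  intro x y
  simp [Algebra.TensorProduct.tmul_mul_tmul]

/-- The trace of `A ⊗ A` as `Tr ⊗ Tr`. -/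
lemma trace_tensor_eq :
    (Algebra.trace k (A ⊗[k] A)) =
      LinearMap.mul' k k ∘ₗ TensorProduct.map (Algebra.trace k A) (Algebra.trace k A) := by
  apply TensorProduct.ext'
  intro a b
  rw [trace_tmul]
  simp

/-- The trace form is an integral of the dual: `Tr * Tr = (dim A) • Tr` in the convolution algebra. -/
theorem trace_convMul_trace :
    (toConv (Algebra.trace k A) : CartDual.D k A) * toConv (Algebra.trace k A) =
      (Module.finrank k A : k) • (toConv (Algebra.trace k A) : CartDual.D k A) := by
  apply WithConv.ext
  apply LinearMap.ext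
  intro a
  rw [LinearMap.convMul_def]
  simp only [LinearMap.coe_comp, Function.comp_apply, WithConv.ofConv_smul,
    LinearMap.smul_apply]
  have h1 : LinearMap.mul' k k (TensorProduct.map (Algebra.trace k A) (Algebra.trace k A)
      (comul (R := k) a)) = Algebra.trace k (A ⊗[k] A) (comul (R := k) a) := by
    rw [trace_tensor_eq]; rfl
  have h2 : Algebra.trace k A (1 : A) = (Module.finrank k A : k) := by
    have := Algebra.trace_algebraMap (R := k) (S := A) (1 : k)
    rw [map_one] at this
    rw [this, nsmul_eq_mul, mul_one]
  rw [h1, ← tauEquiv_tmul_one, Algebra.trace_eq_of_algEquiv, trace_tmul, h2, smul_eq_mul,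
    mul_comm]

end Trace

section Integral

variable {k : Type u} [Field k] {A : Type u} [CommRing A] [HopfAlgebra k A] [Module.Finite k A]

/-- An étale finite Hopf algebra over a field has an idempotent integral: the idempotent cutting out the unit
section. -/
lemma exists_integral_of_etale [Algebra.Etale k A] :
    ∃ e : A, counit (R := k) e = 1 ∧ ∀ a : A, a * e = counit (R := k) a • e := by
  have hI : augR k A ^ 2 = augR k A := etale_iff_augR_sq.1 inferInstance
  have : IsNoetherianRing A := IsNoetherianRing.of_finite k A
  have hfg : (augR k A).FG := IsNoetherian.noetherian _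
  have hid : IsIdempotentElem (augR k A) := by rw [IsIdempotentElem, ← pow_two, hI]
  obtain ⟨f, hf, hIf⟩ := (Ideal.isIdempotentElem_iff_of_fg _ hfg).1 hid
  refine ⟨1 - f, ?_, ?_⟩
  · have hfm : f ∈ augR k A := by rw [hIf]; exact Ideal.mem_span_singleton_self f
    rw [mem_augR] at hfm
    rw [map_sub, hfm, sub_zero]
    exact Bialgebra.counit_one
  · intro a
    have hm : a - algebraMap k A (counit (R := k) a) ∈ augR k A := sub_counit_mem_augR a
    rw [hIf, Ideal.mem_span_singleton'] at hm
    obtain ⟨g, hg⟩ := hm
    have h0 : (a - algebraMap k A (counit (R := k) a)) * (1 - f) = 0 := by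
      rw [← hg, mul_assoc, mul_sub, mul_one, hf.eq, sub_self, mul_zero]
    rw [sub_mul, sub_eq_zero] at h0
    rw [h0, Algebra.smul_def]

/-- If `A` is étale, the trace form of `A` is non-zero: it takes the value one on the idempotent integral. -/
lemma exists_trace_eq_one_of_etale [Algebra.Etale k A] : ∃ e : A, Algebra.trace k A e = 1 := by
  obtain ⟨e, he1, he⟩ := exists_integral_of_etale (k := k) (A := A)
  refine ⟨e, ?_⟩
  rw [Algebra.trace_apply]
  have : Algebra.lmul k A e = (counit (R := k) : A →ₗ[k] k).smulRight e := by
    apply LinearMap.ext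
    intro a
    rw [LinearMap.smulRight_apply]
    change e * a = _
    rw [mul_comm, he]
  rw [this, LinearMap.trace_smulRight, he1]

end Integral

section Main

variable {k : Type u} [Field k] {A : Type u} [CommRing A] [HopfAlgebra k A]
  [Coalgebra.IsCocomm k A] [Module.Finite k A]

/-- If a finite commutative cocommutative Hopf algebra over a field and its dual are both étale, then the
dimension is invertible in the field. -/
theorem finrank_ne_zero_of_etale [Algebra.Etale k A] [Algebra.Etale k (CartDual.D k A)] :
    (Module.finrank k A : k) ≠ 0 := by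
  intro h0
  have hred : IsReduced (CartDual.D k A) :=
    Algebra.FormallyUnramified.isReduced_of_field k (CartDual.D k A)
  have hsq : (toConv (Algebra.trace k A) : CartDual.D k A) ^ 2 = 0 := by
    rw [pow_two, trace_convMul_trace, h0, zero_smul]
  have hz : (toConv (Algebra.trace k A) : CartDual.D k A) = 0 := IsReduced.eq_zero _ ⟨2, hsq⟩
  obtain ⟨e, he⟩ := exists_trace_eq_one_of_etale (k := k) (A := A)
  have := congrArg (fun x : CartDual.D k A => x.ofConv e) hz
  simp only [WithConv.ofConv_zero, LinearMap.zero_apply] at this
  rw [he] at this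
  exact one_ne_zero this

/-- If the dimension is invertible in the field, then `A` and its dual are étale. -/
theorem etale_and_etale_dual_of_finrank_ne_zero (h : (Module.finrank k A : k) ≠ 0) :
    Algebra.Etale k A ∧ Algebra.Etale k (CartDual.D k A) := by
  refine ⟨etale_of_finrank_ne_zero h, ?_⟩
  apply etale_of_finrank_ne_zero
  rw [finrank_dual]
  exact h

end Main

end Groth.Agent.Lib.Seat79.EtEt
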