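import Mathlib.LinearAlgebra.ExteriorAlgebra.Basic
import Mathlib.RingTheory.TensorProduct.Basic
import Mathlib.Algebra.Algebra.Bilinear

/-!
# Left multiplication operators on `S ⊗[R] ExteriorAlgebra R M` (seat 79)

`R → S` commutative rings, `M` an `R`-module, `B = S ⊗[R] ExteriorAlgebra R M` (an `S`-algebra).

* `j : S ⊗[R] M →ₗ[S] B`, the base change of `ι`; `j_anticomm`, `j_sq`;
* for `v₀ : M`, `hat v₀ = 1 ⊗ₜ ι v₀`, `K v₀ = hat v₀ * B` (an `S`-submodule of `B`) and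
  `L v₀ : S ⊗[R] M →ₗ[S] Module.End S (K v₀)`, left multiplication by `j a`;
  `L_sq : L a * L a = 0`, `L_hat : L (1 ⊗ₜ v₀) = 0`, `prod_L_apply`.
-/

set_option autoImplicit false
universe u v w

open TensorProduct

namespace Groth.Agent.Lib.Seat79.ExtBaseChange

variable (R : Type u) (S : Type v) (M : Type w) [CommRing R] [CommRing S] [Algebra R S]
  [AddCommGroup M] [Module R M]

/-- The base change of `ι`. -/
noncomputable def j : S ⊗[R] M →ₗ[S] S ⊗[R] ExteriorAlgebra R M :=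
  (ExteriorAlgebra.ι R).baseChange S

variable {R S M}

@[simp]
theorem j_tmul (s : S) (m : M) : j R S M (s ⊗ₜ[R] m) = s ⊗ₜ[R] ExteriorAlgebra.ι R m :=
  LinearMap.baseChange_tmul _ _ _

theorem j_anticomm (a b : S ⊗[R] M) : j R S M a * j R S M b + j R S M b * j R S M a = 0 := by
  induction a using TensorProduct.induction_on with
  | zero => simp
  | add a₁ a₂ h₁ h₂ =>
    rw [map_add, add_mul, mul_add, add_add_add_comm, h₁, h₂, add_zero]
  | tmul s m =>
    induction b using TensorProduct.induction_on with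
    | zero => simp
    | add b₁ b₂ h₁ h₂ =>
      rw [map_add, add_mul, mul_add, add_add_add_comm, h₁, h₂, add_zero]
    | tmul s' m' =>
      rw [j_tmul, j_tmul, Algebra.TensorProduct.tmul_mul_tmul, Algebra.TensorProduct.tmul_mul_tmul,
        mul_comm s' s, ← TensorProduct.tmul_add, ExteriorAlgebra.ι_add_mul_swap,
        TensorProduct.tmul_zero]

theorem j_sq (a : S ⊗[R] M) : j R S M a * j R S M a = 0 := by
  induction a using TensorProduct.induction_on with
  | zero => simp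
  | add a₁ a₂ h₁ h₂ =>
    rw [map_add, add_mul, mul_add, mul_add, h₁, h₂, zero_add, add_zero, j_anticomm]
  | tmul s m =>
    rw [j_tmul, Algebra.TensorProduct.tmul_mul_tmul, ExteriorAlgebra.ι_sq_zero,
      TensorProduct.tmul_zero]

variable (R S) in
/-- The element `1 ⊗ ι v₀`. -/
noncomputable def hat (v₀ : M) : S ⊗[R] ExteriorAlgebra R M := j R S M (1 ⊗ₜ[R] v₀)

theorem hat_eq (v₀ : M) : hat R S v₀ = (1 : S) ⊗ₜ[R] ExteriorAlgebra.ι R v₀ := j_tmul _ _

variable (R S) in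
/-- The right ideal `hat v₀ * B`, as an `S`-submodule. -/
noncomputable def K (v₀ : M) : Submodule S (S ⊗[R] ExteriorAlgebra R M) :=
  LinearMap.range (LinearMap.mulLeft S (hat R S v₀))

theorem hat_mul_mem (v₀ : M) (b : S ⊗[R] ExteriorAlgebra R M) : hat R S v₀ * b ∈ K R S v₀ :=
  ⟨b, rfl⟩

theorem hat_mem (v₀ : M) : hat R S v₀ ∈ K R S v₀ := ⟨1, by simp⟩

theorem j_mul_mem (v₀ : M) (a : S ⊗[R] M) {k : S ⊗[R] ExteriorAlgebra R M} (hk : k ∈ K R S v₀) :
    j R S M a * k ∈ K R S v₀ := by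
  obtain ⟨b, rfl⟩ := hk
  refine ⟨-(j R S M a * b), ?_⟩
  have h := j_anticomm (1 ⊗ₜ[R] v₀ : S ⊗[R] M) a
  change hat R S v₀ * j R S M a + j R S M a * hat R S v₀ = 0 at h
  rw [LinearMap.mulLeft_apply, LinearMap.mulLeft_apply, mul_neg, ← mul_assoc, ← mul_assoc,
    eq_neg_of_add_eq_zero_left h, neg_mul, neg_neg]

theorem hat_mul_eq_zero (v₀ : M) {k : S ⊗[R] ExteriorAlgebra R M} (hk : k ∈ K R S v₀) :
    hat R S v₀ * k = 0 := by
  obtain ⟨b, rfl⟩ := hk
  rw [LinearMap.mulLeft_apply, ← mul_assoc]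
  change j R S M (1 ⊗ₜ[R] v₀) * j R S M (1 ⊗ₜ[R] v₀) * b = 0
  rw [j_sq, zero_mul]

variable (R S) in
/-- Left multiplication by `j a` on `K v₀`. -/
noncomputable def L (v₀ : M) : S ⊗[R] M →ₗ[S] Module.End S (K R S v₀) where
  toFun a := (LinearMap.mulLeft S (j R S M a)).restrict (fun _ hk => j_mul_mem v₀ a hk)
  map_add' a b := by
    ext k
    change j R S M (a + b) * (k : S ⊗[R] ExteriorAlgebra R M) =
      j R S M a * (k : S ⊗[R] ExteriorAlgebra R M) + j R S M b * (k : S ⊗[R] ExteriorAlgebra R M)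
    rw [map_add, add_mul]
  map_smul' s a := by
    ext k
    change j R S M (s • a) * (k : S ⊗[R] ExteriorAlgebra R M) =
      s • (j R S M a * (k : S ⊗[R] ExteriorAlgebra R M))
    rw [map_smul, smul_mul_assoc]

@[simp]
theorem L_apply_coe (v₀ : M) (a : S ⊗[R] M) (k : K R S v₀) :
    ((L R S v₀ a k : K R S v₀) : S ⊗[R] ExteriorAlgebra R M) = j R S M a * k := rfl

theorem L_tmul_smul (v₀ : M) (r : R) (s : S) (m : M) :
    L R S v₀ (s ⊗ₜ[R] (r • m)) = algebraMap R S r • L R S v₀ (s ⊗ₜ[R] m) := by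
  rw [← map_smul, ← TensorProduct.smul_tmul, TensorProduct.smul_tmul', Algebra.smul_def,
    smul_eq_mul]

theorem L_sq (v₀ : M) (a : S ⊗[R] M) : L R S v₀ a * L R S v₀ a = 0 := by
  ext k
  rw [Module.End.mul_apply, L_apply_coe, L_apply_coe, ← mul_assoc, j_sq, zero_mul]
  rfl

theorem L_hat (v₀ : M) : L R S v₀ (1 ⊗ₜ[R] v₀) = 0 := by
  ext k
  rw [L_apply_coe]
  exact hat_mul_eq_zero v₀ k.2

theorem prod_L_apply (v₀ : M) : ∀ (n : ℕ) (a : Fin n → S ⊗[R] M) (k : K R S v₀),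
    (((List.ofFn fun i => L R S v₀ (a i)).prod k : K R S v₀) : S ⊗[R] ExteriorAlgebra R M) =
      (List.ofFn fun i => j R S M (a i)).prod * k
  | 0, a, k => by simp
  | n + 1, a, k => by
    rw [List.ofFn_succ, List.prod_cons, List.ofFn_succ, List.prod_cons, Module.End.mul_apply,
      L_apply_coe, prod_L_apply v₀ n, mul_assoc]

end Groth.Agent.Lib.Seat79.ExtBaseChange
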