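import Groth.Prelude.Def_ComodSub
import Groth.Agent.Lib.Seat79DualFlat

/-! # The left dual comodule of a finitely presented comodule over a flat coalgebra (seat 79) -/

set_option autoImplicit false
set_option linter.unusedSectionVars false
universe u v w

namespace Groth.Agent.Lib.Seat79.LDual

open TensorProduct Groth.Agent.Lib.Seat79.DualFlat

variable {k : Type u} [CommRing k] {A : Type v} [AddCommGroup A] [Module k A] [Coalgebra k A]
  {M : Type w} [AddCommGroup M] [Module k M]

/-- `g ↦ ldualFun c g` as a linear map. -/
noncomputable def ldualL (c : HopfRep.Comod k A M) : Module.Dual k M →ₗ[k] (M →ₗ[k] A) where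
  toFun g := ComodSub.ldualFun c g
  map_add' g h := by
    unfold ComodSub.ldualFun
    rw [LinearMap.rTensor_add, LinearMap.add_comp, LinearMap.comp_add]
  map_smul' r g := by
    unfold ComodSub.ldualFun
    rw [LinearMap.rTensor_smul, LinearMap.smul_comp, LinearMap.comp_smul]
    rfl

@[simp] theorem ldualL_apply (c : HopfRep.Comod k A M) (g : Module.Dual k M) :
    ldualL c g = ComodSub.ldualFun c g := rfl

section Claims

variable (g : Module.Dual k M)

/-- Claim C1. -/
theorem c1 (u : (M ⊗[k] A) ⊗[k] A) :
    ((TensorProduct.lid k A).toLinearMap.rTensor A) ((g.rTensor A).rTensor A u) =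
      TensorProduct.lid k (A ⊗[k] A) ((g.rTensor (A ⊗[k] A)) (TensorProduct.assoc k M A A u)) := by
  induction u using TensorProduct.induction_on with
  | zero => simp
  | add x y hx hy => simp only [map_add, hx, hy]
  | tmul x b =>
    induction x using TensorProduct.induction_on with
    | zero => simp
    | add x y hx hy => simp only [map_add, TensorProduct.add_tmul, hx, hy]
    | tmul m a =>
      simp [TensorProduct.smul_tmul']

/-- Claim C2. -/
theorem c2 (y : M ⊗[k] A) :
    TensorProduct.lid k (A ⊗[k] A) ((g.rTensor (A ⊗[k] A))
        ((CoalgebraStruct.comul (R := k) (A := A)).lTensor M y)) =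
      CoalgebraStruct.comul (R := k) (A := A) (TensorProduct.lid k A ((g.rTensor A) y)) := by
  induction y using TensorProduct.induction_on with
  | zero => simp
  | add x y hx hy => simp only [map_add, hx, hy]
  | tmul m a => simp

/-- Claim C3. -/
theorem c3 (y : M ⊗[k] A) :
    CoalgebraStruct.counit (R := k) (A := A) (TensorProduct.lid k A ((g.rTensor A) y)) =
      TensorProduct.lid k k ((g.rTensor k) ((CoalgebraStruct.counit (R := k) (A := A)).lTensor M y)) := by
  induction y using TensorProduct.induction_on with
  | zero => simp
  | add x y hx hy => simp only [map_add, hx, hy]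
  | tmul m a => simp

end Claims

/-- The test map `A ⊗ (A ⊗ M^*) → Hom(M, A ⊗ A)`, `a ⊗ (b ⊗ φ) ↦ (m ↦ φ(m) (a ⊗ b))`. -/
noncomputable def test2 : A ⊗[k] (A ⊗[k] Module.Dual k M) →ₗ[k] (M →ₗ[k] A ⊗[k] A) :=
  dualTensorHom k M (A ⊗[k] A) ∘ₗ (TensorProduct.comm k (A ⊗[k] A) (Module.Dual k M)).toLinearMap ∘ₗ
    (TensorProduct.assoc k A A (Module.Dual k M)).symm.toLinearMap

theorem test2_tmul_tmul (a b : A) (φ : Module.Dual k M) (m : M) :
    test2 (a ⊗ₜ[k] (b ⊗ₜ[k] φ)) m = φ m • (a ⊗ₜ[k] b) := by
  simp [test2]

/-- Claim L1. -/
theorem test2_tmul_comm (a : A) (w : Module.Dual k M ⊗[k] A) (m : M) :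
    test2 (a ⊗ₜ[k] (TensorProduct.comm k (Module.Dual k M) A w)) m =
      a ⊗ₜ[k] (dualTensorHom k M A w m) := by
  induction w using TensorProduct.induction_on with
  | zero => simp
  | add x y hx hy =>
    simp only [map_add, TensorProduct.tmul_add, LinearMap.add_apply, hx, hy]
  | tmul φ b =>
    rw [TensorProduct.comm_tmul, test2_tmul_tmul, dualTensorHom_apply, TensorProduct.tmul_smul]

theorem test2_injective [Module.FinitePresentation k M] [Module.Flat k A] :
    Function.Injective (test2 (k := k) (A := A) (M := M)) := by
  unfold test2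
  rw [LinearMap.coe_comp, LinearMap.coe_comp]
  refine Function.Injective.comp ?_ (Function.Injective.comp ?_ ?_)
  · exact (dualTensorHom_bijective_of_fp_flat (R := k) (M := M) (N := A ⊗[k] A)).1
  · exact (TensorProduct.comm k (A ⊗[k] A) (Module.Dual k M)).injective
  · exact (TensorProduct.assoc k A A (Module.Dual k M)).symm.injective

section Construction

variable [Module.FinitePresentation k M] [Module.Flat k A]

/-- The equivalence `M^* ⊗ A ≃ Hom(M, A)`. -/
noncomputable def phiEquiv : (Module.Dual k M ⊗[k] A) ≃ₗ[k] (M →ₗ[k] A) :=
  LinearEquiv.ofBijective (dualTensorHom k M A) dualTensorHom_bijective_of_fp_flat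

/-- The right-handed form `M^* → M^* ⊗ A` of the left dual coaction. -/
noncomputable def rcoact (c : HopfRep.Comod k A M) : Module.Dual k M →ₗ[k] Module.Dual k M ⊗[k] A :=
  (phiEquiv (k := k) (A := A) (M := M)).symm.toLinearMap ∘ₗ ldualL c

theorem dualTensorHom_rcoact (c : HopfRep.Comod k A M) (g : Module.Dual k M) :
    dualTensorHom k M A (rcoact c g) = ComodSub.ldualFun c g := by
  unfold rcoact
  rw [LinearMap.comp_apply, LinearEquiv.coe_coe]
  exact (phiEquiv (k := k) (A := A) (M := M)).apply_symm_apply _

/-- The left dual coaction `M^* → A ⊗ M^*`. -/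
noncomputable def lcoact (c : HopfRep.Comod k A M) : Module.Dual k M →ₗ[k] A ⊗[k] Module.Dual k M :=
  (TensorProduct.comm k (Module.Dual k M) A).toLinearMap ∘ₗ rcoact c

theorem comm_lcoact (c : HopfRep.Comod k A M) (g : Module.Dual k M) :
    TensorProduct.comm k A (Module.Dual k M) (lcoact c g) = rcoact c g := by
  unfold lcoact
  rw [LinearMap.comp_apply, LinearEquiv.coe_coe]
  exact (TensorProduct.comm k (Module.Dual k M) A).symm_apply_apply _

/-- Claim L2: the test map on `(id ⊗ λ)(comm z)`. -/
theorem test2_lTensor_lcoact (c : HopfRep.Comod k A M) (z : Module.Dual k M ⊗[k] A) (m : M) :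
    test2 ((lcoact c).lTensor A (TensorProduct.comm k (Module.Dual k M) A z)) m =
      (dualTensorHom k M A z).rTensor A (c.coact m) := by
  induction z using TensorProduct.induction_on with
  | zero => simp
  | add x y hx hy =>
    simp only [map_add, LinearMap.add_apply, hx, hy, LinearMap.rTensor_add]
  | tmul φ a =>
    rw [TensorProduct.comm_tmul, LinearMap.lTensor_tmul]
    unfold lcoact
    rw [LinearMap.comp_apply, LinearEquiv.coe_coe, test2_tmul_comm, dualTensorHom_rcoact,
      ComodSub.ldualFun_apply]
    generalize c.coact m = y
    induction y using TensorProduct.induction_on with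
    | zero => simp
    | add x y hx hy => simp only [map_add, TensorProduct.tmul_add, hx, hy]
    | tmul m' b =>
      simp [TensorProduct.smul_tmul', TensorProduct.tmul_smul]

theorem test2_assoc_rTensor_comul (x : A ⊗[k] Module.Dual k M) (m : M) :
    test2 (TensorProduct.assoc k A A (Module.Dual k M)
        ((CoalgebraStruct.comul (R := k) (A := A)).rTensor (Module.Dual k M) x)) m =
      CoalgebraStruct.comul (R := k) (A := A)
        (dualTensorHom k M A (TensorProduct.comm k A (Module.Dual k M) x) m) := by
  induction x using TensorProduct.induction_on with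
  | zero => simp
  | add x y hx hy => simp only [map_add, LinearMap.add_apply, hx, hy]
  | tmul a φ =>
    simp only [test2, LinearMap.rTensor_tmul, LinearMap.comp_apply, LinearEquiv.coe_coe,
      LinearEquiv.symm_apply_apply, TensorProduct.comm_tmul, dualTensorHom_apply, map_smul]

/-- The left dual comodule structure. -/
@[reducible] noncomputable def ldualLComod (c : HopfRep.Comod k A M) :
    ComodSub.LComod k A (Module.Dual k M) where
  coact := lcoact c
  coassoc := by
    apply LinearMap.ext
    intro g
    apply test2_injective (k := k) (A := A) (M := M)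
    apply LinearMap.ext
    intro m
    simp only [LinearMap.comp_apply, LinearEquiv.coe_coe]
    rw [test2_assoc_rTensor_comul, comm_lcoact, dualTensorHom_rcoact]
    have h1 : lcoact c g = TensorProduct.comm k (Module.Dual k M) A (rcoact c g) := rfl
    rw [h1, test2_lTensor_lcoact, dualTensorHom_rcoact]
    -- now a statement about `ρ` only
    have hc := LinearMap.congr_fun c.coassoc m
    simp only [LinearMap.comp_apply, LinearEquiv.coe_coe] at hc
    rw [ComodSub.ldualFun_apply, ← c2, ← hc, ← c1]
    unfold ComodSub.ldualFun
    rw [LinearMap.rTensor_comp, LinearMap.rTensor_comp]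
    rfl
  counit_comp := by
    apply LinearMap.ext
    intro g
    have hinj : Function.Injective
        (dualTensorHom k M k ∘ₗ (TensorProduct.comm k k (Module.Dual k M)).toLinearMap) := by
      rw [LinearMap.coe_comp]
      exact Function.Injective.comp
        (dualTensorHom_bijective_of_fp_flat (R := k) (M := M) (N := k)).1
        (TensorProduct.comm k k (Module.Dual k M)).injective
    apply hinj
    apply LinearMap.ext
    intro m
    have key : ∀ x : A ⊗[k] Module.Dual k M,
        dualTensorHom k M k (TensorProduct.comm k k (Module.Dual k M)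
          ((CoalgebraStruct.counit (R := k) (A := A)).rTensor (Module.Dual k M) x)) m =
        CoalgebraStruct.counit (R := k) (A := A)
          (dualTensorHom k M A (TensorProduct.comm k A (Module.Dual k M) x) m) := by
      intro x
      induction x using TensorProduct.induction_on with
      | zero => simp
      | add x y hx hy => simp only [map_add, LinearMap.add_apply, hx, hy]
      | tmul a φ => simp
    simp only [LinearMap.comp_apply, LinearEquiv.coe_coe]
    rw [key, comm_lcoact, dualTensorHom_rcoact, ComodSub.ldualFun_apply, c3]
    have hc := LinearMap.congr_fun c.counit_comp m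
    simp only [LinearMap.comp_apply, LinearMap.flip_apply, TensorProduct.mk_apply] at hc
    rw [hc]
    simp

theorem isLDual_ldualLComod (c : HopfRep.Comod k A M) :
    ComodSub.LComod.IsLDual c (ldualLComod c) := by
  intro g
  change dualTensorHom k M A (TensorProduct.comm k A (Module.Dual k M) (lcoact c g)) = _
  rw [comm_lcoact, dualTensorHom_rcoact]

end Construction

end Groth.Agent.Lib.Seat79.LDual
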