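import Mathlib
import Groth.Prelude.Def_LogDiff

/-!
# The log differentials of affine space along `t₁ ⋯ t_r` are free (seat 79)

For `P = R[t₁, …, t_n]`, `r ≤ n` and a pinned module `(L, ι, dl)` of differentials with logarithmic poles along
`t₁, …, t_r` (`LogDiff.IsLog`), the family `vv ν = dl ν` (`ν < r`), `vv ν = ι (d t_ν)` (`ν ≥ r`) is a basis of `L`
(`vbasis`).  Also `ι (d t_ν) = τ' ν • vv ν` with `τ' ν = t_ν` for `ν < r` and `1` otherwise (`ι_D_X`), and the
expansion `ι (d b) = Σ_ν (∂_ν b * τ' ν) • vv ν` (`ι_D_eq_sum`).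
-/

set_option autoImplicit false
universe u

open MvPolynomial

namespace Groth.Agent.Lib.Seat79.LogAff

variable {R : Type u} [CommRing R] {n r : ℕ} (hr : r ≤ n)
  {L : Type u} [AddCommGroup L] [Module (MvPolynomial (Fin n) R) L]
  (ι : (Ω[MvPolynomial (Fin n) R⁄R]) →ₗ[MvPolynomial (Fin n) R] L) (dl : Fin r → L)

/-- The candidate basis: `dl ν` for `ν < r`, `ι (d t_ν)` for `ν ≥ r`. -/
noncomputable def vv (ν : Fin n) : L :=
  if h : (ν : ℕ) < r then dl ⟨ν, h⟩
  else ι (KaehlerDifferential.D R (MvPolynomial (Fin n) R) (X ν))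

/-- `t_ν` for `ν < r`, `1` for `ν ≥ r`. -/
noncomputable def τ' (R : Type u) [CommRing R] {n : ℕ} (r : ℕ) (ν : Fin n) : MvPolynomial (Fin n) R :=
  if (ν : ℕ) < r then X ν else 1

omit [AddCommGroup L] [Module (MvPolynomial (Fin n) R) L] in
theorem castLE_mk (ν : Fin n) (h : (ν : ℕ) < r) : Fin.castLE hr ⟨ν, h⟩ = ν := Fin.ext rfl

theorem vv_castLE (i : Fin r) : vv ι dl (Fin.castLE hr i) = dl i := by
  unfold vv
  have h : ((Fin.castLE hr i : Fin n) : ℕ) < r := by simp
  rw [dif_pos h]
  rfl

theorem vv_of_lt (ν : Fin n) (h : (ν : ℕ) < r) : vv ι dl ν = dl ⟨ν, h⟩ := by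
  unfold vv; rw [dif_pos h]

theorem vv_of_le (ν : Fin n) (h : r ≤ (ν : ℕ)) :
    vv ι dl ν = ι (KaehlerDifferential.D R (MvPolynomial (Fin n) R) (X ν)) := by
  unfold vv; rw [dif_neg (not_lt.2 h)]

variable (hL : LogDiff.IsLog (KaehlerDifferential.D R (MvPolynomial (Fin n) R))
      (fun i : Fin r => (X (Fin.castLE hr i) : MvPolynomial (Fin n) R)) ι dl)

include hL

theorem ι_D_X (ν : Fin n) :
    ι (KaehlerDifferential.D R (MvPolynomial (Fin n) R) (X ν)) = τ' R r ν • vv ι dl ν := by
  unfold τ'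
  by_cases h : (ν : ℕ) < r
  · rw [if_pos h, vv_of_lt ι dl ν h]
    have h1 := hL.1 ⟨ν, h⟩
    simp only [castLE_mk hr ν h] at h1
    exact h1.symm
  · rw [if_neg h, one_smul, vv_of_le ι dl ν (not_lt.1 h)]

/-- Expansion of a form without poles in the candidate basis. -/
theorem ι_eq_sum (ω : Ω[MvPolynomial (Fin n) R⁄R]) :
    ι ω = ∑ ν, ((KaehlerDifferential.mvPolynomialBasis R (Fin n)).repr ω ν * τ' R r ν) • vv ι dl ν := by
  conv_lhs => rw [← (KaehlerDifferential.mvPolynomialBasis R (Fin n)).sum_repr ω]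
  rw [map_sum]
  apply Finset.sum_congr rfl
  intro ν _
  rw [map_smul, KaehlerDifferential.mvPolynomialBasis_apply, ι_D_X hr ι dl hL, smul_smul]

theorem ι_D_eq_sum (b : MvPolynomial (Fin n) R) :
    ι (KaehlerDifferential.D R (MvPolynomial (Fin n) R) b) =
      ∑ ν, (pderiv ν b * τ' R r ν) • vv ι dl ν := by
  rw [ι_eq_sum hr ι dl hL]
  apply Finset.sum_congr rfl
  intro ν _
  rw [KaehlerDifferential.mvPolynomialBasis_repr_apply]

theorem ι_injective : Function.Injective ι := by
  rw [injective_iff_map_eq_zero]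
  intro ω hω
  obtain ⟨N, hN⟩ := (hL.2.2.2 ω).1 hω
  have hreg : IsRegular ((∏ i : Fin r, (X (Fin.castLE hr i) : MvPolynomial (Fin n) R)) ^ N) :=
    (IsRegular.prod fun _ _ => isRegular_X).pow N
  apply (KaehlerDifferential.mvPolynomialBasis R (Fin n)).repr.injective
  rw [map_zero]
  ext ν : 1
  have h1 := congrArg (fun x => (KaehlerDifferential.mvPolynomialBasis R (Fin n)).repr x ν) hN
  simp only [map_smul, Finsupp.smul_apply, smul_eq_mul, map_zero, Finsupp.zero_apply] at h1
  rw [Finsupp.zero_apply]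
  exact hreg.left.mul_left_eq_zero_iff.1 h1

theorem span_vv : (⊤ : Submodule (MvPolynomial (Fin n) R) L) ≤
    Submodule.span (MvPolynomial (Fin n) R) (Set.range (vv ι dl)) := by
  rw [← hL.2.1, Submodule.span_le]
  rintro x (⟨ω, rfl⟩ | ⟨i, rfl⟩)
  · rw [ι_eq_sum hr ι dl hL]
    apply Submodule.sum_mem
    intro ν _
    exact Submodule.smul_mem _ _ (Submodule.subset_span ⟨ν, rfl⟩)
  · exact Submodule.subset_span ⟨Fin.castLE hr i, vv_castLE hr ι dl i⟩

theorem linearIndependent_vv :
    LinearIndependent (MvPolynomial (Fin n) R) (vv ι dl) := by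
  classical
  rw [Fintype.linearIndependent_iff]
  intro a ha ν₀
  -- the complementary product
  let Tc : Fin n → MvPolynomial (Fin n) R := fun ν =>
    ∏ i ∈ (Finset.univ : Finset (Fin r)).filter (fun i => Fin.castLE hr i ≠ ν),
      (X (Fin.castLE hr i) : MvPolynomial (Fin n) R)
  let T : MvPolynomial (Fin n) R := ∏ i : Fin r, (X (Fin.castLE hr i) : MvPolynomial (Fin n) R)
  have hT : ∀ ν, T = Tc ν * τ' R r ν := by
    intro ν
    have h1 := Finset.prod_filter_mul_prod_filter_not (Finset.univ : Finset (Fin r))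
      (fun i => Fin.castLE hr i ≠ ν) (fun i => (X (Fin.castLE hr i) : MvPolynomial (Fin n) R))
    have h2 : ∏ i ∈ (Finset.univ : Finset (Fin r)).filter (fun i => ¬ Fin.castLE hr i ≠ ν),
        (X (Fin.castLE hr i) : MvPolynomial (Fin n) R) = τ' R r ν := by
      unfold τ'
      by_cases h : (ν : ℕ) < r
      · rw [if_pos h]
        have hs : (Finset.univ : Finset (Fin r)).filter (fun i => ¬ Fin.castLE hr i ≠ ν) =
            {⟨ν, h⟩} := by
          ext i
          simp only [ne_eq, not_not, Finset.mem_filter, Finset.mem_univ, true_and,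
            Finset.mem_singleton]
          constructor
          · intro hi
            apply Fin.ext
            have := congrArg Fin.val hi
            simpa using this
          · rintro rfl
            exact castLE_mk hr ν h
        rw [hs, Finset.prod_singleton, castLE_mk hr ν h]
      · rw [if_neg h]
        apply Finset.prod_eq_one
        intro i hi
        exfalso
        simp only [ne_eq, not_not, Finset.mem_filter, Finset.mem_univ, true_and] at hi
        apply h
        rw [← hi]
        simp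
    rw [h2] at h1
    exact h1.symm
  have h3 : ι (∑ ν, (a ν * Tc ν) • KaehlerDifferential.D R (MvPolynomial (Fin n) R) (X ν)) = 0 := by
    rw [map_sum]
    have h4 : T • ∑ ν, a ν • vv ι dl ν = 0 := by rw [ha, smul_zero]
    rw [Finset.smul_sum] at h4
    rw [← h4]
    apply Finset.sum_congr rfl
    intro ν _
    rw [map_smul, ι_D_X hr ι dl hL, smul_smul, smul_smul, hT ν]
    congr 1
    ring
  have h5 := ι_injective hr ι dl hL (h3.trans (map_zero ι).symm)
  have h6 := congrArg (fun x => (KaehlerDifferential.mvPolynomialBasis R (Fin n)).repr x ν₀) h5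
  simp only [map_sum, map_smul, KaehlerDifferential.mvPolynomialBasis_repr_D_X, map_zero,
    Finsupp.zero_apply] at h6
  rw [Finset.sum_apply'] at h6
  simp only [Finsupp.smul_apply, Finsupp.single_apply, smul_eq_mul, mul_ite, mul_one, mul_zero,
    Finset.sum_ite_eq', Finset.mem_univ, if_true] at h6
  have hreg : IsRegular (Tc ν₀) := IsRegular.prod fun _ _ => isRegular_X
  exact hreg.right.mul_right_eq_zero_iff.1 h6

/-- The basis `dl ν` (`ν < r`), `ι (d t_ν)` (`ν ≥ r`) of the log differentials of affine space. -/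
noncomputable def vbasis : Module.Basis (Fin n) (MvPolynomial (Fin n) R) L :=
  Module.Basis.mk (linearIndependent_vv hr ι dl hL) (span_vv hr ι dl hL)

theorem vbasis_apply (ν : Fin n) : vbasis hr ι dl hL ν = vv ι dl ν := by
  unfold vbasis
  rw [Module.Basis.mk_apply]

end Groth.Agent.Lib.Seat79.LogAff
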