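import Groth.Agent.Lib.Seat79LogAffProj

/-!
# The Cartier isomorphism for the log de Rham complex of affine space (seat 79)

`Qall q = ∏_ν (1 - L_ν^(p-1))` on `⋀^q L`: commutes with `d`, homotopic to the identity on closed forms, and diagonal
with the indicator of the "good" monomials as multiplier.  Forms with good-supported coordinates are closed and are
the combinations `Σ_K expand p (g_K) • (κ_K • V_K)`.
-/

set_option autoImplicit false
set_option linter.unusedSectionVars false
universe u

open MvPolynomial exteriorPower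

namespace Groth.Agent.Lib.Seat79.LogAff

open Groth.Agent.Lib.Seat79.Cartan

variable (p : ℕ) [Fact p.Prime] {R : Type u} [CommRing R] [CharP R p] {n r : ℕ} (hr : r ≤ n)
  {L : Type u} [AddCommGroup L] [Module (MvPolynomial (Fin n) R) L]
  (ι : (Ω[MvPolynomial (Fin n) R⁄R]) →ₗ[MvPolynomial (Fin n) R] L) (dl : Fin r → L)
  (hL : LogDiff.IsLog (KaehlerDifferential.D R (MvPolynomial (Fin n) R))
      (fun i : Fin r => (X (Fin.castLE hr i) : MvPolynomial (Fin n) R)) ι dl)
  [Module R L] [IsScalarTower R (MvPolynomial (Fin n) R) L]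
  (d : ∀ q : ℕ, ↥(⋀[MvPolynomial (Fin n) R]^q L) →ₗ[R] ↥(⋀[MvPolynomial (Fin n) R]^(q + 1) L))
  (hlog : LogDiff.IsLogRule (KaehlerDifferential.D R (MvPolynomial (Fin n) R)) ι dl d)
  (hdd : ∀ q : ℕ, d (q + 1) ∘ₗ d q = 0)

section Q

/-- `1 - L_ν^(p-1)`. -/
noncomputable def Qν (ν : Fin n) (q : ℕ) : Module.End R ↥(⋀[MvPolynomial (Fin n) R]^q L) :=
  1 - (lie d (φ hr ι dl hL ν) q : Module.End R ↥(⋀[MvPolynomial (Fin n) R]^q L)) ^ (p - 1)

/-- `∏_ν (1 - L_ν^(p-1))`. -/
noncomputable def Qall (q : ℕ) : Module.End R ↥(⋀[MvPolynomial (Fin n) R]^q L) :=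
  ((List.finRange n).map (fun ν => Qν p hr ι dl hL d ν q)).prod

/-- The indicator of the good monomials. -/
noncomputable def gm (r : ℕ) {q : ℕ} (m : Fin n →₀ ℕ) (K : Set.powersetCard (Fin n) q) : R :=
  by classical exact if ∀ ν : Fin n, p ∣ m ν + cc r ν K then 1 else 0

include hdd in
theorem commutes_Qall : Commutes d (fun q => Qall p hr ι dl hL d q) := by
  unfold Qall
  apply Commutes.list_prod d (fun ν q => Qν p hr ι dl hL d ν q)
  intro ν
  unfold Qν
  exact (Commutes.one d).sub d ((commutes_lie d hdd _).pow d (p - 1))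

include hdd in
theorem goodOn_Qall (q : ℕ) : GoodOn d q (Qall p hr ι dl hL d q) := by
  unfold Qall
  apply GoodOn.list_prod d
  intro ν
  unfold Qν
  have hp : p - 1 = (p - 2) + 1 := by
    have := (Fact.out : p.Prime).two_le
    omega
  rw [hp]
  exact goodOn_one_sub_lie_pow d hdd _ q (p - 2)

include hlog in
theorem isDiag_Qall (q : ℕ) :
    IsDiag ((vbasis hr ι dl hL).exteriorPower q) (Qall p hr ι dl hL d q)
      (fun m K => gm p (R := R) r m K) := by
  classical
  have h1 : ∀ ν : Fin n, IsDiag ((vbasis hr ι dl hL).exteriorPower q) (Qν p hr ι dl hL d ν q)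
      (fun m K => if p ∣ m ν + cc r ν K then (1 : R) else 0) := by
    intro ν
    have hl : IsDiag ((vbasis hr ι dl hL).exteriorPower q)
        (lie d (φ hr ι dl hL ν) q : Module.End R ↥(⋀[MvPolynomial (Fin n) R]^q L))
        (fun m K => ((m ν + cc r ν K : ℕ) : R)) :=
      fun η m K => coeff_repr_lie hr ι dl hL d hlog q ν η m K
    have h2 := (IsDiag.one ((vbasis hr ι dl hL).exteriorPower q)).sub _ (hl.pow _ (p - 1))
    unfold Qν
    intro η m K
    rw [h2 η m K]
    congr 1
    simp only
    rw [natCast_pow_pred p R]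
    by_cases h : p ∣ m ν + cc r ν K
    · rw [if_pos h, if_pos h, sub_zero]
    · rw [if_neg h, if_neg h, sub_self]
  have h3 := IsDiag.list_prod ((vbasis hr ι dl hL).exteriorPower q)
    (fun ν => Qν p hr ι dl hL d ν q) _ (List.finRange n) h1
  unfold Qall
  intro η m K
  rw [h3 η m K]
  congr 1
  simp only
  rw [← Fin.prod_univ_def, Finset.prod_ite_zero]
  unfold gm
  simp only [Finset.mem_univ, forall_true_left, Finset.prod_const_one]

end Q

section Mono

variable {q : ℕ}

/-- The polynomial `b` only involves monomials which are good for the index set `K`. -/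
def GoodSupp (r : ℕ) (b : MvPolynomial (Fin n) R) (K : Set.powersetCard (Fin n) q) : Prop :=
  ∀ m : Fin n →₀ ℕ, coeff m b ≠ 0 → ∀ ν : Fin n, p ∣ m ν + cc r ν K

/-- The exponent of `κ_K = ∏_{ν ∈ K, ν ≥ r} t_ν^(p-1)`. -/
noncomputable def κexp (r : ℕ) (K : Set.powersetCard (Fin n) q) : Fin n →₀ ℕ :=
  Finsupp.equivFunOnFinite.symm (fun ν => (p - 1) * cc r ν K)

omit [Fact p.Prime] in
theorem κexp_apply (K : Set.powersetCard (Fin n) q) (ν : Fin n) :
    κexp p r K ν = (p - 1) * cc r ν K := rfl

omit [Fact p.Prime] [CharP R p] in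
theorem cc_le_one (K : Set.powersetCard (Fin n) q) (ν : Fin n) : cc r ν K ≤ 1 := by
  unfold cc
  split_ifs <;> omega

omit [Fact p.Prime] in
theorem pderiv_eq_zero_of_goodSupp (b : MvPolynomial (Fin n) R) (K : Set.powersetCard (Fin n) q)
    (hb : GoodSupp p r b K) (μ : Fin n) (hμ : μ ∉ (K : Finset (Fin n))) : pderiv μ b = 0 := by
  ext m
  rw [coeff_pderiv, coeff_zero]
  by_cases h : coeff (m + Finsupp.single μ 1) b = 0
  · rw [h, zero_mul]
  · have h1 := hb _ h μ
    have hc : cc r μ K = 0 := by unfold cc; rw [if_neg (fun hh => hμ hh.1)]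
    rw [hc, add_zero] at h1
    simp only [Finsupp.coe_add, Pi.add_apply, Finsupp.single_eq_same] at h1
    have h2 : ((m μ + 1 : ℕ) : R) = 0 := (CharP.cast_eq_zero_iff R p _).2 h1
    push_cast at h2
    rw [h2, mul_zero]

omit [CharP R p] in
theorem exists_expand_of_goodSupp (b : MvPolynomial (Fin n) R) (K : Set.powersetCard (Fin n) q)
    (hb : GoodSupp p r b K) :
    ∃ g : MvPolynomial (Fin n) R, b = expand p g * monomial (κexp p r K) 1 := by
  classical
  let m' : (Fin n →₀ ℕ) → (Fin n →₀ ℕ) := fun m =>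
    Finsupp.equivFunOnFinite.symm (fun ν => (m ν + cc r ν K) / p - cc r ν K)
  have hm' : ∀ m ν, m' m ν = (m ν + cc r ν K) / p - cc r ν K := fun _ _ => rfl
  refine ⟨∑ m ∈ b.support, monomial (m' m) (coeff m b), ?_⟩
  rw [map_sum, Finset.sum_mul]
  conv_lhs => rw [b.as_sum]
  apply Finset.sum_congr rfl
  intro m hm
  rw [expand_monomial, monomial_mul, mul_one]
  have key : p • m' m + κexp p r K = m := by
    ext ν
    have hdiv := hb m (mem_support_iff.1 hm) ν
    simp only [Finsupp.coe_add, Finsupp.coe_smul, Pi.add_apply, Pi.smul_apply, smul_eq_mul]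
    rw [κexp_apply, hm']
    obtain ⟨j, hj⟩ := hdiv
    have hp := (Fact.out : p.Prime).two_le
    rw [hj, Nat.mul_div_cancel_left _ (by omega)]
    rcases Nat.le_one_iff_eq_zero_or_eq_one.1 (cc_le_one (r := r) K ν) with hc | hc
    · rw [hc] at hj ⊢
      rw [add_zero] at hj
      rw [Nat.sub_zero, mul_zero, add_zero, hj]
    · rw [hc] at hj ⊢
      have hj0 : j ≠ 0 := by
        rintro rfl
        rw [mul_zero] at hj
        omega
      obtain ⟨j', rfl⟩ := Nat.exists_eq_succ_of_ne_zero hj0
      rw [Nat.succ_sub_one, mul_one]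
      rw [Nat.mul_succ] at hj
      generalize p * j' = t at hj ⊢
      omega
  rw [key]

omit [CharP R p] in
theorem goodSupp_expand_mul (g : MvPolynomial (Fin n) R) (K : Set.powersetCard (Fin n) q) :
    GoodSupp p r (expand p g * monomial (κexp p r K) 1) K := by
  classical
  intro m hm ν
  rw [coeff_mul_monomial'] at hm
  by_cases hle : κexp p r K ≤ m
  · rw [if_pos hle, mul_one] at hm
    have hdvd : p ∣ (m - κexp p r K) ν := by
      by_contra hnd
      exact hm (coeff_expand_of_not_dvd g hnd)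
    have hle' : κexp p r K ν ≤ m ν := hle ν
    have h1 : m ν = (m - κexp p r K) ν + κexp p r K ν := by
      rw [Finsupp.tsub_apply]
      omega
    obtain ⟨j, hj⟩ := hdvd
    rw [h1, hj, κexp_apply]
    have hp := (Fact.out : p.Prime).two_le
    refine ⟨j + cc r ν K, ?_⟩
    have h2 : (p - 1) * cc r ν K + cc r ν K = p * cc r ν K := by
      obtain ⟨p', rfl⟩ : ∃ p', p = p' + 1 := ⟨p - 1, by omega⟩
      rw [Nat.add_sub_cancel]
      ring
    rw [add_assoc, h2, mul_add]
  · rw [if_neg hle] at hm
    exact absurd rfl hm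

end Mono

section Closed

variable {q : ℕ}

include hlog in
/-- `b • V_K` is closed when `b` only involves good monomials. -/
theorem d_smul_basis_eq_zero (K : Set.powersetCard (Fin n) q) (b : MvPolynomial (Fin n) R)
    (hb : GoodSupp p r b K) : d q (b • ((vbasis hr ι dl hL).exteriorPower q) K) = 0 := by
  classical
  rw [basis_eq_ιMulti, hrule ι dl d hlog q b _ (fun k => vv_mem_GG ι dl _)]
  change ιMulti (MvPolynomial (Fin n) R) (q + 1)
    (Fin.cons (ι (KaehlerDifferential.D R (MvPolynomial (Fin n) R) b)) _) = 0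
  rw [ι_D_eq_sum hr ι dl hL, ιMulti_cons_sum]
  apply Finset.sum_eq_zero
  intro μ _
  by_cases hμ : μ ∈ (K : Finset (Fin n))
  · obtain ⟨k₀, hk₀⟩ := (Set.powersetCard.mem_range_ofFinEmbEquiv_symm_iff_mem K μ).2 hμ
    have hz : ιMulti (MvPolynomial (Fin n) R) (q + 1)
        (Fin.cons (vv ι dl μ) (fun k => vv ι dl (Set.powersetCard.ofFinEmbEquiv.symm K k)) :
          Fin (q + 1) → L) = 0 := by
      apply (ιMulti (MvPolynomial (Fin n) R) (q + 1)).map_eq_zero_of_eq _ (i := 0) (j := k₀.succ)
      · rw [Fin.cons_zero, Fin.cons_succ, hk₀]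
      · exact (Fin.succ_ne_zero k₀).symm
    rw [hz, smul_zero]
  · rw [pderiv_eq_zero_of_goodSupp p b K hb μ hμ, zero_mul, zero_smul]

include hlog in
/-- A form whose coordinates only involve good monomials is closed. -/
theorem d_eq_zero_of_goodSupp (η : ↥(⋀[MvPolynomial (Fin n) R]^q L))
    (h : ∀ K, GoodSupp p r (((vbasis hr ι dl hL).exteriorPower q).repr η K) K) : d q η = 0 := by
  rw [← ((vbasis hr ι dl hL).exteriorPower q).sum_repr η, map_sum]
  apply Finset.sum_eq_zero
  intro K _
  exact d_smul_basis_eq_zero p hr ι dl hL d hlog K _ (h K)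

include hlog in
theorem goodSupp_repr_Qall (η : ↥(⋀[MvPolynomial (Fin n) R]^q L)) (K : Set.powersetCard (Fin n) q) :
    GoodSupp p r (((vbasis hr ι dl hL).exteriorPower q).repr (Qall p hr ι dl hL d q η) K) K := by
  classical
  intro m hm
  rw [isDiag_Qall p hr ι dl hL d hlog q η m K] at hm
  unfold gm at hm
  by_contra hnot
  simp only at hm
  rw [if_neg hnot, zero_mul] at hm
  exact hm rfl

include hlog in
theorem Qall_eq_self_of_goodSupp (η : ↥(⋀[MvPolynomial (Fin n) R]^q L))
    (h : ∀ K, GoodSupp p r (((vbasis hr ι dl hL).exteriorPower q).repr η K) K) :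
    Qall p hr ι dl hL d q η = η := by
  classical
  apply eq_of_coeff_repr ((vbasis hr ι dl hL).exteriorPower q)
  intro m K
  rw [isDiag_Qall p hr ι dl hL d hlog q η m K]
  by_cases h0 : coeff m (((vbasis hr ι dl hL).exteriorPower q).repr η K) = 0
  · rw [h0, mul_zero]
  · unfold gm
    simp only
    rw [if_pos (h K m h0), one_mul]

end Closed

section Final

include hlog hdd in
/-- An exact form whose coordinates only involve good monomials vanishes. -/
theorem eq_zero_of_goodSupp_of_mem_coboundaries (q : ℕ) (ξ : ↥(⋀[MvPolynomial (Fin n) R]^q L))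
    (h : ∀ K, GoodSupp p r (((vbasis hr ι dl hL).exteriorPower q).repr ξ K) K)
    (hex : ξ ∈ DeRham.coboundaries d q) : ξ = 0 := by
  cases q with
  | zero => exact (Submodule.mem_bot R).1 hex
  | succ q =>
    obtain ⟨x, rfl⟩ := hex
    rw [← Qall_eq_self_of_goodSupp p hr ι dl hL d hlog (d q x) h,
      ← commutes_Qall p hr ι dl hL d hdd q x]
    exact d_eq_zero_of_goodSupp p hr ι dl hL d hlog _
      (fun K => goodSupp_repr_Qall p hr ι dl hL d hlog x K)

variable {a : ℕ} (w : Fin n → L) (hw : ∀ i : Fin r, w (Fin.castLE hr i) = dl i)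
    (hw' : ∀ ν : Fin n, r ≤ (ν : ℕ) → w ν = ι (((X ν : MvPolynomial (Fin n) R) ^ (p - 1)) •
      KaehlerDifferential.D R (MvPolynomial (Fin n) R) (X ν)))
    (e : Finset (Fin n) → ↥(⋀[MvPolynomial (Fin n) R]^a L))
    (he : ∀ (s : Finset (Fin n)) (hs : s.card = a),
      e s = ιMulti (MvPolynomial (Fin n) R) a (fun j => w (s.orderEmbOfFin hs j)))

omit [Fact p.Prime] [CharP R p] in
theorem prod_orderEmbOfFin {N : Type*} [CommMonoid N] (s : Finset (Fin n)) (hs : s.card = a)
    (f : Fin n → N) : ∏ j : Fin a, f (s.orderEmbOfFin hs j) = ∏ ν ∈ s, f ν := by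
  classical
  conv_rhs => rw [← Finset.image_orderEmbOfFin_univ s hs]
  rw [Finset.prod_image (fun x _ y _ hxy => (s.orderEmbOfFin hs).injective hxy)]

include hw hw' in
omit [Fact p.Prime] [CharP R p] in
theorem w_eq (K : Set.powersetCard (Fin n) a) (ν : Fin n) (hν : ν ∈ (K : Finset (Fin n))) :
    w ν = ((X ν : MvPolynomial (Fin n) R) ^ ((p - 1) * cc r ν K)) • vv ι dl ν := by
  unfold cc
  by_cases h : (ν : ℕ) < r
  · rw [if_neg (fun hh => absurd hh.2 (not_le.2 h)), mul_zero, pow_zero, one_smul, vv_of_lt ι dl ν h,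
      ← hw ⟨ν, h⟩, castLE_mk hr ν h]
  · rw [if_pos ⟨hν, not_lt.1 h⟩, mul_one, hw' ν (not_lt.1 h), map_smul, vv_of_le ι dl ν (not_lt.1 h)]

include hw hw' he in
omit [Fact p.Prime] [CharP R p] in
/-- `e_K = κ_K • V_K`. -/
theorem e_eq (K : Set.powersetCard (Fin n) a) :
    e (K : Finset (Fin n)) =
      (monomial (κexp p r K) (1 : R)) • ((vbasis hr ι dl hL).exteriorPower a) K := by
  classical
  rw [he (K : Finset (Fin n)) (Set.powersetCard.card_eq K), basis_eq_ιMulti]
  have h1 : (fun j => w ((K : Finset (Fin n)).orderEmbOfFin (Set.powersetCard.card_eq K) j)) =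
      fun j => ((X ((K : Finset (Fin n)).orderEmbOfFin (Set.powersetCard.card_eq K) j) : MvPolynomial (Fin n) R) ^
        ((p - 1) * cc r ((K : Finset (Fin n)).orderEmbOfFin (Set.powersetCard.card_eq K) j) K)) •
          vv ι dl ((K : Finset (Fin n)).orderEmbOfFin (Set.powersetCard.card_eq K) j) := by
    funext j
    exact w_eq p hr ι dl w hw hw' K _ (Finset.orderEmbOfFin_mem _ (Set.powersetCard.card_eq K) j)
  rw [h1]
  have h2 := MultilinearMap.map_smul_univ (ιMulti (MvPolynomial (Fin n) R) a).toMultilinearMap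
    (fun j => ((X ((K : Finset (Fin n)).orderEmbOfFin (Set.powersetCard.card_eq K) j) : MvPolynomial (Fin n) R) ^
        ((p - 1) * cc r ((K : Finset (Fin n)).orderEmbOfFin (Set.powersetCard.card_eq K) j) K)))
    (fun j => vv ι dl ((K : Finset (Fin n)).orderEmbOfFin (Set.powersetCard.card_eq K) j))
  rw [AlternatingMap.coe_multilinearMap] at h2
  rw [h2]
  have h3 : ∏ j : Fin a, ((X ((K : Finset (Fin n)).orderEmbOfFin (Set.powersetCard.card_eq K) j) :
      MvPolynomial (Fin n) R) ^ ((p - 1) * cc r ((K : Finset (Fin n)).orderEmbOfFin (Set.powersetCard.card_eq K) j) K)) =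
      monomial (κexp p r K) (1 : R) := by
    rw [prod_orderEmbOfFin (K : Finset (Fin n)) (Set.powersetCard.card_eq K)
      (fun ν => (X ν : MvPolynomial (Fin n) R) ^ ((p - 1) * cc r ν K)), prod_X_pow]
    have h5 : Finsupp.indicator (K : Finset (Fin n)) (fun i _ => (p - 1) * cc r i K) =
        κexp p r K := by
      ext ν
      rw [Finsupp.indicator_apply, κexp_apply]
      by_cases hν : ν ∈ (K : Finset (Fin n))
      · rw [dif_pos hν]
      · rw [dif_neg hν]
        unfold cc
        rw [if_neg (fun hh => hν hh.1), mul_zero]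
    rw [h5]
  rw [h3]
  rfl

omit [Fact p.Prime] [CharP R p] in
/-- Sums over `a`-element subsets, two ways. -/
theorem sum_powersetCard {N : Type*} [AddCommMonoid N] (F : Finset (Fin n) → N) :
    ∑ s ∈ Finset.powersetCard a (Finset.univ : Finset (Fin n)), F s =
      ∑ K : Set.powersetCard (Fin n) a, F (K : Finset (Fin n)) := by
  classical
  refine Finset.sum_subtype (Finset.powersetCard a (Finset.univ : Finset (Fin n)))
    (p := fun s => s ∈ Set.powersetCard (Fin n) a) (fun s => ?_) F
  rw [Finset.mem_powersetCard, Set.powersetCard.mem_iff]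
  exact ⟨fun h => h.2, fun h => ⟨Finset.subset_univ _, h⟩⟩

include hL hlog hdd hw hw' he in
/-- The Cartier isomorphism for the log de Rham complex of affine space. -/
theorem cartier :
    (∀ ω, ω ∈ DeRham.cocycles d a ↔
      ∃ (g : Finset (Fin n) → MvPolynomial (Fin n) R) (η : ↥(⋀[MvPolynomial (Fin n) R]^a L)),
        η ∈ DeRham.coboundaries d a ∧
          ω = η + ∑ s ∈ Finset.powersetCard a Finset.univ, expand p (g s) • e s) ∧
    (∀ g : Finset (Fin n) → MvPolynomial (Fin n) R,
      (∑ s ∈ Finset.powersetCard a Finset.univ, expand p (g s) • e s) ∈ DeRham.coboundaries d a →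
        ∀ s ∈ Finset.powersetCard a (Finset.univ : Finset (Fin n)), g s = 0) := by
  classical
  set V := (vbasis hr ι dl hL).exteriorPower a with hV
  -- a combination of the `e s` in coordinates
  have hcomb : ∀ g : Finset (Fin n) → MvPolynomial (Fin n) R,
      ∑ s ∈ Finset.powersetCard a Finset.univ, expand p (g s) • e s =
        ∑ K : Set.powersetCard (Fin n) a,
          (expand p (g (K : Finset (Fin n))) * monomial (κexp p r K) (1 : R)) • V K := by
    intro g
    rw [sum_powersetCard]
    apply Finset.sum_congr rfl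
    intro K _
    rw [e_eq p hr ι dl hL w hw hw' e he K, smul_smul]
  have hrepr : ∀ (g : Finset (Fin n) → MvPolynomial (Fin n) R) (K : Set.powersetCard (Fin n) a),
      V.repr (∑ s ∈ Finset.powersetCard a Finset.univ, expand p (g s) • e s) K =
        expand p (g (K : Finset (Fin n))) * monomial (κexp p r K) (1 : R) := by
    intro g K
    rw [hcomb g, V.repr_sum_self]
  have hgood : ∀ (g : Finset (Fin n) → MvPolynomial (Fin n) R) (K : Set.powersetCard (Fin n) a),
      GoodSupp p r (V.repr (∑ s ∈ Finset.powersetCard a Finset.univ, expand p (g s) • e s) K) K := by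
    intro g K
    rw [hrepr g K]
    exact goodSupp_expand_mul p _ K
  refine ⟨fun ω => ⟨fun hω => ?_, ?_⟩, ?_⟩
  · -- closed ⇒ exact + combination
    obtain ⟨h1, h2⟩ := goodOn_Qall p hr ι dl hL d hdd a ω hω
    have h3 : ∀ K : Set.powersetCard (Fin n) a, ∃ g : MvPolynomial (Fin n) R,
        V.repr (Qall p hr ι dl hL d a ω) K = expand p g * monomial (κexp p r K) (1 : R) :=
      fun K => exists_expand_of_goodSupp p _ K (goodSupp_repr_Qall p hr ι dl hL d hlog ω K)
    choose g' hg' using h3
    refine ⟨fun s => if h : s.card = a then g' ⟨s, Set.powersetCard.mem_iff.2 h⟩ else 0, ω - Qall p hr ι dl hL d a ω, h1, ?_⟩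
    rw [hcomb]
    have h4 : ∑ K : Set.powersetCard (Fin n) a,
        (expand p ((fun s => if h : s.card = a then g' ⟨s, Set.powersetCard.mem_iff.2 h⟩ else 0) (K : Finset (Fin n))) *
          monomial (κexp p r K) (1 : R)) • V K = Qall p hr ι dl hL d a ω := by
      conv_rhs => rw [← V.sum_repr (Qall p hr ι dl hL d a ω)]
      apply Finset.sum_congr rfl
      intro K _
      rw [hg' K]
      simp only [dif_pos (Set.powersetCard.card_eq K)]
    rw [h4]
    abel
  · -- exact + combination ⇒ closed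
    rintro ⟨g, η, hη, rfl⟩
    change d a _ = 0
    rw [map_add]
    have h5 : d a η = 0 := coboundaries_le_cocycles d hdd a hη
    rw [h5, zero_add]
    exact d_eq_zero_of_goodSupp p hr ι dl hL d hlog _ (hgood g)
  · -- independence
    intro g hex s hs
    have h6 := eq_zero_of_goodSupp_of_mem_coboundaries p hr ι dl hL d hlog hdd a _ (hgood g) hex
    have hsc : s.card = a := (Finset.mem_powersetCard.1 hs).2
    have h7 := hrepr g ⟨s, hsc⟩
    rw [h6, map_zero, Finsupp.zero_apply] at h7
    have h8 : expand p (g s) = 0 := by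
      ext m
      have h9 := congrArg (coeff (m + κexp p r (⟨s, hsc⟩ : Set.powersetCard (Fin n) a))) h7
      rw [coeff_mul_monomial, mul_one, coeff_zero] at h9
      rw [coeff_zero]
      exact h9.symm
    have hp0 : 0 < p := (Fact.out : p.Prime).pos
    exact (expand_injective hp0) (h8.trans (map_zero _).symm)

end Final

end Groth.Agent.Lib.Seat79.LogAff
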