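import Groth.Agent.Lib.Seat79LogAffBasis
import Groth.Agent.Lib.Seat79Cartan

/-!
# Lie derivatives along `t_ν ∂_ν` on the log de Rham complex of affine space (seat 79)

In the basis `V_K = vv_{k₁} ∧ ⋯ ∧ vv_{k_q}` of `⋀^q L` the Lie derivative `L_ν = d i_ν + i_ν d` along the log vector
field `t_ν ∂_ν` acts diagonally: `L_ν (b • V_K) = (t_ν ∂_ν b + c_{ν,K} b) • V_K` with `c_{ν,K} = 1` if `ν ∈ K`, `ν ≥ r`
and `0` otherwise (`lie_basis`), hence multiplies the `t^m`-coefficient of the `K`-coordinate by `m_ν + c_{ν,K}`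
(`coeff_repr_lie`).
-/

set_option autoImplicit false
universe u

open MvPolynomial exteriorPower

namespace Groth.Agent.Lib.Seat79.LogAff

open Groth.Agent.Lib.Seat79.Cartan

variable {R : Type u} [CommRing R] {n r : ℕ} (hr : r ≤ n)
  {L : Type u} [AddCommGroup L] [Module (MvPolynomial (Fin n) R) L]
  (ι : (Ω[MvPolynomial (Fin n) R⁄R]) →ₗ[MvPolynomial (Fin n) R] L) (dl : Fin r → L)
  (hL : LogDiff.IsLog (KaehlerDifferential.D R (MvPolynomial (Fin n) R))
      (fun i : Fin r => (X (Fin.castLE hr i) : MvPolynomial (Fin n) R)) ι dl)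

/-- `1` for `ν < r`, `t_ν` for `ν ≥ r`. -/
noncomputable def τ (R : Type u) [CommRing R] {n : ℕ} (r : ℕ) (ν : Fin n) : MvPolynomial (Fin n) R :=
  if (ν : ℕ) < r then 1 else X ν

theorem τ'_mul_τ (ν : Fin n) : τ' R r ν * τ R r ν = X ν := by
  unfold τ τ'
  by_cases h : (ν : ℕ) < r
  · rw [if_pos h, if_pos h, mul_one]
  · rw [if_neg h, if_neg h, one_mul]

/-- The exponent shift `c_{ν,K}`. -/
def cc (r : ℕ) {q : ℕ} (ν : Fin n) (K : Set.powersetCard (Fin n) q) : ℕ :=
  if ν ∈ (K : Finset (Fin n)) ∧ r ≤ (ν : ℕ) then 1 else 0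

/-- Contraction with the log vector field `t_ν ∂_ν`. -/
noncomputable def φ (ν : Fin n) : L →ₗ[MvPolynomial (Fin n) R] MvPolynomial (Fin n) R :=
  τ R r ν • (vbasis hr ι dl hL).coord ν

theorem φ_vv (ν μ : Fin n) :
    φ hr ι dl hL ν (vv ι dl μ) = if μ = ν then τ R r ν else 0 := by
  classical
  unfold φ
  rw [LinearMap.smul_apply, ← vbasis_apply hr ι dl hL μ, Module.Basis.coord_apply,
    Module.Basis.repr_self, Finsupp.single_apply, smul_eq_mul]
  by_cases h : μ = ν
  · rw [if_pos h, if_pos h, mul_one]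
  · rw [if_neg h, if_neg h, mul_zero]

theorem φ_ι_D (ν : Fin n) (b : MvPolynomial (Fin n) R) :
    φ hr ι dl hL ν (ι (KaehlerDifferential.D R (MvPolynomial (Fin n) R) b)) = X ν * pderiv ν b := by
  classical
  rw [ι_D_eq_sum hr ι dl hL, map_sum]
  simp only [map_smul, φ_vv, smul_eq_mul, mul_ite, mul_zero]
  rw [Finset.sum_ite_eq' Finset.univ ν, if_pos (Finset.mem_univ ν), mul_assoc, τ'_mul_τ, mul_comm]

theorem eigen (ν μ : Fin n) :
    ι (KaehlerDifferential.D R (MvPolynomial (Fin n) R) (φ hr ι dl hL ν (vv ι dl μ))) =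
      (if μ = ν ∧ r ≤ (ν : ℕ) then (1 : MvPolynomial (Fin n) R) else 0) • vv ι dl μ := by
  rw [φ_vv]
  by_cases h : μ = ν
  · rw [if_pos h]
    unfold τ
    by_cases h' : (ν : ℕ) < r
    · rw [if_pos h', if_neg (fun hh => absurd hh.2 (not_le.2 h')), zero_smul,
        Derivation.map_one_eq_zero, map_zero]
    · rw [if_neg h', if_pos ⟨h, not_lt.1 h'⟩, one_smul, h, vv_of_le ι dl ν (not_lt.1 h')]
  · rw [if_neg h, if_neg (fun hh => h hh.1), zero_smul, map_zero, map_zero]

variable [Module R L] [IsScalarTower R (MvPolynomial (Fin n) R) L]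
  (d : ∀ q : ℕ, ↥(⋀[MvPolynomial (Fin n) R]^q L) →ₗ[R] ↥(⋀[MvPolynomial (Fin n) R]^(q + 1) L))
  (hlog : LogDiff.IsLogRule (KaehlerDifferential.D R (MvPolynomial (Fin n) R)) ι dl d)

/-- The closed generators of the log de Rham complex. -/
def GG : Set L :=
  {x | (∃ b, x = ι (KaehlerDifferential.D R (MvPolynomial (Fin n) R) b)) ∨ ∃ i, x = dl i}

theorem vv_mem_GG (μ : Fin n) : vv ι dl μ ∈ GG ι dl := by
  unfold vv
  by_cases h : (μ : ℕ) < r
  · rw [dif_pos h]; exact Or.inr ⟨_, rfl⟩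
  · rw [dif_neg h]; exact Or.inl ⟨_, rfl⟩

include hlog in
theorem hrule (q : ℕ) (b₀ : MvPolynomial (Fin n) R) (e : Fin q → L) (he : ∀ k, e k ∈ GG ι dl) :
    d q (b₀ • ιMulti (MvPolynomial (Fin n) R) q e) =
      ιMulti (MvPolynomial (Fin n) R) (q + 1)
        (Fin.cons ((ι.compDer (KaehlerDifferential.D R (MvPolynomial (Fin n) R))) b₀) e) :=
  hlog q b₀ e he

/-- The basis vector `V_K` as a wedge of the `vv`. -/
theorem basis_eq_ιMulti (q : ℕ) (K : Set.powersetCard (Fin n) q) :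
    ((vbasis hr ι dl hL).exteriorPower q) K =
      ιMulti (MvPolynomial (Fin n) R) q
        (fun k => vv ι dl (Set.powersetCard.ofFinEmbEquiv.symm K k)) := by
  rw [exteriorPower.basis_apply]
  unfold exteriorPower.ιMulti_family
  congr 1
  funext k
  exact vbasis_apply hr ι dl hL _

theorem sum_cc (q : ℕ) (ν : Fin n) (K : Set.powersetCard (Fin n) q) :
    ∑ k : Fin q, (if Set.powersetCard.ofFinEmbEquiv.symm K k = ν ∧ r ≤ (ν : ℕ)
      then (1 : MvPolynomial (Fin n) R) else 0) = ((cc r ν K : ℕ) : MvPolynomial (Fin n) R) := by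
  classical
  unfold cc
  by_cases hν : r ≤ (ν : ℕ)
  · by_cases hK : ν ∈ (K : Finset (Fin n))
    · rw [if_pos ⟨hK, hν⟩, Nat.cast_one]
      obtain ⟨k₀, hk₀⟩ := (Set.powersetCard.mem_range_ofFinEmbEquiv_symm_iff_mem K ν).2 hK
      rw [Finset.sum_eq_single k₀]
      · rw [if_pos ⟨hk₀, hν⟩]
      · intro k _ hk
        rw [if_neg]
        rintro ⟨h1, _⟩
        exact hk ((Set.powersetCard.ofFinEmbEquiv.symm K).injective (h1.trans hk₀.symm))
      · intro h; exact absurd (Finset.mem_univ _) h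
    · rw [if_neg (fun h => hK h.1), Nat.cast_zero]
      apply Finset.sum_eq_zero
      intro k _
      rw [if_neg]
      rintro ⟨h1, _⟩
      exact hK ((Set.powersetCard.mem_range_ofFinEmbEquiv_symm_iff_mem K ν).1 ⟨k, h1⟩)
  · rw [if_neg (fun h => hν h.2), Nat.cast_zero]
    apply Finset.sum_eq_zero
    intro k _
    rw [if_neg (fun h => hν h.2)]

include hlog in
/-- The Lie derivative along `t_ν ∂_ν` on `b • V_K`. -/
theorem lie_basis (q : ℕ) (ν : Fin n) (K : Set.powersetCard (Fin n) q)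
    (b : MvPolynomial (Fin n) R) :
    lie d (φ hr ι dl hL ν) q (b • ((vbasis hr ι dl hL).exteriorPower q) K) =
      (X ν * pderiv ν b + ((cc r ν K : ℕ) : MvPolynomial (Fin n) R) * b) •
        ((vbasis hr ι dl hL).exteriorPower q) K := by
  rw [basis_eq_ιMulti]
  rw [lie_gen_of_eigen d (ι.compDer (KaehlerDifferential.D R (MvPolynomial (Fin n) R))) (GG ι dl)
    (hrule ι dl d hlog) (φ hr ι dl hL ν) q b _ (fun k => vv_mem_GG ι dl _)
    (fun k => if Set.powersetCard.ofFinEmbEquiv.symm K k = ν ∧ r ≤ (ν : ℕ)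
      then (1 : MvPolynomial (Fin n) R) else 0)
    (fun k => eigen hr ι dl hL ν _)]
  rw [sum_cc]
  congr 1
  rw [mul_comm b]
  congr 1
  exact φ_ι_D hr ι dl hL ν b

theorem coeff_X_mul_pderiv (ν : Fin n) (b : MvPolynomial (Fin n) R) (m : Fin n →₀ ℕ) :
    coeff m (X ν * pderiv ν b) = ((m ν : ℕ) : R) * coeff m b := by
  classical
  rw [coeff_X_mul']
  by_cases h : ν ∈ m.support
  · rw [if_pos h, coeff_pderiv]
    have hm : m ν ≠ 0 := Finsupp.mem_support_iff.1 h
    have h1 : m - Finsupp.single ν 1 + Finsupp.single ν 1 = m := by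
      ext j
      by_cases hj : j = ν
      · subst hj
        simp only [Finsupp.coe_add, Finsupp.coe_tsub, Pi.add_apply, Pi.sub_apply,
          Finsupp.single_eq_same]
        omega
      · simp [Finsupp.single_apply, Ne.symm hj]
    have h2 : (((m - Finsupp.single ν 1 : Fin n →₀ ℕ) ν : ℕ) : R) + 1 = ((m ν : ℕ) : R) := by
      have : (m - Finsupp.single ν 1 : Fin n →₀ ℕ) ν + 1 = m ν := by
        simp only [Finsupp.coe_tsub, Pi.sub_apply, Finsupp.single_eq_same]
        omega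
      rw [← this]
      push_cast
      rfl
    rw [h1, h2, mul_comm]
  · rw [if_neg h]
    have hm : m ν = 0 := Finsupp.notMem_support_iff.1 h
    rw [hm, Nat.cast_zero, zero_mul]

include hlog in
/-- The Lie derivative along `t_ν ∂_ν` is diagonal on monomial coordinates. -/
theorem coeff_repr_lie (q : ℕ) (ν : Fin n) (η : ↥(⋀[MvPolynomial (Fin n) R]^q L))
    (m : Fin n →₀ ℕ) (K : Set.powersetCard (Fin n) q) :
    coeff m (((vbasis hr ι dl hL).exteriorPower q).repr (lie d (φ hr ι dl hL ν) q η) K) =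
      ((m ν + cc r ν K : ℕ) : R) *
        coeff m (((vbasis hr ι dl hL).exteriorPower q).repr η K) := by
  classical
  set V := (vbasis hr ι dl hL).exteriorPower q with hV
  have h1 : lie d (φ hr ι dl hL ν) q η =
      ∑ K' : Set.powersetCard (Fin n) q,
        (X ν * pderiv ν (V.repr η K') + ((cc r ν K' : ℕ) : MvPolynomial (Fin n) R) * V.repr η K') •
          V K' := by
    conv_lhs => rw [← V.sum_repr η]
    rw [map_sum]
    apply Finset.sum_congr rfl
    intro K' _
    exact lie_basis hr ι dl hL d hlog q ν K' _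
  rw [h1, V.repr_sum_self]
  rw [coeff_add, coeff_X_mul_pderiv, ← C_eq_coe_nat, coeff_C_mul, Nat.cast_add, add_mul]

end Groth.Agent.Lib.Seat79.LogAff
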