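import Groth.Agent.Lib.Seat79LogAffLie

/-!
# The projector onto the `p`-th power weights on the log de Rham complex of affine space (seat 79)

In characteristic `p`, `Q = ∏_ν (1 - L_ν^(p-1))` (Lie derivatives along the `t_ν ∂_ν`) commutes with `d`, is
homotopic to the identity on closed forms, and is diagonal on monomial coordinates with multiplier
`1` on the monomials `t^m` of the `K`-coordinate with `p ∣ m_ν + c_{ν,K}` for all `ν`, and `0` on the others.
-/

set_option autoImplicit false
set_option linter.unusedSectionVars false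
universe u

open MvPolynomial exteriorPower

namespace Groth.Agent.Lib.Seat79.LogAff

open Groth.Agent.Lib.Seat79.Cartan

section Fermat

theorem natCast_pow_pred (p : ℕ) [Fact p.Prime] (R : Type u) [CommRing R] [CharP R p] (k : ℕ) :
    ((k : ℕ) : R) ^ (p - 1) = if p ∣ k then 0 else 1 := by
  have hp : p.Prime := Fact.out
  by_cases h : p ∣ k
  · rw [if_pos h, (CharP.cast_eq_zero_iff R p k).2 h, zero_pow]
    have := hp.two_le
    omega
  · rw [if_neg h]
    have h1 : ((k : ℕ) : ZMod p) ≠ 0 := by
      rw [Ne, ZMod.natCast_eq_zero_iff]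
      exact h
    have h2 := ZMod.pow_card_sub_one_eq_one h1
    have h3 := congrArg (ZMod.castHom (dvd_refl p) R) h2
    rw [map_pow, map_natCast, map_one] at h3
    exact h3

end Fermat

section Diag

variable {R : Type u} [CommRing R] {n : ℕ} {κ : Type*} [Fintype κ] {N : Type*} [AddCommGroup N]
  [Module (MvPolynomial (Fin n) R) N] [Module R N] [IsScalarTower R (MvPolynomial (Fin n) R) N]
  (V : Module.Basis κ (MvPolynomial (Fin n) R) N)

/-- `F` multiplies the `t^m`-coefficient of the `K`-coordinate by `μ m K`. -/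
def IsDiag (F : Module.End R N) (μ : (Fin n →₀ ℕ) → κ → R) : Prop :=
  ∀ (η : N) (m : Fin n →₀ ℕ) (K : κ), coeff m (V.repr (F η) K) = μ m K * coeff m (V.repr η K)

theorem IsDiag.one : IsDiag V (1 : Module.End R N) (fun _ _ => 1) := by
  intro η m K
  rw [Module.End.one_apply, one_mul]

theorem IsDiag.mul {F F' : Module.End R N} {μ μ' : (Fin n →₀ ℕ) → κ → R}
    (h : IsDiag V F μ) (h' : IsDiag V F' μ') : IsDiag V (F * F') (fun m K => μ m K * μ' m K) := by
  intro η m K
  rw [Module.End.mul_apply, h, h', mul_assoc]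

theorem IsDiag.sub {F F' : Module.End R N} {μ μ' : (Fin n →₀ ℕ) → κ → R}
    (h : IsDiag V F μ) (h' : IsDiag V F' μ') : IsDiag V (F - F') (fun m K => μ m K - μ' m K) := by
  intro η m K
  rw [LinearMap.sub_apply, map_sub, Finsupp.sub_apply, coeff_sub, h, h', sub_mul]

theorem IsDiag.pow {F : Module.End R N} {μ : (Fin n →₀ ℕ) → κ → R}
    (h : IsDiag V F μ) (k : ℕ) : IsDiag V (F ^ k) (fun m K => μ m K ^ k) := by
  induction k with
  | zero =>
    simp only [pow_zero]
    exact IsDiag.one V
  | succ k ih =>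
    simp only [pow_succ]
    exact ih.mul V h

theorem IsDiag.list_prod {ι' : Type*} (F : ι' → Module.End R N)
    (μ : ι' → (Fin n →₀ ℕ) → κ → R) (l : List ι') (h : ∀ i, IsDiag V (F i) (μ i)) :
    IsDiag V (l.map F).prod (fun m K => (l.map (fun i => μ i m K)).prod) := by
  induction l with
  | nil =>
    simp only [List.map_nil, List.prod_nil]
    exact IsDiag.one V
  | cons a l ih =>
    simp only [List.map_cons, List.prod_cons]
    exact (h a).mul V ih

/-- Two elements with the same monomial coordinates are equal. -/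
theorem eq_of_coeff_repr {η η' : N}
    (h : ∀ (m : Fin n →₀ ℕ) (K : κ), coeff m (V.repr η K) = coeff m (V.repr η' K)) : η = η' := by
  apply V.repr.injective
  ext K m
  exact h m K

end Diag

section Fam

variable {R : Type u} [CommRing R] {A M : Type u} [CommRing A] [Algebra R A]
  [AddCommGroup M] [Module A M] [Module R M] [IsScalarTower R A M]
  (d : ∀ q : ℕ, ↥(⋀[A]^q M) →ₗ[R] ↥(⋀[A]^(q + 1) M))

/-- A graded family of endomorphisms commuting with `d`. -/
def Commutes (F : ∀ q : ℕ, Module.End R ↥(⋀[A]^q M)) : Prop :=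
  ∀ (q : ℕ) (η : ↥(⋀[A]^q M)), d q (F q η) = F (q + 1) (d q η)

theorem Commutes.one : Commutes d (fun _ => 1) := fun _ _ => rfl

theorem Commutes.mul {F F' : ∀ q : ℕ, Module.End R ↥(⋀[A]^q M)} (h : Commutes d F)
    (h' : Commutes d F') : Commutes d (fun q => F q * F' q) := by
  intro q η
  rw [Module.End.mul_apply, Module.End.mul_apply, h, h']

theorem Commutes.sub {F F' : ∀ q : ℕ, Module.End R ↥(⋀[A]^q M)} (h : Commutes d F)
    (h' : Commutes d F') : Commutes d (fun q => F q - F' q) := by
  intro q η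
  rw [LinearMap.sub_apply, LinearMap.sub_apply, map_sub, h, h']

theorem Commutes.pow {F : ∀ q : ℕ, Module.End R ↥(⋀[A]^q M)} (h : Commutes d F) (k : ℕ) :
    Commutes d (fun q => F q ^ k) := by
  induction k with
  | zero => simp only [pow_zero]; exact Commutes.one d
  | succ k ih => simp only [pow_succ]; exact ih.mul d h

theorem Commutes.list_prod {ι' : Type*} (F : ι' → ∀ q : ℕ, Module.End R ↥(⋀[A]^q M))
    (l : List ι') (h : ∀ i, Commutes d (F i)) :
    Commutes d (fun q => (l.map (fun i => F i q)).prod) := by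
  induction l with
  | nil => simp only [List.map_nil, List.prod_nil]; exact Commutes.one d
  | cons a l ih => simp only [List.map_cons, List.prod_cons]; exact (h a).mul d ih

/-- `F` is homotopic to the identity on closed forms of degree `q` (and preserves them). -/
def GoodOn (q : ℕ) (F : Module.End R ↥(⋀[A]^q M)) : Prop :=
  ∀ η ∈ DeRham.cocycles d q, η - F η ∈ DeRham.coboundaries d q ∧ F η ∈ DeRham.cocycles d q

theorem GoodOn.one (q : ℕ) : GoodOn d q (1 : Module.End R ↥(⋀[A]^q M)) := by
  intro η hη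
  rw [Module.End.one_apply, sub_self]
  exact ⟨Submodule.zero_mem _, hη⟩

theorem GoodOn.mul {q : ℕ} {F F' : Module.End R ↥(⋀[A]^q M)} (h : GoodOn d q F)
    (h' : GoodOn d q F') : GoodOn d q (F * F') := by
  intro η hη
  obtain ⟨h1, h2⟩ := h' η hη
  obtain ⟨h3, h4⟩ := h (F' η) h2
  rw [Module.End.mul_apply]
  refine ⟨?_, h4⟩
  have : η - F (F' η) = (η - F' η) + (F' η - F (F' η)) := by abel
  rw [this]
  exact Submodule.add_mem _ h1 h3

theorem GoodOn.list_prod {ι' : Type*} {q : ℕ} (F : ι' → Module.End R ↥(⋀[A]^q M))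
    (l : List ι') (h : ∀ i, GoodOn d q (F i)) : GoodOn d q (l.map F).prod := by
  induction l with
  | nil => simp only [List.map_nil, List.prod_nil]; exact GoodOn.one d q
  | cons a l ih => simp only [List.map_cons, List.prod_cons]; exact (h a).mul d ih

/-- `1 - L^(k+1)` is homotopic to the identity on closed forms, for a Lie derivative `L`. -/
theorem goodOn_one_sub_lie_pow (hdd : ∀ q : ℕ, d (q + 1) ∘ₗ d q = 0) (φ : M →ₗ[A] A) (q k : ℕ) :
    GoodOn d q (1 - (lie d φ q : Module.End R ↥(⋀[A]^q M)) ^ (k + 1)) := by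
  intro η hη
  have hpow : ∀ j : ℕ, ((lie d φ q : Module.End R ↥(⋀[A]^q M)) ^ j) η ∈ DeRham.cocycles d q := by
    intro j
    induction j with
    | zero => rw [pow_zero, Module.End.one_apply]; exact hη
    | succ j ih =>
      rw [pow_succ', Module.End.mul_apply]
      exact lie_mem_cocycles d hdd φ q _ ih
  have hex : ((lie d φ q : Module.End R ↥(⋀[A]^q M)) ^ (k + 1)) η ∈ DeRham.coboundaries d q := by
    rw [pow_succ', Module.End.mul_apply]
    exact lie_mem_coboundaries d φ q _ (hpow k)
  rw [LinearMap.sub_apply, Module.End.one_apply, sub_sub_cancel]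
  exact ⟨hex, Submodule.sub_mem _ hη (hpow (k + 1))⟩

theorem commutes_lie (hdd : ∀ q : ℕ, d (q + 1) ∘ₗ d q = 0) (φ : M →ₗ[A] A) :
    Commutes d (fun q => (lie d φ q : Module.End R ↥(⋀[A]^q M))) :=
  fun q η => d_comp_lie d hdd φ q η

end Fam

end Groth.Agent.Lib.Seat79.LogAff
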