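import Groth.Agent.Lib.Helper24LogConn

/-! # Coordinates in `E ⊗ ⋀^p L` for a free `L`; the layer `⊕ E_K ⊗ ω_K` (seat 79) -/

set_option autoImplicit false
set_option linter.unusedSectionVars false
universe v u
open TensorProduct

namespace Groth.Agent.Lib.Seat79.LogBasis

open Groth.Agent.Lib.Helper24LogConn

variable {A : Type v} {B L E : Type u} [CommRing A] [CommRing B]
    [Algebra A B] [AddCommGroup L] [Module B L] [Module A L] [IsScalarTower A B L]
    [AddCommGroup E] [Module B E] [Module A E] [IsScalarTower A B E]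

/-- Expansion of an element of `E ⊗ F` in a finite basis of `F`. -/
theorem tensor_expand {ι : Type*} [Fintype ι] {F : Type u} [AddCommGroup F] [Module B F]
    (b : Module.Basis ι B F) (x : E ⊗[B] F) :
    x = ∑ i, (TensorProduct.rid B E (TensorProduct.map LinearMap.id (b.coord i) x)) ⊗ₜ[B] b i := by
  classical
  induction x using TensorProduct.induction_on with
  | zero => simp
  | add x y hx hy =>
    conv_lhs => rw [hx, hy]
    rw [← Finset.sum_add_distrib]
    apply Finset.sum_congr rfl
    intro i _
    rw [map_add, map_add, TensorProduct.add_tmul]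
  | tmul e f =>
    simp only [TensorProduct.map_tmul, LinearMap.id_apply, TensorProduct.rid_tmul,
      Module.Basis.coord_apply]
    conv_lhs => rw [← b.sum_repr f, TensorProduct.tmul_sum]
    apply Finset.sum_congr rfl
    intro i _
    rw [TensorProduct.smul_tmul]

section Coord

variable {n : ℕ} (ω : Module.Basis (Fin n) B L) (p : ℕ)

/-- The `K`-coordinate of `e ⊗ (v₁ ∧ ⋯ ∧ v_p)` is a determinant times `e`. -/
theorem coordE_tmul_ιMulti (K : Set.powersetCard (Fin n) p) (e : E) (v : Fin p → L) :
    LogConn.coordE (E := E) ω p K (e ⊗ₜ[B] exteriorPower.ιMulti B p v) =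
      (Matrix.of fun i j => ω.coord (Set.powersetCard.ofFinEmbEquiv.symm K j) (v i)).det • e := by
  unfold LogConn.coordE
  rw [LinearMap.comp_apply, TensorProduct.map_tmul, LinearMap.id_apply, LinearEquiv.coe_coe,
    TensorProduct.rid_tmul, exteriorPower.basis_coord, exteriorPower.ιMultiDual_apply_ιMulti]

theorem mem_layer_iff (nabla : E →ₗ[A] E ⊗[B] L) (t : Fin n → B) (x : E ⊗[B] ↥(⋀[B]^p L)) :
    x ∈ LogConn.layer nabla ω t p ↔
      ∀ K : Set.powersetCard (Fin n) p,
        LogConn.coordE (E := E) ω p K x ∈ LogConn.piece nabla ω t (K : Finset (Fin n)) := by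
  unfold LogConn.layer
  rw [Submodule.mem_iInf]
  rfl

end Coord

section Main

variable (lam : B) {n : ℕ} (t : Fin n → B)
    (bΩ : Module.Basis (Fin n) B (KaehlerDifferential A B))
    (hbΩ : ∀ i, bΩ i = KaehlerDifferential.D A B (t i))
    (ω : Module.Basis (Fin n) B L) (ι : KaehlerDifferential A B →ₗ[B] L)
    (hι : ∀ i, ι (KaehlerDifferential.D A B (t i)) = t i • ω i)
    (nabla : E →ₗ[A] E ⊗[B] L)
    (hc : Conn.IsLamConn (ι.compDer (KaehlerDifferential.D A B)) lam nabla)

include hbΩ hι hc

/-- The layer is stable under multiplication by `B`. -/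
theorem smul_mem_layer (p : ℕ) (b : B) {x : E ⊗[B] ↥(⋀[B]^p L)}
    (hx : x ∈ LogConn.layer nabla ω t p) : b • x ∈ LogConn.layer nabla ω t p := by
  rw [mem_layer_iff] at hx ⊢
  intro K
  rw [map_smul]
  exact s16792 lam t bΩ hbΩ ω ι hι nabla hc _ b _ (hx K)

/-- Lemma W': `y ⊗ (ω_{f 1} ∧ ⋯ ∧ ω_{f q})` lies in the layer as soon as `y` lies in the piece of the image of
`f` (when `f` is injective). -/
theorem tmul_ιMulti_mem_layer (q : ℕ) (f : Fin q → Fin n) (y : E)
    (hy : Function.Injective f → y ∈ LogConn.piece nabla ω t (Finset.univ.image f)) :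
    y ⊗ₜ[B] exteriorPower.ιMulti B q (ω ∘ f) ∈ LogConn.layer nabla ω t q := by
  classical
  by_cases hf : Function.Injective f
  · rw [mem_layer_iff]
    intro K
    rw [coordE_tmul_ιMulti]
    by_cases hK : (K : Finset (Fin n)) = Finset.univ.image f
    · rw [hK]
      exact s16792 lam t bΩ hbΩ ω ι hι nabla hc _ _ _ (hy hf)
    · -- some element of `K` is not in the image
      have hcard : (Finset.univ.image f).card = q := by
        rw [Finset.card_image_of_injective _ hf, Finset.card_univ, Fintype.card_fin]
      have hKcard : (K : Finset (Fin n)).card = q := K.prop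
      have hns : ¬ (K : Finset (Fin n)) ⊆ Finset.univ.image f := by
        intro hsub
        exact hK (Finset.eq_of_subset_of_card_le hsub (by rw [hcard, hKcard]))
      obtain ⟨k, hkK, hkf⟩ := Finset.not_subset.1 hns
      obtain ⟨j₀, hj₀⟩ := (Set.powersetCard.mem_range_ofFinEmbEquiv_symm_iff_mem K k).2 hkK
      have hdet : (Matrix.of fun i j => ω.coord (Set.powersetCard.ofFinEmbEquiv.symm K j)
          ((ω ∘ f) i)).det = 0 := by
        apply Matrix.det_eq_zero_of_column_eq_zero j₀
        intro i
        rw [Matrix.of_apply, Function.comp_apply, Module.Basis.coord_apply, Module.Basis.repr_self,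
          Finsupp.single_apply, if_neg]
        intro h
        apply hkf
        rw [← hj₀, ← h]
        exact Finset.mem_image_of_mem f (Finset.mem_univ i)
      rw [hdet, zero_smul]
      exact Submodule.zero_mem _
  · have h0 : exteriorPower.ιMulti B q (ω ∘ f) = 0 := by
      apply AlternatingMap.map_eq_zero_of_not_injective
      intro h
      exact hf (Function.Injective.of_comp h)
    rw [h0, TensorProduct.tmul_zero]
    exact Submodule.zero_mem _

end Main

end Groth.Agent.Lib.Seat79.LogBasis
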