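import Groth.Agent.Lib.Seat79LogBasis
import Groth.Prelude.Def_LogDiff

/-! # Integrability makes the components of a log connection commute (seat 79) -/

set_option autoImplicit false
set_option linter.unusedSectionVars false
universe v u
open TensorProduct

namespace Groth.Agent.Lib.Seat79.LogComm

open Groth.Agent.Lib.Helper24LogConn Groth.Agent.Lib.Seat79.LogBasis

variable {A : Type v} {B L E : Type u} [CommRing A] [CommRing B]
    [Algebra A B] [AddCommGroup L] [Module B L] [Module A L] [IsScalarTower A B L]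
    [AddCommGroup E] [Module B E] [Module A E] [IsScalarTower A B E]

section Wedge

/-- `ω ∧ (w₁ ∧ ⋯ ∧ w_p) = (ω, w₁, …, w_p)`-wedge. -/
theorem wedge_ιMulti (p : ℕ) (a : L) (w : Fin p → L) :
    Conn.wedge p ((exteriorPower.oneEquiv B L).symm a) (exteriorPower.ιMulti B p w) =
      exteriorPower.ιMulti B (p + 1) (Fin.cons a w) := by
  apply Subtype.ext
  rw [Conn.wedge_apply_coe, exteriorPower.oneEquiv_symm_apply, exteriorPower.ιMulti_apply_coe,
    exteriorPower.ιMulti_apply_coe, exteriorPower.ιMulti_apply_coe,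
    ExteriorAlgebra.ιMulti_succ_apply (v := Fin.cons a w), ExteriorAlgebra.ιMulti_succ_apply,
    ExteriorAlgebra.ιMulti_zero_apply, mul_one]
  congr 1

/-- Expansion of `nabla y` in the basis `ω`. -/
theorem nabla_expand {n : ℕ} (ω : Module.Basis (Fin n) B L) (nabla : E →ₗ[A] E ⊗[B] L) (y : E) :
    nabla y = ∑ i, LogConn.comp nabla ω i y ⊗ₜ[B] ω i :=
  tensor_expand ω (nabla y)

/-- `∇(y) ∧ η` for `η = w₁ ∧ ⋯ ∧ w_p`. -/
theorem twedge_toOne_nabla {n : ℕ} (ω : Module.Basis (Fin n) B L) (nabla : E →ₗ[A] E ⊗[B] L)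
    (p : ℕ) (y : E) (w : Fin p → L) :
    Conn.twedge p (Conn.toOne (nabla y)) (exteriorPower.ιMulti B p w) =
      ∑ i, LogConn.comp nabla ω i y ⊗ₜ[B] exteriorPower.ιMulti B (p + 1) (Fin.cons (ω i) w) := by
  rw [nabla_expand ω nabla y, map_sum, map_sum, LinearMap.sum_apply]
  apply Finset.sum_congr rfl
  intro i _
  rw [Conn.toOne_tmul, Conn.twedge_tmul, wedge_ιMulti]

end Wedge

section LogRule

variable {n : ℕ} (ω : Module.Basis (Fin n) B L) (ι : KaehlerDifferential A B →ₗ[B] L)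
  (d : ∀ p : ℕ, ↥(⋀[B]^p L) →ₗ[A] ↥(⋀[B]^(p + 1) L))
  (hd : LogDiff.IsLogRule (KaehlerDifferential.D A B) ι (⇑ω) d)

include hd in
/-- The log differential kills wedges of the `ω i`. -/
theorem d_ιMulti_ω (p : ℕ) (f : Fin p → Fin n) :
    d p (exteriorPower.ιMulti B p (ω ∘ f)) = 0 := by
  have h := hd p 1 (ω ∘ f) (fun k => Or.inr ⟨f k, rfl⟩)
  rw [one_smul] at h
  rw [h]
  have h0 : ι (KaehlerDifferential.D A B 1) = 0 := by
    rw [Derivation.map_one_eq_zero, map_zero]
  rw [h0]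
  exact (exteriorPower.ιMulti B (p + 1)).map_coord_zero (0 : Fin (p + 1)) (by simp)

end LogRule

section Comm

variable (lam : B) {n : ℕ} (ω : Module.Basis (Fin n) B L) (ι : KaehlerDifferential A B →ₗ[B] L)
  (nabla : E →ₗ[A] E ⊗[B] L)
  (d : ∀ p : ℕ, ↥(⋀[B]^p L) →ₗ[A] ↥(⋀[B]^(p + 1) L))
  (hd : LogDiff.IsLogRule (KaehlerDifferential.D A B) ι (⇑ω) d)
  (nablas : ∀ p : ℕ, E ⊗[B] ↥(⋀[B]^p L) →ₗ[A] E ⊗[B] ↥(⋀[B]^(p + 1) L))
  (hint : Conn.IsIntegrable nabla (fun p => lam • d p) nablas)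

include hd hint

/-- `∇^p (y ⊗ ω_f) = Σ_i ∇_i y ⊗ ω_i ∧ ω_f`. -/
theorem nablas_tmul_ιMulti (p : ℕ) (y : E) (f : Fin p → Fin n) :
    nablas p (y ⊗ₜ[B] exteriorPower.ιMulti B p (ω ∘ f)) =
      ∑ i, LogConn.comp nabla ω i y ⊗ₜ[B]
        exteriorPower.ιMulti B (p + 1) (ω ∘ (Fin.cons i f : Fin (p + 1) → Fin n)) := by
  rw [hint.1 p y, twedge_toOne_nabla ω]
  have h0 : (lam • d p) (exteriorPower.ιMulti B p (ω ∘ f)) = 0 := by
    rw [LinearMap.smul_apply, d_ιMulti_ω ω ι d hd p f, smul_zero]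
  rw [h0, TensorProduct.tmul_zero, add_zero]
  apply Finset.sum_congr rfl
  intro i _
  congr 2
  funext k
  refine Fin.cases ?_ (fun k' => ?_) k
  · simp
  · simp

/-- The components of an integrable log connection commute. -/
theorem comp_comm (a b : Fin n) (m : E) :
    LogConn.comp nabla ω a (LogConn.comp nabla ω b m) =
      LogConn.comp nabla ω b (LogConn.comp nabla ω a m) := by
  classical
  by_cases hab : a = b
  · rw [hab]
  have hzero := hint.2 m
  -- expand
  have h1 : Conn.toOne (nabla m) =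
      ∑ i, LogConn.comp nabla ω i m ⊗ₜ[B]
        exteriorPower.ιMulti B 1 (ω ∘ (fun _ : Fin 1 => i)) := by
    rw [nabla_expand ω nabla m, map_sum]
    apply Finset.sum_congr rfl
    intro i _
    rw [Conn.toOne_tmul, exteriorPower.oneEquiv_symm_apply]
    rfl
  rw [h1, map_sum] at hzero
  have h2 : ∀ i, nablas 1 (LogConn.comp nabla ω i m ⊗ₜ[B]
        exteriorPower.ιMulti B 1 (ω ∘ (fun _ : Fin 1 => i))) =
      ∑ j, LogConn.comp nabla ω j (LogConn.comp nabla ω i m) ⊗ₜ[B]
        exteriorPower.ιMulti B 2 (ω ∘ (Fin.cons j (fun _ : Fin 1 => i) : Fin 2 → Fin n)) :=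
    fun i => nablas_tmul_ιMulti lam ω ι nabla d hd nablas hint 1 _ _
  rw [Finset.sum_congr rfl (fun i _ => h2 i)] at hzero
  -- the functional dual to `ω_a ∧ ω_b`
  let φ : Module.Dual B ↥(⋀[B]^2 L) :=
    exteriorPower.pairingDual B L 2 (exteriorPower.ιMulti B 2 ![ω.coord a, ω.coord b])
  have hφ : ∀ i j : Fin n, φ (exteriorPower.ιMulti B 2
      (ω ∘ (Fin.cons j (fun _ : Fin 1 => i) : Fin 2 → Fin n))) =
      (if j = a then 1 else 0) * (if i = b then 1 else 0) -
        (if j = b then 1 else 0) * (if i = a then 1 else 0) := by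
    intro i j
    change exteriorPower.pairingDual B L 2 _ _ = _
    rw [exteriorPower.pairingDual_ιMulti_ιMulti, Matrix.det_fin_two]
    simp only [Matrix.of_apply, Function.comp_apply, Fin.cons_zero, Fin.cons_one,
      Matrix.cons_val_zero, Matrix.cons_val_one, Module.Basis.coord_apply, Module.Basis.repr_self,
      Finsupp.single_apply]
  have h3 := congrArg (fun z => TensorProduct.rid B E (TensorProduct.map LinearMap.id φ z)) hzero
  simp only [map_sum, TensorProduct.map_tmul, LinearMap.id_apply, TensorProduct.rid_tmul, hφ,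
    map_zero] at h3
  simp only [sub_smul, mul_smul, Finset.sum_sub_distrib, ite_smul, one_smul, zero_smul,
    smul_ite, smul_zero] at h3
  simp only [Finset.sum_ite_irrel, Finset.sum_const_zero, Finset.sum_ite_eq', Finset.mem_univ,
    if_true] at h3
  exact sub_eq_zero.1 h3

end Comm

end Groth.Agent.Lib.Seat79.LogComm
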