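import Groth.Agent.Lib.Seat79LogBasis

/-! # The generators `LogConn.gens` lie in the layer (seat 79) -/

set_option autoImplicit false
set_option linter.unusedSectionVars false
universe v u
open TensorProduct

namespace Groth.Agent.Lib.Seat79.LogGens

open Groth.Agent.Lib.Helper24LogConn Groth.Agent.Lib.Seat79.LogBasis

variable {A : Type v} {B L E : Type u} [CommRing A] [CommRing B]
    [Algebra A B] [AddCommGroup L] [Module B L] [Module A L] [IsScalarTower A B L]
    [AddCommGroup E] [Module B E] [Module A E] [IsScalarTower A B E]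

/-- Multilinear expansion of `v₁ ∧ ⋯ ∧ v_p` in a basis. -/
theorem ιMulti_expand {n : ℕ} (ω : Module.Basis (Fin n) B L) (p : ℕ) (v : Fin p → L) :
    exteriorPower.ιMulti B p v =
      ∑ r : Fin p → Fin n, (∏ k, ω.repr (v k) (r k)) • exteriorPower.ιMulti B p (ω ∘ r) := by
  classical
  have hv : v = fun k => ∑ j, ω.repr (v k) j • ω j := by
    funext k
    exact (ω.sum_repr (v k)).symm
  conv_lhs => rw [hv]
  have h1 := MultilinearMap.map_sum (exteriorPower.ιMulti B p).toMultilinearMap
    (fun (k : Fin p) (j : Fin n) => ω.repr (v k) j • ω j)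
  rw [AlternatingMap.coe_multilinearMap] at h1
  rw [h1]
  apply Finset.sum_congr rfl
  intro r _
  have h2 := MultilinearMap.map_smul_univ (exteriorPower.ιMulti B p).toMultilinearMap
    (fun k => ω.repr (v k) (r k)) (fun k => ω (r k))
  rw [AlternatingMap.coe_multilinearMap] at h2
  exact h2

section Main

variable (lam : B) {n : ℕ} (t : Fin n → B)
    (bΩ : Module.Basis (Fin n) B (KaehlerDifferential A B))
    (hbΩ : ∀ i, bΩ i = KaehlerDifferential.D A B (t i))
    (ω : Module.Basis (Fin n) B L) (ι : KaehlerDifferential A B →ₗ[B] L)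
    (hι : ∀ i, ι (KaehlerDifferential.D A B (t i)) = t i • ω i)
    (nabla : E →ₗ[A] E ⊗[B] L)
    (hc : Conn.IsLamConn (ι.compDer (KaehlerDifferential.D A B)) lam nabla)

include hbΩ hι

/-- Coordinates of a form without poles: divisible by `t j`. -/
theorem repr_ι (η : KaehlerDifferential A B) (j : Fin n) :
    ω.repr (ι η) j = bΩ.repr η j * t j := by
  have h1 : ι η = ∑ j, (bΩ.repr η j * t j) • ω j := by
    conv_lhs => rw [← bΩ.sum_repr η]
    rw [map_sum]
    refine Finset.sum_congr rfl (fun j _ => ?_)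
    rw [map_smul, hbΩ, hι, smul_smul]
  rw [h1, ω.repr_sum_self]

include hc

/-- Every generator lies in the layer. -/
theorem gens_subset_layer (p : ℕ) {x : E ⊗[B] ↥(⋀[B]^p L)} (hx : x ∈ LogConn.gens nabla ω ι p) :
    x ∈ LogConn.layer nabla ω t p := by
  classical
  obtain ⟨I, hIp, e, v, hv1, hv2, rfl⟩ := hx
  rw [ιMulti_expand ω p v, TensorProduct.tmul_sum]
  apply Submodule.sum_mem
  intro r _
  rw [TensorProduct.tmul_smul, TensorProduct.smul_tmul']
  apply tmul_ιMulti_mem_layer lam t bΩ hbΩ ω ι hι nabla hc p r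
  intro hr
  -- coefficient facts
  have hlow : ∀ (k : Fin p) (hk : k.val < I.card) (j : Fin n),
      ω.repr (v k) j = if j = I.orderEmbOfFin rfl ⟨k.val, hk⟩ then 1 else 0 := by
    intro k hk j
    rw [hv1 k hk, Module.Basis.repr_self, Finsupp.single_apply]
    by_cases h : I.orderEmbOfFin rfl ⟨k.val, hk⟩ = j
    · rw [if_pos h, if_pos h.symm]
    · rw [if_neg h, if_neg (fun h' => h h'.symm)]
  have hdiv : ∀ (k : Fin p) (j : Fin n), j ∉ I → t j ∣ ω.repr (v k) j := by
    intro k j hj
    by_cases hk : k.val < I.card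
    · rw [hlow k hk j, if_neg]
      · exact dvd_zero _
      · intro h
        exact hj (h ▸ Finset.orderEmbOfFin_mem I rfl _)
    · obtain ⟨η, hη⟩ := hv2 k (not_lt.1 hk)
      rw [← hη, repr_ι t bΩ hbΩ ω ι hι η j]
      exact dvd_mul_left _ _
  by_cases hIr : I ⊆ Finset.univ.image r
  · -- Case B
    have hprod : (∏ j ∈ Finset.univ.image r \ I, t j) ∣ ∏ k, ω.repr (v k) (r k) := by
      have h1 : ∏ j ∈ Finset.univ.image r \ I, t j =
          ∏ k : Fin p, (if r k ∈ I then 1 else t (r k)) := by
        rw [← Finset.prod_image (s := Finset.univ) (g := r)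
          (f := fun j => if j ∈ I then 1 else t j) (fun a _ b _ h => hr h)]
        rw [← Finset.prod_sdiff hIr]
        have hI1 : ∏ j ∈ I, (if j ∈ I then (1 : B) else t j) = 1 := by
          apply Finset.prod_eq_one
          intro j hj
          rw [if_pos hj]
        rw [hI1, mul_one]
        apply Finset.prod_congr rfl
        intro j hj
        rw [if_neg (Finset.mem_sdiff.1 hj).2]
      rw [h1]
      apply Finset.prod_dvd_prod_of_dvd
      intro k _
      by_cases hk : r k ∈ I
      · rw [if_pos hk]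
        exact one_dvd _
      · rw [if_neg hk]
        exact hdiv k (r k) hk
    obtain ⟨c, hc'⟩ := hprod
    rw [hc', mul_comm, ← smul_smul]
    exact s16792 lam t bΩ hbΩ ω ι hι nabla hc _ c _ (gen_mem nabla ω t hIr e)
  · -- Case A
    obtain ⟨i₀, hi₀I, hi₀r⟩ := Finset.not_subset.1 hIr
    obtain ⟨k₀, hk₀⟩ : ∃ k₀ : Fin I.card, I.orderEmbOfFin rfl k₀ = i₀ := by
      have := Finset.range_orderEmbOfFin I rfl
      have hmem : i₀ ∈ Set.range (I.orderEmbOfFin rfl) := by rw [this]; exact hi₀I
      exact hmem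
    have hk₀p : k₀.val < p := lt_of_lt_of_le k₀.isLt hIp
    have hzero : ω.repr (v ⟨k₀.val, hk₀p⟩) (r ⟨k₀.val, hk₀p⟩) = 0 := by
      rw [hlow ⟨k₀.val, hk₀p⟩ k₀.isLt, if_neg]
      intro h
      apply hi₀r
      rw [← hk₀]
      have : r ⟨k₀.val, hk₀p⟩ ∈ Finset.univ.image r := Finset.mem_image_of_mem r (Finset.mem_univ _)
      rw [h] at this
      exact this
    have hprod0 : ∏ k, ω.repr (v k) (r k) = 0 :=
      Finset.prod_eq_zero (Finset.mem_univ ⟨k₀.val, hk₀p⟩) hzero
    rw [hprod0, zero_smul]
    exact Submodule.zero_mem _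

/-- `span_B gens ⊆ layer`. -/
theorem span_gens_le_layer (p : ℕ) :
    (Submodule.span B (LogConn.gens nabla ω ι p)).restrictScalars A ≤ LogConn.layer nabla ω t p := by
  intro x hx
  rw [Submodule.restrictScalars_mem] at hx
  induction hx using Submodule.span_induction with
  | mem x h => exact gens_subset_layer lam t bΩ hbΩ ω ι hι nabla hc p h
  | zero => exact Submodule.zero_mem _
  | add x y _ _ ihx ihy => exact Submodule.add_mem _ ihx ihy
  | smul b x _ ih => exact smul_mem_layer lam t bΩ hbΩ ω ι hι nabla hc p b ih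

end Main

end Groth.Agent.Lib.Seat79.LogGens
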