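import Groth.Agent.Lib.Seat79LogComm

/-! # The extension `∇^p` of an integrable log connection preserves the layers (seat 79) -/

set_option autoImplicit false
set_option linter.unusedSectionVars false
universe v u
open TensorProduct

namespace Groth.Agent.Lib.Seat79.LogNabla

open Groth.Agent.Lib.Helper24LogConn Groth.Agent.Lib.Seat79.LogBasis Groth.Agent.Lib.Seat79.LogComm

variable {A : Type v} {B L E : Type u} [CommRing A] [CommRing B]
    [Algebra A B] [AddCommGroup L] [Module B L] [Module A L] [IsScalarTower A B L]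
    [AddCommGroup E] [Module B E] [Module A E] [IsScalarTower A B E]

section General

variable {n : ℕ} (ω : Module.Basis (Fin n) B L) (nabla : E →ₗ[A] E ⊗[B] L)
  (hcomm : ∀ (a b : Fin n) (m : E), LogConn.comp nabla ω a (LogConn.comp nabla ω b m) =
      LogConn.comp nabla ω b (LogConn.comp nabla ω a m))

include hcomm

/-- With commuting components, `∇_{insert j K} = ∇_j ∘ ∇_K` for any `j ∉ K`. -/
theorem compProd_insert_of_comm (j : Fin n) (K : Finset (Fin n)) (hj : j ∉ K) :
    LogConn.compProd nabla ω (insert j K) =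
      LogConn.comp nabla ω j ∘ₗ LogConn.compProd nabla ω K := by
  classical
  unfold LogConn.compProd
  have : LeftCommutative (fun (i : Fin n) (φ : E →ₗ[A] E) => LogConn.comp nabla ω i ∘ₗ φ) :=
    ⟨fun a b φ => by
      apply LinearMap.ext
      intro m
      exact hcomm a b (φ m)⟩
  have hperm : ((insert j K).sort (· ≤ ·)).Perm (j :: K.sort (· ≤ ·)) := by
    apply List.perm_of_nodup_nodup_toFinset_eq (Finset.sort_nodup _ _)
    · rw [List.nodup_cons]
      refine ⟨?_, Finset.sort_nodup _ _⟩
      rw [Finset.mem_sort]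
      exact hj
    · rw [Finset.sort_toFinset, List.toFinset_cons, Finset.sort_toFinset]
  rw [hperm.foldr_eq, List.foldr_cons]

end General

section Main

variable (lam : B) {n : ℕ} (t : Fin n → B)
    (bΩ : Module.Basis (Fin n) B (KaehlerDifferential A B))
    (hbΩ : ∀ i, bΩ i = KaehlerDifferential.D A B (t i))
    (ω : Module.Basis (Fin n) B L) (ι : KaehlerDifferential A B →ₗ[B] L)
    (hι : ∀ i, ι (KaehlerDifferential.D A B (t i)) = t i • ω i)
    (nabla : E →ₗ[A] E ⊗[B] L)
    (hc : Conn.IsLamConn (ι.compDer (KaehlerDifferential.D A B)) lam nabla)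
    (hcomm : ∀ (a b : Fin n) (m : E), LogConn.comp nabla ω a (LogConn.comp nabla ω b m) =
      LogConn.comp nabla ω b (LogConn.comp nabla ω a m))

include hbΩ hι hc hcomm

/-- `∇_j` maps the piece of `J'` into the piece of `insert j J'` (`j ∉ J'`). -/
theorem comp_piece_of_comm (j : Fin n) (J' : Finset (Fin n)) (hjJ' : j ∉ J') {x : E}
    (hx : x ∈ LogConn.piece nabla ω t J') :
    LogConn.comp nabla ω j x ∈ LogConn.piece nabla ω t (insert j J') := by
  classical
  have h : LogConn.piece nabla ω t J' ≤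
      (LogConn.piece nabla ω t (insert j J')).comap (LogConn.comp nabla ω j) := by
    apply piece_le
    intro K hK e
    rw [Submodule.mem_comap, comp_smul lam t bΩ hbΩ ω ι hι nabla hc j (∏ i ∈ J' \ K, t i)
      (LogConn.compProd nabla ω K e),
      pd_prod t bΩ hbΩ j (J' \ K) (fun h => hjJ' (Finset.mem_sdiff.mp h).1), zero_mul, mul_zero,
      zero_smul, add_zero]
    have hjK : j ∉ K := fun h => hjJ' (hK h)
    have e1 : LogConn.comp nabla ω j (LogConn.compProd nabla ω K e) =
        LogConn.compProd nabla ω (insert j K) e := by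
      rw [compProd_insert_of_comm ω nabla hcomm j K hjK]; rfl
    have e2 : J' \ K = insert j J' \ insert j K := by
      ext x
      simp only [Finset.mem_sdiff, Finset.mem_insert]
      constructor
      · rintro ⟨h1, h2⟩
        exact ⟨Or.inr h1, fun h => h.elim (fun h3 => hjJ' (h3 ▸ h1)) h2⟩
      · rintro ⟨h1 | h1, h2⟩
        · exact absurd (Or.inl h1) h2
        · exact ⟨h1, fun h3 => h2 (Or.inr h3)⟩
    rw [e1, e2]
    exact gen_mem nabla ω t (Finset.insert_subset_insert j hK) e
  exact h hx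

end Main

section Final

variable (lam : B) {n : ℕ} (t : Fin n → B)
    (bΩ : Module.Basis (Fin n) B (KaehlerDifferential A B))
    (hbΩ : ∀ i, bΩ i = KaehlerDifferential.D A B (t i))
    (ω : Module.Basis (Fin n) B L) (ι : KaehlerDifferential A B →ₗ[B] L)
    (hι : ∀ i, ι (KaehlerDifferential.D A B (t i)) = t i • ω i)
    (nabla : E →ₗ[A] E ⊗[B] L)
    (hc : Conn.IsLamConn (ι.compDer (KaehlerDifferential.D A B)) lam nabla)
    (d : ∀ p : ℕ, ↥(⋀[B]^p L) →ₗ[A] ↥(⋀[B]^(p + 1) L))
    (hd : LogDiff.IsLogRule (KaehlerDifferential.D A B) ι (⇑ω) d)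
    (nablas : ∀ p : ℕ, E ⊗[B] ↥(⋀[B]^p L) →ₗ[A] E ⊗[B] ↥(⋀[B]^(p + 1) L))
    (hint : Conn.IsIntegrable nabla (fun p => lam • d p) nablas)

include hbΩ hι hc hd hint

/-- `∇^p` maps the layer of degree `p` into the layer of degree `p + 1`. -/
theorem nablas_mem_layer (p : ℕ) (x : E ⊗[B] ↥(⋀[B]^p L)) (hx : x ∈ LogConn.layer nabla ω t p) :
    nablas p x ∈ LogConn.layer nabla ω t (p + 1) := by
  classical
  have hcomm := comp_comm lam ω ι nabla d hd nablas hint
  rw [mem_layer_iff] at hx
  rw [tensor_expand (ω.exteriorPower p) x, map_sum]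
  apply Submodule.sum_mem
  intro K _
  have hK : (ω.exteriorPower p) K =
      exteriorPower.ιMulti B p (ω ∘ (Set.powersetCard.ofFinEmbEquiv.symm K)) := by
    rw [exteriorPower.basis_apply]
    rfl
  rw [hK, nablas_tmul_ιMulti lam ω ι nabla d hd nablas hint p _ _]
  apply Submodule.sum_mem
  intro i _
  apply tmul_ιMulti_mem_layer lam t bΩ hbΩ ω ι hι nabla hc (p + 1)
  intro hinj
  -- `i ∉ K` and the image is `insert i K`
  have hiK : i ∉ (K : Finset (Fin n)) := by
    intro hi
    obtain ⟨k, hk⟩ := (Set.powersetCard.mem_range_ofFinEmbEquiv_symm_iff_mem K i).2 hi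
    have h01 : (Fin.cons i (Set.powersetCard.ofFinEmbEquiv.symm K) : Fin (p + 1) → Fin n) 0 =
        (Fin.cons i (Set.powersetCard.ofFinEmbEquiv.symm K) : Fin (p + 1) → Fin n) k.succ := by
      rw [Fin.cons_zero, Fin.cons_succ, hk]
    exact absurd (hinj h01) (Fin.succ_ne_zero k).symm
  have himg : Finset.univ.image (Fin.cons i (Set.powersetCard.ofFinEmbEquiv.symm K) :
      Fin (p + 1) → Fin n) = insert i (K : Finset (Fin n)) := by
    ext a
    simp only [Finset.mem_image, Finset.mem_univ, true_and, Finset.mem_insert]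
    constructor
    · rintro ⟨k, rfl⟩
      refine Fin.cases ?_ (fun k' => ?_) k
      · left; simp
      · right
        rw [Fin.cons_succ]
        exact (Set.powersetCard.mem_range_ofFinEmbEquiv_symm_iff_mem K _).1 ⟨k', rfl⟩
    · rintro (rfl | ha)
      · exact ⟨0, by simp⟩
      · obtain ⟨k, hk⟩ := (Set.powersetCard.mem_range_ofFinEmbEquiv_symm_iff_mem K a).2 ha
        exact ⟨k.succ, by rw [Fin.cons_succ, hk]⟩
  rw [himg]
  exact comp_piece_of_comm lam t bΩ hbΩ ω ι hι nabla hc hcomm i _ hiK (hx K)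

end Final

end Groth.Agent.Lib.Seat79.LogNabla
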