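import Groth.Agent.Lib.Seat79LogNabla

/-! # Pieces `E_K` of a log connection with commuting components (seat 79)

With commuting components `∇_i` (e.g. from integrability): the pieces `E_K` decrease with `K`,
`t_{K'' ∖ K} E_K ⊆ E_{K''}` for arbitrary `K`, `K''`, and `∇_i (E_K) ⊆ E_{K ∪ {i}}` for every `i`. -/

set_option autoImplicit false
set_option linter.unusedSectionVars false
universe v u
open TensorProduct

namespace Groth.Agent.Lib.Seat79.LogPiece

open Groth.Agent.Lib.Helper24LogConn Groth.Agent.Lib.Seat79.LogBasis Groth.Agent.Lib.Seat79.LogComm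
  Groth.Agent.Lib.Seat79.LogNabla

variable {A : Type v} {B L E : Type u} [CommRing A] [CommRing B]
    [Algebra A B] [AddCommGroup L] [Module B L] [Module A L] [IsScalarTower A B L]
    [AddCommGroup E] [Module B E] [Module A E] [IsScalarTower A B E]

section General

variable {n : ℕ} (ω : Module.Basis (Fin n) B L) (nabla : E →ₗ[A] E ⊗[B] L)
  (hcomm : ∀ (a b : Fin n) (m : E), LogConn.comp nabla ω a (LogConn.comp nabla ω b m) =
      LogConn.comp nabla ω b (LogConn.comp nabla ω a m))

include hcomm

/-- `∇_i` commutes with every ordered composite `∇_J`. -/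
theorem comp_compProd_comm (i : Fin n) (J : Finset (Fin n)) (e : E) :
    LogConn.comp nabla ω i (LogConn.compProd nabla ω J e) =
      LogConn.compProd nabla ω J (LogConn.comp nabla ω i e) := by
  classical
  induction J using Finset.induction_on with
  | empty => rw [compProd_empty]; rfl
  | insert a J ha ih =>
    rw [compProd_insert_of_comm ω nabla hcomm a J ha, LinearMap.comp_apply, LinearMap.comp_apply,
      hcomm i a, ih]

end General

section Main

variable (lam : B) {n : ℕ} (t : Fin n → B)
    (bΩ : Module.Basis (Fin n) B (KaehlerDifferential A B))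
    (hbΩ : ∀ i, bΩ i = KaehlerDifferential.D A B (t i))
    (ω : Module.Basis (Fin n) B L) (ι : KaehlerDifferential A B →ₗ[B] L)
    (hι : ∀ i, ι (KaehlerDifferential.D A B (t i)) = t i • ω i)
    (nabla : E →ₗ[A] E ⊗[B] L)
    (hc : Conn.IsLamConn (ι.compDer (KaehlerDifferential.D A B)) lam nabla)
    (hcomm : ∀ (a b : Fin n) (m : E), LogConn.comp nabla ω a (LogConn.comp nabla ω b m) =
      LogConn.comp nabla ω b (LogConn.comp nabla ω a m))

include hbΩ in
/-- `t_i ∂_i (t_S)` is a multiple of `t_S`. -/
theorem pd_prod_mul (i : Fin n) (S : Finset (Fin n)) :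
    ∃ c : B, pd bΩ i (∏ k ∈ S, t k) * t i = c * ∏ k ∈ S, t k := by
  classical
  induction S using Finset.induction_on with
  | empty =>
    refine ⟨0, ?_⟩
    rw [Finset.prod_empty, (pd bΩ i).map_one_eq_zero, zero_mul, zero_mul]
  | insert a S ha ih =>
    obtain ⟨c, hc'⟩ := ih
    rw [Finset.prod_insert ha, Derivation.leibniz, pd_t t bΩ hbΩ]
    by_cases hai : a = i
    · refine ⟨c + 1, ?_⟩
      rw [if_pos hai, smul_eq_mul, smul_eq_mul, mul_one, add_mul, mul_assoc, hc', hai]
      ring
    · refine ⟨c, ?_⟩
      rw [if_neg hai, smul_eq_mul, smul_eq_mul, mul_zero, add_zero, mul_assoc, hc']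
      ring

include hbΩ hι hc hcomm

/-- Removing an index enlarges the piece. -/
theorem piece_insert_le (i : Fin n) (K : Finset (Fin n)) (hi : i ∉ K) :
    LogConn.piece nabla ω t (insert i K) ≤ LogConn.piece nabla ω t K := by
  classical
  apply piece_le
  intro J hJ e
  by_cases hiJ : i ∈ J
  · -- `J = insert i J₀`
    have hJ₀ : J.erase i ⊆ K := by
      intro x hx
      have h1 := Finset.mem_erase.1 hx
      rcases Finset.mem_insert.1 (hJ h1.2) with h | h
      · exact absurd h h1.1
      · exact h
    have hJeq : J = insert i (J.erase i) := (Finset.insert_erase hiJ).symm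
    have hsd : insert i K \ J = K \ J.erase i := by
      ext x
      simp only [Finset.mem_sdiff, Finset.mem_insert, Finset.mem_erase]
      constructor
      · rintro ⟨h1 | h1, h2⟩
        · exact absurd (h1 ▸ hiJ) h2
        · exact ⟨h1, fun h => h2 h.2⟩
      · rintro ⟨h1, h2⟩
        refine ⟨Or.inr h1, fun h => h2 ⟨?_, h⟩⟩
        rintro rfl
        exact hi h1
    have hcp : LogConn.compProd nabla ω J e =
        LogConn.compProd nabla ω (J.erase i) (LogConn.comp nabla ω i e) := by
      conv_lhs => rw [hJeq]
      rw [compProd_insert_of_comm ω nabla hcomm i (J.erase i) (Finset.notMem_erase i J),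
        LinearMap.comp_apply, comp_compProd_comm ω nabla hcomm]
    rw [hsd, hcp]
    exact gen_mem nabla ω t hJ₀ _
  · have hJK : J ⊆ K := by
      intro x hx
      rcases Finset.mem_insert.1 (hJ hx) with h | h
      · exact absurd (h ▸ hx) hiJ
      · exact h
    have hsd : insert i K \ J = insert i (K \ J) := by
      rw [Finset.insert_sdiff_of_notMem _ hiJ]
    have hni : i ∉ K \ J := fun h => hi (Finset.mem_sdiff.1 h).1
    rw [hsd, Finset.prod_insert hni, ← smul_smul]
    exact s16792 lam t bΩ hbΩ ω ι hι nabla hc _ _ _ (gen_mem nabla ω t hJK e)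

/-- The pieces decrease with the index set. -/
theorem piece_anti {K₁ K₂ : Finset (Fin n)} (h : K₁ ⊆ K₂) :
    LogConn.piece nabla ω t K₂ ≤ LogConn.piece nabla ω t K₁ := by
  classical
  have key : ∀ S : Finset (Fin n), Disjoint K₁ S →
      LogConn.piece nabla ω t (K₁ ∪ S) ≤ LogConn.piece nabla ω t K₁ := by
    intro S
    induction S using Finset.induction_on with
    | empty => intro _; rw [Finset.union_empty]
    | insert a S ha ih =>
      intro hd
      rw [Finset.disjoint_insert_right] at hd
      have hins : K₁ ∪ insert a S = insert a (K₁ ∪ S) := by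
        rw [Finset.union_insert]
      rw [hins]
      refine le_trans (piece_insert_le lam t bΩ hbΩ ω ι hι nabla hc hcomm a (K₁ ∪ S) ?_) (ih hd.2)
      intro hmem
      rcases Finset.mem_union.1 hmem with h1 | h1
      · exact hd.1 h1
      · exact ha h1
  have := key (K₂ \ K₁) Finset.disjoint_sdiff
  rwa [Finset.union_sdiff_of_subset h] at this

/-- `t_{K'' ∖ K} E_K ⊆ E_{K''}` for arbitrary index sets. -/
theorem smul_piece_mem_gen (K K'' : Finset (Fin n)) {y : E}
    (hy : y ∈ LogConn.piece nabla ω t K) :
    (∏ i ∈ K'' \ K, t i) • y ∈ LogConn.piece nabla ω t K'' := by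
  classical
  have hy' : y ∈ LogConn.piece nabla ω t (K'' ∩ K) :=
    piece_anti lam t bΩ hbΩ ω ι hι nabla hc hcomm Finset.inter_subset_right hy
  have h := smul_piece_mem nabla ω t (Finset.inter_subset_left (s₁ := K'') (s₂ := K)) hy'
  rwa [Finset.sdiff_inter_self_left] at h

/-- `∇_i` preserves the piece `E_K` when `i ∈ K`. -/
theorem comp_piece_self (i : Fin n) (K : Finset (Fin n)) (hi : i ∈ K) {x : E}
    (hx : x ∈ LogConn.piece nabla ω t K) :
    LogConn.comp nabla ω i x ∈ LogConn.piece nabla ω t K := by
  classical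
  have h : LogConn.piece nabla ω t K ≤
      (LogConn.piece nabla ω t K).comap (LogConn.comp nabla ω i) := by
    apply piece_le
    intro J hJ e
    rw [Submodule.mem_comap, comp_smul lam t bΩ hbΩ ω ι hι nabla hc i (∏ k ∈ K \ J, t k)
      (LogConn.compProd nabla ω J e)]
    apply Submodule.add_mem
    · by_cases hiJ : i ∈ J
      · rw [comp_compProd_comm ω nabla hcomm]
        exact gen_mem nabla ω t hJ _
      · have hiJK : insert i J ⊆ K := Finset.insert_subset hi hJ
        have hsd : K \ J = insert i (K \ insert i J) := by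
          ext x
          simp only [Finset.mem_sdiff, Finset.mem_insert]
          constructor
          · rintro ⟨h1, h2⟩
            by_cases hxi : x = i
            · exact Or.inl hxi
            · exact Or.inr ⟨h1, fun h => h.elim hxi h2⟩
          · rintro (h1 | ⟨h1, h2⟩)
            · exact h1 ▸ ⟨hi, hiJ⟩
            · exact ⟨h1, fun h => h2 (Or.inr h)⟩
        have hni : i ∉ K \ insert i J := fun h =>
          (Finset.mem_sdiff.1 h).2 (Finset.mem_insert_self i J)
        have hcp : LogConn.comp nabla ω i (LogConn.compProd nabla ω J e) =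
            LogConn.compProd nabla ω (insert i J) e := by
          rw [compProd_insert_of_comm ω nabla hcomm i J hiJ]; rfl
        rw [hsd, Finset.prod_insert hni, ← smul_smul, hcp]
        exact s16792 lam t bΩ hbΩ ω ι hι nabla hc _ _ _ (gen_mem nabla ω t hiJK e)
    · obtain ⟨c, hc'⟩ := pd_prod_mul t bΩ hbΩ i (K \ J)
      rw [hc', ← mul_assoc, ← smul_smul]
      exact s16792 lam t bΩ hbΩ ω ι hι nabla hc _ _ _ (gen_mem nabla ω t hJ e)
  exact h hx

/-- `∇_i (E_K) ⊆ E_{K ∪ {i}}` for every index `i`. -/
theorem comp_piece_insert (i : Fin n) (K : Finset (Fin n)) {x : E}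
    (hx : x ∈ LogConn.piece nabla ω t K) :
    LogConn.comp nabla ω i x ∈ LogConn.piece nabla ω t (insert i K) := by
  classical
  by_cases hi : i ∈ K
  · rw [Finset.insert_eq_of_mem hi]
    exact comp_piece_self lam t bΩ hbΩ ω ι hι nabla hc hcomm i K hi hx
  · exact comp_piece_of_comm lam t bΩ hbΩ ω ι hι nabla hc hcomm i K hi hx

end Main

end Groth.Agent.Lib.Seat79.LogPiece
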