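import Groth.Agent.Lib.Seat79LogGens

/-! # The layer is the `B`-span of `LogConn.gens` (seat 79) -/

set_option autoImplicit false
set_option linter.unusedSectionVars false
universe v u
open TensorProduct

namespace Groth.Agent.Lib.Seat79.LogSpan

open Groth.Agent.Lib.Helper24LogConn Groth.Agent.Lib.Seat79.LogBasis Groth.Agent.Lib.Seat79.LogGens
open Set Set.powersetCard

variable {A : Type v} {B L E : Type u} [CommRing A] [CommRing B]
    [Algebra A B] [AddCommGroup L] [Module B L] [Module A L] [IsScalarTower A B L]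
    [AddCommGroup E] [Module B E] [Module A E] [IsScalarTower A B E]

/-- `ω_J ∧ ω_T = ± ω_{J ⊔ T}` in the exterior power. -/
theorem ιMulti_append_eq {n : ℕ} (ω : Module.Basis (Fin n) B L) (J T : Finset (Fin n))
    (hd : Disjoint J T) :
    ∃ ε : ℤˣ, exteriorPower.ιMulti B (J.card + T.card)
        (Fin.append (ω ∘ J.orderEmbOfFin rfl) (ω ∘ T.orderEmbOfFin rfl)) =
      ε • (ω.exteriorPower (J.card + T.card))
        (disjUnion (s := ofCard (s := J) rfl) (t := ofCard (s := T) rfl) hd) := by
  refine ⟨(permOfDisjoint (s := ofCard (s := J) rfl) (t := ofCard (s := T) rfl) hd).sign, ?_⟩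
  apply Subtype.ext
  have h := ExteriorAlgebra.ιMulti_family_mul_of_disjoint (R := B) (⇑ω)
    (ofCard (s := J) rfl) (ofCard (s := T) rfl) hd
  rw [exteriorPower.ιMulti_apply_coe, ← ExteriorAlgebra.ιMulti_mul_ιMulti]
  rw [exteriorPower.basis_apply]
  rcases Int.units_eq_one_or
    (permOfDisjoint (s := ofCard (s := J) rfl) (t := ofCard (s := T) rfl) hd).sign with hε | hε
  · rw [hε, one_smul] at h ⊢
    exact h
  · rw [hε] at h ⊢
    rw [Units.neg_smul, one_smul] at h ⊢
    rw [Submodule.coe_neg]
    exact h

section Main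

variable (lam : B) {n : ℕ} (t : Fin n → B)
    (bΩ : Module.Basis (Fin n) B (KaehlerDifferential A B))
    (hbΩ : ∀ i, bΩ i = KaehlerDifferential.D A B (t i))
    (ω : Module.Basis (Fin n) B L) (ι : KaehlerDifferential A B →ₗ[B] L)
    (hι : ∀ i, ι (KaehlerDifferential.D A B (t i)) = t i • ω i)
    (nabla : E →ₗ[A] E ⊗[B] L)
    (hc : Conn.IsLamConn (ι.compDer (KaehlerDifferential.D A B)) lam nabla)

include hι

/-- The standard generators of the layer are, up to sign, elements of `gens`. -/
theorem std_mem_span' (J T : Finset (Fin n)) (hd : Disjoint J T) (e : E) :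
    ((∏ j ∈ T, t j) • LogConn.compProd nabla ω J e) ⊗ₜ[B]
        (ω.exteriorPower (J.card + T.card))
          (disjUnion (s := ofCard (s := J) rfl) (t := ofCard (s := T) rfl) hd) ∈
      Submodule.span B (LogConn.gens nabla ω ι (J.card + T.card)) := by
  classical
  -- the generator
  set v : Fin (J.card + T.card) → L :=
    Fin.append (ω ∘ J.orderEmbOfFin rfl)
      (fun k => t (T.orderEmbOfFin rfl k) • ω (T.orderEmbOfFin rfl k)) with hv
  have hgen : LogConn.compProd nabla ω J e ⊗ₜ[B] exteriorPower.ιMulti B (J.card + T.card) v ∈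
      LogConn.gens nabla ω ι (J.card + T.card) := by
    refine ⟨J, Nat.le_add_right _ _, e, v, ?_, ?_, rfl⟩
    · intro k hk
      obtain ⟨k', rfl⟩ : ∃ k' : Fin J.card, k = Fin.castAdd T.card k' := ⟨⟨k.val, hk⟩, Fin.ext rfl⟩
      rw [hv, Fin.append_left]
      rfl
    · intro k hk
      have hk2 : k.val - J.card < T.card := by have := k.isLt; omega
      obtain ⟨k', rfl⟩ : ∃ k' : Fin T.card, k = Fin.natAdd J.card k' := by
        refine ⟨⟨k.val - J.card, hk2⟩, ?_⟩
        apply Fin.ext
        simp only [Fin.natAdd_mk]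
        omega
      rw [hv, Fin.append_right]
      exact ⟨KaehlerDifferential.D A B (t (T.orderEmbOfFin rfl k')), hι _⟩
  -- compute the wedge
  have hsm : v = fun i => (Fin.append (fun _ : Fin J.card => (1 : B))
        (fun k => t (T.orderEmbOfFin rfl k)) i) •
      (Fin.append (ω ∘ J.orderEmbOfFin rfl) (ω ∘ T.orderEmbOfFin rfl)) i := by
    funext i
    rw [hv]
    refine Fin.addCases (fun a => ?_) (fun b => ?_) i
    · simp only [Fin.append_left, one_smul]
    · simp only [Fin.append_right, Function.comp_apply]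
  have hprod : ∏ i, Fin.append (fun _ : Fin J.card => (1 : B))
      (fun k => t (T.orderEmbOfFin rfl k)) i = ∏ j ∈ T, t j := by
    rw [Fin.prod_univ_add]
    simp only [Fin.append_left, Fin.append_right, Finset.prod_const_one, one_mul]
    conv_rhs => rw [← Finset.map_orderEmbOfFin_univ T rfl, Finset.prod_map]
    rfl
  have hw : exteriorPower.ιMulti B (J.card + T.card) v =
      (∏ j ∈ T, t j) • exteriorPower.ιMulti B (J.card + T.card)
        (Fin.append (ω ∘ J.orderEmbOfFin rfl) (ω ∘ T.orderEmbOfFin rfl)) := by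
    have h2 := MultilinearMap.map_smul_univ (exteriorPower.ιMulti B (J.card + T.card)).toMultilinearMap
      (Fin.append (fun _ : Fin J.card => (1 : B)) (fun k => t (T.orderEmbOfFin rfl k)))
      (Fin.append (ω ∘ J.orderEmbOfFin rfl) (ω ∘ T.orderEmbOfFin rfl))
    rw [AlternatingMap.coe_multilinearMap, hprod] at h2
    rw [hsm]
    exact h2
  obtain ⟨ε, hε⟩ := ιMulti_append_eq ω J T hd
  rw [hw, hε] at hgen
  have hmem := Submodule.subset_span (R := B) hgen
  rcases Int.units_eq_one_or ε with h1 | h1
  · rw [h1, one_smul, TensorProduct.tmul_smul, TensorProduct.smul_tmul'] at hmem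
    exact hmem
  · rw [h1, Units.neg_smul, one_smul, smul_neg, TensorProduct.tmul_neg, TensorProduct.tmul_smul,
      TensorProduct.smul_tmul'] at hmem
    have := Submodule.neg_mem _ hmem
    rwa [neg_neg] at this

/-- The same with an arbitrary index `p`. -/
theorem std_mem_span (J T : Finset (Fin n)) (hd : Disjoint J T) (p : ℕ) (hp : J.card + T.card = p)
    (K : Set.powersetCard (Fin n) p) (hK : (K : Finset (Fin n)) = J ∪ T) (e : E) :
    ((∏ j ∈ T, t j) • LogConn.compProd nabla ω J e) ⊗ₜ[B] (ω.exteriorPower p) K ∈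
      Submodule.span B (LogConn.gens nabla ω ι p) := by
  subst hp
  have hKeq : K = disjUnion (s := ofCard (s := J) rfl) (t := ofCard (s := T) rfl) hd := by
    apply Subtype.ext
    change (K : Finset (Fin n)) = J.disjUnion T hd
    rw [Finset.disjUnion_eq_union]
    exact hK
  rw [hKeq]
  exact std_mem_span' t ω ι hι nabla J T hd e

include hbΩ hc

/-- `layer ⊆ span_B gens`. -/
theorem layer_le_span_gens (p : ℕ) :
    LogConn.layer nabla ω t p ≤ (Submodule.span B (LogConn.gens nabla ω ι p)).restrictScalars A := by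
  classical
  intro x hx
  rw [mem_layer_iff] at hx
  rw [tensor_expand (ω.exteriorPower p) x]
  apply Submodule.sum_mem
  intro K _
  -- `y ↦ y ⊗ ω_K` maps `piece K` into the span
  have hle : LogConn.piece nabla ω t (K : Finset (Fin n)) ≤
      ((Submodule.span B (LogConn.gens nabla ω ι p)).restrictScalars A).comap
        (((TensorProduct.mk B E ↥(⋀[B]^p L)).flip ((ω.exteriorPower p) K)).restrictScalars A) := by
    apply piece_le
    intro J hJ e
    rw [Submodule.mem_comap, Submodule.restrictScalars_mem]
    have hd : Disjoint J ((K : Finset (Fin n)) \ J) := Finset.disjoint_sdiff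
    have hcard : J.card + ((K : Finset (Fin n)) \ J).card = p := by
      rw [← Finset.card_union_of_disjoint hd, Finset.union_sdiff_of_subset hJ]
      exact K.prop
    exact std_mem_span t ω ι hι nabla J ((K : Finset (Fin n)) \ J) hd p hcard K
      (Finset.union_sdiff_of_subset hJ).symm e
  exact hle (hx K)

/-- `span_B gens = layer`. -/
theorem span_gens_eq_layer (p : ℕ) :
    (Submodule.span B (LogConn.gens nabla ω ι p)).restrictScalars A = LogConn.layer nabla ω t p :=
  le_antisymm (span_gens_le_layer lam t bΩ hbΩ ω ι hι nabla hc p)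
    (layer_le_span_gens lam t bΩ hbΩ ω ι hι nabla hc p)

end Main

end Groth.Agent.Lib.Seat79.LogSpan
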