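import Groth.Agent.Lib.Seat79LogPiece
import Groth.Agent.Lib.Seat79LogGens

/-! # The layers do not depend on the admissible coordinates (unit multiples) (seat 79)

Two admissible systems `(t, ω)` and `(t', ω')` for the same `ι : Ω → L` with `t' i = u i * t i` (`u i` units) and
`ω' i = ω i + (u i)⁻¹ • ι (d (u i))` give the same pieces `E_K` and the same layers.  -/

set_option autoImplicit false
set_option linter.unusedSectionVars false
universe v u
open TensorProduct

namespace Groth.Agent.Lib.Seat79.LogUnit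

open Groth.Agent.Lib.Helper24LogConn Groth.Agent.Lib.Seat79.LogBasis Groth.Agent.Lib.Seat79.LogComm
  Groth.Agent.Lib.Seat79.LogNabla Groth.Agent.Lib.Seat79.LogPiece Groth.Agent.Lib.Seat79.LogGens

variable {A : Type v} {B L E : Type u} [CommRing A] [CommRing B]
    [Algebra A B] [AddCommGroup L] [Module B L] [Module A L] [IsScalarTower A B L]
    [AddCommGroup E] [Module B E] [Module A E] [IsScalarTower A B E]

section Change

/-- Components of `∇` in a second basis, in terms of the components in a first one. -/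
theorem comp_change {n : ℕ} (ω ω' : Module.Basis (Fin n) B L) (nabla : E →ₗ[A] E ⊗[B] L)
    (j : Fin n) (e : E) :
    LogConn.comp nabla ω' j e = ∑ i, (ω'.coord j (ω i)) • LogConn.comp nabla ω i e := by
  have h : LogConn.comp nabla ω' j e =
      TensorProduct.rid B E (TensorProduct.map LinearMap.id (ω'.coord j) (nabla e)) := rfl
  rw [h]
  conv_lhs => rw [nabla_expand ω nabla e]
  rw [map_sum, map_sum]
  apply Finset.sum_congr rfl
  intro i _
  rw [TensorProduct.map_tmul, LinearMap.id_apply, TensorProduct.rid_tmul]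

end Change

section Comm1

variable (lam : B) {n : ℕ} (ω : Module.Basis (Fin n) B L)
  (nabla : E →ₗ[A] E ⊗[B] L)
  (d : ∀ p : ℕ, ↥(⋀[B]^p L) →ₗ[A] ↥(⋀[B]^(p + 1) L))
  (hd1 : ∀ i : Fin n, d 1 (exteriorPower.ιMulti B 1 (ω ∘ (fun _ : Fin 1 => i))) = 0)
  (nablas : ∀ p : ℕ, E ⊗[B] ↥(⋀[B]^p L) →ₗ[A] E ⊗[B] ↥(⋀[B]^(p + 1) L))
  (hint : Conn.IsIntegrable nabla (fun p => lam • d p) nablas)

include hd1 hint

/-- `∇^1 (y ⊗ ω_i) = Σ_j ∇_j y ⊗ ω_j ∧ ω_i`, only assuming `d ω_i = 0`. -/
theorem nablas_tmul_ιMulti_one (y : E) (i : Fin n) :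
    nablas 1 (y ⊗ₜ[B] exteriorPower.ιMulti B 1 (ω ∘ (fun _ : Fin 1 => i))) =
      ∑ j, LogConn.comp nabla ω j y ⊗ₜ[B]
        exteriorPower.ιMulti B 2 (ω ∘ (Fin.cons j (fun _ : Fin 1 => i) : Fin 2 → Fin n)) := by
  rw [hint.1 1 y, twedge_toOne_nabla ω]
  have h0 : (lam • d 1) (exteriorPower.ιMulti B 1 (ω ∘ (fun _ : Fin 1 => i))) = 0 := by
    rw [LinearMap.smul_apply, hd1 i, smul_zero]
  rw [h0, TensorProduct.tmul_zero, add_zero]
  apply Finset.sum_congr rfl
  intro j _
  congr 2
  funext k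
  refine Fin.cases ?_ (fun k' => ?_) k
  · simp
  · simp

/-- The components of an integrable connection commute as soon as the `ω i` are `d`-closed. -/
theorem comp_comm_of_d1 (a b : Fin n) (m : E) :
    LogConn.comp nabla ω a (LogConn.comp nabla ω b m) =
      LogConn.comp nabla ω b (LogConn.comp nabla ω a m) := by
  classical
  by_cases hab : a = b
  · rw [hab]
  have hzero := hint.2 m
  have h1 : Conn.toOne (nabla m) =
      ∑ i, LogConn.comp nabla ω i m ⊗ₜ[B]
        exteriorPower.ιMulti B 1 (ω ∘ (fun _ : Fin 1 => i)) := by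
    rw [nabla_expand ω nabla m, map_sum]
    apply Finset.sum_congr rfl
    intro i _
    rw [Conn.toOne_tmul, exteriorPower.oneEquiv_symm_apply]
    rfl
  rw [h1, map_sum] at hzero
  have h2 : ∀ i, nablas 1 (LogConn.comp nabla ω i m ⊗ₜ[B]
        exteriorPower.ιMulti B 1 (ω ∘ (fun _ : Fin 1 => i))) =
      ∑ j, LogConn.comp nabla ω j (LogConn.comp nabla ω i m) ⊗ₜ[B]
        exteriorPower.ιMulti B 2 (ω ∘ (Fin.cons j (fun _ : Fin 1 => i) : Fin 2 → Fin n)) :=
    fun i => nablas_tmul_ιMulti_one lam ω nabla d hd1 nablas hint _ _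
  rw [Finset.sum_congr rfl (fun i _ => h2 i)] at hzero
  let φ : Module.Dual B ↥(⋀[B]^2 L) :=
    exteriorPower.pairingDual B L 2 (exteriorPower.ιMulti B 2 ![ω.coord a, ω.coord b])
  have hφ : ∀ i j : Fin n, φ (exteriorPower.ιMulti B 2
      (ω ∘ (Fin.cons j (fun _ : Fin 1 => i) : Fin 2 → Fin n))) =
      (if j = a then 1 else 0) * (if i = b then 1 else 0) -
        (if j = b then 1 else 0) * (if i = a then 1 else 0) := by
    intro i j
    change exteriorPower.pairingDual B L 2 _ _ = _
    rw [exteriorPower.pairingDual_ιMulti_ιMulti, Matrix.det_fin_two]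
    simp only [Matrix.of_apply, Function.comp_apply, Fin.cons_zero, Fin.cons_one,
      Matrix.cons_val_zero, Matrix.cons_val_one, Module.Basis.coord_apply, Module.Basis.repr_self,
      Finsupp.single_apply]
  have h3 := congrArg (fun z => TensorProduct.rid B E (TensorProduct.map LinearMap.id φ z)) hzero
  simp only [map_sum, TensorProduct.map_tmul, LinearMap.id_apply, TensorProduct.rid_tmul, hφ,
    map_zero] at h3
  simp only [sub_smul, mul_smul, Finset.sum_sub_distrib, ite_smul, one_smul, zero_smul,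
    smul_ite, smul_zero] at h3
  simp only [Finset.sum_ite_irrel, Finset.sum_const_zero, Finset.sum_ite_eq', Finset.mem_univ,
    if_true] at h3
  exact sub_eq_zero.1 h3

end Comm1

section Closed

variable {n : ℕ} (ω : Module.Basis (Fin n) B L) (ι : KaehlerDifferential A B →ₗ[B] L)
  (d : ∀ p : ℕ, ↥(⋀[B]^p L) →ₗ[A] ↥(⋀[B]^(p + 1) L))
  (hd : LogDiff.IsLogRule (KaehlerDifferential.D A B) ι (⇑ω) d)

include hd in
/-- `ω_i + u⁻¹ ι(du)` is `d`-closed. -/
theorem d_one_unit (i : Fin n) (u : Bˣ) :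
    d 1 (exteriorPower.ιMulti B 1
      (fun _ : Fin 1 => ω i + ((u⁻¹ : Bˣ) : B) • ι (KaehlerDifferential.D A B (u : B)))) = 0 := by
  set c : B := ((u⁻¹ : Bˣ) : B) with hcdef
  set x : L := ι (KaehlerDifferential.D A B (u : B)) with hxdef
  have e1 : exteriorPower.ιMulti B 1 (fun _ : Fin 1 => ω i + c • x) =
      exteriorPower.ιMulti B 1 (fun _ : Fin 1 => ω i) +
        c • exteriorPower.ιMulti B 1 (fun _ : Fin 1 => x) := by
    rw [← exteriorPower.oneEquiv_symm_apply, ← exteriorPower.oneEquiv_symm_apply,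
      ← exteriorPower.oneEquiv_symm_apply, map_add, map_smul]
  have hfirst : d 1 (exteriorPower.ιMulti B 1 (fun _ : Fin 1 => ω i)) = 0 :=
    d_ιMulti_ω ω ι d hd 1 (fun _ => i)
  have hsecond := hd 1 c (fun _ : Fin 1 => x) (fun k => Or.inl ⟨(u : B), rfl⟩)
  rw [e1, map_add, hfirst, hsecond, zero_add]
  have hcu : c * (u : B) = 1 := by rw [hcdef]; exact Units.inv_mul u
  have hDc : KaehlerDifferential.D A B c = -c ^ 2 • KaehlerDifferential.D A B (u : B) :=
    Derivation.leibniz_of_mul_eq_one _ hcu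
  rw [hDc, map_smul, ← hxdef]
  have hv : (Fin.cons ((-c ^ 2) • x) (fun _ : Fin 1 => x) : Fin 2 → L) =
      Function.update (Fin.cons x (fun _ : Fin 1 => x) : Fin 2 → L) 0 ((-c ^ 2) • x) := by
    rw [Fin.update_cons_zero]
  rw [hv, AlternatingMap.map_update_smul, Fin.update_cons_zero]
  have hz : exteriorPower.ιMulti B 2 (Fin.cons x (fun _ : Fin 1 => x) : Fin 2 → L) = 0 :=
    (exteriorPower.ιMulti B 2).map_eq_zero_of_eq _ (i := 0) (j := 1) (by simp) (by decide)
  rw [hz, smul_zero]

end Closed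

section Rel

variable {n : ℕ} (t : Fin n → B)
    (bΩ : Module.Basis (Fin n) B (KaehlerDifferential A B))
    (hbΩ : ∀ i, bΩ i = KaehlerDifferential.D A B (t i))
    (ω : Module.Basis (Fin n) B L) (ι : KaehlerDifferential A B →ₗ[B] L)
    (hι : ∀ i, ι (KaehlerDifferential.D A B (t i)) = t i • ω i)

include hbΩ hι in
/-- If `ω' i ≡ ω i` modulo forms without poles, the `ω`-coordinates of `ω' i` are `δ_ij` modulo `t j`. -/
theorem coord_rel (ω' : Fin n → L)
    (hrel : ∀ i, ∃ (c : B) (η : KaehlerDifferential A B), ω' i = ω i + c • ι η) (i j : Fin n) :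
    ∃ c : B, ω.coord j (ω' i) = (if i = j then 1 else 0) + c * t j := by
  obtain ⟨c, η, h⟩ := hrel i
  refine ⟨c * bΩ.repr η j, ?_⟩
  rw [h, map_add, map_smul, Module.Basis.coord_apply, Module.Basis.coord_apply,
    Module.Basis.repr_self, Finsupp.single_apply, repr_ι t bΩ hbΩ ω ι hι η j, smul_eq_mul, mul_assoc]

end Rel

section Target

variable (lam : B) {n : ℕ} (t : Fin n → B)
    (bΩ : Module.Basis (Fin n) B (KaehlerDifferential A B))
    (hbΩ : ∀ i, bΩ i = KaehlerDifferential.D A B (t i))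
    (ω : Module.Basis (Fin n) B L) (ι : KaehlerDifferential A B →ₗ[B] L)
    (hι : ∀ i, ι (KaehlerDifferential.D A B (t i)) = t i • ω i)
    (nabla : E →ₗ[A] E ⊗[B] L)
    (hc : Conn.IsLamConn (ι.compDer (KaehlerDifferential.D A B)) lam nabla)
    (hcomm : ∀ (a b : Fin n) (m : E), LogConn.comp nabla ω a (LogConn.comp nabla ω b m) =
      LogConn.comp nabla ω b (LogConn.comp nabla ω a m))
    (ω' : Module.Basis (Fin n) B L) (t' : Fin n → B)
    (h1 : ∀ i j : Fin n, ∃ c : B, ω'.coord j (ω i) = (if i = j then 1 else 0) + c * t j)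
    (h2 : ∀ i j : Fin n, ∃ c : B, ω.coord j (ω' i) = (if i = j then 1 else 0) + c * t j)
    (h3 : ∀ i : Fin n, ∃ v : B, t' i = v * t i)

include hbΩ hι hc hcomm h1

/-- A component of `∇` in the second basis maps `E_K` (first system) into `E_{K ∪ {j}}` (first system). -/
theorem comp'_piece (j : Fin n) (K : Finset (Fin n)) {x : E}
    (hx : x ∈ LogConn.piece nabla ω t K) :
    LogConn.comp nabla ω' j x ∈ LogConn.piece nabla ω t (insert j K) := by
  classical
  rw [comp_change ω ω' nabla j x]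
  apply Submodule.sum_mem
  intro i _
  obtain ⟨c, hc'⟩ := h1 i j
  rw [hc', add_smul]
  apply Submodule.add_mem
  · by_cases hij : i = j
    · rw [if_pos hij, one_smul, hij]
      exact comp_piece_insert lam t bΩ hbΩ ω ι hι nabla hc hcomm j K hx
    · rw [if_neg hij, zero_smul]
      exact Submodule.zero_mem _
  · have hy : LogConn.comp nabla ω i x ∈ LogConn.piece nabla ω t K :=
      piece_anti lam t bΩ hbΩ ω ι hι nabla hc hcomm (Finset.subset_insert i K)
        (comp_piece_insert lam t bΩ hbΩ ω ι hι nabla hc hcomm i K hx)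
    rw [← smul_smul]
    apply s16792 lam t bΩ hbΩ ω ι hι nabla hc
    by_cases hj : j ∈ K
    · rw [Finset.insert_eq_of_mem hj]
      exact s16792 lam t bΩ hbΩ ω ι hι nabla hc _ (t j) _ hy
    · have h := smul_piece_mem nabla ω t (Finset.subset_insert j K) hy
      have hs : insert j K \ K = {j} := by
        ext x
        simp only [Finset.mem_sdiff, Finset.mem_insert, Finset.mem_singleton]
        constructor
        · rintro ⟨h1 | h1, h2⟩
          · exact h1
          · exact absurd h1 h2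
        · rintro rfl
          exact ⟨Or.inl rfl, hj⟩
      rwa [hs, Finset.prod_singleton] at h

/-- The ordered composites of the components in the second basis land in the pieces of the first system. -/
theorem compProd'_mem (J : Finset (Fin n)) (e : E) :
    LogConn.compProd nabla ω' J e ∈ LogConn.piece nabla ω t J := by
  classical
  induction J using Finset.induction_on_min with
  | empty =>
    have h := gen_mem nabla ω t (Finset.Subset.refl (∅ : Finset (Fin n))) e
    rw [Finset.sdiff_self, Finset.prod_empty, one_smul, compProd_empty] at h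
    rw [compProd_empty]
    exact h
  | insert j J' hj ih =>
    rw [compProd_insert nabla ω' j J' hj, LinearMap.comp_apply]
    exact comp'_piece lam t bΩ hbΩ ω ι hι nabla hc hcomm ω' h1 j J' ih

include h3

/-- The pieces of the second system lie in those of the first. -/
theorem piece'_le (K : Finset (Fin n)) :
    LogConn.piece nabla ω' t' K ≤ LogConn.piece nabla ω t K := by
  classical
  apply piece_le
  intro J hJ e
  choose v hv using h3
  have hprod : ∏ i ∈ K \ J, t' i = (∏ i ∈ K \ J, v i) * ∏ i ∈ K \ J, t i := by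
    rw [← Finset.prod_mul_distrib]
    exact Finset.prod_congr rfl (fun i _ => hv i)
  rw [hprod, ← smul_smul]
  apply s16792 lam t bΩ hbΩ ω ι hι nabla hc
  exact smul_piece_mem nabla ω t hJ
    (compProd'_mem lam t bΩ hbΩ ω ι hι nabla hc hcomm ω' h1 J e)

include h2

/-- The layers of the second system lie in those of the first. -/
theorem layer'_le (p : ℕ) :
    LogConn.layer nabla ω' t' p ≤ LogConn.layer nabla ω t p := by
  classical
  intro x hx
  rw [mem_layer_iff] at hx
  rw [tensor_expand (ω'.exteriorPower p) x]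
  apply Submodule.sum_mem
  intro K _
  have hyK : LogConn.coordE (E := E) ω' p K x ∈ LogConn.piece nabla ω t (K : Finset (Fin n)) :=
    piece'_le lam t bΩ hbΩ ω ι hι nabla hc hcomm ω' t' h1 h3 _ (hx K)
  change (LogConn.coordE (E := E) ω' p K x) ⊗ₜ[B] (ω'.exteriorPower p) K ∈ _
  generalize LogConn.coordE (E := E) ω' p K x = y at hyK
  rw [exteriorPower.basis_apply]
  change y ⊗ₜ[B] exteriorPower.ιMulti B p (ω' ∘ (Set.powersetCard.ofFinEmbEquiv.symm K)) ∈ _
  set g : Fin p → Fin n := fun k => Set.powersetCard.ofFinEmbEquiv.symm K k with hg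
  have hgK : ∀ k, g k ∈ (K : Finset (Fin n)) := by
    intro k
    have : g k ∈ Set.range (Set.powersetCard.ofFinEmbEquiv.symm K) := ⟨k, rfl⟩
    exact (Set.powersetCard.mem_range_ofFinEmbEquiv_symm_iff_mem K (g k)).1 this
  rw [ιMulti_expand ω p _, TensorProduct.tmul_sum]
  apply Submodule.sum_mem
  intro r _
  rw [TensorProduct.tmul_smul, TensorProduct.smul_tmul']
  apply tmul_ιMulti_mem_layer lam t bΩ hbΩ ω ι hι nabla hc p r
  intro hr
  have hdiv : ∀ k : Fin p, (if r k ∈ (K : Finset (Fin n)) then 1 else t (r k)) ∣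
      ω.repr ((ω' ∘ (Set.powersetCard.ofFinEmbEquiv.symm K)) k) (r k) := by
    intro k
    by_cases hk : r k ∈ (K : Finset (Fin n))
    · rw [if_pos hk]; exact one_dvd _
    · rw [if_neg hk]
      obtain ⟨c, hc'⟩ := h2 (g k) (r k)
      have hne : g k ≠ r k := fun h => hk (h ▸ hgK k)
      rw [Module.Basis.coord_apply, if_neg hne, zero_add] at hc'
      change t (r k) ∣ ω.repr (ω' (g k)) (r k)
      rw [hc']
      exact dvd_mul_left _ _
  have hprod : (∏ j ∈ Finset.univ.image r \ (K : Finset (Fin n)), t j) ∣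
      ∏ k, ω.repr ((ω' ∘ (Set.powersetCard.ofFinEmbEquiv.symm K)) k) (r k) := by
    have e1 : ∏ j ∈ Finset.univ.image r \ (K : Finset (Fin n)), t j =
        ∏ k : Fin p, (if r k ∈ (K : Finset (Fin n)) then 1 else t (r k)) := by
      rw [← Finset.prod_image (s := Finset.univ) (g := r)
        (f := fun j => if j ∈ (K : Finset (Fin n)) then 1 else t j) (fun a _ b _ h => hr h)]
      rw [Finset.sdiff_eq_filter, Finset.prod_filter]
      apply Finset.prod_congr rfl
      intro j _
      by_cases hj : j ∈ (K : Finset (Fin n))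
      · rw [if_neg (not_not.2 hj), if_pos hj]
      · rw [if_pos hj, if_neg hj]
    rw [e1]
    exact Finset.prod_dvd_prod_of_dvd _ _ (fun k _ => hdiv k)
  obtain ⟨c, hc'⟩ := hprod
  rw [hc', mul_comm, ← smul_smul]
  apply s16792 lam t bΩ hbΩ ω ι hι nabla hc
  exact smul_piece_mem_gen lam t bΩ hbΩ ω ι hι nabla hc hcomm _ _ hyK

end Target

section Final

variable (lam : B) {n : ℕ} (t : Fin n → B)
    (bΩ : Module.Basis (Fin n) B (KaehlerDifferential A B))
    (hbΩ : ∀ i, bΩ i = KaehlerDifferential.D A B (t i))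
    (ω : Module.Basis (Fin n) B L) (ι : KaehlerDifferential A B →ₗ[B] L)
    (hι : ∀ i, ι (KaehlerDifferential.D A B (t i)) = t i • ω i)
    (nabla : E →ₗ[A] E ⊗[B] L)
    (hc : Conn.IsLamConn (ι.compDer (KaehlerDifferential.D A B)) lam nabla)
    (d : ∀ p : ℕ, ↥(⋀[B]^p L) →ₗ[A] ↥(⋀[B]^(p + 1) L))
    (hd : LogDiff.IsLogRule (KaehlerDifferential.D A B) ι (⇑ω) d)
    (nablas : ∀ p : ℕ, E ⊗[B] ↥(⋀[B]^p L) →ₗ[A] E ⊗[B] ↥(⋀[B]^(p + 1) L))
    (hint : Conn.IsIntegrable nabla (fun p => lam • d p) nablas)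
    (u : Fin n → Bˣ) (bΩ' : Module.Basis (Fin n) B (KaehlerDifferential A B))
    (hbΩ' : ∀ i, bΩ' i = KaehlerDifferential.D A B ((u i : B) * t i))
    (ω' : Module.Basis (Fin n) B L)
    (hω' : ∀ i, ω' i = ω i + ((u i)⁻¹ : Bˣ).val • ι (KaehlerDifferential.D A B (u i : B)))

include hbΩ hι hc hd hint hbΩ' hω'

/-- S16798: the layers formed with `(t, ω)` and with `(u t, ω + u⁻¹ ι(du))` coincide. -/
theorem layer_eq_of_units (p : ℕ) :
    LogConn.layer nabla ω t p = LogConn.layer nabla ω' (fun i => (u i : B) * t i) p := by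
  have hcomm := comp_comm lam ω ι nabla d hd nablas hint
  have hι' : ∀ i, ι (KaehlerDifferential.D A B ((u i : B) * t i)) = ((u i : B) * t i) • ω' i := by
    intro i
    rw [Derivation.leibniz, map_add, map_smul, map_smul, hι, hω', smul_add, smul_smul, smul_smul]
    have h : (u i : B) * t i * ((u i)⁻¹ : Bˣ).val = t i := by
      rw [mul_comm (u i : B), mul_assoc, Units.mul_inv, mul_one]
    rw [h]
  have hd1' : ∀ i : Fin n, d 1 (exteriorPower.ιMulti B 1 (ω' ∘ (fun _ : Fin 1 => i))) = 0 := by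
    intro i
    have h := d_one_unit ω ι d hd i (u i)
    rw [← hω' i] at h
    exact h
  have hcomm' := comp_comm_of_d1 lam ω' nabla d hd1' nablas hint
  have R1 : ∀ i j, ∃ c, ω.coord j (ω' i) = (if i = j then 1 else 0) + c * t j :=
    coord_rel t bΩ hbΩ ω ι hι ω' (fun i => ⟨_, _, hω' i⟩)
  have R2 : ∀ i j, ∃ c, ω'.coord j (ω i) = (if i = j then 1 else 0) + c * ((u j : B) * t j) :=
    coord_rel (fun i => (u i : B) * t i) bΩ' hbΩ' ω' ι hι' ω
      (fun i => ⟨-((u i)⁻¹ : Bˣ).val, KaehlerDifferential.D A B (u i : B), by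
        rw [hω' i, neg_smul]; abel⟩)
  apply le_antisymm
  · apply layer'_le lam (fun i => (u i : B) * t i) bΩ' hbΩ' ω' ι hι' nabla hc hcomm' ω t
    · intro i j
      obtain ⟨c, hc'⟩ := R1 i j
      refine ⟨c * ((u j)⁻¹ : Bˣ).val, ?_⟩
      rw [hc']
      congr 1
      rw [mul_assoc, ← mul_assoc _ (u j : B), Units.inv_mul, one_mul]
    · exact R2
    · intro i
      refine ⟨((u i)⁻¹ : Bˣ).val, ?_⟩
      rw [← mul_assoc, Units.inv_mul, one_mul]
  · apply layer'_le lam t bΩ hbΩ ω ι hι nabla hc hcomm ω' (fun i => (u i : B) * t i)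
    · intro i j
      obtain ⟨c, hc'⟩ := R2 i j
      exact ⟨c * (u j : B), by rw [hc', mul_assoc]⟩
    · exact R1
    · intro i
      exact ⟨(u i : B), rfl⟩

end Final

end Groth.Agent.Lib.Seat79.LogUnit
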