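import Groth.Prelude.Def_Conn
import Groth.Agent.Lib.Seat79Deligne

/-! # `p`-curvature over a rank-one module of differentials: `ψ(f θ₀) = f^p ψ(θ₀)` (seat 79) -/

set_option autoImplicit false
set_option linter.unusedSectionVars false
universe v u

namespace Groth.Agent.Lib.Seat79.PCurv

open TensorProduct Groth.Agent.Lib.Seat79.Deligne

variable {A : Type v} {B M : Type u} [CommRing A] [CommRing B] [Algebra A B]
  [AddCommGroup M] [Module B M] [Module A M] [IsScalarTower A B M]

/-- Scalar multiplication `B → End_A(M)` as a ring homomorphism. -/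
noncomputable abbrev φM : B →+* Module.End A M := Module.toModuleEnd A (S := B) M

/-- Multiplication `B → End_A(B)` as a ring homomorphism. -/
noncomputable abbrev φB : B →+* Module.End A B := Module.toModuleEnd A (S := B) B

section Along

variable (nabla : M →ₗ[A] M ⊗[B] Ω[B⁄A])

theorem along_smul (f : B) (θ' : Ω[B⁄A] →ₗ[B] B) :
    Conn.along nabla (f • θ') = φM (A := A) (M := M) f * Conn.along nabla θ' := by
  apply LinearMap.ext
  intro m
  rw [Module.End.mul_apply, Conn.along_apply, Conn.along_apply]
  change _ = f • (TensorProduct.rid B M (TensorProduct.map LinearMap.id θ' (nabla m)))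
  rw [TensorProduct.map_smul_right, LinearMap.smul_apply, map_smul]

theorem along_add (θ₁ θ₂ : Ω[B⁄A] →ₗ[B] B) :
    Conn.along nabla (θ₁ + θ₂) = Conn.along nabla θ₁ + Conn.along nabla θ₂ := by
  apply LinearMap.ext
  intro m
  rw [LinearMap.add_apply, Conn.along_apply, Conn.along_apply, Conn.along_apply,
    TensorProduct.map_add_right, LinearMap.add_apply, map_add]

theorem lift_smul (f : B) (θ : Derivation A B B) :
    (f • θ).liftKaehlerDifferential = f • θ.liftKaehlerDifferential :=
  ((KaehlerDifferential.linearMapEquivDerivation A B).symm.map_smul f θ)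

theorem lift_add (θ₁ θ₂ : Derivation A B B) :
    (θ₁ + θ₂).liftKaehlerDifferential = θ₁.liftKaehlerDifferential + θ₂.liftKaehlerDifferential :=
  ((KaehlerDifferential.linearMapEquivDerivation A B).symm.map_add θ₁ θ₂)

theorem alongDer_smul (f : B) (θ : Derivation A B B) :
    Conn.alongDer nabla (f • θ) = φM (A := A) (M := M) f * Conn.alongDer nabla θ := by
  unfold Conn.alongDer
  rw [lift_smul, along_smul]

theorem alongDer_add (θ₁ θ₂ : Derivation A B B) :
    Conn.alongDer nabla (θ₁ + θ₂) = Conn.alongDer nabla θ₁ + Conn.alongDer nabla θ₂ := by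
  unfold Conn.alongDer
  rw [lift_add, along_add]

/-- The Leibniz rule of the covariant derivative, as a commutation relation in `End_A(M)`. -/
theorem alongDer_comm (hc : Conn.IsConn (KaehlerDifferential.D A B) nabla) (θ : Derivation A B B) (b : B) :
    Conn.alongDer nabla θ * φM (A := A) (M := M) b =
      φM (A := A) (M := M) b * Conn.alongDer nabla θ + φM (A := A) (M := M) (θ b) := by
  apply LinearMap.ext
  intro m
  rw [LinearMap.add_apply, Module.End.mul_apply, Module.End.mul_apply]
  change Conn.alongDer nabla θ (b • m) = b • Conn.alongDer nabla θ m + θ b • m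
  unfold Conn.alongDer
  rw [Conn.along_apply, Conn.along_apply, hc b m, map_add, map_add, map_smul, map_smul,
    TensorProduct.map_tmul, TensorProduct.rid_tmul, Derivation.liftKaehlerDifferential_comp_D,
    LinearMap.id_apply]

end Along

section Der

variable (θ : Derivation A B B)

/-- A derivation as an additive map. -/
noncomputable def derAdd : B →+ B := (θ : B →ₗ[A] B).toAddMonoidHom

@[simp] theorem derAdd_apply (b : B) : derAdd θ b = θ b := rfl

theorem derAdd_leibniz (a b : B) : derAdd θ (a * b) = derAdd θ a * b + a * derAdd θ b := by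
  simp only [derAdd_apply, Derivation.leibniz, smul_eq_mul]
  ring

theorem der_comm (b : B) :
    (θ : B →ₗ[A] B) * φB (A := A) b = φB (A := A) b * (θ : B →ₗ[A] B) + φB (A := A) (θ b) := by
  apply LinearMap.ext
  intro x
  rw [LinearMap.add_apply, Module.End.mul_apply, Module.End.mul_apply]
  change θ (b • x) = b • θ x + θ b • x
  simp only [smul_eq_mul, Derivation.leibniz]
  ring

theorem derAdd_iterate (n : ℕ) (b : B) : (derAdd θ)^[n] b = (⇑θ)^[n] b := by
  induction n generalizing b with
  | zero => rfl
  | succ n ih => rw [Function.iterate_succ_apply, Function.iterate_succ_apply, ih]; rfl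

variable (p : ℕ) [hp : Fact p.Prime] (hpB : (p : B) = 0)

/-- The `p`-th iterate of a derivation in characteristic `p`, as a derivation. -/
noncomputable def iterDer : Derivation A B B :=
  Derivation.mk' ((θ : B →ₗ[A] B) ^ p) (by
    intro a b
    rw [Module.End.pow_apply, Module.End.pow_apply, Module.End.pow_apply]
    have h := iterate_p_mul (derAdd θ) (derAdd_leibniz θ) p hpB a b
    rw [derAdd_iterate, derAdd_iterate, derAdd_iterate] at h
    change (⇑θ)^[p] (a * b) = a • (⇑θ)^[p] b + b • (⇑θ)^[p] a
    rw [h, smul_eq_mul, smul_eq_mul]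
    ring)

theorem iterDer_apply (b : B) : iterDer θ p hpB b = (⇑θ)^[p] b := by
  change ((θ : B →ₗ[A] B) ^ p) b = _
  rw [Module.End.pow_apply]
  rfl

theorem isIterPow_iterDer : Conn.IsIterPow θ p (iterDer θ p hpB) :=
  fun b => iterDer_apply θ p hpB b

/-- The function `(g θ)^{p-1}(g)`. -/
noncomputable def hh (g : B) : B := (gd (derAdd θ) g)^[p - 1] g

include hpB in
/-- Deligne's identity for derivations, evaluated: `(g θ)^p = g^p θ^p + (gθ)^{p-1}(g) θ`. -/
theorem smul_iterate (g : B) (x : B) :
    (⇑(g • θ))^[p] x = g ^ p * (⇑θ)^[p] x + hh θ p g * θ x := by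
  have h := deligne (φB (A := A)) (θ : B →ₗ[A] B) (derAdd θ) (derAdd_leibniz θ)
    (fun b => der_comm θ b) g p hpB
  have h2 := LinearMap.congr_fun h x
  rw [LinearMap.add_apply, Module.End.mul_apply, Module.End.mul_apply, Module.End.pow_apply,
    Module.End.pow_apply] at h2
  have e1 : ∀ y : B, (φB (A := A) g * (θ : B →ₗ[A] B)) y = (g • θ) y := by
    intro y
    rw [Module.End.mul_apply]
    rfl
  have e2 : (⇑(φB (A := A) g * (θ : B →ₗ[A] B)))^[p] x = (⇑(g • θ))^[p] x := by
    have : ⇑(φB (A := A) g * (θ : B →ₗ[A] B)) = ⇑(g • θ) := funext e1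
    rw [this]
  rw [e2] at h2
  rw [h2]
  rfl

end Der

section Main

variable (p : ℕ) [hp : Fact p.Prime] (hpB : (p : B) = 0)
  (nabla : M →ₗ[A] M ⊗[B] Ω[B⁄A]) (hc : Conn.IsConn (KaehlerDifferential.D A B) nabla)

include hc hpB in
/-- `p`-linearity of the `p`-curvature along multiples of one derivation. -/
theorem pCurv_smul (θ₀ : Derivation A B B) (f : B) (θp : Derivation A B B)
    (hθp : Conn.IsIterPow (f • θ₀) p θp) :
    Conn.pCurv p nabla (f • θ₀) θp =
      φM (A := A) (M := M) (f ^ p) * Conn.pCurv p nabla θ₀ (iterDer θ₀ p hpB) := by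
  -- θp = f^p • θ₀^[p] + h • θ₀
  have hθp' : θp = f ^ p • iterDer θ₀ p hpB + hh θ₀ p f • θ₀ := by
    apply Derivation.ext
    intro b
    rw [hθp b, smul_iterate θ₀ p hpB f b]
    simp only [Derivation.add_apply, Derivation.smul_apply, smul_eq_mul, iterDer_apply]
  have hdel := deligne (φM (A := A) (M := M)) (Conn.alongDer nabla θ₀) (derAdd θ₀) (derAdd_leibniz θ₀)
    (fun b => alongDer_comm nabla hc θ₀ b) f p hpB
  unfold Conn.pCurv
  rw [alongDer_smul, hdel, hθp', alongDer_add, alongDer_smul, alongDer_smul]
  change _ + φM (A := A) (M := M) (hh θ₀ p f) * _ - _ = _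
  rw [mul_sub]
  abel

end Main

end Groth.Agent.Lib.Seat79.PCurv
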