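import Groth.Agent.Lib.Seat67LocCrit
import Mathlib.RingTheory.LocalProperties.Projective
import Mathlib.RingTheory.LocalRing.ResidueField.Ideal
import Mathlib.LinearAlgebra.TensorProduct.Quotient
import Mathlib.Algebra.Module.FinitePresentation

/-!
# A fibrewise criterion for a quotient of a finite projective module to be projective (seat 79)

`projective_quotient_of_forall_maximal`: for a finite projective `A`-module `N` and a finitely
generated submodule `U`, if `U ∩ 𝔪 N ⊆ 𝔪 U` for every maximal ideal `𝔪`, then `N ⧸ U` is projective.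
-/

set_option autoImplicit false
universe u v

open TensorProduct

namespace Groth.Agent.Lib.Seat79.ProjQuot

variable {A : Type u} [CommRing A] {N : Type v} [AddCommGroup N] [Module A N]

/-- For a maximal ideal `𝔪`, `1 ⊗ n = 0` in `κ(𝔪) ⊗ N` iff `n ∈ 𝔪 N`. -/
theorem one_tmul_eq_zero_iff (𝔪 : Ideal A) [𝔪.IsMaximal] (n : N) :
    (1 : 𝔪.ResidueField) ⊗ₜ[A] n = 0 ↔ n ∈ 𝔪 • (⊤ : Submodule A N) := by
  let e : (A ⧸ 𝔪) ≃ₗ[A] 𝔪.ResidueField :=
    LinearEquiv.ofBijective (IsScalarTower.toAlgHom A (A ⧸ 𝔪) 𝔪.ResidueField).toLinearMap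
      (Ideal.bijective_algebraMap_quotient_residueField 𝔪)
  have h1 : (1 : 𝔪.ResidueField) ⊗ₜ[A] n =
      (TensorProduct.congr e (LinearEquiv.refl A N)) ((1 : A ⧸ 𝔪) ⊗ₜ[A] n) := by
    rw [TensorProduct.congr_tmul]
    congr 1
    exact (map_one (algebraMap (A ⧸ 𝔪) 𝔪.ResidueField)).symm
  rw [h1, LinearEquiv.map_eq_zero_iff]
  have h2 : (1 : A ⧸ 𝔪) ⊗ₜ[A] n = (TensorProduct.quotTensorEquivQuotSMul N 𝔪).symm
      (Submodule.Quotient.mk n) := by
    rw [LinearEquiv.eq_symm_apply]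
    exact TensorProduct.quotTensorEquivQuotSMul_mk_tmul 𝔪 1 n |>.trans (by rw [one_smul])
  rw [h2, LinearEquiv.map_eq_zero_iff, Submodule.Quotient.mk_eq_zero]

/-- Injectivity of `κ(𝔪) ⊗ U → κ(𝔪) ⊗ N` from `U ∩ 𝔪 N ⊆ 𝔪 U`. -/
theorem lTensor_subtype_injective (𝔪 : Ideal A) [𝔪.IsMaximal] (U : Submodule A N)
    (h : ∀ x ∈ U, x ∈ 𝔪 • (⊤ : Submodule A N) → x ∈ 𝔪 • U) :
    Function.Injective (LinearMap.lTensor 𝔪.ResidueField U.subtype) := by
  rw [injective_iff_map_eq_zero]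
  intro z hz
  obtain ⟨x, rfl⟩ := TensorProduct.mk_surjective A U 𝔪.ResidueField
    (Ideal.algebraMap_residueField_surjective 𝔪) z
  rw [TensorProduct.mk_apply] at hz ⊢
  rw [LinearMap.lTensor_tmul, Submodule.subtype_apply, one_tmul_eq_zero_iff] at hz
  rw [one_tmul_eq_zero_iff]
  have hx := h x x.2 hz
  -- transport `x ∈ 𝔪 • U` (in `N`) to `x ∈ 𝔪 • ⊤` (in `U`)
  have hle : 𝔪 • U ≤ U := Submodule.smul_le_right
  have key : ∀ (y : N) (hy : y ∈ 𝔪 • U), (⟨y, hle hy⟩ : U) ∈ 𝔪 • (⊤ : Submodule A U) := by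
    intro y hy
    refine Submodule.smul_induction_on' (p := fun y hy => (⟨y, hle hy⟩ : U) ∈
      𝔪 • (⊤ : Submodule A U)) hy (fun a ha u hu => ?_) (fun y₁ h₁ y₂ h₂ ih₁ ih₂ => ?_)
    · have : (⟨a • u, hle (Submodule.smul_mem_smul ha hu)⟩ : U) = a • ⟨u, hu⟩ := rfl
      rw [this]
      exact Submodule.smul_mem_smul ha Submodule.mem_top
    · have : (⟨y₁ + y₂, hle (Submodule.add_mem _ h₁ h₂)⟩ : U) = ⟨y₁, hle h₁⟩ + ⟨y₂, hle h₂⟩ := rfl
      rw [this]
      exact Submodule.add_mem _ ih₁ ih₂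
  exact key x hx

/-- If `U ∩ 𝔪 N ⊆ 𝔪 U` for all maximal ideals `𝔪`, then `N ⧸ U` is projective. -/
theorem projective_quotient_of_forall_maximal [Module.Finite A N] [Module.Projective A N]
    (U : Submodule A N) (hU : U.FG)
    (h : ∀ (𝔪 : Ideal A) [𝔪.IsMaximal], ∀ x ∈ U, x ∈ 𝔪 • (⊤ : Submodule A N) → x ∈ 𝔪 • U) :
    Module.Projective A (N ⧸ U) := by
  have : Module.Finite A U := Module.Finite.iff_fg.2 hU
  have : Module.FinitePresentation A N := Module.finitePresentation_of_projective A N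
  have : Module.FinitePresentation A (N ⧸ U) :=
    Module.finitePresentation_of_surjective U.mkQ (Submodule.mkQ_surjective U)
      (by rw [Submodule.ker_mkQ]; exact hU)
  have : Module.Projective A (N ⧸ LinearMap.range U.subtype) := by
    have : Module.FinitePresentation A (N ⧸ LinearMap.range U.subtype) :=
      Module.FinitePresentation.of_equiv
        (Submodule.quotEquivOfEq _ _ (Submodule.range_subtype U).symm)
    refine Module.projective_of_localization_maximal fun 𝔪 h𝔪 => ?_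
    have := h𝔪
    have := Groth.Agent.Lib.Seat67.LocCrit.free_localized_quotient 𝔪 U.subtype
      (lTensor_subtype_injective 𝔪 U (h 𝔪))
    infer_instance
  exact Module.Projective.of_equiv (Submodule.quotEquivOfEq _ _ (Submodule.range_subtype U))

end Groth.Agent.Lib.Seat79.ProjQuot
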