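import Mathlib.RingTheory.Kaehler.Basic
import Mathlib.LinearAlgebra.ExteriorAlgebra.Grading
import Mathlib.Algebra.CharP.Algebra
import Groth.Agent.Lib.Seat79ExtBaseChange
import Groth.Agent.Lib.Seat79Cartan

/-!
# A trace on differential forms from a pair of derivations (seat 79)

`Λ → R → S` commutative rings, `v₀ ∈ Ω[R⁄Λ]`.  Write `B = S ⊗[R] ExteriorAlgebra R Ω[R⁄Λ]`,
`K = (1 ⊗ ι v₀) * B` and `L : S ⊗[R] Ω[R⁄Λ] → End_S K` (left multiplication; see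
`Seat79ExtBaseChange`).  Given

* an `S`-linear map `ρ' : Ω[S⁄Λ] → End_S K` with `ρ' (d (algebraMap r)) = L (1 ⊗ dr)` and values in
  `range L` (it comes from a derivation `S → End_S K`),
* an `S`-linear functional `φ : Ω[S⁄Λ] → S` killing `d (algebraMap r)` (it comes from an
  `R`-derivation of `S`),
* an `R`-linear functional `c : S → R`,

we build `Tr : ⋀[S]^(t+1) Ω[S⁄Λ] →+ ⋀[R]^(t+1) Ω[R⁄Λ]` (`Tr_smul`: it is `R`-linear) with
`Tr_map : Tr (s • η̄₁ ∧ ⋯ ∧ η̄_{t+1}) = 0` and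
`Tr_snoc : Tr (η̄₁ ∧ ⋯ ∧ η̄_t ∧ ω) = c (φ ω) • η₁ ∧ ⋯ ∧ η_t ∧ v₀`
(`η̄` the image of `η ∈ Ω[R⁄Λ]` in `Ω[S⁄Λ]`): contract with `φ`, map to `End_S K` by the algebra
map `Γ'` extending `ρ'`, evaluate at `1 ⊗ ι v₀`, apply `c ⊗ id` and project to degree `t + 1`.
-/

set_option autoImplicit false
set_option linter.unusedSectionVars false
universe u

open TensorProduct
open Groth.Agent.Lib.Seat79

namespace Groth.Agent.Lib.Seat79.PthRootTrace

variable {Λ R S : Type u} [CommRing Λ] [CommRing R] [CommRing S]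
  [Algebra Λ R] [Algebra R S] {v₀ : Ω[R⁄Λ]} [Algebra Λ S] [IsScalarTower Λ R S]

variable (ρ' : Ω[S⁄Λ] →ₗ[S] Module.End S (ExtBaseChange.K R S v₀))
  (hρ' : ∀ r, ρ' (KaehlerDifferential.D Λ S (algebraMap R S r)) =
    ExtBaseChange.L R S v₀ (1 ⊗ₜ[R] KaehlerDifferential.D Λ R r))
  (hρ'r : ∀ ω, ρ' ω ∈ LinearMap.range (ExtBaseChange.L R S v₀))
  (φ : Ω[S⁄Λ] →ₗ[S] S) (hφ : ∀ r, φ (KaehlerDifferential.D Λ S (algebraMap R S r)) = 0)
  (c : S →ₗ[R] R)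

include hρ' in
theorem ρ'_map (η : Ω[R⁄Λ]) :
    ρ' (KaehlerDifferential.map Λ Λ R S η) = ExtBaseChange.L R S v₀ (1 ⊗ₜ[R] η) := by
  have hη : η ∈ Submodule.span R (Set.range (KaehlerDifferential.D Λ R)) := by
    rw [KaehlerDifferential.span_range_derivation]; trivial
  induction hη using Submodule.span_induction with
  | mem η h =>
    obtain ⟨r, rfl⟩ := h
    rw [KaehlerDifferential.map_D, hρ']
  | zero => rw [map_zero, map_zero, TensorProduct.tmul_zero, map_zero]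
  | add η₁ η₂ _ _ h₁ h₂ => rw [map_add, map_add, h₁, h₂, TensorProduct.tmul_add, map_add]
  | smul r η _ h =>
    rw [map_smul, ← algebraMap_smul S r, map_smul, h, ExtBaseChange.L_tmul_smul]

include hφ in
theorem φ_map (η : Ω[R⁄Λ]) : φ (KaehlerDifferential.map Λ Λ R S η) = 0 := by
  have hη : η ∈ Submodule.span R (Set.range (KaehlerDifferential.D Λ R)) := by
    rw [KaehlerDifferential.span_range_derivation]; trivial
  induction hη using Submodule.span_induction with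
  | mem η h =>
    obtain ⟨r, rfl⟩ := h
    rw [KaehlerDifferential.map_D, hφ]
  | zero => rw [map_zero, map_zero]
  | add η₁ η₂ _ _ h₁ h₂ => rw [map_add, map_add, h₁, h₂, add_zero]
  | smul r η _ h =>
    rw [map_smul, ← algebraMap_smul S r, map_smul, h, smul_zero]

include hρ'r in
theorem ρ'_sq (ω : Ω[S⁄Λ]) : ρ' ω * ρ' ω = 0 := by
  obtain ⟨m, hm⟩ := hρ'r ω
  rw [← hm, ExtBaseChange.L_sq]

/-- The algebra map `ExteriorAlgebra S Ω[S⁄Λ] → End_S K`. -/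
noncomputable def Γ' : ExteriorAlgebra S (Ω[S⁄Λ]) →ₐ[S] Module.End S (ExtBaseChange.K R S v₀) :=
  ExteriorAlgebra.lift S ⟨ρ', ρ'_sq ρ' hρ'r⟩

theorem Γ'_ι (ω : Ω[S⁄Λ]) : Γ' ρ' hρ'r (ExteriorAlgebra.ι S ω) = ρ' ω :=
  ExteriorAlgebra.lift_ι_apply _ _ _ _

theorem Γ'_ιMulti (n : ℕ) (v : Fin n → Ω[S⁄Λ]) :
    Γ' ρ' hρ'r (ExteriorAlgebra.ιMulti S n v) = (List.ofFn fun i => ρ' (v i)).prod := by
  rw [ExteriorAlgebra.ιMulti_apply, map_list_prod, List.map_ofFn]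
  congr 2
  funext i
  exact Γ'_ι ρ' hρ'r (v i)

/-- Evaluation of an endomorphism of `K` at `hat`, as an element of `B`. -/
noncomputable def ev (Λ : Type u) {R S : Type u} [CommRing Λ] [CommRing R] [CommRing S]
    [Algebra Λ R] [Algebra R S] (v₀ : Ω[R⁄Λ]) :
    Module.End S (ExtBaseChange.K R S v₀) →ₗ[S] S ⊗[R] ExteriorAlgebra R (Ω[R⁄Λ]) :=
  (ExtBaseChange.K R S v₀).subtype ∘ₗ
    LinearMap.applyₗ (⟨ExtBaseChange.hat R S v₀, ExtBaseChange.hat_mem v₀⟩ : ExtBaseChange.K R S v₀)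

theorem ev_apply (F : Module.End S (ExtBaseChange.K R S v₀)) :
    ev Λ v₀ F = ((F ⟨ExtBaseChange.hat R S v₀, ExtBaseChange.hat_mem v₀⟩ :
      ExtBaseChange.K R S v₀) : S ⊗[R] ExteriorAlgebra R (Ω[R⁄Λ])) := rfl

theorem ofFn_snoc_prod {A : Type*} [Monoid A] (n : ℕ) (g : Fin n → A) (y : A) :
    (List.ofFn (Fin.snoc g y : Fin (n + 1) → A)).prod = (List.ofFn g).prod * y := by
  rw [List.ofFn_succ', List.concat_eq_append, List.prod_append, List.prod_singleton]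
  simp only [Fin.snoc_castSucc, Fin.snoc_last]

theorem ιMulti_snoc {R' M' : Type*} [CommRing R'] [AddCommGroup M'] [Module R' M'] (n : ℕ)
    (η : Fin n → M') (y : M') :
    ExteriorAlgebra.ιMulti R' (n + 1) (Fin.snoc η y : Fin (n + 1) → M') =
      ExteriorAlgebra.ιMulti R' n η * ExteriorAlgebra.ι R' y := by
  rw [ExteriorAlgebra.ιMulti_apply, ExteriorAlgebra.ιMulti_apply, ← ofFn_snoc_prod]
  congr 2
  funext i
  refine Fin.lastCases ?_ (fun i => ?_) i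
  · rw [Fin.snoc_last, Fin.snoc_last]
  · rw [Fin.snoc_castSucc, Fin.snoc_castSucc]

include hρ' in
theorem ev_Γ'_ιMulti_map (n : ℕ) (η : Fin n → Ω[R⁄Λ]) :
    ev Λ v₀ (Γ' ρ' hρ'r
      (ExteriorAlgebra.ιMulti S n (fun i => KaehlerDifferential.map Λ Λ R S (η i)))) =
      (1 : S) ⊗ₜ[R] ExteriorAlgebra.ιMulti R (n + 1) (Fin.snoc η v₀ : Fin (n + 1) → Ω[R⁄Λ]) := by
  rw [Γ'_ιMulti]
  simp only [ρ'_map ρ' hρ']
  rw [ev_apply, ExtBaseChange.prod_L_apply]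
  simp only [ExtBaseChange.j_tmul]
  rw [ExtBaseChange.hat_eq, ιMulti_snoc, ExteriorAlgebra.ιMulti_apply]
  have h1 : (List.ofFn fun i => (1 : S) ⊗ₜ[R] ExteriorAlgebra.ι R (η i)) =
      List.map (Algebra.TensorProduct.includeRight : ExteriorAlgebra R (Ω[R⁄Λ]) →ₐ[R]
        S ⊗[R] ExteriorAlgebra R (Ω[R⁄Λ])) (List.ofFn fun i => ExteriorAlgebra.ι R (η i)) := by
    rw [List.map_ofFn]
    rfl
  rw [h1, ← map_list_prod, Algebra.TensorProduct.includeRight_apply,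
    Algebra.TensorProduct.tmul_mul_tmul, one_mul]

section Contr

variable {A M : Type u} [CommRing A] [AddCommGroup M] [Module A M]

theorem contr_eq_zero (ψ : M →ₗ[A] A) (t : ℕ) (v : Fin (t + 1) → M) (hv : ∀ i, ψ (v i) = 0) :
    Cartan.contr ψ t (exteriorPower.ιMulti A (t + 1) v) = 0 := by
  rw [Cartan.contr_ιMulti]
  refine Finset.sum_eq_zero fun i _ => ?_
  rw [hv, zero_smul, smul_zero]

theorem contr_snoc (ψ : M →ₗ[A] A) (t : ℕ) (v : Fin t → M) (hv : ∀ i, ψ (v i) = 0) (ω : M) :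
    Cartan.contr ψ t (exteriorPower.ιMulti A (t + 1) (Fin.snoc v ω : Fin (t + 1) → M)) =
      (-1 : ℤ) ^ t • (ψ ω • exteriorPower.ιMulti A t v) := by
  rw [Cartan.contr_ιMulti, Fin.sum_univ_castSucc]
  rw [Finset.sum_eq_zero, zero_add, Fin.snoc_last, Fin.removeNth_last, Fin.init_snoc, Fin.val_last]
  intro i _
  rw [Fin.snoc_castSucc, hv, zero_smul, smul_zero]

end Contr

/-- The graded projection of the exterior algebra onto `⋀^n`. -/
noncomputable def proj {R' M' : Type*} [CommRing R'] [AddCommGroup M'] [Module R' M'] (n : ℕ) :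
    ExteriorAlgebra R' M' →ₗ[R'] ⋀[R']^n M' :=
  (DirectSum.component R' ℕ (fun i => ↥(⋀[R']^i M')) n) ∘ₗ
    (DirectSum.decomposeLinearEquiv (fun i => ⋀[R']^i M')).toLinearMap

theorem proj_ιMulti {R' M' : Type*} [CommRing R'] [AddCommGroup M'] [Module R' M'] (n : ℕ)
    (v : Fin n → M') :
    proj n (ExteriorAlgebra.ιMulti R' n v) = exteriorPower.ιMulti R' n v := by
  apply Subtype.ext
  exact DirectSum.decompose_of_mem_same (fun i => ⋀[R']^i M') (exteriorPower.ιMulti R' n v).2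

/-- `c ⊗ id : S ⊗[R] E → E`. -/
noncomputable def lam {E : Type*} [AddCommGroup E] [Module R E] : S ⊗[R] E →ₗ[R] E :=
  (TensorProduct.lid R E).toLinearMap ∘ₗ LinearMap.rTensor E c

theorem lam_tmul {E : Type*} [AddCommGroup E] [Module R E] (s : S) (e : E) :
    lam c (s ⊗ₜ[R] e) = c s • e := by
  simp [lam]

/-- The `S`-linear part of the trace. -/
noncomputable def Tr₀ (t : ℕ) :
    ↥(⋀[S]^(t + 1) (Ω[S⁄Λ])) →ₗ[S] S ⊗[R] ExteriorAlgebra R (Ω[R⁄Λ]) :=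
  ev Λ v₀ ∘ₗ (Γ' ρ' hρ'r).toLinearMap ∘ₗ (⋀[S]^t (Ω[S⁄Λ])).subtype ∘ₗ Cartan.contr φ t

include hφ in
theorem Tr₀_map (t : ℕ) (η : Fin (t + 1) → Ω[R⁄Λ]) :
    Tr₀ ρ' hρ'r φ t (exteriorPower.ιMulti S (t + 1)
      (fun i => KaehlerDifferential.map Λ Λ R S (η i))) = 0 := by
  unfold Tr₀
  rw [LinearMap.comp_apply, LinearMap.comp_apply, LinearMap.comp_apply,
    contr_eq_zero φ t _ (fun i => φ_map φ hφ (η i)), map_zero, map_zero, map_zero]

include hρ' hφ in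
theorem Tr₀_snoc (t : ℕ) (η : Fin t → Ω[R⁄Λ]) (ω : Ω[S⁄Λ]) :
    Tr₀ ρ' hρ'r φ t (exteriorPower.ιMulti S (t + 1)
      (Fin.snoc (fun i => KaehlerDifferential.map Λ Λ R S (η i)) ω : Fin (t + 1) → Ω[S⁄Λ])) =
      (-1 : ℤ) ^ t • (φ ω ⊗ₜ[R]
        ExteriorAlgebra.ιMulti R (t + 1) (Fin.snoc η v₀ : Fin (t + 1) → Ω[R⁄Λ])) := by
  unfold Tr₀
  rw [LinearMap.comp_apply, LinearMap.comp_apply, LinearMap.comp_apply,
    contr_snoc φ t _ (fun i => φ_map φ hφ (η i)), map_zsmul, map_zsmul, map_zsmul, map_smul,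
    map_smul, map_smul, Submodule.subtype_apply, exteriorPower.ιMulti_apply_coe,
    AlgHom.toLinearMap_apply, ev_Γ'_ιMulti_map ρ' hρ' hρ'r, TensorProduct.smul_tmul', smul_eq_mul,
    mul_one]

/-- The trace, as an additive map. -/
noncomputable def Tr (t : ℕ) : ↥(⋀[S]^(t + 1) (Ω[S⁄Λ])) →+ ↥(⋀[R]^(t + 1) (Ω[R⁄Λ])) :=
  ((-1 : ℤ) ^ t • ((proj (t + 1)) ∘ₗ (lam c))).toAddMonoidHom.comp
    (Tr₀ ρ' hρ'r φ t).toAddMonoidHom

theorem Tr_apply (t : ℕ) (ω : ↥(⋀[S]^(t + 1) (Ω[S⁄Λ]))) :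
    Tr ρ' hρ'r φ c t ω = (-1 : ℤ) ^ t • proj (t + 1) (lam c (Tr₀ ρ' hρ'r φ t ω)) := rfl

theorem Tr_smul (t : ℕ) (r : R) (ω : ↥(⋀[S]^(t + 1) (Ω[S⁄Λ]))) :
    Tr ρ' hρ'r φ c t (algebraMap R S r • ω) = r • Tr ρ' hρ'r φ c t ω := by
  rw [Tr_apply, Tr_apply, map_smul, algebraMap_smul, map_smul, map_smul, smul_comm]

include hφ in
theorem Tr_map (t : ℕ) (s : S) (η : Fin (t + 1) → Ω[R⁄Λ]) :
    Tr ρ' hρ'r φ c t (s • exteriorPower.ιMulti S (t + 1)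
      (fun i => KaehlerDifferential.map Λ Λ R S (η i))) = 0 := by
  rw [Tr_apply, map_smul, Tr₀_map ρ' hρ'r φ hφ, smul_zero, map_zero, map_zero, smul_zero]

include hρ' hφ in
theorem Tr_snoc (t : ℕ) (η : Fin t → Ω[R⁄Λ]) (ω : Ω[S⁄Λ]) :
    Tr ρ' hρ'r φ c t (exteriorPower.ιMulti S (t + 1)
      (Fin.snoc (fun i => KaehlerDifferential.map Λ Λ R S (η i)) ω : Fin (t + 1) → Ω[S⁄Λ])) =
      c (φ ω) • exteriorPower.ιMulti R (t + 1) (Fin.snoc η v₀ : Fin (t + 1) → Ω[R⁄Λ]) := by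
  rw [Tr_apply, Tr₀_snoc ρ' hρ' hρ'r φ hφ, map_zsmul, map_zsmul, lam_tmul, map_smul, proj_ιMulti,
    smul_smul, ← pow_add, ← two_mul, pow_mul]
  simp

end Groth.Agent.Lib.Seat79.PthRootTrace
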