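import Groth.Agent.Lib.Seat79AdjoinRootDer
import Groth.Agent.Lib.Seat79PthRootTrace

/-!
# The trace on differential forms for `S = R[x]/(x^p - a)` in characteristic `p` (seat 79)

Specialisation of `Seat79PthRootTrace` to an `R`-algebra `S` generated by an element `x` with
`ker (aeval x) = (X ^ p - C a)` (kept abstract so that instance search stays fast; the statement
file instantiates `S = AdjoinRoot (X ^ p - C a)`):
the derivations `dd = ∂/∂x` and `D'` (coefficientwise `d`, acting on `K = (1 ⊗ da) * B`).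
-/

set_option autoImplicit false
set_option linter.unusedSectionVars false
universe u

open Polynomial TensorProduct
open Groth.Agent.Lib.Seat79

namespace Groth.Agent.Lib.Seat79.PthRootTraceAR

theorem natCast_p_eq_zero (p : ℕ) (R : Type u) {S : Type u} [CommRing R] [CommRing S]
    [Algebra R S] [CharP R p] : (p : S) = 0 := by
  rw [← map_natCast (algebraMap R S), CharP.cast_eq_zero, map_zero]

variable (p : ℕ) [hp : Fact p.Prime] (Λ : Type u) {R S : Type u} [CommRing Λ] [CommRing R]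
  [CommRing S] [Algebra Λ R] [Algebra R S] [Algebra Λ S] [IsScalarTower Λ R S] [CharP R p] (a : R)
  (x : S) (hsurj : Function.Surjective (aeval x : R[X] → S))
  (hker : ∀ g : R[X], aeval x g = 0 → (X ^ p - C a : R[X]) ∣ g)
  (hf : aeval x (X ^ p - C a : R[X]) = 0)

theorem Dtil_dd : AdjoinRootDer.Dtil x (0 : R →+ S) (1 : S) (X ^ p - C a : R[X]) = 0 := by
  rw [map_sub, AdjoinRootDer.Dtil_X_pow _ _ (by simp), AdjoinRootDer.Dtil_C,
    natCast_p_eq_zero p R]
  simp

/-- The derivation `∂/∂x` of `S` over `R`, as a `Λ`-derivation. -/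
noncomputable def dd : Derivation Λ S S :=
  AdjoinRootDer.toDerivation x (X ^ p - C a : R[X]) hsurj hker hf (0 : R →+ S)
    (fun r r' => by simp) 1 (Dtil_dd p a x) (fun l => rfl)

theorem dd_algebraMap (r : R) : dd p Λ a x hsurj hker hf (algebraMap R S r) = 0 := by
  unfold dd
  rw [AdjoinRootDer.toDerivation_apply, AdjoinRootDer.der_algebraMap x (X ^ p - C a : R[X]) hsurj
    hker hf _ (fun r r' => by simp) _ (Dtil_dd p a x)]
  rfl

theorem dd_x : dd p Λ a x hsurj hker hf x = 1 := by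
  unfold dd
  rw [AdjoinRootDer.toDerivation_apply, AdjoinRootDer.der_x x (X ^ p - C a : R[X]) hsurj
    hker hf _ (fun r r' => by simp) _ (Dtil_dd p a x) (by simp)]

include hsurj hker hf in
theorem exists_φ : ∃ φ : Ω[S⁄Λ] →ₗ[S] S,
    (∀ r, φ (KaehlerDifferential.D Λ S (algebraMap R S r)) = 0) ∧
      φ (KaehlerDifferential.D Λ S x) = 1 := by
  refine ⟨(dd p Λ a x hsurj hker hf).liftKaehlerDifferential, fun r => ?_, ?_⟩
  · rw [Derivation.liftKaehlerDifferential_comp_D, dd_algebraMap]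
  · rw [Derivation.liftKaehlerDifferential_comp_D, dd_x]

section AbstractN

variable {N : Type u} [AddCommGroup N] [Module S N] [Module Λ N] [IsScalarTower Λ S N]
  (Lm : S ⊗[R] Ω[R⁄Λ] →ₗ[S] N) (hLm : Lm (1 ⊗ₜ[R] KaehlerDifferential.D Λ R a) = 0)

/-- The additive map `r ↦ Lm (1 ⊗ dr)`. -/
noncomputable def δL : R →+ N where
  toFun r := Lm (1 ⊗ₜ[R] KaehlerDifferential.D Λ R r)
  map_zero' := by simp
  map_add' r r' := by rw [map_add, TensorProduct.tmul_add, map_add]

theorem δL_apply (r : R) : δL Λ Lm r = Lm (1 ⊗ₜ[R] KaehlerDifferential.D Λ R r) := rfl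

theorem Lm_tmul_smul (r : R) (s : S) (m : Ω[R⁄Λ]) :
    Lm (s ⊗ₜ[R] (r • m)) = algebraMap R S r • Lm (s ⊗ₜ[R] m) := by
  rw [← map_smul, ← TensorProduct.smul_tmul, TensorProduct.smul_tmul', Algebra.smul_def,
    smul_eq_mul]

theorem δL_leibniz (r r' : R) : δL Λ Lm (r * r') =
    algebraMap R S r • δL Λ Lm r' + algebraMap R S r' • δL Λ Lm r := by
  rw [δL_apply, δL_apply, δL_apply, Derivation.leibniz, TensorProduct.tmul_add, map_add,
    Lm_tmul_smul, Lm_tmul_smul]

theorem δL_algebraMap (l : Λ) : δL Λ Lm (algebraMap Λ R l) = 0 := by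
  rw [δL_apply, Derivation.map_algebraMap, TensorProduct.tmul_zero, map_zero]

theorem δL_mem (r : R) : δL Λ Lm r ∈ LinearMap.range Lm := ⟨_, rfl⟩

include hLm in
theorem Dtil_δL : AdjoinRootDer.Dtil x (δL Λ Lm) (0 : N) (X ^ p - C a : R[X]) = 0 := by
  rw [map_sub, AdjoinRootDer.Dtil_X_pow _ _ (by
      have h := δL_algebraMap Λ Lm 1
      rwa [map_one] at h), AdjoinRootDer.Dtil_C, smul_zero, zero_sub, neg_eq_zero, δL_apply, hLm]

/-- The coefficientwise derivation with values in `N`. -/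
noncomputable def D' : Derivation Λ S N :=
  AdjoinRootDer.toDerivation x (X ^ p - C a : R[X]) hsurj hker hf (δL Λ Lm) (δL_leibniz Λ Lm)
    (0 : N) (Dtil_δL p Λ a x Lm hLm) (δL_algebraMap Λ Lm)

theorem D'_algebraMap (r : R) : D' p Λ a x hsurj hker hf Lm hLm (algebraMap R S r) =
    Lm (1 ⊗ₜ[R] KaehlerDifferential.D Λ R r) := by
  unfold D'
  rw [AdjoinRootDer.toDerivation_apply, AdjoinRootDer.der_algebraMap x (X ^ p - C a : R[X]) hsurj
    hker hf _ (δL_leibniz Λ Lm) _ (Dtil_δL p Λ a x Lm hLm)]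
  rfl

theorem D'_mem (s : S) : D' p Λ a x hsurj hker hf Lm hLm s ∈ LinearMap.range Lm := by
  unfold D'
  rw [AdjoinRootDer.toDerivation_apply]
  exact AdjoinRootDer.der_mem x (X ^ p - C a : R[X]) hsurj hker hf _
    (δL_leibniz Λ Lm) _ (Dtil_δL p Λ a x Lm hLm) _ (δL_mem Λ Lm) (Submodule.zero_mem _) s

include hsurj hker hf hLm in
theorem exists_ρ' : ∃ ρ' : Ω[S⁄Λ] →ₗ[S] N,
    (∀ r, ρ' (KaehlerDifferential.D Λ S (algebraMap R S r)) =
      Lm (1 ⊗ₜ[R] KaehlerDifferential.D Λ R r)) ∧ ∀ ω, ρ' ω ∈ LinearMap.range Lm := by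
  refine ⟨(D' p Λ a x hsurj hker hf Lm hLm).liftKaehlerDifferential, fun r => ?_, fun ω => ?_⟩
  · rw [Derivation.liftKaehlerDifferential_comp_D, D'_algebraMap]
  · have hω : ω ∈ Submodule.span S (Set.range (KaehlerDifferential.D Λ S)) := by
      rw [KaehlerDifferential.span_range_derivation]; trivial
    induction hω using Submodule.span_induction with
    | mem ω h =>
      obtain ⟨s, rfl⟩ := h
      rw [Derivation.liftKaehlerDifferential_comp_D]
      exact D'_mem p Λ a x hsurj hker hf Lm hLm s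
    | zero => rw [map_zero]; exact Submodule.zero_mem _
    | add ω₁ ω₂ _ _ h₁ h₂ => rw [map_add]; exact Submodule.add_mem _ h₁ h₂
    | smul s ω _ h => rw [map_smul]; exact Submodule.smul_mem _ _ h

end AbstractN

include hsurj hker hf in
/-- The trace on `⋀^(t+1) Ω[S⁄Λ]`, for an `R`-linear functional `c : S → R`. -/
theorem exists_trace (c : S →ₗ[R] R) (t : ℕ) :
    ∃ Tr : ↥(⋀[S]^(t + 1) (Ω[S⁄Λ])) →+ ↥(⋀[R]^(t + 1) (Ω[R⁄Λ])),
      (∀ (r : R) (ω : ↥(⋀[S]^(t + 1) (Ω[S⁄Λ]))), Tr (algebraMap R S r • ω) = r • Tr ω) ∧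
      (∀ (η : Fin t → Ω[R⁄Λ]) (s : S),
        Tr (exteriorPower.ιMulti S (t + 1)
          (Fin.snoc (fun j => KaehlerDifferential.map Λ Λ R S (η j))
            (s • KaehlerDifferential.D Λ S x) : Fin (t + 1) → Ω[S⁄Λ])) =
          c s • exteriorPower.ιMulti R (t + 1)
            (Fin.snoc η (KaehlerDifferential.D Λ R a) : Fin (t + 1) → Ω[R⁄Λ])) ∧
      (∀ (s : S) (η : Fin (t + 1) → Ω[R⁄Λ]),
        Tr (s • exteriorPower.ιMulti S (t + 1)
          (fun j => KaehlerDifferential.map Λ Λ R S (η j))) = 0) := by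
  obtain ⟨ρ', hρ', hρ'r⟩ := exists_ρ' p Λ a x hsurj hker hf
    (N := Module.End S (ExtBaseChange.K R S (KaehlerDifferential.D Λ R a)))
    (ExtBaseChange.L R S (KaehlerDifferential.D Λ R a))
    (ExtBaseChange.L_hat (KaehlerDifferential.D Λ R a))
  obtain ⟨φ, hφ, hφx⟩ := exists_φ p Λ a x hsurj hker hf
  refine ⟨PthRootTrace.Tr ρ' hρ'r φ c t, PthRootTrace.Tr_smul ρ' hρ'r φ c t, fun η s => ?_,
    PthRootTrace.Tr_map ρ' hρ'r φ hφ c t⟩
  rw [PthRootTrace.Tr_snoc ρ' hρ' hρ'r φ hφ c, map_smul, hφx, smul_eq_mul, mul_one]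

end Groth.Agent.Lib.Seat79.PthRootTraceAR
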