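import Groth.Agent.Lib.Seat30NilLift
import Groth.Agent.Lib.Helper5NilFree

/-!
# Seat79: lifting finitely generated projective modules along a surjection with nilpotent kernel

`exists_lift_of_nilpotent`: for `T₀ : A → R` surjective with nilpotent kernel and `L` a finitely generated
projective `R`-module there is a finitely generated projective `A`-module `X` with a `T₀`-semilinear
surjection `σ : X → L` whose kernel is `(ker T₀) • X`.
-/

set_option autoImplicit false
set_option linter.style.haveILetI false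

open TensorProduct

universe u

namespace Groth.Agent.Lib.Seat79.WDesc

theorem exists_lift_of_nilpotent {A R : Type u} [CommRing A] [CommRing R] (T₀ : A →+* R)
    (hT₀ : Function.Surjective T₀) (hnil : IsNilpotent (RingHom.ker T₀))
    (L : Type u) [AddCommGroup L] [Module R L] [Module.Finite R L] [Module.Projective R L] :
    ∃ X : ModuleCat.{u} A, Module.Finite A X ∧ Module.Projective A X ∧
      ∃ σ : X →+ L, (∀ (a : A) (x : X), σ (a • x) = T₀ a • σ x) ∧ Function.Surjective σ ∧
        ∀ x, σ x = 0 → x ∈ (RingHom.ker T₀) • (⊤ : Submodule A X) := by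
  classical
  let e : A ⧸ RingHom.ker T₀ ≃+* R := RingHom.quotientKerEquivOfSurjective hT₀
  have he : ∀ a : A, e (Ideal.Quotient.mk _ a) = T₀ a :=
    fun a => RingHom.quotientKerEquivOfSurjective_apply_mk hT₀ a
  letI mL : Module (A ⧸ RingHom.ker T₀) L := Module.compHom L (e : A ⧸ RingHom.ker T₀ →+* R)
  have hsm : ∀ (b : A ⧸ RingHom.ker T₀) (l : L), b • l = e b • l := fun _ _ => rfl
  haveI : Module.Projective (A ⧸ RingHom.ker T₀) L := by
    haveI := RingHomInvPair.of_ringEquiv e
    haveI := RingHomInvPair.of_ringEquiv_symm e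
    let e₂ : L ≃ₛₗ[(e.symm : R →+* A ⧸ RingHom.ker T₀)] L :=
      { toFun := id
        invFun := id
        map_add' := fun _ _ => rfl
        map_smul' := fun r l => by
          show r • l = e (e.symm r) • l
          rw [e.apply_symm_apply]
        left_inv := fun _ => rfl
        right_inv := fun _ => rfl }
    exact Module.Projective.of_equiv e₂
  obtain ⟨X, hXp, ⟨eq⟩⟩ := Groth.Agent.Lib.Seat30.NilLift.exists_projective_lift hnil L
  -- the semilinear map
  let σ : X →+ L :=
    { toFun := fun x => eq ((1 : A ⧸ RingHom.ker T₀) ⊗ₜ[A] x)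
      map_zero' := by rw [TensorProduct.tmul_zero, map_zero]
      map_add' := fun x x' => by rw [TensorProduct.tmul_add, map_add] }
  have hσ_apply : ∀ x, σ x = eq ((1 : A ⧸ RingHom.ker T₀) ⊗ₜ[A] x) := fun _ => rfl
  have hone : ∀ (a : A) (x : X), ((1 : A ⧸ RingHom.ker T₀) ⊗ₜ[A] (a • x)) =
      (Ideal.Quotient.mk (RingHom.ker T₀) a) • ((1 : A ⧸ RingHom.ker T₀) ⊗ₜ[A] x) := by
    intro a x
    rw [TensorProduct.smul_tmul', ← TensorProduct.smul_tmul, smul_eq_mul, mul_one]
    congr 1
    rw [Algebra.smul_def, mul_one]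
    rfl
  have hσs : ∀ (a : A) (x : X), σ (a • x) = T₀ a • σ x := by
    intro a x
    rw [hσ_apply, hσ_apply, hone, map_smul, hsm, he]
  have hall : ∀ z : (A ⧸ RingHom.ker T₀) ⊗[A] X, ∃ x : X, (1 : A ⧸ RingHom.ker T₀) ⊗ₜ[A] x = z := by
    intro z
    induction z using TensorProduct.induction_on with
    | zero => exact ⟨0, TensorProduct.tmul_zero _ _⟩
    | tmul b x =>
      obtain ⟨a, rfl⟩ := Ideal.Quotient.mk_surjective b
      refine ⟨a • x, ?_⟩
      rw [hone, TensorProduct.smul_tmul', smul_eq_mul, mul_one]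
    | add z z' hz hz' =>
      obtain ⟨x, rfl⟩ := hz
      obtain ⟨x', rfl⟩ := hz'
      exact ⟨x + x', TensorProduct.tmul_add _ _ _⟩
  have hσsurj : Function.Surjective σ := by
    intro l
    obtain ⟨x, hx⟩ := hall (eq.symm l)
    exact ⟨x, by rw [hσ_apply, hx, LinearEquiv.apply_symm_apply]⟩
  have hσker : ∀ x, σ x = 0 → x ∈ (RingHom.ker T₀) • (⊤ : Submodule A X) := by
    intro x hx
    have h1 : (1 : A ⧸ RingHom.ker T₀) ⊗ₜ[A] x = 0 := by
      apply eq.injective
      rw [map_zero]
      exact hx
    have h2 := congrArg (TensorProduct.quotTensorEquivQuotSMul X (RingHom.ker T₀)) h1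
    rw [TensorProduct.quotTensorEquivQuotSMul_mk_one_tmul, map_zero,
      Submodule.Quotient.mk_eq_zero] at h2
    exact h2
  -- finiteness by Nakayama
  have hfin : Module.Finite A X := by
    obtain ⟨s, hs⟩ := (Module.Finite.fg_top : (⊤ : Submodule R L).FG)
    let lift₀ : L → X := Function.surjInv hσsurj
    have hl : ∀ l, σ (lift₀ l) = l := Function.surjInv_eq hσsurj
    let N' : Submodule A X := Submodule.span A ((s.image lift₀ : Finset X) : Set X)
    have hcover : ∀ l : L, ∃ y ∈ N', σ y = l := by
      intro l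
      have hl' : l ∈ Submodule.span R (s : Set L) := by rw [hs]; exact Submodule.mem_top
      induction hl' using Submodule.span_induction with
      | mem l hl0 =>
        refine ⟨lift₀ l, Submodule.subset_span ?_, hl l⟩
        rw [Finset.coe_image]
        exact ⟨l, hl0, rfl⟩
      | zero => exact ⟨0, Submodule.zero_mem _, map_zero _⟩
      | add l l' _ _ h h' =>
        obtain ⟨y, hy, rfl⟩ := h
        obtain ⟨y', hy', rfl⟩ := h'
        exact ⟨y + y', Submodule.add_mem _ hy hy', map_add _ _ _⟩
      | smul r l _ h =>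
        obtain ⟨y, hy, rfl⟩ := h
        obtain ⟨a, rfl⟩ := hT₀ r
        exact ⟨a • y, Submodule.smul_mem _ _ hy, hσs a y⟩
    have htop : N' = ⊤ := by
      apply Groth.Agent.Lib.Helper5.eq_top_of_sup_smul_top_eq_top_of_isNilpotent hnil
      rw [eq_top_iff]
      intro x _
      obtain ⟨y, hy, hyx⟩ := hcover (σ x)
      have h0 : σ (x - y) = 0 := by rw [map_sub, hyx, sub_self]
      have : x = y + (x - y) := by abel
      rw [this]
      exact Submodule.add_mem_sup hy (hσker _ h0)
    exact ⟨⟨s.image lift₀, htop⟩⟩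
  exact ⟨X, hfin, hXp, σ, hσs, hσsurj, hσker⟩

end Groth.Agent.Lib.Seat79.WDesc
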