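import Groth.Agent.Lib.Seat79WDescStep
import Groth.Agent.Lib.Seat79WDescLift
import Groth.Agent.Lib.LeadAzumaya

/-!
# Seat79: base case and final step of the dévissage

* `base`: for `w : F → Id` surjective with nilpotent kernel at `R`, classical faithfully flat descent
  (`bijective_mu`), descent of finite projectivity and lifting of projective modules produce a finitely
  generated projective `F(R)`-module `X` with a solution `Sol R D w X`.
* `final`: a solution for the coefficient system `(F, id)` gives an isomorphism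
  `F(S) ⊗_{F(R)} X ≅ N` whose elements `1 ⊗ x` are invariant under the descent datum.
-/

set_option autoImplicit false
set_option linter.style.haveILetI false
set_option backward.isDefEq.respectTransparency false
set_option backward.isDefEq.respectTransparency.types false
set_option backward.defeqAttrib.useBackward true

open TensorProduct ChangeOfRings CategoryTheory
open Groth.Agent.Lib.Seat78.EffAlg Groth.Agent.Lib.Seat78.EffMain Groth.Agent.Lib.Seat78.ExtPF

universe u

namespace Groth.Agent.Lib.Seat79.WDesc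

section gen

theorem bijective_twE_of_eq {A B : Type u} [CommRing A] [CommRing B] (φ φ' : A →+* B) (h : φ = φ')
    (X : ModuleCat.{u} A) (Z : ModuleCat.{u} B) (γ : X →+ Z)
    (hγ : ∀ (a : A) (x : X), γ (a • x) = RingHom.id B (φ a) • γ x)
    (hγ' : ∀ (a : A) (x : X), γ (a • x) = RingHom.id B (φ' a) • γ x)
    (hb : Function.Bijective (twE φ X Z (RingHom.id B) γ hγ)) :
    Function.Bijective (twE φ' X Z (RingHom.id B) γ hγ') := by
  subst h
  exact hb

end gen

section Base
variable (R : Type u) {S : Type u} [CommRing R] [CommRing S] [Algebra R S] {F : RFun.{u}}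
  {N : ModuleCat.{u} (F.obj S)} (D : DD R F N) (w : RNat F RFun.idF.{u})

attribute [local instance] modR

theorem finite_projective_invP [Module.FaithfullyFlat R S] [Module.Finite (F.obj S) N]
    [Module.Projective (F.obj S) N] :
    Module.Finite R (invP R w D) ∧ Module.Projective R (invP R w D) := by
  haveI : Module.Finite S (Pm w N) := finite_E (φ0 w) N
  haveI : Module.Projective S (Pm w N) := projective_E (φ0 w) N
  have hbij := Groth.Agent.Lib.Seat58.DescAlg.coalg_descent (A := R) (A' := S) (M' := Pm w N)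
    (psi R w D) (psi_smul R w D) (psi_counit R w D) (psi_coassoc R w D) (invP R w D) (mem_invP R w D)
  let l : S ⊗[R] (invP R w D) →ₗ[S] Pm w N := (invP R w D).subtype.liftBaseChange S
  have hl : Function.Bijective l := by
    have : ⇑l = ⇑(Groth.Agent.Lib.Seat58.DescAlg.δ (A := R) (A' := S) (M' := Pm w N) ∘ₗ
        LinearMap.lTensor S (invP R w D).subtype) := by
      funext z
      induction z using TensorProduct.induction_on with
      | zero => rw [map_zero, map_zero]
      | tmul s y =>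
        rw [LinearMap.liftBaseChange_tmul, LinearMap.comp_apply, LinearMap.lTensor_tmul,
          Groth.Agent.Lib.Seat58.DescAlg.δ_tmul]
      | add z z' hz hz' => rw [map_add, map_add, hz, hz']
    rw [this]
    exact hbij
  let eL := LinearEquiv.ofBijective l hl
  haveI : Module.Finite S (S ⊗[R] (invP R w D)) := Module.Finite.equiv eL.symm
  haveI : Module.Projective S (S ⊗[R] (invP R w D)) := Module.Projective.of_equiv' eL.symm
  exact Groth.Agent.Lib.LeadAzumaya.finite_projective_of_faithfullyFlat_baseChange S (invP R w D)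

theorem base_bij (X : ModuleCat.{u} (F.obj R)) (σ : X →+ invP R w D)
    (hσs : ∀ (a : F.obj R) (x : X), σ (a • x) = w.app R a • σ x)
    (ρ : X →+ Pm w N) (hρ : ∀ x, ρ x = ((σ x : invP R w D) : Pm w N))
    (hρs : ∀ (a : F.obj R) (x : X),
      ρ (a • x) = RingHom.id S (((algebraMap R S).comp (w.app R)) a) • ρ x) (y) :
    twE ((algebraMap R S).comp (w.app R)) X (Pm w N) (RingHom.id S) ρ hρs y =
        μAdd R (Pm w N) (invP R w D)
          (redE (w.app R) (algebraMap R S) X (ModuleCat.of R (invP R w D)) σ hσs y) := by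
  induction y using induction_E with
  | zero => simp only [map_zero]
  | tmul q x =>
    rw [twE_tmul, redE_tmul, μAdd_tmul, hρ]
    rfl
  | add y y' hy hy' => rw [map_add, map_add, map_add, hy, hy']

/-- **The base case**. -/
theorem base [Module.FaithfullyFlat R S] [Module.Finite (F.obj S) N] [Module.Projective (F.obj S) N]
    (hws : Function.Surjective (w.app R)) (hwn : IsNilpotent (RingHom.ker (w.app R))) :
    ∃ X : ModuleCat.{u} (F.obj R), Module.Finite (F.obj R) X ∧ Module.Projective (F.obj R) X ∧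
      Nonempty (Sol R D w X) := by
  obtain ⟨hLf, hLp⟩ := finite_projective_invP R D w
  obtain ⟨X, hXf, hXp, σ, hσs, hσsurj, hσker⟩ :=
    exists_lift_of_nilpotent (w.app R) hws hwn (invP R w D)
  refine ⟨X, hXf, hXp, ⟨?_⟩⟩
  let ρ : X →+ Pm w N := ((invP R w D).subtype.toAddMonoidHom).comp σ
  have hρ : ∀ x, ρ x = ((σ x : invP R w D) : Pm w N) := fun _ => rfl
  have hρs0 : ∀ (a : F.obj R) (x : X),
      ρ (a • x) = RingHom.id S (((algebraMap R S).comp (w.app R)) a) • ρ x := by
    intro a x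
    rw [hρ, hσs, Submodule.coe_smul]
    rfl
  have hχ : ((algebraMap R S).comp (w.app R) : F.obj R →+* S) = (χ R w : F.obj R →+* S) := rfl
  have hρs : ∀ (a : F.obj R) (x : X),
      ρ (a • x) = RingHom.id S ((χ R w : F.obj R →+* S) a) • ρ x := hρs0
  have h1 := bijective_redE (w.app R) (algebraMap R S) X (ModuleCat.of R (invP R w D)) σ hσs
    hws hσsurj hσker
  have h2 := bijective_mu R w D
  have hb0 : Function.Bijective
      (twE ((algebraMap R S).comp (w.app R)) X (Pm w N) (RingHom.id S) ρ hρs0) := by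
    have : ⇑(twE ((algebraMap R S).comp (w.app R)) X (Pm w N) (RingHom.id S) ρ hρs0) =
        ⇑(μAdd R (Pm w N) (invP R w D)) ∘
          ⇑(redE (w.app R) (algebraMap R S) X (ModuleCat.of R (invP R w D)) σ hσs) :=
      funext (base_bij R D w X σ hσs ρ hρ hρs0)
    rw [this]
    exact h2.comp h1
  refine { ρ := ρ, ρ_smul := hρs, inv := ?_,
           bij := bijective_twE_of_eq _ _ hχ X (Pm w N) ρ hρs0 hρs hb0 }
  intro x
  rw [d0_apply, hρ, (mem_invP_iff R w D _).mp (σ x).2, sub_self]

end Base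

section lidG
variable {A B : Type u} [CommRing A] [CommRing B] (φ : A →+* B) (ψ : B →+* A)
  (hψφ : ∀ a, ψ (φ a) = a) (N : ModuleCat.{u} A)

/-- the element `b ⊗ n` of `E φ N` (a function, to be used when the two rings coincide) -/
noncomputable def tmE (b : B) (n : N) : E φ N := b ⊗ₜ[A, φ] n

theorem tmE_def (b : B) (n : N) : tmE φ N b n = b ⊗ₜ[A, φ] n := rfl

/-- `b ⊗ n ↦ ψ b • n` for a retraction `ψ` of `φ`. -/
noncomputable def lidG : E φ N →+ N :=
  twE φ N N ψ (AddMonoidHom.id N) (fun a n => by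
    show a • n = ψ (φ a) • n
    rw [hψφ])

theorem lidG_tmul (b : B) (n : N) : lidG φ ψ hψφ N (tmE φ N b n) = ψ b • n :=
  twE_tmul _ _ _ _ _ _ _ _

theorem lidG_smul (b : B) (y : E φ N) : lidG φ ψ hψφ N (b • y) = ψ b • lidG φ ψ hψφ N y :=
  twE_smul _ _ _ _ _ _ _ _

variable (hφψ : ∀ b, φ (ψ b) = b)

include hφψ in
theorem one_tmul_lidG (y : E φ N) : tmE φ N (1 : B) (lidG φ ψ hψφ N y) = y := by
  induction y using induction_E with
  | zero => rw [map_zero, tmE_def, tmul_zero_E]
  | tmul b n =>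
    show tmE φ N (1 : B) (lidG φ ψ hψφ N (tmE φ N b n)) = tmE φ N b n
    rw [lidG_tmul]
    have h : ((φ (ψ b) * 1 : B)) = b := by rw [hφψ, mul_one]
    exact (smul_tmul_E φ N (ψ b) 1 n).symm.trans (congrArg (fun c => tmE φ N c n) h)
  | add y y' hy hy' =>
    rw [tmE_def] at hy hy' ⊢
    rw [map_add, tmul_add_E, hy, hy']

include hφψ in
theorem bijective_lidG : Function.Bijective (lidG φ ψ hψφ N) := by
  constructor
  · intro y y' h
    rw [← one_tmul_lidG φ ψ hψφ N hφψ y, ← one_tmul_lidG φ ψ hψφ N hφψ y', h]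
  · intro n
    exact ⟨tmE φ N (1 : B) n, by rw [lidG_tmul, map_one, one_smul]⟩

end lidG

section Final
variable (R : Type u) {S : Type u} [CommRing R] [CommRing S] [Algebra R S] {F : RFun.{u}}
  {N : ModuleCat.{u} (F.obj S)} (D : DD R F N) (τ : RNat F F)
  (hτ : ∀ (X : Type u) [CommRing X] (a : F.obj X), τ.app X a = a)

/-- `C⁰_F → N`, `q ⊗ n ↦ q • n`. -/
noncomputable def lidN : C0 τ N →+ N :=
  lidG (φ0 τ) (RingHom.id (F.obj S)) (fun a => hτ S a) N

theorem lidN_tmul (q : F.obj S) (n : N) : lidN τ hτ (tmE (φ0 τ) N q n) = q • n :=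
  lidG_tmul _ _ _ _ _ _

theorem lidN_smul (q : F.obj S) (y : C0 τ N) : lidN τ hτ (q • y) = q • lidN τ hτ y :=
  lidG_smul _ _ _ _ _ _

theorem one_tmul_lidN (y : C0 τ N) : tmE (φ0 τ) N (1 : F.obj S) (lidN τ hτ y) = y :=
  one_tmul_lidG _ _ _ _ (fun b => hτ S b) _

theorem bijective_lidN : Function.Bijective (lidN τ hτ (N := N)) :=
  bijective_lidG _ _ _ _ (fun b => hτ S b)

include hτ in
theorem bc1_injective : Function.Injective (bc1 R τ N) := by
  have hinv : ∀ (a : F.obj S) (b : F.obj (S ⊗[R] S)),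
      (AddMonoidHom.id (F.obj (S ⊗[R] S))) (φ1 R τ a * b) =
        F.map (i₂ R) a * (AddMonoidHom.id (F.obj (S ⊗[R] S))) b := by
    intro a b
    show τ.app _ (F.map (i₂ R) a) * b = F.map (i₂ R) a * b
    rw [hτ]
  have hl : ∀ z, mapE (φ1 R τ) (F.map (i₂ R)) N (AddMonoidHom.id _) hinv (bc1 R τ N z) = z := by
    intro z
    induction z using induction_E with
    | zero => simp only [map_zero]
    | tmul t x =>
      have h1 : bc1 R τ N (t ⊗ₜ[F.obj S, F.map (i₂ R)] x) = (τ.app _ t) ⊗ₜ[F.obj S, φ1 R τ] x :=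
        mapE_tmul _ _ _ _ _ _ _
      rw [h1, mapE_tmul, hτ]
      rfl
    | add y y' hy hy' => simp only [map_add, hy, hy']
  exact Function.LeftInverse.injective hl

include hτ in
/-- **The final step**. -/
theorem final (X : ModuleCat.{u} (F.obj R)) (s : Sol R D τ X) :
    ∃ e : E (F.map (algebraMap R S)) X ≅ N, ∀ x : X,
      D.β (ev e.hom ((1 : F.obj S) ⊗ₜ[F.obj R, F.map (algebraMap R S)] x)) =
        (1 : F.obj (S ⊗[R] S)) ⊗ₜ[F.obj S, F.map (i₂ R)]
          (ev e.hom ((1 : F.obj S) ⊗ₜ[F.obj R, F.map (algebraMap R S)] x)) := by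
  have hχ : (χ R τ : F.obj R →+* F.obj S) = F.map (algebraMap R S) := by
    ext a
    show F.map (algebraMap R S) (τ.app R a) = _
    rw [hτ]
  have hρs' : ∀ (a : F.obj R) (x : X),
      s.ρ (a • x) = RingHom.id (F.obj S) (F.map (algebraMap R S) a) • s.ρ x := by
    intro a x
    rw [s.ρ_smul, hχ]
  have hb1 := bijective_twE_of_eq _ _ hχ X (C0 τ N) s.ρ s.ρ_smul hρs' s.bij
  have hγ : ∀ (a : F.obj R) (x : X), ((lidN τ hτ).comp s.ρ) (a • x) =
      RingHom.id (F.obj S) (F.map (algebraMap R S) a) • ((lidN τ hτ).comp s.ρ) x := by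
    intro a x
    show lidN τ hτ (s.ρ (a • x)) = F.map (algebraMap R S) a • lidN τ hτ (s.ρ x)
    rw [hρs', lidN_smul]
    rfl
  let eAdd : E (F.map (algebraMap R S)) X →+ N :=
    twE (F.map (algebraMap R S)) X N (RingHom.id (F.obj S)) ((lidN τ hτ).comp s.ρ) hγ
  have heq : ⇑eAdd = ⇑(lidN τ hτ (N := N)) ∘
      ⇑(twE (F.map (algebraMap R S)) X (C0 τ N) (RingHom.id (F.obj S)) s.ρ hρs') := by
    funext y
    induction y using induction_E with
    | zero => simp only [map_zero, Function.comp_apply]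
    | tmul q x =>
      rw [Function.comp_apply, twE_tmul, twE_tmul, lidN_smul]
      rfl
    | add y y' hy hy' =>
      simp only [map_add, Function.comp_apply] at hy hy' ⊢
      rw [hy, hy']
  have hbij : Function.Bijective eAdd := by
    rw [heq]
    exact (bijective_lidN τ hτ).comp hb1
  let eLin : E (F.map (algebraMap R S)) X →ₗ[F.obj S] N :=
    { toFun := eAdd
      map_add' := map_add eAdd
      map_smul' := fun q y => twE_smul _ _ _ _ _ _ q y }
  let eEq : E (F.map (algebraMap R S)) X ≃ₗ[F.obj S] N := LinearEquiv.ofBijective eLin hbij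
  refine ⟨eEq.toModuleIso, ?_⟩
  intro x
  have h1 : ev eEq.toModuleIso.hom ((1 : F.obj S) ⊗ₜ[F.obj R, F.map (algebraMap R S)] x) =
      lidN τ hτ (s.ρ x) := by
    show eAdd ((1 : F.obj S) ⊗ₜ[F.obj R, F.map (algebraMap R S)] x) = _
    rw [twE_tmul]
    show (1 : F.obj S) • lidN τ hτ (s.ρ x) = _
    rw [one_smul]
  rw [h1]
  apply bc1_injective R τ hτ
  have h2 := s.inv x
  rw [d0_apply, sub_eq_zero, ← one_tmul_lidN τ hτ (s.ρ x), tmE_def, BQ_tmul, IQ_tmul, map_one,
    map_one, one_smul] at h2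
  rw [h2]
  have h3 : bc1 R τ N ((1 : F.obj (S ⊗[R] S)) ⊗ₜ[F.obj S, F.map (i₂ R)] (lidN τ hτ (s.ρ x))) =
      (τ.app _ 1) ⊗ₜ[F.obj S, φ1 R τ] (lidN τ hτ (s.ρ x)) := mapE_tmul _ _ _ _ _ _ _
  rw [h3, map_one]

end Final

end Groth.Agent.Lib.Seat79.WDesc
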