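import Groth.Agent.Lib.Seat79WDescCx
import Groth.Agent.Lib.Seat69Amitsur

/-!
# Seat79: the classical coefficient system `(𝟭, w : F ⟶ 𝟭)`

For a descent datum `D` on an `F(S)`-module `N` and a natural ring homomorphism `w : F ⟶ 𝟭`, the module
`P = S ⊗_{w} N` is a comodule for `S ⊗_R -`.  Consequences for `R → S` faithfully flat:
effectivity (`bijective_mu`) and exactness of the twisted Amitsur complex in degree one (`exists_d0_eq`).
-/

set_option autoImplicit false
set_option backward.isDefEq.respectTransparency false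
set_option backward.isDefEq.respectTransparency.types false
set_option backward.defeqAttrib.useBackward true

open TensorProduct ChangeOfRings
open Groth.Agent.Lib.Seat78.EffAlg Groth.Agent.Lib.Seat78.EffMain

universe u

namespace Groth.Agent.Lib.Seat79.WDesc

section Classical
variable (R : Type u) {S : Type u} [CommRing R] [CommRing S] [Algebra R S] {F : RFun.{u}}
  (w : RNat F RFun.idF.{u}) {N : ModuleCat.{u} (F.obj S)} (D : DD R F N)

/-- `P = S ⊗_{w} N`, as an `S`-module. -/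
noncomputable abbrev Pm (N : ModuleCat.{u} (F.obj S)) : ModuleCat.{u} S := C0 w N

attribute [local instance] modR

/-- `x ↦ 1 ⊗ x : N → P`. -/
noncomputable def oneT : N →+ Pm w N :=
  AddMonoidHom.mk' (fun x => ((1 : S) ⊗ₜ[F.obj S, φ0 w] x : Pm w N))
    (fun x x' => tmul_add_E (φ0 w) N 1 x x')

theorem oneT_apply (x : N) : oneT w x = ((1 : S) ⊗ₜ[F.obj S, φ0 w] x : Pm w N) := rfl

theorem oneT_smul (a : F.obj S) (x : N) : oneT w (a • x) = (w.app S a : S) • oneT w x := by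
  rw [oneT_apply, oneT_apply, smul_tmul_E']
  exact (smul_tmul_E (φ0 w) N a 1 x).symm

theorem tmul_eq_smul_oneT (s : S) (x : N) :
    ((s ⊗ₜ[F.obj S, φ0 w] x : Pm w N)) = s • oneT w x :=
  tmul_eq_smul_one (φ0 w) N s x

theorem φ1_idF (a : F.obj S) : (φ1 R w a : S ⊗[R] S) = i₂ R (w.app S a) := (w.nat (i₂ R) a)
theorem φ2_idF (a : F.obj S) : (φ2 R w a : S ⊗[R] (S ⊗[R] S)) = j₃ R (w.app S a) := (w.nat (j₃ R) a)

/-- The bi-additive map underlying `ϑ'`. -/
noncomputable def fth : (S ⊗[R] S) →+ N →+ S ⊗[R] (Pm w N) :=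
  AddMonoidHom.mk' (fun q => (fϑ R (Pm w N) q).comp (oneT w))
    (fun q q' => by ext x; simp)

theorem fth_apply (q : S ⊗[R] S) (x : N) : fth R w q x = fϑ R (Pm w N) q (oneT w x) := rfl

/-- `ϑ' : C¹_w → S ⊗[R] P`, `(s ⊗ s') ⊗ x ↦ s ⊗ (s' ⊗ x)`. -/
noncomputable def th : C1 R w N →+ S ⊗[R] (Pm w N) :=
  liftE (φ1 R w) N (fth R w) (fun a q x => by
    rw [fth_apply, fth_apply, φ1_idF, fϑ_balanced, oneT_smul])

theorem th_tmul (q : S ⊗[R] S) (x : N) :
    th R w (q ⊗ₜ[F.obj S, φ1 R w] x) = fϑ R (Pm w N) q (oneT w x) :=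
  liftE_tmul _ _ _ _ _ _

/-- The bi-additive map underlying `Ξ'`. -/
noncomputable def fXi : (S ⊗[R] (S ⊗[R] S)) →+ N →+ S ⊗[R] (S ⊗[R] (Pm w N)) :=
  AddMonoidHom.mk' (fun q => (fΞ R (Pm w N) q).comp (oneT w))
    (fun q q' => by ext x; simp)

theorem fXi_apply (q : S ⊗[R] (S ⊗[R] S)) (x : N) :
    fXi R w q x = fΞ R (Pm w N) q (oneT w x) := rfl

/-- `Ξ' : C²_w → S ⊗[R] (S ⊗[R] P)`. -/
noncomputable def Xi : C2 R w N →+ S ⊗[R] (S ⊗[R] (Pm w N)) :=
  liftE (φ2 R w) N (fXi R w) (fun a q x => by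
    rw [fXi_apply, fXi_apply, φ2_idF, fΞ_balanced, oneT_smul])

theorem Xi_tmul (q : S ⊗[R] (S ⊗[R] S)) (x : N) :
    Xi R w (q ⊗ₜ[F.obj S, φ2 R w] x) = fΞ R (Pm w N) q (oneT w x) :=
  liftE_tmul _ _ _ _ _ _

/-! ### formulas -/

theorem fϑ_add_left (P : ModuleCat.{u} S) (q q' : S ⊗[R] S) (n : P) :
    fϑ R P (q + q') n = fϑ R P q n + fϑ R P q' n := by
  rw [map_add, AddMonoidHom.add_apply]

theorem fΞ_add_left (P : ModuleCat.{u} S) (q q' : S ⊗[R] (S ⊗[R] S)) (n : P) :
    fΞ R P (q + q') n = fΞ R P q n + fΞ R P q' n := by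
  rw [map_add, AddMonoidHom.add_apply]

theorem th_IQ (y : Pm w N) : th R w (IQ R w N y) = (1 : S) ⊗ₜ[R] y := by
  induction y using induction_E with
  | zero => rw [map_zero, map_zero, TensorProduct.tmul_zero]
  | tmul s x =>
    rw [IQ_tmul, th_tmul]
    show fϑ R (Pm w N) ((1 : S) ⊗ₜ[R] s) (oneT w x) = _
    rw [fϑ_tmul, ← tmul_eq_smul_oneT]
  | add y y' hy hy' => rw [map_add, map_add, hy, hy', TensorProduct.tmul_add]

theorem th_smul (s : S) (c : C1 R w N) : th R w ((i₁ R s : S ⊗[R] S) • c) = s • th R w c := by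
  induction c using induction_E with
  | zero => rw [smul_zero, map_zero, smul_zero]
  | tmul q x => rw [smul_tmul_E', th_tmul, th_tmul, fϑ_i₁]
  | add y y' hy hy' => rw [smul_add, map_add, map_add, hy, hy', smul_add]

theorem delta_fϑ (P : ModuleCat.{u} S) (q : S ⊗[R] S) (n : P) :
    Groth.Agent.Lib.Seat58.DescAlg.δ (A := R) (A' := S) (M' := P) (fϑ R P q n) = mS R q • n := by
  induction q using TensorProduct.induction_on with
  | zero => simp
  | tmul s s' =>
    rw [fϑ_tmul, Groth.Agent.Lib.Seat58.DescAlg.δ_tmul, mS_tmul, mul_smul]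
  | add x y hx hy =>
    rw [fϑ_add_left, map_add, hx, hy, map_add, add_smul]

theorem delta_th (c : C1 R w N) :
    Groth.Agent.Lib.Seat58.DescAlg.δ (A := R) (A' := S) (M' := Pm w N) (th R w c) = DmQ R w N c := by
  induction c using induction_E with
  | zero => rw [map_zero, map_zero, map_zero]
  | tmul q x =>
    rw [th_tmul, delta_fϑ]
    have : DmQ R w N (q ⊗ₜ[F.obj S, φ1 R w] x) = ((mS R q : S) ⊗ₜ[F.obj S, φ0 w] x : Pm w N) :=
      mapE_tmul _ _ _ _ _ _ _
    rw [this, tmul_eq_smul_oneT]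
  | add y y' hy hy' => rw [map_add, map_add, map_add, hy, hy']

theorem Xi_D23Q (c : C1 R w N) : Xi R w (D23Q R w N c) = (1 : S) ⊗ₜ[R] th R w c := by
  induction c using induction_E with
  | zero => rw [map_zero, map_zero, map_zero, TensorProduct.tmul_zero]
  | tmul q x =>
    have : D23Q R w N (q ⊗ₜ[F.obj S, φ1 R w] x) =
        ((g₂₃ R q : S ⊗[R] (S ⊗[R] S)) ⊗ₜ[F.obj S, φ2 R w] x : C2 R w N) := mapE_tmul _ _ _ _ _ _ _
    rw [this, Xi_tmul, th_tmul, g₂₃_apply, fΞ_tmul]
  | add y y' hy hy' => rw [map_add, map_add, map_add, hy, hy', TensorProduct.tmul_add]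

theorem fΞ_g₁₃ (P : ModuleCat.{u} S) (q : S ⊗[R] S) (n : P) :
    fΞ R P (g₁₃ R q) n = LinearMap.lTensor S (TensorProduct.mk R S P 1) (fϑ R P q n) := by
  induction q using TensorProduct.induction_on with
  | zero => simp
  | tmul s s' =>
    rw [g₁₃_tmul, fΞ_tmul, fϑ_tmul, fϑ_tmul, LinearMap.lTensor_tmul]
    rfl
  | add q q' hq hq' =>
    rw [map_add, fΞ_add_left, fϑ_add_left, hq, hq', map_add]

theorem fΞ_j₁_mul (P : ModuleCat.{u} S) (s : S) (q : S ⊗[R] (S ⊗[R] S)) (n : P) :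
    fΞ R P (j₁ R s * q) n = s • fΞ R P q n := by
  induction q using TensorProduct.induction_on with
  | zero => simp
  | tmul s' q' =>
    show fΞ R P ((s ⊗ₜ[R] ((1 : S) ⊗ₜ[R] (1 : S))) * (s' ⊗ₜ[R] q')) n = _
    rw [Algebra.TensorProduct.tmul_mul_tmul, fΞ_tmul, fΞ_tmul, TensorProduct.smul_tmul', smul_eq_mul,
      show ((1 : S) ⊗ₜ[R] (1 : S)) * q' = q' from one_mul q']
  | add q q' hq hq' =>
    rw [mul_add, fΞ_add_left, fΞ_add_left, hq, hq', smul_add]

theorem Xi_D13Q (c : C1 R w N) :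
    Xi R w (D13Q R w N c) = LinearMap.lTensor S (TensorProduct.mk R S (Pm w N) 1) (th R w c) := by
  induction c using induction_E with
  | zero => rw [map_zero, map_zero, map_zero, map_zero]
  | tmul q x =>
    have : D13Q R w N (q ⊗ₜ[F.obj S, φ1 R w] x) =
        ((g₁₃ R q : S ⊗[R] (S ⊗[R] S)) ⊗ₜ[F.obj S, φ2 R w] x : C2 R w N) := mapE_tmul _ _ _ _ _ _ _
    rw [this, Xi_tmul, th_tmul, fΞ_g₁₃]
  | add y y' hy hy' => rw [map_add, map_add, map_add, map_add, hy, hy']

theorem Xi_j₁_smul (s : S) (z : C2 R w N) :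
    Xi R w ((j₁ R s : S ⊗[R] (S ⊗[R] S)) • z) = s • Xi R w z := by
  induction z using induction_E with
  | zero => rw [smul_zero, map_zero, smul_zero]
  | tmul q x => rw [smul_tmul_E', Xi_tmul, Xi_tmul, fΞ_j₁_mul]
  | add y y' hy hy' => rw [smul_add, map_add, map_add, hy, hy', smul_add]

/-- The coaction `ψ : P → S ⊗[R] P`. -/
noncomputable def psi : Pm w N →ₗ[R] S ⊗[R] (Pm w N) where
  toFun y := th R w (BQ R w D y)
  map_add' y y' := by rw [map_add, map_add]
  map_smul' r y := by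
    show th R w (BQ R w D ((algebraMap R S r) • y)) = r • th R w (BQ R w D y)
    rw [BQ_smul]
    show th R w ((i₁ R (algebraMap R S r) : S ⊗[R] S) • BQ R w D y) = _
    rw [th_smul, algebraMap_smul]

theorem psi_apply (y : Pm w N) : psi R w D y = th R w (BQ R w D y) := rfl

theorem psi_smul (s : S) (y : Pm w N) : psi R w D (s • y) = s • psi R w D y := by
  rw [psi_apply, psi_apply, BQ_smul]
  exact th_smul R w s _

theorem Xi_PsiQ_aux (x : N) (q : S ⊗[R] S) :
    Xi R w ((RFun.idF.map (g₁₂ R) q : S ⊗[R] (S ⊗[R] S)) • bc2 R w N (D23F R F N (D.β x))) =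
      LinearMap.lTensor S (psi R w D) (fϑ R (Pm w N) q (oneT w x)) := by
  induction q using TensorProduct.induction_on with
  | zero =>
    have h0 : ((RFun.idF.map (g₁₂ R) (0 : S ⊗[R] S) : S ⊗[R] (S ⊗[R] S)) •
        bc2 R w N (D23F R F N (D.β x)) : C2 R w N) = 0 := by
      rw [map_zero]
      exact zero_smul (S ⊗[R] (S ⊗[R] S)) (bc2 R w N (D23F R F N (D.β x)))
    rw [h0, map_zero, map_zero, AddMonoidHom.zero_apply, map_zero]
  | tmul s s' =>
    have e1 : (RFun.idF.map (g₁₂ R) (s ⊗ₜ[R] s') : S ⊗[R] (S ⊗[R] S)) =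
        j₁ R s * g₂₃ R (i₁ R s') := by
      show s ⊗ₜ[R] (s' ⊗ₜ[R] (1 : S)) =
        (s ⊗ₜ[R] ((1 : S) ⊗ₜ[R] (1 : S))) * ((1 : S) ⊗ₜ[R] (s' ⊗ₜ[R] (1 : S)))
      rw [Algebra.TensorProduct.tmul_mul_tmul, mul_one]
      congr 1
      exact (one_mul _).symm
    have e2 : (g₂₃ R (i₁ R s') : S ⊗[R] (S ⊗[R] S)) • bc2 R w N (D23F R F N (D.β x)) =
        D23Q R w N (BQ R w D (s' ⊗ₜ[F.obj S, φ0 w] x)) := by
      rw [BQ_tmul, D23Q_smul, D23Q_bc1]
    rw [e1, mul_smul, e2, Xi_j₁_smul, Xi_D23Q, fϑ_tmul, LinearMap.lTensor_tmul,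
      TensorProduct.smul_tmul', smul_eq_mul, mul_one, ← tmul_eq_smul_oneT, psi_apply]
  | add q q' hq hq' =>
    rw [map_add, add_smul, map_add, hq, hq', fϑ_add_left, map_add]

theorem Xi_PsiQ (c : C1 R w N) :
    Xi R w (PsiQ R w D c) = LinearMap.lTensor S (psi R w D) (th R w c) := by
  induction c using induction_E with
  | zero => rw [map_zero, map_zero, map_zero, map_zero]
  | tmul q x => rw [PsiQ_tmul, th_tmul, Xi_PsiQ_aux]
  | add y y' hy hy' => rw [map_add, map_add, map_add, map_add, hy, hy']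

/-! ### the inverse of `ϑ'` -/

/-- `s ⊗ p ↦ i₁(s) • I(p)`. -/
noncomputable def thInv : S ⊗[R] (Pm w N) →+ C1 R w N :=
  TensorProduct.liftAddHom
    (AddMonoidHom.mk' (fun s => AddMonoidHom.mk' (fun p => (i₁ R s : S ⊗[R] S) • IQ R w N p)
        (fun p p' => by rw [map_add, smul_add]))
      (fun s s' => by
        ext p
        show (i₁ R (s + s') : S ⊗[R] S) • IQ R w N p = (i₁ R s : S ⊗[R] S) • IQ R w N p +
          (i₁ R s' : S ⊗[R] S) • IQ R w N p
        rw [map_add, add_smul]))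
    (fun r s p => by
      show (i₁ R (r • s) : S ⊗[R] S) • IQ R w N p =
        (i₁ R s : S ⊗[R] S) • IQ R w N ((algebraMap R S r) • p)
      rw [IQ_smul, Algebra.smul_def, map_mul, i₁_algebraMap, mul_smul, smul_comm])

theorem thInv_tmul (s : S) (p : Pm w N) :
    thInv R w (s ⊗ₜ[R] p) = (i₁ R s : S ⊗[R] S) • IQ R w N p :=
  TensorProduct.liftAddHom_tmul _ _ _ _

theorem thInv_th (c : C1 R w N) : thInv R w (th R w c) = c := by
  induction c using induction_E with
  | zero => rw [map_zero, map_zero]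
  | tmul q x =>
    rw [th_tmul]
    induction q using TensorProduct.induction_on with
    | zero =>
      rw [map_zero, AddMonoidHom.zero_apply, map_zero]
      exact (zero_tmul_E (φ1 R w) N x).symm
    | tmul s s' =>
      rw [fϑ_tmul, thInv_tmul, ← tmul_eq_smul_oneT, IQ_tmul, smul_tmul_E']
      congr 1
      show (s ⊗ₜ[R] (1 : S)) * ((1 : S) ⊗ₜ[R] s') = s ⊗ₜ[R] s'
      rw [Algebra.TensorProduct.tmul_mul_tmul, mul_one, one_mul]
    | add q q' hq hq' =>
      rw [fϑ_add_left, map_add, hq, hq']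
      exact (add_tmul_E (φ1 R w) N q q' x).symm
  | add y y' hy hy' => rw [map_add, map_add, hy, hy']

theorem th_injective : Function.Injective (th R w (N := N)) :=
  Function.LeftInverse.injective (thInv_th R w)

/-! ### the comodule axioms and their consequences -/

theorem psi_counit (y : Pm w N) :
    Groth.Agent.Lib.Seat58.DescAlg.δ (A := R) (A' := S) (M' := Pm w N) (psi R w D y) = y := by
  rw [psi_apply, delta_th, DmQ_BQ]

theorem psi_coassoc (y : Pm w N) :
    LinearMap.lTensor S (psi R w D) (psi R w D y) =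
      LinearMap.lTensor S (TensorProduct.mk R S (Pm w N) 1) (psi R w D y) := by
  rw [psi_apply, ← Xi_PsiQ, ← Xi_D13Q, D13Q_BQ]

/-- the `R`-submodule of invariants of `P` -/
noncomputable def invP : Submodule R (Pm w N) :=
  LinearMap.ker (psi R w D - TensorProduct.mk R S (Pm w N) 1)

theorem mem_invP (y : Pm w N) : y ∈ invP R w D ↔ psi R w D y = (1 : S) ⊗ₜ[R] y := by
  rw [invP, LinearMap.mem_ker, LinearMap.sub_apply, sub_eq_zero]
  rfl

theorem mem_invP_iff (y : Pm w N) : y ∈ invP R w D ↔ BQ R w D y = IQ R w N y := by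
  rw [mem_invP, psi_apply, ← th_IQ]
  exact ⟨fun h => th_injective R w h, fun h => congrArg _ h⟩

/-- **Classical effectivity** in coefficient form. -/
theorem bijective_mu [Module.Flat R S] : Function.Bijective (μAdd R (Pm w N) (invP R w D)) :=
  bijective_μAdd R (Pm w N) (invP R w D)
    (Groth.Agent.Lib.Seat58.DescAlg.coalg_descent (A := R) (A' := S) (M' := Pm w N) (psi R w D)
      (psi_smul R w D) (psi_counit R w D) (psi_coassoc R w D) (invP R w D) (mem_invP R w D))

/-- **Exactness in degree one** of the twisted Amitsur complex. -/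
theorem exists_d0_eq [Module.FaithfullyFlat R S] (c : C1 R w N) (hc : d1 R w D c = 0) :
    ∃ y : Pm w N, d0 R w D y = c := by
  let d : Pm w N →ₗ[R] S ⊗[R] (Pm w N) := TensorProduct.mk R S (Pm w N) 1 - psi R w D
  have hd : ∀ y, d y = (1 : S) ⊗ₜ[R] y - psi R w D y := fun y => rfl
  have hdl : ∀ z, d.lTensor S z = LinearMap.lTensor S (TensorProduct.mk R S (Pm w N) 1) z -
      LinearMap.lTensor S (psi R w D) z := by
    intro z
    rw [LinearMap.lTensor_sub, LinearMap.sub_apply]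
  have h0 : (TensorProduct.mk R S (S ⊗[R] (Pm w N)) 1 - d.lTensor S) ∘ₗ d = 0 := by
    apply LinearMap.ext
    intro y
    rw [LinearMap.comp_apply, LinearMap.sub_apply, LinearMap.zero_apply, hdl, hd, map_sub, map_sub,
      map_sub, psi_coassoc]
    simp only [TensorProduct.mk_apply, LinearMap.lTensor_tmul]
    abel
  have hex := Groth.Agent.Lib.Seat69.Amitsur.exact_step (R := R) (A := S) (Pm w N) d h0
  have key : Xi R w (d1 R w D c) = (1 : S) ⊗ₜ[R] th R w c -
      LinearMap.lTensor S (TensorProduct.mk R S (Pm w N) 1) (th R w c) +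
      LinearMap.lTensor S (psi R w D) (th R w c) := by
    rw [d1_apply, map_add, map_sub, Xi_D23Q, Xi_D13Q, Xi_PsiQ]
  rw [hc, map_zero] at key
  have h1 : (TensorProduct.mk R S (S ⊗[R] (Pm w N)) 1 - d.lTensor S) (th R w c) = 0 := by
    rw [LinearMap.sub_apply, hdl]
    show (1 : S) ⊗ₜ[R] th R w c - _ = 0
    rw [key]
    abel
  obtain ⟨y, hy⟩ := (hex _).mp h1
  refine ⟨-y, ?_⟩
  apply th_injective R w
  rw [← hy, hd, d0_apply]
  simp only [map_neg, map_sub, th_IQ]
  rw [← psi_apply]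
  abel

end Classical

end Groth.Agent.Lib.Seat79.WDesc
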