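import Groth.Agent.Lib.Seat79WDescGadget
import Groth.Agent.Lib.Seat78EffMain

/-!
# Seat79: descent data with coefficients

`RFun`: a functor from commutative rings to commutative rings (unbundled, elementary form);
`RNat`: natural ring homomorphisms; `ANat`: natural additive maps between coefficient systems
`(Q, τ : F ⟶ Q)`, semilinear over `F`.

For `R → S`, a functor `F`, an `F(S)`-module `N` with a descent datum `β : N → F(S ⊗ S) ⊗_{i₂} N`
(`DD`), and a coefficient system `(Q, τ)` we define the truncated complex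
`C⁰_Q = Q(S) ⊗ N → C¹_Q = Q(S ⊗ S) ⊗ N → C²_Q = Q(S ⊗ S ⊗ S) ⊗ N` (maps `IQ`, `BQ`, `D13Q`, `D23Q`, `PsiQ`),
prove `d¹ d⁰ = 0` and functoriality in `Q`.
-/

set_option autoImplicit false
set_option backward.isDefEq.respectTransparency false
set_option backward.isDefEq.respectTransparency.types false
set_option backward.defeqAttrib.useBackward true

open TensorProduct ChangeOfRings
open Groth.Agent.Lib.Seat78.EffAlg Groth.Agent.Lib.Seat78.EffMain

universe u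

namespace Groth.Agent.Lib.Seat79.WDesc

/-- A functor from commutative rings to commutative rings. -/
structure RFun where
  obj : (X : Type u) → [CommRing X] → Type u
  [ring : ∀ (X : Type u) [CommRing X], CommRing (obj X)]
  map : ∀ {X Y : Type u} [CommRing X] [CommRing Y], (X →+* Y) → (obj X →+* obj Y)
  map_id : ∀ (X : Type u) [CommRing X] (a : obj X), map (RingHom.id X) a = a
  map_comp : ∀ {X Y Z : Type u} [CommRing X] [CommRing Y] [CommRing Z] (f : X →+* Y) (g : Y →+* Z)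
    (a : obj X), map (g.comp f) a = map g (map f a)

attribute [instance] RFun.ring

namespace RFun

theorem map_map (F : RFun.{u}) {X Y Z : Type u} [CommRing X] [CommRing Y] [CommRing Z]
    (f : X →+* Y) (g : Y →+* Z) (h : X →+* Z) (hh : g.comp f = h) (a : F.obj X) :
    F.map g (F.map f a) = F.map h a := by
  subst hh
  exact (F.map_comp f g a).symm

/-- The identity functor. -/
@[reducible] def idF : RFun.{u} where
  obj X _ := X
  ring _ inst := inst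
  map f := f
  map_id _ _ _ := rfl
  map_comp _ _ _ := rfl

end RFun

/-- A natural transformation (by ring homomorphisms). -/
structure RNat (F G : RFun.{u}) where
  app : ∀ (X : Type u) [CommRing X], F.obj X →+* G.obj X
  nat : ∀ {X Y : Type u} [CommRing X] [CommRing Y] (f : X →+* Y) (a : F.obj X),
    app Y (F.map f a) = G.map f (app X a)

/-- The identity natural transformation. -/
def RNat.refl (F : RFun.{u}) : RNat F F where
  app _ _ := RingHom.id _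
  nat _ _ := rfl

/-- Composition of natural transformations. -/
def RNat.comp {F G H : RFun.{u}} (σ : RNat G H) (τ : RNat F G) : RNat F H where
  app X _ := (σ.app X).comp (τ.app X)
  nat f a := by
    show σ.app _ (τ.app _ (F.map f a)) = H.map f (σ.app _ (τ.app _ a))
    rw [τ.nat, σ.nat]

/-- A natural additive map between coefficient systems under `F`, semilinear over `F`. -/
structure ANat {F Q Q' : RFun.{u}} (τ : RNat F Q) (τ' : RNat F Q') where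
  app : ∀ (X : Type u) [CommRing X], Q.obj X →+ Q'.obj X
  nat : ∀ {X Y : Type u} [CommRing X] [CommRing Y] (f : X →+* Y) (q : Q.obj X),
    app Y (Q.map f q) = Q'.map f (app X q)
  lin : ∀ (X : Type u) [CommRing X] (a : F.obj X) (q : Q.obj X),
    app X (τ.app X a * q) = τ'.app X a * app X q

/-- A natural ring homomorphism `Q ⟶ Q'` compatible with the structure maps is an `ANat`. -/
def ANat.ofRNat {F Q Q' : RFun.{u}} (τ : RNat F Q) (τ' : RNat F Q') (T : RNat Q Q')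
    (hT : ∀ (X : Type u) [CommRing X] (a : F.obj X), T.app X (τ.app X a) = τ'.app X a) :
    ANat τ τ' where
  app X _ := (T.app X).toAddMonoidHom
  nat f q := T.nat f q
  lin X _ a q := by
    show T.app X (τ.app X a * q) = τ'.app X a * T.app X q
    rw [map_mul, hT]

section twE
variable {A B B' : Type u} [CommRing A] [CommRing B] [CommRing B']
  (φ : A →+* B) (N : ModuleCat.{u} A) (Z : ModuleCat.{u} B')

/-- `b ⊗ n ↦ η b • γ n`. -/
noncomputable def twE (η : B →+* B') (γ : N →+ Z) (hγ : ∀ (a : A) (n : N), γ (a • n) = η (φ a) • γ n) :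
    E φ N →+ Z :=
  liftE φ N (AddMonoidHom.mk' (fun b => AddMonoidHom.mk' (fun n => η b • γ n)
      (fun n n' => by rw [map_add, smul_add]))
      (fun b b' => by
        ext n
        show η (b + b') • γ n = η b • γ n + η b' • γ n
        rw [map_add, add_smul]))
    (fun a b n => by
      show η (φ a * b) • γ n = η b • γ (a • n)
      rw [hγ, map_mul, mul_comm, mul_smul])

@[simp] theorem twE_tmul (η : B →+* B') (γ : N →+ Z)
    (hγ : ∀ (a : A) (n : N), γ (a • n) = η (φ a) • γ n) (b : B) (n : N) :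
    twE φ N Z η γ hγ (b ⊗ₜ[A, φ] n) = η b • γ n :=
  liftE_tmul _ _ _ _ _ _

theorem twE_smul (η : B →+* B') (γ : N →+ Z)
    (hγ : ∀ (a : A) (n : N), γ (a • n) = η (φ a) • γ n) (b : B) (y : E φ N) :
    twE φ N Z η γ hγ (b • y) = η b • twE φ N Z η γ hγ y := by
  induction y using induction_E with
  | zero => rw [smul_zero, map_zero, smul_zero]
  | tmul b' n => rw [smul_tmul_E', twE_tmul, twE_tmul, map_mul, mul_smul]
  | add y y' hy hy' => rw [smul_add, map_add, map_add, hy, hy', smul_add]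

end twE

section DD
variable (R : Type u) {S : Type u} [CommRing R] [CommRing S] [Algebra R S] (F : RFun.{u})
  (N : ModuleCat.{u} (F.obj S))

/-! ### `F`-level maps -/

theorem hD13F (a : F.obj S) (b : F.obj (S ⊗[R] S)) :
    (F.map (g₁₃ R)).toAddMonoidHom (F.map (i₂ R) a * b) =
      F.map (j₃ R) a * (F.map (g₁₃ R)).toAddMonoidHom b := by
  show F.map (g₁₃ R) (F.map (i₂ R) a * b) = F.map (j₃ R) a * F.map (g₁₃ R) b
  rw [map_mul, F.map_map _ _ _ (rel_13_2 R S)]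

theorem hD23F (a : F.obj S) (b : F.obj (S ⊗[R] S)) :
    (F.map (g₂₃ R)).toAddMonoidHom (F.map (i₂ R) a * b) =
      F.map (j₃ R) a * (F.map (g₂₃ R)).toAddMonoidHom b := by
  show F.map (g₂₃ R) (F.map (i₂ R) a * b) = F.map (j₃ R) a * F.map (g₂₃ R) b
  rw [map_mul, F.map_map _ _ _ (rel_23_2 R S)]

theorem hDmF (a : F.obj S) (b : F.obj (S ⊗[R] S)) :
    (F.map (mS R)).toAddMonoidHom (F.map (i₂ R) a * b) =
      RingHom.id (F.obj S) a * (F.map (mS R)).toAddMonoidHom b := by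
  show F.map (mS R) (F.map (i₂ R) a * b) = a * F.map (mS R) b
  rw [map_mul, F.map_map _ _ _ (rel_m₂ R S), F.map_id]

/-- `F(S ⊗ S) ⊗_{i₂} N → F(S ⊗ S ⊗ S) ⊗_{j₃} N` along `g₁₃`. -/
noncomputable def D13F : E (F.map (i₂ R)) N →+ E (F.map (j₃ R)) N :=
  mapE _ _ N (F.map (g₁₃ R)).toAddMonoidHom (hD13F R F)

/-- `F(S ⊗ S) ⊗_{i₂} N → F(S ⊗ S ⊗ S) ⊗_{j₃} N` along `g₂₃`. -/
noncomputable def D23F : E (F.map (i₂ R)) N →+ E (F.map (j₃ R)) N :=
  mapE _ _ N (F.map (g₂₃ R)).toAddMonoidHom (hD23F R F)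

/-- `F(S ⊗ S) ⊗_{i₂} N → F(S) ⊗_{id} N` along the multiplication. -/
noncomputable def DmF : E (F.map (i₂ R)) N →+ E (RingHom.id (F.obj S)) N :=
  mapE _ _ N (F.map (mS R)).toAddMonoidHom (hDmF R F)

variable {N}

theorem hPsiF (β : N →+ E (F.map (i₂ R)) N)
    (hβ : ∀ (a : F.obj S) (x : N), β (a • x) = F.map (i₁ R) a • β x) (a : F.obj S) (x : N) :
    ((D23F R F N).comp β) (a • x) = F.map (g₁₂ R) (F.map (i₂ R) a) • ((D23F R F N).comp β) x := by
  show D23F R F N (β (a • x)) = F.map (g₁₂ R) (F.map (i₂ R) a) • D23F R F N (β x)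
  rw [hβ]
  refine (mapE_smul _ _ N (F.map (g₂₃ R)) (hD23F R F) _ _).trans ?_
  rw [F.map_map _ _ _ (rel_23_1 R S), F.map_map _ _ _ (rel_12_2 R S)]
  rfl

/-- `Ψ (t ⊗ x) = g₁₂(t) • D₂₃ (β x)`. -/
noncomputable def PsiF (β : N →+ E (F.map (i₂ R)) N)
    (hβ : ∀ (a : F.obj S) (x : N), β (a • x) = F.map (i₁ R) a • β x) :
    E (F.map (i₂ R)) N →+ E (F.map (j₃ R)) N :=
  twE _ N _ (F.map (g₁₂ R)) ((D23F R F N).comp β) (hPsiF R F β hβ)

variable (N)

/-- A descent datum on the `F(S)`-module `N` relative to `R → S`, in coaction form. -/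
structure DD where
  β : N →+ E (F.map (i₂ R)) N
  β_smul : ∀ (a : F.obj S) (x : N), β (a • x) = F.map (i₁ R) a • β x
  unit : ∀ x : N, DmF R F N (β x) = (1 : F.obj S) ⊗ₜ[F.obj S, RingHom.id (F.obj S)] x
  cocycle : ∀ x : N, D13F R F N (β x) = PsiF R F β β_smul (β x)

end DD

section QLevel
variable (R : Type u) {S : Type u} [CommRing R] [CommRing S] [Algebra R S] {F : RFun.{u}}
  {Q : RFun.{u}} (τ : RNat F Q) (N : ModuleCat.{u} (F.obj S))

/-- structure map of `C⁰_Q` -/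
noncomputable abbrev φ0 : F.obj S →+* Q.obj S := τ.app S
/-- structure map of `C¹_Q` -/
noncomputable abbrev φ1 : F.obj S →+* Q.obj (S ⊗[R] S) := (τ.app (S ⊗[R] S)).comp (F.map (i₂ R))
/-- structure map of `C²_Q` -/
noncomputable abbrev φ2 : F.obj S →+* Q.obj (S ⊗[R] (S ⊗[R] S)) :=
  (τ.app (S ⊗[R] (S ⊗[R] S))).comp (F.map (j₃ R))

/-- `C⁰_Q = Q(S) ⊗_{F(S)} N` -/
noncomputable abbrev C0 : ModuleCat.{u} (Q.obj S) := E (φ0 τ) N
/-- `C¹_Q = Q(S ⊗ S) ⊗_{F(S), i₂} N` -/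
noncomputable abbrev C1 : ModuleCat.{u} (Q.obj (S ⊗[R] S)) := E (φ1 R τ) N
/-- `C²_Q = Q(S ⊗ S ⊗ S) ⊗_{F(S), j₃} N` -/
noncomputable abbrev C2 : ModuleCat.{u} (Q.obj (S ⊗[R] (S ⊗[R] S))) := E (φ2 R τ) N

theorem nat' {X Y : Type u} [CommRing X] [CommRing Y] (f : X →+* Y) (a : F.obj X) :
    Q.map f (τ.app X a) = τ.app Y (F.map f a) := (τ.nat f a).symm

theorem hIQ (a : F.obj S) (q : Q.obj S) :
    (Q.map (i₂ R)).toAddMonoidHom (φ0 τ a * q) = φ1 R τ a * (Q.map (i₂ R)).toAddMonoidHom q := by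
  show Q.map (i₂ R) (τ.app S a * q) = τ.app _ (F.map (i₂ R) a) * Q.map (i₂ R) q
  rw [map_mul, nat']

/-- `q ⊗ x ↦ i₂(q) ⊗ x`. -/
noncomputable def IQ : C0 τ N →+ C1 R τ N :=
  mapE _ _ N (Q.map (i₂ R)).toAddMonoidHom (hIQ R τ)

theorem hbc0 (a : F.obj S) (t : F.obj S) :
    (τ.app S).toAddMonoidHom (RingHom.id (F.obj S) a * t) = φ0 τ a * (τ.app S).toAddMonoidHom t := by
  show τ.app S (a * t) = τ.app S a * τ.app S t
  rw [map_mul]

theorem hbc1 (a : F.obj S) (t : F.obj (S ⊗[R] S)) :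
    (τ.app (S ⊗[R] S)).toAddMonoidHom (F.map (i₂ R) a * t) =
      φ1 R τ a * (τ.app (S ⊗[R] S)).toAddMonoidHom t := by
  show τ.app _ (F.map (i₂ R) a * t) = τ.app _ (F.map (i₂ R) a) * τ.app _ t
  rw [map_mul]

theorem hbc2 (a : F.obj S) (t : F.obj (S ⊗[R] (S ⊗[R] S))) :
    (τ.app (S ⊗[R] (S ⊗[R] S))).toAddMonoidHom (F.map (j₃ R) a * t) =
      φ2 R τ a * (τ.app (S ⊗[R] (S ⊗[R] S))).toAddMonoidHom t := by
  show τ.app _ (F.map (j₃ R) a * t) = τ.app _ (F.map (j₃ R) a) * τ.app _ t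
  rw [map_mul]

/-- base change `F(S) ⊗_{id} N → C⁰_Q` -/
noncomputable def bc0 : E (RingHom.id (F.obj S)) N →+ C0 τ N :=
  mapE _ _ N (τ.app S).toAddMonoidHom (hbc0 τ)
/-- base change `F(S ⊗ S) ⊗ N → C¹_Q` -/
noncomputable def bc1 : E (F.map (i₂ R)) N →+ C1 R τ N :=
  mapE _ _ N (τ.app (S ⊗[R] S)).toAddMonoidHom (hbc1 R τ)
/-- base change `F(S ⊗ S ⊗ S) ⊗ N → C²_Q` -/
noncomputable def bc2 : E (F.map (j₃ R)) N →+ C2 R τ N :=
  mapE _ _ N (τ.app (S ⊗[R] (S ⊗[R] S))).toAddMonoidHom (hbc2 R τ)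

theorem bc1_smul (t : F.obj (S ⊗[R] S)) (z : E (F.map (i₂ R)) N) :
    bc1 R τ N (t • z) = τ.app _ t • bc1 R τ N z :=
  mapE_smul _ _ N (τ.app (S ⊗[R] S)) (hbc1 R τ) t z

theorem bc2_smul (t : F.obj (S ⊗[R] (S ⊗[R] S))) (z : E (F.map (j₃ R)) N) :
    bc2 R τ N (t • z) = τ.app _ t • bc2 R τ N z :=
  mapE_smul _ _ N (τ.app (S ⊗[R] (S ⊗[R] S))) (hbc2 R τ) t z

theorem hD13Q (a : F.obj S) (q : Q.obj (S ⊗[R] S)) :
    (Q.map (g₁₃ R)).toAddMonoidHom (φ1 R τ a * q) = φ2 R τ a * (Q.map (g₁₃ R)).toAddMonoidHom q := by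
  show Q.map (g₁₃ R) (τ.app _ (F.map (i₂ R) a) * q) = τ.app _ (F.map (j₃ R) a) * Q.map (g₁₃ R) q
  rw [map_mul, nat', F.map_map _ _ _ (rel_13_2 R S)]

theorem hD23Q (a : F.obj S) (q : Q.obj (S ⊗[R] S)) :
    (Q.map (g₂₃ R)).toAddMonoidHom (φ1 R τ a * q) = φ2 R τ a * (Q.map (g₂₃ R)).toAddMonoidHom q := by
  show Q.map (g₂₃ R) (τ.app _ (F.map (i₂ R) a) * q) = τ.app _ (F.map (j₃ R) a) * Q.map (g₂₃ R) q
  rw [map_mul, nat', F.map_map _ _ _ (rel_23_2 R S)]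

theorem hDmQ (a : F.obj S) (q : Q.obj (S ⊗[R] S)) :
    (Q.map (mS R)).toAddMonoidHom (φ1 R τ a * q) = φ0 τ a * (Q.map (mS R)).toAddMonoidHom q := by
  show Q.map (mS R) (τ.app _ (F.map (i₂ R) a) * q) = τ.app _ a * Q.map (mS R) q
  rw [map_mul, nat', F.map_map _ _ _ (rel_m₂ R S), F.map_id]

/-- `C¹_Q → C²_Q` along `g₁₃`. -/
noncomputable def D13Q : C1 R τ N →+ C2 R τ N :=
  mapE _ _ N (Q.map (g₁₃ R)).toAddMonoidHom (hD13Q R τ)
/-- `C¹_Q → C²_Q` along `g₂₃`. -/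
noncomputable def D23Q : C1 R τ N →+ C2 R τ N :=
  mapE _ _ N (Q.map (g₂₃ R)).toAddMonoidHom (hD23Q R τ)
/-- `C¹_Q → C⁰_Q` along the multiplication. -/
noncomputable def DmQ : C1 R τ N →+ C0 τ N :=
  mapE _ _ N (Q.map (mS R)).toAddMonoidHom (hDmQ R τ)

variable {N} (D : DD R F N)

theorem hBQ (a : F.obj S) (x : N) :
    ((bc1 R τ N).comp D.β) (a • x) = Q.map (i₁ R) (φ0 τ a) • ((bc1 R τ N).comp D.β) x := by
  show bc1 R τ N (D.β (a • x)) = Q.map (i₁ R) (τ.app S a) • bc1 R τ N (D.β x)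
  rw [D.β_smul, bc1_smul, nat']

/-- `q ⊗ x ↦ i₁(q) • β x`. -/
noncomputable def BQ : C0 τ N →+ C1 R τ N :=
  twE _ N _ (Q.map (i₁ R)) ((bc1 R τ N).comp D.β) (hBQ R τ D)

theorem hPsiQ (a : F.obj S) (x : N) :
    ((bc2 R τ N).comp ((D23F R F N).comp D.β)) (a • x) =
      Q.map (g₁₂ R) (φ1 R τ a) • ((bc2 R τ N).comp ((D23F R F N).comp D.β)) x := by
  show bc2 R τ N (((D23F R F N).comp D.β) (a • x)) =
    Q.map (g₁₂ R) (τ.app _ (F.map (i₂ R) a)) • bc2 R τ N (((D23F R F N).comp D.β) x)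
  rw [hPsiF R F D.β D.β_smul, bc2_smul, nat']

/-- `q ⊗ x ↦ g₁₂(q) • D₂₃ (β x)`. -/
noncomputable def PsiQ : C1 R τ N →+ C2 R τ N :=
  twE _ N _ (Q.map (g₁₂ R)) ((bc2 R τ N).comp ((D23F R F N).comp D.β)) (hPsiQ R τ D)

theorem IQ_tmul (q : Q.obj S) (x : N) :
    IQ R τ N (q ⊗ₜ[F.obj S, φ0 τ] x) = (Q.map (i₂ R) q) ⊗ₜ[F.obj S, φ1 R τ] x :=
  mapE_tmul _ _ _ _ _ _ _

theorem BQ_tmul (q : Q.obj S) (x : N) :
    BQ R τ D (q ⊗ₜ[F.obj S, φ0 τ] x) = Q.map (i₁ R) q • bc1 R τ N (D.β x) :=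
  twE_tmul _ _ _ _ _ _ _ _

theorem PsiQ_tmul (q : Q.obj (S ⊗[R] S)) (x : N) :
    PsiQ R τ D (q ⊗ₜ[F.obj S, φ1 R τ] x) = Q.map (g₁₂ R) q • bc2 R τ N (D23F R F N (D.β x)) :=
  twE_tmul _ _ _ _ _ _ _ _

theorem BQ_smul (q : Q.obj S) (y : C0 τ N) : BQ R τ D (q • y) = Q.map (i₁ R) q • BQ R τ D y :=
  twE_smul _ _ _ _ _ _ _ _

theorem IQ_smul (q : Q.obj S) (y : C0 τ N) : IQ R τ N (q • y) = Q.map (i₂ R) q • IQ R τ N y :=
  mapE_smul _ _ N (Q.map (i₂ R)) (hIQ R τ) q y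

theorem PsiQ_smul (q : Q.obj (S ⊗[R] S)) (c : C1 R τ N) :
    PsiQ R τ D (q • c) = Q.map (g₁₂ R) q • PsiQ R τ D c :=
  twE_smul _ _ _ _ _ _ _ _

theorem D13Q_smul (q : Q.obj (S ⊗[R] S)) (c : C1 R τ N) :
    D13Q R τ N (q • c) = Q.map (g₁₃ R) q • D13Q R τ N c :=
  mapE_smul _ _ N (Q.map (g₁₃ R)) (hD13Q R τ) q c

theorem D23Q_smul (q : Q.obj (S ⊗[R] S)) (c : C1 R τ N) :
    D23Q R τ N (q • c) = Q.map (g₂₃ R) q • D23Q R τ N c :=
  mapE_smul _ _ N (Q.map (g₂₃ R)) (hD23Q R τ) q c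

theorem DmQ_smul (q : Q.obj (S ⊗[R] S)) (c : C1 R τ N) :
    DmQ R τ N (q • c) = Q.map (mS R) q • DmQ R τ N c :=
  mapE_smul _ _ N (Q.map (mS R)) (hDmQ R τ) q c

/-! ### compatibilities of base change with the `F`-level maps -/

theorem D13Q_bc1 (z : E (F.map (i₂ R)) N) : D13Q R τ N (bc1 R τ N z) = bc2 R τ N (D13F R F N z) := by
  induction z using induction_E with
  | zero => simp only [map_zero]
  | tmul t x =>
    simp only [D13Q, bc1, bc2, D13F, mapE_tmul]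
    show (Q.map (g₁₃ R) (τ.app _ t)) ⊗ₜ[F.obj S, φ2 R τ] x = (τ.app _ (F.map (g₁₃ R) t)) ⊗ₜ[F.obj S, φ2 R τ] x
    rw [nat']
  | add y y' hy hy' => simp only [map_add, hy, hy']

theorem D23Q_bc1 (z : E (F.map (i₂ R)) N) : D23Q R τ N (bc1 R τ N z) = bc2 R τ N (D23F R F N z) := by
  induction z using induction_E with
  | zero => simp only [map_zero]
  | tmul t x =>
    simp only [D23Q, bc1, bc2, D23F, mapE_tmul]
    show (Q.map (g₂₃ R) (τ.app _ t)) ⊗ₜ[F.obj S, φ2 R τ] x = (τ.app _ (F.map (g₂₃ R) t)) ⊗ₜ[F.obj S, φ2 R τ] x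
    rw [nat']
  | add y y' hy hy' => simp only [map_add, hy, hy']

theorem DmQ_bc1 (z : E (F.map (i₂ R)) N) : DmQ R τ N (bc1 R τ N z) = bc0 τ N (DmF R F N z) := by
  induction z using induction_E with
  | zero => simp only [map_zero]
  | tmul t x =>
    simp only [DmQ, bc1, bc0, DmF, mapE_tmul]
    show (Q.map (mS R) (τ.app _ t)) ⊗ₜ[F.obj S, φ0 τ] x = (τ.app _ (F.map (mS R) t)) ⊗ₜ[F.obj S, φ0 τ] x
    rw [nat']
  | add y y' hy hy' => simp only [map_add, hy, hy']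

theorem PsiQ_bc1 (z : E (F.map (i₂ R)) N) :
    PsiQ R τ D (bc1 R τ N z) = bc2 R τ N (PsiF R F D.β D.β_smul z) := by
  induction z using induction_E with
  | zero => simp only [map_zero]
  | tmul t x =>
    have h1 : bc1 R τ N (t ⊗ₜ[F.obj S, F.map (i₂ R)] x) = (τ.app _ t) ⊗ₜ[F.obj S, φ1 R τ] x :=
      mapE_tmul _ _ _ _ _ _ _
    have h2 : PsiF R F D.β D.β_smul (t ⊗ₜ[F.obj S, F.map (i₂ R)] x) =
        F.map (g₁₂ R) t • D23F R F N (D.β x) := twE_tmul _ _ _ _ _ _ _ _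
    rw [h1, h2, PsiQ_tmul, bc2_smul, nat']
  | add y y' hy hy' => simp only [map_add, hy, hy']

/-! ### the identities of the complex -/

theorem DmQ_BQ (y : C0 τ N) : DmQ R τ N (BQ R τ D y) = y := by
  induction y using induction_E with
  | zero => simp only [map_zero]
  | tmul q x =>
    rw [BQ_tmul, DmQ_smul, DmQ_bc1, D.unit, Q.map_map _ _ _ (rel_m₁ R S), Q.map_id]
    have : bc0 τ N ((1 : F.obj S) ⊗ₜ[F.obj S, RingHom.id (F.obj S)] x) =
        (τ.app S 1) ⊗ₜ[F.obj S, φ0 τ] x := mapE_tmul _ _ _ _ _ _ _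
    rw [this, map_one, ← tmul_eq_smul_one]
  | add y y' hy hy' => simp only [map_add, hy, hy']

theorem D13Q_IQ (y : C0 τ N) : D13Q R τ N (IQ R τ N y) = D23Q R τ N (IQ R τ N y) := by
  induction y using induction_E with
  | zero => simp only [map_zero]
  | tmul q x =>
    rw [IQ_tmul]
    show (Q.map (g₁₃ R) (Q.map (i₂ R) q)) ⊗ₜ[F.obj S, φ2 R τ] x =
      (Q.map (g₂₃ R) (Q.map (i₂ R) q)) ⊗ₜ[F.obj S, φ2 R τ] x
    rw [Q.map_map _ _ _ (rel_13_2 R S), Q.map_map _ _ _ (rel_23_2 R S)]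
  | add y y' hy hy' => simp only [map_add, hy, hy']

theorem D23Q_BQ (y : C0 τ N) : D23Q R τ N (BQ R τ D y) = PsiQ R τ D (IQ R τ N y) := by
  induction y using induction_E with
  | zero => simp only [map_zero]
  | tmul q x =>
    rw [BQ_tmul, D23Q_smul, D23Q_bc1, IQ_tmul, PsiQ_tmul, Q.map_map _ _ _ (rel_23_1 R S),
      Q.map_map _ _ _ (rel_12_2 R S)]
  | add y y' hy hy' => simp only [map_add, hy, hy']

theorem D13Q_BQ (y : C0 τ N) : D13Q R τ N (BQ R τ D y) = PsiQ R τ D (BQ R τ D y) := by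
  induction y using induction_E with
  | zero => simp only [map_zero]
  | tmul q x =>
    rw [BQ_tmul, D13Q_smul, D13Q_bc1, PsiQ_smul, PsiQ_bc1, D.cocycle,
      Q.map_map _ _ _ (rel_13_1 R S), Q.map_map _ _ _ (rel_12_1 R S)]
  | add y y' hy hy' => simp only [map_add, hy, hy']

/-- the differential `d⁰ = B - I` -/
noncomputable def d0 : C0 τ N →+ C1 R τ N := BQ R τ D - IQ R τ N
/-- the differential `d¹ = D₂₃ - D₁₃ + Ψ` -/
noncomputable def d1 : C1 R τ N →+ C2 R τ N := D23Q R τ N - D13Q R τ N + PsiQ R τ D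

theorem d0_apply (y : C0 τ N) : d0 R τ D y = BQ R τ D y - IQ R τ N y := rfl
theorem d1_apply (c : C1 R τ N) : d1 R τ D c = D23Q R τ N c - D13Q R τ N c + PsiQ R τ D c := rfl

theorem d1_d0 (y : C0 τ N) : d1 R τ D (d0 R τ D y) = 0 := by
  rw [d0_apply, d1_apply, map_sub, map_sub, map_sub, D23Q_BQ, D13Q_BQ, D13Q_IQ]
  abel

end QLevel

section Functorial
variable (R : Type u) {S : Type u} [CommRing R] [CommRing S] [Algebra R S] {F : RFun.{u}}
  {Q Q' : RFun.{u}} {τ : RNat F Q} {τ' : RNat F Q'} (η : ANat τ τ') (N : ModuleCat.{u} (F.obj S))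

/-- the map `C⁰_Q → C⁰_{Q'}` induced by `η` -/
noncomputable def e0 : C0 τ N →+ C0 τ' N := mapE _ _ N (η.app S) (η.lin S)
/-- the map `C¹_Q → C¹_{Q'}` induced by `η` -/
noncomputable def e1 : C1 R τ N →+ C1 R τ' N :=
  mapE _ _ N (η.app (S ⊗[R] S)) (fun a q => η.lin _ (F.map (i₂ R) a) q)
/-- the map `C²_Q → C²_{Q'}` induced by `η` -/
noncomputable def e2 : C2 R τ N →+ C2 R τ' N :=
  mapE _ _ N (η.app (S ⊗[R] (S ⊗[R] S))) (fun a q => η.lin _ (F.map (j₃ R) a) q)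

theorem e0_tmul (q : Q.obj S) (x : N) :
    e0 η N (q ⊗ₜ[F.obj S, φ0 τ] x) = (η.app S q) ⊗ₜ[F.obj S, φ0 τ'] x := mapE_tmul _ _ _ _ _ _ _
theorem e1_tmul (q : Q.obj (S ⊗[R] S)) (x : N) :
    e1 R η N (q ⊗ₜ[F.obj S, φ1 R τ] x) = (η.app _ q) ⊗ₜ[F.obj S, φ1 R τ'] x := mapE_tmul _ _ _ _ _ _ _
theorem e2_tmul (q : Q.obj (S ⊗[R] (S ⊗[R] S))) (x : N) :
    e2 R η N (q ⊗ₜ[F.obj S, φ2 R τ] x) = (η.app _ q) ⊗ₜ[F.obj S, φ2 R τ'] x := mapE_tmul _ _ _ _ _ _ _

theorem e1_IQ (y : C0 τ N) : e1 R η N (IQ R τ N y) = IQ R τ' N (e0 η N y) := by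
  induction y using induction_E with
  | zero => simp only [map_zero]
  | tmul q x => rw [IQ_tmul, e1_tmul, e0_tmul, IQ_tmul, η.nat]
  | add y y' hy hy' => simp only [map_add, hy, hy']

theorem e1_smul_bc1 (q : Q.obj (S ⊗[R] S)) (z : E (F.map (i₂ R)) N) :
    e1 R η N (q • bc1 R τ N z) = η.app _ q • bc1 R τ' N z := by
  induction z using induction_E with
  | zero => simp only [map_zero, smul_zero]
  | tmul t x =>
    have h1 : bc1 R τ N (t ⊗ₜ[F.obj S, F.map (i₂ R)] x) = (τ.app _ t) ⊗ₜ[F.obj S, φ1 R τ] x :=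
      mapE_tmul _ _ _ _ _ _ _
    have h2 : bc1 R τ' N (t ⊗ₜ[F.obj S, F.map (i₂ R)] x) = (τ'.app _ t) ⊗ₜ[F.obj S, φ1 R τ'] x :=
      mapE_tmul _ _ _ _ _ _ _
    rw [h1, h2, smul_tmul_E', smul_tmul_E', e1_tmul, mul_comm, η.lin, mul_comm]
  | add y y' hy hy' => simp only [map_add, smul_add, hy, hy']

theorem e2_smul_bc2 (q : Q.obj (S ⊗[R] (S ⊗[R] S))) (z : E (F.map (j₃ R)) N) :
    e2 R η N (q • bc2 R τ N z) = η.app _ q • bc2 R τ' N z := by
  induction z using induction_E with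
  | zero => simp only [map_zero, smul_zero]
  | tmul t x =>
    have h1 : bc2 R τ N (t ⊗ₜ[F.obj S, F.map (j₃ R)] x) = (τ.app _ t) ⊗ₜ[F.obj S, φ2 R τ] x :=
      mapE_tmul _ _ _ _ _ _ _
    have h2 : bc2 R τ' N (t ⊗ₜ[F.obj S, F.map (j₃ R)] x) = (τ'.app _ t) ⊗ₜ[F.obj S, φ2 R τ'] x :=
      mapE_tmul _ _ _ _ _ _ _
    rw [h1, h2, smul_tmul_E', smul_tmul_E', e2_tmul, mul_comm, η.lin, mul_comm]
  | add y y' hy hy' => simp only [map_add, smul_add, hy, hy']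

variable {N} (D : DD R F N)

theorem e1_BQ (y : C0 τ N) : e1 R η N (BQ R τ D y) = BQ R τ' D (e0 η N y) := by
  induction y using induction_E with
  | zero => simp only [map_zero]
  | tmul q x => rw [BQ_tmul, e1_smul_bc1, e0_tmul, BQ_tmul, η.nat]
  | add y y' hy hy' => simp only [map_add, hy, hy']

theorem e2_D13Q (c : C1 R τ N) : e2 R η N (D13Q R τ N c) = D13Q R τ' N (e1 R η N c) := by
  induction c using induction_E with
  | zero => simp only [map_zero]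
  | tmul q x =>
    rw [e1_tmul]
    simp only [D13Q, mapE_tmul]
    show e2 R η N ((Q.map (g₁₃ R) q) ⊗ₜ[F.obj S, φ2 R τ] x) =
      (Q'.map (g₁₃ R) (η.app _ q)) ⊗ₜ[F.obj S, φ2 R τ'] x
    rw [e2_tmul, η.nat]
  | add y y' hy hy' => simp only [map_add, hy, hy']

theorem e2_D23Q (c : C1 R τ N) : e2 R η N (D23Q R τ N c) = D23Q R τ' N (e1 R η N c) := by
  induction c using induction_E with
  | zero => simp only [map_zero]
  | tmul q x =>
    rw [e1_tmul]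
    simp only [D23Q, mapE_tmul]
    show e2 R η N ((Q.map (g₂₃ R) q) ⊗ₜ[F.obj S, φ2 R τ] x) =
      (Q'.map (g₂₃ R) (η.app _ q)) ⊗ₜ[F.obj S, φ2 R τ'] x
    rw [e2_tmul, η.nat]
  | add y y' hy hy' => simp only [map_add, hy, hy']

theorem e2_PsiQ (c : C1 R τ N) : e2 R η N (PsiQ R τ D c) = PsiQ R τ' D (e1 R η N c) := by
  induction c using induction_E with
  | zero => simp only [map_zero]
  | tmul q x => rw [PsiQ_tmul, e2_smul_bc2, e1_tmul, PsiQ_tmul, η.nat]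
  | add y y' hy hy' => simp only [map_add, hy, hy']

theorem e1_d0 (y : C0 τ N) : e1 R η N (d0 R τ D y) = d0 R τ' D (e0 η N y) := by
  rw [d0_apply, d0_apply, map_sub, e1_BQ, e1_IQ]

theorem e2_d1 (c : C1 R τ N) : e2 R η N (d1 R τ D c) = d1 R τ' D (e1 R η N c) := by
  rw [d1_apply, d1_apply, map_add, map_sub, e2_D23Q, e2_D13Q, e2_PsiQ]

end Functorial

end Groth.Agent.Lib.Seat79.WDesc
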