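import Groth.Agent.Lib.Seat78EffAlg
import Mathlib.LinearAlgebra.TensorProduct.RightExactness
import Mathlib.RingTheory.Flat.Basic

/-!
# Seat79: additive maps between extensions of scalars (`mapE`) and their exactness properties

For ring homs `φ : A → B`, `φ' : A → B'` and an additive map `η : B → B'` with
`η (φ a * b) = φ' a * η b`, `mapE` is the additive map `B ⊗_A N → B' ⊗_A N`, `b ⊗ n ↦ η b ⊗ n`
(in `ModuleCat.extendScalars` coordinates).  We prove functoriality, right exactness and (for flat `N`)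
injectivity.
-/

set_option autoImplicit false
set_option backward.isDefEq.respectTransparency false
set_option backward.isDefEq.respectTransparency.types false
set_option backward.defeqAttrib.useBackward true

open TensorProduct ChangeOfRings
open Groth.Agent.Lib.Seat78.EffAlg

universe u

namespace Groth.Agent.Lib.Seat79.WDesc

section mapE
variable {A B B' B'' : Type u} [CommRing A] [CommRing B] [CommRing B'] [CommRing B'']
  (φ : A →+* B) (φ' : A →+* B') (φ'' : A →+* B'') (N : ModuleCat.{u} A)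

/-- The extension of scalars of `N` along `φ`. -/
noncomputable abbrev E : ModuleCat.{u} B := (ModuleCat.extendScalars φ).obj N

theorem tmul_add_E (b : B) (n n' : N) :
    (b ⊗ₜ[A, φ] (n + n') : E φ N) = b ⊗ₜ[A, φ] n + b ⊗ₜ[A, φ] n' := by
  let _ : Module A B := Module.compHom B φ
  exact TensorProduct.tmul_add _ _ _

theorem add_tmul_E (b b' : B) (n : N) :
    ((b + b') ⊗ₜ[A, φ] n : E φ N) = b ⊗ₜ[A, φ] n + b' ⊗ₜ[A, φ] n := by
  let _ : Module A B := Module.compHom B φ
  exact TensorProduct.add_tmul _ _ _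

theorem zero_tmul_E (n : N) : ((0 : B) ⊗ₜ[A, φ] n : E φ N) = 0 := by
  let _ : Module A B := Module.compHom B φ
  exact TensorProduct.zero_tmul _ _

theorem tmul_zero_E (b : B) : (b ⊗ₜ[A, φ] (0 : N) : E φ N) = 0 := by
  let _ : Module A B := Module.compHom B φ
  exact TensorProduct.tmul_zero _ _

theorem smul_tmul_E' (b b' : B) (n : N) :
    b • (b' ⊗ₜ[A, φ] n : E φ N) = (b * b') ⊗ₜ[A, φ] n :=
  ModuleCat.ExtendScalars.smul_tmul φ b b' n

theorem tmul_eq_smul_one (b : B) (n : N) :
    (b ⊗ₜ[A, φ] n : E φ N) = b • ((1 : B) ⊗ₜ[A, φ] n : E φ N) := by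
  rw [smul_tmul_E', mul_one]

/-- The bi-additive map underlying `mapE`. -/
noncomputable def fmapE (η : B →+ B') : B →+ N →+ E φ' N :=
  AddMonoidHom.mk' (fun b => AddMonoidHom.mk' (fun n => (η b) ⊗ₜ[A, φ'] n)
    (fun n n' => tmul_add_E φ' N _ n n'))
    (fun b b' => by
      ext n
      show (η (b + b')) ⊗ₜ[A, φ'] n = (η b) ⊗ₜ[A, φ'] n + (η b') ⊗ₜ[A, φ'] n
      rw [map_add, add_tmul_E])

/-- `b ⊗ n ↦ η b ⊗ n`. -/
noncomputable def mapE (η : B →+ B') (hη : ∀ a b, η (φ a * b) = φ' a * η b) : E φ N →+ E φ' N :=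
  liftE φ N (fmapE φ' N η) (fun a b n => by
    show (η (φ a * b)) ⊗ₜ[A, φ'] n = (η b) ⊗ₜ[A, φ'] (a • n)
    rw [hη, smul_tmul_E])

@[simp] theorem mapE_tmul (η : B →+ B') (hη : ∀ a b, η (φ a * b) = φ' a * η b) (b : B) (n : N) :
    mapE φ φ' N η hη (b ⊗ₜ[A, φ] n) = (η b) ⊗ₜ[A, φ'] n :=
  liftE_tmul _ _ _ _ _ _

theorem addHom_ext_E {P : Type*} [AddCommGroup P] {f g : E φ N →+ P}
    (h : ∀ (b : B) (n : N), f (b ⊗ₜ[A, φ] n) = g (b ⊗ₜ[A, φ] n)) : f = g := by
  ext y
  induction y using induction_E with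
  | zero => rw [map_zero, map_zero]
  | tmul b n => exact h b n
  | add y y' hy hy' => rw [map_add, map_add, hy, hy']

theorem mapE_comp (η : B →+ B') (hη : ∀ a b, η (φ a * b) = φ' a * η b)
    (η' : B' →+ B'') (hη' : ∀ a b, η' (φ' a * b) = φ'' a * η' b)
    (hc : ∀ a b, (η'.comp η) (φ a * b) = φ'' a * (η'.comp η) b) (y : E φ N) :
    mapE φ' φ'' N η' hη' (mapE φ φ' N η hη y) = mapE φ φ'' N (η'.comp η) hc y := by
  induction y using induction_E with
  | zero => rw [map_zero, map_zero, map_zero]
  | tmul b n => rw [mapE_tmul, mapE_tmul, mapE_tmul]; rfl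
  | add y y' hy hy' => rw [map_add, map_add, map_add, hy, hy']

theorem mapE_congr (η η' : B →+ B') (hη : ∀ a b, η (φ a * b) = φ' a * η b)
    (hη' : ∀ a b, η' (φ a * b) = φ' a * η' b) (h : ∀ b, η b = η' b) (y : E φ N) :
    mapE φ φ' N η hη y = mapE φ φ' N η' hη' y := by
  have : η = η' := AddMonoidHom.ext h
  subst this
  rfl

/-- For a ring hom `η`, `mapE η` is `η`-semilinear. -/
theorem mapE_smul (η : B →+* B') (hη : ∀ a b, η (φ a * b) = φ' a * η b) (b : B) (y : E φ N) :
    mapE φ φ' N η.toAddMonoidHom hη (b • y) = η b • mapE φ φ' N η.toAddMonoidHom hη y := by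
  induction y using induction_E with
  | zero => rw [smul_zero, map_zero, smul_zero]
  | tmul b' n =>
    rw [smul_tmul_E', mapE_tmul, mapE_tmul, smul_tmul_E']
    show (η (b * b')) ⊗ₜ[A, φ'] n = _
    rw [map_mul]
    rfl
  | add y y' hy hy' => rw [smul_add, map_add, map_add, hy, hy', smul_add]

/-- General semilinearity: `mapE η (c • y) = c' • mapE η y` as soon as `η (c * b) = c' * η b`. -/
theorem mapE_smul_of (η : B →+ B') (hη : ∀ a b, η (φ a * b) = φ' a * η b) (c : B) (c' : B')
    (hc : ∀ b, η (c * b) = c' * η b) (y : E φ N) :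
    mapE φ φ' N η hη (c • y) = c' • mapE φ φ' N η hη y := by
  induction y using induction_E with
  | zero => rw [smul_zero, map_zero, smul_zero]
  | tmul b' n => rw [smul_tmul_E', mapE_tmul, mapE_tmul, smul_tmul_E', hc]
  | add y y' hy hy' => rw [smul_add, map_add, map_add, hy, hy', smul_add]

theorem mapE_surjective (η : B →+ B') (hη : ∀ a b, η (φ a * b) = φ' a * η b)
    (hs : Function.Surjective η) : Function.Surjective (mapE φ φ' N η hη) := by
  intro y
  induction y using induction_E with
  | zero => exact ⟨0, map_zero _⟩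
  | tmul b n =>
    obtain ⟨b₀, rfl⟩ := hs b
    exact ⟨b₀ ⊗ₜ[A, φ] n, mapE_tmul _ _ _ _ _ _ _⟩
  | add y y' hy hy' =>
    obtain ⟨z, rfl⟩ := hy
    obtain ⟨z', rfl⟩ := hy'
    exact ⟨z + z', map_add _ _ _⟩

end mapE

section exact
variable {A B Q Qb : Type u} [CommRing A] [CommRing B] [CommRing Q] [CommRing Qb]
  (φB : A →+* B) (φQ : A →+* Q) (φQb : A →+* Qb) (N : ModuleCat.{u} A)
  (v : B →+ Q) (hv : ∀ a b, v (φB a * b) = φQ a * v b)
  (T : Q →+ Qb) (hT : ∀ a b, T (φQ a * b) = φQb a * T b)

/-- Right exactness: if `B → Q → Qb → 0` is exact then so is `B ⊗ N → Q ⊗ N → Qb ⊗ N`. -/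
theorem mapE_exact (hTs : Function.Surjective T) (hex : ∀ q, T q = 0 → ∃ b, v b = q)
    (hTv : ∀ b, T (v b) = 0)
    (y : E φQ N) (hy : mapE φQ φQb N T hT y = 0) : ∃ z : E φB N, mapE φB φQ N v hv z = y := by
  let _ : Module A B := Module.compHom B φB
  let _ : Module A Q := Module.compHom Q φQ
  let _ : Module A Qb := Module.compHom Qb φQb
  let vl : B →ₗ[A] Q :=
    { toFun := v, map_add' := map_add v, map_smul' := fun a b => hv a b }
  let Tl : Q →ₗ[A] Qb :=
    { toFun := T, map_add' := map_add T, map_smul' := fun a b => hT a b }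
  have hexact : Function.Exact vl Tl := by
    intro q
    constructor
    · intro hq
      exact hex q hq
    · rintro ⟨b, rfl⟩
      exact hTv b
  have hE := rTensor_exact N hexact hTs
  have h1 : ∀ z : B ⊗[A] N, (vl.rTensor N) z = mapE φB φQ N v hv z := by
    intro z
    induction z using TensorProduct.induction_on with
    | zero => rw [map_zero]; exact (map_zero (mapE φB φQ N v hv)).symm
    | tmul b n => rw [LinearMap.rTensor_tmul]; exact (mapE_tmul _ _ _ _ _ _ _).symm
    | add z z' hz hz' => rw [map_add, hz, hz']; exact (map_add (mapE φB φQ N v hv) _ _).symm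
  have h2 : ∀ z : Q ⊗[A] N, (Tl.rTensor N) z = mapE φQ φQb N T hT z := by
    intro z
    induction z using TensorProduct.induction_on with
    | zero => rw [map_zero]; exact (map_zero (mapE φQ φQb N T hT)).symm
    | tmul b n => rw [LinearMap.rTensor_tmul]; exact (mapE_tmul _ _ _ _ _ _ _).symm
    | add z z' hz hz' => rw [map_add, hz, hz']; exact (map_add (mapE φQ φQb N T hT) _ _).symm
  obtain ⟨z, hz⟩ := (hE y).mp ((h2 y).trans hy)
  exact ⟨z, (h1 z).symm.trans hz⟩

/-- Flatness: if `v` is injective and `N` is flat then `B ⊗ N → Q ⊗ N` is injective. -/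
theorem mapE_injective [Module.Flat A N] (hvi : Function.Injective v) :
    Function.Injective (mapE φB φQ N v hv) := by
  let _ : Module A B := Module.compHom B φB
  let _ : Module A Q := Module.compHom Q φQ
  let vl : B →ₗ[A] Q :=
    { toFun := v, map_add' := map_add v, map_smul' := fun a b => hv a b }
  have hι : Function.Injective (vl.rTensor N) :=
    Module.Flat.rTensor_preserves_injective_linearMap vl hvi
  have h1 : ∀ z : B ⊗[A] N, (vl.rTensor N) z = mapE φB φQ N v hv z := by
    intro z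
    induction z using TensorProduct.induction_on with
    | zero => rw [map_zero]; exact (map_zero (mapE φB φQ N v hv)).symm
    | tmul b n => rw [LinearMap.rTensor_tmul]; exact (mapE_tmul _ _ _ _ _ _ _).symm
    | add z z' hz hz' => rw [map_add, hz, hz']; exact (map_add (mapE φB φQ N v hv) _ _).symm
  intro z z' hzz
  exact hι ((h1 z).trans (hzz.trans (h1 z').symm))

end exact

section ker
variable {A Q Qb : Type u} [CommRing A] [CommRing Q] [CommRing Qb]
  (φQ : A →+* Q) (φQb : A →+* Qb) (N : ModuleCat.{u} A)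
  (T : Q →+* Qb) (hT : ∀ a b, T (φQ a * b) = φQb a * T b)

/-- For a surjective ring hom `T`, the kernel of `Q ⊗ N → Qb ⊗ N` is `(ker T) • (Q ⊗ N)`. -/
theorem mapE_ker_le (hTs : Function.Surjective T) (y : E φQ N)
    (hy : mapE φQ φQb N T.toAddMonoidHom hT y = 0) :
    y ∈ (RingHom.ker T) • (⊤ : Submodule Q (E φQ N)) := by
  let _ : Module A Q := Module.compHom Q φQ
  let _ : Module A Qb := Module.compHom Qb φQb
  let Tl : Q →ₗ[A] Qb :=
    { toFun := T, map_add' := map_add T, map_smul' := fun a b => hT a b }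
  let Ksub : Submodule A Q :=
    { carrier := {q | T q = 0}
      add_mem' := fun {a b} ha hb => by
        show T (a + b) = 0
        rw [map_add, show T a = 0 from ha, show T b = 0 from hb, add_zero]
      zero_mem' := map_zero T
      smul_mem' := fun a q hq => by
        show T (φQ a * q) = 0
        rw [hT, show T q = 0 from hq, mul_zero] }
  have hexact : Function.Exact Ksub.subtype Tl := by
    intro q
    constructor
    · intro hq
      exact ⟨⟨q, hq⟩, rfl⟩
    · rintro ⟨b, rfl⟩
      exact b.2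
  have hE := rTensor_exact N hexact hTs
  have h2 : ∀ z : Q ⊗[A] N, (Tl.rTensor N) z = mapE φQ φQb N T.toAddMonoidHom hT z := by
    intro z
    induction z using TensorProduct.induction_on with
    | zero => rw [map_zero]; exact (map_zero (mapE φQ φQb N T.toAddMonoidHom hT)).symm
    | tmul b n =>
      rw [LinearMap.rTensor_tmul]; exact (mapE_tmul φQ φQb N T.toAddMonoidHom hT b n).symm
    | add z z' hz hz' =>
      rw [map_add, hz, hz']; exact (map_add (mapE φQ φQb N T.toAddMonoidHom hT) _ _).symm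
  obtain ⟨z, hz⟩ := (hE y).mp ((h2 y).trans hy)
  rw [← hz]
  clear hz
  induction z using TensorProduct.induction_on with
  | zero => rw [map_zero]; exact Submodule.zero_mem _
  | tmul k n =>
    rw [LinearMap.rTensor_tmul]
    show ((k : Q) ⊗ₜ[A, φQ] n : E φQ N) ∈ _
    rw [tmul_eq_smul_one]
    exact Submodule.smul_mem_smul (show (k : Q) ∈ RingHom.ker T from k.2) Submodule.mem_top
  | add z z' hz hz' => rw [map_add]; exact Submodule.add_mem _ hz hz'

end ker

end Groth.Agent.Lib.Seat79.WDesc
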