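import Groth.Agent.Lib.Seat79WDescWitt
import Groth.Prelude.Def_W4c3truncdispsmoothDesc

/-!
# Seat79: effectivity of `W_n`-descent for finitely generated projective modules (assembly)

Translation between Mathlib's descent data for the pseudofunctor
`(unopUnop ⋙ wittTrunc p n).toPseudofunctor.comp moduleCatExtendScalarsPseudofunctor` relative to
`Spec S ⟶ Spec R` and the coaction form `DD R (Wf p n) N` of `Seat79WDescCx`, following the pattern of
`Seat78EffMain`; then `witt_main` gives effectivity.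
-/

set_option autoImplicit false
set_option linter.style.haveILetI false
set_option linter.unusedSectionVars false
set_option linter.unusedVariables false
set_option backward.isDefEq.respectTransparency false
set_option backward.isDefEq.respectTransparency.types false
set_option backward.defeqAttrib.useBackward true

open CategoryTheory Opposite TensorProduct Limits
open ChangeOfRings
open Groth.Agent.Lib.Seat78.ExtPF Groth.Agent.Lib.Seat78.ExtPFDesc Groth.Agent.Lib.Seat78.ExtPFEff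
open Groth.Agent.Lib.Seat78.EffAlg Groth.Agent.Lib.Seat78.EffMain
open WittGrp

universe u

namespace Groth.Agent.Lib.Seat79.WDesc

variable (p : ℕ) [hp : Fact p.Prime] (n : ℕ)

/-- the functor `(CommRingCatᵒᵖ)ᵒᵖ ⥤ CommRingCat`, `R ↦ W_n(R)` -/
noncomputable abbrev GW : (CommRingCat.{u}ᵒᵖ)ᵒᵖ ⥤ CommRingCat.{u} :=
  unopUnop CommRingCat.{u} ⋙ W4c3truncdispsmooth.wittTrunc p n

set_option quotPrecheck false in
local notation "FGW" => Pseudofunctor.comp (Functor.toPseudofunctor (GW p n)) CommRingCat.moduleCatExtendScalarsPseudofunctor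

variable (R S : Type u) [CommRing R] [CommRing S] [Algebra R S]

/-- the `W_n(S)`-module of the descent datum -/
noncomputable abbrev NmW (D : (FGW).DescentData (fun _ : PUnit.{u + 1} => mor (algebraMap R S))) :
    ModuleCat.{u} ((Wf.{u} p n).obj S) := objM (GW p n) D PUnit.unit

/-- the descent map `N → W_n(S ⊗ S) ⊗_{i₂} N` -/
noncomputable def βW (D : (FGW).DescentData (fun _ : PUnit.{u + 1} => mor (algebraMap R S))) :
    NmW p n R S D →+ E ((Wf.{u} p n).map (i₂ R)) (NmW p n R S D) :=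
  AddMonoidHom.mk' (βG (GW p n) D (q₂ R S) (mor (i₁ R)) (mor (i₂ R)) rfl (h₂ R S))
    (βG_add (GW p n) D (q₂ R S) (mor (i₁ R)) (mor (i₂ R)) rfl (h₂ R S))

theorem βW_smul (D : (FGW).DescentData (fun _ : PUnit.{u + 1} => mor (algebraMap R S)))
    (a : (Wf.{u} p n).obj S) (x : NmW p n R S D) :
    βW p n R S D (a • x) = (Wf.{u} p n).map (i₁ R) a • βW p n R S D x :=
  βG_smul (GW p n) D (q₂ R S) (mor (i₁ R)) (mor (i₂ R)) rfl (h₂ R S) a x

section compare
variable (N : ModuleCat.{u} ((Wf.{u} p n).obj S))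

theorem D13F_eq (y : E ((Wf.{u} p n).map (i₂ R)) N) :
    D13F R (Wf.{u} p n) N y =
      Dl (GW p n) (mor (i₂ R)).op.toLoc (mor (g₁₃ R)).op.toLoc
        (mor (j₃ R : S →+* S ⊗[R] (S ⊗[R] S))).op.toLoc (loc_comp' _ _ _ (h_D13m R S)) N y := by
  induction y using induction_E with
  | zero =>
    rw [map_zero]
    exact (Dl_zero (GW p n) (mor (i₂ R)).op.toLoc (mor (g₁₃ R)).op.toLoc
        (mor (j₃ R : S →+* S ⊗[R] (S ⊗[R] S))).op.toLoc (loc_comp' _ _ _ (h_D13m R S)) N).symm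
  | tmul t x =>
    refine (mapE_tmul _ _ _ _ _ _ _).trans ?_
    exact (Dl_tmul (GW p n) (mor (i₂ R)).op.toLoc (mor (g₁₃ R)).op.toLoc
        (mor (j₃ R : S →+* S ⊗[R] (S ⊗[R] S))).op.toLoc (loc_comp' _ _ _ (h_D13m R S)) N t x).symm
  | add y y' hy hy' =>
    rw [map_add, hy, hy']
    exact (Dl_add (GW p n) (mor (i₂ R)).op.toLoc (mor (g₁₃ R)).op.toLoc
        (mor (j₃ R : S →+* S ⊗[R] (S ⊗[R] S))).op.toLoc (loc_comp' _ _ _ (h_D13m R S)) N y y').symm

theorem D23F_eq (y : E ((Wf.{u} p n).map (i₂ R)) N) :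
    D23F R (Wf.{u} p n) N y =
      Dl (GW p n) (mor (i₂ R)).op.toLoc (mor (g₂₃ R)).op.toLoc
        (mor (j₃ R : S →+* S ⊗[R] (S ⊗[R] S))).op.toLoc (loc_comp' _ _ _ (h_D23m R S)) N y := by
  induction y using induction_E with
  | zero =>
    rw [map_zero]
    exact (Dl_zero (GW p n) (mor (i₂ R)).op.toLoc (mor (g₂₃ R)).op.toLoc
        (mor (j₃ R : S →+* S ⊗[R] (S ⊗[R] S))).op.toLoc (loc_comp' _ _ _ (h_D23m R S)) N).symm
  | tmul t x =>
    refine (mapE_tmul _ _ _ _ _ _ _).trans ?_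
    exact (Dl_tmul (GW p n) (mor (i₂ R)).op.toLoc (mor (g₂₃ R)).op.toLoc
        (mor (j₃ R : S →+* S ⊗[R] (S ⊗[R] S))).op.toLoc (loc_comp' _ _ _ (h_D23m R S)) N t x).symm
  | add y y' hy hy' =>
    rw [map_add, hy, hy']
    exact (Dl_add (GW p n) (mor (i₂ R)).op.toLoc (mor (g₂₃ R)).op.toLoc
        (mor (j₃ R : S →+* S ⊗[R] (S ⊗[R] S))).op.toLoc (loc_comp' _ _ _ (h_D23m R S)) N y y').symm

theorem htId (a b : (Wf.{u} p n).obj S) :
    (AddMonoidHom.id ((Wf.{u} p n).obj S)) ((Wf.{u} p n).map (RingHom.id S) a * b) =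
      RingHom.id ((Wf.{u} p n).obj S) a * (AddMonoidHom.id ((Wf.{u} p n).obj S)) b := by
  show (Wf.{u} p n).map (RingHom.id S) a * b = a * b
  rw [(Wf.{u} p n).map_id]

/-- `W_n(S) ⊗_{W_n(id)} N → W_n(S) ⊗_{id} N` -/
noncomputable def tId : E ((Wf.{u} p n).map (RingHom.id S)) N →+ E (RingHom.id ((Wf.{u} p n).obj S)) N :=
  mapE _ _ N (AddMonoidHom.id _) (htId p n S)

theorem DmF_eq (y : E ((Wf.{u} p n).map (i₂ R)) N) :
    DmF R (Wf.{u} p n) N y =
      tId p n S N (Dl (GW p n) (mor (i₂ R)).op.toLoc (mor (mS R)).op.toLoc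
        (𝟙 (op (CommRingCat.of S) : CommRingCat.{u}ᵒᵖ)).op.toLoc (loc_comp' _ _ _ (hΔ₂ R S)) N y) := by
  induction y using induction_E with
  | zero =>
    rw [map_zero]
    refine Eq.trans ?_ (congrArg (tId p n S N) (Dl_zero (GW p n) (mor (i₂ R)).op.toLoc (mor (mS R)).op.toLoc
        (𝟙 (op (CommRingCat.of S) : CommRingCat.{u}ᵒᵖ)).op.toLoc (loc_comp' _ _ _ (hΔ₂ R S)) N).symm)
    exact (map_zero _).symm
  | tmul t x =>
    refine (mapE_tmul _ _ _ _ _ _ _).trans ?_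
    refine Eq.trans ?_ (congrArg (tId p n S N) (Dl_tmul (GW p n) (mor (i₂ R)).op.toLoc (mor (mS R)).op.toLoc
        (𝟙 (op (CommRingCat.of S) : CommRingCat.{u}ᵒᵖ)).op.toLoc (loc_comp' _ _ _ (hΔ₂ R S)) N t x).symm)
    exact (mapE_tmul ((Wf.{u} p n).map (RingHom.id S)) (RingHom.id ((Wf.{u} p n).obj S)) N
      (AddMonoidHom.id _) (htId p n S) ((Wf.{u} p n).map (mS R) t) x).symm
  | add y y' hy hy' =>
    rw [map_add, hy, hy']
    refine Eq.trans ?_ (congrArg (tId p n S N) (Dl_add (GW p n) (mor (i₂ R)).op.toLoc (mor (mS R)).op.toLoc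
        (𝟙 (op (CommRingCat.of S) : CommRingCat.{u}ᵒᵖ)).op.toLoc (loc_comp' _ _ _ (hΔ₂ R S)) N y y').symm)
    exact (map_add _ _ _).symm

end compare

section dd

theorem unitW (D : (FGW).DescentData (fun _ : PUnit.{u + 1} => mor (algebraMap R S)))
    (x : NmW p n R S D) :
    DmF R (Wf.{u} p n) (NmW p n R S D) (βW p n R S D x) =
      (1 : (Wf.{u} p n).obj S) ⊗ₜ[(Wf.{u} p n).obj S, RingHom.id ((Wf.{u} p n).obj S)] x := by
  rw [DmF_eq]
  have h := unit_ev (GW p n) D (q₂ R S) (mor (i₁ R)) (mor (i₂ R)) rfl (h₂ R S) (mor (mS R))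
    (hΔ₁ R S) (hΔ₂ R S) x
  refine (congrArg (tId p n S (NmW p n R S D)) h).trans ?_
  exact mapE_tmul ((Wf.{u} p n).map (RingHom.id S)) (RingHom.id ((Wf.{u} p n).obj S)) (NmW p n R S D)
    (AddMonoidHom.id _) (htId p n S) 1 x

theorem Phi_Dl12 (D : (FGW).DescentData (fun _ : PUnit.{u + 1} => mor (algebraMap R S)))
    (y : E ((Wf.{u} p n).map (i₂ R)) (NmW p n R S D)) :
    ev (D.hom (q₃ R S) (mor (j₂ R : S →+* S ⊗[R] (S ⊗[R] S)))
        (mor (j₃ R : S →+* S ⊗[R] (S ⊗[R] S))) (hρ₂ R S) (hρ₃ R S))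
      (Dl (GW p n) (mor (i₂ R)).op.toLoc (mor (g₁₂ R)).op.toLoc
        (mor (j₂ R : S →+* S ⊗[R] (S ⊗[R] S))).op.toLoc (loc_comp' _ _ _ (h_D12m R S))
        (NmW p n R S D) y) =
      PsiF R (Wf.{u} p n) (βW p n R S D) (βW_smul p n R S D) y := by
  induction y using induction_E with
  | zero =>
    refine (congrArg (ev _) (Dl_zero (GW p n) (mor (i₂ R)).op.toLoc (mor (g₁₂ R)).op.toLoc
        (mor (j₂ R : S →+* S ⊗[R] (S ⊗[R] S))).op.toLoc (loc_comp' _ _ _ (h_D12m R S))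
        (NmW p n R S D))).trans ?_
    rw [ev_zero, map_zero]
  | tmul t x =>
    refine (congrArg (ev _) (Dl_tmul (GW p n) (mor (i₂ R)).op.toLoc (mor (g₁₂ R)).op.toLoc
        (mor (j₂ R : S →+* S ⊗[R] (S ⊗[R] S))).op.toLoc (loc_comp' _ _ _ (h_D12m R S))
        (NmW p n R S D) t x)).trans ?_
    have h1 := pull_ev (GW p n) D (q₂ R S) (mor (i₁ R)) (mor (i₂ R)) rfl (h₂ R S) (q₃ R S)
      (mor (j₂ R : S →+* S ⊗[R] (S ⊗[R] S))) (mor (j₃ R : S →+* S ⊗[R] (S ⊗[R] S)))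
      (hρ₂ R S) (hρ₃ R S) (mor (g₂₃ R)) (hq₂₃ R S) (h_23_1 R S) (h_D23m R S) x
    have h2 : PsiF R (Wf.{u} p n) (βW p n R S D) (βW_smul p n R S D)
        (t ⊗ₜ[(Wf.{u} p n).obj S, (Wf.{u} p n).map (i₂ R)] x) =
        (Wf.{u} p n).map (g₁₂ R) t • D23F R (Wf.{u} p n) (NmW p n R S D) (βW p n R S D x) :=
      twE_tmul _ _ _ _ _ _ _ _
    refine Eq.trans ?_ h2.symm
    rw [D23F_eq]
    refine Eq.trans ?_ (congrArg (fun z => (Wf.{u} p n).map (g₁₂ R) t • z) h1)
    refine Eq.trans ?_ (ev_smul _ _ _)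
    refine congrArg (ev _) ?_
    exact tmul_eq_smul_one ((Wf.{u} p n).map (j₂ R : S →+* S ⊗[R] (S ⊗[R] S))) (NmW p n R S D)
      ((Wf.{u} p n).map (g₁₂ R) t) x
  | add y y' hy hy' =>
    refine (congrArg (ev _) (Dl_add (GW p n) (mor (i₂ R)).op.toLoc (mor (g₁₂ R)).op.toLoc
        (mor (j₂ R : S →+* S ⊗[R] (S ⊗[R] S))).op.toLoc (loc_comp' _ _ _ (h_D12m R S))
        (NmW p n R S D) y y')).trans ?_
    rw [ev_add, hy, hy', map_add]

theorem cocW (D : (FGW).DescentData (fun _ : PUnit.{u + 1} => mor (algebraMap R S)))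
    (x : NmW p n R S D) :
    D13F R (Wf.{u} p n) (NmW p n R S D) (βW p n R S D x) =
      PsiF R (Wf.{u} p n) (βW p n R S D) (βW_smul p n R S D) (βW p n R S D x) := by
  rw [D13F_eq]
  have h := cocycle_ev (GW p n) D (q₂ R S) (mor (i₁ R)) (mor (i₂ R)) rfl (h₂ R S) (q₃ R S)
    (mor (j₁ R : S →+* S ⊗[R] (S ⊗[R] S)))
    (mor (j₂ R : S →+* S ⊗[R] (S ⊗[R] S))) (mor (j₃ R : S →+* S ⊗[R] (S ⊗[R] S))) rfl
    (hρ₂ R S) (hρ₃ R S)
    (mor (g₁₂ R)) (mor (g₁₃ R)) (hq₁₂ R S) (hq₁₃ R S) (h_12_1 R S) (h_D12m R S) (h_13_1 R S)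
    (h_D13m R S) x
  exact h.trans (Phi_Dl12 p n R S D (βW p n R S D x))

/-- the descent datum in coaction form -/
noncomputable def ddW (D : (FGW).DescentData (fun _ : PUnit.{u + 1} => mor (algebraMap R S))) :
    DD R (Wf.{u} p n) (NmW p n R S D) where
  β := βW p n R S D
  β_smul := βW_smul p n R S D
  unit := unitW p n R S D
  cocycle := cocW p n R S D

end dd

section assembly

theorem nonempty_iso_of_invariant
    (D : (FGW).DescentData (fun _ : PUnit.{u + 1} => mor (algebraMap R S)))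
    (X : ModuleCat.{u} ((Wf.{u} p n).obj R))
    (e : E ((Wf.{u} p n).map (algebraMap R S)) X ≅ NmW p n R S D)
    (hinv : ∀ x : X, βW p n R S D (ev e.hom ((1 : (Wf.{u} p n).obj S) ⊗ₜ[(Wf.{u} p n).obj R,
        (Wf.{u} p n).map (algebraMap R S)] x)) =
      (1 : (Wf.{u} p n).obj (S ⊗[R] S)) ⊗ₜ[(Wf.{u} p n).obj S, (Wf.{u} p n).map (i₂ R)]
        (ev e.hom ((1 : (Wf.{u} p n).obj S) ⊗ₜ[(Wf.{u} p n).obj R,
          (Wf.{u} p n).map (algebraMap R S)] x))) :
    Nonempty (((FGW).toDescentData (fun _ : PUnit.{u + 1} => mor (algebraMap R S))).obj X ≅ D) := by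
  refine nonempty_iso_of_commHyp (FGW) (fun _ _ => sq R S) (M := X) D (fun _ => e) ?_
  rintro ⟨⟩ ⟨⟩
  exact commHyp_of_invariant (GW p n) D X (sq R S).p (sq R S).p₁ (sq R S).p₂ (sq R S).hp₁ (sq R S).hp₂
    e.hom e.hom hinv

end assembly

section main

theorem subsingleton_W0 (Y : Type u) [CommRing Y] : Subsingleton (TruncatedWittVector p 0 Y) :=
  ⟨fun _ _ => TruncatedWittVector.ext fun i => i.elim0⟩

theorem exists_iso_zero
    (D : (Pseudofunctor.comp (Functor.toPseudofunctor (GW.{u} p 0))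
      CommRingCat.moduleCatExtendScalarsPseudofunctor).DescentData
        (fun _ : PUnit.{u + 1} => mor (algebraMap R S))) :
    ∃ M : ModuleCat.{u} ((Wf.{u} p 0).obj R), Module.Finite ((Wf.{u} p 0).obj R) M ∧
      Module.Projective ((Wf.{u} p 0).obj R) M ∧
      Nonempty (((Pseudofunctor.comp (Functor.toPseudofunctor (GW.{u} p 0))
        CommRingCat.moduleCatExtendScalarsPseudofunctor).toDescentData
          (fun _ : PUnit.{u + 1} => mor (algebraMap R S))).obj M ≅ D) := by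
  haveI : Subsingleton ((Wf.{u} p 0).obj R) := subsingleton_W0 p R
  haveI : Subsingleton ((Wf.{u} p 0).obj S) := subsingleton_W0 p S
  haveI : Subsingleton ((Wf.{u} p 0).obj (S ⊗[R] S)) := subsingleton_W0 p (S ⊗[R] S)
  let X : ModuleCat.{u} ((Wf.{u} p 0).obj R) := ModuleCat.of _ PUnit.{u + 1}
  haveI h1 : Subsingleton (E ((Wf.{u} p 0).map (algebraMap R S)) X) :=
    Module.subsingleton ((Wf.{u} p 0).obj S) _
  haveI h2 : Subsingleton (NmW p 0 R S D) := Module.subsingleton ((Wf.{u} p 0).obj S) _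
  haveI h3 : Subsingleton (E ((Wf.{u} p 0).map (i₂ R)) (NmW p 0 R S D)) :=
    Module.subsingleton ((Wf.{u} p 0).obj (S ⊗[R] S)) _
  let eL : E ((Wf.{u} p 0).map (algebraMap R S)) X ≃ₗ[(Wf.{u} p 0).obj S] NmW p 0 R S D :=
    { toFun := fun _ => 0
      map_add' := fun _ _ => Subsingleton.elim _ _
      map_smul' := fun _ _ => Subsingleton.elim _ _
      invFun := fun _ => 0
      left_inv := fun _ => Subsingleton.elim _ _
      right_inv := fun _ => Subsingleton.elim _ _ }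
  refine ⟨X, Module.Finite.of_finite, Module.Projective.of_free, ?_⟩
  exact nonempty_iso_of_invariant p 0 R S D X eL.toModuleIso (fun x => Subsingleton.elim _ _)

theorem exists_iso_aux [Module.FaithfullyFlat R S] (hpR : IsNilpotent (p : R))
    (D : (FGW).DescentData (fun _ : PUnit.{u + 1} => mor (algebraMap R S)))
    [Module.Finite ((Wf.{u} p n).obj S) (NmW p n R S D)]
    [Module.Projective ((Wf.{u} p n).obj S) (NmW p n R S D)] :
    ∃ M : ModuleCat.{u} ((Wf.{u} p n).obj R), Module.Finite ((Wf.{u} p n).obj R) M ∧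
      Module.Projective ((Wf.{u} p n).obj R) M ∧
      Nonempty (((FGW).toDescentData (fun _ : PUnit.{u + 1} => mor (algebraMap R S))).obj M ≅ D) := by
  obtain _ | m := n
  · exact exists_iso_zero p R S D
  · obtain ⟨X, hXf, hXp, e, he⟩ := witt_main p m R hpR (ddW p (m + 1) R S D)
    exact ⟨X, hXf, hXp, nonempty_iso_of_invariant p (m + 1) R S D X e he⟩

end main

end Groth.Agent.Lib.Seat79.WDesc
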