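import Groth.Agent.Lib.Seat79WDescGadget
import Groth.Agent.Lib.Helper5NilFree

/-!
# Seat79: two algebra lemmas

* `nak`: a linear map `Θ : Y → Z` to a projective module which becomes bijective after reduction modulo a
  nilpotent ideal (reductions presented by surjections with kernel `I • -`) is bijective.
* `bijective_redE`: for `T₀ : A → Ā` surjective and `σ : X → X̄` a `T₀`-semilinear surjection with
  kernel `(ker T₀) • X`, the map `C ⊗_A X → C ⊗_Ā X̄` is bijective (`ψ : Ā → C`).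
-/

set_option autoImplicit false
set_option backward.isDefEq.respectTransparency false
set_option backward.isDefEq.respectTransparency.types false
set_option backward.defeqAttrib.useBackward true

open TensorProduct ChangeOfRings
open Groth.Agent.Lib.Seat78.EffAlg

universe u

namespace Groth.Agent.Lib.Seat79.WDesc

section nak
variable {B : Type u} [CommRing B] (I : Ideal B) (hI : IsNilpotent I)
  {Y Z : Type u} [AddCommGroup Y] [Module B Y] [AddCommGroup Z] [Module B Z]
  {Yb Zb : Type u} [AddCommGroup Yb] [AddCommGroup Zb]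

include hI in
theorem nak [Module.Projective B Z] (Θ : Y →ₗ[B] Z) (πY : Y →+ Yb) (πZ : Z →+ Zb) (Θb : Yb →+ Zb)
    (hΘb : Function.Bijective Θb) (hcomm : ∀ y, πZ (Θ y) = Θb (πY y))
    (hkY : ∀ y, πY y = 0 → y ∈ I • (⊤ : Submodule B Y))
    (hkZ : ∀ z, πZ z = 0 → z ∈ I • (⊤ : Submodule B Z))
    (hπY : Function.Surjective πY) : Function.Bijective Θ := by
  have hsurj : Function.Surjective Θ := by
    rw [← LinearMap.range_eq_top]
    apply Groth.Agent.Lib.Helper5.eq_top_of_sup_smul_top_eq_top_of_isNilpotent hI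
    rw [eq_top_iff]
    intro z _
    obtain ⟨yb, hyb⟩ := hΘb.2 (πZ z)
    obtain ⟨y, rfl⟩ := hπY yb
    have h0 : πZ (z - Θ y) = 0 := by rw [map_sub, hcomm, hyb, sub_self]
    have : z = Θ y + (z - Θ y) := by abel
    rw [this]
    exact Submodule.add_mem_sup ⟨y, rfl⟩ (hkZ _ h0)
  refine ⟨?_, hsurj⟩
  obtain ⟨s, hs⟩ := Module.projective_lifting_property Θ LinearMap.id hsurj
  have hs' : ∀ z, Θ (s z) = z := fun z => LinearMap.congr_fun hs z
  let pr : Y →ₗ[B] Y := LinearMap.id - s ∘ₗ Θ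
  have hprK : ∀ y, Θ (pr y) = 0 := by
    intro y
    show Θ (y - s (Θ y)) = 0
    rw [map_sub, hs', sub_self]
  have hprid : ∀ k, Θ k = 0 → pr k = k := by
    intro k hk
    show k - s (Θ k) = k
    rw [hk, map_zero, sub_zero]
  have hK : LinearMap.ker Θ ≤ I • LinearMap.ker Θ := by
    intro k hk
    have hk0 : Θ k = 0 := hk
    have h1 : πY k = 0 := by
      apply hΘb.1
      rw [← hcomm, hk0, map_zero, map_zero]
    have h2 := hkY k h1
    have h3 : pr k ∈ Submodule.map pr (I • (⊤ : Submodule B Y)) := Submodule.mem_map_of_mem h2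
    rw [Submodule.map_smul'', hprid k hk0] at h3
    refine Submodule.smul_mono le_rfl ?_ h3
    rintro _ ⟨y, -, rfl⟩
    exact hprK y
  have hbot := Groth.Agent.Lib.Helper5.eq_bot_of_le_smul_of_isNilpotent hI hK
  exact LinearMap.ker_eq_bot.mp hbot

end nak

section redE
variable {A Ab C : Type u} [CommRing A] [CommRing Ab] [CommRing C]
  (T₀ : A →+* Ab) (ψ : Ab →+* C) (X : ModuleCat.{u} A) (Xb : ModuleCat.{u} Ab)
  (σ : X →+ Xb) (hσ : ∀ (a : A) (x : X), σ (a • x) = T₀ a • σ x)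

/-- `c ⊗ x ↦ c ⊗ σ x`. -/
noncomputable def redE : E (ψ.comp T₀) X →+ E ψ Xb :=
  liftE (ψ.comp T₀) X
    (AddMonoidHom.mk' (fun c => AddMonoidHom.mk' (fun x => (c ⊗ₜ[Ab, ψ] (σ x) : E ψ Xb))
        (fun x x' => by rw [map_add, tmul_add_E]))
      (fun c c' => by
        ext x
        exact add_tmul_E ψ Xb c c' (σ x)))
    (fun a c x => by
      show (((ψ.comp T₀) a * c) ⊗ₜ[Ab, ψ] (σ x) : E ψ Xb) = c ⊗ₜ[Ab, ψ] (σ (a • x))
      rw [hσ]
      exact smul_tmul_E ψ Xb (T₀ a) c (σ x))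

theorem redE_tmul (c : C) (x : X) :
    redE T₀ ψ X Xb σ hσ (c ⊗ₜ[A, ψ.comp T₀] x) = (c ⊗ₜ[Ab, ψ] (σ x) : E ψ Xb) :=
  liftE_tmul _ _ _ _ _ _

variable (hT₀ : Function.Surjective T₀) (hσs : Function.Surjective σ)
  (hker : ∀ x, σ x = 0 → x ∈ (RingHom.ker T₀) • (⊤ : Submodule A X))

include hker in
theorem tmul_eq_zero_of_σ (c : C) (x : X) (hx : σ x = 0) :
    (c ⊗ₜ[A, ψ.comp T₀] x : E (ψ.comp T₀) X) = 0 := by
  have hx' := hker x hx
  refine Submodule.smul_induction_on hx' ?_ ?_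
  · intro j hj x' _
    refine (smul_tmul_E (ψ.comp T₀) X j c x').symm.trans ?_
    show (((ψ (T₀ j)) * c) ⊗ₜ[A, ψ.comp T₀] x' : E (ψ.comp T₀) X) = 0
    rw [show T₀ j = 0 from hj, map_zero, zero_mul]
    exact zero_tmul_E _ _ _
  · intro x₁ x₂ h₁ h₂
    rw [tmul_add_E, h₁, h₂, add_zero]

include hker in
theorem tmul_eq_of_σ_eq (c : C) (x x' : X) (hx : σ x = σ x') :
    (c ⊗ₜ[A, ψ.comp T₀] x : E (ψ.comp T₀) X) = c ⊗ₜ[A, ψ.comp T₀] x' := by
  have h0 : σ (x - x') = 0 := by rw [map_sub, hx, sub_self]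
  have h1 := tmul_eq_zero_of_σ T₀ ψ X Xb σ hker c (x - x') h0
  have : x = x' + (x - x') := by abel
  rw [this, tmul_add_E, h1, add_zero]

include hT₀ hσs hker in
theorem bijective_redE : Function.Bijective (redE T₀ ψ X Xb σ hσ) := by
  classical
  constructor
  · -- injectivity: construct a left inverse
    let lift₀ : Xb → X := Function.surjInv hσs
    have hl : ∀ xb, σ (lift₀ xb) = xb := Function.surjInv_eq hσs
    let inv : E ψ Xb →+ E (ψ.comp T₀) X :=
      liftE ψ Xb
        (AddMonoidHom.mk' (fun c => AddMonoidHom.mk'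
            (fun xb => (c ⊗ₜ[A, ψ.comp T₀] (lift₀ xb) : E (ψ.comp T₀) X))
            (fun xb xb' => by
              refine Eq.trans ?_ (tmul_add_E (ψ.comp T₀) X c (lift₀ xb) (lift₀ xb'))
              apply tmul_eq_of_σ_eq T₀ ψ X Xb σ hker
              rw [map_add, hl, hl, hl]))
          (fun c c' => by
            ext xb
            exact add_tmul_E (ψ.comp T₀) X c c' (lift₀ xb)))
        (fun ab c xb => by
          obtain ⟨a, rfl⟩ := hT₀ ab
          show ((ψ (T₀ a) * c) ⊗ₜ[A, ψ.comp T₀] (lift₀ xb) : E (ψ.comp T₀) X) =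
            c ⊗ₜ[A, ψ.comp T₀] (lift₀ (T₀ a • xb))
          refine (smul_tmul_E (ψ.comp T₀) X a c (lift₀ xb)).trans ?_
          apply tmul_eq_of_σ_eq T₀ ψ X Xb σ hker
          rw [hσ, hl, hl])
    have hinv : ∀ y, inv (redE T₀ ψ X Xb σ hσ y) = y := by
      intro y
      induction y using induction_E with
      | zero => rw [map_zero, map_zero]
      | tmul c x =>
        rw [redE_tmul]
        refine (liftE_tmul _ _ _ _ _ _).trans ?_
        apply tmul_eq_of_σ_eq T₀ ψ X Xb σ hker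
        exact hl _
      | add y y' hy hy' => rw [map_add, map_add, hy, hy']
    exact Function.LeftInverse.injective hinv
  · intro y
    induction y using induction_E with
    | zero => exact ⟨0, map_zero _⟩
    | tmul c xb =>
      obtain ⟨x, rfl⟩ := hσs xb
      exact ⟨c ⊗ₜ[A, ψ.comp T₀] x, redE_tmul _ _ _ _ _ _ _ _⟩
    | add y y' hy hy' =>
      obtain ⟨z, rfl⟩ := hy
      obtain ⟨z', rfl⟩ := hy'
      exact ⟨z + z', map_add _ _ _⟩

end redE

end Groth.Agent.Lib.Seat79.WDesc
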