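import Groth.Agent.Lib.Seat79WDescCl
import Groth.Agent.Lib.Seat79WDescNak
import Mathlib.Algebra.Category.ModuleCat.Projective
import Mathlib.RingTheory.Finiteness.Basic

/-!
# Seat79: the inductive step of the dévissage

`Sol τ X`: a solution of the descent problem with coefficients in `(Q, τ)`: a semilinear map
`ρ : X → C⁰_Q` landing in the invariants and inducing a bijection `Q(S) ⊗_{F(R)} X → C⁰_Q`.

* `lift_inv`: invariants lift along `Q → Qb` when the kernel is a "line" `v : Id → Q` (uses the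
  classical exactness `exists_d0_eq`);
* `lift_inv_iso`: same when `Q → Qb` is bijective;
* `step`: a solution over `Qb` lifts to a solution over `Q` (nilpotent kernel, `X` projective).
-/

set_option autoImplicit false
set_option linter.style.haveILetI false
set_option backward.isDefEq.respectTransparency false
set_option backward.isDefEq.respectTransparency.types false
set_option backward.defeqAttrib.useBackward true

open TensorProduct ChangeOfRings CategoryTheory
open Groth.Agent.Lib.Seat78.EffAlg Groth.Agent.Lib.Seat78.EffMain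

universe u

namespace Groth.Agent.Lib.Seat79.WDesc

section bc
variable {A B : Type u} [CommRing A] [CommRing B] (φ : A →+* B) (N : ModuleCat.{u} A)

theorem projective_E [Module.Projective A N] : Module.Projective B (E φ N) := by
  have h1 : Projective (ModuleCat.of A N) := (IsProjective.iff_projective (R := A) N).1 inferInstance
  have h2 : Projective ((ModuleCat.extendScalars φ).obj (ModuleCat.of A N)) :=
    (ModuleCat.extendRestrictScalarsAdj φ).map_projective _ h1
  exact (IsProjective.iff_projective (R := B) _).2 h2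

theorem finite_E [Module.Finite A N] : Module.Finite B (E φ N) := by
  classical
  obtain ⟨s, hs⟩ := (Module.Finite.fg_top : (⊤ : Submodule A N).FG)
  refine ⟨⟨s.image (fun n => ((1 : B) ⊗ₜ[A, φ] n : E φ N)), ?_⟩⟩
  rw [eq_top_iff]
  intro y _
  have key : ∀ n : N, ((1 : B) ⊗ₜ[A, φ] n : E φ N) ∈
      Submodule.span B ((s.image (fun n => ((1 : B) ⊗ₜ[A, φ] n : E φ N)) : Finset (E φ N)) : Set (E φ N)) := by
    intro n
    have hn : n ∈ Submodule.span A (s : Set N) := by rw [hs]; exact Submodule.mem_top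
    induction hn using Submodule.span_induction with
    | mem x hx =>
      apply Submodule.subset_span
      rw [Finset.coe_image]
      exact ⟨x, hx, rfl⟩
    | zero =>
      rw [tmul_zero_E]
      exact Submodule.zero_mem _
    | add x x' _ _ hx hx' =>
      rw [tmul_add_E]
      exact Submodule.add_mem _ hx hx'
    | smul a x _ hx =>
      have h1 : ((1 : B) ⊗ₜ[A, φ] (a • x) : E φ N) = φ a • ((1 : B) ⊗ₜ[A, φ] x : E φ N) := by
        rw [smul_tmul_E']
        exact (smul_tmul_E φ N a 1 x).symm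
      rw [h1]
      exact Submodule.smul_mem _ _ hx
  induction y using induction_E with
  | zero => exact Submodule.zero_mem _
  | tmul b n =>
    rw [tmul_eq_smul_one]
    exact Submodule.smul_mem _ _ (key n)
  | add y y' hy hy' => exact Submodule.add_mem _ (hy Submodule.mem_top) (hy' Submodule.mem_top)

end bc

section Sol
variable (R : Type u) {S : Type u} [CommRing R] [CommRing S] [Algebra R S] {F : RFun.{u}}
  {N : ModuleCat.{u} (F.obj S)} (D : DD R F N)

/-- structure map `F(R) → Q(S)` -/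
noncomputable abbrev χ {Q : RFun.{u}} (τ : RNat F Q) : F.obj R →+* Q.obj S :=
  (Q.map (algebraMap R S)).comp (τ.app R)

/-- A solution of the descent problem with coefficients in `(Q, τ)`. -/
structure Sol {Q : RFun.{u}} (τ : RNat F Q) (X : ModuleCat.{u} (F.obj R)) where
  ρ : X →+ C0 τ N
  ρ_smul : ∀ (a : F.obj R) (x : X),
    ρ (a • x) = RingHom.id (Q.obj S) ((χ R τ : F.obj R →+* Q.obj S) a) • ρ x
  inv : ∀ x : X, d0 R τ D (ρ x) = 0
  bij : Function.Bijective
    (twE (χ R τ : F.obj R →+* Q.obj S) X (C0 τ N) (RingHom.id (Q.obj S)) ρ ρ_smul)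

end Sol

section StepA
variable (R : Type u) {S : Type u} [CommRing R] [CommRing S] [Algebra R S] {F : RFun.{u}}
  {N : ModuleCat.{u} (F.obj S)} (D : DD R F N)
  {Q Qb : RFun.{u}} {τ : RNat F Q} {τb : RNat F Qb}
  (T : RNat Q Qb)
  (hT : ∀ (X : Type u) [CommRing X] (a : F.obj X), T.app X (τ.app X a) = τb.app X a)

theorem e0_ofRNat_smul (q : Q.obj S) (y : C0 τ N) :
    e0 (ANat.ofRNat τ τb T hT) N (q • y) = T.app S q • e0 (ANat.ofRNat τ τb T hT) N y :=
  mapE_smul (φ0 τ) (φ0 τb) N (T.app S) ((ANat.ofRNat τ τb T hT).lin S) q y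

theorem d0_smul (q : Q.obj R) (y : C0 τ N) :
    d0 R τ D (Q.map (algebraMap R S) q • y) =
      Q.map ((i₁ R).comp (algebraMap R S)) q • d0 R τ D y := by
  rw [d0_apply, d0_apply, BQ_smul, IQ_smul, Q.map_map _ _ _ rfl,
    Q.map_map _ _ _ (rel_i R S).symm, smul_sub]

variable (w : RNat F RFun.idF.{u}) (v : ANat w τ)

theorem e0_e0_zero (hTv : ∀ b : S, T.app S (v.app S b) = 0) (y : C0 w N) :
    e0 (ANat.ofRNat τ τb T hT) N (e0 v N y) = 0 := by
  induction y using induction_E with
  | zero => simp only [map_zero]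
  | tmul q x =>
    rw [e0_tmul, e0_tmul]
    show (T.app S (v.app S q)) ⊗ₜ[F.obj S, φ0 τb] x = 0
    rw [hTv, zero_tmul_E]
  | add y y' hy hy' => simp only [map_add, hy, hy', add_zero]

/-- Invariants lift along `Q → Qb` when the kernel is a line. -/
theorem lift_inv [Module.Flat (F.obj S) N] [Module.FaithfullyFlat R S]
    (hTs : ∀ (X : Type u) [CommRing X], Function.Surjective (T.app X))
    (hex : ∀ (X : Type u) [CommRing X] (q : Q.obj X), T.app X q = 0 → ∃ b : X, v.app X b = q)
    (hTv : ∀ (X : Type u) [CommRing X] (b : X), T.app X (v.app X b) = 0)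
    (hvi : ∀ (X : Type u) [CommRing X], Function.Injective (v.app X))
    (xb : C0 τb N) (hxb : d0 R τb D xb = 0) :
    ∃ x : C0 τ N, e0 (ANat.ofRNat τ τb T hT) N x = xb ∧ d0 R τ D x = 0 := by
  obtain ⟨x', hx'⟩ := mapE_surjective (φ0 τ) (φ0 τb) N ((ANat.ofRNat τ τb T hT).app S)
    ((ANat.ofRNat τ τb T hT).lin S) (fun q => hTs S q) xb
  have hx'' : e0 (ANat.ofRNat τ τb T hT) N x' = xb := hx'
  have hc : e1 R (ANat.ofRNat τ τb T hT) N (d0 R τ D x') = 0 := by
    rw [e1_d0, hx'', hxb]
  obtain ⟨z, hz⟩ := mapE_exact (φ1 R w) (φ1 R τ) (φ1 R τb) N (v.app _)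
    (fun a q => v.lin _ (F.map (i₂ R) a) q)
    ((ANat.ofRNat τ τb T hT).app _) (fun a q => (ANat.ofRNat τ τb T hT).lin _ (F.map (i₂ R) a) q)
    (fun q => hTs _ q) (fun q hq => hex _ q hq) (fun b => hTv _ b) (d0 R τ D x') hc
  have hz' : e1 R v N z = d0 R τ D x' := hz
  have hz1 : d1 R w D z = 0 := by
    apply mapE_injective (φ2 R w) (φ2 R τ) N (v.app _)
      (fun a q => v.lin _ (F.map (j₃ R) a) q) (hvi _)
    show e2 R v N (d1 R w D z) = e2 R v N 0
    rw [e2_d1, hz', d1_d0, map_zero]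
  obtain ⟨y, hy⟩ := exists_d0_eq R w D z hz1
  refine ⟨x' - e0 v N y, ?_, ?_⟩
  · rw [map_sub, hx'', e0_e0_zero T hT w v (fun b => hTv S b), sub_zero]
  · rw [map_sub, ← e1_d0, hy, hz', sub_self]

/-- Invariants lift along a bijective `Q → Qb`. -/
theorem lift_inv_iso [Module.Flat (F.obj S) N]
    (hTs : Function.Surjective (T.app S)) (hTi : Function.Injective (T.app (S ⊗[R] S)))
    (xb : C0 τb N) (hxb : d0 R τb D xb = 0) :
    ∃ x : C0 τ N, e0 (ANat.ofRNat τ τb T hT) N x = xb ∧ d0 R τ D x = 0 := by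
  obtain ⟨x, hx⟩ := mapE_surjective (φ0 τ) (φ0 τb) N ((ANat.ofRNat τ τb T hT).app S)
    ((ANat.ofRNat τ τb T hT).lin S) (fun q => hTs q) xb
  have hx' : e0 (ANat.ofRNat τ τb T hT) N x = xb := hx
  refine ⟨x, hx', ?_⟩
  apply mapE_injective (φ1 R τ) (φ1 R τb) N ((ANat.ofRNat τ τb T hT).app _)
    (fun a q => (ANat.ofRNat τ τb T hT).lin _ (F.map (i₂ R) a) q) (fun a b hab => hTi hab)
  show e1 R (ANat.ofRNat τ τb T hT) N (d0 R τ D x) = e1 R (ANat.ofRNat τ τb T hT) N 0
  rw [e1_d0, hx', hxb, map_zero]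

end StepA

section Step
variable (R : Type u) {S : Type u} [CommRing R] [CommRing S] [Algebra R S] {F : RFun.{u}}
  {N : ModuleCat.{u} (F.obj S)} (D : DD R F N)
  {Q Qb : RFun.{u}} {τ : RNat F Q} {τb : RNat F Qb}
  (T : RNat Q Qb)
  (hT : ∀ (X : Type u) [CommRing X] (a : F.obj X), T.app X (τ.app X a) = τb.app X a)

include hT in
theorem T_χ (a : F.obj R) : T.app S ((χ R τ : F.obj R →+* Q.obj S) a) = (χ R τb : F.obj R →+* Qb.obj S) a := by
  show T.app S (Q.map (algebraMap R S) (τ.app R a)) = Qb.map (algebraMap R S) (τb.app R a)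
  rw [T.nat, hT]

/-- **The inductive step**: a solution over `Qb` lifts to a solution over `Q`. -/
theorem step [Module.Projective (F.obj S) N]
    (hTsS : Function.Surjective (T.app S)) (hnil : IsNilpotent (RingHom.ker (T.app S)))
    (HA : ∀ xb : C0 τb N, d0 R τb D xb = 0 →
      ∃ x : C0 τ N, e0 (ANat.ofRNat τ τb T hT) N x = xb ∧ d0 R τ D x = 0)
    (X : ModuleCat.{u} (F.obj R)) [Module.Projective (F.obj R) X]
    (sb : Sol R D τb X) : Nonempty (Sol R D τ X) := by
  classical
  letI mQ : Module (F.obj R) (C0 τ N) := Module.compHom _ (χ R τ : F.obj R →+* Q.obj S)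
  letI mQb : Module (F.obj R) (C0 τb N) := Module.compHom _ (χ R τb : F.obj R →+* Qb.obj S)
  let MQ : Submodule (F.obj R) (C0 τ N) :=
    { carrier := {y | d0 R τ D y = 0}
      add_mem' := fun {a b} ha hb => by
        show d0 R τ D (a + b) = 0
        rw [map_add, show d0 R τ D a = 0 from ha, show d0 R τ D b = 0 from hb, add_zero]
      zero_mem' := map_zero _
      smul_mem' := fun a y hy => by
        show d0 R τ D (Q.map (algebraMap R S) (τ.app R a) • y) = 0
        rw [d0_smul, show d0 R τ D y = 0 from hy, smul_zero] }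
  let MQb : Submodule (F.obj R) (C0 τb N) :=
    { carrier := {y | d0 R τb D y = 0}
      add_mem' := fun {a b} ha hb => by
        show d0 R τb D (a + b) = 0
        rw [map_add, show d0 R τb D a = 0 from ha, show d0 R τb D b = 0 from hb, add_zero]
      zero_mem' := map_zero _
      smul_mem' := fun a y hy => by
        show d0 R τb D (Qb.map (algebraMap R S) (τb.app R a) • y) = 0
        rw [d0_smul, show d0 R τb D y = 0 from hy, smul_zero] }
  let f : MQ →ₗ[F.obj R] MQb :=
    { toFun := fun y => ⟨e0 (ANat.ofRNat τ τb T hT) N y.1, by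
        show d0 R τb D (e0 (ANat.ofRNat τ τb T hT) N y.1) = 0
        rw [← e1_d0, show d0 R τ D y.1 = 0 from y.2, map_zero]⟩
      map_add' := fun y y' => Subtype.ext (map_add (e0 (ANat.ofRNat τ τb T hT) N) y.1 y'.1)
      map_smul' := fun a y => Subtype.ext (by
        show e0 (ANat.ofRNat τ τb T hT) N ((χ R τ : F.obj R →+* Q.obj S) a • y.1) =
          (χ R τb : F.obj R →+* Qb.obj S) a • e0 (ANat.ofRNat τ τb T hT) N y.1
        rw [e0_ofRNat_smul, T_χ R T hT]) }
  let g : X →ₗ[F.obj R] MQb :=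
    { toFun := fun x => ⟨sb.ρ x, sb.inv x⟩
      map_add' := fun x x' => Subtype.ext (map_add sb.ρ x x')
      map_smul' := fun a x => Subtype.ext (sb.ρ_smul a x) }
  have hf : Function.Surjective f := by
    rintro ⟨xb, hxb⟩
    obtain ⟨x, hx, hx0⟩ := HA xb hxb
    exact ⟨⟨x, hx0⟩, Subtype.ext hx⟩
  obtain ⟨h, hh⟩ := Module.projective_lifting_property f g hf
  let ρ : X →+ C0 τ N := (MQ.subtype ∘ₗ h).toAddMonoidHom
  have hρ_apply : ∀ x, ρ x = (h x).1 := fun x => rfl
  have hρs : ∀ (a : F.obj R) (x : X),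
      ρ (a • x) = RingHom.id (Q.obj S) ((χ R τ : F.obj R →+* Q.obj S) a) • ρ x := by
    intro a x
    rw [hρ_apply, hρ_apply, map_smul]
    rfl
  have hρinv : ∀ x, d0 R τ D (ρ x) = 0 := fun x => (h x).2
  have hρb : ∀ x, e0 (ANat.ofRNat τ τb T hT) N (ρ x) = sb.ρ x := by
    intro x
    exact congrArg Subtype.val (LinearMap.congr_fun hh x)
  have hπ : ∀ (a : F.obj R) (b : Q.obj S),
      (T.app S).toAddMonoidHom ((χ R τ : F.obj R →+* Q.obj S) a * b) =
        (χ R τb : F.obj R →+* Qb.obj S) a * (T.app S).toAddMonoidHom b := by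
    intro a b
    show T.app S ((χ R τ : F.obj R →+* Q.obj S) a * b) = _ * T.app S b
    rw [map_mul, T_χ R T hT]
  haveI : Module.Projective (Q.obj S) (C0 τ N) := projective_E (φ0 τ) N
  let Θ : E (χ R τ : F.obj R →+* Q.obj S) X →ₗ[Q.obj S] C0 τ N :=
    { toFun := twE (χ R τ : F.obj R →+* Q.obj S) X (C0 τ N) (RingHom.id (Q.obj S)) ρ hρs
      map_add' := map_add _
      map_smul' := fun q y => twE_smul _ _ _ _ _ _ q y }
  have hbij : Function.Bijective Θ := by
    refine nak (RingHom.ker (T.app S)) hnil Θ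
      (mapE (χ R τ : F.obj R →+* Q.obj S) (χ R τb : F.obj R →+* Qb.obj S) X (T.app S).toAddMonoidHom hπ)
      (e0 (ANat.ofRNat τ τb T hT) N)
      (twE (χ R τb : F.obj R →+* Qb.obj S) X (C0 τb N) (RingHom.id (Qb.obj S)) sb.ρ sb.ρ_smul)
      sb.bij ?_ ?_ ?_ ?_
    · intro y
      induction y using induction_E with
      | zero => simp only [map_zero]
      | tmul q x =>
        show e0 (ANat.ofRNat τ τb T hT) N
            (twE (χ R τ : F.obj R →+* Q.obj S) X (C0 τ N) (RingHom.id (Q.obj S)) ρ hρs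
              (q ⊗ₜ[F.obj R, (χ R τ : F.obj R →+* Q.obj S)] x)) = _
        rw [twE_tmul, mapE_tmul, twE_tmul]
        show e0 (ANat.ofRNat τ τb T hT) N (q • ρ x) = T.app S q • sb.ρ x
        rw [e0_ofRNat_smul, hρb]
      | add y y' hy hy' => simp only [map_add, hy, hy']
    · intro y hy
      exact mapE_ker_le (χ R τ : F.obj R →+* Q.obj S) (χ R τb : F.obj R →+* Qb.obj S) X (T.app S) hπ hTsS y hy
    · intro z hz
      exact mapE_ker_le (φ0 τ) (φ0 τb) N (T.app S) ((ANat.ofRNat τ τb T hT).lin S) hTsS z hz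
    · exact mapE_surjective _ _ X _ hπ (fun q => hTsS q)
  exact ⟨{ ρ := ρ, ρ_smul := hρs, inv := hρinv, bij := hbij }⟩

end Step

end Groth.Agent.Lib.Seat79.WDesc
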