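import Groth.Prelude.Def_WittGrp
import Mathlib.RingTheory.WittVector.Identities
import Mathlib.RingTheory.WittVector.Truncated
import Mathlib.RingTheory.WittVector.Teichmuller
import Mathlib.RingTheory.Nilpotent.Lemmas
import Mathlib.RingTheory.Ideal.Maps

/-!
# Seat79: the filtration of truncated Witt vectors by the last component

For a commutative ring `X`:
* `cz k : W_{k+1}(X) →+* X`: the zeroth component; `W_1(X) ≅ X`;
* `gh k : W_{k+1}(X) →+* X`: the `k`-th ghost component;
* `lv k : X →+ W_{k+1}(X)`: `x ↦ (0, …, 0, x)`, with `a * lv k x = lv k (gh k a * x)`,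
  `0 → X → W_{k+1}(X) → W_k(X) → 0` exact;
* if `p` is nilpotent in `X`, the kernels of `W_{k+2}(X) → W_{k+1}(X)` and of `cz k` are nilpotent.
-/

set_option autoImplicit false
set_option linter.unusedSectionVars false

universe u

namespace Groth.Agent.Lib.Seat79.WDesc.WittAlg

open WittGrp

variable (p : ℕ) [hp : Fact p.Prime]

section ring
variable {X : Type u} [CommRing X] {Y : Type u} [CommRing Y]

/-! ### the zeroth component -/

/-- the zeroth component, as a ring homomorphism -/
noncomputable def cz (k : ℕ) : TruncatedWittVector p (k + 1) X →+* X where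
  toFun a := a.coeff 0
  map_one' := by
    rw [← map_one (WittVector.truncate (p := p) (R := X) (k + 1)), WittVector.coeff_truncate]
    exact WittVector.one_coeff_zero p X
  map_zero' := TruncatedWittVector.coeff_zero p (k + 1) X 0
  map_mul' a b := by
    obtain ⟨A, rfl⟩ := WittVector.truncate_surjective p (k + 1) X a
    obtain ⟨B, rfl⟩ := WittVector.truncate_surjective p (k + 1) X b
    rw [← map_mul, WittVector.coeff_truncate, WittVector.coeff_truncate, WittVector.coeff_truncate]
    exact WittVector.mul_coeff_zero A B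
  map_add' a b := by
    obtain ⟨A, rfl⟩ := WittVector.truncate_surjective p (k + 1) X a
    obtain ⟨B, rfl⟩ := WittVector.truncate_surjective p (k + 1) X b
    rw [← map_add, WittVector.coeff_truncate, WittVector.coeff_truncate, WittVector.coeff_truncate]
    exact WittVector.add_coeff_zero A B

theorem cz_apply (k : ℕ) (a : TruncatedWittVector p (k + 1) X) : cz p k a = a.coeff 0 := rfl

theorem ext_one {x y : TruncatedWittVector p 1 X} (h : x.coeff 0 = y.coeff 0) : x = y :=
  TruncatedWittVector.ext fun i => by rw [Fin.fin_one_eq_zero i]; exact h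

theorem cz_zero_injective : Function.Injective (cz p 0 (X := X)) := fun _ _ h => ext_one p h

theorem cz_surjective (k : ℕ) : Function.Surjective (cz p k (X := X)) := fun x =>
  ⟨TruncatedWittVector.mk p fun _ => x, by rw [cz_apply, TruncatedWittVector.coeff_mk]⟩

theorem cz_truncMap (k : ℕ) (f : X →+* Y) (a : TruncatedWittVector p (k + 1) X) :
    cz p k (truncMap p (k + 1) f a) = f (cz p k a) := coeff_truncMap p (k + 1) f a 0

theorem cz_truncate {k m : ℕ} (h : k + 1 ≤ m + 1) (a : TruncatedWittVector p (m + 1) X) :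
    cz p k (TruncatedWittVector.truncate h a) = cz p m a := by
  rw [cz_apply, TruncatedWittVector.coeff_truncate]
  rfl

/-- `x ↦ (x) : X → W_1(X)`, additive -/
noncomputable def one1 : X →+ TruncatedWittVector p 1 X where
  toFun c := TruncatedWittVector.mk p fun _ => c
  map_zero' := ext_one p (by rw [TruncatedWittVector.coeff_mk, TruncatedWittVector.coeff_zero])
  map_add' c c' := ext_one p (by
    have h := map_add (cz p 0 (X := X)) (TruncatedWittVector.mk p fun _ => c)
      (TruncatedWittVector.mk p fun _ => c')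
    rw [cz_apply, cz_apply, cz_apply, TruncatedWittVector.coeff_mk, TruncatedWittVector.coeff_mk] at h
    rw [h, TruncatedWittVector.coeff_mk])

theorem coeff_one1 (c : X) : (one1 p c).coeff 0 = c := TruncatedWittVector.coeff_mk _ _

theorem one1_eq_truncate (A : WittVector p X) : one1 p (A.coeff 0) = WittVector.truncate 1 A :=
  ext_one p (by rw [coeff_one1, WittVector.coeff_truncate]; rfl)

/-! ### the last component -/

/-- `x ↦ (0, …, 0, x)` -/
noncomputable def lv (k : ℕ) : X →+ TruncatedWittVector p (k + 1) X :=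
  (shift p (Nat.succ_le_succ (Nat.zero_le k))).comp (one1 p)

theorem lv_apply (k : ℕ) (x : X) :
    lv p k x = shift p (Nat.succ_le_succ (Nat.zero_le k)) (one1 p x) := rfl

theorem coeff_lv_last (k : ℕ) (x : X) : (lv p k x).coeff (Fin.last k) = x := by
  rw [lv_apply, coeff_shift, dif_pos (by simp)]
  rw [← coeff_one1 p x]
  congr 1
  apply Fin.ext
  simp

theorem coeff_lv_of_lt (k : ℕ) (x : X) (i : Fin (k + 1)) (hi : (i : ℕ) < k) :
    (lv p k x).coeff i = 0 := by
  rw [lv_apply, coeff_shift, dif_neg]
  simp only [Nat.add_sub_cancel]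
  omega

theorem lv_injective (k : ℕ) : Function.Injective (lv p k (X := X)) := fun x y h => by
  rw [← coeff_lv_last p k x, h, coeff_lv_last]

theorem truncate_lv (k : ℕ) (x : X) :
    TruncatedWittVector.truncate (Nat.le_succ k) (lv p k x) = 0 := by
  refine TruncatedWittVector.ext fun i => ?_
  rw [TruncatedWittVector.coeff_truncate, TruncatedWittVector.coeff_zero]
  exact coeff_lv_of_lt p k x _ (by simp)

theorem eq_lv_of_truncate_eq_zero (k : ℕ) (z : TruncatedWittVector p (k + 1) X)
    (hz : TruncatedWittVector.truncate (Nat.le_succ k) z = 0) :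
    lv p k (z.coeff (Fin.last k)) = z := by
  refine TruncatedWittVector.ext fun i => ?_
  refine Fin.lastCases ?_ (fun j => ?_) i
  · rw [coeff_lv_last]
  · rw [coeff_lv_of_lt p k _ _ (by simp)]
    have h := congrArg (fun v => TruncatedWittVector.coeff j v) hz
    simp only [TruncatedWittVector.coeff_truncate, TruncatedWittVector.coeff_zero] at h
    exact h.symm

theorem truncMap_lv (k : ℕ) (f : X →+* Y) (x : X) :
    truncMap p (k + 1) f (lv p k x) = lv p k (f x) := by
  rw [lv_apply, truncMap_shift, lv_apply]
  have : truncMap p 1 f (one1 p x) = one1 p (f x) :=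
    ext_one p (by rw [coeff_truncMap, coeff_one1, coeff_one1])
  rw [this]

/-- `(0, …, 0, c₀)` is the truncation of `V^k C`. -/
theorem lv_eq_truncate (k : ℕ) (C : WittVector p X) :
    lv p k (C.coeff 0) = WittVector.truncate (k + 1) (WittVector.verschiebung^[k] C) := by
  rw [lv_apply, one1_eq_truncate, shift_truncate]
  rfl

/-! ### ghost components -/

/-- the `k`-th ghost component as a function on `W_{k+1}` -/
noncomputable def ghT (k : ℕ) (a : TruncatedWittVector p (k + 1) X) : X :=
  ∑ i : Fin (k + 1), (p : X) ^ (i : ℕ) * a.coeff i ^ p ^ (k - (i : ℕ))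

theorem ghT_truncate (k : ℕ) (A : WittVector p X) :
    ghT p k (WittVector.truncate (k + 1) A) = WittVector.ghostComponent k A := by
  rw [WittVector.ghostComponent_apply, aeval_wittPolynomial, ghT,
    ← Fin.sum_univ_eq_sum_range (fun i => (p : X) ^ i * A.coeff i ^ p ^ (k - i)) (k + 1)]
  refine Finset.sum_congr rfl fun i _ => ?_
  rw [WittVector.coeff_truncate]

/-- the `k`-th ghost component `W_{k+1}(X) →+* X` -/
noncomputable def gh (k : ℕ) : TruncatedWittVector p (k + 1) X →+* X where
  toFun := ghT p k
  map_one' := by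
    rw [← map_one (WittVector.truncate (p := p) (R := X) (k + 1)), ghT_truncate, map_one]
  map_zero' := by
    rw [← map_zero (WittVector.truncate (p := p) (R := X) (k + 1)), ghT_truncate, map_zero]
  map_mul' a b := by
    obtain ⟨A, rfl⟩ := WittVector.truncate_surjective p (k + 1) X a
    obtain ⟨B, rfl⟩ := WittVector.truncate_surjective p (k + 1) X b
    rw [← map_mul, ghT_truncate, ghT_truncate, ghT_truncate, map_mul]
  map_add' a b := by
    obtain ⟨A, rfl⟩ := WittVector.truncate_surjective p (k + 1) X a
    obtain ⟨B, rfl⟩ := WittVector.truncate_surjective p (k + 1) X b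
    rw [← map_add, ghT_truncate, ghT_truncate, ghT_truncate, map_add]

theorem gh_apply (k : ℕ) (a : TruncatedWittVector p (k + 1) X) : gh p k a = ghT p k a := rfl

theorem gh_truncate (k : ℕ) (A : WittVector p X) :
    gh p k (WittVector.truncate (k + 1) A) = WittVector.ghostComponent k A := ghT_truncate p k A

theorem gh_truncMap (k : ℕ) (f : X →+* Y) (a : TruncatedWittVector p (k + 1) X) :
    gh p k (truncMap p (k + 1) f a) = f (gh p k a) := by
  rw [gh_apply, gh_apply, ghT, ghT, map_sum]
  refine Finset.sum_congr rfl fun i _ => ?_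
  rw [coeff_truncMap, map_mul, map_pow, map_pow, map_natCast]

theorem gh_lv (k : ℕ) (x : X) : gh p k (lv p k x) = (p : X) ^ k * x := by
  rw [gh_apply, ghT, Fin.sum_univ_castSucc]
  rw [Finset.sum_eq_zero, zero_add, coeff_lv_last]
  · simp
  · intro i _
    rw [coeff_lv_of_lt p k x _ (by simp), zero_pow (pow_ne_zero _ hp.out.ne_zero), mul_zero]

/-! ### the projection formula -/

theorem ghost_iterate_frobenius (A : WittVector p X) (k n : ℕ) :
    WittVector.ghostComponent n (WittVector.frobenius^[k] A) = WittVector.ghostComponent (n + k) A := by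
  induction k generalizing n with
  | zero => rfl
  | succ k ih =>
    have e : n + 1 + k = n + (k + 1) := by omega
    rw [Function.iterate_succ_apply', WittVector.ghostComponent_frobenius, ih, e]

theorem ghost_zero (A : WittVector p X) : WittVector.ghostComponent 0 A = A.coeff 0 := by
  rw [WittVector.ghostComponent_apply, aeval_wittPolynomial]
  simp

theorem mul_iterate_verschiebung (k : ℕ) : ∀ (A B : WittVector p X),
    A * WittVector.verschiebung^[k] B =
      WittVector.verschiebung^[k] (WittVector.frobenius^[k] A * B) := by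
  induction k with
  | zero => intro A B; rfl
  | succ k ih =>
    intro A B
    rw [Function.iterate_succ_apply', Function.iterate_succ_apply', mul_comm,
      ← WittVector.verschiebung_mul_frobenius, mul_comm, ih, Function.iterate_succ_apply]

/-- **Projection formula**: `a * (0, …, 0, x) = (0, …, 0, w_k(a) x)`. -/
theorem mul_lv (k : ℕ) (a : TruncatedWittVector p (k + 1) X) (x : X) :
    a * lv p k x = lv p k (gh p k a * x) := by
  obtain ⟨A, rfl⟩ := WittVector.truncate_surjective p (k + 1) X a
  have h1 : lv p k x = WittVector.truncate (k + 1)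
      (WittVector.verschiebung^[k] (WittVector.teichmuller p x)) := by
    rw [← lv_eq_truncate, WittVector.teichmuller_coeff_zero]
  rw [h1, ← map_mul, mul_iterate_verschiebung, ← lv_eq_truncate, WittVector.mul_coeff_zero,
    WittVector.teichmuller_coeff_zero, ← ghost_zero, ghost_iterate_frobenius, zero_add, gh_truncate]

/-! ### nilpotency -/

theorem lv_natCast_mul (k : ℕ) (n : ℕ) (x : X) :
    lv p k ((n : X) * x) = (n : TruncatedWittVector p (k + 1) X) * lv p k x := by
  rw [← nsmul_eq_mul, map_nsmul, nsmul_eq_mul]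

theorem mem_ker_truncate_iff (k : ℕ) (z : TruncatedWittVector p (k + 1) X) :
    z ∈ RingHom.ker (TruncatedWittVector.truncate (p := p) (R := X) (Nat.le_succ k)) ↔
      ∃ x : X, lv p k x = z := by
  constructor
  · intro hz
    exact ⟨_, eq_lv_of_truncate_eq_zero p k z hz⟩
  · rintro ⟨x, rfl⟩
    exact truncate_lv p k x

theorem isNilpotent_ker_truncate (hpX : IsNilpotent (p : X)) (k : ℕ) :
    IsNilpotent (RingHom.ker
      (TruncatedWittVector.truncate (p := p) (R := X) (Nat.le_succ (k + 1)))) := by
  obtain ⟨M, hM⟩ := hpX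
  set I := RingHom.ker (TruncatedWittVector.truncate (p := p) (R := X) (Nat.le_succ (k + 1))) with hI
  set c : TruncatedWittVector p (k + 1 + 1) X := ((p ^ (k + 1) : ℕ) : TruncatedWittVector p (k + 1 + 1) X)
    with hc
  have hB : I * I ≤ Ideal.span {c} * I := by
    rw [Ideal.mul_le]
    intro a ha b hb
    obtain ⟨x, rfl⟩ := (mem_ker_truncate_iff p (k + 1) a).mp ha
    obtain ⟨y, rfl⟩ := (mem_ker_truncate_iff p (k + 1) b).mp hb
    rw [mul_lv, gh_lv, mul_assoc]
    have : ((p : X) ^ (k + 1) * (x * y)) = ((p ^ (k + 1) : ℕ) : X) * (x * y) := by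
      rw [Nat.cast_pow]
    rw [this, lv_natCast_mul]
    exact Ideal.mul_mem_mul (Ideal.mem_span_singleton_self _)
      ((mem_ker_truncate_iff p (k + 1) _).mpr ⟨_, rfl⟩)
  have hA : ∀ m : ℕ, I ^ (m + 1) ≤ Ideal.span {c ^ m} * I := by
    intro m
    induction m with
    | zero => rw [pow_zero, zero_add, pow_one, Ideal.span_singleton_one, Ideal.top_mul]
    | succ m ih =>
      calc I ^ (m + 1 + 1) = I ^ (m + 1) * I := pow_succ _ _
        _ ≤ (Ideal.span {c ^ m} * I) * I := Ideal.mul_mono_left ih
        _ = Ideal.span {c ^ m} * (I * I) := mul_assoc _ _ _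
        _ ≤ Ideal.span {c ^ m} * (Ideal.span {c} * I) := Ideal.mul_mono_right hB
        _ = Ideal.span {c ^ (m + 1)} * I := by
          rw [← mul_assoc, Ideal.span_singleton_mul_span_singleton, pow_succ]
  refine ⟨M + 1, ?_⟩
  rw [Ideal.zero_eq_bot, eq_bot_iff]
  refine (hA M).trans ?_
  rw [Ideal.mul_le]
  intro d hd a ha
  obtain ⟨e, rfl⟩ := Ideal.mem_span_singleton'.mp hd
  obtain ⟨x, rfl⟩ := (mem_ker_truncate_iff p (k + 1) a).mp ha
  have h0 : c ^ M * lv p (k + 1) x = 0 := by
    rw [hc, ← Nat.cast_pow, ← lv_natCast_mul]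
    have : (((p ^ (k + 1)) ^ M : ℕ) : X) = 0 := by
      rw [← pow_mul, mul_comm, pow_mul, Nat.cast_pow, Nat.cast_pow, hM, zero_pow (Nat.succ_ne_zero k)]
    rw [this, zero_mul, map_zero]
  rw [Ideal.mem_bot, mul_assoc, h0, mul_zero]

theorem isNilpotent_ker_comp {A B C : Type*} [CommRing A] [CommRing B] [CommRing C] (f : A →+* B)
    (g : B →+* C) (hf : IsNilpotent (RingHom.ker f)) (hg : IsNilpotent (RingHom.ker g)) :
    IsNilpotent (RingHom.ker (g.comp f)) := by
  obtain ⟨a, ha⟩ := hf
  obtain ⟨b, hb⟩ := hg
  refine ⟨b * a, ?_⟩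
  rw [Ideal.zero_eq_bot] at ha hb ⊢
  rw [eq_bot_iff, ← RingHom.comap_ker, pow_mul, ← ha]
  refine Ideal.pow_right_mono ?_ a
  refine (Ideal.le_comap_pow f b).trans ?_
  rw [hb]
  exact le_of_eq rfl

theorem isNilpotent_ker_cz (hpX : IsNilpotent (p : X)) (k : ℕ) :
    IsNilpotent (RingHom.ker (cz p k (X := X))) := by
  induction k with
  | zero =>
    have : RingHom.ker (cz p 0 (X := X)) = ⊥ := (RingHom.injective_iff_ker_eq_bot _).mp (cz_zero_injective p)
    rw [this]
    exact ⟨1, pow_one _⟩
  | succ k ih =>
    have h : cz p (k + 1) (X := X) =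
        (cz p k).comp (TruncatedWittVector.truncate (p := p) (R := X) (Nat.le_succ (k + 1))) := by
      ext a
      exact (cz_truncate p (Nat.le_succ (k + 1)) a).symm
    rw [h]
    exact isNilpotent_ker_comp _ _ (isNilpotent_ker_truncate p hpX k) ih

end ring

end Groth.Agent.Lib.Seat79.WDesc.WittAlg
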