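import Groth.Agent.Lib.Seat79WDescBase
import Groth.Agent.Lib.Seat79WDescWittAlg

/-!
# Seat79: effectivity of descent for truncated Witt vectors, in coaction form

`Wf p k` is the functor `X ↦ W_k(X)` as an `RFun`.  `witt_main`: for `R → S` faithfully flat with `p`
nilpotent in `R`, every descent datum (`DD`) on a finitely generated projective `W_{m+1}(S)`-module `N` comes
from a finitely generated projective `W_{m+1}(R)`-module `X`.
-/

set_option autoImplicit false
set_option linter.style.haveILetI false
set_option linter.unusedSectionVars false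
set_option linter.unusedVariables false
set_option backward.isDefEq.respectTransparency false
set_option backward.isDefEq.respectTransparency.types false
set_option backward.defeqAttrib.useBackward true

open TensorProduct ChangeOfRings CategoryTheory
open Groth.Agent.Lib.Seat78.EffAlg Groth.Agent.Lib.Seat78.EffMain Groth.Agent.Lib.Seat78.ExtPF
open WittGrp

universe u

namespace Groth.Agent.Lib.Seat79.WDesc

open WittAlg

variable (p : ℕ) [hp : Fact p.Prime]

/-- truncated Witt vectors of length `k` as a functor -/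
@[reducible] noncomputable def Wf (k : ℕ) : RFun.{u} where
  obj X _ := TruncatedWittVector p k X
  ring X _ := inferInstance
  map f := truncMap p k f
  map_id X _ a := by rw [truncMap_id]; rfl
  map_comp f g a := by rw [truncMap_comp]; rfl

/-- the truncation `W_m → W_k` -/
noncomputable def trW {k m : ℕ} (h : k ≤ m) : RNat (Wf.{u} p m) (Wf.{u} p k) where
  app X _ := TruncatedWittVector.truncate h
  nat f a := (truncMap_truncateLE p h f a).symm

/-- the zeroth component `W_{k+1} → Id` -/
noncomputable def czW (k : ℕ) : RNat (Wf.{u} p (k + 1)) RFun.idF.{u} where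
  app X _ := cz p k
  nat f a := cz_truncMap p k f a

/-- the `k`-th ghost component `W_{k+1} → Id` -/
noncomputable def ghW (k : ℕ) : RNat (Wf.{u} p (k + 1)) RFun.idF.{u} where
  app X _ := gh p k
  nat f a := gh_truncMap p k f a

/-- the last component `Id → W_{k+1}` as an `ANat` over any `τ : F → W_{k+1}` -/
noncomputable def lvW {F : RFun.{u}} (k : ℕ) (τ : RNat F (Wf.{u} p (k + 1))) :
    ANat ((ghW p k).comp τ) τ where
  app X _ := lv p k
  nat f q := (truncMap_lv p k f q).symm
  lin X _ a q := (mul_lv p k (τ.app X a) q).symm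

theorem truncate_self {k : ℕ} {X : Type u} [CommRing X] (a : TruncatedWittVector p k X) :
    TruncatedWittVector.truncate (le_refl k) a = a := by
  refine TruncatedWittVector.ext fun i => ?_
  rw [TruncatedWittVector.coeff_truncate]
  rfl

section chain
variable (m : ℕ) (R : Type u) {S : Type u} [CommRing R] [CommRing S] [Algebra R S]
  [Module.FaithfullyFlat R S] {N : ModuleCat.{u} ((Wf.{u} p (m + 1)).obj S)}
  [Module.Projective ((Wf.{u} p (m + 1)).obj S) N]
  (D : DD R (Wf.{u} p (m + 1)) N)
  (X : ModuleCat.{u} ((Wf.{u} p (m + 1)).obj R)) [Module.Projective ((Wf.{u} p (m + 1)).obj R) X]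

theorem sol_chain (hpS : IsNilpotent (p : S)) (s0 : Sol R D (czW p m) X) :
    ∀ (k : ℕ) (hk : k + 1 ≤ m + 1), Nonempty (Sol R D (trW p hk) X) := by
  intro k
  induction k with
  | zero =>
    intro hk
    have hT : ∀ (Y : Type u) [CommRing Y] (a : (Wf.{u} p (m + 1)).obj Y),
        (czW p 0).app Y ((trW p hk).app Y a) = (czW p m).app Y a :=
      fun Y _ a => cz_truncate p hk a
    exact step R D (czW p 0) hT (cz_surjective p 0) (isNilpotent_ker_cz p hpS 0)
      (lift_inv_iso R D (czW p 0) hT (cz_surjective p 0) (cz_zero_injective p)) X s0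
  | succ k ih =>
    intro hk
    have hk' : k + 1 ≤ m + 1 := by omega
    obtain ⟨sb⟩ := ih hk'
    have hT : ∀ (Y : Type u) [CommRing Y] (a : (Wf.{u} p (m + 1)).obj Y),
        (trW p (Nat.le_succ (k + 1))).app Y ((trW p hk).app Y a) = (trW p hk').app Y a :=
      fun Y _ a => TruncatedWittVector.truncate_truncate (Nat.le_succ (k + 1)) hk a
    exact step R D (trW p (Nat.le_succ (k + 1))) hT
      (TruncatedWittVector.truncate_surjective (Nat.le_succ (k + 1))) (isNilpotent_ker_truncate p hpS k)
      (lift_inv R D (trW p (Nat.le_succ (k + 1))) hT ((ghW p (k + 1)).comp (trW p hk))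
        (lvW p (k + 1) (trW p hk))
        (fun Y _ => TruncatedWittVector.truncate_surjective (Nat.le_succ (k + 1)))
        (fun Y _ q hq => ⟨_, eq_lv_of_truncate_eq_zero p (k + 1) q hq⟩)
        (fun Y _ b => truncate_lv p (k + 1) b)
        (fun Y _ => lv_injective p (k + 1))) X sb

end chain

/-- **Effectivity of descent for truncated Witt vectors** (coaction form). -/
theorem witt_main (m : ℕ) (R : Type u) {S : Type u} [CommRing R] [CommRing S] [Algebra R S]
    [Module.FaithfullyFlat R S] (hpR : IsNilpotent (p : R))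
    {N : ModuleCat.{u} ((Wf.{u} p (m + 1)).obj S)}
    [Module.Finite ((Wf.{u} p (m + 1)).obj S) N] [Module.Projective ((Wf.{u} p (m + 1)).obj S) N]
    (D : DD R (Wf.{u} p (m + 1)) N) :
    ∃ X : ModuleCat.{u} ((Wf.{u} p (m + 1)).obj R),
      Module.Finite ((Wf.{u} p (m + 1)).obj R) X ∧ Module.Projective ((Wf.{u} p (m + 1)).obj R) X ∧
      ∃ e : E ((Wf.{u} p (m + 1)).map (algebraMap R S)) X ≅ N, ∀ x : X,
        D.β (ev e.hom ((1 : (Wf.{u} p (m + 1)).obj S) ⊗ₜ[(Wf.{u} p (m + 1)).obj R,
            (Wf.{u} p (m + 1)).map (algebraMap R S)] x)) =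
          (1 : (Wf.{u} p (m + 1)).obj (S ⊗[R] S)) ⊗ₜ[(Wf.{u} p (m + 1)).obj S,
            (Wf.{u} p (m + 1)).map (i₂ R)]
            (ev e.hom ((1 : (Wf.{u} p (m + 1)).obj S) ⊗ₜ[(Wf.{u} p (m + 1)).obj R,
              (Wf.{u} p (m + 1)).map (algebraMap R S)] x)) := by
  have hpS : IsNilpotent (p : S) := by
    have := hpR.map (algebraMap R S)
    rwa [map_natCast] at this
  obtain ⟨X, hXf, hXp, ⟨s0⟩⟩ := base R D (czW p m) (cz_surjective p m) (isNilpotent_ker_cz p hpR m)
  obtain ⟨s⟩ := sol_chain p m R D X hpS s0 m le_rfl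
  obtain ⟨e, he⟩ := final R D (trW p (le_refl (m + 1))) (fun Y _ a => truncate_self p a) X s
  exact ⟨X, hXf, hXp, e, he⟩

end Groth.Agent.Lib.Seat79.WDesc
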