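import Groth.Agent.Lib.Seat7KRDescentA
import Groth.Agent.Lib.Seat40KoszulLow
import Groth.Agent.Lib.Seat31KoszulRes

/-!
# Seat7: `H_1`-regular sequences via Koszul homology in degree `-1`

* `h1_iff`: a list is `H_1`-regular iff `H^{-1}` of its Koszul complex vanishes;
* degree-wise versions of the statements of `Seat7KRDescentA` (units, faithfully flat descent,
  Zariski-local nature);
* `subsingleton_KH_neg_one_of_span_eq`: independence of generators for `H^{-1}`.
-/

set_option autoImplicit false
universe u

namespace Groth.Agent.Lib.Seat7.H1DescentA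

open CategoryTheory CochainComplex MonoidalCategory CohIII
open Groth.Agent.Lib.Helper21 Groth.Agent.Helper13Kz Groth.Agent.Helper13KzLift
open Groth.Agent.Lib.Seat74.KoszulSplit Groth.Agent.Lib.Seat7.KRDescentA
open scoped TensorProduct

section Low

variable {A : Type u} [CommRing A]

open Groth.Agent.Lib.Seat40.KoszulLow in
/-- `H_1`-regularity forces `H^{-1}` of the Koszul complex to vanish. -/
theorem homology_zero_of_h1 (l : List A) (h : CAlgX.IsH1Regular l.get) :
    Limits.IsZero ((Koszul.koszul A l).homology (-1)) := by
  obtain ⟨-, ε, ρ, hd1, hd2⟩ := lowData_koszul l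
  rw [← HomologicalComplex.exactAt_iff_isZero_homology,
    HomologicalComplex.exactAt_iff' _ (-2) (-1) 0 (by simp) (by simp),
    ShortComplex.moduleCat_exact_iff]
  intro z hz
  have ha : ∑ i, ρ z i * l.get i = 0 := by
    rw [← hd1]
    change ε (((Koszul.koszul A l).d (-1) 0).hom z) = 0
    have hz' : ((Koszul.koszul A l).d (-1) 0).hom z = 0 := hz
    rw [hz', map_zero]
  have h1 : ρ z ∈ triv l.get := h (ρ z) ha
  rw [← hd2] at h1
  obtain ⟨_, ⟨w, rfl⟩, hw⟩ := h1
  exact ⟨w, ρ.injective hw⟩

theorem h1_iff (l : List A) :
    CAlgX.IsH1Regular l.get ↔ Subsingleton (KH l A (-1)) := by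
  constructor
  · intro h
    have h1 := homology_zero_of_h1 l h
    exact ModuleCat.subsingleton_of_isZero ((isZero_congr (koszul_eq A l) (-1)).mp h1)
  · intro h a ha
    have h1 : Limits.IsZero ((Koszul.koszul A l).homology (-1)) :=
      (isZero_congr (koszul_eq A l) (-1)).mpr (@ModuleCat.isZero_of_subsingleton _ _ _ h)
    exact Groth.Agent.Lib.Seat40.KoszulLow.h1_of_homology_zero l h1 a ha

end Low

section Degreewise

variable {R : Type u} [CommRing R]

theorem subsingleton_KH_of_span_eq_top (l : List R) (h : Ideal.span {x | x ∈ l} = ⊤) (i : ℤ) :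
    Subsingleton (KH l R i) := by
  refine ⟨fun a b => ?_⟩
  have h1 : (1 : R) ∈ Ideal.span {x | x ∈ l} := by rw [h]; trivial
  have ha := smul_KH_eq_zero_of_mem R l 1 h1 i a
  have hb := smul_KH_eq_zero_of_mem R l 1 h1 i b
  rw [one_smul] at ha hb
  rw [ha, hb]

variable {S T : Type u} [CommRing S] [CommRing T]

/-- Koszul homology of `T` as an `S`-module from that of the image list. -/
theorem subsingleton_KH_algebra' [Algebra S T] (l : List S) (i : ℤ)
    (h : Subsingleton (KH (l.map (algebraMap S T)) T i)) : Subsingleton (KH l T i) := by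
  have h1 : Limits.IsZero ((koszulCx (ModuleCat.of T T) (l.map (algebraMap S T))).homology i) :=
    @ModuleCat.isZero_of_subsingleton _ _ _ h
  have h2 := isZero_homology_restrict (algebraMap S T) (ModuleCat.of T T) l i h1
  let e : ((ModuleCat.restrictScalars (algebraMap S T)).obj (ModuleCat.of T T)) ≃ₗ[S] T :=
    { toFun := fun x => x
      invFun := fun x => x
      left_inv := fun _ => rfl
      right_inv := fun _ => rfl
      map_add' := fun _ _ => rfl
      map_smul' := fun a x => (Algebra.smul_def (A := T) a x).symm }
  have h3 : Subsingleton (KH l ((ModuleCat.restrictScalars (algebraMap S T)).obj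
      (ModuleCat.of T T)) i) := ModuleCat.subsingleton_of_isZero h2
  exact subsingleton_KH_of_equiv l e i h3

/-- the converse: Koszul homology of the image list from that of `T` as an `S`-module. -/
theorem subsingleton_KH_map [Algebra S T] (l : List S) (i : ℤ)
    (h : Subsingleton (KH l T i)) : Subsingleton (KH (l.map (algebraMap S T)) T i) := by
  let e : T ≃ₗ[S] ((ModuleCat.restrictScalars (algebraMap S T)).obj (ModuleCat.of T T)) :=
    { toFun := fun x => x
      invFun := fun x => x
      left_inv := fun _ => rfl
      right_inv := fun _ => rfl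
      map_add' := fun _ _ => rfl
      map_smul' := fun a x => Algebra.smul_def (A := T) a x }
  have h3 : Subsingleton (KH l ((ModuleCat.restrictScalars (algebraMap S T)).obj
      (ModuleCat.of T T)) i) := subsingleton_KH_of_equiv l e i h
  have h4 : Limits.IsZero ((koszulCx ((ModuleCat.restrictScalars (algebraMap S T)).obj
      (ModuleCat.of T T)) l).homology i) := @ModuleCat.isZero_of_subsingleton _ _ _ h3
  exact ModuleCat.subsingleton_of_isZero
    (Groth.Agent.Lib.Seat40.RegSeqFlat.isZero_homology_of_restrict (algebraMap S T)
      (ModuleCat.of T T) l i h4)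

/-- degree-wise faithfully flat descent of vanishing of Koszul homology. -/
theorem subsingleton_KH_of_faithfullyFlat [Algebra S T] [Module.FaithfullyFlat S T] (l : List S)
    (i : ℤ) (h : Subsingleton (KH (l.map (algebraMap S T)) T i)) : Subsingleton (KH l S i) := by
  have h1 : Subsingleton (KH l T i) := subsingleton_KH_algebra' l i h
  have h2 : Subsingleton (KH l (S ⊗[S] T) i) :=
    subsingleton_KH_of_equiv l (TensorProduct.lid S T).symm i h1
  exact subsingleton_KH_of_tensor_faithfullyFlat S T l i h2

/-- degree-wise flat base change of vanishing of Koszul homology. -/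
theorem subsingleton_KH_of_flat [Algebra S T] [Module.Flat S T] (l : List S)
    (i : ℤ) (h : Subsingleton (KH l S i)) : Subsingleton (KH (l.map (algebraMap S T)) T i) := by
  have h1 : Subsingleton (KH l (S ⊗[S] T) i) := subsingleton_KH_tensor_flat S T l i h
  have h2 : Subsingleton (KH l T i) := subsingleton_KH_of_equiv l (TensorProduct.lid S T) i h1
  exact subsingleton_KH_map l i h2

variable {C : Type u} [CommRing C]

/-- degree-wise: vanishing of Koszul homology can be checked on a standard open cover. -/
theorem subsingleton_KH_of_span (l : List C) (i : ℤ) (s : Set C) (hs : Ideal.span s = ⊤)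
    (H : ∀ h ∈ s, Subsingleton (KH (l.map (algebraMap C (Localization.Away h)))
      (Localization.Away h) i)) :
    Subsingleton (KH l C i) := by
  apply ModuleCat.subsingleton_of_isZero
  rw [← HomologicalComplex.exactAt_iff_isZero_homology]
  change ((koszulCx (ModuleCat.of C C) l).sc i).Exact
  rw [ShortComplex.ShortExact.moduleCat_exact_iff_function_exact]
  apply Module.FaithfullyFlat.lTensor_reflects_exact C C
  refine Groth.Agent.Lib.Seat0.FTD.exact_lTensor_of_span _ _ s hs (fun r => ?_)
  rw [← LinearMap.rTensor_exact_iff_lTensor_exact]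
  have h1 : Subsingleton (KH l (Localization.Away (r : C)) i) :=
    subsingleton_KH_algebra' l i (H r r.2)
  have h2 : Subsingleton (KH l (C ⊗[C] Localization.Away (r : C)) i) :=
    subsingleton_KH_of_equiv l (TensorProduct.lid C _).symm i h1
  have h3 : Limits.IsZero ((koszulCx (ModuleCat.of C C ⊗
      ModuleCat.of C (Localization.Away (r : C))) l).homology i) :=
    @ModuleCat.isZero_of_subsingleton _ _ _ h2
  rw [isZero_homology_tensor_iff, ShortComplex.ShortExact.moduleCat_exact_iff_function_exact] at h3
  exact h3

theorem subsingleton_KH_of_forall_prime (l : List C) (i : ℤ)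
    (H : ∀ Q : Ideal C, Q.IsPrime → ∃ h : C, h ∉ Q ∧
      Subsingleton (KH (l.map (algebraMap C (Localization.Away h))) (Localization.Away h) i)) :
    Subsingleton (KH l C i) := by
  let s : Set C := {h | Subsingleton (KH (l.map (algebraMap C (Localization.Away h)))
      (Localization.Away h) i)}
  refine subsingleton_KH_of_span l i s ?_ (fun h hh => hh)
  by_contra hne
  obtain ⟨Q, hQ, hle⟩ := Ideal.exists_le_maximal _ hne
  obtain ⟨h, hhQ, hh⟩ := H Q hQ.isPrime
  exact hhQ (hle (Ideal.subset_span hh))

end Degreewise

end Groth.Agent.Lib.Seat7.H1DescentA
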