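import Groth.Agent.Lib.Seat7H1DescentA
import Groth.Agent.S2103

/-!
# Seat7: independence of generators for `H_1`-regularity

* `W_zero_equiv`, `W_neg_one_equiv`: the low degree part of the splitting module `W`;
* `subsingleton_KH_neg_one_of_span_eq`: if `k` has vanishing `H^{-1}` and `q` has the same length
  and generates the same ideal, then `q` has vanishing `H^{-1}`;
* `h1_of_indep`: counting version.
-/

set_option autoImplicit false
universe u

namespace Groth.Agent.Lib.Seat7.H1DescentB

open CategoryTheory CochainComplex CohIII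
open Groth.Agent.Lib.Helper21 Groth.Agent.Helper13Kz Groth.Agent.Helper13KzLift
open Groth.Agent.Lib.Seat74.KoszulSplit Groth.Agent.Lib.Seat7.KRDescentA
open Groth.Agent.Lib.Seat7.H1DescentA Groth.Agent.Lib.Seat31.KR

section W

variable {A : Type u} [CommRing A] (V : ℤ → Type u) [∀ k, AddCommGroup (V k)]
  [∀ k, Module A (V k)]

theorem W_zero_equiv (hV : ∀ j : ℤ, 0 < j → Subsingleton (V j)) :
    ∀ r : ℕ, Nonempty (W V r 0 ≃ₗ[A] V 0)
  | 0 => by
    obtain ⟨e⟩ := W_zero (A := A) V 0
    exact ⟨e.symm⟩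
  | r + 1 => by
    obtain ⟨e⟩ := W_succ (A := A) V r 0
    obtain ⟨e'⟩ := W_zero_equiv hV r
    haveI : Subsingleton (W V r (0 + 1)) :=
      subsingleton_W V r (0 + 1) (fun j _ => hV _ (by omega))
    letI : Unique (W V r (0 + 1)) := uniqueOfSubsingleton 0
    exact ⟨e.symm.trans ((LinearEquiv.prodUnique (R := A)).trans e')⟩

theorem W_neg_one_equiv (hV : ∀ j : ℤ, 0 < j → Subsingleton (V j))
    (Q : Type u) [AddCommGroup Q] [Module A Q] (e0 : V 0 ≃ₗ[A] Q) :
    ∀ r : ℕ, Nonempty (W V r (-1) ≃ₗ[A] V (-1) × (Fin r → Q))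
  | 0 => by
    obtain ⟨e⟩ := W_zero (A := A) V (-1)
    exact ⟨e.symm.trans (LinearEquiv.prodUnique (R := A) (M := V (-1)) (M₂ := Fin 0 → Q)).symm⟩
  | r + 1 => by
    obtain ⟨e⟩ := W_succ (A := A) V r (-1)
    obtain ⟨e1⟩ := W_neg_one_equiv hV Q e0 r
    obtain ⟨e2⟩ := W_zero_equiv (A := A) V hV r
    have h0 : (-1 : ℤ) + 1 = 0 := by norm_num
    rw [h0] at e
    have e3 : (W V r (-1) × W V r 0) ≃ₗ[A] (V (-1) × (Fin r → Q)) × Q :=
      e1.prodCongr (e2.trans e0)
    have e4 : ((V (-1) × (Fin r → Q)) × Q) ≃ₗ[A] V (-1) × ((Fin r → Q) × Q) :=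
      LinearEquiv.prodAssoc A _ _ _
    have e5 : ((Fin r → Q) × Q) ≃ₗ[A] (Fin (r + 1) → Q) :=
      (LinearEquiv.prodComm A _ _).trans (Fin.consLinearEquiv A (fun _ : Fin (r + 1) => Q))
    exact ⟨e.symm.trans (e3.trans (e4.trans ((LinearEquiv.refl A _).prodCongr e5)))⟩

end W

section SpanEq

variable {R : Type u} [CommRing R]

theorem nonempty_KH_zero_equiv (l : List R) :
    Nonempty (KH l R 0 ≃ₗ[R] R ⧸ Ideal.ofList l) := by
  obtain ⟨e⟩ := Groth.Agent.Lib.Seat31.KoszulRes.nonempty_homology_zero_iso l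
  rw [Groth.Agent.Lib.Seat31.KoszulRes.koszul_eq] at e
  exact ⟨e.toLinearEquiv⟩

/-- Orzech: a module `V` with `V × N ≃ N` for a finite module `N` is trivial. -/
theorem subsingleton_of_prod_equiv {V N : Type u} [AddCommGroup V] [Module R V] [AddCommGroup N]
    [Module R N] [Module.Finite R N] (e : (V × N) ≃ₗ[R] N) : Subsingleton V := by
  let ψ : N →ₗ[R] N := (LinearMap.snd R V N).comp e.symm.toLinearMap
  have hψ : Function.Surjective ψ :=
    (LinearMap.snd_surjective (R := R) (M := V) (M₂ := N)).comp e.symm.surjective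
  have hinj : Function.Injective ψ := OrzechProperty.injective_of_surjective_endomorphism ψ hψ
  refine ⟨fun a b => ?_⟩
  have key : ∀ v : V, v = 0 := by
    intro v
    have h1 : ψ (e (v, 0)) = 0 := by
      change (e.symm (e (v, 0))).2 = 0
      rw [LinearEquiv.symm_apply_apply]
    have h2 : e (v, 0) = 0 := hinj (h1.trans (map_zero ψ).symm)
    have h3 : ((v, 0) : V × N) = 0 := e.injective (h2.trans (map_zero e).symm)
    exact congrArg Prod.fst h3
  rw [key a, key b]

/-- **Independence of generators for `H^{-1}`**. -/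
theorem subsingleton_KH_neg_one_of_span_eq (k q : List R)
    (hk : Subsingleton (KH k R (-1))) (hlen : q.length = k.length)
    (hqk : ∀ y ∈ q, y ∈ Ideal.span {a | a ∈ k}) (hkq : ∀ x ∈ k, x ∈ Ideal.span {a | a ∈ q}) :
    Subsingleton (KH q R (-1)) := by
  have hJ : Ideal.ofList q = Ideal.ofList k :=
    le_antisymm (Ideal.span_le.2 hqk) (Ideal.span_le.2 hkq)
  obtain ⟨ek⟩ := nonempty_KH_zero_equiv k
  obtain ⟨eq'⟩ := nonempty_KH_zero_equiv q
  rw [hJ] at eq'
  obtain ⟨eA⟩ := koszulCx_append_split (ModuleCat.of R R) k (fun j => KH k R j)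
    (fun j => LinearEquiv.refl _ _) q hqk (-1)
  obtain ⟨eB⟩ := koszulCx_append_split (ModuleCat.of R R) q (fun j => KH q R j)
    (fun j => LinearEquiv.refl _ _) k hkq (-1)
  obtain ⟨p⟩ := koszulCx_perm (ModuleCat.of R R) (List.perm_append_comm (l₁ := q) (l₂ := k))
  have eP : (koszulCx (ModuleCat.of R R) (q ++ k)).homology (-1) ≃ₗ[R]
      (koszulCx (ModuleCat.of R R) (k ++ q)).homology (-1) :=
    ((HomologicalComplex.homologyFunctor (ModuleCat.{u} R) (ComplexShape.up ℤ)
      (-1)).mapIso p).toLinearEquiv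
  obtain ⟨wA⟩ := W_neg_one_equiv (A := R) (fun j => KH k R j)
    (fun j hj => subsingleton_KH_pos R k j hj) (R ⧸ Ideal.ofList k) ek q.length
  obtain ⟨wB⟩ := W_neg_one_equiv (A := R) (fun j => KH q R j)
    (fun j hj => subsingleton_KH_pos R q j hj) (R ⧸ Ideal.ofList k) eq' k.length
  rw [hlen] at wA eA
  -- `KH q R (-1) × N ≃ KH k R (-1) × N ≃ N`
  letI : Unique (KH k R (-1)) := uniqueOfSubsingleton 0
  have e1 : (KH q R (-1) × (Fin k.length → R ⧸ Ideal.ofList k)) ≃ₗ[R]
      (KH k R (-1) × (Fin k.length → R ⧸ Ideal.ofList k)) :=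
    wB.symm.trans (eB.symm.trans (eP.symm.trans (eA.trans wA)))
  have e2 : (KH k R (-1) × (Fin k.length → R ⧸ Ideal.ofList k)) ≃ₗ[R]
      (Fin k.length → R ⧸ Ideal.ofList k) := LinearEquiv.uniqueProd (R := R)
  exact subsingleton_of_prod_equiv (e1.trans e2)

end SpanEq

section Count

variable {R : Type u} [CommRing R]

/-- strict independence modulo `J²` from quasi-regularity. -/
theorem indep_of_quasi {c : ℕ} (f : Fin c → R) (h : CAlgX.IsQuasiRegular f) (a : Fin c → R)
    (ha : ∑ i, a i * f i ∈ Ideal.span (Set.range f) ^ 2) (i : Fin c) :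
    a i ∈ Ideal.span (Set.range f) := by
  classical
  set P : MvPolynomial (Fin c) R := ∑ j, MvPolynomial.C (a j) * MvPolynomial.X j with hPdef
  have hP : P.IsHomogeneous 1 := by
    apply MvPolynomial.IsHomogeneous.sum
    intro j _
    have := (MvPolynomial.isHomogeneous_C (Fin c) (a j)).mul (MvPolynomial.isHomogeneous_X R j)
    simpa using this
  have hev : MvPolynomial.eval f P = ∑ j, a j * f j := by
    simp [hPdef]
  have key := h 1 P hP (by rw [hev]; exact ha) (Finsupp.single i 1)
  have hcoeff : P.coeff (Finsupp.single i 1) = a i := by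
    rw [hPdef, MvPolynomial.coeff_sum]
    have : ∀ j, MvPolynomial.coeff (Finsupp.single i 1)
        (MvPolynomial.C (a j) * MvPolynomial.X j : MvPolynomial (Fin c) R) =
        if j = i then a j else 0 := by
      intro j
      rw [MvPolynomial.coeff_C_mul, MvPolynomial.coeff_X']
      by_cases hji : j = i
      · subst hji
        simp
      · rw [if_neg hji, if_neg, mul_zero]
        intro hEq
        exact hji ((Finsupp.single_left_inj (one_ne_zero)).1 hEq)
    simp_rw [this]
    rw [Finset.sum_ite_eq' Finset.univ i, if_pos (Finset.mem_univ i)]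
  rwa [hcoeff] at key

/-- generators independent modulo `J²` give a basis of the conormal module, so a generating
family has at least as many members. -/
theorem card_le_of_indep {J : Ideal R} (hJ : J ≠ ⊤) {r s : ℕ} (x : Fin r → R)
    (hx : Ideal.span (Set.range x) = J)
    (hind : ∀ c : Fin r → R, ∑ i, c i * x i ∈ J ^ 2 → ∀ i, c i ∈ J)
    (y : Fin s → R) (hy : Ideal.span (Set.range y) = J) : r ≤ s := by
  classical
  haveI : Nontrivial (R ⧸ J) := Ideal.Quotient.nontrivial_iff.2 hJ
  have hmemx : ∀ i, x i ∈ J := fun i => hx ▸ Ideal.subset_span ⟨i, rfl⟩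
  have hmemy : ∀ i, y i ∈ J := fun i => hy ▸ Ideal.subset_span ⟨i, rfl⟩
  have hspan : ∀ {t : ℕ} (z : Fin t → R) (hz : Ideal.span (Set.range z) = J)
      (hmem : ∀ i, z i ∈ J),
      Submodule.span (R ⧸ J) (Set.range fun i => J.toCotangent ⟨z i, hmem i⟩) = ⊤ := by
    intro t z hz hmem
    have hvR : Submodule.span R (Set.range fun i => J.toCotangent ⟨z i, hmem i⟩) = ⊤ := by
      rw [eq_top_iff]
      intro m _
      obtain ⟨w, rfl⟩ := Ideal.toCotangent_surjective J m
      have hw : (w : R) ∈ Ideal.span (Set.range z) := by rw [hz]; exact w.2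
      obtain ⟨a, ha⟩ := (Ideal.mem_span_range_iff_exists_fun).1 hw
      have hw' : w = ∑ j, a j • (⟨z j, hmem j⟩ : J) := by
        apply Subtype.ext
        rw [← ha, Submodule.coe_sum]
        rfl
      rw [hw', map_sum]
      refine Submodule.sum_mem _ fun j _ => ?_
      rw [map_smul]
      exact Submodule.smul_mem _ _ (Submodule.subset_span ⟨j, rfl⟩)
    rw [eq_top_iff]
    intro m _
    have : m ∈ Submodule.span R (Set.range fun i => J.toCotangent ⟨z i, hmem i⟩) := by
      rw [hvR]; trivial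
    exact Submodule.span_le_restrictScalars R (R ⧸ J) _ this
  let v : Fin r → J.Cotangent := fun i => J.toCotangent ⟨x i, hmemx i⟩
  have hli : LinearIndependent (R ⧸ J) v := by
    rw [Fintype.linearIndependent_iff]
    intro c hc i
    choose c' hc' using fun i => Ideal.Quotient.mk_surjective (c i)
    have h0 : J.toCotangent (∑ i, c' i • (⟨x i, hmemx i⟩ : J)) = 0 := by
      rw [map_sum, ← hc]
      refine Finset.sum_congr rfl fun i _ => ?_
      rw [map_smul, ← hc' i, ← Ideal.Quotient.algebraMap_eq, algebraMap_smul]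
    rw [Ideal.toCotangent_eq_zero] at h0
    have h2 := hind c' (by
      convert h0 using 1
      rw [Submodule.coe_sum]
      rfl) i
    rw [← hc' i]
    exact Ideal.Quotient.eq_zero_iff_mem.2 h2
  let b : Module.Basis (Fin r) (R ⧸ J) J.Cotangent :=
    Module.Basis.mk hli (hspan x hx hmemx).ge
  haveI : Module.Finite (R ⧸ J) J.Cotangent := Module.Finite.of_basis b
  have h1 := finrank_le_of_span_eq_top (hspan y hy hmemy)
  rw [Module.finrank_eq_card_basis b] at h1
  simpa using h1

/-- **Counting for `H^{-1}`**: if a proper ideal `J` is generated by a list with vanishing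
`H^{-1}`, then any system of generators of `J` which is independent modulo `J²` has vanishing
`H^{-1}`. -/
theorem h1_of_indep {J : Ideal R} (hJ : J ≠ ⊤) (l : List R) (hl : Subsingleton (KH l R (-1)))
    (hlJ : Ideal.span {a | a ∈ l} = J) {r : ℕ} (x : Fin r → R)
    (hx : Ideal.span (Set.range x) = J)
    (hind : ∀ c : Fin r → R, ∑ i, c i * x i ∈ J ^ 2 → ∀ i, c i ∈ J) :
    Subsingleton (KH (List.ofFn x) R (-1)) := by
  have hq : CAlgX.IsQuasiRegular l.get := Groth.Agent.S2103.result l.get ((h1_iff l).2 hl)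
  have hrange : Ideal.span (Set.range l.get) = J := by
    rw [Groth.Agent.Lib.Seat40.KoszulMin.range_get_eq]; exact hlJ
  have hindl : ∀ c : Fin l.length → R, ∑ i, c i * l.get i ∈ J ^ 2 → ∀ i, c i ∈ J := by
    intro c hc i
    rw [← hrange] at hc ⊢
    exact indep_of_quasi l.get hq c hc i
  have h1 : r ≤ l.length := card_le_of_indep hJ x hx hind l.get hrange
  have h2 : l.length ≤ r := card_le_of_indep hJ l.get hrange hindl x hx
  have hofFn : Ideal.ofList (List.ofFn x) = J := by
    rw [← hx]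
    exact span_mem_ofFn x
  refine subsingleton_KH_neg_one_of_span_eq l (List.ofFn x) hl (by simp; omega) ?_ ?_
  · intro y hy
    rw [hlJ, ← hofFn]
    exact Ideal.subset_span hy
  · intro y hy
    change y ∈ Ideal.ofList (List.ofFn x)
    rw [hofFn, ← hlJ]
    exact Ideal.subset_span hy

end Count

end Groth.Agent.Lib.Seat7.H1DescentB
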