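import Groth.Agent.Lib.Seat7KRDescentC
import Groth.Agent.Lib.Helper19QRegDir
import Groth.Agent.Lib.Helper19CotBC
import Groth.Agent.Lib.LeadAzumaya
import Groth.Agent.Lib.Seat40KoszulLow
import Groth.Agent.S2103

/-!
# Seat7: Koszul-regular ideals descend along faithfully flat ring maps

`isKoszulRegularIdeal_of_faithfullyFlat`: if `A → B` is faithfully flat and `I B` is a
Koszul-regular ideal of `B`, then `I` is a Koszul-regular ideal of `A`.
-/

set_option autoImplicit false
set_option linter.style.haveILetI false
universe u

namespace Groth.Agent.Lib.Seat7.KRDescentD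

open Groth.Agent.Lib.Seat7.KRDescentA Groth.Agent.Lib.Seat7.KRDescentB
  Groth.Agent.Lib.Seat7.KRDescentC
  Groth.Agent.Lib.Helper19.QRegDir Groth.Agent.Lib.Helper19.CotBC
open scoped TensorProduct

/-- a Koszul-regular ideal is locally generated by quasi-regular sequences. -/
theorem isLocallyQuasiRegular_of_isKoszulRegularIdeal {B : Type u} [CommRing B] (J : Ideal B)
    (h : LCI.IsKoszulRegularIdeal J) : PP16.IsLocallyQuasiRegular B J := by
  intro P hP hJP
  obtain ⟨g, hg, l, hl, hspan⟩ := h ⟨P, hP⟩ hJP
  refine ⟨g, hg, l.length, l.get, ?_, ?_⟩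
  · exact Groth.Agent.S2103.result l.get (fun a ha =>
      Groth.Agent.Lib.Seat40.KoszulLow.h1_of_homology_zero l (hl (-1) (by norm_num)) a ha)
  · rw [Groth.Agent.Lib.Seat40.KoszulMin.range_get_eq, hspan]

/-- localizations of a faithfully flat algebra are faithfully flat over the localizations. -/
theorem faithfullyFlat_localization (A B : Type u) [CommRing A] [CommRing B] [Algebra A B]
    [Module.FaithfullyFlat A B] (M : Submonoid A) :
    Module.FaithfullyFlat (Localization M) (Localization (Algebra.algebraMapSubmonoid B M)) :=
  Module.FaithfullyFlat.of_linearEquiv (R := Localization M) (M := Localization M ⊗[A] B)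
    (Localization.tensorRightAlgEquiv M B).toLinearEquiv.symm

theorem isKoszulRegularIdeal_of_faithfullyFlat (A B : Type u) [CommRing A] [CommRing B]
    [Algebra A B] [Module.FaithfullyFlat A B] (I : Ideal A)
    (h : LCI.IsKoszulRegularIdeal (Ideal.map (algebraMap A B) I)) :
    LCI.IsKoszulRegularIdeal I := by
  classical
  have hq := isLocallyQuasiRegular_of_isKoszulRegularIdeal _ h
  have hFG' := fg_of_isLocallyQuasiRegular hq
  have hFG : I.FG := Ideal.FG.of_FG_map_of_faithfullyFlat hFG'
  haveI hproj' := projective_of_isLocallyQuasiRegular hq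
  haveI : Module.Finite B (I.map (algebraMap A B)) := Module.Finite.iff_fg.2 hFG'
  haveI : Module.Finite B (I.map (algebraMap A B)).Cotangent :=
    Module.Finite.of_surjective (I.map (algebraMap A B)).toCotangent
      (I.map (algebraMap A B)).toCotangent_surjective
  haveI : Module.Finite (B ⧸ I.map (algebraMap A B)) (I.map (algebraMap A B)).Cotangent :=
    Module.Finite.of_restrictScalars_finite B _ _
  obtain ⟨⟨e⟩, hext⟩ := cotangent_baseChange (R := A) (R' := B) I
  haveI := faithfullyFlat_quotient (R := A) (R' := B) I
  haveI : Module.Finite (B ⧸ I.map (algebraMap A B))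
      (TensorProduct (A ⧸ I) (B ⧸ I.map (algebraMap A B)) I.Cotangent) :=
    Module.Finite.equiv e.symm
  haveI : Module.Projective (B ⧸ I.map (algebraMap A B))
      (TensorProduct (A ⧸ I) (B ⧸ I.map (algebraMap A B)) I.Cotangent) :=
    Module.Projective.of_equiv e.symm
  have hproj : Module.Projective (A ⧸ I) I.Cotangent :=
    (Groth.Agent.Lib.LeadAzumaya.finite_projective_of_faithfullyFlat_baseChange
      (B ⧸ I.map (algebraMap A B)) I.Cotangent).2
  intro 𝔭 hI𝔭
  haveI := 𝔭.isPrime
  obtain ⟨g, r, x, μ, hg𝔭, hμ, hgen⟩ := exists_coords I hFG hproj 𝔭.asIdeal hI𝔭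
  have hcA : KChart I g (fun i => (x i : A)) := kchart_of_functionals I g x μ hμ hgen
  refine ⟨g, hg𝔭, List.ofFn (fun i => algebraMap A (Localization.Away g) (x i)), ?_, ?_⟩
  · -- the chart on `B`
    choose ν hν using fun i => hext (μ i)
    let x' : Fin r → I.map (algebraMap A B) := fun i =>
      ⟨algebraMap A B (x i), Ideal.mem_map_of_mem _ (x i).2⟩
    have hν' : ∀ i j, ν i ((I.map (algebraMap A B)).toCotangent (x' j)) =
        if i = j then Ideal.Quotient.mk (I.map (algebraMap A B)) (algebraMap A B g) else 0 := by
      intro i j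
      rw [hν i (x j), hμ i j]
      split_ifs
      · rfl
      · rw [map_zero]
    have hcB : KChart (I.map (algebraMap A B)) (algebraMap A B g) (fun i => (x' i : B)) :=
      kchart_of_functionals _ _ x' ν hν'
        (gen_map (algebraMap A B) I g (fun i => (x i : A)) hgen)
    -- the localization of `B`
    let Bg := Localization (Algebra.algebraMapSubmonoid B (Submonoid.powers g))
    haveI : IsLocalization.Away (algebraMap A B g) Bg := by
      have e1 : Algebra.algebraMapSubmonoid B (Submonoid.powers g) =
          Submonoid.powers (algebraMap A B g) := Submonoid.map_powers _ g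
      change IsLocalization (Submonoid.powers (algebraMap A B g)) Bg
      rw [← e1]
      infer_instance
    have hKR := hcB.kr_away h Bg
    haveI := faithfullyFlat_localization A B (Submonoid.powers g)
    refine kr_of_faithfullyFlat (algebraMap (Localization.Away g) Bg)
      (RingHom.faithfullyFlat_algebraMap_iff.2 inferInstance) _ ?_
    rw [List.map_ofFn]
    convert hKR using 2
    funext i
    change algebraMap (Localization.Away g) Bg (algebraMap A (Localization.Away g) (x i)) =
      algebraMap B Bg (algebraMap A B (x i))
    rw [← IsScalarTower.algebraMap_apply, ← IsScalarTower.algebraMap_apply]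
  · rw [hcA.map_eq_span _ (IsLocalization.Away.algebraMap_isUnit g), span_mem_ofFn]

end Groth.Agent.Lib.Seat7.KRDescentD
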