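import Groth.Agent.Lib.Seat7H1DescentB
import Groth.Agent.Lib.Seat7KRDescentD

/-!
# Seat7: ideals locally generated by `H_1`-regular sequences descend along faithfully flat maps

* `IsH1RegularIdeal I`: around every prime containing `I`, on a basic open, `I` is generated by a
  list with vanishing Koszul `H^{-1}` (i.e. an `H_1`-regular sequence, `h1_iff`);
* `KChart.h1_away`: charts of such ideals have vanishing `H^{-1}`;
* `isH1RegularIdeal_of_faithfullyFlat`: faithfully flat descent.
-/

set_option autoImplicit false
set_option linter.style.haveILetI false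
universe u

namespace Groth.Agent.Lib.Seat7.H1DescentC

open Groth.Agent.Lib.Seat7.KRDescentA Groth.Agent.Lib.Seat7.KRDescentB
  Groth.Agent.Lib.Seat7.KRDescentC Groth.Agent.Lib.Seat7.KRDescentD
  Groth.Agent.Lib.Seat7.H1DescentA Groth.Agent.Lib.Seat7.H1DescentB
  Groth.Agent.Lib.Helper19.QRegDir Groth.Agent.Lib.Helper19.CotBC
  Groth.Agent.Lib.Seat31.KR
open Groth.Agent.Lib.Helper21 Groth.Agent.Helper13Kz Groth.Agent.Helper13KzLift
open scoped TensorProduct

variable {A : Type u} [CommRing A]

/-- `I` is generated on `D(g)` by a list with vanishing Koszul `H^{-1}`. -/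
def H1Loc (I : Ideal A) (g : A) : Prop :=
  ∃ l : List (Localization.Away g), Subsingleton (KH l (Localization.Away g) (-1)) ∧
    I.map (algebraMap A (Localization.Away g)) = Ideal.span {x | x ∈ l}

/-- around every prime containing `I`, on a basic open, `I` is generated by an `H_1`-regular
sequence. -/
def IsH1RegularIdeal (I : Ideal A) : Prop :=
  ∀ 𝔭 : PrimeSpectrum A, I ≤ 𝔭.asIdeal → ∃ g : A, g ∉ 𝔭.asIdeal ∧ H1Loc I g

theorem H1Loc.mul_right {I : Ideal A} {g : A} (h : H1Loc I g) (g' : A) : H1Loc I (g * g') := by
  obtain ⟨l, hl, hspan⟩ := h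
  let ρ := IsLocalization.Away.awayToAwayRight (S := Localization.Away g)
      (P := Localization.Away (g * g')) g g'
  have hρ : ρ.comp (algebraMap A (Localization.Away g)) =
      algebraMap A (Localization.Away (g * g')) := by
    ext a
    exact IsLocalization.Away.awayToAwayRight_eq (S := Localization.Away g)
        (P := Localization.Away (g * g')) g g' a
  letI : Algebra (Localization.Away g) (Localization.Away (g * g')) := ρ.toAlgebra
  haveI : Module.Flat (Localization.Away g) (Localization.Away (g * g')) :=
    flat_awayToAwayRight g g'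
  refine ⟨l.map ρ, subsingleton_KH_of_flat l (-1) hl, ?_⟩
  rw [← hρ, ← Ideal.map_map, hspan, span_map_list]

theorem H1Loc.mul_left {I : Ideal A} {g : A} (h : H1Loc I g) (g' : A) : H1Loc I (g' * g) := by
  rw [mul_comm]
  exact h.mul_right g'

/-- an ideal locally generated by `H_1`-regular sequences is locally generated by quasi-regular
sequences. -/
theorem isLocallyQuasiRegular_of_isH1RegularIdeal {B : Type u} [CommRing B] (J : Ideal B)
    (h : IsH1RegularIdeal J) : PP16.IsLocallyQuasiRegular B J := by
  intro P hP hJP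
  obtain ⟨g, hg, l, hl, hspan⟩ := h ⟨P, hP⟩ hJP
  refine ⟨g, hg, l.length, l.get, ?_, ?_⟩
  · exact Groth.Agent.S2103.result l.get ((h1_iff l).2 hl)
  · rw [Groth.Agent.Lib.Seat40.KoszulMin.range_get_eq, hspan]

variable {R : Type u} [CommRing R]

/-- transport of `H^{-1}`-acyclic generators along an isomorphism of `R`-algebras. -/
theorem exists_list_of_algEquiv {T T' : Type u} [CommRing T] [CommRing T'] [Algebra R T]
    [Algebra R T'] (e : T ≃ₐ[R] T') (I : Ideal R) (l : List T)
    (hl : Subsingleton (KH l T (-1)))
    (hspan : I.map (algebraMap R T) = Ideal.span {x | x ∈ l}) :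
    ∃ l' : List T', Subsingleton (KH l' T' (-1)) ∧
      I.map (algebraMap R T') = Ideal.span {x | x ∈ l'} := by
  letI : Algebra T T' := (e : T →+* T').toAlgebra
  haveI : Module.Flat T T' := RingHom.Flat.of_bijective (f := (e : T →+* T')) e.bijective
  refine ⟨l.map (e : T →+* T'), subsingleton_KH_of_flat l (-1) hl, ?_⟩
  have : (e : T →+* T').comp (algebraMap R T) = algebraMap R T' := by
    ext a
    exact e.commutes a
  rw [← this, ← Ideal.map_map, hspan, span_map_list]

/-- **Charts of `H_1`-regular ideals are `H_1`-regular**. -/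
theorem KChart.h1_away {J : Ideal R} {g : R} {r : ℕ} {x : Fin r → R} (hc : KChart J g x)
    (hJ : IsH1RegularIdeal J) (C : Type u) [CommRing C]
    [Algebra R C] [IsLocalization.Away g C] :
    Subsingleton (KH (List.ofFn fun i => algebraMap R C (x i)) C (-1)) := by
  have hgC : IsUnit (algebraMap R C g) := IsLocalization.Away.algebraMap_isUnit g
  apply subsingleton_KH_of_forall_prime
  intro Q hQ
  by_cases hJQ : J.map (algebraMap R C) ≤ Q
  · let q : Ideal R := Q.comap (algebraMap R C)
    have hq : q.IsPrime := Ideal.comap_isPrime _ _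
    have hJq : J ≤ q := Ideal.map_le_iff_le_comap.1 hJQ
    have hgq : g ∉ q := fun hmem => hQ.ne_top (Ideal.eq_top_of_isUnit_mem _ hmem hgC)
    obtain ⟨h0, hh0, hloc⟩ := hJ ⟨q, hq⟩ hJq
    refine ⟨algebraMap R C h0, hh0, ?_⟩
    obtain ⟨l, hl, hspan⟩ := H1Loc.mul_left hloc g
    let T := Localization.Away (algebraMap R C h0)
    let e : Localization.Away (g * h0) ≃ₐ[R] T :=
      IsLocalization.algEquiv (Submonoid.powers (g * h0)) _ _
    obtain ⟨l', hl', hspan'⟩ := exists_list_of_algEquiv e J l hl hspan
    have hgT : IsUnit (algebraMap R T g) := by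
      rw [IsScalarTower.algebraMap_apply R C T]
      exact hgC.map _
    have hJT : J.map (algebraMap R T) ≠ ⊤ := by
      rw [IsLocalization.map_algebraMap_ne_top_iff_disjoint (Submonoid.powers (g * h0)),
        Set.disjoint_left]
      rintro _ ⟨k, rfl⟩ hmem
      have h1 : g * h0 ∈ q := hq.mem_of_pow_mem k (hJq hmem)
      exact (hq.mem_or_mem h1).elim hgq hh0
    have key := h1_of_indep hJT l' hl' hspan'.symm (fun i => algebraMap R T (x i))
      (hc.map_eq_span T hgT).symm
      (fun c h i => hc.indep_loc (Submonoid.powers (g * h0)) T hgT c h i)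
    have hlist : (List.ofFn fun i => algebraMap R C (x i)).map (algebraMap C T) =
        List.ofFn fun i => algebraMap R T (x i) := by
      rw [List.map_ofFn]
      refine congrArg List.ofFn (funext fun i => ?_)
      exact (IsScalarTower.algebraMap_apply R C T (x i)).symm
    rw [hlist]
    exact key
  · rw [hc.map_eq_span C hgC, Ideal.span_le] at hJQ
    obtain ⟨_, ⟨i, rfl⟩, hi⟩ := Set.not_subset.1 hJQ
    refine ⟨algebraMap R C (x i), hi, subsingleton_KH_of_span_eq_top _ ?_ _⟩
    refine Ideal.eq_top_of_isUnit_mem _ (Ideal.subset_span ?_)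
      (IsLocalization.Away.algebraMap_isUnit (algebraMap R C (x i)))
    rw [List.map_ofFn]
    exact (List.mem_ofFn' _ _).2 ⟨i, rfl⟩

/-- **charts descend**: if `A → B` is faithfully flat and `I B` is locally generated by
quasi-regular sequences, then around every prime containing `I` there is a chart of `I` whose image
is a chart of `I B`. -/
theorem exists_charts (A B : Type u) [CommRing A] [CommRing B]
    [Algebra A B] [Module.FaithfullyFlat A B] (I : Ideal A)
    (hq : PP16.IsLocallyQuasiRegular B (Ideal.map (algebraMap A B) I))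
    (𝔭 : PrimeSpectrum A) (hI𝔭 : I ≤ 𝔭.asIdeal) :
    ∃ (g : A) (r : ℕ) (x : Fin r → A), g ∉ 𝔭.asIdeal ∧ KChart I g x ∧
      KChart (I.map (algebraMap A B)) (algebraMap A B g) (fun i => algebraMap A B (x i)) := by
  classical
  have hFG' := fg_of_isLocallyQuasiRegular hq
  have hFG : I.FG := Ideal.FG.of_FG_map_of_faithfullyFlat hFG'
  haveI hproj' := projective_of_isLocallyQuasiRegular hq
  haveI : Module.Finite B (I.map (algebraMap A B)) := Module.Finite.iff_fg.2 hFG'
  haveI : Module.Finite B (I.map (algebraMap A B)).Cotangent :=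
    Module.Finite.of_surjective (I.map (algebraMap A B)).toCotangent
      (I.map (algebraMap A B)).toCotangent_surjective
  haveI : Module.Finite (B ⧸ I.map (algebraMap A B)) (I.map (algebraMap A B)).Cotangent :=
    Module.Finite.of_restrictScalars_finite B _ _
  obtain ⟨⟨e⟩, hext⟩ := cotangent_baseChange (R := A) (R' := B) I
  haveI := faithfullyFlat_quotient (R := A) (R' := B) I
  haveI : Module.Finite (B ⧸ I.map (algebraMap A B))
      (TensorProduct (A ⧸ I) (B ⧸ I.map (algebraMap A B)) I.Cotangent) :=
    Module.Finite.equiv e.symm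
  haveI : Module.Projective (B ⧸ I.map (algebraMap A B))
      (TensorProduct (A ⧸ I) (B ⧸ I.map (algebraMap A B)) I.Cotangent) :=
    Module.Projective.of_equiv e.symm
  have hproj : Module.Projective (A ⧸ I) I.Cotangent :=
    (Groth.Agent.Lib.LeadAzumaya.finite_projective_of_faithfullyFlat_baseChange
      (B ⧸ I.map (algebraMap A B)) I.Cotangent).2
  haveI := 𝔭.isPrime
  obtain ⟨g, r, x, μ, hg𝔭, hμ, hgen⟩ := exists_coords I hFG hproj 𝔭.asIdeal hI𝔭
  have hcA : KChart I g (fun i => (x i : A)) := kchart_of_functionals I g x μ hμ hgen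
  refine ⟨g, r, fun i => (x i : A), hg𝔭, hcA, ?_⟩
  choose ν hν using fun i => hext (μ i)
  let x' : Fin r → I.map (algebraMap A B) := fun i =>
    ⟨algebraMap A B (x i), Ideal.mem_map_of_mem _ (x i).2⟩
  have hν' : ∀ i j, ν i ((I.map (algebraMap A B)).toCotangent (x' j)) =
      if i = j then Ideal.Quotient.mk (I.map (algebraMap A B)) (algebraMap A B g) else 0 := by
    intro i j
    rw [hν i (x j), hμ i j]
    split_ifs
    · rfl
    · rw [map_zero]
  exact kchart_of_functionals _ _ x' ν hν'
    (gen_map (algebraMap A B) I g (fun i => (x i : A)) hgen)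

/-- **faithfully flat descent** of ideals locally generated by `H_1`-regular sequences. -/
theorem isH1RegularIdeal_of_faithfullyFlat (A B : Type u) [CommRing A] [CommRing B]
    [Algebra A B] [Module.FaithfullyFlat A B] (I : Ideal A)
    (h : IsH1RegularIdeal (Ideal.map (algebraMap A B) I)) : IsH1RegularIdeal I := by
  have hq := isLocallyQuasiRegular_of_isH1RegularIdeal _ h
  intro 𝔭 hI𝔭
  obtain ⟨g, r, x, hg𝔭, hcA, hcB⟩ := exists_charts A B I hq 𝔭 hI𝔭
  refine ⟨g, hg𝔭, List.ofFn (fun i => algebraMap A (Localization.Away g) (x i)), ?_, ?_⟩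
  · let Bg := Localization (Algebra.algebraMapSubmonoid B (Submonoid.powers g))
    haveI : IsLocalization.Away (algebraMap A B g) Bg := by
      have e1 : Algebra.algebraMapSubmonoid B (Submonoid.powers g) =
          Submonoid.powers (algebraMap A B g) := Submonoid.map_powers _ g
      change IsLocalization (Submonoid.powers (algebraMap A B g)) Bg
      rw [← e1]
      infer_instance
    have hH1 := KChart.h1_away hcB h Bg
    haveI := faithfullyFlat_localization A B (Submonoid.powers g)
    refine subsingleton_KH_of_faithfullyFlat (T := Bg) _ (-1) ?_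
    have hlist : (List.ofFn fun i => algebraMap A (Localization.Away g) (x i)).map
        (algebraMap (Localization.Away g) Bg) =
        List.ofFn fun i => algebraMap B Bg (algebraMap A B (x i)) := by
      rw [List.map_ofFn]
      refine congrArg List.ofFn (funext fun i => ?_)
      change algebraMap (Localization.Away g) Bg (algebraMap A (Localization.Away g) (x i)) =
        algebraMap B Bg (algebraMap A B (x i))
      rw [← IsScalarTower.algebraMap_apply, ← IsScalarTower.algebraMap_apply]
    rw [hlist]
    exact hH1
  · rw [hcA.map_eq_span _ (IsLocalization.Away.algebraMap_isUnit g), span_mem_ofFn]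

end Groth.Agent.Lib.Seat7.H1DescentC
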