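import Groth.Agent.Lib.Seat7KRDescentA
import Groth.Agent.Lib.Seat31KRLoc

/-!
# Seat7: charts for Koszul-regular ideals

`KChart J g x`: the `R`-level shadow of "the `x i` generate `J` on `D(g)` and are independent
modulo `J²` there".  In any localization in which `g` becomes a unit a chart gives honest
generators, independent modulo the square (`KChart.map_eq_span`, `KChart.indep_loc`); if moreover
`J` is a Koszul-regular ideal then the images of the `x i` in a localization away from `g` form a
Koszul-regular sequence (`KChart.kr_away`).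
-/

set_option autoImplicit false
universe u

namespace Groth.Agent.Lib.Seat7.KRDescentB

open Groth.Agent.Lib.Seat7.KRDescentA Groth.Agent.Lib.Seat31.KR

variable {R : Type u} [CommRing R]

/-- the `R`-level shadow of "the `x i` generate `J` on `D(g)` and are independent modulo `J²`". -/
structure KChart (J : Ideal R) (g : R) {r : ℕ} (x : Fin r → R) : Prop where
  mem : ∀ i, x i ∈ J
  gen : ∀ y ∈ J, ∃ k : ℕ, g ^ k * y ∈ Ideal.span (Set.range x)
  indep : ∀ c : Fin r → R, ∑ i, c i * x i ∈ J ^ 2 → ∀ i, ∃ k : ℕ, g ^ k * c i ∈ J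

namespace KChart

variable {J : Ideal R} {g : R} {r : ℕ} {x : Fin r → R}

theorem map_eq_span (hc : KChart J g x) (T : Type u) [CommRing T] [Algebra R T]
    (hg : IsUnit (algebraMap R T g)) :
    J.map (algebraMap R T) = Ideal.span (Set.range fun i => algebraMap R T (x i)) := by
  apply le_antisymm
  · rw [Ideal.map_le_iff_le_comap]
    intro y hy
    rw [Ideal.mem_comap]
    obtain ⟨k, hk⟩ := hc.gen y hy
    have h1 := Ideal.mem_map_of_mem (algebraMap R T) hk
    rw [Ideal.map_span, ← Set.range_comp, map_mul, map_pow] at h1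
    exact (Ideal.unit_mul_mem_iff_mem _ (hg.pow k)).1 h1
  · rw [Ideal.span_le]
    rintro _ ⟨i, rfl⟩
    exact Ideal.mem_map_of_mem _ (hc.mem i)

theorem indep_loc (hc : KChart J g x) (M : Submonoid R) (T : Type u) [CommRing T] [Algebra R T]
    [IsLocalization M T] (hg : IsUnit (algebraMap R T g)) (c : Fin r → T)
    (h : ∑ i, c i * algebraMap R T (x i) ∈ (J.map (algebraMap R T)) ^ 2) (i : Fin r) :
    c i ∈ J.map (algebraMap R T) := by
  obtain ⟨m, hm⟩ := IsLocalization.exist_integer_multiples_of_finite M c
  choose b hb using hm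
  have hmu : IsUnit (algebraMap R T (m : R)) := IsLocalization.map_units T m
  have h1 : algebraMap R T (∑ i, b i * x i) ∈ (J ^ 2).map (algebraMap R T) := by
    rw [Ideal.map_pow]
    have e : algebraMap R T (∑ i, b i * x i) =
        algebraMap R T (m : R) * ∑ i, c i * algebraMap R T (x i) := by
      rw [map_sum, Finset.mul_sum]
      refine Finset.sum_congr rfl fun i _ => ?_
      rw [map_mul, hb i, Algebra.smul_def, mul_assoc]
    rw [e]
    exact Ideal.mul_mem_left _ _ h
  obtain ⟨m', hm'M, hm'⟩ := (IsLocalization.algebraMap_mem_map_algebraMap_iff M T _ _).1 h1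
  have hm'u : IsUnit (algebraMap R T m') := IsLocalization.map_units T (⟨m', hm'M⟩ : M)
  obtain ⟨k, hk⟩ := hc.indep (fun i => m' * b i) (by
    have e : ∑ i, m' * b i * x i = m' * ∑ i, b i * x i := by
      rw [Finset.mul_sum]
      exact Finset.sum_congr rfl fun i _ => mul_assoc _ _ _
    rw [e]
    exact hm') i
  have h2 := Ideal.mem_map_of_mem (algebraMap R T) hk
  rw [map_mul, map_mul, map_pow, hb i, Algebra.smul_def] at h2
  rw [Ideal.unit_mul_mem_iff_mem _ (hg.pow k), Ideal.unit_mul_mem_iff_mem _ hm'u,
    Ideal.unit_mul_mem_iff_mem _ hmu] at h2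
  exact h2

/-- transport of Koszul-regular generators along an isomorphism of `R`-algebras. -/
theorem exists_list_of_algEquiv {T T' : Type u} [CommRing T] [CommRing T'] [Algebra R T]
    [Algebra R T'] (e : T ≃ₐ[R] T') (I : Ideal R) (l : List T)
    (hl : LCI.IsKoszulRegularSeq T l)
    (hspan : I.map (algebraMap R T) = Ideal.span {x | x ∈ l}) :
    ∃ l' : List T', LCI.IsKoszulRegularSeq T' l' ∧
      I.map (algebraMap R T') = Ideal.span {x | x ∈ l'} := by
  refine ⟨l.map (e : T →+* T'), ?_, ?_⟩
  · refine Groth.Agent.Lib.Seat40.RegSeqFlat.koszul_of_flat _ ?_ l hl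
    exact RingHom.Flat.of_bijective e.bijective
  · have : (e : T →+* T').comp (algebraMap R T) = algebraMap R T' := by
      ext a
      exact e.commutes a
    rw [← this, ← Ideal.map_map, hspan, span_map_list]

/-- **Charts of Koszul-regular ideals are Koszul-regular**: if `J` is a Koszul-regular ideal and
`x` is a chart of `J` on `D(g)`, then the images of the `x i` in a localization away from `g`
form a Koszul-regular sequence. -/
theorem kr_away (hc : KChart J g x) (hJ : LCI.IsKoszulRegularIdeal J) (C : Type u) [CommRing C]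
    [Algebra R C] [IsLocalization.Away g C] :
    LCI.IsKoszulRegularSeq C (List.ofFn fun i => algebraMap R C (x i)) := by
  have hgC : IsUnit (algebraMap R C g) := IsLocalization.Away.algebraMap_isUnit g
  apply kr_of_forall_prime
  intro Q hQ
  by_cases hJQ : J.map (algebraMap R C) ≤ Q
  · let q : Ideal R := Q.comap (algebraMap R C)
    have hq : q.IsPrime := Ideal.comap_isPrime _ _
    have hJq : J ≤ q := Ideal.map_le_iff_le_comap.1 hJQ
    have hgq : g ∉ q := fun hmem => hQ.ne_top (Ideal.eq_top_of_isUnit_mem _ hmem hgC)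
    obtain ⟨h0, hh0, hloc⟩ := hJ ⟨q, hq⟩ hJq
    refine ⟨algebraMap R C h0, hh0, ?_⟩
    obtain ⟨l, hl, hspan⟩ := KRLoc.mul_left hloc g
    let T := Localization.Away (algebraMap R C h0)
    let e : Localization.Away (g * h0) ≃ₐ[R] T :=
      IsLocalization.algEquiv (Submonoid.powers (g * h0)) _ _
    obtain ⟨l', hl', hspan'⟩ := exists_list_of_algEquiv e J l hl hspan
    have hgT : IsUnit (algebraMap R T g) := by
      rw [IsScalarTower.algebraMap_apply R C T]
      exact hgC.map _
    have hJT : J.map (algebraMap R T) ≠ ⊤ := by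
      rw [IsLocalization.map_algebraMap_ne_top_iff_disjoint (Submonoid.powers (g * h0)),
        Set.disjoint_left]
      rintro _ ⟨k, rfl⟩ hmem
      have h1 : g * h0 ∈ q := hq.mem_of_pow_mem k (hJq hmem)
      exact (hq.mem_or_mem h1).elim hgq hh0
    have key := kr_of_indep hJT l' hl' hspan'.symm (fun i => algebraMap R T (x i))
      (hc.map_eq_span T hgT).symm
      (fun c h i => hc.indep_loc (Submonoid.powers (g * h0)) T hgT c h i)
    rw [List.map_ofFn]
    convert key using 2
    funext i
    exact (IsScalarTower.algebraMap_apply R C T (x i)).symm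
  · rw [hc.map_eq_span C hgC, Ideal.span_le] at hJQ
    obtain ⟨_, ⟨i, rfl⟩, hi⟩ := Set.not_subset.1 hJQ
    refine ⟨algebraMap R C (x i), hi, kr_of_span_eq_top _ ?_⟩
    refine Ideal.eq_top_of_isUnit_mem _ (Ideal.subset_span ?_)
      (IsLocalization.Away.algebraMap_isUnit (algebraMap R C (x i)))
    rw [List.map_ofFn]
    exact (List.mem_ofFn' _ _).2 ⟨i, rfl⟩

end KChart

end Groth.Agent.Lib.Seat7.KRDescentB
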