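import Mathlib
import Groth.Prelude.Def_LCI2
import Groth.Agent.Lib.Seat31KRLoc
import Groth.Agent.Lib.Seat31KRPoly
import Groth.Agent.Lib.Seat31LciLocal
import Groth.Agent.Lib.Seat13KzTorReg
import Groth.Agent.S5803

/-!
# Seat7: generalities on local Koszul-regular generation (`KRLoc`)

* `krLoc_of_ringEquiv`: transport of `KRLoc` along a ring isomorphism;
* `exists_list_atPrime_of_krLoc`: `KRLoc I g`, `g ∉ Q` gives Koszul-regular generators of
  `I A_Q`;
* `exists_list_of_isKoszulRegularIdeal_local`: a Koszul-regular ideal of a local ring contained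
  in the maximal ideal is generated by a Koszul-regular sequence;
* `isWeaklyRegular_of_kr_local`: in a Noetherian local ring a Koszul-regular sequence in the
  maximal ideal is a regular sequence.
-/

set_option autoImplicit false
set_option linter.style.haveILetI false

universe u

open RingTheory.Sequence

namespace Groth.Agent.Lib.Seat7.KosLocA

open Groth.Agent.Lib.Seat31.KR

section Equiv

variable {A A' : Type u} [CommRing A] [CommRing A']

/-- transport of `KRLoc` along a ring isomorphism. -/
theorem krLoc_of_ringEquiv (e : A ≃+* A') (I : Ideal A) (g : A) (h : KRLoc I g) :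
    KRLoc (I.map (e : A →+* A')) (e g) := by
  obtain ⟨l, hl, hspan⟩ := h
  let ρ : Localization.Away g →+* Localization.Away (e g) :=
    Localization.awayMap (e : A →+* A') g
  have hρ : ρ.comp (algebraMap A (Localization.Away g)) =
      (algebraMap A' (Localization.Away (e g))).comp (e : A →+* A') :=
    IsLocalization.map_comp (M := Submonoid.powers g) (T := Submonoid.powers (e g))
      (Q := Localization.Away (e g)) _
  have hbij : Function.Bijective ρ := by
    have h1 : (Submonoid.powers g).map (e : A →+* A').toMonoidHom = Submonoid.powers (e g) := by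
      rw [Submonoid.map_powers]
      rfl
    let ee : Localization.Away g ≃+* Localization.Away (e g) :=
      IsLocalization.ringEquivOfRingEquiv (M := Submonoid.powers g) (T := Submonoid.powers (e g))
        (Localization.Away g) (Localization.Away (e g)) e h1
    have : (ρ : Localization.Away g → Localization.Away (e g)) = ee := by
      funext x
      rfl
    rw [this]
    exact ee.bijective
  refine ⟨l.map ρ, Groth.Agent.Lib.Seat40.RegSeqFlat.koszul_of_flat ρ
    (RingHom.Flat.of_bijective hbij) l hl, ?_⟩
  rw [Ideal.map_map, ← hρ, ← Ideal.map_map, hspan, span_map_list]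

end Equiv

section AtPrime

variable {A : Type u} [CommRing A]

/-- `KRLoc I g` with `g ∉ Q` gives Koszul-regular generators of `I A_Q`. -/
theorem exists_list_atPrime_of_krLoc (I : Ideal A) (g : A) (h : KRLoc I g) (Q : Ideal A)
    [Q.IsPrime] (hg : g ∉ Q) :
    ∃ l : List (Localization.AtPrime Q), LCI.IsKoszulRegularSeq (Localization.AtPrime Q) l ∧
      I.map (algebraMap A (Localization.AtPrime Q)) = Ideal.span {x | x ∈ l} := by
  obtain ⟨l, hl, hspan⟩ := h
  have hunit : IsUnit (algebraMap A (Localization.AtPrime Q) g) :=
    IsLocalization.map_units (Localization.AtPrime Q) (⟨g, hg⟩ : Q.primeCompl)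
  let ρ : Localization.Away g →+* Localization.AtPrime Q := IsLocalization.Away.lift g hunit
  have hρ : ρ.comp (algebraMap A (Localization.Away g)) = algebraMap A (Localization.AtPrime Q) :=
    IsLocalization.Away.lift_comp g hunit
  letI : Algebra (Localization.Away g) (Localization.AtPrime Q) := ρ.toAlgebra
  haveI : IsScalarTower A (Localization.Away g) (Localization.AtPrime Q) :=
    IsScalarTower.of_algebraMap_eq' hρ.symm
  have hle : Submonoid.powers g ≤ Q.primeCompl := by
    rintro _ ⟨n, rfl⟩
    exact fun h => hg (Ideal.IsPrime.mem_of_pow_mem inferInstance n h)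
  haveI : IsLocalization (Q.primeCompl.map (algebraMap A (Localization.Away g)))
      (Localization.AtPrime Q) :=
    IsLocalization.isLocalization_of_submonoid_le (Localization.Away g) (Localization.AtPrime Q)
      (Submonoid.powers g) Q.primeCompl hle
  have hflat : ρ.Flat := by
    show Module.Flat (Localization.Away g) (Localization.AtPrime Q)
    exact IsLocalization.flat _ (Q.primeCompl.map (algebraMap A (Localization.Away g)))
  refine ⟨l.map ρ, Groth.Agent.Lib.Seat40.RegSeqFlat.koszul_of_flat ρ hflat l hl, ?_⟩
  rw [← hρ, ← Ideal.map_map, hspan, span_map_list]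

end AtPrime

section Local

variable {A : Type u} [CommRing A] [IsLocalRing A]

/-- a Koszul-regular ideal of a local ring contained in the maximal ideal is generated by a
Koszul-regular sequence. -/
theorem exists_list_of_isKoszulRegularIdeal_local (J : Ideal A)
    (hJ : J ≤ IsLocalRing.maximalIdeal A) (h : LCI.IsKoszulRegularIdeal J) :
    ∃ l : List A, LCI.IsKoszulRegularSeq A l ∧ J = Ideal.span {x | x ∈ l} := by
  obtain ⟨g, hg, l, hl, hspan⟩ := h ⟨IsLocalRing.maximalIdeal A, inferInstance⟩ hJ
  have hu : IsUnit g := IsLocalRing.notMem_maximalIdeal.1 hg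
  have hall : ∀ y ∈ Submonoid.powers g, IsUnit y := by
    rintro _ ⟨n, rfl⟩
    exact hu.pow n
  let e : A ≃ₐ[A] Localization.Away g := IsLocalization.atUnits A (Submonoid.powers g) hall
  obtain ⟨l', hl', hspan'⟩ := exists_list_of_algEquiv e.symm J l hl hspan
  refine ⟨l', hl', ?_⟩
  rw [← hspan']
  simp

/-- in a Noetherian local ring a Koszul-regular sequence in the maximal ideal is regular. -/
theorem isWeaklyRegular_of_kr_local [IsNoetherianRing A] (l : List A)
    (hl : LCI.IsKoszulRegularSeq A l) (hmem : ∀ x ∈ l, x ∈ IsLocalRing.maximalIdeal A) :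
    IsWeaklyRegular A l := by
  have hq := Groth.Agent.Lib.Seat13.KzTorReg.quasiRegular_of_koszulRegular l hl
  have h := Groth.Agent.S5803.result A l.length l.get (fun i => by
    rw [IsLocalRing.ringJacobson_eq_maximalIdeal]
    exact hmem _ (List.get_mem l i)) hq
  rwa [List.ofFn_get] at h

end Local

end Groth.Agent.Lib.Seat7.KosLocA
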