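import Mathlib
import Groth.Prelude.Def_RegImm
import Groth.Agent.Lib.Seat56FibReg6

/-!
# Base change of transversally regular sequences (Seat 7)

* `isWeaklyRegular_tensor`: `rs` weakly regular on a `B`-module `M` with all `M/(rs₁..rsᵢ)M` flat
  over `A` ⇒ `rs` weakly regular on `M ⊗[A] X` for every `A`-module `X`.
* `isTransRegularSeq_tensor`: `IsTransRegularSeq A B rs ⇒ IsTransRegularSeq A' (B ⊗[A] A') (rs ⊗ 1)`.
-/

set_option autoImplicit false
set_option linter.style.haveILetI false

universe u

namespace Groth.Agent.Lib.Seat7.TransRegRing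

open TensorProduct Groth.Agent.Lib.Helper28 Groth.Agent.Lib.Seat56.FibReg
open scoped Pointwise

section Module

variable {A B : Type u} [CommRing A] [CommRing B] [Algebra A B]

/-- weak regularity with flat partial quotients is preserved by `- ⊗[A] X`. -/
theorem isWeaklyRegular_tensor (rs : List B) :
    ∀ (M : Type u) [AddCommGroup M] [Module B M] [Module A M] [IsScalarTower A B M],
      RingTheory.Sequence.IsWeaklyRegular M rs →
      (∀ i ≤ rs.length, Module.Flat A (M ⧸ (Ideal.ofList (rs.take i) • (⊤ : Submodule B M)))) →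
      ∀ (X : Type u) [AddCommGroup X] [Module A X],
        RingTheory.Sequence.IsWeaklyRegular (M ⊗[A] X) rs := by
  induction rs with
  | nil =>
    intro M _ _ _ _ _ _ X _ _
    exact RingTheory.Sequence.IsWeaklyRegular.nil B _
  | cons a rs' ih =>
    intro M _ _ _ _ hreg hflat X _ _
    rw [RingTheory.Sequence.isWeaklyRegular_cons_iff] at hreg ⊢
    obtain ⟨hareg, hreg'⟩ := hreg
    -- flatness of the partial quotients of `M / a M`
    have hflat' : ∀ j ≤ rs'.length, Module.Flat A
        (QuotSMulTop a M ⧸ (Ideal.ofList (rs'.take j) • (⊤ : Submodule B (QuotSMulTop a M)))) := by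
      intro j hj
      have h1 := hflat (j + 1) (by simpa using hj)
      rw [List.take_succ_cons] at h1
      let e₂ : (M ⧸ (Ideal.ofList (a :: rs'.take j) • (⊤ : Submodule B M))) ≃ₗ[B]
          QuotSMulTop a M ⧸ (Ideal.ofList (rs'.take j) • (⊤ : Submodule B (QuotSMulTop a M))) :=
        Submodule.quotOfListConsSMulTopEquivQuotSMulTopInner M a (rs'.take j)
      exact Module.Flat.of_linearEquiv (e₂.symm.restrictScalars A)
    have hQflat : Module.Flat A (QuotSMulTop a M) := by
      have h0 := hflat' 0 (Nat.zero_le _)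
      have hbot : Ideal.ofList (rs'.take 0) • (⊤ : Submodule B (QuotSMulTop a M)) = ⊥ := by
        rw [List.take_zero, Ideal.ofList_nil, Submodule.bot_smul]
      exact Module.Flat.of_linearEquiv
        ((Submodule.quotEquivOfEqBot _ hbot).symm.restrictScalars A)
    constructor
    · rw [isSMulRegular_tensor_iff (R := A) a, ← LinearMap.lTensor_inj_iff_rTensor_inj]
      exact LinearMap.lTensor_injective_of_exact_of_flat (M := M) (N := M) (P := QuotSMulTop a M)
        (quotSMulTopMkR a) (quotSMulTopMkR_surjective a) (ymap A M a) hareg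
        (exact_ymap_quotSMulTopMkR a) X
    · have h2 := ih (QuotSMulTop a M) hreg' hflat' X
      exact ((quotSMulTopTensorEquiv (R := A) a X).isWeaklyRegular_congr rs').mpr h2

end Module

section Pushout

variable (R S R' S' : Type u) [CommRing R] [CommRing S] [CommRing R'] [CommRing S']
  [Algebra R S] [Algebra R R'] [Algebra S S'] [Algebra R' S'] [Algebra R S']
  [IsScalarTower R S S'] [IsScalarTower R R' S'] [Algebra.IsPushout R S R' S']

/-- `S'/JS' ≃ S ⊗[R] (R'/J)` as `S`-modules, for a pushout square. -/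
theorem nonempty_quotient_equiv (J : Ideal R') :
    Nonempty ((S' ⧸ J.map (algebraMap R' S')) ≃ₗ[S] S ⊗[R] (R' ⧸ J)) := by
  let e : S ⊗[R] R' ≃ₐ[S] S' := Algebra.IsPushout.equiv R S R' S'
  have he : ∀ x : R', e (1 ⊗ₜ x) = algebraMap R' S' x := by
    intro x
    rw [Algebra.IsPushout.equiv_tmul, map_one, one_mul]
  let e₁ : S ⊗[R] (R' ⧸ J) ≃ₐ[S]
      (S ⊗[R] R') ⧸ J.map (Algebra.TensorProduct.includeRight (R := R) (A := S)) :=
    Algebra.TensorProduct.tensorQuotientEquiv S R' S J
  have hJ : J.map (algebraMap R' S') =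
      (J.map (Algebra.TensorProduct.includeRight (R := R) (A := S))).map
        (e : S ⊗[R] R' →+* S') := by
    change _ = Ideal.map (e : S ⊗[R] R' →+* S')
      (Ideal.map (Algebra.TensorProduct.includeRight (R := R) (A := S)).toRingHom J)
    rw [Ideal.map_map]
    congr 1
    ext x
    exact (he x).symm
  let e₂ : ((S ⊗[R] R') ⧸ J.map (Algebra.TensorProduct.includeRight (R := R) (A := S))) ≃ₐ[S]
      S' ⧸ J.map (algebraMap R' S') :=
    Ideal.quotientEquivAlg _ _ e hJ
  exact ⟨(e₁.trans e₂).symm.toLinearEquiv⟩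

/-- **Base change of transversally regular sequences** along a pushout square. -/
theorem isTransRegularSeq_of_isPushout (rs : List R') (h : RegImm.IsTransRegularSeq R R' rs) :
    RegImm.IsTransRegularSeq S S' (rs.map (algebraMap R' S')) := by
  obtain ⟨hreg, hflat⟩ := h
  constructor
  · have hflat' : ∀ i ≤ rs.length,
        Module.Flat R (R' ⧸ (Ideal.ofList (rs.take i) • (⊤ : Submodule R' R'))) := by
      intro i hi
      have h1 := hflat i hi
      have hI : Ideal.ofList (rs.take i) • (⊤ : Submodule R' R') = Ideal.ofList (rs.take i) := by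
        rw [smul_eq_mul, Ideal.mul_top]
      exact Module.Flat.of_linearEquiv
        ((Submodule.quotEquivOfEq _ _ hI).restrictScalars R)
    have h1 := isWeaklyRegular_tensor (A := R) rs R' hreg hflat' S
    haveI : Algebra.IsPushout R R' S S' := Algebra.IsPushout.symm inferInstance
    let e' : R' ⊗[R] S ≃ₐ[R'] S' := Algebra.IsPushout.equiv R R' S S'
    have h2 := (e'.toLinearEquiv.isWeaklyRegular_congr rs).mp h1
    exact (RingTheory.Sequence.isWeaklyRegular_map_algebraMap_iff S' S' rs).mpr h2
  · intro j hj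
    rw [List.length_map] at hj
    haveI : Module.Flat R (R' ⧸ Ideal.ofList (rs.take j)) := hflat j hj
    obtain ⟨e⟩ := nonempty_quotient_equiv R S R' S' (Ideal.ofList (rs.take j))
    rw [← List.map_take, ← Ideal.map_ofList]
    exact Module.Flat.of_linearEquiv e

end Pushout

section Cat

open CategoryTheory

/-- categorical form: base change of a transversally regular sequence along a pushout square of
commutative rings. -/
theorem isTransRegularSeq_of_isPushout_cat {R₀ B₀ R₁ B₁ : CommRingCat.{u}} (a : R₀ ⟶ B₀)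
    (b : R₀ ⟶ R₁) (φ : B₀ ⟶ B₁) (d : R₁ ⟶ B₁) (h : IsPushout a b φ d) (rs : List B₀)
    (hrs : @RegImm.IsTransRegularSeq R₀ B₀ _ _ a.hom.toAlgebra rs) :
    @RegImm.IsTransRegularSeq R₁ B₁ _ _ d.hom.toAlgebra (rs.map φ.hom) := by
  letI : Algebra R₀ B₀ := a.hom.toAlgebra
  letI : Algebra R₀ R₁ := b.hom.toAlgebra
  letI : Algebra R₁ B₁ := d.hom.toAlgebra
  letI : Algebra B₀ B₁ := φ.hom.toAlgebra
  letI : Algebra R₀ B₁ := (φ.hom.comp a.hom).toAlgebra
  haveI : IsScalarTower R₀ B₀ B₁ := IsScalarTower.of_algebraMap_eq' rfl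
  haveI : IsScalarTower R₀ R₁ B₁ := IsScalarTower.of_algebraMap_eq' (by
    change φ.hom.comp a.hom = d.hom.comp b.hom
    rw [← CommRingCat.hom_comp, ← CommRingCat.hom_comp, h.w])
  haveI : Algebra.IsPushout R₀ R₁ B₀ B₁ := by
    apply CommRingCat.isPushout_iff_isPushout.mp
    exact h.flip
  exact isTransRegularSeq_of_isPushout R₀ R₁ B₀ B₁ rs hrs

end Cat

end Groth.Agent.Lib.Seat7.TransRegRing
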