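import Mathlib
import Groth.Prelude.Def_LCI2
import Groth.Agent.Lib.Seat7KosLocA
import Groth.Agent.Lib.Helper5KoszulBC
import Groth.Agent.Lib.Seat31FibreLift
import Groth.Agent.Lib.Seat7TransRegRing
import Groth.Agent.S9251

/-!
# Seat7: the Koszul-regular locus of an ideal with flat quotient commutes with base change

`R → P` flat, `K ⊆ P` an ideal with `P ⧸ K` flat over `R`, `P' = P ⊗_R T` (abstract pushout).

* `krLoc_tensor`, `krLoc_baseChange` (ascent): Koszul-regular generators of `K` on `D(g)` give
  Koszul-regular generators of `K P'` on `D(g)` (helper5's base change of Koszul complexes);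
* `exists_fibreMap`: the flat map of fibre rings `P ⊗ κ(p) → P' ⊗ κ(p')`;
* `exists_weaklyRegular_atPrime_of_flat`: descent of Koszul-regular generation along a flat map
  to the local ring of a Noetherian ring (S9251 + quasi-regular ⇒ regular);
* `exists_krLoc_of_baseChange` (descent): if `K P'` has Koszul-regular generators near a prime
  `Q'`, then `K` has Koszul-regular generators near `Q' ∩ P` (fibre lifting, helper31).
-/

set_option autoImplicit false
set_option linter.style.haveILetI false

universe u

open TensorProduct RingTheory.Sequence CategoryTheory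

namespace Groth.Agent.Lib.Seat7.KosLocB

open Groth.Agent.Lib.Seat31.KR Groth.Agent.Lib.Seat7.KosLocA

section Tensor

variable (A P k : Type u) [CommRing A] [CommRing P] [CommRing k] [Algebra A P] [Algebra A k]
  [Module.Flat A P]

/-- base change of local Koszul-regular generators to a tensor product. -/
theorem krLoc_tensor (I : Ideal P) (hflat : Module.Flat A (P ⧸ I)) (g : P) (h : KRLoc I g) :
    KRLoc (I.map (algebraMap P (P ⊗[A] k))) (algebraMap P (P ⊗[A] k) g) := by
  obtain ⟨l, hl, hspan⟩ := h
  refine ⟨l.map (Localization.awayMap (algebraMap P (P ⊗[A] k)) g),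
    Groth.Agent.Lib.Helper5.KoszulBC.koszulSeq_baseChange A P k I hflat g l hl hspan, ?_⟩
  have hcomp : (Localization.awayMap (algebraMap P (P ⊗[A] k)) g).comp
      (algebraMap P (Localization.Away g)) =
      (algebraMap (P ⊗[A] k) (Localization.Away (algebraMap P (P ⊗[A] k) g))).comp
        (algebraMap P (P ⊗[A] k)) :=
    IsLocalization.map_comp (M := Submonoid.powers g)
      (T := Submonoid.powers (algebraMap P (P ⊗[A] k) g))
      (Q := Localization.Away (algebraMap P (P ⊗[A] k) g)) _
  rw [Ideal.map_map, ← hcomp, ← Ideal.map_map, hspan, span_map_list]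

end Tensor

section Pushout

variable {R P T P' : Type u} [CommRing R] [CommRing P] [CommRing T] [CommRing P']
  [Algebra R P] [Algebra R T] [Algebra P P'] [Algebra T P'] [Algebra R P']
  [IsScalarTower R P P'] [IsScalarTower R T P'] [Algebra.IsPushout R T P P']

variable (T) in
include T in
/-- **Ascent.** -/
theorem krLoc_baseChange [Module.Flat R P] (K : Ideal P) (hflat : Module.Flat R (P ⧸ K)) (g : P)
    (h : KRLoc K g) : KRLoc (K.map (algebraMap P P')) (algebraMap P P' g) := by
  haveI : Algebra.IsPushout R P T P' := Algebra.IsPushout.symm inferInstance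
  let e : P ⊗[R] T ≃ₐ[P] P' := Algebra.IsPushout.equiv R P T P'
  have h1 := krLoc_tensor R P T K hflat g h
  have h2 := krLoc_of_ringEquiv e.toRingEquiv _ _ h1
  have he : (e.toRingEquiv : P ⊗[R] T →+* P').comp (algebraMap P (P ⊗[R] T)) =
      algebraMap P P' := by
    ext x
    exact e.commutes x
  rw [Ideal.map_map, he] at h2
  have hg : e.toRingEquiv (algebraMap P (P ⊗[R] T) g) = algebraMap P P' g := e.commutes g
  rwa [hg] at h2

end Pushout

section FlatLocal

variable {F F' : Type u} [CommRing F] [CommRing F'] [IsNoetherianRing F]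

/-- descent of Koszul-regular generation along a flat ring map, to the local ring of a prime of a
Noetherian ring, where it becomes generation by a regular sequence. -/
theorem exists_weaklyRegular_atPrime_of_flat (φ : F →+* F') (hφ : φ.Flat)
    (Qb' : Ideal F') [Qb'.IsPrime] (J : Ideal F) (hJ : J.map φ ≤ Qb')
    (l' : List (Localization.AtPrime Qb'))
    (hl' : LCI.IsKoszulRegularSeq (Localization.AtPrime Qb') l')
    (hspan : (J.map φ).map (algebraMap F' (Localization.AtPrime Qb')) = Ideal.span {x | x ∈ l'}) :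
    ∃ l : List (Localization.AtPrime (Qb'.comap φ)),
      IsWeaklyRegular (Localization.AtPrime (Qb'.comap φ)) l ∧
      Ideal.ofList l = J.map (algebraMap F (Localization.AtPrime (Qb'.comap φ))) := by
  letI : Algebra F F' := φ.toAlgebra
  haveI : Module.Flat F F' := hφ
  haveI : Qb'.LiesOver (Qb'.comap φ) := ⟨rfl⟩
  letI := Localization.AtPrime.algebraOfLiesOver (Qb'.comap φ) Qb'
  haveI : Module.FaithfullyFlat (Localization.AtPrime (Qb'.comap φ)) (Localization.AtPrime Qb') :=
    Module.FaithfullyFlat.of_flat_of_isLocalHom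
  have hJle : J ≤ Qb'.comap φ := Ideal.map_le_iff_le_comap.1 hJ
  have hmap : (J.map (algebraMap F (Localization.AtPrime (Qb'.comap φ)))).map
      (algebraMap (Localization.AtPrime (Qb'.comap φ)) (Localization.AtPrime Qb')) =
      (J.map φ).map (algebraMap F' (Localization.AtPrime Qb')) := by
    rw [Ideal.map_map, Ideal.map_map]
    congr 1
    rw [← IsScalarTower.algebraMap_eq, IsScalarTower.algebraMap_eq F F' (Localization.AtPrime Qb')]
    rfl
  have hKR : LCI.IsKoszulRegularIdeal (J.map (algebraMap F (Localization.AtPrime (Qb'.comap φ)))) := by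
    apply Groth.Agent.S9251.result (Localization.AtPrime (Qb'.comap φ)) (Localization.AtPrime Qb')
    rw [hmap, hspan]
    exact isKoszulRegularIdeal_span l' hl'
  have hmax : J.map (algebraMap F (Localization.AtPrime (Qb'.comap φ))) ≤
      IsLocalRing.maximalIdeal (Localization.AtPrime (Qb'.comap φ)) := by
    rw [Ideal.map_le_iff_le_comap]
    intro x hx
    rw [Ideal.mem_comap, IsLocalization.AtPrime.to_map_mem_maximal_iff
      (Localization.AtPrime (Qb'.comap φ)) (Qb'.comap φ)]
    exact hJle hx
  obtain ⟨l, hl, hJl⟩ := exists_list_of_isKoszulRegularIdeal_local _ hmax hKR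
  haveI : IsNoetherianRing (Localization.AtPrime (Qb'.comap φ)) :=
    IsLocalization.isNoetherianRing (Qb'.comap φ).primeCompl _ inferInstance
  refine ⟨l, isWeaklyRegular_of_kr_local l hl (fun x hx => hmax ?_), hJl.symm⟩
  rw [hJl]
  exact Ideal.subset_span hx

end FlatLocal

section FibreMap

variable {R P T P' : Type u} [CommRing R] [CommRing P] [CommRing T] [CommRing P']
  [Algebra R P] [Algebra R T] [Algebra P P'] [Algebra T P'] [Algebra R P']
  [IsScalarTower R P P'] [IsScalarTower R T P'] [Algebra.IsPushout R T P P']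

/-- the flat map of fibre rings `P ⊗ κ(p) → P' ⊗ κ(p')` of a pushout square. -/
theorem exists_fibreMap (p : Ideal R) [p.IsPrime] (p' : Ideal T) [p'.IsPrime]
    (hpp' : p = p'.comap (algebraMap R T)) :
    ∃ φ : P ⊗[R] p.ResidueField →+* P' ⊗[T] p'.ResidueField,
      φ.comp (algebraMap P (P ⊗[R] p.ResidueField)) =
        (algebraMap P' (P' ⊗[T] p'.ResidueField)).comp (algebraMap P P') ∧ φ.Flat := by
  let σ : p.ResidueField →+* p'.ResidueField := Ideal.ResidueField.map p p' (algebraMap R T) hpp'
  have hσ : σ.comp (algebraMap R p.ResidueField) =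
      (algebraMap T p'.ResidueField).comp (algebraMap R T) := by
    ext r
    exact Ideal.ResidueField.map_algebraMap p p' (algebraMap R T) hpp' r
  have sqa := CommRingCat.isPushout_of_isPushout R T P P'
  have sqb := (CommRingCat.isPushout_tensorProduct T P' p'.ResidueField).flip
  have sqab := sqa.paste_horiz sqb
  have sqc := (CommRingCat.isPushout_tensorProduct R P p.ResidueField).flip
  have hw : CommRingCat.ofHom (algebraMap R p.ResidueField) ≫ (CommRingCat.ofHom σ ≫
      CommRingCat.ofHom (S := P' ⊗[T] p'.ResidueField)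
        Algebra.TensorProduct.includeRight.toRingHom) =
      CommRingCat.ofHom (algebraMap R P) ≫ (CommRingCat.ofHom (algebraMap P P') ≫
        CommRingCat.ofHom (S := P' ⊗[T] p'.ResidueField)
          Algebra.TensorProduct.includeLeftRingHom) := by
    rw [← Category.assoc, ← CommRingCat.ofHom_comp, hσ, CommRingCat.ofHom_comp, Category.assoc]
    exact sqab.w
  let φ := sqc.desc _ _ hw
  have h1 : CommRingCat.ofHom (S := P ⊗[R] p.ResidueField)
      Algebra.TensorProduct.includeRight.toRingHom ≫ φ = _ := sqc.inl_desc _ _ hw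
  have h2 : CommRingCat.ofHom (S := P ⊗[R] p.ResidueField)
      Algebra.TensorProduct.includeLeftRingHom ≫ φ = _ := sqc.inr_desc _ _ hw
  have sqab' : IsPushout (CommRingCat.ofHom (algebraMap R p.ResidueField) ≫ CommRingCat.ofHom σ)
      (CommRingCat.ofHom (algebraMap R P))
      (CommRingCat.ofHom (S := P' ⊗[T] p'.ResidueField)
        Algebra.TensorProduct.includeRight.toRingHom)
      (CommRingCat.ofHom (S := P ⊗[R] p.ResidueField)
        Algebra.TensorProduct.includeLeftRingHom ≫ φ) := by
    rw [h2, ← CommRingCat.ofHom_comp, hσ, CommRingCat.ofHom_comp]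
    exact sqab
  have sqd := IsPushout.of_left sqab' h1.symm sqc
  refine ⟨φ.hom, ?_, ?_⟩
  · have := congrArg CommRingCat.Hom.hom h2
    exact this
  · letI : Algebra p.ResidueField p'.ResidueField := σ.toAlgebra
    letI : Algebra p.ResidueField (P ⊗[R] p.ResidueField) :=
      Algebra.TensorProduct.includeRight.toRingHom.toAlgebra
    letI : Algebra p'.ResidueField (P' ⊗[T] p'.ResidueField) :=
      Algebra.TensorProduct.includeRight.toRingHom.toAlgebra
    letI : Algebra (P ⊗[R] p.ResidueField) (P' ⊗[T] p'.ResidueField) := φ.hom.toAlgebra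
    letI : Algebra p.ResidueField (P' ⊗[T] p'.ResidueField) :=
      (φ.hom.comp Algebra.TensorProduct.includeRight.toRingHom).toAlgebra
    haveI : IsScalarTower p.ResidueField (P ⊗[R] p.ResidueField) (P' ⊗[T] p'.ResidueField) :=
      IsScalarTower.of_algebraMap_eq' rfl
    haveI : IsScalarTower p.ResidueField p'.ResidueField (P' ⊗[T] p'.ResidueField) :=
      IsScalarTower.of_algebraMap_eq' (by
        have := congrArg CommRingCat.Hom.hom h1
        exact this)
    haveI : Algebra.IsPushout p.ResidueField p'.ResidueField (P ⊗[R] p.ResidueField)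
        (P' ⊗[T] p'.ResidueField) := CommRingCat.isPushout_iff_isPushout.mp sqd
    haveI : Algebra.IsPushout p.ResidueField (P ⊗[R] p.ResidueField) p'.ResidueField
        (P' ⊗[T] p'.ResidueField) := Algebra.IsPushout.symm inferInstance
    show Module.Flat (P ⊗[R] p.ResidueField) (P' ⊗[T] p'.ResidueField)
    exact Module.Flat.isBaseChange (R := p.ResidueField) (M := p'.ResidueField)
      (S := P ⊗[R] p.ResidueField) (N := P' ⊗[T] p'.ResidueField) (Algebra.IsPushout.out (R := p.ResidueField)
        (S := P ⊗[R] p.ResidueField) (R' := p'.ResidueField) (S' := P' ⊗[T] p'.ResidueField))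

end FibreMap

section Descent

variable {R P T P' : Type u} [CommRing R] [CommRing P] [CommRing T] [CommRing P']
  [Algebra R P] [Algebra R T] [Algebra P P'] [Algebra T P'] [Algebra R P']
  [IsScalarTower R P P'] [IsScalarTower R T P'] [Algebra.IsPushout R T P P']

variable (T) in
include T in
/-- **Descent.** If `K P'` has Koszul-regular generators near a prime `Q'` of `P' = P ⊗_R T`, then
`K` has Koszul-regular generators near `Q' ∩ P`. -/
theorem exists_krLoc_of_baseChange [Module.Flat R P] [Algebra.FinitePresentation R P]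
    (K : Ideal P) (hfg : K.FG) [Module.Flat R (P ⧸ K)] (Q' : Ideal P') [Q'.IsPrime]
    (hKQ' : K.map (algebraMap P P') ≤ Q') (g' : P') (hg' : g' ∉ Q')
    (h : KRLoc (K.map (algebraMap P P')) g') :
    ∃ g : P, algebraMap P P' g ∉ Q' ∧ KRLoc K g := by
  haveI : Module.Flat T P' :=
    Module.Flat.isBaseChange (R := R) (M := P) (S := T) (N := P') Algebra.IsPushout.out
  have hflatq : Module.Flat T (P' ⧸ K.map (algebraMap P P')) := by
    obtain ⟨e⟩ := Groth.Agent.Lib.Seat7.TransRegRing.nonempty_quotient_equiv R T P P' K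
    exact Module.Flat.of_linearEquiv e
  obtain ⟨Q, hQ⟩ : ∃ Q : Ideal P, Q = Q'.comap (algebraMap P P') := ⟨_, rfl⟩
  haveI : Q.IsPrime := hQ ▸ inferInstance
  obtain ⟨Qb', hQb'prime, hQb'⟩ := Groth.Agent.Lib.Seat7.FibDict.exists_fibre_prime (A := T) Q'
  haveI := hQb'prime
  have hpp' : Q.comap (algebraMap R P) =
      (Q'.comap (algebraMap T P')).comap (algebraMap R T) := by
    rw [hQ, Ideal.comap_comap, Ideal.comap_comap, ← IsScalarTower.algebraMap_eq,
      ← IsScalarTower.algebraMap_eq]
  obtain ⟨φ, hφ1, hφflat⟩ := exists_fibreMap (P := P) (P' := P') (Q.comap (algebraMap R P))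
    (Q'.comap (algebraMap T P')) hpp'
  have h2 := krLoc_tensor T P' (Q'.comap (algebraMap T P')).ResidueField _ hflatq g' h
  have hg'b : algebraMap P' (P' ⊗[T] (Q'.comap (algebraMap T P')).ResidueField) g' ∉ Qb' :=
    fun hmem => hg' (by rw [← hQb']; exact hmem)
  obtain ⟨l', hl', hspan'⟩ := exists_list_atPrime_of_krLoc _ _ h2 Qb' hg'b
  have hJφ : (K.map (algebraMap P (P ⊗[R] (Q.comap (algebraMap R P)).ResidueField))).map φ =
      (K.map (algebraMap P P')).map
        (algebraMap P' (P' ⊗[T] (Q'.comap (algebraMap T P')).ResidueField)) := by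
    rw [Ideal.map_map, Ideal.map_map, hφ1]
  have hJle : (K.map (algebraMap P (P ⊗[R] (Q.comap (algebraMap R P)).ResidueField))).map φ ≤
      Qb' := by
    rw [hJφ, Ideal.map_le_iff_le_comap, hQb']
    exact hKQ'
  haveI : IsNoetherianRing (P ⊗[R] (Q.comap (algebraMap R P)).ResidueField) :=
    Groth.Agent.Lib.Seat7.FibDict.isNoetherianRing_fibre _
  obtain ⟨l, hl, hgen⟩ := exists_weaklyRegular_atPrime_of_flat φ hφflat Qb'
    (K.map (algebraMap P (P ⊗[R] (Q.comap (algebraMap R P)).ResidueField))) hJle l' hl'
    (by rw [hJφ]; exact hspan')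
  have hQb : (Qb'.comap φ).comap
      (algebraMap P (P ⊗[R] (Q.comap (algebraMap R P)).ResidueField)) = Q := by
    rw [Ideal.comap_comap, hφ1, ← Ideal.comap_comap, hQb', hQ]
  have hKQ : K ≤ Q := by
    rw [hQ]
    exact Ideal.map_le_iff_le_comap.1 hKQ'
  obtain ⟨g, hg, hkr⟩ := Groth.Agent.Lib.Seat31.FibreLift.exists_krLoc K hfg Q hKQ
    (Qb'.comap φ) hQb l hl hgen
  exact ⟨g, fun hmem => hg (by rw [hQ]; exact hmem), hkr⟩

end Descent

end Groth.Agent.Lib.Seat7.KosLocB
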