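import Mathlib
import Groth.Prelude.Def_LCI2
import Groth.Agent.Lib.Seat7KosLocB
import Groth.Agent.Lib.Seat31LciHom
import Groth.Agent.Lib.Seat31LciLocal
import Groth.Agent.Lib.Seat31LciProp

/-!
# Seat7: the lci locus of `C → B` (both flat of finite presentation over `R`) commutes with
base change `R → T` (ring level)

* `ker_of_isPushout`: kernel and surjectivity of the base change of a surjection along a pushout;
* `isLCI_away_of_krLoc`, `exists_krLoc_of_isLCI_away`: dictionary between the lci property of
  `C → B_b` and local Koszul-regular generation of the kernel of a presentation;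
* `exists_isLCI_away_iff`: the main ring-level statement.
-/

set_option autoImplicit false
set_option linter.style.haveILetI false

universe u

open TensorProduct CategoryTheory

namespace Groth.Agent.Lib.Seat7.KosLocC

open Groth.Agent.Lib.Seat31.KR Groth.Agent.Lib.Seat31.LciHom
open Groth.Agent.Lib.Seat7.KosLocA Groth.Agent.Lib.Seat7.KosLocB

section Ker

variable {R T P P' B B' : Type u} [CommRing R] [CommRing T] [CommRing P] [CommRing P']
  [CommRing B] [CommRing B']
  [Algebra R P] [Algebra R T] [Algebra P P'] [Algebra T P'] [Algebra R P']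
  [IsScalarTower R P P'] [IsScalarTower R T P'] [Algebra.IsPushout R T P P']
  [Algebra R B] [Algebra B B'] [Algebra T B'] [Algebra R B']
  [IsScalarTower R B B'] [IsScalarTower R T B'] [Algebra.IsPushout R T B B']

/-- the base change of a surjection along pushout squares is surjective with kernel generated by
the original kernel. -/
theorem ker_of_isPushout (α : P →ₐ[R] B) (hα : Function.Surjective α) (α' : P' →ₐ[T] B')
    (hcomp : ∀ x, α' (algebraMap P P' x) = algebraMap B B' (α x)) :
    Function.Surjective α' ∧
      RingHom.ker α'.toRingHom = (RingHom.ker α.toRingHom).map (algebraMap P P') := by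
  let eP : T ⊗[R] P ≃ₐ[T] P' := Algebra.IsPushout.equiv R T P P'
  let eB : T ⊗[R] B ≃ₐ[T] B' := Algebra.IsPushout.equiv R T B B'
  let β : T ⊗[R] P →ₐ[T] T ⊗[R] B := Algebra.TensorProduct.map (AlgHom.id T T) α
  have hβsurj : Function.Surjective β := LinearMap.lTensor_surjective T hα
  have hsq : α'.comp eP.toAlgHom = eB.toAlgHom.comp β := by
    apply Algebra.TensorProduct.ext'
    intro t x
    show α' (eP (t ⊗ₜ x)) = eB (β (t ⊗ₜ x))
    have hβ : β (t ⊗ₜ x) = t ⊗ₜ α x := by simp [β]
    rw [hβ, Algebra.IsPushout.equiv_tmul, Algebra.IsPushout.equiv_tmul, map_mul, hcomp,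
      AlgHom.commutes]
  have hα'eq : ∀ y, α' y = eB (β (eP.symm y)) := by
    intro y
    have := congrArg (fun f => f (eP.symm y)) hsq
    simpa using this
  constructor
  · intro z
    obtain ⟨w, hw⟩ := hβsurj (eB.symm z)
    refine ⟨eP w, ?_⟩
    rw [hα'eq, AlgEquiv.symm_apply_apply, hw, AlgEquiv.apply_symm_apply]
  · have hkerβ : RingHom.ker β.toRingHom = (RingHom.ker α.toRingHom).map
        (Algebra.TensorProduct.includeRight : P →ₐ[R] T ⊗[R] P).toRingHom :=
      Algebra.TensorProduct.lTensor_ker (A := T) α hα
    have hincl : (eP : T ⊗[R] P →+* P').comp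
        (Algebra.TensorProduct.includeRight : P →ₐ[R] T ⊗[R] P).toRingHom = algebraMap P P' := by
      ext x
      show eP ((1 : T) ⊗ₜ x) = _
      rw [Algebra.IsPushout.equiv_tmul, map_one, one_mul]
    rw [← hincl, ← Ideal.map_map, ← hkerβ]
    ext y
    rw [RingHom.mem_ker]
    show α' y = 0 ↔ _
    rw [hα'eq, EmbeddingLike.map_eq_zero_iff]
    constructor
    · intro h0
      have : y = eP (eP.symm y) := (AlgEquiv.apply_symm_apply eP y).symm
      rw [this]
      exact Ideal.mem_map_of_mem _ h0
    · intro hy
      have h1 : Ideal.map (eP : T ⊗[R] P →+* P') (RingHom.ker β.toRingHom) =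
          Ideal.comap (eP.symm : P' →+* T ⊗[R] P) (RingHom.ker β.toRingHom) :=
        Ideal.map_comap_of_equiv (eP : T ⊗[R] P ≃+* P')
      rw [h1] at hy
      exact hy

end Ker

section Dict

variable {A S : Type u} [CommRing A] [CommRing S] [Algebra A S]

/-- local Koszul-regular generators of the kernel of a presentation on `D(g)` make the
localization at the image of `g` lci. -/
theorem isLCI_away_of_krLoc {n : ℕ} (α : MvPolynomial (Fin n) A →ₐ[A] S)
    (hα : Function.Surjective α) (g : MvPolynomial (Fin n) A)
    (h : KRLoc (RingHom.ker α.toRingHom) g) :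
    LCI.IsLCI A (Localization.Away (α.toRingHom g)) := by
  obtain ⟨l, hl, hspan⟩ := h
  obtain ⟨β, hβ, hker⟩ := exists_presentation_away α hα g
  refine isLCI_of_presentation (n + 1) AlgEquiv.refl β hβ ?_
  rw [hker]
  refine (isKoszulRegularIdeal_comap_equiv _ _).2 ?_
  refine isKoszulRegularIdeal_comap (awayPoly g) (awayPoly_surjective g) ?_ _ ?_
  · rw [ker_awayPoly]
    exact isKoszulRegularIdeal_span_singleton _ (sub_one_mem_nonZeroDivisors g)
  · rw [hspan]
    exact isKoszulRegularIdeal_span l hl

/-- if a localization of `S` away from an element outside `q` is lci, the kernel of any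
presentation has local Koszul-regular generators near `q`. -/
theorem exists_krLoc_of_isLCI_away {n : ℕ} (α : MvPolynomial (Fin n) A →ₐ[A] S)
    (hα : Function.Surjective α) (q : Ideal S) [q.IsPrime] (b : S) (hb : b ∉ q)
    (hlci : LCI.IsLCI A (Localization.Away b)) :
    ∃ g : MvPolynomial (Fin n) A, α g ∉ q ∧ KRLoc (RingHom.ker α.toRingHom) g := by
  obtain ⟨s, rfl⟩ := hα b
  have hK := isKoszulRegularIdeal_map_of_isLCI_away α hα s hlci
  have hle : RingHom.ker α.toRingHom ≤ q.comap α.toRingHom := by
    intro x hx
    rw [Ideal.mem_comap, (RingHom.mem_ker).1 hx]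
    exact q.zero_mem
  obtain ⟨g, hg, hkr⟩ := exists_krLoc_of_map _ s hK ⟨q.comap α.toRingHom, inferInstance⟩ hle hb
  exact ⟨g, hg, hkr⟩

end Dict

section Main

attribute [local instance] MvPolynomial.algebraMvPolynomial

variable {R C B T C' B' : Type u} [CommRing R] [CommRing C] [CommRing B] [CommRing T]
  [CommRing C'] [CommRing B']
  [Algebra R C] [Algebra C B] [Algebra R B] [IsScalarTower R C B]
  [Algebra R T]
  [Algebra C C'] [Algebra T C'] [Algebra R C'] [IsScalarTower R C C'] [IsScalarTower R T C']
  [Algebra B B'] [Algebra T B'] [Algebra R B'] [IsScalarTower R B B'] [IsScalarTower R T B']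
  [Algebra C' B'] [Algebra C B'] [IsScalarTower C C' B'] [IsScalarTower C B B']
  [IsScalarTower T C' B']
  [Algebra.IsPushout R T C C'] [Algebra.IsPushout R T B B']

omit [Algebra.IsPushout R T C C'] [Algebra.IsPushout R T B B'] [IsScalarTower R T C'] in
/-- the scalar tower `R → C[x] → C'[x]`. -/
theorem isScalarTower_poly (n : ℕ) :
    IsScalarTower R (MvPolynomial (Fin n) C) (MvPolynomial (Fin n) C') := by
  refine IsScalarTower.of_algebraMap_eq' ?_
  ext r
  rw [RingHom.comp_apply, MvPolynomial.algebraMap_def, MvPolynomial.algebraMap_apply,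
    MvPolynomial.algebraMap_apply, MvPolynomial.map_C, ← IsScalarTower.algebraMap_apply]

/-- the polynomial square is a pushout. -/
theorem isPushout_poly (n : ℕ) :
    haveI := isScalarTower_poly (R := R) (C := C) (C' := C') n
    Algebra.IsPushout R T (MvPolynomial (Fin n) C) (MvPolynomial (Fin n) C') := by
  haveI := isScalarTower_poly (R := R) (C := C) (C' := C') n
  haveI : Algebra.IsPushout R C T C' := Algebra.IsPushout.symm inferInstance
  have h : Algebra.IsPushout R (MvPolynomial (Fin n) C) T (MvPolynomial (Fin n) C') :=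
    (Algebra.IsPushout.comp_iff R C T C').2 inferInstance
  exact h.symm

variable (R T) in
include T in
/-- **the lci locus commutes with base change (ring level).** -/
theorem exists_isLCI_away_iff [Module.Flat R C] [Algebra.FinitePresentation R C]
    [Module.Flat R B] [Algebra.FinitePresentation R B] (q' : Ideal B') [q'.IsPrime] :
    (∃ b' : B', b' ∉ q' ∧ LCI.IsLCI C' (Localization.Away b')) ↔
      (∃ b : B, algebraMap B B' b ∉ q' ∧ LCI.IsLCI C (Localization.Away b)) := by
  haveI : Algebra.FinitePresentation C B :=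
    Algebra.FinitePresentation.of_restrict_scalars_finitePresentation R C B
  obtain ⟨n, α, hα⟩ := Algebra.FiniteType.iff_quotient_mvPolynomial''.1
    (inferInstance : Algebra.FiniteType C B)
  have hfg : (RingHom.ker α.toRingHom).FG :=
    Algebra.FinitePresentation.ker_fG_of_surjective α hα
  haveI := isScalarTower_poly (R := R) (C := C) (C' := C') n
  haveI := isPushout_poly (R := R) (T := T) (C := C) (C' := C') n
  let α' : MvPolynomial (Fin n) C' →ₐ[C'] B' :=
    MvPolynomial.aeval (fun i => algebraMap B B' (α (MvPolynomial.X i)))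
  have hcomp : ∀ x, α' (algebraMap (MvPolynomial (Fin n) C) (MvPolynomial (Fin n) C') x) =
      algebraMap B B' (α x) := by
    intro x
    have : (α'.toRingHom.comp (algebraMap (MvPolynomial (Fin n) C) (MvPolynomial (Fin n) C'))) =
        (algebraMap B B').comp α.toRingHom := by
      apply MvPolynomial.ringHom_ext
      · intro c
        have h1 : α.toRingHom (MvPolynomial.C c) = algebraMap C B c := α.commutes c
        rw [RingHom.comp_apply, RingHom.comp_apply, h1, MvPolynomial.algebraMap_def,
          MvPolynomial.map_C, ← IsScalarTower.algebraMap_apply C B B']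
        show α' (MvPolynomial.C (algebraMap C C' c)) = _
        rw [MvPolynomial.aeval_C, ← IsScalarTower.algebraMap_apply]
      · intro i
        rw [RingHom.comp_apply, RingHom.comp_apply, MvPolynomial.algebraMap_def,
          MvPolynomial.map_X]
        show α' (MvPolynomial.X i) = _
        rw [MvPolynomial.aeval_X]
        rfl
    exact congrArg (fun f => f x) this
  obtain ⟨hα'surj, hker'⟩ := ker_of_isPushout (R := R) (T := T) (α.restrictScalars R) hα
    (α'.restrictScalars T) hcomp
  have hker'' : RingHom.ker α'.toRingHom = (RingHom.ker α.toRingHom).map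
      (algebraMap (MvPolynomial (Fin n) C) (MvPolynomial (Fin n) C')) := hker'
  haveI : Module.Flat R (MvPolynomial (Fin n) C) := Module.Flat.trans R C _
  haveI : Algebra.FinitePresentation R (MvPolynomial (Fin n) C) :=
    Algebra.FinitePresentation.trans R C _
  have hflatq : Module.Flat R (MvPolynomial (Fin n) C ⧸ RingHom.ker α.toRingHom) := by
    let e : (MvPolynomial (Fin n) C ⧸ RingHom.ker α.toRingHom) ≃ₗ[R] B :=
      (Ideal.quotientKerAlgEquivOfSurjective hα).toLinearEquiv.restrictScalars R
    exact Module.Flat.of_linearEquiv e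
  haveI := hflatq
  constructor
  · rintro ⟨b', hb', hlci⟩
    obtain ⟨g', hg', hkr'⟩ := exists_krLoc_of_isLCI_away α' hα'surj q' b' hb' hlci
    rw [hker''] at hkr'
    have hle : (RingHom.ker α.toRingHom).map
        (algebraMap (MvPolynomial (Fin n) C) (MvPolynomial (Fin n) C')) ≤
        q'.comap α'.toRingHom := by
      rw [← hker'']
      intro x hx
      rw [Ideal.mem_comap, (RingHom.mem_ker).1 hx]
      exact q'.zero_mem
    obtain ⟨g, hg, hkr⟩ := exists_krLoc_of_baseChange (R := R) T (RingHom.ker α.toRingHom) hfg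
      (q'.comap α'.toRingHom) hle g' hg' hkr'
    refine ⟨α g, ?_, isLCI_away_of_krLoc α hα g hkr⟩
    rw [← hcomp]
    exact hg
  · rintro ⟨b, hb, hlci⟩
    haveI : (q'.comap (algebraMap B B')).IsPrime := inferInstance
    obtain ⟨g, hg, hkr⟩ := exists_krLoc_of_isLCI_away α hα (q'.comap (algebraMap B B')) b hb hlci
    have hkr' := krLoc_baseChange (R := R) (P' := MvPolynomial (Fin n) C') T (RingHom.ker α.toRingHom) hflatq g hkr
    rw [← hker''] at hkr'
    refine ⟨α' (algebraMap _ _ g), ?_, isLCI_away_of_krLoc α' hα'surj _ hkr'⟩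
    rw [hcomp]
    exact hg

end Main

section Cat

/-- **the lci locus commutes with base change**, categorical form: a prism of commutative rings
`R → C → B`, `R → T`, with `C' = C ⊗_R T`, `B' = B ⊗_R T`. -/
theorem exists_lciH_away_iff {R C B T C' B' : CommRingCat.{u}} (rc : R ⟶ C) (cb : C ⟶ B)
    (rt : R ⟶ T) (cc : C ⟶ C') (tc : T ⟶ C') (bb : B ⟶ B') (cb' : C' ⟶ B')
    (hC : IsPushout rc rt cc tc) (hB : IsPushout (rc ≫ cb) rt bb (tc ≫ cb'))
    (hw : cc ≫ cb' = cb ≫ bb)
    (hflatC : rc.hom.Flat) (hfpC : rc.hom.FinitePresentation)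
    (hflatB : (rc ≫ cb).hom.Flat) (hfpB : (rc ≫ cb).hom.FinitePresentation)
    (q' : Ideal B') [q'.IsPrime] :
    (∃ b' : B', b' ∉ q' ∧ LciH ((algebraMap B' (Localization.Away b')).comp cb'.hom)) ↔
      (∃ b : B, bb.hom b ∉ q' ∧ LciH ((algebraMap B (Localization.Away b)).comp cb.hom)) := by
  letI : Algebra R C := rc.hom.toAlgebra
  letI : Algebra C B := cb.hom.toAlgebra
  letI : Algebra R B := (rc ≫ cb).hom.toAlgebra
  haveI : IsScalarTower R C B := IsScalarTower.of_algebraMap_eq' rfl
  letI : Algebra R T := rt.hom.toAlgebra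
  letI : Algebra C C' := cc.hom.toAlgebra
  letI : Algebra T C' := tc.hom.toAlgebra
  letI : Algebra R C' := (rc ≫ cc).hom.toAlgebra
  haveI : IsScalarTower R C C' := IsScalarTower.of_algebraMap_eq' rfl
  haveI : IsScalarTower R T C' := IsScalarTower.of_algebraMap_eq' (by
    change (rc ≫ cc).hom = (rt ≫ tc).hom
    rw [hC.w])
  letI : Algebra B B' := bb.hom.toAlgebra
  letI : Algebra T B' := (tc ≫ cb').hom.toAlgebra
  letI : Algebra R B' := ((rc ≫ cb) ≫ bb).hom.toAlgebra
  haveI : IsScalarTower R B B' := IsScalarTower.of_algebraMap_eq' rfl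
  haveI : IsScalarTower R T B' := IsScalarTower.of_algebraMap_eq' (by
    change ((rc ≫ cb) ≫ bb).hom = (rt ≫ (tc ≫ cb')).hom
    rw [hB.w])
  letI : Algebra C' B' := cb'.hom.toAlgebra
  letI : Algebra C B' := (cc ≫ cb').hom.toAlgebra
  haveI : IsScalarTower C C' B' := IsScalarTower.of_algebraMap_eq' rfl
  haveI : IsScalarTower C B B' := IsScalarTower.of_algebraMap_eq' (by
    change (cc ≫ cb').hom = (cb ≫ bb).hom
    rw [hw])
  haveI : IsScalarTower T C' B' := IsScalarTower.of_algebraMap_eq' rfl
  haveI : Algebra.IsPushout R T C C' := CommRingCat.isPushout_iff_isPushout.mp hC.flip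
  haveI : Algebra.IsPushout R T B B' := CommRingCat.isPushout_iff_isPushout.mp hB.flip
  haveI : Module.Flat R C := hflatC
  haveI : Algebra.FinitePresentation R C := hfpC
  haveI : Module.Flat R B := hflatB
  haveI : Algebra.FinitePresentation R B := hfpB
  have key := exists_isLCI_away_iff R T (C := C) (B := B) (C' := C') (B' := B') q'
  have h1 : ∀ b' : B', LciH ((algebraMap B' (Localization.Away b')).comp cb'.hom) ↔
      LCI.IsLCI C' (Localization.Away b') := by
    intro b'
    have : (algebraMap B' (Localization.Away b')).comp cb'.hom =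
        algebraMap C' (Localization.Away b') :=
      (IsScalarTower.algebraMap_eq C' B' (Localization.Away b')).symm
    rw [this, lciH_algebraMap_iff]
  have h2 : ∀ b : B, LciH ((algebraMap B (Localization.Away b)).comp cb.hom) ↔
      LCI.IsLCI C (Localization.Away b) := by
    intro b
    have : (algebraMap B (Localization.Away b)).comp cb.hom =
        algebraMap C (Localization.Away b) :=
      (IsScalarTower.algebraMap_eq C B (Localization.Away b)).symm
    rw [this, lciH_algebraMap_iff]
  simp only [h1, h2]
  exact key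

end Cat

end Groth.Agent.Lib.Seat7.KosLocC
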