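import Mathlib
import Groth.Prelude.Def_RegImm
import Groth.Prelude.Def_Mor2
import Groth.Agent.Lib.Seat7TransRegRing
import Groth.Agent.Lib.Seat40RelRegGeom

/-!
# Base change of transversally regular immersions (Seat 7)

* `transRegular_baseChange`: the base change of an immersion transversally regular relative to `S`
  along any `S' ⟶ S` is transversally regular relative to `S'`.
* `isRegularImmersion_of_transRegular`: transversally regular ⇒ regular immersion (kind `regular`).
* `regular_of_isPullback`: the base change of a transversally regular immersion in ANY pair of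
  pullback squares is a regular immersion.
* `isRegularClosedImmersion_iff`: `Mor2.IsRegularClosedImmersion` in terms of `RegImm`.
-/

set_option autoImplicit false
set_option linter.style.haveILetI false
universe u

namespace Groth.Agent.Lib.Seat7.TransReg

open CategoryTheory CategoryTheory.Limits AlgebraicGeometry
open Groth.Agent.Lib.Seat40

variable {X S S' Z : Scheme.{u}}

/-- transversally regular ⇒ regular immersion. -/
theorem isRegularImmersion_of_transRegular (f : X ⟶ S) (i : Z ⟶ X)
    (hi : RegImm.IsTransRegularImmersion f i) :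
    RegImm.IsRegularImmersion RegImm.Kind.regular i := by
  obtain ⟨himm, hpt⟩ := hi
  refine ⟨himm, fun z => ?_⟩
  obtain ⟨U, V, e, hzU, hcl, rs, hrs, hker⟩ := hpt z
  refine ⟨U, hzU, hcl, rs, ?_, hker⟩
  refine (⟨hrs.1, ?_⟩ : RingTheory.Sequence.IsRegular Γ(X, U.1) rs)
  rw [smul_eq_mul, Ideal.mul_top, ← hker]
  intro htop
  have h1 : (1 : Γ(X, U.1)) ∈ RingHom.ker (i.app U.1).hom := by rw [← htop]; trivial
  rw [RingHom.mem_ker, map_one] at h1
  haveI hne : Nonempty (i ⁻¹ᵁ U.1 : Z.Opens) := ⟨⟨z, hzU⟩⟩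
  exact one_ne_zero h1

/-- base change of a transversally regular immersion (canonical pullbacks). -/
theorem transRegular_baseChange (f : X ⟶ S) (i : Z ⟶ X)
    (hi : RegImm.IsTransRegularImmersion f i) (g : S' ⟶ S) :
    RegImm.IsTransRegularImmersion (pullback.snd f g) (pullback.snd i (pullback.fst f g)) := by
  obtain ⟨himm, hpt⟩ := hi
  set p1 := pullback.fst f g with hp1
  set p2 := pullback.snd f g with hp2
  set q1 := pullback.fst i p1 with hq1
  set i' := pullback.snd i p1 with hi'
  have hsq : IsPullback q1 i' i p1 := IsPullback.of_hasPullback i p1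
  refine ⟨MorphismProperty.of_isPullback (P := @IsImmersion) hsq himm, fun z' => ?_⟩
  have hx : p1 (i' z') = i (q1 z') := by
    rw [← Scheme.Hom.comp_apply, ← Scheme.Hom.comp_apply, hsq.w]
  have hs : g (p2 (i' z')) = f (p1 (i' z')) := by
    have hc : p2 ≫ g = p1 ≫ f := pullback.condition.symm
    rw [← Scheme.Hom.comp_apply p2 g, hc, Scheme.Hom.comp_apply]
  obtain ⟨U, V, e, hxU, hcl, rs, hrs, hker⟩ := hpt (q1 z')
  have hs' : p2 (i' z') ∈ g ⁻¹ᵁ V.1 := by
    change g (p2 (i' z')) ∈ V.1
    rw [hs, hx]; exact e hxU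
  obtain ⟨_, ⟨V0', hV0' : IsAffineOpen V0', rfl⟩, hsV', hV'le⟩ :=
    S'.isBasis_affineOpens.exists_subset_of_mem_open hs' (g ⁻¹ᵁ V.1).2
  set U' : (pullback f g).Opens := p1 ⁻¹ᵁ U.1 ⊓ p2 ⁻¹ᵁ V0' with hU'
  have hpb := RelRegGeom.isPullback_resLE_inf f g U.1 V.1 V0' e hV'le
  haveI : IsAffine U.1 := U.2
  haveI : IsAffine V.1 := V.2
  haveI : IsAffine V0' := hV0'
  have hU'aff : IsAffineOpen U' := IsAffine.of_isPullback hpb
  let U'' : (pullback f g).affineOpens := ⟨U', hU'aff⟩
  have hz'U' : i' z' ∈ U' := ⟨by change p1 (i' z') ∈ U.1; rw [hx]; exact hxU, hsV'⟩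
  have hle : U''.1 ≤ p1 ⁻¹ᵁ U.1 := inf_le_left
  obtain ⟨hcl', hkey⟩ := RegImmBC.ker_app_of_isPullback i p1 i' q1 hsq U U'' hle hcl
  refine ⟨U'', ⟨V0', hV0'⟩, inf_le_right, hz'U', hcl', rs.map (p1.appLE U.1 U' hle).hom, ?_, ?_⟩
  · have hpush := RelRegGeom.isPushout_appLE f g U.1 V.1 V0' e hV'le U.2 V.2 hV0'
    exact TransRegRing.isTransRegularSeq_of_isPushout_cat _ _ _ _ hpush rs hrs
  · rw [RegImmBC.ofList_map, ← hker]
    exact hkey

/-- the base change of a transversally regular immersion in ANY pair of pullback squares is a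
regular immersion. -/
theorem regular_of_isPullback (f : X ⟶ S) (i : Z ⟶ X)
    (hi : RegImm.IsTransRegularImmersion f i) (g : S' ⟶ S) {X' Z' : Scheme.{u}}
    (p1 : X' ⟶ X) (p2 : X' ⟶ S') (hX : IsPullback p1 p2 f g)
    (q1 : Z' ⟶ Z) (i' : Z' ⟶ X') (hZ : IsPullback q1 i' i p1) :
    RegImm.IsRegularImmersion RegImm.Kind.regular i' := by
  have h'' := isRegularImmersion_of_transRegular _ _ (transRegular_baseChange f i hi g)
  let e : X' ≅ pullback f g := hX.isoPullback
  have he1 : e.hom ≫ pullback.fst f g = p1 := hX.isoPullback_hom_fst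
  let l : Z' ⟶ pullback i (pullback.fst f g) :=
    pullback.lift q1 (i' ≫ e.hom) (by rw [Category.assoc, he1, hZ.w])
  have hsq : IsPullback l i' (pullback.snd i (pullback.fst f g)) e.hom := by
    refine IsPullback.of_right ?_ (pullback.lift_snd _ _ _)
      (IsPullback.of_hasPullback i (pullback.fst f g))
    rw [pullback.lift_fst, he1]
    exact hZ
  exact RegImmBC.isRegularImmersion_of_isPullback _ e.hom i' l hsq RegImm.Kind.regular h''

/-- `Mor2.IsRegularClosedImmersion` from `RegImm.IsRegularImmersion`. -/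
theorem isRegularClosedImmersion_of_regImm (i : Z ⟶ X) [IsClosedImmersion i]
    (h : RegImm.IsRegularImmersion RegImm.Kind.regular i) : Mor2.IsRegularClosedImmersion i := by
  refine ⟨inferInstance, fun z => ?_⟩
  obtain ⟨U, hzU, -, rs, hrs, hker⟩ := h.2 z
  refine ⟨U.1, U.2, hzU, rs, hrs, ?_⟩
  rw [← hker]
  exact Scheme.Hom.ker_apply i U

end Groth.Agent.Lib.Seat7.TransReg
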