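import Mathlib
import Groth.Agent.Lib.Seat7TransReg
import Groth.Agent.Lib.Helper5RegImmComp

/-!
# Transversally regular closed subschemes of affine opens (Seat 7)

For an affine open `U` of `X` mapping into an affine open `V` of `S` and a sequence `rs` in
`Γ(X, U)` transversally regular relative to `Γ(S, V)`, the closed subscheme
`Spec (Γ(X, U) ⧸ (rs)) ⟶ U` is an immersion transversally regular relative to `S`, flat and locally
of finite presentation over `S`, and all its base changes are regular closed immersions.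
-/

set_option autoImplicit false
set_option linter.style.haveILetI false
universe u

namespace Groth.Agent.Lib.Seat7.TransRegSpec

open CategoryTheory CategoryTheory.Limits AlgebraicGeometry

section Ring

/-- transport of transversally regular sequences along a ring isomorphism of `A`-algebras. -/
theorem isTransRegularSeq_of_ringEquiv {A B B'' : Type u} [CommRing A] [CommRing B] [CommRing B'']
    [Algebra A B] [Algebra A B''] (θ : B ≃+* B'')
    (hθ : ∀ a, θ (algebraMap A B a) = algebraMap A B'' a) (rs : List B)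
    (h : RegImm.IsTransRegularSeq A B rs) : RegImm.IsTransRegularSeq A B'' (rs.map θ) := by
  obtain ⟨hreg, hflat⟩ := h
  constructor
  · exact Groth.Agent.Lib.Helper5.RegImmComp.isWeaklyRegular_map_of_flat (θ : B →+* B'')
      (RingHom.Flat.of_bijective θ.bijective) rs hreg
  · intro j hj
    rw [List.length_map] at hj
    haveI := hflat j hj
    let θ' : B ≃ₐ[A] B'' := AlgEquiv.ofRingEquiv (f := θ) hθ
    have hJ : Ideal.ofList ((rs.map θ).take j) =
        (Ideal.ofList (rs.take j)).map (θ' : B →+* B'') := by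
      rw [← List.map_take]
      exact Groth.Agent.Lib.Seat40.RegImmBC.ofList_map (θ : B →+* B'') (rs.take j)
    let e := Ideal.quotientEquivAlg (Ideal.ofList (rs.take j)) _ θ' hJ
    exact Module.Flat.of_linearEquiv e.symm.toLinearEquiv

end Ring

section Geom

variable {X S : Scheme.{u}}

theorem appLE_ι_comp (f : X ⟶ S) (U : X.Opens) (V : S.Opens)
    (e' : U ≤ f ⁻¹ᵁ V) (e : (⊤ : (U : Scheme.{u}).Opens) ≤ (U.ι ≫ f) ⁻¹ᵁ V) :
    (U.ι ≫ f).appLE V ⊤ e = f.appLE V U e' ≫ U.topIso.inv := by
  rw [← Scheme.Hom.appLE_comp_appLE U.ι f V U ⊤ e' (by simp), Scheme.Opens.ι_appLE,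
    Scheme.Opens.topIso_inv]
  rfl

/-- the base-change square of `pullback.map` with identities on the base. -/
theorem isPullback_map_fst {Z X S S' : Scheme.{u}} (a : Z ⟶ S) (b : X ⟶ S) (i : Z ⟶ X)
    (g : S' ⟶ S) (h₁ : a ≫ 𝟙 S = i ≫ b) (h₂ : g ≫ 𝟙 S = 𝟙 S' ≫ g) :
    IsPullback (pullback.fst a g) (pullback.map a g b g i (𝟙 S') (𝟙 S) h₁ h₂) i
      (pullback.fst b g) := by
  have ha : a = i ≫ b := by rw [← h₁, Category.comp_id]
  subst ha
  have hbig : IsPullback (pullback.map (i ≫ b) g b g i (𝟙 S') (𝟙 S) h₁ h₂ ≫ pullback.snd b g)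
      (pullback.fst (i ≫ b) g) g (i ≫ b) := by
    have : pullback.map (i ≫ b) g b g i (𝟙 S') (𝟙 S) h₁ h₂ ≫ pullback.snd b g =
        pullback.snd (i ≫ b) g := by
      rw [pullback.lift_snd, Category.comp_id]
    rw [this]
    exact (IsPullback.of_hasPullback (i ≫ b) g).flip
  exact (IsPullback.of_right hbig (pullback.lift_fst _ _ _)
    (IsPullback.of_hasPullback b g).flip).flip

section Sub

variable (f : X ⟶ S) {U : X.Opens} (hU : IsAffineOpen U) {V : S.Opens} (hV : IsAffineOpen V)
  (e' : U ≤ f ⁻¹ᵁ V) (rs : List Γ(X, U))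

/-- the closed subscheme of `U` cut out by `rs`. -/
noncomputable abbrev subι : Spec (CommRingCat.of (Γ(X, U) ⧸ Ideal.ofList rs)) ⟶ (U : Scheme.{u}) :=
  Spec.map (CommRingCat.ofHom (Ideal.Quotient.mk (Ideal.ofList rs))) ≫ hU.isoSpec.inv

instance : IsClosedImmersion (subι hU rs) := by
  haveI : IsClosedImmersion
      (Spec.map (CommRingCat.ofHom (Ideal.Quotient.mk (Ideal.ofList rs)))) :=
    IsClosedImmersion.spec_of_surjective _ Ideal.Quotient.mk_surjective
  infer_instance

theorem subι_appTop :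
    (subι hU rs).appTop = U.topIso.hom ≫ CommRingCat.ofHom (Ideal.Quotient.mk (Ideal.ofList rs)) ≫
      (Scheme.ΓSpecIso _).inv := by
  rw [subι, Scheme.Hom.comp_appTop, IsAffineOpen.isoSpec_inv_appTop, Category.assoc]
  congr 1
  rw [Iso.inv_comp_eq, ← Scheme.ΓSpecIso_naturality_assoc, Iso.hom_inv_id, Category.comp_id]

theorem ker_subι_appTop :
    RingHom.ker (subι hU rs).appTop.hom = Ideal.ofList (rs.map U.topIso.inv.hom) := by
  rw [subι_appTop]
  ext y
  rw [RingHom.mem_ker]
  simp only [CommRingCat.hom_comp, CommRingCat.hom_ofHom, RingHom.coe_comp, Function.comp_apply]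
  rw [Groth.Agent.Lib.Seat40.RegImmBC.ofList_map]
  have hinj : Function.Injective (Scheme.ΓSpecIso (CommRingCat.of (Γ(X, U) ⧸ Ideal.ofList rs))).inv.hom :=
    (ConcreteCategory.bijective_of_isIso _).1
  rw [map_eq_zero_iff _ hinj, Ideal.Quotient.eq_zero_iff_mem]
  constructor
  · intro hy
    have := Ideal.mem_map_of_mem U.topIso.inv.hom hy
    rwa [← CommRingCat.comp_apply, Iso.hom_inv_id, CommRingCat.id_apply] at this
  · intro hy
    have := Ideal.mem_map_of_mem U.topIso.hom.hom hy
    rw [Ideal.map_map, ← CommRingCat.hom_comp, Iso.inv_hom_id] at this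
    simpa using this

theorem ker_subι_app_top :
    RingHom.ker ((subι hU rs).app ⊤).hom = Ideal.ofList (rs.map U.topIso.inv.hom) :=
  ker_subι_appTop hU rs

include hV in
/-- **The closed subscheme cut out by a transversally regular sequence is a transversally regular
immersion.** -/
theorem isTransRegularImmersion_subι
    (hrs : @RegImm.IsTransRegularSeq Γ(S, V) Γ(X, U) _ _ (f.appLE V U e').hom.toAlgebra rs) :
    RegImm.IsTransRegularImmersion (U.ι ≫ f) (subι hU rs) := by
  refine ⟨inferInstance, fun z => ?_⟩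
  haveI : IsAffine (U : Scheme.{u}) := hU
  have e : (⊤ : (U : Scheme.{u}).Opens) ≤ (U.ι ≫ f) ⁻¹ᵁ V := by
    intro y _
    exact e' y.2
  refine ⟨⟨⊤, isAffineOpen_top _⟩, ⟨V, hV⟩, e, trivial, inferInstance,
    rs.map U.topIso.inv.hom, ?_, ker_subι_app_top hU rs⟩
  letI : Algebra Γ(S, V) Γ(X, U) := (f.appLE V U e').hom.toAlgebra
  letI : Algebra Γ(S, V) Γ((U : Scheme.{u}), ⊤) := ((U.ι ≫ f).appLE V ⊤ e).hom.toAlgebra
  exact isTransRegularSeq_of_ringEquiv U.topIso.symm.commRingCatIsoToRingEquiv (fun a => by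
    change U.topIso.inv.hom ((f.appLE V U e').hom a) = ((U.ι ≫ f).appLE V ⊤ e).hom a
    rw [appLE_ι_comp f U V e' e]
    rfl) rs hrs

include hV in
theorem subι_comp_eq :
    Spec.map (CommRingCat.ofHom (Ideal.Quotient.mk (Ideal.ofList rs))) ≫ hU.fromSpec ≫ f =
      Spec.map (f.appLE V U e' ≫ CommRingCat.ofHom (Ideal.Quotient.mk (Ideal.ofList rs))) ≫
        hV.fromSpec := by
  rw [Spec.map_comp, Category.assoc, IsAffineOpen.SpecMap_appLE_fromSpec f hV hU e']

include hV in
/-- the closed subscheme cut out by a transversally regular sequence is flat over the base. -/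
theorem flat_subι_comp
    (hrs : @RegImm.IsTransRegularSeq Γ(S, V) Γ(X, U) _ _ (f.appLE V U e').hom.toAlgebra rs) :
    Flat (Spec.map (CommRingCat.ofHom (Ideal.Quotient.mk (Ideal.ofList rs))) ≫
      hU.fromSpec ≫ f) := by
  rw [subι_comp_eq f hU hV e' rs]
  haveI : Flat (Spec.map (f.appLE V U e' ≫
      CommRingCat.ofHom (Ideal.Quotient.mk (Ideal.ofList rs)))) := by
    rw [Flat.SpecMap_iff]
    letI : Algebra Γ(S, V) Γ(X, U) := (f.appLE V U e').hom.toAlgebra
    have h1 : Module.Flat Γ(S, V) (Γ(X, U) ⧸ Ideal.ofList rs) := by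
      have := hrs.2 rs.length le_rfl
      rwa [List.take_length] at this
    exact h1
  infer_instance

include hV e' in
theorem locallyOfFinitePresentation_subι_comp [LocallyOfFinitePresentation f] :
    LocallyOfFinitePresentation
      (Spec.map (CommRingCat.ofHom (Ideal.Quotient.mk (Ideal.ofList rs))) ≫
        hU.fromSpec ≫ f) := by
  rw [subι_comp_eq f hU hV e' rs]
  haveI : LocallyOfFinitePresentation (Spec.map (f.appLE V U e' ≫
      CommRingCat.ofHom (Ideal.Quotient.mk (Ideal.ofList rs)))) := by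
    rw [LocallyOfFinitePresentation.SpecMap_iff, CommRingCat.hom_comp]
    refine RingHom.FinitePresentation.comp ?_
      (HasRingHomProperty.appLE (P := @LocallyOfFinitePresentation) f inferInstance
        ⟨V, hV⟩ ⟨U, hU⟩ e')
    refine RingHom.FinitePresentation.of_surjective _ Ideal.Quotient.mk_surjective ?_
    rw [CommRingCat.hom_ofHom, Ideal.mk_ker]
    classical
    exact ⟨rs.toFinset, by simp [Ideal.ofList]⟩
  infer_instance

/-- points of `U` where `rs` vanishes lie on the closed subscheme. -/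
theorem mem_range_subι (x : X) (hx : x ∈ U)
    (h : ∀ r ∈ rs, r ∈ (hU.primeIdealOf ⟨x, hx⟩).asIdeal) :
    x ∈ Set.range ⇑(Spec.map (CommRingCat.ofHom (Ideal.Quotient.mk (Ideal.ofList rs))) ≫
      hU.fromSpec) := by
  set P := hU.primeIdealOf ⟨x, hx⟩ with hP
  have hle : Ideal.ofList rs ≤ P.asIdeal := Ideal.span_le.mpr h
  have hmem : P ∈ Set.range (PrimeSpectrum.comap (Ideal.Quotient.mk (Ideal.ofList rs))) := by
    rw [_root_.range_comap_of_surjective _ _ Ideal.Quotient.mk_surjective,
      PrimeSpectrum.mem_zeroLocus, Ideal.mk_ker]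
    exact hle
  obtain ⟨z, hz⟩ := hmem
  refine ⟨z, ?_⟩
  rw [Scheme.Hom.comp_apply]
  have h1 : (Spec.map (CommRingCat.ofHom (Ideal.Quotient.mk (Ideal.ofList rs)))) z = P := hz
  rw [h1, hP]
  exact hU.fromSpec_primeIdealOf ⟨x, hx⟩

include hV in
/-- **Package**: the closed subscheme of `U` cut out by a transversally regular sequence is a regular
closed immersion, and so is each of its base changes. -/
theorem isRegularClosedImmersion_subι
    (hrs : @RegImm.IsTransRegularSeq Γ(S, V) Γ(X, U) _ _ (f.appLE V U e').hom.toAlgebra rs) :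
    Mor2.IsRegularClosedImmersion (subι hU rs) :=
  TransReg.isRegularClosedImmersion_of_regImm _
    (TransReg.isRegularImmersion_of_transRegular _ _
      (isTransRegularImmersion_subι f hU hV e' rs hrs))

include hV in
theorem isRegularClosedImmersion_baseChange_subι
    (hrs : @RegImm.IsTransRegularSeq Γ(S, V) Γ(X, U) _ _ (f.appLE V U e').hom.toAlgebra rs)
    {S' : Scheme.{u}} (g : S' ⟶ S) (a : Spec (CommRingCat.of (Γ(X, U) ⧸ Ideal.ofList rs)) ⟶ S)
    (h₁ : a ≫ 𝟙 S = subι hU rs ≫ U.ι ≫ f) (h₂ : g ≫ 𝟙 S = 𝟙 S' ≫ g) :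
    Mor2.IsRegularClosedImmersion
      (pullback.map a g (U.ι ≫ f) g (subι hU rs) (𝟙 S') (𝟙 S) h₁ h₂) := by
  have hTR := isTransRegularImmersion_subι f hU hV e' rs hrs
  have hZ := isPullback_map_fst a (U.ι ≫ f) (subι hU rs) g h₁ h₂
  have hreg := TransReg.regular_of_isPullback (U.ι ≫ f) (subι hU rs) hTR g
    (pullback.fst (U.ι ≫ f) g) (pullback.snd (U.ι ≫ f) g) (IsPullback.of_hasPullback _ _)
    (pullback.fst a g) _ hZ
  haveI : IsClosedImmersion (pullback.map a g (U.ι ≫ f) g (subι hU rs) (𝟙 S') (𝟙 S) h₁ h₂) :=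
    MorphismProperty.of_isPullback (P := @IsClosedImmersion) hZ inferInstance
  exact TransReg.isRegularClosedImmersion_of_regImm _ hreg

end Sub

end Geom

end Groth.Agent.Lib.Seat7.TransRegSpec
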