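import Mathlib
import Groth.Prelude.Def_LCI2
import Groth.Agent.Lib.Seat7KosLocC
import Groth.Agent.Lib.Seat31LciBridge
import Groth.Agent.Lib.Seat7TransRegSpec

/-!
# Seat7: the Koszul (lci) locus of a morphism of flat, locally finitely presented `S`-schemes
is open and commutes with base change

* `isPushout_appLE_of_isPullback`: sections of an (abstract) fibre product over affine pieces
  form a pushout of rings;
* `kosLocus f`: the set of points with an affine neighbourhood mapping into an affine open with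
  lci ring map; `isOpen_kosLocus`;
* `lciH_appLE_iff_lciM`, `mem_kosLocus_iff_exists_lciM`, `mem_kosLocus_iff_exists_basicOpen`:
  descriptions of the locus;
* `kosLocus_baseChange`: the base change statement.
-/

set_option autoImplicit false
set_option linter.style.haveILetI false

universe u

open CategoryTheory CategoryTheory.Limits AlgebraicGeometry

namespace Groth.Agent.Lib.Seat7.KosLocSch

open Groth.Agent.Lib.Seat31.LciHom

section Pushout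

variable {P X S S' : Scheme.{u}} {p1 : P ⟶ X} {p2 : P ⟶ S'} {f : X ⟶ S} {g : S' ⟶ S}

/-- the piece of a fibre product over affine opens is affine. -/
theorem isAffineOpen_inf_of_isPullback (h : IsPullback p1 p2 f g) (U : X.Opens) (V : S.Opens)
    (V' : S'.Opens) (hU : U ≤ f ⁻¹ᵁ V) (hV' : V' ≤ g ⁻¹ᵁ V) (hUa : IsAffineOpen U)
    (hVa : IsAffineOpen V) (hV'a : IsAffineOpen V') :
    IsAffineOpen (p1 ⁻¹ᵁ U ⊓ p2 ⁻¹ᵁ V') := by
  haveI : IsAffine U := hUa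
  haveI : IsAffine V := hVa
  haveI : IsAffine V' := hV'a
  exact IsAffine.of_isPullback (Scheme.Hom.isPullback_resLE h hV' hU rfl)

/-- sections of a fibre product over an affine piece form a pushout of rings (abstract pullback
square). -/
theorem isPushout_appLE_of_isPullback (h : IsPullback p1 p2 f g) (U : X.Opens) (V : S.Opens)
    (V' : S'.Opens) (hU : U ≤ f ⁻¹ᵁ V) (hV' : V' ≤ g ⁻¹ᵁ V) (hUa : IsAffineOpen U)
    (hVa : IsAffineOpen V) (hV'a : IsAffineOpen V') :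
    IsPushout (f.appLE V U hU) (g.appLE V V' hV')
      (p1.appLE U (p1 ⁻¹ᵁ U ⊓ p2 ⁻¹ᵁ V') inf_le_left)
      (p2.appLE V' (p1 ⁻¹ᵁ U ⊓ p2 ⁻¹ᵁ V') inf_le_right) := by
  haveI : IsAffine U := hUa
  haveI : IsAffine V := hVa
  haveI : IsAffine V' := hV'a
  have h0 := isPushout_appTop_of_isPullback (Scheme.Hom.isPullback_resLE h hV' hU rfl)
  refine IsPushout.of_iso h0 V.topIso U.topIso V'.topIso
    (p1 ⁻¹ᵁ U ⊓ p2 ⁻¹ᵁ V').topIso ?_ ?_ ?_ ?_
  all_goals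
    rw [Scheme.Hom.appTop, Scheme.Hom.resLE_app_top, Category.assoc, Category.assoc,
      Iso.inv_hom_id, Category.comp_id]

end Pushout

section Locus

variable {X Y : Scheme.{u}}

/-- the Koszul (lci) locus of a morphism. -/
def kosLocus (f : X ⟶ Y) : Set X :=
  {x : ↑X | (∃ (U : X.Opens) (V : Y.Opens) (hU : IsAffineOpen U) (hV : IsAffineOpen V)
      (hUV : U ≤ f ⁻¹ᵁ V), x ∈ U ∧
        letI := (f.appLE V U hUV).hom.toAlgebra
        LCI.IsLCI Γ(Y, V) Γ(X, U))}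

theorem isOpen_kosLocus (f : X ⟶ Y) : IsOpen (kosLocus f) := by
  rw [isOpen_iff_forall_mem_open]
  rintro x ⟨U, V, hU, hV, hUV, hxU, hlci⟩
  exact ⟨U, fun z hz => ⟨U, V, hU, hV, hUV, hz, hlci⟩, U.isOpen, hxU⟩

theorem lciH_respectsIso : RingHom.RespectsIso @LciH := lciH_isLocal.respectsIso

/-- for affine opens `U ≤ f⁻¹ V`, the ring map `Γ(V) → Γ(U)` is lci iff `U → Y` is an lci
morphism. -/
theorem lciH_appLE_iff_lciM (f : X ⟶ Y) {U : X.Opens} {V : Y.Opens} (hU : IsAffineOpen U)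
    (hV : IsAffineOpen V) (e : U ≤ f ⁻¹ᵁ V) :
    LciH (f.appLE V U e).hom ↔ LciM (U.ι ≫ f) := by
  have e' : (⊤ : (U : Scheme.{u}).Opens) ≤ (U.ι ≫ f) ⁻¹ᵁ V := by
    intro z _
    exact e z.2
  have happ := Groth.Agent.Lib.Seat7.TransRegSpec.appLE_ι_comp f U V e e'
  have htop : IsAffineOpen (⊤ : (U : Scheme.{u}).Opens) := by
    haveI : IsAffine U := hU
    exact isAffineOpen_top _
  have hiff : LciH ((U.ι ≫ f).appLE V ⊤ e').hom ↔ LciH (f.appLE V U e).hom := by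
    rw [happ]
    exact lciH_respectsIso.cancel_right_isIso _ _
  constructor
  · intro h
    rw [lciM_iff_exists]
    intro z
    exact ⟨⟨V, hV⟩, ⟨⊤, htop⟩, trivial, e', hiff.2 h⟩
  · intro h
    exact hiff.1 (HasRingHomProperty.appLE (P := LciM) (U.ι ≫ f) h ⟨V, hV⟩ ⟨⊤, htop⟩ e')

/-- restriction of an lci restriction to a smaller open. -/
theorem lciM_ι_comp_of_le (f : X ⟶ Y) {U W : X.Opens} (hUW : U ≤ W) (h : LciM (W.ι ≫ f)) :
    LciM (U.ι ≫ f) := by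
  have : U.ι ≫ f = X.homOfLE hUW ≫ (W.ι ≫ f) := by
    rw [← Category.assoc, Scheme.homOfLE_ι]
  rw [this]
  exact IsZariskiLocalAtSource.comp h _

/-- the Koszul locus is the set of points having an open neighbourhood on which the morphism is
lci. -/
theorem mem_kosLocus_iff_exists_lciM (f : X ⟶ Y) (x : X) :
    x ∈ kosLocus f ↔ ∃ W : X.Opens, x ∈ W ∧ LciM (W.ι ≫ f) := by
  constructor
  · rintro ⟨U, V, hU, hV, hUV, hxU, hlci⟩
    exact ⟨U, hxU, (lciH_appLE_iff_lciM f hU hV hUV).1 hlci⟩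
  · rintro ⟨W, hxW, hW⟩
    obtain ⟨V, hV, hxV, -⟩ := TopologicalSpace.Opens.isBasis_iff_nbhd.mp Y.isBasis_affineOpens
      (TopologicalSpace.Opens.mem_top (f x))
    obtain ⟨U, hU, hxU, hUle⟩ := TopologicalSpace.Opens.isBasis_iff_nbhd.mp X.isBasis_affineOpens
      (show x ∈ W ⊓ f ⁻¹ᵁ V from ⟨hxW, hxV⟩)
    have hUW : U ≤ W := hUle.trans inf_le_left
    have hUV : U ≤ f ⁻¹ᵁ V := hUle.trans inf_le_right
    exact ⟨U, V, hU, hV, hUV, hxU,
      (lciH_appLE_iff_lciM f hU hV hUV).2 (lciM_ι_comp_of_le f hUW hW)⟩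

/-- for a basic open `D(b)` of an affine open `U`: `Γ(V) → Γ(U)_b` is lci iff `Γ(V) → Γ(D(b))`
is. -/
theorem lciH_away_iff (f : X ⟶ Y) {U : X.Opens} {V : Y.Opens} (hU : IsAffineOpen U)
    (e : U ≤ f ⁻¹ᵁ V) (b : Γ(X, U)) (eb : X.basicOpen b ≤ f ⁻¹ᵁ V) :
    LciH ((algebraMap Γ(X, U) (Localization.Away b)).comp (f.appLE V U e).hom) ↔
      LciH (f.appLE V (X.basicOpen b) eb).hom := by
  haveI := hU.isLocalization_basicOpen b
  let ε : Localization.Away b ≃ₐ[Γ(X, U)] Γ(X, X.basicOpen b) :=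
    IsLocalization.algEquiv (Submonoid.powers b) _ _
  have h0 : (ε.toRingEquiv.toRingHom).comp (algebraMap Γ(X, U) (Localization.Away b)) =
      algebraMap Γ(X, U) Γ(X, X.basicOpen b) := by
    ext r
    exact ε.commutes r
  have h1 : (f.appLE V (X.basicOpen b) eb).hom = (ε.toRingEquiv.toRingHom).comp
      ((algebraMap Γ(X, U) (Localization.Away b)).comp (f.appLE V U e).hom) := by
    rw [← RingHom.comp_assoc, h0, ← Scheme.Hom.appLE_map f e (homOfLE (X.basicOpen_le b)).op]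
    rfl
  constructor
  · intro h
    rw [h1]
    exact lciH_respectsIso.1 _ ε.toRingEquiv h
  · intro h
    rw [h1] at h
    have h2 := lciH_respectsIso.1 _ ε.toRingEquiv.symm h
    have h3 : (ε.toRingEquiv.symm.toRingHom).comp ((ε.toRingEquiv.toRingHom).comp
        ((algebraMap Γ(X, U) (Localization.Away b)).comp (f.appLE V U e).hom)) =
        (algebraMap Γ(X, U) (Localization.Away b)).comp (f.appLE V U e).hom := by
      ext r
      simp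
    rwa [h3] at h2

/-- description of the Koszul locus through the basic opens of a given affine pair. -/
theorem mem_kosLocus_iff_exists_basicOpen (f : X ⟶ Y) {U : X.Opens} {V : Y.Opens}
    (hU : IsAffineOpen U) (hV : IsAffineOpen V) (e : U ≤ f ⁻¹ᵁ V) (x : X) (hxU : x ∈ U) :
    x ∈ kosLocus f ↔ ∃ b : Γ(X, U), x ∈ X.basicOpen b ∧
      LciH ((algebraMap Γ(X, U) (Localization.Away b)).comp (f.appLE V U e).hom) := by
  constructor
  · intro hx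
    obtain ⟨W, hxW, hW⟩ := (mem_kosLocus_iff_exists_lciM f x).1 hx
    obtain ⟨b, hbW, hxb⟩ := hU.exists_basicOpen_le (V := W) ⟨x, hxW⟩ hxU
    have eb : X.basicOpen b ≤ f ⁻¹ᵁ V := (X.basicOpen_le b).trans e
    refine ⟨b, hxb, (lciH_away_iff f hU e b eb).2 ?_⟩
    exact (lciH_appLE_iff_lciM f (hU.basicOpen b) hV eb).2 (lciM_ι_comp_of_le f hbW hW)
  · rintro ⟨b, hxb, hb⟩
    have eb : X.basicOpen b ≤ f ⁻¹ᵁ V := (X.basicOpen_le b).trans e
    exact ⟨X.basicOpen b, V, hU.basicOpen b, hV, eb, hxb, (lciH_away_iff f hU e b eb).1 hb⟩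

end Locus

section BaseChange

variable {X Y S X' Y' S' : Scheme.{u}}

theorem appLE_congr_hom {X Y : Scheme.{u}} {φ ψ : X ⟶ Y} (hφψ : φ = ψ) (V : Y.Opens)
    (U : X.Opens) (e : U ≤ φ ⁻¹ᵁ V) (e' : U ≤ ψ ⁻¹ᵁ V) : φ.appLE V U e = ψ.appLE V U e' := by
  subst hφψ
  rfl

/-- **the Koszul locus commutes with base change** for morphisms of flat, locally finitely
presented `S`-schemes. -/
theorem kosLocus_baseChange (f : X ⟶ Y) (g : Y ⟶ S) [Flat (f ≫ g)]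
    [LocallyOfFinitePresentation (f ≫ g)] [Flat g] [LocallyOfFinitePresentation g]
    (h : S' ⟶ S) (gY : Y' ⟶ Y) (g' : Y' ⟶ S') (hY : IsPullback gY g' g h)
    (gX : X' ⟶ X) (f' : X' ⟶ Y') (hX : IsPullback gX (f' ≫ g') (f ≫ g) h)
    (w : gX ≫ f = f' ≫ gY) :
    kosLocus f' = gX ⁻¹' kosLocus f := by
  ext x'
  rw [Set.mem_preimage]
  have hpt : ∀ z : X', gY (f' z) = f (gX z) := by
    intro z
    have := congrArg (fun φ : X' ⟶ Y => φ z) w
    simpa using this.symm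
  have hptS : ∀ z : X', h (g' (f' z)) = g (f (gX z)) := by
    intro z
    have := congrArg (fun φ : X' ⟶ S => φ z) hX.w
    simpa using this.symm
  obtain ⟨WS, hWS, hxWS, -⟩ := TopologicalSpace.Opens.isBasis_iff_nbhd.mp S.isBasis_affineOpens
    (TopologicalSpace.Opens.mem_top (g (f (gX x'))))
  obtain ⟨WS', hWS', hxWS', hWS'le⟩ :=
    TopologicalSpace.Opens.isBasis_iff_nbhd.mp S'.isBasis_affineOpens
      (show g' (f' x') ∈ h ⁻¹ᵁ WS by
        show h (g' (f' x')) ∈ WS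
        rw [hptS]
        exact hxWS)
  obtain ⟨V, hV, hxV, hVle⟩ := TopologicalSpace.Opens.isBasis_iff_nbhd.mp Y.isBasis_affineOpens
    (show f (gX x') ∈ g ⁻¹ᵁ WS from hxWS)
  obtain ⟨U, hU, hxU, hUle⟩ := TopologicalSpace.Opens.isBasis_iff_nbhd.mp X.isBasis_affineOpens
    (show gX x' ∈ f ⁻¹ᵁ V from hxV)
  have hUleS : U ≤ (f ≫ g) ⁻¹ᵁ WS := fun z hz => hVle (hUle hz)
  have hV'aff : IsAffineOpen (gY ⁻¹ᵁ V ⊓ g' ⁻¹ᵁ WS') :=
    isAffineOpen_inf_of_isPullback hY V WS WS' hVle hWS'le hV hWS hWS'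
  have hU'aff : IsAffineOpen (gX ⁻¹ᵁ U ⊓ (f' ≫ g') ⁻¹ᵁ WS') :=
    isAffineOpen_inf_of_isPullback hX U WS WS' hUleS hWS'le hU hWS hWS'
  have hx'U' : x' ∈ gX ⁻¹ᵁ U ⊓ (f' ≫ g') ⁻¹ᵁ WS' := ⟨hxU, hxWS'⟩
  have hU'V' : gX ⁻¹ᵁ U ⊓ (f' ≫ g') ⁻¹ᵁ WS' ≤ f' ⁻¹ᵁ (gY ⁻¹ᵁ V ⊓ g' ⁻¹ᵁ WS') := by
    intro z hz
    refine ⟨?_, hz.2⟩
    show gY (f' z) ∈ V
    rw [hpt]
    exact hUle hz.1
  rw [mem_kosLocus_iff_exists_basicOpen f' hU'aff hV'aff hU'V' x' hx'U',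
    mem_kosLocus_iff_exists_basicOpen f hU hV hUle (gX x') hxU]
  have hCpo := isPushout_appLE_of_isPullback hY V WS WS' hVle hWS'le hV hWS hWS'
  have hBpo := isPushout_appLE_of_isPullback hX U WS WS' hUleS hWS'le hU hWS hWS'
  have hBpo' : IsPushout (g.appLE WS V hVle ≫ f.appLE V U hUle) (h.appLE WS WS' hWS'le)
      (gX.appLE U (gX ⁻¹ᵁ U ⊓ (f' ≫ g') ⁻¹ᵁ WS') inf_le_left)
      (g'.appLE WS' (gY ⁻¹ᵁ V ⊓ g' ⁻¹ᵁ WS') inf_le_right ≫
        f'.appLE (gY ⁻¹ᵁ V ⊓ g' ⁻¹ᵁ WS') (gX ⁻¹ᵁ U ⊓ (f' ≫ g') ⁻¹ᵁ WS') hU'V') := by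
    rw [Scheme.Hom.appLE_comp_appLE, Scheme.Hom.appLE_comp_appLE]
    exact hBpo
  have hw' : gY.appLE V (gY ⁻¹ᵁ V ⊓ g' ⁻¹ᵁ WS') inf_le_left ≫
      f'.appLE (gY ⁻¹ᵁ V ⊓ g' ⁻¹ᵁ WS') (gX ⁻¹ᵁ U ⊓ (f' ≫ g') ⁻¹ᵁ WS') hU'V' =
      f.appLE V U hUle ≫ gX.appLE U (gX ⁻¹ᵁ U ⊓ (f' ≫ g') ⁻¹ᵁ WS') inf_le_left := by
    rw [Scheme.Hom.appLE_comp_appLE, Scheme.Hom.appLE_comp_appLE]
    exact (appLE_congr_hom w _ _ _ _).symm
  have hflatC : (g.appLE WS V hVle).hom.Flat := g.flat_appLE hWS hV hVle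
  have hfpC : (g.appLE WS V hVle).hom.FinitePresentation := g.finitePresentation_appLE hWS hV hVle
  have hflatB : (g.appLE WS V hVle ≫ f.appLE V U hUle).hom.Flat := by
    rw [Scheme.Hom.appLE_comp_appLE]
    exact (f ≫ g).flat_appLE hWS hU _
  have hfpB : (g.appLE WS V hVle ≫ f.appLE V U hUle).hom.FinitePresentation := by
    rw [Scheme.Hom.appLE_comp_appLE]
    exact (f ≫ g).finitePresentation_appLE hWS hU _
  have key := Groth.Agent.Lib.Seat7.KosLocC.exists_lciH_away_iff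
    (g.appLE WS V hVle) (f.appLE V U hUle) (h.appLE WS WS' hWS'le)
    (gY.appLE V (gY ⁻¹ᵁ V ⊓ g' ⁻¹ᵁ WS') inf_le_left)
    (g'.appLE WS' (gY ⁻¹ᵁ V ⊓ g' ⁻¹ᵁ WS') inf_le_right)
    (gX.appLE U (gX ⁻¹ᵁ U ⊓ (f' ≫ g') ⁻¹ᵁ WS') inf_le_left)
    (f'.appLE (gY ⁻¹ᵁ V ⊓ g' ⁻¹ᵁ WS') (gX ⁻¹ᵁ U ⊓ (f' ≫ g') ⁻¹ᵁ WS') hU'V')
    hCpo hBpo' hw' hflatC hfpC hflatB hfpB (hU'aff.primeIdealOf ⟨x', hx'U'⟩).asIdeal
  have hmem' : ∀ b' : Γ(X', gX ⁻¹ᵁ U ⊓ (f' ≫ g') ⁻¹ᵁ WS'),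
      x' ∈ X'.basicOpen b' ↔ b' ∉ (hU'aff.primeIdealOf ⟨x', hx'U'⟩).asIdeal :=
    fun b' => mem_basicOpen_iff_notMem_primeIdealOf hU'aff x' hx'U' b'
  have hmem : ∀ b : Γ(X, U), gX x' ∈ X.basicOpen b ↔
      (gX.appLE U (gX ⁻¹ᵁ U ⊓ (f' ≫ g') ⁻¹ᵁ WS') inf_le_left).hom b ∉
        (hU'aff.primeIdealOf ⟨x', hx'U'⟩).asIdeal := by
    intro b
    rw [← hmem', Scheme.basicOpen_appLE]
    constructor
    · intro hb
      exact ⟨hx'U', hb⟩
    · intro hb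
      exact hb.2
  simp only [hmem', hmem]
  exact key

end BaseChange

end Groth.Agent.Lib.Seat7.KosLocSch
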