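import Groth.Agent.Lib.Seat7H1DescentC
import Groth.Agent.Lib.Helper19QRegDescent
import Groth.Agent.Lib.Seat40RegSeqFlat
import Groth.Agent.Lib.Seat40RegImmBC

/-!
# Seat7: ideals locally generated by sequences of a given kind; faithfully flat descent

* `LocK k I`: around every prime containing `I`, on a basic open, `I` is generated by a sequence of
  kind `k` (`RegImm.Kind`);
* `locK_of_faithfullyFlat`: for `k` Koszul, `H_1` or quasi, `LocK k` descends along faithfully flat
  ring maps;
* `exists_list_of_algEquiv`: transport of generating sequences of kind `k` along an isomorphism of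
  algebras.
-/

set_option autoImplicit false
set_option linter.style.haveILetI false
universe u

namespace Groth.Agent.Lib.Seat7.LocK

open Groth.Agent.Lib.Seat7.KRDescentA Groth.Agent.Lib.Seat7.KRDescentD
  Groth.Agent.Lib.Seat7.H1DescentA Groth.Agent.Lib.Seat7.H1DescentC
  Groth.Agent.Lib.Seat40.RegSeqFlat Groth.Agent.Lib.Seat40.RegImmBC

variable {A : Type u} [CommRing A]

/-- around every prime containing `I`, on a basic open, `I` is generated by a sequence of kind
`k`. -/
def LocK (k : RegImm.Kind) (I : Ideal A) : Prop :=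
  ∀ 𝔭 : PrimeSpectrum A, I ≤ 𝔭.asIdeal → ∃ g : A, g ∉ 𝔭.asIdeal ∧
    ∃ l : List (Localization.Away g), k.Seq (Localization.Away g) l ∧
      I.map (algebraMap A (Localization.Away g)) = Ideal.ofList l

theorem locK_koszul_iff (I : Ideal A) : LocK .koszul I ↔ LCI.IsKoszulRegularIdeal I := Iff.rfl

theorem locK_h1_iff (I : Ideal A) : LocK .h1 I ↔ IsH1RegularIdeal I := by
  constructor
  · intro h 𝔭 h𝔭
    obtain ⟨g, hg, l, hl, hspan⟩ := h 𝔭 h𝔭
    exact ⟨g, hg, l, (h1_iff l).1 hl, hspan⟩
  · intro h 𝔭 h𝔭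
    obtain ⟨g, hg, l, hl, hspan⟩ := h 𝔭 h𝔭
    exact ⟨g, hg, l, (h1_iff l).2 hl, hspan⟩

theorem locK_quasi_iff (I : Ideal A) : LocK .quasi I ↔ PP16.IsLocallyQuasiRegular A I := by
  constructor
  · intro h P hP hIP
    obtain ⟨g, hg, l, hl, hspan⟩ := h ⟨P, hP⟩ hIP
    refine ⟨g, hg, l.length, l.get, hl, ?_⟩
    rw [Groth.Agent.Lib.Seat40.KoszulMin.range_get_eq, hspan]
  · intro h 𝔭 h𝔭
    haveI := 𝔭.isPrime
    obtain ⟨g, hg, r, f, hf, hspan⟩ := h 𝔭.asIdeal h𝔭
    refine ⟨g, hg, List.ofFn f, ?_, ?_⟩
    · exact quasi_congr (List.length_ofFn (f := f)).symm f _ (fun i => by simp) hf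
    · rw [← hspan]
      exact (span_mem_ofFn f).symm

/-- **faithfully flat descent** of ideals locally generated by Koszul-regular, `H_1`-regular or
quasi-regular sequences. -/
theorem locK_of_faithfullyFlat (k : RegImm.Kind) (hk : k ≠ .regular) {B : Type u} [CommRing B]
    (φ : A →+* B) (hφ : φ.FaithfullyFlat) (I : Ideal A) (h : LocK k (I.map φ)) : LocK k I := by
  letI : Algebra A B := φ.toAlgebra
  haveI : Module.FaithfullyFlat A B := hφ
  cases k with
  | regular => exact absurd rfl hk
  | koszul => exact isKoszulRegularIdeal_of_faithfullyFlat A B I h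
  | h1 =>
    rw [locK_h1_iff] at h ⊢
    exact isH1RegularIdeal_of_faithfullyFlat A B I h
  | quasi =>
    rw [locK_quasi_iff] at h ⊢
    exact Groth.Agent.Lib.Helper19.QRegDescent.isLocallyQuasiRegular_of_faithfullyFlat A B I h

/-- transport of generating sequences of kind `k` along an isomorphism of `R`-algebras. -/
theorem exists_list_of_algEquiv (k : RegImm.Kind) {R T T' : Type u} [CommRing R] [CommRing T]
    [CommRing T'] [Algebra R T] [Algebra R T'] (e : T ≃ₐ[R] T') (I : Ideal R) (l : List T)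
    (hl : k.Seq T l) (hspan : I.map (algebraMap R T) = Ideal.ofList l)
    (hne : I.map (algebraMap R T') ≠ ⊤) :
    ∃ l' : List T', k.Seq T' l' ∧ I.map (algebraMap R T') = Ideal.ofList l' := by
  have hcomp : (e : T →+* T').comp (algebraMap R T) = algebraMap R T' := by
    ext a
    exact e.commutes a
  have hmap : I.map (algebraMap R T') = Ideal.ofList (l.map (e : T →+* T')) := by
    rw [← hcomp, ← Ideal.map_map, hspan, ofList_map]
  refine ⟨l.map (e : T →+* T'), ?_, hmap⟩
  refine seq_of_flat (e : T →+* T') k (RingHom.Flat.of_bijective e.bijective) l hl ?_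
  rw [← hmap]
  exact hne

/-- the extension of an ideal contained in a prime `𝔭` to the localization away from `g ∉ 𝔭` is
proper. -/
theorem map_away_ne_top (I : Ideal A) (𝔭 : Ideal A) [𝔭.IsPrime] (hI : I ≤ 𝔭) (g : A) (hg : g ∉ 𝔭)
    (T : Type u) [CommRing T] [Algebra A T] [IsLocalization.Away g T] :
    I.map (algebraMap A T) ≠ ⊤ := by
  rw [IsLocalization.map_algebraMap_ne_top_iff_disjoint (Submonoid.powers g), Set.disjoint_left]
  rintro _ ⟨n, rfl⟩ hmem
  exact hg (Ideal.IsPrime.mem_of_pow_mem inferInstance n (hI hmem))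

end Groth.Agent.Lib.Seat7.LocK
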