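import Mathlib
import Groth.Agent.Lib.Seat7FibDict
import Groth.Agent.Lib.Seat56FibReg6
import Groth.Agent.S9272
import Groth.Agent.S2586

/-!
# Lifting quasi-regular sequences with flat quotient across a locally nilpotent ideal (Seat 7)

`flat_quotient_of_quasiRegular_mod_locallyNilpotent` (S9270).
-/

set_option autoImplicit false
universe u
open TensorProduct

namespace Groth.Agent.Lib.Seat7.NilLift

section
variable {A' B' : Type u} [CommRing A'] [CommRing B'] [Algebra A' B'] (I : Ideal A')
  (p : Ideal A') [p.IsPrime] (hIp : I ≤ p)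

/-- the `A'/I`-algebra structure on `κ(p)` for `I ≤ p`. -/
noncomputable def algQuot : Algebra (A' ⧸ I) p.ResidueField :=
  (Ideal.Quotient.lift I (algebraMap A' p.ResidueField) (fun a ha => by
    rw [Ideal.algebraMap_residueField_eq_zero]; exact hIp ha)).toAlgebra

include hIp in
theorem fibreIso_exists :
    letI := algQuot I p hIp
    ∃ e : p.ResidueField ⊗[A' ⧸ I] (B' ⧸ I.map (algebraMap A' B')) ≃+* B' ⊗[A'] p.ResidueField,
      ∀ b : B', e (1 ⊗ₜ Ideal.Quotient.mk _ b) = b ⊗ₜ 1 := by
  letI := algQuot I p hIp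
  haveI : IsScalarTower A' (A' ⧸ I) p.ResidueField := IsScalarTower.of_algebraMap_eq (fun x => rfl)
  let e1 : p.ResidueField ⊗[A' ⧸ I] (B' ⧸ I.map (algebraMap A' B')) ≃ₐ[A' ⧸ I]
      p.ResidueField ⊗[A' ⧸ I] ((A' ⧸ I) ⊗[A'] B') :=
    Algebra.TensorProduct.congr AlgEquiv.refl (Algebra.TensorProduct.quotIdealMapEquivQuotTensor B' I)
  let e2 : p.ResidueField ⊗[A' ⧸ I] ((A' ⧸ I) ⊗[A'] B') ≃ₐ[p.ResidueField]
      p.ResidueField ⊗[A'] B' :=
    Algebra.TensorProduct.cancelBaseChange A' (A' ⧸ I) p.ResidueField p.ResidueField B'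
  let e3 : p.ResidueField ⊗[A'] B' ≃ₐ[A'] B' ⊗[A'] p.ResidueField :=
    Algebra.TensorProduct.comm A' p.ResidueField B'
  refine ⟨(e1.toRingEquiv.trans e2.toRingEquiv).trans e3.toRingEquiv, fun b => ?_⟩
  simp [e1, e2, e3]

end

/-- quasi-regularity on the fibre ring `B' ⊗[A'] κ(p)` of lifts of a quasi-regular sequence
modulo `I ≤ p` with flat quotient. -/
theorem isQuasiRegular_fibre {A' B' : Type u} [CommRing A'] [CommRing B'] [Algebra A' B']
    (I : Ideal A') (p : Ideal A') [p.IsPrime] (hIp : I ≤ p) (r : ℕ) (f' : Fin r → B')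
    (hq : CAlgX.IsQuasiRegular
      (fun i => Ideal.Quotient.mk (Ideal.map (algebraMap A' B') I) (f' i)))
    (hflat : Module.Flat (A' ⧸ I)
      ((B' ⧸ Ideal.map (algebraMap A' B') I) ⧸
        Ideal.span (Set.range (fun i => Ideal.Quotient.mk (Ideal.map (algebraMap A' B') I) (f' i))))) :
    CAlgX.IsQuasiRegular (fun i => (f' i ⊗ₜ[A'] (1 : p.ResidueField))) := by
  letI := algQuot I p hIp
  obtain ⟨e, he⟩ := fibreIso_exists (B' := B') I p hIp
  have h1 := Groth.Agent.S9272.result (A' ⧸ I) (B' ⧸ Ideal.map (algebraMap A' B') I) p.ResidueField r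
    (fun i => Ideal.Quotient.mk (Ideal.map (algebraMap A' B') I) (f' i)) hflat hq
  have h2 := Groth.Agent.Lib.Seat40.RegSeqFlat.quasi_of_flat_fun e.toRingHom
    (RingHom.Flat.of_bijective e.bijective) _ h1
  simpa [he] using h2

/-- **S9270**. -/
theorem flat_quotient (A' B' : Type u) [CommRing A']
    [CommRing B'] [Algebra A' B'] [Module.Flat A' B'] [Algebra.FinitePresentation A' B']
    (I : Ideal A') (hI : ∀ x ∈ I, IsNilpotent x) (r : ℕ) (f' : Fin r → B')
    (hq : CAlgX.IsQuasiRegular
      (fun i => Ideal.Quotient.mk (Ideal.map (algebraMap A' B') I) (f' i)))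
    (hflat : Module.Flat (A' ⧸ I)
      ((B' ⧸ Ideal.map (algebraMap A' B') I) ⧸
        Ideal.span (Set.range (fun i => Ideal.Quotient.mk (Ideal.map (algebraMap A' B') I) (f' i))))) :
    Module.Flat A' (B' ⧸ Ideal.span (Set.range f')) := by
  set M := B' ⧸ Ideal.span (Set.range f') with hM
  refine Module.flat_of_isLocalized_maximal B' M (fun P _ => LocalizedModule P.primeCompl M)
    (fun P _ => LocalizedModule.mkLinearMap P.primeCompl M) (fun P hP => ?_)
  by_cases hfP : ∀ i, f' i ∈ P
  · have hIp : I ≤ P.comap (algebraMap A' B') := by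
      intro x hx
      obtain ⟨n, hn⟩ := hI x hx
      exact Ideal.IsPrime.mem_of_pow_mem inferInstance n (by rw [hn]; exact Ideal.zero_mem _)
    have hq' := isQuasiRegular_fibre I (P.comap (algebraMap A' B')) hIp r f' hq hflat
    have hreg := Groth.Agent.Lib.Seat7.FibDict.isRegular_fibre_of_isQuasiRegular P f' hfP hq'
    have hfl : Module.Flat A' (LocalizedModule P.primeCompl B') :=
      Groth.Agent.Lib.Helper3.FlatLoc.flat_localizedModule_of_flat P.primeCompl
    have key := (Groth.Agent.S2586.result (A := A') (B := B') B' P (List.ofFn f')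
      (by
        intro b hb
        obtain ⟨i, rfl⟩ := (List.mem_ofFn' f' b).mp hb
        exact hfP i) hfl hreg).2 r (by simp)
    have hspan : (Ideal.span {b | b ∈ (List.ofFn f').take r} • (⊤ : Submodule B' B'))
        = Ideal.span (Set.range f') := by
      rw [smul_eq_mul, Ideal.mul_top]
      congr 1
      ext b
      rw [List.take_of_length_le (by simp)]
      simp only [Set.mem_setOf_eq, List.mem_ofFn', Set.mem_range]
    exact Module.Flat.of_linearEquiv
      ((Groth.Agent.Lib.Seat56.FibReg.localizedModuleCongr P.primeCompl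
        (Submodule.quotEquivOfEq _ _ hspan)).symm.restrictScalars A')
  · push Not at hfP
    obtain ⟨i, hi⟩ := hfP
    haveI : Subsingleton (LocalizedModule P.primeCompl M) := by
      rw [LocalizedModule.subsingleton_iff]
      intro m
      refine ⟨f' i, hi, ?_⟩
      obtain ⟨b, rfl⟩ := Ideal.Quotient.mk_surjective m
      rw [← Ideal.Quotient.mk_eq_mk, ← Submodule.Quotient.mk_smul, Ideal.Quotient.mk_eq_mk,
        Ideal.Quotient.eq_zero_iff_mem, smul_eq_mul]
      exact Ideal.mul_mem_right _ _ (Ideal.subset_span ⟨i, rfl⟩)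
    infer_instance

end Groth.Agent.Lib.Seat7.NilLift
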