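import Mathlib
import Groth.Agent.Lib.Seat7NilLift

/-!
# Smooth variant of `Seat7NilLift` (S9271)
-/

set_option autoImplicit false
universe u
open TensorProduct

namespace Groth.Agent.Lib.Seat7.NilLiftSmooth

open Groth.Agent.Lib.Seat7.NilLift

section
variable {A' B' : Type u} [CommRing A'] [CommRing B'] [Algebra A' B'] (I : Ideal A')
  {r : ℕ} (f' : Fin r → B')

/-- `(B'/IB')/(f̄) ≃ (A'/I) ⊗ (B'/(f'))` as `A'/I`-algebras. -/
theorem exists_quotEquiv :
    Nonempty (((B' ⧸ Ideal.map (algebraMap A' B') I) ⧸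
        Ideal.span (Set.range (fun i => Ideal.Quotient.mk (Ideal.map (algebraMap A' B') I) (f' i))))
        ≃ₐ[A' ⧸ I] (A' ⧸ I) ⊗[A'] (B' ⧸ Ideal.span (Set.range f'))) := by
  set IB := Ideal.map (algebraMap A' B') I with hIB
  set J := Ideal.span (Set.range f') with hJ
  have h1 : J.map (Ideal.Quotient.mk IB) =
      Ideal.span (Set.range (fun i => Ideal.Quotient.mk IB (f' i))) := by
    rw [hJ, Ideal.map_span, ← Set.range_comp]
    rfl
  have h2 : IB.map (Ideal.Quotient.mk J) = I.map (algebraMap A' (B' ⧸ J)) := by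
    rw [hIB, Ideal.map_map]
    rfl
  let e1 : ((B' ⧸ IB) ⧸ Ideal.span (Set.range (fun i => Ideal.Quotient.mk IB (f' i)))) ≃+*
      (B' ⧸ J) ⧸ I.map (algebraMap A' (B' ⧸ J)) :=
    ((Ideal.quotEquivOfEq h1.symm).trans (DoubleQuot.quotQuotEquivComm IB J)).trans
      (Ideal.quotEquivOfEq h2)
  let e2 : ((B' ⧸ J) ⧸ I.map (algebraMap A' (B' ⧸ J))) ≃ₐ[A' ⧸ I] (A' ⧸ I) ⊗[A'] (B' ⧸ J) :=
    Algebra.TensorProduct.quotIdealMapEquivQuotTensor (B' ⧸ J) I
  let e3 : ((B' ⧸ IB) ⧸ Ideal.span (Set.range (fun i => Ideal.Quotient.mk IB (f' i)))) ≃ₐ[A']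
      (A' ⧸ I) ⊗[A'] (B' ⧸ J) :=
    { __ := e1.trans e2.toRingEquiv
      commutes' := fun a => by
        change e2 (e1 (algebraMap A' _ a)) = _
        have : e1 (algebraMap A' _ a) = algebraMap A' _ a := rfl
        rw [this]
        exact e2.commutes (algebraMap A' (A' ⧸ I) a) |>.trans rfl }
  exact ⟨AlgEquiv.extendScalarsOfSurjective Ideal.Quotient.mk_surjective e3⟩

end

/-- **S9271**. -/
theorem smooth_quotient (A' B' : Type u) [CommRing A']
    [CommRing B'] [Algebra A' B'] [Module.Flat A' B'] [Algebra.FinitePresentation A' B']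
    (I : Ideal A') (hI : ∀ x ∈ I, IsNilpotent x) (r : ℕ) (f' : Fin r → B')
    (hq : CAlgX.IsQuasiRegular
      (fun i => Ideal.Quotient.mk (Ideal.map (algebraMap A' B') I) (f' i)))
    (hsm : Algebra.Smooth (A' ⧸ I)
      ((B' ⧸ Ideal.map (algebraMap A' B') I) ⧸
        Ideal.span (Set.range (fun i => Ideal.Quotient.mk (Ideal.map (algebraMap A' B') I) (f' i))))) :
    Algebra.Smooth A' (B' ⧸ Ideal.span (Set.range f')) := by
  haveI : Module.Flat A' (B' ⧸ Ideal.span (Set.range f')) :=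
    flat_quotient A' B' I hI r f' hq inferInstance
  haveI : Algebra.FinitePresentation A' (B' ⧸ Ideal.span (Set.range f')) :=
    Algebra.FinitePresentation.quotient ⟨(Set.finite_range f').toFinset, by simp⟩
  refine Algebra.Smooth.of_formallySmooth_fiber (fun P _ => ?_)
  have hIp : I ≤ P := by
    intro x hx
    obtain ⟨n, hn⟩ := hI x hx
    exact Ideal.IsPrime.mem_of_pow_mem inferInstance n (by rw [hn]; exact Ideal.zero_mem _)
  letI := algQuot I P hIp
  haveI : IsScalarTower A' (A' ⧸ I) P.ResidueField := IsScalarTower.of_algebraMap_eq (fun x => rfl)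
  obtain ⟨e₁⟩ := exists_quotEquiv I f'
  let e₂ := Algebra.TensorProduct.congr (AlgEquiv.refl (R := P.ResidueField) (A₁ := P.ResidueField)) e₁
  let e₃ := Algebra.TensorProduct.cancelBaseChange A' (A' ⧸ I) P.ResidueField P.ResidueField
    (B' ⧸ Ideal.span (Set.range f'))
  haveI : Algebra.FormallySmooth (A' ⧸ I) ((B' ⧸ Ideal.map (algebraMap A' B') I) ⧸
        Ideal.span (Set.range (fun i => Ideal.Quotient.mk (Ideal.map (algebraMap A' B') I) (f' i)))) :=
    inferInstance
  haveI : Algebra.FormallySmooth P.ResidueField (P.ResidueField ⊗[A' ⧸ I]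
      ((B' ⧸ Ideal.map (algebraMap A' B') I) ⧸
        Ideal.span (Set.range (fun i => Ideal.Quotient.mk (Ideal.map (algebraMap A' B') I) (f' i))))) :=
    inferInstance
  let e₄ : (P.ResidueField ⊗[A' ⧸ I]
      ((B' ⧸ Ideal.map (algebraMap A' B') I) ⧸
        Ideal.span (Set.range (fun i => Ideal.Quotient.mk (Ideal.map (algebraMap A' B') I) (f' i)))))
      ≃ₐ[P.ResidueField] P.Fiber (B' ⧸ Ideal.span (Set.range f')) := e₂.trans e₃
  exact Algebra.FormallySmooth.of_equiv (R := P.ResidueField) (A := (P.ResidueField ⊗[A' ⧸ I]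
      ((B' ⧸ Ideal.map (algebraMap A' B') I) ⧸
        Ideal.span (Set.range (fun i => Ideal.Quotient.mk (Ideal.map (algebraMap A' B') I) (f' i))))))
    (B := P.Fiber (B' ⧸ Ideal.span (Set.range f'))) e₄

end Groth.Agent.Lib.Seat7.NilLiftSmooth
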