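import Mathlib
import Groth.Prelude.Def_MoreMor
import Groth.Agent.Lib.Seat0PCHom

/-!
# Faithfully flat descent of pseudo-coherent ring maps (Seat7)
-/

set_option autoImplicit false
set_option maxHeartbeats 400000
universe u
open CategoryTheory CategoryTheory.Limits TensorProduct
attribute [local instance] HasDerivedCategory.standard

namespace Groth.Agent.Lib.Seat7.PCDescent

open DerivedCategory
open Groth.Agent.Lib.Seat0.PCHom
open Groth.Agent.Lib.Helper1.Restrict Groth.Agent.Lib.Helper1.RelPC Groth.Agent.Lib.Helper1.PC
open Groth.Agent.Lib.Helper1.Extend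

section Desc

/-- `G (algebraMap A B) B` is `B[0]` in `D(A)`. -/
noncomputable def gIso (A B : Type u) [CommRing A] [CommRing B] [Algebra A B] :
    (G (algebraMap A B)).obj (ModuleCat.of B B) ≅ Dual.inD A B :=
  (DerivedCategory.singleFunctor (ModuleCat.{u} A) 0).mapIso
    (restrictScalarsAlgebraIso (A := A) (B := B) B)

variable {A B A' B' : Type u} [CommRing A] [CommRing B] [CommRing A'] [CommRing B']
  [Algebra A B] [Algebra A A'] [Algebra A' B'] [Algebra B B'] [Algebra A B']
  [IsScalarTower A A' B'] [IsScalarTower A B B'] [Algebra.IsPushout A A' B B']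
  [Module.FaithfullyFlat A A']

/-- Faithfully flat descent for `BPC`, pushout form. -/
theorem bpc_of_isPushout (h : BPC (algebraMap A' B')) : BPC (algebraMap A B) := by
  intro m
  refine isPC_of_iso (gIso A B).symm ?_
  apply isPC_of_extD (A := A) (B := A')
  have e1 : (extD A A').obj (Dual.inD A B) ≅ Dual.inD A' (TensorProduct A A' B) :=
    extDInDIso (A := A) (B := A') B
  have e2 : Dual.inD A' (TensorProduct A A' B) ≅ Dual.inD A' B' :=
    (DerivedCategory.singleFunctor (ModuleCat.{u} A') 0).mapIso
      (Algebra.IsPushout.equiv A A' B B').toLinearEquiv.toModuleIso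
  exact isPC_of_iso ((gIso A' B') ≪≫ e2.symm ≪≫ e1.symm) (h m)

end Desc

section Surj

variable {R S : Type u} [CommRing R] [CommRing S]

/-- For a surjective pseudo-coherent ring map, the target is a pseudo-coherent module. -/
theorem bpc_of_pch_of_surjective {f : R →+* S} (h : PCH f) (hf : Function.Surjective f) :
    BPC f := by
  let e := (MvPolynomial.isEmptyAlgEquiv R (Fin 0))
  have hC : (f.comp e.toRingEquiv.toRingHom).comp MvPolynomial.C = f := by
    ext r
    have h1 : e (MvPolynomial.C r) = r := e.commutes r
    show f (e (MvPolynomial.C r)) = f r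
    rw [h1]
  have h1 : BPC (f.comp e.toRingEquiv.toRingHom) :=
    bpc_of_pch h _ hC (hf.comp e.surjective)
  have h2 : BPC (e.symm.toRingEquiv.toRingHom) := bpc_of_bijective _ e.symm.bijective
  have h3 := bpc_comp _ _ h2 h1
  have h4 : (f.comp e.toRingEquiv.toRingHom).comp e.symm.toRingEquiv.toRingHom = f := by
    ext r
    show f (e (e.symm r)) = f r
    rw [AlgEquiv.apply_symm_apply]
  rwa [h4] at h3

end Surj

section Main

attribute [local instance] MvPolynomial.algebraMvPolynomial

variable {R S T : Type u} [CommRing R] [CommRing S] [CommRing T] [Algebra R S] [Algebra R T]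

/-- Faithfully flat descent of pseudo-coherent ring maps (tensor product form). -/
theorem pch_of_tensorProduct [Module.FaithfullyFlat R S]
    (h : PCH (algebraMap S (S ⊗[R] T))) : PCH (algebraMap R T) := by
  have hft' : Algebra.FiniteType S (S ⊗[R] T) := RingHom.finiteType_algebraMap.1 (pch_finiteType h)
  haveI : Algebra.FiniteType R T := .of_finiteType_tensorProduct_of_faithfullyFlat S
  obtain ⟨n, α, hα⟩ := exists_presentation R T
  letI P := MvPolynomial (Fin n) R
  letI A' := MvPolynomial (Fin n) S
  letI B' := S ⊗[R] T
  -- algebra structures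
  letI : Algebra P T := α.toRingHom.toAlgebra
  haveI : IsScalarTower R P T := IsScalarTower.of_algebraMap_eq (fun r => (α.commutes r).symm)
  let α' : A' →ₐ[S] B' := MvPolynomial.aeval (fun i => (1 : S) ⊗ₜ[R] α (MvPolynomial.X i))
  letI : Algebra A' B' := α'.toRingHom.toAlgebra
  haveI : IsScalarTower S A' B' := IsScalarTower.of_algebraMap_eq (fun r => (α'.commutes r).symm)
  letI : Algebra T B' := Algebra.TensorProduct.rightAlgebra
  letI : Algebra P B' := ((algebraMap A' B').comp (algebraMap P A')).toAlgebra
  haveI : IsScalarTower P A' B' := IsScalarTower.of_algebraMap_eq (fun _ => rfl)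
  have hcomm : ∀ p : P, algebraMap A' B' (algebraMap P A' p) = algebraMap T B' (algebraMap P T p) := by
    intro p
    change α' (MvPolynomial.map (algebraMap R S) p) = (1 : S) ⊗ₜ[R] α p
    induction p using MvPolynomial.induction_on with
    | C r =>
      rw [MvPolynomial.map_C, MvPolynomial.algHom_C]
      have h1 : α (MvPolynomial.C r) = algebraMap R T r := α.commutes r
      rw [h1, Algebra.TensorProduct.algebraMap_apply, Algebra.algebraMap_self_apply,
        Algebra.algebraMap_eq_smul_one (A := S) r, Algebra.algebraMap_eq_smul_one (A := T) r,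
        TensorProduct.smul_tmul]
    | add p q hp hq => rw [map_add, map_add, map_add, hp, hq, TensorProduct.tmul_add]
    | mul_X p i hp =>
      rw [map_mul, map_mul, map_mul, hp, MvPolynomial.map_X]
      change _ * MvPolynomial.aeval _ (MvPolynomial.X i) = _
      rw [MvPolynomial.aeval_X, Algebra.TensorProduct.tmul_mul_tmul, one_mul]
  haveI : IsScalarTower P T B' := IsScalarTower.of_algebraMap_eq (fun p => hcomm p)
  haveI : IsScalarTower R S B' := inferInstance
  haveI : IsScalarTower R T B' := IsScalarTower.of_algebraMap_eq (fun r => by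
    change algebraMap R B' r = (1 : S) ⊗ₜ[R] algebraMap R T r
    rw [Algebra.TensorProduct.algebraMap_apply, Algebra.algebraMap_eq_smul_one r,
      TensorProduct.smul_tmul, ← Algebra.algebraMap_eq_smul_one])
  haveI : IsScalarTower R A' B' := IsScalarTower.of_algebraMap_eq (fun r => by
    rw [IsScalarTower.algebraMap_apply R S B', IsScalarTower.algebraMap_apply S A' B',
      IsScalarTower.algebraMap_apply R S A'])
  haveI : IsScalarTower R P B' := IsScalarTower.of_algebraMap_eq (fun r => by
    rw [IsScalarTower.algebraMap_apply R T B', IsScalarTower.algebraMap_apply R P T,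
      IsScalarTower.algebraMap_apply P T B'])
  -- the pushout square
  haveI hpo1 : Algebra.IsPushout R P S A' := inferInstance
  haveI hpo2 : Algebra.IsPushout R T S B' := inferInstance
  haveI hpo3 : Algebra.IsPushout P T A' B' :=
    (Algebra.IsPushout.comp_iff R P S A' (T := T) (T' := B')).1 hpo2
  haveI hpo4 : Algebra.IsPushout P A' T B' := hpo3.symm
  -- faithful flatness of `P → A'`
  haveI : Module.FaithfullyFlat P A' :=
    Module.FaithfullyFlat.of_linearEquiv P (P ⊗[R] S)
      (Algebra.IsPushout.equiv R P S A').toLinearEquiv.symm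
  -- pseudo-coherence upstairs
  have hα' : Function.Surjective α' := by
    intro x
    induction x using TensorProduct.induction_on with
    | zero => exact ⟨0, map_zero _⟩
    | tmul s t =>
      obtain ⟨p, rfl⟩ := hα t
      refine ⟨MvPolynomial.C s * MvPolynomial.map (algebraMap R S) p, ?_⟩
      rw [map_mul, MvPolynomial.algHom_C]
      have := hcomm p
      change α' (MvPolynomial.map (algebraMap R S) p) = (1 : S) ⊗ₜ[R] α p at this
      rw [this, Algebra.TensorProduct.algebraMap_apply, Algebra.algebraMap_self_apply,
        Algebra.TensorProduct.tmul_mul_tmul, mul_one, one_mul]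
    | add x y hx hy =>
      obtain ⟨a, rfl⟩ := hx
      obtain ⟨b, rfl⟩ := hy
      exact ⟨a + b, map_add _ _ _⟩
  have hbpc' : BPC (algebraMap A' B') := by
    refine bpc_of_pch h (α' : A' →+* B') ?_ hα'
    ext s
    exact α'.commutes s
  have hbpc : BPC (algebraMap P T) := bpc_of_isPushout (A := P) (B := T) (A' := A') (B' := B') hbpc'
  refine ⟨n, (α : P →+* T), ?_, hα, hbpc⟩
  ext r
  exact α.commutes r

theorem pch_codescendsAlong_faithfullyFlat :
    RingHom.CodescendsAlong @PCH RingHom.FaithfullyFlat := by
  refine .mk _ pch_respectsIso fun R S T _ _ _ _ _ h h' => ?_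
  rw [RingHom.faithfullyFlat_algebraMap_iff] at h
  exact pch_of_tensorProduct h'

end Main

end Groth.Agent.Lib.Seat7.PCDescent
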