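import Mathlib
import Groth.Prelude.Def_MoreMor
import Groth.Agent.Lib.Seat0PCHom
import Groth.Agent.Lib.Seat7PCDescent
import Groth.Agent.Lib.Helper14TorSyz
import Groth.Agent.Lib.Helper3FlatModel

/-!
# Flat ring maps of finite presentation are pseudo-coherent (Seat7)

Noetherian approximation (`Helper3.FlatModel.exists_flat_model`) + Tor-independent base change.
-/

set_option autoImplicit false
set_option maxHeartbeats 400000
universe u
open CategoryTheory CategoryTheory.Limits TensorProduct
attribute [local instance] HasDerivedCategory.standard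

namespace Groth.Agent.Lib.Seat7.PCFlatFP

open DerivedCategory
open Groth.Agent.Lib.Seat0.PCHom Groth.Agent.Lib.Seat7.PCDescent
open Groth.Agent.Lib.Helper1.Restrict Groth.Agent.Lib.Helper1.RelPC Groth.Agent.Lib.Helper1.PC
open Groth.Agent.Lib.Helper1.Extend Groth.Agent.Lib.Helper1.PCTower Groth.Agent.S14388

section TensorInj

/-- Tor-independent base change preserves injectivity: if `0 → K → F → M → 0` is an exact sequence
of `P₀`-modules with `M` flat over `R₀` and `P = R ⊗[R₀] P₀`, then `P ⊗[P₀] K → P ⊗[P₀] F` is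
injective. -/
theorem lTensor_injective_of_flat_coker (R₀ R P₀ P : Type u) [CommRing R₀] [CommRing R]
    [CommRing P₀] [CommRing P]
    [Algebra R₀ R] [Algebra R₀ P₀] [Algebra R₀ P] [Algebra R P] [Algebra P₀ P]
    [IsScalarTower R₀ R P] [IsScalarTower R₀ P₀ P] [Algebra.IsPushout R₀ R P₀ P]
    {K F M : Type u} [AddCommGroup K] [AddCommGroup F] [AddCommGroup M]
    [Module P₀ K] [Module P₀ F] [Module P₀ M] [Module R₀ K] [Module R₀ F] [Module R₀ M]
    [IsScalarTower R₀ P₀ K] [IsScalarTower R₀ P₀ F] [IsScalarTower R₀ P₀ M]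
    (g : K →ₗ[P₀] F) (f : F →ₗ[P₀] M)
    (hg : Function.Injective g) (hf : Function.Surjective f) (hex : Function.Exact g f)
    [Module.Flat R₀ M] : Function.Injective (g.lTensor P) := by
  let eK := Algebra.IsPushout.cancelBaseChange R₀ R P₀ P K
  let eF := Algebra.IsPushout.cancelBaseChange R₀ R P₀ P F
  have hR : Function.Injective ((g.restrictScalars R₀).lTensor R) :=
    LinearMap.lTensor_injective_of_exact_of_flat (f.restrictScalars R₀) hf
      (g.restrictScalars R₀) hg hex R
  have hsymm : ∀ y : R ⊗[R₀] K, eF.symm ((g.restrictScalars R₀).lTensor R y) =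
      g.lTensor P (eK.symm y) := by
    intro y
    induction y using TensorProduct.induction_on with
    | zero => simp
    | tmul s k =>
      change (Algebra.IsPushout.cancelBaseChangeAux R₀ R P₀ P F).symm (s ⊗ₜ[R₀] g k) =
        g.lTensor P ((Algebra.IsPushout.cancelBaseChangeAux R₀ R P₀ P K).symm (s ⊗ₜ[R₀] k))
      rw [Algebra.IsPushout.cancelBaseChangeAux_symm_tmul,
        Algebra.IsPushout.cancelBaseChangeAux_symm_tmul, LinearMap.lTensor_tmul]
    | add x y hx hy => simp only [map_add, hx, hy]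
  intro x y hxy
  apply eK.injective
  apply hR
  apply eF.symm.injective
  rw [hsymm, hsymm, LinearEquiv.symm_apply_apply, LinearEquiv.symm_apply_apply, hxy]

end TensorInj

section Induction

attribute [local instance] MvPolynomial.algebraMvPolynomial

variable (R₀ R : Type u) [CommRing R₀] [CommRing R] [Algebra R₀ R] [IsNoetherianRing R₀] (n : ℕ)

/-- Downward induction: base change of a finite `R₀`-flat module over the Noetherian polynomial
ring `R₀[x]` to `R[x]` is `m`-pseudo-coherent for all `m`. -/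
theorem isPC_tensor_aux (k : ℕ) : ∀ (M₀ : Type u) [AddCommGroup M₀]
    [Module (MvPolynomial (Fin n) R₀) M₀] [Module R₀ M₀]
    [IsScalarTower R₀ (MvPolynomial (Fin n) R₀) M₀] [Module.Finite (MvPolynomial (Fin n) R₀) M₀]
    [Module.Flat R₀ M₀],
    DRing.IsPseudoCoherent (MvPolynomial (Fin n) R) (1 - (k : ℤ))
      (Dual.inD (MvPolynomial (Fin n) R)
        ((MvPolynomial (Fin n) R) ⊗[MvPolynomial (Fin n) R₀] M₀)) := by
  induction k with
  | zero =>
    intro M₀ _ _ _ _ _ _
    haveI : (Dual.inD (MvPolynomial (Fin n) R)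
        ((MvPolynomial (Fin n) R) ⊗[MvPolynomial (Fin n) R₀] M₀)).IsLE (1 - ((0 : ℕ) : ℤ) - 1) :=
      tt.isLE_of_le _ 0 _ (by simp)
    exact isPC_of_isLE _ _
  | succ k ih =>
    intro M₀ _ _ _ _ _ _
    obtain ⟨r, f, hf⟩ := Module.Finite.exists_fin' (MvPolynomial (Fin n) R₀) M₀
    let K₀ := LinearMap.ker f
    have hex : Function.Exact K₀.subtype f := LinearMap.exact_subtype_ker_map f
    haveI : Module.Finite (MvPolynomial (Fin n) R₀) K₀ := Module.IsNoetherian.finite _ _
    haveI : Module.Flat R₀ (Fin r → MvPolynomial (Fin n) R₀) := inferInstance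
    haveI : Module.Flat R₀ K₀ :=
      Groth.Agent.Lib.Helper1.Tor.flat_ker (K₀.subtype.restrictScalars R₀) (f.restrictScalars R₀)
        K₀.subtype_injective hf hex
    have hinj : Function.Injective (K₀.subtype.lTensor (MvPolynomial (Fin n) R)) :=
      lTensor_injective_of_flat_coker R₀ R _ _ K₀.subtype f K₀.subtype_injective hf hex
    have hsurj : Function.Surjective (f.lTensor (MvPolynomial (Fin n) R)) :=
      LinearMap.lTensor_surjective _ hf
    have hex' : Function.Exact (K₀.subtype.lTensor (MvPolynomial (Fin n) R))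
        (f.lTensor (MvPolynomial (Fin n) R)) := lTensor_exact _ hex hf
    obtain ⟨Tr, hT, h1, h2, h3⟩ := Groth.Agent.Lib.Helper14.TorSyz.exists_triangle
      (TensorProduct.AlgebraTensorModule.lTensor (MvPolynomial (Fin n) R) (MvPolynomial (Fin n) R)
        K₀.subtype)
      (TensorProduct.AlgebraTensorModule.lTensor (MvPolynomial (Fin n) R) (MvPolynomial (Fin n) R) f)
      hinj hsurj hex'
    have hK := ih K₀
    have hF : DRing.IsPseudoCoherent (MvPolynomial (Fin n) R) (1 - ((k + 1 : ℕ) : ℤ))
        (Dual.inD (MvPolynomial (Fin n) R) ((MvPolynomial (Fin n) R) ⊗[MvPolynomial (Fin n) R₀]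
          (Fin r → MvPolynomial (Fin n) R₀))) :=
      isPC_single_of_finProj (ModuleCat.of (MvPolynomial (Fin n) R)
        ((MvPolynomial (Fin n) R) ⊗[MvPolynomial (Fin n) R₀]
          (Fin r → MvPolynomial (Fin n) R₀))) 0 _
    have := isPC_obj₃ Tr hT (1 - ((k + 1 : ℕ) : ℤ))
      (by rw [h1]; convert hK using 1; push_cast; ring) (by rw [h2]; exact hF)
    rw [h3] at this
    exact this

theorem isPC_tensor (M₀ : Type u) [AddCommGroup M₀]
    [Module (MvPolynomial (Fin n) R₀) M₀] [Module R₀ M₀]
    [IsScalarTower R₀ (MvPolynomial (Fin n) R₀) M₀] [Module.Finite (MvPolynomial (Fin n) R₀) M₀]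
    [Module.Flat R₀ M₀] (m : ℤ) :
    DRing.IsPseudoCoherent (MvPolynomial (Fin n) R) m
      (Dual.inD (MvPolynomial (Fin n) R)
        ((MvPolynomial (Fin n) R) ⊗[MvPolynomial (Fin n) R₀] M₀)) := by
  have h := isPC_tensor_aux R₀ R n (1 - m).toNat M₀
  exact isPC_mono (by omega) h

end Induction

section Main

attribute [local instance] MvPolynomial.algebraMvPolynomial

/-- Tor-independent base change of a flat finite type algebra over a Noetherian ring is
pseudo-coherent. -/
theorem pch_tensorProduct_of_flat_of_noetherian (R₀ R B₀ : Type u) [CommRing R₀] [CommRing R]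
    [CommRing B₀] [Algebra R₀ R] [Algebra R₀ B₀] [IsNoetherianRing R₀] [Algebra.FiniteType R₀ B₀]
    [Module.Flat R₀ B₀] : PCH (algebraMap R (R ⊗[R₀] B₀)) := by
  obtain ⟨n, α, hα⟩ := exists_presentation R₀ B₀
  letI P₀ := MvPolynomial (Fin n) R₀
  letI P := MvPolynomial (Fin n) R
  letI B' := R ⊗[R₀] B₀
  -- algebra structures
  letI : Algebra P₀ B₀ := α.toRingHom.toAlgebra
  haveI : IsScalarTower R₀ P₀ B₀ := IsScalarTower.of_algebraMap_eq (fun r => (α.commutes r).symm)
  let α' : P →ₐ[R] B' := MvPolynomial.aeval (fun i => (1 : R) ⊗ₜ[R₀] α (MvPolynomial.X i))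
  letI : Algebra P B' := α'.toRingHom.toAlgebra
  haveI : IsScalarTower R P B' := IsScalarTower.of_algebraMap_eq (fun r => (α'.commutes r).symm)
  letI : Algebra B₀ B' := Algebra.TensorProduct.rightAlgebra
  letI : Algebra P₀ B' := ((algebraMap P B').comp (algebraMap P₀ P)).toAlgebra
  haveI : IsScalarTower P₀ P B' := IsScalarTower.of_algebraMap_eq (fun _ => rfl)
  have hcomm : ∀ p : P₀, algebraMap P B' (algebraMap P₀ P p) =
      algebraMap B₀ B' (algebraMap P₀ B₀ p) := by
    intro p
    change α' (MvPolynomial.map (algebraMap R₀ R) p) = (1 : R) ⊗ₜ[R₀] α p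
    induction p using MvPolynomial.induction_on with
    | C r =>
      rw [MvPolynomial.map_C, MvPolynomial.algHom_C]
      have h1 : α (MvPolynomial.C r) = algebraMap R₀ B₀ r := α.commutes r
      rw [h1, Algebra.TensorProduct.algebraMap_apply, Algebra.algebraMap_self_apply,
        Algebra.algebraMap_eq_smul_one (A := R) r, Algebra.algebraMap_eq_smul_one (A := B₀) r,
        TensorProduct.smul_tmul]
    | add p q hp hq => rw [map_add, map_add, map_add, hp, hq, TensorProduct.tmul_add]
    | mul_X p i hp =>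
      rw [map_mul, map_mul, map_mul, hp, MvPolynomial.map_X]
      change _ * MvPolynomial.aeval _ (MvPolynomial.X i) = _
      rw [MvPolynomial.aeval_X, Algebra.TensorProduct.tmul_mul_tmul, one_mul]
  haveI : IsScalarTower P₀ B₀ B' := IsScalarTower.of_algebraMap_eq (fun p => hcomm p)
  haveI : IsScalarTower R₀ R B' := inferInstance
  haveI : IsScalarTower R₀ B₀ B' := IsScalarTower.of_algebraMap_eq (fun r => by
    change algebraMap R₀ B' r = (1 : R) ⊗ₜ[R₀] algebraMap R₀ B₀ r
    rw [Algebra.TensorProduct.algebraMap_apply, Algebra.algebraMap_eq_smul_one r,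
      TensorProduct.smul_tmul, ← Algebra.algebraMap_eq_smul_one])
  haveI : IsScalarTower R₀ P B' := IsScalarTower.of_algebraMap_eq (fun r => by
    rw [IsScalarTower.algebraMap_apply R₀ R B', IsScalarTower.algebraMap_apply R P B',
      IsScalarTower.algebraMap_apply R₀ R P])
  haveI : IsScalarTower R₀ P₀ B' := IsScalarTower.of_algebraMap_eq (fun r => by
    rw [IsScalarTower.algebraMap_apply R₀ B₀ B', IsScalarTower.algebraMap_apply R₀ P₀ B₀,
      IsScalarTower.algebraMap_apply P₀ B₀ B'])
  -- the pushout square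
  haveI hpo1 : Algebra.IsPushout R₀ P₀ R P := inferInstance
  haveI hpo2 : Algebra.IsPushout R₀ B₀ R B' := inferInstance
  haveI hpo3 : Algebra.IsPushout P₀ B₀ P B' :=
    (Algebra.IsPushout.comp_iff R₀ P₀ R P (T := B₀) (T' := B')).1 hpo2
  haveI hpo4 : Algebra.IsPushout P₀ P B₀ B' := hpo3.symm
  -- surjectivity
  have hα' : Function.Surjective α' := by
    intro x
    induction x using TensorProduct.induction_on with
    | zero => exact ⟨0, map_zero _⟩
    | tmul s t =>
      obtain ⟨p, rfl⟩ := hα t
      refine ⟨MvPolynomial.C s * MvPolynomial.map (algebraMap R₀ R) p, ?_⟩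
      rw [map_mul, MvPolynomial.algHom_C]
      have := hcomm p
      change α' (MvPolynomial.map (algebraMap R₀ R) p) = (1 : R) ⊗ₜ[R₀] α p at this
      rw [this, Algebra.TensorProduct.algebraMap_apply, Algebra.algebraMap_self_apply,
        Algebra.TensorProduct.tmul_mul_tmul, mul_one, one_mul]
    | add x y hx hy =>
      obtain ⟨a, rfl⟩ := hx
      obtain ⟨b, rfl⟩ := hy
      exact ⟨a + b, map_add _ _ _⟩
  -- pseudo-coherence
  haveI : Module.Finite P₀ B₀ := Module.Finite.of_surjective (Algebra.linearMap P₀ B₀) hα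
  have hbpc : BPC (algebraMap P B') := by
    intro m
    have h1 := isPC_tensor R₀ R n B₀ m
    have e2 : Dual.inD P (P ⊗[P₀] B₀) ≅ Dual.inD P B' :=
      (DerivedCategory.singleFunctor (ModuleCat.{u} P) 0).mapIso
        (Algebra.IsPushout.equiv P₀ P B₀ B').toLinearEquiv.toModuleIso
    exact isPC_of_iso (e2 ≪≫ (gIso P B').symm) h1
  refine ⟨n, (α' : P →+* B'), ?_, hα', hbpc⟩
  ext r
  exact α'.commutes r

/-- **A flat ring map of finite presentation is pseudo-coherent.** -/
theorem pch_of_flat_of_finitePresentation (R B : Type u) [CommRing R] [CommRing B] [Algebra R B]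
    [Module.Flat R B] [Algebra.FinitePresentation R B] : PCH (algebraMap R B) := by
  obtain ⟨R₀, B₀, _, _, _, _, hft, hfp, hflat, ⟨e⟩⟩ :=
    Groth.Agent.Lib.Helper3.FlatOpen.exists_flat_model R B
  haveI : IsNoetherianRing R₀ := Algebra.FiniteType.isNoetherianRing ℤ R₀
  haveI : Algebra.FiniteType R₀ B₀ := inferInstance
  have h1 := pch_tensorProduct_of_flat_of_noetherian R₀ R B₀
  have h2 : PCH (e : R ⊗[R₀] B₀ →+* B) := pch_of_bijective e.bijective
  have h3 := pch_comp h1 h2
  have h4 : (e : R ⊗[R₀] B₀ →+* B).comp (algebraMap R (R ⊗[R₀] B₀)) = algebraMap R B := by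
    ext r
    exact e.commutes r
  rwa [h4] at h3

end Main

end Groth.Agent.Lib.Seat7.PCFlatFP
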