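import Mathlib
import Groth.Prelude.Def_MoreMor
import Groth.Agent.Lib.Seat0PCMor

/-!
# Pseudo-coherent morphisms: stability under composition (Seat7)
-/

set_option autoImplicit false
universe u
open CategoryTheory CategoryTheory.Limits AlgebraicGeometry
attribute [local instance] HasDerivedCategory.standard

namespace Groth.Agent.Lib.Seat7.PCMorComp

open Groth.Agent.Lib.Seat0.PCHom Groth.Agent.Lib.Seat0.PCMor

instance : MorphismProperty.IsStableUnderComposition (PCM.{u}) :=
  HasRingHomProperty.stableUnderComposition (P := PCM) pch_stableUnderComposition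

theorem isPseudoCoherentMor_comp {X Y Z : Scheme.{u}} (f : X ⟶ Y) (g : Y ⟶ Z)
    (hf : MoreMor.IsPseudoCoherentMor f) (hg : MoreMor.IsPseudoCoherentMor g) :
    MoreMor.IsPseudoCoherentMor (f ≫ g) := by
  rw [isPseudoCoherentMor_iff] at hf hg ⊢
  exact MorphismProperty.comp_mem _ f g hf hg

end Groth.Agent.Lib.Seat7.PCMorComp
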