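import Mathlib
import Groth.Prelude.Def_MoreMor
import Groth.Agent.Lib.Seat0PCMor
import Groth.Agent.Lib.Seat7PCMorComp
import Groth.Agent.Lib.Seat7PCDescent

/-!
# fpqc descent of pseudo-coherent morphisms of schemes (Seat7)
-/

set_option autoImplicit false
universe u
open CategoryTheory CategoryTheory.Limits AlgebraicGeometry MorphismProperty
attribute [local instance] HasDerivedCategory.standard

namespace Groth.Agent.Lib.Seat7.PCMorDescent

open Groth.Agent.Lib.Seat0.PCHom Groth.Agent.Lib.Seat0.PCMor Groth.Agent.Lib.Seat7.PCDescent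
open Groth.Agent.Lib.Seat7.PCMorComp

theorem pch_containsIdentities : RingHom.ContainsIdentities @PCH :=
  fun _ _ => pch_of_bijective Function.bijective_id

instance : MorphismProperty.ContainsIdentities (PCM.{u}) :=
  HasRingHomProperty.containsIdentities (P := PCM) pch_containsIdentities

instance : MorphismProperty.IsMultiplicative (PCM.{u}) where
  comp_mem := (inferInstance : MorphismProperty.IsStableUnderComposition (PCM.{u})).comp_mem

/-- Pseudo-coherent morphisms are stable under base change along local isomorphisms. -/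
theorem pcm_pullback_fst_of_isLocalIso {T X W : Scheme.{u}} (q : T ⟶ X) [IsLocalIso q]
    (h' : W ⟶ X) (H : PCM h') : PCM (pullback.fst q h') := by
  have key := fun t : T => IsLocalIso.exists_isOpenImmersion (f := q) t
  choose V hV hVoi using key
  let U : ↥(pullback q h') → (pullback q h').Opens :=
    fun z => (pullback.fst q h') ⁻¹ᵁ (V (pullback.fst q h' z))
  have hU : iSup U = ⊤ := by
    rw [eq_top_iff]
    intro z _
    exact TopologicalSpace.Opens.mem_iSup.2 ⟨z, hV _⟩
  rw [IsZariskiLocalAtSource.iff_of_iSup_eq_top (P := PCM) U hU]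
  intro z
  have e : (U z).ι ≫ pullback.fst q h' =
      (pullback.fst q h' ∣_ V (pullback.fst q h' z)) ≫ (V (pullback.fst q h' z)).ι :=
    (morphismRestrict_ι _ _).symm
  rw [e]
  apply MorphismProperty.comp_mem
  · haveI := hVoi (pullback.fst q h' z)
    refine IsZariskiLocalAtTarget.of_isPullback (P := PCM) (f := h')
      (iY := (V (pullback.fst q h' z)).ι ≫ q) (iX := (U z).ι ≫ pullback.snd q h') ?_ H
    exact (isPullback_morphismRestrict (pullback.fst q h') (V (pullback.fst q h' z))).flip.paste_horiz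
      (IsPullback.of_hasPullback q h').flip
  · exact IsZariskiLocalAtSource.of_isOpenImmersion _

/-- **fpqc descent** for pseudo-coherent morphisms. -/
instance pcm_descendsAlong :
    MorphismProperty.DescendsAlong (PCM.{u}) (@Surjective ⊓ @Flat ⊓ @QuasiCompact) := by
  apply IsZariskiLocalAtTarget.descendsAlong
  intro R X Y f g hf h
  wlog hX : ∃ T, X = Spec T generalizing X
  · have _ : CompactSpace X := by simpa [← quasiCompact_iff_compactSpace f] using hf.2
    obtain ⟨Y', p, hsurj, hP', hY'⟩ := X.exists_hom_isAffine_of_isZariskiLocalAtSource @IsLocalIso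
    haveI hli : IsLocalIso p := hP'
    haveI hsp : Surjective p := hsurj
    refine this (f := (Y'.isoSpec.inv ≫ p) ≫ f) ?_ ?_ ⟨_, rfl⟩
    · haveI hsf : Surjective f := hf.1.1
      haveI hff : Flat f := hf.1.2
      haveI hfp : Flat p := IsLocalIso.le_of_isZariskiLocalAtSource @Flat _ _ p hP'
      exact ⟨⟨inferInstance, inferInstance⟩, inferInstance⟩
    · rw [← pullbackRightPullbackFstIso_inv_fst f g _, PCM.cancel_left_of_respectsIso]
      haveI hli1 : IsLocalIso Y'.isoSpec.inv := ⟨fun x => ⟨⊤, trivial, inferInstance⟩⟩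
      haveI hli2 : IsLocalIso (Y'.isoSpec.inv ≫ p) :=
        MorphismProperty.comp_mem _ _ _ hli1 hP'
      exact pcm_pullback_fst_of_isLocalIso _ _ h
  obtain ⟨T, rfl⟩ := hX
  obtain ⟨φ, rfl⟩ := Spec.map_surjective f
  wlog hY : ∃ S, Y = Spec S generalizing Y
  · rw [IsZariskiLocalAtSource.iff_of_openCover (P := PCM) Y.affineCover]
    intro i
    have heq : pullback.fst (Spec.map φ) (Y.affineCover.f i ≫ g) =
        pullback.map _ _ _ _ (𝟙 _) (Y.affineCover.f i) (𝟙 _) (by simp) (by simp) ≫
          pullback.fst (Spec.map φ) g := (pullback.lift_fst _ _ _).symm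
    exact this _ (heq ▸ AlgebraicGeometry.IsZariskiLocalAtSource.comp h _) ⟨_, rfl⟩
  obtain ⟨S, rfl⟩ := hY
  refine of_pullback_fst_Spec_of_codescendsAlong (P := PCM) (P' := @Surjective ⊓ @Flat)
    (Q := @PCH) (Q' := RingHom.FaithfullyFlat) pch_codescendsAlong_faithfullyFlat ?_ ?_ hf.1 h
  · intro R S f ⟨hf₁, hf₂⟩
    rw [RingHom.FaithfullyFlat.iff_flat_and_comap_surjective]
    refine ⟨?_, (Spec.map f).surjective⟩
    rwa [HasRingHomProperty.Spec_iff (P := @Flat)] at hf₂
  · intro R S f
    exact HasRingHomProperty.Spec_iff (P := PCM)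

/-- The statement in pullback-square form. -/
theorem isPseudoCoherentMor_of_isPullback {X S X' S' : Scheme.{u}} (f : X ⟶ S) (f' : X' ⟶ S')
    (g' : X' ⟶ X) (g : S' ⟶ S) [Flat g] [Surjective g] [QuasiCompact g]
    (hc : IsPullback g' f' f g) (hf' : MoreMor.IsPseudoCoherentMor f') :
    MoreMor.IsPseudoCoherentMor f := by
  rw [isPseudoCoherentMor_iff] at hf' ⊢
  exact MorphismProperty.of_isPullback_of_descendsAlong (P := PCM)
    (Q := @Surjective ⊓ @Flat ⊓ @QuasiCompact) hc.flip
    ⟨⟨inferInstance, inferInstance⟩, inferInstance⟩ hf'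

end Groth.Agent.Lib.Seat7.PCMorDescent
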