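import Mathlib
import Groth.Prelude.Def_MoreMor
import Groth.Agent.Lib.Seat7PCFlatFP

/-!
# Quotients of flat finitely presented algebras: pseudo-coherence of `A → B/I` (Seat7)
-/

set_option autoImplicit false
set_option maxHeartbeats 400000
universe u
open CategoryTheory CategoryTheory.Limits TensorProduct
attribute [local instance] HasDerivedCategory.standard

namespace Groth.Agent.Lib.Seat7.PCQuotient

open DerivedCategory
open Groth.Agent.Lib.Seat0.PCHom Groth.Agent.Lib.Seat7.PCDescent Groth.Agent.Lib.Seat7.PCFlatFP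
open Groth.Agent.Lib.Helper1.Restrict Groth.Agent.Lib.Helper1.RelPC Groth.Agent.Lib.Helper1.PC
open Groth.Agent.Lib.Helper1.Extend Groth.Agent.Lib.Helper1.PCTower

/-- `BPC (algebraMap A B)` is pseudo-coherence of the `A`-module `B`. -/
theorem bpc_algebraMap_iff {A B : Type u} [CommRing A] [CommRing B] [Algebra A B] :
    BPC (algebraMap A B) ↔ DRing.IsPseudoCoherentModule' A B := by
  constructor
  · intro h
    exact isPseudoCoherent'_of_forall _ (fun m => isPC_of_iso (gIso A B) (h m))
  · intro h
    exact bpc_of_algebra h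

/-- The ring itself is a pseudo-coherent module. -/
theorem isPseudoCoherentModule'_self (B : Type u) [CommRing B] :
    DRing.IsPseudoCoherentModule' B B :=
  isPseudoCoherent'_of_forall _ (fun m => isPC_single_of_finProj (ModuleCat.of B B) 0 m)

/-- For an ideal `I` of `B`: `B/I` is a pseudo-coherent `B`-module iff `I` is. -/
theorem isPseudoCoherentModule'_quotient_iff {B : Type u} [CommRing B] (I : Ideal B) :
    DRing.IsPseudoCoherentModule' B (B ⧸ I) ↔ DRing.IsPseudoCoherentModule' B ↥I := by
  obtain ⟨Tr, hT, h1, h2, h3⟩ := Groth.Agent.Lib.Helper14.TorSyz.exists_triangle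
    (Submodule.subtype I) (Submodule.mkQ I) (Submodule.subtype_injective I)
    (Submodule.mkQ_surjective I) (LinearMap.exact_subtype_mkQ I)
  have hB : DRing.IsPseudoCoherent' B Tr.obj₂ := by
    rw [h2]
    exact isPseudoCoherentModule'_self B
  have key := Groth.Agent.S7017.result B Tr hT
  constructor
  · intro h
    have h' : DRing.IsPseudoCoherent' B Tr.obj₃ := by rw [h3]; exact h
    have := key.2.2 hB h'
    rw [h1] at this
    exact this
  · intro h
    have h' : DRing.IsPseudoCoherent' B Tr.obj₁ := by rw [h1]; exact h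
    have := key.1 h' hB
    rw [h3] at this
    exact this

/-- Let `A → B` be flat of finite presentation and `I` an ideal of `B`. Then `A → B/I` is a
pseudo-coherent ring map iff `I` is a pseudo-coherent `B`-module. -/
theorem isPseudoCoherentHom_quotient_iff {A B : Type u} [CommRing A] [CommRing B] [Algebra A B]
    [Module.Flat A B] [Algebra.FinitePresentation A B] (I : Ideal B) :
    MoreMor.IsPseudoCoherentHom A (B ⧸ I) ↔ DRing.IsPseudoCoherentModule' B ↥I := by
  rw [isPseudoCoherentHom_iff, ← isPseudoCoherentModule'_quotient_iff, ← bpc_algebraMap_iff]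
  obtain ⟨n, φ, hφC, hφ, hφpc⟩ := pch_of_flat_of_finitePresentation A B
  have hψC : ((algebraMap B (B ⧸ I)).comp φ).comp MvPolynomial.C = algebraMap A (B ⧸ I) := by
    rw [RingHom.comp_assoc, hφC]
    exact (IsScalarTower.algebraMap_eq A B (B ⧸ I)).symm
  have hψ : Function.Surjective ((algebraMap B (B ⧸ I)).comp φ) :=
    (Ideal.Quotient.mk_surjective (I := I)).comp hφ
  constructor
  · intro h
    exact bpc_cancel φ _ hφpc (bpc_of_pch h _ hψC hψ)
  · intro h
    exact ⟨n, _, hψC, hψ, bpc_comp _ _ hφpc h⟩

end Groth.Agent.Lib.Seat7.PCQuotient
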