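import Mathlib
import Groth.Prelude.Def_MoreMor
import Groth.Agent.Lib.Seat0PerfMor
import Groth.Agent.Lib.Seat7PCDescent
import Groth.Agent.Lib.Seat7LocalDescent
import Groth.Agent.Lib.Helper1TorI

/-!
# fpqc descent of perfect morphisms (Seat7)
-/

set_option autoImplicit false
set_option maxHeartbeats 400000
universe u
open CategoryTheory CategoryTheory.Limits AlgebraicGeometry MorphismProperty TensorProduct
attribute [local instance] HasDerivedCategory.standard

namespace Groth.Agent.Lib.Seat7.PerfDescent

open Groth.Agent.Lib.Seat0.PCHom Groth.Agent.Lib.Seat0.PCMor Groth.Agent.Lib.Seat0.PerfHom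
open Groth.Agent.Lib.Seat0.PerfMor Groth.Agent.Lib.Seat7.PCDescent
open Groth.Agent.Lib.Helper1.Extend Groth.Agent.Lib.Helper1.Tor Groth.Agent.Lib.Helper1.TorDim

section Ring

variable {R S T : Type u} [CommRing R] [CommRing S] [CommRing T] [Algebra R S] [Algebra R T]

/-- Faithfully flat descent of tor dimension of an algebra. -/
theorem torDimLE_of_tensorProduct [Module.FaithfullyFlat R S] (d : ℕ)
    (h : DRing.HasTorDimLE S d (S ⊗[R] T)) : DRing.HasTorDimLE R d T := by
  have h' := (hasTorDimLE_iff_hasTorAmp (S ⊗[R] T) d).1 h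
  refine (hasTorDimLE_iff_hasTorAmp T d).2 ?_
  apply hasTorAmp_of_extD (R := R) (R' := S)
  exact hasTorAmp_of_iso (extDInDIso (A := R) (B := S) T).symm h'

theorem ftd_of_tensorProduct [Module.FaithfullyFlat R S]
    (h : FTD (algebraMap S (S ⊗[R] T))) : FTD (algebraMap R T) := by
  rw [ftd_algebraMap_iff] at h ⊢
  obtain ⟨d, hd⟩ := h
  exact ⟨d, torDimLE_of_tensorProduct d hd⟩

theorem ftd_codescendsAlong_faithfullyFlat :
    RingHom.CodescendsAlong @FTD RingHom.FaithfullyFlat := by
  refine .mk _ ftd_respectsIso fun R S T _ _ _ _ _ h h' => ?_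
  rw [RingHom.faithfullyFlat_algebraMap_iff] at h
  exact ftd_of_tensorProduct h'

theorem perfH_codescendsAlong_faithfullyFlat :
    RingHom.CodescendsAlong @PerfH RingHom.FaithfullyFlat :=
  RingHom.CodescendsAlong.and pch_codescendsAlong_faithfullyFlat ftd_codescendsAlong_faithfullyFlat

end Ring

theorem perfH_containsIdentities : RingHom.ContainsIdentities @PerfH :=
  fun _ _ => ⟨pch_of_bijective Function.bijective_id, ftd_of_bijective Function.bijective_id⟩

instance : MorphismProperty.ContainsIdentities (PerfM.{u}) :=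
  HasRingHomProperty.containsIdentities (P := PerfM) perfH_containsIdentities

instance : MorphismProperty.IsMultiplicative (PerfM.{u}) where
  comp_mem := (inferInstance : MorphismProperty.IsStableUnderComposition (PerfM.{u})).comp_mem

/-- **fpqc descent** for perfect morphisms. -/
instance perfM_descendsAlong :
    MorphismProperty.DescendsAlong (PerfM.{u}) (@Surjective ⊓ @Flat ⊓ @QuasiCompact) :=
  Groth.Agent.Lib.Seat7.LocalDescent.descendsAlong_of_codescendsAlong
    perfH_codescendsAlong_faithfullyFlat

theorem isPerfectMor_of_isPullback {X S X' S' : Scheme.{u}} (f : X ⟶ S) (f' : X' ⟶ S')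
    (g' : X' ⟶ X) (g : S' ⟶ S) [Flat g] [Surjective g] [QuasiCompact g]
    (hc : IsPullback g' f' f g) (hf' : MoreMor.IsPerfectMor f') :
    MoreMor.IsPerfectMor f := by
  rw [isPerfectMor_iff] at hf' ⊢
  exact MorphismProperty.of_isPullback_of_descendsAlong (P := PerfM)
    (Q := @Surjective ⊓ @Flat ⊓ @QuasiCompact) hc.flip
    ⟨⟨inferInstance, inferInstance⟩, inferInstance⟩ hf'

end Groth.Agent.Lib.Seat7.PerfDescent
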