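import Mathlib
import Groth.Prelude.Def_MoreMor
import Groth.Agent.Lib.Seat0PCHom
import Groth.Agent.Lib.Seat0PerfHom
import Groth.Agent.Lib.Seat0PerfMor
import Groth.Agent.Lib.Seat0PerfPres
import Groth.Agent.Lib.Seat7PCFlatFP
import Groth.Agent.Lib.Helper14TorSyz

/-!
# Cancelling a smooth morphism from a perfect composite (Seat7)

Ring level: `f : R → A` smooth, `g : A → B` with `g ∘ f` perfect; then `g` is perfect.
Scheme level: `g : Y ⟶ S` smooth and `f ≫ g` perfect implies `f` perfect.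
-/

set_option autoImplicit false
set_option maxHeartbeats 400000
universe u
open CategoryTheory CategoryTheory.Limits AlgebraicGeometry

namespace Groth.Agent.Lib.Seat7.PerfSmoothCancel

open Groth.Agent.Lib.Seat0.PCHom Groth.Agent.Lib.Seat0.PerfHom
  Groth.Agent.Lib.Seat0.PerfMor Groth.Agent.Lib.Seat0.PerfPres

/-- a smooth ring map is pseudo-coherent -/
theorem pch_of_smooth {R A : Type u} [CommRing R] [CommRing A] {f : R →+* A} (hf : f.Smooth) :
    PCH f := by
  algebraize [f]
  haveI : Algebra.FinitePresentation R A := Algebra.Smooth.finitePresentation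
  haveI : Module.Flat R A := Algebra.Smooth.flat R A
  exact Groth.Agent.Lib.Seat7.PCFlatFP.pch_of_flat_of_finitePresentation R A

/-- finite tor dimension can be cancelled along an étale map -/
theorem ftd_cancel_of_etale {P A B : Type u} [CommRing P] [CommRing A] [CommRing B]
    {φ : P →+* A} {g : A →+* B} (hφ : φ.Etale) (h : FTD (g.comp φ)) : FTD g := by
  algebraize [φ, g, g.comp φ]
  obtain ⟨d, hd⟩ := h
  exact ⟨d, Groth.Agent.Lib.Helper14.TorSyz.hasTorDimLE_of_weaklyEtale P A d B hd⟩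

/-- finite tor dimension can be cancelled along a standard smooth map -/
theorem ftd_cancel_of_isStandardSmooth {R A B : Type u} [CommRing R] [CommRing A] [CommRing B]
    {f : R →+* A} {g : A →+* B} (hf : f.IsStandardSmooth) (h : FTD (g.comp f)) : FTD g := by
  obtain ⟨n, φ, hφC, hφ⟩ := hf.exists_etale_mvPolynomial
  have h1 : FTD ((g.comp φ).comp MvPolynomial.C) := by
    rw [RingHom.comp_assoc, hφC]
    exact h
  exact ftd_cancel_of_etale hφ (ftd_of_ftd_base _ h1)

/-- perfectness can be cancelled along a standard smooth map -/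
theorem perfH_cancel_of_isStandardSmooth {R A B : Type u} [CommRing R] [CommRing A] [CommRing B]
    {f : R →+* A} {g : A →+* B} (hf : f.IsStandardSmooth) (h : PerfH (g.comp f)) : PerfH g :=
  ⟨pch_cancel (pch_of_smooth hf.smooth) h.1, ftd_cancel_of_isStandardSmooth hf h.2⟩

/-- if `g` is smooth and `f ≫ g` is perfect then `f` is perfect -/
theorem perfM_of_comp_of_smooth {X Y S : Scheme.{u}} (f : X ⟶ Y) (g : Y ⟶ S) [Smooth g]
    (h : PerfM (f ≫ g)) : PerfM f := by
  rw [perfM_iff_exists]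
  intro x
  obtain ⟨W, hW, U, hU, hxU, e, hst⟩ := Smooth.exists_isStandardSmooth g (f x)
  obtain ⟨_, ⟨V, hV : IsAffineOpen V, rfl⟩, hxV, hVU⟩ :=
    X.isBasis_affineOpens.exists_subset_of_mem_open (show x ∈ (f ⁻¹ᵁ U : X.Opens) from hxU)
      (f ⁻¹ᵁ U).2
  have hVU' : V ≤ f ⁻¹ᵁ U := hVU
  refine ⟨⟨U, hU⟩, ⟨V, hV⟩, hxV, hVU', ?_⟩
  have hVW : V ≤ (f ≫ g) ⁻¹ᵁ W := by
    intro y hy
    exact e (hVU' hy)
  have h1 : PerfH ((f ≫ g).appLE W V hVW).hom :=
    (HasRingHomProperty.iff_appLE (P := PerfM)).1 h ⟨W, hW⟩ ⟨V, hV⟩ hVW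
  have h2 : (f ≫ g).appLE W V hVW = g.appLE W U e ≫ f.appLE U V hVU' :=
    (Scheme.Hom.appLE_comp_appLE f g W U V e hVU').symm
  rw [h2, CommRingCat.hom_comp] at h1
  exact perfH_cancel_of_isStandardSmooth hst h1

end Groth.Agent.Lib.Seat7.PerfSmoothCancel
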