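import Mathlib
import Groth.Prelude.Def_W4c2gaugesfzipsQuiet
import Groth.Agent.S9758
import Groth.Agent.S9287
import Groth.Agent.S18934
import Groth.Agent.Lib.Seat31LciBridge
import Groth.Agent.Lib.Seat31LciHom
import Groth.Agent.Lib.Seat31SmoothLci
import Groth.Agent.Lib.Seat62SyntNhdE

/-!
# Seat7Quiet: root towers and `p`-th root morphisms are syntomic

* `isSyntomic_self`, `isSyntomic_comp`: ring-level identity/composition for `Synt.IsSyntomic`;
* `isSyntomic_of_isRootTower`: a tower of elementary `p`-th root extractions is syntomic;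
* `isSyntomicMor_iff`: `Synt.IsSyntomicMor f ↔ Flat f ∧ LciM f`;
* `isSyntomicMor_comp`, `isSyntomicMor_of_iSup_eq_top`: composition and source-locality;
* `isSyntomicMor_of_isPthRoot`: a `p`-th root morphism is syntomic.
-/

set_option autoImplicit false
universe u
open CategoryTheory AlgebraicGeometry

namespace Groth.Agent.Lib.Seat7.Quiet

open Groth.Agent.Lib.Seat31.LciHom

section Ring

theorem isSyntomic_self (A : Type u) [CommRing A] : Synt.IsSyntomic A A :=
  (Groth.Agent.S9287.result A A).2 ⟨inferInstance, isLCI_self⟩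

theorem isSyntomic_comp {A B C : Type u} [CommRing A] [CommRing B] [CommRing C]
    [Algebra A B] [Algebra B C] [Algebra A C] [IsScalarTower A B C]
    (h1 : Synt.IsSyntomic A B) (h2 : Synt.IsSyntomic B C) : Synt.IsSyntomic A C := by
  obtain ⟨f1, l1⟩ := (Groth.Agent.S9287.result A B).1 h1
  obtain ⟨f2, l2⟩ := (Groth.Agent.S9287.result B C).1 h2
  exact (Groth.Agent.S9287.result A C).2 ⟨Module.Flat.trans A B C, isLCI_comp l1 l2⟩

/-- a tower of elementary `p`-th root extractions is a syntomic ring map. -/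
theorem isSyntomic_of_isRootTower (p : ℕ) [Fact p.Prime] :
    ∀ (n : ℕ) (A B : Type u) [CommRing A] [CommRing B] [Algebra A B],
      Quiet.IsRootTower p n A B → Synt.IsSyntomic A B
  | 0, A, B, _, _, _, h => by
      obtain ⟨e⟩ := h
      exact Groth.Agent.Lib.Seat62.SyntNhdE.isSyntomic_of_algEquiv e.symm (isSyntomic_self A)
  | n + 1, A, B, _, _, _, h => by
      obtain ⟨a, alg, tower, h'⟩ := h
      have ih := isSyntomic_of_isRootTower p n _ B h'
      exact isSyntomic_comp (Groth.Agent.S18934.result p A a).1 ih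

end Ring

section Scheme

theorem isSyntomicMor_iff {X S : Scheme.{u}} (f : X ⟶ S) :
    Synt.IsSyntomicMor f ↔ Flat f ∧ LciM f := by
  rw [← Groth.Agent.S9758.result f, forall_isKoszulAt_iff_lciM f]

theorem isSyntomicMor_comp {X Y Z : Scheme.{u}} (f : X ⟶ Y) (g : Y ⟶ Z)
    (hf : Synt.IsSyntomicMor f) (hg : Synt.IsSyntomicMor g) : Synt.IsSyntomicMor (f ≫ g) := by
  rw [isSyntomicMor_iff] at hf hg ⊢
  obtain ⟨hf1, hf2⟩ := hf
  obtain ⟨hg1, hg2⟩ := hg
  exact ⟨inferInstance, lciM_comp hf2 hg2⟩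

theorem isSyntomicMor_of_smooth {X S : Scheme.{u}} (f : X ⟶ S) [Smooth f] :
    Synt.IsSyntomicMor f := by
  rw [isSyntomicMor_iff]
  exact ⟨inferInstance, lciM_of_smooth f⟩

/-- `IsSyntomicMor` is local on the source. -/
theorem isSyntomicMor_of_iSup_eq_top {X S : Scheme.{u}} (f : X ⟶ S) {ι : Type*} (U : ι → X.Opens)
    (hU : iSup U = ⊤) (H : ∀ i, Synt.IsSyntomicMor ((U i).ι ≫ f)) : Synt.IsSyntomicMor f := by
  rw [isSyntomicMor_iff]
  refine ⟨IsZariskiLocalAtSource.of_iSup_eq_top (P := @Flat) U hU fun i => ?_,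
    IsZariskiLocalAtSource.of_iSup_eq_top (P := LciM) U hU fun i => ?_⟩
  · exact ((isSyntomicMor_iff _).1 (H i)).1
  · exact ((isSyntomicMor_iff _).1 (H i)).2

/-- a `p`-th root morphism is syntomic. -/
theorem isSyntomicMor_of_isPthRoot (p : ℕ) [Fact p.Prime] {X Y : Scheme.{u}} (r : Y ⟶ X)
    (hr : Quiet.IsPthRoot p r) : Synt.IsSyntomicMor r := by
  intro y
  obtain ⟨U, hxU, hUa, n, hn⟩ := hr (r y)
  refine ⟨⟨r ⁻¹ᵁ U.1, hUa⟩, U, le_rfl, hxU, ?_⟩
  have h := @isSyntomic_of_isRootTower p _ n Γ(X, U.1) Γ(Y, r ⁻¹ᵁ U.1) _ _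
    ((r.app U.1).hom.toAlgebra) hn
  have heq : r.appLE U.1 (r ⁻¹ᵁ U.1) le_rfl = r.app U.1 := by
    simp [Scheme.Hom.appLE]
  show @Synt.IsSyntomic Γ(X, U.1) _ Γ(Y, r ⁻¹ᵁ U.1) _
    ((r.appLE U.1 (r ⁻¹ᵁ U.1) le_rfl).hom.toAlgebra)
  rw [heq]
  exact h

/-- a quasi-étale morphism is syntomic. -/
theorem isSyntomicMor_of_isQuiet (p : ℕ) [Fact p.Prime] {X Y : Scheme.{u}} (f : Y ⟶ X)
    (hf : Quiet.IsQuiet p f) : Synt.IsSyntomicMor f := by
  choose V Y' r e hyV hr he hfac using hf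
  refine isSyntomicMor_of_iSup_eq_top f V ?_ fun y => ?_
  · rw [eq_top_iff]
    intro y _
    exact TopologicalSpace.Opens.mem_iSup.2 ⟨y, hyV y⟩
  · rw [← hfac y]
    haveI := he y
    exact isSyntomicMor_comp _ _ (isSyntomicMor_of_isPthRoot p _ (hr y))
      (isSyntomicMor_of_smooth (e y))

end Scheme

end Groth.Agent.Lib.Seat7.Quiet
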