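import Mathlib.RingTheory.TensorProduct.Maps
import Mathlib.RingTheory.Ideal.Operations
import Mathlib.RingTheory.FiniteType
import Mathlib.RingTheory.Ideal.Maximal
import Mathlib.RingTheory.Localization.FractionRing
import Mathlib.RingTheory.Ideal.Quotient.Operations

/-!
# Spreading out radiciality of a finite type ring map over a constructible neighbourhood

For a finite type ring map `A → B` and a prime `p` of `A`, say the map is *radicial at `p`* if any two
ring maps `B → Ω` to a field which agree on `A` and whose common restriction to `A` has kernel `p`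
are equal.  We show that if this holds at `p` then it holds at every prime `p'` in a set of the form
`V(I) ∩ D(s)` containing `p`, with `I` finite.
-/

set_option autoImplicit false
universe u

namespace Groth.Agent.Lib.Seat7.RadSpread

open TensorProduct

/-- `A → B` is radicial at the prime `p` (field-valued points of `B` over a point over `p` are
unique). -/
def RadAt (A B : Type u) [CommRing A] [CommRing B] [Algebra A B] (p : Ideal A) : Prop :=
  ∀ (Ω : Type u) [Field Ω] (ψ₁ ψ₂ : B →+* Ω),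
    ψ₁.comp (algebraMap A B) = ψ₂.comp (algebraMap A B) →
    RingHom.ker (ψ₁.comp (algebraMap A B)) = p → ψ₁ = ψ₂

variable {A B : Type u} [CommRing A] [CommRing B] [Algebra A B]

/-- If `A → B` is radicial at `p`, every prime of `B ⊗[A] B` over `p` contains the kernel of the
multiplication. -/
theorem sub_mem_of_radAt (p : Ideal A) (hp : RadAt A B p) (r : Ideal (B ⊗[A] B)) [r.IsPrime]
    (hr : r.comap (algebraMap A (B ⊗[A] B)) = p) (b : B) :
    (b ⊗ₜ[A] (1 : B) - (1 : B) ⊗ₜ[A] b) ∈ r := by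
  let C := B ⊗[A] B
  let Ω := FractionRing (C ⧸ r)
  let κ : C →+* Ω := (algebraMap (C ⧸ r) Ω).comp (Ideal.Quotient.mk r)
  let ψ₁ : B →+* Ω := κ.comp (Algebra.TensorProduct.includeLeft (R := A) (S := A) (A := B) (B := B)).toRingHom
  let ψ₂ : B →+* Ω := κ.comp (Algebra.TensorProduct.includeRight (R := A) (A := B) (B := B)).toRingHom
  have hκ : RingHom.ker κ = r := by
    ext x
    simp only [κ, RingHom.mem_ker, RingHom.comp_apply]
    rw [map_eq_zero_iff _ (IsFractionRing.injective (C ⧸ r) Ω), Ideal.Quotient.eq_zero_iff_mem]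
  have h12 : ψ₁.comp (algebraMap A B) = ψ₂.comp (algebraMap A B) := by
    ext a
    simp only [ψ₁, ψ₂, RingHom.comp_apply, AlgHom.toRingHom_eq_coe, RingHom.coe_coe,
      AlgHom.commutes]
  have hker : RingHom.ker (ψ₁.comp (algebraMap A B)) = p := by
    rw [← hr]
    ext a
    simp only [ψ₁, RingHom.mem_ker, RingHom.comp_apply, AlgHom.toRingHom_eq_coe, RingHom.coe_coe,
      AlgHom.commutes, Ideal.mem_comap]
    rw [← RingHom.mem_ker, hκ]
  have h := hp Ω ψ₁ ψ₂ h12 hker
  have h' : κ (b ⊗ₜ[A] (1 : B) - (1 : B) ⊗ₜ[A] b) = 0 := by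
    rw [map_sub, sub_eq_zero]
    exact congrArg (fun ψ : B →+* Ω => ψ b) h
  rw [← hκ]
  exact h'

/-- An element lying in all primes of `C` over `p` has a power which, up to a factor outside `p`,
lies in `p C`. -/
theorem exists_mul_pow_mem_map {C : Type u} [CommRing C] [Algebra A C] (p : Ideal A) [p.IsPrime]
    (j : C) (hj : ∀ r : Ideal C, r.IsPrime → r.comap (algebraMap A C) = p → j ∈ r) :
    ∃ (t : A) (N : ℕ), t ∉ p ∧ algebraMap A C t * j ^ N ∈ Ideal.map (algebraMap A C) p := by
  by_contra hcon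
  push Not at hcon
  let M : Submonoid C :=
    { carrier := {c | ∃ (t : A) (N : ℕ), t ∉ p ∧ c = algebraMap A C t * j ^ N}
      one_mem' := ⟨1, 0, fun h => (Ideal.IsPrime.ne_top ‹_›) ((Ideal.eq_top_iff_one _).2 h), by simp⟩
      mul_mem' := by
        rintro _ _ ⟨t, N, ht, rfl⟩ ⟨t', N', ht', rfl⟩
        refine ⟨t * t', N + N', fun h => ?_, ?_⟩
        · rcases Ideal.IsPrime.mem_or_mem ‹_› h with h | h
          · exact ht h
          · exact ht' h
        · rw [map_mul, pow_add]; ring }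
  have hdisj : Disjoint (Ideal.map (algebraMap A C) p : Set C) M := by
    rw [Set.disjoint_left]
    rintro c hc ⟨t, N, ht, rfl⟩
    exact hcon t N ht hc
  obtain ⟨r, hr, hpr, hrM⟩ := Ideal.exists_le_prime_disjoint (Ideal.map (algebraMap A C) p) M hdisj
  have hcomap : r.comap (algebraMap A C) = p := by
    apply le_antisymm
    · intro a ha
      by_contra hap
      rw [Set.disjoint_left] at hrM
      exact hrM ha ⟨a, 0, hap, by simp⟩
    · exact (Ideal.le_comap_map).trans (Ideal.comap_mono hpr)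
  have hjr := hj r hr hcomap
  rw [Set.disjoint_left] at hrM
  exact hrM hjr ⟨1, 1, fun h => (Ideal.IsPrime.ne_top ‹_›) ((Ideal.eq_top_iff_one _).2 h), by simp⟩

/-- An element of `p C` lies in `I C` for a finite subset `I` of `p`. -/
theorem exists_finset_mem_map {C : Type u} [CommRing C] [Algebra A C] (p : Ideal A) (c : C)
    (hc : c ∈ Ideal.map (algebraMap A C) p) :
    ∃ I : Finset A, (∀ x ∈ I, x ∈ p) ∧ c ∈ Ideal.span ((algebraMap A C) '' (I : Set A)) := by
  classical
  rw [Ideal.map, Ideal.span] at hc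
  obtain ⟨T, hT, hcT⟩ := Submodule.mem_span_finite_of_mem_span hc
  have hT' : ∀ y ∈ T, ∃ x, x ∈ p ∧ algebraMap A C x = y := fun y hy => hT hy
  choose! g hg1 hg2 using hT'
  refine ⟨T.image g, ?_, ?_⟩
  · intro x hx
    rw [Finset.mem_image] at hx
    obtain ⟨y, hy, rfl⟩ := hx
    exact hg1 y hy
  · refine (Ideal.span_mono ?_) hcT
    intro y hy
    refine ⟨g y, ?_, hg2 y hy⟩
    rw [Finset.coe_image]
    exact ⟨y, hy, rfl⟩

/-- Radiciality at a prime spreads out to a set `V(I) ∩ D(s)`. -/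
theorem radAt_spread [Algebra.FiniteType A B] (p : Ideal A) [p.IsPrime] (hp : RadAt A B p) :
    ∃ (s : A) (I : Finset A), s ∉ p ∧ (∀ x ∈ I, x ∈ p) ∧
      ∀ p' : Ideal A, p'.IsPrime → s ∉ p' → (∀ x ∈ I, x ∈ p') → RadAt A B p' := by
  classical
  obtain ⟨S, hS⟩ := (Algebra.FiniteType.out : (⊤ : Subalgebra A B).FG)
  let C := B ⊗[A] B
  have key : ∀ b : B, ∃ (t : A) (N : ℕ) (I : Finset A), t ∉ p ∧ (∀ x ∈ I, x ∈ p) ∧
      algebraMap A C t * (b ⊗ₜ[A] (1 : B) - (1 : B) ⊗ₜ[A] b) ^ N ∈
        Ideal.span ((algebraMap A C) '' (I : Set A)) := by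
    intro b
    obtain ⟨t, N, ht, hmem⟩ := exists_mul_pow_mem_map (C := C) p (b ⊗ₜ[A] (1 : B) - (1 : B) ⊗ₜ[A] b)
      (fun r hr hrp => by have := hr; exact sub_mem_of_radAt p hp r hrp b)
    obtain ⟨I, hI, hcI⟩ := exists_finset_mem_map p _ hmem
    exact ⟨t, N, I, ht, hI, hcI⟩
  choose t N I ht hI hmem using key
  refine ⟨∏ b ∈ S, t b, S.biUnion I, ?_, ?_, ?_⟩
  · intro h
    obtain ⟨b, -, hb⟩ := Ideal.IsPrime.prod_mem_iff.1 h
    exact ht b hb
  · intro x hx
    rw [Finset.mem_biUnion] at hx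
    obtain ⟨b, -, hxb⟩ := hx
    exact hI b x hxb
  · intro p' hp' hs hIp' Ω _ ψ₁ ψ₂ h12 hker
    let χ : A →+* Ω := ψ₁.comp (algebraMap A B)
    let _ : Algebra A Ω := χ.toAlgebra
    let φ₁ : B →ₐ[A] Ω := { ψ₁ with commutes' := fun a => rfl }
    let φ₂ : B →ₐ[A] Ω := { ψ₂ with commutes' := fun a => (congrArg (fun ψ : A →+* Ω => ψ a) h12).symm }
    let Ψ : C →ₐ[A] Ω := Algebra.TensorProduct.productMap φ₁ φ₂
    have hΨalg : ∀ a : A, Ψ (algebraMap A C a) = χ a := fun a => Ψ.commutes a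
    have hEq : ∀ b ∈ S, ψ₁ b = ψ₂ b := by
      intro b hb
      have htb : t b ∉ p' := by
        intro h
        exact hs (Ideal.IsPrime.prod_mem_iff.2 ⟨b, hb, h⟩)
      have h1 : Ψ (algebraMap A C (t b) * (b ⊗ₜ[A] (1 : B) - (1 : B) ⊗ₜ[A] b) ^ N b) = 0 := by
        have hle : Ideal.span ((algebraMap A C) '' (I b : Set A)) ≤ RingHom.ker Ψ.toRingHom := by
          rw [Ideal.span_le]
          rintro _ ⟨x, hx, rfl⟩
          have hxp' : x ∈ p' := hIp' x (Finset.mem_biUnion.2 ⟨b, hb, hx⟩)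
          rw [SetLike.mem_coe, RingHom.mem_ker]
          change Ψ (algebraMap A C x) = 0
          rw [hΨalg]
          rw [← hker] at hxp'
          exact hxp'
        exact hle (hmem b)
      rw [map_mul, map_pow, map_sub, hΨalg] at h1
      have h2 : Ψ (b ⊗ₜ[A] (1 : B)) = ψ₁ b := by
        rw [Algebra.TensorProduct.productMap_apply_tmul, map_one, mul_one]
        rfl
      have h3 : Ψ ((1 : B) ⊗ₜ[A] b) = ψ₂ b := by
        rw [Algebra.TensorProduct.productMap_apply_tmul, map_one, one_mul]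
        rfl
      rw [h2, h3] at h1
      have hχ : χ (t b) ≠ 0 := by
        intro h
        apply htb
        rw [← hker]
        exact h
      rcases mul_eq_zero.1 h1 with h | h
      · exact absurd h hχ
      · exact sub_eq_zero.1 (eq_zero_of_pow_eq_zero h)
    have : φ₁ = φ₂ := AlgHom.ext_of_adjoin_eq_top hS (fun b hb => hEq b hb)
    ext b
    exact congrArg (fun φ : B →ₐ[A] Ω => φ b) this

end Groth.Agent.Lib.Seat7.RadSpread
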