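import Mathlib
import Groth.Agent.Lib.Seat7RadSpread

/-!
# Radicial points of a morphism of schemes and spreading out

`RadOver π v`: field valued points of the source of `π` lying over `v` are determined by their image
under `π`.  For a morphism of finite type between affine schemes this condition spreads out to a
constructible neighbourhood of `v`.
-/

set_option autoImplicit false
universe u

namespace Groth.Agent.Lib.Seat7.RadSch

open AlgebraicGeometry CategoryTheory Limits Topology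
open Groth.Agent.Lib.Seat7.RadSpread

/-- `π` is radicial over the point `v` of the target. -/
def RadOver {U V : Scheme.{u}} (π : U ⟶ V) (v : V) : Prop :=
  ∀ (Ω : Type u) [Field Ω] (g₁ g₂ : Spec (CommRingCat.of Ω) ⟶ U), g₁ ≫ π = g₂ ≫ π →
    (g₁ ≫ π) (IsLocalRing.closedPoint Ω) = v → g₁ = g₂

theorem radOver_of_iso {U V U' V' : Scheme.{u}} (π : U ⟶ V) (π' : U' ⟶ V') (e₁ : U ≅ U')
    (e₂ : V ≅ V') (h : π ≫ e₂.hom = e₁.hom ≫ π') (v : V) (hv : RadOver π' (e₂.hom v)) :
    RadOver π v := by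
  intro Ω _ g₁ g₂ h12 hpt
  have h1 : (g₁ ≫ e₁.hom) ≫ π' = (g₂ ≫ e₁.hom) ≫ π' := by
    rw [Category.assoc, Category.assoc, ← h, ← Category.assoc, ← Category.assoc, h12]
  have h2 : ((g₁ ≫ e₁.hom) ≫ π') (IsLocalRing.closedPoint Ω) = e₂.hom v := by
    rw [Category.assoc, ← h, ← Category.assoc, Scheme.Hom.comp_apply, hpt]
  have := hv Ω _ _ h1 h2
  exact (cancel_mono e₁.hom).1 this

theorem ker_eq_of_SpecMap_apply {A : CommRingCat.{u}} {Ω : Type u} [Field Ω]
    (χ : A ⟶ CommRingCat.of Ω) :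
    (Spec.map χ (IsLocalRing.closedPoint Ω)).asIdeal = RingHom.ker χ.hom := by
  rw [Spec.map_apply]
  ext a
  simp [IsLocalRing.closedPoint, RingHom.mem_ker]

theorem radOver_SpecMap_of_radAt {A B : CommRingCat.{u}} (φ : A ⟶ B) (p : Spec A)
    (h : letI := φ.hom.toAlgebra; RadAt A B p.asIdeal) : RadOver (Spec.map φ) p := by
  letI := φ.hom.toAlgebra
  intro Ω _ g₁ g₂ h12 hpt
  obtain ⟨ψ₁, rfl⟩ := Spec.map_surjective g₁
  obtain ⟨ψ₂, rfl⟩ := Spec.map_surjective g₂
  rw [← Spec.map_comp, ← Spec.map_comp] at h12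
  have h12' : φ ≫ ψ₁ = φ ≫ ψ₂ := Spec.map_injective h12
  rw [← Spec.map_comp] at hpt
  have hker : RingHom.ker (ψ₁.hom.comp (algebraMap A B)) = p.asIdeal := by
    rw [← hpt, ker_eq_of_SpecMap_apply]
    rfl
  have := h Ω ψ₁.hom ψ₂.hom (congrArg CommRingCat.Hom.hom h12') hker
  rw [CommRingCat.hom_ext this]

theorem radAt_of_radOver_SpecMap {A B : CommRingCat.{u}} (φ : A ⟶ B) (p : Spec A)
    (h : RadOver (Spec.map φ) p) : letI := φ.hom.toAlgebra; RadAt A B p.asIdeal := by
  letI := φ.hom.toAlgebra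
  intro Ω _ ψ₁ ψ₂ h12 hker
  have h12' : φ ≫ CommRingCat.ofHom ψ₁ = φ ≫ CommRingCat.ofHom ψ₂ := by
    ext a
    exact congrArg (fun χ : A →+* Ω => χ a) h12
  have h1 : Spec.map (CommRingCat.ofHom ψ₁) ≫ Spec.map φ =
      Spec.map (CommRingCat.ofHom ψ₂) ≫ Spec.map φ := by
    rw [← Spec.map_comp, ← Spec.map_comp, h12']
  have h2 : (Spec.map (CommRingCat.ofHom ψ₁) ≫ Spec.map φ) (IsLocalRing.closedPoint Ω) = p := by
    rw [← Spec.map_comp]
    apply PrimeSpectrum.ext
    rw [ker_eq_of_SpecMap_apply, ← hker]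
    rfl
  have := Spec.map_injective (h Ω _ _ h1 h2)
  exact congrArg CommRingCat.Hom.hom this

/-- the constructible set `V(I) ∩ D(s)` of a prime spectrum. -/
theorem isConstructible_zeroLocus_inter_basicOpen {A : Type u} [CommRing A] (s : A) (I : Finset A) :
    IsConstructible (PrimeSpectrum.zeroLocus (I : Set A) ∩ (PrimeSpectrum.basicOpen s : Set _)) := by
  classical
  apply IsConstructible.inter
  · have h1 : (PrimeSpectrum.zeroLocus (I : Set A))ᶜ =
        ⋃ x ∈ I, (PrimeSpectrum.basicOpen x : Set (PrimeSpectrum A)) := by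
      ext q
      simp [PrimeSpectrum.mem_zeroLocus, Set.subset_def]
    rw [← isConstructible_compl, h1]
    apply IsConstructible.biUnion I.finite_toSet
    intro x _
    exact (PrimeSpectrum.isCompact_basicOpen x).isConstructible (PrimeSpectrum.basicOpen x).isOpen
  · exact (PrimeSpectrum.isCompact_basicOpen s).isConstructible (PrimeSpectrum.basicOpen s).isOpen

/-- Spreading out of radiciality for `Spec` of a finite type ring map. -/
theorem spread_Spec {A B : CommRingCat.{u}} (φ : A ⟶ B) (hφ : φ.hom.FiniteType) (p : Spec A)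
    (h : RadOver (Spec.map φ) p) :
    ∃ E : Set (Spec A), IsConstructible E ∧ p ∈ E ∧ ∀ p' ∈ E, RadOver (Spec.map φ) p' := by
  letI := φ.hom.toAlgebra
  haveI : Algebra.FiniteType A B := hφ
  obtain ⟨s, I, hs, hI, H⟩ := radAt_spread (A := A) (B := B) p.asIdeal (radAt_of_radOver_SpecMap φ p h)
  refine ⟨(PrimeSpectrum.zeroLocus (I : Set A) ∩
      (PrimeSpectrum.basicOpen s : Set (PrimeSpectrum A)) : Set (PrimeSpectrum A)),
    isConstructible_zeroLocus_inter_basicOpen s I, ⟨?_, ?_⟩, ?_⟩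
  · intro x hx
    exact hI x hx
  · exact hs
  · rintro p' ⟨h1, h2⟩
    exact radOver_SpecMap_of_radAt φ p' (H p'.asIdeal p'.isPrime h2 (fun x hx => h1 hx))

/-- Spreading out of radiciality for a morphism of finite type between affine schemes. -/
theorem spread_affine {U V : Scheme.{u}} [IsAffine U] [IsAffine V] (π : U ⟶ V)
    [LocallyOfFiniteType π] (v : V) (h : RadOver π v) :
    ∃ E : Set V, IsConstructible E ∧ v ∈ E ∧ ∀ v' ∈ E, RadOver π v' := by
  have hφ : (π.appTop).hom.FiniteType :=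
    (HasRingHomProperty.iff_of_isAffine (P := @LocallyOfFiniteType)).1 inferInstance
  have hnat : π ≫ V.isoSpec.hom = U.isoSpec.hom ≫ Spec.map π.appTop :=
    (Scheme.isoSpec_hom_naturality π).symm
  have hnat' : Spec.map π.appTop ≫ V.isoSpec.inv = U.isoSpec.inv ≫ π :=
    Scheme.isoSpec_inv_naturality π
  have h' : RadOver (Spec.map π.appTop) (V.isoSpec.hom v) := by
    refine radOver_of_iso (Spec.map π.appTop) π U.isoSpec.symm V.isoSpec.symm hnat' _ ?_
    have : V.isoSpec.symm.hom (V.isoSpec.hom v) = v := by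
      change (V.isoSpec.hom ≫ V.isoSpec.inv) v = v
      rw [Iso.hom_inv_id]; rfl
    rw [this]
    exact h
  obtain ⟨E, hE, hvE, H⟩ := spread_Spec π.appTop hφ _ h'
  refine ⟨V.isoSpec.hom ⁻¹' E, ?_, hvE, ?_⟩
  · exact hE.preimage_of_isOpenEmbedding V.isoSpec.hom.isOpenEmbedding
  · intro v' hv'
    exact radOver_of_iso π (Spec.map π.appTop) U.isoSpec V.isoSpec hnat v' (H _ hv')

end Groth.Agent.Lib.Seat7.RadSch
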