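import Mathlib
import Groth.Prelude.Def_MoreMor
import Groth.Prelude.Def_Mor2
import Groth.Agent.Lib.Seat0PCHom
import Groth.Agent.Lib.Seat0PCFinite
import Groth.Agent.Lib.Seat0PerfHom
import Groth.Agent.Lib.Seat0PerfMor
import Groth.Agent.Lib.Seat0PerfPres

/-!
# Regular closed immersions are perfect (Seat7)

Ring level: a surjection whose kernel is generated by a weakly regular sequence is a perfect ring
map (`PerfH`).  Scheme level: `Mor2.IsRegularClosedImmersion i → PerfM i`.
-/

set_option autoImplicit false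
set_option maxHeartbeats 400000
universe u
open CategoryTheory CategoryTheory.Limits AlgebraicGeometry

namespace Groth.Agent.Lib.Seat7.RegImm

open Groth.Agent.Lib.Seat0.PCHom Groth.Agent.Lib.Seat0.PCFinite Groth.Agent.Lib.Seat0.PerfHom
  Groth.Agent.Lib.Seat0.PerfMor Groth.Agent.Lib.Seat0.PerfPres

/-- a surjection with kernel generated by a regular element is perfect -/
theorem perfH_of_regular_element {Q B : Type u} [CommRing Q] [CommRing B] (π : Q →+* B)
    (hπ : Function.Surjective π) (g : Q) (hg : ∀ q : Q, g * q = 0 → q = 0)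
    (hker : ∀ q : Q, π q = 0 → g ∣ q) (hg0 : π g = 0) : PerfH π :=
  ⟨(pch_iff_bpc_of_finite π (RingHom.Finite.of_surjective π hπ)).2
      (bpc_quotient_regular π hπ g hg hker hg0),
    ftd_quotient_regular π hπ g hg hker hg0⟩

/-- a surjection whose kernel is generated by a weakly regular sequence is perfect -/
theorem perfH_of_isWeaklyRegular {B : Type u} [CommRing B] (rs : List B) :
    RingTheory.Sequence.IsWeaklyRegular B rs →
    ∀ {C : Type u} [CommRing C] (π : B →+* C), Function.Surjective π →
      RingHom.ker π = Ideal.ofList rs → PerfH π := by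
  induction rs using List.reverseRecOn with
  | nil =>
    intro _ C _ π hπ hker
    have hinj : Function.Injective π := by
      rw [RingHom.injective_iff_ker_eq_bot, hker, Ideal.ofList_nil]
    exact ⟨pch_of_bijective ⟨hinj, hπ⟩, ftd_of_bijective ⟨hinj, hπ⟩⟩
  | append_singleton rs r ih =>
    intro hreg C _ π hπ hker
    rw [RingTheory.Sequence.isWeaklyRegular_append_iff,
      RingTheory.Sequence.isWeaklyRegular_singleton_iff] at hreg
    obtain ⟨hreg₁, hreg₂⟩ := hreg
    set I : Ideal B := Ideal.ofList rs with hI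
    have hIle : I ≤ RingHom.ker π := by
      rw [hker, Ideal.ofList_append]
      exact le_sup_left
    have h1 : PerfH (Ideal.Quotient.mk I) :=
      ih hreg₁ (Ideal.Quotient.mk I) Ideal.Quotient.mk_surjective Ideal.mk_ker
    let π₂ : B ⧸ I →+* C := Ideal.Quotient.lift I π (fun a ha => hIle ha)
    have hπ₂ : Function.Surjective π₂ := Ideal.Quotient.lift_surjective_of_surjective I _ hπ
    have hItop : (I • ⊤ : Submodule B B) = I := by
      simp
    have h2 : PerfH π₂ := by
      refine perfH_of_regular_element π₂ hπ₂ (Ideal.Quotient.mk I r) ?_ ?_ ?_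
      · intro q hq
        obtain ⟨b, rfl⟩ := Ideal.Quotient.mk_surjective q
        rw [← map_mul, Ideal.Quotient.eq_zero_iff_mem] at hq
        rw [Ideal.Quotient.eq_zero_iff_mem]
        have h0 : r • (Submodule.Quotient.mk b : B ⧸ (I • ⊤ : Submodule B B)) = r • 0 := by
          rw [smul_zero, ← Submodule.Quotient.mk_smul, Submodule.Quotient.mk_eq_zero, hItop]
          exact hq
        have := hreg₂ h0
        rw [Submodule.Quotient.mk_eq_zero, hItop] at this
        exact this
      · intro q hq
        obtain ⟨b, rfl⟩ := Ideal.Quotient.mk_surjective q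
        have hb : b ∈ RingHom.ker π := by
          rw [RingHom.mem_ker]
          simpa [π₂] using hq
        rw [hker, Ideal.ofList_append, Ideal.ofList_singleton, Submodule.mem_sup] at hb
        obtain ⟨y, hy, z, hz, rfl⟩ := hb
        obtain ⟨c, rfl⟩ := Ideal.mem_span_singleton'.1 hz
        refine ⟨Ideal.Quotient.mk I c, ?_⟩
        rw [map_add, Ideal.Quotient.eq_zero_iff_mem.2 hy, zero_add, map_mul, mul_comm]
      · have hr : r ∈ RingHom.ker π := by
          rw [hker]
          exact Ideal.subset_span (by simp)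
        simpa [π₂] using hr
    have h3 : π₂.comp (Ideal.Quotient.mk I) = π := Ideal.Quotient.lift_comp_mk I π _
    rw [← h3]
    exact perfH_comp h1 h2

/-- a regular closed immersion is perfect -/
theorem perfM_of_isRegularClosedImmersion {Z X : Scheme.{u}} (i : Z ⟶ X)
    (hi : Mor2.IsRegularClosedImmersion i) : PerfM i := by
  obtain ⟨hci, hloc⟩ := hi
  rw [perfM_iff_exists]
  intro z
  obtain ⟨U, hU, hzU, rs, hrs, hker⟩ := hloc z
  have hV : IsAffineOpen (i ⁻¹ᵁ U) := hU.preimage i
  refine ⟨⟨U, hU⟩, ⟨i ⁻¹ᵁ U, hV⟩, hzU, le_rfl, ?_⟩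
  have happ : (i.appLE U (i ⁻¹ᵁ U) le_rfl) = i.app U := (Scheme.Hom.app_eq_appLE i).symm
  show PerfH (i.appLE U (i ⁻¹ᵁ U) le_rfl).hom
  rw [happ]
  refine perfH_of_isWeaklyRegular rs hrs.toIsWeaklyRegular (i.app U).hom
    (i.app_surjective U hU) ?_
  rw [← hker, Scheme.Hom.ker_apply]

end Groth.Agent.Lib.Seat7.RegImm
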