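import Groth.Agent.Lib.Seat7RegImmLocal
import Mathlib.AlgebraicGeometry.Morphisms.Descent
import Mathlib.AlgebraicGeometry.Morphisms.LocalIso

/-!
# Seat7: fpqc descent of Koszul-regular, `H_1`-regular and quasi-regular immersions

`isRegularImmersion_of_isPullback`: if `i : Y ⟶ X` is an immersion, `g : X' ⟶ X` is flat,
surjective and quasi-compact, and the base change of `i` along `g` is a regular immersion of kind
`k ≠ regular`, then so is `i`.
-/

set_option autoImplicit false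
universe u

namespace Groth.Agent.Lib.Seat7.RegImmFpqc

open CategoryTheory CategoryTheory.Limits AlgebraicGeometry
open Groth.Agent.Lib.Seat7.LocK Groth.Agent.Lib.Seat7.RegImmLocal
  Groth.Agent.Lib.Seat40.RegImmBC

theorem isRegularImmersion_of_isPullback {X Y X' Y' : Scheme.{u}} (i : Y ⟶ X) [IsImmersion i]
    (g : X' ⟶ X) [Flat g] [Surjective g] [QuasiCompact g]
    (i' : Y' ⟶ X') (g' : Y' ⟶ Y) (hsq : IsPullback g' i' i g) (k : RegImm.Kind)
    (hk : k ≠ .regular) (hi' : RegImm.IsRegularImmersion k i') :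
    RegImm.IsRegularImmersion k i := by
  refine ⟨inferInstance, fun z => ?_⟩
  have hz : i z ∈ i.coborderRange := subset_coborder ⟨z, rfl⟩
  obtain ⟨_, ⟨U, hU : IsAffineOpen U, rfl⟩, hzU, hle⟩ :=
      X.isBasis_affineOpens.exists_subset_of_mem_open hz i.coborderRange.2
  have hcl : IsClosedImmersion (i ∣_ U) :=
    Groth.Agent.Lib.Helper5.RegImm.isClosedImmersion_morphismRestrict_of_le_coborderRange i U hle
  -- an affine cover of `g⁻¹ U`
  haveI : CompactSpace ((g ⁻¹ᵁ U : X'.Opens) : Scheme.{u}) :=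
    isCompact_iff_compactSpace.1 (QuasiCompact.isCompact_preimage (f := g) _ U.2 hU.isCompact)
  obtain ⟨W, p, hpsurj, hp, hW⟩ :=
    Scheme.exists_hom_isAffine_of_isZariskiLocalAtSource @IsLocalIso (g ⁻¹ᵁ U : Scheme.{u})
  haveI : Flat p := IsLocalIso.le_of_isZariskiLocalAtSource @Flat _ _ p hp
  let q' : W ⟶ X' := p ≫ (g ⁻¹ᵁ U).ι
  let q : W ⟶ X := q' ≫ g
  haveI : Flat q' := inferInstanceAs (Flat (p ≫ (g ⁻¹ᵁ U).ι))
  haveI : Flat q := inferInstanceAs (Flat (q' ≫ g))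
  have hbig : IsPullback (pullback.fst i' q' ≫ g') (pullback.snd i' q') i q :=
    (IsPullback.of_hasPullback i' q').paste_horiz hsq
  have hiW : RegImm.IsRegularImmersion k (pullback.snd i' q') :=
    Groth.Agent.Lib.Seat40.RegImmBC.isRegularImmersion_of_isPullback i' q' _ _
      (IsPullback.of_hasPullback i' q') k hi'
  have hleW : (⊤ : W.Opens) ≤ q ⁻¹ᵁ U := by
    intro w _
    exact (p w).2
  obtain ⟨hclW, hkerW⟩ := ker_app_of_isPullback i q _ _ hbig ⟨U, hU⟩ ⟨⊤, isAffineOpen_top W⟩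
    hleW hcl
  have hlocW := locK_ker_of_regImm k _ hiW.2 ⊤ (isAffineOpen_top W) hclW
  rw [hkerW] at hlocW
  -- faithful flatness
  have hff : (q.appLE U ⊤ hleW).hom.FaithfullyFlat := by
    rw [RingHom.FaithfullyFlat.iff_flat_and_comap_surjective]
    refine ⟨HasRingHomProperty.appLE (P := @Flat) q inferInstance ⟨U, hU⟩
      ⟨⊤, isAffineOpen_top W⟩ hleW, ?_⟩
    intro 𝔭
    obtain ⟨⟨x, hx⟩, rfl⟩ := exists_primeIdealOf_eq hU 𝔭
    obtain ⟨x', rfl⟩ := ‹Surjective g›.surj x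
    obtain ⟨w, hw⟩ := hpsurj.surj (⟨x', hx⟩ : ↥(g ⁻¹ᵁ U))
    refine ⟨(isAffineOpen_top W).primeIdealOf ⟨w, trivial⟩, ?_⟩
    have h1 := IsAffineOpen.comap_primeIdealOf_appLE (f := q) U hU ⊤ (isAffineOpen_top W) hleW
      (x := w) trivial
    rw [h1]
    congr 2
    change g ((g ⁻¹ᵁ U).ι (p w)) = g x'
    rw [hw]
    rfl
  have hloc := locK_of_faithfullyFlat k hk _ hff _ hlocW
  exact regImmAt_of_locK k i U hU hcl hloc z hzU

end Groth.Agent.Lib.Seat7.RegImmFpqc
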