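import Groth.Agent.Lib.Seat7LocK
import Groth.Agent.Lib.Seat31LciBridge
import Groth.Agent.Lib.Seat40RegImmBC
import Groth.Agent.Lib.Helper5RegImm2

/-!
# Seat7: regular immersions of a given kind, affine-locally

For an immersion `i : Z ⟶ X` and an affine open `U` of `X` over which `i` is a closed immersion:

* `regImmAt_of_locK`: if the kernel of `Γ(X, U) → Γ(Z, i⁻¹U)` is locally generated by sequences of
  kind `k` (`LocK`), then `i` is a regular immersion of kind `k` at every point over `U`;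
* `locK_ker_of_regImm`: conversely, if `i` is a regular immersion of kind `k` then that kernel is
  locally generated by sequences of kind `k`.
-/

set_option autoImplicit false
universe u

namespace Groth.Agent.Lib.Seat7.RegImmLocal

open CategoryTheory CategoryTheory.Limits AlgebraicGeometry
open Groth.Agent.Lib.Seat7.LocK Groth.Agent.Lib.Seat31.LciHom
  Groth.Agent.Lib.Seat40.RegImmBC Groth.Agent.Lib.Seat40.RegSeqFlat

variable {Z X : Scheme.{u}}

theorem isAffineOpen_preimage (i : Z ⟶ X) (U : X.Opens) (hU : IsAffineOpen U)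
    (hcl : IsClosedImmersion (i ∣_ U)) : IsAffineOpen (i ⁻¹ᵁ U) := by
  have : IsAffine (U : Scheme.{u}) := hU
  have : IsAffineHom (i ∣_ U) := inferInstance
  exact isAffine_of_isAffineHom (i ∣_ U)

theorem app_surjective (i : Z ⟶ X) (U : X.Opens) (hU : IsAffineOpen U)
    (hcl : IsClosedImmersion (i ∣_ U)) : Function.Surjective (i.app U).hom := by
  have : IsAffine (U : Scheme.{u}) := hU
  have h1 : Function.Surjective ((i ∣_ U).app ⊤).hom :=
    Scheme.Hom.app_surjective (i ∣_ U) ⊤ (isAffineOpen_top _)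
  have h1' := (congrArg (fun φ => Function.Surjective φ.hom) (morphismRestrict_app i U ⊤)).mp h1
  have h1'' : Function.Surjective
      ((Z.presheaf.map (eqToHom (image_morphismRestrict_preimage i U ⊤)).op).hom ∘
        (i.app (U.ι ''ᵁ ⊤)).hom) := h1'
  have h3 : Function.Surjective (i.app (U.ι ''ᵁ ⊤)).hom :=
    Function.Surjective.of_comp_left h1'' (ConcreteCategory.bijective_of_isIso
      (Z.presheaf.map (eqToHom (image_morphismRestrict_preimage i U ⊤)).op)).1
  have h4 : ∀ (W' : X.Opens), W' = U → Function.Surjective (i.app W').hom →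
      Function.Surjective (i.app U).hom := by
    rintro W' rfl hs
    exact hs
  exact h4 _ (Scheme.Opens.ι_image_top U) h3

theorem exists_primeIdealOf_eq {U : X.Opens} (hU : IsAffineOpen U)
    (𝔭 : PrimeSpectrum Γ(X, U)) : ∃ x : U, hU.primeIdealOf x = 𝔭 := by
  refine ⟨hU.isoSpec.inv 𝔭, ?_⟩
  change hU.isoSpec.hom (hU.isoSpec.inv 𝔭) = 𝔭
  rw [← Scheme.Hom.comp_apply, Iso.inv_hom_id]
  rfl

theorem ker_le_primeIdealOf (i : Z ⟶ X) {U : X.Opens} (hU : IsAffineOpen U) (z : Z)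
    (hzU : i z ∈ U) : RingHom.ker (i.app U).hom ≤ (hU.primeIdealOf ⟨i z, hzU⟩).asIdeal := by
  intro a ha
  by_contra hne
  have hmem : i z ∈ X.basicOpen a :=
    (mem_basicOpen_iff_notMem_primeIdealOf hU (i z) hzU a).2 hne
  have hmem' : z ∈ i ⁻¹ᵁ X.basicOpen a := hmem
  rw [Scheme.preimage_basicOpen, RingHom.mem_ker.1 ha] at hmem'
  simp at hmem'

/-- every prime containing the kernel comes from a point of `Z`. -/
theorem exists_preimage_of_ker_le (i : Z ⟶ X) (U : X.Opens) (hU : IsAffineOpen U)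
    (hcl : IsClosedImmersion (i ∣_ U)) (𝔭 : PrimeSpectrum Γ(X, U))
    (h : RingHom.ker (i.app U).hom ≤ 𝔭.asIdeal) :
    ∃ (z : Z) (hz : i z ∈ U), hU.primeIdealOf ⟨i z, hz⟩ = 𝔭 := by
  have haff := isAffineOpen_preimage i U hU hcl
  have hsurj := app_surjective i U hU hcl
  haveI := 𝔭.isPrime
  have hq : (𝔭.asIdeal.map (i.app U).hom).IsPrime :=
    Ideal.map_isPrime_of_surjective hsurj h
  obtain ⟨⟨z, hz⟩, hzq⟩ := exists_primeIdealOf_eq haff ⟨_, hq⟩
  refine ⟨z, hz, ?_⟩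
  have h1 := IsAffineOpen.comap_primeIdealOf_appLE (f := i) U hU (i ⁻¹ᵁ U) haff le_rfl hz
  rw [← h1, hzq]
  ext1
  change (𝔭.asIdeal.map (i.app U).hom).comap (i.appLE U (i ⁻¹ᵁ U) le_rfl).hom = 𝔭.asIdeal
  rw [Scheme.Hom.appLE_eq_app (f := i) (U := U), Ideal.comap_map_of_surjective _ hsurj,
    ← RingHom.ker_eq_comap_bot, sup_eq_left]
  exact h

/-- restriction to a smaller affine open: kernel and closed immersion. -/
theorem ker_app_of_le (i : Z ⟶ X) (U : X.Opens) (hU : IsAffineOpen U)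
    (hcl : IsClosedImmersion (i ∣_ U)) (D : X.Opens) (hD : IsAffineOpen D) (hDU : D ≤ U) :
    IsClosedImmersion (i ∣_ D) ∧
      RingHom.ker (i.app D).hom =
        (RingHom.ker (i.app U).hom).map (X.presheaf.map (homOfLE hDU).op).hom := by
  have hpb : IsPullback (𝟙 Z) i i (𝟙 X) := IsPullback.of_horiz_isIso ⟨by simp⟩
  obtain ⟨hcl', hker'⟩ := ker_app_of_isPullback i (𝟙 X) i (𝟙 Z) hpb ⟨U, hU⟩ ⟨D, hD⟩ hDU hcl
  refine ⟨hcl', ?_⟩
  rw [hker']
  congr 1

/-- **from the ring-level local condition to the immersion**. -/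
theorem regImmAt_of_locK (k : RegImm.Kind) (i : Z ⟶ X) (U : X.Opens) (hU : IsAffineOpen U)
    (hcl : IsClosedImmersion (i ∣_ U)) (h : LocK k (RingHom.ker (i.app U).hom)) (z : Z)
    (hzU : i z ∈ U) : RegImm.IsRegularImmersionAt k i z := by
  have hIle := ker_le_primeIdealOf i hU z hzU
  obtain ⟨g, hg, l, hl, hspan⟩ := h _ hIle
  have hU' : IsAffineOpen (X.basicOpen g) := hU.basicOpen g
  have hzU' : i z ∈ X.basicOpen g := (mem_basicOpen_iff_notMem_primeIdealOf hU (i z) hzU g).2 hg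
  have hU'U : X.basicOpen g ≤ U := X.basicOpen_le g
  haveI hloc : IsLocalization.Away g Γ(X, X.basicOpen g) := hU.isLocalization_basicOpen g
  let e : Localization.Away g ≃ₐ[Γ(X, U)] Γ(X, X.basicOpen g) :=
    IsLocalization.algEquiv (Submonoid.powers g) _ _
  haveI := (hU.primeIdealOf ⟨i z, hzU⟩).isPrime
  obtain ⟨l', hl', hspan'⟩ := exists_list_of_algEquiv k e _ l hl hspan
    (map_away_ne_top _ _ hIle g hg _)
  obtain ⟨hcl', hker'⟩ := ker_app_of_le i U hU hcl (X.basicOpen g) hU' hU'U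
  refine ⟨⟨X.basicOpen g, hU'⟩, hzU', hcl', l', hl', ?_⟩
  rw [hker', ← hspan']
  rfl

/-- restrictions between affine opens are flat. -/
theorem flat_res {D U : X.Opens} (hD : IsAffineOpen D) (hU : IsAffineOpen U) (hDU : D ≤ U) :
    (X.presheaf.map (homOfLE hDU).op).hom.Flat := by
  have h := HasRingHomProperty.appLE (P := @Flat) (𝟙 X) inferInstance ⟨U, hU⟩ ⟨D, hD⟩ hDU
  convert h using 1
  simp only [Scheme.Hom.appLE, Scheme.Hom.id_app, CommRingCat.hom_comp, CommRingCat.hom_id]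
  rfl

/-- **from the immersion to the ring-level local condition**. -/
theorem locK_ker_of_regImm (k : RegImm.Kind) (i : Z ⟶ X)
    (hi : ∀ z, RegImm.IsRegularImmersionAt k i z) (U : X.Opens) (hU : IsAffineOpen U)
    (hcl : IsClosedImmersion (i ∣_ U)) : LocK k (RingHom.ker (i.app U).hom) := by
  intro 𝔭 h𝔭
  obtain ⟨z, hzU, rfl⟩ := exists_preimage_of_ker_le i U hU hcl 𝔭 h𝔭
  obtain ⟨⟨U₁, hU₁⟩, hzU₁, hcl₁, rs, hrs, hker₁⟩ := hi z
  obtain ⟨f, g₁, hfg, hzf⟩ := exists_basicOpen_le_affine_inter hU hU₁ (i z) ⟨hzU, hzU₁⟩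
  have hg : f ∉ (hU.primeIdealOf ⟨i z, hzU⟩).asIdeal :=
    (mem_basicOpen_iff_notMem_primeIdealOf hU (i z) hzU f).1 hzf
  refine ⟨f, hg, ?_⟩
  have hD : IsAffineOpen (X.basicOpen f) := hU.basicOpen f
  have hDU : X.basicOpen f ≤ U := X.basicOpen_le f
  have hDU₁ : X.basicOpen f ≤ U₁ := hfg ▸ X.basicOpen_le g₁
  obtain ⟨hclD, hkerD⟩ := ker_app_of_le i U hU hcl (X.basicOpen f) hD hDU
  obtain ⟨-, hkerD₁⟩ := ker_app_of_le i U₁ hU₁ hcl₁ (X.basicOpen f) hD hDU₁
  have hρ := flat_res hD hU₁ hDU₁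
  have hne : RingHom.ker (i.app (X.basicOpen f)).hom ≠ ⊤ := by
    intro htop
    have h1 : (1 : Γ(X, X.basicOpen f)) ∈ RingHom.ker (i.app (X.basicOpen f)).hom := by
      rw [htop]; trivial
    rw [RingHom.mem_ker, map_one] at h1
    haveI hne : Nonempty (i ⁻¹ᵁ X.basicOpen f : Z.Opens) := ⟨⟨z, hzf⟩⟩
    exact one_ne_zero h1
  have hkerD' : RingHom.ker (i.app (X.basicOpen f)).hom =
      Ideal.ofList (rs.map (X.presheaf.map (homOfLE hDU₁).op).hom) := by
    rw [hkerD₁, hker₁, ofList_map]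
  have hseq : k.Seq Γ(X, X.basicOpen f) (rs.map (X.presheaf.map (homOfLE hDU₁).op).hom) :=
    seq_of_flat _ k hρ rs hrs (by rw [← hkerD']; exact hne)
  haveI hloc : IsLocalization.Away f Γ(X, X.basicOpen f) := hU.isLocalization_basicOpen f
  let e : Γ(X, X.basicOpen f) ≃ₐ[Γ(X, U)] Localization.Away f :=
    IsLocalization.algEquiv (Submonoid.powers f) _ _
  haveI := (hU.primeIdealOf ⟨i z, hzU⟩).isPrime
  refine exists_list_of_algEquiv k e _ _ hseq ?_ (map_away_ne_top _ _ h𝔭 f hg _)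
  rw [← hkerD', hkerD]
  rfl

end Groth.Agent.Lib.Seat7.RegImmLocal
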