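import Mathlib
import Groth.Prelude.Def_MoreMor
import Groth.Agent.Lib.Seat0PCHom
import Groth.Agent.Lib.Seat0PerfHom
import Groth.Agent.Lib.Seat0PerfMor
import Groth.Agent.Lib.Seat0PerfPres
import Groth.Agent.Lib.Seat26TorDim
import Groth.Agent.Lib.Helper4DimFormulaAO
import Groth.Agent.S0563
import Groth.Agent.S7067

/-!
# Finite type algebras over regular rings of finite dimension are perfect (Seat7)

* `hasTorDimLE_of_hasProjectiveDimensionLT`: projective dimension `≤ n` gives tor dimension `≤ n`.
* `hasProjectiveDimensionLT_of_isRegularRing`: finite modules over a regular ring of Krull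
  dimension `≤ D` have projective dimension `≤ D`.
* `perfH_of_isRegularRing`: a finite type algebra over a regular ring of finite dimension is perfect.
-/

set_option autoImplicit false
set_option maxHeartbeats 400000
universe u
open CategoryTheory CategoryTheory.Limits AlgebraicGeometry

namespace Groth.Agent.Lib.Seat7.RegPerf

open Groth.Agent.Lib.Seat0.PCHom Groth.Agent.Lib.Seat0.PerfHom
  Groth.Agent.Lib.Seat0.PerfMor Groth.Agent.Lib.Seat0.PerfPres

/-- projective dimension `≤ n` gives tor dimension `≤ n` -/
theorem hasTorDimLE_of_hasProjectiveDimensionLT {R : Type u} [CommRing R] (M : Type u)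
    [AddCommGroup M] [Module R M] (n : ℕ)
    (h : HasProjectiveDimensionLT (ModuleCat.of R M) (n + 1)) : DRing.HasTorDimLE R n M := by
  intro N _ _ p hp
  haveI : HasProjectiveDimensionLT (ModuleCat.of R M) p :=
    hasProjectiveDimensionLT_of_ge _ (n + 1) p (by omega)
  exact ModuleCat.subsingleton_of_isZero
    (Groth.Agent.Lib.Seat26.TorDim.isZero_tor_of_hasProjectiveDimensionLT p (ModuleCat.of R M)
      (ModuleCat.of R N))

/-- finite modules over a regular ring of Krull dimension `≤ D` have projective dimension `≤ D` -/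
theorem hasProjectiveDimensionLT_of_isRegularRing (P : Type u) [CommRing P] [IsRegularRing P]
    (D : ℕ) (hD : ringKrullDim P ≤ D) (M : Type u) [AddCommGroup M] [Module P M]
    [Module.Finite P M] : HasProjectiveDimensionLT (ModuleCat.of P M) (D + 1) := by
  have key := (ModuleCat.hasProjectiveDimensionLE_iff_forall_primeSpectrum D
    (ModuleCat.of P M)).2
  refine key (fun p => ?_)
  haveI : p.asIdeal.IsPrime := p.2
  obtain ⟨d, hd⟩ := Groth.Agent.Lib.Helper4.DimFormula.exists_nat_ringKrullDim_eq
    (Localization.AtPrime p.asIdeal)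
  have hdD : d ≤ D := by
    have h1 : ringKrullDim (Localization.AtPrime p.asIdeal) = p.asIdeal.height :=
      IsLocalization.AtPrime.ringKrullDim_eq_height p.asIdeal _
    have h2 : (p.asIdeal.height : WithBot ℕ∞) ≤ ringKrullDim P :=
      Ideal.height_le_ringKrullDim_of_ne_top Ideal.IsPrime.ne_top'
    have h3 : ((d : ℕ) : WithBot ℕ∞) ≤ ((D : ℕ) : WithBot ℕ∞) := by
      calc ((d : ℕ) : WithBot ℕ∞) = ringKrullDim (Localization.AtPrime p.asIdeal) := hd.symm
        _ = p.asIdeal.height := h1
        _ ≤ ringKrullDim P := h2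
        _ ≤ D := hD
    exact_mod_cast h3
  have h4 : HasProjectiveDimensionLT
      ((ModuleCat.of P M).localizedModule p.1.primeCompl) (d + 1) :=
    Groth.Agent.S0563.result (Localization.AtPrime p.asIdeal) d hd _
  exact hasProjectiveDimensionLT_of_ge _ (d + 1) (D + 1) (by omega)

/-- a Krull dimension `< ⊤` is bounded by a natural number -/
theorem exists_nat_ringKrullDim_le (P : Type u) [CommRing P] (hdim : ringKrullDim P < ⊤) :
    ∃ D : ℕ, ringKrullDim P ≤ ((D : ℕ) : WithBot ℕ∞) := by
  by_cases hbot : ringKrullDim P = ⊥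
  · exact ⟨0, by rw [hbot]; exact bot_le⟩
  · obtain ⟨e, he⟩ := WithBot.ne_bot_iff_exists.mp hbot
    have he' : e ≠ ⊤ := by
      rintro rfl
      rw [← he] at hdim
      exact lt_irrefl _ hdim
    obtain ⟨D, hD⟩ := ENat.ne_top_iff_exists.mp he'
    refine ⟨D, ?_⟩
    rw [← he, ← hD]
    rfl

/-- a surjection from a regular ring of finite Krull dimension has finite tor dimension -/
theorem ftd_of_surjective_of_isRegularRing {P B : Type u} [CommRing P] [CommRing B]
    [IsRegularRing P] (D : ℕ) (hD : ringKrullDim P ≤ ((D : ℕ) : WithBot ℕ∞)) (α : P →+* B)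
    (hα : Function.Surjective α) : FTD α := by
  letI : Algebra P B := α.toAlgebra
  haveI : Module.Finite P B := Module.Finite.of_surjective (Algebra.linearMap P B) hα
  exact ⟨D, hasTorDimLE_of_hasProjectiveDimensionLT B D
    (hasProjectiveDimensionLT_of_isRegularRing P D hD B)⟩

/-- a finite type algebra over a regular ring of finite Krull dimension is perfect -/
theorem perfH_of_isRegularRing (A B : Type u) [CommRing A] [CommRing B] [Algebra A B]
    [IsRegularRing A] (hdim : ringKrullDim A < ⊤) [Algebra.FiniteType A B] :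
    PerfH (algebraMap A B) := by
  refine ⟨(isPseudoCoherentHom_iff (R := A) (S := B)).1 (Groth.Agent.S7067.result A B), ?_⟩
  obtain ⟨n, α, hα⟩ := Groth.Agent.Lib.Helper1.RelPC.exists_presentation A B
  obtain ⟨D, hD⟩ := exists_nat_ringKrullDim_le A hdim
  have hdimP : ringKrullDim (MvPolynomial (Fin n) A) ≤ ((D + n : ℕ) : WithBot ℕ∞) := by
    rw [MvPolynomial.ringKrullDim_of_isNoetherianRing, Nat.card_eq_fintype_card, Fintype.card_fin]
    push_cast
    exact add_le_add_left hD _
  have h1 : FTD (α : MvPolynomial (Fin n) A →+* B) :=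
    ftd_of_surjective_of_isRegularRing (D + n) hdimP _ hα
  have h2 := ftd_base_of_ftd _ h1
  have h3 : (α : MvPolynomial (Fin n) A →+* B).comp MvPolynomial.C = algebraMap A B := by
    ext a
    exact α.commutes a
  rw [h3] at h2
  exact h2

end Groth.Agent.Lib.Seat7.RegPerf
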