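import Mathlib.Algebra.MvPolynomial.Expand
import Mathlib.LinearAlgebra.Basis.Basic
import Mathlib.LinearAlgebra.Dimension.Finrank
import Mathlib.LinearAlgebra.Dimension.StrongRankCondition
import Mathlib.LinearAlgebra.FreeModule.Basic
import Mathlib.RingTheory.Flat.Basic

/-!
# A polynomial ring is free over itself along `a ↦ e a`, `X i ↦ X i ^ n`

For a bijective ring hom `e : K' →+* K`, `n > 0` and a finite type `σ`, the ring hom
`phi e n : MvPolynomial σ K' →+* MvPolynomial σ K` (coefficients through `e`, variables to their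
`n`-th powers) makes the target a free module with basis the monomials `X^ε`, `ε : σ → Fin n`.
-/

set_option autoImplicit false
set_option linter.unusedSectionVars false
universe u v w

namespace Groth.Agent.Lib.Seat88.ExpandFree

open MvPolynomial

variable {σ : Type w} [Fintype σ] [DecidableEq σ] {K : Type u} {K' : Type v} [CommRing K] [CommRing K']
  (e : K' →+* K) (n : ℕ)

/-- the ring hom `a ↦ e a`, `X i ↦ X i ^ n` -/
noncomputable def phi : MvPolynomial σ K' →+* MvPolynomial σ K :=
  ((expand n : MvPolynomial σ K →ₐ[K] MvPolynomial σ K) : MvPolynomial σ K →+* MvPolynomial σ K).comp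
    (MvPolynomial.map e)

lemma phi_C (a : K') : phi (σ := σ) e n (C a) = C (e a) := by
  simp [phi]

lemma phi_X (i : σ) : phi e n (X i : MvPolynomial σ K') = X i ^ n := by
  simp [phi]

lemma phi_monomial (q : σ →₀ ℕ) (a : K') :
    phi e n (monomial q a) = monomial (n • q) (e a) := by
  simp [phi, expand_monomial, map_monomial]

/-- the exponent vector attached to `ε : σ → Fin n` -/
noncomputable def expo (ε : σ → Fin n) : σ →₀ ℕ := Finsupp.equivFunOnFinite.symm fun i => (ε i : ℕ)

@[simp] lemma expo_apply (ε : σ → Fin n) (i : σ) : expo n ε i = (ε i : ℕ) := rfl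

/-- the monomial attached to `ε : σ → Fin n` -/
noncomputable def mon (ε : σ → Fin n) : MvPolynomial σ K := monomial (expo n ε) 1

/-- quotient of an exponent vector by `n` -/
noncomputable def quo (m : σ →₀ ℕ) : σ →₀ ℕ := Finsupp.equivFunOnFinite.symm fun i => m i / n

@[simp] lemma quo_apply (m : σ →₀ ℕ) (i : σ) : quo n m i = m i / n := rfl

/-- remainder of an exponent vector mod `n` -/
def rem (hn : 0 < n) (m : σ →₀ ℕ) : σ → Fin n := fun i => ⟨m i % n, Nat.mod_lt _ hn⟩

lemma eq_iff (hn : 0 < n) (q m : σ →₀ ℕ) (ε : σ → Fin n) :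
    n • q + expo n ε = m ↔ rem n hn m = ε ∧ quo n m = q := by
  constructor
  · rintro rfl
    constructor
    · funext i
      apply Fin.ext
      simp only [rem, Finsupp.add_apply, Finsupp.smul_apply, smul_eq_mul, expo_apply]
      rw [Nat.mul_add_mod]
      exact Nat.mod_eq_of_lt (ε i).2
    · ext i
      simp only [quo_apply, Finsupp.add_apply, Finsupp.smul_apply, smul_eq_mul, expo_apply]
      rw [Nat.mul_add_div hn, Nat.div_eq_of_lt (ε i).2, add_zero]
  · rintro ⟨h1, h2⟩
    ext i
    have h1i : m i % n = (ε i : ℕ) := by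
      have := congrArg (fun f => ((f i : Fin n) : ℕ)) h1
      simpa [rem] using this
    have h2i : m i / n = q i := by
      have := congrArg (fun f => f i) h2
      simpa using this
    simp only [Finsupp.add_apply, Finsupp.smul_apply, smul_eq_mul, expo_apply]
    rw [← h1i, ← h2i]
    exact Nat.div_add_mod (m i) n

lemma phi_monomial_mul_mon (q : σ →₀ ℕ) (a : K') (ε : σ → Fin n) :
    phi e n (monomial q a) * mon n ε = monomial (n • q + expo n ε) (e a) := by
  rw [phi_monomial, mon, monomial_mul, mul_one]

lemma coeff_phi_mul_mon (hn : 0 < n) (h : MvPolynomial σ K') (ε : σ → Fin n) (m : σ →₀ ℕ) :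
    coeff m (phi e n h * mon n ε) = if rem n hn m = ε then e (coeff (quo n m) h) else 0 := by
  classical
  induction h using MvPolynomial.induction_on' with
  | monomial q a =>
    rw [phi_monomial_mul_mon, coeff_monomial, coeff_monomial]
    by_cases h1 : rem n hn m = ε
    · rw [if_pos h1]
      by_cases h2 : q = quo n m
      · rw [if_pos h2, if_pos ((eq_iff n hn q m ε).mpr ⟨h1, h2.symm⟩)]
      · rw [if_neg h2, map_zero, if_neg]
        intro hc
        exact h2 ((eq_iff n hn q m ε).mp hc).2.symm
    · rw [if_neg h1, if_neg]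
      intro hc
      exact h1 ((eq_iff n hn q m ε).mp hc).1
  | add f g hf hg =>
    rw [map_add, add_mul, coeff_add, hf, hg, coeff_add, map_add]
    split_ifs <;> simp

section module

/-- the combination map `c ↦ ∑ ε, phi (c ε) * X^ε` -/
noncomputable def comb (c : (σ → Fin n) → MvPolynomial σ K') : MvPolynomial σ K :=
  ∑ ε, phi e n (c ε) * mon n ε

lemma coeff_comb (hn : 0 < n) (c : (σ → Fin n) → MvPolynomial σ K') (m : σ →₀ ℕ) :
    coeff m (comb e n c) = e (coeff (quo n m) (c (rem n hn m))) := by
  classical
  rw [comb, coeff_sum]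
  simp only [coeff_phi_mul_mon e n hn]
  rw [Finset.sum_ite_eq]
  simp

lemma comb_injective (hn : 0 < n) (he : Function.Injective e) :
    Function.Injective (comb (σ := σ) e n) := by
  intro c c' hcc
  funext ε
  ext q
  have h := congrArg (coeff (n • q + expo n ε)) hcc
  rw [coeff_comb e n hn, coeff_comb e n hn] at h
  obtain ⟨h1, h2⟩ := (eq_iff n hn q (n • q + expo n ε) ε).mp rfl
  rw [h1, h2] at h
  exact he h

lemma comb_add (c c' : (σ → Fin n) → MvPolynomial σ K') :
    comb e n (c + c') = comb e n c + comb e n c' := by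
  simp only [comb, Pi.add_apply, map_add, add_mul, Finset.sum_add_distrib]

lemma comb_zero : comb (σ := σ) e n 0 = 0 := by
  simp [comb]

lemma comb_surjective (hn : 0 < n) (he : Function.Surjective e) :
    Function.Surjective (comb (σ := σ) e n) := by
  classical
  intro g
  induction g using MvPolynomial.induction_on' with
  | monomial m a =>
    obtain ⟨a', rfl⟩ := he a
    refine ⟨Pi.single (rem n hn m) (monomial (quo n m) a'), ?_⟩
    rw [comb, Finset.sum_eq_single (rem n hn m)]
    · rw [Pi.single_eq_same, phi_monomial_mul_mon]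
      rw [(eq_iff n hn (quo n m) m (rem n hn m)).mpr ⟨rfl, rfl⟩]
    · intro ε _ hε
      rw [Pi.single_eq_of_ne hε, map_zero, zero_mul]
    · intro h
      exact absurd (Finset.mem_univ _) h
  | add f g hf hg =>
    obtain ⟨c, rfl⟩ := hf
    obtain ⟨c', rfl⟩ := hg
    exact ⟨c + c', comb_add e n c c'⟩

end module

section free

variable [Algebra (MvPolynomial σ K') (MvPolynomial σ K)]

/-- If the algebra structure of `K[X]` over `K'[X]` is `phi e n` with `e` bijective and `n > 0`, then
the monomials `X^ε`, `ε : σ → Fin n`, form a basis. -/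
theorem exists_basis (halg : algebraMap (MvPolynomial σ K') (MvPolynomial σ K) = phi e n)
    (hn : 0 < n) (he : Function.Bijective e) :
    ∃ b : Module.Basis (σ → Fin n) (MvPolynomial σ K') (MvPolynomial σ K), ∀ ε, b ε = mon n ε := by
  classical
  let L : ((σ → Fin n) → MvPolynomial σ K') →ₗ[MvPolynomial σ K'] MvPolynomial σ K :=
    Fintype.linearCombination (MvPolynomial σ K') (mon (K := K) n)
  have hL : ∀ c, L c = comb e n c := by
    intro c
    simp only [L, Fintype.linearCombination_apply, comb, Algebra.smul_def, halg]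
  have hbij : Function.Bijective L := by
    constructor
    · intro c c' h
      rw [hL, hL] at h
      exact comb_injective e n hn he.1 h
    · intro g
      obtain ⟨c, hc⟩ := comb_surjective e n hn he.2 g
      exact ⟨c, (hL c).trans hc⟩
  refine ⟨Module.Basis.ofEquivFun (LinearEquiv.ofBijective L hbij).symm, fun ε => ?_⟩
  rw [Module.Basis.coe_ofEquivFun]
  simp only [LinearEquiv.symm_symm, LinearEquiv.ofBijective_apply]
  rw [hL, comb, Finset.sum_eq_single ε]
  · rw [Pi.single_eq_same, map_one, one_mul]
  · intro ε' _ hε'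
    rw [Pi.single_eq_of_ne hε', map_zero, zero_mul]
  · intro h
    exact absurd (Finset.mem_univ _) h

theorem free (halg : algebraMap (MvPolynomial σ K') (MvPolynomial σ K) = phi e n)
    (hn : 0 < n) (he : Function.Bijective e) :
    Module.Free (MvPolynomial σ K') (MvPolynomial σ K) := by
  obtain ⟨b, -⟩ := exists_basis e n halg hn he
  exact Module.Free.of_basis b

theorem finite (halg : algebraMap (MvPolynomial σ K') (MvPolynomial σ K) = phi e n)
    (hn : 0 < n) (he : Function.Bijective e) :
    Module.Finite (MvPolynomial σ K') (MvPolynomial σ K) := by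
  obtain ⟨b, -⟩ := exists_basis e n halg hn he
  exact Module.Finite.of_basis b

theorem finrank_eq [Nontrivial K'] (halg : algebraMap (MvPolynomial σ K') (MvPolynomial σ K) = phi e n)
    (hn : 0 < n) (he : Function.Bijective e) :
    Module.finrank (MvPolynomial σ K') (MvPolynomial σ K) = n ^ Fintype.card σ := by
  obtain ⟨b, -⟩ := exists_basis e n halg hn he
  rw [Module.finrank_eq_card_basis b]
  simp

end free

end Groth.Agent.Lib.Seat88.ExpandFree
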