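import Mathlib
import Groth.Prelude.Def_FrobAlg
import Groth.Agent.Lib.Helper6FrobEtale
import Groth.Agent.Lib.Seat88RadicialEtale

/-!
# Universe-polymorphic basic facts on the relative Frobenius

`relFrob p A B : B ⊗[A] Twist p A →+* B` for `A : Type u`, `B : Type v`: it is integral, its kernel is
killed by the `p`-th power, and it is bijective when `B` is étale over `A`.  (The proofs follow the
single-universe files `S3191` and `Helper18RelFrob` of the earlier team.)
-/

set_option autoImplicit false
set_option linter.style.haveILetI false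
universe u v

namespace Groth.Agent.Lib.Seat88.RelFrobPoly

open TensorProduct FrobAlg
open Groth.Agent.Lib.Helper6.FrobEtale (relFrob_tmul)

variable (p : ℕ) [Fact p.Prime] (A : Type u) [CommRing A] [CharP A p]
  (B : Type v) [CommRing B] [Algebra A B] [CharP B p]

theorem natCast_baseChange_eq_zero : ((p : ℕ) : FrobAlg.BaseChange p A B) = 0 := by
  have : ((p : ℕ) : FrobAlg.BaseChange p A B) = ((p : ℕ) : B) ⊗ₜ[A] (1 : FrobAlg.Twist p A) := by
    have h1 : ((p : ℕ) : FrobAlg.BaseChange p A B) =
        algebraMap B (FrobAlg.BaseChange p A B) ((p : ℕ) : B) := (map_natCast _ p).symm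
    rw [h1, Algebra.TensorProduct.algebraMap_apply, Algebra.algebraMap_self, RingHom.id_apply]
  rw [this, CharP.cast_eq_zero, zero_tmul]

theorem charP_baseChange : CharP (FrobAlg.BaseChange p A B) p := by
  constructor
  intro n
  constructor
  · intro h
    have := congrArg (FrobAlg.relFrob p A B) h
    rw [map_natCast, map_zero] at this
    exact (CharP.cast_eq_zero_iff B p n).1 this
  · rintro ⟨k, rfl⟩
    rw [Nat.cast_mul, natCast_baseChange_eq_zero, zero_mul]

theorem pow_eq_relFrob_tmul (x : FrobAlg.BaseChange p A B) :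
    x ^ p = (FrobAlg.relFrob p A B x) ⊗ₜ[A] (1 : FrobAlg.Twist p A) := by
  haveI := charP_baseChange p A B
  induction x using TensorProduct.induction_on with
  | zero => simp [zero_pow (Fact.out : p.Prime).ne_zero]
  | tmul b a =>
    rw [relFrob_tmul, Algebra.TensorProduct.tmul_pow]
    have : a ^ p = algebraMap A (FrobAlg.Twist p A) ((FrobAlg.toTwist p A).symm a) := by
      rw [FrobAlg.algebraMap_twist]; rfl
    rw [this, Algebra.algebraMap_eq_smul_one, ← TensorProduct.smul_tmul, Algebra.smul_def, mul_comm]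
  | add x y hx hy =>
    rw [add_pow_char, hx, hy, map_add, TensorProduct.add_tmul]

theorem relFrob_isIntegral : (FrobAlg.relFrob p A B).IsIntegral := by
  intro b
  refine ⟨Polynomial.X ^ p - Polynomial.C (b ⊗ₜ[A] (1 : FrobAlg.Twist p A)), ?_, ?_⟩
  · exact Polynomial.monic_X_pow_sub_C _ (Fact.out : p.Prime).ne_zero
  · rw [Polynomial.eval₂_sub, Polynomial.eval₂_pow, Polynomial.eval₂_X, Polynomial.eval₂_C,
      relFrob_tmul]
    simp

theorem pow_eq_zero_of_relFrob_eq_zero (x : FrobAlg.BaseChange p A B)
    (hx : FrobAlg.relFrob p A B x = 0) : x ^ p = 0 := by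
  rw [pow_eq_relFrob_tmul, hx, zero_tmul]

theorem relFrob_bijective_of_etale [Algebra.Etale A B] :
    Function.Bijective (FrobAlg.relFrob p A B) := by
  have hp : p.Prime := Fact.out
  let T := FrobAlg.Twist p A
  let B' := FrobAlg.BaseChange p A B
  let e : A ≃+* T := FrobAlg.toTwist p A
  letI algTB : Algebra T B := ((algebraMap A B).comp (e.symm : T →+* A)).toAlgebra
  letI algTA : Algebra T A := (e.symm : T →+* A).toAlgebra
  haveI towerTAB : IsScalarTower T A B := IsScalarTower.of_algebraMap_eq (fun _ => rfl)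
  have hTA : Algebra.Etale T A :=
    Algebra.Etale.of_equiv (AlgEquiv.ofRingEquiv (f := e.symm) (fun _ => rfl) : T ≃ₐ[T] A)
  have hTB : Algebra.Etale T B := Algebra.Etale.comp T A B
  have hTB' : Algebra.Etale T B' := Algebra.Etale.of_equiv (Algebra.TensorProduct.commRight A T B)
  letI algB'B : Algebra B' B := (FrobAlg.relFrob p A B).toAlgebra
  have htower : ∀ t : T, algebraMap T B t = algebraMap B' B (algebraMap T B' t) := by
    intro t
    change algebraMap A B (e.symm t) = FrobAlg.relFrob p A B ((1 : B) ⊗ₜ[A] t)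
    rw [relFrob_tmul, one_pow, one_mul]
  haveI tower : @IsScalarTower T B' B Algebra.toSMul Algebra.toSMul Algebra.toSMul :=
    IsScalarTower.of_algebraMap_eq htower
  haveI : Algebra.Etale B' B := Algebra.Etale.of_restrictScalars T B' B
  haveI : Module.Flat B' B := inferInstance
  have hrad : ∀ s : B, ∃ r : B', algebraMap B' B r = s ^ p := fun s =>
    ⟨s ⊗ₜ[A] (1 : T), by
      change FrobAlg.relFrob p A B (s ⊗ₜ[A] (1 : T)) = _
      rw [relFrob_tmul]
      simp⟩
  have hp0 : ((p : ℕ) : B) = 0 := CharP.cast_eq_zero B p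
  exact Groth.Agent.Lib.Seat88.RadicialEtale.bijective_of_radicial p hp B' B hp0 hrad
    (fun r hr => ⟨p, pow_eq_zero_of_relFrob_eq_zero p A B r hr⟩)

end Groth.Agent.Lib.Seat88.RelFrobPoly
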