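import Mathlib
import Groth.Prelude.Def_FrobAlg
import Groth.Agent.Lib.Helper6FrobEtale
import Groth.Agent.Lib.Seat88ExpandFree
import Groth.Agent.Lib.Seat88RelFrobPoly

/-!
# The relative Frobenius of an algebra with étale coordinates is free of rank `p ^ r`

If `B` is étale over the polynomial ring `A[T_i, i ∈ σ]` (in characteristic `p`) then `B` is a free
module over `B ⊗[A] Twist p A` through the relative Frobenius, with basis the monomials
`t^ε`, `ε : σ → Fin p`.
-/

set_option autoImplicit false
set_option linter.unusedSectionVars false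
universe u v w

namespace Groth.Agent.Lib.Seat88.RelFrobCoord

open TensorProduct FrobAlg MvPolynomial
open Groth.Agent.Lib.Helper6.FrobEtale (relFrob_tmul)
open Groth.Agent.Lib.Seat88

variable (p : ℕ) [Fact p.Prime] (A : Type u) [CommRing A] [CharP A p]
  (B : Type v) [CommRing B] [Algebra A B] [CharP B p]
  (σ : Type w) [Fintype σ] [DecidableEq σ]

/-- the untwisting ring hom -/
def untw : Twist p A →+* A := ((toTwist p A).symm : Twist p A →+* A)

lemma untw_bijective : Function.Bijective (untw p A) := (toTwist p A).symm.bijective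

lemma untw_algebraMap (a : A) : untw p A (algebraMap A (Twist p A) a) = a ^ p := by
  rw [algebraMap_twist]
  exact (toTwist p A).symm_apply_apply _

/-- `a ↦ a`, `X i ↦ X i ^ p` from the polynomial ring over the twist -/
noncomputable def phi' : MvPolynomial σ (Twist p A) →+* MvPolynomial σ A :=
  ExpandFree.phi (untw p A) p

/-- the coefficientwise Frobenius -/
noncomputable def chi : MvPolynomial σ A →+* MvPolynomial σ (Twist p A) :=
  MvPolynomial.map (algebraMap A (Twist p A))

lemma phi'_chi (f : MvPolynomial σ A) : phi' p A σ (chi p A σ f) = f ^ p := by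
  have : (phi' p A σ).comp (chi p A σ) = frobenius (MvPolynomial σ A) p := by
    apply MvPolynomial.ringHom_ext
    · intro a
      simp only [RingHom.comp_apply, chi, phi', MvPolynomial.map_C, ExpandFree.phi_C,
        untw_algebraMap, frobenius_def, map_pow]
    · intro i
      simp only [RingHom.comp_apply, chi, phi', MvPolynomial.map_X, ExpandFree.phi_X,
        frobenius_def]
  exact RingHom.congr_fun this f

variable [Algebra (MvPolynomial σ A) B] [IsScalarTower A (MvPolynomial σ A) B]

/-- the map `a ↦ 1 ⊗ a`, `X i ↦ t i ⊗ 1` -/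
noncomputable def psi : MvPolynomial σ (Twist p A) →+* BaseChange p A B :=
  MvPolynomial.eval₂Hom
    ((Algebra.TensorProduct.includeRight : Twist p A →ₐ[A] BaseChange p A B) :
      Twist p A →+* BaseChange p A B)
    (fun i => algebraMap (MvPolynomial σ A) B (X i) ⊗ₜ[A] (1 : Twist p A))

lemma psi_C (a : Twist p A) : psi p A B σ (C a) = (1 : B) ⊗ₜ[A] a := by
  simp [psi]

lemma psi_X (i : σ) :
    psi p A B σ (X i) = algebraMap (MvPolynomial σ A) B (X i) ⊗ₜ[A] (1 : Twist p A) := by
  simp [psi]

lemma algebraMap_C (a : A) : algebraMap (MvPolynomial σ A) B (C a) = algebraMap A B a := by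
  rw [IsScalarTower.algebraMap_apply A (MvPolynomial σ A) B, MvPolynomial.algebraMap_eq]

lemma relFrob_psi (g : MvPolynomial σ (Twist p A)) :
    relFrob p A B (psi p A B σ g) = algebraMap (MvPolynomial σ A) B (phi' p A σ g) := by
  have : (relFrob p A B).comp (psi p A B σ) =
      (algebraMap (MvPolynomial σ A) B).comp (phi' p A σ) := by
    apply MvPolynomial.ringHom_ext
    · intro a
      simp only [RingHom.comp_apply, psi_C, relFrob_tmul, one_pow, one_mul, phi',
        ExpandFree.phi_C, algebraMap_C]
      rfl
    · intro i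
      simp only [RingHom.comp_apply, psi_X, relFrob_tmul, phi', ExpandFree.phi_X, map_pow,
        map_one, mul_one]
  exact RingHom.congr_fun this g

lemma psi_chi (f : MvPolynomial σ A) :
    psi p A B σ (chi p A σ f) = algebraMap (MvPolynomial σ A) B f ⊗ₜ[A] (1 : Twist p A) := by
  have : (psi p A B σ).comp (chi p A σ) =
      (Algebra.TensorProduct.includeLeftRingHom : B →+* BaseChange p A B).comp
        (algebraMap (MvPolynomial σ A) B) := by
    apply MvPolynomial.ringHom_ext
    · intro a
      simp only [RingHom.comp_apply, chi, MvPolynomial.map_C, psi_C, algebraMap_C,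
        Algebra.TensorProduct.includeLeftRingHom_apply]
      rw [Algebra.algebraMap_eq_smul_one, Algebra.algebraMap_eq_smul_one a (A := B),
        TensorProduct.smul_tmul]
    · intro i
      simp only [RingHom.comp_apply, chi, MvPolynomial.map_X, psi_X,
        Algebra.TensorProduct.includeLeftRingHom_apply]
  exact RingHom.congr_fun this f

section basis

variable [Algebra (MvPolynomial σ (Twist p A)) (MvPolynomial σ A)]
  (halg : algebraMap (MvPolynomial σ (Twist p A)) (MvPolynomial σ A) = phi' p A σ)
  (bas : Module.Basis (σ → Fin p) (MvPolynomial σ (Twist p A)) (MvPolynomial σ A))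
  (hbas : ∀ ε, bas ε = ExpandFree.mon p ε)

/-- the coordinate map, for fixed `b : B` -/
noncomputable def Gaux (b : B) :
    Twist p (MvPolynomial σ A) →+ ((σ → Fin p) → BaseChange p A B) where
  toFun f' := fun ε => (b ⊗ₜ[A] (1 : Twist p A)) *
    psi p A B σ (bas.repr ((toTwist p (MvPolynomial σ A)).symm f') ε)
  map_zero' := by
    funext ε
    simp
  map_add' x y := by
    funext ε
    simp [mul_add]

/-- the coordinate map as a biadditive map -/
noncomputable def G₂ :
    B →+ Twist p (MvPolynomial σ A) →+ ((σ → Fin p) → BaseChange p A B) where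
  toFun b := Gaux p A B σ bas b
  map_zero' := by
    ext f' ε
    simp [Gaux]
  map_add' x y := by
    ext f' ε
    simp [Gaux, TensorProduct.add_tmul, add_mul]

include halg in
lemma G₂_balanced (h : MvPolynomial σ A) (b : B) (f' : Twist p (MvPolynomial σ A)) :
    G₂ p A B σ bas (h • b) f' = G₂ p A B σ bas b (h • f') := by
  funext ε
  change ((h • b) ⊗ₜ[A] (1 : Twist p A)) *
      psi p A B σ (bas.repr ((toTwist p (MvPolynomial σ A)).symm f') ε) =
    (b ⊗ₜ[A] (1 : Twist p A)) *
      psi p A B σ (bas.repr ((toTwist p (MvPolynomial σ A)).symm (h • f')) ε)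
  have h1 : (toTwist p (MvPolynomial σ A)).symm (h • f') =
      (chi p A σ h) • (toTwist p (MvPolynomial σ A)).symm f' := by
    rw [Algebra.smul_def, Algebra.smul_def, halg, phi'_chi, map_mul, algebraMap_twist,
      RingEquiv.symm_apply_apply]
  rw [h1, map_smul, Finsupp.smul_apply, smul_eq_mul, map_mul, psi_chi, Algebra.smul_def,
    ← mul_assoc, Algebra.TensorProduct.tmul_mul_tmul, mul_one, mul_comm b]

/-- the coordinate map on `B ⊗[P] Twist p P` -/
noncomputable def G (halg : algebraMap (MvPolynomial σ (Twist p A)) (MvPolynomial σ A) = phi' p A σ) :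
    BaseChange p (MvPolynomial σ A) B →+ ((σ → Fin p) → BaseChange p A B) :=
  TensorProduct.liftAddHom (G₂ p A B σ bas) (G₂_balanced p A B σ halg bas)

lemma G_tmul (b : B) (f' : Twist p (MvPolynomial σ A)) (ε : σ → Fin p) :
    G p A B σ bas halg (b ⊗ₜ f') ε = (b ⊗ₜ[A] (1 : Twist p A)) *
      psi p A B σ (bas.repr ((toTwist p (MvPolynomial σ A)).symm f') ε) := rfl

end basis

section main

variable [Algebra.Etale (MvPolynomial σ A) B]

set_option linter.style.haveILetI false in
/-- If `B` is étale over `A[T_i, i ∈ σ]`, then `B` is free over its Frobenius twist (through the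
relative Frobenius) with basis the monomials `t^ε`, `ε : σ → Fin p`. -/
theorem exists_basis :
    letI := (relFrob p A B).toAlgebra
    ∃ b : Module.Basis (σ → Fin p) (BaseChange p A B) B,
      ∀ ε, b ε = algebraMap (MvPolynomial σ A) B (ExpandFree.mon p ε) := by
  classical
  have hp : p.Prime := Fact.out
  letI algR : Algebra (BaseChange p A B) B := (relFrob p A B).toAlgebra
  letI algP : Algebra (MvPolynomial σ (Twist p A)) (MvPolynomial σ A) := (phi' p A σ).toAlgebra
  have halg : algebraMap (MvPolynomial σ (Twist p A)) (MvPolynomial σ A) = phi' p A σ := rfl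
  obtain ⟨bas, hbas⟩ := ExpandFree.exists_basis (untw p A) p halg hp.pos (untw_bijective p A)
  have hFP := RelFrobPoly.relFrob_bijective_of_etale p (MvPolynomial σ A) B
  let mm : (σ → Fin p) → B := fun ε => algebraMap (MvPolynomial σ A) B (ExpandFree.mon p ε)
  let L : ((σ → Fin p) → BaseChange p A B) →ₗ[BaseChange p A B] B :=
    Fintype.linearCombination _ mm
  have hL : ∀ c, L c = ∑ ε, relFrob p A B (c ε) * mm ε := by
    intro c
    simp only [L, Fintype.linearCombination_apply, Algebra.smul_def]
    rfl
  have key1 : ∀ q : BaseChange p (MvPolynomial σ A) B,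
      L (G p A B σ bas halg q) = relFrob p (MvPolynomial σ A) B q := by
    intro q
    induction q using TensorProduct.induction_on with
    | zero => simp
    | tmul b f' =>
      rw [hL, relFrob_tmul]
      simp only [G_tmul, map_mul, relFrob_tmul, relFrob_psi, map_one, mul_one]
      have hf : algebraMap (MvPolynomial σ A) B ((toTwist p (MvPolynomial σ A)).symm f') =
          ∑ ε, algebraMap (MvPolynomial σ A) B
            (phi' p A σ (bas.repr ((toTwist p (MvPolynomial σ A)).symm f') ε)) * mm ε := by
        conv_lhs => rw [← bas.sum_repr ((toTwist p (MvPolynomial σ A)).symm f')]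
        rw [map_sum]
        refine Finset.sum_congr rfl fun ε _ => ?_
        rw [Algebra.smul_def, halg, map_mul, hbas]
      rw [hf, Finset.mul_sum]
      refine Finset.sum_congr rfl fun ε _ => ?_
      ring
    | add x y hx hy => rw [map_add, map_add, map_add, hx, hy]
  have key2 : ∀ (ε : σ → Fin p) (x : BaseChange p A B),
      ∃ q : BaseChange p (MvPolynomial σ A) B,
        relFrob p (MvPolynomial σ A) B q = relFrob p A B x * mm ε ∧
          G p A B σ bas halg q = Pi.single ε x := by
    intro ε x
    induction x using TensorProduct.induction_on with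
    | zero => exact ⟨0, by simp, by simp⟩
    | tmul b a' =>
      refine ⟨b ⊗ₜ toTwist p _ (C (untw p A a') * ExpandFree.mon p ε), ?_, ?_⟩
      · rw [relFrob_tmul, relFrob_tmul, RingEquiv.symm_apply_apply, map_mul, algebraMap_C,
          mul_assoc]
        rfl
      · funext ε'
        rw [G_tmul, RingEquiv.symm_apply_apply]
        have h1 : C (untw p A a') * ExpandFree.mon p ε =
            (C a' : MvPolynomial σ (Twist p A)) • bas ε := by
          rw [Algebra.smul_def, halg, hbas, phi', ExpandFree.phi_C]
        rw [h1, map_smul, bas.repr_self, Finsupp.smul_apply, Finsupp.single_apply, smul_eq_mul]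
        by_cases h : ε = ε'
        · subst h
          rw [if_pos rfl, mul_one, psi_C, Algebra.TensorProduct.tmul_mul_tmul, mul_one, one_mul,
            Pi.single_eq_same]
        · rw [if_neg h, mul_zero, map_zero, mul_zero, Pi.single_eq_of_ne (Ne.symm h)]
    | add x y hx hy =>
      obtain ⟨q1, h1, h1'⟩ := hx
      obtain ⟨q2, h2, h2'⟩ := hy
      exact ⟨q1 + q2, by rw [map_add, map_add, add_mul, h1, h2],
        by rw [map_add, h1', h2', Pi.single_add]⟩
  have key3 : ∀ c : (σ → Fin p) → BaseChange p A B,
      ∃ q : BaseChange p (MvPolynomial σ A) B,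
        relFrob p (MvPolynomial σ A) B q = L c ∧ G p A B σ bas halg q = c := by
    intro c
    choose q hq1 hq2 using fun ε => key2 ε (c ε)
    refine ⟨∑ ε, q ε, ?_, ?_⟩
    · rw [map_sum, hL]
      exact Finset.sum_congr rfl fun ε _ => hq1 ε
    · rw [map_sum]
      simp only [hq2]
      exact Finset.univ_sum_single c
  have hbij : Function.Bijective L := by
    constructor
    · intro c c' h
      obtain ⟨q, hq1, hq2⟩ := key3 c
      obtain ⟨q', hq1', hq2'⟩ := key3 c'
      have : q = q' := hFP.1 (by rw [hq1, hq1', h])
      rw [← hq2, ← hq2', this]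
    · intro b
      obtain ⟨q, rfl⟩ := hFP.2 b
      exact ⟨_, key1 q⟩
  refine ⟨Module.Basis.ofEquivFun (LinearEquiv.ofBijective L hbij).symm, fun ε => ?_⟩
  rw [Module.Basis.coe_ofEquivFun]
  simp only [LinearEquiv.symm_symm, LinearEquiv.ofBijective_apply]
  simp [L, mm]

end main

end Groth.Agent.Lib.Seat88.RelFrobCoord
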