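import Mathlib
import Groth.Prelude.Def_FrobAlg
import Groth.Agent.Lib.Helper6FrobEtale
import Groth.Agent.Lib.Seat88RelFrobCoord

/-!
# The relative Frobenius of a smooth algebra is flat

Reduction of the smooth case to the case of étale coordinates (`Seat88RelFrobCoord`), by
localisation on the target.
-/

set_option autoImplicit false
set_option linter.unusedSectionVars false
set_option linter.style.haveILetI false
universe u v w

namespace Groth.Agent.Lib.Seat88.RelFrobSmooth

open TensorProduct FrobAlg
open Groth.Agent.Lib.Helper6.FrobEtale (relFrob_tmul)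
open Groth.Agent.Lib.Seat88

variable (p : ℕ) [Fact p.Prime] (A : Type u) [CommRing A] [CharP A p]
  (B : Type v) [CommRing B] [Algebra A B] [CharP B p]

/-- naturality of the relative Frobenius -/
theorem relFrob_natural (B₁ : Type w) [CommRing B₁] [Algebra A B₁] [CharP B₁ p] (g : B →ₐ[A] B₁) :
    (relFrob p A B₁).comp
        ((Algebra.TensorProduct.map g (AlgHom.id A (Twist p A))) :
          BaseChange p A B →+* BaseChange p A B₁) =
      (g : B →+* B₁).comp (relFrob p A B) := by
  apply RingHom.ext
  intro z
  induction z using TensorProduct.induction_on with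
  | zero => simp
  | tmul b a =>
    simp only [RingHom.comp_apply, RingHom.coe_coe, Algebra.TensorProduct.map_tmul,
      AlgHom.coe_id, id_eq, relFrob_tmul, map_mul, map_pow, AlgHom.commutes]
  | add x y hx hy => rw [map_add, map_add, hx, hy]

/-- the relative Frobenius of an algebra with étale coordinates is flat -/
theorem flat_of_etale_coords (n : ℕ) (g : MvPolynomial (Fin n) A →ₐ[A] B)
    (hg : (g : MvPolynomial (Fin n) A →+* B).Etale) : (relFrob p A B).Flat := by
  letI : Algebra (MvPolynomial (Fin n) A) B := (g : MvPolynomial (Fin n) A →+* B).toAlgebra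
  haveI : IsScalarTower A (MvPolynomial (Fin n) A) B :=
    IsScalarTower.of_algebraMap_eq' g.comp_algebraMap.symm
  haveI : Algebra.Etale (MvPolynomial (Fin n) A) B := hg
  obtain ⟨b, -⟩ := RelFrobCoord.exists_basis p A B (Fin n)
  letI : Algebra (BaseChange p A B) B := (relFrob p A B).toAlgebra
  haveI : Module.Free (BaseChange p A B) B := Module.Free.of_basis b
  change Module.Flat (BaseChange p A B) B
  infer_instance

/-- the relative Frobenius of a standard smooth algebra is flat -/
theorem flat_of_isStandardSmooth [Algebra.IsStandardSmooth A B] : (relFrob p A B).Flat := by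
  obtain ⟨ι, σ, hσ, hι, ⟨P⟩⟩ := Algebra.IsStandardSmooth.out (R := A) (S := B)
  haveI : Algebra.IsStandardSmoothOfRelativeDimension P.dimension A B := ⟨_, _, _, hι, P, rfl⟩
  obtain ⟨g, hg⟩ :=
    Algebra.IsStandardSmoothOfRelativeDimension.exists_etale_mvPolynomial P.dimension A B
  exact flat_of_etale_coords p A B _ g hg

/-- the base change of a localisation map to the Frobenius twists is flat -/
theorem flat_map_of_isLocalization (x : B) (B₁ : Type w) [CommRing B₁] [Algebra B B₁] [Algebra A B₁]
    [IsScalarTower A B B₁] [IsLocalization.Away x B₁] :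
    ((Algebra.TensorProduct.map (IsScalarTower.toAlgHom A B B₁) (AlgHom.id A (Twist p A))) :
          BaseChange p A B →+* BaseChange p A B₁).Flat := by
  let G : BaseChange p A B →ₐ[A] BaseChange p A B₁ :=
    Algebra.TensorProduct.map (IsScalarTower.toAlgHom A B B₁) (AlgHom.id A (Twist p A))
  letI : Algebra (BaseChange p A B) (BaseChange p A B₁) := (G : _ →+* _).toAlgebra
  haveI : IsScalarTower B (BaseChange p A B) (BaseChange p A B₁) :=
    IsScalarTower.of_algebraMap_eq (fun b => by
      change _ = G (b ⊗ₜ 1)
      simp [G])
  have hloc := IsLocalization.tensorProduct_tensorProduct A (Twist p A) (Submonoid.powers x) B₁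
    (by
      ext a
      change G ((1 : B) ⊗ₜ a) = _
      simp [G])
  change Module.Flat (BaseChange p A B) (BaseChange p A B₁)
  exact IsLocalization.flat _ (Algebra.algebraMapSubmonoid (BaseChange p A B) (Submonoid.powers x))

/-- flatness of the relative Frobenius of a localisation gives flatness of the composite -/
theorem flat_comp_of_isLocalization (x : B) (B₁ : Type w) [CommRing B₁] [Algebra B B₁]
    [Algebra A B₁] [IsScalarTower A B B₁] [IsLocalization.Away x B₁] [CharP B₁ p]
    (h : (relFrob p A B₁).Flat) : ((algebraMap B B₁).comp (relFrob p A B)).Flat := by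
  have hnat := relFrob_natural p A B B₁ (IsScalarTower.toAlgHom A B B₁)
  have h2 : ((IsScalarTower.toAlgHom A B B₁ : B →ₐ[A] B₁) : B →+* B₁) = algebraMap B B₁ := rfl
  rw [h2] at hnat
  rw [← hnat]
  exact RingHom.Flat.comp (flat_map_of_isLocalization p A B x B₁) h

/-- **The relative Frobenius of a smooth algebra is flat.** -/
theorem flat_relFrob_of_smooth [Algebra.Smooth A B] : (relFrob p A B).Flat := by
  have hp : p.Prime := Fact.out
  obtain ⟨s, hs, h⟩ := Algebra.Smooth.exists_span_eq_top_isStandardSmooth A B
  letI algRB : Algebra (BaseChange p A B) B := (relFrob p A B).toAlgebra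
  change Module.Flat (BaseChange p A B) B
  refine Module.flat_of_isLocalized_span B B s hs (fun r => Localization.Away r.1)
    (fun r => Algebra.linearMap B (Localization.Away r.1)) ?_
  rintro ⟨x, hx⟩
  change Module.Flat (BaseChange p A B) (Localization.Away x)
  rcases subsingleton_or_nontrivial (Localization.Away x) with hsub | hnt
  · infer_instance
  · haveI := h x hx
    have hp0 : ((p : ℕ) : Localization.Away x) = 0 := by
      have : ((p : ℕ) : Localization.Away x) = algebraMap B (Localization.Away x) ((p : ℕ) : B) :=
        (map_natCast _ p).symm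
      rw [this, CharP.cast_eq_zero, map_zero]
    haveI : CharP (Localization.Away x) p := (CharP.charP_iff_prime_eq_zero hp).mpr hp0
    have h1 := flat_comp_of_isLocalization p A B x (Localization.Away x)
      (flat_of_isStandardSmooth p A (Localization.Away x))
    have h3 : algebraMap (BaseChange p A B) (Localization.Away x) =
        (algebraMap B (Localization.Away x)).comp (relFrob p A B) :=
      IsScalarTower.algebraMap_eq (BaseChange p A B) B (Localization.Away x)
    rw [← h3] at h1
    exact RingHom.flat_algebraMap_iff.mp h1

end Groth.Agent.Lib.Seat88.RelFrobSmooth
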