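import Mathlib
import Groth.Prelude.Def_Frob
import Groth.Prelude.Def_FrobAlg
import Groth.Agent.Lib.Helper6FrobEtale
import Groth.Agent.Lib.Seat88RelFrobSmooth

/-!
# Seat7RelFrobFlat: the relative Frobenius of a smooth morphism of schemes is flat

* `relFrob_naturality`: naturality of `FrobSch.relFrob` in the arrow `f`;
* `frob_Spec`: the absolute Frobenius of `Spec A` is `Spec.map` of the Frobenius of `A`;
* `relFrob_Spec`: the relative Frobenius of `Spec B ⟶ Spec A` is `Spec.map` of the ring-level relative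
  Frobenius `FrobAlg.relFrob`, followed by the canonical isomorphism onto the Frobenius twist;
* `flat_relFrob_of_smooth`: `Flat (FrobSch.relFrob f p)` for `f` smooth.
-/

set_option autoImplicit false
universe u
open CategoryTheory CategoryTheory.Limits AlgebraicGeometry FrobSch TensorProduct

namespace Groth.Agent.Lib.Seat7.RelFrobFlat

variable (p : ℕ) [Fact p.Prime]

/-- naturality of the relative Frobenius. -/
theorem relFrob_naturality {X S X' S' : Scheme.{u}} [IsCharP S p] [IsCharP S' p]
    (f : X ⟶ S) (f' : X' ⟶ S') (a : X' ⟶ X) (b : S' ⟶ S) (w : f' ≫ b = a ≫ f) :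
    relFrob f' p ≫ pullback.map f' (frob S' p) f (frob S p) a b b w (frob_comp p b) =
      a ≫ relFrob f p := by
  haveI : IsCharP X p := IsCharP.of_hom f p
  haveI : IsCharP X' p := IsCharP.of_hom f' p
  apply pullback.hom_ext
  · simp only [Category.assoc, pullback.lift_fst, relFrob_fst_assoc, relFrob_fst]
    exact frob_comp p a
  · simp only [Category.assoc, pullback.lift_snd, relFrob_snd_assoc, relFrob_snd, w]

section Affine

variable (A : Type u) [CommRing A] [CharP A p]

/-- the absolute Frobenius of `Spec A`. -/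
theorem frob_Spec :
    frob (Spec (CommRingCat.of A)) p = Spec.map (CommRingCat.ofHom (frobenius A p)) := by
  apply ext_of_isAffine
  rw [← cancel_epi (Scheme.ΓSpecIso (CommRingCat.of A)).inv, ← Scheme.ΓSpecIso_inv_naturality]
  ext a
  simp only [CommRingCat.hom_comp, RingHom.coe_comp, Function.comp_apply, CommRingCat.hom_ofHom,
    frobenius_def]
  rw [frob_appTop, map_pow]

variable (B : Type u) [CommRing B] [Algebra A B] [CharP B p]

/-- the cartesian square exhibiting `Spec (B ⊗[A] Twist p A)` as the Frobenius twist of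
`Spec B ⟶ Spec A`. -/
theorem isPullback_twist :
    IsPullback
      (Spec.map (CommRingCat.ofHom (S := FrobAlg.BaseChange p A B)
        (Algebra.TensorProduct.includeLeftRingHom : B →+* B ⊗[A] FrobAlg.Twist p A)))
      (Spec.map (CommRingCat.ofHom (S := FrobAlg.BaseChange p A B)
        ((Algebra.TensorProduct.includeRight : FrobAlg.Twist p A →ₐ[A] B ⊗[A] FrobAlg.Twist p A).toRingHom.comp
          (FrobAlg.toTwist p A : A →+* FrobAlg.Twist p A))))
      (Spec.map (CommRingCat.ofHom (algebraMap A B)))
      (frob (Spec (CommRingCat.of A)) p) := by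
  rw [frob_Spec]
  exact isPullback_SpecMap_of_isPushout _ _ _ _
    (CommRingCat.isPushout_tensorProduct A B (FrobAlg.Twist p A))

/-- the relative Frobenius of `Spec B ⟶ Spec A` is `Spec` of the ring-level relative Frobenius. -/
theorem relFrob_Spec :
    relFrob (Spec.map (CommRingCat.ofHom (algebraMap A B))) p =
      Spec.map (CommRingCat.ofHom (FrobAlg.relFrob p A B)) ≫
        (isPullback_twist p A B).isoPullback.hom := by
  apply pullback.hom_ext
  · rw [relFrob_fst, Category.assoc, IsPullback.isoPullback_hom_fst, ← Spec.map_comp, frob_Spec]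
    congr 1
    ext b
    simp only [CommRingCat.hom_ofHom, CommRingCat.hom_comp, RingHom.coe_comp, Function.comp_apply,
      Algebra.TensorProduct.includeLeftRingHom_apply, frobenius_def]
    rw [Groth.Agent.Lib.Helper6.FrobEtale.relFrob_tmul]
    simp
  · rw [relFrob_snd, Category.assoc, IsPullback.isoPullback_hom_snd, ← Spec.map_comp]
    congr 1
    ext a
    simp only [CommRingCat.hom_ofHom, CommRingCat.hom_comp, RingHom.coe_comp, Function.comp_apply,
      AlgHom.toRingHom_eq_coe, RingHom.coe_coe, Algebra.TensorProduct.includeRight_apply]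
    rw [Groth.Agent.Lib.Helper6.FrobEtale.relFrob_tmul]
    simp

/-- affine case: the relative Frobenius of `Spec B ⟶ Spec A`, `B` smooth over `A`, is flat. -/
theorem flat_relFrob_Spec [Algebra.Smooth A B] :
    Flat (relFrob (Spec.map (CommRingCat.ofHom (algebraMap A B))) p) := by
  rw [relFrob_Spec]
  have h : Flat (Spec.map (CommRingCat.ofHom (FrobAlg.relFrob p A B))) := by
    rw [HasRingHomProperty.Spec_iff (P := @Flat)]
    exact Groth.Agent.Lib.Seat88.RelFrobSmooth.flat_relFrob_of_smooth p A B
  infer_instance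

end Affine

section General

/-- **the relative Frobenius of a smooth morphism is flat.** -/
theorem flat_relFrob_of_smooth {X S : Scheme.{u}} [IsCharP S p] (f : X ⟶ S) [Smooth f] :
    Flat (relFrob f p) := by
  have hp : p.Prime := Fact.out
  haveI : IsCharP X p := IsCharP.of_hom f p
  have key : ∀ x : X, ∃ U : X.Opens, x ∈ U ∧ Flat (Scheme.Opens.ι U ≫ relFrob f p) := by
    intro x
    obtain ⟨V, hV, hxV, -⟩ := TopologicalSpace.Opens.isBasis_iff_nbhd.mp S.isBasis_affineOpens
      (TopologicalSpace.Opens.mem_top (f x))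
    obtain ⟨U, hU, hxU, hUV⟩ := TopologicalSpace.Opens.isBasis_iff_nbhd.mp X.isBasis_affineOpens
      (show x ∈ f ⁻¹ᵁ V from hxV)
    refine ⟨U, hxU, ?_⟩
    haveI : Nonempty V := ⟨⟨f x, hxV⟩⟩
    haveI : Nonempty U := ⟨⟨x, hxU⟩⟩
    haveI : Nontrivial Γ(S, V) := Scheme.component_nontrivial S V
    haveI : Nontrivial Γ(X, U) := Scheme.component_nontrivial X U
    haveI : CharP Γ(S, V) p := (CharP.charP_iff_prime_eq_zero hp).mpr (natCast_eq_zero_app S p V)
    haveI : CharP Γ(X, U) p := (CharP.charP_iff_prime_eq_zero hp).mpr (natCast_eq_zero_app X p U)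
    have hsm : (f.appLE V U hUV).hom.Smooth :=
      (HasRingHomProperty.iff_appLE (P := @Smooth)).1 inferInstance ⟨V, hV⟩ ⟨U, hU⟩ hUV
    letI : Algebra Γ(S, V) Γ(X, U) := (f.appLE V U hUV).hom.toAlgebra
    haveI : Algebra.Smooth Γ(S, V) Γ(X, U) := hsm
    have haff := flat_relFrob_Spec p Γ(S, V) Γ(X, U)
    have hsq : Spec.map (f.appLE V U hUV) ≫ hV.fromSpec = hU.fromSpec ≫ f :=
      IsAffineOpen.SpecMap_appLE_fromSpec f hV hU hUV
    haveI : IsCharP (Spec Γ(S, V)) p := IsCharP.of_hom hV.fromSpec p
    have nat := relFrob_naturality p f (Spec.map (f.appLE V U hUV)) hU.fromSpec hV.fromSpec hsq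
    have h1 : Scheme.Opens.ι U ≫ relFrob f p = hU.isoSpec.hom ≫ relFrob (Spec.map (f.appLE V U hUV)) p ≫
        pullback.map (Spec.map (f.appLE V U hUV)) (frob (Spec Γ(S, V)) p) f (frob S p)
          hU.fromSpec hV.fromSpec hV.fromSpec hsq (frob_comp p hV.fromSpec) := by
      rw [nat, ← Category.assoc, IsAffineOpen.isoSpec_hom_fromSpec]
    rw [h1]
    haveI : Flat (relFrob (Spec.map (f.appLE V U hUV)) p) := haff
    infer_instance
  choose U hxU hU using key
  exact IsZariskiLocalAtSource.of_iSup_eq_top (P := @Flat) U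
    (eq_top_iff.2 fun x _ => TopologicalSpace.Opens.mem_iSup.2 ⟨x, hxU x⟩) hU

end General

end Groth.Agent.Lib.Seat7.RelFrobFlat
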