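import Mathlib
import Groth.Agent.Lib.Seat7FibDict

/-!
# Fibre dictionary, stalk form (Seat 7)

`A → B`, `q` a prime of `B` over `p`, `C` a `B`-algebra which is the localization of `B` at `q`
(e.g. a stalk of the structure sheaf).  Then `C ⧸ pC` is the localization at `q` of the fibre module
`B ⊗[A] κ(p)`; hence weak regularity of a sequence of `B` on `C ⧸ pC` gives the hypothesis of
helper56's `S2586` / `Seat7Spread`.
-/

set_option autoImplicit false
set_option linter.style.haveILetI false

universe u

namespace Groth.Agent.Lib.Seat7.StalkDict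

open TensorProduct RingTheory.Sequence

variable {A B : Type u} [CommRing A] [CommRing B] [Algebra A B]

/-- elements of `pB` die in the fibre ring. -/
theorem tmul_one_eq_zero_of_mem (p : Ideal A) [p.IsPrime] (y : B)
    (hy : y ∈ p.map (algebraMap A B)) : (y ⊗ₜ[A] (1 : p.ResidueField)) = 0 := by
  have hle : p.map (algebraMap A B) ≤
      RingHom.ker (Algebra.TensorProduct.includeLeft (R := A) (S := A) (A := B)
        (B := p.ResidueField)).toRingHom := by
    rw [Ideal.map_le_iff_le_comap]
    intro a ha
    rw [Ideal.mem_comap, RingHom.mem_ker]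
    change (algebraMap A B a ⊗ₜ[A] (1 : p.ResidueField)) = 0
    rw [Algebra.algebraMap_eq_smul_one, TensorProduct.smul_tmul, ← Algebra.algebraMap_eq_smul_one,
      (Ideal.algebraMap_residueField_eq_zero).mpr ha, TensorProduct.tmul_zero]
  exact hle hy

variable (C : Type u) [CommRing C] [Algebra B C] [Algebra A C] [IsScalarTower A B C]
  (q : Ideal B) [q.IsPrime] [IsLocalization.AtPrime C q]

/-- the comparison map `B ⊗[A] κ(p) → C ⧸ pC`. -/
noncomputable def fibreToQuot :
    B ⊗[A] (q.comap (algebraMap A B)).ResidueField →ₐ[B]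
      (C ⧸ (q.comap (algebraMap A B)).map (algebraMap A C)) :=
  Algebra.TensorProduct.lift (Algebra.ofId B _)
    (Ideal.ResidueField.liftₐ (q.comap (algebraMap A B))
      (IsScalarTower.toAlgHom A A (C ⧸ (q.comap (algebraMap A B)).map (algebraMap A C)))
      (by
        intro a ha
        rw [RingHom.mem_ker]
        change algebraMap A (C ⧸ _) a = 0
        rw [IsScalarTower.algebraMap_apply A C (C ⧸ _), Ideal.Quotient.algebraMap_eq,
          Ideal.Quotient.eq_zero_iff_mem]
        exact Ideal.mem_map_of_mem _ ha)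
      (by
        intro a ha
        change IsUnit (algebraMap A (C ⧸ _) a)
        rw [IsScalarTower.algebraMap_apply A C (C ⧸ _)]
        apply IsUnit.map
        rw [IsScalarTower.algebraMap_apply A B C]
        exact IsLocalization.map_units C (⟨algebraMap A B a, ha⟩ : q.primeCompl)))
    (fun _ _ => Commute.all _ _)

theorem fibreToQuot_tmul_one (b : B) :
    fibreToQuot C q (b ⊗ₜ 1) =
      Ideal.Quotient.mk ((q.comap (algebraMap A B)).map (algebraMap A C)) (algebraMap B C b) := by
  rw [fibreToQuot, Algebra.TensorProduct.lift_tmul, map_one, mul_one, Algebra.ofId_apply,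
    IsScalarTower.algebraMap_apply B C (C ⧸ _), Ideal.Quotient.algebraMap_eq]

/-- `C ⧸ pC` is the localization at `q` of the fibre module `B ⊗[A] κ(p)`. -/
theorem isLocalizedModule_fibreToQuot :
    IsLocalizedModule q.primeCompl (fibreToQuot (A := A) C q).toLinearMap := by
  set p := q.comap (algebraMap A B) with hp
  set D := C ⧸ p.map (algebraMap A C) with hD
  have hunit : ∀ s ∈ q.primeCompl, IsUnit (algebraMap B D s) := by
    intro s hs
    rw [IsScalarTower.algebraMap_apply B C D]
    exact (IsLocalization.map_units C (⟨s, hs⟩ : q.primeCompl)).map _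
  refine ⟨?_, ?_, ?_⟩
  · -- units
    intro s
    rw [Module.End.isUnit_iff]
    obtain ⟨u, hu⟩ := hunit s.1 s.2
    constructor
    · intro x y hxy
      have h1 : algebraMap B D s.1 * x = algebraMap B D s.1 * y := by
        simpa [Algebra.smul_def] using hxy
      rw [← hu] at h1
      exact (Units.mul_right_inj u).mp h1
    · intro y
      refine ⟨↑u⁻¹ * y, ?_⟩
      change (s : B) • (↑u⁻¹ * y) = y
      rw [Algebra.smul_def, ← hu, ← mul_assoc, Units.mul_inv, one_mul]
  · -- surjectivity up to denominators
    intro y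
    obtain ⟨c, rfl⟩ := Ideal.Quotient.mk_surjective y
    obtain ⟨⟨b, s⟩, hbs⟩ := IsLocalization.surj q.primeCompl c
    refine ⟨⟨b ⊗ₜ[A] (1 : p.ResidueField), s⟩, ?_⟩
    change (s : B) • (Ideal.Quotient.mk _ c) = fibreToQuot (A := A) C q (b ⊗ₜ[A] 1)
    rw [fibreToQuot_tmul_one, ← hbs, Algebra.smul_def, IsScalarTower.algebraMap_apply B C D,
      Ideal.Quotient.algebraMap_eq, ← map_mul, mul_comm]
  · -- kernel
    intro x₁ x₂ h
    have h0 : fibreToQuot (A := A) C q (x₁ - x₂) = 0 := by
      rw [map_sub]; exact sub_eq_zero.mpr h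
    obtain ⟨r, hr, b, hrb⟩ := Ideal.ResidueField.exists_smul_eq_tmul_one p (x₁ - x₂)
    have h1 : fibreToQuot (A := A) C q (b ⊗ₜ[A] 1) = 0 := by
      rw [← hrb, ← algebraMap_smul B r (x₁ - x₂), map_smul, h0, smul_zero]
    rw [fibreToQuot_tmul_one, Ideal.Quotient.eq_zero_iff_mem] at h1
    have h2 : p.map (algebraMap A C) = (p.map (algebraMap A B)).map (algebraMap B C) := by
      rw [Ideal.map_map, ← IsScalarTower.algebraMap_eq]
    rw [h2, IsLocalization.mem_map_algebraMap_iff q.primeCompl] at h1
    obtain ⟨⟨⟨a, ha⟩, m⟩, h3⟩ := h1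
    rw [← map_mul] at h3
    obtain ⟨c, hc⟩ := (IsLocalization.eq_iff_exists q.primeCompl C).mp h3
    have h4 : ((c : B) * m) * b ∈ p.map (algebraMap A B) := by
      have : ((c : B) * m) * b = c * (b * m) := by ring
      rw [this, hc]
      exact Ideal.mul_mem_left _ _ ha
    have h5 := tmul_one_eq_zero_of_mem p _ h4
    have hrq : algebraMap A B r ∈ q.primeCompl := hr
    refine ⟨(c * m) * ⟨algebraMap A B r, hrq⟩, ?_⟩
    rw [← sub_eq_zero, ← smul_sub]
    change (((c : B) * m) * algebraMap A B r) • (x₁ - x₂) = 0
    rw [mul_smul, algebraMap_smul, hrb, TensorProduct.smul_tmul', smul_eq_mul]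
    exact h5

/-- **Stalk form of the fibre dictionary**: weak regularity on `C ⧸ pC` gives weak regularity on the
localized fibre module. -/
theorem isWeaklyRegular_fibre_of_quotient (g : List B)
    (h : IsWeaklyRegular (C ⧸ (q.comap (algebraMap A B)).map (algebraMap A C))
      (g.map (algebraMap B (C ⧸ (q.comap (algebraMap A B)).map (algebraMap A C))))) :
    IsWeaklyRegular
      (LocalizedModule q.primeCompl (B ⊗[A] (q.comap (algebraMap A B)).ResidueField)) g := by
  haveI := isLocalizedModule_fibreToQuot (A := A) C q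
  let e := IsLocalizedModule.iso q.primeCompl (fibreToQuot (A := A) C q).toLinearMap
  rw [e.isWeaklyRegular_congr]
  exact (isWeaklyRegular_map_algebraMap_iff _ _ g).mp h

/-- variant with the ideal `pC` given up to equality and the sequence given by its germs. -/
theorem isWeaklyRegular_fibre_of_quotient' (g : List B) (J : Ideal C)
    (hJ : J = (q.comap (algebraMap A B)).map (algebraMap A C))
    (h : IsWeaklyRegular (C ⧸ J) ((g.map (algebraMap B C)).map (Ideal.Quotient.mk J))) :
    IsWeaklyRegular
      (LocalizedModule q.primeCompl (B ⊗[A] (q.comap (algebraMap A B)).ResidueField)) g := by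
  subst hJ
  apply isWeaklyRegular_fibre_of_quotient C q g
  rw [List.map_map] at h
  exact h

end Groth.Agent.Lib.Seat7.StalkDict
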