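import Mathlib
import Groth.Agent.Lib.Seat7TransRegSpec
import Groth.Agent.Lib.Seat7StalkDict
import Groth.Agent.Lib.Seat7SpreadRing
import Groth.Agent.Lib.Seat31LciBridge

/-!
# Transversally regular sequences from fibrewise regular germs (Seat 7)

`exists_transRegular_lift`: `f : X ⟶ S` locally of finite presentation and flat at `x`, `hs` germs at
`x` whose images in `O_{X,x} / m_s O_{X,x}` form a regular sequence.  Then on an affine open
neighbourhood `U` of `x` (mapping into an affine open `V` of `S`) there are sections with these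
germs forming a sequence transversally regular relative to `Γ(S, V)`.
-/

set_option autoImplicit false
set_option linter.style.haveILetI false
universe u

namespace Groth.Agent.Lib.Seat7.TransRegLocal

open CategoryTheory CategoryTheory.Limits AlgebraicGeometry TensorProduct

/-- lifting finitely many germs to sections over an affine open inside a given open. -/
theorem exists_affine_lift_le (W : Scheme.{u}) (x : W) (U₀ : W.Opens) (hx₀ : x ∈ U₀)
    (rs : List (W.presheaf.stalk x)) :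
    ∃ (U : W.Opens) (_ : IsAffineOpen U) (hx : x ∈ U) (_ : U ≤ U₀) (as : List Γ(W, U)),
      as.map (W.presheaf.germ U x hx).hom = rs := by
  induction rs with
  | nil =>
    obtain ⟨U, hU, hx, hle⟩ := exists_isAffineOpen_mem_and_subset (x := x) (U := U₀) hx₀
    exact ⟨U, hU, hx, hle, [], rfl⟩
  | cons r rs ih =>
    obtain ⟨U₁, hU₁, hx₁, hle₁₀, as₁, h₁⟩ := ih
    obtain ⟨U₂, hle, hx₂, s, hs⟩ := W.presheaf.exists_le_germ_eq r hx₁
    obtain ⟨U, hU, hx, hsub⟩ := exists_isAffineOpen_mem_and_subset hx₂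
    have hle₂ : U ≤ U₂ := hsub
    have hle₁ : U ≤ U₁ := hle₂.trans hle
    refine ⟨U, hU, hx, hle₁.trans hle₁₀, (W.presheaf.map (homOfLE hle₂).op).hom s ::
      as₁.map (W.presheaf.map (homOfLE hle₁).op).hom, ?_⟩
    rw [List.map_cons, List.map_map, ← h₁]
    congr 1
    · rw [← hs]
      exact W.presheaf.germ_res_apply (homOfLE hle₂) x hx s
    · apply List.map_congr_left
      intro a _
      exact W.presheaf.germ_res_apply (homOfLE hle₁) x hx a

variable {X S : Scheme.{u}}

/-- affine-local core -/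
theorem core (f : X ⟶ S) [LocallyOfFinitePresentation f] {V : S.Opens} (hV : IsAffineOpen V)
    {U₁ : X.Opens} (hU₁ : IsAffineOpen U₁) (e₁ : U₁ ≤ f ⁻¹ᵁ V) (x : X) (hx₁ : x ∈ U₁)
    (hflat : (f.stalkMap x).hom.Flat) (g₁ : List Γ(X, U₁))
    (hreg : RingTheory.Sequence.IsRegular
      (↑(X.presheaf.stalk x) ⧸ Ideal.map (f.stalkMap x).hom
        (IsLocalRing.maximalIdeal ↑(S.presheaf.stalk (f x))))
      ((g₁.map (X.presheaf.germ U₁ x hx₁).hom).map (Ideal.Quotient.mk (Ideal.map (f.stalkMap x).hom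
        (IsLocalRing.maximalIdeal ↑(S.presheaf.stalk (f x))))))) :
    ∃ (h : Γ(X, U₁)) (hxh : x ∈ X.basicOpen h),
      @RegImm.IsTransRegularSeq Γ(S, V) Γ(X, X.basicOpen h) _ _
        (f.appLE V (X.basicOpen h) ((X.basicOpen_le h).trans e₁)).hom.toAlgebra
        (g₁.map (X.presheaf.map (homOfLE (X.basicOpen_le h)).op).hom) ∧
      ∀ r ∈ g₁, r ∈ (hU₁.primeIdealOf ⟨x, hx₁⟩).asIdeal := by
  letI algAB : Algebra Γ(S, V) Γ(X, U₁) := (f.appLE V U₁ e₁).hom.toAlgebra
  haveI hfp : Algebra.FinitePresentation Γ(S, V) Γ(X, U₁) :=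
    HasRingHomProperty.appLE (P := @LocallyOfFinitePresentation) f inferInstance
      ⟨V, hV⟩ ⟨U₁, hU₁⟩ e₁
  let x₁ : U₁ := ⟨x, hx₁⟩
  set q : Ideal Γ(X, U₁) := (hU₁.primeIdealOf x₁).asIdeal with hq
  haveI : q.IsPrime := (hU₁.primeIdealOf x₁).isPrime
  letI algBC : Algebra Γ(X, U₁) (X.presheaf.stalk x) :=
    TopCat.Presheaf.algebra_section_stalk X.presheaf x₁
  haveI hloc : IsLocalization.AtPrime (X.presheaf.stalk x) q := hU₁.isLocalization_stalk x₁
  letI algAC : Algebra Γ(S, V) (X.presheaf.stalk x) :=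
    ((X.presheaf.germ U₁ x hx₁).hom.comp (f.appLE V U₁ e₁).hom).toAlgebra
  haveI : IsScalarTower Γ(S, V) Γ(X, U₁) (X.presheaf.stalk x) :=
    IsScalarTower.of_algebraMap_eq' rfl
  have hfxV : f x ∈ V := e₁ hx₁
  -- the comparison of the two routes `Γ(S,V) → O_{X,x}`
  have hcomp : (X.presheaf.germ U₁ x hx₁).hom.comp (f.appLE V U₁ e₁).hom =
      (f.stalkMap x).hom.comp (S.presheaf.germ V (f x) hfxV).hom := by
    ext a
    simp only [RingHom.coe_comp, Function.comp_apply]
    rw [Scheme.Hom.germ_stalkMap_apply]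
    simp only [Scheme.Hom.appLE, CommRingCat.hom_comp, RingHom.coe_comp, Function.comp_apply]
    exact X.presheaf.germ_res_apply _ x hx₁ _
  -- flatness of `O_{X,x}` over `Γ(S, V)`
  have hAC : Module.Flat Γ(S, V) (X.presheaf.stalk x) := by
    change (algebraMap Γ(S, V) (X.presheaf.stalk x)).Flat
    have h1 : algebraMap Γ(S, V) (X.presheaf.stalk x) =
        (f.stalkMap x).hom.comp (S.presheaf.germ V (f x) hfxV).hom := hcomp
    rw [h1]
    refine RingHom.Flat.comp ?_ hflat
    letI : Algebra Γ(S, V) (S.presheaf.stalk (f x)) :=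
      TopCat.Presheaf.algebra_section_stalk S.presheaf ⟨f x, hfxV⟩
    haveI : IsLocalization.AtPrime (S.presheaf.stalk (f x))
        (hV.primeIdealOf ⟨f x, hfxV⟩).asIdeal := hV.isLocalization_stalk ⟨f x, hfxV⟩
    exact (IsLocalization.flat (S.presheaf.stalk (f x))
      (hV.primeIdealOf ⟨f x, hfxV⟩).asIdeal.primeCompl : Module.Flat Γ(S, V) _)
  have hflatA : Module.Flat Γ(S, V) (LocalizedModule q.primeCompl Γ(X, U₁)) := by
    haveI : IsLocalizedModule q.primeCompl (Algebra.linearMap Γ(X, U₁) (X.presheaf.stalk x)) :=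
      (isLocalizedModule_iff_isLocalization' q.primeCompl _).mpr hloc
    let e : LocalizedModule q.primeCompl Γ(X, U₁) ≃ₗ[Γ(X, U₁)] X.presheaf.stalk x :=
      IsLocalizedModule.iso q.primeCompl (Algebra.linearMap Γ(X, U₁) (X.presheaf.stalk x))
    exact Module.Flat.of_linearEquiv (e.restrictScalars Γ(S, V))
  -- the ideal `m_s O_{X,x}`
  have hp : q.comap (algebraMap Γ(S, V) Γ(X, U₁)) = (hV.primeIdealOf ⟨f x, hfxV⟩).asIdeal :=
    congr($(IsAffineOpen.comap_primeIdealOf_appLE V hV U₁ hU₁ e₁ hx₁).1)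
  have hJ : Ideal.map (f.stalkMap x).hom (IsLocalRing.maximalIdeal ↑(S.presheaf.stalk (f x))) =
      (q.comap (algebraMap Γ(S, V) Γ(X, U₁))).map (algebraMap Γ(S, V) (X.presheaf.stalk x)) := by
    letI : Algebra Γ(S, V) (S.presheaf.stalk (f x)) :=
      TopCat.Presheaf.algebra_section_stalk S.presheaf ⟨f x, hfxV⟩
    haveI : IsLocalization.AtPrime (S.presheaf.stalk (f x))
        (hV.primeIdealOf ⟨f x, hfxV⟩).asIdeal := hV.isLocalization_stalk ⟨f x, hfxV⟩
    have h1 := IsLocalization.AtPrime.map_eq_maximalIdeal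
      (hV.primeIdealOf ⟨f x, hfxV⟩).asIdeal (S.presheaf.stalk (f x))
    rw [← h1, Ideal.map_map, hp]
    congr 1
    exact hcomp.symm
  have hregW := StalkDict.isWeaklyRegular_fibre_of_quotient' (A := Γ(S, V)) (X.presheaf.stalk x) q g₁
    _ hJ hreg.toIsWeaklyRegular
  obtain ⟨h, hhq, H⟩ := SpreadRing.exists_isWeaklyRegular_isLocalization q g₁ hflatA hregW
  have hxh : x ∈ X.basicOpen h :=
    (Groth.Agent.Lib.Seat31.LciHom.mem_basicOpen_iff_notMem_primeIdealOf hU₁ x hx₁ h).mpr hhq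
  refine ⟨h, hxh, ?_, ?_⟩
  · -- the transversally regular sequence on the basic open
    haveI : IsLocalization.Away h Γ(X, X.basicOpen h) := hU₁.isLocalization_basicOpen h
    letI algAB' : Algebra Γ(S, V) Γ(X, X.basicOpen h) :=
      (f.appLE V (X.basicOpen h) ((X.basicOpen_le h).trans e₁)).hom.toAlgebra
    haveI : IsScalarTower Γ(S, V) Γ(X, U₁) Γ(X, X.basicOpen h) :=
      IsScalarTower.of_algebraMap_eq' (by
        change (f.appLE V (X.basicOpen h) _).hom =
          (X.presheaf.map (homOfLE (X.basicOpen_le h)).op).hom.comp (f.appLE V U₁ e₁).hom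
        rw [← CommRingCat.hom_comp, Scheme.Hom.appLE_map])
    obtain ⟨hW, hF⟩ := H (Submonoid.powers h) Γ(X, X.basicOpen h) (Spread.inverts_powers h)
    refine ⟨hW, fun j hj => ?_⟩
    rw [List.length_map] at hj
    rw [← List.map_take]
    exact hF j hj
  · -- the sections vanish at `x`
    intro r hr
    by_contra hrq
    have hunit : IsUnit (algebraMap Γ(X, U₁) (X.presheaf.stalk x) r) :=
      IsLocalization.map_units (X.presheaf.stalk x) (⟨r, hrq⟩ : q.primeCompl)
    set J := Ideal.map (f.stalkMap x).hom (IsLocalRing.maximalIdeal ↑(S.presheaf.stalk (f x)))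
      with hJdef
    have hunit' : IsUnit (Ideal.Quotient.mk J (algebraMap Γ(X, U₁) (X.presheaf.stalk x) r)) :=
      hunit.map _
    apply hreg.top_ne_smul
    rw [smul_eq_mul, Ideal.mul_top]
    symm
    apply Ideal.eq_top_of_isUnit_mem _ _ hunit'
    apply Ideal.subset_span
    exact List.mem_map_of_mem (List.mem_map_of_mem hr)


/-- **S1459**: fibrewise regular germs at a point where `f` is flat spread out to a transversally
regular closed subscheme of an affine neighbourhood. -/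
theorem main (f : X ⟶ S) [LocallyOfFinitePresentation f] (x : X)
    (hflat : (f.stalkMap x).hom.Flat) (hs : List ↑(X.presheaf.stalk x))
    (hreg : RingTheory.Sequence.IsRegular (↑(X.presheaf.stalk x) ⧸ Ideal.map (f.stalkMap x).hom (IsLocalRing.maximalIdeal ↑(S.presheaf.stalk (f x))))
      (hs.map (Ideal.Quotient.mk (Ideal.map (f.stalkMap x).hom (IsLocalRing.maximalIdeal ↑(S.presheaf.stalk (f x))))))) :
    ∃ (U : X.Opens) (hU : IsAffineOpen U) (hx : x ∈ U) (hs' : List Γ(X, U)), hs'.map (X.presheaf.germ U x hx) = hs ∧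
      Mor2.IsRegularClosedImmersion (Spec.map (CommRingCat.ofHom (Ideal.Quotient.mk (Ideal.ofList hs'))) ≫ hU.isoSpec.inv) ∧
      x ∈ Set.range ⇑(Spec.map (CommRingCat.ofHom (Ideal.Quotient.mk (Ideal.ofList hs'))) ≫ hU.fromSpec) ∧
      Flat (Spec.map (CommRingCat.ofHom (Ideal.Quotient.mk (Ideal.ofList hs'))) ≫ hU.fromSpec ≫ f) ∧ LocallyOfFinitePresentation (Spec.map (CommRingCat.ofHom (Ideal.Quotient.mk (Ideal.ofList hs'))) ≫ hU.fromSpec ≫ f) ∧
      ∀ (S' : Scheme.{u}) (g : S' ⟶ S), Mor2.IsRegularClosedImmersion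
        (pullback.map (Spec.map (CommRingCat.ofHom (Ideal.Quotient.mk (Ideal.ofList hs'))) ≫ hU.isoSpec.inv ≫ U.ι ≫ f) g (U.ι ≫ f) g (Spec.map (CommRingCat.ofHom (Ideal.Quotient.mk (Ideal.ofList hs'))) ≫ hU.isoSpec.inv) (𝟙 S') (𝟙 S)
          (Category.comp_id _) ((Category.comp_id g).trans (Category.id_comp g).symm)) := by
  obtain ⟨V, hV, hfxV, -⟩ := exists_isAffineOpen_mem_and_subset (x := f x) (U := ⊤) trivial
  have hx₀ : x ∈ f ⁻¹ᵁ V := hfxV
  obtain ⟨U₁, hU₁, hx₁, e₁, g₁, hg₁⟩ := exists_affine_lift_le X x (f ⁻¹ᵁ V) hx₀ hs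
  rw [← hg₁] at hreg
  obtain ⟨h, hxh, hTR, hvan⟩ := core f hV hU₁ e₁ x hx₁ hflat g₁ hreg
  have hU : IsAffineOpen (X.basicOpen h) := hU₁.basicOpen h
  have e' : X.basicOpen h ≤ f ⁻¹ᵁ V := (X.basicOpen_le h).trans e₁
  set hs' := g₁.map (X.presheaf.map (homOfLE (X.basicOpen_le h)).op).hom with hhs'
  refine ⟨X.basicOpen h, hU, hxh, hs', ?_, ?_, ?_, ?_, ?_, ?_⟩
  · rw [hhs', List.map_map, ← hg₁]
    apply List.map_congr_left
    intro a _
    exact X.presheaf.germ_res_apply (homOfLE (X.basicOpen_le h)) x hxh a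
  · exact TransRegSpec.isRegularClosedImmersion_subι f hU hV e' hs' hTR
  · apply TransRegSpec.mem_range_subι hU hs' x hxh
    intro r' hr'
    obtain ⟨r, hr, rfl⟩ := List.mem_map.mp hr'
    have h1 := hvan r hr
    by_contra hcon
    have h2 := (Groth.Agent.Lib.Seat31.LciHom.mem_basicOpen_iff_notMem_primeIdealOf hU x hxh _).mpr
      hcon
    rw [Scheme.basicOpen_res] at h2
    exact ((Groth.Agent.Lib.Seat31.LciHom.mem_basicOpen_iff_notMem_primeIdealOf hU₁ x hx₁ r).mp
      h2.2) h1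
  · exact TransRegSpec.flat_subι_comp f hU hV e' hs' hTR
  · exact TransRegSpec.locallyOfFinitePresentation_subι_comp f hU hV e' hs'
  · intro S' g
    exact TransRegSpec.isRegularClosedImmersion_baseChange_subι f hU hV e' hs' hTR g _ _ _

end Groth.Agent.Lib.Seat7.TransRegLocal
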