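import Mathlib
import Groth.Prelude.Def_MoreMor
import Groth.Agent.Lib.Helper2Weight2
import Groth.Agent.Lib.Seat7RadSch

/-!
# Weightings are constructible

For a weighting `w` of a locally quasi-finite morphism `f : X ⟶ Y` and a point `x` of `X` there is a
constructible subset of (an affine) `X` containing `x` on which `w` is constant.  Consequences: on a
quasi-compact `X` the function `w` takes finitely many values, and its level sets are locally
constructible.
-/

set_option autoImplicit false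
universe u

namespace Groth.Agent.Lib.Seat7.WeightCons

open AlgebraicGeometry CategoryTheory Limits Topology IsLocalRing
open Groth.Agent.Lib.Helper2.Weight Groth.Agent.Lib.Seat7.RadSch
open Groth.Agent.Lib.Helper20.ResFld Groth.Agent.Lib.Helper20.EtSections

/-- Radiciality over a point from uniqueness of the point in an open and pure inseparability of
its residue field extension. -/
theorem radOver_of_unique_of_pInsep {P V : Scheme.{u}} (q : P ⟶ V) (S : P.Opens) (v : V) (z : P)
    (huniq : ∀ z' ∈ S, q z' = v → z' = z) (hPI : PInsep (q.residueFieldMap z).hom) :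
    RadOver (S.ι ≫ q) v := by
  intro Ω _ g₁ g₂ h12 hpt
  have hz : ∀ g : Spec (CommRingCat.of Ω) ⟶ (S : Scheme.{u}), (g ≫ S.ι ≫ q) (closedPoint Ω) = v →
      (g ≫ S.ι) (closedPoint Ω) = z := by
    intro g hg
    apply huniq
    · rw [Scheme.Hom.comp_apply]
      have : S.ι (g (closedPoint Ω)) ∈ Set.range S.ι := ⟨_, rfl⟩
      rwa [Scheme.Opens.range_ι] at this
    · rw [← Scheme.Hom.comp_apply, Category.assoc]
      exact hg
  have hpt2 : (g₂ ≫ S.ι ≫ q) (closedPoint Ω) = v := by rw [← h12]; exact hpt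
  obtain ⟨φ₁, hφ₁⟩ := exists_factor (g₁ ≫ S.ι) z (hz g₁ hpt)
  obtain ⟨φ₂, hφ₂⟩ := exists_factor (g₂ ≫ S.ι) z (hz g₂ hpt2)
  have h3 : Spec.map (q.residueFieldMap z ≫ φ₁) ≫ V.fromSpecResidueField (q z) =
      Spec.map (q.residueFieldMap z ≫ φ₂) ≫ V.fromSpecResidueField (q z) := by
    rw [Spec.map_comp, Spec.map_comp, Category.assoc, Category.assoc,
      Scheme.Hom.SpecMap_residueFieldMap_fromSpecResidueField, ← Category.assoc, ← Category.assoc,
      ← hφ₁, ← hφ₂, Category.assoc, Category.assoc, h12]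
  have h4 : q.residueFieldMap z ≫ φ₁ = q.residueFieldMap z ≫ φ₂ :=
    Spec.map_injective ((cancel_mono _).1 h3)
  have h5 : φ₁ = φ₂ := by
    rw [pInsep_iff] at hPI
    letI := (q.residueFieldMap z).hom.toAlgebra
    have := IsPurelyInseparable.injective_comp_algebraMap (V.residueField (q z))
      (P.residueField z) Ω (congrArg CommRingCat.Hom.hom h4)
    exact CommRingCat.hom_ext this
  have h6 : g₁ ≫ S.ι = g₂ ≫ S.ι := by rw [hφ₁, hφ₂, h5]
  exact (cancel_mono S.ι).1 h6

/-- Under radiciality over `v'`, the fibre integral is the value of the function at any point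
over `v'`. -/
theorem fibreIntegral_eq_of_radOver {U V : Scheme.{u}} (π : U ⟶ V) [LocallyQuasiFinite π]
    (w' : U → ℤ) (v' : V) (hfin : (π ⁻¹' {v'}).Finite) (h : RadOver π v') (u : U) (hu : π u = v') :
    MoreMor.fibreIntegral π w' v' = w' u := by
  let Ω := AlgebraicClosure (V.residueField v')
  let a : Spec (CommRingCat.of Ω) ⟶ V := geomPt v'
  have ha : a (closedPoint Ω) = v' := geomPt_apply v' _
  have hfin' : (π ⁻¹' {a (closedPoint Ω)}).Finite := by rw [ha]; exact hfin
  have h1 := fibreIntegral_eq_geom π a w' hfin'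
  rw [ha] at h1
  rw [h1]
  obtain ⟨z₀, hz₀, -⟩ := Scheme.Pullback.exists_preimage_pullback (f := π) (g := a) u
    (closedPoint Ω) (hu.trans ha.symm)
  have hsub : ∀ z : ↥(pullback π a), z = z₀ := by
    intro z
    obtain ⟨s₁, hs₁, hs₁z⟩ := exists_section (pullback.snd π a) z
    obtain ⟨s₂, hs₂, hs₂z⟩ := exists_section (pullback.snd π a) z₀
    have e1 : (s₁ ≫ pullback.fst π a) ≫ π = (s₂ ≫ pullback.fst π a) ≫ π := by
      rw [Category.assoc, Category.assoc, pullback.condition, ← Category.assoc, ← Category.assoc,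
        hs₁, hs₂]
    have e2 : ((s₁ ≫ pullback.fst π a) ≫ π) (closedPoint Ω) = v' := by
      rw [Category.assoc, pullback.condition, ← Category.assoc, hs₁, Category.id_comp]
      exact ha
    have e3 := h Ω _ _ e1 e2
    have e4 : s₁ = s₂ := by
      apply pullback.hom_ext
      · exact e3
      · rw [hs₁, hs₂]
    rw [← hs₁z, ← hs₂z, e4]
  rw [finsum_eq_single _ z₀ (fun z hz => absurd (hsub z) hz), hz₀]

/-- Radiciality over a point of an open of the target can be checked after restriction. -/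
theorem radOver_of_radOver_morphismRestrict {U V : Scheme.{u}} (π : U ⟶ V) (V' : V.Opens) (v' : V')
    (h : RadOver (π ∣_ V') v') : RadOver π v'.1 := by
  intro Ω _ g₁ g₂ h12 hpt
  have hr : ∀ g : Spec (CommRingCat.of Ω) ⟶ U, (g ≫ π) (closedPoint Ω) = v'.1 →
      Set.range g ⊆ Set.range (π ⁻¹ᵁ V').ι := by
    rintro g hg _ ⟨t, rfl⟩
    rw [Scheme.Opens.range_ι, eq_closedPoint t]
    change π (g (closedPoint Ω)) ∈ V'
    rw [← Scheme.Hom.comp_apply, hg]
    exact v'.2
  have hpt2 : (g₂ ≫ π) (closedPoint Ω) = v'.1 := by rw [← h12]; exact hpt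
  let g₁' := IsOpenImmersion.lift (π ⁻¹ᵁ V').ι g₁ (hr g₁ hpt)
  let g₂' := IsOpenImmersion.lift (π ⁻¹ᵁ V').ι g₂ (hr g₂ hpt2)
  have e₁ : g₁' ≫ (π ⁻¹ᵁ V').ι = g₁ := IsOpenImmersion.lift_fac _ _ _
  have e₂ : g₂' ≫ (π ⁻¹ᵁ V').ι = g₂ := IsOpenImmersion.lift_fac _ _ _
  have h1 : g₁' ≫ (π ∣_ V') = g₂' ≫ (π ∣_ V') := by
    rw [← cancel_mono V'.ι, Category.assoc, Category.assoc, morphismRestrict_ι, ← Category.assoc,
      ← Category.assoc, e₁, e₂, h12]
  have h2 : (g₁' ≫ (π ∣_ V')) (closedPoint Ω) = v' := by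
    apply Subtype.ext
    change V'.ι ((g₁' ≫ (π ∣_ V')) (closedPoint Ω)) = v'.1
    rw [← Scheme.Hom.comp_apply, Category.assoc, morphismRestrict_ι, ← Category.assoc, e₁]
    exact hpt
  rw [← e₁, ← e₂, h Ω g₁' g₂' h1 h2]

theorem radOver_morphismRestrict_of_radOver {U V : Scheme.{u}} (π : U ⟶ V) (V' : V.Opens) (v' : V')
    (h : RadOver π v'.1) : RadOver (π ∣_ V') v' := by
  intro Ω _ g₁ g₂ h12 hpt
  have h1 : (g₁ ≫ (π ⁻¹ᵁ V').ι) ≫ π = (g₂ ≫ (π ⁻¹ᵁ V').ι) ≫ π := by
    rw [Category.assoc, Category.assoc, ← morphismRestrict_ι, ← Category.assoc, ← Category.assoc,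
      h12]
  have h2 : ((g₁ ≫ (π ⁻¹ᵁ V').ι) ≫ π) (closedPoint Ω) = v'.1 := by
    rw [Category.assoc, ← morphismRestrict_ι, ← Category.assoc, Scheme.Hom.comp_apply, hpt]
    rfl
  exact (cancel_mono (π ⁻¹ᵁ V').ι).1 (h Ω _ _ h1 h2)

/-- Spreading out radiciality over an affine open of the target, for an affine morphism of finite
type. -/
theorem spread_over_affineOpen {U V : Scheme.{u}} (π : U ⟶ V) [IsAffineHom π]
    [LocallyOfFiniteType π] (V' : V.Opens) (hV' : IsAffineOpen V') (v' : V')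
    (h : RadOver π v'.1) :
    ∃ E : Set V', IsConstructible E ∧ v' ∈ E ∧ ∀ e ∈ E, RadOver π e.1 := by
  haveI : IsAffine (V' : Scheme.{u}) := hV'
  haveI : IsAffine ((π ⁻¹ᵁ V' : U.Opens) : Scheme.{u}) := hV'.preimage π
  obtain ⟨E, hE, hvE, H⟩ := spread_affine (π ∣_ V') v' (radOver_morphismRestrict_of_radOver π V' v' h)
  exact ⟨E, hE, hvE, fun e he => radOver_of_radOver_morphismRestrict π V' e (H e he)⟩

/-- **Key lemma**: a weighting of a locally quasi-finite morphism is constant on a locally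
constructible subset through any given point. -/
theorem exists_constructible_nhd {X Y : Scheme.{u}} (f : X ⟶ Y) [LocallyQuasiFinite f]
    [LocallyOfFiniteType f] [QuasiSeparatedSpace X] (w : X → ℤ) (hw : MoreMor.IsWeighting f w)
    (x : X) : ∃ E : Set X, IsLocallyConstructible E ∧ x ∈ E ∧ ∀ x' ∈ E, w x' = w x := by
  obtain ⟨V, gV, v, hgV, hv, -, H⟩ := exists_etale_split f (f x) {x} (Set.finite_singleton x)
    (by rintro t rfl; exact ⟨rfl, f.quasiFiniteAt _⟩)
  haveI := hgV
  obtain ⟨z, hz1, hz2⟩ := Scheme.Pullback.exists_preimage_pullback (f := f) (g := gV) x v hv.symm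
  obtain ⟨⟨Uz, hzU, hfin, huniq⟩, hPI, -⟩ := H z hz2 (by rw [hz1]; rfl)
  haveI := hfin
  set fstV := pullback.fst f gV with hfstV
  set sndV := pullback.snd f gV with hsndV
  have hsd := sd_eq_one_of_pInsep _ _ hPI
  -- value of the fibre integral at `v`
  have hGv : fI sndV (w ∘ fstV) Uz v = w x := by
    have hset : {x' | sndV x' = v} ∩ (Uz : Set ↥(pullback f gV)) = {z} := by
      ext x'
      constructor
      · rintro ⟨h1, h2⟩
        exact huniq x' h2 h1
      · rintro rfl
        exact ⟨hz2, hzU⟩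
    rw [fI, hset, finsum_mem_singleton, hsd, Function.comp_apply, hz1]
    simp
  have hG : IsLocallyConstant (fI sndV (w ∘ fstV) Uz) := isLocallyConstant_fI_etale f w hw gV Uz
  let N : Set V := {v' | fI sndV (w ∘ fstV) Uz v' = w x}
  have hN : IsOpen N := hG.isOpen_fiber _
  obtain ⟨_, ⟨V', hV', rfl⟩, hvV', hV'N⟩ := V.isBasis_affineOpens.exists_subset_of_mem_open
    (show v ∈ N from hGv) hN
  -- the finite morphism `π₀` and radiciality over `v`
  let π₀ : (Uz : Scheme.{u}) ⟶ V := Uz.ι ≫ sndV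
  have hrad : RadOver π₀ v := radOver_of_unique_of_pInsep sndV Uz v z huniq hPI
  obtain ⟨E', hE', hvE', HE'⟩ := spread_over_affineOpen π₀ V' hV' ⟨v, hvV'⟩ hrad
  -- the étale morphism to `X`
  let ρ : ((π₀ ⁻¹ᵁ V' : (Uz : Scheme.{u}).Opens) : Scheme.{u}) ⟶ X := (π₀ ⁻¹ᵁ V').ι ≫ Uz.ι ≫ fstV
  haveI : IsAffine ((π₀ ⁻¹ᵁ V' : (Uz : Scheme.{u}).Opens) : Scheme.{u}) := hV'.preimage π₀
  let S : Set ((π₀ ⁻¹ᵁ V' : (Uz : Scheme.{u}).Opens) : Scheme.{u}) := (π₀ ∣_ V') ⁻¹' E'
  have hS : IsConstructible S := (π₀ ∣_ V').isConstructible_preimage hE'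
  refine ⟨ρ '' S, ρ.isLocallyConstructible_image hS.isLocallyConstructible, ?_, ?_⟩
  · -- `x` lies in the image
    obtain ⟨z₁, rfl⟩ : z ∈ Set.range Uz.ι := by rw [Scheme.Opens.range_ι]; exact hzU
    have hz₁ : z₁ ∈ π₀ ⁻¹ᵁ V' := by
      change π₀ z₁ ∈ V'
      change (Uz.ι ≫ sndV) z₁ ∈ V'
      rw [Scheme.Hom.comp_apply, hz2]
      exact hvV'
    obtain ⟨z₂, rfl⟩ : z₁ ∈ Set.range (π₀ ⁻¹ᵁ V').ι := by rw [Scheme.Opens.range_ι]; exact hz₁
    refine ⟨z₂, ?_, ?_⟩
    · change (π₀ ∣_ V') z₂ ∈ E'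
      have : (π₀ ∣_ V') z₂ = ⟨v, hvV'⟩ := by
        apply Subtype.ext
        change Scheme.Opens.ι V' ((π₀ ∣_ V') z₂) = v
        rw [← Scheme.Hom.comp_apply, morphismRestrict_ι, Scheme.Hom.comp_apply]
        change (Uz.ι ≫ sndV) _ = v
        rw [Scheme.Hom.comp_apply, hz2]
      rw [this]
      exact hvE'
    · change ((π₀ ⁻¹ᵁ V').ι ≫ Uz.ι ≫ fstV) z₂ = x
      rw [Scheme.Hom.comp_apply, Scheme.Hom.comp_apply, hz1]
  · -- `w` is constant on the image
    rintro _ ⟨z₂, hz₂, rfl⟩
    set e := (π₀ ∣_ V') z₂ with he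
    have hrad' : RadOver π₀ e.1 := HE' e hz₂
    let u : (Uz : Scheme.{u}) := (π₀ ⁻¹ᵁ V').ι z₂
    have hu : π₀ u = e.1 := by
      change ((π₀ ⁻¹ᵁ V').ι ≫ π₀) z₂ = Scheme.Opens.ι V' ((π₀ ∣_ V') z₂)
      rw [← Scheme.Hom.comp_apply, morphismRestrict_ι]
    have h1 := fibreIntegral_eq_of_radOver π₀ (fun u => (w ∘ fstV) (Uz.ι u)) e.1
      (Scheme.Hom.finite_preimage_singleton π₀ e.1) hrad' u hu
    have h2 := fibreIntegral_opens Uz sndV (w ∘ fstV) e.1
    have h3 : fI sndV (w ∘ fstV) Uz e.1 = w x := hV'N e.2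
    change w (((π₀ ⁻¹ᵁ V').ι ≫ Uz.ι ≫ fstV) z₂) = w x
    rw [Scheme.Hom.comp_apply, Scheme.Hom.comp_apply]
    rw [← h3, ← h2]
    exact h1.symm

/-- Constructible subsets of a quasi-compact quasi-separated space are open and closed in the
constructible topology. -/
theorem isOpen_constructibleTopology_of_isConstructible {T : Type*} [TopologicalSpace T]
    [CompactSpace T] [QuasiSeparatedSpace T] {s : Set T} (hs : IsConstructible s) :
    IsOpen (WithTopology.ofTopology ⁻¹' s : Set (WithConstructibleTopology T)) ∧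
      IsOpen (WithTopology.ofTopology ⁻¹' sᶜ : Set (WithConstructibleTopology T)) := by
  induction hs using IsConstructible.empty_union_induction with
  | open_retrocompact U hUo hUc =>
    have hUcomp : IsCompact U := hUc.isCompact
    refine ⟨?_, ?_⟩
    · rw [WithConstructibleTopology.isOpen_iff]
      change IsOpen[constructibleTopology T] U
      exact hUcomp.isOpen_constructibleTopology_of_isOpen hUo
    · rw [WithConstructibleTopology.isOpen_iff]
      change IsOpen[constructibleTopology T] Uᶜ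
      apply IsCompact.isOpen_constructibleTopology_of_isClosed
      · rw [compl_compl]; exact hUcomp
      · exact hUo.isClosed_compl
  | union s hs t ht ihs iht =>
    refine ⟨?_, ?_⟩
    · rw [Set.preimage_union]
      exact ihs.1.union iht.1
    · rw [Set.compl_union, Set.preimage_inter]
      exact ihs.2.inter iht.2
  | compl s hs ih =>
    refine ⟨ih.2, ?_⟩
    rw [compl_compl]
    exact ih.1

/-- On a quasi-compact quasi-separated scheme, a weighting of a locally quasi-finite morphism takes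
finitely many values and has constructible level sets. -/
theorem finite_range_and_isConstructible {X Y : Scheme.{u}} (f : X ⟶ Y) [LocallyQuasiFinite f]
    [LocallyOfFiniteType f] [CompactSpace X] [QuasiSeparatedSpace X] (w : X → ℤ)
    (hw : MoreMor.IsWeighting f w) :
    (Set.range w).Finite ∧ ∀ n : ℤ, IsConstructible {x : X | w x = n} := by
  classical
  have key := fun x => exists_constructible_nhd f w hw x
  choose E hE hxE hwE using key
  have hEc : ∀ x, IsConstructible (E x) := fun x => (hE x).isConstructible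
  let K := WithConstructibleTopology X
  let O : X → Set K := fun x => WithTopology.ofTopology ⁻¹' (E x)
  have hO : ∀ x, IsOpen (O x) := by
    intro x
    exact (isOpen_constructibleTopology_of_isConstructible (hEc x)).1
  have hcov : (Set.univ : Set K) ⊆ ⋃ x, O x := by
    intro k _
    exact Set.mem_iUnion.2 ⟨WithTopology.ofTopology k, hxE _⟩
  obtain ⟨t, ht⟩ := isCompact_univ.elim_finite_subcover O hO hcov
  have hmem : ∀ x' : X, ∃ x ∈ t, x' ∈ E x := by
    intro x'
    have := ht (Set.mem_univ (WithTopology.toTopology _ x'))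
    simp only [Set.mem_iUnion, exists_prop] at this
    obtain ⟨x, hx, hx'⟩ := this
    exact ⟨x, hx, hx'⟩
  refine ⟨?_, fun n => ?_⟩
  · apply (t.finite_toSet.image w).subset
    rintro _ ⟨x', rfl⟩
    obtain ⟨x, hx, hx'⟩ := hmem x'
    exact ⟨x, hx, (hwE x x' hx').symm⟩
  · have : {x : X | w x = n} = ⋃ x ∈ {x : X | x ∈ t ∧ w x = n}, E x := by
      ext x'
      simp only [Set.mem_setOf_eq, Set.mem_iUnion, exists_prop]
      constructor
      · intro h
        obtain ⟨x, hx, hx'⟩ := hmem x'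
        exact ⟨x, ⟨hx, (hwE x x' hx').symm.trans h⟩, hx'⟩
      · rintro ⟨x, ⟨-, hxn⟩, hx'⟩
        exact (hwE x x' hx').trans hxn
    rw [this]
    exact IsConstructible.biUnion (t.finite_toSet.subset (fun x hx => hx.1)) (fun x _ => hEc x)

/-- The level sets of a weighting of a locally quasi-finite morphism are locally constructible. -/
theorem isLocallyConstructible_levelSet {X Y : Scheme.{u}} (f : X ⟶ Y) [LocallyQuasiFinite f]
    [LocallyOfFiniteType f] (w : X → ℤ) (hw : MoreMor.IsWeighting f w) (n : ℤ) :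
    IsLocallyConstructible {x : X | w x = n} := by
  intro x
  obtain ⟨_, ⟨U, hU, rfl⟩, hxU, -⟩ := X.isBasis_affineOpens.exists_subset_of_mem_open
    (Set.mem_univ x) isOpen_univ
  haveI : IsAffine ((U : X.Opens) : Scheme.{u}) := hU
  refine ⟨U, U.2.mem_nhds hxU, U.2, ?_⟩
  have hwU := isWeighting_opens f w hw U
  have := (finite_range_and_isConstructible (Scheme.Opens.ι U ≫ f) (w ∘ Scheme.Opens.ι U) hwU).2 n
  exact this

end Groth.Agent.Lib.Seat7.WeightCons
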