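import Mathlib
import Groth.Prelude.Def_MoreMor
import Groth.Agent.Lib.Helper2Weight2
import Groth.Agent.Lib.Seat7WeightCons

/-!
# Level sets of the fibre integral of a weighting are locally constructible
-/

set_option autoImplicit false
universe u

namespace Groth.Agent.Lib.Seat7.WeightInt

open AlgebraicGeometry CategoryTheory Limits Topology IsLocalRing
open Groth.Agent.Lib.Helper2.Weight Groth.Agent.Lib.Seat7.WeightCons
open Groth.Agent.Lib.Helper20.ResFld Groth.Agent.Lib.Helper20.EtSections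

/-- On a spectral-like space, a function which is constant on a constructible set through every
point has finite range and constructible level sets. -/
theorem finite_range_and_isConstructible_of_locally {T : Type*} [TopologicalSpace T]
    [CompactSpace T] [QuasiSober T] [PrespectralSpace T] [QuasiSeparatedSpace T] {α : Type*}
    (φ : T → α)
    (h : ∀ t, ∃ E : Set T, IsConstructible E ∧ t ∈ E ∧ ∀ t' ∈ E, φ t' = φ t) :
    (Set.range φ).Finite ∧ ∀ a : α, IsConstructible {t : T | φ t = a} := by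
  classical
  choose E hEc hxE hwE using h
  let K := WithConstructibleTopology T
  let O : T → Set K := fun x => WithTopology.ofTopology ⁻¹' (E x)
  have hO : ∀ x, IsOpen (O x) := by
    intro x
    exact (isOpen_constructibleTopology_of_isConstructible (hEc x)).1
  have hcov : (Set.univ : Set K) ⊆ ⋃ x, O x := by
    intro k _
    exact Set.mem_iUnion.2 ⟨WithTopology.ofTopology k, hxE _⟩
  obtain ⟨t, ht⟩ := isCompact_univ.elim_finite_subcover O hO hcov
  have hmem : ∀ x' : T, ∃ x ∈ t, x' ∈ E x := by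
    intro x'
    have := ht (Set.mem_univ (WithTopology.toTopology _ x'))
    simp only [Set.mem_iUnion, exists_prop] at this
    obtain ⟨x, hx, hx'⟩ := this
    exact ⟨x, hx, hx'⟩
  refine ⟨?_, fun n => ?_⟩
  · apply (t.finite_toSet.image φ).subset
    rintro _ ⟨x', rfl⟩
    obtain ⟨x, hx, hx'⟩ := hmem x'
    exact ⟨x, hx, (hwE x x' hx').symm⟩
  · have : {x : T | φ x = n} = ⋃ x ∈ {x : T | x ∈ t ∧ φ x = n}, E x := by
      ext x'
      simp only [Set.mem_setOf_eq, Set.mem_iUnion, exists_prop]
      constructor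
      · intro h
        obtain ⟨x, hx, hx'⟩ := hmem x'
        exact ⟨x, ⟨hx, (hwE x x' hx').symm.trans h⟩, hx'⟩
      · rintro ⟨x, ⟨-, hxn⟩, hx'⟩
        exact (hwE x x' hx').trans hxn
    rw [this]
    exact IsConstructible.biUnion (t.finite_toSet.subset (fun x hx => hx.1)) (fun x _ => hEc x)

/-- An open subscheme with quasi-compact inclusion is a constructible subset. -/
theorem isConstructible_opens_of_quasiCompact {X : Scheme.{u}} (U : X.Opens) [QuasiCompact U.ι] :
    IsConstructible (U : Set X) :=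
  (IsRetrocompact_iff_isSpectralMap_subtypeVal.mpr U.ι.isSpectralMap).isConstructible U.2

/-- An open of the source which is finite over the target of a quasi-separated morphism is a
constructible subset. -/
theorem isConstructible_opens_of_isFinite {P V : Scheme.{u}} (p : P ⟶ V) [QuasiSeparated p]
    (U : P.Opens) [IsFinite (U.ι ≫ p)] : IsConstructible (U : Set P) := by
  haveI : QuasiCompact U.ι := QuasiCompact.of_comp U.ι p
  exact isConstructible_opens_of_quasiCompact U

/-- **Key lemma**: the fibre integral of a weighting of a quasi-finite, quasi-separated morphism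
of finite presentation is constant on a constructible subset through any given point of an affine
open of the base. -/
theorem exists_constructible_nhd_base {X Y : Scheme.{u}} (f : X ⟶ Y) [LocallyQuasiFinite f]
    [LocallyOfFinitePresentation f] [QuasiCompact f] [QuasiSeparated f] (w : X → ℤ)
    (hw : MoreMor.IsWeighting f w) (V₀ : Y.Opens) (hV₀ : IsAffineOpen V₀) (y : V₀) :
    ∃ E : Set V₀, IsConstructible E ∧ y ∈ E ∧
      ∀ y' ∈ E, MoreMor.fibreIntegral f w y'.1 = MoreMor.fibreIntegral f w y.1 := by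
  classical
  have hfin : ∀ y : Y, (f ⁻¹' {y}).Finite := fun y => Scheme.Hom.finite_preimage_singleton f y
  set F : Set X := f ⁻¹' {y.1} with hF
  obtain ⟨V, gV, v, hgV, hv, hF'fin, H⟩ := exists_etale_split f y.1 F (hfin y.1)
    (fun t ht => ⟨ht, f.quasiFiniteAt t⟩)
  haveI := hgV
  set fstV := pullback.fst f gV with hfstV
  set sndV := pullback.snd f gV with hsndV
  set F' : Set ↥(pullback f gV) := {z | sndV z = v ∧ fstV z ∈ F} with hF'
  have hF'eq : ∀ z, sndV z = v → z ∈ F' := by
    intro z hz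
    refine ⟨hz, ?_⟩
    change f (fstV z) = y.1
    rw [← Scheme.Hom.comp_apply, pullback.condition, Scheme.Hom.comp_apply]
    change gV (sndV z) = y.1
    rw [hz, hv]
  have H1 : ∀ z ∈ F', ∃ Uz : (pullback f gV).Opens, z ∈ Uz ∧ IsFinite (Uz.ι ≫ sndV) ∧
      ∀ z' ∈ Uz, sndV z' = v → z' = z := fun z hz => (H z hz.1 hz.2).1
  choose! U hzU hUfin hUuniq using H1
  have hUc : ∀ z ∈ F', IsConstructible (U z : Set ↥(pullback f gV)) := by
    intro z hz
    haveI := hUfin z hz
    exact isConstructible_opens_of_isFinite sndV (U z)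
  -- the bad set
  let B₁ : Set V := sndV '' (⋃ z ∈ F', (U z : Set ↥(pullback f gV)))ᶜ
  let B₂ : Set V := ⋃ p ∈ F'.offDiag, sndV '' ((U p.1 : Set ↥(pullback f gV)) ∩ U p.2)
  have hB₁ : IsLocallyConstructible B₁ :=
    sndV.isLocallyConstructible_image
      (isConstructible_compl.2 (IsConstructible.biUnion hF'fin hUc)).isLocallyConstructible
  have hB₂ : IsLocallyConstructible B₂ := by
    refine IsLocallyConstructible.biUnion hF'fin.offDiag (fun p hp => ?_)
    rw [Set.mem_offDiag] at hp
    exact sndV.isLocallyConstructible_image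
      ((hUc p.1 hp.1).inter (hUc p.2 hp.2.1)).isLocallyConstructible
  have hB : IsLocallyConstructible (B₁ ∪ B₂) := hB₁.union hB₂
  -- decomposition of the integral away from the bad set
  have key : ∀ v' : V, v' ∉ B₁ ∪ B₂ → MoreMor.fibreIntegral f w (gV v') =
      ∑ᶠ z ∈ F', fI sndV (w ∘ fstV) (U z) v' := by
    intro v' hv'
    rw [← (fibreIntegral_baseChange f hfin sndV fstV gV (IsPullback.of_hasPullback f gV) w v').1,
      fibreIntegral_eq_fI_univ]
    refine fI_decomp sndV (w ∘ fstV) Set.univ F' hF'fin (fun z => (U z : Set ↥(pullback f gV))) v'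
      ?_ ?_ (fun _ _ _ _ _ => Set.mem_univ _) ?_
    · intro z hz
      haveI := hUfin z hz
      exact finite_fibre_inter_opens sndV (U z) v'
    · intro x _ hx
      by_contra hcon
      apply hv'
      left
      refine ⟨x, ?_, hx⟩
      simp only [Set.mem_compl_iff, Set.mem_iUnion, exists_prop, not_exists, not_and]
      intro z hz hxz
      exact hcon ⟨z, hz, hxz⟩
    · intro z hz z' hz' x hxz hxz' hx
      by_contra hne
      apply hv'
      right
      simp only [B₂, Set.mem_iUnion, exists_prop]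
      exact ⟨(z, z'), Set.mem_offDiag.2 ⟨hz, hz', hne⟩, x, ⟨hxz, hxz'⟩, hx⟩
  have hvB : v ∉ B₁ ∪ B₂ := by
    rintro (⟨x, hx, hxv⟩ | hx)
    · apply hx
      simp only [Set.mem_iUnion, exists_prop]
      exact ⟨x, hF'eq x hxv, hzU x (hF'eq x hxv)⟩
    · simp only [B₂, Set.mem_iUnion, exists_prop] at hx
      obtain ⟨p, hp, x, ⟨hx1, hx2⟩, hxv⟩ := hx
      rw [Set.mem_offDiag] at hp
      exact hp.2.2 ((hUuniq p.1 hp.1 x hx1 hxv).symm.trans (hUuniq p.2 hp.2.1 x hx2 hxv))
  -- local constancy of the parts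
  have hLC : ∀ z ∈ F', IsLocallyConstant (fI sndV (w ∘ fstV) (U z)) := by
    intro z hz
    haveI := hUfin z hz
    exact isLocallyConstant_fI_etale f w hw gV (U z)
  let N : Set V := ⋂ z ∈ F', {v' | fI sndV (w ∘ fstV) (U z) v' = fI sndV (w ∘ fstV) (U z) v}
  have hN : IsOpen N := hF'fin.isOpen_biInter (fun z hz => (hLC z hz).isOpen_fiber _)
  have hvN : v ∈ N := by
    simp only [N, Set.mem_iInter, Set.mem_setOf_eq]
    intro _ _
    trivial
  have hconst : ∀ v' : V, v' ∈ N → v' ∉ B₁ ∪ B₂ →
      MoreMor.fibreIntegral f w (gV v') = MoreMor.fibreIntegral f w y.1 := by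
    intro v' hv'N hv'B
    rw [key v' hv'B, ← hv, key v hvB]
    refine finsum_mem_congr rfl (fun z hz => ?_)
    simp only [N, Set.mem_iInter, Set.mem_setOf_eq] at hv'N
    exact hv'N z hz
  -- shrink to an affine open
  have hvpre : v ∈ N ∩ ((gV ⁻¹ᵁ V₀ : V.Opens) : Set V) := by
    refine ⟨hvN, ?_⟩
    change gV v ∈ V₀
    rw [hv]
    exact y.2
  obtain ⟨_, ⟨V', hV', rfl⟩, hvV', hV'sub⟩ := V.isBasis_affineOpens.exists_subset_of_mem_open
    hvpre (hN.inter (gV ⁻¹ᵁ V₀).2)
  have hle : V' ≤ gV ⁻¹ᵁ V₀ := fun x hx => (hV'sub hx).2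
  let g' : (V' : Scheme.{u}) ⟶ V₀ := gV.resLE V₀ V' hle
  have hg' : g' ≫ V₀.ι = (Scheme.Opens.ι V') ≫ gV := Scheme.Hom.resLE_comp_ι _ _
  haveI : IsAffine (V' : Scheme.{u}) := hV'
  haveI : IsAffine (V₀ : Scheme.{u}) := hV₀
  let E' : Set (V' : Scheme.{u}) := (Scheme.Opens.ι V') ⁻¹' (B₁ ∪ B₂)ᶜ
  have hE' : IsConstructible E' := by
    have h1 : IsConstructible ((Scheme.Opens.ι V') ⁻¹' (B₁ ∪ B₂)) :=
      (hB.preimage_of_isOpenEmbedding (Scheme.Opens.ι V').isOpenEmbedding).isConstructible
    exact isConstructible_compl.2 h1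
  refine ⟨g' '' E', g'.isConstructible_image hE', ?_, ?_⟩
  · refine ⟨⟨v, hvV'⟩, hvB, ?_⟩
    apply Subtype.ext
    change V₀.ι (g' ⟨v, hvV'⟩) = y.1
    rw [← Scheme.Hom.comp_apply, hg', Scheme.Hom.comp_apply]
    exact hv
  · rintro _ ⟨v₁, hv₁, rfl⟩
    have e1 : (g' v₁).1 = gV ((Scheme.Opens.ι V') v₁) := by
      change V₀.ι (g' v₁) = gV ((Scheme.Opens.ι V') v₁)
      rw [← Scheme.Hom.comp_apply, hg', Scheme.Hom.comp_apply]
    rw [e1]
    have hv₁V' : (Scheme.Opens.ι V') v₁ ∈ V' := by
      have : (Scheme.Opens.ι V') v₁ ∈ Set.range (Scheme.Opens.ι V') := ⟨v₁, rfl⟩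
      rwa [Scheme.Opens.range_ι] at this
    exact hconst ((Scheme.Opens.ι V') v₁) (hV'sub hv₁V').1 hv₁

/-- The level sets of the fibre integral of a weighting along a quasi-finite quasi-separated
morphism of finite presentation are locally constructible. -/
theorem isLocallyConstructible_levelSet_fibreIntegral {X Y : Scheme.{u}} (f : X ⟶ Y)
    [LocallyQuasiFinite f] [LocallyOfFinitePresentation f] [QuasiCompact f] [QuasiSeparated f]
    (w : X → ℤ) (hw : MoreMor.IsWeighting f w) (n : ℤ) :
    IsLocallyConstructible {y : Y | MoreMor.fibreIntegral f w y = n} := by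
  intro y
  obtain ⟨_, ⟨V₀, hV₀, rfl⟩, hyV₀, -⟩ := Y.isBasis_affineOpens.exists_subset_of_mem_open
    (Set.mem_univ y) isOpen_univ
  haveI : IsAffine (V₀ : Scheme.{u}) := hV₀
  refine ⟨V₀, V₀.2.mem_nhds hyV₀, V₀.2, ?_⟩
  have := (finite_range_and_isConstructible_of_locally
    (T := (V₀ : Scheme.{u})) (fun y' : (V₀ : Scheme.{u}) => MoreMor.fibreIntegral f w (Scheme.Opens.ι V₀ y'))
    (fun t => exists_constructible_nhd_base f w hw V₀ hV₀ t)).2 n
  exact this

end Groth.Agent.Lib.Seat7.WeightInt
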