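import Mathlib
import Groth.Prelude.Def_MoreMor
import Groth.Agent.Lib.Helper2Weight2
import Groth.Agent.Lib.Seat7WeightCons
import Groth.Agent.S1415

/-!
# Boundedness and maximum of the fibre integral of a weighting (quasi-compact source)
-/

set_option autoImplicit false
universe u

namespace Groth.Agent.Lib.Seat7.WeightMax

open AlgebraicGeometry CategoryTheory Limits Topology IsLocalRing
open Groth.Agent.Lib.Helper2.Weight Groth.Agent.Lib.Seat7.WeightCons

/-- A weighting of a locally quasi-finite morphism with quasi-compact source takes only finitely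
many values. -/
theorem finite_range_of_compact {X Y : Scheme.{u}} (f : X ⟶ Y) [LocallyQuasiFinite f]
    [LocallyOfFiniteType f] [CompactSpace X] (w : X → ℤ) (hw : MoreMor.IsWeighting f w) :
    (Set.range w).Finite := by
  classical
  have key : ∀ x : X, ∃ U : X.Opens, IsAffineOpen U ∧ x ∈ U := by
    intro x
    obtain ⟨_, ⟨U, hU, rfl⟩, hxU, -⟩ := X.isBasis_affineOpens.exists_subset_of_mem_open
      (Set.mem_univ x) isOpen_univ
    exact ⟨U, hU, hxU⟩
  choose U hU hxU using key
  obtain ⟨t, ht⟩ := isCompact_univ.elim_finite_subcover (fun x => ((U x : X.Opens) : Set X))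
    (fun x => (U x).2) (fun x _ => Set.mem_iUnion.2 ⟨x, hxU x⟩)
  have hfin : ∀ x : X, (Set.range (w ∘ (U x).ι)).Finite := by
    intro x
    haveI : IsAffine ((U x : X.Opens) : Scheme.{u}) := hU x
    exact (finite_range_and_isConstructible ((U x).ι ≫ f) (w ∘ (U x).ι)
      (isWeighting_opens f w hw (U x))).1
  have hfin2 : (⋃ x ∈ t, Set.range (w ∘ (U x).ι)).Finite :=
    t.finite_toSet.biUnion (fun x _ => hfin x)
  apply hfin2.subset
  rintro _ ⟨x', rfl⟩
  have := ht (Set.mem_univ x')
  simp only [Set.mem_iUnion, exists_prop] at this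
  obtain ⟨x, hx, hx'⟩ := this
  simp only [Set.mem_iUnion, exists_prop]
  exact ⟨x, hx, ⟨⟨x', hx'⟩, rfl⟩⟩

/-- The fibre integral of a weighting along a locally quasi-finite morphism with quasi-compact
source is bounded above. -/
theorem exists_bound {X Y : Scheme.{u}} (f : X ⟶ Y) [LocallyQuasiFinite f]
    [LocallyOfFiniteType f] [CompactSpace X] (w : X → ℤ) (hw : MoreMor.IsWeighting f w) :
    ∃ B : ℤ, ∀ y : Y, MoreMor.fibreIntegral f w y ≤ B := by
  classical
  obtain ⟨d, hd⟩ := Groth.Agent.S1415.exists_Bd f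
  obtain ⟨M, hM⟩ : ∃ M : ℤ, ∀ x, w x ≤ M := by
    obtain ⟨M, hM⟩ := (finite_range_of_compact f w hw).bddAbove
    exact ⟨M, fun x => hM ⟨x, rfl⟩⟩
  refine ⟨(d : ℤ) * max M 0, fun y => ?_⟩
  let Ω := AlgebraicClosure (Y.residueField y)
  let a : Spec (.of Ω) ⟶ Y := geomPt y
  have hy : a (closedPoint Ω) = y := geomPt_apply y _
  have hcard : ENat.card ↥(pullback f a) ≤ d := hd Ω a
  haveI hfinP : Finite ↥(pullback f a) := by
    rw [← ENat.card_lt_top]
    exact lt_of_le_of_lt hcard (ENat.coe_lt_top d)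
  have hfin : (f ⁻¹' {a (closedPoint Ω)}).Finite := by
    have hsub : f ⁻¹' {a (closedPoint Ω)} ⊆ Set.range (pullback.fst f a) := by
      intro x hx
      have hx' : f x = a (closedPoint Ω) := hx
      have h1 := card_fibre_eq_sd f a x hx'
      have h2 := sd_ne_zero f x
      rw [← h1] at h2
      haveI : Nonempty {z : ↥(pullback f a) // pullback.fst f a z = x} :=
        (Nat.card_pos_iff.1 (Nat.pos_of_ne_zero h2)).1
      obtain ⟨z, hz⟩ := ‹Nonempty {z : ↥(pullback f a) // pullback.fst f a z = x}›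
      exact ⟨z, hz⟩
    exact (Set.finite_range _).subset hsub
  have hI := fibreIntegral_eq_geom f a w hfin
  rw [hy] at hI
  rw [hI]
  letI := Fintype.ofFinite ↥(pullback f a)
  rw [finsum_eq_sum_of_fintype]
  calc ∑ z : ↥(pullback f a), w (pullback.fst f a z)
      ≤ ∑ _z : ↥(pullback f a), max M 0 :=
        Finset.sum_le_sum (fun z _ => le_trans (hM _) (le_max_left _ _))
    _ = (Fintype.card ↥(pullback f a) : ℤ) * max M 0 := by
        rw [Finset.sum_const, Finset.card_univ, nsmul_eq_mul]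
    _ ≤ (d : ℤ) * max M 0 := by
        apply mul_le_mul_of_nonneg_right _ (le_max_right _ _)
        have : (Fintype.card ↥(pullback f a) : ℕ∞) ≤ d := by
          rw [← ENat.card_eq_coe_fintype_card]
          exact hcard
        exact_mod_cast this

/-- The fibre integral of a weighting along a locally quasi-finite morphism with quasi-compact
source attains its maximum if the target is nonempty. -/
theorem exists_max {X Y : Scheme.{u}} (f : X ⟶ Y) [LocallyQuasiFinite f]
    [LocallyOfFiniteType f] [CompactSpace X] (w : X → ℤ) (hw : MoreMor.IsWeighting f w)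
    [Nonempty Y] :
    ∃ y₀ : Y, ∀ y : Y, MoreMor.fibreIntegral f w y ≤ MoreMor.fibreIntegral f w y₀ := by
  obtain ⟨B, hB⟩ := exists_bound f w hw
  obtain ⟨y₁⟩ := ‹Nonempty Y›
  obtain ⟨m, ⟨y₀, rfl⟩, hm⟩ := Int.exists_greatest_of_bdd
    (P := fun n => ∃ y : Y, MoreMor.fibreIntegral f w y = n)
    ⟨B, fun z ⟨y, hy⟩ => hy ▸ hB y⟩ ⟨_, y₁, rfl⟩
  exact ⟨y₀, fun y => hm _ ⟨y, rfl⟩⟩

end Groth.Agent.Lib.Seat7.WeightMax
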