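/-
Seat80: over an uncountable field, an irreducible scheme of finite type is not covered (on closed
points) by countably many proper closed subsets.  Noether normalization + a common non-root of
countably many nonzero polynomials.
-/
import Mathlib
set_option autoImplicit false
universe u v
open Polynomial CategoryTheory AlgebraicGeometry

namespace Groth.Agent.Lib.Seat80.Uncountable


/-- Countably many nonzero polynomials in `d` variables over an uncountable field have a common
non-root. -/
theorem exists_eval_ne_zero {k : Type u} [Field k] [Uncountable k] :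
    ∀ (d : ℕ) (f : ℕ → MvPolynomial (Fin d) k), (∀ n, f n ≠ 0) →
      ∃ a : Fin d → k, ∀ n, MvPolynomial.eval a (f n) ≠ 0 := by
  intro d
  induction d with
  | zero =>
    intro f hf
    refine ⟨fun i => i.elim0, fun n h => hf n ?_⟩
    rw [MvPolynomial.eq_C_of_isEmpty (f n)] at h ⊢
    rw [MvPolynomial.eval_C] at h
    rw [h, map_zero]
  | succ d ih =>
    intro f hf
    let g : ℕ → Polynomial (MvPolynomial (Fin d) k) := fun n => MvPolynomial.finSuccEquiv k d (f n)
    have hg : ∀ n, g n ≠ 0 := fun n h => hf n (by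
      have := (MvPolynomial.finSuccEquiv k d).injective (h.trans (map_zero _).symm)
      exact this)
    obtain ⟨a', ha'⟩ := ih (fun n => (g n).leadingCoeff) (fun n => Polynomial.leadingCoeff_ne_zero.mpr (hg n))
    let h : ℕ → Polynomial k := fun n => (g n).map (MvPolynomial.eval a')
    have hh : ∀ n, h n ≠ 0 := by
      intro n e
      apply ha' n
      have := congrArg (fun p => Polynomial.coeff p (g n).natDegree) e
      simpa [h, Polynomial.coeff_map] using this
    have hcount : (⋃ n, ((h n).rootSet k)).Countable :=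
      Set.countable_iUnion fun n => (Polynomial.rootSet_finite (h n) k).countable
    have : ∃ b : k, b ∉ ⋃ n, ((h n).rootSet k) := by
      by_contra hcon
      push Not at hcon
      have : (⋃ n, ((h n).rootSet k)) = Set.univ := Set.eq_univ_of_forall hcon
      rw [this] at hcount
      exact Set.not_countable_univ hcount
    obtain ⟨b, hb⟩ := this
    refine ⟨Fin.cons b a', fun n => ?_⟩
    rw [MvPolynomial.eval_eq_eval_mv_eval']
    intro e
    apply hb
    refine Set.mem_iUnion.mpr ⟨n, ?_⟩
    rw [Polynomial.mem_rootSet]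
    refine ⟨hh n, ?_⟩
    simpa [h, g] using e

/-- In a finitely generated domain over an uncountable field, countably many nonzero ideals are
simultaneously avoided by some maximal ideal. -/
theorem exists_maximal_not_le {k : Type u} [Field k] [Uncountable k] {B : Type v} [CommRing B] [IsDomain B]
    [Algebra k B] [Algebra.FiniteType k B] (I : ℕ → Ideal B) (hI : ∀ n, I n ≠ ⊥) :
    ∃ m : Ideal B, m.IsMaximal ∧ ∀ n, ¬ I n ≤ m := by
  obtain ⟨d, g, hinj, hint⟩ := exists_integral_inj_algHom_of_fg k B
  let _ : Algebra (MvPolynomial (Fin d) k) B := g.toRingHom.toAlgebra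
  have hintA : Algebra.IsIntegral (MvPolynomial (Fin d) k) B := ⟨hint⟩
  have hJ : ∀ n, (I n).comap (algebraMap (MvPolynomial (Fin d) k) B) ≠ ⊥ := fun n h =>
    hI n (Ideal.eq_bot_of_comap_eq_bot h)
  have : ∀ n, ∃ f : MvPolynomial (Fin d) k, f ∈ (I n).comap (algebraMap (MvPolynomial (Fin d) k) B) ∧ f ≠ 0 :=
    fun n => Submodule.exists_mem_ne_zero_of_ne_bot (hJ n)
  choose f hfmem hfne using this
  obtain ⟨a, ha⟩ := exists_eval_ne_zero d f hfne
  -- the maximal ideal of the point a
  let P : Ideal (MvPolynomial (Fin d) k) := RingHom.ker (MvPolynomial.eval a)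
  have hPmax : P.IsMaximal := RingHom.ker_isMaximal_of_surjective _ (fun c => ⟨MvPolynomial.C c, by simp⟩)
  have hker : RingHom.ker (algebraMap (MvPolynomial (Fin d) k) B) ≤ P := by
    have : RingHom.ker (algebraMap (MvPolynomial (Fin d) k) B) = ⊥ :=
      (RingHom.injective_iff_ker_eq_bot _).mp hinj
    rw [this]
    exact bot_le
  obtain ⟨Q, hQmax, hQ⟩ := Ideal.exists_ideal_over_maximal_of_isIntegral P hker
  refine ⟨Q, hQmax, fun n hle => ha n ?_⟩
  have : f n ∈ Q.comap (algebraMap (MvPolynomial (Fin d) k) B) := Ideal.comap_mono hle (hfmem n)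
  rw [hQ] at this
  exact this

/-- Version for a finitely generated algebra with prime nilradical. -/
theorem exists_maximal_not_le' {k : Type u} [Field k] [Uncountable k] {B : Type v} [CommRing B]
    [Algebra k B] [Algebra.FiniteType k B] (hB : (nilradical B).IsPrime)
    (I : ℕ → Ideal B) (hI : ∀ n, ¬ I n ≤ nilradical B) :
    ∃ m : Ideal B, m.IsMaximal ∧ ∀ n, ¬ I n ≤ m := by
  have : IsDomain (B ⧸ nilradical B) := Ideal.Quotient.isDomain _
  have hI' : ∀ n, (I n).map (Ideal.Quotient.mk (nilradical B)) ≠ ⊥ := by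
    intro n h
    apply hI n
    rw [Ideal.map_eq_bot_iff_le_ker, Ideal.mk_ker] at h
    exact h
  obtain ⟨m', hm', hm'I⟩ := exists_maximal_not_le (k := k) (fun n => (I n).map (Ideal.Quotient.mk (nilradical B))) hI'
  refine ⟨m'.comap (Ideal.Quotient.mk (nilradical B)),
    Ideal.comap_isMaximal_of_surjective _ Ideal.Quotient.mk_surjective, fun n hle => hm'I n ?_⟩
  exact Ideal.map_le_iff_le_comap.mpr hle

theorem exists_closedPoint_notMem {k : Type u} [Field k] [Uncountable k]
    (X : Scheme.{u}) (sX : X ⟶ Spec (CommRingCat.of k)) [IrreducibleSpace X] [LocallyOfFiniteType sX]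
    (Z : ℕ → TopologicalSpace.Closeds X) (hZ : ∀ n, (Z n : Set X) ≠ Set.univ) :
    ∃ x : X, IsClosed ({x} : Set X) ∧ ∀ n, x ∉ Z n := by
  obtain ⟨x₀⟩ : Nonempty X := inferInstance
  let 𝒰 := X.affineOpenCover
  let i := 𝒰.idx x₀
  let R : CommRingCat := 𝒰.X i
  let j : Spec R ⟶ X := 𝒰.f i
  have hj : IsOpenImmersion j := inferInstance
  obtain ⟨y₀, hy₀⟩ : ∃ y, j.base y = x₀ := 𝒰.covers x₀
  let φ : CommRingCat.of k ⟶ R := Spec.preimage (j ≫ sX)
  have hφ : Spec.map φ = j ≫ sX := Spec.map_preimage _
  have hlft : LocallyOfFiniteType (Spec.map φ) := by rw [hφ]; infer_instance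
  have hft : φ.hom.FiniteType := (HasRingHomProperty.Spec_iff (P := @LocallyOfFiniteType)).mp hlft
  let _ : Algebra k R := φ.hom.toAlgebra
  have : Algebra.FiniteType k R := hft
  have hJX : JacobsonSpace X := LocallyOfFiniteType.jacobsonSpace sX
  -- irreducibility of Spec R
  have hirr : IsIrreducible (Set.univ : Set (PrimeSpectrum R)) := by
    refine ⟨⟨y₀, trivial⟩, ?_⟩
    have h := (IrreducibleSpace.isIrreducible_univ X).isPreirreducible.preimage j.isOpenEmbedding
    rw [Set.preimage_univ] at h
    exact h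
  have hnil : (nilradical R).IsPrime := by
    have := (PrimeSpectrum.isIrreducible_zeroLocus_iff (⊥ : Ideal R)).mp (by simpa using hirr)
    exact this
  let I : ℕ → Ideal R := fun n => PrimeSpectrum.vanishingIdeal (j.base ⁻¹' (Z n : Set X))
  have hclosed : ∀ n, IsClosed (j.base ⁻¹' (Z n : Set X)) := fun n => (Z n).isClosed.preimage j.continuous
  have hI : ∀ n, ¬ I n ≤ nilradical R := by
    intro n hle
    apply hZ n
    have hsub : Set.range j.base ⊆ (Z n : Set X) := by
      rintro _ ⟨y, rfl⟩
      let y' : PrimeSpectrum R := y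
      have hy : y' ∈ PrimeSpectrum.zeroLocus
          ((PrimeSpectrum.vanishingIdeal (j.base ⁻¹' (Z n : Set X)) : Ideal R) : Set R) :=
        (PrimeSpectrum.mem_zeroLocus _ _).mpr (fun a ha => nilradical_le_prime y'.asIdeal (hle ha))
      have hy2 : y' ∈ closure (j.base ⁻¹' (Z n : Set X)) := by
        have e := PrimeSpectrum.zeroLocus_vanishingIdeal_eq_closure (j.base ⁻¹' (Z n : Set X))
        exact e ▸ hy
      exact (hclosed n).closure_subset hy2
    have hdense : Dense (Set.range j.base) :=
      j.isOpenEmbedding.isOpen_range.dense ⟨x₀, y₀, hy₀⟩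
    have := hdense.closure_eq ▸ closure_minimal hsub (Z n).isClosed
    exact Set.eq_univ_of_univ_subset this
  obtain ⟨m, hm, hmI⟩ := exists_maximal_not_le' (k := k) hnil I hI
  let y : PrimeSpectrum R := ⟨m, hm.isPrime⟩
  refine ⟨j.base y, ?_, fun n hn => hmI n ?_⟩
  · have hy : y ∈ closedPoints (PrimeSpectrum R) :=
      mem_closedPoints_iff.mpr ((PrimeSpectrum.isClosed_singleton_iff_isMaximal y).mpr hm)
    have hy' : y ∈ j.base ⁻¹' closedPoints X := by
      rw [j.isOpenEmbedding.preimage_closedPoints]
      exact hy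
    exact hy'
  · have : ({y} : Set (PrimeSpectrum R)) ⊆ j.base ⁻¹' (Z n : Set X) := by
      rintro _ rfl
      exact hn
    have := PrimeSpectrum.vanishingIdeal_anti_mono this
    rwa [PrimeSpectrum.vanishingIdeal_singleton] at this


/-- Density version: closed points outside countably many proper closed subsets are dense. -/
theorem dense_closedPoints_notMem {k : Type u} [Field k] [Uncountable k]
    (X : Scheme.{u}) (sX : X ⟶ Spec (CommRingCat.of k)) [IrreducibleSpace X] [LocallyOfFiniteType sX]
    (Z : ℕ → TopologicalSpace.Closeds X) (hZ : ∀ n, (Z n : Set X) ≠ Set.univ) :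
    Dense {x : X | IsClosed ({x} : Set X) ∧ ∀ n, x ∉ Z n} := by
  rw [dense_iff_inter_open]
  intro U hU hUne
  let Z' : ℕ → TopologicalSpace.Closeds X := fun n =>
    match n with
    | 0 => ⟨Uᶜ, hU.isClosed_compl⟩
    | (n + 1) => Z n
  have hZ' : ∀ n, (Z' n : Set X) ≠ Set.univ := by
    intro n
    cases n with
    | zero =>
      change Uᶜ ≠ Set.univ
      intro h
      obtain ⟨x, hx⟩ := hUne
      have : x ∈ Uᶜ := h ▸ Set.mem_univ x
      exact this hx
    | succ n => exact hZ n
  obtain ⟨x, hxc, hx⟩ := exists_closedPoint_notMem X sX Z' hZ'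
  refine ⟨x, ?_, hxc, fun n => hx (n + 1)⟩
  have h0 := hx 0
  change x ∉ Uᶜ at h0
  exact Set.notMem_compl_iff.mp h0

end Groth.Agent.Lib.Seat80.Uncountable
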