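/-
Seat80: irredundant decomposition of a countable union of closed subsets of a scheme of finite type
over an uncountable field (existence: Noetherian space + finite Krull dimension; uniqueness: an
irreducible closed subset whose closed points are covered by countably many closed subsets lies in one of them).
-/
import Mathlib
import Groth.Agent.Lib.Seat80Uncountable
set_option autoImplicit false
universe u v
open CategoryTheory AlgebraicGeometry TopologicalSpace
open Groth.Agent.Lib.Seat80.Uncountable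

namespace Groth.Agent.Lib.Seat80.Decomp


theorem ringKrullDim_lt_top_of_finiteType (k : Type u) [Field k] (R : Type v) [CommRing R] [Algebra k R]
    [Algebra.FiniteType k R] : ringKrullDim R < ⊤ := by
  obtain ⟨n, f, hf⟩ := Algebra.FiniteType.iff_quotient_mvPolynomial''.mp (inferInstance : Algebra.FiniteType k R)
  refine lt_of_le_of_lt (ringKrullDim_le_of_surjective f.toRingHom hf) ?_
  rw [MvPolynomial.ringKrullDim_of_isNoetherianRing, ringKrullDim_eq_zero_of_field]
  simp only [Nat.card_eq_fintype_card, Fintype.card_fin, zero_add]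
  exact WithBot.coe_lt_coe.mpr (ENat.natCast_lt_top n)

theorem coheight_lt_top {k : Type u} [Field k] (X : Scheme.{u}) (sX : X ⟶ Spec (CommRingCat.of k))
    [LocallyOfFiniteType sX] (T : IrreducibleCloseds X) : Order.coheight T < ⊤ := by
  obtain ⟨x, hx⟩ := T.isIrreducible.nonempty
  let 𝒰 := X.affineOpenCover
  let i := 𝒰.idx x
  let R : CommRingCat := 𝒰.X i
  let j : Spec R ⟶ X := 𝒰.f i
  have hj : IsOpenImmersion j := inferInstance
  obtain ⟨y, hy⟩ : ∃ y, j.base y = x := 𝒰.covers x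
  let φ : CommRingCat.of k ⟶ R := Spec.preimage (j ≫ sX)
  have hφ : Spec.map φ = j ≫ sX := Spec.map_preimage _
  have hlft : LocallyOfFiniteType (Spec.map φ) := by rw [hφ]; infer_instance
  have hft : φ.hom.FiniteType := (HasRingHomProperty.Spec_iff (P := @LocallyOfFiniteType)).mp hlft
  let _ : Algebra k R := φ.hom.toAlgebra
  have : Algebra.FiniteType k R := hft
  have hdim : ringKrullDim R < ⊤ := ringKrullDim_lt_top_of_finiteType k R
  let e := IrreducibleCloseds.orderIsoOfIsOpenEmbedding j.base j.isOpenEmbedding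
  let V : {V : IrreducibleCloseds X | (j.base ⁻¹' V).Nonempty} := ⟨T, ⟨y, by simpa [hy] using hx⟩⟩
  let T' : IrreducibleCloseds (Spec R) := e.symm V
  have hT' : IrreducibleCloseds.map j.base j.continuous T' = T := by
    have := e.apply_symm_apply V
    exact congrArg Subtype.val this
  rw [← hT', Topology.IsOpenEmbedding.coheight_map j.isOpenEmbedding]
  have h1 : (Order.coheight T' : WithBot ℕ∞) ≤ topologicalKrullDim (Spec R) := Order.coheight_le_krullDim T'
  have h2 : topologicalKrullDim (Spec R) = ringKrullDim R := PrimeSpectrum.topologicalKrullDim_eq_ringKrullDim R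
  rw [h2] at h1
  have h3 := lt_of_le_of_lt h1 hdim
  exact WithBot.coe_lt_coe.mp h3

/-- In a set `C` of irreducible closed subsets all of finite coheight, every element lies below a maximal one. -/
theorem exists_maximal_above {α : Type*} [TopologicalSpace α] (hfin : ∀ T : IrreducibleCloseds α, Order.coheight T < ⊤)
    (C : Set (Closeds α)) (hC : ∀ T ∈ C, IsIrreducible (T : Set α)) (T : Closeds α) (hT : T ∈ C) :
    ∃ T' ∈ C, T ≤ T' ∧ ∀ T'' ∈ C, T' ≤ T'' → T'' = T' := by
  classical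
  -- coheight as a function on C
  let ch : {T' : Closeds α // T' ∈ C ∧ T ≤ T'} → ℕ∞ := fun T' =>
    Order.coheight (⟨T'.1, hC _ T'.2.1, T'.1.isClosed⟩ : IrreducibleCloseds α)
  have hne : (Set.range ch).Nonempty := ⟨_, ⟨⟨T, hT, le_rfl⟩, rfl⟩⟩
  obtain ⟨T', hT'⟩ := WellFounded.min_mem wellFounded_lt (Set.range ch) hne
  refine ⟨T'.1, T'.2.1, T'.2.2, fun T'' hT'' hle => ?_⟩
  by_contra hne'
  have hlt : (⟨T'.1, hC _ T'.2.1, T'.1.isClosed⟩ : IrreducibleCloseds α) <
      (⟨T'', hC _ hT'', T''.isClosed⟩ : IrreducibleCloseds α) := by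
    refine lt_of_le_of_ne hle ?_
    intro h
    apply hne'
    have := congrArg (fun Z : IrreducibleCloseds α => (Z : Set α)) h
    exact (Closeds.ext this).symm
  have h1 := Order.coheight_strictAnti hlt (hfin _)
  have h2 : ch ⟨T'', hT'', T'.2.2.trans hle⟩ ∈ Set.range ch := ⟨_, rfl⟩
  have h3 := WellFounded.not_lt_min wellFounded_lt (Set.range ch) h2
  apply h3
  have e : wellFounded_lt.min (Set.range ch) ⟨_, h2⟩ = wellFounded_lt.min (Set.range ch) hne := rfl
  rw [e, ← hT']
  exact h1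

theorem exists_decomp {k : Type u} [Field k] (X : Scheme.{u}) (sX : X ⟶ Spec (CommRingCat.of k))
    [LocallyOfFiniteType sX] [QuasiCompact sX] (Z : ℕ → Closeds X) :
    ∃ S : Set (Closeds X), S.Countable ∧ (∀ T ∈ S, IsIrreducible (T : Set X)) ∧ IsAntichain (· ≤ ·) S ∧
      (⋃ T ∈ S, (T : Set X)) = ⋃ n, (Z n : Set X) := by
  have : CompactSpace X := QuasiCompact.compactSpace_of_compactSpace sX
  have : IsLocallyNoetherian X := LocallyOfFiniteType.isLocallyNoetherian sX
  have : IsNoetherian X := {}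
  have hN : NoetherianSpace X := inferInstance
  have hdec : ∀ n, ∃ S : Set (Closeds X), S.Finite ∧ (∀ t ∈ S, IsIrreducible (t : Set X)) ∧ Z n = sSup S :=
    fun n => NoetherianSpace.exists_finite_set_closeds_irreducible (Z n)
  choose Sn hSnfin hSnirr hSnsup using hdec
  let C : Set (Closeds X) := ⋃ n, Sn n
  have hCcount : C.Countable := Set.countable_iUnion fun n => (hSnfin n).countable
  have hCirr : ∀ T ∈ C, IsIrreducible (T : Set X) := by
    intro T hT
    obtain ⟨n, hn⟩ := Set.mem_iUnion.mp hT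
    exact hSnirr n T hn
  have hZn : ∀ n, (Z n : Set X) = ⋃ T ∈ Sn n, (T : Set X) := by
    intro n
    rw [hSnsup n]
    have := (hSnfin n)
    lift (Sn n) to Finset (Closeds X) using this with F hF
    rw [← Finset.sup_id_eq_sSup, Closeds.coe_finset_sup]
    ext x
    simp
  let S : Set (Closeds X) := {T | T ∈ C ∧ ∀ T'' ∈ C, T ≤ T'' → T'' = T}
  refine ⟨S, hCcount.mono (fun T hT => hT.1), fun T hT => hCirr T hT.1, ?_, ?_⟩
  · intro T hT T' hT' hne hle
    exact hne (hT.2 T' hT'.1 hle).symm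
  · ext x
    simp only [Set.mem_iUnion]
    constructor
    · rintro ⟨T, hT, hx⟩
      obtain ⟨n, hn⟩ := Set.mem_iUnion.mp hT.1
      refine ⟨n, ?_⟩
      rw [hZn n]
      exact Set.mem_iUnion₂.mpr ⟨T, hn, hx⟩
    · rintro ⟨n, hx⟩
      rw [hZn n] at hx
      obtain ⟨T, hTn, hxT⟩ := Set.mem_iUnion₂.mp hx
      have hTC : T ∈ C := Set.mem_iUnion.mpr ⟨n, hTn⟩
      obtain ⟨T', hT'C, hle, hmax⟩ := exists_maximal_above (coheight_lt_top X sX) C hCirr T hTC
      exact ⟨T', ⟨hT'C, hmax⟩, hle hxT⟩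

theorem irreducibleSpace_of_isInducing {Y X : Type*} [TopologicalSpace Y] [TopologicalSpace X] {f : Y → X}
    (hf : Topology.IsInducing f) (h : IsIrreducible (Set.range f)) : IrreducibleSpace Y := by
  have hne : Nonempty Y := by
    obtain ⟨_, y, rfl⟩ := h.nonempty
    exact ⟨y⟩
  refine { isPreirreducible_univ := ?_, toNonempty := hne }
  intro U V hU hV hUne hVne
  obtain ⟨U', hU', rfl⟩ := hf.isOpen_iff.mp hU
  obtain ⟨V', hV', rfl⟩ := hf.isOpen_iff.mp hV
  obtain ⟨y₁, -, hy₁⟩ := hUne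
  obtain ⟨y₂, -, hy₂⟩ := hVne
  obtain ⟨_, ⟨y, rfl⟩, hyU, hyV⟩ := h.2 U' V' hU' hV' ⟨f y₁, ⟨y₁, rfl⟩, hy₁⟩ ⟨f y₂, ⟨y₂, rfl⟩, hy₂⟩
  exact ⟨y, trivial, hyU, hyV⟩

/-- If the closed points of an irreducible closed subset `T` are covered by countably many closed subsets,
then `T` is contained in one of them. -/
theorem exists_le_of_closedPoints_subset {k : Type u} [Field k] [Uncountable k]
    (X : Scheme.{u}) (sX : X ⟶ Spec (CommRingCat.of k)) [LocallyOfFiniteType sX]
    (T : Closeds X) (hT : IsIrreducible (T : Set X)) (W : ℕ → Closeds X)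
    (hcov : ∀ x : X, IsClosed ({x} : Set X) → x ∈ T → ∃ n, x ∈ W n) : ∃ n, T ≤ W n := by
  by_contra hcon
  push Not at hcon
  let I := Scheme.IdealSheafData.vanishingIdeal T
  let Y := I.subscheme
  let ι : Y ⟶ X := I.subschemeι
  have hrange : Set.range ι = (T : Set X) := by
    rw [Scheme.IdealSheafData.range_subschemeι, Scheme.IdealSheafData.coe_support_vanishingIdeal]
  have hirr : IrreducibleSpace Y :=
    irreducibleSpace_of_isInducing ι.isClosedEmbedding.isInducing (hrange ▸ hT)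
  have hlft : LocallyOfFiniteType (ι ≫ sX) := inferInstance
  let Z' : ℕ → Closeds Y := fun n => ⟨ι ⁻¹' (W n : Set X), (W n).isClosed.preimage ι.continuous⟩
  have hZ' : ∀ n, (Z' n : Set Y) ≠ Set.univ := by
    intro n h
    apply hcon n
    intro x hx
    have : x ∈ Set.range ι := hrange ▸ hx
    obtain ⟨y, rfl⟩ := this
    have : y ∈ (Z' n : Set Y) := h ▸ Set.mem_univ y
    exact this
  obtain ⟨y, hyc, hy⟩ := exists_closedPoint_notMem Y (ι ≫ sX) Z' hZ'
  have hxc : IsClosed ({ι y} : Set X) := by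
    have := ι.isClosedEmbedding.isClosedMap _ hyc
    simpa using this
  have hyT : ι y ∈ (T : Set X) := by
    rw [← hrange]
    exact Set.mem_range_self y
  obtain ⟨n, hn⟩ := hcov (ι y) hxc hyT
  exact hy n hn

theorem exists_le_of_subset {k : Type u} [Field k] [Uncountable k]
    (X : Scheme.{u}) (sX : X ⟶ Spec (CommRingCat.of k)) [LocallyOfFiniteType sX]
    (S S' : Set (Closeds X)) (hS'c : S'.Countable) (hSirr : ∀ T ∈ S, IsIrreducible (T : Set X))
    (hsub : {x : X | IsClosed ({x} : Set X) ∧ ∃ T ∈ S, x ∈ T} ⊆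
      {x : X | IsClosed ({x} : Set X) ∧ ∃ T ∈ S', x ∈ T}) :
    ∀ T ∈ S, ∃ T' ∈ S', T ≤ T' := by
  classical
  intro T hT
  obtain ⟨f, hf⟩ := Set.countable_iff_exists_subset_range.mp hS'c
  let W : ℕ → Closeds X := fun n => if f n ∈ S' then f n else ⊥
  have hcov : ∀ x : X, IsClosed ({x} : Set X) → x ∈ T → ∃ n, x ∈ W n := by
    intro x hxc hxT
    obtain ⟨-, T', hT', hxT'⟩ := hsub ⟨hxc, T, hT, hxT⟩
    obtain ⟨n, rfl⟩ := hf hT'
    refine ⟨n, ?_⟩
    simp only [W, if_pos hT']
    exact hxT'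
  obtain ⟨n, hn⟩ := exists_le_of_closedPoints_subset X sX T (hSirr T hT) W hcov
  obtain ⟨x₀, hx₀⟩ := (hSirr T hT).nonempty
  by_cases hfn : f n ∈ S'
  · refine ⟨f n, hfn, ?_⟩
    simpa only [W, if_pos hfn] using hn
  · exfalso
    have : x₀ ∈ W n := hn hx₀
    simp only [W, if_neg hfn] at this
    exact this

theorem decomp_unique {k : Type u} [Field k] [Uncountable k]
    (X : Scheme.{u}) (sX : X ⟶ Spec (CommRingCat.of k)) [LocallyOfFiniteType sX]
    (S S' : Set (Closeds X)) (hSc : S.Countable) (hS'c : S'.Countable)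
    (hSirr : ∀ T ∈ S, IsIrreducible (T : Set X)) (hS'irr : ∀ T ∈ S', IsIrreducible (T : Set X))
    (hSanti : IsAntichain (· ≤ ·) S) (hS'anti : IsAntichain (· ≤ ·) S')
    (heq : {x : X | IsClosed ({x} : Set X) ∧ ∃ T ∈ S, x ∈ T} =
      {x : X | IsClosed ({x} : Set X) ∧ ∃ T ∈ S', x ∈ T}) : S = S' := by
  have h1 := exists_le_of_subset X sX S S' hS'c hSirr heq.le
  have h2 := exists_le_of_subset X sX S' S hSc hS'irr heq.ge
  apply Set.Subset.antisymm
  · intro T hT
    obtain ⟨T', hT', hle⟩ := h1 T hT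
    obtain ⟨T'', hT'', hle'⟩ := h2 T' hT'
    have : T = T'' := by
      by_contra hne
      exact hSanti hT hT'' hne (hle.trans hle')
    subst this
    have : T = T' := le_antisymm hle hle'
    exact this ▸ hT'
  · intro T hT
    obtain ⟨T', hT', hle⟩ := h2 T hT
    obtain ⟨T'', hT'', hle'⟩ := h1 T' hT'
    have : T = T'' := by
      by_contra hne
      exact hS'anti hT hT'' hne (hle.trans hle')
    subst this
    have : T = T' := le_antisymm hle hle'
    exact this ▸ hT'

theorem existsUnique_decomp (k : Type u) [Field k] [Uncountable k] (X : Scheme.{u}) (sX : X ⟶ Spec (CommRingCat.of k))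
    [LocallyOfFiniteType sX] [QuasiCompact sX] (Z : ℕ → TopologicalSpace.Closeds X) :
    ∃! S : Set (TopologicalSpace.Closeds X), S.Countable ∧ (∀ T ∈ S, IsIrreducible (T : Set X)) ∧
      IsAntichain (· ≤ ·) S ∧
      {x : X | IsClosed ({x} : Set X) ∧ ∃ T ∈ S, x ∈ T} =
        {x : X | IsClosed ({x} : Set X) ∧ ∃ n, x ∈ Z n} := by
  obtain ⟨S, hSc, hSirr, hSanti, hSU⟩ := exists_decomp X sX Z
  have hSeq : {x : X | IsClosed ({x} : Set X) ∧ ∃ T ∈ S, x ∈ T} =
      {x : X | IsClosed ({x} : Set X) ∧ ∃ n, x ∈ Z n} := by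
    ext x
    simp only [Set.mem_ofPred_eq]
    refine and_congr_right fun _ => ?_
    have := Set.ext_iff.mp hSU x
    simp only [Set.mem_iUnion, SetLike.mem_coe, exists_prop] at this
    exact this
  refine ⟨S, ⟨hSc, hSirr, hSanti, hSeq⟩, ?_⟩
  rintro S' ⟨hS'c, hS'irr, hS'anti, hS'eq⟩
  exact decomp_unique X sX S' S hS'c hSc hS'irr hSirr hS'anti hSanti (hS'eq.trans hSeq.symm)


end Groth.Agent.Lib.Seat80.Decomp
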