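/-
Seat80: the maximal irreducible closed subsets through the neutral point inside a subgroup of
k-points of an abelian variety which is a countable union of closed subsets.  Translation argument:
translations by k-points are homeomorphisms, the group of k-points is commutative, and an
irreducible closed set whose closed points are covered by countably many closed subsets lies in one.
-/
import Mathlib
import Groth.Agent.Lib.Seat80Decomp
set_option autoImplicit false
universe u v
open CategoryTheory MonoidalCategory CartesianMonoidalCategory MonObj GrpObj AlgebraicGeometry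
open TopologicalSpace

namespace Groth.Agent.Lib.Seat80.AbSub

section Abstract

variable {C : Type u} [Category.{v} C] [CartesianMonoidalCategory C] {G : C} [GrpObj G]

/-- left translation by a global point -/
def transl (a : 𝟙_ C ⟶ G) : G ⟶ G := (toUnit G ≫ a) * 𝟙 G

theorem comp_transl {T : C} (f : T ⟶ G) (a : 𝟙_ C ⟶ G) : f ≫ transl a = (toUnit T ≫ a) * f := by
  unfold transl
  rw [MonObj.comp_mul, Category.comp_id, ← Category.assoc]
  congr 2
  exact toUnit_unique _ _

theorem point_comp_transl (x a : 𝟙_ C ⟶ G) : x ≫ transl a = a * x := by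
  rw [comp_transl]
  congr 1
  rw [toUnit_unique (toUnit (𝟙_ C)) (𝟙 _), Category.id_comp]

theorem transl_comp (a b : 𝟙_ C ⟶ G) : transl a ≫ transl b = transl (b * a) := by
  rw [comp_transl]
  unfold transl
  rw [← _root_.mul_assoc, MonObj.comp_mul]

theorem transl_one : transl (1 : 𝟙_ C ⟶ G) = 𝟙 G := by
  unfold transl
  rw [MonObj.comp_one, _root_.one_mul]

theorem transl_inv_comp (a : 𝟙_ C ⟶ G) : transl a⁻¹ ≫ transl a = 𝟙 G := by
  rw [transl_comp, _root_.mul_inv_cancel, transl_one]

theorem transl_comp_inv (a : 𝟙_ C ⟶ G) : transl a ≫ transl a⁻¹ = 𝟙 G := by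
  rw [transl_comp, _root_.inv_mul_cancel, transl_one]

end Abstract

section Sch

variable {k : Type u} [Field k] (A : Over (Spec (CommRingCat.of k)))

/-- the image point of a k-point -/
noncomputable def pt (x : 𝟙_ (Over (Spec (CommRingCat.of k))) ⟶ A) : A.left :=
  x.left.base (default : Spec (CommRingCat.of k))

theorem range_eq (x : 𝟙_ (Over (Spec (CommRingCat.of k))) ⟶ A) :
    Set.range ⇑x.left.base = {pt A x} := by
  apply Set.eq_singleton_iff_unique_mem.mpr
  refine ⟨⟨(default : Spec (CommRingCat.of k)), rfl⟩, ?_⟩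
  rintro _ ⟨y, rfl⟩
  exact congrArg _ (Subsingleton.elim (α := Spec (CommRingCat.of k)) y default)

theorem range_sub_iff (x : 𝟙_ (Over (Spec (CommRingCat.of k))) ⟶ A) (T : Set A.left) :
    Set.range ⇑x.left.base ⊆ T ↔ pt A x ∈ T := by
  rw [range_eq, Set.singleton_subset_iff]

section Grp

variable [GrpObj A]

/-- translation homeomorphism -/
noncomputable def trH (a : 𝟙_ (Over (Spec (CommRingCat.of k))) ⟶ A) : A.left ≃ₜ A.left where
  toFun := (transl a).left.base
  invFun := (transl a⁻¹).left.base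
  left_inv p := by
    have := transl_comp_inv a
    have h2 := congrArg (fun f => f.left) this
    simp only [Over.comp_left, Over.id_left] at h2
    have h3 := congrArg (fun f : A.left ⟶ A.left => f.base p) h2
    simpa using h3
  right_inv p := by
    have := transl_inv_comp a
    have h2 := congrArg (fun f => f.left) this
    simp only [Over.comp_left, Over.id_left] at h2
    have h3 := congrArg (fun f : A.left ⟶ A.left => f.base p) h2
    simpa using h3
  continuous_toFun := (transl a).left.continuous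
  continuous_invFun := (transl a⁻¹).left.continuous

theorem trH_pt (a x : 𝟙_ (Over (Spec (CommRingCat.of k))) ⟶ A) : trH A a (pt A x) = pt A (a * x) := by
  have := point_comp_transl x a
  have h2 := congrArg (fun f => f.left) this
  simp only [Over.comp_left] at h2
  have h3 := congrArg (fun f : (𝟙_ (Over (Spec (CommRingCat.of k)))).left ⟶ A.left =>
    f.base (default : Spec (CommRingCat.of k))) h2
  exact h3

/-- preimage of a closed subset under translation -/
noncomputable def tau (a : 𝟙_ (Over (Spec (CommRingCat.of k))) ⟶ A) (T : Closeds A.left) : Closeds A.left :=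
  ⟨trH A a ⁻¹' (T : Set A.left), T.isClosed.preimage (trH A a).continuous⟩

theorem mem_tau (a : 𝟙_ (Over (Spec (CommRingCat.of k))) ⟶ A) (T : Closeds A.left) (p : A.left) :
    p ∈ tau A a T ↔ trH A a p ∈ T := Iff.rfl

theorem pt_mem_tau (a x : 𝟙_ (Over (Spec (CommRingCat.of k))) ⟶ A) (T : Closeds A.left) :
    pt A x ∈ tau A a T ↔ pt A (a * x) ∈ T := by
  rw [mem_tau, trH_pt]

theorem isIrreducible_tau (a : 𝟙_ (Over (Spec (CommRingCat.of k))) ⟶ A) (T : Closeds A.left)
    (hT : IsIrreducible (T : Set A.left)) : IsIrreducible (tau A a T : Set A.left) := by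
  have : (tau A a T : Set A.left) = (trH A a).symm '' (T : Set A.left) := by
    rw [Homeomorph.image_symm]
    rfl
  rw [this]
  exact hT.image _ (trH A a).symm.continuous.continuousOn

end Grp

variable [IsAlgClosed k] [LocallyOfFiniteType A.hom]

theorem isClosed_pt (x : 𝟙_ (Over (Spec (CommRingCat.of k))) ⟶ A) : IsClosed ({pt A x} : Set A.left) := by
  have hx : x.left ≫ A.hom = 𝟙 _ := by
    simp
  have := (pointEquivClosedPoint A.hom ⟨x.left, hx⟩).2
  have h2 : ((pointEquivClosedPoint A.hom ⟨x.left, hx⟩) : A.left) = pt A x := by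
    change x.left.base _ = x.left.base _
    exact congrArg _ (Subsingleton.elim (α := Spec (CommRingCat.of k)) _ _)
  rw [← h2]
  exact this

theorem exists_pt_eq (p : A.left) (hp : IsClosed ({p} : Set A.left)) :
    ∃ x : 𝟙_ (Over (Spec (CommRingCat.of k))) ⟶ A, pt A x = p := by
  refine ⟨Over.homMk (pointOfClosedPoint A.hom p hp) (by simp), ?_⟩
  change (pointOfClosedPoint A.hom p hp) _ = p
  simp

theorem le_of_pt (T T' : Closeds A.left)
    (h : ∀ x : 𝟙_ (Over (Spec (CommRingCat.of k))) ⟶ A, pt A x ∈ T → pt A x ∈ T') : T ≤ T' := by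
  have : JacobsonSpace A.left := LocallyOfFiniteType.jacobsonSpace A.hom
  intro p hp
  have h1 : closure ((T : Set A.left) ∩ closedPoints A.left) = closure (T : Set A.left) :=
    JacobsonSpace.closure_inter_closedPoints_eq_closure T.isClosed.isLocallyClosed
  have h2 : (T : Set A.left) ∩ closedPoints A.left ⊆ (T' : Set A.left) := by
    rintro q ⟨hqT, hq⟩
    obtain ⟨x, rfl⟩ := exists_pt_eq A q hq
    exact h x hqT
  have h3 : closure (T : Set A.left) ⊆ T' := by
    rw [← h1]
    exact closure_minimal h2 T'.isClosed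
  exact h3 (subset_closure hp)

end Sch

section Main

open Groth.Agent.Lib.Seat80.Decomp

theorem main (k : Type u) [Field k] [IsAlgClosed k] [Uncountable k]
    (A : Over (Spec (CommRingCat.of k))) [GrpObj A]
    [IsProper A.hom] [GeometricallyIntegral A.hom]
    (K : Subgroup (𝟙_ (Over (Spec (CommRingCat.of k))) ⟶ A))
    (Z : ℕ → Closeds A.left)
    (hK : ∀ x : 𝟙_ (Over (Spec (CommRingCat.of k))) ⟶ A,
      x ∈ K ↔ pt A x ∈ ⋃ n, (Z n : Set A.left)) :
    (∃! T : Closeds A.left,
      Maximal (fun T : Closeds A.left => IsIrreducible (T : Set A.left) ∧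
        ∀ x : 𝟙_ (Over (Spec (CommRingCat.of k))) ⟶ A, pt A x ∈ (T : Set A.left) → x ∈ K) T ∧
      pt A (1 : 𝟙_ (Over (Spec (CommRingCat.of k))) ⟶ A) ∈ (T : Set A.left)) ∧
    ∀ T : Closeds A.left,
      Maximal (fun T : Closeds A.left => IsIrreducible (T : Set A.left) ∧
        ∀ x : 𝟙_ (Over (Spec (CommRingCat.of k))) ⟶ A, pt A x ∈ (T : Set A.left) → x ∈ K) T →
      pt A (1 : 𝟙_ (Over (Spec (CommRingCat.of k))) ⟶ A) ∈ (T : Set A.left) →
      (∃ n, (T : Set A.left) ⊆ (Z n : Set A.left)) ∧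
      ∀ x y : 𝟙_ (Over (Spec (CommRingCat.of k))) ⟶ A,
        pt A x ∈ (T : Set A.left) → pt A y ∈ (T : Set A.left) →
        pt A (x * y⁻¹) ∈ (T : Set A.left) := by
  classical
  have hcommObj : IsCommMonObj A := isCommMonObj_of_isProper_of_geometricallyIntegral A
  have mulc : ∀ a b : 𝟙_ (Over (Spec (CommRingCat.of k))) ⟶ A, a * b = b * a :=
    fun a b => _root_.mul_comm a b
  set Adm : Closeds A.left → Prop := fun T => IsIrreducible (T : Set A.left) ∧
        ∀ x : 𝟙_ (Over (Spec (CommRingCat.of k))) ⟶ A, pt A x ∈ (T : Set A.left) → x ∈ K with hAdm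
  -- the decomposition of the union
  obtain ⟨Sd, hSdc, hSdirr, -, hSdU⟩ := exists_decomp A.left A.hom Z
  have hAdmSd : ∀ T ∈ Sd, Adm T := by
    intro T hT
    refine ⟨hSdirr T hT, fun x hx => ?_⟩
    rw [hK, ← hSdU]
    exact Set.mem_biUnion hT hx
  have hleSd : ∀ T, Adm T → ∃ T' ∈ Sd, T ≤ T' := by
    intro T hT
    refine exists_le_of_subset A.left A.hom {T} Sd hSdc ?_ ?_ T rfl
    · rintro T' rfl
      exact hT.1
    · rintro p ⟨hp, T', rfl, hpT⟩
      refine ⟨hp, ?_⟩
      obtain ⟨x, rfl⟩ := exists_pt_eq A p hp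
      have hx : x ∈ K := hT.2 x hpT
      rw [hK, ← hSdU] at hx
      simpa using hx
  have hmaxex : ∀ T, Adm T → ∃ T', Maximal Adm T' ∧ T ≤ T' := by
    intro T hT
    obtain ⟨T', hT', hle, hmax⟩ := exists_maximal_above (fun T => coheight_lt_top A.left A.hom T)
      {T | Adm T} (fun T hT => hT.1) T hT
    refine ⟨T', ⟨hT', fun T'' hT'' hle' => ?_⟩, hle⟩
    exact (hmax T'' hT'' hle').le
  -- translation preserves admissibility
  have hAdmTau : ∀ a ∈ K, ∀ T, Adm T → Adm (tau A a T) := by
    intro a ha T hT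
    refine ⟨isIrreducible_tau A a T hT.1, fun x hx => ?_⟩
    have h1 : a * x ∈ K := hT.2 _ ((pt_mem_tau A a x T).mp hx)
    have h2 : a⁻¹ * (a * x) ∈ K := K.mul_mem (K.inv_mem ha) h1
    rwa [inv_mul_cancel_left] at h2
  -- the key claim
  have key : ∀ T₁ T₂ : Closeds A.left, Maximal Adm T₁ → Maximal Adm T₂ →
      pt A (1 : 𝟙_ (Over (Spec (CommRingCat.of k))) ⟶ A) ∈ (T₁ : Set A.left) →
      ∀ a t : 𝟙_ (Over (Spec (CommRingCat.of k))) ⟶ A, pt A a ∈ (T₁ : Set A.left) →
        pt A t ∈ (T₂ : Set A.left) → pt A (t * a) ∈ (T₂ : Set A.left) := by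
    intro T₁ T₂ hT₁ hT₂ h1
    let F : Closeds A.left → Closeds A.left := fun T =>
      ⟨⋂ t ∈ {t : 𝟙_ (Over (Spec (CommRingCat.of k))) ⟶ A | pt A t ∈ (T₂ : Set A.left)},
        (trH A t ⁻¹' (T : Set A.left)),
        isClosed_biInter (fun t _ => T.isClosed.preimage (trH A t).continuous)⟩
    have hF : ∀ (T : Closeds A.left) (p : A.left), p ∈ F T ↔
        ∀ t : 𝟙_ (Over (Spec (CommRingCat.of k))) ⟶ A, pt A t ∈ (T₂ : Set A.left) → trH A t p ∈ T := by
      intro T p
      change p ∈ (⋂ t ∈ {t : 𝟙_ (Over (Spec (CommRingCat.of k))) ⟶ A | pt A t ∈ (T₂ : Set A.left)},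
        (trH A t ⁻¹' (T : Set A.left))) ↔ _
      simp only [Set.mem_iInter, Set.mem_ofPred_eq, Set.mem_preimage]
      rfl
    obtain ⟨T', ⟨T, hTSd, rfl⟩, hle⟩ := exists_le_of_subset A.left A.hom {T₁} (F '' Sd) (hSdc.image F)
      (by rintro T' rfl; exact hT₁.prop.1)
      (by
        rintro p ⟨hp, T', rfl, hpT⟩
        refine ⟨hp, ?_⟩
        obtain ⟨a, rfl⟩ := exists_pt_eq A p hp
        have ha : a ∈ K := hT₁.prop.2 a hpT
        obtain ⟨T'', hT''Sd, hle''⟩ := hleSd _ (hAdmTau a⁻¹ (K.inv_mem ha) T₂ hT₂.prop)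
        refine ⟨F T'', ⟨T'', hT''Sd, rfl⟩, ?_⟩
        rw [hF]
        intro t ht
        rw [trH_pt]
        apply hle''
        rw [pt_mem_tau]
        have : a⁻¹ * (t * a) = t := by
          rw [mulc t a, inv_mul_cancel_left]
        rw [this]
        exact ht) T₁ rfl
    -- T₂ ≤ T, hence T = T₂
    have hT₂T : T₂ ≤ T := by
      apply le_of_pt
      intro t ht
      have := (hF T _).mp (hle h1) t ht
      rw [trH_pt, _root_.mul_one] at this
      exact this
    have hTT₂ : T ≤ T₂ := hT₂.le_of_ge (hAdmSd T hTSd) hT₂T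
    intro a t ha ht
    have := (hF T _).mp (hle ha) t ht
    rw [trH_pt] at this
    exact hTT₂ this
  -- admissibility of the neutral point
  have hone : (1 : 𝟙_ (Over (Spec (CommRingCat.of k))) ⟶ A) ∈ K := K.one_mem
  have hAdm1 : Adm ⟨{pt A (1 : 𝟙_ (Over (Spec (CommRingCat.of k))) ⟶ A)}, isClosed_pt A 1⟩ := by
    refine ⟨isIrreducible_singleton, fun x hx => ?_⟩
    have hx' : pt A x = pt A 1 := hx
    rw [hK, hx', ← hK]
    exact hone
  -- uniqueness
  have huniq : ∀ T₁ T₂ : Closeds A.left, Maximal Adm T₁ → Maximal Adm T₂ →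
      pt A (1 : 𝟙_ (Over (Spec (CommRingCat.of k))) ⟶ A) ∈ (T₁ : Set A.left) →
      pt A (1 : 𝟙_ (Over (Spec (CommRingCat.of k))) ⟶ A) ∈ (T₂ : Set A.left) → T₁ ≤ T₂ := by
    intro T₁ T₂ hT₁ hT₂ h1 h2
    apply le_of_pt
    intro a ha
    have := key T₁ T₂ hT₁ hT₂ h1 a 1 ha h2
    rwa [_root_.one_mul] at this
  refine ⟨?_, ?_⟩
  · obtain ⟨T, hT, hle⟩ := hmaxex _ hAdm1
    refine ⟨T, ⟨hT, hle (Set.mem_singleton _)⟩, ?_⟩
    rintro T' ⟨hT', h1'⟩
    exact le_antisymm (huniq T' T hT' hT h1' (hle (Set.mem_singleton _)))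
      (huniq T T' hT hT' (hle (Set.mem_singleton _)) h1')
  · intro T hT h1
    refine ⟨?_, ?_⟩
    · obtain ⟨n, hn⟩ := exists_le_of_closedPoints_subset A.left A.hom T hT.prop.1 Z (by
        intro p hp hpT
        obtain ⟨x, rfl⟩ := exists_pt_eq A p hp
        have hx : x ∈ K := hT.prop.2 x hpT
        rw [hK] at hx
        simpa using hx)
      exact ⟨n, hn⟩
    · have hmul : ∀ a t : 𝟙_ (Over (Spec (CommRingCat.of k))) ⟶ A, pt A a ∈ (T : Set A.left) →
          pt A t ∈ (T : Set A.left) → pt A (t * a) ∈ (T : Set A.left) := key T T hT hT h1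
      intro x y hx hy
      have hyK : y ∈ K := hT.prop.2 y hy
      have hle : T ≤ tau A y T := by
        apply le_of_pt
        intro t ht
        rw [pt_mem_tau]
        exact hmul t y ht hy
      have hge : tau A y T ≤ T := hT.le_of_ge (hAdmTau y hyK T hT.prop) hle
      have hyinv : pt A y⁻¹ ∈ (T : Set A.left) := by
        apply hge
        rw [pt_mem_tau, _root_.mul_inv_cancel]
        exact h1
      exact hmul y⁻¹ x hyinv hx

end Main

end Groth.Agent.Lib.Seat80.AbSub
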