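import Mathlib
import Groth.Prelude.Def_FSch3

/-!
# Seat 80: comparison of adic completions for comparable topologies, and finiteness of `R̂ → Ŝ`

* `complMap_id_bijective`: if `I ≤ K` and `K ^ k ≤ I` then `AdicCompletion I S → AdicCompletion K S`
  is bijective.
* `complMap_finite`: complete Nakayama: `R̂ → Ŝ` is finite when `S/mS` is finite over `R` and
  `n ^ k ≤ mS` (`m`, `n` finitely generated).
* `main`: S9138.
-/

set_option autoImplicit false
universe u

namespace Groth.Agent.Lib.Seat80.AdicFin

open AdicCompletion TensorProduct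

theorem evalₐ_complMap {S T : Type u} [CommRing S] [CommRing T] (I : Ideal S) (K : Ideal T)
    (g : S →+* T) (h : I.map g ≤ K) (n : ℕ) (c : AdicCauchySequence I S) :
    evalₐ K n (FSch.complMap I K g h (AdicCompletion.mk I S c)) =
      Ideal.Quotient.mk (K ^ n) (g (c n)) := by
  have key : ∀ (f : (n : ℕ) → AdicCompletion I S →+* T ⧸ K ^ n)
      (hf : ∀ {m n : ℕ} (hle : m ≤ n), (Ideal.Quotient.factorPow K hle).comp (f n) = f m)
      (x : AdicCompletion I S), evalₐ K n (liftRingHom K f hf x) = f n x :=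
    fun f hf x => evalₐ_liftRingHom K f hf n x
  unfold FSch.complMap
  rw [key]
  · simp
  · intro m n hle
    apply RingHom.ext
    intro x
    obtain ⟨y, rfl⟩ := AdicCompletion.mk_surjective I S x
    simp only [RingHom.coe_comp, Function.comp_apply, AlgHom.toRingHom_eq_coe, AlgHom.coe_toRingHom,
      AdicCompletion.evalₐ_mk, Ideal.quotientMap_mk, Ideal.Quotient.factorPow, Ideal.Quotient.factor_mk]
    rw [Ideal.Quotient.eq]
    have hy := y.2 hle
    rw [SModEq.sub_mem] at hy
    simp only [smul_eq_mul, Ideal.mul_top] at hy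
    rw [← map_sub]
    have hy' : (y : ℕ → S) n - (y : ℕ → S) m ∈ I ^ m := by
      rw [← neg_sub]; exact (I ^ m).neg_mem hy
    exact FSch.pow_le_comap_pow_of_map_le I K g h m hy'

theorem complMap_id_bijective {S : Type u} [CommRing S] (I K : Ideal S) (h' : I.map (RingHom.id S) ≤ K) (k : ℕ)
    (hk : K ^ k ≤ I) : Function.Bijective (FSch.complMap I K (RingHom.id S) h') := by
  have hIK : I ≤ K := by simpa using h'
  have hpow : ∀ n : ℕ, K ^ ((k + 1) * n) ≤ I ^ n := by
    intro n
    calc K ^ ((k + 1) * n) = (K ^ (k + 1)) ^ n := pow_mul _ _ _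
      _ ≤ (K ^ k) ^ n := Ideal.pow_right_mono (Ideal.pow_le_pow_right (Nat.le_succ k)) n
      _ ≤ I ^ n := Ideal.pow_right_mono hk n
  have hle : ∀ n : ℕ, n ≤ (k + 1) * n := fun n => Nat.le_mul_of_pos_left n (Nat.succ_pos k)
  constructor
  · rw [injective_iff_map_eq_zero]
    intro x hx
    obtain ⟨c, rfl⟩ := AdicCompletion.mk_surjective I S x
    apply ext_evalₐ
    intro n
    rw [_root_.map_zero, evalₐ_mk, Ideal.Quotient.eq_zero_iff_mem]
    have h1 : c ((k + 1) * n) ∈ K ^ ((k + 1) * n) := by
      have := congrArg (evalₐ K ((k + 1) * n)) hx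
      rw [evalₐ_complMap, _root_.map_zero, Ideal.Quotient.eq_zero_iff_mem] at this
      simpa using this
    have h2 : c n - c ((k + 1) * n) ∈ I ^ n := by
      have := c.2 (hle n)
      rw [SModEq.sub_mem] at this
      simpa using this
    have : c n = (c n - c ((k + 1) * n)) + c ((k + 1) * n) := by ring
    rw [this]
    exact Ideal.add_mem _ h2 (hpow n h1)
  · intro y
    obtain ⟨d, rfl⟩ := AdicCompletion.mk_surjective K S y
    have hc : IsAdicCauchy I S (fun n => d ((k + 1) * n)) := by
      intro m n hmn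
      rw [SModEq.sub_mem]
      have := d.2 (Nat.mul_le_mul_left (k + 1) hmn)
      rw [SModEq.sub_mem] at this
      simp only [smul_eq_mul, Ideal.mul_top] at this ⊢
      exact hpow m this
    refine ⟨AdicCompletion.mk I S ⟨_, hc⟩, ?_⟩
    apply ext_evalₐ
    intro n
    rw [evalₐ_complMap, evalₐ_mk, Ideal.Quotient.eq]
    have := d.2 (hle n)
    rw [SModEq.sub_mem] at this
    simp only [smul_eq_mul, Ideal.mul_top] at this
    have h3 : d ((k + 1) * n) - d n ∈ K ^ n := by
      rw [← neg_sub]; exact (K ^ n).neg_mem this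
    simpa using h3

theorem isPrecomplete_pi {A : Type*} [CommRing A] (I : Ideal A) [IsPrecomplete I A] (r : ℕ) :
    IsPrecomplete I (Fin r → A) := by
  rw [isPrecomplete_iff]
  intro f hf
  have hcomp : ∀ i : Fin r, ∃ L : A, ∀ n, f n i ≡ L [SMOD (I ^ n • ⊤ : Submodule A A)] := by
    intro i
    apply (isPrecomplete_iff.mp ‹IsPrecomplete I A›)
    intro m n hmn
    have := hf hmn
    rw [SModEq.sub_mem] at this ⊢
    have h2 : (LinearMap.proj i : (Fin r → A) →ₗ[A] A) (f m - f n) ∈
        (I ^ m • ⊤ : Submodule A A) := by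
      have := Submodule.mem_map_of_mem (f := (LinearMap.proj i : (Fin r → A) →ₗ[A] A)) this
      rw [Submodule.map_smul''] at this
      exact Submodule.smul_mono le_rfl le_top this
    simpa using h2
  choose L hL using hcomp
  refine ⟨L, fun n => ?_⟩
  rw [SModEq.sub_mem]
  have : f n - L = ∑ i, (f n i - L i) • (Pi.single i (1 : A) : Fin r → A) := by
    ext j
    simp [Finset.sum_apply, Pi.single_apply]
  rw [this]
  refine Submodule.sum_mem _ fun i _ => ?_
  have hi := hL i n
  rw [SModEq.sub_mem] at hi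
  simp only [smul_eq_mul, Ideal.mul_top] at hi
  exact Submodule.smul_mem_smul hi Submodule.mem_top

/-- `complMap` on an element whose `n`-th component is represented by `a`. -/
theorem evalₐ_complMap_of_evalₐ {S T : Type u} [CommRing S] [CommRing T] (I : Ideal S) (K : Ideal T)
    (g : S →+* T) (h : I.map g ≤ K) (n : ℕ) (x : AdicCompletion I S) (a : S)
    (hx : evalₐ I n x = Ideal.Quotient.mk (I ^ n) a) :
    evalₐ K n (FSch.complMap I K g h x) = Ideal.Quotient.mk (K ^ n) (g a) := by
  obtain ⟨c, rfl⟩ := AdicCompletion.mk_surjective I S x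
  rw [evalₐ_complMap, Ideal.Quotient.eq, ← map_sub]
  rw [evalₐ_mk, Ideal.Quotient.eq] at hx
  exact FSch.pow_le_comap_pow_of_map_le I K g h n hx

theorem complMap_algebraMap {S T : Type u} [CommRing S] [CommRing T] (I : Ideal S) (K : Ideal T)
    (g : S →+* T) (h : I.map g ≤ K) (a : S) :
    FSch.complMap I K g h (algebraMap S (AdicCompletion I S) a) =
      algebraMap T (AdicCompletion K T) (g a) := by
  apply ext_evalₐ
  intro n
  rw [evalₐ_complMap_of_evalₐ I K g h n _ a]
  · rw [AdicCompletion.algebraMap_apply, evalₐ_of]; rfl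
  · rw [AdicCompletion.algebraMap_apply, evalₐ_of]; rfl

theorem ker_evalₐ_le_map {S : Type u} [CommRing S] (n : Ideal S) (hn : n.FG) (k : ℕ) :
    RingHom.ker (evalₐ n k).toRingHom ≤ (n ^ k).map (algebraMap S (AdicCompletion n S)) := by
  intro x hx
  rw [RingHom.mem_ker] at hx
  have h1 : x ∈ (n ^ k • ⊤ : Submodule S (AdicCompletion n S)) := by
    rw [pow_smul_top_eq_ker_eval hn, LinearMap.mem_ker,
      ← factor_evalₐ_eq_eval n x (le_of_eq (Ideal.mul_top _).symm)]
    change Ideal.Quotient.factor _ (evalₐ n k x) = 0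
    rw [show evalₐ n k x = 0 from hx, _root_.map_zero]
  rw [Ideal.smul_top_eq_map] at h1
  exact h1

theorem complMap_finite {R S : Type u} [CommRing R] [CommRing S] (g : R →+* S) (m : Ideal R)
    (n : Ideal S) (hm : m.FG) (hn : n.FG) (h : m.map g ≤ n) (k : ℕ) (hk : n ^ k ≤ m.map g)
    (r : ℕ) (s : Fin r → S)
    (hs : ∀ x : S, ∃ a : Fin r → R, x - ∑ i, g (a i) * s i ∈ m.map g) :
    (FSch.complMap m n g h).Finite := by
  set φ := FSch.complMap m n g h with hφ
  algebraize [φ]
  set I' : Ideal (AdicCompletion m R) := m.map (algebraMap R (AdicCompletion m R)) with hI'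
  have : IsAdicComplete I' (AdicCompletion m R) := AdicCompletion.isAdicComplete_self m hm
  have : IsPrecomplete I' (Fin r → AdicCompletion m R) := isPrecomplete_pi I' r
  -- the ideal of `Ŝ` generated by `m`
  set J : Ideal (AdicCompletion n S) := I'.map φ with hJ
  have hJ' : (I' • ⊤ : Submodule (AdicCompletion m R) (AdicCompletion n S)) =
      J.restrictScalars (AdicCompletion m R) := by
    rw [Ideal.smul_top_eq_map]
    rfl
  -- `of ∘ g = φ ∘ of`
  have hcomm : ∀ a : R, φ (algebraMap R (AdicCompletion m R) a) =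
      algebraMap S (AdicCompletion n S) (g a) := fun a => complMap_algebraMap m n g h a
  have hJmap : (m.map g).map (algebraMap S (AdicCompletion n S)) ≤ J := by
    rw [Ideal.map_map, hJ, hI', Ideal.map_map]
    have : (algebraMap S (AdicCompletion n S)).comp g =
        φ.comp (algebraMap R (AdicCompletion m R)) := by
      refine RingHom.ext fun a => ?_
      exact (hcomm a).symm
    rw [this]
  -- Hausdorff
  have hker : ∀ j : ℕ, I' ^ j ≤ (RingHom.ker (evalₐ n j).toRingHom).comap φ := by
    intro j
    rw [hI', ← Ideal.map_pow, Ideal.map_le_iff_le_comap]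
    intro a ha
    rw [Ideal.mem_comap, Ideal.mem_comap, RingHom.mem_ker, hcomm]
    change evalₐ n j (algebraMap S (AdicCompletion n S) (g a)) = 0
    rw [AdicCompletion.algebraMap_apply, evalₐ_of, Ideal.Quotient.eq_zero_iff_mem]
    exact FSch.pow_le_comap_pow_of_map_le m n g h j ha
  have : IsHausdorff I' (AdicCompletion n S) := by
    refine ⟨fun x hx => ?_⟩
    apply ext_evalₐ
    intro j
    rw [_root_.map_zero]
    have hxj := hx j
    rw [SModEq.zero] at hxj
    have hle : (I' ^ j • ⊤ : Submodule (AdicCompletion m R) (AdicCompletion n S)) ≤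
        (RingHom.ker (evalₐ n j).toRingHom).restrictScalars (AdicCompletion m R) := by
      rw [Submodule.smul_le]
      intro a ha y _
      have h1 := hker j ha
      rw [Ideal.mem_comap] at h1
      change a • y ∈ RingHom.ker (evalₐ n j).toRingHom
      rw [Algebra.smul_def]
      exact Ideal.mul_mem_right _ _ h1
    exact hle hxj
  -- the generating map
  let f : (Fin r → AdicCompletion m R) →ₗ[AdicCompletion m R] AdicCompletion n S :=
    Fintype.linearCombination (AdicCompletion m R)
      (fun i => algebraMap S (AdicCompletion n S) (s i))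
  have hsurj : Function.Surjective ((I' • ⊤ : Submodule (AdicCompletion m R)
      (AdicCompletion n S)).mkQ ∘ₗ f) := by
    intro z
    obtain ⟨y, rfl⟩ := Submodule.mkQ_surjective _ z
    obtain ⟨d, rfl⟩ := AdicCompletion.mk_surjective n S y
    obtain ⟨a, ha⟩ := hs (d k)
    refine ⟨fun i => algebraMap R (AdicCompletion m R) (a i), ?_⟩
    rw [LinearMap.comp_apply, Submodule.mkQ_apply, Submodule.mkQ_apply, Submodule.Quotient.eq, hJ']
    change _ ∈ J
    have h1 : AdicCompletion.mk n S d - algebraMap S (AdicCompletion n S) (d k) ∈ J := by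
      apply hJmap
      apply Ideal.map_mono hk
      apply ker_evalₐ_le_map n hn k
      rw [RingHom.mem_ker]
      change evalₐ n k _ = 0
      rw [map_sub, evalₐ_mk, AdicCompletion.algebraMap_apply, evalₐ_of, sub_eq_zero]
      rfl
    have h2 : algebraMap S (AdicCompletion n S) (d k - ∑ i, g (a i) * s i) ∈ J :=
      hJmap (Ideal.mem_map_of_mem _ ha)
    have h3 : f (fun i => algebraMap R (AdicCompletion m R) (a i)) =
        algebraMap S (AdicCompletion n S) (∑ i, g (a i) * s i) := by
      simp only [f, Fintype.linearCombination_apply, map_sum, map_mul]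
      refine Finset.sum_congr rfl fun i _ => ?_
      rw [Algebra.smul_def]
      exact congrArg (· * _) (hcomm (a i))
    have : f (fun i => algebraMap R (AdicCompletion m R) (a i)) - AdicCompletion.mk n S d =
        -((AdicCompletion.mk n S d - algebraMap S (AdicCompletion n S) (d k)) +
          algebraMap S (AdicCompletion n S) (d k - ∑ i, g (a i) * s i)) := by
      rw [h3, map_sub]; ring
    rw [this]
    exact J.neg_mem (J.add_mem h1 h2)
  exact Module.Finite.of_surjective f (surjective_of_mkQ_comp_surjective hsurj)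

theorem finite_quotient_of_fiber (R S : Type u) [CommRing R] [CommRing S] [IsLocalRing R]
    [Algebra R S]
    (hfib : Module.Finite (IsLocalRing.maximalIdeal R).ResidueField
      ((IsLocalRing.maximalIdeal R).Fiber S)) :
    Module.Finite R (S ⧸ (IsLocalRing.maximalIdeal R).map (algebraMap R S)) := by
  set m := IsLocalRing.maximalIdeal R
  have h1 : Module.Finite R (m.Fiber S) := Module.Finite.trans m.ResidueField (m.Fiber S)
  let e : (R ⧸ m) ≃ₗ[R] m.ResidueField :=
    (AlgEquiv.ofBijective (IsScalarTower.toAlgHom R (R ⧸ m) m.ResidueField)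
      m.bijective_algebraMap_quotient_residueField).toLinearEquiv
  let e1 : (S ⧸ m.map (algebraMap R S)) ≃ₗ[R] (R ⧸ m) ⊗[R] S :=
    (Algebra.TensorProduct.quotIdealMapEquivQuotTensor S m).toLinearEquiv.restrictScalars R
  let e2 : (R ⧸ m) ⊗[R] S ≃ₗ[R] m.ResidueField ⊗[R] S :=
    TensorProduct.congr e (LinearEquiv.refl R S)
  exact Module.Finite.equiv (e1.trans e2).symm

theorem exists_gens_of_finite_quotient (R S : Type u) [CommRing R] [CommRing S] [Algebra R S]
    (I : Ideal S) [Module.Finite R (S ⧸ I)] :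
    ∃ (r : ℕ) (s : Fin r → S), ∀ x : S, ∃ a : Fin r → R,
      x - ∑ i, algebraMap R S (a i) * s i ∈ I := by
  obtain ⟨r, t, ht⟩ := Module.Finite.exists_fin (R := R) (M := S ⧸ I)
  have hs : ∀ i, ∃ s : S, Ideal.Quotient.mk I s = t i := fun i => Ideal.Quotient.mk_surjective _
  choose s hs using hs
  refine ⟨r, s, fun x => ?_⟩
  have hx : Ideal.Quotient.mk I x ∈ Submodule.span R (Set.range t) := by rw [ht]; trivial
  obtain ⟨a, ha⟩ := (Submodule.mem_span_range_iff_exists_fun R).mp hx
  refine ⟨a, ?_⟩
  rw [← Ideal.Quotient.eq, ← ha, map_sum]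
  refine Finset.sum_congr rfl fun i _ => ?_
  rw [map_mul, hs, Algebra.smul_def]
  rfl

theorem exists_pow_le_of_finite_quotient (R S : Type u) [CommRing R] [CommRing S]
    [IsLocalRing R] [IsLocalRing S] [Algebra R S]
    [Module.Finite R (S ⧸ (IsLocalRing.maximalIdeal R).map (algebraMap R S))] :
    ∃ k : ℕ, IsLocalRing.maximalIdeal S ^ k ≤ (IsLocalRing.maximalIdeal R).map (algebraMap R S) := by
  set m := IsLocalRing.maximalIdeal R
  set I := m.map (algebraMap R S) with hI
  have : Module.Finite (R ⧸ m) (S ⧸ I) := Module.Finite.of_restrictScalars_finite R (R ⧸ m) (S ⧸ I)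
  have : IsArtinianRing (S ⧸ I) := by
    have : m.IsMaximal := IsLocalRing.maximalIdeal.isMaximal R
    letI : Field (R ⧸ m) := Ideal.Quotient.field m
    exact IsArtinianRing.of_finite (R ⧸ m) (S ⧸ I)
  obtain ⟨k, hk⟩ := IsArtinianRing.isNilpotent_jacobson_bot (R := S ⧸ I)
  refine ⟨k, fun x hx => ?_⟩
  have h1 : (IsLocalRing.maximalIdeal S).map (Ideal.Quotient.mk I) ≤
      Ideal.jacobson (⊥ : Ideal (S ⧸ I)) := by
    rw [Ideal.map_le_iff_le_comap]
    intro y hy
    rw [Ideal.mem_comap, Ideal.mem_jacobson_bot]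
    intro z
    obtain ⟨z, rfl⟩ := Ideal.Quotient.mk_surjective z
    rw [← map_mul, ← map_one (Ideal.Quotient.mk I), ← map_add]
    apply IsUnit.map
    by_contra hu
    have h2 : y * z + 1 ∈ IsLocalRing.maximalIdeal S := (IsLocalRing.mem_maximalIdeal _).mpr hu
    have h3 : y * z ∈ IsLocalRing.maximalIdeal S := Ideal.mul_mem_right _ _ hy
    have h4 : (1 : S) ∈ IsLocalRing.maximalIdeal S := by
      have := Ideal.sub_mem _ h2 h3
      simp at this
    exact (Ideal.ne_top_iff_one _).mp (IsLocalRing.maximalIdeal.isMaximal S).ne_top h4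
  have h5 : Ideal.Quotient.mk I x ∈ Ideal.jacobson (⊥ : Ideal (S ⧸ I)) ^ k := by
    apply Ideal.pow_right_mono h1 k
    rw [← Ideal.map_pow]
    exact Ideal.mem_map_of_mem _ hx
  rw [hk] at h5
  exact Ideal.Quotient.eq_zero_iff_mem.mp h5

theorem main (R S : Type u) [CommRing R] [CommRing S]
    [IsLocalRing R] [IsLocalRing S] [Algebra R S] [IsLocalHom (algebraMap R S)]
    (hm : (IsLocalRing.maximalIdeal R).FG) (hn : (IsLocalRing.maximalIdeal S).FG)
    (hfib : Module.Finite (IsLocalRing.maximalIdeal R).ResidueField ((IsLocalRing.maximalIdeal R).Fiber S))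
    (h : (IsLocalRing.maximalIdeal R).map (algebraMap R S) ≤ IsLocalRing.maximalIdeal S)
    (h' : ((IsLocalRing.maximalIdeal R).map (algebraMap R S)).map (RingHom.id S) ≤ IsLocalRing.maximalIdeal S) :
    Function.Bijective (FSch.complMap ((IsLocalRing.maximalIdeal R).map (algebraMap R S))
        (IsLocalRing.maximalIdeal S) (RingHom.id S) h') ∧
      (FSch.complMap (IsLocalRing.maximalIdeal R) (IsLocalRing.maximalIdeal S) (algebraMap R S) h).Finite := by
  have hfin := finite_quotient_of_fiber R S hfib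
  obtain ⟨k, hk⟩ := exists_pow_le_of_finite_quotient R S
  obtain ⟨r, s, hs⟩ := exists_gens_of_finite_quotient R S
    ((IsLocalRing.maximalIdeal R).map (algebraMap R S))
  exact ⟨complMap_id_bijective _ _ h' k hk,
    complMap_finite (algebraMap R S) _ _ hm hn h k hk r s hs⟩

end Groth.Agent.Lib.Seat80.AdicFin
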