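/-
Seat80: the algebra generated by the characteristic-polynomial coefficients of all endomorphisms of a
finite module `E` over a Noetherian ring `A` (with `K ⊗ E` free over the total fraction ring `K`) is a
finite `A`-module.  Proof: the lattice `I ⊆ K` of determinants `det_b(1 ⊗ e_1, …, 1 ⊗ e_n)` is finitely
generated, contains a unit `u` of `K`, and every charpoly coefficient `c` satisfies `c I ⊆ I`
(column expansion of `det (X P - M P)`), so the algebra is contained in `u⁻¹ I`.
-/
import Mathlib
set_option autoImplicit false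
universe u
open Polynomial TensorProduct

namespace Groth.Agent.Lib.Seat80.CharpolyFG

section matrix
variable {K : Type*} [CommRing K] {n : ℕ}

/-- Expansion of `det (X • P - Q)` by columns. -/
theorem det_X_smul_sub (P Q : Matrix (Fin n) (Fin n) K) :
    ((X : K[X]) • P.map C - Q.map C).det = ∑ s : Finset (Fin n),
      (∏ j, (if j ∈ s then (X : K[X]) else -1)) *
        C (Matrix.det (Matrix.of fun i j => if j ∈ s then P i j else Q i j)) := by
  rw [← Matrix.det_transpose]
  have h1 : ((X : K[X]) • P.map C - Q.map C).transpose =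
      Matrix.of ((fun j => (X : K[X]) • fun i => C (P i j)) + (fun j => (-1 : K[X]) • fun i => C (Q i j))) := by
    ext j i; simp [sub_eq_add_neg]
  rw [h1]
  have h2 := MultilinearMap.map_add_univ
    (Matrix.detRowAlternating (n := Fin n) (R := K[X])).toMultilinearMap
    (fun j => (X : K[X]) • fun i => C (P i j)) (fun j => (-1 : K[X]) • fun i => C (Q i j))
  change Matrix.detRowAlternating _ = _
  erw [h2]
  refine Finset.sum_congr rfl (fun s _ => ?_)
  have h3 : s.piecewise (fun j => (X : K[X]) • fun i => C (P i j)) (fun j => (-1 : K[X]) • fun i => C (Q i j))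
      = fun j => (if j ∈ s then (X : K[X]) else -1) • (fun i => C (if j ∈ s then P i j else Q i j)) := by
    funext j
    by_cases hj : j ∈ s <;> simp [hj]
  rw [h3]
  have h4 := MultilinearMap.map_smul_univ
    (Matrix.detRowAlternating (n := Fin n) (R := K[X])).toMultilinearMap
    (fun j => (if j ∈ s then (X : K[X]) else -1)) (fun j i => C (if j ∈ s then P i j else Q i j))
  erw [h4]
  rw [smul_eq_mul]
  congr 1
  change Matrix.det (Matrix.of fun j i => C (if j ∈ s then P i j else Q i j)) = _
  rw [← Matrix.det_transpose, RingHom.map_det]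
  congr 1

theorem charpoly_mul_C_det (M P : Matrix (Fin n) (Fin n) K) :
    M.charpoly * C P.det = ((X : K[X]) • P.map C - (M * P).map C).det := by
  rw [Matrix.charpoly, RingHom.map_det, ← Matrix.det_mul]
  congr 1
  rw [Matrix.charmatrix, Matrix.sub_mul]
  congr 1
  · ext i j
    simp [Matrix.scalar_apply, Matrix.diagonal_mul]
  · ext i j
    simp [Matrix.mul_apply, Matrix.map_apply]

theorem coeff_term_mem {A : Type*} [CommRing A] [Algebra A K] (I : Submodule A K) (s : Finset (Fin n))
    (d : K) (hd : d ∈ I) (j : ℕ) :
    ((∏ l : Fin n, (if l ∈ s then (X : K[X]) else -1)) * C d).coeff j ∈ I := by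
  have h1 : (∏ l : Fin n, (if l ∈ s then (X : K[X]) else -1)) =
      X ^ (Finset.univ.filter (· ∈ s)).card * (-1) ^ (Finset.univ.filter (fun l : Fin n => ¬ l ∈ s)).card := by
    rw [Finset.prod_ite, Finset.prod_const, Finset.prod_const]
  rw [h1, mul_assoc, coeff_X_pow_mul']
  have h2 : ∀ b : ℕ, ∀ j', (((-1 : K[X]) ^ b) * C d).coeff j' ∈ I := by
    intro b j'
    rcases neg_one_pow_eq_or K[X] b with h | h <;> rw [h]
    · rw [one_mul, coeff_C]; split_ifs
      · exact hd
      · exact I.zero_mem
    · rw [neg_one_mul, coeff_neg, coeff_C]; split_ifs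
      · exact I.neg_mem hd
      · rw [neg_zero]; exact I.zero_mem
  split_ifs
  · exact h2 _ _
  · exact I.zero_mem

end matrix

section main
variable (A : Type u) [CommRing A] (E : Type u) [AddCommGroup E] [Module A E]
  (K : Type u) [CommRing K] [Algebra A K] {n : ℕ}
  (b : Module.Basis (Fin n) K (K ⊗[A] E))

/-- The `A`-alternating map `e ↦ det_b (1 ⊗ e_i)`. -/
noncomputable def detA : E [⋀^Fin n]→ₗ[A] K where
  toFun e := b.det (fun i => (1 : K) ⊗ₜ[A] e i)
  map_update_add' e i x y := by
    have h : ∀ z : E, (fun l => (1 : K) ⊗ₜ[A] (Function.update e i z l)) =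
        Function.update (fun l => (1 : K) ⊗ₜ[A] e l) i ((1 : K) ⊗ₜ[A] z) := by
      intro z
      funext l
      by_cases hl : l = i
      · subst hl; simp
      · simp [hl]
    simp only [h, TensorProduct.tmul_add, AlternatingMap.map_update_add]
  map_update_smul' e i a x := by
    have h : ∀ z : E, (fun l => (1 : K) ⊗ₜ[A] (Function.update e i z l)) =
        Function.update (fun l => (1 : K) ⊗ₜ[A] e l) i ((1 : K) ⊗ₜ[A] z) := by
      intro z
      funext l
      by_cases hl : l = i
      · subst hl; simp
      · simp [hl]
    simp only [h]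
    rw [TensorProduct.tmul_smul, ← algebraMap_smul K a ((1 : K) ⊗ₜ[A] x),
      AlternatingMap.map_update_smul, algebraMap_smul]
  map_eq_zero_of_eq' e i l h hne := by
    exact b.det.map_eq_zero_of_eq _ (by simp [h]) hne

theorem detA_apply (e : Fin n → E) : detA A E K b e = b.det (fun i => (1 : K) ⊗ₜ[A] e i) := rfl

/-- The lattice of determinants. -/
noncomputable def detLattice : Submodule A K :=
  LinearMap.range (exteriorPower.alternatingMapLinearEquiv (detA A E K b))

theorem detA_mem (e : Fin n → E) : detA A E K b e ∈ detLattice A E K b :=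
  ⟨exteriorPower.ιMulti A n e, exteriorPower.alternatingMapLinearEquiv_apply_ιMulti _ _⟩

theorem detLattice_fg [Module.Finite A E] : (detLattice A E K b).FG := by
  rw [detLattice, LinearMap.range_eq_map]
  exact Submodule.FG.map _ Module.Finite.fg_top

theorem mul_mem_detLattice (c : K) (hc : ∀ e, c * detA A E K b e ∈ detLattice A E K b)
    (x : K) (hx : x ∈ detLattice A E K b) : c * x ∈ detLattice A E K b := by
  obtain ⟨y, rfl⟩ := hx
  have hy : y ∈ Submodule.span A (Set.range (exteriorPower.ιMulti A n (M := E))) := by
    rw [exteriorPower.ιMulti_span]; trivial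
  induction hy using Submodule.span_induction with
  | mem y hy =>
    obtain ⟨e, rfl⟩ := hy
    rw [exteriorPower.alternatingMapLinearEquiv_apply_ιMulti]
    exact hc e
  | zero => rw [map_zero, mul_zero]; exact Submodule.zero_mem _
  | add y z _ _ hy hz => rw [map_add, mul_add]; exact Submodule.add_mem _ hy hz
  | smul a y _ hy => rw [map_smul, mul_smul_comm]; exact Submodule.smul_mem _ a hy

theorem charpoly_coeff_mul_mem [Module.Finite A E] [Module.Free K (K ⊗[A] E)] (v : E →ₗ[A] E) (j : ℕ) (e : Fin n → E) :
    ((v.baseChange K).charpoly).coeff j * detA A E K b e ∈ detLattice A E K b := by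
  classical
  set M := LinearMap.toMatrix b b (v.baseChange K) with hM
  set P : Matrix (Fin n) (Fin n) K := b.toMatrix (fun i => (1 : K) ⊗ₜ[A] e i) with hP
  have hcp : (v.baseChange K).charpoly = M.charpoly := (LinearMap.charpoly_toMatrix _ b).symm
  have hdet : detA A E K b e = P.det := by rw [detA_apply, Module.Basis.det_apply]
  have hMP : M * P = b.toMatrix (fun i => (1 : K) ⊗ₜ[A] v (e i)) := by
    ext i l
    rw [Matrix.mul_apply]
    have := LinearMap.toMatrix_mulVec_repr b b (v.baseChange K) ((1 : K) ⊗ₜ[A] e l)
    have h2 := congrFun this i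
    rw [LinearMap.baseChange_tmul] at h2
    rw [Module.Basis.toMatrix_apply, ← h2]
    rfl
  rw [hcp, hdet, ← coeff_mul_C, charpoly_mul_C_det, det_X_smul_sub, finsetSum_coeff]
  refine Submodule.sum_mem _ (fun s _ => ?_)
  apply coeff_term_mem
  have : (Matrix.of fun i l => if l ∈ s then P i l else (M * P) i l) =
      b.toMatrix (fun l => (1 : K) ⊗ₜ[A] (s.piecewise e (fun l => v (e l)) l)) := by
    ext i l
    by_cases hl : l ∈ s
    · simp [hl, hP, Module.Basis.toMatrix_apply]
    · simp [hl, hMP, Module.Basis.toMatrix_apply]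
  rw [this, ← Module.Basis.det_apply, ← detA_apply]
  exact detA_mem A E K b _


theorem exists_isUnit_detA (S : Submonoid A) [IsLocalization S K] :
    ∃ e : Fin n → E, IsUnit (detA A E K b e) := by
  classical
  have hloc : IsLocalizedModule S (TensorProduct.mk A K E 1) :=
    IsLocalization.tensorProduct_isLocalizedModule S K
  choose es hes using fun i => IsLocalizedModule.surj S (TensorProduct.mk A K E 1) (b i)
  refine ⟨fun i => (es i).1, ?_⟩
  rw [detA_apply]
  have h1 : (fun i => (1 : K) ⊗ₜ[A] (es i).1) = fun i => (algebraMap A K (es i).2) • b i := by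
    funext i
    have := hes i
    rw [algebraMap_smul]
    exact this.symm
  rw [h1, b.det.map_smul_univ, Module.Basis.det_self, smul_eq_mul, mul_one]
  exact IsUnit.prod_univ_iff.mpr fun i => IsLocalization.map_units K (es i).2

end main

theorem main (A : Type u) [CommRing A] [IsNoetherianRing A]
    (E : Type u) [AddCommGroup E] [Module A E] [Module.Finite A E]
    [Module.Free (FractionRing A) (TensorProduct A (FractionRing A) E)] :
    (Algebra.adjoin A {c : FractionRing A | ∃ (v : E →ₗ[A] E) (j : ℕ),
        c = ((v.baseChange (FractionRing A)).charpoly).coeff j}).toSubmodule.FG := by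
  classical
  let ι := Module.Free.ChooseBasisIndex (FractionRing A) (FractionRing A ⊗[A] E)
  let b : Module.Basis (Fin (Fintype.card ι)) (FractionRing A) (FractionRing A ⊗[A] E) :=
    (Module.Free.chooseBasis (FractionRing A) (FractionRing A ⊗[A] E)).reindex (Fintype.equivFin ι)
  obtain ⟨e₀, he₀⟩ := exists_isUnit_detA A E (FractionRing A) b (nonZeroDivisors A)
  obtain ⟨u, hu⟩ := he₀
  let Csub : Subalgebra A (FractionRing A) :=
    { carrier := {c | ∀ x ∈ detLattice A E (FractionRing A) b, c * x ∈ detLattice A E (FractionRing A) b}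
      mul_mem' := fun {c d} hc hd x hx => by rw [mul_assoc]; exact hc _ (hd _ hx)
      one_mem' := fun x hx => by rw [one_mul]; exact hx
      add_mem' := fun {c d} hc hd x hx => by rw [add_mul]; exact Submodule.add_mem _ (hc _ hx) (hd _ hx)
      zero_mem' := fun x hx => by rw [zero_mul]; exact Submodule.zero_mem _
      algebraMap_mem' := fun a x hx => by
        rw [← Algebra.smul_def]; exact Submodule.smul_mem _ a hx }
  have hle : Algebra.adjoin A {c : FractionRing A | ∃ (v : E →ₗ[A] E) (j : ℕ),
        c = ((v.baseChange (FractionRing A)).charpoly).coeff j} ≤ Csub := by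
    refine Algebra.adjoin_le ?_
    rintro c ⟨v, j, rfl⟩
    exact mul_mem_detLattice A E (FractionRing A) b _
      (fun e => charpoly_coeff_mul_mem A E (FractionRing A) b v j e)
  let N : Submodule A (FractionRing A) :=
    (detLattice A E (FractionRing A) b).map (LinearMap.mulLeft A ((u⁻¹ : (FractionRing A)ˣ) : FractionRing A))
  have hN : N.FG := (detLattice_fg A E (FractionRing A) b).map _
  have hCN : Subalgebra.toSubmodule Csub ≤ N := by
    intro c hc
    refine ⟨c * u, hc _ (hu ▸ detA_mem A E (FractionRing A) b e₀), ?_⟩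
    simp [mul_comm c, ← mul_assoc]
  have hNoeth : IsNoetherian A N := isNoetherian_of_fg_of_noetherian N hN
  exact isNoetherian_submodule.mp hNoeth _ (le_trans (by exact hle) hCN)

end Groth.Agent.Lib.Seat80.CharpolyFG
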