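import Mathlib
import Groth.Agent.S5155
import Groth.Agent.S0300
import Groth.Agent.Lib.Helper19PowerSeries

/-! Seat80: an `m`-power torsion module over `k[[x_1..x_d]]` (char 0) with operators `D_i` satisfying
the Leibniz rule along the partial derivatives is a direct sum of copies of the injective hull `E`
of the residue field (for S1732). Socle basis + Bass' theorem give an embedding `M → ⊕_J E`;
surjectivity by descending induction on the `x_i`-torsion, using `x_i`-divisibility coming from
`D_i` (no change of rings). -/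

set_option autoImplicit false
set_option linter.style.haveILetI false
universe u

namespace Groth.Agent.Lib.Seat80.DModE

open IsLocalRing

section PartA

variable {A : Type u} [CommRing A] [IsLocalRing A]
  {E : Type u} [AddCommGroup E] [Module A E]

lemma injective_finsupp [IsNoetherianRing A] (J : Type u) (hE : Module.Injective A E) :
    Module.Injective A (J →₀ E) := by
  classical
  have h1 := Groth.Agent.S0300.result A (fun _ : J => E) (fun _ => hE)
  have h2 : Module.Baer A (DirectSum J fun _ => E) := Module.Baer.of_injective h1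
  exact (Module.Baer.of_equiv (finsuppLEquivDirectSum A E J).symm h2).injective

omit [IsLocalRing A] in
lemma isPowerTorsion_finsupp (I : Ideal A) (J : Type u) (hE : LocCoh.IsPowerTorsion I E) :
    LocCoh.IsPowerTorsion I (J →₀ E) := by
  intro y
  induction y using Finsupp.induction_linear with
  | zero => exact ⟨0, fun a _ => smul_zero a⟩
  | add y z hy hz =>
    obtain ⟨n, hn⟩ := hy
    obtain ⟨m, hm⟩ := hz
    refine ⟨max n m, fun a ha => ?_⟩
    rw [smul_add, hn a (Ideal.pow_le_pow_right (le_max_left _ _) ha),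
      hm a (Ideal.pow_le_pow_right (le_max_right _ _) ha), add_zero]
  | single j v =>
    obtain ⟨n, hn⟩ := hE v
    exact ⟨n, fun a ha => by rw [Finsupp.smul_single, hn a ha, Finsupp.single_zero]⟩

omit [IsLocalRing A] in
/-- the socle of a power torsion module is essential -/
lemma exists_smul_mem_socle (I : Ideal A) {M : Type u} [AddCommGroup M] [Module A M]
    (hM : LocCoh.IsPowerTorsion I M) (z : M) (hz : z ≠ 0) :
    ∃ a : A, a • z ≠ 0 ∧ ∀ b ∈ I, b • (a • z) = 0 := by
  classical
  have hex := hM z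
  have hn0 : Nat.find hex ≠ 0 := by
    intro h0
    have := Nat.find_spec hex
    rw [h0, pow_zero] at this
    exact hz (by simpa using this 1 (by simp))
  obtain ⟨k, hk⟩ := Nat.exists_eq_succ_of_ne_zero hn0
  have hmin : ¬ ∀ a ∈ I ^ k, a • z = 0 :=
    Nat.find_min hex (by rw [hk]; exact Nat.lt_succ_self k)
  push Not at hmin
  obtain ⟨a, hak, haz⟩ := hmin
  refine ⟨a, haz, fun b hb => ?_⟩
  rw [← mul_smul]
  apply Nat.find_spec hex
  rw [hk, pow_succ']
  exact Ideal.mul_mem_mul hb hak

theorem exists_embedding [IsNoetherianRing A] {e : ResidueField A →ₗ[A] E}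
    (he : InjHull.IsInjectiveHull e)
    (M : Type u) [AddCommGroup M] [Module A M] (hM : LocCoh.IsPowerTorsion (maximalIdeal A) M) :
    ∃ (J : Type u) (φ : M →ₗ[A] (J →₀ E)), Function.Injective φ ∧
      ∀ y : J →₀ E, (∀ a ∈ maximalIdeal A, a • y = 0) →
        ∃ z : M, (∀ a ∈ maximalIdeal A, a • z = 0) ∧ φ z = y := by
  classical
  let V : Submodule A M := Submodule.torsionBySet A M (maximalIdeal A : Set A)
  letI : Field (A ⧸ maximalIdeal A) := Ideal.Quotient.field _
  let b := Module.Basis.ofVectorSpace (A ⧸ maximalIdeal A) V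
  let J : Type u := Module.Basis.ofVectorSpaceIndex (A ⧸ maximalIdeal A) V
  let r : V ≃ₗ[A] (J →₀ ResidueField A) := b.repr.restrictScalars A
  let ι : V →ₗ[A] (J →₀ E) := (Finsupp.mapRange.linearMap e) ∘ₗ r.toLinearMap
  have hιinj : Function.Injective ι :=
    (Finsupp.mapRange_injective e (map_zero e) he.injective).comp r.injective
  haveI : Module.Injective A (J →₀ E) := injective_finsupp J he.isInjective
  obtain ⟨φ, hφ⟩ := Module.Injective.extension_property A (J →₀ E) V M V.subtype
    V.injective_subtype ι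
  refine ⟨J, φ, ?_, ?_⟩
  · rw [injective_iff_map_eq_zero]
    intro z hz
    by_contra hz0
    obtain ⟨a, haz, hsoc⟩ := exists_smul_mem_socle _ hM z hz0
    have hmem : a • z ∈ V := (Submodule.mem_torsionBySet_iff _ _).2 (fun b => hsoc b.1 b.2)
    have h1 : ι ⟨a • z, hmem⟩ = 0 := by
      rw [← hφ]
      show φ (a • z) = 0
      rw [map_smul, hz, smul_zero]
    have := hιinj (h1.trans (map_zero ι).symm)
    exact haz (congrArg Subtype.val this)
  · intro y hy
    have hy' : y ∈ LinearMap.range (Finsupp.mapRange.linearMap (α := J) e) := by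
      rw [Finsupp.range_mapRange_linearMap e (LinearMap.ker_eq_bot.2 he.injective)]
      intro j
      have hsoc : ∀ a ∈ maximalIdeal A, a • y j = 0 := fun a ha => by
        have := DFunLike.congr_fun (hy a ha) j
        simpa using this
      obtain ⟨c, hc⟩ := Groth.Agent.S5155.exists_eq_of_essential he.toIsEssentialInj
        (Groth.Agent.S5155.socleHom (y j) hsoc)
      rw [Groth.Agent.S5155.socleHom_one] at hc
      exact ⟨c, hc.symm⟩
    obtain ⟨c, hc⟩ := hy'
    refine ⟨(r.symm c : M), ?_, ?_⟩
    · intro a ha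
      exact (Submodule.mem_torsionBySet_iff _ _).1 (r.symm c).2 ⟨a, ha⟩
    · have h1 : φ (V.subtype (r.symm c)) = ι (r.symm c) := by
        rw [← hφ]; rfl
      rw [show ((r.symm c : V) : M) = V.subtype (r.symm c) from rfl, h1]
      show Finsupp.mapRange.linearMap e (r (r.symm c)) = y
      rw [r.apply_symm_apply, hc]

end PartA

section PartC

variable {A : Type u} [CommRing A] {M : Type u} [AddCommGroup M] [Module A M]

/-- divisibility by `x` of `x`-power torsion elements in a `D`-stable submodule, when `D` is a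
"connection along `θ`" with `θ (x^(n+1)) = (n+1) x^n` and all positive integers invertible. -/
theorem exists_smul_eq_of_pow_smul_eq_zero (x : A) (θ : A → A) (D : M →+ M)
    (hD : ∀ (f : A) (z : M), D (f • z) = θ f • z + f • D z)
    (hθ : ∀ n : ℕ, θ (x ^ (n + 1)) = ((n + 1 : ℕ) : A) * x ^ n)
    (hu : ∀ n : ℕ, IsUnit (((n + 1 : ℕ) : A)))
    (M' : Submodule A M) (hM' : ∀ z ∈ M', D z ∈ M') :
    ∀ (n : ℕ) (z : M), z ∈ M' → x ^ n • z = 0 → ∃ z' ∈ M', x • z' = z := by
  intro n
  induction n with
  | zero =>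
    intro z _ hz
    rw [pow_zero, one_smul] at hz
    exact ⟨0, M'.zero_mem, by rw [smul_zero, hz]⟩
  | succ n ih =>
    intro z hzM hz
    have h1 : D (x ^ (n + 1) • z) = 0 := by rw [hz, map_zero]
    rw [hD, hθ] at h1
    have h2 : x ^ n • (((n + 1 : ℕ) : A) • z + x • D z) = 0 := by
      rw [smul_add, smul_smul, smul_smul, mul_comm (x ^ n), ← pow_succ]
      exact h1
    have hw : ((n + 1 : ℕ) : A) • z + x • D z ∈ M' :=
      M'.add_mem (M'.smul_mem _ hzM) (M'.smul_mem _ (hM' z hzM))
    obtain ⟨w', hw'M, hw'⟩ := ih _ hw h2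
    obtain ⟨u, hu'⟩ := hu n
    refine ⟨(↑u⁻¹ : A) • (w' - D z), M'.smul_mem _ (M'.sub_mem hw'M (hM' z hzM)), ?_⟩
    rw [smul_comm, smul_sub, hw', add_sub_cancel_right, ← hu', smul_smul, Units.inv_mul, one_smul]

end PartC

section PartB

variable {A : Type u} [CommRing A] {M N : Type u} [AddCommGroup M] [Module A M]
  [AddCommGroup N] [Module A N]

/-- elements killed by the first `r` of the `x i` -/
def killed {d : ℕ} (x : Fin d → A) (X : Type u) [AddCommGroup X] [Module A X] (r : ℕ) :
    Submodule A X where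
  carrier := {z | ∀ i : Fin d, i.val < r → x i • z = 0}
  zero_mem' := fun i _ => smul_zero _
  add_mem' := fun {a b} ha hb i hi => by rw [smul_add, ha i hi, hb i hi, add_zero]
  smul_mem' := fun c a ha i hi => by rw [smul_comm, ha i hi, smul_zero]

lemma mem_killed {d : ℕ} (x : Fin d → A) (X : Type u) [AddCommGroup X] [Module A X] (r : ℕ)
    (z : X) : z ∈ killed x X r ↔ ∀ i : Fin d, i.val < r → x i • z = 0 := Iff.rfl

theorem surjective_of_divisible {d : ℕ} (x : Fin d → A) (φ : M →ₗ[A] N)
    (hφ : Function.Injective φ)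
    (hdiv : ∀ (i : Fin d) (n : ℕ) (z : M), z ∈ killed x M i.val → x i ^ n • z = 0 →
      ∃ z' ∈ killed x M i.val, x i • z' = z)
    (htors : ∀ (i : Fin d) (y : N), ∃ n : ℕ, x i ^ n • y = 0)
    (hbase : ∀ y : N, y ∈ killed x N d → ∃ z ∈ killed x M d, φ z = y) :
    Function.Surjective φ := by
  have key : ∀ t : ℕ, ∀ r : ℕ, r + t = d → ∀ y : N, y ∈ killed x N r →
      ∃ z ∈ killed x M r, φ z = y := by
    intro t
    induction t with
    | zero =>
      intro r hr y hy
      rw [add_zero] at hr
      subst hr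
      exact hbase y hy
    | succ t ih =>
      intro r hr
      have hrd : r < d := by omega
      have ih' := ih (r + 1) (by omega)
      -- induction on the exponent
      have step : ∀ n : ℕ, ∀ y : N, y ∈ killed x N r → x ⟨r, hrd⟩ ^ n • y = 0 →
          ∃ z ∈ killed x M r, φ z = y := by
        intro n
        induction n with
        | zero =>
          intro y _ hy0
          rw [pow_zero, one_smul] at hy0
          exact ⟨0, Submodule.zero_mem _, by rw [map_zero, hy0]⟩
        | succ n ihn =>
          intro y hy hy0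
          have hy1 : x ⟨r, hrd⟩ • y ∈ killed x N r := Submodule.smul_mem _ _ hy
          have hy2 : x ⟨r, hrd⟩ ^ n • (x ⟨r, hrd⟩ • y) = 0 := by
            rw [smul_smul, ← pow_succ]; exact hy0
          obtain ⟨z, hz, hzy⟩ := ihn _ hy1 hy2
          have hz0 : x ⟨r, hrd⟩ ^ n • z = 0 := by
            apply hφ
            rw [map_smul, hzy, hy2, map_zero]
          obtain ⟨z', hz', hz'z⟩ := hdiv ⟨r, hrd⟩ n z hz hz0
          have hmem : y - φ z' ∈ killed x N (r + 1) := by
            intro j hj
            rcases Nat.lt_succ_iff_lt_or_eq.1 hj with hlt | heq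
            · rw [smul_sub, hy j hlt, ← map_smul, hz' j hlt, map_zero, sub_zero]
            · have hj' : j = ⟨r, hrd⟩ := Fin.ext heq
              rw [hj', smul_sub, ← map_smul, hz'z, hzy, sub_self]
          obtain ⟨z'', hz'', hz''y⟩ := ih' _ hmem
          refine ⟨z'' + z', Submodule.add_mem _ (fun j hj => hz'' j (Nat.lt_succ_of_lt hj)) hz', ?_⟩
          rw [map_add, hz''y, sub_add_cancel]
      intro y hy
      obtain ⟨n, hn⟩ := htors ⟨r, hrd⟩ y
      exact step n y hy hn
  intro y
  obtain ⟨z, _, hz⟩ := key d 0 (by omega) y (fun i hi => absurd hi (Nat.not_lt_zero _))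
  exact ⟨z, hz⟩

end PartB

section PS

variable (k : Type u) [Field k] (d : ℕ)

theorem maximalIdeal_mvPowerSeries_eq :
    maximalIdeal (MvPowerSeries (Fin d) k) =
      Ideal.span (Set.range (MvPowerSeries.X : Fin d → MvPowerSeries (Fin d) k)) := by
  apply le_antisymm
  · intro g hg
    rw [Groth.Agent.Lib.Helper19.maximalIdeal_eq_coeffIdeal,
      Groth.Agent.Lib.Helper19.mem_coeffIdeal_one, IsLocalRing.maximalIdeal_eq_bot,
      Ideal.mem_bot] at hg
    have := Groth.Agent.Lib.Helper19.mem_varsIdeal_pow_of_coeff_eq_zero 1 g (by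
      intro α hα
      have : α = 0 := (Finsupp.degree_eq_zero_iff α).1 (by omega)
      rw [this, MvPowerSeries.coeff_zero_eq_constantCoeff_apply]
      exact hg)
    rwa [pow_one] at this
  · rw [Ideal.span_le]
    rintro _ ⟨s, rfl⟩
    rw [Groth.Agent.Lib.Helper19.maximalIdeal_eq_coeffIdeal]
    exact Groth.Agent.Lib.Helper19.X_mem_coeffIdeal_one _ s

lemma X_mem_maximalIdeal (i : Fin d) :
    (MvPowerSeries.X i : MvPowerSeries (Fin d) k) ∈ maximalIdeal (MvPowerSeries (Fin d) k) := by
  rw [maximalIdeal_mvPowerSeries_eq]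
  exact Ideal.subset_span ⟨i, rfl⟩

lemma isUnit_natCast_succ [CharZero k] (n : ℕ) :
    IsUnit (((n + 1 : ℕ) : MvPowerSeries (Fin d) k)) := by
  have h1 : IsUnit (((n + 1 : ℕ) : k)) := (Nat.cast_ne_zero.2 (Nat.succ_ne_zero n)).isUnit
  have h2 := h1.map (algebraMap k (MvPowerSeries (Fin d) k))
  rwa [map_natCast] at h2


theorem main [CharZero k] (E : Type u) [AddCommGroup E] [Module (MvPowerSeries (Fin d) k) E]
    (e : ResidueField (MvPowerSeries (Fin d) k) →ₗ[MvPowerSeries (Fin d) k] E)
    (he : InjHull.IsInjectiveHull e)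
    (θ : Fin d → Derivation k (MvPowerSeries (Fin d) k) (MvPowerSeries (Fin d) k))
    (hθ : ∀ i j : Fin d, θ i (MvPowerSeries.X j) = if i = j then 1 else 0)
    (M : Type u) [AddCommGroup M] [Module (MvPowerSeries (Fin d) k) M]
    (hM : LocCoh.IsPowerTorsion (maximalIdeal (MvPowerSeries (Fin d) k)) M)
    (D : Fin d → M →+ M)
    (hD : ∀ (i : Fin d) (f : MvPowerSeries (Fin d) k) (z : M),
      D i (f • z) = θ i f • z + f • D i z) :
    ∃ J : Type u, Nonempty (M ≃ₗ[MvPowerSeries (Fin d) k] (J →₀ E)) := by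
  obtain ⟨J, φ, hinj, hsoc⟩ := exists_embedding he M hM
  have hkill : ∀ (X' : Type u) [AddCommGroup X'] [Module (MvPowerSeries (Fin d) k) X'] (z : X'),
      z ∈ killed (fun i : Fin d => (MvPowerSeries.X i : MvPowerSeries (Fin d) k)) X' d ↔
        ∀ a ∈ maximalIdeal (MvPowerSeries (Fin d) k), a • z = 0 := by
    intro X' _ _ z
    constructor
    · intro hz
      have hle : maximalIdeal (MvPowerSeries (Fin d) k) ≤
          LinearMap.ker (LinearMap.toSpanSingleton (MvPowerSeries (Fin d) k) X' z) := by
        rw [maximalIdeal_mvPowerSeries_eq, Ideal.span_le]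
        rintro _ ⟨i, rfl⟩
        show LinearMap.toSpanSingleton (MvPowerSeries (Fin d) k) X' z (MvPowerSeries.X i) = 0
        rw [LinearMap.toSpanSingleton_apply]
        exact hz i i.2
      intro a ha
      have := hle ha
      rwa [LinearMap.mem_ker, LinearMap.toSpanSingleton_apply] at this
    · intro hz i _
      exact hz _ (X_mem_maximalIdeal k d i)
  refine ⟨J, ⟨LinearEquiv.ofBijective φ ⟨hinj, ?_⟩⟩⟩
  apply surjective_of_divisible (fun i : Fin d => (MvPowerSeries.X i : MvPowerSeries (Fin d) k))
    φ hinj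
  · intro i n z hz hzn
    refine exists_smul_eq_of_pow_smul_eq_zero (MvPowerSeries.X i) (θ i) (D i) (hD i) ?_
      (isUnit_natCast_succ k d) (killed _ M i.val) ?_ n z hz hzn
    · intro n
      rw [Derivation.leibniz_pow, hθ, if_pos rfl, Nat.add_sub_cancel, smul_eq_mul, mul_one,
        nsmul_eq_mul]
    · intro z hz j hj
      have hji : i ≠ j := fun h => by rw [h] at hj; exact lt_irrefl _ hj
      have h1 := hD i (MvPowerSeries.X j) z
      rw [hz j hj, map_zero, hθ, if_neg hji, zero_smul, zero_add] at h1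
      exact h1.symm
  · intro i y
    obtain ⟨n, hn⟩ := isPowerTorsion_finsupp _ J
      (Groth.Agent.S5155.isPowerTorsion_of_hull he.toIsEssentialInj) y
    exact ⟨n, hn _ (Ideal.pow_mem_pow (X_mem_maximalIdeal k d i) n)⟩
  · intro y hy
    obtain ⟨z, hz, hzy⟩ := hsoc y ((hkill _ y).1 hy)
    exact ⟨z, (hkill _ z).2 hz, hzy⟩

end PS

end Groth.Agent.Lib.Seat80.DModE
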