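import Mathlib
import Groth.Prelude.Def_ega3
import Groth.Agent.Lib.Helper3FlatCx
import Groth.Agent.Lib.Helper13FlatCx
import Groth.Agent.S4486
import Groth.Agent.S4485
import Groth.Agent.S2440

/-!
# S4487: dense open locus of local constancy of `dRank` for a bounded-below flat complex with
finite homology over a Noetherian ring.
-/

set_option autoImplicit false
set_option linter.unusedSectionVars false
universe u
open CategoryTheory CategoryTheory.Limits Opposite MonoidalCategory TensorProduct

namespace Groth.Agent.Lib.Seat80.DRank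

open Groth.Agent.Lib.Helper3 Groth.Agent.S2380

variable {A : Type u} [CommRing A] {ι : Type} {c : ComplexShape ι}

section Finiteness

variable [IsNoetherianRing A] (P : HomologicalComplex (ModuleCat.{u} A) c)
  (hP : ∀ i, Module.Flat A (P.X i))

include hP in
theorem finite_T_mid (S : ShortComplex (ModuleCat.{u} A)) (hS : S.ShortExact) (n : ι)
    (h1 : Module.Finite A (CohIII.T P n S.X₁)) (h3 : Module.Finite A (CohIII.T P n S.X₃)) :
    Module.Finite A (CohIII.T P n S.X₂) := by
  have hex := (tensorSC_shortExact P hP S hS).homology_exact₂ n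
  have hre : LinearMap.range (HomologicalComplex.homologyMap (CohIII.tensorMap P S.f) n).hom =
      LinearMap.ker (HomologicalComplex.homologyMap (CohIII.tensorMap P S.g) n).hom :=
    hex.moduleCat_range_eq_ker
  have : IsNoetherian A (CohIII.T P n S.X₁) := isNoetherian_of_isNoetherianRing_of_finite A _
  have : IsNoetherian A (CohIII.T P n S.X₃) := isNoetherian_of_isNoetherianRing_of_finite A _
  have : IsNoetherian A (CohIII.T P n S.X₂) := isNoetherian_of_range_eq_ker _ _ hre
  infer_instance

include hP in
theorem finite_T_right (S : ShortComplex (ModuleCat.{u} A)) (hS : S.ShortExact) (n n' : ι)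
    (hn : c.Rel n n')
    (h2 : Module.Finite A (CohIII.T P n S.X₂)) (h1 : Module.Finite A (CohIII.T P n' S.X₁)) :
    Module.Finite A (CohIII.T P n S.X₃) := by
  have hex := (tensorSC_shortExact P hP S hS).homology_exact₃ n n' hn
  have hre : LinearMap.range (HomologicalComplex.homologyMap (CohIII.tensorMap P S.g) n).hom =
      LinearMap.ker ((tensorSC_shortExact P hP S hS).δ n n' hn).hom :=
    hex.moduleCat_range_eq_ker
  have : IsNoetherian A (CohIII.T P n S.X₂) := isNoetherian_of_isNoetherianRing_of_finite A _
  have : IsNoetherian A ((tensorSC P S).X₁.homology n') :=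
    (isNoetherian_of_isNoetherianRing_of_finite A (CohIII.T P n' S.X₁) :)
  have : IsNoetherian A (CohIII.T P n S.X₃) := isNoetherian_of_range_eq_ker _ _ hre
  infer_instance

omit [IsNoetherianRing A] in
theorem isZero_T_of_isZero_X (n : ι) (M : ModuleCat.{u} A) (h : IsZero (P.X n)) :
    IsZero (CohIII.T P n M) := by
  have h1 : IsZero ((CohIII.tensorObj P M).X n) := (tensorRight M).map_isZero h
  exact ShortComplex.isZero_homology_of_isZero_X₂ _ h1

omit [IsNoetherianRing A] in
theorem isZero_T_of_isZero (n : ι) (M : ModuleCat.{u} A) (h : IsZero M) :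
    IsZero (CohIII.T P n M) := by
  have h1 : IsZero ((CohIII.tensorObj P M).X n) := (tensorLeft (P.X n)).map_isZero h
  exact ShortComplex.isZero_homology_of_isZero_X₂ _ h1

omit [IsNoetherianRing A] in
theorem finite_of_isZero {M : ModuleCat.{u} A} (h : IsZero M) : Module.Finite A M := by
  have : Subsingleton M := ModuleCat.subsingleton_of_isZero h
  infer_instance

/-- the inclusion of the first coordinate `A → A^{r+1}` -/
noncomputable def inc0 (A : Type u) [CommRing A] (r : ℕ) : A →ₗ[A] (Fin (r + 1) → A) :=
  LinearMap.single A (fun _ : Fin (r + 1) => A) 0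

/-- forgetting the first coordinate `A^{r+1} → A^r` -/
noncomputable def tail0 (A : Type u) [CommRing A] (r : ℕ) : (Fin (r + 1) → A) →ₗ[A] (Fin r → A) :=
  LinearMap.funLeft A A (Fin.succ : Fin r → Fin (r + 1))

omit [IsNoetherianRing A] in
lemma inc0_apply (r : ℕ) (a : A) (j : Fin (r + 1)) : inc0 A r a j = if j = 0 then a else 0 := by
  simp [inc0, Pi.single_apply]

omit [IsNoetherianRing A] in
lemma tail0_apply (r : ℕ) (f : Fin (r + 1) → A) (j : Fin r) : tail0 A r f j = f j.succ := rfl

omit [IsNoetherianRing A] in
lemma exact_inc0_tail0 (r : ℕ) : Function.Exact (inc0 A r) (tail0 A r) := by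
  intro f
  constructor
  · intro hf
    refine ⟨f 0, ?_⟩
    funext i
    refine Fin.cases ?_ (fun j => ?_) i
    · rw [inc0_apply, if_pos rfl]
    · rw [inc0_apply, if_neg (Fin.succ_ne_zero j)]
      have := congrFun hf j
      rw [tail0_apply] at this
      exact this.symm
  · rintro ⟨a, rfl⟩
    funext j
    rw [tail0_apply, inc0_apply, if_neg (Fin.succ_ne_zero j)]
    rfl

/-- the split short exact sequence `0 → A → A^{r+1} → A^r → 0` -/
noncomputable def freeSC (A : Type u) [CommRing A] (r : ℕ) : ShortComplex (ModuleCat.{u} A) :=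
  ShortComplex.mk (ModuleCat.ofHom (inc0 A r)) (ModuleCat.ofHom (tail0 A r)) (by
    rw [← ModuleCat.ofHom_comp, (exact_inc0_tail0 r).linearMap_comp_eq_zero]
    rfl)

omit [IsNoetherianRing A] in
theorem freeSC_shortExact (r : ℕ) : (freeSC A r).ShortExact := by
  apply ModuleCat.shortComplex_shortExact
  · exact exact_inc0_tail0 (A := A) r
  · intro (a : A) (b : A) hab
    have h0 : inc0 A r a 0 = inc0 A r b 0 := congrFun hab 0
    rwa [inc0_apply, inc0_apply, if_pos rfl, if_pos rfl] at h0
  · intro (g : Fin r → A)
    refine ⟨(Fin.cons 0 g : Fin (r + 1) → A), ?_⟩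
    funext j
    change tail0 A r (Fin.cons 0 g : Fin (r + 1) → A) j = g j
    rw [tail0_apply, Fin.cons_succ]

include hP in
theorem finite_T_free (n : ι) (h : Module.Finite A (CohIII.T P n (ModuleCat.of A A))) (r : ℕ) :
    Module.Finite A (CohIII.T P n (ModuleCat.of A (Fin r → A))) := by
  induction r with
  | zero =>
    apply finite_of_isZero
    apply isZero_T_of_isZero
    have : Subsingleton (ModuleCat.of A (Fin 0 → A)) := inferInstanceAs (Subsingleton (Fin 0 → A))
    exact ModuleCat.isZero_of_subsingleton _
  | succ r ih =>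
    exact finite_T_mid P hP (freeSC A r) (freeSC_shortExact r) n h ih

end Finiteness

section Bdd

variable [IsNoetherianRing A] (P : ChainComplex (ModuleCat.{u} A) ℤ)
  (hP : ∀ i, Module.Flat A (P.X i)) (i₀ : ℤ) (hb : ∀ i < i₀, IsZero (P.X i))
  (hfg : ∀ n : ℤ, Module.Finite A (CohIII.T P n (ModuleCat.of A A)))

include hP hb hfg in
theorem finite_T_bdd_aux : ∀ (k : ℕ) (n : ℤ), n < i₀ + k → ∀ (M : ModuleCat.{u} A),
    Module.Finite A M → Module.Finite A (CohIII.T P n M) := by
  intro k
  induction k with
  | zero =>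
    intro n hn M _
    exact finite_of_isZero (isZero_T_of_isZero_X P n M (hb n (by simpa using hn)))
  | succ k ih =>
    intro n hn M hM
    by_cases hn' : n < i₀ + k
    · exact ih n hn' M hM
    · obtain ⟨r, f, hf⟩ := Module.Finite.exists_fin' A M
      have hS := LinearMap.shortExact_shortComplexKer hf
      have hker : Module.Finite A (ModuleCat.of A (LinearMap.ker f)) :=
        inferInstanceAs (Module.Finite A (LinearMap.ker f))
      exact finite_T_right P hP f.shortComplexKer hS n (n - 1) (by simp)
        (finite_T_free P hP n (hfg n) r)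
        (ih (n - 1) (by push_cast at hn; omega) _ hker)

include hP hb hfg in
theorem finite_T_bdd (n : ℤ) (M : ModuleCat.{u} A) [hM : Module.Finite A M] :
    Module.Finite A (CohIII.T P n M) :=
  finite_T_bdd_aux P hP i₀ hb hfg (n - i₀ + 1).toNat n (by omega) M hM

end Bdd

section Local

variable {B : Type u} [CommRing B] [IsNoetherianRing B]
  (K : ChainComplex (ModuleCat.{u} B) ℤ) (hK : ∀ i, Module.Flat B (K.X i)) (i₀ : ℤ)
  (hb : ∀ i < i₀, IsZero (K.X i)) (hfin : ∀ q : ℤ, Module.Finite B (K.homology q)) (N : ℤ)

include hK hb hfin in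
theorem exists_basicOpen_locConst (y : PrimeSpectrum B)
    (hy : ∀ q ∈ Finset.Icc i₀ N, y ∈ Module.freeLocus B (K.homology q)) :
    ∃ f : B, y ∈ (PrimeSpectrum.basicOpen f : Set (PrimeSpectrum B)) ∧ ∀ p ≤ N,
      IsLocallyConstant (CohIII.dRank (CohIII.bcCx (algebraMap B (Localization.Away f)) K) p) := by
  have hfpH : ∀ q, Module.FinitePresentation B (K.homology q) := fun q =>
    have := hfin q
    Module.finitePresentation_of_finite B _
  let U : Set (PrimeSpectrum B) := ⋂ q ∈ Finset.Icc i₀ N, Module.freeLocus B (K.homology q)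
  have hU : IsOpen U := isOpen_biInter_finset (fun q _ => Module.isOpen_freeLocus)
  have hyU : y ∈ U := by
    simp only [U, Set.mem_iInter]
    exact hy
  obtain ⟨v, ⟨f, rfl⟩, hfv, hvU⟩ :=
    PrimeSpectrum.isTopologicalBasis_basic_opens.exists_subset_of_mem_open hyU hU
  refine ⟨f, hfv, ?_⟩
  have hf : ∀ q ∈ Finset.Icc i₀ N,
      (PrimeSpectrum.basicOpen f : Set (PrimeSpectrum B)) ⊆ Module.freeLocus B (K.homology q) := by
    intro q hq x hx
    have := hvU hx
    simp only [U, Set.mem_iInter] at this
    exact this q hq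
  let C := Localization.Away f
  let L := CohIII.bcCx (algebraMap B C) K
  have hL : ∀ i, Module.Flat C (L.X i) := flat_bcCx_X C K hK
  have hbL : ∀ i < i₀, IsZero (L.X i) := fun i hi =>
    (ModuleCat.extendScalars (algebraMap B C)).map_isZero (hb i hi)
  have hH : ∀ q, i₀ ≤ q → q ≤ N → Module.Flat C (L.homology q) := by
    intro q h1 h2
    have hproj : Module.Projective C (LocalizedModule.Away f (K.homology q)) :=
      Module.basicOpen_subset_freeLocus_iff.mp (hf q (Finset.mem_Icc.mpr ⟨h1, h2⟩))
    obtain ⟨e⟩ := Groth.Agent.S4486.nonempty_bcHomologyEquiv_of_flat C K q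
    have hfl : Module.Flat C (LocalizedModule.Away f (K.homology q)) :=
      Module.Flat.of_projective
    exact Module.Flat.of_linearEquiv
      (e ≪≫ₗ (LocalizedModule.equivTensorProduct (Submonoid.powers f) (K.homology q)).symm)
  have hall := Groth.Agent.S4486.flat_opcycles_bc L hL i₀ N hbL hH
  have hW : ∀ q ≤ N, Module.Flat C (L.opcycles q) := by
    intro q hq
    exact hall (q - i₀ + 1).toNat q hq (by omega)
  intro p hp
  have hex : (CohIII.TFun L p).PreservesMonomorphisms ∧ (CohIII.TFun L p).PreservesEpimorphisms :=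
    ⟨(Groth.Agent.S2375.result L hL p).mpr (hW p hp),
      (Groth.Agent.S2410.preservesEpi_iff_flat_opcycles L hL p (p - 1) (by ring)).mpr
        (hW (p - 1) (by omega))⟩
  have hfpL : Module.FinitePresentation C (CohIII.T L p (ModuleCat.of C C)) := by
    obtain ⟨e⟩ := Groth.Agent.S4486.nonempty_bcHomologyEquiv_of_flat C K p
    have := hfin p
    have h1 : Module.Finite C (C ⊗[B] (K.homology p)) := inferInstance
    have h2 : Module.Finite C (L.homology p) := Module.Finite.equiv e.symm
    have h3 : Module.Finite C (CohIII.T L p (ModuleCat.of C C)) :=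
      Module.Finite.equiv (TUnitIso L p).toLinearEquiv.symm
    have : IsNoetherianRing C := IsLocalization.isNoetherianRing (Submonoid.powers f) C inferInstance
    exact Module.finitePresentation_of_finite C _
  exact Groth.Agent.S4485.result L hL p hex hfpL

end Local

section Top

variable {B : Type u} [CommRing B]

lemma dense_of_minimalPrimes_subset (S : Set (PrimeSpectrum B))
    (h : ∀ x : PrimeSpectrum B, x.asIdeal ∈ minimalPrimes B → x ∈ S) : Dense S := by
  intro x
  obtain ⟨p, hp, hpx⟩ := Ideal.exists_minimalPrimes_le (bot_le : (⊥ : Ideal B) ≤ x.asIdeal)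
  have hp' : p.IsPrime := hp.1.1
  let y : PrimeSpectrum B := ⟨p, hp'⟩
  have hyS : y ∈ S := h y hp
  have hspec : y ⤳ x := (PrimeSpectrum.le_iff_specializes y x).1 hpx
  exact closure_mono (Set.singleton_subset_iff.2 hyS) (specializes_iff_mem_closure.1 hspec)

lemma minimal_mem_freeLocus [IsReduced B] (M : Type u) [AddCommGroup M] [Module B M]
    (x : PrimeSpectrum B) (hx : x.asIdeal ∈ minimalPrimes B) : x ∈ Module.freeLocus B M := by
  rw [Module.mem_freeLocus]
  have : Ring.KrullDimLE 0 (Localization.AtPrime x.asIdeal) := .of_isLocalization _ hx _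
  let : Field (Localization.AtPrime x.asIdeal) := Ring.KrullDimLE.isField_of_isReduced.toField
  exact Module.Free.of_divisionRing _ _

variable (A : Type u) [CommRing A]

lemma comap_mk_nilradical_surjective :
    Function.Surjective (PrimeSpectrum.comap (algebraMap A (A ⧸ nilradical A))) := by
  have hsurj : Function.Surjective (algebraMap A (A ⧸ nilradical A)) :=
    Ideal.Quotient.mk_surjective
  rw [← Set.range_eq_univ, range_comap_of_surjective _ _ hsurj]
  ext x
  simp only [Set.mem_univ, iff_true, PrimeSpectrum.mem_zeroLocus]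
  intro a ha
  have : a ∈ nilradical A := by
    have : (algebraMap A (A ⧸ nilradical A)) a = 0 := ha
    rwa [Ideal.Quotient.algebraMap_eq, Ideal.Quotient.eq_zero_iff_mem] at this
  exact nilradical_le_prime x.asIdeal this

lemma comap_mk_nilradical_isOpenMap :
    IsOpenMap (PrimeSpectrum.comap (algebraMap A (A ⧸ nilradical A))) :=
  ((PrimeSpectrum.isEmbedding_comap_of_surjective _ (algebraMap A (A ⧸ nilradical A))
    Ideal.Quotient.mk_surjective).toHomeomorphOfSurjective
      (comap_mk_nilradical_surjective A)).isOpenMap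

instance : IsReduced (A ⧸ nilradical A) :=
  (Ideal.isRadical_iff_quotient_reduced _).1 (Ideal.radical_isRadical _)

end Top

section Main

variable [IsNoetherianRing A] (P : ChainComplex (ModuleCat.{u} A) ℤ)
  (hP : ∀ i, Module.Flat A (P.X i)) (i₀ : ℤ) (hb : ∀ i < i₀, IsZero (P.X i))
  (hfg : ∀ n : ℤ, Module.Finite A (CohIII.T P n (ModuleCat.of A A))) (N : ℤ)

include hP hb hfg in
theorem main4487 : ∃ U : Set (PrimeSpectrum A), IsOpen U ∧ Dense U ∧
    ∀ p ≤ N, IsLocallyConstant (fun x : U => CohIII.dRank P p x) := by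
  let B := A ⧸ nilradical A
  let K := CohIII.bcCx (algebraMap A B) P
  have hK : ∀ i, Module.Flat B (K.X i) := flat_bcCx_X B P hP
  have hbK : ∀ i < i₀, IsZero (K.X i) := fun i hi =>
    (ModuleCat.extendScalars (algebraMap A B)).map_isZero (hb i hi)
  have hfinK : ∀ q : ℤ, Module.Finite B (K.homology q) := by
    intro q
    obtain ⟨e⟩ := Groth.Agent.Helper13FlatCx.nonempty_restrict_homology_iso A B P q
    have hB : Module.Finite A (ModuleCat.of A B) := inferInstanceAs (Module.Finite A B)
    have h1 : Module.Finite A (CohIII.T P q (ModuleCat.of A B)) :=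
      finite_T_bdd P hP i₀ hb hfg q (ModuleCat.of A B)
    have h2 : Module.Finite A ((ModuleCat.restrictScalars (algebraMap A B)).obj (K.homology q)) :=
      Module.Finite.equiv e.toLinearEquiv.symm
    let : Module A (K.homology q) := Module.compHom _ (algebraMap A B)
    have : IsScalarTower A B (K.homology q) := IsScalarTower.of_algebraMap_smul (fun r x => rfl)
    have h3 : Module.Finite A (K.homology q) := h2
    exact Module.Finite.of_restrictScalars_finite A B (K.homology q)
  let φ := PrimeSpectrum.comap (algebraMap A B)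
  let UB : Set (PrimeSpectrum B) := ⋂ q ∈ Finset.Icc i₀ N, Module.freeLocus B (K.homology q)
  have hUB : IsOpen UB := isOpen_biInter_finset (fun q _ => by
    have := hfinK q
    have : Module.FinitePresentation B (K.homology q) := Module.finitePresentation_of_finite B _
    exact Module.isOpen_freeLocus)
  have hUBd : Dense UB := by
    apply dense_of_minimalPrimes_subset
    intro x hx
    simp only [UB, Set.mem_iInter]
    intro q _
    exact minimal_mem_freeLocus _ x hx
  refine ⟨φ '' UB, comap_mk_nilradical_isOpenMap A _ hUB, ?_, ?_⟩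
  · exact (comap_mk_nilradical_surjective A).denseRange.dense_image
      (PrimeSpectrum.continuous_comap _) hUBd
  · intro p hp
    rw [IsLocallyConstant.iff_exists_open]
    rintro ⟨x, y, hy, rfl⟩
    have hy' : ∀ q ∈ Finset.Icc i₀ N, y ∈ Module.freeLocus B (K.homology q) := by
      simpa only [UB, Set.mem_iInter] using hy
    obtain ⟨f, hyf, hlc⟩ := exists_basicOpen_locConst K hK i₀ hbK hfinK N y hy'
    let C := Localization.Away f
    let L := CohIII.bcCx (algebraMap B C) K
    let ψ := PrimeSpectrum.comap (algebraMap B C)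
    have hψ : Topology.IsOpenEmbedding ψ := PrimeSpectrum.localization_away_isOpenEmbedding C f
    have hrange : Set.range ψ = PrimeSpectrum.basicOpen f :=
      PrimeSpectrum.localization_away_comap_range C f
    obtain ⟨z, rfl⟩ : y ∈ Set.range ψ := by rw [hrange]; exact hyf
    obtain ⟨W, hWo, hzW, hW⟩ := (IsLocallyConstant.iff_exists_open _).1 (hlc p hp) z
    have key : ∀ w : PrimeSpectrum C, CohIII.dRank P p (φ (ψ w)) = CohIII.dRank L p w := by
      intro w
      rw [← Groth.Agent.S2440.result P hP p (ψ w)]
      exact (Groth.Agent.S2440.result K hK p w).symm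
    refine ⟨Subtype.val ⁻¹' (φ '' (ψ '' W)), ?_, ?_, ?_⟩
    · exact (comap_mk_nilradical_isOpenMap A _ (hψ.isOpenMap _ hWo)).preimage continuous_subtype_val
    · exact ⟨ψ z, ⟨z, hzW, rfl⟩, rfl⟩
    · rintro ⟨x', hx'U⟩ ⟨_, ⟨w, hwW, rfl⟩, hx'⟩
      change CohIII.dRank P p x' = CohIII.dRank P p (φ (ψ z))
      have : x' = φ (ψ w) := hx'.symm
      rw [this, key, key]
      exact hW w hwW

end Main

end Groth.Agent.Lib.Seat80.DRank
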