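import Mathlib
import Groth.Prelude.Def_DRing2

set_option autoImplicit false
universe u
open CategoryTheory CategoryTheory.Limits
attribute [local instance] HasDerivedCategory.standard

namespace Groth.Agent.Lib.Seat80.ExtAR

open DerivedCategory CochainComplex HomComplex

variable {A : Type u} [CommRing A]

/-- cochain complexes of `A`-modules -/
abbrev Cx (A : Type u) [CommRing A] := CochainComplex (ModuleCat.{u} A) ℤ

lemma Q_map_surjective (P Y : Cx A) [P.IsKProjective] :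
    Function.Surjective (Q.map : (P ⟶ Y) → (Q.obj P ⟶ Q.obj Y)) := by
  intro g
  obtain ⟨g', hg'⟩ := (CochainComplex.IsKProjective.Qh_map_bijective P
    ((HomotopyCategory.quotient _ _).obj Y)).2 g
  obtain ⟨f, rfl⟩ := (HomotopyCategory.quotient _ _).map_surjective g'
  exact ⟨f, hg'⟩

/-- the single complex in degree 0 -/
noncomputable abbrev sg (X : ModuleCat.{u} A) : Cx A :=
  (CochainComplex.singleFunctor (ModuleCat.{u} A) 0).obj X

/-- the module in degree 0 in `D(A)` -/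
noncomputable abbrev dsg (X : ModuleCat.{u} A) : DerivedCategory (ModuleCat.{u} A) :=
  (DerivedCategory.singleFunctor (ModuleCat.{u} A) 0).obj X

/-- `Q (sg X) ≅ dsg X` -/
noncomputable def sgIso (X : ModuleCat.{u} A) : Q.obj (sg X) ≅ dsg X :=
  ((singleFunctorIsoCompQ (ModuleCat.{u} A) 0).app X).symm

lemma sgIso_hom_naturality {X Y : ModuleCat.{u} A} (φ : X ⟶ Y) :
    Q.map ((CochainComplex.singleFunctor (ModuleCat.{u} A) 0).map φ) ≫ (sgIso Y).hom =
      (sgIso X).hom ≫ (DerivedCategory.singleFunctor (ModuleCat.{u} A) 0).map φ := by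
  have := (singleFunctorIsoCompQ (ModuleCat.{u} A) 0).inv.naturality φ
  simpa [sgIso] using this

/-- from a cochain map `E ⟶ (sg X)⟦p⟧` to a morphism in `D(A)`. -/
noncomputable def ofHom (E : Cx A) (X : ModuleCat.{u} A) (p : ℤ) (g : E ⟶ (sg X)⟦p⟧) :
    Q.obj E ⟶ (dsg X)⟦p⟧ :=
  Q.map g ≫ (Q.commShiftIso p).hom.app (sg X) ≫ (sgIso X).hom⟦p⟧'

lemma ofHom_add (E : Cx A) (X : ModuleCat.{u} A) (p : ℤ) (g g' : E ⟶ (sg X)⟦p⟧) :
    ofHom E X p (g + g') = ofHom E X p g + ofHom E X p g' := by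
  simp [ofHom, Functor.map_add]

lemma ofHom_surjective (E : Cx A) [E.IsKProjective] (X : ModuleCat.{u} A) (p : ℤ) :
    Function.Surjective (ofHom E X p) := by
  intro e
  obtain ⟨g, hg⟩ := Q_map_surjective E ((sg X)⟦p⟧)
    (e ≫ (sgIso X).inv⟦p⟧' ≫ (Q.commShiftIso p).inv.app (sg X))
  refine ⟨g, ?_⟩
  simp only [ofHom, hg, Category.assoc, Iso.inv_hom_id_app_assoc]
  rw [← CategoryTheory.Functor.map_comp, Iso.inv_hom_id, CategoryTheory.Functor.map_id, Category.comp_id]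

lemma ofHom_comp (E : Cx A) {X Y : ModuleCat.{u} A} (φ : X ⟶ Y) (p : ℤ) (g : E ⟶ (sg X)⟦p⟧) :
    ofHom E Y p (g ≫ ((CochainComplex.singleFunctor (ModuleCat.{u} A) 0).map φ)⟦p⟧') =
      ofHom E X p g ≫ ((DerivedCategory.singleFunctor (ModuleCat.{u} A) 0).map φ)⟦p⟧' := by
  simp only [ofHom, Functor.map_comp, Category.assoc]
  congr 1
  have h1 := (Q.commShiftIso p).hom.naturality
    ((CochainComplex.singleFunctor (ModuleCat.{u} A) 0).map φ)
  simp only [Functor.comp_map] at h1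
  rw [reassoc_of% h1, ← Functor.map_comp, ← Functor.map_comp, sgIso_hom_naturality]


/-- the morphism in `D(A)` attached to a cocycle `E^q → X`. -/
noncomputable def cocyc (E : Cx A) (X : ModuleCat.{u} A) {p q : ℤ} (h : q + p = 0) (q' : ℤ)
    (hq' : q' + 1 = q) (f : E.X q ⟶ X) (hf : E.d q' q ≫ f = 0) : Q.obj E ⟶ (dsg X)⟦p⟧ :=
  ofHom E X p (Cocycle.equivHomShift.symm (Cocycle.toSingleMk f h q' hq' hf))

lemma cocyc_add (E : Cx A) (X : ModuleCat.{u} A) {p q : ℤ} (h : q + p = 0) (q' : ℤ)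
    (hq' : q' + 1 = q) (f g : E.X q ⟶ X) (hf : E.d q' q ≫ f = 0) (hg : E.d q' q ≫ g = 0) :
    cocyc E X h q' hq' (f + g) (by simp [hf, hg]) =
      cocyc E X h q' hq' f hf + cocyc E X h q' hq' g hg := by
  simp only [cocyc]
  rw [Cocycle.toSingleMk_add f g h q' hq' hf hg, map_add, ofHom_add]

lemma cocyc_comp (E : Cx A) {X Y : ModuleCat.{u} A} (φ : X ⟶ Y) {p q : ℤ} (h : q + p = 0) (q' : ℤ)
    (hq' : q' + 1 = q) (f : E.X q ⟶ X) (hf : E.d q' q ≫ f = 0) :
    cocyc E Y h q' hq' (f ≫ φ) (by simp [reassoc_of% hf]) =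
      cocyc E X h q' hq' f hf ≫
        ((DerivedCategory.singleFunctor (ModuleCat.{u} A) 0).map φ)⟦p⟧' := by
  simp only [cocyc]
  rw [Cocycle.toSingleMk_postcomp f h q' hq' hf φ, Cocycle.equivHomShift_symm_postcomp, ofHom_comp]

lemma cocyc_surjective (E : Cx A) [E.IsKProjective] (X : ModuleCat.{u} A) {p q : ℤ}
    (h : q + p = 0) (q' : ℤ) (hq' : q' + 1 = q) (e : Q.obj E ⟶ (dsg X)⟦p⟧) :
    ∃ (f : E.X q ⟶ X) (hf : E.d q' q ≫ f = 0), cocyc E X h q' hq' f hf = e := by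
  obtain ⟨g, rfl⟩ := ofHom_surjective E X p e
  obtain ⟨f, hf, hfg⟩ := Cocycle.toSingleMk_surjective (Cocycle.equivHomShift g) q h q' hq'
  refine ⟨f, hf, ?_⟩
  simp only [cocyc, hfg, AddEquiv.symm_apply_apply]

lemma cocyc_smul (E : Cx A) (X : ModuleCat.{u} A) {p q : ℤ} (h : q + p = 0) (q' : ℤ)
    (hq' : q' + 1 = q) (a : A) (f : E.X q ⟶ X) (hf : E.d q' q ≫ f = 0) :
    cocyc E X h q' hq' (a • f) (by simp [hf]) = a • cocyc E X h q' hq' f hf := by
  have h1 : a • f = f ≫ (a • 𝟙 X) := by simp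
  have h2 := cocyc_comp E (a • 𝟙 X) h q' hq' f hf
  have h3 : ((DerivedCategory.singleFunctor (ModuleCat.{u} A) 0).map (a • 𝟙 X))⟦p⟧' =
      a • 𝟙 ((dsg X)⟦p⟧) := by
    rw [Functor.map_smul, Functor.map_smul, CategoryTheory.Functor.map_id,
      CategoryTheory.Functor.map_id]
  rw [h3] at h2
  simp only [Linear.comp_smul, Category.comp_id] at h2
  rw [← h2]


section Lin

variable (E : Cx A) (M : Type u) [AddCommGroup M] [Module A M]

/-- the submodule of cocycles `E^q → M`. -/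
def Zl (q' q : ℤ) : Submodule A (E.X q →ₗ[A] M) :=
  LinearMap.ker (LinearMap.lcomp A M (E.d q' q).hom)

variable {E M} in
lemma mem_Zl {q' q : ℤ} {f : E.X q →ₗ[A] M} :
    f ∈ Zl E M q' q ↔ f ∘ₗ (E.d q' q).hom = 0 := by
  rw [Zl, LinearMap.mem_ker]
  rfl

variable {E M} in
lemma d_comp_ofHom {q' q : ℤ} {f : E.X q →ₗ[A] M} (hf : f ∈ Zl E M q' q) :
    E.d q' q ≫ ModuleCat.ofHom f = 0 := by
  ext x
  have := LinearMap.congr_fun (mem_Zl.1 hf) x
  simpa using this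

/-- the linear map from cocycles to morphisms in `D(A)`. -/
noncomputable def Φ {p q : ℤ} (h : q + p = 0) (q' : ℤ) (hq' : q' + 1 = q) :
    Zl E M q' q →ₗ[A] (Q.obj E ⟶ (dsg (ModuleCat.of A M))⟦p⟧) where
  toFun z := cocyc E (ModuleCat.of A M) h q' hq' (ModuleCat.ofHom z.1) (d_comp_ofHom z.2)
  map_add' z w := by
    rw [← cocyc_add]
    rfl
  map_smul' a z := by
    rw [RingHom.id_apply, ← cocyc_smul]
    rfl

lemma Φ_apply {p q : ℤ} (h : q + p = 0) (q' : ℤ) (hq' : q' + 1 = q) (z : Zl E M q' q) :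
    Φ E M h q' hq' z =
      cocyc E (ModuleCat.of A M) h q' hq' (ModuleCat.ofHom z.1) (d_comp_ofHom z.2) := rfl

lemma Φ_surjective [E.IsKProjective] {p q : ℤ} (h : q + p = 0) (q' : ℤ) (hq' : q' + 1 = q) :
    Function.Surjective (Φ E M h q' hq') := by
  intro e
  obtain ⟨f, hf, rfl⟩ := cocyc_surjective E (ModuleCat.of A M) h q' hq' e
  refine ⟨⟨f.hom, ?_⟩, ?_⟩
  · rw [mem_Zl]
    have := congrArg ModuleCat.Hom.hom hf
    simpa using this
  · rfl

variable {M} in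
lemma Φ_comp {N : Type u} [AddCommGroup N] [Module A N] (φ : M →ₗ[A] N)
    {p q : ℤ} (h : q + p = 0) (q' : ℤ) (hq' : q' + 1 = q) (z : Zl E M q' q)
    (hz : φ ∘ₗ z.1 ∈ Zl E N q' q) :
    Φ E N h q' hq' ⟨φ ∘ₗ z.1, hz⟩ = Φ E M h q' hq' z ≫
      ((DerivedCategory.singleFunctor (ModuleCat.{u} A) 0).map (ModuleCat.ofHom φ))⟦p⟧' := by
  rw [Φ_apply, Φ_apply, ← cocyc_comp]
  rfl

end Lin


section Alg

lemma linearMap_mem_smul_top {F M : Type u} [AddCommGroup F] [Module A F] [Module.Finite A F]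
    [Module.Free A F] [AddCommGroup M] [Module A M] (J : Ideal A) (ψ : F →ₗ[A] M)
    (h : ∀ x, ψ x ∈ (J • ⊤ : Submodule A M)) :
    ψ ∈ (J • ⊤ : Submodule A (F →ₗ[A] M)) := by
  classical
  let b := Module.Free.chooseBasis A F
  have hψ : ψ = ∑ i, (b.coord i).smulRight (ψ (b i)) := by
    apply b.ext
    intro j
    rw [LinearMap.sum_apply]
    simp only [LinearMap.smulRight_apply, Module.Basis.coord_apply, Module.Basis.repr_self]
    rw [Finset.sum_eq_single j]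
    · simp
    · intro i _ hij
      simp [hij.symm]
    · intro hj
      exact absurd (Finset.mem_univ j) hj
  rw [hψ]
  refine Submodule.sum_mem _ fun i _ => ?_
  let L : M →ₗ[A] (F →ₗ[A] M) := LinearMap.smulRightₗ (b.coord i)
  have h1 : L (ψ (b i)) ∈ Submodule.map L (J • ⊤) := Submodule.mem_map_of_mem (h _)
  rw [Submodule.map_smul''] at h1
  exact Submodule.smul_mono le_rfl le_top h1

lemma exists_artinRees [IsNoetherianRing A] {F : Type u} [AddCommGroup F] [Module A F]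
    [Module.Finite A F] (I : Ideal A) (N : Submodule A F) :
    ∃ c : ℕ, ∀ n ≥ c, (I ^ n • ⊤ ⊓ N : Submodule A F) ≤ I ^ (n - c) • N := by
  obtain ⟨k, hk⟩ := Ideal.exists_pow_inf_eq_pow_smul I N
  exact ⟨k, fun n hn => (hk n hn).le.trans (Submodule.smul_mono le_rfl inf_le_right)⟩

lemma exists_mem_smul_top_of_mem_smul {F : Type u} [AddCommGroup F] [Module A F] (J : Ideal A)
    (N : Submodule A F) {x : F} (hx : x ∈ J • N) :
    ∃ z : N, z ∈ (J • ⊤ : Submodule A N) ∧ z.1 = x := by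
  have h1 : J • N = Submodule.map N.subtype (J • ⊤) := by
    rw [Submodule.map_smul'', Submodule.map_top, Submodule.range_subtype]
  rw [h1] at hx
  obtain ⟨z, hz, rfl⟩ := hx
  exact ⟨z, hz, rfl⟩

lemma map_mem_smul_top {N H : Type*} [AddCommGroup N] [Module A N] [AddCommGroup H] [Module A H]
    (J : Ideal A) (L : N →ₗ[A] H) {z : N} (hz : z ∈ (J • ⊤ : Submodule A N)) :
    L z ∈ (J • ⊤ : Submodule A H) := by
  have h1 : L z ∈ Submodule.map L (J • ⊤) := Submodule.mem_map_of_mem hz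
  rw [Submodule.map_smul''] at h1
  exact Submodule.smul_mono le_rfl le_top h1

end Alg

theorem core [IsNoetherianRing A] (I : Ideal A) (E : Cx A) [E.IsKProjective]
    (hE : ∀ i, Module.Finite A (E.X i) ∧ Module.Free A (E.X i))
    (M : Type u) [AddCommGroup M] [Module A M] [Module.Finite A M] (p : ℤ) :
    ∃ c : ℕ, ∀ n : ℕ, c ≤ n →
      ∀ e : Q.obj E ⟶ (dsg (ModuleCat.of A ↥(I ^ n • ⊤ : Submodule A M)))⟦p⟧,
        e ≫ ((DerivedCategory.singleFunctor (ModuleCat.{u} A) 0).map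
              (ModuleCat.ofHom (I ^ n • ⊤ : Submodule A M).subtype))⟦p⟧' ∈
          (I ^ (n - c) • ⊤ : Submodule A (Q.obj E ⟶ (dsg (ModuleCat.of A M))⟦p⟧)) := by
  have h : (-p) + p = 0 := by omega
  have hq' : (-p - 1) + 1 = -p := by omega
  have := (hE (-p)).1
  have := (hE (-p)).2
  obtain ⟨c, hc⟩ := exists_artinRees I (Zl E M (-p - 1) (-p))
  refine ⟨c, fun n hn e => ?_⟩
  obtain ⟨z, rfl⟩ := Φ_surjective E ↥(I ^ n • ⊤ : Submodule A M) h (-p - 1) hq' e
  have hψZ : (I ^ n • ⊤ : Submodule A M).subtype ∘ₗ z.1 ∈ Zl E M (-p - 1) (-p) := by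
    rw [mem_Zl, LinearMap.comp_assoc, mem_Zl.1 z.2, LinearMap.comp_zero]
  rw [← Φ_comp E (I ^ n • ⊤ : Submodule A M).subtype h (-p - 1) hq' z hψZ]
  have hψI : (I ^ n • ⊤ : Submodule A M).subtype ∘ₗ z.1 ∈
      (I ^ n • ⊤ : Submodule A (E.X (-p) →ₗ[A] M)) :=
    linearMap_mem_smul_top _ _ fun x => (z.1 x).2
  obtain ⟨w, hw, hwψ⟩ := exists_mem_smul_top_of_mem_smul _ _ (hc n hn ⟨hψI, hψZ⟩)
  have hw' : (⟨(I ^ n • ⊤ : Submodule A M).subtype ∘ₗ z.1, hψZ⟩ : Zl E M (-p - 1) (-p)) = w :=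
    Subtype.ext hwψ.symm
  rw [hw']
  exact map_mem_smul_top _ _ hw


/-- a bounded above complex of finite free modules is K-projective. -/
lemma isKProjective_of_pc (E : Cx A) (b : ℤ) (hb : DRing.VanishesAbove E b)
    (hff : DRing.TermwiseFiniteFree E) : E.IsKProjective := by
  have h1 : E.IsStrictlyLE b := by
    rw [CochainComplex.isStrictlyLE_iff]
    intro i hi
    exact hb i hi
  have h2 : ∀ n : ℤ, Projective (E.X n) := fun n => by
    have := (hff n).2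
    infer_instance
  exact CochainComplex.isKProjective_of_projective E b

/-- precomposition with a morphism maps `J • ⊤` into `J • ⊤`. -/
lemma precomp_mem_smul_top {C : Type*} [Category C] [Preadditive C] [Linear A C]
    {X Y Z : C} (f : X ⟶ Y) (J : Ideal A) {g : Y ⟶ Z} (hg : g ∈ (J • ⊤ : Submodule A (Y ⟶ Z))) :
    f ≫ g ∈ (J • ⊤ : Submodule A (X ⟶ Z)) :=
  map_mem_smul_top J (Linear.leftComp A Z f) hg

theorem main7149 (A : Type u) [CommRing A] [IsNoetherianRing A] (I : Ideal A)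
    (K : Dual.D A) (hK : DRing.IsPseudoCoherent' A K) (M : Type u) [AddCommGroup M] [Module A M]
    [Module.Finite A M] (p : ℤ) :
    ∃ c : ℕ, ∀ n : ℕ, c ≤ n →
      ∀ e : K ⟶ (Dual.inD A ↥(I ^ n • ⊤ : Submodule A M))⟦p⟧,
        e ≫ ((DerivedCategory.singleFunctor (ModuleCat.{u} A) 0).map
              (ModuleCat.ofHom (I ^ n • ⊤ : Submodule A M).subtype))⟦p⟧' ∈
          (I ^ (n - c) • ⊤ : Submodule A (K ⟶ (Dual.inD A M)⟦p⟧)) := by
  obtain ⟨E, b, hb, hff, ⟨α⟩⟩ := hK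
  have := isKProjective_of_pc E b hb hff
  obtain ⟨c, hc⟩ := core I E hff M p
  refine ⟨c, fun n hn e => ?_⟩
  have h1 := hc n hn (α.hom ≫ e)
  have h2 := precomp_mem_smul_top α.inv _ h1
  simpa using h2

end Groth.Agent.Lib.Seat80.ExtAR
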