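import Mathlib
import Groth.Agent.Lib.Seat80ExtAR

set_option autoImplicit false
universe u
open CategoryTheory CategoryTheory.Limits Pretriangulated
attribute [local instance] HasDerivedCategory.standard

namespace Groth.Agent.Lib.Seat80.ExtAR2

section Tri

variable {C : Type*} [Category C] [Preadditive C] [HasZeroObject C] [HasShift C ℤ]
  [∀ n : ℤ, (shiftFunctor C n).Additive] [Pretriangulated C]

lemma shift_dist' (T : Triangle C) (hT : T ∈ distTriang C) (i : ℤ) :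
    Triangle.mk (i.negOnePow • (T.mor₁)⟦i⟧') (i.negOnePow • (T.mor₂)⟦i⟧')
      (i.negOnePow • (T.mor₃)⟦i⟧' ≫ (shiftFunctorComm C 1 i).hom.app T.obj₁) ∈ distTriang C :=
  Triangle.shift_distinguished T hT i

lemma exact₂_shift (T : Triangle C) (hT : T ∈ distTriang C) (i : ℤ) {X : C}
    (f : X ⟶ (T.obj₂)⟦i⟧) (hf : f ≫ (T.mor₂)⟦i⟧' = 0) :
    ∃ g : X ⟶ (T.obj₁)⟦i⟧, f = g ≫ (T.mor₁)⟦i⟧' := by
  have hT' := shift_dist' T hT i
  obtain ⟨(g : X ⟶ (T.obj₁)⟦i⟧), hg⟩ := Triangle.coyoneda_exact₂ _ hT' f (by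
    change f ≫ (i.negOnePow • (T.mor₂)⟦i⟧') = 0
    rw [Linear.comp_units_smul, hf, smul_zero])
  change f = g ≫ (i.negOnePow • (T.mor₁)⟦i⟧') at hg
  refine ⟨i.negOnePow • g, ?_⟩
  rw [hg, Linear.comp_units_smul, Linear.units_smul_comp]

lemma exact₃_shift (T : Triangle C) (hT : T ∈ distTriang C) (i : ℤ) {X : C}
    (f : X ⟶ (T.obj₃)⟦i⟧) (hf : f ≫ (T.mor₃)⟦i⟧' = 0) :
    ∃ g : X ⟶ (T.obj₂)⟦i⟧, f = g ≫ (T.mor₂)⟦i⟧' := by
  have hT' := shift_dist' T hT i
  obtain ⟨(g : X ⟶ (T.obj₂)⟦i⟧), hg⟩ := Triangle.coyoneda_exact₃ _ hT' f (by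
    change f ≫ (i.negOnePow • (T.mor₃)⟦i⟧' ≫ (shiftFunctorComm C 1 i).hom.app T.obj₁) = 0
    rw [Linear.comp_units_smul, reassoc_of% hf, zero_comp, smul_zero])
  change f = g ≫ (i.negOnePow • (T.mor₂)⟦i⟧') at hg
  refine ⟨i.negOnePow • g, ?_⟩
  rw [hg, Linear.comp_units_smul, Linear.units_smul_comp]

end Tri


open Groth.Agent.Lib.Seat80.ExtAR DerivedCategory

variable {A : Type u} [CommRing A]

/-- `Ext^p(K, M)` is a finite module for `K` pseudo-coherent, `M` finite, `A` Noetherian. -/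
lemma finite_hom [IsNoetherianRing A] (K : Dual.D A) (hK : DRing.IsPseudoCoherent' A K)
    (M : Type u) [AddCommGroup M] [Module A M] [Module.Finite A M] (p : ℤ) :
    Module.Finite A (K ⟶ (Dual.inD A M)⟦p⟧) := by
  obtain ⟨E, b, hb, hff, ⟨α⟩⟩ := hK
  have := isKProjective_of_pc E b hb hff
  have h : (-p) + p = 0 := by omega
  have hq' : (-p - 1) + 1 = -p := by omega
  have := (hff (-p)).1
  have := (hff (-p)).2
  let L : Zl E M (-p - 1) (-p) →ₗ[A] (K ⟶ (Dual.inD A M)⟦p⟧) :=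
    (Linear.leftComp A _ α.inv) ∘ₗ Φ E M h (-p - 1) hq'
  refine Module.Finite.of_surjective L ?_
  intro e
  obtain ⟨z, hz⟩ := Φ_surjective E M h (-p - 1) hq' (α.hom ≫ e)
  refine ⟨z, ?_⟩
  simp [L, hz]

/-- a finite module all of whose elements are `I`-power torsion is killed by a power of `I`. -/
lemma exists_pow_smul_top_eq_bot {H : Type*} [AddCommGroup H] [Module A H] [Module.Finite A H]
    (I : Ideal A) (h : ∀ e : H, ∃ n : ℕ, ∀ x ∈ I ^ n, x • e = 0) :
    ∃ t : ℕ, (I ^ t • ⊤ : Submodule A H) = ⊥ := by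
  classical
  obtain ⟨S, hS⟩ := (Module.finite_def.1 (inferInstance : Module.Finite A H))
  choose n hn using h
  refine ⟨S.sup n, ?_⟩
  rw [eq_bot_iff, Submodule.smul_le]
  intro x hx e he0
  clear he0
  rw [Submodule.mem_bot]
  have he : e ∈ Submodule.span A (S : Set H) := by rw [hS]; trivial
  induction he using Submodule.span_induction with
  | mem y hy => exact hn y x (Ideal.pow_le_pow_right (Finset.le_sup hy) hx)
  | zero => simp
  | add y z _ _ hy hz => rw [smul_add, hy, hz, add_zero]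
  | smul a y _ hy => rw [smul_comm, hy, smul_zero]

/-- the vanishing lemma: for large `n`, `Ext^i(K, I^n X) → Ext^i(K, X)` is zero. -/
lemma exists_vanishing [IsNoetherianRing A] (I : Ideal A) (K : Dual.D A)
    (hK : DRing.IsPseudoCoherent' A K)
    (X : Type u) [AddCommGroup X] [Module A X] [Module.Finite A X] (i : ℤ)
    (htors : ∀ e : K ⟶ (Dual.inD A X)⟦i⟧, ∃ n : ℕ, ∀ x ∈ I ^ n, x • e = 0) :
    ∃ N : ℕ, ∀ n : ℕ, N ≤ n → ∀ e : K ⟶ (Dual.inD A ↥(I ^ n • ⊤ : Submodule A X))⟦i⟧,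
      e ≫ ((DerivedCategory.singleFunctor (ModuleCat.{u} A) 0).map
              (ModuleCat.ofHom (I ^ n • ⊤ : Submodule A X).subtype))⟦i⟧' = 0 := by
  obtain ⟨c, hc⟩ := main7149 A I K hK X i
  have := finite_hom K hK X i
  obtain ⟨t, ht⟩ := exists_pow_smul_top_eq_bot I htors
  refine ⟨c + t, fun n hn e => ?_⟩
  have h1 := hc n (by omega) e
  have h2 : (I ^ (n - c) • ⊤ : Submodule A (K ⟶ (Dual.inD A X)⟦i⟧)) ≤ I ^ t • ⊤ :=
    Submodule.smul_mono (Ideal.pow_le_pow_right (by omega)) le_rfl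
  have h3 := h2 h1
  rw [ht, Submodule.mem_bot] at h3
  exact h3


section SC

variable {M : Type u} [AddCommGroup M] [Module A M]

/-- the short complex `N → M → M/N`. -/
noncomputable def SC (N : Submodule A M) : ShortComplex (ModuleCat.{u} A) :=
  ShortComplex.mk (ModuleCat.ofHom N.subtype) (ModuleCat.ofHom N.mkQ) (by
    ext x
    simp)

lemma SC_shortExact (N : Submodule A M) : (SC N).ShortExact :=
  ModuleCat.shortComplex_shortExact _ (LinearMap.exact_subtype_mkQ N)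
    N.injective_subtype N.mkQ_surjective

/-- the morphism of short complexes for `N' ≤ N`. -/
noncomputable def SCmap {N' N : Submodule A M} (h : N' ≤ N) : SC N' ⟶ SC N where
  τ₁ := ModuleCat.ofHom (Submodule.inclusion h)
  τ₂ := 𝟙 _
  τ₃ := ModuleCat.ofHom (Submodule.mapQ N' N (LinearMap.id : M →ₗ[A] M) (by simpa using h))
  comm₁₂ := by
    ext x
    rfl
  comm₂₃ := by
    ext x
    rfl

/-- the connecting morphism of `N → M → M/N`. -/
noncomputable def δ (N : Submodule A M) : Dual.inD A (M ⧸ N) ⟶ (Dual.inD A ↥N)⟦(1 : ℤ)⟧ :=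
  (SC_shortExact N).singleδ

/-- the distinguished triangle of `N → M → M/N`. -/
noncomputable abbrev Tr (N : Submodule A M) : Triangle (Dual.D A) :=
  Triangle.mk ((DerivedCategory.singleFunctor (ModuleCat.{u} A) 0).map (ModuleCat.ofHom N.subtype))
    ((DerivedCategory.singleFunctor (ModuleCat.{u} A) 0).map (ModuleCat.ofHom N.mkQ)) (δ N)

lemma Tr_dist (N : Submodule A M) : Tr N ∈ distTriang (Dual.D A) :=
  (SC_shortExact N).singleTriangle_distinguished

lemma Tr_comm₃ {N' N : Submodule A M} (h : N' ≤ N) :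
    δ N' ≫ ((DerivedCategory.singleFunctor (ModuleCat.{u} A) 0).map
        (ModuleCat.ofHom (Submodule.inclusion h)))⟦(1 : ℤ)⟧' =
      (DerivedCategory.singleFunctor (ModuleCat.{u} A) 0).map
        (ModuleCat.ofHom (Submodule.mapQ N' N (LinearMap.id : M →ₗ[A] M) (by simpa using h))) ≫
        δ N :=
  (ShortComplex.ShortExact.singleTriangle.map (SC_shortExact N') (SC_shortExact N) (SCmap h)).comm₃

end SC

section DShift

variable {C : Type*} [Category C] [Preadditive C] [HasShift C ℤ]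

lemma dshift_vanish {K Y Z : C} (g : Y ⟶ Z) (i : ℤ)
    (hV : ∀ e : K ⟶ Y⟦i + 1⟧, e ≫ g⟦i + 1⟧' = 0) (f : K ⟶ (Y⟦(1 : ℤ)⟧)⟦i⟧) :
    f ≫ (g⟦(1 : ℤ)⟧')⟦i⟧' = 0 := by
  have hnat := (shiftFunctorAdd' C 1 i (i + 1) (by omega)).hom.naturality g
  simp only [Functor.comp_map] at hnat
  have h1 := hV (f ≫ (shiftFunctorAdd' C 1 i (i + 1) (by omega)).inv.app Y)
  have h2 : f ≫ (g⟦(1 : ℤ)⟧')⟦i⟧' =
      (f ≫ (shiftFunctorAdd' C 1 i (i + 1) (by omega)).inv.app Y) ≫ g⟦i + 1⟧' ≫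
        (shiftFunctorAdd' C 1 i (i + 1) (by omega)).hom.app Z := by
    rw [hnat]
    simp
  rw [h2, ← Category.assoc, h1, zero_comp]

end DShift

/-- the comparison `I^(n+k) M → I^k (I^n M)`. -/
noncomputable def jmap {M : Type u} [AddCommGroup M] [Module A M] (I : Ideal A) (n k : ℕ) :
    ↥(I ^ (n + k) • ⊤ : Submodule A M) →ₗ[A]
      ↥(I ^ k • ⊤ : Submodule A ↥(I ^ n • ⊤ : Submodule A M)) :=
  (Submodule.inclusion (Submodule.smul_mono_left
      (Ideal.pow_le_pow_right (Nat.le_add_right n k)))).codRestrict _ (by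
    intro x
    have h1 : (I ^ (n + k) • ⊤ : Submodule A M) =
        Submodule.map (I ^ n • ⊤ : Submodule A M).subtype (I ^ k • ⊤) := by
      rw [Submodule.map_smul'', Submodule.map_top, Submodule.range_subtype, ← mul_smul,
        ← pow_add, add_comm]
    have h2 : x.1 ∈ Submodule.map (I ^ n • ⊤ : Submodule A M).subtype (I ^ k • ⊤) := by
      rw [← h1]
      exact x.2
    obtain ⟨y, hy, hyx⟩ := h2
    have : y = Submodule.inclusion (Submodule.smul_mono_left
      (Ideal.pow_le_pow_right (Nat.le_add_right n k))) x := Subtype.ext hyx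
    rw [← this]
    exact hy)

lemma subtype_comp_jmap {M : Type u} [AddCommGroup M] [Module A M] (I : Ideal A) (n k : ℕ) :
    (I ^ k • ⊤ : Submodule A ↥(I ^ n • ⊤ : Submodule A M)).subtype ∘ₗ jmap I n k =
      Submodule.inclusion (Submodule.smul_mono_left
        (Ideal.pow_le_pow_right (Nat.le_add_right n k))) :=
  LinearMap.subtype_comp_codRestrict _ _ _


theorem main7164 (A : Type u) [CommRing A] [IsNoetherianRing A]
    (I : Ideal A) (K : Dual.D A) (hK : DRing.IsPseudoCoherent' A K) (a : ℤ)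
    (htors : ∀ (M : Type u) [AddCommGroup M] [Module A M], Module.Finite A M → ∀ i : ℤ, a ≤ i →
      ∀ e : K ⟶ (Dual.inD A M)⟦i⟧, ∃ n : ℕ, ∀ x ∈ I ^ n, x • e = 0)
    (M : Type u) [AddCommGroup M] [Module A M] [Module.Finite A M] (i : ℤ) (hi : a ≤ i) :
    let Mq : ℕ → Submodule A M := fun n => I ^ n • ⊤
    let c : ∀ n : ℕ, (K ⟶ (Dual.inD A M)⟦i⟧) → (K ⟶ (Dual.inD A (M ⧸ Mq n))⟦i⟧) :=
      fun n e => e ≫ ((DerivedCategory.singleFunctor (ModuleCat.{u} A) 0).map (ModuleCat.ofHom (Mq n).mkQ))⟦i⟧'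
    let t : ∀ n m : ℕ, n ≤ m → (K ⟶ (Dual.inD A (M ⧸ Mq m))⟦i⟧) → (K ⟶ (Dual.inD A (M ⧸ Mq n))⟦i⟧) :=
      fun n m hnm e => e ≫ ((DerivedCategory.singleFunctor (ModuleCat.{u} A) 0).map (ModuleCat.ofHom
        (Submodule.mapQ (Mq m) (Mq n) (LinearMap.id : M →ₗ[A] M) (Submodule.smul_mono_left (Ideal.pow_le_pow_right hnm)))))⟦i⟧'
    (∃ m : ℕ, Function.Injective (c m)) ∧
      ∀ n : ℕ, ∃ (m' : ℕ) (hnm : n ≤ m'), Set.range (t n m' hnm) ⊆ Set.range (c n) := by
  intro Mq c t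
  refine ⟨?_, ?_⟩
  · obtain ⟨N, hN⟩ := exists_vanishing I K hK M i (htors M inferInstance i hi)
    refine ⟨N, fun e e' hee' => ?_⟩
    have h0 : (e - e') ≫ ((Tr (Mq N)).mor₂)⟦i⟧' = 0 := by
      rw [Preadditive.sub_comp, sub_eq_zero]
      exact hee'
    obtain ⟨g, hg⟩ := exact₂_shift (Tr (Mq N)) (Tr_dist _) i (e - e') h0
    have h1 : g ≫ ((Tr (Mq N)).mor₁)⟦i⟧' = 0 := hN N le_rfl g
    rw [h1] at hg
    exact sub_eq_zero.1 hg
  · intro n
    have hfin : Module.Finite A ↥(Mq n) := inferInstance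
    obtain ⟨N', hN'⟩ := exists_vanishing I K hK ↥(Mq n) (i + 1)
      (htors ↥(Mq n) hfin (i + 1) (by omega))
    refine ⟨n + N', Nat.le_add_right n N', ?_⟩
    rintro _ ⟨e', rfl⟩
    have hle : Mq (n + N') ≤ Mq n :=
      Submodule.smul_mono_left (Ideal.pow_le_pow_right (Nat.le_add_right n N'))
    have hkey : t n (n + N') (Nat.le_add_right n N') e' ≫ (δ (Mq n))⟦i⟧' = 0 := by
      have hc3 := Tr_comm₃ (A := A) hle
      change (e' ≫ ((DerivedCategory.singleFunctor (ModuleCat.{u} A) 0).map (ModuleCat.ofHom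
        (Submodule.mapQ (Mq (n + N')) (Mq n) (LinearMap.id : M →ₗ[A] M) _)))⟦i⟧') ≫
          (δ (Mq n))⟦i⟧' = 0
      rw [Category.assoc, ← CategoryTheory.Functor.map_comp, ← hc3]
      have hj : ModuleCat.ofHom (Submodule.inclusion hle) =
          ModuleCat.ofHom (jmap I n N') ≫
            ModuleCat.ofHom (I ^ N' • ⊤ : Submodule A ↥(Mq n)).subtype := by
        rw [← ModuleCat.ofHom_comp, subtype_comp_jmap]
      rw [hj, CategoryTheory.Functor.map_comp, CategoryTheory.Functor.map_comp,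
        CategoryTheory.Functor.map_comp, CategoryTheory.Functor.map_comp, ← Category.assoc,
        ← Category.assoc]
      exact dshift_vanish _ i (hN' N' le_rfl) _
    obtain ⟨g, hg⟩ := exact₃_shift (Tr (Mq n)) (Tr_dist _) i _ hkey
    exact ⟨g, hg.symm⟩

end Groth.Agent.Lib.Seat80.ExtAR2
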