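import Mathlib
import Groth.Agent.Lib.Seat80ExtAR

set_option autoImplicit false
universe u
open CategoryTheory CategoryTheory.Limits Pretriangulated
attribute [local instance] HasDerivedCategory.standard

namespace Groth.Agent.Lib.Seat80.ExtAR3

open Groth.Agent.Lib.Seat80.ExtAR DerivedCategory

variable {A : Type u} [CommRing A]

/-- the single complex of a projective module is K-projective -/
lemma isKProjective_sg (F : ModuleCat.{u} A) [Projective F] : (sg F).IsKProjective := by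
  have : ∀ n : ℤ, Projective ((sg F).X n) := fun n => by
    by_cases hn : n = 0
    · subst hn
      exact Projective.of_iso (HomologicalComplex.singleObjXSelf (ComplexShape.up ℤ) 0 F).symm
        inferInstance
    · exact (HomologicalComplex.isZero_single_obj_X (ComplexShape.up ℤ) 0 F n hn).projective
  exact CochainComplex.isKProjective_of_projective (sg F) 0

/-- no higher Ext out of a projective module -/
lemma hom_projective_eq_zero (F : ModuleCat.{u} A) [Projective F] (N : ModuleCat.{u} A) (p : ℤ)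
    (hp : p ≠ 0) (e : dsg F ⟶ (dsg N)⟦p⟧) : e = 0 := by
  have := isKProjective_sg F
  have h : (-p) + p = 0 := by omega
  have hq' : (-p - 1) + 1 = -p := by omega
  obtain ⟨f, hf, hfe⟩ := cocyc_surjective (sg F) N h (-p - 1) hq' ((sgIso F).hom ≫ e)
  have hz : IsZero ((sg F).X (-p)) :=
    HomologicalComplex.isZero_single_obj_X (ComplexShape.up ℤ) 0 F (-p) (by omega)
  have hf0 : f = 0 := hz.eq_of_src _ _
  subst hf0
  have h0 : cocyc (sg F) N h (-p - 1) hq' 0 (by simp) = 0 := by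
    have := cocyc_smul (sg F) N h (-p - 1) hq' (0 : A) 0 (by simp)
    simpa using this
  rw [h0] at hfe
  rw [← cancel_epi (sgIso F).hom, ← hfe, comp_zero]


/-- the inductive statement -/
def P (I : Ideal A) (N : Type u) [AddCommGroup N] [Module A N] (p : ℕ) : Prop :=
  ∀ (M : Type u) [AddCommGroup M] [Module A M] [Module.Finite A M],
    ∃ c : ℕ, ∀ n k : ℕ, n = k + c → ∀ e : Dual.inD A M ⟶ (Dual.inD A N)⟦(p : ℤ)⟧,
      ∃ e' : Dual.inD A ↥(I ^ n • ⊤ : Submodule A M) ⟶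
          (Dual.inD A ↥(I ^ k • ⊤ : Submodule A N))⟦(p : ℤ)⟧,
        e' ≫ ((DerivedCategory.singleFunctor (ModuleCat.{u} A) 0).map
              (ModuleCat.ofHom (I ^ k • ⊤ : Submodule A N).subtype))⟦(p : ℤ)⟧' =
          (DerivedCategory.singleFunctor (ModuleCat.{u} A) 0).map
              (ModuleCat.ofHom (I ^ n • ⊤ : Submodule A M).subtype) ≫ e

lemma map_smul_top_le {M N : Type u} [AddCommGroup M] [Module A M] [AddCommGroup N] [Module A N]
    (J : Ideal A) (φ : M →ₗ[A] N) : ∀ x ∈ (J • ⊤ : Submodule A M), φ x ∈ (J • ⊤ : Submodule A N) :=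
  fun _ hx => map_mem_smul_top J φ hx

lemma zero_case {C : Type*} [Category C] [HasShift C ℤ] {a : ℤ} (ha : a = 0) {X X' Y Y' : C}
    (iX : X' ⟶ X) (iY : Y' ⟶ Y) (e : X ⟶ Y⟦a⟧) (φ' : X' ⟶ Y')
    (hφ : φ' ≫ iY = iX ≫ e ≫ (shiftFunctorZero' C a ha).hom.app Y) :
    ∃ e' : X' ⟶ Y'⟦a⟧, e' ≫ iY⟦a⟧' = iX ≫ e := by
  subst ha
  refine ⟨φ' ≫ (shiftFunctorZero C ℤ).inv.app Y', ?_⟩
  have hnat := (shiftFunctorZero C ℤ).inv.naturality iY
  simp only [Functor.id_map] at hnat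
  rw [Category.assoc, ← hnat, ← Category.assoc, hφ]
  simp [shiftFunctorZero']

lemma P_zero (I : Ideal A) (N : Type u) [AddCommGroup N] [Module A N] : P I N 0 := by
  intro M _ _ _
  refine ⟨0, fun n k hnk e => ?_⟩
  obtain rfl : n = k := by omega
  obtain ⟨φ, hφ⟩ := (DerivedCategory.singleFunctor (ModuleCat.{u} A) 0).map_surjective
    (e ≫ (shiftFunctorZero' (Dual.D A) ((0 : ℕ) : ℤ) Nat.cast_zero).hom.app (Dual.inD A N))
  let ψ : ↥(I ^ n • ⊤ : Submodule A M) →ₗ[A] ↥(I ^ n • ⊤ : Submodule A N) :=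
    φ.hom.restrict (map_smul_top_le (I ^ n) φ.hom)
  have hψ : ModuleCat.ofHom ψ ≫ ModuleCat.ofHom (I ^ n • ⊤ : Submodule A N).subtype =
      ModuleCat.ofHom (I ^ n • ⊤ : Submodule A M).subtype ≫ φ := by
    ext x
    rfl
  refine zero_case Nat.cast_zero _ _ e
    ((DerivedCategory.singleFunctor (ModuleCat.{u} A) 0).map (ModuleCat.ofHom ψ)) ?_
  rw [← hφ, ← CategoryTheory.Functor.map_comp, ← CategoryTheory.Functor.map_comp, hψ]

lemma step_case {C : Type*} [Category C] [HasShift C ℤ] {p p1 : ℤ} (hp : p + 1 = p1)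
    {XM XnM XK XnK XmK YN YkN : C}
    (iM : XnM ⟶ XM) (iK : XmK ⟶ XK) (iN : YkN ⟶ YN)
    (τ₁ : XnK ⟶ XK) (u : XnK ⟶ XmK) (hu : u ≫ iK = τ₁)
    (δ : XM ⟶ XK⟦(1 : ℤ)⟧) (δn : XnM ⟶ XnK⟦(1 : ℤ)⟧) (hδ : δn ≫ τ₁⟦(1 : ℤ)⟧' = iM ≫ δ)
    (hex : ∀ e : XM ⟶ YN⟦p1⟧, ∃ η₁ : XK⟦(1 : ℤ)⟧ ⟶ YN⟦p1⟧, e = δ ≫ η₁)
    (hIH : ∀ η : XK ⟶ YN⟦p⟧, ∃ η' : XmK ⟶ YkN⟦p⟧, η' ≫ iN⟦p⟧' = iK ≫ η)
    (e : XM ⟶ YN⟦p1⟧) :
    ∃ e' : XnM ⟶ YkN⟦p1⟧, e' ≫ iN⟦p1⟧' = iM ≫ e := by
  obtain ⟨η₁, rfl⟩ := hex e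
  obtain ⟨η, hη⟩ := (shiftFunctor C (1 : ℤ)).map_surjective
    (η₁ ≫ (shiftFunctorAdd' C p 1 p1 hp).hom.app YN)
  obtain ⟨η', hη'⟩ := hIH η
  refine ⟨δn ≫ (u ≫ η')⟦(1 : ℤ)⟧' ≫ (shiftFunctorAdd' C p 1 p1 hp).inv.app YkN, ?_⟩
  have hnat := (shiftFunctorAdd' C p 1 p1 hp).inv.naturality iN
  simp only [Functor.comp_map] at hnat
  have hη₁ : η₁ = η⟦(1 : ℤ)⟧' ≫ (shiftFunctorAdd' C p 1 p1 hp).inv.app YN := by
    rw [hη]
    simp
  rw [Category.assoc, Category.assoc, ← hnat, ← Category.assoc ((u ≫ η')⟦(1 : ℤ)⟧'),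
    ← CategoryTheory.Functor.map_comp, Category.assoc u, hη', ← Category.assoc u, hu,
    CategoryTheory.Functor.map_comp, Category.assoc, ← Category.assoc δn, hδ, hη₁]
  simp


lemma P_succ [IsNoetherianRing A] (I : Ideal A) (N : Type u) [AddCommGroup N] [Module A N] (p : ℕ)
    (hP : P I N p) : P I N (p + 1) := by
  intro M _ _ _
  obtain ⟨r, π, hπ⟩ := Module.Finite.exists_fin' A M
  let K : Submodule A (Fin r → A) := LinearMap.ker π
  obtain ⟨c₁, hc₁⟩ := exists_artinRees I K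
  obtain ⟨c', hc'⟩ := hP ↥K
  refine ⟨c₁ + c', fun n k hnk e => ?_⟩
  have hm : k + c' = k + c' := rfl
  -- the short exact sequence `K → F → M`
  let S : ShortComplex (ModuleCat.{u} A) :=
    ShortComplex.mk (ModuleCat.ofHom K.subtype) (ModuleCat.ofHom π) (by
      ext x
      exact x.2)
  have hS : S.ShortExact := ModuleCat.shortComplex_shortExact S
    (LinearMap.exact_subtype_ker_map π) K.injective_subtype hπ
  -- the short exact sequence `K_n → I^n F → I^n M`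
  let Kn : Submodule A (Fin r → A) := I ^ n • ⊤ ⊓ K
  let fn : ↥Kn →ₗ[A] ↥(I ^ n • ⊤ : Submodule A (Fin r → A)) := Submodule.inclusion inf_le_left
  let gn : ↥(I ^ n • ⊤ : Submodule A (Fin r → A)) →ₗ[A] ↥(I ^ n • ⊤ : Submodule A M) :=
    π.restrict (map_smul_top_le (I ^ n) π)
  have hfg : Function.Exact fn gn := by
    intro y
    constructor
    · intro hy
      have h1 : π y.1 = 0 := congrArg Subtype.val hy
      exact ⟨⟨y.1, ⟨y.2, h1⟩⟩, Subtype.ext rfl⟩
    · rintro ⟨x, rfl⟩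
      exact Subtype.ext x.2.2
  have hgn : Function.Surjective gn := by
    rintro ⟨y, hy⟩
    have h1 : (I ^ n • ⊤ : Submodule A M) = Submodule.map π (I ^ n • ⊤) := by
      rw [Submodule.map_smul'', Submodule.map_top, LinearMap.range_eq_top.2 hπ]
    rw [h1] at hy
    obtain ⟨x, hx, hxy⟩ := hy
    exact ⟨⟨x, hx⟩, Subtype.ext hxy⟩
  let Sn : ShortComplex (ModuleCat.{u} A) :=
    ShortComplex.mk (ModuleCat.ofHom fn) (ModuleCat.ofHom gn) (by
      ext x
      exact congrArg Subtype.val (hfg.apply_apply_eq_zero x))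
  have hSn : Sn.ShortExact := ModuleCat.shortComplex_shortExact Sn hfg
    (Submodule.inclusion_injective (inf_le_left : Kn ≤ I ^ n • ⊤)) hgn
  let φ : Sn ⟶ S :=
    { τ₁ := ModuleCat.ofHom (Submodule.inclusion (inf_le_right : Kn ≤ K))
      τ₂ := ModuleCat.ofHom (I ^ n • ⊤ : Submodule A (Fin r → A)).subtype
      τ₃ := ModuleCat.ofHom (I ^ n • ⊤ : Submodule A M).subtype
      comm₁₂ := by
        ext x
        rfl
      comm₂₃ := by
        ext x
        rfl }
  have hδ := (ShortComplex.ShortExact.singleTriangle.map hSn hS φ).comm₃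
  -- the map `K_n → I^m K`
  have hKn : ∀ x : ↥Kn, Submodule.inclusion (inf_le_right : Kn ≤ K) x ∈
      (I ^ (k + c') • ⊤ : Submodule A ↥K) := by
    intro x
    have h1 := hc₁ n (by omega) x.2
    have h2 : n - c₁ = k + c' := by omega
    rw [h2] at h1
    obtain ⟨z, hz, hzx⟩ := exists_mem_smul_top_of_mem_smul _ _ h1
    have : z = Submodule.inclusion (inf_le_right : Kn ≤ K) x := Subtype.ext hzx
    rw [← this]
    exact hz
  let u : ↥Kn →ₗ[A] ↥(I ^ (k + c') • ⊤ : Submodule A ↥K) :=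
    (Submodule.inclusion (inf_le_right : Kn ≤ K)).codRestrict _ hKn
  have hu : ModuleCat.ofHom u ≫ ModuleCat.ofHom (X := ↥(I ^ (k + c') • ⊤ : Submodule A ↥K))
      (Y := ↥K) (I ^ (k + c') • ⊤ : Submodule A ↥K).subtype =
      ModuleCat.ofHom (Submodule.inclusion (inf_le_right : Kn ≤ K)) := by
    ext x
    rfl
  have hp : (p : ℤ) + 1 = ((p + 1 : ℕ) : ℤ) := by push_cast; rfl
  refine step_case hp
    ((DerivedCategory.singleFunctor (ModuleCat.{u} A) 0).map
      (ModuleCat.ofHom (I ^ n • ⊤ : Submodule A M).subtype))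
    ((DerivedCategory.singleFunctor (ModuleCat.{u} A) 0).map
      (ModuleCat.ofHom (X := ↥(I ^ (k + c') • ⊤ : Submodule A ↥K)) (Y := ↥K)
        (I ^ (k + c') • ⊤ : Submodule A ↥K).subtype))
    ((DerivedCategory.singleFunctor (ModuleCat.{u} A) 0).map
      (ModuleCat.ofHom (I ^ k • ⊤ : Submodule A N).subtype))
    ((DerivedCategory.singleFunctor (ModuleCat.{u} A) 0).map
      (ModuleCat.ofHom (Submodule.inclusion (inf_le_right : Kn ≤ K))))
    ((DerivedCategory.singleFunctor (ModuleCat.{u} A) 0).map (ModuleCat.ofHom u))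
    (by rw [← CategoryTheory.Functor.map_comp, hu])
    hS.singleδ hSn.singleδ hδ ?_ ?_ e
  · intro e
    refine Triangle.yoneda_exact₃ _ hS.singleTriangle_distinguished e ?_
    exact hom_projective_eq_zero (ModuleCat.of A (Fin r → A)) (ModuleCat.of A N) _
      (by omega) _
  · intro η
    exact hc' (k + c') k rfl η


lemma P_all [IsNoetherianRing A] (I : Ideal A) (N : Type u) [AddCommGroup N] [Module A N] (p : ℕ) :
    P I N p := by
  induction p with
  | zero => exact P_zero I N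
  | succ p ih => exact P_succ I N p ih

theorem main7148 (A : Type u) [CommRing A] [IsNoetherianRing A] (I : Ideal A)
    (M N : Type u) [AddCommGroup M] [Module A M] [Module.Finite A M] [AddCommGroup N] [Module A N]
    (p : ℕ) :
    ∃ c : ℕ, ∀ n : ℕ, c ≤ n →
      ∀ e : Dual.inD A M ⟶ (Dual.inD A N)⟦(p : ℤ)⟧,
        ∃ e' : Dual.inD A ↥(I ^ n • ⊤ : Submodule A M) ⟶ (Dual.inD A ↥(I ^ (n - c) • ⊤ : Submodule A N))⟦(p : ℤ)⟧,
          e' ≫ ((DerivedCategory.singleFunctor (ModuleCat.{u} A) 0).map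
                  (ModuleCat.ofHom (I ^ (n - c) • ⊤ : Submodule A N).subtype))⟦(p : ℤ)⟧' =
            (DerivedCategory.singleFunctor (ModuleCat.{u} A) 0).map
                (ModuleCat.ofHom (I ^ n • ⊤ : Submodule A M).subtype) ≫ e := by
  obtain ⟨c, hc⟩ := P_all I N p M
  exact ⟨c, fun n hn e => hc n (n - c) (by omega) e⟩

end Groth.Agent.Lib.Seat80.ExtAR3
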