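/-
Seat80: `R → S` of finite type, `p` a minimal prime of `R` with finitely many primes of `S` over it;
then `R_g → S_g` is finite for some `g ∉ p`.
Proof: the fibre `κ(p) ⊗ S` is a finite `κ(p)`-algebra (Jacobson + finite spectrum), so `S_p/pS_p` is
integral over `R_p`; `pR_p` is a nil ideal (p minimal), so `S_p` is integral over `R_p`; clearing
denominators, each generator `s` of `S` has `g_s • s` integral over `R` with `g_s ∉ p`; take the product.
-/
import Mathlib
set_option autoImplicit false
universe u

namespace Groth.Agent.Lib.Seat80.FiniteAway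

open TensorProduct


theorem fiber_finite {R S : Type u} [CommRing R] [CommRing S] [Algebra R S]
    [Algebra.FiniteType R S] (p : Ideal R) [p.IsPrime] (hfin : (p.primesOver S).Finite) :
    Module.Finite p.ResidueField (p.Fiber S) := by
  rw [Module.finite_iff_isArtinianRing, isArtinianRing_iff_isNoetherianRing_krullDimLE_zero]
  have : IsJacobsonRing (p.Fiber S) := isJacobsonRing_of_finiteType (A := p.ResidueField)
  have h1 : Finite (p.primesOver S) := hfin.to_subtype
  have : Finite (PrimeSpectrum (p.Fiber S)) :=
    (PrimeSpectrum.primesOverOrderIsoFiber R S p).toEquiv.finite_iff.mp h1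
  exact ⟨Algebra.FiniteType.isNoetherianRing p.ResidueField _,
    (PrimeSpectrum.discreteTopology_iff_finite_and_krullDimLE_zero.mp inferInstance).right⟩

/-- If `I` is a nil ideal of `A` and the class of `t : B` modulo `I B` is integral over `A`, then
`t` is integral over `A`. -/
theorem isIntegral_of_nil {A B : Type*} [CommRing A] [CommRing B] [Algebra A B] (I : Ideal A)
    (hI : I ≤ nilradical A) (t : B)
    (ht : IsIntegral A (Ideal.Quotient.mk (I.map (algebraMap A B)) t)) : IsIntegral A t := by
  obtain ⟨F, hF, hFt⟩ := ht
  have h1 : Polynomial.aeval t F ∈ I.map (algebraMap A B) := by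
    rw [← Ideal.Quotient.eq_zero_iff_mem]
    rw [← Polynomial.aeval_def] at hFt
    rw [← hFt]
    exact (Polynomial.aeval_algHom_apply (Ideal.Quotient.mkₐ A (I.map (algebraMap A B))) t F).symm
  have h2 : I.map (algebraMap A B) ≤ nilradical B := by
    rw [Ideal.map_le_iff_le_comap]
    intro a ha
    have := hI ha
    rw [mem_nilradical] at this
    rw [Ideal.mem_comap, mem_nilradical]
    exact this.map _
  obtain ⟨N, hN⟩ := mem_nilradical.mp (h2 h1)
  refine ⟨F ^ N, hF.pow N, ?_⟩
  rw [← Polynomial.aeval_def, map_pow, hN]

theorem maximalIdeal_le_nilradical {R : Type*} [CommRing R] (p : Ideal R) [p.IsPrime]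
    (hp : p ∈ minimalPrimes R) :
    IsLocalRing.maximalIdeal (Localization.AtPrime p) ≤ nilradical (Localization.AtPrime p) := by
  have := IsLocalization.AtPrime.radical_map_of_mem_minimalPrimes (A := Localization.AtPrime p) p ⊥ hp
  rw [Ideal.map_bot, Localization.AtPrime.map_eq_maximalIdeal] at this
  rw [nilradical, Ideal.zero_eq_bot, this]

attribute [local instance] Algebra.TensorProduct.rightAlgebra in
theorem isIntegral_localization_of_fiber_finite {R S : Type u} [CommRing R] [CommRing S] [Algebra R S]
    (p : Ideal R) [p.IsPrime] (hp : p ∈ minimalPrimes R)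
    [Module.Finite p.ResidueField (p.Fiber S)] :
    Algebra.IsIntegral (Localization.AtPrime p)
      (Localization (Algebra.algebraMapSubmonoid S p.primeCompl)) := by
  refine ⟨fun t => isIntegral_of_nil (IsLocalRing.maximalIdeal (Localization.AtPrime p))
    (maximalIdeal_le_nilradical p hp) t ?_⟩
  let e := Ideal.Fiber.algEquivQuotient p (S := S)
  let e' := (e.restrictScalars R).extendScalarsOfIsLocalization (Localization.AtPrime p) p.primeCompl
  have hx : IsIntegral p.ResidueField (e'.symm (Ideal.Quotient.mk _ t)) :=
    Algebra.IsIntegral.isIntegral _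
  have hx' : IsIntegral (Localization.AtPrime p) (e'.symm (Ideal.Quotient.mk _ t)) :=
    isIntegral_trans _ hx
  have := hx'.map e'.toAlgHom
  simpa using this



theorem exists_isIntegral_smul {R S : Type*} [CommRing R] [CommRing S] [Algebra R S]
    (p : Ideal R) [p.IsPrime]
    [Algebra.IsIntegral (Localization.AtPrime p)
      (Localization (Algebra.algebraMapSubmonoid S p.primeCompl))] (s : S) :
    ∃ g : R, g ∉ p ∧ IsIntegral R (g • s) := by
  have h1 : IsIntegral (Localization.AtPrime p)
      (algebraMap S (Localization (Algebra.algebraMapSubmonoid S p.primeCompl)) s) :=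
    Algebra.IsIntegral.isIntegral _
  obtain ⟨m, hm⟩ := IsIntegral.exists_multiple_integral_of_isLocalization p.primeCompl _ h1
  have h2 : m • algebraMap S (Localization (Algebra.algebraMapSubmonoid S p.primeCompl)) s =
      algebraMap S (Localization (Algebra.algebraMapSubmonoid S p.primeCompl)) ((m : R) • s) := by
    rw [Submonoid.smul_def, Algebra.smul_def, Algebra.smul_def, map_mul,
      ← IsScalarTower.algebraMap_apply]
  rw [h2] at hm
  obtain ⟨m', hm', h⟩ := IsLocalization.exists_isIntegral_smul_of_isIntegral_map p.primeCompl hm
  refine ⟨m' * m, ?_, by simpa [mul_smul] using h⟩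
  exact fun hmem => (Ideal.IsPrime.mem_or_mem ‹_› hmem).elim hm' m.2

theorem finite_awayMap_of_isIntegral_smul {R S : Type u} [CommRing R] [CommRing S] [Algebra R S]
    [Algebra.FiniteType R S] (t : Set S) (ht : Algebra.adjoin R t = ⊤) (g : R)
    (hg : ∀ s ∈ t, IsIntegral R (g • s)) :
    (Localization.awayMap (algebraMap R S) g).Finite := by
  algebraize [Localization.awayMap (algebraMap R S) g]
  have hcomp : algebraMap R (Localization.Away (algebraMap R S g)) =
      (algebraMap (Localization.Away g) (Localization.Away (algebraMap R S g))).comp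
        (algebraMap R (Localization.Away g)) := by
    rw [RingHom.algebraMap_toAlgebra, Localization.awayMap, IsLocalization.Away.map,
      IsLocalization.map_comp, ← IsScalarTower.algebraMap_eq]
  have : IsScalarTower R (Localization.Away g) (Localization.Away (algebraMap R S g)) :=
    IsScalarTower.of_algebraMap_eq' hcomp
  refine RingHom.finite_iff_isIntegral_and_finiteType.mpr ⟨?_, ?_⟩
  · -- the unit `g` and its inverse
    have hunit : algebraMap (Localization.Away g) (Localization.Away (algebraMap R S g))
        (IsLocalization.Away.invSelf g) *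
        algebraMap S (Localization.Away (algebraMap R S g)) (algebraMap R S g) = 1 := by
      rw [← IsScalarTower.algebraMap_apply, hcomp, RingHom.comp_apply, ← map_mul,
        mul_comm, IsLocalization.Away.mul_invSelf, map_one]
    have key : ∀ a : S, IsIntegral (Localization.Away g)
        (algebraMap S (Localization.Away (algebraMap R S g)) a) := by
      intro a
      have ha : a ∈ Algebra.adjoin R t := ht ▸ Algebra.mem_top
      induction ha using Algebra.adjoin_induction with
      | mem x hx =>
        have h1 : IsIntegral R (algebraMap S (Localization.Away (algebraMap R S g)) (g • x)) :=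
          (hg x hx).map (IsScalarTower.toAlgHom R S (Localization.Away (algebraMap R S g)))
        have h2 : IsIntegral (Localization.Away g)
            (algebraMap S (Localization.Away (algebraMap R S g)) (g • x)) := h1.tower_top
        rw [Algebra.smul_def, map_mul, mul_comm] at h2
        exact IsIntegral.of_mul_unit hunit h2
      | algebraMap r =>
        rw [← IsScalarTower.algebraMap_apply, hcomp, RingHom.comp_apply]
        exact isIntegral_algebraMap
      | add x y _ _ hx hy => rw [map_add]; exact hx.add hy
      | mul x y _ _ hx hy => rw [map_mul]; exact hx.mul hy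
    intro x
    obtain ⟨⟨a, ⟨_, n, rfl⟩⟩, rfl⟩ := IsLocalization.mk'_surjective (.powers (algebraMap R S g)) x
    have hunit' : algebraMap (Localization.Away g) (Localization.Away (algebraMap R S g))
        (IsLocalization.Away.invSelf g ^ n) *
        algebraMap S (Localization.Away (algebraMap R S g)) (algebraMap R S g ^ n) = 1 := by
      rw [map_pow, map_pow, ← mul_pow, hunit, one_pow]
    refine IsIntegral.of_mul_unit hunit' ?_
    rw [IsLocalization.mk'_spec]
    exact key a
  · refine RingHom.finiteType_algebraMap.mpr ?_
    exact .of_restrictScalars_finiteType R _ _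


theorem main (R S : Type u) [CommRing R] [CommRing S]
    [Algebra R S] [Algebra.FiniteType R S] (p : Ideal R) (hp : p ∈ minimalPrimes R)
    (hfin : (p.primesOver S).Finite) :
    ∃ g : R, g ∉ p ∧ (Localization.awayMap (algebraMap R S) g).Finite := by
  classical
  have : p.IsPrime := hp.1.1
  have := fiber_finite p hfin
  have := isIntegral_localization_of_fiber_finite (S := S) p hp
  obtain ⟨t, ht⟩ := (Algebra.FiniteType.out : (⊤ : Subalgebra R S).FG)
  choose! g hgp hg using fun s : S => exists_isIntegral_smul (S := S) p s
  refine ⟨∏ s ∈ t, g s, ?_, finite_awayMap_of_isIntegral_smul (t : Set S) ht _ ?_⟩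
  · rw [Ideal.IsPrime.prod_mem_iff]
    push Not
    intro s _
    exact hgp s
  · intro s hs
    rw [← Finset.mul_prod_erase t g hs, mul_comm, mul_smul]
    exact (hg s).smul _

end Groth.Agent.Lib.Seat80.FiniteAway
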