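/-
Seat80: for a ℤ-graded ring with an invertible homogeneous element of positive degree, the homogeneous
primes (with the subspace topology) map homeomorphically onto the spectrum of the degree-zero part.
-/
import Mathlib
set_option autoImplicit false
universe u
open DirectSum

namespace Groth.Agent.Lib.Seat80.GradedUnit

variable {R S : Type u} [CommRing R] [CommRing S] [Algebra R S] (𝒜 : ℤ → Submodule R S) [GradedAlgebra 𝒜]

/-- the inverse of a homogeneous unit is homogeneous -/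
theorem inv_mem {f : S} {d : ℤ} (hf : f ∈ 𝒜 d) (u : Sˣ) (hu : (u : S) = f) :
    ((u⁻¹ : Sˣ) : S) ∈ 𝒜 (-d) := by
  set g : S := ((u⁻¹ : Sˣ) : S) with hg
  have hfg : f * g = 1 := by rw [← hu, hg]; exact u.mul_inv
  have h1 : (decompose 𝒜 (f * g) (d + (-d)) : S) = f * decompose 𝒜 g (-d) :=
    coe_decompose_mul_add_of_left_mem 𝒜 hf
  rw [hfg, add_neg_cancel, decompose_of_mem_same 𝒜 (SetLike.GradedOne.one_mem)] at h1
  have h2 : g = decompose 𝒜 g (-d) := by
    calc g = g * 1 := (mul_one g).symm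
      _ = g * (f * decompose 𝒜 g (-d)) := by rw [← h1]
      _ = (f * g) * decompose 𝒜 g (-d) := by ring
      _ = decompose 𝒜 g (-d) := by rw [hfg, one_mul]
  rw [h2]
  exact SetLike.coe_mem _

theorem zpow_mem {f : S} {d : ℤ} (hf : f ∈ 𝒜 d) (u : Sˣ) (hu : (u : S) = f) (m : ℤ) :
    ((u ^ m : Sˣ) : S) ∈ 𝒜 (m * d) := by
  have hg := inv_mem 𝒜 hf u hu
  cases m with
  | ofNat n =>
    have : ((u ^ (Int.ofNat n) : Sˣ) : S) = f ^ n := by
      rw [← hu]; simp
    rw [this]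
    have := SetLike.pow_mem_graded n hf
    simpa using this
  | negSucc n =>
    have : ((u ^ (Int.negSucc n) : Sˣ) : S) = ((u⁻¹ : Sˣ) : S) ^ (n + 1) := by
      simp [zpow_negSucc]
    rw [this]
    have := SetLike.pow_mem_graded (n + 1) hg
    convert this using 2
    simp [Int.negSucc_eq]
    ring

theorem theta_mem {f : S} {d : ℤ} (hd : 0 < d) (hf : f ∈ 𝒜 d) (u : Sˣ) (hu : (u : S) = f) {n : ℤ} {x : S}
    (hx : x ∈ 𝒜 n) : x ^ d.toNat * ((u ^ (-n) : Sˣ) : S) ∈ 𝒜 0 := by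
  have h1 := SetLike.pow_mem_graded d.toNat hx
  have h2 := zpow_mem 𝒜 hf u hu (-n)
  have := SetLike.GradedMul.mul_mem h1 h2
  convert this using 2
  rw [nsmul_eq_mul, Int.toNat_of_nonneg hd.le]
  ring

theorem theta_mem_iff {d : ℤ} (hd : 0 < d) (u : Sˣ) (p : Ideal S) [hp : p.IsPrime] (n : ℤ) (x : S) :
    x ^ d.toNat * ((u ^ (-n) : Sˣ) : S) ∈ p ↔ x ∈ p := by
  constructor
  · intro h
    have : x ^ d.toNat ∈ p := by
      have := p.mul_mem_right ((u ^ n : Sˣ) : S) h
      rwa [mul_assoc, ← Units.val_mul, ← zpow_add, neg_add_cancel, zpow_zero, Units.val_one,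
        mul_one] at this
    exact hp.mem_of_pow_mem _ this
  · intro h
    exact p.mul_mem_right _ (p.pow_mem_of_mem h _ (by omega))

theorem mem_of_mem_map (q : Ideal (SetLike.GradeZero.subring 𝒜)) {x : S} (hx0 : x ∈ 𝒜 0)
    (hx : x ∈ q.map (SetLike.GradeZero.subring 𝒜).subtype) :
    (⟨x, hx0⟩ : SetLike.GradeZero.subring 𝒜) ∈ q := by
  have key : ∀ y ∈ q.map (SetLike.GradeZero.subring 𝒜).subtype, ∀ s : S,
      (⟨decompose 𝒜 (s * y) 0, SetLike.coe_mem _⟩ : SetLike.GradeZero.subring 𝒜) ∈ q := by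
    intro y hy
    unfold Ideal.map at hy
    induction hy using Submodule.span_induction with
    | mem y hy =>
      obtain ⟨z, hz, rfl⟩ := hy
      intro s
      have : (⟨decompose 𝒜 (s * (SetLike.GradeZero.subring 𝒜).subtype z) 0, SetLike.coe_mem _⟩ :
          SetLike.GradeZero.subring 𝒜) = ⟨decompose 𝒜 s 0, SetLike.coe_mem _⟩ * z := by
        apply Subtype.ext
        exact coe_decompose_mul_of_right_mem_zero 𝒜 z.2
      rw [this]
      exact q.mul_mem_left _ hz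
    | zero =>
      intro s
      have : (⟨decompose 𝒜 (s * 0) 0, SetLike.coe_mem _⟩ : SetLike.GradeZero.subring 𝒜) = 0 := by
        apply Subtype.ext
        simp
      rw [this]
      exact q.zero_mem
    | add y y' _ _ hy hy' =>
      intro s
      have : (⟨decompose 𝒜 (s * (y + y')) 0, SetLike.coe_mem _⟩ : SetLike.GradeZero.subring 𝒜) =
          ⟨decompose 𝒜 (s * y) 0, SetLike.coe_mem _⟩ + ⟨decompose 𝒜 (s * y') 0, SetLike.coe_mem _⟩ := by
        apply Subtype.ext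
        change (decompose 𝒜 (s * (y + y')) 0 : S) =
          (decompose 𝒜 (s * y) 0 : S) + (decompose 𝒜 (s * y') 0 : S)
        rw [mul_add, decompose_add, DirectSum.add_apply, Submodule.coe_add]
      rw [this]
      exact q.add_mem (hy s) (hy' s)
    | smul a y _ hy =>
      intro s
      have := hy (s * a)
      rwa [mul_assoc] at this
  have := key x hx 1
  have e : (⟨decompose 𝒜 (1 * x) 0, SetLike.coe_mem _⟩ : SetLike.GradeZero.subring 𝒜) = ⟨x, hx0⟩ := by
    apply Subtype.ext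
    simp [decompose_of_mem_same 𝒜 hx0]
  rwa [e] at this

theorem exists_homogeneous_prime {f : S} {d : ℤ} (hd : 0 < d) (hf : f ∈ 𝒜 d) (u : Sˣ) (hu : (u : S) = f)
    (q : Ideal (SetLike.GradeZero.subring 𝒜)) [hq : q.IsPrime] :
    ∃ p : Ideal S, p.IsPrime ∧ p.IsHomogeneous 𝒜 ∧ p.comap (SetLike.GradeZero.subring 𝒜).subtype = q := by
  set ι := (SetLike.GradeZero.subring 𝒜).subtype with hι
  set I : Ideal S := q.map ι with hI
  have hIhom : I.IsHomogeneous 𝒜 := by
    apply Ideal.homogeneous_span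
    rintro _ ⟨y, -, rfl⟩
    exact ⟨0, y.2⟩
  have hrad : I.radical.IsHomogeneous 𝒜 := hIhom.radical
  have hcomap : I.radical.comap ι = q := by
    ext y
    rw [Ideal.mem_comap]
    constructor
    · rintro ⟨N, hN⟩
      have h0 : (ι y) ^ N ∈ 𝒜 0 := (y ^ N).2
      have := mem_of_mem_map 𝒜 q h0 hN
      have e : (⟨(ι y) ^ N, h0⟩ : SetLike.GradeZero.subring 𝒜) = y ^ N := Subtype.ext rfl
      rw [e] at this
      exact hq.mem_of_pow_mem _ this
    · intro hy
      exact Ideal.le_radical (Ideal.mem_map_of_mem ι hy)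
  have hne : I.radical ≠ ⊤ := by
    intro h
    have : (1 : SetLike.GradeZero.subring 𝒜) ∈ I.radical.comap ι := by
      rw [h]; trivial
    rw [hcomap] at this
    exact hq.ne_top ((Ideal.eq_top_iff_one q).mpr this)
  refine ⟨I.radical, ?_, hrad, hcomap⟩
  refine hrad.isPrime_of_homogeneous_mem_or_mem hne ?_
  rintro x y ⟨n, hx⟩ ⟨m, hy⟩ ⟨N, hN⟩
  set a : S := x ^ d.toNat * ((u ^ (-n) : Sˣ) : S) with ha
  set b : S := y ^ d.toNat * ((u ^ (-m) : Sˣ) : S) with hb
  have ha0 : a ∈ 𝒜 0 := theta_mem 𝒜 hd hf u hu hx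
  have hb0 : b ∈ 𝒜 0 := theta_mem 𝒜 hd hf u hu hy
  have hab : (a * b) ^ N ∈ I := by
    have e : (a * b) ^ N = ((x * y) ^ N) ^ d.toNat * (((u ^ (-n) : Sˣ) : S) * ((u ^ (-m) : Sˣ) : S)) ^ N := by
      rw [ha, hb]; ring
    rw [e]
    exact I.mul_mem_right _ (I.pow_mem_of_mem hN _ (by omega))
  have hab0 : (a * b) ^ N ∈ 𝒜 0 := ((⟨a, ha0⟩ * ⟨b, hb0⟩ : SetLike.GradeZero.subring 𝒜) ^ N).2
  have h1 := mem_of_mem_map 𝒜 q hab0 hab
  have e1 : (⟨(a * b) ^ N, hab0⟩ : SetLike.GradeZero.subring 𝒜) = (⟨a, ha0⟩ * ⟨b, hb0⟩) ^ N :=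
    Subtype.ext rfl
  rw [e1] at h1
  have h2 := hq.mem_of_pow_mem _ h1
  have aux : ∀ (k : ℤ) (z : S) (hz0 : z ^ d.toNat * ((u ^ (-k) : Sˣ) : S) ∈ 𝒜 0),
      (⟨z ^ d.toNat * ((u ^ (-k) : Sˣ) : S), hz0⟩ : SetLike.GradeZero.subring 𝒜) ∈ q → z ∈ I.radical := by
    intro k z hz0 hz
    have h3 : z ^ d.toNat * ((u ^ (-k) : Sˣ) : S) ∈ I := Ideal.mem_map_of_mem ι hz
    have h4 := I.mul_mem_right ((u ^ k : Sˣ) : S) h3
    rw [mul_assoc, ← Units.val_mul, ← zpow_add, neg_add_cancel, zpow_zero, Units.val_one,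
        mul_one] at h4
    exact ⟨d.toNat, h4⟩
  rcases hq.mem_or_mem h2 with h | h
  · exact Or.inl (aux n x ha0 h)
  · exact Or.inr (aux m y hb0 h)

theorem main (f : S) (d : ℤ) (hd : 0 < d) (hf : f ∈ 𝒜 d) (hu : IsUnit f) :
    IsHomeomorph (fun p : {p : PrimeSpectrum S // p.asIdeal.IsHomogeneous 𝒜} =>
      PrimeSpectrum.comap (SetLike.GradeZero.subring 𝒜).subtype p.1) := by
  classical
  obtain ⟨u, hu⟩ := hu
  set ι := (SetLike.GradeZero.subring 𝒜).subtype with hι
  set φ : {p : PrimeSpectrum S // p.asIdeal.IsHomogeneous 𝒜} → PrimeSpectrum (SetLike.GradeZero.subring 𝒜) :=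
    fun p => PrimeSpectrum.comap ι p.1 with hφ
  -- the key membership criterion
  have hkey : ∀ (p : {p : PrimeSpectrum S // p.asIdeal.IsHomogeneous 𝒜}) (n : ℤ) (x : S) (hx : x ∈ 𝒜 n),
      x ∈ p.1.asIdeal ↔
        (⟨x ^ d.toNat * ((u ^ (-n) : Sˣ) : S), theta_mem 𝒜 hd hf u hu hx⟩ : SetLike.GradeZero.subring 𝒜) ∈
          (φ p).asIdeal := by
    intro p n x hx
    rw [hφ, PrimeSpectrum.comap_asIdeal, Ideal.mem_comap]
    exact (theta_mem_iff hd u p.1.asIdeal n x).symm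
  -- membership via components
  have hcomp : ∀ (p : {p : PrimeSpectrum S // p.asIdeal.IsHomogeneous 𝒜}) (x : S),
      x ∈ p.1.asIdeal ↔ ∀ n : ℤ, (decompose 𝒜 x n : S) ∈ p.1.asIdeal := by
    intro p x
    constructor
    · intro hx n
      exact p.2 n hx
    · intro h
      rw [← DirectSum.sum_support_decompose 𝒜 x]
      exact Ideal.sum_mem _ (fun n _ => h n)
  have hinj : Function.Injective φ := by
    intro p p' hpp'
    apply Subtype.ext
    apply PrimeSpectrum.ext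
    ext x
    rw [hcomp p, hcomp p']
    refine forall_congr' fun n => ?_
    rw [hkey p n _ (SetLike.coe_mem _), hkey p' n _ (SetLike.coe_mem _), hpp']
  have hsurj : Function.Surjective φ := by
    intro q
    obtain ⟨p, hp, hph, hpq⟩ := exists_homogeneous_prime 𝒜 hd hf u hu q.asIdeal
    refine ⟨⟨⟨p, hp⟩, hph⟩, ?_⟩
    apply PrimeSpectrum.ext
    exact hpq
  refine ⟨?_, ?_, hinj, hsurj⟩
  · exact (PrimeSpectrum.continuous_comap ι).comp continuous_subtype_val
  · have hB := (PrimeSpectrum.isTopologicalBasis_basic_opens (R := S)).isInducing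
      (Topology.IsInducing.subtypeVal (t := {p : PrimeSpectrum S | p.asIdeal.IsHomogeneous 𝒜}))
    rw [hB.isOpenMap_iff]
    rintro _ ⟨_, ⟨x, rfl⟩, rfl⟩
    have : φ '' (Subtype.val ⁻¹' (PrimeSpectrum.basicOpen x : Set (PrimeSpectrum S))) =
        ⋃ n : ℤ, (PrimeSpectrum.basicOpen
          (⟨(decompose 𝒜 x n : S) ^ d.toNat * ((u ^ (-n) : Sˣ) : S),
            theta_mem 𝒜 hd hf u hu (SetLike.coe_mem _)⟩ : SetLike.GradeZero.subring 𝒜) :
              Set (PrimeSpectrum (SetLike.GradeZero.subring 𝒜))) := by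
      ext q
      simp only [Set.mem_image, Set.mem_preimage, Set.mem_iUnion]
      constructor
      · rintro ⟨p, hp, rfl⟩
        have hp' : x ∉ p.1.asIdeal := hp
        rw [hcomp p] at hp'
        push Not at hp'
        obtain ⟨n, hn⟩ := hp'
        refine ⟨n, ?_⟩
        rw [hkey p n _ (SetLike.coe_mem _)] at hn
        exact hn
      · rintro ⟨n, hn⟩
        obtain ⟨p, rfl⟩ := hsurj q
        refine ⟨p, ?_, rfl⟩
        have hn' : (decompose 𝒜 x n : S) ∉ p.1.asIdeal := by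
          rw [hkey p n _ (SetLike.coe_mem _)]
          exact hn
        intro hx
        exact hn' (p.2 n hx)
    change IsOpen (φ '' (Subtype.val ⁻¹' (PrimeSpectrum.basicOpen x : Set (PrimeSpectrum S))))
    rw [this]
    exact isOpen_iUnion fun n => PrimeSpectrum.isOpen_basicOpen

end Groth.Agent.Lib.Seat80.GradedUnit
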