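import Mathlib

/-!
# Composites of homology-zero maps in the derived category; `J^(n+m) ⊗ K → J^m ⊗ K` is zero (helper80)

* `eq_zero_of_heart`, `eq_zero_of_isLE_of_isGE`, `exists_lift_truncLT`: t-structure lemmas in
  `DerivedCategory C` (a map out of `D^{≤ n}` which is zero on `H^n` factors through `τ^{<n}`).
* `HZ k φ`: `φ` is a composite of `k` maps each zero on all homology; `eq_zero_of_HZ`: such a
  composite from `D^{≤ b}` to `D^{≥ a}` vanishes as soon as `b + 1 - k ≤ a`.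
* module level: `homologyMap_eq_zero` (elementwise criterion), `smul_mem_range_of_annihilates`,
  `θ` (multiplication `J ⊗ X → X`), `key_module` (Artin–Rees on cycles).
* `main14102`: for a bounded complex `K` of finite projective modules over a Noetherian ring whose
  cohomology is killed by `J`, `Q(J^(n+m) ⊗ K → J^m ⊗ K) = 0` for some `n` and all `m`.
-/

set_option autoImplicit false
universe w v u
open CategoryTheory CategoryTheory.Limits Pretriangulated MonoidalCategory TensorProduct DerivedCategory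

namespace Groth.Agent.Lib.Seat80.HomZero

section gen

variable {C : Type u} [Category.{v} C] [Abelian C] [HasDerivedCategory.{w} C]

open DerivedCategory.TStructure

/-- the homology functor `H^n` is faithful on objects concentrated in degree `n` -/
lemma eq_zero_of_heart {T U : DerivedCategory C} (n : ℤ) [T.IsGE n] [T.IsLE n] [U.IsGE n] [U.IsLE n]
    (ψ : T ⟶ U) (h : (homologyFunctor C n).map ψ = 0) : ψ = 0 := by
  obtain ⟨M, ⟨eT⟩⟩ := exists_iso_singleFunctor_obj_of_isGE_of_isLE T n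
  obtain ⟨N, ⟨eU⟩⟩ := exists_iso_singleFunctor_obj_of_isGE_of_isLE U n
  obtain ⟨g, hg⟩ := (singleFunctor C n).map_surjective (eT.inv ≫ ψ ≫ eU.hom)
  have h1 : (homologyFunctor C n).map ((singleFunctor C n).map g) = 0 := by
    rw [hg, Functor.map_comp, Functor.map_comp, h, zero_comp, comp_zero]
  have h2 : g = 0 := by
    have := NatIso.naturality_1 (singleFunctorCompHomologyFunctorIso C n) g
    simp only [Functor.comp_map, Functor.id_map] at this
    rw [← this, h1, zero_comp, comp_zero]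
  subst h2
  have h3 : eT.inv ≫ ψ ≫ eU.hom = 0 := by rw [← hg, Functor.map_zero]
  have h4 : ψ = eT.hom ≫ (eT.inv ≫ ψ ≫ eU.hom) ≫ eU.inv := by simp
  rw [h4, h3, zero_comp, comp_zero]

/-- a morphism from `D^{≤ n}` to `D^{≥ n}` which is zero on `H^n` is zero -/
lemma eq_zero_of_isLE_of_isGE {W V : DerivedCategory C} (n : ℤ) [W.IsLE n] [V.IsGE n]
    (φ : W ⟶ V) (h : (homologyFunctor C n).map φ = 0) : φ = 0 := by
  -- factor through truncations
  have h1 : (t.truncGEπ n).app W ≫ t.descTruncGE φ n = φ := t.π_descTruncGE φ n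
  set φ' := t.descTruncGE φ n with hφ'
  have h2 : t.liftTruncLT φ' n (n + 1) rfl ≫ (t.truncLTι (n + 1)).app V = φ' :=
    t.liftTruncLT_ι φ' n (n + 1) rfl
  set φ'' := t.liftTruncLT φ' n (n + 1) rfl with hφ''
  -- H^n(π_W) is epi
  have hepi : Epi ((homologyFunctor C n).map ((t.truncGEπ n).app W)) := by
    have hT := t.triangleLTGE_distinguished n W
    refine (HomologySequence.epi_homologyMap_mor₂_iff _ hT n (n + 1) rfl).2 ?_
    apply IsZero.eq_of_tgt
    have : t.IsLE ((t.triangleLTGE n).obj W).obj₁ (n - 1) := inferInstance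
    exact isZero_of_isLE _ (n - 1) (n + 1) (by lia)
  have hmono : Mono ((homologyFunctor C n).map ((t.truncLTι (n + 1)).app V)) := by
    have hT := t.triangleLTGE_distinguished (n + 1) V
    refine (HomologySequence.mono_homologyMap_mor₁_iff _ hT (n - 1) n (by lia)).2 ?_
    apply IsZero.eq_of_src
    have : t.IsGE ((t.triangleLTGE (n + 1)).obj V).obj₃ (n + 1) := inferInstance
    exact isZero_of_isGE _ (n + 1) (n - 1) (by lia)
  have h3 : (homologyFunctor C n).map φ'' = 0 := by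
    rw [← cancel_epi ((homologyFunctor C n).map ((t.truncGEπ n).app W)),
      ← cancel_mono ((homologyFunctor C n).map ((t.truncLTι (n + 1)).app V)), comp_zero, zero_comp,
      Category.assoc, ← Functor.map_comp, ← Functor.map_comp, h2, h1, h]
  have h4 : φ'' = 0 := eq_zero_of_heart n φ'' h3
  rw [← h1, ← h2, h4, zero_comp, comp_zero]

/-- Key lemma: a morphism out of `D^{≤ n}` which is zero on `H^n` factors through `τ^{< n}`. -/
lemma exists_lift_truncLT {W Y : DerivedCategory C} (n : ℤ) [W.IsLE n] (g : W ⟶ Y)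
    (h : (homologyFunctor C n).map g = 0) :
    ∃ v : W ⟶ (t.truncLT n).obj Y, v ≫ (t.truncLTι n).app Y = g := by
  have hT := t.triangleLTGE_distinguished n Y
  have h0 : g ≫ (t.truncGEπ n).app Y = 0 :=
    eq_zero_of_isLE_of_isGE n _ (by rw [Functor.map_comp, h, zero_comp])
  obtain ⟨v, hv⟩ := Triangle.coyoneda_exact₂ _ hT g h0
  exact ⟨v, hv.symm⟩

/-- `HZ k φ`: `φ` is a composite of `k` morphisms each of which is zero on all homology -/
def HZ : ℕ → ∀ {X Y : DerivedCategory C}, (X ⟶ Y) → Prop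
  | 0, _, _, _ => True
  | (k + 1), X, Y, φ => ∃ (M : DerivedCategory C) (φ₁ : X ⟶ M) (φ₂ : M ⟶ Y), HZ k φ₁ ∧
      (∀ q : ℤ, (homologyFunctor C q).map φ₂ = 0) ∧ φ = φ₁ ≫ φ₂

lemma HZ.exists_lift {X : DerivedCategory C} (b : ℤ) [X.IsLE b] (k : ℕ) :
    ∀ {Y : DerivedCategory C} (φ : X ⟶ Y), HZ k φ → ∀ n : ℤ, n = b + 1 - k →
      ∃ v : X ⟶ (t.truncLT n).obj Y, v ≫ (t.truncLTι n).app Y = φ := by
  induction k with
  | zero =>
    intro Y φ _ n hn
    obtain rfl : n = b + 1 := by simpa using hn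
    exact ⟨t.liftTruncLT φ b (b + 1) rfl, t.liftTruncLT_ι φ b (b + 1) rfl⟩
  | succ k ih =>
    intro Y φ h n hn
    obtain ⟨M, φ₁, φ₂, h1, h2, rfl⟩ := h
    obtain ⟨v₁, hv₁⟩ := ih φ₁ h1 (n + 1) (by push_cast at hn; lia)
    have : t.IsLE ((t.truncLT (n + 1)).obj M) n := inferInstance
    obtain ⟨v', hv'⟩ := exists_lift_truncLT n ((t.truncLTι (n + 1)).app M ≫ φ₂)
      (by rw [Functor.map_comp, h2, comp_zero])
    exact ⟨v₁ ≫ v', by rw [Category.assoc, hv', ← Category.assoc, hv₁]⟩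

lemma eq_zero_of_HZ {X Y : DerivedCategory C} (a b : ℤ) [X.IsLE b] [Y.IsGE a] (k : ℕ)
    (hk : b + 1 - k ≤ a) (φ : X ⟶ Y) (h : HZ k φ) : φ = 0 := by
  obtain ⟨v, hv⟩ := HZ.exists_lift b k φ h _ rfl
  have : t.IsGE Y (b + 1 - k) := t.isGE_of_ge Y (b + 1 - k) a hk
  have hz : IsZero ((t.truncLT (b + 1 - (k : ℤ))).obj Y) := t.isZero_truncLT_obj_of_isGE _ Y
  rw [← hv, hz.eq_of_tgt v 0, zero_comp]


end gen

variable {A : Type u} [CommRing A]

lemma exists_toCycles_eq (K : CochainComplex (ModuleCat.{u} A) ℤ) (q : ℤ) (u : K.cycles q)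
    (hu : K.homologyπ q u = 0) : ∃ w : K.X (q - 1), K.toCycles (q - 1) q w = u := by
  have hc := K.homologyIsCokernel (q - 1) q (by simp)
  have hex : (ShortComplex.mk (K.toCycles (q - 1) q) (K.homologyπ q)
      (K.toCycles_comp_homologyπ (q - 1) q)).Exact :=
    ShortComplex.exact_of_g_is_cokernel _ hc
  rw [ShortComplex.moduleCat_exact_iff] at hex
  exact hex u hu

lemma homologyMap_eq_zero {X Y : CochainComplex (ModuleCat.{u} A) ℤ} (φ : X ⟶ Y) (q : ℤ)
    (h : ∀ y : X.X q, X.d q (q + 1) y = 0 → ∃ w : Y.X (q - 1), Y.d (q - 1) q w = φ.f q y) :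
    HomologicalComplex.homologyMap φ q = 0 := by
  rw [← cancel_epi (X.homologyπ q), HomologicalComplex.homologyπ_naturality, comp_zero]
  ext z
  obtain ⟨w, hw⟩ := h (X.iCycles q z) (by
    rw [← ModuleCat.comp_apply, HomologicalComplex.iCycles_d]; rfl)
  have h1 : HomologicalComplex.cyclesMap φ q z = Y.toCycles (q - 1) q w := by
    apply (ModuleCat.mono_iff_injective (Y.iCycles q)).1 inferInstance
    rw [← ModuleCat.comp_apply, ← ModuleCat.comp_apply, HomologicalComplex.cyclesMap_i,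
      HomologicalComplex.toCycles_i, ModuleCat.comp_apply, hw]
  rw [ModuleCat.comp_apply, h1, ← ModuleCat.comp_apply, HomologicalComplex.toCycles_comp_homologyπ]
  rfl

/-- if `J` kills `H^q(K)` then `J • Z^q ≤ B^q` -/
lemma smul_mem_range_of_annihilates (K : CochainComplex (ModuleCat.{u} A) ℤ) (q : ℤ) (x : A)
    (hx : ∀ c : K.homology q, x • c = 0) (z : K.X q) (hz : K.d q (q + 1) z = 0) :
    ∃ w : K.X (q - 1), K.d (q - 1) q w = x • z := by
  let f : ModuleCat.of A A ⟶ K.X q := ModuleCat.ofHom (LinearMap.toSpanSingleton A (K.X q) z)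
  have hf : f ≫ K.d q (q + 1) = 0 := by
    ext
    simp [f, hz]
  let ζ : K.cycles q := K.liftCycles f (q + 1) (by simp) hf (1 : A)
  have hζ : K.iCycles q ζ = z := by
    change (K.liftCycles f (q + 1) (by simp) hf ≫ K.iCycles q) (1 : A) = z
    rw [HomologicalComplex.liftCycles_i]
    simp [f]
  have h1 : K.homologyπ q (x • ζ) = 0 := by
    rw [map_smul]; exact hx _
  obtain ⟨w, hw⟩ := exists_toCycles_eq K q _ h1
  refine ⟨w, ?_⟩
  have := congrArg (K.iCycles q) hw
  rw [← ModuleCat.comp_apply, HomologicalComplex.toCycles_i, map_smul, hζ] at this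
  exact this

lemma exists_artinRees' [IsNoetherianRing A] {F : Type u} [AddCommGroup F] [Module A F]
    [Module.Finite A F] (I : Ideal A) (N : Submodule A F) :
    ∃ c : ℕ, ∀ n ≥ c, (I ^ n • ⊤ ⊓ N : Submodule A F) ≤ I ^ (n - c) • N := by
  obtain ⟨k, hk⟩ := Ideal.exists_pow_inf_eq_pow_smul I N
  exact ⟨k, fun n hn => (hk n hn).le.trans (Submodule.smul_mono le_rfl inf_le_right)⟩

section theta

variable (J : Ideal A)

/-- the multiplication map `J ⊗ X → X` -/
noncomputable def θ (X : Type u) [AddCommGroup X] [Module A X] : (↥J ⊗[A] X) →ₗ[A] X :=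
  (TensorProduct.lid A X).toLinearMap ∘ₗ LinearMap.rTensor X J.subtype

@[simp] lemma θ_tmul (X : Type u) [AddCommGroup X] [Module A X] (t : J) (x : X) :
    θ J X (t ⊗ₜ x) = (t : A) • x := by
  simp [θ]

lemma θ_injective (X : Type u) [AddCommGroup X] [Module A X] [Module.Flat A X] :
    Function.Injective (θ J X) := by
  rw [θ, LinearMap.coe_comp, LinearEquiv.coe_coe]
  exact (TensorProduct.lid A X).injective.comp
    (Module.Flat.rTensor_preserves_injective_linearMap _ Subtype.val_injective)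

lemma θ_range (X : Type u) [AddCommGroup X] [Module A X] :
    LinearMap.range (θ J X) = (J • ⊤ : Submodule A X) := by
  apply le_antisymm
  · rintro _ ⟨y, rfl⟩
    induction y using TensorProduct.induction_on with
    | zero => simp
    | tmul t x => rw [θ_tmul]; exact Submodule.smul_mem_smul t.2 Submodule.mem_top
    | add y y' hy hy' => rw [map_add]; exact Submodule.add_mem _ hy hy'
  · rw [Submodule.smul_le]
    intro t ht x _
    exact ⟨(⟨t, ht⟩ : J) ⊗ₜ x, by simp⟩

lemma θ_naturality {X Y : Type u} [AddCommGroup X] [Module A X] [AddCommGroup Y] [Module A Y]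
    (f : X →ₗ[A] Y) (y : ↥J ⊗[A] X) : θ J Y (LinearMap.lTensor (↥J) f y) = f (θ J X y) := by
  induction y using TensorProduct.induction_on with
  | zero => simp
  | tmul t x => simp
  | add y y' hy hy' => simp [hy, hy']

lemma θ_inclusion {J' : Ideal A} (h : J ≤ J') (X : Type u) [AddCommGroup X] [Module A X]
    (y : ↥J ⊗[A] X) : θ J' X (LinearMap.rTensor X (Submodule.inclusion h) y) = θ J X y := by
  induction y using TensorProduct.induction_on with
  | zero => simp
  | tmul t x => simp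
  | add y y' hy hy' => simp [hy, hy']

end theta

/-- the key module-level statement -/
lemma key_module [IsNoetherianRing A] (J : Ideal A) {F'' F F' : Type u}
    [AddCommGroup F''] [Module A F''] [AddCommGroup F] [Module A F] [AddCommGroup F'] [Module A F']
    [Module.Finite A F] [Module.Flat A F]
    (d' : F'' →ₗ[A] F) (d : F →ₗ[A] F')
    (hJ : ∀ x ∈ J, ∀ z : F, d z = 0 → ∃ w, d' w = x • z) :
    ∃ c₀ : ℕ, ∀ c : ℕ, c₀ ≤ c → ∀ (m : ℕ) (y : ↥(J ^ (m + (c + 1))) ⊗[A] F),
      LinearMap.lTensor _ d y = 0 →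
      ∃ w : ↥(J ^ m) ⊗[A] F'', LinearMap.lTensor _ d' w =
        LinearMap.rTensor F (Submodule.inclusion (Ideal.pow_le_pow_right (Nat.le_add_right m (c + 1)))) y := by
  obtain ⟨c₀, hc₀⟩ := exists_artinRees' J (LinearMap.ker d)
  refine ⟨c₀, fun c hc m y hy => ?_⟩
  have hx1 : θ (J ^ (m + (c + 1))) F y ∈ LinearMap.ker d := by
    rw [LinearMap.mem_ker, ← θ_naturality, hy, map_zero]
  have hx2 : θ (J ^ (m + (c + 1))) F y ∈ (J ^ (m + (c + 1)) • ⊤ : Submodule A F) := by
    rw [← θ_range]; exact ⟨y, rfl⟩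
  have hx3 : θ (J ^ (m + (c + 1))) F y ∈ J ^ (m + (c + 1) - c₀) • LinearMap.ker d := hc₀ (m + (c + 1)) (by lia) ⟨hx2, hx1⟩
  have hle : J ^ (m + (c + 1) - c₀) • LinearMap.ker d ≤ Submodule.map d' (J ^ m • ⊤) := by
    have h1 : J ^ (m + (c + 1) - c₀) ≤ J ^ (m + 1) := Ideal.pow_le_pow_right (by lia)
    have h2 : J • LinearMap.ker d ≤ LinearMap.range d' := by
      rw [Submodule.smul_le]
      intro x hx z hz
      obtain ⟨w, hw⟩ := hJ x hx z hz
      exact ⟨w, hw⟩
    calc J ^ (m + (c + 1) - c₀) • LinearMap.ker d ≤ J ^ (m + 1) • LinearMap.ker d :=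
          Submodule.smul_mono h1 le_rfl
      _ = J ^ m • (J • LinearMap.ker d) := by rw [pow_succ, Submodule.mul_smul]
      _ ≤ J ^ m • LinearMap.range d' := Submodule.smul_mono le_rfl h2
      _ = Submodule.map d' (J ^ m • ⊤) := by
          rw [Submodule.map_smul'', Submodule.map_top]
  obtain ⟨x'', hx'', hx''2⟩ := hle hx3
  rw [← θ_range] at hx''
  obtain ⟨w, rfl⟩ := hx''
  refine ⟨w, ?_⟩
  apply θ_injective (J ^ m) F
  rw [θ_naturality, hx''2, θ_inclusion]


section complex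

variable (J : Ideal A) (K : CochainComplex (ModuleCat.{u} A) ℤ)

noncomputable abbrev oJ (p : ℕ) : ModuleCat.{u} A := ModuleCat.of A ↥(J ^ p)

noncomputable abbrev inc (p q : ℕ) (h : q ≤ p) : oJ J p ⟶ oJ J q :=
  ModuleCat.ofHom (Submodule.inclusion (Ideal.pow_le_pow_right h))

noncomputable abbrev JK (p : ℕ) : CochainComplex (ModuleCat.{u} A) ℤ :=
  (((curriedTensor (ModuleCat.{u} A)).obj (oJ J p)).mapHomologicalComplex (ComplexShape.up ℤ)).obj K

noncomputable abbrev ιJ (p q : ℕ) (h : q ≤ p) : JK J K p ⟶ JK J K q :=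
  (NatTrans.mapHomologicalComplex ((curriedTensor (ModuleCat.{u} A)).map (inc J p q h))
    (ComplexShape.up ℤ)).app K

lemma ιJ_comp (p q r : ℕ) (h : q ≤ p) (h' : r ≤ q) :
    ιJ J K p q h ≫ ιJ J K q r h' = ιJ J K p r (h'.trans h) := by
  ext i : 1
  change (inc J p q h ▷ K.X i) ≫ (inc J q r h' ▷ K.X i) = inc J p r (h'.trans h) ▷ K.X i
  rw [← MonoidalCategory.comp_whiskerRight]
  rfl

lemma subsingleton_JK_X (p : ℕ) (q : ℤ) (hq : IsZero (K.X q)) :
    Subsingleton ((JK J K p).X q) := by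
  have : Subsingleton (K.X q) := ModuleCat.subsingleton_of_isZero hq
  change Subsingleton (↥(J ^ p) ⊗[A] ↑(K.X q))
  refine ⟨fun x y => ?_⟩
  have h0 : ∀ z : ↥(J ^ p) ⊗[A] ↑(K.X q), z = 0 := by
    intro z
    induction z using TensorProduct.induction_on with
    | zero => rfl
    | tmul t x => rw [Subsingleton.elim x 0, TensorProduct.tmul_zero]
    | add y y' hy hy' => rw [hy, hy', add_zero]
  rw [h0 x, h0 y]

lemma exists_homologyMap_ιJ_eq_zero [IsNoetherianRing A] (a b : ℤ)
    (hK : ∀ q : ℤ, q < a ∨ b < q → IsZero (K.X q))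
    (hfin : ∀ q : ℤ, Module.Finite A (K.X q)) (hproj : ∀ q : ℤ, Module.Projective A (K.X q))
    (hJ : ∀ q : ℤ, ∀ x ∈ J, ∀ c : ↑(K.homology q), x • c = 0) :
    ∃ c : ℕ, ∀ (m : ℕ) (q : ℤ),
      HomologicalComplex.homologyMap (ιJ J K (m + (c + 1)) m (Nat.le_add_right m (c + 1))) q = 0 := by
  have hkey : ∀ q : ℤ, ∃ c₀ : ℕ, ∀ c : ℕ, c₀ ≤ c → ∀ (m : ℕ) (y : ↥(J ^ (m + (c + 1))) ⊗[A] ↑(K.X q)),
      LinearMap.lTensor _ (K.d q (q + 1)).hom y = 0 →
      ∃ w : ↥(J ^ m) ⊗[A] ↑(K.X (q - 1)), LinearMap.lTensor _ (K.d (q - 1) q).hom w =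
        LinearMap.rTensor (K.X q) (Submodule.inclusion (Ideal.pow_le_pow_right (Nat.le_add_right m (c + 1)))) y := by
    intro q
    have := hfin q
    have := hproj q
    exact key_module J (K.d (q - 1) q).hom (K.d q (q + 1)).hom
      (fun x hx z hz => smul_mem_range_of_annihilates K q x (hJ q x hx) z hz)
  choose c₀ hc₀ using hkey
  refine ⟨(Finset.Icc a b).sup c₀, fun m q => ?_⟩
  apply homologyMap_eq_zero
  intro y hy
  by_cases hq : a ≤ q ∧ q ≤ b
  · have hle : c₀ q ≤ (Finset.Icc a b).sup c₀ := Finset.le_sup (Finset.mem_Icc.2 hq)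
    exact hc₀ q _ hle m y hy
  · have hz : IsZero (K.X q) := hK q (by lia)
    have := subsingleton_JK_X J K m q hz
    exact ⟨0, Subsingleton.elim _ _⟩

variable [HasDerivedCategory.{w} (ModuleCat.{u} A)]

omit [HasDerivedCategory.{w} (ModuleCat.{u} A)] in
lemma isZero_JK_X (p : ℕ) (q : ℤ) (hq : IsZero (K.X q)) : IsZero ((JK J K p).X q) := by
  have := subsingleton_JK_X J K p q hq
  exact ModuleCat.isZero_of_subsingleton ((JK J K p).X q)

lemma homologyFunctor_map_Q_eq_zero {X Y : CochainComplex (ModuleCat.{u} A) ℤ} (φ : X ⟶ Y) (q : ℤ)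
    (h : HomologicalComplex.homologyMap φ q = 0) :
    (homologyFunctor (ModuleCat.{u} A) q).map (Q.map φ) = 0 := by
  have h' : (HomologicalComplex.homologyFunctor (ModuleCat.{u} A) (ComplexShape.up ℤ) q).map φ = 0 := h
  have e : (Q ⋙ homologyFunctor (ModuleCat.{u} A) q).map φ = 0 := by
    rw [← NatIso.naturality_2 (homologyFunctorFactors (ModuleCat.{u} A) q) φ, h', Limits.zero_comp,
      Limits.comp_zero]
  exact e

theorem main14102 [IsNoetherianRing A] (a b : ℤ)
    (hK : ∀ q : ℤ, q < a ∨ b < q → IsZero (K.X q))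
    (hfin : ∀ q : ℤ, Module.Finite A (K.X q)) (hproj : ∀ q : ℤ, Module.Projective A (K.X q))
    (hJ : ∀ q : ℤ, ∀ x ∈ J, ∀ c : ↑(K.homology q), x • c = 0) :
    ∃ n : ℕ, ∀ m : ℕ, 0 < m →
      Q.map (ιJ J K (n + m) m (Nat.le_add_left m n)) = 0 := by
  obtain ⟨c, hc⟩ := exists_homologyMap_ιJ_eq_zero J K a b hK hfin hproj hJ
  have hLE : ∀ p : ℕ, (Q.obj (JK J K p)).IsLE b := fun p => by
    have : (JK J K p).IsStrictlyLE b :=
      (CochainComplex.isStrictlyLE_iff _ _).2 fun i hi => isZero_JK_X J K p i (hK i (Or.inr hi))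
    infer_instance
  have hGE : ∀ p : ℕ, (Q.obj (JK J K p)).IsGE a := fun p => by
    have : (JK J K p).IsStrictlyGE a :=
      (CochainComplex.isStrictlyGE_iff _ _).2 fun i hi => isZero_JK_X J K p i (hK i (Or.inl hi))
    infer_instance
  have hHZ : ∀ (k m p : ℕ) (hp : p = m + k * (c + 1)),
      HZ k (Q.map (ιJ J K p m (by rw [hp]; exact Nat.le_add_right _ _))) := by
    intro k
    induction k with
    | zero => intro m p hp; trivial
    | succ k ih =>
      intro m p hp
      refine ⟨Q.obj (JK J K (m + (c + 1))), Q.map (ιJ J K p (m + (c + 1)) (by rw [hp]; lia)),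
        Q.map (ιJ J K (m + (c + 1)) m (Nat.le_add_right _ _)), ih (m + (c + 1)) p (by rw [hp]; ring),
        fun q => homologyFunctor_map_Q_eq_zero _ q (hc m q), ?_⟩
      rw [← Functor.map_comp, ιJ_comp]
  refine ⟨(b - a + 1).toNat * (c + 1), fun m _ => ?_⟩
  have := hLE ((b - a + 1).toNat * (c + 1) + m)
  have := hGE m
  exact eq_zero_of_HZ a b (b - a + 1).toNat (by have := Int.self_le_toNat (b - a + 1); lia) _
    (hHZ (b - a + 1).toNat m _ (by ring))


end complex

end Groth.Agent.Lib.Seat80.HomZero
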