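/-
Seat80: dimension of the space of intertwiners between two semisimple endomorphisms
(`Hom_{K[t]}(V₁, V₂)` has dimension `Σ_P mult_P(f₁) mult_P(f₂) deg P`).
Proof: induction over decompositions of semisimple endomorphisms into simple ones.
-/
import Mathlib
set_option autoImplicit false
universe u v w
open scoped Classical
open Polynomial Module UniqueFactorizationMonoid

namespace Groth.Agent.Lib.Seat80.Intertw

variable {K : Type u} [Field K]



/-- An endomorphism without nontrivial invariant subspaces on a nontrivial space. -/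
def IsSimpleEnd {V : Type v} [AddCommGroup V] [Module K V] (π : Module.End K V) : Prop :=
  Nontrivial V ∧ ∀ W ∈ Module.End.invtSubmodule π, W = ⊥ ∨ W = ⊤

theorem semisimple_induction
    (motive : ∀ (V : Type v) [AddCommGroup V] [Module K V] [FiniteDimensional K V], Module.End K V → Prop)
    (h_iso : ∀ (V V' : Type v) [AddCommGroup V] [Module K V] [FiniteDimensional K V]
      [AddCommGroup V'] [Module K V'] [FiniteDimensional K V'] (e : V ≃ₗ[K] V') (π : Module.End K V),
      motive V π → motive V' (e.conj π))
    (h_triv : ∀ (V : Type v) [AddCommGroup V] [Module K V] [FiniteDimensional K V] [Subsingleton V]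
      (π : Module.End K V), motive V π)
    (h_prod : ∀ (W W' : Type v) [AddCommGroup W] [Module K W] [FiniteDimensional K W]
      [AddCommGroup W'] [Module K W'] [FiniteDimensional K W'] (f : Module.End K W) (g : Module.End K W'),
      f.IsSemisimple → g.IsSemisimple →
      motive W f → motive W' g → motive (W × W') (f.prodMap g))
    (h_simple : ∀ (V : Type v) [AddCommGroup V] [Module K V] [FiniteDimensional K V]
      (π : Module.End K V), IsSimpleEnd π → motive V π) :
    ∀ (V : Type v) [AddCommGroup V] [Module K V] [FiniteDimensional K V] (π : Module.End K V),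
      π.IsSemisimple → motive V π := by
  intro V _ _ _ π hπ
  induction hn : Module.finrank K V using Nat.strong_induction_on generalizing V with
  | _ n ih =>
    rcases subsingleton_or_nontrivial V with hV | hV
    · exact h_triv V π
    by_cases hs : ∀ W ∈ Module.End.invtSubmodule π, W = ⊥ ∨ W = ⊤
    · exact h_simple V π ⟨hV, hs⟩
    push Not at hs
    obtain ⟨W, hW, hWbot, hWtop⟩ := hs
    obtain ⟨W', hW', hc⟩ := (Module.End.isSemisimple_iff.mp hπ) W hW
    have hW'top : W' ≠ ⊤ := by
      rintro rfl
      apply hWbot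
      have := hc.inf_eq_bot
      simpa using this
    have h1 : Module.finrank K W < n := hn ▸ Submodule.finrank_lt hWtop
    have h2 : Module.finrank K W' < n := hn ▸ Submodule.finrank_lt hW'top
    have m1 := ih _ h1 W (LinearMap.restrict π hW) (hπ.restrict hW) rfl
    have m2 := ih _ h2 W' (LinearMap.restrict π hW') (hπ.restrict hW') rfl
    have m := h_prod W W' _ _ (hπ.restrict hW) (hπ.restrict hW') m1 m2
    have := h_iso _ _ (Submodule.prodEquivOfIsCompl W W' hc) _ m
    convert this using 1
    apply LinearMap.ext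
    intro v
    obtain ⟨⟨a, b⟩, rfl⟩ := (Submodule.prodEquivOfIsCompl W W' hc).surjective v
    rw [LinearEquiv.conj_apply_apply, LinearEquiv.symm_apply_apply]
    simp only [LinearMap.prodMap_apply, Submodule.coe_prodEquivOfIsCompl', map_add]
    rfl




section General

variable {V₁ : Type v} {V₂ : Type w} [AddCommGroup V₁] [Module K V₁] [AddCommGroup V₂] [Module K V₂]

/-- the space of intertwiners -/
def intertw (π₁ : Module.End K V₁) (π₂ : Module.End K V₂) : Submodule K (V₁ →ₗ[K] V₂) :=
  LinearMap.ker (LinearMap.lcomp K V₂ π₁ - LinearMap.llcomp K V₁ V₂ V₂ π₂)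

theorem mem_intertw {π₁ : Module.End K V₁} {π₂ : Module.End K V₂} {h : V₁ →ₗ[K] V₂} :
    h ∈ intertw π₁ π₂ ↔ h ∘ₗ π₁ = π₂ ∘ₗ h := by
  unfold intertw
  rw [LinearMap.mem_ker, LinearMap.sub_apply, sub_eq_zero]
  rfl

theorem intertw_aeval {π₁ : Module.End K V₁} {π₂ : Module.End K V₂} {h : V₁ →ₗ[K] V₂}
    (hh : h ∘ₗ π₁ = π₂ ∘ₗ h) (q : K[X]) : h ∘ₗ (aeval π₁ q) = (aeval π₂ q) ∘ₗ h := by
  induction q using Polynomial.induction_on' with
  | add p q hp hq => simp only [map_add, LinearMap.comp_add, LinearMap.add_comp, hp, hq]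
  | monomial n a =>
    have hpow : ∀ n : ℕ, h ∘ₗ (π₁ ^ n) = (π₂ ^ n) ∘ₗ h := by
      intro n
      induction n with
      | zero => simp [Module.End.one_eq_id]
      | succ n ih =>
        rw [pow_succ, pow_succ, Module.End.mul_eq_comp, Module.End.mul_eq_comp, ← LinearMap.comp_assoc, ih,
          LinearMap.comp_assoc, hh, LinearMap.comp_assoc]
    simp only [aeval_monomial, Module.algebraMap_end_eq_smul_id, ]
    ext v
    have := LinearMap.congr_fun (hpow n) v
    simp only [LinearMap.comp_apply] at this
    simp [this]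

theorem aeval_comm_apply (π : Module.End K V₁) (q : K[X]) (v : V₁) :
    aeval π q (π v) = π (aeval π q v) := by
  have h1 : aeval π (q * X) = aeval π (X * q) := by rw [mul_comm]
  rw [map_mul, map_mul, aeval_X] at h1
  exact LinearMap.congr_fun h1 v

theorem ker_aeval_mem (π : Module.End K V₁) (q : K[X]) :
    LinearMap.ker (aeval π q) ∈ Module.End.invtSubmodule π := by
  rw [Module.End.mem_invtSubmodule]
  intro v hv
  simp only [Submodule.mem_comap, LinearMap.mem_ker] at hv ⊢
  rw [aeval_comm_apply, hv, map_zero]

/-- evaluation `q ↦ q(π) v` -/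
noncomputable def evAt (π : Module.End K V₁) (v : V₁) : K[X] →ₗ[K] V₁ :=
  (LinearMap.applyₗ v).comp (aeval π : K[X] →ₐ[K] Module.End K V₁).toLinearMap

@[simp] theorem evAt_apply (π : Module.End K V₁) (v : V₁) (q : K[X]) : evAt π v q = aeval π q v := rfl

theorem range_evAt_mem (π : Module.End K V₁) (v : V₁) :
    LinearMap.range (evAt π v) ∈ Module.End.invtSubmodule π := by
  rw [Module.End.mem_invtSubmodule]
  rintro _ ⟨q, rfl⟩
  refine ⟨X * q, ?_⟩
  simp [map_mul]

end General

section Simple

variable {V : Type v} [AddCommGroup V] [Module K V] [FiniteDimensional K V] {π : Module.End K V}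

theorem IsSimpleEnd.ker_aeval (hπ : IsSimpleEnd π) (q : K[X]) :
    LinearMap.ker (aeval π q) = ⊥ ∨ aeval π q = 0 := by
  rcases hπ.2 _ (ker_aeval_mem π q) with h | h
  · exact Or.inl h
  · exact Or.inr (LinearMap.ker_eq_top.mp h)

theorem IsSimpleEnd.evAt_surjective (hπ : IsSimpleEnd π) {v : V} (hv : v ≠ 0) :
    Function.Surjective (evAt π v) := by
  rw [← LinearMap.range_eq_top]
  rcases hπ.2 _ (range_evAt_mem π v) with h | h
  · exfalso
    apply hv
    have : v ∈ LinearMap.range (evAt π v) := ⟨1, by simp⟩
    rw [h] at this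
    simpa using this
  · exact h

theorem IsSimpleEnd.aeval_eq_zero_of_apply (hπ : IsSimpleEnd π) {v : V} (hv : v ≠ 0) {q : K[X]}
    (hq : aeval π q v = 0) : aeval π q = 0 := by
  rcases hπ.ker_aeval q with h | h
  · exfalso
    apply hv
    have : v ∈ LinearMap.ker (aeval π q) := hq
    rw [h] at this
    simpa using this
  · exact h

theorem IsSimpleEnd.irreducible_minpoly (hπ : IsSimpleEnd π) : Irreducible (minpoly K π) := by
  have := hπ.1
  have hint : IsIntegral K π := Algebra.IsIntegral.isIntegral π
  have hne : minpoly K π ≠ 0 := minpoly.ne_zero hint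
  rw [irreducible_iff]
  refine ⟨minpoly.not_isUnit K π, ?_⟩
  intro a b hab
  have ha0 : a ≠ 0 := by rintro rfl; simp at hab; exact hne hab
  have hb0 : b ≠ 0 := by rintro rfl; simp at hab; exact hne hab
  have hz : aeval π a * aeval π b = 0 := by rw [← map_mul, ← hab, minpoly.aeval]
  rcases hπ.ker_aeval a with h | h
  · -- a(π) injective, so b(π) = 0
    left
    have hb : aeval π b = 0 := by
      ext v
      have : aeval π a (aeval π b v) = 0 := by
        have := LinearMap.congr_fun hz v
        simpa using this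
      have hmem : aeval π b v ∈ LinearMap.ker (aeval π a) := this
      rw [h] at hmem
      simpa using hmem
    have hdvd : minpoly K π ∣ b := minpoly.dvd K π hb
    rw [hab] at hdvd
    have : a * b ∣ 1 * b := by simpa using hdvd
    exact isUnit_of_dvd_one ((mul_dvd_mul_iff_right hb0).mp this)
  · right
    have hdvd : minpoly K π ∣ a := minpoly.dvd K π h
    rw [hab] at hdvd
    have : a * b ∣ a * 1 := by simpa using hdvd
    exact isUnit_of_dvd_one ((mul_dvd_mul_iff_left ha0).mp this)

theorem IsSimpleEnd.finrank_le_natDegree_minpoly (hπ : IsSimpleEnd π) :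
    Module.finrank K V ≤ (minpoly K π).natDegree := by
  have := hπ.1
  obtain ⟨v, hv⟩ := exists_ne (0 : V)
  have hint : IsIntegral K π := Algebra.IsIntegral.isIntegral π
  have hmonic : (minpoly K π).Monic := minpoly.monic hint
  -- restrict evAt to polynomials of degree < deg P
  let f : Polynomial.degreeLT K (minpoly K π).natDegree →ₗ[K] V :=
    (evAt π v).comp (Submodule.subtype _)
  have hf : Function.Surjective f := by
    intro w
    obtain ⟨q, rfl⟩ := hπ.evAt_surjective hv w
    refine ⟨⟨q %ₘ minpoly K π, ?_⟩, ?_⟩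
    · rw [Polynomial.mem_degreeLT]
      calc (q %ₘ minpoly K π).degree < (minpoly K π).degree := Polynomial.degree_modByMonic_lt _ hmonic
        _ = ((minpoly K π).natDegree : WithBot ℕ) := Polynomial.degree_eq_natDegree hmonic.ne_zero
    · change aeval π (q %ₘ minpoly K π) v = aeval π q v
      conv_rhs => rw [← Polynomial.modByMonic_add_div q (minpoly K π)]
      simp [map_add, map_mul, minpoly.aeval]
  have h1 := LinearMap.finrank_le_finrank_of_surjective hf
  have h2 : Module.finrank K (Polynomial.degreeLT K (minpoly K π).natDegree) = (minpoly K π).natDegree := by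
    rw [(Polynomial.degreeLTEquiv K _).finrank_eq]
    simp
  rw [h2] at h1
  exact h1

theorem IsSimpleEnd.charpoly_eq_minpoly (hπ : IsSimpleEnd π) : π.charpoly = minpoly K π := by
  have hint : IsIntegral K π := Algebra.IsIntegral.isIntegral π
  refine Polynomial.eq_of_monic_of_dvd_of_natDegree_le (minpoly.monic hint) (LinearMap.charpoly_monic π)
    (LinearMap.minpoly_dvd_charpoly π) ?_
  rw [LinearMap.charpoly_natDegree]
  exact hπ.finrank_le_natDegree_minpoly

open UniqueFactorizationMonoid in
theorem IsSimpleEnd.finrank_ker_aeval (hπ : IsSimpleEnd π) (Q : K[X]) (hQm : Q.Monic) (hQ : Irreducible Q) :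
    Module.finrank K (LinearMap.ker (aeval π Q)) =
      (normalizedFactors π.charpoly).count Q * Q.natDegree := by
  classical
  have hint : IsIntegral K π := Algebra.IsIntegral.isIntegral π
  have hPm : (minpoly K π).Monic := minpoly.monic hint
  have hPi := hπ.irreducible_minpoly
  rw [hπ.charpoly_eq_minpoly, normalizedFactors_irreducible hPi, hPm.normalize_eq_self]
  by_cases hQP : Q = minpoly K π
  · subst hQP
    rw [minpoly.aeval, LinearMap.ker_zero, finrank_top, Multiset.count_singleton_self, one_mul,
      ← hπ.charpoly_eq_minpoly, LinearMap.charpoly_natDegree]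
  · have hbot : LinearMap.ker (aeval π Q) = ⊥ := by
      rcases hπ.ker_aeval Q with h | h
      · exact h
      · exfalso
        have hdvd : minpoly K π ∣ Q := minpoly.dvd K π h
        have hassoc : Associated (minpoly K π) Q := hPi.associated_of_dvd hQ hdvd
        exact hQP (Polynomial.eq_of_monic_of_associated hPm hQm hassoc).symm
    rw [hbot, finrank_bot, Multiset.count_singleton, if_neg hQP, zero_mul]

end Simple

section SimpleHom

variable {V : Type v} [AddCommGroup V] [Module K V] [FiniteDimensional K V] {π : Module.End K V}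
variable {V₂ : Type w} [AddCommGroup V₂] [Module K V₂] [FiniteDimensional K V₂] (π₂ : Module.End K V₂)

theorem IsSimpleEnd.finrank_intertw (hπ : IsSimpleEnd π) :
    Module.finrank K (intertw π π₂) = Module.finrank K (LinearMap.ker (aeval π₂ (minpoly K π))) := by
  have := hπ.1
  obtain ⟨v, hv⟩ := exists_ne (0 : V)
  have hsurj := hπ.evAt_surjective hv
  -- evaluation at v
  have hmem : ∀ h : intertw π π₂, (h : V →ₗ[K] V₂) v ∈ LinearMap.ker (aeval π₂ (minpoly K π)) := by
    intro h
    rw [LinearMap.mem_ker]
    have h1 := LinearMap.congr_fun (intertw_aeval (mem_intertw.mp h.2) (minpoly K π)) v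
    simp only [LinearMap.comp_apply] at h1
    rw [← h1, minpoly.aeval]
    simp
  let E : intertw π π₂ →ₗ[K] LinearMap.ker (aeval π₂ (minpoly K π)) :=
    LinearMap.codRestrict _ ((LinearMap.applyₗ v).comp (Submodule.subtype _)) hmem
  have hE : ∀ h : intertw π π₂, (E h : V₂) = (h : V →ₗ[K] V₂) v := fun h => rfl
  have hinj : Function.Injective E := by
    rw [← LinearMap.ker_eq_bot, LinearMap.ker_eq_bot']
    intro h hh
    have h0 : (h : V →ₗ[K] V₂) v = 0 := by rw [← hE, hh]; rfl
    apply Subtype.ext
    apply LinearMap.ext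
    intro x
    obtain ⟨q, rfl⟩ := hsurj x
    have h1 := LinearMap.congr_fun (intertw_aeval (mem_intertw.mp h.2) q) v
    simp only [LinearMap.comp_apply] at h1
    rw [evAt_apply, h1, h0]
    simp
  have hsur : Function.Surjective E := by
    rintro ⟨w, hw⟩
    rw [LinearMap.mem_ker] at hw
    -- factor evAt π₂ w through evAt π v
    have hle : LinearMap.ker (evAt π v) ≤ LinearMap.ker (evAt π₂ w) := by
      intro q hq
      rw [LinearMap.mem_ker, evAt_apply] at hq ⊢
      have hq0 : aeval π q = 0 := hπ.aeval_eq_zero_of_apply hv hq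
      obtain ⟨c, rfl⟩ := minpoly.dvd K π hq0
      rw [mul_comm, map_mul, Module.End.mul_apply, hw, map_zero]
    let h : V →ₗ[K] V₂ := ((LinearMap.ker (evAt π v)).liftQ (evAt π₂ w) hle).comp
      ((evAt π v).quotKerEquivOfSurjective hsurj).symm.toLinearMap
    have hh : ∀ q : K[X], h (aeval π q v) = aeval π₂ q w := by
      intro q
      have : ((evAt π v).quotKerEquivOfSurjective hsurj).symm (aeval π q v) =
          (LinearMap.ker (evAt π v)).mkQ q := by
        rw [LinearEquiv.symm_apply_eq]
        rfl
      simp only [h, LinearMap.comp_apply, LinearEquiv.coe_coe, this]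
      rfl
    have hint : h ∈ intertw π π₂ := by
      rw [mem_intertw]
      apply LinearMap.ext
      intro x
      obtain ⟨q, rfl⟩ := hsurj x
      simp only [LinearMap.comp_apply, evAt_apply]
      rw [← aeval_comm_apply]
      have h1 : π v = aeval π (X : K[X]) v := by simp
      rw [h1, ← Module.End.mul_apply (aeval π q) (aeval π (X : K[X])) v, ← map_mul, hh, hh, map_mul (aeval π₂),
        Module.End.mul_apply, aeval_X, aeval_comm_apply]
    refine ⟨⟨h, hint⟩, ?_⟩
    apply Subtype.ext
    rw [hE]
    have := hh 1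
    simpa using this
  exact (LinearEquiv.ofBijective E ⟨hinj, hsur⟩).finrank_eq

end SimpleHom






/-- the right-hand side as a multiset sum -/
noncomputable def rr (s₁ s₂ : Multiset K[X]) : ℕ := (s₁.map (fun P => s₂.count P * P.natDegree)).sum

theorem rr_eq (s₁ s₂ : Multiset K[X]) :
    rr s₁ s₂ = ∑ P ∈ s₁.toFinset, s₁.count P * s₂.count P * P.natDegree := by
  unfold rr
  rw [Finset.sum_multiset_map_count]
  apply Finset.sum_congr rfl
  intro P _
  simp [mul_assoc]

theorem rr_add (s s' s₂ : Multiset K[X]) : rr (s + s') s₂ = rr s s₂ + rr s' s₂ := by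
  simp [rr]

theorem rr_zero (s₂ : Multiset K[X]) : rr 0 s₂ = 0 := by simp [rr]

theorem rr_singleton (P : K[X]) (s₂ : Multiset K[X]) : rr {P} s₂ = s₂.count P * P.natDegree := by
  simp [rr]

section ProdSub

variable {W : Type v} {W' : Type w} [AddCommGroup W] [Module K W] [AddCommGroup W'] [Module K W']

/-- the product submodule is the product of the submodules -/
def prodSubEquiv (p : Submodule K W) (q : Submodule K W') : (p.prod q) ≃ₗ[K] (p × q) where
  toFun x := (⟨x.1.1, x.2.1⟩, ⟨x.1.2, x.2.2⟩)
  invFun y := ⟨(y.1.1, y.2.1), ⟨y.1.2, y.2.2⟩⟩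
  map_add' _ _ := rfl
  map_smul' _ _ := rfl
  left_inv _ := rfl
  right_inv _ := rfl

theorem finrank_prodSub [FiniteDimensional K W] [FiniteDimensional K W'] (p : Submodule K W) (q : Submodule K W') :
    Module.finrank K (p.prod q) = Module.finrank K p + Module.finrank K q := by
  rw [(prodSubEquiv p q).finrank_eq, Module.finrank_prod]

end ProdSub

section Motive2

variable {V : Type v} [AddCommGroup V] [Module K V] [FiniteDimensional K V]

/-- the second motive: dimension of `ker Q(π)` is multiplicity times degree. -/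
def Motive2 (V : Type*) [AddCommGroup V] [Module K V] [FiniteDimensional K V] (π : Module.End K V) : Prop :=
  ∀ Q : K[X], Q.Monic → Irreducible Q →
    Module.finrank K (LinearMap.ker (aeval π Q)) = (normalizedFactors π.charpoly).count Q * Q.natDegree

theorem charpoly_of_subsingleton [Subsingleton V] (π : Module.End K V) : π.charpoly = 1 := by
  apply Polynomial.eq_one_of_monic_natDegree_zero (LinearMap.charpoly_monic π)
  rw [LinearMap.charpoly_natDegree]
  exact Module.finrank_zero_of_subsingleton

theorem motive2_triv [Subsingleton V] (π : Module.End K V) : Motive2 V π := by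
  intro Q _ _
  rw [charpoly_of_subsingleton, normalizedFactors_one]
  simp [Module.finrank_zero_of_subsingleton]

theorem motive2_iso {V' : Type v} [AddCommGroup V'] [Module K V'] [FiniteDimensional K V']
    (e : V ≃ₗ[K] V') (π : Module.End K V) (h : Motive2 V π) : Motive2 V' (e.conj π) := by
  intro Q hQm hQ
  rw [LinearEquiv.charpoly_conj, ← h Q hQm hQ]
  have h1 : aeval (e.conj π) Q = e.conj (aeval π Q) := by
    have := Polynomial.aeval_algHom_apply (e.conjAlgEquiv K).toAlgHom π Q
    exact this
  rw [h1]
  have h2 : LinearMap.ker (e.conj (aeval π Q)) = (LinearMap.ker (aeval π Q)).map e.toLinearMap := by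
    ext x
    simp only [LinearMap.mem_ker, LinearEquiv.conj_apply_apply, Submodule.mem_map, LinearEquiv.coe_coe]
    constructor
    · intro hx
      exact ⟨e.symm x, by simpa using hx, by simp⟩
    · rintro ⟨y, hy, rfl⟩
      simp [hy]
  rw [h2]
  exact LinearEquiv.finrank_map_eq e _

theorem motive2_prod {W W' : Type v} [AddCommGroup W] [Module K W] [FiniteDimensional K W]
    [AddCommGroup W'] [Module K W'] [FiniteDimensional K W'] (f : Module.End K W) (g : Module.End K W')
    (hf : Motive2 W f) (hg : Motive2 W' g) : Motive2 (W × W') (f.prodMap g) := by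
  intro Q hQm hQ
  have h1 : aeval (f.prodMap g) Q = (aeval f Q).prodMap (aeval g Q) := by
    have := Polynomial.aeval_algHom_apply (LinearMap.prodMapAlgHom K W W') (f, g) Q
    rw [Polynomial.aeval_prod_apply] at this
    exact this
  rw [h1, LinearMap.ker_prodMap, LinearMap.charpoly_prodMap,
    normalizedFactors_mul (LinearMap.charpoly_monic f).ne_zero (LinearMap.charpoly_monic g).ne_zero,
    Multiset.count_add, add_mul, ← hf Q hQm hQ, ← hg Q hQm hQ]
  exact finrank_prodSub _ _

end Motive2

section Motive1

/-- the first motive -/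
def Motive1 (V₁ : Type v) [AddCommGroup V₁] [Module K V₁] [FiniteDimensional K V₁] (π₁ : Module.End K V₁) : Prop :=
  ∀ (V₂ : Type w) [AddCommGroup V₂] [Module K V₂] [FiniteDimensional K V₂] (π₂ : Module.End K V₂),
    Motive2 V₂ π₂ →
    Module.finrank K (intertw π₁ π₂) = rr (normalizedFactors π₁.charpoly) (normalizedFactors π₂.charpoly)

variable {V : Type v} [AddCommGroup V] [Module K V] [FiniteDimensional K V]

theorem motive1_triv [Subsingleton V] (π : Module.End K V) : Motive1.{u, v, w} V π := by
  intro V₂ _ _ _ π₂ _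
  rw [charpoly_of_subsingleton, normalizedFactors_one, rr_zero]
  have : Subsingleton (V →ₗ[K] V₂) := ⟨fun a b => LinearMap.ext fun x => by
    rw [Subsingleton.elim x 0, map_zero, map_zero]⟩
  exact Module.finrank_zero_of_subsingleton

theorem motive1_iso {V' : Type v} [AddCommGroup V'] [Module K V'] [FiniteDimensional K V']
    (e : V ≃ₗ[K] V') (π : Module.End K V) (h : Motive1.{u, v, w} V π) : Motive1.{u, v, w} V' (e.conj π) := by
  intro V₂ _ _ _ π₂ h₂
  rw [LinearEquiv.charpoly_conj, ← h V₂ π₂ h₂]
  let Φ : (V →ₗ[K] V₂) ≃ₗ[K] (V' →ₗ[K] V₂) := LinearEquiv.arrowCongr e (LinearEquiv.refl K V₂)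
  have key : ∀ a : V →ₗ[K] V₂, a ∈ intertw π π₂ ↔ Φ a ∈ intertw (e.conj π) π₂ := by
    intro a
    rw [mem_intertw, mem_intertw]
    constructor
    · intro ha
      apply LinearMap.ext
      intro x
      have := LinearMap.congr_fun ha (e.symm x)
      simpa [Φ, LinearEquiv.conj_apply_apply] using this
    · intro ha
      apply LinearMap.ext
      intro x
      have := LinearMap.congr_fun ha (e x)
      simpa [Φ, LinearEquiv.conj_apply_apply] using this
  have hmap : (intertw π π₂).map Φ.toLinearMap = intertw (e.conj π) π₂ := by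
    ext b
    constructor
    · rintro ⟨a, ha, rfl⟩
      exact (key a).mp ha
    · intro hb
      refine ⟨Φ.symm b, (key _).mpr ?_, ?_⟩
      · simpa using hb
      · simp
  rw [← hmap]
  exact LinearEquiv.finrank_map_eq Φ _

theorem motive1_prod {W W' : Type v} [AddCommGroup W] [Module K W] [FiniteDimensional K W]
    [AddCommGroup W'] [Module K W'] [FiniteDimensional K W'] (f : Module.End K W) (g : Module.End K W')
    (hf : Motive1.{u, v, w} W f) (hg : Motive1.{u, v, w} W' g) : Motive1.{u, v, w} (W × W') (f.prodMap g) := by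
  intro V₂ _ _ _ π₂ h₂
  rw [LinearMap.charpoly_prodMap,
    normalizedFactors_mul (LinearMap.charpoly_monic f).ne_zero (LinearMap.charpoly_monic g).ne_zero,
    rr_add, ← hf V₂ π₂ h₂, ← hg V₂ π₂ h₂, ← finrank_prodSub]
  let Φ : ((W →ₗ[K] V₂) × (W' →ₗ[K] V₂)) ≃ₗ[K] (W × W' →ₗ[K] V₂) := LinearMap.coprodEquiv K
  have key : ∀ ab : (W →ₗ[K] V₂) × (W' →ₗ[K] V₂),
      ab ∈ (intertw f π₂).prod (intertw g π₂) ↔ Φ ab ∈ intertw (f.prodMap g) π₂ := by
    rintro ⟨a, b⟩
    rw [Submodule.mem_prod, mem_intertw, mem_intertw, mem_intertw]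
    change _ ↔ (a.coprod b) ∘ₗ (f.prodMap g) = π₂ ∘ₗ (a.coprod b)
    constructor
    · rintro ⟨ha, hb⟩
      apply LinearMap.ext
      rintro ⟨x, y⟩
      have h1 := LinearMap.congr_fun ha x
      have h2 := LinearMap.congr_fun hb y
      simp only [LinearMap.comp_apply] at h1 h2
      simp [h1, h2]
    · intro hab
      constructor
      · apply LinearMap.ext
        intro x
        have := LinearMap.congr_fun hab (x, 0)
        simpa using this
      · apply LinearMap.ext
        intro y
        have := LinearMap.congr_fun hab (0, y)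
        simpa using this
  have hmap : ((intertw f π₂).prod (intertw g π₂)).map Φ.toLinearMap = intertw (f.prodMap g) π₂ := by
    ext b
    constructor
    · rintro ⟨a, ha, rfl⟩
      exact (key a).mp ha
    · intro hb
      refine ⟨Φ.symm b, (key _).mpr ?_, ?_⟩
      · simpa using hb
      · simp
  rw [← hmap]
  exact LinearEquiv.finrank_map_eq Φ _

end Motive1


section Final

variable {V₁ : Type v} {V₂ : Type w} [AddCommGroup V₁] [Module K V₁] [FiniteDimensional K V₁]
  [AddCommGroup V₂] [Module K V₂] [FiniteDimensional K V₂]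

theorem motive2_of_isSemisimple (π₂ : Module.End K V₂) (h₂ : π₂.IsSemisimple) : Motive2 V₂ π₂ := by
  refine semisimple_induction (K := K) (fun V _ _ _ π => Motive2 V π) ?_ ?_ ?_ ?_ V₂ π₂ h₂
  · intro V V' _ _ _ _ _ _ e π h
    exact motive2_iso e π h
  · intro V _ _ _ _ π
    exact motive2_triv π
  · intro W W' _ _ _ _ _ _ f g _ _ hf hg
    exact motive2_prod f g hf hg
  · intro V _ _ _ π hπ Q hQm hQ
    exact hπ.finrank_ker_aeval Q hQm hQ

theorem motive1_of_isSemisimple (π₁ : Module.End K V₁) (h₁ : π₁.IsSemisimple) : Motive1.{u, v, w} V₁ π₁ := by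
  refine semisimple_induction (K := K) (fun V _ _ _ π => Motive1.{u, v, w} V π) ?_ ?_ ?_ ?_ V₁ π₁ h₁
  · intro V V' _ _ _ _ _ _ e π h
    exact motive1_iso e π h
  · intro V _ _ _ _ π
    exact motive1_triv π
  · intro W W' _ _ _ _ _ _ f g _ _ hf hg
    exact motive1_prod f g hf hg
  · intro V _ _ _ π hπ V₂ _ _ _ π₂ h₂
    have hint : IsIntegral K π := Algebra.IsIntegral.isIntegral π
    rw [hπ.finrank_intertw π₂, hπ.charpoly_eq_minpoly, normalizedFactors_irreducible hπ.irreducible_minpoly,
      (minpoly.monic hint).normalize_eq_self, rr_singleton]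
    exact h₂ _ (minpoly.monic hint) hπ.irreducible_minpoly

/-- The dimension of the space of intertwiners between two semisimple endomorphisms. -/
theorem finrank_intertw (π₁ : Module.End K V₁) (π₂ : Module.End K V₂)
    (h₁ : π₁.IsSemisimple) (h₂ : π₂.IsSemisimple) :
    Module.finrank K (intertw π₁ π₂) =
      ∑ P ∈ (normalizedFactors π₁.charpoly).toFinset,
        (normalizedFactors π₁.charpoly).count P * (normalizedFactors π₂.charpoly).count P * P.natDegree := by
  rw [← rr_eq]
  exact motive1_of_isSemisimple π₁ h₁ V₂ π₂ (motive2_of_isSemisimple π₂ h₂)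

end Final

end Groth.Agent.Lib.Seat80.Intertw
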