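/-
Seat80: if `S → S'` is a surjection of `R`-algebras (`S` f.t., `S'` f.p.), `S'_q` is `R`-flat and the
kernel dies modulo `I` in `S_q`, then `S_g → S'_g` is bijective for some `g ∉ q`.
Proof: equational criterion of flatness gives `K_q = I K_q`, Nakayama gives `K_q = 0`.
-/
import Mathlib
set_option autoImplicit false
universe u

namespace Groth.Agent.Lib.Seat80.IsoModIdeal

theorem ker_eq_bot_of_flat {R T N : Type*} [CommRing R] [CommRing T] [IsLocalRing T] [Algebra R T]
    [AddCommGroup N] [Module R N] [Module T N] [IsScalarTower R T N] [Module.Flat R N]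
    (I : Ideal R) (φ : T →ₗ[T] N) (hφ : Function.Surjective φ)
    (hfg : (LinearMap.ker φ).FG) (hK : LinearMap.ker φ ≤ I.map (algebraMap R T))
    (hI : I.map (algebraMap R T) ≤ IsLocalRing.maximalIdeal T) : LinearMap.ker φ = ⊥ := by
  classical
  refine Submodule.eq_bot_of_le_smul_of_le_jacobson_bot (IsLocalRing.maximalIdeal T) _ hfg ?_
    (IsLocalRing.jacobson_eq_maximalIdeal _ bot_ne_top).ge
  intro k hk
  have hk' : k ∈ Submodule.span T (algebraMap R T '' (I : Set R)) := hK hk
  obtain ⟨n, c, g, rfl⟩ := Submodule.mem_span_set'.mp hk'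
  choose a haI ha using fun i => (g i).2
  -- the relation in N
  have hrel : ∑ i, a i • φ (c i) = 0 := by
    have : φ (∑ i, c i • (g i : T)) = 0 := hk
    rw [map_sum] at this
    rw [← this]
    refine Finset.sum_congr rfl (fun i _ => ?_)
    rw [← ha i, smul_eq_mul, mul_comm, ← Algebra.smul_def, LinearMap.map_smul_of_tower]
  obtain ⟨m, b, y, hy, hb⟩ := Module.Flat.isTrivialRelation_of_sum_smul_eq_zero hrel
  choose y' hy' using fun j => hφ (y j)
  let k' : Fin n → T := fun i => c i - ∑ j, b i j • y' j
  have hk'mem : ∀ i, k' i ∈ LinearMap.ker φ := by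
    intro i
    rw [LinearMap.mem_ker]
    simp only [k', map_sub, map_sum, LinearMap.map_smul_of_tower, hy', hy i, sub_self]
  have hsum : ∑ i, c i • (g i : T) = ∑ i, a i • k' i := by
    have h1 : ∀ i, c i • (g i : T) = a i • c i := by
      intro i
      rw [← ha i, smul_eq_mul, mul_comm, ← Algebra.smul_def]
    have h2 : ∑ i, a i • ∑ j, b i j • y' j = 0 := by
      simp only [Finset.smul_sum, smul_smul]
      rw [Finset.sum_comm]
      refine Finset.sum_eq_zero (fun j _ => ?_)
      rw [← Finset.sum_smul, hb j, zero_smul]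
    simp only [h1, k', smul_sub, Finset.sum_sub_distrib, h2, sub_zero]
  rw [hsum]
  refine Submodule.sum_mem _ (fun i _ => ?_)
  have hsm : a i • k' i = (algebraMap R T (a i)) • k' i := by rw [Algebra.smul_def, smul_eq_mul]
  rw [hsm]
  exact Submodule.smul_mem_smul (hI (Ideal.mem_map_of_mem _ (haI i))) (hk'mem i)

theorem ker_fg (R S S' : Type u) [CommRing R] [CommRing S]
    [CommRing S'] [Algebra R S] [Algebra R S'] [Algebra.FiniteType R S] [Algebra.FinitePresentation R S']
    (f : S →ₐ[R] S') (hf : Function.Surjective f) : (RingHom.ker f.toRingHom).FG := by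
  obtain ⟨n, π, hπ⟩ := Algebra.FiniteType.iff_quotient_mvPolynomial''.mp (inferInstance : Algebra.FiniteType R S)
  have h1 := Algebra.FinitePresentation.ker_fG_of_surjective (f.comp π) (hf.comp hπ)
  have h2 : RingHom.ker f.toRingHom = (RingHom.ker (f.comp π).toRingHom).map π.toRingHom := by
    have : RingHom.ker (f.comp π).toRingHom = (RingHom.ker f.toRingHom).comap π.toRingHom := by
      ext x; simp [RingHom.mem_ker]
    rw [this]
    exact (Ideal.map_comap_of_surjective π.toRingHom hπ _).symm
  rw [h2]
  exact h1.map _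

theorem exists_notMem_smul_ker_eq_zero (R S S' : Type u) [CommRing R] [CommRing S]
    [CommRing S'] [Algebra R S] [Algebra R S'] [Algebra.FiniteType R S] [Algebra.FinitePresentation R S']
    (I : Ideal R) (f : S →ₐ[R] S') (hf : Function.Surjective f) (q : Ideal S) [q.IsPrime]
    (hq : I.map (algebraMap R S) ≤ q)
    (hker : ∀ j : S, f j = 0 →
      algebraMap S (Localization.AtPrime q) j ∈ I.map (algebraMap R (Localization.AtPrime q)))
    (hflat : letI : Module S S' := f.toRingHom.toModule
      Module.Flat R (LocalizedModule q.primeCompl S')) :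
    ∀ k : S, f k = 0 → algebraMap S (Localization.AtPrime q) k = 0 := by
  let _ : Module S S' := f.toRingHom.toModule
  have hsmul : ∀ (s : S) (m : S'), s • m = f s * m := fun s m => rfl
  let φ : Localization.AtPrime q →ₗ[Localization.AtPrime q] LocalizedModule q.primeCompl S' :=
    LinearMap.toSpanSingleton _ _ (LocalizedModule.mk 1 1)
  have hφmk : ∀ (s : S) (t : q.primeCompl), φ (Localization.mk s t) = LocalizedModule.mk (f s) t := by
    intro s t
    change Localization.mk s t • (LocalizedModule.mk (1 : S') (1 : q.primeCompl) : LocalizedModule q.primeCompl S') = _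
    rw [LocalizedModule.mk_smul_mk (M := S') s (1 : S') t 1, hsmul, mul_one, mul_one]
  have hflat' : Module.Flat R (LocalizedModule q.primeCompl S') := hflat
  have hφsurj : Function.Surjective φ := by
    intro x
    induction x using LocalizedModule.induction_on with
    | h m t =>
      obtain ⟨s, rfl⟩ := hf m
      exact ⟨Localization.mk s t, hφmk s t⟩
  -- description of the kernel
  have hkerφ : ∀ x, φ x = 0 → ∃ (k : S) (t : q.primeCompl), f k = 0 ∧ x = Localization.mk k t := by
    intro x hx
    induction x using Localization.induction_on with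
    | H y =>
      obtain ⟨s, t⟩ := y
      rw [hφmk, ← LocalizedModule.zero_mk (1 : q.primeCompl), LocalizedModule.mk_eq] at hx
      obtain ⟨u, hu⟩ := hx
      refine ⟨(u : S) * s, u * t, ?_, ?_⟩
      · have h1 : u • (1 : q.primeCompl) • f s = f ((u : S) * s) := by
          rw [one_smul, Submonoid.smul_def, hsmul, map_mul]
        rw [← h1, hu, smul_zero, smul_zero]
      · rw [Localization.mk_eq_mk_iff, Localization.r_iff_exists]
        refine ⟨1, ?_⟩
        simp only [Submonoid.coe_mul, OneMemClass.coe_one, one_mul]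
        ring
  have hmkeq : ∀ (k : S) (t : q.primeCompl), (Localization.mk k t : Localization.AtPrime q) =
      algebraMap S _ k * Localization.mk 1 t := by
    intro k t
    rw [← Localization.mk_one_eq_algebraMap, Localization.mk_mul, mul_one, one_mul]
  have hkerle : LinearMap.ker φ ≤ I.map (algebraMap R (Localization.AtPrime q)) := by
    intro x hx
    obtain ⟨k, t, hk, rfl⟩ := hkerφ x hx
    rw [hmkeq]
    exact Ideal.mul_mem_right _ _ (hker k hk)
  have hkereq : LinearMap.ker φ =
      (RingHom.ker f.toRingHom).map (algebraMap S (Localization.AtPrime q)) := by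
    apply le_antisymm
    · intro x hx
      obtain ⟨k, t, hk, rfl⟩ := hkerφ x hx
      rw [hmkeq]
      exact Ideal.mul_mem_right _ _ (Ideal.mem_map_of_mem _ hk)
    · rw [Ideal.map_le_iff_le_comap]
      intro k hk
      change φ (algebraMap S _ k) = 0
      have hk0 : f k = 0 := hk
      rw [← Localization.mk_one_eq_algebraMap, hφmk, hk0, LocalizedModule.zero_mk]
  have hfg : (LinearMap.ker φ).FG := by
    rw [hkereq]
    exact (ker_fg R S S' f hf).map _
  have hI : I.map (algebraMap R (Localization.AtPrime q)) ≤
      IsLocalRing.maximalIdeal (Localization.AtPrime q) := by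
    rw [IsScalarTower.algebraMap_eq R S (Localization.AtPrime q), ← Ideal.map_map,
      ← Localization.AtPrime.map_eq_maximalIdeal]
    exact Ideal.map_mono hq
  have hbot := ker_eq_bot_of_flat I φ hφsurj hfg hkerle hI
  intro k hk
  have hmem : algebraMap S (Localization.AtPrime q) k ∈ LinearMap.ker φ := by
    rw [hkereq]; exact Ideal.mem_map_of_mem _ hk
  rw [hbot] at hmem
  exact hmem

theorem main (R S S' : Type u) [CommRing R] [CommRing S]
    [CommRing S'] [Algebra R S] [Algebra R S'] [Algebra.FiniteType R S] [Algebra.FinitePresentation R S']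
    (I : Ideal R) (f : S →ₐ[R] S') (hf : Function.Surjective f) (q : Ideal S) [q.IsPrime]
    (hq : I.map (algebraMap R S) ≤ q)
    (hker : ∀ j : S, f j = 0 →
      algebraMap S (Localization.AtPrime q) j ∈ I.map (algebraMap R (Localization.AtPrime q)))
    (hflat : letI : Module S S' := f.toRingHom.toModule
      Module.Flat R (LocalizedModule q.primeCompl S')) :
    ∃ g : S, g ∉ q ∧ Function.Bijective (Localization.awayMap f.toRingHom g) := by
  classical
  have h0 := exists_notMem_smul_ker_eq_zero R S S' I f hf q hq hker hflat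
  -- each element of the kernel is killed by some element outside q
  have h1 : ∀ k : S, f k = 0 → ∃ u : S, u ∉ q ∧ u * k = 0 := by
    intro k hk
    have := h0 k hk
    rw [IsLocalization.map_eq_zero_iff q.primeCompl] at this
    obtain ⟨u, hu⟩ := this
    exact ⟨u, u.2, hu⟩
  obtain ⟨G, hG⟩ := ker_fg R S S' f hf
  have hGker : ∀ k ∈ G, f k = 0 := fun k hk => by
    have : k ∈ RingHom.ker f.toRingHom := hG ▸ Ideal.subset_span hk
    exact this
  choose! u hu using h1
  let g : S := ∏ k ∈ G, u k
  have hgq : g ∉ q := by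
    intro hg
    obtain ⟨k, hk, hkq⟩ := (Ideal.IsPrime.prod_mem_iff).mp hg
    exact (hu k (hGker k hk)).1 hkq
  have hgk' : ∀ k ∈ Ideal.span (G : Set S), g * k = 0 := by
    intro k hk'
    induction hk' using Submodule.span_induction with
    | mem x hx =>
      have := (hu x (hGker x hx)).2
      change (∏ k ∈ G, u k) * x = 0
      rw [← Finset.mul_prod_erase G u hx, mul_right_comm, this, zero_mul]
    | zero => rw [mul_zero]
    | add x y _ _ hx hy => rw [mul_add, hx, hy, add_zero]
    | smul a x _ hx => rw [smul_eq_mul, mul_left_comm, hx, mul_zero]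
  have hgk : ∀ k : S, f k = 0 → g * k = 0 := fun k hk =>
    hgk' k (hG ▸ (hk : k ∈ RingHom.ker f.toRingHom))
  refine ⟨g, hgq, ?_, ?_⟩
  · rw [injective_iff_map_eq_zero]
    intro x hx
    obtain ⟨⟨s, ⟨_, n, rfl⟩⟩, rfl⟩ := IsLocalization.mk'_surjective (Submonoid.powers g) x
    rw [Localization.awayMap, IsLocalization.Away.map, IsLocalization.map_mk',
      IsLocalization.mk'_eq_zero_iff] at hx
    obtain ⟨⟨_, l, rfl⟩, hl⟩ := hx
    have hfk : f (g ^ l * s) = 0 := by
      rw [map_mul, map_pow]
      exact hl
    rw [IsLocalization.mk'_eq_zero_iff]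
    refine ⟨⟨g ^ (l + 1), l + 1, rfl⟩, ?_⟩
    change g ^ (l + 1) * s = 0
    rw [pow_succ', mul_assoc]
    exact hgk _ hfk
  · intro y
    obtain ⟨⟨s', ⟨_, n, rfl⟩⟩, rfl⟩ := IsLocalization.mk'_surjective (Submonoid.powers (f.toRingHom g)) y
    obtain ⟨s, rfl⟩ := hf s'
    refine ⟨IsLocalization.mk' _ s (⟨g ^ n, n, rfl⟩ : Submonoid.powers g), ?_⟩
    rw [Localization.awayMap, IsLocalization.Away.map, IsLocalization.map_mk']
    congr 1
    ext
    simp

end Groth.Agent.Lib.Seat80.IsoModIdeal
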