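/-
Seat80: a local homomorphism of local rings `R → S` is a directed union of local homomorphisms
`R₀ → S₀` of local subrings essentially of finite type (over `ℤ`, resp. over `R₀`).
`locSubring φ F` is the "localization inside `S`" of the subring generated over `P` by `F`.
-/
import Mathlib
set_option autoImplicit false
universe u v

namespace Groth.Agent.Lib.Seat80.LocalSubrings

section loc
variable {P : Type v} {S : Type u} [CommRing P] [CommRing S] (φ : P →+* S) (F : Set S)

/-- The subring of `S` generated over `P` (via `φ`) by `F`. -/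
def genSub : Subring S := Subring.closure (Set.range φ ∪ F)

/-- The "localization inside `S`" of the subring generated by `F` over `P`: all `y` with
`y * t ∈ T` for some `t ∈ T` invertible in `S`. -/
def locSubring : Subring S where
  carrier := {y | ∃ t ∈ genSub φ F, IsUnit t ∧ y * t ∈ genSub φ F}
  mul_mem' := by
    rintro y₁ y₂ ⟨t₁, ht₁, hu₁, hb₁⟩ ⟨t₂, ht₂, hu₂, hb₂⟩
    refine ⟨t₁ * t₂, mul_mem ht₁ ht₂, hu₁.mul hu₂, ?_⟩
    have : y₁ * y₂ * (t₁ * t₂) = (y₁ * t₁) * (y₂ * t₂) := by ring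
    rw [this]
    exact mul_mem hb₁ hb₂
  one_mem' := ⟨1, one_mem _, isUnit_one, by simp⟩
  add_mem' := by
    rintro y₁ y₂ ⟨t₁, ht₁, hu₁, hb₁⟩ ⟨t₂, ht₂, hu₂, hb₂⟩
    refine ⟨t₁ * t₂, mul_mem ht₁ ht₂, hu₁.mul hu₂, ?_⟩
    have : (y₁ + y₂) * (t₁ * t₂) = (y₁ * t₁) * t₂ + (y₂ * t₂) * t₁ := by ring
    rw [this]
    exact add_mem (mul_mem hb₁ ht₂) (mul_mem hb₂ ht₁)
  zero_mem' := ⟨1, one_mem _, isUnit_one, by simp⟩
  neg_mem' := by
    rintro y ⟨t, ht, hu, hb⟩
    exact ⟨t, ht, hu, by rw [neg_mul]; exact neg_mem hb⟩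

theorem genSub_le_locSubring : genSub φ F ≤ locSubring φ F := fun y hy =>
  ⟨1, one_mem _, isUnit_one, by simpa using hy⟩

theorem range_le_locSubring (p : P) : φ p ∈ locSubring φ F :=
  genSub_le_locSubring φ F (Subring.subset_closure (Or.inl ⟨p, rfl⟩))

theorem subset_locSubring : F ⊆ locSubring φ F := fun _ hy =>
  genSub_le_locSubring φ F (Subring.subset_closure (Or.inr hy))

theorem isUnit_locSubring (y₀ : locSubring φ F) (hy : IsUnit (y₀ : S)) : IsUnit y₀ := by
  obtain ⟨y, t, ht, hu, hb⟩ := y₀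
  obtain ⟨z, hz⟩ := hy
  have hz' : (z : S) = y := hz
  have hyz : y * (z⁻¹ : Sˣ) = 1 := by rw [← hz']; exact z.mul_inv
  have hmem : ((z⁻¹ : Sˣ) : S) ∈ locSubring φ F := by
    refine ⟨y * t, hb, ?_, ?_⟩
    · rw [← hz']; exact z.isUnit.mul hu
    · have : ((z⁻¹ : Sˣ) : S) * (y * t) = (y * (z⁻¹ : Sˣ)) * t := by ring
      rw [this, hyz, one_mul]
      exact ht
  refine ⟨⟨⟨y, t, ht, hu, hb⟩, ⟨_, hmem⟩, ?_, ?_⟩, rfl⟩
  · exact Subtype.ext hyz
  · exact Subtype.ext (by rw [mul_comm] at hyz; exact hyz)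

instance isLocalHom_subtype : IsLocalHom (locSubring φ F).subtype :=
  ⟨fun y hy => isUnit_locSubring φ F y hy⟩

theorem isLocalRing_locSubring [IsLocalRing S] : IsLocalRing (locSubring φ F) :=
  RingHom.domain_isLocalRing (locSubring φ F).subtype

/-- The map `P → locSubring`. -/
def toLoc : P →+* locSubring φ F := φ.codRestrict _ (range_le_locSubring φ F)

theorem toLoc_essFiniteType (F : Finset S) : (toLoc φ (F : Set S)).EssFiniteType := by
  classical
  let _ : Algebra P (locSubring φ (F : Set S)) := (toLoc φ (F : Set S)).toAlgebra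
  change Algebra.EssFiniteType P (locSubring φ (F : Set S))
  rw [Algebra.essFiniteType_iff]
  let σ : Finset (locSubring φ (F : Set S)) :=
    F.attach.image (fun x => ⟨x.1, subset_locSubring φ (F : Set S) x.2⟩)
  refine ⟨σ, ?_⟩
  have key : ∀ x (hx : x ∈ genSub φ (F : Set S)),
      (⟨x, genSub_le_locSubring φ (F : Set S) hx⟩ : locSubring φ (F : Set S)) ∈
        Algebra.adjoin P (σ : Set (locSubring φ (F : Set S))) := by
    intro x hx
    induction hx using Subring.closure_induction with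
    | mem x hx =>
      rcases hx with ⟨p, rfl⟩ | hx
      · exact Subalgebra.algebraMap_mem _ p
      · apply Algebra.subset_adjoin
        simp only [σ, Finset.coe_image, Set.mem_image, Finset.mem_coe, Finset.mem_attach, true_and]
        exact ⟨⟨x, hx⟩, rfl⟩
    | zero => exact Subalgebra.zero_mem _
    | one => exact Subalgebra.one_mem _
    | add x y hx hy hx' hy' => exact Subalgebra.add_mem _ hx' hy'
    | neg x hx hx' => exact Subalgebra.neg_mem _ hx'
    | mul x y hx hy hx' hy' => exact Subalgebra.mul_mem _ hx' hy'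
  rintro ⟨y, t, ht, hu, hb⟩
  refine ⟨⟨t, genSub_le_locSubring φ (F : Set S) ht⟩, key t ht, isUnit_locSubring φ (F : Set S) _ hu, ?_⟩
  exact key (y * t) hb

end loc

theorem main (R S : Type u) [CommRing R] [CommRing S] [IsLocalRing R]
    [IsLocalRing S] [Algebra R S] [IsLocalHom (algebraMap R S)] (E : Finset R) (F : Finset S) :
    ∃ (R₀ : Subring R) (S₀ : Subring S) (h : ∀ x ∈ R₀, algebraMap R S x ∈ S₀),
      (E : Set R) ⊆ R₀ ∧ (F : Set S) ⊆ S₀ ∧ ∃ (_ : IsLocalRing R₀) (_ : IsLocalRing S₀),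
        IsLocalHom R₀.subtype ∧ IsLocalHom S₀.subtype ∧
          IsLocalHom ((algebraMap R S).restrict R₀ S₀ h) ∧
          (algebraMap ℤ R₀).EssFiniteType ∧ ((algebraMap R S).restrict R₀ S₀ h).EssFiniteType := by
  let R₀ : Subring R := locSubring (Int.castRingHom R) (E : Set R)
  let ψ : R₀ →+* S := (algebraMap R S).comp R₀.subtype
  let S₀ : Subring S := locSubring ψ (F : Set S)
  have h : ∀ x ∈ R₀, algebraMap R S x ∈ S₀ := fun x hx => range_le_locSubring ψ (F : Set S) ⟨x, hx⟩
  refine ⟨R₀, S₀, h, subset_locSubring _ _, subset_locSubring _ _, isLocalRing_locSubring _ _,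
    isLocalRing_locSubring _ _, isLocalHom_subtype _ _, isLocalHom_subtype _ _, ?_, ?_, ?_⟩
  · refine ⟨fun x hx => ?_⟩
    have h1 : IsUnit (S₀.subtype ((algebraMap R S).restrict R₀ S₀ h x)) := hx.map S₀.subtype
    have h2 : IsUnit (algebraMap R S (x : R)) := h1
    have h3 : IsUnit (x : R) := isUnit_of_map_unit (algebraMap R S) _ h2
    exact isUnit_locSubring _ _ x h3
  · have := toLoc_essFiniteType (Int.castRingHom R) E
    have heq : algebraMap ℤ R₀ = toLoc (Int.castRingHom R) (E : Set R) := RingHom.ext_int _ _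
    rw [heq]
    exact this
  · have := toLoc_essFiniteType ψ F
    have heq : (algebraMap R S).restrict R₀ S₀ h = toLoc ψ (F : Set S) := by
      ext x
      rfl
    rw [heq]
    exact this

end Groth.Agent.Lib.Seat80.LocalSubrings
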