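import Mathlib
import Groth.Agent.Lib.Helper3Coext
import Groth.Agent.S5155
import Groth.Agent.S5170
import Groth.Agent.S0301
import Groth.Agent.Lib.Helper29FinLen

/-! Seat80: Matlis duality over a finite (semilocal) algebra `B` of a Noetherian local ring `A`:
`Hom_A(B, E)` is the internal direct sum over the maximal ideals `n` of `B` of its `n`-power torsion
parts, each an injective hull of `B/n` (for S11184). -/

set_option autoImplicit false
set_option linter.style.haveILetI false
universe u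

namespace Groth.Agent.Lib.Seat80.MatlisSemi

open IsLocalRing Groth.Agent.Lib.Helper3.Coext

section Ring

variable {A B : Type u} [CommRing A] [IsLocalRing A] [CommRing B] [Algebra A B] [Module.Finite A B]

lemma comap_eq_maximalIdeal (n : Ideal B) [hn : n.IsMaximal] :
    n.comap (algebraMap A B) = maximalIdeal A := by
  have := Ideal.isMaximal_comap_of_isIntegral_of_isMaximal (R := A) n
  exact IsLocalRing.eq_maximalIdeal this

lemma map_le_of_isMaximal (n : Ideal B) [hn : n.IsMaximal] :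
    (maximalIdeal A).map (algebraMap A B) ≤ n := by
  rw [Ideal.map_le_iff_le_comap, comap_eq_maximalIdeal]

lemma isMaximal_of_map_le (p : Ideal B) [hp : p.IsPrime]
    (h : (maximalIdeal A).map (algebraMap A B) ≤ p) : p.IsMaximal := by
  have h1 : maximalIdeal A ≤ p.comap (algebraMap A B) := Ideal.map_le_iff_le_comap.1 h
  have h2 : maximalIdeal A = p.comap (algebraMap A B) :=
    (maximalIdeal.isMaximal A).eq_of_le (Ideal.comap_ne_top _ hp.ne_top) h1
  exact Ideal.isMaximal_of_isIntegral_of_isMaximal_comap (R := A) p (h2 ▸ maximalIdeal.isMaximal A)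

variable (A B) in
lemma finite_maximalSpectrum [IsNoetherianRing A] : Finite (MaximalSpectrum B) := by
  have : IsNoetherianRing B := Algebra.FiniteType.isNoetherianRing A B
  have hfin := Ideal.finite_minimalPrimes_of_isNoetherianRing B
    ((maximalIdeal A).map (algebraMap A B))
  have := hfin.to_subtype
  have hmem : ∀ n : MaximalSpectrum B,
      n.asIdeal ∈ ((maximalIdeal A).map (algebraMap A B)).minimalPrimes := by
    intro n
    have := n.isMaximal
    refine ⟨⟨n.isMaximal.isPrime, map_le_of_isMaximal n.asIdeal⟩, ?_⟩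
    rintro q ⟨hq, hle⟩ hqn
    have := hq
    exact ((isMaximal_of_map_le q hle).eq_of_le n.isMaximal.ne_top hqn).ge
  refine Finite.of_injective
    (fun n : MaximalSpectrum B => (⟨n.asIdeal, hmem n⟩ :
      ((maximalIdeal A).map (algebraMap A B)).minimalPrimes)) ?_
  intro n n' h
  exact MaximalSpectrum.ext (congrArg Subtype.val h)

variable (A B) in
lemma exists_iInf_pow_le [IsNoetherianRing A] :
    ∃ s : ℕ, (⨅ n : MaximalSpectrum B, n.asIdeal) ^ s ≤ (maximalIdeal A).map (algebraMap A B) := by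
  have : IsNoetherianRing B := Algebra.FiniteType.isNoetherianRing A B
  have hle : (⨅ n : MaximalSpectrum B, n.asIdeal) ≤
      ((maximalIdeal A).map (algebraMap A B)).radical := by
    rw [Ideal.radical_eq_sInf]
    refine le_sInf ?_
    rintro J ⟨hJ, hJp⟩
    have := hJp
    exact iInf_le (fun n : MaximalSpectrum B => n.asIdeal) ⟨J, isMaximal_of_map_le J hJ⟩
  obtain ⟨s, hs⟩ := Ideal.exists_radical_pow_le_of_fg
    ((maximalIdeal A).map (algebraMap A B)) (IsNoetherian.noetherian _)
  exact ⟨s, (Ideal.pow_right_mono hle s).trans hs⟩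

end Ring

section Decomp

variable {B : Type u} [CommRing B] (H : Type u) [AddCommGroup H] [Module B H]

/-- the `n`-power torsion part -/
def Jn (n : Ideal B) : Submodule B H :=
  ⨆ s : ℕ, Submodule.torsionBySet B H ((n ^ s : Ideal B) : Set B)

variable {H}

lemma mem_Jn_iff (n : Ideal B) (x : H) : x ∈ Jn H n ↔ ∃ s : ℕ, ∀ b ∈ n ^ s, b • x = 0 := by
  have hmono : Monotone (fun s : ℕ => Submodule.torsionBySet B H ((n ^ s : Ideal B) : Set B)) := by
    intro s t hst
    apply Submodule.torsionBySet_le_torsionBySet_of_subset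
    exact Ideal.pow_le_pow_right hst
  unfold Jn
  rw [Submodule.mem_iSup_of_directed _ hmono.directed_le]
  refine exists_congr fun s => ?_
  rw [Submodule.mem_torsionBySet_iff]
  exact ⟨fun h b hb => h ⟨b, hb⟩, fun h b => h b.1 b.2⟩

lemma iSupIndep_Jn : iSupIndep (fun n : MaximalSpectrum B => Jn H n.asIdeal) := by
  intro n
  rw [Submodule.disjoint_def]
  intro x hx hx'
  have hn := n.isMaximal
  -- an element outside `n` killing `x`
  have key : ∃ b : B, b ∉ n.asIdeal ∧ b • x = 0 := by
    rw [iSup_subtype'] at hx'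
    refine Submodule.iSup_induction _ (motive := fun x : H => ∃ b : B, b ∉ n.asIdeal ∧ b • x = 0)
      hx' ?_ ?_ ?_
    · rintro ⟨j, hj⟩ y hy
      obtain ⟨s, hs⟩ := (mem_Jn_iff _ _).1 hy
      have hnle : ¬ j.asIdeal ^ s ≤ n.asIdeal := by
        intro hle
        haveI := hn.isPrime
        have h1 : j.asIdeal ≤ n.asIdeal := Ideal.IsPrime.le_of_pow_le hle
        exact hj (MaximalSpectrum.ext (j.isMaximal.eq_of_le hn.ne_top h1))
      obtain ⟨b, hb, hbn⟩ := SetLike.not_le_iff_exists.1 hnle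
      exact ⟨b, hbn, hs b hb⟩
    · exact ⟨1, (Ideal.ne_top_iff_one _).1 hn.ne_top, smul_zero _⟩
    · rintro y z ⟨b, hb, hby⟩ ⟨c, hc, hcz⟩
      refine ⟨b * c, fun hbc => (hn.isPrime.mem_or_mem hbc).elim hb hc, ?_⟩
      rw [smul_add, mul_smul b c z, hcz, smul_zero, mul_comm, mul_smul c b y, hby, smul_zero,
        add_zero]
  obtain ⟨b, hbn, hbx⟩ := key
  obtain ⟨s, hs⟩ := (mem_Jn_iff _ _).1 hx
  haveI := hn
  obtain ⟨y, i, hi, hyi⟩ := Ideal.IsMaximal.exists_inv_pow n.asIdeal hbn s
  calc x = (y * b + i) • x := by rw [hyi, one_smul]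
    _ = 0 := by rw [add_smul, mul_smul, hbx, smul_zero, hs i hi, add_zero]

lemma iSup_Jn_eq_top [Finite (MaximalSpectrum B)]
    (h : ∀ x : H, ∃ t : ℕ, ∀ b ∈ (⨅ n : MaximalSpectrum B, n.asIdeal) ^ t, b • x = 0) :
    ⨆ n : MaximalSpectrum B, Jn H n.asIdeal = ⊤ := by
  classical
  haveI : Fintype (MaximalSpectrum B) := Fintype.ofFinite _
  rw [eq_top_iff]
  intro x _
  obtain ⟨t, ht⟩ := h x
  let p : MaximalSpectrum B → Ideal B := fun n => n.asIdeal ^ t
  have hp : ((Finset.univ : Finset (MaximalSpectrum B)) : Set (MaximalSpectrum B)).Pairwise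
      fun i j => p i ⊔ p j = ⊤ := by
    intro i _ j _ hij
    apply Ideal.pow_sup_pow_eq_top
    exact Ideal.IsMaximal.coprime_of_ne i.isMaximal j.isMaximal
      (fun h => hij (MaximalSpectrum.ext h))
  have hle : (⨅ i ∈ (Finset.univ : Finset (MaximalSpectrum B)), p i) ≤
      (⨅ n : MaximalSpectrum B, n.asIdeal) ^ t := by
    rw [← Ideal.prod_eq_iInf_of_pairwise_isCoprime
      (fun i hi j hj hij => (Ideal.isCoprime_iff_sup_eq).2 (hp hi hj hij))]
    show ∏ i : MaximalSpectrum B, i.asIdeal ^ t ≤ _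
    rw [Finset.prod_pow]
    apply Ideal.pow_right_mono
    refine (Ideal.prod_le_inf).trans ?_
    rw [Finset.inf_univ_eq_iInf]
  have hx : x ∈ Submodule.torsionBySet B H
      ((⨅ i ∈ (Finset.univ : Finset (MaximalSpectrum B)), p i : Ideal B) : Set B) := by
    rw [Submodule.mem_torsionBySet_iff]
    intro a
    exact ht a.1 (hle a.2)
  rw [← Submodule.iSup_torsionBySet_ideal_eq_torsionBySet_iInf hp] at hx
  refine (iSup₂_le ?_ : (⨆ i ∈ (Finset.univ : Finset (MaximalSpectrum B)),
    Submodule.torsionBySet B H (p i)) ≤ _) hx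
  intro i _
  refine le_trans ?_ (le_iSup (fun n : MaximalSpectrum B => Jn H n.asIdeal) i)
  exact le_iSup (fun s : ℕ => Submodule.torsionBySet B H ((i.asIdeal ^ s : Ideal B) : Set B)) t

end Decomp

section Socle

variable {A B : Type u} [CommRing A] [IsLocalRing A] [IsNoetherianRing A] [CommRing B] [Algebra A B]
  [Module.Finite A B] {E : Type u} [AddCommGroup E] [Module A E]

/-- a uniform exponent: every element of `Hom_A(B, E)` is killed by some `(m^N) B`. -/
lemma exists_map_pow_smul_eq_zero (hE : LocCoh.IsPowerTorsion (maximalIdeal A) E)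
    (g : Obj A B E) :
    ∃ N : ℕ, ∀ b ∈ (maximalIdeal A ^ N).map (algebraMap A B), b • g = 0 := by
  obtain ⟨T, hT⟩ := (Module.Finite.fg_top : (⊤ : Submodule A B).FG)
  choose nn hnn using fun b : B => hE (toLin g b)
  let N : ℕ := T.sup nn
  have hN : ∀ b : B, ∀ a ∈ maximalIdeal A ^ N, a • toLin g b = 0 := by
    intro b a ha
    have hb : b ∈ Submodule.span A (T : Set B) := by rw [hT]; trivial
    induction hb using Submodule.span_induction with
    | mem x hx => exact hnn x a (Ideal.pow_le_pow_right (Finset.le_sup (f := nn) hx) ha)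
    | zero => rw [map_zero, smul_zero]
    | add x y _ _ hx hy => rw [map_add, smul_add, hx, hy, add_zero]
    | smul c x _ hx => rw [map_smul, smul_comm, hx, smul_zero]
  refine ⟨N, ?_⟩
  have hker : (maximalIdeal A ^ N).map (algebraMap A B) ≤
      LinearMap.ker (LinearMap.toSpanSingleton B (Obj A B E) g) := by
    rw [Ideal.map_le_iff_le_comap]
    intro a ha
    simp only [Ideal.mem_comap, LinearMap.mem_ker, LinearMap.toSpanSingleton_apply]
    apply toLin_injective
    ext b
    rw [toLin_smul_apply, toLin_zero, LinearMap.zero_apply, mul_comm, ← Algebra.smul_def, map_smul]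
    exact hN b a ha
  intro c hc
  have := hker hc
  rw [LinearMap.mem_ker, LinearMap.toSpanSingleton_apply] at this
  exact this

variable (n : Ideal B) [hn : n.IsMaximal]

lemma smul_quot_eq_zero {a : A} (ha : a ∈ maximalIdeal A) (c : B ⧸ n) : a • c = 0 := by
  rw [Algebra.smul_def]
  have : algebraMap A (B ⧸ n) a = 0 := by
    rw [IsScalarTower.algebraMap_apply A B (B ⧸ n), Ideal.Quotient.algebraMap_eq,
      Ideal.Quotient.eq_zero_iff_mem]
    exact map_le_of_isMaximal n (Ideal.mem_map_of_mem _ ha)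
  rw [this, zero_mul]

lemma isFiniteLength_quot : IsFiniteLength A (B ⧸ n) := by
  apply Groth.Agent.Lib.Helper29.FinLen.isFiniteLength_of_associatedPrimes_isMaximal
  intro P hP
  have h1 : Module.annihilator A (B ⧸ n) ≤ P := by
    have := IsAssociatedPrime.annihilator_le hP
    rwa [Submodule.annihilator_top] at this
  have h2 : maximalIdeal A ≤ P := by
    refine le_trans ?_ h1
    intro a ha
    rw [Module.mem_annihilator]
    exact fun c => smul_quot_eq_zero n ha c
  have := (maximalIdeal.isMaximal A).eq_of_le hP.isPrime.ne_top h2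
  exact this ▸ maximalIdeal.isMaximal A

/-- the `B`-linear map `B/n → Hom_A(B,E)` attached to an element killed by `n` -/
noncomputable def socHom (y : Obj A B E) (hy : ∀ b ∈ n, b • y = 0) : (B ⧸ n) →ₗ[B] Obj A B E :=
  Submodule.liftQ n (LinearMap.toSpanSingleton B (Obj A B E) y) (by
    intro b hb
    rw [LinearMap.mem_ker, LinearMap.toSpanSingleton_apply]
    exact hy b hb)

omit [IsLocalRing A] [IsNoetherianRing A] [Module.Finite A B] hn in
lemma socHom_mk (y : Obj A B E) (hy : ∀ b ∈ n, b • y = 0) (b : B) :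
    socHom n y hy (Ideal.Quotient.mk n b) = b • y := rfl

omit [IsLocalRing A] [IsNoetherianRing A] [Module.Finite A B] hn in
lemma homToLin_socHom_mk (y : Obj A B E) (hy : ∀ b ∈ n, b • y = 0) (b : B) :
    homToLin (socHom n y hy) (Ideal.Quotient.mk n b) = toLin y b := by
  rw [homToLin_apply, socHom_mk, toLin_smul_apply, one_mul]

lemma exists_smul_eq_of_socle {f : ResidueField A →ₗ[A] E} (hf : InjHull.IsInjectiveHull f)
    (y y' : Obj A B E) (hy : ∀ b ∈ n, b • y = 0) (hy' : ∀ b ∈ n, b • y' = 0) (hy0 : y ≠ 0) :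
    ∃ b : B, b • y = y' := by
  have hfl := isFiniteLength_quot (A := A) n
  have hlen := Groth.Agent.S5170.result A E f hf (B ⧸ n) hfl
  have hfl' : IsFiniteLength A ((B ⧸ n) →ₗ[A] E) := by
    rw [← Module.length_ne_top_iff, hlen, Module.length_ne_top_iff]; exact hfl
  obtain ⟨_, _⟩ := isFiniteLength_iff_isNoetherian_isArtinian.1 hfl'
  let T : (B ⧸ n) →ₗ[A] ((B ⧸ n) →ₗ[A] E) :=
    (LinearMap.mul A (B ⧸ n)).compr₂ (homToLin (socHom n y hy))
  have hT : ∀ c d, T c d = homToLin (socHom n y hy) (c * d) := fun c d => rfl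
  have hinj : Function.Injective T := by
    rw [← LinearMap.ker_eq_bot, LinearMap.ker_eq_bot']
    intro c hc
    by_contra hc0
    obtain ⟨b, rfl⟩ := Ideal.Quotient.mk_surjective c
    have hbn : b ∉ n := fun h => hc0 (Ideal.Quotient.eq_zero_iff_mem.2 h)
    obtain ⟨b', i, hi, hbi⟩ := hn.exists_inv hbn
    apply hy0
    have h1 : toLin y = 0 := by
      ext s
      have := LinearMap.congr_fun hc (Ideal.Quotient.mk n (b' * s))
      rw [hT, ← map_mul, LinearMap.zero_apply] at this
      have h2 : Ideal.Quotient.mk n (b * (b' * s)) = Ideal.Quotient.mk n s := by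
        rw [Ideal.Quotient.eq]
        have h3 : b * (b' * s) - s = -(i * s) := by linear_combination s * hbi
        rw [h3]
        exact n.neg_mem (n.mul_mem_right _ hi)
      rw [h2, homToLin_socHom_mk] at this
      rw [this, LinearMap.zero_apply]
    exact toLin_injective (by rw [h1, toLin_zero])
  have hsurj : Function.Surjective T := by
    rw [← LinearMap.range_eq_top]
    by_contra hne
    have h1 := Submodule.length_lt (R := A) hne
    rw [hlen, ← (LinearEquiv.ofInjective T hinj).length_eq] at h1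
    exact lt_irrefl _ h1
  obtain ⟨c, hc⟩ := hsurj (homToLin (socHom n y' hy'))
  obtain ⟨b, rfl⟩ := Ideal.Quotient.mk_surjective c
  refine ⟨b, ?_⟩
  apply toLin_injective
  ext s
  have := LinearMap.congr_fun hc (Ideal.Quotient.mk n s)
  rw [hT, ← map_mul, homToLin_socHom_mk, homToLin_socHom_mk] at this
  rw [toLin_smul_apply, mul_comm]
  exact this

lemma exists_socle_ne_zero {f : ResidueField A →ₗ[A] E} (hf : InjHull.IsInjectiveHull f) :
    ∃ y : Obj A B E, (∀ b ∈ n, b • y = 0) ∧ y ≠ 0 := by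
  have hfl := isFiniteLength_quot (A := A) n
  have hlen := Groth.Agent.S5170.result A E f hf (B ⧸ n) hfl
  haveI : Nontrivial (B ⧸ n) := Ideal.Quotient.nontrivial_iff.2 hn.ne_top
  have hpos : 0 < Module.length A ((B ⧸ n) →ₗ[A] E) := by rw [hlen]; exact Module.length_pos
  haveI : Nontrivial ((B ⧸ n) →ₗ[A] E) := Module.length_pos_iff.1 hpos
  obtain ⟨lam, hlam⟩ := exists_ne (0 : (B ⧸ n) →ₗ[A] E)
  have hmk : ∀ b : B, linToHom (S := B) lam (Ideal.Quotient.mk n b) =
      b • linToHom (S := B) lam (Ideal.Quotient.mk n 1) := by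
    intro b
    rw [← map_smul]
    congr 1
    show Ideal.Quotient.mk n b = Ideal.Quotient.mk n (b • 1)
    rw [smul_eq_mul, mul_one]
  refine ⟨linToHom lam (Ideal.Quotient.mk n 1), ?_, ?_⟩
  · intro b hb
    rw [← hmk, Ideal.Quotient.eq_zero_iff_mem.2 hb, map_zero]
  · intro h0
    apply hlam
    rw [← homToLin_linToHom (S := B) lam]
    ext c
    obtain ⟨b, rfl⟩ := Ideal.Quotient.mk_surjective c
    rw [homToLin_apply, hmk, h0, smul_zero, toLin_zero]
    rfl


theorem exists_hull {f : ResidueField A →ₗ[A] E} (hf : InjHull.IsInjectiveHull f)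
    (n : MaximalSpectrum B) :
    ∃ g : (B ⧸ n.asIdeal) →ₗ[B] Jn (Obj A B E) n.asIdeal, InjHull.IsInjectiveHull g := by
  haveI := n.isMaximal
  haveI : IsNoetherianRing B := Algebra.FiniteType.isNoetherianRing A B
  obtain ⟨y₀, hy₀, hne⟩ := exists_socle_ne_zero n.asIdeal hf
  have hmem : y₀ ∈ Jn (Obj A B E) n.asIdeal :=
    (mem_Jn_iff _ _).2 ⟨1, by rw [pow_one]; exact hy₀⟩
  let g : (B ⧸ n.asIdeal) →ₗ[B] Jn (Obj A B E) n.asIdeal :=
    Submodule.liftQ n.asIdeal
      (LinearMap.toSpanSingleton B (Jn (Obj A B E) n.asIdeal) ⟨y₀, hmem⟩) (by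
      intro b hb
      rw [LinearMap.mem_ker, LinearMap.toSpanSingleton_apply]
      exact Subtype.ext (hy₀ b hb))
  have hg : ∀ b : B, g (Ideal.Quotient.mk _ b) = b • ⟨y₀, hmem⟩ := fun b => rfl
  refine ⟨g, ⟨⟨?_, ?_⟩, ?_⟩⟩
  · rw [injective_iff_map_eq_zero]
    intro c hc
    obtain ⟨b, rfl⟩ := Ideal.Quotient.mk_surjective c
    by_contra hc0
    have hbn : b ∉ n.asIdeal := fun h => hc0 (Ideal.Quotient.eq_zero_iff_mem.2 h)
    obtain ⟨b', i, hi, hbi⟩ := n.isMaximal.exists_inv hbn
    apply hne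
    have h1 : b • y₀ = 0 := by
      rw [hg] at hc
      exact congrArg Subtype.val hc
    calc y₀ = (b' * b + i) • y₀ := by rw [hbi, one_smul]
      _ = 0 := by rw [add_smul, mul_smul, h1, smul_zero, hy₀ i hi, add_zero]
  · intro N hN
    obtain ⟨x, hxN, hx0⟩ := Submodule.exists_mem_ne_zero_of_ne_bot hN
    classical
    have hex : ∃ s : ℕ, ∀ b ∈ n.asIdeal ^ s, b • (x : Obj A B E) = 0 := (mem_Jn_iff _ _).1 x.2
    have hs0 : Nat.find hex ≠ 0 := by
      intro h0
      have := Nat.find_spec hex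
      rw [h0, pow_zero] at this
      apply hx0
      apply Subtype.ext
      have h1 := this 1 (by simp)
      rw [one_smul] at h1
      exact h1
    obtain ⟨k, hk⟩ := Nat.exists_eq_succ_of_ne_zero hs0
    have hmin : ¬ ∀ b ∈ n.asIdeal ^ k, b • (x : Obj A B E) = 0 :=
      Nat.find_min hex (by rw [hk]; exact Nat.lt_succ_self k)
    push Not at hmin
    obtain ⟨a, hak, hax⟩ := hmin
    have hsoc : ∀ b ∈ n.asIdeal, b • (a • (x : Obj A B E)) = 0 := by
      intro b hb
      rw [← mul_smul]
      apply Nat.find_spec hex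
      rw [hk, pow_succ']
      exact Ideal.mul_mem_mul hb hak
    obtain ⟨c, hc⟩ := exists_smul_eq_of_socle n.asIdeal hf y₀ (a • (x : Obj A B E)) hy₀ hsoc hne
    intro hbot
    have hmemN : a • x ∈ N ⊓ LinearMap.range g :=
      ⟨N.smul_mem a hxN, ⟨Ideal.Quotient.mk _ c, by rw [hg]; exact Subtype.ext hc⟩⟩
    rw [hbot, Submodule.mem_bot] at hmemN
    exact hax (congrArg Subtype.val hmemN)
  · exact Groth.Agent.S0301.result B (Obj A B E) (injective_obj hf.isInjective) n.asIdeal

theorem main {f : ResidueField A →ₗ[A] E} (hf : InjHull.IsInjectiveHull f) :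
    ∃ J : MaximalSpectrum B → Submodule B (Obj A B E), iSupIndep J ∧ iSup J = ⊤ ∧
      ∀ n : MaximalSpectrum B, ∃ g : (B ⧸ n.asIdeal) →ₗ[B] J n, InjHull.IsInjectiveHull g := by
  haveI := finite_maximalSpectrum A B
  refine ⟨fun n => Jn (Obj A B E) n.asIdeal, iSupIndep_Jn, iSup_Jn_eq_top ?_,
    fun n => exists_hull hf n⟩
  intro x
  obtain ⟨N, hN⟩ := exists_map_pow_smul_eq_zero
    (Groth.Agent.S5155.isPowerTorsion_of_hull hf.toIsEssentialInj) x
  obtain ⟨s, hs⟩ := exists_iInf_pow_le A B
  refine ⟨s * N, fun b hb => hN b ?_⟩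
  rw [Ideal.map_pow]
  rw [pow_mul] at hb
  exact Ideal.pow_right_mono hs N hb

end Socle

end Groth.Agent.Lib.Seat80.MatlisSemi
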