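import Mathlib
import Groth.Agent.Lib.Seat80ExtAR2
import Groth.Agent.Lib.Seat80ExtAR3
import Groth.Agent.Lib.Seat63DTenExact
import Groth.Agent.Lib.Seat63DTenUnitShift
import Groth.Agent.Lib.Helper1DT5

/-!
# Obstruction lemma for `I`-power torsion objects of `D(A)` and Koszul-like objects (helper80)

* `exists_incl_comp_eq_zero`: if `X ∈ D^{[b+1-k,b]}(A)` is killed by `I^s` (`A` Noetherian) and `M` is a
  finite module, every map `M[0] ⟶ X` vanishes on `I^m M` for some `m`.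
* `exists_koszul_like`: for a list `L` of elements, an object `X` with a map `a : M[0] ⟶ X`, bounded,
  killed by powers of the elements of `L`, through which every map from `M[0]` to an object killed by
  the elements of `L` factors.
* `smul_id_LTen_eq_zero`: `N[0] ⊗^L Y` is killed by every element which kills the module `N`.
* `exists_incl_comp_eq_zero_of_smul_eq_zero`: `A` Noetherian, `M` finite, `T ∈ D(A)` killed by `I`:
  every map `M[0] ⟶ T` vanishes on `I^n M` for some `n > 0`.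
* `main13578`: `I^n M ⟶ M` factors through `I ⊗^L M ⟶ M` for some `n > 0` (S13578).
-/

set_option autoImplicit false
universe u
open CategoryTheory CategoryTheory.Limits MonoidalCategory Pretriangulated DerivedCategory
attribute [local instance] HasDerivedCategory.standard

namespace Groth.Agent.Lib.Seat80.Obstr


open DerivedCategory.TStructure

variable {A : Type u} [CommRing A]

/-- the inclusion `I^n M ⟶ M` in `D(A)` -/
noncomputable abbrev incl (I : Ideal A) (M : Type u) [AddCommGroup M] [Module A M] (n : ℕ) :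
    Dual.inD A ↥(I ^ n • ⊤ : Submodule A M) ⟶ Dual.inD A M :=
  (DerivedCategory.singleFunctor (ModuleCat.{u} A) 0).map
    (ModuleCat.ofHom (I ^ n • ⊤ : Submodule A M).subtype)

lemma isZero_inD_of_subsingleton (N : Type u) [AddCommGroup N] [Module A N] [Subsingleton N] :
    IsZero (Dual.inD A N) :=
  (DerivedCategory.singleFunctor (ModuleCat.{u} A) 0).map_isZero
    (ModuleCat.isZero_of_subsingleton (ModuleCat.of A N))

/-- one-degree case of the obstruction lemma -/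
lemma exists_incl_comp_eq_zero_of_heart [IsNoetherianRing A] (I : Ideal A) (Y : Dual.D A) (b : ℤ)
    [Y.IsGE b] [Y.IsLE b] (s : ℕ) (hs : ∀ a ∈ I ^ s, a • 𝟙 Y = 0)
    (M : Type u) [AddCommGroup M] [Module A M] [Module.Finite A M] (e : Dual.inD A M ⟶ Y) :
    ∃ n : ℕ, incl I M n ≫ e = 0 := by
  by_cases hb : 0 < b
  · refine ⟨0, ?_⟩
    have h0 : e = 0 := t.zero_of_isLE_of_isGE e 0 b hb inferInstance inferInstance
    rw [h0, comp_zero]
  · obtain ⟨p, hp⟩ : ∃ p : ℕ, (p : ℤ) + b = 0 := ⟨(-b).toNat, by have := Int.toNat_of_nonneg (a := -b) (by lia); lia⟩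
    obtain ⟨N, ⟨eY⟩⟩ := exists_iso_singleFunctor_obj_of_isGE_of_isLE Y b
    let σ : ((DerivedCategory.singleFunctor (ModuleCat.{u} A) 0).obj N)⟦(p : ℤ)⟧ ≅
        (DerivedCategory.singleFunctor (ModuleCat.{u} A) b).obj N :=
      ((DerivedCategory.singleFunctors (ModuleCat.{u} A)).shiftIso (p : ℤ) b 0 hp).app N
    -- `I^s` kills `N`
    have hN : ∀ a ∈ I ^ s, ∀ x : N, a • x = 0 := by
      intro a ha x
      have h1 : (DerivedCategory.singleFunctor (ModuleCat.{u} A) b).map (a • 𝟙 N) = 0 := by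
        rw [Functor.map_smul, CategoryTheory.Functor.map_id]
        have : a • 𝟙 ((DerivedCategory.singleFunctor (ModuleCat.{u} A) b).obj N) =
            eY.inv ≫ (a • 𝟙 Y) ≫ eY.hom := by simp
        rw [this, hs a ha, zero_comp, comp_zero]
      have h2 : a • 𝟙 N = 0 :=
        (DerivedCategory.singleFunctor (ModuleCat.{u} A) b).map_injective (by rw [h1, Functor.map_zero])
      have := congrArg (fun f => f.hom x) h2
      simp only [ModuleCat.hom_smul, ModuleCat.hom_id, LinearMap.smul_apply, LinearMap.id_coe, id_eq,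
        ModuleCat.hom_zero, LinearMap.zero_apply] at this
      exact this
    obtain ⟨c, hc⟩ := Groth.Agent.Lib.Seat80.ExtAR3.main7148 A I M N p
    refine ⟨c + s, ?_⟩
    obtain ⟨e', he'⟩ := hc (c + s) (Nat.le_add_right c s) (e ≫ eY.hom ≫ σ.inv)
    have hsub : Subsingleton ↥(I ^ (c + s - c) • ⊤ : Submodule A N) := by
      rw [Nat.add_sub_cancel_left]
      have hbot : (I ^ s • ⊤ : Submodule A N) = ⊥ := by
        rw [eq_bot_iff, Submodule.smul_le]
        intro a ha x _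
        rw [Submodule.mem_bot]
        exact hN a ha x
      rw [hbot]
      infer_instance
    have hz : IsZero ((Dual.inD A ↥(I ^ (c + s - c) • ⊤ : Submodule A N))⟦(p : ℤ)⟧) :=
      (shiftFunctor (Dual.D A) (p : ℤ)).map_isZero (isZero_inD_of_subsingleton _)
    rw [hz.eq_of_tgt e' 0, zero_comp] at he'
    have h3 : (incl I M (c + s) ≫ e) ≫ eY.hom ≫ σ.inv = 0 := by
      rw [Category.assoc]; exact he'.symm
    have h4 : incl I M (c + s) ≫ e = ((incl I M (c + s) ≫ e) ≫ eY.hom ≫ σ.inv) ≫ σ.hom ≫ eY.inv := by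
      simp
    rw [h4, h3, zero_comp]


/-- plumbing: `I^(m₁+m₂) M ⟶ M` factors through `I^m₂ (I^m₁ M) ⟶ I^m₁ M ⟶ M` -/
lemma exists_incl_factor (I : Ideal A) (M : Type u) [AddCommGroup M] [Module A M] (m₁ m₂ : ℕ) :
    ∃ j : Dual.inD A ↥(I ^ (m₁ + m₂) • ⊤ : Submodule A M) ⟶
        Dual.inD A ↥(I ^ m₂ • ⊤ : Submodule A ↥(I ^ m₁ • ⊤ : Submodule A M)),
      j ≫ incl I ↥(I ^ m₁ • ⊤ : Submodule A M) m₂ ≫ incl I M m₁ = incl I M (m₁ + m₂) := by
  have hmem : ∀ x : ↥(I ^ (m₁ + m₂) • ⊤ : Submodule A M),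
      ∃ z : ↥(I ^ m₁ • ⊤ : Submodule A M), z ∈ (I ^ m₂ • ⊤ : Submodule A ↥(I ^ m₁ • ⊤ : Submodule A M)) ∧
        z.1 = x.1 := by
    intro x
    apply Groth.Agent.Lib.Seat80.ExtAR.exists_mem_smul_top_of_mem_smul
    have : (I ^ (m₁ + m₂) • ⊤ : Submodule A M) = I ^ m₂ • (I ^ m₁ • ⊤ : Submodule A M) := by
      rw [← Submodule.mul_smul, ← pow_add, add_comm]
    rw [← this]
    exact x.2
  choose z hz hz' using hmem
  let jl : ↥(I ^ (m₁ + m₂) • ⊤ : Submodule A M) →ₗ[A]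
      ↥(I ^ m₂ • ⊤ : Submodule A ↥(I ^ m₁ • ⊤ : Submodule A M)) :=
    { toFun := fun x => ⟨z x, hz x⟩
      map_add' := fun x y => by
        apply Subtype.ext; apply Subtype.ext
        simp [hz']
      map_smul' := fun a x => by
        apply Subtype.ext; apply Subtype.ext
        simp [hz'] }
  refine ⟨(DerivedCategory.singleFunctor (ModuleCat.{u} A) 0).map (ModuleCat.ofHom jl), ?_⟩
  rw [← Functor.map_comp, ← Functor.map_comp]
  congr 1
  ext x
  exact hz' x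

/-- obstruction lemma -/
lemma exists_incl_comp_eq_zero [IsNoetherianRing A] (I : Ideal A) (s : ℕ) (k : ℕ) :
    ∀ (b : ℤ) (X : Dual.D A) [X.IsLE b] [X.IsGE (b + 1 - k)] (_ : ∀ a ∈ I ^ s, a • 𝟙 X = 0)
      (M : Type u) [AddCommGroup M] [Module A M] [Module.Finite A M] (u : Dual.inD A M ⟶ X),
      ∃ m : ℕ, incl I M m ≫ u = 0 := by
  induction k with
  | zero =>
    intro b X _ _ _ M _ _ _ u
    refine ⟨0, ?_⟩
    have h0 : 𝟙 X = 0 := t.zero_of_isLE_of_isGE (𝟙 X) b (b + 1 - (0 : ℕ)) (by simp) inferInstance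
      inferInstance
    rw [← Category.comp_id u, h0, comp_zero, comp_zero]
  | succ k ih =>
    intro b X _ hGE hs M _ _ _ u
    have hT := t.triangleLTGE_distinguished b X
    obtain ⟨π, hπ⟩ : ∃ π : X ⟶ (t.truncGE b).obj X, π = (t.truncGEπ b).app X := ⟨_, rfl⟩
    obtain ⟨ι, hι⟩ : ∃ ι : (t.truncLT b).obj X ⟶ X, ι = (t.truncLTι b).app X := ⟨_, rfl⟩
    -- the top truncation is killed by `I^s`
    have hsY : ∀ a ∈ I ^ s, a • 𝟙 ((t.truncGE b).obj X) = 0 := by
      intro a ha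
      have h2 : π ≫ (a • 𝟙 ((t.truncGE b).obj X)) = (a • 𝟙 X) ≫ π := by
        rw [Linear.comp_smul, Linear.smul_comp, Category.comp_id, Category.id_comp]
      have h1 : π ≫ (a • 𝟙 ((t.truncGE b).obj X)) = π ≫ 0 := by
        rw [h2, hs a ha, zero_comp, comp_zero]
      rw [hπ] at h1
      exact t.from_truncGE_obj_ext h1
    obtain ⟨n₁, hn₁⟩ := exists_incl_comp_eq_zero_of_heart I ((t.truncGE b).obj X) b s hsY M (u ≫ π)
    have h0 : (incl I M n₁ ≫ u) ≫ π = 0 := by rw [Category.assoc]; exact hn₁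
    rw [hπ] at h0
    obtain ⟨v, hv'⟩ : ∃ v : Dual.inD A ↥(I ^ n₁ • ⊤ : Submodule A M) ⟶ (t.truncLT b).obj X,
        incl I M n₁ ≫ u = v ≫ ι := by
      obtain ⟨v, hv⟩ := Triangle.coyoneda_exact₂ _ hT (incl I M n₁ ≫ u) h0
      exact ⟨v, by rw [hι]; exact hv⟩
    have hGE' : t.IsGE ((t.truncLT b).obj X) (b - 1 + 1 - k) :=
      t.isGE_of_ge _ (b - 1 + 1 - k) (b + 1 - ((k + 1 : ℕ) : ℤ)) (by push_cast; lia)
    have hLE' : t.IsLE ((t.truncLT b).obj X) (b - 1) := inferInstance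
    have hs' : ∀ a ∈ I ^ s, a • 𝟙 ((t.truncLT b).obj X) = 0 := by
      intro a ha
      have h2 : (a • 𝟙 ((t.truncLT b).obj X)) ≫ ι = ι ≫ (a • 𝟙 X) := by
        rw [Linear.comp_smul, Linear.smul_comp, Category.comp_id, Category.id_comp]
      have h1 : (a • 𝟙 ((t.truncLT b).obj X)) ≫ ι = 0 ≫ ι := by
        rw [h2, hs a ha, zero_comp, comp_zero]
      rw [hι] at h1
      exact t.to_truncLT_obj_ext h1
    obtain ⟨m₂, hm₂⟩ := ih (b - 1) ((t.truncLT b).obj X) hs' ↥(I ^ n₁ • ⊤ : Submodule A M) v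
    obtain ⟨j, hj⟩ := exists_incl_factor I M n₁ m₂
    refine ⟨n₁ + m₂, ?_⟩
    have h5 : incl I M (n₁ + m₂) ≫ u =
        j ≫ (incl I ↥(I ^ n₁ • ⊤ : Submodule A M) m₂ ≫ v) ≫ ι := by
      rw [← hj, Category.assoc, Category.assoc, Category.assoc, hv']
    rw [h5, hm₂, zero_comp, comp_zero]


/-- in a distinguished triangle, an element acting compatibly as zero on the two outer terms squares
to zero on the third vertex -/
lemma sq_smul_id_eq_zero {X Y Z : Dual.D A} (f : X ⟶ Y) (g : Y ⟶ Z) (h : Z ⟶ X⟦(1 : ℤ)⟧)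
    (hT : Triangle.mk f g h ∈ distTriang _) (r : A)
    (h₁ : (r • 𝟙 Y) ≫ g = 0) (h₃ : h ≫ (r • 𝟙 (X⟦(1 : ℤ)⟧)) = 0) :
    (r * r) • 𝟙 Z = 0 := by
  have h2 : g ≫ (r • 𝟙 Z) = 0 := by
    rw [Linear.comp_smul, Category.comp_id, ← Category.id_comp g, ← Linear.smul_comp, h₁]
  obtain ⟨k, hk⟩ : ∃ k : X⟦(1 : ℤ)⟧ ⟶ Z, r • 𝟙 Z = h ≫ k :=
    Triangle.yoneda_exact₃ _ hT (r • 𝟙 Z) h2
  have h4 : (r * r) • 𝟙 Z = (r • 𝟙 Z) ≫ (r • 𝟙 Z) := by
    rw [Linear.comp_smul, Linear.smul_comp, Category.comp_id, smul_smul]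
  have h5 : (r • 𝟙 Z) ≫ h = h ≫ (r • 𝟙 (X⟦(1 : ℤ)⟧)) := by
    rw [Linear.comp_smul, Linear.smul_comp, Category.comp_id, Category.id_comp]
  rw [h4]
  nth_rewrite 2 [hk]
  rw [← Category.assoc, h5, h₃, zero_comp]

lemma exists_koszul_like (M : Type u) [AddCommGroup M] [Module A M] (L : List A) :
    ∃ (X : Dual.D A) (a : Dual.inD A M ⟶ X),
      X.IsLE 0 ∧ X.IsGE (-(L.length : ℤ)) ∧ (∀ f ∈ L, ∃ e : ℕ, (f ^ e) • 𝟙 X = 0) ∧
      (∀ (T : Dual.D A), (∀ f ∈ L, f • 𝟙 T = 0) → ∀ c : Dual.inD A M ⟶ T, ∃ b : X ⟶ T, a ≫ b = c) := by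
  induction L with
  | nil =>
    refine ⟨Dual.inD A M, 𝟙 _, inferInstance, ?_, ?_, ?_⟩
    · have : (Dual.inD A M).IsGE 0 := inferInstance
      exact t.isGE_of_ge _ _ 0 (by simp)
    · intro f hf; simp at hf
    · intro T _ c; exact ⟨c, Category.id_comp c⟩
  | cons g L ih =>
    obtain ⟨X, a, hLE, hGE, htor, hext⟩ := ih
    obtain ⟨X', i, p, hT⟩ := distinguished_cocone_triangle (g • 𝟙 X)
    refine ⟨X', a ≫ i, ?_, ?_, ?_, ?_⟩
    · have h3 : t.IsLE (X⟦(1 : ℤ)⟧) 0 := by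
        have : t.IsLE (X⟦(1 : ℤ)⟧) (-1) := t.isLE_shift X 0 1 (-1)
        exact t.isLE_of_le _ (-1) 0 (by lia)
      exact t.isLE₂ _ (rot_of_distTriang _ hT) 0 hLE h3
    · have h1 : t.IsGE X (-((g :: L).length : ℤ)) :=
        t.isGE_of_ge _ _ (-(L.length : ℤ)) (by simp)
      have h3 : t.IsGE (X⟦(1 : ℤ)⟧) (-((g :: L).length : ℤ)) :=
        t.isGE_shift X (-(L.length : ℤ)) 1 _ (by simp)
      exact t.isGE₂ _ (rot_of_distTriang _ hT) _ h1 h3
    · intro f hf
      rw [List.mem_cons] at hf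
      rcases hf with rfl | hf
      · refine ⟨2, ?_⟩
        rw [pow_two]
        refine sq_smul_id_eq_zero _ _ _ hT f (comp_distTriang_mor_zero₁₂ _ hT) ?_
        have h6 : f • 𝟙 (X⟦(1 : ℤ)⟧) = (f • 𝟙 X)⟦(1 : ℤ)⟧' := by
          rw [Functor.map_smul, CategoryTheory.Functor.map_id]
        rw [h6]
        exact comp_distTriang_mor_zero₃₁ _ hT
      · obtain ⟨e, he⟩ := htor f hf
        refine ⟨e + e, ?_⟩
        rw [pow_add]
        refine sq_smul_id_eq_zero _ _ _ hT (f ^ e) (by rw [he, zero_comp]) ?_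
        have h6 : f ^ e • 𝟙 (X⟦(1 : ℤ)⟧) = (f ^ e • 𝟙 X)⟦(1 : ℤ)⟧' := by
          rw [Functor.map_smul, CategoryTheory.Functor.map_id]
        rw [h6, he, Functor.map_zero, comp_zero]
    · intro T hTor c
      obtain ⟨b, hb⟩ := hext T (fun f hf => hTor f (List.mem_cons_of_mem _ hf)) c
      have h0 : (g • 𝟙 X) ≫ b = 0 := by
        rw [Linear.smul_comp, Category.id_comp, ← Category.comp_id b, ← Linear.comp_smul,
          hTor g (List.mem_cons_self), comp_zero]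
      obtain ⟨b', hb'⟩ : ∃ b' : X' ⟶ T, b = i ≫ b' := Triangle.yoneda_exact₂ _ hT b h0
      exact ⟨b', by rw [Category.assoc, ← hb', hb]⟩


open Groth.Agent.Lib.Helper1.KF Groth.Agent.Lib.Helper1.DT DTen

/-- transport of torsion along an isomorphism -/
lemma smul_id_eq_zero_of_iso {X Y : Dual.D A} (e : X ≅ Y) (f : A) (h : f • 𝟙 Y = 0) : f • 𝟙 X = 0 := by
  have : f • 𝟙 X = e.hom ≫ (f • 𝟙 Y) ≫ e.inv := by
    rw [Linear.smul_comp, Linear.comp_smul, Category.id_comp, e.hom_inv_id]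
  rw [this, h, zero_comp, comp_zero]

/-- `f` kills the termwise tensor product `N ⊗ C^n` when it kills `N` -/
lemma smul_id_TCx_eq_zero (N : ModuleCat.{u} A) (C : Cx A) (f : A) (hf : f • 𝟙 N = 0) :
    f • 𝟙 (TCx N C) = 0 := by
  ext n : 1
  change f • 𝟙 (N ⊗ C.X n) = 0
  have : f • 𝟙 (N ⊗ C.X n) = (f • 𝟙 N) ▷ C.X n := by
    rw [MonoidalLinear.smul_whiskerRight, id_whiskerRight]
  rw [this, hf, MonoidalPreadditive.zero_whiskerRight]

lemma smul_id_LTen_eq_zero [HasLTen A] (N : ModuleCat.{u} A) (Y : Dual.D A) (f : A) (hf : f • 𝟙 N = 0) :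
    f • 𝟙 ((LTen₂ A).obj (Q.obj (sgl N), Y)) = 0 := by
  obtain ⟨P, hP, ⟨e⟩⟩ := Groth.Agent.Lib.Seat63.DTenExact.exists_kflat_iso Y
  have h1 : IsIso ((ε A).app (sgl N, P)) := isIso_ε_of_kflat (sgl N) P (Or.inr hP)
  let e1 : (LTen₂ A).obj (Q.obj (sgl N), Y) ≅ (LTen₂ A).obj (Q.obj (sgl N), Q.obj P) :=
    (LTen₂ A).mapIso (Iso.prod (Iso.refl _) e.symm)
  let e2 : (LTen₂ A).obj (Q.obj (sgl N), Q.obj P) ≅ Q.obj (sgl N ⊗ P) := asIso ((ε A).app (sgl N, P))
  let e3 : Q.obj (sgl N ⊗ P) ≅ Q.obj (TCx N P) := Q.mapIso (singleTensorIso N P).symm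
  refine smul_id_eq_zero_of_iso (e1 ≪≫ e2 ≪≫ e3) f ?_
  have : f • 𝟙 (Q.obj (TCx N P)) = Q.map (f • 𝟙 (TCx N P)) := by
    rw [Functor.map_smul, CategoryTheory.Functor.map_id]
  rw [this, smul_id_TCx_eq_zero N P f hf, Functor.map_zero]


open Groth.Agent.Lib.Seat63.DTenBasic Groth.Agent.Lib.Seat63.WeakExact

/-- from torsion by powers of generators to torsion by a power of the ideal -/
lemma exists_pow_smul_id_eq_zero (X : Dual.D A) (S : Finset A)
    (h : ∀ f ∈ S, ∃ e : ℕ, (f ^ e) • 𝟙 X = 0) :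
    ∃ s : ℕ, ∀ a ∈ (Ideal.span (S : Set A)) ^ s, a • 𝟙 X = 0 := by
  let J : Ideal A :=
    { carrier := {a | a • 𝟙 X = 0}
      add_mem' := fun {a b} ha hb => by
        simp only [Set.mem_ofPred_eq] at ha hb ⊢
        rw [add_smul, ha, hb, add_zero]
      zero_mem' := by simp
      smul_mem' := fun c a ha => by
        simp only [Set.mem_ofPred_eq] at ha ⊢
        rw [smul_eq_mul, mul_smul, ha, smul_zero] }
  have h1 : Ideal.span (S : Set A) ≤ J.radical := by
    rw [Ideal.span_le]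
    intro f hf
    obtain ⟨e, he⟩ := h f hf
    exact ⟨e, he⟩
  obtain ⟨s, hs⟩ := Ideal.exists_pow_le_of_le_radical_of_fg h1 ⟨S, rfl⟩
  exact ⟨s, fun a ha => hs ha⟩

/-- elements of `I` kill the module `A ⧸ I` -/
lemma smul_id_quotient_eq_zero (I : Ideal A) (f : A) (hf : f ∈ I) :
    f • 𝟙 (ModuleCat.of A (A ⧸ (I : Submodule A A))) = 0 := by
  apply ModuleCat.hom_ext
  apply LinearMap.ext
  intro x
  obtain ⟨y, rfl⟩ := Submodule.mkQ_surjective _ x
  change f • (Submodule.mkQ (I : Submodule A A) y) = 0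
  rw [← map_smul, Submodule.mkQ_apply, Submodule.Quotient.mk_eq_zero]
  exact I.mul_mem_right y hf




lemma isIso_unitL_app_sgl [HasLTen A] (N : ModuleCat.{u} A) :
    IsIso ((unitL A).app (Q.obj (sgl N))) := by
  rw [unitL_app]
  have := isIso_ε_of_kflat (𝟙_ (Cx A)) (sgl N)
    (Or.inl Groth.Agent.Lib.Seat63.DTenUnitShift.kflat_unit)
  infer_instance

/-- the inclusion `I^{m+1} M ⟶ M` is killed by whatever kills `I^m M ⟶ M` -/
lemma incl_succ_comp_eq_zero (I : Ideal A) (M : Type u) [AddCommGroup M] [Module A M] (m : ℕ)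
    {X : Dual.D A} (a : Dual.inD A M ⟶ X) (h : incl I M m ≫ a = 0) : incl I M (m + 1) ≫ a = 0 := by
  obtain ⟨j, hj⟩ := exists_incl_factor I M m 1
  rw [← hj, Category.assoc, Category.assoc, h, comp_zero, comp_zero]

/-- the key vanishing: for `M` finite over a Noetherian ring and `T` killed by `I`, every map
`M[0] ⟶ T` in `D(A)` vanishes on `I^n M` for some `n > 0`. -/
theorem exists_incl_comp_eq_zero_of_smul_eq_zero [IsNoetherianRing A] (I : Ideal A)
    (M : Type u) [AddCommGroup M] [Module A M] [Module.Finite A M]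
    (T : Dual.D A) (hT : ∀ f ∈ I, f • 𝟙 T = 0) (c : Dual.inD A M ⟶ T) :
    ∃ n : ℕ, 0 < n ∧ incl I M n ≫ c = 0 := by
  classical
  obtain ⟨S, hS⟩ : I.FG := IsNoetherian.noetherian I
  obtain ⟨X, a, hLE, hGE, htor, hext⟩ := exists_koszul_like (A := A) M S.toList
  obtain ⟨b, hb⟩ := hext T (fun f hf => hT f (by
    rw [← hS]; exact Ideal.subset_span (Finset.mem_toList.mp hf))) c
  obtain ⟨s, hs⟩ := exists_pow_smul_id_eq_zero X S (fun f hf => htor f (Finset.mem_toList.mpr hf))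
  rw [hS] at hs
  have : X.IsLE 0 := hLE
  have : X.IsGE (0 + 1 - ((S.toList.length + 1 : ℕ) : ℤ)) :=
    t.isGE_of_ge _ _ (-(S.toList.length : ℤ)) (by push_cast; lia)
  obtain ⟨m, hm⟩ := exists_incl_comp_eq_zero I s (S.toList.length + 1) 0 X hs M a
  refine ⟨m + 1, Nat.succ_pos m, ?_⟩
  rw [← hb, ← Category.assoc, incl_succ_comp_eq_zero I M m a hm, zero_comp]




/-- abstract factorisation through the first map of a triangle under a weakly exact functor -/
lemma exists_factor_of_WE {C E : Type*} [Category C] [HasZeroObject C] [HasShift C ℤ] [Preadditive C]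
    [∀ n : ℤ, (shiftFunctor C n).Additive] [Pretriangulated C] [Category E] [Preadditive E]
    {F : C ⥤ E} (hF : WE F) (T : Triangle C) (hT : T ∈ distTriang C)
    {Y Z : E} (u : F.obj T.obj₂ ⟶ Y) (ui : Y ⟶ F.obj T.obj₂) (hui : ui ≫ u = 𝟙 Y) (i : Z ⟶ Y)
    (h : i ≫ ui ≫ F.map T.mor₂ = 0) : ∃ ψ : Z ⟶ F.obj T.obj₁, ψ ≫ F.map T.mor₁ ≫ u = i := by
  obtain ⟨ψ, hψ⟩ := hF T hT Z (i ≫ ui) (by rw [Category.assoc]; exact h)
  exact ⟨ψ, by rw [← Category.assoc, hψ, Category.assoc, hui, Category.comp_id]⟩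

theorem main13578 (A : Type u) [CommRing A] [IsNoetherianRing A]
    [DTen.HasLTen A] (I : Ideal A) (M : Type u) [AddCommGroup M] [Module A M]
    [Module.Finite A M] :
    ∃ (n : ℕ) (_ : 0 < n)
      (g : DerivedCategory.Q.obj ((HomologicalComplex.single (ModuleCat.{u} A) (ComplexShape.up ℤ) 0).obj
              (ModuleCat.of A ↥(I ^ n • (⊤ : Submodule A M)))) ⟶
            (DTen.LTen₂ A).obj (DerivedCategory.Q.obj ((HomologicalComplex.single (ModuleCat.{u} A) (ComplexShape.up ℤ) 0).obj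
              (ModuleCat.of A ↥I)),
              DerivedCategory.Q.obj ((HomologicalComplex.single (ModuleCat.{u} A) (ComplexShape.up ℤ) 0).obj
              (ModuleCat.of A M)))),
      g ≫ (DTen.LTen₂ A).map (Prod.mkHom
              (DerivedCategory.Q.map ((HomologicalComplex.single (ModuleCat.{u} A) (ComplexShape.up ℤ) 0).map
                (ModuleCat.ofHom I.subtype)))
              (𝟙 _)) ≫
          (DTen.unitL A).app (DerivedCategory.Q.obj ((HomologicalComplex.single (ModuleCat.{u} A) (ComplexShape.up ℤ) 0).obj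
              (ModuleCat.of A M))) =
        DerivedCategory.Q.map ((HomologicalComplex.single (ModuleCat.{u} A) (ComplexShape.up ℤ) 0).map
          (ModuleCat.ofHom (I ^ n • (⊤ : Submodule A M)).subtype)) := by
  have hu := isIso_unitL_app_sgl (A := A) (ModuleCat.of A M)
  have hTr := Groth.Agent.Lib.Seat80.ExtAR2.Tr_dist (A := A) (M := A) (I : Submodule A A)
  obtain ⟨ui, hui⟩ : ∃ ui : Q.obj (sgl (ModuleCat.of A M)) ⟶
      (LTen₂ A).obj (DTen.unit A, Q.obj (sgl (ModuleCat.of A M))),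
      ui = inv ((unitL A).app (Q.obj (sgl (ModuleCat.of A M)))) := ⟨_, rfl⟩
  have hui' : ui ≫ (unitL A).app (Q.obj (sgl (ModuleCat.of A M))) = 𝟙 _ := by
    rw [hui]; exact IsIso.inv_hom_id _
  obtain ⟨n, hn, hz⟩ := exists_incl_comp_eq_zero_of_smul_eq_zero I M
    ((LTen₂ A).obj (Q.obj (sgl (ModuleCat.of A (A ⧸ (I : Submodule A A)))), Q.obj (sgl (ModuleCat.of A M))))
    (fun f hf => smul_id_LTen_eq_zero _ _ f (smul_id_quotient_eq_zero I f hf))
    (ui ≫ ((LTen A).flip.obj (Q.obj (sgl (ModuleCat.of A M)))).map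
        (Groth.Agent.Lib.Seat80.ExtAR2.Tr (A := A) (M := A) (I : Submodule A A)).mor₂)
  obtain ⟨ψ, hψ⟩ := exists_factor_of_WE
    (Groth.Agent.Lib.Seat63.DTenExact.we_flip_obj (Q.obj (sgl (ModuleCat.of A M)))) _ hTr
    ((unitL A).app (Q.obj (sgl (ModuleCat.of A M)))) ui hui'
    (incl I M n) hz
  exact ⟨n, hn, ψ, hψ⟩

end Groth.Agent.Lib.Seat80.Obstr
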