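/-
Seat80: points with values in a fixed algebraically closed field of infinite transcendence degree.
A finitely generated domain over `K` embeds into `Ω` (Noether normalization + `IsAlgClosed.lift`);
hence every point of a scheme locally of finite type over `K` is the image of an `Ω`-point over `K`;
conversely for surjective `f`, the fibre over an `Ω`-point is a nonempty Jacobson scheme over `Ω`,
so has a closed point, which is an `Ω`-point.
-/
import Mathlib
set_option autoImplicit false
universe u
open CategoryTheory AlgebraicGeometry CategoryTheory.Limits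

namespace Groth.Agent.Lib.Seat80.OmegaPts

theorem exists_injective_algHom {K : Type u} [Field K] (D : Type u) [CommRing D] [IsDomain D] [Algebra K D]
    [Algebra.FiniteType K D] (Ω : Type u) [Field Ω] [IsAlgClosed Ω] [Algebra K Ω]
    (t : ℕ → Ω) (ht : AlgebraicIndependent K t) : ∃ φ : D →ₐ[K] Ω, Function.Injective φ := by
  obtain ⟨s, g, hginj, hgint⟩ := exists_integral_inj_algHom_of_fg K D
  let ψ : MvPolynomial (Fin s) K →ₐ[K] Ω := MvPolynomial.aeval (fun i : Fin s => t i)
  have hψinj : Function.Injective ψ :=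
    algebraicIndependent_iff_injective_aeval.mp
      (ht.comp (fun i : Fin s => (i : ℕ)) Fin.val_injective)
  let _ : Algebra (MvPolynomial (Fin s) K) D := g.toRingHom.toAlgebra
  let _ : Algebra (MvPolynomial (Fin s) K) Ω := ψ.toRingHom.toAlgebra
  have : IsScalarTower K (MvPolynomial (Fin s) K) D :=
    IsScalarTower.of_algebraMap_eq (fun x => (g.commutes x).symm)
  have : IsScalarTower K (MvPolynomial (Fin s) K) Ω :=
    IsScalarTower.of_algebraMap_eq (fun x => (ψ.commutes x).symm)
  have : Module.IsTorsionFree (MvPolynomial (Fin s) K) D :=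
    Module.isTorsionFree_iff_algebraMap_injective.mpr hginj
  have : Module.IsTorsionFree (MvPolynomial (Fin s) K) Ω :=
    Module.isTorsionFree_iff_algebraMap_injective.mpr hψinj
  have : Algebra.IsIntegral (MvPolynomial (Fin s) K) D := ⟨hgint⟩
  let φ₀ : D →ₐ[MvPolynomial (Fin s) K] Ω := IsAlgClosed.lift
  refine ⟨φ₀.restrictScalars K, ?_⟩
  have hker : RingHom.ker φ₀.toRingHom = ⊥ := by
    apply Ideal.eq_bot_of_comap_eq_bot (R := MvPolynomial (Fin s) K)
    rw [eq_bot_iff]
    intro x hx
    rw [Ideal.mem_comap] at hx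
    have h1 : φ₀ (algebraMap (MvPolynomial (Fin s) K) D x) = 0 := hx
    rw [AlgHom.commutes] at h1
    have : x = 0 := hψinj (h1.trans (map_zero ψ).symm)
    rw [this]
    exact Ideal.zero_mem _
  exact (RingHom.injective_iff_ker_eq_bot φ₀.toRingHom).mpr hker

theorem forward (K Ω : Type u) [Field K] [Field Ω] [IsAlgClosed Ω] [Algebra K Ω]
    {X Y : Scheme.{u}} (pX : X ⟶ Spec (CommRingCat.of K)) (pY : Y ⟶ Spec (CommRingCat.of K))
    [LocallyOfFiniteType pX] [LocallyOfFiniteType pY] (f : X ⟶ Y) (hf : f ≫ pY = pX)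
    [Surjective f] (y : Spec (CommRingCat.of Ω) ⟶ Y) :
    ∃ x : Spec (CommRingCat.of Ω) ⟶ X, x ≫ f = y := by
  have hflft : LocallyOfFiniteType f := by
    have : LocallyOfFiniteType (f ≫ pY) := by rw [hf]; infer_instance
    exact locallyOfFiniteType_of_comp f pY
  have h1 : Surjective (pullback.snd f y) := inferInstance
  have h2 : LocallyOfFiniteType (pullback.snd f y) := inferInstance
  obtain ⟨z₀, _⟩ := (pullback.snd f y).surjective (IsLocalRing.closedPoint Ω)
  have hJ : JacobsonSpace ↥(pullback f y) := LocallyOfFiniteType.jacobsonSpace (pullback.snd f y)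
  obtain ⟨z, hz⟩ : ∃ z : ↥(pullback f y), IsClosed ({z} : Set ↥(pullback f y)) := by
    have hne : (closure (closedPoints ↥(pullback f y))).Nonempty := by
      rw [closure_closedPoints]; exact ⟨z₀, trivial⟩
    obtain ⟨z, hz⟩ := closure_nonempty_iff.mp hne
    exact ⟨z, hz⟩
  refine ⟨pointOfClosedPoint (pullback.snd f y) z hz ≫ pullback.fst f y, ?_⟩
  rw [Category.assoc, pullback.condition, ← Category.assoc, pointOfClosedPoint_comp, Category.id_comp]

theorem exists_point (K Ω : Type u) [Field K] [Field Ω] [IsAlgClosed Ω] [Algebra K Ω]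
    (t : ℕ → Ω) (ht : AlgebraicIndependent K t)
    {Y : Scheme.{u}} (pY : Y ⟶ Spec (CommRingCat.of K))
    [LocallyOfFiniteType pY] (y₀ : Y) :
    ∃ y : Spec (CommRingCat.of Ω) ⟶ Y,
      y ≫ pY = Spec.map (CommRingCat.ofHom (algebraMap K Ω)) ∧ ∀ a, y.base a = y₀ := by
  let 𝒰 := Y.affineOpenCover
  let i := 𝒰.idx y₀
  let R : CommRingCat := 𝒰.X i
  let j : Spec R ⟶ Y := 𝒰.f i
  obtain ⟨q, hq⟩ : ∃ q, j.base q = y₀ := 𝒰.covers y₀
  let φ : CommRingCat.of K ⟶ R := Spec.preimage (j ≫ pY)
  have hφ : Spec.map φ = j ≫ pY := Spec.map_preimage _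
  have hlft : LocallyOfFiniteType (Spec.map φ) := by rw [hφ]; infer_instance
  have hft : φ.hom.FiniteType := (HasRingHomProperty.Spec_iff (P := @LocallyOfFiniteType)).mp hlft
  let _ : Algebra K R := φ.hom.toAlgebra
  have : Algebra.FiniteType K R := hft
  let q' : PrimeSpectrum R := q
  let p : Ideal R := q'.asIdeal
  have hp : p.IsPrime := q'.isPrime
  obtain ⟨ψ, hψ⟩ := exists_injective_algHom (K := K) (R ⧸ p) Ω t ht
  let g : R →+* Ω := ψ.toRingHom.comp (Ideal.Quotient.mk p)
  have hgker : RingHom.ker g = p := by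
    ext a
    rw [RingHom.mem_ker]
    change ψ (Ideal.Quotient.mk p a) = 0 ↔ _
    rw [map_eq_zero_iff ψ hψ, Ideal.Quotient.eq_zero_iff_mem]
  have hgalg : g.comp φ.hom = algebraMap K Ω := by
    ext c
    change ψ (Ideal.Quotient.mk p (algebraMap K R c)) = _
    have : Ideal.Quotient.mk p (algebraMap K R c) = algebraMap K (R ⧸ p) c := rfl
    rw [this, ψ.commutes]
  refine ⟨Spec.map (CommRingCat.ofHom g) ≫ j, ?_, ?_⟩
  · rw [Category.assoc, ← hφ, ← Spec.map_comp]
    congr 1
    ext c
    exact congrArg (fun h => h c) hgalg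
  · intro a
    rw [← hq]
    change j.base ((Spec.map (CommRingCat.ofHom g)).base a) = _
    congr 1
    apply PrimeSpectrum.ext
    change Ideal.comap g _ = p
    have ha : (a : PrimeSpectrum Ω).asIdeal = ⊥ := by
      have := (a : PrimeSpectrum Ω).isPrime
      exact (Ideal.eq_bot_or_top _).resolve_right this.ne_top
    have : Ideal.comap g (a : PrimeSpectrum Ω).asIdeal = p := by
      rw [ha, ← hgker]; rfl
    exact this

end Groth.Agent.Lib.Seat80.OmegaPts
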