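/-
Seat80 helper library for S12102 (PCoh: `n`-finite presentation of an object `F` iff
`F[0]` is `(-n)`-pseudo-coherent).  Forward direction: truncate the chain complex and apply
S5598 (strictly perfect `n`-isomorphism criterion).  Backward direction: S5617 (vanishing above)
then stupid truncation, restriction to `ℕ`, augmentation by `H^0`.
-/
import Groth.Agent.S5617
import Groth.Agent.S5598

set_option autoImplicit false
universe w v u
open CategoryTheory CategoryTheory.Limits HomologicalComplex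

namespace Groth.Agent.Lib.Seat80.PCohFP

variable {C : Type u} [Category.{v} C] [Abelian C]

lemma truncateTo_f_zero (K : ChainComplex C ℕ) : K.truncateTo.f 0 = K.d 1 0 := by
  unfold ChainComplex.truncateTo
  exact ChainComplex.toSingle₀Equiv_symm_apply_f_zero _ _

/-- `truncateTo` is a quasi-iso at `0` when `K` is exact at `0` and `1`. -/
lemma quasiIsoAt_truncateTo_zero (K : ChainComplex C ℕ) (h0 : K.ExactAt 0) (h1 : K.ExactAt 1) :
    QuasiIsoAt K.truncateTo 0 := by
  rw [ChainComplex.quasiIsoAt₀_iff, ShortComplex.quasiIso_iff_of_zeros']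
  · rw [HomologicalComplex.exactAt_iff' _ 1 0 0 (by simp) (by simp)] at h0
    rw [HomologicalComplex.exactAt_iff' _ 2 1 0 (by simp) (by simp)] at h1
    have hepi : Epi (K.d 1 0) := h0.epi_f (K.shape _ _ (by simp))
    refine (ShortComplex.exact_and_epi_g_iff_of_iso ?_).2 ⟨h1, hepi⟩
    refine ShortComplex.isoMk (Iso.refl _) (Iso.refl _) (Iso.refl _) ?_ ?_
    · erw [Category.id_comp, Category.comp_id]
      rfl
    · erw [Category.id_comp, Category.comp_id]
      exact (truncateTo_f_zero K).symm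
  · exact (ChainComplex.truncate.obj K).shape _ _ (by simp)
  · rfl
  · rfl

/-- `truncateTo` induces an epimorphism on `H_0` when `K` is exact at `0`. -/
lemma epi_homologyMap_truncateTo_zero (K : ChainComplex C ℕ) (h0 : K.ExactAt 0) :
    Epi (homologyMap K.truncateTo 0) := by
  rw [HomologicalComplex.exactAt_iff' _ 1 0 0 (by simp) (by simp)] at h0
  have hepi : Epi (K.d 1 0) := h0.epi_f (K.shape _ _ (by simp))
  have h1 : Epi (cyclesMap K.truncateTo 0) := by
    have e1 : IsIso ((ChainComplex.truncate.obj K).iCycles 0) :=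
      ShortComplex.isIso_iCycles _ ((ChainComplex.truncate.obj K).shape _ _ (by simp))
    have e2 : IsIso (((ChainComplex.single₀ C).obj (K.X 0)).iCycles 0) :=
      ShortComplex.isIso_iCycles _ (((ChainComplex.single₀ C).obj (K.X 0)).shape _ _ (by simp))
    have hc : cyclesMap K.truncateTo 0 ≫ ((ChainComplex.single₀ C).obj (K.X 0)).iCycles 0 =
        (ChainComplex.truncate.obj K).iCycles 0 ≫ K.truncateTo.f 0 := cyclesMap_i _ _
    have : Epi ((ChainComplex.truncate.obj K).iCycles 0 ≫ K.truncateTo.f 0) := by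
      rw [truncateTo_f_zero]
      exact @epi_comp _ _ _ _ _ _ inferInstance _ hepi
    rw [← hc] at this
    have h3 : cyclesMap K.truncateTo 0 =
        (cyclesMap K.truncateTo 0 ≫ ((ChainComplex.single₀ C).obj (K.X 0)).iCycles 0) ≫
          inv (((ChainComplex.single₀ C).obj (K.X 0)).iCycles 0) := by
      rw [Category.assoc, IsIso.hom_inv_id, Category.comp_id]
    rw [h3]
    exact epi_comp _ _
  have h2 : (ChainComplex.truncate.obj K).homologyπ 0 ≫ homologyMap K.truncateTo 0 =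
      cyclesMap K.truncateTo 0 ≫ ((ChainComplex.single₀ C).obj (K.X 0)).homologyπ 0 :=
    homologyπ_naturality _ _
  have : Epi ((ChainComplex.truncate.obj K).homologyπ 0 ≫ homologyMap K.truncateTo 0) := by
    rw [h2]; exact epi_comp _ _
  exact epi_of_epi ((ChainComplex.truncate.obj K).homologyπ 0) _

lemma exactAt_truncate_succ (K : ChainComplex C ℕ) (j : ℕ) (h : K.ExactAt (j + 2)) :
    (ChainComplex.truncate.obj K).ExactAt (j + 1) := by
  rw [exactAt_iff' _ (j + 2) (j + 1) j (by simp) (by simp)]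
  rw [exactAt_iff' _ (j + 3) (j + 2) (j + 1) (by simp) (by simp)] at h
  exact h

lemma quasiIsoAt_truncateTo_succ (K : ChainComplex C ℕ) (j : ℕ) (h : K.ExactAt (j + 2)) :
    QuasiIsoAt K.truncateTo (j + 1) := by
  rw [quasiIsoAt_iff_exactAt']
  · exact exactAt_truncate_succ K j h
  · exact ChainComplex.exactAt_succ_single_obj _ _

/-- the combined statement on `ℕ`-level -/
lemma truncateTo_props (K : ChainComplex C ℕ) (n : ℕ) (hK : ∀ j, j ≤ n → K.ExactAt j) :
    (∀ j, j < n → QuasiIsoAt K.truncateTo j) ∧ Epi (homologyMap K.truncateTo n) := by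
  constructor
  · intro j hj
    rcases j with _ | j
    · exact quasiIsoAt_truncateTo_zero K (hK 0 (by omega)) (hK 1 (by omega))
    · exact quasiIsoAt_truncateTo_succ K j (hK _ (by omega))
  · rcases n with _ | n
    · exact epi_homologyMap_truncateTo_zero K (hK 0 le_rfl)
    · have hz : IsZero (((ChainComplex.single₀ C).obj (K.X 0)).homology (n + 1)) := by
        rw [← exactAt_iff_isZero_homology]
        exact ChainComplex.exactAt_succ_single_obj _ _
      exact ⟨fun g h _ => hz.eq_of_src _ _⟩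



section Zlevel

open ComplexShape

/-- the cochain complex on `ℤ` associated to the truncation of `K` -/
noncomputable abbrev Ecx (K : ChainComplex C ℕ) : CochainComplex C ℤ :=
  (ChainComplex.truncate.obj K).extend embeddingDownNat

lemma embeddingDownNat_f (j : ℕ) : embeddingDownNat.f j = -(j : ℤ) := rfl

/-- the comparison map to the single complex -/
noncomputable def isoS (K : ChainComplex C ℕ) (F : C) (i : K.X 0 ≅ F) :
    ((ChainComplex.single₀ C).obj (K.X 0)).extend embeddingDownNat ≅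
      (CochainComplex.singleFunctor C 0).obj F :=
  extendSingleIso embeddingDownNat (K.X 0) 0 0 (by simp) ≪≫
    (CochainComplex.singleFunctor C 0).mapIso i

noncomputable def psi (K : ChainComplex C ℕ) (F : C) (i : K.X 0 ≅ F) :
    Ecx K ⟶ (CochainComplex.singleFunctor C 0).obj F :=
  extendMap K.truncateTo embeddingDownNat ≫ (isoS K F i).hom

lemma quasiIsoAt_extendMap_of_pos {K L : ChainComplex C ℕ} (φ : K ⟶ L) (i : ℤ) (hi : 0 < i) :
    QuasiIsoAt (extendMap φ embeddingDownNat) i := by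
  rw [quasiIsoAt_iff_exactAt']
  · exact extend_exactAt _ _ _ (fun j => by rw [embeddingDownNat_f]; omega)
  · exact extend_exactAt _ _ _ (fun j => by rw [embeddingDownNat_f]; omega)

lemma psi_props (K : ChainComplex C ℕ) (F : C) (i : K.X 0 ≅ F) (n : ℕ)
    (hK : ∀ j, j ≤ n → K.ExactAt j) :
    (∀ k : ℤ, -(n : ℤ) < k → IsIso (homologyMap (psi K F i) k)) ∧
      Epi (homologyMap (psi K F i) (-(n : ℤ))) := by
  obtain ⟨h1, h2⟩ := truncateTo_props K n hK
  constructor
  · intro k hk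
    unfold psi
    rw [homologyMap_comp]
    have : IsIso (homologyMap (extendMap K.truncateTo embeddingDownNat) k) := by
      rw [← quasiIsoAt_iff_isIso_homologyMap]
      by_cases hk0 : 0 < k
      · exact quasiIsoAt_extendMap_of_pos _ k hk0
      · obtain ⟨j, rfl⟩ : ∃ j : ℕ, k = -(j : ℤ) := ⟨(-k).toNat, by omega⟩
        rw [quasiIsoAt_extendMap_iff _ _ (embeddingDownNat_f j)]
        exact h1 j (by omega)
    infer_instance
  · unfold psi
    rw [homologyMap_comp]
    have : Epi (homologyMap (extendMap K.truncateTo embeddingDownNat) (-(n : ℤ))) := by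
      have hnat := extendHomologyIso_hom_naturality K.truncateTo embeddingDownNat
        (embeddingDownNat_f n)
      have : homologyMap (extendMap K.truncateTo embeddingDownNat) (-(n : ℤ)) =
          ((ChainComplex.truncate.obj K).extendHomologyIso embeddingDownNat
            (embeddingDownNat_f n)).hom ≫ homologyMap K.truncateTo n ≫
            (((ChainComplex.single₀ C).obj (K.X 0)).extendHomologyIso embeddingDownNat
              (embeddingDownNat_f n)).inv := by
        rw [← Category.assoc, ← hnat, Category.assoc, Iso.hom_inv_id, Category.comp_id]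
      rw [this]
      infer_instance
    infer_instance

end Zlevel



section Forward

open ComplexShape DerivedCategory

variable [HasDerivedCategory.{w} C]

lemma isZero_Ecx_X_of_pos (K : ChainComplex C ℕ) (k : ℤ) (hk : 0 < k) : IsZero ((Ecx K).X k) :=
  isZero_extend_X _ _ _ (fun j => by rw [embeddingDownNat_f]; omega)

noncomputable def EcxXIso (K : ChainComplex C ℕ) (j : ℕ) : (Ecx K).X (-(j : ℤ)) ≅ K.X (j + 1) :=
  (ChainComplex.truncate.obj K).extendXIso embeddingDownNat (embeddingDownNat_f j)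

theorem forward (P : ObjectProperty C) [P.IsClosedUnderIsomorphisms] [P.ContainsZero]
    (hsum : ∀ X Y : C, P X → P Y → P (X ⨯ Y))
    (hqs : PCoh.IsQuasiStableUnderKernels P) (hql : PCoh.IsQuasiLiftable P)
    (F : C) (n : ℕ) (K : ChainComplex C ℕ) (i : K.X 0 ≅ F) (hK : ∀ j : ℕ, j ≤ n → K.ExactAt j)
    (hz : ∀ j : ℕ, n + 1 < j → IsZero (K.X j)) (hP : ∀ j : ℕ, 1 ≤ j → j ≤ n + 1 → P (K.X j)) :
    ∃ E : CochainComplex C ℤ, PCoh.IsStrictPC P (-(n : ℤ)) E ∧
      Nonempty (DerivedCategory.Q.obj E ≅ (DerivedCategory.singleFunctor C 0).obj F) := by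
  obtain ⟨h1, h2⟩ := psi_props K F i n hK
  refine (Groth.Agent.S5598.result P hsum hqs hql (-(n : ℤ)) _).2
    ⟨Ecx K, -(n : ℤ), 0, (Q.map (psi K F i) : Q.obj (Ecx K) ⟶ (singleFunctor C 0).obj F),
      ?_, ?_, ?_, ?_⟩
  · rintro k (hk | hk)
    · obtain ⟨j, rfl⟩ : ∃ j : ℕ, k = -(j : ℤ) := ⟨(-k).toNat, by omega⟩
      exact (hz (j + 1) (by omega)).of_iso (EcxXIso K j)
    · exact isZero_Ecx_X_of_pos K k hk
  · intro k
    by_cases hk0 : 0 < k
    · exact P.prop_of_isZero (isZero_Ecx_X_of_pos K k hk0)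
    · obtain ⟨j, rfl⟩ : ∃ j : ℕ, k = -(j : ℤ) := ⟨(-k).toNat, by omega⟩
      by_cases hj : j ≤ n
      · exact P.prop_of_iso (EcxXIso K j).symm (hP (j + 1) (by omega) (by omega))
      · exact P.prop_of_isZero ((hz (j + 1) (by omega)).of_iso (EcxXIso K j))
  · intro k hk
    have := h1 k hk
    exact (NatIso.isIso_map_iff (homologyFunctorFactors C k) (psi K F i)).2 this
  · let e1 := (homologyFunctorFactors C (-(n : ℤ))).app (Ecx K)
    let e2 := (homologyFunctorFactors C (-(n : ℤ))).app ((CochainComplex.singleFunctor C 0).obj F)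
    have hnat : (homologyFunctor C (-(n : ℤ))).map (Q.map (psi K F i)) ≫ e2.hom =
        e1.hom ≫ homologyMap (psi K F i) (-(n : ℤ)) :=
      homologyFunctorFactors_hom_naturality (psi K F i) (-(n : ℤ))
    have h3 : (homologyFunctor C (-(n : ℤ))).map (Q.map (psi K F i)) =
        (e1.hom ≫ homologyMap (psi K F i) (-(n : ℤ))) ≫ e2.inv := (Iso.eq_comp_inv e2).2 hnat
    have h4 : Epi (e1.hom ≫ homologyMap (psi K F i) (-(n : ℤ))) :=
      @epi_comp _ _ _ _ _ e1.hom inferInstance _ h2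
    have h5 : Epi ((e1.hom ≫ homologyMap (psi K F i) (-(n : ℤ))) ≫ e2.inv) :=
      @epi_comp _ _ _ _ _ _ h4 e2.inv (@IsIso.epi_of_iso _ _ _ _ e2.inv (Iso.isIso_inv e2))
    change Epi ((homologyFunctor C (-(n : ℤ))).map (Q.map (psi K F i)))
    rw [h3]
    exact h5

end Forward


section Backward

open ComplexShape

lemma stupidTrunc_d_comp {ι ι' : Type*} {c : ComplexShape ι} {c' : ComplexShape ι'}
    (E : HomologicalComplex C c') (e : c.Embedding c') [e.IsRelIff] {i j : ι} {i' j' : ι'}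
    (hi : e.f i = i') (hj : e.f j = j') :
    (E.stupidTrunc e).d i' j' ≫ (E.stupidTruncXIso e hj).hom =
      (E.stupidTruncXIso e hi).hom ≫ E.d i' j' := by
  subst hi hj
  simp [stupidTrunc, stupidTruncXIso, extend_d_eq _ e rfl rfl, restriction]
  try exact (Category.comp_id _).trans (Category.id_comp _).symm

variable (E : CochainComplex C ℤ) (n : ℕ)

/-- the truncated complex -/
noncomputable abbrev Etr : CochainComplex C ℤ := E.stupidTrunc (embeddingUpIntGE (-(n : ℤ)))

/-- the associated chain complex on `ℕ` -/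
noncomputable abbrev K1 : ChainComplex C ℕ := (Etr E n).restriction embeddingDownNat

lemma embeddingUpIntGE_f (p : ℤ) (k : ℕ) : (embeddingUpIntGE p).f k = p + k := rfl

lemma upGE_f_sub (j : ℕ) (hj : j ≤ n) :
    (embeddingUpIntGE (-(n : ℤ))).f (n - j) = -(j : ℤ) := by
  rw [embeddingUpIntGE_f, Nat.cast_sub hj]; ring

noncomputable def K1XIso (j : ℕ) (hj : j ≤ n) : (K1 E n).X j ≅ E.X (-(j : ℤ)) :=
  (Etr E n).restrictionXIso embeddingDownNat (embeddingDownNat_f j) ≪≫
    E.stupidTruncXIso (embeddingUpIntGE (-(n : ℤ))) (upGE_f_sub n j hj)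

lemma isZero_K1_X (j : ℕ) (hj : n < j) : IsZero ((K1 E n).X j) :=
  (isZero_stupidTrunc_X E _ (-(j : ℤ)) (fun k => by rw [embeddingUpIntGE_f]; omega)).of_iso
    ((Etr E n).restrictionXIso embeddingDownNat (embeddingDownNat_f j))

lemma K1_d_comp (a b : ℕ) (ha : a ≤ n) (hb : b ≤ n) :
    (K1 E n).d a b ≫ (K1XIso E n b hb).hom = (K1XIso E n a ha).hom ≫ E.d (-(a : ℤ)) (-(b : ℤ)) := by
  unfold K1XIso
  rw [restriction_d_eq _ _ (embeddingDownNat_f a) (embeddingDownNat_f b)]
  simp only [Iso.trans_hom, Category.assoc, Iso.inv_hom_id_assoc]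
  rw [stupidTrunc_d_comp E _ (upGE_f_sub n a ha) (upGE_f_sub n b hb)]

noncomputable def K1Sc'Iso (a b c : ℕ) (ha : a ≤ n) (hb : b ≤ n) (hc : c ≤ n) :
    (K1 E n).sc' a b c ≅ E.sc' (-(a : ℤ)) (-(b : ℤ)) (-(c : ℤ)) :=
  ShortComplex.isoMk (K1XIso E n a ha) (K1XIso E n b hb) (K1XIso E n c hc)
    (K1_d_comp E n a b ha hb).symm (K1_d_comp E n b c hb hc).symm

section Q

variable (hE1 : IsZero (E.X 1))

/-- `E.X 0` is the object of cycles when `E.X 1 = 0` -/
noncomputable def isoZ : E.X 0 ≅ E.cycles 0 where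
  hom := E.liftCycles (𝟙 _) 1 (by simp) (hE1.eq_of_tgt _ _)
  inv := E.iCycles 0
  hom_inv_id := by simp
  inv_hom_id := by
    rw [← cancel_mono (E.iCycles 0)]
    simp

/-- the projection `E.X 0 ⟶ H^0(E)` -/
noncomputable def qmap : E.X 0 ⟶ E.homology 0 := (isoZ E hE1).hom ≫ E.homologyπ 0

instance : Epi (qmap E hE1) := by unfold qmap; infer_instance

lemma d_isoZ_hom : E.d (-1) 0 ≫ (isoZ E hE1).hom = E.toCycles (-1) 0 := by
  rw [← cancel_mono (E.iCycles 0)]
  simp [isoZ]

lemma d_qmap : E.d (-1) 0 ≫ qmap E hE1 = 0 := by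
  unfold qmap
  rw [← Category.assoc, d_isoZ_hom]
  simp

lemma exact_d_qmap : (ShortComplex.mk (E.d (-1) 0) (qmap E hE1) (d_qmap E hE1)).Exact := by
  have h : (ShortComplex.mk (E.toCycles (-1) 0) (E.homologyπ 0) (by simp)).Exact :=
    ShortComplex.exact_of_g_is_cokernel _ (E.homologyIsCokernel (-1) 0 (by simp))
  refine (ShortComplex.exact_iff_of_iso ?_).2 h
  refine ShortComplex.isoMk (Iso.refl _) (isoZ E hE1) (Iso.refl _) ?_ ?_
  · simp [d_isoZ_hom]
  · simp [qmap]

end Q

noncomputable def K1XIso' (j : ℕ) (hj : j ≤ n) {i : ℤ} (hi : -(j : ℤ) = i) :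
    (K1 E n).X j ≅ E.X i :=
  K1XIso E n j hj ≪≫ E.XIsoOfEq hi

lemma K1_d_comp' (a b : ℕ) (ha : a ≤ n) (hb : b ≤ n) {i₁ i₂ : ℤ} (h₁ : -(a : ℤ) = i₁)
    (h₂ : -(b : ℤ) = i₂) :
    (K1 E n).d a b ≫ (K1XIso' E n b hb h₂).hom = (K1XIso' E n a ha h₁).hom ≫ E.d i₁ i₂ := by
  subst h₁ h₂
  simp only [K1XIso', Iso.trans_hom, XIsoOfEq_rfl, Iso.refl_hom, Category.comp_id]
  exact K1_d_comp E n a b ha hb

section KK

variable (hE1 : IsZero (E.X 1)) (F : C) (φ : E.homology 0 ≅ F)

noncomputable def fmap : (K1 E n).X 0 ⟶ F :=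
  (K1XIso' E n 0 (Nat.zero_le _) (by simp)).hom ≫ qmap E hE1 ≫ φ.hom

instance : Epi (fmap E n hE1 F φ) := by unfold fmap; infer_instance

lemma d_fmap : (K1 E n).d 1 0 ≫ fmap E n hE1 F φ = 0 := by
  by_cases hn : 1 ≤ n
  · unfold fmap
    rw [← Category.assoc, K1_d_comp' E n 1 0 hn (Nat.zero_le _) (by simp : -((1 : ℕ) : ℤ) = -1),
      Category.assoc, ← Category.assoc (E.d _ _), d_qmap, zero_comp, comp_zero]
  · exact (isZero_K1_X E n 1 (by omega)).eq_of_src _ _

/-- the augmented chain complex -/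
noncomputable def KK : ChainComplex C ℕ :=
  ChainComplex.augment (K1 E n) (fmap E n hE1 F φ) (d_fmap E n hE1 F φ)

lemma KK_exactAt_zero : (KK E n hE1 F φ).ExactAt 0 := by
  rw [exactAt_iff' _ 1 0 0 (by simp) (by simp)]
  rw [ShortComplex.exact_iff_epi _ ((KK E n hE1 F φ).shape 0 0 (by simp))]
  change Epi (fmap E n hE1 F φ)
  infer_instance

lemma KK_exactAt_one (hn : 1 ≤ n) : (KK E n hE1 F φ).ExactAt 1 := by
  rw [exactAt_iff' _ 2 1 0 (by simp) (by simp)]
  refine (ShortComplex.exact_iff_of_iso ?_).2 (exact_d_qmap E hE1)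
  refine ShortComplex.isoMk
    (K1XIso' E n 1 hn (by simp : -((1 : ℕ) : ℤ) = -1))
    (K1XIso' E n 0 (Nat.zero_le _) (by simp : -((0 : ℕ) : ℤ) = 0)) φ.symm ?_ ?_
  · change _ ≫ E.d (-1) 0 = (K1 E n).d 1 0 ≫ _
    exact (K1_d_comp' E n 1 0 hn (Nat.zero_le _) _ _).symm
  · change _ ≫ qmap E hE1 = fmap E n hE1 F φ ≫ φ.inv
    rw [fmap]
    simp

lemma KK_exactAt_succ (j : ℕ) (hj : j + 2 ≤ n) (hex : E.ExactAt (-((j + 1 : ℕ) : ℤ))) :
    (KK E n hE1 F φ).ExactAt (j + 2) := by
  rw [exactAt_iff' _ (j + 3) (j + 2) (j + 1) (by simp) (by simp)]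
  rw [exactAt_iff' _ (-((j + 2 : ℕ) : ℤ)) _ (-(j : ℤ)) (by simp; ring) (by simp)] at hex
  change ((K1 E n).sc' (j + 2) (j + 1) j).Exact
  exact (ShortComplex.exact_iff_of_iso
    (K1Sc'Iso E n (j + 2) (j + 1) j hj (by omega) (by omega))).2 hex

end KK

theorem backward_chain (P : ObjectProperty C) [P.IsClosedUnderIsomorphisms]
    (F : C) (φ : E.homology 0 ≅ F) (hE1 : IsZero (E.X 1))
    (hex : ∀ k : ℤ, -(n : ℤ) < k → k < 0 → E.ExactAt k)
    (hP : ∀ i : ℤ, -(n : ℤ) ≤ i → P (E.X i)) :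
    ∃ K : ChainComplex C ℕ, Nonempty (K.X 0 ≅ F) ∧ (∀ j : ℕ, j ≤ n → K.ExactAt j) ∧
      (∀ j : ℕ, n + 1 < j → IsZero (K.X j)) ∧ (∀ j : ℕ, 1 ≤ j → j ≤ n + 1 → P (K.X j)) := by
  refine ⟨KK E n hE1 F φ, ⟨Iso.refl _⟩, ?_, ?_, ?_⟩
  · intro j hj
    rcases j with _ | _ | j
    · exact KK_exactAt_zero E n hE1 F φ
    · exact KK_exactAt_one E n hE1 F φ hj
    · exact KK_exactAt_succ E n hE1 F φ j hj (hex _ (by push_cast; omega) (by push_cast; omega))
  · intro j hj
    obtain ⟨j', rfl⟩ : ∃ j', j = j' + 1 := ⟨j - 1, by omega⟩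
    exact isZero_K1_X E n j' (by omega)
  · intro j h1 h2
    obtain ⟨j', rfl⟩ : ∃ j', j = j' + 1 := ⟨j - 1, by omega⟩
    exact P.prop_of_iso (K1XIso E n j' (by omega)).symm (hP _ (by omega))

end Backward

section BackwardD

open DerivedCategory

variable [HasDerivedCategory.{w} C]

theorem backward (P : ObjectProperty C) [P.IsClosedUnderIsomorphisms] [P.ContainsZero]
    (hsum : ∀ X Y : C, P X → P Y → P (X ⨯ Y))
    (hqs : PCoh.IsQuasiStableUnderKernels P) (hql : PCoh.IsQuasiLiftable P)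
    (F : C) (n : ℕ)
    (h : ∃ E : CochainComplex C ℤ, PCoh.IsStrictPC P (-(n : ℤ)) E ∧
      Nonempty (DerivedCategory.Q.obj E ≅ (DerivedCategory.singleFunctor C 0).obj F)) :
    ∃ K : ChainComplex C ℕ, Nonempty (K.X 0 ≅ F) ∧ (∀ j : ℕ, j ≤ n → K.ExactAt j) ∧
      (∀ j : ℕ, n + 1 < j → IsZero (K.X j)) ∧ (∀ j : ℕ, 1 ≤ j → j ≤ n + 1 → P (K.X j)) := by
  obtain ⟨E, ⟨hb, hPE⟩, hz, ⟨θ⟩⟩ := Groth.Agent.S5617.result P hsum hqs hql (-(n : ℤ)) 1
    (by omega) _ h (fun i hi => isZero_of_isLE _ 0 i (by omega))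
  have hiso : ∀ k : ℤ, E.homology k ≅ ((CochainComplex.singleFunctor C 0).obj F).homology k :=
    fun k => ((homologyFunctorFactors C k).app E).symm ≪≫ (homologyFunctor C k).mapIso θ ≪≫
      (homologyFunctorFactors C k).app ((CochainComplex.singleFunctor C 0).obj F)
  refine backward_chain E n P F (hiso 0 ≪≫ singleObjHomologySelfIso _ 0 F) (hz 1 le_rfl) ?_
    (fun i hi => hPE i hi)
  intro k hk1 hk2
  rw [exactAt_iff_isZero_homology]
  refine IsZero.of_iso ?_ (hiso k)
  rw [← exactAt_iff_isZero_homology]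
  exact exactAt_single_obj _ _ _ _ (by omega)

end BackwardD

end Groth.Agent.Lib.Seat80.PCohFP
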