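/-
Seat80: in a semi-local Noetherian ring, an ideal `a` of height `h > 0` contains `h` elements of the
Jacobson radical that are part of a system of parameters and modulo which `a` has height `0`.
Proof: iterated prime avoidance with the invariant `Good J B i` (every minimal prime of `J` contains
`B` or has height at least `i`), first with `B = a ⊓ rad`, then with `B = rad`.
-/
import Mathlib
set_option autoImplicit false
universe u

namespace Groth.Agent.Lib.Seat80.ParamsInIdeal
variable {A : Type u} [CommRing A] [IsNoetherianRing A]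

/-- Every minimal prime of `J` contains `B` or has height at least `i`. -/
def Good (J B : Ideal A) (i : ℕ) : Prop :=
  ∀ q ∈ J.minimalPrimes, B ≤ q ∨ (i : ℕ∞) ≤ q.height

theorem good_step (J B : Ideal A) (i : ℕ) (h : Good J B i) :
    ∃ x ∈ B, Good (J ⊔ Ideal.span {x}) B (i + 1) := by
  classical
  let S := {q | q ∈ J.minimalPrimes ∧ ¬ B ≤ q}
  have hS : S.Finite := J.finite_minimalPrimes_of_isNoetherianRing.subset (fun _ h => h.1)
  have hnot : ¬ (B : Set A) ⊆ ⋃ q ∈ hS.toFinset, (q : Set A) := by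
    refine (Ideal.subset_union_prime ⊥ ⊥ ?_).not.mpr ?_
    · rintro K hK - -
      rw [Set.Finite.mem_toFinset] at hK
      exact hK.1.isPrime
    · push Not
      intro K hK
      rw [Set.Finite.mem_toFinset] at hK
      exact hK.2
  simp_rw [Set.not_subset, Set.mem_iUnion, not_exists, Set.Finite.mem_toFinset] at hnot
  obtain ⟨x, hxB, hx⟩ := hnot
  refine ⟨x, hxB, fun p hp => ?_⟩
  by_cases hBp : B ≤ p
  · exact Or.inl hBp
  right
  have hpprime := hp.isPrime
  obtain ⟨q, hq, hqp⟩ := Ideal.exists_minimalPrimes_le (le_sup_left.trans hp.1.2 : J ≤ p)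
  have hqB : ¬ B ≤ q := fun h' => hBp (h'.trans hqp)
  have hxq : x ∉ q := fun hxq => hx q ⟨hq, hqB⟩ hxq
  have hxp : x ∈ p := hp.1.2 (Ideal.mem_sup_right (Ideal.mem_span_singleton_self x))
  have hlt : q < p := lt_of_le_of_ne hqp (fun e => hxq (e ▸ hxp))
  have hqi : (i : ℕ∞) ≤ q.height := (h q hq).resolve_left hqB
  have := hq.isPrime
  calc ((i + 1 : ℕ) : ℕ∞) = (i : ℕ∞) + 1 := by push_cast; rfl
    _ ≤ q.height + 1 := by gcongr
    _ ≤ p.height := Ideal.height_add_one_le_of_lt_of_isPrime hlt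

theorem good_iterate (B : Ideal A) : ∀ (m : ℕ) (J : Ideal A) (i : ℕ), Good J B i →
    ∃ ys : List A, ys.length = m ∧ (∀ y ∈ ys, y ∈ B) ∧ Good (J ⊔ Ideal.ofList ys) B (i + m) := by
  intro m
  induction m with
  | zero =>
    intro J i h
    refine ⟨[], rfl, by simp, ?_⟩
    simpa using h
  | succ m ih =>
    intro J i h
    obtain ⟨ys, hlen, hys, hgood⟩ := ih J i h
    obtain ⟨x, hxB, hx⟩ := good_step _ B _ hgood
    refine ⟨x :: ys, by simp [hlen], ?_, ?_⟩
    · intro y hy
      rcases List.mem_cons.mp hy with rfl | hy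
      · exact hxB
      · exact hys y hy
    · have : J ⊔ Ideal.ofList (x :: ys) = J ⊔ Ideal.ofList ys ⊔ Ideal.span {x} := by
        rw [Ideal.ofList_cons, sup_comm (Ideal.span {x}), sup_assoc]
      rw [this, ← add_assoc]
      exact hx

/-- A semi-local Noetherian ring has finite Krull dimension. -/
theorem exists_dim_eq [Finite (MaximalSpectrum A)] [Nontrivial A] : ∃ d : ℕ, ringKrullDim A = d := by
  have hfin : ∀ m : MaximalSpectrum A, m.asIdeal.height ≠ ⊤ := fun m =>
    Ideal.height_ne_top m.isMaximal.ne_top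
  obtain ⟨N, hN⟩ := Finite.exists_le (fun m : MaximalSpectrum A => m.asIdeal.height.toNat)
  have hle : (⨆ (I : Ideal A) (_ : I.IsMaximal), I.height) ≤ (N : ℕ∞) := by
    refine iSup₂_le (fun I hI => ?_)
    have := hN ⟨I, hI⟩
    rw [← ENat.natCast_toNat (hfin ⟨I, hI⟩)]
    exact_mod_cast this
  have hne : (⨆ (I : Ideal A) (_ : I.IsMaximal), I.height) ≠ ⊤ :=
    ne_top_of_le_ne_top (ENat.natCast_ne_top N) hle
  refine ⟨(⨆ (I : Ideal A) (_ : I.IsMaximal), I.height).toNat, ?_⟩
  rw [← Ideal.sup_isMaximal_height_eq_ringKrullDim]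
  exact congrArg _ (ENat.natCast_toNat hne).symm

omit [IsNoetherianRing A] in
theorem isMaximal_of_jacobson_le [Finite (MaximalSpectrum A)] (q : Ideal A) [hq : q.IsPrime]
    (h : Ring.jacobson A ≤ q) : q.IsMaximal := by
  classical
  have : Fintype (MaximalSpectrum A) := Fintype.ofFinite _
  have h1 : (Finset.univ.inf fun m : MaximalSpectrum A => m.asIdeal) ≤ Ring.jacobson A := by
    rw [Ring.jacobson_eq_sInf_isMaximal]
    refine le_sInf (fun I hI => ?_)
    exact Finset.inf_le (f := fun m : MaximalSpectrum A => m.asIdeal) (Finset.mem_univ ⟨I, hI⟩)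
  obtain ⟨m, -, hm⟩ := (Ideal.IsPrime.inf_le' hq).mp (h1.trans h)
  rw [← m.isMaximal.eq_of_le hq.ne_top hm]
  exact m.isMaximal

theorem isFiniteLength_quotient (J : Ideal A) (h : ∀ q ∈ J.minimalPrimes, q.IsMaximal) :
    IsFiniteLength A (A ⧸ J) := by
  have hdim : Ring.KrullDimLE 0 (A ⧸ J) := by
    rw [Ring.krullDimLE_zero_iff_forall_minimalPrimes_isMaximal]
    intro P hP
    have hPprime := hP.isPrime
    have hcomap : P.comap (Ideal.Quotient.mk J) ∈ J.minimalPrimes := by
      rw [Ideal.minimalPrimes_eq_comap]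
      exact ⟨P, hP, rfl⟩
    have hmax := h _ hcomap
    have := Ideal.map_eq_top_or_isMaximal_of_surjective (Ideal.Quotient.mk J)
      Ideal.Quotient.mk_surjective hmax
    rw [Ideal.map_comap_of_surjective _ Ideal.Quotient.mk_surjective] at this
    exact this.resolve_left hPprime.ne_top
  have hart : IsArtinianRing (A ⧸ J) := isArtinianRing_iff_krullDimLE_zero.mpr hdim
  rw [isFiniteLength_iff_isNoetherian_isArtinian]
  exact ⟨inferInstance, isArtinian_of_surjective_algebraMap (R := A ⧸ J) (M := A ⧸ J)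
    (Ideal.Quotient.mk_surjective (I := J))⟩


theorem main (A : Type u) [CommRing A] [IsNoetherianRing A]
    [Finite (MaximalSpectrum A)] (a : Ideal A) (ha : a ≠ ⊤) (h : ℕ) (hh : a.height = h) (_hpos : 0 < h) :
    ∃ x : Fin h → A, (∀ i, x i ∈ a) ∧ (∀ i, x i ∈ Ring.jacobson A) ∧
      (∃ ys : List A, (∀ y ∈ ys, y ∈ Ring.jacobson A) ∧
        (((h + ys.length : ℕ) : ℕ∞) : WithBot ℕ∞) = ringKrullDim A ∧
        IsFiniteLength A (A ⧸ (Ideal.span (Set.range x) ⊔ Ideal.ofList ys))) ∧
      (a.map (Ideal.Quotient.mk (Ideal.span (Set.range x)))).height = 0 := by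
  have hnt : Nontrivial A := by
    by_contra hcon
    rw [not_nontrivial_iff_subsingleton] at hcon
    exact ha (Subsingleton.elim _ _)
  obtain ⟨d, hd⟩ := exists_dim_eq (A := A)
  have hfinA : FiniteRingKrullDim A := by
    rw [finiteRingKrullDim_iff_ne_bot_and_top, hd]
    refine ⟨?_, ?_⟩
    · have : ((d : ℕ∞) : WithBot ℕ∞) ≠ ⊥ := WithBot.coe_ne_bot
      exact_mod_cast this
    · intro h
      exact ENat.natCast_ne_top d (WithBot.coe_injective (by exact h))
  have hhd : h ≤ d := by
    have := Ideal.height_le_ringKrullDim_of_ne_top ha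
    rw [hh, hd] at this
    exact_mod_cast this
  -- stage 1
  have h0 : Good (⊥ : Ideal A) (a ⊓ Ring.jacobson A) 0 := fun q _ => Or.inr (by simp)
  obtain ⟨xs, hxlen, hxs, hx1⟩ := good_iterate (a ⊓ Ring.jacobson A) h ⊥ 0 h0
  rw [bot_sup_eq, zero_add] at hx1
  -- transition
  have hx2 : Good (Ideal.ofList xs) (Ring.jacobson A) h := by
    intro q hq
    have hqprime := hq.isPrime
    rcases hx1 q hq with h1 | h1
    · rcases (Ideal.IsPrime.inf_le hqprime).mp h1 with h2 | h2
      · right; rw [← hh]; exact Ideal.height_mono h2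
      · left; exact h2
    · right; exact h1
  -- stage 2
  obtain ⟨ys, hylen, hys, hy⟩ := good_iterate (Ring.jacobson A) (d - h) (Ideal.ofList xs) h hx2
  rw [Nat.add_sub_cancel' hhd] at hy
  let x : Fin h → A := fun i => xs.get (Fin.cast hxlen.symm i)
  have hrange : Set.range x = {y | y ∈ xs} := by
    ext y
    constructor
    · rintro ⟨i, rfl⟩
      exact List.get_mem _ _
    · intro hy
      obtain ⟨i, rfl⟩ := List.get_of_mem hy
      exact ⟨Fin.cast hxlen i, by simp [x]⟩
  have hspan : Ideal.span (Set.range x) = Ideal.ofList xs := by rw [hrange]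
  refine ⟨x, fun i => (hxs _ (List.get_mem _ _)).1, fun i => (hxs _ (List.get_mem _ _)).2,
    ⟨ys, hys, ?_, ?_⟩, ?_⟩
  · rw [hylen, Nat.add_sub_cancel' hhd, hd]
    norm_cast
  · rw [hspan]
    apply isFiniteLength_quotient
    intro q hq
    have hqprime := hq.isPrime
    rcases hy q hq with h1 | h1
    · exact isMaximal_of_jacobson_le q h1
    · apply Ideal.isMaximal_of_height_eq_ringKrullDim
      apply le_antisymm Ideal.height_le_ringKrullDim_of_isPrime
      rw [hd]
      exact_mod_cast h1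
  · rw [hspan]
    obtain ⟨p, hp, hap, hph⟩ := Ideal.exists_isPrime_height_eq hh
    have hJp : Ideal.ofList xs ≤ p := (Ideal.span_le.mpr (fun y hy => (hxs y hy).1)).trans hap
    obtain ⟨q, hq, hqp⟩ := Ideal.exists_minimalPrimes_le hJp
    have hqprime := hq.isPrime
    have hqeq : q = p := by
      have hcase : (h : ℕ∞) ≤ q.height → q = p := fun h1 =>
        Ideal.eq_of_le_of_height_le q hqp (hph ▸ h1)
      rcases hx1 q hq with h1 | h1
      · rcases (Ideal.IsPrime.inf_le hqprime).mp h1 with h2 | h2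
        · exact hcase (hh ▸ Ideal.height_mono h2)
        · exact (isMaximal_of_jacobson_le q h2).eq_of_le hp.ne_top hqp
      · exact hcase h1
    rw [hqeq, Ideal.minimalPrimes_eq_comap] at hq
    obtain ⟨P, hP, hPq⟩ := hq
    have hPprime := hP.isPrime
    have hle : a.map (Ideal.Quotient.mk (Ideal.ofList xs)) ≤ P :=
      Ideal.map_le_iff_le_comap.mpr (hPq ▸ hap)
    have h0 : P.height = 0 := Ideal.height_eq_zero_iff.mpr hP
    exact le_antisymm (h0 ▸ Ideal.height_mono hle) zero_le

end Groth.Agent.Lib.Seat80.ParamsInIdeal
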