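import Mathlib
import Groth.Agent.Lib.Seat63DTenExact
import Groth.Agent.Lib.Seat63DTenUnitShift
import Groth.Agent.Lib.Helper1DT5
import Groth.Agent.S13576

set_option autoImplicit false
set_option linter.unusedSectionVars false
universe u v₁ v₂ u₁ u₂
open CategoryTheory CategoryTheory.Limits MonoidalCategory HomologicalComplex Pretriangulated
attribute [local instance] HasDerivedCategory.standard

/-!
# Contravariant weak exactness and scalar linearity of the derived tensor product (helper80)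

`CWE F`: `Hom(F -, Z)` is exact at the middle term of every distinguished triangle; `SL F`:
`F (f • 𝟙) = f • 𝟙`.  Both hold for `E ⊗^L -` and `- ⊗^L E` on `D(A)` (`cwe_obj`, `sl_obj`,
`cwe_flip_obj`, `sl_flip_obj`), using only `HasLTen A`.
-/

namespace Groth.Agent.Lib.Seat80.ProA

section abstract

variable {C : Type u₁} [Category.{v₁} C] [HasZeroObject C] [HasShift C ℤ] [Preadditive C]
  [∀ n : ℤ, (shiftFunctor C n).Additive] [Pretriangulated C]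
variable {E : Type u₂} [Category.{v₂} E] [Preadditive E]

/-- contravariant weak exactness: `Hom(F -, Z)` is exact at the middle term of every distinguished
triangle -/
def CWE (F : C ⥤ E) : Prop :=
  ∀ T ∈ distTriang C, ∀ (Z : E) (φ : F.obj T.obj₂ ⟶ Z), F.map T.mor₁ ≫ φ = 0 →
    ∃ ψ : F.obj T.obj₃ ⟶ Z, F.map T.mor₂ ≫ ψ = φ

/-- it suffices to check exactness at the third vertex of every distinguished triangle -/
lemma CWE.of_obj₃ (F : C ⥤ E)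
    (h : ∀ T ∈ distTriang C, ∀ (Z : E) (φ : F.obj T.obj₃ ⟶ Z), F.map T.mor₂ ≫ φ = 0 →
      ∃ ψ : F.obj (T.obj₁⟦(1 : ℤ)⟧) ⟶ Z, F.map T.mor₃ ≫ ψ = φ) : CWE F := by
  intro T hT Z φ hφ
  have hT' := inv_rot_of_distTriang T hT
  obtain ⟨ψ, hψ⟩ : ∃ ψ : F.obj ((T.obj₃⟦(-1 : ℤ)⟧)⟦(1 : ℤ)⟧) ⟶ Z,
      F.map (T.mor₂ ≫ (shiftEquiv C (1 : ℤ)).counitIso.inv.app T.obj₃) ≫ ψ = φ :=
    h T.invRotate hT' Z φ hφ
  obtain ⟨κ, hκ⟩ : ∃ κ : T.obj₃ ⟶ (T.obj₃⟦(-1 : ℤ)⟧)⟦(1 : ℤ)⟧,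
      κ = (shiftEquiv C (1 : ℤ)).counitIso.inv.app T.obj₃ := ⟨_, rfl⟩
  rw [← hκ] at hψ
  refine ⟨F.map κ ≫ ψ, ?_⟩
  rw [← Category.assoc, ← Functor.map_comp]
  exact hψ

omit [HasZeroObject C] [∀ (n : ℤ), (shiftFunctor C n).Additive] [Pretriangulated C] in
/-- exactness at the third vertex is invariant under isomorphisms of triangles -/
lemma cexact₃_of_iso {T T' : Triangle C} (e : T ≅ T') (F : C ⥤ E)
    (h : ∀ (Z : E) (φ : F.obj T'.obj₃ ⟶ Z), F.map T'.mor₂ ≫ φ = 0 →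
      ∃ ψ : F.obj (T'.obj₁⟦(1 : ℤ)⟧) ⟶ Z, F.map T'.mor₃ ≫ ψ = φ)
    (Z : E) (φ : F.obj T.obj₃ ⟶ Z) (hφ : F.map T.mor₂ ≫ φ = 0) :
    ∃ ψ : F.obj (T.obj₁⟦(1 : ℤ)⟧) ⟶ Z, F.map T.mor₃ ≫ ψ = φ := by
  have h33 : e.hom.hom₃ ≫ e.inv.hom₃ = 𝟙 _ := by
    rw [← TriangleMorphism.comp_hom₃]
    change (e.hom ≫ e.inv).hom₃ = _
    rw [e.hom_inv_id]
    rfl
  obtain ⟨ψ', hψ'⟩ := h Z (F.map e.inv.hom₃ ≫ φ) (by
    rw [← Category.assoc, ← Functor.map_comp, e.inv.comm₂, Functor.map_comp, Category.assoc, hφ,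
      comp_zero])
  refine ⟨F.map (e.hom.hom₁⟦(1 : ℤ)⟧') ≫ ψ', ?_⟩
  rw [← Category.assoc, ← Functor.map_comp, e.hom.comm₃, Functor.map_comp, Category.assoc, hψ',
    ← Category.assoc, ← Functor.map_comp, h33, CategoryTheory.Functor.map_id, Category.id_comp]

lemma CWE.of_iso {F F' : C ⥤ E} (e : F ≅ F') (h : CWE F) : CWE F' := by
  intro T hT Z φ hφ
  obtain ⟨ψ, hψ⟩ := h T hT Z (e.hom.app _ ≫ φ) (by
    rw [← Category.assoc, e.hom.naturality, Category.assoc, hφ, comp_zero])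
  refine ⟨e.inv.app _ ≫ ψ, ?_⟩
  rw [← Category.assoc, e.inv.naturality, Category.assoc, hψ, Iso.inv_hom_id_app_assoc]

end abstract


section dten

open DerivedCategory Groth.Agent.Lib.Helper1.KF Groth.Agent.Lib.Helper1.DT DTen
  Groth.Agent.Lib.Seat63.WeakExact Groth.Agent.Lib.Seat63.DTenExact

variable {A : Type u} [CommRing A] [HasLTen A]

/-- contravariant exactness of `- ⊗^L Q(X₀)` on a short complex of complexes which stays short exact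
after tensoring with `X₀` -/
lemma cexact_of_ses (X₀ : Cx A) (hX₀ : KFlat X₀) (S : ShortComplex (Cx A))
    (hS : (S.map (tensorRight X₀)).ShortExact) (Z : Dual.D A)
    (φ : ((LTen A).flip.obj (Q.obj X₀)).obj (Q.obj S.X₂) ⟶ Z)
    (hφ : ((LTen A).flip.obj (Q.obj X₀)).map (Q.map S.f) ≫ φ = 0) :
    ∃ ψ : ((LTen A).flip.obj (Q.obj X₀)).obj (Q.obj S.X₃) ⟶ Z,
      ((LTen A).flip.obj (Q.obj X₀)).map (Q.map S.g) ≫ ψ = φ := by
  have hiso : ∀ Y : Cx A, IsIso ((εRight A X₀).app Y) := isIso_εRight_app X₀ hX₀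
  have hTri := DerivedCategory.triangleOfSES_distinguished hS
  have h1 := hiso S.X₁
  have h2 := hiso S.X₂
  have h3 := hiso S.X₃
  obtain ⟨ε₁, hε₁⟩ : ∃ ε₁ : ((LTen A).flip.obj (Q.obj X₀)).obj (Q.obj S.X₁) ≅ Q.obj (S.X₁ ⊗ X₀),
      ε₁.hom = (εRight A X₀).app S.X₁ := ⟨asIso ((εRight A X₀).app S.X₁), rfl⟩
  obtain ⟨ε₂, hε₂⟩ : ∃ ε₂ : ((LTen A).flip.obj (Q.obj X₀)).obj (Q.obj S.X₂) ≅ Q.obj (S.X₂ ⊗ X₀),
      ε₂.hom = (εRight A X₀).app S.X₂ := ⟨asIso ((εRight A X₀).app S.X₂), rfl⟩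
  obtain ⟨ε₃, hε₃⟩ : ∃ ε₃ : ((LTen A).flip.obj (Q.obj X₀)).obj (Q.obj S.X₃) ≅ Q.obj (S.X₃ ⊗ X₀),
      ε₃.hom = (εRight A X₀).app S.X₃ := ⟨asIso ((εRight A X₀).app S.X₃), rfl⟩
  have hnat₃ : ((LTen A).flip.obj (Q.obj X₀)).map (Q.map S.g) ≫ ε₃.hom =
      ε₂.hom ≫ Q.map (S.g ▷ X₀) := by
    rw [hε₂, hε₃]; exact (εRight A X₀).naturality S.g
  have hnat₂ : ((LTen A).flip.obj (Q.obj X₀)).map (Q.map S.f) ≫ ε₂.hom =
      ε₁.hom ≫ Q.map (S.f ▷ X₀) := by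
    rw [hε₁, hε₂]; exact (εRight A X₀).naturality S.f
  obtain ⟨g, hg⟩ : ∃ g : Q.obj (S.X₃ ⊗ X₀) ⟶ Z, ε₂.inv ≫ φ = Q.map (S.g ▷ X₀) ≫ g :=
    Triangle.yoneda_exact₂ _ hTri (ε₂.inv ≫ φ) (by
      change Q.map (S.f ▷ X₀) ≫ ε₂.inv ≫ φ = 0
      have : Q.map (S.f ▷ X₀) ≫ ε₂.inv =
          ε₁.inv ≫ ((LTen A).flip.obj (Q.obj X₀)).map (Q.map S.f) := by
        rw [Iso.eq_inv_comp, ← Category.assoc, ← hnat₂, Category.assoc, Iso.hom_inv_id,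
          Category.comp_id]
      rw [← Category.assoc, this, Category.assoc, hφ, comp_zero])
  refine ⟨ε₃.hom ≫ g, ?_⟩
  rw [← Category.assoc, hnat₃, Category.assoc, ← hg, Iso.hom_inv_id_assoc]

/-- `- ⊗^L Q(X₀)` is contravariantly weakly exact for K-flat `X₀` -/
theorem cwe_flip_obj_Q (X₀ : Cx A) (hX₀ : KFlat X₀) : CWE ((LTen A).flip.obj (Q.obj X₀)) := by
  apply CWE.of_obj₃
  intro T hT
  rw [DerivedCategory.mem_distTriang_iff] at hT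
  obtain ⟨K, L, f, ⟨e⟩⟩ := hT
  apply cexact₃_of_iso e
  intro Z φ hφ
  obtain ⟨m₃, hm₃⟩ : ∃ m₃ : CochainComplex.mappingCone f ⟶ K⟦(1 : ℤ)⟧,
    m₃ = (CochainComplex.mappingCone.triangle f).mor₃ := ⟨_, rfl⟩
  obtain ⟨σ, hσ⟩ : ∃ σ : Q.obj (K⟦(1 : ℤ)⟧) ≅ (Q.obj K)⟦(1 : ℤ)⟧,
    σ.hom = (Q.commShiftIso (1 : ℤ)).hom.app K := ⟨(Q.commShiftIso (1 : ℤ)).app K, rfl⟩
  suffices H : ∀ (φ : ((LTen A).flip.obj (Q.obj X₀)).obj (Q.obj (CochainComplex.mappingCone f)) ⟶ Z),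
      ((LTen A).flip.obj (Q.obj X₀)).map (Q.map (CochainComplex.mappingCone.inr f)) ≫ φ = 0 →
      ∃ ψ : ((LTen A).flip.obj (Q.obj X₀)).obj ((Q.obj K)⟦(1 : ℤ)⟧) ⟶ Z,
        ((LTen A).flip.obj (Q.obj X₀)).map (Q.map m₃ ≫ σ.hom) ≫ ψ = φ from by
    obtain ⟨ψ, hψ⟩ := H φ hφ
    exact ⟨ψ, by rw [hm₃, hσ] at hψ; exact hψ⟩
  intro φ hφ
  obtain ⟨ψ₀, hψ₀⟩ : ∃ ψ₀ : ((LTen A).flip.obj (Q.obj X₀)).obj (Q.obj (K⟦(1 : ℤ)⟧)) ⟶ Z,
      ((LTen A).flip.obj (Q.obj X₀)).map (Q.map m₃) ≫ ψ₀ = φ := by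
    subst hm₃
    exact cexact_of_ses X₀ hX₀ (CochainComplex.mappingCone.triangleRotateShortComplex f)
      (cone_tensorRight_shortExact f X₀) Z φ hφ
  refine ⟨((LTen A).flip.obj (Q.obj X₀)).map σ.inv ≫ ψ₀, ?_⟩
  rw [← Category.assoc, ← Functor.map_comp, Category.assoc, Iso.hom_inv_id, Category.comp_id]
  exact hψ₀

/-- `- ⊗^L X` is contravariantly weakly exact -/
theorem cwe_flip_obj (X : Dual.D A) : CWE ((LTen A).flip.obj X) := by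
  obtain ⟨X₀, hX₀, ⟨e⟩⟩ := exists_kflat_iso X
  exact CWE.of_iso ((LTen A).flip.mapIso e) (cwe_flip_obj_Q X₀ hX₀)


end dten

section linear

open DerivedCategory Groth.Agent.Lib.Helper1.KF Groth.Agent.Lib.Helper1.DT DTen
  Groth.Agent.Lib.Seat63.WeakExact Groth.Agent.Lib.Seat63.DTenExact

variable {A : Type u} [CommRing A]

/-- scalar linearity of an endofunctor of `D(A)` on scalar endomorphisms -/
def SL (F : Dual.D A ⥤ Dual.D A) : Prop :=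
  ∀ (X : Dual.D A) (f : A), F.map (f • 𝟙 X) = f • 𝟙 (F.obj X)

lemma SL.of_iso {F F' : Dual.D A ⥤ Dual.D A} (e : F ≅ F') (h : SL F) : SL F' := by
  intro X f
  have h1 : F'.map (f • 𝟙 X) = e.inv.app X ≫ F.map (f • 𝟙 X) ≫ e.hom.app X := by
    rw [e.hom.naturality, Iso.inv_hom_id_app_assoc]
  rw [h1, h X f, Linear.smul_comp, Linear.comp_smul, Category.id_comp, Iso.inv_hom_id_app]

lemma SL.map_zero {F : Dual.D A ⥤ Dual.D A} (h : SL F) (X Y : Dual.D A) :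
    F.map (0 : X ⟶ Y) = 0 := by
  have h1 : (0 : X ⟶ Y) = ((0 : A) • 𝟙 X) ≫ (0 : X ⟶ Y) := by rw [comp_zero]
  rw [h1, Functor.map_comp, h X 0, zero_smul, zero_comp]

lemma smul_id_whiskerRight (Y X₀ : Cx A) (f : A) :
    (f • 𝟙 Y) ▷ X₀ = f • 𝟙 (Y ⊗ X₀) := by
  refine HomologicalComplex.hom_ext _ _ (fun n => ?_)
  apply tensor_hom_ext
  intro p q hpq
  rw [ι_whiskerRight]
  have h1 : (f • 𝟙 Y).f p = f • 𝟙 (Y.X p) := rfl
  have h2 : (f • 𝟙 (Y ⊗ X₀)).f n = f • 𝟙 ((Y ⊗ X₀).X n) := rfl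
  rw [h1, h2, MonoidalLinear.smul_whiskerRight, id_whiskerRight, Linear.smul_comp, Linear.comp_smul,
    Category.id_comp]
  erw [Category.comp_id]

variable [HasLTen A]

lemma sl_flip_obj_Q (X₀ : Cx A) (hX₀ : KFlat X₀) : SL ((LTen A).flip.obj (Q.obj X₀)) := by
  intro X f
  obtain ⟨Y, ⟨e⟩⟩ : ∃ Y : Cx A, Nonempty (Q.obj Y ≅ X) := ⟨_, ⟨Q.objObjPreimageIso X⟩⟩
  have hiso : IsIso ((εRight A X₀).app Y) := isIso_εRight_app X₀ hX₀ Y
  obtain ⟨ε₁, hε₁⟩ : ∃ ε₁ : ((LTen A).flip.obj (Q.obj X₀)).obj (Q.obj Y) ≅ Q.obj (Y ⊗ X₀),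
      ε₁.hom = (εRight A X₀).app Y := ⟨asIso ((εRight A X₀).app Y), rfl⟩
  -- the case of `Q.obj Y`
  have hY : ((LTen A).flip.obj (Q.obj X₀)).map (f • 𝟙 (Q.obj Y)) =
      f • 𝟙 (((LTen A).flip.obj (Q.obj X₀)).obj (Q.obj Y)) := by
    have h1 : f • 𝟙 (Q.obj Y) = Q.map (f • 𝟙 Y) := by
      rw [Functor.map_smul, CategoryTheory.Functor.map_id]
    have hnat : ((LTen A).flip.obj (Q.obj X₀)).map (Q.map (f • 𝟙 Y)) ≫ ε₁.hom =
        ε₁.hom ≫ Q.map ((f • 𝟙 Y) ▷ X₀) := by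
      rw [hε₁]; exact (εRight A X₀).naturality (f • 𝟙 Y)
    rw [h1, ← cancel_mono ε₁.hom, hnat, smul_id_whiskerRight, Functor.map_smul,
      CategoryTheory.Functor.map_id, Linear.comp_smul, Linear.smul_comp, Category.comp_id,
      Category.id_comp]
  have h2 : f • 𝟙 X = e.inv ≫ (f • 𝟙 (Q.obj Y)) ≫ e.hom := by
    rw [Linear.smul_comp, Linear.comp_smul, Category.id_comp, e.inv_hom_id]
  rw [h2, Functor.map_comp, Functor.map_comp, hY, Linear.smul_comp, Linear.comp_smul,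
    Category.id_comp, ← Functor.map_comp, e.inv_hom_id, CategoryTheory.Functor.map_id]

lemma sl_flip_obj (X : Dual.D A) : SL ((LTen A).flip.obj X) := by
  obtain ⟨X₀, hX₀, ⟨e⟩⟩ := exists_kflat_iso X
  exact SL.of_iso ((LTen A).flip.mapIso e) (sl_flip_obj_Q X₀ hX₀)

/-- `E ⊗^L - ≅ - ⊗^L E` (from the symmetry) -/
noncomputable def objIsoFlip (E : Dual.D A) : (LTen A).obj E ≅ (LTen A).flip.obj E :=
  NatIso.ofComponents
    (fun Z => by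
      have := Groth.Agent.S13576.result A Z E
      exact asIso ((DTen.symm A).app (Z, E)))
    (fun {Z Z'} g => by
      have := (DTen.symm A).naturality (X := (Z, E)) (Y := (Z', E)) (Prod.mkHom g (𝟙 E))
      exact this)

theorem cwe_obj (E : Dual.D A) : CWE ((LTen A).obj E) :=
  CWE.of_iso (objIsoFlip E).symm (cwe_flip_obj E)

theorem sl_obj (E : Dual.D A) : SL ((LTen A).obj E) :=
  SL.of_iso (objIsoFlip E).symm (sl_flip_obj E)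


end linear

end Groth.Agent.Lib.Seat80.ProA
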