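import Mathlib
import Groth.Agent.Lib.Seat80Obstr
import Groth.Agent.Lib.Seat80ProA

set_option autoImplicit false
set_option linter.unusedSectionVars false
universe u
open CategoryTheory CategoryTheory.Limits MonoidalCategory Pretriangulated DerivedCategory
attribute [local instance] HasDerivedCategory.standard

/-!
# Koszul-like objects through a functor and the shifted vanishing lemma (helper80)

* `exists_koszul_gen`: Koszul-like object on any bounded object of `D(A)`, with the extension property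
  through every contravariantly weakly exact scalar-linear endofunctor.
* `vl_shift`: `A` Noetherian, `M` finite, `T` killed by `I^N`, `Φ` as above: every map
  `Φ (M[j]) ⟶ T` vanishes on `Φ ((I^n M)[j])` for some `n`.
-/

namespace Groth.Agent.Lib.Seat80.ProB

open DerivedCategory.TStructure
open Groth.Agent.Lib.Seat80.Obstr Groth.Agent.Lib.Seat80.ProA

variable {A : Type u} [CommRing A]

lemma cwe_id : CWE (𝟭 (Dual.D A)) := by
  intro T hT Z φ hφ
  obtain ⟨ψ, hψ⟩ := Triangle.yoneda_exact₂ _ hT φ hφ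
  exact ⟨ψ, hψ.symm⟩

lemma sl_id : SL (𝟭 (Dual.D A)) := fun _ _ => rfl

/-- Koszul-like objects on an arbitrary object of `D(A)`, with the extension property through any
contravariantly weakly exact, scalar-linear functor -/
lemma exists_koszul_gen (Z₀ : Dual.D A) (lo hi : ℤ) (hLE : Z₀.IsLE hi) (hGE : Z₀.IsGE lo) (L : List A) :
    ∃ (X : Dual.D A) (a : Z₀ ⟶ X),
      X.IsLE hi ∧ X.IsGE (lo - (L.length : ℤ)) ∧ (∀ f ∈ L, ∃ e : ℕ, (f ^ e) • 𝟙 X = 0) ∧
      (∀ (Φ : Dual.D A ⥤ Dual.D A), CWE Φ → SL Φ → ∀ (T : Dual.D A), (∀ f ∈ L, f • 𝟙 T = 0) →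
        ∀ c : Φ.obj Z₀ ⟶ T, ∃ b : Φ.obj X ⟶ T, Φ.map a ≫ b = c) := by
  induction L with
  | nil =>
    refine ⟨Z₀, 𝟙 _, hLE, ?_, ?_, ?_⟩
    · exact t.isGE_of_ge _ _ lo (by simp)
    · intro f hf; simp at hf
    · intro Φ _ _ T _ c
      exact ⟨c, by rw [CategoryTheory.Functor.map_id, Category.id_comp]⟩
  | cons g L ih =>
    obtain ⟨X, a, hLE', hGE', htor, hext⟩ := ih
    obtain ⟨X', i, p, hT⟩ := distinguished_cocone_triangle (g • 𝟙 X)
    refine ⟨X', a ≫ i, ?_, ?_, ?_, ?_⟩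
    · have h3 : t.IsLE (X⟦(1 : ℤ)⟧) hi := by
        have : t.IsLE (X⟦(1 : ℤ)⟧) (hi - 1) := t.isLE_shift X hi 1 (hi - 1)
        exact t.isLE_of_le _ (hi - 1) hi (by lia)
      exact t.isLE₂ _ (rot_of_distTriang _ hT) hi hLE' h3
    · have h1 : t.IsGE X (lo - ((g :: L).length : ℤ)) :=
        t.isGE_of_ge _ _ (lo - (L.length : ℤ)) (by simp only [List.length_cons]; push_cast; lia)
      have h3 : t.IsGE (X⟦(1 : ℤ)⟧) (lo - ((g :: L).length : ℤ)) :=
        t.isGE_shift X (lo - (L.length : ℤ)) 1 _ (by simp only [List.length_cons]; push_cast; lia)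
      exact t.isGE₂ _ (rot_of_distTriang _ hT) _ h1 h3
    · intro f hf
      rw [List.mem_cons] at hf
      rcases hf with rfl | hf
      · refine ⟨2, ?_⟩
        rw [pow_two]
        refine sq_smul_id_eq_zero _ _ _ hT f (comp_distTriang_mor_zero₁₂ _ hT) ?_
        have h6 : f • 𝟙 (X⟦(1 : ℤ)⟧) = (f • 𝟙 X)⟦(1 : ℤ)⟧' := by
          rw [Functor.map_smul, CategoryTheory.Functor.map_id]
        rw [h6]
        exact comp_distTriang_mor_zero₃₁ _ hT
      · obtain ⟨e, he⟩ := htor f hf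
        refine ⟨e + e, ?_⟩
        rw [pow_add]
        refine sq_smul_id_eq_zero _ _ _ hT (f ^ e) (by rw [he, zero_comp]) ?_
        have h6 : f ^ e • 𝟙 (X⟦(1 : ℤ)⟧) = (f ^ e • 𝟙 X)⟦(1 : ℤ)⟧' := by
          rw [Functor.map_smul, CategoryTheory.Functor.map_id]
        rw [h6, he, Functor.map_zero, comp_zero]
    · intro Φ hΦ hΦ' T hTor c
      obtain ⟨b, hb⟩ := hext Φ hΦ hΦ' T (fun f hf => hTor f (List.mem_cons_of_mem _ hf)) c
      have h0 : Φ.map (g • 𝟙 X) ≫ b = 0 := by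
        rw [hΦ' X g, Linear.smul_comp, Category.id_comp, ← Category.comp_id b, ← Linear.comp_smul,
          hTor g (List.mem_cons_self), comp_zero]
      obtain ⟨b', hb'⟩ : ∃ b' : Φ.obj X' ⟶ T, Φ.map i ≫ b' = b := hΦ _ hT T b h0
      exact ⟨b', by rw [Functor.map_comp, Category.assoc, hb', hb]⟩

/-- torsion is stable under shift -/
lemma smul_id_shift_eq_zero (X : Dual.D A) (j : ℤ) (a : A) (h : a • 𝟙 X = 0) :
    a • 𝟙 (X⟦j⟧) = 0 := by
  have : a • 𝟙 (X⟦j⟧) = (a • 𝟙 X)⟦j⟧' := by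
    rw [Functor.map_smul, CategoryTheory.Functor.map_id]
  rw [this, h, Functor.map_zero]

/-- generic: vanishing after a shift can be tested after shifting back -/
lemma comp_eq_zero_of_shift {C : Type*} [Category C] [Preadditive C] [HasShift C ℤ]
    [∀ n : ℤ, (shiftFunctor C n).Additive]
    {Y Y' X : C} (j : ℤ) (i : Y' ⟶ Y) (u : Y⟦j⟧ ⟶ X)
    (h : i ≫ (shiftFunctorCompIsoId C j (-j) (by lia)).inv.app Y ≫ u⟦-j⟧' = 0) :
    i⟦j⟧' ≫ u = 0 := by
  have hnat := (shiftFunctorCompIsoId C j (-j) (by lia)).inv.naturality i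
  dsimp at hnat
  have h1 : (shiftFunctorCompIsoId C j (-j) (by lia)).inv.app Y' ≫ (i⟦j⟧' ≫ u)⟦-j⟧' = 0 := by
    rw [Functor.map_comp, ← Category.assoc, ← hnat, Category.assoc]
    exact h
  have h2 : (i⟦j⟧' ≫ u)⟦-j⟧' = 0 := by
    have := congrArg (fun t => (shiftFunctorCompIsoId C j (-j) (by lia)).hom.app Y' ≫ t) h1
    simpa using this
  apply (shiftFunctor C (-j)).map_injective
  rw [h2, Functor.map_zero]

lemma exists_incl_shift_comp_eq_zero [IsNoetherianRing A] (I : Ideal A) (s k : ℕ) (b j : ℤ)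
    (X : Dual.D A) (hLE : X.IsLE b) (hGE : X.IsGE (b + 1 - k)) (hs : ∀ a ∈ I ^ s, a • 𝟙 X = 0)
    (M : Type u) [AddCommGroup M] [Module A M] [Module.Finite A M]
    (u : (Dual.inD A M)⟦j⟧ ⟶ X) :
    ∃ m : ℕ, (incl I M m)⟦j⟧' ≫ u = 0 := by
  have h1 : t.IsLE (X⟦-j⟧) (b + j) := t.isLE_shift X b (-j) (b + j) (by lia)
  have h2 : t.IsGE (X⟦-j⟧) (b + j + 1 - k) := t.isGE_shift X (b + 1 - k) (-j) _ (by lia)
  obtain ⟨m, hm⟩ := exists_incl_comp_eq_zero I s k (b + j) (X⟦-j⟧)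
    (fun a ha => smul_id_shift_eq_zero X (-j) a (hs a ha)) M
    ((shiftFunctorCompIsoId (Dual.D A) j (-j) (by lia)).inv.app (Dual.inD A M) ≫ u⟦-j⟧')
  exact ⟨m, comp_eq_zero_of_shift j _ u hm⟩

/-- the vanishing lemma through a functor and with a shift -/
theorem vl_shift [IsNoetherianRing A] (I : Ideal A) (N : ℕ)
    (M : Type u) [AddCommGroup M] [Module A M] [Module.Finite A M] (j : ℤ)
    (Φ : Dual.D A ⥤ Dual.D A) (hΦ : CWE Φ) (hΦ' : SL Φ)
    (T : Dual.D A) (hT : ∀ f ∈ I ^ N, f • 𝟙 T = 0) (c : Φ.obj ((Dual.inD A M)⟦j⟧) ⟶ T) :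
    ∃ n : ℕ, Φ.map ((incl I M n)⟦j⟧') ≫ c = 0 := by
  classical
  obtain ⟨S, hS⟩ : (I ^ N).FG := IsNoetherian.noetherian (I ^ N)
  have hle : t.IsLE ((Dual.inD A M)⟦j⟧) (-j) := t.isLE_shift (Dual.inD A M) 0 j (-j) (by lia)
  have hge : t.IsGE ((Dual.inD A M)⟦j⟧) (-j) := t.isGE_shift (Dual.inD A M) 0 j (-j) (by lia)
  obtain ⟨X, a, hLE, hGE, htor, hext⟩ := exists_koszul_gen ((Dual.inD A M)⟦j⟧) (-j) (-j) hle hge S.toList
  obtain ⟨b, hb⟩ := hext Φ hΦ hΦ' T (fun f hf => hT f (by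
    rw [← hS]; exact Ideal.subset_span (Finset.mem_toList.mp hf))) c
  obtain ⟨s, hs⟩ := exists_pow_smul_id_eq_zero X S (fun f hf => htor f (Finset.mem_toList.mpr hf))
  rw [hS, ← pow_mul] at hs
  have hGE' : X.IsGE (-j + 1 - ((S.toList.length + 1 : ℕ) : ℤ)) :=
    t.isGE_of_ge _ _ (-j - (S.toList.length : ℤ)) (by push_cast; lia)
  obtain ⟨m, hm⟩ := exists_incl_shift_comp_eq_zero I (N * s) (S.toList.length + 1) (-j) j X hLE hGE'
    hs M a
  refine ⟨m, ?_⟩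
  rw [← hb, ← Category.assoc, ← Functor.map_comp, hm, hΦ'.map_zero, zero_comp]

end Groth.Agent.Lib.Seat80.ProB
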