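import Mathlib
import Groth.Agent.Lib.Seat80ProB

set_option autoImplicit false
set_option linter.unusedSectionVars false
universe u
open CategoryTheory CategoryTheory.Limits MonoidalCategory Pretriangulated DerivedCategory
attribute [local instance] HasDerivedCategory.standard

namespace Groth.Agent.Lib.Seat80.ProC

open Groth.Agent.Lib.Seat80.Obstr Groth.Agent.Lib.Seat80.ProA Groth.Agent.Lib.Seat80.ProB
open Groth.Agent.Lib.Helper1.KF

variable {A : Type u} [CommRing A] (I : Ideal A)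

lemma map_mem_pow_smul_top {M N : Type u} [AddCommGroup M] [Module A M] [AddCommGroup N] [Module A N]
    (f : M →ₗ[A] N) (k : ℕ) (x : M) (hx : x ∈ (I ^ k • ⊤ : Submodule A M)) :
    f x ∈ (I ^ k • ⊤ : Submodule A N) := by
  have h1 : f x ∈ (I ^ k • ⊤ : Submodule A M).map f := Submodule.mem_map_of_mem hx
  rw [Submodule.map_smul''] at h1
  exact Submodule.smul_mono le_rfl le_top h1

/-- the functor `M ↦ I^k M` -/
noncomputable def pwF (k : ℕ) : ModuleCat.{u} A ⥤ ModuleCat.{u} A where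
  obj M := ModuleCat.of A ↥(I ^ k • ⊤ : Submodule A M)
  map {M N} f := ModuleCat.ofHom
    (f.hom.restrict (p := (I ^ k • ⊤ : Submodule A M)) (q := (I ^ k • ⊤ : Submodule A N))
      (fun x hx => map_mem_pow_smul_top I f.hom k x hx))
  map_id M := by ext x; rfl
  map_comp f g := by ext x; rfl

instance (k : ℕ) : (pwF I k).Additive where
  map_add {M N f g} := by ext x; rfl

/-- the inclusion `I^k M ⟶ M` -/
noncomputable def pwι (k : ℕ) : pwF I k ⟶ 𝟭 (ModuleCat.{u} A) where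
  app M := ModuleCat.ofHom (I ^ k • ⊤ : Submodule A M).subtype
  naturality {M N} f := by ext x; rfl

/-- the complex `I^k K` -/
noncomputable abbrev pwK (k : ℕ) (K : Cx A) : Cx A :=
  ((pwF I k).mapHomologicalComplex (ComplexShape.up ℤ)).obj K

/-- the inclusion `I^k K ⟶ K` -/
noncomputable def pwKι (k : ℕ) (K : Cx A) : pwK I k K ⟶ K where
  f i := (pwι I k).app (K.X i)
  comm' i j _ := ((pwι I k).naturality (K.d i j)).symm

lemma pwKι_naturality (k : ℕ) {K L : Cx A} (f : K ⟶ L) :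
    ((pwF I k).mapHomologicalComplex (ComplexShape.up ℤ)).map f ≫ pwKι I k L = pwKι I k K ≫ f := by
  ext i : 1
  exact (pwι I k).naturality (f.f i)

lemma exists_pwFac (k₁ k₂ : ℕ) (M : Type u) [AddCommGroup M] [Module A M]
    (x : ↥(I ^ (k₁ + k₂) • ⊤ : Submodule A M)) :
    ∃ z : ↥(I ^ k₁ • ⊤ : Submodule A M),
      z ∈ (I ^ k₂ • ⊤ : Submodule A ↥(I ^ k₁ • ⊤ : Submodule A M)) ∧ z.1 = x.1 := by
  apply Groth.Agent.Lib.Seat80.ExtAR.exists_mem_smul_top_of_mem_smul
  have : (I ^ (k₁ + k₂) • ⊤ : Submodule A M) = I ^ k₂ • (I ^ k₁ • ⊤ : Submodule A M) := by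
    rw [← Submodule.mul_smul, ← pow_add, add_comm]
  rw [← this]
  exact x.2

/-- `I^(k₁+k₂) M ⟶ I^k₂ (I^k₁ M)` -/
noncomputable def pwFacLin (k₁ k₂ : ℕ) (M : Type u) [AddCommGroup M] [Module A M] :
    ↥(I ^ (k₁ + k₂) • ⊤ : Submodule A M) →ₗ[A]
      ↥(I ^ k₂ • ⊤ : Submodule A ↥(I ^ k₁ • ⊤ : Submodule A M)) where
  toFun x := ⟨(exists_pwFac I k₁ k₂ M x).choose, (exists_pwFac I k₁ k₂ M x).choose_spec.1⟩
  map_add' x y := by
    apply Subtype.ext; apply Subtype.ext
    change ((exists_pwFac I k₁ k₂ M (x + y)).choose).1 =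
      ((exists_pwFac I k₁ k₂ M x).choose).1 + ((exists_pwFac I k₁ k₂ M y).choose).1
    rw [(exists_pwFac I k₁ k₂ M (x + y)).choose_spec.2, (exists_pwFac I k₁ k₂ M x).choose_spec.2,
      (exists_pwFac I k₁ k₂ M y).choose_spec.2]
    rfl
  map_smul' a x := by
    apply Subtype.ext; apply Subtype.ext
    change ((exists_pwFac I k₁ k₂ M (a • x)).choose).1 = a • ((exists_pwFac I k₁ k₂ M x).choose).1
    rw [(exists_pwFac I k₁ k₂ M (a • x)).choose_spec.2, (exists_pwFac I k₁ k₂ M x).choose_spec.2]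
    rfl

lemma pwFacLin_val (k₁ k₂ : ℕ) (M : Type u) [AddCommGroup M] [Module A M]
    (x : ↥(I ^ (k₁ + k₂) • ⊤ : Submodule A M)) : ((pwFacLin I k₁ k₂ M x).1).1 = x.1 :=
  (exists_pwFac I k₁ k₂ M x).choose_spec.2

/-- the natural transformation `I^(k₁+k₂) M ⟶ I^k₂ (I^k₁ M)` -/
noncomputable def pwFac (k₁ k₂ : ℕ) : pwF I (k₁ + k₂) ⟶ pwF I k₁ ⋙ pwF I k₂ where
  app M := ModuleCat.ofHom (pwFacLin I k₁ k₂ M)
  naturality {M N} f := by
    ext x
    apply Subtype.ext; apply Subtype.ext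
    exact (pwFacLin_val I k₁ k₂ N _).trans (congrArg f.hom (pwFacLin_val I k₁ k₂ M x)).symm

lemma pwFac_ι (k₁ k₂ : ℕ) (M : ModuleCat.{u} A) :
    (pwFac I k₁ k₂).app M ≫ (pwι I k₂).app ((pwF I k₁).obj M) ≫ (pwι I k₁).app M =
      (pwι I (k₁ + k₂)).app M := by
  ext x
  exact pwFacLin_val I k₁ k₂ M x

/-- the chain map `I^(k₁+k₂) K ⟶ I^k₂ (I^k₁ K)` -/
noncomputable def pwKFac (k₁ k₂ : ℕ) (K : Cx A) : pwK I (k₁ + k₂) K ⟶ pwK I k₂ (pwK I k₁ K) where
  f i := (pwFac I k₁ k₂).app (K.X i)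
  comm' i j _ := ((pwFac I k₁ k₂).naturality (K.d i j)).symm

lemma pwKFac_ι (k₁ k₂ : ℕ) (K : Cx A) :
    pwKFac I k₁ k₂ K ≫ pwKι I k₂ (pwK I k₁ K) ≫ pwKι I k₁ K = pwKι I (k₁ + k₂) K := by
  ext i : 1
  exact pwFac_ι I k₁ k₂ (K.X i)

/-- weak `I`-power torsion -/
def WT (T : Dual.D A) : Prop := ∃ N : ℕ, ∀ f ∈ I ^ N, f • 𝟙 T = 0

/-- the vanishing property of a complex -/
def VLK (K : Cx A) : Prop :=
  ∀ (T : Dual.D A), WT I T → ∀ c : Q.obj K ⟶ T, ∃ k : ℕ, Q.map (pwKι I k K) ≫ c = 0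

/-- comparison `I^k (M[-b]) ⟶ (I^k M)[-b]` -/
lemma exists_pwK_single_fac (k : ℕ) (b : ℤ) (M : ModuleCat.{u} A) :
    ∃ σ : pwK I k ((HomologicalComplex.single (ModuleCat.{u} A) (ComplexShape.up ℤ) b).obj M) ⟶
        (HomologicalComplex.single (ModuleCat.{u} A) (ComplexShape.up ℤ) b).obj ((pwF I k).obj M),
      σ ≫ (HomologicalComplex.single (ModuleCat.{u} A) (ComplexShape.up ℤ) b).map ((pwι I k).app M) =
        pwKι I k ((HomologicalComplex.single (ModuleCat.{u} A) (ComplexShape.up ℤ) b).obj M) := by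
  obtain ⟨φ, hφ⟩ : ∃ φ : (pwK I k ((HomologicalComplex.single (ModuleCat.{u} A) (ComplexShape.up ℤ) b).obj M)).X b ⟶
      (pwF I k).obj M,
      φ = (pwF I k).map (HomologicalComplex.singleObjXSelf (ComplexShape.up ℤ) b M).hom := ⟨_, rfl⟩
  refine ⟨HomologicalComplex.mkHomToSingle φ ?_, ?_⟩
  · intro i hi
    rw [hφ]
    change (pwF I k).map _ ≫ _ = 0
    rw [HomologicalComplex.single_obj_d, Functor.map_zero, zero_comp]
  · apply HomologicalComplex.to_single_hom_ext
    rw [HomologicalComplex.comp_f, HomologicalComplex.mkHomToSingle_f,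
      HomologicalComplex.single_map_f_self, Category.assoc, Iso.inv_hom_id_assoc]
    have := (pwι I k).naturality (HomologicalComplex.singleObjXSelf (ComplexShape.up ℤ) b M).hom
    dsimp at this
    rw [hφ]
    erw [reassoc_of% this, Iso.hom_inv_id, Category.comp_id]
    rfl

lemma vlk_single [IsNoetherianRing A] (b : ℤ) (M : Type u) [AddCommGroup M] [Module A M]
    [Module.Finite A M] :
    VLK I ((HomologicalComplex.single (ModuleCat.{u} A) (ComplexShape.up ℤ) b).obj (ModuleCat.of A M)) := by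
  rintro T ⟨N, hT⟩ c
  obtain ⟨e, -⟩ : ∃ e : DerivedCategory.singleFunctor (ModuleCat.{u} A) 0 ⋙ shiftFunctor (Dual.D A) (-b) ≅
      DerivedCategory.singleFunctor (ModuleCat.{u} A) b, True :=
    ⟨(DerivedCategory.singleFunctors (ModuleCat.{u} A)).shiftIso (-b) b 0 (by lia), trivial⟩
  obtain ⟨c', hc'⟩ : ∃ c' : (DerivedCategory.singleFunctor (ModuleCat.{u} A) b).obj (ModuleCat.of A M) ⟶ T,
      c' = c := ⟨c, rfl⟩
  obtain ⟨n, hn⟩ := vl_shift I N M (-b) (𝟭 _) cwe_id sl_id T hT (e.hom.app (ModuleCat.of A M) ≫ c')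
  refine ⟨n, ?_⟩
  obtain ⟨σ, hσ⟩ := exists_pwK_single_fac I n b (ModuleCat.of A M)
  have h1 : (DerivedCategory.singleFunctor (ModuleCat.{u} A) b).map
      (ModuleCat.ofHom (I ^ n • ⊤ : Submodule A M).subtype) ≫ c' = 0 := by
    have hnat := e.hom.naturality (ModuleCat.ofHom (I ^ n • ⊤ : Submodule A M).subtype)
    have h2 : e.hom.app _ ≫ (DerivedCategory.singleFunctor (ModuleCat.{u} A) b).map
        (ModuleCat.ofHom (I ^ n • ⊤ : Submodule A M).subtype) ≫ c' = 0 := by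
      rw [← Category.assoc, ← hnat, Category.assoc]
      exact hn
    have := congrArg (fun t => e.inv.app _ ≫ t) h2
    simpa using this
  rw [← hσ, Functor.map_comp, Category.assoc]
  have h3 : Q.map ((HomologicalComplex.single (ModuleCat.{u} A) (ComplexShape.up ℤ) b).map
      ((pwι I n).app (ModuleCat.of A M))) ≫ c = 0 := by
    rw [← hc']
    exact h1
  rw [h3, comp_zero]

/-- short complexes which are trivially short exact -/
lemma shortExact_of_isZero_of_isIso {C : Type*} [Category C] [Abelian C] (S : ShortComplex C)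
    (h : (IsZero S.X₁ ∧ IsIso S.g) ∨ (IsZero S.X₃ ∧ IsIso S.f)) : S.ShortExact := by
  rcases h with ⟨h1, h2⟩ | ⟨h1, h2⟩
  · have hf : S.f = 0 := h1.eq_of_src _ _
    exact { exact := (S.exact_iff_mono hf).2 inferInstance
            mono_f := ⟨fun _ _ _ => h1.eq_of_tgt _ _⟩
            epi_g := inferInstance }
  · have hg : S.g = 0 := h1.eq_of_tgt _ _
    exact { exact := (S.exact_iff_epi hg).2 inferInstance
            mono_f := inferInstance
            epi_g := ⟨fun _ _ _ => h1.eq_of_src _ _⟩ }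

variable {A : Type u} [CommRing A] (I : Ideal A)

/-- splitting off the top term of a bounded above complex -/
lemma exists_top_ses (K : Cx A) (b : ℤ) (hb : ∀ i, b < i → IsZero (K.X i)) :
    ∃ (K'' : Cx A)
      (i₀ : (HomologicalComplex.single (ModuleCat.{u} A) (ComplexShape.up ℤ) b).obj (K.X b) ⟶ K)
      (p : K ⟶ K'') (w : i₀ ≫ p = 0),
      (ShortComplex.mk i₀ p w).ShortExact ∧ IsZero (K''.X b) ∧
      (∀ i, i ≠ b → IsIso (p.f i)) ∧ IsIso (i₀.f b) := by
  obtain ⟨i₀, hi₀⟩ : ∃ i₀ : (HomologicalComplex.single (ModuleCat.{u} A) (ComplexShape.up ℤ) b).obj (K.X b) ⟶ K,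
      i₀.f b = (HomologicalComplex.singleObjXSelf (ComplexShape.up ℤ) b (K.X b)).hom :=
    ⟨HomologicalComplex.mkHomFromSingle (𝟙 (K.X b)) (fun k hk => by
      have hk' : b + 1 = k := hk
      exact (hb k (by lia)).eq_of_tgt _ _), by
      rw [HomologicalComplex.mkHomFromSingle_f, Category.comp_id]⟩
  have hiso : IsIso (i₀.f b) := by rw [hi₀]; infer_instance
  have hmono : ∀ i, Mono (i₀.f i) := by
    intro i
    by_cases hi : i = b
    · subst hi; infer_instance
    · exact ⟨fun _ _ _ => (HomologicalComplex.isZero_single_obj_X (ComplexShape.up ℤ) b (K.X b) i hi).eq_of_tgt _ _⟩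
  have : Mono i₀ := HomologicalComplex.mono_of_mono_f i₀ hmono
  have hS : (ShortComplex.mk i₀ (cokernel.π i₀) (cokernel.condition i₀)).ShortExact :=
    { exact := ShortComplex.exact_cokernel i₀
      mono_f := this
      epi_g := inferInstance }
  refine ⟨cokernel i₀, i₀, cokernel.π i₀, cokernel.condition i₀, hS, ?_, ?_, hiso⟩
  · have h1 := (HomologicalComplex.shortExact_iff_degreewise_shortExact _).1 hS b
    have hepi : Epi ((cokernel.π i₀).f b) := h1.epi_g
    have hw : i₀.f b ≫ (cokernel.π i₀).f b = 0 := by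
      rw [← HomologicalComplex.comp_f, cokernel.condition, HomologicalComplex.zero_f]
    have hz : (cokernel.π i₀).f b = 0 := by
      rw [← cancel_epi (i₀.f b), hw, comp_zero]
    exact IsZero.of_epi_eq_zero _ hz
  · intro i hi
    have h1 := (HomologicalComplex.shortExact_iff_degreewise_shortExact _).1 hS i
    have hf : ((ShortComplex.mk i₀ (cokernel.π i₀) (cokernel.condition i₀)).map
        (HomologicalComplex.eval _ _ i)).f = 0 :=
      (HomologicalComplex.isZero_single_obj_X (ComplexShape.up ℤ) b (K.X b) i hi).eq_of_src _ _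
    have hm : Mono ((cokernel.π i₀).f i) := h1.exact.mono_g hf
    have he : Epi ((cokernel.π i₀).f i) := h1.epi_g
    exact isIso_of_mono_of_epi _

/-- a complex with zero terms has zero image in the derived category -/
lemma isZero_Q_obj_of_forall_isZero (K : Cx A) (h : ∀ i, IsZero (K.X i)) : IsZero (Q.obj K) := by
  have hK : IsZero K := by
    rw [IsZero.iff_id_eq_zero]
    ext i : 1
    exact (h i).eq_of_src _ _
  exact Q.map_isZero hK

/-- applying `M ↦ I^k M` termwise to the top-term sequence keeps it short exact -/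
lemma shortExact_map_pw (k : ℕ) (b : ℤ) (K K'' : Cx A) (M : ModuleCat.{u} A)
    (i₀ : (HomologicalComplex.single (ModuleCat.{u} A) (ComplexShape.up ℤ) b).obj M ⟶ K)
    (p : K ⟶ K'') (w : i₀ ≫ p = 0) (hz : IsZero (K''.X b)) (hp : ∀ i, i ≠ b → IsIso (p.f i))
    (hi : IsIso (i₀.f b)) :
    ((ShortComplex.mk i₀ p w).map ((pwF I k).mapHomologicalComplex (ComplexShape.up ℤ))).ShortExact := by
  apply HomologicalComplex.shortExact_of_degreewise_shortExact
  intro i
  apply shortExact_of_isZero_of_isIso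
  by_cases h : i = b
  · subst h
    right
    refine ⟨(pwF I k).map_isZero hz, ?_⟩
    change IsIso ((pwF I k).map (i₀.f i))
    infer_instance
  · left
    refine ⟨(pwF I k).map_isZero
      (HomologicalComplex.isZero_single_obj_X (ComplexShape.up ℤ) b M i h), ?_⟩
    have := hp i h
    change IsIso ((pwF I k).map (p.f i))
    infer_instance

theorem vlk_of_bounded [IsNoetherianRing A] (d : ℕ) :
    ∀ (K : Cx A) (b : ℤ), (∀ i, i ≤ b - d ∨ b < i → IsZero (K.X i)) →
      (∀ i, Module.Finite A (K.X i)) → VLK I K := by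
  induction d with
  | zero =>
    intro K b hK _ T _ c
    refine ⟨0, ?_⟩
    have hz : IsZero (Q.obj K) := isZero_Q_obj_of_forall_isZero K (fun i => hK i (by
      rcases le_or_gt i b with h | h
      · left; simpa using h
      · right; exact h))
    rw [hz.eq_of_src c 0, comp_zero]
  | succ d ih =>
    intro K b hK hfin T hT c
    obtain ⟨K'', i₀, p, w, hS, hz, hp, hi⟩ := exists_top_ses K b (fun i hi => hK i (Or.inr hi))
    -- the top term
    have := hfin b
    obtain ⟨k₁, hk₁⟩ := vlk_single I b (K.X b) T hT (Q.map i₀ ≫ c)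
    -- the sequence for `I^k₁`
    have hS₁ := shortExact_map_pw I k₁ b K K'' (K.X b) i₀ p w hz hp hi
    have hTri := DerivedCategory.triangleOfSES_distinguished hS₁
    obtain ⟨c₂, hc₂⟩ : ∃ c₂ : Q.obj (pwK I k₁ K'') ⟶ T,
        Q.map (pwKι I k₁ K) ≫ c =
          Q.map (((pwF I k₁).mapHomologicalComplex (ComplexShape.up ℤ)).map p) ≫ c₂ :=
      Triangle.yoneda_exact₂ _ hTri (Q.map (pwKι I k₁ K) ≫ c) (by
        change Q.map (((pwF I k₁).mapHomologicalComplex (ComplexShape.up ℤ)).map i₀) ≫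
          Q.map (pwKι I k₁ K) ≫ c = 0
        rw [← Category.assoc, ← Functor.map_comp, pwKι_naturality, Functor.map_comp, Category.assoc]
        exact hk₁)
    -- the quotient complex
    have hK'' : ∀ i, i ≤ (b - 1) - d ∨ (b - 1) < i → IsZero ((pwK I k₁ K'').X i) := by
      intro i hi'
      apply (pwF I k₁).map_isZero
      by_cases h : i = b
      · subst h; exact hz
      · have := hp i h
        refine IsZero.of_iso (hK i ?_) (asIso (p.f i)).symm
        rcases hi' with h' | h'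
        · left; push_cast; lia
        · right; lia
    have hfin'' : ∀ i, Module.Finite A ((pwK I k₁ K'').X i) := by
      intro i
      have h1 : Module.Finite A (K''.X i) := by
        by_cases h : i = b
        · subst h
          have := ModuleCat.subsingleton_of_isZero hz
          infer_instance
        · have := hp i h
          have := hfin i
          exact Module.Finite.of_surjective (p.f i).hom
            ((ModuleCat.epi_iff_surjective (p.f i)).1 inferInstance)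
      change Module.Finite A ↥(I ^ k₁ • ⊤ : Submodule A (K''.X i))
      infer_instance
    obtain ⟨k₂, hk₂⟩ := ih (pwK I k₁ K'') (b - 1) hK'' hfin'' T hT c₂
    refine ⟨k₁ + k₂, ?_⟩
    rw [← pwKFac_ι, Functor.map_comp, Functor.map_comp, Category.assoc, Category.assoc, hc₂,
      ← Category.assoc (Q.map (pwKι I k₂ (pwK I k₁ K))), ← Functor.map_comp, ← pwKι_naturality,
      Functor.map_comp, Category.assoc, hk₂, comp_zero, comp_zero]

open HomologicalComplex Groth.Agent.Lib.Helper1.DT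

section tensSingle

variable {R : Type u} [CommRing R] (C : Cx R) (N : ModuleCat.{u} R)

lemma isZero_tensor_sgl (q : ℤ) (hq : q ≠ 0) (Y : ModuleCat.{u} R) :
    IsZero (Y ⊗ (sgl N).X q) :=
  (tensorLeft Y).map_isZero (isZero_single_obj_X (ComplexShape.up ℤ) 0 N q hq)

/-- the inclusion of `C^n ⊗ N` into `(C ⊗ N[0])^n` -/
noncomputable def tsι (n : ℤ) : C.X n ⊗ N ⟶ (C ⊗ sgl N).X n :=
  (C.X n ◁ (singleObjXSelf (ComplexShape.up ℤ) 0 N).inv) ≫ ιTensorObj C (sgl N) n 0 n (add_zero n)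

/-- the projection of `(C ⊗ N[0])^n` onto `C^n ⊗ N` -/
noncomputable def tsπ (n : ℤ) : (C ⊗ sgl N).X n ⟶ C.X n ⊗ N :=
  mapBifunctorDesc (K₁ := C) (K₂ := sgl N) (F := curriedTensor (ModuleCat.{u} R))
    (c := ComplexShape.up ℤ) (fun p q hpq =>
      if hq : q = 0 then
        C.X p ◁ ((sgl N).XIsoOfEq hq).hom ≫ C.X p ◁ (singleObjXSelf (ComplexShape.up ℤ) 0 N).hom ≫
          (C.XIsoOfEq (show p = n by subst hq; simpa using hpq)).hom ▷ N
      else 0)

lemma ι_tsπ_zero (n : ℤ) :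
    ιTensorObj C (sgl N) n 0 n (add_zero n) ≫ tsπ C N n =
      C.X n ◁ (singleObjXSelf (ComplexShape.up ℤ) 0 N).hom := by
  unfold tsπ
  erw [ι_mapBifunctorDesc]
  rw [dif_pos rfl]
  simp only [XIsoOfEq_rfl, Iso.refl_hom, id_whiskerRight, MonoidalCategory.whiskerLeft_id]
  exact (Category.id_comp _).trans (Category.comp_id _)

lemma tsι_tsπ (n : ℤ) : tsι C N n ≫ tsπ C N n = 𝟙 _ := by
  unfold tsι
  rw [Category.assoc, ι_tsπ_zero, ← MonoidalCategory.whiskerLeft_comp, Iso.inv_hom_id,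
    MonoidalCategory.whiskerLeft_id]

lemma tsπ_tsι (n : ℤ) : tsπ C N n ≫ tsι C N n = 𝟙 _ := by
  apply tensor_hom_ext
  intro p q hpq
  by_cases hq : q = 0
  · subst hq
    obtain rfl : p = n := by omega
    rw [← Category.assoc, ι_tsπ_zero]
    unfold tsι
    rw [← Category.assoc, ← MonoidalCategory.whiskerLeft_comp, Iso.hom_inv_id,
      MonoidalCategory.whiskerLeft_id, Category.id_comp]
    exact (Category.comp_id _).symm
  · exact (isZero_tensor_sgl N q hq (C.X p)).eq_of_src _ _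

/-- `(C ⊗ N[0])^n ≅ C^n ⊗ N` -/
noncomputable def tsIso (n : ℤ) : (C ⊗ sgl N).X n ≅ C.X n ⊗ N where
  hom := tsπ C N n
  inv := tsι C N n
  hom_inv_id := tsπ_tsι C N n
  inv_hom_id := tsι_tsπ C N n

/-- the map `C ⟶ C ⊗ N[0]` attached to an element `u₀ : R ⟶ N` -/
noncomputable def tsProj (u₀ : 𝟙_ (ModuleCat.{u} R) ⟶ N) : C ⟶ C ⊗ sgl N :=
  (ρ_ C).inv ≫ C ◁ ((HomologicalComplex.single (ModuleCat.{u} R) (ComplexShape.up ℤ) 0).map u₀)

lemma tsProj_f_tsπ (u₀ : 𝟙_ (ModuleCat.{u} R) ⟶ N) (n : ℤ) :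
    (tsProj C N u₀).f n ≫ tsπ C N n = (ρ_ (C.X n)).inv ≫ C.X n ◁ u₀ := by
  have h : (ρ_ C).inv.f n = (ρ_ (C.X n)).inv ≫
      ((C.X n) ◁ (singleObjXSelf (ComplexShape.up ℤ) 0 (𝟙_ (ModuleCat.{u} R))).inv) ≫
      ιTensorObj C (𝟙_ (Cx R)) n 0 n (add_zero n) := rightUnitor'_inv C n
  unfold tsProj
  rw [HomologicalComplex.comp_f, h, Category.assoc, Category.assoc, Category.assoc]
  erw [ι_whiskerLeft_assoc]
  rw [ι_tsπ_zero, ← MonoidalCategory.whiskerLeft_comp, ← MonoidalCategory.whiskerLeft_comp,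
    HomologicalComplex.single_map_f_self, Category.assoc, Category.assoc, Iso.inv_hom_id,
    Category.comp_id, Iso.inv_hom_id_assoc]

end tensSingle

open scoped TensorProduct

variable {A : Type u} [CommRing A] (I : Ideal A)

/-- `x ↦ x ⊗ 1 : M → M ⊗ A/I^n` -/
noncomputable def etaLin (n : ℕ) (M : Type u) [AddCommGroup M] [Module A M] :
    M →ₗ[A] M ⊗[A] (A ⧸ (I ^ n • ⊤ : Submodule A A)) :=
  (TensorProduct.mk A M (A ⧸ (I ^ n • ⊤ : Submodule A A))).flip ((I ^ n • ⊤ : Submodule A A).mkQ 1)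

lemma etaLin_eq_zero_iff (n : ℕ) (M : Type u) [AddCommGroup M] [Module A M] (y : M) :
    etaLin I n M y = 0 ↔ y ∈ (I ^ n • ⊤ : Submodule A M) := by
  have hJ : ((I ^ n • ⊤ : Submodule A A) : Ideal A) • (⊤ : Submodule A M) = I ^ n • ⊤ := by
    have : ((I ^ n • ⊤ : Submodule A A) : Ideal A) = I ^ n := by
      rw [Ideal.smul_eq_mul, Ideal.mul_top]
    rw [this]
  have h1 : TensorProduct.tensorQuotEquivQuotSMul M ((I ^ n • ⊤ : Submodule A A) : Ideal A)
      (etaLin I n M y) = Submodule.Quotient.mk y := by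
    have := TensorProduct.tensorQuotEquivQuotSMul_tmul_mk (M := M)
      ((I ^ n • ⊤ : Submodule A A) : Ideal A) y 1
    rw [one_smul] at this
    exact this
  rw [← (TensorProduct.tensorQuotEquivQuotSMul M ((I ^ n • ⊤ : Submodule A A) : Ideal A)).map_eq_zero_iff,
    h1, Submodule.Quotient.mk_eq_zero, hJ]

lemma etaLin_surjective (n : ℕ) (M : Type u) [AddCommGroup M] [Module A M] :
    Function.Surjective (etaLin I n M) := by
  intro z
  induction z using TensorProduct.induction_on with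
  | zero => exact ⟨0, map_zero _⟩
  | tmul x q =>
    obtain ⟨a, rfl⟩ := Submodule.mkQ_surjective _ q
    refine ⟨a • x, ?_⟩
    change (a • x) ⊗ₜ[A] ((I ^ n • ⊤ : Submodule A A).mkQ 1) = x ⊗ₜ[A] ((I ^ n • ⊤ : Submodule A A).mkQ a)
    have h1 : a • (1 : A) = a := by rw [smul_eq_mul, mul_one]
    rw [TensorProduct.smul_tmul, ← map_smul, h1]
  | add z₁ z₂ h₁ h₂ =>
    obtain ⟨y₁, rfl⟩ := h₁
    obtain ⟨y₂, rfl⟩ := h₂
    exact ⟨y₁ + y₂, map_add _ _ _⟩

/-- the quotient module `A/I^n` -/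
noncomputable abbrev Sq (n : ℕ) : ModuleCat.{u} A :=
  ModuleCat.of A (A ⧸ (I ^ n • ⊤ : Submodule A A))

/-- the unit element `A ⟶ A/I^n` -/
noncomputable abbrev u₀ (n : ℕ) : 𝟙_ (ModuleCat.{u} A) ⟶ Sq I n :=
  ModuleCat.ofHom (I ^ n • ⊤ : Submodule A A).mkQ

/-- the projection `K ⟶ K ⊗ (A/I^n)[0]` -/
noncomputable abbrev prK (n : ℕ) (K : Cx A) : K ⟶ K ⊗ sgl (Sq I n) :=
  tsProj K (Sq I n) (u₀ I n)

lemma eta_eq (n : ℕ) (M : ModuleCat.{u} A) :
    (ρ_ M).inv ≫ M ◁ u₀ I n = ModuleCat.ofHom (etaLin I n M) := by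
  ext x
  rfl

lemma pwKι_prK (n : ℕ) (K : Cx A) : pwKι I n K ≫ prK I n K = 0 := by
  ext i : 1
  rw [HomologicalComplex.comp_f, HomologicalComplex.zero_f,
    ← cancel_mono (tsIso K (Sq I n) i).hom, zero_comp, Category.assoc]
  change _ ≫ (tsProj K (Sq I n) (u₀ I n)).f i ≫ tsπ K (Sq I n) i = 0
  rw [tsProj_f_tsπ, eta_eq]
  ext x
  exact (etaLin_eq_zero_iff I n _ x.1).2 x.2

lemma ses_shortExact (n : ℕ) (K : Cx A) :
    (ShortComplex.mk (pwKι I n K) (prK I n K) (pwKι_prK I n K)).ShortExact := by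
  apply HomologicalComplex.shortExact_of_degreewise_shortExact
  intro i
  have hw : (pwι I n).app (K.X i) ≫ ModuleCat.ofHom (etaLin I n (K.X i)) = 0 := by
    ext x
    exact (etaLin_eq_zero_iff I n _ x.1).2 x.2
  have hS' : (ShortComplex.mk ((pwι I n).app (K.X i)) (ModuleCat.ofHom (etaLin I n (K.X i))) hw).ShortExact := by
    refine ModuleCat.shortComplex_shortExact _ ?_ ?_ ?_
    · intro y
      change etaLin I n (K.X i) y = 0 ↔ y ∈ Set.range (I ^ n • ⊤ : Submodule A (K.X i)).subtype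
      rw [etaLin_eq_zero_iff]
      constructor
      · intro h; exact ⟨⟨y, h⟩, rfl⟩
      · rintro ⟨z, rfl⟩; exact z.2
    · exact (I ^ n • ⊤ : Submodule A (K.X i)).injective_subtype
    · exact etaLin_surjective I n (K.X i)
  have e : ShortComplex.mk ((pwι I n).app (K.X i)) (ModuleCat.ofHom (etaLin I n (K.X i))) hw ≅
      (ShortComplex.mk (pwKι I n K) (prK I n K) (pwKι_prK I n K)).map
        (HomologicalComplex.eval _ _ i) := by
    refine ShortComplex.isoMk (Iso.refl _) (Iso.refl _) (tsIso K (Sq I n) i).symm ?_ ?_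
    · exact (Category.id_comp ((pwι I n).app (K.X i))).trans
        (Category.comp_id ((pwι I n).app (K.X i))).symm
    · refine (Category.id_comp _).trans ?_
      change (tsProj K (Sq I n) (u₀ I n)).f i =
        ModuleCat.ofHom (etaLin I n (K.X i)) ≫ tsι K (Sq I n) i
      rw [← eta_eq, ← tsProj_f_tsπ, Category.assoc, tsπ_tsι, Category.comp_id]
  exact ShortComplex.shortExact_of_iso e hS'

/-- bounded complexes with finite terms -/
def BF (K : Cx A) : Prop :=
  (∃ a b : ℤ, ∀ i, i < a ∨ b < i → IsZero (K.X i)) ∧ ∀ i, Module.Finite A (K.X i)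

lemma BF.pwK [IsNoetherianRing A] {K : Cx A} (h : BF K) (n : ℕ) : BF (pwK I n K) := by
  obtain ⟨⟨a, b, hab⟩, hfin⟩ := h
  refine ⟨⟨a, b, fun i hi => (pwF I n).map_isZero (hab i hi)⟩, fun i => ?_⟩
  have := hfin i
  change Module.Finite A ↥(I ^ n • ⊤ : Submodule A (K.X i))
  infer_instance

theorem vlk_of_BF [IsNoetherianRing A] {K : Cx A} (h : BF K) : VLK I K := by
  obtain ⟨⟨a, b, hab⟩, hfin⟩ := h
  refine vlk_of_bounded I (b - a + 1).toNat K b (fun i hi => hab i ?_) hfin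
  rcases hi with hi | hi
  · by_cases h0 : 0 ≤ b - a + 1
    · left
      rw [Int.toNat_of_nonneg h0] at hi
      lia
    · left
      rw [Int.toNat_of_nonpos (by lia)] at hi
      push_cast at hi
      lia
  · right; exact hi

/-- the transition `A/I^m ⟶ A/I^n` for `n ≤ m` -/
noncomputable abbrev trS {n m : ℕ} (h : n ≤ m) : Sq I m ⟶ Sq I n :=
  ModuleCat.ofHom (Submodule.factor
    (Submodule.smul_mono_left (Ideal.pow_le_pow_right h) :
      (I ^ m • ⊤ : Submodule A A) ≤ I ^ n • ⊤))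

/-- the transition `K ⊗ A/I^m ⟶ K ⊗ A/I^n` -/
noncomputable abbrev trY {n m : ℕ} (h : n ≤ m) (K : Cx A) : K ⊗ sgl (Sq I m) ⟶ K ⊗ sgl (Sq I n) :=
  K ◁ (HomologicalComplex.single (ModuleCat.{u} A) (ComplexShape.up ℤ) 0).map (trS I h)

lemma u₀_trS {n m : ℕ} (h : n ≤ m) : u₀ I m ≫ trS I h = u₀ I n := by
  ext
  rfl

lemma prK_trY {n m : ℕ} (h : n ≤ m) (K : Cx A) : prK I m K ≫ trY I h K = prK I n K := by
  unfold prK trY tsProj
  rw [Category.assoc, ← MonoidalCategory.whiskerLeft_comp, ← Functor.map_comp, u₀_trS]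

/-- the morphism of short exact sequences for `n ≤ n + k` -/
noncomputable def sesMap (n k : ℕ) (K : Cx A) :
    ShortComplex.mk (pwKι I (n + k) K) (prK I (n + k) K) (pwKι_prK I (n + k) K) ⟶
      ShortComplex.mk (pwKι I n K) (prK I n K) (pwKι_prK I n K) where
  τ₁ := pwKFac I n k K ≫ pwKι I k (pwK I n K)
  τ₂ := 𝟙 K
  τ₃ := trY I (Nat.le_add_right n k) K
  comm₁₂ := by
    dsimp
    rw [Category.assoc, pwKFac_ι, Category.comp_id]
  comm₂₃ := by
    dsimp
    rw [Category.id_comp, prK_trY]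

/-- (Y1): maps to torsion objects factor through some `K/I^n K` -/
theorem exists_factor_prK [IsNoetherianRing A] {K : Cx A} (hK : BF K) (T : Dual.D A) (hT : WT I T)
    (c : Q.obj K ⟶ T) :
    ∃ (n : ℕ) (ψ : Q.obj (K ⊗ sgl (Sq I n)) ⟶ T), Q.map (prK I n K) ≫ ψ = c := by
  obtain ⟨n, hn⟩ := vlk_of_BF I hK T hT c
  have hTri := DerivedCategory.triangleOfSES_distinguished (ses_shortExact I n K)
  obtain ⟨ψ, hψ⟩ := Triangle.yoneda_exact₂ _ hTri c hn
  exact ⟨n, ψ, hψ.symm⟩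

lemma WT.shift {T : Dual.D A} (hT : WT I T) (j : ℤ) : WT I (T⟦j⟧) := by
  obtain ⟨N, hN⟩ := hT
  exact ⟨N, fun f hf => smul_id_shift_eq_zero T j f (hN f hf)⟩

/-- (Y2): maps out of `K/I^n K` killed by `K` die further out -/
theorem exists_trY_comp_eq_zero [IsNoetherianRing A] {K : Cx A} (hK : BF K) (T : Dual.D A) (hT : WT I T)
    (n : ℕ) (ψ : Q.obj (K ⊗ sgl (Sq I n)) ⟶ T) (hψ : Q.map (prK I n K) ≫ ψ = 0) :
    ∃ k : ℕ, Q.map (trY I (Nat.le_add_right n k) K) ≫ ψ = 0 := by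
  have hTri := DerivedCategory.triangleOfSES_distinguished (ses_shortExact I n K)
  obtain ⟨ψ', hψ'⟩ : ∃ ψ' : (Q.obj (pwK I n K))⟦(1 : ℤ)⟧ ⟶ T,
      ψ = DerivedCategory.triangleOfSESδ (ses_shortExact I n K) ≫ ψ' :=
    Triangle.yoneda_exact₃ _ hTri ψ hψ
  obtain ⟨k, hk⟩ := vlk_of_BF I (hK.pwK I n) (T⟦(-1 : ℤ)⟧) (hT.shift I (-1))
    ((shiftFunctorCompIsoId (Dual.D A) 1 (-1) (by lia)).inv.app (Q.obj (pwK I n K)) ≫ ψ'⟦(-1 : ℤ)⟧')
  have hk' : (Q.map (pwKι I k (pwK I n K)))⟦(1 : ℤ)⟧' ≫ ψ' = 0 :=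
    comp_eq_zero_of_shift 1 _ ψ' hk
  refine ⟨k, ?_⟩
  have hnat := DerivedCategory.triangleOfSESδ_naturality (ses_shortExact I (n + k) K)
    (ses_shortExact I n K) (sesMap I n k K)
  have hτ₁ : (sesMap I n k K).τ₁ = pwKFac I n k K ≫ pwKι I k (pwK I n K) := rfl
  have hτ₃ : (sesMap I n k K).τ₃ = trY I (Nat.le_add_right n k) K := rfl
  rw [hτ₁, hτ₃] at hnat
  rw [hψ', ← Category.assoc, ← hnat, Category.assoc, Functor.map_comp, Functor.map_comp,
    Category.assoc, hk', comp_zero, comp_zero]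

end Groth.Agent.Lib.Seat80.ProC
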