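import Mathlib
import Groth.Agent.Lib.Seat80ProB
import Groth.Agent.Lib.Seat80ProC0
import Groth.Agent.Lib.Seat80ExtAR2
import Groth.Prelude.Def_DTen
import Groth.Prelude.Def_DerCA
import Groth.Prelude.Def_ega3

set_option autoImplicit false
set_option linter.unusedSectionVars false
universe u
open CategoryTheory CategoryTheory.Limits MonoidalCategory Pretriangulated DerivedCategory HomologicalComplex
attribute [local instance] HasDerivedCategory.standard

namespace Groth.Agent.Lib.Seat80.ProD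

open Groth.Agent.Lib.Seat80.Obstr Groth.Agent.Lib.Seat80.ProA Groth.Agent.Lib.Seat80.ProB
  Groth.Agent.Lib.Seat80.ProC Groth.Agent.Lib.Seat80.ExtAR2
open Groth.Agent.Lib.Helper1.KF Groth.Agent.Lib.Helper1.DT

variable {A : Type u} [CommRing A] (I : Ideal A)

lemma pow_smul_top_le (m k : ℕ) :
    (I ^ (m + k) • ⊤ : Submodule A A) ≤ I ^ m • ⊤ :=
  Submodule.smul_mono_left (Ideal.pow_le_pow_right (Nat.le_add_right m k))

/-- the X-side injectivity statement -/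
theorem xinj [IsNoetherianRing A] (Φ : Dual.D A ⥤ Dual.D A) (hΦ : CWE Φ) (hΦ' : SL Φ)
    (T : Dual.D A) (hT : WT I T) (m : ℕ)
    (δ : Φ.obj (Dual.inD A (A ⧸ (I ^ m • ⊤ : Submodule A A))) ⟶ T)
    (h : Φ.map ((DerivedCategory.singleFunctor (ModuleCat.{u} A) 0).map
        (ModuleCat.ofHom (I ^ m • ⊤ : Submodule A A).mkQ)) ≫ δ = 0) :
    ∃ k : ℕ, Φ.map ((DerivedCategory.singleFunctor (ModuleCat.{u} A) 0).map
        (ModuleCat.ofHom (Submodule.mapQ (I ^ (m + k) • ⊤ : Submodule A A) (I ^ m • ⊤)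
          (LinearMap.id : A →ₗ[A] A) (by simpa using pow_smul_top_le I m k)))) ≫ δ = 0 := by
  obtain ⟨N₀, hN₀⟩ := hT
  have hTr := rot_of_distTriang _ (Tr_dist (A := A) (M := A) (I ^ m • ⊤ : Submodule A A))
  obtain ⟨ψ, hψ⟩ : ∃ ψ : Φ.obj ((Dual.inD A ↥(I ^ m • ⊤ : Submodule A A))⟦(1 : ℤ)⟧) ⟶ T,
      Φ.map (Groth.Agent.Lib.Seat80.ExtAR2.δ (I ^ m • ⊤ : Submodule A A)) ≫ ψ = δ :=
    hΦ _ hTr T δ h
  obtain ⟨k, hk⟩ := vl_shift I N₀ ↥(I ^ m • ⊤ : Submodule A A) 1 Φ hΦ hΦ' T hN₀ ψ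
  refine ⟨k, ?_⟩
  have hcomm := Tr_comm₃ (A := A) (M := A) (pow_smul_top_le I m k)
  have hfac : (DerivedCategory.singleFunctor (ModuleCat.{u} A) 0).map
      (ModuleCat.ofHom (Submodule.inclusion (pow_smul_top_le I m k))) =
      (DerivedCategory.singleFunctor (ModuleCat.{u} A) 0).map (ModuleCat.ofHom (pwFacLin I m k A)) ≫
        incl I ↥(I ^ m • ⊤ : Submodule A A) k := by
    rw [← Functor.map_comp]
    congr 1
    ext x
    exact (pwFacLin_val I m k A x).symm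
  rw [← hψ, ← Category.assoc, ← Functor.map_comp, ← hcomm, hfac, Functor.map_comp, Functor.map_comp,
    Functor.map_comp, Category.assoc, Category.assoc, hk, comp_zero, comp_zero]

lemma smul_id_whiskerLeft (Y X₀ : Cx A) (f : A) :
    Y ◁ (f • 𝟙 X₀) = f • 𝟙 (Y ⊗ X₀) := by
  refine HomologicalComplex.hom_ext _ _ (fun n => ?_)
  apply tensor_hom_ext
  intro p q hpq
  rw [ι_whiskerLeft]
  have h1 : (f • 𝟙 X₀).f q = f • 𝟙 (X₀.X q) := rfl
  have h2 : (f • 𝟙 (Y ⊗ X₀)).f n = f • 𝟙 ((Y ⊗ X₀).X n) := rfl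
  rw [h1, h2, MonoidalLinear.whiskerLeft_smul, whiskerLeft_id, Linear.smul_comp, Linear.comp_smul,
    Category.id_comp]
  erw [Category.comp_id]

lemma smul_id_Sq (n : ℕ) (f : A) (hf : f ∈ I ^ n) : f • 𝟙 (Sq I n) = 0 := by
  apply ModuleCat.hom_ext
  apply LinearMap.ext
  intro x
  obtain ⟨y, rfl⟩ := Submodule.mkQ_surjective _ x
  change f • (Submodule.mkQ (I ^ n • ⊤ : Submodule A A) y) = 0
  rw [← map_smul, Submodule.mkQ_apply, Submodule.Quotient.mk_eq_zero]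
  exact Submodule.smul_mem_smul hf Submodule.mem_top

lemma smul_id_sgl (N : ModuleCat.{u} A) (f : A) (hf : f • 𝟙 N = 0) : f • 𝟙 (sgl N) = 0 := by
  apply HomologicalComplex.from_single_hom_ext
  change f • 𝟙 ((sgl N).X 0) = 0
  have e := HomologicalComplex.singleObjXSelf (ComplexShape.up ℤ) (0 : ℤ) N
  have : f • 𝟙 ((sgl N).X 0) = e.hom ≫ (f • 𝟙 N) ≫ e.inv := by
    rw [Linear.smul_comp, Linear.comp_smul, Category.id_comp, e.hom_inv_id]
  rw [this, hf, zero_comp, comp_zero]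


lemma trS_comp {n m l : ℕ} (h₁ : n ≤ m) (h₂ : m ≤ l) :
    trS I h₂ ≫ trS I h₁ = trS I (h₁.trans h₂) := by
  apply ModuleCat.hom_ext
  apply LinearMap.ext
  intro x
  obtain ⟨y, rfl⟩ := Submodule.mkQ_surjective _ x
  rfl

lemma trY_comp {n m l : ℕ} (h₁ : n ≤ m) (h₂ : m ≤ l) (K : Cx A) :
    trY I h₂ K ≫ trY I h₁ K = trY I (h₁.trans h₂) K := by
  unfold trY
  rw [← MonoidalCategory.whiskerLeft_comp, ← Functor.map_comp, trS_comp]

lemma wt_Y (K : Cx A) (n : ℕ) : WT I (Q.obj (K ⊗ sgl (Sq I n))) := by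
  refine ⟨n, fun f hf => ?_⟩
  have : f • 𝟙 (Q.obj (K ⊗ sgl (Sq I n))) = Q.map (f • 𝟙 (K ⊗ sgl (Sq I n))) := by
    rw [Functor.map_smul, CategoryTheory.Functor.map_id]
  have hz : K ◁ (0 : sgl (Sq I n) ⟶ sgl (Sq I n)) = 0 := (tensorLeft K).map_zero _ _
  rw [this, ← smul_id_whiskerLeft, smul_id_sgl _ f (smul_id_Sq I n f hf), hz, Functor.map_zero]

variable [DTen.HasLTen A]

/-- the derived side -/
noncomputable abbrev Xn (K : Cx A) (n : ℕ) : Dual.D A :=
  ((DTen.LTen A).obj (Q.obj K)).obj (Q.obj (sgl (Sq I n)))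

noncomputable abbrev trX (K : Cx A) {n m : ℕ} (h : n ≤ m) : Xn I K m ⟶ Xn I K n :=
  ((DTen.LTen A).obj (Q.obj K)).map
    (Q.map ((HomologicalComplex.single (ModuleCat.{u} A) (ComplexShape.up ℤ) 0).map (trS I h)))

noncomputable abbrev an (K : Cx A) (n : ℕ) : Xn I K n ⟶ Q.obj (K ⊗ sgl (Sq I n)) :=
  (DTen.ε A).app (K, sgl (Sq I n))

lemma trX_comp (K : Cx A) {n m l : ℕ} (h₁ : n ≤ m) (h₂ : m ≤ l) :
    trX I K h₂ ≫ trX I K h₁ = trX I K (h₁.trans h₂) := by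
  unfold trX
  rw [← Functor.map_comp, ← Functor.map_comp, ← Functor.map_comp, trS_comp]

lemma an_naturality (K : Cx A) {n m : ℕ} (h : n ≤ m) :
    trX I K h ≫ an I K n = an I K m ≫ Q.map (trY I h K) :=
  (DTen.εLeft A K).naturality
    ((HomologicalComplex.single (ModuleCat.{u} A) (ComplexShape.up ℤ) 0).map (trS I h))

lemma wt_X (K : Cx A) (n : ℕ) : WT I (Xn I K n) := by
  refine ⟨n, fun f hf => ?_⟩
  have h0 : f • 𝟙 (Q.obj (sgl (Sq I n))) = 0 := by
    have : f • 𝟙 (Q.obj (sgl (Sq I n))) = Q.map (f • 𝟙 (sgl (Sq I n))) := by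
      rw [Functor.map_smul, CategoryTheory.Functor.map_id]
    rw [this, smul_id_sgl _ f (smul_id_Sq I n f hf), Functor.map_zero]
  have h1 := sl_obj (Q.obj K) (Q.obj (sgl (Sq I n))) f
  rw [h0, (sl_obj (Q.obj K)).map_zero] at h1
  exact h1.symm


/-- the canonical maps `Q K ⟶ K ⊗^L A/I^n` -/
theorem exists_cn (K : Cx A) : ∃ c : ∀ n : ℕ, Q.obj K ⟶ Xn I K n,
    (∀ n, c n ≫ an I K n = Q.map (prK I n K)) ∧
    (∀ (n m : ℕ) (h : n ≤ m), c m ≫ trX I K h = c n) ∧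
    (∀ (n : ℕ) (T : Dual.D A) (δ : Xn I K n ⟶ T), c n ≫ δ = 0 →
      ((DTen.LTen A).obj (Q.obj K)).map (Q.map
        ((HomologicalComplex.single (ModuleCat.{u} A) (ComplexShape.up ℤ) 0).map (u₀ I n))) ≫ δ = 0) := by
  have hiso : IsIso ((DTen.ε A).app (K, 𝟙_ (Cx A))) :=
    isIso_ε_of_kflat K (𝟙_ (Cx A)) (Or.inr Groth.Agent.Lib.Seat63.DTenUnitShift.kflat_unit)
  obtain ⟨e₀, he₀⟩ : ∃ e₀ : ((DTen.LTen A).obj (Q.obj K)).obj (Q.obj (𝟙_ (Cx A))) ≅ Q.obj (K ⊗ 𝟙_ (Cx A)),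
      e₀.hom = (DTen.ε A).app (K, 𝟙_ (Cx A)) := ⟨asIso ((DTen.ε A).app (K, 𝟙_ (Cx A))), rfl⟩
  refine ⟨fun n => Q.map (ρ_ K).inv ≫ e₀.inv ≫ ((DTen.LTen A).obj (Q.obj K)).map (Q.map
        ((HomologicalComplex.single (ModuleCat.{u} A) (ComplexShape.up ℤ) 0).map (u₀ I n))), ?_, ?_, ?_⟩
  · intro n
    have hnat : ((DTen.LTen A).obj (Q.obj K)).map (Q.map
        ((HomologicalComplex.single (ModuleCat.{u} A) (ComplexShape.up ℤ) 0).map (u₀ I n))) ≫ an I K n =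
        e₀.hom ≫ Q.map (K ◁ (HomologicalComplex.single (ModuleCat.{u} A) (ComplexShape.up ℤ) 0).map (u₀ I n)) := by
      rw [he₀]
      exact (DTen.εLeft A K).naturality
        ((HomologicalComplex.single (ModuleCat.{u} A) (ComplexShape.up ℤ) 0).map (u₀ I n))
    rw [Category.assoc, Category.assoc, hnat, e₀.inv_hom_id_assoc, ← Functor.map_comp]
    rfl
  · intro n m h
    rw [Category.assoc, Category.assoc]
    unfold trX
    rw [← Functor.map_comp, ← Functor.map_comp, ← Functor.map_comp, u₀_trS]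
  · intro n T δ h
    rw [Category.assoc, Category.assoc] at h
    have h1 : IsIso (Q.map (ρ_ K).inv) := inferInstance
    have h2 := (cancel_epi (Q.map (ρ_ K).inv)).1 (h.trans (comp_zero (f := Q.map (ρ_ K).inv)).symm)
    exact (cancel_epi e₀.inv).1 (h2.trans (comp_zero (f := e₀.inv)).symm)


/-- the pro-isomorphism statement, in terms of the systems `Xn`, `Yn` -/
theorem main_pro [IsNoetherianRing A] {K : Cx A} (hK : BF K) (n : ℕ) :
    ∃ (m : ℕ) (h : n ≤ m) (b : Q.obj (K ⊗ sgl (Sq I m)) ⟶ Xn I K n),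
      an I K m ≫ b = trX I K h ∧ b ≫ an I K n = Q.map (trY I h K) := by
  obtain ⟨c, hc1, hc2, hc3⟩ := exists_cn I K
  -- (Y1)
  obtain ⟨m₀, h₀, hh₀⟩ := exists_factor_prK I hK (Xn I K n) (wt_X I K n) (c n)
  -- enlarge to `m ≥ n`
  obtain ⟨m, hnm, hm₀m⟩ : ∃ m : ℕ, n ≤ m ∧ m₀ ≤ m := ⟨max n m₀, le_max_left _ _, le_max_right _ _⟩
  obtain ⟨h, hh⟩ : ∃ h : Q.obj (K ⊗ sgl (Sq I m)) ⟶ Xn I K n, Q.map (prK I m K) ≫ h = c n := by
    refine ⟨Q.map (trY I hm₀m K) ≫ h₀, ?_⟩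
    rw [← Category.assoc, ← Functor.map_comp, prK_trY, hh₀]
  -- (X2)
  have hδ : c m ≫ (an I K m ≫ h - trX I K hnm) = 0 := by
    rw [Preadditive.comp_sub, ← Category.assoc, hc1, hh, hc2, sub_self]
  obtain ⟨k, hk⟩ := xinj I ((DTen.LTen A).obj (Q.obj K)) (cwe_obj _) (sl_obj _) (Xn I K n)
    (wt_X I K n) m (an I K m ≫ h - trX I K hnm) (hc3 m _ _ hδ)
  have hk' : trX I K (Nat.le_add_right m k) ≫ an I K m ≫ h =
      trX I K (hnm.trans (Nat.le_add_right m k)) := by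
    have : trX I K (Nat.le_add_right m k) ≫ (an I K m ≫ h - trX I K hnm) = 0 := hk
    rw [Preadditive.comp_sub, sub_eq_zero, trX_comp] at this
    exact this
  -- (Y2)
  have hψ : Q.map (prK I m K) ≫ (h ≫ an I K n - Q.map (trY I hnm K)) = 0 := by
    rw [Preadditive.comp_sub, ← Category.assoc, hh, hc1, ← Functor.map_comp, prK_trY, sub_self]
  obtain ⟨k', hk'0⟩ := exists_trY_comp_eq_zero I hK (Q.obj (K ⊗ sgl (Sq I n))) (wt_Y I K n) m _ hψ
  have hk'' : Q.map (trY I (Nat.le_add_right m k') K) ≫ h ≫ an I K n =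
      Q.map (trY I (hnm.trans (Nat.le_add_right m k')) K) := by
    rw [Preadditive.comp_sub, sub_eq_zero, ← Functor.map_comp, trY_comp] at hk'0
    exact hk'0
  -- assemble
  have hM1 : m + k ≤ m + max k k' := Nat.add_le_add_left (le_max_left _ _) m
  have hM2 : m + k' ≤ m + max k k' := Nat.add_le_add_left (le_max_right _ _) m
  have hM : m ≤ m + max k k' := Nat.le_add_right _ _
  refine ⟨m + max k k', hnm.trans hM, Q.map (trY I hM K) ≫ h, ?_, ?_⟩
  · rw [← Category.assoc, ← an_naturality, Category.assoc,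
      ← trX_comp I K (Nat.le_add_right m k) hM1, Category.assoc, hk', trX_comp]
  · rw [Category.assoc, ← trY_comp I (Nat.le_add_right m k') hM2 K, Functor.map_comp, Category.assoc,
      hk'', ← Functor.map_comp, trY_comp]

lemma trS_self (n : ℕ) : trS I (le_refl n) = 𝟙 (Sq I n) := by
  apply ModuleCat.hom_ext
  apply LinearMap.ext
  intro x
  obtain ⟨y, rfl⟩ := Submodule.mkQ_surjective _ x
  rfl

lemma adicSystem_map_succ (m : ℕ) :
    (CohIII.adicSystem I (ModuleCat.of A A)).map (homOfLE (Nat.le_add_right m 1)).op =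
      trS I (Nat.succ_le_succ (Nat.le_add_right m 1)) := by
  unfold CohIII.adicSystem
  rw [Functor.ofOpSequence_map_homOfLE_succ]

lemma adicSystem_map {n m : ℕ} (h : n ≤ m) :
    (CohIII.adicSystem I (ModuleCat.of A A)).map (homOfLE h).op = trS I (Nat.succ_le_succ h) := by
  induction m, h using Nat.le_induction with
  | base =>
    have : (homOfLE (le_refl n)).op = 𝟙 (Opposite.op n) := rfl
    rw [this, CategoryTheory.Functor.map_id]
    exact (trS_self I (n + 1)).symm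
  | succ m h ih =>
    have : (homOfLE (h.trans (Nat.le_succ m))).op =
        (homOfLE (Nat.le_add_right m 1)).op ≫ (homOfLE h).op := rfl
    rw [this, Functor.map_comp, ih, adicSystem_map_succ]
    exact trS_comp I _ _

/-- S13579: the pro-isomorphism `K ⊗^L A/I^{n+1} ⟶ K ⊗ A/I^{n+1}` -/
theorem main13579 [IsNoetherianRing A] (K : DRing.Cx A) (a b : ℤ)
    (hK : DRing.VanishesOutside K a b) (hKf : ∀ i : ℤ, Module.Finite A (K.X i)) :
    DerCA.IsProIso (Functor.whiskerLeft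
      (CohIII.adicSystem I (ModuleCat.of A A) ⋙
        HomologicalComplex.single (ModuleCat.{u} A) (ComplexShape.up ℤ) 0)
      (DTen.εLeft A K)) := by
  have hBF : BF K := ⟨⟨a, b, hK⟩, hKf⟩
  intro n
  obtain ⟨m', h', b', hb1, hb2⟩ := main_pro I hBF (n + 1)
  obtain ⟨m, rfl⟩ : ∃ m : ℕ, m' = m + 1 := ⟨m' - 1, by omega⟩
  have hnm : n ≤ m := Nat.le_of_succ_le_succ h'
  refine ⟨m, hnm, b', ?_, ?_⟩
  · refine Eq.trans hb1 ?_
    change _ = ((DTen.LTen A).obj (Q.obj K)).map (Q.map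
      ((HomologicalComplex.single (ModuleCat.{u} A) (ComplexShape.up ℤ) 0).map
        ((CohIII.adicSystem I (ModuleCat.of A A)).map (homOfLE hnm).op)))
    rw [adicSystem_map]
    rfl
  · refine Eq.trans hb2 ?_
    change _ = Q.map (K ◁ (HomologicalComplex.single (ModuleCat.{u} A) (ComplexShape.up ℤ) 0).map
        ((CohIII.adicSystem I (ModuleCat.of A A)).map (homOfLE hnm).op))
    rw [adicSystem_map]
    rfl

end Groth.Agent.Lib.Seat80.ProD
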