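/-
Seat80: separable degree of the residue field of a finite local `k`-algebra `A` equals the sum, over
the maximal ideals of `k' ⊗ A`, of the separable degrees of their residue fields over `k'`.
Proof by counting algebra maps into an algebraic closure `Ω` of `k'`:
`Hom_k(κ, Ω) = Hom_k(A, Ω) = Hom_k'(k' ⊗ A, Ω) = ⨆_m' Hom_k'(κ(m'), Ω)`.
-/
import Mathlib
set_option autoImplicit false
universe u
open TensorProduct

namespace Groth.Agent.Lib.Seat80.SepDegSum

/-- `k'`-algebra maps from a finite `k'`-algebra `B` to a field `Ω` decompose over the maximal ideals. -/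
theorem card_algHom_eq_sum (k' B Ω : Type u) [Field k'] [CommRing B] [Algebra k' B] [Module.Finite k' B]
    [Field Ω] [Algebra k' Ω] :
    Nat.card (B →ₐ[k'] Ω) = ∑ᶠ m : MaximalSpectrum B,
      Nat.card (IsLocalRing.ResidueField (Localization.AtPrime m.asIdeal) →ₐ[k'] Ω) := by
  classical
  have hart : IsArtinianRing B := IsArtinianRing.of_finite k' B
  have hfin : Finite (MaximalSpectrum B) := inferInstance
  have : Fintype (MaximalSpectrum B) := Fintype.ofFinite _
  let Θ : (Σ m : MaximalSpectrum B, (m.asIdeal.ResidueField →ₐ[k'] Ω)) → (B →ₐ[k'] Ω) :=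
    fun x => x.2.comp (IsScalarTower.toAlgHom k' B x.1.asIdeal.ResidueField)
  have hker : ∀ x : (Σ m : MaximalSpectrum B, (m.asIdeal.ResidueField →ₐ[k'] Ω)),
      RingHom.ker (Θ x) = x.1.asIdeal := by
    intro x
    ext a
    rw [RingHom.mem_ker]
    change x.2 (algebraMap B x.1.asIdeal.ResidueField a) = 0 ↔ _
    rw [map_eq_zero_iff x.2 (RingHom.injective x.2.toRingHom), ← RingHom.mem_ker, Ideal.ker_algebraMap_residueField]
  have hΘ : Function.Bijective Θ := by
    constructor
    · rintro ⟨m₁, ψ₁⟩ ⟨m₂, ψ₂⟩ h
      have h1 := hker ⟨m₁, ψ₁⟩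
      have h2 := hker ⟨m₂, ψ₂⟩
      rw [h] at h1
      have hm : m₁ = m₂ := MaximalSpectrum.ext (h1.symm.trans h2)
      subst hm
      congr 1
      apply Ideal.ResidueField.algHom_ext
      exact h
    · intro φ
      have hprime : (RingHom.ker φ).IsPrime := RingHom.ker_isPrime φ
      have hmax : (RingHom.ker φ).IsMaximal := IsArtinianRing.isMaximal_of_isPrime _
      refine ⟨⟨⟨RingHom.ker φ, hmax⟩, Ideal.ResidueField.liftₐ (RingHom.ker φ) φ le_rfl ?_⟩, ?_⟩
      · intro a ha
        change IsUnit (φ a)
        rw [isUnit_iff_ne_zero]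
        exact ha
      · exact Ideal.ResidueField.liftₐ_comp_toAlgHom _ _ _ _
  rw [finsum_eq_sum_of_fintype, ← Nat.card_congr (Equiv.ofBijective Θ hΘ)]
  have hfib : ∀ m : MaximalSpectrum B, Finite (m.asIdeal.ResidueField →ₐ[k'] Ω) := by
    intro m
    have := m.isMaximal
    have : Module.Finite k' m.asIdeal.ResidueField := Module.Finite.trans B _
    infer_instance
  rw [Nat.card_sigma]

/-- `k`-algebra maps from an Artinian local `k`-algebra to a field factor through the residue field. -/
theorem card_algHom_residueField (k A Ω : Type u) [Field k] [CommRing A] [Algebra k A]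
    [Module.Finite k A] [IsLocalRing A] [Field Ω] [Algebra k Ω] :
    Nat.card (IsLocalRing.ResidueField A →ₐ[k] Ω) = Nat.card (A →ₐ[k] Ω) := by
  have hart : IsArtinianRing A := IsArtinianRing.of_finite k A
  let Θ : (IsLocalRing.ResidueField A →ₐ[k] Ω) → (A →ₐ[k] Ω) :=
    fun ψ => ψ.comp (IsScalarTower.toAlgHom k A (IsLocalRing.ResidueField A))
  have hΘ : Function.Bijective Θ := by
    constructor
    · intro ψ₁ ψ₂ h
      ext x
      obtain ⟨a, rfl⟩ := IsLocalRing.residue_surjective x
      exact congrArg (fun f => f a) h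
    · intro φ
      have hprime : (RingHom.ker φ).IsPrime := RingHom.ker_isPrime φ
      have hmax : (RingHom.ker φ).IsMaximal := IsArtinianRing.isMaximal_of_isPrime _
      have hker : RingHom.ker φ = IsLocalRing.maximalIdeal A := IsLocalRing.eq_maximalIdeal hmax
      refine ⟨Ideal.Quotient.liftₐ (IsLocalRing.maximalIdeal A) φ (fun a ha => ?_), ?_⟩
      · rw [← hker] at ha; exact ha
      · ext a
        rfl
  exact Nat.card_congr (Equiv.ofBijective Θ hΘ)

theorem main (k A k' : Type u) [Field k] [CommRing A] [Algebra k A]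
    [Module.Finite k A] [IsLocalRing A] [Field k'] [Algebra k k'] :
    Field.finSepDegree k (IsLocalRing.ResidueField A) =
      ∑ᶠ m : MaximalSpectrum (k' ⊗[k] A),
        Field.finSepDegree k' (IsLocalRing.ResidueField (Localization.AtPrime m.asIdeal)) := by
  have h1 : Field.finSepDegree k (IsLocalRing.ResidueField A) =
      Nat.card (IsLocalRing.ResidueField A →ₐ[k] AlgebraicClosure k') := by
    have : Module.Finite k (IsLocalRing.ResidueField A) := Module.Finite.trans A _
    exact Field.finSepDegree_eq_of_isAlgClosed k _ (AlgebraicClosure k')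
  rw [h1, card_algHom_residueField,
    Nat.card_congr (Algebra.TensorProduct.liftEquivRight k k' A (AlgebraicClosure k')),
    card_algHom_eq_sum]
  refine finsum_congr (fun m => ?_)
  have := m.isMaximal
  have : Module.Finite k' m.asIdeal.ResidueField := Module.Finite.trans (k' ⊗[k] A) _
  exact (Field.finSepDegree_eq_of_isAlgClosed k' _ (AlgebraicClosure k')).symm

end Groth.Agent.Lib.Seat80.SepDegSum
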