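/-
Seat80: the symmetric algebra of a module is smooth iff the module is finite projective.
(<=) lifting property of projective modules + a retract of a finitely presented algebra is finitely presented;
(=>) lifting against trivial square-zero extensions gives projectivity, finite type gives finite generation.
-/
import Mathlib
set_option autoImplicit false
set_option linter.style.haveILetI false
universe u

namespace Groth.Agent.Lib.Seat80.SymSmooth
open TrivSqZeroExt

section Retract

variable {A : Type u} [CommRing A] {P B : Type u} [CommRing P] [Algebra A P] [CommRing B] [Algebra A B]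

/-- kernel of a retraction of a finite type algebra is finitely generated -/
theorem ker_fg_of_retract (r : P →ₐ[A] B) (i : B →ₐ[A] P) (hri : r.comp i = AlgHom.id A B)
    (s : Finset P) (hs : Algebra.adjoin A (s : Set P) = ⊤) : (RingHom.ker r.toRingHom).FG := by
  classical
  have hri' : ∀ b, r (i b) = b := fun b => congrArg (fun f => f b) hri
  set K : Ideal P := Ideal.span ((fun x => x - i (r x)) '' (s : Set P)) with hK
  have hKfg : K.FG := ⟨s.image (fun x => x - i (r x)), by rw [hK]; simp⟩
  have hKle : K ≤ RingHom.ker r.toRingHom := by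
    rw [hK, Ideal.span_le]
    rintro _ ⟨x, -, rfl⟩
    change r (x - i (r x)) = 0
    rw [map_sub, hri', sub_self]
  have hall : ∀ p : P, p - i (r p) ∈ K := by
    intro p
    have hp : p ∈ Algebra.adjoin A (s : Set P) := by rw [hs]; trivial
    induction hp using Algebra.adjoin_induction with
    | mem x hx => exact Ideal.subset_span ⟨x, hx, rfl⟩
    | algebraMap a =>
      rw [AlgHom.commutes, AlgHom.commutes, sub_self]
      exact K.zero_mem
    | add x y _ _ hx hy =>
      have : x + y - i (r (x + y)) = (x - i (r x)) + (y - i (r y)) := by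
        rw [map_add, map_add]; ring
      rw [this]
      exact K.add_mem hx hy
    | mul x y _ _ hx hy =>
      have : x * y - i (r (x * y)) = x * (y - i (r y)) + (x - i (r x)) * i (r y) := by
        rw [map_mul, map_mul]; ring
      rw [this]
      exact K.add_mem (K.mul_mem_left _ hy) (K.mul_mem_right _ hx)
  have : RingHom.ker r.toRingHom = K := by
    apply le_antisymm _ hKle
    intro p hp
    have hp' : r p = 0 := hp
    have := hall p
    rwa [hp', map_zero, sub_zero] at this
  rw [this]
  exact hKfg

end Retract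

/-- the opposite action on a module over a commutative ring -/
@[reducible] def oppModule {A : Type u} [CommRing A] (N : Type u) [AddCommGroup N] [Module A N] : Module Aᵐᵒᵖ N :=
  Module.compHom N ((RingHom.id A).fromOpposite (fun _ _ => mul_comm _ _))

theorem isCentral {A : Type u} [CommRing A] (N : Type u) [AddCommGroup N] [Module A N] :
    letI := oppModule (A := A) N
    IsCentralScalar A N :=
  letI := oppModule (A := A) N
  ⟨fun _ _ => rfl⟩

variable {A M : Type u} [CommRing A] [AddCommGroup M] [Module A M]

theorem smooth_of_finite_projective [Module.Finite A M] [Module.Projective A M] :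
    Algebra.Smooth A (SymmetricAlgebra A M) := by
  have h1 : Algebra.FormallySmooth A (SymmetricAlgebra A M) := by
    apply Algebra.FormallySmooth.of_comp_surjective
    intro B _ _ I hI f
    let φ : M →ₗ[A] B ⧸ I := f.toLinearMap ∘ₗ SymmetricAlgebra.ι A M
    obtain ⟨ψ, hψ⟩ := Module.projective_lifting_property (Ideal.Quotient.mkₐ A I).toLinearMap φ
      (Ideal.Quotient.mkₐ_surjective A I)
    refine ⟨SymmetricAlgebra.lift ψ, ?_⟩
    apply SymmetricAlgebra.algHom_ext
    ext m
    have := congrArg (fun l => l m) hψ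
    simpa [φ] using this
  have h2 : Algebra.FinitePresentation A (SymmetricAlgebra A M) := by
    obtain ⟨n, f, g, -, -, hfg⟩ := Module.Finite.exists_comp_eq_id_of_projective A M
    let e : SymmetricAlgebra A (Fin n → A) ≃ₐ[A] MvPolynomial (Fin n) A :=
      SymmetricAlgebra.equivMvPolynomial (Pi.basisFun A (Fin n))
    have hPfp : Algebra.FinitePresentation A (SymmetricAlgebra A (Fin n → A)) :=
      Algebra.FinitePresentation.equiv e.symm
    let r : SymmetricAlgebra A (Fin n → A) →ₐ[A] SymmetricAlgebra A M :=
      SymmetricAlgebra.lift (SymmetricAlgebra.ι A M ∘ₗ f)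
    let i : SymmetricAlgebra A M →ₐ[A] SymmetricAlgebra A (Fin n → A) :=
      SymmetricAlgebra.lift (SymmetricAlgebra.ι A (Fin n → A) ∘ₗ g)
    have hri : r.comp i = AlgHom.id A (SymmetricAlgebra A M) := by
      apply SymmetricAlgebra.algHom_ext
      ext m
      have := congrArg (fun l => l m) hfg
      simp only [LinearMap.comp_apply, LinearMap.id_apply] at this
      simp [r, i, this]
    have hsurj : Function.Surjective r := fun x => ⟨i x, congrArg (fun l => l x) hri⟩
    have hft : Algebra.FiniteType A (SymmetricAlgebra A (Fin n → A)) := inferInstance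
    obtain ⟨s, hs⟩ := hft.out
    exact Algebra.FinitePresentation.of_surjective hsurj (ker_fg_of_retract r i hri s hs)
  exact { formallySmooth := h1, finitePresentation := h2 }

theorem projective_of_formallySmooth [Algebra.FormallySmooth A (SymmetricAlgebra A M)] :
    Module.Projective A M := by
  apply Module.Projective.of_lifting_property
  intro N N' _ _ _ _ π φ hπ
  letI := oppModule (A := A) N
  letI := oppModule (A := A) N'
  haveI := isCentral (A := A) N
  haveI := isCentral (A := A) N'
  let g : TrivSqZeroExt A N →ₐ[A] TrivSqZeroExt A N' := TrivSqZeroExt.map π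
  have hg : Function.Surjective g := by
    intro x
    obtain ⟨n, hn⟩ := hπ x.snd
    refine ⟨inl x.fst + inr n, ?_⟩
    ext <;> simp [g, hn]
  have hker : IsNilpotent (RingHom.ker (g : TrivSqZeroExt A N →+* TrivSqZeroExt A N')) := by
    refine ⟨2, ?_⟩
    rw [Ideal.zero_eq_bot, eq_bot_iff, sq, Ideal.mul_le]
    intro x hx y hy
    have hx0 : g x = 0 := hx
    have hy0 : g y = 0 := hy
    have hx1 : x.fst = 0 := by
      have := congrArg TrivSqZeroExt.fst hx0
      simpa [g] using this
    have hy1 : y.fst = 0 := by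
      have := congrArg TrivSqZeroExt.fst hy0
      simpa [g] using this
    rw [Ideal.mem_bot]
    ext <;> simp [hx1, hy1]
  let f : SymmetricAlgebra A M →ₐ[A] TrivSqZeroExt A N' :=
    SymmetricAlgebra.lift ((TrivSqZeroExt.inrHom A N') ∘ₗ φ)
  let F := Algebra.FormallySmooth.liftOfSurjective f g hg hker
  refine ⟨(TrivSqZeroExt.sndHom A N) ∘ₗ F.toLinearMap ∘ₗ SymmetricAlgebra.ι A M, ?_⟩
  ext m
  have h1 : g (F (SymmetricAlgebra.ι A M m)) = f (SymmetricAlgebra.ι A M m) :=
    Algebra.FormallySmooth.liftOfSurjective_apply f g hg hker _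
  have h2 := congrArg TrivSqZeroExt.snd h1
  simpa [g, f] using h2

theorem exists_fg_mem_adjoin (x : SymmetricAlgebra A M) :
    ∃ M' : Submodule A M, M'.FG ∧ x ∈ Algebra.adjoin A (SymmetricAlgebra.ι A M '' (M' : Set M)) := by
  induction x using SymmetricAlgebra.induction with
  | algebraMap r => exact ⟨⊥, Submodule.fg_bot, Subalgebra.algebraMap_mem _ r⟩
  | ι m =>
    exact ⟨Submodule.span A {m}, Submodule.fg_span_singleton m,
      Algebra.subset_adjoin ⟨m, Submodule.subset_span rfl, rfl⟩⟩
  | mul a b ha hb =>
    obtain ⟨M₁, h₁, ha⟩ := ha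
    obtain ⟨M₂, h₂, hb⟩ := hb
    refine ⟨M₁ ⊔ M₂, h₁.sup h₂, Subalgebra.mul_mem _ ?_ ?_⟩
    · exact Algebra.adjoin_mono (Set.image_mono (SetLike.coe_subset_coe.mpr le_sup_left)) ha
    · exact Algebra.adjoin_mono (Set.image_mono (SetLike.coe_subset_coe.mpr le_sup_right)) hb
  | add a b ha hb =>
    obtain ⟨M₁, h₁, ha⟩ := ha
    obtain ⟨M₂, h₂, hb⟩ := hb
    refine ⟨M₁ ⊔ M₂, h₁.sup h₂, Subalgebra.add_mem _ ?_ ?_⟩
    · exact Algebra.adjoin_mono (Set.image_mono (SetLike.coe_subset_coe.mpr le_sup_left)) ha
    · exact Algebra.adjoin_mono (Set.image_mono (SetLike.coe_subset_coe.mpr le_sup_right)) hb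

theorem exists_fg_adjoin_eq_top [Algebra.FiniteType A (SymmetricAlgebra A M)] :
    ∃ M' : Submodule A M, M'.FG ∧ Algebra.adjoin A (SymmetricAlgebra.ι A M '' (M' : Set M)) = ⊤ := by
  classical
  obtain ⟨s, hs⟩ := (inferInstance : Algebra.FiniteType A (SymmetricAlgebra A M)).out
  have : ∀ t : Finset (SymmetricAlgebra A M), ∃ M' : Submodule A M, M'.FG ∧
      (t : Set (SymmetricAlgebra A M)) ⊆ Algebra.adjoin A (SymmetricAlgebra.ι A M '' (M' : Set M)) := by
    intro t
    induction t using Finset.induction_on with
    | empty => exact ⟨⊥, Submodule.fg_bot, by simp⟩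
    | insert a t _ ih =>
      obtain ⟨M₁, h₁, ht⟩ := ih
      obtain ⟨M₂, h₂, ha⟩ := exists_fg_mem_adjoin (A := A) (M := M) a
      refine ⟨M₁ ⊔ M₂, h₁.sup h₂, ?_⟩
      intro x hx
      rw [Finset.coe_insert, Set.mem_insert_iff] at hx
      rcases hx with rfl | hx
      · exact Algebra.adjoin_mono (Set.image_mono (SetLike.coe_subset_coe.mpr le_sup_right)) ha
      · exact Algebra.adjoin_mono (Set.image_mono (SetLike.coe_subset_coe.mpr le_sup_left)) (ht hx)
  obtain ⟨M', hfg, hsub⟩ := this s
  refine ⟨M', hfg, ?_⟩
  rw [eq_top_iff, ← hs]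
  exact Algebra.adjoin_le hsub

theorem finite_of_finiteType [Algebra.FiniteType A (SymmetricAlgebra A M)] : Module.Finite A M := by
  obtain ⟨M', hfg, htop⟩ := exists_fg_adjoin_eq_top (A := A) (M := M)
  suffices h : M' = ⊤ by
    rw [h] at hfg
    exact ⟨hfg⟩
  let Q := M ⧸ M'
  letI := oppModule (A := A) Q
  haveI := isCentral (A := A) Q
  let h : SymmetricAlgebra A M →ₐ[A] TrivSqZeroExt A Q :=
    SymmetricAlgebra.lift ((TrivSqZeroExt.inrHom A Q) ∘ₗ M'.mkQ)
  have hall : ∀ x : SymmetricAlgebra A M, (h x).snd = 0 := by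
    intro x
    have hx : x ∈ Algebra.adjoin A (SymmetricAlgebra.ι A M '' (M' : Set M)) := by rw [htop]; trivial
    induction hx using Algebra.adjoin_induction with
    | mem y hy =>
      obtain ⟨m, hm, rfl⟩ := hy
      have : M'.mkQ m = 0 := (Submodule.Quotient.mk_eq_zero M').mpr hm
      simp [h, this]
    | algebraMap a => simp [TrivSqZeroExt.algebraMap_eq_inl]
    | add y z _ _ hy hz => simp [hy, hz]
    | mul y z _ _ hy hz => simp [hy, hz]
  rw [eq_top_iff]
  intro m _
  have := hall (SymmetricAlgebra.ι A M m)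
  have h3 : (h (SymmetricAlgebra.ι A M m)).snd = M'.mkQ m := by simp [h]; rfl
  have h2 : M'.mkQ m = 0 := h3.symm.trans this
  rw [Submodule.mkQ_apply] at h2
  exact (Submodule.Quotient.mk_eq_zero M').mp h2


theorem smooth_iff : Algebra.Smooth A (SymmetricAlgebra A M) ↔ Module.Finite A M ∧ Module.Projective A M := by
  constructor
  · intro h
    exact ⟨finite_of_finiteType, projective_of_formallySmooth⟩
  · rintro ⟨h1, h2⟩
    exact smooth_of_finite_projective

end Groth.Agent.Lib.Seat80.SymSmooth
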