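import Mathlib
import Groth.Agent.Lib.Helper1TorO
import Groth.Agent.Lib.Helper1KF10
import Groth.Agent.Lib.Helper1DT5
import Groth.Agent.Lib.Helper1KBC1
import Groth.Agent.Lib.Helper1LBC
import Groth.Agent.Lib.Helper1Restrict
set_option backward.isDefEq.respectTransparency.types false

set_option autoImplicit false
set_option maxHeartbeats 400000
set_option linter.style.haveILetI false
universe u
open CategoryTheory CategoryTheory.Limits MonoidalCategory HomologicalComplex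
attribute [local instance] HasDerivedCategory.standard

namespace Groth.Agent.Lib.Seat80.TorBal

open DerivedCategory Groth.Agent.Lib.Helper1.KF Groth.Agent.Lib.Helper1.Tor
  Groth.Agent.Lib.Helper1.DT Groth.Agent.Lib.Helper1.TorO Groth.Agent.Lib.Helper1.BKF
  Groth.Agent.Lib.Helper1.KBC Groth.Agent.Lib.Helper1.LDer Groth.Agent.Lib.Helper1.Restrict

section Bal

variable {R : Type u} [CommRing R]

lemma exactAt_iff_of_quasiIso {X Y : Cx R} (f : X ⟶ Y) [QuasiIso f] (i : ℤ) :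
    X.ExactAt i ↔ Y.ExactAt i := by
  rw [exactAt_iff_isZero_homology, exactAt_iff_isZero_homology]
  have : IsIso (homologyMap f i) := (quasiIsoAt_iff_isIso_homologyMap f i).1 (inferInstance)
  exact (asIso (homologyMap f i)).isZero_iff

lemma exactAt_iff_of_iso {X Y : Cx R} (e : X ≅ Y) (i : ℤ) :
    X.ExactAt i ↔ Y.ExactAt i :=
  exactAt_iff_of_quasiIso e.hom i

/-- balanced tor vanishing: computed by resolving the module variable -/
def BalVan (Y : Cx R) (a b : ℤ) : Prop :=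
  ∀ (M : ModuleCat.{u} R) (P : Cx R) (π : P ⟶ sgl M), KFlat P → QuasiIso π →
    ∀ i : ℤ, (i < a ∨ b < i) → (P ⊗ Y).ExactAt i

lemma exactAt_tensor_iff_TC {Y G : Cx R} (p : G ⟶ Y) [QuasiIso p] (hG : KFlat G)
    (M : ModuleCat.{u} R) (P : Cx R) (π : P ⟶ sgl M) (hP : KFlat P) [QuasiIso π] (i : ℤ) :
    (P ⊗ Y).ExactAt i ↔ ((TC M).obj G).ExactAt i := by
  have h1 : QuasiIso (P ◁ p) := quasiIso_whiskerLeft_of_kflatL p P hP.kflatL
  have h2 : QuasiIso (π ▷ G) := quasiIso_whiskerRight_of_kflat π G hG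
  rw [← exactAt_iff_of_quasiIso (P ◁ p) i, exactAt_iff_of_quasiIso (π ▷ G) i]
  exact (exactAt_iff_of_iso (singleTensorIso M G) i).symm

theorem hasTorAmp_iff_balVan (Y : Cx R) (a b : ℤ) :
    DRing.HasTorAmplitudeIn R a b (Q.obj Y) ↔ BalVan Y a b := by
  obtain ⟨G, p, hG, -, hp, -⟩ := exists_kprojective_resolution Y
  have hGK : KFlat G := kflat_of_isKProjective G
  have hpi : IsIso (Q.map p) := (DerivedCategory.isIso_Q_map_iff_quasiIso (φ := p)).2 hp
  have step1 : DRing.HasTorAmplitudeIn R a b (Q.obj Y) ↔ TorVan G a b := by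
    constructor
    · rintro ⟨E, hE, hEf, ⟨e⟩⟩
      exact torVan_of_iso_kflat G E hGK a b hE hEf (e ≪≫ (asIso (Q.map p)).symm)
    · intro h
      exact hasTorAmp_of_iso (asIso (Q.map p)) (hasTorAmp_of_torVan_kflat G hGK a b h)
  rw [step1]
  constructor
  · intro h M P π hP hπ i hi
    rw [exactAt_tensor_iff_TC p hGK M P π hP i]
    exact h M i hi
  · intro h M i hi
    obtain ⟨P, π, hPK, -, hπ, -⟩ := exists_kprojective_resolution (sgl M)
    have hP : KFlat P := kflat_of_isKProjective P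
    rw [← exactAt_tensor_iff_TC p hGK M P π hP i]
    exact h M P π hP hπ i hi

end Bal

section Proj

variable {R R' : Type u} [CommRing R] [CommRing R'] (φ : R →+* R')

/-- chain-level projection formula: `res (L ⊗ ext K) ≅ res L ⊗ K` -/
theorem nonempty_projIso (L : CochainComplex (ModuleCat.{u} R') ℤ)
    (K : CochainComplex (ModuleCat.{u} R) ℤ) :
    Nonempty (((res φ).mapHomologicalComplex (ComplexShape.up ℤ)).obj
        (L ⊗ ((ext φ).mapHomologicalComplex (ComplexShape.up ℤ)).obj K) ≅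
      (((res φ).mapHomologicalComplex (ComplexShape.up ℤ)).obj L) ⊗ K) := by
  haveI h1 : ((TotMap.map₂ (res φ) (ComplexShape.up ℤ) (ComplexShape.up ℤ)).obj
      (B₁ φ L K)).HasTotal (ComplexShape.up ℤ) :=
    TotMap.hasTotal_map₂ (res φ) (B₁ φ L K) (ComplexShape.up ℤ)
  let e₂ : (TotMap.map₂ (res φ) (ComplexShape.up ℤ) (ComplexShape.up ℤ)).obj (B₁ φ L K) ≅
      (((F₂ φ).mapBifunctorHomologicalComplex (ComplexShape.up ℤ)
        (ComplexShape.up ℤ)).obj L).obj K :=
    (TotMap.map₂ (res φ) (ComplexShape.up ℤ) (ComplexShape.up ℤ)).mapIso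
        (precompIso₂ (curriedTensor (ModuleCat.{u} R')) (ext φ) L K) ≪≫
      (TotMap.mapBifunctorPostcompIso (F₁ φ) (res φ) L K).symm
  haveI h2 : HasMapBifunctor L K (F₂ φ) (ComplexShape.up ℤ) :=
    HomologicalComplex₂.hasTotal_of_iso e₂ (ComplexShape.up ℤ)
  let e₄ : B₄ φ L K ≅ (((F₃ φ).mapBifunctorHomologicalComplex (ComplexShape.up ℤ)
        (ComplexShape.up ℤ)).obj L).obj K :=
    precompIso₁ (curriedTensor (ModuleCat.{u} R)) (res φ) L K
  haveI h3 : HasMapBifunctor L K (F₃ φ) (ComplexShape.up ℤ) :=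
    HomologicalComplex₂.hasTotal_of_iso e₄ (ComplexShape.up ℤ)
  exact ⟨TotMap.mapTotalIso (res φ) (B₁ φ L K) (ComplexShape.up ℤ) ≪≫
    HomologicalComplex₂.total.mapIso e₂ (ComplexShape.up ℤ) ≪≫
    TotMap.mapBifunctorNatIso L K (ComplexShape.up ℤ) (pfIso φ).symm ≪≫
    (HomologicalComplex₂.total.mapIso e₄ (ComplexShape.up ℤ)).symm⟩

/-- exactness of `P ⊗ res Z` is exactness of `Z ⊗ ext P` -/
theorem exactAt_tensor_res_iff (Z : Cx R') (P : Cx R) (i : ℤ) :
    (P ⊗ (DRing.restrictCx φ).obj Z).ExactAt i ↔ (Z ⊗ (bcCx φ).obj P).ExactAt i := by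
  obtain ⟨e⟩ := nonempty_projIso φ Z P
  rw [exactAt_iff_of_iso (DTen.braidCx P ((DRing.restrictCx φ).obj Z)) i]
  rw [← exactAt_restrict_iff φ (Z ⊗ (bcCx φ).obj P) i]
  exact (exactAt_iff_of_iso e i).symm

/-- tor amplitude of a restricted complex, computed over the big ring -/
theorem hasTorAmp_res_iff (Z : Cx R') (a b : ℤ) :
    DRing.HasTorAmplitudeIn R a b (Q.obj ((DRing.restrictCx φ).obj Z)) ↔
      ∀ (M : ModuleCat.{u} R) (P : Cx R) (π : P ⟶ sgl M), KFlat P → QuasiIso π →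
        ∀ i : ℤ, (i < a ∨ b < i) → (Z ⊗ (bcCx φ).obj P).ExactAt i := by
  rw [hasTorAmp_iff_balVan]
  constructor
  · intro h M P π hP hπ i hi
    rw [← exactAt_tensor_res_iff]
    exact h M P π hP hπ i hi
  · intro h M P π hP hπ i hi
    rw [exactAt_tensor_res_iff]
    exact h M P π hP hπ i hi

end Proj

end Groth.Agent.Lib.Seat80.TorBal
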