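import Mathlib
import Groth.Agent.Lib.Seat80TorBal
set_option backward.isDefEq.respectTransparency.types false

set_option autoImplicit false
set_option maxHeartbeats 400000
set_option linter.style.haveILetI false
universe u
open CategoryTheory CategoryTheory.Limits MonoidalCategory HomologicalComplex
attribute [local instance] HasDerivedCategory.standard

namespace Groth.Agent.Lib.Seat80.TorBal

open DerivedCategory Groth.Agent.Lib.Helper1.KF Groth.Agent.Lib.Helper1.Tor
  Groth.Agent.Lib.Helper1.DT Groth.Agent.Lib.Helper1.TorO Groth.Agent.Lib.Helper1.BKF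
  Groth.Agent.Lib.Helper1.KBC Groth.Agent.Lib.Helper1.LDer Groth.Agent.Lib.Helper1.Restrict

section FF

variable {A B : Type u} [CommRing A] [CommRing B] (ψ : A →+* B)

/-- `B` as an `A`-module -/
noncomputable abbrev resUnit : ModuleCat.{u} A := (res ψ).obj (𝟙_ (ModuleCat.{u} B))

/-- `res (ext M) ≅ res B ⊗ M`, naturally -/
noncomputable def resExtIso' : ext ψ ⋙ res ψ ≅
    (curriedTensor (ModuleCat.{u} A)).obj (resUnit ψ) :=
  (Functor.isoWhiskerRight (Functor.isoWhiskerLeft (ext ψ)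
      (leftUnitorNatIso (ModuleCat.{u} B)) ≪≫ (ext ψ).rightUnitor) (res ψ)).symm ≪≫
    ((pfIso ψ).app (𝟙_ (ModuleCat.{u} B))).symm

/-- `res (ext X) ≅ B[0] ⊗ X` on complexes -/
noncomputable def resExtCxIso (X : Cx A) :
    (DRing.restrictCx ψ).obj ((bcCx ψ).obj X) ≅ sgl (resUnit ψ) ⊗ X :=
  (HomologicalComplex.Hom.isoOfComponents (fun n => (resExtIso' ψ).app (X.X n))
    (fun n n' _ => ((resExtIso' ψ).hom.naturality (X.d n n')).symm) :
      (DRing.restrictCx ψ).obj ((bcCx ψ).obj X) ≅ TCx (resUnit ψ) X) ≪≫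
    singleTensorIso (resUnit ψ) X

theorem exactAt_TCx_iff_of_faithfullyFlat (N : ModuleCat.{u} A) [Module.FaithfullyFlat A N]
    (Y : Cx A) (i : ℤ) : (TCx N Y).ExactAt i ↔ Y.ExactAt i := by
  rw [exactAt_iff_fexact Y (i - 1) i (i + 1) (by lia) rfl]
  have h := exactAt_TC_iff N Y (i - 1) i (i + 1) (by lia) rfl
  rw [← Module.FaithfullyFlat.lTensor_exact_iff_exact A N]
  exact h

theorem exactAt_resExt_tensor_iff [Module.FaithfullyFlat A (resUnit ψ)] (X T : Cx A) (i : ℤ) :
    (((DRing.restrictCx ψ).obj ((bcCx ψ).obj X)) ⊗ T).ExactAt i ↔ (X ⊗ T).ExactAt i := by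
  rw [exactAt_iff_of_iso (whiskerRightIso (resExtCxIso ψ X) T) i,
    exactAt_iff_of_iso (α_ (sgl (resUnit ψ)) X T) i,
    ← exactAt_iff_of_iso (singleTensorIso (resUnit ψ) (X ⊗ T)) i]
  exact exactAt_TCx_iff_of_faithfullyFlat (resUnit ψ) (X ⊗ T) i

end FF

section Comp

variable {R A B : Type u} [CommRing R] [CommRing A] [CommRing B] (φ : R →+* A) (ψ : A →+* B)
  (χ : R →+* B) (h : χ = ψ.comp φ)

/-- restriction along a composite -/
noncomputable def restrictCxCompIso (Z : Cx B) :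
    (DRing.restrictCx χ).obj Z ≅ (DRing.restrictCx φ).obj ((DRing.restrictCx ψ).obj Z) :=
  HomologicalComplex.Hom.isoOfComponents
    (fun n => ModuleCat.restrictScalarsComp'App φ ψ χ h (Z.X n))
    (fun n n' _ => (ModuleCat.restrictScalarsComp'App_hom_naturality φ ψ χ h (Z.d n n')).symm)

end Comp

end Groth.Agent.Lib.Seat80.TorBal
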