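import Mathlib
import Groth.Agent.Lib.Seat80TorBal2
import Groth.Agent.Lib.Helper1TensPerf
set_option backward.isDefEq.respectTransparency.types false

set_option autoImplicit false
set_option maxHeartbeats 400000
set_option linter.style.haveILetI false
universe u
open CategoryTheory CategoryTheory.Limits MonoidalCategory HomologicalComplex
attribute [local instance] HasDerivedCategory.standard

namespace Groth.Agent.Lib.Seat80.TorBal

open DerivedCategory Groth.Agent.Lib.Helper1.KF Groth.Agent.Lib.Helper1.Tor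
  Groth.Agent.Lib.Helper1.DT Groth.Agent.Lib.Helper1.TorO Groth.Agent.Lib.Helper1.BKF
  Groth.Agent.Lib.Helper1.KBC Groth.Agent.Lib.Helper1.LDer Groth.Agent.Lib.Helper1.Restrict
  Groth.Agent.Lib.Helper1.TensPerf

section Kflat2

variable {R : Type u} [CommRing R]

/-- a quasi-isomorphism between K-flat complexes stays one after tensoring with any complex -/
lemma quasiIso_whiskerRight_of_kflat_both {P E : Cx R} (p : P ⟶ E) [QuasiIso p] (hP : KFlat P)
    (hE : KFlat E) (L : Cx R) : QuasiIso (p ▷ L) := by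
  obtain ⟨G, q, hG, -, hq, -⟩ := exists_kprojective_resolution L
  have hGK : KFlat G := kflat_of_isKProjective G
  have h1 : QuasiIso (p ▷ G) := quasiIso_whiskerRight_of_kflat p G hGK
  have h2 : QuasiIso (P ◁ q) := quasiIso_whiskerLeft_of_kflatL q P hP.kflatL
  have h3 : QuasiIso (E ◁ q) := quasiIso_whiskerLeft_of_kflatL q E hE.kflatL
  have hx : (P ◁ q) ≫ (p ▷ L) = (p ▷ G) ≫ (E ◁ q) := whisker_exchange p q
  have h4 : QuasiIso ((P ◁ q) ≫ (p ▷ L)) := by rw [hx]; infer_instance
  exact quasiIso_of_comp_left (P ◁ q) (p ▷ L)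

/-- a bounded flat complex in `[a, b]` tensored with a complex exact outside `[c, d]` is exact
outside `[a + c, b + d]` -/
theorem exactAt_tensor_of_bounded (E : Cx R) (a b : ℤ) (hE : DRing.VanishesOutside E a b)
    (hEf : DRing.TermwiseFlat E) (Z : Cx R) (c d : ℤ)
    (hZ : ∀ j : ℤ, (j < c ∨ d < j) → Z.ExactAt j) (i : ℤ) (hi : i < a + c ∨ b + d < i) :
    (E ⊗ Z).ExactAt i := by
  have hEK : KFlat E := kflat_of_boundedAbove_flat E b (fun q hq => hE q (Or.inr hq)) hEf
  have hge : (Q.obj Z).IsGE c := (DerivedCategory.isGE_Q_obj_iff _ _).2 (by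
    rw [CochainComplex.isGE_iff]; exact fun j hj => hZ j (Or.inl hj))
  have hle : (Q.obj Z).IsLE d := (DerivedCategory.isLE_Q_obj_iff _ _).2 (by
    rw [CochainComplex.isLE_iff]; exact fun j hj => hZ j (Or.inr hj))
  obtain ⟨Z', hZ'ge, hZ'le, ⟨e⟩⟩ := exists_iso_Q_obj_of_isGE_of_isLE (Q.obj Z) c d
  obtain ⟨G, q, hG, -, hq, -⟩ := exists_kprojective_resolution Z
  have hqi : IsIso (Q.map q) := (DerivedCategory.isIso_Q_map_iff_quasiIso (φ := q)).2 hq
  obtain ⟨g, hg⟩ := Q_map_surjective G Z' (Q.map q ≫ e.hom)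
  have hgi : IsIso (Q.map g) := by rw [hg]; infer_instance
  have hgq : QuasiIso g := (DerivedCategory.isIso_Q_map_iff_quasiIso (φ := g)).1 hgi
  have h1 : QuasiIso (E ◁ q) := quasiIso_whiskerLeft_of_kflatL q E hEK.kflatL
  have h2 : QuasiIso (E ◁ g) := quasiIso_whiskerLeft_of_kflatL g E hEK.kflatL
  rw [← exactAt_iff_of_quasiIso (E ◁ q) i, exactAt_iff_of_quasiIso (E ◁ g) i]
  refine ShortComplex.exact_of_isZero_X₂ _ (isZero_tensor_X E Z' i (fun p q' hpq => ?_))
  by_cases hp : p < a ∨ b < p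
  · exact Or.inl (hE p hp)
  · right
    rcases hi with hi | hi
    · exact Z'.isZero_of_isStrictlyGE c q' (by lia)
    · exact Z'.isZero_of_isStrictlyLE d q' (by lia)

end Kflat2

end Groth.Agent.Lib.Seat80.TorBal
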