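import Mathlib
import Groth.Agent.Lib.Seat80TorBal2
import Groth.Agent.Lib.Helper1TorK
import Groth.Prelude.Def_DTen6
set_option backward.isDefEq.respectTransparency.types false

set_option autoImplicit false
set_option maxHeartbeats 400000
set_option linter.style.haveILetI false
universe u
open CategoryTheory CategoryTheory.Limits MonoidalCategory HomologicalComplex
attribute [local instance] HasDerivedCategory.standard

namespace Groth.Agent.Lib.Seat80.TorBal

open DerivedCategory Groth.Agent.Lib.Helper1.KF Groth.Agent.Lib.Helper1.Tor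
  Groth.Agent.Lib.Helper1.DT Groth.Agent.Lib.Helper1.TorO Groth.Agent.Lib.Helper1.BKF
  Groth.Agent.Lib.Helper1.KBC Groth.Agent.Lib.Helper1.LDer Groth.Agent.Lib.Helper1.Restrict
  Groth.Agent.Lib.Helper1.Extend

section Loc

variable {B : Type u} [CommRing B]

/-- exactness of a complex can be checked after localizing at all maximal ideals -/
theorem exactAt_of_forall_maximal (C : Cx B) (i : ℤ)
    (h : ∀ (m : Ideal B) [m.IsMaximal],
      ((bcCx (algebraMap B (Localization.AtPrime m))).obj C).ExactAt i) : C.ExactAt i := by
  rw [exactAt_iff_isZero_homology]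
  refine (descFam'_maximal (R := B)).isZero _ (fun j => ?_)
  haveI := j.isMaximal
  have h1 := h j.asIdeal
  rw [exactAt_iff_isZero_homology] at h1
  exact h1.of_iso (homologyMapCxIso (Groth.Agent.Lib.Helper1.Extend.ext B
    (Localization.AtPrime j.asIdeal)) C i).symm

end Loc

section KF

variable {R R' : Type u} [CommRing R] [CommRing R'] (φ : R →+* R')

/-- base change of a K-flat complex is K-flat -/
lemma kflat_bcCx (P : Cx R) (hP : KFlat P) : KFlat ((bcCx φ).obj P) :=
  fun L hL => acyc_mapBifunctor_ext φ L P (fun L₀ h₀ => hP L₀ h₀) hL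

end KF

section FlatRes

variable {A A' : Type u} [CommRing A] [CommRing A'] [Algebra A A'] [Module.Flat A A']

/-- base change of a K-flat resolution of a module along a flat map is one -/
theorem exists_resolution_bc (M : ModuleCat.{u} A) (P : Cx A) (π : P ⟶ sgl M) (hP : KFlat P)
    (hπ : QuasiIso π) :
    ∃ (M' : ModuleCat.{u} A') (π' : (bcCx (algebraMap A A')).obj P ⟶ sgl M'),
      KFlat ((bcCx (algebraMap A A')).obj P) ∧ QuasiIso π' := by
  refine ⟨(Groth.Agent.Lib.Helper1.Extend.ext A A').obj M,
    (bcCx (algebraMap A A')).map π ≫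
      ((HomologicalComplex.singleMapHomologicalComplex (Groth.Agent.Lib.Helper1.Extend.ext A A')
        (ComplexShape.up ℤ) 0).app M).hom, kflat_bcCx _ P hP, ?_⟩
  have : QuasiIso ((bcCx (algebraMap A A')).map π) :=
    HomologicalComplex.quasiIso_map_of_preservesHomology π
      (Groth.Agent.Lib.Helper1.Extend.ext A A')
  infer_instance

end FlatRes

end Groth.Agent.Lib.Seat80.TorBal
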