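/-
Seat 81 helper library: for `f` separated and `U` open in `X` with `U ⟶ X ⟶ Y` affine, the direct image to `X` of a
quasi-coherent module on `U` is acyclic for `f_*` (S11165), via the degenerate Grothendieck spectral sequence
`GSS.gss_edgeIn`.
-/
import Groth.Agent.Lib.Seat81GSS3
import Groth.Agent.Lib.Seat81LerayOut
import Groth.Agent.Lib.Helper21DerPost

set_option autoImplicit false
universe u

namespace Groth.Agent.Lib.Seat81.EdgeInVanish

open AlgebraicGeometry CategoryTheory Scheme.Modules Opposite Limits TopologicalSpace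
open Groth.Agent.Lib.Seat81 Groth.Agent.Lib.Seat81.GSS Groth.Agent.Lib.Helper21

attribute [local instance] Groth.Agent.Lib.Seat81.LerayOut.enoughInj

/-- if `g` and `g ≫ f` are affine and `N` is quasi-coherent then `g_* N` is `f_*`-acyclic -/
theorem isZero_Rpush_push_of_isAffineHom {U X Y : Scheme.{u}} (g : U ⟶ X) (f : X ⟶ Y) [IsAffineHom g]
    [IsAffineHom (g ≫ f)] (N : U.Modules) [N.IsQuasicoherent]
    [HasInjectiveResolutions X.Modules] (j : ℕ) :
    IsZero ((Coh.Rpush f (j + 1)).obj ((pushforward g).obj N)) := by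
  obtain ⟨e⟩ := gss_edgeIn (pushforward g) (pushforward f) (LerayOut.acyc_push_push_injective g f)
    N (LerayOut.acyc_push_of_isAffineHom g N) (j + 1)
  let e2 := (DerPost.natIsoRightDerived (pushforwardComp g f) (j + 1)).app N
  have h0 := LerayOut.acyc_push_of_isAffineHom (g ≫ f) N j
  exact IsZero.of_iso h0 (e.symm ≪≫ e2)

/-- S11165 -/
theorem isZero_Rpush_push_restrict {X Y : Scheme.{u}} (f : X ⟶ Y) [IsSeparated f]
    (U : X.Opens) [IsAffineHom (U.ι ≫ f)] (F : X.Modules) (hF : Coh.IsQCoh F)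
    [HasInjectiveResolutions X.Modules] (j : ℕ) (hj : 0 < j) :
    IsZero ((Coh.Rpush f j).obj ((Scheme.Modules.pushforward U.ι).obj ((Scheme.Modules.restrictFunctor U.ι).obj F))) := by
  have hι : IsAffineHom U.ι := IsAffineHom.of_comp U.ι f
  have hq : F.IsQuasicoherent := hF
  have hN : ((restrictFunctor U.ι).obj F).IsQuasicoherent := inferInstanceAs (F.restrict U.ι).IsQuasicoherent
  obtain ⟨j, rfl⟩ : ∃ k, j = k + 1 := ⟨j - 1, by omega⟩
  exact isZero_Rpush_push_of_isAffineHom U.ι f ((restrictFunctor U.ι).obj F) j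

end Groth.Agent.Lib.Seat81.EdgeInVanish
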