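/-
Seat 81 helper library: the edge map `CohPull.pushEdge` of O-modules equals the abelian edge map on the
underlying abelian sheaves; bijectivity under vanishing of the higher direct images.
-/
import Mathlib
import Groth.Prelude.Def_CohPull
import Groth.Agent.Lib.Seat81EdgeAbBij
import Groth.Agent.Lib.Helper23ModAbBridge

namespace Groth.Agent.Lib.Seat81.EdgeMod
open CategoryTheory CategoryTheory.Limits AlgebraicGeometry TopologicalSpace Opposite Abelian
open Groth.Agent.Lib.Seat81.EdgeAb
universe u
variable {X Y : Scheme.{u}}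

theorem theta_eq (f : X ⟶ Y) (M : Y.Modules) :
    CohPull.theta f M = (CohPull.inv f.base).map ((SheafOfModules.toSheaf Y.ringCatSheaf).map
      ((Scheme.Modules.pullbackPushforwardAdjunction f).unit.app M)) ≫
      (CohPull.invPushAdj f.base).counit.app (Coh.toAb ((Scheme.Modules.pullback f).obj M)) :=
  Adjunction.homEquiv_counit _ _ _ _

theorem theta_counit (f : X ⟶ Y) (G : X.Modules) :
    CohPull.theta f ((Scheme.Modules.pushforward f).obj G) ≫
      (SheafOfModules.toSheaf X.ringCatSheaf).map
        ((Scheme.Modules.pullbackPushforwardAdjunction f).counit.app G) =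
    (CohPull.invPushAdj f.base).counit.app (Coh.toAb G) := by
  refine (congrArg (fun t => t ≫ _) (theta_eq f _)).trans ?_
  refine (Category.assoc _ _ _).trans ?_
  have nat := (CohPull.invPushAdj f.base).counit.naturality
    ((SheafOfModules.toSheaf X.ringCatSheaf).map
      ((Scheme.Modules.pullbackPushforwardAdjunction f).counit.app G))
  have tri := (Scheme.Modules.pullbackPushforwardAdjunction f).right_triangle_components G
  have tri' : (CohPull.inv f.base).map ((SheafOfModules.toSheaf Y.ringCatSheaf).map
        ((Scheme.Modules.pullbackPushforwardAdjunction f).unit.app ((Scheme.Modules.pushforward f).obj G))) ≫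
      (CohPull.inv f.base).map ((SheafOfModules.toSheaf Y.ringCatSheaf).map
        ((Scheme.Modules.pushforward f).map ((Scheme.Modules.pullbackPushforwardAdjunction f).counit.app G))) =
      𝟙 _ := by
    refine ((CohPull.inv f.base).map_comp _ _).symm.trans ?_
    refine (congrArg (CohPull.inv f.base).map
      ((SheafOfModules.toSheaf Y.ringCatSheaf).map_comp _ _).symm).trans ?_
    refine (congrArg (fun t => (CohPull.inv f.base).map
      ((SheafOfModules.toSheaf Y.ringCatSheaf).map t)) tri).trans ?_
    refine (congrArg (CohPull.inv f.base).map ((SheafOfModules.toSheaf Y.ringCatSheaf).map_id _)).trans ?_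
    exact (CohPull.inv f.base).map_id _
  refine (congrArg (fun t => _ ≫ t) nat.symm).trans ?_
  refine (Category.assoc _ _ _).symm.trans ?_
  refine (congrArg (fun t => t ≫ _) tri').trans ?_
  exact Category.id_comp _

theorem pushEdge_eq (f : X ⟶ Y) (G : X.Modules) (p : ℕ)
    (x : Coh.HH Y ((Scheme.Modules.pushforward f).obj G) p) :
    CohPull.pushEdge f G p x = edgeAb f.base (Coh.toAb G) p x := by
  have h := edgeAb_apply f.base (Coh.toAb G) p x
  rw [← theta_counit] at h
  refine Eq.trans ?_ h.symm
  unfold CohPull.pushEdge CohPull.pullMod CohPull.mapH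
  simp only [AddMonoidHom.coe_comp, Function.comp_apply]
  exact (Sheaf.H.map_comp_apply _ _ _).symm

/-- The edge map is bijective as soon as the higher direct images of the underlying abelian sheaf vanish. -/
theorem pushEdge_bijective_of_ab (f : X ⟶ Y) (G : X.Modules) (p : ℕ)
    (h : ∀ q : ℕ, IsZero ((Coh.RpushAb f (q + 1)).obj (Coh.toAb G))) :
    Function.Bijective (CohPull.pushEdge f G p) := by
  have hb := edgeAb_bijective f.base p (Coh.toAb G) h
  have he : (CohPull.pushEdge f G p : _ → _) = edgeAb f.base (Coh.toAb G) p :=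
    funext (pushEdge_eq f G p)
  rw [he]; exact hb

theorem isZero_RpushAb_of_isZero_Rpush (f : X ⟶ Y) [HasInjectiveResolutions X.Modules] (G : X.Modules)
    (q : ℕ) (h : IsZero ((Coh.Rpush f q).obj G)) : IsZero ((Coh.RpushAb f q).obj (Coh.toAb G)) := by
  obtain ⟨e⟩ := Groth.Agent.Lib.Helper23.ModAbBridge.nonempty_toAb_Rpush_iso f G q
  refine IsZero.of_iso ?_ e.symm
  exact (SheafOfModules.toSheaf Y.ringCatSheaf).map_isZero h

theorem pushEdge_bijective (f : X ⟶ Y) [HasInjectiveResolutions X.Modules] (G : X.Modules)
    (hG : ∀ q : ℕ, 0 < q → IsZero ((Coh.Rpush f q).obj G)) (p : ℕ) :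
    Function.Bijective (CohPull.pushEdge f G p) :=
  pushEdge_bijective_of_ab f G p fun q =>
    isZero_RpushAb_of_isZero_Rpush f G (q + 1) (hG (q + 1) (Nat.succ_pos q))

end Groth.Agent.Lib.Seat81.EdgeMod
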