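/-
Seat 81 helper library: `CohPull.resLE` in degree zero is the restriction of sections (`resLE_sectH0`).
-/
import Mathlib
import Groth.Agent.Lib.Seat81ResLE2

namespace Groth.Agent.Lib.Seat81.ResLE
open CategoryTheory AlgebraicGeometry TopologicalSpace Opposite
open AlgebraicGeometry.Scheme.Modules
universe u
set_option autoImplicit false
variable {X : Scheme.{u}} (F : X.Modules) {U U' : X.Opens} (h : U' ≤ U)

omit F in
theorem hle_top : U'.ι ''ᵁ ((jj h) ⁻¹ᵁ ⊤) ≤ U.ι ''ᵁ ⊤ := by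
  intro x hx
  obtain ⟨y, -, rfl⟩ := hx
  refine ⟨(jj h) y, trivial, ?_⟩
  have e := congrArg (fun f : (U' : Scheme.{u}) ⟶ X => f y) (jj_ι h)
  exact e

/-- the transpose of `rho` on global sections -/
theorem unit_rho_app_top :
    ((pullbackPushforwardAdjunction (jj h)).unit.app (F.restrict U.ι)).app ⊤ ≫ (rho F h).app ⊤ =
      F.presheaf.map (homOfLE (hle_top h)).op := by
  have h4 := T3 U.ι U'.ι (jj h) (jj_ι h) F ⊤ (hle_top h)
  rw [← rho_eq_sigma] at h4
  exact h4

theorem resLE_sectH0 (s : F.presheaf.obj (op U)) :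
    CohPull.resLE F h 0 (CohPull.sectH0 F U s) =
      CohPull.sectH0 F U' (F.presheaf.map (homOfLE h).op s) := by
  apply (Sheaf.H.equiv₀ (Coh.toAb (F.restrict U'.ι))
    (Limits.isTerminalTop : Limits.IsTerminal (⊤ : U'.toScheme.Opens))).injective
  rw [resLE_eq, equiv₀_sectH0]
  have h1 := Sheaf.H.equiv₀_naturality (T := (⊤ : U'.toScheme.Opens)) Limits.isTerminalTop
    ((SheafOfModules.toSheaf _).map (rho F h))
    (CohPull.pullMod (jj h) (F.restrict U.ι) 0 (CohPull.sectH0 F U s))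
  have h2 := CohPull.equiv₀_pullMod (jj h) (F.restrict U.ι) (CohPull.sectH0 F U s)
  have h3 := equiv₀_sectH0 F (U := U) s
  refine h1.symm.trans ?_
  rw [h2, h3]
  have h4 := congrArg (fun φ : F.presheaf.obj (op (U.ι ''ᵁ ⊤)) ⟶
      F.presheaf.obj (op (U'.ι ''ᵁ ((jj h) ⁻¹ᵁ ⊤))) =>
      (ConcreteCategory.hom φ) ((ConcreteCategory.hom (F.presheaf.map (eqToHom U.ι_image_top).op)) s))
    (unit_rho_app_top F h)
  refine Eq.trans ?_ (h4.trans ?_)
  · rfl
  · simp only [← ConcreteCategory.comp_apply, ← Functor.map_comp]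
    rfl

end Groth.Agent.Lib.Seat81.ResLE
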