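/-
Seat 81 helper library: the two key steps for local injectivity of the comparison maps `SectCmp.ε` (S16955).
-/
import Mathlib
import Groth.Agent.Lib.Helper23SectCmpLib
import Groth.Agent.Lib.Seat81ResLE3
import Groth.Agent.Lib.Seat81ResAux
import Groth.Agent.Lib.Seat81LocExact

set_option autoImplicit false
universe u
open CohCmp

namespace Groth.Agent.Lib.Seat81.LocZero

open AlgebraicGeometry CategoryTheory Scheme.Modules Opposite Limits TopologicalSpace Abelian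
open Groth.Agent.Lib.Helper23.SectCmpLib Groth.Agent.Lib.Seat81.ResLE Groth.Agent.Lib.Seat81.LocExact

theorem key_succ
    {X Y : Scheme.{u}} (f : X ⟶ Y) [HasInjectiveResolutions X.Modules]
    {Δ : RDer.DerivedLES (pushforward f)} (E : CohCmp.SectCmp f Δ)
    (S : ShortComplex X.Modules) (hS : S.ShortExact) [Injective S.X₂] (p' : ℕ)
    (V : Y.Opens) (x' : Coh.HHon X S.X₃ (f ⁻¹ᵁ V) (p' + 1))
    (hδ : (Δ.δ S hS (p' + 1) (p' + 2) rfl).app V (E.ε V S.X₃ (p' + 1) x') = 0) :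
    E.ε V S.X₃ (p' + 1) x' = 0 := by
  have hz : IsZero ((Coh.Rpush f (p' + 1)).obj S.X₂) :=
    Functor.isZero_rightDerived_obj_injective_succ _ p' _
  have hex := Δ.exact₃ S hS (p' + 1) (p' + 2) rfl
  have hmono : Mono (Δ.δ S hS (p' + 1) (p' + 2) rfl) := hex.mono_g (hz.eq_of_src _ _)
  exact app_injective_of_mono _ V (hδ.trans (map_zero _).symm)

theorem key_zero
    {X Y : Scheme.{u}} (f : X ⟶ Y) [HasInjectiveResolutions X.Modules]
    {Δ : RDer.DerivedLES (pushforward f)} (E : CohCmp.SectCmp f Δ)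
    (S : ShortComplex X.Modules) (hS : S.ShortExact)
    (V : Y.Opens) (q' : Coh.HHon X S.X₃ (f ⁻¹ᵁ V) 0)
    (hδ : (Δ.δ S hS 0 1 rfl).app V (E.ε V S.X₃ 0 q') = 0) (y : Y) (hy : y ∈ V) :
    ∃ (W : Y.Opens) (hWV : W ≤ V), y ∈ W ∧ ∃ z : Coh.HHon X S.X₂ (f ⁻¹ᵁ W) 0,
      CohPull.resLE S.X₃ (f.preimage_mono hWV) 0 q' =
        CohPull.mapH ((restrictFunctor (f ⁻¹ᵁ W).ι).map S.g) 0 z := by
  obtain ⟨q, rfl⟩ := (CohPull.sectH0 S.X₃ (f ⁻¹ᵁ V)).surjective q'
  rw [E.zero V S.X₃ q] at hδ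
  let τQ := (pushforward f).toRightDerivedZero.app S.X₃
  let τI := (pushforward f).toRightDerivedZero.app S.X₂
  obtain ⟨W, hWV, hyW, t', ht'⟩ := exists_local_lift_of_exact
    (ShortComplex.mk _ _ (Δ.comp_δ S hS 0 1 rfl)) (Δ.exact₃ S hS 0 1 rfl) V (τQ.app V q) hδ y hy
  have hτI : IsIso τI := inferInstance
  have hτQ : IsIso τQ := inferInstance
  let i : S.X₂.presheaf.obj (op (f ⁻¹ᵁ W)) := (inv τI).app W t'
  have hi : τI.app W i = t' :=
    congrArg (fun φ : (Coh.Rpush f 0).obj S.X₂ ⟶ (Coh.Rpush f 0).obj S.X₂ => φ.app W t')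
      (IsIso.inv_hom_id τI)
  have nat : (pushforward f).map S.g ≫ τQ = τI ≫ (Coh.Rpush f 0).map S.g :=
    (pushforward f).toRightDerivedZero.naturality S.g
  have nat' : τQ.app W (S.g.app (f ⁻¹ᵁ W) i) = ((Coh.Rpush f 0).map S.g).app W (τI.app W i) :=
    congrArg (fun φ : (pushforward f).obj S.X₂ ⟶ (Coh.Rpush f 0).obj S.X₃ => φ.app W i) nat
  have natτ : τQ.app W (S.X₃.presheaf.map (homOfLE (f.preimage_mono hWV)).op q) =
      ((Coh.Rpush f 0).obj S.X₃).presheaf.map (homOfLE hWV).op (τQ.app V q) :=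
    ConcreteCategory.congr_hom (τQ.mapPresheaf.naturality (homOfLE hWV).op) q
  have hq : S.X₃.presheaf.map (homOfLE (f.preimage_mono hWV)).op q = S.g.app (f ⁻¹ᵁ W) i := by
    apply app_injective_of_mono τQ W
    rw [natτ, nat', hi]
    exact ht'.symm
  refine ⟨W, hWV, hyW, CohPull.sectH0 S.X₂ (f ⁻¹ᵁ W) i, ?_⟩
  rw [resLE_sectH0, hq, mapH_sectH0]

end Groth.Agent.Lib.Seat81.LocZero
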