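/-
Seat 81 helper library: coherence of higher direct images of a coherent module with proper support (S0795), granted
finiteness of cohomology over a Noetherian affine base (S0002), via `Seat81ProperCoh.isCoh_Rpush` (S0036) and S0792.
-/
import Mathlib
import Groth.Agent.Lib.Seat81ProperCoh
import Groth.Agent.Lib.Seat81LerayOut
import Groth.Agent.Lib.Seat81GSS3
import Groth.Agent.S0792

set_option autoImplicit false
universe u

namespace Groth.Agent.Lib.Seat81.ProperSupp

open AlgebraicGeometry CategoryTheory Scheme.Modules Opposite Limits TopologicalSpace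
open Groth.Agent.Lib.Seat81 Groth.Agent.Lib.Seat81.GSS

attribute [local instance] Groth.Agent.Lib.Seat81.LerayOut.enoughInj

/-- Leray for an affine first morphism: `R^p (i ≫ f)_* G ≅ R^p f_* (i_* G)` for `i` affine and `G` quasi-coherent. -/
theorem nonempty_Rpush_comp_iso_of_isAffineHom {Z X S : Scheme.{u}} (i : Z ⟶ X) (f : X ⟶ S) [IsAffineHom i]
    [HasInjectiveResolutions Z.Modules] [HasInjectiveResolutions X.Modules]
    (G : Z.Modules) [G.IsQuasicoherent] (p : ℕ) :
    Nonempty ((Coh.Rpush (i ≫ f) p).obj G ≅ (Coh.Rpush f p).obj ((pushforward i).obj G)) := by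
  obtain ⟨e⟩ := gss_edgeIn (pushforward i) (pushforward f) (LerayOut.acyc_push_push_injective i f) G
    (LerayOut.acyc_push_of_isAffineHom i G) p
  exact ⟨(RDer.rightDerivedIso (pushforwardComp i f) p).symm.app G ≪≫ e⟩

/-- S0795 from S0002 -/
theorem isCoh_Rpush_of_properSupport (hfin : ProperCoh.FiniteCohomology.{u}) {X S : Scheme.{u}} (f : X ⟶ S)
    [LocallyOfFiniteType f] [IsLocallyNoetherian S] [HasInjectiveResolutions X.Modules]
    (F : X.Modules) (hF : Coh.IsCoh F) (hs : ClSub.IsProperOver f (CohB1.support F)) (p : ℕ) :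
    Coh.IsCoh ((Coh.Rpush f p).obj F) := by
  obtain ⟨Z, i, hi, hprop, G, hGq, hGft, ⟨e⟩⟩ := (Groth.Agent.S0792.result f F hF.1 hF.2).mp hs
  have hGq' : G.IsQuasicoherent := hGq
  have h1 : Coh.IsCoh ((Coh.Rpush (i ≫ f) p).obj G) := ProperCoh.isCoh_Rpush (i ≫ f) hfin G ⟨hGq, hGft⟩ p
  obtain ⟨e1⟩ := nonempty_Rpush_comp_iso_of_isAffineHom i f G p
  have e2 : (Coh.Rpush (i ≫ f) p).obj G ≅ (Coh.Rpush f p).obj F := e1 ≪≫ (Coh.Rpush f p).mapIso e
  have hq1 : ((Coh.Rpush (i ≫ f) p).obj G).IsQuasicoherent := h1.1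
  have hf1 : SheafOfModules.IsFiniteType (R := S.ringCatSheaf) ((Coh.Rpush (i ≫ f) p).obj G) := h1.2
  exact ⟨Groth.Agent.Lib.Helper23.TensorQCoh.isQuasicoherent_of_iso e2,
    Groth.Agent.Lib.Helper23.FinType.isFiniteType_of_iso e2⟩

end Groth.Agent.Lib.Seat81.ProperSupp
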