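/-
Seat 81 helper library: two-out-of-three for quasi-isomorphisms in a morphism of short exact sequences of complexes
(the variants for the first and the middle term; Mathlib has the variant for the third term).
-/
import Mathlib

set_option autoImplicit false

namespace Groth.Agent.Lib.Seat81.QisSES

open CategoryTheory ComposableArrows Abelian HomologicalComplex HomologicalComplex.HomologySequence

variable {C ι : Type*} [Category C] [Abelian C] {c : ComplexShape ι}
  {S₁ S₂ : ShortComplex (HomologicalComplex C c)} (φ : S₁ ⟶ S₂)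
  (hS₁ : S₁.ShortExact) (hS₂ : S₂.ShortExact)

include hS₁ hS₂

theorem isIso_homologyMap_τ₁ (j : ι)
    (h₂ : IsIso (homologyMap φ.τ₂ j)) (h₃ : Mono (homologyMap φ.τ₃ j))
    (h₂' : ∀ i, c.Rel i j → Epi (homologyMap φ.τ₂ i))
    (h₃' : ∀ i, c.Rel i j → IsIso (homologyMap φ.τ₃ i)) :
    IsIso (homologyMap φ.τ₁ j) := by
  by_cases hj : ∃ i, c.Rel i j
  · obtain ⟨i, hij⟩ := hj
    have := h₃' i hij
    exact isIso_of_epi_of_isIso_of_isIso_of_mono
      (composableArrows₅_exact hS₁ i j hij).δ₀ (composableArrows₅_exact hS₂ i j hij).δ₀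
      (δ₀Functor.map (mapComposableArrows₅ φ hS₁ hS₂ i j hij)) (h₂' i hij) this h₂ h₃
  · have hm₁ : Mono (homologyMap S₁.f j) := by
      have := hS₁.mono_f
      exact mono_homologyMap_of_mono_of_not_rel S₁.f j (by simpa using hj)
    have hm₂ : Mono (homologyMap S₂.f j) := by
      have := hS₂.mono_f
      exact mono_homologyMap_of_mono_of_not_rel S₂.f j (by simpa using hj)
    exact isIso_of_isIso_of_mono (mapComposableArrows₂ φ j) (composableArrows₂_exact hS₁ j)
      (composableArrows₂_exact hS₂ j) hm₁ hm₂ h₂ h₃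

theorem quasiIso_τ₁ (h₂ : QuasiIso φ.τ₂) (h₃ : QuasiIso φ.τ₃) : QuasiIso φ.τ₁ := by
  rw [quasiIso_iff]
  intro j
  rw [quasiIsoAt_iff_isIso_homologyMap]
  apply isIso_homologyMap_τ₁ φ hS₁ hS₂
  all_goals infer_instance

theorem mono_homologyMap_τ₂ (j : ι)
    (h₁ : Mono (homologyMap φ.τ₁ j)) (h₃ : Mono (homologyMap φ.τ₃ j))
    (h₃' : ∀ i, c.Rel i j → Epi (homologyMap φ.τ₃ i)) :
    Mono (homologyMap φ.τ₂ j) := by
  by_cases hj : ∃ i, c.Rel i j
  · obtain ⟨i, hij⟩ := hj
    exact mono_of_epi_of_mono_of_mono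
      ((δ₀Functor ⋙ δ₀Functor).map (mapComposableArrows₅ φ hS₁ hS₂ i j hij))
      (composableArrows₅_exact hS₁ i j hij).δ₀.δ₀ (composableArrows₅_exact hS₂ i j hij).δ₀.δ₀
      (h₃' i hij) h₁ h₃
  · have hm₂ : Mono (homologyMap S₂.f j) := by
      have := hS₂.mono_f
      exact mono_homologyMap_of_mono_of_not_rel S₂.f j (by simpa using hj)
    exact mono_of_mono_of_mono_of_mono (mapComposableArrows₂ φ j) (composableArrows₂_exact hS₁ j)
      hm₂ h₁ h₃

theorem epi_homologyMap_τ₂ (j : ι)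
    (h₁ : Epi (homologyMap φ.τ₁ j)) (h₃ : Epi (homologyMap φ.τ₃ j))
    (h₁' : ∀ k, c.Rel j k → Mono (homologyMap φ.τ₁ k)) :
    Epi (homologyMap φ.τ₂ j) := by
  by_cases hj : ∃ k, c.Rel j k
  · obtain ⟨k, hjk⟩ := hj
    exact epi_of_epi_of_epi_of_mono
      ((δlastFunctor ⋙ δlastFunctor).map (mapComposableArrows₅ φ hS₁ hS₂ j k hjk))
      (composableArrows₅_exact hS₁ j k hjk).δlast.δlast (composableArrows₅_exact hS₂ j k hjk).δlast.δlast
      h₁ h₃ (h₁' k hjk)
  · have he₁ : Epi (homologyMap S₁.g j) := by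
      have := hS₁.epi_g
      exact epi_homologyMap_of_epi_of_not_rel S₁.g j (by simpa using hj)
    exact epi_of_epi_of_epi_of_epi (mapComposableArrows₂ φ j) (composableArrows₂_exact hS₂ j)
      he₁ h₁ h₃

theorem quasiIso_τ₂ (h₁ : QuasiIso φ.τ₁) (h₃ : QuasiIso φ.τ₃) : QuasiIso φ.τ₂ := by
  rw [quasiIso_iff]
  intro j
  rw [quasiIsoAt_iff_isIso_homologyMap]
  have := mono_homologyMap_τ₂ φ hS₁ hS₂ j inferInstance inferInstance (fun i _ => inferInstance)
  have := epi_homologyMap_τ₂ φ hS₁ hS₂ j inferInstance inferInstance (fun k _ => inferInstance)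
  exact isIso_of_mono_of_epi _

end Groth.Agent.Lib.Seat81.QisSES
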