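/-
Seat 81 helper library: naturality of `CohPull.theta` and of the comparison `sigma`.
-/
import Mathlib
import Groth.Agent.Lib.Seat81ResLE

namespace Groth.Agent.Lib.Seat81.ResLE
open CategoryTheory AlgebraicGeometry TopologicalSpace Opposite
open AlgebraicGeometry.Scheme.Modules
universe u
set_option autoImplicit false

section
variable {X Y : Scheme.{u}}

/-- naturality of `theta` -/
theorem theta_naturality (g : X ⟶ Y) {M M' : Y.Modules} (ψ : M ⟶ M') :
    (CohPull.inv g.base).map ((SheafOfModules.toSheaf Y.ringCatSheaf).map ψ) ≫ CohPull.theta g M' =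
      CohPull.theta g M ≫ (SheafOfModules.toSheaf X.ringCatSheaf).map ((pullback g).map ψ) := by
  let uM : Coh.toAb M ⟶ (CohTop.push g.base).obj (Coh.toAb ((pullback g).obj M)) :=
    (SheafOfModules.toSheaf Y.ringCatSheaf).map ((pullbackPushforwardAdjunction g).unit.app M)
  let uM' : Coh.toAb M' ⟶ (CohTop.push g.base).obj (Coh.toAb ((pullback g).obj M')) :=
    (SheafOfModules.toSheaf Y.ringCatSheaf).map ((pullbackPushforwardAdjunction g).unit.app M')
  let a : Coh.toAb M ⟶ Coh.toAb M' := (SheafOfModules.toSheaf Y.ringCatSheaf).map ψ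
  let b : Coh.toAb ((pullback g).obj M) ⟶ Coh.toAb ((pullback g).obj M') :=
    (SheafOfModules.toSheaf X.ringCatSheaf).map ((pullback g).map ψ)
  have hn := (pullbackPushforwardAdjunction g).unit.naturality ψ
  have h3 : a ≫ uM' = uM ≫ (CohTop.push g.base).map b := by
    have h3' := congrArg (fun t => (SheafOfModules.toSheaf Y.ringCatSheaf).map t) hn
    refine Eq.trans ?_ (h3'.trans ?_)
    · exact ((SheafOfModules.toSheaf Y.ringCatSheaf).map_comp _ _).symm
    · exact (SheafOfModules.toSheaf Y.ringCatSheaf).map_comp _ _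
  have h1 := Adjunction.homEquiv_naturality_left_symm (CohPull.invPushAdj g.base) a uM'
  have h2 := Adjunction.homEquiv_naturality_right_symm (CohPull.invPushAdj g.base) uM b
  change (CohPull.inv g.base).map a ≫ ((CohPull.invPushAdj g.base).homEquiv _ _).symm uM' =
    ((CohPull.invPushAdj g.base).homEquiv _ _).symm uM ≫ b
  rw [← h1, ← h2, h3]
end

section
variable {X : Scheme.{u}} {A A' : Scheme.{u}} (ιU : A ⟶ X) (ιU' : A' ⟶ X) [IsOpenImmersion ιU] [IsOpenImmersion ιU']
  (j : A' ⟶ A) (e' : j ≫ ιU = ιU')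

theorem sigma_naturality {F G : X.Modules} (ψ : F ⟶ G) :
    (pullback j).map ((restrictFunctor ιU).map ψ) ≫ sigma ιU ιU' j e' G =
      sigma ιU ιU' j e' F ≫ (restrictFunctor ιU').map ψ := by
  unfold sigma
  have n1 := (restrictFunctorIsoPullback ιU).hom.naturality ψ
  have n2 := (pullbackComp j ιU).hom.naturality ψ
  have n3 := (pullbackCongr e').hom.naturality ψ
  have n4 := (restrictFunctorIsoPullback ιU').inv.naturality ψ
  simp only [Functor.comp_map] at n2
  simp only [Category.assoc]
  rw [← n4, ← reassoc_of% n3, ← reassoc_of% n2, ← Functor.map_comp_assoc, n1, Functor.map_comp_assoc]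
end

end Groth.Agent.Lib.Seat81.ResLE
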