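/-
Seat 81 helper library: `CohPull.resLE` commutes with the connecting homomorphisms (`resLE_extδ`).
-/
import Mathlib
import Groth.Prelude.Def_CohCmp
import Groth.Agent.Lib.Seat81ResNat
import Groth.Agent.Lib.Seat81ResLE2
import Groth.Agent.Lib.Seat81EdgeAb

namespace Groth.Agent.Lib.Seat81.ResLE
open CategoryTheory AlgebraicGeometry TopologicalSpace Opposite
open AlgebraicGeometry.Scheme.Modules
universe u
set_option autoImplicit false
variable {X : Scheme.{u}} {U U' : X.Opens} (h : U' ≤ U)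

/-- `τ_F : j⁻¹(F|_U) ⟶ F|_{U'}` on underlying abelian sheaves -/
noncomputable def tau (F : X.Modules) :
    (CohPull.inv (jj h).base).obj ((CohCmp.toAbOn X U).obj F) ⟶ (CohCmp.toAbOn X U').obj F :=
  CohPull.theta (jj h) (F.restrict U.ι) ≫ (SheafOfModules.toSheaf _).map (rho F h)

theorem tau_naturality {F G : X.Modules} (ψ : F ⟶ G) :
    (CohPull.inv (jj h).base).map ((CohCmp.toAbOn X U).map ψ) ≫ tau h G =
      tau h F ≫ (CohCmp.toAbOn X U').map ψ := by
  unfold tau
  have h1 := theta_naturality (jj h) ((restrictFunctor U.ι).map ψ)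
  have h2 := sigma_naturality U.ι U'.ι (jj h) (jj_ι h) ψ
  rw [← rho_eq_sigma, ← rho_eq_sigma] at h2
  have h2' := congrArg (fun t => (SheafOfModules.toSheaf (U' : Scheme.{u}).ringCatSheaf).map t) h2
  refine (Category.assoc _ _ _).symm.trans ?_
  refine (congrArg (fun t => t ≫ _) h1).trans ?_
  refine (Category.assoc _ _ _).trans ?_
  refine Eq.trans ?_ (Category.assoc _ _ _).symm
  refine congrArg (fun t => CohPull.theta (jj h) (F.restrict U.ι) ≫ t) ?_
  refine Eq.trans ?_ (h2'.trans ?_)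
  · exact ((SheafOfModules.toSheaf (U' : Scheme.{u}).ringCatSheaf).map_comp _ _).symm
  · exact (SheafOfModules.toSheaf (U' : Scheme.{u}).ringCatSheaf).map_comp _ _

theorem resLE_eq_tau (F : X.Modules) (p : ℕ) (x : Coh.HHon X F U p) :
    CohPull.resLE F h p x =
      Sheaf.H.map (tau h F) p (CohPull.pullAb (jj h).base ((CohCmp.toAbOn X U).obj F) p x) := by
  rw [resLE_eq]
  unfold tau
  rw [Sheaf.H.map_comp_apply]
  rfl

open Groth.Agent.Lib.Seat81.EdgeAb in
theorem resLE_extδ (S : ShortComplex X.Modules) (hA : (S.map (CohCmp.toAbOn X U)).ShortExact)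
    (hA' : (S.map (CohCmp.toAbOn X U')).ShortExact) (p : ℕ) (x : Coh.HHon X S.X₃ U p) :
    CohPull.resLE S.X₁ h (p + 1) (CohCmp.extδ hA p x) =
      CohCmp.extδ hA' p (CohPull.resLE S.X₃ h p x) := by
  have e1 := resLE_eq_tau h S.X₁ (p + 1) (CohCmp.extδ hA p x)
  have e3 := resLE_eq_tau h S.X₃ p x
  refine e1.trans (Eq.trans ?_ (congrArg (CohCmp.extδ hA' p) e3.symm))
  have h1 := pullAb_extδ (jj h).base hA p x
  let φ : (S.map (CohCmp.toAbOn X U)).map (CohPull.inv (jj h).base) ⟶ S.map (CohCmp.toAbOn X U') :=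
    { τ₁ := tau h S.X₁
      τ₂ := tau h S.X₂
      τ₃ := tau h S.X₃
      comm₁₂ := (tau_naturality h S.f).symm
      comm₂₃ := (tau_naturality h S.g).symm }
  have h2 := map_extδ (hA.map_of_exact (CohPull.inv (jj h).base)) hA' φ p
    (CohPull.pullAb (jj h).base (S.map (CohCmp.toAbOn X U)).X₃ p x)
  exact (congrArg (Sheaf.H.map φ.τ₁ (p + 1)) h1).trans h2

end Groth.Agent.Lib.Seat81.ResLE
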