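import Mathlib
import Groth.Prelude.Def_BlowUp2
import Groth.Agent.Lib.Helper20EffCartier
import Groth.Agent.Lib.Helper22IdealComap

/-!
# Separation of closures after a blow-up (seat 82)

Namespace `Groth.Agent.Lib.Seat82.BlowUpSeparate`.
* `ptIdeal U y hy`: the ideal of sections over `U` vanishing at `y` (`mem_ptIdeal : f ∈ ptIdeal ↔ y ∉ basicOpen f`).
* `notMem_basicOpen_of_mem_support`, `mem_basicOpen_of_notMem_support`: evaluation of local sections of an ideal sheaf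
  at points in/outside of its support.
* `exists_factor_notMem` (Lemma A): `𝓕 ≤ 𝓐`, `(𝓐.comap q)(U') = (t₀)`, `x'` in the closure of `q⁻¹ S` with
  `S ⊆ supp 𝓕`, `S ∩ supp 𝓐 = ∅` ⟹ every `f ∈ 𝓕(U)` pulls back to `t₀ * β` with `β` vanishing at `x'`.
* `notMem_closure_of_mem_sup` (Lemma B).
* `disjoint_of_separation` (Theorem S): the abstract form of the classical "blowing up separates closures" lemmas.
-/

set_option autoImplicit false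
universe u
open CategoryTheory CategoryTheory.Limits AlgebraicGeometry Opposite TopologicalSpace

namespace Groth.Agent.Lib.Seat82.BlowUpSeparate

open Scheme.IdealSheafData Groth.Agent.Lib.Helper20

variable {X : Scheme.{u}}

/-- the ideal of sections over `U` vanishing at `y`. -/
noncomputable def ptIdeal (U : X.Opens) (y : X) (hy : y ∈ U) : Ideal Γ(X, U) :=
  Ideal.comap (X.presheaf.germ U y hy).hom (IsLocalRing.maximalIdeal (X.presheaf.stalk y))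

theorem mem_ptIdeal {U : X.Opens} {y : X} {hy : y ∈ U} {f : Γ(X, U)} :
    f ∈ ptIdeal U y hy ↔ y ∉ X.basicOpen f := by
  rw [ptIdeal, Ideal.mem_comap, IsLocalRing.mem_maximalIdeal, mem_nonunits_iff,
    Scheme.mem_basicOpen _ f y hy]

theorem one_notMem_ptIdeal {U : X.Opens} {y : X} {hy : y ∈ U} : (1 : Γ(X, U)) ∉ ptIdeal U y hy := by
  rw [mem_ptIdeal, not_not, Scheme.mem_basicOpen _ _ y hy, map_one]
  exact isUnit_one

theorem notMem_basicOpen_of_mem_support (I : X.IdealSheafData) (U : X.affineOpens) (y : X)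
    (hyU : y ∈ U.1) (hy : y ∈ I.support) {f : Γ(X, U.1)} (hf : f ∈ I.ideal U) :
    y ∉ X.basicOpen f := by
  rw [mem_support_iff_of_mem hyU, Scheme.mem_zeroLocus_iff] at hy
  exact hy f hf

theorem mem_basicOpen_of_notMem_support (I : X.IdealSheafData) (U : X.affineOpens) (y : X)
    (hyU : y ∈ U.1) (hy : y ∉ I.support) (t : Γ(X, U.1)) (ht : I.ideal U = Ideal.span {t}) :
    y ∈ X.basicOpen t := by
  rw [mem_support_iff_of_mem hyU, ht, Scheme.zeroLocus_span, Scheme.zeroLocus_singleton,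
    Set.notMem_compl_iff, SetLike.mem_coe] at hy
  exact hy

/-- a principal generator can be found on arbitrarily small affine neighbourhoods. -/
theorem exists_le_of_principal (I : X.IdealSheafData) (x : X)
    (h : ∃ U : X.affineOpens, x ∈ U.1 ∧ ∃ t : Γ(X, U.1), I.ideal U = Ideal.span {t})
    (W : X.Opens) (hxW : x ∈ W) :
    ∃ U : X.affineOpens, x ∈ U.1 ∧ U.1 ≤ W ∧ ∃ t : Γ(X, U.1), I.ideal U = Ideal.span {t} := by
  obtain ⟨U', hxU', a, hIa⟩ := h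
  obtain ⟨r, hrW, hxr⟩ := U'.2.exists_basicOpen_le ⟨x, hxW⟩ hxU'
  refine ⟨X.affineBasicOpen r, hxr, hrW,
    (X.presheaf.map (homOfLE (X.basicOpen_le r)).op).hom a, ?_⟩
  have h2 := I.map_ideal_basicOpen U' r
  rw [hIa, Ideal.map_span, Set.image_singleton] at h2
  exact h2.symm

variable {X' : Scheme.{u}}

/-- Lemma A. -/
theorem exists_factor_notMem (q : X' ⟶ X) (𝓕 𝓐 : X.IdealSheafData) (hFA : 𝓕 ≤ 𝓐) (S : Set X)
    (hSF : S ⊆ (𝓕.support : Set X)) (hSA : Disjoint S (𝓐.support : Set X))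
    (x' : X') (hx' : x' ∈ closure (q ⁻¹' S))
    (UX : X.affineOpens) (UX' : X'.affineOpens) (hle : UX'.1 ≤ q ⁻¹ᵁ UX.1)
    (t₀ : Γ(X', UX'.1)) (ht₀ : (𝓐.comap q).ideal UX' = Ideal.span {t₀})
    (f : Γ(X, UX.1)) (hf : f ∈ 𝓕.ideal UX) :
    ∃ β : Γ(X', UX'.1), (q.appLE UX.1 UX'.1 hle).hom f = t₀ * β ∧ x' ∉ X'.basicOpen β := by
  have h1 : (q.appLE UX.1 UX'.1 hle).hom f ∈ (𝓐.comap q).ideal UX' := by
    have e1 := EffCartier.ideal_comap_eq_map q 𝓐 UX'.2 UX.2 hle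
    change (𝓐.comap q).ideal UX' = _ at e1
    rw [e1]
    exact Ideal.mem_map_of_mem _ (hFA _ hf)
  rw [ht₀, Ideal.mem_span_singleton'] at h1
  obtain ⟨β, hβ⟩ := h1
  refine ⟨β, by rw [← hβ, mul_comm], ?_⟩
  intro hx'β
  rw [mem_closure_iff] at hx'
  obtain ⟨y', hy'β, hy'S⟩ := hx' (X'.basicOpen β) (X'.basicOpen β).2 hx'β
  have hy'U : y' ∈ UX'.1 := X'.basicOpen_le β hy'β
  have hy't : y' ∈ X'.basicOpen t₀ := by
    apply mem_basicOpen_of_notMem_support (𝓐.comap q) UX' y' hy'U _ t₀ ht₀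
    rw [support_comap]
    intro hmem
    exact Set.disjoint_left.1 hSA hy'S hmem
  have h2 : y' ∈ X'.basicOpen ((q.appLE UX.1 UX'.1 hle).hom f) := by
    rw [← hβ, Scheme.basicOpen_mul]
    exact ⟨hy'β, hy't⟩
  rw [Scheme.basicOpen_appLE] at h2
  exact notMem_basicOpen_of_mem_support 𝓕 UX (q y') (hle hy'U) (hSF hy'S) hf h2.2

/-- Lemma B. -/
theorem notMem_closure_of_mem_sup {Z' : Scheme.{u}} (Ω : Z'.Opens) (z' : Z') (hz' : z' ∈ Ω)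
    (t : Γ(Z', Ω)) (K : Ideal Γ(Z', Ω))
    (ht : t ∈ Ideal.span {t} * ptIdeal Ω z' hz' ⊔ K) (Sg : Set Z')
    (hSg : ∀ s ∈ Sg, s ∈ Ω → s ∈ Z'.basicOpen t ∧ ∀ γ ∈ K, s ∉ Z'.basicOpen γ) :
    z' ∉ closure Sg := by
  obtain ⟨a, ha, γ, hγ, hsum⟩ := Submodule.mem_sup.1 ht
  obtain ⟨e, he, rfl⟩ := Ideal.mem_span_singleton_mul.1 ha
  have hγ' : γ = t * (1 - e) := by linear_combination hsum
  have h1 : z' ∈ Z'.basicOpen (1 - e) := by
    by_contra hcon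
    rw [← mem_ptIdeal (hy := hz')] at hcon
    apply one_notMem_ptIdeal (hy := hz')
    have := Ideal.add_mem _ hcon he
    rwa [sub_add_cancel] at this
  intro hcl
  rw [mem_closure_iff] at hcl
  obtain ⟨s, hs1, hsSg⟩ := hcl (Z'.basicOpen (1 - e)) (Z'.basicOpen (1 - e)).2 h1
  have hsΩ : s ∈ Ω := Z'.basicOpen_le _ hs1
  obtain ⟨hst, hsK⟩ := hSg s hsSg hsΩ
  apply hsK γ hγ
  rw [hγ', Scheme.basicOpen_mul]
  exact ⟨hst, hs1⟩

variable {Z Z' : Scheme.{u}}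

/-- Theorem S: separation of closures. -/
theorem disjoint_of_separation (q : X' ⟶ X) (p : Z ⟶ X) (fst : Z' ⟶ Z) (snd : Z' ⟶ X')
    (hsq : fst ≫ p = snd ≫ q) (𝓕 𝓐 : X.IdealSheafData) (hFA : 𝓕 ≤ 𝓐)
    (hprin : ∀ x' : X', ∃ U' : X'.affineOpens, x' ∈ U'.1 ∧
      ∃ t₀ : Γ(X', U'.1), (𝓐.comap q).ideal U' = Ideal.span {t₀})
    (S : Set X) (hSF : S ⊆ (𝓕.support : Set X)) (hSA : Disjoint S (𝓐.support : Set X))
    (𝓚 : Z.IdealSheafData) (hK : 𝓐.comap p ≤ 𝓕.comap p ⊔ 𝓚)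
    (Sg : Set Z') (hSg : ∀ s ∈ Sg, p (fst s) ∉ 𝓐.support ∧ fst s ∈ 𝓚.support) :
    Disjoint (snd ⁻¹' closure (q ⁻¹' S)) (closure Sg) := by
  rw [Set.disjoint_left]
  intro z' hz'1 hz'2
  have hpt : ∀ s : Z', p (fst s) = q (snd s) := by
    intro s
    rw [← Scheme.Hom.comp_apply, ← Scheme.Hom.comp_apply, hsq]
  -- affine opens
  obtain ⟨UX, hUX, hxUX, -⟩ :=
    exists_isAffineOpen_mem_and_subset (x := q (snd z')) (U := (⊤ : X.Opens)) trivial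
  obtain ⟨U', hx'U', hU'le, t₀, ht₀⟩ :=
    exists_le_of_principal (𝓐.comap q) (snd z') (hprin _) (q ⁻¹ᵁ UX) hxUX
  have hzUX : fst z' ∈ p ⁻¹ᵁ UX := by
    change p (fst z') ∈ UX
    rw [hpt]; exact hxUX
  obtain ⟨UZ, hUZ, hzUZ, hUZle⟩ :=
    exists_isAffineOpen_mem_and_subset (x := fst z') (U := p ⁻¹ᵁ UX) hzUX
  obtain ⟨Ω, hΩ, hz'Ω, hΩle⟩ := exists_isAffineOpen_mem_and_subset (x := z')
    (U := snd ⁻¹ᵁ U'.1 ⊓ fst ⁻¹ᵁ UZ) ⟨hx'U', hzUZ⟩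
  have hΩ1 : Ω ≤ snd ⁻¹ᵁ U'.1 := fun s hs => (hΩle hs).1
  have hΩ2 : Ω ≤ fst ⁻¹ᵁ UZ := fun s hs => (hΩle hs).2
  set α := (q.appLE UX U'.1 hU'le).hom with hα
  set σ := (snd.appLE U'.1 Ω hΩ1).hom with hσ
  set φ := (fst.appLE UZ Ω hΩ2).hom with hφ
  set ρ := (p.appLE UX UZ hUZle).hom with hρ
  have hcomm : σ.comp α = φ.comp ρ := by
    have hle1 : Ω ≤ (snd ≫ q) ⁻¹ᵁ UX := fun s hs => hU'le (hΩ1 hs)
    have hle2 : Ω ≤ (fst ≫ p) ⁻¹ᵁ UX := fun s hs => hUZle (hΩ2 hs)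
    have e1 : q.appLE UX U'.1 hU'le ≫ snd.appLE U'.1 Ω hΩ1 = (snd ≫ q).appLE UX Ω hle1 :=
      Scheme.Hom.appLE_comp_appLE _ _ _ _ _ _ _
    have e2 : p.appLE UX UZ hUZle ≫ fst.appLE UZ Ω hΩ2 = (fst ≫ p).appLE UX Ω hle2 :=
      Scheme.Hom.appLE_comp_appLE _ _ _ _ _ _ _
    have e3 : (fst ≫ p).appLE UX Ω hle2 = (snd ≫ q).appLE UX Ω hle1 :=
      Groth.Agent.Lib.Helper22.IdealComap.appLE_congr_hom hsq _ _ _
    rw [hσ, hα, hφ, hρ, ← CommRingCat.hom_comp, ← CommRingCat.hom_comp, e1, e2, e3]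
  set t := σ t₀ with ht
  -- (iii)
  have hA : (𝓐.ideal ⟨UX, hUX⟩).map α = Ideal.span {t₀} := by
    rw [← ht₀]
    exact (EffCartier.ideal_comap_eq_map q 𝓐 U'.2 hUX hU'le).symm
  have hAt : ((𝓐.ideal ⟨UX, hUX⟩).map α).map σ = Ideal.span {t} := by
    rw [hA, Ideal.map_span, Set.image_singleton]
  -- (i)
  have hF : ((𝓕.ideal ⟨UX, hUX⟩).map α).map σ ≤ Ideal.span {t} * ptIdeal Ω z' hz'Ω := by
    rw [Ideal.map_map, Ideal.map_le_iff_le_comap]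
    intro f hf
    obtain ⟨β, hβ, hβx'⟩ := exists_factor_notMem q 𝓕 𝓐 hFA S hSF hSA (snd z') hz'1 ⟨UX, hUX⟩ U'
      hU'le t₀ ht₀ f hf
    rw [Ideal.mem_comap, RingHom.comp_apply]
    change σ ((q.appLE UX U'.1 hU'le).hom f) ∈ _
    rw [hβ, map_mul]
    refine Ideal.mul_mem_mul (Ideal.mem_span_singleton_self t) ?_
    rw [mem_ptIdeal, hσ, Scheme.basicOpen_appLE]
    exact fun h => hβx' h.2
  -- (ii)
  have hKD : (𝓐.ideal ⟨UX, hUX⟩).map ρ ≤ (𝓕.ideal ⟨UX, hUX⟩).map ρ ⊔ 𝓚.ideal ⟨UZ, hUZ⟩ := by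
    have h1 := hK ⟨UZ, hUZ⟩
    rw [ideal_sup] at h1
    change (𝓐.comap p).ideal ⟨UZ, hUZ⟩ ≤ (𝓕.comap p).ideal ⟨UZ, hUZ⟩ ⊔ 𝓚.ideal ⟨UZ, hUZ⟩ at h1
    rwa [EffCartier.ideal_comap_eq_map p 𝓐 hUZ hUX hUZle,
      EffCartier.ideal_comap_eq_map p 𝓕 hUZ hUX hUZle] at h1
  have hmem : t ∈ Ideal.span {t} * ptIdeal Ω z' hz'Ω ⊔ (𝓚.ideal ⟨UZ, hUZ⟩).map φ := by
    have h1 : t ∈ ((𝓐.ideal ⟨UX, hUX⟩).map α).map σ := by
      rw [hAt]; exact Ideal.mem_span_singleton_self t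
    rw [Ideal.map_map, hcomm, ← Ideal.map_map] at h1
    have h2 := Ideal.map_mono (f := φ) hKD h1
    rw [Ideal.map_sup, Ideal.map_map, ← hcomm, ← Ideal.map_map] at h2
    exact sup_le_sup_right hF _ h2
  refine notMem_closure_of_mem_sup Ω z' hz'Ω t _ hmem Sg ?_ hz'2
  intro s hsSg hsΩ
  obtain ⟨hs1, hs2⟩ := hSg s hsSg
  constructor
  · rw [ht, hσ, Scheme.basicOpen_appLE]
    refine ⟨hsΩ, ?_⟩
    apply mem_basicOpen_of_notMem_support (𝓐.comap q) U' (snd s) (hΩ1 hsΩ) _ t₀ ht₀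
    rw [support_comap]
    intro hmem'
    apply hs1
    rw [hpt]
    exact hmem'
  · intro γ hγ
    rw [← mem_ptIdeal (hy := hsΩ)]
    revert γ
    change (𝓚.ideal ⟨UZ, hUZ⟩).map φ ≤ ptIdeal Ω s hsΩ
    rw [Ideal.map_le_iff_le_comap]
    intro k hk
    rw [Ideal.mem_comap, mem_ptIdeal, hφ, Scheme.basicOpen_appLE]
    intro h
    exact notMem_basicOpen_of_mem_support 𝓚 ⟨UZ, hUZ⟩ (fst s) (hΩ2 hsΩ) hs2 hk h.2

end Groth.Agent.Lib.Seat82.BlowUpSeparate
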