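import Mathlib
import Groth.Prelude.Def_BlowUp2
import Groth.Agent.Lib.Helper20EffCartier
import Groth.Agent.Lib.Helper22FTIdeal
import Groth.Agent.Lib.Seat82BlowUpSup

/-!
# Extending a finite type ideal sheaf from a quasi-compact open (seat 82)

Namespace `Groth.Agent.Lib.Seat82.IdealExtend`.
* `quasiCompact_ι`: the inclusion of a quasi-compact open of a quasi-separated scheme is quasi-compact.
* `ideal_map_ι`, `comap_map_ι`: for such `V`, `(𝓘.map V.ι).comap V.ι = 𝓘`.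
* `exists_extension`: `X` qcqs, `U V` quasi-compact opens, `𝓘` of finite type on `V` with support disjoint from `U ∩ V`
  ⟹ there is `𝓙` of finite type on `X`, support disjoint from `U`, with `𝓙.comap V.ι = 𝓘` (Stacks 01PF-type extension).
-/

set_option autoImplicit false
universe u
open CategoryTheory AlgebraicGeometry TopologicalSpace

namespace Groth.Agent.Lib.Seat82.IdealExtend

open Scheme.IdealSheafData Groth.Agent.Lib.Helper20 Groth.Agent.Lib.Helper22.FTIdeal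

variable {X : Scheme.{u}}

theorem quasiCompact_ι [QuasiSeparatedSpace ↥X] (V : X.Opens) (hV : IsCompact (V : Set ↥X)) :
    QuasiCompact V.ι := by
  rw [quasiCompact_iff_forall_isAffineOpen]
  intro W hW
  have h1 : IsCompact ((V : Set ↥X) ∩ (W : Set ↥X)) :=
    QuasiSeparatedSpace.inter_isCompact V.1 W.1 V.2 hV W.2 hW.isCompact
  have h2 : ((V.ι ⁻¹ᵁ W : V.toScheme.Opens) : Set V.toScheme) =
      V.ι ⁻¹' ((V : Set ↥X) ∩ (W : Set ↥X)) := by
    ext x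
    simp only [Scheme.Hom.coe_preimage, Set.mem_preimage, SetLike.mem_coe, Set.mem_inter_iff]
    exact ⟨fun h => ⟨x.2, h⟩, fun h => h.2⟩
  rw [h2]
  apply V.ι.isOpenEmbedding.isInducing.isCompact_preimage' h1
  rw [Scheme.Opens.range_ι]
  exact Set.inter_subset_left

theorem bijective_ι_app (V : X.Opens) (W : X.Opens) (hWV : W ≤ V) :
    Function.Bijective (V.ι.app W).hom := by
  have hiso : IsIso (V.ι.app W) := V.ι.isIso_app W (by rw [Scheme.Opens.opensRange_ι]; exact hWV)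
  exact (ConcreteCategory.isIso_iff_bijective (V.ι.app W)).mp hiso

theorem ideal_map_ι (V : X.Opens) [QuasiCompact V.ι] (𝓘 : V.toScheme.IdealSheafData)
    (W : X.affineOpens) (hWV : W.1 ≤ V) (H : IsAffineOpen (V.ι ⁻¹ᵁ W.1)) :
    ((𝓘.map V.ι).ideal W).map (V.ι.app W.1).hom = 𝓘.ideal ⟨_, H⟩ := by
  rw [ideal_map 𝓘 V.ι W H]
  exact Ideal.map_comap_of_surjective _ (bijective_ι_app V W.1 hWV).2 _

theorem isAffineOpen_preimage_ι (V : X.Opens) (W : X.affineOpens) (hWV : W.1 ≤ V) :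
    IsAffineOpen (V.ι ⁻¹ᵁ W.1) :=
  W.2.preimage_of_isOpenImmersion V.ι (by rw [Scheme.Opens.opensRange_ι]; exact hWV)

theorem comap_map_ι (V : X.Opens) [QuasiCompact V.ι] (𝓘 : V.toScheme.IdealSheafData) :
    (𝓘.map V.ι).comap V.ι = 𝓘 := by
  let ι : Type u := {W : X.affineOpens // W.1 ≤ V}
  let W' : ι → V.toScheme.affineOpens := fun W => ⟨V.ι ⁻¹ᵁ W.1.1, isAffineOpen_preimage_ι V W.1 W.2⟩
  refine ext_of_iSup_eq_top W' ?_ ?_
  · rw [eq_top_iff]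
    intro x _
    obtain ⟨W, hW, hxW, hWV⟩ := exists_isAffineOpen_mem_and_subset (x := x.1) (U := V) x.2
    exact Opens.mem_iSup.2 ⟨⟨⟨W, hW⟩, hWV⟩, hxW⟩
  · rintro ⟨W, hWV⟩
    change ((𝓘.map V.ι).comap V.ι).ideal ⟨V.ι ⁻¹ᵁ W.1, isAffineOpen_preimage_ι V W hWV⟩ =
      𝓘.ideal ⟨V.ι ⁻¹ᵁ W.1, isAffineOpen_preimage_ι V W hWV⟩
    rw [EffCartier.ideal_comap_eq_map V.ι (𝓘.map V.ι) (isAffineOpen_preimage_ι V W hWV) W.2 le_rfl,
      Scheme.Hom.appLE_eq_app]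
    exact ideal_map_ι V 𝓘 W hWV _

theorem fg_ideal_map_ι (V : X.Opens) [QuasiCompact V.ι] (𝓘 : V.toScheme.IdealSheafData)
    (h𝓘 : BlowUp.IsFiniteTypeIdeal 𝓘) (W : X.affineOpens) (hWV : W.1 ≤ V) :
    ((𝓘.map V.ι).ideal W).FG := by
  have H := isAffineOpen_preimage_ι V W hWV
  rw [ideal_map 𝓘 V.ι W H]
  let e : Γ(X, W.1) ≃+* Γ(V.toScheme, V.ι ⁻¹ᵁ W.1) :=
    RingEquiv.ofBijective (V.ι.app W.1).hom (bijective_ι_app V W.1 hWV)
  have h1 : (𝓘.ideal ⟨_, H⟩).comap (V.ι.app W.1).hom = (𝓘.ideal ⟨_, H⟩).map (e.symm : _ →+* _) :=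
    (Ideal.map_symm (I := 𝓘.ideal ⟨_, H⟩) e).symm
  rw [h1]
  exact (h𝓘 ⟨_, H⟩).map _

theorem disjoint_support_map_ι (V : X.Opens) [QuasiCompact V.ι] (𝓘 : V.toScheme.IdealSheafData)
    (U : X.Opens) (h : Disjoint (𝓘.support : Set V.toScheme) (V.ι ⁻¹ᵁ U : Set V.toScheme)) :
    Disjoint ((𝓘.map V.ι).support : Set ↥X) (U : Set ↥X) := by
  rw [support_map, Set.disjoint_left]
  intro x hx hxU
  rw [TopologicalSpace.Closeds.coe_closure, mem_closure_iff] at hx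
  obtain ⟨_, hyU, z, hz, rfl⟩ := hx U U.2 hxU
  exact Set.disjoint_left.1 h hz hyU

theorem exists_extension [CompactSpace ↥X] [QuasiSeparatedSpace ↥X]
    (U V : X.Opens) (hU : IsCompact (U : Set ↥X)) (hV : IsCompact (V : Set ↥X))
    (𝓘 : V.toScheme.IdealSheafData) (h𝓘 : BlowUp.IsFiniteTypeIdeal 𝓘)
    (hd : Disjoint (𝓘.support : Set V.toScheme) (V.ι ⁻¹ᵁ U : Set V.toScheme)) :
    ∃ 𝓙 : X.IdealSheafData, BlowUp.IsFiniteTypeIdeal 𝓙 ∧ Disjoint (𝓙.support : Set ↥X) (U : Set ↥X) ∧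
      𝓙.comap V.ι = 𝓘 := by
  classical
  haveI := quasiCompact_ι V hV
  set 𝓐 := 𝓘.map V.ι with h𝓐
  have hdA := disjoint_support_map_ι V 𝓘 U hd
  have htop : ∀ W : X.affineOpens, W.1 ≤ U → 𝓐.ideal W = ⊤ := by
    intro W hWU
    apply BlowUpSup.ideal_eq_top_of_disjoint
    rw [Set.eq_empty_iff_forall_notMem]
    rintro x ⟨hx1, hx2⟩
    exact Set.disjoint_left.1 hdA hx1 (hWU hx2)
  have hftU : FTOn 𝓐 U := by
    intro W hWU
    rw [htop W hWU]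
    exact ⟨{1}, by simp⟩
  have hftV : FTOn 𝓐 V := fun W hWV => fg_ideal_map_ι V 𝓘 h𝓘 W hWV
  have hUV : IsCompact ((U ⊔ V : X.Opens) : Set ↥X) := by
    rw [Opens.coe_sup]
    exact hU.union hV
  obtain ⟨s, hs, hsX⟩ := isCompact_iff_finite_and_eq_biUnion_affineOpens.mp
    (show IsCompact ((⊤ : X.Opens) : Set X) from isCompact_univ)
  obtain ⟨J', -, hJ'ft, hJ'eq⟩ := extend_finset hs.toFinset 𝓐 (U ⊔ V) hUV (hftU.sup hftV)
  refine ⟨J', ?_, ?_, ?_⟩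
  · change FT J'
    rw [ft_iff_ftOn_top]
    refine hJ'ft.mono (le_sup_of_le_right ?_)
    rw [hsX]
    simp
  · rw [Set.disjoint_left]
    intro x hx hxU
    obtain ⟨W, hW, hxW, hWU⟩ := exists_isAffineOpen_mem_and_subset (x := x) (U := U) hxU
    have h1 : J'.ideal ⟨W, hW⟩ = ⊤ := by
      rw [hJ'eq ⟨W, hW⟩ (hWU.trans le_sup_left)]
      exact htop ⟨W, hW⟩ hWU
    have h2 := (mem_support_iff_of_mem (I := J') (U := ⟨W, hW⟩) hxW).1 hx
    rw [h1] at h2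
    simp at h2
    exact h2 hxW
  · rw [← comap_map_ι V 𝓘]
    let ι : Type u := {W : X.affineOpens // W.1 ≤ V}
    let W' : ι → V.toScheme.affineOpens :=
      fun W => ⟨V.ι ⁻¹ᵁ W.1.1, isAffineOpen_preimage_ι V W.1 W.2⟩
    refine ext_of_iSup_eq_top W' ?_ ?_
    · rw [eq_top_iff]
      intro x _
      obtain ⟨W, hW, hxW, hWV⟩ := exists_isAffineOpen_mem_and_subset (x := x.1) (U := V) x.2
      exact Opens.mem_iSup.2 ⟨⟨⟨W, hW⟩, hWV⟩, hxW⟩
    · rintro ⟨W, hWV⟩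
      change (J'.comap V.ι).ideal ⟨V.ι ⁻¹ᵁ W.1, isAffineOpen_preimage_ι V W hWV⟩ =
        ((𝓘.map V.ι).comap V.ι).ideal ⟨V.ι ⁻¹ᵁ W.1, isAffineOpen_preimage_ι V W hWV⟩
      rw [EffCartier.ideal_comap_eq_map V.ι J' (isAffineOpen_preimage_ι V W hWV) W.2 le_rfl,
        EffCartier.ideal_comap_eq_map V.ι (𝓘.map V.ι) (isAffineOpen_preimage_ι V W hWV) W.2 le_rfl]
      have := hJ'eq W (hWV.trans le_sup_right)
      change J'.ideal ⟨W.1, W.2⟩ = _ at this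
      rw [this]

end Groth.Agent.Lib.Seat82.IdealExtend
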