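import Mathlib
import Groth.Prelude.Def_BlowUp2
import Groth.Agent.Lib.Helper22FTIdeal
import Groth.Agent.Lib.Seat82BlowUpSup
import Groth.Agent.Lib.Seat82IdealExtend
import Groth.Agent.Lib.Seat82BlowUpSeparate

/-!
# Admissible blow-ups separating closures (seat 82)

Namespace `Groth.Agent.Lib.Seat82.AdmSeparate`.
* `exists_ft_le_disjoint`: on a qcqs scheme, an ideal sheaf whose support misses a quasi-compact open `O` contains a
  finite type ideal sheaf whose support still misses `O`.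
* `exists_ft_support_eq`: a closed subset with quasi-compact complement is the support of a finite type ideal sheaf.
* `exists_separating_ideal`: the centre of an admissible blow-up separating `closure (c⁻¹ (Z₁ ∩ V₁))` from the part of the
  base change lying over `V₁` and away from `Z₂` (Conrad/Lütkebohmert-type lemma).
-/

set_option autoImplicit false
universe u
open CategoryTheory CategoryTheory.Limits AlgebraicGeometry TopologicalSpace

namespace Groth.Agent.Lib.Seat82.AdmSeparate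

open Scheme.IdealSheafData Groth.Agent.Lib.Helper20 Groth.Agent.Lib.Helper22.FTIdeal

variable {X : Scheme.{u}}

theorem exists_ft_le_disjoint [CompactSpace ↥X] [QuasiSeparatedSpace ↥X] (𝓐 : X.IdealSheafData)
    (O : X.Opens) (hO : IsCompact (O : Set ↥X)) (hd : Disjoint (𝓐.support : Set ↥X) (O : Set ↥X)) :
    ∃ 𝓙 : X.IdealSheafData, 𝓙 ≤ 𝓐 ∧ BlowUp.IsFiniteTypeIdeal 𝓙 ∧
      Disjoint (𝓙.support : Set ↥X) (O : Set ↥X) := by
  classical
  have htop : ∀ W : X.affineOpens, W.1 ≤ O → 𝓐.ideal W = ⊤ := by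
    intro W hWO
    apply BlowUpSup.ideal_eq_top_of_disjoint
    rw [Set.eq_empty_iff_forall_notMem]
    rintro x ⟨hx1, hx2⟩
    exact Set.disjoint_left.1 hd hx1 (hWO hx2)
  have hftO : FTOn 𝓐 O := by
    intro W hWO
    rw [htop W hWO]
    exact ⟨{1}, by simp⟩
  obtain ⟨s, hs, hsX⟩ := isCompact_iff_finite_and_eq_biUnion_affineOpens.mp
    (show IsCompact ((⊤ : X.Opens) : Set X) from isCompact_univ)
  obtain ⟨J', hJ'le, hJ'ft, hJ'eq⟩ := extend_finset hs.toFinset 𝓐 O hO hftO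
  refine ⟨J', hJ'le, ?_, ?_⟩
  · change FT J'
    rw [ft_iff_ftOn_top]
    refine hJ'ft.mono (le_sup_of_le_right ?_)
    rw [hsX]
    simp
  · rw [Set.disjoint_left]
    intro x hx hxO
    obtain ⟨W, hW, hxW, hWO⟩ := exists_isAffineOpen_mem_and_subset (x := x) (U := O) hxO
    have h1 : J'.ideal ⟨W, hW⟩ = ⊤ := by
      rw [hJ'eq ⟨W, hW⟩ hWO]
      exact htop ⟨W, hW⟩ hWO
    have h2 := (mem_support_iff_of_mem (I := J') (U := ⟨W, hW⟩) hxW).1 hx
    rw [h1] at h2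
    simp at h2
    exact h2 hxW

theorem exists_ft_support_eq [CompactSpace ↥X] [QuasiSeparatedSpace ↥X] (Z : Set ↥X)
    (hZ : IsClosed Z) (hZc : IsCompact Zᶜ) :
    ∃ 𝓕 : X.IdealSheafData, BlowUp.IsFiniteTypeIdeal 𝓕 ∧ (𝓕.support : Set ↥X) = Z := by
  obtain ⟨𝓕, hle, hft, hd⟩ := exists_ft_le_disjoint (vanishingIdeal ⟨Z, hZ⟩) ⟨Zᶜ, hZ.isOpen_compl⟩ hZc
    (by rw [coe_support_vanishingIdeal]; exact disjoint_compl_right)
  refine ⟨𝓕, hft, Set.Subset.antisymm ?_ ?_⟩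
  · intro x hx
    by_contra hxZ
    exact Set.disjoint_left.1 hd hx hxZ
  · have := support_antitone hle
    rw [← SetLike.coe_subset_coe, coe_support_vanishingIdeal] at this
    exact this

variable {X₁ X₂ : Scheme.{u}}

/-- The separating centre. -/
theorem exists_separating_ideal [CompactSpace X₁] [QuasiSeparatedSpace X₁] [QuasiSeparatedSpace X₂]
    (q : X₂ ⟶ X₁) [QuasiCompact q] (V₁ : X₁.Opens) (hV₁ : IsCompact (V₁ : Set X₁))
    (Z₁ : Set X₁) (hZ₁ : IsClosed Z₁) (hZ₁c : IsCompact Z₁ᶜ)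
    (W₂ : X₂.Opens) (hW₂c : IsCompact (W₂ : Set X₂))
    (hYZ : ∀ w ∈ W₂, q w ∉ Z₁ ∩ (V₁ : Set X₁)) :
    ∃ 𝓕 𝓔 : X₁.IdealSheafData, 𝓕 ≤ 𝓔 ∧ BlowUp.IsFiniteTypeIdeal 𝓔 ∧ (𝓕.support : Set X₁) = Z₁ ∧
      (𝓔.support : Set X₁) ⊆ Z₁ \ (V₁ : Set X₁) ∧ 𝓔.comap (W₂.ι ≫ q) ≤ 𝓕.comap (W₂.ι ≫ q) := by
  obtain ⟨𝓕, h𝓕ft, h𝓕supp⟩ := exists_ft_support_eq Z₁ hZ₁ hZ₁c
  have : QuasiCompact W₂.ι := IdealExtend.quasiCompact_ι W₂ hW₂c
  set p := W₂.ι ≫ q with hp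
  set 𝓜 := (𝓕.comap p).map p with h𝓜
  have hMd : Disjoint (𝓜.support : Set X₁) (V₁ : Set X₁) := by
    rw [h𝓜, support_map, Set.disjoint_left]
    intro x hx hxV
    rw [TopologicalSpace.Closeds.coe_closure, mem_closure_iff] at hx
    obtain ⟨_, hyV, w, hw, rfl⟩ := hx V₁ V₁.2 hxV
    rw [support_comap] at hw
    have hw' : p w ∈ Z₁ := by rw [← h𝓕supp]; exact hw
    have e : p w = q (W₂.ι w) := by rw [hp, Scheme.Hom.comp_apply]
    rw [e] at hw' hyV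
    exact hYZ (W₂.ι w) w.2 ⟨hw', hyV⟩
  obtain ⟨𝓖, h𝓖le, h𝓖ft, h𝓖d⟩ := exists_ft_le_disjoint 𝓜 V₁ hV₁ hMd
  refine ⟨𝓕, 𝓕 ⊔ 𝓖, le_sup_left, FT.sup h𝓕ft h𝓖ft, h𝓕supp, ?_, ?_⟩
  · rw [support_sup]
    rintro x ⟨hx1, hx2⟩
    refine ⟨by rw [← h𝓕supp]; exact hx1, fun hxV => Set.disjoint_left.1 h𝓖d hx2 hxV⟩
  · rw [comap_sup]
    refine sup_le le_rfl ?_
    rw [← le_map_iff_comap_le]
    exact h𝓖le

end Groth.Agent.Lib.Seat82.AdmSeparate
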