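import Mathlib
import Groth.Prelude.Def_BlowUp2

/-!
# The complement of an effective Cartier divisor (seat 82)

Namespace `Groth.Agent.Lib.Seat82.CartierCompl`.
For an ideal sheaf `𝓚` on `T` with `BlowUp.IsEffCartierIdeal 𝓚` and `W` the open complement of its support:
* `inf_eq_basicOpen`: on an affine open where `𝓚 = (c)`, `W ⊓ U = D(c)`.
* `isAffineHom_ι`: the inclusion `W ⟶ T` is an affine morphism.
* `ker_ι_eq_bot`: the inclusion `W ⟶ T` is scheme-theoretically dominant.
-/

set_option autoImplicit false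
universe u
open CategoryTheory AlgebraicGeometry Opposite TopologicalSpace nonZeroDivisors

namespace Groth.Agent.Lib.Seat82.CartierCompl

open Scheme.IdealSheafData

variable {T : Scheme.{u}} {𝓚 : T.IdealSheafData} {W : T.Opens}

theorem inf_eq_basicOpen (hW : (W : Set T) = (𝓚.support : Set T)ᶜ) (U : T.affineOpens)
    (c : Γ(T, U.1)) (hI : 𝓚.ideal U = Ideal.span {c}) : W ⊓ U.1 = T.basicOpen c := by
  have key : ∀ x ∈ U.1, x ∈ W ↔ x ∈ T.basicOpen c := by
    intro x hxU
    rw [← SetLike.mem_coe, hW, Set.mem_compl_iff, SetLike.mem_coe, mem_support_iff_of_mem hxU,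
      hI, Scheme.zeroLocus_span, Scheme.zeroLocus_singleton, Set.notMem_compl_iff,
      SetLike.mem_coe]
  ext x
  constructor
  · rintro ⟨hxW, hxU⟩
    exact (key x hxU).mp hxW
  · intro hx
    have hxU := T.basicOpen_le c hx
    exact ⟨(key x hxU).mpr hx, hxU⟩

theorem isAffineHom_ι (h𝓚 : BlowUp.IsEffCartierIdeal 𝓚)
    (hW : (W : Set T) = (𝓚.support : Set T)ᶜ) : IsAffineHom W.ι := by
  apply isAffineHom_of_forall_exists_isAffineOpen
  intro t
  obtain ⟨U, htU, c, hc, hI⟩ := h𝓚 t
  refine ⟨U.1, htU, U.2, ?_⟩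
  rw [← W.ι.isAffineOpen_iff_of_isOpenImmersion, Scheme.Hom.image_preimage_eq_opensRange_inf,
    Scheme.Opens.opensRange_ι, inf_eq_basicOpen hW U c hI]
  exact U.2.basicOpen c

theorem ker_ι_eq_bot (h𝓚 : BlowUp.IsEffCartierIdeal 𝓚)
    (hW : (W : Set T) = (𝓚.support : Set T)ᶜ) : W.ι.ker = ⊥ := by
  have : IsAffineHom W.ι := isAffineHom_ι h𝓚 hW
  choose U htU c hc hI using h𝓚
  refine ext_of_iSup_eq_top U ?_ ?_
  · rw [eq_top_iff]
    intro t _
    exact Opens.mem_iSup.2 ⟨t, htU t⟩
  · intro t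
    rw [Scheme.Hom.ker_apply, ideal_bot, Pi.bot_apply, ← RingHom.injective_iff_ker_eq_bot]
    rw [injective_iff_map_eq_zero]
    intro s hs
    have hle : T.basicOpen (c t) ≤ W.ι ''ᵁ W.ι ⁻¹ᵁ (U t).1 := by
      rw [Scheme.Hom.image_preimage_eq_opensRange_inf, Scheme.Opens.opensRange_ι,
        inf_eq_basicOpen hW (U t) (c t) (hI t)]
    have hle0 : W.ι ''ᵁ W.ι ⁻¹ᵁ (U t).1 ≤ (U t).1 := by
      rw [Scheme.Hom.image_preimage_eq_opensRange_inf]
      exact inf_le_right
    have hs' : (T.presheaf.map (homOfLE hle0).op).hom s = 0 := hs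
    have h2 : (T.presheaf.map (homOfLE (T.basicOpen_le (c t))).op).hom s = 0 := by
      have : T.presheaf.map (homOfLE (T.basicOpen_le (c t))).op =
          T.presheaf.map (homOfLE hle0).op ≫ T.presheaf.map (homOfLE hle).op := by
        rw [← Functor.map_comp]
        rfl
      rw [this, CommRingCat.comp_apply, hs', map_zero]
    have inst := (U t).2.isLocalization_basicOpen (c t)
    have hinj : Function.Injective (algebraMap Γ(T, (U t).1) Γ(T, T.basicOpen (c t))) :=
      IsLocalization.injective _ (Submonoid.powers_le.mpr (hc t))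
    apply hinj
    rw [map_zero]
    exact h2

end Groth.Agent.Lib.Seat82.CartierCompl
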