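import Mathlib
import Groth.Prelude.Def_HTop3
import Groth.Agent.Lib.Helper20EffCartier
import Groth.Agent.Lib.Seat82BlowUpChart
import Groth.Agent.Lib.Seat82CartierCompl

/-!
# Almost blow up squares: sections supported on a locally principal closed subscheme (seat 82)

Namespace `Groth.Agent.Lib.Seat82.AlmostBlowUp`.  `𝓔` a locally principal ideal sheaf on `P` (`HTop.IsLocPrincipal`).
* `isAffineHom_awayFrom_ι`: the inclusion of the complement of `V(𝓔)` is affine.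
* `mem_supportedOn_iff`: on an affine open with `𝓔 = (t)`, `s ∈ supportedOn 𝓔 ↔ ∃ n, t ^ n * s = 0`.
* `comap_supportedOn_eq_bot`, `exists_lift`: a morphism `l : T ⟶ P` with `𝓔.comap l` effective Cartier factors
  through the closed subscheme cut out by `supportedOn 𝓔`.
* `isEffCartierIdeal_comap_subschemeι`: `𝓔` becomes effective Cartier on that closed subscheme.
* `isLocPrincipal_comap`: local principality is stable under inverse image.
* `isBlowUp_baseChange`: the "closed subscheme of sections supported on the exceptional locus is the blow-up"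
  property is stable under arbitrary base change.
-/

set_option autoImplicit false
universe u
open CategoryTheory CategoryTheory.Limits AlgebraicGeometry Opposite TopologicalSpace nonZeroDivisors

namespace Groth.Agent.Lib.Seat82.AlmostBlowUp

open Scheme.IdealSheafData Groth.Agent.Lib.Helper20

variable {P : Scheme.{u}} (𝓔 : P.IdealSheafData)

theorem coe_awayFrom : ((HTop.awayFrom 𝓔 : P.Opens) : Set P) = (𝓔.support : Set P)ᶜ := rfl

theorem isAffineHom_awayFrom_ι (h : HTop.IsLocPrincipal 𝓔) : IsAffineHom (HTop.awayFrom 𝓔).ι := by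
  apply isAffineHom_of_forall_exists_isAffineOpen
  intro t
  obtain ⟨U, htU, c, hI⟩ := h t
  refine ⟨U.1, htU, U.2, ?_⟩
  rw [← (HTop.awayFrom 𝓔).ι.isAffineOpen_iff_of_isOpenImmersion,
    Scheme.Hom.image_preimage_eq_opensRange_inf,
    Scheme.Opens.opensRange_ι, CartierCompl.inf_eq_basicOpen (coe_awayFrom 𝓔) U c hI]
  exact U.2.basicOpen c

theorem mem_supportedOn_iff (h : HTop.IsLocPrincipal 𝓔) (U : P.affineOpens) (t : Γ(P, U.1))
    (ht : 𝓔.ideal U = Ideal.span {t}) (s : Γ(P, U.1)) :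
    s ∈ (HTop.supportedOn 𝓔).ideal U ↔ ∃ n : ℕ, t ^ n * s = 0 := by
  have : IsAffineHom (HTop.awayFrom 𝓔).ι := isAffineHom_awayFrom_ι 𝓔 h
  set W := HTop.awayFrom 𝓔 with hW
  unfold HTop.supportedOn
  rw [← hW, Scheme.Hom.ker_apply, RingHom.mem_ker]
  have heq : W.ι ''ᵁ W.ι ⁻¹ᵁ U.1 = P.basicOpen t := by
    rw [Scheme.Hom.image_preimage_eq_opensRange_inf, Scheme.Opens.opensRange_ι,
      CartierCompl.inf_eq_basicOpen (coe_awayFrom 𝓔) U t ht]
  have hle0 : W.ι ''ᵁ W.ι ⁻¹ᵁ U.1 ≤ U.1 := by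
    rw [Scheme.Hom.image_preimage_eq_opensRange_inf]
    exact inf_le_right
  change (P.presheaf.map (homOfLE hle0).op).hom s = 0 ↔ _
  have inst := U.2.isLocalization_basicOpen t
  have key : (P.presheaf.map (homOfLE hle0).op).hom s = 0 ↔
      (P.presheaf.map (homOfLE (P.basicOpen_le t)).op).hom s = 0 := by
    have e1 : P.presheaf.map (homOfLE (P.basicOpen_le t)).op =
        P.presheaf.map (homOfLE hle0).op ≫ P.presheaf.map (homOfLE heq.ge).op := by
      rw [← Functor.map_comp]; rfl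
    have e2 : P.presheaf.map (homOfLE hle0).op =
        P.presheaf.map (homOfLE (P.basicOpen_le t)).op ≫ P.presheaf.map (homOfLE heq.le).op := by
      rw [← Functor.map_comp]; rfl
    constructor
    · intro h0
      rw [e1, CommRingCat.comp_apply, h0, map_zero]
    · intro h0
      rw [e2, CommRingCat.comp_apply, h0, map_zero]
  rw [key]
  have h2 : (P.presheaf.map (homOfLE (P.basicOpen_le t)).op).hom s =
      algebraMap Γ(P, U.1) Γ(P, P.basicOpen t) s := rfl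
  rw [h2, IsLocalization.map_eq_zero_iff (Submonoid.powers t)]
  constructor
  · rintro ⟨⟨_, n, rfl⟩, hn⟩
    exact ⟨n, hn⟩
  · rintro ⟨n, hn⟩
    exact ⟨⟨_, n, rfl⟩, hn⟩

theorem comap_supportedOn_eq_bot (h : HTop.IsLocPrincipal 𝓔) {T : Scheme.{u}} (l : T ⟶ P)
    (hl : BlowUp.IsEffCartierIdeal (𝓔.comap l)) : (HTop.supportedOn 𝓔).comap l = ⊥ := by
  have key : ∀ τ : T, ∃ T₀ : T.affineOpens, τ ∈ T₀.1 ∧
      ((HTop.supportedOn 𝓔).comap l).ideal T₀ = ⊥ := by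
    intro τ
    obtain ⟨U, hτU, t, ht⟩ := h (l τ)
    obtain ⟨T₀, hT₀, hτT₀, hle, c, hc, hIc⟩ :=
      EffCartier.exists_le_of_isEffCartierIdeal hl τ (l ⁻¹ᵁ U.1) hτU
    refine ⟨⟨T₀, hT₀⟩, hτT₀, ?_⟩
    have e1 := EffCartier.ideal_comap_eq_map l 𝓔 hT₀ U.2 hle
    have ht' : 𝓔.ideal ⟨U.1, U.2⟩ = Ideal.span {t} := ht
    rw [ht', Ideal.map_span, Set.image_singleton, hIc] at e1
    have hnz : (l.appLE U.1 T₀ hle).hom t ∈ Γ(T, T₀)⁰ :=
      BlowUpChart.mem_nonZeroDivisors_of_span_eq hc e1.symm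
    rw [EffCartier.ideal_comap_eq_map l (HTop.supportedOn 𝓔) hT₀ U.2 hle, eq_bot_iff,
      Ideal.map_le_iff_le_comap]
    intro s hs
    obtain ⟨n, hn⟩ := (mem_supportedOn_iff 𝓔 h U t ht s).1 hs
    rw [Ideal.mem_comap, Ideal.mem_bot]
    have h3 : (l.appLE U.1 T₀ hle).hom t ^ n * (l.appLE U.1 T₀ hle).hom s = 0 := by
      rw [← map_pow, ← map_mul, hn, map_zero]
    exact (mem_nonZeroDivisors_iff.1 (pow_mem hnz n)).1 _ h3
  choose T₀ hτ hbot using key
  refine ext_of_iSup_eq_top T₀ ?_ ?_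
  · rw [eq_top_iff]
    intro τ _
    exact Opens.mem_iSup.2 ⟨τ, hτ τ⟩
  · intro τ
    rw [hbot τ]
    rfl

theorem exists_lift (h : HTop.IsLocPrincipal 𝓔) {T : Scheme.{u}} (l : T ⟶ P)
    (hl : BlowUp.IsEffCartierIdeal (𝓔.comap l)) :
    ∃ l' : T ⟶ (HTop.supportedOn 𝓔).subscheme, l' ≫ (HTop.supportedOn 𝓔).subschemeι = l := by
  have H : (HTop.supportedOn 𝓔).subschemeι.ker ≤ l.ker := by
    rw [ker_subschemeι, ← map_bot, le_map_iff_comap_le, comap_supportedOn_eq_bot 𝓔 h l hl]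
  exact ⟨IsClosedImmersion.lift _ l H, IsClosedImmersion.lift_fac _ l H⟩

theorem isEffCartierIdeal_comap_subschemeι (h : HTop.IsLocPrincipal 𝓔) :
    BlowUp.IsEffCartierIdeal (𝓔.comap (HTop.supportedOn 𝓔).subschemeι) := by
  set 𝓚 := HTop.supportedOn 𝓔 with h𝓚
  intro w
  obtain ⟨U, hwU, t, ht⟩ := h (𝓚.subschemeι w)
  have hU' : IsAffineOpen (𝓚.subschemeι ⁻¹ᵁ U.1) := U.2.preimage 𝓚.subschemeι
  refine ⟨⟨𝓚.subschemeι ⁻¹ᵁ U.1, hU'⟩, hwU, (𝓚.subschemeι.app U.1).hom t, ?_, ?_⟩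
  · rw [mem_nonZeroDivisors_iff_right]
    intro y hy
    obtain ⟨s, rfl⟩ := 𝓚.subschemeι_app_surjective U y
    have h1 : (𝓚.subschemeι.app U.1).hom (s * t) = 0 := by rw [map_mul]; exact hy
    have h2 : s * t ∈ 𝓚.ideal U := by
      rw [← ker_subschemeι_app]; exact h1
    obtain ⟨n, hn⟩ := (mem_supportedOn_iff 𝓔 h U t ht _).1 h2
    have h3 : s ∈ 𝓚.ideal U := by
      rw [mem_supportedOn_iff 𝓔 h U t ht]
      refine ⟨n + 1, ?_⟩
      rw [pow_succ, mul_assoc, mul_comm t s]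
      exact hn
    rw [← ker_subschemeι_app] at h3
    exact h3
  · have e1 := EffCartier.ideal_comap_eq_map 𝓚.subschemeι 𝓔 hU' U.2 le_rfl
    have ht' : 𝓔.ideal ⟨U.1, U.2⟩ = Ideal.span {t} := ht
    rw [ht', Ideal.map_span, Set.image_singleton, Scheme.Hom.appLE_eq_app] at e1
    exact e1

theorem isLocPrincipal_comap {Q : Scheme.{u}} (f : Q ⟶ P) (h : HTop.IsLocPrincipal 𝓔) :
    HTop.IsLocPrincipal (𝓔.comap f) := by
  intro q
  obtain ⟨U, hqU, t, ht⟩ := h (f q)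
  obtain ⟨V, hV, hqV, hVU⟩ := exists_isAffineOpen_mem_and_subset (x := q) (U := f ⁻¹ᵁ U.1) hqU
  refine ⟨⟨V, hV⟩, hqV, (f.appLE U.1 V hVU).hom t, ?_⟩
  have e1 := EffCartier.ideal_comap_eq_map f 𝓔 hV U.2 hVU
  have ht' : 𝓔.ideal ⟨U.1, U.2⟩ = Ideal.span {t} := ht
  rw [ht', Ideal.map_span, Set.image_singleton] at e1
  exact e1

/-- The property "the closed subscheme of `X'` cut out by the sections supported on `b⁻¹ V(𝓘)` is a blow-up of `X` in
`𝓘`" is stable under arbitrary base change `g : Y ⟶ X`. -/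
theorem isBlowUp_baseChange {X X' Y X₁ : Scheme.{u}} (𝓘 : X.IdealSheafData) (b : X' ⟶ X)
    (hprin : HTop.IsLocPrincipal (𝓘.comap b))
    (hbl : BlowUp.IsBlowUp ((HTop.supportedOn (𝓘.comap b)).subschemeι ≫ b) 𝓘)
    (g : Y ⟶ X) {b₁ : X₁ ⟶ Y} {gX : X₁ ⟶ X'} (hX : IsPullback gX b₁ b g) :
    BlowUp.IsBlowUp ((HTop.supportedOn ((𝓘.comap g).comap b₁)).subschemeι ≫ b₁) (𝓘.comap g) := by
  have hE₁ : (𝓘.comap g).comap b₁ = (𝓘.comap b).comap gX := by
    rw [← comap_comp, ← comap_comp, hX.w]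
  have hprin₁ : HTop.IsLocPrincipal ((𝓘.comap g).comap b₁) := by
    rw [hE₁]; exact isLocPrincipal_comap _ gX hprin
  set 𝓔 := 𝓘.comap b with h𝓔
  set 𝓔₁ := (𝓘.comap g).comap b₁ with h𝓔₁
  -- any `l : T ⟶ X₁` with `𝓔₁.comap l` Cartier has `l ≫ gX` factoring through the blow-up `V(supportedOn 𝓔)`
  have hfac : ∀ {T : Scheme.{u}} (l : T ⟶ X₁), BlowUp.IsEffCartierIdeal (𝓔₁.comap l) →
      ∃ m : T ⟶ (HTop.supportedOn 𝓔).subscheme, m ≫ (HTop.supportedOn 𝓔).subschemeι = l ≫ gX := by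
    intro T l hl
    apply exists_lift 𝓔 hprin
    rw [comap_comp, ← hE₁]
    exact hl
  constructor
  · rw [comap_comp]
    exact isEffCartierIdeal_comap_subschemeι 𝓔₁ hprin₁
  · intro T k hk
    have hk' : BlowUp.IsEffCartierIdeal (𝓘.comap (k ≫ g)) := by rw [comap_comp]; exact hk
    obtain ⟨m, hm, -⟩ := hbl.2 T (k ≫ g) hk'
    have hm' : (m ≫ (HTop.supportedOn 𝓔).subschemeι) ≫ b = k ≫ g := by
      rw [Category.assoc]; exact hm
    let l : T ⟶ X₁ := hX.lift (m ≫ (HTop.supportedOn 𝓔).subschemeι) k hm'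
    have hl1 : l ≫ gX = m ≫ (HTop.supportedOn 𝓔).subschemeι := hX.lift_fst _ _ _
    have hl2 : l ≫ b₁ = k := hX.lift_snd _ _ _
    have hlc : BlowUp.IsEffCartierIdeal (𝓔₁.comap l) := by
      have e : 𝓔₁.comap l = (𝓘.comap g).comap k := by
        show ((𝓘.comap g).comap b₁).comap l = _
        rw [← comap_comp, hl2]
      rw [e]; exact hk
    obtain ⟨l', hl'⟩ := exists_lift 𝓔₁ hprin₁ l hlc
    refine ⟨l', ?_, ?_⟩
    · show l' ≫ (HTop.supportedOn 𝓔₁).subschemeι ≫ b₁ = k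
      rw [← Category.assoc, hl', hl2]
    · intro l'' hl''
      have hl''k : (l'' ≫ (HTop.supportedOn 𝓔₁).subschemeι) ≫ b₁ = k := by
        rw [Category.assoc]; exact hl''
      have hc'' : BlowUp.IsEffCartierIdeal (𝓔₁.comap (l'' ≫ (HTop.supportedOn 𝓔₁).subschemeι)) := by
        have e : 𝓔₁.comap (l'' ≫ (HTop.supportedOn 𝓔₁).subschemeι) = (𝓘.comap g).comap k := by
          show ((𝓘.comap g).comap b₁).comap (l'' ≫ (HTop.supportedOn 𝓔₁).subschemeι) = _
          rw [← comap_comp, hl''k]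
        rw [e]; exact hk
      obtain ⟨m₁, hm₁⟩ := hfac l hlc
      obtain ⟨m₂, hm₂⟩ := hfac (l'' ≫ (HTop.supportedOn 𝓔₁).subschemeι) hc''
      obtain ⟨m₀, -, hm₀⟩ := hbl.2 T (k ≫ g) hk'
      have e1 : m₁ = m₀ := hm₀ m₁ (by
        show m₁ ≫ (HTop.supportedOn 𝓔).subschemeι ≫ b = k ≫ g
        rw [← Category.assoc, hm₁, Category.assoc, hX.w, ← Category.assoc, hl2])
      have e2 : m₂ = m₀ := hm₀ m₂ (by
        show m₂ ≫ (HTop.supportedOn 𝓔).subschemeι ≫ b = k ≫ g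
        rw [← Category.assoc, hm₂, Category.assoc, hX.w, ← Category.assoc, hl''k])
      have e3 : (l'' ≫ (HTop.supportedOn 𝓔₁).subschemeι) = l := by
        apply hX.hom_ext
        · rw [← hm₂, ← hm₁, e1, e2]
        · rw [hl''k, hl2]
      rw [← cancel_mono (HTop.supportedOn 𝓔₁).subschemeι, hl', e3]

end Groth.Agent.Lib.Seat82.AlmostBlowUp
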