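import Mathlib
import Groth.Prelude.Def_BlowUp2
import Groth.Agent.S1683
import Groth.Agent.Lib.Helper20BlowUp
import Groth.Agent.Lib.Helper20EffCartier
import Groth.Agent.Lib.Helper22FTIdeal
import Groth.Agent.Lib.Seat82BlowUpSup
import Groth.Agent.Lib.Seat82BlowUpExists
import Groth.Agent.Lib.Seat82BlowUpRestrict

/-!
# Dominating blow-ups (seat 82)

Namespace `Groth.Agent.Lib.Seat82.BlowUpDominate`.
* `isFiniteTypeIdeal_comap`, `isFiniteTypeIdeal_mul`, `isFiniteTypeIdeal_prod`: finite type ideal sheaves are stable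
  under inverse image and (finite) products.
* `support_prod_subset`: the support of a finite product lies in the union of the supports.
* `isBlowUp_iso_comp`: transport of a blow-up along an isomorphism of the source.
* `exists_factor_isBlowUp`: a blow-up `c : X' ⟶ X` of `𝓘 * 𝓙` factors through a blow-up `b : X₁ ⟶ X` of `𝓘`, and the
  factor `X' ⟶ X₁` is a blow-up of `X₁` in `𝓙.comap b`.
-/

set_option autoImplicit false
universe u
open CategoryTheory AlgebraicGeometry TopologicalSpace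

namespace Groth.Agent.Lib.Seat82.BlowUpDominate

open Scheme.IdealSheafData Groth.Agent.Lib.Helper20 Groth.Agent.Lib.Helper22.FTIdeal

theorem isFiniteTypeIdeal_comap {X Y : Scheme.{u}} (g : Y ⟶ X) (I : X.IdealSheafData)
    (hI : BlowUp.IsFiniteTypeIdeal I) : BlowUp.IsFiniteTypeIdeal (I.comap g) := by
  intro W
  have key : ∀ x : W.1, ∃ r : Γ(Y, W.1), x.1 ∈ Y.basicOpen r ∧
      ∃ V : X.affineOpens, Y.basicOpen r ≤ g ⁻¹ᵁ V.1 := by
    intro ⟨x, hx⟩
    obtain ⟨V, hV, hxV, -⟩ := exists_isAffineOpen_mem_and_subset (x := g x) (U := (⊤ : X.Opens)) trivial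
    obtain ⟨r, hr, hxr⟩ := W.2.exists_basicOpen_le (V := g ⁻¹ᵁ V) ⟨x, hxV⟩ hx
    exact ⟨r, hxr, ⟨V, hV⟩, hr⟩
  choose r hxr V hr using key
  have hspan : Ideal.span (Set.range r) = ⊤ := by
    rw [← W.2.self_le_iSup_basicOpen_iff]
    exact fun x hxW ↦ Opens.mem_iSup.mpr ⟨⟨_, ⟨x, hxW⟩, rfl⟩, hxr ⟨x, hxW⟩⟩
  have inst := W.2.isLocalization_basicOpen
  refine fg_of_span_isLocalization _ _ hspan (fun g => Γ(Y, Y.basicOpen g.1)) ?_
  rintro ⟨_, x, rfl⟩
  have hle : Y.affineBasicOpen (r x) ≤ W := Y.affineBasicOpen_le (r x)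
  have hmap := (I.comap g).map_ideal hle
  have : ((I.comap g).ideal (Y.affineBasicOpen (r x))).FG := by
    have h1 := EffCartier.ideal_comap_eq_map g I (Y.affineBasicOpen (r x)).2 (V x).2 (hr x)
    change (I.comap g).ideal (Y.affineBasicOpen (r x)) = _ at h1
    rw [h1]
    exact (hI (V x)).map _
  rw [← hmap] at this
  exact this

theorem isFiniteTypeIdeal_mul {X : Scheme.{u}} {I J : X.IdealSheafData}
    (hI : BlowUp.IsFiniteTypeIdeal I) (hJ : BlowUp.IsFiniteTypeIdeal J) :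
    BlowUp.IsFiniteTypeIdeal (I * J) := by
  intro W
  rw [ideal_mul]
  exact (hI W).mul (hJ W)

theorem isFiniteTypeIdeal_one {X : Scheme.{u}} : BlowUp.IsFiniteTypeIdeal (1 : X.IdealSheafData) := by
  intro W
  rw [one_eq_top]
  change (⊤ : Ideal _).FG
  exact ⟨{1}, by simp⟩

theorem isFiniteTypeIdeal_prod {X : Scheme.{u}} {ι : Type*} (s : Finset ι) (I : ι → X.IdealSheafData)
    (hI : ∀ i ∈ s, BlowUp.IsFiniteTypeIdeal (I i)) : BlowUp.IsFiniteTypeIdeal (∏ i ∈ s, I i) := by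
  classical
  induction s using Finset.induction_on with
  | empty => rw [Finset.prod_empty]; exact isFiniteTypeIdeal_one
  | insert a s ha ih =>
    rw [Finset.prod_insert ha]
    exact isFiniteTypeIdeal_mul (hI a (Finset.mem_insert_self a s))
      (ih fun i hi => hI i (Finset.mem_insert_of_mem hi))

theorem support_prod_subset {X : Scheme.{u}} {ι : Type*} (s : Finset ι) (I : ι → X.IdealSheafData) :
    ((∏ i ∈ s, I i).support : Set X) ⊆ ⋃ i ∈ s, ((I i).support : Set X) := by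
  classical
  induction s using Finset.induction_on with
  | empty =>
    rw [Finset.prod_empty, one_eq_top, support_top]
    exact Set.empty_subset _
  | insert a s ha ih =>
    rw [Finset.prod_insert ha, support_mul]
    intro x hx
    rcases hx with hx | hx
    · exact Set.mem_biUnion (Finset.mem_insert_self a s) hx
    · obtain ⟨i, hi, hxi⟩ := Set.mem_iUnion₂.1 (ih hx)
      exact Set.mem_biUnion (Finset.mem_insert_of_mem hi) hxi

/-- Transport of a blow-up along an isomorphism of the source. -/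
theorem isBlowUp_iso_comp {X B B' : Scheme.{u}} (𝓘 : X.IdealSheafData) (b : B ⟶ X)
    (hb : BlowUp.IsBlowUp b 𝓘) (e : B' ≅ B) : BlowUp.IsBlowUp (e.hom ≫ b) 𝓘 := by
  constructor
  · rw [comap_comp]
    exact BlowUpRestrict.isEffCartierIdeal_comap_of_isOpenImmersion e.hom _ hb.1
  · intro T g hg
    obtain ⟨h, hh, hu⟩ := hb.2 T g hg
    refine ⟨h ≫ e.inv, ?_, ?_⟩
    · show (h ≫ e.inv) ≫ e.hom ≫ b = g
      rw [Category.assoc, e.inv_hom_id_assoc, hh]
    · intro h' hh'
      rw [← hu (h' ≫ e.hom) (by show (h' ≫ e.hom) ≫ b = g; rw [Category.assoc]; exact hh'),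
        Category.assoc, e.hom_inv_id, Category.comp_id]

/-- A blow-up of `𝓘 * 𝓙` factors through a blow-up of `𝓘`, the factor being a blow-up of the inverse image of `𝓙`
(Stacks 080A, read backwards using existence of blow-ups). -/
theorem exists_factor_isBlowUp {X X' X₁ : Scheme.{u}} (𝓘 𝓙 : X.IdealSheafData) (c : X' ⟶ X)
    (hc : BlowUp.IsBlowUp c (𝓘 * 𝓙)) (b : X₁ ⟶ X) (hb : BlowUp.IsBlowUp b 𝓘) :
    ∃ g : X' ⟶ X₁, g ≫ b = c ∧ BlowUp.IsBlowUp g (𝓙.comap b) := by
  obtain ⟨X₂, b', hb'⟩ := BlowUpExists.exists_isBlowUp X₁ (𝓙.comap b)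
  have h2 : BlowUp.IsBlowUp (b' ≫ b) (𝓘 * 𝓙) := Groth.Agent.S1683.result 𝓘 𝓙 b hb b' hb'
  obtain ⟨h, hh, -⟩ := h2.2 X' c hc.1
  haveI : IsIso h := BlowUpSup.isIso_of_isBlowUp (𝓘 * 𝓙) c (b' ≫ b) hc h2 h hh
  refine ⟨h ≫ b', by rw [Category.assoc]; exact hh, ?_⟩
  exact isBlowUp_iso_comp _ b' hb' (asIso h)

end Groth.Agent.Lib.Seat82.BlowUpDominate
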