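import Mathlib
import Groth.Prelude.Def_HTop3
import Groth.Agent.Lib.Seat82AlmostBlowUp
import Groth.Agent.Lib.Seat82BlowUpDominate

/-!
# Almost blow up squares: passing to a closed subscheme (seat 82)

Namespace `Groth.Agent.Lib.Seat82.AlmostBlowUp`.
* `ker_comp_supportedOn`: for a closed immersion `w : W ⟶ X'` with `w.ker ≤ supportedOn 𝓔` (`𝓔` locally principal), the
  closed subscheme of `W` cut out by the sections supported on `w⁻¹ V(𝓔)` is, inside `X'`, the closed subscheme cut out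
  by `supportedOn 𝓔`.
* `isBlowUp_of_ker_le`: hence property (4) of an almost blow up square passes from `X'` to `W`.
* `ker_le_supportedOn_of_isBlowUp`: conversely, if both closed subschemes are blow-ups then `w.ker ≤ supportedOn 𝓔`.
-/

set_option autoImplicit false
universe u
open CategoryTheory CategoryTheory.Limits AlgebraicGeometry Opposite TopologicalSpace nonZeroDivisors

namespace Groth.Agent.Lib.Seat82.AlmostBlowUp

open Scheme.IdealSheafData Groth.Agent.Lib.Helper20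

variable {X' W : Scheme.{u}} (𝓔 : X'.IdealSheafData)

theorem ker_comp_supportedOn (h : HTop.IsLocPrincipal 𝓔) (w : W ⟶ X') [IsClosedImmersion w]
    (hw : w.ker ≤ HTop.supportedOn 𝓔) :
    ((HTop.supportedOn (𝓔.comap w)).subschemeι ≫ w).ker = HTop.supportedOn 𝓔 := by
  rw [Scheme.Hom.ker_comp, ker_subschemeι]
  have hW : HTop.IsLocPrincipal (𝓔.comap w) := isLocPrincipal_comap 𝓔 w h
  choose U hxU t ht using h
  refine ext_of_iSup_eq_top U ?_ ?_
  · rw [eq_top_iff]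
    intro x _
    exact Opens.mem_iSup.2 ⟨x, hxU x⟩
  · intro x
    rw [ideal_map_of_isAffineHom]
    have hU' : IsAffineOpen (w ⁻¹ᵁ (U x).1) := (U x).2.preimage w
    have ht' : (𝓔.comap w).ideal ⟨w ⁻¹ᵁ (U x).1, hU'⟩ = Ideal.span {(w.app (U x).1).hom (t x)} := by
      have e1 := EffCartier.ideal_comap_eq_map w 𝓔 hU' (U x).2 le_rfl
      have ht'' : 𝓔.ideal ⟨(U x).1, (U x).2⟩ = Ideal.span {t x} := ht x
      rw [ht'', Ideal.map_span, Set.image_singleton, Scheme.Hom.appLE_eq_app] at e1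
      exact e1
    ext s
    rw [Ideal.mem_comap, mem_supportedOn_iff (𝓔.comap w) hW ⟨w ⁻¹ᵁ (U x).1, hU'⟩ _ ht',
      mem_supportedOn_iff 𝓔 (fun y => ⟨U y, hxU y, t y, ht y⟩) (U x) (t x) (ht x)]
    constructor
    · rintro ⟨n, hn⟩
      have h1 : t x ^ n * s ∈ w.ker.ideal (U x) := by
        rw [Scheme.Hom.ker_apply, RingHom.mem_ker, map_mul, map_pow]
        exact hn
      obtain ⟨m, hm⟩ :=
        (mem_supportedOn_iff 𝓔 (fun y => ⟨U y, hxU y, t y, ht y⟩) (U x) (t x) (ht x) _).1 (hw _ h1)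
      exact ⟨m + n, by rw [pow_add, mul_assoc]; exact hm⟩
    · rintro ⟨n, hn⟩
      refine ⟨n, ?_⟩
      rw [← map_pow, ← map_mul, hn, map_zero]

theorem isBlowUp_of_ker_le {X : Scheme.{u}} (𝓘 : X.IdealSheafData) (b : X' ⟶ X)
    (h : HTop.IsLocPrincipal (𝓘.comap b))
    (hbl : BlowUp.IsBlowUp ((HTop.supportedOn (𝓘.comap b)).subschemeι ≫ b) 𝓘)
    (w : W ⟶ X') [IsClosedImmersion w] (hw : w.ker ≤ HTop.supportedOn (𝓘.comap b)) :
    BlowUp.IsBlowUp ((HTop.supportedOn (𝓘.comap (w ≫ b))).subschemeι ≫ w ≫ b) 𝓘 := by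
  rw [comap_comp]
  set 𝓔 := 𝓘.comap b with h𝓔
  have hker := ker_comp_supportedOn 𝓔 h w hw
  have hker' : (HTop.supportedOn 𝓔).subschemeι.ker =
      ((HTop.supportedOn (𝓔.comap w)).subschemeι ≫ w).ker := by
    rw [hker, ker_subschemeι]
  have hiso := IsClosedImmersion.isIso_lift (HTop.supportedOn 𝓔).subschemeι
    ((HTop.supportedOn (𝓔.comap w)).subschemeι ≫ w) hker'
  have hfac := IsClosedImmersion.lift_fac (HTop.supportedOn 𝓔).subschemeι
    ((HTop.supportedOn (𝓔.comap w)).subschemeι ≫ w) hker'.le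
  have key := BlowUpDominate.isBlowUp_iso_comp 𝓘 _ hbl (asIso (IsClosedImmersion.lift
    (HTop.supportedOn 𝓔).subschemeι ((HTop.supportedOn (𝓔.comap w)).subschemeι ≫ w) hker'.le))
  rw [asIso_hom, ← Category.assoc, hfac, Category.assoc] at key
  exact key

theorem ker_le_supportedOn_of_isBlowUp {X : Scheme.{u}} (𝓘 : X.IdealSheafData) (b : X' ⟶ X)
    (h : HTop.IsLocPrincipal (𝓘.comap b))
    (hbl : BlowUp.IsBlowUp ((HTop.supportedOn (𝓘.comap b)).subschemeι ≫ b) 𝓘)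
    (w : W ⟶ X')
    (hblW : BlowUp.IsBlowUp ((HTop.supportedOn (𝓘.comap (w ≫ b))).subschemeι ≫ w ≫ b) 𝓘) :
    w.ker ≤ HTop.supportedOn (𝓘.comap b) := by
  set 𝓔 := 𝓘.comap b with h𝓔
  set 𝓚 := HTop.supportedOn 𝓔 with h𝓚
  -- the canonical morphism between the two blow-ups
  obtain ⟨φ, hφ, -⟩ := hblW.2 _ (𝓚.subschemeι ≫ b) hbl.1
  set l₂ : 𝓚.subscheme ⟶ X' := φ ≫ (HTop.supportedOn (𝓘.comap (w ≫ b))).subschemeι ≫ w with hl₂
  have hl₂b : l₂ ≫ b = 𝓚.subschemeι ≫ b := by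
    rw [hl₂, Category.assoc, Category.assoc]; exact hφ
  have hc : BlowUp.IsEffCartierIdeal (𝓔.comap l₂) := by
    rw [h𝓔, ← comap_comp, hl₂b]; exact hbl.1
  obtain ⟨l₂', hl₂'⟩ := exists_lift 𝓔 h l₂ hc
  obtain ⟨k, -, hk⟩ := hbl.2 _ (𝓚.subschemeι ≫ b) hbl.1
  have e1 : l₂' = k := hk l₂' (by
    show l₂' ≫ 𝓚.subschemeι ≫ b = _
    rw [← Category.assoc, hl₂', hl₂b])
  have e2 : 𝟙 _ = k := hk (𝟙 _) (Category.id_comp _)
  have e3 : l₂ = 𝓚.subschemeι := by rw [← hl₂', e1, ← e2, Category.id_comp]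
  have e4 : 𝓚 = l₂.ker := by rw [e3, ker_subschemeι]
  rw [e4, hl₂, ← Category.assoc]
  exact Scheme.Hom.le_ker_comp _ w

end Groth.Agent.Lib.Seat82.AlmostBlowUp
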