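import Mathlib
import Groth.Prelude.Def_HTop3
import Groth.Agent.Lib.Helper20BlowUp
import Groth.Agent.Lib.Seat82AlmostBlowUp

/-!
# Almost blow up squares are isomorphisms away from the centre (helper82)

* `isIso_subschemeι_restrict`: the closed subscheme cut out by the sections supported on a locally
  principal closed subscheme `V(𝓔)` coincides with the ambient scheme over the complement of `V(𝓔)`.
* `isIso_morphismRestrict_of_isAlmostBlowUpSquare`: in an almost blow up square the morphism `b` is
  an isomorphism over the complement of the centre.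
* `coe_compl_ker`: the complement of the support of the ideal of a closed immersion is the
  complement of its image.
-/

set_option autoImplicit false
universe u
open CategoryTheory CategoryTheory.Limits AlgebraicGeometry Opposite TopologicalSpace

namespace Groth.Agent.Lib.Seat82.AlmostBlowUp3

open Scheme.IdealSheafData Groth.Agent.Lib.Helper20 Groth.Agent.Lib.Helper20.BlowUpBasic
  Groth.Agent.Lib.Seat82.AlmostBlowUp

theorem ι_mem {X : Scheme.{u}} (A : X.Opens) (y : ↥((A : X.Opens) : Scheme.{u})) : A.ι y ∈ A := by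
  have : A.ι y ∈ Set.range A.ι := ⟨y, rfl⟩
  rwa [Scheme.Opens.range_ι] at this

/-- Over an open `V` on which `𝓔` becomes the unit ideal, the closed subscheme cut out by the
sections supported on `V(𝓔)` is all of `V`. -/
theorem isIso_subschemeι_restrict {P : Scheme.{u}} (𝓔 : P.IdealSheafData)
    (h : HTop.IsLocPrincipal 𝓔) (V : P.Opens) (hV : 𝓔.comap V.ι = ⊤) :
    IsIso ((HTop.supportedOn 𝓔).subschemeι ∣_ V) := by
  set j := (HTop.supportedOn 𝓔).subschemeι with hj
  obtain ⟨l', hl'⟩ := exists_lift 𝓔 h V.ι (by rw [hV]; exact isEffCartierIdeal_top)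
  have hr : Set.range l' ⊆ Set.range (j ⁻¹ᵁ V).ι := by
    rw [Scheme.Opens.range_ι]
    rintro _ ⟨y, rfl⟩
    change j (l' y) ∈ V
    rw [← Scheme.Hom.comp_apply, hl']
    exact ι_mem V y
  let σ := IsOpenImmersion.lift (j ⁻¹ᵁ V).ι l' hr
  have hσ : σ ≫ (j ∣_ V) = 𝟙 _ := by
    rw [← cancel_mono V.ι, Category.assoc, morphismRestrict_ι, ← Category.assoc,
      IsOpenImmersion.lift_fac, hl', Category.id_comp]
  refine ⟨σ, ?_, hσ⟩
  rw [← cancel_mono (j ∣_ V), Category.assoc, hσ, Category.comp_id, Category.id_comp]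

/-- In an almost blow up square the morphism `b` is an isomorphism over the complement of the
centre. -/
theorem isIso_morphismRestrict_of_isAlmostBlowUpSquare {E Z X' X : Scheme.{u}} {e : E ⟶ X'}
    {π : E ⟶ Z} {b : X' ⟶ X} {i : Z ⟶ X} (h : HTop.IsAlmostBlowUpSquare e π b i) :
    IsIso (b ∣_ compl i.ker) := by
  set j := (HTop.supportedOn (i.ker.comap b)).subschemeι with hj
  have hc : IsIso ((j ≫ b) ∣_ compl i.ker) := isIso_morphismRestrict i.ker (j ≫ b) h.isBlowUp
  have hV : (i.ker.comap b).comap (b ⁻¹ᵁ compl i.ker).ι = ⊤ := by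
    rw [← Scheme.IdealSheafData.comap_comp]
    apply comap_eq_top_of_le
    intro y
    rw [Scheme.Hom.comp_apply]
    exact ι_mem (b ⁻¹ᵁ compl i.ker) y
  have h1 : IsIso (j ∣_ b ⁻¹ᵁ compl i.ker) :=
    isIso_subschemeι_restrict (i.ker.comap b) h.locPrincipal _ hV
  rw [morphismRestrict_comp] at hc
  haveI := h1
  exact @IsIso.of_isIso_comp_left _ _ _ _ _ (j ∣_ b ⁻¹ᵁ compl i.ker) (b ∣_ compl i.ker) h1 hc

theorem coe_compl_ker {Z X : Scheme.{u}} (i : Z ⟶ X) [IsClosedImmersion i] :
    ((compl i.ker : X.Opens) : Set X) = (Set.range i)ᶜ := by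
  change ((i.ker.support : Set X))ᶜ = _
  rw [Scheme.Hom.support_ker, i.isClosedEmbedding.isClosed_range.closure_eq]

end Groth.Agent.Lib.Seat82.AlmostBlowUp3
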