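import Mathlib
import Groth.Prelude.Def_BlowUp2
import Groth.Prelude.Def_CurvBase
import Groth.Agent.Lib.Seat82BlowUpCover
import Groth.Agent.Lib.Seat82BlowUpFlatAlg
import Groth.Agent.Lib.Helper20BlowUp

/-!
# Twists of finite type ideals on a blow-up come from the base: affine case (helper82)

Namespace `Groth.Agent.Lib.Seat82.BlowUpCompose`.  `b : X' ⟶ Spec A` a blow-up of `I~` (in the sense of
`BlowUp.IsBlowUp`), `E = I·O_{X'}` the exceptional ideal, `𝓙` an ideal sheaf on `X'`.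
* `isAffineOpen_chartLocus`, `exists_chartRingHom`: the chart locus `W_a` is affine with ring `A[I/a]`.
* `exists_pow_mul_eq`: every section over `W_a` is `ψ(m)/ψ(a)^d` with `m ∈ I^d`.
* `basicOpen_le_chartLocus`: overlap of charts; `exists_pow_mul_mem`: extension of membership across `D(t)`.
* `tw b I 𝓙 n = 𝓙 * E ^ n`; `exists_ideal_comap_eq`: for `X'` quasi-compact and `𝓙` of finite type, for `n ≫ 0`
  there is an ideal `N ⊆ A` with `N~.comap b = 𝓙 * E ^ n`.
-/

set_option autoImplicit false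
set_option linter.unusedSectionVars false
universe u
open CategoryTheory AlgebraicGeometry Opposite TopologicalSpace nonZeroDivisors

namespace Groth.Agent.Lib.Seat82.BlowUpCompose

open Groth.Agent.Lib.Seat64.AffBlowUp Groth.Agent.Lib.Seat82.BlowUpAlg Groth.Agent.Lib.Seat82.BlowUpChart
  Groth.Agent.Lib.Seat82.BlowUpCover Groth.Agent.Lib.Seat82.BlowUpFlatAlg

section Affine

variable {A : Type u} [CommRing A] {X' : Scheme.{u}} {b : X' ⟶ Spec (CommRingCat.of A)} {I : Ideal A}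
  (hb : BlowUp.IsBlowUp b (Curv2.idealSheaf A I))

include hb in
theorem isAffineOpen_chartLocus (a : A) (ha : a ∈ I) : chartLocus b I a ∈ X'.affineOpens :=
  (IsAffine.of_isIso (chartIso hb a ha).hom : IsAffineOpen _)

theorem topIso_comp_ι_appTop {Y : Scheme.{u}} (W : Y.Opens) :
    W.ι.appTop ≫ W.topIso.hom = Y.presheaf.map (homOfLE (le_top : W ≤ ⊤)).op := by
  show Y.presheaf.map (homOfLE (x := W.ι ''ᵁ ⊤) le_top).op ≫
    Y.presheaf.map (eqToHom W.ι_image_top.symm).op = _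
  rw [← Functor.map_comp]
  rfl

include hb in
/-- the ring isomorphism `A[I/a] ≅ Γ(X', W_a)`, as a bijective ring hom extending `resψ`. -/
theorem exists_chartRingHom (a : A) (ha : a ∈ I) :
    ∃ η : BlowUp.affineAlgebra A I a →+* Γ(X', chartLocus b I a),
      Function.Bijective η ∧ η.comp (algebraMap A _) = resψ (ψg b) (chartLocus b I a) := by
  have h := chartIso_hom_chartMap hb a ha
  have h1 := congrArg ψg h
  rw [ψg_comp, ψg_comp, ψg_specMap] at h1
  refine ⟨((chartLocus b I a).topIso.hom.hom.comp (chartIso hb a ha).hom.appTop.hom).comp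
    (Scheme.ΓSpecIso (CommRingCat.of (BlowUp.affineAlgebra A I a))).inv.hom, ?_, ?_⟩
  · rw [RingHom.coe_comp, RingHom.coe_comp]
    refine Function.Bijective.comp (Function.Bijective.comp ?_ ?_) ?_
    · exact ConcreteCategory.bijective_of_isIso (chartLocus b I a).topIso.hom
    · have : IsIso (chartIso hb a ha).hom := inferInstance
      have : IsIso (chartIso hb a ha).hom.appTop :=
        inferInstanceAs (IsIso ((chartIso hb a ha).hom.app ⊤))
      exact ConcreteCategory.bijective_of_isIso (chartIso hb a ha).hom.appTop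
    · exact ConcreteCategory.bijective_of_isIso
        (Scheme.ΓSpecIso (CommRingCat.of (BlowUp.affineAlgebra A I a))).inv
  · rw [RingHom.comp_assoc, RingHom.comp_assoc, h1, ← RingHom.comp_assoc, ← CommRingCat.hom_comp,
      topIso_comp_ι_appTop]
    rfl

include hb in
/-- every section over the chart `W_a` is `ψ(m) / ψ(a)^d` with `m ∈ I^d`. -/
theorem exists_pow_mul_eq (a : A) (ha : a ∈ I) (g : Γ(X', chartLocus b I a)) :
    ∃ (d : ℕ) (m : A), m ∈ I ^ d ∧
      g * resψ (ψg b) (chartLocus b I a) a ^ d = resψ (ψg b) (chartLocus b I a) m := by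
  obtain ⟨η, hbij, hη⟩ := exists_chartRingHom hb a ha
  obtain ⟨z, rfl⟩ := hbij.2 g
  obtain ⟨d, m, hm, hz⟩ := exists_fr_of_mem I a ha z.2
  refine ⟨d, m, hm, ?_⟩
  have h1 : z * algebraMap A (BlowUp.affineAlgebra A I a) (a ^ d) =
      algebraMap A (BlowUp.affineAlgebra A I a) m := by
    apply Subtype.ext
    show z.1 * algebraMap A (Localization.Away a) (a ^ d) = algebraMap A (Localization.Away a) m
    rw [hz]
    exact fr_mul_algebraMap a m d
  have h2 : ∀ x, η (algebraMap A _ x) = resψ (ψg b) (chartLocus b I a) x :=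
    fun x => RingHom.congr_fun hη x
  rw [← h2 a, ← h2 m, ← map_pow, ← map_pow, ← map_mul, h1]

/-- overlap of charts: where the ratio `ψ(a)/ψ(a')` is invertible on `W_{a'}`, `a` generates too. -/
theorem basicOpen_le_chartLocus (a a' : A) (t : Γ(X', chartLocus b I a'))
    (ht : t * resψ (ψg b) (chartLocus b I a') a' = resψ (ψg b) (chartLocus b I a') a) :
    X'.basicOpen t ≤ chartLocus b I a := by
  intro y hy
  have hyW' : GenAt (ψg b) I a' y := X'.basicOpen_le t hy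
  obtain ⟨U, hU, hyU, hUle, hnz, hIU⟩ := hyW'.exists_le (X'.basicOpen t) hy
  have hUW : U ≤ chartLocus b I a' := hUle.trans (X'.basicOpen_le t)
  set tU := (X'.presheaf.map (homOfLE hUW).op).hom t with htU
  have hunit : IsUnit tU := by
    have h1 := X'.toRingedSpace.isUnit_res_basicOpen t
    have h2 := h1.map (X'.presheaf.map (homOfLE hUle).op).hom
    convert h2 using 1
    rw [htU]
    show _ = (X'.presheaf.map (homOfLE (X'.basicOpen_le t)).op ≫
      X'.presheaf.map (homOfLE hUle).op).hom t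
    rw [← Functor.map_comp]
    rfl
  have hmul : tU * resψ (ψg b) U a' = resψ (ψg b) U a := by
    rw [htU, ← res_resψ (ψg b) hUW a', ← map_mul, ht, res_resψ]
  have hspan : Ideal.span {resψ (ψg b) U a} = Ideal.span {resψ (ψg b) U a'} := by
    rw [← hmul]
    exact Ideal.span_singleton_mul_left_unit hunit _
  exact ⟨U, hU, hyU, mem_nonZeroDivisors_of_span_eq hnz hspan, hIU.trans hspan.symm⟩

/-- extension across a basic open: a section of `O` over affine `W` lying in `𝓜` on `D(t)` is in `𝓜(W)` after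
multiplying by a power of `t`. -/
theorem exists_pow_mul_mem {Y : Scheme.{u}} (𝓜 : Y.IdealSheafData) (W : Y.affineOpens) (t s : Γ(Y, W.1))
    (hs : (Y.presheaf.map (homOfLE (Y.basicOpen_le t)).op).hom s ∈
      (𝓜.ideal W).map (Y.presheaf.map (homOfLE (Y.basicOpen_le t)).op).hom) :
    ∃ N : ℕ, t ^ N * s ∈ 𝓜.ideal W := by
  have inst := W.2.isLocalization_basicOpen t
  have h2 : algebraMap Γ(Y, W.1) Γ(Y, Y.basicOpen t) s ∈
      Ideal.map (algebraMap Γ(Y, W.1) Γ(Y, Y.basicOpen t)) (𝓜.ideal W) := hs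
  rw [IsLocalization.algebraMap_mem_map_algebraMap_iff (Submonoid.powers t)] at h2
  obtain ⟨_, ⟨N, rfl⟩, hN⟩ := h2
  exact ⟨N, hN⟩

section Core

variable (𝓙 : X'.IdealSheafData)

/-- the twist `𝓙 * E ^ n` of `𝓙` by the exceptional ideal. -/
noncomputable def tw (b : X' ⟶ Spec (CommRingCat.of A)) (I : Ideal A) (𝓙 : X'.IdealSheafData) (n : ℕ) :
    X'.IdealSheafData :=
  𝓙 * ((Curv2.idealSheaf A I).comap b) ^ n

theorem tw_ideal (V : X'.affineOpens) (n : ℕ) :
    (tw b I 𝓙 n).ideal V = 𝓙.ideal V * (I.map (resψ (ψg b) V.1)) ^ n := by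
  show 𝓙.ideal V * (((Curv2.idealSheaf A I).comap b).ideal V) ^ n = _
  rw [← ideal_comap b I V.1 V.2]

theorem resψ_mul_mem_tw (V : X'.affineOpens) {n k : ℕ} {f x : A} (hx : x ∈ I ^ k)
    (hf : resψ (ψg b) V.1 f ∈ (tw b I 𝓙 n).ideal V) :
    resψ (ψg b) V.1 (x * f) ∈ (tw b I 𝓙 (n + k)).ideal V := by
  rw [tw_ideal] at hf ⊢
  rw [map_mul, mul_comm (resψ (ψg b) V.1 x), pow_add, ← mul_assoc]
  refine Ideal.mul_mem_mul hf ?_
  rw [← Ideal.map_pow]
  exact Ideal.mem_map_of_mem _ hx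

include hb in
theorem exists_pow_mul_mem_tw (a a' : A) (ha : a ∈ I) (ha' : a' ∈ I) (n : ℕ) (f : A)
    (hf : resψ (ψg b) (chartLocus b I a) f ∈
      (tw b I 𝓙 n).ideal ⟨chartLocus b I a, isAffineOpen_chartLocus hb a ha⟩) :
    ∃ N : ℕ, resψ (ψg b) (chartLocus b I a') (a ^ N * f) ∈
      (tw b I 𝓙 (n + N)).ideal ⟨chartLocus b I a', isAffineOpen_chartLocus hb a' ha'⟩ := by
  have hV' : ∀ y ∈ chartLocus b I a', GenAt (ψg b) I a' y := fun y hy => hy
  obtain ⟨t, ht⟩ := exists_section_mul_eq hV' a ha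
  have hDW : X'.basicOpen t ≤ chartLocus b I a := basicOpen_le_chartLocus a a' t ht
  have hDW' : X'.basicOpen t ≤ chartLocus b I a' := X'.basicOpen_le t
  let D : X'.affineOpens :=
    X'.affineBasicOpen (U := ⟨chartLocus b I a', isAffineOpen_chartLocus hb a' ha'⟩) t
  have h1 : resψ (ψg b) D.1 f ∈ (tw b I 𝓙 n).ideal D := by
    have := (tw b I 𝓙 n).ideal_le_comap_ideal (U := D)
      (V := ⟨chartLocus b I a, isAffineOpen_chartLocus hb a ha⟩) hDW hf
    have e : (X'.presheaf.map (homOfLE hDW).op).hom (resψ (ψg b) (chartLocus b I a) f) =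
        resψ (ψg b) D.1 f := res_resψ (ψg b) hDW f
    rw [← e]
    exact this
  have h2 : (X'.presheaf.map (homOfLE (X'.basicOpen_le t)).op).hom (resψ (ψg b) (chartLocus b I a') f) ∈
      ((tw b I 𝓙 n).ideal ⟨chartLocus b I a', isAffineOpen_chartLocus hb a' ha'⟩).map
        (X'.presheaf.map (homOfLE (X'.basicOpen_le t)).op).hom := by
    have e2 := (tw b I 𝓙 n).map_ideal (U := D)
      (V := ⟨chartLocus b I a', isAffineOpen_chartLocus hb a' ha'⟩) hDW'
    have e3 : (X'.presheaf.map (homOfLE (X'.basicOpen_le t)).op).hom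
        (resψ (ψg b) (chartLocus b I a') f) = resψ (ψg b) D.1 f := res_resψ (ψg b) _ f
    rw [e3]
    exact e2.ge h1
  obtain ⟨N, hN⟩ := exists_pow_mul_mem (tw b I 𝓙 n)
    ⟨chartLocus b I a', isAffineOpen_chartLocus hb a' ha'⟩ t _ h2
  refine ⟨N, ?_⟩
  have h3 : resψ (ψg b) (chartLocus b I a') (a ^ N * f) =
      (t ^ N * resψ (ψg b) (chartLocus b I a') f) * (resψ (ψg b) (chartLocus b I a') a') ^ N := by
    rw [map_mul, map_pow, ← ht, mul_pow]
    ring
  rw [h3, tw_ideal, pow_add, ← mul_assoc, ← tw_ideal]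
  exact Ideal.mul_mem_mul hN (Ideal.pow_mem_pow (Ideal.mem_map_of_mem _ ha') N)

theorem map_resψ_eq_span (a : A) (ha : a ∈ I) (V : X'.Opens) (hV : ∀ y ∈ V, GenAt (ψg b) I a y) :
    I.map (resψ (ψg b) V) = Ideal.span {resψ (ψg b) V a} := by
  apply le_antisymm
  · rw [Ideal.map_le_iff_le_comap]
    intro x hx
    obtain ⟨t, ht⟩ := exists_section_mul_eq hV x hx
    rw [Ideal.mem_comap, Ideal.mem_span_singleton']
    exact ⟨t, ht⟩
  · rw [Ideal.span_le, Set.singleton_subset_iff]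
    exact Ideal.mem_map_of_mem _ ha

/-- the chart `W_a` as an affine open. -/
noncomputable abbrev chartAff (a : A) (ha : a ∈ I) : X'.affineOpens :=
  ⟨chartLocus b I a, isAffineOpen_chartLocus hb a ha⟩

section Family

variable {ι : Type*} [Fintype ι] (a : ι → A) (ha : ∀ i, a i ∈ I)

/-- elements of `A` landing in `𝓙 E^n` on all the charts of the family. -/
noncomputable def baseIdeal (n : ℕ) : Ideal A :=
  ⨅ i, ((tw b I 𝓙 n).ideal (chartAff hb (a i) (ha i))).comap (resψ (ψg b) (chartLocus b I (a i)))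

theorem mem_baseIdeal {n : ℕ} {f : A} :
    f ∈ baseIdeal hb 𝓙 a ha n ↔
      ∀ i, resψ (ψg b) (chartLocus b I (a i)) f ∈ (tw b I 𝓙 n).ideal (chartAff hb (a i) (ha i)) := by
  unfold baseIdeal
  rw [Ideal.mem_iInf]
  rfl

theorem mul_mem_baseIdeal {n k : ℕ} {f x : A} (hx : x ∈ I ^ k) (hf : f ∈ baseIdeal hb 𝓙 a ha n) :
    x * f ∈ baseIdeal hb 𝓙 a ha (n + k) := by
  rw [mem_baseIdeal] at hf ⊢
  intro i
  exact resψ_mul_mem_tw 𝓙 (chartAff hb (a i) (ha i)) hx (hf i)

theorem exists_pow_mul_mem_baseIdeal (i : ι) (n : ℕ) (f : A)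
    (hf : resψ (ψg b) (chartLocus b I (a i)) f ∈ (tw b I 𝓙 n).ideal (chartAff hb (a i) (ha i))) :
    ∃ N : ℕ, a i ^ N * f ∈ baseIdeal hb 𝓙 a ha (n + N) := by
  choose N hN using fun j => exists_pow_mul_mem_tw hb 𝓙 (a i) (a j) (ha i) (ha j) n f hf
  refine ⟨Finset.univ.sup N, ?_⟩
  rw [mem_baseIdeal]
  intro j
  have hle : N j ≤ Finset.univ.sup N := Finset.le_sup (Finset.mem_univ j)
  obtain ⟨k, hk⟩ := Nat.exists_eq_add_of_le hle
  rw [hk, pow_add, mul_comm (a i ^ N j), mul_assoc, ← add_assoc]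
  exact resψ_mul_mem_tw 𝓙 (chartAff hb (a j) (ha j)) (Ideal.pow_mem_pow (ha i) k) (hN j)

theorem exists_mem_baseIdeal_of_mem (i : ι) (g : Γ(X', chartLocus b I (a i)))
    (hg : g ∈ 𝓙.ideal (chartAff hb (a i) (ha i))) :
    ∃ n₀ : ℕ, ∀ n ≥ n₀, ∃ f ∈ baseIdeal hb 𝓙 a ha n,
      resψ (ψg b) (chartLocus b I (a i)) f = g * resψ (ψg b) (chartLocus b I (a i)) (a i) ^ n := by
  obtain ⟨d, m, hm, hgm⟩ := exists_pow_mul_eq hb (a i) (ha i) g
  have hmem : resψ (ψg b) (chartLocus b I (a i)) m ∈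
      (tw b I 𝓙 d).ideal (chartAff hb (a i) (ha i)) := by
    rw [tw_ideal, ← hgm]
    exact Ideal.mul_mem_mul hg (Ideal.pow_mem_pow (Ideal.mem_map_of_mem _ (ha i)) d)
  obtain ⟨N, hN⟩ := exists_pow_mul_mem_baseIdeal hb 𝓙 a ha i d m hmem
  refine ⟨d + N, fun n hn => ?_⟩
  obtain ⟨k, rfl⟩ := Nat.exists_eq_add_of_le hn
  refine ⟨a i ^ k * (a i ^ N * m), mul_mem_baseIdeal hb 𝓙 a ha (Ideal.pow_mem_pow (ha i) k) hN, ?_⟩
  rw [map_mul, map_mul, map_pow, map_pow, ← hgm]
  ring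

theorem exists_tw_ideal_le (i : ι) (hfg : (𝓙.ideal (chartAff hb (a i) (ha i))).FG) :
    ∃ n₀ : ℕ, ∀ n ≥ n₀, (tw b I 𝓙 n).ideal (chartAff hb (a i) (ha i)) ≤
      (baseIdeal hb 𝓙 a ha n).map (resψ (ψg b) (chartLocus b I (a i))) := by
  obtain ⟨G, hG⟩ := hfg
  have hGmem : ∀ g : G, g.1 ∈ 𝓙.ideal (chartAff hb (a i) (ha i)) := fun g =>
    hG ▸ Ideal.subset_span g.2
  choose n₀ hn₀ using fun g : G => exists_mem_baseIdeal_of_mem hb 𝓙 a ha i g.1 (hGmem g)
  refine ⟨Finset.univ.sup n₀, fun n hn => ?_⟩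
  rw [tw_ideal]
  have hspan : I.map (resψ (ψg b) (chartAff hb (a i) (ha i)).1) =
      Ideal.span {resψ (ψg b) (chartLocus b I (a i)) (a i)} :=
    map_resψ_eq_span (a i) (ha i) (chartLocus b I (a i)) (fun y hy => hy)
  rw [hspan, ← hG, Ideal.span_singleton_pow, Ideal.span_mul_span', Ideal.span_le]
  rintro _ ⟨g, hg, _, rfl, rfl⟩
  have hle : n₀ ⟨g, hg⟩ ≤ n := le_trans (Finset.le_sup (Finset.mem_univ _)) hn
  obtain ⟨f, hf, hfe⟩ := hn₀ ⟨g, hg⟩ n hle
  show g * _ ∈ _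
  rw [← hfe]
  exact Ideal.mem_map_of_mem _ hf

end Family

include hb in
/-- **Affine theorem**: over an affine base, for `n ≫ 0` the twist `𝓙 E^n` of a finite type ideal `𝓙` on the
blow-up is the inverse image of an ideal of the base. -/
theorem exists_ideal_comap_eq [CompactSpace X'] (h𝓙 : BlowUp.IsFiniteTypeIdeal 𝓙) :
    ∃ n₀ : ℕ, ∀ n ≥ n₀, ∃ N : Ideal A, (Curv2.idealSheaf A N).comap b = tw b I 𝓙 n := by
  have hcov : ∀ x' : X', ∃ a : I, x' ∈ chartLocus b I a.1 := fun x' =>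
    let ⟨a, ha, h⟩ := exists_mem_chartLocus hb x'
    ⟨⟨a, ha⟩, h⟩
  obtain ⟨t, ht⟩ := isCompact_univ.elim_finite_subcover
    (fun a : I => (chartLocus b I a.1 : Set X')) (fun a => (chartLocus b I a.1).2)
    (fun x _ => Set.mem_iUnion.2 (hcov x))
  let a : t → A := fun i => i.1.1
  have ha : ∀ i, a i ∈ I := fun i => i.1.2
  choose n₀ hn₀ using fun i : t => exists_tw_ideal_le hb 𝓙 a ha i (h𝓙 _)
  refine ⟨Finset.univ.sup n₀, fun n hn => ⟨baseIdeal hb 𝓙 a ha n, ?_⟩⟩
  refine Scheme.IdealSheafData.ext_of_iSup_eq_top (fun i : t => chartAff hb (a i) (ha i)) ?_ ?_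
  · rw [eq_top_iff]
    intro x hx
    obtain ⟨i, hi, hxi⟩ := Set.mem_iUnion₂.1 (ht (Set.mem_univ x))
    exact Opens.mem_iSup.2 ⟨⟨i, hi⟩, hxi⟩
  · intro i
    refine (ideal_comap b _ (chartLocus b I (a i)) (chartAff hb (a i) (ha i)).2).trans ?_
    apply le_antisymm
    · rw [Ideal.map_le_iff_le_comap]
      exact iInf_le _ i
    · exact hn₀ i n (le_trans (Finset.le_sup (Finset.mem_univ _)) hn)

end Core

end Affine

end Groth.Agent.Lib.Seat82.BlowUpCompose
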