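import Mathlib
import Groth.Prelude.Def_BlowUp2
import Groth.Prelude.Def_CurvBase
import Groth.Agent.Lib.Helper20BlowUp
import Groth.Agent.Lib.Seat82BlowUpCompose
import Groth.Agent.Lib.Seat82BlowUpFlatGeom
import Groth.Agent.Lib.Helper22FTIdeal
import Groth.Agent.Lib.Seat92BlowUpProper
import Groth.Agent.S1683
import Groth.Agent.S8852

/-!
# Composition of blow-ups in finite type ideals is a blow-up (helper82)

Namespace `Groth.Agent.Lib.Seat82.BlowUpCompose`.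
* `comap_pow`, `map_comap_ι` (pushforward of ideal sheaves along a quasi-compact map commutes with restriction to
  opens), `le_of_comap_ι_le` (inequalities of ideal sheaves are local).
* `exists_map_comap_eq`: `b : X' ⟶ X` a blow-up of a finite type `𝓘` on quasi-compact `X`, `𝓙` of finite type on
  `X'`; for `n ≫ 0`, `𝓙 E^n` is the inverse image of its pushforward ideal.
* `exists_ft_comap_eq`: finite type approximation of an ideal with finite type inverse image.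
* `isBlowUp_mul_effCartier`: multiplying the centre by an effective Cartier ideal does not change the blow-up.
* `isBlowUp_comp_finiteType`: composition of blow-ups in finite type ideals on a qcqs scheme is a blow-up in a
  finite type ideal with the expected support.
-/

set_option autoImplicit false
universe u
open CategoryTheory CategoryTheory.Limits AlgebraicGeometry Opposite TopologicalSpace nonZeroDivisors

namespace Groth.Agent.Lib.Seat82.BlowUpCompose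

open Scheme.IdealSheafData Groth.Agent.Lib.Helper20 Groth.Agent.Lib.Seat82.BlowUpRestrict
  Groth.Agent.Lib.Seat82.BlowUpFlatGeom

section General

theorem comap_pow {S T : Scheme.{u}} (g : S ⟶ T) (J : T.IdealSheafData) (n : ℕ) :
    (J ^ n).comap g = (J.comap g) ^ n := by
  induction n with
  | zero =>
    rw [pow_zero, pow_zero]
    exact comap_top g
  | succ n ih => rw [pow_succ, pow_succ, BlowUpBasic.comap_mul, ih]

/-- pushforward of ideal sheaves along a quasi-compact morphism commutes with restriction to opens. -/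
theorem map_comap_ι {X X' : Scheme.{u}} (𝓜 : X'.IdealSheafData) (b : X' ⟶ X) [QuasiCompact b]
    (U : X.Opens) : (𝓜.map b).comap U.ι = (𝓜.comap (b ⁻¹ᵁ U).ι).map (b ∣_ U) := by
  have sq1 : IsPullback (𝓜.comap (b ⁻¹ᵁ U).ι).subschemeι
      ((𝓜.comapIso (b ⁻¹ᵁ U).ι).hom ≫ pullback.snd _ _) (b ⁻¹ᵁ U).ι 𝓜.subschemeι :=
    IsPullback.of_iso_pullback ⟨by
      rw [Category.assoc, ← pullback.condition, ← Category.assoc, comapIso_hom_fst]⟩
      (𝓜.comapIso (b ⁻¹ᵁ U).ι) (comapIso_hom_fst _ _) rfl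
  have sq2 : IsPullback (b ∣_ U) (b ⁻¹ᵁ U).ι U.ι b := isPullback_morphismRestrict b U
  have H := sq1.paste_horiz sq2
  refine Scheme.IdealSheafData.ext ?_
  funext W
  rw [ideal_comap_of_isOpenImmersion]
  exact (Scheme.ker_ideal_of_isPullback_of_isOpenImmersion (𝓜.subschemeι ≫ b) _ _ U.ι H W).symm

/-- an inequality of ideal sheaves can be checked on an open cover. -/
theorem le_of_comap_ι_le {Y : Scheme.{u}} (𝓐 𝓑 : Y.IdealSheafData) {κ : Type*} (V : κ → Y.Opens)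
    (hV : ⨆ k, V k = ⊤) (h : ∀ k, 𝓐.comap (V k).ι ≤ 𝓑.comap (V k).ι) : 𝓐 ≤ 𝓑 := by
  refine le_of_iSup_eq_top
    (fun p : Σ k, (V k).toScheme.affineOpens =>
      ⟨(V p.1).ι ''ᵁ p.2.1, p.2.2.image_of_isOpenImmersion (V p.1).ι⟩) ?_ ?_
  · rw [eq_top_iff]
    intro y _
    have hy : y ∈ ⨆ k, V k := hV ▸ trivial
    obtain ⟨k, hk⟩ := Opens.mem_iSup.1 hy
    obtain ⟨W, hW, hyW, -⟩ := exists_isAffineOpen_mem_and_subset (X := (V k).toScheme)
      (x := ⟨y, hk⟩) (U := ⊤) trivial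
    exact Opens.mem_iSup.2 ⟨⟨k, ⟨W, hW⟩⟩, ⟨⟨y, hk⟩, hyW, rfl⟩⟩
  · rintro ⟨k, W⟩
    have h1 := h k W
    rw [ideal_comap_of_isOpenImmersion, ideal_comap_of_isOpenImmersion] at h1
    have hsurj : Function.Surjective ((V k).ι.appIso W.1).inv.hom :=
      (ConcreteCategory.bijective_of_isIso ((V k).ι.appIso W.1).inv).2
    exact (Ideal.comap_le_comap_iff_of_surjective _ hsurj _ _).1 h1

end General

section Global

variable {X X' : Scheme.{u}} (𝓘 : X.IdealSheafData) (b : X' ⟶ X) (hb : BlowUp.IsBlowUp b 𝓘)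
  (𝓙 : X'.IdealSheafData)

include hb in
/-- local form: over an affine open `U` of the base, `𝓙 E^n` is an inverse image for `n ≫ 0`. -/
theorem exists_comap_morphismRestrict_eq [QuasiCompact b] (h𝓙 : BlowUp.IsFiniteTypeIdeal 𝓙)
    (U : X.affineOpens) :
    ∃ n₀ : ℕ, ∀ n ≥ n₀, ∃ 𝓚 : U.1.toScheme.IdealSheafData,
      𝓚.comap (b ∣_ U.1) = (𝓙 * (𝓘.comap b) ^ n).comap (b ⁻¹ᵁ U.1).ι := by
  have hb₁ := isBlowUp_comp_iso _ _ (isBlowUp_morphismRestrict 𝓘 b hb U.1) U.2.isoSpec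
  rw [← comap_comp, U.2.isoSpec_inv_ι, comap_fromSpec 𝓘 U.2] at hb₁
  have : CompactSpace (b ⁻¹ᵁ U.1).toScheme :=
    isCompact_iff_compactSpace.mp
      (QuasiCompact.isCompact_preimage (f := b) _ U.1.2 U.2.isCompact)
  have hft : BlowUp.IsFiniteTypeIdeal (𝓙.comap (b ⁻¹ᵁ U.1).ι) := by
    intro V
    have hle : V.1 ≤ (b ⁻¹ᵁ U.1).ι ⁻¹ᵁ ((b ⁻¹ᵁ U.1).ι ''ᵁ V.1) := by
      rw [Scheme.Hom.preimage_image_eq]
    rw [EffCartier.ideal_comap_eq_map (b ⁻¹ᵁ U.1).ι 𝓙 V.2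
      (V.2.image_of_isOpenImmersion (b ⁻¹ᵁ U.1).ι) hle]
    exact (h𝓙 _).map _
  obtain ⟨n₀, hn₀⟩ := exists_ideal_comap_eq hb₁ (𝓙.comap (b ⁻¹ᵁ U.1).ι) hft
  refine ⟨n₀, fun n hn => ?_⟩
  obtain ⟨N, hN⟩ := hn₀ n hn
  refine ⟨(Curv2.idealSheaf _ N).comap U.2.isoSpec.hom, ?_⟩
  rw [← comap_comp, hN, tw, BlowUpBasic.comap_mul, comap_pow]
  congr 2
  rw [← comap_fromSpec 𝓘 U.2, ← U.2.isoSpec_inv_ι, ← comap_comp, Category.assoc,
    Iso.hom_inv_id_assoc, morphismRestrict_ι, comap_comp]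

include hb in
/-- for `n ≫ 0`, `𝓙 E^n` is the inverse image of its pushforward ideal. -/
theorem exists_map_comap_eq [CompactSpace X] [QuasiCompact b] (h𝓙 : BlowUp.IsFiniteTypeIdeal 𝓙) :
    ∃ n₀ : ℕ, ∀ n ≥ n₀,
      ((𝓙 * (𝓘.comap b) ^ n).map b).comap b = 𝓙 * (𝓘.comap b) ^ n := by
  obtain ⟨t, ht⟩ := isCompact_univ.elim_finite_subcover
    (fun U : X.affineOpens => (U.1 : Set X)) (fun U => U.1.2)
    (fun x _ => by
      obtain ⟨W, hW, hxW, -⟩ := exists_isAffineOpen_mem_and_subset (x := x) (U := (⊤ : X.Opens)) trivial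
      exact Set.mem_iUnion.2 ⟨⟨W, hW⟩, hxW⟩)
  choose n₀ hn₀ using fun U : X.affineOpens => exists_comap_morphismRestrict_eq 𝓘 b hb 𝓙 h𝓙 U
  refine ⟨t.sup n₀, fun n hn => le_antisymm (comap_map_le _ _) ?_⟩
  refine le_of_comap_ι_le _ _ (fun U : t => b ⁻¹ᵁ U.1.1) ?_ ?_
  · rw [eq_top_iff]
    intro x' _
    obtain ⟨U, hU, hxU⟩ := Set.mem_iUnion₂.1 (ht (Set.mem_univ (b x')))
    exact Opens.mem_iSup.2 ⟨⟨U, hU⟩, hxU⟩
  · intro U
    obtain ⟨𝓚, h𝓚⟩ := hn₀ U.1 n (le_trans (Finset.le_sup U.2) hn)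
    have h1 : 𝓚 ≤ ((𝓙 * (𝓘.comap b) ^ n).map b).comap U.1.1.ι := by
      rw [map_comap_ι, le_map_iff_comap_le, h𝓚]
    calc (𝓙 * (𝓘.comap b) ^ n).comap (b ⁻¹ᵁ U.1.1).ι = 𝓚.comap (b ∣_ U.1.1) := h𝓚.symm
      _ ≤ (((𝓙 * (𝓘.comap b) ^ n).map b).comap U.1.1.ι).comap (b ∣_ U.1.1) := comap_mono _ h1
      _ = (((𝓙 * (𝓘.comap b) ^ n).map b).comap b).comap (b ⁻¹ᵁ U.1.1).ι := by
        rw [← comap_comp, morphismRestrict_ι, comap_comp]

omit 𝓘 in
/-- finite type approximation: if the inverse image of `𝓝` is of finite type (on affines lying over affines),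
it is already the inverse image of a finite type sub-ideal of `𝓝`. -/
theorem exists_ft_comap_eq [CompactSpace X] [QuasiSeparatedSpace X] [CompactSpace X']
    (𝓝 : X.IdealSheafData)
    (h : ∀ (U : X.affineOpens) (V : X'.affineOpens), V.1 ≤ b ⁻¹ᵁ U.1 → ((𝓝.comap b).ideal V).FG) :
    ∃ 𝓚 : X.IdealSheafData, 𝓚 ≤ 𝓝 ∧ BlowUp.IsFiniteTypeIdeal 𝓚 ∧ 𝓚.comap b = 𝓝.comap b := by
  classical
  -- local statement
  have hloc : ∀ x' : X', ∃ V : X'.affineOpens, x' ∈ V.1 ∧ ∃ 𝓚 : X.IdealSheafData, 𝓚 ≤ 𝓝 ∧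
      Helper22.FTIdeal.FT 𝓚 ∧ (𝓝.comap b).ideal V ≤ (𝓚.comap b).ideal V := by
    intro x'
    obtain ⟨U, hU, hxU, -⟩ := exists_isAffineOpen_mem_and_subset (x := b x') (U := (⊤ : X.Opens)) trivial
    obtain ⟨V, hV, hxV, hVU⟩ := exists_isAffineOpen_mem_and_subset (x := x') (U := b ⁻¹ᵁ U) hxU
    refine ⟨⟨V, hV⟩, hxV, ?_⟩
    have hfg := h ⟨U, hU⟩ ⟨V, hV⟩ hVU
    rw [EffCartier.ideal_comap_eq_map b 𝓝 hV hU hVU] at hfg
    obtain ⟨K₀, hK₀le, ⟨s, hs⟩, hK₀map⟩ := Helper22.FTIdeal.exists_fg_le_map_eq _ _ hfg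
    have hsmem : ∀ c : s, c.1 ∈ 𝓝.ideal ⟨U, hU⟩ := fun c => hK₀le (hs ▸ Ideal.subset_span c.2)
    choose J hJle hJft hJc using fun c : s =>
      Helper22.FTIdeal.exists_ft_le_mem 𝓝 ⟨U, hU⟩ c.1 (hsmem c)
    have hsup : Finset.univ.sup J ≤ 𝓝 ∧ Helper22.FTIdeal.FT (Finset.univ.sup J) :=
      Finset.sup_induction (p := fun 𝓚 => 𝓚 ≤ 𝓝 ∧ Helper22.FTIdeal.FT 𝓚)
        ⟨bot_le, Helper22.FTIdeal.ft_bot⟩
        (fun a₁ h₁ a₂ h₂ => ⟨sup_le h₁.1 h₂.1, h₁.2.sup h₂.2⟩)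
        (fun c _ => ⟨hJle c, hJft c⟩)
    refine ⟨Finset.univ.sup J, hsup.1, hsup.2, ?_⟩
    rw [EffCartier.ideal_comap_eq_map b 𝓝 hV hU hVU, EffCartier.ideal_comap_eq_map b _ hV hU hVU,
      ← hK₀map]
    apply Ideal.map_mono
    rw [← hs, Ideal.span_le]
    intro c hc
    have hle : J ⟨c, hc⟩ ≤ Finset.univ.sup J := Finset.le_sup (Finset.mem_univ _)
    exact hle ⟨U, hU⟩ (hJc ⟨c, hc⟩)
  choose V hxV 𝓚 h𝓚le h𝓚ft h𝓚V using hloc
  obtain ⟨t, ht⟩ := isCompact_univ.elim_finite_subcover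
    (fun x' : X' => ((V x').1 : Set X')) (fun x' => (V x').1.2)
    (fun x' _ => Set.mem_iUnion.2 ⟨x', hxV x'⟩)
  have hsup : t.sup 𝓚 ≤ 𝓝 ∧ Helper22.FTIdeal.FT (t.sup 𝓚) :=
    Finset.sup_induction (p := fun 𝓚 => 𝓚 ≤ 𝓝 ∧ Helper22.FTIdeal.FT 𝓚)
      ⟨bot_le, Helper22.FTIdeal.ft_bot⟩
      (fun a₁ h₁ a₂ h₂ => ⟨sup_le h₁.1 h₂.1, h₁.2.sup h₂.2⟩)
      (fun c _ => ⟨h𝓚le c, h𝓚ft c⟩)
  refine ⟨t.sup 𝓚, hsup.1, hsup.2, le_antisymm (comap_mono _ hsup.1) ?_⟩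
  refine le_of_iSup_eq_top (fun x' : t => V x'.1) ?_ ?_
  · rw [eq_top_iff]
    intro y _
    obtain ⟨x', hx', hy⟩ := Set.mem_iUnion₂.1 (ht (Set.mem_univ y))
    exact Opens.mem_iSup.2 ⟨⟨x', hx'⟩, hy⟩
  · intro x'
    refine (h𝓚V x'.1).trans ?_
    exact comap_mono b (Finset.le_sup x'.2) (V x'.1)

end Global

section Final

theorem isEffCartierIdeal_pow {Y : Scheme.{u}} {E : Y.IdealSheafData}
    (hE : BlowUp.IsEffCartierIdeal E) (n : ℕ) : BlowUp.IsEffCartierIdeal (E ^ n) := by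
  induction n with
  | zero =>
    rw [pow_zero]
    exact BlowUpBasic.isEffCartierIdeal_top
  | succ n ih =>
    rw [pow_succ]
    exact BlowUpBasic.isEffCartierIdeal_mul ih hE

/-- multiplying the centre by an effective Cartier ideal does not change the blow-up. -/
theorem isBlowUp_mul_effCartier {Y Y' : Scheme.{u}} (b' : Y' ⟶ Y) (𝓙 𝓔 : Y.IdealSheafData)
    (hb' : BlowUp.IsBlowUp b' 𝓙) (hE : BlowUp.IsEffCartierIdeal 𝓔) :
    BlowUp.IsBlowUp b' (𝓙 * 𝓔) := by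
  constructor
  · rw [BlowUpBasic.comap_mul]
    exact BlowUpBasic.isEffCartierIdeal_mul hb'.1 (BlowUpBasic.isEffCartierIdeal_comap 𝓙 b' hb' 𝓔 hE)
  · intro T g hg
    rw [BlowUpBasic.comap_mul] at hg
    exact hb'.2 T g (Groth.Agent.S8852.result _ _ hg).1

/-- a blow-up is surjective over the complement of the centre. -/
theorem exists_preimage_of_notMem_support {X X' : Scheme.{u}} (𝓘 : X.IdealSheafData) (b : X' ⟶ X)
    (hb : BlowUp.IsBlowUp b 𝓘) (x : X) (hx : x ∉ 𝓘.support) : ∃ x' : X', b x' = x := by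
  have hiso := BlowUpBasic.isIso_morphismRestrict 𝓘 b hb
  let W := BlowUpBasic.compl 𝓘
  let w : W.toScheme := ⟨x, hx⟩
  obtain ⟨y, h1⟩ : ∃ y : (b ⁻¹ᵁ W).toScheme, (b ∣_ W) y = w := by
    refine ⟨(inv (b ∣_ W)) w, ?_⟩
    have := Scheme.Hom.comp_apply (inv (b ∣_ W)) (b ∣_ W) w
    rw [IsIso.inv_hom_id] at this
    exact this.symm
  have h2 : W.ι ((b ∣_ W) y) = b ((b ⁻¹ᵁ W).ι y) := by
    rw [← Scheme.Hom.comp_apply, ← Scheme.Hom.comp_apply, morphismRestrict_ι]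
  rw [h1] at h2
  exact ⟨(b ⁻¹ᵁ W).ι y, h2.symm⟩

/-- **Composition of blow-ups in finite type ideals on a qcqs scheme is a blow-up.** -/
theorem isBlowUp_comp_finiteType (X : Scheme.{u}) [CompactSpace X] [QuasiSeparatedSpace X]
    {X' X'' : Scheme.{u}} (𝓘 : X.IdealSheafData) (h𝓘 : BlowUp.IsFiniteTypeIdeal 𝓘) (b : X' ⟶ X)
    (hb : BlowUp.IsBlowUp b 𝓘) (𝓙 : X'.IdealSheafData) (h𝓙 : BlowUp.IsFiniteTypeIdeal 𝓙)
    (b' : X'' ⟶ X') (hb' : BlowUp.IsBlowUp b' 𝓙) :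
    ∃ 𝓚 : X.IdealSheafData, BlowUp.IsFiniteTypeIdeal 𝓚 ∧
      (𝓚.support : Set X) = (𝓘.support : Set X) ∪ (fun x' => b x') '' (𝓙.support : Set X') ∧
      BlowUp.IsBlowUp (b' ≫ b) 𝓚 := by
  have : IsProper b := Groth.Agent.Lib.Seat92.BlowUpProper.isProper_of_isBlowUp 𝓘 h𝓘 b hb
  have : CompactSpace X' := QuasiCompact.compactSpace_of_compactSpace b
  obtain ⟨n₀, hn₀⟩ := exists_map_comap_eq 𝓘 b hb 𝓙 h𝓙
  have h1 := hn₀ n₀ le_rfl
  obtain ⟨𝓚', -, h𝓚'ft, h𝓚'⟩ := exists_ft_comap_eq b ((𝓙 * (𝓘.comap b) ^ n₀).map b) (by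
    rw [h1]
    intro U V hVU
    show (𝓙.ideal V * ((𝓘.comap b).ideal V) ^ n₀).FG
    refine (h𝓙 V).mul (Submodule.FG.pow ?_ n₀)
    rw [EffCartier.ideal_comap_eq_map b 𝓘 V.2 U.2 hVU]
    exact (h𝓘 U).map _)
  rw [h1] at h𝓚'
  refine ⟨𝓘 * 𝓚', fun U => (h𝓘 U).mul (h𝓚'ft U), ?_, ?_⟩
  · have hsupp : ∀ x' : X', b x' ∈ 𝓚'.support ↔ x' ∈ (𝓙 * (𝓘.comap b) ^ n₀).support := by
      intro x'
      rw [← h𝓚', support_comap]
      rfl
    have hE : ∀ x' : X', x' ∈ ((𝓘.comap b) ^ n₀).support → b x' ∈ 𝓘.support := by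
      intro x' hx'
      by_cases hn : n₀ = 0
      · rw [hn, pow_zero] at hx'
        exact absurd hx' (by
          show x' ∉ ((⊤ : X'.IdealSheafData).support)
          rw [support_top]
          exact fun h => h)
      · rw [support_pow _ n₀ hn, support_comap] at hx'
        exact hx'
    ext x
    constructor
    · rintro (hx | hx)
      · exact Or.inl hx
      · by_cases hxI : x ∈ 𝓘.support
        · exact Or.inl hxI
        · obtain ⟨x', rfl⟩ := exists_preimage_of_notMem_support 𝓘 b hb x hxI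
          rcases (hsupp x').1 hx with h | h
          · exact Or.inr ⟨x', h, rfl⟩
          · exact absurd (hE x' h) hxI
    · rintro (hx | ⟨x', hx', rfl⟩)
      · exact Or.inl hx
      · exact Or.inr ((hsupp x').2 (Or.inl hx'))
  · apply Groth.Agent.S1683.result 𝓘 𝓚' b hb b'
    rw [h𝓚']
    exact isBlowUp_mul_effCartier b' 𝓙 _ hb' (isEffCartierIdeal_pow hb.1 n₀)

end Final

end Groth.Agent.Lib.Seat82.BlowUpCompose
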