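import Mathlib
import Groth.Prelude.Def_BlowUp2
import Groth.Agent.Lib.Seat82BlowUpLocal

/-!
# Blow-ups are local on the base, for an arbitrary open cover (helper82)

Namespace `Groth.Agent.Lib.Seat82.BlowUpLocalCover`.
* `isBlowUp_of_openCover`: a morphism `b : X' ⟶ X` which over every member `V i` of an open cover of `X` is a
  blow-up of the restricted ideal is a blow-up (pullback squares given abstractly).
* `isBlowUp_of_morphismRestrict`: the same with `b ∣_ V i`.
-/

set_option autoImplicit false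
universe u
open CategoryTheory CategoryTheory.Limits AlgebraicGeometry TopologicalSpace nonZeroDivisors

namespace Groth.Agent.Lib.Seat82.BlowUpLocalCover

open Scheme.IdealSheafData Groth.Agent.Lib.Helper20 Groth.Agent.Lib.Seat82.BlowUpSup
  Groth.Agent.Lib.Seat82.BlowUpRestrict Groth.Agent.Lib.Seat82.BlowUpLocal

section Local

variable {X X' : Scheme.{u}} {𝓘 : X.IdealSheafData} {b : X' ⟶ X} {ι : Type*} {V : ι → X.Opens}
  (hV : ⨆ i, V i = ⊤)
  {B : ι → Scheme.{u}} {bU : ∀ i, B i ⟶ (V i).toScheme}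
  {ι' : ∀ i, B i ⟶ X'}
  (hP : ∀ i, IsPullback (bU i) (ι' i) (V i).ι b)
  (hB : ∀ i, BlowUp.IsBlowUp (bU i) (𝓘.comap (V i).ι))

include hV in
theorem isOpenCover_preimage {T : Scheme.{u}} (g : T ⟶ X) :
    IsOpenCover (fun i => g ⁻¹ᵁ V i) := by
  show iSup _ = ⊤
  rw [eq_top_iff]
  intro t _
  have ht : g t ∈ (⊤ : X.Opens) := trivial
  rw [← hV] at ht
  obtain ⟨i, hi⟩ := Opens.mem_iSup.1 ht
  exact Opens.mem_iSup.2 ⟨i, hi⟩

include hV hP hB in
theorem hom_ext_of_openCover {T : Scheme.{u}} (k₁ k₂ : T ⟶ X') (h : k₁ ≫ b = k₂ ≫ b)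
    (hT : BlowUp.IsEffCartierIdeal (𝓘.comap (k₁ ≫ b))) : k₁ = k₂ := by
  set g := k₁ ≫ b with hg
  apply (T.openCoverOfIsOpenCover _ (isOpenCover_preimage hV g)).hom_ext
  intro i
  show (g ⁻¹ᵁ V i).ι ≫ k₁ = (g ⁻¹ᵁ V i).ι ≫ k₂
  have w₁ : (g ∣_ V i) ≫ (V i).ι = ((g ⁻¹ᵁ V i).ι ≫ k₁) ≫ b := by
    rw [morphismRestrict_ι, Category.assoc]
  have w₂ : (g ∣_ V i) ≫ (V i).ι = ((g ⁻¹ᵁ V i).ι ≫ k₂) ≫ b := by
    rw [morphismRestrict_ι, Category.assoc, ← h]
  have hm : (hP i).lift (g ∣_ V i) _ w₁ = (hP i).lift (g ∣_ V i) _ w₂ := by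
    apply hom_ext_of_isBlowUp (hB i)
    · rw [(hP i).lift_fst, (hP i).lift_fst]
    · rw [(hP i).lift_fst]
      exact isEffCartierIdeal_comap_morphismRestrict g hT (V i)
  have := congrArg (· ≫ ι' i) hm
  simpa only [(hP i).lift_snd] using this

include hV hP hB in
/-- a morphism which over every member of an open cover of the base is a blow-up of the restricted ideal is a
blow-up. -/
theorem isBlowUp_of_openCover : BlowUp.IsBlowUp b 𝓘 := by
  have hopen : ∀ i, IsOpenImmersion (ι' i) := fun i =>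
    MorphismProperty.of_isPullback (hP i) (inferInstance : IsOpenImmersion (V i).ι)
  constructor
  · intro x'
    have hx : b x' ∈ (⊤ : X.Opens) := trivial
    rw [← hV] at hx
    obtain ⟨i, hi⟩ := Opens.mem_iSup.1 hx
    obtain ⟨z, -, hz⟩ := Scheme.exists_preimage_of_isPullback (hP i) ⟨b x', hi⟩ x' rfl
    have hz' : ι' i z = x' := hz
    rw [← hz']
    apply cartierAt_of_comap_openImmersion (ι' i) (𝓘.comap b) z
    rw [← comap_comp, ← (hP i).w, comap_comp]
    exact (hB i).1 z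
  · intro T g hg
    set 𝒰 := T.openCoverOfIsOpenCover _ (isOpenCover_preimage hV g) with h𝒰
    have hex : ∀ i, ∃ hU : (g ⁻¹ᵁ V i).toScheme ⟶ B i, hU ≫ bU i = g ∣_ V i :=
      fun i => ((hB i).2 _ (g ∣_ V i) (isEffCartierIdeal_comap_morphismRestrict g hg (V i))).exists
    choose hloc hloc_spec using hex
    let H : ∀ i : 𝒰.I₀, 𝒰.X i ⟶ X' := fun i => hloc i ≫ ι' i
    have hHb : ∀ i : ι, H i ≫ b = (g ⁻¹ᵁ V i).ι ≫ g := by
      intro i
      show (hloc i ≫ ι' i) ≫ b = _
      rw [Category.assoc, ← (hP i).w, ← Category.assoc, hloc_spec, morphismRestrict_ι]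
    have hcompat : ∀ i j : 𝒰.I₀, pullback.fst (𝒰.f i) (𝒰.f j) ≫ H i =
        pullback.snd (𝒰.f i) (𝒰.f j) ≫ H j := by
      intro i j
      have hfst : (pullback.fst (𝒰.f i) (𝒰.f j) ≫ H i) ≫ b =
          (pullback.fst (𝒰.f i) (𝒰.f j) ≫ 𝒰.f i) ≫ g := by
        rw [Category.assoc, hHb i, Category.assoc]
        rfl
      apply hom_ext_of_openCover hV hP hB
      · rw [hfst, pullback.condition, Category.assoc, Category.assoc, hHb j]
        rfl
      · rw [hfst, comap_comp]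
        exact isEffCartierIdeal_comap_of_isOpenImmersion _ _ hg
    have hglue : 𝒰.glueMorphisms H hcompat ≫ b = g := by
      apply 𝒰.hom_ext
      intro i
      rw [← Category.assoc, 𝒰.ι_glueMorphisms, hHb i]
      rfl
    refine ⟨𝒰.glueMorphisms H hcompat, hglue, ?_⟩
    intro h' hh'
    have hh'' : h' ≫ b = g := hh'
    apply hom_ext_of_openCover hV hP hB
    · rw [hh'', hglue]
    · rw [hh'']
      exact hg

end Local

/-- a morphism whose restrictions over the members of an open cover of the base are blow-ups of the restricted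
ideal is a blow-up. -/
theorem isBlowUp_of_morphismRestrict {X X' : Scheme.{u}} (𝓘 : X.IdealSheafData) (b : X' ⟶ X)
    {ι : Type*} (V : ι → X.Opens) (hV : ⨆ i, V i = ⊤)
    (h : ∀ i, BlowUp.IsBlowUp (b ∣_ V i) (𝓘.comap (V i).ι)) : BlowUp.IsBlowUp b 𝓘 :=
  isBlowUp_of_openCover hV (fun i => isPullback_morphismRestrict b (V i)) h

end Groth.Agent.Lib.Seat82.BlowUpLocalCover
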