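import Mathlib
import Groth.Agent.Lib.Seat82RegBlowUpAlg

/-!
# Presentation of the charts of the blow-up of a regular sequence (helper82)

Namespace `Groth.Agent.Lib.Seat82.BlowUpPerf`.  For a weakly regular sequence `a : Fin n → A`, `I = (a)`:
* `F a i₀ j = a i₀ * X j - a j` (`j ≠ i₀`), the equations of the chart `A[I/a i₀]`;
* `ker_aeval_t`: the kernel of `A[X j : j ≠ i₀] → A[I/a i₀]`, `X j ↦ a j / a i₀`, is generated by the `F a i₀ j`.
-/

set_option autoImplicit false
universe u
open MvPolynomial nonZeroDivisors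

namespace Groth.Agent.Lib.Seat82.BlowUpPerf

open Groth.Agent.Lib.Seat82.BlowUpAlg Groth.Agent.Lib.Seat82.RegBlowUpAlg Groth.Agent.S0608.Aux.LT

variable {A : Type u} [CommRing A] {n : ℕ} (a : Fin n → A) (i₀ : Fin n)

/-- the equations `a i₀ * X j - a j` of the chart `A[I/a i₀]`. -/
noncomputable def F (j : {j : Fin n // j ≠ i₀}) : MvPolynomial {j : Fin n // j ≠ i₀} A :=
  C (a i₀) * X j - C (a j.1)

theorem aeval_F (j : {j : Fin n // j ≠ i₀}) : aeval (R := A) (t a i₀) (F a i₀ j) = 0 := by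
  unfold F
  rw [map_sub, map_mul, aeval_C, aeval_C, aeval_X]
  exact sub_eq_zero.mpr (tt_mul a i₀ j.1)

theorem dehom_mem_span {p : MvPolynomial (Fin n) A} (hp : p ∈ aa a) :
    dehom i₀ p ∈ Ideal.span (Set.range (F a i₀)) := by
  have hle : Ideal.map (dehom (A := A) i₀).toRingHom (aa a) ≤ Ideal.span (Set.range (F a i₀)) := by
    unfold aa
    rw [Ideal.map_span, Ideal.span_le]
    rintro _ ⟨_, ⟨i, j, rfl⟩, rfl⟩
    -- the dehomogenised variables
    let Tt : Fin n → MvPolynomial {j : Fin n // j ≠ i₀} A :=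
      fun j => if h : j = i₀ then 1 else X ⟨j, h⟩
    have hX : ∀ j, dehom (A := A) i₀ (X j) = Tt j := fun j => by simp [dehom, Tt]
    have hG : ∀ j, C (a i₀) * Tt j - C (a j) ∈ Ideal.span (Set.range (F a i₀)) := by
      intro j
      by_cases h : j = i₀
      · subst h
        simp [Tt]
      · have : C (a i₀) * Tt j - C (a j) = F a i₀ ⟨j, h⟩ := by simp [Tt, h, F]
        rw [this]
        exact Ideal.subset_span ⟨_, rfl⟩
    have hEq : (dehom (A := A) i₀).toRingHom (C (a i) * X j - C (a j) * X i) =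
        (C (a i₀) * Tt j - C (a j)) * Tt i - (C (a i₀) * Tt i - C (a i)) * Tt j := by
      have h1 : ∀ c : A, dehom (A := A) i₀ (C c) = C c := fun c => by simp [dehom]
      show dehom (A := A) i₀ (C (a i) * X j - C (a j) * X i) = _
      rw [map_sub, map_mul, map_mul, h1, h1, hX, hX]
      ring
    rw [SetLike.mem_coe, hEq]
    exact Ideal.sub_mem _ (Ideal.mul_mem_right _ _ (hG j)) (Ideal.mul_mem_right _ _ (hG i))
  exact hle (Ideal.mem_map_of_mem _ hp)

/-- **Presentation of the chart.** For a weakly regular sequence `a`, the kernel of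
`A[X j : j ≠ i₀] → A[I/a i₀]`, `X j ↦ a j / a i₀`, is generated by the `a i₀ * X j - a j`. -/
theorem ker_aeval_t (ha : RingTheory.Sequence.IsWeaklyRegular A (List.ofFn a)) :
    RingHom.ker (aeval (R := A) (t a i₀)).toRingHom = Ideal.span (Set.range (F a i₀)) := by
  apply le_antisymm
  · intro r hr
    have hr : aeval (R := A) (t a i₀) r = 0 := hr
    have h0 : algebraMap A (BlowUp.affineAlgebra A (Ideal.span (Set.range a)) (a i₀))
        (eval a (hom i₀ r)) = 0 := by
      rw [algebraMap_eval_hom, hr, mul_zero]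
    have h1 : algebraMap A (Localization.Away (a i₀)) (eval a (hom i₀ r)) = 0 :=
      congrArg Subtype.val h0
    obtain ⟨⟨_, N, rfl⟩, hN⟩ :=
      (IsLocalization.map_eq_zero_iff (Submonoid.powers (a i₀)) (Localization.Away (a i₀)) _).mp h1
    have hN' : a i₀ ^ N * eval a (hom i₀ r) = 0 := hN
    have hP : (X i₀ ^ N * hom i₀ r : MvPolynomial (Fin n) A).IsHomogeneous (N + r.totalDegree) :=
      (isHomogeneous_X_pow (R := A) i₀ N).mul (hom_isHomogeneous i₀ r)
    have hev : eval a (X i₀ ^ N * hom i₀ r) = 0 := by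
      rw [map_mul, map_pow, eval_X, hN']
    have := dehom_mem_span a i₀ (claim n A a ha _ _ hP hev)
    rwa [map_mul, map_pow, dehom_X_self, one_pow, one_mul, dehom_hom] at this
  · rw [Ideal.span_le]
    rintro _ ⟨j, rfl⟩
    exact aeval_F a i₀ j

end Groth.Agent.Lib.Seat82.BlowUpPerf
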