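import Mathlib
import Groth.Agent.Lib.Seat31KR
import Groth.Agent.Lib.Seat40RegSeqFlat
import Groth.Agent.Lib.Seat18RegSec
import Groth.Agent.Lib.Seat7KRDescentA
import Groth.Agent.Lib.Seat56RelGCI6
import Groth.Agent.Lib.Helper5KoszulGor

/-!
# Koszul-regular sequences: dropping the head after localisation; linear sequences (helper82)

Namespace `Groth.Agent.Lib.Seat82.BlowUpPerf`.
* `smul_injective_KH`: if `x :: l` has no Koszul homology in degree `i - 1`, `x` is injective on `H^i(l)`.
* `exists_pow_smul_eq_zero`: Koszul homology of `l` is `x`-power torsion if `l` is Koszul-regular in `P[1/x]`.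
* `kr_of_cons_of_away`: `x :: l` Koszul-regular in `P` and `l` Koszul-regular in `P[1/x]` imply `l` Koszul-regular in `P`.
* `kr_linear`: `u X_j - c_j` (`u` a unit, distinct variables) is Koszul-regular in `R[X]`.
-/

set_option autoImplicit false
set_option linter.style.haveILetI false
universe u
open MvPolynomial nonZeroDivisors

namespace Groth.Agent.Lib.Seat82.BlowUpPerf

open CategoryTheory CochainComplex MonoidalCategory CohIII
open Groth.Agent.Lib.Helper21 Groth.Agent.Helper13Kz Groth.Agent.Helper13KzLift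
open Groth.Agent.Lib.Seat7.KRDescentA Groth.Agent.Lib.Seat31.KR
open scoped TensorProduct

section General

variable {P : Type u} [CommRing P]

/-- if `x :: l` has no Koszul homology in degree `i - 1`, then `x` is injective on `H^i(l)`. -/
theorem smul_injective_KH (x : P) (l : List P) (i : ℤ)
    (h : Subsingleton (KH (x :: l) P (i - 1))) (z : KH l P i) (hz : x • z = 0) : z = 0 := by
  obtain ⟨g, δ, -, -, h3⟩ := Groth.Agent.Lib.Helper5.KoszulGor.cone_les'
    (koszulCx (ModuleCat.of P P) l) x (i - 1) i (by ring)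
  have h' : Subsingleton ((mappingCone (x • 𝟙 (koszulCx (ModuleCat.of P P) l))).homology (i - 1)) := h
  obtain ⟨c, rfl⟩ := (h3 z).1 (by rw [LinearMap.smul_apply, LinearMap.id_apply]; exact hz)
  rw [Subsingleton.elim c 0, map_zero]

/-- Koszul homology of `l` with coefficients in `P` is `x`-power torsion if `l` becomes
Koszul-regular in a localisation `Q` of `P` at the powers of `x`. -/
theorem exists_pow_smul_eq_zero (x : P) (Q : Type u) [CommRing Q] [Algebra P Q]
    [IsLocalization.Away x Q] (l : List P)
    (hl : LCI.IsKoszulRegularSeq Q (l.map (algebraMap P Q))) (i : ℤ) (hi : i ≠ 0)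
    (z : KH l P i) : ∃ N : ℕ, x ^ N • z = 0 := by
  haveI : Module.Flat P Q := IsLocalization.flat Q (Submonoid.powers x)
  have h1 : Subsingleton (KH l Q i) := subsingleton_KH_algebra l hl i hi
  have h2 : Subsingleton (KH l (P ⊗[P] Q) i) :=
    subsingleton_KH_of_equiv l (TensorProduct.lid P _).symm i h1
  have h3 : Limits.IsZero ((koszulCx (ModuleCat.of P P ⊗ ModuleCat.of P Q) l).homology i) :=
    @ModuleCat.isZero_of_subsingleton _ _ _ h2
  rw [isZero_homology_tensor_iff, ShortComplex.exact_iff_isZero_homology] at h3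
  have h4 : Limits.IsZero ((tensorRight (ModuleCat.of P Q)).obj
      ((koszulCx (ModuleCat.of P P) l).homology i)) :=
    Limits.IsZero.of_iso h3
      (((koszulCx (ModuleCat.of P P) l).sc i).mapHomologyIso (tensorRight (ModuleCat.of P Q))).symm
  have h5 : Subsingleton ((KH l P i) ⊗[P] Q) := ModuleCat.subsingleton_of_isZero h4
  have h6 : Subsingleton (Q ⊗[P] (KH l P i)) := (TensorProduct.comm P Q _).toEquiv.subsingleton
  have h7 : TensorProduct.mk P Q (KH l P i) 1 z = 0 := Subsingleton.elim _ _
  obtain ⟨⟨_, N, rfl⟩, hc⟩ := (IsLocalizedModule.eq_zero_iff (Submonoid.powers x)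
    (TensorProduct.mk P Q (KH l P i) 1)).mp h7
  exact ⟨N, hc⟩

/-- **Dropping the head of a Koszul-regular sequence after localisation.** -/
theorem kr_of_cons_of_away (x : P) (Q : Type u) [CommRing Q] [Algebra P Q]
    [IsLocalization.Away x Q] (l : List P)
    (hxl : LCI.IsKoszulRegularSeq P (x :: l))
    (hl : LCI.IsKoszulRegularSeq Q (l.map (algebraMap P Q))) :
    LCI.IsKoszulRegularSeq P l := by
  rw [isKoszulRegularSeq_iff] at hxl ⊢
  intro i hi
  rcases lt_or_gt_of_ne hi with hneg | hpos
  · refine ⟨fun z w => ?_⟩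
    have key : ∀ z : KH l P i, z = 0 := by
      intro z
      obtain ⟨N, hN⟩ := exists_pow_smul_eq_zero x Q l hl i hi z
      induction N with
      | zero => simpa using hN
      | succ N ih =>
        apply ih
        apply smul_injective_KH x l i (hxl (i - 1) (by omega))
        rw [smul_smul, ← pow_succ']
        exact hN
    rw [key z, key w]
  · exact subsingleton_KH_of_pos P l i hpos

end General




section Linear

variable {R : Type u} [CommRing R] {σ : Type} {m : ℕ}

/-- linear polynomials `u X_j - c_j` with unit `u` in distinct variables form a Koszul-regular sequence. -/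
theorem kr_linear (v : Fin m → σ) (hv : Function.Injective v) (u : R) (hu : IsUnit u) (c : σ → R) :
    LCI.IsKoszulRegularSeq (MvPolynomial σ R)
      (List.ofFn fun k : Fin m => (C u * X (v k) - C (c (v k)) : MvPolynomial σ R)) := by
  obtain ⟨w, rfl⟩ := hu
  let ψ : MvPolynomial σ R →ₐ[R] MvPolynomial σ R := aeval (fun j => C (w : R) * X j - C (c j))
  let ψ' : MvPolynomial σ R →ₐ[R] MvPolynomial σ R :=
    aeval (fun j => C ((w⁻¹ : Rˣ) : R) * (X j + C (c j)))
  have hCC : (C ((w⁻¹ : Rˣ) : R) * C (w : R) : MvPolynomial σ R) = 1 := by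
    rw [← C_mul, Units.inv_mul, C_1]
  have hCC' : (C (w : R) * C ((w⁻¹ : Rˣ) : R) : MvPolynomial σ R) = 1 := by
    rw [← C_mul, Units.mul_inv, C_1]
  have h1 : ψ.comp ψ' = AlgHom.id R _ := by
    apply MvPolynomial.algHom_ext
    intro j
    simp only [AlgHom.comp_apply, ψ, ψ', aeval_X, map_mul, map_add, aeval_C, AlgHom.id_apply,
      MvPolynomial.algebraMap_eq]
    calc C ((w⁻¹ : Rˣ) : R) * (C (w : R) * X j - C (c j) + C (c j))
        = (C ((w⁻¹ : Rˣ) : R) * C (w : R)) * X j := by ring
      _ = X j := by rw [hCC, one_mul]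
  have h2 : ψ'.comp ψ = AlgHom.id R _ := by
    apply MvPolynomial.algHom_ext
    intro j
    simp only [AlgHom.comp_apply, ψ, ψ', aeval_X, map_mul, map_sub, aeval_C, AlgHom.id_apply,
      MvPolynomial.algebraMap_eq]
    calc C (w : R) * (C ((w⁻¹ : Rˣ) : R) * (X j + C (c j))) - C (c j)
        = (C (w : R) * C ((w⁻¹ : Rˣ) : R)) * (X j + C (c j)) - C (c j) := by ring
      _ = X j := by rw [hCC', one_mul]; ring
  have hbij : Function.Bijective ψ.toRingHom := by
    refine ⟨fun x y hxy => ?_, fun y => ⟨ψ' y, ?_⟩⟩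
    · have := congrArg ψ' hxy
      have e : ∀ z, ψ' (ψ z) = z := fun z => by
        have := congrArg (fun f => f z) h2
        simpa using this
      change ψ' (ψ x) = ψ' (ψ y) at this
      rwa [e, e] at this
    · have := congrArg (fun f => f y) h1
      simpa using this
  have hflat : ψ.toRingHom.Flat := RingHom.Flat.of_bijective hbij
  have hX : LCI.IsKoszulRegularSeq (MvPolynomial σ R)
      (List.ofFn fun k : Fin m => (X (v k) : MvPolynomial σ R)) :=
    Groth.Agent.Lib.Seat56.RelGCI.kr_of_isWeaklyRegular _ _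
      (Groth.Agent.Lib.Seat18.RegSec.isWeaklyRegular_X R v hv)
  have := Groth.Agent.Lib.Seat40.RegSeqFlat.koszul_of_flat ψ.toRingHom hflat _ hX
  rw [List.map_ofFn] at this
  convert this using 2
  funext k
  simp [ψ]

end Linear

end Groth.Agent.Lib.Seat82.BlowUpPerf
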