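import Mathlib
import Groth.Agent.Lib.Seat82BlowUpPerfA
import Groth.Agent.Lib.Seat82BlowUpPerfB
import Groth.Agent.Lib.Seat31LciPerf
import Groth.Agent.Lib.Seat7PerfSmoothCancel

/-!
# The charts of the blow-up of a regular sequence are perfect ring maps (helper82)

Namespace `Groth.Agent.Lib.Seat82.BlowUpPerf`.
* `kr_L`: for a weakly regular sequence `a`, the chart equations `a i₀ * X j - a j` (`j ≠ i₀`) form a Koszul-regular
  sequence in `A[X j : j ≠ i₀]` (add `a i₀`: same ideal and length as the `a j`; drop it again using the localisation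
  at `a i₀`, where the equations are linear with unit leading coefficient).
* `perfH_chart`, `perfH_chart'`: `A → A[I/a i₀]` is a perfect ring map.
-/

set_option autoImplicit false
set_option linter.style.haveILetI false
universe u
open MvPolynomial nonZeroDivisors

namespace Groth.Agent.Lib.Seat82.BlowUpPerf

open Groth.Agent.Lib.Seat82.BlowUpAlg Groth.Agent.Lib.Seat82.RegBlowUpAlg
open Groth.Agent.Lib.Seat0.PerfHom Groth.Agent.Lib.Seat0.PCHom

section Chart

variable {A : Type u} [CommRing A] {m : ℕ} (a : Fin (m + 1) → A) (i₀ : Fin (m + 1))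

/-- the list of the chart equations. -/
noncomputable def L : List (MvPolynomial {j : Fin (m + 1) // j ≠ i₀} A) :=
  List.ofFn fun k : Fin m => F a i₀ (finSuccAboveEquiv i₀ k)

theorem ofList_L : Ideal.ofList (L a i₀) = Ideal.span (Set.range (F a i₀)) := by
  unfold Ideal.ofList L
  congr 1
  ext x
  simp only [Set.mem_ofPred_eq, List.mem_ofFn, Set.mem_range]
  constructor
  · rintro ⟨k, rfl⟩
    exact ⟨_, rfl⟩
  · rintro ⟨j, rfl⟩
    exact ⟨(finSuccAboveEquiv i₀).symm j, by simp⟩

attribute [local instance] MvPolynomial.algebraMvPolynomial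

theorem kr_L (ha : RingTheory.Sequence.IsWeaklyRegular A (List.ofFn a)) :
    LCI.IsKoszulRegularSeq (MvPolynomial {j : Fin (m + 1) // j ≠ i₀} A) (L a i₀) := by
  -- (1) the images of the `a j` are Koszul-regular in the polynomial ring
  have hCflat : (C : A →+* MvPolynomial {j : Fin (m + 1) // j ≠ i₀} A).Flat := by
    rw [← MvPolynomial.algebraMap_eq, RingHom.flat_algebraMap_iff]
    infer_instance
  have hk : LCI.IsKoszulRegularSeq (MvPolynomial {j : Fin (m + 1) // j ≠ i₀} A)
      ((List.ofFn a).map C) :=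
    Groth.Agent.Lib.Seat40.RegSeqFlat.koszul_of_flat _ hCflat _
      (Groth.Agent.Lib.Seat56.RelGCI.kr_of_isWeaklyRegular _ _ ha)
  -- (2) `C (a i₀) :: L` generates the same ideal with the same number of elements
  have hFmem : ∀ j, F a i₀ j ∈ Ideal.span {x | x ∈ (List.ofFn a).map
      (C : A →+* MvPolynomial {j : Fin (m + 1) // j ≠ i₀} A)} := by
    intro j
    have hC : ∀ i, (C (a i) : MvPolynomial {j : Fin (m + 1) // j ≠ i₀} A) ∈
        Ideal.span {x | x ∈ (List.ofFn a).map
          (C : A →+* MvPolynomial {j : Fin (m + 1) // j ≠ i₀} A)} := fun i =>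
      Ideal.subset_span (List.mem_map.mpr ⟨a i, (List.mem_ofFn' a (a i)).mpr ⟨i, rfl⟩, rfl⟩)
    exact Ideal.sub_mem _ (Ideal.mul_mem_right _ _ (hC i₀)) (hC j.1)
  have hxl : LCI.IsKoszulRegularSeq (MvPolynomial {j : Fin (m + 1) // j ≠ i₀} A)
      (C (a i₀) :: L a i₀) := by
    refine Groth.Agent.Lib.Seat31.KR.kr_of_span_eq _ _ hk ?_ ?_ ?_
    · simp [L]
    · intro y hy
      rcases List.mem_cons.mp hy with rfl | hy
      · exact Ideal.subset_span (List.mem_map.mpr ⟨a i₀, (List.mem_ofFn' a _).mpr ⟨i₀, rfl⟩, rfl⟩)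
      · obtain ⟨k, rfl⟩ := (List.mem_ofFn' _ _).mp hy
        exact hFmem _
    · intro x hx
      obtain ⟨_, hx', rfl⟩ := List.mem_map.mp hx
      obtain ⟨i, rfl⟩ := (List.mem_ofFn' a _).mp hx'
      by_cases h : i = i₀
      · subst h
        exact Ideal.subset_span List.mem_cons_self
      · have hF : F a i₀ ⟨i, h⟩ ∈ Ideal.span {y | y ∈ C (a i₀) :: L a i₀} := by
          refine Ideal.subset_span (List.mem_cons_of_mem _ ?_)
          refine (List.mem_ofFn' _ _).mpr ⟨(finSuccAboveEquiv i₀).symm ⟨i, h⟩, ?_⟩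
          simp
        have hs : (C (a i₀) : MvPolynomial {j : Fin (m + 1) // j ≠ i₀} A) ∈
            Ideal.span {y | y ∈ C (a i₀) :: L a i₀} := Ideal.subset_span List.mem_cons_self
        have : (C (a i) : MvPolynomial {j : Fin (m + 1) // j ≠ i₀} A) =
            C (a i₀) * X ⟨i, h⟩ - F a i₀ ⟨i, h⟩ := by
          unfold F; ring
        rw [this]
        exact Ideal.sub_mem _ (Ideal.mul_mem_right _ _ hs) hF
  -- (3) localisation at `a i₀`
  let As := Localization.Away (a i₀)
  haveI : IsLocalization.Away (C (a i₀) : MvPolynomial {j : Fin (m + 1) // j ≠ i₀} A)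
      (MvPolynomial {j : Fin (m + 1) // j ≠ i₀} As) := by
    have := MvPolynomial.isLocalization (σ := {j : Fin (m + 1) // j ≠ i₀})
      (Submonoid.powers (a i₀)) As
    rwa [Submonoid.map_powers] at this
  refine kr_of_cons_of_away (C (a i₀)) (MvPolynomial {j : Fin (m + 1) // j ≠ i₀} As) _ hxl ?_
  have hu : IsUnit (algebraMap A As (a i₀)) := IsLocalization.Away.algebraMap_isUnit (a i₀)
  have := kr_linear (R := As) (fun k : Fin m => (finSuccAboveEquiv i₀ k : {j : Fin (m + 1) // j ≠ i₀}))
    (finSuccAboveEquiv i₀).injective (algebraMap A As (a i₀)) hu (fun j => algebraMap A As (a j.1))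
  unfold L
  rw [List.map_ofFn]
  convert this using 2
  funext k
  unfold F
  rw [MvPolynomial.algebraMap_def, Function.comp_apply, map_sub, map_mul, MvPolynomial.map_C,
    MvPolynomial.map_C, MvPolynomial.map_X]

/-- the chart `A → A[I/a i₀]` of the blow-up of a weakly regular sequence is a perfect ring map
(`n = m + 1` form). -/
theorem perfH_chart_succ (ha : RingTheory.Sequence.IsWeaklyRegular A (List.ofFn a)) :
    PerfH (algebraMap A (BlowUp.affineAlgebra A (Ideal.span (Set.range a)) (a i₀))) := by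
  have hcomp : algebraMap A (BlowUp.affineAlgebra A (Ideal.span (Set.range a)) (a i₀)) =
      (aeval (R := A) (t a i₀)).toRingHom.comp
        (C : A →+* MvPolynomial {j : Fin (m + 1) // j ≠ i₀} A) := by
    ext x
    simp
  rw [hcomp]
  refine perfH_comp ⟨Groth.Agent.Lib.Seat7.PerfSmoothCancel.pch_of_smooth ?_, ftd_of_flat ?_⟩ ?_
  · rw [← MvPolynomial.algebraMap_eq, RingHom.smooth_algebraMap]
    exact ⟨inferInstance, inferInstance⟩
  · rw [← MvPolynomial.algebraMap_eq, RingHom.flat_algebraMap_iff]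
    infer_instance
  · letI : Algebra (MvPolynomial {j : Fin (m + 1) // j ≠ i₀} A)
        (BlowUp.affineAlgebra A (Ideal.span (Set.range a)) (a i₀)) :=
      (aeval (R := A) (t a i₀)).toRingHom.toAlgebra
    exact Groth.Agent.Lib.Seat31.LciPerf.perfH_of_koszulRegular
      (Q := MvPolynomial {j : Fin (m + 1) // j ≠ i₀} A)
      (C := BlowUp.affineAlgebra A (Ideal.span (Set.range a)) (a i₀))
      (aeval_t_surjective a i₀) (L a i₀)
      (by rw [ofList_L]; exact ker_aeval_t a i₀ ha) (kr_L a i₀ ha)

end Chart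

/-- **The charts of the blow-up of a regular sequence are perfect.** For a weakly regular sequence
`a : Fin n → A` with `I = (a)`, the ring map `A → A[I/a i₀]` is perfect: `A[I/a i₀]` is the quotient of
`A[X j : j ≠ i₀]` by the Koszul-regular sequence `a i₀ * X j - a j`. -/
theorem perfH_chart {A : Type u} [CommRing A] {n : ℕ} (a : Fin n → A) (i₀ : Fin n)
    (ha : RingTheory.Sequence.IsWeaklyRegular A (List.ofFn a)) :
    PerfH (algebraMap A (BlowUp.affineAlgebra A (Ideal.span (Set.range a)) (a i₀))) := by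
  obtain ⟨m, rfl⟩ : ∃ m, n = m + 1 := ⟨n - 1, by have := i₀.pos; omega⟩
  exact perfH_chart_succ a i₀ ha

/-- variant with the ideal up to propositional equality and the chart ring up to isomorphism. -/
theorem perfH_chart' {A : Type u} [CommRing A] {n : ℕ} (a : Fin n → A) (i₀ : Fin n)
    (ha : RingTheory.Sequence.IsWeaklyRegular A (List.ofFn a))
    (I : Ideal A) (hI : I = Ideal.span (Set.range a)) {B' : Type u} [CommRing B']
    (φ : A →+* B') (η : BlowUp.affineAlgebra A I (a i₀) →+* B')
    (hη : Function.Bijective η) (hηφ : η.comp (algebraMap A _) = φ) : PerfH φ := by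
  subst hI
  rw [← hηφ]
  exact perfH_comp (perfH_chart a i₀ ha)
    ⟨pch_of_bijective hη, ftd_of_bijective hη⟩

end Groth.Agent.Lib.Seat82.BlowUpPerf
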