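import Mathlib
import Groth.Prelude.Def_MoreMor
import Groth.Agent.Lib.Seat82RegBlowUp
import Groth.Agent.Lib.Seat0PerfMor
import Groth.Agent.Lib.Seat82BlowUpPerfC

/-!
# The blow-up of a regularly immersed closed subscheme is a perfect morphism (helper82)

Namespace `Groth.Agent.Lib.Seat82.BlowUpPerf`.
* `ker_ideal_eq_top`: the ideal of a closed immersion is the unit ideal on affine opens missing its range.
* `perfM_blowUp`: for a regular closed immersion `i : Y ⟶ X` and a blow-up `f : X' ⟶ X` of `i.ker`, `f` is perfect: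
  on the chart `a i₀` it is `A → A[I/a i₀]` (`BlowUpPerf.perfH_chart'`).
-/

set_option autoImplicit false
set_option linter.style.haveILetI false
universe u
open CategoryTheory AlgebraicGeometry Opposite TopologicalSpace nonZeroDivisors

namespace Groth.Agent.Lib.Seat82.BlowUpPerf

open Groth.Agent.Lib.Seat64.AffBlowUp Groth.Agent.Lib.Seat82.BlowUpAlg Groth.Agent.Lib.Seat82.BlowUpChart
  Groth.Agent.Lib.Seat82.BlowUpCover Groth.Agent.Lib.Seat82.BlowUpRestrict
  Groth.Agent.Lib.Seat82.BlowUpFlatGeom Groth.Agent.Lib.Helper20 Scheme.IdealSheafData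
  Groth.Agent.Lib.Seat82.RegBlowUp
open Groth.Agent.Lib.Seat0.PerfHom Groth.Agent.Lib.Seat0.PerfMor

/-- the ideal of a closed immersion is the unit ideal on affine opens missing its range. -/
theorem ker_ideal_eq_top {Y X : Scheme.{u}} (i : Y ⟶ X) [QuasiCompact i] {U : X.Opens} (hU : IsAffineOpen U)
    (h : ∀ y : Y, i y ∉ U) : i.ker.ideal ⟨U, hU⟩ = ⊤ := by
  rw [Scheme.Hom.ker_apply, Ideal.eq_top_iff_one, RingHom.mem_ker]
  have hbot : i ⁻¹ᵁ U = ⊥ := by
    ext y
    simp only [Opens.coe_bot, Set.mem_empty_iff_false, iff_false]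
    exact h y
  have : Subsingleton Γ(Y, i ⁻¹ᵁ U) := by
    rw [hbot]; infer_instance
  exact Subsingleton.elim _ _

/-- **The blow-up of a regularly immersed closed subscheme is a perfect morphism.** -/
theorem perfM_blowUp {Y X X' : Scheme.{u}} (i : Y ⟶ X) (hi : Mor2.IsRegularClosedImmersion i)
    (f : X' ⟶ X) (hf : BlowUp.IsBlowUp f i.ker) : PerfM f := by
  have hci : IsClosedImmersion i := hi.1
  rw [perfM_iff_exists]
  intro x'
  have key : ∃ (U : X.Opens) (hU : IsAffineOpen U), f x' ∈ U ∧ ∃ rs : List Γ(X, U),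
      RingTheory.Sequence.IsWeaklyRegular Γ(X, U) rs ∧ i.ker.ideal ⟨U, hU⟩ = Ideal.ofList rs := by
    by_cases h : f x' ∈ Set.range i
    · obtain ⟨y, hy⟩ := h
      obtain ⟨U, hU, hzU, rs, hreg, hker⟩ := hi.2 y
      exact ⟨U, hU, hy ▸ hzU, rs, hreg.toIsWeaklyRegular, hker⟩
    · have hopen : IsOpen (Set.range i)ᶜ := i.isClosedEmbedding.isClosed_range.isOpen_compl
      obtain ⟨U, hU, hxU, hUle⟩ := Opens.isBasis_iff_nbhd.mp X.isBasis_affineOpens
        (show f x' ∈ (⟨(Set.range i)ᶜ, hopen⟩ : X.Opens) from h)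
      refine ⟨U, hU, hxU, [1], ?_, ?_⟩
      · rw [RingTheory.Sequence.isWeaklyRegular_singleton_iff]
        intro p q hpq
        simpa using hpq
      · rw [ker_ideal_eq_top i hU (fun y hy => hUle hy ⟨y, rfl⟩)]
        simp [Ideal.ofList]
  obtain ⟨U, hU, hxU, rs, hreg, hker⟩ := key
  have hS : i.ker.ideal ⟨U, hU⟩ = Ideal.span (Set.range rs.get) := by
    rw [hker, Set.range_list_get]
  obtain ⟨_, ⟨i₀, rfl⟩, k, hk, hxk, hkb⟩ :=
    exists_chart_of_span i.ker f hf hU (Set.range rs.get) hS x' hxU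
  have hW : IsAffineOpen (k ''ᵁ ⊤) := (isAffineOpen_top _).image_of_isOpenImmersion k
  have hWU : k ''ᵁ ⊤ ≤ f ⁻¹ᵁ U := image_top_le hU _ k hkb
  have hxW : x' ∈ k ''ᵁ ⊤ := by
    obtain ⟨p, hp⟩ := hxk
    exact ⟨p, trivial, hp⟩
  refine ⟨⟨U, hU⟩, ⟨k ''ᵁ ⊤, hW⟩, hxW, hWU, ?_⟩
  have hreg' : RingTheory.Sequence.IsWeaklyRegular Γ(X, U) (List.ofFn rs.get) := by
    rw [List.ofFn_get]; exact hreg
  refine perfH_chart' rs.get i₀ hreg' (i.ker.ideal ⟨U, hU⟩) hS
    (f.appLE U (k ''ᵁ ⊤) hWU).hom (chartRingIso k).inv.hom ?_ ?_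
  · exact ConcreteCategory.bijective_of_isIso (chartRingIso k).inv
  · have h1 := appLE_chartRingIso hU _ k hkb
    have h2 := (Iso.eq_comp_inv (chartRingIso k)).mpr h1
    exact (congrArg CommRingCat.Hom.hom h2).symm

end Groth.Agent.Lib.Seat82.BlowUpPerf
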