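import Mathlib
import Groth.Prelude.Def_BlowUp2
import Groth.Agent.Lib.Helper20EffCartier
import Groth.Agent.Lib.Seat82BlowUpSeparate

/-!
# Separation of finitely many closures after blowing up a sum of ideals (seat 82)

Namespace `Groth.Agent.Lib.Seat82.BlowUpSeparate`.
* `exists_notMem_closure_of_sup`: for `b : Y ⟶ X` making `(⨆_{i ∈ t} F i)·O_Y` effective Cartier and sets `T i ⊆ supp (F i)`
  missing `supp (⨆ F i)`, no point of `Y` lies in all the closures of `b⁻¹ (T i)` (the strict transforms of the `V(F i)`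
  have empty intersection).
-/

set_option autoImplicit false
universe u
open CategoryTheory CategoryTheory.Limits AlgebraicGeometry Opposite TopologicalSpace nonZeroDivisors

namespace Groth.Agent.Lib.Seat82.BlowUpSeparate

open Scheme.IdealSheafData Groth.Agent.Lib.Helper20

variable {X Y : Scheme.{u}}

theorem exists_notMem_closure_of_sup (b : Y ⟶ X) {ι : Type*} (t : Finset ι)
    (F : ι → X.IdealSheafData) (hC : BlowUp.IsEffCartierIdeal ((t.sup F).comap b))
    (T : ι → Set X) (hT : ∀ i ∈ t, T i ⊆ ((F i).support : Set X))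
    (hTG : ∀ i ∈ t, Disjoint (T i) ((t.sup F).support : Set X)) (y : Y) :
    ∃ i ∈ t, y ∉ closure (b ⁻¹' T i) := by
  classical
  by_contra hcon
  push Not at hcon
  obtain ⟨UX, hUX, hxUX, -⟩ :=
    exists_isAffineOpen_mem_and_subset (x := b y) (U := (⊤ : X.Opens)) trivial
  obtain ⟨U', hU', hyU', hle, t₀, ht₀nz, ht₀⟩ :=
    EffCartier.exists_le_of_isEffCartierIdeal hC y (b ⁻¹ᵁ UX) hxUX
  set α := (b.appLE UX U' hle).hom with hα
  have hA : ((t.sup F).ideal ⟨UX, hUX⟩).map α = Ideal.span {t₀} := by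
    rw [← ht₀]
    exact (EffCartier.ideal_comap_eq_map b (t.sup F) hU' hUX hle).symm
  have hFi : ∀ i ∈ t, ((F i).ideal ⟨UX, hUX⟩).map α ≤ Ideal.span {t₀} * ptIdeal U' y hyU' := by
    intro i hi
    rw [Ideal.map_le_iff_le_comap]
    intro f hf
    obtain ⟨β, hβ, hβy⟩ := exists_factor_notMem b (F i) (t.sup F) (Finset.le_sup hi) (T i) (hT i hi)
      (hTG i hi) y (hcon i hi) ⟨UX, hUX⟩ ⟨U', hU'⟩ hle t₀ ht₀ f hf
    rw [Ideal.mem_comap]
    change (b.appLE UX U' hle).hom f ∈ _
    rw [hβ]
    exact Ideal.mul_mem_mul (Ideal.mem_span_singleton_self t₀) (mem_ptIdeal.2 hβy)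
  have hsup : ∀ s : Finset ι, s ⊆ t →
      ((s.sup F).ideal ⟨UX, hUX⟩).map α ≤ Ideal.span {t₀} * ptIdeal U' y hyU' := by
    intro s
    induction s using Finset.induction_on with
    | empty =>
      intro _
      rw [Finset.sup_empty, ideal_bot, Pi.bot_apply, Ideal.map_bot]
      exact bot_le
    | insert a s ha ih =>
      intro hs
      rw [Finset.sup_insert, ideal_sup, Pi.sup_apply, Ideal.map_sup]
      exact sup_le (hFi a (hs (Finset.mem_insert_self a s)))
        (ih fun i hi => hs (Finset.mem_insert_of_mem hi))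
  have h1 : t₀ ∈ Ideal.span {t₀} * ptIdeal U' y hyU' := by
    apply hsup t subset_rfl
    rw [hA]
    exact Ideal.mem_span_singleton_self t₀
  obtain ⟨e, he, hte⟩ := Ideal.mem_span_singleton_mul.1 h1
  have h2 : (1 - e) * t₀ = 0 := by linear_combination -hte
  have h3 : 1 - e = 0 := (mem_nonZeroDivisors_iff_right.1 ht₀nz) _ h2
  apply one_notMem_ptIdeal (hy := hyU')
  have : (1 : Γ(Y, U')) = e := by linear_combination h3
  rw [this]
  exact he

end Groth.Agent.Lib.Seat82.BlowUpSeparate
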