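import Mathlib
import Groth.Prelude.Def_BlowUp2
import Groth.Agent.Lib.Seat82RegGeneriz
import Groth.Agent.Lib.Seat82BlowUpRestrict
import Groth.Agent.S2889
import Groth.Agent.S2894

/-!
# The blow-up of a regular scheme along a regular centre is regular (helper82)

Namespace `Groth.Agent.Lib.Seat82.RegBlowUp2`.
* `isRegularLocalRing_stalk_of_effCartier`: a locally Noetherian scheme is regular at the points of an effective Cartier
  divisor where the divisor is regular.
* `ker_morphismRestrict`: `(i ∣_ V).ker = i.ker.comap V.ι`.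
* `isIso_stalkMap_of_notMem_support`: a blow-up is an isomorphism on stalks off the centre.
* `regular_blowUp`: blow-up of a regular locally Noetherian scheme along a regular closed subscheme is regular
  (S2889: the centre is regularly immersed; S2894: the exceptional divisor is smooth over the centre).
-/

set_option autoImplicit false
set_option linter.style.haveILetI false
universe u
open CategoryTheory AlgebraicGeometry Opposite TopologicalSpace nonZeroDivisors IsLocalRing

namespace Groth.Agent.Lib.Seat82.RegBlowUp2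

open Scheme.IdealSheafData Groth.Agent.Lib.Seat82.RegGeneriz Groth.Agent.Lib.Seat82.BlowUpRestrict
  Groth.Agent.Lib.Helper20.BlowUpBasic Groth.Agent.Lib.Seat92.BlowUpProper

/-- a locally Noetherian scheme is regular at the points of an effective Cartier divisor at which the divisor is regular. -/
theorem isRegularLocalRing_stalk_of_effCartier {X' : Scheme.{u}} [IsLocallyNoetherian X']
    (𝓔 : X'.IdealSheafData) (h𝓔 : BlowUp.IsEffCartierIdeal 𝓔) (e : 𝓔.subscheme)
    [IsRegularLocalRing (𝓔.subscheme.presheaf.stalk e)] :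
    IsRegularLocalRing (X'.presheaf.stalk (𝓔.subschemeι e)) := by
  obtain ⟨U, heU, f, hf, hUf⟩ := h𝓔 (𝓔.subschemeι e)
  have hker := Groth.Agent.Lib.Seat8.SubStalk.ker_stalkMap_subschemeι 𝓔 e U heU
  rw [hUf, Ideal.map_span, Set.image_singleton] at hker
  refine isRegularLocalRing_of_surjective_of_ker_eq_span (𝓔.subschemeι.stalkMap e).hom
    (𝓔.subschemeι.stalkMap_surjective e) _ ?_ hker
  letI := X'.presheaf.algebra_section_stalk ⟨𝓔.subschemeι e, heU⟩
  haveI := U.2.isLocalization_stalk ⟨𝓔.subschemeι e, heU⟩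
  exact IsLocalization.map_nonZeroDivisors_le
    (U.2.primeIdealOf ⟨𝓔.subschemeι e, heU⟩).asIdeal.primeCompl _ (Submonoid.mem_map_of_mem _ hf)

theorem ker_morphismRestrict {X Y : Scheme.{u}} (i : Y ⟶ X) [QuasiCompact i] (V : X.Opens) :
    (i ∣_ V).ker = i.ker.comap V.ι := by
  refine Scheme.IdealSheafData.ext ?_
  funext W
  rw [ideal_comap_of_isOpenImmersion]
  exact Scheme.ker_ideal_of_isPullback_of_isOpenImmersion i (i ∣_ V) (i ⁻¹ᵁ V).ι V.ι
    (isPullback_morphismRestrict i V) W

/-- a blow-up is an isomorphism on stalks off the centre. -/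
theorem isIso_stalkMap_of_notMem_support {X X' : Scheme.{u}} (𝓘 : X.IdealSheafData) (b : X' ⟶ X)
    (hb : BlowUp.IsBlowUp b 𝓘) (z : X') (hz : b z ∉ 𝓘.support) : IsIso (b.stalkMap z) := by
  haveI hiso := isIso_morphismRestrict 𝓘 b hb
  have hzW : z ∈ b ⁻¹ᵁ compl 𝓘 := hz
  obtain ⟨p, rfl⟩ : ∃ p : (b ⁻¹ᵁ compl 𝓘).toScheme, p.1 = z := ⟨⟨z, hzW⟩, rfl⟩
  have e := morphismRestrictStalkMap b (compl 𝓘) p
  have h1 : IsIso ((b ∣_ compl 𝓘).stalkMap p) := by
    haveI : IsIso (b ∣_ compl 𝓘) := hiso
    infer_instance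
  exact ((MorphismProperty.isomorphisms _).arrow_mk_iso_iff e).mp h1

/-- **The blow-up of a regular locally Noetherian scheme along a regular closed subscheme is regular.** -/
theorem regular_blowUp {X Y X' : Scheme.{u}} [IsLocallyNoetherian X]
    (hreg : ∀ x : X, IsRegularLocalRing (X.presheaf.stalk x)) (i : Y ⟶ X) [IsClosedImmersion i]
    (hregY : ∀ y : Y, IsRegularLocalRing (Y.presheaf.stalk y)) (π : X' ⟶ X)
    (hπ : BlowUp.IsBlowUp π i.ker) (z : X') : IsRegularLocalRing (X'.presheaf.stalk z) := by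
  have hfg : ∀ W : X.affineOpens, (i.ker.ideal W).FG := fun W => by
    haveI := IsLocallyNoetherian.component_noetherian W
    exact IsNoetherian.noetherian _
  haveI hprop : IsProper π := isProper_of_isBlowUp i.ker hfg π hπ
  haveI : IsLocallyNoetherian X' := LocallyOfFiniteType.isLocallyNoetherian π
  by_cases hz : π z ∈ i.ker.support
  · -- on the exceptional divisor
    have hz' : π z ∈ Set.range i := by
      have h1 := i.support_ker
      rw [i.isClosedEmbedding.isClosed_range.closure_eq] at h1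
      rw [← h1]; exact hz
    obtain ⟨y, hy⟩ := hz'
    haveI := hregY y
    obtain ⟨V, hyV, hregV⟩ := (Groth.Agent.S2889.result i y).mpr (hreg _)
    have hbV := isBlowUp_morphismRestrict i.ker π hπ V
    rw [← ker_morphismRestrict i V] at hbV
    have hle : (i ∣_ V).ker ≤ ((BlowUp.exceptional (π ∣_ V) (i ∣_ V).ker).subschemeι ≫ (π ∣_ V)).ker := by
      rw [Scheme.Hom.ker_comp, Scheme.IdealSheafData.ker_subschemeι, le_map_iff_comap_le]
    have hg := IsClosedImmersion.lift_fac (i ∣_ V) _ hle
    haveI : Smooth (IsClosedImmersion.lift (i ∣_ V) _ hle) :=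
      Groth.Agent.S2894.result (i ∣_ V) hregV (π ∣_ V) hbV _ hg
    haveI : IsLocallyNoetherian (π ⁻¹ᵁ V).toScheme :=
      LocallyOfFiniteType.isLocallyNoetherian (π ⁻¹ᵁ V).ι
    have hzV : z ∈ π ⁻¹ᵁ V := by
      show π z ∈ V
      rw [← hy]; exact hyV
    obtain ⟨p, rfl⟩ : ∃ p : (π ⁻¹ᵁ V).toScheme, p.1 = z := ⟨⟨z, hzV⟩, rfl⟩
    -- `p` lies on the exceptional divisor of the restricted blow-up
    have hpE : p ∈ (BlowUp.exceptional (π ∣_ V) (i ∣_ V).ker).support := by
      rw [Scheme.IdealSheafData.support_comap]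
      show (π ∣_ V) p ∈ (i ∣_ V).ker.support
      rw [ker_morphismRestrict, Scheme.IdealSheafData.support_comap]
      show V.ι ((π ∣_ V) p) ∈ i.ker.support
      rw [← Scheme.Hom.comp_apply, morphismRestrict_ι, Scheme.Hom.comp_apply]
      exact hz
    rw [← SetLike.mem_coe, ← Scheme.IdealSheafData.range_subschemeι] at hpE
    obtain ⟨e, rfl⟩ := hpE
    haveI hEreg : IsRegularLocalRing
        ((BlowUp.exceptional (π ∣_ V) (i ∣_ V).ker).subscheme.presheaf.stalk e) := by
      rw [Groth.Agent.Lib.Helper6.SmRegSch2.isRegularLocalRing_stalk_iff_of_smooth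
        (IsClosedImmersion.lift (i ∣_ V) _ hle) e]
      have hiso : IsIso ((i ⁻¹ᵁ V).ι.stalkMap
          ((IsClosedImmersion.lift (i ∣_ V) _ hle) e)) := inferInstance
      haveI := hregY ((i ⁻¹ᵁ V).ι ((IsClosedImmersion.lift (i ∣_ V) _ hle) e))
      exact IsRegularLocalRing.of_ringEquiv (asIso ((i ⁻¹ᵁ V).ι.stalkMap
        ((IsClosedImmersion.lift (i ∣_ V) _ hle) e))).commRingCatIsoToRingEquiv
    haveI hpreg := isRegularLocalRing_stalk_of_effCartier
      (BlowUp.exceptional (π ∣_ V) (i ∣_ V).ker) hbV.1 e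
    exact IsRegularLocalRing.of_ringEquiv (asIso ((π ⁻¹ᵁ V).ι.stalkMap
      ((BlowUp.exceptional (π ∣_ V) (i ∣_ V).ker).subschemeι e))).commRingCatIsoToRingEquiv.symm
  · haveI := isIso_stalkMap_of_notMem_support i.ker π hπ z hz
    haveI := hreg (π z)
    exact IsRegularLocalRing.of_ringEquiv (asIso (π.stalkMap z)).commRingCatIsoToRingEquiv

end Groth.Agent.Lib.Seat82.RegBlowUp2
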