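import Mathlib
import Groth.Prelude.Def_BlowUp2
import Groth.Prelude.Def_RegImm
import Groth.Agent.Lib.Seat82RegBlowUp2
import Groth.Agent.Lib.Seat66IntMultMain
import Groth.Agent.Lib.Seat67QuotRegCM
import Groth.Agent.Lib.Helper6SmDimSch
import Groth.Agent.Lib.Helper28DepthCM2
import Groth.Agent.Lib.Helper5RegImm

/-!
# The blow-up of a Cohen–Macaulay scheme along a regularly immersed centre is Cohen–Macaulay (helper82)

Namespace `Groth.Agent.Lib.Seat82.CMBlowUp`.
* `isCohenMacaulayLocalRing_of_surjective_of_ker_eq_ofList`: CM local ring modulo a regular sequence is CM.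
* `isCohenMacaulayLocalRing_of_surjective_of_ker_eq_span`: Noetherian local `A`, `A/(t)` CM, `t` nonzerodivisor ⇒ `A` CM.
* `cm_stalk_of_smooth`: smooth over a CM point (locally Noetherian base) is CM.
* `cm_stalk_of_effCartier`: locally Noetherian scheme is CM along a CM effective Cartier divisor.
* `cm_blowUp_of_regular`, `cm_blowUp` (S15713).
-/

set_option autoImplicit false
set_option linter.style.haveILetI false
universe u
open CategoryTheory AlgebraicGeometry Opposite TopologicalSpace nonZeroDivisors IsLocalRing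

namespace Groth.Agent.Lib.Seat82.CMBlowUp

open Scheme.IdealSheafData Groth.Agent.Lib.Seat82.RegGeneriz Groth.Agent.Lib.Seat82.BlowUpRestrict
  Groth.Agent.Lib.Helper20.BlowUpBasic Groth.Agent.Lib.Seat92.BlowUpProper
  Groth.Agent.Lib.Seat82.RegBlowUp2 RingTheory.Sequence

/-- a Cohen–Macaulay local ring modulo a regular sequence is Cohen–Macaulay. -/
theorem isCohenMacaulayLocalRing_of_surjective_of_ker_eq_ofList {A A' : Type u} [CommRing A]
    [CommRing A'] [hA : LocCoh.IsCohenMacaulayLocalRing A] (φ : A →+* A')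
    (hφ : Function.Surjective φ) (xs : List A) (hreg : IsRegular A xs)
    (hker : RingHom.ker φ = Ideal.ofList xs) : LocCoh.IsCohenMacaulayLocalRing A' := by
  haveI := hA.toIsLocalRing
  haveI : IsNoetherianRing A := inferInstance
  have hne : Ideal.ofList xs ≠ ⊤ := by
    have := hreg.top_ne_smul
    rw [smul_eq_mul, Ideal.mul_top] at this
    exact this.symm
  have hxs : ∀ x ∈ xs, x ∈ maximalIdeal A := fun x hx =>
    IsLocalRing.le_maximalIdeal hne (Ideal.subset_span hx)
  have hM : LocCoh.IsCohenMacaulayModule A A := by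
    unfold LocCoh.IsCohenMacaulayModule
    exact hA.supportDim_eq_depth
  have h1 := Groth.Agent.Lib.Helper28.isCohenMacaulayModule_quot_ofList hM xs hxs hreg.toIsWeaklyRegular
  have e : (Ideal.ofList xs • ⊤ : Submodule A A) = Ideal.ofList xs := by
    rw [smul_eq_mul, Ideal.mul_top]
  rw [e] at h1
  have h2 : LocCoh.IsCohenMacaulayModule A (A ⧸ Ideal.ofList xs) := h1
  haveI hloc : IsLocalRing (A ⧸ Ideal.ofList xs) := Groth.Agent.Lib.Helper5.isLocalRing_quotient hne
  have hs : Function.Surjective (algebraMap A (A ⧸ Ideal.ofList xs)) := Ideal.Quotient.mk_surjective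
  have h3 : LocCoh.IsCohenMacaulayLocalRing (A ⧸ Ideal.ofList xs) := by
    refine { supportDim_eq_depth := ?_ }
    rw [Groth.Agent.Lib.Seat11.FibRing.supportDim_eq_of_surjective hs (A ⧸ Ideal.ofList xs),
      Groth.Agent.Lib.Seat11.FibRing.depth_eq_of_surjective hs (A ⧸ Ideal.ofList xs)]
    exact h2
  have eq : (A ⧸ Ideal.ofList xs) ≃+* A' :=
    (Ideal.quotEquivOfEq hker.symm).trans (RingHom.quotientKerEquivOfSurjective hφ)
  exact Groth.Agent.Lib.Helper28.isCohenMacaulayLocalRing_of_ringEquiv eq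

/-- a Noetherian local ring `A` with `A/(t)` Cohen–Macaulay, `t` a nonzerodivisor, is Cohen–Macaulay. -/
theorem isCohenMacaulayLocalRing_of_surjective_of_ker_eq_span {A A' : Type u} [CommRing A]
    [CommRing A'] [IsLocalRing A] [IsNoetherianRing A] (φ : A →+* A') (hφ : Function.Surjective φ)
    (t : A) (ht : t ∈ nonZeroDivisors A) (hker : RingHom.ker φ = Ideal.span {t})
    [hA' : LocCoh.IsCohenMacaulayLocalRing A'] : LocCoh.IsCohenMacaulayLocalRing A := by
  haveI := hA'.toIsLocalRing
  have htm : t ∈ maximalIdeal A := by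
    rw [mem_maximalIdeal, mem_nonunits_iff]
    intro hu
    have h1 : RingHom.ker φ = ⊤ := by
      rw [hker]; exact Ideal.span_singleton_eq_top.mpr hu
    have h2 : (1 : A) ∈ RingHom.ker φ := h1 ▸ Submodule.mem_top
    rw [RingHom.mem_ker, map_one] at h2
    exact one_ne_zero h2
  have e : (A ⧸ Ideal.span {t}) ≃+* A' :=
    (Ideal.quotEquivOfEq hker.symm).trans (RingHom.quotientKerEquivOfSurjective hφ)
  have h1 : LocCoh.IsCohenMacaulayLocalRing (A ⧸ Ideal.span {t}) :=
    Groth.Agent.Lib.Helper28.isCohenMacaulayLocalRing_of_ringEquiv e.symm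
  have hreg : IsSMulRegular A t := Module.Flat.isSMulRegular_of_nonZeroDivisors ht
  exact (Groth.Agent.Lib.Seat67.QuotRegCM.isCohenMacaulayLocalRing_quotient_span_singleton_iff
    t htm hreg).mp h1

/-- the source of a smooth morphism to a locally Noetherian scheme is Cohen–Macaulay over Cohen–Macaulay points. -/
theorem cm_stalk_of_smooth {X Y : Scheme.{u}} (f : X ⟶ Y) [IsLocallyNoetherian Y] [Smooth f] (x : X)
    (h : LocCoh.IsCohenMacaulayLocalRing (Y.presheaf.stalk (f x))) :
    LocCoh.IsCohenMacaulayLocalRing (X.presheaf.stalk x) := by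
  haveI : IsLocallyNoetherian X := LocallyOfFiniteType.isLocallyNoetherian f
  have h5 := Groth.Agent.Lib.Helper6.SmDim.main5025 f x ⟨⊤, trivial, inferInstance⟩
  obtain ⟨d, hd⟩ := Groth.Agent.Lib.Helper5.exists_nat_ringKrullDim_eq (Y.presheaf.stalk (f x))
  have hY := h.supportDim_eq_depth
  rw [Module.supportDim_self_eq_ringKrullDim] at hY
  refine { supportDim_eq_depth := ?_ }
  rw [Module.supportDim_self_eq_ringKrullDim]
  have h6 : ringKrullDim (X.presheaf.stalk x) + (d : WithBot ℕ∞) =
      ((LocCoh.depth (X.presheaf.stalk x) (X.presheaf.stalk x) : ℕ∞) : WithBot ℕ∞) +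
        (d : WithBot ℕ∞) := by
    have h7 : ((LocCoh.depth (Y.presheaf.stalk (f x)) (Y.presheaf.stalk (f x)) : ℕ∞) : WithBot ℕ∞) =
        (d : WithBot ℕ∞) := by rw [← hY, hd]
    have h8 : ringKrullDim (Y.presheaf.stalk (f x)) = (d : WithBot ℕ∞) := hd
    have h5' := h5
    change ringKrullDim (X.presheaf.stalk x) +
      ((LocCoh.depth (Y.presheaf.stalk (f x)) (Y.presheaf.stalk (f x)) : ℕ∞) : WithBot ℕ∞) =
      ringKrullDim (Y.presheaf.stalk (f x)) +
      ((LocCoh.depth (X.presheaf.stalk x) (X.presheaf.stalk x) : ℕ∞) : WithBot ℕ∞) at h5'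
    rw [h7, h8] at h5'
    rw [h5', add_comm]
  exact Groth.Agent.Lib.Helper28.withBot_enat_add_natCast_cancel h6

/-- a locally Noetherian scheme is Cohen–Macaulay at the points of an effective Cartier divisor where the divisor is. -/
theorem cm_stalk_of_effCartier {X' : Scheme.{u}} [IsLocallyNoetherian X']
    (𝓔 : X'.IdealSheafData) (h𝓔 : BlowUp.IsEffCartierIdeal 𝓔) (e : 𝓔.subscheme)
    [LocCoh.IsCohenMacaulayLocalRing (𝓔.subscheme.presheaf.stalk e)] :
    LocCoh.IsCohenMacaulayLocalRing (X'.presheaf.stalk (𝓔.subschemeι e)) := by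
  obtain ⟨U, heU, f, hf, hUf⟩ := h𝓔 (𝓔.subschemeι e)
  have hker := Groth.Agent.Lib.Seat8.SubStalk.ker_stalkMap_subschemeι 𝓔 e U heU
  rw [hUf, Ideal.map_span, Set.image_singleton] at hker
  refine isCohenMacaulayLocalRing_of_surjective_of_ker_eq_span (𝓔.subschemeι.stalkMap e).hom
    (𝓔.subschemeι.stalkMap_surjective e) _ ?_ hker
  letI := X'.presheaf.algebra_section_stalk ⟨𝓔.subschemeι e, heU⟩
  haveI := U.2.isLocalization_stalk ⟨𝓔.subschemeι e, heU⟩
  exact IsLocalization.map_nonZeroDivisors_le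
    (U.2.primeIdealOf ⟨𝓔.subschemeι e, heU⟩).asIdeal.primeCompl _ (Submonoid.mem_map_of_mem _ hf)

/-- **The blow-up of a Cohen–Macaulay locally Noetherian scheme along a regularly immersed centre is
Cohen–Macaulay.** -/
theorem cm_blowUp_of_regular {W V T : Scheme.{u}} [IsLocallyNoetherian W]
    (hcm : ∀ w : W, LocCoh.IsCohenMacaulayLocalRing (W.presheaf.stalk w))
    (i : V ⟶ W) (hi : Mor2.IsRegularClosedImmersion i) (π : T ⟶ W)
    (hπ : BlowUp.IsBlowUp π i.ker) (t : T) :
    LocCoh.IsCohenMacaulayLocalRing (T.presheaf.stalk t) := by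
  haveI : IsClosedImmersion i := hi.1
  have hfg : ∀ U : W.affineOpens, (i.ker.ideal U).FG := fun U => by
    haveI := IsLocallyNoetherian.component_noetherian U
    exact IsNoetherian.noetherian _
  haveI hprop : IsProper π := isProper_of_isBlowUp i.ker hfg π hπ
  haveI : IsLocallyNoetherian T := LocallyOfFiniteType.isLocallyNoetherian π
  haveI : IsLocallyNoetherian V := LocallyOfFiniteType.isLocallyNoetherian i
  by_cases ht : π t ∈ i.ker.support
  · have htE : t ∈ (BlowUp.exceptional π i.ker).support := by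
      rw [Scheme.IdealSheafData.support_comap]; exact ht
    rw [← SetLike.mem_coe, ← Scheme.IdealSheafData.range_subschemeι] at htE
    obtain ⟨e, rfl⟩ := htE
    have hle : i.ker ≤ ((BlowUp.exceptional π i.ker).subschemeι ≫ π).ker := by
      rw [Scheme.Hom.ker_comp, Scheme.IdealSheafData.ker_subschemeι, le_map_iff_comap_le]
    have hg := IsClosedImmersion.lift_fac i _ hle
    haveI : Smooth (IsClosedImmersion.lift i _ hle) :=
      Groth.Agent.S2894.result i hi π hπ _ hg
    -- the centre is Cohen–Macaulay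
    have hV : LocCoh.IsCohenMacaulayLocalRing
        (V.presheaf.stalk ((IsClosedImmersion.lift i _ hle) e)) := by
      obtain ⟨xs, hxs, hker⟩ := Groth.Agent.Lib.Helper5.RegImm.stalkReg_of_regAt i
        ((IsClosedImmersion.lift i _ hle) e) (hi.2 _)
      haveI := hcm (i ((IsClosedImmersion.lift i _ hle) e))
      exact isCohenMacaulayLocalRing_of_surjective_of_ker_eq_ofList
        (i.stalkMap ((IsClosedImmersion.lift i _ hle) e)).hom
        (i.stalkMap_surjective _) xs hxs hker
    haveI hE := cm_stalk_of_smooth (IsClosedImmersion.lift i _ hle) e hV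
    exact cm_stalk_of_effCartier (BlowUp.exceptional π i.ker) hπ.1 e
  · haveI := isIso_stalkMap_of_notMem_support i.ker π hπ t ht
    haveI := hcm (π t)
    exact Groth.Agent.Lib.Helper28.isCohenMacaulayLocalRing_of_ringEquiv
      (asIso (π.stalkMap t)).commRingCatIsoToRingEquiv

/-- **S15713.** -/
theorem cm_blowUp (W T : Scheme.{u}) [IsLocallyNoetherian W]
    (hcm : ∀ w : W, LocCoh.IsCohenMacaulayLocalRing (W.presheaf.stalk w))
    (I : W.IdealSheafData) (hI : RegImm.IsRegularIdeal RegImm.Kind.regular I)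
    (π : T ⟶ W) (hπ : BlowUp.IsBlowUp π I) (t : T) :
    LocCoh.IsCohenMacaulayLocalRing (T.presheaf.stalk t) := by
  have hreg : Mor2.IsRegularClosedImmersion I.subschemeι := by
    refine ⟨inferInstance, fun z => ?_⟩
    obtain ⟨U, hzU, rs, hrs, hU⟩ := hI (I.subschemeι z) (by
      rw [← SetLike.mem_coe, ← Scheme.IdealSheafData.range_subschemeι]; exact ⟨z, rfl⟩)
    exact ⟨U.1, U.2, hzU, rs, hrs, by rw [Scheme.IdealSheafData.ker_subschemeι]; exact hU⟩
  have hπ' : BlowUp.IsBlowUp π I.subschemeι.ker := by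
    rw [Scheme.IdealSheafData.ker_subschemeι]; exact hπ
  exact cm_blowUp_of_regular hcm I.subschemeι hreg π hπ' t

end Groth.Agent.Lib.Seat82.CMBlowUp
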