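import Mathlib
import Groth.Agent.Lib.Helper20EffCartier

/-!
# Descent of ideal sheaves supported on the closed fibre from the completion (helper82)

Namespace `Groth.Agent.Lib.Seat82.CompletionDescent`.
* `map_comap_eq_of_surj`: if `B → P/𝔞P` is surjective and `𝔞P ≤ J` then `(J ∩ B) P = J`.
* `mem_subring_of_isPushout`: a pushout of commutative rings is generated by the images of the two legs.
* `adicCompletion_exists_sub_mem`: `R → R̂ / Iⁿ R̂` is surjective (for `I` finitely generated).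
* `descIdeal π I`, `descIdeal_ideal`, `comap_descIdeal_ideal`, `comap_descIdeal_eq`: the ideal of the
  scheme-theoretic image of `V(I)` under an affine morphism `π`, and a criterion for it to pull back to `I`.
* `mem_radical_of_support`, `exists_sub_mem_of_isPushout`, `comap_descIdeal_eq_of_support`: an ideal sheaf on
  `Y ×_R R̂` (completion along a principal ideal `(ϖ)`) supported over a point of `V(ϖ)` descends to `Y`.
-/

set_option autoImplicit false
universe u
open CategoryTheory CategoryTheory.Limits AlgebraicGeometry TopologicalSpace TensorProduct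

namespace Groth.Agent.Lib.Seat82.CompletionDescent

theorem map_comap_eq_of_surj {B P : Type*} [CommRing B] [CommRing P] (φ : B →+* P) (𝔞 : Ideal B)
    (J : Ideal P) (h1 : 𝔞.map φ ≤ J) (h2 : ∀ x : P, ∃ y : B, x - φ y ∈ 𝔞.map φ) :
    (J.comap φ).map φ = J := by
  apply le_antisymm Ideal.map_comap_le
  intro x hx
  obtain ⟨y, hy⟩ := h2 x
  have hy' : φ y ∈ J := by
    have := J.sub_mem hx (h1 hy)
    simpa using this
  have h3 : 𝔞 ≤ J.comap φ := Ideal.map_le_iff_le_comap.1 h1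
  have h4 : x = φ y + (x - φ y) := by ring
  rw [h4]
  exact Ideal.add_mem _ (Ideal.mem_map_of_mem φ hy') (Ideal.map_mono h3 hy)

theorem mem_subring_of_isPushout {A B C P : CommRingCat.{u}} {f : A ⟶ B} {g : A ⟶ C}
    {inl : B ⟶ P} {inr : C ⟶ P} (h : IsPushout f g inl inr) (S : Subring P)
    (hl : ∀ b, inl.hom b ∈ S) (hr : ∀ c, inr.hom c ∈ S) (x : P) : x ∈ S := by
  let _ := f.hom.toAlgebra
  let _ := g.hom.toAlgebra
  have h' : IsPushout (CommRingCat.ofHom (algebraMap A B)) (CommRingCat.ofHom (algebraMap A C)) inl inr := h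
  let e := (CommRingCat.isPushout_tensorProduct A B C).isoIsPushout _ _ h'
  have hel : ∀ b : B, e.hom.hom (b ⊗ₜ 1) = inl.hom b := fun b =>
    congrArg (fun k : B ⟶ P => k.hom b)
      ((CommRingCat.isPushout_tensorProduct A B C).inl_isoIsPushout_hom _ _ h')
  have her : ∀ c : C, e.hom.hom (1 ⊗ₜ c) = inr.hom c := fun c =>
    congrArg (fun k : C ⟶ P => k.hom c)
      ((CommRingCat.isPushout_tensorProduct A B C).inr_isoIsPushout_hom _ _ h')
  have hx : x = e.hom.hom (e.inv.hom x) := by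
    have := congr($(e.inv_hom_id).hom x)
    exact this.symm
  rw [hx]
  generalize e.inv.hom x = t
  induction t using TensorProduct.induction_on with
  | zero => rw [map_zero]; exact S.zero_mem
  | tmul b c =>
    have : (b ⊗ₜ[A] c : B ⊗[A] C) = (b ⊗ₜ 1) * (1 ⊗ₜ c) := by
      rw [Algebra.TensorProduct.tmul_mul_tmul, mul_one, one_mul]
    rw [this, map_mul, hel, her]
    exact S.mul_mem (hl b) (hr c)
  | add t₁ t₂ h₁ h₂ => rw [map_add]; exact S.add_mem h₁ h₂

theorem adicCompletion_exists_sub_mem {R : Type*} [CommRing R] (I : Ideal R) (hI : I.FG) (n : ℕ)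
    (x : AdicCompletion I R) :
    ∃ r : R, x - algebraMap R (AdicCompletion I R) r ∈ (I ^ n).map (algebraMap R (AdicCompletion I R)) := by
  obtain ⟨r, hr⟩ := Submodule.mkQ_surjective (I ^ n • ⊤ : Submodule R R) (AdicCompletion.eval I R n x)
  refine ⟨r, ?_⟩
  have h1 : x - AdicCompletion.of I R r ∈ LinearMap.ker (AdicCompletion.eval I R n) := by
    rw [LinearMap.mem_ker, map_sub, AdicCompletion.eval_of, hr, sub_self]
  rw [← AdicCompletion.pow_smul_top_eq_ker_eval hI] at h1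
  rw [AdicCompletion.algebraMap_apply]
  change x - AdicCompletion.of I R r ∈ _
  refine Submodule.smul_induction_on h1 ?_ ?_
  · intro a ha y _
    rw [Algebra.smul_def]
    exact Ideal.mul_mem_right _ _ (Ideal.mem_map_of_mem _ ha)
  · intro y z hy hz
    exact Ideal.add_mem _ hy hz

open Scheme.IdealSheafData

section geom

variable {Y' Y : Scheme.{u}} (π : Y' ⟶ Y) [IsAffineHom π] (I : Y'.IdealSheafData)

/-- the ideal sheaf on `Y` of the scheme-theoretic image of `V(I)`. -/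
noncomputable def descIdeal : Y.IdealSheafData := (I.subschemeι ≫ π).ker

theorem descIdeal_ideal (U : Y.affineOpens) :
    (descIdeal π I).ideal U = (I.ideal ⟨π ⁻¹ᵁ U.1, U.2.preimage π⟩).comap (π.app U.1).hom := by
  unfold descIdeal
  rw [Scheme.Hom.ker_apply]
  ext x
  rw [RingHom.mem_ker, Ideal.mem_comap, ← I.ker_subschemeι_app ⟨π ⁻¹ᵁ U.1, U.2.preimage π⟩,
    RingHom.mem_ker]
  exact Iff.rfl

theorem comap_descIdeal_ideal (U : Y.affineOpens) :
    ((descIdeal π I).comap π).ideal ⟨π ⁻¹ᵁ U.1, U.2.preimage π⟩ =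
      ((I.ideal ⟨π ⁻¹ᵁ U.1, U.2.preimage π⟩).comap (π.app U.1).hom).map (π.app U.1).hom := by
  rw [Groth.Agent.Lib.Helper20.EffCartier.ideal_comap_eq_map π (descIdeal π I) (U.2.preimage π) U.2 le_rfl,
    descIdeal_ideal π I U, ← Scheme.Hom.app_eq_appLE]

theorem comap_descIdeal_eq
    (H : ∀ (U : Y.affineOpens),
      ((I.ideal ⟨π ⁻¹ᵁ U.1, U.2.preimage π⟩).comap (π.app U.1).hom).map (π.app U.1).hom =
        I.ideal ⟨π ⁻¹ᵁ U.1, U.2.preimage π⟩) :
    (descIdeal π I).comap π = I := by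
  refine ext_of_iSup_eq_top (fun U : Y.affineOpens => ⟨π ⁻¹ᵁ U.1, U.2.preimage π⟩) ?_ ?_
  · have h1 : ⨆ U : Y.affineOpens, U.1 = ⊤ := by
      rw [eq_top_iff]
      intro x _
      obtain ⟨_, ⟨U, hU, rfl⟩, hxU, -⟩ :=
        Y.isBasis_affineOpens.exists_subset_of_mem_open (Set.mem_univ x) isOpen_univ
      exact Opens.mem_iSup.2 ⟨⟨U, hU⟩, hxU⟩
    rw [eq_top_iff]
    intro x _
    have hx : π.base x ∈ (⨆ U : Y.affineOpens, U.1) := by rw [h1]; trivial
    obtain ⟨U, hxU⟩ := Opens.mem_iSup.1 hx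
    exact Opens.mem_iSup.2 ⟨U, hxU⟩
  · intro U
    rw [comap_descIdeal_ideal π I U, H U]

end geom

theorem mem_radical_of_support {X : Scheme.{u}} (I : X.IdealSheafData) (U : X.affineOpens)
    (β : Γ(X, U.1)) (h : ∀ x ∈ (I.support : Set X), x ∉ X.basicOpen β) :
    β ∈ (I.ideal U).radical := by
  have h1 : β ∈ (I.radical).ideal U := by
    rw [← vanishingIdeal_support, vanishingIdeal_ideal, PrimeSpectrum.mem_vanishingIdeal]
    intro 𝔭 h𝔭
    by_contra hβ
    have h2 : 𝔭 ∈ PrimeSpectrum.basicOpen β := hβ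
    rw [← U.2.fromSpec_preimage_basicOpen] at h2
    exact h _ h𝔭 h2
  simpa using h1


section specific

variable {R : Type u} [CommRing R] (𝔪 : Ideal R) (ϖ : R) (h𝔪 : 𝔪 = Ideal.span {ϖ})

include h𝔪 in
theorem exists_sub_mem_of_isPushout (n : ℕ)
    {A B C P : CommRingCat.{u}} {f : A ⟶ B} {g : A ⟶ C} {inl : B ⟶ P} {inr : C ⟶ P}
    (h : IsPushout f g inl inr)
    (eA : CommRingCat.of R ≅ A) (eC : CommRingCat.of (AdicCompletion 𝔪 R) ≅ C)
    (hg : CommRingCat.ofHom (algebraMap R (AdicCompletion 𝔪 R)) ≫ eC.hom = eA.hom ≫ g)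
    (x : P) : ∃ y : B, x - inl.hom y ∈ Ideal.span {(inl.hom (f.hom (eA.hom.hom ϖ))) ^ n} := by
  set β := inl.hom (f.hom (eA.hom.hom ϖ)) with hβ
  set K : Ideal P := Ideal.span {β ^ n} with hK
  let S : Subring P :=
    (RingHom.range ((Ideal.Quotient.mk K).comp inl.hom)).comap (Ideal.Quotient.mk K)
  have key : ∀ x, x ∈ S → ∃ y : B, x - inl.hom y ∈ K := by
    rintro x ⟨y, hy⟩
    refine ⟨y, ?_⟩
    have h1 : inl.hom y - x ∈ K := Ideal.Quotient.eq.1 hy
    have h2 := K.neg_mem h1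
    rwa [neg_sub] at h2
  apply key
  have hw : ∀ a : A, inr.hom (g.hom a) = inl.hom (f.hom a) := fun a =>
    (congrArg (fun k : A ⟶ P => k.hom a) h.w).symm
  have hg' : ∀ r : R, eC.hom.hom (algebraMap R (AdicCompletion 𝔪 R) r) = g.hom (eA.hom.hom r) := fun r =>
    congrArg (fun k : CommRingCat.of R ⟶ C => k.hom r) hg
  apply mem_subring_of_isPushout h S
  · intro b
    exact ⟨b, rfl⟩
  · intro c
    obtain ⟨r, hr⟩ := adicCompletion_exists_sub_mem 𝔪 (h𝔪 ▸ ⟨{ϖ}, by simp⟩) n (eC.inv.hom c)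
    have hpow : 𝔪 ^ n = Ideal.span {ϖ ^ n} := by rw [h𝔪, Ideal.span_singleton_pow]
    rw [hpow, Ideal.map_span, Set.image_singleton, Ideal.mem_span_singleton'] at hr
    obtain ⟨w, hw'⟩ := hr
    have hc : c = eC.hom.hom (eC.inv.hom c) := by
      have := congr($(eC.inv_hom_id).hom c)
      exact this.symm
    have h3 : eC.inv.hom c = algebraMap R (AdicCompletion 𝔪 R) r +
        w * (algebraMap R (AdicCompletion 𝔪 R) ϖ) ^ n := by
      rw [← map_pow, hw']; ring
    refine ⟨f.hom (eA.hom.hom r), ?_⟩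
    rw [hc, h3]
    simp only [RingHom.comp_apply, map_add, map_mul, map_pow, hg', hw]
    have h4 : (Ideal.Quotient.mk K) (β ^ n) = 0 :=
      Ideal.Quotient.eq_zero_iff_mem.2 (Ideal.subset_span rfl)
    rw [map_pow] at h4
    rw [← hβ, h4, mul_zero, add_zero]

variable {Y : Scheme.{u}} (q : Y ⟶ Spec (CommRingCat.of R))

include h𝔪 in
theorem comap_descIdeal_eq_of_support_aux
    (c : Spec (CommRingCat.of (AdicCompletion 𝔪 R)) ⟶ Spec (CommRingCat.of R))
    (hc : c = Spec.map (CommRingCat.ofHom (algebraMap R (AdicCompletion 𝔪 R))))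
    [IsAffineHom (pullback.fst q c)]
    (z : Spec (CommRingCat.of R)) (hz : ϖ ∈ z.asIdeal)
    (I : (pullback q c).IdealSheafData)
    (hI : (I.support : Set _) ⊆ (pullback.fst q c ≫ q).base ⁻¹' {z}) :
    (descIdeal (pullback.fst q c) I).comap (pullback.fst q c) = I := by
  apply comap_descIdeal_eq
  intro U
  have H : IsPullback (pullback.fst q c) (pullback.snd q c) q c := IsPullback.of_hasPullback q c
  have hUST : (⊤ : (Spec (CommRingCat.of (AdicCompletion 𝔪 R))).Opens) ≤ c ⁻¹ᵁ ⊤ := le_rfl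
  have hUSX : U.1 ≤ q ⁻¹ᵁ ⊤ := le_top
  have hUY : (pullback.fst q c) ⁻¹ᵁ U.1 = (pullback.fst q c) ⁻¹ᵁ U.1 ⊓ (pullback.snd q c) ⁻¹ᵁ ⊤ := by simp
  have hpo := (isIso_pushoutSection_iff H hUST hUSX hUY).1
    (isIso_pushoutSection_of_isAffineOpen H hUST hUSX hUY (isAffineOpen_top _) (isAffineOpen_top _) U.2)
  have hg : CommRingCat.ofHom (algebraMap R (AdicCompletion 𝔪 R)) ≫
      (Scheme.ΓSpecIso (CommRingCat.of (AdicCompletion 𝔪 R))).symm.hom =
      (Scheme.ΓSpecIso (CommRingCat.of R)).symm.hom ≫ c.appLE ⊤ ⊤ hUST := by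
    have : c.appLE ⊤ ⊤ hUST = c.appTop := by
      rw [Scheme.Hom.appLE]
      have h0 : (Spec (CommRingCat.of (AdicCompletion 𝔪 R))).presheaf.map (homOfLE hUST).op = 𝟙 _ :=
        CategoryTheory.Functor.map_id _ _
      rw [h0]
      exact Category.comp_id _
    rw [this, hc]
    exact Scheme.ΓSpecIso_inv_naturality _
  have F1 : (((pullback.fst q c).appLE U.1 ((pullback.fst q c) ⁻¹ᵁ U.1) le_rfl).hom
      ((q.appLE ⊤ U.1 hUSX).hom ((Scheme.ΓSpecIso (CommRingCat.of R)).symm.hom.hom ϖ))) ∈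
        (I.ideal ⟨(pullback.fst q c) ⁻¹ᵁ U.1, U.2.preimage (pullback.fst q c)⟩).radical := by
    apply mem_radical_of_support I ⟨(pullback.fst q c) ⁻¹ᵁ U.1, U.2.preimage (pullback.fst q c)⟩
    intro x hx hxβ
    have h1 : (pullback.fst q c ≫ q).base x = z := hI hx
    rw [Scheme.basicOpen_appLE, Scheme.basicOpen_appLE] at hxβ
    have h2 : q.base ((pullback.fst q c).base x) ∈ (Spec (CommRingCat.of R)).basicOpen
        ((Scheme.ΓSpecIso (CommRingCat.of R)).symm.hom.hom ϖ) := hxβ.2.2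
    rw [Iso.symm_hom, basicOpen_eq_of_affine] at h2
    have h3 : q.base ((pullback.fst q c).base x) = z := h1
    rw [h3] at h2
    exact h2 hz
  obtain ⟨n, hn⟩ := F1
  have F2 := exists_sub_mem_of_isPushout 𝔪 ϖ h𝔪 n hpo (Scheme.ΓSpecIso (CommRingCat.of R)).symm
    (Scheme.ΓSpecIso (CommRingCat.of (AdicCompletion 𝔪 R))).symm hg
  have happ : (pullback.fst q c).app U.1 =
    (pullback.fst q c).appLE U.1 ((pullback.fst q c) ⁻¹ᵁ U.1) le_rfl := Scheme.Hom.app_eq_appLE _
  rw [happ]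
  apply map_comap_eq_of_surj _
    (Ideal.span {((q.appLE ⊤ U.1 hUSX).hom ((Scheme.ΓSpecIso (CommRingCat.of R)).symm.hom.hom ϖ)) ^ n})
  · rw [Ideal.map_span, Set.image_singleton, Ideal.span_singleton_le_iff_mem, map_pow]
    exact hn
  · intro x
    obtain ⟨y, hy⟩ := F2 x
    refine ⟨y, ?_⟩
    rw [Ideal.map_span, Set.image_singleton, map_pow]
    exact hy

end specific

theorem support_descIdeal_subset {Y' Y T : Scheme.{u}} (π : Y' ⟶ Y) [IsAffineHom π] (q : Y ⟶ T)
    (I : Y'.IdealSheafData) (z : T) (hzc : IsClosed ({z} : Set T))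
    (hI : (I.support : Set Y') ⊆ (π ≫ q).base ⁻¹' {z}) :
    ((descIdeal π I).support : Set Y) ⊆ q.base ⁻¹' {z} := by
  unfold descIdeal
  rw [Scheme.Hom.support_ker]
  refine closure_minimal ?_ (hzc.preimage q.continuous)
  rintro _ ⟨w, rfl⟩
  have hw : I.subschemeι.base w ∈ (I.support : Set Y') := by
    rw [← I.range_subschemeι]
    exact Set.mem_range_self w
  exact hI hw

end Groth.Agent.Lib.Seat82.CompletionDescent
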