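import Groth.Agent.Lib.Seat82CompletionDescent
import Groth.Prelude.Def_BlowUp2

/-!
# Descent of ideals from the completion: affine case, finitely generated ideal (helper82)

Namespace `Groth.Agent.Lib.Seat82.CompletionDescent`.
* `isBlowUp_unique`: two blow-ups of the same ideal sheaf are isomorphic over the base.
* `comap_descIdeal_eq_of_isAffine`: for affine schemes the criterion `comap_descIdeal_eq` need only be checked on `⊤`.
* `comap_descIdeal_eq_spec`: for `π : Spec (AdicCompletion 𝔪 A) ⟶ Spec A` (`𝔪` finitely generated) and an ideal sheaf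
  `J` upstairs whose support lies over points of `V(𝔪)`-type (every `a ∈ 𝔪` vanishes on the support), the ideal
  `J ∩ A` pulls back to `J`.
-/

set_option autoImplicit false
universe u
open CategoryTheory CategoryTheory.Limits AlgebraicGeometry TopologicalSpace

namespace Groth.Agent.Lib.Seat82.CompletionDescent

open Scheme.IdealSheafData

/-- Two blow-ups of the same ideal sheaf are isomorphic over the base. -/
theorem isBlowUp_unique {X B B' : Scheme.{u}} (𝓘 : X.IdealSheafData) (b : B ⟶ X) (b' : B' ⟶ X)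
    (hb : BlowUp.IsBlowUp b 𝓘) (hb' : BlowUp.IsBlowUp b' 𝓘) :
    ∃ e : B ≅ B', e.hom ≫ b' = b := by
  obtain ⟨h, hh, -⟩ := hb'.2 B b hb.1
  obtain ⟨h', hh', -⟩ := hb.2 B' b' hb'.1
  refine ⟨⟨h, h', ?_, ?_⟩, hh⟩
  · obtain ⟨k, -, hu⟩ := hb.2 B b hb.1
    rw [hu (h ≫ h') (by show (h ≫ h') ≫ b = b; rw [Category.assoc]; show h ≫ h' ≫ b = b; rw [show h' ≫ b = b' from hh', show h ≫ b' = b from hh]),
      hu (𝟙 _) (Category.id_comp _)]
  · obtain ⟨k, -, hu⟩ := hb'.2 B' b' hb'.1
    rw [hu (h' ≫ h) (by show (h' ≫ h) ≫ b' = b'; rw [Category.assoc]; show h' ≫ h ≫ b' = b'; rw [show h ≫ b' = b from hh, show h' ≫ b = b' from hh']),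
      hu (𝟙 _) (Category.id_comp _)]

theorem comap_descIdeal_eq_of_isAffine {Y' Y : Scheme.{u}} [IsAffine Y] [IsAffine Y'] (π : Y' ⟶ Y)
    [IsAffineHom π] (I : Y'.IdealSheafData)
    (H : ((I.ideal ⟨⊤, isAffineOpen_top Y'⟩).comap π.appTop.hom).map π.appTop.hom =
        I.ideal ⟨⊤, isAffineOpen_top Y'⟩) :
    (descIdeal π I).comap π = I := by
  apply Scheme.IdealSheafData.ext_of_isAffine
  have h1 := comap_descIdeal_ideal π I ⟨⊤, isAffineOpen_top Y⟩
  exact h1.trans H

theorem comap_descIdeal_eq_spec {A : Type u} [CommRing A] (𝔪 : Ideal A) (h𝔪 : 𝔪.FG)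
    (J : (Spec (CommRingCat.of (AdicCompletion 𝔪 A))).IdealSheafData)
    (hJ : ∀ a ∈ 𝔪, ∀ x ∈ (J.support : Set (Spec (CommRingCat.of (AdicCompletion 𝔪 A)))),
      algebraMap A (AdicCompletion 𝔪 A) a ∈ x.asIdeal) :
    (descIdeal (Spec.map (CommRingCat.ofHom (algebraMap A (AdicCompletion 𝔪 A)))) J).comap
      (Spec.map (CommRingCat.ofHom (algebraMap A (AdicCompletion 𝔪 A)))) = J := by
  apply comap_descIdeal_eq_of_isAffine
  set π := Spec.map (CommRingCat.ofHom (algebraMap A (AdicCompletion 𝔪 A))) with hπ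
  set eA := Scheme.ΓSpecIso (CommRingCat.of A) with heA
  set eB := Scheme.ΓSpecIso (CommRingCat.of (AdicCompletion 𝔪 A)) with heB
  have hnat : ∀ r : A, π.appTop.hom (eA.inv.hom r) = eB.inv.hom (algebraMap A (AdicCompletion 𝔪 A) r) := by
    intro r
    have := Scheme.ΓSpecIso_inv_naturality (CommRingCat.ofHom (algebraMap A (AdicCompletion 𝔪 A)))
    exact (congrArg (fun k : CommRingCat.of A ⟶ _ => k.hom r) this).symm
  have hcomp : π.appTop.hom.comp eA.inv.hom = eB.inv.hom.comp (algebraMap A (AdicCompletion 𝔪 A)) :=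
    RingHom.ext hnat
  set J₀ := J.ideal ⟨⊤, isAffineOpen_top _⟩ with hJ₀
  have hrad : (𝔪.map (π.appTop.hom.comp eA.inv.hom)) ≤ J₀.radical := by
    rw [Ideal.map_le_iff_le_comap]
    intro a ha
    rw [Ideal.mem_comap, hcomp, RingHom.comp_apply]
    apply mem_radical_of_support J ⟨⊤, isAffineOpen_top _⟩
    intro x hx hxa
    rw [basicOpen_eq_of_affine] at hxa
    exact hxa (hJ a ha x hx)
  obtain ⟨n, hn⟩ := Ideal.exists_pow_le_of_le_radical_of_fg hrad (h𝔪.map _)
  rw [← Ideal.map_pow] at hn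
  apply map_comap_eq_of_surj _ ((𝔪 ^ n).map eA.inv.hom)
  · rw [Ideal.map_map]
    exact hn
  · intro x
    obtain ⟨r, hr⟩ := adicCompletion_exists_sub_mem 𝔪 h𝔪 n (eB.hom.hom x)
    refine ⟨eA.inv.hom r, ?_⟩
    rw [Ideal.map_map, hcomp, ← Ideal.map_map, hnat]
    have hx : x = eB.inv.hom (eB.hom.hom x) := by
      have := congr($(eB.hom_inv_id).hom x)
      exact this.symm
    rw [hx, ← map_sub]
    exact Ideal.mem_map_of_mem _ hr

end Groth.Agent.Lib.Seat82.CompletionDescent
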