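import Mathlib
import Groth.Prelude.Def_BlowUp2
import Groth.Prelude.Def_CurvBase
import Groth.Agent.Lib.Seat82BlowUpCover
import Groth.Agent.Lib.Seat82BlowUpDominate
import Groth.Agent.Lib.Seat82BlowUpFlatAlg

/-!
# A finite birational ring extension inside `A_t` is an affine blow-up (helper82)

Namespace `Groth.Agent.Lib.Seat82.FiniteBlowUp`.
* `isBlowUp_chartMap_of_sq_le`: if `a₀ ∈ I` and `I² ⊆ a₀ I` then the single chart `Spec A[I/a₀] ⟶ Spec A` is a
  blow-up of `Spec A` in `I`.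
* `condIdeal t n = {a : A | a ∈ tⁿ B}` for an `A`-algebra `B`; if `A → B` is injective, `t` is a nonzerodivisor of
  `B` and `tⁿ B ⊆ A`, then `A[I/tⁿ] ≅ B` over `A` (`affineAlgebraEquiv`) and `Spec B ⟶ Spec A` is a blow-up of
  `Spec A` in `condIdeal t n` (`isBlowUp_specMap`).
-/

set_option autoImplicit false
universe u
open CategoryTheory AlgebraicGeometry Opposite TopologicalSpace nonZeroDivisors

namespace Groth.Agent.Lib.Seat82.FiniteBlowUp

open Groth.Agent.Lib.Seat64.AffBlowUp Groth.Agent.Lib.Seat82.BlowUpAlg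
  Groth.Agent.Lib.Seat82.BlowUpChart Groth.Agent.Lib.Seat82.BlowUpCover
  Groth.Agent.Lib.Seat82.BlowUpFlatAlg

section singleChart

variable {A : Type u} [CommRing A] {Y : Scheme.{u}}

theorem genAt_of_cartAt_of_sq_le (ψ : A →+* Γ(Y, ⊤)) (I : Ideal A) (a₀ : A) (ha₀ : a₀ ∈ I)
    (hsq : I * I ≤ Ideal.span {a₀} * I) (y : Y) (h : CartAt ψ I y) : GenAt ψ I a₀ y := by
  obtain ⟨W, hW, hyW, c₀, hc₀, hI⟩ := h
  set ρ := resψ ψ W with hρ
  have h1 : Ideal.map ρ (I * I) ≤ Ideal.map ρ (Ideal.span {a₀} * I) := Ideal.map_mono hsq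
  rw [Ideal.map_mul, Ideal.map_mul, hI, Ideal.map_span, Set.image_singleton,
    Ideal.span_singleton_mul_span_singleton, Ideal.span_singleton_mul_span_singleton,
    Ideal.span_singleton_le_span_singleton] at h1
  obtain ⟨u, hu⟩ := h1
  have h2 : ρ a₀ ∈ Ideal.span {c₀} := hI ▸ Ideal.mem_map_of_mem ρ ha₀
  obtain ⟨v, hv⟩ := Ideal.mem_span_singleton'.1 h2
  have h3 : c₀ = ρ a₀ * u := by
    rw [← mul_cancel_right_mem_nonZeroDivisors hc₀, hu]
    ring
  have hmem : ρ a₀ * u ∈ Γ(Y, W)⁰ := h3 ▸ hc₀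
  refine ⟨W, hW, hyW, (mul_mem_nonZeroDivisors.1 hmem).1, ?_⟩
  rw [hI]
  apply le_antisymm
  · rw [Ideal.span_singleton_le_span_singleton]
    exact ⟨u, h3⟩
  · rw [Ideal.span_singleton_le_span_singleton]
    exact ⟨v, by rw [← hv, mul_comm]⟩

/-- If `I² ⊆ a₀ I` with `a₀ ∈ I`, the single chart `Spec A[I/a₀]` is the blow-up of `Spec A` in `I`. -/
theorem isBlowUp_chartMap_of_sq_le (I : Ideal A) (a₀ : A) (ha₀ : a₀ ∈ I)
    (hsq : I * I ≤ Ideal.span {a₀} * I) :
    BlowUp.IsBlowUp (chartMap I a₀) (Curv2.idealSheaf A I) := by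
  refine ⟨isEffCartierIdeal_chartMap I a₀ ha₀, ?_⟩
  intro Y g hg
  have hc := (isEffCartierIdeal_iff_cartAt g I).mp hg
  exact existsUnique_hom I a₀ g (fun y => genAt_of_cartAt_of_sq_le _ I a₀ ha₀ hsq y (hc y))

end singleChart

section algebra

variable {A B : Type u} [CommRing A] [CommRing B] [Algebra A B] (t : A) (n : ℕ)

/-- the ideal `{a : A | a ∈ tⁿ B}` of `A`. -/
def condIdeal : Ideal A :=
  Ideal.comap (algebraMap A B) (Ideal.span {algebraMap A B t ^ n})

variable (B) in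
theorem mem_condIdeal {x : A} :
    x ∈ condIdeal (B := B) t n ↔ ∃ b : B, algebraMap A B x = b * algebraMap A B t ^ n := by
  unfold condIdeal
  rw [Ideal.mem_comap, Ideal.mem_span_singleton']
  constructor
  · rintro ⟨b, hb⟩
    exact ⟨b, hb.symm⟩
  · rintro ⟨b, hb⟩
    exact ⟨b, hb.symm⟩

variable (B) in
theorem pow_mem_condIdeal : t ^ n ∈ condIdeal (B := B) t n :=
  (mem_condIdeal B t n).2 ⟨1, by rw [one_mul, map_pow]⟩

variable (hinj : Function.Injective (algebraMap A B))
  (hsub : ∀ b : B, ∃ a : A, algebraMap A B a = b * algebraMap A B t ^ n)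

include hinj hsub in
theorem condIdeal_sq_le :
    condIdeal (B := B) t n * condIdeal (B := B) t n ≤
      Ideal.span {t ^ n} * condIdeal (B := B) t n := by
  rw [Ideal.mul_le]
  intro x hx y hy
  obtain ⟨b, hb⟩ := (mem_condIdeal B t n).1 hx
  obtain ⟨b', hb'⟩ := (mem_condIdeal B t n).1 hy
  obtain ⟨z, hz⟩ := hsub (b * b')
  have hzI : z ∈ condIdeal (B := B) t n := (mem_condIdeal B t n).2 ⟨b * b', hz⟩
  have hxy : x * y = t ^ n * z := by
    apply hinj
    rw [map_mul, map_mul, hb, hb', hz, map_pow]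
    ring
  rw [hxy]
  exact Ideal.mul_mem_mul (Ideal.mem_span_singleton_self _) hzI

variable (hnz : algebraMap A B t ∈ B⁰)

/-- the canonical map `A[I/tⁿ] → B`. -/
noncomputable def toB : BlowUp.affineAlgebra A (condIdeal (B := B) t n) (t ^ n) →+* B :=
  (existsUnique_lift (condIdeal (B := B) t n) (t ^ n) (algebraMap A B)
    (by rw [map_pow]; exact pow_mem hnz n)
    (fun x hx => by
      obtain ⟨b, hb⟩ := (mem_condIdeal B t n).1 hx
      exact ⟨b, by rw [hb, map_pow]⟩)).exists.choose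

theorem toB_algebraMap (x : A) : toB t n hnz (algebraMap A _ x) = algebraMap A B x :=
  RingHom.congr_fun (existsUnique_lift (condIdeal (B := B) t n) (t ^ n) (algebraMap A B)
    (by rw [map_pow]; exact pow_mem hnz n)
    (fun x hx => by
      obtain ⟨b, hb⟩ := (mem_condIdeal B t n).1 hx
      exact ⟨b, by rw [hb, map_pow]⟩)).exists.choose_spec x

include hsub in
theorem toB_surjective : Function.Surjective (toB (B := B) t n hnz) := by
  intro b
  obtain ⟨x, hx⟩ := hsub b
  have hxI : x ∈ condIdeal (B := B) t n := (mem_condIdeal B t n).2 ⟨b, hx⟩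
  refine ⟨frac _ (t ^ n) x hxI, ?_⟩
  have hnz' : algebraMap A B (t ^ n) ∈ B⁰ := by rw [map_pow]; exact pow_mem hnz n
  have h : toB t n hnz (frac _ (t ^ n) x hxI) * algebraMap A B (t ^ n) =
      b * algebraMap A B (t ^ n) := by
    calc toB t n hnz (frac _ (t ^ n) x hxI) * algebraMap A B (t ^ n)
        = toB t n hnz (frac _ (t ^ n) x hxI) * toB t n hnz (algebraMap A _ (t ^ n)) := by
          rw [toB_algebraMap]
      _ = toB t n hnz (frac _ (t ^ n) x hxI * algebraMap A _ (t ^ n)) := (map_mul _ _ _).symm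
      _ = toB t n hnz (algebraMap A _ x) := by rw [frac_mul]
      _ = algebraMap A B x := toB_algebraMap t n hnz x
      _ = b * algebraMap A B (t ^ n) := by rw [hx, map_pow]
  exact (mul_cancel_right_mem_nonZeroDivisors hnz').1 h

include hinj in
theorem toB_injective : Function.Injective (toB (B := B) t n hnz) := by
  rw [injective_iff_map_eq_zero]
  intro z hz
  obtain ⟨m, x, -, hzx⟩ := exists_fr_of_mem (condIdeal (B := B) t n) (t ^ n)
    (pow_mem_condIdeal B t n) z.2
  have h1 : z * algebraMap A _ ((t ^ n) ^ m) = algebraMap A _ x := by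
    apply Subtype.ext
    show (z : Localization.Away (t ^ n)) * algebraMap A (Localization.Away (t ^ n)) ((t ^ n) ^ m) =
      algebraMap A (Localization.Away (t ^ n)) x
    rw [hzx, fr_mul_algebraMap]
  have h2 := congrArg (toB t n hnz) h1
  rw [map_mul, hz, zero_mul, toB_algebraMap] at h2
  have hx0 : x = 0 := hinj (by rw [← h2, map_zero])
  rw [hx0, map_zero, map_pow] at h1
  exact (mem_nonZeroDivisors_iff_right.1
    (pow_mem (algebraMap_mem_nonZeroDivisors (condIdeal (B := B) t n) (t ^ n)) m)) z h1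

/-- `A[I/tⁿ] ≅ B`. -/
noncomputable def affineAlgebraEquiv :
    BlowUp.affineAlgebra A (condIdeal (B := B) t n) (t ^ n) ≃+* B :=
  RingEquiv.ofBijective (toB t n hnz) ⟨toB_injective t n hinj hnz, toB_surjective t n hsub hnz⟩

include hinj hsub hnz in
/-- **`Spec B ⟶ Spec A` is a blow-up of `Spec A` in `{a | a ∈ tⁿ B}`.** -/
theorem isBlowUp_specMap :
    BlowUp.IsBlowUp (Spec.map (CommRingCat.ofHom (algebraMap A B)))
      (Curv2.idealSheaf A (condIdeal (B := B) t n)) := by
  have h0 := isBlowUp_chartMap_of_sq_le (condIdeal (B := B) t n) (t ^ n) (pow_mem_condIdeal B t n)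
    (condIdeal_sq_le t n hinj hsub)
  let e : Spec (CommRingCat.of B) ≅
      Spec (CommRingCat.of (BlowUp.affineAlgebra A (condIdeal (B := B) t n) (t ^ n))) :=
    Scheme.Spec.mapIso (affineAlgebraEquiv t n hinj hsub hnz).toCommRingCatIso.op
  have h1 := Groth.Agent.Lib.Seat82.BlowUpDominate.isBlowUp_iso_comp _ _ h0 e
  have h2 : e.hom ≫ chartMap (condIdeal (B := B) t n) (t ^ n) =
      Spec.map (CommRingCat.ofHom (algebraMap A B)) := by
    show Spec.map _ ≫ Spec.map _ = _
    rw [← Spec.map_comp]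
    congr 1
    ext x
    exact toB_algebraMap t n hnz x
  rwa [h2] at h1

end algebra

end Groth.Agent.Lib.Seat82.FiniteBlowUp
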