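import Mathlib
import Groth.Prelude.Def_BlowUp2
import Groth.Prelude.Def_CurvBase
import Groth.Agent.Lib.Seat82FiniteBlowUp
import Groth.Agent.Lib.Seat82CartierCompl
import Groth.Agent.Lib.Seat82BlowUpLocalCover
import Groth.Agent.Lib.Seat82BlowUpFlatGeom

/-!
# A finite morphism which is an isomorphism off an effective Cartier divisor, with dense preimage of the
complement and reduced source, is a blow-up (helper82)

Namespace `Groth.Agent.Lib.Seat82.FiniteBlowUpGeom`.
-/

set_option autoImplicit false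
set_option linter.unusedSectionVars false
set_option linter.style.haveILetI false
universe u
open CategoryTheory CategoryTheory.Limits AlgebraicGeometry Opposite TopologicalSpace nonZeroDivisors

namespace Groth.Agent.Lib.Seat82.FiniteBlowUpGeom

open Groth.Agent.Lib.Seat82.FiniteBlowUp Groth.Agent.Lib.Seat82.CartierCompl
  Groth.Agent.Lib.Seat82.BlowUpLocalCover Groth.Agent.Lib.Seat82.BlowUpFlatGeom
  Groth.Agent.Lib.Seat82.BlowUpRestrict Groth.Agent.Lib.Helper20 Scheme.IdealSheafData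

section app

variable {X Y : Scheme.{u}} (f : X ⟶ Y)

theorem isIso_app_of_eq {D D' : Y.Opens} (h : D' = D) (hD' : IsIso (f.app D')) : IsIso (f.app D) := by
  subst h
  exact hD'

/-- if `f` is an isomorphism over the open `W`, then `f.app D` is an isomorphism for `D ≤ W`. -/
theorem isIso_app_of_isIso_morphismRestrict (W : Y.Opens) [IsIso (f ∣_ W)] (D : Y.Opens)
    (hD : D ≤ W) : IsIso (f.app D) := by
  have h1 : IsIso ((f ∣_ W).app (W.ι ⁻¹ᵁ D)) := inferInstance
  rw [morphismRestrict_app] at h1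
  have h2 : IsIso (f.app (W.ι ''ᵁ (W.ι ⁻¹ᵁ D))) := by
    have h3 : IsIso (X.presheaf.map (eqToHom
        (image_morphismRestrict_preimage f W (W.ι ⁻¹ᵁ D))).op) := inferInstance
    exact @IsIso.of_isIso_comp_right _ _ _ _ _ _ (X.presheaf.map (eqToHom
        (image_morphismRestrict_preimage f W (W.ι ⁻¹ᵁ D))).op) h3 h1
  refine isIso_app_of_eq f ?_ h2
  rw [Scheme.Hom.image_preimage_eq_opensRange_inf, Scheme.Opens.opensRange_ι]
  exact inf_eq_right.2 hD

end app

section loc

variable {X Y : Scheme.{u}} [IsReduced X] (f : X ⟶ Y) [IsFinite f] (L : Y.IdealSheafData)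
  (hiso : IsIso (f ∣_ L.support.compl))
  (hdense : Dense (f.base ⁻¹' ((L.support : Set Y)ᶜ)))
  (U : Y.affineOpens) (t : Γ(Y, U.1)) (ht : t ∈ Γ(Y, U.1)⁰) (hLU : L.ideal U = Ideal.span {t})

include hLU in
theorem basicOpen_eq_inf : Y.basicOpen t = L.support.compl ⊓ U.1 :=
  (inf_eq_basicOpen (W := L.support.compl) rfl U t hLU).symm

/-- restriction `Γ(X, f⁻¹U) → Γ(X, f⁻¹D(t))`. -/
noncomputable abbrev resX : Γ(X, f ⁻¹ᵁ U.1) ⟶ Γ(X, f ⁻¹ᵁ Y.basicOpen t) :=
  X.presheaf.map (homOfLE (f.preimage_mono (Y.basicOpen_le t))).op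

/-- restriction `Γ(Y, U) → Γ(Y, D(t))`. -/
noncomputable abbrev resY : Γ(Y, U.1) ⟶ Γ(Y, Y.basicOpen t) :=
  Y.presheaf.map (homOfLE (Y.basicOpen_le t)).op

omit [IsReduced X] [IsFinite f] in
theorem resY_app : resY U t ≫ f.app (Y.basicOpen t) = f.app U.1 ≫ resX f U t :=
  f.naturality (homOfLE (Y.basicOpen_le t)).op

include hdense hLU in
theorem resX_injective : Function.Injective (resX f U t).hom := by
  rw [injective_iff_map_eq_zero]
  intro b hb
  rw [← basicOpen_eq_bot_iff]
  have h1 : X.basicOpen ((resX f U t).hom b) = ⊥ := by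
    rw [hb]
    exact Scheme.basicOpen_zero _ _
  rw [Scheme.basicOpen_res] at h1
  by_contra hne
  have hne' : (X.basicOpen b : Set X).Nonempty := by
    rw [Set.nonempty_iff_ne_empty]
    intro h
    exact hne (Opens.ext h)
  obtain ⟨x, hxb, hxW⟩ := hdense.inter_open_nonempty _ (X.basicOpen b).2 hne'
  have hxU : f x ∈ U.1 := X.basicOpen_le b hxb
  have hx : x ∈ f ⁻¹ᵁ Y.basicOpen t ⊓ X.basicOpen b := by
    refine ⟨?_, hxb⟩
    show f x ∈ Y.basicOpen t
    rw [basicOpen_eq_inf L U t hLU]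
    exact ⟨hxW, hxU⟩
  rw [h1] at hx
  exact hx

include hiso hLU in
theorem bijective_app_basicOpen : Function.Bijective (f.app (Y.basicOpen t)).hom := by
  have : IsIso (f.app (Y.basicOpen t)) :=
    isIso_app_of_isIso_morphismRestrict f L.support.compl _
      (by rw [basicOpen_eq_inf L U t hLU]; exact inf_le_left)
  exact (ConcreteCategory.isIso_iff_bijective (f.app (Y.basicOpen t))).mp this

include ht in
theorem resY_injective : Function.Injective (resY U t).hom := by
  have inst := U.2.isLocalization_basicOpen t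
  have h1 : (resY U t).hom = algebraMap _ _ := rfl
  rw [h1]
  refine IsLocalization.injective (M := Submonoid.powers t) _ ?_
  exact Submonoid.powers_le.2 ht

theorem isUnit_resY : IsUnit ((resY U t).hom t) := by
  have inst := U.2.isLocalization_basicOpen t
  exact IsLocalization.Away.algebraMap_isUnit t

include hiso hLU ht in
theorem app_injective : Function.Injective (f.app U.1).hom := by
  rw [injective_iff_map_eq_zero]
  intro a ha
  apply resY_injective U t ht
  apply (bijective_app_basicOpen f L hiso U t hLU).1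
  have h := congrArg (fun g => g.hom a) (resY_app f U t)
  simp only [CommRingCat.hom_comp, RingHom.comp_apply] at h
  rw [h, ha, map_zero, map_zero, map_zero]

include hiso hdense hLU in
theorem app_mem_nonZeroDivisors : (f.app U.1).hom t ∈ Γ(X, f ⁻¹ᵁ U.1)⁰ := by
  rw [mem_nonZeroDivisors_iff_right]
  intro b hb
  apply resX_injective f L hdense U t hLU
  rw [map_zero]
  have h := congrArg (fun g => g.hom t) (resY_app f U t)
  simp only [CommRingCat.hom_comp, RingHom.comp_apply] at h
  have hu : IsUnit ((resX f U t).hom ((f.app U.1).hom t)) := by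
    rw [← h]
    exact (isUnit_resY U t).map _
  have h2 : (resX f U t).hom b * (resX f U t).hom ((f.app U.1).hom t) = 0 := by
    rw [← map_mul, hb, map_zero]
  exact (hu.mul_left_eq_zero).1 h2

include hiso hdense hLU in
theorem exists_app_eq_mul_pow (b : Γ(X, f ⁻¹ᵁ U.1)) :
    ∃ (k : ℕ) (a : Γ(Y, U.1)), (f.app U.1).hom a = b * (f.app U.1).hom t ^ k := by
  have inst := U.2.isLocalization_basicOpen t
  obtain ⟨c, hc⟩ := (bijective_app_basicOpen f L hiso U t hLU).2 ((resX f U t).hom b)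
  obtain ⟨k, a, hka⟩ := IsLocalization.Away.surj t c
  refine ⟨k, a, ?_⟩
  apply resX_injective f L hdense U t hLU
  have h : ∀ z, (f.app (Y.basicOpen t)).hom ((resY U t).hom z) =
      (resX f U t).hom ((f.app U.1).hom z) := fun z => by
    have := congrArg (fun g => g.hom z) (resY_app f U t)
    simpa only [CommRingCat.hom_comp, RingHom.comp_apply] using this
  have hka' : c * (resY U t).hom t ^ k = (resY U t).hom a := hka
  rw [← h, ← hka', map_mul, map_pow, hc, h, map_mul, map_pow]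

/-- the `A`-submodule `{b | b tⁿ ∈ A}` of `B`, for a ring map `φ : A → B`. -/
def subPow {A B : Type u} [CommRing A] [CommRing B] (φ : A →+* B) (s : B) (n : ℕ) :
    letI := φ.toAlgebra; Submodule A B :=
  letI := φ.toAlgebra
  { carrier := {b | ∃ a : A, φ a = b * s ^ n}
    zero_mem' := ⟨0, by rw [map_zero, zero_mul]⟩
    add_mem' := by
      rintro b b' ⟨a, ha⟩ ⟨a', ha'⟩
      exact ⟨a + a', by rw [map_add, ha, ha', add_mul]⟩
    smul_mem' := by
      rintro c b ⟨a, ha⟩
      refine ⟨c * a, ?_⟩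
      rw [map_mul, ha, Algebra.smul_def, mul_assoc]
      rfl }

include hiso hdense hLU in
theorem exists_forall_app_eq_mul_pow :
    ∃ n₀ : ℕ, ∀ n, n₀ ≤ n → ∀ b : Γ(X, f ⁻¹ᵁ U.1),
      ∃ a : Γ(Y, U.1), (f.app U.1).hom a = b * (f.app U.1).hom t ^ n := by
  have hfin : (f.app U.1).hom.Finite := f.finite_app U.1 U.2
  letI := (f.app U.1).hom.toAlgebra
  obtain ⟨gens, hgens⟩ := (Module.Finite.fg_top (R := Γ(Y, U.1)) (M := Γ(X, f ⁻¹ᵁ U.1)) (self := hfin))
  choose k a hka using exists_app_eq_mul_pow f L hiso hdense U t hLU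
  refine ⟨gens.sup k, fun n hn b => ?_⟩
  have hle : Submodule.span Γ(Y, U.1) (gens : Set Γ(X, f ⁻¹ᵁ U.1)) ≤
      subPow (f.app U.1).hom ((f.app U.1).hom t) n := by
    rw [Submodule.span_le]
    intro g hg
    have hkg : k g ≤ n := (Finset.le_sup (f := k) hg).trans hn
    refine ⟨t ^ (n - k g) * a g, ?_⟩
    rw [map_mul, hka, map_pow]
    calc (f.app U.1).hom t ^ (n - k g) * (g * (f.app U.1).hom t ^ k g)
        = g * ((f.app U.1).hom t ^ (n - k g) * (f.app U.1).hom t ^ k g) := by ring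
      _ = g * (f.app U.1).hom t ^ n := by rw [← pow_add, Nat.sub_add_cancel hkg]
  rw [hgens] at hle
  exact hle (Submodule.mem_top (x := b))

end loc

section glob

variable {X Y : Scheme.{u}} (f : X ⟶ Y) [IsFinite f] (L : Y.IdealSheafData)

/-- the ideal `{a | a ∈ Lⁿ O_X}` of `O_Y`. -/
noncomputable def condSheaf (n : ℕ) : Y.IdealSheafData := ((L ^ n).comap f).map f

theorem condSheaf_ideal (n : ℕ) {U : Y.Opens} (hU : IsAffineOpen U) (t : Γ(Y, U))
    (hLU : L.ideal ⟨U, hU⟩ = Ideal.span {t}) :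
    (condSheaf f L n).ideal ⟨U, hU⟩ =
      Ideal.comap (f.app U).hom (Ideal.span {(f.app U).hom t ^ n}) := by
  unfold condSheaf
  rw [ideal_map_of_isAffineHom, EffCartier.ideal_comap_eq_map f (L ^ n) (hU.preimage f) hU le_rfl]
  have h1 : (L ^ n).ideal ⟨U, hU⟩ = (L.ideal ⟨U, hU⟩) ^ n := rfl
  rw [h1, hLU, Ideal.span_singleton_pow, Ideal.map_span, Set.image_singleton, map_pow,
    Scheme.Hom.appLE_eq_app]

theorem isoSpec_inv_morphismRestrict {U : Y.Opens} (hU : IsAffineOpen U) :
    (hU.preimage f).isoSpec.inv ≫ (f ∣_ U) = Spec.map (f.app U) ≫ hU.isoSpec.inv := by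
  rw [← cancel_mono U.ι, Category.assoc, Category.assoc, morphismRestrict_ι]
  have h1 : (hU.preimage f).isoSpec.inv ≫ (f ⁻¹ᵁ U).ι ≫ f = (hU.preimage f).fromSpec ≫ f := by
    rw [← Category.assoc]
    rfl
  have h2 : Spec.map (f.app U) ≫ hU.isoSpec.inv ≫ U.ι = Spec.map (f.app U) ≫ hU.fromSpec := rfl
  rw [h1, h2, ← Scheme.Hom.appLE_eq_app,
    IsAffineOpen.SpecMap_appLE_fromSpec f hU (hU.preimage f) le_rfl]

theorem isPullback_specMap_app {U : Y.Opens} (hU : IsAffineOpen U) :
    IsPullback (Spec.map (f.app U) ≫ hU.isoSpec.inv) (hU.preimage f).fromSpec U.ι f := by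
  refine (isPullback_morphismRestrict f U).of_iso' (hU.preimage f).isoSpec.symm (Iso.refl _)
    (Iso.refl _) (Iso.refl _) ?_ ?_ ?_ ?_
  · rw [Iso.refl_hom, Category.comp_id, Iso.symm_hom]
    exact isoSpec_inv_morphismRestrict f hU
  · rw [Iso.refl_hom, Category.comp_id, Iso.symm_hom]
    rfl
  · rw [Iso.refl_hom, Iso.refl_hom, Category.comp_id, Category.id_comp]
  · rw [Iso.refl_hom, Iso.refl_hom, Category.comp_id, Category.id_comp]

theorem dense_compl_support (hL : BlowUp.IsEffCartierIdeal L) :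
    Dense ((L.support : Set Y)ᶜ) := by
  obtain ⟨W, hW⟩ : ∃ W : Y.Opens, (W : Set Y) = (L.support : Set Y)ᶜ := ⟨L.support.compl, rfl⟩
  have : IsAffineHom W.ι := isAffineHom_ι hL hW
  have h1 := Scheme.Hom.support_ker W.ι
  rw [ker_ι_eq_bot hL hW, support_bot, Scheme.Opens.range_ι] at h1
  rw [← hW, dense_iff_closure_eq]
  exact h1.symm

theorem surjective_of_isIso (hL : BlowUp.IsEffCartierIdeal L)
    (hiso : IsIso (f ∣_ L.support.compl)) : Function.Surjective f := by
  have hcl : IsClosed (Set.range f) := f.isClosedMap.isClosed_range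
  have hsub : (L.support : Set Y)ᶜ ⊆ Set.range f := by
    intro y hy
    have hs : Function.Surjective (f ∣_ L.support.compl) :=
      ((TopCat.homeoOfIso (Scheme.forgetToTop.mapIso (asIso (f ∣_ L.support.compl)))).surjective)
    obtain ⟨x, hx⟩ := hs ⟨y, hy⟩
    refine ⟨x.1, ?_⟩
    rw [← morphismRestrict_base_coe, hx]
  have hd : Dense (Set.range f) := (dense_compl_support L hL).mono hsub
  rw [← Set.range_eq_univ, ← hcl.closure_eq, hd.closure_eq]

theorem support_condSheaf (hL : BlowUp.IsEffCartierIdeal L)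
    (hiso : IsIso (f ∣_ L.support.compl)) (n : ℕ) (hn : n ≠ 0) :
    (condSheaf f L n).support = L.support := by
  unfold condSheaf
  rw [support_map, support_comap, support_pow _ _ hn]
  ext1
  rw [Closeds.coe_closure, Closeds.coe_preimage,
    Set.image_preimage_eq _ (surjective_of_isIso f L hL hiso)]
  exact L.support.isClosed.closure_eq

/-- ring-hom form of `isBlowUp_specMap`. -/
theorem isBlowUp_specMap' {A B : Type u} [CommRing A] [CommRing B] (φ : A →+* B) (t : A) (n : ℕ)
    (hinj : Function.Injective φ) (hsub : ∀ b : B, ∃ a : A, φ a = b * φ t ^ n) (hnz : φ t ∈ B⁰) :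
    BlowUp.IsBlowUp (Spec.map (CommRingCat.ofHom φ))
      (Curv2.idealSheaf A (Ideal.comap φ (Ideal.span {φ t ^ n}))) := by
  letI := φ.toAlgebra
  exact isBlowUp_specMap (B := B) t n hinj hsub hnz

theorem isBlowUp_local [IsReduced X] (hiso : IsIso (f ∣_ L.support.compl))
    (hdense : Dense (f.base ⁻¹' ((L.support : Set Y)ᶜ)))
    {U : Y.Opens} (hU : IsAffineOpen U) (t : Γ(Y, U)) (ht : t ∈ Γ(Y, U)⁰)
    (hLU : L.ideal ⟨U, hU⟩ = Ideal.span {t}) (n : ℕ)
    (hsub : ∀ b : Γ(X, f ⁻¹ᵁ U), ∃ a : Γ(Y, U), (f.app U).hom a = b * (f.app U).hom t ^ n) :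
    BlowUp.IsBlowUp (Spec.map (f.app U) ≫ hU.isoSpec.inv) ((condSheaf f L n).comap U.ι) := by
  have h0 := isBlowUp_specMap' (f.app U).hom t n
    (app_injective f L hiso ⟨U, hU⟩ t ht hLU) hsub
    (app_mem_nonZeroDivisors f L hiso hdense ⟨U, hU⟩ t hLU)
  rw [← condSheaf_ideal f L n hU t hLU, ← comap_fromSpec] at h0
  have h1 := isBlowUp_comp_iso _ _ h0 hU.isoSpec.symm
  have h2 : ((condSheaf f L n).comap hU.fromSpec).comap hU.isoSpec.symm.inv =
      (condSheaf f L n).comap U.ι := by
    rw [← comap_comp]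
    congr 1
    show hU.isoSpec.hom ≫ hU.isoSpec.inv ≫ U.ι = _
    rw [Iso.hom_inv_id_assoc]
  rw [h2] at h1
  exact h1

/-- **A finite morphism of reduced schemes which is an isomorphism off an effective Cartier divisor `V(L)`
of the (quasi-compact) target, with dense preimage of the complement, is a blow-up in an ideal with
support `V(L)`.** -/
theorem exists_isBlowUp [IsReduced X] [CompactSpace Y] (hL : BlowUp.IsEffCartierIdeal L)
    (hiso : IsIso (f ∣_ L.support.compl))
    (hdense : Dense (f.base ⁻¹' ((L.support : Set Y)ᶜ))) :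
    ∃ I : Y.IdealSheafData, I.support = L.support ∧ BlowUp.IsBlowUp f I := by
  choose U hyU t ht hLU using hL
  choose n₀ hn₀ using fun y =>
    exists_forall_app_eq_mul_pow f L hiso hdense (U y) (t y) (hLU y)
  obtain ⟨s, -, hs⟩ := isCompact_univ.elim_nhds_subcover (fun y => ((U y).1 : Set Y))
    (fun y _ => (U y).1.2.mem_nhds (hyU y))
  set n := s.sup n₀ + 1 with hn
  refine ⟨condSheaf f L n, support_condSheaf f L (fun y => ⟨U y, hyU y, t y, ht y, hLU y⟩) hiso n
    (Nat.succ_ne_zero _), ?_⟩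
  have hV : ⨆ i : s, (U i.1).1 = ⊤ := by
    rw [eq_top_iff]
    intro y _
    obtain ⟨z, hz, hyz⟩ := Set.mem_iUnion₂.1 (hs (Set.mem_univ y))
    exact Opens.mem_iSup.2 ⟨⟨z, hz⟩, hyz⟩
  refine isBlowUp_of_openCover hV (fun i : s => isPullback_specMap_app f (U i.1).2) ?_
  intro i
  refine isBlowUp_local f L hiso hdense (U i.1).2 (t i.1) (ht i.1) (hLU i.1) n ?_
  exact hn₀ i.1 n ((Finset.le_sup (f := n₀) i.2).trans (Nat.le_succ _))

end glob

end Groth.Agent.Lib.Seat82.FiniteBlowUpGeom
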