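import Mathlib
import Groth.Prelude.Def_BlowUp2
import Groth.Prelude.Def_Coh

/-!
# Flat closures over a discrete valuation ring and strict transforms (helper82)

Namespace `Groth.Agent.Lib.Seat82.FlatClosure`.
* `ker_eq_of_comap_eq_bot`: if the ideal sheaf `𝒦` pulls back to zero along `h` and the base change of `h` to
  `V(𝒦)` is scheme-theoretically dominant, then `ker h = 𝒦`.
* `comap_eq_bot_of_killed`: an ideal sheaf of sections killed by powers of `E` pulls back to zero along any
  morphism missing `V(E)`.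
* `isEffCartierIdeal_of_generic_notMem`: an ideal sheaf on the spectrum of a principal ideal domain whose support
  misses the generic point is effective Cartier.
* `isSchemeTheoreticallyDominant_Spec_map`: `Spec` of an injective ring map is scheme-theoretically dominant.
* `ker_pullback_map_eq_comap`: the flat closure statement at the level of morphisms: for `η : K ⟶ T`
  scheme-theoretically dominant and quasi-compact with `𝓘.comap (η ≫ f) = ⊤`, and `f = f' ≫ b`, the kernel of
  `Z ×_S K ⟶ Z ×_S T` is the pullback of the strict-transform ideal `𝒥` (flat over `S'`) along `Z ×_S T ⟶ Z ×_S S'`.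
-/

set_option autoImplicit false
universe u
open CategoryTheory CategoryTheory.Limits AlgebraicGeometry TopologicalSpace nonZeroDivisors

namespace Groth.Agent.Lib.Seat82.FlatClosure

open Scheme.IdealSheafData

section ker

variable {Y X : Scheme.{u}} (h : Y ⟶ X) (𝒦 : X.IdealSheafData)

/-- If `𝒦` pulls back to zero along `h` and the base change of `h` to `V(𝒦)` is scheme-theoretically dominant,
then `ker h = 𝒦`. -/
theorem ker_eq_of_comap_eq_bot (h0 : 𝒦.comap h = ⊥)
    (hdom : IsSchemeTheoreticallyDominant (pullback.snd h 𝒦.subschemeι)) : h.ker = 𝒦 := by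
  have h1 : (pullback.fst h 𝒦.subschemeι).ker = ⊥ := h0
  have : IsIso (pullback.fst h 𝒦.subschemeι) := IsClosedImmersion.isIso_iff_ker_eq_bot.mpr h1
  rw [← Scheme.Hom.ker_comp_of_isIso (pullback.fst h 𝒦.subschemeι) h, pullback.condition,
    Scheme.Hom.ker_comp, (pullback.snd h 𝒦.subschemeι).ker_eq_bot, map_bot, ker_subschemeι]

end ker

section killed

variable {P Y : Scheme.{u}} (E 𝒥 : P.IdealSheafData)
  (h𝒥 : ∀ (V : P.affineOpens) (a : Γ(P, V.1)), a ∈ 𝒥.ideal V ↔
    BlowUp.KilledByPowerNear E (Coh.structureModule P) V a)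

include h𝒥 in
theorem ideal_eq_bot_of_ideal_eq_top (V : P.affineOpens) (hV : E.ideal V = ⊤) : 𝒥.ideal V = ⊥ := by
  rw [eq_bot_iff]
  intro a ha
  obtain ⟨n, hn⟩ := (h𝒥 V a).1 ha
  have h1 : (1 : Γ(P, V.1)) ∈ (E ^ n).ideal V := by
    rw [ideal_pow, Pi.pow_apply, hV, Ideal.top_pow]
    trivial
  have h2 := hn 1 h1
  exact (one_smul _ _).symm.trans h2

include h𝒥 in
/-- the ideal of sections killed by powers of `E` pulls back to zero along a morphism missing `V(E)`. -/
theorem comap_eq_bot_of_killed (k : Y ⟶ P) (hk : E.comap k = ⊤) : 𝒥.comap k = ⊥ := by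
  set O : P.Opens := E.support.compl with hO
  have hrange : Set.range k ⊆ Set.range O.ι := by
    rintro _ ⟨y, rfl⟩
    rw [Scheme.Opens.range_ι]
    have h1 : (E.comap k).support = ⊥ := by rw [hk, support_top]
    rw [support_comap] at h1
    intro hy
    have : y ∈ ((E.support.preimage k.continuous : Closeds Y) : Set Y) := hy
    rw [h1] at this
    exact this
  have hfac : IsOpenImmersion.lift O.ι k hrange ≫ O.ι = k := IsOpenImmersion.lift_fac _ _ _
  have hEO : E.comap O.ι = ⊤ := by
    rw [← support_eq_bot_iff, support_comap]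
    ext1
    rw [Closeds.coe_preimage, Closeds.coe_bot, Set.eq_empty_iff_forall_notMem]
    rintro ⟨x, hx⟩ hx'
    exact hx hx'
  have hJO : 𝒥.comap O.ι = ⊥ := by
    rw [eq_bot_iff]
    intro V
    rw [ideal_comap_of_isOpenImmersion]
    have hE1 := congrArg (fun I => I.ideal V) hEO
    simp only [ideal_comap_of_isOpenImmersion] at hE1
    have hE2 : E.ideal ⟨O.ι ''ᵁ V.1, V.2.image_of_isOpenImmersion O.ι⟩ = ⊤ := by
      rw [Ideal.eq_top_iff_one]
      have : (1 : Γ(O.toScheme, V.1)) ∈ Ideal.comap (O.ι.appIso V.1).inv.hom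
          (E.ideal ⟨O.ι ''ᵁ V.1, V.2.image_of_isOpenImmersion O.ι⟩) := by
        rw [hE1]
        trivial
      rw [Ideal.mem_comap, map_one] at this
      exact this
    rw [ideal_eq_bot_of_ideal_eq_top E 𝒥 h𝒥 _ hE2]
    intro a ha
    rw [Ideal.mem_comap, Ideal.mem_bot] at ha
    have hinj : Function.Injective (O.ι.appIso V.1).inv.hom :=
      (ConcreteCategory.bijective_of_isIso (O.ι.appIso V.1).inv).1
    exact hinj (by rw [ha, map_zero])
  rw [← hfac, comap_comp, hJO, comap_bot]

end killed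


theorem isEffCartierIdeal_of_generic_notMem {R : Type u} [CommRing R] [IsDomain R] [IsPrincipalIdealRing R]
    (𝓚 : (Spec (CommRingCat.of R)).IdealSheafData)
    (h : (⟨⊥, Ideal.isPrime_bot⟩ : Spec (CommRingCat.of R)) ∉ (𝓚.support : Set (Spec (CommRingCat.of R)))) :
    BlowUp.IsEffCartierIdeal 𝓚 := by
  intro x
  refine ⟨⟨⊤, isAffineOpen_top _⟩, trivial, ?_⟩
  let e : R ≃+* Γ(Spec (CommRingCat.of R), ⊤) :=
    (Scheme.ΓSpecIso (CommRingCat.of R)).symm.commRingCatIsoToRingEquiv
  have : IsPrincipalIdealRing Γ(Spec (CommRingCat.of R), ⊤) :=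
    IsPrincipalIdealRing.of_surjective e.toRingHom e.surjective
  have : IsDomain Γ(Spec (CommRingCat.of R), ⊤) := e.symm.toMulEquiv.isDomain _
  obtain ⟨c, hc⟩ := (IsPrincipalIdealRing.principal (𝓚.ideal ⟨⊤, isAffineOpen_top _⟩)).principal
  refine ⟨c, ?_, hc⟩
  apply mem_nonZeroDivisors_of_ne_zero
  rintro rfl
  apply h
  have h1 : 𝓚 = ⊥ := by
    apply Scheme.IdealSheafData.ext_of_isAffine
    rw [hc]
    simp
  rw [h1, support_bot]
  trivial


theorem isSchemeTheoreticallyDominant_Spec_map {A B : CommRingCat.{u}} (φ : A ⟶ B)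
    (hφ : Function.Injective φ.hom) : IsSchemeTheoreticallyDominant (Spec.map φ) := by
  have hinj : Function.Injective (Spec.map φ).appTop.hom := by
    have h1 : (Spec.map φ).appTop = (Scheme.ΓSpecIso A).hom ≫ φ ≫ (Scheme.ΓSpecIso B).inv := by
      rw [← Category.assoc, ← Scheme.ΓSpecIso_naturality, Category.assoc, Iso.hom_inv_id, Category.comp_id]
    rw [h1]
    simp only [CommRingCat.hom_comp, RingHom.coe_comp]
    exact ((ConcreteCategory.bijective_of_isIso (Scheme.ΓSpecIso B).inv).1.comp hφ).comp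
      (ConcreteCategory.bijective_of_isIso (Scheme.ΓSpecIso A).hom).1
  refine ⟨Scheme.IdealSheafData.ext_of_isAffine ?_⟩
  rw [(Spec.map φ).ker_apply ⟨⊤, isAffineOpen_top _⟩]
  exact (RingHom.injective_iff_ker_eq_bot _).1 hinj

section main

variable {Z S S' T Kk : Scheme.{u}} (q : Z ⟶ S) (b : S' ⟶ S) (𝓘 : S.IdealSheafData)
  (𝒥 : (pullback q b).IdealSheafData)
  (h𝒥 : ∀ (V : (pullback q b).affineOpens) (a : Γ(pullback q b, V.1)), a ∈ 𝒥.ideal V ↔
    BlowUp.KilledByPowerNear ((𝓘.comap q).comap (pullback.fst q b)) (Coh.structureModule (pullback q b)) V a)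
  [Flat (𝒥.subschemeι ≫ pullback.snd q b)]
  (f : T ⟶ S) (η : Kk ⟶ T) [IsSchemeTheoreticallyDominant η] [QuasiCompact η]
  (hη : 𝓘.comap (η ≫ f) = ⊤) (f' : T ⟶ S') (hf' : f' ≫ b = f)

include h𝒥 hη hf' in
theorem ker_pullback_map_eq_comap
    (e1 : q ≫ 𝟙 S = 𝟙 Z ≫ q) (e2 : (η ≫ f) ≫ 𝟙 S = η ≫ f) (e3 : q ≫ 𝟙 S = 𝟙 Z ≫ q) (e4 : f ≫ 𝟙 S = f' ≫ b) :
    (pullback.map q (η ≫ f) q f (𝟙 Z) η (𝟙 S) e1 e2).ker =
      𝒥.comap (pullback.map q f q b (𝟙 Z) f' (𝟙 S) e3 e4) := by
  set h := pullback.map q (η ≫ f) q f (𝟙 Z) η (𝟙 S) e1 e2 with hh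
  set g := pullback.map q f q b (𝟙 Z) f' (𝟙 S) e3 e4 with hg
  have hfst : h ≫ pullback.fst q f = pullback.fst q (η ≫ f) := by
    rw [hh, pullback.lift_fst, Category.comp_id]
  have hsnd : h ≫ pullback.snd q f = pullback.snd q (η ≫ f) ≫ η := by
    rw [hh, pullback.lift_snd]
  have gfst : g ≫ pullback.fst q b = pullback.fst q f := by
    rw [hg, pullback.lift_fst, Category.comp_id]
  have gsnd : g ≫ pullback.snd q b = pullback.snd q f ≫ f' := by
    rw [hg, pullback.lift_snd]
  -- square B
  have sqB : IsPullback h (pullback.snd q (η ≫ f)) (pullback.snd q f) η := by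
    refine IsPullback.of_right ?_ hsnd (IsPullback.of_hasPullback q f)
    rw [hfst]
    exact IsPullback.of_hasPullback q (η ≫ f)
  -- square C
  have sqC : IsPullback g (pullback.snd q f) (pullback.snd q b) f' := by
    refine IsPullback.of_right ?_ gsnd (IsPullback.of_hasPullback q b)
    rw [gfst, hf']
    exact IsPullback.of_hasPullback q f
  apply ker_eq_of_comap_eq_bot
  · rw [← comap_comp]
    apply comap_eq_bot_of_killed _ 𝒥 h𝒥
    rw [← comap_comp, ← comap_comp]
    have : ((h ≫ g) ≫ pullback.fst q b) ≫ q = pullback.snd q (η ≫ f) ≫ η ≫ f := by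
      rw [Category.assoc, Category.assoc, reassoc_of% gfst, reassoc_of% hfst, pullback.condition]
    rw [this, comap_comp, hη]
    rw [← support_eq_bot_iff, support_comap, support_top]
    rfl
  · have hflat : Flat ((𝒥.comap g).subschemeι ≫ pullback.snd q f) := by
      have sqD := (IsPullback.of_hasPullback g 𝒥.subschemeι).flip.paste_vert sqC
      have h1 : Flat (pullback.fst g 𝒥.subschemeι ≫ pullback.snd q f) :=
        MorphismProperty.of_isPullback (P := @Flat) sqD inferInstance
      rw [← comapIso_hom_fst, Category.assoc]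
      infer_instance
    have sqA := ((IsPullback.of_hasPullback h (𝒥.comap g).subschemeι).flip.paste_vert sqB).flip
    exact IsSchemeTheoreticallyDominant.of_isPullback sqA

end main

end Groth.Agent.Lib.Seat82.FlatClosure
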