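import Mathlib

/-!
# Irreducibility of the total space of a flat morphism with irreducible generic fibre (seat 82)

Namespace `Groth.Agent.Lib.Seat82.GeomIrr`.
* `irreducibleSpace_of_generalizingMap`: topological lemma.
* `irreducibleSpace_of_flat_of_fiber_genericPoint`: `f : X ⟶ C` flat, `C` irreducible and the fibre over the generic
  point irreducible, then `X` is irreducible.
* `isPullback_fst_map`: the square `W ×_S T ⟶ X ×_S T`, `W ⟶ X` is cartesian.
* `map_genericPoint_of_flat`: a flat morphism of irreducible schemes maps the generic point to the generic point.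
-/

set_option autoImplicit false
universe u
open CategoryTheory CategoryTheory.Limits AlgebraicGeometry

namespace Groth.Agent.Lib.Seat82.GeomIrr

/-- If `f` lifts generalizations, `η` is a generic point of `Y` and `f ⁻¹' {η}` is irreducible, then `X` is
irreducible (for `X` quasi-sober). -/
theorem irreducibleSpace_of_generalizingMap {X Y : Type*} [TopologicalSpace X] [TopologicalSpace Y]
    [QuasiSober X] (f : X → Y) (hf : GeneralizingMap f) (η : Y) (hη : ∀ y, η ⤳ y)
    (hF : IsIrreducible (f ⁻¹' {η})) : IrreducibleSpace X := by
  have hcl : closure (f ⁻¹' {η}) = Set.univ := by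
    rw [Set.eq_univ_iff_forall]
    intro x
    obtain ⟨ξ, hξ⟩ := QuasiSober.sober (isIrreducible_irreducibleComponent (x := x))
      isClosed_irreducibleComponent
    obtain ⟨ξ', hξ'ξ, hfξ'⟩ := hf (hη (f ξ))
    have hx : x ∈ closure ({ξ} : Set X) := by
      rw [hξ.def]; exact mem_irreducibleComponent
    have h1 : closure ({ξ} : Set X) ⊆ closure ({ξ'} : Set X) := by
      apply closure_minimal _ isClosed_closure
      rw [Set.singleton_subset_iff]
      exact hξ'ξ.mem_closure
    have h2 : closure ({ξ'} : Set X) ⊆ closure (f ⁻¹' {η}) := by
      apply closure_mono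
      rw [Set.singleton_subset_iff]
      exact hfξ'
    exact h2 (h1 hx)
  have := hF.closure
  rw [hcl] at this
  exact (irreducibleSpace_def X).mpr this

/-- A flat morphism to an irreducible scheme whose generic fibre is irreducible has irreducible source. -/
theorem irreducibleSpace_of_flat_of_fiber_genericPoint {X C : Scheme.{u}} (f : X ⟶ C) [Flat f]
    [IrreducibleSpace C] [IrreducibleSpace (f.fiber (genericPoint C))] : IrreducibleSpace X := by
  refine irreducibleSpace_of_generalizingMap f (Flat.generalizingMap f) (genericPoint C)
    (fun y => genericPoint_specializes y) ?_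
  rw [← f.range_fiberι, ← Set.image_univ]
  exact (IrreducibleSpace.isIrreducible_univ _).image _ (f.fiberι _).continuous.continuousOn

/-- A generalizing continuous map between irreducible quasi-sober T0 spaces preserves the generic point. -/
theorem map_genericPoint_of_flat {X C : Scheme.{u}} (g : X ⟶ C) [Flat g]
    [IrreducibleSpace X] [IrreducibleSpace C] : g (genericPoint X) = genericPoint C := by
  obtain ⟨z, hz, hgz⟩ := Flat.generalizingMap g (genericPoint_specializes (g (genericPoint X)))
  have h1 : genericPoint X ⤳ z := genericPoint_specializes z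
  have h2 : z = genericPoint X := (hz.antisymm h1).eq
  rw [← hgz, h2]

/-- the comparison map `W ×_S T ⟶ X ×_S T` is the base change of `ι : W ⟶ X`. -/
theorem isPullback_fst_map {W X S T : Scheme.{u}} (h : W ⟶ S) (ι : W ⟶ X) (f : X ⟶ S) (t : T ⟶ S)
    (e : ι ≫ f = h) :
    IsPullback (pullback.fst h t)
      (pullback.map h t f t ι (𝟙 T) (𝟙 S) (by rw [Category.comp_id, e])
        ((Category.comp_id _).trans (Category.id_comp _).symm))
      ι (pullback.fst f t) := by
  subst e
  apply IsPullback.flip
  refine IsPullback.of_right (h₁₂ := pullback.snd f t) (h₂₂ := f) (v₁₃ := t) ?_ ?_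
    (IsPullback.of_hasPullback f t).flip
  · have h : pullback.map (ι ≫ f) t f t ι (𝟙 T) (𝟙 S) (by rw [Category.comp_id])
        ((Category.comp_id _).trans (Category.id_comp _).symm) ≫
        pullback.snd f t = pullback.snd (ι ≫ f) t := by
      rw [pullback.map, pullback.lift_snd, Category.comp_id]
    rw [h]
    exact (IsPullback.of_hasPullback (ι ≫ f) t).flip
  · rw [pullback.map, pullback.lift_fst]

end Groth.Agent.Lib.Seat82.GeomIrr
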