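import Mathlib
import Groth.Prelude.Def_HTop
import Groth.Agent.Lib.Seat82HSquare

/-!
# Cartesian squares of sections over `Over S` (helper82)

Scheme-level geometry and the passage to `Over S` for the abstract lemma of `Seat82HSquare`.
-/

set_option autoImplicit false
universe w u

open CategoryTheory CategoryTheory.Limits AlgebraicGeometry Opposite

namespace Groth.Agent.Lib.Seat82.HSquareApply

open Groth.Agent.Lib.Seat82.HSquare

/-- If `f` is an isomorphism over the open complement `U` of the image of `i`, every point of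
`X ×_Y X` lies on the diagonal or over the image of `i`. -/
theorem mem_range_diagonal_or {X Y Z : Scheme.{u}} (f : X ⟶ Y) (i : Z ⟶ Y) (U : Y.Opens)
    (hU : (U : Set Y) = (Set.range i)ᶜ) [IsIso (f ∣_ U)] (x : ↥(pullback f f)) :
    x ∈ Set.range (pullback.diagonal f) ∨
      x ∈ Set.range (pullback.fst (pullback.fst f f ≫ f) i) := by
  by_cases hy : (pullback.fst f f ≫ f) x ∈ Set.range i
  · obtain ⟨z, hz⟩ := hy
    obtain ⟨w, hw, -⟩ := Scheme.Pullback.exists_preimage_pullback
      (f := pullback.fst f f ≫ f) (g := i) x z hz.symm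
    exact Or.inr ⟨w, hw⟩
  · left
    have hyU : (pullback.fst f f ≫ f) x ∈ U := by
      change (pullback.fst f f ≫ f) x ∈ (U : Set Y)
      rw [hU]; exact hy
    let V : (pullback f f).Opens := (pullback.fst f f ≫ f) ⁻¹ᵁ U
    have hxV : x ∈ V := hyU
    have hr₁ : Set.range (V.ι ≫ pullback.fst f f) ⊆ Set.range (f ⁻¹ᵁ U).ι := by
      rw [Scheme.Opens.range_ι]
      rintro _ ⟨v, rfl⟩
      have hv : V.ι v ∈ V := by
        have : V.ι v ∈ Set.range V.ι := ⟨v, rfl⟩
        rwa [Scheme.Opens.range_ι] at this
      change f ((V.ι ≫ pullback.fst f f) v) ∈ U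
      rw [Scheme.Hom.comp_apply, ← Scheme.Hom.comp_apply (pullback.fst f f) f]
      exact hv
    have hr₂ : Set.range (V.ι ≫ pullback.snd f f) ⊆ Set.range (f ⁻¹ᵁ U).ι := by
      rw [Scheme.Opens.range_ι]
      rintro _ ⟨v, rfl⟩
      have hv : V.ι v ∈ V := by
        have : V.ι v ∈ Set.range V.ι := ⟨v, rfl⟩
        rwa [Scheme.Opens.range_ι] at this
      change f ((V.ι ≫ pullback.snd f f) v) ∈ U
      rw [Scheme.Hom.comp_apply, ← Scheme.Hom.comp_apply (pullback.snd f f) f,
        ← pullback.condition]
      exact hv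
    let a := IsOpenImmersion.lift (f ⁻¹ᵁ U).ι (V.ι ≫ pullback.fst f f) hr₁
    let b := IsOpenImmersion.lift (f ⁻¹ᵁ U).ι (V.ι ≫ pullback.snd f f) hr₂
    have ha : a ≫ (f ⁻¹ᵁ U).ι = V.ι ≫ pullback.fst f f := IsOpenImmersion.lift_fac _ _ _
    have hb : b ≫ (f ⁻¹ᵁ U).ι = V.ι ≫ pullback.snd f f := IsOpenImmersion.lift_fac _ _ _
    have hab : a = b := by
      rw [← cancel_mono (f ∣_ U), ← cancel_mono U.ι, Category.assoc, Category.assoc,
        morphismRestrict_ι, ← Category.assoc, ← Category.assoc, ha, hb, Category.assoc,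
        Category.assoc, pullback.condition]
    have h12 : V.ι ≫ pullback.fst f f = V.ι ≫ pullback.snd f f := by rw [← ha, ← hb, hab]
    have hΔ : V.ι ≫ pullback.fst f f ≫ pullback.diagonal f = V.ι := by
      apply pullback.hom_ext
      · simp
      · simp [h12]
    obtain ⟨x', rfl⟩ : ∃ x' : ↥((V : (pullback f f).Opens) : Scheme.{u}), V.ι x' = x := by
      have : x ∈ Set.range V.ι := by rw [Scheme.Opens.range_ι]; exact hxV
      exact this
    refine ⟨(V.ι ≫ pullback.fst f f) x', ?_⟩
    rw [← Scheme.Hom.comp_apply, Category.assoc, hΔ]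

/-- If `f` is an isomorphism over the open complement `U` of the image of `i`, then `f` and `i` are
jointly surjective. -/
theorem mem_range_or {X Y Z : Scheme.{u}} (f : X ⟶ Y) (i : Z ⟶ Y) (U : Y.Opens)
    (hU : (U : Set Y) = (Set.range i)ᶜ) [IsIso (f ∣_ U)] (y : Y) :
    y ∈ Set.range f ∨ y ∈ Set.range i := by
  by_cases hy : y ∈ Set.range i
  · exact Or.inr hy
  · left
    have hyU : y ∈ (U : Set Y) := by rw [hU]; exact hy
    obtain ⟨y', rfl⟩ : ∃ y' : ↥((U : Y.Opens) : Scheme.{u}), U.ι y' = y := by
      have : y ∈ Set.range U.ι := by rw [Scheme.Opens.range_ι]; exact hyU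
      exact this
    have hs : Function.Surjective (f ∣_ U) :=
      (ConcreteCategory.bijective_of_isIso (f ∣_ U).base).2
    obtain ⟨x', hx'⟩ := hs y'
    refine ⟨(f ⁻¹ᵁ U).ι x', ?_⟩
    rw [← Scheme.Hom.comp_apply, ← morphismRestrict_ι, Scheme.Hom.comp_apply]
    exact congrArg _ hx'

theorem two_left_eq {S : Scheme.{u}} {X Z Y : Over S} (f : X ⟶ Y) (i : Z ⟶ Y) :
    Presieve.ofArrows (fun j => (Two.obj X Z j).left) (fun j => (Two.hom f i j).left) =
      Presieve.ofArrows (Two.obj X.left Z.left) (Two.hom f.left i.left) := by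
  funext W
  ext g
  constructor
  · rintro ⟨j⟩
    cases j
    · exact Presieve.ofArrows.mk (ι := Two) (Y := Two.obj X.left Z.left)
        (f := Two.hom f.left i.left) Two.l
    · exact Presieve.ofArrows.mk (ι := Two) (Y := Two.obj X.left Z.left)
        (f := Two.hom f.left i.left) Two.r
  · rintro ⟨j⟩
    cases j
    · exact Presieve.ofArrows.mk (ι := Two) (Y := fun j => (Two.obj X Z j).left)
        (f := fun j => (Two.hom f i j).left) Two.l
    · exact Presieve.ofArrows.mk (ι := Two) (Y := fun j => (Two.obj X Z j).left)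
        (f := fun j => (Two.hom f i j).left) Two.r

/-- The cartesian square of sections over `Over S`, from the two covering conditions. -/
theorem existsUnique_section {S : Scheme.{u}} (K : Precoverage Scheme.{u})
    (P : (Over S)ᵒᵖ ⥤ Type w) (hP : Presieve.IsSheaf (K.toGrothendieck.over S) P)
    {E Z X Y : Over S} (e : E ⟶ X) (π : E ⟶ Z) (f : X ⟶ Y) (i : Z ⟶ Y) [Mono i.left]
    (hsq : IsPullback e.left π.left f.left i.left)
    (hK₁ : Presieve.ofArrows (Two.obj X.left Z.left) (Two.hom f.left i.left) ∈ K Y.left)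
    (hK₂ : Presieve.ofArrows
      (Two.obj X.left (pullback (pullback.fst f.left f.left ≫ f.left) i.left))
      (Two.hom (pullback.diagonal f.left)
        (pullback.fst (pullback.fst f.left f.left ≫ f.left) i.left)) ∈
        K (pullback f.left f.left))
    (t : P.obj (op Z)) (s' : P.obj (op X)) (hts : P.map π.op t = P.map e.op s') :
    ∃! s : P.obj (op Y), P.map i.op s = t ∧ P.map f.op s = s' := by
  have hXw : X.hom = f.left ≫ Y.hom := (Over.w f).symm
  have hZw : Z.hom = i.left ≫ Y.hom := (Over.w i).symm
  have hEw : E.hom = e.left ≫ X.hom := (Over.w e).symm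
  let Pb : Over S := Over.mk (pullback.fst f.left f.left ≫ X.hom)
  let p₁ : Pb ⟶ X := Over.homMk (pullback.fst f.left f.left) rfl
  let p₂ : Pb ⟶ X := Over.homMk (pullback.snd f.left f.left) (by
    change pullback.snd f.left f.left ≫ X.hom = pullback.fst f.left f.left ≫ X.hom
    rw [hXw, ← Category.assoc, ← Category.assoc, pullback.condition])
  let Δ : X ⟶ Pb := Over.homMk (pullback.diagonal f.left) (by
    change pullback.diagonal f.left ≫ pullback.fst f.left f.left ≫ X.hom = X.hom
    rw [← Category.assoc, pullback.diagonal_fst, Category.id_comp])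
  let Q : Over S := Over.mk (pullback.fst (pullback.fst f.left f.left ≫ f.left) i.left ≫ Pb.hom)
  let q : Q ⟶ Pb := Over.homMk (pullback.fst (pullback.fst f.left f.left ≫ f.left) i.left) rfl
  let r : Q ⟶ Z := Over.homMk (pullback.snd (pullback.fst f.left f.left ≫ f.left) i.left) (by
    change pullback.snd (pullback.fst f.left f.left ≫ f.left) i.left ≫ Z.hom =
      pullback.fst (pullback.fst f.left f.left ≫ f.left) i.left ≫
        pullback.fst f.left f.left ≫ X.hom
    rw [hZw, hXw, ← Category.assoc, ← pullback.condition, Category.assoc, Category.assoc])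
  have : Mono i := Over.mono_of_mono_left i
  refine existsUnique_of_covers P e π f i ?_ p₁ p₂ ?_ ?_ Δ ?_ ?_ q r ?_ ?_ ?_ t s' hts
  · -- liftE
    intro W a r' h
    have h' : a.left ≫ f.left = r'.left ≫ i.left := by
      have := congrArg CommaMorphism.left h
      simpa using this
    refine ⟨Over.homMk (hsq.lift a.left r'.left h') ?_, ?_, ?_⟩
    · rw [hEw, ← Category.assoc, hsq.lift_fst]
      exact Over.w a
    · ext
      simp
    · ext
      simp
  · -- hp
    ext
    change pullback.fst f.left f.left ≫ f.left = pullback.snd f.left f.left ≫ f.left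
    exact pullback.condition
  · -- liftP
    intro W a b h
    have h' : a.left ≫ f.left = b.left ≫ f.left := by
      have := congrArg CommaMorphism.left h
      simpa using this
    refine ⟨Over.homMk (pullback.lift a.left b.left h') ?_, ?_, ?_⟩
    · change pullback.lift a.left b.left h' ≫ pullback.fst f.left f.left ≫ X.hom = W.hom
      rw [← Category.assoc, pullback.lift_fst]
      exact Over.w a
    · ext
      change pullback.lift a.left b.left h' ≫ pullback.fst f.left f.left = a.left
      exact pullback.lift_fst _ _ _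
    · ext
      change pullback.lift a.left b.left h' ≫ pullback.snd f.left f.left = b.left
      exact pullback.lift_snd _ _ _
  · ext
    change pullback.diagonal f.left ≫ pullback.fst f.left f.left = 𝟙 _
    exact pullback.diagonal_fst _
  · ext
    change pullback.diagonal f.left ≫ pullback.snd f.left f.left = 𝟙 _
    exact pullback.diagonal_snd _
  · ext
    change pullback.fst (pullback.fst f.left f.left ≫ f.left) i.left ≫
      pullback.fst f.left f.left ≫ f.left =
        pullback.snd (pullback.fst f.left f.left ≫ f.left) i.left ≫ i.left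
    exact pullback.condition
  · apply isSheafFor_ofArrows_over K (Two.obj X Z) (Two.hom f i) _ P hP
    rw [two_left_eq]
    exact hK₁
  · apply Presieve.IsSheafFor.isSeparatedFor
    apply isSheafFor_ofArrows_over K (Two.obj X Q) (Two.hom Δ q) _ P hP
    rw [two_left_eq]
    exact hK₂

end Groth.Agent.Lib.Seat82.HSquareApply
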