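import Mathlib
import Groth.Prelude.Def_FGA

/-!
# Calculus for the Hilbert functor `FGA.HilbSet` / `FGA.hilbPull` (seat 82)

Namespace `Groth.Agent.Lib.Seat82.Hilb`.
* `hilbPull_eq_comap`: `FGA.hilbPull f g I = I.comap (PicF.XTmap f g)`.
* `comapIsoOfIsIso`, `comap_subschemeι_comp`: for an isomorphism `φ`, the subscheme of `I.comap φ` is isomorphic to
  that of `I`, compatibly with `φ`.
* `comap_inv_comap_hom`, `comap_hom_comap_inv`.
* `isProper_comap_of_isIso`, `flat_comap_of_isIso`.
-/

set_option autoImplicit false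
universe u
open CategoryTheory CategoryTheory.Limits AlgebraicGeometry

namespace Groth.Agent.Lib.Seat82.Hilb

open Scheme.IdealSheafData

theorem hilbPull_eq_comap {X S : Scheme.{u}} (f : X ⟶ S) {T T' : Over S} (g : T' ⟶ T)
    (I : (PicF.XT f T).IdealSheafData) : FGA.hilbPull f g I = I.comap (PicF.XTmap f g) := by
  unfold FGA.hilbPull Scheme.IdealSheafData.comap
  rw [← pullbackSymmetry_hom_comp_fst, Scheme.Hom.ker_comp_of_isIso]

/-- for an isomorphism `φ`, the closed subscheme cut out by `I.comap φ` is isomorphic to that of `I`. -/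
noncomputable def comapIsoOfIsIso {A B : Scheme.{u}} (φ : A ⟶ B) [IsIso φ] (I : B.IdealSheafData) :
    (I.comap φ).subscheme ≅ I.subscheme :=
  I.comapIso φ ≪≫ asIso (pullback.snd φ I.subschemeι)

theorem comap_subschemeι_comp {A B : Scheme.{u}} (φ : A ⟶ B) [IsIso φ] (I : B.IdealSheafData) :
    (I.comap φ).subschemeι ≫ φ = (comapIsoOfIsIso φ I).hom ≫ I.subschemeι := by
  simp only [comapIsoOfIsIso, Iso.trans_hom, asIso_hom, Category.assoc]
  rw [← pullback.condition, comapIso_hom_fst_assoc]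

theorem comap_inv_comap_hom {A B : Scheme.{u}} (e : A ≅ B) (I : A.IdealSheafData) :
    (I.comap e.inv).comap e.hom = I := by
  rw [← comap_comp, e.hom_inv_id, comap_id]

theorem comap_hom_comap_inv {A B : Scheme.{u}} (e : A ≅ B) (I : B.IdealSheafData) :
    (I.comap e.hom).comap e.inv = I := by
  rw [← comap_comp, e.inv_hom_id, comap_id]

theorem isProper_comap_of_isIso {A B T : Scheme.{u}} (φ : A ⟶ B) [IsIso φ] (I : B.IdealSheafData)
    (p : B ⟶ T) (q : A ⟶ T) (h : φ ≫ p = q) [IsProper (I.subschemeι ≫ p)] :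
    IsProper ((I.comap φ).subschemeι ≫ q) := by
  rw [← h, ← Category.assoc, comap_subschemeι_comp, Category.assoc]
  infer_instance

theorem flat_comap_of_isIso {A B T : Scheme.{u}} (φ : A ⟶ B) [IsIso φ] (I : B.IdealSheafData)
    (p : B ⟶ T) (q : A ⟶ T) (h : φ ≫ p = q) [Flat (I.subschemeι ≫ p)] :
    Flat ((I.comap φ).subschemeι ≫ q) := by
  rw [← h, ← Category.assoc, comap_subschemeι_comp, Category.assoc]
  infer_instance

end Groth.Agent.Lib.Seat82.Hilb
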