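import Mathlib
import Groth.Prelude.Def_FGA
import Groth.Agent.Lib.Seat82Hilb

/-!
# Ideal sheaves along open immersions and the Hilbert functor of an open subscheme (seat 82)

Namespace `Groth.Agent.Lib.Seat82.HilbOpen`.
* `comap_map_of_mono`: `(I.map m).comap m = I` for `m` a monomorphism with `I.subschemeι ≫ m` a closed immersion.
* `map_comap_of_support_subset`: `(J.comap m).map m = J` for an open immersion `m` containing the support of `J`.
* `mT f j T : U ×_S T ⟶ X ×_S T` for `j : U ⟶ X`, with `isPullback_mT`, `mT_proj`, `mT_naturality`, `range_mT`.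
* `isPullback_XTmap`, `XTmap_fst`, `XTmap_proj`.
-/

set_option autoImplicit false
universe u
open CategoryTheory CategoryTheory.Limits AlgebraicGeometry

namespace Groth.Agent.Lib.Seat82.HilbOpen

open Scheme.IdealSheafData

theorem isPullback_of_mono {A B C : Scheme.{u}} (i : C ⟶ A) (m : A ⟶ B) [Mono m] :
    IsPullback i (𝟙 C) m (i ≫ m) := by
  have h1 : IsPullback i (𝟙 C) (𝟙 A) i := IsPullback.of_vert_isIso ⟨by simp⟩
  have h2 : IsPullback (𝟙 A) (𝟙 A) m m := IsKernelPair.id_of_mono m
  have := h1.paste_horiz h2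
  rwa [Category.comp_id] at this

theorem comap_map_of_mono {A B : Scheme.{u}} (m : A ⟶ B) [Mono m] (I : A.IdealSheafData)
    [IsClosedImmersion (I.subschemeι ≫ m)] : (I.map m).comap m = I := by
  have hpb := isPullback_of_mono I.subschemeι m
  rw [Scheme.IdealSheafData.map, ← ker_fst_of_isClosedImmersion]
  have h : hpb.isoPullback.hom ≫ pullback.fst _ _ = I.subschemeι := hpb.isoPullback_hom_fst
  rw [← Scheme.Hom.ker_comp_of_isIso hpb.isoPullback.hom, h, ker_subschemeι]

theorem map_comap_of_support_subset {A B : Scheme.{u}} (m : A ⟶ B) [IsOpenImmersion m]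
    (J : B.IdealSheafData) (h : (J.support : Set B) ⊆ Set.range m) : (J.comap m).map m = J := by
  have hr : Set.range J.subschemeι ⊆ Set.range m := by rwa [range_subschemeι]
  let a : J.subscheme ⟶ A := IsOpenImmersion.lift m J.subschemeι hr
  have ha : a ≫ m = J.subschemeι := IsOpenImmersion.lift_fac _ _ _
  have : IsClosedImmersion (a ≫ m) := ha ▸ inferInstance
  have : IsClosedImmersion a := IsClosedImmersion.of_comp a m
  have h1 : J = a.ker.map m := by rw [map_ker, ha, ker_subschemeι]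
  have : IsClosedImmersion (a.ker.subschemeι ≫ m) := by
    have : a.ker.subschemeι ≫ m = inv a.toImage ≫ J.subschemeι := by
      rw [IsIso.eq_inv_comp, ← ha, ← Category.assoc]
      congr 1
      exact a.toImage_imageι
    rw [this]; infer_instance
  conv_lhs => rw [h1, comap_map_of_mono m a.ker]
  exact h1.symm

/-- for `I.subschemeι ≫ m` a closed immersion, the subscheme of `I.map m` is that of `I`. -/
noncomputable def mapIso {A B : Scheme.{u}} (m : A ⟶ B) (I : A.IdealSheafData)
    [IsClosedImmersion (I.subschemeι ≫ m)] : I.subscheme ≅ (I.map m).subscheme :=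
  (asIso (I.subschemeι ≫ m).toImage :)

theorem mapIso_hom_subschemeι {A B : Scheme.{u}} (m : A ⟶ B) (I : A.IdealSheafData)
    [IsClosedImmersion (I.subschemeι ≫ m)] :
    (mapIso m I).hom ≫ (I.map m).subschemeι = I.subschemeι ≫ m := by
  have := (I.subschemeι ≫ m).toImage_imageι
  exact this

theorem map_subschemeι_comp {A B T : Scheme.{u}} (m : A ⟶ B) (I : A.IdealSheafData)
    [IsClosedImmersion (I.subschemeι ≫ m)] (p : B ⟶ T) :
    (I.map m).subschemeι ≫ p = (mapIso m I).inv ≫ I.subschemeι ≫ m ≫ p := by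
  rw [Iso.eq_inv_comp, ← Category.assoc, mapIso_hom_subschemeι, Category.assoc]

theorem isProper_map {A B T : Scheme.{u}} (m : A ⟶ B) (I : A.IdealSheafData)
    [IsClosedImmersion (I.subschemeι ≫ m)] (p : B ⟶ T) (q : A ⟶ T) (h : m ≫ p = q)
    [IsProper (I.subschemeι ≫ q)] : IsProper ((I.map m).subschemeι ≫ p) := by
  rw [map_subschemeι_comp, h]
  infer_instance

theorem flat_map {A B T : Scheme.{u}} (m : A ⟶ B) (I : A.IdealSheafData)
    [IsClosedImmersion (I.subschemeι ≫ m)] (p : B ⟶ T) (q : A ⟶ T) (h : m ≫ p = q)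
    [Flat (I.subschemeι ≫ q)] : Flat ((I.map m).subschemeι ≫ p) := by
  rw [map_subschemeι_comp, h]
  infer_instance

theorem support_map_of_isClosedImmersion {A B : Scheme.{u}} (m : A ⟶ B) (I : A.IdealSheafData)
    [IsClosedImmersion (I.subschemeι ≫ m)] :
    ((I.map m).support : Set B) = Set.range (I.subschemeι ≫ m) := by
  rw [Scheme.IdealSheafData.map, Scheme.Hom.support_ker]
  exact (I.subschemeι ≫ m).isClosedEmbedding.isClosed_range.closure_eq

section XT

variable {X U S : Scheme.{u}} (f : X ⟶ S) (j : U ⟶ X)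

/-- the comparison `U ×_S T ⟶ X ×_S T` induced by `j : U ⟶ X`. -/
noncomputable abbrev mT (T : Over S) : PicF.XT (j ≫ f) T ⟶ PicF.XT f T :=
  pullback.map (j ≫ f) T.hom f T.hom j (𝟙 T.left) (𝟙 S) (Category.comp_id _)
    ((Category.comp_id _).trans (Category.id_comp _).symm)

theorem mT_proj (T : Over S) : mT f j T ≫ PicF.XTproj f T = PicF.XTproj (j ≫ f) T :=
  (pullback.lift_snd _ _ _).trans (Category.comp_id _)

theorem mT_fst (T : Over S) :
    mT f j T ≫ pullback.fst f T.hom = pullback.fst (j ≫ f) T.hom ≫ j :=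
  pullback.lift_fst _ _ _

theorem isPullback_mT (T : Over S) :
    IsPullback (pullback.fst (j ≫ f) T.hom) (mT f j T) j (pullback.fst f T.hom) := by
  apply IsPullback.flip
  refine IsPullback.of_right (h₁₂ := pullback.snd f T.hom) (h₂₂ := f) (v₁₃ := T.hom) ?_ ?_
    (IsPullback.of_hasPullback f T.hom).flip
  · rw [mT_proj]
    exact (IsPullback.of_hasPullback (j ≫ f) T.hom).flip
  · rw [mT_fst]

instance isOpenImmersion_mT [IsOpenImmersion j] (T : Over S) : IsOpenImmersion (mT f j T) :=
  MorphismProperty.of_isPullback (P := @IsOpenImmersion) (isPullback_mT f j T) inferInstance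

theorem range_mT (T : Over S) :
    Set.range (mT f j T) = (pullback.fst f T.hom) ⁻¹' Set.range j := by
  ext w
  constructor
  · rintro ⟨u, rfl⟩
    refine ⟨pullback.fst (j ≫ f) T.hom u, ?_⟩
    rw [← Scheme.Hom.comp_apply, ← Scheme.Hom.comp_apply, mT_fst]
  · rintro ⟨u, hu⟩
    obtain ⟨p, -, hp⟩ := Scheme.exists_preimage_of_isPullback (isPullback_mT f j T) u w hu
    exact ⟨p, hp⟩

theorem XTmap_fst {T T' : Over S} (g : T' ⟶ T) :
    PicF.XTmap f g ≫ pullback.fst f T.hom = pullback.fst f T'.hom :=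
  (pullback.lift_fst _ _ _).trans (Category.comp_id _)

theorem XTmap_proj {T T' : Over S} (g : T' ⟶ T) :
    PicF.XTmap f g ≫ PicF.XTproj f T = PicF.XTproj f T' ≫ g.left :=
  pullback.lift_snd _ _ _

theorem isPullback_XTmap {T T' : Over S} (g : T' ⟶ T) :
    IsPullback (PicF.XTmap f g) (PicF.XTproj f T') (PicF.XTproj f T) g.left := by
  refine IsPullback.of_right (h₁₂ := pullback.fst f T.hom) (h₂₂ := T.hom) (v₁₃ := f) ?_
    (XTmap_proj f g) (IsPullback.of_hasPullback f T.hom)
  rw [XTmap_fst, Over.w g]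
  exact IsPullback.of_hasPullback f T'.hom

theorem mT_naturality {T T' : Over S} (g : T' ⟶ T) :
    mT f j T' ≫ PicF.XTmap f g = PicF.XTmap (j ≫ f) g ≫ mT f j T := by
  apply pullback.hom_ext
  · rw [Category.assoc, XTmap_fst, mT_fst, Category.assoc, mT_fst, ← Category.assoc, XTmap_fst]
  · rw [Category.assoc, XTmap_proj, ← Category.assoc, mT_proj, Category.assoc, mT_proj,
      XTmap_proj]

end XT

section OpenPart

variable {X U S : Scheme.{u}} (f : X ⟶ S) (j : U ⟶ X) (H : Over S)

/-- the open subscheme `V` of `H` as an `S`-scheme. -/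
noncomputable abbrev overOpen (V : H.left.Opens) : Over S := Over.mk (V.ι ≫ H.hom)

/-- the inclusion of `V` into `H` as a morphism of `S`-schemes. -/
noncomputable abbrev ιO (V : H.left.Opens) : overOpen H V ⟶ H := Over.homMk V.ι rfl

/-- `U ×_S V ⟶ X ×_S H`. -/
noncomputable abbrev m0 (V : H.left.Opens) : PicF.XT (j ≫ f) (overOpen H V) ⟶ PicF.XT f H :=
  pullback.map (j ≫ f) (V.ι ≫ H.hom) f H.hom j V.ι (𝟙 S) (Category.comp_id _) (Category.comp_id _)

theorem m0_proj (V : H.left.Opens) :
    m0 f j H V ≫ PicF.XTproj f H = PicF.XTproj (j ≫ f) (overOpen H V) ≫ V.ι :=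
  pullback.lift_snd _ _ _

theorem m0_fst (V : H.left.Opens) :
    m0 f j H V ≫ pullback.fst f H.hom = pullback.fst (j ≫ f) (V.ι ≫ H.hom) ≫ j :=
  pullback.lift_fst _ _ _

theorem m0_eq (V : H.left.Opens) :
    m0 f j H V = PicF.XTmap (j ≫ f) (ιO H V) ≫ mT f j H := by
  apply pullback.hom_ext
  · rw [Category.assoc, mT_fst, ← Category.assoc, XTmap_fst]
    exact pullback.lift_fst _ _ _
  · have h1 : m0 f j H V ≫ pullback.snd f H.hom =
        pullback.snd (j ≫ f) (V.ι ≫ H.hom) ≫ V.ι := pullback.lift_snd _ _ _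
    have h2 : (PicF.XTmap (j ≫ f) (ιO H V) ≫ mT f j H) ≫ pullback.snd f H.hom =
        pullback.snd (j ≫ f) (V.ι ≫ H.hom) ≫ V.ι := by
      rw [Category.assoc]
      exact (congrArg (PicF.XTmap (j ≫ f) (ιO H V) ≫ ·) (mT_proj f j H)).trans
        (XTmap_proj (j ≫ f) (ιO H V))
    exact h1.trans h2.symm

instance isOpenImmersion_XTmap_ιO (V : H.left.Opens) :
    IsOpenImmersion (PicF.XTmap f (ιO H V)) :=
  MorphismProperty.of_isPullback (P := @IsOpenImmersion) (isPullback_XTmap f (ιO H V)).flip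
    (inferInstanceAs (IsOpenImmersion V.ι))

theorem isOpenImmersion_m0 [IsOpenImmersion j] (V : H.left.Opens) :
    IsOpenImmersion (m0 f j H V) := by
  rw [m0_eq]; infer_instance

/-- If over the open `V ⊆ H` the closed subscheme `Z ⊆ X ×_S H` lies in `U ×_S H`, then the pullback of `Z`
to `U ×_S V` is the base change of `Z ⟶ H` to `V`. -/
theorem exists_iso_pullback [IsOpenImmersion j] (Z : (PicF.XT f H).IdealSheafData)
    (V : H.left.Opens)
    (hV : ∀ z : Z.subscheme, (Z.subschemeι ≫ PicF.XTproj f H) z ∈ V →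
      Z.subschemeι z ∈ Set.range (mT f j H)) :
    ∃ e : (Z.comap (m0 f j H V)).subscheme ≅ pullback (Z.subschemeι ≫ PicF.XTproj f H) V.ι,
      (Z.comap (m0 f j H V)).subschemeι ≫ PicF.XTproj (j ≫ f) (overOpen H V) =
        e.hom ≫ pullback.snd _ _ := by
  have : IsOpenImmersion (m0 f j H V) := isOpenImmersion_m0 f j H V
  have hrange : Set.range (pullback.snd (m0 f j H V) Z.subschemeι) =
      Set.range (pullback.fst (Z.subschemeι ≫ PicF.XTproj f H) V.ι) := by
    rw [Scheme.Pullback.range_snd, Scheme.Pullback.range_fst]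
    ext z
    simp only [Set.mem_preimage]
    constructor
    · rintro ⟨u, hu⟩
      refine ⟨PicF.XTproj (j ≫ f) (overOpen H V) u, ?_⟩
      rw [← Scheme.Hom.comp_apply, ← m0_proj, Scheme.Hom.comp_apply, hu, ← Scheme.Hom.comp_apply]
    · rintro ⟨v, hv⟩
      have hzV : (Z.subschemeι ≫ PicF.XTproj f H) z ∈ V := by rw [← hv]; exact v.2
      obtain ⟨u, hu⟩ := hV z hzV
      have h1 : PicF.XTproj (j ≫ f) H u = (ιO H V).left v := by
        rw [← mT_proj f j H, Scheme.Hom.comp_apply, hu, ← Scheme.Hom.comp_apply]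
        exact hv.symm
      obtain ⟨u', hu', -⟩ := Scheme.exists_preimage_of_isPullback
        (isPullback_XTmap (j ≫ f) (ιO H V)) u v h1
      refine ⟨u', ?_⟩
      rw [m0_eq, Scheme.Hom.comp_apply, hu', hu]
  refine ⟨Z.comapIso (m0 f j H V) ≪≫ IsOpenImmersion.isoOfRangeEq _ _ hrange, ?_⟩
  rw [← cancel_mono V.ι]
  simp only [Iso.trans_hom, Category.assoc]
  rw [← m0_proj, ← pullback.condition, IsOpenImmersion.isoOfRangeEq_hom_fac_assoc,
    ← comapIso_hom_fst, Category.assoc, pullback.condition_assoc]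

end OpenPart

end Groth.Agent.Lib.Seat82.HilbOpen
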