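import Mathlib
import Groth.Prelude.Def_CohB1
import Groth.Prelude.Def_BlowUp2
import Groth.Agent.Lib.Helper27PnChart
import Groth.Agent.Lib.Helper13RelProjC

/-!
# Ideal sheaves on the projective line over a field are effective Cartier unless their support is everything (seat 82)

Namespace `Groth.Agent.Lib.Seat82.P1Cartier`.
* `irreducibleSpace_projSpace`: `P^n_k` is irreducible for a domain `k`.
* `isPrincipalIdealRing_chart`, `isDomain_chart`: the coordinate rings of the two standard charts of `P^1_k`
  (`k` a field) are principal ideal domains.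
* `isEffCartierIdeal_of_support_ne_univ`: a quasi-coherent ideal sheaf on `P^1_k` whose support is not the whole
  space is effective Cartier (`BlowUp.IsEffCartierIdeal`).
-/

set_option autoImplicit false
universe u
open CategoryTheory CategoryTheory.Limits AlgebraicGeometry nonZeroDivisors

namespace Groth.Agent.Lib.Seat82.P1Cartier

open Scheme.IdealSheafData

theorem irreducibleSpace_projSpace (n : ℕ) (k : Type u) [CommRing k] [IsDomain k] :
    IrreducibleSpace (CohB1.ProjSpace n k) := by
  apply Groth.Agent.Helper13RelProj.irreducibleSpace_proj (CohB1.polyGrading n k)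
  intro h
  have hX : (MvPolynomial.X 0 : MvPolynomial (Fin (n + 1)) k) ∈
      (HomogeneousIdeal.irrelevant (CohB1.polyGrading n k)).toIdeal := by
    rw [HomogeneousIdeal.mem_iff, HomogeneousIdeal.mem_irrelevant_iff]
    rw [GradedRing.proj_apply, DirectSum.decompose_of_mem_ne (CohB1.polyGrading n k)
      (MvPolynomial.isHomogeneous_X k (0 : Fin (n + 1))) (by norm_num)]
  rw [h] at hX
  exact MvPolynomial.X_ne_zero (0 : Fin (n + 1)) ((Submodule.mem_bot _).mp hX)

section Chart

variable (k : Type u) [Field k] (i : Fin (1 + 1))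

noncomputable instance uniqueOther : Unique {j : Fin (1 + 1) // j ≠ i} where
  default := ⟨if i = 0 then 1 else 0, by fin_cases i <;> simp⟩
  uniq := by
    rintro ⟨j, hj⟩
    apply Subtype.ext
    fin_cases i <;> fin_cases j <;> first | rfl | exact absurd rfl hj

/-- the coordinate ring of the chart `D₊(X_i)` of `P^1_k` is isomorphic to `k[T]`. -/
noncomputable def chartEquiv :
    Polynomial k ≃+* Γ(Proj (CohB1.polyGrading 1 k),
      Proj.basicOpen (CohB1.polyGrading 1 k) (MvPolynomial.X i)) :=
  ((MvPolynomial.uniqueAlgEquiv k {j : Fin (1 + 1) // j ≠ i}).symm.toRingEquiv.trans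
    (RingEquiv.ofBijective _ (Groth.Agent.Lib.Helper27PnChart.chart_bijective 1 k i))).trans
    (Proj.basicOpenIsoAway (CohB1.polyGrading 1 k) (MvPolynomial.X i)
      (MvPolynomial.isHomogeneous_X k i) Nat.one_pos).commRingCatIsoToRingEquiv

theorem isPrincipalIdealRing_chart :
    IsPrincipalIdealRing Γ(Proj (CohB1.polyGrading 1 k),
      Proj.basicOpen (CohB1.polyGrading 1 k) (MvPolynomial.X i)) :=
  IsPrincipalIdealRing.of_surjective (chartEquiv k i).toRingHom (chartEquiv k i).surjective

theorem isDomain_chart :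
    IsDomain Γ(Proj (CohB1.polyGrading 1 k),
      Proj.basicOpen (CohB1.polyGrading 1 k) (MvPolynomial.X i)) :=
  (chartEquiv k i).symm.toMulEquiv.isDomain _

end Chart

/-- on an affine open where the ideal is zero, every point is in the support. -/
theorem le_support_of_ideal_eq_bot {X : Scheme.{u}} (J : X.IdealSheafData) (U : X.affineOpens)
    (h : J.ideal U = ⊥) : (U.1 : Set X) ⊆ J.support := by
  intro x hx
  change x ∈ J.support
  rw [mem_support_iff_of_mem (U := U) hx, h, Scheme.mem_zeroLocus_iff]
  intro f hf hxf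
  have hf0 : f = 0 := by simpa using hf
  rw [hf0, Scheme.basicOpen_zero] at hxf
  exact hxf

/-- a quasi-coherent ideal sheaf on `P^1_k` whose support is not everything is effective Cartier. -/
theorem isEffCartierIdeal_of_support_ne_univ (k : Type u) [Field k]
    (J : (CohB1.ProjSpace 1 k).IdealSheafData) (h : (J.support : Set (CohB1.ProjSpace 1 k)) ≠ Set.univ) :
    BlowUp.IsEffCartierIdeal J := by
  have := irreducibleSpace_projSpace 1 k
  intro y
  have hy : y ∈ (⨆ i : Fin (1 + 1), Proj.basicOpen (CohB1.polyGrading 1 k) (MvPolynomial.X i)) := by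
    rw [Groth.Agent.Lib.Helper27PnChart.iSup_basicOpen_X]; trivial
  obtain ⟨i, hyi⟩ := TopologicalSpace.Opens.mem_iSup.mp hy
  have hU : IsAffineOpen (Proj.basicOpen (CohB1.polyGrading 1 k) (MvPolynomial.X i)) :=
    Proj.isAffineOpen_basicOpen (CohB1.polyGrading 1 k) (MvPolynomial.X i)
      (MvPolynomial.isHomogeneous_X k i) Nat.one_pos
  let U : (CohB1.ProjSpace 1 k).affineOpens :=
    ⟨Proj.basicOpen (CohB1.polyGrading 1 k) (MvPolynomial.X i), hU⟩
  have hpid : IsPrincipalIdealRing Γ(CohB1.ProjSpace 1 k, U.1) := isPrincipalIdealRing_chart k i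
  have hdom : IsDomain Γ(CohB1.ProjSpace 1 k, U.1) := isDomain_chart k i
  obtain ⟨a, ha⟩ := (IsPrincipalIdealRing.principal (J.ideal U)).principal
  refine ⟨U, hyi, a, ?_, ?_⟩
  · apply mem_nonZeroDivisors_of_ne_zero
    rintro rfl
    apply h
    have hbot : J.ideal U = ⊥ := by
      rw [ha]; simp
    have hsub := le_support_of_ideal_eq_bot J U hbot
    have hdense : Dense (U.1 : Set (CohB1.ProjSpace 1 k)) :=
      U.1.isOpen.dense ⟨y, hyi⟩
    rw [Set.eq_univ_iff_forall]
    intro z
    have : z ∈ closure (U.1 : Set (CohB1.ProjSpace 1 k)) := hdense z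
    exact (closure_minimal hsub J.support.isClosed) this
  · rw [ha]

end Groth.Agent.Lib.Seat82.P1Cartier
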