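import Mathlib
import Groth.Prelude.Def_BlowUp2
import Groth.Prelude.Def_CurvBase
import Groth.Agent.Lib.Seat82BlowUpCover
import Groth.Agent.Lib.Seat82BlowUpRestrict

/-!
# Strict transforms of closed subschemes under blow-ups are closed (seat 82)

Namespace `Groth.Agent.Lib.Seat82.StrictTransform`.
* `isClosedImmersion_spec`: the case of `Spec A' ⟶ Spec A` for a surjection `A → A'`.
* `isClosedImmersion_of_isAffine`: the case of an affine base.
* `isClosedImmersion`: the general case (no Noetherian hypothesis).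
-/

set_option autoImplicit false
universe u
open CategoryTheory AlgebraicGeometry Opposite TopologicalSpace nonZeroDivisors

namespace Groth.Agent.Lib.Seat82.StrictTransform

open Groth.Agent.Lib.Seat64.AffBlowUp Groth.Agent.Lib.Seat82.BlowUpAlg
  Groth.Agent.Lib.Seat82.BlowUpChart Groth.Agent.Lib.Seat82.BlowUpCover
  Groth.Agent.Lib.Seat82.BlowUpRestrict

section Alg

variable {A A' : Type u} [CommRing A] [CommRing A'] {Y : Scheme.{u}}

theorem resψ_comp_ringHom (ψ' : A' →+* Γ(Y, ⊤)) (π : A →+* A') (U : Y.Opens) :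
    resψ (ψ'.comp π) U = (resψ ψ' U).comp π := by
  unfold resψ
  rw [RingHom.comp_assoc]

theorem genAt_comp_ringHom_iff (ψ' : A' →+* Γ(Y, ⊤)) (π : A →+* A') (I : Ideal A) (a : A) (y : Y) :
    GenAt (ψ'.comp π) I a y ↔ GenAt ψ' (I.map π) (π a) y := by
  unfold GenAt
  simp only [resψ_comp_ringHom, Ideal.map_map, RingHom.comp_apply]

theorem cartAt_comp_ringHom_iff (ψ' : A' →+* Γ(Y, ⊤)) (π : A →+* A') (I : Ideal A) (y : Y) :
    CartAt (ψ'.comp π) I y ↔ CartAt ψ' (I.map π) y := by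
  unfold CartAt
  simp only [resψ_comp_ringHom, Ideal.map_map]

theorem ψg_comp_specMap (g : Y ⟶ Spec (CommRingCat.of A')) (π : A →+* A') :
    ψg (g ≫ Spec.map (CommRingCat.ofHom π)) = (ψg g).comp π := by
  rw [ψg_comp, ψg_specMap]
  unfold ψg
  rw [RingHom.comp_assoc]

end Alg

section SpecCase

variable {A A' : Type u} [CommRing A] [CommRing A'] {X₁ Y₁ : Scheme.{u}}
  {I : Ideal A} {π : A →+* A'}
  {b₁ : X₁ ⟶ Spec (CommRingCat.of A)} {b'₁ : Y₁ ⟶ Spec (CommRingCat.of A')}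
  (hb : BlowUp.IsBlowUp b₁ (Curv2.idealSheaf A I))
  (hb' : BlowUp.IsBlowUp b'₁ (Curv2.idealSheaf A' (I.map π)))
  {φ : Y₁ ⟶ X₁} (hφ : φ ≫ b₁ = b'₁ ≫ Spec.map (CommRingCat.ofHom π))

include hb hb' hφ in
theorem preimage_chartLocus (a : A) (ha : a ∈ I) :
    φ ⁻¹ᵁ (chartLocus b₁ I a) = chartLocus b'₁ (I.map π) (π a) := by
  ext y
  show GenAt (ψg b₁) I a (φ y) ↔ GenAt (ψg b'₁) (I.map π) (π a) y
  rw [← genAt_comp_ringHom_iff, ← ψg_comp_specMap, ← hφ, ψg_comp]
  constructor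
  · intro h
    refine GenAt.comp φ y h ?_
    rw [← ψg_comp, hφ, ψg_comp_specMap, cartAt_comp_ringHom_iff]
    exact cartAt_blowUp hb' y
  · intro h
    exact GenAt.of_comp φ ha y (cartAt_blowUp hb (φ y)) h

include hb' in
theorem isClosedImmersion_chart (hπ : Function.Surjective π) (a : A) (ha : a ∈ I)
    (P : Y₁.Opens) (hP : P = chartLocus b'₁ (I.map π) (π a))
    (θ : P.toScheme ⟶ Spec (CommRingCat.of (BlowUp.affineAlgebra A I a)))
    (hθ : θ ≫ chartMap I a = P.ι ≫ b'₁ ≫ Spec.map (CommRingCat.ofHom π)) :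
    IsClosedImmersion θ := by
  subst hP
  have ha' : π a ∈ I.map π := Ideal.mem_map_of_mem π ha
  set θ' : (chartLocus b'₁ (I.map π) (π a)).toScheme ⟶
      Spec (CommRingCat.of (BlowUp.affineAlgebra A I a)) :=
    (chartIso hb' (π a) ha').hom ≫ Spec.map (CommRingCat.ofHom (mapSurj I a π)) with hθ'def
  have hθ' : θ' ≫ chartMap I a =
      (chartLocus b'₁ (I.map π) (π a)).ι ≫ b'₁ ≫ Spec.map (CommRingCat.ofHom π) := by
    rw [hθ'def, Category.assoc]
    have h1 : Spec.map (CommRingCat.ofHom (mapSurj I a π)) ≫ chartMap I a =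
        chartMap (I.map π) (π a) ≫ Spec.map (CommRingCat.ofHom π) := by
      unfold chartMap
      rw [← Spec.map_comp, ← Spec.map_comp, ← CommRingCat.ofHom_comp, ← CommRingCat.ofHom_comp]
      congr 2
      exact RingHom.ext fun r => mapSurj_algebraMap I a π r
    rw [h1, ← Category.assoc, chartIso_hom_chartMap, Category.assoc]
  have hY : ∀ y, GenAt (ψg ((chartLocus b'₁ (I.map π) (π a)).ι ≫ b'₁ ≫
      Spec.map (CommRingCat.ofHom π))) I a y := by
    intro y
    rw [← Category.assoc, ψg_comp_specMap, genAt_comp_ringHom_iff]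
    exact genAt_chartLocus (π a) y
  have huniq := (existsUnique_hom I a _ hY).unique hθ hθ'
  rw [huniq, hθ'def]
  have : IsClosedImmersion (Spec.map (CommRingCat.ofHom (mapSurj I a π))) :=
    IsClosedImmersion.spec_of_surjective _ (mapSurj_surjective I a π hπ)
  infer_instance

include hb hb' hφ in
theorem isClosedImmersion_spec (hπ : Function.Surjective π) : IsClosedImmersion φ := by
  refine IsZariskiLocalAtTarget.of_iSup_eq_top (P := @IsClosedImmersion)
    (fun a : I => chartLocus b₁ I a.1) ?_ ?_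
  · rw [eq_top_iff]
    intro x _
    obtain ⟨a, ha, hx⟩ := exists_mem_chartLocus hb x
    exact Opens.mem_iSup.2 ⟨⟨a, ha⟩, hx⟩
  · rintro ⟨a, ha⟩
    have h1 : IsClosedImmersion ((φ ∣_ chartLocus b₁ I a) ≫ (chartIso hb a ha).hom) := by
      apply isClosedImmersion_chart hb' hπ a ha _ (preimage_chartLocus hb hb' hφ a ha)
      rw [Category.assoc, chartIso_hom_chartMap, ← Category.assoc, morphismRestrict_ι,
        Category.assoc, hφ]
    exact (MorphismProperty.cancel_right_of_respectsIso @IsClosedImmersion _ _).mp h1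

end SpecCase

section AffineBase

open Groth.Agent.Lib.Helper20 Scheme.IdealSheafData

theorem appLE_top_top {S T : Scheme.{u}} (g : S ⟶ T) : g.appLE ⊤ ⊤ le_top = g.appTop := by
  show g.app ⊤ ≫ S.presheaf.map (𝟙 _) = _
  rw [CategoryTheory.Functor.map_id, Category.comp_id]

theorem isClosedImmersion_of_isAffine {X₀ Y₀ X' Y' : Scheme.{u}} [IsAffine X₀]
    (𝓘 : X₀.IdealSheafData) (f : Y₀ ⟶ X₀) [IsClosedImmersion f]
    (b : X' ⟶ X₀) (hb : BlowUp.IsBlowUp b 𝓘) (b' : Y' ⟶ Y₀)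
    (hb' : BlowUp.IsBlowUp b' (𝓘.comap f))
    (f' : Y' ⟶ X') (hf' : f' ≫ b = b' ≫ f) : IsClosedImmersion f' := by
  obtain ⟨hY₀, hπ⟩ := IsClosedImmersion.isAffine_surjective_of_isAffine f
  have hb₁ := isBlowUp_comp_iso 𝓘 b hb X₀.isoSpec
  rw [comap_isoSpec_inv] at hb₁
  have hb'₁ := isBlowUp_comp_iso (𝓘.comap f) b' hb' Y₀.isoSpec
  rw [comap_isoSpec_inv] at hb'₁
  have hI : (𝓘.comap f).ideal ⟨⊤, isAffineOpen_top Y₀⟩ =
      (𝓘.ideal ⟨⊤, isAffineOpen_top X₀⟩).map f.appTop.hom := by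
    rw [EffCartier.ideal_comap_eq_map f 𝓘 (isAffineOpen_top Y₀) (isAffineOpen_top X₀) le_top,
      appLE_top_top]
  rw [hI] at hb'₁
  refine isClosedImmersion_spec (A := Γ(X₀, ⊤)) (A' := Γ(Y₀, ⊤)) (π := f.appTop.hom)
    hb₁ hb'₁ ?_ hπ
  rw [← Category.assoc, hf', Category.assoc, Category.assoc]
  congr 1
  exact (Scheme.isoSpec_hom_naturality f).symm

end AffineBase

section General

open Scheme.IdealSheafData

/-- The strict transform of a closed subscheme under a blow-up is a closed subscheme of the blow-up: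
the canonical map between the blow-ups is a closed immersion. -/
theorem isClosedImmersion {X Y X' Y' : Scheme.{u}}
    (𝓘 : X.IdealSheafData) (f : Y ⟶ X) [IsClosedImmersion f]
    (b : X' ⟶ X) (hb : BlowUp.IsBlowUp b 𝓘) (b' : Y' ⟶ Y) (hb' : BlowUp.IsBlowUp b' (𝓘.comap f))
    (f' : Y' ⟶ X') (hf' : f' ≫ b = b' ≫ f) : IsClosedImmersion f' := by
  refine IsZariskiLocalAtTarget.of_iSup_eq_top (P := @IsClosedImmersion)
    (fun U : X.affineOpens => b ⁻¹ᵁ U.1) ?_ ?_
  · rw [eq_top_iff]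
    intro x' _
    have hx : b x' ∈ (⊤ : X.Opens) := trivial
    rw [← iSup_affineOpens_eq_top X] at hx
    obtain ⟨U, hU⟩ := Opens.mem_iSup.1 hx
    exact Opens.mem_iSup.2 ⟨U, hU⟩
  · intro U
    have : IsAffine U.1.toScheme := U.2
    set O : X'.Opens := b ⁻¹ᵁ U.1 with hO
    set Q : Y.Opens := f ⁻¹ᵁ U.1 with hQ
    set P : Y'.Opens := f' ⁻¹ᵁ O with hP
    have hPQ : ∀ y', y' ∈ P ↔ b' y' ∈ Q := by
      intro y'
      show b (f' y') ∈ U.1 ↔ f (b' y') ∈ U.1
      rw [← Scheme.Hom.comp_apply, ← Scheme.Hom.comp_apply, hf']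
    have hrange : Set.range (P.ι ≫ b') ⊆ Set.range Q.ι := by
      rintro _ ⟨y', rfl⟩
      rw [Scheme.Opens.range_ι, Scheme.Hom.comp_apply]
      exact (hPQ _).mp y'.2
    set β : P.toScheme ⟶ Q.toScheme := IsOpenImmersion.lift Q.ι (P.ι ≫ b') hrange with hβdef
    have hβ : β ≫ Q.ι = P.ι ≫ b' := IsOpenImmersion.lift_fac _ _ _
    have hbU := isBlowUp_morphismRestrict 𝓘 b hb U.1
    have hβU := isBlowUp_restrict (𝓘.comap f) b' hb' Q P hPQ β hβ
    have hcomap : (𝓘.comap f).comap Q.ι = (𝓘.comap U.1.ι).comap (f ∣_ U.1) := by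
      rw [← comap_comp, ← comap_comp, morphismRestrict_ι]
    rw [hcomap] at hβU
    refine isClosedImmersion_of_isAffine (𝓘.comap U.1.ι) (f ∣_ U.1) (b ∣_ U.1) hbU β hβU
      (f' ∣_ O) ?_
    rw [← cancel_mono U.1.ι, Category.assoc, Category.assoc, morphismRestrict_ι,
      morphismRestrict_ι, ← Category.assoc, morphismRestrict_ι, ← Category.assoc, hβ,
      Category.assoc, Category.assoc, hf']

end General

end Groth.Agent.Lib.Seat82.StrictTransform
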