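import Mathlib

/-!
# Quasi-compact monomorphisms from discrete reduced schemes with closed image (seat 83)

* `surjective_algebraMap_of_isEpi_field`: an epimorphism of fields is surjective.
* `isField_stalk_of_discrete`: the local rings of a reduced scheme with discrete underlying space are fields.
* `isClosed_of_locally_finite_closed_points`: a locally finite set of closed points is closed.
* `isClosedImmersion_of_mono_discrete`: a quasi-compact monomorphism `i : Z ⟶ A` of schemes, with `Z`
  discrete and reduced, whose image is closed and carries no nontrivial specializations, is a closed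
  immersion.
-/

set_option autoImplicit false
set_option linter.style.haveILetI false
universe u
open CategoryTheory CategoryTheory.Limits AlgebraicGeometry TensorProduct

namespace Groth.Agent.Lib.Seat83.ClosedPt

/-- An epimorphism of fields is surjective. -/
theorem surjective_algebraMap_of_isEpi_field (K L : Type u) [Field K] [Field L] [Algebra K L]
    [Algebra.IsEpi K L] : Function.Surjective (algebraMap K L) := by
  intro x
  by_contra hx
  have h1 : (1 : L) ∉ Submodule.span K {x} := by
    intro h
    rw [Submodule.mem_span_singleton] at h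
    obtain ⟨c, hc⟩ := h
    have hc0 : c ≠ 0 := by
      rintro rfl
      rw [zero_smul] at hc
      exact zero_ne_one hc
    apply hx
    refine ⟨c⁻¹, ?_⟩
    rw [Algebra.smul_def] at hc
    rw [map_inv₀]
    exact (eq_inv_of_mul_eq_one_right hc).symm ▸ rfl
  obtain ⟨f, hf1, hfx⟩ := Submodule.exists_le_ker_of_notMem h1
  have hfx0 : f x = 0 := hfx (Submodule.mem_span_singleton_self x)
  let B : L →ₗ[K] L →ₗ[K] L := (LinearMap.lsmul K L).comp f
  have key := congrArg (TensorProduct.lift B)
    ((Algebra.isEpi_iff_forall_one_tmul_eq K L).mp inferInstance x)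
  simp only [TensorProduct.lift.tmul, B, LinearMap.comp_apply, LinearMap.lsmul_apply, hfx0,
    zero_smul] at key
  rcases smul_eq_zero.mp key with h | h
  · exact hf1 h
  · exact hx ⟨0, by rw [map_zero, h]⟩

/-- The local rings of a reduced scheme with discrete underlying space are fields. -/
theorem isField_stalk_of_discrete (Z : Scheme.{u}) [DiscreteTopology Z] [IsReduced Z] (z : Z) :
    IsField (Z.presheaf.stalk z) := by
  have hsub : ∀ q : PrimeSpectrum (Z.presheaf.stalk z),
      q = IsLocalRing.closedPoint (Z.presheaf.stalk z) := by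
    intro q
    apply (Z.fromSpecStalk z).isEmbedding.injective
    have h1 : ∀ q : Spec (Z.presheaf.stalk z), (Z.fromSpecStalk z) q = z := by
      intro q
      have : (Z.fromSpecStalk z) q ∈ Set.range (Z.fromSpecStalk z) := ⟨q, rfl⟩
      rw [Scheme.range_fromSpecStalk] at this
      exact (specializes_iff_eq.mp this)
    exact (h1 q).trans (h1 _).symm
  rw [IsLocalRing.isField_iff_maximalIdeal_eq]
  have hnil : nilradical (Z.presheaf.stalk z) = ⊥ := nilradical_eq_zero _
  rw [← hnil, nilradical_eq_sInf]
  apply le_antisymm
  · apply le_sInf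
    intro J hJ
    have := hsub ⟨J, hJ⟩
    have h2 := congrArg PrimeSpectrum.asIdeal this
    simp only [IsLocalRing.closedPoint] at h2
    rw [h2]
  · exact sInf_le (IsLocalRing.maximalIdeal.isMaximal _).isPrime

/-- A set of closed points which is locally finite is closed. -/
theorem isClosed_of_locally_finite_closed_points {α : Type*} [TopologicalSpace α] (C : Set α)
    (hpt : ∀ c ∈ C, IsClosed ({c} : Set α))
    (hloc : ∀ a : α, ∃ W : Set α, IsOpen W ∧ a ∈ W ∧ (C ∩ W).Finite) : IsClosed C := by
  rw [← isOpen_compl_iff, isOpen_iff_mem_nhds]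
  intro a ha
  obtain ⟨W, hW, haW, hfin⟩ := hloc a
  have hcl : IsClosed (C ∩ W) := by
    have : C ∩ W = ⋃ c ∈ C ∩ W, {c} := (Set.biUnion_of_singleton _).symm
    rw [this]
    exact hfin.isClosed_biUnion fun c hc => hpt c hc.1
  have hopen : IsOpen (W ∩ (C ∩ W)ᶜ) := hW.inter hcl.isOpen_compl
  refine Filter.mem_of_superset (hopen.mem_nhds ⟨haW, fun h => ha h.1⟩) ?_
  rintro b ⟨hbW, hb⟩ hbC
  exact hb ⟨hbC, hbW⟩

/-- A quasi-compact monomorphism `i : Z ⟶ A` of schemes with `Z` discrete and reduced, whose image is closed
and carries no nontrivial specializations, is a closed immersion. -/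
theorem isClosedImmersion_of_mono_discrete {Z A : Scheme.{u}} (i : Z ⟶ A) [Mono i] [QuasiCompact i]
    [DiscreteTopology Z] [IsReduced Z] (hcl : IsClosed (Set.range i))
    (hsp : ∀ z z' : Z, i z ⤳ i z' → z = z') : IsClosedImmersion i := by
  have hinj : Function.Injective i := i.injective
  -- the image points are closed
  have hpt : ∀ z : Z, IsClosed ({i z} : Set A) := by
    intro z
    have h1 : closure ({i z} : Set A) ⊆ {i z} := by
      intro a' ha'
      have h2 : a' ∈ Set.range i := (closure_minimal (by rintro _ rfl; exact ⟨z, rfl⟩) hcl) ha'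
      obtain ⟨z', rfl⟩ := h2
      rw [← specializes_iff_mem_closure] at ha'
      rw [hsp z z' ha']
      rfl
    exact closure_subset_iff_isClosed.mp h1
  -- the map is closed
  have hclosed : IsClosedMap i := by
    intro T _
    refine isClosed_of_locally_finite_closed_points _ ?_ ?_
    · rintro _ ⟨z, -, rfl⟩
      exact hpt z
    · intro a
      obtain ⟨W, hW, haW, -⟩ : ∃ W : A.Opens, W ∈ A.affineOpens ∧ a ∈ W ∧ W ≤ (⊤ : A.Opens) :=
        TopologicalSpace.Opens.isBasis_iff_nbhd.1 A.isBasis_affineOpens
          (show a ∈ (⊤ : A.Opens) from trivial)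
      refine ⟨W, W.2, haW, ?_⟩
      have hc : IsCompact (i ⁻¹' (W : Set A)) :=
        QuasiCompact.isCompact_preimage (f := i) _ W.2 (IsAffineOpen.isCompact hW)
      have hfin : (i ⁻¹' (W : Set A)).Finite := hc.finite_of_discrete
      refine (hfin.image i).subset ?_
      rintro _ ⟨⟨z, -, rfl⟩, hzW⟩
      exact ⟨z, hzW, rfl⟩
  have hemb : Topology.IsClosedEmbedding i :=
    Topology.IsClosedEmbedding.of_continuous_injective_isClosedMap i.continuous hinj hclosed
  -- surjectivity on stalks
  refine { stalkMap_surjective := fun z => ?_, isClosedEmbedding := hemb }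
  -- the residue field extension is an epimorphism of fields, hence surjective
  have hmono : Mono (Spec.map (i.residueFieldMap z)) := by
    have h1 : Mono (Spec.map (i.residueFieldMap z) ≫ A.fromSpecResidueField (i z)) := by
      rw [Scheme.Hom.SpecMap_residueFieldMap_fromSpecResidueField]
      infer_instance
    exact mono_of_mono _ (A.fromSpecResidueField (i z))
  have hepi : Epi (i.residueFieldMap z) := by
    have h2 : Mono (i.residueFieldMap z).op := Scheme.Spec.mono_of_mono_map hmono
    exact unop_epi_of_mono (i.residueFieldMap z).op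
  have hres : Function.Surjective (i.residueFieldMap z) := by
    algebraize [(i.residueFieldMap z).hom]
    have h3 : Algebra.IsEpi (A.residueField (i z)) (Z.residueField z) :=
      CommRingCat.epi_iff_epi.mp hepi
    exact surjective_algebraMap_of_isEpi_field _ _
  -- the local ring at `z` is a field
  have hfield : IsField (Z.presheaf.stalk z) := isField_stalk_of_discrete Z z
  have hresinj : Function.Injective (Z.residue z) := by
    letI := hfield.toField
    exact (Z.residue z).hom.injective
  intro y
  obtain ⟨c, hc⟩ := hres (Z.residue z y)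
  obtain ⟨b, rfl⟩ : ∃ b, A.residue (i z) b = c := IsLocalRing.residue_surjective c
  refine ⟨b, hresinj ?_⟩
  rw [← hc]
  exact (congrArg (fun φ => φ b) (Scheme.residue_residueFieldMap i z)).symm

end Groth.Agent.Lib.Seat83.ClosedPt
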