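import Mathlib
import Groth.Agent.Lib.Seat46UBFField

/-!
# Fibre degree of a morphism with finite fibres (seat 83)

* `exists_section_of_isCompl`: gluing two sections over complementary opens of a scheme.
* `finite_of_rank_le`: a discrete scheme over a field whose ring of global sections has rank `≤ n` has at most `n` points.
* `fdeg f s`: the degree of the fibre of `f` over `s` (Mathlib's `Scheme.Hom.finrank` of `f.fiberToSpecResidueField s`);
  `fdeg_of_isPullback`, `fdeg_eq_finrank`.
-/

set_option autoImplicit false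
set_option linter.style.haveILetI false
universe u

open CategoryTheory CategoryTheory.Limits AlgebraicGeometry Topology TopologicalSpace Opposite

namespace Groth.Agent.Lib.Seat83.FibDeg

/-- gluing two sections over complementary opens. -/
theorem exists_section_of_isCompl (X : Scheme.{u}) (U V : X.Opens) (hsup : U ⊔ V = ⊤) (hinf : U ⊓ V = ⊥)
    (a : Γ(X, U)) (b : Γ(X, V)) :
    ∃ s : Γ(X, ⊤), X.presheaf.map (homOfLE le_top : U ⟶ ⊤).op s = a ∧
      X.presheaf.map (homOfLE le_top : V ⟶ ⊤).op s = b := by
  have hsub : Subsingleton (X.presheaf.obj (op (U ⊓ V))) := by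
    rw [hinf]; infer_instance
  let x : (CommRingCat.of <| RingHom.eqLocus
      (RingHom.comp (X.sheaf.obj.map (homOfLE inf_le_left : U ⊓ V ⟶ U).op).hom
        (RingHom.fst (X.sheaf.obj.obj <| op U) (X.sheaf.obj.obj <| op V)))
      (RingHom.comp (X.sheaf.obj.map (homOfLE inf_le_right : U ⊓ V ⟶ V).op).hom
        (RingHom.snd (X.sheaf.obj.obj <| op U) (X.sheaf.obj.obj <| op V)))) :=
    ⟨(a, b), Subsingleton.elim (h := hsub) _ _⟩
  let s₀ := (X.sheaf.objSupIsoProdEqLocus U V).inv x
  have h1 := X.sheaf.objSupIsoProdEqLocus_inv_fst U V x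
  have h2 := X.sheaf.objSupIsoProdEqLocus_inv_snd U V x
  have hle : (⊤ : X.Opens) ≤ U ⊔ V := hsup.ge
  refine ⟨X.presheaf.map (homOfLE hle).op s₀, ?_, ?_⟩
  · rw [← ConcreteCategory.comp_apply, ← Functor.map_comp]
    exact h1
  · rw [← ConcreteCategory.comp_apply, ← Functor.map_comp]
    exact h2

open Groth.Agent.Lib.Seat46.UBFField

section Points

variable {T : Scheme.{u}} {K : Type u} [Field K]

/-- A discrete scheme over a field whose ring of global sections has rank at most `n` is finite (as a set). -/
theorem finite_of_rank_le (c : T ⟶ Spec (CommRingCat.of K)) [DiscreteTopology T] (n : ℕ)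
    (h : letI := (ringMap c).hom.toAlgebra
      Module.rank K Γ(T, ⊤) ≤ (n : Cardinal.{u})) : Finite T := by
  letI : Algebra K Γ(T, ⊤) := (ringMap c).hom.toAlgebra
  by_contra hinf
  rw [not_finite_iff_infinite] at hinf
  let x : Fin (n + 1) → T := fun i => Infinite.natEmbedding T (i : ℕ)
  have hx : Function.Injective x := fun i j hij =>
    Fin.val_injective ((Infinite.natEmbedding T).injective hij)
  -- the opens `{x i}` and its complement
  let U : Fin (n + 1) → T.Opens := fun i => ⟨{x i}, isOpen_discrete _⟩
  let V : Fin (n + 1) → T.Opens := fun i => ⟨{x i}ᶜ, isOpen_discrete _⟩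
  have hsup : ∀ i, U i ⊔ V i = ⊤ := fun i => by
    ext t
    simp only [U, V, Opens.coe_sup, Opens.coe_mk, Opens.coe_top, Set.union_compl_self]
  have hinf' : ∀ i, U i ⊓ V i = ⊥ := fun i => by
    ext t
    simp only [U, V, Opens.coe_inf, Opens.coe_mk, Opens.coe_bot, Set.inter_compl_self]
  choose e he1 he0 using fun i => exists_section_of_isCompl T (U i) (V i) (hsup i) (hinf' i) 1 0
  have hli : LinearIndependent K e := by
    rw [linearIndependent_iff']
    intro s g hsum j hj
    -- restrict to `U j`
    let ρ : Γ(T, ⊤) →+* Γ(T, U j) := (T.presheaf.map (homOfLE le_top : U j ⟶ ⊤).op).hom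
    have hρe : ∀ i, ρ (e i) = if i = j then 1 else 0 := fun i => by
      by_cases hij : i = j
      · subst hij
        rw [if_pos rfl]
        exact he1 i
      · rw [if_neg hij]
        have hle : U j ≤ V i := by
          intro t ht
          simp only [U, V, Opens.mem_mk, Set.mem_singleton_iff, Set.mem_compl_iff] at ht ⊢
          rw [ht]
          exact fun h' => hij (hx h').symm
        have : ρ (e i) = (T.presheaf.map (homOfLE hle).op).hom
            ((T.presheaf.map (homOfLE le_top : V i ⟶ ⊤).op).hom (e i)) := by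
          change _ = ((T.presheaf.map (homOfLE le_top : V i ⟶ ⊤).op) ≫ T.presheaf.map (homOfLE hle).op) (e i)
          rw [← Functor.map_comp]
          rfl
        rw [this]
        have h0 : (T.presheaf.map (homOfLE le_top : V i ⟶ ⊤).op).hom (e i) = 0 := he0 i
        rw [h0, map_zero]
    have h1 := congrArg ρ hsum
    rw [map_sum, map_zero] at h1
    have h2 : ∀ i ∈ s, ρ (g i • e i) = if i = j then ρ (algebraMap K _ (g i)) else 0 := fun i _ => by
      rw [Algebra.smul_def, map_mul, hρe]
      split_ifs <;> simp
    rw [Finset.sum_congr rfl h2, Finset.sum_ite_eq' s j, if_pos hj] at h1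
    haveI : Nonempty (U j) := ⟨⟨x j, rfl⟩⟩
    haveI : Nontrivial Γ(T, U j) := inferInstance
    exact (map_eq_zero_iff (ρ.comp (algebraMap K Γ(T, ⊤))) (RingHom.injective _)).1 h1
  have := hli.cardinal_lift_le_rank
  rw [Cardinal.mk_fin, Cardinal.lift_natCast, Cardinal.lift_id'] at this
  have h3 := this.trans h
  norm_cast at h3
  omega


/-- A locally quasi-finite scheme over a field whose ring of global sections has rank at most `n` is finite of degree at most
`n` over the field. -/
theorem isFinite_of_rank_le (c : T ⟶ Spec (CommRingCat.of K)) [LocallyQuasiFinite c] (n : ℕ)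
    (h : letI := (ringMap c).hom.toAlgebra
      Module.rank K Γ(T, ⊤) ≤ (n : Cardinal.{u})) : IsFinite c ∧ ∀ s, c.finrank s ≤ n := by
  haveI : IsLocallyArtinian T := IsLocallyArtinian.of_locallyQuasiFinite c
  haveI : DiscreteTopology T := inferInstance
  haveI : Finite T := finite_of_rank_le c n h
  haveI : CompactSpace T := inferInstance
  haveI : QuasiCompact c := (HasAffineProperty.iff_of_isAffine (P := @QuasiCompact)).2 inferInstance
  haveI hfin : IsFinite c := IsFinite.of_locallyQuasiFinite c
  rw [isFinite_and_finrank_le_iff]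
  letI : Algebra K Γ(T, ⊤) := (ringMap c).hom.toAlgebra
  have hlt : Module.rank K Γ(T, ⊤) < Cardinal.aleph0 := h.trans_lt (Cardinal.natCast_lt_aleph0)
  haveI : Module.Finite K Γ(T, ⊤) := Module.rank_lt_aleph0_iff.1 hlt
  refine ⟨isAffine_of_isAffineHom c, inferInstance, ?_⟩
  have := Module.finrank_eq_rank K Γ(T, ⊤)
  rw [← this] at h
  exact_mod_cast h

end Points

section OverField

variable {T T' : Scheme.{u}} {K : Type u} [Field K]

/-- the rank of a finite morphism to the spectrum of a field is the dimension of the ring of global sections. -/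
theorem finrank_eq_finrank_Γ (c : T ⟶ Spec (CommRingCat.of K)) [IsFinite c] (p : ↥(Spec (CommRingCat.of K))) :
    letI := (ringMap c).hom.toAlgebra
    c.finrank p = Module.finrank K Γ(T, ⊤) := by
  letI : Algebra K Γ(T, ⊤) := (ringMap c).hom.toAlgebra
  have hsub : ∀ q : ↥(Spec (CommRingCat.of K)), q = p := fun q => Subsingleton.elim (α := PrimeSpectrum K) _ _
  apply le_antisymm
  · have := (isFinite_and_finrank_le_iff c (Module.finrank K Γ(T, ⊤))).2
      ⟨isAffine_of_isAffineHom c, ((isFinite_and_finrank_le_iff c (c.finrank p)).1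
        ⟨inferInstance, fun q => by rw [hsub q]⟩).2.1, le_rfl⟩
    exact this.2 p
  · exact ((isFinite_and_finrank_le_iff c (c.finrank p)).1 ⟨inferInstance, fun q => by rw [hsub q]⟩).2.2

/-- a closed subscheme of a scheme finite over a field has smaller degree, with equality only if it is everything. -/
theorem finrank_comp_le_of_isClosedImmersion (c : T ⟶ Spec (CommRingCat.of K)) [IsFinite c] (j : T' ⟶ T)
    [IsClosedImmersion j] (p : ↥(Spec (CommRingCat.of K))) :
    (j ≫ c).finrank p ≤ c.finrank p ∧ ((j ≫ c).finrank p = c.finrank p → IsIso j) := by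
  haveI : IsAffine T := isAffine_of_isAffineHom c
  rw [finrank_eq_finrank_Γ, finrank_eq_finrank_Γ]
  letI : Algebra K Γ(T, ⊤) := (ringMap c).hom.toAlgebra
  letI : Algebra K Γ(T', ⊤) := (ringMap (j ≫ c)).hom.toAlgebra
  haveI : Module.Finite K Γ(T, ⊤) :=
    ((isFinite_and_finrank_le_iff c (c.finrank p)).1 ⟨inferInstance, fun q => by
      rw [Subsingleton.elim (α := PrimeSpectrum K) q p]⟩).2.1
  have hsurj : Function.Surjective j.appTop := (IsClosedImmersion.isAffine_surjective_of_isAffine j).2
  let φ : Γ(T, ⊤) →ₗ[K] Γ(T', ⊤) :=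
    { toFun := fun x => j.appTop.hom x
      map_add' := fun x y => map_add _ _ _
      map_smul' := fun k x => by
        simp only [Algebra.smul_def, map_mul, RingHom.id_apply]
        congr 1 }
  have hφ : Function.Surjective φ := hsurj
  refine ⟨LinearMap.finrank_le_finrank_of_surjective hφ, fun heq => ?_⟩
  haveI : Module.Finite K Γ(T', ⊤) := Module.Finite.of_surjective φ hφ
  have hinj : Function.Injective φ :=
    (LinearMap.injective_iff_surjective_of_finrank_eq_finrank heq.symm).2 hφ
  exact IsClosedImmersion.isIso_of_injective_of_isAffine hinj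

end OverField

section Fdeg

variable {X S : Scheme.{u}}

/-- the degree of the fibre of `f` over `s` (meaningful when that fibre is finite over `κ(s)`). -/
noncomputable def fdeg (f : X ⟶ S) (s : S) : ℕ :=
  (f.fiberToSpecResidueField s).finrank
    (show ↥(Spec (S.residueField s)) from IsLocalRing.closedPoint (S.residueField s))

lemma finrank_fiberToSpecResidueField (f : X ⟶ S) (s : S) (p : ↥(Spec (S.residueField s))) :
    (f.fiberToSpecResidueField s).finrank p = fdeg f s := by
  rw [fdeg]
  congr 1
  exact Subsingleton.elim (α := PrimeSpectrum _) _ _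

/-- base change of finiteness of a fibre. -/
lemma isFinite_fiber_of_isPullback {P X Y Z : Scheme.{u}} {fst : P ⟶ X} {snd : P ⟶ Y} {f : X ⟶ Z} {g : Y ⟶ Z}
    (h : IsPullback fst snd f g) (y : Y) [IsFinite (f.fiberToSpecResidueField (g y))] :
    IsFinite (snd.fiberToSpecResidueField y) :=
  MorphismProperty.of_isPullback (P := @IsFinite) (isPullback_fiberToSpecResidueField_of_isPullback h y) ‹_›

/-- the degree of the fibres is compatible with base change. -/
theorem fdeg_of_isPullback {P X Y Z : Scheme.{u}} {fst : P ⟶ X} {snd : P ⟶ Y} {f : X ⟶ Z} {g : Y ⟶ Z}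
    (h : IsPullback fst snd f g) (y : Y) [hh : IsFinite (f.fiberToSpecResidueField (g y))] :
    fdeg snd y = fdeg f (g y) := by
  have hpb := isPullback_fiberToSpecResidueField_of_isPullback h y
  have hfl : Flat (f.fiberToSpecResidueField (g y)) := inferInstance
  exact (@Scheme.Hom.finrank_of_isPullback _ _ _ _ _ _ _ _ hpb hfl hh _).trans
    (finrank_fiberToSpecResidueField f (g y) _)

/-- for a finite flat morphism the degree of the fibre is the rank. -/
theorem fdeg_eq_finrank (f : X ⟶ S) [Flat f] [IsFinite f] (s : S) : fdeg f s = f.finrank s := by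
  have h : IsPullback (f.fiberι s) (f.fiberToSpecResidueField s) f (S.fromSpecResidueField s) :=
    IsPullback.of_hasPullback _ _
  rw [fdeg, Scheme.Hom.finrank_of_isPullback _ _ _ _ h, Scheme.fromSpecResidueField_apply]

end Fdeg

section Clopen

variable {X S : Scheme.{u}}

/-- the fibre of the restriction of `f` to an open `V`, as an open subscheme of the fibre of `f`. -/
noncomputable def fiberOpenι' (f : X ⟶ S) (V : X.Opens) (s : S) :
    pullback (V.ι ≫ f) (S.fromSpecResidueField s) ⟶ pullback f (S.fromSpecResidueField s) :=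
  (pullbackRightPullbackFstIso f (S.fromSpecResidueField s) V.ι).inv ≫
    pullback.snd V.ι (pullback.fst f (S.fromSpecResidueField s))

instance (f : X ⟶ S) (V : X.Opens) (s : S) : IsOpenImmersion (fiberOpenι' f V s) := by
  rw [fiberOpenι']; infer_instance

lemma fiberOpenι'_snd (f : X ⟶ S) (V : X.Opens) (s : S) :
    fiberOpenι' f V s ≫ pullback.snd f (S.fromSpecResidueField s) =
      pullback.snd (V.ι ≫ f) (S.fromSpecResidueField s) := by
  rw [fiberOpenι', Category.assoc]
  exact pullbackRightPullbackFstIso_inv_snd_snd _ _ _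

lemma range_fiberOpenι' (f : X ⟶ S) (V : X.Opens) (s : S) :
    Set.range (fiberOpenι' f V s) = (pullback.fst f (S.fromSpecResidueField s)) ⁻¹' (V : Set X) := by
  rw [fiberOpenι', Scheme.Hom.comp_base, TopCat.coe_comp, Set.range_comp,
    Set.range_eq_univ.2 (ConcreteCategory.bijective_of_isIso
      (pullbackRightPullbackFstIso f (S.fromSpecResidueField s) V.ι).inv.base).2, Set.image_univ,
    Scheme.Pullback.range_snd, Scheme.Opens.range_ι]

/-- the same, typed with `Scheme.Hom.fiber`. -/
noncomputable def fiberOpenι (f : X ⟶ S) (V : X.Opens) (s : S) : (V.ι ≫ f).fiber s ⟶ f.fiber s :=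
  fiberOpenι' f V s

instance (f : X ⟶ S) (V : X.Opens) (s : S) : IsOpenImmersion (fiberOpenι f V s) :=
  inferInstanceAs (IsOpenImmersion (fiberOpenι' f V s))

lemma fiberOpenι_fiberToSpecResidueField (f : X ⟶ S) (V : X.Opens) (s : S) :
    fiberOpenι f V s ≫ f.fiberToSpecResidueField s = (V.ι ≫ f).fiberToSpecResidueField s :=
  fiberOpenι'_snd f V s

lemma range_fiberOpenι (f : X ⟶ S) (V : X.Opens) (s : S) :
    Set.range (fiberOpenι f V s) = (f.fiberι s) ⁻¹' (V : Set X) :=
  range_fiberOpenι' f V s

/-- Degrees of the fibres of the restriction of `f` to an open and closed subset. -/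
theorem fdeg_clopen (f : X ⟶ S) (V : X.Opens) (hV : IsClosed (V : Set X)) (s : S)
    [hfin : IsFinite (f.fiberToSpecResidueField s)] :
    IsFinite ((V.ι ≫ f).fiberToSpecResidueField s) ∧ fdeg (V.ι ≫ f) s ≤ fdeg f s ∧
      (fdeg (V.ι ≫ f) s = fdeg f s ↔ f ⁻¹' {s} ⊆ (V : Set X)) := by
  have hcl : IsClosed (Set.range (fiberOpenι f V s)) := by
    rw [range_fiberOpenι]
    exact hV.preimage (f.fiberι s).continuous
  haveI : IsClosedImmersion (fiberOpenι f V s) := IsClosedImmersion.of_isPreimmersion _ hcl
  have hc := fiberOpenι_fiberToSpecResidueField f V s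
  have key := finrank_comp_le_of_isClosedImmersion (K := S.residueField s) (f.fiberToSpecResidueField s)
    (fiberOpenι f V s) (show ↥(Spec (S.residueField s)) from IsLocalRing.closedPoint (S.residueField s))
  rw [hc] at key
  refine ⟨?_, key.1, ⟨fun h => ?_, fun h => ?_⟩⟩
  · rw [← hc]; infer_instance
  · haveI := key.2 h
    intro x hx
    rw [← f.range_fiberι s] at hx
    obtain ⟨z, rfl⟩ := hx
    have : z ∈ Set.range (fiberOpenι f V s) := by
      rw [Set.range_eq_univ.2 (ConcreteCategory.bijective_of_isIso (fiberOpenι f V s).base).2]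
      trivial
    rw [range_fiberOpenι] at this
    exact this
  · have hsurj : Function.Surjective (fiberOpenι f V s) := by
      rw [← Set.range_eq_univ, range_fiberOpenι, Set.eq_univ_iff_forall]
      intro z
      apply h
      rw [← f.range_fiberι s]
      exact ⟨z, rfl⟩
    haveI : Epi (fiberOpenι f V s).base := (TopCat.epi_iff_surjective _).2 hsurj
    haveI : IsIso (fiberOpenι f V s) := IsOpenImmersion.isIso _
    rw [fdeg, fdeg, ← hc, Scheme.Hom.finrank_comp_left_of_isIso]

end Clopen

end Groth.Agent.Lib.Seat83.FibDeg
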