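import Mathlib
import Groth.Agent.Lib.Seat83FibDeg
import Groth.Agent.S5985
import Groth.Agent.S0084
import Groth.Prelude.Def_Mor2

/-!
# Stratification by the degree of the fibres (seat 83)

For `f : X ⟶ S` flat, locally of finite presentation, separated, with finite fibres:
* `exists_open_le_fdeg`: the fibre degree is lower semicontinuous;
* `isFinite_of_fdeg_eq`: if the fibre degree is constant then `f` is finite locally free of that degree.
-/

set_option autoImplicit false
set_option linter.style.haveILetI false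
universe u

open CategoryTheory CategoryTheory.Limits AlgebraicGeometry Topology TopologicalSpace Opposite

namespace Groth.Agent.Lib.Seat83.FibDeg

open Groth.Agent.Lib.Seat46.UBFField

variable {X S : Scheme.{u}}

lemma finite_preimage_of_isFinite_fiber (f : X ⟶ S) (s : S) [IsFinite (f.fiberToSpecResidueField s)] :
    (f ⁻¹' {s}).Finite := by
  haveI : Finite ↥(f.fiber s) :=
    (finite_discrete_of_isFinite (K := S.residueField s) (f.fiberToSpecResidueField s)).1
  rw [← f.range_fiberι s]
  exact Set.finite_range _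

/-- the étale local structure of a separated morphism with finite fibre over `s`. -/
theorem exists_etale_clopen (f : X ⟶ S) [LocallyOfFiniteType f] [IsSeparated f] (s : S)
    [IsFinite (f.fiberToSpecResidueField s)] :
    ∃ (Y : Scheme.{u}) (g : Y ⟶ S) (y : Y), Etale g ∧ g y = s ∧
      ∃ V : (pullback f g).Opens, IsClosed (V : Set ↥(pullback f g)) ∧ IsFinite (V.ι ≫ pullback.snd f g) ∧
        ∀ x : ↥(pullback f g), pullback.snd f g x = y → x ∈ V := by
  obtain ⟨Y, g, y, hg, hy, -, V, W, hVW, hfin, hV⟩ :=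
    Groth.Agent.S5985.result f s (finite_preimage_of_isFinite_fiber f s)
  refine ⟨Y, g, y, hg, hy, V, ?_, hfin, hV⟩
  have : (V : Set ↥(pullback f g)) = (W : Set ↥(pullback f g))ᶜ := by
    ext x
    constructor
    · intro hx hx'
      have : x ∈ V ⊓ W := ⟨hx, hx'⟩
      rw [hVW.inf_eq_bot] at this
      exact this
    · intro hx
      have : x ∈ V ⊔ W := by rw [hVW.sup_eq_top]; trivial
      rcases this with h | h
      · exact h
      · exact absurd h hx
  rw [this]
  exact W.isOpen.isClosed_compl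

section Descent

/-- the trivial pullback square of a morphism through a monomorphism. -/
lemma isPullback_id_of_mono' {C : Type*} [Category C] {A Y X : C} (f' : A ⟶ Y) (j : Y ⟶ X) [Mono j] :
    IsPullback (𝟙 A) f' (f' ≫ j) j := by
  have h1 : IsPullback f' (𝟙 A) (𝟙 Y) f' := IsPullback.of_vert_isIso ⟨by simp⟩
  have h2 : IsPullback (𝟙 Y) (𝟙 Y) j j := (IsKernelPair.id_of_mono j)
  have := h1.paste_horiz h2
  simpa using this.flip


/-- finiteness over the (open) image of an étale morphism, by descent. -/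
theorem isFinite_morphismRestrict_of_etale (f : X ⟶ S) {Y : Scheme.{u}} (g : Y ⟶ S) [Etale g]
    (h : IsFinite (pullback.snd f g)) :
    IsFinite (f ∣_ (⟨Set.range g, g.isOpenMap.isOpen_range⟩ : S.Opens)) := by
  set O : S.Opens := ⟨Set.range g, g.isOpenMap.isOpen_range⟩ with hO
  have hrange : Set.range g ⊆ Set.range O.ι := by
    rw [Scheme.Opens.range_ι]; exact subset_rfl
  let g' : Y ⟶ O := IsOpenImmersion.lift O.ι g hrange
  have hg' : g' ≫ O.ι = g := IsOpenImmersion.lift_fac _ _ _
  have hsq : IsPullback (𝟙 Y) g' g O.ι := by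
    have := isPullback_id_of_mono' g' O.ι
    rwa [hg'] at this
  have hfl : Flat g' := MorphismProperty.of_isPullback (P := @Flat) hsq inferInstance
  have hfp : LocallyOfFinitePresentation g' :=
    MorphismProperty.of_isPullback (P := @LocallyOfFinitePresentation) hsq inferInstance
  have hsurj : Surjective g' := by
    refine ⟨fun o => ?_⟩
    obtain ⟨y, hy⟩ : O.ι o ∈ Set.range g := o.2
    refine ⟨y, ?_⟩
    apply O.ι.injective
    rw [← Scheme.Hom.comp_apply, hg', hy]
  have R : IsPullback (f ⁻¹ᵁ O).ι (f ∣_ O) f O.ι := (isPullback_morphismRestrict f O).flip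
  have s₀ : IsPullback (pullback.fst f g) (pullback.snd f g) f (g' ≫ O.ι) := by
    rw [hg']; exact IsPullback.of_hasPullback f g
  have key := IsPullback.of_right' s₀ R
  haveI := Groth.Agent.S0084.result.{u}
  exact MorphismProperty.of_isPullback_of_descendsAlong (P := @IsFinite)
    (Q := @Surjective ⊓ @Flat ⊓ @LocallyOfFinitePresentation) key.flip ⟨⟨hsurj, hfl⟩, hfp⟩ h

/-- finiteness can be checked étale locally on the target. -/
theorem isFinite_of_etale_local (f : X ⟶ S)
    (h : ∀ s : S, ∃ (Y : Scheme.{u}) (g : Y ⟶ S), Etale g ∧ s ∈ Set.range g ∧ IsFinite (pullback.snd f g)) :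
    IsFinite f := by
  choose Y g hg hs hfin using h
  haveI := hg
  rw [IsZariskiLocalAtTarget.iff_of_iSup_eq_top (P := @IsFinite)
    (U := fun s => (⟨Set.range (g s), (g s).isOpenMap.isOpen_range⟩ : S.Opens))]
  · intro s
    exact isFinite_morphismRestrict_of_etale f (g s) (hfin s)
  · rw [eq_top_iff]
    intro s _
    exact Opens.mem_iSup.2 ⟨s, hs s⟩

end Descent

section Main

variable (f : X ⟶ S) [Flat f] [LocallyOfFinitePresentation f] [IsSeparated f]

/-- the étale local data around `s`: a clopen part `V` of the base change, finite locally free of constant rank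
`fdeg f s` over an open neighbourhood `Y₀` of the chosen point over `s`. -/
theorem exists_local_data (hH : ∀ s, IsFinite (f.fiberToSpecResidueField s)) (s : S) :
    ∃ (Y : Scheme.{u}) (g : Y ⟶ S) (y : Y) (V : (pullback f g).Opens) (Y₀ : Y.Opens), Etale g ∧ g y = s ∧ y ∈ Y₀ ∧
      IsClosed (V : Set ↥(pullback f g)) ∧ IsFinite (V.ι ≫ pullback.snd f g) ∧
      ∀ y₁ ∈ Y₀, (V.ι ≫ pullback.snd f g).finrank y₁ = fdeg f s := by
  haveI := hH s
  obtain ⟨Y, g, y, hg, hy, V, hVcl, hVfin, hV⟩ := exists_etale_clopen f s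
  have hpb : IsPullback (pullback.fst f g) (pullback.snd f g) f g := IsPullback.of_hasPullback f g
  haveI : IsFinite (f.fiberToSpecResidueField (g y)) := hH _
  haveI : IsFinite ((pullback.snd f g).fiberToSpecResidueField y) := isFinite_fiber_of_isPullback hpb y
  have h1 : fdeg (pullback.snd f g) y = fdeg f (g y) := fdeg_of_isPullback hpb y
  have h2 := (fdeg_clopen (pullback.snd f g) V hVcl y).2.2.2 (fun x hx => hV x hx)
  have h3 : fdeg (V.ι ≫ pullback.snd f g) y = (V.ι ≫ pullback.snd f g).finrank y := fdeg_eq_finrank _ y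
  have hlc := Scheme.Hom.isLocallyConstant_finrank (V.ι ≫ pullback.snd f g)
  refine ⟨Y, g, y, V, ⟨_, hlc.isOpen_fiber ((V.ι ≫ pullback.snd f g).finrank y)⟩, hg, hy, rfl, hVcl, hVfin, ?_⟩
  intro y₁ hy₁
  have : (V.ι ≫ pullback.snd f g).finrank y₁ = (V.ι ≫ pullback.snd f g).finrank y := hy₁
  rw [this, ← h3, h2, h1, hy]

/-- lower semicontinuity of the degree of the fibres. -/
theorem exists_open_le_fdeg (hH : ∀ s, IsFinite (f.fiberToSpecResidueField s)) (s : S) :
    ∃ O : S.Opens, s ∈ O ∧ ∀ s' ∈ O, fdeg f s ≤ fdeg f s' := by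
  obtain ⟨Y, g, y, V, Y₀, hg, hy, hyY₀, hVcl, hVfin, hrk⟩ := exists_local_data f hH s
  refine ⟨⟨g '' (Y₀ : Set Y), g.isOpenMap _ Y₀.isOpen⟩, ⟨y, hyY₀, hy⟩, ?_⟩
  rintro s' ⟨y₁, hy₁, rfl⟩
  have hpb : IsPullback (pullback.fst f g) (pullback.snd f g) f g := IsPullback.of_hasPullback f g
  haveI : IsFinite (f.fiberToSpecResidueField (g y₁)) := hH _
  haveI : IsFinite ((pullback.snd f g).fiberToSpecResidueField y₁) := isFinite_fiber_of_isPullback hpb y₁
  rw [← fdeg_of_isPullback hpb y₁, ← hrk y₁ hy₁, ← fdeg_eq_finrank]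
  exact (fdeg_clopen (pullback.snd f g) V hVcl y₁).2.1

/-- the sublevel sets of the degree of the fibres are closed. -/
theorem isClosed_setOf_fdeg_le (hH : ∀ s, IsFinite (f.fiberToSpecResidueField s)) (r : ℕ) :
    IsClosed {s : S | fdeg f s ≤ r} := by
  rw [← isOpen_compl_iff, isOpen_iff_forall_mem_open]
  intro s hs
  obtain ⟨O, hsO, hO⟩ := exists_open_le_fdeg f hH s
  refine ⟨O, fun s' hs' => ?_, O.isOpen, hsO⟩
  simp only [Set.mem_compl_iff, Set.mem_ofPred_eq, not_le] at hs ⊢
  exact hs.trans_le (hO s' hs')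

/-- if the degree of the fibres is constant, `f` becomes finite on an étale neighbourhood of each point. -/
theorem exists_etale_isFinite_of_fdeg_eq (hH : ∀ s, IsFinite (f.fiberToSpecResidueField s)) (r : ℕ)
    (hr : ∀ s, fdeg f s = r) (s : S) :
    ∃ (Y : Scheme.{u}) (g : Y ⟶ S), Etale g ∧ s ∈ Set.range g ∧ IsFinite (pullback.snd f g) := by
  obtain ⟨Y, g, y, V, Y₀, hg, hy, hyY₀, hVcl, hVfin, hrk⟩ := exists_local_data f hH s
  have t : IsPullback (pullback.fst f g) (pullback.snd f g) f g := IsPullback.of_hasPullback f g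
  refine ⟨Y₀, Y₀.ι ≫ g, inferInstance, ⟨⟨y, hyY₀⟩, hy⟩, ?_⟩
  have s₀ : IsPullback (pullback.fst f (Y₀.ι ≫ g)) (pullback.snd f (Y₀.ι ≫ g)) f (Y₀.ι ≫ g) :=
    IsPullback.of_hasPullback f (Y₀.ι ≫ g)
  let q : pullback f (Y₀.ι ≫ g) ⟶ pullback f g :=
    t.lift (pullback.fst f (Y₀.ι ≫ g)) (pullback.snd f (Y₀.ι ≫ g) ≫ Y₀.ι) (by rw [s₀.w, Category.assoc])
  have hq : IsPullback q (pullback.snd f (Y₀.ι ≫ g)) (pullback.snd f g) Y₀.ι := IsPullback.of_right' s₀ t
  -- `q` lands in `V`
  have hrange : Set.range q ⊆ Set.range V.ι := by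
    rintro _ ⟨z, rfl⟩
    rw [Scheme.Opens.range_ι]
    set y₁ : Y := Y₀.ι (pullback.snd f (Y₀.ι ≫ g) z) with hy₁
    have hy₁Y₀ : y₁ ∈ Y₀ := (pullback.snd f (Y₀.ι ≫ g) z).2
    have hqz : pullback.snd f g (q z) = y₁ := by
      rw [← Scheme.Hom.comp_apply, hq.w, Scheme.Hom.comp_apply]
    haveI : IsFinite (f.fiberToSpecResidueField (g y₁)) := hH _
    haveI : IsFinite ((pullback.snd f g).fiberToSpecResidueField y₁) := isFinite_fiber_of_isPullback t y₁
    have h1 : fdeg (pullback.snd f g) y₁ = r := by rw [fdeg_of_isPullback t y₁, hr]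
    have h2 : fdeg (V.ι ≫ pullback.snd f g) y₁ = r := by rw [fdeg_eq_finrank, hrk y₁ hy₁Y₀, hr]
    exact (fdeg_clopen (pullback.snd f g) V hVcl y₁).2.2.1 (h2.trans h1.symm) hqz
  let l : pullback f (Y₀.ι ≫ g) ⟶ V := IsOpenImmersion.lift V.ι q hrange
  have hl : l ≫ V.ι = q := IsOpenImmersion.lift_fac _ _ _
  have top : IsPullback l (𝟙 _) V.ι q := by
    have := (isPullback_id_of_mono' l V.ι).flip
    rwa [hl] at this
  have := top.paste_vert hq
  rw [Category.id_comp] at this
  exact MorphismProperty.of_isPullback (P := @IsFinite) this hVfin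

/-- constant fibre degree `r` means finite locally free of degree `r`. -/
theorem isFinLocFreeOfDeg_iff_fdeg_eq (hH : ∀ s, IsFinite (f.fiberToSpecResidueField s)) (r : ℕ) :
    Mor2.IsFinLocFreeOfDeg r f ↔ ∀ s, fdeg f s = r := by
  constructor
  · rintro ⟨⟨hfin, -, -⟩, hrk⟩ s
    rw [fdeg_eq_finrank, hrk]
  · intro hr
    have hfin : IsFinite f := isFinite_of_etale_local f (exists_etale_isFinite_of_fdeg_eq f hH r hr)
    exact ⟨⟨hfin, inferInstance, inferInstance⟩, fun s => by rw [← fdeg_eq_finrank, hr]⟩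

/-- the universal property of the stratification by the degree of the fibres. -/
theorem isFinLocFreeOfDeg_pullback_snd_iff (hH : ∀ s, IsFinite (f.fiberToSpecResidueField s)) {T : Scheme.{u}}
    (g : T ⟶ S) (r : ℕ) :
    Mor2.IsFinLocFreeOfDeg r (pullback.snd f g) ↔ ∀ t : T, fdeg f (g t) = r := by
  have hpb : IsPullback (pullback.fst f g) (pullback.snd f g) f g := IsPullback.of_hasPullback f g
  have hH' : ∀ t, IsFinite ((pullback.snd f g).fiberToSpecResidueField t) := fun t => by
    haveI := hH (g t)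
    exact isFinite_fiber_of_isPullback hpb t
  rw [isFinLocFreeOfDeg_iff_fdeg_eq (pullback.snd f g) hH' r]
  refine forall_congr' fun t => ?_
  haveI := hH (g t)
  rw [fdeg_of_isPullback hpb t]

end Main

end Groth.Agent.Lib.Seat83.FibDeg
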