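import Mathlib
import Groth.Agent.Lib.Seat46UBFField
import Groth.Agent.Lib.Seat46DecentPt
import Groth.Agent.Lib.Seat83GeomFib
import Groth.Agent.S7433
import Groth.Agent.S7436
import Groth.Agent.S7437
import Groth.Prelude.Def_W4decUnivBdd

/-!
# Universally bounded fibres: bridge between the scheme notion `BddFib` and the sheaf notion `W4dec` (seat 83)

* `degLE_iff_fibreDegLE`: for `c : T ⟶ Spec K`, "finite of rank `≤ n`" is `BddFib.FibreDegLE c n`.
* `degFibresLE_yon_map_iff`: for a morphism of schemes `f` over `S`, `W4dec.DegFibresLE n h_f ↔ BddFib.FibreDegLE f n`.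
* `degFibresLE_comp`: composition of bounds (`V ⟶ U ⟶ X`).
-/

set_option autoImplicit false
set_option linter.style.haveILetI false
universe u

open CategoryTheory CategoryTheory.Limits AlgebraicGeometry Topology

namespace Groth.Agent.Lib.Seat83.UBF

open Groth.Agent.Lib.Seat46.UBFField

variable {S : Scheme.{u}}

section Field

variable {T : Scheme.{u}} {K : Type u} [Field K]

/-- the rank form and the global sections form of "finite of degree at most `n` over a field". -/
theorem degLE_iff_finiteOfDegLE (c : T ⟶ Spec (CommRingCat.of K)) (n : ℕ) :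
    (IsFinite c ∧ ∀ s, c.finrank s ≤ n) ↔ BddFib.FiniteOfDegLE (CommRingCat.of K) c n := by
  rw [isFinite_and_finrank_le_iff]
  exact Iff.rfl

/-- the degree bound is insensitive to precomposition with an isomorphism. -/
theorem degLE_of_iso_comp {T' : Scheme.{u}} (e : T' ⟶ T) [IsIso e] (c : T ⟶ Spec (CommRingCat.of K)) (n : ℕ)
    (h : IsFinite (e ≫ c) ∧ ∀ s, (e ≫ c).finrank s ≤ n) : IsFinite c ∧ ∀ s, c.finrank s ≤ n := by
  haveI := h.1
  have hc : IsFinite c := by
    have : c = inv e ≫ (e ≫ c) := by simp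
    rw [this]; infer_instance
  refine ⟨hc, fun s => ?_⟩
  have := h.2 s
  rwa [Scheme.Hom.finrank_comp_left_of_isIso] at this

/-- for a scheme over a field, "finite of rank at most `n`" is the same as the bound `n` on the fibre degrees. -/
theorem degLE_iff_fibreDegLE (c : T ⟶ Spec (CommRingCat.of K)) (n : ℕ) :
    (IsFinite c ∧ ∀ s, c.finrank s ≤ n) ↔ BddFib.FibreDegLE c n := by
  constructor
  · rintro ⟨hfin, hrk⟩
    rw [Groth.Agent.S7433.result]
    intro k _ g
    rw [← degLE_iff_finiteOfDegLE]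
    refine ⟨inferInstance, fun s => ?_⟩
    rw [Scheme.Hom.finrank_pullback_snd]
    exact hrk _
  · intro h
    have h1 := (Groth.Agent.S7433.result c n).1 h K (𝟙 _)
    rw [← degLE_iff_finiteOfDegLE] at h1
    have h2 : pullback.snd c (𝟙 (Spec (CommRingCat.of K))) = pullback.fst c (𝟙 _) ≫ c := by
      rw [pullback.condition, Category.comp_id]
    rw [h2] at h1
    exact degLE_of_iso_comp (pullback.fst c (𝟙 _)) c n h1

end Field

/-- For a morphism of schemes over `S`, the sheaf-theoretic bound on fibre degrees is the scheme-theoretic one. -/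
theorem degFibresLE_yon_map_iff {U V : Over S} (f : V ⟶ U) (n : ℕ) :
    W4dec.DegFibresLE n ((AlgSp.yon S).map f) ↔ BddFib.FibreDegLE f.left n := by
  constructor
  · intro h
    rw [Groth.Agent.S7433.result]
    intro k _ g
    rw [← degLE_iff_finiteOfDegLE]
    let q : AlgSp.FieldPt ((AlgSp.yon S).obj U) :=
      Groth.Agent.Lib.Seat46.DecentPt.ofHom k (g ≫ U.hom)
        ((AlgSp.yon S).map (Over.homMk g rfl : Over.mk (g ≫ U.hom) ⟶ U))
    let T : Over S := Over.mk (pullback.snd f.left g ≫ g ≫ U.hom)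
    let c : T ⟶ q.pt := Over.homMk (pullback.snd f.left g) rfl
    let b : T ⟶ V := Over.homMk (pullback.fst f.left g) (by
      change pullback.fst f.left g ≫ V.hom = pullback.snd f.left g ≫ g ≫ U.hom
      rw [← Over.w f, ← Category.assoc, pullback.condition, Category.assoc])
    have sq : IsPullback ((AlgSp.yon S).map c) ((AlgSp.yon S).map b) q.toHom ((AlgSp.yon S).map f) := by
      rw [Groth.Agent.Lib.Seat46.DecentPt.toHom_ofHom]
      exact (Groth.Agent.Lib.Seat83.GeomFib.isPullback_yon_iff c b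
        (Over.homMk g rfl : Over.mk (g ≫ U.hom) ⟶ U) f).2 (IsPullback.of_hasPullback f.left g).flip
    exact h q T c _ sq
  · intro h q T c snd sq
    obtain ⟨b, rfl⟩ := (AlgSp.yon S).map_surjective snd
    obtain ⟨g, hg⟩ := (AlgSp.yon S).map_surjective q.toHom
    rw [← hg] at sq
    have sq' := (Groth.Agent.Lib.Seat83.GeomFib.isPullback_yon_iff c b g f).1 sq
    have h1 : BddFib.FibreDegLE c.left n := Groth.Agent.S7437.result f.left g.left c.left b.left sq'.flip n h
    exact (degLE_iff_fibreDegLE (K := q.K) c.left n).2 h1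

/-- Bounds on fibre degrees multiply under composition `h_V ⟶ h_U ⟶ X`. -/
theorem degFibresLE_comp (X : AlgSp.Space S) {U V : Over S} (f : V ⟶ U)
    (g : (AlgSp.yon S).obj U ⟶ X.obj) {n m : ℕ} (hf : W4dec.DegFibresLE n ((AlgSp.yon S).map f))
    (hg : W4dec.DegFibresLE m g) : W4dec.DegFibresLE (n * m) ((AlgSp.yon S).map f ≫ g) := by
  intro q T c snd sq
  obtain ⟨b, rfl⟩ := (AlgSp.yon S).map_surjective snd
  obtain ⟨TU, bU, fst, sqU⟩ := X.property.representable_from_yon q.toHom g
  obtain ⟨cU, rfl⟩ := (AlgSp.yon S).map_surjective fst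
  have hw : (AlgSp.yon S).map c ≫ q.toHom = ((AlgSp.yon S).map b ≫ (AlgSp.yon S).map f) ≫ g := by
    rw [sq.w, Category.assoc]
  obtain ⟨t, ht⟩ := (AlgSp.yon S).map_surjective (sqU.lift _ _ hw)
  have ht1 : (AlgSp.yon S).map t ≫ (AlgSp.yon S).map cU = (AlgSp.yon S).map c := by
    rw [ht, sqU.lift_fst]
  have ht2 : (AlgSp.yon S).map t ≫ (AlgSp.yon S).map bU = (AlgSp.yon S).map b ≫ (AlgSp.yon S).map f := by
    rw [ht, sqU.lift_snd]
  have big : IsPullback ((AlgSp.yon S).map b) ((AlgSp.yon S).map t ≫ (AlgSp.yon S).map cU)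
      ((AlgSp.yon S).map f ≫ g) q.toHom := by
    rw [ht1]; exact sq.flip
  have top : IsPullback ((AlgSp.yon S).map b) ((AlgSp.yon S).map t) ((AlgSp.yon S).map f)
      ((AlgSp.yon S).map bU) := IsPullback.of_bot big ht2.symm sqU.flip
  have top' := (Groth.Agent.Lib.Seat83.GeomFib.isPullback_yon_iff b t f bU).1 top
  have h1 : BddFib.FibreDegLE t.left n :=
    Groth.Agent.S7437.result f.left bU.left t.left b.left top' n ((degFibresLE_yon_map_iff f n).1 hf)
  have h2 : BddFib.FibreDegLE cU.left m :=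
    (degLE_iff_fibreDegLE (K := q.K) cU.left m).1 (hg q TU cU _ sqU)
  have h3 := Groth.Agent.S7436.result t.left cU.left n m h1 h2
  have h4 : t.left ≫ cU.left = c.left := by
    have h5 : t ≫ cU = c := (AlgSp.yon S).map_injective (by rw [Functor.map_comp]; exact ht1)
    rw [← h5]; rfl
  rw [h4] at h3
  exact (degLE_iff_fibreDegLE (K := q.K) c.left (n * m)).2 h3

end Groth.Agent.Lib.Seat83.UBF
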