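import Mathlib
import Groth.Agent.Lib.Seat83FibDegStrat
import Groth.Agent.Lib.Seat83UBF
import Groth.Agent.Lib.Seat83GeomFib
import Groth.Agent.S10176
import Groth.Agent.S10177

/-!
# The degree function of a flat, separated, locally quasi-finite chart with bounded fibres (seat 83)

For `w : h_W ⟶ X` representable flat, lfp, separated, lqf with fibre degrees at most `n`, and any `a : h_V ⟶ X` with
represented pullback `W_V ⟶ V`, the fibre degree `fdeg` of `W_V ⟶ V` only depends on the image point in `|X|`.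
-/

set_option autoImplicit false
set_option linter.style.haveILetI false
universe u

open CategoryTheory CategoryTheory.Limits AlgebraicGeometry Topology Opposite

namespace Groth.Agent.Lib.Seat83.DegStratSp

open Groth.Agent.Lib.Seat83.FibDeg Groth.Agent.Lib.Seat83.UBF Groth.Agent.Lib.Seat83.GeomFib

variable {S : Scheme.{u}}

/-- comparison of two represented pullbacks along a morphism of charts. -/
theorem exists_isPullback_of_charts {F : AlgSp.Sp S} {W : Over S} (w : (AlgSp.yon S).obj W ⟶ F)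
    {V V' : Over S} (a : (AlgSp.yon S).obj V ⟶ F) (m : V' ⟶ V)
    {W₁ W₂ : Over S} (snd₁ : W₁ ⟶ V) (fst₁ : (AlgSp.yon S).obj W₁ ⟶ (AlgSp.yon S).obj W)
    (sq₁ : IsPullback fst₁ ((AlgSp.yon S).map snd₁) w a)
    (snd₂ : W₂ ⟶ V') (fst₂ : (AlgSp.yon S).obj W₂ ⟶ (AlgSp.yon S).obj W)
    (sq₂ : IsPullback fst₂ ((AlgSp.yon S).map snd₂) w ((AlgSp.yon S).map m ≫ a)) :
    ∃ φ : W₂ ⟶ W₁, IsPullback φ.left snd₂.left snd₁.left m.left := by
  have key := IsPullback.of_right' sq₂ sq₁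
  obtain ⟨φ, hφ⟩ := (AlgSp.yon S).map_surjective
    (sq₁.lift fst₂ ((AlgSp.yon S).map snd₂ ≫ (AlgSp.yon S).map m) (by rw [sq₂.w, Category.assoc]))
  rw [← hφ] at key
  exact ⟨φ, (isPullback_yon_iff φ snd₂ snd₁ m).1 key⟩

section Chart

variable {X : AlgSp.Space S} {W : Over S} (w : (AlgSp.yon S).obj W ⟶ X.obj)
  (hfl : AlgSp.RepWith @Flat w) (hfp : AlgSp.RepWith @LocallyOfFinitePresentation w)
  (hsep : AlgSp.RepWith @IsSeparated w) (hqf : AlgSp.RepWith @LocallyQuasiFinite w)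
  (n : ℕ) (hb : W4dec.DegFibresLE n w)

include hb in
/-- the fibres of a represented pullback of `w` are finite of degree at most `n`. -/
theorem isFinite_fiber_chart {V W₁ : Over S} (a : (AlgSp.yon S).obj V ⟶ X.obj) (snd₁ : W₁ ⟶ V)
    (fst₁ : (AlgSp.yon S).obj W₁ ⟶ (AlgSp.yon S).obj W)
    (sq₁ : IsPullback fst₁ ((AlgSp.yon S).map snd₁) w a) (v : ↥V.left) :
    IsFinite (snd₁.left.fiberToSpecResidueField v) ∧ fdeg snd₁.left v ≤ n := by
  have h1 : W4dec.DegFibresLE n ((AlgSp.yon S).map snd₁) := by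
    intro q T c snd' hpb
    refine hb (q.map a) T c (snd' ≫ fst₁) ?_
    rw [AlgSp.FieldPt.toHom_map]
    exact hpb.paste_vert sq₁.flip
  have h2 := (degFibresLE_yon_map_iff snd₁ n).1 h1 v
  have h3 := (degLE_iff_finiteOfDegLE (K := V.left.residueField v) (snd₁.left.fiberToSpecResidueField v) n).2 h2
  exact ⟨h3.1, h3.2 _⟩

include hb in
/-- the fibre degree is compatible with morphisms of charts. -/
theorem fdeg_chart_comp {V V' : Over S} (a : (AlgSp.yon S).obj V ⟶ X.obj) (m : V' ⟶ V)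
    {W₁ W₂ : Over S} (snd₁ : W₁ ⟶ V) (fst₁ : (AlgSp.yon S).obj W₁ ⟶ (AlgSp.yon S).obj W)
    (sq₁ : IsPullback fst₁ ((AlgSp.yon S).map snd₁) w a)
    (snd₂ : W₂ ⟶ V') (fst₂ : (AlgSp.yon S).obj W₂ ⟶ (AlgSp.yon S).obj W)
    (sq₂ : IsPullback fst₂ ((AlgSp.yon S).map snd₂) w ((AlgSp.yon S).map m ≫ a)) (v' : ↥V'.left) :
    fdeg snd₂.left v' = fdeg snd₁.left (m.left v') := by
  obtain ⟨φ, hφ⟩ := exists_isPullback_of_charts w a m snd₁ fst₁ sq₁ snd₂ fst₂ sq₂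
  haveI := (isFinite_fiber_chart w n hb a snd₁ fst₁ sq₁ (m.left v')).1
  exact fdeg_of_isPullback hφ v'

include hfl hb in
/-- the fibre degree of a represented pullback of `w` only depends on the point of `|X|`. -/
theorem fdeg_chart_eq_of_ofPt_eq {V₁ V₂ : Over S} (a₁ : (AlgSp.yon S).obj V₁ ⟶ X.obj)
    (a₂ : (AlgSp.yon S).obj V₂ ⟶ X.obj)
    {W₁ W₂ : Over S} (snd₁ : W₁ ⟶ V₁) (fst₁ : (AlgSp.yon S).obj W₁ ⟶ (AlgSp.yon S).obj W)
    (sq₁ : IsPullback fst₁ ((AlgSp.yon S).map snd₁) w a₁)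
    (snd₂ : W₂ ⟶ V₂) (fst₂ : (AlgSp.yon S).obj W₂ ⟶ (AlgSp.yon S).obj W)
    (sq₂ : IsPullback fst₂ ((AlgSp.yon S).map snd₂) w a₂) (v₁ : ↥V₁.left) (v₂ : ↥V₂.left)
    (e : AlgSp.Points.ofPt a₁ v₁ = AlgSp.Points.ofPt a₂ v₂) :
    fdeg snd₁.left v₁ = fdeg snd₂.left v₂ := by
  obtain ⟨T, pr₂, pr₁', sqT⟩ := X.2.representable_from_yon a₁ a₂
  obtain ⟨pr₁, rfl⟩ := (AlgSp.yon S).map_surjective pr₁'
  obtain ⟨z, hz1, hz2⟩ := Groth.Agent.S10176.exists_point_of_isPullback_yon sqT v₁ v₂ e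
  obtain ⟨W_T, snd_T, fst_T, sq_T⟩ := hfl.1 ((AlgSp.yon S).map pr₁ ≫ a₁)
  have h1 := fdeg_chart_comp w n hb a₁ pr₁ snd₁ fst₁ sq₁ snd_T fst_T sq_T z
  have sq_T' : IsPullback fst_T ((AlgSp.yon S).map snd_T) w ((AlgSp.yon S).map pr₂ ≫ a₂) := by
    rw [← sqT.w]; exact sq_T
  have h2 := fdeg_chart_comp w n hb a₂ pr₂ snd₂ fst₂ sq₂ snd_T fst_T sq_T' z
  rw [hz1] at h1
  rw [hz2] at h2
  rw [← h1, ← h2]

include hfl hfp hsep hb in
/-- The degree function on `|X|` of `w`. -/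
theorem exists_degree_function :
    ∃ δ : AlgSp.Points X.obj → ℕ, (∀ x, δ x ≤ n) ∧ (∀ k : ℕ, IsClosed {x | δ x < k}) ∧
      ∀ (V W₁ : Over S) (a : (AlgSp.yon S).obj V ⟶ X.obj) (snd₁ : W₁ ⟶ V)
        (fst₁ : (AlgSp.yon S).obj W₁ ⟶ (AlgSp.yon S).obj W),
        IsPullback fst₁ ((AlgSp.yon S).map snd₁) w a → ∀ v : ↥V.left, fdeg snd₁.left v = δ (AlgSp.Points.ofPt a v) := by
  obtain ⟨U, a₀, hae, has⟩ := X.2.atlas
  obtain ⟨W_U, snd_U, fst_U, sq_U⟩ := hfl.1 a₀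
  have hsurj := Groth.Agent.S10177.surjective_ofPt a₀ has
  let δ : AlgSp.Points X.obj → ℕ := fun x => fdeg snd_U.left (Function.surjInv hsurj x)
  have hδ : ∀ (V W₁ : Over S) (a : (AlgSp.yon S).obj V ⟶ X.obj) (snd₁ : W₁ ⟶ V)
      (fst₁ : (AlgSp.yon S).obj W₁ ⟶ (AlgSp.yon S).obj W),
      IsPullback fst₁ ((AlgSp.yon S).map snd₁) w a → ∀ v : ↥V.left,
        fdeg snd₁.left v = δ (AlgSp.Points.ofPt a v) := by
    intro V W₁ a snd₁ fst₁ sq₁ v
    exact fdeg_chart_eq_of_ofPt_eq w hfl n hb a a₀ snd₁ fst₁ sq₁ snd_U fst_U sq_U v _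
      (Function.surjInv_eq hsurj _).symm
  refine ⟨δ, fun x => ?_, fun k => ?_, hδ⟩
  · exact (isFinite_fiber_chart w n hb a₀ snd_U fst_U sq_U _).2
  · have hq := Groth.Agent.S10177.isQuotientMap_ofPt a₀ hae has
    rw [← hq.isClosed_preimage]
    have hpre : AlgSp.Points.ofPt a₀ ⁻¹' {x | δ x < k} = {u : ↥U.left | fdeg snd_U.left u < k} := by
      ext u
      simp only [Set.mem_preimage, Set.mem_ofPred_eq]
      rw [← hδ U W_U a₀ snd_U fst_U sq_U u]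
    rw [hpre]
    haveI : Flat snd_U.left := hfl.2 a₀ fst_U snd_U sq_U
    haveI : LocallyOfFinitePresentation snd_U.left := hfp.2 a₀ fst_U snd_U sq_U
    haveI : IsSeparated snd_U.left := hsep.2 a₀ fst_U snd_U sq_U
    cases k with
    | zero => simp
    | succ k =>
      have := isClosed_setOf_fdeg_le snd_U.left
        (fun u => (isFinite_fiber_chart w n hb a₀ snd_U fst_U sq_U u).1) k
      convert this using 2
      ext u
      exact Nat.lt_succ_iff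

include hfl hfp hsep hb in
/-- the universal property of the degree function. -/
theorem isFinLocFreeOfDegMor_iff (δ : AlgSp.Points X.obj → ℕ)
    (hδ : ∀ (V W₁ : Over S) (a : (AlgSp.yon S).obj V ⟶ X.obj) (snd₁ : W₁ ⟶ V)
      (fst₁ : (AlgSp.yon S).obj W₁ ⟶ (AlgSp.yon S).obj W),
      IsPullback fst₁ ((AlgSp.yon S).map snd₁) w a → ∀ v : ↥V.left, fdeg snd₁.left v = δ (AlgSp.Points.ofPt a v))
    (r : ℕ) (T : AlgSp.Space S) (g : T ⟶ X) (P : AlgSp.Sp S) (fst : P ⟶ (AlgSp.yon S).obj W) (snd : P ⟶ T.obj)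
    (hP : IsPullback fst snd w g.hom) :
    AlgSp.IsFinLocFreeOfDegMor r snd ↔ ∀ t : AlgSp.Points T.obj, δ (AlgSp.Points.map g.hom t) = r := by
  -- the chart-level statement
  have chart : ∀ (V W₁ : Over S) (b : (AlgSp.yon S).obj V ⟶ T.obj) (snd₁ : W₁ ⟶ V)
      (fst₁ : (AlgSp.yon S).obj W₁ ⟶ P), IsPullback fst₁ ((AlgSp.yon S).map snd₁) snd b →
      (Mor2.IsFinLocFreeOfDeg r snd₁.left ↔ ∀ v : ↥V.left, δ (AlgSp.Points.map g.hom (AlgSp.Points.ofPt b v)) = r) := by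
    intro V W₁ b snd₁ fst₁ sq₁
    have sq := sq₁.paste_horiz hP
    haveI : Flat snd₁.left := hfl.2 _ _ snd₁ sq
    haveI : LocallyOfFinitePresentation snd₁.left := hfp.2 _ _ snd₁ sq
    haveI : IsSeparated snd₁.left := hsep.2 _ _ snd₁ sq
    rw [isFinLocFreeOfDeg_iff_fdeg_eq snd₁.left (fun v => (isFinite_fiber_chart w n hb _ snd₁ _ sq v).1) r]
    refine forall_congr' fun v => ?_
    rw [hδ V W₁ _ snd₁ _ sq v, AlgSp.Points.map_ofPt]
  constructor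
  · intro h t
    obtain ⟨V, b, -, hbs⟩ := T.2.atlas
    obtain ⟨v, rfl⟩ := Groth.Agent.S10177.surjective_ofPt b hbs t
    obtain ⟨W₁, snd₁, fst₁, sq₁⟩ := h.1 b
    exact (chart V W₁ b snd₁ fst₁ sq₁).1 (h.2 b fst₁ snd₁ sq₁) v
  · intro h
    refine ⟨fun V b => ?_, fun V W₁ b fst₁ snd₁ sq₁ => ?_⟩
    · obtain ⟨W_V, sndV, fstV, sq⟩ := hfl.1 (b ≫ g.hom)
      exact ⟨W_V, sndV, _, IsPullback.of_right' sq hP⟩
    · exact (chart V W₁ b snd₁ fst₁ sq₁).2 (fun v => h _)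

end Chart

end Groth.Agent.Lib.Seat83.DegStratSp
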