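-- helper83 (seat 83): the diagonal of a fibre product of functors `f ×_𝒵 g`.
import Groth.Agent.Lib.Helper15DiagOfComp

set_option autoImplicit false
set_option backward.isDefEq.respectTransparency false
set_option backward.isDefEq.respectTransparency.types false
open CategoryTheory CategoryTheory.Functor CategoryTheory.Limits Opposite AlgebraicGeometry

universe v₁ u₁ v₂ u₂ v₃ u₃ v₄ u₄ v u

namespace Groth.Agent.Lib.Seat83.DiagProd

open Groth.Agent.Lib.Helper17 Groth.Agent.Lib.Helper15PshFib Groth.Agent.Lib.Helper15RepComp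
  Groth.Agent.Lib.Helper15RepPsh Groth.Agent.Lib.Helper15DiagBase Groth.Agent.Lib.Helper15DiagRepSp
  Groth.Agent.Lib.Helper15Descent Groth.Agent.Lib.Helper15DiagLft
  Groth.Agent.Lib.Helper15.DiagBC Groth.Agent.Lib.Helper15DiagOfComp

section Swap

variable {C : Type u} [Category.{v} C] {𝒳 : BasedCategory.{v₂, u₂} C}
  {𝒴 : BasedCategory.{v₃, u₃} C} {𝒮 : BasedCategory.{v₄, u₄} C}
  (F : 𝒳 ⥤ᵇ 𝒮) (G : 𝒴 ⥤ᵇ 𝒮)

/-- The symmetry of the 2-fibre product. -/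
def swp : FibCat.fp F G ⥤ᵇ FibCat.fp G F :=
  FibCat.fpLift (FibCat.fpSnd F G) (FibCat.fpFst F G) (FibCat.fpIso F G).symm

def swpSwpIso : BasedFunctor.comp (swp F G) (swp G F) ≅ BasedFunctor.id _ :=
  fpIsoMk F G (H := BasedFunctor.comp (swp F G) (swp G F)) (K := BasedFunctor.id _)
    (Iso.refl _) (Iso.refl _)
    (fun _ => aux_id_comm _ _ (F.toFunctor.map_id _) (G.toFunctor.map_id _) _)

theorem isEquivOver_swp : FibCat.IsEquivOver (swp F G) :=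
  ⟨swp G F, ⟨swpSwpIso F G⟩, ⟨swpSwpIso G F⟩⟩

end Swap

section DiagIso

variable {S : Scheme.{u}} {𝒜 ℬ : AlgSt.Cat S}

theorem aux_conj_id {D : Type*} [Category D] {X Y : D} (k : X ≅ Y) (p q : X ⟶ X) (r : Y ⟶ Y)
    (hp : p = 𝟙 _) (hq : q = 𝟙 _) (hr : r = 𝟙 _) :
    p ≫ 𝟙 X = (k.hom ≫ r ≫ k.inv) ≫ q := by
  subst hp hq hr
  simp

/-- Isomorphic functors have diagonals with the same properties. -/
theorem repByAlgSpWith_diag_of_iso (P : MorphismProperty (AlgSp.Sp S)) {H K : 𝒜 ⥤ᵇ ℬ} (ι : H ≅ K)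
    (h : AlgSt.RepByAlgSpWith P (FibCat.diag H)) : AlgSt.RepByAlgSpWith P (FibCat.diag K) := by
  have iB := IsEquivOver.isEquivalence (BasedFunctor.id ℬ) (isEquivOver_id _)
  let e₀ : BasedFunctor.comp K (BasedFunctor.id ℬ) ≅ BasedFunctor.comp (BasedFunctor.id 𝒜) H :=
    ι.symm
  let M : FibCat.fp K K ⥤ᵇ FibCat.fp H H :=
    fpMap H H K K (BasedFunctor.id 𝒜) (BasedFunctor.id 𝒜) (BasedFunctor.id ℬ) e₀ e₀
  have hM : FibCat.IsEquivOver M :=
    isEquivOver_fpMap H H K K (BasedFunctor.id 𝒜) (BasedFunctor.id 𝒜) (BasedFunctor.id ℬ) e₀ e₀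
      (isEquivOver_id _) (isEquivOver_id _)
  refine (repByAlgSpWith_of_square P (FibCat.diag H) (FibCat.diag K) (BasedFunctor.id 𝒜) M
    (isEquivOver_id _) hM ?_).1 h
  exact fpIsoMk H H (H := BasedFunctor.comp (FibCat.diag K) M)
    (K := BasedFunctor.comp (BasedFunctor.id 𝒜) (FibCat.diag H)) (Iso.refl _) (Iso.refl _) (fun a => by
      change H.map (𝟙 _) ≫ 𝟙 _ =
        ((bApp e₀ a).inv ≫ (BasedFunctor.id ℬ).map (𝟙 _) ≫ (bApp e₀ a).hom) ≫ H.map (𝟙 _)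
      exact aux_conj_id (bApp e₀ a).symm _ _ _ (H.toFunctor.map_id _) (H.toFunctor.map_id _) rfl)

end DiagIso

section Main

variable {S : Scheme.{u}} {𝒳 𝒳' 𝒴 𝒴' 𝒵 : AlgSt.Cat S}
  (p' : 𝒳' ⥤ᵇ 𝒵) (q' : 𝒴' ⥤ᵇ 𝒵) (f : 𝒳 ⥤ᵇ 𝒳') (g : 𝒴 ⥤ᵇ 𝒴')

/-- `f ×_𝒵 id : 𝒳 ×_𝒵 𝒴' ⟶ 𝒳' ×_𝒵 𝒴'`. -/
def prodL : FibCat.fp (BasedFunctor.comp f p') q' ⥤ᵇ FibCat.fp p' q' :=
  FibCat.fpLift (BasedFunctor.comp (FibCat.fpFst (BasedFunctor.comp f p') q') f)
    (FibCat.fpSnd (BasedFunctor.comp f p') q') (FibCat.fpIso (BasedFunctor.comp f p') q')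

theorem aux_w2 {D : Type*} [Category D] {X Y Z : D} (a : X ⟶ Y) (b : Y ⟶ Z) (r : Z ⟶ Z)
    (hr : r = 𝟙 _) : a ≫ b = (a ≫ b) ≫ r := by
  subst hr; simp

/-- `pasteL ≫ (f ×_𝒵 id) ≅` second projection of the base change of `f`. -/
def prodLIso : BasedFunctor.comp (pasteL q' p' f) (prodL p' q' f) ≅
    FibCat.fpSnd f (FibCat.fpFst p' q') :=
  fpIsoMk p' q' (H := BasedFunctor.comp (pasteL q' p' f) (prodL p' q' f))
    (K := FibCat.fpSnd f (FibCat.fpFst p' q'))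
    (FibCat.fpIso f (FibCat.fpFst p' q')) (Iso.refl _) (fun a => by
      change p'.map a.obj.iso.hom ≫ a.obj.snd.obj.iso.hom =
        (p'.map a.obj.iso.hom ≫ a.obj.snd.obj.iso.hom) ≫ q'.map (𝟙 _)
      exact aux_w2 _ _ _ (q'.toFunctor.map_id _))

theorem repByAlgSpWith_diag_fpSnd (P : MorphismProperty (AlgSp.Sp S)) {𝒜 ℬ 𝒞 : AlgSt.Cat S}
    (F : 𝒜 ⥤ᵇ 𝒞) (G : ℬ ⥤ᵇ 𝒞) (hF : AlgSt.RepByAlgSpWith P (FibCat.diag F)) :
    AlgSt.RepByAlgSpWith P (FibCat.diag (FibCat.fpSnd F G)) := by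
  have h1 : AlgSt.RepByAlgSpWith P (FibCat.diag (FibCat.fpFst G F)) :=
    repByAlgSpWith_diag_fpFst P F G hF
  have h2 := (repByAlgSpWith_diag_equiv_source P (swp F G) (isEquivOver_swp F G)
    (FibCat.fpFst G F)).1 h1
  exact h2

theorem repByAlgSpWith_diag_prodL (P : MorphismProperty (AlgSp.Sp S))
    (hf : AlgSt.RepByAlgSpWith P (FibCat.diag f)) :
    AlgSt.RepByAlgSpWith P (FibCat.diag (prodL p' q' f)) := by
  have h1 : AlgSt.RepByAlgSpWith P (FibCat.diag (FibCat.fpSnd f (FibCat.fpFst p' q'))) :=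
    repByAlgSpWith_diag_fpSnd P f (FibCat.fpFst p' q') hf
  have h2 := repByAlgSpWith_diag_of_iso P (prodLIso p' q' f).symm h1
  exact (repByAlgSpWith_diag_equiv_source P (pasteL q' p' f) (isEquivOver_pasteL q' p' f)
    (prodL p' q' f)).2 h2

variable (e : BasedFunctor.comp (BasedFunctor.comp (FibCat.fpFst (BasedFunctor.comp f p') (BasedFunctor.comp g q')) f) p' ≅
      BasedFunctor.comp (BasedFunctor.comp (FibCat.fpSnd (BasedFunctor.comp f p') (BasedFunctor.comp g q')) g) q')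

theorem aux_w1 {D : Type*} [Category D] {X Y Z : D} (p : X ⟶ X) (hp : p = 𝟙 _) (a : X ⟶ Y)
    (t : Y ≅ Z) (c : X ⟶ Z) (hc : c = a ≫ t.hom) : p ≫ a = c ≫ t.inv := by
  subst hp hc; simp

/-- `pasteR ≫ (f ×_𝒵 g) ≅ (base change of g) ≫ (f ×_𝒵 id)`. -/
def prodIso (he : ∀ x, e.hom.toNatTrans.app x = x.obj.iso.hom) :
    BasedFunctor.comp (pasteR (BasedFunctor.comp f p') g q')
      (FibCat.fpLift (BasedFunctor.comp (FibCat.fpFst (BasedFunctor.comp f p') (BasedFunctor.comp g q')) f)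
        (BasedFunctor.comp (FibCat.fpSnd (BasedFunctor.comp f p') (BasedFunctor.comp g q')) g) e) ≅
    BasedFunctor.comp (FibCat.fpFst (FibCat.fpSnd (BasedFunctor.comp f p') q') g) (prodL p' q' f) :=
  fpIsoMk p' q'
    (H := BasedFunctor.comp (pasteR (BasedFunctor.comp f p') g q')
      (FibCat.fpLift (BasedFunctor.comp (FibCat.fpFst (BasedFunctor.comp f p') (BasedFunctor.comp g q')) f)
        (BasedFunctor.comp (FibCat.fpSnd (BasedFunctor.comp f p') (BasedFunctor.comp g q')) g) e))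
    (K := BasedFunctor.comp (FibCat.fpFst (FibCat.fpSnd (BasedFunctor.comp f p') q') g) (prodL p' q' f))
    (Iso.refl _) (FibCat.fpIso (FibCat.fpSnd (BasedFunctor.comp f p') q') g).symm (fun a => by
      change p'.map (𝟙 _) ≫ a.obj.fst.obj.iso.hom =
        e.hom.toNatTrans.app ((pasteR (BasedFunctor.comp f p') g q').obj a) ≫ q'.map a.obj.iso.inv
      rw [he]
      exact aux_w1 _ (p'.toFunctor.map_id _) _ (q'.toFunctor.mapIso a.obj.iso) _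
        (pasteR_obj_iso_hom (BasedFunctor.comp f p') g q' a))

/-- The diagonal of `f ×_𝒵 g` has `P` as soon as those of `f` and `g` do. -/
theorem repByAlgSpWith_diag_prod (h𝒳 : FibCat.IsFibGrpd 𝒳.p) (h𝒳' : FibCat.IsFibGrpd 𝒳'.p)
    (h𝒴 : FibCat.IsFibGrpd 𝒴.p) (h𝒴' : FibCat.IsFibGrpd 𝒴'.p) (h𝒵 : FibCat.IsFibGrpd 𝒵.p)
    (P : MorphismProperty (AlgSp.Sp S))
    (hPc : ∀ ⦃X Y Z : AlgSp.Sp S⦄, AlgSp.IsAlgSpace X → AlgSp.IsAlgSpace Y → AlgSp.IsAlgSpace Z →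
      ∀ (a : X ⟶ Y) (b : Y ⟶ Z), P a → P b → P (a ≫ b))
    (hP : AlgSp.IsLocalOnBase AlgSp.IsEtCover P)
    (he : ∀ x, e.hom.toNatTrans.app x = x.obj.iso.hom)
    (hf : AlgSt.RepByAlgSpWith P (FibCat.diag f)) (hg : AlgSt.RepByAlgSpWith P (FibCat.diag g)) :
    AlgSt.RepByAlgSpWith P (FibCat.diag
      (FibCat.fpLift (BasedFunctor.comp (FibCat.fpFst (BasedFunctor.comp f p') (BasedFunctor.comp g q')) f)
        (BasedFunctor.comp (FibCat.fpSnd (BasedFunctor.comp f p') (BasedFunctor.comp g q')) g) e)) := by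
  have hMid : FibCat.IsFibGrpd (FibCat.fp (BasedFunctor.comp f p') q').p :=
    isFibGrpd_fp _ _ h𝒳 h𝒴' h𝒵
  have hA' : FibCat.IsFibGrpd (FibCat.fp (FibCat.fpSnd (BasedFunctor.comp f p') q') g).p :=
    isFibGrpd_fp _ _ hMid h𝒴 h𝒴'
  have h1 : AlgSt.RepByAlgSpWith P
      (FibCat.diag (FibCat.fpFst (FibCat.fpSnd (BasedFunctor.comp f p') q') g)) :=
    repByAlgSpWith_diag_fpFst P g (FibCat.fpSnd (BasedFunctor.comp f p') q') hg
  have h2 := repByAlgSpWith_diag_prodL p' q' f P hf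
  have h3 := Groth.Agent.Lib.Helper15DiagComp.repByAlgSpWith_diag_comp hA' hMid P hPc hP
    (FibCat.fpFst (FibCat.fpSnd (BasedFunctor.comp f p') q') g) (prodL p' q' f) h1 h2
  have h4 := repByAlgSpWith_diag_of_iso P (prodIso p' q' f g e he).symm h3
  exact (repByAlgSpWith_diag_equiv_source P (pasteR (BasedFunctor.comp f p') g q')
    (isEquivOver_pasteR (BasedFunctor.comp f p') g q') _).2 h4

end Main

end Groth.Agent.Lib.Seat83.DiagProd
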