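import Mathlib
import Groth.Prelude.Def_AlgSpRep
import Groth.Prelude.Def_BigSite
import Groth.Agent.Lib.Helper12QuotSh

/-!
# Sheaves with the same covering chart and the same kernel pair are isomorphic (seat 83)

* `nonempty_iso_of_isKernelPair`: in the (regular) category of sheaves of sets, two epimorphisms from the
  same sheaf with the same kernel pair have isomorphic targets.
-/

set_option autoImplicit false
universe w v' u' u

open CategoryTheory Limits AlgebraicGeometry Opposite

namespace Groth.Agent.Lib.Seat83.EtQuot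

section General

variable {C : Type u'} [Category.{v'} C] (J : GrothendieckTopology C) [HasSheafify J (Type w)]

/-- two epimorphisms of sheaves of sets from the same sheaf with the same kernel pair have
isomorphic targets. -/
theorem nonempty_iso_of_isKernelPair {A B F G : Sheaf J (Type w)} (a b : B ⟶ A)
    (p : A ⟶ F) (q : A ⟶ G) [Epi p] [Epi q] (hp : IsKernelPair p a b) (hq : IsKernelPair q a b) :
    ∃ e : F ≅ G, p ≫ e.hom = q := by
  have hp' : IsRegularEpi p := IsRegularEpiCategory.regularEpiOfEpi p
  have hq' : IsRegularEpi q := IsRegularEpiCategory.regularEpiOfEpi q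
  have c1 := hp.toCoequalizer'
  have c2 := hq.toCoequalizer'
  refine ⟨c1.coconePointUniqueUpToIso c2, ?_⟩
  exact c1.comp_coconePointUniqueUpToIso_hom c2 WalkingParallelPair.one

end General

section Et

open Groth.Agent.Lib.Helper12.QuotShLib

variable {S : Scheme.{u}}

/-- an fppf sheaf on schemes over `S` is an etale sheaf. -/
lemma isSheaf_etale_of_fppf {P : AlgSp.PSp S} (h : Presheaf.IsSheaf (AlgSp.J S) P) :
    Presheaf.IsSheaf (QuotSh.J Scheme.etalePrecoverage S) P :=
  (isSheaf_iff_isSheaf_of_type _ _).2 (Presieve.isSheaf_of_le _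
    (BigSite.J_mono BigSite.etalePrecoverage_le_fppfPrecoverage S)
    ((isSheaf_iff_isSheaf_of_type _ _).1 h))

/-- a map from a representable presheaf along which sections lift over etale surjective maps is
locally surjective for the etale topology. -/
lemma isLocallySurjective_of_lifts {F : AlgSp.PSp S} {U : Over S}
    (p : (AlgSp.pyon S).obj U ⟶ F)
    (H : ∀ ⦃T : Over S⦄ (g : (AlgSp.pyon S).obj T ⟶ F), ∃ (W : Over S) (snd : W ⟶ T)
      (fst : (AlgSp.pyon S).obj W ⟶ (AlgSp.pyon S).obj U),
      fst ≫ p = (AlgSp.pyon S).map snd ≫ g ∧ Etale snd.left ∧ Surjective snd.left) :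
    Presheaf.IsLocallySurjective (QuotSh.J Scheme.etalePrecoverage S) p := by
  constructor
  intro T ξ
  obtain ⟨W, snd, fst, w, h1, h2⟩ := H (uliftYonedaEquiv.{u + 1}.symm ξ)
  refine GrothendieckTopology.superset_covering _ ?_
    (generate_singleton_mem_J Scheme.etalePrecoverage snd
      (singleton_mem_etalePrecoverage snd.left))
  rw [Sieve.generate_le_iff]
  rintro W' a ⟨⟩
  refine ⟨uliftYonedaEquiv.{u + 1} fst, ?_⟩
  have := congrArg (uliftYonedaEquiv.{u + 1}) w
  rw [uliftYonedaEquiv_comp, uliftYonedaEquiv_comp] at this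
  rw [this, uliftYonedaEquiv_uliftYoneda_map]
  rfl

/-- a relatively representable etale surjective map from a representable presheaf is locally
surjective for the etale topology. -/
lemma isLocallySurjective_of_relative {F : AlgSp.PSp S} {U : Over S}
    (p : (AlgSp.pyon S).obj U ⟶ F)
    (he : (MorphismProperty.inverseImage @Etale (Over.forget S)).relative (AlgSp.pyon S) p)
    (hs : (MorphismProperty.inverseImage @Surjective (Over.forget S)).relative (AlgSp.pyon S) p) :
    Presheaf.IsLocallySurjective (QuotSh.J Scheme.etalePrecoverage S) p := by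
  refine isLocallySurjective_of_lifts p fun T g => ?_
  obtain ⟨W, snd, fst, sq⟩ := he.1 g
  exact ⟨W, snd, fst, sq.w, he.2 _ fst snd sq, hs.2 _ fst snd sq⟩

/-- a representable etale surjective map of fppf sheaves from a representable sheaf is locally
surjective for the etale topology. -/
lemma isLocallySurjective_of_repWith {F : AlgSp.Sp S} {U : Over S}
    (p : (AlgSp.yon S).obj U ⟶ F) (he : AlgSp.RepWith @Etale p)
    (hs : AlgSp.RepWith @Surjective p) :
    Presheaf.IsLocallySurjective (QuotSh.J Scheme.etalePrecoverage S) p.hom := by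
  refine isLocallySurjective_of_lifts (F := F.obj) p.hom fun T g => ?_
  obtain ⟨W, snd, fst, sq⟩ := he.1 (ObjectProperty.homMk g : (AlgSp.yon S).obj T ⟶ F)
  refine ⟨W, snd, fst.hom, ?_, he.2 _ fst snd sq, hs.2 _ fst snd sq⟩
  exact congrArg (fun m => m.hom) sq.w

/-- An etale sheaf with a relatively representable etale surjective chart `h_U ⟶ F` is isomorphic
to the fppf quotient sheaf of the etale equivalence relation `U ×_F U`. -/
theorem exists_iso_quot {F : AlgSp.PSp S}
    (h1 : Presheaf.IsSheaf (QuotSh.J Scheme.etalePrecoverage S) F)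
    {U : Over S} (p : (AlgSp.pyon S).obj U ⟶ F)
    (he : (MorphismProperty.inverseImage @Etale (Over.forget S)).relative (AlgSp.pyon S) p)
    (hs : (MorphismProperty.inverseImage @Surjective (Over.forget S)).relative (AlgSp.pyon S) p)
    (hquot : ∀ {R : Over S} (s t : R ⟶ U) (_ : AlgSp.IsEtaleEqvRel s t),
      ∃ _ : AlgSp.IsAlgSpace (QuotSh.quot Scheme.fppfPrecoverage s t), AlgSp.IsPresentation s t
        ((QuotSh.repIsoUliftYoneda Scheme.fppfPrecoverage U).inv ≫
          QuotSh.quotπ Scheme.fppfPrecoverage s t)) :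
    AlgSp.IsAlgSpaceP F := by
  obtain ⟨R, s, fst, sq⟩ := he.1 p
  obtain ⟨t, rfl⟩ : ∃ t : R ⟶ U, (AlgSp.pyon S).map t = fst :=
    ⟨(AlgSp.pyon S).preimage fst, (AlgSp.pyon S).map_preimage fst⟩
  have key : ∀ (T : Over S) (a b : T ⟶ U), (∃ r : T ⟶ R, r ≫ t = a ∧ r ≫ s = b) ↔
      (AlgSp.pyon S).map a ≫ p = (AlgSp.pyon S).map b ≫ p := by
    intro T a b
    constructor
    · rintro ⟨r, rfl, rfl⟩
      rw [Functor.map_comp, Functor.map_comp, Category.assoc, Category.assoc, sq.w]
    · intro h
      refine ⟨(AlgSp.pyon S).preimage (sq.lift _ _ h), ?_, ?_⟩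
      · apply (AlgSp.pyon S).map_injective
        rw [Functor.map_comp, Functor.map_preimage, sq.lift_fst]
      · apply (AlgSp.pyon S).map_injective
        rw [Functor.map_comp, Functor.map_preimage, sq.lift_snd]
  have hEq : AlgSp.IsEtaleEqvRel s t :=
    { injective := by
        intro T r r' h1 h2
        apply (AlgSp.pyon S).map_injective
        apply sq.hom_ext
        · rw [← Functor.map_comp, ← Functor.map_comp, h1]
        · rw [← Functor.map_comp, ← Functor.map_comp, h2]
      equivalence := by
        intro T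
        refine ⟨fun a => (key T a a).2 rfl, fun {a b} h => (key T b a).2 ((key T a b).1 h).symm,
          fun {a b c} h h' => (key T a c).2 (((key T a b).1 h).trans ((key T b c).1 h'))⟩
      etale_left := he.2 _ _ s sq
      etale_right := he.2 _ _ t sq.flip }
  obtain ⟨hq, pres⟩ := hquot s t hEq
  set F' := QuotSh.quot Scheme.fppfPrecoverage s t with hF'
  set π' : (AlgSp.yon S).obj U ⟶ F' := (QuotSh.repIsoUliftYoneda Scheme.fppfPrecoverage U).inv ≫
          QuotSh.quotπ Scheme.fppfPrecoverage s t with hπ'
  -- the etale sheaves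
  let A : Sheaf (QuotSh.J Scheme.etalePrecoverage S) (Type (u + 1)) :=
    ⟨(AlgSp.pyon S).obj U, isSheaf_etale_of_fppf ((AlgSp.yon S).obj U).property⟩
  let B : Sheaf (QuotSh.J Scheme.etalePrecoverage S) (Type (u + 1)) :=
    ⟨(AlgSp.pyon S).obj R, isSheaf_etale_of_fppf ((AlgSp.yon S).obj R).property⟩
  let Fe : Sheaf (QuotSh.J Scheme.etalePrecoverage S) (Type (u + 1)) := ⟨F, h1⟩
  let Ge : Sheaf (QuotSh.J Scheme.etalePrecoverage S) (Type (u + 1)) :=
    ⟨F'.obj, isSheaf_etale_of_fppf F'.property⟩
  let a : B ⟶ A := ObjectProperty.homMk ((AlgSp.pyon S).map t)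
  let b : B ⟶ A := ObjectProperty.homMk ((AlgSp.pyon S).map s)
  let pe : A ⟶ Fe := ObjectProperty.homMk p
  let qe : A ⟶ Ge := ObjectProperty.homMk π'.hom
  have : Sheaf.IsLocallySurjective pe := isLocallySurjective_of_relative p he hs
  have : Sheaf.IsLocallySurjective qe :=
    isLocallySurjective_of_repWith π' pres.etale pres.surjective
  have hp : IsKernelPair pe a b := by
    refine IsPullback.of_map (sheafToPresheaf _ _) ?_ sq
    ext : 1
    exact sq.w
  have hq' : IsKernelPair qe a b := by
    have sq' := IsPullback.map (sheafToPresheaf _ _) pres.isPullback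
    refine IsPullback.of_map (sheafToPresheaf _ _) ?_ sq'
    ext : 1
    exact sq'.w
  obtain ⟨e, -⟩ := nonempty_iso_of_isKernelPair _ a b pe qe hp hq'
  exact ((AlgSp.isAlgSpaceP_obj_iff F').2 hq).of_iso ((sheafToPresheaf _ _).mapIso e).symm

end Et

end Groth.Agent.Lib.Seat83.EtQuot
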