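import Mathlib
import Groth.Agent.Lib.Seat83FibDegStrat

/-!
# The rank of the ring of functions of a locally quasi-finite scheme over a field (seat 83)

For `c : T ⟶ Spec K` locally quasi-finite (so `T` is discrete) the rank of `Γ(T, ⊤)` over `K` is at least `d` iff
some finite open subscheme has degree at least `d`.
-/

set_option autoImplicit false
set_option linter.style.haveILetI false
universe u

open CategoryTheory CategoryTheory.Limits AlgebraicGeometry Topology TopologicalSpace Opposite

namespace Groth.Agent.Lib.Seat83.FibRank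

open Groth.Agent.Lib.Seat83.FibDeg Groth.Agent.Lib.Seat46.UBFField

section OverField

variable {T : Scheme.{u}} {K : Type u} [Field K] (c : T ⟶ Spec (CommRingCat.of K))

/-- restriction of global sections to an open subscheme, as a `K`-linear map. -/
noncomputable def resLin (W : T.Opens) :
    letI := (ringMap c).hom.toAlgebra
    letI := (ringMap (W.ι ≫ c)).hom.toAlgebra
    Γ(T, ⊤) →ₗ[K] Γ(W, ⊤) :=
  letI := (ringMap c).hom.toAlgebra
  letI := (ringMap (W.ι ≫ c)).hom.toAlgebra
  { toFun := fun x => W.ι.appTop.hom x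
    map_add' := fun x y => map_add _ _ _
    map_smul' := fun k x => by
      simp only [Algebra.smul_def, map_mul, RingHom.id_apply]
      congr 1 }

/-- restriction to an open and closed subscheme is surjective on global sections. -/
theorem resLin_surjective (W : T.Opens) (hW : IsClosed (W : Set T)) :
    Function.Surjective (resLin c W) := by
  intro b
  let V : T.Opens := ⟨(W : Set T)ᶜ, hW.isOpen_compl⟩
  have hsup : W ⊔ V = ⊤ := by
    ext t
    simp only [V, Opens.coe_sup, Opens.coe_mk, Opens.coe_top, Set.union_compl_self]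
  have hinf : W ⊓ V = ⊥ := by
    ext t
    simp only [V, Opens.coe_inf, Opens.coe_mk, Opens.coe_bot, Set.inter_compl_self]
  obtain ⟨s, hs, -⟩ := exists_section_of_isCompl T W V hsup hinf (W.topIso.hom b) 0
  refine ⟨s, ?_⟩
  change W.ι.appTop.hom s = b
  apply (ConcreteCategory.bijective_of_isIso W.topIso.hom).1
  rw [← hs]
  have key : W.ι.appTop ≫ W.topIso.hom = T.presheaf.map (homOfLE le_top : W ⟶ ⊤).op := by
    rw [Scheme.Opens.ι_appTop, Scheme.Opens.topIso_hom]
    erw [← Functor.map_comp]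
    rfl
  exact congrArg (fun m => m.hom s) key

/-- lower bound for the rank by the degree of a finite open and closed subscheme. -/
theorem finrank_le_rank_of_clopen (W : T.Opens) (hW : IsClosed (W : Set T)) [IsFinite (W.ι ≫ c)]
    (p : ↥(Spec (CommRingCat.of K))) :
    letI := (ringMap c).hom.toAlgebra
    (((W.ι ≫ c).finrank p : ℕ) : Cardinal.{u}) ≤ Module.rank K Γ(T, ⊤) := by
  letI := (ringMap c).hom.toAlgebra
  letI := (ringMap (W.ι ≫ c)).hom.toAlgebra
  rw [finrank_eq_finrank_Γ (W.ι ≫ c) p]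
  haveI : Module.Finite K Γ(W, ⊤) :=
    ((isFinite_and_finrank_le_iff (W.ι ≫ c) ((W.ι ≫ c).finrank p)).1 ⟨inferInstance, fun q => by
      rw [Subsingleton.elim (α := PrimeSpectrum K) q p]⟩).2.1
  rw [Module.finrank_eq_rank]
  exact LinearMap.rank_le_of_surjective (resLin c W) (resLin_surjective c W hW)

/-- a global section of a scheme vanishing locally is zero. -/
lemma eq_zero_of_locally (x : Γ(T, ⊤))
    (h : ∀ t : T, ∃ U : T.Opens, t ∈ U ∧
      (T.presheaf.map (homOfLE le_top : U ⟶ ⊤).op).hom x = 0) : x = 0 := by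
  choose U hU hx using h
  refine TopCat.Sheaf.eq_of_locally_eq' T.sheaf U ⊤
    (fun t => homOfLE le_top) ?_ x 0 ?_
  · intro t _
    exact Opens.mem_iSup.2 ⟨t, hU t⟩
  · intro t
    rw [map_zero]
    exact hx t

/-- if the rank of the ring of functions is at least `d`, this is seen on a finite set of points. -/
theorem exists_finset_of_le_rank [DiscreteTopology T] (d : ℕ)
    (h : letI := (ringMap c).hom.toAlgebra
      (d : Cardinal.{u}) ≤ Module.rank K Γ(T, ⊤)) :
    ∃ F : Finset T, ∀ (W : T.Opens), (↑F : Set T) ⊆ (W : Set T) → ∀ [IsFinite (W.ι ≫ c)]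
      (p : ↥(Spec (CommRingCat.of K))), d ≤ (W.ι ≫ c).finrank p := by
  classical
  letI := (ringMap c).hom.toAlgebra
  obtain ⟨a, ha⟩ := natCast_le_rank_iff.1 h
  let WF : Finset T → T.Opens := fun F => ⟨↑F, isOpen_discrete _⟩
  let ρ : ∀ F : Finset T, Γ(T, ⊤) →+* Γ(T, WF F) := fun F =>
    (T.presheaf.map (homOfLE le_top : WF F ⟶ ⊤).op).hom
  let L : (Fin d → K) →ₗ[K] Γ(T, ⊤) := Fintype.linearCombination K a
  let N : Finset T → Submodule K (Fin d → K) := fun F =>
    ((RingHom.ker (ρ F)).restrictScalars K).comap L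
  have hmem : ∀ F v, v ∈ N F ↔ ρ F (L v) = 0 := fun F v => Iff.rfl
  have hmono : ∀ F F' : Finset T, F ⊆ F' → N F' ≤ N F := by
    intro F F' hFF' v hv
    rw [hmem] at hv ⊢
    have hle : WF F ≤ WF F' := fun t ht => hFF' ht
    have : ρ F (L v) = (T.presheaf.map (homOfLE hle).op).hom (ρ F' (L v)) := by
      change _ = ((T.presheaf.map (homOfLE le_top : WF F' ⟶ ⊤).op) ≫
        T.presheaf.map (homOfLE hle).op) (L v)
      rw [← Functor.map_comp]
      rfl
    rw [this, hv, map_zero]
  obtain ⟨F0, hF0⟩ : ∃ F0, ∀ F, Module.finrank K (N F0) ≤ Module.finrank K (N F) := by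
    obtain ⟨m, ⟨F0, rfl⟩, hmin⟩ := Nat.lt_wfRel.wf.has_min
      (Set.range fun F => Module.finrank K (N F)) ⟨_, ∅, rfl⟩
    exact ⟨F0, fun F => not_lt.1 (hmin _ ⟨F, rfl⟩)⟩
  have hbot : N F0 = ⊥ := by
    rw [eq_bot_iff]
    intro v hv
    have hall : ∀ t : T, v ∈ N {t} := by
      intro t
      have h1 : N (insert t F0) ≤ N F0 := hmono _ _ (Finset.subset_insert t F0)
      have h2 : N (insert t F0) = N F0 := Submodule.eq_of_le_of_finrank_le h1 (hF0 _)
      have h3 : N (insert t F0) ≤ N {t} :=
        hmono _ _ (Finset.singleton_subset_iff.2 (Finset.mem_insert_self t F0))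
      exact h3 (h2 ▸ hv)
    have hL : L v = 0 := by
      apply eq_zero_of_locally
      intro t
      exact ⟨WF {t}, by simp [WF], (hmem {t} v).1 (hall t)⟩
    rw [Submodule.mem_bot]
    have := Fintype.linearIndependent_iff.1 ha v (by rwa [← Fintype.linearCombination_apply])
    exact funext this
  refine ⟨F0, fun W hFW _ p => ?_⟩
  letI := (ringMap (W.ι ≫ c)).hom.toAlgebra
  rw [finrank_eq_finrank_Γ (W.ι ≫ c) p]
  haveI : Module.Finite K Γ(W, ⊤) :=
    ((isFinite_and_finrank_le_iff (W.ι ≫ c) ((W.ι ≫ c).finrank p)).1 ⟨inferInstance, fun q => by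
      rw [Subsingleton.elim (α := PrimeSpectrum K) q p]⟩).2.1
  have hb : LinearIndependent K (fun i => resLin c W (a i)) := by
    rw [Fintype.linearIndependent_iff]
    intro v hv
    have h1 : resLin c W (L v) = 0 := by
      rw [Fintype.linearCombination_apply, map_sum]
      simpa only [map_smul] using hv
    have hle : WF F0 ≤ W.ι ''ᵁ ⊤ := by
      rw [Scheme.Opens.ι_image_top]
      exact hFW
    have h2 : ρ F0 (L v) = (T.presheaf.map (homOfLE hle).op).hom (W.ι.appTop.hom (L v)) := by
      have key : T.presheaf.map (homOfLE le_top : WF F0 ⟶ ⊤).op =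
          W.ι.appTop ≫ T.presheaf.map (homOfLE hle).op := by
        rw [Scheme.Opens.ι_appTop]
        erw [← Functor.map_comp]
        rfl
      exact congrArg (fun m => m.hom (L v)) key
    have h3 : v ∈ N F0 := by
      rw [hmem, h2]
      have : W.ι.appTop.hom (L v) = 0 := h1
      rw [this]
      exact map_zero (T.presheaf.map (homOfLE hle).op).hom
    rw [hbot, Submodule.mem_bot] at h3
    intro i
    rw [h3]
    rfl
  have := hb.fintype_card_le_finrank
  simpa using this

end OverField

section Main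

variable {X S : Scheme.{u}}

/-- a morphism from a finite scheme is quasi-compact. -/
lemma quasiCompact_of_finite {A B : Scheme.{u}} (g : A ⟶ B) [Finite A] : QuasiCompact g :=
  ⟨fun _ _ _ => (Set.toFinite _).isCompact⟩

instance {K : Type u} [Field K] : Finite ↥(Spec (CommRingCat.of K)) :=
  inferInstanceAs (Finite (PrimeSpectrum K))

/-- the base change of a locally quasi-finite morphism with quasi-compact source to a field is finite. -/
lemma isFinite_of_isPullback_field {K : Type u} [Field K] {P Y : Scheme.{u}} {a : P ⟶ Y}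
    {b : P ⟶ Spec (CommRingCat.of K)} {f' : Y ⟶ S} {g : Spec (CommRingCat.of K) ⟶ S}
    (sq : IsPullback a b f' g) [LocallyQuasiFinite f'] [CompactSpace Y] : IsFinite b := by
  haveI : QuasiCompact g := quasiCompact_of_finite g
  haveI : QuasiCompact a := MorphismProperty.of_isPullback (P := @QuasiCompact) sq.flip inferInstance
  haveI : CompactSpace P := QuasiCompact.compactSpace_of_compactSpace a
  haveI : QuasiCompact b := (HasAffineProperty.iff_of_isAffine (P := @QuasiCompact)).2 inferInstance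
  haveI : LocallyQuasiFinite b :=
    MorphismProperty.of_isPullback (P := @LocallyQuasiFinite) sq inferInstance
  exact IsFinite.of_locallyQuasiFinite b

/-- the fibres of the restriction of a locally quasi-finite morphism to a quasi-compact open are finite. -/
lemma isFinite_fiber_of_isCompact (f : X ⟶ S) [LocallyQuasiFinite f] (X₀ : X.Opens)
    (hc : IsCompact (X₀ : Set X)) (s : S) : IsFinite ((X₀.ι ≫ f).fiberToSpecResidueField s) := by
  haveI : CompactSpace ↥(X₀ : Scheme.{u}) := isCompact_iff_compactSpace.1 hc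
  exact isFinite_of_isPullback_field (K := S.residueField s)
    (IsPullback.of_hasPullback (X₀.ι ≫ f) (S.fromSpecResidueField s))

/-- the rank of the ring of functions of the base change to a field, in terms of the degrees of the fibres of the
quasi-compact open parts. -/
theorem natCast_le_rank_iff (f : X ⟶ S) [LocallyQuasiFinite f] {K : Type u} [Field K]
    (g : Spec (CommRingCat.of K) ⟶ S) (d : ℕ) :
    (letI := (ringMap (pullback.snd f g)).hom.toAlgebra;
      (d : Cardinal.{u}) ≤ Module.rank K Γ(pullback f g, ⊤)) ↔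
      ∃ X₀ : X.Opens, IsCompact (X₀ : Set X) ∧
        d ≤ fdeg (X₀.ι ≫ f) (g (IsLocalRing.closedPoint K)) := by
  set pt : ↥(Spec (CommRingCat.of K)) := IsLocalRing.closedPoint K with hpt
  set c := pullback.snd f g with hc
  set fst := pullback.fst f g with hfst
  haveI : LocallyQuasiFinite c := MorphismProperty.pullback_snd (P := @LocallyQuasiFinite) _ _ inferInstance
  haveI : IsLocallyArtinian (pullback f g) := IsLocallyArtinian.of_locallyQuasiFinite c
  haveI : DiscreteTopology ↥(pullback f g) := inferInstance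
  -- the pullback square of an open part
  have sqW : ∀ X₀ : X.Opens, IsPullback (fst ∣_ X₀) ((fst ⁻¹ᵁ X₀).ι ≫ c) (X₀.ι ≫ f) g := fun X₀ =>
    ((isPullback_morphismRestrict fst X₀).flip.paste_horiz (IsPullback.of_hasPullback f g).flip).flip
  have key : ∀ X₀ : X.Opens, IsCompact (X₀ : Set X) →
      ∃ _ : IsFinite ((fst ⁻¹ᵁ X₀).ι ≫ c),
        ((fst ⁻¹ᵁ X₀).ι ≫ c).finrank pt = fdeg (X₀.ι ≫ f) (g pt) := by
    intro X₀ hX₀
    haveI : CompactSpace ↥(X₀ : Scheme.{u}) := isCompact_iff_compactSpace.1 hX₀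
    haveI hfin : IsFinite ((fst ⁻¹ᵁ X₀).ι ≫ c) := isFinite_of_isPullback_field (sqW X₀)
    haveI := isFinite_fiber_of_isCompact f X₀ hX₀ (g pt)
    refine ⟨hfin, ?_⟩
    rw [← fdeg_of_isPullback (sqW X₀) pt, fdeg_eq_finrank]
  constructor
  · intro h
    obtain ⟨F, hF⟩ := exists_finset_of_le_rank c d h
    choose A hA hAmem using fun t : ↥(pullback f g) =>
      exists_isAffineOpen_mem_and_subset (x := fst t) (U := ⊤) trivial
    let X₀ : X.Opens := ⨆ t ∈ F, A t
    have hX₀ : IsCompact (X₀ : Set X) := by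
      simp only [X₀, Opens.coe_iSup]
      exact F.finite_toSet.isCompact_biUnion fun t _ => (hA t).isCompact
    obtain ⟨hfin, hrk⟩ := key X₀ hX₀
    refine ⟨X₀, hX₀, ?_⟩
    rw [← hrk]
    refine hF (fst ⁻¹ᵁ X₀) ?_ pt
    intro t ht
    change fst t ∈ X₀
    simp only [X₀, Opens.mem_iSup]
    exact ⟨t, ht, (hAmem t).1⟩
  · rintro ⟨X₀, hX₀, hd⟩
    obtain ⟨hfin, hrk⟩ := key X₀ hX₀
    have := finrank_le_rank_of_clopen c (fst ⁻¹ᵁ X₀) (isClosed_discrete _) pt
    rw [hrk] at this
    exact (Nat.cast_le.2 hd).trans this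

/-- the locus where some quasi-compact open part has fibre degree at least `d` is open. -/
theorem isOpen_setOf_exists_le_fdeg (f : X ⟶ S) [Flat f] [LocallyOfFinitePresentation f] [IsSeparated f]
    [LocallyQuasiFinite f] (d : ℕ) :
    IsOpen {s : S | ∃ X₀ : X.Opens, IsCompact (X₀ : Set X) ∧ d ≤ fdeg (X₀.ι ≫ f) s} := by
  rw [isOpen_iff_forall_mem_open]
  rintro s ⟨X₀, hX₀, hd⟩
  have hH : ∀ s, IsFinite ((X₀.ι ≫ f).fiberToSpecResidueField s) :=
    fun s => isFinite_fiber_of_isCompact f X₀ hX₀ s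
  rcases Nat.eq_zero_or_pos d with rfl | hpos
  · exact ⟨Set.univ, fun s' _ => ⟨X₀, hX₀, Nat.zero_le _⟩, isOpen_univ, trivial⟩
  · refine ⟨{s' | fdeg (X₀.ι ≫ f) s' ≤ d - 1}ᶜ, fun s' hs' => ⟨X₀, hX₀, ?_⟩,
      (isClosed_setOf_fdeg_le (X₀.ι ≫ f) hH (d - 1)).isOpen_compl, ?_⟩
    · simp only [Set.mem_compl_iff, Set.mem_ofPred_eq, not_le] at hs'
      omega
    · simp only [Set.mem_compl_iff, Set.mem_ofPred_eq, not_le]
      omega

/-- the opens `U_d` of points where the fibre has degree at least `d` (S1449). -/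
theorem exists_opens_rank_ge (f : X ⟶ S) [Flat f] [LocallyOfFinitePresentation f] [IsSeparated f]
    [LocallyQuasiFinite f] :
    ∃ U : ℕ → S.Opens, Antitone U ∧ U 0 = ⊤ ∧ ∀ (K : Type u) [Field K]
      (g : Spec (CommRingCat.of K) ⟶ S) (d : ℕ),
      Set.range ⇑g ⊆ (U d : Set ↑S) ↔ (d : Cardinal.{u}) ≤
        (letI := (ringMap (pullback.snd f g)).hom.toAlgebra;
          Module.rank K (Γ(pullback f g, ⊤) : Type u)) := by
  refine ⟨fun d => ⟨_, isOpen_setOf_exists_le_fdeg f d⟩, ?_, ?_, ?_⟩
  · rintro d d' hdd' s ⟨X₀, hX₀, hd⟩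
    exact ⟨X₀, hX₀, hdd'.trans hd⟩
  · ext s
    simp only [Opens.coe_mk, Set.mem_ofPred_eq, zero_le, and_true, Opens.coe_top, Set.mem_univ, iff_true]
    exact ⟨⊥, by simp⟩
  · intro K _ g d
    rw [natCast_le_rank_iff f g d]
    constructor
    · intro h
      exact h ⟨_, rfl⟩
    · rintro h _ ⟨q, rfl⟩
      rw [Subsingleton.elim (α := PrimeSpectrum K) q (IsLocalRing.closedPoint K)]
      exact h

end Main

end Groth.Agent.Lib.Seat83.FibRank
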