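import Mathlib
import Groth.Agent.S10176
import Groth.Agent.S10177
import Groth.Agent.S10340
import Groth.Agent.S10342
import Groth.Agent.S10338
import Groth.Agent.Lib.Seat83Jacobson
import Groth.Agent.Lib.Seat83ClosedPt
import Groth.Agent.Lib.Helper7TopDim
import Groth.Agent.Lib.Helper3GrpHomQF
import Groth.Prelude.Def_AlgSpDec

/-!
# Isolated points of algebraic spaces with locally Noetherian Jacobson charts (seat 83)

Topological input:
* `isOpen_singleton_of_noetherian`: in a Noetherian quasi-sober space a closed point without proper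
  generizations is open.
* `isOpen_singleton_of_locallyNoetherian`: the local version on a locally Noetherian scheme.

For an algebraic space `X` all of whose étale charts are locally Noetherian and Jacobson (for instance `X`
locally of finite type over a field):
* `isOpen_chart_point_of_isOpen`: over an open point of `|X|` every chart point is open.
* `isClosed_of_isOpen`: an open point of `|X|` is closed.
* `isOpen_of_isClosed_of_forall_specializes`: a closed point of `|X|` without proper generizations is open.
* `isOpen_of_localDim_points_eq_zero`: for decent `X`, a point where `|X|` has local dimension `0` is open.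
-/

set_option autoImplicit false
set_option linter.style.haveILetI false
universe u

open CategoryTheory CategoryTheory.Limits AlgebraicGeometry Topology TopologicalSpace

namespace Groth.Agent.Lib.Seat83.LftField

/-- In a Noetherian quasi-sober space a closed point without proper generizations is open. -/
theorem isOpen_singleton_of_noetherian {T : Type*} [TopologicalSpace T] [NoetherianSpace T]
    [QuasiSober T] (v : T) (hcl : IsClosed ({v} : Set T)) (hgen : ∀ v' : T, v' ⤳ v → v' = v) :
    IsOpen ({v} : Set T) := by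
  have hfin : (irreducibleComponents T).Finite := NoetherianSpace.finite_irreducibleComponents
  have hcompl : ({v} : Set T)ᶜ = ⋃ Z ∈ {Z ∈ irreducibleComponents T | v ∉ Z}, Z := by
    ext t
    simp only [Set.mem_compl_iff, Set.mem_singleton_iff, Set.mem_iUnion, Set.mem_ofPred_eq,
      exists_prop]
    constructor
    · intro ht
      refine ⟨irreducibleComponent t, ⟨irreducibleComponent_mem_irreducibleComponents t, ?_⟩,
        mem_irreducibleComponent⟩
      intro hv
      obtain ⟨η, hη⟩ := QuasiSober.sober (isIrreducible_irreducibleComponent (x := t))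
        isClosed_irreducibleComponent
      have h1 : η ⤳ v := by
        rw [specializes_iff_mem_closure, hη.def]
        exact hv
      have h2 : η = v := hgen η h1
      have h3 : t ∈ closure ({η} : Set T) := by
        rw [hη.def]; exact mem_irreducibleComponent
      rw [h2, hcl.closure_eq] at h3
      exact ht h3
    · rintro ⟨Z, ⟨-, hvZ⟩, htZ⟩ rfl
      exact hvZ htZ
  rw [← isClosed_compl_iff, hcompl]
  exact (hfin.subset fun Z hZ => hZ.1).isClosed_biUnion
    fun Z hZ => isClosed_of_mem_irreducibleComponents Z hZ.1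

/-- On a locally Noetherian scheme, a point which is closed in some open neighbourhood and has no proper
generizations is open. -/
theorem isOpen_singleton_of_locallyNoetherian (U : Scheme.{u}) [IsLocallyNoetherian U] (v : U)
    (O : Set U) (hO : IsOpen O) (hvO : v ∈ O) (hcl : closure ({v} : Set U) ∩ O ⊆ {v})
    (hgen : ∀ v' : U, v' ⤳ v → v' = v) : IsOpen ({v} : Set U) := by
  obtain ⟨_, ⟨W, hW, rfl⟩, hvW, hWO⟩ := U.isBasis_affineOpens.exists_subset_of_mem_open hvO hO
  replace hW : IsAffineOpen W := hW
  haveI : IsNoetherianRing Γ(U, W) := IsLocallyNoetherian.component_noetherian ⟨W, hW⟩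
  haveI : NoetherianSpace ((W : Set U) : Type u) := noetherianSpace_of_isAffineOpen W hW
  have hemb : IsOpenEmbedding (Subtype.val : ((W : Set U) : Type u) → U) :=
    W.isOpen.isOpenEmbedding_subtypeVal
  haveI : QuasiSober ((W : Set U) : Type u) := hemb.quasiSober
  have h1 : IsOpen ({⟨v, hvW⟩} : Set ((W : Set U) : Type u)) := by
    apply isOpen_singleton_of_noetherian
    · rw [← closure_subset_iff_isClosed]
      rintro ⟨w, hw⟩ hmem
      rw [closure_subtype] at hmem
      have : w ∈ closure ({v} : Set U) ∩ O := ⟨by simpa using hmem, hWO hw⟩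
      have := hcl this
      rw [Set.mem_singleton_iff] at this ⊢
      exact Subtype.ext this
    · rintro ⟨w, hw⟩ hs
      have : w ⤳ v := by
        have := hs.map hemb.continuous
        exact this
      exact Subtype.ext (hgen w this)
  have := hemb.isOpenMap _ h1
  simpa using this

variable {S : Scheme.{u}}

/-- the image of an open point of a chart is an open point. -/
lemma isOpen_of_chart_point {F : AlgSp.Sp S} {U : Over S} (a : (AlgSp.yon S).obj U ⟶ F)
    (ha : AlgSp.RepWith @Etale a) (u : ↥U.left) (hu : IsOpen ({u} : Set ↥U.left)) :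
    IsOpen ({AlgSp.Points.ofPt a u} : Set (AlgSp.Points F)) := by
  have := Groth.Agent.S10176.isOpenMap_ofPt a ha _ hu
  rwa [Set.image_singleton] at this

section

variable (X : AlgSp.Space S)
  (hN : ∀ {U : Over S} (a : (AlgSp.yon S).obj U ⟶ X.obj), AlgSp.RepWith @Etale a →
    IsLocallyNoetherian U.left)
  (hJ : ∀ {U : Over S} (a : (AlgSp.yon S).obj U ⟶ X.obj), AlgSp.RepWith @Etale a →
    JacobsonSpace ↥U.left)

include hN in
/-- such a space is locally Noetherian. -/
lemma isLocNoethSp : AlgSp.IsLocNoethSp X.obj := by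
  obtain ⟨A, a, hae, has⟩ := X.property.atlas
  exact ⟨A, a, hae, has, hN a hae⟩

include hN hJ in
/-- over an open point, every chart point is closed, has no proper generizations, and is open. -/
lemma isOpen_chart_point_of_isOpen (x : AlgSp.Points X.obj)
    (hx : IsOpen ({x} : Set (AlgSp.Points X.obj))) {U : Over S} (a : (AlgSp.yon S).obj U ⟶ X.obj)
    (ha : AlgSp.RepWith @Etale a) (u : ↥U.left) (hu : AlgSp.Points.ofPt a u = x) :
    IsClosed ({u} : Set ↥U.left) ∧ IsOpen ({u} : Set ↥U.left) := by
  haveI := hN a ha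
  haveI := hJ a ha
  have hF : IsOpen (AlgSp.Points.ofPt a ⁻¹' {x}) := hx.preimage (AlgSp.Points.continuous_ofPt a)
  obtain ⟨u1, hu1F, hu1⟩ := nonempty_inter_closedPoints (Z := AlgSp.Points.ofPt a ⁻¹' {x})
    ⟨u, hu⟩ hF.isLocallyClosed
  have hcl : IsClosed ({u} : Set ↥U.left) :=
    Groth.Agent.Lib.Seat83.Jacobson.isClosed_singleton_of_chart a ha a ha u1 u
      ((show AlgSp.Points.ofPt a u1 = x from hu1F).trans hu.symm) hu1
  refine ⟨hcl, ?_⟩
  refine isOpen_singleton_of_locallyNoetherian U.left u Set.univ isOpen_univ trivial ?_ ?_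
  · rw [hcl.closure_eq]; exact Set.inter_subset_left
  · intro u' hs
    have hu' : u' ∈ AlgSp.Points.ofPt a ⁻¹' {x} := hs.mem_open hF hu
    exact (Groth.Agent.S10342.result X (isLocNoethSp X hN) a ha u u'
      (hu.trans (show AlgSp.Points.ofPt a u' = x from hu').symm) hs).symm

include hN hJ in
/-- an open point of `|X|` is closed. -/
lemma isClosed_of_isOpen (x : AlgSp.Points X.obj)
    (hx : IsOpen ({x} : Set (AlgSp.Points X.obj))) : IsClosed ({x} : Set (AlgSp.Points X.obj)) := by
  obtain ⟨A, a, hae, has⟩ := X.property.atlas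
  haveI := hN a hae
  rw [← (Groth.Agent.S10177.isQuotientMap_ofPt a hae has).isClosed_preimage]
  refine Groth.Agent.Lib.Seat83.ClosedPt.isClosed_of_locally_finite_closed_points _ ?_ ?_
  · intro v hv
    exact (isOpen_chart_point_of_isOpen X hN hJ x hx a hae v hv).1
  · intro b
    obtain ⟨_, ⟨W, hW, rfl⟩, hbW, -⟩ := A.left.isBasis_affineOpens.exists_subset_of_mem_open
      (Set.mem_univ b) isOpen_univ
    replace hW : IsAffineOpen W := hW
    refine ⟨W, W.2, hbW, ?_⟩
    haveI : IsNoetherianRing Γ(A.left, W) := IsLocallyNoetherian.component_noetherian ⟨W, hW⟩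
    haveI : NoetherianSpace ((W : Set A.left) : Type u) := noetherianSpace_of_isAffineOpen W hW
    have hcomp : IsCompact (AlgSp.Points.ofPt a ⁻¹' {x} ∩ (W : Set A.left)) := by
      have h1 : IsCompact (Subtype.val ⁻¹' (AlgSp.Points.ofPt a ⁻¹' {x}) :
          Set ((W : Set A.left) : Type u)) := NoetherianSpace.isCompact _
      have h2 := h1.image continuous_subtype_val
      rwa [Subtype.image_preimage_coe, Set.inter_comm] at h2
    refine hcomp.finite ?_
    rw [isDiscrete_iff_forall_mem_exists_isOpen]
    intro v hv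
    refine ⟨{v}, (isOpen_chart_point_of_isOpen X hN hJ x hx a hae v hv.1).2, ?_⟩
    exact Set.inter_eq_left.mpr (Set.singleton_subset_iff.mpr hv)

include hN in
/-- a closed point of `|X|` without proper generizations is open. -/
lemma isOpen_of_isClosed_of_forall_specializes (x : AlgSp.Points X.obj)
    (hx : IsClosed ({x} : Set (AlgSp.Points X.obj)))
    (hgen : ∀ x' : AlgSp.Points X.obj, x' ⤳ x → x' = x) :
    IsOpen ({x} : Set (AlgSp.Points X.obj)) := by
  obtain ⟨A, a, hae, has⟩ := X.property.atlas
  haveI := hN a hae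
  obtain ⟨a0, rfl⟩ := Groth.Agent.S10177.surjective_ofPt a has x
  refine isOpen_of_chart_point a hae a0 ?_
  have hLN := isLocNoethSp X hN
  refine isOpen_singleton_of_locallyNoetherian A.left a0 Set.univ isOpen_univ trivial ?_ ?_
  · rintro a'' ⟨ha'', -⟩
    have hs : a0 ⤳ a'' := specializes_iff_mem_closure.2 ha''
    have hs' : AlgSp.Points.ofPt a a0 ⤳ AlgSp.Points.ofPt a a'' :=
      hs.map (AlgSp.Points.continuous_ofPt a)
    have hmem : AlgSp.Points.ofPt a a'' ∈ closure ({AlgSp.Points.ofPt a a0} : Set _) :=
      specializes_iff_mem_closure.1 hs'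
    rw [hx.closure_eq, Set.mem_singleton_iff] at hmem
    exact Groth.Agent.S10342.result X hLN a hae a'' a0 hmem hs
  · intro a' hs
    have hs' : AlgSp.Points.ofPt a a' ⤳ AlgSp.Points.ofPt a a0 :=
      hs.map (AlgSp.Points.continuous_ofPt a)
    exact (Groth.Agent.S10342.result X hLN a hae a0 a' (hgen _ hs').symm hs).symm

/-- an open point has (topological) local dimension zero. -/
lemma localDim_eq_zero_of_isOpen {T : Type*} [TopologicalSpace T] (t : T)
    (h : IsOpen ({t} : Set T)) : FlatMor.localDim T t = 0 := by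
  apply le_antisymm _ (Groth.Agent.Lib.Helper7.TopDim.localDim_nonneg t)
  refine (Groth.Agent.Lib.Helper7.TopDim.localDim_le t ⟨{t}, h⟩ rfl).trans ?_
  have : Subsingleton (({t} : Set T) : Type _) :=
    (Set.subsingleton_coe _).mpr Set.subsingleton_singleton
  exact topologicalKrullDim_zero_of_discreteTopology ({t} : Set T)

include hN in
/-- for decent `X`, a point at which `|X|` has local dimension zero is open. -/
lemma isOpen_of_localDim_points_eq_zero (hX : AlgSp.IsDecent X.obj) (x : AlgSp.Points X.obj)
    (h : FlatMor.localDim (AlgSp.Points X.obj) x = 0) :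
    IsOpen ({x} : Set (AlgSp.Points X.obj)) := by
  obtain ⟨W, hxW, hW⟩ := Groth.Agent.Lib.Helper7.TopDim.exists_opens_dim_eq_localDim x
  rw [h] at hW
  haveI : T0Space (AlgSp.Points X.obj) := Groth.Agent.S10338.result X hX
  have hclW := Groth.Agent.Lib.Helper7.TopDim.isClosed_singleton_of_dim_le_zero
    (X := ((W : Set (AlgSp.Points X.obj)) : Type _)) hW.le
  have key : ∀ y y' : AlgSp.Points X.obj, y ∈ W → y' ∈ W → y' ⤳ y → y' = y := by
    intro y y' hy hy' hs
    have hs' : (⟨y', hy'⟩ : (W : Set (AlgSp.Points X.obj))) ⤳ ⟨y, hy⟩ :=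
      (subtype_specializes_iff _ _).2 hs
    have := hs'.mem_closed (hclW ⟨y', hy'⟩) rfl
    rw [Set.mem_singleton_iff] at this
    exact (congrArg Subtype.val this).symm
  obtain ⟨A, a, hae, has⟩ := X.property.atlas
  haveI := hN a hae
  obtain ⟨a0, rfl⟩ := Groth.Agent.S10177.surjective_ofPt a has x
  refine isOpen_of_chart_point a hae a0 ?_
  have hW' : IsOpen (AlgSp.Points.ofPt a ⁻¹' (W : Set (AlgSp.Points X.obj))) :=
    W.isOpen.preimage (AlgSp.Points.continuous_ofPt a)
  refine isOpen_singleton_of_locallyNoetherian A.left a0 _ hW' hxW ?_ ?_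
  · rintro a'' ⟨ha'', ha''W⟩
    have hs : a0 ⤳ a'' := specializes_iff_mem_closure.2 ha''
    have hs' : AlgSp.Points.ofPt a a0 ⤳ AlgSp.Points.ofPt a a'' :=
      hs.map (AlgSp.Points.continuous_ofPt a)
    have he := key _ _ ha''W hxW hs'
    exact Groth.Agent.S10340.result X hX a hae a'' a0 he.symm hs
  · intro a' hs
    have hs' : AlgSp.Points.ofPt a a' ⤳ AlgSp.Points.ofPt a a0 :=
      hs.map (AlgSp.Points.continuous_ofPt a)
    have ha'W : AlgSp.Points.ofPt a a' ∈ W := hs'.mem_open W.isOpen hxW
    have he := key _ _ hxW ha'W hs'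
    exact (Groth.Agent.S10340.result X hX a hae a0 a' he.symm hs).symm

end

/-- charts of an algebraic space locally of finite type over a field are locally of finite type over the field. -/
lemma locallyOfFiniteType_chart (k : Type u) [Field k] (X : AlgSp.Space (Spec (CommRingCat.of k)))
    (p : X.obj ⟶ (AlgSp.yon (Spec (CommRingCat.of k))).obj (Over.mk (𝟙 _)))
    (hp : AlgSp.LocP @LocallyOfFiniteType p) {U : Over (Spec (CommRingCat.of k))}
    (a : (AlgSp.yon (Spec (CommRingCat.of k))).obj U ⟶ X.obj) (ha : AlgSp.RepWith @Etale a) :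
    LocallyOfFiniteType U.hom := by
  have hterm : IsTerminal ((AlgSp.yon (Spec (CommRingCat.of k))).obj (Over.mk (𝟙 _))) :=
    IsTerminal.isTerminalObj (AlgSp.yon (Spec (CommRingCat.of k))) _ Over.mkIdTerminal
  have h := hp a (𝟙 _) (Over.homMk U.hom : U ⟶ Over.mk (𝟙 (Spec (CommRingCat.of k)))) ha
    (AlgSp.repWith_id @Etale _) (hterm.hom_ext _ _)
  exact h

/-- charts of an algebraic space locally of finite type over a field are locally Noetherian and Jacobson. -/
lemma chart_noeth_jacobson (k : Type u) [Field k] (X : AlgSp.Space (Spec (CommRingCat.of k)))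
    (p : X.obj ⟶ (AlgSp.yon (Spec (CommRingCat.of k))).obj (Over.mk (𝟙 _)))
    (hp : AlgSp.LocP @LocallyOfFiniteType p) {U : Over (Spec (CommRingCat.of k))}
    (a : (AlgSp.yon (Spec (CommRingCat.of k))).obj U ⟶ X.obj) (ha : AlgSp.RepWith @Etale a) :
    IsLocallyNoetherian U.left ∧ JacobsonSpace ↥U.left := by
  haveI := locallyOfFiniteType_chart k X p hp a ha
  exact ⟨LocallyOfFiniteType.isLocallyNoetherian U.hom,
    LocallyOfFiniteType.jacobsonSpace (Y := Spec _) U.hom⟩

end Groth.Agent.Lib.Seat83.LftField
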