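-- helper83: fibres of a morphism of algebraic spaces locally of finite type over a field point:
-- the chart of the fibre space induced by a chart diagram, and "isolated in the fibre space iff
-- quasi-finite at the point".
import Mathlib
import Groth.Agent.Lib.Seat83LftField
import Groth.Agent.Lib.Seat83GeomFib
import Groth.Agent.S10175
import Groth.Agent.S10176
import Groth.Agent.S10555
import Groth.Agent.Lib.Helper12Proper
import Groth.Agent.Lib.Helper12LocPNbhd
import Groth.Agent.S10177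
import Groth.Agent.S10390
import Groth.Agent.S10351

set_option autoImplicit false
set_option linter.style.haveILetI false
set_option backward.isDefEq.respectTransparency false
set_option backward.isDefEq.respectTransparency.types false
open CategoryTheory CategoryTheory.Limits AlgebraicGeometry Topology TopologicalSpace

universe u

namespace Groth.Agent.Lib.Seat83.FibreQF

section Sch

/-- a point isolated in the scheme-theoretic fibre is a quasi-finite point. -/
lemma quasiFiniteAt_of_isOpen_fiber {U V : Scheme.{u}} (h : U ⟶ V) [LocallyOfFiniteType h] (x : U)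
    (y : V) (hy : h x = y) (z : h.fiber y) (hz : h.fiberι y z = x) (ho : IsOpen ({z} : Set (h.fiber y))) :
    h.QuasiFiniteAt x := by
  subst hy
  rw [Scheme.Hom.quasiFiniteAt_iff_isOpen_singleton_asFiber]
  have : z = h.asFiber x := (h.fiberι _).isEmbedding.injective (by rw [hz, Scheme.Hom.fiberι_asFiber])
  rwa [← this]

/-- an isolated point is a quasi-finite point. -/
lemma quasiFiniteAt_of_isOpen_singleton {T V : Scheme.{u}} (s : T ⟶ V) [LocallyOfFiniteType s] (τ : T)
    (ho : IsOpen ({τ} : Set T)) : s.QuasiFiniteAt τ := by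
  refine quasiFiniteAt_of_isOpen_fiber s τ (s τ) rfl (s.asFiber τ) (Scheme.Hom.fiberι_asFiber _ _) ?_
  have h1 : ({s.asFiber τ} : Set (s.fiber (s τ))) = (s.fiberι (s τ)) ⁻¹' {τ} := by
    ext z
    simp only [Set.mem_singleton_iff, Set.mem_preimage]
    constructor
    · rintro rfl; exact Scheme.Hom.fiberι_asFiber _ _
    · intro hz
      exact (s.fiberι _).isEmbedding.injective (by rw [hz, Scheme.Hom.fiberι_asFiber])
  rw [h1]
  exact ho.preimage (s.fiberι (s τ)).continuous

/-- quasi-finiteness at a point descends along a base change. -/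
theorem quasiFiniteAt_of_isPullback {T U V V' : Scheme.{u}} {fst : T ⟶ U} {snd : T ⟶ V'} {h : U ⟶ V}
    {g : V' ⟶ V} (sq : IsPullback fst snd h g) [LocallyOfFiniteType h] (τ : T)
    (hτ : snd.QuasiFiniteAt τ) : h.QuasiFiniteAt (fst τ) := by
  have : LocallyOfFiniteType snd := MorphismProperty.of_isPullback (P := @LocallyOfFiniteType) sq inferInstance
  rw [Scheme.Hom.quasiFiniteAt_iff_isOpen_singleton_asFiber] at hτ
  have sq' := isPullback_fiberToSpecResidueField_of_isPullback sq (snd τ)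
  obtain ⟨m, hm⟩ : ∃ m : snd.fiber (snd τ) ⟶ h.fiber (g (snd τ)), m =
      pullback.map snd (V'.fromSpecResidueField (snd τ)) h (V.fromSpecResidueField (g (snd τ)))
        fst (Spec.map (g.residueFieldMap (snd τ))) g sq.w.symm (by simp) := ⟨_, rfl⟩
  rw [← hm] at sq'
  have : UniversallyOpen m := MorphismProperty.of_isPullback (P := @UniversallyOpen) sq'.flip inferInstance
  have ho : IsOpen ({m (snd.asFiber τ)} : Set _) := by
    have := m.isOpenMap _ hτ
    convert this
    exact (Set.image_singleton).symm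
  have hcond : h (fst τ) = g (snd τ) := by
    rw [← Scheme.Hom.comp_apply, ← Scheme.Hom.comp_apply, sq.w]
  refine quasiFiniteAt_of_isOpen_fiber h (fst τ) (g (snd τ)) hcond (m (snd.asFiber τ)) ?_ ho
  have h1 : m ≫ h.fiberι (g (snd τ)) = snd.fiberι (snd τ) ≫ fst := by
    rw [hm]; exact pullback.lift_fst _ _ _
  have h2 : (m ≫ h.fiberι (g (snd τ))) (snd.asFiber τ) =
      (snd.fiberι (snd τ) ≫ fst) (snd.asFiber τ) := by rw [h1]
  simpa only [Scheme.Hom.comp_apply, Scheme.Hom.fiberι_asFiber] using h2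

end Sch

section Chart

variable {S : Scheme.{u}}

/-- The chart of the fibre space `X_k = Spec k ×_Y X` induced by a chart diagram of `f : X ⟶ Y`:
`T = U ×_V V_k` with `V_k = V ×_Y Spec k` etale over `Spec k`, and `T = U ×_X X_k` etale over
`X_k`. -/
theorem exists_fibre_chart {X Y : AlgSp.Space S} (f : X ⟶ Y) (r : AlgSp.FieldPt Y.obj)
    (Xk : AlgSp.Space S) (fst : Xk ⟶ X) (snd : Xk.obj ⟶ (AlgSp.yon S).obj r.pt)
    (hsq : IsPullback fst.hom snd f.hom r.toHom) {U V : Over S} (a : (AlgSp.yon S).obj U ⟶ X.obj)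
    (b : (AlgSp.yon S).obj V ⟶ Y.obj) (h : U ⟶ V) (ha : AlgSp.RepWith @Etale a)
    (hb : AlgSp.RepWith @Etale b) (hc : a ≫ f.hom = (AlgSp.yon S).map h ≫ b) :
    ∃ (VK T : Over S) (g : VK ⟶ V) (q : VK ⟶ r.pt) (t₁ : T ⟶ U) (t₂ : T ⟶ VK)
      (c : (AlgSp.yon S).obj T ⟶ Xk.obj),
      Etale q.left ∧ IsPullback t₁.left t₂.left h.left g.left ∧ AlgSp.RepWith @Etale c ∧
        IsPullback ((AlgSp.yon S).map t₁) c a fst.hom ∧ c ≫ snd = (AlgSp.yon S).map (t₂ ≫ q) := by
  obtain ⟨VK, q, g', sqV⟩ := hb.1 r.toHom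
  have hq : Etale q.left := hb.2 r.toHom g' q sqV
  obtain ⟨g, rfl⟩ := (AlgSp.yon S).map_surjective g'
  let T : Over S := Over.mk (pullback.fst h.left g.left ≫ U.hom)
  let t₁ : T ⟶ U := Over.homMk (pullback.fst h.left g.left) rfl
  let t₂ : T ⟶ VK := Over.homMk (pullback.snd h.left g.left) (by
    change pullback.snd h.left g.left ≫ VK.hom = pullback.fst h.left g.left ≫ U.hom
    rw [← Over.w g, ← Over.w h, ← Category.assoc, ← Category.assoc, pullback.condition])
  have sqT : IsPullback ((AlgSp.yon S).map t₁) ((AlgSp.yon S).map t₂) ((AlgSp.yon S).map h)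
      ((AlgSp.yon S).map g) :=
    (Groth.Agent.Lib.Seat83.GeomFib.isPullback_yon_iff t₁ t₂ h g).2
      (IsPullback.of_hasPullback h.left g.left)
  have hw : ((AlgSp.yon S).map t₁ ≫ a) ≫ f.hom = ((AlgSp.yon S).map (t₂ ≫ q)) ≫ r.toHom := by
    rw [Category.assoc, hc, ← Category.assoc, sqT.w, Category.assoc, sqV.w, Functor.map_comp,
      Category.assoc]
  let c : (AlgSp.yon S).obj T ⟶ Xk.obj := hsq.lift _ _ hw
  have hc1 : c ≫ fst.hom = (AlgSp.yon S).map t₁ ≫ a := hsq.lift_fst _ _ _
  have hc2 : c ≫ snd = (AlgSp.yon S).map (t₂ ≫ q) := hsq.lift_snd _ _ _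
  have big : IsPullback (c ≫ snd) ((AlgSp.yon S).map t₁) r.toHom (a ≫ f.hom) := by
    rw [hc2, hc, Functor.map_comp]
    exact sqT.flip.paste_horiz sqV.flip
  have left : IsPullback c ((AlgSp.yon S).map t₁) fst.hom a :=
    IsPullback.of_right big hc1 hsq.flip
  refine ⟨VK, T, g, q, t₁, t₂, c, hq, IsPullback.of_hasPullback h.left g.left, ?_, left.flip, hc2⟩
  exact (AlgSp.RepWith (S := S) @Etale).of_isPullback left.flip ha

/-- points of the induced chart of the fibre space. -/
theorem exists_point_fibre_chart {X : AlgSp.Sp S} {Xk : AlgSp.Sp S} (fst : Xk ⟶ X) {U T : Over S}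
    (a : (AlgSp.yon S).obj U ⟶ X) (t₁ : T ⟶ U) (c : (AlgSp.yon S).obj T ⟶ Xk)
    (sq : IsPullback ((AlgSp.yon S).map t₁) c a fst) (u : ↥U.left) (xt : AlgSp.Points Xk)
    (e : AlgSp.Points.ofPt a u = AlgSp.Points.map fst xt) :
    ∃ τ : ↥T.left, t₁.left τ = u ∧ AlgSp.Points.ofPt c τ = xt := by
  rw [AlgSp.Points.ofPt_eq_map_ofScheme] at e
  obtain ⟨p, hp1, hp2⟩ := Groth.Agent.S10175.exists_point_of_isPullback sq _ _ e
  obtain ⟨τ, rfl⟩ := (AlgSp.Points.schemeHomeo T).surjective p
  refine ⟨τ, ?_, ?_⟩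
  · apply (AlgSp.Points.schemeHomeo U).injective
    rw [← AlgSp.Points.map_yon_map_apply]
    exact hp1
  · rw [AlgSp.Points.ofPt_eq_map_ofScheme]
    exact hp2

end Chart

section Generic

variable {S : Scheme.{u}} (X : AlgSp.Space S)
  (hN : ∀ {U : Over S} (a : (AlgSp.yon S).obj U ⟶ X.obj), AlgSp.RepWith @Etale a →
    IsLocallyNoetherian U.left)
  (hJ : ∀ {U : Over S} (a : (AlgSp.yon S).obj U ⟶ X.obj), AlgSp.RepWith @Etale a →
    JacobsonSpace ↥U.left)

include hN hJ in
/-- pointwise conditions on a space all of whose charts are locally Noetherian and Jacobson. -/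
theorem point_conditions (x : AlgSp.Points X.obj) :
    (IsOpen ({x} : Set (AlgSp.Points X.obj)) ↔
        (IsClosed ({x} : Set (AlgSp.Points X.obj)) ∧ ∀ x' : AlgSp.Points X.obj, x' ⤳ x → x' = x)) ∧
      (IsOpen ({x} : Set (AlgSp.Points X.obj)) ↔
        AlgSp.HasAt (fun U u => FlatMor.localDim ↥U u = 0) X.obj x) ∧
      (AlgSp.IsDecent X.obj →
        (FlatMor.localDim (AlgSp.Points X.obj) x = 0 ↔ IsOpen ({x} : Set (AlgSp.Points X.obj)))) := by
  refine ⟨⟨fun h => ⟨?_, ?_⟩, fun h => ?_⟩, ⟨fun h => ?_, fun h => ?_⟩,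
    fun hX => ⟨fun h => ?_, fun h => ?_⟩⟩
  · exact Groth.Agent.Lib.Seat83.LftField.isClosed_of_isOpen X hN hJ x h
  · intro x' hs
    exact hs.mem_open h rfl
  · exact Groth.Agent.Lib.Seat83.LftField.isOpen_of_isClosed_of_forall_specializes X hN x h.1 h.2
  · obtain ⟨A, a, hae, has⟩ := X.property.atlas
    obtain ⟨a0, ha0⟩ := Groth.Agent.S10177.surjective_ofPt a has x
    haveI := hN a hae
    refine ⟨A, a, a0, hae, ha0, ?_⟩
    have h1 :=
      (Groth.Agent.Lib.Seat83.LftField.isOpen_chart_point_of_isOpen X hN hJ x h a hae a0 ha0).2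
    exact le_antisymm
      ((Groth.Agent.Lib.Helper3.GrpHomQF.isOpen_singleton_iff_localDim_le_zero A.left a0).1 h1)
      (Groth.Agent.Lib.Helper7.TopDim.localDim_nonneg a0)
  · obtain ⟨U, a, u, ha, hu, hdim⟩ := h
    haveI := hN a ha
    rw [← hu]
    exact Groth.Agent.Lib.Seat83.LftField.isOpen_of_chart_point a ha u
      ((Groth.Agent.Lib.Helper3.GrpHomQF.isOpen_singleton_iff_localDim_le_zero U.left u).2 hdim.le)
  · exact Groth.Agent.Lib.Seat83.LftField.isOpen_of_localDim_points_eq_zero X hN hX x h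
  · exact Groth.Agent.Lib.Seat83.LftField.localDim_eq_zero_of_isOpen x h

include hN hJ in
/-- global conditions on a nonempty space all of whose charts are locally Noetherian and
Jacobson. -/
theorem space_conditions [Nonempty (AlgSp.Points X.obj)] :
    (DiscreteTopology (AlgSp.Points X.obj) ↔ AlgSp.dim X.obj = 0) ∧
      (DiscreteTopology (AlgSp.Points X.obj) → topologicalKrullDim (AlgSp.Points X.obj) = 0) ∧
      (AlgSp.IsDecent X.obj → topologicalKrullDim (AlgSp.Points X.obj) = 0 →
        DiscreteTopology (AlgSp.Points X.obj)) ∧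
      (AlgSp.IsDecent X.obj → Finite (AlgSp.Points X.obj) →
        DiscreteTopology (AlgSp.Points X.obj)) := by
  obtain ⟨A, a, hae, has⟩ := X.property.atlas
  haveI := hN a hae
  haveI := hJ a hae
  haveI : Nonempty ↥A.left := by
    obtain ⟨x⟩ := ‹Nonempty (AlgSp.Points X.obj)›
    obtain ⟨a0, -⟩ := Groth.Agent.S10177.surjective_ofPt a has x
    exact ⟨a0⟩
  have D1 : DiscreteTopology (AlgSp.Points X.obj) → AlgSp.dim X.obj = 0 := by
    intro hd
    apply le_antisymm
    · refine iSup_le fun U => iSup_le fun b => iSup_le fun hb => ?_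
      haveI : DiscreteTopology ↥U.left := discreteTopology_iff_isOpen_singleton.2 fun u =>
        (Groth.Agent.Lib.Seat83.LftField.isOpen_chart_point_of_isOpen X hN hJ
          (AlgSp.Points.ofPt b u) (isOpen_discrete _) b hb u rfl).2
      exact topologicalKrullDim_zero_of_discreteTopology ↥U.left
    · exact le_iSup_of_le A (le_iSup_of_le a (le_iSup_of_le hae
        Groth.Agent.Lib.Helper7.TopDim.topologicalKrullDim_nonneg))
  refine ⟨⟨D1, fun h => ?_⟩, fun hd => ?_, fun hX h => ?_, fun hX hfin => ?_⟩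
  · have hA : topologicalKrullDim ↥A.left ≤ 0 := by
      rw [← h]
      exact le_iSup_of_le A (le_iSup_of_le a (le_iSup_of_le hae le_rfl))
    refine discreteTopology_iff_isOpen_singleton.2 fun x => ?_
    obtain ⟨a0, rfl⟩ := Groth.Agent.S10177.surjective_ofPt a has x
    refine Groth.Agent.Lib.Seat83.LftField.isOpen_of_chart_point a hae a0 ?_
    exact (Groth.Agent.Lib.Helper3.GrpHomQF.isOpen_singleton_iff_localDim_le_zero A.left a0).2
      ((Groth.Agent.Lib.Helper7.TopDim.localDim_le_dim a0).trans hA)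
  · exact le_antisymm (topologicalKrullDim_zero_of_discreteTopology _)
      Groth.Agent.Lib.Helper7.TopDim.topologicalKrullDim_nonneg
  · refine discreteTopology_iff_isOpen_singleton.2 fun x => ?_
    refine Groth.Agent.Lib.Seat83.LftField.isOpen_of_localDim_points_eq_zero X hN hX x ?_
    exact le_antisymm ((Groth.Agent.Lib.Helper7.TopDim.localDim_le_dim x).trans h.le)
      (Groth.Agent.Lib.Helper7.TopDim.localDim_nonneg x)
  · haveI : JacobsonSpace (AlgSp.Points X.obj) :=
      Groth.Agent.Lib.Seat83.Jacobson.jacobsonSpace_points X hX a hae has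
    infer_instance

end Generic

section Fibre

variable {S : Scheme.{u}} {X Y : AlgSp.Space S} (f : X ⟶ Y)
  (hf : AlgSp.LocP @LocallyOfFiniteType f.hom) (r : AlgSp.FieldPt Y.obj)
  (Xk : AlgSp.Space S) (fst : Xk ⟶ X) (snd : Xk.obj ⟶ (AlgSp.yon S).obj r.pt)
  (hsq : IsPullback fst.hom snd f.hom r.toHom)

include hf hsq in
/-- charts of the fibre space are locally of finite type over the field. -/
lemma locallyOfFiniteType_fibre_chart {C : Over S} (e : (AlgSp.yon S).obj C ⟶ Xk.obj)
    (he : AlgSp.RepWith @Etale e) :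
    ∃ p : C ⟶ r.pt, e ≫ snd = (AlgSp.yon S).map p ∧ LocallyOfFiniteType p.left := by
  have hsnd : AlgSp.LocP @LocallyOfFiniteType snd :=
    Groth.Agent.Lib.Helper12.Proper.locP_lft_baseChange X.property Y.property
      (AlgSp.IsAlgSpace.yon_obj r.pt) hsq hf
  obtain ⟨p, hp⟩ := (AlgSp.yon S).map_surjective (e ≫ snd)
  refine ⟨p, hp.symm, ?_⟩
  exact hsnd e (𝟙 _) p he (AlgSp.repWith_id @Etale _) (by rw [Category.comp_id, hp])

include hf hsq in
/-- charts of the fibre space are locally Noetherian and Jacobson. -/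
lemma fibre_chart_noeth_jacobson {C : Over S} (e : (AlgSp.yon S).obj C ⟶ Xk.obj)
    (he : AlgSp.RepWith @Etale e) : IsLocallyNoetherian C.left ∧ JacobsonSpace ↥C.left := by
  obtain ⟨p, -, hp⟩ := locallyOfFiniteType_fibre_chart f hf r Xk fst snd hsq e he
  have h1 : IsLocallyNoetherian r.pt.left := by
    change IsLocallyNoetherian (Spec (CommRingCat.of r.K))
    infer_instance
  have h2 : JacobsonSpace ↥r.pt.left := by
    change JacobsonSpace ↥(Spec (CommRingCat.of r.K))
    infer_instance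
  exact ⟨LocallyOfFiniteType.isLocallyNoetherian p.left, LocallyOfFiniteType.jacobsonSpace p.left⟩

include hf hsq in
/-- A point of the fibre space `X_k` is isolated exactly when `f` is quasi-finite at its image in
`X` (in some chart diagram). -/
theorem isOpen_singleton_iff_hasAtMor (xt : AlgSp.Points Xk.obj) :
    IsOpen ({xt} : Set (AlgSp.Points Xk.obj)) ↔
      AlgSp.HasAtMor (fun U _ h u => ∃ W : U.Opens, u ∈ W ∧ LocallyQuasiFinite (W.ι ≫ h) ∧
        LocallyOfFiniteType (W.ι ≫ h)) f.hom (AlgSp.Points.map fst.hom xt) := by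
  have hN : ∀ {C : Over S} (e : (AlgSp.yon S).obj C ⟶ Xk.obj), AlgSp.RepWith @Etale e →
      IsLocallyNoetherian C.left := fun e he =>
    (fibre_chart_noeth_jacobson f hf r Xk fst snd hsq e he).1
  have hJ : ∀ {C : Over S} (e : (AlgSp.yon S).obj C ⟶ Xk.obj), AlgSp.RepWith @Etale e →
      JacobsonSpace ↥C.left := fun e he =>
    (fibre_chart_noeth_jacobson f hf r Xk fst snd hsq e he).2
  constructor
  · intro hopen
    obtain ⟨U, V, a, b, h, u, ha, hb, hc, hu⟩ :=
      Groth.Agent.Lib.Helper12.LocPNbhd.exists_chart X.property Y.property f.hom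
        (AlgSp.Points.map fst.hom xt)
    obtain ⟨VK, T, g, q, t₁, t₂, c, hq, sqT, hce, sqc, hc2⟩ :=
      exists_fibre_chart f r Xk fst snd hsq a b h ha hb hc
    obtain ⟨τ, hτ1, hτ2⟩ := exists_point_fibre_chart fst.hom a t₁ c sqc u xt hu
    have hlft : LocallyOfFiniteType h.left := hf a b h ha hb hc
    have hτo : IsOpen ({τ} : Set ↥T.left) :=
      (Groth.Agent.Lib.Seat83.LftField.isOpen_chart_point_of_isOpen Xk hN hJ xt hopen c hce τ hτ2).2
    have : LocallyOfFiniteType t₂.left :=
      MorphismProperty.of_isPullback (P := @LocallyOfFiniteType) sqT inferInstance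
    have hqf := quasiFiniteAt_of_isPullback sqT τ (quasiFiniteAt_of_isOpen_singleton t₂.left τ hτo)
    rw [hτ1] at hqf
    exact ⟨U, V, a, b, h, u, ha, hb, hc, hu, h.left.quasiFiniteLocus, hqf, inferInstance,
      inferInstance⟩
  · rintro ⟨U, V, a, b, h, u, ha, hb, hc, hu, W, huW, hW1, hW2⟩
    obtain ⟨VK, T, g, q, t₁, t₂, c, hq, sqT, hce, sqc, hc2⟩ :=
      exists_fibre_chart f r Xk fst snd hsq a b h ha hb hc
    obtain ⟨τ, hτ1, hτ2⟩ := exists_point_fibre_chart fst.hom a t₁ c sqc u xt hu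
    have sqW : IsPullback (t₁.left ∣_ W) ((t₁.left ⁻¹ᵁ W).ι ≫ t₂.left) (W.ι ≫ h.left) g.left :=
      (isPullback_morphismRestrict t₁.left W).paste_vert sqT
    have h1 : LocallyQuasiFinite ((t₁.left ⁻¹ᵁ W).ι ≫ t₂.left) :=
      MorphismProperty.of_isPullback (P := @LocallyQuasiFinite) sqW hW1
    have h2 : LocallyQuasiFinite q.left := Groth.Agent.S10555.lqf_of_etale q.left
    have h3 : LocallyQuasiFinite (((t₁.left ⁻¹ᵁ W).ι ≫ t₂.left) ≫ q.left) := inferInstance
    have hsub : Subsingleton ↥r.pt.left := by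
      change Subsingleton ↥(Spec (CommRingCat.of r.K))
      infer_instance
    have hdisc : DiscreteTopology ↥(t₁.left ⁻¹ᵁ W : Scheme.{u}) := by
      obtain ⟨ρ, hρ⟩ : ∃ ρ : (t₁.left ⁻¹ᵁ W : Scheme.{u}) ⟶ r.pt.left,
        ρ = ((t₁.left ⁻¹ᵁ W).ι ≫ t₂.left) ≫ q.left := ⟨_, rfl⟩
      have : LocallyQuasiFinite ρ := hρ ▸ h3
      have hd := ρ.isDiscrete_preimage_singleton (ρ ⟨τ, by
        change t₁.left τ ∈ W
        rw [hτ1]; exact huW⟩)
      have : ρ ⁻¹' {ρ ⟨τ, by change t₁.left τ ∈ W; rw [hτ1]; exact huW⟩} = Set.univ :=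
        Set.eq_univ_of_forall fun z => Subsingleton.elim _ _
      rw [this] at hd
      exact isDiscrete_univ_iff.1 hd
    have hτW : τ ∈ (t₁.left ⁻¹ᵁ W) := by
      change t₁.left τ ∈ W
      rw [hτ1]; exact huW
    have hτo : IsOpen ({τ} : Set ↥T.left) := by
      have := (t₁.left ⁻¹ᵁ W).ι.isOpenEmbedding.isOpenMap {⟨τ, hτW⟩} (isOpen_discrete _)
      rwa [Set.image_singleton] at this
    have := Groth.Agent.Lib.Seat83.LftField.isOpen_of_chart_point c hce τ hτo
    rwa [hτ2] at this

/-- every point of `h_{Spec K}` maps to the class of the field point. -/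
lemma map_toHom_eq {F : AlgSp.Sp S} (r : AlgSp.FieldPt F) (p : AlgSp.Points ((AlgSp.yon S).obj r.pt)) :
    AlgSp.Points.map r.toHom p = AlgSp.Points.mk r := by
  obtain ⟨s, rfl⟩ := (AlgSp.Points.schemeHomeo r.pt).surjective p
  change AlgSp.Points.map r.toHom (AlgSp.Points.ofScheme r.pt s) = _
  rw [← AlgSp.Points.ofPt_eq_map_ofScheme]
  exact AlgSp.Points.ofPt_toHom r s

include hsq in
/-- points of the fibre space lie over the point. -/
lemma map_f_map_fst (xt : AlgSp.Points Xk.obj) :
    AlgSp.Points.map f.hom (AlgSp.Points.map fst.hom xt) = AlgSp.Points.mk r := by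
  rw [← AlgSp.Points.map_comp, hsq.w, AlgSp.Points.map_comp]
  exact map_toHom_eq r _

include hsq in
/-- the fibre space surjects onto the fibre. -/
lemma exists_map_fst_eq (x : AlgSp.Points X.obj)
    (hx : AlgSp.Points.map f.hom x = AlgSp.Points.mk r) :
    ∃ xt : AlgSp.Points Xk.obj, AlgSp.Points.map fst.hom xt = x := by
  obtain ⟨s⟩ : Nonempty ↥r.pt.left := by
    change Nonempty ↥(Spec (CommRingCat.of r.K))
    infer_instance
  have e : AlgSp.Points.map f.hom x =
      AlgSp.Points.map r.toHom (AlgSp.Points.ofScheme r.pt s) := by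
    rw [hx, map_toHom_eq]
  obtain ⟨p, hp1, -⟩ := Groth.Agent.S10175.exists_point_of_isPullback hsq _ _ e
  exact ⟨p, hp1⟩

include hf hsq in
/-- the fibre space is discrete exactly when `f` is quasi-finite at all points of the fibre. -/
theorem discrete_iff_forall_hasAtMor :
    DiscreteTopology (AlgSp.Points Xk.obj) ↔
      ∀ x : AlgSp.Points X.obj, AlgSp.Points.map f.hom x = AlgSp.Points.mk r →
        AlgSp.HasAtMor (fun U _ h u => ∃ W : U.Opens, u ∈ W ∧ LocallyQuasiFinite (W.ι ≫ h) ∧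
          LocallyOfFiniteType (W.ι ≫ h)) f.hom x := by
  constructor
  · intro hd x hx
    obtain ⟨xt, rfl⟩ := exists_map_fst_eq f r Xk fst snd hsq x hx
    exact (isOpen_singleton_iff_hasAtMor f hf r Xk fst snd hsq xt).1 (isOpen_discrete _)
  · intro H
    exact discreteTopology_iff_isOpen_singleton.2 fun xt =>
      (isOpen_singleton_iff_hasAtMor f hf r Xk fst snd hsq xt).2
        (H _ (map_f_map_fst f r Xk fst snd hsq xt))

include hsq in
/-- for a monomorphic quasi-compact field point, the fibre space is homeomorphic to the fibre. -/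
noncomputable def fibreHomeo (hm : Mono r.toHom) (hq : AlgSp.RepWith @QuasiCompact r.toHom) :
    AlgSp.Points Xk.obj ≃ₜ ↥(AlgSp.Points.map f.hom ⁻¹' {AlgSp.Points.mk r}) :=
  ((Groth.Agent.S10390.result f r hm hq Xk fst snd hsq).1.toHomeomorph).trans
    (Homeomorph.setCongr (Groth.Agent.S10390.result f r hm hq Xk fst snd hsq).2)

lemma fibreHomeo_apply (hm : Mono r.toHom) (hq : AlgSp.RepWith @QuasiCompact r.toHom)
    (xt : AlgSp.Points Xk.obj) :
    (fibreHomeo f r Xk fst snd hsq hm hq xt).1 = AlgSp.Points.map fst.hom xt := rfl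

/-- over a decent space every point has a residual (monomorphic quasi-compact) representative, and
the fibre over it is an algebraic space representable over the source. -/
theorem exists_residual_fibre (hY : AlgSp.IsDecent Y.obj) (y : AlgSp.Points Y.obj) :
    ∃ (r₀ : AlgSp.FieldPt Y.obj) (Xκ : AlgSp.Space S) (fst₀ : Xκ ⟶ X)
      (snd₀ : Xκ.obj ⟶ (AlgSp.yon S).obj r₀.pt),
      AlgSp.Points.mk r₀ = y ∧ IsPullback fst₀.hom snd₀ f.hom r₀.toHom ∧ Mono r₀.toHom ∧
        AlgSp.RepWith @QuasiCompact r₀.toHom ∧ AlgSp.Representable fst₀.hom := by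
  obtain ⟨r₀, hr₀, hm, hq⟩ := hY y
  have hsp : AlgSp.IsAlgSpace (pullback f.hom r₀.toHom) :=
    Groth.Agent.S9874.isAlgSpace_of_isPullback Y.property.diag X.property
      (AlgSp.IsAlgSpace.yon_obj r₀.pt) (IsPullback.of_hasPullback _ _)
  refine ⟨r₀, ⟨pullback f.hom r₀.toHom, hsp⟩, ObjectProperty.homMk (pullback.fst f.hom r₀.toHom),
    pullback.snd f.hom r₀.toHom, hr₀, IsPullback.of_hasPullback _ _, hm, hq, ?_⟩
  exact MorphismProperty.of_isPullback (P := AlgSp.Representable (S := S))
    (IsPullback.of_hasPullback f.hom r₀.toHom).flip hq.1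

end Fibre

section Top

variable {A B : Type*} [TopologicalSpace A] [TopologicalSpace B]

lemma localDim_le_of_homeomorph (e : A ≃ₜ B) (a : A) :
    FlatMor.localDim A a ≤ FlatMor.localDim B (e a) := by
  refine le_iInf fun V => ?_
  have hmem : a ∈ V.1.comap (⟨e, e.continuous⟩ : C(A, B)) := V.2
  refine (Groth.Agent.Lib.Helper7.TopDim.localDim_le a _ hmem).trans (le_of_eq ?_)
  let e' : ↥((V.1.comap (⟨e, e.continuous⟩ : C(A, B)) : Opens A) : Set A) ≃ₜ ↥((V.1 : Opens B) : Set B) :=
    e.subtype (fun _ => Iff.rfl)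
  exact IsHomeomorph.topologicalKrullDim_eq _ e'.isHomeomorph

lemma localDim_homeomorph (e : A ≃ₜ B) (a : A) :
    FlatMor.localDim A a = FlatMor.localDim B (e a) := by
  refine le_antisymm (localDim_le_of_homeomorph e a) ?_
  have := localDim_le_of_homeomorph e.symm (e a)
  rwa [e.symm_apply_apply] at this

end Top

end Groth.Agent.Lib.Seat83.FibreQF
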