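import Groth.Prelude.Def_StCurv2
import Groth.Agent.Lib.Helper5FiberMor
import Groth.Agent.Lib.Helper5GrpCM
import Groth.Agent.Lib.Helper5GorRing
import Mathlib

/-!
# `LocP` of "flat with `P`-fibres" for the sheaf morphism of a scheme over a field (seat 83)

For a property `P` of local rings satisfying the flat-local criterion (`FlatLocalIff`, e.g. Cohen–Macaulay,
Gorenstein), invariant under isomorphism and true for fields: the morphism of sheaves `h_X ⟶ h_{Spec k}`
is, in every etale chart diagram, flat with `P` fibre local rings iff all local rings of `X` have `P`.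
-/

set_option autoImplicit false
universe u

open CategoryTheory CategoryTheory.Limits AlgebraicGeometry IsLocalRing
open Groth.Agent.Lib.Helper5.FiberMor Groth.Agent.Lib.Helper5.FiberRing

namespace Groth.Agent.Lib.Seat83.LocPFibre

/-- The local rings of the spectrum of a field are fields. -/
theorem isField_stalk_spec_field (k : Type u) [Field k] (y : ↥(Spec (CommRingCat.of k))) :
    IsField ((Spec (CommRingCat.of k)).presheaf.stalk y) := by
  haveI : Subsingleton ↥(Spec (CommRingCat.of k)) := inferInstanceAs (Subsingleton (PrimeSpectrum k))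
  refine isField_stalk_of_closure_mem_irreducibleComponents _ y ?_
  have h1 : closure ({y} : Set ↥(Spec (CommRingCat.of k))) = Set.univ := by
    apply Set.eq_univ_of_forall
    intro z
    rw [Subsingleton.elim z y]
    exact subset_closure rfl
  rw [h1, irreducibleComponents_eq_singleton]
  rfl

/-- A flat ring hom out of a field. -/
theorem flat_of_isField {A B : Type u} [CommRing A] [CommRing B] (hA : IsField A) (f : A →+* B) : f.Flat := by
  letI := hA.toField
  algebraize [f]
  exact (inferInstance : Module.Flat A B)

variable {X Y : Scheme.{u}}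

/-- For an unramified (formally unramified, locally of finite type) morphism, `O_{X,x} / m_{f x} O_{X,x}` is a field. -/
theorem isField_quotient_of_unramified (f : X ⟶ Y) [FormallyUnramified f] [LocallyOfFiniteType f] (x : X) :
    IsField (X.presheaf.stalk x ⧸ (maximalIdeal (Y.presheaf.stalk (f x))).map (f.stalkMap x).hom) := by
  algebraize [(f.stalkMap x).hom]
  have : IsLocalHom (algebraMap (Y.presheaf.stalk (f x)) (X.presheaf.stalk x)) :=
    inferInstanceAs <| IsLocalHom (f.stalkMap x).hom
  have : Algebra.EssFiniteType (Y.presheaf.stalk (f x)) (X.presheaf.stalk x) := by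
    rw [← RingHom.essFiniteType_algebraMap, RingHom.algebraMap_toAlgebra]
    exact LocallyOfFiniteType.stalkMap f x
  have : Algebra.FormallyUnramified (Y.presheaf.stalk (f x)) (X.presheaf.stalk x) := by
    rw [← RingHom.formallyUnramified_algebraMap, RingHom.algebraMap_toAlgebra]
    exact FormallyUnramified.stalkMap f x
  exact Algebra.FormallyUnramified.isField_quotient_map_maximalIdeal

/-- The local rings of a scheme unramified over the spectrum of a field are fields. -/
theorem isField_stalk_of_unramified_field {k : Type u} [Field k] (f : X ⟶ Spec (CommRingCat.of k))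
    [FormallyUnramified f] [LocallyOfFiniteType f] (x : X) : IsField (X.presheaf.stalk x) := by
  have h1 := isField_quotient_of_unramified f x
  have h2 : maximalIdeal ((Spec (CommRingCat.of k)).presheaf.stalk (f x)) = ⊥ :=
    (isField_iff_maximalIdeal_eq).mp (isField_stalk_spec_field k (f x))
  rw [h2, Ideal.map_bot] at h1
  exact (RingEquiv.quotientBot (X.presheaf.stalk x)).symm.toMulEquiv.isField h1

variable {P : ∀ (R : Type u) [CommRing R], Prop}

/-- Scheme-level chart statement: `U ⟶ X` etale with `X` locally of finite type over a field with `P` local rings,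
`V ⟶ Spec k` etale, `h : U ⟶ V` compatible: `h` is flat with `P` fibre local rings at every point. -/
theorem chart_flat_fibre {k : Type u} [Field k] {U V : Scheme.{u}} (p : X ⟶ Spec (CommRingCat.of k))
    [LocallyOfFiniteType p] (α : U ⟶ X) [Etale α] (β : V ⟶ Spec (CommRingCat.of k)) [Etale β] (h : U ⟶ V)
    (hP : FlatLocalIff P) (hPe : IsoInv P) (hfield : ∀ (F : Type u) [CommRing F], IsField F → P F)
    (hX : ∀ x : X, P (X.presheaf.stalk x)) (u : U) :
    (h.stalkMap u).hom.Flat ∧ P ((h.fiber (h u)).presheaf.stalk (h.asFiber u)) := by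
  have : IsLocallyNoetherian X := LocallyOfFiniteType.isLocallyNoetherian p
  have : IsLocallyNoetherian U := LocallyOfFiniteType.isLocallyNoetherian α
  have : IsLocallyNoetherian V := LocallyOfFiniteType.isLocallyNoetherian β
  have hPU : P (U.presheaf.stalk u) := by
    rw [flat_iff α u hP hPe (Flat.stalkMap α u)]
    refine ⟨hX _, ?_⟩
    rw [fiber_stalk_iff α u hPe]
    exact hfield _ (isField_quotient_of_unramified α u)
  have hV : IsField (V.presheaf.stalk (h u)) := isField_stalk_of_unramified_field β (h u)
  have hfl : (h.stalkMap u).hom.Flat := flat_of_isField hV _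
  exact ⟨hfl, ((flat_iff h u hP hPe hfl).1 hPU).2⟩

variable {S : Scheme.{u}}

/-- The `LocP` statement. -/
theorem locP_flat_fibre_iff (k : Type u) [Field k] (t : Spec (CommRingCat.of k) ⟶ S)
    (p : X ⟶ Spec (CommRingCat.of k)) [LocallyOfFiniteType p]
    (hP : FlatLocalIff P) (hPe : IsoInv P) (hfield : ∀ (F : Type u) [CommRing F], IsField F → P F) :
    AlgSp.LocP (fun _ _ g => ∀ x, (g.stalkMap x).hom.Flat ∧ P ((g.fiber (g x)).presheaf.stalk (g.asFiber x)))
        ((AlgSp.yon S).map (Over.homMk p rfl : Over.mk (p ≫ t) ⟶ Over.mk t)) ↔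
      ∀ x : X, P (X.presheaf.stalk x) := by
  have : IsLocallyNoetherian X := LocallyOfFiniteType.isLocallyNoetherian p
  constructor
  · intro h x
    have h1 := AlgSp.locP_yon_map h x
    change (p.stalkMap x).hom.Flat ∧ P ((p.fiber (p x)).presheaf.stalk (p.asFiber x)) at h1
    rw [flat_iff p x hP hPe h1.1]
    exact ⟨hfield _ (isField_stalk_spec_field k (p x)), h1.2⟩
  · intro hX U V a b h ha hb hcomm
    obtain ⟨α, rfl⟩ := (AlgSp.yon S).map_surjective a
    obtain ⟨β, rfl⟩ := (AlgSp.yon S).map_surjective b
    have hα : Etale α.left := (AlgSp.repWith_yon_map_iff @Etale α).1 ha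
    have hβ : Etale β.left := (AlgSp.repWith_yon_map_iff @Etale β).1 hb
    intro u
    exact chart_flat_fibre (U := U.left) (V := V.left) p α.left β.left h.left hP hPe hfield hX u

theorem cm_of_isField (F : Type u) [CommRing F] (hF : IsField F) : LocCoh.IsCohenMacaulayLocalRing F := by
  letI := hF.toField
  exact Groth.Agent.Lib.Helper5.GrpCM.cm_of_ringKrullDim_eq_zero F (ringKrullDim_eq_zero_of_field F)

theorem gor_of_isField (F : Type u) [CommRing F] (hF : IsField F) : LocCoh.IsGorensteinLocalRing F := by
  letI := hF.toField
  exact Groth.Agent.Lib.Helper5.GorRing.gorLocal_of_field F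

end Groth.Agent.Lib.Seat83.LocPFibre
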