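import Mathlib
import Groth.Agent.Lib.Helper5FiberBC
import Groth.Agent.Lib.Helper5FiberMor
import Groth.Agent.Lib.Seat83LocPFibre

/-!
# "Flat with `P` fibre local ring at a point" is étale local on source and target (seat 83)

For a property `P` of local rings satisfying the flat-local ascent/descent `FlatLocalIff`, invariance under
isomorphism, the field-base-change condition `FieldFibP`, true on fields and implying Noetherian (Cohen–Macaulay,
Gorenstein), the pointed property of morphisms of schemes

  `QP P h u := h is flat at u and the local ring at u of the fibre of h through u has P`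

is étale local on the source-and-target among morphisms whose fibres are locally Noetherian
(`qp_iff_of_etale_square`).
-/

set_option autoImplicit false
set_option linter.style.haveILetI false
universe u

open CategoryTheory CategoryTheory.Limits AlgebraicGeometry IsLocalRing

namespace Groth.Agent.Lib.Seat83.GorChart

open Groth.Agent.Lib.Helper5.FiberRing Groth.Agent.Lib.Helper5.FiberMor Groth.Agent.Lib.Helper5.FiberBC
  Groth.Agent.Lib.Helper5.FiberStalk Groth.Agent.Lib.Seat83.LocPFibre

/-- all fibres of `f` are locally Noetherian schemes. -/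
def FibNoeth : MorphismProperty Scheme.{u} := fun _ Y f => ∀ y : Y, IsLocallyNoetherian (f.fiber y)

/-- flat at `u` with fibre local ring at `u` having `P`. -/
def QP (P : ∀ (R : Type u) [CommRing R], Prop) {U V : Scheme.{u}} (h : U ⟶ V) (u : U) : Prop :=
  (h.stalkMap u).hom.Flat ∧ P ((h.fiber (h u)).presheaf.stalk (h.asFiber u))

variable {P : ∀ (R : Type u) [CommRing R], Prop}

theorem qp_congr_point {U V : Scheme.{u}} (h : U ⟶ V) {u u' : U} (e : u = u') (hq : QP P h u) : QP P h u' := by
  subst e; exact hq

theorem qp_congr_hom {U V : Scheme.{u}} {h h' : U ⟶ V} (e : h = h') (u : U) (hq : QP P h u) : QP P h' u := by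
  subst e; exact hq

/-- the fibres of `a ≫ h` are locally Noetherian when those of `h` are and `a` is locally of finite type. -/
theorem fibNoeth_comp {U' U V : Scheme.{u}} (a : U' ⟶ U) [LocallyOfFiniteType a] (h : U ⟶ V) (hh : FibNoeth h) :
    FibNoeth (a ≫ h) := by
  intro y
  have h0 : IsLocallyNoetherian (pullback h (V.fromSpecResidueField y)) := hh y
  change IsLocallyNoetherian (pullback (a ≫ h) (V.fromSpecResidueField y))
  have h1 : IsLocallyNoetherian (pullback a (pullback.fst h (V.fromSpecResidueField y))) :=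
    LocallyOfFiniteType.isLocallyNoetherian
      (pullback.snd a (pullback.fst h (V.fromSpecResidueField y)))
  exact isLocallyNoetherian_of_isOpenImmersion
    (pullbackRightPullbackFstIso h (V.fromSpecResidueField y) a).inv

/-- the fibre local rings of an étale morphism are fields. -/
theorem isField_fiber_stalk_of_etale {U V : Scheme.{u}} (e : U ⟶ V) [Etale e] (u : U) :
    IsField ((e.fiber (e u)).presheaf.stalk (e.asFiber u)) := by
  obtain ⟨eq⟩ := nonempty_stalk_asFiber_equiv e u
  exact eq.toMulEquiv.isField (isField_quotient_of_unramified e u)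

theorem qp_of_etale (hfield : ∀ (F : Type u) [CommRing F], IsField F → P F) {U V : Scheme.{u}} (e : U ⟶ V)
    [Etale e] (u : U) : QP P e u :=
  ⟨Flat.stalkMap e u, hfield _ (isField_fiber_stalk_of_etale e u)⟩

/-- **Étale locality on the source-and-target.**  For a commutative square `h' ≫ b = a ≫ h` with `a`, `b` étale and
the fibres of `h`, `h'` locally Noetherian: `h` has `QP P` at `a u'` iff `h'` has it at `u'`. -/
theorem qp_iff_of_etale_square (hP : FlatLocalIff P) (hPe : IsoInv P) (hF : FieldFibP P)
    (hfield : ∀ (F : Type u) [CommRing F], IsField F → P F)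
    (hPN : ∀ (R : Type u) [CommRing R], P R → IsNoetherianRing R)
    {U U' V V' : Scheme.{u}} (h : U ⟶ V) (h' : U' ⟶ V') (a : U' ⟶ U) (b : V' ⟶ V) [Etale a] [Etale b]
    (hh : FibNoeth h) (hh' : FibNoeth h') (w : h' ≫ b = a ≫ h) (u' : U') :
    QP P h (a u') ↔ QP P h' u' := by
  constructor
  · intro hq
    let ℓ : U' ⟶ pullback h b := pullback.lift a h' w.symm
    have hℓ1 : ℓ ≫ pullback.fst h b = a := pullback.lift_fst _ _ _
    have hℓ2 : ℓ ≫ pullback.snd h b = h' := pullback.lift_snd _ _ _
    haveI : Etale (ℓ ≫ pullback.fst h b) := by rw [hℓ1]; infer_instance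
    haveI : Etale ℓ := Etale.of_comp ℓ (pullback.fst h b)
    have hpt : (pullback.fst h b) (ℓ u') = a u' := by rw [← Scheme.Hom.comp_apply, hℓ1]
    have hq1 : QP P h ((pullback.fst h b) (ℓ u')) := qp_congr_point h hpt.symm hq
    have hsq : IsPullback (pullback.fst h b) (pullback.snd h b) h b := IsPullback.of_hasPullback h b
    haveI := hh (h ((pullback.fst h b) (ℓ u')))
    have key := fiber_stalk_baseChange_iff hP hPe hF hsq (ℓ u') (Or.inr inferInstance)
    have hq2 : QP P (pullback.snd h b) (ℓ u') :=
      ⟨flat_stalkMap_of_isPullback hsq (ℓ u') hq1.1, key.mpr hq1.2⟩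
    haveI : IsNoetherianRing (((pullback.snd h b).fiber ((pullback.snd h b) (ℓ u'))).presheaf.stalk
        ((pullback.snd h b).asFiber (ℓ u'))) := hPN _ hq2.2
    haveI : IsLocallyNoetherian ((ℓ ≫ pullback.snd h b).fiber ((ℓ ≫ pullback.snd h b) u')) := by
      rw [hℓ2]; exact hh' _
    have hfl : (ℓ.stalkMap u').hom.Flat := Flat.stalkMap ℓ u'
    have hq3 : QP P (ℓ ≫ pullback.snd h b) u' :=
      ⟨flat_comp ℓ _ u' hfl hq2.1,
        (comp_iff' ℓ (pullback.snd h b) u' hP hPe hfl).mpr ⟨hq2.2, (qp_of_etale hfield ℓ u').2⟩⟩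
    exact qp_congr_hom hℓ2 u' hq3
  · intro hq
    have hb : QP P b (h' u') := qp_of_etale hfield b (h' u')
    haveI : IsNoetherianRing ((b.fiber (b (h' u'))).presheaf.stalk (b.asFiber (h' u'))) := by
      letI := (isField_fiber_stalk_of_etale b (h' u')).toField
      infer_instance
    haveI : IsLocallyNoetherian ((h' ≫ b).fiber ((h' ≫ b) u')) := by
      rw [w]; exact fibNoeth_comp a h hh _
    have hq1 : QP P (h' ≫ b) u' :=
      ⟨flat_comp h' b u' hq.1 hb.1, (comp_iff' h' b u' hP hPe hq.1).mpr ⟨hb.2, hq.2⟩⟩
    have hq2 : QP P (a ≫ h) u' := qp_congr_hom w u' hq1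
    haveI := hh (h (a u'))
    haveI : IsLocallyNoetherian ((a ≫ h).fiber ((a ≫ h) u')) := fibNoeth_comp a h hh _
    have hfl : (a.stalkMap u').hom.Flat := Flat.stalkMap a u'
    exact ⟨flat_of_comp a h u' hq2.1 hfl, ((comp_iff' a h u' hP hPe hfl).mp hq2.2).1⟩

end Groth.Agent.Lib.Seat83.GorChart
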