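import Mathlib
import Groth.Agent.Lib.Seat83GorChart
import Groth.Agent.Lib.Seat45ChartsMor2
import Groth.Agent.Lib.Seat47FibChartSp
import Groth.Agent.Lib.Seat48FibreNoeth

/-!
# Pointed fibrewise properties of morphisms of algebraic spaces on chart diagrams (seat 83)

* `locP_fibNoeth`: if the fibres of `f : X ⟶ Y` over all field points are locally Noetherian algebraic spaces,
  then on every chart diagram `h : U ⟶ V` of `f` all scheme-theoretic fibres of `h` are locally Noetherian.
* `locPAt_qp_iff`: under that hypothesis, for `QP P` ("flat at the point with `P` fibre local ring", `P` = Cohen–Macaulay,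
  Gorenstein) the all-diagrams form `AlgSp.LocPAt` at the point of `u` can be tested on any single chart diagram through it.
-/

set_option autoImplicit false
set_option linter.style.haveILetI false
universe u

open CategoryTheory CategoryTheory.Limits AlgebraicGeometry IsLocalRing

namespace Groth.Agent.Lib.Seat83.GorChart

open Groth.Agent.Lib.Helper5.FiberRing Groth.Agent.Lib.Helper5.FiberMor Groth.Agent.Lib.Helper5.FiberBC
  Groth.Agent.Lib.Seat45.Charts Groth.Agent.Lib.Seat45.ChartsMor

variable {S : Scheme.{u}}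

/-- fibres over field points locally Noetherian ⟹ on every chart diagram the scheme-theoretic fibres are locally
Noetherian. -/
theorem locP_fibNoeth {X Y : AlgSp.Sp S} (hX : AlgSp.IsAlgSpace X) (hY : AlgSp.IsAlgSpace Y) (f : X ⟶ Y)
    (hf : ∀ (k : AlgSp.FieldPt Y) (Xk : AlgSp.Sp S) (a : Xk ⟶ X) (b : Xk ⟶ (AlgSp.yon S).obj k.pt),
        IsPullback a b f k.toHom → AlgSp.IsLocNoethSp Xk) :
    AlgSp.LocP FibNoeth f := by
  intro U V a b h ha hb hc v
  have hk : (AlgSp.FieldPt.ofPt b v).toHom =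
      (AlgSp.yon S).map (Over.homMk (V.left.fromSpecResidueField v) rfl) ≫ b :=
    AlgSp.FieldPt.toHom_ofPt b v
  have hpb := IsPullback.of_hasPullback f (AlgSp.FieldPt.ofPt b v).toHom
  have hN : AlgSp.IsLocNoethSp (pullback f (AlgSp.FieldPt.ofPt b v).toHom) := hf _ _ _ _ hpb
  let ι : (AlgSp.FieldPt.ofPt b v).pt ⟶ V := Over.homMk (V.left.fromSpecResidueField v) rfl
  have hU := IsPullback.of_hasPullback h ι
  obtain ⟨c, -, -, hce⟩ := Groth.Agent.Lib.Seat47.FibChartSp.exists_fibre_chart hX hY f a b h ha hb hc ι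
    (pullback.fst f (AlgSp.FieldPt.ofPt b v).toHom) (pullback.snd f (AlgSp.FieldPt.ofPt b v).toHom)
    (by rw [← hk]; exact hpb) (pullback.fst h ι) (pullback.snd h ι) hU
  have hloc : IsLocallyNoetherian (pullback h ι).left :=
    Groth.Agent.Lib.Seat48.FibreNoeth.isLocallyNoetherian_of_etale_chart hN c hce
  have hsch : IsPullback (pullback.fst h ι).left (pullback.snd h ι).left h.left
      (V.left.fromSpecResidueField v) := hU.map (Over.forget S)
  change IsLocallyNoetherian (pullback h.left (V.left.fromSpecResidueField v))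
  have e : (pullback h ι).left ≅ pullback h.left (V.left.fromSpecResidueField v) := hsch.isoPullback
  exact isLocallyNoetherian_of_isOpenImmersion e.inv

variable {P : ∀ (R : Type u) [CommRing R], Prop}

/-- `LocPAt` only depends on the pointed property up to pointwise equivalence. -/
theorem locPAt_congr {Q Q' : ∀ {U V : Scheme.{u}}, (U ⟶ V) → ↥U → Prop}
    (hQ : ∀ {U V : Scheme.{u}} (h : U ⟶ V) (u : ↥U), Q h u ↔ Q' h u) {F G : AlgSp.Sp S} (f : F ⟶ G)
    (x : AlgSp.Points F) : AlgSp.LocPAt Q f x ↔ AlgSp.LocPAt Q' f x :=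
  ⟨fun H _ _ a b h u ha hb hc hu => (hQ _ _).1 (H a b h u ha hb hc hu),
    fun H _ _ a b h u ha hb hc hu => (hQ _ _).2 (H a b h u ha hb hc hu)⟩

/-- Under locally Noetherian fibres, `QP P` at the point of `u` in the all-diagrams form can be tested on any one chart
diagram through `u`. -/
theorem locPAt_qp_ofPt_iff (hP : FlatLocalIff P) (hPe : IsoInv P) (hF : FieldFibP P)
    (hfield : ∀ (F : Type u) [CommRing F], IsField F → P F)
    (hPN : ∀ (R : Type u) [CommRing R], P R → IsNoetherianRing R)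
    {X Y : AlgSp.Sp S} (hX : AlgSp.IsAlgSpace X) (hY : AlgSp.IsAlgSpace Y) (f : X ⟶ Y)
    (hf : AlgSp.LocP FibNoeth f)
    {U V : Over S} (a : (AlgSp.yon S).obj U ⟶ X) (b : (AlgSp.yon S).obj V ⟶ Y) (h : U ⟶ V)
    (ha : AlgSp.RepWith @Etale a) (hb : AlgSp.RepWith @Etale b)
    (hc : a ≫ f = (AlgSp.yon S).map h ≫ b) (u : ↥U.left) :
    AlgSp.LocPAt (fun h u => QP P h u) f (AlgSp.Points.ofPt a u) ↔ QP P h.left u := by
  have hQ : ∀ {U U' V V' : Scheme.{u}} (h : U ⟶ V) (h' : U' ⟶ V') (a : U' ⟶ U) (b : V' ⟶ V)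
      [Etale a] [Etale b], FibNoeth h → FibNoeth h' → h' ≫ b = a ≫ h →
      ∀ u' : ↥U', (fun U V h u => QP P (U := U) (V := V) h u) U V h (a u') ↔
        (fun U V h u => QP P (U := U) (V := V) h u) U' V' h' u' :=
    fun h h' a b _ _ hh hh' w u' => qp_iff_of_etale_square hP hPe hF hfield hPN h h' a b hh hh' w u'
  have h1 := hasAtMor_ofPt_iff_of_locP FibNoeth (fun U V h u => QP P (U := U) (V := V) h u) hQ hX hY f hf
    a b h ha hb hc u
  have h2 := hasAtMor_iff_forall_of_locP FibNoeth (fun U V h u => QP P (U := U) (V := V) h u) hQ hX hY f hf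
    (AlgSp.Points.ofPt a u)
  rw [← h1, h2]
  exact ⟨fun H U V a b h u ha hb hc hu => H a b h u ha hb hc hu,
    fun H U V a b h u ha hb hc hu => H U V a b h u ha hb hc hu⟩

/-- The Gorenstein property of local rings. -/
abbrev PG : ∀ (R : Type u) [CommRing R], Prop := fun R _ => LocCoh.IsGorensteinLocalRing R

/-- Under locally Noetherian fibres, "Gorenstein at the point of `u`" in the all-diagrams form can be tested on any one
chart diagram through `u`. -/
theorem locPAt_gor_ofPt_iff {X Y : AlgSp.Sp S} (hX : AlgSp.IsAlgSpace X) (hY : AlgSp.IsAlgSpace Y) (f : X ⟶ Y)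
    (hf : AlgSp.LocP FibNoeth f)
    {U V : Over S} (a : (AlgSp.yon S).obj U ⟶ X) (b : (AlgSp.yon S).obj V ⟶ Y) (h : U ⟶ V)
    (ha : AlgSp.RepWith @Etale a) (hb : AlgSp.RepWith @Etale b)
    (hc : a ≫ f = (AlgSp.yon S).map h ≫ b) (u : ↥U.left) :
    AlgSp.LocPAt (fun h u => Dual3.IsGorensteinAt h u) f (AlgSp.Points.ofPt a u) ↔
      Dual3.IsGorensteinAt h.left u := by
  have := locPAt_qp_ofPt_iff (P := PG.{u}) flatLocalIff_gor isoInv_gor fieldFibP_gor
    (fun F _ hF => Groth.Agent.Lib.Seat83.LocPFibre.gor_of_isField F hF)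
    (fun R _ hR => hR.toIsNoetherian) hX hY f hf a b h ha hb hc u
  exact this

end Groth.Agent.Lib.Seat83.GorChart
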