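import Mathlib
import Groth.Agent.Lib.Seat83GorChartSp
import Groth.Agent.Lib.Helper3ShQuot
import Groth.Agent.Lib.Helper10WEtale
import Groth.Agent.Lib.Helper12Flat
import Groth.Agent.S0538
import Groth.Agent.S0539
import Groth.Agent.S0540
import Groth.Agent.S12237
import Groth.Agent.S0736

/-!
# Flatness and Gorenstein fibres through strict henselizations (seat 83)

For a local homomorphism `ψ : A → B` of local rings, strict henselizations `A'` of `A` and `B'` of `B` and a local
homomorphism `φ : A' → B'` over `ψ`: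
* `flat_iff_sh`: `ψ` is flat iff `φ` is flat;
* `gor_sh_iff`: when `B / m_A B` is Noetherian, (`ψ` flat and `B / m_A B` Gorenstein) iff (`φ` flat and `B' / m_{A'} B'`
  Gorenstein).
-/

set_option autoImplicit false
set_option linter.style.haveILetI false
universe u

open IsLocalRing

namespace Groth.Agent.Lib.Seat83.GorSh

open Groth.Agent.Lib.Helper5.FiberRing Groth.Agent.Lib.Helper5.FiberMor Groth.Agent.Lib.Seat83.GorChart
  Groth.Agent.Lib.Seat83.LocPFibre Groth.Agent.Lib.Helper5 Groth.Agent.Lib.Helper28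

variable {A B A' B' : Type u} [CommRing A] [CommRing B] [CommRing A'] [CommRing B']
  [IsLocalRing A] [IsLocalRing B] [IsLocalRing A'] [IsLocalRing B']
  [Algebra A A'] [IsLocalHom (algebraMap A A')] [Hensel.IsStrictHenselization A A']
  [Algebra B B'] [IsLocalHom (algebraMap B B')] [Hensel.IsStrictHenselization B B']
  (ψ : A →+* B) (φ : A' →+* B')

theorem flat_iff_sh (hφ : φ.comp (algebraMap A A') = (algebraMap B B').comp ψ) : ψ.Flat ↔ φ.Flat := by
  haveI : Module.FaithfullyFlat A A' := Groth.Agent.S0539.result A A'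
  haveI : Module.FaithfullyFlat B B' := Groth.Agent.S0539.result B B'
  have hα : (algebraMap A A').Flat := by
    rw [RingHom.flat_algebraMap_iff]; infer_instance
  have hβ : (algebraMap B B').Flat := by
    rw [RingHom.flat_algebraMap_iff]; infer_instance
  constructor
  · intro hψ
    have hcomp : (φ.comp (algebraMap A A')).Flat := by rw [hφ]; exact RingHom.Flat.comp hψ hβ
    letI := φ.toAlgebra
    letI : Algebra A B' := (φ.comp (algebraMap A A')).toAlgebra
    haveI : IsScalarTower A A' B' := IsScalarTower.of_algebraMap_eq (fun _ => rfl)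
    haveI : Module.Flat A B' := hcomp
    haveI : Algebra.WeaklyEtale A A' :=
      Groth.Agent.S0736.result A A' (Groth.Agent.S12237.result A A')
    exact Groth.Agent.Lib.Helper10.WEtale.flat_of_flat_lmul' A A' (Algebra.WeaklyEtale.flat_lmul' A A') B'
  · intro hφ'
    have hcomp : ((algebraMap B B').comp ψ).Flat := by rw [← hφ]; exact RingHom.Flat.comp hα hφ'
    letI := ψ.toAlgebra
    letI : Algebra A B' := ((algebraMap B B').comp ψ).toAlgebra
    haveI : IsScalarTower A B B' := IsScalarTower.of_algebraMap_eq (fun _ => rfl)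
    haveI : Module.Flat A B' := hcomp
    exact Groth.Agent.Lib.Helper12.flat_of_faithfullyFlat_of_flat_comp A B B'

theorem gor_sh_iff [IsLocalHom ψ] [IsLocalHom φ]
    (hφ : φ.comp (algebraMap A A') = (algebraMap B B').comp ψ)
    [IsNoetherianRing (B ⧸ (maximalIdeal A).map ψ)] :
    (ψ.Flat ∧ LocCoh.IsGorensteinLocalRing (B ⧸ (maximalIdeal A).map ψ)) ↔
      (φ.Flat ∧ LocCoh.IsGorensteinLocalRing (B' ⧸ (maximalIdeal A').map φ)) := by
  have hfl := flat_iff_sh ψ φ hφ
  have hI : (maximalIdeal A').map φ = ((maximalIdeal A).map ψ).map (algebraMap B B') := by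
    rw [← Groth.Agent.S0538.result A A', Ideal.map_map, hφ, ← Ideal.map_map]
  have hIne : (maximalIdeal A).map ψ ≠ ⊤ := (IsLocalRing.map_maximalIdeal_lt_top ψ).ne
  haveI : IsLocalRing (B ⧸ (maximalIdeal A).map ψ) := isLocalRing_quotient hIne
  have hJne := map_ne_top_of_isLocalHom (A := B) (A' := B') ((maximalIdeal A).map ψ) hIne
  haveI : IsLocalRing (B' ⧸ ((maximalIdeal A).map ψ).map (algebraMap B B')) := isLocalRing_quotient hJne
  haveI := isLocalHom_quotient_map (A := B) (A' := B') ((maximalIdeal A).map ψ)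
  haveI : Hensel.IsStrictHenselization (B ⧸ (maximalIdeal A).map ψ)
      (B' ⧸ ((maximalIdeal A).map ψ).map (algebraMap B B')) :=
    Groth.Agent.Lib.Helper3.ShQuot.isStrictHenselization_quotient ((maximalIdeal A).map ψ)
  haveI : IsNoetherianRing (B' ⧸ ((maximalIdeal A).map ψ).map (algebraMap B B')) :=
    (Groth.Agent.S0540.result (B ⧸ (maximalIdeal A).map ψ)
      (B' ⧸ ((maximalIdeal A).map ψ).map (algebraMap B B'))).mp inferInstance
  haveI : Module.FaithfullyFlat B B' := Groth.Agent.S0539.result B B'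
  have hβ : (algebraMap B B').Flat := by
    rw [RingHom.flat_algebraMap_iff]; infer_instance
  have key := comp_iff (P := PG.{u}) ψ (algebraMap B B') flatLocalIff_gor hβ
  have hres : PG (B' ⧸ (maximalIdeal B).map (algebraMap B B')) := by
    rw [Groth.Agent.S0538.result B B']
    exact gor_of_isField _
      ((Ideal.Quotient.maximal_ideal_iff_isField_quotient _).mp (maximalIdeal.isMaximal B'))
  have e : (B' ⧸ (maximalIdeal A').map φ) ≃+* (B' ⧸ ((maximalIdeal A).map ψ).map (algebraMap B B')) :=
    Ideal.quotEquivOfEq hI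
  constructor
  · rintro ⟨h1, h2⟩
    exact ⟨hfl.mp h1, isoInv_gor _ _ e.symm (key.mpr ⟨h2, hres⟩)⟩
  · rintro ⟨h1, h2⟩
    exact ⟨hfl.mpr h1, (key.mp (isoInv_gor _ _ e h2)).1⟩

end Groth.Agent.Lib.Seat83.GorSh
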