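import Mathlib
import Groth.Agent.Lib.Seat83GorChartSp

/-!
# Gorenstein schemes and étale morphisms; Gorenstein algebraic spaces on charts (seat 83)

* `gor_stalk_iff_of_etale`: along an étale morphism to a locally Noetherian scheme, local rings are Gorenstein
  simultaneously.
* `isGorenstein_of_etale`, `isGorenstein_of_etale_surjective`: ascent/descent of "Gorenstein scheme" along étale
  (surjective) morphisms.
* `isGorenstein_chart`: every scheme étale over an étale-locally Gorenstein sheaf is a Gorenstein scheme.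
-/

set_option autoImplicit false
set_option linter.style.haveILetI false
universe u

open CategoryTheory CategoryTheory.Limits AlgebraicGeometry IsLocalRing

namespace Groth.Agent.Lib.Seat83.GorSp

open Groth.Agent.Lib.Helper5.FiberRing Groth.Agent.Lib.Helper5.FiberMor Groth.Agent.Lib.Seat83.GorChart
  Groth.Agent.Lib.Seat83.LocPFibre

theorem gor_stalk_iff_of_etale {W V : Scheme.{u}} (g : W ⟶ V) [Etale g] [IsLocallyNoetherian V] (w : W) :
    LocCoh.IsGorensteinLocalRing (W.presheaf.stalk w) ↔ LocCoh.IsGorensteinLocalRing (V.presheaf.stalk (g w)) := by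
  haveI : IsLocallyNoetherian W := LocallyOfFiniteType.isLocallyNoetherian g
  have key := flat_iff (P := PG.{u}) g w flatLocalIff_gor isoInv_gor (Flat.stalkMap g w)
  have hfib : PG ((g.fiber (g w)).presheaf.stalk (g.asFiber w)) :=
    gor_of_isField _ (isField_fiber_stalk_of_etale g w)
  exact ⟨fun h => (key.mp h).1, fun h => key.mpr ⟨h, hfib⟩⟩

theorem isGorenstein_of_etale {W V : Scheme.{u}} (g : W ⟶ V) [Etale g] (hV : Dual3.IsGorenstein V) :
    Dual3.IsGorenstein W := by
  haveI := hV.1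
  exact ⟨LocallyOfFiniteType.isLocallyNoetherian g, fun w => (gor_stalk_iff_of_etale g w).mpr (hV.2 _)⟩

theorem isGorenstein_of_etale_surjective {W V : Scheme.{u}} (g : W ⟶ V) [Etale g] [Surjective g]
    (hW : Dual3.IsGorenstein W) : Dual3.IsGorenstein V := by
  haveI := hW.1
  haveI : IsLocallyNoetherian V :=
    Groth.Agent.Lib.Helper12.NoethDescent.isLocallyNoetherian_of_flat_lfp_surjective g
  refine ⟨inferInstance, fun v => ?_⟩
  obtain ⟨w, rfl⟩ := g.surjective v
  exact (gor_stalk_iff_of_etale g w).mp (hW.2 w)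

variable {S : Scheme.{u}}

/-- every scheme étale over an étale-locally Gorenstein sheaf is a Gorenstein scheme. -/
theorem isGorenstein_chart {F : AlgSp.Sp S} (hF : AlgSp.EtaleLocally Dual3.IsGorenstein F) {U : Over S}
    (a : (AlgSp.yon S).obj U ⟶ F) (ha : AlgSp.RepWith @Etale a) : Dual3.IsGorenstein U.left := by
  obtain ⟨W, p, hpe, hps, hW⟩ := hF
  have sq := hpe.rep.isPullback' a
  haveI : Etale (hpe.rep.snd a).left := hpe.property_snd a
  haveI : Surjective (hpe.rep.snd a).left := hps.2 a _ _ (hpe.rep.isPullback a)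
  haveI : Etale (hpe.rep.fst' a).left := ha.2 p _ _ sq.flip
  exact isGorenstein_of_etale_surjective (hpe.rep.snd a).left
    (isGorenstein_of_etale (hpe.rep.fst' a).left hW)

/-- the fibre of `h` over `v` is a Gorenstein scheme as soon as it is locally Noetherian and `h` is Gorenstein at every
point over `v`. -/
theorem isGorenstein_fiber {U V : Scheme.{u}} (h : U ⟶ V) (v : V) (hN : IsLocallyNoetherian (h.fiber v))
    (hG : ∀ u : U, h u = v → Dual3.IsGorensteinAt h u) : Dual3.IsGorenstein (h.fiber v) := by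
  refine ⟨hN, fun z => ?_⟩
  have hz : h (h.fiberι v z) = v := by
    have : h.fiberι v z ∈ Set.range (h.fiberι v) := ⟨z, rfl⟩
    rw [h.range_fiberι v] at this
    exact this
  obtain ⟨e⟩ := Groth.Agent.Lib.Helper5.FiberBC.fiber_stalk_transport h hz (h.asFiber (h.fiberι v z)) z
    (h.fiberι_asFiber _)
  exact isoInv_gor _ _ e (hG _ hz).2

/-- the fibre chart square: with the notation of `Seat47.FibChartSp.exists_fibre_chart`, the chart `c` of the fibre is
the base change of the canonical map `h_U ⟶ F ×_G h_W`. -/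
theorem exists_fibre_chart_sq {F G : AlgSp.Sp S} (φ : F ⟶ G) {U W : Over S} (a : (AlgSp.yon S).obj U ⟶ F)
    (q : (AlgSp.yon S).obj W ⟶ G) (g₀ : U ⟶ W) (hc : a ≫ φ = (AlgSp.yon S).map g₀ ≫ q)
    {T : Over S} (ι : T ⟶ W) {Fz : AlgSp.Sp S} (pF : Fz ⟶ F) (qF : Fz ⟶ (AlgSp.yon S).obj T)
    (hpb : IsPullback pF qF φ ((AlgSp.yon S).map ι ≫ q))
    {UT : Over S} (p₁ : UT ⟶ U) (p₂ : UT ⟶ T) (hU : IsPullback p₁ p₂ g₀ ι) :
    ∃ (c : (AlgSp.yon S).obj UT ⟶ Fz) (m : Fz ⟶ pullback φ q), c ≫ pF = (AlgSp.yon S).map p₁ ≫ a ∧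
      c ≫ qF = (AlgSp.yon S).map p₂ ∧
      IsPullback ((AlgSp.yon S).map p₁) c (pullback.lift a ((AlgSp.yon S).map g₀) hc) m := by
  let m : Fz ⟶ pullback φ q := pullback.lift pF (qF ≫ (AlgSp.yon S).map ι)
    (by rw [hpb.w, Category.assoc])
  have hm1 : m ≫ pullback.fst φ q = pF := pullback.lift_fst _ _ _
  have hm2 : m ≫ pullback.snd φ q = qF ≫ (AlgSp.yon S).map ι := pullback.lift_snd _ _ _
  have sqR : IsPullback m qF (pullback.snd φ q) ((AlgSp.yon S).map ι) := by
    refine IsPullback.of_right ?_ hm2 (IsPullback.of_hasPullback φ q)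
    rw [hm1]
    exact hpb
  have hw : ((AlgSp.yon S).map p₁ ≫ a) ≫ φ = (AlgSp.yon S).map p₂ ≫ (AlgSp.yon S).map ι ≫ q := by
    rw [Category.assoc, hc, ← Category.assoc, ← Functor.map_comp, hU.w, Functor.map_comp,
      Category.assoc]
  refine ⟨hpb.lift _ _ hw, m, hpb.lift_fst _ _ hw, hpb.lift_snd _ _ hw, ?_⟩
  refine IsPullback.of_bot ?_ ?_ sqR
  · rw [hpb.lift_snd, pullback.lift_snd]
    exact hU.map (AlgSp.yon S)
  · apply pullback.hom_ext
    · rw [Category.assoc, Category.assoc, pullback.lift_fst, hm1, hpb.lift_fst]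
    · rw [Category.assoc, Category.assoc, pullback.lift_snd, hm2, ← Category.assoc, hpb.lift_snd,
        ← Functor.map_comp, ← Functor.map_comp, hU.w]

end Groth.Agent.Lib.Seat83.GorSp
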