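-- helper83 (seat 83): linear-algebra preliminaries for the freeness of a finite commutative Hopf
-- algebra over its coinvariants.
import Mathlib
import Groth.Agent.Lib.Helper25Shear

set_option autoImplicit false
universe u v w

namespace Groth.Agent.Lib.Seat83.HopfFree

open TensorProduct

section Avoid

variable {k : Type*} {V : Type*} {W : Type*} [Field k] [Infinite k] [AddCommGroup V] [Module k V]
  [AddCommGroup W] [Module k W]

/-- Finitely many surjections `V → W` admit a common tuple of vectors whose images are linearly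
independent under each of them. -/
theorem exists_tuple_linearIndependent (Φ : Finset (V →ₗ[k] W))
    (hΦ : ∀ φ ∈ Φ, Function.Surjective φ) :
    ∀ j : ℕ, j ≤ Module.finrank k W →
      ∃ a : Fin j → V, ∀ φ ∈ Φ, LinearIndependent k (fun i => φ (a i)) := by
  classical
  intro j
  induction j with
  | zero =>
    intro _
    exact ⟨fun i => i.elim0, fun φ _ => linearIndependent_empty_type⟩
  | succ j ih =>
    intro hj
    obtain ⟨a, ha⟩ := ih (Nat.le_of_succ_le hj)
    let s : Finset (Subspace k V) :=
      Φ.image (fun φ => (Submodule.span k (Set.range (fun i => φ (a i)))).comap φ)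
    have hs : (⊤ : Subspace k V) ∉ s := by
      intro htop
      obtain ⟨φ, hφ, hφtop⟩ := Finset.mem_image.mp htop
      have hspan : Submodule.span k (Set.range (fun i => φ (a i))) = ⊤ := by
        rw [eq_top_iff]
        intro w _
        obtain ⟨v, rfl⟩ := hΦ φ hφ w
        have : v ∈ (Submodule.span k (Set.range (fun i => φ (a i)))).comap φ := by
          rw [hφtop]; trivial
        exact this
      have h1 : Module.finrank k W ≤ j := by
        have h2 := finrank_range_le_card (R := k) (b := fun i => φ (a i))
        rw [Set.finrank, hspan, finrank_top, Fintype.card_fin] at h2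
        exact h2
      omega
    have hne := Subspace.biUnion_ne_univ_of_top_notMem hs
    obtain ⟨v, hv⟩ : ∃ v : V, v ∉ ⋃ p ∈ s, (p : Set V) := by
      by_contra hcon
      exact hne (Set.eq_univ_of_forall fun v => by_contra fun hv => hcon ⟨v, hv⟩)
    refine ⟨Fin.snoc a v, fun φ hφ => ?_⟩
    have hfun : (fun i => φ ((Fin.snoc a v : Fin (j + 1) → V) i)) =
        (Fin.snoc (fun i => φ (a i)) (φ v) : Fin (j + 1) → W) := by
      funext i
      refine Fin.lastCases ?_ (fun i => ?_) i
      · simp
      · simp
    rw [hfun]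
    refine LinearIndependent.finSnoc (ha φ hφ) ?_
    intro hmem
    apply hv
    simp only [Set.mem_iUnion]
    exact ⟨_, Finset.mem_image.mpr ⟨φ, hφ, rfl⟩, hmem⟩

end Avoid

section Units

variable {k : Type u} {A : Type v} [Field k] [IsAlgClosed k] [CommRing A] [Algebra k A]
  [Module.Finite k A]

/-- In a finite algebra over an algebraically closed field, an element on which no character
vanishes is a unit. -/
theorem isUnit_of_forall_algHom_ne_zero (x : A) (h : ∀ χ : A →ₐ[k] k, χ x ≠ 0) : IsUnit x := by
  by_contra hx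
  obtain ⟨m, hm, hxm⟩ := exists_max_ideal_of_mem_nonunits hx
  let _ : Field (A ⧸ m) := Ideal.Quotient.field m
  have : Module.Finite k (A ⧸ m) :=
    Module.Finite.of_surjective (Ideal.Quotient.mkₐ k m).toLinearMap
      (Ideal.Quotient.mkₐ_surjective k m)
  have : Algebra.IsIntegral k (A ⧸ m) := Algebra.IsIntegral.of_finite k (A ⧸ m)
  have hbij : Function.Bijective (algebraMap k (A ⧸ m)) :=
    IsAlgClosed.algebraMap_bijective_of_isIntegral
  let e : k ≃ₐ[k] (A ⧸ m) := AlgEquiv.ofBijective (Algebra.ofId k (A ⧸ m)) hbij
  let χ : A →ₐ[k] k := (e.symm : (A ⧸ m) →ₐ[k] k).comp (Ideal.Quotient.mkₐ k m)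
  apply h χ
  have : (Ideal.Quotient.mkₐ k m) x = 0 := by
    rw [Ideal.Quotient.mkₐ_eq_mk]
    exact Ideal.Quotient.eq_zero_iff_mem.mpr hxm
  change e.symm ((Ideal.Quotient.mkₐ k m) x) = 0
  rw [this, map_zero]

end Units

section Coord

variable {k : Type u} [CommRing k] {A : Type v} {T : Type w} [CommRing A] [Algebra k A]
  [CommRing T] [Algebra k T] {R : Type*} [CommRing R] [Algebra k R]
  {ι : Type*} (r : Module.Basis ι k R)

/-- Coordinates of a base-changed tensor. -/
theorem basis_repr_map (φ : A →ₐ[k] T) (x : A ⊗[k] R) (j : ι) :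
    (Algebra.TensorProduct.basis T r).repr
        ((Algebra.TensorProduct.map φ (AlgHom.id k R)) x) j =
      φ ((Algebra.TensorProduct.basis A r).repr x j) := by
  induction x using TensorProduct.induction_on with
  | zero => simp
  | add x y hx hy => simp only [map_add, Finsupp.add_apply, hx, hy]
  | tmul a m =>
    simp only [Algebra.TensorProduct.map_tmul, AlgHom.coe_id, id_eq,
      Algebra.TensorProduct.basis_repr_tmul, Finsupp.smul_apply, Finsupp.mapRange_apply,
      smul_eq_mul, map_mul, AlgHom.commutes]

/-- Determinants of base-changed families. -/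
theorem basis_det_map [Fintype ι] [DecidableEq ι] (φ : A →ₐ[k] T) (v : ι → A ⊗[k] R) :
    (Algebra.TensorProduct.basis T r).det
        (fun i => (Algebra.TensorProduct.map φ (AlgHom.id k R)) (v i)) =
      φ ((Algebra.TensorProduct.basis A r).det v) := by
  rw [Module.Basis.det_apply, Module.Basis.det_apply, AlgHom.map_det]
  congr 1
  ext i j
  simp only [Module.Basis.toMatrix_apply, AlgHom.mapMatrix_apply, Matrix.map_apply]
  exact basis_repr_map r φ (v j) i

end Coord

section Indep

variable {k : Type u} [CommRing k] {A : Type v} {T : Type w} [CommRing A] [Algebra k A]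
  [CommRing T] [Algebra k T] {R : Type*} [CommRing R] [Algebra k R]

theorem smul_eq_tmul_one_mul (c : A) (y : A ⊗[k] R) : c • y = (c ⊗ₜ[k] (1 : R)) * y := by
  induction y using TensorProduct.induction_on with
  | zero => simp
  | add x y hx hy => rw [smul_add, hx, hy, mul_add]
  | tmul t b =>
    rw [Algebra.TensorProduct.tmul_mul_tmul, one_mul, TensorProduct.smul_tmul', smul_eq_mul]

variable {n : ℕ} (r : Module.Basis (Fin n) k R)

/-- A family with unit determinant stays independent after base change, in multiplicative form. -/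
theorem indep_map_of_isUnit_det (φ : A →ₐ[k] T) (v : Fin n → A ⊗[k] R)
    (hv : IsUnit ((Algebra.TensorProduct.basis A r).det v)) (c : Fin n → T)
    (hc : ∑ i, (c i ⊗ₜ[k] (1 : R)) * (Algebra.TensorProduct.map φ (AlgHom.id k R)) (v i) = 0)
    (i : Fin n) : c i = 0 := by
  have hu : IsUnit ((Algebra.TensorProduct.basis T r).det
      (fun i => (Algebra.TensorProduct.map φ (AlgHom.id k R)) (v i))) := by
    rw [basis_det_map]
    exact hv.map φ
  have hli := ((Module.Basis.is_basis_iff_det _).mpr hu).1
  refine Fintype.linearIndependent_iff.mp hli c (Eq.trans ?_ hc) i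
  exact Finset.sum_congr rfl (fun j _ => smul_eq_tmul_one_mul _ _)

/-- A family with unit determinant is independent, in multiplicative form. -/
theorem indep_of_isUnit_det (v : Fin n → A ⊗[k] R)
    (hv : IsUnit ((Algebra.TensorProduct.basis A r).det v)) (c : Fin n → A)
    (hc : ∑ i, (c i ⊗ₜ[k] (1 : R)) * v i = 0) (i : Fin n) : c i = 0 := by
  have hli := ((Module.Basis.is_basis_iff_det _).mpr hv).1
  refine Fintype.linearIndependent_iff.mp hli c (Eq.trans ?_ hc) i
  exact Finset.sum_congr rfl (fun j _ => smul_eq_tmul_one_mul _ _)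

/-- A family with unit determinant spans, in multiplicative form. -/
theorem span_of_isUnit_det (v : Fin n → A ⊗[k] R)
    (hv : IsUnit ((Algebra.TensorProduct.basis A r).det v)) (y : A ⊗[k] R) :
    ∃ c : Fin n → A, y = ∑ i, (c i ⊗ₜ[k] (1 : R)) * v i := by
  have hb := (Module.Basis.is_basis_iff_det (Algebra.TensorProduct.basis A r)).mpr hv
  let 𝔟 : Module.Basis (Fin n) A (A ⊗[k] R) := Module.Basis.mk hb.1 hb.2.ge
  refine ⟨fun i => 𝔟.repr y i, ?_⟩
  conv_lhs => rw [← 𝔟.sum_repr y]
  refine Finset.sum_congr rfl (fun i _ => ?_)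
  rw [Module.Basis.mk_apply, smul_eq_tmul_one_mul]

end Indep

end Groth.Agent.Lib.Seat83.HopfFree
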