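-- helper83 (seat 83): a finite commutative Hopf algebra over an algebraically closed field is free
-- over the coinvariants of a Hopf ideal, of rank the dimension of the quotient.
import Groth.Agent.Lib.Seat83HopfFree1

set_option autoImplicit false
universe u v w

namespace Groth.Agent.Lib.Seat83.HopfFree

open TensorProduct WithConv Groth.Agent.Lib.Helper25

section General

variable {k : Type u} [CommRing k] {A : Type v} [CommRing A] [HopfAlgebra k A]
variable (I : Ideal A) [I.IsHopfIdeal k]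
variable {T : Type w} [CommRing T] [Algebra k T]

/-- The algebra map `A ⊗ A/I → T` attached to a pair of points `(g, m)` with `m` killing `I`. -/
noncomputable def pairMap (g m : WithConv (A →ₐ[k] T)) (hm : Kills I m) :
    A ⊗[k] (A ⧸ I) →ₐ[k] T :=
  Algebra.TensorProduct.lift g.ofConv (Ideal.Quotient.liftₐ I m.ofConv hm) (fun _ _ => .all ..)

theorem pairMap_tmul (g m : WithConv (A →ₐ[k] T)) (hm : Kills I m) (a b : A) :
    pairMap I g m hm (a ⊗ₜ[k] (Ideal.Quotient.mk I b)) = g.ofConv a * m.ofConv b := by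
  simp only [pairMap, Algebra.TensorProduct.lift_tmul]
  rfl

theorem pairMap_tmul_one (g m : WithConv (A →ₐ[k] T)) (hm : Kills I m) (a : A) :
    pairMap I g m hm (a ⊗ₜ[k] (1 : A ⧸ I)) = g.ofConv a := by
  simp [pairMap]

theorem pairMap_comp_rhoR (g m : WithConv (A →ₐ[k] T)) (hm : Kills I m) :
    (pairMap I g m hm).comp (rhoR k I) = (g * m).ofConv := by
  rw [← univ_convMul_eq_rhoR]
  have h : toConv ((pairMap I g m hm).comp
      ((toConv (Algebra.TensorProduct.includeLeft : A →ₐ[k] A ⊗[k] (A ⧸ I)) *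
        toConv ((Algebra.TensorProduct.includeRight : (A ⧸ I) →ₐ[k] A ⊗[k] (A ⧸ I)).comp
        (Ideal.Quotient.mkₐ k I))).ofConv)) =
      toConv ((pairMap I g m hm).comp
        (Algebra.TensorProduct.includeLeft : A →ₐ[k] A ⊗[k] (A ⧸ I))) *
      toConv ((pairMap I g m hm).comp
        ((Algebra.TensorProduct.includeRight : (A ⧸ I) →ₐ[k] A ⊗[k] (A ⧸ I)).comp
        (Ideal.Quotient.mkₐ k I))) := comp_convMul (pairMap I g m hm)
    (toConv (Algebra.TensorProduct.includeLeft : A →ₐ[k] A ⊗[k] (A ⧸ I)))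
    (toConv ((Algebra.TensorProduct.includeRight : (A ⧸ I) →ₐ[k] A ⊗[k] (A ⧸ I)).comp
        (Ideal.Quotient.mkₐ k I)))
  have h1 : (pairMap I g m hm).comp
      (Algebra.TensorProduct.includeLeft : A →ₐ[k] A ⊗[k] (A ⧸ I)) = g.ofConv := by
    apply AlgHom.ext; intro a; simp [pairMap]
  have h2 : (pairMap I g m hm).comp
      ((Algebra.TensorProduct.includeRight : (A ⧸ I) →ₐ[k] A ⊗[k] (A ⧸ I)).comp
        (Ideal.Quotient.mkₐ k I)) = m.ofConv := by
    apply AlgHom.ext; intro a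
    simp only [pairMap, AlgHom.comp_apply, Algebra.TensorProduct.includeRight_apply,
      Algebra.TensorProduct.lift_tmul, map_one, one_mul, Ideal.Quotient.mkₐ_eq_mk]
    rfl
  rw [h1, h2, toConv_ofConv, toConv_ofConv] at h
  exact congrArg ofConv h

theorem pairMap_rhoR (g m : WithConv (A →ₐ[k] T)) (hm : Kills I m) (a : A) :
    pairMap I g m hm (rhoR k I a) = (g * m).ofConv a := by
  rw [← pairMap_comp_rhoR I g m hm]; rfl

/-- The coaction is injective. -/
theorem rhoR_injective : Function.Injective (rhoR k I) := by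
  intro a b hab
  have h := pairMap_rhoR I (toConv (AlgHom.id k A)) 1 (Kills.one I)
  have ha := h a
  have hb := h b
  rw [mul_one] at ha hb
  have ha' : pairMap I (toConv (AlgHom.id k A)) 1 (Kills.one I) (rhoR k I a) = a := ha
  have hb' : pairMap I (toConv (AlgHom.id k A)) 1 (Kills.one I) (rhoR k I b) = b := hb
  rw [← ha', ← hb', hab]

/-- A point factoring through the quotient kills the ideal. -/
theorem kills_comp_mk (j : (A ⧸ I) →ₐ[k] T) :
    Kills I (toConv (j.comp (Ideal.Quotient.mkₐ k I)) : WithConv (A →ₐ[k] T)) := by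
  intro c hc
  change j (Ideal.Quotient.mk I c) = 0
  rw [Ideal.Quotient.eq_zero_iff_mem.mpr hc, map_zero]

/-- Abstract form of the coinvariance of coefficients. -/
theorem coeff_coinv_aux (incl : A ⊗[k] (A ⧸ I) →ₐ[k] T) (j : (A ⧸ I) →ₐ[k] T)
    {n : ℕ} (a : Fin n → A)
    (hX : ∀ c : Fin n → A ⊗[k] (A ⧸ I),
      ∑ i, incl (c i) * pairMap I (toConv (incl.comp (rhoR k I)))
        (toConv (j.comp (Ideal.Quotient.mkₐ k I))) (kills_comp_mk I j) (rhoR k I (a i)) = 0 →
      ∀ i, c i = 0)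
    (x : A) (b : Fin n → A)
    (hx : rhoR k I x = ∑ i, (b i ⊗ₜ[k] (1 : A ⧸ I)) * rhoR k I (a i)) (i : Fin n) :
    b i ∈ coinvSub k I := by
  let g₀ : A →ₐ[k] A ⊗[k] (A ⧸ I) := Algebra.TensorProduct.includeLeft
  let n₀ : A →ₐ[k] A ⊗[k] (A ⧸ I) :=
    (Algebra.TensorProduct.includeRight : (A ⧸ I) →ₐ[k] A ⊗[k] (A ⧸ I)).comp
      (Ideal.Quotient.mkₐ k I)
  let g₁ : WithConv (A →ₐ[k] T) := toConv (incl.comp g₀)
  let n₁ : WithConv (A →ₐ[k] T) := toConv (incl.comp n₀)
  let n' : WithConv (A →ₐ[k] T) := toConv (j.comp (Ideal.Quotient.mkₐ k I))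
  have hn₁ : Kills I n₁ :=
    kills_comp_mk I (incl.comp (Algebra.TensorProduct.includeRight :
      (A ⧸ I) →ₐ[k] A ⊗[k] (A ⧸ I)))
  have hn' : Kills I n' := kills_comp_mk I j
  have hgn : g₁ * n₁ = toConv (incl.comp (rhoR k I)) := by
    have h : toConv (incl.comp
        (toConv g₀ * toConv n₀ : WithConv (A →ₐ[k] A ⊗[k] (A ⧸ I))).ofConv) = g₁ * n₁ :=
      comp_convMul incl (toConv g₀) (toConv n₀)
    rw [← h, univ_convMul_eq_rhoR]
  let ψ₁ := pairMap I (toConv (incl.comp (rhoR k I))) n' hn'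
  let ψ₂ := pairMap I g₁ (n₁ * n') (Kills.mul I hn₁ hn')
  have e₁ : ψ₁ (rhoR k I x) = ∑ l, incl (rhoR k I (b l)) * ψ₁ (rhoR k I (a l)) := by
    rw [hx, map_sum]
    refine Finset.sum_congr rfl (fun l _ => ?_)
    rw [map_mul, pairMap_tmul_one]
    rfl
  have e₂ : ψ₂ (rhoR k I x) =
      ∑ l, incl (b l ⊗ₜ[k] (1 : A ⧸ I)) * ψ₂ (rhoR k I (a l)) := by
    rw [hx, map_sum]
    refine Finset.sum_congr rfl (fun l _ => ?_)
    rw [map_mul, pairMap_tmul_one]
    rfl
  have e₁₂ : ∀ y : A, ψ₂ (rhoR k I y) = ψ₁ (rhoR k I y) := by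
    intro y
    rw [pairMap_rhoR, pairMap_rhoR, ← hgn, mul_assoc]
  rw [e₁₂ x, e₁] at e₂
  have hsum : ∑ l, incl (rhoR k I (b l) - b l ⊗ₜ[k] (1 : A ⧸ I)) * ψ₁ (rhoR k I (a l)) = 0 := by
    have : ∀ l, incl (rhoR k I (b l) - b l ⊗ₜ[k] (1 : A ⧸ I)) * ψ₁ (rhoR k I (a l)) =
        incl (rhoR k I (b l)) * ψ₁ (rhoR k I (a l)) -
          incl (b l ⊗ₜ[k] (1 : A ⧸ I)) * ψ₂ (rhoR k I (a l)) := by
      intro l
      rw [e₁₂, map_sub, sub_mul]
    rw [Finset.sum_congr rfl (fun l _ => this l), Finset.sum_sub_distrib, e₂, sub_self]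
  have hzero := hX _ hsum i
  have hfin : rhoR k I (b i) =
      (Algebra.TensorProduct.includeLeft : A →ₐ[k] A ⊗[k] (A ⧸ I)) (b i) := sub_eq_zero.mp hzero
  exact hfin

end General

section Main

variable {k : Type u} [Field k] [IsAlgClosed k] {A : Type v} [CommRing A] [HopfAlgebra k A]
  [Module.Finite k A] (I : Ideal A) [I.IsHopfIdeal k]

omit [IsAlgClosed k] in
theorem shear_surjective : Function.Surjective (shear (k := k) (A := A)) := by
  have hinj : Function.Injective (shear (k := k) (A := A)) :=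
    Function.LeftInverse.injective shearInv_shear
  exact (LinearMap.injective_iff_surjective
    (f := (shear (k := k) (A := A)).toLinearMap)).mp hinj

variable (k) in
/-- `a ⊗ a' ↦ (a ⊗ 1) ρ(a')`. -/
noncomputable def Psi : A ⊗[k] A →ₐ[k] A ⊗[k] (A ⧸ I) :=
  Algebra.TensorProduct.lift (Algebra.TensorProduct.includeLeft : A →ₐ[k] A ⊗[k] (A ⧸ I))
    (rhoR k I) (fun _ _ => .all ..)

omit [IsAlgClosed k] [Module.Finite k A] in
theorem Psi_tmul (a b : A) : Psi k I (a ⊗ₜ[k] b) = (a ⊗ₜ[k] (1 : A ⧸ I)) * rhoR k I b := by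
  simp [Psi]

omit [IsAlgClosed k] [Module.Finite k A] in
theorem Psi_eq : Psi k I =
    (Algebra.TensorProduct.map (AlgHom.id k A) (Ideal.Quotient.mkₐ k I)).comp
      (shear (k := k) (A := A)) := by
  apply Algebra.TensorProduct.ext'
  intro a b
  rw [Psi_tmul, AlgHom.comp_apply, shear_tmul, map_mul]
  rfl

omit [IsAlgClosed k] in
theorem Psi_surjective : Function.Surjective (Psi k I) := by
  rw [Psi_eq, AlgHom.coe_comp]
  refine Function.Surjective.comp ?_ (shear_surjective (k := k) (A := A))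
  intro y
  induction y using TensorProduct.induction_on with
  | zero => exact ⟨0, map_zero _⟩
  | add x y hx hy =>
    obtain ⟨x', rfl⟩ := hx
    obtain ⟨y', rfl⟩ := hy
    exact ⟨x' + y', map_add _ _ _⟩
  | tmul a b =>
    obtain ⟨b', rfl⟩ := Ideal.Quotient.mk_surjective b
    exact ⟨a ⊗ₜ[k] b', rfl⟩

omit [IsAlgClosed k] [HopfAlgebra k A] [Module.Finite k A] in
theorem tmul_one_mul_eq_smul {R : Type*} [CommRing R] [Algebra k R] (s : k) (y : k ⊗[k] R) :
    (s ⊗ₜ[k] (1 : R)) * y = s • y := by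
  induction y using TensorProduct.induction_on with
  | zero => simp
  | add x y hx hy => rw [mul_add, hx, hy, smul_add]
  | tmul t b =>
    rw [Algebra.TensorProduct.tmul_mul_tmul, one_mul, TensorProduct.smul_tmul', smul_eq_mul]

/-- The coaction followed by evaluation of the first factor at a character. -/
noncomputable def charMap (χ : A →ₐ[k] k) : A →ₗ[k] k ⊗[k] (A ⧸ I) :=
  (Algebra.TensorProduct.map χ (AlgHom.id k (A ⧸ I))).toLinearMap ∘ₗ (rhoR k I).toLinearMap

omit [IsAlgClosed k] [Module.Finite k A] in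
theorem charMap_apply (χ : A →ₐ[k] k) (a : A) :
    charMap I χ a = (Algebra.TensorProduct.map χ (AlgHom.id k (A ⧸ I))) (rhoR k I a) := rfl

omit [IsAlgClosed k] in
theorem charMap_surjective (χ : A →ₐ[k] k) : Function.Surjective (charMap I χ) := by
  intro w
  -- `map χ id` is surjective
  have h1 : ∃ y : A ⊗[k] (A ⧸ I),
      (Algebra.TensorProduct.map χ (AlgHom.id k (A ⧸ I))) y = w := by
    induction w using TensorProduct.induction_on with
    | zero => exact ⟨0, map_zero _⟩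
    | add x y hx hy =>
      obtain ⟨x', rfl⟩ := hx
      obtain ⟨y', rfl⟩ := hy
      exact ⟨x' + y', map_add _ _ _⟩
    | tmul s b =>
      refine ⟨algebraMap k A s ⊗ₜ[k] b, ?_⟩
      simp
  obtain ⟨y, rfl⟩ := h1
  obtain ⟨z, rfl⟩ := Psi_surjective (k := k) I y
  induction z using TensorProduct.induction_on with
  | zero => exact ⟨0, by simp⟩
  | add x y hx hy =>
    obtain ⟨x', hx'⟩ := hx
    obtain ⟨y', hy'⟩ := hy
    exact ⟨x' + y', by rw [map_add, hx', hy', map_add, map_add]⟩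
  | tmul c d =>
    refine ⟨χ c • d, ?_⟩
    rw [map_smul, charMap_apply, Psi_tmul, map_mul, Algebra.TensorProduct.map_tmul, map_one,
      tmul_one_mul_eq_smul]

theorem exists_tuple {n : ℕ} (r : Module.Basis (Fin n) k (A ⧸ I)) :
    ∃ a : Fin n → A,
      IsUnit ((Algebra.TensorProduct.basis A r).det (fun i => rhoR k I (a i))) := by
  classical
  have hfin : Module.finrank k (k ⊗[k] (A ⧸ I)) = n := by
    rw [Module.finrank_eq_card_basis (Algebra.TensorProduct.basis k r), Fintype.card_fin]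
  have : Fintype (A →ₐ[k] k) := Fintype.ofFinite _
  have hsurj : ∀ φ ∈ (Finset.univ : Finset (A →ₐ[k] k)).image (charMap I),
      Function.Surjective φ := by
    intro φ hφ
    obtain ⟨χ, -, rfl⟩ := Finset.mem_image.mp hφ
    exact charMap_surjective I χ
  obtain ⟨a, ha⟩ := exists_tuple_linearIndependent
    ((Finset.univ : Finset (A →ₐ[k] k)).image (charMap I)) hsurj n (le_of_eq hfin.symm)
  refine ⟨a, isUnit_of_forall_algHom_ne_zero (k := k) _ (fun χ => ?_)⟩
  rw [← basis_det_map r χ (fun i => rhoR k I (a i))]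
  have hli : LinearIndependent k (fun i => charMap I χ (a i)) :=
    ha _ (Finset.mem_image.mpr ⟨χ, Finset.mem_univ _, rfl⟩)
  have hspan := hli.span_eq_top_of_card_eq_finrank' (by rw [Fintype.card_fin, hfin])
  exact ((Module.Basis.is_basis_iff_det (Algebra.TensorProduct.basis k r)).mp ⟨hli, hspan⟩).ne_zero

omit [IsAlgClosed k] [Module.Finite k A] in
theorem pairMap_incl_eq_map :
    pairMap (k := k) (T := (A ⊗[k] (A ⧸ I)) ⊗[k] (A ⧸ I)) I
        (toConv ((Algebra.TensorProduct.includeLeft :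
          A ⊗[k] (A ⧸ I) →ₐ[k] (A ⊗[k] (A ⧸ I)) ⊗[k] (A ⧸ I)).comp (rhoR k I)))
        (toConv ((Algebra.TensorProduct.includeRight :
          (A ⧸ I) →ₐ[k] (A ⊗[k] (A ⧸ I)) ⊗[k] (A ⧸ I)).comp (Ideal.Quotient.mkₐ k I)))
        (kills_comp_mk (k := k) I _) =
      Algebra.TensorProduct.map (rhoR k I) (AlgHom.id k (A ⧸ I)) := by
  apply Algebra.TensorProduct.ext'
  intro c d
  obtain ⟨d', rfl⟩ := Ideal.Quotient.mk_surjective d
  rw [pairMap_tmul, Algebra.TensorProduct.map_tmul]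
  change (rhoR k I c ⊗ₜ[k] (1 : A ⧸ I)) *
    ((1 : A ⊗[k] (A ⧸ I)) ⊗ₜ[k] Ideal.Quotient.mk I d') = _
  rw [Algebra.TensorProduct.tmul_mul_tmul, mul_one, one_mul]
  rfl

omit [IsAlgClosed k] [Module.Finite k A] in
/-- Coefficients of `ρ(x)` with respect to a family `ρ(a i)` whose double coaction is linearly
independent are coinvariant. -/
theorem coeff_mem_coinvSub {n : ℕ} (a : Fin n → A)
    (hX : ∀ c : Fin n → A ⊗[k] (A ⧸ I),
      ∑ i, (c i ⊗ₜ[k] (1 : A ⧸ I)) *
        (Algebra.TensorProduct.map (rhoR k I) (AlgHom.id k (A ⧸ I))) (rhoR k I (a i)) = 0 →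
      ∀ i, c i = 0)
    (x : A) (b : Fin n → A)
    (hx : rhoR k I x = ∑ i, (b i ⊗ₜ[k] (1 : A ⧸ I)) * rhoR k I (a i)) (i : Fin n) :
    b i ∈ coinvSub k I := by
  have hind : ∀ c : Fin n → A ⊗[k] (A ⧸ I),
      ∑ i, (Algebra.TensorProduct.includeLeft :
          A ⊗[k] (A ⧸ I) →ₐ[k] (A ⊗[k] (A ⧸ I)) ⊗[k] (A ⧸ I)) (c i) *
        pairMap (k := k) (T := (A ⊗[k] (A ⧸ I)) ⊗[k] (A ⧸ I)) I
          (toConv ((Algebra.TensorProduct.includeLeft :
            A ⊗[k] (A ⧸ I) →ₐ[k] (A ⊗[k] (A ⧸ I)) ⊗[k] (A ⧸ I)).comp (rhoR k I)))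
          (toConv ((Algebra.TensorProduct.includeRight :
            (A ⧸ I) →ₐ[k] (A ⊗[k] (A ⧸ I)) ⊗[k] (A ⧸ I)).comp (Ideal.Quotient.mkₐ k I)))
          (kills_comp_mk (k := k) I _) (rhoR k I (a i)) = 0 →
      ∀ i, c i = 0 := by
    intro c hc j
    rw [pairMap_incl_eq_map] at hc
    exact hX c hc j
  exact coeff_coinv_aux (k := k) I
    (T := (A ⊗[k] (A ⧸ I)) ⊗[k] (A ⧸ I))
    (Algebra.TensorProduct.includeLeft : A ⊗[k] (A ⧸ I) →ₐ[k] (A ⊗[k] (A ⧸ I)) ⊗[k] (A ⧸ I))
    (Algebra.TensorProduct.includeRight : (A ⧸ I) →ₐ[k] (A ⊗[k] (A ⧸ I)) ⊗[k] (A ⧸ I))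
    a hind x b hx i

/-- A finite commutative Hopf algebra over an algebraically closed field is free over the
coinvariants of a Hopf ideal, of rank the dimension of the quotient. -/
theorem free_and_finrank :
    Module.Free (coinvSub k I) A ∧
      Module.finrank (coinvSub k I) A = Module.finrank k (A ⧸ I) := by
  classical
  set n := Module.finrank k (A ⧸ I) with hn
  let r : Module.Basis (Fin n) k (A ⧸ I) := Module.finBasis k (A ⧸ I)
  obtain ⟨a, ha⟩ := exists_tuple I r
  -- the double coaction family is independent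
  have hX : ∀ c : Fin n → A ⊗[k] (A ⧸ I),
      ∑ i, (c i ⊗ₜ[k] (1 : A ⧸ I)) *
        (Algebra.TensorProduct.map (rhoR k I) (AlgHom.id k (A ⧸ I))) (rhoR k I (a i)) = 0 →
      ∀ i, c i = 0 :=
    fun c hc i => indep_map_of_isUnit_det r (rhoR k I) (fun i => rhoR k I (a i)) ha c hc i
  -- coinvariants act as scalars on the coaction
  have hρB : ∀ c : coinvSub k I, rhoR k I (c : A) = (c : A) ⊗ₜ[k] (1 : A ⧸ I) := by
    intro c
    exact c.2
  have hli : LinearIndependent (coinvSub k I) a := by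
    rw [Fintype.linearIndependent_iff]
    intro c hc j
    have h1 : ∑ i, (((c i : coinvSub k I) : A) ⊗ₜ[k] (1 : A ⧸ I)) * rhoR k I (a i) = 0 := by
      have h2 := congrArg (rhoR k I) hc
      rw [map_sum, map_zero] at h2
      rw [← h2]
      refine Finset.sum_congr rfl (fun i _ => ?_)
      rw [← hρB, ← map_mul]
      rfl
    have h3 := indep_of_isUnit_det r (fun i => rhoR k I (a i)) ha
      (fun i => ((c i : coinvSub k I) : A)) h1 j
    exact Subtype.ext h3
  have hspan : ⊤ ≤ Submodule.span (coinvSub k I) (Set.range a) := by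
    intro x _
    obtain ⟨b, hx⟩ := span_of_isUnit_det r (fun i => rhoR k I (a i)) ha (rhoR k I x)
    have hmem : ∀ i, b i ∈ coinvSub k I := fun i => coeff_mem_coinvSub I a hX x b hx i
    have hx' : x = ∑ i, (⟨b i, hmem i⟩ : coinvSub k I) • a i := by
      apply rhoR_injective (k := k) I
      refine hx.trans ?_
      rw [map_sum]
      refine Finset.sum_congr rfl (fun i _ => ?_)
      change _ = rhoR k I (b i * a i)
      rw [map_mul, hρB ⟨_, hmem i⟩]
    rw [hx']
    exact Submodule.sum_mem _ (fun i _ => Submodule.smul_mem _ _ (Submodule.subset_span ⟨i, rfl⟩))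
  let 𝔠 : Module.Basis (Fin n) (coinvSub k I) A := Module.Basis.mk hli hspan
  have hnt : Nontrivial A := by
    refine ⟨⟨0, 1, fun h => ?_⟩⟩
    have := congrArg (CoalgebraStruct.counit (R := k) (A := A)) h
    rw [map_zero, Bialgebra.counit_one] at this
    exact zero_ne_one this
  have : Nontrivial (coinvSub k I) := inferInstance
  refine ⟨Module.Free.of_basis 𝔠, ?_⟩
  rw [Module.finrank_eq_card_basis 𝔠, Fintype.card_fin]

end Main

end Groth.Agent.Lib.Seat83.HopfFree
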