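import Mathlib

/-!
# Embedding small field extensions into large algebraically closed fields (seat 83)

* `nonempty_algHom_of_card_lt`: if `L / F` is a field extension, `K` an algebraically closed field over `F`,
  and `#L < #K`, then `L` embeds into `K` over `F`.
-/

set_option autoImplicit false
set_option linter.style.haveILetI false
universe u
open Cardinal

namespace Groth.Agent.Lib.Seat83.LargeField

theorem nonempty_algHom_of_card_lt (F L K : Type u) [Field F] [Field L] [Field K] [Algebra F L]
    [Algebra F K] [IsAlgClosed K] (h : #L < #K) : Nonempty (L →ₐ[F] K) := by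
  obtain ⟨B, hB⟩ := exists_isTranscendenceBasis F L
  obtain ⟨C, hC⟩ := exists_isTranscendenceBasis F K
  have hFL : #F ≤ #L := Cardinal.mk_le_of_injective (algebraMap F L).injective
  have hBL : #B ≤ #L := Cardinal.mk_le_of_injective Subtype.val_injective
  -- compare the cardinalities of the transcendence bases
  have hBC : #B ≤ #C := by
    by_cases hK : ℵ₀ < #K
    · have h1 : #K ≤ max (max #F #C) ℵ₀ := IsAlgClosed.cardinal_le_max_transcendence_basis' _ hC
      have h2 : #K ≤ #C := by
        by_contra hlt
        rw [not_le] at hlt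
        have : max (max #F #C) ℵ₀ < #K := max_lt (max_lt (hFL.trans_lt h) hlt) hK
        exact (lt_irrefl _) (h1.trans_lt this)
      exact hBL.trans (h.le.trans h2)
    · rw [not_lt] at hK
      have hLfin : #L < ℵ₀ := h.trans_le hK
      haveI : Finite L := Cardinal.lt_aleph0_iff_finite.1 hLfin
      haveI : Algebra.IsAlgebraic F L := Algebra.IsAlgebraic.of_finite F L
      haveI : IsEmpty B := by
        refine ⟨fun b => ?_⟩
        have h1 : Transcendental F (b : L) := hB.1.transcendental b
        exact h1 (Algebra.IsAlgebraic.isAlgebraic _)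
      simp
  obtain ⟨φ⟩ := (Cardinal.le_def _ _).1 hBC
  -- the polynomial ring on `B` embeds into `K`
  have hind : AlgebraicIndependent F (fun b : B => ((φ b : C) : K)) :=
    hC.1.comp φ φ.injective
  let e := hB.1.aevalEquiv
  let g : MvPolynomial B F →ₐ[F] K := MvPolynomial.aeval (fun b : B => ((φ b : C) : K))
  have hg : Function.Injective g := hind
  let ψ : Algebra.adjoin F (Set.range ((↑) : B → L)) →ₐ[F] K := g.comp e.symm.toAlgHom
  have hψ : Function.Injective ψ := hg.comp e.symm.injective
  letI : Algebra (Algebra.adjoin F (Set.range ((↑) : B → L))) K := ψ.toRingHom.toAlgebra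
  haveI : Algebra.IsAlgebraic (Algebra.adjoin F (Set.range ((↑) : B → L))) L := hB.isAlgebraic
  haveI : Module.IsTorsionFree (Algebra.adjoin F (Set.range ((↑) : B → L))) K := by
    have : FaithfulSMul (Algebra.adjoin F (Set.range ((↑) : B → L))) K :=
      (faithfulSMul_iff_algebraMap_injective _ _).2 hψ
    infer_instance
  let σ : L →ₐ[Algebra.adjoin F (Set.range ((↑) : B → L))] K := IsAlgClosed.lift
  refine ⟨{ σ.toRingHom with commutes' := fun r => ?_ }⟩
  have h1 : algebraMap F L r =
      algebraMap (Algebra.adjoin F (Set.range ((↑) : B → L))) L (algebraMap F _ r) := rfl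
  change σ (algebraMap F L r) = algebraMap F K r
  rw [h1, σ.commutes]
  change ψ (algebraMap F _ r) = algebraMap F K r
  exact ψ.commutes r

/-- an element algebraic over a finite field is algebraic over every field it is an algebra over. -/
lemma isAlgebraic_of_finite_field (F L0 L : Type u) [Field F] [Field L0] [Field L] [Algebra F L]
    [Algebra L0 L] [Finite L0] (x : L) (hx : IsAlgebraic L0 x) : IsAlgebraic F x := by
  haveI : FiniteDimensional L0 (IntermediateField.adjoin L0 {x}) :=
    IntermediateField.adjoin.finiteDimensional hx.isIntegral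
  haveI : Finite (IntermediateField.adjoin L0 {x}) := Module.finite_of_finite L0
  haveI := Fintype.ofFinite (IntermediateField.adjoin L0 {x})
  let y : IntermediateField.adjoin L0 {x} := ⟨x, IntermediateField.mem_adjoin_simple_self L0 x⟩
  have hy : y ^ Fintype.card (IntermediateField.adjoin L0 {x}) = y := FiniteField.pow_card y
  have hxq : x ^ Fintype.card (IntermediateField.adjoin L0 {x}) = x := by
    have := congrArg (fun z : IntermediateField.adjoin L0 {x} => (z : L)) hy
    simpa [y] using this
  have hq : 1 < Fintype.card (IntermediateField.adjoin L0 {x}) := Fintype.one_lt_card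
  refine ⟨Polynomial.X ^ Fintype.card (IntermediateField.adjoin L0 {x}) - Polynomial.X,
    FiniteField.X_pow_card_sub_X_ne_zero F hq, ?_⟩
  simp [hxq]

/-- variant: `L` is only assumed algebraic over a field `L0` with `#L0 < #K`. -/
theorem nonempty_algHom_of_isAlgebraic_of_card_lt (F L0 L K : Type u) [Field F] [Field L0] [Field L]
    [Field K] [Algebra F L] [Algebra F K] [Algebra L0 L] [Algebra.IsAlgebraic L0 L] [IsAlgClosed K]
    (h : #L0 < #K) : Nonempty (L →ₐ[F] K) := by
  by_cases hK : ℵ₀ < #K
  · refine nonempty_algHom_of_card_lt F L K ?_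
    exact (Algebra.IsAlgebraic.cardinalMk_le_max L0 L).trans_lt (max_lt h hK)
  · rw [not_lt] at hK
    haveI : Finite L0 := Cardinal.lt_aleph0_iff_finite.1 (h.trans_le hK)
    haveI : Algebra.IsAlgebraic F L :=
      ⟨fun x => isAlgebraic_of_finite_field F L0 L x (Algebra.IsAlgebraic.isAlgebraic x)⟩
    exact ⟨IsAlgClosed.lift⟩

end Groth.Agent.Lib.Seat83.LargeField
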