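import Mathlib

/-!
# Smooth locus and base change along field extensions (seat 83)
-/

set_option autoImplicit false
universe u

open CategoryTheory CategoryTheory.Limits AlgebraicGeometry

namespace Groth.Agent.Lib.Seat83.NonSmooth

variable {X Y : Scheme.{u}}

theorem ι_preimage_eq_top_iff (U V : X.Opens) : U.ι ⁻¹ᵁ V = ⊤ ↔ U ≤ V := by
  constructor
  · intro h x hx
    have : (⟨x, hx⟩ : U) ∈ U.ι ⁻¹ᵁ V := by rw [h]; trivial
    exact this
  · intro h
    ext x
    simp only [TopologicalSpace.Opens.coe_top, Set.mem_univ, iff_true]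
    exact h x.2

theorem smooth_ι_comp_iff (f : X ⟶ Y) [LocallyOfFinitePresentation f] (U : X.Opens) :
    Smooth (U.ι ≫ f) ↔ U ≤ f.smoothLocus := by
  rw [← Scheme.Hom.smoothLocus_eq_top_iff, ← Scheme.Hom.preimage_smoothLocus_eq, ι_preimage_eq_top_iff]

theorem exists_smooth_iff_mem_smoothLocus (f : X ⟶ Y) [LocallyOfFinitePresentation f] (x : X) :
    (∃ U : X.Opens, x ∈ U ∧ Smooth (U.ι ≫ f)) ↔ x ∈ f.smoothLocus := by
  constructor
  · rintro ⟨U, hx, hU⟩
    exact (smooth_ι_comp_iff f U).1 hU hx
  · intro hx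
    exact ⟨f.smoothLocus, hx, (smooth_ι_comp_iff f _).2 le_rfl⟩

theorem nonsmooth_eq_compl (f : X ⟶ Y) [LocallyOfFinitePresentation f] :
    {x : ↥X | ¬ ∃ U : X.Opens, x ∈ U ∧ Smooth (U.ι ≫ f)} = ((f.smoothLocus : Set X))ᶜ := by
  ext x
  simp only [Set.mem_ofPred_eq, Set.mem_compl_iff, SetLike.mem_coe]
  rw [exists_smooth_iff_mem_smoothLocus]

variable {X' T T' : Scheme.{u}} {p : X ⟶ T} {q : X' ⟶ T'} {i₀ : X' ⟶ X} {t' : T' ⟶ T}

/-- pasted restriction square -/
theorem isPullback_restrict (hsq : IsPullback i₀ q p t') (U : X.Opens) :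
    IsPullback (i₀ ∣_ U) ((i₀ ⁻¹ᵁ U).ι ≫ q) (U.ι ≫ p) t' :=
  (isPullback_morphismRestrict i₀ U).paste_vert hsq

theorem preimage_smoothLocus_le (hsq : IsPullback i₀ q p t') [LocallyOfFinitePresentation p]
    [LocallyOfFinitePresentation q] : i₀ ⁻¹ᵁ p.smoothLocus ≤ q.smoothLocus := by
  rw [← smooth_ι_comp_iff]
  have h : Smooth (p.smoothLocus.ι ≫ p) := (smooth_ι_comp_iff p _).2 le_rfl
  exact MorphismProperty.of_isPullback (isPullback_restrict hsq p.smoothLocus) h

theorem smoothLocus_descent (hsq : IsPullback i₀ q p t') [LocallyOfFinitePresentation p]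
    [LocallyOfFinitePresentation q] [Flat t'] [Surjective t'] [QuasiCompact t'] (U : X.Opens)
    (h : i₀ ⁻¹ᵁ U ≤ q.smoothLocus) : U ≤ p.smoothLocus := by
  rw [← smooth_ι_comp_iff] at h ⊢
  exact MorphismProperty.of_isPullback_of_descendsAlong (Q := @Surjective ⊓ @Flat ⊓ @QuasiCompact)
    (isPullback_restrict hsq U).flip ⟨⟨inferInstance, inferInstance⟩, inferInstance⟩ h

/-- Over a non-smooth point of `p` there is a non-smooth point of the base change `q`, when the base change map is
closed and the base extension is fpqc. -/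
theorem exists_preimage_not_mem_smoothLocus (hsq : IsPullback i₀ q p t') [LocallyOfFinitePresentation p]
    [LocallyOfFinitePresentation q] [Flat t'] [Surjective t'] [QuasiCompact t']
    (hcl : IsClosedMap i₀) (x : X) (hx : x ∉ p.smoothLocus) :
    ∃ x' : X', i₀ x' = x ∧ x' ∉ q.smoothLocus := by
  by_contra hcon
  push Not at hcon
  have hC : IsClosed (i₀ '' ((q.smoothLocus : Set X'))ᶜ) := hcl _ q.smoothLocus.isOpen.isClosed_compl
  let U : X.Opens := ⟨(i₀ '' ((q.smoothLocus : Set X'))ᶜ)ᶜ, hC.isOpen_compl⟩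
  have hxU : x ∈ U := by
    rintro ⟨x', hx', rfl⟩
    exact hx' (hcon x' rfl)
  have hU : i₀ ⁻¹ᵁ U ≤ q.smoothLocus := by
    intro x' hx'
    by_contra hn
    exact hx' ⟨x', hn, rfl⟩
  exact hx (smoothLocus_descent hsq U hU hxU)

/-- The fibre of a base change of `p : X ⟶ Spec k` (locally of finite type) along a field extension over a closed
point of `X` is finite. -/
theorem finite_preimage_of_isClosed_singleton {k Ω : Type u} [Field k] [Field Ω]
    {p : X ⟶ Spec (CommRingCat.of k)} {q : X' ⟶ Spec (CommRingCat.of Ω)}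
    {t' : Spec (CommRingCat.of Ω) ⟶ Spec (CommRingCat.of k)}
    (hsq : IsPullback i₀ q p t') [LocallyOfFiniteType p] (x : X) (hx : IsClosed ({x} : Set X)) :
    (i₀ ⁻¹' {x}).Finite := by
  have hci : IsClosedImmersion (X.fromSpecResidueField x) := isClosed_singleton_iff_isClosedImmersion.mp hx
  let r := X.fromSpecResidueField x
  have hfin : IsFinite (r ≫ p) :=
    (isFinite_iff_locallyOfFiniteType_of_jacobsonSpace (f := r ≫ p)).mpr inferInstance
  have h1 : IsPullback (pullback.fst r i₀) (pullback.snd r i₀) r i₀ := IsPullback.of_hasPullback r i₀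
  have h2 : IsPullback (pullback.fst r i₀) (pullback.snd r i₀ ≫ q) (r ≫ p) t' := h1.paste_vert hsq
  have hfin' : IsFinite (pullback.snd r i₀ ≫ q) := MorphismProperty.of_isPullback h2 hfin
  have hF : Finite ↥(pullback r i₀) := by
    have := (pullback.snd r i₀ ≫ q).finite_preimage_singleton (IsLocalRing.closedPoint Ω)
    have huniv : (pullback.snd r i₀ ≫ q) ⁻¹' {IsLocalRing.closedPoint Ω} = Set.univ := by
      ext z
      simp only [Set.mem_preimage, Set.mem_univ, iff_true]
      exact Subsingleton.elim _ _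
    exact Set.finite_univ_iff.mp (huniv ▸ this)
  have hr : Set.range (pullback.snd r i₀) = i₀ ⁻¹' {x} := by
    rw [Scheme.Pullback.range_snd, Scheme.range_fromSpecResidueField]
  rw [← hr]
  exact Set.finite_range _

/-- In a Jacobson space, the points of a finite closed set are closed. -/
theorem isClosed_singleton_of_mem_finite_isClosed {Z : Type*} [TopologicalSpace Z] [JacobsonSpace Z]
    {C : Set Z} (hC : IsClosed C) (hfin : C.Finite) {x : Z} (hx : x ∈ C) : IsClosed ({x} : Set Z) := by
  have h1 : closure (C ∩ closedPoints Z) = C := closure_inter_closedPoints hC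
  have h2 : IsClosed (C ∩ closedPoints Z) := by
    have : C ∩ closedPoints Z = ⋃ y ∈ C ∩ closedPoints Z, {y} := (Set.biUnion_of_singleton _).symm
    rw [this]
    exact (hfin.subset Set.inter_subset_left).isClosed_biUnion (fun y hy => hy.2)
  rw [h2.closure_eq] at h1
  have h3 : x ∈ C ∩ closedPoints Z := by rw [h1]; exact hx
  exact h3.2

/-- Base change to the algebraic closure: the non-smooth locus of `p` is the image of that of `q`; in particular finite
if the latter is. -/
theorem finite_nonsmooth_of_algebraicClosure {k : Type u} [Field k]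
    (p : X ⟶ Spec (CommRingCat.of k)) [LocallyOfFinitePresentation p]
    (h : Set.Finite {x : ↥(pullback p (Spec.map (CommRingCat.ofHom (algebraMap k (AlgebraicClosure k))))) |
      ¬ ∃ U : (pullback p (Spec.map (CommRingCat.ofHom (algebraMap k (AlgebraicClosure k))))).Opens,
        x ∈ U ∧ Smooth (U.ι ≫ pullback.snd p (Spec.map (CommRingCat.ofHom (algebraMap k (AlgebraicClosure k)))))}) :
    Set.Finite {x : ↥X | ¬ ∃ U : X.Opens, x ∈ U ∧ Smooth (U.ι ≫ p)} := by
  let Ω := AlgebraicClosure k
  let j : Spec (CommRingCat.of Ω) ⟶ Spec (CommRingCat.of k) := Spec.map (CommRingCat.ofHom (algebraMap k Ω))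
  have hsq : IsPullback (pullback.fst p j) (pullback.snd p j) p j := IsPullback.of_hasPullback p j
  have hj : Surjective j := by
    constructor
    intro x
    refine ⟨IsLocalRing.closedPoint Ω, Subsingleton.elim _ _⟩
  have hji : IsIntegralHom j := by
    rw [IsIntegralHom.SpecMap_iff]
    exact algebraMap_isIntegral_iff.mpr inferInstance
  have hcl : IsClosedMap (pullback.fst p j) := (pullback.fst p j).isClosedMap
  rw [nonsmooth_eq_compl] at h ⊢
  refine (h.image (pullback.fst p j)).subset ?_
  intro x hx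
  obtain ⟨x', hx', hn⟩ := exists_preimage_not_mem_smoothLocus hsq hcl x hx
  exact ⟨x', hn, hx'⟩

/-- Base change along any field extension: finiteness of the non-smooth locus is preserved. -/
theorem finite_nonsmooth_baseChange {k Ω : Type u} [Field k] [Field Ω]
    {p : X ⟶ Spec (CommRingCat.of k)} {q : X' ⟶ Spec (CommRingCat.of Ω)}
    {t' : Spec (CommRingCat.of Ω) ⟶ Spec (CommRingCat.of k)}
    (hsq : IsPullback i₀ q p t') [LocallyOfFinitePresentation p]
    (h : Set.Finite {x : ↥X | ¬ ∃ U : X.Opens, x ∈ U ∧ Smooth (U.ι ≫ p)}) :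
    Set.Finite {x : ↥X' | ¬ ∃ U : X'.Opens, x ∈ U ∧ Smooth (U.ι ≫ q)} := by
  have hq : LocallyOfFinitePresentation q := MorphismProperty.of_isPullback hsq inferInstance
  have hJ : JacobsonSpace ↥X := LocallyOfFiniteType.jacobsonSpace p
  rw [nonsmooth_eq_compl] at h ⊢
  have hcl : IsClosed ((p.smoothLocus : Set X))ᶜ := p.smoothLocus.isOpen.isClosed_compl
  refine (h.preimage' (f := i₀) (fun x hx => ?_)).subset ?_
  · exact finite_preimage_of_isClosed_singleton hsq x (isClosed_singleton_of_mem_finite_isClosed hcl h hx)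
  · intro x' hx' hmem
    exact hx' (preimage_smoothLocus_le hsq hmem)

end Groth.Agent.Lib.Seat83.NonSmooth
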