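-- helper83 (seat 83): the functor `f ×_𝒵 g` (not its diagonal) has `P` when `f` and `g` do;
-- products over the base.
import Groth.Agent.Lib.Seat83DiagProd
import Groth.Agent.Lib.Helper17AlgStRep
import Groth.Agent.S12780

set_option autoImplicit false
set_option backward.isDefEq.respectTransparency false
set_option backward.isDefEq.respectTransparency.types false
open CategoryTheory CategoryTheory.Functor CategoryTheory.Limits Opposite AlgebraicGeometry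

universe u

namespace Groth.Agent.Lib.Seat83.ProdMap

open Groth.Agent.Lib.Helper17 Groth.Agent.Lib.Helper15PshFib Groth.Agent.Lib.Helper15RepComp
  Groth.Agent.Lib.Helper15RepPsh Groth.Agent.Lib.Helper15DiagBase Groth.Agent.Lib.Helper15DiagRepSp
  Groth.Agent.Lib.Helper15Descent Groth.Agent.Lib.Helper15DiagLft
  Groth.Agent.Lib.Helper15.DiagBC Groth.Agent.Lib.Helper15DiagOfComp
  Groth.Agent.Lib.Seat83.DiagProd

section Iso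

variable {S : Scheme.{u}} {𝒜 ℬ : AlgSt.Cat S}

/-- Isomorphic functors have the same properties. -/
theorem repByAlgSpWith_of_iso (P : MorphismProperty (AlgSp.Sp S)) {H K : 𝒜 ⥤ᵇ ℬ} (ι : H ≅ K)
    (h : AlgSt.RepByAlgSpWith P H) : AlgSt.RepByAlgSpWith P K := by
  let e₀ : BasedFunctor.comp K (BasedFunctor.id ℬ) ≅ BasedFunctor.comp (BasedFunctor.id 𝒜) H :=
    ι.symm
  exact (repByAlgSpWith_of_square P H K (BasedFunctor.id 𝒜) (BasedFunctor.id ℬ)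
    (isEquivOver_id _) (isEquivOver_id _) e₀).1 h

/-- Precomposition with an equivalence does not change the properties. -/
theorem repByAlgSpWith_equiv_source (P : MorphismProperty (AlgSp.Sp S)) {𝒜' : AlgSt.Cat S}
    (E : 𝒜' ⥤ᵇ 𝒜) (hE : FibCat.IsEquivOver E) (h : 𝒜 ⥤ᵇ ℬ) :
    AlgSt.RepByAlgSpWith P h ↔ AlgSt.RepByAlgSpWith P (BasedFunctor.comp E h) :=
  repByAlgSpWith_of_square P h (BasedFunctor.comp E h) E (BasedFunctor.id ℬ) hE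
    (isEquivOver_id _) (Iso.refl _)

end Iso

section Main

variable {S : Scheme.{u}} {𝒳 𝒳' 𝒴 𝒴' 𝒵 : AlgSt.Cat S}
  (p' : 𝒳' ⥤ᵇ 𝒵) (q' : 𝒴' ⥤ᵇ 𝒵) (f : 𝒳 ⥤ᵇ 𝒳') (g : 𝒴 ⥤ᵇ 𝒴')

theorem repByAlgSpWith_prodL (P : MorphismProperty (AlgSp.Sp S))
    (hf : AlgSt.RepByAlgSpWith P f) : AlgSt.RepByAlgSpWith P (prodL p' q' f) := by
  have h1 : AlgSt.RepByAlgSpWith P (FibCat.fpSnd f (FibCat.fpFst p' q')) :=
    repByAlgSpWith_fpSnd P f (FibCat.fpFst p' q') hf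
  have h2 := repByAlgSpWith_of_iso P (prodLIso p' q' f).symm h1
  exact (repByAlgSpWith_equiv_source P (pasteL q' p' f) (isEquivOver_pasteL q' p' f)
    (prodL p' q' f)).2 h2

variable (e : BasedFunctor.comp (BasedFunctor.comp (FibCat.fpFst (BasedFunctor.comp f p') (BasedFunctor.comp g q')) f) p' ≅
      BasedFunctor.comp (BasedFunctor.comp (FibCat.fpSnd (BasedFunctor.comp f p') (BasedFunctor.comp g q')) g) q')

/-- `f ×_𝒵 g` has `P` as soon as `f` and `g` do. -/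
theorem repByAlgSpWith_prod (h𝒳 : FibCat.IsFibGrpd 𝒳.p) (h𝒳' : FibCat.IsFibGrpd 𝒳'.p)
    (h𝒴 : FibCat.IsFibGrpd 𝒴.p) (h𝒴' : FibCat.IsFibGrpd 𝒴'.p) (h𝒵 : FibCat.IsFibGrpd 𝒵.p)
    (P : MorphismProperty (AlgSp.Sp S))
    (hPb : ∀ ⦃X₁ Y₁ X₂ Y₂ : AlgSp.Sp S⦄, AlgSp.IsAlgSpace X₁ → AlgSp.IsAlgSpace Y₁ → AlgSp.IsAlgSpace X₂ →
      AlgSp.IsAlgSpace Y₂ → ∀ (a : X₁ ⟶ Y₁) (b : Y₂ ⟶ Y₁) (a' : X₂ ⟶ Y₂) (b' : X₂ ⟶ X₁),
      IsPullback b' a' a b → P a → P a')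
    (hPc : ∀ ⦃X Y Z : AlgSp.Sp S⦄, AlgSp.IsAlgSpace X → AlgSp.IsAlgSpace Y → AlgSp.IsAlgSpace Z →
      ∀ (a : X ⟶ Y) (b : Y ⟶ Z), P a → P b → P (a ≫ b))
    (hP : AlgSp.IsLocalOnBase AlgSp.IsFppfCover P)
    (he : ∀ x, e.hom.toNatTrans.app x = x.obj.iso.hom)
    (hf : AlgSt.RepByAlgSpWith P f) (hg : AlgSt.RepByAlgSpWith P g) :
    AlgSt.RepByAlgSpWith P
      (FibCat.fpLift (BasedFunctor.comp (FibCat.fpFst (BasedFunctor.comp f p') (BasedFunctor.comp g q')) f)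
        (BasedFunctor.comp (FibCat.fpSnd (BasedFunctor.comp f p') (BasedFunctor.comp g q')) g) e) := by
  have hMid : FibCat.IsFibGrpd (FibCat.fp (BasedFunctor.comp f p') q').p :=
    isFibGrpd_fp _ _ h𝒳 h𝒴' h𝒵
  have hA' : FibCat.IsFibGrpd (FibCat.fp (FibCat.fpSnd (BasedFunctor.comp f p') q') g).p :=
    isFibGrpd_fp _ _ hMid h𝒴 h𝒴'
  have h1 : AlgSt.RepByAlgSpWith P (FibCat.fpFst (FibCat.fpSnd (BasedFunctor.comp f p') q') g) :=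
    repByAlgSpWith_fpFst P g (FibCat.fpSnd (BasedFunctor.comp f p') q') hg
  have h2 := repByAlgSpWith_prodL p' q' f P hf
  have h3 := Groth.Agent.S12780.result hA' hMid (isFibGrpd_fp p' q' h𝒳' h𝒴' h𝒵) P hPb hPc hP
    (FibCat.fpFst (FibCat.fpSnd (BasedFunctor.comp f p') q') g) (prodL p' q' f) h1 h2
  have h4 := repByAlgSpWith_of_iso P (prodIso p' q' f g e he).symm h3
  exact (repByAlgSpWith_equiv_source P (pasteR (BasedFunctor.comp f p') g q')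
    (isEquivOver_pasteR (BasedFunctor.comp f p') g q') _).2 h4

end Main

section Self

variable {S : Scheme.{u}} {𝒳₁ 𝒳₂ 𝒴₁ 𝒴₂ : AlgSt.Cat S}

theorem comp_toSelf {𝒳 𝒴 : AlgSt.Cat S} (j : 𝒳 ⥤ᵇ 𝒴) :
    BasedFunctor.comp j (FibCat.toSelf 𝒴) = FibCat.toSelf 𝒳 := by
  have key : ∀ (A B : 𝒳 ⥤ᵇ FibCat.selfOver (Over S)), A.toFunctor = B.toFunctor → A = B := by
    rintro ⟨A, _⟩ ⟨B, _⟩ h
    cases h
    rfl
  exact key _ _ j.w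

/-- Two morphisms of the base lying over the same identity are equal. -/
theorem selfOver_hom_eq {T : Over S} {a b : (FibCat.selfOver (Over S)).obj} (φ ψ : a ⟶ b)
    (hφ : (FibCat.selfOver (Over S)).p.IsHomLift (𝟙 T) φ)
    (hψ : (FibCat.selfOver (Over S)).p.IsHomLift (𝟙 T) ψ) : φ = ψ := by
  have h1 := IsHomLift.fac' (FibCat.selfOver (Over S)).p (𝟙 T) φ
  have h2 := IsHomLift.fac' (FibCat.selfOver (Over S)).p (𝟙 T) ψ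
  exact h1.trans h2.symm

theorem repByAlgSpWith_prodMap_aux
    (h𝒳₁ : FibCat.IsFibGrpd 𝒳₁.p) (h𝒳₂ : FibCat.IsFibGrpd 𝒳₂.p) (h𝒴₁ : FibCat.IsFibGrpd 𝒴₁.p)
    (h𝒴₂ : FibCat.IsFibGrpd 𝒴₂.p)
    (P : MorphismProperty (AlgSp.Sp S))
    (hPb : ∀ ⦃X₁ Y₁ X₂ Y₂ : AlgSp.Sp S⦄, AlgSp.IsAlgSpace X₁ → AlgSp.IsAlgSpace Y₁ → AlgSp.IsAlgSpace X₂ →
      AlgSp.IsAlgSpace Y₂ → ∀ (a : X₁ ⟶ Y₁) (b : Y₂ ⟶ Y₁) (a' : X₂ ⟶ Y₂) (b' : X₂ ⟶ X₁),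
      IsPullback b' a' a b → P a → P a')
    (hPc : ∀ ⦃X Y Z : AlgSp.Sp S⦄, AlgSp.IsAlgSpace X → AlgSp.IsAlgSpace Y → AlgSp.IsAlgSpace Z →
      ∀ (a : X ⟶ Y) (b : Y ⟶ Z), P a → P b → P (a ≫ b))
    (hP : AlgSp.IsLocalOnBase AlgSp.IsFppfCover P)
    (f₁ : 𝒳₁ ⥤ᵇ 𝒴₁) (f₂ : 𝒳₂ ⥤ᵇ 𝒴₂) (hf₁ : AlgSt.RepByAlgSpWith P f₁)
    (hf₂ : AlgSt.RepByAlgSpWith P f₂)
    (a : 𝒳₁ ⥤ᵇ FibCat.selfOver (Over S)) (b : 𝒳₂ ⥤ᵇ FibCat.selfOver (Over S))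
    (ha : a = BasedFunctor.comp f₁ (FibCat.toSelf 𝒴₁))
    (hb : b = BasedFunctor.comp f₂ (FibCat.toSelf 𝒴₂))
    (e : BasedFunctor.comp (BasedFunctor.comp (FibCat.fpFst a b) f₁) (FibCat.toSelf 𝒴₁) ≅
      BasedFunctor.comp (BasedFunctor.comp (FibCat.fpSnd a b) f₂) (FibCat.toSelf 𝒴₂)) :
    AlgSt.RepByAlgSpWith P (FibCat.fpLift (BasedFunctor.comp (FibCat.fpFst a b) f₁)
      (BasedFunctor.comp (FibCat.fpSnd a b) f₂) e) := by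
  subst ha hb
  refine repByAlgSpWith_prod (FibCat.toSelf 𝒴₁) (FibCat.toSelf 𝒴₂) f₁ f₂ e h𝒳₁ h𝒴₁ h𝒳₂ h𝒴₂
    (isFibGrpd_selfOver _) P hPb hPc hP (fun x => ?_) hf₁ hf₂
  refine selfOver_hom_eq (T := 𝒳₁.p.obj x.obj.fst) _ _ ?_ x.property
  exact BasedNatTrans.isHomLift e.hom (rfl)

end Self

end Groth.Agent.Lib.Seat83.ProdMap
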