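import Mathlib
import Groth.Prelude.Def_AlgSp
import Groth.Prelude.Def_AlgSp2
import Groth.Prelude.Def_AlgSp3
import Groth.Prelude.Def_AlgSp4
import Groth.Prelude.Def_AlgSpDec
import Groth.Agent.Lib.Seat83MonoPoint
import Groth.Agent.Lib.Seat45EtField
import Groth.Agent.Lib.Seat46DecentPt
import Groth.Agent.Lib.Helper15Descent
import Groth.Agent.S9874
import Groth.Agent.S9919
import Groth.Agent.S10174
import Groth.Agent.S10209
import Groth.Agent.S9912
import Groth.Agent.Lib.Helper12Proper

/-!
# Seat 83: monomorphic points descend along quasi-compact étale morphisms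

* `isOpenImmersion_of_mono_discrete`: a monomorphism into a discrete reduced scheme is an open immersion.
* `exists_mono_of_qc_etale`: `f : X ⟶ Y` quasi-compact étale, `p` a monomorphic field point of `X`;
  then `f(p)` is the class of a monomorphic field point `q'` of `Y` with `Spec k ⟶ Spec k'` finite étale
  surjective.
-/

set_option autoImplicit false
set_option linter.style.haveILetI false

universe u

open CategoryTheory CategoryTheory.Limits AlgebraicGeometry Opposite

namespace Groth.Agent.Lib.Seat83.QcEtDescent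

open AlgSp

/-- a monomorphism into a reduced one-point scheme is an open immersion. -/
lemma isOpenImmersion_of_mono_subsingleton {Z T : Scheme.{u}} [Subsingleton T] [IsReduced T]
    (m : Z ⟶ T) [Mono m] : IsOpenImmersion m := by
  cases isEmpty_or_nonempty Z
  · infer_instance
  obtain ⟨z⟩ := ‹Nonempty Z›
  haveI : Nonempty T := ⟨m z⟩
  have : IsIntegral T := (isIntegral_iff_irreducibleSpace_and_isReduced _).mpr
    ⟨⟨inferInstance⟩, inferInstance⟩
  haveI : Surjective m := ⟨fun y => ⟨z, Subsingleton.elim _ _⟩⟩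
  haveI : Subsingleton ↥Z := m.injective.subsingleton
  haveI : QuasiCompact m := ⟨fun U _ _ => (Set.subsingleton_of_subsingleton).isCompact⟩
  haveI : Flat m := inferInstance
  haveI : IsIso m := Flat.isIso_of_surjective_of_mono m
  infer_instance

/-- a monomorphism into a discrete reduced scheme is an open immersion. -/
lemma isOpenImmersion_of_mono_discrete {R V : Scheme.{u}} [DiscreteTopology V] [IsReduced V]
    (ρ : R ⟶ V) [Mono ρ] : IsOpenImmersion ρ := by
  let 𝒰 : V.OpenCover := V.openCoverOfIsOpenCover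
      (fun x : V ↦ ⟨{x}, isOpen_discrete _⟩) (.mk (by ext; simp))
  rw [IsZariskiLocalAtTarget.iff_of_openCover (P := @IsOpenImmersion) 𝒰]
  intro i
  haveI : Subsingleton ↥(𝒰.X i) := inferInstanceAs (Subsingleton ({i} : Set V))
  haveI : IsReduced (𝒰.X i) := isReduced_of_isOpenImmersion (𝒰.f i)
  change IsOpenImmersion (pullback.snd ρ (𝒰.f i))
  exact isOpenImmersion_of_mono_subsingleton _

variable {S : Scheme.{u}}

/-- **Descent of monomorphic points along quasi-compact étale morphisms.** -/
theorem exists_mono_of_qc_etale {X Y : Sp S} (hX : IsAlgSpace X) (hY : IsAlgSpace Y) (f : X ⟶ Y)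
    (hq : IsQuasiCompactMor f) (he : IsEtaleMor f) (p : FieldPt X) [Mono p.toHom] :
    ∃ q' : FieldPt Y, Points.mk q' = Points.map f (Points.mk p) ∧ Mono q'.toHom ∧
      ∃ c : p.pt ⟶ q'.pt, (yon S).map c ≫ q'.toHom = p.toHom ≫ f ∧ IsFinite c.left ∧
        Etale c.left ∧ Surjective c.left := by
  let q : FieldPt Y := p.map f
  have hqp : q.toHom = p.toHom ≫ f := FieldPt.toHom_map f p
  have sqP : IsPullback (pullback.fst f q.toHom) (pullback.snd f q.toHom) f q.toHom :=
    IsPullback.of_hasPullback f q.toHom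
  have hP : IsAlgSpace (pullback f q.toHom) :=
    Groth.Agent.S9874.isAlgSpace_of_isPullback hY.diag hX (IsAlgSpace.yon_obj _) sqP
  have hpr₂ : IsEtaleMor (pullback.snd f q.toHom) :=
    Groth.Agent.S10209.isEtaleMor_of_isPullback hX (IsAlgSpace.yon_obj _) sqP.flip he
  have hrep : (pullback f q.toHom).obj.IsRepresentable :=
    Groth.Agent.Lib.Seat45.EtField.isRepresentable_of_isEtaleMor hP (pullback.snd f q.toHom) hpr₂
  obtain ⟨V, ⟨r⟩⟩ := hrep.has_representation
  let e : (yon S).obj V ≅ pullback f q.toHom := isoOfRepresentableBy r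
  obtain ⟨ν, hν⟩ := (yon S).map_surjective (e.hom ≫ pullback.snd f q.toHom)
  have sqV : IsPullback (e.hom ≫ pullback.fst f q.toHom) ((yon S).map ν) f q.toHom := by
    rw [hν]
    exact IsPullback.of_iso sqP e.symm (Iso.refl _) (Iso.refl _) (Iso.refl _) (by simp) (by simp)
      (by simp) (by simp)
  -- `V` is étale over the field
  have hνe : RepWith @Etale ((yon S).map ν) := by
    rw [hν]
    exact hpr₂ e.hom (Groth.Agent.Lib.Helper15Descent.repWith_etale_of_isIso e.hom)
  haveI hνet : Etale ν.left := (repWith_yon_map_iff @Etale ν).1 hνe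
  have hνet' : Etale (ν.left : V.left ⟶ Spec (CommRingCat.of q.K)) := hνet
  -- `V` is quasi-compact
  have hqc0 : IsQuasiCompactSp ((yon S).obj q.pt) := by
    rw [Groth.Agent.S10174.isQuasiCompactSp_iff (IsAlgSpace.yon_obj _)]
    haveI : CompactSpace ↥q.pt.left := (inferInstance : CompactSpace (Spec (CommRingCat.of q.K)))
    exact (Points.schemeHomeo q.pt).compactSpace
  have hqcP : IsQuasiCompactSp (pullback f q.toHom) :=
    hq (IsAlgSpace.yon_obj _) hqc0 q.toHom _ _ sqP
  have hqcV : IsQuasiCompactSp ((yon S).obj V) :=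
    Groth.Agent.S9919.isQuasiCompactSp_of_iso e.symm hqcP
  haveI hVc : CompactSpace ↥V.left := by
    rw [Groth.Agent.S10174.isQuasiCompactSp_iff (IsAlgSpace.yon_obj _)] at hqcV
    haveI := hqcV
    exact (Points.schemeHomeo V).symm.compactSpace
  haveI : DiscreteTopology ↥V.left :=
    Groth.Agent.Lib.Seat45.EtField.discreteTopology_of_etale (K := q.K) ν.left
  haveI : IsReduced V.left := Groth.Agent.Lib.Seat45.EtField.isReduced_of_etale (K := q.K) ν.left
  haveI : Finite ↥V.left := finite_of_compact_of_discrete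
  -- the kernel pair
  obtain ⟨R, t, ρ', sqR⟩ := hX.representable_from_yon (e.hom ≫ pullback.fst f q.toHom) p.toHom
  obtain ⟨ρ, rfl⟩ := (yon S).map_surjective ρ'
  have sq : IsPullback ((yon S).map t) ((yon S).map (ρ ≫ ν)) q.toHom q.toHom := by
    have h1 := (sqR.paste_horiz sqV.flip).flip
    rw [← hqp, ← Functor.map_comp] at h1
    exact h1
  haveI : Mono ((yon S).map ρ) := sqR.mono_fst_of_mono
  haveI : Mono ρ := (yon S).mono_of_mono_map inferInstance
  haveI : Mono ρ.left := inferInstance
  haveI : IsOpenImmersion ρ.left := isOpenImmersion_of_mono_discrete ρ.left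
  haveI : Etale (ρ ≫ ν).left := by
    change Etale (ρ.left ≫ ν.left)
    infer_instance
  haveI : Finite ↥R.left := Finite.of_injective _ ρ.left.injective
  haveI : CompactSpace ↥R.left := inferInstance
  obtain ⟨q', hq', hmono, c, hc, hfin, het, hsurj⟩ :=
    Groth.Agent.Lib.Seat46.DecentPt.exists_mono_fieldPt q (ρ ≫ ν) t sq
  exact ⟨q', hq', hmono, c, hc.trans hqp, hfin, het, hsurj⟩

/-- if `h_c ≫ m` is quasi-compact and `c` is surjective, then `m` is quasi-compact. -/
lemma repWith_quasiCompact_of_comp_surjective {F : Sp S} {A B : Over S} (c : A ⟶ B)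
    [Surjective c.left] (m : (yon S).obj B ⟶ F) (hm : Representable m)
    (h : RepWith @QuasiCompact ((yon S).map c ≫ m)) : RepWith @QuasiCompact m := by
  refine ⟨hm, fun T W g fst' snd sq => ?_⟩
  obtain ⟨φ, rfl⟩ := (yon S).map_surjective fst'
  change QuasiCompact snd.left
  have sq1 : IsPullback ((yon S).map (pullback.fst φ c)) ((yon S).map (pullback.snd φ c))
      ((yon S).map φ) ((yon S).map c) := (IsPullback.of_hasPullback φ c).map (yon S)
  have sq2 := (sq1.paste_horiz sq.flip).flip
  rw [← Functor.map_comp] at sq2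
  have hqc : QuasiCompact (pullback.fst φ c ≫ snd).left := h.2 _ _ _ sq2
  have hsq : IsPullback (pullback.fst φ c).left (pullback.snd φ c).left φ.left c.left :=
    (IsPullback.of_hasPullback φ c).map (Over.forget S)
  have hsurj : Surjective (pullback.fst φ c).left :=
    MorphismProperty.of_isPullback hsq.flip inferInstance
  constructor
  intro U hU hc
  have h1 : IsCompact ((pullback.fst φ c ≫ snd).left ⁻¹' U) := hqc.1 U hU hc
  have h2 : snd.left ⁻¹' U = (pullback.fst φ c).left '' ((pullback.fst φ c ≫ snd).left ⁻¹' U) := by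
    ext w
    constructor
    · intro hw
      obtain ⟨w', rfl⟩ := hsurj.surj w
      exact ⟨w', hw, rfl⟩
    · rintro ⟨w', hw', rfl⟩
      exact hw'
  rw [h2]
  exact h1.image (pullback.fst φ c).left.continuous

/-- **Descent of decent points along quasi-compact étale morphisms**: a monomorphic quasi-compact field
point `p` of `X` gives one of `Y` through `f(p)`. -/
theorem exists_decent_of_qc_etale {X Y : Sp S} (hX : IsAlgSpace X) (hY : IsAlgSpace Y) (f : X ⟶ Y)
    (hq : IsQuasiCompactMor f) (he : IsEtaleMor f) (p : FieldPt X) [Mono p.toHom]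
    (hp : RepWith @QuasiCompact p.toHom) :
    ∃ q' : FieldPt Y, Points.mk q' = Points.map f (Points.mk p) ∧ Mono q'.toHom ∧
      RepWith @QuasiCompact q'.toHom := by
  obtain ⟨q', hq', hmono, c, hc, -, -, hsurj⟩ := exists_mono_of_qc_etale hX hY f hq he p
  refine ⟨q', hq', hmono, ?_⟩
  haveI := hsurj
  have h1 : IsQuasiCompactMor p.toHom :=
    Groth.Agent.S9912.isQuasiCompactMor_of_repWith (IsAlgSpace.yon_obj _) hX.diag p.toHom hp
  have h2 : IsQuasiCompactMor (p.toHom ≫ f) :=
    Groth.Agent.Lib.Helper12.Proper.isQuasiCompactMor_comp hX hY p.toHom f h1 hq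
  have h3 : RepWith @QuasiCompact (p.toHom ≫ f) :=
    Groth.Agent.S9912.repWith_quasiCompact_of_isQuasiCompactMor _ (hY.representable_from_yon _) h2
  rw [← hc] at h3
  exact repWith_quasiCompact_of_comp_surjective c q'.toHom (hY.representable_from_yon _) h3

end Groth.Agent.Lib.Seat83.QcEtDescent
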