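-- helper83 (seat 83): skew-hermitian 2×2 forms over a ring with involution: explicit symplectic
-- basis after adjoining a square root.
import Mathlib

set_option autoImplicit false

namespace Groth.Agent.Lib.Seat83.RInv

open Matrix

section Gram

variable {C : Type*} [CommRing C] (μ : C →+* C)

/-- The Gram matrix of the explicit basis `(1, x)`, `(y, w + y x)`. -/
theorem gram_eq (hμ : ∀ z, μ (μ z) = z) (a b c d x y w half : C)
    (hd : μ d = -d) (hb : μ b = -c)
    (hhalf : 2 * half = 1) (hμhalf : μ half = half)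
    (E1 : a + μ x * c + x * b + μ x * x * d = 0)
    (E2 : (b + μ x * d) * w = 1)
    (hy : y = half * d * w * μ w) :
    ((Matrix.of ![![1, y], ![x, w + y * x]]).map μ).transpose * Matrix.of ![![a, b], ![c, d]] *
        Matrix.of ![![1, y], ![x, w + y * x]] = Matrix.of ![![0, 1], ![-1, 0]] := by
  have E2' : (c + d * x) * μ w = -1 := by
    have h := congrArg μ E2
    simp only [map_mul, map_add, map_one, hμ, hb, hd] at h
    linear_combination -h
  have hμy : μ y = -y := by
    rw [hy]
    simp only [map_mul, hμ, hμhalf, hd]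
    ring
  ext i j
  fin_cases i <;> fin_cases j
  · simp [Matrix.mul_apply, Fin.sum_univ_two]
    linear_combination E1
  · simp [Matrix.mul_apply, Fin.sum_univ_two]
    linear_combination y * E1 + E2
  · simp [Matrix.mul_apply, Fin.sum_univ_two]
    linear_combination μ y * E1 + E2'
  · simp [Matrix.mul_apply, Fin.sum_univ_two, hμy]
    linear_combination (-y * y) * E1 + (-y) * E2 + y * E2' + (-(d * w * μ w)) * hhalf +
      (-2) * hy

/-- Existence of the isotropic vector and of the dual vector: the equations `E1`, `E2`. -/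
theorem exists_x_w (hμ : ∀ z, μ (μ z) = z) (a' b c d' binv σ σinv g ginv : C)
    (ha : μ a' = -a') (hd : μ d' = -d') (hb : μ b = -c) (hbinv : b * binv = 1)
    (hσ : μ σ = σ) (hσ2 : σ ^ 2 = 1 + 2 * a' * d') (hσinv : σ * σinv = 1)
    (hg : g = 1 + a' * d' + σ) (hginv : g * ginv = 1) :
    ∃ x w : C, 2 * a' + μ x * c + x * b + μ x * x * (d' * b * μ b) = 0 ∧
      (b + μ x * (d' * b * μ b)) * w = 1 := by
  have hμbinv : μ b * μ binv = 1 := by rw [← map_mul, hbinv, map_one]
  have hμg : μ g = g := by
    rw [hg]; simp only [map_add, map_mul, map_one, ha, hd, hσ]; ring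
  have hμginv : μ ginv = ginv := by
    have h1 : μ g * μ ginv = 1 := by rw [← map_mul, hginv, map_one]
    rw [hμg] at h1
    calc μ ginv = (g * ginv) * μ ginv := by rw [hginv, one_mul]
      _ = ginv * (g * μ ginv) := by ring
      _ = ginv := by rw [h1, mul_one]
  set β := a' ^ 2 * ginv with hβ
  have hβg : β * g = a' ^ 2 := by rw [hβ]; linear_combination a' ^ 2 * hginv
  have hμβ : μ β = β := by
    rw [hβ]; simp only [map_mul, map_pow, ha, hμginv]; ring
  have h1 : g ^ 2 - 2 * (1 + a' * d') * g + a' ^ 2 * d' ^ 2 = 0 := by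
    rw [hg]; linear_combination hσ2
  -- the quadratic equation for `β`
  have hq : d' ^ 2 * β ^ 2 - (2 + 2 * a' * d') * β + a' ^ 2 = 0 := by
    have h2 : g ^ 2 * (d' ^ 2 * β ^ 2 - (2 + 2 * a' * d') * β + a' ^ 2) = 0 := by
      linear_combination (d' ^ 2 * (β * g + a' ^ 2) - (2 + 2 * a' * d') * g) * hβg + a' ^ 2 * h1
    calc d' ^ 2 * β ^ 2 - (2 + 2 * a' * d') * β + a' ^ 2
        = (g * ginv) ^ 2 * (d' ^ 2 * β ^ 2 - (2 + 2 * a' * d') * β + a' ^ 2) := by
          rw [hginv]; ring
      _ = ginv ^ 2 * (g ^ 2 * (d' ^ 2 * β ^ 2 - (2 + 2 * a' * d') * β + a' ^ 2)) := by ring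
      _ = 0 := by rw [h2, mul_zero]
  set z := -a' + β * d' with hz
  have hμz : μ z = -z := by
    rw [hz]; simp only [map_add, map_neg, map_mul, ha, hd, hμβ]; ring
  have hzσ : 1 - z * d' = σ := by
    have h3 : g * (1 - z * d' - σ) = 0 := by
      rw [hz]
      linear_combination (-(d' ^ 2)) * hβg + (1 + a' * d' - σ) * hg + (-1) * hσ2
    have h4 : 1 - z * d' - σ = 0 := by
      calc 1 - z * d' - σ = (g * ginv) * (1 - z * d' - σ) := by rw [hginv, one_mul]
        _ = ginv * (g * (1 - z * d' - σ)) := by ring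
        _ = 0 := by rw [h3, mul_zero]
    linear_combination h4
  refine ⟨z * binv, binv * σinv, ?_, ?_⟩
  · have hμx : μ (z * binv) = -z * μ binv := by rw [map_mul, hμz]
    rw [hμx]
    have hc : c = -μ b := by rw [hb]; ring
    rw [hc]
    linear_combination (-(d')) * hq + (z - z * z * d' * b * binv) * hμbinv +
      (z - z * z * d') * hbinv + 0
  · have hμx : μ (z * binv) = -z * μ binv := by rw [map_mul, hμz]
    rw [hμx]
    linear_combination σinv * hzσ + hσinv + (σinv * (1 - z * d')) * hbinv +
      (-(z * d' * b * binv * σinv)) * hμbinv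

/-- A skew-hermitian form `[[a, b], [c, d]]` with `b` a unit becomes the standard alternating form
in a suitable basis, given a fixed square root `σ` of `1 + a d / (b μ(b))` such that
`1 + a d / (2 b μ(b)) + σ` is a unit. -/
theorem exists_symplectic (hμ : ∀ z, μ (μ z) = z) (a b c d binv half σ σinv ginv : C)
    (ha : μ a = -a) (hd : μ d = -d) (hb : μ b = -c) (hbinv : b * binv = 1)
    (hhalf : 2 * half = 1) (hμhalf : μ half = half)
    (hσ : μ σ = σ) (hσ2 : σ ^ 2 = 1 + a * d * binv * μ binv) (hσinv : σ * σinv = 1)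
    (hginv : (1 + half * a * d * binv * μ binv + σ) * ginv = 1) :
    ∃ v : Matrix (Fin 2) (Fin 2) C,
      (v.map μ).transpose * Matrix.of ![![a, b], ![c, d]] * v = Matrix.of ![![0, 1], ![-1, 0]] := by
  have hμbinv : μ b * μ binv = 1 := by rw [← map_mul, hbinv, map_one]
  obtain ⟨x, w, E1, E2⟩ := exists_x_w μ hμ (half * a) b c (d * binv * μ binv) binv σ σinv
    (1 + half * a * (d * binv * μ binv) + σ) ginv
    (by rw [map_mul, hμhalf, ha]; ring)
    (by rw [map_mul, map_mul, hμ, hd]; ring) hb hbinv hσ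
    (by rw [hσ2]; linear_combination (-(a * d * binv * μ binv)) * hhalf) hσinv rfl
    (by linear_combination hginv)
  have hd' : d * binv * μ binv * b * μ b = d := by
    linear_combination (d * μ binv * μ b) * hbinv + d * hμbinv
  have E1' : a + μ x * c + x * b + μ x * x * d = 0 := by
    rw [hd'] at E1
    linear_combination E1 + (-a) * hhalf
  have E2' : (b + μ x * d) * w = 1 := by
    rw [hd'] at E2
    exact E2
  exact ⟨_, gram_eq μ hμ a b c d x (half * d * w * μ w) w half hd hb hhalf hμhalf E1' E2' rfl⟩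

end Gram

end Groth.Agent.Lib.Seat83.RInv
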