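-- helper83 (seat 83): the symplectic normal form of a skew-hermitian 2×2 matrix over a ring with
-- involution, after adjoining a square root (concrete form of statement S17363).
import Groth.Agent.Lib.Seat83RInv1
import Groth.Prelude.Def_W4c2azumayainvolQEt

set_option autoImplicit false
universe u v

namespace Groth.Agent.Lib.Seat83.RInv

open scoped TensorProduct
open MvPolynomial

section Fixed

variable {B : Type u} {A : Type v} [CommRing B] [CommRing A] [Algebra B A] (lam : A ≃ₐ[B] A)
  (hB : _root_.RInv.IsFixedRing B A lam.toRingEquiv)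

include hB in
theorem exists_of_fixed (x : A) (hx : lam x = x) : ∃ β : B, algebraMap B A β = x :=
  (hB.2 x).mp hx

include hB in
theorem isUnit_of_isUnit_algebraMap (β : B) (h : IsUnit (algebraMap B A β)) : IsUnit β := by
  obtain ⟨u, hu⟩ := h
  have hi : algebraMap B A β * ↑u⁻¹ = 1 := by rw [← hu]; exact u.mul_inv
  have hfix : lam (↑u⁻¹ : A) = ↑u⁻¹ := by
    have h1 : lam (↑u⁻¹ : A) * algebraMap B A β = 1 := by
      have := congrArg lam hi
      rw [map_mul, map_one, AlgEquiv.commutes] at this
      rw [mul_comm]; exact this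
    calc lam (↑u⁻¹ : A) = lam (↑u⁻¹ : A) * (algebraMap B A β * ↑u⁻¹) := by rw [hi, mul_one]
      _ = (lam (↑u⁻¹ : A) * algebraMap B A β) * ↑u⁻¹ := by ring
      _ = ↑u⁻¹ := by rw [h1, one_mul]
  obtain ⟨γ, hγ⟩ := exists_of_fixed lam hB _ hfix
  refine IsUnit.of_mul_eq_one γ (hB.1 ?_)
  rw [map_mul, map_one, hγ, hi]

end Fixed

section Main

variable (B : Type u) (A : Type v) [CommRing B] [CommRing A] [Algebra B A] (lam : A ≃ₐ[B] A)

/-- The quotient ring `B[X, Y]/(X² - s, Y² - t)`. -/
abbrev Bsq (s t : B) : Type u :=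
  MvPolynomial (Fin 2) B ⧸ Ideal.span ({MvPolynomial.X 0 ^ 2 - MvPolynomial.C s,
    MvPolynomial.X 1 ^ 2 - MvPolynomial.C t} : Set (MvPolynomial (Fin 2) B))

variable {B}

/-- The class of `X`. -/
noncomputable def xi (s t : B) : Bsq B s t := Ideal.Quotient.mk _ (MvPolynomial.X 0)

theorem xi_sq (s t : B) : xi s t ^ 2 = algebraMap B (Bsq B s t) s := by
  have h : (MvPolynomial.X 0 ^ 2 - MvPolynomial.C s : MvPolynomial (Fin 2) B) ∈
      Ideal.span ({MvPolynomial.X 0 ^ 2 - MvPolynomial.C s,
        MvPolynomial.X 1 ^ 2 - MvPolynomial.C t} : Set (MvPolynomial (Fin 2) B)) :=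
    Ideal.subset_span (Set.mem_insert _ _)
  have h2 := Ideal.Quotient.eq_zero_iff_mem.mpr h
  rw [map_sub, map_pow, sub_eq_zero] at h2
  exact h2


end Main

section Local

variable {B : Type u} {A : Type v} [CommRing B] [CommRing A] [Algebra B A] (lam : A ≃ₐ[B] A)
  {L : Type*} [CommRing L] [Algebra B L]

/-- The extension of `lam` to `L ⊗[B] A`, as a ring homomorphism. -/
noncomputable def muHom : (L ⊗[B] A) →+* (L ⊗[B] A) :=
  ((Algebra.TensorProduct.congr (AlgEquiv.refl : L ≃ₐ[L] L) lam : (L ⊗[B] A) ≃ₐ[L] (L ⊗[B] A)) :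
    (L ⊗[B] A) →ₐ[L] (L ⊗[B] A)).toRingHom

theorem muHom_apply (z : L ⊗[B] A) :
    muHom lam (L := L) z = Algebra.TensorProduct.congr (AlgEquiv.refl : L ≃ₐ[L] L) lam z := rfl

theorem muHom_tmul (x : L) (y : A) : muHom lam (L := L) (x ⊗ₜ[B] y) = x ⊗ₜ[B] lam y := by
  rw [muHom_apply]; simp

theorem muHom_includeRight (y : A) :
    muHom lam (L := L) ((Algebra.TensorProduct.includeRight : A →ₐ[B] L ⊗[B] A) y) =
      (Algebra.TensorProduct.includeRight : A →ₐ[B] L ⊗[B] A) (lam y) := by
  rw [Algebra.TensorProduct.includeRight_apply, muHom_tmul,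
    Algebra.TensorProduct.includeRight_apply]

theorem muHom_includeLeft (x : L) :
    muHom lam (L := L) ((Algebra.TensorProduct.includeLeft : L →ₐ[B] L ⊗[B] A) x) =
      (Algebra.TensorProduct.includeLeft : L →ₐ[B] L ⊗[B] A) x := by
  rw [Algebra.TensorProduct.includeLeft_apply, muHom_tmul, map_one]

theorem muHom_invol (hlam : ∀ a, lam (lam a) = a) (z : L ⊗[B] A) :
    muHom lam (L := L) (muHom lam (L := L) z) = z := by
  induction z using TensorProduct.induction_on with
  | zero => simp
  | tmul x y => rw [muHom_tmul, muHom_tmul, hlam]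
  | add x y hx hy => rw [map_add, map_add, hx, hy]


/-- The local step: over a `B`-algebra `L` containing a square root `σL` of `1 + e` such that
`1 + e/2 + σL` is invertible, the skew-hermitian matrix `h` becomes standard alternating. -/
theorem local_step (hlam : ∀ a, lam (lam a) = a) (h : Matrix (Fin 2) (Fin 2) A)
    (herm : -(h.map lam).transpose = h) (binv half : A) (s gB sinvB : B) (σL ginvL : L)
    (hbinv : h 0 1 * binv = 1) (hhalf : 2 * half = 1) (hlamhalf : lam half = half)
    (hs : algebraMap B A s = 1 + h 0 0 * h 1 1 * binv * lam binv)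
    (hgB : algebraMap B A gB = 1 + half * h 0 0 * h 1 1 * binv * lam binv)
    (hsinv : s * sinvB = 1)
    (hσL : σL ^ 2 = algebraMap B L s)
    (hginvL : (algebraMap B L gB + σL) * ginvL = 1) :
    ∃ v : Matrix (Fin 2) (Fin 2) (L ⊗[B] A), IsUnit v ∧
      (v.map (Algebra.TensorProduct.congr (AlgEquiv.refl : L ≃ₐ[L] L) lam)).transpose *
        h.map (Algebra.TensorProduct.includeRight : A →ₐ[B] L ⊗[B] A) * v =
      (Matrix.of ![![(0 : A), 1], ![-1, 0]]).map
        (Algebra.TensorProduct.includeRight : A →ₐ[B] L ⊗[B] A) := by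
  set ιA : A →ₐ[B] L ⊗[B] A := Algebra.TensorProduct.includeRight with hιA
  set ιL : L →ₐ[B] L ⊗[B] A := Algebra.TensorProduct.includeLeft with hιL
  have hcomm : ∀ β : B, ιL (algebraMap B L β) = ιA (algebraMap B A β) := by
    intro β; rw [AlgHom.commutes, AlgHom.commutes]
  have h00 : lam (h 0 0) = -h 0 0 := by
    have := congrFun (congrFun herm 0) 0
    simp only [Matrix.neg_apply, Matrix.transpose_apply, Matrix.map_apply] at this
    linear_combination (-1 : A) * this
  have h11 : lam (h 1 1) = -h 1 1 := by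
    have := congrFun (congrFun herm 1) 1
    simp only [Matrix.neg_apply, Matrix.transpose_apply, Matrix.map_apply] at this
    linear_combination (-1 : A) * this
  have h01 : lam (h 0 1) = -h 1 0 := by
    have := congrFun (congrFun herm 1) 0
    simp only [Matrix.neg_apply, Matrix.transpose_apply, Matrix.map_apply] at this
    rw [← this]; simp
  have hμA : ∀ y : A, muHom lam (L := L) (ιA y) = ιA (lam y) := muHom_includeRight lam
  have hμL : ∀ x : L, muHom lam (L := L) (ιL x) = ιL x := muHom_includeLeft lam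
  obtain ⟨v, hv⟩ := exists_symplectic (muHom lam (L := L)) (muHom_invol lam hlam)
    (ιA (h 0 0)) (ιA (h 0 1)) (ιA (h 1 0)) (ιA (h 1 1)) (ιA binv) (ιA half)
    (ιL σL) (ιL σL * ιA (algebraMap B A sinvB)) (ιL ginvL)
    (by rw [hμA, h00, map_neg]) (by rw [hμA, h11, map_neg]) (by rw [hμA, h01, map_neg])
    (by rw [← map_mul, hbinv, map_one])
    (by have := congrArg ιA hhalf; rwa [map_mul, map_ofNat, map_one] at this)
    (by rw [hμA, hlamhalf]) (hμL σL)
    (by
      rw [hμA, ← map_pow, hσL, hcomm, hs]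
      simp only [map_add, map_mul, map_one])
    (by
      have : ιL σL * (ιL σL * ιA (algebraMap B A sinvB)) =
          ιL (σL ^ 2) * ιA (algebraMap B A sinvB) := by rw [map_pow]; ring
      rw [this, hσL, hcomm, ← map_mul, ← map_mul, hsinv, map_one, map_one])
    (by
      have : (1 + ιA half * ιA (h 0 0) * ιA (h 1 1) * ιA binv * muHom lam (L := L) (ιA binv)) =
          ιL (algebraMap B L gB) := by
        rw [hcomm, hgB, hμA]; simp only [map_add, map_mul, map_one]
      rw [this, ← map_add, ← map_mul, hginvL, map_one])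
  have hH : h.map ιA = Matrix.of ![![ιA (h 0 0), ιA (h 0 1)], ![ιA (h 1 0), ιA (h 1 1)]] := by
    ext i j; fin_cases i <;> fin_cases j <;> rfl
  have hJ : (Matrix.of ![![(0 : A), 1], ![-1, 0]]).map ιA =
      Matrix.of ![![(0 : L ⊗[B] A), 1], ![-1, 0]] := by
    ext i j; fin_cases i <;> fin_cases j <;> simp
  have hmap : v.map (Algebra.TensorProduct.congr (AlgEquiv.refl : L ≃ₐ[L] L) lam) =
      v.map (muHom lam (L := L)) := rfl
  refine ⟨v, ?_, ?_⟩
  · have hJJ : (Matrix.of ![![(0 : L ⊗[B] A), 1], ![-1, 0]]) *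
        (Matrix.of ![![(0 : L ⊗[B] A), 1], ![-1, 0]]) = -1 := by
      ext i j; fin_cases i <;> fin_cases j <;> simp [Matrix.mul_apply, Fin.sum_univ_two]
    refine (Matrix.isUnit_iff_isUnit_det _).mpr (Matrix.isUnit_det_of_left_inverse
      (B := -(Matrix.of ![![(0 : L ⊗[B] A), 1], ![-1, 0]]) *
      ((v.map (muHom lam (L := L))).transpose *
        Matrix.of ![![ιA (h 0 0), ιA (h 0 1)], ![ιA (h 1 0), ιA (h 1 1)]])) ?_)
    rw [Matrix.mul_assoc, hv, Matrix.neg_mul, hJJ, neg_neg]
  · rw [hmap, hH, hJ]; exact hv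

end Local

section MainThm

variable {B : Type u} {A : Type v} [CommRing B] [CommRing A] [Algebra B A] (lam : A ≃ₐ[B] A)

theorem isUnit_one_add_of_mem_jacobson {x : A} (hx : x ∈ Ring.jacobson A) : IsUnit (1 + x) := by
  have := Ideal.mem_jacobson_bot.mp (Ideal.jacobson_bot (R := A) ▸ hx) 1
  rwa [mul_one, add_comm] at this

/-- The local step over the localisation of `B[X, Y]/(X² - s, Y² - t)` at `F = g + σ₀`, where
`σ₀` is a square root of `s`. -/
theorem cover_step (hlam : ∀ a, lam (lam a) = a) (h : Matrix (Fin 2) (Fin 2) A)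
    (herm : -(h.map lam).transpose = h) (binv half : A) (s t gB sinvB : B)
    (hbinv : h 0 1 * binv = 1) (hhalf : 2 * half = 1) (hlamhalf : lam half = half)
    (hs : algebraMap B A s = 1 + h 0 0 * h 1 1 * binv * lam binv)
    (hgB : algebraMap B A gB = 1 + half * h 0 0 * h 1 1 * binv * lam binv)
    (hsinv : s * sinvB = 1) (F σ0 : Bsq B s t) (hσ0 : σ0 ^ 2 = algebraMap B (Bsq B s t) s)
    (hF : F = algebraMap B (Bsq B s t) gB + σ0) :
    ∃ v : Matrix (Fin 2) (Fin 2) (Localization.Away F ⊗[B] A), IsUnit v ∧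
      (v.map (Algebra.TensorProduct.congr (AlgEquiv.refl :
        Localization.Away F ≃ₐ[Localization.Away F] Localization.Away F) lam)).transpose *
        h.map (Algebra.TensorProduct.includeRight : A →ₐ[B] Localization.Away F ⊗[B] A) * v =
      (Matrix.of ![![(0 : A), 1], ![-1, 0]]).map
        (Algebra.TensorProduct.includeRight : A →ₐ[B] Localization.Away F ⊗[B] A) := by
  obtain ⟨ginvL, hginvL⟩ :=
    (IsLocalization.Away.algebraMap_isUnit (S := Localization.Away F) F).exists_right_inv
  refine local_step lam hlam h herm binv half s gB sinvB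
    (algebraMap (Bsq B s t) (Localization.Away F) σ0) ginvL
    hbinv hhalf hlamhalf hs hgB hsinv ?_ ?_
  · rw [← map_pow, hσ0, ← IsScalarTower.algebraMap_apply]
  · rw [IsScalarTower.algebraMap_apply B (Bsq B s t) (Localization.Away F), ← map_add, ← hF]
    exact hginvL

/-- The two elements `g + X`, `g - X` of `B[X, Y]/(X² - s, Y² - t)`. -/
noncomputable def coverFun (s t gB : B) : Fin 2 → Bsq B s t :=
  fun i => algebraMap B (Bsq B s t) gB + ![xi s t, -xi s t] i

theorem coverFun_sq (s t : B) (i : Fin 2) :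
    (![xi s t, -xi s t] i) ^ 2 = algebraMap B (Bsq B s t) s := by
  fin_cases i
  · exact xi_sq s t
  · show (-xi s t) ^ 2 = _
    rw [← xi_sq s t]; ring

theorem coverFun_span (s t gB : B) (h2 : IsUnit (2 : B)) (hg : IsUnit gB) :
    Ideal.span (Set.range (coverFun s t gB)) = ⊤ := by
  refine Ideal.eq_top_of_isUnit_mem _ (x := algebraMap B (Bsq B s t) (2 * gB)) ?_
    ((h2.mul hg).map _)
  have h0 : algebraMap B (Bsq B s t) gB + xi s t ∈ Ideal.span (Set.range (coverFun s t gB)) :=
    Ideal.subset_span ⟨0, rfl⟩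
  have h1 : algebraMap B (Bsq B s t) gB + -xi s t ∈ Ideal.span (Set.range (coverFun s t gB)) :=
    Ideal.subset_span ⟨1, rfl⟩
  have h01 := Ideal.add_mem _ h0 h1
  have hsum : algebraMap B (Bsq B s t) (2 * gB) =
      (algebraMap B (Bsq B s t) gB + xi s t) + (algebraMap B (Bsq B s t) gB + -xi s t) := by
    rw [map_mul, map_ofNat]; ring
  rw [hsum]; exact h01

/-- Concrete form of the statement: the skew-hermitian matrix `h`, congruent to the standard
alternating matrix modulo the Jacobson radical, becomes standard alternating over the two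
localisations of `B[X, Y]/(X² - s, Y² - 1)` at `g ± X`, for suitable `s` and `g`. -/
theorem exists_sqrt_cover (hlam : ∀ a, lam (lam a) = a)
    (hB : _root_.RInv.IsFixedRing B A lam.toRingEquiv) (h2 : IsUnit (2 : A))
    (h : Matrix (Fin 2) (Fin 2) A) (herm : -(h.map lam).transpose = h)
    (hJ : ∀ i j : Fin 2, h i j - Matrix.of ![![(0 : A), 1], ![-1, 0]] i j ∈ Ring.jacobson A) :
    ∃ (s t : Bˣ) (r : ℕ) (f : Fin r → (MvPolynomial (Fin 2) B ⧸ Ideal.span
        ({MvPolynomial.X 0 ^ 2 - MvPolynomial.C (s : B),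
          MvPolynomial.X 1 ^ 2 - MvPolynomial.C (t : B)} : Set (MvPolynomial (Fin 2) B)))),
      Ideal.span (Set.range f) = ⊤ ∧
      ∀ i : Fin r, ∃ v : Matrix (Fin 2) (Fin 2) (Localization.Away (f i) ⊗[B] A), IsUnit v ∧
        (v.map (Algebra.TensorProduct.congr (AlgEquiv.refl :
          Localization.Away (f i) ≃ₐ[Localization.Away (f i)] Localization.Away (f i))
            lam)).transpose *
          h.map (Algebra.TensorProduct.includeRight : A →ₐ[B] Localization.Away (f i) ⊗[B] A) * v
          = (Matrix.of ![![(0 : A), 1], ![-1, 0]]).map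
            (Algebra.TensorProduct.includeRight : A →ₐ[B] Localization.Away (f i) ⊗[B] A) := by
  have ha : h 0 0 ∈ Ring.jacobson A := by simpa using hJ 0 0
  have hb : h 0 1 - 1 ∈ Ring.jacobson A := by simpa using hJ 0 1
  have hbu : IsUnit (h 0 1) := by
    have := isUnit_one_add_of_mem_jacobson hb
    rwa [add_sub_cancel] at this
  obtain ⟨binv, hbinv⟩ := hbu.exists_right_inv
  obtain ⟨half, hhalf⟩ := h2.exists_right_inv
  have hlamhalf : lam half = half := by
    have h1 : 2 * lam half = 1 := by
      have := congrArg lam hhalf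
      rwa [map_mul, map_ofNat, map_one] at this
    calc lam half = (2 * half) * lam half := by rw [hhalf, one_mul]
      _ = half * (2 * lam half) := by ring
      _ = half := by rw [h1, mul_one]
  have h00 : lam (h 0 0) = -h 0 0 := by
    have := congrFun (congrFun herm 0) 0
    simp only [Matrix.neg_apply, Matrix.transpose_apply, Matrix.map_apply] at this
    linear_combination (-1 : A) * this
  have h11 : lam (h 1 1) = -h 1 1 := by
    have := congrFun (congrFun herm 1) 1
    simp only [Matrix.neg_apply, Matrix.transpose_apply, Matrix.map_apply] at this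
    linear_combination (-1 : A) * this
  set e := h 0 0 * h 1 1 * binv * lam binv with he
  have hefix : lam e = e := by
    rw [he]; simp only [map_mul, hlam, h00, h11]; ring
  have heJ : e ∈ Ring.jacobson A := by
    have : e = h 0 0 * (h 1 1 * binv * lam binv) := by rw [he]; ring
    rw [this]; exact Ideal.mul_mem_right _ _ ha
  obtain ⟨eB, heB⟩ := exists_of_fixed lam hB e hefix
  have hsu : IsUnit (1 + eB) := isUnit_of_isUnit_algebraMap lam hB _ (by
    rw [map_add, map_one, heB]; exact isUnit_one_add_of_mem_jacobson heJ)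
  have h2B : IsUnit (2 : B) := isUnit_of_isUnit_algebraMap lam hB _ (by
    rw [map_ofNat]; exact h2)
  obtain ⟨halfB, hhalfB⟩ := h2B.exists_right_inv
  have hhalfBA : algebraMap B A halfB = half := by
    have h1 : 2 * algebraMap B A halfB = 1 := by
      have := congrArg (algebraMap B A) hhalfB
      rwa [map_mul, map_ofNat, map_one] at this
    calc algebraMap B A halfB = (2 * half) * algebraMap B A halfB := by rw [hhalf, one_mul]
      _ = half * (2 * algebraMap B A halfB) := by ring
      _ = half := by rw [h1, mul_one]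
  have hsA : algebraMap B A (1 + eB) = 1 + h 0 0 * h 1 1 * binv * lam binv := by
    rw [map_add, map_one, heB]
  have hgBA : algebraMap B A (1 + halfB * eB) =
      1 + half * h 0 0 * h 1 1 * binv * lam binv := by
    rw [map_add, map_one, map_mul, heB, hhalfBA, he]; ring
  have hgu : IsUnit (1 + halfB * eB) := isUnit_of_isUnit_algebraMap lam hB _ (by
    rw [map_add, map_one, map_mul, heB, hhalfBA]
    exact isUnit_one_add_of_mem_jacobson (Ideal.mul_mem_left _ _ heJ))
  obtain ⟨sinvB, hsinv⟩ := hsu.exists_right_inv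
  obtain ⟨s, hs⟩ : ∃ s : Bˣ, (s : B) = 1 + eB := hsu
  rw [← hs] at hsA hsinv
  exact ⟨s, 1, 2, coverFun (s : B) ((1 : Bˣ) : B) (1 + halfB * eB),
    coverFun_span _ _ _ h2B hgu, fun i =>
      cover_step lam hlam h herm binv half (s : B) ((1 : Bˣ) : B) (1 + halfB * eB) sinvB
        hbinv hhalf hlamhalf hsA hgBA hsinv _ _ (coverFun_sq _ _ i) rfl⟩

end MainThm

end Groth.Agent.Lib.Seat83.RInv
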