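-- helper83 (seat 83): spreading out from the localisation at a prime: localisation properties
-- (as `IsLocalizedModule` over the base ring) of the rings `R[X_k]/(X_k² - s_k)`, of their
-- localisations away from an element and of tensor products.
import Groth.Agent.Lib.Seat83RInv2

set_option autoImplicit false
universe u v

namespace Groth.Agent.Lib.Seat83.RInv

open scoped TensorProduct
open MvPolynomial

section Family

variable {B : Type*} [CommRing B] (M : Submonoid B) {T T' : Type*} [AddCommGroup T] [Module B T]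
  [AddCommGroup T'] [Module B T'] (g : T →ₗ[B] T') [IsLocalizedModule M g]

/-- A finite family of elements has a common denominator. -/
theorem family_surj {ι : Type*} [Finite ι] (y : ι → T') :
    ∃ m : M, ∃ x : ι → T, ∀ i, (m : B) • y i = g (x i) := by
  obtain ⟨m, hm⟩ := IsLocalizedModule.exist_integer_multiples_of_finite M g y
  choose x hx using hm
  exact ⟨m, x, fun i => (hx i).symm⟩

/-- Finitely many equalities holding in the localisation hold after multiplying by a common
element. -/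
theorem family_inj {ι : Type*} [Finite ι] (x₁ x₂ : ι → T) (h : ∀ i, g (x₁ i) = g (x₂ i)) :
    ∃ m : M, ∀ i, (m : B) • x₁ i = (m : B) • x₂ i := by
  classical
  cases nonempty_fintype ι
  choose c hc using fun i => IsLocalizedModule.exists_of_eq (S := M) (h i)
  refine ⟨∏ i, c i, fun i => ?_⟩
  have h1 : ((∏ j, c j : M) : B) = (∏ j ∈ Finset.univ.erase i, (c j : B)) * (c i : B) := by
    rw [Submonoid.coe_finsetProd, Finset.prod_erase_mul _ _ (Finset.mem_univ i)]
  have h2 := hc i
  rw [Submonoid.smul_def, Submonoid.smul_def] at h2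
  rw [h1, mul_smul, mul_smul, h2]

end Family

section Base

variable {B : Type*} [CommRing B] (M N : Submonoid B)
  {R₁ R' : Type*} [CommRing R₁] [CommRing R'] [Algebra B R₁] [Algebra B R']
  [IsLocalization N R₁] [IsLocalization M R']

include N in
/-- A `B`-algebra map from a localisation at `N` to the localisation at `M` is a localisation
at `M` of `B`-modules. -/
theorem isLocalizedModule_of_le (φ : R₁ →ₐ[B] R') : IsLocalizedModule M φ.toLinearMap where
  map_units m := IsLocalizedModule.map_units (S := M) (Algebra.linearMap B R') m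
  surj y := by
    obtain ⟨⟨β, m⟩, h⟩ := IsLocalization.surj M y
    refine ⟨⟨algebraMap B R₁ β, m⟩, ?_⟩
    simp only [AlgHom.toLinearMap_apply, AlgHom.commutes, Submonoid.smul_def, Algebra.smul_def]
    rw [mul_comm]; exact h
  exists_of_eq {x₁ x₂} h := by
    obtain ⟨⟨β₁, n₁⟩, e₁⟩ := IsLocalization.surj N x₁
    obtain ⟨⟨β₂, n₂⟩, e₂⟩ := IsLocalization.surj N x₂
    simp only at e₁ e₂
    simp only [AlgHom.toLinearMap_apply] at h
    have h1 : algebraMap B R' (β₁ * n₂) = algebraMap B R' (β₂ * n₁) := by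
      have f₁ := congrArg φ e₁
      have f₂ := congrArg φ e₂
      rw [map_mul, AlgHom.commutes, AlgHom.commutes] at f₁ f₂
      rw [map_mul, map_mul, ← f₁, ← f₂, h]; ring
    obtain ⟨c, hc⟩ := (IsLocalization.eq_iff_exists M R').mp h1
    refine ⟨c, ?_⟩
    have hu : IsUnit (algebraMap B R₁ n₁ * algebraMap B R₁ n₂) :=
      (IsLocalization.map_units R₁ n₁).mul (IsLocalization.map_units R₁ n₂)
    apply hu.mul_left_injective
    simp only [Submonoid.smul_def, Algebra.smul_def]
    have g₁ : algebraMap B R₁ c * x₁ * (algebraMap B R₁ n₁ * algebraMap B R₁ n₂) =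
        algebraMap B R₁ (c * (β₁ * n₂)) := by
      rw [map_mul, map_mul, ← e₁]; ring
    have g₂ : algebraMap B R₁ c * x₂ * (algebraMap B R₁ n₁ * algebraMap B R₁ n₂) =
        algebraMap B R₁ (c * (β₂ * n₁)) := by
      rw [map_mul, map_mul, ← e₂]; ring
    rw [g₁, g₂, hc]

end Base

section Units

variable {B : Type*} [CommRing B]

/-- In the target of a localisation map of `B`-algebras the elements of `M` are units. -/
theorem isUnit_algebraMap_of_isLocalizedModule (M : Submonoid B) {T₁ T' : Type*} [CommRing T₁]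
    [CommRing T'] [Algebra B T₁] [Algebra B T'] (ψ : T₁ →ₐ[B] T')
    [IsLocalizedModule M ψ.toLinearMap] (m : M) : IsUnit (algebraMap B T' m) := by
  have := IsLocalizedModule.map_units (S := M) ψ.toLinearMap m
  rwa [← (Algebra.lmul B T').commutes, Algebra.lmul_isUnit_iff] at this

theorem map_units_of_isUnit_algebraMap (M : Submonoid B) {T' : Type*}
    [CommRing T'] [Algebra B T'] (h : ∀ m : M, IsUnit (algebraMap B T' m)) (m : M) :
    IsUnit (algebraMap B (Module.End B T') m) := by
  rw [← (Algebra.lmul B T').commutes, Algebra.lmul_isUnit_iff]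
  exact h m

theorem quot_mk_smul {T : Type*} [CommRing T] [Algebra B T] (I : Ideal T) (b : B) (x : T) :
    Ideal.Quotient.mk I (b • x) = b • Ideal.Quotient.mk I x :=
  map_smul (Ideal.Quotient.mkₐ B I) b x

end Units

section Poly

variable {B : Type*} [CommRing B] (M : Submonoid B)
  {R₁ R' : Type*} [CommRing R₁] [CommRing R'] [Algebra B R₁] [Algebra B R']
  (φ : R₁ →ₐ[B] R') [IsLocalizedModule M φ.toLinearMap] {σ : Type*}

theorem smul_C' (b : B) (a : R') : b • (C a : MvPolynomial σ R') = C (b • a) := by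
  simp only [C_apply, smul_monomial]

/-- Polynomials over the localisation have a multiple coming from the ring below. -/
theorem poly_surj (P' : MvPolynomial σ R') :
    ∃ m : M, ∃ P₁ : MvPolynomial σ R₁, (m : B) • P' = MvPolynomial.mapAlgHom φ P₁ := by
  induction P' using MvPolynomial.induction_on with
  | C a =>
    obtain ⟨⟨x, m⟩, h⟩ := IsLocalizedModule.surj M φ.toLinearMap a
    refine ⟨m, C x, ?_⟩
    rw [MvPolynomial.mapAlgHom_apply, MvPolynomial.map_C, smul_C']
    congr 1
  | add p q hp hq =>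
    obtain ⟨m, P, hP⟩ := hp
    obtain ⟨n, Q, hQ⟩ := hq
    refine ⟨m * n, (n : B) • P + (m : B) • Q, ?_⟩
    rw [map_add, map_smul, map_smul, ← hP, ← hQ, smul_add, Submonoid.coe_mul, smul_smul,
      smul_smul, mul_comm (n : B)]
  | mul_X p k hp =>
    obtain ⟨m, P, hP⟩ := hp
    refine ⟨m, P * X k, ?_⟩
    rw [map_mul, ← hP, MvPolynomial.mapAlgHom_apply, MvPolynomial.map_X, smul_mul_assoc]

/-- A polynomial which dies over the localisation is killed by an element of `M`. -/
theorem poly_inj (P₁ : MvPolynomial σ R₁) (h : MvPolynomial.mapAlgHom φ P₁ = 0) :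
    ∃ m : M, (m : B) • P₁ = 0 := by
  classical
  have hc : ∀ d : σ →₀ ℕ, φ.toLinearMap (coeff d P₁) = φ.toLinearMap 0 := by
    intro d
    have := congrArg (coeff d) h
    rw [MvPolynomial.mapAlgHom_apply, MvPolynomial.coeff_map, coeff_zero] at this
    simpa using this
  choose c hcc using fun d => IsLocalizedModule.exists_of_eq (S := M) (hc d)
  refine ⟨∏ d ∈ P₁.support, c d, ?_⟩
  ext d
  rw [coeff_smul, coeff_zero]
  by_cases hd : d ∈ P₁.support
  · have h1 : ((∏ e ∈ P₁.support, c e : M) : B) =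
        (∏ e ∈ P₁.support.erase d, (c e : B)) * (c d : B) := by
      rw [Submonoid.coe_finsetProd, Finset.prod_erase_mul _ _ hd]
    have h2 := hcc d
    rw [Submonoid.smul_def, Submonoid.smul_def, smul_zero] at h2
    rw [h1, mul_smul, h2, smul_zero]
  · rw [MvPolynomial.notMem_support_iff.mp hd, smul_zero]

/-- `R'[X]` is the localisation at `M` of `R₁[X]`. -/
theorem isLocalizedModule_mapAlgHom :
    IsLocalizedModule M (MvPolynomial.mapAlgHom φ (σ := σ)).toLinearMap where
  map_units := map_units_of_isUnit_algebraMap M fun m => by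
    have h1 := isUnit_algebraMap_of_isLocalizedModule M φ m
    rw [IsScalarTower.algebraMap_apply B R' (MvPolynomial σ R')]
    exact h1.map _
  surj y := by
    obtain ⟨m, P₁, h⟩ := poly_surj M φ y
    exact ⟨⟨P₁, m⟩, h⟩
  exists_of_eq {x₁ x₂} h := by
    have h0 : MvPolynomial.mapAlgHom φ (x₁ - x₂) = 0 := by
      rw [map_sub, sub_eq_zero]; exact h
    obtain ⟨m, hm⟩ := poly_inj M φ _ h0
    refine ⟨m, ?_⟩
    rw [Submonoid.smul_def, Submonoid.smul_def, ← sub_eq_zero, ← smul_sub]
    exact hm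

end Poly

section QU

/-- The ring `R[X_1, …, X_l]/(X_k² - s_k)` for units `s_k` of `R`. -/
abbrev QU (R : Type*) [CommRing R] (l : ℕ) (s : Fin l → Rˣ) : Type _ :=
  MvPolynomial (Fin l) R ⧸ Ideal.span (Set.range fun k : Fin l =>
    (MvPolynomial.X k ^ 2 - MvPolynomial.C (s k : R) : MvPolynomial (Fin l) R))

variable {B : Type*} [CommRing B]
  {R₁ R' : Type*} [CommRing R₁] [CommRing R'] [Algebra B R₁] [Algebra B R']
  (φ : R₁ →ₐ[B] R') {l : ℕ} (s₁ : Fin l → R₁ˣ) (s' : Fin l → R'ˣ)
  (hs : ∀ k, φ (s₁ k : R₁) = (s' k : R'))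

include hs in
theorem mapAlgHom_gen (k : Fin l) :
    MvPolynomial.mapAlgHom φ (X k ^ 2 - C (s₁ k : R₁) : MvPolynomial (Fin l) R₁) =
      X k ^ 2 - C (s' k : R') := by
  rw [map_sub, map_pow, MvPolynomial.mapAlgHom_apply, MvPolynomial.mapAlgHom_apply,
    MvPolynomial.map_X, MvPolynomial.map_C]
  congr 2
  exact hs k

/-- The map `R₁[X]/(X_k² - s_k) → R'[X]/(X_k² - φ(s_k))` induced by `φ`. -/
noncomputable def QU.map : QU R₁ l s₁ →ₐ[B] QU R' l s' :=
  Ideal.Quotient.liftₐ _ ((Ideal.Quotient.mkₐ B _).comp (MvPolynomial.mapAlgHom φ)) (by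
    intro a ha
    rw [AlgHom.comp_apply, Ideal.Quotient.mkₐ_eq_mk, Ideal.Quotient.eq_zero_iff_mem]
    refine Submodule.span_induction ?_ ?_ ?_ ?_ ha
    · rintro _ ⟨k, rfl⟩
      rw [mapAlgHom_gen φ s₁ s' hs k]
      exact Ideal.subset_span ⟨k, rfl⟩
    · rw [map_zero]; exact Ideal.zero_mem _
    · intro x y _ _ hx hy
      rw [map_add]; exact Ideal.add_mem _ hx hy
    · intro a x _ hx
      rw [smul_eq_mul, map_mul]; exact Ideal.mul_mem_left _ _ hx)

theorem QU.map_mk (P : MvPolynomial (Fin l) R₁) :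
    QU.map φ s₁ s' hs (Ideal.Quotient.mk _ P) =
      Ideal.Quotient.mk _ (MvPolynomial.mapAlgHom φ P) := rfl

variable (M : Submonoid B) [IsLocalizedModule M φ.toLinearMap]

/-- `R'[X]/(X_k² - s_k)` is the localisation at `M` of `R₁[X]/(X_k² - s_k)`. -/
theorem QU.isLocalizedModule_map : IsLocalizedModule M (QU.map φ s₁ s' hs).toLinearMap where
  map_units := map_units_of_isUnit_algebraMap M fun m => by
    have h1 := isUnit_algebraMap_of_isLocalizedModule M φ m
    rw [IsScalarTower.algebraMap_apply B R' (QU R' l s')]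
    exact h1.map _
  surj y := by
    obtain ⟨P', rfl⟩ := Ideal.Quotient.mk_surjective y
    obtain ⟨m, P₁, h⟩ := poly_surj M φ P'
    refine ⟨⟨Ideal.Quotient.mk _ P₁, m⟩, ?_⟩
    simp only [AlgHom.toLinearMap_apply, Submonoid.smul_def]
    rw [QU.map_mk, ← h]
    exact (quot_mk_smul _ _ _).symm
  exists_of_eq {x₁ x₂} h := by
    obtain ⟨P₁, rfl⟩ := Ideal.Quotient.mk_surjective x₁
    obtain ⟨P₂, rfl⟩ := Ideal.Quotient.mk_surjective x₂
    simp only [AlgHom.toLinearMap_apply, QU.map_mk] at h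
    rw [Ideal.Quotient.eq, ← map_sub, Ideal.mem_span_range_iff_exists_fun] at h
    obtain ⟨c', hc'⟩ := h
    have := isLocalizedModule_mapAlgHom M φ (σ := Fin l)
    obtain ⟨m, c₁, hc₁⟩ := family_surj M (MvPolynomial.mapAlgHom φ (σ := Fin l)).toLinearMap c'
    have h0 : MvPolynomial.mapAlgHom φ ((m : B) • (P₁ - P₂) -
        ∑ k, c₁ k * (X k ^ 2 - C (s₁ k : R₁))) = 0 := by
      rw [map_sub, map_smul, map_sum, ← hc', Finset.smul_sum, sub_eq_zero]
      refine Finset.sum_congr rfl fun k _ => ?_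
      rw [map_mul, mapAlgHom_gen φ s₁ s' hs k, ← smul_mul_assoc]
      congr 1
      exact hc₁ k
    obtain ⟨n, hn⟩ := poly_inj M φ _ h0
    refine ⟨n * m, ?_⟩
    rw [Submonoid.smul_def, Submonoid.smul_def, ← sub_eq_zero, ← smul_sub, Submonoid.coe_mul,
      mul_smul, ← map_sub]
    have h1 : (n : B) • ((m : B) • (P₁ - P₂)) =
        (n : B) • ∑ k, c₁ k * (X k ^ 2 - C (s₁ k : R₁)) := by
      rw [← sub_eq_zero, ← smul_sub]; exact hn
    have h2 : (n : B) • (m : B) • Ideal.Quotient.mk (Ideal.span (Set.range fun k : Fin l =>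
        (X k ^ 2 - C (s₁ k : R₁) : MvPolynomial (Fin l) R₁))) (P₁ - P₂) =
        Ideal.Quotient.mk _ ((n : B) • ((m : B) • (P₁ - P₂))) := by
      rw [quot_mk_smul, quot_mk_smul]
    rw [h2, h1, Ideal.Quotient.eq_zero_iff_mem]
    have h3 : ∑ k, c₁ k * (X k ^ 2 - C (s₁ k : R₁)) ∈ Ideal.span (Set.range fun k : Fin l =>
        (X k ^ 2 - C (s₁ k : R₁) : MvPolynomial (Fin l) R₁)) :=
      Ideal.sum_mem _ fun k _ => Ideal.mul_mem_left _ _ (Ideal.subset_span ⟨k, rfl⟩)
    have h4 : (n : B) • ∑ k, c₁ k * (X k ^ 2 - C (s₁ k : R₁)) =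
        algebraMap B (MvPolynomial (Fin l) R₁) n * ∑ k, c₁ k * (X k ^ 2 - C (s₁ k : R₁)) :=
      Algebra.smul_def _ _
    rw [h4]
    exact Ideal.mul_mem_left _ _ h3

end QU

section Away

variable {B : Type*} [CommRing B] (M : Submonoid B) {Q₁ Q' : Type*} [CommRing Q₁] [CommRing Q']
  [Algebra B Q₁] [Algebra B Q'] (κ : Q₁ →ₐ[B] Q') [IsLocalizedModule M κ.toLinearMap] (x₁ : Q₁)
  {C₁ C' : Type*} [CommRing C₁] [CommRing C'] [Algebra Q₁ C₁] [Algebra B C₁]
  [IsScalarTower B Q₁ C₁] [IsLocalization.Away x₁ C₁] [Algebra Q' C'] [Algebra B C']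
  [IsScalarTower B Q' C'] [IsLocalization.Away (κ x₁) C'] (γ : C₁ →ₐ[B] C')
  (hγ : ∀ q, γ (algebraMap Q₁ C₁ q) = algebraMap Q' C' (κ q))

include hγ x₁ in
/-- Localising away from an element commutes with localising at `M`. -/
theorem isLocalizedModule_away : IsLocalizedModule M γ.toLinearMap where
  map_units := map_units_of_isUnit_algebraMap M fun m => by
    have h1 := isUnit_algebraMap_of_isLocalizedModule M κ m
    rw [IsScalarTower.algebraMap_apply B Q' C']
    exact h1.map _
  surj c' := by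
    obtain ⟨n, a, ha⟩ := IsLocalization.Away.surj (κ x₁) c'
    obtain ⟨⟨a₁, m⟩, hm⟩ := IsLocalizedModule.surj M κ.toLinearMap a
    simp only [AlgHom.toLinearMap_apply, Submonoid.smul_def] at hm
    refine ⟨⟨IsLocalization.mk' C₁ a₁ (⟨x₁ ^ n, n, rfl⟩ : Submonoid.powers x₁), m⟩, ?_⟩
    simp only [AlgHom.toLinearMap_apply, Submonoid.smul_def]
    have hu : IsUnit (algebraMap Q' C' (κ x₁) ^ n) :=
      IsLocalization.Away.algebraMap_pow_isUnit (κ x₁) n
    apply hu.mul_left_injective
    simp only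
    have e1 : γ (IsLocalization.mk' C₁ a₁ (⟨x₁ ^ n, n, rfl⟩ : Submonoid.powers x₁)) *
        algebraMap Q' C' (κ x₁) ^ n = algebraMap Q' C' (κ a₁) := by
      rw [← map_pow, ← map_pow, ← hγ, ← map_mul, IsLocalization.mk'_spec, hγ]
    rw [e1, smul_mul_assoc, ha, ← hm, Algebra.smul_def, Algebra.smul_def, map_mul,
      IsScalarTower.algebraMap_apply B Q' C']
  exists_of_eq {c₁ c₂} h := by
    simp only [AlgHom.toLinearMap_apply] at h
    obtain ⟨n, a₁, ha⟩ := IsLocalization.Away.surj x₁ (c₁ - c₂)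
    have h0 : algebraMap Q' C' (κ a₁) = 0 := by
      rw [← hγ, ← ha, map_mul, map_sub, h, sub_self, zero_mul]
    obtain ⟨⟨_, j, rfl⟩, ht⟩ := (IsLocalization.map_eq_zero_iff (Submonoid.powers (κ x₁)) C' _).mp h0
    simp only at ht
    have h1 : κ.toLinearMap (x₁ ^ j * a₁) = κ.toLinearMap 0 := by
      simp only [AlgHom.toLinearMap_apply, map_mul, map_pow, map_zero]; exact ht
    obtain ⟨m, hm⟩ := IsLocalizedModule.exists_of_eq (S := M) h1
    rw [Submonoid.smul_def, Submonoid.smul_def, smul_zero] at hm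
    refine ⟨m, ?_⟩
    rw [Submonoid.smul_def, Submonoid.smul_def, ← sub_eq_zero, ← smul_sub]
    have hu : IsUnit (algebraMap Q₁ C₁ x₁ ^ n * algebraMap Q₁ C₁ x₁ ^ j) :=
      (IsLocalization.Away.algebraMap_pow_isUnit x₁ n).mul
        (IsLocalization.Away.algebraMap_pow_isUnit x₁ j)
    apply hu.mul_left_injective
    simp only
    rw [zero_mul, smul_mul_assoc, ← mul_assoc, ha, ← map_pow, ← map_mul, mul_comm a₁]
    have e : (m : B) • algebraMap Q₁ C₁ (x₁ ^ j * a₁) =
        algebraMap Q₁ C₁ ((m : B) • (x₁ ^ j * a₁)) := by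
      rw [Algebra.smul_def, Algebra.smul_def, IsScalarTower.algebraMap_apply B Q₁ C₁, ← map_mul]
    rw [e, hm, map_zero]

end Away

section Tensor

variable {B : Type*} [CommRing B] (M : Submonoid B) {C₁ C' : Type*} [CommRing C₁] [CommRing C']
  [Algebra B C₁] [Algebra B C'] (γ : C₁ →ₐ[B] C') [IsLocalizedModule M γ.toLinearMap]
  (A : Type*) [CommRing A] [Algebra B A]

/-- Tensoring with `A` preserves localisation maps. -/
theorem isLocalizedModule_tensor :
    IsLocalizedModule M (Algebra.TensorProduct.map γ (AlgHom.id B A)).toLinearMap := by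
  have h : (Algebra.TensorProduct.map γ (AlgHom.id B A)).toLinearMap =
      TensorProduct.AlgebraTensorModule.rTensor B A γ.toLinearMap := by
    apply TensorProduct.ext'
    intro x a
    simp
  rw [h]
  infer_instance

end Tensor

end Groth.Agent.Lib.Seat83.RInv
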