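-- helper83 (seat 83): spreading out a hermitian congruence from the localisation at a prime to a
-- basic open neighbourhood (concrete form of statement S17364).
import Groth.Agent.Lib.Seat83RInv3

set_option autoImplicit false
universe u v

namespace Groth.Agent.Lib.Seat83.RInv

open scoped TensorProduct
open MvPolynomial

section MatrixDescent

variable {B : Type*} [CommRing B] (M : Submonoid B) {F₁ F' : Type*} [CommRing F₁] [CommRing F']
  [Algebra B F₁] [Algebra B F'] (Γ : F₁ →ₐ[B] F') [IsLocalizedModule M Γ.toLinearMap]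
  (μ₁ : F₁ →+* F₁) (μ' : F' →+* F') (hμ : ∀ z, Γ (μ₁ z) = μ' (Γ z))
  (hμB : ∀ (b : B) (z : F'), μ' (b • z) = b • μ' z)

include hμ hμB in
/-- Descent of a congruence of matrices (and of a right inverse) along a localisation map. -/
theorem matrix_descent {n : ℕ} (H₁ H₁' : Matrix (Fin n) (Fin n) F₁)
    (v w : Matrix (Fin n) (Fin n) F')
    (hv : (v.map μ').transpose * H₁.map Γ * v = H₁'.map Γ) (hvw : v * w = 1) :
    ∃ (m₁ m₂ : M) (y z : Matrix (Fin n) (Fin n) F₁),
      (m₂ : B) • ((y.map μ₁).transpose * H₁ * y) = (m₂ : B) • ((m₁ : B) ^ 2 • H₁') ∧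
      (m₂ : B) • (y * z) = (m₂ : B) • ((m₁ : B) ^ 2 • (1 : Matrix (Fin n) (Fin n) F₁)) := by
  obtain ⟨m₁, x, hx⟩ := family_surj M Γ.toLinearMap
    (ι := (Fin n × Fin n) ⊕ (Fin n × Fin n))
    (Sum.elim (fun ij => v ij.1 ij.2) (fun ij => w ij.1 ij.2))
  set y : Matrix (Fin n) (Fin n) F₁ := Matrix.of fun i j => x (Sum.inl (i, j)) with hy
  set z : Matrix (Fin n) (Fin n) F₁ := Matrix.of fun i j => x (Sum.inr (i, j)) with hz
  have hyΓ : y.map Γ = (m₁ : B) • v := by
    ext i j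
    exact (hx (Sum.inl (i, j))).symm
  have hzΓ : z.map Γ = (m₁ : B) • w := by
    ext i j
    exact (hx (Sum.inr (i, j))).symm
  have hyμ : (y.map μ₁).map Γ = (m₁ : B) • v.map μ' := by
    ext i j
    simp only [Matrix.map_apply, Matrix.smul_apply, hμ]
    have := congrFun (congrFun hyΓ i) j
    simp only [Matrix.map_apply, Matrix.smul_apply] at this
    rw [this, hμB]
  have E1 : ((y.map μ₁).transpose * H₁ * y).map Γ = ((m₁ : B) ^ 2 • H₁').map Γ := by
    have e : ((m₁ : B) ^ 2 • H₁').map Γ = (m₁ : B) ^ 2 • H₁'.map Γ := by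
      ext i j; simp only [Matrix.map_apply, Matrix.smul_apply, map_smul]
    rw [Matrix.map_mul, Matrix.map_mul, Matrix.transpose_map, hyμ, hyΓ, e, ← hv]
    rw [Matrix.transpose_smul, Matrix.smul_mul, Matrix.smul_mul, Matrix.mul_smul, smul_smul, sq]
  have E2 : (y * z).map Γ = ((m₁ : B) ^ 2 • (1 : Matrix (Fin n) (Fin n) F₁)).map Γ := by
    have e : ((m₁ : B) ^ 2 • (1 : Matrix (Fin n) (Fin n) F₁)).map Γ =
        (m₁ : B) ^ 2 • (1 : Matrix (Fin n) (Fin n) F') := by
      ext i j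
      simp only [Matrix.map_apply, Matrix.smul_apply, map_smul]
      by_cases hij : i = j
      · subst hij; simp
      · simp [Matrix.one_apply_ne hij]
    rw [Matrix.map_mul, hyΓ, hzΓ, e, Matrix.smul_mul, Matrix.mul_smul, smul_smul, hvw, sq]
  obtain ⟨m₂, hm₂⟩ := family_inj M Γ.toLinearMap (ι := (Fin n × Fin n) ⊕ (Fin n × Fin n))
    (Sum.elim (fun ij => ((y.map μ₁).transpose * H₁ * y) ij.1 ij.2)
      (fun ij => (y * z) ij.1 ij.2))
    (Sum.elim (fun ij => ((m₁ : B) ^ 2 • H₁') ij.1 ij.2)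
      (fun ij => ((m₁ : B) ^ 2 • (1 : Matrix (Fin n) (Fin n) F₁)) ij.1 ij.2))
    (by
      rintro (⟨i, j⟩ | ⟨i, j⟩)
      · exact congrFun (congrFun E1 i) j
      · exact congrFun (congrFun E2 i) j)
  refine ⟨m₁, m₂, y, z, ?_, ?_⟩
  · ext i j
    exact hm₂ (Sum.inl (i, j))
  · ext i j
    exact hm₂ (Sum.inr (i, j))

end MatrixDescent

section Ascent

variable {B : Type*} {A : Type*} [CommRing B] [CommRing A] [Algebra B A] (lam : A ≃ₐ[B] A)
  {C₁ C : Type*} [CommRing C₁] [CommRing C] [Algebra B C₁] [Algebra B C] (θ : C₁ →ₐ[B] C)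

theorem muHom_map (z : C₁ ⊗[B] A) :
    muHom lam (L := C) (Algebra.TensorProduct.map θ (AlgHom.id B A) z) =
      Algebra.TensorProduct.map θ (AlgHom.id B A) (muHom lam (L := C₁) z) := by
  induction z using TensorProduct.induction_on with
  | zero => simp
  | tmul x a => simp [muHom_tmul]
  | add x y hx hy => rw [map_add, map_add, map_add, map_add, hx, hy]

theorem muHom_smul (b : B) (z : C ⊗[B] A) : muHom lam (L := C) (b • z) = b • muHom lam (L := C) z := by
  induction z using TensorProduct.induction_on with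
  | zero => simp
  | tmul x a => rw [TensorProduct.smul_tmul', muHom_tmul, muHom_tmul, TensorProduct.smul_tmul']
  | add x y hx hy => rw [smul_add, map_add, map_add, smul_add, hx, hy]

theorem map_includeRight (a : A) :
    Algebra.TensorProduct.map θ (AlgHom.id B A)
      ((Algebra.TensorProduct.includeRight : A →ₐ[B] C₁ ⊗[B] A) a) =
      (Algebra.TensorProduct.includeRight : A →ₐ[B] C ⊗[B] A) a := by
  simp

include θ in
/-- From a congruence up to `M`-torsion over `C₁ ⊗ A` to a congruence over `C ⊗ A` when the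
relevant elements of `B` are invertible in `C`. -/
theorem ascent {n : ℕ} (h h' : Matrix (Fin n) (Fin n) A) (m₁ m₂ : B)
    (hu₁ : IsUnit (algebraMap B C m₁)) (hu₂ : IsUnit (algebraMap B C m₂))
    (y z : Matrix (Fin n) (Fin n) (C₁ ⊗[B] A))
    (H1 : m₂ • ((y.map (muHom lam (L := C₁))).transpose *
        h.map (Algebra.TensorProduct.includeRight : A →ₐ[B] C₁ ⊗[B] A) * y) =
      m₂ • (m₁ ^ 2 • h'.map (Algebra.TensorProduct.includeRight : A →ₐ[B] C₁ ⊗[B] A)))
    (H2 : m₂ • (y * z) = m₂ • (m₁ ^ 2 • (1 : Matrix (Fin n) (Fin n) (C₁ ⊗[B] A)))) :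
    ∃ v : Matrix (Fin n) (Fin n) (C ⊗[B] A), IsUnit v ∧
      (v.map (Algebra.TensorProduct.congr (AlgEquiv.refl : C ≃ₐ[C] C) lam)).transpose *
        h.map (Algebra.TensorProduct.includeRight : A →ₐ[B] C ⊗[B] A) * v =
      h'.map (Algebra.TensorProduct.includeRight : A →ₐ[B] C ⊗[B] A) := by
  set Θ := Algebra.TensorProduct.map θ (AlgHom.id B A) with hΘ
  have hF₁ : IsUnit (algebraMap B (C ⊗[B] A) m₁) := by
    rw [IsScalarTower.algebraMap_apply B C (C ⊗[B] A)]; exact hu₁.map _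
  have hF₂ : IsUnit (algebraMap B (C ⊗[B] A) m₂) := by
    rw [IsScalarTower.algebraMap_apply B C (C ⊗[B] A)]; exact hu₂.map _
  obtain ⟨ν₁, hν₁⟩ := hF₁.exists_right_inv
  have hcancel : ∀ X X' : Matrix (Fin n) (Fin n) (C ⊗[B] A), m₂ • X = m₂ • X' → X = X' := by
    intro X X' hXX
    ext i j
    have := congrFun (congrFun hXX i) j
    simp only [Matrix.smul_apply, Algebra.smul_def] at this
    exact hF₂.mul_left_cancel this
  have hmapsmul : ∀ (b : B) (X : Matrix (Fin n) (Fin n) (C₁ ⊗[B] A)),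
      (b • X).map Θ = b • X.map Θ := by
    intro b X; ext i j; simp only [Matrix.map_apply, Matrix.smul_apply, map_smul]
  have hYlam : (y.map (muHom lam (L := C₁))).map Θ = (y.map Θ).map (muHom lam (L := C)) := by
    ext i j
    simp only [Matrix.map_apply]
    exact (muHom_map lam θ _).symm
  have hι : ∀ g : Matrix (Fin n) (Fin n) A,
      (g.map (Algebra.TensorProduct.includeRight : A →ₐ[B] C₁ ⊗[B] A)).map Θ =
        g.map (Algebra.TensorProduct.includeRight : A →ₐ[B] C ⊗[B] A) := by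
    intro g; ext i j
    simp only [Matrix.map_apply]
    exact map_includeRight θ _
  have K1 : ((y.map Θ).map (muHom lam (L := C))).transpose *
      h.map (Algebra.TensorProduct.includeRight : A →ₐ[B] C ⊗[B] A) * y.map Θ =
      m₁ ^ 2 • h'.map (Algebra.TensorProduct.includeRight : A →ₐ[B] C ⊗[B] A) := by
    apply hcancel
    have := congrArg (fun X => X.map Θ) H1
    rw [hmapsmul, hmapsmul, hmapsmul, Matrix.map_mul, Matrix.map_mul, Matrix.transpose_map,
      hYlam, hι, hι] at this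
    exact this
  have K2 : y.map Θ * z.map Θ = m₁ ^ 2 • (1 : Matrix (Fin n) (Fin n) (C ⊗[B] A)) := by
    apply hcancel
    have := congrArg (fun X => X.map Θ) H2
    rw [hmapsmul, hmapsmul, hmapsmul, Matrix.map_mul, Matrix.map_one Θ (map_zero Θ) (map_one Θ)]
      at this
    exact this
  have hν₁lam : muHom lam (L := C) ν₁ = ν₁ := by
    have h1 : muHom lam (L := C) (algebraMap B (C ⊗[B] A) m₁) = algebraMap B (C ⊗[B] A) m₁ := by
      rw [Algebra.algebraMap_eq_smul_one, muHom_smul, map_one]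
    have h2 : algebraMap B (C ⊗[B] A) m₁ * muHom lam (L := C) ν₁ = 1 := by
      rw [← h1, ← map_mul, hν₁, map_one]
    calc muHom lam (L := C) ν₁
        = (algebraMap B (C ⊗[B] A) m₁ * ν₁) * muHom lam (L := C) ν₁ := by rw [hν₁, one_mul]
      _ = ν₁ * (algebraMap B (C ⊗[B] A) m₁ * muHom lam (L := C) ν₁) := by ring
      _ = ν₁ := by rw [h2, mul_one]
  have hνsq : (ν₁ * ν₁) • (m₁ ^ 2 • (1 : C ⊗[B] A)) = 1 := by
    rw [smul_eq_mul, Algebra.smul_def (m₁ ^ 2) (1 : C ⊗[B] A), mul_one, map_pow]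
    linear_combination (algebraMap B (C ⊗[B] A) m₁ * ν₁ + 1) * hν₁
  have hsm : ∀ X : Matrix (Fin n) (Fin n) (C ⊗[B] A),
      (ν₁ * ν₁) • (m₁ ^ 2 • X) = X := by
    intro X; ext i j
    simp only [Matrix.smul_apply]
    have : (ν₁ * ν₁) • (m₁ ^ 2 • X i j) = ((ν₁ * ν₁) • (m₁ ^ 2 • (1 : C ⊗[B] A))) * X i j := by
      simp only [smul_eq_mul, Algebra.smul_def]; ring
    rw [this, hνsq, one_mul]
  have hvlam : (ν₁ • y.map Θ).map (muHom lam (L := C)) =
      ν₁ • (y.map Θ).map (muHom lam (L := C)) := by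
    ext i j
    simp only [Matrix.map_apply, Matrix.smul_apply, smul_eq_mul, map_mul, hν₁lam]
  refine ⟨ν₁ • y.map Θ, ?_, ?_⟩
  · refine (Matrix.isUnit_iff_isUnit_det _).mpr (Matrix.isUnit_det_of_right_inverse
      (B := ν₁ • z.map Θ) ?_)
    rw [Matrix.smul_mul, Matrix.mul_smul, smul_smul, K2, hsm]
  · have hmap : (ν₁ • y.map Θ).map (Algebra.TensorProduct.congr
        (AlgEquiv.refl : C ≃ₐ[C] C) lam) = (ν₁ • y.map Θ).map (muHom lam (L := C)) := rfl
    rw [hmap, hvlam, Matrix.transpose_smul, Matrix.smul_mul, Matrix.smul_mul, Matrix.mul_smul,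
      smul_smul, K1, hsm]

end Ascent

section Span

variable {B : Type*} [CommRing B] (M : Submonoid B)
  {R₁ R' R₂ : Type*} [CommRing R₁] [CommRing R'] [CommRing R₂] [Algebra B R₁] [Algebra B R']
  [Algebra B R₂] (φ : R₁ →ₐ[B] R') [IsLocalizedModule M φ.toLinearMap] (ρ : R₁ →ₐ[B] R₂)
  {l : ℕ} (s₁ : Fin l → R₁ˣ) (s' : Fin l → R'ˣ) (hs' : ∀ k, φ (s₁ k : R₁) = (s' k : R'))
  (s₂ : Fin l → R₂ˣ) (hs₂ : ∀ k, ρ (s₁ k : R₁) = (s₂ k : R₂))
  {r : ℕ} (f₁ : Fin r → QU R₁ l s₁)

/-- If the images of the `f₁ i` generate the unit ideal over the localisation, then a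
combination of them is an element of `M` up to `M`-torsion. -/
theorem span_descent
    (hspan : Ideal.span (Set.range fun i => QU.map φ s₁ s' hs' (f₁ i)) = ⊤) :
    ∃ (m₄ m₅ : M) (c₁ : Fin r → QU R₁ l s₁),
      (m₅ : B) • ∑ i, c₁ i * f₁ i = (m₅ : B) • ((m₄ : B) • (1 : QU R₁ l s₁)) := by
  have := QU.isLocalizedModule_map φ s₁ s' hs' M
  have h1 : (1 : QU R' l s') ∈ Ideal.span (Set.range fun i => QU.map φ s₁ s' hs' (f₁ i)) := by
    rw [hspan]; exact Submodule.mem_top
  obtain ⟨c', hc'⟩ := Ideal.mem_span_range_iff_exists_fun.mp h1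
  obtain ⟨m₄, c₁, hc₁⟩ := family_surj M (QU.map φ s₁ s' hs').toLinearMap c'
  have h2 : (QU.map φ s₁ s' hs').toLinearMap (∑ i, c₁ i * f₁ i) =
      (QU.map φ s₁ s' hs').toLinearMap ((m₄ : B) • (1 : QU R₁ l s₁)) := by
    simp only [AlgHom.toLinearMap_apply, map_sum, map_mul, map_smul, map_one]
    rw [← hc', Finset.smul_sum]
    refine Finset.sum_congr rfl fun i _ => ?_
    rw [← smul_mul_assoc]
    congr 1
    exact (hc₁ i).symm
  obtain ⟨m₅, hm₅⟩ := IsLocalizedModule.exists_of_eq (S := M) h2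
  exact ⟨m₄, m₅, c₁, hm₅⟩

/-- Conversely such a relation makes the images generate the unit ideal over any ring in which
the two elements of `M` become units. -/
theorem span_ascent (m₄ m₅ : B) (c₁ : Fin r → QU R₁ l s₁)
    (hrel : m₅ • ∑ i, c₁ i * f₁ i = m₅ • (m₄ • (1 : QU R₁ l s₁)))
    (hu₄ : IsUnit (algebraMap B R₂ m₄)) (hu₅ : IsUnit (algebraMap B R₂ m₅)) :
    Ideal.span (Set.range fun i => QU.map ρ s₁ s₂ hs₂ (f₁ i)) = ⊤ := by
  have h1 := congrArg (QU.map ρ s₁ s₂ hs₂) hrel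
  simp only [map_smul, map_sum, map_mul, map_one] at h1
  have e : ∀ (b : B) (x : QU R₂ l s₂), b • x = algebraMap B (QU R₂ l s₂) b * x :=
    fun b x => Algebra.smul_def b x
  refine Ideal.eq_top_of_isUnit_mem _ (x := m₅ • (m₄ • (1 : QU R₂ l s₂))) ?_ ?_
  · rw [← h1, e]
    refine Ideal.mul_mem_left _ _ (Ideal.sum_mem _ fun i _ => Ideal.mul_mem_left _ _ ?_)
    exact Ideal.subset_span ⟨i, rfl⟩
  · rw [e, e, mul_one,
      IsScalarTower.algebraMap_apply B R₂ (QU R₂ l s₂),
      IsScalarTower.algebraMap_apply B R₂ (QU R₂ l s₂) m₄]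
    exact (hu₅.map _).mul (hu₄.map _)

end Span

section MatrixStep

variable {B : Type*} {A : Type*} [CommRing B] [CommRing A] [Algebra B A] (lam : A ≃ₐ[B] A)
  (M : Submonoid B)
  {R₁ R' : Type*} [CommRing R₁] [CommRing R'] [Algebra B R₁] [Algebra B R']
  (φ : R₁ →ₐ[B] R') [IsLocalizedModule M φ.toLinearMap]
  {l : ℕ} (s₁ : Fin l → R₁ˣ) (s' : Fin l → R'ˣ) (hs' : ∀ k, φ (s₁ k : R₁) = (s' k : R'))

/-- Descent of a congruence over the localisation of `R'[X]/(X² - s')` at the image of `x₁` to a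
congruence up to `M`-torsion over the localisation of `R₁[X]/(X² - s₁)` at `x₁`. -/
theorem matrix_step {n : ℕ} (h h' : Matrix (Fin n) (Fin n) A) (x₁ : QU R₁ l s₁)
    (hv : ∃ v : Matrix (Fin n) (Fin n) (Localization.Away (QU.map φ s₁ s' hs' x₁) ⊗[B] A),
      IsUnit v ∧
      (v.map (Algebra.TensorProduct.congr (AlgEquiv.refl : Localization.Away
        (QU.map φ s₁ s' hs' x₁) ≃ₐ[Localization.Away (QU.map φ s₁ s' hs' x₁)]
          Localization.Away (QU.map φ s₁ s' hs' x₁)) lam)).transpose *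
        h.map (Algebra.TensorProduct.includeRight :
          A →ₐ[B] Localization.Away (QU.map φ s₁ s' hs' x₁) ⊗[B] A) * v =
      h'.map (Algebra.TensorProduct.includeRight :
          A →ₐ[B] Localization.Away (QU.map φ s₁ s' hs' x₁) ⊗[B] A)) :
    ∃ (m₁ m₂ : M) (y z : Matrix (Fin n) (Fin n) (Localization.Away x₁ ⊗[B] A)),
      (m₂ : B) • ((y.map (muHom lam (L := Localization.Away x₁))).transpose *
        h.map (Algebra.TensorProduct.includeRight : A →ₐ[B] Localization.Away x₁ ⊗[B] A) * y) =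
      (m₂ : B) • ((m₁ : B) ^ 2 •
        h'.map (Algebra.TensorProduct.includeRight : A →ₐ[B] Localization.Away x₁ ⊗[B] A)) ∧
      (m₂ : B) • (y * z) = (m₂ : B) • ((m₁ : B) ^ 2 •
        (1 : Matrix (Fin n) (Fin n) (Localization.Away x₁ ⊗[B] A))) := by
  have hκ := QU.isLocalizedModule_map φ s₁ s' hs' M
  have hf : ∀ y : Submonoid.powers x₁,
      IsUnit (((IsScalarTower.toAlgHom B (QU R' l s')
        (Localization.Away (QU.map φ s₁ s' hs' x₁))).comp (QU.map φ s₁ s' hs')) y) := by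
    rintro ⟨_, j, rfl⟩
    simp only [AlgHom.comp_apply, map_pow, IsScalarTower.coe_toAlgHom']
    exact IsLocalization.Away.algebraMap_pow_isUnit _ j
  set γ : Localization.Away x₁ →ₐ[B] Localization.Away (QU.map φ s₁ s' hs' x₁) :=
    IsLocalization.liftAlgHom (M := Submonoid.powers x₁) hf with hγdef
  have hγ : ∀ q, γ (algebraMap (QU R₁ l s₁) (Localization.Away x₁) q) =
      algebraMap (QU R' l s') (Localization.Away (QU.map φ s₁ s' hs' x₁))
        (QU.map φ s₁ s' hs' q) := by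
    intro q
    rw [hγdef, IsLocalization.liftAlgHom_apply, IsLocalization.lift_eq]
    rfl
  have hγloc := isLocalizedModule_away M (QU.map φ s₁ s' hs') x₁ γ hγ
  have hΓ := isLocalizedModule_tensor M γ A
  obtain ⟨v, hvu, hveq⟩ := hv
  obtain ⟨w, hw⟩ := hvu.exists_right_inv
  have hι : ∀ g : Matrix (Fin n) (Fin n) A,
      (g.map (Algebra.TensorProduct.includeRight : A →ₐ[B] Localization.Away x₁ ⊗[B] A)).map
        (Algebra.TensorProduct.map γ (AlgHom.id B A)) =
        g.map (Algebra.TensorProduct.includeRight :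
          A →ₐ[B] Localization.Away (QU.map φ s₁ s' hs' x₁) ⊗[B] A) := by
    intro g; ext i j
    simp only [Matrix.map_apply]
    exact map_includeRight γ _
  exact matrix_descent M (Algebra.TensorProduct.map γ (AlgHom.id B A))
    (muHom lam (L := Localization.Away x₁))
    (muHom lam (L := Localization.Away (QU.map φ s₁ s' hs' x₁)))
    (fun z => (muHom_map lam γ z).symm) (muHom_smul lam) _ _ v w
    (by rw [hι, hι]; exact hveq) hw

end MatrixStep

section AscentStep

variable {B : Type*} {A : Type*} [CommRing B] [CommRing A] [Algebra B A] (lam : A ≃ₐ[B] A)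
  {R₁ R₂ : Type*} [CommRing R₁] [CommRing R₂] [Algebra B R₁] [Algebra B R₂]
  (ρ : R₁ →ₐ[B] R₂)
  {l : ℕ} (s₁ : Fin l → R₁ˣ) (s₂ : Fin l → R₂ˣ) (hs₂ : ∀ k, ρ (s₁ k : R₁) = (s₂ k : R₂))

/-- The congruence over any localisation of `R₂[X]/(X² - s₂)` at the image of `x₁`, from a
congruence up to torsion over the localisation of `R₁[X]/(X² - s₁)` at `x₁`. -/
theorem ascent_step {n : ℕ} (h h' : Matrix (Fin n) (Fin n) A) (x₁ : QU R₁ l s₁) (m₁ m₂ : B)
    (y z : Matrix (Fin n) (Fin n) (Localization.Away x₁ ⊗[B] A))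
    (H1 : m₂ • ((y.map (muHom lam (L := Localization.Away x₁))).transpose *
        h.map (Algebra.TensorProduct.includeRight : A →ₐ[B] Localization.Away x₁ ⊗[B] A) * y) =
      m₂ • (m₁ ^ 2 •
        h'.map (Algebra.TensorProduct.includeRight : A →ₐ[B] Localization.Away x₁ ⊗[B] A)))
    (H2 : m₂ • (y * z) = m₂ • (m₁ ^ 2 •
        (1 : Matrix (Fin n) (Fin n) (Localization.Away x₁ ⊗[B] A))))
    (hu₁ : IsUnit (algebraMap B R₂ m₁)) (hu₂ : IsUnit (algebraMap B R₂ m₂))
    (C : Type*) [CommRing C] [Algebra B C] [Algebra (QU R₂ l s₂) C]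
    [IsScalarTower B (QU R₂ l s₂) C] [IsLocalization.Away (QU.map ρ s₁ s₂ hs₂ x₁) C] :
    ∃ v : Matrix (Fin n) (Fin n) (C ⊗[B] A), IsUnit v ∧
      (v.map (Algebra.TensorProduct.congr (AlgEquiv.refl : C ≃ₐ[C] C) lam)).transpose *
        h.map (Algebra.TensorProduct.includeRight : A →ₐ[B] C ⊗[B] A) * v =
      h'.map (Algebra.TensorProduct.includeRight : A →ₐ[B] C ⊗[B] A) := by
  have hf : ∀ y : Submonoid.powers x₁,
      IsUnit (((IsScalarTower.toAlgHom B (QU R₂ l s₂) C).comp (QU.map ρ s₁ s₂ hs₂)) y) := by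
    rintro ⟨_, j, rfl⟩
    simp only [AlgHom.comp_apply, map_pow, IsScalarTower.coe_toAlgHom']
    exact IsLocalization.Away.algebraMap_pow_isUnit _ j
  have hC : ∀ m : B, IsUnit (algebraMap B R₂ m) → IsUnit (algebraMap B C m) := by
    intro m hm
    rw [IsScalarTower.algebraMap_apply B (QU R₂ l s₂) C,
      IsScalarTower.algebraMap_apply B R₂ (QU R₂ l s₂)]
    exact (hm.map _).map _
  exact ascent lam (IsLocalization.liftAlgHom (M := Submonoid.powers x₁) hf) h h' m₁ m₂
    (hC m₁ hu₁) (hC m₂ hu₂) y z H1 H2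

end AscentStep

end Groth.Agent.Lib.Seat83.RInv
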