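-- helper83 (seat 83): spreading out a hermitian congruence from the localisation at a prime to a
-- basic open neighbourhood: choice of the first level and the main theorem (statement S17364).
import Groth.Agent.Lib.Seat83RInv4

set_option autoImplicit false
universe u v

namespace Groth.Agent.Lib.Seat83.RInv

open scoped TensorProduct
open MvPolynomial

section LevelOne

variable {B : Type u} [CommRing B] (p : Ideal B) [p.IsPrime]

theorem isLocalizedModule_ofId :
    IsLocalizedModule p.primeCompl (Algebra.ofId B (Localization.AtPrime p)).toLinearMap :=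
  (inferInstance : IsLocalizedModule p.primeCompl (Algebra.linearMap B (Localization.AtPrime p)))

theorem isUnit_away_of_dvd (b d : B) (hd : d ∣ b) :
    IsUnit (algebraMap B (Localization.Away b) d) :=
  isUnit_of_dvd_unit (map_dvd _ hd) (IsLocalization.Away.algebraMap_isUnit b)

/-- The canonical map from the localisation away from `b ∉ p` to the localisation at `p`. -/
noncomputable def awayToAtPrime (b : B) (hb : b ∈ p.primeCompl) :
    Localization.Away b →ₐ[B] Localization.AtPrime p :=
  IsLocalization.liftAlgHom (M := Submonoid.powers b) (f := Algebra.ofId B (Localization.AtPrime p))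
    (by
      rintro ⟨_, j, rfl⟩
      exact IsLocalization.map_units (Localization.AtPrime p)
        (⟨b ^ j, p.primeCompl.pow_mem hb j⟩ : p.primeCompl))

theorem isLocalizedModule_awayToAtPrime (b : B) (hb : b ∈ p.primeCompl) :
    IsLocalizedModule p.primeCompl (awayToAtPrime p b hb).toLinearMap :=
  isLocalizedModule_of_le p.primeCompl (Submonoid.powers b) _

/-- Units `s` of `B_p` and elements `f` of `B_p[X]/(X² - s)` come from `B_b[X]/(X² - s₁)` for
some `b ∉ p`. -/
theorem level_one {l r : ℕ} (s : Fin l → (Localization.AtPrime p)ˣ)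
    (f : Fin r → QU (Localization.AtPrime p) l s) :
    ∃ (b₁ : B) (hb₁ : b₁ ∈ p.primeCompl) (s₁ : Fin l → (Localization.Away b₁)ˣ)
      (hs₁ : ∀ k, awayToAtPrime p b₁ hb₁ (s₁ k : Localization.Away b₁) =
        (s k : Localization.AtPrime p))
      (f₁ : Fin r → QU (Localization.Away b₁) l s₁),
      ∀ i, QU.map (awayToAtPrime p b₁ hb₁) s₁ s hs₁ (f₁ i) = f i := by
  classical
  -- numerators and denominators of the `s k`
  have hs : ∀ k, ∃ (α : B) (m : p.primeCompl), α ∈ p.primeCompl ∧
      IsLocalization.mk' (Localization.AtPrime p) α m = (s k : Localization.AtPrime p) := by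
    intro k
    obtain ⟨⟨α, m⟩, hαm⟩ := IsLocalization.mk'_surjective p.primeCompl
      (s k : Localization.AtPrime p)
    refine ⟨α, m, ?_, hαm⟩
    have hu : IsUnit (IsLocalization.mk' (Localization.AtPrime p) α m) := by
      simp only at hαm
      rw [hαm]; exact (s k).isUnit
    exact (IsLocalization.AtPrime.isUnit_mk'_iff (Localization.AtPrime p) p α m).mp hu
  choose α ms hα hαm using hs
  -- polynomial representatives of the `f i`
  have := isLocalizedModule_ofId p
  have hf : ∀ i, ∃ (m : p.primeCompl) (P₀ : MvPolynomial (Fin l) B)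
      (P : MvPolynomial (Fin l) (Localization.AtPrime p)),
      Ideal.Quotient.mk _ P = f i ∧
        (m : B) • P = MvPolynomial.mapAlgHom (Algebra.ofId B (Localization.AtPrime p)) P₀ := by
    intro i
    obtain ⟨P, hP⟩ := Ideal.Quotient.mk_surjective (f i)
    obtain ⟨m, P₀, h⟩ := poly_surj p.primeCompl (Algebra.ofId B (Localization.AtPrime p)) P
    exact ⟨m, P₀, P, hP, h⟩
  choose mf P₀ P hP hP₀ using hf
  set b₁ : B := (∏ k, (α k * (ms k : B))) * ∏ i, (mf i : B) with hb₁def
  have hb₁ : b₁ ∈ p.primeCompl :=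
    p.primeCompl.mul_mem
      (prod_mem fun k _ => p.primeCompl.mul_mem (hα k) (ms k).2)
      (prod_mem fun i _ => (mf i).2)
  have hdαm : ∀ k, α k * (ms k : B) ∣ b₁ := fun k =>
    (Finset.dvd_prod_of_mem (fun k => α k * (ms k : B)) (Finset.mem_univ k)).trans
      (dvd_mul_right _ _)
  have hdα : ∀ k, α k ∣ b₁ := fun k => (dvd_mul_right _ _).trans (hdαm k)
  have hdm : ∀ k, (ms k : B) ∣ b₁ := fun k => (dvd_mul_left _ _).trans (hdαm k)
  have hdf : ∀ i, (mf i : B) ∣ b₁ := fun i =>
    (Finset.dvd_prod_of_mem (fun i => (mf i : B)) (Finset.mem_univ i)).trans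
      (dvd_mul_left _ _)
  set φ := awayToAtPrime p b₁ hb₁ with hφ
  have hφalg : ∀ β : B, φ (algebraMap B (Localization.Away b₁) β) =
      algebraMap B (Localization.AtPrime p) β := fun β => φ.commutes β
  refine ⟨b₁, hb₁, fun k => (isUnit_away_of_dvd b₁ _ (hdα k)).unit *
    ((isUnit_away_of_dvd b₁ _ (hdm k)).unit)⁻¹, ?_, ?_⟩
  · intro k
    have hu : IsUnit (algebraMap B (Localization.AtPrime p) (ms k)) :=
      IsLocalization.map_units _ (ms k)
    apply hu.mul_left_injective
    simp only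
    rw [← hαm k, IsLocalization.mk'_spec, ← hφalg, ← hφalg, ← map_mul]
    congr 1
    rw [Units.val_mul, mul_assoc]
    have : (↑((isUnit_away_of_dvd b₁ _ (hdm k)).unit)⁻¹ : Localization.Away b₁) *
        algebraMap B (Localization.Away b₁) (ms k) = 1 := by
      have := (isUnit_away_of_dvd b₁ _ (hdm k)).unit.inv_mul
      rwa [IsUnit.unit_spec] at this
    rw [this, mul_one, IsUnit.unit_spec]
  · refine ⟨fun i => Ideal.Quotient.mk _
      (C (↑((isUnit_away_of_dvd b₁ _ (hdf i)).unit)⁻¹ : Localization.Away b₁) *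
        MvPolynomial.mapAlgHom (Algebra.ofId B (Localization.Away b₁)) (P₀ i)), ?_⟩
    intro i
    rw [QU.map_mk, ← hP i]
    congr 1
    rw [map_mul, MvPolynomial.mapAlgHom_apply, MvPolynomial.map_C]
    have h1 : MvPolynomial.mapAlgHom φ
        (MvPolynomial.mapAlgHom (Algebra.ofId B (Localization.Away b₁)) (P₀ i)) =
        MvPolynomial.mapAlgHom (Algebra.ofId B (Localization.AtPrime p)) (P₀ i) := by
      simp only [MvPolynomial.mapAlgHom_apply, MvPolynomial.map_map]
      refine congrArg (fun g => MvPolynomial.map g (P₀ i)) (RingHom.ext fun β => ?_)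
      exact hφalg β
    rw [h1, ← hP₀ i, ← MvPolynomial.smul_eq_C_mul, ← algebraMap_smul (Localization.AtPrime p)
      ((mf i : B)) (P i), smul_smul]
    have h2 : φ (↑((isUnit_away_of_dvd b₁ _ (hdf i)).unit)⁻¹ : Localization.Away b₁) *
        algebraMap B (Localization.AtPrime p) (mf i) = 1 := by
      rw [← hφalg, ← map_mul]
      have := (isUnit_away_of_dvd b₁ _ (hdf i)).unit.inv_mul
      rw [IsUnit.unit_spec] at this
      rw [this, map_one]
    exact (congrArg (fun t => t • P i) h2).trans (one_smul _ _)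

end LevelOne

section MainThm

variable {B : Type u} {A : Type v} [CommRing B] [CommRing A] [Algebra B A] (lam : A ≃ₐ[B] A)

/-- The canonical map between localisations away from `b₁` and from `b₁ * c`. -/
noncomputable def awayToAway (b₁ c : B) :
    Localization.Away b₁ →ₐ[B] Localization.Away (b₁ * c) :=
  IsLocalization.liftAlgHom (M := Submonoid.powers b₁)
    (f := Algebra.ofId B (Localization.Away (b₁ * c)))
    (by
      rintro ⟨_, j, rfl⟩
      show IsUnit (algebraMap B (Localization.Away (b₁ * c)) (b₁ ^ j))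
      rw [map_pow]
      exact (isUnit_away_of_dvd (b₁ * c) b₁ (dvd_mul_right _ _)).pow j)

/-- Spreading out: concrete form of the statement. -/
theorem exists_data_away (n : ℕ) (h h' : Matrix (Fin n) (Fin n) A) (p : Ideal B) [p.IsPrime]
    (hdata : (∃ (l : ℕ) (s : Fin l → (Localization.AtPrime p)ˣ) (r : ℕ) (f : Fin r → (MvPolynomial (Fin l) (Localization.AtPrime p) ⧸ Ideal.span (Set.range fun k : Fin l => MvPolynomial.X k ^ 2 - MvPolynomial.C (s k : Localization.AtPrime p)))),
        Ideal.span (Set.range f) = ⊤ ∧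
        ∀ (i : Fin r) (C : Type u) [CommRing C] [Algebra B C]
          [Algebra (MvPolynomial (Fin l) (Localization.AtPrime p) ⧸ Ideal.span (Set.range fun k : Fin l => MvPolynomial.X k ^ 2 - MvPolynomial.C (s k : Localization.AtPrime p))) C]
          [IsScalarTower B (MvPolynomial (Fin l) (Localization.AtPrime p) ⧸ Ideal.span (Set.range fun k : Fin l => MvPolynomial.X k ^ 2 - MvPolynomial.C (s k : Localization.AtPrime p))) C]
          [IsLocalization.Away (f i) C],
          ∃ v : Matrix (Fin n) (Fin n) (C ⊗[B] A), IsUnit v ∧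
            (v.map (Algebra.TensorProduct.congr (AlgEquiv.refl : C ≃ₐ[C] C) lam)).transpose * h.map (Algebra.TensorProduct.includeRight : A →ₐ[B] C ⊗[B] A) * v = h'.map (Algebra.TensorProduct.includeRight : A →ₐ[B] C ⊗[B] A))) :
    ∃ b : B, b ∉ p ∧
      (∃ (l : ℕ) (s : Fin l → (Localization.Away b)ˣ) (r : ℕ) (f : Fin r → (MvPolynomial (Fin l) (Localization.Away b) ⧸ Ideal.span (Set.range fun k : Fin l => MvPolynomial.X k ^ 2 - MvPolynomial.C (s k : Localization.Away b)))),
        Ideal.span (Set.range f) = ⊤ ∧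
        ∀ (i : Fin r) (C : Type u) [CommRing C] [Algebra B C]
          [Algebra (MvPolynomial (Fin l) (Localization.Away b) ⧸ Ideal.span (Set.range fun k : Fin l => MvPolynomial.X k ^ 2 - MvPolynomial.C (s k : Localization.Away b))) C]
          [IsScalarTower B (MvPolynomial (Fin l) (Localization.Away b) ⧸ Ideal.span (Set.range fun k : Fin l => MvPolynomial.X k ^ 2 - MvPolynomial.C (s k : Localization.Away b))) C]
          [IsLocalization.Away (f i) C],
          ∃ v : Matrix (Fin n) (Fin n) (C ⊗[B] A), IsUnit v ∧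
            (v.map (Algebra.TensorProduct.congr (AlgEquiv.refl : C ≃ₐ[C] C) lam)).transpose * h.map (Algebra.TensorProduct.includeRight : A →ₐ[B] C ⊗[B] A) * v = h'.map (Algebra.TensorProduct.includeRight : A →ₐ[B] C ⊗[B] A)) := by
  classical
  obtain ⟨l, s, r, f, hspan, hmat⟩ := hdata
  obtain ⟨b₁, hb₁, s₁, hs₁, f₁, hf₁⟩ := level_one p s f
  obtain rfl : f = fun i => QU.map (awayToAtPrime p b₁ hb₁) s₁ s hs₁ (f₁ i) :=
    funext fun i => (hf₁ i).symm
  have hφ := isLocalizedModule_awayToAtPrime p b₁ hb₁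
  -- descent of the matrices
  have hstep : ∀ i, _ := fun i =>
    matrix_step lam p.primeCompl (awayToAtPrime p b₁ hb₁) s₁ s hs₁ h h' (f₁ i)
      (hmat i (Localization.Away (QU.map (awayToAtPrime p b₁ hb₁) s₁ s hs₁ (f₁ i))))
  choose m₁ m₂ y z H1 H2 using hstep
  obtain ⟨m₄, m₅, c₁, hrel⟩ := span_descent p.primeCompl (awayToAtPrime p b₁ hb₁) s₁ s hs₁ f₁ hspan
  set c : B := ((m₄ : B) * (m₅ : B)) * ∏ i, ((m₁ i : B) * (m₂ i : B)) with hc
  have hcM : c ∈ p.primeCompl :=
    p.primeCompl.mul_mem (p.primeCompl.mul_mem m₄.2 m₅.2)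
      (prod_mem fun i _ => p.primeCompl.mul_mem (m₁ i).2 (m₂ i).2)
  have hd₄ : (m₄ : B) ∣ b₁ * c :=
    ((dvd_mul_right _ _).trans (dvd_mul_right _ _)).trans (dvd_mul_left _ _)
  have hd₅ : (m₅ : B) ∣ b₁ * c :=
    ((dvd_mul_left _ _).trans (dvd_mul_right _ _)).trans (dvd_mul_left _ _)
  have hd₁₂ : ∀ i, (m₁ i : B) * (m₂ i : B) ∣ b₁ * c := fun i =>
    ((Finset.dvd_prod_of_mem (fun i => (m₁ i : B) * (m₂ i : B)) (Finset.mem_univ i)).trans
      (dvd_mul_left _ _)).trans (dvd_mul_left _ _)
  have hd₁ : ∀ i, (m₁ i : B) ∣ b₁ * c := fun i => (dvd_mul_right _ _).trans (hd₁₂ i)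
  have hd₂ : ∀ i, (m₂ i : B) ∣ b₁ * c := fun i => (dvd_mul_left _ _).trans (hd₁₂ i)
  set s₂ : Fin l → (Localization.Away (b₁ * c))ˣ := fun k =>
    Units.map (awayToAway b₁ c : Localization.Away b₁ →* Localization.Away (b₁ * c)) (s₁ k)
    with hs₂def
  have hs₂ : ∀ k, awayToAway b₁ c (s₁ k : Localization.Away b₁) =
      (s₂ k : Localization.Away (b₁ * c)) := fun k => rfl
  refine ⟨b₁ * c, p.primeCompl.mul_mem hb₁ hcM, l, s₂,
    r, fun i => QU.map (awayToAway b₁ c) s₁ s₂ hs₂ (f₁ i), ?_, ?_⟩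
  · exact span_ascent (awayToAway b₁ c) s₁ s₂ hs₂ f₁ (m₄ : B) (m₅ : B) c₁ hrel
      (isUnit_away_of_dvd _ _ hd₄) (isUnit_away_of_dvd _ _ hd₅)
  · intro i C _ _ _ _ _
    exact ascent_step lam (awayToAway b₁ c) s₁ s₂ hs₂ h h' (f₁ i) (m₁ i : B) (m₂ i : B)
      (y i) (z i) (H1 i) (H2 i) (isUnit_away_of_dvd _ _ (hd₁ i)) (isUnit_away_of_dvd _ _ (hd₂ i)) C

end MainThm

end Groth.Agent.Lib.Seat83.RInv
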