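import Mathlib
import Groth.Agent.Lib.Seat46DecentChart
import Groth.Agent.Lib.Seat19BootH
import Groth.Agent.Lib.Helper12SrcLocal
import Groth.Agent.S9869
import Groth.Agent.S10177
import Groth.Agent.S9927

/-!
# The residual space of a point of an algebraic space (seat 83)

* `mono_of_isKernelPair`: a map of sheaves of sets `i : F ⟶ G` with `p ≫ i = q`, `p` locally surjective
  coequalizing the kernel pair of `q`, is a monomorphism.
* `exists_kernelPair_pt`: the kernel pair of a residue field point `Spec κ(u) ⟶ U ⟶ X` of an etale chart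
  is a scheme with etale projections.
* `exists_residual`: the residual space.
-/

set_option autoImplicit false
set_option linter.style.haveILetI false
universe w v' u' u

open CategoryTheory Limits AlgebraicGeometry Opposite

namespace Groth.Agent.Lib.Seat83.Residual

section General

variable {C : Type u'} [Category.{v'} C] (J : GrothendieckTopology C)

/-- if `p` is locally surjective and coequalizes the kernel pair `(a, b)` of `q = p ≫ i`, then `i` is a
monomorphism. -/
theorem mono_of_isKernelPair {A B F G : Sheaf J (Type w)} (a b : B ⟶ A)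
    (p : A ⟶ F) (q : A ⟶ G) (i : F ⟶ G) (hpi : p ≫ i = q) [Sheaf.IsLocallySurjective p]
    (hpab : a ≫ p = b ≫ p) (hq : IsKernelPair q a b) : Mono i := by
  have hmono : Mono i.hom := by
    rw [NatTrans.mono_iff_mono_app]
    intro T
    rw [mono_iff_injective]
    intro z1 z2 h
    induction T using Opposite.rec with | _ T => ?_
    refine (((isSheaf_iff_isSheaf_of_type _ _).1 F.2).isSeparated _
      (J.intersection_covering (Presheaf.imageSieve_mem J p.hom z1)
        (Presheaf.imageSieve_mem J p.hom z2))).ext ?_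
    rintro T' f ⟨⟨x1, hx1⟩, ⟨x2, hx2⟩⟩
    have hqx : q.hom.app _ x1 = q.hom.app _ x2 := by
      have e1 : q.hom.app _ x1 = G.obj.map f.op (i.hom.app _ z1) := by
        rw [← hpi]
        change i.hom.app _ (p.hom.app _ x1) = _
        rw [hx1]
        exact NatTrans.naturality_apply i.hom f.op z1
      have e2 : q.hom.app _ x2 = G.obj.map f.op (i.hom.app _ z2) := by
        rw [← hpi]
        change i.hom.app _ (p.hom.app _ x2) = _
        rw [hx2]
        exact NatTrans.naturality_apply i.hom f.op z2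
      rw [e1, e2, h]
    have sqT := hq.map (sheafToPresheaf J (Type w) ⋙ (evaluation Cᵒᵖ (Type w)).obj (op T'))
    obtain ⟨r, hr1, hr2⟩ := Types.exists_of_isPullback sqT x1 x2 hqx
    have h3 : p.hom.app _ (a.hom.app _ r) = p.hom.app _ (b.hom.app _ r) :=
      congrArg (fun m => m.hom.app (op T') r) hpab
    calc F.obj.map f.op z1 = p.hom.app _ x1 := hx1.symm
      _ = p.hom.app _ (a.hom.app _ r) := by rw [← hr1]; rfl
      _ = p.hom.app _ (b.hom.app _ r) := h3
      _ = p.hom.app _ x2 := by rw [← hr2]; rfl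
      _ = F.obj.map f.op z2 := hx2
  exact Sheaf.Hom.mono_of_presheaf_mono J _ i

end General

section Chart

open Groth.Agent.Lib.Seat46.DecentChart

variable {S : Scheme.{u}} {X : AlgSp.Sp S} {U R : Over S}

/-- the kernel pair of the residue field point `Spec κ(u) ⟶ U ⟶ X` of an etale chart is represented
by a scheme whose first projection is etale. -/
theorem exists_kernelPair_pt (φ : (AlgSp.yon S).obj U ⟶ X) (hφ : AlgSp.RepWith @Etale φ)
    (s t : R ⟶ U) (sqR : IsPullback ((AlgSp.yon S).map t) ((AlgSp.yon S).map s) φ φ) (u : ↥U.left) :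
    ∃ (Ru : Over S) (t' s' : Ru ⟶ (AlgSp.FieldPt.ofPt φ u).pt),
      IsPullback ((AlgSp.yon S).map t') ((AlgSp.yon S).map s') (AlgSp.FieldPt.ofPt φ u).toHom
        (AlgSp.FieldPt.ofPt φ u).toHom ∧ Etale t'.left := by
  set q := AlgSp.FieldPt.ofPt φ u with hq
  let ι := ptι φ u
  have hqι : q.toHom = (AlgSp.yon S).map ι ≫ φ := toHom_ofPt' φ u
  haveI : Etale s.left := hφ.2 φ ((AlgSp.yon S).map t) s sqR
  haveI : Mono ι.left := inferInstanceAs (Mono (U.left.fromSpecResidueField u))
  -- first fibre product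
  have sqA := IsPullback.of_hasPullback ι s
  set R₁ := pullback ι s
  set fst₁ : R₁ ⟶ q.pt := pullback.fst ι s
  set snd₁ : R₁ ⟶ R := pullback.snd ι s
  have sqA' : IsPullback fst₁.left snd₁.left ι.left s.left := sqA.map (Over.forget S)
  haveI : Etale fst₁.left := MorphismProperty.of_isPullback sqA'.flip inferInstance
  -- second fibre product
  have sqB := IsPullback.of_hasPullback (snd₁ ≫ t) ι
  set Ru := pullback (snd₁ ≫ t) ι
  set fst₂ : Ru ⟶ R₁ := pullback.fst (snd₁ ≫ t) ι
  set snd₂ : Ru ⟶ q.pt := pullback.snd (snd₁ ≫ t) ι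
  have sqB' : IsPullback fst₂.left snd₂.left (snd₁ ≫ t).left ι.left := sqB.map (Over.forget S)
  haveI : Mono fst₂.left := by
    constructor
    intro Z a b hab
    apply sqB'.hom_ext hab
    rw [← cancel_mono ι.left, Category.assoc, Category.assoc, ← sqB'.w, ← Category.assoc,
      ← Category.assoc, hab]
  haveI : IsOpenImmersion fst₂.left :=
    isOpenImmersion_of_mono_of_etale_field (k := q.K) fst₂.left fst₁.left
  haveI : Etale (fst₂ ≫ fst₁).left := by
    rw [Over.comp_left]; infer_instance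
  -- the kernel pair of the residue field point
  have sq1 : IsPullback ((AlgSp.yon S).map (snd₁ ≫ t)) ((AlgSp.yon S).map fst₁) φ q.toHom := by
    rw [hqι, Functor.map_comp]
    exact (sqA.flip.map (AlgSp.yon S)).paste_horiz sqR
  have sq2 : IsPullback ((AlgSp.yon S).map (fst₂ ≫ fst₁)) ((AlgSp.yon S).map snd₂) q.toHom
      q.toHom := by
    have := (sqB.map (AlgSp.yon S)).paste_horiz sq1.flip
    rw [← Functor.map_comp, ← hqι] at this
    exact this
  exact ⟨Ru, fst₂ ≫ fst₁, snd₂, sq2, inferInstance⟩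

/-- every kernel pair of the residue field point of an etale chart has etale projections. -/
theorem etale_of_kernelPair_pt (φ : (AlgSp.yon S).obj U ⟶ X) (hφ : AlgSp.RepWith @Etale φ)
    (s t : R ⟶ U) (sqR : IsPullback ((AlgSp.yon S).map t) ((AlgSp.yon S).map s) φ φ) (u : ↥U.left)
    {R' : Over S} (t' s' : R' ⟶ (AlgSp.FieldPt.ofPt φ u).pt)
    (sq : IsPullback ((AlgSp.yon S).map t') ((AlgSp.yon S).map s') (AlgSp.FieldPt.ofPt φ u).toHom
        (AlgSp.FieldPt.ofPt φ u).toHom) : Etale t'.left := by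
  obtain ⟨Ru, t0, s0, sq0, h0⟩ := exists_kernelPair_pt φ hφ s t sqR u
  let e := sq.isoIsPullback _ _ sq0
  have he1 : e.hom ≫ (AlgSp.yon S).map t0 = (AlgSp.yon S).map t' := sq.isoIsPullback_hom_fst _ _ sq0
  obtain ⟨e0, he0⟩ := (AlgSp.yon S).map_surjective e.hom
  have hiso : IsIso e0 := by
    have : IsIso ((AlgSp.yon S).map e0) := by rw [he0]; infer_instance
    exact isIso_of_fully_faithful (AlgSp.yon S) e0
  have h1 : e0 ≫ t0 = t' := by
    apply (AlgSp.yon S).map_injective
    rw [Functor.map_comp, he0, he1]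
  have : IsIso e0.left := inferInstanceAs (IsIso ((Over.forget S).map e0))
  rw [← h1, Over.comp_left]
  infer_instance

/-- an equivalence relation from a kernel pair. -/
theorem isEtaleEqvRel_of_isPullback {V R' : Over S} (q : (AlgSp.yon S).obj V ⟶ X) (s t : R' ⟶ V)
    (sq : IsPullback ((AlgSp.yon S).map t) ((AlgSp.yon S).map s) q q) (hs : Etale s.left)
    (ht : Etale t.left) : AlgSp.IsEtaleEqvRel s t := by
  have hiff : ∀ {T : Over S} (a b : T ⟶ V),
      (∃ r : T ⟶ R', r ≫ t = a ∧ r ≫ s = b) ↔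
        (AlgSp.yon S).map a ≫ q = (AlgSp.yon S).map b ≫ q := by
    intro T a b
    constructor
    · rintro ⟨r, rfl, rfl⟩
      rw [Functor.map_comp, Functor.map_comp, Category.assoc, Category.assoc, sq.w]
    · intro hab
      obtain ⟨r, hr⟩ := (AlgSp.yon S).map_surjective (sq.lift _ _ hab)
      refine ⟨r, ?_, ?_⟩
      · apply (AlgSp.yon S).map_injective
        rw [Functor.map_comp, hr, sq.lift_fst]
      · apply (AlgSp.yon S).map_injective
        rw [Functor.map_comp, hr, sq.lift_snd]
  refine ⟨⟨?_, ?_⟩, hs, ht⟩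
  · intro T r r' h1 h2
    apply (AlgSp.yon S).map_injective
    apply sq.hom_ext
    · rw [← Functor.map_comp, ← Functor.map_comp, h1]
    · rw [← Functor.map_comp, ← Functor.map_comp, h2]
  · intro T
    refine ⟨fun a => (hiff a a).2 rfl, fun {a b} h => (hiff b a).2 ((hiff a b).1 h).symm,
      fun {a b c} h1 h2 => (hiff a c).2 (((hiff a b).1 h1).trans ((hiff b c).1 h2))⟩

/-- the residual space of a point of an algebraic space. -/
theorem exists_residual (X : AlgSp.Space S) (x : AlgSp.Points X.obj) :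
    ∃ (Z : AlgSp.Space S) (i : Z ⟶ X), Mono i.hom ∧ Set.range (AlgSp.Points.map i.hom) = {x} ∧
      ∃ (k : Type u) (_ : Field k) (str : Spec (CommRingCat.of k) ⟶ S)
        (p : (AlgSp.yon S).obj (Over.mk str) ⟶ Z.obj),
        AlgSp.LocP @LocallyOfFinitePresentation p ∧ AlgSp.LocP @Flat p ∧
          AlgSp.IsSurjectiveMor p := by
  obtain ⟨U, φ, hφe, hφs⟩ := X.property.atlas
  obtain ⟨u, rfl⟩ := (Groth.Agent.S10177.result X φ hφe hφs).surjective x
  obtain ⟨R, s, t', sqR⟩ := hφe.1 φ
  obtain ⟨t, rfl⟩ := (AlgSp.yon S).map_surjective t'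
  set q := AlgSp.FieldPt.ofPt φ u with hq
  obtain ⟨Ru, t0, s0, sq0, ht0⟩ := exists_kernelPair_pt φ hφe s t sqR u
  have hs0 : Etale s0.left := etale_of_kernelPair_pt φ hφe s t sqR u s0 t0 sq0.flip
  have hEq := isEtaleEqvRel_of_isPullback q.toHom s0 t0 sq0 hs0 ht0
  have hZ := Groth.Agent.Lib.Seat19.BootH.isAlgSpace_quot s0 t0 hEq
  have pres := Groth.Agent.S9869.result S s0 t0 hEq hZ
  set Z := QuotSh.quot Scheme.fppfPrecoverage s0 t0 with hZdef
  set π' : (AlgSp.yon S).obj q.pt ⟶ Z :=
    (QuotSh.repIsoUliftYoneda Scheme.fppfPrecoverage q.pt).inv ≫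
      QuotSh.quotπ Scheme.fppfPrecoverage s0 t0 with hπ'
  haveI : Epi π' := Groth.Agent.S9927.epi_of_repWith π' pres.etale pres.surjective
  haveI : IsRegularEpi π' := IsRegularEpiCategory.regularEpiOfEpi π'
  have hk : IsKernelPair π' ((AlgSp.yon S).map t0) ((AlgSp.yon S).map s0) := pres.isPullback
  let i : Z ⟶ X.obj := hk.toCoequalizer'.desc (Cofork.ofπ q.toHom sq0.w)
  have hi : π' ≫ i = q.toHom := hk.toCoequalizer'.fac _ WalkingParallelPair.one
  haveI : Sheaf.IsLocallySurjective π' := (Sheaf.isLocallySurjective_iff_epi π').2 inferInstance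
  have hmono : Mono i :=
    mono_of_isKernelPair _ ((AlgSp.yon S).map t0) ((AlgSp.yon S).map s0) π' q.toHom i hi hk.w sq0
  have hsurj : Function.Surjective (AlgSp.Points.ofPt π') :=
    (Groth.Agent.S10177.result ⟨Z, hZ⟩ π' pres.etale pres.surjective).surjective
  have hpt : ∀ v : ↥(Spec (CommRingCat.of q.K)),
      AlgSp.Points.map i (AlgSp.Points.ofPt π' v) = AlgSp.Points.ofPt φ u := by
    intro v
    rw [AlgSp.Points.map_ofPt, hi]
    exact AlgSp.Points.ofPt_toHom q v
  have hLoc : AlgSp.LocP @Etale π' := by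
    intro U' V' a b h ha hb hcomm
    exact Groth.Agent.Lib.Helper12.SrcLocal.etale_of_chart_comp b (a ≫ π') h hb
      ((AlgSp.RepWith @Etale).comp_mem _ _ ha pres.etale) hcomm.symm
  refine ⟨⟨Z, hZ⟩, ObjectProperty.homMk i, hmono, ?_, q.K, q.field, q.str, π', ?_, ?_, ?_⟩
  · ext y
    constructor
    · rintro ⟨z, rfl⟩
      obtain ⟨v, rfl⟩ := hsurj z
      exact hpt v
    · intro hy
      rw [Set.mem_singleton_iff] at hy
      subst hy
      exact ⟨AlgSp.Points.ofPt π' (IsLocalRing.closedPoint q.K), hpt _⟩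
  · intro U' V' a b h ha hb hcomm
    have : Etale h.left := hLoc a b h ha hb hcomm
    infer_instance
  · intro U' V' a b h ha hb hcomm
    have : Etale h.left := hLoc a b h ha hb hcomm
    infer_instance
  · intro z
    obtain ⟨v, rfl⟩ := hsurj z
    exact ⟨AlgSp.Points.ofScheme q.pt v, (AlgSp.Points.ofPt_eq_map_ofScheme π' v).symm⟩

end Chart

end Groth.Agent.Lib.Seat83.Residual
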