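-- helper83: the first projection of the self-product of a functor (`fpFst f f`) under base change
-- and for functors of maps of spaces; a map locally of finite type whose self-product projection
-- is locally quasi-finite is locally quasi-finite.
import Mathlib
import Groth.Agent.Lib.Seat83DiagPsi2
import Groth.Agent.Lib.Seat83GeomFib

set_option autoImplicit false
set_option backward.isDefEq.respectTransparency false
set_option backward.isDefEq.respectTransparency.types false
open CategoryTheory CategoryTheory.Functor CategoryTheory.Limits Opposite AlgebraicGeometry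

universe u

namespace Groth.Agent.Lib.Seat83.SelfProj

section Sch

/-- a morphism locally of finite type whose self-product projection is locally quasi-finite is
locally quasi-finite. -/
theorem locallyQuasiFinite_of_pullback_fst {V U : Scheme.{u}} (h : V ⟶ U) [LocallyOfFiniteType h]
    [LocallyQuasiFinite (pullback.fst h h)] : LocallyQuasiFinite h := by
  refine LocallyQuasiFinite.of_fiberToSpecResidueField h fun u => ?_
  set p := h.fiberToSpecResidueField u with hp
  have hd : DiscreteTopology ↥(h.fiber u) := by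
    refine discreteTopology_iff_isOpen_singleton.2 fun w => ?_
    let q : Spec ((h.fiber u).residueField w) ⟶ Spec (U.residueField u) :=
      (h.fiber u).fromSpecResidueField w ≫ p
    let Z := pullback q p
    have hcomm : (pullback.fst q p ≫ (h.fiber u).fromSpecResidueField w ≫ h.fiberι u) ≫ h =
        (pullback.snd q p ≫ h.fiberι u) ≫ h := by
      simp only [Category.assoc, Scheme.Hom.fiber_fac]
      have := pullback.condition (f := q) (g := p)
      simp only [q] at this
      rw [← hp, reassoc_of% this]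
    let ζ : Z ⟶ pullback h h := pullback.lift
      (pullback.fst q p ≫ (h.fiber u).fromSpecResidueField w ≫ h.fiberι u)
      (pullback.snd q p ≫ h.fiberι u) hcomm
    have hζ1 : ζ ≫ pullback.fst h h =
        pullback.fst q p ≫ (h.fiber u).fromSpecResidueField w ≫ h.fiberι u :=
      pullback.lift_fst _ _ _
    have hζ2 : ζ ≫ pullback.snd h h = pullback.snd q p ≫ h.fiberι u := pullback.lift_snd _ _ _
    have : Mono ζ := by
      refine ⟨fun {T} a b hab => ?_⟩
      apply pullback.hom_ext
      · have h1 := congrArg (fun t => t ≫ pullback.fst h h) hab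
        simp only [Category.assoc, hζ1] at h1
        have : Mono ((h.fiber u).fromSpecResidueField w ≫ h.fiberι u) := mono_comp _ _
        exact (cancel_mono ((h.fiber u).fromSpecResidueField w ≫ h.fiberι u)).1
          (by simpa only [Category.assoc] using h1)
      · have h2 := congrArg (fun t => t ≫ pullback.snd h h) hab
        simp only [Category.assoc, hζ2] at h2
        exact (cancel_mono (h.fiberι u)).1 (by simpa only [Category.assoc] using h2)
    have hZ : DiscreteTopology ↥Z := by
      have hdisc := (pullback.fst h h).isDiscrete_preimage_singleton (h.fiberι u w)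
      have hsub : ∀ z : ↥Z, ζ z ∈ (pullback.fst h h) ⁻¹' {h.fiberι u w} := by
        intro z
        rw [Set.mem_preimage, Set.mem_singleton_iff, ← Scheme.Hom.comp_apply, hζ1]
        simp only [Scheme.Hom.comp_apply]
        rw [Scheme.fromSpecResidueField_apply]
      have h1 := hdisc.preimage (f := ζ) ζ.continuous.continuousOn ζ.injective
      have h2 : (ζ ⁻¹' ((pullback.fst h h) ⁻¹' {h.fiberι u w})) = Set.univ :=
        Set.eq_univ_of_forall hsub
      rw [h2] at h1
      exact isDiscrete_univ_iff.1 h1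
    have hopen : IsOpenMap (pullback.snd q p) := (pullback.snd q p).isOpenMap
    have hsurj : Function.Surjective (pullback.snd q p) := (pullback.snd q p).surjective
    obtain ⟨z, hz⟩ := hsurj w
    have := hopen {z} (isOpen_discrete _)
    rwa [Set.image_singleton, hz] at this
  have : LocallyOfFiniteType p := by
    rw [hp]; exact MorphismProperty.pullback_snd (P := @LocallyOfFiniteType) _ _ inferInstance
  exact locallyQuasiFinite_iff_isDiscrete_preimage_singleton.2 fun x =>
    IsDiscrete.univ.mono (Set.subset_univ _)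

end Sch

open Groth.Agent.Lib.Helper17 Groth.Agent.Lib.Helper15PshFib Groth.Agent.Lib.Helper15RepPsh
  Groth.Agent.Lib.Helper15DiagLft Groth.Agent.Lib.Helper15.DiagBC
  Groth.Agent.Lib.Helper15SpMapRep Groth.Agent.Lib.Helper15Descent
  Groth.Agent.Lib.Seat83.DiagSq Groth.Agent.Lib.Seat83.DiagIff Groth.Agent.Lib.Seat83.DiagPsi
  Groth.Agent.Lib.Seat83.PshFp Groth.Agent.Lib.Seat83.DiagPsi2

section Sq

variable {S : Scheme.{u}} {𝒳 𝒴 𝒳' 𝒴' : AlgSt.Cat S}

/-- The self-product projections of the two vertical functors of a 2-commutative square whose top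
arrow is an equivalence and whose bottom arrow is fully faithful have the same properties. -/
theorem repByAlgSpWith_selfProj_of_square (Q : MorphismProperty (AlgSp.Sp S))
    (f : 𝒳 ⥤ᵇ 𝒴) (f' : 𝒳' ⥤ᵇ 𝒴') (a : 𝒳' ⥤ᵇ 𝒳) (b : 𝒴' ⥤ᵇ 𝒴)
    (ha : FibCat.IsEquivOver a) [b.toFunctor.Full] [b.toFunctor.Faithful]
    (e : BasedFunctor.comp f' b ≅ BasedFunctor.comp a f) :
    AlgSt.RepByAlgSpWith Q (FibCat.fpFst f f) ↔ AlgSt.RepByAlgSpWith Q (FibCat.fpFst f' f') := by
  let M : FibCat.fp f' f' ⥤ᵇ FibCat.fp f f := fpMap f f f' f' a a b e e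
  have hM : FibCat.IsEquivOver M := isEquivOver_fpMap f f f' f' a a b e e ha ha
  exact repByAlgSpWith_of_square Q (FibCat.fpFst f f) (FibCat.fpFst f' f') M a hM ha (Iso.refl _)

/-- Base change of the self-product projection. -/
theorem repByAlgSpWith_selfProj_fpFst (Q : MorphismProperty (AlgSp.Sp S)) (f : 𝒳 ⥤ᵇ 𝒴)
    {𝒰 : AlgSt.Cat S} (y : 𝒰 ⥤ᵇ 𝒴) (h : AlgSt.RepByAlgSpWith Q (FibCat.fpFst f f)) :
    AlgSt.RepByAlgSpWith Q (FibCat.fpFst (FibCat.fpFst y f) (FibCat.fpFst y f)) := by
  have h1 : AlgSt.RepByAlgSpWith Q (FibCat.fpFst (FibCat.fpSnd y f) (FibCat.fpFst f f)) :=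
    repByAlgSpWith_fpFst Q (FibCat.fpFst f f) (FibCat.fpSnd y f) h
  have h2 : AlgSt.RepByAlgSpWith Q
      (FibCat.fpFst (BasedFunctor.comp (FibCat.fpSnd y f) f) f) :=
    (repByAlgSpWith_of_square Q (FibCat.fpFst (BasedFunctor.comp (FibCat.fpSnd y f) f) f)
      (FibCat.fpFst (FibCat.fpSnd y f) (FibCat.fpFst f f)) (pasteL f f (FibCat.fpSnd y f))
      (BasedFunctor.id _) (isEquivOver_pasteL f f (FibCat.fpSnd y f)) (isEquivOver_id _)
      (Iso.refl _)).2 h1
  have i1 : (BasedFunctor.id 𝒴).toFunctor.Full := inferInstanceAs (𝟭 _).Full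
  have i2 : (BasedFunctor.id 𝒴).toFunctor.Faithful := inferInstanceAs (𝟭 _).Faithful
  let M : FibCat.fp (BasedFunctor.comp (FibCat.fpFst y f) y) f ⥤ᵇ
      FibCat.fp (BasedFunctor.comp (FibCat.fpSnd y f) f) f :=
    fpMap (BasedFunctor.comp (FibCat.fpSnd y f) f) f (BasedFunctor.comp (FibCat.fpFst y f) y) f
      (BasedFunctor.id _) (BasedFunctor.id _) (BasedFunctor.id _) (FibCat.fpIso y f) (Iso.refl _)
  have hM : FibCat.IsEquivOver M :=
    isEquivOver_fpMap _ _ _ _ _ _ _ _ _ (isEquivOver_id _) (isEquivOver_id _)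
  have h3 : AlgSt.RepByAlgSpWith Q
      (FibCat.fpFst (BasedFunctor.comp (FibCat.fpFst y f) y) f) :=
    (repByAlgSpWith_of_square Q (FibCat.fpFst (BasedFunctor.comp (FibCat.fpSnd y f) f) f)
      (FibCat.fpFst (BasedFunctor.comp (FibCat.fpFst y f) y) f) M
      (BasedFunctor.id _) hM (isEquivOver_id _) (Iso.refl _)).1 h2
  exact (repByAlgSpWith_of_square Q (FibCat.fpFst (BasedFunctor.comp (FibCat.fpFst y f) y) f)
      (FibCat.fpFst (FibCat.fpFst y f) (FibCat.fpFst y f)) (pasteL f y (FibCat.fpFst y f))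
      (BasedFunctor.id _) (isEquivOver_pasteL f y (FibCat.fpFst y f)) (isEquivOver_id _)
      (Iso.refl _)).1 h3

end Sq

section Space

variable {S : Scheme.{u}}

/-- The self-product projection of the functor of a map of sheaves has a property exactly when the
functor of the first projection of the self-product has it. -/
theorem repByAlgSpWith_selfProj_ofSpMap_iff (Q : MorphismProperty (AlgSp.Sp S)) {F G : AlgSp.Sp S}
    (a : F ⟶ G) :
    AlgSt.RepByAlgSpWith Q (FibCat.fpFst (AlgSt.ofSpMap a) (AlgSt.ofSpMap a)) ↔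
      AlgSt.RepByAlgSpWith Q (AlgSt.ofSpMap (pullback.fst a a)) := by
  have sq : IsPullback (pullback.fst a a) (pullback.snd a a) a a := IsPullback.of_hasPullback a a
  have sq' := sq.map (sheafToPresheaf (AlgSp.J S) (Type (u + 1)))
  let E := pbLift a.hom a.hom (pullback.fst a a).hom (pullback.snd a a).hom sq'.w
  have hE : FibCat.IsEquivOver E := isEquivOver_pbLift a.hom a.hom _ _ sq'
  exact repByAlgSpWith_of_square Q (FibCat.fpFst (AlgSt.ofSpMap a) (AlgSt.ofSpMap a))
    (AlgSt.ofSpMap (pullback.fst a a)) E (BasedFunctor.id _) hE (isEquivOver_id _) (Iso.refl _)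

/-- The self-product projection of a functor to a slice, from a category equivalent to that of a
sheaf, has a property exactly when the functor of the first projection of the self-product of the
corresponding map of sheaves has it. -/
theorem repByAlgSpWith_selfProj_toSlice_iff (Q : MorphismProperty (AlgSp.Sp S)) {𝒜 : AlgSt.Cat S}
    {U : Over S} (g : 𝒜 ⥤ᵇ FibCat.overCat U) (F : AlgSp.Sp S) (e : AlgSt.ofSp F ⥤ᵇ 𝒜)
    (he : FibCat.IsEquivOver e) :
    AlgSt.RepByAlgSpWith Q (FibCat.fpFst g g) ↔
      AlgSt.RepByAlgSpWith Q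
        (AlgSt.ofSpMap (pullback.fst (AlgSt.spMapOfOver (BasedFunctor.comp e g))
          (AlgSt.spMapOfOver (BasedFunctor.comp e g)))) := by
  have := IsEquivOver.isEquivalence _
    (Groth.Agent.Lib.Helper15DiagRepSp.isEquivOver_toOverCat U)
  rw [← repByAlgSpWith_selfProj_ofSpMap_iff]
  exact repByAlgSpWith_selfProj_of_square Q g
    (AlgSt.ofSpMap (AlgSt.spMapOfOver (BasedFunctor.comp e g))) e (AlgSt.toOverCat U) he
    (isoToOverCat (BasedFunctor.comp e g))

/-- From the self-product projection of `f` to the self-product projections of the maps of spaces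
representing its base changes. -/
theorem ofSpMap_selfProj_of_selfProj {𝒳 𝒴 : AlgSt.Cat S} (Q : MorphismProperty (AlgSp.Sp S))
    (f : 𝒳 ⥤ᵇ 𝒴) (h : AlgSt.RepByAlgSpWith Q (FibCat.fpFst f f)) {U : Over S}
    (y : FibCat.overCat U ⥤ᵇ 𝒴) (F : AlgSp.Sp S) (e : AlgSt.ofSp F ⥤ᵇ FibCat.fp y f)
    (he : FibCat.IsEquivOver e) :
    AlgSt.RepByAlgSpWith Q (AlgSt.ofSpMap (pullback.fst
      (AlgSt.spMapOfOver (BasedFunctor.comp e (FibCat.fpFst y f)))
      (AlgSt.spMapOfOver (BasedFunctor.comp e (FibCat.fpFst y f))))) :=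
  (repByAlgSpWith_selfProj_toSlice_iff Q (FibCat.fpFst y f) F e he).1
    (repByAlgSpWith_selfProj_fpFst Q f y h)

/-- A map from a sheaf to a scheme, locally of finite type, whose self-product projection is (as a
functor) locally quasi-finite, is locally quasi-finite. -/
theorem locP_lqf_of_selfProj {F : AlgSp.Sp S} {U : Over S} (a : F ⟶ (AlgSp.yon S).obj U)
    (hlft : AlgSp.LocP @LocallyOfFiniteType a)
    (h : AlgSt.RepByAlgSpWith (AlgSp.LocP (@LocallyQuasiFinite ⊓ @LocallyOfFiniteType))
      (AlgSt.ofSpMap (pullback.fst a a))) :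
    AlgSp.LocP (@LocallyQuasiFinite ⊓ @LocallyOfFiniteType) a := by
  intro A B c b hh hc hb comm
  have hl : LocallyOfFiniteType hh.left := hlft c b hh hc hb comm
  refine ⟨?_, hl⟩
  obtain ⟨b₀, rfl⟩ := (AlgSp.yon S).map_surjective b
  have hb₀ : Etale b₀.left := (AlgSp.repWith_yon_map_iff _ _).1 hb
  obtain ⟨h₀, hh₀⟩ : ∃ h₀ : A ⟶ U, h₀ = hh ≫ b₀ := ⟨_, rfl⟩
  have hc0 : c ≫ a = (AlgSp.yon S).map h₀ := by rw [comm, hh₀, Functor.map_comp]
  have hleft : h₀.left = hh.left ≫ b₀.left := by rw [hh₀]; rfl
  suffices hq : LocallyQuasiFinite h₀.left by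
    rw [hleft] at hq
    exact LocallyQuasiFinite.of_comp hh.left b₀.left
  have : LocallyOfFiniteType h₀.left := by rw [hleft]; infer_instance
  suffices LocallyQuasiFinite (pullback.fst h₀.left h₀.left) from
    locallyQuasiFinite_of_pullback_fst h₀.left
  -- the self-product of `A` over `U`, as a scheme over `S`
  let P₀ : Over S := Over.mk (pullback.fst h₀.left h₀.left ≫ A.hom)
  let p₁ : P₀ ⟶ A := Over.homMk (pullback.fst h₀.left h₀.left) rfl
  let p₂ : P₀ ⟶ A := Over.homMk (pullback.snd h₀.left h₀.left) (by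
    change pullback.snd h₀.left h₀.left ≫ A.hom = pullback.fst h₀.left h₀.left ≫ A.hom
    rw [← Over.w h₀, ← Category.assoc, ← Category.assoc, pullback.condition])
  have sqY : IsPullback ((AlgSp.yon S).map p₁) ((AlgSp.yon S).map p₂) ((AlgSp.yon S).map h₀)
      ((AlgSp.yon S).map h₀) :=
    (Groth.Agent.Lib.Seat83.GeomFib.isPullback_yon_iff p₁ p₂ h₀ h₀).2
      (IsPullback.of_hasPullback h₀.left h₀.left)
  -- the base change of the self-product projection along the chart
  have sq₀ : IsPullback (pullback.fst a a) (pullback.snd a a) a a := IsPullback.of_hasPullback a a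
  have sq : IsPullback (pullback.fst (pullback.fst a a) c) (pullback.snd (pullback.fst a a) c)
      (pullback.fst a a) c := IsPullback.of_hasPullback _ _
  obtain ⟨H, snd', i, hi, hQ⟩ := exists_iso_of_repByAlgSpWith_ofSpMap _ (pullback.fst a a) h c _ _ sq
  have hQ' : AlgSp.LocP (@LocallyQuasiFinite ⊓ @LocallyOfFiniteType)
      (pullback.snd (pullback.fst a a) c) := by
    rw [← hi]
    intro U' V' α β k hα hβ hcomm
    refine hQ (α ≫ i.hom) β k ?_ hβ (by rw [Category.assoc, hcomm])
    exact MorphismProperty.comp_mem _ _ _ hα (repWith_etale_of_isIso i.hom)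
  -- the chart of the base change
  have hw1 : ((AlgSp.yon S).map p₁ ≫ c) ≫ a = ((AlgSp.yon S).map p₂ ≫ c) ≫ a := by
    rw [Category.assoc, Category.assoc, hc0]
    exact sqY.w
  let m : (AlgSp.yon S).obj P₀ ⟶ pullback (pullback.fst a a) c :=
    sq.lift (pullback.lift ((AlgSp.yon S).map p₁ ≫ c) ((AlgSp.yon S).map p₂ ≫ c) hw1)
      ((AlgSp.yon S).map p₁) (by rw [pullback.lift_fst])
  have hm1 : m ≫ pullback.fst (pullback.fst a a) c =
      pullback.lift ((AlgSp.yon S).map p₁ ≫ c) ((AlgSp.yon S).map p₂ ≫ c) hw1 := sq.lift_fst _ _ _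
  have hm2 : m ≫ pullback.snd (pullback.fst a a) c = (AlgSp.yon S).map p₁ := sq.lift_snd _ _ _
  have right : IsPullback (pullback.snd (pullback.fst a a) c)
      (pullback.fst (pullback.fst a a) c ≫ pullback.snd a a) (c ≫ a) a :=
    sq.flip.paste_vert sq₀
  have big : IsPullback (m ≫ pullback.snd (pullback.fst a a) c) ((AlgSp.yon S).map p₂) (c ≫ a)
      (c ≫ a) := by
    rw [hm2, hc0]
    exact sqY
  have hcomm' : m ≫ (pullback.fst (pullback.fst a a) c ≫ pullback.snd a a) =
      (AlgSp.yon S).map p₂ ≫ c := by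
    rw [← Category.assoc, hm1, pullback.lift_snd]
  have left : IsPullback m ((AlgSp.yon S).map p₂)
      (pullback.fst (pullback.fst a a) c ≫ pullback.snd a a) c :=
    IsPullback.of_right big hcomm' right
  have hm : AlgSp.RepWith @Etale m :=
    (AlgSp.RepWith (S := S) @Etale).of_isPullback left.flip hc
  have h3 := locP_precomp_etale _ m _ hm hQ'
  rw [hm2] at h3
  exact (AlgSp.locP_yon_map h3).1

end Space

end Groth.Agent.Lib.Seat83.SelfProj
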