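import Mathlib
import Groth.Agent.Lib.Seat83UBF
import Groth.Agent.Lib.Seat83Jacobson
import Groth.Agent.S7441

/-!
# Universally bounded fibres and finite flat covering families (seat 83)

* `degLE_of_flat_family`: a scheme `T` over a field `K` covered by finitely many flat `T_j ⟶ T` with `T_j` finite of
  degree `≤ N_j` over `K` is finite of degree `≤ ∑ N_j`.
* `degFibresLE_of_flat_family`: `ψ : h_V ⟶ X` has fibre degrees `≤ ∑ N_j` as soon as finitely many flat jointly
  surjective `W_j ⟶ V` have fibre degrees `≤ N_j` over `X`.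
-/

set_option autoImplicit false
set_option linter.style.haveILetI false
universe u

open CategoryTheory CategoryTheory.Limits AlgebraicGeometry Topology

namespace Groth.Agent.Lib.Seat83.UBFCover

open Groth.Agent.Lib.Seat46.UBFField

variable {S : Scheme.{u}}

/-- the stalk maps of a flat morphism are injective. -/
lemma stalkMap_injective_of_flat {X Y : Scheme.{u}} (f : X ⟶ Y) [Flat f] (x : X) :
    Function.Injective (f.stalkMap x).hom := by
  algebraize [(f.stalkMap x).hom]
  have : Module.FaithfullyFlat (Y.presheaf.stalk (f x)) (X.presheaf.stalk x) :=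
    @Module.FaithfullyFlat.of_flat_of_isLocalHom _ _ _ _ _ _ _
      (Flat.stalkMap f x) (f.toLRSHom.prop x)
  exact ‹RingHom.FaithfullyFlat _›.injective

/-- a jointly surjective family of flat morphisms is jointly injective on global sections. -/
lemma appTop_jointly_injective {T : Scheme.{u}} {J : Type*} (Tj : J → Scheme.{u}) (e : ∀ j, Tj j ⟶ T)
    [∀ j, Flat (e j)] (hsurj : ∀ t : T, ∃ (j : J) (u : Tj j), e j u = t) (s s' : Γ(T, ⊤))
    (h : ∀ j, (e j).appTop.hom s = (e j).appTop.hom s') : s = s' := by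
  refine TopCat.Presheaf.section_ext T.sheaf ⊤ s s' ?_
  intro t ht
  obtain ⟨j, u, rfl⟩ := hsurj t
  apply stalkMap_injective_of_flat (e j) u
  have h1 := Scheme.Hom.germ_stalkMap_apply (e j) ⊤ u ht s
  have h2 := Scheme.Hom.germ_stalkMap_apply (e j) ⊤ u ht s'
  refine h1.trans (Eq.trans ?_ h2.symm)
  exact congrArg _ (h j)

/-- A scheme over a field covered by finitely many flat morphisms from schemes finite of bounded degree over the field is
finite, of degree at most the sum of the bounds. -/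
theorem degLE_of_flat_family {T : Scheme.{u}} {K : Type u} [Field K] {J : Type*} [Fintype J]
    (Tj : J → Scheme.{u}) (e : ∀ j, Tj j ⟶ T) [∀ j, Flat (e j)]
    (hsurj : ∀ t : T, ∃ (j : J) (u : Tj j), e j u = t)
    (c : T ⟶ Spec (CommRingCat.of K)) (N : J → ℕ)
    (h : ∀ j, IsFinite (e j ≫ c) ∧ ∀ s, (e j ≫ c).finrank s ≤ N j) :
    IsFinite c ∧ ∀ s, c.finrank s ≤ ∑ j, N j := by
  have hfd : ∀ j, Finite (Tj j) ∧ DiscreteTopology (Tj j) := fun j => by
    haveI := (h j).1
    exact finite_discrete_of_isFinite (e j ≫ c)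
  haveI : ∀ j, Finite (Tj j) := fun j => (hfd j).1
  haveI : Finite T :=
    Finite.of_surjective (fun p : Σ j, Tj j => e p.1 p.2) (fun t => by
      obtain ⟨j, u, rfl⟩ := hsurj t
      exact ⟨⟨j, u⟩, rfl⟩)
  haveI : T1Space T := by
    rw [t1Space_iff_specializes_imp_eq]
    intro t t' htt'
    obtain ⟨j, u', rfl⟩ := hsurj t'
    obtain ⟨u, hu, rfl⟩ := (Flat.generalizingMap (e j)) htt'
    haveI := (hfd j).2
    have : u = u' := (specializes_iff_eq (X := ↥(Tj j))).1 hu
    rw [this]
  haveI : DiscreteTopology T := inferInstance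
  have hT : IsAffine T := inferInstance
  have hj := fun j => (isFinite_and_finrank_le_iff (e j ≫ c) (N j)).1 (h j)
  rw [isFinite_and_finrank_le_iff]
  refine ⟨hT, ?_⟩
  letI : Algebra K Γ(T, ⊤) := (ringMap c).hom.toAlgebra
  letI : ∀ j, Algebra K Γ(Tj j, ⊤) := fun j => (ringMap (e j ≫ c)).hom.toAlgebra
  let φ : Γ(T, ⊤) →ₗ[K] (∀ j, Γ(Tj j, ⊤)) :=
    { toFun := fun s j => (e j).appTop.hom s
      map_add' := fun x y => by
        funext j
        exact map_add _ _ _
      map_smul' := fun k x => by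
        funext j
        simp only [Algebra.smul_def, map_mul, RingHom.id_apply, Pi.smul_apply]
        congr 1 }
  have hφ : Function.Injective φ := fun s s' hss' =>
    appTop_jointly_injective Tj e hsurj s s' (fun j => congrFun hss' j)
  haveI : ∀ j, Module.Finite K Γ(Tj j, ⊤) := fun j => (hj j).2.1
  haveI : Module.Finite K Γ(T, ⊤) := Module.Finite.of_injective φ hφ
  refine ⟨inferInstance, (LinearMap.finrank_le_finrank_of_injective hφ).trans ?_⟩
  rw [Module.finrank_pi_fintype]
  exact Finset.sum_le_sum (fun j _ => (hj j).2.2)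

/-- `ψ : h_V ⟶ X` has fibre degrees at most `∑ N_j` when finitely many flat, jointly surjective `W_j ⟶ V` have fibre
degrees at most `N_j` over `X`. -/
theorem degFibresLE_of_flat_family {F : AlgSp.Sp S} {V : Over S} (ψ : (AlgSp.yon S).obj V ⟶ F)
    {J : Type*} [Fintype J] (W : J → Over S) (π : ∀ j, W j ⟶ V) [∀ j, Flat (π j).left]
    (hsurj : ∀ v : ↥V.left, ∃ (j : J) (w : ↥(W j).left), (π j).left w = v)
    (N : J → ℕ) (h : ∀ j, W4dec.DegFibresLE (N j) ((AlgSp.yon S).map (π j) ≫ ψ)) :
    W4dec.DegFibresLE (∑ j, N j) ψ := by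
  intro q T c snd sq
  obtain ⟨b, rfl⟩ := (AlgSp.yon S).map_surjective snd
  have sqL : ∀ j, IsPullback (pullback.fst b (π j)).left (pullback.snd b (π j)).left b.left (π j).left :=
    fun j => (IsPullback.of_hasPullback b (π j)).map (Over.forget S)
  haveI : ∀ j, Flat (pullback.fst b (π j)).left := fun j =>
    MorphismProperty.of_isPullback (P := @Flat) (sqL j).flip inferInstance
  have key : ∀ j, IsFinite ((pullback.fst b (π j)).left ≫ c.left) ∧
      ∀ s, ((pullback.fst b (π j)).left ≫ c.left).finrank s ≤ N j := by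
    intro j
    have sqT : IsPullback ((AlgSp.yon S).map (pullback.fst b (π j)))
        ((AlgSp.yon S).map (pullback.snd b (π j))) ((AlgSp.yon S).map b) ((AlgSp.yon S).map (π j)) :=
      (IsPullback.of_hasPullback b (π j)).map (AlgSp.yon S)
    have big := (sqT.flip.paste_vert sq.flip).flip
    rw [← Functor.map_comp] at big
    exact h j q _ _ _ big
  have hsurj' : ∀ t : ↥T.left, ∃ (j : J) (u : ↥(pullback b (π j)).left),
      (pullback.fst b (π j)).left u = t := by
    intro t
    obtain ⟨j, w, hw⟩ := hsurj (b.left t)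
    obtain ⟨p, hp1, -⟩ := Scheme.exists_preimage_of_isPullback (sqL j) t w hw.symm
    exact ⟨j, p, hp1⟩
  exact degLE_of_flat_family (K := q.K) (fun j => (pullback b (π j)).left)
    (fun j => (pullback.fst b (π j)).left) hsurj' c.left N key

/-- Around a point `v` of `V`, an étale `ψ : h_V ⟶ X` is dominated by an affine scheme étale over `V` whose composite to `X`
has bounded fibre degrees, provided `X` has a covering family of étale charts with universally bounded fibres. -/
theorem exists_local_bound (X : AlgSp.Space S) {ι : Type u} (U : ι → Over S)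
    (φ : ∀ i, (AlgSp.yon S).obj (U i) ⟶ X.obj) (hφ : ∀ i, AlgSp.RepWith @Etale (φ i))
    (hsurj : ∀ x : AlgSp.Points X.obj, ∃ (i : ι) (v : ↥(U i).left), AlgSp.Points.ofPt (φ i) v = x)
    (hb : ∀ i, W4dec.HasUnivBddFibres (φ i)) {V : Over S} (ψ : (AlgSp.yon S).obj V ⟶ X.obj)
    (hψ : AlgSp.RepWith @Etale ψ) (v : ↥V.left) :
    ∃ (W : Over S) (π : W ⟶ V) (N : ℕ), Flat π.left ∧ IsOpen (Set.range π.left) ∧ v ∈ Set.range π.left ∧
      W4dec.DegFibresLE N ((AlgSp.yon S).map π ≫ ψ) := by
  obtain ⟨i, u, hu⟩ := hsurj (AlgSp.Points.ofPt ψ v)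
  obtain ⟨n, hn⟩ := hb i
  obtain ⟨Q, w, pr', sq⟩ := (hφ i).1 ψ
  obtain ⟨pr, rfl⟩ := (AlgSp.yon S).map_surjective pr'
  haveI : Etale w.left := (hφ i).2 ψ _ w sq
  haveI : Etale pr.left := hψ.2 (φ i) _ pr sq.flip
  obtain ⟨y, hy1, hy2⟩ := Groth.Agent.S10176.exists_point_of_isPullback_yon sq u v hu
  obtain ⟨O, hO, hyO, -⟩ : ∃ O : Q.left.Opens, O ∈ Q.left.affineOpens ∧ y ∈ O ∧ O ≤ ⊤ :=
    TopologicalSpace.Opens.isBasis_iff_nbhd.1 Q.left.isBasis_affineOpens
      (TopologicalSpace.Opens.mem_top y)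
  let W : Over S := Over.mk (O.ι ≫ Q.hom)
  let j : W ⟶ Q := Over.homMk O.ι rfl
  haveI : IsAffine W.left := hO
  haveI : Etale (j ≫ w).left := by
    change Etale (O.ι ≫ w.left); infer_instance
  haveI : Etale (j ≫ pr).left := by
    change Etale (O.ι ≫ pr.left); infer_instance
  haveI : LocallyQuasiFinite (j ≫ pr).left := Groth.Agent.S10265.locallyQuasiFinite_of_unramified _
  obtain ⟨a, ha⟩ := Groth.Agent.S7441.result (j ≫ pr).left
  have ha' := (Groth.Agent.Lib.Seat83.UBF.degFibresLE_yon_map_iff (j ≫ pr) a).2 ha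
  have hcomp := Groth.Agent.Lib.Seat83.UBF.degFibresLE_comp X (j ≫ pr) (φ i) ha' hn
  have heq : (AlgSp.yon S).map (j ≫ pr) ≫ φ i = (AlgSp.yon S).map (j ≫ w) ≫ ψ := by
    rw [Functor.map_comp, Functor.map_comp, Category.assoc, Category.assoc, sq.w]
  rw [heq] at hcomp
  refine ⟨W, j ≫ w, a * n, inferInstance, (j ≫ w).left.isOpenMap.isOpen_range, ?_, hcomp⟩
  exact ⟨(⟨y, hyO⟩ : ↥O), hy2⟩

/-- If an algebraic space has a covering family of étale charts with universally bounded fibres, every étale morphism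
from an affine (or just quasi-compact) scheme has universally bounded fibres. -/
theorem hasUnivBddFibres_of_etale_cover (X : AlgSp.Space S) {ι : Type u} (U : ι → Over S)
    (φ : ∀ i, (AlgSp.yon S).obj (U i) ⟶ X.obj) (hφ : ∀ i, AlgSp.RepWith @Etale (φ i))
    (hsurj : ∀ x : AlgSp.Points X.obj, ∃ (i : ι) (v : ↥(U i).left), AlgSp.Points.ofPt (φ i) v = x)
    (hb : ∀ i, W4dec.HasUnivBddFibres (φ i)) {V : Over S} [CompactSpace ↥V.left]
    (ψ : (AlgSp.yon S).obj V ⟶ X.obj) (hψ : AlgSp.RepWith @Etale ψ) : W4dec.HasUnivBddFibres ψ := by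
  choose W π N hflat hopen hmem hdeg using
    fun v => exists_local_bound X U φ hφ hsurj hb ψ hψ v
  obtain ⟨t, ht⟩ := isCompact_univ.elim_finite_subcover (fun v => Set.range (π v).left) hopen
    (fun v _ => Set.mem_iUnion.2 ⟨v, hmem v⟩)
  haveI : ∀ j : ↥t, Flat (π j.1).left := fun j => hflat j.1
  refine ⟨∑ j : ↥t, N j.1, degFibresLE_of_flat_family ψ (fun j : ↥t => W j.1) (fun j => π j.1) ?_
    (fun j => N j.1) (fun j => hdeg j.1)⟩
  intro v
  obtain ⟨i, hi, w, hw⟩ : ∃ i ∈ t, ∃ w, (π i).left w = v := by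
    simpa using ht (Set.mem_univ v)
  exact ⟨⟨i, hi⟩, w, hw⟩

end Groth.Agent.Lib.Seat83.UBFCover
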