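import Mathlib
import Groth.Agent.Lib.Seat83UBFCover
import Groth.Agent.S10425
import Groth.Agent.S10426
import Groth.Agent.S9928

/-!
# Universally bounded fibres of affine étale charts: permanence (seat 83)

The property "every étale morphism from an affine scheme has universally bounded fibres" passes to the source of a
representable morphism and is Zariski local.
-/

set_option autoImplicit false
set_option linter.style.haveILetI false
universe u

open CategoryTheory CategoryTheory.Limits AlgebraicGeometry Topology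

namespace Groth.Agent.Lib.Seat83.UBFRep

open Groth.Agent.Lib.Seat83.UBFCover

variable {S : Scheme.{u}}

/-- The affine open pieces of an atlas: an étale family from affine schemes, jointly surjective on points. -/
theorem exists_affine_etale_family {Y : AlgSp.Sp S} (hY : AlgSp.IsAlgSpace Y) :
    ∃ (ι : Type u) (A : ι → Over S) (p : ∀ i, (AlgSp.yon S).obj (A i) ⟶ Y),
      (∀ i, IsAffine (A i).left) ∧ (∀ i, AlgSp.RepWith @Etale (p i)) ∧
        ∀ y : AlgSp.Points Y, ∃ (i : ι) (a : ↥(A i).left), AlgSp.Points.ofPt (p i) a = y := by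
  obtain ⟨A₀, p₀, hpe, hps⟩ := hY.atlas
  refine ⟨↥A₀.left.affineOpens, fun O => Over.mk (O.1.ι ≫ A₀.hom),
    fun O => (AlgSp.yon S).map (Over.homMk O.1.ι rfl : Over.mk (O.1.ι ≫ A₀.hom) ⟶ A₀) ≫ p₀,
    fun O => O.2, fun O => ?_, fun y => ?_⟩
  · exact (AlgSp.RepWith @Etale).comp_mem _ _
      ((AlgSp.repWith_yon_map_iff _ _).2 (inferInstance : Etale O.1.ι)) hpe
  · obtain ⟨a, rfl⟩ := Groth.Agent.S10177.surjective_ofPt p₀ hps y
    obtain ⟨O, hO, haO, -⟩ : ∃ O : A₀.left.Opens, O ∈ A₀.left.affineOpens ∧ a ∈ O ∧ O ≤ ⊤ :=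
      TopologicalSpace.Opens.isBasis_iff_nbhd.1 A₀.left.isBasis_affineOpens
        (TopologicalSpace.Opens.mem_top a)
    refine ⟨⟨O, hO⟩, (⟨a, haO⟩ : ↥O), ?_⟩
    rw [Groth.Agent.S10176.ofPt_map_comp]
    rfl

/-- Representable morphisms: the source inherits "affine étale charts have universally bounded fibres". -/
theorem of_representable {X Y : AlgSp.Space S} (f : X ⟶ Y) (hf : AlgSp.Representable f.hom)
    (hY : ∀ (V : Over S) (ψ : (AlgSp.yon S).obj V ⟶ Y.obj), IsAffine V.left → AlgSp.RepWith @Etale ψ →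
      W4dec.HasUnivBddFibres ψ)
    (U : Over S) (φ : (AlgSp.yon S).obj U ⟶ X.obj) (hU : IsAffine U.left) (hφ : AlgSp.RepWith @Etale φ) :
    W4dec.HasUnivBddFibres φ := by
  obtain ⟨ι, A, p, hA, hpe, hps⟩ := exists_affine_etale_family Y.property
  choose P snd fst sq using fun i => hf (p i)
  have hfe : ∀ i, AlgSp.RepWith @Etale (fst i) := fun i =>
    MorphismProperty.of_isPullback (P := AlgSp.RepWith @Etale) (sq i).flip (hpe i)
  have hfb : ∀ i, W4dec.HasUnivBddFibres (fst i) := fun i =>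
    Groth.Agent.S10425.result f hf (p i) (hY (A i) (p i) (hA i) (hpe i)) _ (fst i) (sq i).flip
  have hsurj : ∀ x : AlgSp.Points X.obj, ∃ (i : ι) (v : ↥(P i).left),
      AlgSp.Points.ofPt (fst i) v = x := by
    intro x
    obtain ⟨i, a, ha⟩ := hps (AlgSp.Points.map f.hom x)
    have e : AlgSp.Points.map f.hom x = AlgSp.Points.map (p i) (AlgSp.Points.ofScheme (A i) a) := by
      rw [← AlgSp.Points.ofPt_eq_map_ofScheme]; exact ha.symm
    obtain ⟨z, hz1, -⟩ := Groth.Agent.S10175.exists_point_of_isPullback (sq i) x _ e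
    obtain ⟨w, rfl⟩ := (AlgSp.Points.schemeHomeo (P i)).surjective z
    refine ⟨i, w, ?_⟩
    rw [AlgSp.Points.ofPt_eq_map_ofScheme]; exact hz1
  haveI : IsAffine U.left := hU
  exact hasUnivBddFibres_of_etale_cover X P fst hfe hsurj hfb φ hφ

/-- an open immersion of sheaves is representable étale. -/
lemma repWith_etale_of_isOpenImmersion {F G : AlgSp.Sp S} (j : F ⟶ G)
    (hj : AlgSp.RepWith @IsOpenImmersion j) : AlgSp.RepWith @Etale j :=
  ⟨hj.1, by
    intro a b g fst w sq
    haveI : IsOpenImmersion w.left := hj.2 g fst w sq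
    exact (inferInstance : Etale w.left)⟩

/-- the trivial pullback square of a morphism through a monomorphism. -/
lemma isPullback_id_of_mono {C : Type*} [Category C] {A Y X : C} (f' : A ⟶ Y) (j : Y ⟶ X) [Mono j] :
    IsPullback (𝟙 A) f' (f' ≫ j) j := by
  have h1 : IsPullback f' (𝟙 A) (𝟙 Y) f' := IsPullback.of_vert_isIso ⟨by simp⟩
  have h2 : IsPullback (𝟙 Y) (𝟙 Y) j j := (IsKernelPair.id_of_mono j)
  have := h1.paste_horiz h2
  simpa using this.flip

/-- "Affine étale charts have universally bounded fibres" is Zariski local. -/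
theorem of_isZarCover (X : AlgSp.Space S) {ι : Type u}
    (Xi : ι → AlgSp.Space S) (j : ∀ i, Xi i ⟶ X)
    (hj : AlgSp.IsZarCover (fun i => (Xi i).obj) (fun i => (j i).hom))
    (h : ∀ (i : ι) (V : Over S) (ψ : (AlgSp.yon S).obj V ⟶ (Xi i).obj), IsAffine V.left →
      AlgSp.RepWith @Etale ψ → W4dec.HasUnivBddFibres ψ)
    (U : Over S) (φ : (AlgSp.yon S).obj U ⟶ X.obj) (hU : IsAffine U.left) (hφ : AlgSp.RepWith @Etale φ) :
    W4dec.HasUnivBddFibres φ := by
  choose κ A p hA hpe hps using fun i => exists_affine_etale_family (Xi i).property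
  haveI : ∀ i, Mono (j i).hom := fun i =>
    Groth.Agent.S9928.mono_of_repWith @IsOpenImmersion (fun _ _ f hf => by
      haveI : IsOpenImmersion f := hf
      infer_instance) (j i).hom (hj.1 i)
  have hje : ∀ i, AlgSp.RepWith @Etale (j i).hom := fun i =>
    repWith_etale_of_isOpenImmersion _ (hj.1 i)
  haveI : IsAffine U.left := hU
  refine hasUnivBddFibres_of_etale_cover X (ι := Σ i, κ i) (fun r => A r.1 r.2)
    (fun r => p r.1 r.2 ≫ (j r.1).hom) (fun r => ?_) (fun x => ?_) (fun r => ?_) φ hφ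
  · exact (AlgSp.RepWith @Etale).comp_mem _ _ (hpe r.1 r.2) (hje r.1)
  · obtain ⟨i, xi, rfl⟩ := hj.2 x
    obtain ⟨k, a, rfl⟩ := hps i xi
    exact ⟨⟨i, k⟩, a, (AlgSp.Points.map_ofPt _ _ _).symm⟩
  · refine Groth.Agent.S10426.result (j r.1) (hj.1 r.1).1 (p r.1 r.2 ≫ (j r.1).hom) (𝟙 _) (p r.1 r.2)
      (isPullback_id_of_mono _ _) ?_ (h r.1 _ (p r.1 r.2) (hA r.1 r.2) (hpe r.1 r.2))
    rintro _ ⟨a, rfl⟩
    exact ⟨AlgSp.Points.ofPt (p r.1 r.2) a, AlgSp.Points.map_ofPt _ _ _⟩

end Groth.Agent.Lib.Seat83.UBFRep
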