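import Mathlib
import Groth.Agent.Lib.Seat83GorSh
import Groth.Agent.S0537
import Groth.Agent.S2135

/-!
# Geometric unibranchness descends along flat local homomorphisms (seat 83)

* `exists_sh_map`: a local homomorphism `ψ : A → B` of local rings extends to a local homomorphism between given strict
  henselizations.
* `hasUniqueMinimalPrime_of_flat`: along a flat local homomorphism, uniqueness of the minimal prime descends.
* `isGeomUnibranch_of_flat`: if `ψ : A → B` is a flat local homomorphism and `B` is geometrically unibranch, so is `A`.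
-/

set_option autoImplicit false
set_option linter.style.haveILetI false
universe u

open IsLocalRing

namespace Groth.Agent.Lib.Seat83.Unibranch

section

variable {A B A' B' : Type u} [CommRing A] [CommRing B] [CommRing A'] [CommRing B']
  [IsLocalRing A] [IsLocalRing B] [IsLocalRing A'] [IsLocalRing B']
  [Algebra A A'] [IsLocalHom (algebraMap A A')] [hA : Hensel.IsStrictHenselization A A']
  [Algebra B B'] [IsLocalHom (algebraMap B B')] [hB : Hensel.IsStrictHenselization B B']

theorem exists_sh_map (ψ : A →+* B) [IsLocalHom ψ] :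
    ∃ φ : A' →+* B', IsLocalHom φ ∧ φ.comp (algebraMap A A') = (algebraMap B B').comp ψ := by
  haveI : HenselianLocalRing B' := hB.henselian
  let f : A →+* B' := (algebraMap B B').comp ψ
  haveI : IsLocalHom f := RingHom.isLocalHom_comp _ _
  haveI : IsSepClosed (ResidueField B') := hB.isSepClosure.sep_closed
  haveI : Algebra.IsSeparable (ResidueField A) (ResidueField A') := hA.isSepClosure.separable
  letI : Algebra (ResidueField A) (ResidueField B') := (ResidueField.map f).toAlgebra
  let τ₀ : ResidueField A' →ₐ[ResidueField A] ResidueField B' := IsSepClosed.lift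
  have hτ : τ₀.toRingHom.comp (ResidueField.map (algebraMap A A')) = ResidueField.map f := by
    refine RingHom.ext fun x => ?_
    obtain ⟨x, rfl⟩ := residue_surjective x
    exact τ₀.commutes (residue A x)
  obtain ⟨g, ⟨hg1, hg2⟩, -⟩ := hA.universal B' f τ₀.toRingHom hτ
  refine ⟨g, ⟨fun x hx => ?_⟩, hg1⟩
  by_contra hnu
  have h1 : residue A' x = 0 := (residue_eq_zero_iff x).mpr ((mem_maximalIdeal x).mpr hnu)
  have h2 : residue B' (g x) = 0 := by rw [hg2, h1, map_zero]
  exact ((mem_maximalIdeal _).mp ((residue_eq_zero_iff _).mp h2)) hx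

end

theorem hasUniqueMinimalPrime_of_flat {A' B' : Type u} [CommRing A'] [CommRing B'] [IsLocalRing A']
    [IsLocalRing B'] (φ : A' →+* B') [IsLocalHom φ] (hφ : φ.Flat)
    (h : CAlgX.HasUniqueMinimalPrime B') : CAlgX.HasUniqueMinimalPrime A' := by
  letI := φ.toAlgebra
  haveI : IsLocalHom (algebraMap A' B') := ‹IsLocalHom φ›
  haveI : Module.Flat A' B' := hφ
  haveI : Module.FaithfullyFlat A' B' := Module.FaithfullyFlat.of_flat_of_isLocalHom
  obtain ⟨q₀, hq₀, huniq⟩ := h
  have hq₀p : q₀.IsPrime := hq₀.1.1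
  have key : ∀ p : Ideal A', p ∈ minimalPrimes A' → p = q₀.comap (algebraMap A' B') := by
    intro p hp
    haveI : p.IsPrime := hp.1.1
    obtain ⟨Q, hQp, hQ⟩ := Ideal.exists_isPrime_liesOver_of_faithfullyFlat (B := B') p
    obtain ⟨q', hq', hq'Q⟩ := Ideal.exists_minimalPrimes_le (I := (⊥ : Ideal B')) (J := Q) bot_le
    have hq'eq : q' = q₀ := huniq q' hq'
    have hle : q₀.comap (algebraMap A' B') ≤ p := by
      rw [hQ.over, ← hq'eq]
      exact Ideal.comap_mono hq'Q
    exact le_antisymm (hp.2 ⟨inferInstance, bot_le⟩ hle) hle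
  obtain ⟨p, hp, -⟩ := Ideal.exists_minimalPrimes_le (I := (⊥ : Ideal A')) (J := maximalIdeal A') bot_le
  exact ⟨p, hp, fun p' hp' => (key p' hp').trans (key p hp).symm⟩

theorem isGeomUnibranch_of_flat {A B : Type u} [CommRing A] [CommRing B] [IsLocalRing A] [IsLocalRing B]
    (ψ : A →+* B) [IsLocalHom ψ] (hψ : ψ.Flat) (hB : CAlg2.IsGeomUnibranch B) : CAlg2.IsGeomUnibranch A := by
  obtain ⟨A', _, _, _, _, hA'⟩ := Groth.Agent.S0537.result A
  obtain ⟨B', _, _, _, _, hB'⟩ := Groth.Agent.S0537.result B
  obtain ⟨φ, hloc, hcomm⟩ := exists_sh_map (A' := A') (B' := B') ψ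
  rw [Groth.Agent.S2135.result (Ash := A')]
  rw [Groth.Agent.S2135.result (Ash := B')] at hB
  exact hasUniqueMinimalPrime_of_flat φ ((Groth.Agent.Lib.Seat83.GorSh.flat_iff_sh ψ φ hcomm).mp hψ) hB

end Groth.Agent.Lib.Seat83.Unibranch
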