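import Mathlib
import Groth.Prelude.Def_AlgSp
import Groth.Prelude.Def_AlgSp2
import Groth.Prelude.Def_AlgSpCov
import Groth.Prelude.Def_AlgSpDec
import Groth.Agent.Lib.Seat46DecentPt
import Groth.Agent.Lib.Helper12ZarGlue2
import Groth.Agent.S9928
import Groth.Agent.S10362

/-!
# Seat 83: decency is Zariski local

`isDecent_of_isZarCover`: an algebraic space with a Zariski covering by decent open subspaces is decent.
-/

set_option autoImplicit false
set_option linter.style.haveILetI false

universe u

open CategoryTheory CategoryTheory.Limits AlgebraicGeometry Opposite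

namespace Groth.Agent.Lib.Seat83.ZarDecent

open AlgSp

variable {S : Scheme.{u}}

/-- a representable open immersion of sheaves is a monomorphism. -/
lemma mono_of_openImm {F G : Sp S} (f : F ⟶ G) (hf : RepWith @IsOpenImmersion f) : Mono f :=
  Groth.Agent.S9928.mono_of_repWith @IsOpenImmersion (fun _ _ g hg => by
    haveI : IsOpenImmersion g := hg
    infer_instance) f hf

/-- a morphism from the sheaf of an empty scheme to an algebraic space is quasi-compact. -/
lemma repWith_quasiCompact_of_isEmpty {F : Sp S} (hF : IsAlgSpace F) {W : Over S}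
    [IsEmpty ↥W.left] (m : (yon S).obj W ⟶ F) : RepWith @QuasiCompact m := by
  refine ⟨hF.representable_from_yon m, fun T B g pr' w sqB => ?_⟩
  obtain ⟨pr, rfl⟩ := (yon S).map_surjective pr'
  change QuasiCompact w.left
  haveI : IsEmpty ↥B.left := Function.isEmpty pr.left
  exact ⟨fun U _ _ => (Set.subsingleton_of_subsingleton).isCompact⟩

/-- the base change of a monomorphic field point of `X` to a decent open subspace is quasi-compact. -/
lemma repWith_quasiCompact_baseChange {X Xl : Sp S} (hXl : IsAlgSpace Xl) (jl : Xl ⟶ X)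
    (hjl : RepWith @IsOpenImmersion jl) (hd : IsDecent Xl) (p : FieldPt X) [Mono p.toHom]
    {W : Over S} (snd : W ⟶ p.pt) (fst : (yon S).obj W ⟶ Xl)
    (sq : IsPullback fst ((yon S).map snd) jl p.toHom) : RepWith @QuasiCompact fst := by
  cases isEmpty_or_nonempty ↥W.left
  · exact repWith_quasiCompact_of_isEmpty hXl fst
  obtain ⟨w₀⟩ := ‹Nonempty ↥W.left›
  haveI : Mono jl := mono_of_openImm jl hjl
  haveI hoi : IsOpenImmersion snd.left := hjl.2 _ _ _ sq
  haveI : Subsingleton ↥p.pt.left := (inferInstance : Subsingleton (PrimeSpectrum p.K))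
  have hsurj : Function.Surjective snd.left := fun y => ⟨w₀, Subsingleton.elim _ _⟩
  haveI : Epi snd.left.base := (TopCat.epi_iff_surjective _).2 hsurj
  haveI : IsIso snd.left := IsOpenImmersion.isIso snd.left
  haveI : IsIso ((Over.forget S).map snd) := (inferInstance : IsIso snd.left)
  haveI : IsIso snd := isIso_of_reflects_iso snd (Over.forget S)
  -- the factorization of `p` through `Xl`
  let pl : (yon S).obj p.pt ⟶ Xl := (yon S).map (inv snd) ≫ fst
  have hpl : pl ≫ jl = p.toHom := by
    change ((yon S).map (inv snd) ≫ fst) ≫ jl = p.toHom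
    rw [Category.assoc, sq.w, ← Category.assoc, ← Functor.map_comp, IsIso.inv_hom_id,
      CategoryTheory.Functor.map_id, Category.id_comp]
  haveI : Mono pl := by
    haveI : Mono (pl ≫ jl) := by rw [hpl]; infer_instance
    exact mono_of_mono pl jl
  let Pl : FieldPt Xl := Groth.Agent.Lib.Seat46.DecentPt.ofHom p.K p.str pl
  have hPl : Pl.toHom = pl := Groth.Agent.Lib.Seat46.DecentPt.toHom_ofHom p.K p.str pl
  obtain ⟨r, hr, hrm, hrq⟩ := hd (Points.mk Pl)
  have hqc : RepWith @QuasiCompact Pl.toHom :=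
    Groth.Agent.S10362.result ⟨Xl, hXl⟩ r Pl hrm hrq hr.symm
  rw [hPl] at hqc
  have hfst : fst = (yon S).map snd ≫ pl := by
    change fst = (yon S).map snd ≫ (yon S).map (inv snd) ≫ fst
    rw [← Category.assoc, ← Functor.map_comp, IsIso.hom_inv_id, CategoryTheory.Functor.map_id, Category.id_comp]
  rw [hfst]
  refine (RepWith @QuasiCompact).comp_mem _ _ ?_ hqc
  exact (repWith_yon_map_iff @QuasiCompact snd).2 (inferInstance : QuasiCompact snd.left)

/-- **Decency is Zariski local.** -/
theorem isDecent_of_isZarCover {X : Sp S} {ι : Type u} (Xi : ι → Sp S)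
    (hXi : ∀ i, IsAlgSpace (Xi i)) (j : ∀ i, Xi i ⟶ X) (hj : IsZarCover Xi j)
    (hd : ∀ i, IsDecent (Xi i)) : IsDecent X := by
  intro x
  obtain ⟨i₀, xi, rfl⟩ := hj.2 x
  obtain ⟨p₀, rfl, hm₀, -⟩ := hd i₀ xi
  haveI := hm₀
  haveI : Mono (j i₀) := mono_of_openImm (j i₀) (hj.1 i₀)
  let p : FieldPt X := p₀.map (j i₀)
  have hp : p.toHom = p₀.toHom ≫ j i₀ := FieldPt.toHom_map (j i₀) p₀
  haveI : Mono p.toHom := by rw [hp]; exact @mono_comp _ _ _ _ _ _ hm₀ _ inferInstance
  refine ⟨p, rfl, inferInstance, ?_⟩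
  choose W snd fst sq using fun l => (hj.1 l).1 p.toHom
  exact Groth.Agent.Lib.Helper12.ZarGlue.repWith_of_zarCover @QuasiCompact p.toHom Xi j hj
    (fun l => (yon S).obj (W l)) (fun l => (yon S).map (snd l)) fst (fun l => (sq l).flip)
    (fun l => repWith_quasiCompact_baseChange (hXi l) (j l) (hj.1 l) (hd l) p (snd l) (fst l) (sq l))

end Groth.Agent.Lib.Seat83.ZarDecent
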