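import Groth.Agent.Lib.Seat13CKCech1

/-!
# Seat84: Čech `H¹` of a cover by two opens

`H¹` of a cochain complex of abelian groups from a map out of the `1`-cochains, and the Čech `H¹`
of a presheaf for a family of two opens `U₀, U₁` as the cokernel of
`P(U₀) × P(U₁) → P(U₀ ∩ U₁)`.
-/

set_option autoImplicit false
set_option backward.defeqAttrib.useBackward true
set_option backward.isDefEq.respectTransparency false

universe u

open CategoryTheory CategoryTheory.Limits Opposite TopologicalSpace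

namespace Groth.Agent.Lib.Seat84.CechTwo

/-- `H¹` of a cochain complex of abelian groups, computed by an additive map out of the
`1`-cochains which is surjective on cocycles and whose kernel on cocycles is the coboundaries. -/
theorem nonempty_homology_addEquiv (K : CochainComplex AddCommGrpCat.{u} ℕ) {G : Type u}
    [AddCommGroup G] (Ψ : K.X 1 →+ G)
    (h1 : ∀ g : G, ∃ c : K.X 1, K.d 1 2 c = 0 ∧ Ψ c = g)
    (h2 : ∀ c : K.X 1, K.d 1 2 c = 0 → Ψ c = 0 → ∃ b : K.X 0, K.d 0 1 b = c)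
    (h3 : ∀ b : K.X 0, Ψ (K.d 0 1 b) = 0) :
    Nonempty (↑(K.homology 1) ≃+ G) := by
  let S := K.sc' 0 1 2
  let i1 : K.homology 1 ≅ S.homology :=
    ShortComplex.homologyMapIso (K.isoSc' 0 1 2 (by simp) (by simp))
  let i2 := S.abHomologyIso
  have hg : ∀ c : K.X 1, S.g c = K.d 1 2 c := fun _ => rfl
  have hf : ∀ b : K.X 0, S.f b = K.d 0 1 b := fun _ => rfl
  let Ψ' : S.g.hom.ker →+ G := Ψ.comp (AddSubgroup.subtype _)
  have hsurj : Function.Surjective Ψ' := by
    intro g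
    obtain ⟨c, hc, hcg⟩ := h1 g
    exact ⟨⟨c, hc⟩, hcg⟩
  have hker : Ψ'.ker = AddMonoidHom.range S.abToCycles := by
    ext ⟨c, hc⟩
    constructor
    · intro h
      obtain ⟨b, hb⟩ := h2 c hc h
      exact ⟨b, Subtype.ext hb⟩
    · rintro ⟨b, hb⟩
      have hb' : K.d 0 1 b = c := congrArg Subtype.val hb
      show Ψ c = 0
      rw [← hb', h3]
  exact ⟨(i1 ≪≫ i2).addCommGroupIsoToAddEquiv.trans
    ((QuotientAddGroup.quotientAddEquivOfEq hker.symm).trans
      (QuotientAddGroup.quotientKerEquivOfSurjective Ψ' hsurj))⟩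


open Groth.Agent.Lib.Helper16.CechLow Groth.Agent.Lib.Seat13.CKCech1

section Two

variable {X : TopCat.{u}} (U : ULift.{u} (Fin 2) → Opens X)
  (P : (Opens X)ᵒᵖ ⥤ AddCommGrpCat.{u})

/-- the first index. -/
def i0 : ULift.{u} (Fin 2) := ⟨0⟩
/-- the second index. -/
def i1 : ULift.{u} (Fin 2) := ⟨1⟩

/-- a `0`-simplex. -/
def single (i : ULift.{u} (Fin 2)) : Fin (0 + 1) → ULift.{u} (Fin 2) := ![i]
/-- a `1`-simplex. -/
def pair (i j : ULift.{u} (Fin 2)) : Fin (1 + 1) → ULift.{u} (Fin 2) := ![i, j]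
/-- a `2`-simplex. -/
def triple (i j k : ULift.{u} (Fin 2)) : Fin (1 + 2) → ULift.{u} (Fin 2) := ![i, j, k]

theorem pair_eta (x : Fin (1 + 1) → ULift.{u} (Fin 2)) : x = pair (x 0) (x 1) := by
  funext a; fin_cases a <;> rfl

theorem triple_eta (x : Fin (1 + 2) → ULift.{u} (Fin 2)) : x = triple (x 0) (x 1) (x 2) := by
  funext a; fin_cases a <;> rfl

theorem pair_succAbove_zero (i j : ULift.{u} (Fin 2)) :
    pair i j ∘ Fin.succAbove 0 = single j := by
  funext a; fin_cases a; rfl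

theorem pair_succAbove_one (i j : ULift.{u} (Fin 2)) :
    pair i j ∘ Fin.succAbove 1 = single i := by
  funext a; fin_cases a; rfl

theorem triple_succAbove_zero (i j k : ULift.{u} (Fin 2)) :
    triple i j k ∘ Fin.succAbove 0 = pair j k := by
  funext a; fin_cases a <;> rfl

theorem triple_succAbove_one (i j k : ULift.{u} (Fin 2)) :
    triple i j k ∘ Fin.succAbove 1 = pair i k := by
  funext a; fin_cases a <;> rfl

theorem triple_succAbove_two (i j k : ULift.{u} (Fin 2)) :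
    triple i j k ∘ Fin.succAbove 2 = pair i j := by
  funext a; fin_cases a <;> rfl

theorem fin2_third : ∀ a b c : Fin 2, a ≠ b → a ≠ c → b = c := by decide

theorem eq_i0_or_eq_i1 (i : ULift.{u} (Fin 2)) : i = i0 ∨ i = i1 := by
  obtain ⟨a⟩ := i
  fin_cases a
  · exact Or.inl rfl
  · exact Or.inr rfl

theorem exists_eq {n : ℕ} (x : Fin (n + 1) → ULift.{u} (Fin 2)) (a b : Fin (n + 1))
    (h : (x a).down ≠ (x b).down) (i : ULift.{u} (Fin 2)) : ∃ c, x c = i := by
  by_cases h0 : x a = i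
  · exact ⟨a, h0⟩
  · refine ⟨b, ULift.ext _ _ (fin2_third _ _ _ h ?_)⟩
    exact fun e => h0 (ULift.ext _ _ e)

theorem Ux_le_of_ne {n : ℕ} (x : Fin (n + 1) → ULift.{u} (Fin 2)) (a b : Fin (n + 1))
    (h : (x a).down ≠ (x b).down) (i : ULift.{u} (Fin 2)) : Ux U x ≤ U i := by
  obtain ⟨c, hc⟩ := exists_eq x a b h i
  exact hc ▸ Ux_le U x c

/-- the sign `j - i` of a pair `(i, j)`. -/
def sgn (x : Fin (1 + 1) → ULift.{u} (Fin 2)) : ℤ :=
  (((x 1).down : ℕ) : ℤ) - (((x 0).down : ℕ) : ℤ)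

theorem sgn_pair (i j : ULift.{u} (Fin 2)) :
    sgn (pair i j) = ((j.down : ℕ) : ℤ) - ((i.down : ℕ) : ℤ) := rfl

theorem down_eq_of_sgn_ne {x : Fin (1 + 1) → ULift.{u} (Fin 2)} (h : sgn x ≠ 0) :
    (x 0).down ≠ (x 1).down := by
  intro e
  apply h
  unfold sgn
  rw [e, sub_self]

theorem ev_sub {n : ℕ} (c c' : (CK U P).X n) (x : Fin (n + 1) → ULift.{u} (Fin 2)) (W : Opens X)
    (h : ∀ a, W ≤ U (x a)) :
    ev U P (c - c') x W h = ev U P c x W h - ev U P c' x W h := by
  have h1 := ev_add U P (c - c') c' x W h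
  rw [sub_add_cancel] at h1
  exact eq_sub_of_add_eq h1.symm

theorem ev_d0 (b : (CK U P).X 0) (x : Fin (1 + 1) → ULift.{u} (Fin 2)) (W : Opens X)
    (h : ∀ a, W ≤ U (x a)) :
    ev U P ((CK U P).d 0 1 b) x W h =
      ev U P b (x ∘ Fin.succAbove 0) W (fun _ => h _) -
        ev U P b (x ∘ Fin.succAbove 1) W (fun _ => h _) := by
  have h1 := ev_d U P (n := 0) b x W h
  rw [Fin.sum_univ_two] at h1
  simpa [sub_eq_add_neg] using h1

theorem ev_d1 (c : (CK U P).X 1) (x : Fin (1 + 2) → ULift.{u} (Fin 2)) (W : Opens X)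
    (h : ∀ a, W ≤ U (x a)) :
    ev U P ((CK U P).d 1 2 c) x W h =
      ev U P c (x ∘ Fin.succAbove 0) W (fun _ => h _) -
        ev U P c (x ∘ Fin.succAbove 1) W (fun _ => h _) +
          ev U P c (x ∘ Fin.succAbove 2) W (fun _ => h _) := by
  have h1 := ev_d U P (n := 1) c x W h
  rw [Fin.sum_univ_three] at h1
  simpa [sub_eq_add_neg] using h1


/-- the intersection of the two opens is contained in each member of the pair `(0, 1)`. -/
theorem le01 (a : Fin (1 + 1)) : U i0 ⊓ U i1 ≤ U (pair i0 i1 a) := by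
  fin_cases a
  · exact inf_le_left
  · exact inf_le_right

/-- the `(0,1)`-component of a `1`-cochain. -/
noncomputable def c01 (c : (CK U P).X 1) : P.obj (op (U i0 ⊓ U i1)) :=
  ev U P c (pair i0 i1) (U i0 ⊓ U i1) (le01 U)

theorem c01_add (c c' : (CK U P).X 1) : c01 U P (c + c') = c01 U P c + c01 U P c' :=
  ev_add U P c c' _ _ _

theorem c01_sub (c c' : (CK U P).X 1) : c01 U P (c - c') = c01 U P c - c01 U P c' :=
  ev_sub U P c c' _ _ _

/-- the value of a cochain on the pair `(0,1)` is the restriction of its `(0,1)`-component. -/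
theorem ev_pair01 (c : (CK U P).X 1) (W : Opens X) (h : ∀ a, W ≤ U (pair i0 i1 a)) :
    ev U P c (pair i0 i1) W h =
      res P (le_inf (h 0) (h 1) : W ≤ U i0 ⊓ U i1) (c01 U P c) := by
  unfold c01
  rw [ev_res]

open Classical in
/-- the `1`-cocycle with `(0,1)`-component `h`. -/
noncomputable def cocyc (h : P.obj (op (U i0 ⊓ U i1))) : (CK U P).X 1 :=
  mk U P (n := 1) (fun x => sgn x •
    (if hx : Ux U x ≤ U i0 ⊓ U i1 then res P hx h else 0))

theorem ev_cocyc (h : P.obj (op (U i0 ⊓ U i1))) (x : Fin (1 + 1) → ULift.{u} (Fin 2))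
    (W : Opens X) (hW : ∀ a, W ≤ U (x a)) (hW' : W ≤ U i0 ⊓ U i1) :
    ev U P (cocyc U P h) x W hW = sgn x • res P hW' h := by
  unfold cocyc
  rw [ev_mk, map_zsmul]
  by_cases hx : Ux U x ≤ U i0 ⊓ U i1
  · rw [dif_pos hx, res_res]
  · rw [dif_neg hx, map_zero, smul_zero]
    have hs : sgn x = 0 := by
      by_contra hs
      exact hx (le_inf (Ux_le_of_ne U x 0 1 (down_eq_of_sgn_ne hs) i0)
        (Ux_le_of_ne U x 0 1 (down_eq_of_sgn_ne hs) i1))
    rw [hs, zero_smul]

theorem ev_cocyc_of_sgn (h : P.obj (op (U i0 ⊓ U i1))) (x : Fin (1 + 1) → ULift.{u} (Fin 2))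
    (W : Opens X) (hW : ∀ a, W ≤ U (x a)) (hs : sgn x = 0) :
    ev U P (cocyc U P h) x W hW = 0 := by
  unfold cocyc
  rw [ev_mk, hs, zero_smul, map_zero]

theorem c01_cocyc (h : P.obj (op (U i0 ⊓ U i1))) : c01 U P (cocyc U P h) = h := by
  unfold c01
  rw [ev_cocyc U P h _ _ _ le_rfl, res_self]
  have : sgn (pair i0 i1) = 1 := by
    rw [sgn_pair]
    simp [i0, i1]
  rw [this, one_smul]

theorem d_cocyc (h : P.obj (op (U i0 ⊓ U i1))) : (CK U P).d 1 2 (cocyc U P h) = 0 := by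
  apply ext_ev
  intro x
  rw [ev_zero, ev_d1]
  by_cases hW : Ux U x ≤ U i0 ⊓ U i1
  · rw [ev_cocyc U P h _ _ _ hW, ev_cocyc U P h _ _ _ hW, ev_cocyc U P h _ _ _ hW,
      ← sub_smul, ← add_smul]
    have hz : sgn (x ∘ Fin.succAbove 0) - sgn (x ∘ Fin.succAbove 1) +
        sgn (x ∘ Fin.succAbove 2) = 0 := by
      have e0 : sgn (x ∘ Fin.succAbove 0) =
          (((x 2).down : ℕ) : ℤ) - (((x 1).down : ℕ) : ℤ) := rfl
      have e1 : sgn (x ∘ Fin.succAbove 1) =
          (((x 2).down : ℕ) : ℤ) - (((x 0).down : ℕ) : ℤ) := rfl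
      have e2 : sgn (x ∘ Fin.succAbove 2) =
          (((x 1).down : ℕ) : ℤ) - (((x 0).down : ℕ) : ℤ) := rfl
      rw [e0, e1, e2]
      ring
    rw [hz, zero_smul]
  · have hconst : ∀ a b, (x a).down = (x b).down := by
      intro a b
      by_contra hab
      exact hW (le_inf (Ux_le_of_ne U x a b hab i0) (Ux_le_of_ne U x a b hab i1))
    have hs : ∀ a : Fin (1 + 2), sgn (x ∘ Fin.succAbove a) = 0 := by
      intro a
      unfold sgn
      rw [Function.comp_apply, Function.comp_apply, hconst (Fin.succAbove a 1) (Fin.succAbove a 0),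
        sub_self]
    rw [ev_cocyc_of_sgn U P h _ _ _ (hs 0), ev_cocyc_of_sgn U P h _ _ _ (hs 1),
      ev_cocyc_of_sgn U P h _ _ _ (hs 2), sub_zero, add_zero]


/-- a `1`-cocycle vanishes on diagonal pairs. -/
theorem ev_diag_of_cocycle (c : (CK U P).X 1) (hc : (CK U P).d 1 2 c = 0)
    (i : ULift.{u} (Fin 2)) (W : Opens X) (hW : ∀ a, W ≤ U (pair i i a)) :
    ev U P c (pair i i) W hW = 0 := by
  have hW3 : ∀ a, W ≤ U (triple i i i a) := by
    intro a
    fin_cases a <;> exact hW 0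
  have h := ev_d1 U P c (triple i i i) W hW3
  rw [hc, ev_zero, ev_congr U P c (triple_succAbove_zero i i i),
    ev_congr U P c (triple_succAbove_one i i i), ev_congr U P c (triple_succAbove_two i i i),
    sub_self, zero_add] at h
  exact h.symm

/-- a `1`-cocycle whose `(0,1)`-component vanishes is zero. -/
theorem eq_zero_of_cocycle (c : (CK U P).X 1) (hc : (CK U P).d 1 2 c = 0)
    (h01 : c01 U P c = 0) : c = 0 := by
  apply ext_ev
  intro x
  rw [ev_zero]
  have key : ∀ (i j : ULift.{u} (Fin 2)) (W : Opens X) (hW : ∀ a, W ≤ U (pair i j a)),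
      ev U P c (pair i j) W hW = 0 := by
    intro i j W hW
    rcases eq_i0_or_eq_i1 i with rfl | rfl <;> rcases eq_i0_or_eq_i1 j with rfl | rfl
    · exact ev_diag_of_cocycle U P c hc i0 W hW
    · rw [ev_pair01, h01, map_zero]
    · have hW3 : ∀ a, W ≤ U (triple i0 i1 i0 a) := by
        intro a
        fin_cases a
        · exact hW 1
        · exact hW 0
        · exact hW 1
      have h := ev_d1 U P c (triple i0 i1 i0) W hW3
      rw [hc, ev_zero, ev_congr U P c (triple_succAbove_zero i0 i1 i0),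
        ev_congr U P c (triple_succAbove_one i0 i1 i0),
        ev_congr U P c (triple_succAbove_two i0 i1 i0),
        ev_diag_of_cocycle U P c hc i0, ev_pair01, h01, map_zero, sub_zero, add_zero] at h
      exact h.symm
    · exact ev_diag_of_cocycle U P c hc i1 W hW
  rw [ev_congr U P c (pair_eta x)]
  exact key _ _ _ _

/-- two `1`-cocycles with the same `(0,1)`-component are equal. -/
theorem eq_of_cocycle (c c' : (CK U P).X 1) (hc : (CK U P).d 1 2 c = 0)
    (hc' : (CK U P).d 1 2 c' = 0) (h01 : c01 U P c = c01 U P c') : c = c' := by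
  rw [← sub_eq_zero]
  apply eq_zero_of_cocycle U P
  · rw [map_sub, hc, hc', sub_zero]
  · rw [c01_sub, h01, sub_self]

open Classical in
/-- the `0`-cochain with components `b0`, `b1`. -/
noncomputable def cob (b0 : P.obj (op (U i0))) (b1 : P.obj (op (U i1))) : (CK U P).X 0 :=
  mk U P (n := 0) (fun x => res P (Ux_le U x 0)
    (if hi : x 0 = i0 then res P (le_of_eq (congrArg U hi)) b0
      else res P (le_of_eq (congrArg U ((eq_i0_or_eq_i1 (x 0)).resolve_left hi))) b1))

theorem ev_cob_zero (b0 : P.obj (op (U i0))) (b1 : P.obj (op (U i1))) (W : Opens X)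
    (hW : ∀ a, W ≤ U (single i0 a)) :
    ev U P (cob U P b0 b1) (single i0) W hW = res P (hW 0) b0 := by
  unfold cob
  rw [ev_mk, dif_pos (show single i0 0 = i0 from rfl), res_res, res_res]
  rfl

theorem ev_cob_one (b0 : P.obj (op (U i0))) (b1 : P.obj (op (U i1))) (W : Opens X)
    (hW : ∀ a, W ≤ U (single i1 a)) :
    ev U P (cob U P b0 b1) (single i1) W hW = res P (hW 0) b1 := by
  unfold cob
  have hne : ¬ (single i1 0 = i0) := by
    intro e
    have e' : (1 : Fin 2) = 0 := congrArg ULift.down e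
    exact absurd e' (by decide)
  rw [ev_mk, dif_neg hne, res_res, res_res]
  rfl

theorem c01_d_cob (b0 : P.obj (op (U i0))) (b1 : P.obj (op (U i1))) :
    c01 U P ((CK U P).d 0 1 (cob U P b0 b1)) =
      res P (inf_le_right : U i0 ⊓ U i1 ≤ U i1) b1 -
        res P (inf_le_left : U i0 ⊓ U i1 ≤ U i0) b0 := by
  unfold c01
  rw [ev_d0, ev_congr U P _ (pair_succAbove_zero i0 i1), ev_congr U P _ (pair_succAbove_one i0 i1),
    ev_cob_zero, ev_cob_one]
  rfl

theorem d_d (b : (CK U P).X 0) : (CK U P).d 1 2 ((CK U P).d 0 1 b) = 0 := by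
  have h := ConcreteCategory.congr_hom ((CK U P).d_comp_d 0 1 2) b
  exact h

/-- the components of a `0`-cochain. -/
theorem c01_d (b : (CK U P).X 0) :
    ∃ (b0 : P.obj (op (U i0))) (b1 : P.obj (op (U i1))),
      c01 U P ((CK U P).d 0 1 b) = res P (inf_le_right : U i0 ⊓ U i1 ≤ U i1) b1 -
        res P (inf_le_left : U i0 ⊓ U i1 ≤ U i0) b0 := by
  have h0 : ∀ a, U i0 ≤ U (single i0 a) := fun a => by fin_cases a; exact le_rfl
  have h1 : ∀ a, U i1 ≤ U (single i1 a) := fun a => by fin_cases a; exact le_rfl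
  refine ⟨ev U P b (single i0) (U i0) h0, ev U P b (single i1) (U i1) h1, ?_⟩
  unfold c01
  rw [ev_d0, ev_congr U P _ (pair_succAbove_zero i0 i1), ev_congr U P _ (pair_succAbove_one i0 i1),
    ev_res, ev_res]

/-- Čech `H¹` for two opens `U₀, U₁`: it is the cokernel of the difference of restrictions
`P(U₀) × P(U₁) → P(U₀ ∩ U₁)`, presented by any surjection `Λ` out of `P(U₀ ∩ U₁)` with that
kernel. -/
theorem nonempty_cechH_one_addEquiv {G : Type u} [AddCommGroup G]
    (Λ : P.obj (op (U i0 ⊓ U i1)) →+ G) (hsurj : Function.Surjective Λ)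
    (hker : ∀ h, Λ h = 0 → ∃ (b0 : P.obj (op (U i0))) (b1 : P.obj (op (U i1))),
      h = res P (inf_le_right : U i0 ⊓ U i1 ≤ U i1) b1 -
        res P (inf_le_left : U i0 ⊓ U i1 ≤ U i0) b0)
    (hker' : ∀ (b0 : P.obj (op (U i0))) (b1 : P.obj (op (U i1))),
      Λ (res P (inf_le_right : U i0 ⊓ U i1 ≤ U i1) b1 -
        res P (inf_le_left : U i0 ⊓ U i1 ≤ U i0) b0) = 0) :
    Nonempty (↑((CK U P).homology 1) ≃+ G) := by
  let Ψ : (CK U P).X 1 →+ G :=
    Λ.comp (AddMonoidHom.mk' (fun c => c01 U P c) (c01_add U P))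
  have hΨ : ∀ c, Ψ c = Λ (c01 U P c) := fun _ => rfl
  refine nonempty_homology_addEquiv (CK U P) Ψ ?_ ?_ ?_
  · intro g
    obtain ⟨h, rfl⟩ := hsurj g
    exact ⟨cocyc U P h, d_cocyc U P h, by rw [hΨ, c01_cocyc]⟩
  · intro c hc hΨc
    rw [hΨ] at hΨc
    obtain ⟨b0, b1, hb⟩ := hker _ hΨc
    refine ⟨cob U P b0 b1, ?_⟩
    apply eq_of_cocycle U P _ _ (d_d U P _) hc
    rw [c01_d_cob, hb]
  · intro b
    obtain ⟨b0, b1, hb⟩ := c01_d U P b
    rw [hΨ, hb, hker']

end Two

end Groth.Agent.Lib.Seat84.CechTwo
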