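import Groth.Agent.Lib.Seat84DivConn

/-!
# Seat84: global functions of a connected reduced scheme proper over an algebraically closed field
-/

set_option autoImplicit false
set_option linter.style.haveILetI false
universe u

open CategoryTheory CategoryTheory.Limits AlgebraicGeometry TopologicalSpace Opposite

namespace Groth.Agent.Lib.Seat84.ConnRed

section Algebra

variable {k B : Type*} [Field k] [CommRing B] [Algebra k B] [Nontrivial B]

/-- in an algebra with only trivial idempotents over a field, an element killed by a product of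
distinct linear factors is a scalar. -/
theorem exists_eq_algebraMap_of_prod_eq_zero
    (hidem : ∀ e : B, IsIdempotentElem e → e = 0 ∨ e = 1) (a : B) (s : Finset k)
    (h : ∏ c ∈ s, (a - algebraMap k B c) = 0) : ∃ c ∈ s, a = algebraMap k B c := by
  classical
  induction s using Finset.induction_on with
  | empty =>
    rw [Finset.prod_empty] at h
    exact absurd h one_ne_zero
  | insert c s hc ih =>
    rw [Finset.prod_insert hc] at h
    have hcop : IsCoprime (Polynomial.X - Polynomial.C c)
        (∏ c' ∈ s, (Polynomial.X - Polynomial.C c')) := by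
      apply IsCoprime.prod_right
      intro c' hc'
      apply Polynomial.isCoprime_X_sub_C_of_isUnit_sub
      exact (sub_ne_zero.2 (fun e : c = c' => hc (by rw [e]; exact hc'))).isUnit
    obtain ⟨U, V, hUV⟩ := hcop
    have h1 := congrArg (Polynomial.aeval a) hUV
    rw [map_add, map_mul, map_mul, map_sub, map_prod, Polynomial.aeval_X, Polynomial.aeval_C,
      map_one] at h1
    have h2 : ∀ c' ∈ s, Polynomial.aeval a (Polynomial.X - Polynomial.C c') =
        a - algebraMap k B c' := fun c' _ => by
      rw [map_sub, Polynomial.aeval_X, Polynomial.aeval_C]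
    rw [Finset.prod_congr rfl h2] at h1
    generalize (∏ c' ∈ s, (a - algebraMap k B c')) = b at h h1 ih
    generalize Polynomial.aeval a U = u at h1
    generalize Polynomial.aeval a V = v at h1
    have he : IsIdempotentElem (v * b) := by
      have : v * b * (v * b) = v * b * (u * (a - algebraMap k B c) + v * b) -
          u * v * ((a - algebraMap k B c) * b) := by ring
      rw [IsIdempotentElem, this, h1, h, mul_one, mul_zero, sub_zero]
    rcases hidem _ he with h0 | h1'
    · have hb : b = 0 := by
        have : b = b * (u * (a - algebraMap k B c) + v * b) := by rw [h1, mul_one]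
        rw [this, h0, add_zero]
        have : b * (u * (a - algebraMap k B c)) = u * ((a - algebraMap k B c) * b) := by ring
        rw [this, h, mul_zero]
      obtain ⟨c', hc', hac'⟩ := ih hb
      exact ⟨c', Finset.mem_insert_of_mem hc', hac'⟩
    · refine ⟨c, Finset.mem_insert_self _ _, sub_eq_zero.1 ?_⟩
      have : a - algebraMap k B c = v * ((a - algebraMap k B c) * b) := by
        have h3 : v * ((a - algebraMap k B c) * b) = (a - algebraMap k B c) * (v * b) := by ring
        rw [h3, h1', mul_one]
      rw [this, h, mul_zero]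

/-- a reduced algebra with only trivial idempotents which is integral over an algebraically closed
field is the field. -/
theorem exists_eq_algebraMap_of_isIntegral [IsAlgClosed k] [IsReduced B]
    (hidem : ∀ e : B, IsIdempotentElem e → e = 0 ∨ e = 1) (a : B) (ha : IsIntegral k a) :
    ∃ c : k, a = algebraMap k B c := by
  classical
  obtain ⟨p, hp, hpa⟩ := ha
  have hsplit : p.Splits := IsAlgClosed.splits p
  have h1 : Polynomial.aeval a p = 0 := hpa
  rw [hsplit.eq_prod_roots_of_monic hp, map_multiset_prod, Multiset.map_map] at h1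
  have h2 : (p.roots.map (fun c => a - algebraMap k B c)).prod = 0 := by
    rw [← h1]
    congr 1
    refine Multiset.map_congr rfl (fun c _ => ?_)
    rw [Function.comp_apply, map_sub, Polynomial.aeval_X, Polynomial.aeval_C]
  rw [Finset.prod_multiset_map_count] at h2
  have h3 : (∏ c ∈ p.roots.toFinset, (a - algebraMap k B c)) ^ (Multiset.card p.roots) = 0 := by
    rw [← Finset.prod_pow]
    apply eq_zero_of_zero_dvd
    rw [← h2]
    apply Finset.prod_dvd_prod_of_dvd
    intro c _
    exact pow_dvd_pow _ (Multiset.count_le_card c p.roots)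
  have h4 : ∏ c ∈ p.roots.toFinset, (a - algebraMap k B c) = 0 :=
    IsReduced.eq_zero _ ⟨_, h3⟩
  obtain ⟨c, -, hc⟩ := exists_eq_algebraMap_of_prod_eq_zero hidem a _ h4
  exact ⟨c, hc⟩

end Algebra

section Sch

/-- on a connected reduced scheme, the only idempotent global functions are `0` and `1`. -/
theorem eq_zero_or_eq_one_of_isIdempotentElem {Y : Scheme.{u}} [ConnectedSpace Y] [IsReduced Y]
    (e : Γ(Y, ⊤)) (he : IsIdempotentElem e) : e = 0 ∨ e = 1 := by
  have h1 : Y.basicOpen e ⊓ Y.basicOpen (1 - e) = ⊥ := by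
    rw [← Scheme.basicOpen_mul]
    have : e * (1 - e) = 0 := by rw [mul_sub, mul_one, he.eq, sub_self]
    rw [this, Scheme.basicOpen_zero]
  have h2 : ∀ x : Y, x ∈ Y.basicOpen e ∨ x ∈ Y.basicOpen (1 - e) := by
    intro x
    rw [Scheme.mem_basicOpen_top, Scheme.mem_basicOpen_top]
    apply IsLocalRing.isUnit_or_isUnit_of_add_one
    rw [← map_add, add_sub_cancel, map_one]
  have hcl : IsClopen ((Y.basicOpen e : Set Y)) := by
    refine ⟨?_, (Y.basicOpen e).isOpen⟩
    have : ((Y.basicOpen e : Set Y))ᶜ = (Y.basicOpen (1 - e) : Set Y) := by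
      ext x
      constructor
      · intro hx
        rcases h2 x with h | h
        · exact absurd h hx
        · exact h
      · intro hx hx'
        have : x ∈ Y.basicOpen e ⊓ Y.basicOpen (1 - e) := ⟨hx', hx⟩
        rw [h1] at this
        exact this
    rw [← isOpen_compl_iff, this]
    exact (Y.basicOpen (1 - e)).isOpen
  rcases isClopen_iff.1 hcl with h | h
  · left
    apply AlgebraicGeometry.eq_zero_of_basicOpen_eq_bot
    ext x
    simp only [Opens.coe_bot]
    rw [h]
  · right
    have h3 : Y.basicOpen (1 - e) = ⊥ := by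
      ext x
      simp only [Opens.coe_bot, Set.mem_empty_iff_false, iff_false]
      intro hx
      have hx' : x ∈ (Y.basicOpen e : Set Y) := by rw [h]; trivial
      have : x ∈ Y.basicOpen e ⊓ Y.basicOpen (1 - e) := ⟨hx', hx⟩
      rw [h1] at this
      exact this
    have h4 := AlgebraicGeometry.eq_zero_of_basicOpen_eq_bot _ h3
    exact (sub_eq_zero.1 h4).symm

/-- **Global functions of a connected reduced scheme universally closed over an algebraically
closed field are constants.** -/
theorem appTop_surjective_of_connected_reduced (k : Type u) [Field k] [IsAlgClosed k]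
    {Y : Scheme.{u}} (f : Y ⟶ Spec (CommRingCat.of k)) [UniversallyClosed f] [ConnectedSpace Y]
    [IsReduced Y] : Function.Surjective f.appTop.hom := by
  let F := (Scheme.ΓSpecIso (CommRingCat.of k)).inv ≫ f.appTop
  have hF : F.hom.IsIntegral := by
    apply RingHom.isIntegral_respectsIso.2
      (e := (Scheme.ΓSpecIso (CommRingCat.of k)).symm.commRingCatIsoToRingEquiv)
    exact isIntegral_appTop_of_universallyClosed f
  algebraize [F.hom]
  have : Nontrivial Γ(Y, ⊤) := by
    have hne : Nonempty Y := inferInstance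
    have : Nonempty (⊤ : Y.Opens) := ⟨⟨hne.some, trivial⟩⟩
    exact Scheme.component_nontrivial Y ⊤
  intro a
  obtain ⟨c, hc⟩ := exists_eq_algebraMap_of_isIntegral (k := k) (B := Γ(Y, ⊤))
    (fun e he => eq_zero_or_eq_one_of_isIdempotentElem e he) a (hF a)
  refine ⟨(Scheme.ΓSpecIso (CommRingCat.of k)).inv.hom c, ?_⟩
  rw [hc]
  rfl

end Sch

section ExtLemma

open Groth.Agent.Lib.Helper23.QCohLocal Groth.Agent.Lib.Helper23.AffVanish
open CategoryTheory.Abelian

/-- for a short exact sequence `0 → M₁ → M₂ → M₃ → 0` of modules, if `M₂(W) → M₃(W)` is surjective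
and `H¹(W, M₂) = 0` then `H¹(W, M₁) = 0`. -/
theorem subsingleton_HE_of_surjective_app {X : Scheme.{u}} (S : ShortComplex X.Modules)
    (hS : S.ShortExact) (W : X.Opens) (hsurj : Function.Surjective (S.g.app W))
    (h : Subsingleton (HE (ab' S.X₂) 1 W)) : Subsingleton (HE (ab' S.X₁) 1 W) := by
  have hS' := shortExact_toAbF S hS
  suffices hz : ∀ x : HE (ab' S.X₁) 1 W, x = 0 from ⟨fun a b => by rw [hz a, hz b]⟩
  intro x₁
  have h0 : x₁.comp (Ext.mk₀ (S.map (toAbF X)).f) (add_zero 1) = 0 :=
    @Subsingleton.elim _ h _ _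
  obtain ⟨x₃, hx₃⟩ := Ext.covariant_sequence_exact₁ (ZU W) hS' x₁ h0 (zero_add 1)
  obtain ⟨c, rfl⟩ := (Ext.mk₀_bijective _ _).2 x₃
  obtain ⟨s, hs⟩ := hsurj (CohFree.evalGen (J X.carrier) W (ab' S.X₃) c)
  let σ : ZU W ⟶ (S.map (toAbF X)).X₂ := CohFree.ofSect (J X.carrier) W (ab' S.X₂) s
  have hc : c = σ ≫ (S.map (toAbF X)).g := by
    have h3 : CohFree.evalGen (J X.carrier) W (ab' S.X₃) (σ ≫ (S.map (toAbF X)).g) =
        (S.g.app W) (CohFree.evalGen (J X.carrier) W (ab' S.X₂)
          (CohFree.ofSect (J X.carrier) W (ab' S.X₂) s)) := rfl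
    have h4 : CohFree.evalGen (J X.carrier) W (ab' S.X₃) c =
        CohFree.evalGen (J X.carrier) W (ab' S.X₃) (σ ≫ (S.map (toAbF X)).g) := by
      refine Eq.trans ?_ h3.symm
      refine hs.symm.trans ?_
      exact congrArg (S.g.app W) (CohFree.evalGen_ofSect (J X.carrier) W (ab' S.X₂) s).symm
    exact (CohFree.homEquivSect (J X.carrier) W (ab' S.X₃)).injective h4
  rw [← hx₃, hc, ← Ext.mk₀_comp_mk₀, Ext.comp_assoc_of_second_deg_zero, hS'.comp_extClass,
    Ext.comp_zero]
  rfl

end ExtLemma

section Ideal

open Groth.Agent.Lib.Helper23.QCohLocal Groth.Agent.Lib.Helper23.AffVanish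

/-- if every global function of `D` extends to `X` and `H¹(X, O_X) = 0`, then `H¹(X, I_D) = 0`. -/
theorem subsingleton_HH_idealMod_of_surjective {X : Scheme.{u}} (D : X.IdealSheafData)
    (hsurj : Function.Surjective (D.subschemeι.app ⊤).hom)
    (hH1 : Subsingleton (Coh.HH X (Coh.structureModule X) 1)) :
    Subsingleton (Coh.HH X (ClSub.idealMod D) 1) := by
  let S : ShortComplex X.Modules :=
    ShortComplex.mk (ClSub.idealModι D) (ClSub.toSubscheme D) (kernel.condition _)
  have hS : S.ShortExact :=
    { exact := ShortComplex.exact_kernel _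
      mono_f := inferInstanceAs (Mono (kernel.ι (ClSub.toSubscheme D)))
      epi_g := Groth.Agent.Lib.Seat96.ModSec.epi_toSubscheme D }
  haveI : Subsingleton (CohTop.H (ab' (Coh.structureModule X)) 1) := hH1
  have hsub : Subsingleton (HE (ab' (Coh.structureModule X)) 1 (⊤ : X.Opens)) :=
    (HETopEquivH X.carrier (ab' (Coh.structureModule X)) 1).toEquiv.subsingleton
  have hsurj' : Function.Surjective (S.g.app ⊤) := by
    intro b
    obtain ⟨a, ha⟩ := hsurj b
    exact ⟨a, ha⟩
  have h1 : Subsingleton (HE (ab' (ClSub.idealMod D)) 1 (⊤ : X.Opens)) :=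
    subsingleton_HE_of_surjective_app S hS ⊤ hsurj' hsub
  have h2 : Subsingleton (CohTop.H (ab' (ClSub.idealMod D)) 1) :=
    (HETopEquivH X.carrier (ab' (ClSub.idealMod D)) 1).symm.toEquiv.subsingleton
  exact h2

/-- **`H¹` of the ideal of a connected reduced closed subscheme.** Let `X` be proper over an
algebraically closed field `k` with `H¹(X, O_X) = 0`; if the closed subscheme `D` is connected and
reduced then `H¹(X, I_D) = 0`. -/
theorem subsingleton_HH_idealMod_of_connected_reduced (k : Type u) [Field k] [IsAlgClosed k]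
    {X : Scheme.{u}} (p : X ⟶ Spec (CommRingCat.of k)) [UniversallyClosed p]
    (D : X.IdealSheafData) [ConnectedSpace ↥D.subscheme] [IsReduced D.subscheme]
    (hH1 : Subsingleton (Coh.HH X (Coh.structureModule X) 1)) :
    Subsingleton (Coh.HH X (ClSub.idealMod D) 1) := by
  apply subsingleton_HH_idealMod_of_surjective D _ hH1
  have h1 := appTop_surjective_of_connected_reduced k (D.subschemeι ≫ p)
  rw [Scheme.Hom.comp_appTop] at h1
  intro b
  obtain ⟨a, ha⟩ := h1 b
  exact ⟨p.appTop.hom a, ha⟩

end Ideal

end Groth.Agent.Lib.Seat84.ConnRed
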