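import Mathlib

/-!
# Seat84: flatness over the dual numbers

A module `L` over `k[ε]` in which every element killed by `ε` is a multiple of `ε` is flat
(it is `k[ε] ⊗_k (L/εL)`).
-/

set_option autoImplicit false
set_option linter.style.haveILetI false

open TensorProduct

namespace Groth.Agent.Lib.Seat84.DualFlat

variable {k : Type*} [Field k] {L : Type*} [AddCommGroup L] [Module (DualNumber k) L]

theorem dual_decomp (z : DualNumber k) :
    z = algebraMap k (DualNumber k) z.fst + z.snd • (DualNumber.eps : DualNumber k) := by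
  apply TrivSqZeroExt.ext <;> simp [TrivSqZeroExt.algebraMap_eq_inl]

theorem eps_smul_eps_smul (l : L) :
    (DualNumber.eps : DualNumber k) • ((DualNumber.eps : DualNumber k) • l) = 0 := by
  rw [← mul_smul, DualNumber.eps_mul_eps, zero_smul]

theorem flat_of_ker_eps
    (h : ∀ l : L, (DualNumber.eps : DualNumber k) • l = 0 →
      ∃ l' : L, l = (DualNumber.eps : DualNumber k) • l') :
    Module.Flat (DualNumber k) L := by
  letI mLk : Module k L := Module.compHom L (algebraMap k (DualNumber k))
  haveI : IsScalarTower k (DualNumber k) L := ⟨fun c z l => by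
      change (c • z) • l = (algebraMap k (DualNumber k) c) • (z • l)
      rw [Algebra.smul_def, mul_smul]⟩
  let ε : DualNumber k := DualNumber.eps
  let P : Submodule (DualNumber k) L := LinearMap.range (LinearMap.lsmul (DualNumber k) L ε)
  have hP : ∀ l : L, l ∈ P ↔ ∃ l', ε • l' = l := fun l => Iff.rfl
  let q : L →ₗ[k] (L ⧸ P) := P.mkQ.restrictScalars k
  have hq : Function.Surjective q := P.mkQ_surjective
  have hq0 : ∀ l : L, q l = 0 ↔ ∃ l', ε • l' = l := fun l => by
    rw [← hP]; exact Submodule.Quotient.mk_eq_zero P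
  have hqε : ∀ l : L, q (ε • l) = 0 := fun l => (hq0 _).2 ⟨l, rfl⟩
  obtain ⟨s, hs⟩ := q.exists_rightInverse_of_surjective (LinearMap.range_eq_top.2 hq)
  have hs' : ∀ v, q (s v) = v := fun v => LinearMap.congr_fun hs v
  let F := LinearMap.liftBaseChange (DualNumber k) s
  have hF : ∀ (z : DualNumber k) (v : L ⧸ P), F (z ⊗ₜ v) = z • s v := fun z v => by
    rw [LinearMap.liftBaseChange_tmul]
  -- every tensor is `1 ⊗ v + ε ⊗ w`
  have hform : ∀ t : DualNumber k ⊗[k] (L ⧸ P), ∃ v w, t = (1 : DualNumber k) ⊗ₜ v + ε ⊗ₜ w := by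
    intro t
    induction t using TensorProduct.induction_on with
    | zero => exact ⟨0, 0, by simp⟩
    | add x y hx hy =>
      obtain ⟨v, w, rfl⟩ := hx
      obtain ⟨v', w', rfl⟩ := hy
      refine ⟨v + v', w + w', ?_⟩
      rw [TensorProduct.tmul_add, TensorProduct.tmul_add]
      abel
    | tmul z v =>
      refine ⟨z.fst • v, z.snd • v, ?_⟩
      conv_lhs => rw [dual_decomp z]
      rw [TensorProduct.add_tmul, Algebra.algebraMap_eq_smul_one, TensorProduct.smul_tmul,
        TensorProduct.smul_tmul]
  have hFform : ∀ v w, F ((1 : DualNumber k) ⊗ₜ v + ε ⊗ₜ w) = s v + ε • s w := fun v w => by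
    rw [map_add, hF, hF, one_smul]
  have hbij : Function.Bijective F := by
    constructor
    · rw [injective_iff_map_eq_zero]
      intro t ht
      obtain ⟨v, w, rfl⟩ := hform t
      rw [hFform] at ht
      have h1 : v = 0 := by
        have := congrArg q ht
        rw [map_add, hs', hqε, add_zero, map_zero] at this
        exact this
      subst h1
      rw [map_zero, zero_add] at ht
      obtain ⟨l', hl'⟩ := h _ ht
      have h2 : w = 0 := by
        rw [← hs' w, hl', hqε]
      subst h2
      simp
    · intro l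
      obtain ⟨l', hl'⟩ := (hq0 (l - s (q l))).1 (by rw [map_sub, hs', sub_self])
      obtain ⟨l'', hl''⟩ := (hq0 (l' - s (q l'))).1 (by rw [map_sub, hs', sub_self])
      refine ⟨(1 : DualNumber k) ⊗ₜ q l + ε ⊗ₜ q l', ?_⟩
      rw [hFform]
      have h3 : ε • l' = ε • s (q l') := by
        have : ε • (l' - s (q l')) = 0 := by rw [← hl'']; exact eps_smul_eps_smul l''
        rw [smul_sub, sub_eq_zero] at this
        exact this
      rw [← h3, hl']
      abel
  exact Module.Flat.of_linearEquiv (LinearEquiv.ofBijective F hbij).symm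

end Groth.Agent.Lib.Seat84.DualFlat
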