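import Mathlib

/-!
# Seat84: extension classes in `Ext¹` — comparison of extensions with equal classes, realisation of
classes (enough injectives), split sequences
-/

set_option autoImplicit false
universe w v u

open CategoryTheory CategoryTheory.Limits CategoryTheory.Abelian

namespace Groth.Agent.Lib.Seat84.ExtClass

variable {C : Type u} [Category.{v} C] [Abelian C] [HasExt.{w} C]

section Compare

variable {A B B' Q : C} {f : A ⟶ B} {g : B ⟶ Q} {f' : A ⟶ B'} {g' : B' ⟶ Q}
  {w₁ : f ≫ g = 0} {w₂ : f' ≫ g' = 0}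

/-- a morphism of extensions (identity on both ends) forces equal classes. -/
theorem extClass_eq_of_hom (hS : (ShortComplex.mk f g w₁).ShortExact)
    (hS' : (ShortComplex.mk f' g' w₂).ShortExact) (φ : B ⟶ B') (h1 : f ≫ φ = f')
    (h2 : φ ≫ g' = g) : hS.extClass = hS'.extClass := by
  let τ : ShortComplex.mk f g w₁ ⟶ ShortComplex.mk f' g' w₂ :=
    { τ₁ := 𝟙 A
      τ₂ := φ
      τ₃ := 𝟙 Q
      comm₁₂ := by simp [h1]
      comm₂₃ := by simp [h2] }
  have h := ShortComplex.ShortExact.extClass_naturality hS hS' τ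
  simpa [τ] using h

/-- extensions with equal classes are isomorphic (there is a morphism of extensions). -/
theorem exists_hom_of_extClass_eq (hS : (ShortComplex.mk f g w₁).ShortExact)
    (hS' : (ShortComplex.mk f' g' w₂).ShortExact) (h : hS.extClass = hS'.extClass) :
    ∃ φ : B ⟶ B', f ≫ φ = f' ∧ φ ≫ g' = g := by
  have := hS'.mono_f
  have := hS.epi_g
  -- lift `g` through `g'`
  have h0 : (Ext.mk₀ g).comp hS'.extClass (zero_add 1) = 0 := by
    rw [← h]; exact hS.comp_extClass
  obtain ⟨x₂, hx₂⟩ := Ext.covariant_sequence_exact₃ B hS' (Ext.mk₀ g) (zero_add 1) h0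
  obtain ⟨φ₀, rfl⟩ := (Ext.mk₀_bijective _ _).2 x₂
  have hφ₀ : φ₀ ≫ g' = g := by
    have h1 : Ext.mk₀ (φ₀ ≫ g') = Ext.mk₀ g := by
      rw [← Ext.mk₀_comp_mk₀]; exact hx₂
    exact (Ext.mk₀_bijective _ _).1 h1
  -- `f ≫ φ₀` factors through `f'`
  have hk : (f ≫ φ₀) ≫ g' = 0 := by rw [Category.assoc, hφ₀, w₁]
  let a : A ⟶ A := hS'.exact.lift (f ≫ φ₀) hk
  have ha : a ≫ f' = f ≫ φ₀ := hS'.exact.lift_f (f ≫ φ₀) hk
  -- the class is fixed by `a`
  let τ : ShortComplex.mk f g w₁ ⟶ ShortComplex.mk f' g' w₂ :=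
    { τ₁ := a
      τ₂ := φ₀
      τ₃ := 𝟙 Q
      comm₁₂ := by simpa using ha
      comm₂₃ := by simp [hφ₀] }
  have hnat := ShortComplex.ShortExact.extClass_naturality hS hS' τ
  have hnat' : hS.extClass.comp (Ext.mk₀ a) (add_zero 1) = hS.extClass := by
    simpa [τ, h] using hnat
  have h3 : hS.extClass.comp (Ext.mk₀ (𝟙 A - a)) (add_zero 1) = 0 := by
    rw [sub_eq_add_neg, Ext.mk₀_add, Ext.mk₀_neg, Ext.comp_add, Ext.comp_neg, hnat',
      Ext.comp_mk₀_id, add_neg_cancel]
  obtain ⟨y₂, hy₂⟩ := Ext.contravariant_sequence_exact₁ hS A (Ext.mk₀ (𝟙 A - a)) (add_zero 1) h3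
  obtain ⟨hh, rfl⟩ := (Ext.mk₀_bijective _ _).2 y₂
  have hhh : f ≫ hh = 𝟙 A - a := by
    have h1 : Ext.mk₀ (f ≫ hh) = Ext.mk₀ (𝟙 A - a) := by
      rw [← Ext.mk₀_comp_mk₀]; exact hy₂
    exact (Ext.mk₀_bijective _ _).1 h1
  refine ⟨φ₀ + hh ≫ f', ?_, ?_⟩
  · rw [Preadditive.comp_add, ← ha, ← Category.assoc, hhh, Preadditive.sub_comp, Category.id_comp]
    abel
  · rw [Preadditive.add_comp, Category.assoc, w₂, comp_zero, add_zero, hφ₀]

/-- a split extension has class zero. -/
theorem extClass_eq_zero_of_section (hS : (ShortComplex.mk f g w₁).ShortExact) (s : Q ⟶ B)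
    (hs : s ≫ g = 𝟙 Q) : hS.extClass = 0 := by
  have h1 : (Ext.mk₀ s).comp ((Ext.mk₀ g).comp hS.extClass (zero_add 1)) (zero_add 1) =
      hS.extClass := by
    rw [← Ext.comp_assoc (a₁₂ := 0) _ _ _ (by lia) (by lia) (by lia), Ext.mk₀_comp_mk₀, hs,
      Ext.mk₀_id_comp]
  rw [← h1, hS.comp_extClass, Ext.comp_zero]

end Compare


section Realise

variable [EnoughInjectives C]

/-- every class in `Ext¹(Q, A)` is the class of an extension. -/
theorem exists_shortExact_of_ext {A Q : C} (α : Ext.{w} Q A 1) :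
    ∃ (B : C) (f : A ⟶ B) (g : B ⟶ Q) (w₁ : f ≫ g = 0)
      (hS : (ShortComplex.mk f g w₁).ShortExact), hS.extClass = α := by
  -- embed `A` into an injective object
  let j : A ⟶ Injective.under A := Injective.ι A
  let q : Injective.under A ⟶ cokernel j := cokernel.π j
  have hT : (ShortComplex.mk j q (cokernel.condition j)).ShortExact :=
    ShortComplex.ShortExact.mk' (ShortComplex.exact_cokernel j) inferInstance inferInstance
  have hx : α.comp (Ext.mk₀ j) (add_zero 1) = 0 := Ext.eq_zero_of_injective _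
  obtain ⟨x₃, hx₃⟩ := Ext.covariant_sequence_exact₁ Q hT α hx (zero_add 1)
  obtain ⟨t, rfl⟩ := (Ext.mk₀_bijective _ _).2 x₃
  -- pull the injective extension back along `t`
  let f : A ⟶ pullback q t := pullback.lift j 0 (by simp [q])
  have hf1 : f ≫ pullback.fst q t = j := pullback.lift_fst _ _ _
  have hf2 : f ≫ pullback.snd q t = 0 := pullback.lift_snd _ _ _
  have : Mono f := mono_of_mono_fac hf1
  have hlim : IsLimit (KernelFork.ofι f hf2) :=
    KernelFork.IsLimit.ofι f hf2
      (fun {W'} t' ht' => hT.exact.lift (t' ≫ pullback.fst q t)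
        (by
          change (t' ≫ pullback.fst q t) ≫ q = 0
          rw [Category.assoc, pullback.condition, ← Category.assoc, ht', zero_comp]))
      (fun {W'} t' ht' => by
        apply pullback.hom_ext
        · rw [Category.assoc, hf1]
          exact hT.exact.lift_f _ _
        · rw [Category.assoc, hf2, comp_zero, ht'])
      (fun {W'} t' ht' m hm => by
        rw [← cancel_mono f, hm]
        apply pullback.hom_ext
        · rw [Category.assoc, hf1]
          exact (hT.exact.lift_f _ _).symm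
        · rw [Category.assoc, hf2, comp_zero, ht'])
  have hS : (ShortComplex.mk f (pullback.snd q t) hf2).ShortExact :=
    ShortComplex.ShortExact.mk' (ShortComplex.exact_of_f_is_kernel _ hlim) inferInstance
      inferInstance
  refine ⟨pullback q t, f, pullback.snd q t, hf2, hS, ?_⟩
  let τ : ShortComplex.mk f (pullback.snd q t) hf2 ⟶ ShortComplex.mk j q (cokernel.condition j) :=
    { τ₁ := 𝟙 A
      τ₂ := pullback.fst q t
      τ₃ := t
      comm₁₂ := by simp [hf1]
      comm₂₃ := by simpa using pullback.condition }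
  have hnat := ShortComplex.ShortExact.extClass_naturality hS hT τ
  rw [← hx₃]
  simpa [τ] using hnat

end Realise

end Groth.Agent.Lib.Seat84.ExtClass
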