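import Groth.Agent.Lib.Seat84DefoLocTriv
import Groth.Agent.Lib.Seat84ExtClass
import Groth.Agent.Lib.Seat84DualFlat
import Groth.Agent.Lib.Helper2ModExact
import Groth.Agent.Lib.Helper4ModEpi
import Groth.Agent.S0484

/-!
# Seat84: first-order deformations of a module and `Ext¹(E, E)`

* stalkwise exactness of short exact sequences of `O_X`-modules;
* `defoOfExt`: the first-order deformation defined by an extension `0 → E → B → E → 0`;
* `extOf D`: the extension class of a first-order deformation, its invariance under isomorphism,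
  injectivity and surjectivity on isomorphism classes, and the class of the trivial deformation.
-/

set_option autoImplicit false
set_option linter.style.haveILetI false
universe u

open CategoryTheory CategoryTheory.Limits AlgebraicGeometry TopologicalSpace Opposite

namespace Groth.Agent.Lib.Seat84.DefoExt

open DefoSh Groth.Agent.Lib.Seat84.DefoExact Groth.Agent.Lib.Seat84.ExtClass

variable {X : Scheme.{u}}

section Stalks

theorem stalk_surjective_of_epi {G C : X.Modules} (π : G ⟶ C) [Epi π] (x : X) :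
    Function.Surjective (RefHull.stalkMapₗ π x) :=
  fun c => Groth.Agent.Lib.Helper4.ModEpi.exists_germ_eq_of_epi π x c

theorem stalk_exact_of_shortExact (S : ShortComplex X.Modules) (hS : S.ShortExact) (x : X)
    (v : ↑(S.X₂.presheaf.stalk x)) (hv : RefHull.stalkMapₗ S.g x v = 0) :
    ∃ a, RefHull.stalkMapₗ S.f x a = v := by
  obtain ⟨U, hxU, m, rfl⟩ := TopCat.Presheaf.exists_germ_eq S.X₂.presheaf v
  rw [RefHull.stalkMapₗ_germ] at hv
  have h0 : S.X₃.presheaf.germ U x hxU (S.g.app U m) = S.X₃.presheaf.germ U x hxU 0 := by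
    rw [hv, map_zero]
  obtain ⟨W, hxW, i₁, i₂, hW⟩ := S.X₃.presheaf.germ_eq x hxU hxU _ 0 h0
  rw [map_zero, ← Groth.Agent.Lib.Helper2.ModExact.app_map] at hW
  obtain ⟨t₁, ht₁⟩ :=
    Groth.Agent.Lib.Helper2.ModExact.exists_app_eq_of_shortExact S hS W _ hW
  refine ⟨S.X₁.presheaf.germ W x hxW t₁, ?_⟩
  rw [RefHull.stalkMapₗ_germ, ht₁]
  exact TopCat.Presheaf.germ_res_apply S.X₂.presheaf i₁ x hxW m

end Stalks

variable {k : Type u} [Field k] [X.Over (Spec (CommRingCat.of k))] {E : X.Modules}

section OfExt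

variable {B : X.Modules} (f : E ⟶ B) (g : B ⟶ E) (w : f ≫ g = 0)

/-- the endomorphism `g ≫ f` of the middle term, as an element of the endomorphism ring. -/
def epsEnd : End B := g ≫ f

include w in
theorem epsEnd_mul_self : epsEnd f g * epsEnd f g = 0 := by
  rw [End.mul_def, epsEnd, Category.assoc, reassoc_of% w, zero_comp, comp_zero]

variable (k) in
/-- the action of the dual numbers on the middle term of an extension: `ε ↦ g ≫ f`. -/
noncomputable def extAct : DualNumber k →ₐ[k] End B :=
  DualNumber.lift ⟨(Algebra.ofId k (End B), epsEnd f g),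
    epsEnd_mul_self f g w, fun a => (Algebra.commutes a (epsEnd f g)).symm⟩

theorem extAct_eps : (extAct k f g w (DualNumber.eps : DualNumber k) : B ⟶ B) = g ≫ f :=
  DualNumber.lift_apply_eps _

theorem extAct_hom (z : DualNumber k) :
    (extAct k f g w z : B ⟶ B) = z.fst • 𝟙 B + z.snd • (g ≫ f) := by
  have h := algHom_dual_apply (k := k) (B := End B) (extAct k f g w) z
  rw [extAct_eps] at h
  exact h

theorem extAct_comp_g (z : DualNumber k) (hz : z.fst = 0) :
    (extAct k f g w z : B ⟶ B) ≫ g = 0 := by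
  rw [extAct_hom, hz, zero_smul, zero_add, Linear.smul_comp, Category.assoc, w, comp_zero,
    smul_zero]

variable (hS : (ShortComplex.mk f g w).ShortExact)

include hS in
theorem exists_eps_smul_of_g_eq_zero (p : X) (v : ↑(B.presheaf.stalk p))
    (hv : RefHull.stalkMapₗ g p v = 0) :
    ∃ l' : ↑(B.presheaf.stalk p),
      v = RefHull.stalkMapₗ (extAct k f g w (DualNumber.eps : DualNumber k) : B ⟶ B) p l' := by
  haveI : Epi g := hS.epi_g
  obtain ⟨a, ha⟩ := stalk_exact_of_shortExact _ hS p v hv
  obtain ⟨l', hl'⟩ := stalk_surjective_of_epi g p a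
  refine ⟨l', ?_⟩
  rw [extAct_eps, stalkMapₗ_comp_apply, hl']
  exact ha.symm

variable (k) in
/-- the first-order deformation defined by an extension `0 → E → B → E → 0`. -/
noncomputable def defoOfExt : Defo E (ArtFun.Art.dual k k) where
  sheaf := B
  act := extAct k f g w
  π := g
  act_π a ha := extAct_comp_g f g w a ha
  surj p := by
    haveI : Epi g := hS.epi_g
    exact stalk_surjective_of_epi g p
  ker_le p v hv := by
    letI : Module (ArtFun.Art.dual k k) ↑(B.presheaf.stalk p) :=
      stalkModule (A := ArtFun.Art.dual k k) B (extAct k f g w).toRingHom p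
    let ε : (ArtFun.Art.dual k k) := (DualNumber.eps : DualNumber k)
    have hε : ε ∈ IsLocalRing.maximalIdeal (ArtFun.Art.dual k k) := by
      rw [ArtFun.Art.mem_maximalIdeal_iff]
      rfl
    obtain ⟨l', hl'⟩ := exists_eps_smul_of_g_eq_zero (k := k) f g w hS p v hv
    have hv' : v = ε • l' := hl'
    rw [hv']
    exact Submodule.smul_mem_smul hε Submodule.mem_top
  flat p := by
    letI : Module (DualNumber k) ↑(B.presheaf.stalk p) :=
      stalkModule B (extAct k f g w).toRingHom p
    haveI : Mono f := hS.mono_f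
    refine Groth.Agent.Lib.Seat84.DualFlat.flat_of_ker_eps (k := k) (fun l hl => ?_)
    have hl1 : RefHull.stalkMapₗ (extAct k f g w (DualNumber.eps : DualNumber k) : B ⟶ B) p l =
        0 := hl
    rw [extAct_eps, stalkMapₗ_comp_apply] at hl1
    have hl2 : RefHull.stalkMapₗ g p l = 0 :=
      stalkMapₗ_injective_of_mono f p (hl1.trans (map_zero _).symm)
    exact exists_eps_smul_of_g_eq_zero (k := k) f g w hS p l hl2

end OfExt

section ExtOf

variable (D : Defo E (ArtFun.Art.dual k k))

/-- the map `E ⟶ D.sheaf` through which multiplication by `ε` factors. -/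
noncomputable def ι : E ⟶ D.sheaf := (Groth.Agent.Lib.Seat84.DefoLocTriv.exists_ι D).choose

theorem π_ι : D.π ≫ ι D = D.act (DualNumber.eps : DualNumber k) :=
  (Groth.Agent.Lib.Seat84.DefoLocTriv.exists_ι D).choose_spec

theorem eq_ι (i : E ⟶ D.sheaf) (hi : D.π ≫ i = D.act (DualNumber.eps : DualNumber k)) :
    i = ι D := by
  haveI := epi_π D
  rw [← cancel_epi D.π, hi, π_ι]

theorem shortExact_of_defo (i : E ⟶ D.sheaf)
    (hi : D.π ≫ i = D.act (DualNumber.eps : DualNumber k)) (h0 : i ≫ D.π = 0) :
    (ShortComplex.mk i D.π h0).ShortExact := by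
  haveI := epi_π D
  haveI := mono_ι D i hi
  have hlim : IsLimit (KernelFork.ofι i h0) :=
    KernelFork.IsLimit.ofι' i h0 (fun {A} t ht =>
      ⟨(exists_lift_of_stalk i D.π h0 (ι_injective D i hi) (ker_π_le_range_ι D i hi) t ht).choose,
        (exists_lift_of_stalk i D.π h0 (ι_injective D i hi)
          (ker_π_le_range_ι D i hi) t ht).choose_spec⟩)
  exact ShortComplex.ShortExact.mk' (ShortComplex.exact_of_f_is_kernel _ hlim)
    (show Mono i from inferInstance) (show Epi D.π from inferInstance)

variable [HasExt.{u} X.Modules]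

/-- the extension class in `Ext¹(E, E)` of a first-order deformation. -/
noncomputable def extOf : Abelian.Ext E E 1 :=
  (shortExact_of_defo D (ι D) (π_ι D) (ι_π D (ι D) (π_ι D))).extClass

theorem extOf_eq (i : E ⟶ D.sheaf)
    (hi : D.π ≫ i = D.act (DualNumber.eps : DualNumber k)) (h0 : i ≫ D.π = 0)
    (hS : (ShortComplex.mk i D.π h0).ShortExact) : extOf D = hS.extClass := by
  have h := eq_ι D i hi
  subst h
  rfl

variable {D} in
theorem extOf_iso {D' : Defo E (ArtFun.Art.dual k k)} (e : Defo.Iso D D') :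
    extOf D = extOf D' := by
  haveI := epi_π D
  refine extClass_eq_of_hom _ _ e.iso.hom ?_ e.hom_π
  let ε : (ArtFun.Art.dual k k) := (DualNumber.eps : DualNumber k)
  have h1 : D.π ≫ ι D = D.act ε := π_ι D
  have h2 : D'.π ≫ ι D' = D'.act ε := π_ι D'
  rw [← cancel_epi D.π, ← Category.assoc, h1, e.act_hom ε, ← h2, ← Category.assoc, e.hom_π]

variable {D} in
theorem iso_of_extOf_eq {D' : Defo E (ArtFun.Art.dual k k)} (h : extOf D = extOf D') :
    Nonempty (Defo.Iso D D') := by
  obtain ⟨φ, h1, h2⟩ := exists_hom_of_extClass_eq _ _ h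
  have hact : ∀ a : (ArtFun.Art.dual k k), D.act a ≫ φ = φ ≫ D'.act a := by
    intro a
    rw [act_eq D (ι D) (π_ι D) a, act_eq D' (ι D') (π_ι D') a]
    rw [Preadditive.add_comp, Preadditive.comp_add, Linear.smul_comp, Linear.smul_comp,
      Linear.comp_smul, Linear.comp_smul, Category.id_comp, Category.comp_id, Category.assoc, h1,
      ← Category.assoc, h2]
  haveI : IsIso φ := Groth.Agent.Lib.Seat84.DefoIso.isIso_of_hom D D' φ hact h2
  exact ⟨⟨asIso φ, hact, h2⟩⟩

theorem exists_defo_of_ext (α : Abelian.Ext E E 1) :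
    ∃ D : Defo E (ArtFun.Art.dual k k), extOf D = α := by
  haveI hG : IsGrothendieckAbelian.{u} X.Modules :=
    Groth.Agent.S0484.result (Opens.grothendieckTopology X) X.ringCatSheaf
  haveI : EnoughInjectives X.Modules := inferInstance
  obtain ⟨B, f, g, w, hS, hα⟩ := exists_shortExact_of_ext α
  refine ⟨defoOfExt k f g w hS, ?_⟩
  rw [← hα]
  exact extOf_eq (defoOfExt k f g w hS) f (extAct_eps f g w).symm w hS

theorem extOf_trivDual : extOf (Defo.trivDual k E) = 0 := by
  have hi : (Defo.trivDual k E).π ≫ (biprod.inr : E ⟶ E ⊞ E) =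
      (Defo.trivDual k E).act (DualNumber.eps : DualNumber k) := (dualAct_eps E).symm
  have h0 : (biprod.inr : E ⟶ E ⊞ E) ≫ (Defo.trivDual k E).π = 0 := biprod.inr_fst
  have hS := shortExact_of_defo (Defo.trivDual k E) biprod.inr hi h0
  rw [extOf_eq (Defo.trivDual k E) biprod.inr hi h0 hS]
  exact extClass_eq_zero_of_section hS (biprod.inl : E ⟶ E ⊞ E) biprod.inl_fst

end ExtOf

end Groth.Agent.Lib.Seat84.DefoExt
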