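import Groth.Agent.Lib.Seat84MVSeq
import Groth.Agent.Lib.Seat84CechTwo
import Groth.Agent.Lib.Seat84DefoExt
import Groth.Agent.Lib.Helper23AffOpen2
import Groth.Agent.Lib.Helper23QCohExt
import Groth.Agent.Lib.Helper2LocFree
import Groth.Agent.Lib.Helper18Strict6
import Groth.Agent.S0934

/-!
# Seat84: `Ext¹(E, E)` and the Čech `H¹` of `Hom(E, E)` for a cover by two affine opens
on which `E` is free
-/

set_option autoImplicit false
set_option linter.style.haveILetI false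
set_option linter.unusedSectionVars false
universe u

open CategoryTheory CategoryTheory.Limits AlgebraicGeometry TopologicalSpace Opposite

namespace Groth.Agent.Lib.Seat84.DefoCech

open DefoSh Groth.Agent.Lib.Seat84.DefoExact Groth.Agent.Lib.Seat84.OpenRes
  Groth.Agent.Lib.Seat84.RestrStalk

variable {X : Scheme.{u}}

section Split

variable {A B E : X.Modules} (f : A ⟶ B) (g : B ⟶ E) (w : f ≫ g = 0)
  (hS : (ShortComplex.mk f g w).ShortExact)

include hS in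
/-- over an affine open on which `E` is free, an extension of `E` by a quasi-coherent module
has a section. -/
theorem exists_section_of_free [A.IsQuasicoherent] (W : X.Opens) (hW : IsAffineOpen W) (n : ℕ)
    (e : E.restrict W.ι ≅ FlatMod.freeMod ↑W n) :
    ∃ s : E.restrict W.ι ⟶ B.restrict W.ι,
      s ≫ (Scheme.Modules.restrictFunctor W.ι).map g = 𝟙 _ := by
  have hsurj : Function.Surjective (g.app W) :=
    Groth.Agent.Lib.Helper23.QCohLocal.surjective_app_of_subsingleton_HE (ShortComplex.mk f g w) hS W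
      (Groth.Agent.Lib.Helper23.AffVanish.subsingleton_HE_of_isAffineOpen hW A 0)
  have hsurj' : Function.Surjective (((Scheme.Modules.restrictFunctor W.ι).map g).app ⊤) := by
    change Function.Surjective (g.app (W.ι ''ᵁ ⊤))
    rw [Scheme.Opens.ι_image_top]
    exact hsurj
  choose b hb using fun k : Fin n => hsurj'
    ((Sigma.ι (fun _ : Fin n => Coh.structureModule ↑W) k ≫ e.inv).app ⊤
      (Groth.Agent.S0934.one ↑W ⊤))
  choose t ht using fun k => Groth.Agent.S0934.exists_hom_of_section (B.restrict W.ι) (b k)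
  have ht' : ∀ k, t k ≫ (Scheme.Modules.restrictFunctor W.ι).map g =
      Sigma.ι (fun _ : Fin n => Coh.structureModule ↑W) k ≫ e.inv := by
    intro k
    apply Groth.Agent.S0934.hom_ext_of_app_top
    rw [Scheme.Modules.Hom.comp_app, ConcreteCategory.comp_apply, ht k, hb k]
  refine ⟨e.hom ≫ Sigma.desc t, ?_⟩
  rw [Category.assoc, ← cancel_epi e.inv, Iso.inv_hom_id_assoc, Category.comp_id]
  apply Sigma.hom_ext
  intro k
  rw [Sigma.ι_desc_assoc, ht']

include hS in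
/-- over an affine open `W` on which `E` is free, the unit `A ⟶ j_* j^* A` extends to the middle
term of any extension of `E` by the quasi-coherent module `A`. -/
theorem exists_ext_retraction [A.IsQuasicoherent] (W : X.Opens) (hW : IsAffineOpen W) (n : ℕ)
    (e : E.restrict W.ι ≅ FlatMod.freeMod ↑W n) :
    ∃ r : B ⟶ (R W).obj A, f ≫ r = ηa W A := by
  obtain ⟨s, hs⟩ := exists_section_of_free f g w hS W hW n e
  haveI : Mono f := hS.mono_f
  have w' : (Scheme.Modules.restrictFunctor W.ι).map f ≫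
      (Scheme.Modules.restrictFunctor W.ι).map g = 0 := by
    rw [← Functor.map_comp, w, Groth.Agent.Lib.Seat84.DefoLocTriv.restrict_map_zero]
  obtain ⟨r, h1, -, -⟩ := exists_retraction_of_section
    ((Scheme.Modules.restrictFunctor W.ι).map f) ((Scheme.Modules.restrictFunctor W.ι).map g) w'
    (fun y => restrict_stalk_injective f W y (stalkMapₗ_injective_of_mono f (W.ι y)))
    (fun y => restrict_stalk_exact f g W y
      (Groth.Agent.Lib.Seat84.DefoExt.stalk_exact_of_shortExact _ hS (W.ι y))) s hs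
  have key : f ≫ (Scheme.Modules.restrictAdjunction W.ι).homEquiv B _ r =
      (Scheme.Modules.restrictAdjunction W.ι).unit.app A := by
    rw [← Adjunction.homEquiv_naturality_left, h1, Adjunction.homEquiv_id]
  exact ⟨(Scheme.Modules.restrictAdjunction W.ι).homEquiv B _ r, key⟩

end Split

section ExtSide

open Abelian Groth.Agent.Lib.Seat84.MVSeq Groth.Agent.Lib.Seat84.ExtClass

variable [HasExt.{u} X.Modules] [EnoughInjectives X.Modules]

/-- over an affine open `W` on which `E` is free, every class in `Ext¹(E, A)`, `A` quasi-coherent,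
dies in `Ext¹(E, j_* j^* A)`. -/
theorem comp_η_eq_zero {A E : X.Modules} [A.IsQuasicoherent] (α : Ext E A 1) (W : X.Opens)
    (hW : IsAffineOpen W) (n : ℕ) (e : E.restrict W.ι ≅ FlatMod.freeMod ↑W n) :
    α.comp (Ext.mk₀ (ηa W A)) (add_zero 1) = 0 := by
  obtain ⟨B, f, g, w, hS, hα⟩ := exists_shortExact_of_ext α
  obtain ⟨r, hr⟩ := exists_ext_retraction f g w hS W hW n e
  have h1 : hS.extClass.comp (Ext.mk₀ f) (add_zero 1) = 0 := hS.extClass_comp
  rw [← hα, ← hr, ← Ext.mk₀_comp_mk₀, ← Ext.comp_assoc_of_third_deg_zero, h1, Ext.zero_comp]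

variable (U0 U1 : X.Opens) (E : X.Modules) (hcov : U0 ⊔ U1 = ⊤)

/-- the connecting map `Hom(E, R₀₁E) → Ext¹(E, E)` of the Mayer–Vietoris sequence. -/
noncomputable def Δ (χ : E ⟶ Q U0 U1 E) : Ext E E 1 :=
  (Ext.mk₀ χ).comp (shortExact U0 U1 E hcov).extClass (zero_add 1)

theorem Δ_add (χ χ' : E ⟶ Q U0 U1 E) :
    Δ U0 U1 E hcov (χ + χ') = Δ U0 U1 E hcov χ + Δ U0 U1 E hcov χ' := by
  unfold Δ
  rw [Ext.mk₀_add, Ext.add_comp]

theorem Δ_comp_g (ψ : E ⟶ P U0 U1 E) : Δ U0 U1 E hcov (ψ ≫ g U0 U1 E) = 0 := by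
  unfold Δ
  have h1 : (Ext.mk₀ (g U0 U1 E)).comp (shortExact U0 U1 E hcov).extClass (zero_add 1) = 0 :=
    (shortExact U0 U1 E hcov).comp_extClass
  rw [← Ext.mk₀_comp_mk₀_assoc, h1, Ext.comp_zero]

theorem exists_of_Δ_eq_zero (χ : E ⟶ Q U0 U1 E) (h : Δ U0 U1 E hcov χ = 0) :
    ∃ ψ : E ⟶ P U0 U1 E, ψ ≫ g U0 U1 E = χ := by
  obtain ⟨x₂, hx₂⟩ := Ext.covariant_sequence_exact₃ E (shortExact U0 U1 E hcov)
    (Ext.mk₀ χ) (zero_add 1) h
  obtain ⟨ψ, rfl⟩ := (Ext.mk₀_bijective _ _).2 x₂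
  refine ⟨ψ, (Ext.mk₀_bijective _ _).1 ?_⟩
  rw [← hx₂]
  exact (Ext.mk₀_comp_mk₀ ψ (g U0 U1 E)).symm

theorem Δ_surjective [E.IsQuasicoherent] (hU0 : IsAffineOpen U0) (hU1 : IsAffineOpen U1) (n : ℕ)
    (e0 : E.restrict U0.ι ≅ FlatMod.freeMod ↑U0 n) (e1 : E.restrict U1.ι ≅ FlatMod.freeMod ↑U1 n) :
    Function.Surjective (Δ U0 U1 E hcov) := by
  intro α
  have h0 : (α.comp (Ext.mk₀ (f U0 U1 E)) (add_zero 1)).comp
      (Ext.mk₀ (biprod.fst : P U0 U1 E ⟶ (R U0).obj E)) (add_zero 1) = 0 := by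
    rw [Ext.comp_assoc_of_third_deg_zero, Ext.mk₀_comp_mk₀, f_fst]
    exact comp_η_eq_zero α U0 hU0 n e0
  have h1 : (α.comp (Ext.mk₀ (f U0 U1 E)) (add_zero 1)).comp
      (Ext.mk₀ (biprod.snd : P U0 U1 E ⟶ (R U1).obj E)) (add_zero 1) = 0 := by
    rw [Ext.comp_assoc_of_third_deg_zero, Ext.mk₀_comp_mk₀, f_snd]
    exact comp_η_eq_zero α U1 hU1 n e1
  have hβ : α.comp (Ext.mk₀ (f U0 U1 E)) (add_zero 1) = 0 := by
    have h2 := Ext.comp_mk₀_id (α.comp (Ext.mk₀ (f U0 U1 E)) (add_zero 1))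
    rw [← biprod.total, Ext.mk₀_add, Ext.comp_add, ← Ext.mk₀_comp_mk₀, ← Ext.mk₀_comp_mk₀,
      ← Ext.comp_assoc_of_third_deg_zero, ← Ext.comp_assoc_of_third_deg_zero, h0, h1,
      Ext.zero_comp, Ext.zero_comp, add_zero] at h2
    exact h2.symm
  obtain ⟨x₃, hx₃⟩ := Ext.covariant_sequence_exact₁ E (shortExact U0 U1 E hcov) α hβ (zero_add 1)
  obtain ⟨χ, rfl⟩ := (Ext.mk₀_bijective _ _).2 x₃
  exact ⟨χ, hx₃⟩

end ExtSide

section Main

open Abelian Groth.Agent.Lib.Seat84.MVSeq Groth.Agent.Lib.Seat84.ExtClass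
  Groth.Agent.Lib.Seat84.CechTwo

variable [HasExt.{u} X.Modules] [EnoughInjectives X.Modules]

theorem Θ_sub {M N : X.Modules} (W : X.Opens) (a b : M ⟶ (R W).obj N) :
    Θ W (a - b) = Θ W a - Θ W b := by
  rw [sub_eq_add_neg, Θ_add, Θ_neg, ← sub_eq_add_neg]

/-- `Θ` as a bijection. -/
noncomputable def Θe (E : X.Modules) (W : X.Opens) :
    (E ⟶ (R W).obj E) ≃ Γ(RefHull.homSh E E, W) :=
  Equiv.ofBijective (Θ W) ⟨Θ_injective W, Θ_surjective W⟩

theorem Θe_apply (E : X.Modules) (W : X.Opens) (χ : E ⟶ (R W).obj E) : Θe E W χ = Θ W χ := rfl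

theorem Θe_symm_Θ (E : X.Modules) (W : X.Opens) (χ : E ⟶ (R W).obj E) :
    (Θe E W).symm (Θ W χ) = χ := (Θe E W).symm_apply_apply χ

theorem Θ_Θe_symm (E : X.Modules) (W : X.Opens) (h : Γ(RefHull.homSh E E, W)) :
    Θ W ((Θe E W).symm h) = h := (Θe E W).apply_symm_apply h

theorem Θe_symm_add (E : X.Modules) (W : X.Opens) (h h' : Γ(RefHull.homSh E E, W)) :
    (Θe E W).symm (h + h') = (Θe E W).symm h + (Θe E W).symm h' := by
  apply (Θe E W).injective
  rw [Equiv.apply_symm_apply, Θe_apply, Θ_add, Θ_Θe_symm, Θ_Θe_symm]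

variable (U0 U1 : X.Opens) (E : X.Modules) (hcov : U0 ⊔ U1 = ⊤)

theorem comp_g {T : X.Modules} (ψ : T ⟶ P U0 U1 E) :
    ψ ≫ g U0 U1 E = (ψ ≫ biprod.fst) ≫ ρ (inf_le_left : U0 ⊓ U1 ≤ U0) E -
      (ψ ≫ biprod.snd) ≫ ρ (inf_le_right : U0 ⊓ U1 ≤ U1) E := by
  have h : ψ ≫ g U0 U1 E =
      ψ ≫ (biprod.fst ≫ biprod.inl + biprod.snd ≫ biprod.inr) ≫ g U0 U1 E := by
    rw [biprod.total, Category.id_comp]
  rw [h, Preadditive.add_comp, Preadditive.comp_add, Category.assoc, Category.assoc, inl_g, inr_g,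
    Preadditive.comp_neg, Preadditive.comp_neg, ← sub_eq_add_neg, Category.assoc, Category.assoc]

/-- the map `Γ(U₀ ∩ U₁, Hom(E, E)) → Ext¹(E, E)`. -/
noncomputable def Λ : Γ(RefHull.homSh E E, U0 ⊓ U1) →+ Ext E E 1 :=
  AddMonoidHom.mk' (fun h => Δ U0 U1 E hcov ((Θe E (U0 ⊓ U1)).symm h))
    (fun h h' => by rw [Θe_symm_add]; exact Δ_add U0 U1 E hcov _ _)

theorem Λ_apply (h : Γ(RefHull.homSh E E, U0 ⊓ U1)) :
    Λ U0 U1 E hcov h = Δ U0 U1 E hcov ((Θe E (U0 ⊓ U1)).symm h) := rfl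

theorem Λ_Θ (χ : E ⟶ Q U0 U1 E) : Λ U0 U1 E hcov (Θ (U0 ⊓ U1) χ) = Δ U0 U1 E hcov χ := by
  rw [Λ_apply, Θe_symm_Θ]

theorem Λ_surjective [E.IsQuasicoherent] (hU0 : IsAffineOpen U0) (hU1 : IsAffineOpen U1) (n : ℕ)
    (e0 : E.restrict U0.ι ≅ FlatMod.freeMod ↑U0 n) (e1 : E.restrict U1.ι ≅ FlatMod.freeMod ↑U1 n) :
    Function.Surjective (Λ U0 U1 E hcov) := by
  intro α
  obtain ⟨χ, hχ⟩ := Δ_surjective U0 U1 E hcov hU0 hU1 n e0 e1 α
  exact ⟨Θ (U0 ⊓ U1) χ, (Λ_Θ U0 U1 E hcov χ).trans hχ⟩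

theorem Λ_ker (h : Γ(RefHull.homSh E E, U0 ⊓ U1)) (hh : Λ U0 U1 E hcov h = 0) :
    ∃ (b0 : Γ(RefHull.homSh E E, U0)) (b1 : Γ(RefHull.homSh E E, U1)),
      h = (RefHull.homSh E E).presheaf.map (homOfLE (inf_le_right : U0 ⊓ U1 ≤ U1)).op b1 -
        (RefHull.homSh E E).presheaf.map (homOfLE (inf_le_left : U0 ⊓ U1 ≤ U0)).op b0 := by
  rw [Λ_apply] at hh
  obtain ⟨ψ, hψ⟩ := exists_of_Δ_eq_zero U0 U1 E hcov _ hh
  refine ⟨-Θ U0 (ψ ≫ biprod.fst), -Θ U1 (ψ ≫ biprod.snd), ?_⟩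
  rw [map_neg, map_neg, ← Θ_comp_ρ, ← Θ_comp_ρ, neg_sub_neg, ← Θ_sub, ← comp_g, hψ, Θ_Θe_symm]

theorem Λ_res (b0 : Γ(RefHull.homSh E E, U0)) (b1 : Γ(RefHull.homSh E E, U1)) :
    Λ U0 U1 E hcov
      ((RefHull.homSh E E).presheaf.map (homOfLE (inf_le_right : U0 ⊓ U1 ≤ U1)).op b1 -
        (RefHull.homSh E E).presheaf.map (homOfLE (inf_le_left : U0 ⊓ U1 ≤ U0)).op b0) = 0 := by
  obtain ⟨ψ0, rfl⟩ := Θ_surjective U0 b0
  obtain ⟨ψ1, rfl⟩ := Θ_surjective U1 b1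
  have h : (RefHull.homSh E E).presheaf.map (homOfLE (inf_le_right : U0 ⊓ U1 ≤ U1)).op (Θ U1 ψ1) -
      (RefHull.homSh E E).presheaf.map (homOfLE (inf_le_left : U0 ⊓ U1 ≤ U0)).op (Θ U0 ψ0) =
      Θ (U0 ⊓ U1) (biprod.lift (-ψ0) (-ψ1) ≫ g U0 U1 E) := by
    rw [comp_g, biprod.lift_fst, biprod.lift_snd, Θ_sub, Preadditive.neg_comp,
      Preadditive.neg_comp, Θ_neg, Θ_neg, neg_sub_neg, Θ_comp_ρ, Θ_comp_ρ]
  rw [h, Λ_Θ, Δ_comp_g]

/-- **`Ext¹(E, E)` is the Čech `H¹` of `Hom(E, E)`** for a cover by two affine opens on which `E`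
is free of finite rank. -/
theorem nonempty_cechH_addEquiv_ext (U : ULift.{u} (Fin 2) → X.Opens)
    (hU : ∀ i, IsAffineOpen (U i)) (hcov : ⨆ i, U i = ⊤) (E : X.Modules) (n : ℕ)
    (hfree : ∀ i, Nonempty (E.restrict (U i).ι ≅ FlatMod.freeMod ↑(U i) n)) :
    Nonempty (↑(CohB1.cechH U (RefHull.homSh E E) 1) ≃+ Ext E E 1) := by
  have hcov' : U i0 ⊔ U i1 = ⊤ := by
    refine le_antisymm le_top ?_
    rw [← hcov]
    refine iSup_le (fun i => ?_)
    rcases eq_i0_or_eq_i1 i with rfl | rfl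
    · exact le_sup_left
    · exact le_sup_right
  have hE : FlatMod.IsFinLocFree E := by
    intro x
    have hx : x ∈ ⨆ i, U i := by rw [hcov]; trivial
    obtain ⟨i, hi⟩ := Opens.mem_iSup.1 hx
    exact ⟨U i, n, hi, hfree i⟩
  haveI : E.IsQuasicoherent := Groth.Agent.Helper18Strict.isQCoh_of_isFP E
    (Groth.Agent.Lib.Helper2.LocFree.isFP_of_isFinLocFree E hE)
  obtain ⟨e0⟩ := hfree i0
  obtain ⟨e1⟩ := hfree i1
  exact nonempty_cechH_one_addEquiv U (RefHull.homSh E E).presheaf (Λ (U i0) (U i1) E hcov')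
    (Λ_surjective (U i0) (U i1) E hcov' (hU i0) (hU i1) n e0 e1)
    (Λ_ker (U i0) (U i1) E hcov') (Λ_res (U i0) (U i1) E hcov')

end Main

section FirstOrder

open Abelian

variable (k : Type u) [Field k] [X.Over (Spec (CommRingCat.of k))] (E : X.Modules)
  [HasExt.{u} X.Modules]

/-- first-order deformations of `E` are classified by `Ext¹(E, E)`, the trivial deformation
corresponding to `0`. -/
theorem exists_firstOrder_equiv_ext :
    ∃ e : DefoSh.FirstOrder k E ≃ Ext E E 1, e (DefoSh.Defo.trivDual k E).cl = 0 := by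
  let Ψ : DefoSh.FirstOrder k E → Ext E E 1 :=
    Quotient.lift (fun D : DefoSh.Defo E (ArtFun.Art.dual k k) =>
      Groth.Agent.Lib.Seat84.DefoExt.extOf D)
      (fun D D' h => Nonempty.elim h (fun e => Groth.Agent.Lib.Seat84.DefoExt.extOf_iso e))
  have hbij : Function.Bijective Ψ := by
    constructor
    · intro a b
      induction a using Quotient.inductionOn with
      | h D =>
        induction b using Quotient.inductionOn with
        | h D' =>
          intro h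
          exact Quotient.sound (Groth.Agent.Lib.Seat84.DefoExt.iso_of_extOf_eq h)
    · intro α
      obtain ⟨D, hD⟩ := Groth.Agent.Lib.Seat84.DefoExt.exists_defo_of_ext (k := k) α
      exact ⟨D.cl, hD⟩
  exact ⟨Equiv.ofBijective Ψ hbij, Groth.Agent.Lib.Seat84.DefoExt.extOf_trivDual⟩

end FirstOrder

end Groth.Agent.Lib.Seat84.DefoCech
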