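import Groth.Agent.Lib.Seat84RestrStalk
import Groth.Agent.S0934

/-!
# Seat84: a first-order deformation of a finite locally free module is locally trivial
-/

set_option autoImplicit false
set_option linter.style.haveILetI false
universe u

open CategoryTheory CategoryTheory.Limits AlgebraicGeometry TopologicalSpace Opposite

namespace Groth.Agent.Lib.Seat84.DefoLocTriv

section Abstract

variable {C : Type*} [Category C] [Preadditive C] {A B T : C}

/-- the isomorphism `B ≅ T` from a splitting of `A → B → A` and a biproduct structure on `T`. -/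
def isoOfSplitting (p : B ⟶ A) (i s : A ⟶ B) (r : B ⟶ A) (f1 f2 : T ⟶ A) (j1 j2 : A ⟶ T)
    (h11 : j1 ≫ f1 = 𝟙 A) (h12 : j1 ≫ f2 = 0) (h21 : j2 ≫ f1 = 0) (h22 : j2 ≫ f2 = 𝟙 A)
    (htot : f1 ≫ j1 + f2 ≫ j2 = 𝟙 T)
    (hsp : s ≫ p = 𝟙 A) (hir : i ≫ r = 𝟙 A) (hsr : s ≫ r = 0) (hip : i ≫ p = 0)
    (hB : p ≫ s + r ≫ i = 𝟙 B) : B ≅ T where
  hom := p ≫ j1 + r ≫ j2
  inv := f1 ≫ s + f2 ≫ i
  hom_inv_id := by
    simp only [Preadditive.add_comp, Preadditive.comp_add, Category.assoc]
    rw [reassoc_of% h11, reassoc_of% h12, reassoc_of% h21, reassoc_of% h22]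
    simp only [zero_comp, comp_zero, add_zero, zero_add]
    exact hB
  inv_hom_id := by
    simp only [Preadditive.add_comp, Preadditive.comp_add, Category.assoc]
    rw [reassoc_of% hsp, reassoc_of% hsr, reassoc_of% hip, reassoc_of% hir]
    simp only [zero_comp, comp_zero, add_zero, zero_add]
    exact htot

end Abstract


open DefoSh Groth.Agent.Lib.Seat84.DefoExact Groth.Agent.Lib.Seat84.RestrStalk

variable {X : Scheme.{u}} {k : Type u} [Field k] [X.Over (Spec (CommRingCat.of k))] {E : X.Modules}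

theorem eps_mul_of_fst_eq_zero (a : DualNumber k) (h : a.fst = 0) :
    (DualNumber.eps : DualNumber k) * a = 0 := by
  apply TrivSqZeroExt.ext <;> simp [h]

/-- multiplication by `ε` factors through the reduction. -/
theorem exists_ι (D : Defo E (ArtFun.Art.dual k k)) :
    ∃ ι : E ⟶ D.sheaf, D.π ≫ ι = D.act (DualNumber.eps : DualNumber k) := by
  haveI := epi_π D
  have hc := Abelian.epiIsCokernelOfKernel (limit.cone (parallelPair D.π 0)) (limit.isLimit _)
  have hk : kernel.ι D.π ≫ D.act (DualNumber.eps : DualNumber k) = 0 := by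
    apply eq_zero_of_stalkMapₗ
    intro x v
    rw [stalkMapₗ_comp_apply]
    have hw : RefHull.stalkMapₗ D.π x (RefHull.stalkMapₗ (kernel.ι D.π) x v) = 0 := by
      rw [← stalkMapₗ_comp_apply, kernel.condition, stalkMapₗ_zero_apply]
    letI := D.stalkMod x
    have hmem := D.ker_le x _ hw
    refine Submodule.smul_induction_on hmem (fun a ha z _ => ?_) (fun y z hy hz => ?_)
    · have ha0 : (a : DualNumber k).fst = 0 := (ArtFun.Art.mem_maximalIdeal_iff _ a).1 ha
      change RefHull.stalkMapₗ (D.act (DualNumber.eps : DualNumber k)) x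
        (RefHull.stalkMapₗ (D.act a) x z) = 0
      rw [← stalkMapₗ_comp_apply]
      have h1 : D.act a ≫ D.act (DualNumber.eps : DualNumber k) = 0 := by
        let ε : (ArtFun.Art.dual k k) := (DualNumber.eps : DualNumber k)
        have h2 : D.act (ε * a) = D.act a ≫ D.act ε := by
          rw [map_mul]; rfl
        have h3 : ε * a = 0 := eps_mul_of_fst_eq_zero (a : DualNumber k) ha0
        change D.act a ≫ D.act ε = 0
        rw [← h2, h3, map_zero]
      rw [h1, stalkMapₗ_zero_apply]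
    · rw [map_add, hy, hz, add_zero]
  refine ⟨hc.desc (CokernelCofork.ofπ _ hk), ?_⟩
  exact hc.fac (CokernelCofork.ofπ _ hk) WalkingParallelPair.one

theorem restrict_smul_eq (M : X.Modules) (V : X.Opens) (W : (V : Scheme.{u}).Opens)
    (t : Γ(X, V.ι ''ᵁ W)) (s : Γ(M, V.ι ''ᵁ W)) :
    @HSMul.hSMul Γ((V : Scheme.{u}), W) Γ(M.restrict V.ι, W) Γ(M.restrict V.ι, W) _
      ((V.ι.appIso W).hom t) s = t • s := by
  have h := Scheme.Modules.smul_restrictAppIso_hom_apply V.ι M W ((V.ι.appIso W).hom t) s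
  have h2 : (V.ι.appIso W).inv ((V.ι.appIso W).hom t) = t := by
    rw [← ConcreteCategory.comp_apply, Iso.hom_inv_id]; rfl
  rw [h2] at h
  exact h

/-- multiplication by a constant commutes with every morphism between restrictions. -/
theorem restrict_smul_comm (c : k) {M N : X.Modules} (V : X.Opens)
    (ψ : M.restrict V.ι ⟶ N.restrict V.ι) :
    (Scheme.Modules.restrictFunctor V.ι).map (c • 𝟙 M) ≫ ψ =
      ψ ≫ (Scheme.Modules.restrictFunctor V.ι).map (c • 𝟙 N) := by
  apply Scheme.Modules.hom_ext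
  intro W
  ext s
  have hM : ((Scheme.Modules.restrictFunctor V.ι).map (c • 𝟙 M)).app W s =
      ((V.ι.appIso W).hom (X.presheaf.map (homOfLE (le_top : V.ι ''ᵁ W ≤ ⊤)).op
        (Coh.toGlobal (X ↘ Spec (CommRingCat.of k)) c)) : Γ((V : Scheme.{u}), W)) • s :=
    (KLin.smul_app_apply c (𝟙 M) (V.ι ''ᵁ W) s).trans (restrict_smul_eq M V W _ s).symm
  have hN : ((Scheme.Modules.restrictFunctor V.ι).map (c • 𝟙 N)).app W (ψ.app W s) =
      ((V.ι.appIso W).hom (X.presheaf.map (homOfLE (le_top : V.ι ''ᵁ W ≤ ⊤)).op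
        (Coh.toGlobal (X ↘ Spec (CommRingCat.of k)) c)) : Γ((V : Scheme.{u}), W)) • ψ.app W s :=
    (KLin.smul_app_apply c (𝟙 N) (V.ι ''ᵁ W) (ψ.app W s)).trans
      (restrict_smul_eq N V W _ (ψ.app W s)).symm
  change ψ.app W (((Scheme.Modules.restrictFunctor V.ι).map (c • 𝟙 M)).app W s) =
    ((Scheme.Modules.restrictFunctor V.ι).map (c • 𝟙 N)).app W (ψ.app W s)
  rw [hM, hN, Scheme.Modules.Hom.app_smul]


theorem restrict_map_zero {M N : X.Modules} (V : X.Opens) :
    (Scheme.Modules.restrictFunctor V.ι).map (0 : M ⟶ N) = 0 := by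
  haveI : (Scheme.Modules.restrictFunctor V.ι).Additive :=
    (Scheme.Modules.restrictAdjunction V.ι).left_adjoint_additive
  exact (Scheme.Modules.restrictFunctor V.ι).map_zero _ _

theorem restrict_map_add {M N : X.Modules} (V : X.Opens) (f g : M ⟶ N) :
    (Scheme.Modules.restrictFunctor V.ι).map (f + g) =
      (Scheme.Modules.restrictFunctor V.ι).map f + (Scheme.Modules.restrictFunctor V.ι).map g := by
  haveI : (Scheme.Modules.restrictFunctor V.ι).Additive :=
    (Scheme.Modules.restrictAdjunction V.ι).left_adjoint_additive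
  exact (Scheme.Modules.restrictFunctor V.ι).map_add

/-- local splitting of the sequence `0 → E → D → E → 0` of a first-order deformation of a finite
locally free module. -/
theorem exists_local_splitting (hE : FlatMod.IsFinLocFree E) (D : Defo E (ArtFun.Art.dual k k))
    (ι : E ⟶ D.sheaf) (hι : D.π ≫ ι = D.act (DualNumber.eps : DualNumber k)) (x : X) :
    ∃ (U : X.Opens) (s : E.restrict U.ι ⟶ D.sheaf.restrict U.ι)
      (r : D.sheaf.restrict U.ι ⟶ E.restrict U.ι), x ∈ U ∧
      s ≫ (Scheme.Modules.restrictFunctor U.ι).map D.π = 𝟙 _ ∧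
      (Scheme.Modules.restrictFunctor U.ι).map ι ≫ r = 𝟙 _ ∧ s ≫ r = 0 ∧
      (Scheme.Modules.restrictFunctor U.ι).map D.π ≫ s +
        r ≫ (Scheme.Modules.restrictFunctor U.ι).map ι = 𝟙 _ := by
  haveI := epi_π D
  obtain ⟨V, ψ, hxV, hψ⟩ := Groth.Agent.S0934.result D.π (𝟙 E) hE x
  have hs : ψ ≫ (Scheme.Modules.restrictFunctor V.ι).map D.π = 𝟙 _ :=
    hψ.trans ((Scheme.Modules.restrictFunctor V.ι).map_id E)
  have w : (Scheme.Modules.restrictFunctor V.ι).map ι ≫
      (Scheme.Modules.restrictFunctor V.ι).map D.π = 0 := by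
    rw [← Functor.map_comp, ι_π D ι hι, restrict_map_zero]
  obtain ⟨r, h1, h2, h3⟩ := exists_retraction_of_section
    ((Scheme.Modules.restrictFunctor V.ι).map ι) ((Scheme.Modules.restrictFunctor V.ι).map D.π) w
    (fun y => restrict_stalk_injective ι V y (ι_injective D ι hι (V.ι y)))
    (fun y => restrict_stalk_exact ι D.π V y (ker_π_le_range_ι D ι hι (V.ι y))) ψ hs
  exact ⟨V, ψ, r, hxV, hs, h1, h2, h3⟩

end Groth.Agent.Lib.Seat84.DefoLocTriv
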