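import Groth.Agent.Lib.Seat84DefoExact
import Groth.Agent.Lib.Helper1StalkTensorB
set_option backward.isDefEq.respectTransparency.types false

set_option autoImplicit false
universe u

open CategoryTheory CategoryTheory.Limits AlgebraicGeometry TopologicalSpace Opposite TensorProduct
  MonoidalCategory

namespace Groth.Agent.Lib.Seat84.TensorStalk

open Groth.Agent.Lib.Helper1.StalkTensor

variable {X : Scheme.{u}}

theorem stalkMapₗ_eq_sm {M N : X.Modules} (φ : M ⟶ N) (x : X) (v : ↑(M.presheaf.stalk x)) :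
    RefHull.stalkMapₗ φ x v = sm (toPMMap φ) x v := rfl

theorem tensorMap_eq_shX {M M' : X.Modules} (f : M ⟶ M') (N : X.Modules) :
    KoszTw.tensorMap f (𝟙 N) = shX.map (toPMMap f ▷ toPM N) :=
  (KoszTw.tensorBi_map_app f N).symm

/-- `f ⊗ 1` is injective on stalks as soon as `f_x ⊗ 1` is injective. -/
theorem stalk_tensorMap_injective {M M' : X.Modules} (f : M ⟶ M') (N : X.Modules) (x : X)
    (hinj : Function.Injective (LinearMap.rTensor (St (toPM N) x) (smₗ (toPMMap f) x))) :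
    Function.Injective (RefHull.stalkMapₗ (KoszTw.tensorMap f (𝟙 N)) x) := by
  rw [tensorMap_eq_shX]
  intro a b hab
  change sm (toPMMap (shX.map (toPMMap f ▷ toPM N))) x a =
    sm (toPMMap (shX.map (toPMMap f ▷ toPM N))) x b at hab
  obtain ⟨a', rfl⟩ := (sm_etaX_bijective (toPM M ⊗ toPM N) x).2 a
  obtain ⟨b', rfl⟩ := (sm_etaX_bijective (toPM M ⊗ toPM N) x).2 b
  rw [← sm_etaX_naturality, ← sm_etaX_naturality] at hab
  have h1 := (sm_etaX_bijective (toPM M' ⊗ toPM N) x).1 hab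
  have h2 := congrArg (α (toPM M') (toPM N) x) h1
  rw [α_nat_left, α_nat_left] at h2
  rw [(α_bijective).1 (hinj h2)]

/-- stalkwise exactness of `f ⊗ 1`, `g ⊗ 1` from that of `f_x ⊗ 1`, `g_x ⊗ 1`. -/
theorem stalk_tensorMap_exact {M' M M'' : X.Modules} (f : M' ⟶ M) (g : M ⟶ M'') (N : X.Modules)
    (x : X)
    (hex : Function.Exact (LinearMap.rTensor (St (toPM N) x) (smₗ (toPMMap f) x))
      (LinearMap.rTensor (St (toPM N) x) (smₗ (toPMMap g) x)))
    (v : ↑((CohB1.tensorMod M N).presheaf.stalk x))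
    (hv : RefHull.stalkMapₗ (KoszTw.tensorMap g (𝟙 N)) x v = 0) :
    ∃ a, RefHull.stalkMapₗ (KoszTw.tensorMap f (𝟙 N)) x a = v := by
  rw [tensorMap_eq_shX] at hv ⊢
  change sm (toPMMap (shX.map (toPMMap g ▷ toPM N))) x v = 0 at hv
  obtain ⟨v', rfl⟩ := (sm_etaX_bijective (toPM M ⊗ toPM N) x).2 v
  rw [← sm_etaX_naturality] at hv
  have h1 : sm (toPMMap g ▷ toPM N) x v' = 0 :=
    (sm_etaX_bijective (toPM M'' ⊗ toPM N) x).1 (hv.trans (map_zero _).symm)
  have h2 := congrArg (α (toPM M'') (toPM N) x) h1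
  rw [α_nat_left, map_zero] at h2
  obtain ⟨w, hw⟩ := (hex _).1 h2
  obtain ⟨a', rfl⟩ := (α_bijective (P := toPM M') (Q := toPM N) (x := x)).2 w
  rw [← α_nat_left] at hw
  have h3 := (α_bijective).1 hw
  refine ⟨sm (etaX (toPM M' ⊗ toPM N)) x a', ?_⟩
  change sm (toPMMap (shX.map (toPMMap f ▷ toPM N))) x _ = _
  rw [← sm_etaX_naturality, h3]

end Groth.Agent.Lib.Seat84.TensorStalk
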