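import Mathlib

/-!
# Seat84: vanishing of `Tor₁(P, W)` for flat `P`, in the form: `A ⊗ W → B ⊗ W` stays injective
when `0 → A → B → P → 0` is exact and `P` is flat.
-/

set_option autoImplicit false
universe u

open TensorProduct

namespace Groth.Agent.Lib.Seat84.TorFlat

section
variable {R : Type*} [CommRing R] {A B F W : Type*} [AddCommGroup A] [AddCommGroup B]
  [AddCommGroup F] [AddCommGroup W] [Module R A] [Module R B] [Module R F] [Module R W]

theorem comm_sq (f : A →ₗ[R] B) (q : F →ₗ[R] W) (z : A ⊗[R] F) :
    (LinearMap.lTensor B q) (f.rTensor F z) = f.rTensor W (LinearMap.lTensor A q z) := by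
  have h1 := LinearMap.lTensor_comp_rTensor (R := R) A f q
  have h2 := LinearMap.rTensor_comp_lTensor (R := R) A f q
  have := congrArg (fun φ : A ⊗[R] F →ₗ[R] B ⊗[R] W => φ z) (h1.trans h2.symm)
  exact this
end

variable {R : Type u} [CommRing R] {A B P : Type u} [AddCommGroup A] [AddCommGroup B]
  [AddCommGroup P] [Module R A] [Module R B] [Module R P]

theorem rTensor_injective_aux (f : A →ₗ[R] B) (g : B →ₗ[R] P)
    (hf : Function.Injective f) (hfg : Function.Exact f g) (hg : Function.Surjective g)
    [Module.Flat R P] {W F K : Type u} [AddCommGroup W] [Module R W] [AddCommGroup F] [Module R F]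
    [AddCommGroup K] [Module R K] [Module.Flat R F] (i : K →ₗ[R] F) (q : F →ₗ[R] W)
    (hi : Function.Injective i) (hiq : Function.Exact i q) (hq : Function.Surjective q) :
    Function.Injective (f.rTensor W) := by
  rw [injective_iff_map_eq_zero]
  intro a ha
  obtain ⟨a', rfl⟩ := LinearMap.lTensor_surjective A hq a
  -- `(f ⊗ 1) a'` dies in `B ⊗ W`
  have h1 : (LinearMap.lTensor B q) (f.rTensor F a') = 0 := by
    rw [comm_sq]; exact ha
  obtain ⟨b, hb⟩ := (lTensor_exact B hiq hq _).1 h1
  -- `(g ⊗ 1) b = 0` by flatness of `P`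
  have h2 : g.rTensor K b = 0 := by
    have hinj : Function.Injective (LinearMap.lTensor P i) :=
      Module.Flat.lTensor_preserves_injective_linearMap i hi
    apply hinj
    rw [map_zero, comm_sq, hb, ← LinearMap.comp_apply, ← LinearMap.rTensor_comp]
    have : g ∘ₗ f = 0 := LinearMap.ext fun z => hfg.apply_apply_eq_zero z
    rw [this, LinearMap.rTensor_zero, LinearMap.zero_apply]
  obtain ⟨a'', ha''⟩ := (rTensor_exact K hfg hg _).1 h2
  -- `a' = (1 ⊗ i) a''` by injectivity of `f ⊗ 1_F`
  have hinjF : Function.Injective (f.rTensor F) :=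
    Module.Flat.rTensor_preserves_injective_linearMap f hf
  have h3 : a' = LinearMap.lTensor A i a'' := by
    apply hinjF
    rw [← hb, ← ha'', comm_sq]
  rw [h3, ← LinearMap.comp_apply, ← LinearMap.lTensor_comp]
  have : q ∘ₗ i = 0 := LinearMap.ext fun z => hiq.apply_apply_eq_zero z
  rw [this, LinearMap.lTensor_zero, LinearMap.zero_apply]

/-- If `0 → A → B → P → 0` is exact with `P` flat, then `A ⊗ W → B ⊗ W` is injective for every `W`
(vanishing of `Tor₁(P, W)`). -/
theorem rTensor_injective_of_exact_of_flat (f : A →ₗ[R] B) (g : B →ₗ[R] P)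
    (hf : Function.Injective f) (hfg : Function.Exact f g) (hg : Function.Surjective g)
    [Module.Flat R P] (W : Type u) [AddCommGroup W] [Module R W] :
    Function.Injective (f.rTensor W) := by
  have hiq : Function.Exact
      (LinearMap.ker (Finsupp.linearCombination R (id : W → W))).subtype
      (Finsupp.linearCombination R (id : W → W)) := by
    intro y
    constructor
    · intro hy
      exact ⟨⟨y, hy⟩, rfl⟩
    · rintro ⟨z, rfl⟩
      exact z.2
  exact rTensor_injective_aux f g hf hfg hg (F := W →₀ R)
    (K := ↥(LinearMap.ker (Finsupp.linearCombination R (id : W → W))))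
    (LinearMap.ker (Finsupp.linearCombination R (id : W → W))).subtype
    (Finsupp.linearCombination R id) (Submodule.subtype_injective _)
    hiq (Finsupp.linearCombination_id_surjective R W)

end Groth.Agent.Lib.Seat84.TorFlat
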