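import Groth.Agent.Lib.Seat84DefoExact
import Groth.Agent.Lib.Seat84TensorStalk
import Groth.Agent.Lib.Seat84TorFlat
import Groth.Agent.Lib.Helper2LocFree
import Groth.Agent.Lib.Helper18Strict6
set_option backward.isDefEq.respectTransparency.types false

/-!
# Seat84: tensoring the sequence `0 → E → D → E → 0` of a first-order deformation with a module
-/

set_option autoImplicit false
set_option linter.style.haveILetI false
universe u

open CategoryTheory CategoryTheory.Limits AlgebraicGeometry TopologicalSpace Opposite TensorProduct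
  MonoidalCategory

namespace Groth.Agent.Lib.Seat84.DefoTensor

open Groth.Agent.Lib.Helper1.StalkTensor Groth.Agent.Lib.Seat84.TensorStalk
  Groth.Agent.Lib.Seat84.DefoExact DefoSh

variable {X : Scheme.{u}}

/-- a morphism of abelian sheaves between modules which is linear on sections is a morphism of
modules. -/
theorem exists_hom_of_linear {M N : X.Modules} (d : Coh.toAb M ⟶ Coh.toAb N)
    (h : ∀ (U : X.Opens) (t : Γ(X, U)) (s : M.val.obj (op U)),
      ConnSh.secApp d U (t • s) = t • ConnSh.secApp d U s) :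
    ∃ ψ : M ⟶ N, (SheafOfModules.toSheaf X.ringCatSheaf).map ψ = d := by
  refine ⟨⟨PresheafOfModules.homMk d.hom (fun U r m => h U.unop r m)⟩, ?_⟩
  apply Sheaf.hom_ext
  ext U x
  rfl

/-- a finite locally free module has flat stalks. -/
theorem isFlat_of_isFinLocFree (E : X.Modules) (hE : FlatMod.IsFinLocFree E) : FlatMod.IsFlat E := by
  haveI : E.IsQuasicoherent := Groth.Agent.Helper18Strict.isQCoh_of_isFP E
    (Groth.Agent.Lib.Helper2.LocFree.isFP_of_isFinLocFree E hE)
  exact Groth.Agent.Lib.Helper2.LocFree.isFlat_of_isFinLocFree E hE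

section StalkExact

variable {k : Type u} [Field k] [X.Over (Spec (CommRingCat.of k))] {E : X.Modules}
  (D : Defo E (ArtFun.Art.dual k k)) (ι : E ⟶ D.sheaf)
  (hι : D.π ≫ ι = D.act (DualNumber.eps : DualNumber k))

include hι

theorem exact_sm (x : X) :
    Function.Exact (smₗ (toPMMap ι) x) (smₗ (toPMMap D.π) x) := by
  intro v
  constructor
  · intro hv
    exact ker_π_le_range_ι D ι hι x v hv
  · rintro ⟨a, rfl⟩
    change RefHull.stalkMapₗ D.π x (RefHull.stalkMapₗ ι x a) = 0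
    rw [← stalkMapₗ_comp_apply, ι_π D ι hι, stalkMapₗ_zero_apply]

variable (hE : FlatMod.IsFinLocFree E) (Ω' : X.Modules)

include hE

theorem stalk_tensor_ι_injective (x : X) :
    Function.Injective (RefHull.stalkMapₗ (KoszTw.tensorMap ι (𝟙 Ω')) x) := by
  apply stalk_tensorMap_injective
  haveI : Module.Flat (Rx X.presheaf x) (St (toPM E) x) := isFlat_of_isFinLocFree E hE x
  exact Groth.Agent.Lib.Seat84.TorFlat.rTensor_injective_of_exact_of_flat
    (smₗ (toPMMap ι) x) (smₗ (toPMMap D.π) x) (ι_injective D ι hι x) (exact_sm D ι hι x)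
    (D.surj x) _

theorem mono_tensor_ι : Mono (KoszTw.tensorMap ι (𝟙 Ω')) :=
  mono_of_stalkMapₗ_injective _ (stalk_tensor_ι_injective D ι hι hE Ω')

omit hE in
theorem stalk_tensor_exact (x : X) (v : ↑((CohB1.tensorMod D.sheaf Ω').presheaf.stalk x))
    (hv : RefHull.stalkMapₗ (KoszTw.tensorMap D.π (𝟙 Ω')) x v = 0) :
    ∃ a, RefHull.stalkMapₗ (KoszTw.tensorMap ι (𝟙 Ω')) x a = v :=
  stalk_tensorMap_exact ι D.π Ω' x
    (rTensor_exact _ (exact_sm D ι hι x) (D.surj x)) v hv


end StalkExact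

section Assembly

open Groth.Agent.Lib.Seat84.DefoConn

theorem toSheaf_map_injective {M N : X.Modules} {f g : M ⟶ N}
    (h : (SheafOfModules.toSheaf X.ringCatSheaf).map f = (SheafOfModules.toSheaf X.ringCatSheaf).map g) :
    f = g :=
  (SheafOfModules.toSheaf.{u} X.ringCatSheaf).map_injective h

theorem toSheaf_map_zero {M N : X.Modules} :
    (SheafOfModules.toSheaf X.ringCatSheaf).map (0 : M ⟶ N) = 0 :=
  (SheafOfModules.toSheaf.{u} X.ringCatSheaf).map_zero _ _

theorem secApp_sub {M N : X.Modules} (a b : Coh.toAb M ⟶ Coh.toAb N) (U : X.Opens)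
    (s : M.val.obj (op U)) :
    ConnSh.secApp (a - b) U s = ConnSh.secApp a U s - ConnSh.secApp b U s := rfl

theorem secApp_add {M N : X.Modules} (a b : Coh.toAb M ⟶ Coh.toAb N) (U : X.Opens)
    (s : M.val.obj (op U)) :
    ConnSh.secApp (a + b) U s = ConnSh.secApp a U s + ConnSh.secApp b U s := rfl

theorem secApp_toSheaf_map {M N : X.Modules} (ψ : M ⟶ N) (U : X.Opens) (s : M.val.obj (op U)) :
    ConnSh.secApp ((SheafOfModules.toSheaf X.ringCatSheaf).map ψ) U s = ψ.app U s := rfl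

theorem aux_sub {R G : Type*} [Ring R] [AddCommGroup G] [Module R G] (t : R) (a b w : G) :
    (t • a + w) - (t • b + w) = t • (a - b) := by
  rw [smul_sub]; abel

theorem aux_add' {R G : Type*} [Ring R] [AddCommGroup G] [Module R G] (t : R) (a b w : G) :
    (t • a + w) + t • b = t • (a + b) + w := by
  rw [smul_add]; abel

section
variable {k : Type u} [Field k] [X.Over (Spec (CommRingCat.of k))]
  {Ω' : X.Modules} {δ : OmegaSh.Der (X ↘ Spec (CommRingCat.of k)) Ω'}

/-- the difference of two connections is linear. -/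
theorem linear_diff {M : X.Modules} (c c₀ : Coh.toAb M ⟶ Coh.toAb (CohB1.tensorMod M Ω'))
    (hc : ConnSh.IsConn δ M c) (hc₀ : ConnSh.IsConn δ M c₀)
    (U : X.Opens) (t : Γ(X, U)) (s : M.val.obj (op U)) :
    ConnSh.secApp (c - c₀) U (t • s) = t • ConnSh.secApp (c - c₀) U s := by
  refine (secApp_sub c c₀ U (t • s)).trans ((congrArg₂ (· - ·) (hc U t s) (hc₀ U t s)).trans ?_)
  refine (aux_sub t _ _ _).trans ?_
  exact congrArg (fun z => t • z) (secApp_sub c c₀ U s).symm

/-- a connection plus a linear map is a connection. -/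
theorem isConn_add {M : X.Modules} (c₀ : Coh.toAb M ⟶ Coh.toAb (CohB1.tensorMod M Ω'))
    (hc₀ : ConnSh.IsConn δ M c₀) (ψ : M ⟶ CohB1.tensorMod M Ω') :
    ConnSh.IsConn δ M (c₀ + (SheafOfModules.toSheaf X.ringCatSheaf).map ψ) := by
  intro U t s
  refine (secApp_add _ _ U (t • s)).trans ?_
  refine (congrArg₂ (· + ·) (hc₀ U t s)
    ((secApp_toSheaf_map ψ U (t • s)).trans (Scheme.Modules.Hom.app_smul ψ t s))).trans ?_
  refine (aux_add' t _ _ _).trans ?_
  exact congrArg (fun z => t • z + SecTwist.tmul M Ω' U s (δ.app U t))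
    ((congrArg (fun z => ConnSh.secApp c₀ U s + z) (secApp_toSheaf_map ψ U s).symm).trans
      (secApp_add _ _ U s).symm)
end

variable {k : Type u} [Field k] [X.Over (Spec (CommRingCat.of k))] {E : X.Modules}
  {Ω' : X.Modules}
  (D : Defo E (ArtFun.Art.dual k k)) (ι : E ⟶ D.sheaf)
  (hι : D.π ≫ ι = D.act (DualNumber.eps : DualNumber k))

section
include hι

theorem tensor_ι_π : KoszTw.tensorMap ι (𝟙 Ω') ≫ KoszTw.tensorMap D.π (𝟙 Ω') = 0 := by
  rw [← tensorMap_comp_id, ι_π D ι hι, tensorMap_zero_left]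

/-- `π ≫ φ ≫ (ι ⊗ 1)` is killed by the reduction. -/
theorem psi_π (φ : E ⟶ CohB1.tensorMod E Ω') :
    (D.π ≫ φ ≫ KoszTw.tensorMap ι (𝟙 Ω')) ≫ KoszTw.tensorMap D.π (𝟙 Ω') = 0 := by
  rw [Category.assoc, Category.assoc, tensor_ι_π D ι hι, comp_zero, comp_zero]

/-- `π ≫ φ ≫ (ι ⊗ 1)` commutes with the action of the dual numbers. -/
theorem act_psi (φ : E ⟶ CohB1.tensorMod E Ω') (a : DualNumber k) :
    D.act a ≫ (D.π ≫ φ ≫ KoszTw.tensorMap ι (𝟙 Ω')) =
      (D.π ≫ φ ≫ KoszTw.tensorMap ι (𝟙 Ω')) ≫ KoszTw.tensorMap (D.act a) (𝟙 Ω') := by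
  have hιπ := ι_π D ι hι
  have h1 : (D.π ≫ ι) ≫ D.π ≫ φ ≫ KoszTw.tensorMap ι (𝟙 Ω') = 0 := by
    rw [Category.assoc, ← Category.assoc ι, hιπ, zero_comp, comp_zero]
  have h2 : (D.π ≫ φ ≫ KoszTw.tensorMap ι (𝟙 Ω')) ≫
      KoszTw.tensorMap D.π (𝟙 Ω') ≫ KoszTw.tensorMap ι (𝟙 Ω') = 0 := by
    rw [← Category.assoc, psi_π D ι hι, zero_comp]
  rw [act_eq D ι hι a, tensorMap_add_left, tensorMap_smul_left, tensorMap_smul_left,
    KoszTw.tensorMap_id, tensorMap_comp_id]
  simp only [Preadditive.add_comp, Preadditive.comp_add, Linear.smul_comp, Linear.comp_smul,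
    Category.id_comp, Category.comp_id, h1, h2, smul_zero, add_zero]
end

variable {δ : OmegaSh.Der (X ↘ Spec (CommRingCat.of k)) Ω'}
  {nabla : Coh.toAb E ⟶ Coh.toAb (CohB1.tensorMod E Ω')}

theorem defoConn_ext {c c' : DefoConn δ nabla D} (h : c.conn = c'.conn) : c = c' := by
  cases c; cases c'; cases h; rfl

/-- the deformation `c₀ + π ≫ φ ≫ (ι ⊗ 1)` of the connection. -/
noncomputable def addHom (c₀ : DefoConn δ nabla D) (φ : E ⟶ CohB1.tensorMod E Ω') :
    DefoConn δ nabla D where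
  conn := c₀.conn + (SheafOfModules.toSheaf X.ringCatSheaf).map
    (D.π ≫ φ ≫ KoszTw.tensorMap ι (𝟙 Ω'))
  isConn := isConn_add c₀.conn c₀.isConn _
  act_horizontal a := (isHorizontal_iff _ _ _).2
    ((Preadditive.comp_add _ _ _ _ _ _).trans
      ((congrArg₂ (· + ·) ((isHorizontal_iff _ _ _).1 (c₀.act_horizontal a))
        (((SheafOfModules.toSheaf X.ringCatSheaf).map_comp _ _).symm.trans
          ((congrArg (fun z => (SheafOfModules.toSheaf X.ringCatSheaf).map z)
            (act_psi D ι hι φ a)).trans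
            ((SheafOfModules.toSheaf X.ringCatSheaf).map_comp _ _)))).trans
        (Preadditive.add_comp _ _ _ _ _ _).symm))
  π_horizontal := (isHorizontal_iff _ _ _).2
    (((isHorizontal_iff _ _ _).1 c₀.π_horizontal).trans
      (((add_zero _).symm.trans
        (congrArg (fun z => c₀.conn ≫ (SheafOfModules.toSheaf X.ringCatSheaf).map
            (KoszTw.tensorMap D.π (𝟙 Ω')) + z)
          ((toSheaf_map_zero.symm.trans
            (congrArg (fun z => (SheafOfModules.toSheaf X.ringCatSheaf).map z)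
              (psi_π D ι hι φ).symm)).trans
            ((SheafOfModules.toSheaf X.ringCatSheaf).map_comp _ _)))).trans
        (Preadditive.add_comp _ _ _ _ _ _).symm))


section Exists

variable (hE : FlatMod.IsFinLocFree E)

include hι hE

theorem phi_unique (φ φ' : E ⟶ CohB1.tensorMod E Ω')
    (h : (SheafOfModules.toSheaf X.ringCatSheaf).map (D.π ≫ φ ≫ KoszTw.tensorMap ι (𝟙 Ω')) =
      (SheafOfModules.toSheaf X.ringCatSheaf).map (D.π ≫ φ' ≫ KoszTw.tensorMap ι (𝟙 Ω'))) :
    φ = φ' := by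
  haveI := epi_π D
  haveI := mono_tensor_ι D ι hι hE Ω'
  have h1 := toSheaf_map_injective h
  exact (cancel_mono _).1 ((cancel_epi D.π).1 h1)

theorem exists_phi (c₀ c : DefoConn δ nabla D) :
    ∃ φ : E ⟶ CohB1.tensorMod E Ω', c.conn - c₀.conn =
      (SheafOfModules.toSheaf X.ringCatSheaf).map (D.π ≫ φ ≫ KoszTw.tensorMap ι (𝟙 Ω')) := by
  haveI := epi_π D
  haveI := mono_tensor_ι D ι hι hE Ω'
  obtain ⟨ψ, hψ⟩ := exists_hom_of_linear (c.conn - c₀.conn)
    (linear_diff (δ := δ) c.conn c₀.conn c.isConn c₀.isConn)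
  -- `ψ` is killed by the reduction
  have h1 : ψ ≫ KoszTw.tensorMap D.π (𝟙 Ω') = 0 := by
    apply toSheaf_map_injective
    refine ((SheafOfModules.toSheaf X.ringCatSheaf).map_comp _ _).trans ?_
    refine (congrArg (fun z => z ≫ (SheafOfModules.toSheaf X.ringCatSheaf).map
      (KoszTw.tensorMap D.π (𝟙 Ω'))) hψ).trans ?_
    refine (Preadditive.sub_comp _ _ _).trans ?_
    refine (congrArg₂ (· - ·) ((isHorizontal_iff _ _ _).1 c.π_horizontal).symm
      ((isHorizontal_iff _ _ _).1 c₀.π_horizontal).symm).trans ?_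
    exact (sub_self _).trans toSheaf_map_zero.symm
  -- `ψ` commutes with `ε`
  have h2 : (D.π ≫ ι) ≫ ψ = ψ ≫ KoszTw.tensorMap (D.π ≫ ι) (𝟙 Ω') := by
    rw [hι]
    apply toSheaf_map_injective
    refine ((SheafOfModules.toSheaf X.ringCatSheaf).map_comp _ _).trans ?_
    refine (congrArg (fun z => (SheafOfModules.toSheaf X.ringCatSheaf).map
      (D.act (DualNumber.eps : DualNumber k)) ≫ z) hψ).trans ?_
    refine (Preadditive.comp_sub _ _ _).trans ?_
    refine (congrArg₂ (· - ·)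
      ((isHorizontal_iff _ _ _).1 (c.act_horizontal (DualNumber.eps : DualNumber k)))
      ((isHorizontal_iff _ _ _).1 (c₀.act_horizontal (DualNumber.eps : DualNumber k)))).trans ?_
    refine (Preadditive.sub_comp _ _ _).symm.trans ?_
    refine (congrArg (fun z => z ≫ (SheafOfModules.toSheaf X.ringCatSheaf).map
      (KoszTw.tensorMap (D.act (DualNumber.eps : DualNumber k)) (𝟙 Ω'))) hψ.symm).trans ?_
    exact ((SheafOfModules.toSheaf X.ringCatSheaf).map_comp _ _).symm
  obtain ⟨ψ', hψ'⟩ := exists_lift_of_stalk (KoszTw.tensorMap ι (𝟙 Ω'))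
    (KoszTw.tensorMap D.π (𝟙 Ω')) (tensor_ι_π D ι hι) (stalk_tensor_ι_injective D ι hι hE Ω')
    (stalk_tensor_exact D ι hι Ω') ψ h1
  have h3 : ι ≫ ψ' = 0 := by
    rw [← cancel_epi D.π, ← cancel_mono (KoszTw.tensorMap ι (𝟙 Ω')), comp_zero, zero_comp,
      Category.assoc, Category.assoc, hψ', ← Category.assoc, h2, tensorMap_comp_id,
      ← Category.assoc, h1, zero_comp]
  obtain ⟨φ, hφ⟩ := exists_desc_of_stalk ι D.π (ι_π D ι hι) (ι_injective D ι hι)
    (ker_π_le_range_ι D ι hι) ψ' h3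
  have h4 : ψ = D.π ≫ φ ≫ KoszTw.tensorMap ι (𝟙 Ω') := by
    rw [← hψ', ← hφ, Category.assoc]
  exact ⟨φ, hψ.symm.trans (congrArg (fun z => (SheafOfModules.toSheaf X.ringCatSheaf).map z) h4)⟩

end Exists


end Assembly

end Groth.Agent.Lib.Seat84.DefoTensor
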