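import Groth.Agent.Lib.Helper11RigidAntiF
import Groth.Agent.Lib.Seat96ModSec
import Groth.Agent.Lib.Helper23AffVanish7
import Groth.Agent.Lib.Helper23QCohExt
import Groth.Agent.S9705

/-!
# Seat84: connectedness of a closed subscheme from `H¹` of its ideal sheaf
-/

set_option autoImplicit false
set_option linter.style.haveILetI false
universe u

open CategoryTheory CategoryTheory.Limits AlgebraicGeometry TopologicalSpace Opposite

namespace Groth.Agent.Lib.Seat84.DivConn

/-- a nonempty scheme whose ring of global functions is a quotient of a field is connected. -/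
theorem connectedSpace_of_surjective_of_field {Y : Scheme.{u}} [Nonempty Y] {K : Type u} [Field K]
    (ψ : K →+* Γ(Y, ⊤)) (hψ : Function.Surjective ψ) : ConnectedSpace Y := by
  rw [connectedSpace_iff_clopen]
  refine ⟨inferInstance, ?_⟩
  intro s hs
  obtain ⟨e, he1, he2⟩ := Groth.Agent.Lib.Helper11RigidAntiF.exists_section_one_zero (X := Y)
    ⟨s, hs.isOpen⟩ ⟨sᶜ, hs.compl.isOpen⟩ (by ext x; simp) (by ext x; simp)
  obtain ⟨c, rfl⟩ := hψ e
  by_cases hc : c = 0
  · left
    subst hc
    rw [map_zero, map_zero] at he1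
    have h3 := Scheme.basicOpen_of_isUnit Y (U := ⟨s, hs.isOpen⟩) isUnit_one
    rw [← he1, Scheme.basicOpen_zero] at h3
    have h4 := congrArg (fun U : Y.Opens => (U : Set Y)) h3
    simpa using h4.symm
  · right
    have hunit : IsUnit (ψ c) := (IsUnit.mk0 c hc).map ψ
    have hunit2 := hunit.map (Y.presheaf.map (homOfLE (le_top :
      (⟨sᶜ, hs.compl.isOpen⟩ : Y.Opens) ≤ ⊤)).op).hom
    erw [he2] at hunit2
    have h3 := Scheme.basicOpen_of_isUnit Y (U := ⟨sᶜ, hs.compl.isOpen⟩) hunit2
    rw [Scheme.basicOpen_zero] at h3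
    have h4 := congrArg (fun U : Y.Opens => (U : Set Y)) h3
    simp only [Opens.coe_bot, Opens.coe_mk] at h4
    exact Set.compl_empty_iff.mp h4.symm

open Groth.Agent.Lib.Helper23.QCohLocal Groth.Agent.Lib.Helper23.AffVanish in
/-- if `H¹(X, I_D) = 0`, every global function on `D` is the restriction of a global function on
`X`. -/
theorem appTop_surjective_of_subsingleton_HH {X : Scheme.{u}} (D : X.IdealSheafData)
    (hvan : Subsingleton (Coh.HH X (ClSub.idealMod D) 1)) :
    Function.Surjective (D.subschemeι.app ⊤).hom := by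
  let S : ShortComplex X.Modules :=
    ShortComplex.mk (ClSub.idealModι D) (ClSub.toSubscheme D) (kernel.condition _)
  have hS : S.ShortExact :=
    { exact := ShortComplex.exact_kernel _
      mono_f := inferInstanceAs (Mono (kernel.ι (ClSub.toSubscheme D)))
      epi_g := Groth.Agent.Lib.Seat96.ModSec.epi_toSubscheme D }
  haveI : Subsingleton (CohTop.H (ab' (ClSub.idealMod D)) 1) := hvan
  have hsub : Subsingleton (HE (ab' (ClSub.idealMod D)) 1 (⊤ : X.Opens)) :=
    (HETopEquivH X.carrier (ab' (ClSub.idealMod D)) 1).toEquiv.subsingleton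
  have hsurj := surjective_app_of_subsingleton_HE S hS ⊤ hsub
  intro b
  obtain ⟨a, ha⟩ := hsurj b
  exact ⟨a, ha⟩

end Groth.Agent.Lib.Seat84.DivConn
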