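import Groth.Agent.Lib.Seat35EulerIso
import Groth.Agent.Lib.Helper23PB
import Groth.Prelude.Def_CurvBase

/-!
# Seat84: consequences of flat base change of cohomology for a field extension

`BC k k' X X' g` is the statement of flat base change (S0034) for the field extension `k'/k`, the square
`X' → X` over `Spec k' → Spec k`, all quasi-coherent modules and all degrees. From it:
* `finrank_eq`, `subsingleton_iff`, `finrank_structure_eq`, `euler_eq`, `euler_structure_eq`, `deg_eq`.
-/

set_option autoImplicit false
set_option linter.style.haveILetI false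
universe u

open CategoryTheory CategoryTheory.Limits AlgebraicGeometry TopologicalSpace Opposite

namespace Groth.Agent.Lib.Seat84.FieldBC

variable (k : Type u) [Field k] (k' : Type u) [Field k'] [Algebra k k']
  (X X' : Scheme.{u}) [X.Over (Spec (CommRingCat.of k))] [X'.Over (Spec (CommRingCat.of k'))]
  (g : X' ⟶ X)

/-- the flat base change statement for all quasi-coherent modules and all degrees -/
def BC : Prop :=
  ∀ (M : X.Modules) (_ : Coh.IsQCoh M) (i : ℕ),
    Nonempty (TensorProduct k k' (Coh.HH X M i) ≃ₗ[k']
      Coh.HH X' ((Scheme.Modules.pullback g).obj M) i)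

variable {k k' X X' g}

theorem finrank_eq (hbc : BC k k' X X' g) (M : X.Modules) (hM : Coh.IsQCoh M) (i : ℕ) :
    Module.finrank k' (Coh.HH X' ((Scheme.Modules.pullback g).obj M) i) =
      Module.finrank k (Coh.HH X M i) := by
  obtain ⟨e⟩ := hbc M hM i
  rw [← e.finrank_eq]
  exact Module.finrank_baseChange

theorem subsingleton_iff (hbc : BC k k' X X' g) (M : X.Modules) (hM : Coh.IsQCoh M) (i : ℕ) :
    Subsingleton (Coh.HH X' ((Scheme.Modules.pullback g).obj M) i) ↔
      Subsingleton (Coh.HH X M i) := by
  obtain ⟨e⟩ := hbc M hM i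
  constructor
  · intro h
    have h1 : Subsingleton (TensorProduct k k' (Coh.HH X M i)) := e.toEquiv.subsingleton
    exact (Module.FaithfullyFlat.tensorProduct_mk_injective (A := k) (B := k')
      (Coh.HH X M i)).subsingleton
  · intro h
    exact e.symm.toEquiv.subsingleton

theorem finrank_structure_eq (hbc : BC k k' X X' g) (i : ℕ) :
    Module.finrank k' (Coh.HH X' (Coh.structureModule X') i) =
      Module.finrank k (Coh.HH X (Coh.structureModule X) i) := by
  rw [← finrank_eq hbc (Coh.structureModule X)
    (Groth.Agent.Lib.Helper23.Serre.isQuasicoherent_structureModule' X) i]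
  exact (Groth.Agent.Lib.Seat35.EulerIso.finrank_HH_eq k' X'
    (Groth.Agent.Lib.Helper23.PB.pullbackUnitIso g) i).symm

theorem euler_eq (hbc : BC k k' X X' g) (M : X.Modules) (hM : Coh.IsQCoh M) :
    Curv2.euler k' X' ((Scheme.Modules.pullback g).obj M) = Curv2.euler k X M := by
  unfold Curv2.euler
  refine finsum_congr fun i => ?_
  rw [finrank_eq hbc M hM i]

theorem euler_structure_eq (hbc : BC k k' X X' g) :
    Curv2.euler k' X' (Coh.structureModule X') = Curv2.euler k X (Coh.structureModule X) := by
  unfold Curv2.euler
  refine finsum_congr fun i => ?_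
  rw [finrank_structure_eq hbc i]

theorem deg_eq (hbc : BC k k' X X' g) (M : X.Modules) (hM : Coh.IsQCoh M) (n : ℕ) :
    Curv2.deg k' X' ((Scheme.Modules.pullback g).obj M) n = Curv2.deg k X M n := by
  unfold Curv2.deg
  rw [euler_eq hbc M hM, euler_structure_eq hbc]

end Groth.Agent.Lib.Seat84.FieldBC
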