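import Groth.Prelude.Def_FrobAlg
import Mathlib

/-!
# Relative Frobenius of an adic completion (seat 84, for S17428)

For a Noetherian ring `A` of characteristic `p` with finite Frobenius and an ideal `I`, the relative
Frobenius `Â ⊗_{A,F} A → Â` of the `I`-adic completion is bijective.
-/

set_option autoImplicit false
universe u

namespace Groth.Agent.Lib.Seat84.FrobCompl

open FrobAlg TensorProduct

variable (p : ℕ) [Fact p.Prime] (A : Type u) [CommRing A] [CharP A p]

theorem smul_twist (a : A) (t : Twist p A) : a • t = toTwist p A (a ^ p) * t := by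
  rw [Algebra.smul_def, algebraMap_twist]

theorem algebraMap_twist_eq :
    algebraMap A (Twist p A) = (toTwist p A : A →+* Twist p A).comp (frobenius A p) := rfl

variable (I : Ideal A)

/-- the submodule `I • ⊤` of the Frobenius twist is (the restriction of) an ideal -/
theorem mem_smul_top_iff (K : Ideal A) (x : Twist p A) :
    x ∈ (K • ⊤ : Submodule A (Twist p A)) ↔ x ∈ K.map (algebraMap A (Twist p A)) := by
  rw [Ideal.smul_top_eq_map]; rfl

theorem map_frobenius_le (K : Ideal A) : K.map (frobenius A p) ≤ K := by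
  rw [Ideal.map_le_iff_le_comap]
  intro a ha
  rw [Ideal.mem_comap, frobenius_def]
  exact Ideal.pow_mem_of_mem K ha p (Fact.out : p.Prime).pos

/-- (a) `I^n • T ⊆ I^n` -/
theorem symm_mem_of_mem_smul_top (K : Ideal A) (x : Twist p A)
    (hx : x ∈ (K • ⊤ : Submodule A (Twist p A))) : (toTwist p A).symm x ∈ K := by
  rw [mem_smul_top_iff, algebraMap_twist_eq, ← Ideal.map_map] at hx
  have h1 : (K.map (frobenius A p)).map (toTwist p A : A →+* Twist p A) ≤
      K.map (toTwist p A : A →+* Twist p A) := Ideal.map_mono (map_frobenius_le p A K)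
  have h2 := h1 hx
  have h3 : (toTwist p A).symm x ∈ (K.map (toTwist p A : A →+* Twist p A)).map
      ((toTwist p A).symm : Twist p A →+* A) := Ideal.mem_map_of_mem _ h2
  rw [Ideal.map_map] at h3
  simpa using h3

/-- (b) there is `N ≥ 1` with `I^(N n) ⊆ I^n • T` for all `n`. -/
theorem exists_pow_le_smul_top [IsNoetherianRing A] :
    ∃ N : ℕ, 0 < N ∧ ∀ (n : ℕ) (a : A), a ∈ I ^ (N * n) →
      toTwist p A a ∈ (I ^ n • ⊤ : Submodule A (Twist p A)) := by
  have hrad : I ≤ (I.map (frobenius A p)).radical := by
    intro a ha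
    refine ⟨p, ?_⟩
    rw [← frobenius_def]
    exact Ideal.mem_map_of_mem _ ha
  obtain ⟨N, hN⟩ := Ideal.exists_pow_le_of_le_radical_of_fg hrad (IsNoetherian.noetherian I)
  refine ⟨N + 1, Nat.succ_pos _, fun n a ha => ?_⟩
  rw [mem_smul_top_iff, algebraMap_twist_eq, ← Ideal.map_map, Ideal.map_pow]
  apply Ideal.mem_map_of_mem
  have h1 : I ^ ((N + 1) * n) ≤ (I.map (frobenius A p)) ^ n := by
    rw [pow_mul]
    apply Ideal.pow_right_mono
    exact (Ideal.pow_le_pow_right (Nat.le_succ N)).trans hN
  exact h1 ha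


/-- the Frobenius-semilinear map `T → A ⧸ I^n`, `t ↦ [t]` -/
noncomputable def toQuot (n : ℕ) : Twist p A →ₛₗ[frobenius A p] A ⧸ I ^ n where
  toFun t := Ideal.Quotient.mk (I ^ n) ((toTwist p A).symm t)
  map_add' x y := by simp
  map_smul' a t := by
    rw [smul_twist, map_mul, RingEquiv.symm_apply_apply, map_mul, frobenius_def,
      Algebra.smul_def]
    rfl

theorem toQuot_apply (n : ℕ) (t : Twist p A) :
    toQuot p A I n t = Ideal.Quotient.mk (I ^ n) ((toTwist p A).symm t) := rfl

/-- the comparison map `π_n : T ⧸ I^n T → A ⧸ I^n` -/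
noncomputable def proj (n : ℕ) :
    (Twist p A ⧸ (I ^ n • ⊤ : Submodule A (Twist p A))) →ₛₗ[frobenius A p] A ⧸ I ^ n :=
  Submodule.liftQ _ (toQuot p A I n) (by
    intro x hx
    rw [LinearMap.mem_ker, toQuot_apply, Ideal.Quotient.eq_zero_iff_mem]
    exact symm_mem_of_mem_smul_top p A (I ^ n) x hx)

theorem proj_mk (n : ℕ) (t : Twist p A) :
    proj p A I n (Submodule.Quotient.mk t) = Ideal.Quotient.mk (I ^ n) ((toTwist p A).symm t) := by
  rw [proj, Submodule.liftQ_apply, toQuot_apply]

variable [CharP (AdicCompletion I A) p]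

theorem relFrob_tmul (b : AdicCompletion I A) (t : Twist p A) :
    relFrob p A (AdicCompletion I A) (b ⊗ₜ t) =
      b ^ p * algebraMap A (AdicCompletion I A) ((toTwist p A).symm t) := by
  simp only [relFrob, RingHom.coe_comp, Function.comp_apply, AlgHom.toRingHom_eq_coe,
    RingHom.coe_coe, Algebra.TensorProduct.lift_tmul]
  rfl


/-- key compatibility: the `n`-th component of the relative Frobenius is `π_n` of the `n`-th
component of the comparison map `Â ⊗ T → T^` -/
theorem evalₐ_relFrob (z : AdicCompletion I A ⊗[A] Twist p A) (n : ℕ) :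
    AdicCompletion.evalₐ I n (relFrob p A (AdicCompletion I A) z) =
      proj p A I n ((AdicCompletion.ofTensorProduct I (Twist p A) z).val n) := by
  induction z using TensorProduct.induction_on with
  | zero => simp
  | tmul b t =>
    rw [relFrob_tmul, AdicCompletion.ofTensorProduct_tmul, AdicCompletion.smul_eval]
    induction b using AdicCompletion.induction_on with
    | h g =>
      rw [map_mul, map_pow, AdicCompletion.evalₐ_mk, AlgHom.commutes,
        Ideal.Quotient.algebraMap_eq]
      rw [AdicCompletion.mk_apply_coe, AdicCompletion.of_apply, Submodule.mkQ_apply,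
        Submodule.mkQ_apply]
      have h1 : (Submodule.Quotient.mk (g n) : A ⧸ (I ^ n • ⊤ : Ideal A)) •
          (Submodule.Quotient.mk t : Twist p A ⧸ (I ^ n • ⊤ : Submodule A (Twist p A))) =
          Submodule.Quotient.mk (g n • t) := rfl
      rw [h1, proj_mk, smul_twist, map_mul, RingEquiv.symm_apply_apply, map_mul, map_pow]
  | add x y hx hy =>
    rw [map_add, map_add, map_add, AdicCompletion.val_add_apply, map_add, hx, hy]


theorem relFrob_injective [IsNoetherianRing A] [Module.Finite A (Twist p A)] :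
    Function.Injective (relFrob p A (AdicCompletion I A)) := by
  rw [injective_iff_map_eq_zero]
  intro z hz
  obtain ⟨N, hN0, hN⟩ := exists_pow_le_smul_top p A I
  have hΨ := AdicCompletion.ofTensorProduct_bijective_of_finite_of_isNoetherian I (Twist p A)
  apply hΨ.1
  rw [map_zero]
  set x := AdicCompletion.ofTensorProduct I (Twist p A) z with hx
  have key : ∀ n, proj p A I n (x.val n) = 0 := fun n => by
    rw [hx, ← evalₐ_relFrob, hz, map_zero]
  apply AdicCompletion.ext
  intro n
  rw [AdicCompletion.val_zero_apply]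
  have hmn : n ≤ N * n := Nat.le_mul_of_pos_left n hN0
  rw [← AdicCompletion.transitionMap_comp_eval_apply I (Twist p A) hmn x]
  obtain ⟨u, hu⟩ := Submodule.Quotient.mk_surjective _ (x.val (N * n))
  have h1 := key (N * n)
  rw [← hu, proj_mk, Ideal.Quotient.eq_zero_iff_mem] at h1
  have h2 := hN n _ h1
  rw [RingEquiv.apply_symm_apply] at h2
  rw [← hu]
  change Submodule.Quotient.mk u = 0
  rwa [Submodule.Quotient.mk_eq_zero]

theorem relFrob_surjective [IsNoetherianRing A] [Module.Finite A (Twist p A)] :
    Function.Surjective (relFrob p A (AdicCompletion I A)) := by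
  intro c
  obtain ⟨N, hN0, hN⟩ := exists_pow_le_smul_top p A I
  have hΨ := AdicCompletion.ofTensorProduct_bijective_of_finite_of_isNoetherian I (Twist p A)
  obtain ⟨g, rfl⟩ := AdicCompletion.mk_surjective I A c
  have hle : ∀ n, n ≤ N * n := fun n => Nat.le_mul_of_pos_left n hN0
  -- the Cauchy sequence `n ↦ g (N n)` in `T`
  have hf : AdicCompletion.IsAdicCauchy I (Twist p A) (fun n => toTwist p A (g (N * n))) := by
    intro m n hmn
    rw [SModEq.sub_mem, ← map_sub]
    apply hN
    have h1 := g.property (Nat.mul_le_mul_left N hmn)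
    rw [SModEq.sub_mem] at h1
    simpa using h1
  let f : AdicCompletion.AdicCauchySequence I (Twist p A) :=
    ⟨fun n => toTwist p A (g (N * n)), hf⟩
  obtain ⟨z, hz⟩ := hΨ.2 (AdicCompletion.mk I (Twist p A) f)
  refine ⟨z, ?_⟩
  apply AdicCompletion.ext_evalₐ
  intro n
  have h3 : (AdicCompletion.mk I (Twist p A) f).val n =
      Submodule.Quotient.mk (toTwist p A (g (N * n))) := rfl
  rw [evalₐ_relFrob, hz, h3, proj_mk, AdicCompletion.evalₐ_mk, RingEquiv.symm_apply_apply]
  exact AdicCompletion.Ideal.mk_eq_mk I (hle n) g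

theorem relFrob_bijective [IsNoetherianRing A] [Module.Finite A (Twist p A)] :
    Function.Bijective (relFrob p A (AdicCompletion I A)) :=
  ⟨relFrob_injective p A I, relFrob_surjective p A I⟩

end Groth.Agent.Lib.Seat84.FrobCompl
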