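import Mathlib

/-!
# Seat84: lattice maximizer of `g_min / ‖·‖` on a rational polyhedral cone (Kempf's lemma)

Helper lemmas for S17517.
-/

set_option autoImplicit false

namespace Groth.Agent.Lib.Seat84.GITLattice

open Module

/-- A `ℚ`-linear retraction `ℝ → ℚ` of the inclusion `ℚ → ℝ`. -/
theorem exists_retraction : ∃ ρ : ℝ →ₗ[ℚ] ℚ, ∀ q : ℚ, ρ (q : ℝ) = q := by
  obtain ⟨g, hg⟩ := LinearMap.exists_leftInverse_of_injective (Algebra.linearMap ℚ ℝ)
    (LinearMap.ker_eq_bot.mpr (algebraMap ℚ ℝ).injective)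
  refine ⟨g, fun q => ?_⟩
  have := LinearMap.congr_fun hg q
  simpa using this

theorem retraction_int (ρ : ℝ →ₗ[ℚ] ℚ) (hρ : ∀ q : ℚ, ρ (q : ℝ) = q) (n : ℤ) :
    ρ (n : ℝ) = n := by
  have := hρ (n : ℚ)
  simpa using this

theorem retraction_mul_int (ρ : ℝ →ₗ[ℚ] ℚ) (x : ℝ) (n : ℤ) :
    ρ (x * (n : ℝ)) = ρ x * n := by
  have h : x * (n : ℝ) = (n : ℚ) • x := by
    rw [Rat.smul_def]; push_cast; ring
  rw [h, map_smul, smul_eq_mul, mul_comm]

theorem retraction_sum_mul_int {ι : Type*} (s : Finset ι) (ρ : ℝ →ₗ[ℚ] ℚ) (x : ι → ℝ)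
    (n : ι → ℤ) :
    ρ (∑ i ∈ s, x i * (n i : ℝ)) = ∑ i ∈ s, ρ (x i) * n i := by
  rw [map_sum]
  exact Finset.sum_congr rfl fun i _ => retraction_mul_int ρ (x i) (n i)

variable {E : Type*} [NormedAddCommGroup E] [InnerProductSpace ℝ E]

/-- Rationality of the solution of a rational linear system which is orthogonal to the
homogeneous solutions. -/
theorem rational_repr {ι κ : Type*} [Fintype ι] [Finite κ] (e : Basis ι ℝ E)
    (hQ : ∀ i j, ∃ n : ℤ, inner ℝ (e i) (e j) = (n : ℝ))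
    (a : κ → Module.Dual ℝ E) (ha : ∀ k i, ∃ n : ℤ, a k (e i) = (n : ℝ))
    (b : κ → ℤ) (v : E) (hv : ∀ k, a k v = (b k : ℝ))
    (hperp : ∀ w, (∀ k, a k w = 0) → inner ℝ v w = 0) :
    ∀ i, ∃ q : ℚ, e.repr v i = (q : ℝ) := by
  classical
  cases nonempty_fintype κ
  obtain ⟨ρ, hρ⟩ := exists_retraction
  choose Q hQ using hQ
  choose A hA using ha
  -- the functional `inner v` is a combination of the `a k`
  have hspan : (innerₛₗ ℝ v : E →ₗ[ℝ] ℝ) ∈ Submodule.span ℝ (Set.range a) := by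
    apply mem_span_of_iInf_ker_le_ker
    intro w hw
    rw [Submodule.mem_iInf] at hw
    rw [LinearMap.mem_ker]
    exact hperp w fun k => LinearMap.mem_ker.mp (hw k)
  obtain ⟨c, hc⟩ := (Submodule.mem_span_range_iff_exists_fun ℝ).1 hspan
  have hc' : ∀ w, inner ℝ v w = ∑ k, c k * a k w := by
    intro w
    have := LinearMap.congr_fun hc w
    simp only [LinearMap.coe_sum, Finset.sum_apply, LinearMap.smul_apply, smul_eq_mul] at this
    exact this.symm
  set x : ι → ℝ := fun i => e.repr v i with hx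
  have hvx : v = ∑ i, x i • e i := (e.sum_repr v).symm
  set v' : E := ∑ i, ((ρ (x i) : ℚ) : ℝ) • e i with hv'
  -- `a k v' = b k`
  have h1 : ∀ k, a k v' = (b k : ℝ) := by
    intro k
    have e1 : a k v' = ((∑ i, ρ (x i) * (A k i : ℚ) : ℚ) : ℝ) := by
      rw [hv', map_sum]
      push_cast
      refine Finset.sum_congr rfl fun i _ => ?_
      rw [map_smul, smul_eq_mul, hA]
    have e2 : a k v = ∑ i, x i * (A k i : ℝ) := by
      conv_lhs => rw [hvx]
      rw [map_sum]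
      refine Finset.sum_congr rfl fun i _ => ?_
      rw [map_smul, smul_eq_mul, hA]
    rw [e1, ← retraction_sum_mul_int, ← e2, hv k, retraction_int ρ hρ]
    push_cast; rfl
  -- `inner v' (e j) = ∑ k, ρ (c k) * a k (e j)`
  have h2 : ∀ j, inner ℝ v' (e j) = ∑ k, ((ρ (c k) : ℚ) : ℝ) * a k (e j) := by
    intro j
    have e1 : inner ℝ v' (e j) = ((∑ i, ρ (x i) * (Q i j : ℚ) : ℚ) : ℝ) := by
      rw [hv', sum_inner]
      push_cast
      refine Finset.sum_congr rfl fun i _ => ?_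
      rw [real_inner_smul_left, hQ]
    have e2 : inner ℝ v (e j) = ∑ i, x i * (Q i j : ℝ) := by
      conv_lhs => rw [hvx]
      rw [sum_inner]
      refine Finset.sum_congr rfl fun i _ => ?_
      rw [real_inner_smul_left, hQ]
    have e3 : inner ℝ v (e j) = ∑ k, c k * (A k j : ℝ) := by
      rw [hc']
      refine Finset.sum_congr rfl fun k _ => ?_
      rw [hA]
    rw [e1, ← retraction_sum_mul_int, ← e2, e3, retraction_sum_mul_int]
    push_cast
    refine Finset.sum_congr rfl fun k _ => ?_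
    rw [hA]
  have h2' : ∀ w, inner ℝ v' w = ∑ k, ((ρ (c k) : ℚ) : ℝ) * a k w := by
    intro w
    have : (innerₛₗ ℝ v' : E →ₗ[ℝ] ℝ) = ∑ k, ((ρ (c k) : ℚ) : ℝ) • a k := by
      refine e.ext fun j => ?_
      simp only [LinearMap.coe_sum, Finset.sum_apply, LinearMap.smul_apply, smul_eq_mul]
      exact h2 j
    have := LinearMap.congr_fun this w
    simp only [LinearMap.coe_sum, Finset.sum_apply, LinearMap.smul_apply, smul_eq_mul] at this
    exact this
  -- `v' = v`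
  have hd : ∀ k, a k (v' - v) = 0 := fun k => by rw [map_sub, h1, hv, sub_self]
  have hz : inner ℝ (v' - v) (v' - v) = 0 := by
    rw [inner_sub_left, hperp _ hd, h2', sub_zero]
    exact Finset.sum_eq_zero fun k _ => by rw [hd, mul_zero]
  have hvv : v' = v := sub_eq_zero.mp (inner_self_eq_zero.mp hz)
  intro i
  refine ⟨ρ (x i), ?_⟩
  have : e.repr v' i = ((ρ (x i) : ℚ) : ℝ) := by
    rw [hv', map_sum]
    simp only [map_smul, Basis.repr_self, Finsupp.smul_single, smul_eq_mul, mul_one]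
    rw [Finset.sum_apply']
    simp [Finsupp.single_apply]
  rw [← hvv, this]

/-- Clearing denominators. -/
theorem exists_nsmul_mem {ι : Type*} [Fintype ι] (e : Basis ι ℝ E) (L : Submodule ℤ E)
    (he : ∀ i, e i ∈ L) (v : E) (hq : ∀ i, ∃ q : ℚ, e.repr v i = (q : ℝ)) :
    ∃ N : ℕ, N ≠ 0 ∧ (N : ℝ) • v ∈ L := by
  classical
  choose q hq using hq
  have key : ∀ s : Finset ι, ∃ N : ℕ, N ≠ 0 ∧ (N : ℝ) • (∑ i ∈ s, (q i : ℝ) • e i) ∈ L := by
    intro s
    induction s using Finset.induction_on with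
    | empty => exact ⟨1, one_ne_zero, by simp⟩
    | insert i s his ih =>
      obtain ⟨N, hN, hmem⟩ := ih
      refine ⟨(q i).den * N, Nat.mul_ne_zero (q i).den_nz hN, ?_⟩
      rw [Finset.sum_insert his, smul_add]
      refine L.add_mem ?_ ?_
      · have : (((q i).den * N : ℕ) : ℝ) • ((q i : ℝ) • e i)
            = ((N : ℤ) * (q i).num : ℤ) • e i := by
          rw [← Int.cast_smul_eq_zsmul ℝ, smul_smul]
          congr 1
          push_cast
          have h0 := Rat.mul_den_eq_num (q i)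
          have h' : ((q i : ℚ) : ℝ) * ((q i).den : ℝ) = ((q i).num : ℝ) := by exact_mod_cast h0
          linear_combination (N : ℝ) * h'
        rw [this]
        exact L.smul_mem _ (he i)
      · have : (((q i).den * N : ℕ) : ℝ) • (∑ j ∈ s, (q j : ℝ) • e j)
            = ((q i).den : ℤ) • ((N : ℝ) • ∑ j ∈ s, (q j : ℝ) • e j) := by
          rw [← Int.cast_smul_eq_zsmul ℝ, smul_smul]; push_cast; rfl
        rw [this]
        exact L.smul_mem _ hmem
  obtain ⟨N, hN, hmem⟩ := key Finset.univ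
  refine ⟨N, hN, ?_⟩
  have : v = ∑ i, (q i : ℝ) • e i := by
    conv_lhs => rw [← e.sum_repr v]
    exact Finset.sum_congr rfl fun i _ => by rw [hq]
  rwa [this]

/-- Lattice points on a ray: there is a primitive one (using integrality of the norm squares). -/
theorem exists_primitive (L : Submodule ℤ E)
    (hint : ∀ x ∈ L, ∀ y ∈ L, ∃ n : ℤ, inner ℝ x y = (n : ℝ))
    (u : E) (hu : ‖u‖ = 1) (h : ∃ t : ℝ, 0 < t ∧ t • u ∈ L) :
    ∃ t₀ : ℝ, 0 < t₀ ∧ t₀ • u ∈ L ∧ ∀ t : ℝ, 0 < t → t • u ∈ L → ∃ n : ℤ, t = n * t₀ := by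
  classical
  have hsq : ∀ t : ℝ, t • u ∈ L → ∃ n : ℕ, t ^ 2 = n := by
    intro t ht
    obtain ⟨n, hn⟩ := hint _ ht _ ht
    rw [real_inner_smul_left, real_inner_smul_right, real_inner_self_eq_norm_sq, hu] at hn
    have hn' : t ^ 2 = (n : ℝ) := by rw [← hn]; ring
    have : 0 ≤ n := by exact_mod_cast (hn' ▸ sq_nonneg t : (0:ℝ) ≤ n)
    lift n to ℕ using this
    exact ⟨n, by exact_mod_cast hn'⟩
  let p : ℕ → Prop := fun n => ∃ t : ℝ, 0 < t ∧ t • u ∈ L ∧ t ^ 2 = n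
  have hp : ∃ n, p n := by
    obtain ⟨t, ht, htL⟩ := h
    obtain ⟨n, hn⟩ := hsq t htL
    exact ⟨n, t, ht, htL, hn⟩
  obtain ⟨t₀, ht₀, ht₀L, ht₀n⟩ := Nat.find_spec hp
  refine ⟨t₀, ht₀, ht₀L, fun t ht htL => ?_⟩
  set n := ⌊t / t₀⌋ with hn
  set r := t - n * t₀ with hr
  have hr0 : 0 ≤ r := by
    have h1 := Int.floor_le (t / t₀)
    rw [← hn] at h1
    have h2 := (le_div_iff₀ ht₀).mp h1
    linarith
  have hr1 : r < t₀ := by
    have h1 := Int.lt_floor_add_one (t / t₀)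
    rw [← hn] at h1
    have h2 := (div_lt_iff₀ ht₀).mp h1
    linarith
  have hrL : r • u ∈ L := by
    have : r • u = t • u - n • (t₀ • u) := by
      rw [hr, sub_smul, mul_smul, Int.cast_smul_eq_zsmul]
    rw [this]
    exact L.sub_mem htL (L.smul_mem _ ht₀L)
  rcases hr0.eq_or_lt with h0 | h0
  · exact ⟨n, by linarith⟩
  · exfalso
    obtain ⟨m, hm⟩ := hsq r hrL
    have hlt : m < Nat.find hp := by
      have : (m : ℝ) < (Nat.find hp : ℝ) := by
        rw [← hm, ← ht₀n]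
        exact pow_lt_pow_left₀ hr1 hr0 two_ne_zero
      exact_mod_cast this
    exact Nat.find_min hp hlt ⟨r, h0, hrL, hm⟩

/-! ### The minimum of finitely many functionals -/

section mn

variable (G : Finset (Module.Dual ℝ E)) (hG : G.Nonempty)

theorem mn_le {g : Module.Dual ℝ E} (hg : g ∈ G) (v : E) :
    G.inf' hG (fun g => g v) ≤ g v :=
  Finset.inf'_le (fun g : Module.Dual ℝ E => g v) hg

theorem mn_smul {c : ℝ} (hc : 0 ≤ c) (v : E) :
    G.inf' hG (fun g => g (c • v)) = c * G.inf' hG (fun g => g v) := by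
  apply le_antisymm
  · obtain ⟨g, hg, hgv⟩ := Finset.exists_mem_eq_inf' hG (fun g : Module.Dual ℝ E => g v)
    rw [hgv]
    calc G.inf' hG (fun g => g (c • v)) ≤ g (c • v) := mn_le G hG hg _
      _ = c * g v := by rw [map_smul, smul_eq_mul]
  · rw [Finset.le_inf'_iff]
    intro g hg
    rw [map_smul, smul_eq_mul]
    exact mul_le_mul_of_nonneg_left (mn_le G hG hg v) hc

theorem mn_zero : G.inf' hG (fun g => g (0 : E)) = 0 := by
  simp

theorem mn_add_le (u w : E) :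
    G.inf' hG (fun g => g u) + G.inf' hG (fun g => g w) ≤ G.inf' hG (fun g => g (u + w)) := by
  rw [Finset.le_inf'_iff]
  intro g hg
  rw [map_add]
  exact add_le_add (mn_le G hG hg u) (mn_le G hG hg w)

theorem mn_neg_lt {v : E} (hv : 0 < G.inf' hG (fun g => g v)) :
    G.inf' hG (fun g => g (-v)) < 0 := by
  obtain ⟨g, hg⟩ := hG
  calc G.inf' _ (fun g => g (-v)) ≤ g (-v) := mn_le G _ hg _
    _ = - g v := map_neg _ _
    _ < 0 := by
      have := lt_of_lt_of_le hv (mn_le G ⟨g, hg⟩ hg v)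
      linarith

theorem continuous_mn [FiniteDimensional ℝ E] :
    Continuous (fun v : E => G.inf' hG (fun g => g v)) :=
  Continuous.finset_inf'_apply hG fun g _ => LinearMap.continuous_of_finiteDimensional g

end mn

section opt

variable [FiniteDimensional ℝ E]
variable (F G : Finset (Module.Dual ℝ E)) (hF : F.Nonempty) (hG : G.Nonempty)

/-- Existence of a unit maximizer. -/
theorem exists_max
    (hpos : ∃ v : E, 0 ≤ F.inf' hF (fun f => f v) ∧ 0 < G.inf' hG (fun g => g v)) :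
    ∃ u : E, ‖u‖ = 1 ∧ 0 ≤ F.inf' hF (fun f => f u) ∧ 0 < G.inf' hG (fun g => g u) ∧
      ∀ v : E, 0 ≤ F.inf' hF (fun f => f v) →
        G.inf' hG (fun g => g v) ≤ G.inf' hG (fun g => g u) * ‖v‖ := by
  obtain ⟨v₁, hv₁F, hv₁G⟩ := hpos
  have hv₁ : v₁ ≠ 0 := by
    rintro rfl
    rw [mn_zero] at hv₁G
    exact lt_irrefl _ hv₁G
  set S : Set E := Metric.sphere 0 1 ∩ {v | 0 ≤ F.inf' hF (fun f => f v)} with hS
  have hScomp : IsCompact S :=
    (isCompact_sphere 0 1).inter_right (isClosed_le continuous_const (continuous_mn F hF))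
  have hnorm : ∀ v : E, v ≠ 0 → 0 ≤ F.inf' hF (fun f => f v) → ‖v‖⁻¹ • v ∈ S := by
    intro v hv hvF
    refine ⟨?_, ?_⟩
    · rw [mem_sphere_zero_iff_norm, norm_smul, norm_inv, norm_norm,
        inv_mul_cancel₀ (norm_ne_zero_iff.mpr hv)]
    · change 0 ≤ F.inf' hF (fun f => f (‖v‖⁻¹ • v))
      rw [mn_smul F hF (inv_nonneg.mpr (norm_nonneg v))]
      exact mul_nonneg (inv_nonneg.mpr (norm_nonneg v)) hvF
  have hSne : S.Nonempty := ⟨_, hnorm v₁ hv₁ hv₁F⟩
  obtain ⟨u, huS, humax⟩ := hScomp.exists_isMaxOn hSne (continuous_mn G hG).continuousOn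
  have hbound : ∀ v : E, v ≠ 0 → 0 ≤ F.inf' hF (fun f => f v) →
      G.inf' hG (fun g => g v) ≤ G.inf' hG (fun g => g u) * ‖v‖ := by
    intro v hv hvF
    have h1 : G.inf' hG (fun g => g (‖v‖⁻¹ • v)) ≤ G.inf' hG (fun g => g u) :=
      humax (hnorm v hv hvF)
    rw [mn_smul G hG (inv_nonneg.mpr (norm_nonneg v))] at h1
    have hpos : 0 < ‖v‖ := norm_pos_iff.mpr hv
    rw [inv_mul_le_iff₀ hpos] at h1
    linarith
  refine ⟨u, mem_sphere_zero_iff_norm.mp huS.1, huS.2, ?_, ?_⟩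
  · have h1 := hbound v₁ hv₁ hv₁F
    by_contra hneg
    rw [not_lt] at hneg
    have : G.inf' hG (fun g => g u) * ‖v₁‖ ≤ 0 :=
      mul_nonpos_of_nonpos_of_nonneg hneg (norm_nonneg _)
    linarith
  · intro v hvF
    by_cases hv : v = 0
    · subst hv
      rw [mn_zero, norm_zero, mul_zero]
    · exact hbound v hv hvF

omit [FiniteDimensional ℝ E] in
/-- Uniqueness of the unit maximizer. -/
theorem unit_max_unique {M : ℝ} (hM : 0 < M)
    (hmax : ∀ v : E, 0 ≤ F.inf' hF (fun f => f v) → G.inf' hG (fun g => g v) ≤ M * ‖v‖)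
    {u w : E} (hu : ‖u‖ = 1) (hw : ‖w‖ = 1)
    (hFu : 0 ≤ F.inf' hF (fun f => f u)) (hFw : 0 ≤ F.inf' hF (fun f => f w))
    (hGu : G.inf' hG (fun g => g u) = M) (hGw : G.inf' hG (fun g => g w) = M) : u = w := by
  by_contra hne
  have hray : ¬ SameRay ℝ u w := by
    intro h
    exact hne ((sameRay_iff_of_norm_eq (hu.trans hw.symm)).mp h)
  have hlt : ‖u + w‖ < 2 := by
    have := norm_add_lt_of_not_sameRay hray
    rw [hu, hw] at this
    linarith
  have hF' : 0 ≤ F.inf' hF (fun f => f (u + w)) :=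
    le_trans (add_nonneg hFu hFw) (mn_add_le F hF u w)
  have h1 := hmax (u + w) hF'
  have h2 := mn_add_le G hG u w
  rw [hGu, hGw] at h2
  nlinarith

omit [FiniteDimensional ℝ E] in
open Topology in
/-- First-order optimality: the minimal-norm point of the polyhedron is orthogonal to the
directions preserved by the active constraints. -/
theorem inner_eq_zero_of_minimal (v : E) (hvF : ∀ f ∈ F, 0 ≤ f v) (hvG : ∀ g ∈ G, 1 ≤ g v)
    (hmin : ∀ w : E, (∀ f ∈ F, 0 ≤ f w) → (∀ g ∈ G, 1 ≤ g w) → ‖v‖ ≤ ‖w‖)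
    (k : E) (hkF : ∀ f ∈ F, f v = 0 → f k = 0) (hkG : ∀ g ∈ G, g v = 1 → g k = 0) :
    inner ℝ v k = 0 := by
  have hcont : ∀ f : Module.Dual ℝ E, ContinuousAt (fun t : ℝ => f (v + t • k)) 0 := by
    intro f
    simp only [map_add, map_smul, smul_eq_mul]
    fun_prop
  have h1 : ∀ᶠ t : ℝ in 𝓝 0, ∀ f ∈ F, 0 ≤ f (v + t • k) := by
    rw [Filter.eventually_all_finset]
    intro f hf
    by_cases h0 : f v = 0
    · refine Filter.Eventually.of_forall fun t => ?_
      simp [h0, hkF f hf h0]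
    · have hpos : 0 < f v := lt_of_le_of_ne (hvF f hf) (Ne.symm h0)
      have : ∀ᶠ t in 𝓝 (0:ℝ), 0 < f (v + t • k) :=
        (hcont f).eventually (lt_mem_nhds (by simpa using hpos))
      exact this.mono fun t ht => ht.le
  have h2 : ∀ᶠ t : ℝ in 𝓝 0, ∀ g ∈ G, 1 ≤ g (v + t • k) := by
    rw [Filter.eventually_all_finset]
    intro g hg
    by_cases h0 : g v = 1
    · refine Filter.Eventually.of_forall fun t => ?_
      simp [h0, hkG g hg h0]
    · have hpos : 1 < g v := lt_of_le_of_ne (hvG g hg) (Ne.symm h0)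
      have : ∀ᶠ t in 𝓝 (0:ℝ), 1 < g (v + t • k) :=
        (hcont g).eventually (lt_mem_nhds (by simpa using hpos))
      exact this.mono fun t ht => ht.le
  set c := inner ℝ v k with hc
  have hmin' : IsLocalMin (fun t : ℝ => 2 * c * t + ‖k‖ ^ 2 * t ^ 2) 0 := by
    filter_upwards [h1, h2] with t ht1 ht2
    have h3 : ‖v + t • k‖ ^ 2 = ‖v‖ ^ 2 + 2 * c * t + ‖k‖ ^ 2 * t ^ 2 := by
      rw [norm_add_sq_real, real_inner_smul_right, norm_smul, mul_pow, Real.norm_eq_abs, sq_abs]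
      ring
    have h4 : ‖v‖ ^ 2 ≤ ‖v + t • k‖ ^ 2 :=
      pow_le_pow_left₀ (norm_nonneg _) (hmin _ ht1 ht2) 2
    change 2 * c * 0 + ‖k‖ ^ 2 * (0:ℝ) ^ 2 ≤ 2 * c * t + ‖k‖ ^ 2 * t ^ 2
    nlinarith
  have hder : HasDerivAt (fun t : ℝ => 2 * c * t + ‖k‖ ^ 2 * t ^ 2) (2 * c) 0 := by
    have e1 : HasDerivAt (fun t : ℝ => 2 * c * t) (2 * c) 0 := by
      simpa using (hasDerivAt_id (0:ℝ)).const_mul (2 * c)
    have e2 : HasDerivAt (fun t : ℝ => ‖k‖ ^ 2 * t ^ 2) 0 0 := by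
      simpa using ((hasDerivAt_id (0:ℝ)).pow 2).const_mul (‖k‖ ^ 2)
    have e3 := e1.add e2
    rw [add_zero] at e3
    exact e3
  have := hmin'.hasDerivAt_eq_zero hder
  linarith

/-- The minimal-norm point of a rational polyhedron is a rational point of the lattice. -/
theorem exists_nsmul_mem_of_minimal (L : Submodule ℤ E) [DiscreteTopology L] [IsZLattice ℝ L]
    (hint : ∀ x ∈ L, ∀ y ∈ L, ∃ n : ℤ, inner ℝ x y = (n : ℝ))
    (hFi : ∀ f ∈ F, ∀ x ∈ L, ∃ n : ℤ, f x = (n : ℝ))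
    (hGi : ∀ g ∈ G, ∀ x ∈ L, ∃ n : ℤ, g x = (n : ℝ))
    (v : E) (hvF : ∀ f ∈ F, 0 ≤ f v) (hvG : ∀ g ∈ G, 1 ≤ g v)
    (hmin : ∀ w : E, (∀ f ∈ F, 0 ≤ f w) → (∀ g ∈ G, 1 ≤ g w) → ‖v‖ ≤ ‖w‖) :
    ∃ N : ℕ, N ≠ 0 ∧ (N : ℝ) • v ∈ L := by
  classical
  have : Module.Finite ℤ L := ZLattice.module_finite ℝ L
  have : Module.Free ℤ L := ZLattice.module_free ℝ L
  let b := Module.Free.chooseBasis ℤ L
  let e := b.ofZLatticeBasis ℝ L
  have he : ∀ i, e i ∈ L := fun i => by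
    rw [show e i = b i from b.ofZLatticeBasis_apply ℝ L i]; exact (b i).2
  let κ := ↥(F.filter (fun f => f v = 0)) ⊕ ↥(G.filter (fun g => g v = 1))
  let a : κ → Module.Dual ℝ E := Sum.elim (fun f => f.1) (fun g => g.1)
  let bb : κ → ℤ := Sum.elim (fun _ => 0) (fun _ => 1)
  refine exists_nsmul_mem e L he v
    (rational_repr e (fun i j => hint _ (he i) _ (he j)) a ?_ bb v ?_ ?_)
  · rintro (⟨f, hf⟩ | ⟨g, hg⟩) i
    · exact hFi f (Finset.mem_filter.mp hf).1 _ (he i)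
    · exact hGi g (Finset.mem_filter.mp hg).1 _ (he i)
  · rintro (⟨f, hf⟩ | ⟨g, hg⟩)
    · simpa [a, bb] using (Finset.mem_filter.mp hf).2
    · simpa [a, bb] using (Finset.mem_filter.mp hg).2
  · intro w hw
    refine inner_eq_zero_of_minimal F G v hvF hvG hmin w ?_ ?_
    · intro f hf h0
      exact hw (Sum.inl ⟨f, Finset.mem_filter.mpr ⟨hf, h0⟩⟩)
    · intro g hg h0
      exact hw (Sum.inr ⟨g, Finset.mem_filter.mpr ⟨hg, h0⟩⟩)

end opt

end Groth.Agent.Lib.Seat84.GITLattice
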