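import Groth.Agent.Lib.Seat84ConnRed
import Groth.Agent.Lib.Helper27PnSections

/-!
# Seat84: the ring of global functions of a proper reduced connected scheme over a field is a
finite field extension, and its degree divides the dimensions of all cohomology groups
-/

set_option autoImplicit false
set_option linter.style.haveILetI false
universe u

open CategoryTheory CategoryTheory.Limits AlgebraicGeometry TopologicalSpace Opposite

namespace Groth.Agent.Lib.Seat84.GammaField

section Algebra

variable {k B : Type*} [Field k] [CommRing B] [Algebra k B] [Nontrivial B]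

omit [Nontrivial B] in
/-- in a reduced algebra with only trivial idempotents over a field, an integral element is zero
or a unit. -/
theorem eq_zero_or_isUnit_of_isIntegral [IsReduced B]
    (hidem : ∀ e : B, IsIdempotentElem e → e = 0 ∨ e = 1) (a : B) (ha : IsIntegral k a) :
    a = 0 ∨ IsUnit a := by
  classical
  obtain ⟨p₀, hp₀, hp₀a⟩ := ha
  have hp₀a' : Polynomial.aeval a p₀ = 0 := hp₀a
  set p : Polynomial k := Polynomial.X * p₀ with hp
  have hpm : p.Monic := Polynomial.monic_X.mul hp₀
  have hp0 : p ≠ 0 := hpm.ne_zero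
  have hpa : Polynomial.aeval a p = 0 := by
    rw [hp, map_mul, hp₀a', mul_zero]
  obtain ⟨q, hq, hndvd⟩ := Polynomial.exists_eq_pow_rootMultiplicity_mul_and_not_dvd p hp0 0
  rw [Polynomial.C_0, sub_zero] at hq hndvd
  set m := p.rootMultiplicity 0 with hm
  have hm1 : m ≠ 0 := by
    intro h0
    rw [h0, pow_zero, one_mul] at hq
    exact hndvd (hq ▸ Dvd.intro _ rfl)
  have hcop : IsCoprime (Polynomial.X ^ m : Polynomial k) q :=
    ((Polynomial.irreducible_X.coprime_iff_not_dvd).2 hndvd).pow_left
  obtain ⟨u, v, huv⟩ := hcop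
  have h1 := congrArg (Polynomial.aeval a) huv
  rw [map_add, map_mul, map_mul, map_pow, Polynomial.aeval_X, map_one] at h1
  have h2 : a ^ m * Polynomial.aeval a q = 0 := by
    rw [← hpa, hq, map_mul, map_pow, Polynomial.aeval_X]
  generalize Polynomial.aeval a q = b at h1 h2
  generalize Polynomial.aeval a u = u' at h1
  generalize Polynomial.aeval a v = v' at h1
  have he : IsIdempotentElem (v' * b) := by
    have : v' * b * (v' * b) = v' * b * (u' * a ^ m + v' * b) - u' * v' * (a ^ m * b) := by ring
    rw [IsIdempotentElem, this, h1, h2, mul_one, mul_zero, sub_zero]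
  rcases hidem _ he with h0 | h1'
  · right
    rw [h0, add_zero] at h1
    have : IsUnit (a ^ m) := IsUnit.of_mul_eq_one _ (by rw [mul_comm]; exact h1)
    exact (isUnit_pow_iff hm1).1 this
  · left
    have h3 : a ^ m = 0 := by
      have : a ^ m = v' * (a ^ m * b) := by
        have h4 : v' * (a ^ m * b) = a ^ m * (v' * b) := by ring
        rw [h4, h1', mul_one]
      rw [this, h2, mul_zero]
    exact IsReduced.eq_zero _ ⟨m, h3⟩

end Algebra

section Sch

theorem finite_of_comp_injective {R S T : Type*} [CommRing R] [CommRing S] [CommRing T]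
    [IsNoetherianRing R] (f : R →+* S) (g : S →+* T) (hg : Function.Injective g)
    (h : (g.comp f).Finite) : f.Finite := by
  algebraize [f, g, g.comp f]
  have : IsNoetherian R T := isNoetherian_of_isNoetherianRing_of_finite R T
  exact Module.Finite.of_injective (IsScalarTower.toAlgHom R S T).toLinearMap hg

variable (k : Type u) [Field k] {X : Scheme.{u}} (p : X ⟶ Spec (CommRingCat.of k))

/-- the global functions of a reduced connected scheme universally closed over a field form a
field. -/
theorem isField_Γ [UniversallyClosed p] [IsReduced X] [ConnectedSpace X] : IsField Γ(X, ⊤) := by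
  let F := (Scheme.ΓSpecIso (CommRingCat.of k)).inv ≫ p.appTop
  have hF : F.hom.IsIntegral := by
    apply RingHom.isIntegral_respectsIso.2
      (e := (Scheme.ΓSpecIso (CommRingCat.of k)).symm.commRingCatIsoToRingEquiv)
    exact isIntegral_appTop_of_universallyClosed p
  algebraize [F.hom]
  have : Nontrivial Γ(X, ⊤) := by
    have hne : Nonempty X := inferInstance
    have : Nonempty (⊤ : X.Opens) := ⟨⟨hne.some, trivial⟩⟩
    exact Scheme.component_nontrivial X ⊤
  refine ⟨exists_pair_ne _, mul_comm, fun {a} ha => ?_⟩
  rcases eq_zero_or_isUnit_of_isIntegral (k := k)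
    (fun e he => Groth.Agent.Lib.Seat84.ConnRed.eq_zero_or_eq_one_of_isIdempotentElem e he) a
    (hF a) with h | h
  · exact absurd h ha
  · obtain ⟨b, hb⟩ := h.exists_right_inv
    exact ⟨b, hb⟩

/-- the global functions of a reduced connected scheme proper over a field are finite over the
field. -/
theorem finite_appTop [IsProper p] [IsReduced X] [ConnectedSpace X] : p.appTop.hom.Finite := by
  have hfield := isField_Γ k p
  have hcomp : CompactSpace X := (quasiCompact_iff_compactSpace p).1 inferInstance
  obtain ⟨x, -, hx⟩ := IsClosed.exists_closed_singleton (X := X) isClosed_univ Set.univ_nonempty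
  have := isClosed_singleton_iff_isClosedImmersion.mp hx
  have hg : (X.fromSpecResidueField x ≫ p).appTop.hom.Finite :=
    finite_appTop_of_universallyClosed k (X.fromSpecResidueField x ≫ p)
  rw [Scheme.Hom.comp_appTop, CommRingCat.hom_comp] at hg
  have hfR : IsField Γ(Spec (CommRingCat.of k), ⊤) :=
    (Scheme.ΓSpecIso (CommRingCat.of k)).commRingCatIsoToRingEquiv.toMulEquiv.isField
      (Field.toIsField k)
  let := hfR.toField
  let := hfield.toField
  have hnt : Nontrivial Γ(Spec (X.residueField x), ⊤) :=
    (Scheme.ΓSpecIso (X.residueField x)).commRingCatIsoToRingEquiv.nontrivial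
  exact finite_of_comp_injective _ _ (RingHom.injective _) hg

end Sch

section Dvd

/-- tower law divisibility, with the intermediate ring only known to be a field and the scalar
actions of `k` obtained by restriction along a ring map. -/
theorem finrank_dvd_finrank {k κ V : Type*} [Field k] [Ring κ] (hκ : IsField κ) (φ : k →+* κ)
    [AddCommGroup V] [Module κ V] :
    @Module.finrank k κ _ _ (Module.compHom κ φ) ∣ @Module.finrank k V _ _ (Module.compHom V φ) := by
  letI : Module k κ := Module.compHom κ φ
  letI : Module k V := Module.compHom V φ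
  haveI : IsScalarTower k κ V := ⟨fun c r x => by
    change (φ c * r) • x = φ c • (r • x)
    exact mul_smul _ _ _⟩
  let := hκ.toField
  exact Module.finrank_dvd_finrank_right k κ V

variable (k : Type u) [Field k] (X : Scheme.{u}) [X.Over (Spec (CommRingCat.of k))]

theorem finrank_dvd_finrank_HH (hκ : IsField (Coh.Γtop X)) (M : X.Modules) (n : ℕ) :
    @Module.finrank k (Coh.Γtop X) _ _
        (Module.compHom (Coh.Γtop X) (Coh.toGlobal (X ↘ Spec (CommRingCat.of k)))) ∣
      Module.finrank k (Coh.HH X M n) :=
  finrank_dvd_finrank hκ (Coh.toGlobal (X ↘ Spec (CommRingCat.of k)))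

theorem finrank_dvd_euler (hκ : IsField (Coh.Γtop X)) (M : X.Modules) :
    ((@Module.finrank k (Coh.Γtop X) _ _
        (Module.compHom (Coh.Γtop X) (Coh.toGlobal (X ↘ Spec (CommRingCat.of k)))) : ℕ) : ℤ) ∣
      Curv2.euler k X M := by
  unfold Curv2.euler
  refine finsum_induction (fun z : ℤ => ((@Module.finrank k (Coh.Γtop X) _ _
        (Module.compHom (Coh.Γtop X) (Coh.toGlobal (X ↘ Spec (CommRingCat.of k)))) : ℕ) : ℤ) ∣ z)
    (dvd_zero _) (fun x y hx hy => dvd_add hx hy) (fun i => ?_)
  exact Dvd.dvd.mul_left (Int.natCast_dvd_natCast.2 (finrank_dvd_finrank_HH k X hκ M i)) _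

theorem finrank_dvd_deg (hκ : IsField (Coh.Γtop X)) (E : X.Modules) (n : ℕ) :
    ((@Module.finrank k (Coh.Γtop X) _ _
        (Module.compHom (Coh.Γtop X) (Coh.toGlobal (X ↘ Spec (CommRingCat.of k)))) : ℕ) : ℤ) ∣
      Curv2.deg k X E n := by
  unfold Curv2.deg
  exact dvd_sub (finrank_dvd_euler k X hκ E)
    (Dvd.dvd.mul_left (finrank_dvd_euler k X hκ (Coh.structureModule X)) _)

end Dvd

end Groth.Agent.Lib.Seat84.GammaField
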