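import Groth.Agent.Lib.Seat84ConnRed
import Groth.Agent.Lib.Helper27PnSections

/-!
# Seat84: global functions of a proper geometrically reduced and geometrically connected scheme
over a field are the constants
-/

set_option autoImplicit false
set_option linter.style.haveILetI false
universe u

open CategoryTheory CategoryTheory.Limits AlgebraicGeometry TopologicalSpace Opposite

namespace Groth.Agent.Lib.Seat84.GeomH0

/-- in a pushout square of commutative rings `R → S`, `R → T`, with `R` a field and `T ≠ 0`, if
`T → P` is surjective then so is `R → S`. -/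
theorem surjective_of_isPushout {R S T P : CommRingCat.{u}} {f : R ⟶ S} {g : R ⟶ T}
    {inl : S ⟶ P} {inr : T ⟶ P} (h : IsPushout f g inl inr) (hR : IsField R) [Nontrivial T]
    (hsurj : Function.Surjective inr.hom) : Function.Surjective f.hom := by
  algebraize [f.hom, g.hom, inl.hom, inr.hom, inl.hom.comp f.hom]
  have : IsScalarTower R T P := .of_algebraMap_eq' <| congr($(h.1.1).hom)
  have hp : Algebra.IsPushout R S T P := CommRingCat.isPushout_iff_isPushout.mp h
  let := hR.toField
  have hff : Module.FaithfullyFlat R T := inferInstance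
  exact RingHom.FaithfullyFlat.codescendsAlong_surjective (R := R) (S := S) (R' := T) (S' := P)
    ((RingHom.faithfullyFlat_algebraMap_iff).2 hff) hsurj

/-- for `X` proper, geometrically reduced and geometrically connected over a field `k`, the map
`k → Γ(X, O_X)` is surjective. -/
theorem appTop_surjective_of_geometrically (k : Type u) [Field k] {X : Scheme.{u}}
    (p : X ⟶ Spec (CommRingCat.of k)) [IsProper p] [GeometricallyReduced p]
    [GeometricallyConnected p] : Function.Surjective p.appTop.hom := by
  let K := AlgebraicClosure k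
  let y : Spec (CommRingCat.of K) ⟶ Spec (CommRingCat.of k) :=
    Spec.map (CommRingCat.ofHom (algebraMap k K))
  have hpb : IsPullback (pullback.fst p y) (pullback.snd p y) p y := .of_hasPullback _ _
  have hred : IsReduced (pullback p y) :=
    GeometricallyReduced.geometrically_isReduced y _ _ hpb
  have hconn : ConnectedSpace ↥(pullback p y) :=
    GeometricallyConnected.geometrically_connectedSpace y _ _ hpb
  have hsurj := Groth.Agent.Lib.Seat84.ConnRed.appTop_surjective_of_connected_reduced K
    (pullback.snd p y)
  have hflat : Flat y := by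
    rw [AlgebraicGeometry.Flat.SpecMap_iff]
    rw [CommRingCat.hom_ofHom, RingHom.flat_algebraMap_iff]
    infer_instance
  have hcomp : CompactSpace X := (quasiCompact_iff_compactSpace p).1 inferInstance
  have hqs : QuasiSeparatedSpace X := (quasiSeparated_iff_quasiSeparatedSpace p).1 inferInstance
  have hiso := isIso_pushoutSection_of_isQuasiSeparated_of_flat_right hpb
    (US := ⊤) (UT := ⊤) (UX := ⊤) (UY := ⊤) le_top le_top (by simp)
    (isAffineOpen_top _) (isAffineOpen_top _) CompactSpace.isCompact_univ
    (isQuasiSeparated_univ_iff.2 hqs)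
  have hpo := (isIso_pushoutSection_iff hpb (US := ⊤) (UT := ⊤) (UX := ⊤) (UY := ⊤)
    le_top le_top (by simp)).1 hiso
  have hfield : IsField Γ(Spec (CommRingCat.of k), ⊤) :=
    (Scheme.ΓSpecIso (CommRingCat.of k)).commRingCatIsoToRingEquiv.toMulEquiv.isField
      (Field.toIsField k)
  have hnt : Nontrivial Γ(Spec (CommRingCat.of K), ⊤) :=
    (Scheme.ΓSpecIso (CommRingCat.of K)).commRingCatIsoToRingEquiv.nontrivial
  have hd : ((pullback.snd p y).appLE ⊤ ⊤ (by simp)) = (pullback.snd p y).appTop := by
    exact (pullback.snd p y).appLE_eq_app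
  have hsurj' : Function.Surjective ((pullback.snd p y).appLE ⊤ ⊤ (by simp)).hom := by
    rw [hd]; exact hsurj
  have key : Function.Surjective (p.appLE ⊤ ⊤ le_top).hom :=
    surjective_of_isPushout hpo hfield hsurj'
  have ha : p.appLE ⊤ ⊤ le_top = p.appTop := p.appLE_eq_app
  rw [← ha]
  exact key

open Groth.Agent.Lib.Helper27PnSections in
/-- **`H⁰(X, O_X)` is one-dimensional** for `X` proper, geometrically reduced and geometrically
connected over a field. -/
theorem finrank_HH_zero_eq_one (k : Type u) [Field k] (X : Scheme.{u})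
    [X.Over (Spec (CommRingCat.of k))] [IsProper (X ↘ Spec (CommRingCat.of k))]
    [GeometricallyReduced (X ↘ Spec (CommRingCat.of k))]
    [GeometricallyConnected (X ↘ Spec (CommRingCat.of k))] :
    Module.finrank k (Coh.HH X (Coh.structureModule X) 0) = 1 := by
  have hsurj := appTop_surjective_of_geometrically k (X ↘ Spec (CommRingCat.of k))
  have hne : Nonempty X := by
    obtain ⟨x, -⟩ := (X ↘ Spec (CommRingCat.of k)).surjective
      (Nonempty.some (inferInstance : Nonempty (Spec (CommRingCat.of k))))
    exact ⟨x⟩
  have hnt : Nontrivial (Coh.Γtop X) := by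
    have : Nonempty (⊤ : X.Opens) := ⟨⟨hne.some, trivial⟩⟩
    exact Scheme.component_nontrivial X ⊤
  have htg : Function.Bijective (Coh.toGlobal (X ↘ Spec (CommRingCat.of k))) := by
    refine ⟨RingHom.injective _, ?_⟩
    intro a
    obtain ⟨b, hb⟩ := hsurj a
    refine ⟨(Scheme.ΓSpecIso (CommRingCat.of k)).hom.hom b, ?_⟩
    have hb' : (Scheme.ΓSpecIso (CommRingCat.of k)).inv.hom
        ((Scheme.ΓSpecIso (CommRingCat.of k)).hom.hom b) = b := by
      rw [← CommRingCat.comp_apply, Iso.hom_inv_id, CommRingCat.id_apply]
    exact (congrArg (X ↘ Spec (CommRingCat.of k)).appTop.hom hb').trans hb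
  let e0 := hh0Equiv X (Coh.structureModule X)
  let x₀ : Coh.HH X (Coh.structureModule X) 0 := e0.symm (1 : Coh.Γtop X)
  let φ : k →ₗ[k] Coh.HH X (Coh.structureModule X) 0 := LinearMap.toSpanSingleton k _ x₀
  have hφe : ∀ c : k, e0 (φ c) = Coh.toGlobal (X ↘ Spec (CommRingCat.of k)) c := by
    intro c
    have h1 : φ c = (Coh.toGlobal (X ↘ Spec (CommRingCat.of k)) c) • x₀ := rfl
    rw [h1, hh0Equiv_smul, Coh.smulAb_app, resTop_top]
    have h2 : e0 x₀ = (1 : Coh.Γtop X) := e0.apply_symm_apply _
    rw [h2]
    exact mul_one (M := Γ(X, ⊤)) _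
  have hφ : Function.Bijective φ := by
    have h3 : (e0 : _ → _) ∘ φ = Coh.toGlobal (X ↘ Spec (CommRingCat.of k)) := funext hφe
    have h4 : Function.Bijective ((e0 : _ → _) ∘ φ) := h3 ▸ htg
    exact (Function.Bijective.of_comp_iff' e0.bijective φ).1 h4
  rw [← (LinearEquiv.ofBijective φ hφ).finrank_eq, Module.finrank_self]

end Groth.Agent.Lib.Seat84.GeomH0
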