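import Mathlib
import Groth.Prelude.Def_K0Var

/-!
# Seat84: class of a Zariski locally trivial fibration in the Grothendieck ring of varieties
-/

set_option autoImplicit false

universe u

namespace Groth.Agent.Lib.Seat84.K0Fib

open CategoryTheory CategoryTheory.Limits AlgebraicGeometry

variable {S : Scheme.{u}}

/-- `f : X ⟶ Y` is trivial with fibre `F` over the open `U` of `Y`. -/
def TrivOver {X Y F : Scheme.{u}} (pY : Y ⟶ S) (pF : F ⟶ S) (f : X ⟶ Y) (U : Y.Opens) : Prop :=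
  ∃ g : (f ⁻¹ᵁ U).toScheme ⟶ F, IsPullback (f ∣_ U) g (U.ι ≫ pY) pF

theorem trivOver_of_iso {X Y F : Scheme.{u}} (pY : Y ⟶ S) (pF : F ⟶ S) (f : X ⟶ Y) (U : Y.Opens)
    (e : (f ⁻¹ᵁ U).toScheme ≅ pullback (U.ι ≫ pY) pF)
    (he : e.hom ≫ pullback.fst (U.ι ≫ pY) pF = f ∣_ U) : TrivOver pY pF f U := by
  refine ⟨e.hom ≫ pullback.snd (U.ι ≫ pY) pF, ?_⟩
  refine IsPullback.of_iso_pullback ⟨?_⟩ e he rfl
  rw [← he, Category.assoc, Category.assoc, pullback.condition]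

theorem cl_eq_of_eq {X : Scheme.{u}} {f g : X ⟶ S} [LocallyOfFiniteType f] [QuasiCompact f]
    [LocallyOfFiniteType g] [QuasiCompact g] (h : f = g) : K0Var.cl f = K0Var.cl g := by
  subst h; rfl

/-- Base change of a trivialization. -/
theorem TrivOver.baseChange {X Y Y' F : Scheme.{u}} {pY : Y ⟶ S} {pF : F ⟶ S} {f : X ⟶ Y}
    {U : Y.Opens} (ht : TrivOver pY pF f U) (h : Y' ⟶ Y) :
    TrivOver (h ≫ pY) pF (pullback.snd f h) (h ⁻¹ᵁ U) := by
  obtain ⟨g, hg⟩ := ht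
  set f' := pullback.snd f h with hf'
  set W := h ⁻¹ᵁ U with hW
  have h1 : IsPullback (f' ⁻¹ᵁ W).ι (f' ∣_ W) f' W.ι := (isPullback_morphismRestrict f' W).flip
  have h2 : IsPullback (pullback.fst f h) f' f h := IsPullback.of_hasPullback f h
  have big : IsPullback ((f' ⁻¹ᵁ W).ι ≫ pullback.fst f h) (f' ∣_ W) f (W.ι ≫ h) :=
    h1.paste_horiz h2
  rw [← morphismRestrict_ι] at big
  have h3 : IsPullback (f ⁻¹ᵁ U).ι (f ∣_ U) f U.ι := (isPullback_morphismRestrict f U).flip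
  have left := IsPullback.of_right' big h3
  have all := left.paste_horiz hg.flip
  have all' := all.flip
  rw [morphismRestrict_ι_assoc] at all'
  exact ⟨_, all'⟩

/-- The class of a trivial piece. -/
theorem TrivOver.cl_eq {X Y F : Scheme.{u}} {pY : Y ⟶ S} {pF : F ⟶ S} {f : X ⟶ Y}
    {U : Y.Opens} (ht : TrivOver pY pF f U)
    [LocallyOfFiniteType pY] [LocallyOfFiniteType pF] [QuasiCompact pF]
    [LocallyOfFiniteType f] [QuasiCompact U.ι] [QuasiCompact pY]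
    [LocallyOfFiniteType ((f ⁻¹ᵁ U).ι ≫ f ≫ pY)] [QuasiCompact ((f ⁻¹ᵁ U).ι ≫ f ≫ pY)] :
    K0Var.cl ((f ⁻¹ᵁ U).ι ≫ f ≫ pY) = K0Var.cl (U.ι ≫ pY) * K0Var.cl pF := by
  obtain ⟨g, hg⟩ := ht
  rw [← K0Var.cl_mul (U.ι ≫ pY) pF]
  refine K0Var.cl_congr _ _ hg.isoPullback ?_
  rw [← Category.assoc, hg.isoPullback_hom_fst, ← Category.assoc, morphismRestrict_ι,
    Category.assoc]

/-- The key induction: a fibration which is trivial over each member of a finite open cover. -/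
theorem cl_of_cover [IsLocallyNoetherian S] {F : Scheme.{u}} (pF : F ⟶ S)
    [LocallyOfFiniteType pF] [QuasiCompact pF] :
    ∀ (n : ℕ) {X Y : Scheme.{u}} (pY : Y ⟶ S) [LocallyOfFiniteType pY] [QuasiCompact pY]
      (f : X ⟶ Y) [LocallyOfFiniteType f] [QuasiCompact f] (U : Fin n → Y.Opens)
      (_ : ∀ y : Y, ∃ i, y ∈ U i) (_ : ∀ i, TrivOver pY pF f (U i)),
      K0Var.cl (f ≫ pY) = K0Var.cl pY * K0Var.cl pF := by
  intro n
  induction n with
  | zero =>
    intro X Y pY _ _ f _ _ U hcov _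
    have hY : IsEmpty Y := ⟨fun y => (hcov y).elim fun i _ => i.elim0⟩
    have hX : IsEmpty X := ⟨fun x => hY.false (f x)⟩
    have h1 : K0Var.cl (f ≫ pY) = 0 := by
      have : IsEmpty (K0Var.Gen.mk X (f ≫ pY)).X := hX
      exact K0Var.Gen.cl_eq_zero_of_isEmpty _
    have h2 : K0Var.cl pY = 0 := by
      have : IsEmpty (K0Var.Gen.mk Y pY).X := hY
      exact K0Var.Gen.cl_eq_zero_of_isEmpty _
    rw [h1, h2, zero_mul]
  | succ n ih =>
    intro X Y pY _ _ f _ _ U hcov htriv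
    have : IsLocallyNoetherian Y := LocallyOfFiniteType.isLocallyNoetherian pY
    have : IsLocallyNoetherian X := LocallyOfFiniteType.isLocallyNoetherian f
    set U₀ := U 0 with hU₀
    let Zc : TopologicalSpace.Closeds Y := ⟨(U₀ : Set Y)ᶜ, U₀.isOpen.isClosed_compl⟩
    let I := Scheme.IdealSheafData.vanishingIdeal Zc
    let i : I.subscheme ⟶ Y := I.subschemeι
    have hri : Set.range i = (U₀ : Set Y)ᶜ := by
      rw [Scheme.IdealSheafData.range_subschemeι]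
      rfl
    -- scissor on `Y`
    have hY : K0Var.cl pY = K0Var.cl (i ≫ pY) + K0Var.cl (U₀.ι ≫ pY) :=
      K0Var.cl_scissor pY i U₀.ι (by rw [hri, Scheme.Opens.range_ι])
    -- scissor on `X`
    have hX : K0Var.cl (f ≫ pY) =
        K0Var.cl (pullback.fst f i ≫ f ≫ pY) + K0Var.cl ((f ⁻¹ᵁ U₀).ι ≫ f ≫ pY) :=
      K0Var.cl_scissor (f ≫ pY) (pullback.fst f i) (f ⁻¹ᵁ U₀).ι (by
        rw [Scheme.Pullback.range_fst, hri, Scheme.Opens.range_ι]
        rfl)
    -- the closed part, by induction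
    have hZ : K0Var.cl (pullback.snd f i ≫ i ≫ pY) = K0Var.cl (i ≫ pY) * K0Var.cl pF := by
      refine ih (i ≫ pY) (pullback.snd f i) (fun k => i ⁻¹ᵁ U k.succ) ?_ ?_
      · intro z
        obtain ⟨k, hk⟩ := hcov (i z)
        have hz : i z ∈ (U₀ : Set Y)ᶜ := hri ▸ Set.mem_range_self z
        rcases Fin.eq_zero_or_eq_succ k with rfl | ⟨k', rfl⟩
        · exact absurd hk hz
        · exact ⟨k', hk⟩
      · intro k
        exact (htriv k.succ).baseChange i
    have hZ' : K0Var.cl (pullback.fst f i ≫ f ≫ pY) = K0Var.cl (pullback.snd f i ≫ i ≫ pY) :=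
      cl_eq_of_eq (by rw [← Category.assoc, pullback.condition, Category.assoc])
    have hU : K0Var.cl ((f ⁻¹ᵁ U₀).ι ≫ f ≫ pY) = K0Var.cl (U₀.ι ≫ pY) * K0Var.cl pF :=
      (htriv 0).cl_eq
    rw [hX, hZ', hZ, hU, hY, add_mul]

end Groth.Agent.Lib.Seat84.K0Fib
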