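import Groth.Agent.Lib.Seat84OpenRes

/-!
# Seat84: the Mayer–Vietoris short exact sequence `0 → E → R₀E ⊞ R₁E → R₀₁E → 0`
of `O_X`-modules for a cover of `X` by two opens
-/

set_option autoImplicit false
set_option linter.style.haveILetI false
universe u

open CategoryTheory CategoryTheory.Limits AlgebraicGeometry TopologicalSpace Opposite

namespace Groth.Agent.Lib.Seat84.MVSeq

open DefoSh Groth.Agent.Lib.Seat84.DefoExact Groth.Agent.Lib.Seat84.OpenRes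

variable {X : Scheme.{u}}

section StalkBiprod

variable {A B : X.Modules} (x : X)

theorem stalk_neg {A B : X.Modules} (φ : A ⟶ B) (v : A.presheaf.stalk x) :
    RefHull.stalkMapₗ (-φ) x v = -RefHull.stalkMapₗ φ x v := by
  have h := stalkMapₗ_add_apply x φ (-φ) v
  rw [add_neg_cancel, stalkMapₗ_zero_apply] at h
  exact (neg_eq_of_add_eq_zero_right h.symm).symm

theorem stalk_total (v : (A ⊞ B).presheaf.stalk x) :
    v = RefHull.stalkMapₗ (biprod.inl : A ⟶ A ⊞ B) x (RefHull.stalkMapₗ biprod.fst x v) +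
      RefHull.stalkMapₗ (biprod.inr : B ⟶ A ⊞ B) x (RefHull.stalkMapₗ biprod.snd x v) := by
  have h := stalkMapₗ_id_apply x v
  rw [← biprod.total, stalkMapₗ_add_apply, stalkMapₗ_comp_apply, stalkMapₗ_comp_apply] at h
  exact h.symm

theorem stalk_ext (v v' : (A ⊞ B).presheaf.stalk x)
    (h1 : RefHull.stalkMapₗ (biprod.fst : A ⊞ B ⟶ A) x v = RefHull.stalkMapₗ biprod.fst x v')
    (h2 : RefHull.stalkMapₗ (biprod.snd : A ⊞ B ⟶ B) x v = RefHull.stalkMapₗ biprod.snd x v') :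
    v = v' := by
  rw [stalk_total x v, stalk_total x v', h1, h2]

end StalkBiprod

variable (U0 U1 : X.Opens) (E : X.Modules)

/-- the middle term `R₀E ⊞ R₁E`. -/
noncomputable abbrev P : X.Modules := (R U0).obj E ⊞ (R U1).obj E

/-- the right term `R₀₁E`. -/
noncomputable abbrev Q : X.Modules := (R (U0 ⊓ U1)).obj E

/-- `E ⟶ R₀E ⊞ R₁E`. -/
noncomputable def f : E ⟶ P U0 U1 E := biprod.lift (ηa U0 E) (ηa U1 E)

/-- `R₀E ⊞ R₁E ⟶ R₀₁E`, the difference of the restrictions. -/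
noncomputable def g : P U0 U1 E ⟶ Q U0 U1 E :=
  biprod.desc (ρ (inf_le_left : U0 ⊓ U1 ≤ U0) E) (-ρ (inf_le_right : U0 ⊓ U1 ≤ U1) E)

theorem f_fst : f U0 U1 E ≫ biprod.fst = ηa U0 E := biprod.lift_fst _ _
theorem f_snd : f U0 U1 E ≫ biprod.snd = ηa U1 E := biprod.lift_snd _ _
theorem inl_g : biprod.inl ≫ g U0 U1 E = ρ (inf_le_left : U0 ⊓ U1 ≤ U0) E := biprod.inl_desc _ _
theorem inr_g : biprod.inr ≫ g U0 U1 E = -ρ (inf_le_right : U0 ⊓ U1 ≤ U1) E :=
  biprod.inr_desc _ _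

theorem w : f U0 U1 E ≫ g U0 U1 E = 0 := by
  rw [f, g, biprod.lift_desc, Preadditive.comp_neg, η_ρ, η_ρ, add_neg_cancel]

theorem g_stalk (x : X) (v : (P U0 U1 E).presheaf.stalk x) :
    RefHull.stalkMapₗ (g U0 U1 E) x v =
      RefHull.stalkMapₗ (ρ (inf_le_left : U0 ⊓ U1 ≤ U0) E) x (RefHull.stalkMapₗ biprod.fst x v) -
        RefHull.stalkMapₗ (ρ (inf_le_right : U0 ⊓ U1 ≤ U1) E) x
          (RefHull.stalkMapₗ biprod.snd x v) := by
  have h1 : ∀ a, RefHull.stalkMapₗ (g U0 U1 E) x (RefHull.stalkMapₗ biprod.inl x a) =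
      RefHull.stalkMapₗ (ρ (inf_le_left : U0 ⊓ U1 ≤ U0) E) x a := fun a => by
    rw [← stalkMapₗ_comp_apply, inl_g]
  have h2 : ∀ b, RefHull.stalkMapₗ (g U0 U1 E) x (RefHull.stalkMapₗ biprod.inr x b) =
      -RefHull.stalkMapₗ (ρ (inf_le_right : U0 ⊓ U1 ≤ U1) E) x b := fun b => by
    rw [← stalkMapₗ_comp_apply, inr_g, stalk_neg]
  conv_lhs => rw [stalk_total x v]
  rw [map_add, h1, h2, sub_eq_add_neg]

theorem f_stalk_fst (x : X) (n : E.presheaf.stalk x) :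
    RefHull.stalkMapₗ biprod.fst x (RefHull.stalkMapₗ (f U0 U1 E) x n) =
      RefHull.stalkMapₗ (ηa U0 E) x n := by
  rw [← stalkMapₗ_comp_apply, f_fst]

theorem f_stalk_snd (x : X) (n : E.presheaf.stalk x) :
    RefHull.stalkMapₗ biprod.snd x (RefHull.stalkMapₗ (f U0 U1 E) x n) =
      RefHull.stalkMapₗ (ηa U1 E) x n := by
  rw [← stalkMapₗ_comp_apply, f_snd]

theorem ρ_η_stalk {W W' : X.Opens} (h : W' ≤ W) (x : X) (n : E.presheaf.stalk x) :
    RefHull.stalkMapₗ (ρ h E) x (RefHull.stalkMapₗ (ηa W E) x n) =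
      RefHull.stalkMapₗ (ηa W' E) x n := by
  rw [← stalkMapₗ_comp_apply, η_ρ]

variable (hcov : U0 ⊔ U1 = ⊤)
include hcov

theorem mem_or (x : X) : x ∈ U0 ∨ x ∈ U1 := by
  have h : x ∈ U0 ⊔ U1 := by rw [hcov]; trivial
  exact h

theorem f_stalk_injective (x : X) : Function.Injective (RefHull.stalkMapₗ (f U0 U1 E) x) := by
  intro n n' hn
  rcases mem_or U0 U1 hcov x with hx | hx
  · apply (η_stalk_bijective U0 E x hx).1
    rw [← f_stalk_fst U0 U1 E, ← f_stalk_fst U0 U1 E, hn]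
  · apply (η_stalk_bijective U1 E x hx).1
    rw [← f_stalk_snd U0 U1 E, ← f_stalk_snd U0 U1 E, hn]

theorem exact_stalk (x : X) (v : (P U0 U1 E).presheaf.stalk x)
    (hv : RefHull.stalkMapₗ (g U0 U1 E) x v = 0) :
    ∃ n, RefHull.stalkMapₗ (f U0 U1 E) x n = v := by
  rw [g_stalk, sub_eq_zero] at hv
  rcases mem_or U0 U1 hcov x with hx | hx
  · refine ⟨τ U0 E x hx (RefHull.stalkMapₗ biprod.fst x v), stalk_ext x _ _ ?_ ?_⟩
    · rw [f_stalk_fst, η_τ]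
    · rw [f_stalk_snd]
      apply (ρ_stalk_bijective (inf_le_right : U0 ⊓ U1 ≤ U1) E U0
        (le_of_eq (inf_comm U1 U0)) x hx).1
      rw [ρ_η_stalk, ← hv, ← ρ_η_stalk E (inf_le_left : U0 ⊓ U1 ≤ U0), η_τ]
  · refine ⟨τ U1 E x hx (RefHull.stalkMapₗ biprod.snd x v), stalk_ext x _ _ ?_ ?_⟩
    · rw [f_stalk_fst]
      apply (ρ_stalk_bijective (inf_le_left : U0 ⊓ U1 ≤ U0) E U1 le_rfl x hx).1
      rw [ρ_η_stalk, hv, ← ρ_η_stalk E (inf_le_right : U0 ⊓ U1 ≤ U1), η_τ]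
    · rw [f_stalk_snd, η_τ]

theorem g_stalk_surjective (x : X) : Function.Surjective (RefHull.stalkMapₗ (g U0 U1 E) x) := by
  intro q
  rcases mem_or U0 U1 hcov x with hx | hx
  · obtain ⟨b, hb⟩ := (ρ_stalk_bijective (inf_le_right : U0 ⊓ U1 ≤ U1) E U0
      (le_of_eq (inf_comm U1 U0)) x hx).2 q
    refine ⟨RefHull.stalkMapₗ biprod.inr x (-b), ?_⟩
    rw [← stalkMapₗ_comp_apply, inr_g, stalk_neg, map_neg, neg_neg, hb]
  · obtain ⟨a, ha⟩ := (ρ_stalk_bijective (inf_le_left : U0 ⊓ U1 ≤ U0) E U1 le_rfl x hx).2 q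
    refine ⟨RefHull.stalkMapₗ biprod.inl x a, ?_⟩
    rw [← stalkMapₗ_comp_apply, inl_g, ha]

theorem shortExact : (ShortComplex.mk (f U0 U1 E) (g U0 U1 E) (w U0 U1 E)).ShortExact := by
  haveI : Mono (f U0 U1 E) :=
    mono_of_stalkMapₗ_injective _ (f_stalk_injective U0 U1 E hcov)
  haveI : Epi (g U0 U1 E) :=
    epi_of_stalkMapₗ_surjective _ (g_stalk_surjective U0 U1 E hcov)
  have hlim : IsLimit (KernelFork.ofι (f U0 U1 E) (w U0 U1 E)) :=
    KernelFork.IsLimit.ofι' (f U0 U1 E) (w U0 U1 E) (fun {A} t ht =>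
      ⟨(exists_lift_of_stalk (f U0 U1 E) (g U0 U1 E) (w U0 U1 E)
          (f_stalk_injective U0 U1 E hcov) (exact_stalk U0 U1 E hcov) t ht).choose,
        (exists_lift_of_stalk (f U0 U1 E) (g U0 U1 E) (w U0 U1 E)
          (f_stalk_injective U0 U1 E hcov) (exact_stalk U0 U1 E hcov) t ht).choose_spec⟩)
  exact ShortComplex.ShortExact.mk' (ShortComplex.exact_of_f_is_kernel _ hlim)
    (show Mono (f U0 U1 E) from inferInstance) (show Epi (g U0 U1 E) from inferInstance)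

end Groth.Agent.Lib.Seat84.MVSeq
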