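import Mathlib
import Groth.Prelude.Def_ModSt
import Groth.Prelude.Def_FibCat2
import Groth.Agent.Lib.Helper18Strict6
import Groth.Agent.Lib.Helper2PullbackSec3

/-!
# Seat84: the categories of modules over `(Sch/S)` are fibred in groupoids
-/

set_option autoImplicit false
universe u

open CategoryTheory CategoryTheory.Limits AlgebraicGeometry Opposite

namespace Groth.Agent.Lib.Seat84.ModStFib

open ModSt

section Cart

variable {Y Z W : Scheme.{u}}

/-- Two-out-of-three for cartesian comparison maps. -/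
theorem IsCart.of_comp {h₁ : Y ⟶ Z} {h₂ : Z ⟶ W} {P : W.Modules} {N : Z.Modules} {M : Y.Modules}
    {c₁ : N ⟶ (Scheme.Modules.pushforward h₁).obj M} {c₂ : P ⟶ (Scheme.Modules.pushforward h₂).obj N}
    (hc₂ : IsCart h₂ c₂)
    (hcomp : IsCart (h₁ ≫ h₂) (c₂ ≫ (Scheme.Modules.pushforward h₂).map c₁ ≫
      (Scheme.Modules.pushforwardComp h₁ h₂).hom.app M)) :
    IsCart h₁ c₁ := by
  intro M'
  have heq : (fun v : M ⟶ M' => (c₂ ≫ (Scheme.Modules.pushforward h₂).map c₁ ≫
      (Scheme.Modules.pushforwardComp h₁ h₂).hom.app M) ≫ (Scheme.Modules.pushforward (h₁ ≫ h₂)).map v) =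
      (((Scheme.Modules.pushforwardComp h₁ h₂).app M').homToEquiv ∘
        (fun w : N ⟶ (Scheme.Modules.pushforward h₁).obj M' => c₂ ≫ (Scheme.Modules.pushforward h₂).map w)) ∘
        (fun v : M ⟶ M' => c₁ ≫ (Scheme.Modules.pushforward h₁).map v) := by
    funext v
    simp only [Function.comp_apply, Iso.homToEquiv_apply, Iso.app_hom, Category.assoc, Functor.map_comp]
    rw [← (Scheme.Modules.pushforwardComp h₁ h₂).hom.naturality v]
    rfl
  have hb := hcomp M'
  rw [heq] at hb
  exact (Function.Bijective.of_comp_iff' ((Equiv.bijective _).comp (hc₂ _)) _).mp hb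

theorem pushforwardCongr_rfl_app (h : Y ⟶ Z) (M : Y.Modules) :
    (Scheme.Modules.pushforwardCongr (rfl : h = h)).hom.app M = 𝟙 _ := by
  refine Scheme.Modules.hom_ext _ _ fun U => ?_
  rw [Scheme.Modules.pushforwardCongr_hom_app_app]
  simp

end Cart

section Lift

variable {X S : Scheme.{u}} {f : X ⟶ S}

theorem heq_map_eqToHom {Y : Scheme.{u}} (M : Y.Modules) {V V' : Y.Opens} (h : V' = V)
    (y : Γ(M, V)) : HEq (M.presheaf.map (eqToHom h).op y) y := by
  subst h
  simp

theorem pushforwardCongr_inv_eq {Y Z : Scheme.{u}} {h h' : Y ⟶ Z} (e : h = h') (M : Y.Modules) :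
    (Scheme.Modules.pushforwardCongr e).inv.app M =
      (Scheme.Modules.pushforwardCongr e.symm).hom.app M := by
  subst e
  rfl

/-- Transport of the comparison map along an equality of morphisms. -/
theorem congr_c {A B : Obj f} {ψ₁ ψ₂ : A ⟶ B} (e : ψ₁ = ψ₂) :
    ψ₁.c ≫ (Scheme.Modules.pushforwardCongr (congrArg Obj.Hom.top e)).hom.app A.E = ψ₂.c := by
  subst e
  rw [pushforwardCongr_rfl_app, Category.comp_id]

/-- Every morphism of `ModSt.Obj f` is strongly cartesian: the unique lifting. -/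
theorem existsUnique_lift {A' A B : Obj f} (φ : A ⟶ B) (g : A'.base ⟶ A.base) (φ' : A' ⟶ B)
    (hφ' : φ'.base = g ≫ φ.base) : ∃! χ : A' ⟶ A, χ.base = g ∧ χ ≫ φ = φ' := by
  have hpb := φ.isPullback_top
  have hcomm : φ'.top ≫ B.q = (A'.q ≫ g.left) ≫ φ.base.left := by
    rw [φ'.w_q, hφ']; simp
  obtain ⟨t, ht1, ht2⟩ : ∃ t : A'.XT ⟶ A.XT, t ≫ φ.top = φ'.top ∧ t ≫ A.q = A'.q ≫ g.left :=
    ⟨hpb.lift φ'.top (A'.q ≫ g.left) hcomm, hpb.lift_fst _ _ _, hpb.lift_snd _ _ _⟩
  have hwp : t ≫ A.p = A'.p := by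
    rw [← φ.w_p, ← Category.assoc, ht1, φ'.w_p]
  obtain ⟨c, hc⟩ := (φ.cart ((Scheme.Modules.pushforward t).obj A'.E)).2
    (φ'.c ≫ (Scheme.Modules.pushforwardCongr ht1.symm).hom.app A'.E ≫
      (Scheme.Modules.pushforwardComp t φ.top).inv.app A'.E)
  replace hc : φ.c ≫ (Scheme.Modules.pushforward φ.top).map c =
      φ'.c ≫ (Scheme.Modules.pushforwardCongr ht1.symm).hom.app A'.E ≫
        (Scheme.Modules.pushforwardComp t φ.top).inv.app A'.E := hc
  have hc' : φ.c ≫ (Scheme.Modules.pushforward φ.top).map c ≫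
      (Scheme.Modules.pushforwardComp t φ.top).hom.app A'.E =
      φ'.c ≫ (Scheme.Modules.pushforwardCongr ht1.symm).hom.app A'.E := by
    have := congrArg (fun z => z ≫ (Scheme.Modules.pushforwardComp t φ.top).hom.app A'.E) hc
    simpa using this
  have hcart : IsCart t c := by
    apply IsCart.of_comp φ.cart
    rw [hc']
    exact φ'.cart.congr ht1.symm
  refine ⟨⟨g, t, hwp, ht2, c, hcart⟩, ⟨rfl, ?_⟩, ?_⟩
  · refine Obj.Hom.ext' hφ'.symm ht1 fun U x => ?_
    have h1 := congrArg (fun z : B.E ⟶ _ => z.app U x) hc'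
    have h2 : (Obj.Hom.c ((⟨g, t, hwp, ht2, c, hcart⟩ : A' ⟶ A) ≫ φ)).app U x =
        (A'.E.presheaf.map (eqToHom
          (congrArg (fun m : A'.XT ⟶ B.XT => m ⁻¹ᵁ U) ht1)).op) (φ'.c.app U x) := h1
    rw [h2]
    exact heq_map_eqToHom A'.E _ _
  · rintro ⟨b, t', wp', wq', c', cart'⟩ ⟨hb, he⟩
    change b = g at hb
    subst hb
    have ht' : t' = t := by
      apply hpb.hom_ext
      · rw [ht1]; exact congrArg Obj.Hom.top he
      · rw [ht2]; exact wq'
    subst ht'
    have hcc : c' = c := by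
      apply (φ.cart ((Scheme.Modules.pushforward t').obj A'.E)).1
      change φ.c ≫ (Scheme.Modules.pushforward φ.top).map c' =
        φ.c ≫ (Scheme.Modules.pushforward φ.top).map c
      rw [hc]
      have h3 := congr_c he
      have h4 : φ.c ≫ (Scheme.Modules.pushforward φ.top).map c' =
          φ'.c ≫ (Scheme.Modules.pushforwardCongr (congrArg Obj.Hom.top he)).inv.app A'.E ≫
            (Scheme.Modules.pushforwardComp t' φ.top).inv.app A'.E := by
        have h5 : (Obj.Hom.c ((⟨b, t', wp', wq', c', cart'⟩ : A' ⟶ A) ≫ φ)) =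
            φ.c ≫ (Scheme.Modules.pushforward φ.top).map c' ≫
              (Scheme.Modules.pushforwardComp t' φ.top).hom.app A'.E := rfl
        rw [h5] at h3
        rw [← h3]
        simp
      rw [h4, pushforwardCongr_inv_eq]
      rfl
    subst hcc
    rfl

/-- The base change of an object along a morphism of bases. -/
noncomputable def liftObj (x : Obj f) {V : Over S} (g : V ⟶ x.base) : Obj f where
  base := V
  XT := pullback x.q g.left
  p := pullback.fst x.q g.left ≫ x.p
  q := pullback.snd x.q g.left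
  isPullback := by
    have h1 : IsPullback (pullback.fst x.q g.left) (pullback.snd x.q g.left) x.q g.left :=
      IsPullback.of_hasPullback _ _
    have h2 := h1.paste_horiz x.isPullback
    rwa [Over.w g] at h2
  E := (Scheme.Modules.pullback (pullback.fst x.q g.left)).obj x.E

/-- The cartesian morphism from the base change. -/
noncomputable def liftHom (x : Obj f) {V : Over S} (g : V ⟶ x.base) : liftObj x g ⟶ x where
  base := g
  top := pullback.fst x.q g.left
  w_p := rfl
  w_q := pullback.condition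
  c := (Scheme.Modules.pullbackPushforwardAdjunction (pullback.fst x.q g.left)).unit.app x.E
  cart := by
    intro M'
    exact Equiv.bijective
      ((Scheme.Modules.pullbackPushforwardAdjunction (pullback.fst x.q g.left)).homEquiv x.E M')

theorem isCohObj_liftObj (x : Obj f) (hx : IsCohObj x) {V : Over S} (g : V ⟶ x.base) :
    IsCohObj (liftObj x g) := by
  obtain ⟨hflat, hfp⟩ := hx
  have : x.E.IsQuasicoherent := Groth.Agent.Helper18Strict.isQCoh_of_isFP x.E hfp
  refine ⟨fun x' => ?_, Groth.Agent.Helper18Strict.isFP_pullback _ x.E hfp⟩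
  exact Groth.Agent.Lib.Helper2.PullbackSec.isFlatOverAt_pullback_of_isPullback
    (IsPullback.of_hasPullback x.q g.left) x.E x' (hflat _)

end Lift


end Groth.Agent.Lib.Seat84.ModStFib
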