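import Groth.Agent.Lib.Seat70PicDescent
import Groth.Agent.Lib.Seat70GGDescent
import Groth.Agent.Lib.Helper27PnSections

/-!
# Seat84: Picard classes and base field extension

* `nonempty_iso_of_cl_eq`: equality of classes in `PicF.Cl` gives an isomorphism.
* `finite_maximalSpectrum_of_finite_HH`: if `H⁰(X, O_X)` is finite over a field `k` then `Γ(X, ⊤)` is semilocal.
* `nonempty_iso_of_pullback_iso`: for a pullback square over a field extension `k'/k`, `X` qcqs with
  `H⁰(X, O_X)` finite over `k`, a quasi-coherent... invertible module trivial upstairs is trivial.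
-/

set_option autoImplicit false
set_option linter.style.haveILetI false
universe u

open CategoryTheory CategoryTheory.Limits AlgebraicGeometry TopologicalSpace Opposite

namespace Groth.Agent.Lib.Seat84.PicField

theorem nonempty_iso_of_cl_eq {Y : Scheme.{u}} {L L' : Y.Modules} (h : PicF.cl L = PicF.cl L') :
    Nonempty (L ≅ L') := by
  have h1 : Relation.EqvGen (fun L L' : Y.Modules => Nonempty (L ≅ L')) L L' := Quot.eqvGen_exact h
  clear h
  induction h1 with
  | rel _ _ h => exact h
  | refl _ => exact ⟨Iso.refl _⟩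
  | symm _ _ _ ih => exact ⟨ih.some.symm⟩
  | trans _ _ _ _ _ ih1 ih2 => exact ⟨ih1.some ≪≫ ih2.some⟩

theorem cl_eq_of_iso {Y : Scheme.{u}} {L L' : Y.Modules} (e : L ≅ L') : PicF.cl L = PicF.cl L' :=
  Quot.sound ⟨e⟩

open Groth.Agent.Lib.Helper27PnSections in
/-- if `H⁰(X, O_X)` is finite over the field `k`, then `Γ(X, ⊤)` has finitely many maximal ideals. -/
theorem finite_maximalSpectrum_of_finite_HH (k : Type u) [Field k] (X : Scheme.{u})
    [X.Over (Spec (CommRingCat.of k))]
    (hfin : Module.Finite k (Coh.HH X (Coh.structureModule X) 0)) :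
    Finite (MaximalSpectrum Γ(X, ⊤)) := by
  let ρ : k →+* Γ(X, ⊤) := Coh.toGlobal (X ↘ Spec (CommRingCat.of k))
  letI : Algebra k Γ(X, ⊤) := ρ.toAlgebra
  let e0 := hh0Equiv X (Coh.structureModule X)
  let l : Coh.HH X (Coh.structureModule X) 0 →ₗ[k] Γ(X, ⊤) :=
    { toFun := fun x => e0 x
      map_add' := fun x y => e0.map_add x y
      map_smul' := fun c x => by
        have h1 : c • x = (Coh.toGlobal (X ↘ Spec (CommRingCat.of k)) c) • x := rfl
        rw [h1, hh0Equiv_smul, Coh.smulAb_app, resTop_top]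
        rfl }
  have hl : Function.Surjective l := e0.surjective
  have : Module.Finite k Γ(X, ⊤) := Module.Finite.of_surjective l hl
  have : IsArtinianRing Γ(X, ⊤) := IsArtinianRing.of_finite k _
  infer_instance

/-- injectivity of `Pic` under a field extension, for a general pullback square. -/
theorem nonempty_iso_of_pullback_iso (k : Type u) [Field k] (X : Scheme.{u})
    (f : X ⟶ Spec (CommRingCat.of k)) [CompactSpace X] [QuasiSeparatedSpace X]
    (hsl : Finite (MaximalSpectrum Γ(X, ⊤)))
    (k' : Type u) [Field k'] [Algebra k k'] (X' : Scheme.{u}) (g : X' ⟶ X)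
    (q : X' ⟶ Spec (CommRingCat.of k'))
    (hpb : IsPullback g q f (Spec.map (CommRingCat.ofHom (algebraMap k k'))))
    (L : X.Modules) (hL : PicF.IsInvertible L)
    (Φ : (Scheme.Modules.pullback g).obj L ≅ Coh.structureModule X') :
    Nonempty (L ≅ Coh.structureModule X) := by
  have : L.IsQuasicoherent := Groth.Agent.Lib.Helper23.SecTw.isQuasicoherent_of_isInvertible L hL
  have : QuasiCompact f := (quasiCompact_iff_compactSpace f).2 inferInstance
  have : QuasiSeparated f := (quasiSeparated_iff_quasiSeparatedSpace f).2 inferInstance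
  have hflat : (CommRingCat.ofHom (algebraMap k k')).hom.Flat :=
    (RingHom.faithfullyFlat_algebraMap_iff.2 (inferInstance : Module.FaithfullyFlat k k')).flat
  have : Flat (Spec.map (CommRingCat.ofHom (algebraMap k k'))) := Flat.SpecMap_iff.2 hflat
  have hle : (⊤ : (Spec (CommRingCat.of k')).Opens) ≤
      (Spec.map (CommRingCat.ofHom (algebraMap k k'))) ⁻¹ᵁ (⊤ : (Spec (CommRingCat.of k)).Opens) :=
    le_of_eq rfl
  obtain ⟨e₀, he₀⟩ := Groth.Agent.Lib.Seat70.PicDescent.exists_isGen_top_of_iso _ Φ
  have : Finite (MaximalSpectrum Γ(X, f ⁻¹ᵁ (⊤ : (Spec (CommRingCat.of k)).Opens))) := hsl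
  obtain ⟨s, hs⟩ := Groth.Agent.Lib.Seat70.PicDescent.exists_isGen_of_pullback f
    (Spec.map (CommRingCat.ofHom (algebraMap k k'))) g q hpb L hle
    (isAffineOpen_top _) (isAffineOpen_top _)
    (Groth.Agent.Lib.Seat70.GGDescent.faithfullyFlat_appLE_top hle)
    _ (he₀.mono le_top)
  exact Groth.Agent.Lib.Seat70.PicDescent.nonempty_iso_of_isGen_top L s hs

end Groth.Agent.Lib.Seat84.PicField
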