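import Mathlib

/-!
# Commutator pairing of a "theta group" `1 → kˣ → Γ → K → 1` and orthogonality counting

Helper file for S17512 (seat 84).  Main result:
`relIndex_centralizer_eq_index`: for a subgroup `H ⊇ Z = ι(kˣ)` of `Γ`, the index of `Z` in the
centralizer of `H` equals the index of `H` in `Γ`.
-/

set_option autoImplicit false
universe u

namespace Groth.Agent.Lib.Seat84.Theta

open scoped commutatorElement

variable {k : Type u} [Field k] {Γ : Type u} [Group Γ] {ι : kˣ →* Γ}

theorem normal_range (hcent : ι.range = Subgroup.center Γ) : ι.range.Normal := by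
  rw [hcent]; infer_instance

theorem comm_mem_range (hcomm : commutator Γ ≤ ι.range) (g h : Γ) : ⁅g, h⁆ ∈ ι.range :=
  hcomm (Subgroup.commutator_mem_commutator (Subgroup.mem_top g) (Subgroup.mem_top h))

theorem comm_central (hcent : ι.range = Subgroup.center Γ) (hcomm : commutator Γ ≤ ι.range)
    (g h x : Γ) : ⁅g, h⁆ * x = x * ⁅g, h⁆ := by
  have h1 : ⁅g, h⁆ ∈ Subgroup.center Γ := hcent ▸ comm_mem_range hcomm g h
  exact ((Subgroup.mem_center_iff.1 h1) x).symm

theorem comm_mul_left (hcent : ι.range = Subgroup.center Γ) (hcomm : commutator Γ ≤ ι.range)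
    (g g' h : Γ) : ⁅g * g', h⁆ = ⁅g, h⁆ * ⁅g', h⁆ := by
  have h1 := comm_central hcent hcomm g' h
  calc ⁅g * g', h⁆ = g * ⁅g', h⁆ * (h * g⁻¹ * h⁻¹) := by
        simp only [commutatorElement_def]; group
    _ = ⁅g', h⁆ * g * (h * g⁻¹ * h⁻¹) := by rw [← h1 g]
    _ = ⁅g', h⁆ * ⁅g, h⁆ := by simp only [commutatorElement_def]; group
    _ = ⁅g, h⁆ * ⁅g', h⁆ := (h1 _).symm ▸ rfl

theorem comm_mul_right (hcent : ι.range = Subgroup.center Γ) (hcomm : commutator Γ ≤ ι.range)
    (g h h' : Γ) : ⁅g, h * h'⁆ = ⁅g, h⁆ * ⁅g, h'⁆ := by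
  have e1 : ⁅g, h * h'⁆ = (⁅h * h', g⁆)⁻¹ := (commutatorElement_inv _ _).symm
  rw [e1, comm_mul_left hcent hcomm, mul_inv_rev, commutatorElement_inv, commutatorElement_inv]
  exact (comm_central hcent hcomm g h' _)


/-- the inverse of `ι` on its range -/
noncomputable def toUnits (hι : Function.Injective ι) : ι.range ≃* kˣ :=
  (MonoidHom.ofInjective hι).symm

theorem ι_toUnits (hι : Function.Injective ι) (x : ι.range) : ι (toUnits hι x) = (x : Γ) := by
  have := (MonoidHom.ofInjective hι).apply_symm_apply x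
  exact congrArg Subtype.val this

/-- the commutator pairing with values in `kˣ`, as a homomorphism in the first variable -/
noncomputable def pairL (hι : Function.Injective ι) (hcent : ι.range = Subgroup.center Γ)
    (hcomm : commutator Γ ≤ ι.range) (h : Γ) : Γ →* kˣ where
  toFun g := toUnits hι ⟨⁅g, h⁆, comm_mem_range hcomm g h⟩
  map_one' := by
    have : (⟨⁅(1 : Γ), h⁆, comm_mem_range hcomm 1 h⟩ : ι.range) = 1 := by
      apply Subtype.ext; simp
    rw [this, map_one]
  map_mul' g g' := by
    rw [← map_mul]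
    congr 1
    apply Subtype.ext
    simp only [Subgroup.coe_mul]
    exact comm_mul_left hcent hcomm g g' h

theorem ι_pairL (hι : Function.Injective ι) (hcent : ι.range = Subgroup.center Γ)
    (hcomm : commutator Γ ≤ ι.range) (g h : Γ) : ι (pairL hι hcent hcomm h g) = ⁅g, h⁆ := by
  simp only [pairL, MonoidHom.coe_mk, OneHom.coe_mk, ι_toUnits]

theorem pairL_eq_one_iff (hι : Function.Injective ι) (hcent : ι.range = Subgroup.center Γ)
    (hcomm : commutator Γ ≤ ι.range) (g h : Γ) : pairL hι hcent hcomm h g = 1 ↔ g * h = h * g := by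
  rw [← hι.eq_iff, ι_pairL, map_one, commutatorElement_eq_one_iff_mul_comm]

/-- the commutator pairing as a bi-homomorphism `Γ →* Γ →* kˣ` (`h ↦ (g ↦ e(g,h))`) -/
noncomputable def pair (hι : Function.Injective ι) (hcent : ι.range = Subgroup.center Γ)
    (hcomm : commutator Γ ≤ ι.range) : Γ →* (Γ →* kˣ) where
  toFun h := pairL hι hcent hcomm h
  map_one' := by
    ext g
    rw [MonoidHom.one_apply, ← Units.ext_iff, pairL_eq_one_iff]; simp
  map_mul' h h' := by
    ext g
    rw [MonoidHom.mul_apply, ← Units.ext_iff]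
    apply hι
    rw [map_mul, ι_pairL, ι_pairL, ι_pairL]
    exact comm_mul_right hcent hcomm g h h'

theorem pair_apply_eq_one_iff (hι : Function.Injective ι) (hcent : ι.range = Subgroup.center Γ)
    (hcomm : commutator Γ ≤ ι.range) (g h : Γ) : pair hι hcent hcomm h g = 1 ↔ g * h = h * g :=
  pairL_eq_one_iff hι hcent hcomm g h


theorem pair_apply_range (hι : Function.Injective ι) (hcent : ι.range = Subgroup.center Γ)
    (hcomm : commutator Γ ≤ ι.range) (h : Γ) (z : Γ) (hz : z ∈ ι.range) :
    pair hι hcent hcomm h z = 1 := by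
  rw [pair_apply_eq_one_iff]
  have h1 : z ∈ Subgroup.center Γ := hcent ▸ hz
  exact ((Subgroup.mem_center_iff.1 h1) h).symm

theorem pair_range_apply (hι : Function.Injective ι) (hcent : ι.range = Subgroup.center Γ)
    (hcomm : commutator Γ ≤ ι.range) (z : Γ) (hz : z ∈ ι.range) (g : Γ) :
    pair hι hcent hcomm z g = 1 := by
  rw [pair_apply_eq_one_iff]
  have h1 : z ∈ Subgroup.center Γ := hcent ▸ hz
  exact ((Subgroup.mem_center_iff.1 h1) g)

section Quot

variable [hN : ι.range.Normal]

/-- `K = Γ ⧸ ι(kˣ)` is commutative. -/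
@[reducible] noncomputable def quotCommGroup (hcomm : commutator Γ ≤ ι.range) :
    CommGroup (Γ ⧸ ι.range) :=
  { (inferInstance : Group (Γ ⧸ ι.range)) with
    mul_comm := by
      intro a b
      induction a using QuotientGroup.induction_on with
      | H a =>
        induction b using QuotientGroup.induction_on with
        | H b =>
          rw [← QuotientGroup.mk_mul, ← QuotientGroup.mk_mul, QuotientGroup.eq]
          have : (a * b)⁻¹ * (b * a) = ⁅b⁻¹, a⁻¹⁆ := by
            simp only [commutatorElement_def]; group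
          rw [this]
          exact comm_mem_range hcomm _ _ }

/-- the pairing descended in the inner variable -/
noncomputable def pairQ₁ (hι : Function.Injective ι) (hcent : ι.range = Subgroup.center Γ)
    (hcomm : commutator Γ ≤ ι.range) : Γ →* ((Γ ⧸ ι.range) →* kˣ) where
  toFun h := QuotientGroup.lift ι.range (pair hι hcent hcomm h)
    (fun z hz => MonoidHom.mem_ker.2 (pair_apply_range hι hcent hcomm h z hz))
  map_one' := by
    apply QuotientGroup.monoidHom_ext
    ext g
    simp
  map_mul' h h' := by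
    apply QuotientGroup.monoidHom_ext
    ext g
    simp

/-- the pairing on `K × K` -/
noncomputable def pairQ (hι : Function.Injective ι) (hcent : ι.range = Subgroup.center Γ)
    (hcomm : commutator Γ ≤ ι.range) : (Γ ⧸ ι.range) →* ((Γ ⧸ ι.range) →* kˣ) :=
  QuotientGroup.lift ι.range (pairQ₁ hι hcent hcomm) (by
    intro z hz
    apply QuotientGroup.monoidHom_ext
    ext g
    simp only [pairQ₁, MonoidHom.coe_mk, OneHom.coe_mk, MonoidHom.coe_comp, Function.comp_apply,
      QuotientGroup.mk'_apply, QuotientGroup.lift_mk, MonoidHom.one_apply]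
    rw [pair_range_apply hι hcent hcomm z hz g])

@[simp] theorem pairQ_mk_mk (hι : Function.Injective ι) (hcent : ι.range = Subgroup.center Γ)
    (hcomm : commutator Γ ≤ ι.range) (g h : Γ) :
    pairQ hι hcent hcomm (h : Γ ⧸ ι.range) (g : Γ ⧸ ι.range) = pair hι hcent hcomm h g := rfl

theorem pairQ_injective (hι : Function.Injective ι) (hcent : ι.range = Subgroup.center Γ)
    (hcomm : commutator Γ ≤ ι.range) : Function.Injective (pairQ (hN := hN) hι hcent hcomm) := by
  rw [injective_iff_map_eq_one]
  intro a ha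
  induction a using QuotientGroup.induction_on with
  | H a =>
    rw [QuotientGroup.eq_one_iff, hcent, Subgroup.mem_center_iff]
    intro g
    have h1 := DFunLike.congr_fun ha (g : Γ ⧸ ι.range)
    rw [pairQ_mk_mk, MonoidHom.one_apply, pair_apply_eq_one_iff] at h1
    exact h1

theorem natCast_ne_zero_of_coprime (n : ℕ) (hn : n ≠ 0) (hcop : n.Coprime (ringExpChar k)) :
    (n : k) ≠ 0 := by
  obtain _ | ⟨p, ⟨hp⟩, _⟩ := CharP.exists' k
  · exact_mod_cast hn
  · haveI : ExpChar k p := .prime hp
    rw [ringExpChar.eq k p] at hcop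
    intro h0
    rw [CharP.cast_eq_zero_iff k p] at h0
    have := Nat.Coprime.eq_one_of_dvd hcop.symm h0
    exact hp.one_lt.ne' this

theorem hasEnough [IsAlgClosed k] [Finite (Γ ⧸ ι.range)]
    (hcop : (Nat.card (Γ ⧸ ι.range)).Coprime (ringExpChar k)) :
    HasEnoughRootsOfUnity k (Monoid.exponent (Γ ⧸ ι.range)) := by
  have : NeZero ((Monoid.exponent (Γ ⧸ ι.range) : ℕ) : k) := ⟨by
    apply natCast_ne_zero_of_coprime
    · exact Monoid.exponent_ne_zero_of_finite
    · exact Nat.Coprime.coprime_dvd_left (Group.exponent_dvd_nat_card) hcop⟩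
  infer_instance

theorem card_perp [IsAlgClosed k] [Finite (Γ ⧸ ι.range)]
    (hι : Function.Injective ι) (hcent : ι.range = Subgroup.center Γ)
    (hcomm : commutator Γ ≤ ι.range)
    (hcop : (Nat.card (Γ ⧸ ι.range)).Coprime (ringExpChar k)) (A : Subgroup (Γ ⧸ ι.range)) :
    Nat.card {x : Γ ⧸ ι.range // ∀ a ∈ A, pairQ hι hcent hcomm x a = 1} = A.index := by
  letI := quotCommGroup (ι := ι) hcomm
  haveI := hasEnough (ι := ι) hcop
  have hbij : Function.Bijective (pairQ (hN := hN) hι hcent hcomm) := by
    rw [Nat.bijective_iff_injective_and_card]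
    exact ⟨pairQ_injective hι hcent hcomm,
      (CommGroup.card_monoidHom_of_hasEnoughRootsOfUnity _ k).symm⟩
  rw [Subgroup.index, ← CommGroup.card_domRestrictHom_ker (M := k) A]
  refine Nat.card_congr ?_
  refine Equiv.subtypeEquiv (Equiv.ofBijective _ hbij) (fun x => ?_)
  rw [MonoidHom.mem_ker, MonoidHom.domRestrictHom_apply, MonoidHom.domRestrict_eq_one_iff]
  rfl

theorem card_map_mk_eq_relIndex [Finite (Γ ⧸ ι.range)] (C : Subgroup Γ) (hC : ι.range ≤ C) :
    Nat.card (C.map (QuotientGroup.mk' ι.range)) = ι.range.relIndex C := by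
  have h1 : ι.range.relIndex C * C.index = ι.range.index := Subgroup.relIndex_mul_index hC
  have h2 : (C.map (QuotientGroup.mk' ι.range)).index = C.index :=
    Subgroup.index_map_eq C (QuotientGroup.mk'_surjective _) (by rwa [QuotientGroup.ker_mk'])
  have h3 := Subgroup.card_mul_index (C.map (QuotientGroup.mk' ι.range))
  rw [h2, ← Subgroup.index_eq_card, ← h1] at h3
  have h4 : C.index ≠ 0 := by
    intro h0
    rw [h0, mul_zero] at h1
    exact Subgroup.index_ne_zero_of_finite h1.symm
  exact Nat.eq_of_mul_eq_mul_right (Nat.pos_of_ne_zero h4) h3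

theorem relIndex_centralizer_eq_index [IsAlgClosed k] [Finite (Γ ⧸ ι.range)]
    (hι : Function.Injective ι) (hcent : ι.range = Subgroup.center Γ)
    (hcomm : commutator Γ ≤ ι.range)
    (hcop : (Nat.card (Γ ⧸ ι.range)).Coprime (ringExpChar k)) (H : Subgroup Γ)
    (hH : ι.range ≤ H) :
    ι.range.relIndex (Subgroup.centralizer (H : Set Γ)) = H.index := by
  have hZC : ι.range ≤ Subgroup.centralizer (H : Set Γ) := by
    rw [hcent]; exact Subgroup.center_le_centralizer _
  rw [← card_map_mk_eq_relIndex _ hZC,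
    ← Subgroup.index_map_eq H (f := QuotientGroup.mk' ι.range) (QuotientGroup.mk'_surjective _)
      (by rwa [QuotientGroup.ker_mk']),
    ← card_perp hι hcent hcomm hcop]
  refine Nat.card_congr (Equiv.subtypeEquivRight (fun x => ?_))
  induction x using QuotientGroup.induction_on with
  | H g =>
    constructor
    · rintro ⟨c, hc, hcg⟩ a ⟨h, hh, rfl⟩
      change (c : Γ ⧸ ι.range) = (g : Γ ⧸ ι.range) at hcg
      rw [QuotientGroup.eq] at hcg
      rw [QuotientGroup.mk'_apply, pairQ_mk_mk, pair_apply_eq_one_iff]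
      have hc : c ∈ Subgroup.centralizer (H : Set Γ) := hc
      -- g = c * z with z central
      have hz : c⁻¹ * g ∈ Subgroup.center Γ := hcent ▸ hcg
      have hc' : h * c = c * h := (Subgroup.mem_centralizer_iff.1 hc) h hh
      have hz' := (Subgroup.mem_center_iff.1 hz) h
      calc h * g = h * (c * (c⁻¹ * g)) := by group
        _ = (h * c) * (c⁻¹ * g) := by group
        _ = c * (h * (c⁻¹ * g)) := by rw [hc']; group
        _ = c * ((c⁻¹ * g) * h) := by rw [hz']
        _ = g * h := by group
    · intro hx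
      refine ⟨g, ?_, rfl⟩
      change g ∈ Subgroup.centralizer (H : Set Γ)
      rw [Subgroup.mem_centralizer_iff]
      intro h hh
      have := hx (h : Γ ⧸ ι.range) ⟨h, hh, rfl⟩
      rw [pairQ_mk_mk, pair_apply_eq_one_iff] at this
      exact this

end Quot

end Groth.Agent.Lib.Seat84.Theta
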