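import Groth.Agent.Lib.Seat84OpenRes
import Groth.Agent.Lib.Helper22Hartogs2
import Groth.Agent.Lib.Helper28Normal

/-!
# Seat84: restriction of `Hom(M~, N)` to an open of `Spec R`, and algebraic Hartogs on `Spec R`
-/

set_option autoImplicit false
set_option linter.style.haveILetI false
universe u

open CategoryTheory CategoryTheory.Limits AlgebraicGeometry TopologicalSpace Opposite

namespace Groth.Agent.Lib.Seat84.TildeHom

open Groth.Agent.Lib.Seat84.OpenRes

section Hartogs

variable (R : Type u) [CommRing R] [IsNoetherianRing R] [IsDomain R] [IsIntegrallyClosed R]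

/-- the local rings of `Spec R`, `R` a Noetherian normal domain, at primes of height at least two
have depth at least two. -/
theorem two_le_depth_stalk (x : ↥(Spec (CommRingCat.of R))) (p : PrimeSpectrum R) (hxp : x = p)
    (hp : (2 : ℕ∞) ≤ p.asIdeal.height) :
    (2 : ℕ∞) ≤ LocCoh.depth ((Spec (CommRingCat.of R)).presheaf.stalk x)
      ((Spec (CommRingCat.of R)).presheaf.stalk x) := by
  subst hxp
  haveI hprime : (PrimeSpectrum.asIdeal x).IsPrime := PrimeSpectrum.isPrime x
  letI : Algebra R ((Spec (CommRingCat.of R)).presheaf.stalk x) := StructureSheaf.stalkAlgebra R x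
  haveI hloc : IsLocalization.AtPrime ((Spec (CommRingCat.of R)).presheaf.stalk x)
      (PrimeSpectrum.asIdeal x) := StructureSheaf.IsLocalization.to_stalk R x
  haveI : IsNoetherianRing ((Spec (CommRingCat.of R)).presheaf.stalk x) :=
    IsLocalization.isNoetherianRing (PrimeSpectrum.asIdeal x).primeCompl _ inferInstance
  haveI : IsDomain ((Spec (CommRingCat.of R)).presheaf.stalk x) :=
    IsLocalization.isDomain_of_le_nonZeroDivisors _
      (PrimeSpectrum.asIdeal x).primeCompl_le_nonZeroDivisors
  haveI : IsIntegrallyClosed ((Spec (CommRingCat.of R)).presheaf.stalk x) :=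
    isIntegrallyClosed_of_isLocalization _ (PrimeSpectrum.asIdeal x).primeCompl
      (PrimeSpectrum.asIdeal x).primeCompl_le_nonZeroDivisors
  apply Groth.Agent.Lib.Helper28.two_le_depth_of_isIntegrallyClosed_of_two_le_dim
  rw [IsLocalization.AtPrime.ringKrullDim_eq_height (PrimeSpectrum.asIdeal x)]
  exact WithBot.coe_le_coe.2 hp

/-- **algebraic Hartogs**: on the spectrum of a Noetherian normal domain, functions extend across
closed subsets of codimension at least two. -/
theorem bijective_res_of_height (U : (Spec (CommRingCat.of R)).Opens)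
    (h : ∀ p : PrimeSpectrum R, p ∉ U → (2 : ℕ∞) ≤ p.asIdeal.height) :
    Function.Bijective ((Spec (CommRingCat.of R)).presheaf.map (homOfLE (le_top : U ≤ ⊤)).op) := by
  haveI : IsLocallyNoetherian (Spec (CommRingCat.of R)) := inferInstance
  exact Groth.Agent.Lib.Helper22.Hartogs.bijective_res_of_depth U
    (fun x hx => two_le_depth_stalk R x x rfl (h x hx)) ⊤ U le_top inf_le_right le_rfl

end Hartogs

section Adj

variable {X : Scheme.{u}}

/-- restricting a morphism to an open corresponds, under the adjunction `j^* ⊣ j_*`, to composing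
with the unit. -/
theorem homEquiv_restrict_map (W : X.Opens) {F N : X.Modules} (φ : F ⟶ N) :
    (Scheme.Modules.restrictAdjunction W.ι).homEquiv F
        ((Scheme.Modules.restrictFunctor W.ι).obj N)
      ((Scheme.Modules.restrictFunctor W.ι).map φ) =
    φ ≫ (Scheme.Modules.restrictAdjunction W.ι).unit.app N := by
  rw [Adjunction.homEquiv_unit]
  exact ((Scheme.Modules.restrictAdjunction W.ι).unit.naturality φ).symm

theorem restrict_map_injective_iff (W : X.Opens) (F N : X.Modules) :
    Function.Injective (fun φ : F ⟶ N => (Scheme.Modules.restrictFunctor W.ι).map φ) ↔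
      Function.Injective
        (fun φ : F ⟶ N => φ ≫ (Scheme.Modules.restrictAdjunction W.ι).unit.app N) := by
  have h : (fun φ : F ⟶ N => φ ≫ (Scheme.Modules.restrictAdjunction W.ι).unit.app N) =
      (Scheme.Modules.restrictAdjunction W.ι).homEquiv F
        ((Scheme.Modules.restrictFunctor W.ι).obj N) ∘
      (fun φ : F ⟶ N => (Scheme.Modules.restrictFunctor W.ι).map φ) :=
    funext fun φ => (homEquiv_restrict_map W φ).symm
  rw [h, EquivLike.comp_injective]

theorem restrict_map_bijective_iff (W : X.Opens) (F N : X.Modules) :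
    Function.Bijective (fun φ : F ⟶ N => (Scheme.Modules.restrictFunctor W.ι).map φ) ↔
      Function.Bijective
        (fun φ : F ⟶ N => φ ≫ (Scheme.Modules.restrictAdjunction W.ι).unit.app N) := by
  have h : (fun φ : F ⟶ N => φ ≫ (Scheme.Modules.restrictAdjunction W.ι).unit.app N) =
      (Scheme.Modules.restrictAdjunction W.ι).homEquiv F
        ((Scheme.Modules.restrictFunctor W.ι).obj N) ∘
      (fun φ : F ⟶ N => (Scheme.Modules.restrictFunctor W.ι).map φ) :=
    funext fun φ => (homEquiv_restrict_map W φ).symm
  rw [h, EquivLike.comp_bijective]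

end Adj

section Tilde

variable {R : CommRingCat.{u}} (M : ModuleCat.{u} R)

theorem Γ_map_apply {N N' : (Spec (.of R)).Modules} (h : N ⟶ N')
    (s : (moduleSpecΓFunctor (R := R)).obj N) :
    (moduleSpecΓFunctor (R := R)).map h s = h.app ⊤ s := rfl

theorem comp_injective_of_injective_app_top {N N' : (Spec (.of R)).Modules} (h : N ⟶ N')
    (hh : Function.Injective (h.app ⊤)) :
    Function.Injective (fun φ : tilde M ⟶ N => φ ≫ h) := by
  haveI : Mono ((moduleSpecΓFunctor (R := R)).map h) := by
    rw [ModuleCat.mono_iff_injective]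
    intro s t hst
    exact hh hst
  intro φ φ' hφ
  apply (tilde.adjunction.homEquiv M N).injective
  rw [← cancel_mono ((moduleSpecΓFunctor (R := R)).map h)]
  have h1 := Adjunction.homEquiv_naturality_right (tilde.adjunction (R := R)) φ h
  have h2 := Adjunction.homEquiv_naturality_right (tilde.adjunction (R := R)) φ' h
  exact h1.symm.trans ((congrArg _ hφ).trans h2)

theorem comp_bijective_of_bijective_app_top {N N' : (Spec (.of R)).Modules} (h : N ⟶ N')
    (hh : Function.Bijective (h.app ⊤)) :
    Function.Bijective (fun φ : tilde M ⟶ N => φ ≫ h) := by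
  refine ⟨comp_injective_of_injective_app_top M h hh.1, fun χ => ?_⟩
  haveI : IsIso ((moduleSpecΓFunctor (R := R)).map h) := by
    rw [ConcreteCategory.isIso_iff_bijective]
    exact hh
  refine ⟨(tilde.adjunction.homEquiv M N).symm
    (tilde.adjunction.homEquiv M N' χ ≫ inv ((moduleSpecΓFunctor (R := R)).map h)), ?_⟩
  apply (tilde.adjunction.homEquiv M N').injective
  have h1 := Adjunction.homEquiv_naturality_right (tilde.adjunction (R := R))
    ((tilde.adjunction.homEquiv M N).symm
      (tilde.adjunction.homEquiv M N' χ ≫ inv ((moduleSpecΓFunctor (R := R)).map h))) h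
  refine h1.trans ?_
  rw [Equiv.apply_symm_apply, Category.assoc, IsIso.inv_hom_id, Category.comp_id]

end Tilde

end Groth.Agent.Lib.Seat84.TildeHom
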