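import Mathlib
import Groth.Prelude.Def_Pi1
import Groth.Agent.Lib.Seat94LocIntegral

/-!
# Finite coproducts of schemes and decomposition of locally integral Noetherian schemes (seat 85)

* `sigmaDesc_of_finite`: a morphism property stable under composition with isomorphisms, holding
  for morphisms out of empty schemes and stable under binary `coprod.desc`, is stable under
  `Sigma.desc` over finite index types.
* `isProper_sigmaDesc`: a finite coproduct of proper `Z`-schemes is proper over `Z`.
* stalks of open subschemes: `isNormal_stalk_map_iff`, `ringKrullDim_stalk_map`.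
* `isNormalScheme_sigma`, `ringKrullDim_stalk_sigma_of_isClosed`.
* `exists_integral_decomposition`: a Noetherian scheme whose stalks are domains is the disjoint
  union of finitely many integral open subschemes.
-/

set_option autoImplicit false
set_option linter.style.haveILetI false
universe u
open CategoryTheory CategoryTheory.Limits AlgebraicGeometry

namespace Groth.Agent.Lib.Seat85.FinCoprod

section SigmaDesc

/-- Induction principle for `Sigma.desc` over finite index types. -/
theorem sigmaDesc_of_finite (P : MorphismProperty Scheme.{u}) [P.RespectsIso]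
    [P.IsStableUnderComposition]
    (hempty : ∀ {X Y : Scheme.{u}} (f : X ⟶ Y), IsEmpty X → P f)
    (hcoprod : ∀ {X Y Z : Scheme.{u}} (f : X ⟶ Z) (g : Y ⟶ Z), P f → P g → P (coprod.desc f g))
    (ι : Type u) [Finite ι] :
    ∀ (Y : ι → Scheme.{u}) (Z : Scheme.{u}) (g : ∀ i, Y i ⟶ Z), (∀ i, P (g i)) →
      P (Sigma.desc g) := by
  refine Finite.induction_empty_option (P := fun ι : Type u => ∀ (Y : ι → Scheme.{u})
    (Z : Scheme.{u}) (g : ∀ i, Y i ⟶ Z), (∀ i, P (g i)) → P (Sigma.desc g))
    ?_ ?_ ?_ ι
  · -- equivalence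
    intro α β e hα Y Z g hg
    have h1 := hα (fun a => Y (e a)) Z (fun a => g (e a)) (fun a => hg (e a))
    have h2 : Sigma.desc g = (Sigma.reindex e Y).inv ≫ Sigma.desc (fun a => g (e a)) := by
      rw [Iso.eq_inv_comp]
      apply Sigma.hom_ext
      intro a
      rw [Sigma.ι_desc, ← Category.assoc]
      erw [Sigma.ι_reindex_hom]
      rw [Sigma.ι_desc]
    rw [h2]
    exact (P.cancel_left_of_respectsIso _ _).mpr h1
  · -- empty
    intro Y Z g _
    haveI : IsEmpty ↥(∐ Y) := ⟨fun x => ((sigmaMk Y).symm x).1.elim⟩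
    exact hempty _ inferInstance
  · -- option
    intro α _ hα Y Z g hg
    have h1 := hα (fun a => Y (some a)) Z (fun a => g (some a)) (fun a => hg (some a))
    let k : (∐ Y) ⟶ (∐ fun a => Y (some a)) ⨿ Y none :=
      Sigma.desc (fun o => match o with
        | none => coprod.inr
        | some a => Sigma.ι (fun a => Y (some a)) a ≫ coprod.inl)
    let k' : (∐ fun a => Y (some a)) ⨿ Y none ⟶ ∐ Y :=
      coprod.desc (Sigma.desc fun a => Sigma.ι Y (some a)) (Sigma.ι Y none)
    have hk1 : k ≫ k' = 𝟙 _ := by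
      apply Sigma.hom_ext
      intro o
      cases o with
      | none =>
        simp only [k, k', Category.comp_id]
        rw [← Category.assoc, Sigma.ι_desc]
        simp only [coprod.inr_desc]
      | some a =>
        simp only [k, k', Category.comp_id]
        rw [← Category.assoc, Sigma.ι_desc]
        simp only [Category.assoc, coprod.inl_desc, Sigma.ι_desc]
    have hk2 : k' ≫ k = 𝟙 _ := by
      apply coprod.hom_ext
      · apply Sigma.hom_ext
        intro a
        simp only [k, k', Category.comp_id]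
        rw [coprod.inl_desc_assoc, Sigma.ι_desc_assoc, Sigma.ι_desc]
      · simp only [k, k', Category.comp_id]
        rw [coprod.inr_desc_assoc, Sigma.ι_desc]
    haveI : IsIso k := ⟨k', hk1, hk2⟩
    have h2 : Sigma.desc g = k ≫ coprod.desc (Sigma.desc fun a => g (some a)) (g none) := by
      apply Sigma.hom_ext
      intro o
      cases o with
      | none =>
        simp only [k]
        rw [Sigma.ι_desc, ← Category.assoc, Sigma.ι_desc]
        simp only [coprod.inr_desc]
      | some a =>
        simp only [k]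
        rw [Sigma.ι_desc, ← Category.assoc, Sigma.ι_desc]
        simp only [Category.assoc, coprod.inl_desc, Sigma.ι_desc]
    rw [h2]
    exact (P.cancel_left_of_respectsIso _ _).mpr (hcoprod _ _ h1 (hg none))

theorem isProper_coprodDesc {X Y Z : Scheme.{u}} (f : X ⟶ Z) (g : Y ⟶ Z) (hf : IsProper f)
    (hg : IsProper g) : IsProper (coprod.desc f g) := by
  have h1 : coprod.desc f g = coprod.map f g ≫ coprod.desc (𝟙 Z) (𝟙 Z) := by simp
  rw [h1]
  have : IsProper (coprod.map f g) := IsZariskiLocalAtTarget.coprodMap (P := @IsProper) f g hf hg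
  infer_instance

/-- A finite coproduct of proper `Z`-schemes is proper over `Z`. -/
theorem isProper_sigmaDesc {ι : Type u} [Finite ι] (Y : ι → Scheme.{u}) (Z : Scheme.{u})
    (g : ∀ i, Y i ⟶ Z) (hg : ∀ i, IsProper (g i)) : IsProper (Sigma.desc g) := by
  refine sigmaDesc_of_finite @IsProper ?_ ?_ ι Y Z g hg
  · intro X Y f hX
    infer_instance
  · intro X Y Z f g hf hg
    exact isProper_coprodDesc f g hf hg

end SigmaDesc

section Stalks

/-- Normality of the stalk is invariant under open immersions. -/
theorem isNormal_stalk_map_iff {U Y : Scheme.{u}} (f : U ⟶ Y) [IsOpenImmersion f] (x : U) :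
    (IsDomain (Y.presheaf.stalk (f x)) ∧ IsIntegrallyClosed (Y.presheaf.stalk (f x))) ↔
      (IsDomain (U.presheaf.stalk x) ∧ IsIntegrallyClosed (U.presheaf.stalk x)) := by
  let e : Y.presheaf.stalk (f x) ≃+* U.presheaf.stalk x :=
    (asIso (f.stalkMap x)).commRingCatIsoToRingEquiv
  constructor
  · rintro ⟨h1, h2⟩
    exact ⟨e.symm.toMulEquiv.isDomain _, IsIntegrallyClosed.of_equiv e⟩
  · rintro ⟨h1, h2⟩
    exact ⟨e.toMulEquiv.isDomain _, IsIntegrallyClosed.of_equiv e.symm⟩

theorem ringKrullDim_stalk_map {U Y : Scheme.{u}} (f : U ⟶ Y) [IsOpenImmersion f] (x : U) :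
    ringKrullDim (Y.presheaf.stalk (f x)) = ringKrullDim (U.presheaf.stalk x) :=
  ringKrullDim_eq_of_ringEquiv (asIso (f.stalkMap x)).commRingCatIsoToRingEquiv

theorem isNormalScheme_sigma {ι : Type u} (C : ι → Scheme.{u})
    (h : ∀ i, Pi1.IsNormalScheme (C i)) : Pi1.IsNormalScheme (∐ C) := by
  intro y
  obtain ⟨⟨i, c⟩, rfl⟩ := (sigmaMk C).surjective y
  rw [sigmaMk_mk]
  exact (isNormal_stalk_map_iff (Sigma.ι C i) c).mpr (h i c)

theorem ringKrullDim_stalk_sigma_of_isClosed {ι : Type u} (C : ι → Scheme.{u})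
    (d : WithBot ℕ∞)
    (h : ∀ i, ∀ c : C i, IsClosed ({c} : Set (C i)) → ringKrullDim ((C i).presheaf.stalk c) = d)
    (y : ↥(∐ C)) (hy : IsClosed ({y} : Set ↥(∐ C))) :
    ringKrullDim ((∐ C).presheaf.stalk y) = d := by
  obtain ⟨⟨i, c⟩, rfl⟩ := (sigmaMk C).surjective y
  rw [sigmaMk_mk] at hy ⊢
  rw [ringKrullDim_stalk_map (Sigma.ι C i) c]
  refine h i c ?_
  have : ({c} : Set (C i)) = (Sigma.ι C i) ⁻¹' {Sigma.ι C i c} := by
    ext c'
    simp only [Set.mem_singleton_iff, Set.mem_preimage]
    exact ⟨fun h => h ▸ rfl, fun h => (Sigma.ι C i).isOpenEmbedding.injective h⟩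
  rw [this]
  exact hy.preimage (Sigma.ι C i).continuous

theorem isNormalScheme_opens {X : Scheme.{u}} (hX : Pi1.IsNormalScheme X) (U : X.Opens) :
    Pi1.IsNormalScheme U := fun x => (isNormal_stalk_map_iff U.ι x).mp (hX (U.ι x))

end Stalks

section Decomposition

open TopologicalSpace

/-- A Noetherian scheme whose stalks are domains is the disjoint union of finitely many integral
open (and closed) subschemes. -/
theorem exists_integral_decomposition (X : Scheme.{u}) [IsNoetherian X]
    (hX : ∀ x : X, IsDomain (X.presheaf.stalk x)) :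
    ∃ (ι : Type u) (_ : Finite ι) (U : ι → X.Opens), (∀ i, IsIntegral (U i)) ∧
      (∀ i, IsClosed ((U i : X.Opens) : Set X)) ∧
      (⨆ i, U i = ⊤) ∧ Pairwise (Function.onFun Disjoint U) := by
  have hfin : (irreducibleComponents X).Finite := NoetherianSpace.finite_irreducibleComponents
  have huniq : ∀ Z₁ ∈ irreducibleComponents X, ∀ Z₂ ∈ irreducibleComponents X, ∀ x : X,
      x ∈ Z₁ → x ∈ Z₂ → Z₁ = Z₂ := fun Z₁ h₁ Z₂ h₂ x hx₁ hx₂ => by
    have := hX x
    exact Groth.Agent.Lib.Seat94.LocIntegral.eq_of_mem_irreducibleComponents_of_isDomain_stalk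
      X x h₁ h₂ hx₁ hx₂
  have hopen : ∀ Z ∈ irreducibleComponents X, IsOpen Z := by
    intro Z hZ
    have hcompl : Zᶜ = ⋃₀ (irreducibleComponents X \ {Z}) := by
      ext x
      constructor
      · intro hx
        refine ⟨irreducibleComponent x, ⟨irreducibleComponent_mem_irreducibleComponents x, ?_⟩,
          mem_irreducibleComponent⟩
        rintro (h : irreducibleComponent x = Z)
        exact hx (h ▸ mem_irreducibleComponent)
      · rintro ⟨Z', ⟨hZ', hne⟩, hxZ'⟩ hxZ
        exact hne (huniq Z' hZ' Z hZ x hxZ' hxZ)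
    have hclosed : IsClosed (Zᶜ) := by
      rw [hcompl, Set.sUnion_eq_biUnion]
      exact (hfin.subset Set.sdiff_subset).isClosed_biUnion fun Z' hZ' =>
        isClosed_of_mem_irreducibleComponents Z' hZ'.1
    simpa using hclosed.isOpen_compl
  have : ∀ x : X, _root_.IsReduced (X.presheaf.stalk x) := fun x => by
    have := hX x
    infer_instance
  have : IsReduced X := isReduced_of_isReduced_stalk X
  have : Finite ↥(irreducibleComponents X) := hfin.to_subtype
  refine ⟨↥(irreducibleComponents X), inferInstance, fun Z => ⟨Z.1, hopen Z.1 Z.2⟩, ?_, ?_, ?_, ?_⟩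
  · intro Z
    change IsIntegral (Scheme.Opens.toScheme (⟨Z.1, hopen Z.1 Z.2⟩ : X.Opens))
    have : IrreducibleSpace ↥(Scheme.Opens.toScheme (⟨Z.1, hopen Z.1 Z.2⟩ : X.Opens)) :=
      Subtype.irreducibleSpace Z.2.1
    exact isIntegral_of_irreducibleSpace_of_isReduced _
  · intro Z
    exact isClosed_of_mem_irreducibleComponents Z.1 Z.2
  · rw [eq_top_iff]
    intro x _
    exact Opens.mem_iSup.mpr ⟨⟨irreducibleComponent x,
      irreducibleComponent_mem_irreducibleComponents x⟩, mem_irreducibleComponent⟩
  · intro Z Z' hne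
    rw [Function.onFun, disjoint_iff]
    ext x
    simp only [Opens.coe_inf, Opens.coe_mk, Set.mem_inter_iff, Opens.coe_bot,
      Set.mem_empty_iff_false, iff_false, not_and]
    intro h1 h2
    exact hne (Subtype.ext (huniq Z.1 Z.2 Z'.1 Z'.2 x h1 h2))

end Decomposition

end Groth.Agent.Lib.Seat85.FinCoprod
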