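import Groth.Agent.Lib.Helper4VarDim2
import Groth.Agent.Lib.Helper14FTDim
import Groth.Agent.S2344
import Groth.Agent.S2345
import Groth.Agent.S4809
import Groth.Agent.Lib.Seat85FinCoprod

/-!
# Normal completion of an integral normal curve (seat 85)

* `trdeg_eq_one_and_fg`: the function field of an integral scheme locally of finite type over `k`
  having a closed point with one-dimensional local ring is finitely generated of transcendence
  degree one over `k`.
* `isClosed_singleton_of_ne_genericPoint`, `finite_of_isClosed_of_ne_univ`: topology of integral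
  "curves" (closed points have one-dimensional local rings).
* `exists_completion_of_isIntegral`: an integral normal curve over `k` embeds as a dense open
  subscheme into an integral normal proper curve.
-/

set_option autoImplicit false
set_option linter.style.haveILetI false
universe u
open CategoryTheory CategoryTheory.Limits AlgebraicGeometry

namespace Groth.Agent.Lib.Seat85.CurveCompl

attribute [local instance] Curv2.stalkAlgebra Curv2.resAlgebra
open Groth.Agent.Lib.Helper4.VarDim

section Trdeg

variable (k : Type u) [Field k] (X : Scheme.{u}) [X.Over (Spec (CommRingCat.of k))]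
  [LocallyOfFiniteType (X ↘ Spec (CommRingCat.of k))] [IsIntegral X]

attribute [local instance] sectionsAlgebra

omit [LocallyOfFiniteType (X ↘ Spec (CommRingCat.of k))] in
/-- Tower `k → Γ(X,U) → K(X)`. -/
theorem algebraMap_functionField_eq (U : X.Opens) [Nonempty U] (c : k) :
    algebraMap Γ(X, U) X.functionField (algebraMap k Γ(X, U) c) =
      algebraMap k (X.presheaf.stalk (genericPoint X)) c := by
  change (X.presheaf.germ U (genericPoint X) _).hom
      ((X.presheaf.map (homOfLE (le_top : U ≤ ⊤)).op).hom
        (((X ↘ Spec (CommRingCat.of k)).appTop).hom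
          ((Scheme.ΓSpecIso (CommRingCat.of k)).inv.hom c))) =
    (X.presheaf.germ ⊤ (genericPoint X) trivial).hom
        (((X ↘ Spec (CommRingCat.of k)).appTop).hom
          ((Scheme.ΓSpecIso (CommRingCat.of k)).inv.hom c))
  exact X.presheaf.germ_res_apply (homOfLE (le_top : U ≤ ⊤)) (genericPoint X) _ _

theorem trdeg_eq_one_and_fg (x : X) (hx : IsClosed ({x} : Set X))
    (hdim : ringKrullDim (X.presheaf.stalk x) = 1) :
    Algebra.trdeg k (X.presheaf.stalk (genericPoint X)) = 1 ∧
      (⊤ : IntermediateField k (X.presheaf.stalk (genericPoint X))).FG := by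
  obtain ⟨U, hU, hxU, -⟩ := exists_isAffineOpen_mem_and_subset (U := ⊤) (x := x) trivial
  have : Nonempty U := ⟨⟨x, hxU⟩⟩
  have hft := finiteType_sections k X hU
  have hfrac : IsFractionRing Γ(X, U) X.functionField :=
    functionField_isFractionRing_of_isAffineOpen X U hU
  have htower : IsScalarTower k Γ(X, U) (X.presheaf.stalk (genericPoint X)) :=
    IsScalarTower.of_algebraMap_eq fun c => (algebraMap_functionField_eq k X U c).symm
  obtain ⟨n, hn1, hn2, hn3⟩ := Groth.Agent.Lib.Helper14.FTDim.exists_dim k Γ(X, U)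
  -- the prime of `x` is maximal
  set p := hU.primeIdealOf ⟨x, hxU⟩ with hp
  have hpx : hU.fromSpec p = x := hU.fromSpec_primeIdealOf ⟨x, hxU⟩
  have hpcl : IsClosed ({p} : Set (PrimeSpectrum Γ(X, U))) := by
    have : ({p} : Set (PrimeSpectrum Γ(X, U))) = hU.fromSpec ⁻¹' {x} := by
      ext q
      simp only [Set.mem_singleton_iff]
      constructor
      · rintro rfl; exact hpx
      · intro h; exact hU.fromSpec.isOpenEmbedding.injective (h.trans hpx.symm)
    rw [this]
    exact hx.preimage hU.fromSpec.continuous
  have hpmax : p.asIdeal.IsMaximal := (PrimeSpectrum.isClosed_singleton_iff_isMaximal p).mp hpcl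
  have hht : p.asIdeal.height = n := hn3 p.asIdeal
  letI := TopCat.Presheaf.algebra_section_stalk X.presheaf ⟨x, hxU⟩
  haveI := hU.isLocalization_stalk ⟨x, hxU⟩
  have hd : ringKrullDim (X.presheaf.stalk x) = p.asIdeal.height :=
    IsLocalization.AtPrime.ringKrullDim_eq_height p.asIdeal (X.presheaf.stalk x)
  have hn : n = 1 := by
    rw [hdim, hht] at hd
    exact_mod_cast hd.symm
  subst hn
  constructor
  · let e : FractionRing Γ(X, U) ≃ₐ[k] X.functionField :=
      (FractionRing.algEquiv Γ(X, U) X.functionField).restrictScalars k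
    rw [← e.trdeg_eq, hn1]
    simp
  · haveI : Algebra.EssFiniteType Γ(X, U) X.functionField :=
      Algebra.EssFiniteType.of_isLocalization _ (nonZeroDivisors Γ(X, U))
    haveI : Algebra.EssFiniteType k (X.presheaf.stalk (genericPoint X)) :=
      Algebra.EssFiniteType.comp k Γ(X, U) X.functionField
    exact IntermediateField.fg_top _ _

omit [LocallyOfFiniteType (X ↘ Spec (CommRingCat.of k))] [IsIntegral X] in
/-- The structure morphism restricted to `Spec 𝒪_{X,x}`. -/
theorem fromSpecStalk_over (x : X) :
    X.fromSpecStalk x ≫ (X ↘ Spec (CommRingCat.of k)) =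
      Spec.map (CommRingCat.ofHom (Curv2.stalkMap k X x)) := by
  have h1 : (X ↘ Spec (CommRingCat.of k)) = X.toSpecΓ ≫
      Spec.map ((Scheme.ΓSpecIso (CommRingCat.of k)).inv ≫
        (X ↘ Spec (CommRingCat.of k)).appTop) := by
    rw [Spec.map_comp, ← Scheme.toSpecΓ_naturality_assoc, toSpecΓ_SpecMap_ΓSpecIso_inv,
      Category.comp_id]
  rw [h1, Scheme.fromSpecStalk_toSpecΓ_assoc, ← Spec.map_comp]
  rfl

end Trdeg

section Topology

variable (X : Scheme.{u}) [IsIntegral X]

/-- On an integral quasi-compact scheme whose closed points have one-dimensional local rings,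
every point other than the generic point is closed. -/
theorem isClosed_singleton_of_ne_genericPoint [CompactSpace X]
    (hcurve : ∀ x : X, IsClosed ({x} : Set X) → ringKrullDim (X.presheaf.stalk x) = 1)
    (x : X) (hx : x ≠ genericPoint X) : IsClosed ({x} : Set X) := by
  obtain ⟨z, hz, hzc⟩ := (isClosed_closure (s := ({x} : Set X))).exists_closed_singleton
    ⟨x, subset_closure rfl⟩
  have hxz : x ⤳ z := specializes_iff_mem_closure.mpr hz
  by_cases hzx : z = x
  · exact hzx ▸ hzc
  exfalso
  have h1 : z < x := lt_of_le_not_ge (show z ≤ x from hxz)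
    (fun h => hzx ((hxz.antisymm (show z ⤳ x from h)).eq).symm)
  have hηx : genericPoint X ⤳ x := genericPoint_specializes x
  have h2 : x < genericPoint X := lt_of_le_not_ge (show x ≤ genericPoint X from hηx)
    (fun h => hx ((hηx.antisymm (show x ⤳ genericPoint X from h)).eq).symm)
  have hc := hcurve z hzc
  rw [ringKrullDim_stalk_eq_coheight] at hc
  have hc' : Order.coheight z = 1 := by exact_mod_cast hc
  have h3 := Order.coheight_add_one_le h1
  have h4 := Order.coheight_add_one_le h2
  rw [hc'] at h3
  have h5 : (1 : ℕ∞) ≤ Order.coheight x := le_trans (by simp) h4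
  have h6 : (1 : ℕ∞) + 1 ≤ 1 := le_trans (add_le_add_left h5 1) h3
  exact absurd h6 (by decide)

/-- Proper closed subsets of an integral Noetherian curve are finite. -/
theorem finite_of_isClosed_of_ne_univ [CompactSpace X] [TopologicalSpace.NoetherianSpace X]
    (hcurve : ∀ x : X, IsClosed ({x} : Set X) → ringKrullDim (X.presheaf.stalk x) = 1)
    (Z : Set X) (hZ : IsClosed Z) (hne : Z ≠ Set.univ) : Z.Finite := by
  have hη : genericPoint X ∉ Z := by
    intro h
    apply hne
    rw [Set.eq_univ_iff_forall]
    intro y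
    exact hZ.closure_subset_iff.mpr (Set.singleton_subset_iff.mpr h)
      ((genericPoint_spec X).specializes (Set.mem_univ y)).mem_closure
  obtain ⟨S, hSf, hSc, hSi, rfl⟩ :=
    TopologicalSpace.NoetherianSpace.exists_finite_set_isClosed_irreducible hZ
  refine Set.Finite.sUnion hSf fun t ht => ?_
  have hg := (hSi t ht).isGenericPoint_genericPoint (hSc t ht)
  set g := (hSi t ht).genericPoint with hgdef
  have hgt : g ∈ t := hg.mem
  have hgne : g ≠ genericPoint X := by
    intro h
    exact hη ⟨t, ht, h ▸ hgt⟩
  have hgc := isClosed_singleton_of_ne_genericPoint X hcurve g hgne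
  have : t = {g} := by
    rw [← hg.def, hgc.closure_eq]
  rw [this]
  exact Set.finite_singleton g

/-- If `j` is birational at the generic point, no point with one-dimensional local ring maps
to the image of the generic point. -/
theorem ringKrullDim_eq_zero_of_map_eq {C : Scheme.{u}} (j : X ⟶ C)
    (hbir : IsIso (j.stalkMap (genericPoint X))) (x : X) (hx : j x = j (genericPoint X)) :
    ringKrullDim (X.presheaf.stalk x) = 0 := by
  have h : genericPoint X ⤳ x := genericPoint_specializes x
  have hnat := Scheme.Hom.stalkSpecializes_stalkMap j (genericPoint X) x h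
  have hiso : IsIso (C.presheaf.stalkSpecializes (j.base.hom.map_specializes h)) := by
    change IsIso (C.presheaf.stalkCongr (Inseparable.of_eq hx)).hom
    infer_instance
  have hsurj : Function.Surjective (X.presheaf.stalkSpecializes h).hom := by
    intro t
    obtain ⟨s, rfl⟩ := (ConcreteCategory.bijective_of_isIso (j.stalkMap (genericPoint X))).2 t
    obtain ⟨s', rfl⟩ := (ConcreteCategory.bijective_of_isIso
      (C.presheaf.stalkSpecializes (j.base.hom.map_specializes h))).2 s
    refine ⟨(j.stalkMap x).hom s', ?_⟩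
    have := congr($(hnat).hom s')
    simpa using this.symm
  have hinj : Function.Injective (X.presheaf.stalkSpecializes h).hom :=
    IsFractionRing.injective (X.presheaf.stalk x) X.functionField
  have e : X.presheaf.stalk x ≃+* X.functionField :=
    RingEquiv.ofBijective (X.presheaf.stalkSpecializes h).hom ⟨hinj, hsurj⟩
  rw [ringKrullDim_eq_of_ringEquiv e]
  exact ringKrullDim_eq_zero_of_field _

end Topology

section Main

theorem isIso_stalkMap_of_fromSpecStalk_comp {X C : Scheme.{u}} (j : X ⟶ C) (x : X) (y : C)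
    (ψ : C.presheaf.stalk y ⟶ X.presheaf.stalk x) [IsIso ψ]
    (h : X.fromSpecStalk x ≫ j = Spec.map ψ ≫ C.fromSpecStalk y) :
    j x = y ∧ IsIso (j.stalkMap x) := by
  have hy : j x = y := by
    let pt : ↥(Spec (X.presheaf.stalk x)) := IsLocalRing.closedPoint (X.presheaf.stalk x)
    let pt' : ↥(Spec (C.presheaf.stalk y)) := IsLocalRing.closedPoint (C.presheaf.stalk y)
    have h1 : j (X.fromSpecStalk x pt) = C.fromSpecStalk y (Spec.map ψ pt) := by
      rw [← Scheme.Hom.comp_apply, ← Scheme.Hom.comp_apply, h]
    have h2 : X.fromSpecStalk x pt = x := Scheme.fromSpecStalk_closedPoint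
    have : IsLocalHom ψ.hom := isLocalHom_of_isIso ψ
    have h3 : Spec.map ψ pt = pt' := IsLocalRing.comap_closedPoint ψ.hom
    have h4 : C.fromSpecStalk y pt' = y := Scheme.fromSpecStalk_closedPoint
    rw [h2, h3, h4] at h1
    exact h1
  subst hy
  refine ⟨rfl, ?_⟩
  have h2 := Scheme.SpecMap_stalkMap_fromSpecStalk j (x := x)
  have h3 : Spec.map (j.stalkMap x) = Spec.map ψ := by
    rw [← cancel_mono (C.fromSpecStalk (j x)), h2, h]
  rw [Spec.map_injective h3]
  infer_instance

set_option maxHeartbeats 800000 in
theorem exists_completion_of_isIntegral (k : Type u) [Field k] (X : Scheme.{u})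
    [X.Over (Spec (CommRingCat.of k))] [LocallyOfFiniteType (X ↘ (Spec (CommRingCat.of k)))]
    [QuasiCompact (X ↘ (Spec (CommRingCat.of k)))] [IsSeparated (X ↘ (Spec (CommRingCat.of k)))]
    [IsIntegral X]
    (hcurve : ∀ x : X, IsClosed ({x} : Set X) → ringKrullDim (X.presheaf.stalk x) = 1)
    (hnorm : Pi1.IsNormalScheme X) :
    ∃ (C : Scheme.{u}) (sc : C ⟶ Spec (CommRingCat.of k)) (j : X ⟶ C),
      IsIntegral C ∧ IsOpenImmersion j ∧ Dense (Set.range j) ∧
      j ≫ sc = X ↘ (Spec (CommRingCat.of k)) ∧ IsProper sc ∧ Pi1.IsNormalScheme C ∧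
      ∀ x : C, IsClosed ({x} : Set C) → ringKrullDim (C.presheaf.stalk x) = 1 := by
  have : CompactSpace X := QuasiCompact.compactSpace_of_compactSpace (X ↘ Spec (CommRingCat.of k))
  have : IsLocallyNoetherian X :=
    LocallyOfFiniteType.isLocallyNoetherian (X ↘ Spec (CommRingCat.of k))
  have : IsNoetherian X := {}
  -- a closed point
  obtain ⟨z, -, hzc⟩ := (isClosed_univ (X := X)).exists_closed_singleton
    ⟨genericPoint X, trivial⟩
  obtain ⟨htr, hfg⟩ := trdeg_eq_one_and_fg k X z hzc (hcurve z hzc)
  -- the complete curve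
  obtain ⟨C, hCover, hCint, hCproper, hCnorm, hCdim, e, he⟩ :=
    Groth.Agent.S2345.result k (X.presheaf.stalk (genericPoint X)) hfg htr
  refine ⟨C, C ↘ Spec (CommRingCat.of k), ?_⟩
  let ψ : C.presheaf.stalk (genericPoint C) ⟶ X.presheaf.stalk (genericPoint X) :=
    e.toCommRingCatIso.hom
  have hψiso : IsIso ψ := by dsimp only [ψ]; infer_instance
  let φ : Spec (X.presheaf.stalk (genericPoint X)) ⟶ C :=
    Spec.map ψ ≫ C.fromSpecStalk (genericPoint C)
  have hφ : φ ≫ (C ↘ Spec (CommRingCat.of k)) =
      X.fromSpecStalk (genericPoint X) ≫ (X ↘ Spec (CommRingCat.of k)) := by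
    dsimp only [φ]
    rw [Category.assoc, fromSpecStalk_over, fromSpecStalk_over, ← Spec.map_comp]
    congr 1
    ext c
    exact he c
  obtain ⟨U, hηU, f, hf1, hf2⟩ := spread_out_of_isGermInjective'
    (X ↘ Spec (CommRingCat.of k)) (C ↘ Spec (CommRingCat.of k)) φ hφ
  have hUd : Dense (U : Set X) := U.isOpen.dense ⟨_, hηU⟩
  have : Nonempty X := ⟨genericPoint X⟩
  obtain ⟨j, ⟨hj1, hj2⟩, -⟩ := Groth.Agent.S2344.result k X C hcurve hnorm U hUd f hf2
  have key : X.fromSpecStalk (genericPoint X) ≫ j =
      Spec.map ψ ≫ C.fromSpecStalk (genericPoint C) := by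
    rw [← U.fromSpecStalkOfMem_ι (genericPoint X) hηU, Category.assoc, hj1, ← hf1]
  obtain ⟨hgen, hbir⟩ := isIso_stalkMap_of_fromSpecStalk_comp j _ _ ψ key
  refine ⟨j, hCint, ?_⟩
  have : CompactSpace C := QuasiCompact.compactSpace_of_compactSpace (C ↘ Spec (CommRingCat.of k))
  have : IsLocallyNoetherian C :=
    LocallyOfFiniteType.isLocallyNoetherian (C ↘ Spec (CommRingCat.of k))
  have : IsNoetherian C := {}
  have : LocallyOfFiniteType (j ≫ (C ↘ Spec (CommRingCat.of k))) := by rw [hj2]; infer_instance
  have : IsSeparated (j ≫ (C ↘ Spec (CommRingCat.of k))) := by rw [hj2]; infer_instance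
  have : LocallyOfFiniteType j := locallyOfFiniteType_of_comp j (C ↘ Spec (CommRingCat.of k))
  have : IsSeparated j := IsSeparated.of_comp j (C ↘ Spec (CommRingCat.of k))
  -- fibres are finite
  have hfib : ∀ y : C, (j ⁻¹' {y}).Finite := by
    intro y
    by_cases hy : y = genericPoint C
    · subst hy
      refine (Set.finite_singleton (genericPoint X)).subset ?_
      intro x hx
      by_contra hne
      have hxc := isClosed_singleton_of_ne_genericPoint X hcurve x hne
      have h1 := hcurve x hxc
      have h0 := ringKrullDim_eq_zero_of_map_eq X j hbir x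
        ((show j x = genericPoint C from hx).trans hgen.symm)
      rw [h0] at h1
      exact absurd h1 (by norm_num)
    · have hyc := isClosed_singleton_of_ne_genericPoint C hCdim y hy
      refine finite_of_isClosed_of_ne_univ X hcurve _ (hyc.preimage j.continuous) ?_
      intro h
      have h1 : genericPoint X ∈ j ⁻¹' {y} := h ▸ Set.mem_univ _
      exact hy ((show j (genericPoint X) = y from h1).symm.trans hgen)
  have : LocallyQuasiFinite j := .of_finite_preimage_singleton j hfib
  have hopen : IsOpenImmersion j :=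
    (Groth.Agent.S4809.result (fun y => (hCnorm y).2) j hgen hbir).2 inferInstance
  refine ⟨hopen, ?_, hj2, hCproper, hCnorm, hCdim⟩
  exact j.isOpenEmbedding.isOpen_range.dense ⟨_, Set.mem_range_self (genericPoint X)⟩


/-- Variant for an integral open and closed subscheme of a (not necessarily connected) curve. -/
theorem exists_completion_opens (k : Type u) [Field k] (X : Scheme.{u})
    [X.Over (Spec (CommRingCat.of k))] [LocallyOfFiniteType (X ↘ (Spec (CommRingCat.of k)))]
    [QuasiCompact (X ↘ (Spec (CommRingCat.of k)))] [IsSeparated (X ↘ (Spec (CommRingCat.of k)))]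
    (hcurve : ∀ x : X, IsClosed ({x} : Set X) → ringKrullDim (X.presheaf.stalk x) = 1)
    (hnorm : Pi1.IsNormalScheme X) (U : X.Opens) [IsIntegral U] (hUc : IsClosed (U : Set X)) :
    ∃ (C : Scheme.{u}) (sc : C ⟶ Spec (CommRingCat.of k)) (j : U.toScheme ⟶ C),
      IsIntegral C ∧ IsOpenImmersion j ∧ Dense (Set.range j) ∧
      j ≫ sc = U.ι ≫ (X ↘ (Spec (CommRingCat.of k))) ∧ IsProper sc ∧ Pi1.IsNormalScheme C ∧
      ∀ x : C, IsClosed ({x} : Set C) → ringKrullDim (C.presheaf.stalk x) = 1 := by
  have : IsLocallyNoetherian X :=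
    LocallyOfFiniteType.isLocallyNoetherian (X ↘ Spec (CommRingCat.of k))
  letI : U.toScheme.Over (Spec (CommRingCat.of k)) := ⟨U.ι ≫ (X ↘ Spec (CommRingCat.of k))⟩
  have e : (U.toScheme ↘ Spec (CommRingCat.of k)) = U.ι ≫ (X ↘ Spec (CommRingCat.of k)) := rfl
  have : LocallyOfFiniteType (U.toScheme ↘ Spec (CommRingCat.of k)) := by rw [e]; infer_instance
  have : QuasiCompact (U.toScheme ↘ Spec (CommRingCat.of k)) := by rw [e]; infer_instance
  have : IsSeparated (U.toScheme ↘ Spec (CommRingCat.of k)) := by rw [e]; infer_instance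
  have hcl : IsClosedMap (U.ι : U.toScheme → X) :=
    (hUc.isClosedEmbedding_subtypeVal).isClosedMap
  have hcurveU : ∀ u : U.toScheme, IsClosed ({u} : Set U.toScheme) →
      ringKrullDim (U.toScheme.presheaf.stalk u) = 1 := by
    intro u hu
    rw [← Groth.Agent.Lib.Seat85.FinCoprod.ringKrullDim_stalk_map U.ι u]
    apply hcurve
    have := hcl _ hu
    rwa [Set.image_singleton] at this
  exact exists_completion_of_isIntegral k U.toScheme hcurveU
    (Groth.Agent.Lib.Seat85.FinCoprod.isNormalScheme_opens hnorm U)

end Main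

end Groth.Agent.Lib.Seat85.CurveCompl
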