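/-
Helper library (helper85): constant étale sheaves on normal schemes (generalizing helper3's
`Seat3EtConstNormal` / `Seat3EtConstGeneric`).

* `comap_bijective_of_generic`: a topological extension criterion for locally constant functions.
* `exists_generic_of_isDomain_stalk`, `comap_bijective_of_dense_quasiCompact`: on a scheme whose
  local rings are domains, locally constant functions extend uniquely from a dense quasi-compact
  open subscheme (no irreducibility or local finiteness of components needed).
* `isNormalRing_sections`, `isNormalScheme_of_smooth`, `isNormalScheme_of_etale`: schemes smooth over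
  a normal (not necessarily integral) scheme are normal.
* `isIso_unit_const_of_comap_bijective`: for ANY `g : T ⟶ X`, the unit `M_X ⟶ g_* g⁻¹ M_X` is an
  isomorphism as soon as locally constant functions on every étale `V` over `X` are those of `V ×_X T`.
* `isIso_unit_const_of_dense_quasiCompact` (= S3104), `comap_bijective_generic'`,
  `isIso_unit_const_residueField` (= S3105).
-/
import Groth.Agent.Lib.Seat3EtConstGeneric
import Groth.Agent.Lib.Seat85NormSmooth

set_option autoImplicit false
set_option linter.style.haveILetI false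
universe u
open CategoryTheory CategoryTheory.Limits AlgebraicGeometry TopologicalSpace Opposite

namespace Groth.Agent.Lib.Seat85.EtConstNormal

section Topology

/-- Let `ι : D → V` be an open embedding such that every point `v` of `V` has a generalization
`ι (ξ v)` in the image with the property that every clopen subset of `D` missing `ξ v` is missed
by a whole open neighbourhood of `v`. Then locally constant functions extend uniquely from `D`
to `V`. -/
theorem comap_bijective_of_generic {V D : Type*} [TopologicalSpace V] [TopologicalSpace D]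
    (ι : C(D, V)) (ξ : V → D) (hξ : ∀ v, ι (ξ v) ⤳ v)
    (hN : ∀ (v : V) (D' : Set D), IsClopen D' → ξ v ∉ D' →
      ∃ N : Set V, IsOpen N ∧ v ∈ N ∧ ∀ d, ι d ∈ N → d ∉ D') (M : Type*) :
    Function.Bijective (LocallyConstant.comap ι : LocallyConstant V M → LocallyConstant D M) := by
  classical
  -- locally constant functions are constant along specializations
  have hspec : ∀ (s : LocallyConstant V M) (a b : V), a ⤳ b → s a = s b := by
    intro s a b hab
    have ho : IsOpen (s ⁻¹' {s b}) := s.isLocallyConstant.isOpen_fiber _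
    exact hab.mem_open ho rfl
  constructor
  · intro s s' h
    ext v
    rw [← hspec s _ _ (hξ v), ← hspec s' _ _ (hξ v)]
    exact congrArg (fun t : LocallyConstant D M => t (ξ v)) h
  · intro s
    have hlc : IsLocallyConstant (fun v => s (ξ v)) := by
      rw [IsLocallyConstant.iff_exists_open]
      intro v
      have hcl : IsClopen (s ⁻¹' {s (ξ v)})ᶜ :=
        (s.isLocallyConstant.isClopen_fiber _).compl
      obtain ⟨N, hNo, hvN, hND⟩ := hN v _ hcl (by simp)
      refine ⟨N, hNo, hvN, ?_⟩
      intro v' hv'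
      have h1 : ι (ξ v') ∈ N := (hξ v').mem_open hNo hv'
      have h2 := hND _ h1
      simpa using h2
    refine ⟨⟨fun v => s (ξ v), hlc⟩, ?_⟩
    ext d
    show s (ξ (ι d)) = s d
    -- `ξ (ι d)` and `d`: use the clopen fibre of `s` through `d`
    by_contra hne
    have hcl : IsClopen (s ⁻¹' {s d}) := s.isLocallyConstant.isClopen_fiber _
    obtain ⟨N, hNo, hvN, hND⟩ := hN (ι d) _ hcl (by simpa using hne)
    exact hND d hvN rfl

end Topology

section Schemes

/-- In a scheme, a point `v` whose local ring is a domain has a generalization `η` (inside any given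
affine open neighbourhood `W`) such that every compact open subset of `W` not containing `η`
misses a whole neighbourhood of `v`. -/
theorem exists_generic_of_isDomain_stalk {V : Scheme.{u}} (v : V) [IsDomain (V.presheaf.stalk v)]
    (W : V.Opens) (hW : IsAffineOpen W) (hv : v ∈ W) :
    ∃ η : V, η ∈ W ∧ η ⤳ v ∧ ∀ K : Set V, IsOpen K → IsCompact K → K ⊆ W → η ∉ K →
      ∃ N : Set V, IsOpen N ∧ v ∈ N ∧ Disjoint N K := by
  set φ := (V.presheaf.germ W v hv).hom with hφ
  let p : PrimeSpectrum Γ(V, W) := ⟨RingHom.ker φ, RingHom.ker_isPrime φ⟩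
  refine ⟨hW.fromSpec p, ?_, ?_, ?_⟩
  · have : hW.fromSpec p ∈ Set.range hW.fromSpec := ⟨p, rfl⟩
    rw [hW.range_fromSpec] at this
    exact this
  · have h1 : p ⤳ hW.primeIdealOf ⟨v, hv⟩ := by
      rw [← PrimeSpectrum.le_iff_specializes]
      intro a ha
      rw [hW.primeIdealOf_eq_map_closedPoint]
      show φ a ∈ IsLocalRing.maximalIdeal _
      rw [RingHom.mem_ker.mp ha]
      exact zero_mem _
    have h2 := h1.map hW.fromSpec.continuous
    rwa [hW.fromSpec_primeIdealOf] at h2
  · intro K hKo hKc hKW hηK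
    have key : ∀ x : K, ∃ N : Set V, IsOpen N ∧ v ∈ N ∧
        ∃ O : Set V, IsOpen O ∧ x.1 ∈ O ∧ Disjoint N O := by
      rintro ⟨x, hx⟩
      obtain ⟨f, hfK, hxf⟩ := hW.exists_basicOpen_le (V := ⟨K, hKo⟩) ⟨x, hx⟩ (hKW hx)
      have hfp : φ f = 0 := by
        by_contra hf
        apply hηK
        apply hfK
        have h3 : p ∈ PrimeSpectrum.basicOpen f := hf
        rw [← hW.fromSpec_preimage_basicOpen] at h3
        exact h3
      have h4 : V.presheaf.germ W v hv f = V.presheaf.germ W v hv 0 := by
        rw [map_zero]; exact hfp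
      obtain ⟨N, hvN, iU, iV, hres⟩ := V.presheaf.germ_eq v hv hv f 0 h4
      rw [map_zero] at hres
      refine ⟨N, N.2, hvN, V.basicOpen f, (V.basicOpen f).2, hxf, ?_⟩
      have h5 : N ⊓ V.basicOpen f = ⊥ := by
        rw [← Scheme.basicOpen_res V f iU.op, hres, Scheme.basicOpen_zero]
      rw [Set.disjoint_iff_inter_eq_empty]
      exact congrArg (fun U : V.Opens => (U : Set V)) h5
    choose N hNo hvN O hOo hxO hdisj using key
    obtain ⟨t, ht⟩ := hKc.elim_finite_subcover (fun x : K => O x) hOo
      (fun x hx => Set.mem_iUnion.2 ⟨⟨x, hx⟩, hxO _⟩)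
    refine ⟨⋂ x ∈ t, N x, isOpen_biInter_finset (fun x _ => hNo x),
      Set.mem_iInter₂.2 (fun x _ => hvN x), ?_⟩
    rw [Set.disjoint_left]
    intro y hyN hyK
    obtain ⟨x, hxt, hyO⟩ := Set.mem_iUnion₂.1 (ht hyK)
    exact Set.disjoint_left.1 (hdisj x) (Set.mem_iInter₂.1 hyN x hxt) hyO

/-- On a scheme all of whose local rings are domains, locally constant functions extend uniquely
from a dense quasi-compact open subscheme. -/
theorem comap_bijective_of_dense_quasiCompact {V D : Scheme.{u}}
    (hV : ∀ v : V, IsDomain (V.presheaf.stalk v))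
    (ι : D ⟶ V) [IsOpenImmersion ι] [QuasiCompact ι] (hd : Dense (Set.range ι)) (M : Type*) :
    Function.Bijective (LocallyConstant.comap ⟨ι, ι.continuous⟩ :
      LocallyConstant V M → LocallyConstant D M) := by
  have key : ∀ v : V, ∃ ξ : D, ι ξ ⤳ v ∧ ∀ D' : Set D, IsClopen D' → ξ ∉ D' →
      ∃ N : Set V, IsOpen N ∧ v ∈ N ∧ ∀ d, ι d ∈ N → d ∉ D' := by
    intro v
    haveI := hV v
    obtain ⟨_, ⟨W, hW, rfl⟩, hvW, -⟩ :=
      V.isBasis_affineOpens.exists_subset_of_mem_open (Set.mem_univ v) isOpen_univ
    obtain ⟨η, hηW, hηv, hη⟩ := exists_generic_of_isDomain_stalk v W hW hvW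
    have hcW : IsCompact (ι ⁻¹' (W : Set V)) :=
      QuasiCompact.isCompact_preimage (f := ι) _ W.2 hW.isCompact
    -- `η` lies in the image
    have hηr : η ∈ Set.range ι := by
      by_contra hne
      have hK : ι '' (ι ⁻¹' (W : Set V)) = Set.range ι ∩ W := by
        rw [Set.image_preimage_eq_inter_range, Set.inter_comm]
      obtain ⟨N, hNo, hvN, hNK⟩ := hη (Set.range ι ∩ W) (ι.isOpenEmbedding.isOpen_range.inter W.2)
        (hK ▸ hcW.image ι.continuous) Set.inter_subset_right (fun h => hne h.1)
      obtain ⟨y, ⟨hyN, hyW⟩, hyr⟩ := hd.inter_open_nonempty (N ∩ W) (hNo.inter W.2) ⟨v, hvN, hvW⟩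
      exact Set.disjoint_left.1 hNK hyN ⟨hyr, hyW⟩
    obtain ⟨ξ, rfl⟩ := hηr
    refine ⟨ξ, hηv, ?_⟩
    intro D' hD' hξD'
    have hKc : IsCompact (ι '' (D' ∩ ι ⁻¹' (W : Set V))) :=
      (hcW.inter_left hD'.isClosed).image ι.continuous
    have hKo : IsOpen (ι '' (D' ∩ ι ⁻¹' (W : Set V))) :=
      ι.isOpenEmbedding.isOpenMap _ (hD'.isOpen.inter (W.2.preimage ι.continuous))
    obtain ⟨N, hNo, hvN, hNK⟩ := hη _ hKo hKc
      (by rintro _ ⟨d, ⟨-, hd⟩, rfl⟩; exact hd)
      (by rintro ⟨d, ⟨hdD', -⟩, hdξ⟩
          exact hξD' (ι.isOpenEmbedding.injective hdξ ▸ hdD'))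
    refine ⟨N ∩ W, hNo.inter W.2, ⟨hvN, hvW⟩, ?_⟩
    rintro d ⟨hdN, hdW⟩ hdD'
    exact Set.disjoint_left.1 hNK hdN ⟨d, ⟨hdD', hdW⟩, rfl⟩
  choose ξ hξ hN using key
  exact comap_bijective_of_generic ⟨ι, ι.continuous⟩ ξ hξ hN M

/-- Sections over an affine open of a normal scheme form a normal ring. -/
theorem isNormalRing_sections {S : Scheme.{u}} (hS : Pi1.IsNormalScheme S) (V : S.Opens)
    (hV : IsAffineOpen V) : EGA4.IsNormalRing Γ(S, V) := by
  intro p hp
  let y : PrimeSpectrum Γ(S, V) := ⟨p, hp⟩
  have hy : hV.fromSpec y ∈ (V : Set S) := by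
    rw [← hV.range_fromSpec]; exact ⟨y, rfl⟩
  letI := TopCat.Presheaf.algebra_section_stalk S.presheaf ⟨hV.fromSpec y, hy⟩
  haveI : IsLocalization p.primeCompl (S.presheaf.stalk (hV.fromSpec y)) :=
    hV.isLocalization_stalk' y hy
  let e : Localization.AtPrime p ≃ₐ[Γ(S, V)] S.presheaf.stalk (hV.fromSpec y) :=
    IsLocalization.algEquiv p.primeCompl _ _
  obtain ⟨hd, hic⟩ := hS (hV.fromSpec y)
  exact ⟨e.toMulEquiv.isDomain _, IsIntegrallyClosed.of_equiv e.symm.toRingEquiv⟩

/-- A scheme smooth over a normal scheme is normal. -/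
theorem isNormalScheme_of_smooth {P S : Scheme.{u}} (hS : Pi1.IsNormalScheme S) (g : P ⟶ S)
    [Smooth g] : Pi1.IsNormalScheme P := by
  intro x
  obtain ⟨_, ⟨V, hV, rfl⟩, hxV, -⟩ :=
    S.isBasis_affineOpens.exists_subset_of_mem_open (Set.mem_univ (g x)) isOpen_univ
  obtain ⟨_, ⟨U, hU, rfl⟩, hxU, hUV⟩ := P.isBasis_affineOpens.exists_subset_of_mem_open
    (show x ∈ (g ⁻¹ᵁ V : Set P) from hxV) (g ⁻¹ᵁ V).isOpen
  have hsm : (g.appLE V U hUV).hom.Smooth :=
    HasRingHomProperty.appLE (P := @Smooth) g inferInstance ⟨V, hV⟩ ⟨U, hU⟩ hUV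
  algebraize [(g.appLE V U hUV).hom]
  have hN := Groth.Agent.Lib.Helper6.SmNorm.isNormalRing_of_smooth
    Γ(S, V) Γ(P, U) (isNormalRing_sections hS V hV)
  let _ := TopCat.Presheaf.algebra_section_stalk P.presheaf (⟨x, hxU⟩ : U)
  have hloc := hU.isLocalization_stalk ⟨x, hxU⟩
  obtain ⟨hd, hic⟩ := hN (hU.primeIdealOf ⟨x, hxU⟩).asIdeal
  let e := IsLocalization.algEquiv (hU.primeIdealOf ⟨x, hxU⟩).asIdeal.primeCompl
    (P.presheaf.stalk x) (Localization.AtPrime (hU.primeIdealOf ⟨x, hxU⟩).asIdeal)
  exact ⟨e.toMulEquiv.isDomain _, IsIntegrallyClosed.of_equiv e.symm.toRingEquiv⟩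

theorem isNormalScheme_of_etale {P S : Scheme.{u}} (hS : Pi1.IsNormalScheme S) (g : P ⟶ S)
    [Etale g] : Pi1.IsNormalScheme P :=
  isNormalScheme_of_smooth hS g

end Schemes

section Chase

open Groth.Agent.Lib.Seat3.EtConstLC Groth.Agent.Lib.Helper9.EtPull
open Groth.Agent.Lib.Seat3.EtConstGeneric

variable {X : Scheme.{u}} (M : Type) [AddCommGroup M]

set_option backward.isDefEq.respectTransparency.types false in
/-- For any morphism `g : T ⟶ X`: if for every étale `V` over `X` locally constant functions on `V`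
and on `V ×_X T` agree, then the constant sheaf `M_X` is `g_*` of its pullback. -/
theorem isIso_unit_const_of_comap_bijective {T : Scheme.{u}} (g : T ⟶ X)
    (h : ∀ (V : Scheme.{u}) (p : V ⟶ X) [Etale p], Function.Bijective
      (LocallyConstant.comap ⟨pullback.fst p g, (pullback.fst p g).continuous⟩ :
        LocallyConstant V M → LocallyConstant ↥(pullback p g) M)) :
    IsIso ((EtCoh.pullPushAdj g).unit.app (EtCoh.const X M)) := by
  have h1 := unit_pullConst_eq M g
  have hρ : IsIso (rhoLC M g) := by
    have h4 : IsIso ((sheafToPresheaf _ _).map (rhoLC M g)) := by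
      apply (config := { allowSynthFailures := true }) NatIso.isIso_of_isIso_app
      intro P
      obtain ⟨P⟩ := P
      show IsIso ((rhoLC M g).hom.app (op P))
      rw [ConcreteCategory.isIso_iff_bijective]
      have hpet : Etale (show P.left ⟶ X from P.hom) := inferInstanceAs (Etale P.hom)
      exact bijective_ulift _ (h P.left (show P.left ⟶ X from P.hom))
    exact isIso_of_reflects_iso _ (sheafToPresheaf _ _)
  have h5 : IsIso ((EtCoh.pullPushAdj g).unit.app (EtCoh.const X M) ≫
      (EtCoh.push g).map (EtCore.pullConst g M).hom) := by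
    rw [h1]
    infer_instance
  exact IsIso.of_isIso_comp_right _ ((EtCoh.push g).map (EtCore.pullConst g M).hom)

/-- **S3104.** On a normal scheme, the constant sheaf is the direct image of its restriction to any
dense quasi-compact open subscheme. -/
theorem isIso_unit_const_of_dense_quasiCompact (hX : Pi1.IsNormalScheme X) {U : Scheme.{u}}
    (j : U ⟶ X) [IsOpenImmersion j] [QuasiCompact j] (hj : Dense (Set.range j)) :
    IsIso ((EtCoh.pullPushAdj j).unit.app (EtCoh.const X M)) := by
  refine isIso_unit_const_of_comap_bijective M j ?_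
  intro V p _
  have hVn := isNormalScheme_of_etale hX p
  refine comap_bijective_of_dense_quasiCompact (fun v => (hVn v).1) (pullback.fst p j) ?_ M
  rw [Scheme.Pullback.range_fst]
  exact hj.preimage p.isOpenMap

end Chase

section Generic

open Groth.Agent.Lib.Seat3.EtConstGeneric

/-- Variant of helper3's `comap_bijective_generic` for any preimmersion with image the generic
point. -/
theorem comap_bijective_generic' {V X T : Scheme.{u}} [IsIntegral X]
    (hN : ∀ x : X, IsIntegrallyClosed (X.presheaf.stalk x)) (p : V ⟶ X) [Etale p]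
    (g : T ⟶ X) [IsPreimmersion g] (hrg : Set.range g = {genericPoint X}) (M : Type*) :
    Function.Bijective
      (LocallyConstant.comap ⟨pullback.fst p g, (pullback.fst p g).continuous⟩ :
        LocallyConstant V M → LocallyConstant ↥(pullback p g) M) := by
  set pr := pullback.fst p g with hpr
  have hlqf := locallyQuasiFinite_of_etale p
  let F : Set V := p ⁻¹' {genericPoint X}
  have hrange : Set.range pr = F := by
    rw [hpr, Scheme.Pullback.range_fst, hrg]
  have hFdense : Dense F := by
    rw [dense_iff_inter_open]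
    intro O hO hOne
    have hO' : IsOpen (p '' O) := p.isOpenMap O hO
    have hη : genericPoint X ∈ p '' O :=
      ((genericPoint_spec X).mem_open_set_iff hO').mpr (by
        rw [Set.univ_inter]
        exact hOne.image _)
    obtain ⟨o, ho, hpo⟩ := hη
    exact ⟨o, ho, hpo⟩
  have hFdisc : _root_.IsDiscrete F := p.isDiscrete_preimage_singleton (genericPoint X)
  have hinj : Function.Injective pr := pr.isEmbedding.injective
  refine comap_bijective_of_denseRange ⟨pr, pr.continuous⟩ ?_ ?_ M
  · show Dense (Set.range pr)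
    rw [hrange]
    exact hFdense
  · intro v
    obtain ⟨N, hNo, hvN, hNirr⟩ :=
      Groth.Agent.Lib.Seat3.EtConstNormal.exists_preirreducible_nhd hN p v
    refine ⟨N, hNo, hvN, Set.Subsingleton.isPreconnected ?_⟩
    intro d hd d' hd'
    apply hinj
    have hF : ∀ e, pr e ∈ F := fun e => by
      rw [← hrange]
      exact ⟨e, rfl⟩
    exact subsingleton_inter_of_isDiscrete hFdense hFdisc hNo hNirr ⟨hd, hF d⟩ ⟨hd', hF d'⟩

/-- **S3105.** On an integral normal scheme, the constant sheaf is the direct image of the constant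
sheaf on the spectrum of the residue field of the generic point. -/
theorem isIso_unit_const_residueField (X : Scheme.{u}) [IsIntegral X]
    (hN : ∀ x : X, IsIntegrallyClosed (X.presheaf.stalk x)) (M : Type) [AddCommGroup M] :
    IsIso ((EtCoh.pullPushAdj (X.fromSpecResidueField (genericPoint X))).unit.app
      (EtCoh.const X M)) := by
  refine isIso_unit_const_of_comap_bijective M _ ?_
  intro V p _
  exact comap_bijective_generic' hN p _ (Scheme.range_fromSpecResidueField _) M

end Generic

end Groth.Agent.Lib.Seat85.EtConstNormal
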