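/-
Helper library (helper85): a locally quasi-finite morphism of integral schemes mapping the generic
point to the generic point induces a finite (in particular integral) extension of function fields.
-/
import Mathlib.AlgebraicGeometry.FunctionField
import Mathlib.AlgebraicGeometry.Morphisms.QuasiFinite

set_option autoImplicit false
universe u

open AlgebraicGeometry CategoryTheory TopologicalSpace

namespace Groth.Agent.Lib.Seat85.FunFieldAlg

variable {X Y : Scheme.{u}} [IsIntegral X] [IsIntegral Y]

/-- The map of function fields induced by a morphism mapping generic point to generic point. -/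
noncomputable def funFieldMap (f : X ⟶ Y) (hgen : f (genericPoint X) = genericPoint Y) :
    Y.functionField ⟶ X.functionField :=
  Y.presheaf.stalkSpecializes (Inseparable.of_eq hgen).specializes ≫ f.stalkMap (genericPoint X)

theorem germ_funFieldMap (f : X ⟶ Y) (hgen : f (genericPoint X) = genericPoint Y)
    (U : Y.Opens) (V : X.Opens) (e : V ≤ f ⁻¹ᵁ U) [Nonempty U] [Nonempty V] :
    Y.germToFunctionField U ≫ funFieldMap f hgen = f.appLE U V e ≫ X.germToFunctionField V := by
  have hηV : genericPoint X ∈ V :=
    ((genericPoint_spec X).mem_open_set_iff V.isOpen).mpr (by simpa using ‹Nonempty V›)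
  have hfη : f (genericPoint X) ∈ U := e hηV
  unfold funFieldMap Scheme.germToFunctionField
  rw [← Category.assoc, Y.presheaf.germ_stalkSpecializes, Scheme.Hom.germ_stalkMap,
    Scheme.Hom.appLE, Category.assoc, X.presheaf.germ_res]

theorem funFieldMap_finite (f : X ⟶ Y) [LocallyQuasiFinite f]
    (hgen : f (genericPoint X) = genericPoint Y) : (funFieldMap f hgen).hom.Finite := by
  obtain ⟨_, ⟨U, hU, rfl⟩, hηU, -⟩ := Y.isBasis_affineOpens.exists_subset_of_mem_open
    (Set.mem_univ (genericPoint Y)) isOpen_univ
  have hηfU : genericPoint X ∈ f ⁻¹ᵁ U := by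
    show f (genericPoint X) ∈ U
    rw [hgen]; exact hηU
  obtain ⟨_, ⟨V, hV, rfl⟩, hηV, hVU⟩ := X.isBasis_affineOpens.exists_subset_of_mem_open
    hηfU (f ⁻¹ᵁ U).isOpen
  have : Nonempty U := ⟨⟨_, hηU⟩⟩
  have : Nonempty V := ⟨⟨_, hηV⟩⟩
  have hqf : (f.appLE U V hVU).hom.QuasiFinite :=
    HasRingHomProperty.appLE (P := @LocallyQuasiFinite) f ‹_› ⟨U, hU⟩ ⟨V, hV⟩ hVU
  let algAB : Algebra Γ(Y, U) Γ(X, V) := (f.appLE U V hVU).hom.toAlgebra
  let algKL : Algebra Y.functionField X.functionField := (funFieldMap f hgen).hom.toAlgebra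
  let algAL : Algebra Γ(Y, U) X.functionField :=
    ((algebraMap Γ(X, V) X.functionField).comp (algebraMap Γ(Y, U) Γ(X, V))).toAlgebra
  have : IsScalarTower Γ(Y, U) Γ(X, V) X.functionField := IsScalarTower.of_algebraMap_eq' rfl
  have : IsScalarTower Γ(Y, U) Y.functionField X.functionField := by
    apply IsScalarTower.of_algebraMap_eq'
    have h := germ_funFieldMap f hgen U V hVU
    exact (congrArg CommRingCat.Hom.hom h).symm
  have : Algebra.QuasiFinite Γ(Y, U) Γ(X, V) := hqf
  have : IsFractionRing Γ(X, V) X.functionField :=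
    functionField_isFractionRing_of_isAffineOpen X V hV
  have : IsDomain Γ(X, V) := IsIntegral.component_integral V
  have : Algebra.QuasiFinite Γ(X, V) X.functionField := inferInstance
  have h1 : Algebra.QuasiFinite Γ(Y, U) X.functionField :=
    Algebra.QuasiFinite.trans Γ(Y, U) Γ(X, V) X.functionField
  have h2 : Algebra.QuasiFinite Y.functionField X.functionField :=
    Algebra.QuasiFinite.of_restrictScalars Γ(Y, U) Y.functionField X.functionField
  have h3 : Module.Finite Y.functionField X.functionField := Module.Finite.of_quasiFinite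
  exact h3

theorem funFieldMap_isIntegral (f : X ⟶ Y) [LocallyQuasiFinite f]
    (hgen : f (genericPoint X) = genericPoint Y) : (funFieldMap f hgen).hom.IsIntegral :=
  (funFieldMap_finite f hgen).to_isIntegral

end Groth.Agent.Lib.Seat85.FunFieldAlg
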