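import Groth.Prelude.Def_W4c5qcohlocdualityLoc
import Mathlib.CategoryTheory.Abelian.GrothendieckCategory.Subobject
import Mathlib.CategoryTheory.Abelian.Refinements
import Mathlib.CategoryTheory.Abelian.Exact
import Mathlib.CategoryTheory.Preadditive.Injective.Basic
import Mathlib.Order.Zorn

/-!
# Subobjects in Grothendieck abelian categories: directed unions, complements, uniformity of
indecomposable injectives.
-/

set_option autoImplicit false
universe w v u
open CategoryTheory CategoryTheory.Limits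

namespace Groth.Agent.Lib.Seat85.GabLocBasic

section abelian
variable {C : Type u} [Category.{v} C] [Abelian C]

lemma subobject_eq_bot_of_arrow_eq_zero {X : C} (S : Subobject X) (h : S.arrow = 0) : S = ⊥ := by
  rw [← Subobject.mk_arrow S]
  exact Subobject.mk_eq_bot_iff_zero.mpr h

lemma subobject_arrow_eq_zero_of_eq_bot {X : C} (S : Subobject X) (h : S = ⊥) : S.arrow = 0 := by
  subst h
  exact Subobject.bot_arrow

lemma factors_of_comp_cokernel_eq_zero {X W : C} (Y : Subobject X) (g : W ⟶ X)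
    (hg : g ≫ cokernel.π Y.arrow = 0) : Y.Factors g :=
  (Subobject.factors_iff _ _).mpr
    ⟨Abelian.monoLift Y.arrow g hg, Abelian.monoLift_comp Y.arrow g hg⟩

lemma comp_cokernel_eq_zero_of_factors {X W : C} (Y : Subobject X) (g : W ⟶ X)
    (hg : Y.Factors g) : g ≫ cokernel.π Y.arrow = 0 := by
  rw [← Y.factorThru_arrow g hg, Category.assoc, cokernel.condition, comp_zero]

lemma inf_eq_bot_iff_mono {X : C} (S Y : Subobject X) :
    S ⊓ Y = ⊥ ↔ Mono (S.arrow ≫ cokernel.π Y.arrow) := by
  constructor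
  · intro h
    apply Preadditive.mono_of_cancel_zero
    intro W g hg
    rw [← Category.assoc] at hg
    have h1 : Y.Factors (g ≫ S.arrow) := factors_of_comp_cokernel_eq_zero Y _ hg
    have h2 : S.Factors (g ≫ S.arrow) := Subobject.factors_comp_arrow g
    have h3 : (S ⊓ Y).Factors (g ≫ S.arrow) := (Subobject.inf_factors _).mpr ⟨h2, h1⟩
    rw [h, Subobject.bot_factors_iff_zero] at h3
    exact (cancel_mono S.arrow).mp (by rw [h3, zero_comp])
  · intro h
    apply subobject_eq_bot_of_arrow_eq_zero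
    have h1 : S.Factors (S ⊓ Y).arrow := Subobject.inf_arrow_factors_left S Y
    have h2 : Y.Factors (S ⊓ Y).arrow := Subobject.inf_arrow_factors_right S Y
    have ha := S.factorThru_arrow _ h1
    have hb := Y.factorThru_arrow _ h2
    have : S.factorThru _ h1 ≫ S.arrow ≫ cokernel.π Y.arrow = 0 := by
      rw [← Category.assoc, ha, ← hb, Category.assoc, cokernel.condition, comp_zero]
    have ha0 : S.factorThru _ h1 = 0 :=
      (cancel_mono (S.arrow ≫ cokernel.π Y.arrow)).mp (by rw [this, zero_comp])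
    rw [← ha, ha0, zero_comp]

/-- If a morphism factoring through both `S` and `Y` must vanish, then `S ⊓ Y = ⊥`. -/
lemma inf_eq_bot_of_forall {X : C} (S Y : Subobject X)
    (h : ∀ (x : ((S ⊓ Y : Subobject X) : C) ⟶ X), S.Factors x → Y.Factors x → x = 0) :
    S ⊓ Y = ⊥ :=
  subobject_eq_bot_of_arrow_eq_zero _
    (h _ (Subobject.inf_arrow_factors_left S Y) (Subobject.inf_arrow_factors_right S Y))

lemma isZero_of_eq_bot {X : C} (S : Subobject X) (h : S = ⊥) : IsZero (S : C) := by
  subst h
  exact IsZero.of_iso (isZero_zero C) Subobject.botCoeIsoZero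

lemma eq_bot_of_isZero {X : C} (S : Subobject X) (h : IsZero (S : C)) : S = ⊥ :=
  subobject_eq_bot_of_arrow_eq_zero S (h.eq_of_src _ _)

end abelian

variable {C : Type u} [Category.{v} C] [Abelian C] [IsGrothendieckAbelian.{w} C]

/-- The functor from a preorder to `MonoOver Z` attached to a monotone family of subobjects of `X`
and a morphism `q : X ⟶ Z` which is a monomorphism on each of them. -/
noncomputable def monoOverFunctor {X : C} {J : Type w} [Preorder J] (S : J → Subobject X)
    (hS : Monotone S) {Z : C} (q : X ⟶ Z) (hq : ∀ j, Mono ((S j).arrow ≫ q)) : J ⥤ MonoOver Z where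
  obj j := haveI := hq j; MonoOver.mk ((S j).arrow ≫ q)
  map {i j} f := MonoOver.homMk ((S i).ofLE (S j) (hS (leOfHom f))) (by
    change (S i).ofLE (S j) _ ≫ (S j).arrow ≫ q = (S i).arrow ≫ q
    rw [Subobject.ofLE_arrow_assoc])
  map_id _ := Subsingleton.elim _ _
  map_comp _ _ := Subsingleton.elim _ _

/-- AB5 in lattice form (disjointness version): if every member of a directed family of subobjects
is disjoint from `Y`, so is their supremum. -/
lemma iSup_inf_eq_bot {X : C} {J : Type w} [Preorder J] [IsDirected J (· ≤ ·)] [Nonempty J]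
    (S : J → Subobject X) (hS : Monotone S) (Y : Subobject X) (h : ∀ j, S j ⊓ Y = ⊥) :
    (⨆ j, S j) ⊓ Y = ⊥ := by
  have hq : ∀ j, Mono ((S j).arrow ≫ cokernel.π Y.arrow) := fun j =>
    (inf_eq_bot_iff_mono _ _).mp (h j)
  have h1 : ∀ j, Mono ((S j).arrow ≫ 𝟙 X) := fun j => by rw [Category.comp_id]; infer_instance
  let F₁ := monoOverFunctor S hS (𝟙 X) h1
  let F₂ := monoOverFunctor S hS (cokernel.π Y.arrow) hq
  let c := colimit.cocone (F₁ ⋙ MonoOver.forget _ ⋙ Over.forget _)
  let hc : IsColimit c := colimit.isColimit _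
  let f : c.pt ⟶ X := colimit.desc _ (Cocone.mk X
      { app j := (S j).arrow
        naturality {j j'} g := by
          change (S j).ofLE (S j') _ ≫ (S j').arrow = (S j).arrow ≫ 𝟙 X
          rw [Subobject.ofLE_arrow, Category.comp_id] })
  have hf' : ∀ j, c.ι.app j ≫ f = (S j).arrow := fun j => colimit.ι_desc _ _
  have hf : ∀ j, c.ι.app j ≫ f = (F₁.obj j).obj.hom := fun j => by
    rw [hf' j]
    exact (Category.comp_id _).symm
  have hmono : Mono f := IsGrothendieckAbelian.mono_of_isColimit_monoOver F₁ hc f hf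
  have hsup : Subobject.mk f = ⨆ j, S j := by
    rw [IsGrothendieckAbelian.subobjectMk_of_isColimit_eq_iSup F₁ hc f hf]
    congr 1
    funext j
    change Subobject.mk ((S j).arrow ≫ 𝟙 X) = S j
    simp
  let c₂ : Cocone (F₂ ⋙ MonoOver.forget _ ⋙ Over.forget _) := c
  have hc₂ : IsColimit c₂ := hc
  have hmono2 : Mono (f ≫ cokernel.π Y.arrow) :=
    IsGrothendieckAbelian.mono_of_isColimit_monoOver F₂ hc₂ (f ≫ cokernel.π Y.arrow)
      (fun j => by
        change c.ι.app j ≫ f ≫ cokernel.π Y.arrow = (S j).arrow ≫ cokernel.π Y.arrow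
        rw [← Category.assoc, hf' j]
        rfl)
  rw [← hsup, inf_eq_bot_iff_mono]
  have : (Subobject.mk f).arrow ≫ cokernel.π Y.arrow =
      (Subobject.underlyingIso f).hom ≫ (f ≫ cokernel.π Y.arrow) := by
    rw [← Category.assoc, Subobject.underlyingIso_hom_comp_eq_mk]
  rw [this]
  infer_instance

/-- Set version of `iSup_inf_eq_bot`. -/
lemma sSup_inf_eq_bot {X : C} (c : Set (Subobject X)) (hne : c.Nonempty)
    (hdir : DirectedOn (· ≤ ·) c) (Y : Subobject X) (h : ∀ S ∈ c, S ⊓ Y = ⊥) :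
    sSup c ⊓ Y = ⊥ := by
  let J := Shrink.{w} ↥c
  let e : ↥c ≃ J := equivShrink ↥c
  let _ : Preorder J := Preorder.lift (fun j => ((e.symm j : ↥c) : Subobject X))
  let S : J → Subobject X := fun j => ((e.symm j : ↥c) : Subobject X)
  have hS : Monotone S := fun _ _ h => h
  have : Nonempty J := ⟨e ⟨hne.some, hne.some_mem⟩⟩
  have : IsDirected J (· ≤ ·) := ⟨fun a b => by
    obtain ⟨z, hz, h1, h2⟩ := hdir _ (e.symm a).2 _ (e.symm b).2
    refine ⟨e ⟨z, hz⟩, ?_, ?_⟩
    · change S a ≤ S (e ⟨z, hz⟩)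
      simpa [S] using h1
    · change S b ≤ S (e ⟨z, hz⟩)
      simpa [S] using h2⟩
  have hsup : sSup c = ⨆ j, S j := by
    apply le_antisymm
    · apply sSup_le
      intro s hs
      refine le_trans ?_ (le_iSup S (e ⟨s, hs⟩))
      simp [S]
    · apply iSup_le
      intro j
      exact le_sSup (e.symm j).2
  rw [hsup]
  exact iSup_inf_eq_bot S hS Y (fun j => h _ (e.symm j).2)

/-- Existence of complements: a subobject disjoint from `Y` is contained in a maximal such. -/
lemma exists_maximal_disjoint {X : C} (Y S₀ : Subobject X) (h₀ : S₀ ⊓ Y = ⊥) :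
    ∃ S, S₀ ≤ S ∧ S ⊓ Y = ⊥ ∧ ∀ S', S ≤ S' → S' ⊓ Y = ⊥ → S' = S := by
  obtain ⟨m, hm, hmax⟩ := zorn_le_nonempty₀ {S : Subobject X | S ⊓ Y = ⊥}
    (fun c hc hchain y hy => ⟨sSup c,
      sSup_inf_eq_bot c ⟨y, hy⟩ hchain.directedOn Y (fun S hS => hc hS),
      fun z hz => le_sSup hz⟩) S₀ h₀
  exact ⟨m, hm, hmax.prop, fun S' hS' h' => le_antisymm (hmax.le_of_ge h' hS') hS'⟩


/-- Two nonzero subobjects of an indecomposable injective object of a Grothendieck abelian
category have nonzero intersection (indecomposable injectives are uniform). -/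
theorem inf_ne_bot_of_indecomposable_injective (E : C) [Injective E]
    (hind : ∀ (A B : C), Nonempty (E ≅ A ⊞ B) → IsZero A ∨ IsZero B)
    (A B : Subobject E) (hA : A ≠ ⊥) (hB : B ≠ ⊥) : A ⊓ B ≠ ⊥ := by
  intro hAB
  obtain ⟨Cm, hBC, hCA, hCmax⟩ := exists_maximal_disjoint A B (by rwa [inf_comm])
  obtain ⟨A', hAA', hA'C, hA'max⟩ := exists_maximal_disjoint Cm A (by rwa [inf_comm])
  let q := cokernel.π Cm.arrow
  let i := A'.arrow ≫ q
  have hi : Mono i := (inf_eq_bot_iff_mono A' Cm).mp hA'C
  let ψ : cokernel Cm.arrow ⟶ E := Injective.factorThru A'.arrow i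
  have hψ : i ≫ ψ = A'.arrow := Injective.comp_factorThru _ _
  -- essentiality of `i`
  have key : ∀ {Z : C} (φ : cokernel Cm.arrow ⟶ Z), Mono (i ≫ φ) → Mono φ := by
    intro Z φ hφ
    let K := kernelSubobject (q ≫ φ)
    have hCK : Cm ≤ K := by
      apply Subobject.le_of_factors
      apply kernelSubobject_factors
      rw [← Category.assoc, cokernel.condition, zero_comp]
    have hKA' : K ⊓ A' = ⊥ := by
      apply inf_eq_bot_of_forall
      intro x hx1 hx2
      have h1 : x ≫ q ≫ φ = 0 := (kernelSubobject_factors_iff _ _).mp hx1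
      have h2 := A'.factorThru_arrow x hx2
      have h3 : A'.factorThru x hx2 ≫ (i ≫ φ) = 0 := by
        change A'.factorThru x hx2 ≫ ((A'.arrow ≫ q) ≫ φ) = 0
        rw [Category.assoc, ← Category.assoc, h2, h1]
      have h4 : A'.factorThru x hx2 = 0 := (cancel_mono (i ≫ φ)).mp (by rw [h3, zero_comp])
      rw [← h2, h4, zero_comp]
    have hKA : K ⊓ A = ⊥ := le_bot_iff.mp (le_trans (inf_le_inf_left K hAA') hKA'.le)
    have hKC : K = Cm := hCmax K hCK hKA
    apply Preadditive.mono_of_cancel_zero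
    intro W z hz
    obtain ⟨W', π, hπ, z', hz'⟩ := surjective_up_to_refinements_of_epi q z
    have h1 : z' ≫ q ≫ φ = 0 := by rw [← Category.assoc, ← hz', Category.assoc, hz, comp_zero]
    have h2 : K.Factors z' := kernelSubobject_factors _ _ h1
    rw [hKC] at h2
    have h3 : z' ≫ q = 0 := comp_cokernel_eq_zero_of_factors Cm z' h2
    rw [h3] at hz'
    exact (cancel_epi π).mp (by rw [hz', comp_zero])
  have hψmono : Mono ψ := key ψ (by rw [hψ]; infer_instance)
  have hψq : Mono (ψ ≫ q) := key (ψ ≫ q) (by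
    rw [← Category.assoc, hψ]
    exact hi)
  let A'' := Subobject.mk ψ
  have hA'A'' : A' ≤ A'' := Subobject.le_mk_of_comm i hψ
  have hA''C : A'' ⊓ Cm = ⊥ := by
    rw [inf_eq_bot_iff_mono]
    have : A''.arrow ≫ cokernel.π Cm.arrow = (Subobject.underlyingIso ψ).hom ≫ (ψ ≫ q) := by
      rw [← Category.assoc, Subobject.underlyingIso_hom_comp_eq_mk]
    rw [this]
    infer_instance
  have hA''eq : A'' = A' := hA'max A'' hA'A'' hA''C
  have hfac : A'.Factors ψ := by
    rw [← hA''eq]
    exact Subobject.mk_factors_self ψ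
  let ρ := A'.factorThru ψ hfac
  have hρ : ρ ≫ A'.arrow = ψ := A'.factorThru_arrow ψ hfac
  have hiρ : i ≫ ρ = 𝟙 _ := (cancel_mono A'.arrow).mp (by
    rw [Category.assoc, hρ, hψ, Category.id_comp])
  have hρmono : Mono ρ := by
    have : Mono (ρ ≫ A'.arrow) := by rw [hρ]; exact hψmono
    exact mono_of_mono ρ A'.arrow
  have hρi : ρ ≫ i = 𝟙 _ := (cancel_mono ρ).mp (by
    rw [Category.assoc, hiρ, Category.comp_id, Category.id_comp])
  have hsec : ψ ≫ q = 𝟙 _ := by
    rw [← hρ, Category.assoc]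
    exact hρi
  let S : ShortComplex C := ShortComplex.mk Cm.arrow q (cokernel.condition _)
  have hS : S.Exact := ShortComplex.exact_cokernel Cm.arrow
  let spl : S.Splitting := ShortComplex.Splitting.ofExactOfSection S hS ψ hsec
    (inferInstanceAs (Mono Cm.arrow))
  rcases hind _ _ ⟨spl.isoBinaryBiproduct⟩ with h | h
  · have : Cm = ⊥ := eq_bot_of_isZero Cm h
    rw [this] at hBC
    exact hB (le_bot_iff.mp hBC)
  · have h1 : IsZero (A' : C) := IsZero.of_mono i h
    have : A' = ⊥ := eq_bot_of_isZero A' h1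
    rw [this] at hAA'
    exact hA (le_bot_iff.mp hAA')

end Groth.Agent.Lib.Seat85.GabLocBasic
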