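import Groth.Agent.Lib.Seat85GabLocBasic
import Mathlib.CategoryTheory.Abelian.SerreClass.Basic
import Mathlib.CategoryTheory.ObjectProperty.ColimitsOfShape

/-!
# Localizing classes in Grothendieck abelian categories and closed objects
-/

set_option autoImplicit false
set_option linter.unusedSectionVars false
universe w v u
open CategoryTheory CategoryTheory.Limits ZeroObject

namespace Groth.Agent.Lib.Seat85.GabLocClosed

open Groth.Agent.Lib.Seat85.GabLocBasic

section abelian
variable {C : Type u} [Category.{v} C] [Abelian C]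

/-- The class of objects all of whose subobjects admit no nonzero morphism to an object of `ℱ`. -/
def hereditaryOrth (ℱ : ObjectProperty C) : ObjectProperty C :=
  fun X => ∀ ⦃X' : C⦄ (i : X' ⟶ X) [Mono i] ⦃F : C⦄, ℱ F → ∀ f : X' ⟶ F, f = 0

variable (ℱ : ObjectProperty C)

instance : (hereditaryOrth ℱ).IsClosedUnderSubobjects where
  prop_of_mono {X Y} f _ hY := fun X' i _ F hF g => by
    have : Mono (i ≫ f) := mono_comp i f
    exact hY (i ≫ f) hF g

instance : (hereditaryOrth ℱ).IsClosedUnderQuotients where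
  prop_of_epi {X Z} p _ hX := fun Z' i _ F hF f => by
    have h1 : pullback.snd p i ≫ f = 0 := hX (pullback.fst p i) hF _
    exact (cancel_epi (pullback.snd p i)).mp (by rw [h1, comp_zero])

instance : (hereditaryOrth ℱ).ContainsZero where
  exists_zero := ⟨0, isZero_zero C, fun _ i _ _ _ _ =>
    (IsZero.of_mono i (isZero_zero C)).eq_of_src _ _⟩

instance : (hereditaryOrth ℱ).IsClosedUnderExtensions where
  prop_X₂_of_shortExact {S} hS h₁ h₃ := fun X' i _ F hF f => by
    have := hS.mono_f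
    let g := i ≫ S.g
    let p := Abelian.factorThruImage g
    let k := kernel.ι p
    have hk : (k ≫ i) ≫ S.g = 0 := by
      rw [Category.assoc]
      change k ≫ g = 0
      have h0 : k ≫ g = (k ≫ p) ≫ Abelian.image.ι g := by
        rw [Category.assoc, Abelian.image.fac]
      rw [h0, kernel.condition, zero_comp]
    let t := hS.exact.lift (k ≫ i) hk
    have ht : t ≫ S.f = k ≫ i := hS.exact.lift_f _ _
    have : Mono t := by
      have : Mono (t ≫ S.f) := by rw [ht]; infer_instance
      exact mono_of_mono t S.f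
    have hkf : k ≫ f = 0 := h₁ t hF _
    let fbar := Abelian.epiDesc p f hkf
    have hfbar : p ≫ fbar = f := Abelian.comp_epiDesc p f hkf
    have : fbar = 0 := h₃ (Abelian.image.ι g) hF _
    rw [← hfbar, this, comp_zero]

instance : (hereditaryOrth ℱ).IsSerreClass where

/-- A Serre class is closed under binary suprema of subobjects. -/
lemma prop_sup (𝒯 : ObjectProperty C) [𝒯.IsSerreClass] {X : C} (A B : Subobject X)
    (hA : 𝒯 (A : C)) (hB : 𝒯 (B : C)) : 𝒯 ((A ⊔ B : Subobject X) : C) := by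
  let d : (A : C) ⊞ (B : C) ⟶ X := biprod.desc A.arrow B.arrow
  let T := imageSubobject d
  have hT : 𝒯 (T : C) := 𝒯.prop_of_epi (factorThruImageSubobject d) (𝒯.prop_biprod hA hB)
  have h1 : T ≤ A ⊔ B := by
    refine imageSubobject_le d (biprod.desc (A.ofLE (A ⊔ B) le_sup_left)
      (B.ofLE (A ⊔ B) le_sup_right)) ?_
    apply biprod.hom_ext' <;> simp [d]
  have h2 : A ⊔ B ≤ T := by
    apply sup_le
    · exact Subobject.le_of_comm (biprod.inl ≫ factorThruImageSubobject d) (by simp [T, d])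
    · exact Subobject.le_of_comm (biprod.inr ≫ factorThruImageSubobject d) (by simp [T, d])
  have : A ⊔ B = T := le_antisymm h2 h1
  rw [this]
  exact hT

/-- A Serre class is closed under finite suprema of subobjects. -/
lemma prop_finset_sup (𝒯 : ObjectProperty C) [𝒯.IsSerreClass] {X : C} {J : Type*}
    (A : J → Subobject X) (hA : ∀ j, 𝒯 (A j : C)) (F : Finset J) :
    𝒯 ((F.sup A : Subobject X) : C) := by
  classical
  induction F using Finset.induction_on with
  | empty =>
    rw [Finset.sup_empty]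
    exact 𝒯.prop_of_isZero (isZero_of_eq_bot _ rfl)
  | insert a F _ ih =>
    rw [Finset.sup_insert]
    exact prop_sup 𝒯 _ _ (hA a) ih

end abelian

variable {C : Type u} [Category.{v} C] [Abelian C] [IsGrothendieckAbelian.{w} C]

/-- `hereditaryOrth ℱ` is closed under jointly epimorphic small families. -/
lemma hereditaryOrth_of_family (ℱ : ObjectProperty C) {X : C} {J : Type w} (Xs : J → C)
    (u : ∀ j, Xs j ⟶ X)
    (hu : ∀ ⦃Z : C⦄ (g : X ⟶ Z), (∀ j, u j ≫ g = 0) → g = 0)
    (hX : ∀ j, hereditaryOrth ℱ (Xs j)) : hereditaryOrth ℱ X := by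
  intro X' i _ F hF f
  let k := kernel.ι f
  let π := cokernel.π (k ≫ i)
  obtain ⟨I, p, m, _, _, hpm⟩ : ∃ (I : C) (p : X' ⟶ I) (m : I ⟶ F), Epi p ∧ Mono m ∧ p ≫ m = f :=
    ⟨_, Abelian.factorThruImage f, Abelian.image.ι f, inferInstance, inferInstance,
      Abelian.image.fac f⟩
  have hkp : kernel.ι p ≫ (i ≫ π) = 0 := by
    have h0 : kernel.ι p ≫ f = 0 := by
      rw [← hpm, ← Category.assoc, kernel.condition, zero_comp]
    have h1 : kernel.lift f (kernel.ι p) h0 ≫ k = kernel.ι p := kernel.lift_ι _ _ _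
    rw [← h1, Category.assoc, ← Category.assoc k i π, cokernel.condition, comp_zero]
  let ibar := Abelian.epiDesc p (i ≫ π) hkp
  have hibar : p ≫ ibar = i ≫ π := Abelian.comp_epiDesc p (i ≫ π) hkp
  have hmono : Mono ibar := by
    apply Preadditive.mono_of_cancel_zero
    intro W z hz
    obtain ⟨W', π', hπ', z', hz'⟩ := surjective_up_to_refinements_of_epi p z
    have h1 : (z' ≫ i) ≫ π = 0 := by
      rw [Category.assoc, ← hibar, ← Category.assoc, ← hz', Category.assoc, hz, comp_zero]
    have h2 : Abelian.monoLift (k ≫ i) (z' ≫ i) h1 ≫ k ≫ i = z' ≫ i :=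
      Abelian.monoLift_comp (k ≫ i) (z' ≫ i) h1
    have h3 : Abelian.monoLift (k ≫ i) (z' ≫ i) h1 ≫ k = z' :=
      (cancel_mono i).mp (by rw [Category.assoc, h2])
    have h4 : z' ≫ f = 0 := by
      rw [← h3, Category.assoc, kernel.condition, comp_zero]
    have h5 : z' ≫ p = 0 := (cancel_mono m).mp (by rw [Category.assoc, hpm, h4, zero_comp])
    rw [h5] at hz'
    exact (cancel_epi π').mp (by rw [hz', comp_zero])
  let Ibar : Subobject (cokernel (k ≫ i)) := Subobject.mk ibar
  let A : J → Subobject (cokernel (k ≫ i)) := fun j => imageSubobject (u j ≫ π)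
  let S : Finset J → Subobject (cokernel (k ≫ i)) := fun G => G.sup A
  have hS : Monotone S := fun G G' h => Finset.sup_mono h
  have hA : ∀ j, hereditaryOrth ℱ (A j : C) := fun j =>
    (hereditaryOrth ℱ).prop_of_epi (factorThruImageSubobject (u j ≫ π)) (hX j)
  have hSF : ∀ G, hereditaryOrth ℱ (S G : C) := fun G =>
    prop_finset_sup (hereditaryOrth ℱ) A hA G
  have htop : (⨆ G, S G) = ⊤ := by
    set T := ⨆ G, S G with hT
    have h1 : ∀ j, T.Factors (u j ≫ π) := fun j => by
      have hle : A j ≤ T := le_iSup_of_le {j} (by simp [S])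
      refine Subobject.factors_of_le _ hle ?_
      exact (Subobject.factors_iff _ _).mpr
        ⟨factorThruImageSubobject (u j ≫ π), imageSubobject_arrow_comp _⟩
    have h2 : π ≫ cokernel.π T.arrow = 0 := hu _ (fun j => by
      rw [← Category.assoc]
      exact comp_cokernel_eq_zero_of_factors T _ (h1 j))
    have h3 : cokernel.π T.arrow = 0 := (cancel_epi π).mp (by rw [h2, comp_zero])
    have h4 : Epi T.arrow := Preadditive.epi_of_cokernel_zero h3
    have h5 : IsIso T.arrow := isIso_of_mono_of_epi _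
    exact Subobject.eq_top_of_isIso_arrow T
  have hdisj : ∀ G, S G ⊓ Ibar = ⊥ := fun G => by
    apply eq_bot_of_isZero
    let D := S G ⊓ Ibar
    let d : (D : C) ⟶ I :=
      D.ofLE Ibar inf_le_right ≫ (Subobject.underlyingIso ibar).hom
    have h1 : d ≫ m = 0 := hSF G (D.ofLE (S G) inf_le_left) hF (d ≫ m)
    exact IsZero.of_mono_eq_zero (d ≫ m) h1
  have h6 := iSup_inf_eq_bot S hS Ibar hdisj
  rw [htop, top_inf_eq] at h6
  have h7 : ibar = 0 := Subobject.mk_eq_bot_iff_zero.mp h6
  have h8 : IsZero I := IsZero.of_mono_eq_zero ibar h7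
  rw [← hpm, h8.eq_of_tgt p 0, zero_comp]

/-- A jointly-epimorphic family criterion from a colimit presentation of discrete shape. -/
lemma hereditaryOrth_isLocalizing (ℱ : ObjectProperty C) :
    GabLoc.IsLocalizing.{w} (hereditaryOrth ℱ) where
  isSerreClass := inferInstance
  isClosedUnderCoproducts J := ⟨fun X ⟨h⟩ =>
    hereditaryOrth_of_family ℱ (fun j => h.diag.obj ⟨j⟩) (fun j => h.ι.app ⟨j⟩)
      (fun Z g hg => by
        have : g = 0 := h.isColimit.hom_ext (fun ⟨j⟩ => by
          change h.ι.app ⟨j⟩ ≫ g = h.ι.app ⟨j⟩ ≫ 0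
          rw [hg j, comp_zero])
        exact this)
      (fun j => h.prop_diag_obj ⟨j⟩)⟩

/-! ### The localizing closure -/

lemma le_locClosure (P : ObjectProperty C) : P ≤ GabLoc.locClosure.{w} P :=
  fun _ hX _ _ hPQ => hPQ _ hX

lemma locClosure_le (P Q : ObjectProperty C) (hQ : GabLoc.IsLocalizing.{w} Q) (hPQ : P ≤ Q) :
    GabLoc.locClosure.{w} P ≤ Q :=
  fun _ hX => hX Q hQ hPQ

lemma locClosure_mono {P P' : ObjectProperty C} (h : P ≤ P') :
    GabLoc.locClosure.{w} P ≤ GabLoc.locClosure.{w} P' :=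
  fun _ hX Q hQ hPQ => hX Q hQ (le_trans h hPQ)

lemma locClosure_isLocalizing (P : ObjectProperty C) :
    GabLoc.IsLocalizing.{w} (GabLoc.locClosure.{w} P) where
  isSerreClass :=
    { exists_zero := ⟨0, isZero_zero C, fun Q hQ _ => by
        have := hQ.isSerreClass
        exact Q.prop_zero⟩
      prop_of_mono := fun f _ hY Q hQ hPQ => by
        have := hQ.isSerreClass
        exact Q.prop_of_mono f (hY Q hQ hPQ)
      prop_of_epi := fun f _ hX Q hQ hPQ => by
        have := hQ.isSerreClass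
        exact Q.prop_of_epi f (hX Q hQ hPQ)
      prop_X₂_of_shortExact := fun hS h₁ h₃ Q hQ hPQ => by
        have := hQ.isSerreClass
        exact Q.prop_X₂_of_shortExact hS (h₁ Q hQ hPQ) (h₃ Q hQ hPQ) }
  isClosedUnderCoproducts J := ⟨fun X ⟨h⟩ Q hQ hPQ => by
    have := hQ.isClosedUnderCoproducts J
    exact (h.ofLE (fun _ hY => hY Q hQ hPQ)).prop⟩

/-- Every object has a largest subobject belonging to a given localizing class. -/
lemma exists_largest_sub (𝒯 : ObjectProperty C) (h𝒯 : GabLoc.IsLocalizing.{w} 𝒯) (N : C) :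
    ∃ (T : C) (t : T ⟶ N), Mono t ∧ 𝒯 T ∧
      ∀ ⦃W : C⦄ (w : W ⟶ N), 𝒯 W → ∃ w' : W ⟶ T, w' ≫ t = w := by
  have := h𝒯.isSerreClass
  let J := Shrink.{w} {S : Subobject N // 𝒯 (S : C)}
  have := h𝒯.isClosedUnderCoproducts J
  let e : {S : Subobject N // 𝒯 (S : C)} ≃ J := equivShrink _
  let Xs : J → C := fun j => ((e.symm j).1 : C)
  let d : ∐ Xs ⟶ N := Sigma.desc (fun j => (e.symm j).1.arrow)
  refine ⟨image d, image.ι d, inferInstance, ?_, ?_⟩
  · apply 𝒯.prop_of_epi (factorThruImage d)
    exact 𝒯.prop_colimit (Discrete.functor Xs) (fun ⟨j⟩ => (e.symm j).2)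
  · intro W w hW
    let S : Subobject N := imageSubobject w
    have hS : 𝒯 (S : C) := 𝒯.prop_of_epi (factorThruImageSubobject w) hW
    obtain ⟨j, hj⟩ := e.symm.surjective ⟨S, hS⟩
    have key : ∀ (x : {S : Subobject N // 𝒯 (S : C)}), e.symm j = x →
        ∃ w' : (x.1 : C) ⟶ image d, w' ≫ image.ι d = x.1.arrow := by
      rintro x rfl
      refine ⟨Sigma.ι Xs j ≫ factorThruImage d, ?_⟩
      rw [Category.assoc, image.fac]
      exact Sigma.ι_desc _ _
    obtain ⟨w', hw'⟩ := key _ hj
    refine ⟨factorThruImageSubobject w ≫ w', ?_⟩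
    rw [Category.assoc, hw']
    exact imageSubobject_arrow_comp w

/-- Pulling back a short exact sequence along a morphism to its cokernel term. -/
lemma shortExact_pullback {A B D Z : C} (a : A ⟶ B) (b : B ⟶ D) (hab : a ≫ b = 0)
    (hS : (ShortComplex.mk a b hab).ShortExact) (g : Z ⟶ D) :
    (ShortComplex.mk (pullback.lift a 0 (by rw [hab, zero_comp]) : A ⟶ pullback b g)
      (pullback.snd b g) (by rw [pullback.lift_snd])).ShortExact := by
  have hmono : Mono a := hS.mono_f
  have hepi : Epi b := hS.epi_g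
  have hlift : (pullback.lift a 0 (by rw [hab, zero_comp]) : A ⟶ pullback b g) ≫
      pullback.fst b g = a := pullback.lift_fst _ _ _
  refine ShortComplex.ShortExact.mk' ?_ ?_ ?_
  · rw [ShortComplex.exact_iff_exact_up_to_refinements]
    intro W x hx
    dsimp at x hx ⊢
    have h1 : (x ≫ pullback.fst b g) ≫ b = 0 := by
      rw [Category.assoc, pullback.condition, ← Category.assoc, hx, zero_comp]
    obtain ⟨W', π, hπ, x₁, hx₁⟩ :=
      (ShortComplex.exact_iff_exact_up_to_refinements _).mp hS.exact (x ≫ pullback.fst b g) h1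
    dsimp at x₁ hx₁
    refine ⟨W', π, hπ, x₁, ?_⟩
    apply pullback.hom_ext
    · rw [Category.assoc, Category.assoc, hlift, ← hx₁]
    · rw [Category.assoc, Category.assoc, hx, comp_zero, pullback.lift_snd, comp_zero]
  · exact mono_of_mono_fac hlift
  · dsimp
    infer_instance

/-- **Main theorem.** If `P` is closed under subobjects and `M` is `P`-closed, then `M` is closed
for the localizing closure of `P`. -/
theorem isClosedFor_locClosure (P : ObjectProperty C) [P.IsClosedUnderSubobjects] (M : C)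
    (hM : GabLoc.IsClosedFor P M) : GabLoc.IsClosedFor (GabLoc.locClosure.{w} P) M := by
  -- the torsion-free class
  let ℱ : ObjectProperty C := fun F => ∀ ⦃Z : C⦄, P Z → ∀ g : Z ⟶ F, g = 0
  have hMℱ : ℱ M := fun Z hZ g => hM.1 hZ g
  let 𝒯 := GabLoc.locClosure.{w} P
  have h𝒯 : GabLoc.IsLocalizing.{w} 𝒯 := locClosure_isLocalizing P
  have := h𝒯.isSerreClass
  have hP𝒯 : P ≤ 𝒯 := le_locClosure P
  have h𝒯orth : 𝒯 ≤ hereditaryOrth ℱ :=
    locClosure_le P _ (hereditaryOrth_isLocalizing ℱ) (fun X hX X' i _ F hF f =>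
      hF (P.prop_of_mono i hX) f)
  -- Hom part
  have hHom : ∀ ⦃Y : C⦄, 𝒯 Y → ∀ f : Y ⟶ M, f = 0 := fun Y hY f =>
    h𝒯orth Y hY (𝟙 Y) hMℱ f
  -- Claim: an object of 𝒯 receiving no nonzero map from `P` is zero
  have hclaim : ∀ ⦃Y : C⦄, 𝒯 Y → ℱ Y → IsZero Y := fun Y hY hF => by
    rw [IsZero.iff_id_eq_zero]
    exact h𝒯orth Y hY (𝟙 Y) hF (𝟙 Y)
  refine ⟨hHom, ?_⟩
  intro N Y i p hp hY hS
  have hi : Mono i := hS.mono_f
  have hpe : Epi p := hS.epi_g
  obtain ⟨T, t, ht, hT, huniv⟩ := exists_largest_sub 𝒯 h𝒯 N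
  -- (a) `t ≫ p` is mono
  have hmono : Mono (t ≫ p) := by
    apply Preadditive.mono_of_kernel_zero
    let k := kernel.ι (t ≫ p)
    have hk : (k ≫ t) ≫ p = 0 := by rw [Category.assoc, kernel.condition]
    have h1 : hS.exact.lift (k ≫ t) hk ≫ i = k ≫ t := hS.exact.lift_f _ _
    have h2 : hS.exact.lift (k ≫ t) hk = 0 := hHom (𝒯.prop_of_mono k hT) _
    rw [h2, zero_comp] at h1
    exact (cancel_mono t).mp (by rw [← h1, zero_comp])
  -- (b) `t ≫ p` is epi
  have hepi : Epi (t ≫ p) := by
    let q := cokernel.π (t ≫ p)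
    let π := cokernel.π t
    have hq : t ≫ p ≫ q = 0 := by rw [← Category.assoc, cokernel.condition]
    let pbar : cokernel t ⟶ cokernel (t ≫ p) := cokernel.desc t (p ≫ q) hq
    have hpbar : π ≫ pbar = p ≫ q := cokernel.π_desc _ _ _
    let ibar := i ≫ π
    have hibar_mono : Mono ibar := by
      apply Preadditive.mono_of_cancel_zero
      intro W z hz
      have hz' : (z ≫ i) ≫ π = 0 := by rw [Category.assoc]; exact hz
      have h1 : Abelian.monoLift t (z ≫ i) hz' ≫ t = z ≫ i := Abelian.monoLift_comp t _ hz'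
      have h2 : Abelian.monoLift t (z ≫ i) hz' ≫ (t ≫ p) = 0 := by
        rw [← Category.assoc, h1, Category.assoc, hp, comp_zero]
      have h3 : Abelian.monoLift t (z ≫ i) hz' = 0 :=
        (cancel_mono (t ≫ p)).mp (by rw [h2, zero_comp])
      rw [h3, zero_comp] at h1
      exact (cancel_mono i).mp (by rw [← h1, zero_comp])
    have hzero : ibar ≫ pbar = 0 := by
      change (i ≫ π) ≫ pbar = 0
      rw [Category.assoc, hpbar, ← Category.assoc, hp, zero_comp]
    have hpbar_epi : Epi pbar := by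
      have : Epi (π ≫ pbar) := by rw [hpbar]; infer_instance
      exact epi_of_epi π pbar
    have hSbar : (ShortComplex.mk ibar pbar hzero).ShortExact := by
      refine ShortComplex.ShortExact.mk' ?_ hibar_mono hpbar_epi
      rw [ShortComplex.exact_iff_exact_up_to_refinements]
      intro A x hx
      dsimp at x hx ⊢
      obtain ⟨A₁, π₁, hπ₁, x₁, hx₁⟩ := surjective_up_to_refinements_of_epi π x
      have h1 : (x₁ ≫ p) ≫ q = 0 := by
        rw [Category.assoc, ← hpbar, ← Category.assoc, ← hx₁, Category.assoc, hx, comp_zero]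
      obtain ⟨A₂, π₂, hπ₂, x₂, hx₂⟩ :=
        (ShortComplex.exact_iff_exact_up_to_refinements _).mp
          (ShortComplex.exact_cokernel (t ≫ p)) (x₁ ≫ p) h1
      dsimp at x₂ hx₂
      have h2 : (π₂ ≫ x₁ - x₂ ≫ t) ≫ p = 0 := by
        rw [Preadditive.sub_comp, Category.assoc, Category.assoc, hx₂, sub_self]
      obtain ⟨A₃, π₃, hπ₃, x₃, hx₃⟩ :=
        (ShortComplex.exact_iff_exact_up_to_refinements _).mp hS.exact _ h2
      dsimp at x₃ hx₃
      refine ⟨A₃, π₃ ≫ π₂ ≫ π₁, inferInstance, x₃, ?_⟩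
      change (π₃ ≫ π₂ ≫ π₁) ≫ x = x₃ ≫ i ≫ π
      rw [← Category.assoc x₃, ← hx₃, Category.assoc, Category.assoc, hx₁,
        Preadditive.comp_sub, Preadditive.sub_comp, Category.assoc, Category.assoc,
        Category.assoc, Category.assoc, cokernel.condition, comp_zero, comp_zero, sub_zero]
    -- the cokernel is zero
    have hYbar : 𝒯 (cokernel (t ≫ p)) := 𝒯.prop_of_epi q hY
    have hzeroY : IsZero (cokernel (t ≫ p)) := by
      apply hclaim hYbar
      intro Z hZ g
      -- split the pulled-back extension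
      have hSg := shortExact_pullback ibar pbar hzero hSbar g
      let ι' : M ⟶ pullback pbar g := pullback.lift ibar 0 (by rw [hzero, zero_comp])
      have hsplit : IsSplitMono ι' := hM.2 _ _ _ hZ hSg
      let r := retraction ι'
      have hr : ι' ≫ r = 𝟙 M := IsSplitMono.id _
      obtain ⟨s, hs⟩ : ∃ s : Z ⟶ pullback pbar g, s ≫ pullback.snd pbar g = 𝟙 Z :=
        ⟨(ShortComplex.Splitting.ofExactOfRetraction _ hSg.exact r hr hSg.epi_g).s,
          (ShortComplex.Splitting.ofExactOfRetraction _ hSg.exact r hr hSg.epi_g).s_g⟩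
      clear_value r ι'
      obtain ⟨s', hs'def⟩ : ∃ s' : Z ⟶ cokernel t, s' = s ≫ pullback.fst pbar g := ⟨_, rfl⟩
      have hs' : s' ≫ pbar = g := by
        rw [hs'def, Category.assoc, pullback.condition, ← Category.assoc, hs, Category.id_comp]
      -- pull back `0 → T → N → N/T → 0` along `s'`
      have hSt : (ShortComplex.mk t π (cokernel.condition t)).ShortExact :=
        ShortComplex.ShortExact.mk' (ShortComplex.exact_cokernel t) ht inferInstance
      have hSW := shortExact_pullback t π (cokernel.condition t) hSt s'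
      have hW : 𝒯 (pullback π s') := 𝒯.prop_X₂_of_shortExact hSW hT (hP𝒯 _ hZ)
      obtain ⟨w', hw'⟩ := huniv (pullback.fst π s') hW
      have h1 : pullback.snd π s' ≫ s' = 0 := by
        rw [← pullback.condition, ← hw', Category.assoc, cokernel.condition, comp_zero]
      have h2 : s' = 0 := (cancel_epi (pullback.snd π s')).mp (by rw [h1, comp_zero])
      rw [← hs', h2, zero_comp]
    exact Preadditive.epi_of_isZero_cokernel _ hzeroY
  -- (c) conclude
  have hiso : IsIso (t ≫ p) := isIso_of_mono_of_epi _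
  let σ : Y ⟶ N := inv (t ≫ p) ≫ t
  have hσ : σ ≫ p = 𝟙 Y := by
    change (inv (t ≫ p) ≫ t) ≫ p = 𝟙 Y
    rw [Category.assoc, IsIso.inv_hom_id]
  let spl := ShortComplex.Splitting.ofExactOfSection _ hS.exact σ hσ hS.mono_f
  exact IsSplitMono.mk' ⟨spl.r, spl.f_r⟩

lemma isClosedFor_anti {P Q : ObjectProperty C} (h : P ≤ Q) {M : C}
    (hM : GabLoc.IsClosedFor Q M) : GabLoc.IsClosedFor P M :=
  ⟨fun _ hY f => hM.1 (h _ hY) f, fun _ _ i p hp hY hS => hM.2 i p hp (h _ hY) hS⟩

lemma isClosedFor_sup {P Q : ObjectProperty C} {M : C}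
    (hP : GabLoc.IsClosedFor P M) (hQ : GabLoc.IsClosedFor Q M) :
    GabLoc.IsClosedFor (P ⊔ Q) M :=
  ⟨fun _ hY f => hY.elim (fun h => hP.1 h f) (fun h => hQ.1 h f),
    fun _ _ i p hp hY hS => hY.elim (fun h => hP.2 i p hp h hS) (fun h => hQ.2 i p hp h hS)⟩

lemma isClosedUnderSubobjects_sup (P Q : ObjectProperty C) [P.IsClosedUnderSubobjects]
    [Q.IsClosedUnderSubobjects] : (P ⊔ Q).IsClosedUnderSubobjects where
  prop_of_mono f _ hY := hY.elim (fun h => Or.inl (P.prop_of_mono f h))
    (fun h => Or.inr (Q.prop_of_mono f h))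

end Groth.Agent.Lib.Seat85.GabLocClosed
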