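import Groth.Agent.Lib.Seat85GabLocClosed
import Mathlib.CategoryTheory.Abelian.GrothendieckCategory.EnoughInjectives
import Mathlib.CategoryTheory.MorphismProperty.TransfiniteComposition

/-!
# Transfinite filtrations of an object by an inflationary operator on subobjects

This follows closely the construction of
`Mathlib.CategoryTheory.Abelian.GrothendieckCategory.EnoughInjectives`,
with the operator `largerSubobject` replaced by an arbitrary inflationary operator `φ`.
-/

set_option autoImplicit false
set_option linter.unusedSectionVars false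
universe w v u
open CategoryTheory CategoryTheory.Limits ZeroObject

namespace Groth.Agent.Lib.Seat85.GabLocFiltration

open Groth.Agent.Lib.Seat85.GabLocBasic Groth.Agent.Lib.Seat85.GabLocClosed

variable {C : Type u} [Category.{v} C] [Abelian C] [IsGrothendieckAbelian.{w} C]

section iterate

variable {X : C} (φ : Subobject X → Subobject X) (hφ : ∀ A, A ≤ φ A)

lemma top_mem_range (hφ' : ∀ A ≠ (⊤ : Subobject X), A < φ A) (hφtop : φ ⊤ = ⊤)
    (A₀ : Subobject X) {J : Type w} [LinearOrder J] [OrderBot J] [SuccOrder J]
    [WellFoundedLT J] (hJ : HasCardinalLT (Subobject X) (Cardinal.mk J)) :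
    ∃ (j : J), transfiniteIterate φ j A₀ = ⊤ :=
  top_mem_range_transfiniteIterate φ A₀ hφ' hφtop
    (fun h ↦ by simpa [hasCardinalLT_iff_cardinal_mk_lt] using hJ.of_injective _ h)

lemma exists_ordinal (hφ' : ∀ A ≠ (⊤ : Subobject X), A < φ A) (hφtop : φ ⊤ = ⊤)
    (A₀ : Subobject X) :
    ∃ (o : Ordinal.{w}) (j : o.ToType), transfiniteIterate φ j A₀ = ⊤ := by
  let κ := Order.succ (Cardinal.mk (Shrink.{w} (Subobject X)))
  have : Nonempty κ.ord.ToType := by simp [κ]
  have := WellFoundedLT.toOrderBot κ.ord.ToType
  exact ⟨κ.ord, top_mem_range φ hφ' hφtop A₀ (lt_of_lt_of_le (Order.lt_succ _) (by simp [κ]))⟩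

variable (A₀ : Subobject X) (J : Type w) [LinearOrder J] [OrderBot J] [SuccOrder J]
  [WellFoundedLT J]

/-- The functor `J ⥤ MonoOver X` given by the transfinite iteration of `φ`. -/
@[simps]
noncomputable def functorToMonoOver : J ⥤ MonoOver X where
  obj j := MonoOver.mk (transfiniteIterate φ j A₀).arrow
  map {j j'} f := MonoOver.homMk (Subobject.ofLE _ _
      (monotone_transfiniteIterate _ _ hφ (leOfHom f)))

/-- The functor `J ⥤ C` induced by `functorToMonoOver`. -/
noncomputable abbrev functor : J ⥤ C :=
  functorToMonoOver φ hφ A₀ J ⋙ MonoOver.forget _ ⋙ Over.forget _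

set_option backward.defeqAttrib.useBackward true in
instance : (functor φ hφ A₀ J).IsWellOrderContinuous where
  nonempty_isColimit m hm := ⟨by
    have := hm.nonempty_Iio.to_subtype
    let c := (Set.principalSegIio m).cocone (functorToMonoOver φ hφ A₀ J ⋙ MonoOver.forget _)
    have : Mono c.pt.hom := by dsimp [c]; infer_instance
    apply IsGrothendieckAbelian.isColimitMapCoconeOfSubobjectMkEqISup
      ((Set.principalSegIio m).monotone.functor ⋙ functorToMonoOver φ hφ A₀ J) c
    dsimp [c]
    simp only [Subobject.mk_arrow]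
    exact transfiniteIterate_limit φ A₀ m hm⟩

variable (W : MorphismProperty C) (hW : ∀ A, W (Subobject.ofLE A (φ A) (hφ A)))

set_option backward.isDefEq.respectTransparency.types false in
set_option backward.defeqAttrib.useBackward true in
variable {J} in
/-- For any `j`, the map `(functor φ hφ A₀ J).map (homOfLE bot_le : ⊥ ⟶ j)`
is a transfinite composition of morphisms in `W`. -/
noncomputable def transfiniteCompositionOfShapeMapFromBot (j : J) :
    W.TransfiniteCompositionOfShape (Set.Iic j)
    ((functor φ hφ A₀ J).map (homOfLE bot_le : ⊥ ⟶ j)) where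
  F := (Set.initialSegIic j).monotone.functor ⋙ functor φ hφ A₀ J
  isoBot := Iso.refl _
  incl :=
    { app k := (functor φ hφ A₀ J).map (homOfLE k.2)
      naturality k k' h := by simp [MonoOver.forget] }
  isColimit := colimitOfDiagramTerminal isTerminalTop _
  map_mem k hk := by
    dsimp [MonoOver.forget]
    convert! hW (transfiniteIterate φ k.1 A₀) using 2
    all_goals
      rw [Set.Iic.succ_eq_of_not_isMax hk,
        transfiniteIterate_succ _ _ _ (Set.not_isMax_coe _ hk)]

variable {A : C} {f : A ⟶ X} [Mono f]

set_option backward.defeqAttrib.useBackward true in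
set_option backward.isDefEq.respectTransparency false in
/-- If `transfiniteIterate φ j (Subobject.mk f) = ⊤`,
then the monomorphism `f` is a transfinite composition of morphisms in `W`. -/
noncomputable def transfiniteCompositionOfShapeOfEqTop
    {J : Type w} [LinearOrder J] [OrderBot J] [SuccOrder J] [WellFoundedLT J] {j : J}
    (hj : transfiniteIterate φ j (Subobject.mk f) = ⊤) :
    W.TransfiniteCompositionOfShape (Set.Iic j) f := by
  let t := transfiniteIterate φ j (Subobject.mk f)
  have := (Subobject.isIso_arrow_iff_eq_top t).2 hj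
  apply (transfiniteCompositionOfShapeMapFromBot φ hφ (Subobject.mk f) W hW j).ofArrowIso
  refine Arrow.isoMk ((Subobject.isoOfEq _ _ (transfiniteIterate_bot _ _) ≪≫
    Subobject.underlyingIso f)) (asIso t.arrow) ?_
  dsimp [MonoOver.forget]
  rw [Category.assoc, Subobject.underlyingIso_hom_comp_eq_mk, Subobject.ofLE_arrow,
    Subobject.ofLE_arrow]

include hφ hW in
/-- Any monomorphism `f` is a transfinite composition of morphisms in `W`, when `W` contains
the inclusions `A ⟶ φ A` for a strictly inflationary operator `φ` on subobjects. -/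
lemma exists_transfiniteCompositionOfShape (hφ' : ∀ A ≠ (⊤ : Subobject X), A < φ A)
    (hφtop : φ ⊤ = ⊤) (f : A ⟶ X) [Mono f] :
    MorphismProperty.transfiniteCompositions.{w} W f := by
  obtain ⟨o, j, hj⟩ := exists_ordinal φ hφ' hφtop (Subobject.mk f)
  have : Nonempty o.ToType := ⟨j⟩
  have : OrderBot o.ToType := WellFoundedLT.toOrderBot _
  exact MorphismProperty.transfiniteCompositionsOfShape_le_transfiniteCompositions _ _ _
    ⟨transfiniteCompositionOfShapeOfEqTop φ hφ W hW hj⟩

end iterate

/-! ### The localizing closure: nonzero objects have nonzero maps from objects of `P` -/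

/-- The closure of a class of objects under subobjects. -/
def subClosure (P : ObjectProperty C) : ObjectProperty C :=
  fun Z' => ∃ (Z : C), P Z ∧ ∃ i : Z' ⟶ Z, Mono i

instance (P : ObjectProperty C) : (subClosure P).IsClosedUnderSubobjects where
  prop_of_mono f _ := fun ⟨Z, hZ, i, _⟩ => ⟨Z, hZ, f ≫ i, mono_comp f i⟩

lemma le_subClosure (P : ObjectProperty C) : P ≤ subClosure P :=
  fun Z hZ => ⟨Z, hZ, 𝟙 Z, inferInstance⟩

lemma subClosure_le_locClosure (P : ObjectProperty C) :
    subClosure P ≤ GabLoc.locClosure.{w} P := fun Z' ⟨Z, hZ, i, _⟩ => by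
  have := (locClosure_isLocalizing.{w} P).isSerreClass
  exact (GabLoc.locClosure.{w} P).prop_of_mono i (le_locClosure P Z hZ)

lemma isZero_of_locClosure_of_orth (P : ObjectProperty C) [P.IsClosedUnderSubobjects] {Y : C}
    (hY : GabLoc.locClosure.{w} P Y) (h : ∀ ⦃Z : C⦄, P Z → ∀ g : Z ⟶ Y, g = 0) : IsZero Y := by
  let ℱ : ObjectProperty C := fun F => ∀ ⦃Z : C⦄, P Z → ∀ g : Z ⟶ F, g = 0
  have h𝒯orth : GabLoc.locClosure.{w} P ≤ hereditaryOrth ℱ :=
    locClosure_le P _ (hereditaryOrth_isLocalizing ℱ) (fun X hX X' i _ F hF f =>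
      hF (P.prop_of_mono i hX) f)
  rw [IsZero.iff_id_eq_zero]
  exact h𝒯orth Y hY (𝟙 Y) h (𝟙 Y)

/-- A nonzero object of the localizing closure of `P` receives a nonzero morphism from a subobject
of an object of `P`. -/
lemma exists_nonzero_of_locClosure (P : ObjectProperty C) {Y : C}
    (hY : GabLoc.locClosure.{w} P Y) (hY0 : ¬ IsZero Y) :
    ∃ (Z Z' : C) (_ : P Z) (i : Z' ⟶ Z) (_ : Mono i) (g : Z' ⟶ Y), g ≠ 0 := by
  by_contra hcon
  apply hY0
  have hY' : GabLoc.locClosure.{w} (subClosure P) Y :=
    locClosure_mono (le_subClosure P) Y hY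
  apply isZero_of_locClosure_of_orth (subClosure P) hY'
  rintro Z' ⟨Z, hZ, i, hi⟩ g
  by_contra hg
  exact hcon ⟨Z, Z', hZ, i, hi, g, hg⟩

/-- In an object of the localizing closure of `P`, every proper subobject is strictly contained in
a subobject such that the quotient is a quotient of a subobject of an object of `P`. -/
lemma exists_larger_subobject (P : ObjectProperty C) {X : C} (hX : GabLoc.locClosure.{w} P X)
    (A : Subobject X) (hA : A ≠ ⊤) :
    ∃ (A' : Subobject X) (h : A < A'),
      GabLoc.monoModSubquot.{w} P (Subobject.ofLE A A' h.le) := by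
  have := (locClosure_isLocalizing.{w} P).isSerreClass
  let π := cokernel.π A.arrow
  have hQ : GabLoc.locClosure.{w} P (cokernel A.arrow) :=
    (GabLoc.locClosure.{w} P).prop_of_epi π hX
  have hQ0 : ¬ IsZero (cokernel A.arrow) := by
    intro h0
    apply hA
    have h1 : Epi A.arrow := Preadditive.epi_of_isZero_cokernel _ h0
    have h2 : IsIso A.arrow := isIso_of_mono_of_epi _
    exact Subobject.eq_top_of_isIso_arrow A
  obtain ⟨Z, Z', hZ, i, hi, g, hg⟩ := exists_nonzero_of_locClosure P hQ hQ0
  obtain ⟨D, e, d, he, hd, hed⟩ : ∃ (D : C) (e : Z' ⟶ D) (d : D ⟶ cokernel A.arrow),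
      Epi e ∧ Mono d ∧ e ≫ d = g :=
    ⟨_, factorThruImage g, image.ι g, inferInstance, inferInstance, image.fac g⟩
  have hSA : (ShortComplex.mk A.arrow π (cokernel.condition _)).ShortExact :=
    ShortComplex.ShortExact.mk' (ShortComplex.exact_cokernel A.arrow) inferInstance inferInstance
  have hSE := shortExact_pullback A.arrow π (cokernel.condition _) hSA d
  let l : (A : C) ⟶ pullback π d := pullback.lift A.arrow 0 (by rw [cokernel.condition, zero_comp])
  have hl : l ≫ pullback.fst π d = A.arrow := pullback.lift_fst _ _ _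
  have hsnd : Epi (pullback.snd π d) := hSE.epi_g
  let A' : Subobject X := Subobject.mk (pullback.fst π d)
  have hle : A ≤ A' := Subobject.le_mk_of_comm l hl
  have hne : ¬ A' ≤ A := by
    intro h
    have h1 : A.Factors (pullback.fst π d) :=
      Subobject.factors_of_le _ h (Subobject.mk_factors_self _)
    have h2 : pullback.fst π d ≫ π = 0 := comp_cokernel_eq_zero_of_factors A _ h1
    rw [pullback.condition] at h2
    have h3 : d = 0 := (cancel_epi (pullback.snd π d)).mp (by rw [h2, comp_zero])
    apply hg
    rw [← hed, h3, comp_zero]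
  have hlt : A < A' := lt_of_le_not_ge hle hne
  refine ⟨A', hlt, inferInstance, ?_⟩
  -- the cokernel is a quotient of `Z'`
  let c := cokernel.π (Subobject.ofLE A A' hlt.le)
  let ε : pullback π d ⟶ (A' : C) := (Subobject.underlyingIso (pullback.fst π d)).inv
  have hε : l ≫ ε = Subobject.ofLE A A' hlt.le := by
    apply (cancel_mono A'.arrow).mp
    rw [Category.assoc, Subobject.ofLE_arrow]
    change l ≫ (Subobject.underlyingIso (pullback.fst π d)).inv ≫
      (Subobject.mk (pullback.fst π d)).arrow = A.arrow
    rw [Subobject.underlyingIso_arrow, hl]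
  have hzero : l ≫ (ε ≫ c) = 0 := by
    rw [← Category.assoc, hε]
    exact cokernel.condition _
  let δ : D ⟶ cokernel (Subobject.ofLE A A' hlt.le) := hSE.exact.desc (ε ≫ c) hzero
  have hδ : pullback.snd π d ≫ δ = ε ≫ c := hSE.exact.g_desc (ε ≫ c) hzero
  have hδepi : Epi δ := by
    have : Epi (pullback.snd π d ≫ δ) := by rw [hδ]; infer_instance
    exact epi_of_epi (pullback.snd π d) δ
  refine ⟨PUnit.{w + 1}, fun _ => Z, fun _ => hZ, Z', i ≫ Sigma.ι (fun _ : PUnit.{w + 1} => Z) PUnit.unit,
    e ≫ δ, mono_comp _ _, epi_comp _ _⟩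

section forward

variable (P : ObjectProperty C) {X : C} (hX : GabLoc.locClosure.{w} P X)

open scoped Classical in
/-- The chosen strictly larger subobject (or `⊤` at `⊤`). -/
noncomputable def nextSubobject (A : Subobject X) : Subobject X :=
  if hA : A = ⊤ then ⊤ else (exists_larger_subobject P hX A hA).choose

@[simp]
lemma nextSubobject_top : nextSubobject P hX (⊤ : Subobject X) = ⊤ := dif_pos rfl

lemma lt_nextSubobject (A : Subobject X) (hA : A ≠ ⊤) : A < nextSubobject P hX A := by
  dsimp only [nextSubobject]
  rw [dif_neg hA]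
  exact (exists_larger_subobject P hX A hA).choose_spec.choose

lemma le_nextSubobject (A : Subobject X) : A ≤ nextSubobject P hX A := by
  by_cases hA : A = ⊤
  · subst hA
    simp only [nextSubobject_top, le_refl]
  · exact (lt_nextSubobject P hX A hA).le

lemma monoModSubquot_of_isIso {A B : C} (f : A ⟶ B) [IsIso f] :
    GabLoc.monoModSubquot.{w} P f := by
  refine ⟨inferInstance, PEmpty.{w + 1}, fun j => j.elim, fun j => j.elim, 0, 0, 0, ?_, ?_⟩
  · exact ⟨fun _ _ _ => (isZero_zero C).eq_of_tgt _ _⟩
  · have : IsZero (cokernel f) := by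
      rw [IsZero.iff_id_eq_zero, ← cancel_epi (cokernel.π f)]
      have : cokernel.π f = 0 := by
        rw [← cancel_epi f, cokernel.condition, comp_zero]
      rw [this, zero_comp, zero_comp]
    exact ⟨fun _ _ _ => this.eq_of_src _ _⟩

set_option backward.defeqAttrib.useBackward true in
set_option backward.isDefEq.respectTransparency false in
lemma monoModSubquot_ofLE_nextSubobject (A : Subobject X) :
    GabLoc.monoModSubquot.{w} P (Subobject.ofLE _ _ (le_nextSubobject P hX A)) := by
  by_cases hA : A = ⊤
  · subst hA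
    have h : IsIso (Subobject.ofLE _ _ (le_nextSubobject P hX (⊤ : Subobject X))) := by
      have h1 := (Subobject.isIso_arrow_iff_eq_top (nextSubobject P hX (⊤ : Subobject X))).2
        (by simp)
      have h2 : IsIso (Subobject.ofLE _ _ (le_nextSubobject P hX (⊤ : Subobject X)) ≫
          (nextSubobject P hX (⊤ : Subobject X)).arrow) := by
        rw [Subobject.ofLE_arrow]
        infer_instance
      exact IsIso.of_isIso_comp_right _ (nextSubobject P hX (⊤ : Subobject X)).arrow
    exact monoModSubquot_of_isIso P _
  · have h := (exists_larger_subobject P hX A hA).choose_spec.choose_spec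
    have heq : nextSubobject P hX A = (exists_larger_subobject P hX A hA).choose := by
      simp [nextSubobject, dif_neg hA]
    have key : ∀ (B : Subobject X) (hB : nextSubobject P hX A = B) (hle : A ≤ B),
        GabLoc.monoModSubquot.{w} P (Subobject.ofLE A B hle) →
        GabLoc.monoModSubquot.{w} P (Subobject.ofLE _ _ (le_nextSubobject P hX A)) := by
      rintro B rfl hle hB
      exact hB
    exact key _ heq _ h

include hX in
/-- The forward direction: an object of the localizing closure has a transfinite filtration. -/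
theorem transfiniteCompositions_of_locClosure :
    MorphismProperty.transfiniteCompositions.{w} (GabLoc.monoModSubquot.{w} P)
      (0 : (0 : C) ⟶ X) :=
  exists_transfiniteCompositionOfShape (nextSubobject P hX) (le_nextSubobject P hX)
    (GabLoc.monoModSubquot.{w} P) (monoModSubquot_ofLE_nextSubobject P hX)
    (lt_nextSubobject P hX) (nextSubobject_top P hX) (0 : (0 : C) ⟶ X)

end forward

section backward

variable {P : ObjectProperty C} {Q : ObjectProperty C}

lemma prop_sigma_of_isLocalizing (hQ : GabLoc.IsLocalizing.{w} Q) {J : Type w} (X : J → C)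
    (hX : ∀ j, Q (X j)) : Q (∐ X) := by
  have := hQ.isClosedUnderCoproducts J
  exact Q.prop_colimit (Discrete.functor X) (fun ⟨j⟩ => hX j)

lemma subquotCoprod_le (hQ : GabLoc.IsLocalizing.{w} Q) (hPQ : P ≤ Q) :
    GabLoc.subquotCoprod.{w} P ≤ Q := by
  rintro A ⟨J, X, hX, B, i, p, hi, hp⟩
  have := hQ.isSerreClass
  have h1 : Q (∐ X) := prop_sigma_of_isLocalizing hQ X (fun j => hPQ _ (hX j))
  have h2 : Q B := Q.prop_of_mono i h1
  exact Q.prop_of_epi p h2

/-- A localizing class is closed under colimits indexed by small categories (here: we only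
need the point of a colimit cocone to be a quotient of the coproduct). -/
lemma prop_of_isColimit_of_isLocalizing (hQ : GabLoc.IsLocalizing.{w} Q) {J : Type w}
    [Category.{w} J] {F : J ⥤ C} {c : Cocone F} (hc : IsColimit c)
    (hF : ∀ j, Q (F.obj j)) : Q c.pt := by
  have := hQ.isSerreClass
  have h1 : Q (∐ F.obj) := prop_sigma_of_isLocalizing hQ F.obj hF
  have : Epi (Sigma.desc (fun j => c.ι.app j)) := by
    refine ⟨fun {Z} f g hfg => hc.hom_ext (fun j => ?_)⟩
    have := congrArg (fun t => Sigma.ι F.obj j ≫ t) hfg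
    simpa using this
  exact Q.prop_of_epi (Sigma.desc (fun j => c.ι.app j)) h1

lemma prop_of_monoModSubquot (hQ : GabLoc.IsLocalizing.{w} Q) (hPQ : P ≤ Q) {A B : C}
    (f : A ⟶ B) (hf : GabLoc.monoModSubquot.{w} P f) (hA : Q A) : Q B := by
  have := hQ.isSerreClass
  obtain ⟨hmono, hcoker⟩ := hf
  have hS : (ShortComplex.mk f (cokernel.π f) (cokernel.condition f)).ShortExact :=
    { exact := ShortComplex.exact_cokernel f
      mono_f := hmono
      epi_g := inferInstance }
  exact Q.prop_X₂_of_shortExact hS hA (subquotCoprod_le hQ hPQ _ hcoker)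

theorem locClosure_of_transfiniteCompositionOfShape {J : Type w} [LinearOrder J] [SuccOrder J]
    [OrderBot J] [WellFoundedLT J] {X : C}
    (h : (GabLoc.monoModSubquot.{w} P).TransfiniteCompositionOfShape J (0 : (0 : C) ⟶ X)) :
    GabLoc.locClosure.{w} P X := by
  intro Q hQ hPQ
  have := hQ.isSerreClass
  have key : ∀ j : J, Q (h.F.obj j) := by
    intro j
    induction j using SuccOrder.limitRecOn with
    | isMin j hj =>
      obtain rfl := hj.eq_bot
      exact Q.prop_of_iso h.isoBot.symm Q.prop_zero
    | succ j hj hj' =>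
      exact prop_of_monoModSubquot hQ hPQ _ (h.map_mem j hj) hj'
    | isSuccLimit j hj hj' =>
      exact prop_of_isColimit_of_isLocalizing hQ (h.F.isColimitOfIsWellOrderContinuous j hj)
        (fun k => hj' _ k.2)
  exact prop_of_isColimit_of_isLocalizing hQ h.isColimit key

theorem locClosure_of_transfiniteCompositions {X : C}
    (h : MorphismProperty.transfiniteCompositions.{w} (GabLoc.monoModSubquot.{w} P)
      (0 : (0 : C) ⟶ X)) :
    GabLoc.locClosure.{w} P X := by
  rw [MorphismProperty.transfiniteCompositions_iff] at h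
  obtain ⟨J, _, _, _, _, ⟨h⟩⟩ := h
  exact locClosure_of_transfiniteCompositionOfShape h

end backward

end Groth.Agent.Lib.Seat85.GabLocFiltration
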