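/-
Helper library (helper85): the base change of the normalization of an integral scheme along a flat
morphism is the normalization of the reduction of the base change, provided it is normal.

* `nilradical_le_ker`: a quasi-compact morphism from a reduced scheme kills the nilradical.
* `isIso_morphismRestrict_of_isPullback`: base change of "isomorphism over an open".
* `isIso_morphismRestrict_of_comp`: cancelling a monomorphism in "isomorphism over an open".
* `dense_preimage_of_flat`: flat preimages of nonempty opens of irreducible schemes are dense.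
* `exists_iso_normalization_red`: the main statement.
-/
import Groth.Agent.Lib.Seat85NormSmooth
import Groth.Agent.Lib.Helper4NormIsoDense

set_option autoImplicit false
set_option linter.style.haveILetI false
universe u
open CategoryTheory CategoryTheory.Limits AlgebraicGeometry TopologicalSpace

namespace Groth.Agent.Lib.Seat85.NormRedBC

/-- The nilradical of the target lies in the kernel of a quasi-compact morphism from a reduced
scheme. -/
theorem nilradical_le_ker {Y X : Scheme.{u}} (m : Y ⟶ X) [QuasiCompact m] [IsReduced Y] :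
    X.nilradical ≤ m.ker := by
  rw [Scheme.IdealSheafData.le_def]
  intro U x hx
  rw [Scheme.Hom.ker_apply, RingHom.mem_ker]
  rw [Scheme.nilradical, Scheme.IdealSheafData.radical_ideal] at hx
  obtain ⟨n, hn⟩ := hx
  have h0 : x ^ n = 0 := by simpa using hn
  have : ((m.app U).hom x) ^ n = 0 := by rw [← map_pow, h0, map_zero]
  exact IsReduced.eq_zero _ ⟨n, this⟩

/-- Base change of an isomorphism over an open: if `m` is the base change of `ν` along `p` and
`ν` is an isomorphism over `V`, then `m` is an isomorphism over `p ⁻¹ᵁ V`. -/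
theorem isIso_morphismRestrict_of_isPullback {X Y X' Y' : Scheme.{u}} {ν : Y ⟶ X} {p : X' ⟶ X}
    {m : Y' ⟶ X'} {q : Y' ⟶ Y} (sq : IsPullback q m ν p) (V : X.Opens)
    [hiso : IsIso (ν ∣_ V)] : IsIso (m ∣_ (p ⁻¹ᵁ V)) := by
  have t : IsPullback (ν ⁻¹ᵁ V).ι (ν ∣_ V) ν V.ι := (isPullback_morphismRestrict ν V).flip
  have s1 : IsPullback (m ⁻¹ᵁ (p ⁻¹ᵁ V)).ι (m ∣_ (p ⁻¹ᵁ V)) m (p ⁻¹ᵁ V).ι :=
    (isPullback_morphismRestrict m (p ⁻¹ᵁ V)).flip
  have big := s1.paste_horiz sq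
  have w : ((m ⁻¹ᵁ (p ⁻¹ᵁ V)).ι ≫ q) ≫ ν = (m ∣_ (p ⁻¹ᵁ V) ≫ p ∣_ V) ≫ V.ι := by
    rw [Category.assoc, Category.assoc, morphismRestrict_ι, sq.w, morphismRestrict_ι_assoc]
  let l := t.lift ((m ⁻¹ᵁ (p ⁻¹ᵁ V)).ι ≫ q) (m ∣_ (p ⁻¹ᵁ V) ≫ p ∣_ V) w
  have hl1 : l ≫ (ν ⁻¹ᵁ V).ι = (m ⁻¹ᵁ (p ⁻¹ᵁ V)).ι ≫ q := t.lift_fst _ _ _
  have hl2 : l ≫ ν ∣_ V = m ∣_ (p ⁻¹ᵁ V) ≫ p ∣_ V := t.lift_snd _ _ _
  have big' : IsPullback (l ≫ (ν ⁻¹ᵁ V).ι) (m ∣_ (p ⁻¹ᵁ V)) ν (p ∣_ V ≫ V.ι) := by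
    rw [hl1, morphismRestrict_ι]; exact big
  have left := IsPullback.of_right big' hl2 t
  exact (MorphismProperty.isomorphisms Scheme.{u}).of_isPullback left hiso

theorem isIso_of_isIso_comp_mono {C : Type*} [Category C] {P Q R : C} (a : P ⟶ Q) (b : Q ⟶ R)
    [Mono b] [IsIso (a ≫ b)] : IsIso a := by
  haveI : IsSplitEpi b := ⟨⟨inv (a ≫ b) ≫ a, by rw [Category.assoc, IsIso.inv_hom_id]⟩⟩
  haveI : IsIso b := isIso_of_mono_of_isSplitEpi _
  exact IsIso.of_isIso_comp_right a b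

/-- If `h ≫ ι` is an isomorphism over `V'` and `ι` is a monomorphism, then `h` is an isomorphism
over `ι ⁻¹ᵁ V'`. -/
theorem isIso_morphismRestrict_of_comp {A B C : Scheme.{u}} (h : A ⟶ B) (ι : B ⟶ C) [Mono ι]
    (V' : C.Opens) (m : A ⟶ C) (hm : h ≫ ι = m) [hiso : IsIso (m ∣_ V')] :
    IsIso (h ∣_ (ι ⁻¹ᵁ V')) := by
  subst hm
  have e : (h ≫ ι) ∣_ V' = h ∣_ (ι ⁻¹ᵁ V') ≫ ι ∣_ V' := morphismRestrict_comp h ι V'
  haveI : Mono (ι ∣_ V') :=
    (MorphismProperty.monomorphisms Scheme.{u}).of_isPullback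
      (isPullback_morphismRestrict ι V').flip ‹Mono ι›
  haveI : IsIso (h ∣_ (ι ⁻¹ᵁ V') ≫ ι ∣_ V') := e ▸ hiso
  exact isIso_of_isIso_comp_mono (h ∣_ (ι ⁻¹ᵁ V')) (ι ∣_ V')

/-- Preimages of dense opens of an irreducible scheme under flat morphisms are dense. -/
theorem dense_preimage_of_flat {Y' Y : Scheme.{u}} (q : Y' ⟶ Y) [Flat q] [IrreducibleSpace Y]
    (O : Y.Opens) (hO : (O : Set Y).Nonempty) : Dense ((q ⁻¹ᵁ O : Y'.Opens) : Set Y') := by
  rw [dense_iff_inter_open]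
  intro U hU ⟨y', hy'⟩
  have hgen : genericPoint Y ⤳ q y' := (genericPoint_spec Y).specializes trivial
  obtain ⟨y'', hy'', hq⟩ := Flat.generalizingMap q hgen
  refine ⟨y'', hy''.mem_open hU hy', ?_⟩
  show q y'' ∈ O
  rw [hq]
  exact ((genericPoint_spec Y).mem_open_set_iff O.2).mpr (by simpa using hO)
  

/-- Let `ν : Y ⟶ X` be an integral morphism from an integral scheme which is an isomorphism over a
nonempty open, `p : X' ⟶ X` flat, and `Y'` the base change. If `Y'` is normal and the reduction of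
`X'` is integral, then `Y'` is the normalization of `(X')_red`. -/
theorem exists_iso_normalization_red {X Y X' Y' : Scheme.{u}} {ν : Y ⟶ X} {p : X' ⟶ X}
    {m : Y' ⟶ X'} {q : Y' ⟶ Y} (sq : IsPullback q m ν p) [IsIntegralHom ν] [IsIntegral Y] [Flat p]
    (hY' : Pi1.IsNormalScheme Y') (V : X.Opens) (hV : ((ν ⁻¹ᵁ V : Y.Opens) : Set Y).Nonempty)
    (hVp : ((p ⁻¹ᵁ V : X'.Opens) : Set X').Nonempty) [IsIso (ν ∣_ V)]
    [IsIntegral X'.nilradical.subscheme]
    [QuasiCompact (X'.nilradical.subscheme.fromSpecStalk (genericPoint X'.nilradical.subscheme))]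
    [QuasiSeparated
      (X'.nilradical.subscheme.fromSpecStalk (genericPoint X'.nilradical.subscheme))] :
    ∃ e : Y' ≅ (X'.nilradical.subscheme.fromSpecStalk
        (genericPoint X'.nilradical.subscheme)).normalization,
      e.hom ≫ (X'.nilradical.subscheme.fromSpecStalk
        (genericPoint X'.nilradical.subscheme)).fromNormalization ≫ X'.nilradical.subschemeι =
        m := by
  haveI : IsIntegralHom m := MorphismProperty.of_isPullback (P := @IsIntegralHom) sq ‹_›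
  haveI : Flat q := MorphismProperty.of_isPullback (P := @Flat) sq.flip ‹_›
  haveI : IsReduced Y' := by
    haveI : ∀ y, _root_.IsReduced (Y'.presheaf.stalk y) := fun y =>
      haveI := (hY' y).1
      inferInstance
    exact isReduced_of_isReduced_stalk Y'
  let ι := X'.nilradical.subschemeι
  have H : ι.ker ≤ m.ker := by
    rw [Scheme.IdealSheafData.ker_subschemeι]; exact nilradical_le_ker m
  let h := IsClosedImmersion.lift ι m H
  have hfac : h ≫ ι = m := IsClosedImmersion.lift_fac ι m H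
  haveI : IsIntegralHom (h ≫ ι) := hfac ▸ inferInstance
  haveI : IsIntegralHom h := IsIntegralHom.of_comp h ι
  haveI : IsIso (m ∣_ (p ⁻¹ᵁ V)) := isIso_morphismRestrict_of_isPullback sq V
  haveI : IsIso (h ∣_ (ι ⁻¹ᵁ (p ⁻¹ᵁ V))) := isIso_morphismRestrict_of_comp h ι _ m hfac
  have hW : Dense ((ι ⁻¹ᵁ (p ⁻¹ᵁ V) : X'.nilradical.subscheme.Opens) :
      Set X'.nilradical.subscheme) := by
    obtain ⟨x', hx'⟩ := hVp
    have hr : x' ∈ Set.range ι := by
      rw [Scheme.IdealSheafData.range_subschemeι]; simp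
    obtain ⟨z, rfl⟩ := hr
    exact (ι ⁻¹ᵁ (p ⁻¹ᵁ V)).2.dense ⟨z, hx'⟩
  have hhW : Dense ((h ⁻¹ᵁ (ι ⁻¹ᵁ (p ⁻¹ᵁ V)) : Y'.Opens) : Set Y') := by
    have hd := dense_preimage_of_flat q (ν ⁻¹ᵁ V) hV
    have heq : ((h ⁻¹ᵁ (ι ⁻¹ᵁ (p ⁻¹ᵁ V)) : Y'.Opens) : Set Y') =
        ((q ⁻¹ᵁ (ν ⁻¹ᵁ V) : Y'.Opens) : Set Y') := by
      ext y
      show p (ι (h y)) ∈ V ↔ ν (q y) ∈ V
      have h1 : ι (h y) = m y := by rw [← Scheme.Hom.comp_apply, hfac]
      have h2 : p (m y) = ν (q y) := by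
        rw [← Scheme.Hom.comp_apply, ← Scheme.Hom.comp_apply, sq.w]
      rw [h1, h2]
    rw [heq]; exact hd
  obtain ⟨hint, hgen, hst⟩ :=
    Groth.Agent.Lib.Helper4.NormIso.birational_of_dense h hY' _ hW hhW inferInstance
  obtain ⟨e, he⟩ := Groth.Agent.Lib.Helper4.NormIso.exists_iso_of_birational h hY' hgen hst
  exact ⟨e, by rw [← Category.assoc, he, hfac]⟩

end Groth.Agent.Lib.Seat85.NormRedBC
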