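import Mathlib
import Groth.Agent.Lib.Seat85NormRedBC
import Groth.Agent.Lib.Seat85NormSmooth

/-!
# Seat85: geometric irreducibility / reducedness of a smooth normalization

Tools to show that a scheme `Y` over a field `K`, which is birational (via a morphism `ν : Y ⟶ Z`
that is an isomorphism over a nonempty open) to a geometrically irreducible `K`-scheme, is itself
geometrically irreducible; and that smooth schemes over a field are geometrically reduced.
-/

set_option autoImplicit false
set_option linter.style.haveILetI false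
universe u

open CategoryTheory CategoryTheory.Limits AlgebraicGeometry TopologicalSpace Opposite

namespace Groth.Agent.Lib.Seat85.GeomIrrNorm

/-- the canonical pullback square relating the base changes of `ν ≫ t` and of `t`. -/
theorem isPullback_map {Y Z S S' : Scheme.{u}} (ν : Y ⟶ Z) (t : Z ⟶ S) (x : S' ⟶ S) :
    IsPullback (pullback.fst (ν ≫ t) x)
      (pullback.map (ν ≫ t) x t x ν (𝟙 _) (𝟙 _) (Category.comp_id _)
        ((Category.comp_id _).trans (Category.id_comp _).symm))
      ν (pullback.fst t x) := by
  refine IsPullback.of_bot ?_ (pullback.lift_fst _ _ _).symm (IsPullback.of_hasPullback t x)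
  have h1 : pullback.map (ν ≫ t) x t x ν (𝟙 _) (𝟙 _) (Category.comp_id _)
        ((Category.comp_id _).trans (Category.id_comp _).symm) ≫ pullback.snd t x =
      pullback.snd (ν ≫ t) x :=
    (pullback.lift_snd _ _ _).trans (Category.comp_id _)
  rw [h1]
  exact IsPullback.of_hasPullback _ _

/-- a space with a dense irreducible subset is irreducible. -/
theorem irreducibleSpace_of_dense {P : Type*} [TopologicalSpace P] (W : Set P)
    (hW : IsIrreducible W) (hd : Dense W) : IrreducibleSpace P := by
  rw [irreducibleSpace_def]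
  have := hW.closure
  rwa [hd.closure_eq] at this

/-- If `ν : Y ⟶ Z` is an isomorphism over a nonempty open `V` with `Y` irreducible, `x : S' ⟶ S`
is flat and the base change `Z ×_S S'` is irreducible (and `V` has nonempty preimage in it), then
`Y ×_S S'` is irreducible. -/
theorem irreducibleSpace_pullback_of_isIso_restrict {Y Z S S' : Scheme.{u}} (ν : Y ⟶ Z)
    (t : Z ⟶ S) (x : S' ⟶ S) [Flat x] [IrreducibleSpace Y] (V : Z.Opens) [IsIso (ν ∣_ V)]
    (hV : ((ν ⁻¹ᵁ V : Y.Opens) : Set Y).Nonempty)
    (hVp : ((pullback.fst t x ⁻¹ᵁ V : (pullback t x).Opens) : Set ↥(pullback t x)).Nonempty)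
    [IrreducibleSpace ↥(pullback t x)] : IrreducibleSpace ↥(pullback (ν ≫ t) x) := by
  have sq := isPullback_map ν t x
  set m := pullback.map (ν ≫ t) x t x ν (𝟙 _) (𝟙 _) (Category.comp_id _)
        ((Category.comp_id _).trans (Category.id_comp _).symm) with hm
  set p := pullback.fst t x with hp
  set q := pullback.fst (ν ≫ t) x with hq
  have hiso : IsIso (m ∣_ (p ⁻¹ᵁ V)) :=
    Groth.Agent.Lib.Seat85.NormRedBC.isIso_morphismRestrict_of_isPullback sq V
  -- the open `p ⁻¹ᵁ V` is irreducible
  have hne : Nonempty ((p ⁻¹ᵁ V : (pullback t x).Opens) : Set ↥(pullback t x)) := hVp.to_subtype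
  have h1 : IrreducibleSpace ((p ⁻¹ᵁ V : (pullback t x).Opens) : Set ↥(pullback t x)) :=
    (p ⁻¹ᵁ V).isOpenEmbedding'.irreducibleSpace
  have h2 : IrreducibleSpace ((m ⁻¹ᵁ (p ⁻¹ᵁ V) : (pullback (ν ≫ t) x).Opens) :
      Set ↥(pullback (ν ≫ t) x)) :=
    (Scheme.homeoOfIso (asIso (m ∣_ (p ⁻¹ᵁ V)))).irreducibleSpace_iff.mpr h1
  have h3 : IsIrreducible ((m ⁻¹ᵁ (p ⁻¹ᵁ V) : (pullback (ν ≫ t) x).Opens) :
      Set ↥(pullback (ν ≫ t) x)) := isIrreducible_iff_irreducibleSpace.mpr h2
  -- density
  have hflat : Flat q := by
    rw [hq]; infer_instance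
  have hd := Groth.Agent.Lib.Seat85.NormRedBC.dense_preimage_of_flat q (ν ⁻¹ᵁ V) hV
  have heq : ((q ⁻¹ᵁ (ν ⁻¹ᵁ V) : (pullback (ν ≫ t) x).Opens) : Set ↥(pullback (ν ≫ t) x)) =
      ((m ⁻¹ᵁ (p ⁻¹ᵁ V) : (pullback (ν ≫ t) x).Opens) : Set ↥(pullback (ν ≫ t) x)) := by
    ext y
    change ν (q y) ∈ V ↔ p (m y) ∈ V
    have : ν (q y) = p (m y) := by
      rw [← Scheme.Hom.comp_apply, ← Scheme.Hom.comp_apply, sq.w]
    rw [this]
  rw [heq] at hd
  exact irreducibleSpace_of_dense _ h3 hd

/-- Base change of a surjective closed immersion: irreducibility transfers. -/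
theorem irreducibleSpace_pullback_of_closedImmersion_surjective {Z X S S' : Scheme.{u}}
    (ι : Z ⟶ X) [IsClosedImmersion ι] [Surjective ι] (s : X ⟶ S) (x : S' ⟶ S)
    [IrreducibleSpace ↥(pullback s x)] : IrreducibleSpace ↥(pullback (ι ≫ s) x) := by
  have sq := isPullback_map ι s x
  set m := pullback.map (ι ≫ s) x s x ι (𝟙 _) (𝟙 _) (Category.comp_id _)
        ((Category.comp_id _).trans (Category.id_comp _).symm) with hm
  have hcl : IsClosedImmersion m :=
    MorphismProperty.of_isPullback (P := @IsClosedImmersion) sq inferInstance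
  have hsurj : Surjective m :=
    MorphismProperty.of_isPullback (P := @Surjective) sq inferInstance
  exact (m.isClosedEmbedding.isEmbedding.toHomeomorphOfSurjective
    m.surjective).irreducibleSpace_iff.mpr inferInstance

/-- A scheme smooth over a field is reduced. -/
theorem isReduced_of_smooth_over_field (K : Type u) [Field K] {P : Scheme.{u}}
    (g : P ⟶ Spec (CommRingCat.of K)) [Smooth g] : IsReduced P := by
  have : ∀ y : P, _root_.IsReduced (P.presheaf.stalk y) := fun y => by
    have := (Groth.Agent.Lib.Seat85.NormSmooth.normal_stalk_of_smooth_over_field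
      (CommRingCat.of K) (Field.toIsField K) g y).1
    infer_instance
  exact isReduced_of_isReduced_stalk P

/-- A smooth morphism to the spectrum of a field is geometrically reduced. -/
theorem geometricallyReduced_of_smooth (K : Type u) [Field K] {P : Scheme.{u}}
    (g : P ⟶ Spec (CommRingCat.of K)) [Smooth g] : GeometricallyReduced g := by
  refine ⟨geometrically_iff_of_isClosedUnderIsomorphisms.mpr fun K' _ x => ?_⟩
  exact isReduced_of_smooth_over_field K' (pullback.snd g x)

/-- a morphism between spectra of fields is flat. -/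
theorem flat_of_field (K K' : Type u) [Field K] [Field K']
    (x : Spec (CommRingCat.of K') ⟶ Spec (CommRingCat.of K)) : Flat x := by
  obtain ⟨φ, rfl⟩ := Spec.map_surjective x
  rw [HasRingHomProperty.Spec_iff (P := @Flat)]
  algebraize [φ.hom]
  exact RingHom.flat_algebraMap_iff.mpr inferInstance

/-- a morphism between spectra of fields is surjective. -/
theorem surjective_of_field (K K' : Type u) [Field K] [Field K']
    (x : Spec (CommRingCat.of K') ⟶ Spec (CommRingCat.of K)) : Surjective x := by
  constructor
  intro y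
  have : Nonempty (Spec (CommRingCat.of K')) := inferInstanceAs (Nonempty (PrimeSpectrum K'))
  obtain ⟨z⟩ := ‹Nonempty (Spec (CommRingCat.of K'))›
  have : Subsingleton (Spec (CommRingCat.of K)) :=
    inferInstanceAs (Subsingleton (PrimeSpectrum K))
  exact ⟨z, Subsingleton.elim _ _⟩

/-- If `ν : Y ⟶ Z` is an isomorphism over a nonempty open, `Y` is irreducible and `Z` is
geometrically irreducible over the field `K`, then so is `Y`. -/
theorem geometricallyIrreducible_comp_of_isIso_restrict (K : Type u) [Field K] {Y Z : Scheme.{u}}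
    (ν : Y ⟶ Z) (t : Z ⟶ Spec (CommRingCat.of K)) [IrreducibleSpace Y] (V : Z.Opens)
    [IsIso (ν ∣_ V)] (hV : (V : Set Z).Nonempty) [GeometricallyIrreducible t] :
    GeometricallyIrreducible (ν ≫ t) := by
  refine ⟨geometrically_iff_of_isClosedUnderIsomorphisms.mpr fun K' _ x => ?_⟩
  have := flat_of_field K K' x
  have := surjective_of_field K K' x
  obtain ⟨z, hz⟩ := hV
  have hV' : ((ν ⁻¹ᵁ V : Y.Opens) : Set Y).Nonempty :=
    ⟨((inv (ν ∣_ V)) ⟨z, hz⟩).1, ((inv (ν ∣_ V)) ⟨z, hz⟩).2⟩
  have hVp : ((pullback.fst t x ⁻¹ᵁ V : (pullback t x).Opens) : Set ↥(pullback t x)).Nonempty := by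
    obtain ⟨z', hz'⟩ := (pullback.fst t x).surjective z
    exact ⟨z', by show _ ∈ V; rw [hz']; exact hz⟩
  have : IrreducibleSpace ↥(pullback t x) :=
    GeometricallyIrreducible.geometrically_irreducibleSpace _ _ _ (.of_hasPullback t x)
  exact irreducibleSpace_pullback_of_isIso_restrict ν t x V hV' hVp

/-- Precomposing a geometrically irreducible morphism with a surjective closed immersion gives a
geometrically irreducible morphism. -/
theorem geometricallyIrreducible_comp_of_closedImmersion_surjective {Z X S : Scheme.{u}}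
    (ι : Z ⟶ X) [IsClosedImmersion ι] [Surjective ι] (s : X ⟶ S) [GeometricallyIrreducible s] :
    GeometricallyIrreducible (ι ≫ s) := by
  refine ⟨geometrically_iff_of_isClosedUnderIsomorphisms.mpr fun K' _ x => ?_⟩
  have : IrreducibleSpace ↥(pullback s x) :=
    GeometricallyIrreducible.geometrically_irreducibleSpace _ _ _ (.of_hasPullback s x)
  exact irreducibleSpace_pullback_of_closedImmersion_surjective ι s x

/-- geometrically irreducible implies geometrically connected. -/
theorem geometricallyConnected_of_geometricallyIrreducible {X S : Scheme.{u}} (f : X ⟶ S)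
    [GeometricallyIrreducible f] : GeometricallyConnected f := by
  refine ⟨geometrically_iff_of_isClosedUnderIsomorphisms.mpr fun K' _ x => ?_⟩
  have : IrreducibleSpace ↥(pullback f x) :=
    GeometricallyIrreducible.geometrically_irreducibleSpace _ _ _ (.of_hasPullback f x)
  infer_instance

/-- the closed immersion of the reduction is surjective. -/
theorem surjective_nilradical_subschemeι (X : Scheme.{u}) :
    Surjective X.nilradical.subschemeι := by
  constructor
  intro x
  have hr : x ∈ Set.range X.nilradical.subschemeι := by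
    rw [Scheme.IdealSheafData.range_subschemeι]; simp
  exact hr

end Groth.Agent.Lib.Seat85.GeomIrrNorm
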