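import Mathlib.AlgebraicGeometry.AffineTransitionLimit
import Mathlib.AlgebraicGeometry.Morphisms.SchemeTheoreticallyDominant

/-!
# Descending morphisms to a finite-type target along a limit with injective transition maps

Variant of `Scheme.exists_π_app_comp_eq_of_locallyOfFinitePresentation` where the target is only
locally of finite type but the transition maps are scheme-theoretically dominant.
The global argument is the Mathlib gluing argument, with the affine input replaced.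
-/

universe u
open CategoryTheory Limits AlgebraicGeometry

namespace Groth.Agent.Lib.Seat85.HomColim

variable {I : Type u} [Category.{u} I] {S X : Scheme.{u}} (D : I ⥤ Scheme.{u})
  (t : D ⟶ (Functor.const I).obj S) (f : X ⟶ S) (c : Cone D) (hc : IsLimit c)

/-- A scheme-theoretically dominant quasi-compact morphism restricted to the preimage of an open
is injective on global sections. -/
lemma resLE_appTop_injective {X Y : Scheme.{u}} (f : X ⟶ Y) [IsSchemeTheoreticallyDominant f]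
    [QuasiCompact f] (U : Y.Opens) (V : X.Opens) (e : V = f ⁻¹ᵁ U) :
    Function.Injective (f.resLE U V e.le).appTop := by
  subst e
  rw [Scheme.Hom.appTop, Scheme.Hom.resLE_app_top, ← Scheme.Hom.app_eq_appLE]
  simp only [CommRingCat.hom_comp, RingHom.coe_comp]
  refine (Function.Injective.comp ?_ (f.app_injective U)).comp ?_
  · exact (ConcreteCategory.bijective_of_isIso _).1
  · exact (ConcreteCategory.bijective_of_isIso _).1

include hc in
/-- If the transition maps are injective on global sections, so are the projections. -/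
lemma appTop_π_injective [IsCofiltered I] [∀ {i j} (f : i ⟶ j), IsAffineHom (D.map f)]
    [∀ i, CompactSpace (D.obj i)]
    (hinj : ∀ {i j : I} (g : i ⟶ j), Function.Injective (D.map g).appTop) (i : I) :
    Function.Injective (c.π.app i).appTop := by
  rw [injective_iff_map_eq_zero]
  intro s hs
  obtain ⟨j, g, hg⟩ := exists_appTop_map_eq_zero_of_isLimit D c hc s hs
  exact hinj g (by simpa using hg)

include hc in
lemma exists_π_app_comp_eq_of_isAffine
    [IsCofiltered I] [LocallyOfFiniteType f]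
    [IsAffine S] [IsAffine X] [∀ i, IsAffine (D.obj i)]
    (hinj : ∀ {i j : I} (g : i ⟶ j), Function.Injective (D.map g).appTop)
    (a : c.pt ⟶ X) (ha : c.π ≫ t = (Functor.const _).map (a ≫ f)) :
    ∃ (i : I) (g : D.obj i ⟶ X), c.π.app i ≫ g = a ∧ g ≫ f = t.app i := by
  have hf : RingHom.FiniteType f.appTop.hom :=
    (HasRingHomProperty.iff_of_isAffine (P := @LocallyOfFiniteType)).mp ‹_›
  algebraize [f.appTop.hom]
  obtain ⟨n, π, hπ⟩ := Algebra.FiniteType.iff_quotient_mvPolynomial''.mp hf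
  -- the polynomial ring and the closed immersion `X ⟶ 𝔸ⁿ_S`
  let P : CommRingCat.{u} := CommRingCat.of (MvPolynomial (Fin n) Γ(S, ⊤))
  let πc : P ⟶ Γ(X, ⊤) := CommRingCat.ofHom π.toRingHom
  let Cc : Γ(S, ⊤) ⟶ P := CommRingCat.ofHom (algebraMap Γ(S, ⊤) (MvPolynomial (Fin n) Γ(S, ⊤)))
  have hCπ : Cc ≫ πc = f.appTop := by
    ext x
    exact π.commutes x
  let ι : X ⟶ Spec P := X.isoSpec.hom ≫ Spec.map πc
  let p : Spec P ⟶ S := Spec.map Cc ≫ S.isoSpec.inv
  have hιp : ι ≫ p = f := by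
    simp only [ι, p, Category.assoc, ← Spec.map_comp_assoc, hCπ]
    rw [Scheme.isoSpec_hom_naturality_assoc]
    simp
  have : LocallyOfFinitePresentation p := by
    have : LocallyOfFinitePresentation (Spec.map Cc) := by
      rw [HasRingHomProperty.Spec_iff (P := @LocallyOfFinitePresentation)]
      exact RingHom.finitePresentation_algebraMap.mpr inferInstance
    infer_instance
  have : IsClosedImmersion (Spec.map πc) := IsClosedImmersion.spec_of_surjective πc hπ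
  have hmono : Mono ι := inferInstance
  obtain ⟨i, g', h1, h2⟩ := Scheme.exists_π_app_comp_eq_of_locallyOfFinitePresentation D t p c hc
    (a ≫ ι) (by rw [Category.assoc, hιp, ha])
  have hci : Function.Injective (c.π.app i).appTop := appTop_π_injective D c hc hinj i
  let ψ : P ⟶ Γ(D.obj i, ⊤) := (Scheme.ΓSpecIso P).inv ≫ g'.appTop
  have hker : RingHom.ker πc.hom ≤ RingHom.ker ψ.hom := by
    intro x hx
    rw [RingHom.mem_ker] at hx ⊢
    apply hci
    rw [map_zero]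
    have e1 : ψ ≫ (c.π.app i).appTop = πc ≫ (Scheme.ΓSpecIso _).inv ≫ X.isoSpec.hom.appTop ≫
        a.appTop := by
      simp only [ψ, Category.assoc, ← Scheme.Hom.comp_appTop, h1]
      simp only [ι, Scheme.Hom.comp_appTop, Category.assoc]
      rw [Scheme.ΓSpecIso_inv_naturality_assoc]
    have := congr($e1 x)
    simp only [CommRingCat.comp_apply] at this
    rw [this]
    show _ = 0
    erw [hx]
    simp
  let ψ' : Γ(X, ⊤) ⟶ Γ(D.obj i, ⊤) :=
    CommRingCat.ofHom (RingHom.liftOfSurjective πc.hom hπ ⟨ψ.hom, hker⟩)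
  have hψ' : πc ≫ ψ' = ψ := by
    apply CommRingCat.hom_ext
    apply RingHom.ext
    intro x
    exact RingHom.liftOfSurjective_comp_apply πc.hom hπ ⟨ψ.hom, hker⟩ x
  let g : D.obj i ⟶ X := (D.obj i).toSpecΓ ≫ Spec.map ψ' ≫ X.isoSpec.inv
  have hg : g ≫ ι = g' := by
    simp only [g, ι, Category.assoc, Iso.inv_hom_id_assoc, ← Spec.map_comp, hψ', ψ]
    rw [Spec.map_comp, ← Scheme.toSpecΓ_naturality_assoc, ← SpecMap_ΓSpecIso_hom,
      ← Spec.map_comp]
    simp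
  refine ⟨i, g, ?_, ?_⟩
  · rw [← cancel_mono ι, Category.assoc, hg, h1]
  · rw [← hιp, ← Category.assoc, hg, h2]

attribute [local simp] Scheme.Hom.resLE_comp_resLE

set_option backward.defeqAttrib.useBackward true in
set_option backward.isDefEq.respectTransparency false in
open TopologicalSpace AlgebraicGeometry.Scheme in
include hc in
/--
Given a cofiltered diagram of qcqs schemes `Dᵢ` over `S` with affine and scheme-theoretically
dominant transition maps. If `X` is locally of finite type over `S`, then any `S`-morphism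
`lim Dᵢ ⟶ X` factors through some `lim Dᵢ ⟶ Dⱼ ⟶ X` for some `j`.
-/
lemma exists_π_app_comp_eq_of_locallyOfFiniteType
    [IsCofiltered I] [LocallyOfFiniteType f]
    [∀ {i j} (f : i ⟶ j), IsAffineHom (D.map f)]
    [∀ {i j} (f : i ⟶ j), IsSchemeTheoreticallyDominant (D.map f)]
    [∀ i, CompactSpace (D.obj i)] [∀ i, QuasiSeparatedSpace (D.obj i)]
    (a : c.pt ⟶ X) (ha : c.π ≫ t = (Functor.const _).map (a ≫ f)) :
    ∃ (i : I) (g : D.obj i ⟶ X), c.π.app i ≫ g = a ∧ g ≫ f = t.app i := by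
  -- The open cover of `c := lim Dᵢ` indexed by triplets of affine opens `(U, V, W)` with
  -- `U ⊆ c`, `V ⊆ X`, `W ⊆ S` such that `U` maps to `V` maps to `W`.
  have 𝒰 := (c.pt.isBasis_affineOpens).isOpenCover_mem_and_le
    (((X.isBasis_affineOpens).isOpenCover_mem_and_le
    ((S.isBasis_affineOpens).isOpenCover.comap f.base.hom)).comap a.base.hom)
  -- By qcqs, this cover descends to some finite affine open cover `𝒱` of `Dᵢ`.
  obtain ⟨i, s, 𝒱, h𝒱, h𝒱𝒰⟩ := Scheme.exists_isOpenCover_and_isAffine D c hc _ 𝒰 fun U ↦ U.2.1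
  obtain ⟨i', fi'i, hi'⟩ : ∃ (i' : I) (fi'i : i' ⟶ i),
      ∀ j, D.map fi'i ⁻¹ᵁ 𝒱 j ≤ t.app i' ⁻¹ᵁ j.1.1.2.1.2.1 := by
    choose k fk hk using fun j ↦ exists_map_preimage_le_map_preimage D c hc (h𝒱𝒰 j).1.isCompact
      (V := t.app i ⁻¹ᵁ j.1.1.2.1.2.1) (by
      rw [← Hom.comp_preimage, ← NatTrans.comp_app, ha]
      exact (h𝒱𝒰 j).2.symm.trans_le (j.1.prop.2.trans (a.preimage_mono j.1.1.2.prop.2)))
    obtain ⟨i', fi'i, fi', hfi'⟩ := IsCofiltered.wideCospan fk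
    refine ⟨i', fi'i, fun j ↦ ?_⟩
    rw [← hfi', Functor.map_comp, Hom.comp_preimage]
    refine (Hom.preimage_mono _ (hk _)).trans ?_
    simp only [← Hom.comp_preimage, t.naturality, Functor.const_obj_obj,
      Functor.const_obj_map, Category.comp_id, le_refl]
  -- Using the affine version `exists_π_app_comp_eq_of_locallyOfFinitePresentation_of_isAffine`,
  -- one can now factor `Dⱼ ⁻¹ 𝒱ⱼ ⟶ lim Dᵢ ⟶ X` through some `Dⱼₖ ⁻¹ 𝒱ⱼ` for each `𝒱ⱼ`,
  -- and by finite-ness we may chose a fixed `k` that works for every `j`.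
  have : ∃ k, ∃ (fk : k ⟶ i), ∀ j, ∃ (ak : ↑(D.map fk ⁻¹ᵁ 𝒱 j) ⟶ X),
      ak ≫ f = Opens.ι _ ≫ t.app k ∧ c.π.app _ ∣_ _ ≫ ak = Opens.ι _ ≫ a := by
    let 𝒱' := (D.map fi'i ⁻¹ᵁ 𝒱 ·)
    have h𝒱'𝒰 (j : s) : c.π.app i' ⁻¹ᵁ 𝒱' j = j.1.1.1 := by
      rw [← Hom.comp_preimage, c.w fi'i]; exact (h𝒱𝒰 j).2.symm
    have _ (j k) : IsAffine ((opensDiagram D i' (𝒱' j)).obj k) := ((h𝒱𝒰 _).1.preimage _).preimage _
    let t𝒱 (j : _) : opensDiagram D i' (𝒱' j) ⟶ (Functor.const (Over i')).obj j.1.1.2.1.2 :=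
    { app k := (t.app k.left).resLE _ _ <| by
        refine (Hom.preimage_mono _ (hi' _)).trans ?_
        simp only [Functor.const_obj_obj, ← Hom.comp_preimage, t.naturality,
          Functor.const_obj_map, Category.comp_id, le_refl]
      naturality {k₁ k₂} f₁₂ := by simp [Hom.resLE_comp_resLE] }
    have (j : s) : IsAffine j.1.1.2.1.1 := j.1.1.2.prop.1
    choose k ak hk hk' using fun j ↦ exists_π_app_comp_eq_of_isAffine
      _ (t𝒱 j) (f.resLE _ _ j.1.1.2.prop.2) _ (isLimitOpensCone D c hc i' (𝒱' j))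
      (fun {k₁ k₂} g ↦ resLE_appTop_injective (D.map g.left) _ _
        (by
          show D.map k₁.hom ⁻¹ᵁ 𝒱' j = _
          rw [← Over.w g, D.map_comp, Hom.comp_preimage]))
      (a.resLE _ _ ((h𝒱'𝒰 _).trans_le j.1.prop.2)) (by
      ext k
      simp [t𝒱, Hom.resLE_comp_resLE, show c.π.app k.left ≫ t.app k.left = a ≫ f from
        congr(($ha).app k.left)])
    obtain ⟨i'', fi''i', fi'', hi''⟩ := IsCofiltered.wideCospan fun j ↦ (k j).hom
    refine ⟨i'', fi''i' ≫ fi'i, fun j ↦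
      ⟨Scheme.homOfLE _ ?_ ≫ D.map (fi'' _) ∣_ _ ≫ ak j ≫ Opens.ι _, ?_, ?_⟩⟩
    · simp only [← Hom.comp_preimage, ← Functor.map_comp, 𝒱', reassoc_of% hi'']; rfl
    · have : ak j ≫ Opens.ι _ ≫ f = Opens.ι _ ≫ t.app (k j).left := by
        simpa [t𝒱] using! congr($(hk' j) ≫ Opens.ι _)
      simp [this]
    · have e : c.π.app i'' ⁻¹ᵁ D.map (fi''i' ≫ fi'i) ⁻¹ᵁ 𝒱 j ≤ c.π.app i' ⁻¹ᵁ 𝒱' j := by
        simp only [← Hom.comp_preimage, Cone.w, 𝒱']; rfl
      simpa [← AlgebraicGeometry.Scheme.Hom.resLE_eq_morphismRestrict,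
        Scheme.Hom.resLE_comp_resLE_assoc] using! congr(Scheme.homOfLE _ e ≫ $(hk j) ≫ Opens.ι _)
  choose k fki ak hak hak' using this
  -- We may then find an `l` for each `j₁` and `j₂` such that the map `Dⱼ₁ₗ ⁻¹ 𝒱ⱼ₁ ⟶ X` and
  -- `Dⱼ₂ₗ ⁻¹ 𝒱ⱼ₂ ⟶ X` agrees on the intersection in `Dₗ`.
  -- And again by finiteness we may choose a global `l`.
  obtain ⟨l, flk, hl⟩ : ∃ (l : I) (flk : l ⟶ k), ∀ j₁ j₂, Scheme.homOfLE _ inf_le_left ≫
      D.map flk ∣_ _ ≫ ak j₁ = Scheme.homOfLE _ inf_le_right ≫ D.map flk ∣_ _ ≫ ak j₂ := by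
    let 𝒱' := (D.map fki ⁻¹ᵁ 𝒱 ·)
    have (j₁ j₂ : s) : ∃ (l : I) (flk : l ⟶ k), Scheme.homOfLE _ inf_le_left ≫ D.map flk ∣_ _ ≫
        ak j₁ = Scheme.homOfLE _ inf_le_right ≫ D.map flk ∣_ _ ≫ ak j₂ := by
      have _ (x) : CompactSpace ↥((opensDiagram D k (𝒱' j₁ ⊓ 𝒱' j₂)).obj x) :=
        isCompact_iff_compactSpace.mp (QuasiCompact.isCompact_preimage _ (𝒱' j₁ ⊓ 𝒱' j₂).isOpen
          (((h𝒱𝒰 _).1.preimage _).isCompact.inter_of_isOpen ((h𝒱𝒰 _).1.preimage _).isCompact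
            (D.map fki ⁻¹ᵁ 𝒱 j₁).2 (D.map fki ⁻¹ᵁ 𝒱 j₂).2))
      obtain ⟨⟨l, ⟨⟨⟩⟩, flk⟩, ⟨flk', ⟨⟨⟨⟩⟩⟩, h⟩, e⟩ :=
        Scheme.exists_hom_comp_eq_comp_of_locallyOfFiniteType _
          (opensDiagramι .. ≫ (Over.forget k).whiskerLeft t) f _
          (isLimitOpensCone D c hc k (𝒱' j₁ ⊓ 𝒱' j₂)) (i := .mk (𝟙 k))
          (Scheme.homOfLE _ (by simp [𝒱']) ≫ ak j₁) (Scheme.homOfLE _ (by simp [𝒱']) ≫ ak j₂)
          (by simp [hak]) (by simp [hak]) (by simp; simp [Hom.resLE, hak'])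
      obtain rfl : flk = flk' := by simpa using! h.symm
      refine ⟨l, flk, by simpa [← Scheme.Hom.resLE_eq_morphismRestrict] using! e⟩
    choose l flk hflk using this
    obtain ⟨l', fl'k, fl'l, hl'⟩ := IsCofiltered.wideCospan (I := s × s) fun x ↦ flk x.1 x.2
    refine ⟨l', fl'k, fun j₁ j₂ ↦ ?_⟩
    have H : (D.map fl'k ≫ D.map fki) ⁻¹ᵁ (𝒱 j₁ ⊓ 𝒱 j₂) ≤
        (D.map (fl'l (j₁, j₂)) ≫ D.map (flk j₁ j₂) ≫ D.map fki) ⁻¹ᵁ (𝒱 j₁ ⊓ 𝒱 j₂) := by
      simp only [← Functor.map_comp, reassoc_of% hl']; rfl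
    simpa [← Scheme.Hom.resLE_eq_morphismRestrict, Scheme.Hom.resLE_comp_resLE_assoc,
      ← Functor.map_comp, hl'] using! congr((D.map (fl'l (j₁, j₂))).resLE _ _ H ≫ $(hflk j₁ j₂))
  -- We may glue the morphisms into `Dₗ ⟶ X` and verify that it indeed satisfies the hypothesis.
  let h𝒲 := (h𝒱.comap (D.map fki).base.hom).comap (D.map flk).base.hom
  let 𝒲 := Scheme.openCoverOfIsOpenCover _ (D.map flk ⁻¹ᵁ D.map fki ⁻¹ᵁ 𝒱 ·) h𝒲
  let F := 𝒲.glueMorphisms (fun j ↦ D.map flk ∣_ D.map fki ⁻¹ᵁ 𝒱 j ≫ ak j) (fun j₁ j₂ ↦ by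
      rw [← cancel_epi (isPullback_opens_inf _ _).isoPullback.hom]
      simpa [𝒲] using! hl j₁ j₂)
  have hF (j : s) : (D.map flk ⁻¹ᵁ D.map fki ⁻¹ᵁ 𝒱 j).ι ≫ F = D.map flk ∣_ _ ≫ ak j :=
    Scheme.Cover.ι_glueMorphisms ..
  refine ⟨l, F, ?_, ?_⟩
  · refine Cover.hom_ext (𝒲.pullback₁ (c.π.app l)) _ _ fun j ↦ ?_
    rw [← cancel_epi (isPullback_morphismRestrict _ _).flip.isoPullback.hom]
    dsimp [𝒲]
    simp only [pullback.condition_assoc, IsPullback.isoPullback_hom_snd_assoc,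
      IsPullback.isoPullback_hom_fst_assoc, hF]
    have h : c.π.app l ⁻¹ᵁ D.map flk ⁻¹ᵁ D.map fki ⁻¹ᵁ 𝒱 j ≤ c.π.app k ⁻¹ᵁ D.map fki ⁻¹ᵁ 𝒱 j := by
      simp only [← Hom.comp_preimage, c.w_assoc, c.w]; rfl
    simpa [← Scheme.Hom.resLE_eq_morphismRestrict, Scheme.Hom.resLE_comp_resLE_assoc] using!
      congr(Scheme.homOfLE _ h ≫ $(hak' j))
  · refine 𝒲.hom_ext _ _ fun j ↦ ?_
    simp [F, Cover.ι_glueMorphisms_assoc, hak]; rfl

end Groth.Agent.Lib.Seat85.HomColim
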