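/-
Helper library (helper85): sections of a normal scheme with open irreducible components, and the
relative normalization of a scheme in a normal scheme.

* `germ_injective_of_isPreirreducible`, `isOpen_setOf_germ_ne_zero`, `exists_supp_decomposition`:
  the support of a section is clopen in its domain.
* `exists_glue₂`, `exists_mul_eq_of_scaleRoots`: gluing over disjoint opens, division of sections.
* `isNormalRing_of_closed`: a ring embedded in `Γ(Y, V)` with integrally closed image is a normal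
  ring (`Y` normal with open irreducible components).
* `toNormalization_app_closed`, `exists_idempotent_of_isClopen`,
  `stalkMap_toNormalization_injective`, `closure_toNormalization_mem_irreducibleComponents`,
  `exists_eq_closure_image_of_meets`: the geometry of `Y ⟶ f.normalization`.
-/
import Groth.Agent.Lib.Helper6NormCrit
import Groth.Agent.Lib.Seat85EtSepClosed

set_option autoImplicit false
set_option linter.style.haveILetI false
universe u
open CategoryTheory AlgebraicGeometry TopologicalSpace Opposite Polynomial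

namespace Groth.Agent.Lib.Seat85.NormalSections

variable {Y : Scheme.{u}}

/-- On a reduced scheme, germs at points of a preirreducible open are injective on its sections. -/
theorem germ_injective_of_isPreirreducible [IsReduced Y] (W : Y.Opens)
    (hW : IsPreirreducible (W : Set Y)) (y : Y) (hy : y ∈ W) :
    Function.Injective (Y.presheaf.germ W y hy) := by
  rw [injective_iff_map_eq_zero]
  intro s hs
  obtain ⟨N, hyN, iU, iV, hN⟩ :=
    TopCat.Presheaf.germ_eq Y.presheaf y hy hy s 0 (by rw [hs, map_zero])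
  rw [map_zero] at hN
  rw [← basicOpen_eq_bot_iff] at hN ⊢
  rw [Scheme.basicOpen_res] at hN
  by_contra hne
  obtain ⟨z, hz⟩ := (Opens.ne_bot_iff_nonempty _).mp hne
  obtain ⟨w, -, hwN, hws⟩ := hW N (Y.basicOpen s) N.isOpen (Y.basicOpen s).isOpen
    ⟨y, hy, hyN⟩ ⟨z, Y.basicOpen_le s hz, hz⟩
  have : w ∈ (N ⊓ Y.basicOpen s : Y.Opens) := ⟨hwN, hws⟩
  rw [hN] at this
  exact this

/-- The locus where the germ of a section vanishes is open. -/
theorem isOpen_setOf_germ_eq_zero (V : Y.Opens) (s : Γ(Y, V)) :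
    IsOpen {y : Y | ∃ h : y ∈ V, Y.presheaf.germ V y h s = 0} := by
  rw [isOpen_iff_forall_mem_open]
  rintro y ⟨hy, hs⟩
  obtain ⟨N, hyN, iU, iV, hN⟩ :=
    TopCat.Presheaf.germ_eq Y.presheaf y hy hy s 0 (by rw [hs, map_zero])
  rw [map_zero] at hN
  refine ⟨N, ?_, N.isOpen, hyN⟩
  intro z hz
  refine ⟨iU.le hz, ?_⟩
  rw [← TopCat.Presheaf.germ_res_apply Y.presheaf iU z hz, hN, map_zero]

theorem isReduced_of_isDomain_stalk (hdom : ∀ y : Y, IsDomain (Y.presheaf.stalk y)) :
    IsReduced Y := by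
  have : ∀ y : Y, _root_.IsReduced (Y.presheaf.stalk y) := fun y => by
    have := hdom y
    infer_instance
  exact isReduced_of_isReduced_stalk Y

/-- On a scheme with domain stalks and open irreducible components, the locus where the germ of a
section does not vanish is open. -/
theorem isOpen_setOf_germ_ne_zero (hdom : ∀ y : Y, IsDomain (Y.presheaf.stalk y))
    (hopen : ∀ Z ∈ irreducibleComponents Y, IsOpen Z) (V : Y.Opens) (s : Γ(Y, V)) :
    IsOpen {y : Y | ∃ h : y ∈ V, Y.presheaf.germ V y h s ≠ 0} := by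
  have := isReduced_of_isDomain_stalk hdom
  rw [isOpen_iff_forall_mem_open]
  rintro y ⟨hy, hs⟩
  have hZ : irreducibleComponent y ∈ irreducibleComponents Y :=
    irreducibleComponent_mem_irreducibleComponents y
  let W : Y.Opens := ⟨irreducibleComponent y, hopen _ hZ⟩ ⊓ V
  have hyW : y ∈ W := ⟨mem_irreducibleComponent, hy⟩
  have hWirr : IsPreirreducible (W : Set Y) :=
    hZ.1.2.open_subset W.isOpen Set.inter_subset_left
  refine ⟨W, ?_, W.isOpen, hyW⟩
  intro z hz
  refine ⟨hz.2, fun h0 => hs ?_⟩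
  have h1 : Y.presheaf.germ W z hz (Y.presheaf.map (homOfLE inf_le_right).op s) = 0 := by
    rw [TopCat.Presheaf.germ_res_apply]; exact h0
  have h2 : Y.presheaf.map (homOfLE (inf_le_right : W ≤ V)).op s = 0 :=
    germ_injective_of_isPreirreducible W hWirr z hz (h1.trans (map_zero _).symm)
  rw [← TopCat.Presheaf.germ_res_apply Y.presheaf (homOfLE (inf_le_right : W ≤ V)) y hyW, h2,
    map_zero]

theorem subsingleton_of_eq_bot (W : Y.Opens) (hW : W = ⊥) : Subsingleton Γ(Y, W) := by
  rw [hW]; infer_instance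

/-- Gluing two sections over disjoint opens. -/
theorem exists_glue₂ (S S' V : Y.Opens) (hS : S ≤ V) (hS' : S' ≤ V) (hcov : V ≤ S ⊔ S')
    (hdisj : S ⊓ S' = ⊥) (c : Γ(Y, S)) (c' : Γ(Y, S')) :
    ∃ s : Γ(Y, V), Y.presheaf.map (homOfLE hS).op s = c ∧
      Y.presheaf.map (homOfLE hS').op s = c' := by
  let U : Bool → Y.Opens := fun b => cond b S S'
  let sf : ∀ b : Bool, Γ(Y, U b) := fun b => Bool.rec (motive := fun b => Γ(Y, U b)) c' c b
  have hcompat : TopCat.Presheaf.IsCompatible Y.presheaf U sf := by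
    intro i j
    cases i <;> cases j
    · rfl
    · have : Subsingleton Γ(Y, U false ⊓ U true) :=
        subsingleton_of_eq_bot _ (by rw [inf_comm]; exact hdisj)
      exact Subsingleton.elim _ _
    · have : Subsingleton Γ(Y, U true ⊓ U false) := subsingleton_of_eq_bot _ hdisj
      exact Subsingleton.elim _ _
    · rfl
  have hcover : V ≤ iSup U := by
    refine hcov.trans (sup_le ?_ ?_)
    · exact le_iSup U true
    · exact le_iSup U false
  obtain ⟨s, hs, -⟩ := Y.sheaf.existsUnique_gluing' U V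
    (fun b => homOfLE (by cases b; exacts [hS', hS])) hcover sf hcompat
  exact ⟨s, hs true, hs false⟩

/-- Division of sections on a normal scheme: if `a / b` is integral (in the `scaleRoots` form) and
`b` has nonvanishing germs everywhere, then `b` divides `a`. -/
theorem exists_mul_eq_of_scaleRoots (hdom : ∀ y : Y, IsDomain (Y.presheaf.stalk y))
    (hic : ∀ y : Y, IsIntegrallyClosed (Y.presheaf.stalk y)) (S : Y.Opens) (a b : Γ(Y, S))
    (g : Γ(Y, S)[X]) (hg : g.Monic) (hab : (g.scaleRoots b).eval a = 0)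
    (hb : ∀ (y : Y) (h : y ∈ S), Y.presheaf.germ S y h b ≠ 0) :
    ∃ c : Γ(Y, S), b * c = a := by
  have hloc : ∀ y : S, ∃ (N : Y.Opens) (_ : y.1 ∈ N) (hNS : N ≤ S) (c : Γ(Y, N)),
      Y.presheaf.map (homOfLE hNS).op b * c = Y.presheaf.map (homOfLE hNS).op a := by
    rintro ⟨y, hy⟩
    have := hdom y
    have hNC := (Groth.Agent.Lib.Helper6.EtNormal.isIntegrallyClosed_iff_nc
      (Y.presheaf.stalk y)).mp (hic y)
    set φ := (Y.presheaf.germ S y hy).hom with hφ
    have h1 : ((g.map φ).scaleRoots (φ b)).eval (φ a) = 0 := by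
      rw [Groth.Agent.Lib.Helper6.NormCrit.eval_scaleRoots_map φ g hg a b, hab, map_zero]
    obtain ⟨t, ht⟩ := hNC (φ a) (φ b) (g.map φ) (hg.map φ) (hb y hy) h1
    obtain ⟨N₁, hN₁S, hyN₁, c₁, hc₁⟩ := Y.presheaf.exists_le_germ_eq t hy
    have h2 : Y.presheaf.germ N₁ y hyN₁ (Y.presheaf.map (homOfLE hN₁S).op b * c₁) =
        Y.presheaf.germ N₁ y hyN₁ (Y.presheaf.map (homOfLE hN₁S).op a) := by
      rw [map_mul, TopCat.Presheaf.germ_res_apply, TopCat.Presheaf.germ_res_apply, hc₁]
      exact ht.symm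
    obtain ⟨N, hyN, i₁, i₂, hN⟩ := TopCat.Presheaf.germ_eq Y.presheaf y hyN₁ hyN₁ _ _ h2
    refine ⟨N, hyN, i₁.le.trans hN₁S, Y.presheaf.map i₁.op c₁, ?_⟩
    rw [map_mul] at hN
    rw [← ConcreteCategory.comp_apply, ← Functor.map_comp] at hN
    rw [← ConcreteCategory.comp_apply, ← Functor.map_comp] at hN
    exact hN
  choose N hyN hNS c hc using hloc
  have hcompat : TopCat.Presheaf.IsCompatible Y.presheaf N c := by
    intro y y'
    apply TopCat.Presheaf.section_ext Y.sheaf
    intro z hz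
    have hzS : z ∈ S := hNS y hz.1
    have := hdom z
    apply mul_left_cancel₀ (hb z hzS)
    have e1 := congrArg (Y.presheaf.germ (N y) z hz.1) (hc y)
    have e2 := congrArg (Y.presheaf.germ (N y') z hz.2) (hc y')
    rw [map_mul, TopCat.Presheaf.germ_res_apply, TopCat.Presheaf.germ_res_apply] at e1 e2
    erw [TopCat.Presheaf.germ_res_apply, TopCat.Presheaf.germ_res_apply]
    exact e1.trans e2.symm
  have hcover : S ≤ ⨆ y : S, N y := fun z hz => Opens.mem_iSup.2 ⟨⟨z, hz⟩, hyN ⟨z, hz⟩⟩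
  obtain ⟨c₀, hc₀, -⟩ := Y.sheaf.existsUnique_gluing' N S (fun y => homOfLE (hNS y)) hcover c hcompat
  refine ⟨c₀, ?_⟩
  apply Y.sheaf.eq_of_locally_eq' N S (fun y => homOfLE (hNS y)) hcover
  intro y
  have := hc₀ y
  erw [map_mul, this]
  exact hc y

theorem section_ext' (U : Y.Opens) (s t : Γ(Y, U))
    (h : ∀ (y : Y) (hy : y ∈ U), Y.presheaf.germ U y hy s = Y.presheaf.germ U y hy t) : s = t :=
  TopCat.Presheaf.section_ext Y.sheaf U s t h

theorem eq_of_res_eq₂ {S S' V : Y.Opens} (hS : S ≤ V) (hS' : S' ≤ V) (hcov : V ≤ S ⊔ S')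
    (s t : Γ(Y, V))
    (h₁ : Y.presheaf.map (homOfLE hS).op s = Y.presheaf.map (homOfLE hS).op t)
    (h₂ : Y.presheaf.map (homOfLE hS').op s = Y.presheaf.map (homOfLE hS').op t) : s = t :=
  Y.sheaf.eq_of_locally_eq₂ (homOfLE hS) (homOfLE hS') hcov s t h₁ h₂

/-- Decomposition of an open into the support and the zero locus of a section. -/
theorem exists_supp_decomposition (hdom : ∀ y : Y, IsDomain (Y.presheaf.stalk y))
    (hopen : ∀ Z ∈ irreducibleComponents Y, IsOpen Z) (V : Y.Opens) (s : Γ(Y, V)) :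
    ∃ (S S' : Y.Opens) (hS : S ≤ V) (hS' : S' ≤ V), V ≤ S ⊔ S' ∧ S ⊓ S' = ⊥ ∧
      Y.presheaf.map (homOfLE hS').op s = 0 ∧
      ∀ (y : Y) (h : y ∈ S), Y.presheaf.germ S y h (Y.presheaf.map (homOfLE hS).op s) ≠ 0 := by
  refine ⟨⟨_, isOpen_setOf_germ_ne_zero hdom hopen V s⟩, ⟨_, isOpen_setOf_germ_eq_zero V s⟩,
    fun y hy => hy.1, fun y hy => hy.1, ?_, ?_, ?_, ?_⟩
  · intro y hy
    by_cases h : Y.presheaf.germ V y hy s = 0
    · exact Or.inr ⟨hy, h⟩
    · exact Or.inl ⟨hy, h⟩
  · ext y
    simp only [Opens.coe_inf, Opens.coe_mk, Set.mem_inter_iff, Set.mem_ofPred_eq, Opens.coe_bot,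
      Set.mem_empty_iff_false, iff_false, not_and, not_exists]
    rintro ⟨hy, h⟩ hy'
    exact h
  · apply section_ext'
    rintro y ⟨hy, h⟩
    rw [TopCat.Presheaf.germ_res_apply, h, map_zero]
  · rintro y ⟨hy, h⟩
    rw [TopCat.Presheaf.germ_res_apply]
    exact h

/-- The local ring of a reduced scheme at the generic point of an open irreducible component is a
field: its maximal ideal vanishes. -/
theorem maximalIdeal_stalk_eq_bot [IsReduced Y] (y : Y) (hopen : IsOpen (closure ({y} : Set Y))) :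
    IsLocalRing.maximalIdeal (Y.presheaf.stalk y) = ⊥ := by
  rw [eq_bot_iff]
  intro t ht
  have hyZ : y ∈ (⟨closure {y}, hopen⟩ : Y.Opens) := subset_closure rfl
  obtain ⟨N, hNZ, hyN, s, rfl⟩ := Y.presheaf.exists_le_germ_eq t hyZ
  have hnu : ¬ IsUnit (Y.presheaf.germ N y hyN s) := ht
  have hbot : Y.basicOpen s = ⊥ := by
    by_contra hne
    obtain ⟨z, hz⟩ := (Opens.ne_bot_iff_nonempty _).mp hne
    have hzy : y ⤳ z := specializes_iff_mem_closure.mpr (hNZ (Y.basicOpen_le s hz))
    have hy : y ∈ Y.basicOpen s := hzy.mem_open (Y.basicOpen s).isOpen hz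
    exact hnu ((Y.mem_basicOpen s y hyN).mp hy)
  rw [(basicOpen_eq_bot_iff s).mp hbot, map_zero]
  exact Submodule.zero_mem _

/-- A point of a scheme whose local ring has vanishing maximal ideal is the generic point of an
irreducible component. -/
theorem closure_mem_irreducibleComponents_of_maximalIdeal_eq_bot (x : Y)
    (hm : IsLocalRing.maximalIdeal (Y.presheaf.stalk x) = ⊥) :
    closure ({x} : Set Y) ∈ irreducibleComponents Y := by
  have hgen : ∀ x' : Y, x' ⤳ x → x' = x := by
    intro x' h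
    have h1 : x' ∈ Set.range (Y.fromSpecStalk x) := by
      rw [Scheme.range_fromSpecStalk]; exact h
    obtain ⟨p, rfl⟩ := h1
    have hp : p = IsLocalRing.closedPoint (Y.presheaf.stalk x) := by
      apply PrimeSpectrum.ext
      exact le_antisymm (IsLocalRing.le_maximalIdeal p.2.ne_top) (by
        change IsLocalRing.maximalIdeal _ ≤ _
        rw [hm]; exact bot_le)
    rw [hp, Scheme.fromSpecStalk_closedPoint]
  refine ⟨isIrreducible_singleton.closure, fun T hT hle => ?_⟩
  obtain ⟨t, ht⟩ := QuasiSober.sober hT.closure isClosed_closure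
  have hx : x ∈ closure T := subset_closure (hle (subset_closure rfl))
  rw [← ht.def] at hx
  have htx : t = x := hgen t (specializes_iff_mem_closure.mpr hx)
  calc T ⊆ closure T := subset_closure
    _ = closure {t} := ht.def.symm
    _ = closure {x} := by rw [htx]

theorem eq_of_mem_irreducibleComponents (hdom : ∀ y : Y, IsDomain (Y.presheaf.stalk y)) :
    ∀ Z₁ ∈ irreducibleComponents Y, ∀ Z₂ ∈ irreducibleComponents Y, ∀ x : Y,
      x ∈ Z₁ → x ∈ Z₂ → Z₁ = Z₂ := fun Z₁ h₁ Z₂ h₂ x hx₁ hx₂ => by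
  have := hdom x
  exact Groth.Agent.Lib.Seat94.LocIntegral.eq_of_mem_irreducibleComponents_of_isDomain_stalk
    Y x h₁ h₂ hx₁ hx₂

theorem finite_components_meeting (hfin : LocallyFinite
    (fun Z : ↥(irreducibleComponents Y) => (Z : Set Y))) (V : Set Y) (hV : IsCompact V) :
    {Z | Z ∈ irreducibleComponents Y ∧ (Z ∩ V).Nonempty}.Finite := by
  have h1 := hfin.finite_nonempty_inter_compact hV
  refine (h1.image Subtype.val).subset ?_
  rintro Z ⟨hZ, hne⟩
  exact ⟨⟨Z, hZ⟩, hne, rfl⟩

/-- On a scheme with domain stalks whose irreducible components are locally finite, the irreducible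
components are open. -/
theorem isOpen_of_mem_irreducibleComponents (hdom : ∀ y : Y, IsDomain (Y.presheaf.stalk y))
    (hfin : LocallyFinite (fun Z : ↥(irreducibleComponents Y) => (Z : Set Y))) :
    ∀ Z ∈ irreducibleComponents Y, IsOpen Z := by
  intro Z hZ
  refine Groth.Agent.Lib.Seat85.EtSepClosed.isOpen_of_mem_irreducibleComponents
    (eq_of_mem_irreducibleComponents hdom) ?_ Z hZ
  intro u
  obtain ⟨t, ht, hft⟩ := hfin u
  obtain ⟨W, hWt, hWo, huW⟩ := mem_nhds_iff.mp ht
  refine ⟨W, hWo, huW, (hft.image Subtype.val).subset ?_⟩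
  rintro Z' ⟨hZ', x, hxZ', hxW⟩
  exact ⟨⟨Z', hZ'⟩, ⟨x, hxZ', hWt hxW⟩, rfl⟩

/-- Stalks at points of an affine open whose coordinate ring is a normal ring are normal domains. -/
theorem normal_stalk_of_isNormalRing_sections {N : Scheme.{u}} {W : N.Opens} (hW : IsAffineOpen W)
    (hN : EGA4.IsNormalRing Γ(N, W)) (x : N) (hx : x ∈ W) :
    IsDomain (N.presheaf.stalk x) ∧ IsIntegrallyClosed (N.presheaf.stalk x) := by
  let _ := TopCat.Presheaf.algebra_section_stalk N.presheaf (⟨x, hx⟩ : W)
  have hloc := hW.isLocalization_stalk ⟨x, hx⟩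
  obtain ⟨hd, hic⟩ := hN (hW.primeIdealOf ⟨x, hx⟩).asIdeal
  let e := IsLocalization.algEquiv (hW.primeIdealOf ⟨x, hx⟩).asIdeal.primeCompl
    (N.presheaf.stalk x) (Localization.AtPrime (hW.primeIdealOf ⟨x, hx⟩).asIdeal)
  exact ⟨e.toMulEquiv.isDomain _, IsIntegrallyClosed.of_equiv e.symm.toRingEquiv⟩

section Closed

variable {C : Type u} [CommRing C] {V : Y.Opens} (φ : C →+* Γ(Y, V))
  (hinj : Function.Injective φ) (hcl : ∀ b : Γ(Y, V), φ.IsIntegralElem b → b ∈ φ.range)


include hcl in
/-- Idempotents of `Γ(Y, V)` attached to a decomposition into disjoint opens lift to `C`. -/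
theorem exists_idempotent_lift {S S' : Y.Opens} (hS : S ≤ V) (hS' : S' ≤ V)
    (hcov : V ≤ S ⊔ S') (hdisj : S ⊓ S' = ⊥) :
    ∃ e : C, Y.presheaf.map (homOfLE hS).op (φ e) = 1 ∧
      Y.presheaf.map (homOfLE hS').op (φ e) = 0 := by
  obtain ⟨e, he1, he0⟩ := exists_glue₂ S S' V hS hS' hcov hdisj 1 0
  have hint : φ.IsIntegralElem e := by
    refine ⟨X ^ 2 - X, monic_X_pow_sub (lt_of_le_of_lt degree_X_le (by exact_mod_cast Nat.one_lt_two)), ?_⟩
    simp only [eval₂_sub, eval₂_X_pow, eval₂_X]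
    apply eq_of_res_eq₂ hS hS' hcov
    · rw [map_sub, map_pow, he1, map_zero]; ring
    · rw [map_sub, map_pow, he0, map_zero]; ring
  obtain ⟨e', rfl⟩ := hcl e hint
  exact ⟨e', he1, he0⟩

include hinj hcl in
theorem domCrit_of_closed (hdom : ∀ y : Y, IsDomain (Y.presheaf.stalk y))
    (hopen : ∀ Z ∈ irreducibleComponents Y, IsOpen Z) :
    Groth.Agent.Lib.Helper6.NormCrit.DomCrit C := by
  intro x y hxy
  obtain ⟨S, S', hS, hS', hcov, hdisj, hs0, hsne⟩ := exists_supp_decomposition hdom hopen V (φ x)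
  obtain ⟨e, he1, he0⟩ := exists_idempotent_lift φ hcl hS hS' hcov hdisj
  refine ⟨1 - e, e, by ring, hinj ?_, hinj ?_⟩
  · rw [map_zero, map_mul, map_sub, map_one]
    apply eq_of_res_eq₂ hS hS' hcov
    · rw [map_mul, map_sub, map_one, he1, map_zero]; ring
    · rw [map_mul, hs0, map_zero]; ring
  · rw [map_zero, map_mul]
    apply eq_of_res_eq₂ hS hS' hcov
    · rw [map_mul, he1, map_zero, one_mul]
      apply section_ext'
      intro z hz
      have := hdom z
      rw [map_zero]
      have h1 : Y.presheaf.germ S z hz (Y.presheaf.map (homOfLE hS).op (φ x)) *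
          Y.presheaf.germ S z hz (Y.presheaf.map (homOfLE hS).op (φ y)) = 0 := by
        rw [← map_mul, ← map_mul, ← map_mul, hxy, map_zero, map_zero, map_zero]
      exact (mul_eq_zero.mp h1).resolve_left (hsne z hz)
    · rw [map_mul, he0, map_zero, zero_mul]

include hinj hcl in
theorem icCrit_of_closed (hdom : ∀ y : Y, IsDomain (Y.presheaf.stalk y))
    (hic : ∀ y : Y, IsIntegrallyClosed (Y.presheaf.stalk y))
    (hopen : ∀ Z ∈ irreducibleComponents Y, IsOpen Z) :
    Groth.Agent.Lib.Helper6.NormCrit.ICCrit C := by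
  intro a b g hg hab
  obtain ⟨S, S', hS, hS', hcov, hdisj, hs0, hsne⟩ := exists_supp_decomposition hdom hopen V (φ b)
  obtain ⟨e, he1, he0⟩ := exists_idempotent_lift φ hcl hS hS' hcov hdisj
  refine ⟨1 - e, e, by ring, hinj ?_, ?_⟩
  · rw [map_zero, map_mul, map_sub, map_one]
    apply eq_of_res_eq₂ hS hS' hcov
    · rw [map_mul, map_sub, map_one, he1, map_zero]; ring
    · rw [map_mul, hs0, map_zero]; ring
  · -- division on the support
    set ψ : C →+* Γ(Y, S) := (Y.presheaf.map (homOfLE hS).op).hom.comp φ with hψ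
    have hψab : ((g.map ψ).scaleRoots (ψ b)).eval (ψ a) = 0 := by
      rw [Groth.Agent.Lib.Helper6.NormCrit.eval_scaleRoots_map ψ g hg a b, hab, map_zero]
    obtain ⟨cS, hcS⟩ := exists_mul_eq_of_scaleRoots hdom hic S (ψ a) (ψ b) (g.map ψ) (hg.map ψ)
      hψab hsne
    obtain ⟨cB, hcB1, hcB0⟩ := exists_glue₂ S S' V hS hS' hcov hdisj cS 0
    -- `cS` is a root of `g`
    have hroot : eval₂ ψ cS g = 0 := by
      have h1 := scaleRoots_eval₂_mul (p := g) ψ cS b
      rw [hcS, eval₂_at_apply, hab, map_zero] at h1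
      apply section_ext'
      intro z hz
      have := hdom z
      rw [map_zero]
      have h2 := congrArg (Y.presheaf.germ S z hz) h1
      rw [map_zero, map_mul, map_pow] at h2
      exact (mul_eq_zero.mp h2.symm).resolve_left (pow_ne_zero _ (hsne z hz))
    have hint : φ.IsIntegralElem cB := by
      refine ⟨X * g, monic_X.mul hg, ?_⟩
      rw [eval₂_mul, eval₂_X]
      apply eq_of_res_eq₂ hS hS' hcov
      · rw [map_mul, map_zero, hcB1]
        have h3 : Y.presheaf.map (homOfLE hS).op (eval₂ φ cB g) = eval₂ ψ cS g := by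
          have := Polynomial.hom_eval₂ g φ (Y.presheaf.map (homOfLE hS).op).hom cB
          rw [← hcB1]
          exact this
        rw [h3, hroot, mul_zero]
      · rw [map_mul, map_zero, hcB0, zero_mul]
    obtain ⟨c, rfl⟩ := hcl cB hint
    refine ⟨c, hinj ?_⟩
    rw [map_mul, map_mul]
    apply eq_of_res_eq₂ hS hS' hcov
    · rw [map_mul, map_mul, he1, one_mul, hcB1]
      exact hcS.symm
    · rw [map_mul, map_mul, he0, zero_mul, hcB0, mul_zero]

include hinj hcl in
/-- A ring which embeds into the sections over an open of a normal scheme (with open irreducible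
components) with integrally closed image is a normal ring. -/
theorem isNormalRing_of_closed (hdom : ∀ y : Y, IsDomain (Y.presheaf.stalk y))
    (hic : ∀ y : Y, IsIntegrallyClosed (Y.presheaf.stalk y))
    (hopen : ∀ Z ∈ irreducibleComponents Y, IsOpen Z) : EGA4.IsNormalRing C :=
  (Groth.Agent.Lib.Helper6.NormCrit.isNormalRing_iff_crit C).mpr
    ⟨domCrit_of_closed φ hinj hcl hdom hopen, icCrit_of_closed φ hinj hcl hdom hic hopen⟩

end Closed

section Normalization

variable {X : Scheme.{u}} (f : Y ⟶ X) [QuasiCompact f] [QuasiSeparated f]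


set_option backward.isDefEq.respectTransparency false in
/-- Sections of the relative normalization over the preimage of an affine open inject into the
sections of the source, with integrally closed image. -/
theorem toNormalization_app_closed (U : X.Opens) (hU : IsAffineOpen U) :
    Function.Injective (f.toNormalization.app (f.fromNormalization ⁻¹ᵁ U)).hom ∧
      ∀ b, (f.toNormalization.app (f.fromNormalization ⁻¹ᵁ U)).hom.IsIntegralElem b →
        b ∈ (f.toNormalization.app (f.fromNormalization ⁻¹ᵁ U)).hom.range := by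
  set τ := f.toNormalization with hτ
  set π := f.fromNormalization with hπ
  set V' := π ⁻¹ᵁ U with hV'
  set W := τ ⁻¹ᵁ V' with hW
  let algAB := (f.app U).hom.toAlgebra
  have hWeq : f ⁻¹ᵁ U = W := by
    rw [hW, hV', ← Scheme.Hom.comp_preimage, hτ, hπ, Scheme.Hom.toNormalization_fromNormalization]
  set ε : Γ(Y, f ⁻¹ᵁ U) ≅ Γ(Y, W) := Y.presheaf.mapIso (eqToIso hWeq.symm).op with hεdef
  have hε : τ.app V' = (f.normalizationObjIso hU).hom ≫
      CommRingCat.ofHom (integralClosure Γ(X, U) Γ(Y, f ⁻¹ᵁ U)).val.toRingHom ≫ ε.hom :=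
    f.toNormalization_app_preimage ⟨U, hU⟩
  have hτinj : Function.Injective (τ.app V').hom := by
    rw [hε, CommRingCat.hom_comp, CommRingCat.hom_comp]
    refine ((ConcreteCategory.bijective_of_isIso ε.hom).injective.comp ?_).comp
      (ConcreteCategory.bijective_of_isIso (f.normalizationObjIso hU).hom).injective
    exact Subtype.val_injective
  have hfapp : f.app U ≫ ε.hom = π.app U ≫ τ.app V' :=
    (Scheme.Hom.congr_app f.toNormalization_fromNormalization U).symm
  refine ⟨hτinj, ?_⟩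
  intro b hb2
  have hb3 : ((π.app U ≫ τ.app V')).hom.IsIntegralElem b := by
    let algAC : Algebra Γ(X, U) Γ(f.normalization, V') := (π.app U).hom.toAlgebra
    let algCB : Algebra Γ(f.normalization, V') Γ(Y, W) := (τ.app V').hom.toAlgebra
    let algAB' : Algebra Γ(X, U) Γ(Y, W) := ((π.app U ≫ τ.app V')).hom.toAlgebra
    have : IsScalarTower Γ(X, U) Γ(f.normalization, V') Γ(Y, W) :=
      IsScalarTower.of_algebraMap_eq' rfl
    have : Algebra.IsIntegral Γ(X, U) Γ(f.normalization, V') :=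
      ⟨π.isIntegral_app U hU⟩
    exact isIntegral_trans (R := Γ(X, U)) (A := Γ(f.normalization, V')) b hb2
  have hb4 : IsIntegral Γ(X, U) (ε.inv.hom b) := by
    obtain ⟨q, hq, hqb⟩ := hb3
    refine ⟨q, hq, ?_⟩
    have h2 := congrArg ε.inv.hom hqb
    rw [Polynomial.hom_eval₂, map_zero, ← hfapp] at h2
    have h3 : ε.inv.hom.comp (f.app U ≫ ε.hom).hom = (f.app U).hom := by
      rw [← CommRingCat.hom_comp, Category.assoc, Iso.hom_inv_id, Category.comp_id]
    rw [h3] at h2
    exact h2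
  let c : Γ(f.normalization, V') := (f.normalizationObjIso hU).inv.hom ⟨ε.inv.hom b, hb4⟩
  have hc : (τ.app V').hom c = b := by
    rw [hε]
    simp only [CommRingCat.hom_comp, RingHom.comp_apply, c]
    have h5 : (f.normalizationObjIso hU).hom.hom
        ((f.normalizationObjIso hU).inv.hom ⟨ε.inv.hom b, hb4⟩) = ⟨ε.inv.hom b, hb4⟩ :=
      congrArg (fun k => k.hom ⟨ε.inv.hom b, hb4⟩) (f.normalizationObjIso hU).inv_hom_id
    erw [h5]
    exact congrArg (fun k => k.hom b) ε.inv_hom_id
  exact ⟨c, hc⟩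

/-- The idempotent of the normalization over an affine open attached to a clopen subset of the
source. -/
theorem exists_idempotent_of_isClopen (U : X.Opens) (hU : IsAffineOpen U) (Z : Set Y)
    (hZo : IsOpen Z) (hZc : IsClosed Z) :
    ∃ e : Γ(f.normalization, f.fromNormalization ⁻¹ᵁ U),
      (∀ (y : Y) (hy : y ∈ f.toNormalization ⁻¹ᵁ f.fromNormalization ⁻¹ᵁ U), y ∈ Z →
        Y.presheaf.germ _ y hy ((f.toNormalization.app (f.fromNormalization ⁻¹ᵁ U)).hom e) = 1) ∧
      (∀ (y : Y) (hy : y ∈ f.toNormalization ⁻¹ᵁ f.fromNormalization ⁻¹ᵁ U), y ∉ Z →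
        Y.presheaf.germ _ y hy ((f.toNormalization.app (f.fromNormalization ⁻¹ᵁ U)).hom e) = 0) := by
  set V := f.toNormalization ⁻¹ᵁ f.fromNormalization ⁻¹ᵁ U with hV
  let S : Y.Opens := ⟨Z, hZo⟩ ⊓ V
  let S' : Y.Opens := ⟨Zᶜ, hZc.isOpen_compl⟩ ⊓ V
  have hS : S ≤ V := inf_le_right
  have hS' : S' ≤ V := inf_le_right
  have hcov : V ≤ S ⊔ S' := by
    intro y hy
    by_cases hyZ : y ∈ Z
    · exact Or.inl ⟨hyZ, hy⟩
    · exact Or.inr ⟨hyZ, hy⟩
  have hdisj : S ⊓ S' = ⊥ := by
    rw [eq_bot_iff]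
    rintro y ⟨⟨hyZ, -⟩, ⟨hyZ', -⟩⟩
    exact (hyZ' hyZ).elim
  obtain ⟨e, he1, he0⟩ := exists_idempotent_lift
    (f.toNormalization.app (f.fromNormalization ⁻¹ᵁ U)).hom
    (toNormalization_app_closed f U hU).2 hS hS' hcov hdisj
  refine ⟨e, fun y hy hyZ => ?_, fun y hy hyZ => ?_⟩
  · have hyS : y ∈ S := ⟨hyZ, hy⟩
    rw [← TopCat.Presheaf.germ_res_apply Y.presheaf (homOfLE hS) y hyS]
    erw [he1]
    rw [map_one]
  · have hyS' : y ∈ S' := ⟨hyZ, hy⟩
    rw [← TopCat.Presheaf.germ_res_apply Y.presheaf (homOfLE hS') y hyS']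
    erw [he0]
    rw [map_zero]

/-- The stalk map of `Y ⟶ f.normalization` at the generic point of an open irreducible component
of `Y` is injective. -/
theorem stalkMap_toNormalization_injective (hdom : ∀ y : Y, IsDomain (Y.presheaf.stalk y))
    (y : Y) (hyo : IsOpen (closure ({y} : Set Y))) :
    Function.Injective (f.toNormalization.stalkMap y).hom := by
  have := isReduced_of_isDomain_stalk hdom
  set τ := f.toNormalization with hτ
  set ν := f.fromNormalization with hν
  obtain ⟨_, ⟨U, hU, rfl⟩, hxU, -⟩ := X.isBasis_affineOpens.exists_subset_of_mem_open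
    (Set.mem_univ (ν (τ y))) isOpen_univ
  have hx' : τ y ∈ ν ⁻¹ᵁ U := hxU
  have hW' : IsAffineOpen (ν ⁻¹ᵁ U) := hU.preimage ν
  have hyV : y ∈ τ ⁻¹ᵁ ν ⁻¹ᵁ U := hx'
  obtain ⟨e, he1, he0⟩ := exists_idempotent_of_isClopen f U hU (closure {y}) hyo isClosed_closure
  obtain ⟨hφinj, -⟩ := toNormalization_app_closed f U hU
  rw [injective_iff_map_eq_zero]
  intro t ht
  letI := TopCat.Presheaf.algebra_section_stalk f.normalization.presheaf
    (⟨τ y, hx'⟩ : (ν ⁻¹ᵁ U : f.normalization.Opens))
  have hloc := hW'.isLocalization_stalk ⟨τ y, hx'⟩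
  obtain ⟨⟨c, s⟩, hcs⟩ := IsLocalization.surj (hW'.primeIdealOf ⟨τ y, hx'⟩).asIdeal.primeCompl t
  have hsu : IsUnit (algebraMap Γ(f.normalization, ν ⁻¹ᵁ U) (f.normalization.presheaf.stalk (τ y)) s) :=
    IsLocalization.map_units _ s
  change t * f.normalization.presheaf.germ (ν ⁻¹ᵁ U) (τ y) hx' s.1 =
    f.normalization.presheaf.germ (ν ⁻¹ᵁ U) (τ y) hx' c at hcs
  change IsUnit (f.normalization.presheaf.germ (ν ⁻¹ᵁ U) (τ y) hx' s.1) at hsu
  -- the image of `c` has vanishing germ at `y`
  have h1 : Y.presheaf.germ (τ ⁻¹ᵁ ν ⁻¹ᵁ U) y hyV ((τ.app (ν ⁻¹ᵁ U)).hom c) = 0 := by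
    have := congrArg (τ.stalkMap y).hom hcs
    rw [map_mul, ht, zero_mul] at this
    exact (Scheme.Hom.germ_stalkMap_apply τ (ν ⁻¹ᵁ U) y hx' c).symm.trans this.symm
  -- hence `e * c = 0`
  have h2 : e * c = 0 := by
    apply hφinj
    rw [map_mul, map_zero]
    apply section_ext'
    intro z hz
    rw [map_mul, map_zero]
    by_cases hzZ : z ∈ closure ({y} : Set Y)
    · let W : Y.Opens := ⟨closure {y}, hyo⟩ ⊓ (τ ⁻¹ᵁ ν ⁻¹ᵁ U)
      have hWirr : IsPreirreducible (W : Set Y) :=
        (isIrreducible_singleton.closure (X := Y)).2.open_subset W.isOpen Set.inter_subset_left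
      have hyW : y ∈ W := ⟨subset_closure rfl, hyV⟩
      have hzW : z ∈ W := ⟨hzZ, hz⟩
      have h3 : Y.presheaf.map (homOfLE (inf_le_right : W ≤ τ ⁻¹ᵁ ν ⁻¹ᵁ U)).op
          ((τ.app (ν ⁻¹ᵁ U)).hom c) = 0 := by
        apply germ_injective_of_isPreirreducible W hWirr y hyW
        rw [TopCat.Presheaf.germ_res_apply, map_zero]
        exact h1
      have h4 : Y.presheaf.germ (τ ⁻¹ᵁ ν ⁻¹ᵁ U) z hz ((τ.app (ν ⁻¹ᵁ U)).hom c) = 0 := by
        rw [← TopCat.Presheaf.germ_res_apply Y.presheaf
          (homOfLE (inf_le_right : W ≤ τ ⁻¹ᵁ ν ⁻¹ᵁ U)) z hzW, h3, map_zero]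
      rw [h4, mul_zero]
    · rw [he0 z hz hzZ, zero_mul]
  -- the germ of `e` at `τ y` is a unit
  have h3 : IsUnit (f.normalization.presheaf.germ (ν ⁻¹ᵁ U) (τ y) hx' e) := by
    apply isUnit_of_map_unit (τ.stalkMap y).hom
    have h5 := (Scheme.Hom.germ_stalkMap_apply τ (ν ⁻¹ᵁ U) y hx' e).trans
      (he1 y hyV (subset_closure rfl))
    exact h5 ▸ isUnit_one
  have h4 : f.normalization.presheaf.germ (ν ⁻¹ᵁ U) (τ y) hx' c = 0 := by
    have := congrArg (f.normalization.presheaf.germ (ν ⁻¹ᵁ U) (τ y) hx') h2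
    rw [map_mul, map_zero] at this
    exact (h3.mul_right_eq_zero).mp this
  rw [h4] at hcs
  exact (hsu.mul_left_eq_zero).mp hcs

/-- The image in the normalization of the generic point of an open irreducible component is the
generic point of an irreducible component. -/
theorem closure_toNormalization_mem_irreducibleComponents
    (hdom : ∀ y : Y, IsDomain (Y.presheaf.stalk y)) (y : Y) (hyo : IsOpen (closure ({y} : Set Y))) :
    closure ({f.toNormalization y} : Set f.normalization) ∈
      irreducibleComponents f.normalization := by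
  have := isReduced_of_isDomain_stalk hdom
  apply closure_mem_irreducibleComponents_of_maximalIdeal_eq_bot
  rw [eq_bot_iff]
  intro t ht
  have h1 : (f.toNormalization.stalkMap y).hom t ∈ IsLocalRing.maximalIdeal (Y.presheaf.stalk y) := by
    rw [IsLocalRing.mem_maximalIdeal, mem_nonunits_iff] at ht ⊢
    exact fun h => ht (isUnit_of_map_unit (f.toNormalization.stalkMap y).hom t h)
  rw [maximalIdeal_stalk_eq_bot y hyo, Ideal.mem_bot] at h1
  have h2 := stalkMap_toNormalization_injective f hdom y hyo (h1.trans (map_zero _).symm)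
  rw [h2]
  exact Submodule.zero_mem _

/-- Every irreducible component of the normalization meeting the preimage of an open `U` (whose
preimage in `Y` meets finitely many irreducible components) is the closure of the image of an
irreducible component of `Y`. -/
theorem exists_eq_closure_image_of_meets (U : X.Opens)
    (hfinU : {Z | Z ∈ irreducibleComponents Y ∧
      (Z ∩ (f.toNormalization ⁻¹ᵁ f.fromNormalization ⁻¹ᵁ U : Set Y)).Nonempty}.Finite)
    (T' : Set f.normalization) (hT' : T' ∈ irreducibleComponents f.normalization)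
    (hmeet : (T' ∩ (f.fromNormalization ⁻¹ᵁ U : Set f.normalization)).Nonempty) :
    ∃ Z ∈ irreducibleComponents Y,
      (Z ∩ (f.toNormalization ⁻¹ᵁ f.fromNormalization ⁻¹ᵁ U : Set Y)).Nonempty ∧
      T' = closure (f.toNormalization '' Z) := by
  classical
  set τ := f.toNormalization with hτ
  set W' : Set f.normalization := (f.fromNormalization ⁻¹ᵁ U : Set f.normalization) with hW'
  have hW'o : IsOpen W' := (f.fromNormalization ⁻¹ᵁ U).isOpen
  set V : Set Y := (τ ⁻¹ᵁ f.fromNormalization ⁻¹ᵁ U : Set Y) with hV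
  have hVW : V = τ ⁻¹' W' := rfl
  set 𝒵 : Set (Set Y) := {Z | Z ∈ irreducibleComponents Y ∧ (Z ∩ V).Nonempty} with h𝒵
  set F : Set f.normalization := ⋃ Z ∈ 𝒵, closure (τ '' Z) with hF
  have hFc : IsClosed F := hfinU.isClosed_biUnion fun _ _ => isClosed_closure
  have hτV : τ '' V ⊆ F := by
    rintro _ ⟨y, hy, rfl⟩
    refine Set.mem_biUnion (x := irreducibleComponent y)
      ⟨irreducibleComponent_mem_irreducibleComponents y, ⟨y, mem_irreducibleComponent, hy⟩⟩ ?_
    exact subset_closure ⟨y, mem_irreducibleComponent, rfl⟩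
  have hW'F : W' ⊆ F := by
    have h1 : W' ⊆ closure (W' ∩ Set.range τ) :=
      τ.denseRange.open_subset_closure_inter hW'o
    have h2 : W' ∩ Set.range τ = τ '' V := by
      rw [hVW, Set.image_preimage_eq_inter_range]
    rw [h2] at h1
    exact h1.trans (closure_minimal hτV hFc)
  have hT'F : T' ⊆ F := by
    have h1 : T' ⊆ F ∪ W'ᶜ := by
      intro x _
      by_cases hx : x ∈ W'
      · exact Or.inl (hW'F hx)
      · exact Or.inr hx
    rcases isPreirreducible_iff_isClosed_union_isClosed.mp hT'.1.2 F W'ᶜ hFc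
      hW'o.isClosed_compl h1 with h | h
    · exact h
    · obtain ⟨x, hxT, hxW⟩ := hmeet
      exact (h hxT hxW).elim
  have hsub : T' ⊆ ⋃₀ ((hfinU.toFinset.image fun Z => closure (τ '' Z) : Finset (Set f.normalization)) :
      Set (Set f.normalization)) := by
    intro x hx
    obtain ⟨Z, hZ, hxZ⟩ := Set.mem_iUnion₂.mp (hT'F hx)
    exact Set.mem_sUnion.mpr ⟨closure (τ '' Z),
      Finset.mem_coe.mpr (Finset.mem_image.mpr ⟨Z, hfinU.mem_toFinset.mpr hZ, rfl⟩), hxZ⟩
  obtain ⟨z, hz, hT'z⟩ := isIrreducible_iff_sUnion_isClosed.mp hT'.1 _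
    (fun z hz => by
      obtain ⟨Z, -, rfl⟩ := Finset.mem_image.mp hz
      exact isClosed_closure) hsub
  obtain ⟨Z, hZ, rfl⟩ := Finset.mem_image.mp hz
  have hZ' : Z ∈ 𝒵 := hfinU.mem_toFinset.mp hZ
  refine ⟨Z, hZ'.1, hZ'.2, le_antisymm hT'z (hT'.2 ?_ hT'z)⟩
  exact (hZ'.1.1.image τ τ.continuous.continuousOn).closure

end Normalization

end Groth.Agent.Lib.Seat85.NormalSections
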