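import Groth.Agent.Lib.Helper27PnChart
import Groth.Agent.S9705

/-!
# Projective space over a scheme is smooth (seat 85)
-/

set_option autoImplicit false
universe u

open CategoryTheory CategoryTheory.Limits AlgebraicGeometry HomogeneousLocalization MvPolynomial

namespace Groth.Agent.Lib.Seat85.PnSmooth

open Groth.Agent.Lib.Helper27PnChart

variable (n : ℕ) (R : Type u) [CommRing R]

/-- The structure map `R → R[T]_(T_i)` of the `i`-th chart. -/
noncomputable def chartStr (i : Fin (n + 1)) : R →+* Away (CohB1.polyGrading n R) (X i) :=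
  (HomogeneousLocalization.fromZeroRingHom (CohB1.polyGrading n R)
      (Submonoid.powers (MvPolynomial.X i))).comp (algebraMap R (CohB1.polyGrading n R 0))

theorem chartStr_eq (i : Fin (n + 1)) :
    chartStr n R i = (chart n R i).comp (C : R →+* MvPolynomial {j : Fin (n + 1) // j ≠ i} R) := by
  ext r
  simp [chartStr, chart]

theorem smooth_chartStr (i : Fin (n + 1)) : (chartStr n R i).Smooth := by
  rw [chartStr_eq]
  refine RingHom.Smooth.comp ?_ (RingHom.Smooth.of_bijective (chart_bijective n R i))
  have : Algebra.Smooth R (MvPolynomial {j : Fin (n + 1) // j ≠ i} R) := {}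
  exact RingHom.smooth_algebraMap.mpr this

set_option backward.isDefEq.respectTransparency false in
theorem smooth_projSpace_toSpec : Smooth (CohB1.ProjSpace.toSpec n R) := by
  refine IsZariskiLocalAtSource.of_iSup_eq_top (P := @Smooth)
    (fun i : Fin (n + 1) => Proj.basicOpen (CohB1.polyGrading n R) (MvPolynomial.X i))
    (iSup_basicOpen_X n R) (fun i => ?_)
  have h1 : (Proj.basicOpen (CohB1.polyGrading n R) (MvPolynomial.X i)).ι =
      (Proj.basicOpenIsoSpec (CohB1.polyGrading n R) (MvPolynomial.X i) (X_mem_one n R i)
        one_pos).hom ≫ Proj.awayι (CohB1.polyGrading n R) (MvPolynomial.X i) (X_mem_one n R i)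
        one_pos := by
    rw [← Proj.basicOpenIsoSpec_inv_ι, Iso.hom_inv_id_assoc]
  rw [h1, Category.assoc, MorphismProperty.cancel_left_of_respectsIso (P := @Smooth)]
  unfold CohB1.ProjSpace.toSpec
  rw [Proj.awayι_toSpecZero_assoc, ← Spec.map_comp]
  rw [HasRingHomProperty.Spec_iff (P := @Smooth)]
  exact smooth_chartStr n R i

set_option backward.isDefEq.respectTransparency false in
theorem smooth_toBase (S : Scheme.{u}) : Smooth (CohB1.ProjSpaceOver.toBase n S) := by
  have := smooth_projSpace_toSpec n (ULift.{u} ℤ)
  unfold CohB1.ProjSpaceOver.toBase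
  exact MorphismProperty.pullback_snd (P := @Smooth) _ _ this

end Groth.Agent.Lib.Seat85.PnSmooth
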