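/-
Helper library (helper85): converse to `Seat85ProperNormal.isIso_app_of_normal`: if `X` is normal
and `O_Y(V) ⟶ O_X(f⁻¹V)` is surjective for one nonempty affine open `V`, then `K(Y)` is
algebraically closed in `K(X)`.
-/
import Groth.Agent.Lib.Seat85ProperNormal

set_option autoImplicit false
set_option linter.style.haveILetI false
universe u
open CategoryTheory AlgebraicGeometry TopologicalSpace

namespace Groth.Agent.Lib.Seat85.ProperNormal

open Groth.Agent.Lib.Seat85.NormInNormal

variable {X Y : Scheme.{u}} [IsIntegral X] [IsIntegral Y] (f : X ⟶ Y)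

/-- If `X` is normal and `Γ(Y, V) ⟶ Γ(X, f⁻¹V)` is surjective for one nonempty affine open `V`,
then `K(Y)` is algebraically closed in `K(X)`. -/
theorem mem_range_of_isIntegralElem (hX : ∀ x : X, IsIntegrallyClosed (X.presheaf.stalk x))
    (hdom : f.base (genericPoint X) ⤳ genericPoint Y)
    (V : Y.Opens) (hV : IsAffineOpen V) [Nonempty V] (hsurj : Function.Surjective (f.app V))
    (x : X.functionField)
    (hx : (CohIII.stalkToFunctionField f (genericPoint Y) hdom).IsIntegralElem x) :
    x ∈ (CohIII.stalkToFunctionField f (genericPoint Y) hdom).range := by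
  set φ := CohIII.stalkToFunctionField f (genericPoint Y) hdom with hφ
  have hηV : genericPoint Y ∈ V := genericPoint_mem V
  have hηX := genericPoint_mem_preimage f hdom V hηV
  haveI : Nonempty (f ⁻¹ᵁ V : X.Opens) := ⟨⟨_, hηX⟩⟩
  letI algYX : Algebra Y.functionField X.functionField := φ.toAlgebra
  letI algVX : Algebra Γ(Y, V) X.functionField :=
    (φ.comp (algebraMap Γ(Y, V) Y.functionField)).toAlgebra
  haveI : IsScalarTower Γ(Y, V) Y.functionField X.functionField :=
    IsScalarTower.of_algebraMap_eq (fun _ => rfl)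
  haveI := functionField_isFractionRing_of_isAffineOpen Y V hV
  have hx' : IsIntegral Y.functionField x := hx
  obtain ⟨⟨a, ha⟩, hax⟩ := IsIntegral.exists_multiple_integral_of_isLocalization
    (nonZeroDivisors Γ(Y, V)) x hx'
  have ha0 : algebraMap Γ(Y, V) Y.functionField a ≠ 0 :=
    IsFractionRing.to_map_ne_zero_of_mem_nonZeroDivisors ha
  have hcomp : ∀ c : Γ(Y, V), φ (algebraMap Γ(Y, V) Y.functionField c) =
      algebraMap Γ(X, f ⁻¹ᵁ V) X.functionField (f.app V c) :=
    fun c => stalkToFunctionField_germ f hdom V hηV c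
  have hint : IsIntegral Γ(X, f ⁻¹ᵁ V) (φ (algebraMap Γ(Y, V) Y.functionField a) * x) := by
    obtain ⟨P, hP, hPx⟩ := hax
    refine ⟨P.map (f.app V).hom, hP.map _, ?_⟩
    rw [Polynomial.eval₂_map]
    have h1 : (algebraMap Γ(X, f ⁻¹ᵁ V) X.functionField).comp (f.app V).hom =
        algebraMap Γ(Y, V) X.functionField := by
      ext c
      exact (hcomp c).symm
    rw [h1]
    exact hPx
  obtain ⟨b, hb⟩ := exists_section_of_isIntegral hX (f ⁻¹ᵁ V) _ hint
  obtain ⟨c, rfl⟩ := hsurj b
  refine ⟨algebraMap Γ(Y, V) Y.functionField c / algebraMap Γ(Y, V) Y.functionField a, ?_⟩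
  have h2 : φ (algebraMap Γ(Y, V) Y.functionField c) =
      φ (algebraMap Γ(Y, V) Y.functionField a) * x := (hcomp c).trans hb
  have h3 : φ (algebraMap Γ(Y, V) Y.functionField a) ≠ 0 := by
    rw [Ne, map_eq_zero_iff φ φ.injective]; exact ha0
  rw [map_div₀, h2, mul_div_cancel_left₀ _ h3]

end Groth.Agent.Lib.Seat85.ProperNormal
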