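import Groth.Statements.S17688
import Mathlib.AlgebraicGeometry.Morphisms.SchemeTheoreticallyDominant

set_option autoImplicit false
universe u
open CategoryTheory CategoryTheory.Limits AlgebraicGeometry

namespace Groth.Agent.Lib.Seat85.SchDom

/-- Two morphisms to a separated `Z`-scheme which agree after precomposition with a
scheme-theoretically dominant morphism are equal. -/
lemma ext_of_isSchemeTheoreticallyDominant_of_isSeparated {W X Y Z : Scheme.{u}} {f g : X ⟶ Y}
    (s : Y ⟶ Z) [IsSeparated s] (h : f ≫ s = g ≫ s)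
    (j : W ⟶ X) [IsSchemeTheoreticallyDominant j] (hU : j ≫ f = j ≫ g) : f = g := by
  let X' : Over Z := Over.mk (f ≫ s)
  let Y' : Over Z := Over.mk s
  let U' : Over Z := Over.mk (j ≫ f ≫ s)
  let f' : X' ⟶ Y' := Over.homMk f
  let g' : X' ⟶ Y' := Over.homMk g
  let j' : U' ⟶ X' := Over.homMk j
  have : IsSeparated Y'.hom := ‹_›
  have hlift : (equalizer.lift j' (show j' ≫ f' = j' ≫ g' by ext1; exact hU)).left ≫
      (equalizer.ι f' g').left = j := by
    rw [← Over.comp_left, equalizer.lift_ι]
    rfl
  have hker : (equalizer.ι f' g').left.ker = ⊥ := by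
    rw [eq_bot_iff]
    calc (equalizer.ι f' g').left.ker ≤ ((equalizer.lift j' (show j' ≫ f' = j' ≫ g' by
            ext1; exact hU)).left ≫ (equalizer.ι f' g').left).ker := Scheme.Hom.le_ker_comp _ _
      _ = j.ker := by rw [hlift]
      _ = ⊥ := j.ker_eq_bot
  have := (IsClosedImmersion.isIso_iff_ker_eq_bot (f := (equalizer.ι f' g').left)).2 hker
  rw [← cancel_epi (equalizer.ι f' g').left]
  exact congr($(equalizer.condition f' g').left)

/-- `Spec` of an injective ring map is scheme-theoretically dominant. -/
lemma isSchemeTheoreticallyDominant_specMap {A B : CommRingCat.{u}} (φ : A ⟶ B)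
    (hφ : Function.Injective φ.hom) : IsSchemeTheoreticallyDominant (Spec.map φ) := by
  have hinj : Function.Injective (Spec.map φ).appTop.hom := by
    have h1 : (Spec.map φ).appTop = (Scheme.ΓSpecIso A).hom ≫ φ ≫ (Scheme.ΓSpecIso B).inv := by
      rw [Scheme.ΓSpecIso_inv_naturality, Iso.hom_inv_id_assoc]
    rw [h1]
    simp only [CommRingCat.hom_comp, RingHom.coe_comp]
    exact ((ConcreteCategory.bijective_of_isIso (Scheme.ΓSpecIso B).inv).1.comp hφ).comp
      (ConcreteCategory.bijective_of_isIso (Scheme.ΓSpecIso A).hom).1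
  refine ⟨Scheme.IdealSheafData.ext_of_isAffine ?_⟩
  rw [(Spec.map φ).ker_apply ⟨⊤, isAffineOpen_top _⟩]
  exact (RingHom.injective_iff_ker_eq_bot _).1 hinj

instance (R : Type u) [CommRing R] [IsDomain R] :
    IsSchemeTheoreticallyDominant (Neron.genPt R) :=
  isSchemeTheoreticallyDominant_specMap _ (IsFractionRing.injective R (FractionRing R))

/-- Morphisms from a flat `R`-scheme (`R` a domain) to a separated `R`-scheme are determined by
their restriction to generic fibres. -/
theorem ext_of_genericFibre_map_eq (R : Type u) [CommRing R] [IsDomain R]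
    {X Y : Over (Spec (CommRingCat.of R))} [Flat X.hom] [IsSeparated Y.hom] (f g : X ⟶ Y)
    (h : (Over.pullback (Neron.genPt R)).map f = (Over.pullback (Neron.genPt R)).map g) :
    f = g := by
  ext1
  have hsd : IsSchemeTheoreticallyDominant (pullback.fst X.hom (Neron.genPt R)) := inferInstance
  refine ext_of_isSchemeTheoreticallyDominant_of_isSeparated Y.hom (by simp)
    (pullback.fst X.hom (Neron.genPt R)) ?_
  have h1 : ((Over.pullback (Neron.genPt R)).map f).left ≫ pullback.fst Y.hom (Neron.genPt R) =
      pullback.fst X.hom (Neron.genPt R) ≫ f.left := by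
    simp only [Over.pullback_map_left]
    exact pullback.lift_fst _ _ _
  have h2 : ((Over.pullback (Neron.genPt R)).map g).left ≫ pullback.fst Y.hom (Neron.genPt R) =
      pullback.fst X.hom (Neron.genPt R) ≫ g.left := by
    simp only [Over.pullback_map_left]
    exact pullback.lift_fst _ _ _
  rw [← h1, ← h2, h]

end Groth.Agent.Lib.Seat85.SchDom
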