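import Groth.Agent.Lib.Seat85SchDom

set_option autoImplicit false
universe u
open CategoryTheory CategoryTheory.Limits AlgebraicGeometry

namespace Groth.Agent.Lib.Seat85.SchDom

/-- Morphisms from a flat `A`-scheme to a separated `A`-scheme are determined by their base change
along `Spec B ⟶ Spec A` for an injective ring map `A ⟶ B`. -/
theorem ext_of_pullback_map_eq {A B : CommRingCat.{u}} (φ : A ⟶ B)
    (hφ : Function.Injective φ.hom)
    {X Y : Over (Spec A)} [Flat X.hom] [IsSeparated Y.hom] (f g : X ⟶ Y)
    (h : (Over.pullback (Spec.map φ)).map f = (Over.pullback (Spec.map φ)).map g) :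
    f = g := by
  ext1
  have : IsSchemeTheoreticallyDominant (Spec.map φ) := isSchemeTheoreticallyDominant_specMap φ hφ
  have hsd : IsSchemeTheoreticallyDominant (pullback.fst X.hom (Spec.map φ)) := inferInstance
  refine ext_of_isSchemeTheoreticallyDominant_of_isSeparated Y.hom (by simp)
    (pullback.fst X.hom (Spec.map φ)) ?_
  have h1 : ((Over.pullback (Spec.map φ)).map f).left ≫ pullback.fst Y.hom (Spec.map φ) =
      pullback.fst X.hom (Spec.map φ) ≫ f.left := by
    simp only [Over.pullback_map_left]
    exact pullback.lift_fst _ _ _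
  have h2 : ((Over.pullback (Spec.map φ)).map g).left ≫ pullback.fst Y.hom (Spec.map φ) =
      pullback.fst X.hom (Spec.map φ) ≫ g.left := by
    simp only [Over.pullback_map_left]
    exact pullback.lift_fst _ _ _
  rw [← h1, ← h2, h]

end Groth.Agent.Lib.Seat85.SchDom
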