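import Groth.Agent.Lib.Seat3EtSepClosedPt
import Groth.Agent.Lib.Seat3EtConstLC
import Groth.Agent.Lib.Helper9HofPush
import Groth.Agent.Lib.Helper16Flasque

/-!
# Seat85: étale cohomology of constant sheaves on a normal integral scheme with separably closed
function field

* `subsingleton_H_of_isSepClosedPoint`: higher étale cohomology of a separably closed point vanishes.
* `subsingleton_H_const`: `H^{n+1}(X_et, M) = 0` for `X` integral normal with separably closed
  function field.
* `card_H_zero_const`: `H^0(X_et, M)` has the cardinality of `M` for connected `X`.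
-/

set_option autoImplicit false
set_option linter.style.haveILetI false
universe u
open CategoryTheory CategoryTheory.Limits AlgebraicGeometry Opposite Abelian

namespace Groth.Agent.Lib.Seat85.SepClosedH

open Groth.Agent.Lib.Seat3.EtSepClosedPt

/-- morphisms out of the constant sheaf `ℤ` lift along epimorphisms over a separably closed point -/
theorem exists_lift_const {T : Scheme.{u}} (hT : IsSepClosedPoint T) {E E' : EtCoh.Ab T}
    (e : E ⟶ E') [Epi e] (x : EtCoh.const T ℤ ⟶ E') : ∃ y : EtCoh.const T ℤ ⟶ E, y ≫ e = x := by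
  let adj := EtCore.constAdj T
  let x' := adj.homEquiv _ _ x
  have hsurj : Function.Surjective ((EtCore.gsec T).map e) :=
    surjective_app_of_epi hT e (EtCoh.top T)
  obtain ⟨y', hy'⟩ := Groth.Agent.Lib.Helper16.Flasque.lift_uliftZ ((EtCore.gsec T).map e) hsurj x'
  refine ⟨(adj.homEquiv _ _).symm y', ?_⟩
  apply (adj.homEquiv _ _).injective
  rw [Adjunction.homEquiv_naturality_right, Equiv.apply_symm_apply]
  exact hy'

/-- higher étale cohomology of a separably closed point vanishes -/
theorem subsingleton_H_of_isSepClosedPoint {T : Scheme.{u}} (hT : IsSepClosedPoint T)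
    (F : EtCoh.Ab T) (n : ℕ) : Subsingleton (EtCoh.H T F (n + 1)) := by
  refine subsingleton_of_forall_eq 0 (fun x => ?_)
  exact Groth.Agent.Lib.Helper16.Flasque.ext_vanish (fun _ : EtCoh.Ab T => True) (EtCoh.const T ℤ)
    (fun _ _ => trivial) (fun _ _ _ _ => trivial)
    (fun S hS _ x => by
      haveI : Epi S.g := hS.epi_g
      exact exists_lift_const hT S.g x) n F trivial x

/-- `H^{n+1}(X_et, M) = 0` for `X` integral normal with separably closed function field. -/
theorem subsingleton_H_const (X : Scheme.{u}) [IsIntegral X]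
    (hN : ∀ x : X, IsIntegrallyClosed (X.presheaf.stalk x)) [IsSepClosed X.functionField]
    (M : Type) [AddCommGroup M] (n : ℕ) :
    Subsingleton (EtCoh.H X (EtCoh.const X M) (n + 1)) := by
  have hT : IsSepClosedPoint (Spec (X.presheaf.stalk (genericPoint X))) :=
    isSepClosedPoint_spec X.functionField
  have hiso := Groth.Agent.Lib.Seat3.EtConstGeneric.isIso_unit_const_genericPoint X M hN
  let g := X.fromSpecStalk (genericPoint X)
  let α := asIso ((EtCoh.pullPushAdj g).unit.app (EtCoh.const X M))
  haveI : PreservesFiniteLimits (EtCoh.pull g) := Groth.Agent.S0101.result g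
  haveI := preservesHomology_push hT g
  have hR : ∀ q : ℕ, 0 < q →
      IsZero ((EtCoh.Rpush g q).obj ((EtCoh.pull g).obj (EtCoh.const X M))) := by
    intro q hq
    obtain ⟨m, rfl⟩ : ∃ m, q = m + 1 := ⟨q - 1, by omega⟩
    exact isZero_rightDerived_of_preservesHomology (EtCoh.push g) _ m
  have hb := Groth.Agent.Lib.Helper9.HofPush.HofPush_bijective g
    ((EtCoh.pull g).obj (EtCoh.const X M)) hR (n + 1)
  haveI := subsingleton_H_of_isSepClosedPoint hT ((EtCoh.pull g).obj (EtCoh.const X M)) n
  have h1 : Subsingleton (EtCoh.H X ((EtCoh.push g).obj ((EtCoh.pull g).obj (EtCoh.const X M)))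
      (n + 1)) := hb.1.subsingleton
  let e := ((EtCoh.HF X (n + 1)).mapIso α).addCommGroupIsoToAddEquiv
  have he : Function.Injective e := e.injective
  exact @Function.Injective.subsingleton _ _ e he h1

/-- `H^0(X_et, M)` has the cardinality of `M` for connected `X`. -/
theorem card_H_zero_const (X : Scheme.{u}) [PreconnectedSpace X] [Nonempty X]
    (M : Type) [AddCommGroup M] :
    Nat.card (EtCoh.H X (EtCoh.const X M) 0) = Nat.card M := by
  let e0 : EtCoh.H X (EtCoh.const X M) 0 ≃+ (EtCoh.const X M).obj.obj (op (EtCoh.top X)) :=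
    Sheaf.H.equiv₀ (EtCoh.const X M) (EtCore.topIsTerminal X)
  let e1 := (((sheafSections X.smallEtaleTopology AddCommGrpCat.{u + 1}).obj
    (op (EtCoh.top X))).mapIso (Groth.Agent.Lib.Seat3.EtConstLC.constIso X M)).addCommGroupIsoToAddEquiv
  let c : M → ULift.{u + 1} (LocallyConstant X M) := fun m => ⟨LocallyConstant.const X m⟩
  have hc : Function.Bijective c := by
    constructor
    · intro m m' h
      obtain ⟨x⟩ := (inferInstance : Nonempty X)
      have := congrArg (fun s : ULift.{u + 1} (LocallyConstant X M) => s.down x) h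
      exact this
    · rintro ⟨s⟩
      obtain ⟨m, rfl⟩ := s.exists_eq_const
      exact ⟨m, rfl⟩
  let e2 : EtCoh.H X (EtCoh.const X M) 0 ≃ ULift.{u + 1} (LocallyConstant X M) :=
    e0.toEquiv.trans e1.toEquiv
  exact (Nat.card_congr e2).trans (Nat.card_congr (Equiv.ofBijective c hc)).symm

end Groth.Agent.Lib.Seat85.SepClosedH
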