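import Mathlib

/-!
# Proportional effective Cartier divisors (seat 86)

Local relations `m D = n E` between two effective Cartier divisors with connected total support on a
quasi-compact scheme have a common ratio and can be made global.
-/

set_option autoImplicit false
universe u

namespace Groth.Agent.Lib.Seat86.CDivPow

open AlgebraicGeometry CategoryTheory TopologicalSpace

section ring

/-- powers of a proper principal ideal generated by a non-zero-divisor are pairwise distinct. -/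
theorem pow_inj_of_nzd {B : Type*} [CommRing B] (g : B) (hg : g ∈ nonZeroDivisors B)
    (hne : Ideal.span {g} ≠ ⊤) {a b : ℕ} (h : Ideal.span {g} ^ a = Ideal.span {g} ^ b) : a = b := by
  by_contra hab
  wlog hlt : a < b generalizing a b
  · exact this h.symm (Ne.symm hab) (lt_of_le_of_ne (not_lt.1 hlt) (Ne.symm hab))
  obtain ⟨k, rfl⟩ := Nat.exists_eq_add_of_lt hlt
  rw [Ideal.span_singleton_pow, Ideal.span_singleton_pow] at h
  have h1 : g ^ a ∈ Ideal.span {g ^ (a + k + 1)} := by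
    rw [← h]; exact Ideal.mem_span_singleton_self _
  obtain ⟨u, hu⟩ := Ideal.mem_span_singleton'.1 h1
  have hu' : g ^ a = g ^ (a + k + 1) * u := by rw [mul_comm]; exact hu.symm
  have h2 : g ^ a * (1 - g ^ (k + 1) * u) = 0 := by
    calc g ^ a * (1 - g ^ (k + 1) * u) = g ^ a - g ^ (a + k + 1) * u := by ring
      _ = 0 := by rw [← hu', sub_self]
  have h3 : (1 - g ^ (k + 1) * u) = 0 := by
    have hga : g ^ a ∈ nonZeroDivisors B := pow_mem hg a
    rw [mul_comm] at h2
    exact (mem_nonZeroDivisors_iff.1 hga).2 _ h2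
  apply hne
  rw [Ideal.eq_top_iff_one, Ideal.mem_span_singleton']
  refine ⟨g ^ k * u, ?_⟩
  have : (1 : B) = g ^ (k + 1) * u := by rw [sub_eq_zero] at h3; exact h3
  rw [this]; ring

end ring

variable {X : Scheme.{u}}

/-- the local Cartier hypothesis of the statement. -/
def LocCartier (D : X.IdealSheafData) : Prop :=
  ∀ x : X, ∃ U : X.affineOpens, x ∈ (U : X.Opens) ∧
    ∃ g : Γ(X, U), g ∈ nonZeroDivisors Γ(X, U) ∧ D.ideal U = Ideal.span {g}

/-- restriction of a power relation to a smaller affine open -/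
theorem pow_eq_of_le (D E : X.IdealSheafData) {U V : X.affineOpens} (h : U ≤ V) {m n : ℕ}
    (hV : D.ideal V ^ m = E.ideal V ^ n) : D.ideal U ^ m = E.ideal U ^ n := by
  rw [← D.map_ideal h, ← E.map_ideal h, ← Ideal.map_pow, ← Ideal.map_pow, hV]

/-- a principal ideal generated by a non-zero-divisor stays so on basic opens. -/
theorem exists_nzd_gen_basicOpen (D : X.IdealSheafData) (U : X.affineOpens) (g : Γ(X, U))
    (hg : g ∈ nonZeroDivisors Γ(X, U)) (hD : D.ideal U = Ideal.span {g}) (f : Γ(X, U)) :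
    ∃ g' : Γ(X, X.basicOpen f), g' ∈ nonZeroDivisors Γ(X, X.basicOpen f) ∧
      D.ideal (X.affineBasicOpen f) = Ideal.span {g'} := by
  refine ⟨(X.presheaf.map (homOfLE (X.basicOpen_le f)).op).hom g, ?_, ?_⟩
  · have := U.2.isLocalization_basicOpen f
    have h := IsLocalization.map_nonZeroDivisors_le (Submonoid.powers f) Γ(X, X.basicOpen f)
    exact h ⟨g, hg, rfl⟩
  · rw [← D.map_ideal_basicOpen U f, hD, Ideal.map_span, Set.image_singleton]

theorem ideal_ne_top_of_mem_support (D : X.IdealSheafData) {x : X} (hx : x ∈ D.support)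
    (U : X.affineOpens) (hxU : x ∈ U.1) : D.ideal U ≠ ⊤ := by
  intro h
  rw [Scheme.IdealSheafData.mem_support_iff_of_mem hxU, h] at hx
  simp at hx
  exact hx hxU

/-- uniqueness of the ratio at a point of the support of `D`. -/
theorem ratio_unique (D E : X.IdealSheafData) (hD : LocCartier D) {x : X} (hx : x ∈ D.support)
    {U U' : X.affineOpens} (hxU : x ∈ U.1) (hxU' : x ∈ U'.1) {m n m' n' : ℕ}
    (h : D.ideal U ^ m = E.ideal U ^ n) (h' : D.ideal U' ^ m' = E.ideal U' ^ n') :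
    m * n' = m' * n := by
  obtain ⟨U'', hxU'', g, hg, hDg⟩ := hD x
  obtain ⟨f₁, g₁, e₁, hx₁⟩ := exists_basicOpen_le_affine_inter U.2 U'.2 x ⟨hxU, hxU'⟩
  let W₁ : X.affineOpens := X.affineBasicOpen f₁
  have hW₁U : W₁ ≤ U := X.basicOpen_le f₁
  have hW₁U' : W₁ ≤ U' := by
    change X.basicOpen f₁ ≤ U'.1
    rw [e₁]; exact X.basicOpen_le g₁
  obtain ⟨f₂, g₂, e₂, hx₂⟩ := exists_basicOpen_le_affine_inter W₁.2 U''.2 x ⟨hx₁, hxU''⟩
  let W₂ : X.affineOpens := X.affineBasicOpen g₂
  have hxW₂ : x ∈ W₂.1 := by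
    change x ∈ X.basicOpen g₂
    rw [← e₂]; exact hx₂
  have hW₂W₁ : W₂ ≤ W₁ := by
    change X.basicOpen g₂ ≤ W₁.1
    rw [← e₂]; exact X.basicOpen_le f₂
  have h2 : D.ideal W₂ ^ m = E.ideal W₂ ^ n := pow_eq_of_le D E (hW₂W₁.trans hW₁U) h
  have h2' : D.ideal W₂ ^ m' = E.ideal W₂ ^ n' := pow_eq_of_le D E (hW₂W₁.trans hW₁U') h'
  obtain ⟨γ, hγ, hDγ⟩ := exists_nzd_gen_basicOpen D U'' g hg hDg g₂
  have hne : Ideal.span {γ} ≠ ⊤ := by
    rw [← hDγ]; exact ideal_ne_top_of_mem_support D hx W₂ hxW₂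
  have key : D.ideal W₂ ^ (m * n') = D.ideal W₂ ^ (m' * n) := by
    rw [pow_mul, h2, pow_mul, h2', ← pow_mul, ← pow_mul, mul_comm]
  have hDγ' : D.ideal W₂ = Ideal.span {γ} := hDγ
  rw [hDγ'] at key
  exact pow_inj_of_nzd γ hγ hne key

/-- off the support the ideal is the unit ideal. -/
theorem ideal_eq_top_of_disjoint (D : X.IdealSheafData) (U : X.affineOpens)
    (h : Disjoint (D.support : Set X) (U.1 : Set X)) : D.ideal U = ⊤ := by
  have h1 := D.coe_support_inter U
  rw [Set.disjoint_iff_inter_eq_empty.1 h, ← U.2.fromSpec_image_zeroLocus] at h1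
  have h2 : PrimeSpectrum.zeroLocus (D.ideal U : Set Γ(X, U)) = ∅ := by
    by_contra hne
    obtain ⟨y, hy⟩ := Set.nonempty_iff_ne_empty.2 hne
    have : U.2.fromSpec.base y ∈ (∅ : Set X) := by rw [h1]; exact ⟨y, hy, rfl⟩
    exact this
  exact PrimeSpectrum.zeroLocus_empty_iff_eq_top.1 h2

/-- uniqueness of the ratio at a point of the union of the supports. -/
theorem ratio_unique' (D E : X.IdealSheafData) (hD : LocCartier D) (hE : LocCartier E) {x : X}
    (hx : x ∈ (D.support : Set X) ∪ (E.support : Set X))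
    {U U' : X.affineOpens} (hxU : x ∈ U.1) (hxU' : x ∈ U'.1) {m n m' n' : ℕ}
    (h : D.ideal U ^ m = E.ideal U ^ n) (h' : D.ideal U' ^ m' = E.ideal U' ^ n') :
    m * n' = m' * n := by
  rcases hx with hx | hx
  · exact ratio_unique D E hD hx hxU hxU' h h'
  · have := ratio_unique E D hE hx hxU hxU' h.symm h'.symm
    rw [mul_comm m n', mul_comm m' n]
    exact this.symm

theorem exists_global_pow [CompactSpace X] (D E : X.IdealSheafData)
    (hD : LocCartier D) (hE : LocCartier E)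
    (hconn : IsPreconnected ((D.support : Set X) ∪ (E.support : Set X)))
    (hloc : ∀ x : X, ∃ U : X.affineOpens, x ∈ (U : X.Opens) ∧
      ∃ m n : ℕ, (m, n) ≠ (0, 0) ∧ D.ideal U ^ m = E.ideal U ^ n) :
    ∃ m n : ℕ, (m, n) ≠ (0, 0) ∧ ∀ U : X.affineOpens, D.ideal U ^ m = E.ideal U ^ n := by
  classical
  set S : Set X := (D.support : Set X) ∪ (E.support : Set X) with hS
  by_cases hSne : S.Nonempty
  swap
  · -- empty support: everything is the unit ideal
    have hSe : S = ∅ := Set.not_nonempty_iff_eq_empty.1 hSne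
    refine ⟨1, 1, by simp, fun V => ?_⟩
    have h1 : Disjoint (D.support : Set X) (V.1 : Set X) := by
      have : (D.support : Set X) ⊆ S := Set.subset_union_left
      rw [hSe] at this
      rw [Set.subset_empty_iff.1 this]; exact Set.empty_disjoint _
    have h2 : Disjoint (E.support : Set X) (V.1 : Set X) := by
      have : (E.support : Set X) ⊆ S := Set.subset_union_right
      rw [hSe] at this
      rw [Set.subset_empty_iff.1 this]; exact Set.empty_disjoint _
    rw [ideal_eq_top_of_disjoint D V h1, ideal_eq_top_of_disjoint E V h2]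
  obtain ⟨x₀, hx₀⟩ := hSne
  choose U hxU m n hne hrel using hloc
  set m₀ := m x₀ with hm₀
  set n₀ := n x₀ with hn₀
  -- the two open sets
  let u : Set X := ⋃ (V : X.affineOpens)
    (_ : ∃ a b : ℕ, (a, b) ≠ (0, 0) ∧ D.ideal V ^ a = E.ideal V ^ b ∧ a * n₀ = m₀ * b), (V.1 : Set X)
  let v : Set X := ⋃ (V : X.affineOpens)
    (_ : ∃ a b : ℕ, (a, b) ≠ (0, 0) ∧ D.ideal V ^ a = E.ideal V ^ b ∧ a * n₀ ≠ m₀ * b), (V.1 : Set X)
  have hu : IsOpen u := isOpen_iUnion fun V => isOpen_iUnion fun _ => V.1.2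
  have hv : IsOpen v := isOpen_iUnion fun V => isOpen_iUnion fun _ => V.1.2
  have hSuv : S ⊆ u ∪ v := by
    intro x _
    by_cases hr : m x * n₀ = m₀ * n x
    · left
      exact Set.mem_iUnion₂.2 ⟨U x, ⟨m x, n x, hne x, hrel x, hr⟩, hxU x⟩
    · right
      exact Set.mem_iUnion₂.2 ⟨U x, ⟨m x, n x, hne x, hrel x, hr⟩, hxU x⟩
  have hSu : (S ∩ u).Nonempty :=
    ⟨x₀, hx₀, Set.mem_iUnion₂.2 ⟨U x₀, ⟨m₀, n₀, hne x₀, hrel x₀, rfl⟩, hxU x₀⟩⟩
  have hSv : S ∩ v = ∅ := by
    by_contra hcon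
    obtain ⟨y, hyS, hyu, hyv⟩ := hconn u v hu hv hSuv hSu (Set.nonempty_iff_ne_empty.2 hcon)
    obtain ⟨V, ⟨a, b, hab, hVrel, hVr⟩, hyV⟩ := Set.mem_iUnion₂.1 hyu
    obtain ⟨V', ⟨a', b', hab', hVrel', hVr'⟩, hyV'⟩ := Set.mem_iUnion₂.1 hyv
    have key : a * b' = a' * b := ratio_unique' D E hD hE hyS hyV hyV' hVrel hVrel'
    apply hVr'
    by_cases ha : a = 0
    · subst ha
      have hb : b ≠ 0 := fun hb => hab (by rw [hb])
      have h1 : m₀ = 0 := by
        have : m₀ * b = 0 := by rw [← hVr]; simp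
        exact (Nat.mul_eq_zero.1 this).resolve_right hb
      have h2 : a' = 0 := by
        have : a' * b = 0 := by rw [← key]; simp
        exact (Nat.mul_eq_zero.1 this).resolve_right hb
      rw [h1, h2]; simp
    · apply Nat.eq_of_mul_eq_mul_left (Nat.pos_of_ne_zero ha)
      calc a * (a' * n₀) = a' * (a * n₀) := by ring
        _ = a' * (m₀ * b) := by rw [hVr]
        _ = m₀ * (a' * b) := by ring
        _ = m₀ * (a * b') := by rw [key]
        _ = a * (m₀ * b') := by ring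
  -- finite subcover
  obtain ⟨t, ht⟩ := isCompact_univ.elim_finite_subcover (fun x : X => ((U x).1 : Set X))
    (fun x => (U x).1.2) (fun x _ => Set.mem_iUnion.2 ⟨x, hxU x⟩)
  set M : ℕ := ∏ x ∈ t, (m x + n x) with hM
  have hMpos : M ≠ 0 := by
    rw [hM, Finset.prod_ne_zero_iff]
    intro x _ h0
    apply hne x
    have h1 : m x = 0 := by omega
    have h2 : n x = 0 := by omega
    rw [h1, h2]
  have h00 : (m₀ * M, n₀ * M) ≠ (0, 0) := by
    intro h
    rw [Prod.mk.injEq] at h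
    apply hne x₀
    change (m₀, n₀) = (0, 0)
    rw [(Nat.mul_eq_zero.1 h.1).resolve_right hMpos, (Nat.mul_eq_zero.1 h.2).resolve_right hMpos]
  have hcover : ∀ x ∈ t, D.ideal (U x) ^ (m₀ * M) = E.ideal (U x) ^ (n₀ * M) := by
    intro x hxt
    by_cases hdis : Disjoint S ((U x).1 : Set X)
    · have h1 : Disjoint (D.support : Set X) ((U x).1 : Set X) :=
        hdis.mono_left Set.subset_union_left
      have h2 : Disjoint (E.support : Set X) ((U x).1 : Set X) :=
        hdis.mono_left Set.subset_union_right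
      rw [ideal_eq_top_of_disjoint D _ h1, ideal_eq_top_of_disjoint E _ h2, Ideal.top_pow,
        Ideal.top_pow]
    · obtain ⟨y, hyS, hyU⟩ := Set.not_disjoint_iff.1 hdis
      have hr : m x * n₀ = m₀ * n x := by
        by_contra hr
        have : y ∈ S ∩ v :=
          ⟨hyS, Set.mem_iUnion₂.2 ⟨U x, ⟨m x, n x, hne x, hrel x, hr⟩, hyU⟩⟩
        rw [hSv] at this
        exact this
      obtain ⟨q, hq⟩ : (m x + n x) ∣ M := Finset.dvd_prod_of_mem _ hxt
      have e1 : m₀ * M = m x * ((m₀ + n₀) * q) := by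
        rw [hq]
        calc m₀ * ((m x + n x) * q) = (m₀ * m x + m₀ * n x) * q := by ring
          _ = (m₀ * m x + m x * n₀) * q := by rw [hr]
          _ = m x * ((m₀ + n₀) * q) := by ring
      have e2 : n₀ * M = n x * ((m₀ + n₀) * q) := by
        rw [hq]
        calc n₀ * ((m x + n x) * q) = (m x * n₀ + n₀ * n x) * q := by ring
          _ = (m₀ * n x + n₀ * n x) * q := by rw [hr]
          _ = n x * ((m₀ + n₀) * q) := by ring
      rw [e1, e2, pow_mul (D.ideal (U x)) (m x), pow_mul (E.ideal (U x)) (n x), hrel x]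
  refine ⟨m₀ * M, n₀ * M, h00, ?_⟩
  have hsup : ⨆ i : {x // x ∈ t}, ((U i.1).1 : X.Opens) = ⊤ := by
    rw [eq_top_iff]
    intro z _
    obtain ⟨x, hx⟩ := Set.mem_iUnion.1 (ht (Set.mem_univ z))
    obtain ⟨hxt, hzx⟩ := Set.mem_iUnion.1 hx
    exact Opens.mem_iSup.2 ⟨⟨x, hxt⟩, hzx⟩
  have hDE : D ^ (m₀ * M) = E ^ (n₀ * M) :=
    Scheme.IdealSheafData.ext_of_iSup_eq_top (fun i : {x // x ∈ t} => U i.1) hsup
      (fun i => hcover i.1 i.2)
  intro V
  have := congrArg (fun I : X.IdealSheafData => I.ideal V) hDE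
  simpa using this

end Groth.Agent.Lib.Seat86.CDivPow
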