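import Mathlib

/-!
# Divisibility through an injective integral extension

If `φ : A → B` is injective and integral, `A` is (locally) an integrally closed domain, and
`φ d = u * φ e` for some `u : B`, then `e ∣ d` in `A` (resp. `(d) ≤ (e)`).
-/

set_option autoImplicit false
universe u v

open Polynomial

namespace Groth.Agent.Lib.Seat86.IntDiv

theorem dvd_of_integral {A : Type u} {B : Type v} [CommRing A] [IsDomain A] [IsIntegrallyClosed A]
    [CommRing B] (φ : A →+* B) (hinj : Function.Injective φ) (hint : φ.IsIntegral) (d e : A)
    (he : e ≠ 0) (u : B) (h : φ d = u * φ e) : e ∣ d := by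
  obtain ⟨p, hpm, hp⟩ := hint u
  have hq : eval₂ φ (φ d) (p.scaleRoots e) = 0 := by
    rw [h, mul_comm]
    exact scaleRoots_eval₂_eq_zero φ hp
  have hq' : (p.scaleRoots e).eval d = 0 := by
    apply hinj
    rw [map_zero, ← hq, eval₂_at_apply]
  have hK : eval₂ (algebraMap A (FractionRing A)) (algebraMap A (FractionRing A) d)
      (p.scaleRoots e) = 0 := by
    rw [eval₂_at_apply, hq', map_zero]
  have he' : algebraMap A (FractionRing A) e ≠ 0 := by
    intro h0
    exact he ((IsFractionRing.injective A (FractionRing A)) (h0.trans (map_zero _).symm))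
  have hmul : algebraMap A (FractionRing A) e *
      (algebraMap A (FractionRing A) d / algebraMap A (FractionRing A) e) =
      algebraMap A (FractionRing A) d := mul_div_cancel₀ _ he'
  rw [← hmul, scaleRoots_eval₂_mul] at hK
  have hpr : eval₂ (algebraMap A (FractionRing A))
      (algebraMap A (FractionRing A) d / algebraMap A (FractionRing A) e) p = 0 :=
    (mul_eq_zero.mp hK).resolve_left (pow_ne_zero _ he')
  have hint_r : IsIntegral A
      (algebraMap A (FractionRing A) d / algebraMap A (FractionRing A) e) := ⟨p, hpm, hpr⟩
  obtain ⟨c, hc⟩ := IsIntegrallyClosed.isIntegral_iff.mp hint_r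
  refine ⟨c, ?_⟩
  apply IsFractionRing.injective A (FractionRing A)
  rw [map_mul, hc, hmul]

theorem span_le_span_of_integral {A : Type u} {B : Type v} [CommRing A] [CommRing B]
    (φ : A →+* B) (hinj : Function.Injective φ) (hint : φ.IsIntegral)
    (hloc : ∀ (P : Ideal A) [P.IsMaximal],
      IsDomain (Localization.AtPrime P) ∧ IsIntegrallyClosed (Localization.AtPrime P))
    (d e : A) (he : e ∈ nonZeroDivisors A) (u : B) (h : φ d = u * φ e) :
    Ideal.span {d} ≤ Ideal.span {e} := by
  apply Ideal.le_of_localization_maximal
  intro P hP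
  rw [Ideal.map_span, Ideal.map_span, Set.image_singleton, Set.image_singleton,
    Ideal.span_singleton_le_span_singleton]
  obtain ⟨hdom, hic⟩ := hloc P
  let M := P.primeCompl
  let B' := Localization (M.map (φ : A →* B))
  let φ' : Localization.AtPrime P →+* B' :=
    IsLocalization.map B' φ (M.le_comap_map : _ ≤ Submonoid.comap (φ : A →* B) _)
  haveI : IsLocalization (Submonoid.map φ M) B' :=
    (Localization.isLocalization : IsLocalization (M.map (φ : A →* B)) B')
  have hφ'inj : Function.Injective φ' :=
    IsLocalization.map_injective_of_injective M (Localization.AtPrime P) B' hinj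
  have hφ'int : φ'.IsIntegral := isIntegral_localization' hint M
  have he' : algebraMap A (Localization.AtPrime P) e ≠ 0 := by
    intro h0
    obtain ⟨m, hm⟩ := (IsLocalization.map_eq_zero_iff M _ e).mp h0
    have hm0 : (m : A) = 0 := by
      have := (mem_nonZeroDivisors_iff.mp he).2 (m : A)
      exact this hm
    exact m.2 (hm0 ▸ P.zero_mem)
  refine dvd_of_integral φ' hφ'inj hφ'int _ _ he' (algebraMap B B' u) ?_
  rw [IsLocalization.map_eq, IsLocalization.map_eq, h, map_mul]

end Groth.Agent.Lib.Seat86.IntDiv
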