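import Mathlib

/-!
# Dividing sections of the structure sheaf locally

If `b` is a section over `Ω` that is regular on every open `V ≤ Ω`, and `a` is locally a multiple
of `b`, then `a` is a multiple of `b` over `Ω`.
-/

set_option autoImplicit false
universe u

open AlgebraicGeometry CategoryTheory Opposite TopologicalSpace

namespace Groth.Agent.Lib.Seat86.SecDiv

variable {X : Scheme.{u}}

theorem res_res {U V W : X.Opens} (h₁ : V ≤ U) (h₂ : W ≤ V) (t : Γ(X, U)) :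
    X.presheaf.map (homOfLE h₂).op (X.presheaf.map (homOfLE h₁).op t) =
      X.presheaf.map (homOfLE (h₂.trans h₁)).op t := by
  rw [← ConcreteCategory.comp_apply, ← Functor.map_comp]
  rfl

theorem exists_mul_eq_of_locally (Ω : X.Opens) (a b : Γ(X, Ω))
    (hreg : ∀ (V : X.Opens) (hV : V ≤ Ω) (s : Γ(X, V)),
      X.presheaf.map (homOfLE hV).op b * s = 0 → s = 0)
    (hloc : ∀ x ∈ Ω, ∃ (V : X.Opens) (hV : V ≤ Ω), x ∈ V ∧ ∃ u : Γ(X, V),
      X.presheaf.map (homOfLE hV).op a = u * X.presheaf.map (homOfLE hV).op b) :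
    ∃ u : Γ(X, Ω), a = u * b := by
  choose V hV hxV u hu using hloc
  let U : ↥Ω → X.Opens := fun i => V i.1 i.2
  have hUΩ : ∀ i, U i ≤ Ω := fun i => hV i.1 i.2
  have hcover : Ω ≤ iSup U := by
    intro x hx
    exact Opens.mem_iSup.mpr ⟨⟨x, hx⟩, hxV x hx⟩
  let sf : ∀ i : ↥Ω, Γ(X, U i) := fun i => u i.1 i.2
  have hsf : ∀ i : ↥Ω, X.presheaf.map (homOfLE (hUΩ i)).op a =
      sf i * X.presheaf.map (homOfLE (hUΩ i)).op b := fun i => hu i.1 i.2
  have hc : ∀ i j : ↥Ω, X.presheaf.map (homOfLE (inf_le_left : U i ⊓ U j ≤ U i)).op (sf i) =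
      X.presheaf.map (homOfLE (inf_le_right : U i ⊓ U j ≤ U j)).op (sf j) := by
    intro i j
    have hij : U i ⊓ U j ≤ Ω := inf_le_left.trans (hUΩ i)
    rw [← sub_eq_zero]
    apply hreg _ hij
    have e1 := congrArg (X.presheaf.map (homOfLE (inf_le_left : U i ⊓ U j ≤ U i)).op) (hsf i)
    have e2 := congrArg (X.presheaf.map (homOfLE (inf_le_right : U i ⊓ U j ≤ U j)).op) (hsf j)
    rw [map_mul, res_res, res_res] at e1 e2
    rw [mul_sub, mul_comm, ← e1, mul_comm, ← e2, sub_self]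
  have hcompat : TopCat.Presheaf.IsCompatible X.sheaf.1 U sf := fun i j => hc i j
  obtain ⟨g, hg'⟩ : ∃ g : Γ(X, Ω), ∀ i : ↥Ω,
      X.presheaf.map (homOfLE (hUΩ i)).op g = sf i := by
    obtain ⟨g, hg, -⟩ := TopCat.Sheaf.existsUnique_gluing' X.sheaf U Ω
      (fun i => homOfLE (hUΩ i)) hcover sf hcompat
    exact ⟨g, hg⟩
  refine ⟨g, ?_⟩
  have hfin : ∀ i : ↥Ω, X.presheaf.map (homOfLE (hUΩ i)).op a =
      X.presheaf.map (homOfLE (hUΩ i)).op (g * b) := by
    intro i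
    rw [map_mul, hg' i]
    exact hsf i
  exact TopCat.Sheaf.eq_of_locally_eq' X.sheaf U Ω (fun i => homOfLE (hUΩ i)) hcover a
    (g * b) hfin

end Groth.Agent.Lib.Seat86.SecDiv
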