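import Mathlib
import Groth.Prelude.Def_CInt
import Groth.Agent.Lib.Helper22IdealComap
import Groth.Agent.Lib.Seat86CDivPow
import Groth.Agent.Lib.Seat86IntDiv
import Groth.Agent.Lib.Seat86SecDiv

/-!
# Effective Cartier divisors on a normal scheme are determined by their pullback along a proper
# scheme-theoretically dominant morphism (seat 86)
-/

set_option autoImplicit false
universe u

namespace Groth.Agent.Lib.Seat86.CDivPull

open AlgebraicGeometry CategoryTheory TopologicalSpace Opposite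
open Groth.Agent.Lib.Seat86.CDivPow Groth.Agent.Lib.Seat86.SecDiv

section general

variable {X Y : Scheme.{u}}

/-- For a universally closed morphism, sections over the preimage of an affine open are integral
over the sections over that affine open. -/
theorem isIntegral_app (f : X ⟶ Y) [UniversallyClosed f] (W : Y.Opens) (hW : IsAffineOpen W) :
    (f.app W).hom.IsIntegral := by
  haveI : IsAffine ↑W := hW
  have h := isIntegral_appTop_of_universallyClosed (f ∣_ W)
  rw [Scheme.Hom.appTop, morphismRestrict_app'] at h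
  rw [← Scheme.Hom.appLE_eq_app]
  exact (Scheme.Hom.appLE_congr f _ W.ι_image_top (f ⁻¹ᵁ W).ι_image_top
    (fun φ => φ.hom.IsIntegral)).mp h

/-- A morphism with trivial kernel is injective on sections over affine opens. -/
theorem app_injective_of_ker_eq_bot (f : X ⟶ Y) [QuasiCompact f] (hker : f.ker = ⊥)
    (W : Y.affineOpens) : Function.Injective (f.app W.1).hom := by
  rw [RingHom.injective_iff_ker_eq_bot, ← Scheme.Hom.ker_apply, hker]
  rfl

/-- Common affine neighbourhoods on which two locally principal ideal sheaves are principal. -/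
theorem exists_common (D E : X.IdealSheafData) (hD : LocCartier D) (hE : LocCartier E) (x : X) :
    ∃ W : X.affineOpens, x ∈ W.1 ∧
      (∃ d : Γ(X, W.1), d ∈ nonZeroDivisors Γ(X, W.1) ∧ D.ideal W = Ideal.span {d}) ∧
      (∃ e : Γ(X, W.1), e ∈ nonZeroDivisors Γ(X, W.1) ∧ E.ideal W = Ideal.span {e}) := by
  obtain ⟨U₁, hx₁, g₁, hg₁, hD₁⟩ := hD x
  obtain ⟨U₂, hx₂, g₂, hg₂, hE₂⟩ := hE x
  obtain ⟨r₁, r₂, heq, hxr⟩ := exists_basicOpen_le_affine_inter U₁.2 U₂.2 x ⟨hx₁, hx₂⟩
  have h1 := exists_nzd_gen_basicOpen D U₁ g₁ hg₁ hD₁ r₁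
  have h2 := exists_nzd_gen_basicOpen E U₂ g₂ hg₂ hE₂ r₂
  have hW : X.affineBasicOpen r₂ = X.affineBasicOpen r₁ := Subtype.ext heq.symm
  refine ⟨X.affineBasicOpen r₁, hxr, h1, ?_⟩
  have aux : ∀ (W W' : X.affineOpens), W = W' →
      (∃ e : Γ(X, W.1), e ∈ nonZeroDivisors Γ(X, W.1) ∧ E.ideal W = Ideal.span {e}) →
      (∃ e : Γ(X, W'.1), e ∈ nonZeroDivisors Γ(X, W'.1) ∧ E.ideal W' = Ideal.span {e}) := by
    intro W W' h hh
    subst h
    exact hh
  exact aux _ _ hW h2

/-- Membership in the basic open of a generator outside the support. -/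
theorem mem_basicOpen_of_notMem_support (E : X.IdealSheafData) (W : X.affineOpens)
    (e : Γ(X, W.1)) (hE : E.ideal W = Ideal.span {e}) {y : X} (hyW : y ∈ W.1)
    (hy : y ∉ E.support) : y ∈ X.basicOpen e := by
  rw [Scheme.IdealSheafData.mem_support_iff_of_mem hyW, hE, Scheme.mem_zeroLocus_iff] at hy
  push Not at hy
  obtain ⟨g, hg, hyg⟩ := hy
  obtain ⟨a, rfl⟩ := Ideal.mem_span_singleton'.mp hg
  rw [Scheme.basicOpen_mul] at hyg
  exact hyg.2

end general

section main

variable {S S' : Scheme.{u}} (f : S' ⟶ S)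

/-- The pulled back generator of `E` is regular on every open of `f⁻¹ W`. -/
theorem regular_of_dense (U : S.Opens) (hU' : CInt.IsSchematicallyDense (f ⁻¹ᵁ U))
    (E : S.IdealSheafData) (hEU : (E.support : Set S) ⊆ (U : Set S)ᶜ) (W : S.affineOpens)
    (e : Γ(S, W.1)) (hE : E.ideal W = Ideal.span {e}) (V : S'.Opens) (hV : V ≤ f ⁻¹ᵁ W.1)
    (s : Γ(S', V))
    (hs : S'.presheaf.map (homOfLE hV).op ((f.app W.1).hom e) * s = 0) : s = 0 := by
  apply hU' V
  rw [map_zero]
  have hle : V ⊓ f ⁻¹ᵁ U ≤ S'.basicOpen ((f.app W.1).hom e) := by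
    rw [← Scheme.preimage_basicOpen]
    intro y hy
    have hyW : f y ∈ W.1 := hV hy.1
    have hyE : f y ∉ E.support := fun hmem => hEU hmem hy.2
    exact mem_basicOpen_of_notMem_support E W e hE hyW hyE
  have hunit0 := RingedSpace.isUnit_res_basicOpen S'.toRingedSpace ((f.app W.1).hom e)
  have hunit : IsUnit (S'.presheaf.map (homOfLE (hle.trans (S'.basicOpen_le _))).op
      ((f.app W.1).hom e)) := by
    have := hunit0.map (S'.presheaf.map (homOfLE hle).op).hom
    rw [← res_res (S'.basicOpen_le _) hle]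
    exact this
  have h1 := congrArg (S'.presheaf.map (homOfLE (inf_le_left : V ⊓ f ⁻¹ᵁ U ≤ V)).op) hs
  rw [map_mul, map_zero, res_res] at h1
  exact (hunit.mul_right_eq_zero).mp h1

variable [IsProper f]

/-- The local core: on an affine open where both divisors are principal, the generator of `D` is
a multiple of that of `E`. -/
theorem span_le_span
    (hnorm : ∀ x : S, IsDomain (S.presheaf.stalk x) ∧ IsIntegrallyClosed (S.presheaf.stalk x))
    (hdom : f.ker = ⊥) (U : S.Opens) (hU' : CInt.IsSchematicallyDense (f ⁻¹ᵁ U))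
    (D E : S.IdealSheafData) (hEU : (E.support : Set S) ⊆ (U : Set S)ᶜ)
    (h : D.comap f = E.comap f) (W : S.affineOpens) (d e : Γ(S, W.1))
    (he : e ∈ nonZeroDivisors Γ(S, W.1)) (hD : D.ideal W = Ideal.span {d})
    (hE : E.ideal W = Ideal.span {e}) : Ideal.span {d} ≤ Ideal.span {e} := by
  -- the global unit-like section `u` with `φ d = u * φ e`
  have hloc : ∀ x ∈ f ⁻¹ᵁ W.1, ∃ (V : S'.Opens) (hV : V ≤ f ⁻¹ᵁ W.1), x ∈ V ∧ ∃ u : Γ(S', V),
      S'.presheaf.map (homOfLE hV).op ((f.app W.1).hom d) =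
        u * S'.presheaf.map (homOfLE hV).op ((f.app W.1).hom e) := by
    intro x hx
    obtain ⟨_, ⟨V, hVaff, rfl⟩, hxV, hVW⟩ :=
      S'.isBasis_affineOpens.exists_subset_of_mem_open hx (f ⁻¹ᵁ W.1).2
    refine ⟨V, hVW, hxV, ?_⟩
    have hDV := Groth.Agent.Lib.Helper22.IdealComap.ideal_comap_eq_map f D ⟨V, hVaff⟩ W hVW
    have hEV := Groth.Agent.Lib.Helper22.IdealComap.ideal_comap_eq_map f E ⟨V, hVaff⟩ W hVW
    rw [hD, Ideal.map_span, Set.image_singleton] at hDV
    rw [hE, Ideal.map_span, Set.image_singleton] at hEV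
    rw [h, hEV] at hDV
    have hmem : (f.appLE W.1 V hVW).hom d ∈ Ideal.span {(f.appLE W.1 V hVW).hom e} := by
      rw [hDV]
      exact Ideal.subset_span rfl
    obtain ⟨u, hu⟩ := Ideal.mem_span_singleton'.mp hmem
    exact ⟨u, hu.symm⟩
  obtain ⟨u, hu⟩ := exists_mul_eq_of_locally (f ⁻¹ᵁ W.1) ((f.app W.1).hom d)
    ((f.app W.1).hom e) (fun V hV s hs => regular_of_dense f U hU' E hEU W e hE V hV s hs) hloc
  -- integrality and injectivity
  have hint : (f.app W.1).hom.IsIntegral := isIntegral_app f W.1 W.2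
  have hinj : Function.Injective (f.app W.1).hom := app_injective_of_ker_eq_bot f hdom W
  refine Groth.Agent.Lib.Seat86.IntDiv.span_le_span_of_integral (f.app W.1).hom hinj hint ?_
    d e he u hu
  intro P hP
  -- the localization at `P` is the stalk at the corresponding point
  let y : PrimeSpectrum Γ(S, W.1) := ⟨P, hP.isPrime⟩
  have hy : W.2.fromSpec y ∈ W.1 := by
    have : W.2.fromSpec y ∈ W.2.fromSpec.opensRange := ⟨y, rfl⟩
    rwa [W.2.opensRange_fromSpec] at this
  letI := TopCat.Presheaf.algebra_section_stalk S.presheaf ⟨W.2.fromSpec y, hy⟩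
  haveI hloc' : IsLocalization.AtPrime (S.presheaf.stalk (W.2.fromSpec y)) P :=
    W.2.isLocalization_stalk' y hy
  let eqv : S.presheaf.stalk (W.2.fromSpec y) ≃ₐ[Γ(S, W.1)] Localization.AtPrime P :=
    IsLocalization.algEquiv P.primeCompl _ _
  obtain ⟨hd1, hd2⟩ := hnorm (W.2.fromSpec y)
  exact ⟨MulEquiv.isDomain (S.presheaf.stalk (W.2.fromSpec y)) eqv.symm.toMulEquiv,
    IsIntegrallyClosed.of_equiv eqv.toRingEquiv⟩

/-- **S17733**: effective Cartier divisors on a normal locally Noetherian scheme with equal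
pullbacks along a proper scheme-theoretically dominant morphism are equal. -/
theorem eq_of_comap_eq
    (hnorm : ∀ x : S, IsDomain (S.presheaf.stalk x) ∧ IsIntegrallyClosed (S.presheaf.stalk x))
    (hdom : f.ker = ⊥) (U : S.Opens) (hU' : CInt.IsSchematicallyDense (f ⁻¹ᵁ U))
    (D E : S.IdealSheafData) (hD : LocCartier D) (hE : LocCartier E)
    (hDU : (D.support : Set S) ⊆ (U : Set S)ᶜ) (hEU : (E.support : Set S) ⊆ (U : Set S)ᶜ)
    (h : D.comap f = E.comap f) : D = E := by
  choose W hxW hWD hWE using exists_common D E hD hE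
  refine Scheme.IdealSheafData.ext_of_iSup_eq_top W ?_ ?_
  · rw [eq_top_iff]
    intro x _
    exact Opens.mem_iSup.mpr ⟨x, hxW x⟩
  · intro x
    obtain ⟨d, hd, hDd⟩ := hWD x
    obtain ⟨e, he, hEe⟩ := hWE x
    rw [hDd, hEe]
    exact le_antisymm
      (span_le_span f hnorm hdom U hU' D E hEU h (W x) d e he hDd hEe)
      (span_le_span f hnorm hdom U hU' E D hDU h.symm (W x) e d hd hEe hDd)

end main

end Groth.Agent.Lib.Seat86.CDivPull
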