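import Groth.Agent.S7708

/-!
# `Ext^{n'-n}_{R'}(R, R')` is a canonical module of a quotient `R` of a Gorenstein local ring `R'`
(seat 86)

The proof of S7708 (existence of a canonical module) with the module it constructs made explicit:
for a surjection `R' → R` from a Gorenstein local ring of dimension `n'` onto a Noetherian local ring
of dimension `n`, the (old style) Ext module `Ext^{n'-n}_{R'}(R, R')` carries an `R`-module structure
compatible with its `R'`-module structure, is finite over `R`, and `Hom_R(-, E) ≅ H^n_m(R)`.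

Namespace `Groth.Agent.Lib.Seat86.CanonExt`.
-/

set_option autoImplicit false
set_option linter.style.haveILetI false
universe u
open LocCoh

namespace Groth.Agent.Lib.Seat86.CanonExt
open CategoryTheory IsLocalRing Opposite
open Groth.Agent.Lib.Helper8.ExtLES Groth.Agent.Lib.Helper8.Bridge Groth.Agent.Lib.Helper8.LC
  Groth.Agent.Lib.Helper8.ExtRep Groth.Agent.Lib.Helper8.LocDual
  Groth.Agent.Lib.Helper29.GorHull Groth.Agent.Lib.Helper29.GorAnn
open Groth.Agent.S7708

/-- `Ext^{n'-n}_{R'}(R, R')` is a canonical module of `R`. -/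
theorem exists_module_ext (R' R : Type u) [CommRing R'] [LocCoh.IsGorensteinLocalRing R']
    [CommRing R] [IsNoetherianRing R] [IsLocalRing R] [Algebra R' R]
    (hπ : Function.Surjective (algebraMap R' R)) (n n' : ℕ) (hn : ringKrullDim R = n)
    (hn' : ringKrullDim R' = n') (E : Type u) [AddCommGroup E] [Module R E]
    (f : IsLocalRing.ResidueField R →ₗ[R] E) (hf : InjHull.IsInjectiveHull f) :
    ∃ (mK : Module R (((Ext R' (ModuleCat.{u} R') (n' - n)).obj (op (ModuleCat.of R' R))).obj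
        (ModuleCat.of R' R'))),
      (∀ (a : R') (x : ((Ext R' (ModuleCat.{u} R') (n' - n)).obj (op (ModuleCat.of R' R))).obj
        (ModuleCat.of R' R')), algebraMap R' R a • x = a • x) ∧
      Module.Finite R (((Ext R' (ModuleCat.{u} R') (n' - n)).obj (op (ModuleCat.of R' R))).obj
        (ModuleCat.of R' R')) ∧
      Nonempty (((((Ext R' (ModuleCat.{u} R') (n' - n)).obj (op (ModuleCat.of R' R))).obj
        (ModuleCat.of R' R')) →ₗ[R] E) ≃ₗ[R] LocCoh.H (IsLocalRing.maximalIdeal R) n R) := by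
  classical
  have hnn' : n ≤ n' := by
    have h1 := ringKrullDim_le_of_surjective (algebraMap R' R) hπ
    rw [hn, hn'] at h1
    exact_mod_cast h1
  haveI hfinR : Module.Finite R' R := Module.Finite.of_surjective (Algebra.linearMap R' R) hπ
  let K₀ : ModuleCat.{u} R' :=
    Groth.Agent.Lib.Helper8.ExtLES.E (n' - n) (ModuleCat.of R' R) (ModuleCat.of R' R')
  have hK₀ : ∀ a : R', algebraMap R' R a = 0 → ∀ x : K₀, a • x = 0 := by
    intro a ha y
    have h0 : a • 𝟙 (ModuleCat.of R' R) = 0 := by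
      apply ModuleCat.hom_ext
      apply LinearMap.ext
      intro x
      change a • (x : R) = 0
      rw [Algebra.smul_def, ha, zero_mul]
    have h1 := Groth.Agent.Lib.Helper8.LC.Epre_smul (n' - n) (ModuleCat.of R' R)
      (ModuleCat.of R' R') a
    have h2 := Groth.Agent.Lib.Helper8.LC.Epre_smul (n' - n) (ModuleCat.of R' R)
      (ModuleCat.of R' R') 0
    rw [h0] at h1
    rw [zero_smul] at h2
    rw [h2] at h1
    have h3 := congrArg (fun φ => φ.hom y) h1
    have h4 : (0 : R') • y = a • y := h3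
    rw [← h4, zero_smul]
  letI mK : Module R K₀ := modOfSurj hπ K₀ hK₀
  have hsm : ∀ (a : R') (x : K₀), algebraMap R' R a • x = a • x := modOfSurj_smul hπ K₀ hK₀
  haveI hst : IsScalarTower R' R K₀ := IsScalarTower.of_algebraMap_smul hsm
  have hfinK' : Module.Finite R' K₀ := by
    have hX0 : Module.Finite R' (Abelian.Ext.{u} (ModuleCat.of R' R) (ModuleCat.of R' R') (n' - n)) :=
      ModuleCat.finite_ext R' (ModuleCat.of R' R) (ModuleCat.of R' R') (n' - n)
    exact Module.Finite.equiv (Ψ (n' - n) (ModuleCat.of R' R) (ModuleCat.of R' R')).symm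
  have hfinK : Module.Finite R K₀ := Module.Finite.of_restrictScalars_finite R' R K₀
  refine ⟨mK, hsm, hfinK, ?_⟩
  obtain ⟨f', hf'⟩ := exists_isInjectiveHull_of_gorenstein R' n' hn'
  obtain ⟨g', hg'⟩ := Groth.Agent.S5156.result R' R (Hn R' n') f' hf'
  obtain ⟨e₁, _⟩ := Groth.Agent.S0302.result R (ResidueField R) E _ f hf g' hg'
  let e₁' : E ≃ₗ[R] Cx R' R (Hn R' n') :=
    e₁.trans (ModuleCat.CoextendScalars.equiv (algebraMap R' R) (ModuleCat.of R' (Hn R' n')))
  obtain ⟨α, hα⟩ := exists_adj (R' := R') (R := R) K₀ (Hn R' n')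
  obtain ⟨e₀⟩ := duality_gorenstein R' n' hn' R n hnn'
  obtain ⟨φ, hφ⟩ := exists_semilinear hπ R n
  let c₁ : (K₀ →ₗ[R] E) ≃ₗ[R] (K₀ →ₗ[R] Cx R' R (Hn R' n')) := LinearEquiv.congrRight e₁'
  let Φ : (K₀ →ₗ[R] E) ≃+ LocCoh.H (maximalIdeal R) n R :=
    c₁.toAddEquiv.trans (α.trans (e₀.symm.toAddEquiv.trans φ.symm))
  have hΦ : ∀ (a : R') (ψ : K₀ →ₗ[R] E), Φ (algebraMap R' R a • ψ) = algebraMap R' R a • Φ ψ := by
    intro a ψ
    change φ.symm (e₀.symm (α (c₁ (algebraMap R' R a • ψ)))) =
      algebraMap R' R a • φ.symm (e₀.symm (α (c₁ ψ)))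
    rw [map_smul, hα, map_smul]
    apply φ.injective
    rw [hφ, AddEquiv.apply_symm_apply, AddEquiv.apply_symm_apply]
  refine ⟨{ Φ with map_smul' := fun r ψ => ?_ }⟩
  obtain ⟨a, rfl⟩ := hπ r
  exact hΦ a ψ

end Groth.Agent.Lib.Seat86.CanonExt
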