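import Mathlib

/-!
# Divided powers on the kernel of `A^ → A/I` for the `c`-adic completion

Let `(A, I, γ)` be a divided power ring and `c : A` with `c ^ t ∈ I`.  On the `c`-adic completion
`A^` of `A`, the kernel of `A^ → A/c^t → A/I` carries a divided power structure for which
`A → A^` is a divided power morphism.
-/

set_option autoImplicit false
set_option linter.style.haveILetI false
set_option linter.unusedSectionVars false

namespace Groth.Agent.Lib.Seat86.DPCompl

open Finset

variable {A : Type*} [CommRing A] {I : Ideal A} (γ : DividedPowers I) (c : A) (t : ℕ)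
  (ht : Ideal.span {c} ^ t ≤ I)

include ht in
/-- continuity of divided powers for the `c`-adic topology -/
theorem dpow_sub_mem {a a' : A} (_ha : a ∈ I) (ha' : a' ∈ I) (e n : ℕ)
    (h : a - a' ∈ Ideal.span {c} ^ (e + t)) :
    γ.dpow n a - γ.dpow n a' ∈ Ideal.span {c} ^ e := by
  rw [Ideal.span_singleton_pow, Ideal.mem_span_singleton] at h
  obtain ⟨b, hb⟩ := h
  have hct : c ^ t ∈ I :=
    ht (by rw [Ideal.span_singleton_pow]; exact Ideal.mem_span_singleton_self _)
  have hd : c ^ t * b ∈ I := I.mul_mem_right _ hct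
  have ha_eq : a = a' + c ^ e * (c ^ t * b) := by
    rw [← mul_assoc, ← pow_add, ← hb]; ring
  rw [ha_eq, γ.dpow_add ha' (I.mul_mem_left _ hd), ← Ideal.Quotient.eq_zero_iff_mem, map_sub,
    sub_eq_zero, map_sum]
  rw [Finset.sum_eq_single (n, 0)]
  · rw [γ.dpow_zero (I.mul_mem_left _ hd), mul_one]
  · intro k hk hne
    have hk2 : k.2 ≠ 0 := by
      intro h0
      apply hne
      have hk' := Finset.HasAntidiagonal.mem_antidiagonal.mp hk
      ext
      · simp only; omega
      · simp only; omega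
    rw [Ideal.Quotient.eq_zero_iff_mem, γ.dpow_mul hd]
    apply Ideal.mul_mem_left
    apply Ideal.mul_mem_right
    obtain ⟨j, hj⟩ := Nat.exists_eq_succ_of_ne_zero hk2
    rw [hj, pow_succ']
    exact Ideal.mul_mem_right _ _ (Ideal.pow_mem_pow (Ideal.mem_span_singleton_self c) e)
  · intro h
    exact absurd (by simp) h

local notation "J" => (Ideal.span (singleton c : Set A))
local notation "Â" => AdicCompletion (Ideal.span (singleton c : Set A)) A

theorem factor_evalₐ {m n : ℕ} (hmn : m ≤ n) (x : Â) :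
    Ideal.Quotient.factor (Ideal.pow_le_pow_right hmn) (AdicCompletion.evalₐ J n x) =
      AdicCompletion.evalₐ J m x := by
  obtain ⟨s, rfl⟩ := AdicCompletion.mk_surjective J A x
  rw [AdicCompletion.evalₐ_mk, AdicCompletion.evalₐ_mk, Ideal.Quotient.factor_mk]
  exact AdicCompletion.Ideal.mk_eq_mk J hmn s

theorem lift_congr {m n : ℕ} (hmn : m ≤ n) {x : Â} {a : A}
    (h : Ideal.Quotient.mk (J ^ n) a = AdicCompletion.evalₐ J n x) :
    Ideal.Quotient.mk (J ^ m) a = AdicCompletion.evalₐ J m x := by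
  rw [← factor_evalₐ c hmn, ← h, Ideal.Quotient.factor_mk]

/-- the kernel ideal -/
noncomputable abbrev K : Ideal Â :=
  RingHom.ker ((Ideal.Quotient.factor ht).comp (AdicCompletion.evalₐ J t).toRingHom)

theorem mem_K_iff (x : Â) :
    x ∈ K c t ht ↔ Ideal.Quotient.factor ht (AdicCompletion.evalₐ J t x) = 0 := by
  rw [RingHom.mem_ker]; rfl

theorem mem_of_lift {x : Â} (hx : x ∈ K c t ht) {e : ℕ} (he : t ≤ e) {a : A}
    (h : Ideal.Quotient.mk (J ^ e) a = AdicCompletion.evalₐ J e x) : a ∈ I := by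
  rw [mem_K_iff, ← lift_congr c he h, Ideal.Quotient.factor_mk,
    Ideal.Quotient.eq_zero_iff_mem] at hx
  exact hx

theorem lift_mem_K {x : Â} {a : A} (ha : a ∈ I)
    (h : Ideal.Quotient.mk (J ^ t) a = AdicCompletion.evalₐ J t x) : x ∈ K c t ht := by
  rw [mem_K_iff, ← h, Ideal.Quotient.factor_mk, Ideal.Quotient.eq_zero_iff_mem]
  exact ha

/-- a chosen lift -/
noncomputable def liftAt (x : Â) (e : ℕ) : A :=
  (Ideal.Quotient.mk_surjective (AdicCompletion.evalₐ J e x)).choose

theorem mk_liftAt (x : Â) (e : ℕ) :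
    Ideal.Quotient.mk (J ^ e) (liftAt c x e) = AdicCompletion.evalₐ J e x :=
  (Ideal.Quotient.mk_surjective (AdicCompletion.evalₐ J e x)).choose_spec

theorem dpow_lift_congr {x : Â} (hx : x ∈ K c t ht) (e n : ℕ) {a a' : A}
    (h : Ideal.Quotient.mk (J ^ (e + t)) a = AdicCompletion.evalₐ J (e + t) x)
    (h' : Ideal.Quotient.mk (J ^ (e + t)) a' = AdicCompletion.evalₐ J (e + t) x) :
    Ideal.Quotient.mk (J ^ e) (γ.dpow n a) = Ideal.Quotient.mk (J ^ e) (γ.dpow n a') := by
  rw [Ideal.Quotient.eq]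
  refine dpow_sub_mem γ c t ht (mem_of_lift c t ht hx (Nat.le_add_left t e) h)
    (mem_of_lift c t ht hx (Nat.le_add_left t e) h') e n ?_
  rw [← Ideal.Quotient.eq, h, h']

theorem cauchy {x : Â} (hx : x ∈ K c t ht) (n : ℕ) (e : ℕ) :
    γ.dpow n (liftAt c x (e + t)) ≡ γ.dpow n (liftAt c x (e + 1 + t))
      [SMOD (J ^ e • ⊤ : Submodule A A)] := by
  rw [SModEq.sub_mem, smul_eq_mul, Ideal.mul_top, ← Ideal.Quotient.eq]
  refine dpow_lift_congr γ c t ht hx e n (mk_liftAt c x _) ?_
  exact lift_congr c (by omega) (mk_liftAt c x (e + 1 + t))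

open Classical in
/-- the divided power operations on the completion -/
noncomputable def dp (n : ℕ) (x : Â) : Â :=
  if hx : x ∈ K c t ht then
    AdicCompletion.mk J A (AdicCompletion.AdicCauchySequence.mk J A
      (fun e => γ.dpow n (liftAt c x (e + t))) (cauchy γ c t ht hx n))
  else 0

theorem dp_null {n : ℕ} {x : Â} (hx : x ∉ K c t ht) : dp γ c t ht n x = 0 := by
  rw [dp, dif_neg hx]

/-- the characterisation of `dp` on lifts -/
theorem evalₐ_dp {x : Â} (hx : x ∈ K c t ht) (n e : ℕ) {a : A}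
    (h : Ideal.Quotient.mk (J ^ (e + t)) a = AdicCompletion.evalₐ J (e + t) x) :
    AdicCompletion.evalₐ J e (dp γ c t ht n x) = Ideal.Quotient.mk (J ^ e) (γ.dpow n a) := by
  rw [dp, dif_pos hx, AdicCompletion.evalₐ_mk]
  exact dpow_lift_congr γ c t ht hx e n (mk_liftAt c x _) h

theorem dp_mem {n : ℕ} {x : Â} (hn : n ≠ 0) (hx : x ∈ K c t ht) : dp γ c t ht n x ∈ K c t ht := by
  have h := evalₐ_dp γ c t ht hx n t (mk_liftAt c x (t + t))
  exact lift_mem_K c t ht
    (γ.dpow_mem hn (mem_of_lift c t ht hx (Nat.le_add_left t t) (mk_liftAt c x (t + t)))) h.symm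

/-- the divided power structure -/
noncomputable def dividedPowers : DividedPowers (K c t ht) where
  dpow := dp γ c t ht
  dpow_null hx := dp_null γ c t ht hx
  dpow_zero {x} hx := by
    refine AdicCompletion.ext_evalₐ fun e => ?_
    rw [evalₐ_dp γ c t ht hx 0 e (mk_liftAt c x _),
      γ.dpow_zero (mem_of_lift c t ht hx (Nat.le_add_left t e) (mk_liftAt c x _)), map_one, map_one]
  dpow_one {x} hx := by
    refine AdicCompletion.ext_evalₐ fun e => ?_
    rw [evalₐ_dp γ c t ht hx 1 e (mk_liftAt c x _),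
      γ.dpow_one (mem_of_lift c t ht hx (Nat.le_add_left t e) (mk_liftAt c x _))]
    exact lift_congr c (Nat.le_add_right e t) (mk_liftAt c x _)
  dpow_mem hn hx := dp_mem γ c t ht hn hx
  dpow_add {n x y} hx hy := by
    refine AdicCompletion.ext_evalₐ fun e => ?_
    have hxa := mk_liftAt c x (e + t)
    have hya := mk_liftAt c y (e + t)
    have hxy : Ideal.Quotient.mk (J ^ (e + t)) (liftAt c x (e + t) + liftAt c y (e + t)) =
        AdicCompletion.evalₐ J (e + t) (x + y) := by
      rw [map_add, map_add, hxa, hya]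
    rw [evalₐ_dp γ c t ht ((K c t ht).add_mem hx hy) n e hxy,
      γ.dpow_add (mem_of_lift c t ht hx (Nat.le_add_left t e) hxa)
        (mem_of_lift c t ht hy (Nat.le_add_left t e) hya), map_sum, map_sum]
    refine Finset.sum_congr rfl fun k _ => ?_
    rw [map_mul, map_mul, evalₐ_dp γ c t ht hx k.1 e hxa, evalₐ_dp γ c t ht hy k.2 e hya]
  dpow_mul {n a x} hx := by
    refine AdicCompletion.ext_evalₐ fun e => ?_
    have hxa := mk_liftAt c x (e + t)
    have haa := mk_liftAt c a (e + t)
    have hax : Ideal.Quotient.mk (J ^ (e + t)) (liftAt c a (e + t) * liftAt c x (e + t)) =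
        AdicCompletion.evalₐ J (e + t) (a * x) := by
      rw [map_mul, map_mul, hxa, haa]
    rw [evalₐ_dp γ c t ht ((K c t ht).mul_mem_left a hx) n e hax,
      γ.dpow_mul (mem_of_lift c t ht hx (Nat.le_add_left t e) hxa), map_mul, map_mul, map_pow,
      map_pow, evalₐ_dp γ c t ht hx n e hxa, lift_congr c (Nat.le_add_right e t) haa]
  mul_dpow {m n x} hx := by
    refine AdicCompletion.ext_evalₐ fun e => ?_
    have hxa := mk_liftAt c x (e + t)
    rw [map_mul, map_mul, map_natCast, evalₐ_dp γ c t ht hx m e hxa,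
      evalₐ_dp γ c t ht hx n e hxa, evalₐ_dp γ c t ht hx (m + n) e hxa, ← map_mul,
      γ.mul_dpow (mem_of_lift c t ht hx (Nat.le_add_left t e) hxa), map_mul, map_natCast]
  dpow_comp {m n x} hn hx := by
    refine AdicCompletion.ext_evalₐ fun e => ?_
    have hxa := mk_liftAt c x (e + t + t)
    have haI : liftAt c x (e + t + t) ∈ I :=
      mem_of_lift c t ht hx (Nat.le_add_left t (e + t)) hxa
    have h1 := evalₐ_dp γ c t ht hx n (e + t) hxa
    rw [evalₐ_dp γ c t ht (dp_mem γ c t ht hn hx) m e h1.symm, γ.dpow_comp hn haI, map_mul,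
      map_mul, map_natCast, map_natCast,
      evalₐ_dp γ c t ht hx (m * n) e (lift_congr c (Nat.le_add_right (e + t) t) hxa)]

theorem dividedPowers_dpow (n : ℕ) (x : Â) :
    (dividedPowers γ c t ht).dpow n x = dp γ c t ht n x := rfl

theorem isDPMorphism :
    γ.IsDPMorphism (dividedPowers γ c t ht) (algebraMap A Â) := by
  have hof : ∀ (a : A) (e : ℕ),
      Ideal.Quotient.mk (J ^ e) a = AdicCompletion.evalₐ J e (algebraMap A Â a) := by
    intro a e
    rw [AlgHom.commutes]; rfl
  have hK : ∀ a ∈ I, algebraMap A Â a ∈ K c t ht := fun a ha =>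
    lift_mem_K c t ht ha (hof a t)
  refine ⟨?_, ?_⟩
  · rw [Ideal.map_le_iff_le_comap]
    intro a ha
    exact hK a ha
  · intro n a ha
    refine AdicCompletion.ext_evalₐ fun e => ?_
    rw [dividedPowers_dpow, evalₐ_dp γ c t ht (hK a ha) n e (hof a (e + t)), hof]

theorem surjective_proj :
    Function.Surjective ((Ideal.Quotient.factor ht).comp
      (AdicCompletion.evalₐ J t).toRingHom) := by
  intro y
  obtain ⟨z, rfl⟩ := Ideal.Quotient.factor_surjective ht y
  obtain ⟨x, rfl⟩ := AdicCompletion.surjective_evalₐ J t z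
  exact ⟨x, rfl⟩

end Groth.Agent.Lib.Seat86.DPCompl
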