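import Mathlib
import Groth.Agent.Lib.Seat86RegPrefix

/-!
# Regular sequences congruent to given elements modulo the square of an ideal

* `exists_regular_coset_sq`: if `J` has positive grade on `T/(bs)`, every coset `a + J²` contains an
  element regular on `T/(bs)`.
* `exists_weaklyRegular_cong_sq`: if `J` has grade `j`, every list `gs` of at most `j` elements of
  `J` can be corrected elementwise by elements of `J * J` to a weakly regular sequence.
-/

set_option autoImplicit false
universe u

namespace Groth.Agent.Lib.Seat86.DSeqA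

open RingTheory.Sequence Groth.Agent.Lib.Helper28 Groth.Agent.Lib.Seat86.RegPrefix

variable {T : Type u} [CommRing T] [IsNoetherianRing T]

/-- a regular element in the coset `a + J * J` modulo `bs` -/
lemma exists_regular_coset_sq (J : Ideal T) (hJ : J ≠ ⊤) (bs : List T) (hmem : ∀ r ∈ bs, r ∈ J)
    (hdepth : 1 ≤ LocCoh.idealDepth J (T ⧸ (Ideal.ofList bs • ⊤ : Submodule T T))) (a : T) :
    ∃ y ∈ J * J, IsSMulRegular (T ⧸ (Ideal.ofList bs • ⊤ : Submodule T T)) (a + y) := by
  classical
  have hIM := smul_top_quot_ofList_ne_top J (M := T) hmem (smul_top_ne_top hJ)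
  obtain ⟨x, hxJ, hxreg⟩ := (one_le_idealDepth_iff hIM).mp hdepth
  set Mb := T ⧸ (Ideal.ofList bs • ⊤ : Submodule T T) with hMb
  have hfin : (associatedPrimes T Mb).Finite := associatedPrimes.finite T Mb
  have hregular : ∀ r : T, (∀ p ∈ associatedPrimes T Mb, r ∉ p) → IsSMulRegular Mb r := by
    intro r hr
    rw [isSMulRegular_iff_right_eq_zero_of_smul]
    intro m hm
    by_contra hm0
    have : r ∈ ⋃ p ∈ associatedPrimes T Mb, (p : Set T) := by
      rw [biUnion_associatedPrimes_eq_zero_divisors]
      exact ⟨m, hm0, hm⟩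
    obtain ⟨p, hp, hrp⟩ := Set.mem_iUnion₂.mp this
    exact hr p hp hrp
  have hxnot : ∀ p ∈ associatedPrimes T Mb, x ∉ p := by
    intro p hp hxp
    have : x ∈ ⋃ p ∈ associatedPrimes T Mb, (p : Set T) := Set.mem_iUnion₂.mpr ⟨p, hp, hxp⟩
    rw [biUnion_associatedPrimes_eq_zero_divisors] at this
    obtain ⟨m, hm0, hm⟩ := this
    exact hm0 ((isSMulRegular_iff_right_eq_zero_of_smul.mp hxreg) m hm)
  obtain ⟨y, hyI, hy⟩ := exists_add_notMem (J * J) hfin.toFinset
    (fun p hp => (hfin.mem_toFinset.mp hp).isPrime) a (by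
      intro p hp hle _
      have hp' := hfin.mem_toFinset.mp hp
      have hpp : p.IsPrime := hp'.isPrime
      have hxx : x * x ∈ p := hle (Ideal.mul_mem_mul hxJ hxJ)
      rcases hpp.mem_or_mem hxx with h | h <;> exact hxnot p hp' h)
  exact ⟨y, hyI, hregular _ (fun p hp => hy p (hfin.mem_toFinset.mpr hp))⟩

/-- correcting a list of at most `grade J` elements of `J` modulo `J * J` to a regular sequence -/
theorem exists_weaklyRegular_cong_sq (J : Ideal T) (hJ : J ≠ ⊤) (j : ℕ)
    (hj : LocCoh.idealDepth J T = j) :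
    ∀ gs : List T, (∀ g ∈ gs, g ∈ J) → gs.length ≤ j →
      ∃ ts : List T, ts.length = gs.length ∧ (∀ g ∈ gs, ∃ t ∈ ts, t - g ∈ J * J) ∧
        (∀ t ∈ ts, t ∈ J) ∧ IsWeaklyRegular T ts := by
  intro gs
  induction gs using List.reverseRecOn with
  | nil =>
    intro _ _
    exact ⟨[], rfl, by simp, by simp, IsWeaklyRegular.nil T T⟩
  | append_singleton gs g ih =>
    intro hmemg hlen
    rw [List.length_append, List.length_singleton] at hlen
    obtain ⟨ts, htl, hcong, hmem, hreg⟩ :=
      ih (fun x hx => hmemg x (List.mem_append_left _ hx)) (by omega)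
    have hIM : J • (⊤ : Submodule T T) ≠ ⊤ := smul_top_ne_top hJ
    have hd := idealDepth_quot_ofList_add_length J T hIM ts hmem hreg
    rw [hj, htl] at hd
    have hdepth : 1 ≤ LocCoh.idealDepth J (T ⧸ (Ideal.ofList ts • ⊤ : Submodule T T)) := by
      rw [Order.one_le_iff_ne_zero]
      intro h0
      rw [h0, zero_add] at hd
      have : gs.length = j := by exact_mod_cast hd
      omega
    obtain ⟨y, hy, hyreg⟩ := exists_regular_coset_sq J hJ ts hmem hdepth g
    have hgJ : g ∈ J := hmemg g (List.mem_append_right _ (List.mem_singleton_self g))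
    refine ⟨ts ++ [g + y], by simp [htl], ?_, ?_, ?_⟩
    · intro x hx
      rcases List.mem_append.mp hx with hx | hx
      · obtain ⟨t, ht, htx⟩ := hcong x hx
        exact ⟨t, List.mem_append_left _ ht, htx⟩
      · rw [List.mem_singleton] at hx
        subst hx
        refine ⟨x + y, List.mem_append_right _ (List.mem_singleton_self _), ?_⟩
        rwa [add_sub_cancel_left]
    · intro t ht
      rcases List.mem_append.mp ht with ht | ht
      · exact hmem t ht
      · rw [List.mem_singleton] at ht
        subst ht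
        exact J.add_mem hgJ (Ideal.mul_le_right hy)
    · rw [isWeaklyRegular_append_iff]
      exact ⟨hreg, (isWeaklyRegular_singleton_iff _ _).mpr hyreg⟩

end Groth.Agent.Lib.Seat86.DSeqA
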