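import Mathlib

/-!
# The cotangent space of `T_p` and generators of `p` up to localization

For a prime `p` of `T` we send `x ∈ p` to its class `cotVec p x` in the cotangent space
`pT_p/p²T_p` of the local ring `T_p` (and `x ∉ p` to `0`).

* `span_cotVec_image_eq_top_iff`: the classes of `A ⊆ p` span the cotangent space iff `A` generates
  `pT_p`.
* `exists_smul_mem_of_span_cotVec_eq_top`: in that case every `z ∈ p` has a multiple `s z`, `s ∉ p`,
  in the ideal generated by `A`.
* `exists_erase_span_cotVec_eq_top`: a finite generating set of `p` with more elements than the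
  dimension of the cotangent space has a member whose removal still spans the cotangent space.
-/

set_option autoImplicit false
universe u

namespace Groth.Agent.Lib.Seat86.DSeqB

open IsLocalRing

variable {T : Type u} [CommRing T] (p : Ideal T) [p.IsPrime]

/-- the class of `x ∈ p` in the cotangent space of `T_p` (zero for `x ∉ p`) -/
noncomputable def cotVec (x : T) : CotangentSpace (Localization.AtPrime p) := by
  classical
  exact if hx : x ∈ p then
    (maximalIdeal (Localization.AtPrime p)).toCotangent
      ⟨algebraMap T (Localization.AtPrime p) x,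
        (IsLocalization.AtPrime.to_map_mem_maximal_iff (Localization.AtPrime p) p x).mpr hx⟩
  else 0

lemma cotVec_of_mem {x : T} (hx : x ∈ p) :
    cotVec p x = (maximalIdeal (Localization.AtPrime p)).toCotangent
      ⟨algebraMap T (Localization.AtPrime p) x,
        (IsLocalization.AtPrime.to_map_mem_maximal_iff (Localization.AtPrime p) p x).mpr hx⟩ := by
  unfold cotVec
  rw [dif_pos hx]

/-- congruent elements modulo `p * p` have the same class -/
lemma cotVec_eq_of_sub_mem {x y : T} (hx : x ∈ p) (hy : y ∈ p) (hxy : x - y ∈ p * p) :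
    cotVec p x = cotVec p y := by
  rw [cotVec_of_mem p hx, cotVec_of_mem p hy, Ideal.toCotangent_eq]
  simp only
  rw [← map_sub, pow_two, ← IsLocalization.AtPrime.map_eq_maximalIdeal p (Localization.AtPrime p),
    ← Ideal.map_mul]
  exact Ideal.mem_map_of_mem _ hxy

/-- the lifts to the maximal ideal of `T_p` of the images of `A` -/
def liftSet (A : Set T) : Set (maximalIdeal (Localization.AtPrime p)) :=
  {w | ∃ x ∈ A, algebraMap T (Localization.AtPrime p) x = (w : Localization.AtPrime p)}

lemma toCotangent_image_liftSet {A : Set T} (hA : ∀ x ∈ A, x ∈ p) :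
    (maximalIdeal (Localization.AtPrime p)).toCotangent '' liftSet p A = cotVec p '' A := by
  ext v
  constructor
  · rintro ⟨w, ⟨x, hxA, hxw⟩, rfl⟩
    refine ⟨x, hxA, ?_⟩
    rw [cotVec_of_mem p (hA x hxA)]
    congr 1
    exact Subtype.ext hxw
  · rintro ⟨x, hxA, rfl⟩
    rw [cotVec_of_mem p (hA x hxA)]
    exact ⟨_, ⟨x, hxA, rfl⟩, rfl⟩

lemma val_image_liftSet {A : Set T} (hA : ∀ x ∈ A, x ∈ p) :
    Subtype.val '' liftSet p A = algebraMap T (Localization.AtPrime p) '' A := by
  ext r
  constructor
  · rintro ⟨w, ⟨x, hxA, hxw⟩, rfl⟩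
    exact ⟨x, hxA, hxw⟩
  · rintro ⟨x, hxA, rfl⟩
    exact ⟨⟨_, (IsLocalization.AtPrime.to_map_mem_maximal_iff (Localization.AtPrime p) p x).mpr
      (hA x hxA)⟩, ⟨x, hxA, rfl⟩, rfl⟩

variable [IsNoetherianRing T]

/-- the classes of `A ⊆ p` span the cotangent space of `T_p` iff `A` generates `pT_p` -/
theorem span_cotVec_image_eq_top_iff {A : Set T} (hA : ∀ x ∈ A, x ∈ p) :
    Submodule.span (ResidueField (Localization.AtPrime p)) (cotVec p '' A) = ⊤ ↔
      Ideal.map (algebraMap T (Localization.AtPrime p)) (Ideal.span A) =
        maximalIdeal (Localization.AtPrime p) := by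
  have hN : IsNoetherianRing (Localization.AtPrime p) :=
    IsLocalization.isNoetherianRing p.primeCompl _ inferInstance
  rw [← toCotangent_image_liftSet p hA, CotangentSpace.span_image_eq_top_iff,
    ← (Submodule.map_injective_of_injective
      (Submodule.injective_subtype (maximalIdeal (Localization.AtPrime p)))).eq_iff,
    Submodule.map_span, Submodule.map_top, Submodule.range_subtype, Ideal.map_span]
  have : (⇑(Submodule.subtype (maximalIdeal (Localization.AtPrime p))) '' liftSet p A) =
      algebraMap T (Localization.AtPrime p) '' A := val_image_liftSet p hA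
  rw [this]

/-- if the classes of `A ⊆ p` span the cotangent space of `T_p`, then every element of `p` has a
multiple by an element outside `p` in the ideal generated by `A` -/
theorem exists_smul_mem_of_span_cotVec_eq_top {A : Set T} (hA : ∀ x ∈ A, x ∈ p)
    (hspan : Submodule.span (ResidueField (Localization.AtPrime p)) (cotVec p '' A) = ⊤)
    {z : T} (hz : z ∈ p) : ∃ s : T, s ∉ p ∧ s * z ∈ Ideal.span A := by
  have h1 := (span_cotVec_image_eq_top_iff p hA).mp hspan
  have h2 : algebraMap T (Localization.AtPrime p) z ∈
      Ideal.map (algebraMap T (Localization.AtPrime p)) (Ideal.span A) := by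
    rw [h1]
    exact (IsLocalization.AtPrime.to_map_mem_maximal_iff (Localization.AtPrime p) p z).mpr hz
  rw [IsLocalization.mem_map_algebraMap_iff p.primeCompl] at h2
  obtain ⟨⟨⟨a, ha⟩, s⟩, hs⟩ := h2
  simp only at hs
  rw [← map_mul, IsLocalization.eq_iff_exists p.primeCompl] at hs
  obtain ⟨c, hc⟩ := hs
  refine ⟨c * s, p.primeCompl.mul_mem c.2 s.2, ?_⟩
  have : (c : T) * (s : T) * z = c * a := by
    rw [← hc]; ring
  rw [this]
  exact Ideal.mul_mem_left _ _ ha

/-- a finite generating set of `p` with more elements than the dimension of the cotangent space of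
`T_p` has a member whose removal still spans the cotangent space -/
theorem exists_erase_span_cotVec_eq_top [DecidableEq T] (s : Finset T)
    (hspan : Ideal.span (s : Set T) = p)
    (hcard : Module.finrank (ResidueField (Localization.AtPrime p))
      (CotangentSpace (Localization.AtPrime p)) < s.card) :
    ∃ j ∈ s, Submodule.span (ResidueField (Localization.AtPrime p))
      (cotVec p '' ((s.erase j : Finset T) : Set T)) = ⊤ := by
  have hN : IsNoetherianRing (Localization.AtPrime p) :=
    IsLocalization.isNoetherianRing p.primeCompl _ inferInstance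
  have hs : ∀ x ∈ (s : Set T), x ∈ p := by
    intro x hx
    rw [← hspan]
    exact Ideal.subset_span hx
  have htop : Submodule.span (ResidueField (Localization.AtPrime p)) (cotVec p '' (s : Set T)) = ⊤ := by
    rw [span_cotVec_image_eq_top_iff p hs, hspan]
    exact IsLocalization.AtPrime.map_eq_maximalIdeal p (Localization.AtPrime p)
  let v : s → CotangentSpace (Localization.AtPrime p) := fun i => cotVec p (i : T)
  have hli : ¬ LinearIndependent (ResidueField (Localization.AtPrime p)) v := by
    intro h
    have := h.fintype_card_le_finrank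
    rw [Fintype.card_coe] at this
    omega
  rw [linearIndependent_iff_notMem_span] at hli
  push Not at hli
  obtain ⟨j, hj⟩ := hli
  refine ⟨j, j.2, ?_⟩
  rw [eq_top_iff, ← htop, Submodule.span_le]
  rintro _ ⟨x, hx, rfl⟩
  have himg : v '' (Set.univ \ {j}) ⊆ cotVec p '' ((s.erase j : Finset T) : Set T) := by
    rintro _ ⟨i, hi, rfl⟩
    refine ⟨i, ?_, rfl⟩
    rw [Finset.mem_coe, Finset.mem_erase]
    refine ⟨fun h => hi.2 (Subtype.ext h), i.2⟩
  by_cases hxj : x = j
  · subst hxj
    exact Submodule.span_mono himg hj
  · apply Submodule.subset_span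
    exact ⟨x, by rw [Finset.mem_coe, Finset.mem_erase]; exact ⟨hxj, hx⟩, rfl⟩

end Groth.Agent.Lib.Seat86.DSeqB
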