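import Mathlib
import Groth.Prelude.Def_W4c5grrsingularflatDSeq

/-!
# Assembling a d-sequence from a minimal generating list with a regular prefix

* `colon_mul_eq_of_isSMulRegular`: `(I : a b) = (I : a)` when `b` is regular modulo `I`.
* `notMem_span_others`: no member of a generating list of minimal length lies in the ideal of the
  others.
* `isDSeq_of_regular_prefix`: a generating list of minimal length `≤ m + 1` whose first `m` members
  form a weakly regular sequence and whose last member `g` satisfies `(I : g²) = (I : g)` for the
  ideal `I` of the first `m` members is a d-sequence.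
-/

set_option autoImplicit false
universe u

namespace Groth.Agent.Lib.Seat86.DSeqC

open RingTheory.Sequence

variable {T : Type u} [CommRing T]

lemma mem_smul_top_iff (I : Ideal T) (x : T) : x ∈ (I • ⊤ : Submodule T T) ↔ x ∈ I := by
  rw [smul_eq_mul, Ideal.mul_top]

/-- `(I : a b) = (I : a)` when `b` is regular modulo `I` -/
lemma colon_mul_eq_of_isSMulRegular (I : Ideal T) (a b : T)
    (hb : IsSMulRegular (T ⧸ (I • ⊤ : Submodule T T)) b) :
    I.colon {a * b} = I.colon {a} := by
  ext x
  rw [Submodule.mem_colon_singleton, Submodule.mem_colon_singleton, smul_eq_mul, smul_eq_mul]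
  constructor
  · intro h
    have h1 : b • (Submodule.Quotient.mk (x * a) : T ⧸ (I • ⊤ : Submodule T T)) = 0 := by
      rw [← Submodule.Quotient.mk_smul, Submodule.Quotient.mk_eq_zero, mem_smul_top_iff]
      have : b • (x * a) = x * (a * b) := by rw [smul_eq_mul]; ring
      rw [this]
      exact h
    have h2 := (isSMulRegular_iff_right_eq_zero_of_smul.mp hb) _ h1
    rwa [Submodule.Quotient.mk_eq_zero, mem_smul_top_iff] at h2
  · intro h
    have : x * (a * b) = b * (x * a) := by ring
    rw [this]
    exact I.mul_mem_left _ h

/-- no member of a generating list of minimal length lies in the ideal of the others -/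
lemma notMem_span_others (rs : List T) (hlen : rs.length = (Ideal.ofList rs).spanFinrank)
    (i : Fin rs.length) :
    rs[i] ∉ Ideal.span
      (Set.range fun j : {j : Fin rs.length // j ≠ i} => rs[(j : Fin rs.length)]) := by
  intro hmem
  set S := Set.range fun j : {j : Fin rs.length // j ≠ i} => rs[(j : Fin rs.length)] with hS
  have hle : Ideal.ofList rs ≤ Ideal.span S := by
    rw [Ideal.ofList, Ideal.span_le]
    intro x hx
    obtain ⟨k, hk, rfl⟩ := List.getElem_of_mem hx
    by_cases hki : (⟨k, hk⟩ : Fin rs.length) = i
    · subst hki
      exact hmem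
    · exact Ideal.subset_span ⟨⟨⟨k, hk⟩, hki⟩, rfl⟩
  have hge : Ideal.span S ≤ Ideal.ofList rs := by
    rw [Ideal.span_le]
    rintro _ ⟨j, rfl⟩
    exact Ideal.subset_span (List.getElem_mem _)
  have heq : Ideal.ofList rs = Ideal.span S := le_antisymm hle hge
  have hfin : S.Finite := Set.finite_range _
  have h1 : (Ideal.span S).spanFinrank ≤ S.ncard :=
    Submodule.spanFinrank_span_le_ncard_of_finite hfin
  have h2 : S.ncard ≤ Nat.card {j : Fin rs.length // j ≠ i} := by
    rw [hS, ← Set.image_univ]
    refine le_trans (Set.ncard_image_le Set.finite_univ) ?_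
    rw [Set.ncard_univ]
  have h3 : Nat.card {j : Fin rs.length // j ≠ i} = rs.length - 1 := by
    rw [Nat.card_eq_fintype_card, Fintype.card_subtype_compl, Fintype.card_fin]
    simp
  have hpos : 0 < rs.length := i.pos
  rw [← heq, ← hlen] at h1
  omega

/-- a generating list of minimal length `≤ m + 1` whose first `m` members form a weakly regular
sequence and whose last member `g` satisfies `(I : g²) = (I : g)` for the ideal `I` of the first `m`
members is a d-sequence -/
theorem isDSeq_of_regular_prefix (rs : List T)
    (hlen : rs.length = (Ideal.ofList rs).spanFinrank)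
    (m : ℕ) (hm : rs.length ≤ m + 1) (hreg : IsWeaklyRegular T (rs.take m))
    (hlast : ∀ (h : m < rs.length), (Ideal.ofList (rs.take m)).colon {rs[m] * rs[m]} =
      (Ideal.ofList (rs.take m)).colon {rs[m]}) :
    W4c5grrsingularflat.IsDSeq rs := by
  refine ⟨notMem_span_others rs hlen, ?_⟩
  intro i k hk hik
  by_cases him : i < m
  · have h1 := hreg.regular_mod_prev i (by rw [List.length_take]; omega)
    rw [List.take_take, min_eq_left him.le, List.getElem_take] at h1
    exact colon_mul_eq_of_isSMulRegular _ _ _ h1
  · have hi : i = m := by omega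
    have hk' : k = m := by omega
    subst hi
    subst hk'
    exact hlast hk

end Groth.Agent.Lib.Seat86.DSeqC
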