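import Mathlib
import Groth.Agent.Lib.Seat86DSeqA
import Groth.Agent.Lib.Seat86DSeqB
import Groth.Agent.Lib.Seat86DSeqC
import Groth.Agent.Lib.Helper28Unmixed
import Groth.Agent.Lib.Helper28CMFib1
import Groth.Agent.Lib.Helper28DepthMore

/-!
# A prime of a Cohen–Macaulay local ring with `μ(p) ≤ ht p + 1` and `T_p` regular is generated by a
d-sequence (Huneke)
-/

set_option autoImplicit false
universe u

namespace Groth.Agent.Lib.Seat86.DSeq

open RingTheory.Sequence Groth.Agent.Lib.Helper28 IsLocalRing
open Groth.Agent.Lib.Seat86.DSeqA Groth.Agent.Lib.Seat86.DSeqB Groth.Agent.Lib.Seat86.DSeqC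

variable {T : Type u} [CommRing T]

/-- `(I : g²) = (I : g)` when `(I, g) = p` is prime, all associated primes of `I` have the height of
`p`, and `g` lies in `I T_p`. -/
lemma colon_sq_eq_of_unmixed [IsNoetherianRing T] (p : Ideal T) [p.IsPrime] (ts : List T) (g : T)
    (hgen : Ideal.ofList (ts ++ [g]) = p)
    (hunm : ∀ P ∈ associatedPrimes T (T ⧸ (Ideal.ofList ts • ⊤ : Submodule T T)),
      P.height = p.height)
    (hloc : ∃ s, s ∉ p ∧ s * g ∈ Ideal.ofList ts) :
    (Ideal.ofList ts).colon {g * g} = (Ideal.ofList ts).colon {g} := by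
  obtain ⟨s, hsp, hsg⟩ := hloc
  ext x
  rw [Submodule.mem_colon_singleton, Submodule.mem_colon_singleton, smul_eq_mul, smul_eq_mul]
  constructor
  · intro h
    by_contra hx
    set I := Ideal.ofList ts with hI
    set y : T ⧸ (I • ⊤ : Submodule T T) := Submodule.Quotient.mk (x * g) with hy
    have hy0 : y ≠ 0 := by
      rw [hy, Ne, Submodule.Quotient.mk_eq_zero, mem_smul_top_iff]
      exact hx
    obtain ⟨P, hP, hle⟩ := exists_le_isAssociatedPrime_of_isNoetherianRing T y hy0
    have hPp : P.IsPrime := hP.isPrime
    have hkill : ∀ a : T, a * (x * g) ∈ I → a ∈ P := by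
      intro a ha
      apply hle
      rw [Submodule.mem_colon_singleton, hy, ← Submodule.Quotient.mk_smul, Submodule.mem_bot,
        Submodule.Quotient.mk_eq_zero, mem_smul_top_iff, smul_eq_mul]
      exact ha
    have hgP : g ∈ P := hkill g (by
      have : g * (x * g) = x * (g * g) := by ring
      rw [this]; exact h)
    have hIP : I ≤ P := fun a ha => hkill a (I.mul_mem_right _ ha)
    have hpP : p ≤ P := by
      rw [← hgen, Ideal.ofList_append, Ideal.ofList_singleton]
      exact sup_le hIP ((Ideal.span_singleton_le_iff_mem P).mpr hgP)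
    have hPeq : p = P := by
      by_contra hne
      have hlt : p < P := lt_of_le_of_ne hpP hne
      have := Ideal.height_strict_mono_of_isPrime hlt
      rw [hunm P hP] at this
      exact lt_irrefl _ this
    have hsP : s ∈ P := hkill s (by
      have : s * (x * g) = x * (s * g) := by ring
      rw [this]; exact I.mul_mem_left _ hsg)
    exact hsp (hPeq ▸ hsP)
  · intro h
    have : x * (g * g) = g * (x * g) := by ring
    rw [this]
    exact Ideal.mul_mem_left _ _ h

/-- Nakayama: elements congruent to generators of `p` modulo `p * p` generate `p`. -/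
lemma ofList_eq_of_cong_sq [IsLocalRing T] [IsNoetherianRing T] (p : Ideal T) (hp : p ≠ ⊤)
    (A : Set T) (hA : Ideal.span A = p) (rs : List T) (hrs : ∀ r ∈ rs, r ∈ p)
    (hcong : ∀ x ∈ A, ∃ r ∈ rs, r - x ∈ p * p) : Ideal.ofList rs = p := by
  apply le_antisymm
  · rw [Ideal.ofList, Ideal.span_le]
    exact hrs
  · apply Submodule.le_of_le_smul_of_le_jacobson_bot (I := p) (IsNoetherian.noetherian _)
      ((IsLocalRing.le_maximalIdeal hp).trans
        (IsLocalRing.jacobson_eq_maximalIdeal _ bot_ne_top).ge)
    conv_lhs => rw [← hA]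
    rw [Ideal.span_le]
    intro x hx
    obtain ⟨r, hr, hrx⟩ := hcong x hx
    have : x = r - (r - x) := by ring
    rw [this]
    apply Submodule.sub_mem
    · exact Submodule.mem_sup_left (Ideal.subset_span hr)
    · apply Submodule.mem_sup_right
      rw [smul_eq_mul]
      exact hrx

theorem main [LocCoh.IsCohenMacaulayLocalRing T]
    (p : Ideal T) [p.IsPrime] (hgen : (Submodule.spanFinrank p : ℕ∞) ≤ p.height + 1)
    [IsRegularLocalRing (Localization.AtPrime p)] :
    ∃ ts : List T, Ideal.ofList ts = p ∧ W4c5grrsingularflat.IsDSeq ts := by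
  classical
  have hCM : LocCoh.IsCohenMacaulayRing T :=
    Groth.Agent.Lib.Helper28.CMFib.isCohenMacaulayRing_of_isCohenMacaulayLocalRing T
  have hpne : p ≠ ⊤ := Ideal.IsPrime.ne_top ‹_›
  have hht : p.height ≠ ⊤ := Ideal.height_ne_top hpne
  obtain ⟨h, hh⟩ : ∃ h : ℕ, p.height = h := ⟨p.height.toNat, (ENat.natCast_toNat hht).symm⟩
  have hc1 : (h : ℕ∞) ≤ p.spanFinrank := hh ▸ Ideal.height_le_spanFinrank p hpne
  rw [hh] at hgen
  have hc1' : h ≤ p.spanFinrank := by exact_mod_cast hc1
  have hc2' : p.spanFinrank ≤ h + 1 := by exact_mod_cast hgen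
  have hdepth : LocCoh.idealDepth p T = h := by
    rw [idealDepth_self_eq_height_of_isCohenMacaulayRing hCM p hpne, hh]
  obtain ⟨s, hscard, hsspan⟩ :=
    Submodule.FG.exists_span_finset_card_eq_spanFinrank (IsNoetherian.noetherian p)
  have hsmem : ∀ x ∈ s, x ∈ p := fun x hx => hsspan ▸ Ideal.subset_span hx
  have hpmax : p ≤ maximalIdeal T := IsLocalRing.le_maximalIdeal hpne
  by_cases hc : p.spanFinrank = h
  · -- complete intersection case
    refine ⟨s.toList, ?_, ?_⟩
    · rw [Ideal.ofList, ← hsspan]
      congr 1
      ext x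
      simp
    have hof : Ideal.ofList s.toList = p := by
      rw [Ideal.ofList, ← hsspan]
      congr 1
      ext x
      simp
    have hlen : s.toList.length = h := by rw [Finset.length_toList, hscard, hc]
    have hreg := (isWeaklyRegular_of_length_le_height s.toList
      (fun y hy => hpmax (hsmem y (Finset.mem_toList.mp hy)))
      (by rw [hof, hh, hlen])).1
    apply isDSeq_of_regular_prefix s.toList (by rw [hof, hlen, hc]) h (by omega)
    · rw [List.take_of_length_le (by omega)]
      exact hreg
    · intro hlt
      omega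
  · have hc' : p.spanFinrank = h + 1 := by omega
    -- the dimension of the cotangent space of `T_p`
    have hN : IsNoetherianRing (Localization.AtPrime p) :=
      IsLocalization.isNoetherianRing p.primeCompl _ inferInstance
    have hfr : Module.finrank (ResidueField (Localization.AtPrime p))
        (CotangentSpace (Localization.AtPrime p)) = h := by
      have h1 := IsLocalRing.spanFinrank_maximalIdeal_eq_finrank_cotangentSpace
        (Localization.AtPrime p)
      have h2 : ((maximalIdeal (Localization.AtPrime p)).spanFinrank : WithBot ℕ∞) =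
          ringKrullDim (Localization.AtPrime p) :=
        IsRegularLocalRing.spanFinrank_maximalIdeal
      rw [IsLocalization.AtPrime.ringKrullDim_eq_height p (Localization.AtPrime p), hh] at h2
      rw [← h1]
      exact_mod_cast h2
    obtain ⟨j, hjs, hspanj⟩ := exists_erase_span_cotVec_eq_top p s hsspan
      (by rw [hfr, hscard, hc']; omega)
    set gs := (s.erase j).toList with hgs
    have hgsmem : ∀ g ∈ gs, g ∈ p := fun g hg =>
      hsmem g (Finset.mem_of_mem_erase (Finset.mem_toList.mp hg))
    have hgslen : gs.length = h := by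
      rw [hgs, Finset.length_toList, Finset.card_erase_of_mem hjs, hscard, hc']
      rfl
    obtain ⟨ts, htl, hcong, hmem, hreg⟩ :=
      exists_weaklyRegular_cong_sq p hpne h hdepth gs hgsmem hgslen.le
    rw [hgslen] at htl
    -- the classes of `ts` span the cotangent space
    have hspan_ts : Submodule.span (ResidueField (Localization.AtPrime p))
        (cotVec p '' {t | t ∈ ts}) = ⊤ := by
      rw [eq_top_iff, ← hspanj]
      apply Submodule.span_mono
      rintro _ ⟨x, hx, rfl⟩
      have hxgs : x ∈ gs := Finset.mem_toList.mpr hx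
      obtain ⟨t, ht, htx⟩ := hcong x hxgs
      exact ⟨t, ht, cotVec_eq_of_sub_mem p (hmem t ht) (hgsmem x hxgs) htx⟩
    have hloc : ∃ s', s' ∉ p ∧ s' * j ∈ Ideal.ofList ts :=
      exists_smul_mem_of_span_cotVec_eq_top p (A := {t | t ∈ ts}) hmem hspan_ts (hsmem j hjs)
    -- the list `ts ++ [j]` generates `p`
    have hjp : j ∈ p := hsmem j hjs
    have hrs : Ideal.ofList (ts ++ [j]) = p := by
      apply ofList_eq_of_cong_sq p hpne (s : Set T) hsspan
      · intro r hr
        rcases List.mem_append.mp hr with hr | hr
        · exact hmem r hr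
        · rw [List.mem_singleton] at hr
          exact hr ▸ hjp
      · intro x hx
        by_cases hxj : x = j
        · refine ⟨j, List.mem_append_right _ (List.mem_singleton_self j), ?_⟩
          rw [hxj, sub_self]
          exact Ideal.zero_mem _
        · have hxgs : x ∈ gs :=
            Finset.mem_toList.mpr (Finset.mem_erase.mpr ⟨hxj, Finset.mem_coe.mp hx⟩)
          obtain ⟨t, ht, htx⟩ := hcong x hxgs
          exact ⟨t, List.mem_append_left _ ht, htx⟩
    have htake : (ts ++ [j]).take h = ts := by
      rw [← htl]
      exact List.take_left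
    have hrslen : (ts ++ [j]).length = h + 1 := by
      rw [List.length_append, htl, List.length_singleton]
    refine ⟨ts ++ [j], hrs, ?_⟩
    apply isDSeq_of_regular_prefix (ts ++ [j]) (by rw [hrs, hrslen, hc']) h (by omega)
    · rw [htake]
      exact hreg
    · intro hlt
      have hget : (ts ++ [j])[h] = j := by
        rw [List.getElem_append_right (by omega)]
        simp [htl]
      rw [hget, htake]
      apply colon_sq_eq_of_unmixed p ts j hrs _ hloc
      intro P hP
      have hlen_le : (ts.length : ℕ∞) ≤ (Ideal.ofList ts).height := by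
        have hof_ne : Ideal.ofList ts ≠ ⊤ := by
          intro htop
          have : Ideal.ofList ts ≤ p := ofList_le_of_forall_mem hmem
          rw [htop] at this
          exact hpne (top_le_iff.mp this)
        have hIM : Ideal.ofList ts • (⊤ : Submodule T T) ≠ ⊤ :=
          Groth.Agent.Lib.Seat86.RegPrefix.smul_top_ne_top hof_ne
        have hd := idealDepth_quot_ofList_add_length (Ideal.ofList ts) T hIM ts
          (fun r hr => Ideal.subset_span hr) hreg
        rw [idealDepth_self_eq_height_of_isCohenMacaulayRing hCM _ hof_ne] at hd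
        rw [← hd]
        exact le_add_self
      rw [height_eq_length_of_mem_associatedPrimes_quot_ofList ts hlen_le hP, htl, hh]

end Groth.Agent.Lib.Seat86.DSeq
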