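import Mathlib

/-!
# Ideals of `k[x_1, …, x_n]` stable under the elementary substitutions `x_i ↦ x_i + x_j ^ d` (seat 86)

Algebraic core of the classification of open subsets of affine space invariant under the
automorphisms `x_i ↦ x_i + x_j ^ d`: if `I ≠ 0` is stable under all these substitutions and
`n ≥ 2`, then every point of `V(I)` with values in a field `K` has all its coordinates fixed by a
power of Frobenius (and the characteristic is a prime).
-/

set_option autoImplicit false
set_option linter.style.haveILetI false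
set_option linter.unusedSectionVars false

namespace Groth.Agent.Lib.Seat86.ElemAut

open MvPolynomial

variable {k : Type*} [Field k] {n : ℕ}

/-- stability of an ideal under the substitutions `x_i ↦ x_i + x_j ^ d` -/
def Inv (I : Ideal (MvPolynomial (Fin n) k)) : Prop :=
  ∀ i j : Fin n, i ≠ j → ∀ d : ℕ, ∀ f ∈ I,
    aeval (R := k) (Function.update (X : Fin n → MvPolynomial (Fin n) k) i (X i + X j ^ d)) f ∈ I

/-- `K`-points of `V(I)` -/
def Pts (I : Ideal (MvPolynomial (Fin n) k)) (K : Type*) [Field K] [Algebra k K] :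
    Set (Fin n → K) :=
  {c | ∀ f ∈ I, aeval c f = 0}

variable {K : Type*} [Field K] [Algebra k K]

/-- the additive monoid generated by the powers of `s` -/
abbrev Tr (s : K) : AddSubmonoid K := AddSubmonoid.closure (Set.range fun d : ℕ => s ^ d)

/-- `s` has infinitely many translation amounts -/
def Wild (s : K) : Prop := (Tr s : Set K).Infinite

variable {I : Ideal (MvPolynomial (Fin n) k)}

theorem pts_move (hI : Inv I) {c : Fin n → K} (hc : c ∈ Pts I K) {i j : Fin n} (hij : i ≠ j)
    (d : ℕ) : Function.update c i (c i + c j ^ d) ∈ Pts I K := by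
  intro f hf
  have h1 := hc _ (hI i j hij d f hf)
  rw [MvPolynomial.comp_aeval_apply] at h1
  have e : (fun l => aeval c (Function.update (X : Fin n → MvPolynomial (Fin n) k) i
      (X i + X j ^ d) l)) = Function.update c i (c i + c j ^ d) := by
    funext l
    by_cases hl : l = i
    · subst hl
      simp [Function.update_self]
    · simp [Function.update_of_ne hl]
  rw [e] at h1
  exact h1

theorem pts_translate (hI : Inv I) {i j : Fin n} (hij : i ≠ j) {s : K} {lam : K}
    (hlam : lam ∈ Tr s) :
    ∀ c : Fin n → K, c ∈ Pts I K → c j = s → Function.update c i (c i + lam) ∈ Pts I K := by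
  refine AddSubmonoid.closure_induction
    (motive := fun lam _ => ∀ c : Fin n → K, c ∈ Pts I K → c j = s →
      Function.update c i (c i + lam) ∈ Pts I K) ?_ ?_ ?_ hlam
  · rintro x ⟨d, rfl⟩ c hc hcj
    rw [← hcj]
    exact pts_move hI hc hij d
  · intro c hc _
    rw [add_zero, Function.update_eq_self]
    exact hc
  · intro x y _ _ ihx ihy c hc hcj
    have h1 := ihx c hc hcj
    have h2 := ihy _ h1 (by rw [Function.update_of_ne hij.symm]; exact hcj)
    rw [Function.update_self, Function.update_idem] at h2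
    rwa [add_assoc] at h2

theorem pts_update (hI : Inv I) {c : Fin n → K} (hc : c ∈ Pts I K) {i j : Fin n} (hij : i ≠ j)
    (hw : Wild (c j)) (t : K) : Function.update c i t ∈ Pts I K := by
  classical
  intro f hf
  set v : Fin n → Polynomial K :=
    fun l => if l = i then (Polynomial.X : Polynomial K) else Polynomial.C (c l) with hv
  set φ : Polynomial K := aeval (R := k) v f with hφdef
  have hφ : ∀ t : K, Polynomial.eval t φ = aeval (Function.update c i t) f := by
    intro t
    have h := MvPolynomial.comp_aeval_apply (R := k) (f := v)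
      ((Polynomial.aeval t : Polynomial K →ₐ[K] K).restrictScalars k) f
    simp only [AlgHom.restrictScalars_apply, Polynomial.coe_aeval_eq_eval] at h
    have e : (fun l => Polynomial.eval t (v l)) = Function.update c i t := by
      funext l
      by_cases hl : l = i
      · subst hl
        simp [hv]
      · simp [hv, hl]
    rw [hφdef, h, e]
  have hroots : ∀ lam ∈ Tr (c j), Polynomial.IsRoot φ (c i + lam) := by
    intro lam hlam
    rw [Polynomial.IsRoot, hφ]
    exact pts_translate hI hij hlam c hc rfl f hf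
  have hzero : φ = 0 := by
    apply Polynomial.eq_zero_of_infinite_isRoot
    refine Set.Infinite.mono ?_
      (hw.image (f := fun lam => c i + lam) (add_right_injective (c i)).injOn)
    rintro _ ⟨lam, hlam, rfl⟩
    exact hroots lam hlam
  rw [← hφ t, hzero, Polynomial.eval_zero]

theorem pts_reach (hI : Inv I) {c : Fin n → K} (hc : c ∈ Pts I K) {j : Fin n}
    (hw : Wild (c j)) : ∀ c' : Fin n → K, c' j = c j → c' ∈ Pts I K := by
  classical
  have key : ∀ F : Finset (Fin n), j ∉ F → ∀ c' : Fin n → K, (∀ i, i ∉ F → c' i = c i) →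
      c' ∈ Pts I K := by
    intro F
    induction F using Finset.induction_on with
    | empty =>
      intro _ c' h
      have : c' = c := funext fun i => h i (Finset.notMem_empty i)
      rw [this]; exact hc
    | insert i₀ F hi₀ ih =>
      intro hj c' h
      have hj' : j ∉ F := fun h' => hj (Finset.mem_insert_of_mem h')
      have hi₀j : i₀ ≠ j := fun h' => hj (h' ▸ Finset.mem_insert_self _ _)
      have h1 : Function.update c' i₀ (c i₀) ∈ Pts I K := by
        apply ih hj'
        intro i hi
        by_cases hii : i = i₀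
        · subst hii; simp
        · rw [Function.update_of_ne hii]
          exact h i (by simp [hii, hi])
      have h2 := pts_update hI h1 hi₀j (j := j)
        (by rw [Function.update_of_ne hi₀j.symm, h j hj]; exact hw) (c' i₀)
      rwa [Function.update_idem, Function.update_eq_self] at h2
  intro c' hc'
  apply key (Finset.univ.erase j) (Finset.notMem_erase j _)
  intro i hi
  have : i = j := by simpa using hi
  rw [this, hc']

theorem eq_bot_of_wild (hI : Inv I) (hn : 2 ≤ n) {a : Fin n → K} (ha : a ∈ Pts I K)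
    {j₀ : Fin n} (hw : Wild (a j₀)) (hinf : {s : K | Wild s}.Infinite) : I = ⊥ := by
  classical
  obtain ⟨i₁, hi₁⟩ : ∃ i₁ : Fin n, i₁ ≠ j₀ := by
    by_cases h0 : j₀ = ⟨0, by omega⟩
    · refine ⟨⟨1, by omega⟩, ?_⟩
      rw [h0]
      simp [Fin.ext_iff]
    · exact ⟨⟨0, by omega⟩, fun h => h0 h.symm⟩
  have hall : ∀ c' : Fin n → K, Wild (c' i₁) → c' ∈ Pts I K := by
    intro c' hc'
    have hb : Function.update a i₁ (c' i₁) ∈ Pts I K := pts_update hI ha hi₁ hw (c' i₁)
    apply pts_reach hI hb (j := i₁) (by rw [Function.update_self]; exact hc') c'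
    rw [Function.update_self]
  haveI hKinf : Infinite K := Set.infinite_univ_iff.mp (hinf.mono (Set.subset_univ _))
  rw [eq_bot_iff]
  intro f hf
  rw [Ideal.mem_bot]
  have hg : MvPolynomial.map (algebraMap k K) f = 0 := by
    set g := MvPolynomial.map (algebraMap k K) f with hgdef
    have hS : ∀ i : Fin n, ∃ S : Finset K, g.degreeOf i < S.card ∧
        (i = i₁ → ∀ s ∈ S, Wild s) := by
      intro i
      by_cases hi : i = i₁
      · obtain ⟨S, hSsub, hScard⟩ := hinf.exists_subset_card_eq (g.degreeOf i + 1)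
        exact ⟨S, by omega, fun _ s hs => hSsub hs⟩
      · obtain ⟨S, -, hScard⟩ :=
          (Set.infinite_univ (α := K)).exists_subset_card_eq (g.degreeOf i + 1)
        exact ⟨S, by omega, fun h => absurd h hi⟩
    choose S hS1 hS2 using hS
    apply MvPolynomial.eq_zero_of_eval_zero_at_prod_finset g S hS1
    intro x hx
    have := hall x (hS2 i₁ rfl _ (hx i₁)) f hf
    rw [hgdef, MvPolynomial.eval_map, ← MvPolynomial.aeval_def]
    exact this
  exact MvPolynomial.map_injective _ (algebraMap k K).injective (by rw [hg, map_zero])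

theorem wild_of_charZero [CharZero K] (s : K) : Wild s := by
  have h1 : ∀ m : ℕ, (m : K) ∈ Tr s := by
    intro m
    have h : (1 : K) ∈ Tr s := AddSubmonoid.subset_closure ⟨0, pow_zero s⟩
    simpa using (Tr s).nsmul_mem h m
  exact Set.Infinite.mono (Set.range_subset_iff.2 h1)
    (Set.infinite_range_of_injective Nat.cast_injective)

section CharP

variable (p : ℕ) [hp : Fact p.Prime] [CharP K p]

/-- fixed by a positive power of Frobenius -/
def Tame (s : K) : Prop := ∃ m : ℕ, 0 < m ∧ s ^ p ^ m = s

theorem frob_injective (m : ℕ) : Function.Injective (fun s : K => s ^ p ^ m) := by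
  intro s t h
  have h' : s ^ p ^ m = t ^ p ^ m := h
  have : (s - t) ^ p ^ m = 0 := by rw [sub_pow_char_pow, h', sub_self]
  exact sub_eq_zero.1 ((pow_eq_zero_iff (pow_ne_zero m hp.out.ne_zero)).1 this)

theorem pow_injective_of_not_tame {s : K} (hs : ¬ Tame p s) :
    Function.Injective (fun m : ℕ => s ^ p ^ m) := by
  have key : ∀ m1 m2 : ℕ, m1 < m2 → s ^ p ^ m1 ≠ s ^ p ^ m2 := by
    intro m1 m2 h12 heq
    apply hs
    refine ⟨m2 - m1, by omega, ?_⟩
    apply frob_injective p m1
    show (s ^ p ^ (m2 - m1)) ^ p ^ m1 = s ^ p ^ m1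
    rw [← pow_mul, ← pow_add, Nat.sub_add_cancel h12.le, ← heq]
  intro m1 m2 h
  rcases lt_trichotomy m1 m2 with h12 | h12 | h12
  · exact absurd h (key m1 m2 h12)
  · exact h12
  · exact absurd h.symm (key m2 m1 h12)

theorem not_tame_pow {s : K} (hs : ¬ Tame p s) (m : ℕ) : ¬ Tame p (s ^ p ^ m) := by
  rintro ⟨l, hl, h⟩
  apply hs
  refine ⟨l, hl, ?_⟩
  apply frob_injective p m
  show (s ^ p ^ l) ^ p ^ m = s ^ p ^ m
  rw [← pow_mul, mul_comm, pow_mul]
  exact h

theorem wild_of_not_tame {s : K} (hs : ¬ Tame p s) : Wild s := by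
  refine Set.Infinite.mono ?_ (Set.infinite_range_of_injective (pow_injective_of_not_tame p hs))
  rintro _ ⟨m, rfl⟩
  exact AddSubmonoid.subset_closure ⟨p ^ m, rfl⟩

theorem infinite_wild_of_not_tame {s : K} (hs : ¬ Tame p s) : {s : K | Wild s}.Infinite := by
  refine Set.Infinite.mono ?_ (Set.infinite_range_of_injective (pow_injective_of_not_tame p hs))
  rintro _ ⟨m, rfl⟩
  exact wild_of_not_tame p (not_tame_pow p hs m)

end CharP

/-- **Algebraic core.** -/
theorem core (hI : Inv I) (hI0 : I ≠ ⊥) (hn : 2 ≤ n) (p : ℕ) [CharP k p] {a : Fin n → K}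
    (ha : a ∈ Pts I K) : p.Prime ∧ ∀ i, ∃ m : ℕ, 0 < m ∧ a i ^ p ^ m = a i := by
  haveI : CharP K p :=
    (RingHom.charP_iff (algebraMap k K) (algebraMap k K).injective p).1 inferInstance
  rcases CharP.char_is_prime_or_zero K p with hp | hp0
  · haveI := Fact.mk hp
    refine ⟨hp, fun i => ?_⟩
    by_contra hti
    exact hI0 (eq_bot_of_wild hI hn ha (wild_of_not_tame p hti)
      (infinite_wild_of_not_tame p hti))
  · subst hp0
    haveI : CharZero K := CharP.charP_to_charZero K
    have h0 : 0 < n := by omega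
    exact absurd (eq_bot_of_wild hI hn ha (j₀ := ⟨0, h0⟩) (wild_of_charZero _)
      (Set.infinite_univ.mono fun s _ => wild_of_charZero s)) hI0

section Spec

variable (k n)

/-- the substitution `x_i ↦ x_i + x_j ^ d` -/
noncomputable abbrev elemSubst (i j : Fin n) (d : ℕ) :
    MvPolynomial (Fin n) k →ₐ[k] MvPolynomial (Fin n) k :=
  aeval (R := k) (Function.update (X : Fin n → MvPolynomial (Fin n) k) i (X i + X j ^ d))

variable {k n}

theorem isIntegral_of_pow_eq {A : Type*} [CommRing A] [Algebra k A] (y : A) {q : ℕ} (hq : 2 ≤ q)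
    (h : y ^ q = y) : IsIntegral k y := by
  refine ⟨Polynomial.X ^ q - Polynomial.X, Polynomial.monic_X_pow_sub ?_, ?_⟩
  · rw [Polynomial.degree_X]
    exact_mod_cast hq
  · simp [h]

theorem spec_core (hn : 2 ≤ n) (Z : Set (PrimeSpectrum (MvPolynomial (Fin n) k)))
    (hZc : IsClosed Z) (hZne : Z ≠ Set.univ)
    (hinv : ∀ i j : Fin n, i ≠ j → ∀ d : ℕ, ∀ x ∈ Z,
      PrimeSpectrum.comap (elemSubst k n i j d).toRingHom x ∈ Z)
    (p : ℕ) [CharP k p] (hZ0 : Z.Nonempty) :
    p.Prime ∧ Z.Finite ∧ ∀ x ∈ Z, IsClosed ({x} : Set (PrimeSpectrum (MvPolynomial (Fin n) k))) ∧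
      ∀ i, ∃ m : ℕ, 0 < m ∧
        (algebraMap (MvPolynomial (Fin n) k) x.asIdeal.ResidueField (X i)) ^ p ^ m =
          algebraMap (MvPolynomial (Fin n) k) x.asIdeal.ResidueField (X i) := by
  classical
  set I := PrimeSpectrum.vanishingIdeal Z with hIdef
  have hZI : Z = PrimeSpectrum.zeroLocus (I : Set (MvPolynomial (Fin n) k)) := by
    rw [hIdef, PrimeSpectrum.zeroLocus_vanishingIdeal_eq_closure, hZc.closure_eq]
  have hI0 : I ≠ ⊥ := by
    intro h
    apply hZne
    rw [hZI, h]
    simp
  have hI : Inv I := by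
    intro i j hij d f hf
    rw [hIdef, PrimeSpectrum.mem_vanishingIdeal] at hf ⊢
    intro x hx
    exact hf _ (hinv i j hij d x hx)
  -- points
  have hpt : ∀ x ∈ Z, (fun i => algebraMap (MvPolynomial (Fin n) k) x.asIdeal.ResidueField (X i))
      ∈ Pts I x.asIdeal.ResidueField := by
    intro x hx f hf
    have h1 : aeval (fun i => algebraMap (MvPolynomial (Fin n) k) x.asIdeal.ResidueField (X i))
        = IsScalarTower.toAlgHom k (MvPolynomial (Fin n) k) x.asIdeal.ResidueField := by
      apply MvPolynomial.algHom_ext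
      intro i
      simp
    rw [h1, IsScalarTower.coe_toAlgHom', Ideal.algebraMap_residueField_eq_zero]
    rw [hZI] at hx
    exact hx hf
  obtain ⟨x₀, hx₀⟩ := hZ0
  have hp : p.Prime := (core hI hI0 hn p (hpt x₀ hx₀)).1
  have htame : ∀ x ∈ Z, ∀ i, ∃ m : ℕ, 0 < m ∧
      (algebraMap (MvPolynomial (Fin n) k) x.asIdeal.ResidueField (X i)) ^ p ^ m =
        algebraMap (MvPolynomial (Fin n) k) x.asIdeal.ResidueField (X i) :=
    fun x hx => (core hI hI0 hn p (hpt x hx)).2
  -- maximality
  have hmax : ∀ x ∈ Z, x.asIdeal.IsMaximal := by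
    intro x hx
    have hint : Algebra.IsIntegral k (MvPolynomial (Fin n) k ⧸ x.asIdeal) := by
      have hgen : Algebra.adjoin k (Set.range fun i : Fin n =>
          (Ideal.Quotient.mk x.asIdeal (X i) : MvPolynomial (Fin n) k ⧸ x.asIdeal)) = ⊤ := by
        rw [Algebra.adjoin_range_eq_range_aeval]
        have h2 : aeval (fun i : Fin n =>
            (Ideal.Quotient.mk x.asIdeal (X i) : MvPolynomial (Fin n) k ⧸ x.asIdeal))
            = Ideal.Quotient.mkₐ k x.asIdeal := by
          apply MvPolynomial.algHom_ext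
          intro i
          simp
        rw [h2, AlgHom.range_eq_top]
        exact Ideal.Quotient.mkₐ_surjective k _
      have hle : Algebra.adjoin k (Set.range fun i : Fin n =>
          (Ideal.Quotient.mk x.asIdeal (X i) : MvPolynomial (Fin n) k ⧸ x.asIdeal))
          ≤ integralClosure k (MvPolynomial (Fin n) k ⧸ x.asIdeal) := by
        apply Algebra.adjoin_le
        rintro _ ⟨i, rfl⟩
        show IsIntegral k _
        obtain ⟨m, hm, h⟩ := htame x hx i
        have h3 : (X i : MvPolynomial (Fin n) k) ^ p ^ m - X i ∈ x.asIdeal := by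
          rw [← Ideal.algebraMap_residueField_eq_zero, map_sub, map_pow, h, sub_self]
        apply isIntegral_of_pow_eq _ (q := p ^ m)
        · calc 2 ≤ p := hp.two_le
            _ = p ^ 1 := (pow_one p).symm
            _ ≤ p ^ m := Nat.pow_le_pow_right hp.pos hm
        · rw [← map_pow, ← sub_eq_zero, ← map_sub, Ideal.Quotient.eq_zero_iff_mem]
          exact h3
      rw [hgen] at hle
      exact ⟨fun y => hle Algebra.mem_top⟩
    have hfield : IsField (MvPolynomial (Fin n) k ⧸ x.asIdeal) :=
      isField_of_isIntegral_of_isField' (Field.toIsField k)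
    exact Ideal.Quotient.maximal_of_isField _ hfield
  refine ⟨hp, ?_, fun x hx => ⟨?_, htame x hx⟩⟩
  · -- finiteness
    have hdim : Ring.KrullDimLE 0 (MvPolynomial (Fin n) k ⧸ I) := by
      rw [Ring.krullDimLE_zero_iff]
      intro Q hQ
      have hcm : (Q.comap (Ideal.Quotient.mk I)).IsMaximal := by
        have hmem : (⟨Q.comap (Ideal.Quotient.mk I), inferInstance⟩ :
            PrimeSpectrum (MvPolynomial (Fin n) k)) ∈ Z := by
          rw [hZI]
          intro f hf
          show Ideal.Quotient.mk I f ∈ Q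
          rw [Ideal.Quotient.eq_zero_iff_mem.2 hf]
          exact Q.zero_mem
        exact hmax _ hmem
      have hmap := Ideal.map_eq_top_or_isMaximal_of_surjective (Ideal.Quotient.mk I)
        Ideal.Quotient.mk_surjective hcm
      rw [Ideal.map_comap_of_surjective _ Ideal.Quotient.mk_surjective] at hmap
      exact hmap.resolve_left hQ.ne_top
    haveI : IsArtinianRing (MvPolynomial (Fin n) k ⧸ I) := isArtinianRing_iff_krullDimLE_zero.2 hdim
    have hrange : Z = Set.range (PrimeSpectrum.comap (Ideal.Quotient.mk I)) := by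
      rw [range_comap_of_surjective _ _ Ideal.Quotient.mk_surjective, Ideal.mk_ker]
      exact hZI
    rw [hrange]
    exact Set.finite_range _
  · rw [PrimeSpectrum.isClosed_singleton_iff_isMaximal]
    exact hmax x hx

end Spec

end Groth.Agent.Lib.Seat86.ElemAut
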