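import Mathlib

set_option autoImplicit false
set_option linter.style.haveILetI false
set_option linter.unusedSectionVars false

universe u

/-!
# Extending finite surjective morphisms from a quasi-compact open (helper lemmas)

* `exists_of_isPullback`: if `V = V'' ×_S U` with `V'' ⟶ S` finite and `V ⟶ U` surjective, then adding
  the reduced closed complement of `U` gives a finite surjective `V' ⟶ S` with `V = V' ×_S U`.
* `isPullback_toImage`: if `k : V ⟶ W ×_S U` is a closed immersion over `U`, then the scheme-theoretic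
  image `V'` of `V ⟶ W` satisfies `V = V' ×_S U`.
-/

namespace Groth.Agent.Lib.Seat86.FinExt

open AlgebraicGeometry CategoryTheory Limits

/-- Adding the reduced complement: from a finite `π'' : V'' ⟶ S` restricting to `v` over `U` to a finite
surjective one. -/
lemma exists_of_isPullback {S V : Scheme.{u}} (U : S.Opens)
    (v : V ⟶ (U : Scheme.{u})) [Surjective v] {V'' : Scheme.{u}} (π'' : V'' ⟶ S) (i'' : V ⟶ V'')
    [IsFinite π''] (hA : IsPullback i'' v π'' U.ι) :
    ∃ (V' : Scheme.{u}) (π : V' ⟶ S) (i : V ⟶ V'), Surjective π ∧ IsFinite π ∧ IsPullback i v π U.ι := by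
  -- the closed complement with its reduced structure
  let Zc : TopologicalSpace.Closeds S := ⟨(U : Set S)ᶜ, U.2.isClosed_compl⟩
  let I : S.IdealSheafData := Scheme.IdealSheafData.vanishingIdeal Zc
  have hIrange : Set.range I.subschemeι = (U : Set S)ᶜ := by
    rw [Scheme.IdealSheafData.range_subschemeι, Scheme.IdealSheafData.coe_support_vanishingIdeal]
    rfl
  have hopen : IsOpenImmersion i'' :=
    MorphismProperty.of_isPullback (P := @IsOpenImmersion) hA.flip inferInstance
  have hrange : Set.range i'' = π'' ⁻¹' (U : Set S) := by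
    have h1 : i'' = hA.isoPullback.hom ≫ pullback.fst _ _ :=
      hA.isoPullback_hom_fst.symm
    have h2 : Set.range hA.isoPullback.hom = Set.univ :=
      Set.range_eq_univ.mpr hA.isoPullback.hom.surjective
    rw [h1, Scheme.Hom.comp_base, TopCat.coe_comp, Set.range_comp, h2, Set.image_univ,
      Scheme.Pullback.range_fst]
    simp
  have hcomm : (i'' ≫ coprod.inl) ≫
      coprod.desc π'' I.subschemeι = v ≫ U.ι := by
    rw [Category.assoc, coprod.inl_desc, hA.w]
  refine ⟨V'' ⨿ I.subscheme,
    coprod.desc π'' I.subschemeι,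
    i'' ≫ coprod.inl, ?_, inferInstance, ?_⟩
  · constructor
    intro s
    by_cases hs : s ∈ U
    · obtain ⟨x, hx⟩ := v.surjective ⟨s, hs⟩
      refine ⟨(i'' ≫ coprod.inl) x, ?_⟩
      rw [← Scheme.Hom.comp_apply, hcomm, Scheme.Hom.comp_apply, hx]
      rfl
    · obtain ⟨z, hz⟩ : s ∈ Set.range I.subschemeι := hIrange ▸ hs
      exact ⟨(coprod.inr : I.subscheme ⟶ _) z, by
        rw [← Scheme.Hom.comp_apply, coprod.inr_desc, hz]⟩
  · refine (IsOpenImmersion.isPullback v (i'' ≫ coprod.inl) U.ι
      (coprod.desc π'' I.subschemeι) hcomm ?_).flip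
    ext x
    obtain ⟨x | x, rfl⟩ := (coprodMk _ _).surjective x
    · rw [coprodMk_inl]
      have e1 : (coprod.desc π'' I.subschemeι)
          ((coprod.inl : V'' ⟶ _) x) = π'' x := by
        rw [← Scheme.Hom.comp_apply, coprod.inl_desc]
      constructor
      · intro hx
        have hx' : π'' x ∈ (U : Set S) := by
          have : (coprod.desc π'' I.subschemeι)
              ((coprod.inl : V'' ⟶ _) x) ∈ Set.range U.ι := hx
          rw [e1] at this
          simpa using this
        obtain ⟨y, hy⟩ : x ∈ Set.range i'' := by rw [hrange]; exact hx'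
        exact ⟨y, by rw [Scheme.Hom.comp_apply, hy]⟩
      · rintro ⟨y, hy⟩
        have hinj : Function.Injective (coprod.inl : V'' ⟶
            V'' ⨿ I.subscheme) :=
          (Scheme.Hom.isOpenEmbedding _).injective
        have hyx : i'' y = x := hinj (by rw [← hy, Scheme.Hom.comp_apply])
        have hx' : π'' x ∈ (U : Set S) := by
          have : x ∈ Set.range i'' := ⟨y, hyx⟩
          rw [hrange] at this; exact this
        show (coprod.desc π'' I.subschemeι)
              ((coprod.inl : V'' ⟶ _) x) ∈ Set.range U.ι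
        rw [e1]
        simpa using hx'
    · rw [coprodMk_inr]
      have e1 : (coprod.desc π'' I.subschemeι)
          ((coprod.inr : I.subscheme ⟶ _) x) = I.subschemeι x := by
        rw [← Scheme.Hom.comp_apply, coprod.inr_desc]
      constructor
      · intro hx
        exfalso
        have : (coprod.desc π'' I.subschemeι)
              ((coprod.inr : I.subscheme ⟶ _) x) ∈ Set.range U.ι := hx
        rw [e1] at this
        have h2 : I.subschemeι x ∈ (U : Set S)ᶜ := hIrange ▸ ⟨x, rfl⟩
        exact h2 (by simpa using this)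
      · rintro ⟨y, hy⟩
        exfalso
        rw [Scheme.Hom.comp_apply] at hy
        exact Set.disjoint_iff_forall_ne.mp (isCompl_range_inl_inr _ _).disjoint ⟨_, rfl⟩ ⟨x, rfl⟩ hy

/-- If `k : V ⟶ W ×_S U` is a closed immersion over `U` (with `U ⟶ S` quasi-compact), the scheme-theoretic
image `V'` of `V ⟶ W` restricts to `V` over `U`. -/
lemma isPullback_toImage {S V W : Scheme.{u}} (U : S.Opens) [QuasiCompact U.ι]
    (v : V ⟶ (U : Scheme.{u})) (πW : W ⟶ S) (k : V ⟶ pullback πW U.ι) [IsClosedImmersion k]
    (hk : k ≫ pullback.snd πW U.ι = v) :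
    IsPullback (k ≫ pullback.fst πW U.ι).toImage v
      ((k ≫ pullback.fst πW U.ι).imageι ≫ πW) U.ι := by
  have hcomm : (k ≫ pullback.fst πW U.ι).toImage ≫ ((k ≫ pullback.fst πW U.ι).imageι ≫ πW) =
      v ≫ U.ι := by
    rw [← Category.assoc, Scheme.Hom.toImage_imageι, Category.assoc, pullback.condition,
      ← Category.assoc, hk]
  have hrangeι : Set.range (k ≫ pullback.fst πW U.ι).imageι =
      closure (Set.range (k ≫ pullback.fst πW U.ι)) := by
    rw [Scheme.Hom.imageι, Scheme.IdealSheafData.range_subschemeι, Scheme.Hom.support_ker]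
  refine (IsOpenImmersion.isPullback v (k ≫ pullback.fst πW U.ι).toImage U.ι
    ((k ≫ pullback.fst πW U.ι).imageι ≫ πW) hcomm ?_).flip
  ext x
  constructor
  · intro hx
    have hx1 : πW ((k ≫ pullback.fst πW U.ι).imageι x) ∈ Set.range U.ι := by
      have : ((k ≫ pullback.fst πW U.ι).imageι ≫ πW) x ∈ Set.range U.ι := hx
      rwa [Scheme.Hom.comp_apply] at this
    obtain ⟨y, hy⟩ : (k ≫ pullback.fst πW U.ι).imageι x ∈ Set.range (pullback.fst πW U.ι) := by
      rw [Scheme.Pullback.range_fst]; exact hx1
    have hx2 : (k ≫ pullback.fst πW U.ι).imageι x ∈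
        closure (Set.range (k ≫ pullback.fst πW U.ι)) := by
      rw [← hrangeι]; exact ⟨x, rfl⟩
    have hyk : y ∈ Set.range k := by
      have hcl : IsClosed (Set.range k) := k.isClosedEmbedding.isClosed_range
      have hemb := (pullback.fst πW U.ι).isOpenEmbedding.isEmbedding.isInducing
      rw [← hcl.closure_eq, hemb.closure_eq_preimage_closure_image, Set.mem_preimage, hy,
        ← Set.range_comp]
      have : (⇑(pullback.fst πW U.ι) ∘ ⇑k) = ⇑(k ≫ pullback.fst πW U.ι) := by
        ext z; simp
      rw [this]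
      exact hx2
    obtain ⟨z, rfl⟩ := hyk
    refine ⟨z, ?_⟩
    apply (k ≫ pullback.fst πW U.ι).imageι.isClosedEmbedding.injective
    rw [← Scheme.Hom.comp_apply, Scheme.Hom.toImage_imageι, Scheme.Hom.comp_apply, hy]
  · rintro ⟨z, rfl⟩
    show ((k ≫ pullback.fst πW U.ι).imageι ≫ πW) ((k ≫ pullback.fst πW U.ι).toImage z) ∈
      Set.range U.ι
    rw [← Scheme.Hom.comp_apply, hcomm, Scheme.Hom.comp_apply]
    exact ⟨_, rfl⟩

end Groth.Agent.Lib.Seat86.FinExt
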