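import Mathlib
import Groth.Prelude.Def_CInt
import Groth.Agent.Lib.Helper12SchDenseExt

/-!
# A section of a morphism that is an isomorphism over a schematically dense open (seat 86)

If `f : E ⟶ S` is an isomorphism over an open `U` whose preimage is schematically dense in `E`, then any
section `σ` of `f` has, around each `σ s`, an open neighbourhood on which `f` is an open immersion.
-/

set_option autoImplicit false
set_option linter.style.haveILetI false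
universe u
open CategoryTheory AlgebraicGeometry TopologicalSpace Limits

namespace Groth.Agent.Lib.Seat86.SecOpenImm

open Groth.Agent.Lib.Helper12.SchDense

/-- schematically dense opens restrict to open subschemes. -/
theorem isSchematicallyDense_restrict {X : Scheme.{u}} (V : X.Opens)
    (hV : CInt.IsSchematicallyDense V) (O : X.Opens) :
    CInt.IsSchematicallyDense (O.ι ⁻¹ᵁ V) := by
  intro V'
  have e : O.ι ''ᵁ (V' ⊓ O.ι ⁻¹ᵁ V) = (O.ι ''ᵁ V') ⊓ V := by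
    ext x
    simp only [Scheme.Hom.coe_image, Opens.coe_inf, Scheme.Hom.coe_preimage, Set.mem_image,
      Set.mem_inter_iff, Set.mem_preimage, SetLike.mem_coe]
    constructor
    · rintro ⟨y, ⟨hy1, hy2⟩, rfl⟩
      exact ⟨⟨y, hy1, rfl⟩, hy2⟩
    · rintro ⟨⟨y, hy1, rfl⟩, hy2⟩
      exact ⟨y, ⟨hy1, hy2⟩, rfl⟩
  have h := hV (O.ι ''ᵁ V')
  have h2 : Function.Injective (X.presheaf.map (eqToHom e).op) := by
    have : IsIso (X.presheaf.map (eqToHom e).op) := inferInstance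
    exact ((ConcreteCategory.isIso_iff_bijective _).mp this).1
  have key : (O : Scheme.{u}).presheaf.map (homOfLE (inf_le_left : V' ⊓ O.ι ⁻¹ᵁ V ≤ V')).op =
      X.presheaf.map (homOfLE (inf_le_left : (O.ι ''ᵁ V') ⊓ V ≤ O.ι ''ᵁ V')).op ≫
        X.presheaf.map (eqToHom e).op := by
    rw [← Functor.map_comp]
    rfl
  rw [key]
  exact h2.comp h

variable {E S : Scheme.{u}}

theorem ι_comp_comp_eq (f : E ⟶ S) (U : S.Opens) (hiso : IsIso (f ∣_ U)) (σ : S ⟶ E)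
    (hσ : σ ≫ f = 𝟙 S) : (f ⁻¹ᵁ U).ι ≫ f ≫ σ = (f ⁻¹ᵁ U).ι := by
  have hr : Set.range (U.ι ≫ σ).base ⊆ Set.range (f ⁻¹ᵁ U).ι.base := by
    rw [Scheme.Opens.range_ι]
    rintro _ ⟨u, rfl⟩
    change f.base ((U.ι ≫ σ).base u) ∈ U
    have h1 : f.base ((U.ι ≫ σ).base u) = U.ι.base u := by
      rw [← Scheme.Hom.comp_apply, Category.assoc, hσ, Category.comp_id]
    rw [h1]
    exact u.2
  let σU := IsOpenImmersion.lift (f ⁻¹ᵁ U).ι (U.ι ≫ σ) hr
  have hσU : σU ≫ (f ⁻¹ᵁ U).ι = U.ι ≫ σ := IsOpenImmersion.lift_fac _ _ _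
  have h1 : σU ≫ (f ∣_ U) = 𝟙 _ := by
    rw [← cancel_mono U.ι, Category.assoc, morphismRestrict_ι, ← Category.assoc, hσU,
      Category.assoc, hσ, Category.comp_id, Category.id_comp]
  have h2 : (f ∣_ U) ≫ σU = 𝟙 _ := by
    have : σU = inv (f ∣_ U) := by
      rw [← cancel_mono (f ∣_ U), h1, IsIso.inv_hom_id]
    rw [this, IsIso.hom_inv_id]
  calc (f ⁻¹ᵁ U).ι ≫ f ≫ σ = (f ∣_ U) ≫ U.ι ≫ σ := by
        rw [← Category.assoc, ← morphismRestrict_ι, Category.assoc]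
    _ = (f ∣_ U) ≫ σU ≫ (f ⁻¹ᵁ U).ι := by rw [hσU]
    _ = (f ⁻¹ᵁ U).ι := by rw [← Category.assoc, h2, Category.id_comp]

theorem exists_isOpenImmersion_nhd (f : E ⟶ S) (U : S.Opens) (hiso : IsIso (f ∣_ U))
    (hdense : CInt.IsSchematicallyDense (f ⁻¹ᵁ U)) (σ : S ⟶ E) (hσ : σ ≫ f = 𝟙 S) (s : S) :
    ∃ W : E.Opens, σ.base s ∈ W ∧ IsOpenImmersion (W.ι ≫ f) := by
  -- an affine open neighbourhood of `σ s`
  have hex : ∃ W' : E.Opens, IsAffineOpen W' ∧ σ.base s ∈ W' := by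
    obtain ⟨W', h1, h2, -⟩ := Opens.isBasis_iff_nbhd.mp E.isBasis_affineOpens
      (show σ.base s ∈ (⊤ : E.Opens) from trivial)
    exact ⟨W', h1, h2⟩
  obtain ⟨W', hW'aff', hsW'⟩ := hex
  let V₂ : S.Opens := σ ⁻¹ᵁ W'
  let W₂ : E.Opens := W' ⊓ f ⁻¹ᵁ V₂
  have hfσ : ∀ v : S, f.base (σ.base v) = v := fun v => by
    rw [← Scheme.Hom.comp_apply, hσ]; rfl
  have hsW₂ : σ.base s ∈ W₂ := ⟨hsW', by change σ.base (f.base (σ.base s)) ∈ W'; rw [hfσ]; exact hsW'⟩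
  refine ⟨W₂, hsW₂, ?_⟩
  -- the restricted morphisms
  have hr1 : Set.range (W₂.ι ≫ f).base ⊆ Set.range V₂.ι.base := by
    rw [Scheme.Opens.range_ι]
    rintro _ ⟨w, rfl⟩
    exact w.2.2
  let f₂ : (W₂ : Scheme.{u}) ⟶ V₂ := IsOpenImmersion.lift V₂.ι (W₂.ι ≫ f) hr1
  have hf₂ : f₂ ≫ V₂.ι = W₂.ι ≫ f := IsOpenImmersion.lift_fac _ _ _
  have hr2 : Set.range (V₂.ι ≫ σ).base ⊆ Set.range W₂.ι.base := by
    rw [Scheme.Opens.range_ι]
    rintro _ ⟨v, rfl⟩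
    refine ⟨v.2, ?_⟩
    change σ.base (f.base (σ.base v.1)) ∈ W'
    rw [hfσ]
    exact v.2
  let σ₂ : (V₂ : Scheme.{u}) ⟶ W₂ := IsOpenImmersion.lift W₂.ι (V₂.ι ≫ σ) hr2
  have hσ₂ : σ₂ ≫ W₂.ι = V₂.ι ≫ σ := IsOpenImmersion.lift_fac _ _ _
  have h1 : σ₂ ≫ f₂ = 𝟙 _ := by
    rw [← cancel_mono V₂.ι, Category.assoc, hf₂, ← Category.assoc, hσ₂, Category.assoc, hσ,
      Category.comp_id, Category.id_comp]
  -- the other composite, via schematic density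
  let j : (W₂ : Scheme.{u}) ⟶ W' := E.homOfLE inf_le_left
  have hj : j ≫ W'.ι = W₂.ι := E.homOfLE_ι _
  let O : (W₂ : Scheme.{u}).Opens := W₂.ι ⁻¹ᵁ (f ⁻¹ᵁ U)
  have hO : CInt.IsSchematicallyDense O := isSchematicallyDense_restrict _ hdense W₂
  have hr3 : Set.range (O.ι ≫ W₂.ι).base ⊆ Set.range (f ⁻¹ᵁ U).ι.base := by
    rw [Scheme.Opens.range_ι]
    rintro _ ⟨o, rfl⟩
    exact o.2
  let k : (O : Scheme.{u}) ⟶ (f ⁻¹ᵁ U) := IsOpenImmersion.lift (f ⁻¹ᵁ U).ι (O.ι ≫ W₂.ι) hr3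
  have hk : k ≫ (f ⁻¹ᵁ U).ι = O.ι ≫ W₂.ι := IsOpenImmersion.lift_fac _ _ _
  have hab : O.ι ≫ (f₂ ≫ σ₂ ≫ j) = O.ι ≫ j := by
    rw [← cancel_mono W'.ι]
    simp only [Category.assoc, hj, hσ₂]
    rw [← Category.assoc f₂, hf₂, Category.assoc, ← Category.assoc O.ι, ← hk, Category.assoc,
      ι_comp_comp_eq f U hiso σ hσ]
  haveI : IsAffine (W' : Scheme.{u}) := hW'aff'
  have hsep : IsSeparated (terminal.from (W' : Scheme.{u})) := inferInstance
  have hext : f₂ ≫ σ₂ ≫ j = j :=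
    ext_of_isSchematicallyDense (terminal.from (W' : Scheme.{u})) (Subsingleton.elim _ _) O hO hab
  have h2 : f₂ ≫ σ₂ = 𝟙 _ := by
    rw [← cancel_mono W₂.ι, ← hj]
    have := congrArg (fun t => t ≫ W'.ι) hext
    simp only [Category.assoc] at this
    rw [Category.assoc, this, Category.id_comp]
  haveI : IsIso f₂ := ⟨σ₂, h2, h1⟩
  rw [← hf₂]
  infer_instance

end Groth.Agent.Lib.Seat86.SecOpenImm
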