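import Mathlib
import Groth.Prelude.Def_CInt
import Groth.Agent.Lib.Helper12SchDense
import Groth.Agent.Lib.Helper12SchDenseExt
import Groth.Agent.Lib.Seat86SecOpenImm
import Groth.Agent.S0386

/-!
# Morphisms that are isomorphisms over a dense open: étale / flat / sections (seat 86)

`f : X ⟶ S` restricts to an isomorphism over `U` and `f⁻¹ U` is schematically dense in `X`.
* a flat, locally finitely presented restriction `W.ι ≫ f` from an affine open `W` of a locally
  Noetherian `X` is an open immersion;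
* a local section `σ : V ⟶ X` of `f` has open neighbourhoods of its points on which `f` is an open
  immersion.
-/

set_option autoImplicit false
set_option linter.style.haveILetI false
universe u
open CategoryTheory AlgebraicGeometry TopologicalSpace Limits

namespace Groth.Agent.Lib.Seat86.FlatBir

open Groth.Agent.Lib.Helper12.SchDense Groth.Agent.Lib.Seat86.SecOpenImm

variable {X S : Scheme.{u}} (f : X ⟶ S)

/-- `f` is a monomorphism over an open over which it is an isomorphism. -/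
theorem eq_of_comp_eq_of_isIso_restrict (U : S.Opens) (hiso : IsIso (f ∣_ U)) {T : Scheme.{u}}
    (a b : T ⟶ X) (hab : a ≫ f = b ≫ f) (ha : ∀ t : T, a.base t ∈ f ⁻¹ᵁ U) : a = b := by
  have hb : ∀ t : T, b.base t ∈ f ⁻¹ᵁ U := by
    intro t
    change f.base (b.base t) ∈ U
    have h1 : f.base (b.base t) = f.base (a.base t) := by
      rw [← Scheme.Hom.comp_apply, ← Scheme.Hom.comp_apply, hab]
    rw [h1]
    exact ha t
  have hra : Set.range a.base ⊆ Set.range (f ⁻¹ᵁ U).ι.base := by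
    rw [Scheme.Opens.range_ι]
    rintro _ ⟨t, rfl⟩
    exact ha t
  have hrb : Set.range b.base ⊆ Set.range (f ⁻¹ᵁ U).ι.base := by
    rw [Scheme.Opens.range_ι]
    rintro _ ⟨t, rfl⟩
    exact hb t
  let a' := IsOpenImmersion.lift (f ⁻¹ᵁ U).ι a hra
  let b' := IsOpenImmersion.lift (f ⁻¹ᵁ U).ι b hrb
  have ha' : a' ≫ (f ⁻¹ᵁ U).ι = a := IsOpenImmersion.lift_fac _ _ _
  have hb' : b' ≫ (f ⁻¹ᵁ U).ι = b := IsOpenImmersion.lift_fac _ _ _
  have h1 : a' ≫ (f ∣_ U) = b' ≫ (f ∣_ U) := by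
    rw [← cancel_mono U.ι, Category.assoc, Category.assoc, morphismRestrict_ι,
      ← Category.assoc, ← Category.assoc, ha', hb', hab]
  have h2 : a' = b' := (cancel_mono (f ∣_ U)).mp h1
  rw [← ha', ← hb', h2]

/-- A flat, locally finitely presented restriction of `f` to an affine open is an open
immersion. -/
theorem isOpenImmersion_of_flat [IsLocallyNoetherian X] (U : S.Opens) (hiso : IsIso (f ∣_ U))
    (hdense : CInt.IsSchematicallyDense (f ⁻¹ᵁ U)) (W : X.Opens) (hW : IsAffineOpen W)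
    [Flat (W.ι ≫ f)] [LocallyOfFinitePresentation (W.ι ≫ f)] : IsOpenImmersion (W.ι ≫ f) := by
  haveI : IsAffine (W : Scheme.{u}) := hW
  haveI : IsSeparated (terminal.from (W : Scheme.{u})) := inferInstance
  haveI : IsSeparated ((W.ι ≫ f) ≫ terminal.from S) := by
    rw [Subsingleton.elim ((W.ι ≫ f) ≫ terminal.from S) (terminal.from (W : Scheme.{u}))]
    infer_instance
  haveI : IsSeparated (W.ι ≫ f) := IsSeparated.of_comp (W.ι ≫ f) (terminal.from S)
  let g := W.ι ≫ f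
  let O : (pullback g g).Opens := (pullback.snd g g) ⁻¹ᵁ (W.ι ⁻¹ᵁ (f ⁻¹ᵁ U))
  have hdenseW : CInt.IsSchematicallyDense (W.ι ⁻¹ᵁ (f ⁻¹ᵁ U)) :=
    isSchematicallyDense_restrict (f ⁻¹ᵁ U) hdense W
  have hO : CInt.IsSchematicallyDense O :=
    isSchematicallyDense_preimage_of_flat (pullback.snd g g) (W.ι ⁻¹ᵁ (f ⁻¹ᵁ U)) hdenseW
  have key : O.ι ≫ pullback.snd g g = O.ι ≫ pullback.fst g g := by
    apply (cancel_mono W.ι).mp
    apply eq_of_comp_eq_of_isIso_restrict f U hiso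
    · simp only [Category.assoc]
      have := pullback.condition (f := g) (g := g)
      change pullback.fst g g ≫ W.ι ≫ f = pullback.snd g g ≫ W.ι ≫ f at this
      rw [this]
    · intro t
      exact t.2
  have hl : (O.ι ≫ pullback.fst g g) ≫ pullback.diagonal g = O.ι := by
    apply pullback.hom_ext
    · simp
    · simp only [Category.assoc, pullback.diagonal_snd, Category.comp_id]
      exact key.symm
  haveI : IsIso (pullback.diagonal g) :=
    isIso_of_isSchematicallyDense_factors (pullback.diagonal g) O hO _ hl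
  haveI : Mono g := (pullback.isIso_diagonal_iff g).mp inferInstance
  exact IsOpenImmersion.of_flat_of_mono g

/-- Local sections: around each point of a local section, `f` is an open immersion. -/
theorem exists_isOpenImmersion_nhd_local (U : S.Opens) (hiso : IsIso (f ∣_ U))
    (hdense : CInt.IsSchematicallyDense (f ⁻¹ᵁ U)) (V : S.Opens) (σ : (V : Scheme.{u}) ⟶ X)
    (hσ : σ ≫ f = V.ι) (s : V) :
    ∃ W : X.Opens, σ.base s ∈ W ∧ IsOpenImmersion (W.ι ≫ f) := by
  have hex : ∃ W' : X.Opens, IsAffineOpen W' ∧ σ.base s ∈ W' := by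
    obtain ⟨W', h1, h2, -⟩ := Opens.isBasis_iff_nbhd.mp X.isBasis_affineOpens
      (show σ.base s ∈ (⊤ : X.Opens) from trivial)
    exact ⟨W', h1, h2⟩
  obtain ⟨W', hW'aff', hsW'⟩ := hex
  let V₂ : (V : Scheme.{u}).Opens := σ ⁻¹ᵁ W'
  let j₃ : (V₂ : Scheme.{u}) ⟶ S := V₂.ι ≫ V.ι
  let V₃ : S.Opens := j₃.opensRange
  let W₂ : X.Opens := W' ⊓ f ⁻¹ᵁ V₃
  have hfσ : ∀ v : V, f.base (σ.base v) = V.ι.base v := fun v => by
    rw [← Scheme.Hom.comp_apply, hσ]
  have hV₃ : ∀ v : V, v ∈ V₂ → V.ι.base v ∈ V₃ := by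
    intro v hv
    exact ⟨⟨v, hv⟩, rfl⟩
  have hsW₂ : σ.base s ∈ W₂ := ⟨hsW', by
    change f.base (σ.base s) ∈ V₃
    rw [hfσ]
    exact hV₃ s hsW'⟩
  refine ⟨W₂, hsW₂, ?_⟩
  have hr1 : Set.range (W₂.ι ≫ f).base ⊆ Set.range j₃.base := by
    rintro _ ⟨w, rfl⟩
    exact w.2.2
  let f₂ : (W₂ : Scheme.{u}) ⟶ V₂ := IsOpenImmersion.lift j₃ (W₂.ι ≫ f) hr1
  have hf₂ : f₂ ≫ j₃ = W₂.ι ≫ f := IsOpenImmersion.lift_fac _ _ _
  have hr2 : Set.range (V₂.ι ≫ σ).base ⊆ Set.range W₂.ι.base := by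
    rw [Scheme.Opens.range_ι]
    rintro _ ⟨v, rfl⟩
    refine ⟨v.2, ?_⟩
    change f.base (σ.base (V₂.ι.base v)) ∈ V₃
    rw [hfσ]
    exact hV₃ _ v.2
  let σ₂ : (V₂ : Scheme.{u}) ⟶ W₂ := IsOpenImmersion.lift W₂.ι (V₂.ι ≫ σ) hr2
  have hσ₂ : σ₂ ≫ W₂.ι = V₂.ι ≫ σ := IsOpenImmersion.lift_fac _ _ _
  have h1 : σ₂ ≫ f₂ = 𝟙 _ := by
    rw [← cancel_mono j₃, Category.assoc, hf₂, ← Category.assoc, hσ₂, Category.assoc, hσ,
      Category.id_comp]
  let j : (W₂ : Scheme.{u}) ⟶ W' := X.homOfLE inf_le_left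
  have hj : j ≫ W'.ι = W₂.ι := X.homOfLE_ι _
  let O : (W₂ : Scheme.{u}).Opens := W₂.ι ⁻¹ᵁ (f ⁻¹ᵁ U)
  have hO : CInt.IsSchematicallyDense O := isSchematicallyDense_restrict _ hdense W₂
  have hab : O.ι ≫ (f₂ ≫ σ₂ ≫ j) = O.ι ≫ j := by
    rw [← cancel_mono W'.ι]
    simp only [Category.assoc, hj, hσ₂]
    symm
    apply eq_of_comp_eq_of_isIso_restrict f U hiso
    · simp only [Category.assoc, hσ]
      rw [← hf₂]
    · intro t
      exact t.2
  haveI : IsAffine (W' : Scheme.{u}) := hW'aff'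
  have hsep : IsSeparated (terminal.from (W' : Scheme.{u})) := inferInstance
  have hext : f₂ ≫ σ₂ ≫ j = j :=
    ext_of_isSchematicallyDense (terminal.from (W' : Scheme.{u})) (Subsingleton.elim _ _) O hO hab
  have h2 : f₂ ≫ σ₂ = 𝟙 _ := by
    rw [← cancel_mono W₂.ι, ← hj]
    have := congrArg (fun t => t ≫ W'.ι) hext
    simp only [Category.assoc] at this
    rw [Category.assoc, this, Category.id_comp]
  haveI : IsIso f₂ := ⟨σ₂, h2, h1⟩
  rw [← hf₂]
  infer_instance

/-- Flatness at a point gives an open neighbourhood on which `f` is an open immersion. -/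
theorem exists_isOpenImmersion_of_flat_stalk [IsNoetherian S] [LocallyOfFiniteType f]
    (U : S.Opens) (hiso : IsIso (f ∣_ U)) (hdense : CInt.IsSchematicallyDense (f ⁻¹ᵁ U)) (x : X)
    (hx : (f.stalkMap x).hom.Flat) : ∃ W : X.Opens, x ∈ W ∧ IsOpenImmersion (W.ι ≫ f) := by
  haveI : LocallyOfFinitePresentation f :=
    LocallyOfFinitePresentation.iff_locallyOfFiniteType.mpr inferInstance
  haveI : IsLocallyNoetherian X := LocallyOfFiniteType.isLocallyNoetherian f
  have hopen : IsOpen {y : X | (f.stalkMap y).hom.Flat} := Groth.Agent.S0386.result f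
  obtain ⟨W, hWaff, hxW, hWflat⟩ : ∃ W : X.Opens, IsAffineOpen W ∧ x ∈ W ∧
      (W : Set X) ⊆ {y : X | (f.stalkMap y).hom.Flat} := by
    obtain ⟨_, ⟨W, hWaff, rfl⟩, hxW, hWflat⟩ :=
      X.isBasis_affineOpens.exists_subset_of_mem_open
        (show x ∈ {y : X | (f.stalkMap y).hom.Flat} from hx) hopen
    exact ⟨W, hWaff, hxW, hWflat⟩
  refine ⟨W, hxW, ?_⟩
  haveI : Flat (W.ι ≫ f) := by
    rw [Flat.iff_flat_stalkMap]
    intro w
    have h2 : ((f.stalkMap (W.ι w)) ≫ (W.ι.stalkMap w)).hom.Flat := by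
      rw [CommRingCat.hom_comp]
      refine RingHom.Flat.comp (hWflat w.2) ?_
      exact RingHom.Flat.of_bijective
        ((ConcreteCategory.isIso_iff_bijective (W.ι.stalkMap w)).mp inferInstance)
    rw [Scheme.Hom.stalkMap_comp]
    exact h2
  exact isOpenImmersion_of_flat f U hiso hdense W hWaff

end Groth.Agent.Lib.Seat86.FlatBir
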