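import Mathlib

/-!
# Pure submodules of finite length modules over a DVR split; length counting lemmas
-/

set_option autoImplicit false
set_option linter.style.haveILetI false
set_option linter.unusedSectionVars false

namespace Groth.Agent.Lib.Seat86.PureSplit

open scoped DirectSum

section D

variable {R : Type*} [CommRing R]

/-- `c • X` as a submodule. -/
def D (c : R) (X : Type*) [AddCommGroup X] [Module R X] : Submodule R X :=
  LinearMap.range (c • (LinearMap.id : X →ₗ[R] X))

theorem mem_D {c : R} {X : Type*} [AddCommGroup X] [Module R X] {x : X} :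
    x ∈ D c X ↔ ∃ y : X, c • y = x := by
  rw [D, LinearMap.mem_range]; rfl

theorem smul_mem_D (c : R) {X : Type*} [AddCommGroup X] [Module R X] (y : X) :
    c • y ∈ D c X := mem_D.mpr ⟨y, rfl⟩

theorem mem_D_prod {c : R} {X Y : Type*} [AddCommGroup X] [Module R X] [AddCommGroup Y]
    [Module R Y] {t : X × Y} : t ∈ D c (X × Y) ↔ t.1 ∈ D c X ∧ t.2 ∈ D c Y := by
  simp only [mem_D]
  constructor
  · rintro ⟨y, rfl⟩
    exact ⟨⟨y.1, rfl⟩, ⟨y.2, rfl⟩⟩
  · rintro ⟨⟨a, ha⟩, ⟨b, hb⟩⟩
    exact ⟨(a, b), Prod.ext ha hb⟩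

theorem mem_D_pi {c : R} {ι : Type*} {X : ι → Type*} [∀ i, AddCommGroup (X i)]
    [∀ i, Module R (X i)] {t : (i : ι) → X i} : t ∈ D c ((i : ι) → X i) ↔ ∀ i, t i ∈ D c (X i) := by
  simp only [mem_D]
  constructor
  · rintro ⟨y, rfl⟩ i
    exact ⟨y i, rfl⟩
  · intro h
    choose y hy using h
    exact ⟨y, funext hy⟩

end D

section Nilp

variable {R : Type*} [CommRing R] [IsLocalRing R]

/-- A finite length module over a local ring is killed by a power of any non-unit. -/
theorem exists_pow_smul_eq_zero {N : Type*} [AddCommGroup N] [Module R N]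
    (hN : IsFiniteLength R N) {c : R} (hc : c ∈ IsLocalRing.maximalIdeal R) :
    ∃ n : ℕ, ∀ x : N, c ^ n • x = 0 := by
  obtain ⟨hNoe, hArt⟩ := isFiniteLength_iff_isNoetherian_isArtinian.mp hN
  let f : ℕ →o (Submodule R N)ᵒᵈ :=
    ⟨fun n => OrderDual.toDual (D (c ^ n) N), by
      intro m n hmn
      change D (c ^ n) N ≤ D (c ^ m) N
      intro x hx
      obtain ⟨y, rfl⟩ := mem_D.mp hx
      obtain ⟨d, rfl⟩ := Nat.exists_eq_add_of_le hmn
      rw [pow_add, mul_smul]
      exact smul_mem_D _ _⟩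
  obtain ⟨n, hn⟩ := IsArtinian.monotone_stabilizes f
  have h1 : D (c ^ n) N = D (c ^ (n + 1)) N := by
    have := hn (n + 1) (Nat.le_succ n)
    exact congrArg OrderDual.ofDual this
  have h2 : D (c ^ n) N = ⊥ := by
    refine Submodule.eq_bot_of_le_smul_of_le_jacobson_bot (Ideal.span {c}) _
      (IsNoetherian.noetherian _) ?_ ?_
    · intro x hx
      rw [h1] at hx
      obtain ⟨y, rfl⟩ := mem_D.mp hx
      rw [pow_succ', mul_smul]
      exact Submodule.smul_mem_smul (Ideal.mem_span_singleton_self c) (smul_mem_D _ _)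
    · rw [IsLocalRing.jacobson_eq_maximalIdeal ⊥ bot_ne_top, Ideal.span_le]
      intro a ha
      rw [Set.mem_singleton_iff] at ha
      rw [ha]; exact hc
  refine ⟨n, fun x => ?_⟩
  have : c ^ n • x ∈ D (c ^ n) N := smul_mem_D _ _
  rw [h2] at this
  exact (Submodule.mem_bot R).mp this

end Nilp

section Split

variable {R : Type*} [CommRing R] [IsDomain R] [IsDiscreteValuationRing R]

/-- Over a DVR, a pure map into a finite length module has a complemented range. -/
theorem exists_isCompl_of_pure {ϖ : R} (hϖ : Irreducible ϖ)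
    {N' N : Type*} [AddCommGroup N'] [Module R N'] [AddCommGroup N] [Module R N]
    (hN : IsFiniteLength R N) (α : N' →ₗ[R] N)
    (hpure : ∀ (n : ℕ) (x : N') (y : N), α x = ϖ ^ n • y → ∃ x', x = ϖ ^ n • x') :
    ∃ Q : Submodule R N, IsCompl (LinearMap.range α) Q := by
  classical
  obtain ⟨hNoe, hArt⟩ := isFiniteLength_iff_isNoetherian_isArtinian.mp hN
  have hϖm : ϖ ∈ IsLocalRing.maximalIdeal R := by
    rw [IsLocalRing.mem_maximalIdeal, mem_nonunits_iff]
    exact hϖ.not_isUnit
  obtain ⟨m, hm⟩ := exists_pow_smul_eq_zero hN hϖm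
  -- the quotient
  let C := N ⧸ LinearMap.range α
  have hCtors : Module.IsTorsion R C := by
    intro x
    obtain ⟨y, rfl⟩ := Submodule.Quotient.mk_surjective _ x
    refine ⟨⟨ϖ ^ m, mem_nonZeroDivisors_of_ne_zero (pow_ne_zero _ hϖ.ne_zero)⟩, ?_⟩
    change ϖ ^ m • (Submodule.Quotient.mk y : C) = 0
    rw [← Submodule.Quotient.mk_smul, hm, Submodule.Quotient.mk_zero]
  obtain ⟨ι, _, q, hq, e, ⟨E⟩⟩ := Module.equiv_directSum_of_isTorsion hCtors
  -- generators of the quotient
  let gen : ι → C := fun i =>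
    E.symm (DirectSum.lof R ι (fun i => R ⧸ R ∙ q i ^ e i) i (Submodule.Quotient.mk 1))
  have hgen : ∀ i, q i ^ e i • gen i = 0 := by
    intro i
    change q i ^ e i • E.symm _ = 0
    rw [← map_smul, ← map_smul, ← Submodule.Quotient.mk_smul, smul_eq_mul, mul_one,
      (Submodule.Quotient.mk_eq_zero _).mpr (Submodule.mem_span_singleton_self _), map_zero,
      map_zero]
  -- good lifts
  have hlift : ∀ i, ∃ c : N, Submodule.Quotient.mk c = gen i ∧ q i ^ e i • c = 0 := by
    intro i
    obtain ⟨c, hc⟩ := Submodule.Quotient.mk_surjective _ (gen i)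
    obtain ⟨u, hu⟩ := (IsDiscreteValuationRing.associated_of_irreducible R hϖ (hq i))
    -- hu : ϖ * u = q i
    have h1 : ϖ ^ e i • c ∈ LinearMap.range α := by
      rw [← Submodule.Quotient.mk_eq_zero, Submodule.Quotient.mk_smul, hc]
      have h2 := hgen i
      rw [← hu, mul_pow, mul_smul] at h2
      have h3 : ((u : R) ^ e i) • (ϖ ^ e i • gen i) = ϖ ^ e i • ((u : R) ^ e i • gen i) :=
        smul_comm _ _ _
      have hunit : IsUnit ((u : R) ^ e i) := (u.isUnit).pow _
      rw [← h3] at h2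
      exact (hunit.smul_eq_zero).mp h2
    obtain ⟨x, hx⟩ := h1
    obtain ⟨x', rfl⟩ := hpure (e i) x c hx
    refine ⟨c - α x', ?_, ?_⟩
    · rw [Submodule.Quotient.mk_sub, hc,
        (Submodule.Quotient.mk_eq_zero (LinearMap.range α)).mpr ⟨x', rfl⟩, sub_zero]
    · rw [← hu, mul_pow, mul_smul, smul_comm, smul_sub, ← hx, map_smul, sub_self, smul_zero]
  choose c hc1 hc2 using hlift
  -- the section
  let s : (⨁ i : ι, R ⧸ R ∙ q i ^ e i) →ₗ[R] N :=
    DirectSum.toModule R ι N (fun i =>
      Submodule.liftQ _ (LinearMap.toSpanSingleton R N (c i)) (by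
        rw [Submodule.span_le]
        intro a ha
        rw [Set.mem_singleton_iff] at ha
        rw [ha, SetLike.mem_coe, LinearMap.mem_ker, LinearMap.toSpanSingleton_apply]
        exact hc2 i))
  have hs : (LinearMap.range α).mkQ.comp s = E.symm.toLinearMap := by
    apply DirectSum.linearMap_ext
    intro i
    apply Submodule.linearMap_qext
    apply LinearMap.ext_ring
    simp only [LinearMap.coe_comp, Function.comp_apply, Submodule.mkQ_apply,
      LinearEquiv.coe_coe]
    rw [DirectSum.toModule_lof]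
    rw [Submodule.liftQ_apply, LinearMap.toSpanSingleton_apply, one_smul]
    exact hc1 i
  let σ : C →ₗ[R] N := s.comp E.toLinearMap
  have hσ : ∀ z : C, (LinearMap.range α).mkQ (σ z) = z := by
    intro z
    have := LinearMap.congr_fun hs (E z)
    simpa [σ] using this
  refine ⟨LinearMap.range σ, ?_, ?_⟩
  · rw [Submodule.disjoint_def]
    rintro x hx ⟨z, rfl⟩
    have h1 : (LinearMap.range α).mkQ (σ z) = 0 := by
      rw [Submodule.mkQ_apply, Submodule.Quotient.mk_eq_zero]; exact hx
    rw [hσ] at h1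
    rw [h1, map_zero]
  · rw [codisjoint_iff, eq_top_iff]
    intro x _
    have h1 : x - σ ((LinearMap.range α).mkQ x) ∈ LinearMap.range α := by
      rw [← Submodule.Quotient.mk_eq_zero, Submodule.Quotient.mk_sub, ← Submodule.mkQ_apply,
        ← Submodule.mkQ_apply, hσ, sub_self]
    have h2 : x = (x - σ ((LinearMap.range α).mkQ x)) + σ ((LinearMap.range α).mkQ x) := by abel
    rw [h2]
    exact Submodule.add_mem_sup h1 ⟨_, rfl⟩

end Split

end Groth.Agent.Lib.Seat86.PureSplit
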