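import Mathlib
import Groth.Agent.Lib.Seat86PureSplit

/-!
# Fontaine–Laffaille data: the transition maps are pure (length count)
-/

set_option autoImplicit false
set_option linter.style.haveILetI false
set_option linter.unusedSectionVars false

namespace Groth.Agent.Lib.Seat86.FonLaf

open Groth.Agent.Lib.Seat86.PureSplit

section Length

variable {R : Type*} [CommRing R]

theorem length_eq_of_bijective_semilinear {R₂ : Type*} [CommRing R₂] {σ : R →+* R₂}
    [RingHomSurjective σ] {M M₂ : Type*} [AddCommGroup M] [Module R M] [AddCommGroup M₂]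
    [Module R₂ M₂] (f : M →ₛₗ[σ] M₂) (hf : Function.Bijective f) :
    Module.length R M = Module.length R₂ M₂ := by
  rw [Module.length, Module.length, WithBot.unbot_inj,
    Order.krullDim_eq_of_orderIso (Submodule.orderIsoMapComapOfBijective f hf)]

theorem length_quot_le (σ : R →+* R) [RingHomSurjective σ] (c : R) (hc : σ c = c)
    {S T M : Type*} [AddCommGroup S] [Module R S] [AddCommGroup T] [Module R T]
    [AddCommGroup M] [Module R M]
    (Φ : T →ₛₗ[σ] M) (hΦ : Function.Surjective Φ) (ι : S →ₗ[R] T)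
    (hker : ∀ t, Φ t = 0 → t ∈ LinearMap.range ι) :
    Module.length R (T ⧸ (LinearMap.range ι ⊔ D c T)) ≤ Module.length R (M ⧸ D c M) := by
  set U : Submodule R T := LinearMap.ker Φ ⊔ D c T with hU
  have hUU' : U ≤ LinearMap.range ι ⊔ D c T :=
    sup_le_sup_right (fun t ht => hker t (LinearMap.mem_ker.mp ht)) _
  have h1 : Module.length R (T ⧸ (LinearMap.range ι ⊔ D c T)) ≤ Module.length R (T ⧸ U) :=
    Module.length_le_of_surjective (Submodule.factor hUU') (Submodule.factor_surjective hUU')
  have hcomap : U ≤ Submodule.comap Φ (D c M) := by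
    refine sup_le ?_ ?_
    · intro t ht
      rw [Submodule.mem_comap, LinearMap.mem_ker.mp ht]; exact zero_mem _
    · intro t ht
      obtain ⟨y, rfl⟩ := mem_D.mp ht
      rw [Submodule.mem_comap, map_smulₛₗ, hc]
      exact smul_mem_D _ _
  let Φq : (T ⧸ U) →ₛₗ[σ] (M ⧸ D c M) := Submodule.mapQ U (D c M) Φ hcomap
  have hbij : Function.Bijective Φq := by
    constructor
    · rw [injective_iff_map_eq_zero]
      intro q hq
      obtain ⟨t, rfl⟩ := Submodule.Quotient.mk_surjective _ q
      rw [Submodule.mapQ_apply, Submodule.Quotient.mk_eq_zero] at hq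
      obtain ⟨m, hm⟩ := mem_D.mp hq
      obtain ⟨t', rfl⟩ := hΦ m
      rw [Submodule.Quotient.mk_eq_zero]
      have : t - c • t' ∈ LinearMap.ker Φ := by
        rw [LinearMap.mem_ker, map_sub, map_smulₛₗ, hc, hm, sub_self]
      have h2 : t = (t - c • t') + c • t' := by abel
      rw [h2]
      exact Submodule.add_mem_sup this (smul_mem_D _ _)
    · intro q
      obtain ⟨m, rfl⟩ := Submodule.Quotient.mk_surjective _ q
      obtain ⟨t, rfl⟩ := hΦ m
      exact ⟨Submodule.Quotient.mk t, rfl⟩
  rw [← length_eq_of_bijective_semilinear Φq hbij]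
  exact h1

theorem length_quot_le_self {X : Type*} [AddCommGroup X] [Module R X] (P : Submodule R X) :
    Module.length R (X ⧸ P) ≤ Module.length R X :=
  Module.length_le_of_surjective P.mkQ (Submodule.mkQ_surjective P)

theorem enat_cancel {a b d : ℕ∞} (hb : b ≠ ⊤) (hd : d ≠ ⊤) (h : a + b + d ≤ b + d) : a = 0 := by
  lift b to ℕ using hb
  lift d to ℕ using hd
  rcases eq_or_ne a ⊤ with ha | ha
  · rw [ha, top_add, top_add] at h
    exact absurd h (by simp [← Nat.cast_add])
  · lift a to ℕ using ha
    norm_cast at h ⊢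
    omega

theorem pure_of_length (c : R) {N0 S : Type*} [AddCommGroup N0] [Module R N0]
    [AddCommGroup S] [Module R S]
    (hN0 : IsFiniteLength R N0) (hS : IsFiniteLength R S)
    (ι : S →ₗ[R] N0 × S)
    (hlen : Module.length R ((N0 × S) ⧸ (LinearMap.range ι ⊔ D c (N0 × S))) ≤
      Module.length R (N0 ⧸ D c N0))
    (X : S) (hX : ι X ∈ D c (N0 × S)) : X ∈ D c S := by
  set A : Submodule R (N0 × S) := D c (N0 × S) with hA
  set B : Submodule R S := D c S with hB
  set A0 : Submodule R N0 := D c N0 with hA0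
  have hBA : B ≤ Submodule.comap (LinearMap.inr R N0 S) A := by
    intro Y hY
    rw [Submodule.mem_comap, hA, mem_D_prod]
    exact ⟨zero_mem _, hY⟩
  have hAA0 : A ≤ Submodule.comap (LinearMap.fst R N0 S) A0 := by
    intro t ht
    rw [hA, mem_D_prod] at ht
    exact ht.1
  let f := Submodule.mapQ B A (LinearMap.inr R N0 S) hBA
  let g := Submodule.mapQ A A0 (LinearMap.fst R N0 S) hAA0
  have hf : Function.Injective f := by
    rw [injective_iff_map_eq_zero]
    intro q hq
    obtain ⟨Y, rfl⟩ := Submodule.Quotient.mk_surjective _ q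
    rw [Submodule.mapQ_apply, Submodule.Quotient.mk_eq_zero, hA, mem_D_prod] at hq
    rw [Submodule.Quotient.mk_eq_zero]
    exact hq.2
  have hg : Function.Surjective g := by
    intro q
    obtain ⟨y, rfl⟩ := Submodule.Quotient.mk_surjective _ q
    exact ⟨Submodule.Quotient.mk (y, 0), rfl⟩
  have H : Function.Exact f g := by
    intro q
    obtain ⟨t, rfl⟩ := Submodule.Quotient.mk_surjective _ q
    constructor
    · intro h
      rw [Submodule.mapQ_apply, Submodule.Quotient.mk_eq_zero] at h
      refine ⟨Submodule.Quotient.mk t.2, ?_⟩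
      rw [Submodule.mapQ_apply]
      symm
      rw [Submodule.Quotient.eq, hA, mem_D_prod]
      refine ⟨?_, ?_⟩
      · simpa using h
      · simp
    · rintro ⟨q', hq'⟩
      obtain ⟨Y, rfl⟩ := Submodule.Quotient.mk_surjective _ q'
      rw [← hq', Submodule.mapQ_apply, Submodule.mapQ_apply]
      simp
  have eq1 : Module.length R ((N0 × S) ⧸ A) =
      Module.length R (S ⧸ B) + Module.length R (N0 ⧸ A0) :=
    Module.length_eq_add_of_exact f g hf hg H
  have hBA' : B ≤ Submodule.comap ι A := by
    intro Y hY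
    obtain ⟨Z, rfl⟩ := mem_D.mp hY
    rw [Submodule.mem_comap, map_smul]
    exact smul_mem_D _ _
  let ιq := Submodule.mapQ B A ι hBA'
  have eq2 : Module.length R ((N0 × S) ⧸ A) = Module.length R (LinearMap.range ιq) +
      Module.length R (((N0 × S) ⧸ A) ⧸ LinearMap.range ιq) :=
    Module.length_eq_add_of_exact (LinearMap.range ιq).subtype (LinearMap.range ιq).mkQ
      (Submodule.subtype_injective _) (Submodule.mkQ_surjective _)
      (LinearMap.exact_subtype_mkQ _)
  have eq3 : Module.length R (S ⧸ B) = Module.length R (LinearMap.ker ιq) +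
      Module.length R (LinearMap.range ιq) :=
    Module.length_eq_add_of_exact (LinearMap.ker ιq).subtype ιq.rangeRestrict
      (Submodule.subtype_injective _) (LinearMap.surjective_rangeRestrict ιq) (by
        intro q
        constructor
        · intro h
          refine ⟨⟨q, ?_⟩, rfl⟩
          rw [LinearMap.mem_ker]
          have := congrArg Subtype.val h
          simpa using this
        · rintro ⟨⟨q', hq'⟩, rfl⟩
          apply Subtype.ext
          simpa using hq')
  have hrange : LinearMap.range ιq = (LinearMap.range ι).map A.mkQ := Submodule.range_mapQ _ _ _ _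
  have eq4 : Module.length R (((N0 × S) ⧸ A) ⧸ LinearMap.range ιq) =
      Module.length R ((N0 × S) ⧸ (LinearMap.range ι ⊔ A)) := by
    rw [(Submodule.quotEquivOfEq _ _ hrange).length_eq,
      (Submodule.quotientQuotientEquivQuotientSup A (LinearMap.range ι)).length_eq,
      (Submodule.quotEquivOfEq _ _ (sup_comm A (LinearMap.range ι))).length_eq]
  have hfinA0 : Module.length R (N0 ⧸ A0) ≠ ⊤ :=
    ne_top_of_le_ne_top (Module.length_ne_top_iff.mpr hN0) (length_quot_le_self A0)
  have hfinSB : Module.length R (S ⧸ B) ≠ ⊤ :=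
    ne_top_of_le_ne_top (Module.length_ne_top_iff.mpr hS) (length_quot_le_self B)
  have hfinR : Module.length R (LinearMap.range ιq) ≠ ⊤ := by
    refine ne_top_of_le_ne_top hfinSB ?_
    rw [eq3]; exact le_add_self
  have hker0 : Module.length R (LinearMap.ker ιq) = 0 := by
    refine enat_cancel hfinR hfinA0 ?_
    calc Module.length R (LinearMap.ker ιq) + Module.length R (LinearMap.range ιq) +
          Module.length R (N0 ⧸ A0)
        = Module.length R ((N0 × S) ⧸ A) := by rw [eq1, eq3]
      _ = Module.length R (LinearMap.range ιq) +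
          Module.length R ((N0 × S) ⧸ (LinearMap.range ι ⊔ A)) := by rw [eq2, eq4]
      _ ≤ Module.length R (LinearMap.range ιq) + Module.length R (N0 ⧸ A0) := by
          gcongr
  have hsub : Subsingleton (LinearMap.ker ιq) := Module.length_eq_zero_iff.mp hker0
  have hmem : (Submodule.Quotient.mk X : S ⧸ B) ∈ LinearMap.ker ιq := by
    rw [LinearMap.mem_ker, Submodule.mapQ_apply, Submodule.Quotient.mk_eq_zero]
    exact hX
  have := congrArg Subtype.val (Subsingleton.elim (⟨_, hmem⟩ : LinearMap.ker ιq) 0)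
  simp only [ZeroMemClass.coe_zero] at this
  exact (Submodule.Quotient.mk_eq_zero B).mp this

end Length


section FL

universe u v

variable {R : Type u} [CommRing R] (σ : R →+* R) [RingHomSurjective σ] (c : R)
  (r : ℕ) (N : ℕ → Type v) [∀ i, AddCommGroup (N i)] [∀ i, Module R (N i)]

/-- the source of the glueing map -/
abbrev SS : Type v := (j : Fin r) → N ((j : ℕ) + 1)

/-- the target of the glueing map -/
abbrev TT : Type v := N 0 × SS r N

variable {N}

/-- extension by zero -/
noncomputable def extL (i : ℕ) : SS r N →ₗ[R] N (i + 1) :=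
  if h : i < r then (LinearMap.proj (⟨i, h⟩ : Fin r) : SS r N →ₗ[R] N (i + 1)) else 0

theorem extL_apply (i : ℕ) (X : SS r N) :
    extL (R := R) r i X = if h : i < r then X ⟨i, h⟩ else 0 := by
  unfold extL
  split_ifs <;> rfl

theorem extL_fun (z : (i : ℕ) → N (i + 1)) (hz : ∀ i, r ≤ i → z i = 0) (i : ℕ) :
    extL (R := R) r i (fun j : Fin r => z j) = z i := by
  rw [extL_apply]
  split_ifs with h
  · rfl
  · exact (hz i (not_lt.mp h)).symm

/-- the components of an element of the target -/
noncomputable def famL : (i : ℕ) → TT r N →ₗ[R] N i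
  | 0 => LinearMap.fst R (N 0) (SS r N)
  | (i + 1) => (extL r i).comp (LinearMap.snd R (N 0) (SS r N))

theorem famL_zero (t : TT r N) : famL (R := R) r 0 t = t.1 := rfl

theorem famL_succ (i : ℕ) (t : TT r N) :
    famL (R := R) r (i + 1) t = if h : i < r then t.2 ⟨i, h⟩ else 0 := by
  change extL (R := R) r i t.2 = _
  rw [extL_apply]

variable (α : ∀ i, N (i + 1) →ₗ[R] N i) (φ : ∀ i, N i →ₛₗ[σ] N 0)

/-- the glueing map `ι` -/
noncomputable def iotaL : SS r N →ₗ[R] TT r N :=
  LinearMap.prod ((α 0).comp (extL r 0))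
    (LinearMap.pi (fun j : Fin r =>
      (α ((j : ℕ) + 1)).comp (extL r ((j : ℕ) + 1)) - c • LinearMap.proj j))

theorem iotaL_fst (X : SS r N) : (iotaL c r α X).1 = α 0 (extL (R := R) r 0 X) := rfl

theorem iotaL_snd (X : SS r N) (j : Fin r) :
    (iotaL c r α X).2 j = α ((j : ℕ) + 1) (extL (R := R) r ((j : ℕ) + 1) X) - c • X j := rfl

/-- the semilinear map `Φ` -/
noncomputable def PhiL : TT r N →ₛₗ[σ] N 0 :=
  ∑ i ∈ Finset.range (r + 1), (φ i).comp (famL r i)

theorem PhiL_apply (t : TT r N) :
    PhiL σ r φ t = ∑ i ∈ Finset.range (r + 1), φ i (famL (R := R) r i t) := by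
  rw [PhiL, LinearMap.sum_apply]
  rfl

variable (hsurj : ∀ m : N 0, ∃ y : (i : ℕ) → N i, (∀ i, r < i → y i = 0) ∧
      (Finset.range (r + 1)).sum (fun i => φ i (y i)) = m)
    (hker : ∀ y : (i : ℕ) → N i, (∀ i, r < i → y i = 0) →
      (Finset.range (r + 1)).sum (fun i => φ i (y i)) = 0 →
        ∃ z : (i : ℕ) → N (i + 1), (∀ i, r ≤ i → z i = 0) ∧
          y 0 = α 0 (z 0) ∧ ∀ i, y (i + 1) = α (i + 1) (z (i + 1)) - c • z i)

include hsurj in
theorem PhiL_surjective : Function.Surjective (PhiL σ r φ) := by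
  intro m
  obtain ⟨y, hy0, hy⟩ := hsurj m
  refine ⟨(y 0, fun j => y ((j : ℕ) + 1)), ?_⟩
  rw [PhiL_apply, ← hy]
  refine Finset.sum_congr rfl fun i hi => ?_
  rw [Finset.mem_range] at hi
  congr 1
  cases i with
  | zero => rfl
  | succ i =>
    rw [famL_succ, dif_pos (by omega)]

include hker in
theorem ker_PhiL_le (t : TT r N) (ht : PhiL σ r φ t = 0) :
    t ∈ LinearMap.range (iotaL c r α) := by
  have hy0 : ∀ i, r < i → famL (R := R) r i t = 0 := by
    intro i hi
    cases i with
    | zero => omega
    | succ i => rw [famL_succ, dif_neg (by omega)]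
  have hy : (Finset.range (r + 1)).sum (fun i => φ i (famL (R := R) r i t)) = 0 := by
    rw [← PhiL_apply, ht]
  obtain ⟨z, hz, h0, hsucc⟩ := hker (fun i => famL (R := R) r i t) hy0 hy
  refine ⟨fun j : Fin r => z j, ?_⟩
  refine Prod.ext ?_ (funext fun j => ?_)
  · rw [iotaL_fst, extL_fun r z hz, ← h0, famL_zero]
  · rw [iotaL_snd, extL_fun r z hz, ← hsucc, famL_succ, dif_pos j.2]

variable (hc : σ c = c) (hfl : ∀ i, IsFiniteLength R (N i))

include hsurj hker hc hfl in
/-- purity of the transition maps -/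
theorem pure_alpha (n : ℕ) : ∀ (i : ℕ) (_ : i < r) (x : N (i + 1)),
    α i x ∈ D (c ^ n) (N i) → x ∈ D (c ^ n) (N (i + 1)) := by
  classical
  haveI : ∀ i, IsNoetherian R (N i) := fun i =>
    (isFiniteLength_iff_isNoetherian_isArtinian.mp (hfl i)).1
  haveI : ∀ i, IsArtinian R (N i) := fun i =>
    (isFiniteLength_iff_isNoetherian_isArtinian.mp (hfl i)).2
  have hS : IsFiniteLength R (SS r N) :=
    isFiniteLength_iff_isNoetherian_isArtinian.mpr ⟨inferInstance, inferInstance⟩
  have hpure : ∀ (n : ℕ) (X : SS r N), iotaL c r α X ∈ D (c ^ n) (TT r N) →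
      X ∈ D (c ^ n) (SS r N) := fun n =>
    pure_of_length (c ^ n) (hfl 0) hS (iotaL c r α)
      (length_quot_le σ (c ^ n) (by rw [map_pow, hc]) (PhiL σ r φ)
        (PhiL_surjective σ r φ hsurj) (iotaL c r α) (ker_PhiL_le σ c r α φ hker))
  induction n with
  | zero =>
    intro i _ x _
    exact mem_D.mpr ⟨x, by simp⟩
  | succ n ih =>
    intro i hi x hx
    obtain ⟨y, hy⟩ := mem_D.mp hx
    have hxn : x ∈ D (c ^ n) (N (i + 1)) := by
      refine ih i hi x (mem_D.mpr ⟨c • y, ?_⟩)
      rw [← hy, pow_succ, mul_smul]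
    obtain ⟨x', rfl⟩ := mem_D.mp hxn
    set X : SS r N := Pi.single (⟨i, hi⟩ : Fin r) (c ^ n • x') with hXdef
    have hstar : ∀ i', α i' (extL (R := R) r i' X) ∈ D (c ^ (n + 1)) (N i') := by
      intro i'
      rw [extL_apply]
      split_ifs with h
      · by_cases e : i' = i
        · subst e
          rw [hXdef, Pi.single_eq_same]
          exact hx
        · rw [hXdef, Pi.single_eq_of_ne (by
            intro hh
            exact e (congrArg Fin.val hh)), map_zero]
          exact zero_mem _
      · rw [map_zero]; exact zero_mem _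
    have hmem : iotaL c r α X ∈ D (c ^ (n + 1)) (TT r N) := by
      rw [mem_D_prod, mem_D_pi]
      refine ⟨?_, fun j => ?_⟩
      · rw [iotaL_fst]; exact hstar 0
      · rw [iotaL_snd]
        refine sub_mem (hstar _) ?_
        by_cases e : j = ⟨i, hi⟩
        · subst e
          rw [hXdef, Pi.single_eq_same]
          exact mem_D.mpr ⟨x', by rw [pow_succ', mul_smul]⟩
        · rw [hXdef, Pi.single_eq_of_ne e, smul_zero]
          exact zero_mem _
    have := (mem_D_pi.mp (hpure (n + 1) X hmem)) ⟨i, hi⟩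
    rw [hXdef, Pi.single_eq_same] at this
    exact this

end FL

end Groth.Agent.Lib.Seat86.FonLaf
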