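import Mathlib

/-!
# Numbers of generators of fibres of a finite module

* `finrank_tensor_le_of_span_tensor_quotient` (upper semicontinuity of the fibre dimension): if
  `M/mM` is spanned by `t` elements for a maximal ideal `m` of `B`, then `F ⊗ M` has dimension `≤ t`
  for every field `F` over `B` in which no element of `1 + m` vanishes.
* `exists_finset_span_eq_top_of_finrank_le`: over a local ring, a finite module whose fibre at the
  residue field has dimension `≤ t` is generated by at most `t` elements.
-/

set_option autoImplicit false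
universe u v w

namespace Groth.Agent.Lib.Seat86.GenBound

open TensorProduct

/-- upper semicontinuity of the fibre dimension of a finite module -/
theorem finrank_tensor_le_of_span_tensor_quotient {B : Type u} [CommRing B] {M : Type v}
    [AddCommGroup M] [Module B M] [Module.Finite B M] (m : Ideal B) [m.IsMaximal]
    (F : Type w) [Field F] [Algebra B F]
    (hF : ∀ s : B, s - 1 ∈ m → algebraMap B F s ≠ 0) (t : ℕ)
    (S : Finset ((B ⧸ m) ⊗[B] M)) (hS : S.card ≤ t)
    (hspan : Submodule.span (B ⧸ m) (S : Set ((B ⧸ m) ⊗[B] M)) = ⊤) :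
    Module.finrank F (F ⊗[B] M) ≤ t := by
  classical
  have hsurj := TensorProduct.mk_surjective B M (B ⧸ m) Ideal.Quotient.mk_surjective
  choose x hx using hsurj
  set N : Submodule B M := Submodule.span B (x '' (S : Set ((B ⧸ m) ⊗[B] M))) with hN
  -- the quotient `Q = M/N` satisfies `Q = mQ`
  have hQ : Subsingleton ((B ⧸ m) ⊗[B] (M ⧸ N)) := by
    have hsurj2 : Function.Surjective (LinearMap.baseChange (B ⧸ m) N.mkQ) :=
      LinearMap.lTensor_surjective _ N.mkQ_surjective
    have hzero : LinearMap.baseChange (B ⧸ m) N.mkQ = 0 := by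
      apply LinearMap.ext_on hspan
      intro σ hσ
      · simp only [LinearMap.zero_apply]
        rw [← hx σ]
        simp only [TensorProduct.mk_apply, LinearMap.baseChange_tmul, Submodule.mkQ_apply]
        have : (Submodule.Quotient.mk (x σ) : M ⧸ N) = 0 := by
          rw [Submodule.Quotient.mk_eq_zero]
          exact Submodule.subset_span ⟨σ, hσ, rfl⟩
        rw [this, TensorProduct.tmul_zero]
    refine ⟨fun a b => ?_⟩
    obtain ⟨a', rfl⟩ := hsurj2 a
    obtain ⟨b', rfl⟩ := hsurj2 b
    rw [hzero]; rfl
  have htop : m • (⊤ : Submodule B (M ⧸ N)) = ⊤ := by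
    have : Subsingleton ((M ⧸ N) ⧸ (m • (⊤ : Submodule B (M ⧸ N)))) :=
      (TensorProduct.quotTensorEquivQuotSMul (M ⧸ N) m).symm.toEquiv.subsingleton
    exact Submodule.Quotient.subsingleton_iff.mp this
  obtain ⟨r, hr1, hr2⟩ := Submodule.exists_sub_one_mem_and_smul_eq_zero_of_fg_of_le_smul m
    (⊤ : Submodule B (M ⧸ N)) Module.Finite.fg_top (by rw [htop])
  have hrN : ∀ y : M, r • y ∈ N := by
    intro y
    have := hr2 (Submodule.Quotient.mk y) Submodule.mem_top
    rwa [← Submodule.Quotient.mk_smul, Submodule.Quotient.mk_eq_zero] at this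
  have hr0 : algebraMap B F r ≠ 0 := hF r hr1
  -- the elements `1 ⊗ x σ` span `F ⊗ M`
  let v : S → F ⊗[B] M := fun σ => (1 : F) ⊗ₜ[B] x σ
  have hv : Submodule.span F (Set.range v) = ⊤ := by
    rw [eq_top_iff]
    have h1 : ∀ y ∈ N, (1 : F) ⊗ₜ[B] y ∈ Submodule.span F (Set.range v) := by
      intro y hy
      rw [hN] at hy
      induction hy using Submodule.span_induction with
      | mem y hy =>
        obtain ⟨σ, hσ, rfl⟩ := hy
        exact Submodule.subset_span ⟨⟨σ, hσ⟩, rfl⟩
      | zero => rw [TensorProduct.tmul_zero]; exact Submodule.zero_mem _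
      | add y z _ _ hy hz => rw [TensorProduct.tmul_add]; exact Submodule.add_mem _ hy hz
      | smul b y _ hy =>
        have : (1 : F) ⊗ₜ[B] (b • y) = algebraMap B F b • ((1 : F) ⊗ₜ[B] y) := by
          rw [TensorProduct.smul_tmul', smul_eq_mul, mul_one, ← TensorProduct.smul_tmul,
            Algebra.smul_def, mul_one]
        rw [this]
        exact Submodule.smul_mem _ _ hy
    rintro z -
    induction z using TensorProduct.induction_on with
    | zero => exact Submodule.zero_mem _
    | add a b ha hb => exact Submodule.add_mem _ ha hb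
    | tmul f y =>
      have h2 : f ⊗ₜ[B] y = (f * (algebraMap B F r)⁻¹) • ((1 : F) ⊗ₜ[B] (r • y)) := by
        rw [← TensorProduct.smul_tmul, TensorProduct.smul_tmul']
        congr 1
        rw [Algebra.smul_def r (1 : F), mul_one, smul_eq_mul, mul_assoc, inv_mul_cancel₀ hr0,
          mul_one]
      rw [h2]
      exact Submodule.smul_mem _ _ (h1 _ (hrN y))
  have := finrank_le_of_span_eq_top (R := F) hv
  rw [Fintype.card_coe] at this
  exact this.trans hS

/-- over a local ring, a finite module whose fibre at the residue field has dimension `≤ t` is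
generated by at most `t` elements -/
theorem exists_finset_span_eq_top_of_finrank_le {R : Type u} [CommRing R] [IsLocalRing R]
    {M : Type v} [AddCommGroup M] [Module R M] [Module.Finite R M] (t : ℕ)
    (h : Module.finrank (IsLocalRing.ResidueField R) (IsLocalRing.ResidueField R ⊗[R] M) ≤ t) :
    ∃ s : Finset M, s.card ≤ t ∧ Submodule.span R (s : Set M) = ⊤ := by
  classical
  let b := Module.finBasis (IsLocalRing.ResidueField R) (IsLocalRing.ResidueField R ⊗[R] M)
  have hsurj := TensorProduct.mk_surjective R M (IsLocalRing.ResidueField R)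
    IsLocalRing.residue_surjective
  choose x hx using hsurj
  let f : Fin (Module.finrank (IsLocalRing.ResidueField R) (IsLocalRing.ResidueField R ⊗[R] M)) → M :=
    fun i => x (b i)
  have hspan := IsLocalRing.span_eq_top_of_tmul_eq_basis f b (fun i => hx (b i))
  refine ⟨Finset.univ.image f, ?_, ?_⟩
  · exact (Finset.card_image_le).trans (by simpa using h)
  · rw [Finset.coe_image, Finset.coe_univ, Set.image_univ]
    exact hspan

end Groth.Agent.Lib.Seat86.GenBound
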