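import Mathlib
import Groth.Prelude.Def_GrLC

/-!
# Converting gradings by arbitrary additive subgroup classes to `AddSubgroup` gradings (seat 86)

The graded local cohomology libraries (and S13215, S13224, S13243, …) are stated for gradings
`𝒜 : ι → AddSubgroup R`, `ℳ : ι → AddSubgroup M`, whereas some rows use `ι → Submodule k R`.
For `𝒳 : ι → τ` (`[SetLike τ X] [AddSubgroupClass τ X]`) we put `addGr 𝒳 n = AddSubgroup.ofClass (𝒳 n)`
and transport: decompositions, graded rings, graded scalar multiplication, `GMod`, *injectivity,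
*injective resolutions (`convRes`) and homogeneous ideals (`convIdeal`).  The graded local
cohomology `(convRes E).H (convIdeal a) i` is *definitionally* `E.H a i`, with the same pieces.
-/

set_option autoImplicit false
set_option linter.style.haveILetI false
set_option linter.unusedSectionVars false
open DirectSum

noncomputable section

namespace Groth.Agent.Lib.Seat86.GrConv

universe u

variable {ι : Type} [AddCommGroup ι] [DecidableEq ι]

section AddGr

variable {X : Type u} [AddCommGroup X] {τ : Type u} [SetLike τ X] [AddSubgroupClass τ X]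

/-- The same family of pieces, as additive subgroups. -/
def addGr (𝒳 : ι → τ) : ι → AddSubgroup X := fun n => AddSubgroup.ofClass (𝒳 n)

theorem mem_addGr (𝒳 : ι → τ) (n : ι) (x : X) : x ∈ addGr 𝒳 n ↔ x ∈ 𝒳 n := Iff.rfl

/-- The identity between pieces. -/
def toPiece (𝒳 : ι → τ) (i : ι) : 𝒳 i →+ addGr 𝒳 i where
  toFun x := ⟨x.1, x.2⟩
  map_zero' := rfl
  map_add' _ _ := rfl

@[instance_reducible]
instance instDecAddGr (𝒳 : ι → τ) [DirectSum.Decomposition 𝒳] :
    DirectSum.Decomposition (addGr 𝒳) :=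
  DirectSum.Decomposition.ofAddHom (addGr 𝒳)
    ((DFinsupp.mapRange.addMonoidHom (toPiece 𝒳)).comp
      (DirectSum.decomposeAddEquiv 𝒳).toAddMonoidHom)
    (by
      ext x
      simp only [AddMonoidHom.coe_comp, Function.comp_apply, AddMonoidHom.id_apply]
      have h1 : ∀ d : ⨁ i, 𝒳 i, DirectSum.coeAddMonoidHom (addGr 𝒳)
          (DFinsupp.mapRange.addMonoidHom (toPiece 𝒳) d) = DirectSum.coeAddMonoidHom 𝒳 d := by
        intro d
        induction d using DirectSum.induction_on with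
        | zero => simp
        | of i y =>
          rw [DirectSum.coeAddMonoidHom_of]
          change DirectSum.coeAddMonoidHom (addGr 𝒳)
            (DFinsupp.mapRange.addMonoidHom (toPiece 𝒳) (DFinsupp.single i y)) = _
          rw [DFinsupp.mapRange.addMonoidHom_apply, DFinsupp.mapRange_single]
          exact DirectSum.coeAddMonoidHom_of (addGr 𝒳) i _
        | add x y hx hy => rw [map_add, map_add, hx, hy, map_add]
      have h2 := h1 (DirectSum.decompose 𝒳 x)
      exact h2.trans (DirectSum.Decomposition.left_inv x))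
    (by
      refine DirectSum.addHom_ext fun i z => ?_
      simp only [AddMonoidHom.coe_comp, Function.comp_apply, AddMonoidHom.id_apply]
      rw [DirectSum.coeAddMonoidHom_of]
      have hz : (z : X) ∈ 𝒳 i := z.2
      change DFinsupp.mapRange.addMonoidHom (toPiece 𝒳) (DirectSum.decompose 𝒳 (z : X)) = _
      rw [DirectSum.decompose_of_mem 𝒳 hz]
      change DFinsupp.mapRange.addMonoidHom (toPiece 𝒳) (DFinsupp.single i _) = _
      rw [DFinsupp.mapRange.addMonoidHom_apply, DFinsupp.mapRange_single]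
      rfl)

theorem coe_decompose_addGr (𝒳 : ι → τ) [DirectSum.Decomposition 𝒳] (x : X) (i : ι) :
    ((decompose (addGr 𝒳) x) i : X) = ((decompose 𝒳 x) i : X) := rfl

end AddGr

variable {R : Type u} [CommRing R] {σ : Type u} [SetLike σ R] [AddSubgroupClass σ R]

instance instGradedRingAddGr (𝒜 : ι → σ) [GradedRing 𝒜] : GradedRing (addGr 𝒜) :=
  { instDecAddGr 𝒜 with
    one_mem := SetLike.GradedOne.one_mem (A := 𝒜)
    mul_mem := fun _ _ _ _ ha hb => SetLike.GradedMul.mul_mem (A := 𝒜) ha hb }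

section SMul

variable {M : Type u} [AddCommGroup M] [Module R M] {τ : Type u} [SetLike τ M]
  [AddSubgroupClass τ M]

instance instGSMulAddGrRight (𝒜 : ι → σ) (ℳ : ι → τ) [SetLike.GradedSMul 𝒜 ℳ] :
    SetLike.GradedSMul 𝒜 (addGr ℳ) :=
  ⟨fun _ _ _ _ hr hx => SetLike.GradedSMul.smul_mem (A := 𝒜) (B := ℳ) hr hx⟩

instance instGSMulAddGrLeft (𝒜 : ι → σ) (ℳ : ι → τ) [SetLike.GradedSMul 𝒜 ℳ] :
    SetLike.GradedSMul (addGr 𝒜) ℳ :=
  ⟨fun _ _ _ _ hr hx => SetLike.GradedSMul.smul_mem (A := 𝒜) (B := ℳ) hr hx⟩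

end SMul

variable {𝒜 : ι → σ} [GradedRing 𝒜]

/-- A graded module over `𝒜` as a graded module over `addGr 𝒜`. -/
def convGMod (X : GrLC.GMod.{u} 𝒜) : GrLC.GMod.{u} (addGr 𝒜) :=
  { carrier := X.carrier, gr := X.gr }

/-- A graded module over `addGr 𝒜` as a graded module over `𝒜`. -/
def unconvGMod (Y : GrLC.GMod.{u} (addGr 𝒜)) : GrLC.GMod.{u} 𝒜 :=
  { carrier := Y.carrier, gr := Y.gr
    gsmul := ⟨fun _ _ _ _ hr hx => SetLike.GradedSMul.smul_mem (A := addGr 𝒜) (B := Y.gr) hr hx⟩ }

theorem isStarInj_conv (X : GrLC.GMod.{u} 𝒜) (hX : GrLC.IsStarInj 𝒜 X.gr) :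
    GrLC.IsStarInj (addGr 𝒜) (convGMod X).gr := by
  intro A B f hf hinj g hg
  exact hX (unconvGMod A) (unconvGMod B) f hf hinj g hg

variable {M : Type u} [AddCommGroup M] [Module R M] {τ : Type u} [SetLike τ M]
  [AddSubgroupClass τ M] {ℳ : ι → τ} [DirectSum.Decomposition ℳ] [SetLike.GradedSMul 𝒜 ℳ]

/-- The same *injective resolution, over the `AddSubgroup` gradings. -/
def convRes (E : GrLC.StarInjRes 𝒜 ℳ) : GrLC.StarInjRes (addGr 𝒜) (addGr ℳ) where
  X n := convGMod (E.X n)
  d := E.d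
  ε := E.ε
  d_grHom := E.d_grHom
  ε_grHom := E.ε_grHom
  ε_injective := E.ε_injective
  exact_zero := E.exact_zero
  exact_succ := E.exact_succ
  starInj n := isStarInj_conv (E.X n) (E.starInj n)

/-- The same homogeneous ideal, over the `AddSubgroup` grading. -/
def convIdeal (a : HomogeneousIdeal 𝒜) : HomogeneousIdeal (addGr 𝒜) :=
  ⟨a.toIdeal, fun i _ hr => a.isHomogeneous i hr⟩

theorem convIdeal_toIdeal (a : HomogeneousIdeal 𝒜) : (convIdeal a).toIdeal = a.toIdeal := rfl

/-- The converted cohomology is the same type. -/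
theorem H_conv (E : GrLC.StarInjRes 𝒜 ℳ) (a : HomogeneousIdeal 𝒜) (i : ℕ) :
    (convRes E).H (convIdeal a) i = E.H a i := rfl

theorem mem_Hgr_conv_iff (E : GrLC.StarInjRes 𝒜 ℳ) (a : HomogeneousIdeal 𝒜) (i : ℕ) (g : ι)
    (z : E.H a i) :
    (show (convRes E).H (convIdeal a) i from z) ∈ (convRes E).Hgr (convIdeal a) i g ↔
      z ∈ E.Hgr a i g := Iff.rfl

theorem Hcomp_eq_bot_of_conv (E : GrLC.StarInjRes 𝒜 ℳ) (a : HomogeneousIdeal 𝒜) (i : ℕ) (g : ι)
    (h : ∀ z ∈ (convRes E).Hgr (convIdeal a) i g, z = 0) : E.Hcomp a i g = ⊥ := by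
  rw [eq_bot_iff]
  intro z hz
  exact (Submodule.mem_bot _).mpr (h z hz)

theorem conv_eq_zero_of_Hcomp_eq_bot (E : GrLC.StarInjRes 𝒜 ℳ) (a : HomogeneousIdeal 𝒜) (i : ℕ)
    (g : ι) (h : E.Hcomp a i g = ⊥) :
    ∀ z ∈ (convRes E).Hgr (convIdeal a) i g, z = 0 := by
  intro z hz
  have hz' : (show E.H a i from z) ∈ E.Hcomp a i g := hz
  rw [h] at hz'
  exact (Submodule.mem_bot _).mp hz'

end Groth.Agent.Lib.Seat86.GrConv
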