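import Mathlib
import Groth.Agent.Lib.Helper29GrBaer
import Groth.Agent.Lib.Helper29GrSub
import Groth.Agent.Lib.Helper29GrEss
import Groth.Agent.S13220
import Groth.Prelude.Def_Wider

/-! A `*`injective hull of `R ⧸ m` for a graded maximal ideal `m` is an ordinary injective hull
(seat 86).  The ungraded core: a module which is `𝔪`-power torsion (for a maximal ideal `𝔪` of a
Noetherian ring) and has the Baer extension property against the single ideal `𝔪` is injective. -/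

set_option autoImplicit false
set_option linter.style.haveILetI false
set_option linter.unusedSectionVars false

universe u

namespace Groth.Agent.Lib.Seat86.GrInjHull

section Baer

variable {R : Type u} [CommRing R] [IsNoetherianRing R] (𝔪 : Ideal R)
variable {E : Type u} [AddCommGroup E] [Module R E]

/-- A uniform torsion exponent on the image of a linear map out of an ideal. -/
theorem exists_pow_smul_eq_zero (htors : ∀ x : E, ∃ n : ℕ, ∀ r ∈ 𝔪 ^ n, r • x = 0)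
    (N : Ideal R) (g : N →ₗ[R] E) : ∃ k : ℕ, ∀ x : N, ∀ r ∈ 𝔪 ^ k, r • g x = 0 := by
  classical
  choose nfun hnfun using htors
  obtain ⟨s, hs⟩ := (inferInstance : Module.Finite R N).fg_top
  refine ⟨s.sup (fun a => nfun (g a)), fun x r hr => ?_⟩
  have hx : x ∈ Submodule.span R (s : Set N) := hs ▸ Submodule.mem_top
  induction hx using Submodule.span_induction with
  | mem a ha =>
    exact hnfun (g a) r
      (Ideal.pow_le_pow_right (Finset.le_sup (f := fun a => nfun (g a)) ha) hr)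
  | zero => rw [map_zero, smul_zero]
  | add a b _ _ iha ihb => rw [map_add, smul_add, iha, ihb, add_zero]
  | smul c a _ iha => rw [map_smul, smul_comm, iha, smul_zero]

/-- Artin–Rees: a linear map from an ideal `N` into an `𝔪`-power torsion module vanishes on
`N ⊓ 𝔪 ^ n` for `n` large. -/
theorem exists_pow_vanish (htors : ∀ x : E, ∃ n : ℕ, ∀ r ∈ 𝔪 ^ n, r • x = 0)
    (N : Ideal R) (g : N →ₗ[R] E) :
    ∃ n : ℕ, ∀ x (hx : x ∈ N), x ∈ 𝔪 ^ n → g ⟨x, hx⟩ = 0 := by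
  obtain ⟨k, hk⟩ := exists_pow_smul_eq_zero 𝔪 htors N g
  obtain ⟨c, hc⟩ := Ideal.exists_pow_inf_eq_pow_smul 𝔪 (N : Submodule R R)
  have key : ∀ x ∈ (𝔪 ^ k • (N : Submodule R R)), ∃ hx : x ∈ N, g ⟨x, hx⟩ = 0 := by
    intro x hx
    refine Submodule.smul_induction_on hx ?_ ?_
    · intro r hr n hn
      refine ⟨N.smul_mem r hn, ?_⟩
      have h1 : (⟨r • n, N.smul_mem r hn⟩ : N) = r • (⟨n, hn⟩ : N) := rfl
      rw [h1, map_smul]
      exact hk ⟨n, hn⟩ r hr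
    · rintro a b ⟨ha, ha'⟩ ⟨hb, hb'⟩
      refine ⟨N.add_mem ha hb, ?_⟩
      have h1 : (⟨a + b, N.add_mem ha hb⟩ : N) = (⟨a, ha⟩ : N) + ⟨b, hb⟩ := rfl
      rw [h1, map_add, ha', hb', add_zero]
  refine ⟨c + k, fun x hx hxm => ?_⟩
  have h1 : x ∈ (𝔪 ^ (c + k) • (⊤ : Submodule R R) ⊓ N : Submodule R R) := by
    refine ⟨?_, hx⟩
    have : 𝔪 ^ (c + k) • (⊤ : Submodule R R) = 𝔪 ^ (c + k) := by
      rw [smul_eq_mul, Ideal.mul_top]
    rw [this]
    exact hxm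
  rw [hc (c + k) (by omega)] at h1
  have h2 : x ∈ 𝔪 ^ k • (N : Submodule R R) := by
    have hck : c + k - c = k := by omega
    rw [hck] at h1
    exact Submodule.smul_mono le_rfl inf_le_right h1
  obtain ⟨hx', h0⟩ := key x h2
  exact h0

/-- If `𝔪 ^ n ≤ N ≠ ⊤` there is `y ∉ N` with `𝔪 y ⊆ N`. -/
theorem exists_socle (n : ℕ) (N : Ideal R) (hle : 𝔪 ^ n ≤ N) (hN : N ≠ ⊤) :
    ∃ y : R, y ∉ N ∧ ∀ a ∈ 𝔪, a * y ∈ N := by
  classical
  have hex : ∃ j, 𝔪 ^ j ≤ N := ⟨n, hle⟩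
  have hj : 𝔪 ^ Nat.find hex ≤ N := Nat.find_spec hex
  have hj0 : Nat.find hex ≠ 0 := by
    intro h0
    apply hN
    rw [h0, pow_zero, Ideal.one_eq_top] at hj
    exact eq_top_iff.mpr hj
  obtain ⟨i, hi⟩ : ∃ i, Nat.find hex = i + 1 := Nat.exists_eq_succ_of_ne_zero hj0
  have hnot : ¬ 𝔪 ^ i ≤ N := Nat.find_min hex (by omega)
  obtain ⟨y, hy𝔪, hyN⟩ := SetLike.not_le_iff_exists.mp hnot
  refine ⟨y, hyN, fun a ha => hj ?_⟩
  rw [hi, pow_succ']
  exact Ideal.mul_mem_mul ha hy𝔪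

variable [𝔪.IsMaximal]

/-- With `y` as in `exists_socle`, `(N : y) = 𝔪`. -/
theorem mem_of_mul_mem (N : Ideal R) (y : R) (hyN : y ∉ N) (hy : ∀ a ∈ 𝔪, a * y ∈ N)
    (c : R) (hc : c * y ∈ N) : c ∈ 𝔪 := by
  by_contra hcm
  obtain ⟨s, i, hi, hsi⟩ := Ideal.IsMaximal.exists_inv (inferInstance : 𝔪.IsMaximal) hcm
  apply hyN
  have h1 : y = s * (c * y) + i * y := by
    calc y = 1 * y := (one_mul y).symm
      _ = (s * c + i) * y := by rw [hsi]
      _ = s * (c * y) + i * y := by ring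
  rw [h1]
  exact N.add_mem (N.mul_mem_left s hc) (hy i hi)

/-- One extension step. -/
theorem exists_gt (htors : ∀ x : E, ∃ n : ℕ, ∀ r ∈ 𝔪 ^ n, r • x = 0)
    (hext : ∀ h : 𝔪 →ₗ[R] E, ∃ ψ : R →ₗ[R] E, ∀ a : 𝔪, ψ a = h a)
    (N : Ideal R) (hN : N ≠ ⊤) (g : N →ₗ[R] E) :
    ∃ (M : Ideal R) (hNM : N < M) (g' : M →ₗ[R] E),
      ∀ x (hx : x ∈ N), g' ⟨x, hNM.le hx⟩ = g ⟨x, hx⟩ := by
  obtain ⟨n, hn⟩ := exists_pow_vanish 𝔪 htors N g
  let p : R →ₗ.[R] E := ⟨N, g⟩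
  suffices H : ∃ q : R →ₗ.[R] E, p ≤ q ∧ N < q.domain by
    obtain ⟨q, hpq, hlt⟩ := H
    exact ⟨q.domain, hlt, q.toFun, fun x hx =>
      (hpq.2 (x := ⟨x, hx⟩) (y := ⟨x, hlt.le hx⟩) rfl).symm⟩
  by_cases hle : 𝔪 ^ n ≤ N
  · obtain ⟨y, hyN, hy⟩ := exists_socle 𝔪 n N hle hN
    have hcolon : ∀ c : R, c * y ∈ N → c ∈ 𝔪 := mem_of_mul_mem 𝔪 N y hyN hy
    let μ : 𝔪 →ₗ[R] N :=
      ((LinearMap.toSpanSingleton R R y).comp 𝔪.subtype).codRestrict N (fun a => by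
        change (a : R) • y ∈ N
        exact hy a a.2)
    obtain ⟨ψ, hψ⟩ := hext (g ∘ₗ μ)
    have he₀ : ∀ a (ha : a ∈ 𝔪), g ⟨a * y, hy a ha⟩ = a • ψ 1 := by
      intro a ha
      have h1 := hψ ⟨a, ha⟩
      have h2 : ψ a = a • ψ 1 := by rw [← map_smul, smul_eq_mul, mul_one]
      rw [← h2]
      exact h1.symm
    have H0 : ∀ c : R, c • y = 0 → (RingHom.id R) c • ψ 1 = 0 := by
      intro c hc
      have hc' : c * y = 0 := hc
      have hcN : c * y ∈ N := by rw [hc']; exact N.zero_mem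
      have hcm := hcolon c hcN
      rw [RingHom.id_apply, ← he₀ c hcm]
      have h3 : (⟨c * y, hy c hcm⟩ : N) = 0 := Subtype.ext hc'
      rw [h3, map_zero]
    let s : R →ₗ.[R] E := LinearPMap.mkSpanSingleton' y (ψ 1) H0
    have hagree : ∀ (x : p.domain) (w : s.domain), (x : R) = w → p x = s w := by
      rintro ⟨x, hx⟩ ⟨w, hw⟩ hxw
      obtain ⟨c, rfl⟩ := Submodule.mem_span_singleton.mp hw
      change x = c • y at hxw
      subst hxw
      have hcm := hcolon c hx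
      have h4 : s ⟨c • y, hw⟩ = c • ψ 1 := LinearPMap.mkSpanSingleton'_apply y (ψ 1) H0 c hw
      rw [h4]
      exact he₀ c hcm
    refine ⟨p.sup s hagree, p.left_le_sup s hagree, lt_of_le_of_ne le_sup_left ?_⟩
    intro heq
    apply hyN
    have h5 : y ∈ (p.sup s hagree).domain :=
      Submodule.mem_sup_right (Submodule.mem_span_singleton_self y)
    rw [← heq] at h5
    exact h5
  · let z : R →ₗ.[R] E := ⟨𝔪 ^ n, 0⟩
    have hagree : ∀ (x : p.domain) (w : z.domain), (x : R) = w → p x = z w := by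
      rintro ⟨x, hx⟩ ⟨w, hw⟩ hxw
      change x = w at hxw
      subst hxw
      exact hn x hx hw
    refine ⟨p.sup z hagree, p.left_le_sup z hagree, lt_of_le_of_ne le_sup_left ?_⟩
    intro heq
    apply hle
    have h5 : 𝔪 ^ n ≤ (p.sup z hagree).domain := le_sup_right
    rw [← heq] at h5
    exact h5

/-- An `𝔪`-power torsion module with the Baer extension property against `𝔪` is injective. -/
theorem baer (htors : ∀ x : E, ∃ n : ℕ, ∀ r ∈ 𝔪 ^ n, r • x = 0)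
    (hext : ∀ h : 𝔪 →ₗ[R] E, ∃ ψ : R →ₗ[R] E, ∀ a : 𝔪, ψ a = h a) : Module.Baer R E := by
  intro I f
  have key : ∃ (hI : I ≤ (⊤ : Ideal R)) (g : (⊤ : Ideal R) →ₗ[R] E),
      ∀ x (hx : x ∈ I), g ⟨x, hI hx⟩ = f ⟨x, hx⟩ := by
    refine WellFoundedGT.induction_top
      (P := fun N : Ideal R => ∃ (hI : I ≤ N) (g : N →ₗ[R] E),
        ∀ x (hx : x ∈ I), g ⟨x, hI hx⟩ = f ⟨x, hx⟩) ⟨I, le_rfl, f, fun x hx => rfl⟩ ?_
    rintro N hN ⟨hIN, g, hg⟩
    obtain ⟨M, hNM, g', hg'⟩ := exists_gt 𝔪 htors hext N hN g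
    exact ⟨M, hNM, hIN.trans hNM.le, g', fun x hx => (hg' x (hIN hx)).trans (hg x hx)⟩
  obtain ⟨hI, g, hg⟩ := key
  exact ⟨g ∘ₗ (LinearMap.id.codRestrict ⊤ (fun _ => Submodule.mem_top)), fun x hx => hg x hx⟩

theorem injective (htors : ∀ x : E, ∃ n : ℕ, ∀ r ∈ 𝔪 ^ n, r • x = 0)
    (hext : ∀ h : 𝔪 →ₗ[R] E, ∃ ψ : R →ₗ[R] E, ∀ a : 𝔪, ψ a = h a) : Module.Injective R E :=
  (baer 𝔪 htors hext).injective

end Baer

section Graded

open Groth.Agent.Lib.Helper29GrEss Groth.Agent.Lib.Helper29GrSub Groth.Agent.Lib.Helper29GrBaer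

variable {ι : Type} [AddCommGroup ι] [DecidableEq ι] [Module.Free ℤ ι] [Module.Finite ℤ ι]
variable (R : Type u) [CommRing R] [IsNoetherianRing R] (𝒜 : ι → AddSubgroup R) [GradedRing 𝒜]
  (m : HomogeneousIdeal 𝒜) [m.toIdeal.IsMaximal]
  (E' : Type u) [AddCommGroup E'] [Module R E'] (𝓔 : ι → AddSubgroup E')
  [DirectSum.Decomposition 𝓔] [SetLike.GradedSMul 𝒜 𝓔]
  (e : (R ⧸ m.toIdeal) →ₗ[R] E')

/-- The `*`injective hull of `R ⧸ m`, `m` a graded maximal ideal, is an injective hull. -/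
theorem isInjectiveHull (he : GrLC.IsStarInjHull 𝒜 (GrLC.quotGr 𝒜 m) 𝓔 e) :
    InjHull.IsInjectiveHull e := by
  classical
  -- essentiality
  have hrange : (LinearMap.range e).IsHomogeneous 𝓔 := by
    have h1 : (LinearMap.range (e ∘ₗ m.toIdeal.mkQ)).IsHomogeneous 𝓔 :=
      range_isHomogeneous 𝓔 𝒜 (e ∘ₗ m.toIdeal.mkQ)
        (fun g r hr => he.grHom g _ ⟨r, hr, rfl⟩)
    rwa [LinearMap.range_comp_of_range_eq_top _ (Submodule.range_mkQ _)] at h1
  have hess : ∀ y : E', y ≠ 0 → ∃ r : R, r • y ≠ 0 ∧ r • y ∈ LinearMap.range e := by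
    intro y hy
    obtain ⟨h, r, -, h1, h2⟩ := exists_smul_mem 𝒜 𝓔 (LinearMap.range e) hrange he.essential y hy
    exact ⟨r, h1, h2⟩
  -- torsion
  have hgam : GrLC.gam m.toIdeal E' = ⊤ := Groth.Agent.S13220.result R 𝒜 m E' 𝓔 e he
  have htors : ∀ x : E', ∃ n : ℕ, ∀ r ∈ m.toIdeal ^ n, r • x = 0 := by
    intro x
    have hx : x ∈ GrLC.gam m.toIdeal E' := by rw [hgam]; exact Submodule.mem_top
    exact hx
  -- Baer property against `m`
  have hext : ∀ h : m.toIdeal →ₗ[R] E', ∃ ψ : R →ₗ[R] E', ∀ a : m.toIdeal, ψ a = h a := by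
    intro φ
    let K : Submodule R R := m.toIdeal
    have hK : K.IsHomogeneous 𝒜 := m.isHomogeneous
    let decK : DirectSum.Decomposition (subGr 𝒜 K) := subDecomposition 𝒜 K hK
    have gsK : SetLike.GradedSMul 𝒜 (subGr 𝒜 K) := sub_gradedSMul 𝒜 K 𝒜
    obtain ⟨ψ, hψ⟩ := exists_extension 𝒜 (subGr 𝒜 K) 𝓔 𝒜 he.starInj K.subtype
      (fun j x hx => hx) K.injective_subtype φ
    exact ⟨ψ, fun a => LinearMap.congr_fun hψ a⟩
  refine { injective := he.injective, essential := ?_, isInjective := injective m.toIdeal htors hext }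
  intro N hN
  obtain ⟨y, hyN, hy0⟩ := Submodule.exists_mem_ne_zero_of_ne_bot hN
  obtain ⟨r, hr0, hr⟩ := hess y hy0
  intro hbot
  apply hr0
  have : r • y ∈ N ⊓ LinearMap.range e := ⟨N.smul_mem r hyN, hr⟩
  rw [hbot] at this
  exact (Submodule.mem_bot R).mp this

end Graded

end Groth.Agent.Lib.Seat86.GrInjHull
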