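import Mathlib
import Groth.Prelude.Def_GrLC
import Groth.Agent.S13215
import Groth.Agent.Lib.Seat86GrArt
import Groth.Agent.Lib.Seat86GrSmul
import Groth.Agent.Lib.Seat86GrFinB

/-!
# Quotient by a quasi-regular homogeneous element (seat 86)

`x ∈ R_e` homogeneous, `M` a graded module whose `x`-torsion `(0 :_M x)` is `a`-torsion (e.g. of
finite length), `N = M/xM`.  Then `H^i_a(M)_g = 0` and `H^{i+1}_a(M)_{g-e} = 0` imply
`H^i_a(N)_g = 0` (`Hgr_quot_eq_zero`).  Also: an Artinian homogeneous submodule of a graded module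
over a positively ℤ-graded ring is `R_+`-torsion (`mem_gam_of_isArtinian`).
-/

set_option autoImplicit false
set_option linter.style.haveILetI false
set_option linter.unusedSectionVars false
open DirectSum

noncomputable section

namespace Groth.Agent.Lib.Seat86.GrQReg

open Groth.Agent.Lib.Seat86.GrProd Groth.Agent.Lib.Seat86.GrCone Groth.Agent.Lib.Seat86.GrHmap
  Groth.Agent.Lib.Seat86.GrLES Groth.Agent.Lib.Seat86.GrIndep Groth.Agent.Lib.Seat86.GrSmul
  Groth.Agent.Lib.Seat86.GrFinB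
  Groth.Agent.Lib.Helper29GrShift Groth.Agent.Lib.Helper29GrSub Groth.Agent.Lib.Helper29GrGam
  Groth.Agent.Lib.Helper29GrHom

universe u

section Core

variable {ι : Type} [AddCommGroup ι] [DecidableEq ι] [Module.Free ℤ ι] [Module.Finite ℤ ι]
variable {R : Type u} [CommRing R] [IsNoetherianRing R] {𝒜 : ι → AddSubgroup R} [GradedRing 𝒜]
variable {M N : Type u} [AddCommGroup M] [Module R M] [AddCommGroup N] [Module R N]
  {ℳ : ι → AddSubgroup M} {𝒩 : ι → AddSubgroup N}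
  [DirectSum.Decomposition ℳ] [SetLike.GradedSMul 𝒜 ℳ]
  [DirectSum.Decomposition 𝒩] [SetLike.GradedSMul 𝒜 𝒩]

theorem Hgr_quot_eq_zero (x : R) (e : ι) (hx : x ∈ 𝒜 e) (a : HomogeneousIdeal 𝒜)
    (hK : ∀ m : M, x • m = 0 → m ∈ GrLC.gam a.toIdeal M)
    (π : M →ₗ[R] N) (hπ : Function.Surjective π) (hπg : GrLC.IsGrHom ℳ 𝒩 π)
    (hker : LinearMap.ker π = LinearMap.range (x • (LinearMap.id : M →ₗ[R] M)))
    (E : GrLC.StarInjRes 𝒜 ℳ) (E'' : GrLC.StarInjRes 𝒜 𝒩) (i : ℕ) (g : ι)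
    (h1 : ∀ y ∈ E.Hgr a i g, y = 0) (h2 : ∀ y ∈ E.Hgr a (i + 1) (g + -e), y = 0) :
    ∀ z ∈ E''.Hgr a i g, z = 0 := by
  classical
  obtain ⟨I, hI⟩ : ∃ I : Submodule R M,
    I = LinearMap.range (x • (LinearMap.id : M →ₗ[R] M)) := ⟨_, rfl⟩
  obtain ⟨K, hKdef⟩ : ∃ K : Submodule R M,
    K = LinearMap.ker (x • (LinearMap.id : M →ₗ[R] M)) := ⟨_, rfl⟩
  have hxsm : ∀ (j : ι) (m : M), m ∈ shiftGr ℳ (-e) j →
      (x • (LinearMap.id : M →ₗ[R] M)) m ∈ ℳ j := by
    intro j m hm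
    have h := SetLike.GradedSMul.smul_mem (A := 𝒜) (B := ℳ) hx hm
    rw [vadd_eq_add, add_comm, neg_add_cancel_right] at h
    exact h
  have hIhom : I.IsHomogeneous ℳ := by
    rw [hI, LinearMap.range_eq_map]
    exact map_isHomogeneous (shiftGr ℳ (-e)) ℳ _ hxsm (fun _ _ _ => Submodule.mem_top)
  have hKhom : K.IsHomogeneous (shiftGr ℳ (-e)) := by
    rw [hKdef]
    exact ker_isHomogeneous ℳ (shiftGr ℳ (-e)) _ hxsm
  letI : DirectSum.Decomposition (subGr (shiftGr ℳ (-e)) K) :=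
    subDecomposition (shiftGr ℳ (-e)) K hKhom
  letI : SetLike.GradedSMul 𝒜 (subGr (shiftGr ℳ (-e)) K) := sub_gradedSMul (shiftGr ℳ (-e)) K 𝒜
  letI : DirectSum.Decomposition (subGr ℳ I) := subDecomposition ℳ I hIhom
  letI : SetLike.GradedSMul 𝒜 (subGr ℳ I) := sub_gradedSMul ℳ I 𝒜
  obtain ⟨EK⟩ := Groth.Agent.S13215.result R 𝒜 ↥K (subGr (shiftGr ℳ (-e)) K)
  obtain ⟨EI⟩ := Groth.Agent.S13215.result R 𝒜 ↥I (subGr ℳ I)
  -- first sequence: 0 → K → M(-e) → I → 0
  obtain ⟨β₁, hβ₁⟩ : ∃ β₁ : M →ₗ[R] ↥I, ∀ m, ((β₁ m : ↥I) : M) = x • m :=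
    ⟨LinearMap.codRestrict I (x • (LinearMap.id : M →ₗ[R] M)) (fun m => by
      rw [hI]
      exact LinearMap.mem_range_self _ m), fun m => rfl⟩
  have hβ₁surj : Function.Surjective β₁ := by
    intro w
    have hw : (w : M) ∈ LinearMap.range (x • (LinearMap.id : M →ₗ[R] M)) := hI ▸ w.2
    obtain ⟨m, hm⟩ := hw
    exact ⟨m, Subtype.ext (by rw [hβ₁]; exact hm)⟩
  have hβ₁g : GrLC.IsGrHom (shiftGr ℳ (-e)) (subGr ℳ I) β₁ := by
    intro j m hm
    show ((β₁ m : ↥I) : M) ∈ ℳ j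
    rw [hβ₁]
    exact hxsm j m hm
  have hker₁ : LinearMap.ker β₁ = LinearMap.range K.subtype := by
    rw [Submodule.range_subtype, hKdef]
    ext m
    rw [LinearMap.mem_ker, LinearMap.mem_ker]
    constructor
    · intro h
      have := congrArg Subtype.val h
      rw [hβ₁] at this
      exact this
    · intro h
      exact Subtype.ext (by rw [hβ₁]; exact h)
  have hα₁g : GrLC.IsGrHom (subGr (shiftGr ℳ (-e)) K) (shiftGr ℳ (-e)) K.subtype :=
    fun j m hm => hm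
  obtain ⟨F₁⟩ := exists_chainLift (ℳ' := subGr (shiftGr ℳ (-e)) K) (ℳ := shiftGr ℳ (-e))
    K.subtype hα₁g EK (shiftRes E (-e))
  obtain ⟨p₁, δ₁, hp₁, hδ₁, e11, e12, e13⟩ := exists_les (ℳ' := subGr (shiftGr ℳ (-e)) K)
    (ℳ := shiftGr ℳ (-e)) (ℳ'' := subGr ℳ I) K.subtype K.injective_subtype β₁ hβ₁surj hβ₁g
    hker₁ EK (shiftRes E (-e)) F₁ EI a
  have htorsK : ∀ m : ↥K, m ∈ GrLC.gam a.toIdeal ↥K := by
    intro m
    have hm : x • (m : M) = 0 := (le_of_eq hKdef) m.2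
    obtain ⟨s, hs⟩ := hK m hm
    exact ⟨s, fun r hr =>
      Subtype.ext (by rw [Submodule.coe_smul, ZeroMemClass.coe_zero]; exact hs r hr)⟩
  have hEK0 : ∀ y : EK.H a (i + 1 + 1), y = 0 := H_succ_eq_zero_of_torsion EK a htorsK (i + 1)
  -- second sequence: 0 → I → M → N → 0
  have hα₂g : GrLC.IsGrHom (subGr ℳ I) ℳ I.subtype := fun j m hm => hm
  have hker₂ : LinearMap.ker π = LinearMap.range I.subtype := by
    rw [hker, Submodule.range_subtype, hI]
  obtain ⟨F₂⟩ := exists_chainLift (ℳ' := subGr ℳ I) (ℳ := ℳ) I.subtype hα₂g EI E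
  obtain ⟨p₂, δ₂, hp₂, hδ₂, e21, e22, e23⟩ := exists_les (ℳ' := subGr ℳ I) (ℳ := ℳ) (ℳ'' := 𝒩)
    I.subtype I.injective_subtype π hπ hπg hker₂ EI E F₂ E'' a
  -- the chase
  intro z hz
  have hw : δ₂ i z ∈ EI.Hgr a (i + 1) g := hδ₂ i g z hz
  have hwr : δ₂ i z ∈ LinearMap.range (p₁ (i + 1)) := by
    rw [e12 (i + 1), LinearMap.mem_ker]
    exact hEK0 _
  obtain ⟨y, hy, hyw⟩ := exists_mem_piece_of_mem_range ((shiftRes E (-e)).Hgr a (i + 1))
    (EI.Hgr a (i + 1)) (isInternal_Hgr (shiftRes E (-e)) a (i + 1)) (isInternal_Hgr EI a (i + 1))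
    (p₁ (i + 1)) (hp₁ (i + 1)) hw hwr
  have hy0 : y = 0 := h2 y hy
  have hw0 : δ₂ i z = 0 := by rw [← hyw, hy0, map_zero]
  have hzr : z ∈ LinearMap.range (p₂ i) := by
    rw [e22 i, LinearMap.mem_ker]
    exact hw0
  obtain ⟨y', hy', hy'z⟩ := exists_mem_piece_of_mem_range (E.Hgr a i) (E''.Hgr a i)
    (isInternal_Hgr E a i) (isInternal_Hgr E'' a i) (p₂ i) (hp₂ i) hz hzr
  rw [← hy'z, h1 y' hy', map_zero]

end Core

section Artinian

variable {R : Type u} [CommRing R] {𝒜 : ℤ → AddSubgroup R} [GradedRing 𝒜]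
  (hpos : ∀ n : ℤ, n < 0 → 𝒜 n = ⊥) {a : HomogeneousIdeal 𝒜}
  (ha : a.toIdeal = Ideal.span (⋃ n ∈ Set.Ioi (0 : ℤ), (𝒜 n : Set R)))
variable {M : Type u} [AddCommGroup M] [Module R M] {ℳ : ℤ → AddSubgroup M}
  [DirectSum.Decomposition ℳ] [SetLike.GradedSMul 𝒜 ℳ]

include hpos ha in
/-- An Artinian homogeneous submodule of a graded module over a positively graded ring is
`R_+`-torsion. -/
theorem mem_gam_of_isArtinian (K : Submodule R M) (hKhom : K.IsHomogeneous ℳ) [IsArtinian R ↥K] :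
    ∀ m ∈ K, m ∈ GrLC.gam a.toIdeal M := by
  classical
  letI : DirectSum.Decomposition (subGr ℳ K) := subDecomposition ℳ K hKhom
  have hind : iSupIndep (subGr ℳ K) := (isInternal_subGr ℳ K hKhom).addSubgroup_iSupIndep
  obtain ⟨N, hN⟩ := Groth.Agent.Lib.Seat86.GrArt.exists_piece_eq_bot (𝒜 := 𝒜) (ℋ := subGr ℳ K)
    hpos (fun t n r y hr hy => by
      have h := SetLike.GradedSMul.smul_mem (A := 𝒜) (B := ℳ) hr (show (y : M) ∈ ℳ n from hy)
      rw [vadd_eq_add] at h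
      exact h) hind
  have key : ∀ (s : ℕ) (j : ℤ) (y : M), y ∈ K → y ∈ ℳ j → N ≤ j + s →
      ∀ r ∈ a.toIdeal ^ s, r • y = 0 := by
    intro s
    induction s with
    | zero =>
      intro j y hyK hyj hNj r _
      have h1 : (⟨y, hyK⟩ : ↥K) ∈ subGr ℳ K j := hyj
      rw [hN j (by simpa using hNj)] at h1
      have h0 : (⟨y, hyK⟩ : ↥K) = 0 := AddSubgroup.mem_bot.mp h1
      have h3 : y = 0 := congrArg Subtype.val h0
      rw [h3, smul_zero]
    | succ s ih =>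
      intro j y hyK hyj hNj r hr
      let J : Ideal R :=
        { carrier := {c | ∀ b ∈ a.toIdeal ^ s, b • (c • y) = 0}
          add_mem' := fun {c c'} hc hc' b hb => by
            rw [add_smul, smul_add, hc b hb, hc' b hb, add_zero]
          zero_mem' := fun b _ => by rw [zero_smul, smul_zero]
          smul_mem' := fun c' c hc b hb => by
            rw [smul_eq_mul, mul_smul, smul_comm b c', hc b hb, smul_zero] }
      have haJ : a.toIdeal ≤ J := by
        rw [ha]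
        apply Ideal.span_le.mpr
        intro c hc
        obtain ⟨t, ht, hct⟩ := Set.mem_iUnion₂.mp hc
        have ht' : (0 : ℤ) < t := ht
        intro b hb
        have hcy : c • y ∈ ℳ (t + j) := by
          have h := SetLike.GradedSMul.smul_mem (A := 𝒜) (B := ℳ) hct hyj
          rw [vadd_eq_add] at h
          exact h
        exact ih (t + j) (c • y) (K.smul_mem c hyK) hcy (by push_cast at hNj ⊢; omega) b hb
      rw [pow_succ] at hr
      refine Submodule.mul_induction_on hr ?_ ?_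
      · intro b hb c hc
        rw [mul_smul]
        exact haJ hc b hb
      · intro u v hu hv
        rw [add_smul, hu, hv, add_zero]
  intro m hm
  rw [← DirectSum.sum_support_decompose ℳ m]
  apply Submodule.sum_mem
  intro j _
  have hjK : ((decompose ℳ m) j : M) ∈ K := hKhom j hm
  exact ⟨(N - j).toNat, key _ j _ hjK (SetLike.coe_mem _) (by
    have := Int.self_le_toNat (N - j)
    omega)⟩

end Artinian

end Groth.Agent.Lib.Seat86.GrQReg
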