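import Mathlib
import Groth.Agent.Lib.Helper3Coext

/-!
# The coinduction sequence `0 → L → Hom_R(R[T;T⁻¹], L) → Hom_R(R[T;T⁻¹], L) → 0` (seat 86)

For an `R[T;T⁻¹]`-module `L`: `l ↦ (s ↦ s l)`, `φ ↦ (s ↦ φ(T s) - T φ(s))` is an exact sequence of
`R[T;T⁻¹]`-modules (Laurent version of `Seat8PolyInj`).
-/

set_option autoImplicit false
set_option linter.style.haveILetI false
set_option linter.unusedSectionVars false

universe u

open LaurentPolynomial Groth.Agent.Lib.Helper3.Coext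

namespace Groth.Agent.Lib.Seat86.GrTwB

variable (R : Type u) [CommRing R] (L : Type u) [AddCommGroup L] [Module R[T;T⁻¹] L] [Module R L]
  [IsScalarTower R R[T;T⁻¹] L]

/-- `l ↦ (s ↦ s • l)` -/
noncomputable def iota : L →ₗ[R[T;T⁻¹]] Obj R R[T;T⁻¹] L := linToHom (LinearMap.id : L →ₗ[R] L)

lemma toLin_iota (l : L) (s : R[T;T⁻¹]) : toLin (iota R L l) s = s • l :=
  toLin_linToHom_apply _ _ _

/-- the `R`-linear map `s ↦ φ(T s) - T φ(s)` -/
noncomputable def Dlin (φ : R[T;T⁻¹] →ₗ[R] L) : R[T;T⁻¹] →ₗ[R] L where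
  toFun s := φ (T 1 * s) - (T 1 : R[T;T⁻¹]) • φ s
  map_add' s t := by
    rw [mul_add, map_add, map_add, smul_add]
    abel
  map_smul' a s := by
    simp only [RingHom.id_apply]
    rw [mul_smul_comm, map_smul, map_smul, smul_sub, smul_comm a (T 1 : R[T;T⁻¹]) (φ s)]

/-- `φ ↦ (s ↦ φ(T s) - T φ(s))` -/
noncomputable def D : Obj R R[T;T⁻¹] L →ₗ[R[T;T⁻¹]] Obj R R[T;T⁻¹] L where
  toFun φ := ofLin (Dlin R L (toLin φ))
  map_add' φ ψ := by
    apply toLin_injective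
    apply LinearMap.ext
    intro s
    simp only [toLin_ofLin, toLin_add, LinearMap.add_apply]
    simp only [Dlin, LinearMap.coe_mk, AddHom.coe_mk, LinearMap.add_apply, smul_add]
    abel
  map_smul' t φ := by
    apply toLin_injective
    apply LinearMap.ext
    intro s
    simp only [RingHom.id_apply]
    rw [toLin_smul_apply, toLin_ofLin, toLin_ofLin]
    simp only [Dlin, LinearMap.coe_mk, AddHom.coe_mk, toLin_smul_apply]
    rw [mul_assoc]

lemma toLin_D (φ : Obj R R[T;T⁻¹] L) (s : R[T;T⁻¹]) :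
    toLin (D R L φ) s = toLin φ (T 1 * s) - (T 1 : R[T;T⁻¹]) • toLin φ s := by
  show toLin (ofLin (Dlin R L (toLin φ))) s = _
  rw [toLin_ofLin]
  rfl

lemma iota_injective : Function.Injective (iota R L) := by
  intro n n' h
  have h1 := toLin_iota R L n 1
  have h2 := toLin_iota R L n' 1
  rw [one_smul] at h1 h2
  rw [← h1, ← h2, h]

lemma D_iota (l : L) : D R L (iota R L l) = 0 := by
  apply toLin_injective
  apply LinearMap.ext
  intro s
  rw [toLin_D, toLin_iota, toLin_iota, toLin_zero, LinearMap.zero_apply, mul_smul, sub_self]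

lemma toLin_eq_smul_of_D_eq_zero (φ : Obj R R[T;T⁻¹] L) (h : D R L φ = 0) (s : R[T;T⁻¹]) :
    toLin φ s = s • toLin φ 1 := by
  have hT : ∀ t : R[T;T⁻¹], toLin φ (T 1 * t) = (T 1 : R[T;T⁻¹]) • toLin φ t := by
    intro t
    have := congrArg (fun ψ => toLin ψ t) h
    simp only [toLin_D, toLin_zero, LinearMap.zero_apply] at this
    exact sub_eq_zero.1 this
  have hpow : ∀ k : ℤ, toLin φ (T k) = (T k : R[T;T⁻¹]) • toLin φ 1 := by
    intro k
    induction k using Int.induction_on with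
    | zero => rw [T_zero, one_smul]
    | succ k ih =>
      have h1 : (T ((k : ℤ) + 1) : R[T;T⁻¹]) = T 1 * T k := by rw [← T_add, add_comm]
      rw [h1, hT, ih, mul_smul]
    | pred k ih =>
      have h1 : (T (-(k : ℤ)) : R[T;T⁻¹]) = T 1 * T (-(k : ℤ) - 1) := by
        rw [← T_add]; congr 1; ring
      have h2 := hT (T (-(k : ℤ) - 1))
      rw [← h1, ih] at h2
      have h3 : (T (-(k : ℤ) - 1) : R[T;T⁻¹]) = T (-1) * T (-(k : ℤ)) := by
        rw [← T_add]; congr 1; ring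
      have h4 : toLin φ (T (-(k : ℤ) - 1)) =
          (T (-1) : R[T;T⁻¹]) • ((T 1 : R[T;T⁻¹]) • toLin φ (T (-(k : ℤ) - 1))) := by
        rw [← mul_smul, ← T_add]
        simp
      rw [h4, ← h2, ← mul_smul, ← h3]
  induction s using LaurentPolynomial.induction_on' with
  | add p q hp hq => rw [map_add, hp, hq, add_smul]
  | C_mul_T n a =>
    have h1 : (C a * T n : R[T;T⁻¹]) = a • (T n : R[T;T⁻¹]) := by
      rw [LaurentPolynomial.smul_eq_C_mul]
    rw [h1, map_smul, hpow, smul_assoc]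

lemma exact_iota_D : Function.Exact (iota R L) (D R L) := by
  intro φ
  constructor
  · intro h
    refine ⟨toLin φ 1, ?_⟩
    apply toLin_injective
    apply LinearMap.ext
    intro s
    rw [toLin_iota, toLin_eq_smul_of_D_eq_zero R L φ h s]
  · rintro ⟨n, rfl⟩
    exact D_iota R L n

/-- the sequence `c 0 = 0`, `c (k+1) = T • c k + ψ (T ^ k)` on the nonnegative side -/
noncomputable def cpos (ψ : R[T;T⁻¹] →ₗ[R] L) : ℕ → L
  | 0 => 0
  | (k + 1) => (T 1 : R[T;T⁻¹]) • cpos ψ k + ψ (T (k : ℤ))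

/-- the same on the negative side: `cneg k = c (-k)` -/
noncomputable def cneg (ψ : R[T;T⁻¹] →ₗ[R] L) : ℕ → L
  | 0 => 0
  | (k + 1) => (T (-1) : R[T;T⁻¹]) • (cneg ψ k - ψ (T (-((k : ℤ) + 1))))

/-- the two-sided sequence -/
noncomputable def cseq (ψ : R[T;T⁻¹] →ₗ[R] L) : ℤ → L
  | Int.ofNat k => cpos R L ψ k
  | Int.negSucc k => cneg R L ψ (k + 1)

lemma cseq_succ (ψ : R[T;T⁻¹] →ₗ[R] L) (n : ℤ) :
    cseq R L ψ (n + 1) = (T 1 : R[T;T⁻¹]) • cseq R L ψ n + ψ (T n) := by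
  have hTT : ∀ x : L, (T 1 : R[T;T⁻¹]) • ((T (-1) : R[T;T⁻¹]) • x) = x := by
    intro x
    rw [← mul_smul, ← T_add]
    simp
  rcases n with k | k
  · change cseq R L ψ (Int.ofNat (k + 1)) = _
    rfl
  · rcases k with _ | k
    · change cseq R L ψ (Int.ofNat 0) = (T 1 : R[T;T⁻¹]) • cneg R L ψ 1 + ψ (T (Int.negSucc 0))
      change (0 : L) = (T 1 : R[T;T⁻¹]) •
        ((T (-1) : R[T;T⁻¹]) • (cneg R L ψ 0 - ψ (T (-(((0 : ℕ) : ℤ) + 1))))) + _
      rw [hTT]
      change (0 : L) = (0 - ψ (T (-(((0 : ℕ) : ℤ) + 1)))) + ψ (T (Int.negSucc 0))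
      have : (-(((0 : ℕ) : ℤ) + 1)) = Int.negSucc 0 := by simp
      rw [this]
      abel
    · have h1 : Int.negSucc (k + 1) + 1 = Int.negSucc k := by omega
      rw [h1]
      change cneg R L ψ (k + 1) = (T 1 : R[T;T⁻¹]) • cneg R L ψ (k + 1 + 1) + _
      change cneg R L ψ (k + 1) = (T 1 : R[T;T⁻¹]) •
        ((T (-1) : R[T;T⁻¹]) • (cneg R L ψ (k + 1) - ψ (T (-(((k + 1 : ℕ) : ℤ) + 1))))) + _
      rw [hTT]
      have : (-(((k + 1 : ℕ) : ℤ) + 1)) = Int.negSucc (k + 1) := by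
        rw [Int.negSucc_eq]
      rw [this]
      abel

lemma D_surjective : Function.Surjective (D R L) := by
  intro ψ
  let b := AddMonoidAlgebra.basis ℤ R
  let φ₀ : R[T;T⁻¹] →ₗ[R] L := b.constr R (cseq R L (toLin ψ))
  have hb : ∀ k : ℤ, (b k : R[T;T⁻¹]) = T k := fun k => rfl
  have hφ₀ : ∀ k : ℤ, φ₀ (T k) = cseq R L (toLin ψ) k := by
    intro k
    rw [← hb]
    exact b.constr_basis R _ k
  refine ⟨ofLin φ₀, ?_⟩
  apply toLin_injective
  refine b.ext (fun k => ?_)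
  have h1 : (T 1 * T k : R[T;T⁻¹]) = T (k + 1) := by rw [← T_add, add_comm]
  rw [hb, toLin_D, toLin_ofLin, h1, hφ₀, hφ₀, cseq_succ]
  abel

end Groth.Agent.Lib.Seat86.GrTwB
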