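import Mathlib

/-!
# Direct sums of injective modules over a Noetherian ring are injective (seat 8)
-/

set_option autoImplicit false
universe u

namespace Groth.Agent.Lib.Seat8.InjSum

variable {A : Type u} [CommRing A] [IsNoetherianRing A]

/-- (Bass) over a Noetherian ring, a direct sum of copies of an injective module is injective -/
theorem injective_finsupp (ι : Type) (E : Type u) [AddCommGroup E] [Module A E]
    [Module.Injective A E] : Module.Injective A (ι →₀ E) := by
  classical
  apply Module.Baer.injective
  intro I g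
  have hE : Module.Baer A E := Module.Baer.of_injective inferInstance
  obtain ⟨s, hs⟩ := (IsNoetherian.noetherian I : I.FG)
  have hsI : ∀ x ∈ s, x ∈ I := fun x hx => hs ▸ Submodule.subset_span hx
  let F : Finset ι := s.attach.biUnion (fun x => (g ⟨x.1, hsI x.1 x.2⟩).support)
  have hF : ∀ (x : A) (hx : x ∈ Submodule.span A (s : Set A)) (hx' : x ∈ I),
      (g ⟨x, hx'⟩).support ⊆ F := by
    intro x hx
    induction hx using Submodule.span_induction with
    | mem x hxs =>
      intro hx'
      exact Finset.subset_biUnion_of_mem (fun x : {x // x ∈ s} => (g ⟨x.1, hsI x.1 x.2⟩).support)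
        (Finset.mem_attach s ⟨x, hxs⟩)
    | zero =>
      intro hx'
      have : g ⟨0, hx'⟩ = 0 := map_zero g
      rw [this, Finsupp.support_zero]
      exact Finset.empty_subset _
    | add x y hx hy ihx ihy =>
      intro hx'
      have hxI : x ∈ I := hs ▸ hx
      have hyI : y ∈ I := hs ▸ hy
      have : g ⟨x + y, hx'⟩ = g ⟨x, hxI⟩ + g ⟨y, hyI⟩ := map_add g ⟨x, hxI⟩ ⟨y, hyI⟩
      rw [this]
      exact Finsupp.support_add.trans (Finset.union_subset (ihx hxI) (ihy hyI))
    | smul a x hx ihx =>
      intro hx'
      have hxI : x ∈ I := hs ▸ hx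
      have : g ⟨a • x, hx'⟩ = a • g ⟨x, hxI⟩ := map_smul g a ⟨x, hxI⟩
      rw [this]
      exact Finsupp.support_smul.trans (ihx hxI)
  choose g' hg' using fun i : ι => hE I ((Finsupp.lapply i).comp g)
  refine ⟨∑ i ∈ F, (Finsupp.lsingle i).comp (g' i), fun x mem => ?_⟩
  have hsupp := hF x (hs ▸ mem) mem
  ext j
  rw [LinearMap.sum_apply, Finsupp.finsetSum_apply]
  simp only [LinearMap.comp_apply, Finsupp.lsingle_apply, hg' _ x mem, Finsupp.lapply_apply]
  by_cases hj : j ∈ F
  · rw [Finset.sum_eq_single j]
    · simp
    · intro b _ hbj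
      simp [Finsupp.single_apply, hbj]
    · intro h
      exact absurd hj h
  · rw [Finset.sum_eq_zero]
    · have : j ∉ (g ⟨x, mem⟩).support := fun h => hj (hsupp h)
      exact (Finsupp.notMem_support_iff.1 this).symm
    · intro b hb
      have : b ≠ j := fun h => hj (h ▸ hb)
      simp [Finsupp.single_apply, this]

end Groth.Agent.Lib.Seat8.InjSum
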