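import Mathlib
import Groth.Agent.Lib.Seat86GrTwA
import Groth.Agent.Lib.Seat86GrTwB
import Groth.Agent.Lib.Seat8InjSum
import Groth.Prelude.Def_GrLC

/-! A `*`injective graded module over a Noetherian `ℤ`-graded ring has injective dimension `≤ 1`
(seat 86): the module `M` is a retract of `ρ^*(R[T;T⁻¹] ⊗ N)` for an injective `N ⊇ M`, and the latter
has a two-term injective resolution by the coinduction sequence. -/

set_option autoImplicit false
set_option linter.style.haveILetI false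
set_option linter.unusedSectionVars false

universe u

open LaurentPolynomial DirectSum TensorProduct CategoryTheory Groth.Agent.Lib.Helper3.Coext

namespace Groth.Agent.Lib.Seat86.GrTwC

open Groth.Agent.Lib.Seat86.GrTwA Groth.Agent.Lib.Seat86.GrTwB

variable {R : Type u} [CommRing R] (𝒜 : ℤ → AddSubgroup R) [GradedRing 𝒜]

section Tw

/-- An `R[T;T⁻¹]`-module with `R` acting through `ρ = ρ_1`. -/
def Tw (_ : ℤ → AddSubgroup R) (X : Type u) : Type u := X

variable (X : Type u) [AddCommGroup X] [Module R[T;T⁻¹] X]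

instance : AddCommGroup (Tw 𝒜 X) := inferInstanceAs (AddCommGroup X)

noncomputable instance : Module R (Tw 𝒜 X) := Module.compHom X (rho 𝒜 1)

noncomputable instance : Module (Srho 𝒜 1) (Tw 𝒜 X) := inferInstanceAs (Module R[T;T⁻¹] X)

theorem tw_smul (r : R) (x : Tw 𝒜 X) :
    r • x = ((rho 𝒜 1 r : R[T;T⁻¹]) • (show X from x) : X) := rfl

instance : IsScalarTower R (Srho 𝒜 1) (Tw 𝒜 X) := ⟨fun r s x => by
  change ((rho 𝒜 1 r * (show R[T;T⁻¹] from s) : R[T;T⁻¹]) • (show X from x) : X) =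
    ((rho 𝒜 1 r : R[T;T⁻¹]) • ((show R[T;T⁻¹] from s) • (show X from x)) : X)
  exact mul_smul _ _ _⟩

variable {X} in
/-- An `R[T;T⁻¹]`-linear map is `R`-linear for the twisted structures. -/
noncomputable def twMap {Y : Type u} [AddCommGroup Y] [Module R[T;T⁻¹] Y] (f : X →ₗ[R[T;T⁻¹]] Y) :
    Tw 𝒜 X →ₗ[R] Tw 𝒜 Y where
  toFun := f
  map_add' := f.map_add
  map_smul' r x := f.map_smul (rho 𝒜 1 r) x

theorem tw_injective (J : Type u) [AddCommGroup J] [Module R[T;T⁻¹] J]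
    (hJ : Module.Injective R[T;T⁻¹] J) : Module.Injective R (Tw 𝒜 J) := by
  haveI : Module.Injective (Srho 𝒜 1) (Tw 𝒜 J) := hJ
  exact injective_restrict_of_flat (R := R) (S := Srho 𝒜 1) (Tw 𝒜 J)

end Tw

section InjDim

variable (L : Type u) [AddCommGroup L] [Module R[T;T⁻¹] L] [Module R L]
  [IsScalarTower R R[T;T⁻¹] L]

/-- the twisted coinduction sequence as a short complex of `R`-modules -/
noncomputable def sesTw : ShortComplex (ModuleCat.{u} R) :=
  ShortComplex.mk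
    (ModuleCat.ofHom (twMap 𝒜 (iota R L)) :
      ModuleCat.of R (Tw 𝒜 L) ⟶ ModuleCat.of R (Tw 𝒜 (Obj R R[T;T⁻¹] L)))
    (ModuleCat.ofHom (twMap 𝒜 (D R L)) :
      ModuleCat.of R (Tw 𝒜 (Obj R R[T;T⁻¹] L)) ⟶ ModuleCat.of R (Tw 𝒜 (Obj R R[T;T⁻¹] L)))
    (by
      apply ModuleCat.hom_ext
      apply LinearMap.ext
      intro n
      exact D_iota R L n)

lemma sesTw_shortExact : (sesTw 𝒜 L).ShortExact where
  exact := by
    rw [ShortComplex.ShortExact.moduleCat_exact_iff_function_exact]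
    exact exact_iota_D R L
  mono_f := by
    rw [ModuleCat.mono_iff_injective]
    exact iota_injective R L
  epi_g := by
    rw [ModuleCat.epi_iff_surjective]
    exact D_surjective R L

/-- an `R[T;T⁻¹]`-module which is injective over `R` (standard structure) has injective dimension
`≤ 1` over `R` for the twisted structure -/
theorem hasInjectiveDimensionLT_tw (hL : Module.Injective R L) :
    HasInjectiveDimensionLT (ModuleCat.of R (Tw 𝒜 L)) 2 := by
  have hC : Module.Injective R[T;T⁻¹] (Obj R R[T;T⁻¹] L) := injective_obj hL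
  have hC' : Module.Injective R (Tw 𝒜 (Obj R R[T;T⁻¹] L)) := tw_injective 𝒜 _ hC
  haveI : Injective (ModuleCat.of R (Tw 𝒜 (Obj R R[T;T⁻¹] L))) :=
    Module.injective_object_of_injective_module R _
  have h3 : HasInjectiveDimensionLT (sesTw 𝒜 L).X₃ 1 :=
    inferInstanceAs (HasInjectiveDimensionLT (ModuleCat.of R (Tw 𝒜 (Obj R R[T;T⁻¹] L))) 1)
  have h2 : HasInjectiveDimensionLT (sesTw 𝒜 L).X₂ (1 + 1) :=
    inferInstanceAs (HasInjectiveDimensionLT (ModuleCat.of R (Tw 𝒜 (Obj R R[T;T⁻¹] L))) (1 + 1))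
  exact (sesTw_shortExact 𝒜 L).hasInjectiveDimensionLT_X₁ 1 h3 h2

end InjDim


section LN

variable (N : Type u) [AddCommGroup N] [Module R N]

/-- `R[T;T⁻¹] ⊗ N ≃ (ℤ →₀ N)` -/
noncomputable def E : (R[T;T⁻¹] ⊗[R] N) ≃ₗ[R] (ℤ →₀ N) :=
  (TensorProduct.congr (AddMonoidAlgebra.coeffLinearEquiv R) (LinearEquiv.refl R N)).trans
    (TensorProduct.finsuppScalarLeft R N ℤ)

theorem E_T_tmul (j : ℤ) (n : N) : E N ((T j : R[T;T⁻¹]) ⊗ₜ[R] n) = Finsupp.single j n := by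
  unfold E
  rw [LinearEquiv.trans_apply, TensorProduct.congr_tmul, LinearEquiv.refl_apply,
    TensorProduct.finsuppScalarLeft_apply_tmul]
  change (Finsupp.single j (1 : R)).sum _ = _
  rw [Finsupp.sum_single_index (by rw [zero_smul, Finsupp.single_zero]), one_smul]

theorem E_symm_single (j : ℤ) (n : N) :
    (E N).symm (Finsupp.single j n) = (T j : R[T;T⁻¹]) ⊗ₜ[R] n := by
  rw [LinearEquiv.symm_apply_eq, E_T_tmul]

omit [GradedRing 𝒜] in
/-- `R[T;T⁻¹] ⊗ N` is an injective `R`-module if `N` is and `R` is Noetherian. -/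
theorem injective_LN [IsNoetherianRing R] [Module.Injective R N] :
    Module.Injective R (R[T;T⁻¹] ⊗[R] N) := by
  have h1 : Module.Injective R (ℤ →₀ N) := Groth.Agent.Lib.Seat8.InjSum.injective_finsupp ℤ N
  refine ⟨fun P Q _ _ _ _ i hi g => ?_⟩
  obtain ⟨h, hh⟩ := h1.out i hi ((E N).toLinearMap ∘ₗ g)
  refine ⟨(E N).symm.toLinearMap ∘ₗ h, fun x => ?_⟩
  simp [hh]

/-- `n ↦ T^j ⊗ n` into the twisted module -/
noncomputable def tmulT (j : ℤ) : N →+ Tw 𝒜 (R[T;T⁻¹] ⊗[R] N) :=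
  (TensorProduct.mk R R[T;T⁻¹] N (T j)).toAddMonoidHom

theorem tmulT_apply (j : ℤ) (n : N) :
    tmulT 𝒜 N j n = ((T j : R[T;T⁻¹]) ⊗ₜ[R] n : R[T;T⁻¹] ⊗[R] N) := rfl

/-- the pieces of the twisted module `ρ^*(R[T;T⁻¹] ⊗ N)` -/
noncomputable def piece (j : ℤ) : AddSubgroup (Tw 𝒜 (R[T;T⁻¹] ⊗[R] N)) := (tmulT 𝒜 N j).range

theorem tmulT_mem (j : ℤ) (n : N) : tmulT 𝒜 N j n ∈ piece 𝒜 N j := ⟨n, rfl⟩

/-- `E` as an additive map on the twisted module -/
noncomputable def Eadd : Tw 𝒜 (R[T;T⁻¹] ⊗[R] N) →+ (ℤ →₀ N) := (E N).toLinearMap.toAddMonoidHom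

theorem Eadd_tmulT (j : ℤ) (n : N) : Eadd 𝒜 N (tmulT 𝒜 N j n) = Finsupp.single j n :=
  E_T_tmul N j n

theorem Eadd_injective : Function.Injective (Eadd 𝒜 N) := (E N).injective

/-- the decomposition map -/
noncomputable def decHom : Tw 𝒜 (R[T;T⁻¹] ⊗[R] N) →+ ⨁ j, piece 𝒜 N j :=
  (Finsupp.liftAddHom (fun j : ℤ => (DirectSum.of (fun j => piece 𝒜 N j) j).comp
    ((tmulT 𝒜 N j).rangeRestrict))).comp (Eadd 𝒜 N)

theorem decHom_tmulT (j : ℤ) (n : N) :
    decHom 𝒜 N (tmulT 𝒜 N j n) = DirectSum.of (fun j => piece 𝒜 N j) j ⟨tmulT 𝒜 N j n, tmulT_mem 𝒜 N j n⟩ := by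
  unfold decHom
  rw [AddMonoidHom.comp_apply, Eadd_tmulT, Finsupp.liftAddHom_apply_single]
  rfl

theorem coe_decHom (x : Tw 𝒜 (R[T;T⁻¹] ⊗[R] N)) :
    DirectSum.coeAddMonoidHom (piece 𝒜 N) (decHom 𝒜 N x) = x := by
  apply Eadd_injective 𝒜 N
  generalize hy : Eadd 𝒜 N x = y
  have hx : decHom 𝒜 N x = Finsupp.liftAddHom (fun j : ℤ =>
      (DirectSum.of (fun j => piece 𝒜 N j) j).comp ((tmulT 𝒜 N j).rangeRestrict)) y := by
    rw [← hy]; rfl
  rw [hx]
  clear hx hy x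
  induction y using Finsupp.induction_linear with
  | zero => simp
  | add f g hf hg => rw [map_add, map_add, map_add, hf, hg]
  | single j n =>
    rw [Finsupp.liftAddHom_apply_single, AddMonoidHom.comp_apply, DirectSum.coeAddMonoidHom_of]
    exact Eadd_tmulT 𝒜 N j n

/-- the decomposition of the twisted module -/
@[instance_reducible]
noncomputable def twDecomposition : DirectSum.Decomposition (piece 𝒜 N) :=
  DirectSum.Decomposition.ofAddHom (piece 𝒜 N) (decHom 𝒜 N)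
    (by
      apply AddMonoidHom.ext
      intro x
      exact coe_decHom 𝒜 N x)
    (by
      apply DirectSum.addHom_ext
      rintro j ⟨_, n, rfl⟩
      rw [AddMonoidHom.comp_apply, DirectSum.coeAddMonoidHom_of]
      exact decHom_tmulT 𝒜 N j n)

theorem smul_tmulT {d : ℤ} {r : R} (hr : r ∈ 𝒜 d) (j : ℤ) (n : N) :
    r • tmulT 𝒜 N j n = tmulT 𝒜 N (d + j) (r • n) := by
  rw [tw_smul, rho_of_mem 𝒜 1 hr, one_mul]
  change ((C r * T d : R[T;T⁻¹]) • ((T j : R[T;T⁻¹]) ⊗ₜ[R] n) : R[T;T⁻¹] ⊗[R] N) =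
    ((T (d + j) : R[T;T⁻¹]) ⊗ₜ[R] (r • n) : R[T;T⁻¹] ⊗[R] N)
  rw [TensorProduct.smul_tmul', smul_eq_mul, mul_assoc, ← T_add, ← LaurentPolynomial.smul_eq_C_mul,
    TensorProduct.smul_tmul]

theorem tw_gradedSMul : SetLike.GradedSMul 𝒜 (piece 𝒜 N) where
  smul_mem := by
    rintro d j r x hr ⟨n, rfl⟩
    change r • tmulT 𝒜 N j n ∈ piece 𝒜 N (d + j)
    rw [smul_tmulT 𝒜 N hr]
    exact tmulT_mem 𝒜 N _ _

end LN

section Eta

variable {M : Type u} [AddCommGroup M] [Module R M] (ℳ : ℤ → AddSubgroup M)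
  [DirectSum.Decomposition ℳ] [SetLike.GradedSMul 𝒜 ℳ]
variable {N : Type u} [AddCommGroup N] [Module R N] (i : M →ₗ[R] N)

/-- `m ↦ ∑ T^j ⊗ i(m_j)` as an additive map -/
noncomputable def etaAdd : M →+ Tw 𝒜 (R[T;T⁻¹] ⊗[R] N) :=
  (DirectSum.toAddMonoid (fun j => (tmulT 𝒜 N j).comp (i.toAddMonoidHom.comp (ℳ j).subtype))).comp
    (DirectSum.decomposeAddEquiv ℳ).toAddMonoidHom

theorem etaAdd_of_mem {j : ℤ} {m : M} (hm : m ∈ ℳ j) :
    etaAdd 𝒜 ℳ i m = tmulT 𝒜 N j (i m) := by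
  unfold etaAdd
  rw [AddMonoidHom.comp_apply]
  change DirectSum.toAddMonoid _ (DirectSum.decompose ℳ m) = _
  rw [DirectSum.decompose_of_mem ℳ hm, DirectSum.toAddMonoid_of]
  rfl

theorem etaAdd_smul (r : R) (m : M) : etaAdd 𝒜 ℳ i (r • m) = r • etaAdd 𝒜 ℳ i m := by
  induction r using DirectSum.Decomposition.inductionOn 𝒜 with
  | zero =>
    rw [zero_smul, map_zero]
    exact (zero_smul R (etaAdd 𝒜 ℳ i m)).symm
  | add r r' hr hr' =>
    rw [add_smul, map_add, hr, hr']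
    exact (add_smul r r' (etaAdd 𝒜 ℳ i m)).symm
  | @homogeneous d r =>
    induction m using DirectSum.Decomposition.inductionOn ℳ with
    | zero =>
      rw [smul_zero, map_zero]
      exact (smul_zero (r : R)).symm
    | add m m' hm hm' =>
      rw [smul_add, map_add, map_add, hm, hm']
      exact (smul_add (r : R) (etaAdd 𝒜 ℳ i m) (etaAdd 𝒜 ℳ i m')).symm
    | @homogeneous j m =>
      have h1 : (r : R) • (m : M) ∈ ℳ (d + j) :=
        SetLike.GradedSMul.smul_mem (A := 𝒜) (B := ℳ) r.2 m.2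
      rw [etaAdd_of_mem 𝒜 ℳ i h1, etaAdd_of_mem 𝒜 ℳ i m.2, smul_tmulT 𝒜 N r.2, map_smul]

/-- `η' : M → ρ^*(R[T;T⁻¹] ⊗ N)` -/
noncomputable def eta : M →ₗ[R] Tw 𝒜 (R[T;T⁻¹] ⊗[R] N) where
  toFun := etaAdd 𝒜 ℳ i
  map_add' := map_add _
  map_smul' r m := etaAdd_smul 𝒜 ℳ i r m

theorem eta_of_mem {j : ℤ} {m : M} (hm : m ∈ ℳ j) : eta 𝒜 ℳ i m = tmulT 𝒜 N j (i m) :=
  etaAdd_of_mem 𝒜 ℳ i hm

theorem Eadd_eta_apply (m : M) (k : ℤ) :
    Eadd 𝒜 N (eta 𝒜 ℳ i m) k = i ((DirectSum.decompose ℳ m) k : M) := by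
  induction m using DirectSum.Decomposition.inductionOn ℳ with
  | zero => simp
  | add m m' hm hm' =>
    rw [map_add, map_add, Finsupp.add_apply, hm, hm', DirectSum.decompose_add, DirectSum.add_apply,
      AddSubgroup.coe_add, map_add]
  | @homogeneous j m =>
    rw [eta_of_mem 𝒜 ℳ i m.2, Eadd_tmulT]
    by_cases hjk : j = k
    · subst hjk
      rw [Finsupp.single_eq_same, DirectSum.decompose_of_mem_same ℳ m.2]
    · rw [Finsupp.single_eq_of_ne' hjk, DirectSum.decompose_of_mem_ne ℳ m.2 hjk, map_zero]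

theorem eta_injective (hi : Function.Injective i) : Function.Injective (eta 𝒜 ℳ i) := by
  classical
  rw [injective_iff_map_eq_zero]
  intro m hm
  have h1 : ∀ k, ((DirectSum.decompose ℳ m) k : M) = 0 := by
    intro k
    apply hi
    rw [← Eadd_eta_apply 𝒜 ℳ i m k, hm, map_zero, map_zero, Finsupp.zero_apply]
  rw [← DirectSum.sum_support_decompose ℳ m]
  exact Finset.sum_eq_zero fun k _ => h1 k

end Eta

section Main

variable [IsNoetherianRing R] (M : Type u) [AddCommGroup M] [Module R M] (ℳ : ℤ → AddSubgroup M)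
  [DirectSum.Decomposition ℳ] [SetLike.GradedSMul 𝒜 ℳ]

/-- A `*`injective graded module over a Noetherian `ℤ`-graded ring has injective dimension `≤ 1`. -/
theorem hasInjectiveDimensionLT_two (hM : GrLC.IsStarInj 𝒜 ℳ) :
    HasInjectiveDimensionLT (ModuleCat.of R M) 2 := by
  -- an injective module containing `M`
  let NN : ModuleCat.{u} R := Injective.under (ModuleCat.of R M)
  let i : M →ₗ[R] NN := (Injective.ι (ModuleCat.of R M)).hom
  have hi : Function.Injective i :=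
    (ModuleCat.mono_iff_injective (Injective.ι (ModuleCat.of R M))).mp inferInstance
  haveI hNN0 : Injective (ModuleCat.of R NN) :=
    (inferInstance : Injective (Injective.under (ModuleCat.of R M)))
  haveI hNN : Module.Injective R NN := Module.injective_module_of_injective_object R NN
  -- the graded module `ρ^*(R[T;T⁻¹] ⊗ N)`
  letI dec : DirectSum.Decomposition (piece 𝒜 NN) := twDecomposition 𝒜 NN
  haveI gs : SetLike.GradedSMul 𝒜 (piece 𝒜 NN) := tw_gradedSMul 𝒜 NN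
  obtain ⟨h, -, hh⟩ := hM (GrLC.GMod.of 𝒜 M ℳ)
    (GrLC.GMod.of 𝒜 (Tw 𝒜 (R[T;T⁻¹] ⊗[R] NN)) (piece 𝒜 NN)) (eta 𝒜 ℳ i)
    (fun j m hm => by
      change eta 𝒜 ℳ i m ∈ piece 𝒜 NN j
      rw [eta_of_mem 𝒜 ℳ i hm]
      exact tmulT_mem 𝒜 NN j _)
    (eta_injective 𝒜 ℳ i hi) LinearMap.id (fun j m hm => hm)
  have hLN : Module.Injective R (R[T;T⁻¹] ⊗[R] NN) := injective_LN NN
  haveI := hasInjectiveDimensionLT_tw 𝒜 (R[T;T⁻¹] ⊗[R] NN) hLN
  have hret : Retract (ModuleCat.of R M) (ModuleCat.of R (Tw 𝒜 (R[T;T⁻¹] ⊗[R] NN))) :=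
    { i := ModuleCat.ofHom (eta 𝒜 ℳ i)
      r := ModuleCat.ofHom h
      retract := by
        apply ModuleCat.hom_ext
        exact hh }
  exact hret.hasInjectiveDimensionLT 2

end Main

end Groth.Agent.Lib.Seat86.GrTwC
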