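import Mathlib
import Groth.Agent.Lib.Seat86DSeqB

/-!
# The fibre of the Kähler differentials at a rational closed point

* `exists_finset_span_cotangent`: for a maximal ideal `I` of a Noetherian ring `B`, the `B`-module
  `I/I²` is generated by `μ(I B_I)` elements.
* `exists_finset_span_quotient_tensor_kaehler`: for a `k`-algebra `B` and a maximal ideal `m` with
  `k → B/m` surjective, `(B/m) ⊗ Ω_{B/k}` is spanned by `μ(m B_m)` elements (conormal sequence).
-/

set_option autoImplicit false
universe u

namespace Groth.Agent.Lib.Seat86.KaehlerGenA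

open IsLocalRing TensorProduct KaehlerDifferential Groth.Agent.Lib.Seat86.DSeqB

/-- for a maximal ideal `I` of a Noetherian ring, `I/I²` is generated over `B` by `μ(I B_I)`
elements -/
theorem exists_finset_span_cotangent {B : Type u} [CommRing B] [IsNoetherianRing B]
    (I : Ideal B) [hI : I.IsMaximal] :
    ∃ S₀ : Finset I.Cotangent,
      S₀.card ≤ (maximalIdeal (Localization.AtPrime I)).spanFinrank ∧
        Submodule.span B (S₀ : Set I.Cotangent) = ⊤ := by
  classical
  have hN : IsNoetherianRing (Localization.AtPrime I) :=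
    IsLocalization.isNoetherianRing I.primeCompl _ inferInstance
  obtain ⟨G, hGcard, hGspan⟩ := Submodule.FG.exists_span_finset_card_eq_spanFinrank
    (IsNoetherian.noetherian (maximalIdeal (Localization.AtPrime I)))
  -- numerators of the generators
  have hsurj : ∀ g : Localization.AtPrime I, ∃ bs : B × I.primeCompl,
      g * algebraMap B (Localization.AtPrime I) bs.2 = algebraMap B (Localization.AtPrime I) bs.1 :=
    fun g => IsLocalization.surj I.primeCompl g
  choose bs hbs using hsurj
  let A₀ : Finset B := G.image (fun g => (bs g).1)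
  have hunit : ∀ g, IsUnit (algebraMap B (Localization.AtPrime I) ((bs g).2 : B)) :=
    fun g => IsLocalization.map_units _ (bs g).2
  have hGmem : ∀ g ∈ G, g ∈ maximalIdeal (Localization.AtPrime I) := by
    intro g hg
    rw [← hGspan]
    exact Submodule.subset_span hg
  have hA₀ : ∀ a ∈ (A₀ : Set B), a ∈ I := by
    intro a ha
    obtain ⟨g, hg, rfl⟩ := Finset.mem_image.mp ha
    rw [← IsLocalization.AtPrime.to_map_mem_maximal_iff (Localization.AtPrime I) I, ← hbs g]
    exact Ideal.mul_mem_right _ _ (hGmem g hg)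
  have hmap : Ideal.map (algebraMap B (Localization.AtPrime I)) (Ideal.span (A₀ : Set B)) =
      maximalIdeal (Localization.AtPrime I) := by
    rw [Ideal.map_span]
    apply le_antisymm
    · rw [Ideal.span_le]
      rintro _ ⟨a, ha, rfl⟩
      exact (IsLocalization.AtPrime.to_map_mem_maximal_iff (Localization.AtPrime I) I a).mpr
        (hA₀ a ha)
    · have : maximalIdeal (Localization.AtPrime I) = Ideal.span (G : Set (Localization.AtPrime I)) :=
        hGspan.symm
      rw [this, Ideal.span_le]
      intro g hg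
      obtain ⟨u, hu⟩ := hunit g
      have hgu : g = algebraMap B (Localization.AtPrime I) (bs g).1 * (↑u⁻¹ : Localization.AtPrime I) := by
        rw [← hbs g, ← hu, mul_assoc, Units.mul_inv, mul_one]
      rw [hgu]
      apply Ideal.mul_mem_right
      exact Ideal.subset_span ⟨(bs g).1, Finset.mem_image_of_mem _ hg, rfl⟩
  have hloc : ∀ z ∈ I, ∃ s : B, s ∉ I ∧ s * z ∈ Ideal.span (A₀ : Set B) := fun z hz =>
    exists_smul_mem_of_span_cotVec_eq_top I hA₀ ((span_cotVec_image_eq_top_iff I hA₀).mpr hmap) hz
  let S₀ : Finset I.Cotangent := A₀.attach.image (fun a => I.toCotangent ⟨a.1, hA₀ a.1 a.2⟩)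
  refine ⟨S₀, ?_, ?_⟩
  · calc S₀.card ≤ A₀.attach.card := Finset.card_image_le
      _ = A₀.card := Finset.card_attach
      _ ≤ G.card := Finset.card_image_le
      _ = _ := hGcard
  · have hJI : Ideal.span (A₀ : Set B) ≤ I := Ideal.span_le.mpr hA₀
    have key : ∀ (y : B) (hy : y ∈ Ideal.span (A₀ : Set B)),
        I.toCotangent ⟨y, hJI hy⟩ ∈ Submodule.span B (S₀ : Set I.Cotangent) := by
      intro y hy
      induction hy using Submodule.span_induction with
      | mem y hy =>
        apply Submodule.subset_span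
        exact Finset.mem_image.mpr ⟨⟨y, hy⟩, Finset.mem_attach _ _, rfl⟩
      | zero =>
        have : (⟨0, hJI (Submodule.zero_mem _)⟩ : I) = 0 := rfl
        rw [this, map_zero]
        exact Submodule.zero_mem _
      | add y z hy hz ihy ihz =>
        have : (⟨y + z, hJI (Submodule.add_mem _ hy hz)⟩ : I) = ⟨y, hJI hy⟩ + ⟨z, hJI hz⟩ := rfl
        rw [this, map_add]
        exact Submodule.add_mem _ ihy ihz
      | smul b y hy ihy =>
        have : (⟨b • y, hJI (Submodule.smul_mem _ b hy)⟩ : I) = b • ⟨y, hJI hy⟩ := rfl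
        rw [this, map_smul]
        exact Submodule.smul_mem _ _ ihy
    rw [eq_top_iff]
    rintro c -
    obtain ⟨⟨z, hz⟩, rfl⟩ := I.toCotangent_surjective c
    obtain ⟨s, hsI, hsz⟩ := hloc z hz
    obtain ⟨v, w, hw, hvw⟩ := hI.exists_inv hsI
    have hvsz : v * (s * z) ∈ Ideal.span (A₀ : Set B) := Ideal.mul_mem_left _ _ hsz
    have heq : I.toCotangent ⟨z, hz⟩ = I.toCotangent ⟨v * (s * z), hJI hvsz⟩ := by
      rw [Ideal.toCotangent_eq]
      simp only
      have : z - v * (s * z) = w * z := by
        have : z = (v * s + w) * z := by rw [hvw, one_mul]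
        nth_rewrite 1 [this]
        ring
      rw [this, pow_two]
      exact Ideal.mul_mem_mul hw hz
    rw [heq]
    exact key _ hvsz

/-- for a `k`-algebra `B` and a maximal ideal `m` with `k → B/m` surjective, `(B/m) ⊗ Ω_{B/k}` is
spanned by `μ(m B_m)` elements -/
theorem exists_finset_span_quotient_tensor_kaehler {k B : Type u} [Field k] [CommRing B]
    [Algebra k B] [IsNoetherianRing B] (m : Ideal B) [hm : m.IsMaximal]
    (hk : Function.Surjective (algebraMap k (B ⧸ m))) :
    ∃ S : Finset ((B ⧸ m) ⊗[B] Ω[B⁄k]),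
      S.card ≤ (maximalIdeal (Localization.AtPrime m)).spanFinrank ∧
        Submodule.span (B ⧸ m) (S : Set ((B ⧸ m) ⊗[B] Ω[B⁄k])) = ⊤ := by
  classical
  have hsub : Subsingleton Ω[(B ⧸ m)⁄k] := KaehlerDifferential.subsingleton_of_surjective _ _ hk
  have hex := KaehlerDifferential.exact_kerCotangentToTensor_mapBaseChange k B (B ⧸ m)
    Ideal.Quotient.mk_surjective
  have hsurj : Function.Surjective (kerCotangentToTensor k B (B ⧸ m)) := by
    intro z
    exact (hex z).mp (Subsingleton.elim _ _)
  have hker : RingHom.ker (algebraMap B (B ⧸ m)) = m := by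
    rw [Ideal.Quotient.algebraMap_eq, Ideal.mk_ker]
  -- transport the generators of the cotangent space
  have key : ∀ (I : Ideal B) (hIm : I = m),
      ∃ (_ : I.IsMaximal) (S₀ : Finset I.Cotangent),
        S₀.card ≤ (maximalIdeal (Localization.AtPrime m)).spanFinrank ∧
          Submodule.span B (S₀ : Set I.Cotangent) = ⊤ := by
    intro I hIm
    subst hIm
    exact ⟨hm, exists_finset_span_cotangent I⟩
  obtain ⟨_, S₀, hS₀card, hS₀span⟩ := key _ hker
  refine ⟨S₀.image (kerCotangentToTensor k B (B ⧸ m)), Finset.card_image_le.trans hS₀card, ?_⟩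
  have h1 : Submodule.span B ((S₀.image (kerCotangentToTensor k B (B ⧸ m)) : Finset _) :
      Set ((B ⧸ m) ⊗[B] Ω[B⁄k])) = ⊤ := by
    rw [Finset.coe_image, ← Submodule.map_span, hS₀span, Submodule.map_top,
      LinearMap.range_eq_top.mpr hsurj]
  rw [← Submodule.restrictScalars_eq_top_iff B,
    Submodule.restrictScalars_span B (B ⧸ m) Ideal.Quotient.mk_surjective]
  exact h1

end Groth.Agent.Lib.Seat86.KaehlerGenA
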