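import Mathlib
import Groth.Agent.Lib.Seat86GenBound
import Groth.Agent.Lib.Seat86KaehlerGenA
import Groth.Agent.Lib.Helper5IntDim

/-!
# Kähler differentials of a variety whose geometric fibre has hypersurface singularities

`exists_generators_kaehler`: let `A` be of finite type over a field `K`, of dimension `d`, and let
`B = K' ⊗_K A` for an algebraically closed algebraic extension `K'` of `K`. If the embedding dimension
of `B_q` is at most `ht q + 1` for every prime `q` of `B`, then `(Ω_{A/K})_p` is generated by at most
`d + 1` elements for every prime `p` of `A`.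
-/

set_option autoImplicit false
set_option linter.style.haveILetI false
universe u

namespace Groth.Agent.Lib.Seat86.KaehlerGen

open TensorProduct KaehlerDifferential IsLocalRing
open Groth.Agent.Lib.Seat86.GenBound Groth.Agent.Lib.Seat86.KaehlerGenA

variable {K K' A B : Type u} [Field K] [Field K'] [Algebra K K'] [CommRing A] [Algebra K A]
  [CommRing B] [Algebra K B] [Algebra K' B] [Algebra A B] [IsScalarTower K A B]
  [IsScalarTower K K' B] [Algebra.IsPushout K K' A B]

/-- the fibre dimension of `Ω_{A/K}` at `p` equals the fibre dimension of `Ω_{B/K'}` at a prime `q`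
of the base change `B` lying over `p` -/
theorem finrank_chain (p : Ideal A) [p.IsPrime] (q : Ideal B) [q.IsPrime]
    (hpq : p = q.comap (algebraMap A B)) :
    Module.finrank p.ResidueField
      (p.ResidueField ⊗[Localization.AtPrime p] LocalizedModule p.primeCompl Ω[A⁄K]) =
    Module.finrank q.ResidueField (q.ResidueField ⊗[B] Ω[B⁄K']) := by
  let φ : p.ResidueField →ₐ[A] q.ResidueField :=
    Ideal.ResidueField.mapₐ p q (Algebra.ofId A B) hpq
  letI : Algebra p.ResidueField q.ResidueField := φ.toRingHom.toAlgebra
  haveI : IsScalarTower A p.ResidueField q.ResidueField :=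
    IsScalarTower.of_algebraMap_eq (fun a => (φ.commutes a).symm)
  letI : Algebra (Localization.AtPrime p) q.ResidueField :=
    ((algebraMap p.ResidueField q.ResidueField).comp
      (algebraMap (Localization.AtPrime p) p.ResidueField)).toAlgebra
  haveI : IsScalarTower (Localization.AtPrime p) p.ResidueField q.ResidueField :=
    IsScalarTower.of_algebraMap_eq' rfl
  haveI : IsScalarTower A (Localization.AtPrime p) q.ResidueField := by
    refine IsScalarTower.of_algebraMap_eq (fun a => ?_)
    rw [IsScalarTower.algebraMap_apply A p.ResidueField q.ResidueField,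
      IsScalarTower.algebraMap_apply A (Localization.AtPrime p) p.ResidueField]
    rfl
  let e1 := AlgebraTensorModule.cancelBaseChange (Localization.AtPrime p) p.ResidueField
    q.ResidueField q.ResidueField (LocalizedModule p.primeCompl Ω[A⁄K])
  have hbc := IsLocalizedModule.isBaseChange p.primeCompl (Localization.AtPrime p)
    (LocalizedModule.mkLinearMap p.primeCompl Ω[A⁄K])
  let e2 : q.ResidueField ⊗[Localization.AtPrime p] LocalizedModule p.primeCompl Ω[A⁄K]
      ≃ₗ[q.ResidueField]
      q.ResidueField ⊗[Localization.AtPrime p] (Localization.AtPrime p ⊗[A] Ω[A⁄K]) :=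
    AlgebraTensorModule.congr (LinearEquiv.refl q.ResidueField q.ResidueField) hbc.equiv.symm
  let e3 := AlgebraTensorModule.cancelBaseChange A (Localization.AtPrime p)
    q.ResidueField q.ResidueField Ω[A⁄K]
  let e4 := (AlgebraTensorModule.cancelBaseChange A B q.ResidueField q.ResidueField Ω[A⁄K]).symm
  let e5 : q.ResidueField ⊗[B] (B ⊗[A] Ω[A⁄K]) ≃ₗ[q.ResidueField] q.ResidueField ⊗[B] Ω[B⁄K'] :=
    AlgebraTensorModule.congr (LinearEquiv.refl q.ResidueField q.ResidueField)
      (KaehlerDifferential.tensorKaehlerEquiv K K' A B)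
  have h1 : Module.finrank q.ResidueField (q.ResidueField ⊗[p.ResidueField]
      (p.ResidueField ⊗[Localization.AtPrime p] LocalizedModule p.primeCompl Ω[A⁄K])) =
      Module.finrank p.ResidueField
        (p.ResidueField ⊗[Localization.AtPrime p] LocalizedModule p.primeCompl Ω[A⁄K]) :=
    Module.finrank_baseChange
  rw [← h1]
  exact (e1 ≪≫ₗ e2 ≪≫ₗ e3 ≪≫ₗ e4 ≪≫ₗ e5).finrank_eq

omit [Field K'] [Algebra K K'] [Algebra K' B] [IsScalarTower K K' B]
  [Algebra.IsPushout K K' A B] in
theorem exists_generators_kaehler (K' : Type u) [Field K'] [Algebra K K'] [Algebra K' B]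
    [IsScalarTower K K' B] [Algebra.IsPushout K K' A B]
    [Algebra.FiniteType K A] [IsAlgClosed K'] [Algebra.IsAlgebraic K K']
    (hhyp : ∀ (q : Ideal B) [q.IsPrime],
      (Module.finrank (ResidueField (Localization.AtPrime q))
          (CotangentSpace (Localization.AtPrime q)) : ℕ∞) ≤ q.height + 1)
    (d : ℕ) (hd : ringKrullDim A = d) (p : Ideal A) [p.IsPrime] :
    ∃ s : Finset (LocalizedModule p.primeCompl Ω[A⁄K]), s.card ≤ d + 1 ∧
      Submodule.span (Localization.AtPrime p)
        (s : Set (LocalizedModule p.primeCompl Ω[A⁄K])) = ⊤ := by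
  classical
  -- basic properties of `B`
  haveI : Algebra.IsIntegral K K' := Algebra.IsAlgebraic.isIntegral
  haveI hint : Algebra.IsIntegral A B := Algebra.IsPushout.isIntegral (R := K) (S := K') (A := A) (SA := B)
  haveI hft : Algebra.FiniteType K' B :=
    Algebra.FiniteType.equiv inferInstance (Algebra.IsPushout.equiv K K' A B)
  haveI hnoeth : IsNoetherianRing B := Algebra.FiniteType.isNoetherianRing K' B
  haveI : IsNoetherianRing A := Algebra.FiniteType.isNoetherianRing K A
  -- `B` is faithfully flat over `A`
  haveI hfree : Module.Free A B :=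
    IsBaseChange.free
      (Algebra.IsPushout.symm (inferInstance : Algebra.IsPushout K K' A B)).out
  have hAnt : Nontrivial A := by
    by_contra h
    rw [not_nontrivial_iff_subsingleton] at h
    rw [ringKrullDim_eq_bot_of_subsingleton] at hd
    exact WithBot.bot_ne_coe hd
  haveI hBnt : Nontrivial B := by
    haveI : Nontrivial (K' ⊗[K] A) :=
      Algebra.TensorProduct.nontrivial_of_algebraMap_injective_of_flat_left K K' A
        (algebraMap K A).injective
    exact (Algebra.IsPushout.equiv K K' A B).toEquiv.symm.nontrivial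
  -- a prime `q` of `B` over `p` and a maximal ideal `m ⊇ q`
  obtain ⟨q, hqprime, hqp⟩ := Ideal.exists_isPrime_liesOver_of_faithfullyFlat (B := B) p
  have hpq : p = q.comap (algebraMap A B) := hqp.over
  obtain ⟨m, hm, hqm⟩ := Ideal.exists_le_maximal q hqprime.ne_top
  -- the embedding dimension at `m`
  have hmu : (maximalIdeal (Localization.AtPrime m)).spanFinrank ≤ d + 1 := by
    haveI : IsNoetherianRing (Localization.AtPrime m) :=
      IsLocalization.isNoetherianRing m.primeCompl _ inferInstance
    rw [IsLocalRing.spanFinrank_maximalIdeal_eq_finrank_cotangentSpace]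
    have h1 := hhyp m
    have h2 : m.height ≤ (m.under A).height :=
      Groth.Agent.Lib.Helper5.height_le_height_under_of_isIntegral m
    have h3 : ((m.under A).height : WithBot ℕ∞) ≤ ringKrullDim A :=
      Ideal.height_le_ringKrullDim_of_ne_top (Ideal.IsPrime.ne_top inferInstance)
    rw [hd] at h3
    have h4 : (m.under A).height ≤ (d : ℕ∞) := by exact_mod_cast h3
    have h5 : (Module.finrank (ResidueField (Localization.AtPrime m))
        (CotangentSpace (Localization.AtPrime m)) : ℕ∞) ≤ (d : ℕ∞) + 1 :=
      h1.trans (by gcongr; exact h2.trans h4)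
    exact_mod_cast h5
  -- the residue field at `m` is `K'`
  have hk : Function.Surjective (algebraMap K' (B ⧸ m)) := by
    letI : Field (B ⧸ m) := Ideal.Quotient.field m
    haveI : Module.Finite K' (B ⧸ m) := finite_of_finite_type_of_isJacobsonRing K' (B ⧸ m)
    exact (IsAlgClosed.algebraMap_bijective_of_isIntegral (k := K') (K := B ⧸ m)).2
  obtain ⟨S, hScard, hSspan⟩ := exists_finset_span_quotient_tensor_kaehler (k := K') m hk
  -- semicontinuity
  have hF : ∀ s : B, s - 1 ∈ m → algebraMap B q.ResidueField s ≠ 0 := by
    intro s hs h0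
    rw [Ideal.algebraMap_residueField_eq_zero] at h0
    apply hm.ne_top
    rw [Ideal.eq_top_iff_one]
    have : (1 : B) = s - (s - 1) := by ring
    rw [this]
    exact m.sub_mem (hqm h0) hs
  have hfin : Module.finrank q.ResidueField (q.ResidueField ⊗[B] Ω[B⁄K']) ≤ d + 1 :=
    finrank_tensor_le_of_span_tensor_quotient m q.ResidueField hF (d + 1) S
      (hScard.trans hmu) hSspan
  rw [← finrank_chain (K := K) (K' := K') p q hpq] at hfin
  exact exists_finset_span_eq_top_of_finrank_le (d + 1) hfin

end Groth.Agent.Lib.Seat86.KaehlerGen
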