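import Mathlib

/-!
# Lifting a finite birational extension along an isomorphism modulo a power of `f`: the relation

Let `A' ⊆ A` be finite with `A'_f = A_f`, `f` a nonzerodivisor on `A`. Then `f^c A ⊆ A'` for some `c`
(`exists_pow_mul_mem_range`). Given a ring `B'`, a nonzerodivisor `g` and an isomorphism
`φ' : A'/f^n ≃ B'/g^n` with `f ↦ g`, `n ≥ 2c+1`, we define the relation `Rel a b` between `a : A` and
`b : B'_g`: there are `x : A'`, `y : B'` with `x = f^c a`, `y = g^c b`, `φ' x = y`. This file proves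
its closure properties.
-/

set_option linter.style.haveILetI false
set_option linter.unusedSectionVars false

universe u

namespace Groth.Agent.Lib.Seat86.LiftExt

open Ideal

section Step1

variable (A' A : Type u) [CommRing A'] [CommRing A] [Algebra A' A] [Module.Finite A' A] (f : A')
  (hf : algebraMap A' A f ∈ nonZeroDivisors A)
  (hsurj : Function.Surjective (IsLocalization.Away.map (Localization.Away f)
      (Localization.Away (algebraMap A' A f)) (algebraMap A' A) f))

include hf hsurj in
/-- Some power of `f` multiplies `A` into `A'`. -/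
theorem exists_pow_mul_mem_range :
    ∃ c : ℕ, ∀ a : A, ∃ x : A', algebraMap A' A x = algebraMap A' A f ^ c * a := by
  have hinjloc : Function.Injective (algebraMap A (Localization.Away (algebraMap A' A f))) :=
    IsLocalization.injective _ (Submonoid.powers_le.mpr hf)
  have key : ∀ a : A, ∃ (m : ℕ) (x : A'), algebraMap A' A x = algebraMap A' A f ^ m * a := by
    intro a
    obtain ⟨s, hs⟩ := hsurj (algebraMap A (Localization.Away (algebraMap A' A f)) a)
    obtain ⟨m, x, hx⟩ := IsLocalization.Away.surj f s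
    have h1 := congrArg (IsLocalization.Away.map (Localization.Away f)
      (Localization.Away (algebraMap A' A f)) (algebraMap A' A) f) hx
    rw [map_mul, map_pow, hs] at h1
    simp only [IsLocalization.Away.map, IsLocalization.map_eq] at h1
    refine ⟨m, x, hinjloc ?_⟩
    rw [← h1, map_mul, map_pow, mul_comm]
  obtain ⟨s, hs⟩ := (Module.finite_def.mp (inferInstance : Module.Finite A' A))
  choose m x hx using key
  refine ⟨s.sup m, ?_⟩
  have hgen : ∀ a ∈ s, ∃ x : A', algebraMap A' A x = algebraMap A' A f ^ (s.sup m) * a := by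
    intro a ha
    have hle : m a ≤ s.sup m := Finset.le_sup ha
    refine ⟨f ^ (s.sup m - m a) * x a, ?_⟩
    rw [map_mul, map_pow, hx a, ← mul_assoc, ← pow_add, Nat.sub_add_cancel hle]
  intro a
  have ha : a ∈ Submodule.span A' (s : Set A) := by rw [hs]; trivial
  induction ha using Submodule.span_induction with
  | mem a ha => exact hgen a ha
  | zero => exact ⟨0, by simp⟩
  | add a b _ _ iha ihb =>
    obtain ⟨xa, hxa⟩ := iha
    obtain ⟨xb, hxb⟩ := ihb
    exact ⟨xa + xb, by rw [map_add, hxa, hxb, mul_add]⟩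
  | smul r a _ iha =>
    obtain ⟨xa, hxa⟩ := iha
    exact ⟨r * xa, by rw [map_mul, hxa, Algebra.smul_def]; ring⟩

end Step1

section Step2

variable {A' A : Type u} [CommRing A'] [CommRing A] [Algebra A' A]
  (hinj : Function.Injective (algebraMap A' A)) (f : A')
  (hf : algebraMap A' A f ∈ nonZeroDivisors A) (c : ℕ)
  (hc : ∀ a : A, ∃ x : A', algebraMap A' A x = algebraMap A' A f ^ c * a)
  (n : ℕ) (hn : 2 * c + 1 ≤ n) {B' : Type u} [CommRing B'] (g : B') (hg : g ∈ nonZeroDivisors B')
  (φ' : (A' ⧸ Ideal.span {f ^ n}) ≃+* (B' ⧸ Ideal.span {g ^ n}))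
  (hφ' : φ' (Ideal.Quotient.mk _ f) = Ideal.Quotient.mk _ g)

/-- The relation between `A` and `B'_g`. -/
def Rel (a : A) (b : Localization.Away g) : Prop :=
  ∃ (x : A') (y : B'), algebraMap A' A x = algebraMap A' A f ^ c * a ∧
    algebraMap B' (Localization.Away g) y = algebraMap B' (Localization.Away g) g ^ c * b ∧
    φ' (Ideal.Quotient.mk _ x) = Ideal.Quotient.mk _ y

theorem rel_add {a a' : A} {b b' : Localization.Away g} (h : Rel f c n g φ' a b)
    (h' : Rel f c n g φ' a' b') : Rel f c n g φ' (a + a') (b + b') := by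
  obtain ⟨x, y, h1, h2, h3⟩ := h
  obtain ⟨x', y', h1', h2', h3'⟩ := h'
  exact ⟨x + x', y + y', by rw [map_add, h1, h1', mul_add], by rw [map_add, h2, h2', mul_add],
    by rw [map_add, map_add, map_add, h3, h3']⟩

theorem rel_neg {a : A} {b : Localization.Away g} (h : Rel f c n g φ' a b) :
    Rel f c n g φ' (-a) (-b) := by
  obtain ⟨x, y, h1, h2, h3⟩ := h
  exact ⟨-x, -y, by rw [map_neg, h1, mul_neg], by rw [map_neg, h2, mul_neg],
    by rw [map_neg, map_neg, map_neg, h3]⟩

theorem rel_zero : Rel f c n g φ' (0 : A) 0 := ⟨0, 0, by simp, by simp, by simp⟩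

include hφ' in
theorem rel_smul {r : A'} {r' : B'} (hr : φ' (Ideal.Quotient.mk _ r) = Ideal.Quotient.mk _ r')
    {a : A} {b : Localization.Away g} (h : Rel f c n g φ' a b) :
    Rel f c n g φ' (algebraMap A' A r * a) (algebraMap B' (Localization.Away g) r' * b) := by
  obtain ⟨x, y, h1, h2, h3⟩ := h
  refine ⟨r * x, r' * y, ?_, ?_, ?_⟩
  · rw [map_mul, h1]; ring
  · rw [map_mul, h2]; ring
  · rw [map_mul, map_mul, map_mul, hr, h3]

include hφ' in
theorem rel_of {r : A'} {r' : B'} (hr : φ' (Ideal.Quotient.mk _ r) = Ideal.Quotient.mk _ r') :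
    Rel f c n g φ' (algebraMap A' A r) (algebraMap B' (Localization.Away g) r') := by
  refine ⟨f ^ c * r, g ^ c * r', ?_, ?_, ?_⟩
  · rw [map_mul, map_pow]
  · rw [map_mul, map_pow]
  · rw [map_mul, map_mul, map_mul, map_pow, map_pow, map_pow, hφ', hr]

include hφ' in
theorem rel_one : Rel f c n g φ' (1 : A) 1 := by
  have h := rel_of (A := A) f c n g φ' hφ' (r := 1) (r' := 1) (by simp)
  simpa using h

/-- Every element of `A` is related to something. -/
theorem rel_total_left (hc : ∀ a : A, ∃ x : A', algebraMap A' A x = algebraMap A' A f ^ c * a)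
    (a : A) : ∃ b, Rel f c n g φ' a b := by
  obtain ⟨x, hx⟩ := hc a
  obtain ⟨y, hy⟩ := Ideal.Quotient.mk_surjective (φ' (Ideal.Quotient.mk _ x))
  obtain ⟨G', hG'⟩ := (IsLocalization.Away.algebraMap_isUnit (S := Localization.Away g) g).exists_right_inv
  refine ⟨G' ^ c * algebraMap B' (Localization.Away g) y, x, y, hx, ?_, hy.symm⟩
  rw [← mul_assoc, ← mul_pow, hG', one_pow, one_mul]

include hinj hc hn hφ' in
/-- Products are related up to a multiple of `f`. -/
theorem rel_mul {a a' : A} {b b' : Localization.Away g} (h : Rel f c n g φ' a b)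
    (h' : Rel f c n g φ' a' b') :
    ∃ s : A, Rel f c n g φ' (a * a' + algebraMap A' A f * s) (b * b') := by
  obtain ⟨x, y, h1, h2, h3⟩ := h
  obtain ⟨x', y', h1', h2', h3'⟩ := h'
  obtain ⟨x'', hx''⟩ := hc (a * a')
  have hxx : x * x' = f ^ c * x'' := by
    apply hinj
    rw [map_mul, map_mul, map_pow, h1, h1', hx'']
    ring
  obtain ⟨w, hw⟩ := Ideal.Quotient.mk_surjective (φ' (Ideal.Quotient.mk _ x''))
  have h4 : Ideal.Quotient.mk (Ideal.span {g ^ n}) (y * y') =
      Ideal.Quotient.mk (Ideal.span {g ^ n}) (g ^ c * w) := by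
    calc Ideal.Quotient.mk (Ideal.span {g ^ n}) (y * y')
        = φ' (Ideal.Quotient.mk _ x) * φ' (Ideal.Quotient.mk _ x') := by rw [map_mul, h3, h3']
      _ = φ' (Ideal.Quotient.mk _ (x * x')) := by rw [map_mul, map_mul]
      _ = φ' (Ideal.Quotient.mk _ (f ^ c * x'')) := by rw [hxx]
      _ = Ideal.Quotient.mk (Ideal.span {g ^ n}) (g ^ c * w) := by
        rw [map_mul, map_mul, map_pow, map_pow, hφ', ← hw, map_mul, map_pow]
  obtain ⟨t, ht⟩ : ∃ t, t * g ^ n = y * y' - g ^ c * w :=
    Ideal.mem_span_singleton'.mp ((Ideal.Quotient.eq).mp h4)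
  obtain ⟨s₀, hs₀⟩ : ∃ s₀ : A', φ' (Ideal.Quotient.mk _ s₀) = Ideal.Quotient.mk _ t := by
    obtain ⟨q, hq⟩ := φ'.surjective (Ideal.Quotient.mk _ t)
    obtain ⟨s₀, rfl⟩ := Ideal.Quotient.mk_surjective q
    exact ⟨s₀, hq⟩
  refine ⟨algebraMap A' A f ^ (n - 2 * c - 1) * algebraMap A' A s₀, x'' + f ^ (n - c) * s₀,
    w + g ^ (n - c) * t, ?_, ?_, ?_⟩
  · rw [map_add, map_mul, map_pow, hx'']
    have hnc : n - c = c + (1 + (n - 2 * c - 1)) := by omega
    rw [hnc, pow_add, pow_add, pow_one]
    ring
  · have hG := IsLocalization.Away.algebraMap_isUnit (S := Localization.Away g) g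
    have hunit : IsUnit (algebraMap B' (Localization.Away g) g ^ c) := hG.pow c
    apply hunit.mul_left_cancel
    have h5 : algebraMap B' (Localization.Away g) g ^ c *
        (algebraMap B' (Localization.Away g) g ^ c * (b * b')) =
        algebraMap B' (Localization.Away g) (y * y') := by
      rw [map_mul, h2, h2']
      ring
    have h6 : y * y' = g ^ c * w + t * g ^ n := by rw [ht]; ring
    have hpow : algebraMap B' (Localization.Away g) g ^ n =
        algebraMap B' (Localization.Away g) g ^ c * algebraMap B' (Localization.Away g) g ^ (n - c) := by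
      rw [← pow_add]
      congr 1
      omega
    rw [h5, h6]
    simp only [map_add, map_mul, map_pow]
    rw [hpow]
    ring
  · rw [map_add, map_add, map_add, map_mul, map_mul, map_pow, map_pow, hφ', hs₀, ← hw, map_mul,
      map_pow]

include hinj hn in
/-- Elements related to `0` come from `g^(n-c) B'`. -/
theorem rel_zero_left {d : Localization.Away g} (h : Rel f c n g φ' (0 : A) d) :
    ∃ t : B', d = algebraMap B' (Localization.Away g) (g ^ (n - c) * t) := by
  obtain ⟨x, y, h1, h2, h3⟩ := h
  rw [mul_zero] at h1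
  have hx : x = 0 := hinj (by rw [h1, map_zero])
  rw [hx, map_zero, map_zero] at h3
  obtain ⟨t, ht⟩ := Ideal.mem_span_singleton'.mp (Ideal.Quotient.eq_zero_iff_mem.mp h3.symm)
  refine ⟨t, ?_⟩
  have hG := IsLocalization.Away.algebraMap_isUnit (S := Localization.Away g) g
  have hunit : IsUnit (algebraMap B' (Localization.Away g) g ^ c) := hG.pow c
  apply hunit.mul_left_cancel
  have hpow : algebraMap B' (Localization.Away g) g ^ n =
      algebraMap B' (Localization.Away g) g ^ c * algebraMap B' (Localization.Away g) g ^ (n - c) := by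
    rw [← pow_add]
    congr 1
    omega
  rw [← h2, ← ht, map_mul, map_mul, map_pow, map_pow, hpow]
  ring

include hinj hf hn hg hφ' in
/-- Elements related to multiples of `g` are multiples of `f`. -/
theorem rel_ker {a a₀ : A} {b₀ : Localization.Away g}
    (h : Rel f c n g φ' a (algebraMap B' (Localization.Away g) g * b₀))
    (h₀ : Rel f c n g φ' a₀ b₀) : ∃ s : A, a = algebraMap A' A f * s := by
  obtain ⟨x, y, h1, h2, h3⟩ := h
  obtain ⟨x₀, y₀, h1₀, h2₀, h3₀⟩ := h₀
  have hy : y = g * y₀ := by
    apply IsLocalization.injective (Localization.Away g) (Submonoid.powers_le.mpr hg)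
    rw [h2, map_mul, h2₀]
    ring
  have h4 : φ' (Ideal.Quotient.mk _ x) = φ' (Ideal.Quotient.mk _ (f * x₀)) := by
    rw [h3, hy, map_mul, map_mul, map_mul, hφ', h3₀]
  have h5 := φ'.injective h4
  obtain ⟨s, hs⟩ := Ideal.mem_span_singleton'.mp ((Ideal.Quotient.eq).mp h5)
  refine ⟨a₀ + algebraMap A' A f ^ (n - c - 1) * algebraMap A' A s, ?_⟩
  have hFc : algebraMap A' A f ^ c ∈ nonZeroDivisors A := pow_mem hf c
  apply (mul_cancel_left_mem_nonZeroDivisors hFc).mp
  have hx : x = f * x₀ + s * f ^ n := by rw [hs]; ring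
  have hpowF : algebraMap A' A f ^ n =
      algebraMap A' A f ^ c * (algebraMap A' A f * algebraMap A' A f ^ (n - c - 1)) := by
    rw [← pow_succ', ← pow_add]
    congr 1
    omega
  rw [← h1, hx, map_add, map_mul, map_mul, map_pow, h1₀, hpowF]
  ring

end Step2

end Groth.Agent.Lib.Seat86.LiftExt
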