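import Mathlib
import Groth.Agent.Lib.Seat86LiftExtA

/-!
# Lifting a finite birational extension along an isomorphism modulo a power of `f`

`main`: let `A' ⊆ A` be finite, `f ∈ A'` a nonzerodivisor on `A` with `A'_f = A_f`. There is `n₀ > 0`
such that for `n ≥ n₀`, every ring `B'` with a nonzerodivisor `g` and an isomorphism
`A'/f^n ≃ B'/g^n`, `f ↦ g`, admits a finite extension `B' ⊆ B` with a compatible isomorphism
`A/fA ≃ B/gB`.
-/

set_option linter.style.haveILetI false
set_option linter.unusedSectionVars false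

universe u

namespace Groth.Agent.Lib.Seat86.LiftExt

open Ideal

section

variable {A' A : Type u} [CommRing A'] [CommRing A] [Algebra A' A]
  (hinj : Function.Injective (algebraMap A' A)) (f : A')
  (hf : algebraMap A' A f ∈ nonZeroDivisors A) (c : ℕ)
  (hc : ∀ a : A, ∃ x : A', algebraMap A' A x = algebraMap A' A f ^ c * a)
  (n : ℕ) (hn : 2 * c + 1 ≤ n) {B' : Type u} [CommRing B'] (g : B') (hg : g ∈ nonZeroDivisors B')
  (φ' : (A' ⧸ Ideal.span {f ^ n}) ≃+* (B' ⧸ Ideal.span {g ^ n}))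
  (hφ' : φ' (Ideal.Quotient.mk _ f) = Ideal.Quotient.mk _ g)

/-- The ring `B ⊆ B'_g`. -/
def ringB : Subalgebra B' (Localization.Away g) where
  carrier := {b | ∃ a : A, Rel f c n g φ' a b}
  mul_mem' := by
    rintro b b' ⟨a, h⟩ ⟨a', h'⟩
    obtain ⟨s, hs⟩ := rel_mul hinj f c hc n hn g φ' hφ' h h'
    exact ⟨_, hs⟩
  add_mem' := by
    rintro b b' ⟨a, h⟩ ⟨a', h'⟩
    exact ⟨_, rel_add f c n g φ' h h'⟩
  one_mem' := ⟨1, rel_one f c n g φ' hφ'⟩
  zero_mem' := ⟨0, rel_zero f c n g φ'⟩
  algebraMap_mem' := by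
    intro r
    obtain ⟨q, hq⟩ := φ'.surjective (Ideal.Quotient.mk _ r)
    obtain ⟨r₀, rfl⟩ := Ideal.Quotient.mk_surjective q
    exact ⟨_, rel_of f c n g φ' hφ' hq⟩

local notation "Bt" => ringB hinj f c hc n hn g φ' hφ'

/-- The image of `g` in `B`. -/
local notation "gB" => algebraMap B' (ringB hinj f c hc n hn g φ' hφ') g

/-- The map `A → B/gB` as a function. -/
noncomputable def Phi₀ (a : A) : Bt ⧸ Ideal.span {gB} :=
  Ideal.Quotient.mk _ ⟨Classical.choose (rel_total_left f c n g φ' hc a),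
    ⟨a, Classical.choose_spec (rel_total_left f c n g φ' hc a)⟩⟩

theorem Phi₀_eq {a : A} {b : Localization.Away g} (h : Rel f c n g φ' a b) :
    Phi₀ hinj f c hc n hn g φ' hφ' a = Ideal.Quotient.mk _ ⟨b, ⟨a, h⟩⟩ := by
  unfold Phi₀
  set b₁ := Classical.choose (rel_total_left f c n g φ' hc a) with hb₁
  have h₁ : Rel f c n g φ' a b₁ := Classical.choose_spec (rel_total_left f c n g φ' hc a)
  have h0 : Rel f c n g φ' (0 : A) (b₁ - b) := by
    have := rel_add f c n g φ' h₁ (rel_neg f c n g φ' h)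
    rwa [add_neg_cancel, ← sub_eq_add_neg] at this
  obtain ⟨t, ht⟩ := rel_zero_left hinj f c n hn g φ' h0
  rw [Ideal.Quotient.eq, Ideal.mem_span_singleton']
  refine ⟨algebraMap B' Bt (g ^ (n - c - 1) * t), ?_⟩
  apply Subtype.ext
  show algebraMap B' (Localization.Away g) (g ^ (n - c - 1) * t) *
    algebraMap B' (Localization.Away g) g = b₁ - b
  rw [ht, ← map_mul]
  congr 1
  have hp : g ^ (n - c) = g ^ (n - c - 1) * g := by
    rw [← pow_succ]
    congr 1
    omega
  rw [hp]
  ring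

theorem Phi₀_add (a a' : A) : Phi₀ hinj f c hc n hn g φ' hφ' (a + a') =
    Phi₀ hinj f c hc n hn g φ' hφ' a + Phi₀ hinj f c hc n hn g φ' hφ' a' := by
  have h := Classical.choose_spec (rel_total_left f c n g φ' hc a)
  have h' := Classical.choose_spec (rel_total_left f c n g φ' hc a')
  rw [Phi₀_eq hinj f c hc n hn g φ' hφ' (rel_add f c n g φ' h h'),
    Phi₀_eq hinj f c hc n hn g φ' hφ' h, Phi₀_eq hinj f c hc n hn g φ' hφ' h', ← map_add]
  rfl

theorem Phi₀_f_mul (s : A) : Phi₀ hinj f c hc n hn g φ' hφ' (algebraMap A' A f * s) = 0 := by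
  have h := Classical.choose_spec (rel_total_left f c n g φ' hc s)
  rw [Phi₀_eq hinj f c hc n hn g φ' hφ' (rel_smul f c n g φ' hφ' hφ' h),
    Ideal.Quotient.eq_zero_iff_mem, Ideal.mem_span_singleton']
  exact ⟨⟨_, ⟨s, h⟩⟩, Subtype.ext (mul_comm _ _)⟩

theorem Phi₀_mul (a a' : A) : Phi₀ hinj f c hc n hn g φ' hφ' (a * a') =
    Phi₀ hinj f c hc n hn g φ' hφ' a * Phi₀ hinj f c hc n hn g φ' hφ' a' := by
  have h := Classical.choose_spec (rel_total_left f c n g φ' hc a)
  have h' := Classical.choose_spec (rel_total_left f c n g φ' hc a')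
  obtain ⟨s, hs⟩ := rel_mul hinj f c hc n hn g φ' hφ' h h'
  have h1 := Phi₀_eq hinj f c hc n hn g φ' hφ' hs
  rw [Phi₀_add, Phi₀_f_mul, add_zero] at h1
  rw [h1, Phi₀_eq hinj f c hc n hn g φ' hφ' h, Phi₀_eq hinj f c hc n hn g φ' hφ' h', ← map_mul]
  rfl

/-- The ring homomorphism `A → B/gB`. -/
noncomputable def Phi : A →+* Bt ⧸ Ideal.span {gB} where
  toFun := Phi₀ hinj f c hc n hn g φ' hφ'
  map_one' := by
    rw [Phi₀_eq hinj f c hc n hn g φ' hφ' (rel_one f c n g φ' hφ')]
    rfl
  map_mul' := Phi₀_mul hinj f c hc n hn g φ' hφ'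
  map_zero' := by
    rw [Phi₀_eq hinj f c hc n hn g φ' hφ' (rel_zero f c n g φ')]
    rfl
  map_add' := Phi₀_add hinj f c hc n hn g φ' hφ'

theorem Phi_eq {a : A} {b : Localization.Away g} (h : Rel f c n g φ' a b) :
    Phi hinj f c hc n hn g φ' hφ' a = Ideal.Quotient.mk _ ⟨b, ⟨a, h⟩⟩ :=
  Phi₀_eq hinj f c hc n hn g φ' hφ' h

theorem Phi_surjective : Function.Surjective (Phi hinj f c hc n hn g φ' hφ') := by
  intro q
  obtain ⟨⟨b, a, h⟩, rfl⟩ := Ideal.Quotient.mk_surjective q
  exact ⟨a, Phi_eq hinj f c hc n hn g φ' hφ' h⟩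

theorem Phi_of {r : A'} {r' : B'}
    (hr : φ' (Ideal.Quotient.mk _ r) = Ideal.Quotient.mk _ r') :
    Phi hinj f c hc n hn g φ' hφ' (algebraMap A' A r) =
      Ideal.Quotient.mk _ (algebraMap B' Bt r') := by
  rw [Phi_eq hinj f c hc n hn g φ' hφ' (rel_of f c n g φ' hφ' hr)]
  rfl

theorem Phi_f : Phi hinj f c hc n hn g φ' hφ' (algebraMap A' A f) = 0 := by
  rw [Phi_of hinj f c hc n hn g φ' hφ' hφ', Ideal.Quotient.eq_zero_iff_mem]
  exact Ideal.mem_span_singleton_self _

include hf hg in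
theorem ker_Phi_le : RingHom.ker (Phi hinj f c hc n hn g φ' hφ') ≤
    Ideal.span {algebraMap A' A f} := by
  intro a ha
  have h := Classical.choose_spec (rel_total_left f c n g φ' hc a)
  rw [RingHom.mem_ker, Phi_eq hinj f c hc n hn g φ' hφ' h, Ideal.Quotient.eq_zero_iff_mem,
    Ideal.mem_span_singleton'] at ha
  obtain ⟨⟨z, a₀, hz⟩, hzeq⟩ := ha
  have hval := congrArg Subtype.val hzeq
  have hval' : z * algebraMap B' (Localization.Away g) g =
      Classical.choose (rel_total_left f c n g φ' hc a) := hval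
  rw [← hval', mul_comm] at h
  obtain ⟨s, hs⟩ := rel_ker hinj f hf c n hn g hg φ' hφ' h hz
  rw [Ideal.mem_span_singleton']
  exact ⟨s, by rw [hs, mul_comm]⟩

include hg in
theorem algebraMap_ringB_injective : Function.Injective (algebraMap B' Bt) := by
  intro r r' h
  exact IsLocalization.injective (Localization.Away g) (Submonoid.powers_le.mpr hg)
    (congrArg Subtype.val h)

/-- `B` is a finite `B'`-module. -/
theorem finite_ringB [Module.Finite A' A] : Module.Finite B' Bt := by
  obtain ⟨S, hS⟩ := (Module.finite_def.mp (inferInstance : Module.Finite A' A))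
  classical
  -- chosen related elements
  let β : A → Bt := fun a => ⟨Classical.choose (rel_total_left f c n g φ' hc a),
    ⟨a, Classical.choose_spec (rel_total_left f c n g φ' hc a)⟩⟩
  have hβ : ∀ a, Rel f c n g φ' a (β a).1 := fun a =>
    Classical.choose_spec (rel_total_left f c n g φ' hc a)
  let T : Finset Bt := insert 1 (S.image β)
  let N : Submodule B' Bt := Submodule.span B' (T : Set Bt)
  have key : ∀ a : A, ∃ b : Bt, b ∈ N ∧ Rel f c n g φ' a b.1 := by
    intro a
    have ha : a ∈ Submodule.span A' (S : Set A) := by rw [hS]; trivial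
    induction ha using Submodule.span_induction with
    | mem a ha =>
      refine ⟨β a, Submodule.subset_span ?_, hβ a⟩
      simp only [T, Finset.coe_insert, Finset.coe_image]
      exact Set.mem_insert_of_mem _ (Set.mem_image_of_mem β ha)
    | zero => exact ⟨0, N.zero_mem, rel_zero f c n g φ'⟩
    | add a a' _ _ iha iha' =>
      obtain ⟨b, hb, hr⟩ := iha
      obtain ⟨b', hb', hr'⟩ := iha'
      exact ⟨b + b', N.add_mem hb hb', rel_add f c n g φ' hr hr'⟩
    | smul r a _ iha =>
      obtain ⟨b, hb, hr⟩ := iha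
      obtain ⟨r', hr'⟩ := Ideal.Quotient.mk_surjective (φ' (Ideal.Quotient.mk _ r))
      refine ⟨r' • b, N.smul_mem r' hb, ?_⟩
      have := rel_smul f c n g φ' hφ' hr'.symm hr
      have e : ((r' • b : Bt) : Localization.Away g) =
          algebraMap B' (Localization.Away g) r' * b.1 := by
        rw [← Algebra.smul_def]
        rfl
      rw [e, Algebra.smul_def]
      exact this
  have htop : N = ⊤ := by
    rw [eq_top_iff]
    rintro ⟨b, a, h⟩ -
    obtain ⟨b₁, hb₁N, hb₁⟩ := key a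
    have h0 : Rel f c n g φ' (0 : A) (b - b₁.1) := by
      have := rel_add f c n g φ' h (rel_neg f c n g φ' hb₁)
      rwa [add_neg_cancel, ← sub_eq_add_neg] at this
    obtain ⟨t, ht⟩ := rel_zero_left hinj f c n hn g φ' h0
    have h1 : (1 : Bt) ∈ N := Submodule.subset_span (by simp [T])
    have h2 : (⟨b, a, h⟩ : Bt) = b₁ + (g ^ (n - c) * t) • (1 : Bt) := by
      apply Subtype.ext
      have e : (((g ^ (n - c) * t) • (1 : Bt) : Bt) : Localization.Away g) =
          algebraMap B' (Localization.Away g) (g ^ (n - c) * t) := by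
        rw [← mul_one (algebraMap B' (Localization.Away g) (g ^ (n - c) * t)), ← Algebra.smul_def]
        rfl
      show b = ((b₁ + (g ^ (n - c) * t) • (1 : Bt) : Bt) : Localization.Away g)
      rw [Subalgebra.coe_add, e, ← ht]
      ring
    rw [h2]
    exact N.add_mem hb₁N (N.smul_mem _ h1)
  rw [Module.finite_def, ← htop]
  exact Submodule.fg_span (Finset.finite_toSet T)

end

/-- The main theorem. -/
theorem main (A' A : Type u) [CommRing A'] [CommRing A] [Algebra A' A]
    (hinj : Function.Injective (algebraMap A' A)) [Module.Finite A' A] (f : A')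
    (hf : algebraMap A' A f ∈ nonZeroDivisors A)
    (hloc : Function.Bijective (IsLocalization.Away.map (Localization.Away f)
      (Localization.Away (algebraMap A' A f)) (algebraMap A' A) f)) :
    ∃ n₀ : ℕ, 0 < n₀ ∧ ∀ n : ℕ, n₀ ≤ n →
      ∀ (B' : Type u) [CommRing B'] (g : B'), g ∈ nonZeroDivisors B' →
        ∀ φ' : (A' ⧸ Ideal.span {f ^ n}) ≃+* (B' ⧸ Ideal.span {g ^ n}),
        φ' (Ideal.Quotient.mk (Ideal.span {f ^ n}) f) = Ideal.Quotient.mk (Ideal.span {g ^ n}) g →
        ∃ (B : Type u) (_ : CommRing B) (_ : Algebra B' B),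
          Function.Injective (algebraMap B' B) ∧ Module.Finite B' B ∧
          ∃ φ : (A ⧸ Ideal.span {algebraMap A' A f}) ≃+* (B ⧸ Ideal.span {algebraMap B' B g}),
            ∀ (a' : A') (b' : B'),
              φ' (Ideal.Quotient.mk (Ideal.span {f ^ n}) a') = Ideal.Quotient.mk (Ideal.span {g ^ n}) b' →
              φ (Ideal.Quotient.mk (Ideal.span {algebraMap A' A f}) (algebraMap A' A a')) =
                Ideal.Quotient.mk (Ideal.span {algebraMap B' B g}) (algebraMap B' B b') := by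
  obtain ⟨c, hc⟩ := exists_pow_mul_mem_range A' A f hf hloc.2
  refine ⟨2 * c + 1, by omega, ?_⟩
  intro n hn B' _ g hg φ' hφ'
  refine ⟨ringB hinj f c hc n hn g φ' hφ', inferInstance, inferInstance,
    algebraMap_ringB_injective hinj f c hc n hn g hg φ' hφ',
    finite_ringB hinj f c hc n hn g φ' hφ', ?_⟩
  have hzero : ∀ a ∈ Ideal.span {algebraMap A' A f}, Phi hinj f c hc n hn g φ' hφ' a = 0 := by
    intro a ha
    obtain ⟨s, rfl⟩ := Ideal.mem_span_singleton'.mp ha
    rw [map_mul, Phi_f, mul_zero]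
  refine ⟨RingEquiv.ofBijective (Ideal.Quotient.lift _ (Phi hinj f c hc n hn g φ' hφ') hzero)
    ⟨RingHom.lift_injective_of_ker_le_ideal _ hzero
      (ker_Phi_le hinj f hf c hc n hn g hg φ' hφ'),
    Ideal.Quotient.lift_surjective_of_surjective _ hzero
      (Phi_surjective hinj f c hc n hn g φ' hφ')⟩, ?_⟩
  intro a' b' hab
  rw [RingEquiv.ofBijective_apply, Ideal.Quotient.lift_mk]
  exact Phi_of hinj f c hc n hn g φ' hφ' hab

end Groth.Agent.Lib.Seat86.LiftExt
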