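import Groth.Agent.Lib.Helper28LocLoc
import Groth.Agent.Lib.Helper28DepthCM
import Groth.Agent.Lib.Helper5GrLoc

/-!
# Cohen–Macaulayness of graded modules from the irrelevant ideal (seat 97)

* `supportDim_le_depth_of_le`: if `M_𝔪` is Cohen–Macaulay of dimension `ht 𝔪`, then
  `dim M_q ≤ depth M_q` for every prime `q ≤ 𝔪`;
* `cm_of_cm_at_irrelevant`: for a graded module over a graded Noetherian ring in which every proper
  homogeneous ideal lies in `𝔪`, this gives Cohen–Macaulayness at all primes;
* `not_cm_of_idealDepth_lt_height`: if `𝔪` is maximal, `Supp M = Spec R` and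
  `depth_𝔪 M < ht 𝔪`, then `M_𝔪` is not Cohen–Macaulay.
-/

set_option autoImplicit false
set_option linter.unusedSectionVars false
set_option linter.style.haveILetI false
universe u

namespace Groth.Agent.Lib.Seat97.GrCMMod

open Groth.Agent.Lib.Helper28

section Height

/-- chain concatenation for heights along a strictly monotone map bounded below -/
theorem height_add_le_of_strictMono {α β : Type*} [Preorder α] [Preorder β] (f : α → β)
    (hf : StrictMono f) (b : β) (hb : ∀ x, b ≤ f x) (x : α) :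
    Order.height b + Order.height x ≤ Order.height (f x) := by
  have key : ∀ (n : ℕ) (l : LTSeries α), l.length = n →
      Order.height b + n ≤ Order.height (f l.last) := by
    intro n
    induction n with
    | zero =>
      intro l _
      simpa using Order.height_mono (hb l.last)
    | succ n ih =>
      intro l hl
      have hlen : l.length ≠ 0 := by omega
      have h1 := ih l.eraseLast (by simp [hl])
      have hlt : l.eraseLast.last < l.last := by
        apply l.strictMono
        rw [Fin.lt_def]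
        simp only [Fin.val_last, RelSeries.eraseLast_length]
        simp
        omega
      have h2 := Order.height_add_one_le (hf hlt)
      calc Order.height b + ((n + 1 : ℕ) : ℕ∞) = Order.height b + n + 1 := by
            push_cast; rw [add_assoc]
        _ ≤ Order.height (f l.eraseLast.last) + 1 := by gcongr
        _ ≤ Order.height (f l.last) := h2
  have hx : Order.height x = ⨆ l : {l : LTSeries α // l.last = x}, (l.1.length : ℕ∞) := by
    rw [Order.height_eq_iSup_last_eq x, iSup_subtype']
  haveI : Nonempty {l : LTSeries α // l.last = x} := ⟨⟨RelSeries.singleton _ x, rfl⟩⟩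
  rw [hx, ENat.add_iSup]
  refine iSup_le fun l => ?_
  have := key l.1.length l.1 rfl
  rwa [l.2] at this

variable {R : Type u} [CommRing R]

/-- `ht p + ht (q/p) ≤ ht q` for primes `p ≤ q`. -/
theorem height_add_height_quot_le (p q : Ideal R) [p.IsPrime] [q.IsPrime] (hpq : p ≤ q) :
    p.height + (q.map (Ideal.Quotient.mk p)).height ≤ q.height := by
  have hsurjp : Function.Surjective (Ideal.Quotient.mk p) := Ideal.Quotient.mk_surjective
  haveI hqp : (q.map (Ideal.Quotient.mk p)).IsPrime :=
    Ideal.map_isPrime_of_surjective hsurjp (by rwa [Ideal.mk_ker])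
  let f : PrimeSpectrum (R ⧸ p) → PrimeSpectrum R := PrimeSpectrum.comap (Ideal.Quotient.mk p)
  have hf : StrictMono f := by
    intro x y hxy
    have hle : f x ≤ f y := Ideal.comap_mono (le_of_lt hxy)
    refine lt_of_le_of_ne hle fun heq => ?_
    have := PrimeSpectrum.comap_injective_of_surjective (Ideal.Quotient.mk p) hsurjp heq
    exact (ne_of_lt hxy) this
  have hb : ∀ x, (⟨p, inferInstance⟩ : PrimeSpectrum R) ≤ f x := by
    intro x r hr
    show Ideal.Quotient.mk p r ∈ x.asIdeal
    rw [Ideal.Quotient.eq_zero_iff_mem.2 hr]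
    exact x.asIdeal.zero_mem
  have hfx : f ⟨q.map (Ideal.Quotient.mk p), hqp⟩ = ⟨q, inferInstance⟩ := by
    apply PrimeSpectrum.ext
    show Ideal.comap (Ideal.Quotient.mk p) (q.map (Ideal.Quotient.mk p)) = q
    rw [Ideal.comap_map_of_surjective _ hsurjp, ← RingHom.ker_eq_comap_bot, Ideal.mk_ker,
      sup_of_le_left hpq]
  have h := height_add_le_of_strictMono f hf _ hb ⟨q.map (Ideal.Quotient.mk p), hqp⟩
  rw [hfx] at h
  rw [← PrimeSpectrum.height_eq_orderHeight, ← PrimeSpectrum.height_eq_orderHeight,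
    ← PrimeSpectrum.height_eq_orderHeight] at h
  exact h

end Height

section Local

variable {R : Type u} [CommRing R] [IsNoetherianRing R] (M : Type u) [AddCommGroup M] [Module R M]
  [Module.Finite R M] (𝔪 q : Ideal R) [𝔪.IsPrime] [q.IsPrime]

/-- if `M_𝔪` is Cohen–Macaulay of dimension `ht 𝔪`, then `dim M_q ≤ depth M_q` for `q ≤ 𝔪` -/
theorem supportDim_le_depth_of_le (hq : q ≤ 𝔪)
    (hCM : LocCoh.IsCohenMacaulayModule (Localization.AtPrime 𝔪)
      (LocalizedModule 𝔪.primeCompl M))
    (hdim : ((𝔪.height : ℕ∞) : WithBot ℕ∞) ≤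
      Module.supportDim (Localization.AtPrime 𝔪) (LocalizedModule 𝔪.primeCompl M)) :
    Module.supportDim (Localization.AtPrime q) (LocalizedModule q.primeCompl M) ≤
      ((LocCoh.depth (Localization.AtPrime q) (LocalizedModule q.primeCompl M) : ℕ∞) :
        WithBot ℕ∞) := by
  have hI : q.map (algebraMap R (Localization.AtPrime 𝔪)) ≠ ⊤ := by
    rw [IsLocalization.map_algebraMap_ne_top_iff_disjoint 𝔪.primeCompl]
    rw [Set.disjoint_left]
    intro x hx hxq
    exact hx (hq hxq)
  have e1 := supportDim_eq_add_idealDepth_of_isCohenMacaulayModule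
    (q.map (algebraMap R (Localization.AtPrime 𝔪))) hI hCM
  have e2 := supportDim_quotient_smul_top_le_ringKrullDim_quotient
    (M := LocalizedModule 𝔪.primeCompl M) (q.map (algebraMap R (Localization.AtPrime 𝔪)))
  have e3 := ringKrullDim_localization_quotient_eq_height q 𝔪 hq
  have e4 := idealDepth_map_localization_le_depth_localization q 𝔪 M hq
  have e5 := height_add_height_quot_le q 𝔪 hq
  have e6 : Module.supportDim (Localization.AtPrime q) (LocalizedModule q.primeCompl M) ≤
      ((q.height : ℕ∞) : WithBot ℕ∞) := by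
    rw [← IsLocalization.AtPrime.ringKrullDim_eq_height q (Localization.AtPrime q)]
    exact Module.supportDim_le_ringKrullDim _ _
  haveI hprime : (𝔪.map (Ideal.Quotient.mk q)).IsPrime :=
    Ideal.map_isPrime_of_surjective Ideal.Quotient.mk_surjective (by rwa [Ideal.mk_ker])
  have hfin : (𝔪.map (Ideal.Quotient.mk q)).height ≠ ⊤ := Ideal.height_ne_top hprime.ne_top
  -- `ht 𝔪 ≤ ht (𝔪/q) + depth_q`
  have e7 : ((𝔪.height : ℕ∞) : WithBot ℕ∞) ≤
      (((𝔪.map (Ideal.Quotient.mk q)).height + LocCoh.idealDepth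
        (q.map (algebraMap R (Localization.AtPrime 𝔪))) (LocalizedModule 𝔪.primeCompl M) : ℕ∞) :
        WithBot ℕ∞) := by
    rw [WithBot.coe_add, ← e3]
    refine hdim.trans ?_
    rw [e1]
    gcongr
  have e8 := WithBot.coe_le_coe.mp e7
  have e9 : q.height ≤ LocCoh.idealDepth
        (q.map (algebraMap R (Localization.AtPrime 𝔪))) (LocalizedModule 𝔪.primeCompl M) := by
    have h := e5.trans e8
    rw [add_comm] at h
    exact (ENat.add_le_add_iff_left hfin).mp h
  exact e6.trans (WithBot.coe_le_coe.mpr (e9.trans e4))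

end Local

section ToAddSubgroup

open DirectSum

variable {ι : Type} [DecidableEq ι] [AddMonoid ι] {K : Type u} {A : Type u} [CommRing K]
  [CommRing A] [Algebra K A] (ℳ : ι → Submodule K A)

/-- A grading by submodules regarded as a grading by additive subgroups. -/
def sgr (i : ι) : AddSubgroup A := (ℳ i).toAddSubgroup

theorem mem_sgr {i : ι} {a : A} : a ∈ sgr ℳ i ↔ a ∈ ℳ i := Iff.rfl

variable [GradedAlgebra ℳ]

instance : SetLike.GradedMonoid (sgr ℳ) where
  one_mem := (SetLike.GradedOne.one_mem : (1 : A) ∈ ℳ 0)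
  mul_mem := fun {i j a b} ha hb => (SetLike.mul_mem_graded (A := ℳ) ha hb : a * b ∈ ℳ (i + j))

/-- The comparison map on direct sums. -/
def smap : (⨁ i, ℳ i) →+ ⨁ i, sgr ℳ i :=
  DirectSum.toAddMonoid fun i =>
    (DirectSum.of (fun i => sgr ℳ i) i).comp
      ({ toFun := fun x => ⟨x.1, x.2⟩
         map_zero' := rfl
         map_add' := fun _ _ => rfl } : ℳ i →+ sgr ℳ i)

theorem smap_of (i : ι) (x : ℳ i) :
    smap ℳ (DirectSum.of (fun i => ℳ i) i x) = DirectSum.of (fun i => sgr ℳ i) i ⟨x.1, x.2⟩ := by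
  unfold smap
  rw [DirectSum.toAddMonoid_of]
  rfl

theorem coe_comp_smap :
    (DirectSum.coeAddMonoidHom (sgr ℳ)).comp (smap ℳ) = DirectSum.coeAddMonoidHom ℳ := by
  apply DirectSum.addHom_ext
  intro n x
  rw [AddMonoidHom.comp_apply, smap_of, DirectSum.coeAddMonoidHom_of, DirectSum.coeAddMonoidHom_of]

instance : DirectSum.Decomposition (sgr ℳ) :=
  DirectSum.Decomposition.ofAddHom (sgr ℳ)
    ((smap ℳ).comp (DirectSum.decomposeAddEquiv ℳ).toAddMonoidHom)
    (by
      rw [← AddMonoidHom.comp_assoc, coe_comp_smap]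
      ext a
      simp only [AddMonoidHom.comp_apply, AddMonoidHom.id_apply]
      exact (DirectSum.decompose ℳ).left_inv a)
    (by
      apply DirectSum.addHom_ext
      rintro n ⟨x, hx⟩
      simp only [AddMonoidHom.comp_apply, DirectSum.coeAddMonoidHom_of, AddMonoidHom.id_apply]
      change smap ℳ (DirectSum.decompose ℳ x) = _
      rw [DirectSum.decompose_of_mem ℳ (hx : x ∈ ℳ n), smap_of])

instance : GradedRing (sgr ℳ) where

theorem decompose_sgr (a : A) :
    DirectSum.decompose (sgr ℳ) a = smap ℳ (DirectSum.decompose ℳ a) := rfl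

theorem smap_apply (x : ⨁ i, ℳ i) (i : ι) : ((smap ℳ x i : sgr ℳ i) : A) = x i := by
  classical
  induction x using DirectSum.induction_on with
  | zero => simp
  | of m y =>
    rw [smap_of]
    by_cases h : m = i
    · subst h
      rw [DirectSum.of_eq_same, DirectSum.of_eq_same]
    · rw [DirectSum.of_eq_of_ne _ _ _ (Ne.symm h), DirectSum.of_eq_of_ne _ _ _ (Ne.symm h)]
      rfl
  | add x y hx hy =>
    rw [map_add, DirectSum.add_apply, DirectSum.add_apply, AddSubgroup.coe_add, hx, hy]
    rfl

theorem decompose_sgr_coe (a : A) (i : ι) :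
    (DirectSum.decompose (sgr ℳ) a i : A) = DirectSum.decompose ℳ a i := by
  rw [decompose_sgr, smap_apply]

theorem isHomogeneous_sgr_iff (I : Ideal A) : I.IsHomogeneous (sgr ℳ) ↔ I.IsHomogeneous ℳ := by
  constructor
  · intro h i a ha
    have := h i ha
    rwa [decompose_sgr_coe] at this
  · intro h i a ha
    rw [decompose_sgr_coe]
    exact h i ha

end ToAddSubgroup

section Graded

open Groth.Agent.Lib.Helper5.GenDepth

variable {R : Type u} [CommRing R] [IsNoetherianRing R] (𝒜 : ℤ → AddSubgroup R) [GradedRing 𝒜]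
  (M : Type u) [AddCommGroup M] [Module R M] (ℳ : ℤ → AddSubgroup M)
  [DirectSum.Decomposition ℳ] [SetLike.GradedSMul 𝒜 ℳ] [Module.Finite R M]
  (𝔪 : Ideal R) [𝔪.IsPrime]

include ℳ in
/-- a finite graded module which is Cohen–Macaulay of maximal dimension at the ideal containing
all proper homogeneous ideals is Cohen–Macaulay at all primes -/
theorem cm_of_cm_at_irrelevant
    (hmax : ∀ J : Ideal R, J.IsHomogeneous 𝒜 → J ≠ ⊤ → J ≤ 𝔪)
    (hCM : LocCoh.IsCohenMacaulayModule (Localization.AtPrime 𝔪)
      (LocalizedModule 𝔪.primeCompl M))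
    (hdim : ((𝔪.height : ℕ∞) : WithBot ℕ∞) ≤
      Module.supportDim (Localization.AtPrime 𝔪) (LocalizedModule 𝔪.primeCompl M))
    (p : Ideal R) [hp : p.IsPrime] :
    Subsingleton (LocalizedModule p.primeCompl M) ∨
      LocCoh.IsCohenMacaulayModule (Localization.AtPrime p) (LocalizedModule p.primeCompl M) := by
  rcases subsingleton_or_nontrivial (LocalizedModule p.primeCompl M) with hs | hnt
  · exact Or.inl hs
  right
  haveI hcore : (Ideal.homogeneousCore 𝒜 p).toIdeal.IsPrime := Ideal.IsPrime.homogeneousCore hp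
  have hle : (Ideal.homogeneousCore 𝒜 p).toIdeal ≤ p := Ideal.toIdeal_homogeneousCore_le 𝒜 p
  have hprime : (p.map (Ideal.Quotient.mk (Ideal.homogeneousCore 𝒜 p).toIdeal)).IsPrime := by
    apply Ideal.map_isPrime_of_surjective Ideal.Quotient.mk_surjective
    rw [Ideal.mk_ker]
    exact hle
  have hfin : (p.map (Ideal.Quotient.mk (Ideal.homogeneousCore 𝒜 p).toIdeal)).height ≠ ⊤ :=
    Ideal.height_ne_top hprime.ne_top
  obtain ⟨d, hd⟩ := ENat.ne_top_iff_exists.mp hfin
  obtain ⟨h1, h2⟩ := Groth.Agent.Lib.Helper5.GrLoc.main 𝒜 p M ℳ d hd.symm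
  have h2' := h2 hnt
  have hcm := supportDim_le_depth_of_le M 𝔪 (Ideal.homogeneousCore 𝒜 p).toIdeal
    (hmax _ (Ideal.homogeneousCore 𝒜 p).isHomogeneous hcore.ne_top) hCM hdim
  unfold dep at h1
  unfold dm at h2'
  unfold LocCoh.IsCohenMacaulayModule
  haveI : IsNoetherianRing (Localization.AtPrime p) :=
    IsLocalization.isNoetherianRing p.primeCompl _ inferInstance
  refine le_antisymm ?_ depth_le_supportDim
  rw [h2', h1]
  push_cast
  gcongr

end Graded

section NotCM

variable {R : Type u} [CommRing R] [IsNoetherianRing R] (M : Type u) [AddCommGroup M] [Module R M]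
  [Module.Finite R M] (𝔪 : Ideal R) [hm : 𝔪.IsMaximal]

theorem mem_support_of_torsionFree (m₀ : M) (hm₀ : ∀ t : R, t • m₀ = 0 → t = 0)
    (p : PrimeSpectrum R) : p ∈ Module.support R M :=
  Module.mem_support_iff'.mpr ⟨m₀, fun r hr h => hr (by rw [hm₀ r h]; exact zero_mem _)⟩

/-- the dimension of `M_p` is `ht p` when `Supp M = Spec R` -/
theorem height_le_supportDim_localization (m₀ : M) (hm₀ : ∀ t : R, t • m₀ = 0 → t = 0)
    (p : Ideal R) [hp : p.IsPrime] :
    ((p.height : ℕ∞) : WithBot ℕ∞) ≤
      Module.supportDim (Localization.AtPrime p) (LocalizedModule p.primeCompl M) := by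
  have hsupp := mem_support_of_torsionFree M m₀ hm₀
  rw [supportDim_localization_eq_height p M (hsupp ⟨p, hp⟩), WithBot.coe_le_coe]
  have h := Order.height_le_height_apply_of_strictMono
    (fun x : PrimeSpectrum R => (⟨x, hsupp x⟩ : Module.support R M)) (fun _ _ h => h) ⟨p, hp⟩
  rw [← PrimeSpectrum.height_eq_orderHeight] at h
  exact h

/-- if `𝔪` is maximal, `Supp M = Spec R` and `depth_𝔪 M < ht 𝔪`, then `M_𝔪` is not
Cohen–Macaulay -/
theorem not_cm_of_idealDepth_lt_height (m₀ : M) (hm₀ : ∀ t : R, t • m₀ = 0 → t = 0) (n : ℕ)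
    (hdepth : LocCoh.idealDepth 𝔪 M = n) (hlt : (n : ℕ∞) < 𝔪.height) :
    ¬ (Subsingleton (LocalizedModule 𝔪.primeCompl M) ∨
      LocCoh.IsCohenMacaulayModule (Localization.AtPrime 𝔪) (LocalizedModule 𝔪.primeCompl M)) := by
  have hsupp := mem_support_of_torsionFree M m₀ hm₀
  have hIM : 𝔪 • (⊤ : Submodule R M) ≠ ⊤ := by
    intro h
    rw [idealDepth_eq_top_of_smul_top_eq_top 𝔪 M h] at hdepth
    exact ENat.top_ne_natCast _ hdepth
  obtain ⟨p, hle, hp, hdep⟩ := exists_prime_depth_localization_eq hIM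
  obtain ⟨p, hpprime⟩ := p
  have hp𝔪 : 𝔪 = p := hm.eq_of_le hpprime.ne_top hle
  subst hp𝔪
  rintro (hs | hcm)
  · have : Nontrivial (LocalizedModule 𝔪.primeCompl M) := Module.mem_support_iff.mp hp
    exact not_subsingleton _ hs
  · unfold LocCoh.IsCohenMacaulayModule at hcm
    have h1 := height_le_supportDim_localization M m₀ hm₀ 𝔪
    rw [hcm, WithBot.coe_le_coe] at h1
    change 𝔪.height ≤ LocCoh.depth (Localization.AtPrime 𝔪) (LocalizedModule 𝔪.primeCompl M) at h1
    have h2 : LocCoh.depth (Localization.AtPrime 𝔪) (LocalizedModule 𝔪.primeCompl M) = n := by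
      rw [← hdepth]; exact hdep
    rw [h2] at h1
    exact absurd hlt (not_lt.mpr h1)

end NotCM

end Groth.Agent.Lib.Seat97.GrCMMod
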