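import Mathlib
import Groth.Agent.Lib.Seat97GrCMMod

/-!
# Murthy's theorem: a Cohen–Macaulay factorial quotient of a Gorenstein ring is Gorenstein (seat 86)

Core algebra: over a Noetherian factorial domain `A`, a finite torsion-free module `K` with
`A ≃ End_A(K)` (via homotheties) that satisfies Serre's condition `(S₂)` is free of rank one.

* `exists_smul_eq_smul` : `K` has rank one (`b • y = a • x` with `b ≠ 0`);
* `exists_injective_to_ring` : `K` embeds into `A`;
* `exists_gcd_decomp` : a nonzero ideal of a factorial Noetherian domain is `g • J` with `J` in no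
  principal prime ideal;
* `length_le_one_of_isWeaklyRegular` : a proper nonzero ideal `J'` of a Noetherian local domain whose
  only prime overideal is the maximal ideal has depth at most one;
* `nonempty_linearEquiv_self` : the main statement.

Namespace `Groth.Agent.Lib.Seat86.Murthy`.
-/

set_option autoImplicit false
set_option linter.style.haveILetI false
set_option linter.unusedSectionVars false

universe u

namespace Groth.Agent.Lib.Seat86.Murthy

section Rank

variable {A : Type u} [CommRing A] [IsDomain A] [IsNoetherianRing A]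
  {K : Type u} [AddCommGroup K] [Module A K] [Module.Finite A K]

/-- A finite torsion-free module over a Noetherian domain whose only endomorphisms are the
homotheties has rank one. -/
theorem exists_smul_eq_smul (htf : ∀ (a : A) (x : K), a • x = 0 → a = 0 ∨ x = 0)
    (hend : Function.Bijective (fun r : A => r • (LinearMap.id : K →ₗ[A] K)))
    (x : K) (hx : x ≠ 0) (y : K) : ∃ a b : A, b ≠ 0 ∧ b • y = a • x := by
  classical
  obtain ⟨S, hS⟩ : ∃ S : Submonoid A, S = nonZeroDivisors A := ⟨_, rfl⟩
  have hS0 : ∀ c : S, (c : A) ≠ 0 := fun c => by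
    have hc : (c : A) ∈ nonZeroDivisors A := hS ▸ c.2
    exact nonZeroDivisors.ne_zero hc
  let F := Localization S
  haveI : IsFractionRing A F := by
    subst hS
    infer_instance
  letI : Field F := IsFractionRing.toField A
  let KF := LocalizedModule S K
  let ι : K →ₗ[A] KF := LocalizedModule.mkLinearMap S K
  have hι : Function.Injective ι := by
    intro u v huv
    obtain ⟨c, hc⟩ := (IsLocalizedModule.eq_iff_exists S ι).mp huv
    have h0 : (c : A) • (u - v) = 0 := by
      rw [smul_sub, sub_eq_zero]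
      exact hc
    rcases htf _ _ h0 with h | h
    · exact absurd h (hS0 c)
    · exact sub_eq_zero.mp h
  haveI : Module.FinitePresentation A K := Module.finitePresentation_of_finite A K
  haveI : Module.Finite F KF := Module.Finite.of_isLocalizedModule S ι
  let e : A ≃ₗ[A] (K →ₗ[A] K) :=
    LinearEquiv.ofBijective (LinearMap.toSpanSingleton A (K →ₗ[A] K) LinearMap.id) hend
  let E1 : LocalizedModule S (K →ₗ[A] K) ≃ₗ[F] (KF →ₗ[F] KF) :=
    (Module.FinitePresentation.linearEquivMapExtendScalars S).extendScalarsOfIsLocalization S F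
  let E2 : LocalizedModule S (K →ₗ[A] K) ≃ₗ[F] F :=
    IsLocalizedModule.mapEquiv S (LocalizedModule.mkLinearMap S (K →ₗ[A] K))
      (Algebra.linearMap A F) F e.symm
  have hfr : Module.finrank F (KF →ₗ[F] KF) = 1 := by
    rw [(E1.symm.trans E2).finrank_eq, Module.finrank_self]
  rw [Module.finrank_linearMap] at hfr
  have hr : Module.finrank F KF = 1 := Nat.eq_one_of_mul_eq_one_left hfr
  have hιx : ι x ≠ 0 := fun h0 => hx (hι (by rw [h0, map_zero]))
  obtain ⟨c, hc⟩ := (finrank_eq_one_iff_of_nonzero' (ι x) hιx).mp hr (ι y)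
  obtain ⟨⟨a, b⟩, hab⟩ := IsLocalization.mk'_surjective S c
  simp only at hab
  subst hab
  refine ⟨a, (b : A), hS0 b, hι ?_⟩
  rw [map_smul, map_smul, ← hc, ← algebraMap_smul F (b : A), ← mul_smul,
    IsLocalization.mk'_spec', algebraMap_smul]

/-- Such a module embeds into `A`. -/
theorem exists_injective_to_ring (htf : ∀ (a : A) (x : K), a • x = 0 → a = 0 ∨ x = 0)
    (hend : Function.Bijective (fun r : A => r • (LinearMap.id : K →ₗ[A] K)))
    (x : K) (hx : x ≠ 0) : ∃ ψ : K →ₗ[A] A, Function.Injective ψ := by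
  classical
  obtain ⟨G, hG⟩ := (Module.Finite.fg_top : (⊤ : Submodule A K).FG)
  choose a b hb hab using fun y => exists_smul_eq_smul htf hend x hx y
  obtain ⟨β, hβdef⟩ : ∃ β : A, β = ∏ k ∈ G, b k := ⟨_, rfl⟩
  have hβ : β ≠ 0 := by
    rw [hβdef]
    exact Finset.prod_ne_zero_iff.mpr (fun k _ => hb k)
  have hmem : ∀ y : K, ∃ c : A, β • y = c • x := by
    intro y
    have hy : y ∈ Submodule.span A (G : Set K) := by
      rw [hG]
      trivial
    induction hy using Submodule.span_induction with
    | mem k hk =>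
      obtain ⟨c, hc⟩ := Finset.dvd_prod_of_mem b (Finset.mem_coe.mp hk)
      refine ⟨c * a k, ?_⟩
      rw [hβdef, hc, mul_comm, mul_smul, hab k, ← mul_smul]
    | zero => exact ⟨0, by rw [smul_zero, zero_smul]⟩
    | add u v _ _ hu hv =>
      obtain ⟨c, hc⟩ := hu
      obtain ⟨d, hd⟩ := hv
      exact ⟨c + d, by rw [smul_add, hc, hd, add_smul]⟩
    | smul r u _ hu =>
      obtain ⟨c, hc⟩ := hu
      exact ⟨r * c, by rw [smul_comm, hc, mul_smul]⟩
  let μ : A →ₗ[A] K := LinearMap.toSpanSingleton A K x
  have hμ : Function.Injective μ := by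
    intro c d hcd
    have hcd' : c • x = d • x := hcd
    have h0 : (c - d) • x = 0 := by
      rw [sub_smul, sub_eq_zero]
      exact hcd'
    rcases htf _ _ h0 with h | h
    · exact sub_eq_zero.mp h
    · exact absurd h hx
  let βm : K →ₗ[A] LinearMap.range μ :=
    LinearMap.codRestrict (LinearMap.range μ) (β • (LinearMap.id : K →ₗ[A] K)) (fun y => by
      obtain ⟨c, hc⟩ := hmem y
      exact ⟨c, hc.symm⟩)
  have hβm : Function.Injective βm := by
    intro u v huv
    have h1 : β • u = β • v := congrArg Subtype.val huv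
    have h0 : β • (u - v) = 0 := by
      rw [smul_sub, sub_eq_zero]
      exact h1
    rcases htf _ _ h0 with h | h
    · exact absurd h hβ
    · exact sub_eq_zero.mp h
  exact ⟨(LinearEquiv.ofInjective μ hμ).symm.toLinearMap ∘ₗ βm,
    (LinearEquiv.ofInjective μ hμ).symm.injective.comp hβm⟩

end Rank

section UFD

variable {A : Type u} [CommRing A] [IsDomain A] [IsNoetherianRing A] [UniqueFactorizationMonoid A]

/-- In a Noetherian factorial domain a nonzero ideal is `g • J` with `J` contained in no principal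
prime ideal. -/
theorem exists_gcd_decomp (I : Ideal A) (hI : I ≠ ⊥) :
    ∃ (g : A) (J : Ideal A), g ≠ 0 ∧ (∀ j ∈ J, g * j ∈ I) ∧ (∀ i ∈ I, ∃ j ∈ J, g * j = i) ∧
      ∀ π : A, Prime π → ¬ J ≤ Ideal.span {π} := by
  classical
  obtain ⟨inst⟩ : Nonempty (NormalizedGCDMonoid A) := inferInstance
  letI := inst
  obtain ⟨T, hT⟩ := (IsNoetherian.noetherian I : I.FG)
  have hTne : T.Nonempty := by
    by_contra hcon
    rw [Finset.not_nonempty_iff_eq_empty] at hcon
    apply hI
    rw [← hT, hcon, Finset.coe_empty, Submodule.span_empty]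
  obtain ⟨g', hg', hgcd⟩ := Finset.extract_gcd (id : A → A) hTne
  obtain ⟨g, hgdef⟩ : ∃ g : A, g = T.gcd id := ⟨_, rfl⟩
  rw [← hgdef] at hg'
  have hTI : ∀ b ∈ T, b ∈ I := fun b hb => by
    rw [← hT]
    exact Submodule.subset_span hb
  have hg0 : g ≠ 0 := by
    intro h0
    apply hI
    rw [← hT, Submodule.span_eq_bot]
    intro b hb
    have := hg' b hb
    rw [h0, zero_mul] at this
    exact this
  refine ⟨g, Ideal.span (g' '' (T : Set A)), hg0, ?_, ?_, ?_⟩
  · intro j hj
    induction hj using Submodule.span_induction with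
    | mem k hk =>
      obtain ⟨b, hb, rfl⟩ := hk
      rw [← hg' b hb]
      exact hTI b hb
    | zero => rw [mul_zero]; exact I.zero_mem
    | add u v _ _ hu hv => rw [mul_add]; exact I.add_mem hu hv
    | smul r u _ hu =>
      rw [smul_eq_mul, mul_left_comm]
      exact I.mul_mem_left r hu
  · intro i hi
    rw [← hT] at hi
    induction hi using Submodule.span_induction with
    | mem k hk =>
      exact ⟨g' k, Ideal.subset_span ⟨k, hk, rfl⟩, (hg' k hk).symm⟩
    | zero => exact ⟨0, Ideal.zero_mem _, mul_zero _⟩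
    | add u v _ _ hu hv =>
      obtain ⟨c, hc, hcu⟩ := hu
      obtain ⟨d, hd, hdv⟩ := hv
      exact ⟨c + d, Ideal.add_mem _ hc hd, by rw [mul_add, hcu, hdv]⟩
    | smul r u _ hu =>
      obtain ⟨c, hc, hcu⟩ := hu
      exact ⟨r * c, Ideal.mul_mem_left _ r hc, by rw [smul_eq_mul, mul_left_comm, hcu]⟩
  · intro π hπ hle
    have hdvd : π ∣ T.gcd g' := Finset.dvd_gcd (fun b hb => by
      have hmem : g' b ∈ Ideal.span {π} := hle (Ideal.subset_span ⟨b, hb, rfl⟩)
      exact Ideal.mem_span_singleton.mp hmem)
    rw [hgcd] at hdvd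
    exact hπ.not_isUnit (isUnit_of_dvd_one hdvd)

end UFD

section LocalLemma

variable {A' : Type u} [CommRing A'] [IsDomain A'] [IsNoetherianRing A'] [IsLocalRing A']

/-- A proper nonzero ideal of a Noetherian local domain whose only prime overideal is the maximal
ideal has no regular sequence of length two inside the maximal ideal. -/
theorem length_le_one_of_isWeaklyRegular (J' : Ideal A') (hJtop : J' ≠ ⊤) (hJbot : J' ≠ ⊥)
    (honly : ∀ P : Ideal A', P.IsPrime → J' ≤ P → P = IsLocalRing.maximalIdeal A')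
    (rs : List A') (hreg : RingTheory.Sequence.IsWeaklyRegular J' rs)
    (hmem : ∀ r ∈ rs, r ∈ IsLocalRing.maximalIdeal A') : rs.length ≤ 1 := by
  classical
  by_contra hlen
  rw [not_le] at hlen
  obtain ⟨a, rs1, rfl⟩ : ∃ a rs1, rs = a :: rs1 := by
    cases rs with
    | nil => simp at hlen
    | cons a t => exact ⟨a, t, rfl⟩
  obtain ⟨b, rs2, rfl⟩ : ∃ b rs2, rs1 = b :: rs2 := by
    cases rs1 with
    | nil => simp at hlen
    | cons b t => exact ⟨b, t, rfl⟩
  rw [RingTheory.Sequence.isWeaklyRegular_cons_iff] at hreg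
  obtain ⟨ha, hreg2⟩ := hreg
  rw [RingTheory.Sequence.isWeaklyRegular_cons_iff] at hreg2
  obtain ⟨hb, -⟩ := hreg2
  have ham : a ∈ IsLocalRing.maximalIdeal A' := hmem a (by simp)
  have hbm : b ∈ IsLocalRing.maximalIdeal A' := hmem b (by simp)
  -- `a ≠ 0`
  obtain ⟨j, hjJ, hj0⟩ := Submodule.exists_mem_ne_zero_of_ne_bot hJbot
  have ha0 : a ≠ 0 := by
    intro h0
    have h1 : a • (⟨j, hjJ⟩ : J') = a • (0 : J') := by
      rw [h0, zero_smul, zero_smul]
    have h2 := ha h1
    exact hj0 (congrArg Subtype.val h2)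
  -- the socle element
  haveI : Nontrivial (A' ⧸ J') := Ideal.Quotient.nontrivial_iff.mpr hJtop
  obtain ⟨P, hP⟩ := associatedPrimes.nonempty A' (A' ⧸ J')
  obtain ⟨hPprime, zbar, hz⟩ := (isAssociatedPrime_iff (R := A')).mp hP
  obtain ⟨z, rfl⟩ := Ideal.Quotient.mk_surjective zbar
  have hJP : J' ≤ P := by
    intro t ht
    rw [hz, Submodule.mem_colon_singleton, Submodule.mem_bot]
    change t • (Ideal.Quotient.mk J' z) = 0
    rw [← Ideal.Quotient.mk_eq_mk, ← Submodule.Quotient.mk_smul, Ideal.Quotient.mk_eq_mk,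
      Ideal.Quotient.eq_zero_iff_mem, smul_eq_mul]
    exact J'.mul_mem_right z ht
  have hPm : P = IsLocalRing.maximalIdeal A' := honly P hPprime hJP
  have hzJ : z ∉ J' := by
    intro hzJ
    apply hPprime.ne_top
    rw [hz, eq_top_iff]
    intro t _
    rw [Submodule.mem_colon_singleton, Submodule.mem_bot,
      (Ideal.Quotient.eq_zero_iff_mem.mpr hzJ : Ideal.Quotient.mk J' z = 0), smul_zero]
  have hmz : ∀ t ∈ IsLocalRing.maximalIdeal A', t * z ∈ J' := by
    intro t ht
    rw [← hPm, hz, Submodule.mem_colon_singleton, Submodule.mem_bot] at ht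
    have h1 : Ideal.Quotient.mk J' (t * z) = 0 := by
      rw [← ht]
      rfl
    exact Ideal.Quotient.eq_zero_iff_mem.mp h1
  -- the computation
  let uu : J' := ⟨a * z, hmz a ham⟩
  let vv : J' := ⟨b * z, hmz b hbm⟩
  have huv : b • uu = a • vv := by
    apply Subtype.ext
    change b * (a * z) = a * (b * z)
    ring
  have h1 : b • (Submodule.Quotient.mk uu : QuotSMulTop a J') = b • (0 : QuotSMulTop a J') := by
    rw [smul_zero, ← Submodule.Quotient.mk_smul, huv, Submodule.Quotient.mk_eq_zero]
    exact Submodule.smul_mem_pointwise_smul vv a ⊤ Submodule.mem_top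
  have h2 := hb h1
  rw [Submodule.Quotient.mk_eq_zero, Submodule.mem_smul_pointwise_iff_exists] at h2
  obtain ⟨w, -, hw⟩ := h2
  have h3 : a * (w : A') = a * z := congrArg Subtype.val hw
  have h4 : (w : A') = z := mul_left_cancel₀ ha0 h3
  exact hzJ (h4 ▸ w.2)

end LocalLemma

section Main

variable {A : Type u} [CommRing A] [IsDomain A] [IsNoetherianRing A] [UniqueFactorizationMonoid A]
  {K : Type u} [AddCommGroup K] [Module A K] [Module.Finite A K]

/-- Over a Noetherian factorial domain, a finite torsion-free `(S₂)` module all of whose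
endomorphisms are homotheties is free of rank one. -/
theorem nonempty_linearEquiv_self (htf : ∀ (a : A) (x : K), a • x = 0 → a = 0 ∨ x = 0)
    (hend : Function.Bijective (fun r : A => r • (LinearMap.id : K →ₗ[A] K)))
    (x : K) (hx : x ≠ 0) (hS2 : LocCoh.HasSk 2 A K) : Nonempty (K ≃ₗ[A] A) := by
  classical
  obtain ⟨ψ, hψ⟩ := exists_injective_to_ring htf hend x hx
  obtain ⟨I, hIdef⟩ : ∃ I : Ideal A, I = LinearMap.range ψ := ⟨_, rfl⟩
  have hI : I ≠ ⊥ := by
    intro h
    have h1 : ψ x ∈ I := by
      rw [hIdef]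
      exact ⟨x, rfl⟩
    rw [h, Ideal.mem_bot] at h1
    exact hx (hψ (by rw [h1, map_zero]))
  obtain ⟨g, J, hg0, hgJ, hIg, hJπ⟩ := exists_gcd_decomp I hI
  let mg : J →ₗ[A] I :=
    { toFun := fun j => ⟨g * j, hgJ j j.2⟩
      map_add' := fun u v => Subtype.ext (mul_add g u v)
      map_smul' := fun r u => Subtype.ext (by
        change g * (r * (u : A)) = r * (g * (u : A))
        ring) }
  have hmg : Function.Bijective mg := by
    constructor
    · intro u v huv
      have h1 : g * (u : A) = g * (v : A) := congrArg Subtype.val huv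
      exact Subtype.ext (mul_left_cancel₀ hg0 h1)
    · intro i
      obtain ⟨j, hj, hji⟩ := hIg i i.2
      exact ⟨⟨j, hj⟩, Subtype.ext hji⟩
  let θ : K ≃ₗ[A] J :=
    ((LinearEquiv.ofInjective ψ hψ).trans (LinearEquiv.ofEq _ _ hIdef.symm)).trans
      (LinearEquiv.ofBijective mg hmg).symm
  have hJtop : J = ⊤ := by
    by_contra hne
    obtain ⟨q, hq⟩ := Ideal.nonempty_minimalPrimes hne
    haveI hqp : q.IsPrime := hq.1.1
    have hJq : J ≤ q := hq.1.2
    have hJbot : J ≠ ⊥ := by
      intro h
      have h1 : ((θ x : J) : A) ∈ (⊥ : Ideal A) := by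
        rw [← h]
        exact (θ x).2
      rw [Ideal.mem_bot] at h1
      have h2 : θ x = 0 := Subtype.ext h1
      exact hx (θ.injective (by rw [h2, map_zero]))
    have hqbot : q ≠ ⊥ := fun h => hJbot (le_bot_iff.mp (h ▸ hJq))
    obtain ⟨π, hπq, hπ⟩ := hqp.exists_mem_prime_of_ne_bot hqbot
    have hπ0 : π ≠ 0 := hπ.ne_zero
    haveI hPp : (Ideal.span {π}).IsPrime := (Ideal.span_singleton_prime hπ0).mpr hπ
    have hPq : Ideal.span {π} ≤ q := (Ideal.span_singleton_le_iff_mem _).mpr hπq
    have hPne : Ideal.span {π} ≠ q := fun h => hJπ π hπ (h ▸ hJq)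
    have hlt : Ideal.span {π} < q := lt_of_le_of_ne hPq hPne
    have hbotlt : (⊥ : Ideal A) < Ideal.span {π} :=
      bot_lt_iff_ne_bot.mpr (by rw [Ne, Ideal.span_singleton_eq_bot]; exact hπ0)
    have hht : (2 : ℕ∞) ≤ q.height := by
      haveI : (⊥ : Ideal A).IsPrime := Ideal.isPrime_bot
      have h1 := Ideal.height_strict_mono_of_isPrime hbotlt
      have h2 := Ideal.height_strict_mono_of_isPrime hlt
      have h3 : (1 : ℕ∞) ≤ (Ideal.span {π}).height :=
        Order.one_le_iff_pos.mpr (lt_of_le_of_lt zero_le h1)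
      calc (2 : ℕ∞) = 1 + 1 := by norm_num
        _ ≤ (Ideal.span {π}).height + 1 := by gcongr
        _ ≤ q.height := Order.add_one_le_of_lt h2
    -- the localization at `q`
    obtain ⟨Aq, hAq⟩ : ∃ Aq : Type u, Aq = Localization.AtPrime q := ⟨_, rfl⟩
    have hsk := hS2 q
    have hdim := Groth.Agent.Lib.Seat97.GrCMMod.height_le_supportDim_localization K x
      (fun t ht => (htf t x ht).resolve_right hx) q
    have hdepth : (2 : ℕ∞) ≤ LocCoh.depth (Localization.AtPrime q)
        (LocalizedModule q.primeCompl K) := by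
      have h2le : ((2 : ℕ∞) : WithBot ℕ∞) ≤ ((LocCoh.depth (Localization.AtPrime q)
          (LocalizedModule q.primeCompl K) : ℕ∞) : WithBot ℕ∞) := by
        refine le_trans (le_min ?_ ?_) hsk
        · exact le_of_eq (by norm_cast)
        · exact le_trans (WithBot.coe_le_coe.mpr hht) hdim
      exact WithBot.coe_le_coe.mp h2le
    have hKq : Nontrivial (LocalizedModule q.primeCompl K) := by
      refine ⟨⟨LocalizedModule.mkLinearMap q.primeCompl K x, 0, fun h => ?_⟩⟩
      obtain ⟨c, hc⟩ := (IsLocalizedModule.eq_zero_iff q.primeCompl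
        (LocalizedModule.mkLinearMap q.primeCompl K)).mp h
      rcases htf _ _ hc with h0 | h0
      · exact c.2 (by rw [h0]; exact q.zero_mem)
      · exact hx h0
    haveI : Module.Finite (Localization.AtPrime q) (LocalizedModule q.primeCompl K) :=
      Module.Finite.of_isLocalizedModule q.primeCompl (LocalizedModule.mkLinearMap q.primeCompl K)
    have hnak : IsLocalRing.maximalIdeal (Localization.AtPrime q) •
        (⊤ : Submodule (Localization.AtPrime q) (LocalizedModule q.primeCompl K)) ≠ ⊤ := by
      intro h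
      have hfg : (⊤ : Submodule (Localization.AtPrime q) (LocalizedModule q.primeCompl K)).FG :=
        Module.Finite.fg_top
      have h1 := Submodule.eq_bot_of_le_smul_of_le_jacobson_bot
        (IsLocalRing.maximalIdeal (Localization.AtPrime q)) ⊤ hfg (by rw [h])
        (by rw [IsLocalRing.jacobson_eq_maximalIdeal ⊥ bot_ne_top])
      exact top_ne_bot h1
    have hex : ∃ rs : List (Localization.AtPrime q),
        (RingTheory.Sequence.IsWeaklyRegular (LocalizedModule q.primeCompl K) rs ∧
          ∀ r ∈ rs, r ∈ IsLocalRing.maximalIdeal (Localization.AtPrime q)) ∧ 2 ≤ rs.length := by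
      by_contra hcon0
      have hcon : ∀ rs : List (Localization.AtPrime q),
          (RingTheory.Sequence.IsWeaklyRegular (LocalizedModule q.primeCompl K) rs ∧
            ∀ r ∈ rs, r ∈ IsLocalRing.maximalIdeal (Localization.AtPrime q)) →
          rs.length < 2 := fun rs hrs => by
        by_contra hge
        exact hcon0 ⟨rs, hrs, not_lt.mp hge⟩
      have hle : LocCoh.depth (Localization.AtPrime q) (LocalizedModule q.primeCompl K) ≤ 1 := by
        unfold LocCoh.depth LocCoh.idealDepth
        rw [if_neg hnak]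
        refine iSup_le fun rs => iSup_le fun hrs => ?_
        have h1 := hcon rs hrs
        exact_mod_cast Nat.lt_succ_iff.mp h1
      exact absurd (le_trans hdepth hle) (by norm_num)
    obtain ⟨rs, ⟨hrs, hrsm⟩, hlen⟩ := hex
    -- the ideal `J A_q`
    obtain ⟨J', hJ'def⟩ : ∃ J' : Ideal (Localization.AtPrime q),
      J' = J.map (algebraMap A (Localization.AtPrime q)) := ⟨_, rfl⟩
    have hJ'top : J' ≠ ⊤ := by
      rw [hJ'def]
      refine (IsLocalization.map_algebraMap_ne_top_iff_disjoint q.primeCompl
        (Localization.AtPrime q) J).mpr ?_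
      rw [Set.disjoint_left]
      intro t ht htJ
      exact ht (hJq htJ)
    have hJ'bot : J' ≠ ⊥ := by
      obtain ⟨j, hjJ, hj0⟩ := Submodule.exists_mem_ne_zero_of_ne_bot hJbot
      intro h
      have hmem : algebraMap A (Localization.AtPrime q) j ∈ J' := by
        rw [hJ'def]
        exact Ideal.mem_map_of_mem _ hjJ
      rw [h, Ideal.mem_bot] at hmem
      have hinj := IsLocalization.injective (Localization.AtPrime q)
        (Ideal.primeCompl_le_nonZeroDivisors q)
      exact hj0 (hinj (by rw [hmem, map_zero]))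
    have honly : ∀ P : Ideal (Localization.AtPrime q), P.IsPrime → J' ≤ P →
        P = IsLocalRing.maximalIdeal (Localization.AtPrime q) := by
      intro P hP hJP
      rw [← Localization.AtPrime.eq_maximalIdeal_iff_under_eq]
      have hq' : (P.under A).IsPrime := Ideal.comap_isPrime _ P
      have h1 : J ≤ P.under A := Ideal.le_comap_of_map_le (hJ'def ▸ hJP)
      have h2 : P.under A ≤ q := by
        have h3 := Ideal.comap_mono (f := algebraMap A (Localization.AtPrime q))
          (IsLocalRing.le_maximalIdeal hP.ne_top)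
        have h4 : (IsLocalRing.maximalIdeal (Localization.AtPrime q)).comap
            (algebraMap A (Localization.AtPrime q)) = q := Localization.AtPrime.under_maximalIdeal
        rw [h4] at h3
        exact h3
      exact le_antisymm h2 (hq.2 ⟨hq', h1⟩ h2)
    let eqv : LocalizedModule q.primeCompl K ≃ₗ[Localization.AtPrime q]
        (J.map (algebraMap A (Localization.AtPrime q))) :=
      IsLocalizedModule.mapEquiv q.primeCompl (LocalizedModule.mkLinearMap q.primeCompl K)
        (Algebra.idealMap (S := Localization.AtPrime q) J) (Localization.AtPrime q) θ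
    subst hJ'def
    have hrs' := (LinearEquiv.isWeaklyRegular_congr eqv rs).mp hrs
    have h5 := length_le_one_of_isWeaklyRegular _ hJ'top hJ'bot honly rs hrs' hrsm
    omega
  exact ⟨θ.trans ((LinearEquiv.ofEq J ⊤ hJtop).trans Submodule.topEquiv)⟩

end Main

end Groth.Agent.Lib.Seat86.Murthy
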