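import Mathlib
import Groth.Agent.Lib.Seat86Murthy

/-!
# Unmixedness of a rank-one `(S₂)` ideal (seat 86)

* `length_le_one_of_socle` : a nonzero ideal `J'` of a Noetherian local domain for which some
  `z ∉ J'` has `𝔪 z ⊆ J'` admits no regular sequence of length two in `𝔪`;
* `height_le_one_of_mem_associatedPrimes` : if a finite torsion-free `(S₂)` module `K` over a
  Noetherian domain is isomorphic to an ideal `I`, every associated prime of `A ⧸ I` has height `≤ 1`;
* `one_le_height_of_mem_associatedPrimes` : for `I ≠ ⊥` these primes are nonzero.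

Namespace `Groth.Agent.Lib.Seat86.Murthy`.
-/

set_option autoImplicit false
set_option linter.style.haveILetI false
set_option linter.unusedSectionVars false

universe u

namespace Groth.Agent.Lib.Seat86.Murthy

section LocalLemma

variable {A' : Type u} [CommRing A'] [IsDomain A'] [IsLocalRing A']

theorem length_le_one_of_socle (J' : Ideal A') (hJbot : J' ≠ ⊥) (z : A') (hzJ : z ∉ J')
    (hmz : ∀ t ∈ IsLocalRing.maximalIdeal A', t * z ∈ J')
    (rs : List A') (hreg : RingTheory.Sequence.IsWeaklyRegular J' rs)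
    (hmem : ∀ r ∈ rs, r ∈ IsLocalRing.maximalIdeal A') : rs.length ≤ 1 := by
  classical
  by_contra hlen
  rw [not_le] at hlen
  obtain ⟨a, rs1, rfl⟩ : ∃ a rs1, rs = a :: rs1 := by
    cases rs with
    | nil => simp at hlen
    | cons a t => exact ⟨a, t, rfl⟩
  obtain ⟨b, rs2, rfl⟩ : ∃ b rs2, rs1 = b :: rs2 := by
    cases rs1 with
    | nil => simp at hlen
    | cons b t => exact ⟨b, t, rfl⟩
  rw [RingTheory.Sequence.isWeaklyRegular_cons_iff] at hreg
  obtain ⟨ha, hreg2⟩ := hreg
  rw [RingTheory.Sequence.isWeaklyRegular_cons_iff] at hreg2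
  obtain ⟨hb, -⟩ := hreg2
  have ham : a ∈ IsLocalRing.maximalIdeal A' := hmem a (by simp)
  have hbm : b ∈ IsLocalRing.maximalIdeal A' := hmem b (by simp)
  obtain ⟨j, hjJ, hj0⟩ := Submodule.exists_mem_ne_zero_of_ne_bot hJbot
  have ha0 : a ≠ 0 := by
    intro h0
    have h1 : a • (⟨j, hjJ⟩ : J') = a • (0 : J') := by
      rw [h0, zero_smul, zero_smul]
    have h2 := ha h1
    exact hj0 (congrArg Subtype.val h2)
  let uu : J' := ⟨a * z, hmz a ham⟩
  let vv : J' := ⟨b * z, hmz b hbm⟩
  have huv : b • uu = a • vv := by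
    apply Subtype.ext
    change b * (a * z) = a * (b * z)
    ring
  have h1 : b • (Submodule.Quotient.mk uu : QuotSMulTop a J') = b • (0 : QuotSMulTop a J') := by
    rw [smul_zero, ← Submodule.Quotient.mk_smul, huv, Submodule.Quotient.mk_eq_zero]
    exact Submodule.smul_mem_pointwise_smul vv a ⊤ Submodule.mem_top
  have h2 := hb h1
  rw [Submodule.Quotient.mk_eq_zero, Submodule.mem_smul_pointwise_iff_exists] at h2
  obtain ⟨w, -, hw⟩ := h2
  have h3 : a * (w : A') = a * z := congrArg Subtype.val hw
  have h4 : (w : A') = z := mul_left_cancel₀ ha0 h3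
  exact hzJ (h4 ▸ w.2)

end LocalLemma

section Unmixed

variable {A : Type u} [CommRing A] [IsDomain A] [IsNoetherianRing A]
  {K : Type u} [AddCommGroup K] [Module A K] [Module.Finite A K]

/-- Associated primes of `A ⧸ I` are nonzero when `I ≠ ⊥`. -/
theorem one_le_height_of_mem_associatedPrimes (I : Ideal A) (hI : I ≠ ⊥) (q : Ideal A)
    (hq : q ∈ associatedPrimes A (A ⧸ I)) : 1 ≤ q.height := by
  obtain ⟨hqp, zbar, hz⟩ := (isAssociatedPrime_iff (R := A)).mp hq
  haveI := hqp
  obtain ⟨i, hiI, hi0⟩ := Submodule.exists_mem_ne_zero_of_ne_bot hI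
  obtain ⟨z, rfl⟩ := Ideal.Quotient.mk_surjective zbar
  have hiq : i ∈ q := by
    rw [hz, Submodule.mem_colon_singleton, Submodule.mem_bot]
    change i • (Ideal.Quotient.mk I z) = 0
    rw [← Ideal.Quotient.mk_eq_mk, ← Submodule.Quotient.mk_smul, Ideal.Quotient.mk_eq_mk,
      Ideal.Quotient.eq_zero_iff_mem, smul_eq_mul]
    exact I.mul_mem_right z hiI
  have hqbot : (⊥ : Ideal A) < q := bot_lt_iff_ne_bot.mpr (fun h => hi0 (by
    rw [h, Ideal.mem_bot] at hiq
    exact hiq))
  haveI : (⊥ : Ideal A).IsPrime := Ideal.isPrime_bot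
  have h1 := Ideal.height_strict_mono_of_isPrime hqbot
  exact Order.one_le_iff_pos.mpr (lt_of_le_of_lt zero_le h1)

/-- If a finite torsion-free `(S₂)` module is isomorphic to the ideal `I`, the associated primes of
`A ⧸ I` have height at most one. -/
theorem height_le_one_of_mem_associatedPrimes
    (htf : ∀ (a : A) (x : K), a • x = 0 → a = 0 ∨ x = 0) (x : K) (hx : x ≠ 0)
    (hS2 : LocCoh.HasSk 2 A K) (I : Ideal A) (θ : K ≃ₗ[A] I) (q : Ideal A)
    (hq : q ∈ associatedPrimes A (A ⧸ I)) : q.height ≤ 1 := by
  classical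
  by_contra hcon
  rw [not_le] at hcon
  have hht : (2 : ℕ∞) ≤ q.height := by
    have := Order.add_one_le_of_lt hcon
    calc (2 : ℕ∞) = 1 + 1 := by norm_num
      _ ≤ q.height := this
  obtain ⟨hqp, zbar, hz⟩ := (isAssociatedPrime_iff (R := A)).mp hq
  haveI := hqp
  obtain ⟨z, rfl⟩ := Ideal.Quotient.mk_surjective zbar
  have hmemq : ∀ t : A, t ∈ q ↔ t * z ∈ I := by
    intro t
    rw [hz, Submodule.mem_colon_singleton, Submodule.mem_bot]
    change t • (Ideal.Quotient.mk I z) = 0 ↔ _
    rw [← Ideal.Quotient.mk_eq_mk, ← Submodule.Quotient.mk_smul, Ideal.Quotient.mk_eq_mk,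
      Ideal.Quotient.eq_zero_iff_mem, smul_eq_mul]
  have hIbot : I ≠ ⊥ := by
    intro h
    have h1 : ((θ x : I) : A) ∈ (⊥ : Ideal A) := by
      rw [← h]
      exact (θ x).2
    rw [Ideal.mem_bot] at h1
    have h2 : θ x = 0 := Subtype.ext h1
    exact hx (θ.injective (by rw [h2, map_zero]))
  have hsk := hS2 q
  have hdim := Groth.Agent.Lib.Seat97.GrCMMod.height_le_supportDim_localization K x
    (fun t ht => (htf t x ht).resolve_right hx) q
  have hdepth : (2 : ℕ∞) ≤ LocCoh.depth (Localization.AtPrime q)
      (LocalizedModule q.primeCompl K) := by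
    have h2le : ((2 : ℕ∞) : WithBot ℕ∞) ≤ ((LocCoh.depth (Localization.AtPrime q)
        (LocalizedModule q.primeCompl K) : ℕ∞) : WithBot ℕ∞) := by
      refine le_trans (le_min ?_ ?_) hsk
      · exact le_of_eq (by norm_cast)
      · exact le_trans (WithBot.coe_le_coe.mpr hht) hdim
    exact WithBot.coe_le_coe.mp h2le
  have hKq : Nontrivial (LocalizedModule q.primeCompl K) := by
    refine ⟨⟨LocalizedModule.mkLinearMap q.primeCompl K x, 0, fun h => ?_⟩⟩
    obtain ⟨c, hc⟩ := (IsLocalizedModule.eq_zero_iff q.primeCompl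
      (LocalizedModule.mkLinearMap q.primeCompl K)).mp h
    rcases htf _ _ hc with h0 | h0
    · exact c.2 (by rw [h0]; exact q.zero_mem)
    · exact hx h0
  haveI : Module.Finite (Localization.AtPrime q) (LocalizedModule q.primeCompl K) :=
    Module.Finite.of_isLocalizedModule q.primeCompl (LocalizedModule.mkLinearMap q.primeCompl K)
  have hnak : IsLocalRing.maximalIdeal (Localization.AtPrime q) •
      (⊤ : Submodule (Localization.AtPrime q) (LocalizedModule q.primeCompl K)) ≠ ⊤ := by
    intro h
    have hfg : (⊤ : Submodule (Localization.AtPrime q) (LocalizedModule q.primeCompl K)).FG :=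
      Module.Finite.fg_top
    have h1 := Submodule.eq_bot_of_le_smul_of_le_jacobson_bot
      (IsLocalRing.maximalIdeal (Localization.AtPrime q)) ⊤ hfg (by rw [h])
      (by rw [IsLocalRing.jacobson_eq_maximalIdeal ⊥ bot_ne_top])
    exact top_ne_bot h1
  have hex : ∃ rs : List (Localization.AtPrime q),
      (RingTheory.Sequence.IsWeaklyRegular (LocalizedModule q.primeCompl K) rs ∧
        ∀ r ∈ rs, r ∈ IsLocalRing.maximalIdeal (Localization.AtPrime q)) ∧ 2 ≤ rs.length := by
    by_contra hcon0
    have hcon1 : ∀ rs : List (Localization.AtPrime q),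
        (RingTheory.Sequence.IsWeaklyRegular (LocalizedModule q.primeCompl K) rs ∧
          ∀ r ∈ rs, r ∈ IsLocalRing.maximalIdeal (Localization.AtPrime q)) →
        rs.length < 2 := fun rs hrs => by
      by_contra hge
      exact hcon0 ⟨rs, hrs, not_lt.mp hge⟩
    have hle : LocCoh.depth (Localization.AtPrime q) (LocalizedModule q.primeCompl K) ≤ 1 := by
      unfold LocCoh.depth LocCoh.idealDepth
      rw [if_neg hnak]
      refine iSup_le fun rs => iSup_le fun hrs => ?_
      have h1 := hcon1 rs hrs
      exact_mod_cast Nat.lt_succ_iff.mp h1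
    exact absurd (le_trans hdepth hle) (by norm_num)
  obtain ⟨rs, ⟨hrs, hrsm⟩, hlen⟩ := hex
  -- the ideal `I A_q` and the socle element `z/1`
  have hJ'bot : I.map (algebraMap A (Localization.AtPrime q)) ≠ ⊥ := by
    obtain ⟨j, hjJ, hj0⟩ := Submodule.exists_mem_ne_zero_of_ne_bot hIbot
    intro h
    have hmem : algebraMap A (Localization.AtPrime q) j ∈
        I.map (algebraMap A (Localization.AtPrime q)) := Ideal.mem_map_of_mem _ hjJ
    rw [h, Ideal.mem_bot] at hmem
    have hinj := IsLocalization.injective (Localization.AtPrime q)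
      (Ideal.primeCompl_le_nonZeroDivisors q)
    exact hj0 (hinj (by rw [hmem, map_zero]))
  have hz' : algebraMap A (Localization.AtPrime q) z ∉
      I.map (algebraMap A (Localization.AtPrime q)) := by
    intro hmem
    rw [IsLocalization.algebraMap_mem_map_algebraMap_iff q.primeCompl] at hmem
    obtain ⟨s, hs, hsz⟩ := hmem
    exact hs ((hmemq s).mpr hsz)
  have hmz' : ∀ t ∈ IsLocalRing.maximalIdeal (Localization.AtPrime q),
      t * algebraMap A (Localization.AtPrime q) z ∈
        I.map (algebraMap A (Localization.AtPrime q)) := by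
    intro t ht
    obtain ⟨a, s, rfl⟩ := IsLocalization.exists_mk'_eq q.primeCompl t
    have haq : a ∈ q := by
      have h1 : algebraMap A (Localization.AtPrime q) a ∈
          IsLocalRing.maximalIdeal (Localization.AtPrime q) := by
        have h2 : algebraMap A (Localization.AtPrime q) a =
            algebraMap A (Localization.AtPrime q) (s : A) *
              IsLocalization.mk' (Localization.AtPrime q) a s := by
          rw [IsLocalization.mk'_spec']
        rw [h2]
        exact Ideal.mul_mem_left _ _ ht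
      exact (IsLocalization.AtPrime.to_map_mem_maximal_iff (Localization.AtPrime q) q a).mp h1
    have h3 : IsLocalization.mk' (Localization.AtPrime q) a s *
        algebraMap A (Localization.AtPrime q) z =
        IsLocalization.mk' (Localization.AtPrime q) (1 : A) s *
          algebraMap A (Localization.AtPrime q) (a * z) := by
      rw [IsLocalization.mk'_eq_mul_mk'_one (x := a) (y := s), map_mul]
      ring
    rw [h3]
    exact Ideal.mul_mem_left _ _ (Ideal.mem_map_of_mem _ ((hmemq a).mp haq))
  let eqv : LocalizedModule q.primeCompl K ≃ₗ[Localization.AtPrime q]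
      (I.map (algebraMap A (Localization.AtPrime q))) :=
    IsLocalizedModule.mapEquiv q.primeCompl (LocalizedModule.mkLinearMap q.primeCompl K)
      (Algebra.idealMap (S := Localization.AtPrime q) I) (Localization.AtPrime q) θ
  have hrs' := (LinearEquiv.isWeaklyRegular_congr eqv rs).mp hrs
  have h5 := length_le_one_of_socle _ hJ'bot _ hz' hmz' rs hrs' hrsm
  omega

end Unmixed

end Groth.Agent.Lib.Seat86.Murthy
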