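import Mathlib

/-!
# Associated primes along an affine open immersion (seat 86)

* `mem_associatedPrimes_iff_of_semilinear`: associated primes correspond under a ring isomorphism
  `e` and an `e`-semilinear additive isomorphism of modules.
* `localRingHom_bijective_of_isOpenImmersion`: if `Spec S ⟶ Spec R` is an open immersion then all
  the maps `R_{φ⁻¹ q} → S_q` are bijective.
* `mem_associatedPrimes_baseChange_iff`: for Noetherian `R → S` with `R_{q ∩ R} → S_q` bijective,
  `q ∈ Ass_S (S ⊗[R] M) ↔ q ∩ R ∈ Ass_R M`.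
-/

set_option autoImplicit false
set_option linter.style.haveILetI false
set_option linter.unusedSectionVars false

universe u

open TensorProduct

namespace Groth.Agent.Lib.Seat86.QFAss

section transport

variable {R₁ R₂ M₁ M₂ : Type*} [CommRing R₁] [CommRing R₂] [AddCommGroup M₁] [AddCommGroup M₂]
  [Module R₁ M₁] [Module R₂ M₂]

theorem mem_associatedPrimes_iff_of_semilinear (e : R₁ ≃+* R₂) (g : M₁ ≃+ M₂)
    (hsl : ∀ (r : R₁) (x : M₁), g (r • x) = e r • g x) (J : Ideal R₂) :
    J ∈ associatedPrimes R₂ M₂ ↔ J.comap (e : R₁ →+* R₂) ∈ associatedPrimes R₁ M₁ := by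
  have key : ∀ (r : R₁) (x : M₁) (n : ℕ), (e r) ^ n • g x = 0 ↔ r ^ n • x = 0 := by
    intro r x n
    rw [← map_pow, ← hsl]
    constructor
    · intro h
      apply g.injective
      rw [h, map_zero]
    · intro h
      rw [h, map_zero]
  constructor
  · rintro ⟨hJ, y, hy⟩
    haveI := hJ
    refine ⟨Ideal.comap_isPrime _ _, g.symm y, ?_⟩
    ext r
    rw [Ideal.mem_comap, hy, Ideal.mem_radical_iff, Ideal.mem_radical_iff]
    simp only [Submodule.mem_colon_singleton, Submodule.mem_bot]
    refine exists_congr fun n => ?_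
    have := key r (g.symm y) n
    rw [AddEquiv.apply_symm_apply] at this
    exact this
  · rintro ⟨hp, x, hx⟩
    haveI := hp
    have hsurj : Function.Surjective (e : R₁ →+* R₂) := e.surjective
    have hJ : J.IsPrime := by
      rw [← Ideal.map_comap_of_surjective (e : R₁ →+* R₂) hsurj J]
      exact Ideal.map_isPrime_of_surjective hsurj (Ideal.comap_mono bot_le)
    refine ⟨hJ, g x, ?_⟩
    ext s
    obtain ⟨r, rfl⟩ := e.surjective s
    have h1 : e r ∈ J ↔ r ∈ J.comap (e : R₁ →+* R₂) := Iff.rfl
    rw [h1, hx, Ideal.mem_radical_iff, Ideal.mem_radical_iff]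
    simp only [Submodule.mem_colon_singleton, Submodule.mem_bot]
    exact exists_congr fun n => (key r x n).symm

end transport

section openImmersion

open AlgebraicGeometry CategoryTheory

theorem localRingHom_bijective_of_isOpenImmersion {R S : Type u} [CommRing R] [CommRing S]
    (φ : R →+* S) (h : IsOpenImmersion (Spec.map (CommRingCat.ofHom φ))) (q : Ideal S)
    [hq : q.IsPrime] :
    Function.Bijective (Localization.localRingHom (q.comap φ) q φ rfl) := by
  haveI := h
  let p : PrimeSpectrum S := ⟨q, hq⟩
  have hiso : IsIso ((Spec.map (CommRingCat.ofHom φ)).stalkMap p) := inferInstance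
  have h2 := ((MorphismProperty.isomorphisms CommRingCat).arrow_mk_iso_iff
    (Scheme.arrowStalkMapSpecIso (CommRingCat.ofHom φ) p)).mp hiso
  have h3 : IsIso (CommRingCat.ofHom (Localization.localRingHom
      ((p.comap (CommRingCat.ofHom φ).hom).asIdeal) p.asIdeal (CommRingCat.ofHom φ).hom rfl)) := h2
  haveI := h3
  exact ConcreteCategory.bijective_of_isIso (CommRingCat.ofHom (Localization.localRingHom
      ((p.comap (CommRingCat.ofHom φ).hom).asIdeal) p.asIdeal (CommRingCat.ofHom φ).hom rfl))

end openImmersion

section baseChange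

variable {R S : Type*} [CommRing R] [CommRing S] [Algebra R S] [IsNoetherianRing R]
  [IsNoetherianRing S] (M : Type*) [AddCommGroup M] [Module R M] (q : Ideal S) [q.IsPrime]

theorem mem_associatedPrimes_baseChange_iff
    (hψ : Function.Bijective (Localization.localRingHom (q.comap (algebraMap R S)) q
      (algebraMap R S) rfl)) :
    q ∈ associatedPrimes S (S ⊗[R] M) ↔ q.comap (algebraMap R S) ∈ associatedPrimes R M := by
  set q' : Ideal R := q.comap (algebraMap R S) with hq'
  set Rq := Localization.AtPrime q' with hRq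
  set Sq := Localization.AtPrime q with hSq
  set ψ : Rq →+* Sq := Localization.localRingHom q' q (algebraMap R S) rfl with hψdef
  -- (B)
  have hB : IsLocalRing.maximalIdeal Rq ∈ associatedPrimes Rq (Rq ⊗[R] M) ↔
      q' ∈ associatedPrimes R M := by
    haveI : IsLocalizedModule q'.primeCompl (TensorProduct.mk R Rq M 1) :=
      (isLocalizedModule_iff_isBaseChange q'.primeCompl Rq _).mpr
        (TensorProduct.isBaseChange R M Rq)
    have h := Module.associatedPrimes.preimage_comap_associatedPrimes_eq_associatedPrimes_of_isLocalizedModule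
      q'.primeCompl Rq (TensorProduct.mk R Rq M 1)
    rw [← h, Set.mem_preimage]
    have h2 : Ideal.comap (algebraMap R Rq) (IsLocalRing.maximalIdeal Rq) = q' :=
      IsLocalization.AtPrime.under_maximalIdeal Rq q'
    rw [h2]
  -- (A)
  have hA : IsLocalRing.maximalIdeal Sq ∈ associatedPrimes Sq (Sq ⊗[R] M) ↔
      q ∈ associatedPrimes S (S ⊗[R] M) := by
    let f : S ⊗[R] M →ₗ[S] Sq ⊗[R] M :=
      TensorProduct.AlgebraTensorModule.map (Algebra.linearMap S Sq) (LinearMap.id : M →ₗ[R] M)
    have hcomp : (f.restrictScalars R) ∘ₗ (TensorProduct.mk R S M 1) = TensorProduct.mk R Sq M 1 := by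
      ext m
      simp [f]
    have hbc : IsBaseChange Sq f := by
      refine IsBaseChange.of_comp (TensorProduct.isBaseChange R M S) ?_
      rw [hcomp]
      exact TensorProduct.isBaseChange R M Sq
    haveI : IsLocalizedModule q.primeCompl f :=
      (isLocalizedModule_iff_isBaseChange q.primeCompl Sq f).mpr hbc
    have h := Module.associatedPrimes.preimage_comap_associatedPrimes_eq_associatedPrimes_of_isLocalizedModule
      q.primeCompl Sq f
    rw [← h, Set.mem_preimage]
    have h2 : Ideal.comap (algebraMap S Sq) (IsLocalRing.maximalIdeal Sq) = q :=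
      IsLocalization.AtPrime.under_maximalIdeal Sq q
    rw [h2]
  -- (C)
  have hC : IsLocalRing.maximalIdeal Sq ∈ associatedPrimes Sq (Sq ⊗[R] M) ↔
      IsLocalRing.maximalIdeal Rq ∈ associatedPrimes Rq (Rq ⊗[R] M) := by
    let e : Rq ≃+* Sq := RingEquiv.ofBijective ψ hψ
    let ψl : Rq →ₗ[R] Sq :=
      { toFun := ψ
        map_add' := map_add ψ
        map_smul' := fun r x => by
          rw [Algebra.smul_def, map_mul, hψdef, Localization.localRingHom_to_map,
            RingHom.id_apply, Algebra.smul_def, IsScalarTower.algebraMap_apply R S Sq] }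
    let ψe : Rq ≃ₗ[R] Sq := LinearEquiv.ofBijective ψl hψ
    let g : Rq ⊗[R] M ≃+ Sq ⊗[R] M := (LinearEquiv.rTensor M ψe).toAddEquiv
    have hsl : ∀ (a : Rq) (x : Rq ⊗[R] M), g (a • x) = e a • g x := by
      intro a x
      induction x using TensorProduct.induction_on with
      | zero => simp
      | tmul b m =>
        change (LinearEquiv.rTensor M ψe) (a • (b ⊗ₜ[R] m)) = ψ a • (LinearEquiv.rTensor M ψe) (b ⊗ₜ[R] m)
        rw [TensorProduct.smul_tmul', LinearEquiv.rTensor_tmul, LinearEquiv.rTensor_tmul,
          TensorProduct.smul_tmul']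
        change ψ (a • b) ⊗ₜ[R] m = (ψ a • ψ b) ⊗ₜ[R] m
        rw [smul_eq_mul, map_mul, smul_eq_mul]
      | add x y hx hy => rw [smul_add, map_add, map_add, smul_add, hx, hy]
    rw [mem_associatedPrimes_iff_of_semilinear e g hsl]
    have hloc : (IsLocalRing.maximalIdeal Sq).comap (e : Rq →+* Sq) = IsLocalRing.maximalIdeal Rq := by
      have : IsLocalHom ψ := by rw [hψdef]; infer_instance
      exact ((IsLocalRing.local_hom_TFAE ψ).out 0 4).mp this
    rw [hloc]
  rw [← hA, hC, hB]

end baseChange

end Groth.Agent.Lib.Seat86.QFAss
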