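import Mathlib

/-!
# Twisted diagonal hypersurfaces over the fraction field of a DVR: arithmetic and the Eisenstein part

* `gcd_dvd_of_dvd_mul`: if `d ∣ t * m` with `1 ≤ t ≤ N` then `I(d, N) ∣ m`, where `I(d, N)` is the gcd
  of the quotients `d / δ` over the divisors `δ` of `d` with `1 ≤ δ ≤ N`.
* `exists_ne_valuation_eq`: in a vanishing finite sum in a field with a non-zero term, the maximal
  valuation is attained twice.
* `exists_field_root`: an Eisenstein extension of degree `e` containing an `e`-th root of the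
  uniformizer.
* `closure_eq_zmultiples_of`: a bookkeeping lemma for subgroups of `ℤ` generated by natural numbers.
-/

universe u

namespace Groth.Agent.Lib.Seat86.TwistDiag

open Polynomial

/-- If `d ∣ t * m` with `1 ≤ t ≤ N`, then the gcd of the `d / δ`, `δ ∣ d`, `1 ≤ δ ≤ N`, divides `m`. -/
theorem gcd_dvd_of_dvd_mul {d N : ℕ} (hd : 1 ≤ d) (t : ℕ) (ht1 : 1 ≤ t) (htN : t ≤ N) (m : ℕ)
    (h : d ∣ t * m) :
    ((Finset.Icc 1 N).filter (fun δ => δ ∣ d)).gcd (fun δ => d / δ) ∣ m := by
  set δ := Nat.gcd d t with hδ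
  have hδpos : 0 < δ := Nat.gcd_pos_of_pos_left _ (by omega)
  have hδd : δ ∣ d := Nat.gcd_dvd_left _ _
  have hδt : δ ∣ t := Nat.gcd_dvd_right _ _
  have hδle : δ ≤ t := Nat.le_of_dvd (by omega) hδt
  have hmem : δ ∈ (Finset.Icc 1 N).filter (fun δ => δ ∣ d) := by
    simp only [Finset.mem_filter, Finset.mem_Icc]
    exact ⟨⟨hδpos, hδle.trans htN⟩, hδd⟩
  refine (Finset.gcd_dvd (f := fun δ => d / δ) hmem).trans ?_
  show d / δ ∣ m
  have hcop : Nat.Coprime (d / δ) (t / δ) := Nat.coprime_div_gcd_div_gcd hδpos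
  have h2 : d / δ ∣ (t / δ) * m := by
    obtain ⟨c, hc⟩ := h
    refine ⟨c, ?_⟩
    have h3 : δ * ((t / δ) * m) = δ * ((d / δ) * c) := by
      calc δ * ((t / δ) * m) = (δ * (t / δ)) * m := by ring
        _ = t * m := by rw [Nat.mul_div_cancel' hδt]
        _ = d * c := hc
        _ = (δ * (d / δ)) * c := by rw [Nat.mul_div_cancel' hδd]
        _ = δ * ((d / δ) * c) := by ring
    exact Nat.eq_of_mul_eq_mul_left hδpos h3
  exact hcop.dvd_of_dvd_mul_left h2

/-- In a vanishing finite sum in a field with a non-zero term, the maximal valuation is attained at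
two distinct indices. -/
theorem exists_ne_valuation_eq {F Γ : Type*} [Field F] [LinearOrderedCommGroupWithZero Γ]
    (v : Valuation F Γ) {ι : Type*} [DecidableEq ι] (s : Finset ι) (a : ι → F)
    (hsum : ∑ i ∈ s, a i = 0) (hne : ∃ i ∈ s, a i ≠ 0) :
    ∃ i ∈ s, ∃ j ∈ s, i ≠ j ∧ v (a i) = v (a j) ∧ v (a j) ≠ 0 := by
  obtain ⟨i₀, hi₀, hai₀⟩ := hne
  obtain ⟨j, hj, hmax⟩ := Finset.exists_max_image s (fun i => v (a i)) ⟨i₀, hi₀⟩
  have hvj : v (a j) ≠ 0 := by
    intro h0
    have := hmax i₀ hi₀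
    rw [h0] at this
    exact hai₀ ((v.zero_iff).mp (le_antisymm this zero_le))
  by_contra hcon
  push Not at hcon
  have hlt : ∀ i ∈ s.erase j, v (a i) < v (a j) := by
    intro i hi
    have hi' := Finset.mem_erase.mp hi
    refine lt_of_le_of_ne (hmax i hi'.2) ?_
    intro heq
    exact hvj (hcon i hi'.2 j hj hi'.1 heq)
  have hsum' : a j = - ∑ i ∈ s.erase j, a i := by
    rw [← Finset.add_sum_erase s a hj] at hsum
    exact eq_neg_of_add_eq_zero_left hsum
  have h1 : v (∑ i ∈ s.erase j, a i) < v (a j) := Valuation.map_sum_lt v hvj hlt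
  rw [hsum', Valuation.map_neg] at h1
  exact lt_irrefl _ h1

/-- An Eisenstein extension of degree `e` of the fraction field of a DVR containing an `e`-th root
of the uniformizer. -/
theorem exists_field_root (R : Type u) [CommRing R] [IsDomain R] [IsDiscreteValuationRing R]
    (K : Type u) [Field K] [Algebra R K] [IsFractionRing R K] (ϖ : R) (hϖ : Irreducible ϖ)
    (e : ℕ) (he : 1 ≤ e) :
    ∃ (L : Type u) (_ : Field L) (_ : Algebra K L), FiniteDimensional K L ∧
      Module.finrank K L = e ∧ ∃ t : L, t ^ e = algebraMap K L (algebraMap R K ϖ) := by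
  set f : R[X] := X ^ e - C ϖ with hf
  have he0 : e ≠ 0 := by omega
  have hmonic : f.Monic := monic_X_pow_sub_C ϖ he0
  have hdeg : f.natDegree = e := natDegree_X_pow_sub_C
  have hmax : IsLocalRing.maximalIdeal R = Ideal.span {ϖ} := hϖ.maximalIdeal_eq
  have hirr : Irreducible f := by
    refine irreducible_of_eisenstein_criterion (P := IsLocalRing.maximalIdeal R)
      (Ideal.IsMaximal.isPrime' _) ?_ ?_ ?_ ?_ hmonic.isPrimitive
    · rw [hmonic.leadingCoeff]
      exact fun h => (Ideal.ne_top_iff_one _).mp (IsLocalRing.maximalIdeal.isMaximal R).ne_top h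
    · intro n hn
      rw [degree_eq_natDegree hmonic.ne_zero, hdeg] at hn
      have hn' : n < e := by exact_mod_cast hn
      rw [hf, coeff_sub, coeff_X_pow, if_neg hn'.ne, zero_sub, coeff_C]
      split_ifs
      · rw [hmax]
        exact (Ideal.neg_mem_iff _).mpr (Ideal.mem_span_singleton_self ϖ)
      · simp
    · rw [degree_eq_natDegree hmonic.ne_zero, hdeg]
      exact_mod_cast Nat.pos_of_ne_zero he0
    · rw [hf, coeff_sub, coeff_X_pow, if_neg (Ne.symm he0), zero_sub, coeff_C_zero, hmax,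
        Ideal.span_singleton_pow, Ideal.neg_mem_iff, Ideal.mem_span_singleton]
      intro hdvd
      obtain ⟨c, hc⟩ := hdvd
      have h1 : ϖ * 1 = ϖ * (ϖ * c) := by rw [mul_one]; rw [← mul_assoc, ← sq]; exact hc
      have h2 : 1 = ϖ * c := mul_left_cancel₀ hϖ.ne_zero h1
      exact hϖ.not_isUnit (IsUnit.of_mul_eq_one c h2.symm)
  have hirrK : Irreducible (f.map (algebraMap R K)) :=
    (hmonic.irreducible_iff_irreducible_map_fraction_map (K := K)).mp hirr
  have : Fact (Irreducible (f.map (algebraMap R K))) := ⟨hirrK⟩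
  have hne : f.map (algebraMap R K) ≠ 0 := hirrK.ne_zero
  refine ⟨AdjoinRoot (f.map (algebraMap R K)), inferInstance, inferInstance, ?_, ?_, ?_⟩
  · exact (AdjoinRoot.powerBasis hne).finite
  · rw [(AdjoinRoot.powerBasis hne).finrank, AdjoinRoot.powerBasis_dim,
      hmonic.natDegree_map, hdeg]
  · refine ⟨AdjoinRoot.root _, ?_⟩
    have key : ∀ (g : K[X]) (c : K), g = X ^ e - C c →
        (AdjoinRoot.root g) ^ e = AdjoinRoot.of g c := by
      intro g c hg
      subst hg
      have hroot := AdjoinRoot.eval₂_root (X ^ e - C c : K[X])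
      rw [eval₂_sub, eval₂_X_pow, eval₂_C, sub_eq_zero] at hroot
      exact hroot
    have hg : f.map (algebraMap R K) = X ^ e - C (algebraMap R K ϖ) := by simp [hf]
    rw [key _ _ hg, AdjoinRoot.algebraMap_eq]

end Groth.Agent.Lib.Seat86.TwistDiag
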