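import Mathlib
import Groth.Agent.Lib.Seat86TwistDiagA

/-!
# Twisted diagonal hypersurfaces over the fraction field of a DVR: the separable case

`dvd_of_separable`: let `R` be a DVR with fraction field `K` and uniformizer `ϖ`, `M / K` a finite
separable extension and `y ≠ 0` a solution in `M` of `y₀^d = ∑_{i=1}^N ϖ^{iD} y_i^d`. Then `I(d, N)`
divides `D * [M : K]`.
-/

set_option linter.style.haveILetI false

universe u

namespace Groth.Agent.Lib.Seat86.TwistDiag

open WithZero

/-- Arithmetic in `ℤᵐ⁰`. -/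
theorem dvd_of_exp_eq (e D d i j : ℕ) (hij : i < j) (u v : ℤᵐ⁰) (hu : u ≠ 0) (hv : v ≠ 0)
    (h : exp (-(e : ℤ)) ^ (i * D) * u ^ d = exp (-(e : ℤ)) ^ (j * D) * v ^ d) :
    d ∣ (j - i) * (D * e) := by
  have h1 := congrArg WithZero.log h
  rw [log_mul (pow_ne_zero _ exp_ne_zero) (pow_ne_zero _ hu),
    log_mul (pow_ne_zero _ exp_ne_zero) (pow_ne_zero _ hv), log_pow, log_pow, log_pow, log_pow,
    log_exp] at h1
  simp only [nsmul_eq_mul, Nat.cast_mul] at h1
  have h2 : (d : ℤ) * (log v - log u) = (((j - i : ℕ) : ℤ)) * ((D : ℤ) * (e : ℤ)) := by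
    rw [Nat.cast_sub hij.le]
    linear_combination -h1
  have h3 : (d : ℤ) ∣ (((j - i) * (D * e) : ℕ) : ℤ) := by
    push_cast
    rw [Nat.cast_sub hij.le] at h2 ⊢
    exact ⟨_, h2.symm⟩
  exact Int.natCast_dvd_natCast.mp h3

open IsDedekindDomain in
/-- The separable case. -/
theorem dvd_of_separable (R : Type u) [CommRing R] [IsDomain R] [IsDiscreteValuationRing R]
    (K : Type u) [Field K] [Algebra R K] [IsFractionRing R K] (ϖ : R) (hϖ : Irreducible ϖ)
    (d N : ℕ) (hd : 1 ≤ d) (M : Type*) [Field M] [Algebra K M] [FiniteDimensional K M]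
    [Algebra.IsSeparable K M] (D : ℕ) (y : Fin (N + 1) → M) (hy : y ≠ 0)
    (heq : y 0 ^ d = ∑ i : Fin N,
      algebraMap K M (algebraMap R K (ϖ ^ (((i : ℕ) + 1) * D))) * y i.succ ^ d) :
    ((Finset.Icc 1 N).filter (fun δ => δ ∣ d)).gcd (fun δ => d / δ) ∣ D * Module.finrank K M := by
  letI : Algebra R M := ((algebraMap K M).comp (algebraMap R K)).toAlgebra
  haveI : IsScalarTower R K M := IsScalarTower.of_algebraMap_eq (fun _ => rfl)
  let S := integralClosure R M
  haveI : IsFractionRing S M := integralClosure.isFractionRing_of_finite_extension K M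
  haveI : IsDedekindDomain S := integralClosure.isDedekindDomain R K M
  haveI : Module.Finite R S := IsIntegralClosure.finite R K M S
  haveI : FaithfulSMul R M := (faithfulSMul_iff_algebraMap_injective R M).mpr (by
    rw [IsScalarTower.algebraMap_eq R K M]
    exact (algebraMap K M).injective.comp (IsFractionRing.injective R K))
  haveI : Module.IsTorsionFree R S := IsIntegralClosure.isTorsionFree (A := S) (R := R) (B := M)
  set p := IsLocalRing.maximalIdeal R with hp
  have hp0 : p ≠ ⊥ := IsDiscreteValuationRing.not_a_field R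
  rw [← Ideal.sum_ramification_inertia S K M hp0, Finset.mul_sum]
  refine Finset.dvd_sum (fun P hP => ?_)
  rw [← mul_assoc]
  refine Dvd.dvd.mul_right ?_ _
  have hP' := (IsDedekindDomain.mem_primesOverFinset_iff hp0 S).mp hP
  haveI : P.IsPrime := hP'.1
  haveI : P.LiesOver p := hP'.2
  have hP0 : P ≠ ⊥ := Ideal.ne_bot_of_liesOver_of_ne_bot hp0 P
  let v : HeightOneSpectrum R := ⟨p, inferInstance, hp0⟩
  let w : HeightOneSpectrum S := ⟨P, inferInstance, hP0⟩
  haveI : w.asIdeal.LiesOver v.asIdeal := hP'.2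
  set e := Ideal.ramificationIdx' p P with he
  -- the valuation of the uniformizer
  have hvϖ : v.valuation K (algebraMap R K ϖ) = exp (-(1 : ℤ)) := by
    rw [HeightOneSpectrum.valuation_of_algebraMap]
    exact HeightOneSpectrum.intValuation_singleton v hϖ.ne_zero hϖ.maximalIdeal_eq
  have hwϖ : w.valuation M (algebraMap K M (algebraMap R K ϖ)) = exp (-(e : ℤ)) := by
    rw [← HeightOneSpectrum.valuation_liesOver M v w, hvϖ, ← exp_nsmul]
    congr 1
    simp [he, v, w]
  set W := w.valuation M with hW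
  set c : M := algebraMap K M (algebraMap R K ϖ) with hc
  -- the terms of the equation
  let a : Fin (N + 1) → M := Fin.cons (y 0 ^ d)
    (fun i : Fin N => -(algebraMap K M (algebraMap R K (ϖ ^ (((i : ℕ) + 1) * D))) * y i.succ ^ d))
  have hsum : ∑ i, a i = 0 := by
    rw [Fin.sum_univ_succ]
    simp only [a, Fin.cons_zero, Fin.cons_succ, Finset.sum_neg_distrib]
    rw [heq, add_neg_cancel]
  have hWa : ∀ i : Fin (N + 1), W (a i) = exp (-(e : ℤ)) ^ ((i : ℕ) * D) * W (y i) ^ d := by
    intro i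
    refine Fin.cases ?_ (fun i => ?_) i
    · simp [a]
    · simp only [a, Fin.cons_succ, Valuation.map_neg, map_mul, map_pow, Fin.val_succ]
      rw [← hc, hwϖ]
  have hne : ∃ i ∈ Finset.univ, a i ≠ 0 := by
    obtain ⟨i, hi⟩ := Function.ne_iff.mp hy
    refine ⟨i, Finset.mem_univ _, ?_⟩
    intro h0
    have h1 := hWa i
    rw [h0, map_zero] at h1
    have h2 : W (y i) ≠ 0 := (Valuation.ne_zero_iff _).mpr hi
    exact (mul_ne_zero (pow_ne_zero _ exp_ne_zero) (pow_ne_zero _ h2)) h1.symm
  obtain ⟨i, -, j, -, hij, hWij, hWj⟩ := exists_ne_valuation_eq W Finset.univ a hsum hne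
  -- symmetric treatment
  have key : ∀ i j : Fin (N + 1), (i : ℕ) < (j : ℕ) → W (a i) = W (a j) → W (a j) ≠ 0 →
      ((Finset.Icc 1 N).filter (fun δ => δ ∣ d)).gcd (fun δ => d / δ) ∣ D * e := by
    intro i j hlt hWij hWj
    have hWi : W (a i) ≠ 0 := hWij ▸ hWj
    rw [hWa i] at hWi
    rw [hWa j] at hWj
    rw [hWa i, hWa j] at hWij
    have hui : W (y i) ≠ 0 := fun h => hWi (by rw [h, zero_pow (by omega), mul_zero])
    have huj : W (y j) ≠ 0 := fun h => hWj (by rw [h, zero_pow (by omega), mul_zero])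
    have hdvd := dvd_of_exp_eq e D d i j hlt _ _ hui huj hWij
    exact gcd_dvd_of_dvd_mul hd ((j : ℕ) - (i : ℕ)) (by omega) (by have := j.2; omega) _ hdvd
  rcases lt_or_gt_of_ne (fun h => hij (Fin.ext h)) with hlt | hlt
  · exact key i j hlt hWij hWj
  · exact key j i hlt hWij.symm (hWij ▸ hWj)

end Groth.Agent.Lib.Seat86.TwistDiag
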