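import Mathlib
import Groth.Agent.Lib.Seat86TwistDiagA
import Groth.Agent.Lib.Seat86TwistDiagB

/-!
# The index of a twisted diagonal hypersurface over the fraction field of a DVR

`main`: for a DVR `R` with fraction field `K` and uniformizer `ϖ`, the subgroup of `ℤ` generated by
the degrees `[L : K]` of the finite extensions over which `x₀^d = ∑_{i=1}^N ϖ^i x_i^d` has a non-zero
solution is generated by `I(d, N)`, the gcd of the quotients `d / δ`, `δ ∣ d`, `1 ≤ δ ≤ N`.
-/

set_option linter.style.haveILetI false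

universe u

namespace Groth.Agent.Lib.Seat86.TwistDiag

open Polynomial

/-- In a finite purely inseparable extension `E / F`, the `[E : F]`-th power of every element lies
in `F`. -/
theorem pow_finrank_mem_range (F E : Type*) [Field F] [Field E] [Algebra F E]
    [FiniteDimensional F E] [IsPurelyInseparable F E] (z : E) :
    ∃ y : F, z ^ (Module.finrank F E) = algebraMap F E y := by
  obtain ⟨q, hq⟩ := ExpChar.exists F
  obtain ⟨n, y, hmin⟩ := IsPurelyInseparable.minpoly_eq_X_pow_sub_C F q z
  have hz : IsIntegral F z := Algebra.IsIntegral.isIntegral z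
  have hdvd := minpoly.degree_dvd hz
  have hnat : (minpoly F z).natDegree = q ^ n := by rw [hmin]; exact natDegree_X_pow_sub_C
  have hroot : z ^ (q ^ n) = algebraMap F E y := by
    have := minpoly.aeval F z
    rw [hmin] at this
    simpa [sub_eq_zero] using this
  obtain ⟨c, hc⟩ := hdvd
  refine ⟨y ^ c, ?_⟩
  rw [hc, hnat, pow_mul, hroot, map_pow]

/-- If the twisted diagonal equation has a non-zero solution in a finite extension `L / K`, then
`I(d, N)` divides `[L : K]`. -/
theorem dvd_finrank (R : Type u) [CommRing R] [IsDomain R] [IsDiscreteValuationRing R]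
    (K : Type u) [Field K] [Algebra R K] [IsFractionRing R K] (ϖ : R) (hϖ : Irreducible ϖ)
    (d N : ℕ) (hd : 1 ≤ d) (L : Type u) [Field L] [Algebra K L] [FiniteDimensional K L]
    (x : Fin (N + 1) → L) (hx : x ≠ 0)
    (heq : x 0 ^ d = ∑ i : Fin N,
      algebraMap K L (algebraMap R K (ϖ ^ ((i : ℕ) + 1))) * x i.succ ^ d) :
    ((Finset.Icc 1 N).filter (fun δ => δ ∣ d)).gcd (fun δ => d / δ) ∣ Module.finrank K L := by
  let Ls := separableClosure K L
  haveI : IsPurelyInseparable Ls L := separableClosure.isPurelyInseparable K L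
  set D := Module.finrank Ls L with hD
  have hchoose : ∀ i, ∃ y : Ls, x i ^ D = algebraMap Ls L y :=
    fun i => pow_finrank_mem_range Ls L (x i)
  choose y hy using hchoose
  obtain ⟨q, hq⟩ := ExpChar.exists K
  haveI : ExpChar L q := expChar_of_injective_algebraMap (algebraMap K L).injective q
  haveI : ExpChar Ls q := expChar_of_injective_algebraMap (algebraMap K Ls).injective q
  obtain ⟨k, hk⟩ := IsPurelyInseparable.finrank_eq_pow (F := Ls) L q
  have hy0 : y ≠ 0 := by
    obtain ⟨i, hi⟩ := Function.ne_iff.mp hx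
    intro h
    apply hi
    have h1 := hy i
    rw [h] at h1
    simp only [Pi.zero_apply, map_zero] at h1
    exact pow_eq_zero_iff (by rw [hD, hk]; exact (expChar_pow_pos L q k).ne') |>.mp h1
  have heq' : y 0 ^ d = ∑ i : Fin N,
      algebraMap K Ls (algebraMap R K (ϖ ^ (((i : ℕ) + 1) * D))) * y i.succ ^ d := by
    apply (algebraMap Ls L).injective
    rw [map_pow, ← hy 0, map_sum, ← pow_mul, mul_comm, pow_mul, heq]
    have hk' : D = q ^ k := hk
    rw [hk', sum_pow_char_pow]
    refine Finset.sum_congr rfl (fun i _ => ?_)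
    rw [← hk', map_mul, map_pow (algebraMap Ls L) (y i.succ) d, ← hy i.succ,
      ← IsScalarTower.algebraMap_apply K Ls L]
    have e1 : (algebraMap K L (algebraMap R K (ϖ ^ ((i : ℕ) + 1)))) ^ D =
        algebraMap K L (algebraMap R K (ϖ ^ (((i : ℕ) + 1) * D))) := by
      rw [← map_pow, ← map_pow, ← pow_mul]
    have e2 : (x i.succ ^ d) ^ D = (x i.succ ^ D) ^ d := by
      rw [← pow_mul, ← pow_mul, mul_comm]
    rw [mul_pow, e1, e2]
  have hdvd := dvd_of_separable R K ϖ hϖ d N hd Ls D y hy0 heq'
  rwa [hD, mul_comm, Module.finrank_mul_finrank K Ls L] at hdvd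

/-- The gcd of a finite family of natural numbers lies in any subgroup of `ℤ` containing them. -/
theorem natCast_gcd_mem (H : AddSubgroup ℤ) {ι : Type*} (s : Finset ι) (f : ι → ℕ)
    (h : ∀ i ∈ s, (f i : ℤ) ∈ H) : ((s.gcd f : ℕ) : ℤ) ∈ H := by
  obtain ⟨a, ha⟩ := Int.subgroup_cyclic H
  rw [ha, ← AddSubgroup.zmultiples_eq_closure] at h ⊢
  simp only [Int.mem_zmultiples_iff] at h ⊢
  have h1 : a.natAbs ∣ s.gcd f := Finset.dvd_gcd (fun i hi => Int.natAbs_dvd_natAbs.mpr (h i hi) |>.trans (by simp))
  exact Int.natAbs_dvd.mp (Int.natCast_dvd_natCast.mpr h1)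

/-- The index of the twisted diagonal hypersurface `x₀^d = ∑ ϖ^i x_i^d`. -/
theorem main (R : Type u) [CommRing R] [IsDomain R]
    [IsDiscreteValuationRing R] (K : Type u) [Field K] [Algebra R K] [IsFractionRing R K]
    (ϖ : R) (hϖ : Irreducible ϖ) (d N : ℕ) (hd : 1 ≤ d) (hN : 1 ≤ N) :
    AddSubgroup.closure {m : ℤ | ∃ (L : Type u) (_ : Field L) (_ : Algebra K L),
        FiniteDimensional K L ∧ m = (Module.finrank K L : ℤ) ∧
        ∃ x : Fin (N + 1) → L, x ≠ 0 ∧
          x 0 ^ d = ∑ i : Fin N, algebraMap K L (algebraMap R K (ϖ ^ ((i : ℕ) + 1))) * x i.succ ^ d} =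
      AddSubgroup.zmultiples ((((Finset.Icc 1 N).filter (fun δ => δ ∣ d)).gcd (fun δ => d / δ) : ℕ) : ℤ) := by
  apply le_antisymm
  · rw [AddSubgroup.closure_le]
    rintro m ⟨L, _, _, hfin, rfl, x, hx, heq⟩
    exact Int.mem_zmultiples_iff.mpr
      (Int.natCast_dvd_natCast.mpr (dvd_finrank R K ϖ hϖ d N hd L x hx heq))
  · apply AddSubgroup.zmultiples_le_of_mem
    apply natCast_gcd_mem
    intro δ hδ
    simp only [Finset.mem_filter, Finset.mem_Icc] at hδ
    obtain ⟨⟨hδ1, hδN⟩, hδd⟩ := hδ
    have he : 1 ≤ d / δ := Nat.div_pos (Nat.le_of_dvd (by omega) hδd) (by omega)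
    obtain ⟨L, _, _, hfin, hrank, t, ht⟩ := exists_field_root R K ϖ hϖ (d / δ) he
    apply AddSubgroup.subset_closure
    refine ⟨L, inferInstance, inferInstance, hfin, by rw [hrank], ?_⟩
    refine ⟨fun i => if i = 0 then t else if (i : ℕ) = δ then 1 else 0, ?_, ?_⟩
    · intro h
      have h1 := congrFun h ⟨δ, by omega⟩
      have h2 : (⟨δ, by omega⟩ : Fin (N + 1)) ≠ 0 := by
        intro h3
        have := congrArg Fin.val h3
        simp at this
        omega
      simp [h2] at h1
    · simp only [if_true, Fin.succ_ne_zero, if_false, Fin.val_succ]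
      rw [Finset.sum_eq_single (⟨δ - 1, by omega⟩ : Fin N)]
      · have h1 : δ - 1 + 1 = δ := by omega
        simp only [h1, if_true, one_pow, mul_one]
        rw [map_pow, map_pow, ← ht, ← pow_mul, Nat.div_mul_cancel hδd]
      · intro i _ hi
        have h1 : ¬ ((i : ℕ) + 1 = δ) := by
          intro h2
          apply hi
          apply Fin.ext
          simp
          omega
        simp [h1]
        omega
      · intro h
        exact absurd (Finset.mem_univ _) h

end Groth.Agent.Lib.Seat86.TwistDiag
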