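import Groth.Prelude.Def_AlgGrp
import Mathlib
import Groth.Agent.S18069

/-!
# Anti-affine groups and extensions (engine for S18070)

* `appTop_injective_of_epi`: an epimorphism of schemes is injective on global sections
  (morphisms to the affine line).
* `antiAff_quotient`: anti-affineness passes to flat surjective quotients.
* `antiAff_extension`: an extension of anti-affine groups of finite type is anti-affine
  (Künneth for `G₁ × G`, then fpqc descent of `G → Spec Γ(G)` along the effective epimorphism `q`).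
-/

set_option autoImplicit false
universe u
open CategoryTheory MonoidalCategory CartesianMonoidalCategory MonObj GrpObj AlgebraicGeometry CategoryTheory.Limits

namespace Groth.Agent.Lib.Seat87.AntiAffExt

variable {k : Type u} [Field k]

/-- The ring map `ℤ[X] → A`, `X ↦ s`, from the lifted polynomial ring. -/
noncomputable def chi {A : CommRingCat.{u}} (s : A) :
    CommRingCat.of (ULift.{u} (Polynomial ℤ)) ⟶ A :=
  CommRingCat.ofHom ((Polynomial.eval₂RingHom (Int.castRingHom A) s).comp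
    (ULift.ringEquiv : ULift.{u} (Polynomial ℤ) ≃+* Polynomial ℤ).toRingHom)

theorem chi_X {A : CommRingCat.{u}} (s : A) : (chi s).hom (ULift.up Polynomial.X) = s := by
  show Polynomial.eval₂ (Int.castRingHom A) s Polynomial.X = s
  rw [Polynomial.eval₂_X]

theorem chi_comp {A B : CommRingCat.{u}} (s : A) (φ : A ⟶ B) : chi s ≫ φ = chi (φ.hom s) := by
  ext x
  obtain ⟨p⟩ := x
  show φ.hom (Polynomial.eval₂ _ s p) = Polynomial.eval₂ _ (φ.hom s) p
  rw [Polynomial.hom_eval₂]
  congr 1
  exact RingHom.ext_int _ _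

/-- The morphism to the affine line given by a global section. -/
noncomputable def toLine (Y : Scheme.{u}) (s : Γ(Y, ⊤)) :
    Y ⟶ Spec (CommRingCat.of (ULift.{u} (Polynomial ℤ))) :=
  Y.toSpecΓ ≫ Spec.map (chi s)

theorem toLine_comp {X Y : Scheme.{u}} (q : X ⟶ Y) (s : Γ(Y, ⊤)) :
    q ≫ toLine Y s = toLine X (q.appTop.hom s) := by
  rw [toLine, toLine, ← chi_comp, Spec.map_comp, Scheme.toSpecΓ_naturality_assoc]

theorem toLine_injective (Y : Scheme.{u}) : Function.Injective (toLine Y) := by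
  intro s s' h
  have h1 : ∀ t : Γ(Y, ⊤), (Scheme.ΓSpecIso _).inv ≫ (toLine Y t).appTop = chi t := by
    intro t
    rw [toLine, Scheme.Hom.comp_appTop, Scheme.toSpecΓ_appTop,
      ← Scheme.ΓSpecIso_inv_naturality_assoc, Iso.inv_hom_id, Category.comp_id]
  have h2 : chi s = chi s' := by rw [← h1 s, ← h1 s', h]
  rw [← chi_X s, ← chi_X s', h2]

/-- An epimorphism of schemes is injective on global sections. -/
theorem appTop_injective_of_epi {X Y : Scheme.{u}} (q : X ⟶ Y) [Epi q] :
    Function.Injective q.appTop.hom := by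
  intro s s' h
  apply toLine_injective Y
  rw [← cancel_epi q, toLine_comp, toLine_comp, h]

/-- ring-level bookkeeping -/
theorem bijective_of_comp_of_injective {A B C : CommRingCat.{u}} (a : A ⟶ B) (b : B ⟶ C)
    (hab : Function.Bijective (a ≫ b).hom) (hb : Function.Injective b.hom) :
    Function.Bijective a.hom := by
  refine ⟨?_, ?_⟩
  · intro x y hxy
    apply hab.1
    rw [CommRingCat.comp_apply, CommRingCat.comp_apply, hxy]
  · intro y
    obtain ⟨c, hc⟩ := hab.2 (b.hom y)
    exact ⟨c, hb (by rw [← hc, CommRingCat.comp_apply])⟩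

/-- Part (a): anti-affineness passes to a flat surjective quotient. -/
theorem antiAff_quotient (G G₂ : Over (Spec (CommRingCat.of k))) (q : G ⟶ G₂)
    [Surjective q.left] [Flat q.left]
    (hG : Function.Bijective ((Scheme.ΓSpecIso (CommRingCat.of k)).inv ≫ G.hom.appTop).hom) :
    Function.Bijective ((Scheme.ΓSpecIso (CommRingCat.of k)).inv ≫ G₂.hom.appTop).hom := by
  have hepi : Epi q.left := Flat.epi_of_flat_of_surjective q.left
  apply bijective_of_comp_of_injective _ q.left.appTop _ (appTop_injective_of_epi q.left)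
  rw [Category.assoc, ← Scheme.Hom.comp_appTop, Over.w]
  exact hG

/-- Part (b): an extension of anti-affine groups is anti-affine. -/
theorem antiAff_extension (G₁ G G₂ : Over (Spec (CommRingCat.of k))) [GrpObj G₁]
    [LocallyOfFiniteType G₁.hom] [QuasiCompact G₁.hom]
    [GrpObj G] [LocallyOfFiniteType G.hom] [QuasiCompact G.hom]
    [GrpObj G₂] [LocallyOfFiniteType G₂.hom] [QuasiCompact G₂.hom]
    (i : G₁ ⟶ G) [IsMonHom i] (q : G ⟶ G₂) [IsMonHom q] [Surjective q.left] [Flat q.left]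
    (hex : AlgGrp.IsKernel i q)
    (h1 : Function.Bijective ((Scheme.ΓSpecIso (CommRingCat.of k)).inv ≫ G₁.hom.appTop).hom)
    (h2 : Function.Bijective ((Scheme.ΓSpecIso (CommRingCat.of k)).inv ≫ G₂.hom.appTop).hom) :
    Function.Bijective ((Scheme.ΓSpecIso (CommRingCat.of k)).inv ≫ G.hom.appTop).hom := by
  have hn1 : IsLocallyNoetherian G₁.left := LocallyOfFiniteType.isLocallyNoetherian G₁.hom
  have hn : IsLocallyNoetherian G.left := LocallyOfFiniteType.isLocallyNoetherian G.hom
  have hn2 : IsLocallyNoetherian G₂.left := LocallyOfFiniteType.isLocallyNoetherian G₂.hom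
  -- the section `x ↦ (e, x)` and the action map `(h, x) ↦ i(h) x`
  let σ : G ⟶ G₁ ⊗ G := lift (toUnit G ≫ η[G₁]) (𝟙 G)
  let α : G₁ ⊗ G ⟶ G := (fst G₁ G ≫ i) * snd G₁ G
  have hσsnd : σ ≫ snd G₁ G = 𝟙 G := lift_snd _ _
  have hσα : σ ≫ α = 𝟙 G := by
    show σ ≫ ((fst G₁ G ≫ i) * snd G₁ G) = 𝟙 G
    rw [MonObj.comp_mul, hσsnd, ← Category.assoc, lift_fst, Category.assoc,
      IsMonHom.one_hom, ← Hom.one_def, _root_.one_mul]
  have hsnd : Function.Bijective (snd G₁ G).left.appTop.hom :=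
    Groth.Agent.S18069.appTop_snd_bijective' G₁ G h1
  have e1 : (snd G₁ G).left.appTop ≫ σ.left.appTop = 𝟙 _ := by
    rw [← Scheme.Hom.comp_appTop, ← Over.comp_left, hσsnd]; rfl
  have e2 : α.left.appTop ≫ σ.left.appTop = 𝟙 _ := by
    rw [← Scheme.Hom.comp_appTop, ← Over.comp_left, hσα]; rfl
  have hσinj : Function.Injective σ.left.appTop.hom := by
    intro x y hxy
    obtain ⟨x', rfl⟩ := hsnd.2 x
    obtain ⟨y', rfl⟩ := hsnd.2 y
    have hx := congrArg (fun f => f.hom x') e1
    have hy := congrArg (fun f => f.hom y') e1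
    simp only [CommRingCat.comp_apply, CommRingCat.id_apply] at hx hy
    rw [← hx, ← hy, hxy]
  have hα : α.left.appTop = (snd G₁ G).left.appTop := by
    ext f
    apply hσinj
    have hx := congrArg (fun g => g.hom f) e1
    have hy := congrArg (fun g => g.hom f) e2
    simp only [CommRingCat.comp_apply, CommRingCat.id_apply] at hx hy
    rw [hx, hy]
  have hαφ : α.left ≫ G.left.toSpecΓ = (snd G₁ G).left ≫ G.left.toSpecΓ := by
    apply ext_of_isAffine
    rw [Scheme.Hom.comp_appTop, Scheme.Hom.comp_appTop, hα]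
  -- descent along `q`
  have hqc : QuasiCompact q.left := by
    have : QuasiCompact (q.left ≫ G₂.hom) := by rw [Over.w]; infer_instance
    exact QuasiCompact.of_comp q.left G₂.hom
  have hdesc : ∀ {Z : Scheme.{u}} (g₁ g₂ : Z ⟶ G.left), g₁ ≫ q.left = g₂ ≫ q.left →
      g₁ ≫ G.left.toSpecΓ = g₂ ≫ G.left.toSpecΓ := by
    intro Z g₁ g₂ hg
    let Z' : Over (Spec (CommRingCat.of k)) := Over.mk (g₂ ≫ G.hom)
    let p₂ : Z' ⟶ G := Over.homMk g₂ rfl
    let p₁ : Z' ⟶ G := Over.homMk g₁ (by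
      show g₁ ≫ G.hom = g₂ ≫ G.hom
      rw [← Over.w q, reassoc_of% hg])
    have hp : p₁ ≫ q = p₂ ≫ q := by
      ext1
      exact hg
    have hd : (p₁ * p₂⁻¹) ≫ q = toUnit Z' ≫ η[G₂] := by
      rw [MonObj.mul_comp, GrpObj.inv_comp, hp, mul_inv_cancel, Hom.one_def]
    let h : Z' ⟶ G₁ := hex.lift (p₁ * p₂⁻¹) (toUnit Z') hd
    have hh : h ≫ i = p₁ * p₂⁻¹ := hex.lift_fst _ _ _
    have hp₁ : lift h p₂ ≫ α = p₁ := by
      show lift h p₂ ≫ ((fst G₁ G ≫ i) * snd G₁ G) = p₁
      rw [MonObj.comp_mul, lift_snd, ← Category.assoc, lift_fst, hh, inv_mul_cancel_right]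
    have hp₂ : lift h p₂ ≫ snd G₁ G = p₂ := lift_snd _ _
    have e3 : g₁ = (lift h p₂).left ≫ α.left := by
      rw [← Over.comp_left, hp₁]; rfl
    have e4 : g₂ = (lift h p₂).left ≫ (snd G₁ G).left := by
      rw [← Over.comp_left, hp₂]; rfl
    rw [e3, Category.assoc, hαφ, ← Category.assoc, ← e4]
  have heff : EffectiveEpi q.left := inferInstance
  let φ₂ : G₂.left ⟶ Spec Γ(G.left, ⊤) := EffectiveEpi.desc q.left G.left.toSpecΓ hdesc
  have hφ₂ : q.left ≫ φ₂ = G.left.toSpecΓ := EffectiveEpi.fac q.left G.left.toSpecΓ hdesc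
  have hqsurj : Function.Surjective q.left.appTop.hom := by
    intro y
    have h3 := congrArg (fun m => m.appTop) hφ₂
    simp only [Scheme.Hom.comp_appTop, Scheme.toSpecΓ_appTop] at h3
    refine ⟨φ₂.appTop.hom ((Scheme.ΓSpecIso Γ(G.left, ⊤)).inv.hom y), ?_⟩
    have h4 := congrArg (fun m => m.hom ((Scheme.ΓSpecIso Γ(G.left, ⊤)).inv.hom y)) h3
    simp only [CommRingCat.comp_apply] at h4
    rw [h4, ← CommRingCat.comp_apply, Iso.inv_hom_id]
    rfl
  -- conclusion
  have hcomp : (Scheme.ΓSpecIso (CommRingCat.of k)).inv ≫ G.hom.appTop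
      = ((Scheme.ΓSpecIso (CommRingCat.of k)).inv ≫ G₂.hom.appTop) ≫ q.left.appTop := by
    rw [Category.assoc, ← Scheme.Hom.comp_appTop, Over.w]
  refine ⟨?_, ?_⟩
  · have hne0 : Nonempty ↥(Spec (CommRingCat.of k)) := inferInstance
    obtain ⟨x0⟩ := hne0
    have : Nontrivial Γ(G.left, ⊤) :=
      @Scheme.component_nontrivial G.left ⊤ ⟨⟨η[G].left.base x0, trivial⟩⟩
    exact RingHom.injective
      (((Scheme.ΓSpecIso (CommRingCat.of k)).inv ≫ G.hom.appTop).hom : k →+* Γ(G.left, ⊤))
  · rw [hcomp, CommRingCat.hom_comp, RingHom.coe_comp]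
    exact hqsurj.comp h2.2

end Groth.Agent.Lib.Seat87.AntiAffExt
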