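import Mathlib

/-!
# Artinian local subrings cut out by a subfield of the residue field (helper87)

Let `C` be a local Artinian ring, `r : C →+* L` a surjection onto a field and `K₀ ⊆ L` a subfield over
which `L` is finite.  Then `C₀ = r⁻¹(K₀)` is a local Artinian ring and `C₀ ⊆ C` is a local homomorphism.
-/

set_option autoImplicit false

namespace Groth.Agent.Lib.Seat87.ArtinSub

universe u v

variable {C : Type u} [CommRing C] {L : Type v} [Field L]

/-- The subring `r⁻¹(K₀)` of `C`. -/
def sub (r : C →+* L) (K₀ : Subfield L) : Subring C := K₀.toSubring.comap r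

theorem mem_sub {r : C →+* L} {K₀ : Subfield L} {x : C} : x ∈ sub r K₀ ↔ r x ∈ K₀ := Iff.rfl

variable [IsLocalRing C] (r : C →+* L) (hr : Function.Surjective r) (K₀ : Subfield L)

include hr in
theorem ker_eq : RingHom.ker r = IsLocalRing.maximalIdeal C :=
  IsLocalRing.eq_maximalIdeal (RingHom.ker_isMaximal_of_surjective r hr)

include hr in
theorem map_eq_zero_iff (x : C) : r x = 0 ↔ x ∈ IsLocalRing.maximalIdeal C := by
  rw [← ker_eq r hr, RingHom.mem_ker]

include hr in
theorem maximalIdeal_le (x : C) (hx : x ∈ IsLocalRing.maximalIdeal C) : x ∈ sub r K₀ := by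
  rw [mem_sub, (map_eq_zero_iff r hr x).mpr hx]
  exact K₀.zero_mem

omit [IsLocalRing C] in
theorem isUnit_iff (a : sub r K₀) : IsUnit a ↔ IsUnit (a : C) := by
  constructor
  · intro h
    exact h.map (sub r K₀).subtype
  · intro h
    obtain ⟨c, hc⟩ := h.exists_right_inv
    have hrc : r c = (r a)⁻¹ := by
      have : r a * r c = 1 := by rw [← map_mul, hc, map_one]
      exact eq_inv_of_mul_eq_one_right this
    have hcmem : c ∈ sub r K₀ := by
      rw [mem_sub, hrc]
      exact K₀.inv_mem a.2
    exact IsUnit.of_mul_eq_one (⟨c, hcmem⟩ : sub r K₀) (Subtype.ext hc)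

theorem isLocalRing_sub : IsLocalRing (sub r K₀) := by
  apply IsLocalRing.of_nonunits_add
  intro a b ha hb
  rw [mem_nonunits_iff, isUnit_iff r K₀] at ha hb ⊢
  have ha' : (a : C) ∈ IsLocalRing.maximalIdeal C := (IsLocalRing.mem_maximalIdeal _).mpr ha
  have hb' : (b : C) ∈ IsLocalRing.maximalIdeal C := (IsLocalRing.mem_maximalIdeal _).mpr hb
  exact (IsLocalRing.mem_maximalIdeal _).mp ((IsLocalRing.maximalIdeal C).add_mem ha' hb')

omit [IsLocalRing C] in
theorem isLocalHom_subtype : IsLocalHom (sub r K₀).subtype :=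
  ⟨fun a ha => (isUnit_iff r K₀ a).mpr ha⟩

include hr in
/-- `C` is a finite module over `r⁻¹(K₀)` when `L` is finite over `K₀`. -/
theorem finite_sub [Module.Finite K₀ L] : Module.Finite (sub r K₀) C := by
  classical
  obtain ⟨s, hs⟩ := (Module.Finite.fg_top : (⊤ : Submodule K₀ L).FG)
  choose lift hlift using hr
  let N : Submodule (sub r K₀) C := Submodule.span (sub r K₀) (insert 1 (lift '' (s : Set L)))
  have h1 : (1 : C) ∈ N := Submodule.subset_span (Set.mem_insert _ _)
  have hm : ∀ z ∈ IsLocalRing.maximalIdeal C, z ∈ N := by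
    intro z hz
    have : z = (⟨z, maximalIdeal_le r (fun l => ⟨lift l, hlift l⟩) K₀ z hz⟩ : sub r K₀) • (1 : C) := by
      rw [Subring.smul_def]; simp
    rw [this]
    exact N.smul_mem _ h1
  have htop : N = ⊤ := by
    rw [eq_top_iff]
    intro x _
    have hx : r x ∈ Submodule.span K₀ (s : Set L) := by rw [hs]; trivial
    rw [Submodule.mem_span_finset] at hx
    obtain ⟨f, -, hf⟩ := hx
    -- lift the coefficients
    have hcoef : ∀ l : L, lift ((f l : K₀) : L) ∈ sub r K₀ := by
      intro l
      rw [mem_sub, hlift]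
      exact (f l).2
    let y : C := ∑ l ∈ s, (⟨lift ((f l : K₀) : L), hcoef l⟩ : sub r K₀) • lift l
    have hy : y ∈ N := by
      apply Submodule.sum_mem
      intro l hl
      apply N.smul_mem
      exact Submodule.subset_span (Set.mem_insert_of_mem _ ⟨l, hl, rfl⟩)
    have hry : r y = r x := by
      rw [← hf]
      simp only [y, map_sum, Subring.smul_def, smul_eq_mul, map_mul, hlift]
      rfl
    have hxy : x - y ∈ IsLocalRing.maximalIdeal C := by
      rw [← map_eq_zero_iff r (fun l => ⟨lift l, hlift l⟩), map_sub, hry, sub_self]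
    have : x = (x - y) + y := by ring
    rw [this]
    exact N.add_mem (hm _ hxy) hy
  refine ⟨?_⟩
  rw [← htop]
  exact Submodule.fg_span (Set.Finite.insert 1 (s.finite_toSet.image lift))

/-- The maximal ideal of `r⁻¹(K₀)` is the preimage of the maximal ideal of `C`. -/
theorem mem_maximalIdeal_sub_iff (a : sub r K₀) :
    haveI := isLocalRing_sub r K₀
    a ∈ IsLocalRing.maximalIdeal (sub r K₀) ↔ (a : C) ∈ IsLocalRing.maximalIdeal C := by
  have := isLocalRing_sub r K₀
  rw [IsLocalRing.mem_maximalIdeal, IsLocalRing.mem_maximalIdeal, mem_nonunits_iff, mem_nonunits_iff,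
    isUnit_iff r K₀]

include hr in
theorem isArtinianRing_sub [IsArtinianRing C] [Module.Finite K₀ L] :
    IsArtinianRing (sub r K₀) := by
  have := isLocalRing_sub r K₀
  have : Module.Finite (sub r K₀) C := finite_sub r hr K₀
  -- the maximal ideal is nilpotent
  have hnil : IsNilpotent (IsLocalRing.maximalIdeal (sub r K₀)) := by
    obtain ⟨n, hn⟩ : IsNilpotent (IsLocalRing.maximalIdeal C) := by
      have := IsArtinianRing.isNilpotent_jacobson_bot (R := C)
      rwa [IsLocalRing.jacobson_eq_maximalIdeal ⊥ bot_ne_top] at this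
    refine ⟨n, ?_⟩
    rw [Ideal.zero_eq_bot, eq_bot_iff]
    have h1 : Ideal.map (sub r K₀).subtype (IsLocalRing.maximalIdeal (sub r K₀) ^ n) ≤
        IsLocalRing.maximalIdeal C ^ n := by
      rw [Ideal.map_pow]
      apply Ideal.pow_right_mono
      rw [Ideal.map_le_iff_le_comap]
      intro a ha
      exact (mem_maximalIdeal_sub_iff r K₀ a).mp ha
    intro a ha
    have : (sub r K₀).subtype a ∈ IsLocalRing.maximalIdeal C ^ n := h1 (Ideal.mem_map_of_mem _ ha)
    rw [hn, Ideal.zero_eq_bot, Ideal.mem_bot] at this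
    rw [Ideal.mem_bot]
    exact Subtype.ext this
  -- the maximal ideal is finitely generated
  have hfg : (IsLocalRing.maximalIdeal (sub r K₀)).FG := by
    have : IsNoetherianRing C := inferInstance
    have : Module.Finite C (IsLocalRing.maximalIdeal C) :=
      Module.Finite.iff_fg.mpr (IsNoetherian.noetherian _)
    have : Module.Finite (sub r K₀) (IsLocalRing.maximalIdeal C) :=
      Module.Finite.trans C _
    let φ : (IsLocalRing.maximalIdeal C) →ₗ[sub r K₀] (IsLocalRing.maximalIdeal (sub r K₀)) :=
      { toFun := fun x => ⟨⟨x.1, maximalIdeal_le r hr K₀ x.1 x.2⟩,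
          (mem_maximalIdeal_sub_iff r K₀ _).mpr x.2⟩
        map_add' := fun x y => rfl
        map_smul' := fun c x => rfl }
    have hφ : Function.Surjective φ := by
      intro a
      exact ⟨⟨a.1.1, (mem_maximalIdeal_sub_iff r K₀ a.1).mp a.2⟩, rfl⟩
    have : Module.Finite (sub r K₀) (IsLocalRing.maximalIdeal (sub r K₀)) :=
      Module.Finite.of_surjective φ hφ
    exact Module.Finite.iff_fg.mp this
  have : IsNoetherianRing (sub r K₀) := by
    apply IsNoetherianRing.of_prime
    intro P hP
    have hP' : P = IsLocalRing.maximalIdeal (sub r K₀) := by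
      apply le_antisymm (IsLocalRing.le_maximalIdeal hP.ne_top)
      obtain ⟨n, hn⟩ := hnil
      intro a ha
      have : a ^ n ∈ P := by
        have h2 : a ^ n ∈ IsLocalRing.maximalIdeal (sub r K₀) ^ n := Ideal.pow_mem_pow ha n
        rw [hn, Ideal.zero_eq_bot, Ideal.mem_bot] at h2
        rw [h2]; exact P.zero_mem
      exact hP.mem_of_pow_mem n this
    rw [hP']; exact hfg
  exact (isArtinianRing_iff_isNilpotent_maximalIdeal _).mpr hnil

end Groth.Agent.Lib.Seat87.ArtinSub
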