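import Mathlib
import Groth.Agent.Lib.Seat87ArtinSub

/-!
# Lifting along surjections of local Artinian rings: from trivial to finite residue field extensions
(helper87)
-/

set_option autoImplicit false
set_option backward.isDefEq.respectTransparency false
set_option backward.isDefEq.respectTransparency.types false

namespace Groth.Agent.Lib.Seat87.ArtinLift

open CategoryTheory AlgebraicGeometry IsLocalRing
open Groth.Agent.Lib.Seat87.ArtinSub

universe u

section affine

variable {T : Scheme.{u}} {C : Type u} [CommRing C] [IsLocalRing C]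

/-- The ring map `Γ(T, V) → C` attached to `a : Spec C ⟶ T` and an open `V` containing the image of the
closed point. -/
noncomputable def toRing (a : Spec (CommRingCat.of C) ⟶ T) (V : T.Opens)
    (hV : a (closedPoint C) ∈ V) : Γ(T, V) ⟶ CommRingCat.of C :=
  a.appLE V ⊤ (Scheme.preimage_eq_top_of_closedPoint_mem a hV).ge ≫
    (Scheme.ΓSpecIso (CommRingCat.of C)).hom

theorem Spec_toRing_fromSpec (a : Spec (CommRingCat.of C) ⟶ T) {V : T.Opens} (hVaff : IsAffineOpen V)
    (hV : a (closedPoint C) ∈ V) : Spec.map (toRing a V hV) ≫ hVaff.fromSpec = a := by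
  have := IsAffineOpen.SpecMap_appLE_fromSpec a hVaff (isAffineOpen_top _)
    (Scheme.preimage_eq_top_of_closedPoint_mem a hV).ge
  rw [IsAffineOpen.fromSpec_top, Scheme.isoSpec_Spec_inv] at this
  rw [toRing, Spec.map_comp, Category.assoc, this, ← Category.assoc, ← Spec.map_comp]
  simp

variable (C) in
/-- The residue map of `C`, with values in the residue field of `Spec C` at the closed point. -/
noncomputable def resMap : C →+* (Spec (CommRingCat.of C)).residueField (closedPoint C) :=
  ((Scheme.ΓSpecIso (CommRingCat.of C)).inv ≫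
    (Spec (CommRingCat.of C)).Γevaluation (closedPoint C)).hom

theorem toRing_resMap (a : Spec (CommRingCat.of C) ⟶ T) (V : T.Opens)
    (hV : a (closedPoint C) ∈ V) :
    toRing a V hV ≫ CommRingCat.ofHom (resMap C) =
      T.evaluation V (a (closedPoint C)) hV ≫ a.residueFieldMap (closedPoint C) := by
  rw [Scheme.evaluation_naturality]
  simp only [resMap, toRing, Scheme.Hom.appLE, CommRingCat.ofHom_hom, Category.assoc,
    Iso.hom_inv_id_assoc, Scheme.evaluation]
  rw [TopCat.Presheaf.germ_res_assoc]

theorem resMap_toRing (a : Spec (CommRingCat.of C) ⟶ T) (V : T.Opens)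
    (hV : a (closedPoint C) ∈ V) (h : Γ(T, V)) :
    resMap C ((toRing a V hV).hom h) =
      (a.residueFieldMap (closedPoint C)).hom ((T.evaluation V (a (closedPoint C)) hV).hom h) := by
  have := congrArg (fun φ => φ.hom h) (toRing_resMap a V hV)
  exact this

variable (C) in
theorem resMap_eq : CommRingCat.ofHom (resMap C) =
    (stalkClosedPointIso (CommRingCat.of C)).inv ≫
      (Spec (CommRingCat.of C)).residue (closedPoint C) := by
  simp only [resMap, CommRingCat.ofHom_hom, Scheme.evaluation]
  rw [← ΓSpecIso_hom_stalkClosedPointIso_inv, Category.assoc, Iso.inv_hom_id_assoc]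

variable (C) in
theorem resMap_surjective : Function.Surjective (resMap C) := by
  have h := resMap_eq C
  have h2 : (resMap C) = ((stalkClosedPointIso (CommRingCat.of C)).inv ≫
      (Spec (CommRingCat.of C)).residue (closedPoint C)).hom := by
    rw [← h]; rfl
  rw [h2, CommRingCat.hom_comp, RingHom.coe_comp]
  apply Function.Surjective.comp
  · exact Scheme.residue_surjective _ _
  · exact (ConcreteCategory.bijective_of_isIso (stalkClosedPointIso (CommRingCat.of C)).inv).2

end affine

section surj

variable {T : Scheme.{u}} {R R₀ : Type u} [CommRing R] [IsLocalRing R] [CommRing R₀] [IsLocalRing R₀]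

theorem evaluation_congr (X : Scheme.{u}) (U : X.Opens) {x y : X} (h : x = y) (hx : x ∈ U) :
    X.evaluation U x hx ≫ (X.residueFieldCongr h).hom = X.evaluation U y (h ▸ hx) := by
  subst h
  simp

/-- Criterion for the residue field map of `a₀ : Spec R₀ ⟶ T` at the closed point to be surjective,
in terms of `Spec R ⟶ Spec R₀ ⟶ T` for a local homomorphism `R₀ → R`. -/
theorem residueFieldMap_surjective_of_comp (ι : R₀ →+* R) [IsLocalHom ι]
    (a₀ : Spec (CommRingCat.of R₀) ⟶ T)
    (H : ∀ c₀ : R₀, ∃ w : T.residueField ((Spec.map (CommRingCat.ofHom ι) ≫ a₀) (closedPoint R)),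
      ((Spec.map (CommRingCat.ofHom ι) ≫ a₀).residueFieldMap (closedPoint R)).hom w =
        resMap R (ι c₀)) :
    Function.Surjective (a₀.residueFieldMap (closedPoint R₀)).hom := by
  set ιc : CommRingCat.of R₀ ⟶ CommRingCat.of R := CommRingCat.ofHom ι with hιc
  have hy : (Spec.map ιc) (closedPoint R) = closedPoint R₀ := Spec_closedPoint (f := ιc)
  let j : (Spec (CommRingCat.of R₀)).residueField (closedPoint R₀) ⟶
      (Spec (CommRingCat.of R)).residueField (closedPoint R) :=
    ((Spec (CommRingCat.of R₀)).residueFieldCongr hy).inv ≫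
      (Spec.map ιc).residueFieldMap (closedPoint R)
  have hj1 : a₀.residueFieldMap (closedPoint R₀) ≫ j =
      (T.residueFieldCongr (congrArg a₀ hy)).inv ≫
        (Spec.map ιc ≫ a₀).residueFieldMap (closedPoint R) := by
    have h1 := Scheme.Hom.residueFieldMap_congr' (f := a₀) hy
    rw [Scheme.residueFieldMap_comp]
    simp only [j]
    rw [← Category.assoc, ← Category.assoc]
    congr 1
    rw [Iso.comp_inv_eq, Category.assoc, h1, Iso.inv_hom_id_assoc]
  have hj2 : CommRingCat.ofHom (resMap R₀) ≫ j = ιc ≫ CommRingCat.ofHom (resMap R) := by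
    simp only [resMap, CommRingCat.ofHom_hom, j, Category.assoc]
    rw [Scheme.residueFieldCongr_inv, ← Category.assoc ((Spec (CommRingCat.of R₀)).evaluation _ _ _),
      evaluation_congr _ _ hy.symm, Scheme.Γevaluation_naturality, ← Category.assoc,
      ← Scheme.ΓSpecIso_inv_naturality, Category.assoc]
  intro z
  obtain ⟨c₀, rfl⟩ := resMap_surjective R₀ z
  obtain ⟨w, hw⟩ := H c₀
  refine ⟨(T.residueFieldCongr (congrArg a₀ hy)).hom.hom w, ?_⟩
  have hjinj : Function.Injective j.hom := j.hom.injective
  apply hjinj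
  have e1 := congrArg (fun φ => φ.hom ((T.residueFieldCongr (congrArg a₀ hy)).hom.hom w)) hj1
  have e2 := congrArg (fun φ => φ.hom c₀) hj2
  simp only [CommRingCat.hom_comp, RingHom.coe_comp, Function.comp_apply] at e1 e2
  have e3 : (T.residueFieldCongr (congrArg a₀ hy)).inv.hom
      ((T.residueFieldCongr (congrArg a₀ hy)).hom.hom w) = w := by
    have := congrArg (fun φ => φ.hom w) (T.residueFieldCongr (congrArg a₀ hy)).hom_inv_id
    exact this
  rw [e1, e3]
  exact hw.trans e2.symm

end surj

section main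

variable {S T : Scheme.{u}} (g : T ⟶ S)

/-- The lifting property with "trivial residue field extension". -/
def LiftsTriv (t : T) : Prop :=
  ∀ (C C' : Type u) [CommRing C] [CommRing C'] [IsLocalRing C] [IsLocalRing C'] [IsArtinianRing C]
    [IsArtinianRing C'] (π : C' →+* C), Function.Surjective π →
    ∀ (a : Spec (CommRingCat.of C) ⟶ T) (b : Spec (CommRingCat.of C') ⟶ S),
      a (IsLocalRing.closedPoint C) = t →
      Function.Surjective (a.residueFieldMap (IsLocalRing.closedPoint C)).hom →
      Spec.map (CommRingCat.ofHom π) ≫ b = a ≫ g →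
      ∃ c : Spec (CommRingCat.of C') ⟶ T, Spec.map (CommRingCat.ofHom π) ≫ c = a ∧ c ≫ g = b

/-- The lifting property with "finite residue field extension". -/
def LiftsFin (t : T) : Prop :=
  ∀ (C C' : Type u) [CommRing C] [CommRing C'] [IsLocalRing C] [IsLocalRing C'] [IsArtinianRing C]
    [IsArtinianRing C'] (π : C' →+* C), Function.Surjective π →
    ∀ (a : Spec (CommRingCat.of C) ⟶ T) (b : Spec (CommRingCat.of C') ⟶ S),
      a (IsLocalRing.closedPoint C) = t →
      (a.residueFieldMap (IsLocalRing.closedPoint C)).hom.Finite →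
      Spec.map (CommRingCat.ofHom π) ≫ b = a ≫ g →
      ∃ c : Spec (CommRingCat.of C') ⟶ T, Spec.map (CommRingCat.ofHom π) ≫ c = a ∧ c ≫ g = b

theorem liftsFin_of_liftsTriv (t : T) (hT : LiftsTriv g t) : LiftsFin g t := by
  intro C C' _ _ _ _ _ _ π hπ a b hat hfin hcomp
  subst hat
  have : IsLocalHom π := IsLocalHom.of_surjective π hπ
  have hx' : (Spec.map (CommRingCat.ofHom π)) (closedPoint C) = closedPoint C' :=
    Spec_closedPoint (f := CommRingCat.ofHom π)
  -- affine opens
  obtain ⟨_, ⟨W, hW, rfl⟩, hxW, -⟩ := S.isBasis_affineOpens.exists_subset_of_mem_open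
    (Set.mem_univ (g (a (closedPoint C)))) isOpen_univ
  obtain ⟨_, ⟨V, hV, rfl⟩, hxV, hVW : V ≤ g ⁻¹ᵁ W⟩ :=
    T.isBasis_affineOpens.exists_subset_of_mem_open hxW (g ⁻¹ᵁ W).isOpen
  have hbW : b (closedPoint C') ∈ W := by
    have : b (closedPoint C') = g (a (closedPoint C)) := by
      rw [← hx']
      exact congrArg (fun f => f (closedPoint C)) hcomp
    rw [this]; exact hxW
  -- ring maps
  set α : Γ(T, V) ⟶ CommRingCat.of C := toRing a V hxV with hα
  set β : Γ(S, W) ⟶ CommRingCat.of C' := toRing b W hbW with hβ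
  set γ : Γ(S, W) ⟶ Γ(T, V) := g.appLE W V hVW with hγ
  have factA : Spec.map α ≫ hV.fromSpec = a := Spec_toRing_fromSpec a hV hxV
  have factB : Spec.map β ≫ hW.fromSpec = b := Spec_toRing_fromSpec b hW hbW
  have factC : Spec.map γ ≫ hW.fromSpec = hV.fromSpec ≫ g :=
    IsAffineOpen.SpecMap_appLE_fromSpec g hW hV hVW
  have factD : β ≫ CommRingCat.ofHom π = γ ≫ α := by
    apply Spec.map_injective
    rw [← cancel_mono hW.fromSpec, Spec.map_comp, Category.assoc, factB, hcomp, Spec.map_comp,
      Category.assoc, factC, ← Category.assoc, factA]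
  -- the residue fields
  let L := (Spec (CommRingCat.of C)).residueField (closedPoint C)
  let r : C →+* L := resMap C
  have hr : Function.Surjective r := resMap_surjective C
  let ρ : T.residueField (a (closedPoint C)) →+* L := (a.residueFieldMap (closedPoint C)).hom
  let K₀ : Subfield L := ρ.fieldRange
  have hfinK : Module.Finite K₀ L := by
    letI : Algebra (T.residueField (a (closedPoint C))) L := ρ.toAlgebra
    have h1 : Module.Finite (T.residueField (a (closedPoint C))) L := hfin
    letI : Algebra (T.residueField (a (closedPoint C))) K₀ := ρ.rangeRestrictField.toAlgebra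
    have : IsScalarTower (T.residueField (a (closedPoint C))) K₀ L :=
      IsScalarTower.of_algebraMap_eq (fun z => rfl)
    exact Module.Finite.of_restrictScalars_finite (T.residueField (a (closedPoint C))) K₀ L
  have P1 : ∀ h : Γ(T, V), α.hom h ∈ sub r K₀ := by
    intro h
    rw [mem_sub]
    change resMap C ((toRing a V hxV).hom h) ∈ K₀
    rw [resMap_toRing]
    exact ⟨_, rfl⟩
  have P2 : ∀ h : Γ(S, W), β.hom h ∈ sub (r.comp π) K₀ := by
    intro h
    rw [mem_sub]
    have : π (β.hom h) = α.hom (γ.hom h) := congrArg (fun φ => φ.hom h) factD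
    rw [RingHom.comp_apply, this]
    exact P1 _
  have hr' : Function.Surjective (r.comp π) := hr.comp hπ
  -- the subrings
  let C₀ : Subring C := sub r K₀
  let C₀' : Subring C' := sub (r.comp π) K₀
  have : IsLocalRing C₀ := isLocalRing_sub r K₀
  have : IsLocalRing C₀' := isLocalRing_sub (r.comp π) K₀
  have : IsArtinianRing C₀ := isArtinianRing_sub r hr K₀
  have : IsArtinianRing C₀' := isArtinianRing_sub (r.comp π) hr' K₀
  have : IsLocalHom C₀.subtype := isLocalHom_subtype r K₀
  have : IsLocalHom C₀'.subtype := isLocalHom_subtype (r.comp π) K₀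
  let π₀ : C₀' →+* C₀ := (π.comp C₀'.subtype).codRestrict C₀ (fun z => z.2)
  have hπ₀ : Function.Surjective π₀ := by
    intro z
    obtain ⟨w, hw⟩ := hπ z.1
    refine ⟨⟨w, ?_⟩, Subtype.ext hw⟩
    change r (π w) ∈ K₀
    rw [hw]; exact z.2
  let α₀ : Γ(T, V) ⟶ CommRingCat.of C₀ := CommRingCat.ofHom (α.hom.codRestrict C₀ P1)
  let β₀ : Γ(S, W) ⟶ CommRingCat.of C₀' := CommRingCat.ofHom (β.hom.codRestrict C₀' P2)
  let ι : CommRingCat.of C₀ ⟶ CommRingCat.of C := CommRingCat.ofHom C₀.subtype
  let ι' : CommRingCat.of C₀' ⟶ CommRingCat.of C' := CommRingCat.ofHom C₀'.subtype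
  have e1 : α₀ ≫ ι = α := by ext h; rfl
  have e2 : β₀ ≫ ι' = β := by ext h; rfl
  have e3 : CommRingCat.ofHom π₀ ≫ ι = ι' ≫ CommRingCat.ofHom π := by ext h; rfl
  have e4 : β₀ ≫ CommRingCat.ofHom π₀ = γ ≫ α₀ := by
    ext h
    exact congrArg (fun φ => φ.hom h) factD
  -- the new morphisms
  let a₀ : Spec (CommRingCat.of C₀) ⟶ T := Spec.map α₀ ≫ hV.fromSpec
  let b₀ : Spec (CommRingCat.of C₀') ⟶ S := Spec.map β₀ ≫ hW.fromSpec
  have ha₀ : Spec.map ι ≫ a₀ = a := by
    rw [← Category.assoc, ← Spec.map_comp, e1, factA]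
  have hb₀ : Spec.map ι' ≫ b₀ = b := by
    rw [← Category.assoc, ← Spec.map_comp, e2, factB]
  have hcomp₀ : Spec.map (CommRingCat.ofHom π₀) ≫ b₀ = a₀ ≫ g := by
    rw [← Category.assoc, ← Spec.map_comp, e4, Spec.map_comp, Category.assoc, factC,
      Category.assoc]
  have hy : (Spec.map ι) (closedPoint C) = closedPoint C₀ := Spec_closedPoint (f := ι)
  have hpt : a₀ (closedPoint C₀) = a (closedPoint C) := by
    rw [← hy]
    exact congrArg (fun f => f (closedPoint C)) ha₀
  have hsurj : Function.Surjective (a₀.residueFieldMap (closedPoint C₀)).hom := by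
    have key : ∀ (a' : Spec (CommRingCat.of C) ⟶ T) (_ : a' = a) (c₀ : C₀),
        ∃ w : T.residueField (a' (closedPoint C)),
          (a'.residueFieldMap (closedPoint C)).hom w = resMap C (c₀ : C) := by
      rintro _ rfl c₀
      exact c₀.2
    exact residueFieldMap_surjective_of_comp C₀.subtype a₀ (key _ ha₀)
  obtain ⟨c₀, hc₁, hc₂⟩ := hT C₀ C₀' π₀ hπ₀ a₀ b₀ hpt hsurj hcomp₀
  refine ⟨Spec.map ι' ≫ c₀, ?_, ?_⟩
  · rw [← Category.assoc, ← Spec.map_comp, ← e3, Spec.map_comp, Category.assoc, hc₁, ha₀]
  · rw [Category.assoc, hc₂, hb₀]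

end main

end Groth.Agent.Lib.Seat87.ArtinLift
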