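import Groth.Prelude.Def_Red
import Mathlib

/-!
# Commutativity of a flat separated group scheme from its generic fibre (engine for S18063)
-/

set_option autoImplicit false
universe u
open CategoryTheory MonoidalCategory CartesianMonoidalCategory MonObj GrpObj AlgebraicGeometry CategoryTheory.Limits

namespace Groth.Agent.Lib.Seat87.CommDVR

/-- Two morphisms to a separated `S`-scheme agreeing after a scheme-theoretically dominant morphism
agree. -/
lemma ext_of_schDominant {S : Scheme.{u}} {X Y : Over S} [IsSeparated Y.hom] (a b : X ⟶ Y)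
    {W : Scheme.{u}} (j : W ⟶ X.left) [IsSchemeTheoreticallyDominant j]
    (h : j ≫ a.left = j ≫ b.left) : a = b := by
  let W' : Over S := Over.mk (j ≫ X.hom)
  let ι' : W' ⟶ X := Over.homMk j
  have hι' : ι' ≫ a = ι' ≫ b := by ext1; exact h
  have hfac : (equalizer.lift ι' hι').left ≫ (equalizer.ι a b).left = j := by
    rw [← Over.comp_left, equalizer.lift_ι]
    rfl
  have hker : (equalizer.ι a b).left.ker = ⊥ := by
    rw [eq_bot_iff]
    have h1 := (equalizer.lift ι' hι').left.le_ker_comp (equalizer.ι a b).left
    rw [hfac, j.ker_eq_bot] at h1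
    exact h1
  have : IsIso (equalizer.ι a b).left := IsClosedImmersion.isIso_iff_ker_eq_bot.mpr hker
  ext1
  rw [← cancel_epi (equalizer.ι a b).left]
  exact congr($(equalizer.condition a b).left)

lemma pullback_map_left_fst {S S' : Scheme.{u}} (gen : S' ⟶ S) {X Y : Over S} (a : X ⟶ Y) :
    ((Over.pullback gen).map a).left ≫ pullback.fst Y.hom gen
      = pullback.fst X.hom gen ≫ a.left := by
  simp only [Over.pullback_map_left]
  exact pullback.lift_fst _ _ _

/-- If the base change of a flat separated monoid scheme along a scheme-theoretically dominant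
quasi-compact morphism is commutative, then the monoid scheme is commutative. -/
theorem isCommMonObj_of_bc {S S' : Scheme.{u}} (gen : S' ⟶ S) [IsSchemeTheoreticallyDominant gen]
    [QuasiCompact gen] (G : Over S) [GrpObj G] [Flat G.hom] [IsSeparated G.hom]
    [IsCommMonObj (Red.bc gen G)] : IsCommMonObj G := by
  constructor
  have hflat : Flat (G ⊗ G).hom := by
    rw [Over.tensorObj_hom]
    infer_instance
  have key : (Over.pullback gen).map ((β_ G G).hom ≫ μ[G]) = (Over.pullback gen).map μ[G] := by
    have h1 := IsCommMonObj.mul_comm (Red.bc gen G)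
    rw [← cancel_epi (Functor.LaxMonoidal.μ (Over.pullback gen) G G)]
    rw [Functor.map_comp, Functor.LaxBraided.braided_assoc]
    exact h1
  apply ext_of_schDominant _ _ (pullback.fst (G ⊗ G).hom gen)
  rw [← pullback_map_left_fst, ← pullback_map_left_fst, key]

lemma isSchemeTheoreticallyDominant_Spec_map {A K : Type u} [CommRing A] [IsDomain A] [CommRing K]
    (φ : A →+* K) (hφ : Function.Injective φ) :
    IsSchemeTheoreticallyDominant (Spec.map (CommRingCat.ofHom φ)) := by
  have : IsDominant (Spec.map (CommRingCat.ofHom φ)) := by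
    rw [isDominant_iff]
    have h := (PrimeSpectrum.denseRange_comap_iff_ker_le_nilRadical (f := φ)).mpr (by
      rw [(RingHom.injective_iff_ker_eq_bot φ).mp hφ]
      exact bot_le)
    exact h
  exact IsSchemeTheoreticallyDominant.of_isDominant _

theorem main (A : Type u) [CommRing A] [IsDomain A]
    (K : Type u) [Field K] [Algebra A K] [IsFractionRing A K]
    {S' : Scheme.{u}} (s : S' ⟶ Spec (CommRingCat.of A))
    (G : Over (Spec (CommRingCat.of A))) [GrpObj G] [Flat G.hom]
    [IsSeparated G.hom] [IsCommMonObj (Red.bc (Spec.map (CommRingCat.ofHom (algebraMap A K))) G)] :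
    IsCommMonObj (Red.bc s G) := by
  have := isSchemeTheoreticallyDominant_Spec_map (algebraMap A K) (IsFractionRing.injective A K)
  have := isCommMonObj_of_bc (Spec.map (CommRingCat.ofHom (algebraMap A K))) G
  infer_instance

end Groth.Agent.Lib.Seat87.CommDVR
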