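import Mathlib
import Groth.Prelude.Def_RelProj
import Groth.Agent.Lib.Helper11Generic
import Groth.Agent.Lib.Helper23Restr
import Groth.Agent.Lib.Helper23AmpleIso

/-!
# Dense affine opens of a Noetherian scheme, quasi-projective over the base (engine for S17886)
-/

set_option autoImplicit false
universe u
open CategoryTheory AlgebraicGeometry TopologicalSpace

namespace Groth.Agent.Lib.Seat87.DenseAff

/-- generic points of irreducible components -/
def genPts (X : Type*) [TopologicalSpace X] : Set X :=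
  {y | closure ({y} : Set X) ∈ irreducibleComponents X}

theorem finite_genPts (X : Type*) [TopologicalSpace X] [T0Space X]
    (h : (irreducibleComponents X).Finite) : (genPts X).Finite := by
  refine Set.Finite.of_injOn (f := fun y => closure ({y} : Set X)) (t := irreducibleComponents X)
    (fun y hy => hy) ?_ h
  intro y _ z _ hyz
  exact ((inseparable_iff_closure_eq).2 hyz).eq

theorem dense_of_genPts_subset {X : Type*} [TopologicalSpace X] [QuasiSober X] (U : Set X)
    (h : genPts X ⊆ U) : Dense U := by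
  intro x
  obtain ⟨Z, hZ, hxZ⟩ :=
    exists_mem_irreducibleComponents_subset_of_isIrreducible ({x} : Set X) isIrreducible_singleton
  have hZirr : IsIrreducible Z := hZ.1
  have hZcl : IsClosed Z := isClosed_of_mem_irreducibleComponents Z hZ
  have hη : closure ({hZirr.genericPoint} : Set X) = Z := hZirr.closure_genericPoint hZcl
  have hmem : hZirr.genericPoint ∈ genPts X := by
    show closure ({hZirr.genericPoint} : Set X) ∈ irreducibleComponents X
    rw [hη]; exact hZ
  have h1 : Z ⊆ closure U := by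
    rw [← hη]
    exact closure_mono (Set.singleton_subset_iff.2 (h hmem))
  exact h1 (hxZ rfl)

theorem exists_dense_affine_nhd {X : Scheme.{u}} [IsNoetherian X] (x : X) :
    ∃ U : X.Opens, x ∈ U ∧ IsAffineOpen U ∧ Dense (U : Set X) := by
  classical
  have hfin : (genPts X).Finite :=
    finite_genPts X NoetherianSpace.finite_irreducibleComponents
  obtain ⟨W₀, hW₀aff, hxW₀, -⟩ :=
    exists_isAffineOpen_mem_and_subset (x := x) (U := ⊤) trivial
  set S : Set X := genPts X \ (W₀ : Set X) with hSdef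
  have hS : S.Finite := hfin.subset Set.sdiff_subset
  obtain ⟨U, hU1, hU2⟩ := Groth.Agent.Lib.Helper11.exists_disjoint_affine_nhds S hS
    (fun y hy => hy.1) W₀ hW₀aff.isCompact (fun y hy => hy.2)
  refine ⟨W₀ ⊔ ⨆ y ∈ S, U y, Or.inl hxW₀, ?_, ?_⟩
  · refine hW₀aff.sup_of_disjoint (IsAffineOpen.biSup_of_disjoint hS
      (fun y hy => (hU1 y hy).1) (fun y hy z hz hyz => hU2 y hy z hz hyz)) ?_
    rw [disjoint_iSup₂_iff]
    intro y hy
    exact (hU1 y hy).2.2.symm
  · apply dense_of_genPts_subset
    intro y hy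
    by_cases hyW : y ∈ W₀
    · exact Or.inl hyW
    · have hyS : y ∈ S := ⟨hy, hyW⟩
      refine Or.inr ?_
      simp only [Opens.iSup_mk, Opens.carrier_eq_coe, Opens.coe_mk, Set.mem_iUnion]
      exact ⟨y, hyS, (hU1 y hyS).2.1⟩

theorem exists_finite_cover (X : Scheme.{u}) [IsNoetherian X] :
    ∃ (n : ℕ) (U : Fin n → X.Opens), (⨆ i, U i) = ⊤ ∧
      ∀ i, IsAffineOpen (U i) ∧ Dense ((U i : Set X)) := by
  choose V hxV hVaff hVdense using fun x : X => exists_dense_affine_nhd x
  obtain ⟨t, ht⟩ := isCompact_univ.elim_finite_subcover (fun x => (V x : Set X))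
    (fun x => (V x).isOpen) (fun x _ => Set.mem_iUnion.2 ⟨x, hxV x⟩)
  refine ⟨t.card, fun i => V (t.equivFin.symm i), ?_, fun i => ⟨hVaff _, hVdense _⟩⟩
  rw [eq_top_iff]
  intro z _
  obtain ⟨x, hxt, hzx⟩ : ∃ x ∈ t, z ∈ V x := by
    simpa using ht (Set.mem_univ z)
  rw [Opens.mem_iSup]
  exact ⟨t.equivFin ⟨x, hxt⟩, by simpa using hzx⟩

theorem isQuasiProjective_of_isAffineOpen {S X : Scheme.{u}} (f : X ⟶ S) [IsNoetherian S]
    [QuasiCompact f] [LocallyOfFiniteType f] (U : X.Opens) (hU : IsAffineOpen U) :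
    RelProj.IsQuasiProjective (U.ι ≫ f) := by
  have : IsLocallyNoetherian X := LocallyOfFiniteType.isLocallyNoetherian f
  have : CompactSpace X := QuasiCompact.compactSpace_of_compactSpace f
  have : IsNoetherian X := ⟨⟩
  have : IsAffine U := hU
  have hamp : CohB1.IsAmple (Coh.structureModule (U : Scheme.{u})) :=
    (Groth.Agent.Lib.Helper23.AmpleIso.isQuasiAffine_iff_isAmple_structureModule _).1 inferInstance
  refine ⟨inferInstance, inferInstance, Coh.structureModule (U : Scheme.{u}), inferInstance,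
    fun V => ?_⟩
  exact Groth.Agent.Lib.Helper23.SecTw.isAmple_restrict _ hamp _
    (QuasiCompact.isCompact_preimage (f := U.ι ≫ f) _ V.1.isOpen V.2.isCompact)

theorem main {S X : Scheme.{u}} (f : X ⟶ S)
    [IsNoetherian S] [QuasiCompact f] [LocallyOfFiniteType f] :
    ∃ (n : ℕ) (U : Fin n → X.Opens), (⨆ i, U i) = ⊤ ∧
      ∀ i, IsAffineOpen (U i) ∧ Dense ((U i : Set X)) ∧
        RelProj.IsQuasiProjective ((U i).ι ≫ f) := by
  have : IsLocallyNoetherian X := LocallyOfFiniteType.isLocallyNoetherian f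
  have : CompactSpace X := QuasiCompact.compactSpace_of_compactSpace f
  have : IsNoetherian X := ⟨⟩
  obtain ⟨n, U, hcov, hU⟩ := exists_finite_cover X
  exact ⟨n, U, hcov, fun i => ⟨(hU i).1, (hU i).2,
    isQuasiProjective_of_isAffineOpen f (U i) (hU i).1⟩⟩

end Groth.Agent.Lib.Seat87.DenseAff
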