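import Mathlib
import Groth.Agent.Lib.Seat87ArtinLift

/-!
# Étale morphisms: finite residue field extensions and infinitesimal lifting against local Artinian
thickenings (helper87)
-/

set_option autoImplicit false
set_option backward.isDefEq.respectTransparency false
set_option backward.isDefEq.respectTransparency.types false

namespace Groth.Agent.Lib.Seat87.EtaleLift

open CategoryTheory AlgebraicGeometry IsLocalRing
open Groth.Agent.Lib.Seat87.ArtinLift

universe u

/-- Residue field extensions of an étale morphism are finite. -/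
theorem finite_residueFieldMap_of_etale {U T : Scheme.{u}} (e : U ⟶ T) [Etale e] (x : U) :
    (e.residueFieldMap x).hom.Finite := by
  algebraize [(e.stalkMap x).hom]
  have : IsLocalHom (algebraMap (T.presheaf.stalk (e x)) (U.presheaf.stalk x)) :=
    inferInstanceAs <| IsLocalHom (e.stalkMap x).hom
  have : Algebra.EssFiniteType (T.presheaf.stalk (e x)) (U.presheaf.stalk x) := by
    rw [← RingHom.essFiniteType_algebraMap, RingHom.algebraMap_toAlgebra]
    exact LocallyOfFiniteType.stalkMap e x
  have : Algebra.FormallyUnramified (T.presheaf.stalk (e x)) (U.presheaf.stalk x) := by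
    rw [← RingHom.formallyUnramified_algebraMap, RingHom.algebraMap_toAlgebra]
    exact FormallyUnramified.stalkMap e x
  have h : Module.Finite (IsLocalRing.ResidueField (T.presheaf.stalk (e x)))
      (IsLocalRing.ResidueField (U.presheaf.stalk x)) := inferInstance
  have h2 : (algebraMap (IsLocalRing.ResidueField (T.presheaf.stalk (e x)))
      (IsLocalRing.ResidueField (U.presheaf.stalk x))).Finite := RingHom.finite_algebraMap.mpr h
  exact h2

/-- In a local Artinian ring, the kernel of a surjection onto a nontrivial ring is nilpotent. -/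
theorem isNilpotent_ker {C C' : Type u} [CommRing C] [CommRing C'] [Nontrivial C] [IsLocalRing C']
    [IsArtinianRing C'] (π : C' →+* C) : IsNilpotent (RingHom.ker π) := by
  obtain ⟨n, hn⟩ : IsNilpotent (IsLocalRing.maximalIdeal C') := by
    have := IsArtinianRing.isNilpotent_jacobson_bot (R := C')
    rwa [IsLocalRing.jacobson_eq_maximalIdeal ⊥ bot_ne_top] at this
  refine ⟨n, ?_⟩
  rw [Ideal.zero_eq_bot, eq_bot_iff, ← Ideal.zero_eq_bot, ← hn]
  exact Ideal.pow_right_mono (IsLocalRing.le_maximalIdeal (RingHom.ker_ne_top π)) n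

/-- Infinitesimal lifting for an étale morphism against a surjection of local rings with Artinian
source. -/
theorem etale_lift {U T : Scheme.{u}} (e : U ⟶ T) [Etale e] {C C' : Type u} [CommRing C]
    [CommRing C'] [IsLocalRing C] [IsLocalRing C'] [IsArtinianRing C'] (π : C' →+* C)
    (hπ : Function.Surjective π) (a : Spec (CommRingCat.of C) ⟶ U)
    (c' : Spec (CommRingCat.of C') ⟶ T)
    (hcomp : Spec.map (CommRingCat.ofHom π) ≫ c' = a ≫ e) :
    ∃ c : Spec (CommRingCat.of C') ⟶ U, Spec.map (CommRingCat.ofHom π) ≫ c = a ∧ c ≫ e = c' := by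
  have : IsLocalHom π := IsLocalHom.of_surjective π hπ
  have hx' : (Spec.map (CommRingCat.ofHom π)) (closedPoint C) = closedPoint C' :=
    Spec_closedPoint (f := CommRingCat.ofHom π)
  obtain ⟨_, ⟨W, hW, rfl⟩, hxW, -⟩ := T.isBasis_affineOpens.exists_subset_of_mem_open
    (Set.mem_univ (e (a (closedPoint C)))) isOpen_univ
  obtain ⟨_, ⟨V, hV, rfl⟩, hxV, hVW : V ≤ e ⁻¹ᵁ W⟩ :=
    U.isBasis_affineOpens.exists_subset_of_mem_open hxW (e ⁻¹ᵁ W).isOpen
  have hcW : c' (closedPoint C') ∈ W := by
    have : c' (closedPoint C') = e (a (closedPoint C)) := by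
      rw [← hx']
      exact congrArg (fun f => f (closedPoint C)) hcomp
    rw [this]; exact hxW
  set α : Γ(U, V) ⟶ CommRingCat.of C := toRing a V hxV with hα
  set β : Γ(T, W) ⟶ CommRingCat.of C' := toRing c' W hcW with hβ
  set γ : Γ(T, W) ⟶ Γ(U, V) := e.appLE W V hVW with hγ
  have factA : Spec.map α ≫ hV.fromSpec = a := Spec_toRing_fromSpec a hV hxV
  have factB : Spec.map β ≫ hW.fromSpec = c' := Spec_toRing_fromSpec c' hW hcW
  have factC : Spec.map γ ≫ hW.fromSpec = hV.fromSpec ≫ e :=
    IsAffineOpen.SpecMap_appLE_fromSpec e hW hV hVW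
  have factD : β ≫ CommRingCat.ofHom π = γ ≫ α := by
    apply Spec.map_injective
    rw [← cancel_mono hW.fromSpec, Spec.map_comp, Category.assoc, factB, hcomp, Spec.map_comp,
      Category.assoc, factC, ← Category.assoc, factA]
  have hγet : γ.hom.Etale := e.etale_appLE hW hV hVW
  -- algebra structures
  letI : Algebra Γ(T, W) Γ(U, V) := γ.hom.toAlgebra
  letI : Algebra Γ(T, W) C' := β.hom.toAlgebra
  letI : Algebra Γ(T, W) C := (π.comp β.hom).toAlgebra
  have : Algebra.Etale Γ(T, W) Γ(U, V) := RingHom.etale_algebraMap.mp hγet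
  let αalg : Γ(U, V) →ₐ[Γ(T, W)] C :=
    { α.hom with
      commutes' := fun r => (congrArg (fun φ => φ.hom r) factD).symm }
  let πalg : C' →ₐ[Γ(T, W)] C :=
    { π with commutes' := fun r => rfl }
  have hπnil : IsNilpotent (RingHom.ker (πalg : C' →+* C)) := isNilpotent_ker π
  let lam : Γ(U, V) →ₐ[Γ(T, W)] C' :=
    Algebra.FormallySmooth.liftOfSurjective αalg πalg hπ hπnil
  have hlam1 : ∀ z, π (lam z) = α.hom z :=
    fun z => Algebra.FormallySmooth.liftOfSurjective_apply αalg πalg hπ hπnil z
  have hlam2 : ∀ r : Γ(T, W), lam (γ.hom r) = β.hom r := fun r => lam.commutes r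
  let lamc : Γ(U, V) ⟶ CommRingCat.of C' := CommRingCat.ofHom (lam : Γ(U, V) →+* C')
  have e1 : lamc ≫ CommRingCat.ofHom π = α := by ext z; exact hlam1 z
  have e2 : γ ≫ lamc = β := by ext r; exact hlam2 r
  refine ⟨Spec.map lamc ≫ hV.fromSpec, ?_, ?_⟩
  · rw [← Category.assoc, ← Spec.map_comp, e1, factA]
  · rw [Category.assoc, ← factC, ← Category.assoc, ← Spec.map_comp, e2, factB]

/-- Formal versality (lifting with trivial residue field extension) passes to étale neighbourhoods. -/
theorem liftsTriv_of_etale {S T U : Scheme.{u}} (g : T ⟶ S) (e : U ⟶ T) [Etale e] (u : U)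
    (hT : LiftsTriv g (e u)) : LiftsTriv (e ≫ g) u := by
  intro C C' _ _ _ _ _ _ π hπ a b hau hsurj hcomp
  have hfin : ((a ≫ e).residueFieldMap (IsLocalRing.closedPoint C)).hom.Finite := by
    rw [Scheme.residueFieldMap_comp, CommRingCat.hom_comp]
    exact (RingHom.Finite.of_surjective _ hsurj).comp
      (finite_residueFieldMap_of_etale e _)
  have hpt : (a ≫ e) (IsLocalRing.closedPoint C) = e u := by
    rw [← hau]; rfl
  obtain ⟨c', hc'1, hc'2⟩ :=
    liftsFin_of_liftsTriv g (e u) hT C C' π hπ (a ≫ e) b hpt hfin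
      (by rw [hcomp, Category.assoc])
  obtain ⟨c, hc1, hc2⟩ := etale_lift e π hπ a c' hc'1
  exact ⟨c, hc1, by rw [← Category.assoc, hc2, hc'2]⟩

end Groth.Agent.Lib.Seat87.EtaleLift
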