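import Mathlib
import Groth.Prelude.Def_Red2
import Groth.Prelude.Def_AGF
import Groth.Agent.Lib.Seat85SchDom2

/-!
# Nilpotency / solvability of the special fibre from the generic fibre (helper87)

Over a domain `A` with an injective ring map `A → K` (e.g. the fraction field) and any ring map
`A → k`, for a flat separated `A`-group `G`: if `G_K` is nilpotent (resp. solvable) on points of
class `≤ n`, then so is `G_k`.

* `CW d H n`: the set of values in a group `H` of the iterated commutator words: for `d = false`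
  the left-normed commutators `⁅…⁅⁅x₀, x₁⁆, x₂⁆…, xₙ⁆`, for `d = true` the derived words `δₙ`.
* `ucs_eq_top_iff`, `derivedSeries_eq_bot_iff`: `upperCentralSeries H n = ⊤`
  (resp. `derivedSeries H n = ⊥`) iff every value of the word is `1`.
* `exists_universal`: in a cartesian monoidal category, a universal value of the word on a product
  of copies of the group object `G`.
* `identities_of_functor`: transfer of the identity along a monoidal functor which is injective
  on maps from the objects of a class `P ∋ G` closed under products.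
* `main`: the scheme statement.
-/

set_option autoImplicit false
universe u

namespace Groth.Agent.Lib.Seat87.NilpSolv

open scoped commutatorElement

section GroupTheory

variable {H H' : Type*} [Group H] [Group H']

/-- Values of the iterated commutator words: `d = false` gives the left-normed commutators of
length `n+1`, `d = true` the derived words `δ_n`. -/
def CW (d : Bool) (H : Type*) [Group H] : ℕ → Set H
  | 0 => Set.univ
  | n + 1 => {w | ∃ a ∈ CW d H n, ∃ b, (d = true → b ∈ CW d H n) ∧ w = ⁅a, b⁆}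

lemma CW_map (d : Bool) (φ : H →* H') (n : ℕ) {w : H} (hw : w ∈ CW d H n) :
    φ w ∈ CW d H' n := by
  induction n generalizing w with
  | zero => exact Set.mem_univ _
  | succ n ih =>
    obtain ⟨a, ha, b, hb, rfl⟩ := hw
    exact ⟨φ a, ih ha, φ b, fun h => ih (hb h), map_commutatorElement φ a b⟩

lemma mem_ucs_of_CW (j : ℕ) : ∀ (m : ℕ), Subgroup.upperCentralSeries H (j + m) = ⊤ →
    ∀ w ∈ CW false H j, w ∈ Subgroup.upperCentralSeries H m := by
  induction j with
  | zero =>
    intro m hm w _
    rw [Nat.zero_add] at hm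
    rw [hm]; exact Subgroup.mem_top w
  | succ j ih =>
    rintro m hm _ ⟨a, ha, b, -, rfl⟩
    have : j + 1 + m = j + (m + 1) := by omega
    rw [this] at hm
    exact (Subgroup.mem_upperCentralSeries_succ_iff.1 (ih (m + 1) hm a ha)) b

lemma mem_ucs_of_CW_trivial (m : ℕ) : ∀ (j : ℕ), (∀ w ∈ CW false H (j + m), w = 1) →
    ∀ a ∈ CW false H j, a ∈ Subgroup.upperCentralSeries H m := by
  induction m with
  | zero =>
    intro j h a ha
    rw [h a ha]; exact Subgroup.one_mem _
  | succ m ih =>
    intro j h a ha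
    rw [Subgroup.mem_upperCentralSeries_succ_iff]
    intro b
    have : j + (m + 1) = j + 1 + m := by omega
    rw [this] at h
    exact ih (j + 1) h _ ⟨a, ha, b, by simp, rfl⟩

theorem ucs_eq_top_iff (n : ℕ) :
    Subgroup.upperCentralSeries H n = ⊤ ↔ ∀ w ∈ CW false H n, w = 1 := by
  constructor
  · intro h w hw
    have := mem_ucs_of_CW n 0 h w hw
    rwa [Subgroup.upperCentralSeries_zero, Subgroup.mem_bot] at this
  · intro h
    rw [eq_top_iff]
    intro a _
    exact mem_ucs_of_CW_trivial n 0 (by simpa using h) a (Set.mem_univ a)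

lemma CW_subset_derivedSeries (n : ℕ) : ∀ w ∈ CW true H n, w ∈ derivedSeries H n := by
  induction n with
  | zero => intro w _; exact Subgroup.mem_top w
  | succ n ih =>
    rintro _ ⟨a, ha, b, hb, rfl⟩
    exact Subgroup.commutator_mem_commutator (ih a ha) (ih b (hb rfl))

lemma commutator_closure_le (N : Subgroup H) [N.Normal] (T : Set H)
    (h : ∀ a ∈ T, ∀ b ∈ T, ⁅a, b⁆ ∈ N) :
    ⁅Subgroup.closure T, Subgroup.closure T⁆ ≤ N := by
  rw [Subgroup.commutator_le]
  intro g₁ h₁ g₂ h₂
  set π := QuotientGroup.mk' N with hπ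
  have hcomm : ∀ x ∈ π '' T, ∀ y ∈ π '' T, x * y = y * x := by
    rintro _ ⟨a, ha, rfl⟩ _ ⟨b, hb, rfl⟩
    rw [← commutatorElement_eq_one_iff_mul_comm, ← map_commutatorElement]
    exact (QuotientGroup.eq_one_iff _).2 (h a ha b hb)
  have hc : Subgroup.closure (π '' T) ≤ Subgroup.centralizer (Subgroup.closure (π '' T)) :=
    Subgroup.le_centralizer_iff_isMulCommutative.2 (Subgroup.isMulCommutative_closure hcomm)
  have e1 : π g₁ ∈ Subgroup.closure (π '' T) := by
    rw [← MonoidHom.map_closure]; exact Subgroup.mem_map_of_mem _ h₁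
  have e2 : π g₂ ∈ Subgroup.closure (π '' T) := by
    rw [← MonoidHom.map_closure]; exact Subgroup.mem_map_of_mem _ h₂
  have := (Subgroup.mem_centralizer_iff.1 (hc e2)) _ e1
  rw [← commutatorElement_eq_one_iff_mul_comm, ← map_commutatorElement] at this
  exact (QuotientGroup.eq_one_iff _).1 this

lemma derivedSeries_le_normalClosure (n : ℕ) :
    derivedSeries H n ≤ Subgroup.normalClosure (CW true H n) := by
  induction n with
  | zero =>
    intro x _
    exact Subgroup.subset_normalClosure (Set.mem_univ x)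
  | succ n ih =>
    rw [derivedSeries_succ]
    refine (Subgroup.commutator_mono ih ih).trans ?_
    have hsub : Group.conjugatesOfSet (CW true H n) ⊆ CW true H n := by
      intro x hx
      obtain ⟨w, hw, hconj⟩ := Group.mem_conjugatesOfSet_iff.1 hx
      obtain ⟨c, rfl⟩ := isConj_iff.1 hconj
      exact CW_map true (MulAut.conj c).toMonoidHom n hw
    refine commutator_closure_le _ _ ?_
    intro a ha b hb
    exact Subgroup.subset_normalClosure ⟨a, hsub ha, b, fun _ => hsub hb, rfl⟩

theorem derivedSeries_eq_bot_iff (n : ℕ) :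
    derivedSeries H n = ⊥ ↔ ∀ w ∈ CW true H n, w = 1 := by
  constructor
  · intro h w hw
    have := CW_subset_derivedSeries n w hw
    rwa [h, Subgroup.mem_bot] at this
  · intro h
    rw [eq_bot_iff]
    refine (derivedSeries_le_normalClosure n).trans (Subgroup.normalClosure_le_normal ?_)
    intro w hw
    rw [SetLike.mem_coe, Subgroup.mem_bot]
    exact h w hw

end GroupTheory

section Cat

open CategoryTheory MonoidalCategory CartesianMonoidalCategory MonObj GrpObj

variable {C : Type*} [Category C] [CartesianMonoidalCategory C] (G : C) [GrpObj G]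

/-- Precomposition as a monoid hom of hom-groups. -/
def precomp {X Y : C} (f : X ⟶ Y) : (Y ⟶ G) →* (X ⟶ G) where
  toFun g := f ≫ g
  map_one' := MonObj.comp_one f
  map_mul' := MonObj.comp_mul f

lemma comp_commutatorElement {X Y : C} (f : X ⟶ Y) (a b : Y ⟶ G) :
    f ≫ ⁅a, b⁆ = ⁅f ≫ a, f ≫ b⁆ :=
  map_commutatorElement (precomp G f) a b

/-- A universal value of the `n`-th word, living on an object of any class `P ∋ G` closed under
binary products. -/
theorem exists_universal (P : C → Prop) (hG : P G) (hP : ∀ X Y, P X → P Y → P (X ⊗ Y))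
    (d : Bool) (n : ℕ) :
    ∃ Z : C, P Z ∧ ∃ w : Z ⟶ G, w ∈ CW d (Z ⟶ G) n ∧
      ∀ (X : C), ∀ v ∈ CW d (X ⟶ G) n, ∃ t : X ⟶ Z, t ≫ w = v := by
  induction n with
  | zero => exact ⟨G, hG, 𝟙 G, Set.mem_univ _, fun X v _ => ⟨v, Category.comp_id v⟩⟩
  | succ n ih =>
    obtain ⟨Z, hZ, w, hw, huniv⟩ := ih
    obtain ⟨Y, hY, y, hy, hyuniv⟩ : ∃ Y : C, P Y ∧ ∃ y : Y ⟶ G,
        (d = true → y ∈ CW d (Y ⟶ G) n) ∧ ∀ (X : C) (b : X ⟶ G),
          (d = true → b ∈ CW d (X ⟶ G) n) → ∃ t : X ⟶ Y, t ≫ y = b := by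
      cases d with
      | false => exact ⟨G, hG, 𝟙 G, by simp, fun X b _ => ⟨b, Category.comp_id b⟩⟩
      | true => exact ⟨Z, hZ, w, fun _ => hw, fun X b hb => huniv X b (hb rfl)⟩
    refine ⟨Z ⊗ Y, hP _ _ hZ hY, ⁅fst Z Y ≫ w, snd Z Y ≫ y⁆,
      ⟨fst Z Y ≫ w, CW_map d (precomp G (fst Z Y)) n hw, snd Z Y ≫ y,
        fun h => CW_map d (precomp G (snd Z Y)) n (hy h), rfl⟩, ?_⟩
    rintro X _ ⟨a, ha, b, hb, rfl⟩
    obtain ⟨ta, rfl⟩ := huniv X a ha
    obtain ⟨tb, rfl⟩ := hyuniv X b hb
    refine ⟨lift ta tb, ?_⟩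
    rw [comp_commutatorElement, lift_fst_assoc, lift_snd_assoc]

open scoped Obj in
/-- Transfer of a commutator identity along a monoidal functor `F` that is injective on maps from
objects of a product-closed class `P ∋ G` to `G`. -/
theorem identities_of_functor {D : Type*} [Category D] [CartesianMonoidalCategory D]
    (F : C ⥤ D) [F.Monoidal] (P : C → Prop) (hG : P G) (hP : ∀ X Y, P X → P Y → P (X ⊗ Y))
    (hinj : ∀ Z, P Z → Function.Injective (F.map : (Z ⟶ G) → (F.obj Z ⟶ F.obj G)))
    (d : Bool) (n : ℕ)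
    (hD : ∀ Y : D, ∀ v ∈ CW d (Y ⟶ F.obj G) n, v = 1) :
    ∀ X : C, ∀ v ∈ CW d (X ⟶ G) n, v = 1 := by
  obtain ⟨Z, hZ, w, hw, huniv⟩ := exists_universal G P hG hP d n
  have hw1 : w = 1 := by
    apply hinj Z hZ
    rw [Functor.map_one]
    exact hD _ _ (CW_map d (F.homMonoidHom) n hw)
  intro X v hv
  obtain ⟨t, rfl⟩ := huniv X v hv
  rw [hw1, MonObj.comp_one]

end Cat

section Sch

open CategoryTheory MonoidalCategory CartesianMonoidalCategory MonObj GrpObj AlgebraicGeometry
  CategoryTheory.Limits

variable {S Z : Scheme.{u}} (f : S ⟶ Z) (G : Over Z) [GrpObj G] (X : Over S)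

/-- The adjunction bijection `Hom_S(X, f^* G) ≃ Hom_Z(X, G)` (as in `Helper27GaGm`). -/
noncomputable def adjEquiv : (X ⟶ Red.bc f G) ≃ ((Over.map f).obj X ⟶ G) :=
  ((Over.mapPullbackAdj f).homEquiv X G).symm

lemma adjEquiv_symm_mul (a b : (Over.map f).obj X ⟶ G) :
    (adjEquiv f G X).symm (a * b) = (adjEquiv f G X).symm a * (adjEquiv f G X).symm b := by
  unfold adjEquiv
  simp only [Equiv.symm_symm, Adjunction.homEquiv_unit]
  rw [Functor.map_mul, MonObj.comp_mul]

lemma adjEquiv_mul (x y : X ⟶ Red.bc f G) :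
    adjEquiv f G X (x * y) = adjEquiv f G X x * adjEquiv f G X y := by
  apply (adjEquiv f G X).symm.injective
  rw [adjEquiv_symm_mul]
  simp

/-- The adjunction bijection as a group hom. -/
noncomputable def adjHom : (X ⟶ Red.bc f G) →* ((Over.map f).obj X ⟶ G) :=
  MonoidHom.mk' (adjEquiv f G X) (adjEquiv_mul f G X)

lemma adjHom_injective : Function.Injective (adjHom f G X) :=
  (adjEquiv f G X).injective

/-- Identities valid on all points of `G` are valid on all points of a base change. -/
theorem identities_bc (d : Bool) (n : ℕ)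
    (h : ∀ X : Over Z, ∀ v ∈ CW d (X ⟶ G) n, v = 1) :
    ∀ Y : Over S, ∀ v ∈ CW d (Y ⟶ Red.bc f G) n, v = 1 := by
  intro Y v hv
  apply adjHom_injective f G Y
  rw [map_one]
  exact h _ _ (CW_map d (adjHom f G Y) n hv)

instance flat_tensorObj (X Y : Over Z) [Flat X.hom] [Flat Y.hom] : Flat (X ⊗ Y).hom := by
  rw [Over.tensorObj_hom]
  infer_instance

/-- Identities valid on all points of the base change along `Spec B → Spec A` (`A → B` injective)
of a flat separated `A`-group are valid on all points of the group. -/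
theorem identities_of_injective {A B : CommRingCat.{u}} (φ : A ⟶ B)
    (hφ : Function.Injective φ.hom) (G : Over (Spec A)) [GrpObj G] [Flat G.hom]
    [IsSeparated G.hom] (d : Bool) (n : ℕ)
    (h : ∀ Y : Over (Spec B), ∀ v ∈ CW d (Y ⟶ Red.bc (Spec.map φ) G) n, v = 1) :
    ∀ X : Over (Spec A), ∀ v ∈ CW d (X ⟶ G) n, v = 1 := by
  refine identities_of_functor G (Over.pullback (Spec.map φ)) (fun X => Flat X.hom)
    inferInstance (fun X Y hX hY => ?_) (fun X hX a b hab => ?_) d n h
  · have := hX; have := hY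
    exact flat_tensorObj X Y
  · have : Flat X.hom := hX
    exact Groth.Agent.Lib.Seat85.SchDom.ext_of_pullback_map_eq φ hφ a b hab

/-- The scheme statement: nilpotency and solvability pass from the fibre over `K` (with `A → K`
injective) to the fibre over any `A`-algebra `k`. -/
theorem main {A K k : CommRingCat.{u}} (φ : A ⟶ K) (hφ : Function.Injective φ.hom)
    (ψ : A ⟶ k) (G : Over (Spec A)) [GrpObj G] [Flat G.hom] [IsSeparated G.hom] :
    (AGF.IsNilpotentGrp (Red.bc (Spec.map φ) G) → AGF.IsNilpotentGrp (Red.bc (Spec.map ψ) G)) ∧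
    (Red.IsSolvableGrp (Red.bc (Spec.map φ) G) → Red.IsSolvableGrp (Red.bc (Spec.map ψ) G)) := by
  constructor
  · rintro ⟨n, hn⟩
    refine ⟨n, fun Y => (ucs_eq_top_iff n).2 ?_⟩
    refine identities_bc (Spec.map ψ) G false n ?_ Y
    exact identities_of_injective φ hφ G false n fun Y' => (ucs_eq_top_iff n).1 (hn Y')
  · rintro ⟨n, hn⟩
    refine ⟨n, fun Y => (derivedSeries_eq_bot_iff n).2 ?_⟩
    refine identities_bc (Spec.map ψ) G true n ?_ Y
    exact identities_of_injective φ hφ G true n fun Y' => (derivedSeries_eq_bot_iff n).1 (hn Y')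

end Sch

end Groth.Agent.Lib.Seat87.NilpSolv
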