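import Mathlib
import Groth.Prelude.Def_Red2
import Groth.Agent.Lib.Seat87NilpSolv

/-!
# Homomorphisms of finitely presented group schemes over a cofiltered limit (helper87)

`S = lim S_i` cofiltered limit of qcqs schemes with affine transition maps.  For `X`, `Y` over
`S_j` with `X` qcqs and `Y` locally of finite presentation, morphisms `X_S ⟶ Y_S` descend to some
stage and two morphisms at a stage which agree over `S` agree at a later stage
(`exists_hom_of_limit`, `exists_map_eq_of_limit`), from Mathlib's `AffineTransitionLimit`.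
For group schemes the descended morphism can be taken to be a homomorphism.
-/

set_option autoImplicit false
set_option backward.isDefEq.respectTransparency false
set_option backward.defeqAttrib.useBackward true
universe u

open CategoryTheory CategoryTheory.Limits AlgebraicGeometry MonoidalCategory
  CartesianMonoidalCategory MonObj GrpObj

namespace Groth.Agent.Lib.Seat87.GrpLim

variable {I : Type u} [SmallCategory I] (D : I ⥤ Scheme.{u}) (c : Cone D)

section Diagram

variable (j : I) (X : Over (D.obj j))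

/-- The diagram `k ↦ X ×_{D j} D k` indexed by `Over j`. -/
noncomputable def pbDiagram : Over j ⥤ Scheme.{u} where
  obj k := pullback X.hom (D.map k.hom)
  map {k k'} f := pullback.map X.hom (D.map k.hom) X.hom (D.map k'.hom) (𝟙 _) (D.map f.left) (𝟙 _)
    (by simp) (by rw [Category.comp_id, ← D.map_comp, Over.w f])
  map_id k := by apply pullback.hom_ext <;> simp
  map_comp f g := by apply pullback.hom_ext <;> simp

@[simp] lemma pbDiagram_obj (k : Over j) :
    (pbDiagram D j X).obj k = pullback X.hom (D.map k.hom) := rfl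

@[reassoc (attr := simp)] lemma pbDiagram_map_fst {k k' : Over j} (f : k ⟶ k') :
    (pbDiagram D j X).map f ≫ pullback.fst X.hom (D.map k'.hom) =
      pullback.fst X.hom (D.map k.hom) := by
  simp [pbDiagram]

@[reassoc (attr := simp)] lemma pbDiagram_map_snd {k k' : Over j} (f : k ⟶ k') :
    (pbDiagram D j X).map f ≫ pullback.snd X.hom (D.map k'.hom) =
      pullback.snd X.hom (D.map k.hom) ≫ D.map f.left := by
  simp [pbDiagram]

/-- The projection of the pullback diagram to the original diagram. -/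
noncomputable def pbDiagramι : pbDiagram D j X ⟶ Over.forget j ⋙ D where
  app k := pullback.snd X.hom (D.map k.hom)
  naturality k k' f := by simp

/-- The structure maps of the pullback diagram to the base `D j`. -/
noncomputable def pbDiagramBase : pbDiagram D j X ⟶ (Functor.const (Over j)).obj (D.obj j) where
  app k := pullback.snd X.hom (D.map k.hom) ≫ D.map k.hom
  naturality k k' f := by
    simp only [Functor.const_obj_obj, Functor.const_obj_map, Category.comp_id,
      pbDiagram_map_snd_assoc]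
    rw [← D.map_comp, Over.w f]

/-- The comparison map `X ×_{D j} lim D ⟶ X ×_{D j} D k`. -/
noncomputable def pbProj (k : Over j) :
    pullback X.hom (c.π.app j) ⟶ pullback X.hom (D.map k.hom) :=
  pullback.map X.hom (c.π.app j) X.hom (D.map k.hom) (𝟙 _) (c.π.app k.left) (𝟙 _)
    (by simp) (by simp)

@[reassoc (attr := simp)] lemma pbProj_fst (k : Over j) :
    pbProj D c j X k ≫ pullback.fst X.hom (D.map k.hom) = pullback.fst X.hom (c.π.app j) := by
  simp [pbProj]

@[reassoc (attr := simp)] lemma pbProj_snd (k : Over j) :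
    pbProj D c j X k ≫ pullback.snd X.hom (D.map k.hom) =
      pullback.snd X.hom (c.π.app j) ≫ c.π.app k.left := by
  simp [pbProj]

/-- The cone `X ×_{D j} lim D` over the pullback diagram. -/
noncomputable def pbCone : Cone (pbDiagram D j X) where
  pt := pullback X.hom (c.π.app j)
  π :=
    { app := fun k => pbProj D c j X k
      naturality := fun k k' f => by
        dsimp only [Functor.const_obj_obj, Functor.const_obj_map]
        rw [Category.id_comp]
        apply pullback.hom_ext
        · rw [Category.assoc, pbDiagram_map_fst, pbProj_fst, pbProj_fst]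
        · rw [Category.assoc, pbDiagram_map_snd, pbProj_snd_assoc, pbProj_snd, c.w] }

lemma isPullback_pbProj (k : Over j) :
    IsPullback (pbProj D c j X k) (pullback.snd X.hom (c.π.app j))
      (pullback.snd X.hom (D.map k.hom)) (c.π.app k.left) := by
  refine IsPullback.of_right ?_ (pbProj_snd D c j X k) (IsPullback.of_hasPullback X.hom (D.map k.hom))
  rw [pbProj_fst, c.w]
  exact IsPullback.of_hasPullback X.hom (c.π.app j)

lemma isPullback_pbDiagram_map {k k' : Over j} (f : k ⟶ k') :
    IsPullback ((pbDiagram D j X).map f) (pullback.snd X.hom (D.map k.hom))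
      (pullback.snd X.hom (D.map k'.hom)) (D.map f.left) := by
  refine IsPullback.of_right ?_ (pbDiagram_map_snd D j X f)
    (IsPullback.of_hasPullback X.hom (D.map k'.hom))
  rw [pbDiagram_map_fst, ← D.map_comp, Over.w f]
  exact IsPullback.of_hasPullback X.hom (D.map k.hom)

attribute [local instance] CategoryTheory.isConnected_of_hasTerminal

/-- `X ×_{D j} lim D` is the limit of the pullback diagram. -/
noncomputable def isLimitPbCone [IsCofiltered I] (hc : IsLimit c) : IsLimit (pbCone D c j X) :=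
  isLimitOfIsPullbackOfIsConnected (pbDiagramι D j X) (pbCone D c j X)
    (c.whisker (Over.forget j))
    { hom := pullback.snd X.hom (c.π.app j)
      w := fun k => (pbProj_snd D c j X k).symm }
    (fun k => isPullback_pbProj D c j X k)
    ((Functor.Initial.isLimitWhiskerEquiv (Over.forget j) c).symm hc)

instance [∀ (i i' : I) (f : i ⟶ i'), IsAffineHom (D.map f)] {k k' : Over j} (f : k ⟶ k') :
    IsAffineHom ((pbDiagram D j X).map f) :=
  MorphismProperty.of_isPullback (isPullback_pbDiagram_map D j X f).flip inferInstance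

instance [QuasiCompact X.hom] [CompactSpace (D.obj j)]
    [∀ (i i' : I) (f : i ⟶ i'), IsAffineHom (D.map f)] (k : Over j) :
    CompactSpace ((pbDiagram D j X).obj k) := by
  have : CompactSpace ↥(D.obj k.left) := QuasiCompact.compactSpace_of_compactSpace (D.map k.hom)
  dsimp; infer_instance

instance [QuasiSeparated X.hom] [QuasiSeparatedSpace (D.obj j)]
    [∀ (i i' : I) (f : i ⟶ i'), IsAffineHom (D.map f)] (k : Over j) :
    QuasiSeparatedSpace ((pbDiagram D j X).obj k) := by
  have : QuasiSeparatedSpace ↥(D.obj k.left) :=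
    quasiSeparatedSpace_of_quasiSeparated (D.map k.hom)
  dsimp
  exact quasiSeparatedSpace_of_quasiSeparated (pullback.snd X.hom (D.map k.hom))

end Diagram

section Spreading

variable [IsCofiltered I] [∀ (i i' : I) (f : i ⟶ i'), IsAffineHom (D.map f)]
  (hc : IsLimit c) (j : I) [CompactSpace (D.obj j)]

include hc in
/-- Injectivity, raw form: two maps `X ×_{D j} D k ⟶ Y` over `D j` which agree on
`X ×_{D j} lim D` agree on some `X ×_{D j} D k'`. -/
theorem exists_map_comp_eq (X : Over (D.obj j)) [QuasiCompact X.hom] {Y : Scheme.{u}}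
    (y : Y ⟶ D.obj j) [LocallyOfFiniteType y] (k : Over j)
    (a b : pullback X.hom (D.map k.hom) ⟶ Y)
    (ha : a ≫ y = pullback.snd X.hom (D.map k.hom) ≫ D.map k.hom)
    (hb : b ≫ y = pullback.snd X.hom (D.map k.hom) ≫ D.map k.hom)
    (hab : pbProj D c j X k ≫ a = pbProj D c j X k ≫ b) :
    ∃ (k' : Over j) (τ : k' ⟶ k), (pbDiagram D j X).map τ ≫ a = (pbDiagram D j X).map τ ≫ b :=
  Scheme.exists_hom_comp_eq_comp_of_locallyOfFiniteType (pbDiagram D j X) (pbDiagramBase D j X) y
    (pbCone D c j X) (isLimitPbCone D c j X hc) a b ha.symm hb.symm hab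

include hc in
/-- Surjectivity, raw form: a map `X ×_{D j} lim D ⟶ Y` over `D j` factors through some
`X ×_{D j} D k`. -/
theorem exists_map_of_limit [QuasiSeparatedSpace (D.obj j)] (X : Over (D.obj j))
    [QuasiCompact X.hom] [QuasiSeparated X.hom] {Y : Scheme.{u}}
    (y : Y ⟶ D.obj j) [LocallyOfFinitePresentation y]
    (a : pullback X.hom (c.π.app j) ⟶ Y)
    (ha : a ≫ y = pullback.snd X.hom (c.π.app j) ≫ c.π.app j) :
    ∃ (k : Over j) (g : pullback X.hom (D.map k.hom) ⟶ Y),
      pbProj D c j X k ≫ g = a ∧ g ≫ y = pullback.snd X.hom (D.map k.hom) ≫ D.map k.hom := by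
  refine Scheme.exists_π_app_comp_eq_of_locallyOfFinitePresentation (pbDiagram D j X)
    (pbDiagramBase D j X) y (pbCone D c j X) (isLimitPbCone D c j X hc) a ?_
  ext k : 2
  change pbProj D c j X k ≫ pullback.snd X.hom (D.map k.hom) ≫ D.map k.hom = a ≫ y
  rw [pbProj_snd_assoc, c.w, ha]

end Spreading

section Cmp

variable {T S' S : Scheme.{u}} (p : T ⟶ S') (q : S' ⟶ S) (X : Over S)

lemma pullbackComp_hom_app_left_fst :
    ((Over.pullbackComp p q).hom.app X).left ≫ pullback.fst (pullback.snd X.hom q) p ≫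
      pullback.fst X.hom q = pullback.fst X.hom (p ≫ q) := by
  simp [Over.pullbackComp, conjugateIsoEquiv, conjugateEquiv_apply_app]

lemma pullbackComp_inv_app_left_fst :
    ((Over.pullbackComp p q).inv.app X).left ≫ pullback.fst X.hom (p ≫ q) =
      pullback.fst (pullback.snd X.hom q) p ≫ pullback.fst X.hom q := by
  rw [← pullbackComp_hom_app_left_fst p q X, ← Over.comp_left_assoc, Iso.inv_hom_id_app]
  simp

lemma eqToHom_bc_left_fst {r r' : T ⟶ S} (h : r = r') :
    (eqToHom (congrArg (fun g => Red.bc g X) h)).left ≫ pullback.fst X.hom r' =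
      pullback.fst X.hom r := by
  subst h; simp

/-- The comparison iso `p^* q^* X ≅ r^* X` for `p ≫ q = r`. -/
noncomputable def cmpIso {r : T ⟶ S} (h : p ≫ q = r) :
    (Over.pullback p).obj (Red.bc q X) ≅ Red.bc r X :=
  ((Over.pullbackComp p q).app X).symm ≪≫ eqToIso (congrArg (fun g => Red.bc g X) h)

lemma cmpIso_hom_left_fst {r : T ⟶ S} (h : p ≫ q = r) :
    (cmpIso p q X h).hom.left ≫ pullback.fst X.hom r =
      pullback.fst (pullback.snd X.hom q) p ≫ pullback.fst X.hom q := by
  simp only [cmpIso, Iso.trans_hom, Iso.symm_hom, Iso.app_inv, eqToIso.hom, Over.comp_left,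
    Category.assoc]
  rw [eqToHom_bc_left_fst X h, pullbackComp_inv_app_left_fst]

lemma cmpIso_hom_left_snd {r : T ⟶ S} (h : p ≫ q = r) :
    (cmpIso p q X h).hom.left ≫ pullback.snd X.hom r = pullback.snd (pullback.snd X.hom q) p :=
  Over.w (cmpIso p q X h).hom

end Cmp

section LemmaM

variable {C D' : Type*} [Category C] [Category D'] [CartesianMonoidalCategory C]
  [CartesianMonoidalCategory D'] (F : C ⥤ D') [F.Monoidal] {G H : C} [GrpObj G] [GrpObj H]

/-- Multiplicativity on the universal pair of points implies `IsMonHom`. -/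
lemma isMonHom_of_mul {A B : D'} [GrpObj A] [GrpObj B] (w : A ⟶ B)
    (h : (fst A A * snd A A) ≫ w = (fst A A ≫ w) * (snd A A ≫ w)) : IsMonHom w := by
  have hpt : ∀ {X : D'} (x y : X ⟶ A), (x * y) ≫ w = (x ≫ w) * (y ≫ w) := by
    intro X x y
    have := congrArg (fun z => lift x y ≫ z) h
    simpa [MonObj.comp_mul, ← Category.assoc] using this
  refine ⟨?_, ?_⟩
  · have h1 := hpt (1 : 𝟙_ D' ⟶ A) 1
    rw [_root_.mul_one] at h1
    rw [MonObj.one_eq_one, MonObj.one_eq_one]
    exact mul_left_cancel (a := (1 : 𝟙_ D' ⟶ A) ≫ w) (by rw [_root_.mul_one]; exact h1.symm)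
  · rw [MonObj.mul_eq_mul, h, Hom.mul_def]
    congr 1
    ext <;> simp

open scoped Obj in
lemma isMonHom_iff (w : F.obj G ⟶ F.obj H) :
    IsMonHom w ↔ (F.map (fst G G) * F.map (snd G G)) ≫ w =
      (F.map (fst G G) ≫ w) * (F.map (snd G G) ≫ w) := by
  constructor
  · intro _
    exact MonObj.mul_comp _ _ w
  · intro h
    apply isMonHom_of_mul
    have := congrArg (fun z => Functor.LaxMonoidal.μ F G G ≫ z) h
    simpa [MonObj.comp_mul, ← Category.assoc, Functor.Monoidal.μ_fst, Functor.Monoidal.μ_snd]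
      using this

end LemmaM

section Trans

open Groth.Agent.Lib.Seat87.NilpSolv

variable {S T T' : Scheme.{u}} (G H : Over S) [GrpObj G] [GrpObj H]

omit [GrpObj G] in
lemma adjHom_left (q : T ⟶ S) (X : Over T) (x : X ⟶ Red.bc q H) :
    (adjHom q H X x).left = x.left ≫ pullback.fst H.hom q := rfl

/-- The canonical map `X ×_S T' ⟶ X ×_S T`. -/
noncomputable def θ (X : Over S) (q : T ⟶ S) (r : T' ⟶ T) (q' : T' ⟶ S) (hq : r ≫ q = q') :
    pullback X.hom q' ⟶ pullback X.hom q :=
  pullback.map X.hom q' X.hom q (𝟙 _) r (𝟙 _) (by simp) (by simp [hq])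

variable (q : T ⟶ S) (r : T' ⟶ T) (q' : T' ⟶ S) (hq : r ≫ q = q')

@[reassoc (attr := simp)] lemma θ_fst (X : Over S) :
    θ X q r q' hq ≫ pullback.fst X.hom q = pullback.fst X.hom q' := by simp [θ]

@[reassoc (attr := simp)] lemma θ_snd (X : Over S) :
    θ X q r q' hq ≫ pullback.snd X.hom q = pullback.snd X.hom q' ≫ r := by simp [θ]

@[reassoc] lemma θ_naturality {X Y : Over S} (m : X ⟶ Y) :
    θ X q r q' hq ≫ ((Over.pullback q).map m).left =
      ((Over.pullback q').map m).left ≫ θ Y q r q' hq := by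
  apply pullback.hom_ext <;> simp

/-- `L`: the product of the two universal points, followed by `w`. -/
noncomputable def Lw (w : Red.bc q G ⟶ Red.bc q H) : Red.bc q (G ⊗ G) ⟶ Red.bc q H :=
  ((Over.pullback q).map (fst G G) * (Over.pullback q).map (snd G G)) ≫ w

/-- `R`: the product of the images of the two universal points. -/
noncomputable def Rw (w : Red.bc q G ⟶ Red.bc q H) : Red.bc q (G ⊗ G) ⟶ Red.bc q H :=
  ((Over.pullback q).map (fst G G) ≫ w) * ((Over.pullback q).map (snd G G) ≫ w)

lemma isMonHom_iff_Lw_eq_Rw (w : Red.bc q G ⟶ Red.bc q H) :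
    IsMonHom w ↔ Lw G H q w = Rw G H q w :=
  isMonHom_iff (Over.pullback q) w

variable (w : Red.bc q G ⟶ Red.bc q H) (w' : Red.bc q' G ⟶ Red.bc q' H)
  (hww : θ G q r q' hq ≫ w.left ≫ pullback.fst H.hom q = w'.left ≫ pullback.fst H.hom q')

include hww in
omit [GrpObj H] in
lemma θ_Lw : θ (G ⊗ G) q r q' hq ≫ (Lw G H q w).left ≫ pullback.fst H.hom q =
    (Lw G H q' w').left ≫ pullback.fst H.hom q' := by
  have e1 : (Over.pullback q).map (fst G G) * (Over.pullback q).map (snd G G) =
      (Over.pullback q).map (μ[G]) := by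
    rw [MonObj.mul_eq_mul, Functor.map_mul]
  have e2 : (Over.pullback q').map (fst G G) * (Over.pullback q').map (snd G G) =
      (Over.pullback q').map (μ[G]) := by
    rw [MonObj.mul_eq_mul, Functor.map_mul]
  simp only [Lw, e1, e2, Over.comp_left, Category.assoc]
  rw [θ_naturality_assoc, hww]

/-- `θ` as a morphism over `S`. -/
noncomputable def Θ (X : Over S) :
    (Over.map q').obj (Red.bc q' X) ⟶ (Over.map q).obj (Red.bc q X) :=
  Over.homMk (θ X q r q' hq) (by
    simp only [Over.map_obj_hom, Over.pullback_obj_hom]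
    rw [θ_snd_assoc, hq])

include hww in
omit [GrpObj G] in
lemma Θ_adjHom {X : Over S} (m : X ⟶ G) :
    Θ q r q' hq X ≫ adjHom q H _ ((Over.pullback q).map m ≫ w) =
      adjHom q' H _ ((Over.pullback q').map m ≫ w') := by
  ext
  simp only [Over.comp_left, adjHom_left, Θ, Over.homMk_left, Category.assoc]
  rw [θ_naturality_assoc, hww]

include hww in
lemma θ_Rw : θ (G ⊗ G) q r q' hq ≫ (Rw G H q w).left ≫ pullback.fst H.hom q =
    (Rw G H q' w').left ≫ pullback.fst H.hom q' := by
  have h1 : (Rw G H q w).left ≫ pullback.fst H.hom q =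
      (adjHom q H _ (Rw G H q w)).left := rfl
  have h2 : (Rw G H q' w').left ≫ pullback.fst H.hom q' =
      (adjHom q' H _ (Rw G H q' w')).left := rfl
  rw [h1, h2]
  have h3 : θ (G ⊗ G) q r q' hq ≫ (adjHom q H _ (Rw G H q w)).left =
      (Θ q r q' hq (G ⊗ G) ≫ adjHom q H _ (Rw G H q w)).left := rfl
  rw [h3]
  congr 1
  simp only [Rw, map_mul, MonObj.comp_mul]
  rw [Θ_adjHom G H q r q' hq w w' hww, Θ_adjHom G H q r q' hq w w' hww]

end Trans

section Main

variable {S T : Scheme.{u}}

/-- The morphism `q^* X ⟶ q^* Y` attached to a map `X ×_S T ⟶ Y` over `S`. -/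
noncomputable def ofMap {X Y : Over S} (q : T ⟶ S) (g : pullback X.hom q ⟶ Y.left)
    (hg : g ≫ Y.hom = pullback.snd X.hom q ≫ q) : Red.bc q X ⟶ Red.bc q Y :=
  Over.homMk (pullback.lift g (pullback.snd X.hom q) hg) (by simp)

@[simp] lemma ofMap_left_fst {X Y : Over S} (q : T ⟶ S) (g : pullback X.hom q ⟶ Y.left)
    (hg : g ≫ Y.hom = pullback.snd X.hom q ≫ q) :
    (ofMap q g hg).left ≫ pullback.fst Y.hom q = g := by
  simp [ofMap]

lemma bc_hom_left_fst_comp {X Y : Over S} (q : T ⟶ S) (z : Red.bc q X ⟶ Red.bc q Y) :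
    (z.left ≫ pullback.fst Y.hom q) ≫ Y.hom = pullback.snd X.hom q ≫ q := by
  rw [Category.assoc, pullback.condition, ← Category.assoc]
  congr 1
  exact Over.w z

lemma bc_hom_ext {Y : Over S} (q : T ⟶ S) {Z : Over T} (z z' : Z ⟶ Red.bc q Y)
    (h : z.left ≫ pullback.fst Y.hom q = z'.left ≫ pullback.fst Y.hom q) : z = z' := by
  ext
  apply pullback.hom_ext h
  exact (Over.w z).trans (Over.w z').symm

instance quasiCompact_tensorObj (X Y : Over S) [QuasiCompact X.hom] [QuasiCompact Y.hom] :
    QuasiCompact (X ⊗ Y).hom := by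
  rw [Over.tensorObj_hom]
  infer_instance

variable [IsCofiltered I] [∀ (i i' : I) (f : i ⟶ i'), IsAffineHom (D.map f)]
  (hc : IsLimit c) (j : I) [CompactSpace (D.obj j)] [QuasiSeparatedSpace (D.obj j)]

include hc in
/-- Injectivity: two morphisms at a stage which agree over the limit agree at a later stage. -/
theorem exists_map_eq_of_limit (i : I) [CompactSpace (D.obj i)] (X Y : Over (D.obj i))
    [QuasiCompact X.hom]
    [LocallyOfFiniteType Y.hom] (u₁ u₂ : X ⟶ Y)
    (h : (Over.pullback (c.π.app i)).map u₁ = (Over.pullback (c.π.app i)).map u₂) :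
    ∃ (i' : I) (g : i' ⟶ i), (Over.pullback (D.map g)).map u₁ = (Over.pullback (D.map g)).map u₂ := by
  have hfst : pullback.fst X.hom (c.π.app i) ≫ u₁.left = pullback.fst X.hom (c.π.app i) ≫ u₂.left := by
    have := congrArg (fun z => z.left ≫ pullback.fst Y.hom (c.π.app i)) h
    simpa using this
  obtain ⟨k', τ, hτ⟩ := exists_map_comp_eq D c hc i X Y.hom (Over.mk (𝟙 i))
    (pullback.fst X.hom (D.map (Over.mk (𝟙 i)).hom) ≫ u₁.left)
    (pullback.fst X.hom (D.map (Over.mk (𝟙 i)).hom) ≫ u₂.left)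
    (by rw [Category.assoc, Over.w u₁, pullback.condition])
    (by rw [Category.assoc, Over.w u₂, pullback.condition])
    (by rw [pbProj_fst_assoc, pbProj_fst_assoc, hfst])
  rw [pbDiagram_map_fst_assoc, pbDiagram_map_fst_assoc] at hτ
  refine ⟨k'.left, k'.hom, ?_⟩
  apply bc_hom_ext
  simpa using hτ

include hc in
/-- Homomorphisms of finitely presented group schemes over the limit descend to a stage. -/
theorem exists_hom_of_limit (Gj Hj : Over (D.obj j)) [GrpObj Gj] [GrpObj Hj]
    [QuasiCompact Gj.hom] [QuasiSeparated Gj.hom] [LocallyOfFinitePresentation Hj.hom]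
    (u : Red.bc (c.π.app j) Gj ⟶ Red.bc (c.π.app j) Hj) (hu : IsMonHom u) :
    ∃ (i : I) (f : i ⟶ j) (ui : Red.bc (D.map f) Gj ⟶ Red.bc (D.map f) Hj), IsMonHom ui ∧
      (Over.pullback (c.π.app i)).map ui =
        (cmpIso (c.π.app i) (D.map f) Gj (c.w f)).hom ≫ u ≫
          (cmpIso (c.π.app i) (D.map f) Hj (c.w f)).inv := by
  -- descend the underlying map
  obtain ⟨k, g, hg1, hg2⟩ := exists_map_of_limit D c hc j Gj Hj.hom
    (u.left ≫ pullback.fst Hj.hom (c.π.app j)) (bc_hom_left_fst_comp _ u)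
  set wk : Red.bc (D.map k.hom) Gj ⟶ Red.bc (D.map k.hom) Hj := ofMap (D.map k.hom) g hg2
    with hwk
  have hcompat : θ Gj (D.map k.hom) (c.π.app k.left) (c.π.app j) (c.w k.hom) ≫
      wk.left ≫ pullback.fst Hj.hom (D.map k.hom) =
        u.left ≫ pullback.fst Hj.hom (c.π.app j) := by
    rw [hwk, ofMap_left_fst]
    exact hg1
  -- the multiplicativity equation holds over the limit
  have hLR : Lw Gj Hj (c.π.app j) u = Rw Gj Hj (c.π.app j) u :=
    (isMonHom_iff_Lw_eq_Rw Gj Hj (c.π.app j) u).1 hu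
  have hk : pbProj D c j (Gj ⊗ Gj) k ≫
        ((Lw Gj Hj (D.map k.hom) wk).left ≫ pullback.fst Hj.hom (D.map k.hom)) =
      pbProj D c j (Gj ⊗ Gj) k ≫
        ((Rw Gj Hj (D.map k.hom) wk).left ≫ pullback.fst Hj.hom (D.map k.hom)) := by
    have h1 := θ_Lw Gj Hj (D.map k.hom) (c.π.app k.left) (c.π.app j) (c.w k.hom) wk u hcompat
    have h2 := θ_Rw Gj Hj (D.map k.hom) (c.π.app k.left) (c.π.app j) (c.w k.hom) wk u hcompat
    exact h1.trans ((congrArg (fun z => z.left ≫ pullback.fst Hj.hom (c.π.app j)) hLR).trans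
      h2.symm)
  obtain ⟨k', τ, hτ⟩ := exists_map_comp_eq D c hc j (Gj ⊗ Gj) Hj.hom k _ _
    (bc_hom_left_fst_comp _ (Lw Gj Hj (D.map k.hom) wk))
    (bc_hom_left_fst_comp _ (Rw Gj Hj (D.map k.hom) wk)) hk
  -- the descended map at the later stage
  have hg' : ((pbDiagram D j Gj).map τ ≫ g) ≫ Hj.hom =
      pullback.snd Gj.hom (D.map k'.hom) ≫ D.map k'.hom := by
    rw [Category.assoc, hg2, pbDiagram_map_snd_assoc, ← D.map_comp, Over.w τ]
  set wk' : Red.bc (D.map k'.hom) Gj ⟶ Red.bc (D.map k'.hom) Hj :=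
    ofMap (D.map k'.hom) ((pbDiagram D j Gj).map τ ≫ g) hg' with hwk'
  have hq' : D.map τ.left ≫ D.map k.hom = D.map k'.hom := by rw [← D.map_comp, Over.w τ]
  have hcompat' : θ Gj (D.map k.hom) (D.map τ.left) (D.map k'.hom) hq' ≫
      wk.left ≫ pullback.fst Hj.hom (D.map k.hom) =
        wk'.left ≫ pullback.fst Hj.hom (D.map k'.hom) := by
    rw [hwk, hwk', ofMap_left_fst, ofMap_left_fst]
    rfl
  have hLR' : Lw Gj Hj (D.map k'.hom) wk' = Rw Gj Hj (D.map k'.hom) wk' := by
    apply bc_hom_ext
    have h1 := θ_Lw Gj Hj (D.map k.hom) (D.map τ.left) (D.map k'.hom) hq' wk wk' hcompat'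
    have h2 := θ_Rw Gj Hj (D.map k.hom) (D.map τ.left) (D.map k'.hom) hq' wk wk' hcompat'
    exact h1.symm.trans (hτ.trans h2)
  refine ⟨k'.left, k'.hom, wk', (isMonHom_iff_Lw_eq_Rw Gj Hj (D.map k'.hom) wk').2 hLR', ?_⟩
  -- compatibility with `u`
  rw [← Category.assoc, Iso.eq_comp_inv]
  apply bc_hom_ext
  have hproj : (cmpIso (c.π.app k'.left) (D.map k'.hom) Gj (c.w k'.hom)).hom.left ≫
      pbProj D c j Gj k' =
        pullback.fst (pullback.snd Gj.hom (D.map k'.hom)) (c.π.app k'.left) := by
    apply pullback.hom_ext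
    · rw [Category.assoc, pbProj_fst, cmpIso_hom_left_fst]
    · rw [Category.assoc, pbProj_snd, ← Category.assoc, cmpIso_hom_left_snd, pullback.condition]
  have hg1' : pbProj D c j Gj k' ≫ (pbDiagram D j Gj).map τ ≫ g =
      u.left ≫ pullback.fst Hj.hom (c.π.app j) := by
    rw [← hg1, ← Category.assoc]
    congr 1
    exact (pbCone D c j Gj).w τ
  simp only [Over.comp_left, Category.assoc]
  rw [cmpIso_hom_left_fst, ← hg1', ← Category.assoc (cmpIso _ _ _ _).hom.left, hproj]
  simp [hwk']

end Main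

end Groth.Agent.Lib.Seat87.GrpLim
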