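import Groth.Agent.Lib.Seat87GrpLim
import Groth.Prelude.Def_AlgGrp

/-!
# Monomorphisms, normal and central subgroups over a cofiltered limit (helper87)

Continuation of `Seat87GrpLim`: base change `bcMap` of morphisms `q^* X ⟶ q^* Y` along a further
map `r`, compatibility with the group laws, and the descent of "mono + normal" and
"mono + central" for a homomorphism of finitely presented group schemes from the limit to a stage.
-/

set_option autoImplicit false
set_option backward.isDefEq.respectTransparency false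
set_option backward.defeqAttrib.useBackward true
universe u

open CategoryTheory CategoryTheory.Limits AlgebraicGeometry MonoidalCategory
  CartesianMonoidalCategory MonObj GrpObj

namespace Groth.Agent.Lib.Seat87.GrpLim

open Groth.Agent.Lib.Seat87.NilpSolv

section BcMap

variable {S T T' : Scheme.{u}} (q : T ⟶ S) (r : T' ⟶ T) (q' : T' ⟶ S) (hq : r ≫ q = q')

/-- Base change along `r` of a morphism `q^* X ⟶ q^* Y`. -/
noncomputable def bcMap {X Y : Over S} (z : Red.bc q X ⟶ Red.bc q Y) :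
    Red.bc q' X ⟶ Red.bc q' Y :=
  ofMap q' (θ X q r q' hq ≫ z.left ≫ pullback.fst Y.hom q) (by
    rw [Category.assoc, bc_hom_left_fst_comp q z, θ_snd_assoc, hq])

@[simp] lemma bcMap_left_fst {X Y : Over S} (z : Red.bc q X ⟶ Red.bc q Y) :
    (bcMap q r q' hq z).left ≫ pullback.fst Y.hom q' =
      θ X q r q' hq ≫ z.left ≫ pullback.fst Y.hom q := by
  simp [bcMap]

@[reassoc] lemma bcMap_left_θ {X Y : Over S} (z : Red.bc q X ⟶ Red.bc q Y) :
    (bcMap q r q' hq z).left ≫ θ Y q r q' hq = θ X q r q' hq ≫ z.left := by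
  apply pullback.hom_ext
  · rw [Category.assoc, θ_fst, bcMap_left_fst, Category.assoc]
  · rw [Category.assoc, θ_snd, ← Category.assoc, Category.assoc (θ X q r q' hq)]
    have h1 : (bcMap q r q' hq z).left ≫ pullback.snd Y.hom q' = pullback.snd X.hom q' :=
      Over.w (bcMap q r q' hq z)
    have h2 : z.left ≫ pullback.snd Y.hom q = pullback.snd X.hom q := Over.w z
    rw [h1, h2, θ_snd]

lemma bcMap_map {X Y : Over S} (m : X ⟶ Y) :
    bcMap q r q' hq ((Over.pullback q).map m) = (Over.pullback q').map m := by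
  apply bc_hom_ext
  simp

lemma bcMap_comp {X Y Z : Over S} (z : Red.bc q X ⟶ Red.bc q Y) (z' : Red.bc q Y ⟶ Red.bc q Z) :
    bcMap q r q' hq (z ≫ z') = bcMap q r q' hq z ≫ bcMap q r q' hq z' := by
  apply bc_hom_ext
  rw [bcMap_left_fst]
  simp only [Over.comp_left, Category.assoc]
  rw [bcMap_left_fst, bcMap_left_θ_assoc]

lemma adjHom_bcMap {X : Over S} (H : Over S) [GrpObj H] (z : Red.bc q X ⟶ Red.bc q H) :
    adjHom q' H _ (bcMap q r q' hq z) = Θ q r q' hq X ≫ adjHom q H _ z := by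
  ext
  simp only [adjHom_left, Over.comp_left, Θ, Over.homMk_left, bcMap_left_fst]

lemma bcMap_mul {X : Over S} (H : Over S) [GrpObj H] (z z' : Red.bc q X ⟶ Red.bc q H) :
    bcMap q r q' hq (z * z') = bcMap q r q' hq z * bcMap q r q' hq z' := by
  apply adjHom_injective q' H
  rw [map_mul, adjHom_bcMap, adjHom_bcMap, adjHom_bcMap, map_mul, MonObj.comp_mul]

/-- `bcMap` as a group homomorphism. -/
noncomputable def bcMapHom (X H : Over S) [GrpObj H] :
    (Red.bc q X ⟶ Red.bc q H) →* (Red.bc q' X ⟶ Red.bc q' H) :=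
  MonoidHom.mk' (bcMap q r q' hq) (bcMap_mul q r q' hq H)

lemma bcMapHom_apply (X H : Over S) [GrpObj H] (z : Red.bc q X ⟶ Red.bc q H) :
    bcMapHom q r q' hq X H z = bcMap q r q' hq z := rfl

lemma bcMap_inv {X : Over S} (H : Over S) [GrpObj H] (z : Red.bc q X ⟶ Red.bc q H) :
    bcMap q r q' hq z⁻¹ = (bcMap q r q' hq z)⁻¹ :=
  map_inv (bcMapHom q r q' hq X H) z

include hq in
/-- An equation between base changes of two morphisms persists under further base change. -/
lemma map_eq_transfer {X Y : Over S} (a b : X ⟶ Y)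
    (h : (Over.pullback q).map a = (Over.pullback q).map b) :
    (Over.pullback q').map a = (Over.pullback q').map b := by
  rw [← bcMap_map q r q' hq a, ← bcMap_map q r q' hq b, h]

end BcMap

section Props

variable {S T : Scheme.{u}} (q : T ⟶ S) {G H : Over S} [GrpObj G] [GrpObj H] (uj : H ⟶ G)

omit [GrpObj G] [GrpObj H] in
/-- A base change of `uj` is a monomorphism iff the base changes of the two projections of its
kernel pair coincide. -/
lemma mono_map_iff :
    Mono ((Over.pullback q).map uj) ↔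
      (Over.pullback q).map (pullback.fst uj uj) = (Over.pullback q).map (pullback.snd uj uj) := by
  have sq := (Over.pullback q).map_isPullback (IsPullback.of_hasPullback uj uj)
  rw [mono_iff_fst_eq_snd sq.isLimit]
  simp

omit [GrpObj G] [GrpObj H] in
lemma quasiCompact_kernelPair [QuasiCompact H.hom] [QuasiSeparated G.hom] :
    QuasiCompact (pullback uj uj).hom := by
  have sq := (Over.forget S).map_isPullback (IsPullback.of_hasPullback uj uj)
  have h1 : QuasiCompact uj.left := by
    have : QuasiCompact (uj.left ≫ G.hom) := by rw [Over.w uj]; infer_instance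
    exact QuasiCompact.of_comp uj.left G.hom
  have h2 : QuasiCompact (pullback.fst uj uj).left :=
    MorphismProperty.of_isPullback (P := @QuasiCompact) sq.flip h1
  rw [← Over.w (pullback.fst uj uj)]
  infer_instance

/-- The conjugation morphism `(g, n) ↦ g n g⁻¹` of `G ⊗ H` to `G`. -/
noncomputable def conjMap : G ⊗ H ⟶ G := fst G H * (snd G H ≫ uj) * (fst G H)⁻¹

/-- `(g, n) ↦ g n`. -/
noncomputable def mulL : G ⊗ H ⟶ G := fst G H * (snd G H ≫ uj)

/-- `(g, n) ↦ n g`. -/
noncomputable def mulR : G ⊗ H ⟶ G := (snd G H ≫ uj) * fst G H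

omit [GrpObj G] [GrpObj H] in
/-- every pair of points of `q^* G`, `q^* H` comes from a point of `q^* (G ⊗ H)` -/
lemma exists_point {X : Over T} (g : X ⟶ Red.bc q G) (n : X ⟶ Red.bc q H) :
    ∃ t : X ⟶ Red.bc q (G ⊗ H), t ≫ (Over.pullback q).map (fst G H) = g ∧
      t ≫ (Over.pullback q).map (snd G H) = n := by
  refine ⟨lift g n ≫ Functor.LaxMonoidal.μ (Over.pullback q) G H, ?_, ?_⟩
  · rw [Category.assoc, Functor.Monoidal.μ_fst, lift_fst]
  · rw [Category.assoc, Functor.Monoidal.μ_snd, lift_snd]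

/-- centrality of the image of a base change of `uj`, on universal points -/
lemma central_iff :
    (∀ (X : Over T) (g : X ⟶ Red.bc q G) (n : X ⟶ Red.bc q H),
      g * (n ≫ (Over.pullback q).map uj) = (n ≫ (Over.pullback q).map uj) * g) ↔
      (Over.pullback q).map (mulL uj) = (Over.pullback q).map (mulR uj) := by
  have e1 : (Over.pullback q).map (mulL uj) = (Over.pullback q).map (fst G H) *
      ((Over.pullback q).map (snd G H) ≫ (Over.pullback q).map uj) := by
    rw [mulL, Functor.map_mul, Functor.map_comp]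
  have e2 : (Over.pullback q).map (mulR uj) =
      ((Over.pullback q).map (snd G H) ≫ (Over.pullback q).map uj) *
        (Over.pullback q).map (fst G H) := by
    rw [mulR, Functor.map_mul, Functor.map_comp]
  constructor
  · intro h
    rw [e1, e2]
    exact h _ _ _
  · intro h X g n
    obtain ⟨t, rfl, rfl⟩ := exists_point q g n
    have := congrArg (fun z => t ≫ z) h
    simp only [e1, e2, MonObj.comp_mul] at this
    exact this

/-- normality of a base change of `uj`, on universal points -/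
lemma normal_iff :
    AlgGrp.IsNormalHom ((Over.pullback q).map uj) ↔
      ∃ ν : Red.bc q (G ⊗ H) ⟶ Red.bc q H,
        (Over.pullback q).map (conjMap uj) = ν ≫ (Over.pullback q).map uj := by
  have e1 : (Over.pullback q).map (conjMap uj) = (Over.pullback q).map (fst G H) *
      ((Over.pullback q).map (snd G H) ≫ (Over.pullback q).map uj) *
        ((Over.pullback q).map (fst G H))⁻¹ := by
    rw [conjMap, Functor.map_mul, Functor.map_mul, Functor.map_comp, Functor.map_inv']
  constructor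
  · intro h
    obtain ⟨ν, hν⟩ := h _ ((Over.pullback q).map (fst G H)) ((Over.pullback q).map (snd G H))
    exact ⟨ν, by rw [e1, hν]⟩
  · rintro ⟨ν, hν⟩ X g n
    obtain ⟨t, rfl, rfl⟩ := exists_point q g n
    refine ⟨t ≫ ν, ?_⟩
    have := congrArg (fun z => t ≫ z) hν
    simp only [e1, MonObj.comp_mul, GrpObj.comp_inv] at this
    rw [Category.assoc]
    exact this

end Props

section Transfer

variable {S T T' : Scheme.{u}} (q : T ⟶ S) (r : T' ⟶ T) (q' : T' ⟶ S) (hq : r ≫ q = q')
  {G H : Over S} [GrpObj G] [GrpObj H] (uj : H ⟶ G)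

include hq in
lemma normal_transfer
    (h : ∃ ν : Red.bc q (G ⊗ H) ⟶ Red.bc q H,
      (Over.pullback q).map (conjMap uj) = ν ≫ (Over.pullback q).map uj) :
    ∃ ν : Red.bc q' (G ⊗ H) ⟶ Red.bc q' H,
      (Over.pullback q').map (conjMap uj) = ν ≫ (Over.pullback q').map uj := by
  obtain ⟨ν, hν⟩ := h
  refine ⟨bcMap q r q' hq ν, ?_⟩
  rw [← bcMap_map q r q' hq (conjMap uj), hν, bcMap_comp, bcMap_map]

end Transfer

section Limit

variable {I : Type u} [SmallCategory I] (D : I ⥤ Scheme.{u}) (c : Cone D)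
  [IsCofiltered I] [∀ (i i' : I) (f : i ⟶ i'), IsAffineHom (D.map f)]
  (hc : IsLimit c) (j : I) [CompactSpace (D.obj j)] [QuasiSeparatedSpace (D.obj j)]
  (Gj Hj : Over (D.obj j)) [GrpObj Gj] [GrpObj Hj] (uj : Hj ⟶ Gj)

include hc in
/-- Normality over the limit descends to a stage. -/
lemma exists_normal_of_limit [QuasiCompact Gj.hom] [QuasiSeparated Gj.hom] [QuasiCompact Hj.hom]
    [QuasiSeparated Hj.hom] [LocallyOfFinitePresentation Hj.hom] [LocallyOfFiniteType Gj.hom]
    (h : ∃ ν : Red.bc (c.π.app j) (Gj ⊗ Hj) ⟶ Red.bc (c.π.app j) Hj,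
      (Over.pullback (c.π.app j)).map (conjMap uj) = ν ≫ (Over.pullback (c.π.app j)).map uj) :
    ∃ (k : Over j) (ν : Red.bc (D.map k.hom) (Gj ⊗ Hj) ⟶ Red.bc (D.map k.hom) Hj),
      (Over.pullback (D.map k.hom)).map (conjMap uj) = ν ≫ (Over.pullback (D.map k.hom)).map uj := by
  obtain ⟨ν, hν⟩ := h
  have : QuasiSeparated (Gj ⊗ Hj).hom := by
    rw [Over.tensorObj_hom]; infer_instance
  obtain ⟨k, g, hg1, hg2⟩ := exists_map_of_limit D c hc j (Gj ⊗ Hj) Hj.hom
    (ν.left ≫ pullback.fst Hj.hom (c.π.app j)) (bc_hom_left_fst_comp _ ν)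
  set νk : Red.bc (D.map k.hom) (Gj ⊗ Hj) ⟶ Red.bc (D.map k.hom) Hj :=
    ofMap (D.map k.hom) g hg2 with hνk
  set A := (Over.pullback (D.map k.hom)).map (conjMap uj) with hA
  set B := νk ≫ (Over.pullback (D.map k.hom)).map uj with hB
  have hν' : bcMap (D.map k.hom) (c.π.app k.left) (c.π.app j) (c.w k.hom) νk = ν := by
    apply bc_hom_ext
    rw [bcMap_left_fst, hνk, ofMap_left_fst]
    exact hg1
  have hAB : bcMap (D.map k.hom) (c.π.app k.left) (c.π.app j) (c.w k.hom) A =
      bcMap (D.map k.hom) (c.π.app k.left) (c.π.app j) (c.w k.hom) B := by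
    rw [hA, hB, bcMap_map, bcMap_comp, bcMap_map, hν', hν]
  have hk : pbProj D c j (Gj ⊗ Hj) k ≫ (A.left ≫ pullback.fst Gj.hom (D.map k.hom)) =
      pbProj D c j (Gj ⊗ Hj) k ≫ (B.left ≫ pullback.fst Gj.hom (D.map k.hom)) := by
    have := congrArg (fun z => z.left ≫ pullback.fst Gj.hom (c.π.app j)) hAB
    simp only [bcMap_left_fst] at this
    exact this
  obtain ⟨k', τ, hτ⟩ := exists_map_comp_eq D c hc j (Gj ⊗ Hj) Gj.hom k _ _
    (bc_hom_left_fst_comp _ A) (bc_hom_left_fst_comp _ B) hk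
  have hq' : D.map τ.left ≫ D.map k.hom = D.map k'.hom := by rw [← D.map_comp, Over.w τ]
  refine ⟨k', bcMap (D.map k.hom) (D.map τ.left) (D.map k'.hom) hq' νk, ?_⟩
  have hAB' : bcMap (D.map k.hom) (D.map τ.left) (D.map k'.hom) hq' A =
      bcMap (D.map k.hom) (D.map τ.left) (D.map k'.hom) hq' B := by
    apply bc_hom_ext
    rw [bcMap_left_fst, bcMap_left_fst]
    exact hτ
  rwa [hA, hB, bcMap_map, bcMap_comp, bcMap_map] at hAB'

variable [QuasiCompact Gj.hom] [QuasiSeparated Gj.hom] [LocallyOfFinitePresentation Gj.hom]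
  [QuasiCompact Hj.hom] [QuasiSeparated Hj.hom] [LocallyOfFinitePresentation Hj.hom]

include hc in
/-- Monomorphy of the base change over the limit is equivalent to monomorphy at a stage,
in `Over j`-indexed form. -/
lemma mono_limit_iff :
    Mono ((Over.pullback (c.π.app j)).map uj) ↔
      ∃ k : Over j, Mono ((Over.pullback (D.map k.hom)).map uj) := by
  constructor
  · intro hm
    have := quasiCompact_kernelPair uj
    obtain ⟨i₁, g₁, h₁⟩ := exists_map_eq_of_limit D c hc j (pullback uj uj) Hj _ _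
      ((mono_map_iff (c.π.app j) uj).1 hm)
    exact ⟨Over.mk g₁, (mono_map_iff _ uj).2 h₁⟩
  · rintro ⟨k, hk⟩
    exact (mono_map_iff _ uj).2 (map_eq_transfer (D.map k.hom) (c.π.app k.left) (c.π.app j)
      (c.w k.hom) _ _ ((mono_map_iff _ uj).1 hk))

omit [IsCofiltered I] [∀ (i i' : I) (f : i ⟶ i'), IsAffineHom (D.map f)]
  [CompactSpace (D.obj j)] [QuasiSeparatedSpace (D.obj j)]
  [GrpObj Gj] [GrpObj Hj] [QuasiCompact Gj.hom] [QuasiSeparated Gj.hom]
  [LocallyOfFinitePresentation Gj.hom]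
  [QuasiCompact Hj.hom] [QuasiSeparated Hj.hom] [LocallyOfFinitePresentation Hj.hom] in
lemma mono_stage_mono {k k' : Over j} (τ : k' ⟶ k)
    (h : Mono ((Over.pullback (D.map k.hom)).map uj)) :
    Mono ((Over.pullback (D.map k'.hom)).map uj) :=
  (mono_map_iff _ uj).2 (map_eq_transfer (D.map k.hom) (D.map τ.left) (D.map k'.hom)
    (by rw [← D.map_comp, Over.w τ]) _ _ ((mono_map_iff _ uj).1 h))

include hc in
theorem mono_normal_limit_iff :
    (Mono ((Over.pullback (c.π.app j)).map uj) ∧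
        AlgGrp.IsNormalHom ((Over.pullback (c.π.app j)).map uj)) ↔
      ∃ (i : I) (f : i ⟶ j), Mono ((Over.pullback (D.map f)).map uj) ∧
        AlgGrp.IsNormalHom ((Over.pullback (D.map f)).map uj) := by
  constructor
  · rintro ⟨hm, hn⟩
    obtain ⟨k₁, h₁⟩ := (mono_limit_iff D c hc j Gj Hj uj).1 hm
    obtain ⟨k₂, ν₂, h₂⟩ := exists_normal_of_limit D c hc j Gj Hj uj ((normal_iff _ uj).1 hn)
    refine ⟨(IsCofiltered.min k₁ k₂).left, (IsCofiltered.min k₁ k₂).hom,
      mono_stage_mono D j Gj Hj uj (IsCofiltered.minToLeft k₁ k₂) h₁, ?_⟩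
    exact (normal_iff _ uj).2 (normal_transfer (D.map k₂.hom)
      (D.map (IsCofiltered.minToRight k₁ k₂).left) _
      (by rw [← D.map_comp, Over.w (IsCofiltered.minToRight k₁ k₂)]) uj ⟨ν₂, h₂⟩)
  · rintro ⟨i, f, hm, hn⟩
    refine ⟨(mono_limit_iff D c hc j Gj Hj uj).2 ⟨Over.mk f, hm⟩, ?_⟩
    exact (normal_iff _ uj).2 (normal_transfer (D.map f) (c.π.app i) (c.π.app j) (c.w f) uj
      ((normal_iff _ uj).1 hn))

include hc in
theorem mono_central_limit_iff :
    (Mono ((Over.pullback (c.π.app j)).map uj) ∧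
        (∀ (T : Over c.pt) (g : T ⟶ (Red.bc (c.π.app j) Gj)) (n : T ⟶ (Red.bc (c.π.app j) Hj)),
          g * (n ≫ ((Over.pullback (c.π.app j)).map uj)) =
            (n ≫ ((Over.pullback (c.π.app j)).map uj)) * g)) ↔
      ∃ (i : I) (f : i ⟶ j), Mono ((Over.pullback (D.map f)).map uj) ∧
        (∀ (T : Over (D.obj i)) (g : T ⟶ (Red.bc (D.map f) Gj)) (n : T ⟶ (Red.bc (D.map f) Hj)),
          g * (n ≫ ((Over.pullback (D.map f)).map uj)) =
            (n ≫ ((Over.pullback (D.map f)).map uj)) * g) := by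
  constructor
  · rintro ⟨hm, hn⟩
    obtain ⟨k₁, h₁⟩ := (mono_limit_iff D c hc j Gj Hj uj).1 hm
    have : QuasiCompact (Gj ⊗ Hj).hom := inferInstance
    obtain ⟨i₂, g₂, h₂⟩ := exists_map_eq_of_limit D c hc j (Gj ⊗ Hj) Gj _ _
      ((central_iff (c.π.app j) uj).1 hn)
    set k₂ : Over j := Over.mk g₂
    refine ⟨(IsCofiltered.min k₁ k₂).left, (IsCofiltered.min k₁ k₂).hom,
      mono_stage_mono D j Gj Hj uj (IsCofiltered.minToLeft k₁ k₂) h₁, ?_⟩
    exact (central_iff _ uj).2 (map_eq_transfer (D.map k₂.hom)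
      (D.map (IsCofiltered.minToRight k₁ k₂).left) _
      (by rw [← D.map_comp, Over.w (IsCofiltered.minToRight k₁ k₂)]) _ _ h₂)
  · rintro ⟨i, f, hm, hn⟩
    refine ⟨(mono_limit_iff D c hc j Gj Hj uj).2 ⟨Over.mk f, hm⟩, ?_⟩
    exact (central_iff _ uj).2 (map_eq_transfer (D.map f) (c.π.app i) (c.π.app j) (c.w f) _ _
      ((central_iff _ uj).1 hn))

end Limit

end Groth.Agent.Lib.Seat87.GrpLim
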