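import Groth.Agent.Lib.Seat87GrpLim3

/-!
# Descending a group structure from a cofiltered limit to a stage (helper87)

`X` over a stage `S_j`, finitely presented.  A group structure on `X ×_{S_j} S` (`S = lim S_i`)
comes from a group structure on `X ×_{S_j} S_k` for some `k ⟶ j`, compatibly with the canonical
isomorphism `(X ×_{S_j} S_k) ×_{S_k} S ≅ X ×_{S_j} S`.

* `Str q X`: a candidate group structure on `q^* X` (multiplication, unit, inverse as maps out of
  `q^* (X ⊗ X)`, `q^* 𝟙`, `q^* X`), `pmul`/`pone`/`pinv` the induced operations on points.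
* `Str.IsGrp`: the group axioms on universal points; `strGrpObj`: the resulting `GrpObj`.
* `Str.bc`: base change of a candidate structure; `IsGrp` transfers.
* `exists_grpObj_of_limit`: the descent statement.
-/

set_option autoImplicit false
set_option backward.isDefEq.respectTransparency false
set_option backward.defeqAttrib.useBackward true
universe u

open CategoryTheory CategoryTheory.Limits AlgebraicGeometry MonoidalCategory
  CartesianMonoidalCategory MonObj GrpObj Opposite

namespace Groth.Agent.Lib.Seat87.GrpLim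

open Groth.Agent.Lib.Seat87.NilpSolv

section MonoidalAux

variable {C D' : Type*} [Category C] [Category D'] [CartesianMonoidalCategory C]
  [CartesianMonoidalCategory D'] (F : C ⥤ D') [F.Monoidal]

/-- Morphisms into `F (X ⊗ Y)` are determined by their two components. -/
lemma map_tensor_hom_ext {Z : D'} {X Y : C} (f g : Z ⟶ F.obj (X ⊗ Y))
    (h1 : f ≫ F.map (fst X Y) = g ≫ F.map (fst X Y))
    (h2 : f ≫ F.map (snd X Y) = g ≫ F.map (snd X Y)) : f = g := by
  rw [← cancel_mono (Functor.OplaxMonoidal.δ F X Y)]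
  apply CartesianMonoidalCategory.hom_ext
  · simpa [Functor.OplaxMonoidal.δ_fst] using h1
  · simpa [Functor.OplaxMonoidal.δ_snd] using h2

end MonoidalAux

section Str

variable {S T : Scheme.{u}} (q : T ⟶ S) (X : Over S)

/-- A candidate group structure on `q^* X`, given by maps out of base changes. -/
structure Str where
  /-- multiplication -/
  m : Red.bc q (X ⊗ X) ⟶ Red.bc q X
  /-- unit -/
  e : Red.bc q (𝟙_ (Over S)) ⟶ Red.bc q X
  /-- inverse -/
  v : Red.bc q X ⟶ Red.bc q X

variable {q X} (s : Str q X)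

/-- product of two points -/
noncomputable def pmul {Z : Over T} (x y : Z ⟶ Red.bc q X) : Z ⟶ Red.bc q X :=
  lift x y ≫ Functor.LaxMonoidal.μ (Over.pullback q) X X ≫ s.m

/-- the unit point -/
noncomputable def pone (Z : Over T) : Z ⟶ Red.bc q X :=
  toUnit Z ≫ Functor.LaxMonoidal.ε (Over.pullback q) ≫ s.e

/-- inverse of a point -/
noncomputable def pinv {Z : Over T} (x : Z ⟶ Red.bc q X) : Z ⟶ Red.bc q X := x ≫ s.v

lemma comp_pmul {Z Z' : Over T} (t : Z' ⟶ Z) (x y : Z ⟶ Red.bc q X) :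
    t ≫ pmul s x y = pmul s (t ≫ x) (t ≫ y) := by
  simp only [pmul, ← Category.assoc, comp_lift]

lemma comp_pone {Z Z' : Over T} (t : Z' ⟶ Z) : t ≫ pone s Z = pone s Z' := by
  simp only [pone, ← Category.assoc]
  congr 2
  exact toUnit_unique _ _

lemma comp_pinv {Z Z' : Over T} (t : Z' ⟶ Z) (x : Z ⟶ Red.bc q X) :
    t ≫ pinv s x = pinv s (t ≫ x) := by
  simp only [pinv, Category.assoc]

lemma pone_map (W : Over S) :
    pone s (Red.bc q W) = (Over.pullback q).map (toUnit W) ≫ s.e := by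
  rw [pone, ← Category.assoc, Functor.Monoidal.toUnit_ε]

variable (X) in
/-- first universal point of `X ⊗ (X ⊗ X)` -/
noncomputable def p₁ : X ⊗ (X ⊗ X) ⟶ X := fst X (X ⊗ X)
variable (X) in
/-- second universal point -/
noncomputable def p₂ : X ⊗ (X ⊗ X) ⟶ X := snd X (X ⊗ X) ≫ fst X X
variable (X) in
/-- third universal point -/
noncomputable def p₃ : X ⊗ (X ⊗ X) ⟶ X := snd X (X ⊗ X) ≫ snd X X

/-- left side of associativity on universal points -/
noncomputable def Str.A1 : Red.bc q (X ⊗ (X ⊗ X)) ⟶ Red.bc q X :=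
  pmul s (pmul s ((Over.pullback q).map (p₁ X)) ((Over.pullback q).map (p₂ X)))
    ((Over.pullback q).map (p₃ X))

/-- right side of associativity on universal points -/
noncomputable def Str.B1 : Red.bc q (X ⊗ (X ⊗ X)) ⟶ Red.bc q X :=
  pmul s ((Over.pullback q).map (p₁ X))
    (pmul s ((Over.pullback q).map (p₂ X)) ((Over.pullback q).map (p₃ X)))

/-- `1 * x` on the universal point -/
noncomputable def Str.A2 : Red.bc q X ⟶ Red.bc q X := pmul s (pone s _) (𝟙 (Red.bc q X))

/-- `x⁻¹ * x` on the universal point -/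
noncomputable def Str.A3 : Red.bc q X ⟶ Red.bc q X := pmul s (pinv s (𝟙 (Red.bc q X))) (𝟙 _)

/-- `1` on the universal point -/
noncomputable def Str.B3 : Red.bc q X ⟶ Red.bc q X := pone s _

/-- The group axioms on universal points. -/
structure Str.IsGrp : Prop where
  assoc : s.A1 = s.B1
  one_mul : s.A2 = 𝟙 _
  inv_mul : s.A3 = s.B3

variable {s}

lemma Str.IsGrp.pmul_assoc (h : s.IsGrp) {Z : Over T} (x y z : Z ⟶ Red.bc q X) :
    pmul s (pmul s x y) z = pmul s x (pmul s y z) := by
  obtain ⟨t', rfl, rfl⟩ := exists_point q y z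
  obtain ⟨t, rfl, rfl⟩ := exists_point q x t'
  have := congrArg (fun w => t ≫ w) h.assoc
  simp only [Str.A1, Str.B1, comp_pmul] at this
  simpa only [p₁, p₂, p₃, Functor.map_comp, Category.assoc] using this

lemma Str.IsGrp.pone_pmul (h : s.IsGrp) {Z : Over T} (x : Z ⟶ Red.bc q X) :
    pmul s (pone s Z) x = x := by
  have := congrArg (fun w => x ≫ w) h.one_mul
  simpa only [Str.A2, comp_pmul, comp_pone, Category.comp_id] using this

lemma Str.IsGrp.pinv_pmul (h : s.IsGrp) {Z : Over T} (x : Z ⟶ Red.bc q X) :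
    pmul s (pinv s x) x = pone s Z := by
  have := congrArg (fun w => x ≫ w) h.inv_mul
  simpa only [Str.A3, Str.B3, comp_pmul, comp_pone, comp_pinv, Category.comp_id] using this

/-- The points of `q^* X` with values in `Z`, as a type synonym carrying the group structure
attached to a candidate structure satisfying the group axioms. -/
@[nolint unusedArguments]
def Pts (_ : s.IsGrp) (Z : Over T) : Type u := Z ⟶ Red.bc q X

noncomputable instance (h : s.IsGrp) (Z : Over T) : Group (Pts h Z) :=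
  letI : Mul (Pts h Z) := ⟨fun x y => pmul s x y⟩
  letI : One (Pts h Z) := ⟨pone s Z⟩
  letI : Inv (Pts h Z) := ⟨fun x => pinv s x⟩
  Group.ofLeftAxioms (fun x y z => h.pmul_assoc x y z) (fun x => h.pone_pmul x)
    (fun x => h.pinv_pmul x)

lemma Pts.mul_def (h : s.IsGrp) {Z : Over T} (x y : Pts h Z) :
    x * y = (show Pts h Z from pmul s (show Z ⟶ Red.bc q X from x) y) := rfl

lemma Pts.one_def (h : s.IsGrp) (Z : Over T) : (1 : Pts h Z) = (show Pts h Z from pone s Z) := rfl

lemma Pts.inv_def (h : s.IsGrp) {Z : Over T} (x : Pts h Z) :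
    x⁻¹ = (show Pts h Z from pinv s (show Z ⟶ Red.bc q X from x)) := rfl

/-- precomposition as a group homomorphism -/
noncomputable def Pts.map (h : s.IsGrp) {Z Z' : Over T} (t : Z' ⟶ Z) : Pts h Z →* Pts h Z' :=
  MonoidHom.mk' (fun x => (show Pts h Z' from t ≫ (show Z ⟶ Red.bc q X from x)))
    (fun x y => comp_pmul s t x y)

/-- presheaf of groups of points -/
noncomputable def ptsFunctor (h : s.IsGrp) : (Over T)ᵒᵖ ⥤ GrpCat where
  obj Z := GrpCat.of (Pts h Z.unop)
  map {Z Z'} f := GrpCat.ofHom (Pts.map h f.unop)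
  map_id Z := by
    ext x
    change (𝟙 Z).unop ≫ (show Z.unop ⟶ Red.bc q X from x) = x
    simp
  map_comp f g := by
    ext x
    change (f ≫ g).unop ≫ (show _ ⟶ Red.bc q X from x) = g.unop ≫ f.unop ≫ _
    simp

/-- `q^* X` represents it -/
noncomputable def ptsRep (h : s.IsGrp) : (ptsFunctor h ⋙ forget _).RepresentableBy (Red.bc q X) where
  homEquiv := Equiv.refl _
  homEquiv_comp _ _ := rfl

/-- the group structure on `q^* X` attached to a candidate structure satisfying the axioms -/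
@[instance_reducible]
noncomputable def strGrpObj (h : s.IsGrp) : GrpObj (Red.bc q X) :=
  GrpObj.ofRepresentableBy _ (ptsFunctor h) (ptsRep h)

lemma strGrpObj_mul (h : s.IsGrp) :
    (strGrpObj h).mul = Functor.LaxMonoidal.μ (Over.pullback q) X X ≫ s.m := by
  change pmul s (fst _ _) (snd _ _) = _
  rw [pmul, lift_fst_snd, Category.id_comp]

lemma strGrpObj_one (h : s.IsGrp) :
    (strGrpObj h).one = Functor.LaxMonoidal.ε (Over.pullback q) ≫ s.e := by
  change pone s _ = _
  rw [pone, toUnit_unit, Category.id_comp]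

end Str

section StrBC

variable {S T T' : Scheme.{u}} (q : T ⟶ S) (r : T' ⟶ T) (q' : T' ⟶ S) (hq : r ≫ q = q')
  {X : Over S}

lemma bcMap_id (W : Over S) : bcMap q r q' hq (𝟙 (Red.bc q W)) = 𝟙 (Red.bc q' W) := by
  have := bcMap_map q r q' hq (𝟙 W)
  rwa [CategoryTheory.Functor.map_id, CategoryTheory.Functor.map_id] at this

/-- `bcMap` commutes with pairing of points. -/
lemma bcMap_lift_μ {W Y Y' : Over S} (x : Red.bc q W ⟶ Red.bc q Y) (y : Red.bc q W ⟶ Red.bc q Y') :
    bcMap q r q' hq (lift x y ≫ Functor.LaxMonoidal.μ (Over.pullback q) Y Y') =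
      lift (bcMap q r q' hq x) (bcMap q r q' hq y) ≫
        Functor.LaxMonoidal.μ (Over.pullback q') Y Y' := by
  apply map_tensor_hom_ext (Over.pullback q')
  · rw [← bcMap_map q r q' hq (fst Y Y'), ← bcMap_comp, Category.assoc,
      Functor.Monoidal.μ_fst, lift_fst, bcMap_map, Category.assoc, Functor.Monoidal.μ_fst, lift_fst]
  · rw [← bcMap_map q r q' hq (snd Y Y'), ← bcMap_comp, Category.assoc,
      Functor.Monoidal.μ_snd, lift_snd, bcMap_map, Category.assoc, Functor.Monoidal.μ_snd, lift_snd]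

/-- base change of a candidate structure -/
noncomputable def Str.bc (s : Str q X) : Str q' X where
  m := bcMap q r q' hq s.m
  e := bcMap q r q' hq s.e
  v := bcMap q r q' hq s.v

variable (s : Str q X)

lemma bcMap_pmul {W : Over S} (x y : Red.bc q W ⟶ Red.bc q X) :
    bcMap q r q' hq (pmul s x y) =
      pmul (s.bc q r q' hq) (bcMap q r q' hq x) (bcMap q r q' hq y) := by
  rw [pmul, ← Category.assoc, bcMap_comp, bcMap_lift_μ, pmul, Category.assoc]
  rfl

lemma bcMap_pone (W : Over S) :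
    bcMap q r q' hq (pone s (Red.bc q W)) = pone (s.bc q r q' hq) (Red.bc q' W) := by
  rw [pone_map, pone_map, bcMap_comp, bcMap_map]
  rfl

lemma bcMap_pinv {W : Over S} (x : Red.bc q W ⟶ Red.bc q X) :
    bcMap q r q' hq (pinv s x) = pinv (s.bc q r q' hq) (bcMap q r q' hq x) := by
  rw [pinv, bcMap_comp]
  rfl

lemma Str.bcMap_A1 : bcMap q r q' hq s.A1 = (s.bc q r q' hq).A1 := by
  simp only [Str.A1, bcMap_pmul, bcMap_map]

lemma Str.bcMap_B1 : bcMap q r q' hq s.B1 = (s.bc q r q' hq).B1 := by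
  simp only [Str.B1, bcMap_pmul, bcMap_map]

lemma Str.bcMap_A2 : bcMap q r q' hq s.A2 = (s.bc q r q' hq).A2 := by
  simp only [Str.A2, bcMap_pmul, bcMap_pone, bcMap_id]

lemma Str.bcMap_A3 : bcMap q r q' hq s.A3 = (s.bc q r q' hq).A3 := by
  simp only [Str.A3, bcMap_pmul, bcMap_pinv, bcMap_id]

lemma Str.bcMap_B3 : bcMap q r q' hq s.B3 = (s.bc q r q' hq).B3 := by
  simp only [Str.B3, bcMap_pone]

variable {s} in
lemma Str.IsGrp.bc (h : s.IsGrp) : (s.bc q r q' hq).IsGrp := by
  refine ⟨?_, ?_, ?_⟩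
  · rw [← Str.bcMap_A1, ← Str.bcMap_B1, h.assoc]
  · rw [← Str.bcMap_A2, h.one_mul, bcMap_id]
  · rw [← Str.bcMap_A3, ← Str.bcMap_B3, h.inv_mul]

end StrBC

section OfGrpObj

variable {S T : Scheme.{u}} (q : T ⟶ S) (X : Over S)

/-- the candidate structure attached to a group structure on `q^* X` -/
noncomputable def Str.ofGrpObj (inst : GrpObj (Red.bc q X)) : Str q X where
  m := (Functor.Monoidal.μIso (Over.pullback q) X X).inv ≫ μ[Red.bc q X]
  e := (Functor.Monoidal.εIso (Over.pullback q)).inv ≫ η[Red.bc q X]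
  v := ι[Red.bc q X]

variable {q X}

lemma pmul_ofGrpObj (inst : GrpObj (Red.bc q X)) {Z : Over T} (x y : Z ⟶ Red.bc q X) :
    pmul (Str.ofGrpObj q X inst) x y = x * y := by
  simp only [pmul, Str.ofGrpObj, Hom.mul_def]
  rw [← Functor.Monoidal.μIso_hom, Iso.hom_inv_id_assoc]

lemma pone_ofGrpObj (inst : GrpObj (Red.bc q X)) (Z : Over T) :
    pone (Str.ofGrpObj q X inst) Z = 1 := by
  simp only [pone, Str.ofGrpObj]
  rw [← Functor.Monoidal.εIso_hom, Iso.hom_inv_id_assoc]
  rfl

lemma pinv_ofGrpObj (inst : GrpObj (Red.bc q X)) {Z : Over T} (x : Z ⟶ Red.bc q X) :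
    pinv (Str.ofGrpObj q X inst) x = x⁻¹ := rfl

lemma isGrp_ofGrpObj (inst : GrpObj (Red.bc q X)) : (Str.ofGrpObj q X inst).IsGrp := by
  refine ⟨?_, ?_, ?_⟩
  · simp only [Str.A1, Str.B1, pmul_ofGrpObj]
    exact mul_assoc _ _ _
  · simp only [Str.A2, pmul_ofGrpObj, pone_ofGrpObj]
    exact one_mul _
  · simp only [Str.A3, Str.B3, pmul_ofGrpObj, pone_ofGrpObj, pinv_ofGrpObj]
    exact inv_mul_cancel _

end OfGrpObj

section BcBc

variable {S T T' T'' : Scheme.{u}} (q : T ⟶ S) (r : T' ⟶ T) (q' : T' ⟶ S) (hq : r ≫ q = q')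
  (r' : T'' ⟶ T') (q'' : T'' ⟶ S) (hq' : r' ≫ q' = q'')

lemma θ_θ (X : Over S) :
    θ X q' r' q'' hq' ≫ θ X q r q' hq =
      θ X q (r' ≫ r) q'' (by rw [Category.assoc, hq, hq']) := by
  apply pullback.hom_ext <;> simp

lemma bcMap_bcMap {X Y : Over S} (z : Red.bc q X ⟶ Red.bc q Y) :
    bcMap q' r' q'' hq' (bcMap q r q' hq z) =
      bcMap q (r' ≫ r) q'' (by rw [Category.assoc, hq, hq']) z := by
  apply bc_hom_ext
  rw [bcMap_left_fst, bcMap_left_fst, bcMap_left_fst, ← Category.assoc, θ_θ]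

lemma Str.bc_bc {X : Over S} (s : Str q X) :
    (s.bc q r q' hq).bc q' r' q'' hq' =
      s.bc q (r' ≫ r) q'' (by rw [Category.assoc, hq, hq']) := by
  simp only [Str.bc, bcMap_bcMap]

end BcBc

section LimitStr

variable {I : Type u} [SmallCategory I] (D : I ⥤ Scheme.{u}) (c : Cone D)
  (j : I)

/-- base change from a stage to the limit -/
noncomputable abbrev toLim (k : Over j) {W Y : Over (D.obj j)}
    (z : Red.bc (D.map k.hom) W ⟶ Red.bc (D.map k.hom) Y) :
    Red.bc (c.π.app j) W ⟶ Red.bc (c.π.app j) Y :=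
  bcMap (D.map k.hom) (c.π.app k.left) (c.π.app j) (c.w k.hom) z

lemma stage_w {k k' : Over j} (τ : k' ⟶ k) : D.map τ.left ≫ D.map k.hom = D.map k'.hom := by
  rw [← D.map_comp, Over.w τ]

/-- base change from a stage to a later stage -/
noncomputable abbrev toStage {k k' : Over j} (τ : k' ⟶ k) {W Y : Over (D.obj j)}
    (z : Red.bc (D.map k.hom) W ⟶ Red.bc (D.map k.hom) Y) :
    Red.bc (D.map k'.hom) W ⟶ Red.bc (D.map k'.hom) Y :=
  bcMap (D.map k.hom) (D.map τ.left) (D.map k'.hom) (stage_w D j τ) z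

lemma bcMap_congr {S T T' : Scheme.{u}} (q : T ⟶ S) {r r₂ : T' ⟶ T} (q' : T' ⟶ S)
    (hq : r ≫ q = q') (h : r = r₂) {X Y : Over S} (z : Red.bc q X ⟶ Red.bc q Y) :
    bcMap q r q' hq z = bcMap q r₂ q' (h ▸ hq) z := by
  subst h; rfl

lemma toLim_toStage_map {k k' : Over j} (τ : k' ⟶ k) {W Y : Over (D.obj j)}
    (z : Red.bc (D.map k.hom) W ⟶ Red.bc (D.map k.hom) Y) :
    toLim D c j k' (toStage D j τ z) = toLim D c j k z := by
  rw [toLim, toStage, bcMap_bcMap]
  exact bcMap_congr _ _ _ (c.w τ.left) z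

/-- base change of a candidate structure from a stage to the limit -/
noncomputable abbrev Str.toLim {X : Over (D.obj j)} (k : Over j) (s : Str (D.map k.hom) X) :
    Str (c.π.app j) X :=
  s.bc (D.map k.hom) (c.π.app k.left) (c.π.app j) (c.w k.hom)

/-- base change of a candidate structure from a stage to a later stage -/
noncomputable abbrev Str.toStage {X : Over (D.obj j)} {k k' : Over j} (τ : k' ⟶ k)
    (s : Str (D.map k.hom) X) : Str (D.map k'.hom) X :=
  s.bc (D.map k.hom) (D.map τ.left) (D.map k'.hom) (stage_w D j τ)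

lemma Str.toLim_toStage {X : Over (D.obj j)} {k k' : Over j} (τ : k' ⟶ k)
    (s : Str (D.map k.hom) X) :
    Str.toLim D c j k' (Str.toStage D j τ s) = Str.toLim D c j k s := by
  simp only [Str.toLim, Str.toStage, Str.bc]
  congr 1 <;> exact toLim_toStage_map D c j τ _

variable [IsCofiltered I] [∀ (i i' : I) (f : i ⟶ i'), IsAffineHom (D.map f)]
  (hc : IsLimit c) [CompactSpace (D.obj j)] [QuasiSeparatedSpace (D.obj j)]

include hc in
/-- morphisms between base changes to the limit come from a stage -/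
lemma exists_toLim_eq (W Y : Over (D.obj j)) [QuasiCompact W.hom] [QuasiSeparated W.hom]
    [LocallyOfFinitePresentation Y.hom]
    (z : Red.bc (c.π.app j) W ⟶ Red.bc (c.π.app j) Y) :
    ∃ (k : Over j) (zk : Red.bc (D.map k.hom) W ⟶ Red.bc (D.map k.hom) Y),
      toLim D c j k zk = z := by
  obtain ⟨k, g, hg1, hg2⟩ := exists_map_of_limit D c hc j W Y.hom
    (z.left ≫ pullback.fst Y.hom (c.π.app j)) (bc_hom_left_fst_comp _ z)
  refine ⟨k, ofMap (D.map k.hom) g hg2, ?_⟩
  apply bc_hom_ext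
  rw [bcMap_left_fst, ofMap_left_fst]
  exact hg1

omit [QuasiSeparatedSpace (D.obj j)] in
include hc in
/-- two morphisms at a stage which agree over the limit agree at a later stage -/
lemma exists_toStage_eq (W Y : Over (D.obj j)) [QuasiCompact W.hom]
    [LocallyOfFiniteType Y.hom] (k : Over j)
    (a b : Red.bc (D.map k.hom) W ⟶ Red.bc (D.map k.hom) Y)
    (h : toLim D c j k a = toLim D c j k b) :
    ∃ (k' : Over j) (τ : k' ⟶ k), toStage D j τ a = toStage D j τ b := by
  have hk : pbProj D c j W k ≫ (a.left ≫ pullback.fst Y.hom (D.map k.hom)) =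
      pbProj D c j W k ≫ (b.left ≫ pullback.fst Y.hom (D.map k.hom)) := by
    have := congrArg (fun z => z.left ≫ pullback.fst Y.hom (c.π.app j)) h
    simp only [bcMap_left_fst] at this
    exact this
  obtain ⟨k', τ, hτ⟩ := exists_map_comp_eq D c hc j W Y.hom k _ _
    (bc_hom_left_fst_comp _ a) (bc_hom_left_fst_comp _ b) hk
  refine ⟨k', τ, ?_⟩
  apply bc_hom_ext
  rw [bcMap_left_fst, bcMap_left_fst]
  exact hτ

variable (X : Over (D.obj j)) [QuasiCompact X.hom] [QuasiSeparated X.hom]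
  [LocallyOfFinitePresentation X.hom]

include hc in
/-- a candidate structure over the limit comes from a stage -/
lemma exists_str_of_limit (s : Str (c.π.app j) X) :
    ∃ (k : Over j) (sk : Str (D.map k.hom) X), Str.toLim D c j k sk = s := by
  have hq1 : QuasiCompact (𝟙_ (Over (D.obj j))).hom := by
    change QuasiCompact (𝟙 (D.obj j)); infer_instance
  have hq2 : QuasiSeparated (𝟙_ (Over (D.obj j))).hom := by
    change QuasiSeparated (𝟙 (D.obj j)); infer_instance
  have hq3 : QuasiSeparated (X ⊗ X).hom := by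
    rw [Over.tensorObj_hom]; infer_instance
  obtain ⟨k₁, m₁, h₁⟩ := exists_toLim_eq D c j hc (X ⊗ X) X s.m
  obtain ⟨k₂, e₂, h₂⟩ := exists_toLim_eq D c j hc (𝟙_ _) X s.e
  obtain ⟨k₃, v₃, h₃⟩ := exists_toLim_eq D c j hc X X s.v
  refine ⟨IsCofiltered.min (IsCofiltered.min k₁ k₂) k₃,
    ⟨toStage D j (IsCofiltered.minToLeft _ k₃ ≫ IsCofiltered.minToLeft k₁ k₂) m₁,
      toStage D j (IsCofiltered.minToLeft _ k₃ ≫ IsCofiltered.minToRight k₁ k₂) e₂,
      toStage D j (IsCofiltered.minToRight _ k₃) v₃⟩, ?_⟩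
  cases s
  simp only [Str.toLim, Str.bc] at h₁ h₂ h₃ ⊢
  congr 1
  · rw [← h₁]; exact toLim_toStage_map D c j _ _
  · rw [← h₂]; exact toLim_toStage_map D c j _ _
  · rw [← h₃]; exact toLim_toStage_map D c j _ _

omit [QuasiSeparatedSpace (D.obj j)] [QuasiCompact X.hom] [QuasiSeparated X.hom] in
include hc in
/-- one equation between expressions in a candidate structure descends -/
lemma exists_toStage_expr_eq {W : Over (D.obj j)} [QuasiCompact W.hom]
    (A B : ∀ {T : Scheme.{u}} (q : T ⟶ D.obj j), Str q X → (Red.bc q W ⟶ Red.bc q X))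
    (hA : ∀ {T T' : Scheme.{u}} (q : T ⟶ D.obj j) (r : T' ⟶ T) (q' : T' ⟶ D.obj j)
      (hq : r ≫ q = q') (s : Str q X), bcMap q r q' hq (A q s) = A q' (s.bc q r q' hq))
    (hB : ∀ {T T' : Scheme.{u}} (q : T ⟶ D.obj j) (r : T' ⟶ T) (q' : T' ⟶ D.obj j)
      (hq : r ≫ q = q') (s : Str q X), bcMap q r q' hq (B q s) = B q' (s.bc q r q' hq))
    (k : Over j) (sk : Str (D.map k.hom) X)
    (h : A _ (Str.toLim D c j k sk) = B _ (Str.toLim D c j k sk)) :
    ∃ (k' : Over j) (τ : k' ⟶ k),
      A _ (Str.toStage D j τ sk) = B _ (Str.toStage D j τ sk) := by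
  obtain ⟨k', τ, hτ⟩ := exists_toStage_eq D c j hc W X k (A _ sk) (B _ sk) (by
    unfold toLim; rw [hA, hB]; exact h)
  refine ⟨k', τ, ?_⟩
  unfold toStage at hτ
  rw [hA, hB] at hτ
  exact hτ

omit [QuasiSeparatedSpace (D.obj j)] [QuasiSeparated X.hom] in
include hc in
/-- the group axioms descend -/
lemma exists_isGrp_of_limit (k : Over j) (sk : Str (D.map k.hom) X)
    (h : (Str.toLim D c j k sk).IsGrp) :
    ∃ (k' : Over j) (sk' : Str (D.map k'.hom) X),
      Str.toLim D c j k' sk' = Str.toLim D c j k sk ∧ sk'.IsGrp := by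
  have hq3 : QuasiCompact (X ⊗ (X ⊗ X)).hom := inferInstance
  obtain ⟨k₁, τ₁, h₁⟩ := exists_toStage_expr_eq D c j hc X
    (fun q s => s.A1) (fun q s => s.B1)
    (fun q r q' hq s => s.bcMap_A1 q r q' hq) (fun q r q' hq s => s.bcMap_B1 q r q' hq)
    k sk h.assoc
  have e₁ := Str.toLim_toStage D c j τ₁ sk
  obtain ⟨k₂, τ₂, h₂⟩ := exists_toStage_expr_eq D c j hc X
    (fun q s => s.A2) (fun q s => 𝟙 _)
    (fun q r q' hq s => s.bcMap_A2 q r q' hq) (fun q r q' hq s => bcMap_id q r q' hq X)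
    k₁ (Str.toStage D j τ₁ sk) (by rw [e₁]; exact h.one_mul)
  have e₂ := Str.toLim_toStage D c j τ₂ (Str.toStage D j τ₁ sk)
  obtain ⟨k₃, τ₃, h₃⟩ := exists_toStage_expr_eq D c j hc X
    (fun q s => s.A3) (fun q s => s.B3)
    (fun q r q' hq s => s.bcMap_A3 q r q' hq) (fun q r q' hq s => s.bcMap_B3 q r q' hq)
    k₂ (Str.toStage D j τ₂ (Str.toStage D j τ₁ sk)) (by rw [e₂, e₁]; exact h.inv_mul)
  have e₃ := Str.toLim_toStage D c j τ₃ (Str.toStage D j τ₂ (Str.toStage D j τ₁ sk))
  refine ⟨k₃, Str.toStage D j τ₃ (Str.toStage D j τ₂ (Str.toStage D j τ₁ sk)),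
    by rw [e₃, e₂, e₁], ?_, ?_, h₃⟩
  · have := congrArg (fun z => toStage D j τ₃ (toStage D j τ₂ z)) h₁
    simp only [toStage, Str.bcMap_A1, Str.bcMap_B1] at this
    exact this
  · have := congrArg (fun z => toStage D j τ₃ z) h₂
    simp only [toStage, Str.bcMap_A2, bcMap_id] at this
    exact this

end LimitStr

section CmpMon

variable {T S' S : Scheme.{u}} (p : T ⟶ S') (q : S' ⟶ S) (r : T ⟶ S) (h : p ≫ q = r)

lemma cmpIso_hom_left_θ (X : Over S) :
    (cmpIso p q X h).hom.left ≫ θ X q p r h = pullback.fst (pullback.snd X.hom q) p := by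
  apply pullback.hom_ext
  · rw [Category.assoc, θ_fst, cmpIso_hom_left_fst]
  · rw [Category.assoc, θ_snd, ← Category.assoc, cmpIso_hom_left_snd, pullback.condition]

/-- `cmpIso` intertwines `p^*` with `bcMap` -/
lemma map_cmpIso {X Y : Over S} (z : Red.bc q X ⟶ Red.bc q Y) :
    (Over.pullback p).map z ≫ (cmpIso p q Y h).hom =
      (cmpIso p q X h).hom ≫ bcMap q p r h z := by
  apply bc_hom_ext
  simp only [Over.comp_left, Category.assoc]
  rw [cmpIso_hom_left_fst, bcMap_left_fst, ← Category.assoc (cmpIso p q X h).hom.left,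
    cmpIso_hom_left_θ]
  simp

lemma cmpIso_naturality {X Y : Over S} (f : X ⟶ Y) :
    (Over.pullback p).map ((Over.pullback q).map f) ≫ (cmpIso p q Y h).hom =
      (cmpIso p q X h).hom ≫ (Over.pullback r).map f := by
  rw [map_cmpIso, bcMap_map]

/-- If the multiplication of a candidate structure on `q^* X` base changes to the multiplication
of a group structure on `r^* X`, the comparison isomorphism is a homomorphism. -/
lemma isMonHom_cmpIso {X : Over S} {s : Str q X} (hs : s.IsGrp) (inst : GrpObj (Red.bc r X))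
    (hm : bcMap q p r h s.m =
      (Functor.Monoidal.μIso (Over.pullback r) X X).inv ≫ μ[Red.bc r X]) :
    letI := strGrpObj hs
    IsMonHom (cmpIso p q X h).hom := by
  let _ := strGrpObj hs
  apply isMonHom_of_mul
  rw [← MonObj.mul_eq_mul, Functor.obj.μ_def, strGrpObj_mul, Hom.mul_def]
  simp only [Functor.map_comp, Category.assoc]
  rw [map_cmpIso, hm]
  simp only [← Category.assoc]
  congr 1
  apply CartesianMonoidalCategory.hom_ext
  · simp only [Category.assoc, lift_fst, Functor.Monoidal.μIso_inv,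
      Functor.OplaxMonoidal.δ_fst]
    rw [← cmpIso_naturality, ← Functor.map_comp_assoc, Functor.Monoidal.μ_fst,
      Functor.Monoidal.μ_fst_assoc]
  · simp only [Category.assoc, lift_snd, Functor.Monoidal.μIso_inv,
      Functor.OplaxMonoidal.δ_snd]
    rw [← cmpIso_naturality, ← Functor.map_comp_assoc, Functor.Monoidal.μ_snd,
      Functor.Monoidal.μ_snd_assoc]

end CmpMon

section MainDescent

variable {I : Type u} [SmallCategory I] (D : I ⥤ Scheme.{u}) (c : Cone D)
  [IsCofiltered I] [∀ (i i' : I) (f : i ⟶ i'), IsAffineHom (D.map f)]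
  (hc : IsLimit c) (j : I) [CompactSpace (D.obj j)] [QuasiSeparatedSpace (D.obj j)]
  (X : Over (D.obj j)) [QuasiCompact X.hom] [QuasiSeparated X.hom]
  [LocallyOfFinitePresentation X.hom]

include hc in
/-- A group structure on the base change of a finitely presented `X` to the limit comes from a
group structure on the base change of `X` to a stage, compatibly with the comparison
isomorphism. -/
theorem exists_grpObj_of_limit (inst : GrpObj (Red.bc (c.π.app j) X)) :
    ∃ (k : Over j) (_ : GrpObj (Red.bc (D.map k.hom) X)),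
      IsMonHom (cmpIso (c.π.app k.left) (D.map k.hom) X (c.w k.hom)).hom := by
  obtain ⟨k, sk, hsk⟩ := exists_str_of_limit D c j hc X (Str.ofGrpObj _ X inst)
  obtain ⟨k', sk', hsk', hG⟩ := exists_isGrp_of_limit D c j hc X k sk (by
    rw [hsk]; exact isGrp_ofGrpObj inst)
  refine ⟨k', strGrpObj hG, isMonHom_cmpIso _ _ _ _ hG inst ?_⟩
  exact congrArg Str.m (hsk'.trans hsk)

end MainDescent

end Groth.Agent.Lib.Seat87.GrpLim
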