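import Groth.Agent.Lib.Seat87GrpLim4
import Groth.Agent.Lib.Helper26LimFP5

/-!
# A finitely presented group scheme over a cofiltered limit descends to a stage (helper87)

Combines `Helper26.LimFP.desc_of_fp` (descent of the underlying finitely presented scheme) with
`exists_grpObj_of_limit` (descent of the group structure).
-/

set_option autoImplicit false
set_option backward.isDefEq.respectTransparency false
set_option backward.defeqAttrib.useBackward true
universe u

open CategoryTheory CategoryTheory.Limits AlgebraicGeometry MonoidalCategory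
  CartesianMonoidalCategory MonObj GrpObj Opposite

namespace Groth.Agent.Lib.Seat87.GrpLim

theorem grp_fp_descends {I : Type u} [SmallCategory I] [IsCofiltered I]
    (D : I ⥤ Scheme.{u}) (c : Limits.Cone D) (hc : Limits.IsLimit c)
    [∀ (i i' : I) (f : i ⟶ i'), IsAffineHom (D.map f)] [∀ i, CompactSpace (D.obj i)]
    [∀ i, QuasiSeparatedSpace (D.obj i)]
    (G : Over c.pt) [GrpObj G] [LocallyOfFinitePresentation G.hom] [QuasiCompact G.hom]
    [QuasiSeparated G.hom] :
    ∃ (j : I) (Gj : Over (D.obj j)) (_ : GrpObj Gj) (e : G ≅ Red.bc (c.π.app j) Gj),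
      IsMonHom e.hom ∧ LocallyOfFinitePresentation Gj.hom ∧ QuasiCompact Gj.hom ∧
        QuasiSeparated Gj.hom := by
  have inst : ∀ {i j : I} (f : i ⟶ j), IsAffineHom (D.map f) := fun f => inferInstance
  obtain ⟨i, Xi, fi, g, h1, h2, h3, pb⟩ := Groth.Agent.Lib.Helper26.LimFP.desc_of_fp hc G.hom
  let X : Over (D.obj i) := Over.mk fi
  have hX1 : LocallyOfFinitePresentation X.hom := h1
  have hX2 : QuasiCompact X.hom := h2
  have hX3 : QuasiSeparated X.hom := h3
  let e₀ : G ≅ Red.bc (c.π.app i) X :=
    Over.isoMk pb.isoPullback (by simp [X])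
  let inst₀ : GrpObj (Red.bc (c.π.app i) X) := GrpObj.ofIso e₀
  have he₀ : IsMonHom e₀.hom := isMonHom_ofIso e₀
  obtain ⟨k, instk, hk⟩ := exists_grpObj_of_limit D c hc i X inst₀
  refine ⟨k.left, Red.bc (D.map k.hom) X, instk,
    e₀ ≪≫ (cmpIso (c.π.app k.left) (D.map k.hom) X (c.w k.hom)).symm, ?_, ?_, ?_, ?_⟩
  · rw [Iso.trans_hom, Iso.symm_hom]
    infer_instance
  · change LocallyOfFinitePresentation (pullback.snd X.hom (D.map k.hom)); infer_instance
  · change QuasiCompact (pullback.snd X.hom (D.map k.hom)); infer_instance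
  · change QuasiSeparated (pullback.snd X.hom (D.map k.hom)); infer_instance

end Groth.Agent.Lib.Seat87.GrpLim
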