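import Mathlib

/-!
# Henselian couples and disjoint unions (engine for S17964)

Topological part: lifting of clopen subsets along a map, and its behaviour under disjoint open
covers.
-/

set_option autoImplicit false
universe u v w

namespace Groth.Agent.Lib.Seat87.HensCoprod

/-- Every clopen subset of `P` is the preimage of a unique clopen subset of `Y`. -/
def LiftsAlong {P : Type v} {Y : Type w} [TopologicalSpace P] [TopologicalSpace Y] (e : P → Y) :
    Prop :=
  ∀ V : Set P, IsClopen V → ∃! U : Set Y, IsClopen U ∧ e ⁻¹' U = V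

theorem liftsAlong_comp_homeomorph {P P' : Type v} {Y : Type w} [TopologicalSpace P]
    [TopologicalSpace P'] [TopologicalSpace Y] (e : P' → Y) (h : P ≃ₜ P') (H : LiftsAlong e) :
    LiftsAlong (e ∘ h) := by
  intro V hV
  have hV' : IsClopen (h.symm ⁻¹' V) := hV.preimage h.symm.continuous
  obtain ⟨U, ⟨hU, hUV⟩, huniq⟩ := H _ hV'
  refine ⟨U, ⟨hU, ?_⟩, ?_⟩
  · rw [Set.preimage_comp, hUV]
    ext x
    simp
  · rintro U' ⟨hU', hU'V⟩
    apply huniq
    refine ⟨hU', ?_⟩
    rw [← hU'V]
    ext x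
    simp

section Cover

variable {ι : Type*} {P : Type v} {Y : Type w} {Pj : ι → Type v} {Yj : ι → Type w}
  [TopologicalSpace P] [TopologicalSpace Y] [∀ j, TopologicalSpace (Pj j)]
  [∀ j, TopologicalSpace (Yj j)]

theorem mem_iUnion_image_iff (a : ∀ j, Yj j → Y) (hainj : ∀ j, Function.Injective (a j))
    (hadisj : ∀ j k y y', a j y = a k y' → j = k) (W : ∀ j, Set (Yj j)) (j : ι) (y : Yj j) :
    a j y ∈ ⋃ k, a k '' W k ↔ y ∈ W j := by
  constructor
  · intro h
    rw [Set.mem_iUnion] at h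
    obtain ⟨k, y', hy', heq⟩ := h
    obtain rfl := hadisj _ _ _ _ heq
    rwa [← hainj _ heq]
  · intro h
    exact Set.mem_iUnion.mpr ⟨j, y, h, rfl⟩

theorem liftsAlong_of_cover (e : P → Y) (ej : ∀ j, Pj j → Yj j) (a : ∀ j, Yj j → Y)
    (b : ∀ j, Pj j → P) (ha : ∀ j, Topology.IsOpenEmbedding (a j)) (hb : ∀ j, Continuous (b j))
    (hcomm : ∀ j x, e (b j x) = a j (ej j x)) (hacover : ∀ y, ∃ j yj, a j yj = y)
    (hadisj : ∀ j k y y', a j y = a k y' → j = k) (hbcover : ∀ x, ∃ j xj, b j xj = x)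
    (H : ∀ j, LiftsAlong (ej j)) : LiftsAlong e := by
  intro V hV
  have hainj : ∀ j, Function.Injective (a j) := fun j => (ha j).injective
  choose U hU huniq using fun j => H j (b j ⁻¹' V) (hV.preimage (hb j))
  have key := mem_iUnion_image_iff a hainj hadisj
  have hcompl : (⋃ j, a j '' U j)ᶜ = ⋃ j, a j '' (U j)ᶜ := by
    ext y
    obtain ⟨j, yj, rfl⟩ := hacover y
    rw [Set.mem_compl_iff, key U, key (fun j => (U j)ᶜ)]
    rfl
  refine ⟨⋃ j, a j '' U j, ⟨⟨?_, ?_⟩, ?_⟩, ?_⟩
  · rw [← isOpen_compl_iff, hcompl]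
    exact isOpen_iUnion fun j => (ha j).isOpenMap _ (hU j).1.compl.isOpen
  · exact isOpen_iUnion fun j => (ha j).isOpenMap _ (hU j).1.isOpen
  · ext x
    obtain ⟨j, xj, rfl⟩ := hbcover x
    rw [Set.mem_preimage, hcomm, key U]
    have := (hU j).2
    exact Set.ext_iff.mp this xj
  · rintro U' ⟨hU', hU'V⟩
    have h1 : ∀ j, a j ⁻¹' U' = U j := by
      intro j
      apply huniq j
      refine ⟨hU'.preimage (ha j).continuous, ?_⟩
      ext x
      rw [Set.mem_preimage, Set.mem_preimage, ← hcomm, Set.mem_preimage, ← hU'V]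
      rfl
    ext y
    obtain ⟨j, yj, rfl⟩ := hacover y
    rw [key U, ← h1 j]
    rfl

end Cover

section Schemes

open CategoryTheory CategoryTheory.Limits AlgebraicGeometry

variable {ι : Type u} (X X₀ : ι → Scheme.{u}) (i : ∀ j, X₀ j ⟶ X j)

theorem exists_sigmaι_eq (x : (∐ X : Scheme.{u})) :
    ∃ (j : ι) (y : X j), (Sigma.ι X j).base y = x := by
  obtain ⟨⟨j, y⟩, rfl⟩ := (sigmaMk X).surjective x
  exact ⟨j, y, (sigmaMk_mk X j y).symm⟩

theorem sigmaι_index_eq {j k : ι} (y : X j) (y' : X k)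
    (h : (Sigma.ι X j).base y = (Sigma.ι X k).base y') : j = k := by
  have := (sigmaι_eq_iff X j k y y').mp h
  exact congrArg Sigma.fst this

instance isClosedImmersion_sigmaι (j : ι) : IsClosedImmersion (Sigma.ι X j) := by
  apply IsClosedImmersion.of_isPreimmersion
  rw [← isOpen_compl_iff]
  have : (Set.range (Sigma.ι X j).base)ᶜ = ⋃ k ∈ {k | k ≠ j}, Set.range (Sigma.ι X k).base := by
    ext x
    obtain ⟨k, y, rfl⟩ := exists_sigmaι_eq X x
    simp only [Set.mem_compl_iff, Set.mem_range, Set.mem_iUnion, Set.mem_ofPred_eq, exists_prop]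
    constructor
    · intro h
      refine ⟨k, ?_, y, rfl⟩
      rintro rfl
      exact h ⟨y, rfl⟩
    · rintro ⟨k', hk', y', hy'⟩ ⟨y'', hy''⟩
      apply hk'
      exact sigmaι_index_eq X y' y'' (hy'.trans hy''.symm)
  rw [this]
  exact isOpen_biUnion fun k _ => (Sigma.ι X k).isOpenEmbedding.isOpen_range

/-- Pullbacks along `f ≫ m`, `g ≫ m` with `m` mono. -/
theorem isPullback_comp_mono {C : Type*} [Category C] {P A B Z Z' : C} {fst : P ⟶ A} {snd : P ⟶ B}
    {f : A ⟶ Z} {g : B ⟶ Z} (h : IsPullback fst snd f g) (m : Z ⟶ Z') [Mono m] :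
    IsPullback fst snd (f ≫ m) (g ≫ m) := by
  have t : IsPullback (𝟙 B) g (g ≫ m) m := IsPullback.of_horiz_isIso_mono ⟨by simp⟩
  have := (h.flip.paste_horiz t).flip
  simpa using this

variable {X X₀}

theorem liftsAlong_of_sigma
    (H : ∀ (Y : Scheme.{u}) (g : Y ⟶ ∐ X), IsFinite g →
      LiftsAlong (pullback.fst g (Limits.Sigma.map i)).base)
    (j : ι) (Y : Scheme.{u}) (g : Y ⟶ X j) (hg : IsFinite g) :
    LiftsAlong (pullback.fst g (i j)).base := by
  have hfin : IsFinite (g ≫ Sigma.ι X j) := inferInstance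
  have H' := H Y (g ≫ Sigma.ι X j) hfin
  let b : pullback g (i j) ⟶ pullback (g ≫ Sigma.ι X j) (Limits.Sigma.map i) :=
    pullback.lift (pullback.fst g (i j)) (pullback.snd g (i j) ≫ Sigma.ι X₀ j)
      (by simp [pullback.condition_assoc])
  have hb1 : b ≫ pullback.fst (g ≫ Sigma.ι X j) (Limits.Sigma.map i) = pullback.fst g (i j) :=
    pullback.lift_fst _ _ _
  have hb2 : b ≫ pullback.snd (g ≫ Sigma.ι X j) (Limits.Sigma.map i)
      = pullback.snd g (i j) ≫ Sigma.ι X₀ j := pullback.lift_snd _ _ _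
  have big : IsPullback (pullback.snd g (i j))
      (b ≫ pullback.fst (g ≫ Sigma.ι X j) (Limits.Sigma.map i))
      (Sigma.ι X₀ j ≫ Limits.Sigma.map i) (g ≫ Sigma.ι X j) := by
    rw [hb1, Sigma.ι_map]
    exact (isPullback_comp_mono (IsPullback.of_hasPullback g (i j)) (Sigma.ι X j)).flip
  have top : IsPullback (pullback.snd g (i j)) b (Sigma.ι X₀ j)
      (pullback.snd (g ≫ Sigma.ι X j) (Limits.Sigma.map i)) :=
    IsPullback.of_bot big hb2.symm (IsPullback.of_hasPullback _ _).flip
  have hbopen : IsOpenImmersion b :=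
    MorphismProperty.of_isPullback (P := @IsOpenImmersion) top inferInstance
  have hbsurj : Function.Surjective b.base := by
    intro x'
    obtain ⟨k, z₀, hz⟩ := exists_sigmaι_eq X₀
      ((pullback.snd (g ≫ Sigma.ι X j) (Limits.Sigma.map i)).base x')
    have hk : k = j := by
      have h1 : (Limits.Sigma.map i).base ((Sigma.ι X₀ k).base z₀)
          = (Sigma.ι X k).base ((i k).base z₀) := by
        rw [← Scheme.Hom.comp_apply, ← Scheme.Hom.comp_apply, Sigma.ι_map]
      have h2 : (Limits.Sigma.map i).base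
          ((pullback.snd (g ≫ Sigma.ι X j) (Limits.Sigma.map i)).base x')
          = (Sigma.ι X j).base (g.base
            ((pullback.fst (g ≫ Sigma.ι X j) (Limits.Sigma.map i)).base x')) := by
        rw [← Scheme.Hom.comp_apply, ← Scheme.Hom.comp_apply, ← Scheme.Hom.comp_apply,
          ← pullback.condition]
      rw [← hz, h1] at h2
      exact sigmaι_index_eq X _ _ h2
    subst hk
    obtain ⟨p, _, hp⟩ := Scheme.exists_preimage_of_isPullback top z₀ x' hz
    exact ⟨p, hp⟩
  let h : ↥(pullback g (i j)) ≃ₜ ↥(pullback (g ≫ Sigma.ι X j) (Limits.Sigma.map i)) :=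
    b.isOpenEmbedding.isEmbedding.toHomeomorphOfSurjective hbsurj
  have := liftsAlong_comp_homeomorph _ h H'
  have e : (⇑(pullback.fst (g ≫ Sigma.ι X j) (Limits.Sigma.map i)).base ∘ ⇑h)
      = ⇑(pullback.fst g (i j)).base := by
    funext x
    show (pullback.fst (g ≫ Sigma.ι X j) (Limits.Sigma.map i)).base (b.base x) = _
    rw [← Scheme.Hom.comp_apply, hb1]
  rwa [e] at this

theorem liftsAlong_sigma_of
    (H : ∀ (j : ι) (Y : Scheme.{u}) (g : Y ⟶ X j), IsFinite g →
      LiftsAlong (pullback.fst g (i j)).base)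
    (Y : Scheme.{u}) (g : Y ⟶ ∐ X) (hg : IsFinite g) :
    LiftsAlong (pullback.fst g (Limits.Sigma.map i)).base := by
  have hgj : ∀ j, IsFinite (pullback.snd g (Sigma.ι X j)) := fun j => inferInstance
  let b : ∀ j, pullback (pullback.snd g (Sigma.ι X j)) (i j) ⟶ pullback g (Limits.Sigma.map i) :=
    fun j => pullback.lift
      (pullback.fst (pullback.snd g (Sigma.ι X j)) (i j) ≫ pullback.fst g (Sigma.ι X j))
      (pullback.snd (pullback.snd g (Sigma.ι X j)) (i j) ≫ Sigma.ι X₀ j)
      (by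
        rw [Category.assoc, pullback.condition, pullback.condition_assoc, Category.assoc,
          Sigma.ι_map])
  have hb1 : ∀ j, b j ≫ pullback.fst g (Limits.Sigma.map i)
      = pullback.fst (pullback.snd g (Sigma.ι X j)) (i j) ≫ pullback.fst g (Sigma.ι X j) :=
    fun j => pullback.lift_fst _ _ _
  have hb2 : ∀ j, b j ≫ pullback.snd g (Limits.Sigma.map i)
      = pullback.snd (pullback.snd g (Sigma.ι X j)) (i j) ≫ Sigma.ι X₀ j :=
    fun j => pullback.lift_snd _ _ _
  have top : ∀ j, IsPullback (pullback.snd (pullback.snd g (Sigma.ι X j)) (i j)) (b j)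
      (Sigma.ι X₀ j) (pullback.snd g (Limits.Sigma.map i)) := by
    intro j
    have big : IsPullback (pullback.snd (pullback.snd g (Sigma.ι X j)) (i j))
        (b j ≫ pullback.fst g (Limits.Sigma.map i))
        (Sigma.ι X₀ j ≫ Limits.Sigma.map i) g := by
      rw [hb1, Sigma.ι_map]
      exact (IsPullback.of_hasPullback (pullback.snd g (Sigma.ι X j)) (i j)).flip.paste_vert
        (IsPullback.of_hasPullback g (Sigma.ι X j)).flip
    exact IsPullback.of_bot big (hb2 j).symm (IsPullback.of_hasPullback _ _).flip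
  refine liftsAlong_of_cover (ι := ι)
    (Pj := fun j => ↥(pullback (pullback.snd g (Sigma.ι X j)) (i j)))
    (Yj := fun j => ↥(pullback g (Sigma.ι X j)))
    (pullback.fst g (Limits.Sigma.map i)).base
    (fun j => (pullback.fst (pullback.snd g (Sigma.ι X j)) (i j)).base)
    (fun j => (pullback.fst g (Sigma.ι X j)).base)
    (fun j => (b j).base)
    (fun j => (pullback.fst g (Sigma.ι X j)).isOpenEmbedding)
    (fun j => (b j).continuous) ?_ ?_ ?_ ?_
    (fun j => H j _ (pullback.snd g (Sigma.ι X j)) (hgj j))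
  · intro j x
    rw [← Scheme.Hom.comp_apply, hb1, Scheme.Hom.comp_apply]
  · intro y
    obtain ⟨j, z, hz⟩ := exists_sigmaι_eq X (g.base y)
    obtain ⟨yj, hyj, _⟩ := Scheme.Pullback.exists_preimage_pullback y z hz.symm
    exact ⟨j, yj, hyj⟩
  · intro j k y y' hyy'
    have h1 : g.base ((pullback.fst g (Sigma.ι X j)).base y)
        = (Sigma.ι X j).base ((pullback.snd g (Sigma.ι X j)).base y) := by
      rw [← Scheme.Hom.comp_apply, ← Scheme.Hom.comp_apply, pullback.condition]
    have h2 : g.base ((pullback.fst g (Sigma.ι X k)).base y')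
        = (Sigma.ι X k).base ((pullback.snd g (Sigma.ι X k)).base y') := by
      rw [← Scheme.Hom.comp_apply, ← Scheme.Hom.comp_apply, pullback.condition]
    rw [hyy', h2] at h1
    exact (sigmaι_index_eq X _ _ h1).symm
  · intro x
    obtain ⟨j, z₀, hz⟩ := exists_sigmaι_eq X₀ ((pullback.snd g (Limits.Sigma.map i)).base x)
    obtain ⟨p, _, hp⟩ := Scheme.exists_preimage_of_isPullback (top j) z₀ x hz
    exact ⟨j, p, hp⟩

end Schemes

end Groth.Agent.Lib.Seat87.HensCoprod
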