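import Mathlib
import Groth.Agent.Lib.Helper26HenselIdem
import Groth.Agent.Lib.Seat87HensCoprod

/-!
# Henselian pairs and lifting of clopen subsets along finite morphisms (engine for S17971)

`(A, I)` is henselian iff for every finite `g : Y ⟶ Spec A` every clopen subset of
`Y ×_{Spec A} Spec (A/I)` is the preimage of a unique clopen subset of `Y`.
-/

set_option autoImplicit false
universe u v w

open CategoryTheory CategoryTheory.Limits AlgebraicGeometry

namespace Groth.Agent.Lib.Seat87.HensClopen

open Groth.Agent.Lib.Seat87.HensCoprod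

section Top

variable {P P' : Type v} {Y Y' : Type w} [TopologicalSpace P] [TopologicalSpace P']
  [TopologicalSpace Y] [TopologicalSpace Y']

/-- Transport of `LiftsAlong` along homeomorphisms of source and target. -/
theorem liftsAlong_of_homeomorph (e : P → Y) (e' : P' → Y') (k : P ≃ₜ P') (h : Y ≃ₜ Y')
    (hcomm : ∀ x, h (e x) = e' (k x)) (H : LiftsAlong e') : LiftsAlong e := by
  intro V hV
  have hV' : IsClopen (k.symm ⁻¹' V) := hV.preimage k.symm.continuous
  obtain ⟨U', ⟨hU', hU'V⟩, huniq⟩ := H _ hV'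
  refine ⟨h ⁻¹' U', ⟨hU'.preimage h.continuous, ?_⟩, ?_⟩
  · ext x
    have h1 : e' (k x) ∈ U' ↔ k x ∈ k.symm ⁻¹' V := by rw [← hU'V]; rfl
    simp only [Set.mem_preimage, hcomm]
    rw [h1]
    simp
  · rintro U₁ ⟨hU₁, hU₁V⟩
    have h2 : h.symm ⁻¹' U₁ = U' := by
      apply huniq
      refine ⟨hU₁.preimage h.symm.continuous, ?_⟩
      ext x'
      simp only [Set.mem_preimage]
      have h1 : h.symm (e' x') = e (k.symm x') := by
        rw [Homeomorph.symm_apply_eq, hcomm]
        simp
      rw [h1, ← hU₁V]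
      rfl
    rw [← h2]
    ext y
    simp

/-- For embeddings, `LiftsAlong` only depends on the range (up to a homeomorphism of targets). -/
theorem liftsAlong_of_isEmbedding (e : P → Y) (e' : P' → Y') (he : Topology.IsEmbedding e)
    (he' : Topology.IsEmbedding e') (h : Y ≃ₜ Y') (hr : h '' Set.range e = Set.range e')
    (H : LiftsAlong e') : LiftsAlong e := by
  let k : P ≃ₜ P' := he.toHomeomorph.trans ((h.image (Set.range e)).trans
    ((Homeomorph.setCongr hr).trans he'.toHomeomorph.symm))
  refine liftsAlong_of_homeomorph e e' k h ?_ H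
  intro x
  have h1 : ∀ y : Set.range e', e' (he'.toHomeomorph.symm y) = y.1 := by
    intro y
    have := congrArg Subtype.val (he'.toHomeomorph.apply_symm_apply y)
    rwa [Topology.IsEmbedding.toHomeomorph_apply_coe] at this
  rw [show k x = he'.toHomeomorph.symm ((Homeomorph.setCongr hr) ((h.image (Set.range e))
    (he.toHomeomorph x))) from rfl, h1]
  rfl

end Top

section Ring

variable {B : Type u} [CommRing B]

theorem isClopen_basicOpen_of_isIdempotentElem {e : B} (he : IsIdempotentElem e) :
    IsClopen (PrimeSpectrum.basicOpen e : Set (PrimeSpectrum B)) :=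
  PrimeSpectrum.isClopen_basicOpen_of_mul_add e (1 - e)
    (by rw [mul_sub, mul_one, he.eq, sub_self]) (by ring)

theorem preimage_comap_basicOpen {C : Type u} [CommRing C] (f : B →+* C) (e : B) :
    PrimeSpectrum.comap f ⁻¹' (PrimeSpectrum.basicOpen e : Set (PrimeSpectrum B)) =
      (PrimeSpectrum.basicOpen (f e) : Set (PrimeSpectrum C)) := by
  ext x
  simp

/-- Clopen lifting along `Spec (B/J) → Spec B` is unique lifting of idempotents. -/
theorem liftsAlong_comap_iff_bijOn (J : Ideal B) :
    LiftsAlong (PrimeSpectrum.comap (Ideal.Quotient.mk J)) ↔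
      Set.BijOn (Ideal.Quotient.mk J) {e : B | IsIdempotentElem e} {e | IsIdempotentElem e} := by
  constructor
  · intro H
    refine ⟨fun e he => he.map _, ?_, ?_⟩
    · intro e₁ h₁ e₂ h₂ h12
      have hcl := isClopen_basicOpen_of_isIdempotentElem ((h₁ : IsIdempotentElem e₁).map
        (Ideal.Quotient.mk J))
      obtain ⟨U, -, huniq⟩ := H _ hcl
      have a1 := huniq _ ⟨isClopen_basicOpen_of_isIdempotentElem h₁,
        preimage_comap_basicOpen _ _⟩
      have a2 := huniq _ ⟨isClopen_basicOpen_of_isIdempotentElem h₂, by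
        rw [preimage_comap_basicOpen, h12]⟩
      exact PrimeSpectrum.basicOpen_injOn_isIdempotentElem h₁ h₂
        (SetLike.ext' (a1.trans a2.symm))
    · intro ebar hebar
      have hcl := isClopen_basicOpen_of_isIdempotentElem (hebar : IsIdempotentElem ebar)
      obtain ⟨U, ⟨hU, hUV⟩, -⟩ := H _ hcl
      obtain ⟨e, he, rfl⟩ := PrimeSpectrum.exists_idempotent_basicOpen_eq_of_isClopen hU
      refine ⟨e, he, ?_⟩
      rw [preimage_comap_basicOpen] at hUV
      exact PrimeSpectrum.basicOpen_injOn_isIdempotentElem (he.map _) hebar (SetLike.ext' hUV)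
  · intro H V hV
    obtain ⟨ebar, hebar, rfl⟩ := PrimeSpectrum.exists_idempotent_basicOpen_eq_of_isClopen hV
    obtain ⟨e, he, rfl⟩ := H.surjOn hebar
    refine ⟨PrimeSpectrum.basicOpen e, ⟨isClopen_basicOpen_of_isIdempotentElem he,
      preimage_comap_basicOpen _ _⟩, ?_⟩
    rintro U₁ ⟨hU₁, hU₁V⟩
    obtain ⟨e₁, he₁, rfl⟩ := PrimeSpectrum.exists_idempotent_basicOpen_eq_of_isClopen hU₁
    rw [preimage_comap_basicOpen] at hU₁V
    have h3 := PrimeSpectrum.basicOpen_injOn_isIdempotentElem (he₁.map _)
      ((he : IsIdempotentElem e).map (Ideal.Quotient.mk J)) (SetLike.ext' hU₁V)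
    rw [H.injOn he₁ he h3]

end Ring

section Sch

variable {A : Type u} [CommRing A] (I : Ideal A)

theorem range_quot :
    Set.range (Spec.map (CommRingCat.ofHom (Ideal.Quotient.mk I))).base =
      PrimeSpectrum.zeroLocus (I : Set A) := by
  have := range_comap_of_surjective (A ⧸ I) (Ideal.Quotient.mk I) Ideal.Quotient.mk_surjective
  rw [Ideal.mk_ker] at this
  exact this

theorem liftsAlong_fst_iff (Y : Scheme.{u}) (g : Y ⟶ Spec (CommRingCat.of A))
    {B : Type u} [CommRing B] (φ : A →+* B) (e : Y ≅ Spec (CommRingCat.of B))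
    (he : e.hom ≫ Spec.map (CommRingCat.ofHom φ) = g) :
    LiftsAlong (pullback.fst g (Spec.map (CommRingCat.ofHom (Ideal.Quotient.mk I)))).base ↔
      LiftsAlong (PrimeSpectrum.comap (Ideal.Quotient.mk (I.map φ))) := by
  haveI : IsClosedImmersion (Spec.map (CommRingCat.ofHom (Ideal.Quotient.mk I))) :=
    IsClosedImmersion.spec_of_surjective _ Ideal.Quotient.mk_surjective
  have hemb1 : Topology.IsEmbedding
      (pullback.fst g (Spec.map (CommRingCat.ofHom (Ideal.Quotient.mk I)))).base :=
    (pullback.fst g (Spec.map (CommRingCat.ofHom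
      (Ideal.Quotient.mk I)))).isClosedEmbedding.isEmbedding
  have hemb2 : Topology.IsEmbedding (PrimeSpectrum.comap (Ideal.Quotient.mk (I.map φ))) :=
    (PrimeSpectrum.isClosedEmbedding_comap_of_surjective _ _
      Ideal.Quotient.mk_surjective).isEmbedding
  have hr2 : Set.range (PrimeSpectrum.comap (Ideal.Quotient.mk (I.map φ))) =
      PrimeSpectrum.zeroLocus (I.map φ : Set B) := by
    have := range_comap_of_surjective (B ⧸ I.map φ) (Ideal.Quotient.mk (I.map φ))
      Ideal.Quotient.mk_surjective
    rw [Ideal.mk_ker] at this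
    exact this
  let h : ↥Y ≃ₜ PrimeSpectrum B := Scheme.homeoOfIso e
  have hg : ∀ y : ↥Y, g.base y = PrimeSpectrum.comap φ (h y) := by
    intro y
    rw [← he]
    rfl
  have key : ∀ y : ↥Y,
      y ∈ Set.range (pullback.fst g (Spec.map (CommRingCat.ofHom (Ideal.Quotient.mk I)))).base ↔
        h y ∈ PrimeSpectrum.zeroLocus (I.map φ : Set B) := by
    intro y
    have e1 : h y ∈ PrimeSpectrum.zeroLocus (I.map φ : Set B) ↔
        PrimeSpectrum.comap φ (h y) ∈ PrimeSpectrum.zeroLocus (I : Set A) := by
      rw [PrimeSpectrum.mem_zeroLocus, PrimeSpectrum.mem_zeroLocus, SetLike.coe_subset_coe,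
        Ideal.map_le_iff_le_comap]
      rfl
    rw [e1, ← hg y, ← range_quot I]
    exact Set.ext_iff.mp (Scheme.Pullback.range_fst _ _) y
  have hr : h '' Set.range (pullback.fst g (Spec.map (CommRingCat.ofHom
      (Ideal.Quotient.mk I)))).base
      = Set.range (PrimeSpectrum.comap (Ideal.Quotient.mk (I.map φ))) := by
    rw [hr2]
    ext q
    constructor
    · rintro ⟨y, hy, rfl⟩
      exact (key y).mp hy
    · intro hq
      refine ⟨h.symm q, (key _).mpr ?_, h.apply_symm_apply q⟩
      rw [h.apply_symm_apply]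
      exact hq
  constructor
  · intro H
    refine liftsAlong_of_isEmbedding _ _ hemb2 hemb1 h.symm ?_ H
    rw [← hr]
    ext y
    simp
  · intro H
    exact liftsAlong_of_isEmbedding _ _ hemb1 hemb2 h hr H

/-- **Henselian pairs via clopen lifting along finite morphisms.** -/
theorem henselianRing_iff_liftsAlong (A : Type u) [CommRing A] (I : Ideal A) :
    HenselianRing A I ↔
    ∀ (Y : Scheme.{u}) (g : Y ⟶ Spec (CommRingCat.of A)), IsFinite g →
      LiftsAlong (pullback.fst g (Spec.map (CommRingCat.ofHom (Ideal.Quotient.mk I)))).base := by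
  constructor
  · intro hH Y g hg
    haveI : IsAffine Y := isAffine_of_isAffineHom g
    let φ : A →+* Γ(Y, ⊤) := ((Scheme.ΓSpecIso (CommRingCat.of A)).inv ≫ g.appTop).hom
    have he : Y.isoSpec.hom ≫ Spec.map (CommRingCat.ofHom φ) = g := by
      have h1 : CommRingCat.ofHom φ = (Scheme.ΓSpecIso (CommRingCat.of A)).inv ≫ g.appTop := rfl
      rw [h1, Spec.map_comp, Scheme.isoSpec_hom, ← Scheme.toSpecΓ_naturality_assoc,
        toSpecΓ_SpecMap_ΓSpecIso_inv, Category.comp_id]
    have hfin : φ.Finite := by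
      have h2 : IsFinite (Spec.map (CommRingCat.ofHom φ)) := by
        have h3 : Spec.map (CommRingCat.ofHom φ) = Y.isoSpec.inv ≫ g := by
          rw [← he, Iso.inv_hom_id_assoc]
        rw [h3]
        infer_instance
      exact (IsFinite.SpecMap_iff _).mp h2
    rw [liftsAlong_fst_iff I Y g φ Y.isoSpec he, liftsAlong_comap_iff_bijOn]
    letI := φ.toAlgebra
    haveI : Module.Finite A Γ(Y, ⊤) := hfin
    haveI : Algebra.IsIntegral A Γ(Y, ⊤) := inferInstance
    exact Groth.Agent.Lib.Helper26.HenselIdem.idem_bijOn A I Γ(Y, ⊤)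
  · intro H
    apply Groth.Agent.Lib.Helper26.HenselIdem.henselian_of_finite_bijOn
    intro B _ _ hB
    have hfin : IsFinite (Spec.map (CommRingCat.ofHom (algebraMap A B))) := by
      rw [IsFinite.SpecMap_iff]
      exact (RingHom.finite_algebraMap (A := A) (B := B)).mpr hB
    have := H _ _ hfin
    rw [liftsAlong_fst_iff I _ _ (algebraMap A B) (Iso.refl _) (by simp),
      liftsAlong_comap_iff_bijOn] at this
    exact this

end Sch

end Groth.Agent.Lib.Seat87.HensClopen
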