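import Mathlib
import Groth.Agent.Lib.Helper3HenselE

/-!
# Étale schemes over a henselian local ring contain a finite open piece (engine for S18026)
-/

set_option autoImplicit false
universe u
open CategoryTheory CategoryTheory.Limits AlgebraicGeometry

namespace Groth.Agent.Lib.Seat87.HensEtFin

/-- Affine version. -/
theorem affine_case (A : Type u) [CommRing A] [HenselianLocalRing A] (B : CommRingCat.{u})
    (ψ : CommRingCat.of A ⟶ B) [Etale (Spec.map ψ)] (q : PrimeSpectrum B)
    (hq : (Spec.map ψ).base q = IsLocalRing.closedPoint A) :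
    ∃ (C : CommRingCat.{u}) (π : B ⟶ C), IsOpenImmersion (Spec.map π) ∧
      q ∈ Set.range (Spec.map π).base ∧ IsFinite (Spec.map (ψ ≫ π)) := by
  have hψ : ψ.hom.Etale := (HasRingHomProperty.Spec_iff (P := @Etale)).mp inferInstance
  algebraize [ψ.hom]
  have : q.asIdeal.IsPrime := q.isPrime
  have hq' : q.asIdeal.LiesOver (IsLocalRing.maximalIdeal A) := by
    constructor
    have := congrArg PrimeSpectrum.asIdeal hq
    exact this.symm
  obtain ⟨e, he, heq, hfin, -⟩ :=
    Groth.Agent.Lib.Helper3.Hensel.exists_idempotent_of_quasiFiniteAt (R := A) (S := B) q.asIdeal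
  refine ⟨CommRingCat.of (B ⧸ Ideal.span {1 - e}),
    CommRingCat.ofHom (Ideal.Quotient.mk (Ideal.span {1 - e})), ?_, ?_, ?_⟩
  · rw [isOpenImmersion_SpecMap_iff_of_surjective _ Ideal.Quotient.mk_surjective]
    exact ⟨1 - e, he.one_sub, by simp⟩
  · have h1 : (1 - e) ∈ q.asIdeal := by
      have h0 : e * (1 - e) ∈ q.asIdeal := by
        rw [mul_sub, mul_one, he.eq, sub_self]
        exact q.asIdeal.zero_mem
      exact (q.isPrime.mem_or_mem h0).resolve_left heq
    have h2 : q ∈ Set.range (PrimeSpectrum.comap (Ideal.Quotient.mk (Ideal.span {1 - e}))) := by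
      rw [range_comap_of_surjective _ _ Ideal.Quotient.mk_surjective,
        Ideal.mk_ker, PrimeSpectrum.mem_zeroLocus, SetLike.coe_subset_coe, Ideal.span_le,
        Set.singleton_subset_iff]
      exact h1
    exact h2
  · rw [IsFinite.SpecMap_iff]
    have h3 : (ψ ≫ CommRingCat.ofHom (Ideal.Quotient.mk (Ideal.span {1 - e}))).hom
        = algebraMap A (B ⧸ Ideal.span {1 - e}) := rfl
    rw [h3, RingHom.finite_algebraMap]
    exact hfin

theorem main (A : Type u) [CommRing A] [HenselianLocalRing A]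
    (T : Scheme.{u}) (f : T ⟶ Spec (CommRingCat.of A)) [Etale f] [Surjective f] :
    ∃ U : T.Opens, IsFinite (U.ι ≫ f) ∧ Surjective (U.ι ≫ f) := by
  obtain ⟨t, ht⟩ := f.surjective (IsLocalRing.closedPoint A)
  obtain ⟨_, ⟨V, hV0, rfl⟩, htV, -⟩ :=
    T.isBasis_affineOpens.exists_subset_of_mem_open (Set.mem_univ t) isOpen_univ
  have hV : IsAffineOpen V := hV0
  let ψ : CommRingCat.of A ⟶ Γ(T, V) := Spec.preimage (hV.fromSpec ≫ f)
  have hψ : Spec.map ψ = hV.fromSpec ≫ f := Spec.map_preimage _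
  have : Etale (Spec.map ψ) := by rw [hψ]; infer_instance
  obtain ⟨q, hq⟩ : ∃ q : ↥(Spec Γ(T, V)), hV.fromSpec.base q = t := by
    have : t ∈ Set.range hV.fromSpec.base := by
      rw [hV.range_fromSpec]; exact htV
    exact this
  have hq' : (Spec.map ψ).base q = IsLocalRing.closedPoint A := by
    rw [hψ]
    show f.base (hV.fromSpec.base q) = _
    rw [hq, ht]
  obtain ⟨C, π, hopen, hqr, hfin⟩ := affine_case A Γ(T, V) ψ q hq'
  obtain ⟨c, hc⟩ := hqr
  let j' : Spec C ⟶ T := Spec.map π ≫ hV.fromSpec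
  have hj' : IsOpenImmersion j' := inferInstance
  have hj'f : j' ≫ f = Spec.map (ψ ≫ π) := by
    rw [Spec.map_comp, Category.assoc, hψ]
  refine ⟨j'.opensRange, ?_, ?_⟩
  · have h1 : IsFinite (j'.isoOpensRange.hom ≫ j'.opensRange.ι ≫ f) := by
      rw [← Category.assoc, Scheme.Hom.isoOpensRange_hom_ι, hj'f]
      exact hfin
    have h2 : IsFinite (j'.isoOpensRange.inv ≫ j'.isoOpensRange.hom ≫ j'.opensRange.ι ≫ f) :=
      inferInstance
    rwa [Iso.inv_hom_id_assoc] at h2
  · have hopenmap : IsOpenMap f.base := f.isOpenMap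
    have hU : IsOpen (f.base '' (j'.opensRange : Set T)) := hopenmap _ j'.opensRange.isOpen
    have hmem : IsLocalRing.closedPoint A ∈ f.base '' (j'.opensRange : Set T) := by
      refine ⟨t, ⟨c, ?_⟩, ht⟩
      rw [Scheme.Hom.comp_apply, hc, hq]
    constructor
    intro x
    have hx : x ∈ f.base '' (j'.opensRange : Set T) :=
      (IsLocalRing.specializes_closedPoint (R := A) x).mem_open hU hmem
    obtain ⟨y, hy, rfl⟩ := hx
    exact ⟨⟨y, hy⟩, rfl⟩

end Groth.Agent.Lib.Seat87.HensEtFin
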