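import Mathlib
import Groth.Agent.Lib.Seat87HensClopen
import Groth.Agent.Lib.Seat87SchIdem
import Groth.Agent.S17968

/-!
# Henselian couples have henselian rings of global sections (engine for S17959)
-/

set_option autoImplicit false
universe u

open CategoryTheory CategoryTheory.Limits AlgebraicGeometry TopologicalSpace Opposite TensorProduct

namespace Groth.Agent.Lib.Seat87.HensGlobal

open Groth.Agent.Lib.Seat87.HensCoprod Groth.Agent.Lib.Seat87.SchIdem

variable {X X₀ : Scheme.{u}} (i : X₀ ⟶ X) [IsClosedImmersion i]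

omit [IsClosedImmersion i] in
/-- In a henselian couple, a global function which is `1` on `X₀` is a unit. -/
theorem isUnit_of_couple
    (hX : ∀ (Y : Scheme.{u}) (g : Y ⟶ X), IsFinite g → LiftsAlong (pullback.fst g i).base)
    (a : Γ(X, ⊤)) (ha : i.appTop a = 1) : IsUnit a := by
  have hD : ∀ x : X, x ∈ X.basicOpen a := by
    by_contra hcon
    simp only [not_forall] at hcon
    obtain ⟨x₀, hx₀⟩ := hcon
    let Z : TopologicalSpace.Closeds X :=
      ⟨((X.basicOpen a : X.Opens) : Set X)ᶜ, (X.basicOpen a).2.isClosed_compl⟩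
    let g := (Scheme.IdealSheafData.vanishingIdeal Z).subschemeι
    have hrange : Set.range g = ((X.basicOpen a : X.Opens) : Set X)ᶜ := by
      rw [Scheme.IdealSheafData.range_subschemeι, Scheme.IdealSheafData.coe_support_vanishingIdeal]
      rfl
    have hfin : IsFinite g := inferInstance
    have hL := hX _ g hfin
    have hempty : IsEmpty ↥(pullback g i) := by
      constructor
      intro w
      have h1 : g ((pullback.fst g i) w) = i ((pullback.snd g i) w) := by
        rw [← Scheme.Hom.comp_apply, ← Scheme.Hom.comp_apply, pullback.condition]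
      have h2 : g (pullback.fst g i w) ∈ ((X.basicOpen a : X.Opens) : Set X)ᶜ :=
        hrange ▸ ⟨_, rfl⟩
      apply h2
      rw [h1]
      have : (pullback.snd g i) w ∈ i ⁻¹ᵁ X.basicOpen a := by
        rw [Scheme.preimage_basicOpen_top, ha, Scheme.basicOpen_one]
        trivial
      exact this
    obtain ⟨U, -, huniq⟩ := hL ∅ isClopen_empty
    have h1 := huniq ∅ ⟨isClopen_empty, by simp⟩
    have h2 := huniq Set.univ ⟨isClopen_univ, by ext w; exact (hempty.false w).elim⟩
    have hx₀' : x₀ ∈ Set.range g := hrange ▸ hx₀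
    obtain ⟨y, hy⟩ := hx₀'
    have : y ∈ (Set.univ : Set _) := trivial
    rw [h2, ← h1] at this
    exact this
  apply RingedSpace.isUnit_of_isUnit_germ X.toRingedSpace ⊤ a
  intro x hx
  exact (X.mem_basicOpen_top a x).mp (hD x)

/-- The kernel of restriction to `X₀` lies in the Jacobson radical. -/
theorem ker_le_jacobson
    (hX : ∀ (Y : Scheme.{u}) (g : Y ⟶ X), IsFinite g → LiftsAlong (pullback.fst g i).base) :
    RingHom.ker i.appTop.hom ≤ Ideal.jacobson ⊥ := by
  intro x hx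
  rw [Ideal.mem_jacobson_bot]
  intro y
  apply isUnit_of_couple i hX
  have hx' : i.appTop.hom x = 0 := hx
  show i.appTop.hom (x * y + 1) = 1
  rw [map_add, map_mul, hx', zero_mul, zero_add, map_one]


section FlatBaseChange

theorem appLE_top_top {X Y : Scheme.{u}} (f : X ⟶ Y) (h : (⊤ : X.Opens) ≤ f ⁻¹ᵁ ⊤) :
    f.appLE ⊤ ⊤ h = f.appTop := by
  have h1 : f.appLE ⊤ ⊤ h = f.app ⊤ ≫ X.presheaf.map (𝟙 (op (f ⁻¹ᵁ ⊤))) := rfl
  rw [h1, X.presheaf.map_id, Category.comp_id]

variable {X : Scheme.{u}} [CompactSpace ↥X] [QuasiSeparatedSpace ↥X]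

/-- Flat base change for global sections over the affinization. -/
theorem isIso_snd_appTop {C : CommRingCat.{u}} (φ : Γ(X, ⊤) ⟶ C) (hφ : φ.hom.Flat) :
    IsIso (pullback.snd X.toSpecΓ (Spec.map φ)).appTop := by
  haveI : Flat (Spec.map φ) := Flat.SpecMap_iff.mpr hφ
  have H := IsPullback.of_hasPullback X.toSpecΓ (Spec.map φ)
  have hUST : (⊤ : (Spec C).Opens) ≤ (Spec.map φ) ⁻¹ᵁ (⊤ : (Spec Γ(X, ⊤)).Opens) := le_of_eq rfl
  have hUSX : (⊤ : X.Opens) ≤ X.toSpecΓ ⁻¹ᵁ (⊤ : (Spec Γ(X, ⊤)).Opens) := le_of_eq rfl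
  have hUY : (⊤ : (pullback X.toSpecΓ (Spec.map φ)).Opens) =
      (pullback.fst X.toSpecΓ (Spec.map φ)) ⁻¹ᵁ ⊤ ⊓ (pullback.snd X.toSpecΓ (Spec.map φ)) ⁻¹ᵁ ⊤ := by
    ext x; simp
  have h1 := isIso_pushoutSection_of_isQuasiSeparated_of_flat_right H hUST hUSX hUY
    (isAffineOpen_top _) (isAffineOpen_top _) (by simpa using CompactSpace.isCompact_univ)
    (by simpa using (isQuasiSeparated_univ_iff.mpr inferInstance))
  have h2 : pushout.inr _ _ ≫ pushoutSection H hUST hUSX hUY =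
      (pullback.snd X.toSpecΓ (Spec.map φ)).appLE ⊤ ⊤ (by simp) := pushout.inr_desc _ _ _
  haveI : IsIso (X.toSpecΓ.appLE ⊤ ⊤ hUSX) := by
    rw [appLE_top_top, Scheme.toSpecΓ_appTop]
    infer_instance
  have h3 : IsIso ((pullback.snd X.toSpecΓ (Spec.map φ)).appLE ⊤ ⊤ (by simp)) := by
    rw [← h2]
    infer_instance
  have h4 : (pullback.snd X.toSpecΓ (Spec.map φ)).appLE ⊤ ⊤ (by simp) =
      (pullback.snd X.toSpecΓ (Spec.map φ)).appTop := appLE_top_top _ _
  rwa [h4] at h3


end FlatBaseChange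

section PureAlgebra

theorem mem_map_of_one_tmul_eq_zero {B A C : Type u} [CommRing B] [CommRing A] [CommRing C]
    [Algebra B A] [Algebra B C] [Module.Free B C] (c : C)
    (h : (1 : A) ⊗ₜ[B] c = 0) : c ∈ Ideal.map (algebraMap B C) (RingHom.ker (algebraMap B A)) := by
  classical
  let b := Module.Free.chooseBasis B C
  let bT := Algebra.TensorProduct.basis A b
  have h1 := congrArg bT.repr h
  rw [Algebra.TensorProduct.basis_repr_tmul, one_smul, map_zero] at h1
  have h2 : ∀ j, b.repr c j ∈ RingHom.ker (algebraMap B A) := by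
    intro j
    have := Finsupp.ext_iff.mp h1 j
    rwa [Finsupp.mapRange_apply] at this
  have h3 := b.linearCombination_repr c
  rw [Finsupp.linearCombination_apply, Finsupp.sum] at h3
  rw [← h3]
  refine Ideal.sum_mem _ (fun j _ => ?_)
  rw [Algebra.smul_def]
  exact Ideal.mul_mem_right _ _ (Ideal.mem_map_of_mem _ (h2 j))

theorem mem_map_ker_of_inr_eq_zero {R A C' B C : CommRingCat.{u}} (α : R ⟶ A) (β : R ⟶ C')
    [Algebra B C] [Module.Free B C]
    (eB : R ≅ B) (eC : C' ≅ C)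
    (hcomm : β ≫ eC.hom = eB.hom ≫ CommRingCat.ofHom (algebraMap B C))
    (c : C) (hc : (pushout.inr α β) (eC.inv c) = 0) :
    c ∈ Ideal.map (algebraMap B C) (RingHom.ker (eB.inv ≫ α).hom) := by
  letI : Algebra B A := (eB.inv ≫ α).hom.toAlgebra
  have hA : ∀ b : B, algebraMap B A b = α (eB.inv b) := fun b => rfl
  let d : pushout α β ⟶ CommRingCat.of (A ⊗[B] C) :=
    pushout.desc (CommRingCat.ofHom (Algebra.TensorProduct.includeLeftRingHom (A := A)))
      (eC.hom ≫ CommRingCat.ofHom (Algebra.TensorProduct.includeRight.toRingHom (A := C)))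
      (by
        ext r
        have h1 : eC.hom (β r) = algebraMap B C (eB.hom r) := by
          have := congrArg (fun f => f.hom r) hcomm
          simpa using this
        have h2 : α r = algebraMap B A (eB.hom r) := by
          rw [hA]
          have : eB.inv (eB.hom r) = r := by
            rw [← CommRingCat.comp_apply, Iso.hom_inv_id]; rfl
          rw [this]
        show (α r : A) ⊗ₜ[B] (1 : C) = (1 : A) ⊗ₜ[B] (eC.hom (β r))
        rw [h1, h2]
        exact ((Algebra.TensorProduct.includeLeft (R := B) (S := B) (A := A) (B := C)).commutes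
          (eB.hom r)).trans
          ((Algebra.TensorProduct.includeRight (R := B) (A := A) (B := C)).commutes
            (eB.hom r)).symm)
  have h3 : d (pushout.inr α β (eC.inv c)) = (1 : A) ⊗ₜ[B] c := by
    rw [← CommRingCat.comp_apply, pushout.inr_desc]
    show (1 : A) ⊗ₜ[B] (eC.hom (eC.inv c)) = _
    congr 1
    rw [← CommRingCat.comp_apply, Iso.inv_hom_id]
    rfl
  rw [hc, map_zero] at h3
  exact mem_map_of_one_tmul_eq_zero c h3.symm


end PureAlgebra


section Main

variable [CompactSpace ↥X] [QuasiSeparatedSpace ↥X]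

set_option maxHeartbeats 1600000 in
/-- Gabber-type lifting of idempotents for `B[T]/(p)` from a henselian couple. -/
theorem surjOn_adjoinRoot
    (hX : ∀ (Y : Scheme.{u}) (g : Y ⟶ X), IsFinite g → LiftsAlong (pullback.fst g i).base)
    (p : Polynomial Γ(X, ⊤)) (hp : p.Monic) :
    Set.SurjOn (Ideal.Quotient.mk (Ideal.map (algebraMap Γ(X, ⊤) (AdjoinRoot p))
        (RingHom.ker i.appTop.hom)))
      {e : AdjoinRoot p | IsIdempotentElem e} {e | IsIdempotentElem e} := by
  haveI : Module.Free Γ(X, ⊤) (AdjoinRoot p) := hp.free_adjoinRoot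
  haveI : Module.Finite Γ(X, ⊤) (AdjoinRoot p) := hp.finite_adjoinRoot
  let φ : Γ(X, ⊤) ⟶ CommRingCat.of (AdjoinRoot p) :=
    CommRingCat.ofHom (algebraMap Γ(X, ⊤) (AdjoinRoot p))
  have hφflat : φ.hom.Flat := RingHom.flat_algebraMap_iff.mpr inferInstance
  have hφfin : φ.hom.Finite := RingHom.finite_algebraMap.mpr inferInstance
  haveI : IsFinite (Spec.map φ) := (IsFinite.SpecMap_iff _).mpr hφfin
  haveI : Flat (Spec.map φ) := Flat.SpecMap_iff.mpr hφflat
  let eC := Scheme.ΓSpecIso (CommRingCat.of (AdjoinRoot p))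
  let eB := Scheme.ΓSpecIso Γ(X, ⊤)
  let pr₁ := pullback.fst X.toSpecΓ (Spec.map φ)
  let pr₂ := pullback.snd X.toSpecΓ (Spec.map φ)
  let fst' := pullback.fst pr₁ i
  let snd' := pullback.snd pr₁ i
  have hpr₁ : IsFinite pr₁ := inferInstance
  -- θ : C → Γ(Y), bijective
  haveI hiso : IsIso pr₂.appTop := isIso_snd_appTop φ hφflat
  let θ : AdjoinRoot p →+* Γ(pullback X.toSpecΓ (Spec.map φ), ⊤) :=
    pr₂.appTop.hom.comp eC.inv.hom
  have hθbij : Function.Bijective θ := by
    have h1 : Function.Bijective (eC.inv ≫ pr₂.appTop) :=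
      ConcreteCategory.bijective_of_isIso (eC.inv ≫ pr₂.appTop)
    exact h1
  let κ : AdjoinRoot p →+* Γ(pullback pr₁ i, ⊤) := fst'.appTop.hom.comp θ
  -- compatibilities
  have hE1 : φ ≫ eC.inv ≫ pr₂.appTop = pr₁.appTop := by
    rw [← Category.assoc, Scheme.ΓSpecIso_inv_naturality, Category.assoc,
      ← Scheme.Hom.comp_appTop, ← pullback.condition, Scheme.Hom.comp_appTop,
      Scheme.toSpecΓ_appTop, Iso.inv_hom_id_assoc]
  have hE2 : pr₁.appTop ≫ fst'.appTop = i.appTop ≫ snd'.appTop := by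
    rw [← Scheme.Hom.comp_appTop, ← Scheme.Hom.comp_appTop, pullback.condition]
  have hκalg : ∀ b : Γ(X, ⊤), κ (algebraMap Γ(X, ⊤) (AdjoinRoot p) b)
      = snd'.appTop (i.appTop b) := by
    intro b
    have h1 : κ (algebraMap Γ(X, ⊤) (AdjoinRoot p) b)
        = ((φ ≫ eC.inv ≫ pr₂.appTop) ≫ fst'.appTop) b := rfl
    rw [h1, hE1, hE2]
    rfl
  have hK1 : Ideal.map (algebraMap Γ(X, ⊤) (AdjoinRoot p)) (RingHom.ker i.appTop.hom)
      ≤ RingHom.ker κ := by
    rw [Ideal.map_le_iff_le_comap]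
    intro b hb
    rw [Ideal.mem_comap, RingHom.mem_ker, hκalg]
    have hb' : i.appTop b = 0 := hb
    rw [hb', map_zero]
  -- the hard inclusion, by flat base change over `X₀`
  haveI : CompactSpace ↥X₀ := i.isClosedEmbedding.compactSpace
  have hK2 : ∀ c : AdjoinRoot p, κ c = 0 →
      c ∈ Ideal.map (algebraMap Γ(X, ⊤) (AdjoinRoot p)) (RingHom.ker i.appTop.hom) := by
    intro c hc
    have H' : IsPullback snd' (fst' ≫ pr₂) (i ≫ X.toSpecΓ) (Spec.map φ) :=
      ((IsPullback.of_hasPullback pr₁ i).paste_horiz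
        (IsPullback.of_hasPullback X.toSpecΓ (Spec.map φ)).flip).flip
    have hUST : (⊤ : (Spec (CommRingCat.of (AdjoinRoot p))).Opens) ≤
        (Spec.map φ) ⁻¹ᵁ (⊤ : (Spec Γ(X, ⊤)).Opens) := le_of_eq rfl
    have hUSX : (⊤ : X₀.Opens) ≤ (i ≫ X.toSpecΓ) ⁻¹ᵁ (⊤ : (Spec Γ(X, ⊤)).Opens) := le_of_eq rfl
    have hUY : (⊤ : (pullback pr₁ i).Opens) = snd' ⁻¹ᵁ ⊤ ⊓ (fst' ≫ pr₂) ⁻¹ᵁ ⊤ := by
      ext x; simp
    have hmono := mono_pushoutSection_of_isCompact_of_flat_right H' hUST hUSX hUY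
      (isAffineOpen_top _) (isAffineOpen_top _) (by simpa using CompactSpace.isCompact_univ)
    have hinj := ConcreteCategory.injective_of_mono_of_preservesPullback
      (pushoutSection H' hUST hUSX hUY)
    have h2 : pushout.inr _ _ ≫ pushoutSection H' hUST hUSX hUY =
        (fst' ≫ pr₂).appLE ⊤ ⊤ (by simp) := pushout.inr_desc _ _ _
    have e1 : (fst' ≫ pr₂).appLE ⊤ ⊤ (by simp) = pr₂.appTop ≫ fst'.appTop :=
      (appLE_top_top _ _).trans (Scheme.Hom.comp_appTop _ _)
    rw [e1] at h2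
    have e2 := congrArg (fun f : Γ(Spec (CommRingCat.of (AdjoinRoot p)), ⊤) ⟶
      Γ(pullback pr₁ i, ⊤) => f.hom (eC.inv c)) h2
    have h3 : pushout.inr ((i ≫ X.toSpecΓ).appLE ⊤ ⊤ hUSX) ((Spec.map φ).appLE ⊤ ⊤ hUST)
        (eC.inv c) = 0 := by
      apply hinj
      refine Eq.trans (e2.trans hc) ?_
      exact (map_zero (pushoutSection H' hUST hUSX hUY).hom).symm
    have hcomm : (Spec.map φ).appLE ⊤ ⊤ hUST ≫ eC.hom =
        eB.hom ≫ CommRingCat.ofHom (algebraMap Γ(X, ⊤) (AdjoinRoot p)) := by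
      rw [appLE_top_top]
      exact Scheme.ΓSpecIso_naturality φ
    have h4 := mem_map_ker_of_inr_eq_zero (B := Γ(X, ⊤)) (C := CommRingCat.of (AdjoinRoot p))
      ((i ≫ X.toSpecΓ).appLE ⊤ ⊤ hUSX) ((Spec.map φ).appLE ⊤ ⊤ hUST) eB eC hcomm c h3
    have h5 : eB.inv ≫ (i ≫ X.toSpecΓ).appLE ⊤ ⊤ hUSX = i.appTop := by
      rw [appLE_top_top, Scheme.Hom.comp_appTop, Scheme.toSpecΓ_appTop, Iso.inv_hom_id_assoc]
    rw [h5] at h4
    exact h4
  -- the main argument
  have hκθ : ∀ x, κ x = fst'.appTop.hom (θ x) := fun _ => rfl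
  clear hE1 hE2 hκalg hiso
  clear_value κ θ pr₂ eC eB
  intro ebar hebar
  obtain ⟨c, rfl⟩ := Ideal.Quotient.mk_surjective ebar
  have hcc : c * c - c ∈ Ideal.map (algebraMap Γ(X, ⊤) (AdjoinRoot p))
      (RingHom.ker i.appTop.hom) := by
    have h1 : Ideal.Quotient.mk (Ideal.map (algebraMap Γ(X, ⊤) (AdjoinRoot p))
        (RingHom.ker i.appTop.hom)) (c * c) = Ideal.Quotient.mk _ c := by
      rw [map_mul]
      exact hebar
    exact Ideal.Quotient.eq.mp h1
  have hκc : IsIdempotentElem (κ c) := by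
    have h0 : κ (c * c - c) = 0 := hK1 hcc
    have h1 : κ (c * c - c) = κ c * κ c - κ c := by rw [RingHom.map_sub, RingHom.map_mul]
    rw [h1] at h0
    exact sub_eq_zero.mp h0
  have hV := isClopen_basicOpen_of_isIdempotentElem hκc
  obtain ⟨U, ⟨hU, hUV⟩, -⟩ := hX _ pr₁ hpr₁ _ hV
  obtain ⟨e', he', he'U⟩ := exists_idempotent_of_isClopen hU
  obtain ⟨e, rfl⟩ := hθbij.2 e'
  have he : IsIdempotentElem e := by
    apply hθbij.1
    rw [RingHom.map_mul]
    exact he'
  refine ⟨e, he, ?_⟩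
  have hκe : IsIdempotentElem (κ e) := he.map κ
  have hbo : (pullback pr₁ i).basicOpen (κ e) = (pullback pr₁ i).basicOpen (κ c) := by
    apply SetLike.coe_injective
    rw [← hUV, ← he'U, hκθ e]
    exact congrArg (fun W : (pullback pr₁ i).Opens => (W : Set ↥(pullback pr₁ i)))
      (Scheme.preimage_basicOpen_top fst' (θ e)).symm
  have heq := idempotent_eq_of_basicOpen_eq hκe hκc hbo
  have h1 : κ (e - c) = 0 := by rw [RingHom.map_sub, heq, sub_self]
  exact Ideal.Quotient.eq.mpr (hK2 _ h1)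

/-- **A quasi-compact quasi-separated henselian couple has a henselian pair of global sections.** -/
theorem henselianRing_of_couple
    (hX : ∀ (Y : Scheme.{u}) (g : Y ⟶ X), IsFinite g → LiftsAlong (pullback.fst g i).base) :
    HenselianRing Γ(X, ⊤) (RingHom.ker i.appTop.hom) :=
  Groth.Agent.S17968.aux _ _ (ker_le_jacobson i hX)
    (fun _ p hp _ => surjOn_adjoinRoot i hX p hp)

end Main

end Groth.Agent.Lib.Seat87.HensGlobal
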