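import Mathlib
import Groth.Agent.Lib.Helper11SmInt
import Groth.Prelude.Def_W4bk4grossh111Obs
import Groth.Prelude.Def_W4bk4grossh1223Act

/-!
# Rings of invariants of integrally closed domains are integrally closed (helper87)

* `isIntegrallyClosed_of_div_closed`: a subring `B` of an integrally closed domain `A` such that
  `a * b₂ = b₁`, `b₁ b₂ ∈ B`, `b₂ ≠ 0` forces `a ∈ B` is integrally closed.
* the ring of right-`H`-invariant functions on a connected smooth affine group over a field;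
* the invariants `A^H` of a multiplicative rational action on an integrally closed domain `A`.
-/

set_option autoImplicit false
universe u

open CategoryTheory AlgebraicGeometry MonoidalCategory CartesianMonoidalCategory MonObj
open scoped TensorProduct

namespace Groth.Agent.Lib.Seat87.IntClosedInv

section Algebra

/-- a "division closed" subring of an integrally closed domain is integrally closed -/
theorem isIntegrallyClosed_of_div_closed {A B : Type*} [CommRing A] [IsDomain A]
    [IsIntegrallyClosed A] [CommRing B] (inc : B →+* A) (hinc : Function.Injective inc)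
    (h : ∀ (a : A) (b₁ b₂ : B), b₂ ≠ 0 → a * inc b₂ = inc b₁ → ∃ b : B, inc b = a) :
    IsIntegrallyClosed B := by
  have hdom : IsDomain B := hinc.isDomain inc
  let K := FractionRing B
  let L := FractionRing A
  let g : B →+* L := (algebraMap A L).comp inc
  have hg : Function.Injective g := (IsFractionRing.injective A L).comp hinc
  let φ : K →+* L := IsFractionRing.lift hg
  have hφ : ∀ b : B, φ (algebraMap B K b) = algebraMap A L (inc b) := fun b =>
    IsFractionRing.lift_algebraMap hg b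
  refine (isIntegrallyClosed_iff K).mpr fun {x} hx => ?_
  obtain ⟨b₁, b₂, hb₂, rfl⟩ := IsFractionRing.div_surjective (A := B) x
  have hb₂0 : b₂ ≠ 0 := nonZeroDivisors.ne_zero hb₂
  have hx' : IsIntegral A (φ (algebraMap B K b₁ / algebraMap B K b₂)) := by
    refine IsIntegral.map_of_comp_eq inc φ ?_ hx
    ext b
    exact (hφ b).symm
  obtain ⟨a, ha⟩ := (isIntegrallyClosed_iff L).mp inferInstance hx'
  have hb₂L : algebraMap A L (inc b₂) ≠ 0 := by
    rw [Ne, map_eq_zero_iff _ (IsFractionRing.injective A L), map_eq_zero_iff _ hinc]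
    exact hb₂0
  have hmul : a * inc b₂ = inc b₁ := by
    apply IsFractionRing.injective A L
    rw [map_mul, ha, map_div₀, hφ, hφ, div_mul_cancel₀ _ hb₂L]
  obtain ⟨b, hb⟩ := h a b₁ b₂ hb₂0 hmul
  refine ⟨b, ?_⟩
  have hbK : algebraMap B K b₂ ≠ 0 := by
    rw [Ne, map_eq_zero_iff _ (IsFractionRing.injective B K)]
    exact hb₂0
  rw [eq_div_iff hbK, ← map_mul]
  congr 1
  apply hinc
  rw [map_mul, hb, hmul]

/-- the equalizer of two ring maps out of an integrally closed domain, one of which sends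
nonzero elements to regular elements, is integrally closed -/
theorem isIntegrallyClosed_eqLocus {A C : Type*} [CommRing A] [IsDomain A] [IsIntegrallyClosed A]
    [CommRing C] (φ₁ φ₂ : A →+* C)
    (hreg : ∀ b : A, b ≠ 0 → ∀ c : C, c * φ₂ b = 0 → c = 0) :
    IsIntegrallyClosed ↥(RingHom.eqLocus φ₁ φ₂) := by
  refine isIntegrallyClosed_of_div_closed (RingHom.eqLocus φ₁ φ₂).subtype
    Subtype.val_injective ?_
  intro a b₁ b₂ hb₂ hmul
  have h1 : φ₁ b₁.1 = φ₂ b₁.1 := b₁.2
  have h2 : φ₁ b₂.1 = φ₂ b₂.1 := b₂.2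
  have hmul' : a * b₂.1 = b₁.1 := hmul
  have e : (φ₁ a - φ₂ a) * φ₂ b₂.1 = 0 := by
    have t1 : φ₁ a * φ₂ b₂.1 = φ₁ b₁.1 := by rw [← h2, ← map_mul, hmul']
    have t2 : φ₂ a * φ₂ b₂.1 = φ₂ b₁.1 := by rw [← map_mul, hmul']
    rw [sub_mul, t1, t2, h1, sub_self]
  have hb₂' : b₂.1 ≠ 0 := fun h0 => hb₂ (Subtype.ext h0)
  have := hreg b₂.1 hb₂' _ e
  exact ⟨⟨a, sub_eq_zero.mp this⟩, rfl⟩

end Algebra

section Group

variable (k : Type u) [Field k]

/-- the coordinate ring of a connected smooth affine scheme over a field is an integrally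
closed domain -/
theorem isDomain_and_isIntegrallyClosed_of_smooth (X : Scheme.{u})
    (f : X ⟶ Spec (CommRingCat.of k)) [IsAffine X] [Smooth f] [ConnectedSpace X] :
    IsDomain Γ(X, ⊤) ∧ IsIntegrallyClosed Γ(X, ⊤) := by
  have hlN : IsLocallyNoetherian X := LocallyOfFiniteType.isLocallyNoetherian f
  have hN : IsNoetherian X := { }
  have hint : IsIntegral X :=
    Groth.Agent.Lib.Helper11SmInt.isIntegral_of_connected_of_isDomain_stalk
      (fun x => Groth.Agent.Lib.Helper11SmInt.isDomain_stalk_of_smooth k f x)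
  have hdom : IsDomain Γ(X, ⊤) := inferInstance
  refine ⟨hdom, ?_⟩
  have hsm : (f.appLE ⊤ ⊤ le_top).hom.Smooth :=
    HasRingHomProperty.appLE (P := @Smooth) f inferInstance ⟨⊤, isAffineOpen_top _⟩
      ⟨⊤, isAffineOpen_top X⟩ le_top
  algebraize [(f.appLE ⊤ ⊤ le_top).hom]
  have hA : IsField Γ(Spec (CommRingCat.of k), ⊤) :=
    (Scheme.ΓSpecIso (CommRingCat.of k)).commRingCatIsoToRingEquiv.toMulEquiv.isField
      (Field.toIsField k)
  have hNr := Groth.Agent.Lib.Helper6.SmNorm.isNormalRing_of_smooth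
    Γ(Spec (CommRingCat.of k), ⊤) Γ(X, ⊤)
    (Groth.Agent.Lib.Helper11SmInt.isNormalRing_of_isField _ hA)
  exact IsIntegrallyClosed.of_localization_maximal fun p _ _ => (hNr p).2

/-- the ring of right-`H`-invariant functions on a connected smooth affine group -/
theorem isIntegrallyClosed_rTransInv (G H : Over (Spec (CommRingCat.of k))) [GrpObj G]
    [IsAffine G.left] [Smooth G.hom] [ConnectedSpace G.left] [IsAffine H.left] [Flat H.hom]
    (i : H ⟶ G) : IsIntegrallyClosed ↥(AGF.rTransInv i) := by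
  obtain ⟨hdom, hic⟩ := isDomain_and_isIntegrallyClosed_of_smooth k G.left G.hom
  have hfl : Flat (fst G H).left := by
    change Flat (Limits.pullback.fst G.hom H.hom)
    infer_instance
  have haff : IsAffine (G ⊗ H).left := by
    change IsAffine (Limits.pullback G.hom H.hom)
    infer_instance
  have hflr : ((fst G H).left.appTop).hom.Flat :=
    (HasRingHomProperty.iff_of_isAffine (P := @Flat)).mp hfl
  refine isIntegrallyClosed_eqLocus _ _ ?_
  intro b hb c hc
  let alg : Algebra Γ(G.left, ⊤) Γ((G ⊗ H).left, ⊤) := ((fst G H).left.appTop).hom.toAlgebra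
  have hreg : IsSMulRegular Γ(G.left, ⊤) b := fun x y hxy => mul_left_cancel₀ hb hxy
  have hflm : Module.Flat Γ(G.left, ⊤) Γ((G ⊗ H).left, ⊤) := hflr
  have hreg' := IsSMulRegular.of_flat (S := Γ((G ⊗ H).left, ⊤)) hreg
  apply hreg'
  change (fst G H).left.appTop.hom b * c = (fst G H).left.appTop.hom b * 0
  rw [mul_zero, mul_comm]
  exact hc

end Group

section Rational

variable {k : Type u} [Field k]
variable {G H : Over (Spec (CommRingCat.of k))} [GrpObj G]

/-- multiplication by `1 ⊗ b` on `B ⊗[k] A` is injective for `b ≠ 0` in a domain `A` -/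
lemma tmul_one_mul_injective {A : Type u} [CommRing A] [IsDomain A] [Algebra k A]
    (B : Type u) [CommRing B] [Algebra k B] (b : A) (hb : b ≠ 0) (x : B ⊗[k] A)
    (hx : x * ((1 : B) ⊗ₜ[k] b) = 0) : x = 0 := by
  have hinj : Function.Injective (LinearMap.mulLeft k b) := fun x y hxy => mul_left_cancel₀ hb hxy
  have h2 := Module.Flat.lTensor_preserves_injective_linearMap (M := B) (LinearMap.mulLeft k b) hinj
  have h3 : ∀ y : B ⊗[k] A, (LinearMap.mulLeft k b).lTensor B y = y * ((1 : B) ⊗ₜ[k] b) := by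
    intro y
    induction y using TensorProduct.induction_on with
    | zero => simp
    | tmul c a =>
      rw [LinearMap.lTensor_tmul, LinearMap.mulLeft_apply, Algebra.TensorProduct.tmul_mul_tmul,
        _root_.mul_one, _root_.mul_comm]
    | add y z hy hz => rw [map_add, hy, hz, add_mul]
  apply h2
  rw [h3, hx, map_zero]

/-- the invariants of a multiplicative rational action on an integrally closed domain -/
theorem isIntegrallyClosed_fixedSubalgebra {A : Type u} [CommRing A] [IsDomain A] [Algebra k A]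
    [IsIntegrallyClosed A] (ρ : VecGrp.GMod G A) (hρ : ρ.IsMult) (i : H ⟶ G) :
    IsIntegrallyClosed ↥(ρ.fixedSubalgebra hρ i) := by
  refine isIntegrallyClosed_of_div_closed (ρ.fixedSubalgebra hρ i).val.toRingHom
    Subtype.val_injective ?_
  intro a b₁ b₂ hb₂ hmul
  have hmul' : a * b₂.1 = b₁.1 := hmul
  have hb₂' : b₂.1 ≠ 0 := fun h0 => hb₂ (Subtype.ext h0)
  refine ⟨⟨a, ?_⟩, rfl⟩
  intro B _ _ h
  have hm := (hρ B (h ≫ i)).1
  have e1 : ρ.ρ B (h ≫ i) ((1 : B) ⊗ₜ[k] b₁.1) = (1 : B) ⊗ₜ[k] b₁.1 := b₁.2 B h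
  have e2 : ρ.ρ B (h ≫ i) ((1 : B) ⊗ₜ[k] b₂.1) = (1 : B) ⊗ₜ[k] b₂.1 := b₂.2 B h
  have e3 : ((1 : B) ⊗ₜ[k] a : VecGrp.W k A B) * ((1 : B) ⊗ₜ[k] b₂.1) = (1 : B) ⊗ₜ[k] b₁.1 := by
    rw [Algebra.TensorProduct.tmul_mul_tmul, _root_.mul_one, hmul']
  have e4 : ρ.ρ B (h ≫ i) ((1 : B) ⊗ₜ[k] a) * ((1 : B) ⊗ₜ[k] b₂.1) = (1 : B) ⊗ₜ[k] b₁.1 := by
    rw [← e1, ← e3, hm, e2]
  have e5 : (ρ.ρ B (h ≫ i) ((1 : B) ⊗ₜ[k] a) - (1 : B) ⊗ₜ[k] a) * ((1 : B) ⊗ₜ[k] b₂.1) = 0 := by
    rw [sub_mul, e4, e3, sub_self]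
  exact sub_eq_zero.mp (tmul_one_mul_injective B b₂.1 hb₂' _ e5)

end Rational

end Groth.Agent.Lib.Seat87.IntClosedInv
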