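import Groth.Agent.S17885
import Groth.Agent.Lib.Seat44BCSystem

/-!
# Spreading out a closed subset avoiding a fibre to a base locally of finite presentation (helper87)

`f : X ⟶ S` quasi-compact, `g : T ⟶ S`, `t : T`, `Z ⊆ X_T` closed avoiding the fibre over `t`.
Then near `t` the situation comes from an affine `T'` locally of finite presentation over `S`.
Proof: an affine neighbourhood `V` of `t` over an affine open of `S` is a cofiltered limit of
affine schemes of finite presentation (`S17885`); base change to `X` (`Seat44BCSystem`) and use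
that quasi-compact opens of a limit come from a stage (Mathlib `exists_preimage_eq`).
-/

set_option autoImplicit false
universe u

open CategoryTheory CategoryTheory.Limits AlgebraicGeometry Opposite

namespace Groth.Agent.Lib.Seat87.LfpNhd

open Groth.Agent.Lib.Seat44.BCSystem

lemma exists_preimage_of_isPullback {A X Y Z : Scheme.{u}} {fst : A ⟶ X} {snd : A ⟶ Y}
    {f : X ⟶ Z} {g : Y ⟶ Z} (sq : IsPullback fst snd f g) (x : X) (y : Y) (h : f x = g y) :
    ∃ a : A, fst a = x ∧ snd a = y := by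
  obtain ⟨z, hz1, hz2⟩ := Scheme.Pullback.exists_preimage_pullback x y h
  refine ⟨sq.isoPullback.inv z, ?_, ?_⟩
  · rw [← Scheme.Hom.comp_apply, sq.isoPullback_inv_fst]; exact hz1
  · rw [← Scheme.Hom.comp_apply, sq.isoPullback_inv_snd]; exact hz2

theorem main {X S T : Scheme.{u}} (f : X ⟶ S) [QuasiCompact f] (g : T ⟶ S) (t : T)
    (Z : Set ↥(pullback f g)) (hZ : IsClosed Z)
    (hZt : ∀ z ∈ Z, (pullback.snd f g).base z ≠ t) :
    ∃ (V : T.Opens) (ht : t ∈ V) (T' : Scheme.{u}) (b : T' ⟶ S) (a : (V : Scheme.{u}) ⟶ T')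
      (n : pullback f (V.ι ≫ g) ⟶ pullback f g) (m : pullback f (V.ι ≫ g) ⟶ pullback f b)
      (Z' : Set ↥(pullback f b)),
      IsAffineOpen V ∧ IsAffine T' ∧ LocallyOfFinitePresentation b ∧ a ≫ b = V.ι ≫ g ∧
      n ≫ pullback.fst f g = pullback.fst f (V.ι ≫ g) ∧
      n ≫ pullback.snd f g = pullback.snd f (V.ι ≫ g) ≫ V.ι ∧
      m ≫ pullback.fst f b = pullback.fst f (V.ι ≫ g) ∧
      m ≫ pullback.snd f b = pullback.snd f (V.ι ≫ g) ≫ a ∧
      IsClosed Z' ∧ (∀ z' ∈ Z', (pullback.snd f b).base z' ≠ a.base ⟨t, ht⟩) ∧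
      ∀ z : ↥(pullback f (V.ι ≫ g)), n.base z ∈ Z → m.base z ∈ Z' := by
  -- affine opens
  obtain ⟨S₀, hS₀, hgS₀, -⟩ := exists_isAffineOpen_mem_and_subset (x := g t) (U := ⊤) trivial
  obtain ⟨V, hV, htV, hVS⟩ :=
    exists_isAffineOpen_mem_and_subset (x := t) (U := g ⁻¹ᵁ S₀) hgS₀
  have hrange : Set.range (V.ι ≫ g) ⊆ Set.range S₀.ι := by
    rw [Scheme.Opens.range_ι]
    rintro _ ⟨y, rfl⟩
    exact hVS y.2
  let v : (V : Scheme.{u}) ⟶ (S₀ : Scheme.{u}) := IsOpenImmersion.lift S₀.ι (V.ι ≫ g) hrange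
  have hv : v ≫ S₀.ι = V.ι ≫ g := IsOpenImmersion.lift_fac _ _ _
  have iV : IsAffine (V : Scheme.{u}) := hV
  have iS₀ : IsAffine (S₀ : Scheme.{u}) := hS₀
  obtain ⟨I, _, _, D', c', hc', hD', ⟨e⟩⟩ := (Groth.Agent.S17885.result v).mp inferInstance
  -- a limit cone with point `V`
  let c'' : Cone D' :=
    { pt := Over.mk v
      π := { app := fun j => e.inv ≫ c'.π.app j
             naturality := fun j k ψ => by
               have := c'.w ψ
               simp only [Functor.const_obj_obj, Functor.const_obj_map, Category.id_comp,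
                 Category.assoc, this] } }
  have hc'' : IsLimit c'' := IsLimit.ofIsoLimit hc' (Cone.ext e (fun j => by simp [c'']))
  have hconn : IsConnected Iᵒᵖ := IsCofiltered.isConnected _
  let F : Iᵒᵖ ⥤ Scheme.{u} := D' ⋙ Over.forget _
  let ζ : F ⟶ (Functor.const _).obj S :=
    { app := fun j => (D'.obj j).hom ≫ S₀.ι
      naturality := fun j k ψ => by
        simp only [F, Functor.comp_obj, Over.forget_obj, Functor.comp_map, Over.forget_map,
          Functor.const_obj_obj, Functor.const_obj_map, Category.comp_id, Over.w_assoc] }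
  let cF : Cone F := (Over.forget _).mapCone c''
  have hcF : IsLimit cF := isLimitOfPreserves (Over.forget _) hc''
  have hp : ∀ j, cF.π.app j ≫ ζ.app j = V.ι ≫ g := by
    intro j
    change (c''.π.app j).left ≫ (D'.obj j).hom ≫ S₀.ι = V.ι ≫ g
    rw [Over.w_assoc]
    exact hv
  have hFaff : ∀ j, IsAffine (F.obj j) := by
    intro j
    have h1 : IsAffineHom (D'.obj j).hom := (hD' j).1
    exact @isAffine_of_isAffineHom _ _ (D'.obj j).hom h1 iS₀
  have hsysAff : ∀ {j k : Iᵒᵖ} (ψ : j ⟶ k), IsAffineHom ((sys F ζ f).map ψ) := by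
    intro j k ψ
    have h1 : IsAffineHom (F.map ψ) := inferInstance
    exact MorphismProperty.of_isPullback (P := @IsAffineHom) (isPullback_sys_map F ζ f ψ).flip h1
  let cs : Cone (sys F ζ f) := cone F ζ f cF (V.ι ≫ g) hp
  have hcs : IsLimit cs := isLimitCone F ζ f cF (V.ι ≫ g) hp hcF
  -- the topological input
  let θ := pullbackSymmetry f (V.ι ≫ g)
  let n : pullback f (V.ι ≫ g) ⟶ pullback f g :=
    pullback.map f (V.ι ≫ g) f g (𝟙 X) V.ι (𝟙 S) (by simp) (by simp)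
  have hn1 : n ≫ pullback.fst f g = pullback.fst f (V.ι ≫ g) := by
    change pullback.map f (V.ι ≫ g) f g (𝟙 X) V.ι (𝟙 S) _ _ ≫ _ = _
    unfold pullback.map
    rw [pullback.lift_fst, Category.comp_id]
  have hn2 : n ≫ pullback.snd f g = pullback.snd f (V.ι ≫ g) ≫ V.ι := by
    change pullback.map f (V.ι ≫ g) f g (𝟙 X) V.ι (𝟙 S) _ _ ≫ _ = _
    unfold pullback.map
    rw [pullback.lift_snd]
  let tV : ↥(V : Scheme.{u}) := ⟨t, htV⟩
  have hK : IsCompact ((pullback.snd f (V.ι ≫ g)) ⁻¹' {tV}) :=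
    (pullback.snd f (V.ι ≫ g)).isCompact_preimage_singleton tV
  have hWo : IsOpen ((n ⁻¹' Z)ᶜ : Set ↥(pullback f (V.ι ≫ g))) :=
    (hZ.preimage n.continuous).isOpen_compl
  have hKW : (pullback.snd f (V.ι ≫ g)) ⁻¹' {tV} ⊆ (n ⁻¹' Z)ᶜ := by
    intro z hz hzZ
    refine hZt (n z) hzZ ?_
    have h1 : (pullback.snd f g) (n z) = V.ι ((pullback.snd f (V.ι ≫ g)) z) := by
      rw [← Scheme.Hom.comp_apply, hn2, Scheme.Hom.comp_apply]
    have h2 : (pullback.snd f (V.ι ≫ g)) z = tV := hz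
    change (pullback.snd f g) (n z) = t
    rw [h1, h2]
    rfl
  obtain ⟨W₁, hW₁c, hW₁o, hKW₁, hW₁W⟩ :=
    PrespectralSpace.exists_isCompact_and_isOpen_between hK hWo hKW
  let UP : (pullback (V.ι ≫ g) f).Opens := θ.inv ⁻¹ᵁ ⟨W₁, hW₁o⟩
  have hUPeq : (UP : Set ↥(pullback (V.ι ≫ g) f)) = θ.hom '' W₁ := by
    ext y
    constructor
    · intro hy
      refine ⟨θ.inv y, hy, ?_⟩
      change (θ.inv ≫ θ.hom) y = y
      rw [Iso.inv_hom_id]
      rfl
    · rintro ⟨z, hz, rfl⟩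
      change (θ.hom ≫ θ.inv) z ∈ W₁
      rw [Iso.hom_inv_id]
      exact hz
  have hUPc : IsCompact (UP : Set ↥(pullback (V.ι ≫ g) f)) := by
    rw [hUPeq]
    exact hW₁c.image θ.hom.continuous
  obtain ⟨i, Vi, -, hVi⟩ := exists_preimage_eq (sys F ζ f) cs hcs UP hUPc
  -- the output data
  let b : F.obj i ⟶ S := ζ.app i
  let a : (V : Scheme.{u}) ⟶ F.obj i := cF.π.app i
  have hab : a ≫ b = V.ι ≫ g := hp i
  let πi : pullback (V.ι ≫ g) f ⟶ pullback b f := cs.π.app i
  have hπ1 : πi ≫ pullback.fst b f = pullback.fst (V.ι ≫ g) f ≫ a :=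
    cone_π_pr₁ F ζ f cF (V.ι ≫ g) hp i
  have hπ2 : πi ≫ pullback.snd b f = pullback.snd (V.ι ≫ g) f :=
    cone_π_pr₂ F ζ f cF (V.ι ≫ g) hp i
  let Vi' : (pullback b f).Opens := Vi
  have hVi' : πi ⁻¹ᵁ Vi' = UP := hVi
  have hb : LocallyOfFinitePresentation b := by
    have h1 : LocallyOfFinitePresentation (D'.obj i).hom := (hD' i).2
    change LocallyOfFinitePresentation ((D'.obj i).hom ≫ S₀.ι)
    infer_instance
  clear_value πi Vi' a b
  let m : pullback f (V.ι ≫ g) ⟶ pullback f b :=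
    pullback.map f (V.ι ≫ g) f b (𝟙 X) a (𝟙 S) (by simp) (by rw [Category.comp_id, hab])
  have hm1 : m ≫ pullback.fst f b = pullback.fst f (V.ι ≫ g) := by
    change pullback.map f (V.ι ≫ g) f b (𝟙 X) a (𝟙 S) _ _ ≫ _ = _
    unfold pullback.map
    rw [pullback.lift_fst, Category.comp_id]
  have hm2 : m ≫ pullback.snd f b = pullback.snd f (V.ι ≫ g) ≫ a := by
    change pullback.map f (V.ι ≫ g) f b (𝟙 X) a (𝟙 S) _ _ ≫ _ = _
    unfold pullback.map
    rw [pullback.lift_snd]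
  let sym := pullbackSymmetry f b
  have key : m ≫ sym.hom = θ.hom ≫ πi := by
    apply pullback.hom_ext
    · rw [Category.assoc, pullbackSymmetry_hom_comp_fst, hm2, Category.assoc, hπ1,
        ← Category.assoc, pullbackSymmetry_hom_comp_fst]
    · rw [Category.assoc, pullbackSymmetry_hom_comp_snd, hm1, Category.assoc, hπ2,
        pullbackSymmetry_hom_comp_snd]
  have keypt : ∀ z : ↥(pullback f (V.ι ≫ g)), sym.hom (m z) = πi (θ.hom z) := by
    intro z
    rw [← Scheme.Hom.comp_apply, ← Scheme.Hom.comp_apply, key]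
  have hmem : ∀ z : ↥(pullback f (V.ι ≫ g)), sym.hom (m z) ∈ Vi' ↔ z ∈ W₁ := by
    intro z
    rw [keypt]
    have h1 : πi (θ.hom z) ∈ Vi' ↔ θ.hom z ∈ UP := by
      rw [← hVi']; rfl
    rw [h1]
    change (θ.hom ≫ θ.inv) z ∈ W₁ ↔ _
    rw [Iso.hom_inv_id]
    rfl
  have sq : IsPullback m (pullback.snd f (V.ι ≫ g)) (pullback.snd f b) a := by
    refine IsPullback.of_right ?_ hm2 (IsPullback.of_hasPullback f b)
    rw [hm1, hab]
    exact IsPullback.of_hasPullback f (V.ι ≫ g)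
  refine ⟨V, htV, F.obj i, b, a, n, m, (sym.hom ⁻¹' (Vi' : Set _))ᶜ, hV, hFaff i, ?_, hab, hn1,
    hn2, hm1, hm2, ?_, ?_, ?_⟩
  · exact hb
  · exact (Vi'.2.preimage sym.hom.continuous).isClosed_compl
  · intro z' hz' hzt
    apply hz'
    obtain ⟨z, hz1, hz2⟩ := exists_preimage_of_isPullback sq z' tV hzt
    have h1 : z ∈ W₁ := hKW₁ hz2
    rw [← hmem, hz1] at h1
    exact h1
  · intro z hzZ hmz
    have h1 : z ∈ W₁ := (hmem z).mp hmz
    exact hW₁W h1 hzZ

end Groth.Agent.Lib.Seat87.LfpNhd
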