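import Groth.Prelude.Def_LiftSq
import Groth.Prelude.Def_FibCat2

/-!
# Unique lifting is stable under 2-fibre product base change (helper87)

For `j : 𝒜 ⥤ᵇ ℬ`, `f : 𝒳 ⥤ᵇ 𝒴`, `y : 𝒴' ⥤ᵇ 𝒴` over a base category `C`:
`LiftSq.LiftsUniquely j f → LiftSq.LiftsUniquely j (FibCat.fpFst y f)`.
-/

set_option autoImplicit false
set_option backward.isDefEq.respectTransparency false
set_option backward.isDefEq.respectTransparency.types false

namespace Groth.Agent.Lib.Seat87.LiftSqBC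

open CategoryTheory LiftSq FibCat CategoryTheory.Limits

universe v₆ u₆ v₅ u₅ v₄ u₄ v₃ u₃ v₂ u₂ v u

variable {C : Type u} [Category.{v} C]
  {𝒜 : BasedCategory.{v₂, u₂} C} {ℬ : BasedCategory.{v₃, u₃} C}
  {𝒳 : BasedCategory.{v₄, u₄} C} {𝒴 : BasedCategory.{v₅, u₅} C} {𝒴' : BasedCategory.{v₆, u₆} C}

/-- Whiskering an isomorphism on the right. -/
def wrIso {F G : ℬ ⥤ᵇ 𝒳} (α : F ≅ G) (f : 𝒳 ⥤ᵇ 𝒴) :
    BasedFunctor.comp F f ≅ BasedFunctor.comp G f where
  hom := BasedCategory.whiskerRight α.hom f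
  inv := BasedCategory.whiskerRight α.inv f
  hom_inv_id := by rw [← whiskerRight_comp', α.hom_inv_id, whiskerRight_id']
  inv_hom_id := by rw [← whiskerRight_comp', α.inv_hom_id, whiskerRight_id']

/-- Whiskering an isomorphism on the left. -/
def wlIso (j : 𝒜 ⥤ᵇ ℬ) {F G : ℬ ⥤ᵇ 𝒳} (α : F ≅ G) :
    BasedFunctor.comp j F ≅ BasedFunctor.comp j G where
  hom := BasedCategory.whiskerLeft j α.hom
  inv := BasedCategory.whiskerLeft j α.inv
  hom_inv_id := by rw [← whiskerLeft_comp', α.hom_inv_id, whiskerLeft_id']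
  inv_hom_id := by rw [← whiskerLeft_comp', α.inv_hom_id, whiskerLeft_id']

theorem comp_app {F G H : 𝒳 ⥤ᵇ 𝒴} (α : F ⟶ G) (β : G ⟶ H) (x : 𝒳.obj) :
    (α ≫ β).toNatTrans.app x = α.toNatTrans.app x ≫ β.toNatTrans.app x := rfl

theorem id_app (F : 𝒳 ⥤ᵇ 𝒴) (x : 𝒳.obj) :
    (𝟙 F : F ⟶ F).toNatTrans.app x = 𝟙 (F.obj x) := rfl

theorem iso_hom_inv_app {F G : 𝒳 ⥤ᵇ 𝒴} (α : F ≅ G) (x : 𝒳.obj) :
    α.hom.toNatTrans.app x ≫ α.inv.toNatTrans.app x = 𝟙 _ := by
  rw [← comp_app, α.hom_inv_id]; rfl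

theorem iso_inv_hom_app {F G : 𝒳 ⥤ᵇ 𝒴} (α : F ≅ G) (x : 𝒳.obj) :
    α.inv.toNatTrans.app x ≫ α.hom.toNatTrans.app x = 𝟙 _ := by
  rw [← comp_app, α.inv_hom_id]; rfl

variable (j : 𝒜 ⥤ᵇ ℬ) (f : 𝒳 ⥤ᵇ 𝒴) (y : 𝒴' ⥤ᵇ 𝒴)

/-- The square against `f` obtained from a square against the base change `fpFst y f`. -/
def sqF (sq : Sq j (fpFst y f)) : Sq j f where
  top := BasedFunctor.comp sq.top (fpSnd y f)
  bot := BasedFunctor.comp sq.bot y
  iso := wrIso sq.iso y ≪≫ wlIso sq.top (fpIso y f)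

theorem sqF_iso_app (sq : Sq j (fpFst y f)) (a : 𝒜.obj) :
    (sqF j f y sq).iso.hom.toNatTrans.app a =
      y.map (sq.iso.hom.toNatTrans.app a) ≫ (sq.top.obj a).obj.iso.hom := rfl

/-- A lift of `sq` gives a lift of `sqF sq`. -/
def liftF {sq : Sq j (fpFst y f)} (d : sq.Lift) : (sqF j f y sq).Lift where
  fn := BasedFunctor.comp d.fn (fpSnd y f)
  isoTop := wrIso d.isoTop (fpSnd y f)
  isoBot := wrIso d.isoBot y ≪≫ wlIso d.fn (fpIso y f)
  w := by
    apply BasedNatTrans.homCategory.ext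
    ext a
    have h1 : d.isoBot.hom.toNatTrans.app (j.obj a) ≫ (d.isoTop.hom.toNatTrans.app a).hom.fst =
        sq.iso.hom.toNatTrans.app a := congrArg (fun α => α.toNatTrans.app a) d.w
    have h2 := (d.isoTop.hom.toNatTrans.app a).hom.w
    change (y.map (d.isoBot.hom.toNatTrans.app (j.obj a)) ≫ (d.fn.obj (j.obj a)).obj.iso.hom) ≫
        f.map (d.isoTop.hom.toNatTrans.app a).hom.snd =
      y.map (sq.iso.hom.toNatTrans.app a) ≫ (sq.top.obj a).obj.iso.hom
    rw [Category.assoc, ← h1, Functor.map_comp, Category.assoc]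
    congr 1
    exact h2.symm

/-- The functor into the fibre product obtained from a lift of `sqF sq`. -/
def liftFn {sq : Sq j (fpFst y f)} (d' : (sqF j f y sq).Lift) : ℬ ⥤ᵇ fp y f :=
  fpLift sq.bot d'.fn d'.isoBot

theorem liftFn_comp_fpFst {sq : Sq j (fpFst y f)} (d' : (sqF j f y sq).Lift) :
    BasedFunctor.comp (liftFn j f y d') (fpFst y f) = sq.bot := rfl

theorem liftFn_comp_fpSnd {sq : Sq j (fpFst y f)} (d' : (sqF j f y sq).Lift) :
    BasedFunctor.comp (liftFn j f y d') (fpSnd y f) = d'.fn := rfl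

/-- The component at `a` of the upper triangle of the lift into the fibre product. -/
def liftTopApp {sq : Sq j (fpFst y f)} (d' : (sqF j f y sq).Lift) (a : 𝒜.obj) :
    (liftFn j f y d').obj (j.obj a) ≅ sq.top.obj a :=
  ObjectProperty.isoMk _
    (CategoricalPullback.mkIso
      ((BasedNatTrans.forgetful _ _).mapIso sq.iso |>.app a)
      ((BasedNatTrans.forgetful _ _).mapIso d'.isoTop |>.app a)
      (by
        have h := congrArg (fun α => α.toNatTrans.app a) d'.w
        exact h.symm))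

/-- The upper triangle of the lift into the fibre product. -/
def liftTop {sq : Sq j (fpFst y f)} (d' : (sqF j f y sq).Lift) :
    BasedFunctor.comp j (liftFn j f y d') ≅ sq.top :=
  BasedNatIso.mkNatIso
    (NatIso.ofComponents (fun a => liftTopApp j f y d' a) (by
      intro a a' g
      apply ObjectProperty.hom_ext
      apply CategoricalPullback.hom_ext
      · exact sq.iso.hom.toNatTrans.naturality g
      · exact d'.isoTop.hom.toNatTrans.naturality g))
    (fun a => (BasedFunctor.isHomLift_iff (fpFst y f) _ _).mp (sq.iso.hom.isHomLift' a))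

theorem liftTop_app_fst {sq : Sq j (fpFst y f)} (d' : (sqF j f y sq).Lift) (a : 𝒜.obj) :
    ((liftTop j f y d').hom.toNatTrans.app a).hom.fst = sq.iso.hom.toNatTrans.app a := rfl

theorem liftTop_app_snd {sq : Sq j (fpFst y f)} (d' : (sqF j f y sq).Lift) (a : 𝒜.obj) :
    ((liftTop j f y d').hom.toNatTrans.app a).hom.snd = d'.isoTop.hom.toNatTrans.app a := rfl

/-- A lift of `sqF sq` gives a lift of `sq`. -/
def liftOfF {sq : Sq j (fpFst y f)} (d' : (sqF j f y sq).Lift) : sq.Lift where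
  fn := liftFn j f y d'
  isoTop := liftTop j f y d'
  isoBot := Iso.refl _
  w := by
    apply BasedNatTrans.homCategory.ext
    ext a
    change 𝟙 _ ≫ sq.iso.hom.toNatTrans.app a = sq.iso.hom.toNatTrans.app a
    exact Category.id_comp _

theorem lifts_fpFst (hf : Lifts j f) : Lifts j (fpFst y f) := by
  intro sq
  obtain ⟨d'⟩ := hf (sqF j f y sq)
  exact ⟨liftOfF j f y d'⟩

theorem chase1 {D : Type*} [Category D] {A B B' E E' : D} (p : A ⟶ B) (pinv : B ⟶ A)
    (hp : pinv ≫ p = 𝟙 B) (i : B ⟶ E) (q : E ⟶ E') (p' : A ⟶ B') (i' : B' ⟶ E')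
    (h : (p ≫ i) ≫ q = p' ≫ i') : (pinv ≫ p') ≫ i' = i ≫ q := by
  rw [Category.assoc, ← h, ← Category.assoc, ← Category.assoc, hp, Category.id_comp]

section Uniq

variable {sq : Sq j (fpFst y f)} (d₁ d₂ : sq.Lift) (φ : liftF j f y d₁ ⟶ liftF j f y d₂)

theorem phi_w_bot_app (b : ℬ.obj) :
    (y.map (d₁.isoBot.hom.toNatTrans.app b) ≫ (d₁.fn.obj b).obj.iso.hom) ≫
        f.map (φ.hom.toNatTrans.app b) =
      y.map (d₂.isoBot.hom.toNatTrans.app b) ≫ (d₂.fn.obj b).obj.iso.hom :=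
  congrArg (fun α => α.toNatTrans.app b) φ.w_bot

theorem phi_w_top_app (a : 𝒜.obj) :
    φ.hom.toNatTrans.app (j.obj a) ≫ (d₂.isoTop.hom.toNatTrans.app a).hom.snd =
      (d₁.isoTop.hom.toNatTrans.app a).hom.snd :=
  congrArg (fun α => α.toNatTrans.app a) φ.w_top

/-- The component at `b` of the morphism of lifts built from `φ`. -/
def thetaApp (b : ℬ.obj) : d₁.fn.obj b ⟶ d₂.fn.obj b :=
  ObjectProperty.homMk
    { fst := d₁.isoBot.inv.toNatTrans.app b ≫ d₂.isoBot.hom.toNatTrans.app b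
      snd := φ.hom.toNatTrans.app b
      w := by
        have h := phi_w_bot_app j f y d₁ d₂ φ b
        have hinv : y.map (d₁.isoBot.inv.toNatTrans.app b) ≫ y.map (d₁.isoBot.hom.toNatTrans.app b) =
            𝟙 _ := by
          rw [← Functor.map_comp, iso_inv_hom_app, Functor.map_id]
        rw [Functor.map_comp]
        exact chase1 _ _ hinv _ _ _ _ h }

theorem thetaApp_fst (b : ℬ.obj) : (thetaApp j f y d₁ d₂ φ b).hom.fst =
    d₁.isoBot.inv.toNatTrans.app b ≫ d₂.isoBot.hom.toNatTrans.app b := rfl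

theorem thetaApp_snd (b : ℬ.obj) : (thetaApp j f y d₁ d₂ φ b).hom.snd =
    φ.hom.toNatTrans.app b := rfl

/-- The 2-morphism `d₁.fn ⟶ d₂.fn` built from `φ`. -/
def theta : d₁.fn ⟶ d₂.fn where
  toNatTrans :=
    { app := fun b => thetaApp j f y d₁ d₂ φ b
      naturality := by
        intro b b' g
        apply ObjectProperty.hom_ext
        apply CategoricalPullback.hom_ext
        · have h1 := d₁.isoBot.inv.toNatTrans.naturality g
          have h2 := d₂.isoBot.hom.toNatTrans.naturality g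
          change (d₁.fn.map g).hom.fst ≫ (d₁.isoBot.inv.toNatTrans.app b' ≫
              d₂.isoBot.hom.toNatTrans.app b') =
            (d₁.isoBot.inv.toNatTrans.app b ≫ d₂.isoBot.hom.toNatTrans.app b) ≫
              (d₂.fn.map g).hom.fst
          rw [Category.assoc]
          have h2' : d₂.isoBot.hom.toNatTrans.app b ≫ (d₂.fn.map g).hom.fst =
              sq.bot.map g ≫ d₂.isoBot.hom.toNatTrans.app b' := h2.symm
          have h1' : (d₁.fn.map g).hom.fst ≫ d₁.isoBot.inv.toNatTrans.app b' =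
              d₁.isoBot.inv.toNatTrans.app b ≫ sq.bot.map g := h1
          rw [h2', ← Category.assoc, ← Category.assoc, h1']
        · exact φ.hom.toNatTrans.naturality g }
  isHomLift' := by
    intro b
    apply (BasedFunctor.isHomLift_iff (fpFst y f) _ _).mp
    change 𝒴'.p.IsHomLift (𝟙 (ℬ.p.obj b))
      (d₁.isoBot.inv.toNatTrans.app b ≫ d₂.isoBot.hom.toNatTrans.app b)
    have h1 := d₁.isoBot.inv.isHomLift' b
    have h2 := d₂.isoBot.hom.isHomLift' b
    have : 𝟙 (ℬ.p.obj b) = 𝟙 (ℬ.p.obj b) ≫ 𝟙 (ℬ.p.obj b) := (Category.id_comp _).symm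
    rw [this]
    infer_instance

theorem lift_w_app (d : sq.Lift) (a : 𝒜.obj) :
    d.isoBot.hom.toNatTrans.app (j.obj a) ≫ (d.isoTop.hom.toNatTrans.app a).hom.fst =
      sq.iso.hom.toNatTrans.app a :=
  congrArg (fun α => α.toNatTrans.app a) d.w

/-- The morphism of lifts `d₁ ⟶ d₂` built from `φ`. -/
def thetaHom : d₁ ⟶ d₂ where
  hom := theta j f y d₁ d₂ φ
  w_top := by
    apply BasedNatTrans.homCategory.ext
    ext a
    · change (d₁.isoBot.inv.toNatTrans.app (j.obj a) ≫ d₂.isoBot.hom.toNatTrans.app (j.obj a)) ≫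
          (d₂.isoTop.hom.toNatTrans.app a).hom.fst = (d₁.isoTop.hom.toNatTrans.app a).hom.fst
      rw [Category.assoc, lift_w_app, ← lift_w_app j f y d₁ a, ← Category.assoc, iso_inv_hom_app,
        Category.id_comp]
    · exact phi_w_top_app j f y d₁ d₂ φ a
  w_bot := by
    apply BasedNatTrans.homCategory.ext
    ext b
    change d₁.isoBot.hom.toNatTrans.app b ≫
        (d₁.isoBot.inv.toNatTrans.app b ≫ d₂.isoBot.hom.toNatTrans.app b) =
      d₂.isoBot.hom.toNatTrans.app b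
    rw [← Category.assoc, iso_hom_inv_app, Category.id_comp]

theorem hom_w_top_app (θ : d₁ ⟶ d₂) (a : 𝒜.obj) :
    θ.hom.toNatTrans.app (j.obj a) ≫ d₂.isoTop.hom.toNatTrans.app a =
      d₁.isoTop.hom.toNatTrans.app a :=
  congrArg (fun α => α.toNatTrans.app a) θ.w_top

theorem hom_w_bot_app (θ : d₁ ⟶ d₂) (b : ℬ.obj) :
    d₁.isoBot.hom.toNatTrans.app b ≫ (θ.hom.toNatTrans.app b).hom.fst =
      d₂.isoBot.hom.toNatTrans.app b :=
  congrArg (fun α => α.toNatTrans.app b) θ.w_bot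

theorem chase2 {D : Type*} [Category D] {A B B' E E' : D} (p : A ⟶ B) (i : B ⟶ E) (q : E ⟶ E')
    (t : B ⟶ B') (p' : A ⟶ B') (i' : B' ⟶ E') (h1 : p ≫ t = p') (h2 : t ≫ i' = i ≫ q) :
    (p ≫ i) ≫ q = p' ≫ i' := by
  rw [Category.assoc, ← h2, ← Category.assoc, h1]

/-- A morphism of lifts of `sq` induces a morphism of the associated lifts of `sqF sq`. -/
def mapHom (θ : d₁ ⟶ d₂) : liftF j f y d₁ ⟶ liftF j f y d₂ where
  hom := BasedCategory.whiskerRight θ.hom (fpSnd y f)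
  w_top := by
    apply BasedNatTrans.homCategory.ext
    ext a
    have h := congrArg (fun m => m.hom.snd) (hom_w_top_app j f y d₁ d₂ θ a)
    exact h
  w_bot := by
    apply BasedNatTrans.homCategory.ext
    ext b
    have h1 := hom_w_bot_app j f y d₁ d₂ θ b
    have h2 := (θ.hom.toNatTrans.app b).hom.w
    change (y.map (d₁.isoBot.hom.toNatTrans.app b) ≫ (d₁.fn.obj b).obj.iso.hom) ≫
        f.map (θ.hom.toNatTrans.app b).hom.snd =
      y.map (d₂.isoBot.hom.toNatTrans.app b) ≫ (d₂.fn.obj b).obj.iso.hom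
    have h1' : y.map (d₁.isoBot.hom.toNatTrans.app b) ≫ y.map (θ.hom.toNatTrans.app b).hom.fst =
        y.map (d₂.isoBot.hom.toNatTrans.app b) := by
      rw [← Functor.map_comp, h1]
    exact chase2 _ _ _ _ _ _ h1' h2

end Uniq

theorem liftsUnique_fpFst (hf : LiftsUnique j f) : LiftsUnique j (fpFst y f) := by
  intro sq d₁ d₂
  obtain ⟨u⟩ := hf (sqF j f y sq) (liftF j f y d₁) (liftF j f y d₂)
  refine ⟨⟨⟨thetaHom j f y d₁ d₂ u.default⟩, ?_⟩⟩
  intro θ
  have hu : mapHom j f y d₁ d₂ θ = u.default := u.uniq _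
  have hsnd : ∀ b, (θ.hom.toNatTrans.app b).hom.snd = u.default.hom.toNatTrans.app b := by
    intro b
    exact congrArg (fun m => m.hom.toNatTrans.app b) hu
  have hfst : ∀ b, (θ.hom.toNatTrans.app b).hom.fst =
      d₁.isoBot.inv.toNatTrans.app b ≫ d₂.isoBot.hom.toNatTrans.app b := by
    intro b
    rw [← hom_w_bot_app j f y d₁ d₂ θ b, ← Category.assoc, iso_inv_hom_app, Category.id_comp]
  apply Sq.Lift.hom_ext
  apply BasedNatTrans.homCategory.ext
  ext b
  · exact hfst b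
  · exact hsnd b

theorem liftsUniquely_fpFst (hf : LiftsUniquely j f) : LiftsUniquely j (fpFst y f) := by
  intro sq
  exact ⟨lifts_fpFst j f y (fun s => (hf s).1) sq, liftsUnique_fpFst j f y (fun s => (hf s).2) sq⟩

end Groth.Agent.Lib.Seat87.LiftSqBC
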