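import Mathlib
import Groth.Prelude.Def_PicRel2
import Groth.Agent.Lib.Helper23PB

/-!
# Base change of the relative Picard functor through its representing object (engine for S17906)
-/

set_option autoImplicit false
universe u
open CategoryTheory CategoryTheory.Limits AlgebraicGeometry

namespace Groth.Agent.Lib.Seat87.PicBC

section Cl

variable {Y Y' Y'' : Scheme.{u}}

theorem pullCl_cl (g : Y' ⟶ Y) (L : Y.Modules) :
    PicF.pullCl g (PicF.cl L) = PicF.cl ((Scheme.Modules.pullback g).obj L) := rfl

theorem pullCl_comp (g' : Y'' ⟶ Y') (g : Y' ⟶ Y) (c : PicF.Cl Y) :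
    PicF.pullCl (g' ≫ g) c = PicF.pullCl g' (PicF.pullCl g c) := by
  induction c using Quot.ind with
  | mk L =>
    exact Quot.sound ⟨((Scheme.Modules.pullbackComp g' g).app L).symm⟩

theorem pullCl_id (c : PicF.Cl Y) : PicF.pullCl (𝟙 Y) c = c := by
  induction c using Quot.ind with
  | mk L =>
    exact Quot.sound ⟨(Scheme.Modules.pullbackId Y).app L⟩

theorem pullCl_hom_inv (e : Y' ≅ Y) (c : PicF.Cl Y') :
    PicF.pullCl e.hom (PicF.pullCl e.inv c) = c := by
  rw [← pullCl_comp, e.hom_inv_id, pullCl_id]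

theorem pullCl_inv_hom (e : Y' ≅ Y) (c : PicF.Cl Y) :
    PicF.pullCl e.inv (PicF.pullCl e.hom c) = c := by
  rw [← pullCl_comp, e.inv_hom_id, pullCl_id]

theorem isInvertibleCl_pullCl (g : Y' ⟶ Y) (c : PicF.Cl Y) (hc : PicF.IsInvertibleCl c) :
    PicF.IsInvertibleCl (PicF.pullCl g c) := by
  obtain ⟨L, rfl, hL⟩ := hc
  exact ⟨_, rfl, Groth.Agent.Lib.Helper23.PB.isInvertible_pullback g L hL⟩

end Cl

section Main

variable {X S S' : Scheme.{u}} (f : X ⟶ S) (g : S' ⟶ S)

/-- `T` over `S'` regarded over `S`. -/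
noncomputable abbrev R (T : Over S') : Over S := Over.mk (T.hom ≫ g)

/-- A morphism over `S'` regarded over `S`. -/
noncomputable abbrev Rmap {T T' : Over S'} (h : T' ⟶ T) : R g T' ⟶ R g T :=
  Over.homMk h.left (by
    show h.left ≫ T.hom ≫ g = T'.hom ≫ g
    rw [← Category.assoc, Over.w h])

/-- `(X ×_S S') ×_{S'} T ≅ X ×_S T`. -/
noncomputable abbrev θ (T : Over S') : PicF.XT (pullback.snd f g) T ≅ PicF.XT f (R g T) :=
  pullbackLeftPullbackSndIso f g T.hom

set_option linter.unusedSimpArgs false in
theorem XTmap_comp {T T' T'' : Over S} (a : T'' ⟶ T') (b : T' ⟶ T) :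
    PicF.XTmap f (a ≫ b) = PicF.XTmap f a ≫ PicF.XTmap f b := by
  apply pullback.hom_ext <;>
  simp only [PicF.XTmap, pullback.map, Category.assoc, pullback.lift_fst, pullback.lift_snd,
    pullback.lift_fst_assoc, pullback.lift_snd_assoc, Category.comp_id, Over.comp_left]

set_option linter.unusedSimpArgs false in
theorem square {T T' : Over S'} (h : T' ⟶ T) :
    (θ f g T').inv ≫ PicF.XTmap (pullback.snd f g) h =
      PicF.XTmap f (Rmap g h) ≫ (θ f g T).inv := by
  apply pullback.hom_ext
  · apply pullback.hom_ext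
    · simp only [PicF.XTmap, pullback.map, Category.assoc, pullback.lift_fst, pullback.lift_snd,
        pullback.lift_fst_assoc, pullback.lift_snd_assoc, Category.comp_id, Over.comp_left,
        pullbackLeftPullbackSndIso_inv_fst, pullbackLeftPullbackSndIso_inv_fst_assoc,
        pullbackLeftPullbackSndIso_inv_snd_snd, pullbackLeftPullbackSndIso_inv_snd_snd_assoc,
        pullbackLeftPullbackSndIso_inv_fst_snd, pullbackLeftPullbackSndIso_inv_fst_snd_assoc,
        Over.mk_hom, Over.homMk_left]
    · simp only [PicF.XTmap, pullback.map, Category.assoc, pullback.lift_fst, pullback.lift_snd,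
        pullback.lift_fst_assoc, pullback.lift_snd_assoc, Category.comp_id, Over.comp_left,
        pullbackLeftPullbackSndIso_inv_fst, pullbackLeftPullbackSndIso_inv_fst_assoc,
        pullbackLeftPullbackSndIso_inv_snd_snd, pullbackLeftPullbackSndIso_inv_snd_snd_assoc,
        pullbackLeftPullbackSndIso_inv_fst_snd, pullbackLeftPullbackSndIso_inv_fst_snd_assoc,
        Over.mk_hom, Over.homMk_left]
      rw [Over.w h]
  · simp only [PicF.XTmap, pullback.map, Category.assoc, pullback.lift_fst, pullback.lift_snd,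
        pullback.lift_fst_assoc, pullback.lift_snd_assoc, Category.comp_id, Over.comp_left,
        pullbackLeftPullbackSndIso_inv_fst, pullbackLeftPullbackSndIso_inv_fst_assoc,
        pullbackLeftPullbackSndIso_inv_snd_snd, pullbackLeftPullbackSndIso_inv_snd_snd_assoc,
        pullbackLeftPullbackSndIso_inv_fst_snd, pullbackLeftPullbackSndIso_inv_fst_snd_assoc,
        Over.mk_hom, Over.homMk_left]

/-- `XTmap` of the base-changed family, expressed through `θ`. -/
theorem XTmap_eq {T T' : Over S'} (h : T' ⟶ T) :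
    PicF.XTmap (pullback.snd f g) h =
      (θ f g T').hom ≫ PicF.XTmap f (Rmap g h) ≫ (θ f g T).inv := by
  rw [← square, Iso.hom_inv_id_assoc]

theorem pullCl_XTmap {T T' : Over S'} (h : T' ⟶ T) (c : PicF.Cl (PicF.XT (pullback.snd f g) T)) :
    PicF.pullCl (PicF.XTmap (pullback.snd f g) h) c =
      PicF.pullCl (θ f g T').hom (PicF.pullCl (PicF.XTmap f (Rmap g h))
        (PicF.pullCl (θ f g T).inv c)) := by
  rw [XTmap_eq, pullCl_comp, pullCl_comp]

/-- The comparison `R (ovr T U) ⟶ ovr (R T) U` (identity on underlying schemes). -/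
noncomputable abbrev eU (T : Over S') (U : T.left.Etale) :
    R g (PicRel.ovr T U) ⟶ PicRel.ovr (R g T) U :=
  Over.homMk (𝟙 _) (by simp)

theorem isRelPic_baseChange (P : Over S) (φ : ∀ T : Over S, PicF.Cl (PicF.XT f T) → (T ⟶ P))
    (hP : PicRel.IsRelPic f P φ) :
    PicRel.IsRelPic (pullback.snd f g) (Over.mk (pullback.snd P.hom g))
      (fun T c => Over.homMk
        (pullback.lift (φ (Over.mk (T.hom ≫ g))
            (PicF.pullCl (pullbackLeftPullbackSndIso f g T.hom).inv c)).left T.hom
          (Over.w (φ (Over.mk (T.hom ≫ g))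
            (PicF.pullCl (pullbackLeftPullbackSndIso f g T.hom).inv c))))
        (pullback.lift_snd _ _ _)) := by
  refine ⟨?_, ?_, ?_⟩
  · intro T T' h c hc
    apply Over.OverMorphism.ext
    apply pullback.hom_ext
    · simp only [Over.homMk_left, Over.comp_left, pullback.lift_fst, Category.assoc]
      have h1 : PicF.pullCl (θ f g T').inv (PicF.pullCl (PicF.XTmap (pullback.snd f g) h) c) =
          PicF.pullCl (PicF.XTmap f (Rmap g h)) (PicF.pullCl (θ f g T).inv c) := by
        rw [pullCl_XTmap, pullCl_inv_hom]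
      rw [h1, hP.natural _ _ (Rmap g h) _ (isInvertibleCl_pullCl _ _ hc)]
      rfl
    · simp only [Over.homMk_left, Over.comp_left, pullback.lift_snd, Category.assoc]
      exact (Over.w h).symm
  · intro T γ
    have hγ : γ.left ≫ pullback.snd P.hom g = T.hom := Over.w γ
    let γ1 : R g T ⟶ P := Over.homMk (γ.left ≫ pullback.fst P.hom g) (by
      simp only [Over.mk_hom]
      rw [Category.assoc, pullback.condition, ← Category.assoc, hγ])
    obtain ⟨ι, U, hU, hc⟩ := hP.locallySurjective (R g T) γ1
    refine ⟨ι, U, hU, fun i => ?_⟩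
    obtain ⟨c, hcinv, hcφ⟩ := hc i
    refine ⟨PicF.pullCl (θ f g (PicRel.ovr T (U i))).hom
      (PicF.pullCl (PicF.XTmap f (eU g T (U i))) c),
      isInvertibleCl_pullCl _ _ (isInvertibleCl_pullCl _ _ hcinv), ?_⟩
    apply Over.OverMorphism.ext
    apply pullback.hom_ext
    · simp only [Over.homMk_left, Over.comp_left, pullback.lift_fst, Category.assoc]
      rw [pullCl_inv_hom, hP.natural _ _ (eU g T (U i)) c hcinv, hcφ]
      simp [γ1]
    · simp only [Over.homMk_left, Over.comp_left, pullback.lift_snd, Category.assoc]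
      rw [hγ]
      rfl
  · intro T c c' hc hc' hφ
    have h1 : φ (R g T) (PicF.pullCl (θ f g T).inv c) =
        φ (R g T) (PicF.pullCl (θ f g T).inv c') := by
      apply Over.OverMorphism.ext
      have := congrArg (fun m => m.left ≫ pullback.fst P.hom g) hφ
      simpa only [Over.homMk_left, pullback.lift_fst] using this
    obtain ⟨ι, U, hU, hc2⟩ := hP.locallyInjective (R g T) _ _
      (isInvertibleCl_pullCl _ _ hc) (isInvertibleCl_pullCl _ _ hc') h1
    refine ⟨ι, U, hU, fun i => ?_⟩
    rw [pullCl_XTmap, pullCl_XTmap]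
    have hR : Rmap g (PicRel.ovrHom T (U i)) = eU g T (U i) ≫ PicRel.ovrHom (R g T) (U i) := by
      apply Over.OverMorphism.ext
      simp
    rw [hR, XTmap_comp, pullCl_comp, pullCl_comp, hc2 i]

end Main

end Groth.Agent.Lib.Seat87.PicBC
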