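import Groth.Agent.Lib.Seat24FppfSrc

/-!
# The quotient of a group scheme over a field by a subgroup with the same underlying space (helper87)

`G` locally of finite type over a field `k`, `u : F ⟶ G` a homomorphism which is surjective on
points, `p : G ⟶ X` an fppf quotient by `F`.  Then `X` is the spectrum of a finite local
`k`-algebra with residue field `k`.
-/

set_option autoImplicit false
set_option backward.isDefEq.respectTransparency false
set_option backward.defeqAttrib.useBackward true
universe u

open CategoryTheory CategoryTheory.Limits AlgebraicGeometry MonoidalCategory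
  CartesianMonoidalCategory MonObj GrpObj Opposite

namespace Groth.Agent.Lib.Seat87.QuotRed

section Cat

variable {C : Type*} [Category C] [CartesianMonoidalCategory C]

/-- the shear map `(g, h) ↦ (g h, h)` of a group object is an isomorphism -/
lemma isIso_shear (G : C) [GrpObj G] : IsIso (lift μ[G] (snd G G)) := by
  have hμ : (μ[G] : G ⊗ G ⟶ G) = fst G G * snd G G := by
    rw [Hom.mul_def, lift_fst_snd, Category.id_comp]
  refine ⟨⟨lift (fst G G * (snd G G)⁻¹) (snd G G), ?_, ?_⟩⟩
  · rw [comp_lift, comp_mul, comp_inv, lift_fst, lift_snd, hμ, mul_inv_cancel_right]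
    exact lift_fst_snd
  · rw [comp_lift, lift_snd, hμ, comp_mul, lift_fst, lift_snd, inv_mul_cancel_right]
    exact lift_fst_snd

/-- `u ▷ G` is a base change of `u` -/
lemma isPullback_whiskerRight_fst {F G' : C} (u : F ⟶ G') (G : C) :
    IsPullback (u ▷ G) (fst F G) (fst G' G) u := by
  refine ⟨⟨whiskerRight_fst u G⟩, ⟨PullbackCone.IsLimit.mk _
    (fun s => lift s.snd (s.fst ≫ snd G' G)) ?_ ?_ ?_⟩⟩
  · intro s
    apply CartesianMonoidalCategory.hom_ext
    · rw [Category.assoc, whiskerRight_fst, lift_fst_assoc, s.condition]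
    · rw [Category.assoc, whiskerRight_snd, lift_snd]
  · intro s
    rw [lift_fst]
  · intro s m h1 h2
    apply CartesianMonoidalCategory.hom_ext
    · rw [lift_fst, h2]
    · rw [lift_snd, ← h1, Category.assoc, whiskerRight_snd]

end Cat

section Sch

variable (k : Type u) [Field k]

/-- all points of the quotient coincide -/
lemma quotient_subsingleton (F G : Over (Spec (CommRingCat.of k))) [GrpObj G]
    (u : F ⟶ G) [Surjective u.left] (X : Over (Spec (CommRingCat.of k))) (p : G ⟶ X)
    [Surjective p.left]
    (hw : ((u ▷ G) ≫ μ[G]) ≫ p = snd F G ≫ p) (x₁ x₂ : X.left) : x₁ = x₂ := by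
  obtain ⟨g₁, rfl⟩ := p.left.surjective x₁
  obtain ⟨g₂, rfl⟩ := p.left.surjective x₂
  -- the map `(f, g) ↦ (u f * g, g)` is surjective
  have h1 : Surjective (u ▷ G).left :=
    MorphismProperty.of_isPullback (P := @Surjective)
      ((Over.forget _).map_isPullback (isPullback_whiskerRight_fst u G)).flip ‹_›
  have h2 : IsIso (lift μ[G] (snd G G)) := isIso_shear G
  have h3 : IsIso (lift μ[G] (snd G G)).left :=
    (Over.forget _).map_isIso (lift μ[G] (snd G G))
  have hφ : lift ((u ▷ G) ≫ μ[G]) (snd F G) = (u ▷ G) ≫ lift μ[G] (snd G G) := by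
    apply CartesianMonoidalCategory.hom_ext
    · rw [lift_fst, Category.assoc, lift_fst]
    · rw [lift_snd, Category.assoc, lift_snd, whiskerRight_snd]
  have h4 : Surjective (lift ((u ▷ G) ≫ μ[G]) (snd F G)).left := by
    rw [hφ, Over.comp_left]
    infer_instance
  -- a point of `G × G` over `(g₁, g₂)`
  have hg : G.hom g₁ = G.hom g₂ := by
    have : Subsingleton ↥(Spec (CommRingCat.of k)) :=
      inferInstanceAs (Subsingleton (PrimeSpectrum k))
    exact Subsingleton.elim _ _
  obtain ⟨z, hz1, hz2⟩ := Scheme.Pullback.exists_preimage_pullback g₁ g₂ hg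
  obtain ⟨w, hw'⟩ := (lift ((u ▷ G) ≫ μ[G]) (snd F G)).left.surjective z
  have e1 : ((u ▷ G) ≫ μ[G]).left w = g₁ := by
    have : ((u ▷ G) ≫ μ[G]).left =
        (lift ((u ▷ G) ≫ μ[G]) (snd F G)).left ≫ (fst G G).left := by
      rw [← Over.comp_left, lift_fst]
    rw [this, Scheme.Hom.comp_apply, hw']
    exact hz1
  have e2 : (snd F G).left w = g₂ := by
    have : (snd F G).left =
        (lift ((u ▷ G) ≫ μ[G]) (snd F G)).left ≫ (snd G G).left := by
      rw [← Over.comp_left, lift_snd]
    rw [this, Scheme.Hom.comp_apply, hw']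
    exact hz2
  have e3 : p.left (((u ▷ G) ≫ μ[G]).left w) = p.left ((snd F G).left w) := by
    rw [← Scheme.Hom.comp_apply, ← Scheme.Hom.comp_apply, ← Over.comp_left, ← Over.comp_left, hw]
  rw [e1, e2] at e3
  exact e3

/-- a scheme with a single point is affine -/
lemma isAffine_of_subsingleton (X : Scheme.{u}) (h : ∀ x₁ x₂ : X, x₁ = x₂) (x : X) : IsAffine X := by
  obtain ⟨U, hU, hxU, -⟩ := exists_isAffineOpen_mem_and_subset (x := x) (U := ⊤) trivial
  have hU' : U = ⊤ := by
    ext y
    simp only [TopologicalSpace.Opens.coe_top, Set.mem_univ, iff_true]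
    rw [h y x]; exact hxU
  subst hU'
  have : IsAffine (⊤ : X.Opens).toScheme := hU
  exact IsAffine.of_isIso X.topIso.inv

/-- a finite type algebra over a field with a single prime is finite -/
lemma finite_of_finiteType_of_subsingleton {A : Type u} [CommRing A] (ψ : k →+* A)
    (hψ : ψ.FiniteType) [Nontrivial A] (h : ∀ x₁ x₂ : PrimeSpectrum A, x₁ = x₂) : ψ.Finite := by
  let _ := ψ.toAlgebra
  have : Algebra.FiniteType k A := hψ
  change Module.Finite k A
  rw [Module.finite_iff_krullDimLE_zero]
  refine Ring.KrullDimLE.mk₀ fun I hI => ?_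
  obtain ⟨M, hM, hIM⟩ := Ideal.exists_le_maximal I hI.ne_top
  have := h ⟨I, hI⟩ ⟨M, hM.isPrime⟩
  rw [PrimeSpectrum.ext_iff] at this
  change I = M at this
  rw [this]; exact hM

/-- `G/F` for `F ⟶ G` surjective on points, `G` locally of finite type over a field -/
theorem quotient_finite_local (F G : Over (Spec (CommRingCat.of k))) [GrpObj G]
    [LocallyOfFiniteType G.hom] (u : F ⟶ G) [Surjective u.left]
    (X : Over (Spec (CommRingCat.of k))) (p : G ⟶ X) [Flat p.left] [Surjective p.left]
    [LocallyOfFinitePresentation p.left]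
    (hw : ((u ▷ G) ≫ μ[G]) ≫ p = snd F G ≫ p) :
    IsAffine X.left ∧
      (∃ x : X.left, (Set.univ : Set X.left) = {x} ∧ IsIso (X.hom.residueFieldMap x)) ∧
      ((Scheme.ΓSpecIso (CommRingCat.of k)).inv ≫ X.hom.appTop).hom.Finite := by
  have hsub := quotient_subsingleton k F G u X p hw
  -- the rational point
  let σ : Spec (CommRingCat.of k) ⟶ X.left := (η[G] ≫ p).left
  have hσ : σ ≫ X.hom = 𝟙 _ := Over.w (η[G] ≫ p)
  let y : ↥(Spec (CommRingCat.of k)) := IsLocalRing.closedPoint k
  have hAff : IsAffine X.left := isAffine_of_subsingleton X.left hsub (σ y)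
  refine ⟨hAff, ⟨σ y, ?_, ?_⟩, ?_⟩
  · ext x
    simp only [Set.mem_univ, Set.mem_singleton_iff, true_iff]
    exact hsub _ _
  · have hc : IsIso ((σ ≫ X.hom).residueFieldMap y) := by
      have : IsIso (σ ≫ X.hom) := by rw [hσ]; infer_instance
      infer_instance
    rw [Scheme.residueFieldMap_comp] at hc
    have hbij : Function.Bijective (X.hom.residueFieldMap (σ y)).hom := by
      have hcb : Function.Bijective
          (X.hom.residueFieldMap (σ y) ≫ σ.residueFieldMap y).hom :=
        ConcreteCategory.bijective_of_isIso _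
      refine ⟨(X.hom.residueFieldMap (σ y)).hom.injective, fun v => ?_⟩
      obtain ⟨w, hw⟩ := hcb.2 ((σ.residueFieldMap y).hom v)
      refine ⟨w, (σ.residueFieldMap y).hom.injective ?_⟩
      exact hw
    exact (ConcreteCategory.isIso_iff_bijective _).mpr hbij
  · have hft : LocallyOfFiniteType X.hom := by
      have : LocallyOfFiniteType (p.left ≫ X.hom) := by rw [Over.w p]; infer_instance
      exact Groth.Agent.Lib.Seat24.FppfSrc.lft_of_fppf_cover_source p.left X.hom
    have h1 : (X.hom.appTop).hom.FiniteType :=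
      (HasRingHomProperty.iff_of_isAffine (P := @LocallyOfFiniteType)).mp hft
    have h2 : ((Scheme.ΓSpecIso (CommRingCat.of k)).inv ≫ X.hom.appTop).hom.FiniteType := by
      rw [CommRingCat.hom_comp]
      exact h1.comp (RingHom.FiniteType.of_surjective _
        (ConcreteCategory.bijective_of_isIso (Scheme.ΓSpecIso (CommRingCat.of k)).inv).2)
    have hne : Nontrivial Γ(X.left, ⊤) := by
      have : Nonempty (⊤ : X.left.Opens) := ⟨⟨σ y, trivial⟩⟩
      infer_instance
    refine finite_of_finiteType_of_subsingleton k _ h2 ?_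
    intro x₁ x₂
    have e := X.left.isoSpec.inv.homeomorph
    apply e.injective
    exact hsub _ _

end Sch

end Groth.Agent.Lib.Seat87.QuotRed
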