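import Groth.Agent.Lib.Helper12Cart
import Groth.Agent.Lib.Helper12Act
import Groth.Agent.Lib.Helper12AffineDescent
import Groth.Agent.Lib.Helper6LfpComp
import Groth.Agent.Lib.Seat87QuotRed
import Groth.Prelude.Def_AGF

/-!
# `G/H` is affine iff `G/H'` is affine, for `H' ⟶ H` surjective on points (helper87)

`G` a group scheme over a field `k`, `h : H ⟶ G`, `h' : H' ⟶ H` homomorphisms, `h'` surjective
on underlying spaces, `X = G/H` and `X' = G/H'` fppf quotients (in the form of `AGF.IsQuotient`).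
The canonical map `π : X' ⟶ X` is finite and surjective: its base change along the fppf cover
`G ⟶ X` is `G × F ⟶ G` with `F = H/H'` the spectrum of a finite local `k`-algebra.
-/

set_option autoImplicit false
set_option backward.isDefEq.respectTransparency false
set_option backward.defeqAttrib.useBackward true
universe u

open CategoryTheory CategoryTheory.Limits AlgebraicGeometry MonoidalCategory
  CartesianMonoidalCategory MonObj GrpObj

namespace Groth.Agent.Lib.Seat87.QuotAff

open Groth.Agent.Lib.Helper12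

section General

variable {S : Scheme.{u}} {G H H' X X' : Over S} [GrpObj G]
  (a : AlgGrp.Action G X) (o : 𝟙_ (Over S) ⟶ X)
  (a' : AlgGrp.Action G X') (o' : 𝟙_ (Over S) ⟶ X')

/-- the orbit map sends the unit to the base point -/
lemma one_orbitMap (T : Over S) : (1 : T ⟶ G) ≫ a.orbitMap o = toUnit T ≫ o := by
  rw [comp_orbitMap, act_one]

/-- the orbit map is equivariant (point form) -/
lemma mul_orbitMap {T : Over S} (g g' : T ⟶ G) :
    (g * g') ≫ a.orbitMap o = lift g (g' ≫ a.orbitMap o) ≫ a.act := by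
  rw [comp_orbitMap, act_mul, ← comp_orbitMap]

/-- the orbit map is equivariant -/
lemma whiskerLeft_orbitMap_act : (G ◁ a.orbitMap o) ≫ a.act = μ[G] ≫ a.orbitMap o := by
  have h1 : (μ[G] : G ⊗ G ⟶ G) = fst G G * snd G G := by
    rw [Hom.mul_def, lift_fst_snd, Category.id_comp]
  have h2 : G ◁ a.orbitMap o = lift (fst G G) (snd G G ≫ a.orbitMap o) := by
    apply CartesianMonoidalCategory.hom_ext
    · rw [whiskerLeft_fst, lift_fst]
    · rw [whiskerLeft_snd, lift_snd]
  rw [h1, mul_orbitMap, h2]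

/-- right invariance of the orbit map under the subgroup (point form) -/
lemma orbitMap_mul_sub (h : H ⟶ G)
    (hw : fst G H ≫ a.orbitMap o = ((G ◁ h) ≫ μ[G]) ≫ a.orbitMap o) {T : Over S}
    (g : T ⟶ G) (z : T ⟶ H) :
    (g * (z ≫ h)) ≫ a.orbitMap o = g ≫ a.orbitMap o := by
  have : lift g z ≫ fst G H ≫ a.orbitMap o =
      lift g z ≫ ((G ◁ h) ≫ μ[G]) ≫ a.orbitMap o := by rw [hw]
  rw [← Category.assoc, lift_fst, ← Category.assoc, ← Category.assoc, lift_whiskerLeft] at this
  rw [Hom.mul_def]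
  exact this.symm

/-- the subgroup maps to the base point -/
lemma sub_orbitMap (h : H ⟶ G)
    (hw : fst G H ≫ a.orbitMap o = ((G ◁ h) ≫ μ[G]) ≫ a.orbitMap o) :
    h ≫ a.orbitMap o = toUnit H ≫ o := by
  have := orbitMap_mul_sub a o h hw (1 : H ⟶ G) (𝟙 H)
  rw [_root_.one_mul, Category.id_comp, one_orbitMap] at this
  exact this

/-- the subgroup is the fibre of the orbit map over the base point -/
lemma isPullback_sub (h : H ⟶ G)
    (hX : IsPullback (fst G H) ((G ◁ h) ≫ μ[G]) (a.orbitMap o) (a.orbitMap o)) :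
    IsPullback h (toUnit H) (a.orbitMap o) o := by
  refine ⟨⟨sub_orbitMap a o h hX.w⟩, ⟨PullbackCone.IsLimit.mk _
    (fun s => hX.lift (1 : s.pt ⟶ G) s.fst
      (by rw [one_orbitMap, s.condition]; congr 1; exact toUnit_unique _ _) ≫ snd G H) ?_ ?_ ?_⟩⟩
  · intro s
    have hc : (1 : s.pt ⟶ G) ≫ a.orbitMap o = s.fst ≫ a.orbitMap o := by
      rw [one_orbitMap, s.condition]; congr 1; exact toUnit_unique _ _
    have e1 := hX.lift_fst (1 : s.pt ⟶ G) s.fst hc
    have e2 := hX.lift_snd (1 : s.pt ⟶ G) s.fst hc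
    set t := hX.lift (1 : s.pt ⟶ G) s.fst hc with ht
    have e3 : t = lift (t ≫ fst G H) (t ≫ snd G H) := (lift_comp_fst_snd t).symm
    rw [e3, ← Category.assoc, lift_whiskerLeft, ← Hom.mul_def, e1, _root_.one_mul] at e2
    rw [Category.assoc]
    exact e2
  · intro s
    exact toUnit_unique _ _
  · intro s m hm₁ _
    have hc : (1 : s.pt ⟶ G) ≫ a.orbitMap o = s.fst ≫ a.orbitMap o := by
      rw [one_orbitMap, s.condition]; congr 1; exact toUnit_unique _ _
    have : lift (1 : s.pt ⟶ G) m = hX.lift (1 : s.pt ⟶ G) s.fst hc := by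
      apply hX.hom_ext
      · rw [lift_fst, hX.lift_fst]
      · rw [hX.lift_snd, ← Category.assoc, lift_whiskerLeft, ← Hom.mul_def, _root_.one_mul, hm₁]
    rw [← this, lift_snd]

variable {a o a' o'}

/-- the canonical map `G/H' ⟶ G/H` -/
lemma exists_map (h : H ⟶ G) (h' : H' ⟶ H)
    (hw : fst G H ≫ a.orbitMap o = ((G ◁ h) ≫ μ[G]) ≫ a.orbitMap o)
    [EffectiveEpi (a'.orbitMap o').left]
    (hX' : IsPullback (fst G H') ((G ◁ (h' ≫ h)) ≫ μ[G]) (a'.orbitMap o') (a'.orbitMap o')) :
    ∃ π : X' ⟶ X, a'.orbitMap o' ≫ π = a.orbitMap o := by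
  refine exists_desc_of_isPullback (a'.orbitMap o') hX' (a.orbitMap o) ?_
  have := orbitMap_mul_sub a o h hw (fst G H') (snd G H' ≫ h')
  have e : lift (fst G H') ((snd G H' ≫ h') ≫ h) = G ◁ (h' ≫ h) := by
    apply CartesianMonoidalCategory.hom_ext
    · rw [lift_fst, whiskerLeft_fst]
    · rw [lift_snd, whiskerLeft_snd, Category.assoc]
  rw [← this, Hom.mul_def, e]

/-- the canonical map is equivariant -/
lemma map_equivariant [Flat (a'.orbitMap o').left] [Surjective (a'.orbitMap o').left]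
    (π : X' ⟶ X) (hπ : a'.orbitMap o' ≫ π = a.orbitMap o) :
    a'.act ≫ π = (G ◁ π) ≫ a.act := by
  have := epi_whiskerLeft G (a'.orbitMap o')
  rw [← cancel_epi (G ◁ a'.orbitMap o'), ← Category.assoc, whiskerLeft_orbitMap_act,
    Category.assoc, hπ, ← Category.assoc, ← MonoidalCategory.whiskerLeft_comp, hπ,
    whiskerLeft_orbitMap_act]

/-- point form of equivariance -/
lemma map_equivariant_pt (π : X' ⟶ X) (hπ : a'.act ≫ π = (G ◁ π) ≫ a.act) {T : Over S}
    (g : T ⟶ G) (x : T ⟶ X') :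
    (lift g x ≫ a'.act) ≫ π = lift g (x ≫ π) ≫ a.act := by
  rw [Category.assoc, hπ, ← Category.assoc, lift_whiskerLeft]

/-- the base change of `π : G/H' ⟶ G/H` along `G ⟶ G/H` is `G × F`, `F` the fibre over the
base point -/
lemma isPullback_fibre (π : X' ⟶ X) (hπ : a'.act ≫ π = (G ◁ π) ≫ a.act)
    {F : Over S} (j : F ⟶ X') (hF : IsPullback j (toUnit F) π o) :
    IsPullback ((G ◁ j) ≫ a'.act) (fst G F) π (a.orbitMap o) := by
  have hw : ((G ◁ j) ≫ a'.act) ≫ π = fst G F ≫ a.orbitMap o := by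
    rw [Category.assoc, hπ, ← Category.assoc, ← MonoidalCategory.whiskerLeft_comp, hF.w,
      comp_orbitMap]
    congr 1
    apply CartesianMonoidalCategory.hom_ext
    · rw [whiskerLeft_fst, lift_fst]
    · rw [whiskerLeft_snd, lift_snd, ← Category.assoc]
      congr 1
      exact toUnit_unique _ _
  -- the point `g⁻¹ x'` lies in the fibre
  have key : ∀ {T : Over S} (x' : T ⟶ X') (g : T ⟶ G), x' ≫ π = g ≫ a.orbitMap o →
      (lift g⁻¹ x' ≫ a'.act) ≫ π = toUnit T ≫ o := by
    intro T x' g hc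
    rw [map_equivariant_pt π hπ, hc, ← mul_orbitMap, inv_mul_cancel, one_orbitMap]
  refine ⟨⟨hw⟩, ⟨PullbackCone.IsLimit.mk _
    (fun s => lift s.snd (hF.lift (lift s.snd⁻¹ s.fst ≫ a'.act) (toUnit s.pt)
      (key s.fst s.snd s.condition))) ?_ ?_ ?_⟩⟩
  · intro s
    rw [← Category.assoc, lift_whiskerLeft, hF.lift_fst, ← act_mul, mul_inv_cancel, act_one]
  · intro s
    rw [lift_fst]
  · intro s m hm₁ hm₂
    apply CartesianMonoidalCategory.hom_ext
    · rw [lift_fst, hm₂]
    · rw [lift_snd]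
      apply hF.hom_ext
      · rw [hF.lift_fst, ← hm₁, ← hm₂]
        have e3 : m = lift (m ≫ fst G F) (m ≫ snd G F) := (lift_comp_fst_snd m).symm
        conv_rhs => rw [e3]
        rw [← Category.assoc, lift_whiskerLeft, ← act_mul]
        rw [lift_fst, inv_mul_cancel, act_one, Category.assoc]
      · exact toUnit_unique _ _

/-- the map `H ⟶ F` to the fibre is a base change of `G ⟶ G/H'` -/
lemma isPullback_sub_fibre (h : H ⟶ G)
    (hX : IsPullback (fst G H) ((G ◁ h) ≫ μ[G]) (a.orbitMap o) (a.orbitMap o))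
    (π : X' ⟶ X) (hπ : a'.orbitMap o' ≫ π = a.orbitMap o)
    {F : Over S} (j : F ⟶ X') (hF : IsPullback j (toUnit F) π o) :
    ∃ ρ : H ⟶ F, IsPullback h ρ (a'.orbitMap o') j := by
  have hc : (h ≫ a'.orbitMap o') ≫ π = toUnit H ≫ o := by
    rw [Category.assoc, hπ, sub_orbitMap a o h hX.w]
  refine ⟨hF.lift (h ≫ a'.orbitMap o') (toUnit H) hc, ?_⟩
  have hbig : IsPullback h (hF.lift (h ≫ a'.orbitMap o') (toUnit H) hc ≫ toUnit F)
      (a'.orbitMap o' ≫ π) o := by
    rw [hπ, toUnit_unique (hF.lift (h ≫ a'.orbitMap o') (toUnit H) hc ≫ toUnit F) (toUnit H)]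
    exact isPullback_sub a o h hX
  exact IsPullback.of_bot hbig (hF.lift_fst _ _ _).symm hF

/-- the inverse of a group object is an involution -/
lemma inv_comp_inv (K : Over S) [GrpObj K] : (ι[K] : K ⟶ K) ≫ ι[K] = 𝟙 K := by
  have := inv_inv (𝟙 K : K ⟶ K)
  rwa [Hom.inv_def, Hom.inv_def, Category.id_comp] at this

lemma isIso_inv (K : Over S) [GrpObj K] : IsIso (ι[K] : K ⟶ K) :=
  ⟨⟨ι[K], inv_comp_inv K, inv_comp_inv K⟩⟩

/-- `H ⟶ F`, precomposed with the inverse, is invariant under left translations by `H'` -/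
lemma fibre_invariant [GrpObj H] [GrpObj H'] (h : H ⟶ G) [IsMonHom h] (h' : H' ⟶ H) [IsMonHom h']
    (hw' : fst G H' ≫ a'.orbitMap o' = ((G ◁ (h' ≫ h)) ≫ μ[G]) ≫ a'.orbitMap o')
    {F : Over S} (j : F ⟶ X') [Mono j] (ρ : H ⟶ F) (hρ : h ≫ a'.orbitMap o' = ρ ≫ j) :
    ((h' ▷ H) ≫ μ[H]) ≫ (ι[H] ≫ ρ) = snd H' H ≫ (ι[H] ≫ ρ) := by
  have e0 : lift (fst H' H ≫ h') (snd H' H) = h' ▷ H := by
    apply CartesianMonoidalCategory.hom_ext
    · rw [whiskerRight_fst, lift_fst]
    · rw [whiskerRight_snd, lift_snd]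
  have e1 : (h' ▷ H) ≫ μ[H] = (fst H' H ≫ h') * snd H' H := by
    rw [Hom.mul_def, e0]
  have e2 : ((h' ▷ H) ≫ μ[H]) ≫ ι[H] ≫ h =
      ((snd H' H)⁻¹ ≫ h) * ((fst H' H)⁻¹ ≫ h' ≫ h) := by
    rw [← Category.assoc, ← Hom.inv_def, e1, _root_.mul_inv_rev, MonObj.mul_comp,
      ← GrpObj.inv_comp (fst H' H) h', Category.assoc]
  have e3 : snd H' H ≫ ι[H] ≫ h = (snd H' H)⁻¹ ≫ h := by
    rw [← Category.assoc, ← Hom.inv_def]
  have key : (((h' ▷ H) ≫ μ[H]) ≫ ι[H] ≫ h) ≫ a'.orbitMap o' =
      (snd H' H ≫ ι[H] ≫ h) ≫ a'.orbitMap o' := by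
    rw [e2, e3]
    exact orbitMap_mul_sub a' o' (h' ≫ h) hw' _ _
  rw [← cancel_mono j]
  simp only [Category.assoc]
  rw [← hρ]
  simpa only [Category.assoc] using key

end General

section Field

variable (k : Type u) [Field k]

/-- finiteness over a field from finiteness of global sections -/
lemma isFinite_of_finite (F : Over (Spec (CommRingCat.of k))) [IsAffine F.left]
    (hfin : ((Scheme.ΓSpecIso (CommRingCat.of k)).inv ≫ F.hom.appTop).hom.Finite) :
    IsFinite F.hom := by
  rw [HasAffineProperty.iff_of_isAffine (P := @IsFinite)]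
  refine ⟨inferInstance, ?_⟩
  have : F.hom.appTop = (Scheme.ΓSpecIso (CommRingCat.of k)).hom ≫
      ((Scheme.ΓSpecIso (CommRingCat.of k)).inv ≫ F.hom.appTop) := by
    rw [Iso.hom_inv_id_assoc]
  rw [this, CommRingCat.hom_comp]
  exact hfin.comp (RingHom.Finite.of_surjective _
    (ConcreteCategory.bijective_of_isIso (Scheme.ΓSpecIso (CommRingCat.of k)).hom).2)

/-- `G/H` is affine iff `G/H'` is, for `H' ⟶ H` surjective on points; the non-Noetherian
Chevalley theorem is an explicit hypothesis -/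
theorem isAffine_iff (G H H' X X' : Over (Spec (CommRingCat.of k))) [GrpObj G] [GrpObj H]
    [GrpObj H'] [LocallyOfFinitePresentation G.hom]
    (h : H ⟶ G) [IsMonHom h] [LocallyOfFiniteType H.hom]
    (h' : H' ⟶ H) [IsMonHom h'] [Surjective h'.left]
    (a : AlgGrp.Action G X) (o : 𝟙_ (Over (Spec (CommRingCat.of k))) ⟶ X)
    (hX : AGF.IsQuotient h X a o)
    (a' : AlgGrp.Action G X') (o' : 𝟙_ (Over (Spec (CommRingCat.of k))) ⟶ X')
    (hX' : AGF.IsQuotient (h' ≫ h) X' a' o')
    (chev : ∀ (Y Z : Scheme.{u}) (f : Y ⟶ Z) [IsAffine Y] [Surjective f] [UniversallyClosed f],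
      IsAffine Z) :
    IsAffine X.left ↔ IsAffine X'.left := by
  obtain ⟨hlft, hfl, hsurj, hpb⟩ := hX
  obtain ⟨hlft', hfl', hsurj', hpb'⟩ := hX'
  have hlfp : LocallyOfFinitePresentation (a.orbitMap o).left :=
    Groth.Agent.Lib.Helper6.locallyOfFinitePresentation_of_comp (g := X.hom) hlft
      (by rw [Over.w (a.orbitMap o)]; infer_instance)
  have hlfp' : LocallyOfFinitePresentation (a'.orbitMap o').left :=
    Groth.Agent.Lib.Helper6.locallyOfFinitePresentation_of_comp (g := X'.hom) hlft'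
      (by rw [Over.w (a'.orbitMap o')]; infer_instance)
  obtain ⟨π, hπ⟩ := exists_map h h' hpb.w hpb'
  have heq := map_equivariant π hπ
  -- the fibre of `π` over the base point
  have hF : IsPullback (pullback.fst π o) (toUnit (pullback π o)) π o := by
    have := IsPullback.of_hasPullback π o
    rwa [toUnit_unique (pullback.snd π o) (toUnit (pullback π o))] at this
  obtain ⟨ρ, hρ⟩ := isPullback_sub_fibre h hpb π hπ _ hF
  have hρL : IsPullback h.left ρ.left (a'.orbitMap o').left (pullback.fst π o).left :=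
    hρ.map (Over.forget _)
  have hρfl : Flat ρ.left := MorphismProperty.of_isPullback (P := @Flat) hρL hfl'
  have hρsurj : Surjective ρ.left := MorphismProperty.of_isPullback (P := @Surjective) hρL hsurj'
  have hρlfp : LocallyOfFinitePresentation ρ.left :=
    MorphismProperty.of_isPullback (P := @LocallyOfFinitePresentation) hρL hlfp'
  have hmono_o : Mono o := ⟨fun _ _ _ => toUnit_unique _ _⟩
  have hmono : Mono (pullback.fst π o) := inferInstance
  have hinv := fibre_invariant h h' hpb'.w (pullback.fst π o) ρ hρ.w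
  have hiso : IsIso (ι[H] : H ⟶ H) := isIso_inv H
  have hisoL : IsIso (ι[H] : H ⟶ H).left := (Over.forget _).map_isIso (ι[H] : H ⟶ H)
  have h1 : Flat (ι[H] ≫ ρ).left := by rw [Over.comp_left]; infer_instance
  have h2 : Surjective (ι[H] ≫ ρ).left := by rw [Over.comp_left]; infer_instance
  have h3 : LocallyOfFinitePresentation (ι[H] ≫ ρ).left := by
    rw [Over.comp_left]; infer_instance
  obtain ⟨hFaff, -, hFfin⟩ :=
    Groth.Agent.Lib.Seat87.QuotRed.quotient_finite_local k H' H h' (pullback π o) (ι[H] ≫ ρ) hinv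
  have hFf : IsFinite (pullback π o).hom := isFinite_of_finite k _ hFfin
  -- the base change of `π` along the orbit map
  have hsq : IsPullback ((G ◁ pullback.fst π o) ≫ a'.act).left (fst G (pullback π o)).left
      π.left (a.orbitMap o).left := (isPullback_fibre π heq _ hF).map (Over.forget _)
  have hfst : IsFinite (fst G (pullback π o)).left := by
    change IsFinite (pullback.fst G.hom (pullback π o).hom)
    infer_instance
  have hQ : (@Surjective ⊓ @Flat ⊓ @LocallyOfFinitePresentation : MorphismProperty Scheme.{u})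
      (a.orbitMap o).left := ⟨⟨hsurj, hfl⟩, hlfp⟩
  have huc : UniversallyClosed π.left :=
    MorphismProperty.of_isPullback_of_descendsAlong (P := @UniversallyClosed)
      (Q := @Surjective ⊓ @Flat ⊓ @LocallyOfFinitePresentation) hsq.flip hQ inferInstance
  have : MorphismProperty.DescendsAlong @IsAffineHom
      (@Surjective ⊓ @Flat ⊓ @QuasiCompact : MorphismProperty Scheme.{u}) :=
    Groth.Agent.Lib.Helper12.descendsAlong_isAffineHom
  have haff : IsAffineHom π.left :=
    MorphismProperty.of_isPullback_of_descendsAlong (P := @IsAffineHom)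
      (Q := @Surjective ⊓ @Flat ⊓ @LocallyOfFinitePresentation) hsq.flip hQ inferInstance
  have hπsurj : Surjective π.left := by
    have : Surjective ((a'.orbitMap o').left ≫ π.left) := by
      rw [← Over.comp_left, hπ]; exact hsurj
    exact Surjective.of_comp (a'.orbitMap o').left π.left
  constructor
  · intro hXa
    exact isAffine_of_isAffineHom π.left
  · intro hXa'
    exact chev X'.left X.left π.left

end Field

end Groth.Agent.Lib.Seat87.QuotAff
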