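import Groth.Agent.Lib.Seat87GrpLim4
import Groth.Agent.Lib.Helper26LimCover2
import Groth.Agent.Lib.Helper26StalkLim
import Groth.Agent.S9220

/-!
# Closed subgroup schemes over a cofiltered limit descend to a stage (helper87)

* `isMonHom_cmpIso_grp`: the comparison `p^* q^* G ≅ (p ≫ q)^* G` is a homomorphism.
* `exists_closedSubgroup_of_limit`: a finitely presented closed subgroup scheme of the base change
  of a group scheme `G/X` to the limit of a system of `X`-schemes comes from a stage.
* `spread_closedSubgroup`: closed subgroups of the generic fibre spread out.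
-/

set_option autoImplicit false
set_option backward.isDefEq.respectTransparency false
set_option backward.defeqAttrib.useBackward true
universe u

open CategoryTheory CategoryTheory.Limits AlgebraicGeometry MonoidalCategory
  CartesianMonoidalCategory MonObj GrpObj Opposite

namespace Groth.Agent.Lib.Seat87.SubgrpSpread

open Groth.Agent.Lib.Seat87.GrpLim

section General

variable {T S' S : Scheme.{u}} (p : T ⟶ S') (q : S' ⟶ S) (r : T ⟶ S) (h : p ≫ q = r)

/-- the base change of a morphism over `S` is a base change of the underlying morphism -/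
lemma isPullback_map_left {A B : Over S} (g : A ⟶ B) (f : T ⟶ S) :
    IsPullback ((Over.pullback f).map g).left (pullback.fst A.hom f) (pullback.fst B.hom f)
      g.left := by
  refine IsPullback.of_right ?_ (by simp) (IsPullback.of_hasPullback B.hom f).flip
  have h1 : ((Over.pullback f).map g).left ≫ pullback.snd B.hom f = pullback.snd A.hom f :=
    Over.w ((Over.pullback f).map g)
  rw [h1, Over.w g]
  exact (IsPullback.of_hasPullback A.hom f).flip

/-- the comparison isomorphism is a homomorphism of group objects -/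
lemma isMonHom_cmpIso_grp (G : Over S) [GrpObj G] : IsMonHom (cmpIso p q G h).hom := by
  apply isMonHom_of_mul
  rw [← MonObj.mul_eq_mul, Functor.obj.μ_def, Functor.obj.μ_def, Hom.mul_def, Functor.obj.μ_def]
  simp only [Functor.map_comp, Category.assoc]
  rw [cmpIso_naturality]
  simp only [← Category.assoc]
  congr 1
  apply map_tensor_hom_ext (Over.pullback r)
  · simp only [Category.assoc, Functor.Monoidal.μ_fst, lift_fst]
    rw [← cmpIso_naturality, ← Functor.map_comp_assoc, Functor.Monoidal.μ_fst,
      Functor.Monoidal.μ_fst_assoc]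
  · simp only [Category.assoc, Functor.Monoidal.μ_snd, lift_snd]
    rw [← cmpIso_naturality, ← Functor.map_comp_assoc, Functor.Monoidal.μ_snd,
      Functor.Monoidal.μ_snd_assoc]

end General

section Descent

variable {I : Type u} [SmallCategory I] [IsCofiltered I] (D : I ⥤ Scheme.{u}) (c : Cone D)
  (hc : IsLimit c)
  [∀ (i i' : I) (f : i ⟶ i'), IsAffineHom (D.map f)] [∀ i, CompactSpace (D.obj i)]
  [∀ i, QuasiSeparatedSpace (D.obj i)]
  {X : Scheme.{u}} (t : ∀ i, D.obj i ⟶ X) (ht : ∀ {i i' : I} (f : i ⟶ i'), D.map f ≫ t i' = t i)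
  (t' : c.pt ⟶ X) (ht' : ∀ i, c.π.app i ≫ t i = t')
  (G : Over X) [GrpObj G] [QuasiCompact G.hom] [QuasiSeparated G.hom]
  [LocallyOfFinitePresentation G.hom]
  (Hη : Over c.pt) [GrpObj Hη] (i : Hη ⟶ Red.bc t' G) [IsMonHom i] [IsClosedImmersion i.left]
  [LocallyOfFinitePresentation i.left]

include hc ht ht' in
/-- A finitely presented closed subgroup scheme of the base change of `G/X` to the limit of a
cofiltered system of quasi-compact quasi-separated `X`-schemes with affine transition maps comes
from a closed subgroup scheme over a stage. -/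
theorem exists_closedSubgroup_of_limit :
    ∃ (k : I) (H : Over (D.obj k)) (_ : GrpObj H) (j : H ⟶ Red.bc (t k) G)
      (φ : Hη.left ⟶ H.left),
      IsMonHom j ∧ IsClosedImmersion j.left ∧ IsPullback φ Hη.hom H.hom (c.π.app k) ∧
      φ ≫ j.left ≫ pullback.fst G.hom (t k) = i.left ≫ pullback.fst G.hom t' := by
  obtain ⟨j₀⟩ := IsCofiltered.nonempty (C := I)
  -- the base group
  let G₀ : Over (D.obj j₀) := Red.bc (t j₀) G
  have hG₀1 : QuasiCompact G₀.hom := by
    change QuasiCompact (pullback.snd G.hom (t j₀)); infer_instance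
  have hG₀2 : QuasiSeparated G₀.hom := by
    change QuasiSeparated (pullback.snd G.hom (t j₀)); infer_instance
  have hG₀3 : LocallyOfFinitePresentation G₀.hom := by
    change LocallyOfFinitePresentation (pullback.snd G.hom (t j₀)); infer_instance
  let E₀ := cmpIso (c.π.app j₀) (t j₀) G (ht' j₀)
  have hE₀ : IsMonHom E₀.hom := isMonHom_cmpIso_grp _ _ _ _ G
  let i₀ : Hη ⟶ Red.bc (c.π.app j₀) G₀ := i ≫ E₀.inv
  have hi₀ : IsMonHom i₀ := inferInstance
  have hE₀iso : IsIso E₀.inv.left := (Over.forget _).map_isIso E₀.inv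
  have hi₀c : IsClosedImmersion i₀.left := by
    rw [Over.comp_left]; infer_instance
  have hi₀p : LocallyOfFinitePresentation i₀.left := by
    rw [Over.comp_left]; infer_instance
  -- Step 1: a model of the closed immersion
  obtain ⟨k, Hk, fk, g, m1, m2, m3, m4, pb⟩ :=
    Groth.Agent.Lib.Helper26.LimFP.exists_model_of_qcqsDescent
      (D := pbDiagram D j₀ G₀) (c := pbCone D c j₀ G₀)
      Groth.Agent.S9220.qcqsDescent_isClosedImmersion (isLimitPbCone D c j₀ G₀ hc) i₀.left hi₀c
  have pb' : IsPullback g i₀.left fk (pbProj D c j₀ G₀ k) := pb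
  have m4' : IsClosedImmersion fk := m4
  -- Step 2: the subgroup at the stage `k`
  let G' : Over (D.obj k.left) := Red.bc (D.map k.hom) G₀
  have hG'1 : QuasiCompact G'.hom := by
    change QuasiCompact (pullback.snd G₀.hom (D.map k.hom)); infer_instance
  have hG'2 : QuasiSeparated G'.hom := by
    change QuasiSeparated (pullback.snd G₀.hom (D.map k.hom)); infer_instance
  have hG'3 : LocallyOfFiniteType G'.hom := by
    change LocallyOfFiniteType (pullback.snd G₀.hom (D.map k.hom)); infer_instance
  let H' : Over (D.obj k.left) := Over.mk (fk ≫ G'.hom)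
  let ι' : H' ⟶ G' := Over.homMk fk rfl
  have hH'1 : QuasiCompact H'.hom := by
    change QuasiCompact (fk ≫ G'.hom); infer_instance
  have hH'2 : QuasiSeparated H'.hom := by
    change QuasiSeparated (fk ≫ G'.hom); infer_instance
  have hH'3 : LocallyOfFinitePresentation H'.hom := by
    have := m1
    change LocallyOfFinitePresentation (fk ≫ pullback.snd G₀.hom (D.map k.hom)); infer_instance
  have hι' : Mono ι' := by
    have : Mono ι'.left := (inferInstance : Mono fk)
    exact Over.mono_of_mono_left ι'
  have pb2 : IsPullback g Hη.hom H'.hom (c.π.app k.left) := by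
    have := pb'.paste_vert (isPullback_pbProj D c j₀ G₀ k)
    have h1 : i₀.left ≫ pullback.snd G₀.hom (c.π.app j₀) = Hη.hom := Over.w i₀
    rwa [h1] at this
  let ε : Hη ≅ Red.bc (c.π.app k.left) H' :=
    Over.isoMk pb2.isoPullback (pb2.isoPullback_hom_snd)
  let inst : GrpObj (Red.bc (c.π.app k.left) H') := GrpObj.ofIso ε
  have hε : IsMonHom ε.hom := isMonHom_ofIso ε
  have hC : IsMonHom (cmpIso (c.π.app k.left) (D.map k.hom) G₀ (c.w k.hom)).hom :=
    isMonHom_cmpIso_grp _ _ _ _ G₀
  have key : (Over.pullback (c.π.app k.left)).map ι' =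
      ε.inv ≫ i₀ ≫ (cmpIso (c.π.app k.left) (D.map k.hom) G₀ (c.w k.hom)).inv := by
    rw [← Category.assoc, Iso.eq_comp_inv, Iso.eq_inv_comp]
    apply bc_hom_ext
    simp only [Over.comp_left, Category.assoc]
    rw [cmpIso_hom_left_fst]
    have h1 : ((Over.pullback (c.π.app k.left)).map ι').left ≫
        pullback.fst (pullback.snd G₀.hom (D.map k.hom)) (c.π.app k.left) =
          pullback.fst H'.hom (c.π.app k.left) ≫ fk := by
      simp [ι', G']
    have h2 : ε.hom.left ≫ pullback.fst H'.hom (c.π.app k.left) = g := pb2.isoPullback_hom_fst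
    rw [reassoc_of% h1, reassoc_of% h2, ← pbProj_fst D c j₀ G₀ k, ← Category.assoc,
      ← Category.assoc, pb'.w]
  have hmon : IsMonHom ((Over.pullback (c.π.app k.left)).map ι') := by
    rw [key]; infer_instance
  -- Step 3: descend the subgroup structure
  obtain ⟨k', inst', hmon'⟩ := exists_subgroup_of_limit D c hc k.left ι' ⟨inst, hmon⟩
  -- Step 4: the output
  have hr : (D.map k'.hom ≫ D.map k.hom) ≫ t j₀ = t k'.left := by
    rw [Category.assoc, ht, ht]
  let C₁ := cmpIso (D.map k'.hom) (D.map k.hom) G₀ rfl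
  let C₂ := cmpIso (D.map k'.hom ≫ D.map k.hom) (t j₀) G hr
  have hC₁ : IsMonHom C₁.hom := isMonHom_cmpIso_grp _ _ _ _ G₀
  have hC₂ : IsMonHom C₂.hom := isMonHom_cmpIso_grp _ _ _ _ G
  have hC₁iso : IsIso C₁.hom.left := (Over.forget _).map_isIso C₁.hom
  have hC₂iso : IsIso C₂.hom.left := (Over.forget _).map_isIso C₂.hom
  let j : Red.bc (D.map k'.hom) H' ⟶ Red.bc (t k'.left) G :=
    (Over.pullback (D.map k'.hom)).map ι' ≫ C₁.hom ≫ C₂.hom
  have hcond : g ≫ H'.hom = (Hη.hom ≫ c.π.app k'.left) ≫ D.map k'.hom := by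
    rw [Category.assoc, c.w k'.hom]; exact pb2.w
  refine ⟨k'.left, Red.bc (D.map k'.hom) H', inst', j,
    pullback.lift g (Hη.hom ≫ c.π.app k'.left) hcond, ?_, ?_, ?_, ?_⟩
  · infer_instance
  · have h1 : IsClosedImmersion ((Over.pullback (D.map k'.hom)).map ι').left :=
      MorphismProperty.of_isPullback (P := @IsClosedImmersion)
        (isPullback_map_left ι' (D.map k'.hom)).flip m4'
    change IsClosedImmersion (((Over.pullback (D.map k'.hom)).map ι').left ≫
      C₁.hom.left ≫ C₂.hom.left)
    infer_instance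
  · refine IsPullback.of_right ?_ (pullback.lift_snd _ _ _)
      (IsPullback.of_hasPullback H'.hom (D.map k'.hom))
    rw [pullback.lift_fst, c.w k'.hom]
    exact pb2
  · have h1 : ((Over.pullback (D.map k'.hom)).map ι').left ≫
        pullback.fst (pullback.snd G₀.hom (D.map k.hom)) (D.map k'.hom) =
          pullback.fst H'.hom (D.map k'.hom) ≫ fk := by
      simp [ι', G']
    have h2 : E₀.inv.left ≫ pullback.fst (pullback.snd G.hom (t j₀)) (c.π.app j₀) ≫
        pullback.fst G.hom (t j₀) = pullback.fst G.hom t' := by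
      rw [← cmpIso_hom_left_fst (c.π.app j₀) (t j₀) G (ht' j₀), ← Over.comp_left_assoc,
        Iso.inv_hom_id]
      simp
    change pullback.lift g (Hη.hom ≫ c.π.app k'.left) hcond ≫
      (((Over.pullback (D.map k'.hom)).map ι').left ≫ C₁.hom.left ≫ C₂.hom.left) ≫
        pullback.fst G.hom (t k'.left) = _
    simp only [Category.assoc]
    have h3 := cmpIso_hom_left_fst (D.map k'.hom ≫ D.map k.hom) (t j₀) G hr
    have h4 := cmpIso_hom_left_fst (D.map k'.hom) (D.map k.hom) G₀ rfl
    rw [h3]
    change _ ≫ _ ≫ C₁.hom.left ≫ pullback.fst G₀.hom (D.map k'.hom ≫ D.map k.hom) ≫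
      pullback.fst G.hom (t j₀) = _
    rw [reassoc_of% h4, reassoc_of% h1, pullback.lift_fst_assoc, ← Category.assoc g fk, pb'.w,
      Category.assoc, pbProj_fst_assoc]
    change (i.left ≫ E₀.inv.left) ≫ _ = _
    rw [Category.assoc]
    exact congrArg (fun z => i.left ≫ z) h2

end Descent

section BaseChangeSubgroup

variable {T' T X : Scheme.{u}} (p : T' ⟶ T) (q : T ⟶ X) (r : T' ⟶ X) (h : p ≫ q = r)
  (G : Over X) [GrpObj G] {H : Over T} [GrpObj H] (j : H ⟶ Red.bc q G)

omit [GrpObj G] [GrpObj H] in
/-- base change of a subgroup of `q^* G` along `p` as a subgroup of `(p ≫ q)^* G` -/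
noncomputable def bcSub : Red.bc p H ⟶ Red.bc r G :=
  (Over.pullback p).map j ≫ (cmpIso p q G h).hom

instance [IsMonHom j] : IsMonHom (bcSub p q r h G j) := by
  have := isMonHom_cmpIso_grp p q r h G
  unfold bcSub
  infer_instance

omit [GrpObj G] [GrpObj H] in
lemma bcSub_left_fst :
    (bcSub p q r h G j).left ≫ pullback.fst G.hom r =
      pullback.fst H.hom p ≫ j.left ≫ pullback.fst G.hom q := by
  simp only [bcSub, Over.comp_left, Category.assoc]
  rw [cmpIso_hom_left_fst]
  simp

instance [IsClosedImmersion j.left] : IsClosedImmersion (bcSub p q r h G j).left := by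
  have h1 : IsClosedImmersion ((Over.pullback p).map j).left :=
    MorphismProperty.of_isPullback (P := @IsClosedImmersion)
      (isPullback_map_left j p).flip inferInstance
  have h2 : IsIso (cmpIso p q G h).hom.left := (Over.forget _).map_isIso (cmpIso p q G h).hom
  change IsClosedImmersion (((Over.pullback p).map j).left ≫ (cmpIso p q G h).hom.left)
  infer_instance

end BaseChangeSubgroup

section Spread

open Groth.Agent.Lib.Helper26.StalkLim

/-- Closed subgroups of the generic fibre spread out. -/
theorem spread_closedSubgroup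
    (X : Scheme.{u}) [IsIntegral X] (G : Over X) [GrpObj G]
    [IsAffineHom G.hom] [LocallyOfFinitePresentation G.hom]
    (Hη : Over (Spec X.functionField)) [GrpObj Hη]
    (i : Hη ⟶ Red.bc (X.fromSpecStalk (genericPoint X)) G) [IsMonHom i]
    [IsClosedImmersion i.left] :
    ∃ (U : X.Opens) (ηU : Spec X.functionField ⟶ (U : Scheme.{u})) (HU : Over (U : Scheme.{u}))
      (_ : GrpObj HU) (j : HU ⟶ Red.bc U.ι G) (φ : Hη.left ⟶ HU.left),
      ηU ≫ U.ι = X.fromSpecStalk (genericPoint X) ∧ IsMonHom j ∧ IsClosedImmersion j.left ∧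
      IsPullback φ Hη.hom HU.hom ηU ∧
      φ ≫ j.left ≫ pullback.fst G.hom U.ι =
        i.left ≫ pullback.fst G.hom (X.fromSpecStalk (genericPoint X)) := by
  set x := genericPoint X with hx
  have hN : IsLocallyNoetherian (Spec X.functionField) := inferInstance
  have hN' : IsLocallyNoetherian (pullback G.hom (X.fromSpecStalk x)) := inferInstance
  have hlfp : LocallyOfFinitePresentation i.left := by
    have : IsLocallyNoetherian (Red.bc (X.fromSpecStalk x) G).left := hN'
    infer_instance
  obtain ⟨k, H, instH, j, φ, hj1, hj2, hpb, heq⟩ :=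
    exists_closedSubgroup_of_limit (specDiagram x) (specCone x) (specIsLimit x) (toX x)
      (fun f => map_toX x f) (X.fromSpecStalk x) (π_toX x) G Hη i
  let a := k.unop
  let e := a.isAffine.isoSpec
  have hp : e.hom ≫ toX x k = a.U.ι := a.isAffine.isoSpec_hom_fromSpec
  let ηU : Spec X.functionField ⟶ (a.U : Scheme.{u}) := (specCone x).π.app k ≫ e.inv
  have hηU : ηU ≫ e.hom = (specCone x).π.app k := by
    simp [ηU]
  have hcond : φ ≫ H.hom = (Hη.hom ≫ ηU) ≫ e.hom := by
    rw [Category.assoc, hηU]; exact hpb.w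
  refine ⟨a.U, ηU, Red.bc e.hom H, inferInstance, bcSub e.hom (toX x k) a.U.ι hp G j,
    pullback.lift φ (Hη.hom ≫ ηU) hcond, ?_, inferInstance, inferInstance, ?_, ?_⟩
  · rw [← hp, ← Category.assoc, hηU]
    exact π_toX x k
  · refine IsPullback.of_right ?_ (pullback.lift_snd _ _ _)
      (IsPullback.of_hasPullback H.hom e.hom)
    rw [pullback.lift_fst, hηU]
    exact hpb
  · rw [bcSub_left_fst, pullback.lift_fst_assoc]
    exact heq

end Spread

end Groth.Agent.Lib.Seat87.SubgrpSpread
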