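import Groth.Agent.Lib.Seat87TorsorLim
import Groth.Agent.Lib.Seat87SubgrpSpread
import Groth.Agent.Lib.Helper26LimFP5
import Groth.Agent.Lib.Helper26LimDescend
import Groth.Agent.Lib.Seat24FppfSrc
import Groth.Agent.S0114
import Groth.Agent.S2581

/-!
# Effective quotients over a cofiltered limit (helper87)

`S = lim S_i` (quasi-compact quasi-separated, affine transition maps).  For a finitely presented
"equivalence relation" `s, t : R ⇉ X` over a stage, a flat surjective finitely presented quotient
`X_S ⟶ Y` with `R_S = X_S ×_Y X_S` exists over `S` iff one exists over some stage.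
-/

set_option autoImplicit false
set_option backward.isDefEq.respectTransparency false
set_option backward.defeqAttrib.useBackward true
universe u

open CategoryTheory CategoryTheory.Limits AlgebraicGeometry MonoidalCategory
  CartesianMonoidalCategory MonObj GrpObj Opposite

namespace Groth.Agent.Lib.Seat87.QuotLim

open Groth.Agent.Lib.Seat87.GrpLim Groth.Agent.Lib.Seat87.TorsorLim
  Groth.Agent.Lib.Seat87.SubgrpSpread

section Transport

variable {C : Type*} [Category C]

/-- transport of a kernel-pair square along isomorphisms -/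
lemma isPullback_kp_transport {R X Y R' X' Y' : C} {s t : R ⟶ X} {p : X ⟶ Y} {s' t' : R' ⟶ X'}
    {p' : X' ⟶ Y'} (α : R' ≅ R) (β : X' ≅ X) (e₃ : Y' ≅ Y) (hs : s' ≫ β.hom = α.hom ≫ s)
    (ht : t' ≫ β.hom = α.hom ≫ t) (hp : p' ≫ e₃.hom = β.hom ≫ p) (h : IsPullback s t p p) :
    IsPullback s' t' p' p' := by
  refine IsPullback.of_iso h α.symm β.symm β.symm e₃.symm ?_ ?_ ?_ ?_
  · rw [Iso.symm_hom, Iso.symm_hom, Iso.comp_inv_eq, Category.assoc, hs, Iso.inv_hom_id_assoc]
  · rw [Iso.symm_hom, Iso.symm_hom, Iso.comp_inv_eq, Category.assoc, ht, Iso.inv_hom_id_assoc]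
  · rw [Iso.symm_hom, Iso.symm_hom, Iso.comp_inv_eq, Category.assoc, hp, Iso.inv_hom_id_assoc]
  · rw [Iso.symm_hom, Iso.symm_hom, Iso.comp_inv_eq, Category.assoc, hp, Iso.inv_hom_id_assoc]

end Transport

section Props

variable {S T T' : Scheme.{u}} (q : T ⟶ S) (r : T' ⟶ T) (q' : T' ⟶ S) (hq : r ≫ q = q')

/-- `bcMap z` is conjugate to the base change of `z` -/
lemma bcMap_eq_conj {X Y : Over S} (z : Red.bc q X ⟶ Red.bc q Y) :
    bcMap q r q' hq z =
      (cmpIso r q X hq).inv ≫ (Over.pullback r).map z ≫ (cmpIso r q Y hq).hom := by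
  rw [map_cmpIso, Iso.inv_hom_id_assoc]

/-- a base-change-stable property of `z.left` passes to `(bcMap z).left` -/
lemma prop_bcMap_left (P : MorphismProperty Scheme.{u}) [P.IsStableUnderBaseChange]
    [P.RespectsIso] {X Y : Over S} (z : Red.bc q X ⟶ Red.bc q Y) (h : P z.left) :
    P (bcMap q r q' hq z).left := by
  rw [bcMap_eq_conj]
  have h1 : P ((Over.pullback r).map z).left :=
    MorphismProperty.of_isPullback (isPullback_map_left z r).flip h
  have h2 : IsIso (cmpIso r q X hq).inv.left := (Over.forget _).map_isIso (cmpIso r q X hq).inv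
  have h3 : IsIso (cmpIso r q Y hq).hom.left := (Over.forget _).map_isIso (cmpIso r q Y hq).hom
  change P ((cmpIso r q X hq).inv.left ≫ ((Over.pullback r).map z).left ≫
    (cmpIso r q Y hq).hom.left)
  rw [P.cancel_left_of_respectsIso, P.cancel_right_of_respectsIso]
  exact h1

/-- converse direction, up to the comparison isomorphisms -/
lemma prop_map_of_bcMap (P : MorphismProperty Scheme.{u}) [P.RespectsIso] {X Y : Over S}
    (z : Red.bc q X ⟶ Red.bc q Y) (h : P (bcMap q r q' hq z).left) :
    P ((Over.pullback r).map z).left := by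
  rw [bcMap_eq_conj] at h
  have h2 : IsIso (cmpIso r q X hq).inv.left := (Over.forget _).map_isIso (cmpIso r q X hq).inv
  have h3 : IsIso (cmpIso r q Y hq).hom.left := (Over.forget _).map_isIso (cmpIso r q Y hq).hom
  change P ((cmpIso r q X hq).inv.left ≫ ((Over.pullback r).map z).left ≫
    (cmpIso r q Y hq).hom.left) at h
  rwa [P.cancel_left_of_respectsIso, P.cancel_right_of_respectsIso] at h

lemma prop_bcMap_of_map (P : MorphismProperty Scheme.{u}) [P.RespectsIso] {X Y : Over S}
    (z : Red.bc q X ⟶ Red.bc q Y) (h : P ((Over.pullback r).map z).left) :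
    P (bcMap q r q' hq z).left := by
  rw [bcMap_eq_conj]
  have h2 : IsIso (cmpIso r q X hq).inv.left := (Over.forget _).map_isIso (cmpIso r q X hq).inv
  have h3 : IsIso (cmpIso r q Y hq).hom.left := (Over.forget _).map_isIso (cmpIso r q Y hq).hom
  change P ((cmpIso r q X hq).inv.left ≫ ((Over.pullback r).map z).left ≫
    (cmpIso r q Y hq).hom.left)
  rwa [P.cancel_left_of_respectsIso, P.cancel_right_of_respectsIso]

/-- conversion from an abstract base change given by pullback squares -/
lemma prop_of_abstract (P : MorphismProperty Scheme.{u}) [P.IsStableUnderBaseChange]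
    {A B : Over S} (z : A ⟶ B) {Xi Yi : Scheme.{u}} (fi : Xi ⟶ Yi) (gi : Yi ⟶ T)
    (pY : Yi ⟶ B.left) (pX : Xi ⟶ A.left) (hpY : IsPullback pY gi B.hom q)
    (hpX : IsPullback pX fi z.left pY) (h : P fi) : P ((Over.pullback q).map z).left :=
  Groth.Agent.Lib.Helper26.LimDescend.of_two_pullbacks P (isPullback_map_left z q).flip hpX
    (hpY.lift (pullback.fst B.hom q) (pullback.snd B.hom q) pullback.condition)
    (hpY.lift_fst _ _ _) h

/-- a property stable under base change and composition passes to the kernel pair object -/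
lemma prop_kernelPair (P : MorphismProperty Scheme.{u}) [P.IsStableUnderBaseChange]
    [P.IsStableUnderComposition] {G H : Over S} (uj : H ⟶ G) (h1 : P uj.left) (h2 : P H.hom) :
    P (pullback uj uj).hom := by
  have sq := (Over.forget S).map_isPullback (IsPullback.of_hasPullback uj uj)
  have h3 : P (pullback.fst uj uj).left :=
    MorphismProperty.of_isPullback (P := P) sq.flip h1
  rw [← Over.w (pullback.fst uj uj)]
  exact P.comp_mem _ _ h3 h2

lemma left_props {G H : Over S} (uj : H ⟶ G) [QuasiCompact H.hom] [QuasiSeparated H.hom]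
    [LocallyOfFiniteType H.hom] [QuasiSeparated G.hom] :
    QuasiCompact uj.left ∧ QuasiSeparated uj.left ∧ LocallyOfFiniteType uj.left := by
  have h1 : QuasiCompact (uj.left ≫ G.hom) := by rw [Over.w uj]; infer_instance
  have h2 : QuasiSeparated (uj.left ≫ G.hom) := by rw [Over.w uj]; infer_instance
  have h3 : LocallyOfFiniteType (uj.left ≫ G.hom) := by rw [Over.w uj]; infer_instance
  exact ⟨QuasiCompact.of_comp uj.left G.hom, QuasiSeparated.of_comp uj.left G.hom,
    locallyOfFiniteType_of_comp uj.left G.hom⟩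

end Props

section Core

variable {I : Type u} [SmallCategory I] (D : I ⥤ Scheme.{u}) (c : Cone D)
  [IsCofiltered I] [∀ (i i' : I) (f : i ⟶ i'), IsAffineHom (D.map f)]
  [∀ i, CompactSpace (D.obj i)] [∀ i, QuasiSeparatedSpace (D.obj i)]
  (hc : IsLimit c) (j : I)
  {X R Y : Over (D.obj j)}
  [QuasiCompact X.hom] [QuasiSeparated X.hom] [LocallyOfFinitePresentation X.hom]
  [QuasiCompact R.hom] [QuasiSeparated R.hom] [LocallyOfFinitePresentation R.hom]
  [QuasiCompact Y.hom] [QuasiSeparated Y.hom] [LocallyOfFinitePresentation Y.hom]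
  (s t : R ⟶ X)

omit [IsCofiltered I] [∀ (i i' : I) (f : i ⟶ i'), IsAffineHom (D.map f)]
  [∀ i, CompactSpace (D.obj i)] [∀ i, QuasiSeparatedSpace (D.obj i)] in
lemma toLim_comp_stage {W Z : Over (D.obj j)} (k : Over j) (k' : Over k.left)
    (z : Red.bc (D.map k.hom) W ⟶ Red.bc (D.map k.hom) Z) :
    toLim D c j (Over.mk (k'.hom ≫ k.hom))
      (bcMap (D.map k.hom) (D.map k'.hom) (D.map (k'.hom ≫ k.hom)) (D.map_comp _ _).symm z) =
        toLim D c j k z := by
  unfold toLim
  change bcMap (D.map (k'.hom ≫ k.hom)) (c.π.app k'.left) (c.π.app j)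
    (c.w (k'.hom ≫ k.hom)) _ = _
  rw [bcMap_bcMap]
  exact bcMap_congr _ _ _ (c.w k'.hom) z

omit [QuasiSeparated R.hom] [QuasiCompact Y.hom] in
include hc in
/-- Step 1: the quotient map and its kernel pair square descend to a stage. -/
theorem exists_kp_of_limit (p : Red.bc (c.π.app j) X ⟶ Red.bc (c.π.app j) Y)
    (hpb : IsPullback ((Over.pullback (c.π.app j)).map s) ((Over.pullback (c.π.app j)).map t)
      p p) :
    ∃ (k : Over j) (pk : Red.bc (D.map k.hom) X ⟶ Red.bc (D.map k.hom) Y),
      toLim D c j k pk = p ∧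
      IsPullback ((Over.pullback (D.map k.hom)).map s) ((Over.pullback (D.map k.hom)).map t)
        pk pk := by
  obtain ⟨k₀, pk₀, hpk₀⟩ := exists_toLim_eq D c j hc X Y p
  have e0 : toLim D c j k₀ ((Over.pullback (D.map k₀.hom)).map s ≫ pk₀) =
      toLim D c j k₀ ((Over.pullback (D.map k₀.hom)).map t ≫ pk₀) := by
    unfold toLim at hpk₀ ⊢
    rw [bcMap_comp, bcMap_comp, bcMap_map, bcMap_map, hpk₀]
    exact hpb.w
  obtain ⟨k, τ, hτ⟩ := exists_toStage_eq D c j hc R Y k₀ _ _ e0
  obtain ⟨pk, hpk⟩ : ∃ pk, pk = toStage D j τ pk₀ := ⟨_, rfl⟩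
  have hpkL : toLim D c j k pk = p := by rw [hpk, toLim_toStage_map, hpk₀]
  have Ek : (Over.pullback (D.map k.hom)).map s ≫ pk =
      (Over.pullback (D.map k.hom)).map t ≫ pk := by
    unfold toStage at hτ hpk
    rw [bcMap_comp, bcMap_comp, bcMap_map, bcMap_map, ← hpk] at hτ
    exact hτ
  -- objects at the stage `k`
  have iX1 : QuasiCompact (Red.bc (D.map k.hom) X).hom := by
    change QuasiCompact (pullback.snd X.hom (D.map k.hom)); infer_instance
  have iX2 : QuasiSeparated (Red.bc (D.map k.hom) X).hom := by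
    change QuasiSeparated (pullback.snd X.hom (D.map k.hom)); infer_instance
  have iX3 : LocallyOfFiniteType (Red.bc (D.map k.hom) X).hom := by
    change LocallyOfFiniteType (pullback.snd X.hom (D.map k.hom)); infer_instance
  have iY2 : QuasiSeparated (Red.bc (D.map k.hom) Y).hom := by
    change QuasiSeparated (pullback.snd Y.hom (D.map k.hom)); infer_instance
  have iR1 : QuasiCompact (Red.bc (D.map k.hom) R).hom := by
    change QuasiCompact (pullback.snd R.hom (D.map k.hom)); infer_instance
  have iR3 : LocallyOfFinitePresentation (Red.bc (D.map k.hom) R).hom := by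
    change LocallyOfFinitePresentation (pullback.snd R.hom (D.map k.hom)); infer_instance
  obtain ⟨b1, b2, b3⟩ := left_props pk
  have hB1 : QuasiCompact (pullback pk pk).hom := prop_kernelPair @QuasiCompact pk b1 iX1
  have hB2 : QuasiSeparated (pullback pk pk).hom := prop_kernelPair @QuasiSeparated pk b2 iX2
  have hB3 : LocallyOfFiniteType (pullback pk pk).hom :=
    prop_kernelPair @LocallyOfFiniteType pk b3 iX3
  let φ : Red.bc (D.map k.hom) R ⟶ pullback pk pk := pullback.lift _ _ Ek
  -- `φ` is an isomorphism over the limit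
  have Sq1 := (Over.pullback (c.π.app k.left)).map_isPullback (IsPullback.of_hasPullback pk pk)
  have Sq2 : IsPullback
      ((Over.pullback (c.π.app k.left)).map ((Over.pullback (D.map k.hom)).map s))
      ((Over.pullback (c.π.app k.left)).map ((Over.pullback (D.map k.hom)).map t))
      ((Over.pullback (c.π.app k.left)).map pk) ((Over.pullback (c.π.app k.left)).map pk) :=
    isPullback_kp_transport (cmpIso (c.π.app k.left) (D.map k.hom) R (c.w k.hom))
      (cmpIso (c.π.app k.left) (D.map k.hom) X (c.w k.hom))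
      (cmpIso (c.π.app k.left) (D.map k.hom) Y (c.w k.hom))
      (cmpIso_naturality _ _ _ _ s) (cmpIso_naturality _ _ _ _ t)
      (by rw [map_cmpIso]; congr 1) hpb
  have hφ : (Over.pullback (c.π.app k.left)).map φ = (Sq2.isoIsPullback _ _ Sq1).hom := by
    apply Sq1.hom_ext
    · rw [IsPullback.isoIsPullback_hom_fst, ← Functor.map_comp, pullback.lift_fst]
    · rw [IsPullback.isoIsPullback_hom_snd, ← Functor.map_comp, pullback.lift_snd]
  have hiso : IsIso ((Over.pullback (c.π.app k.left)).map φ) := by rw [hφ]; infer_instance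
  obtain ⟨k', hk'⟩ := exists_isIso_of_limit D c hc k.left φ hiso
  -- the output stage
  have hK : D.map k'.hom ≫ D.map k.hom = D.map (k'.hom ≫ k.hom) := (D.map_comp _ _).symm
  refine ⟨Over.mk (k'.hom ≫ k.hom),
    bcMap (D.map k.hom) (D.map k'.hom) (D.map (k'.hom ≫ k.hom)) hK pk, ?_, ?_⟩
  · rw [toLim_comp_stage, hpkL]
  · have Sq1' := (Over.pullback (D.map k'.hom)).map_isPullback (IsPullback.of_hasPullback pk pk)
    have Sq2' : IsPullback
        ((Over.pullback (D.map k'.hom)).map ((Over.pullback (D.map k.hom)).map s))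
        ((Over.pullback (D.map k'.hom)).map ((Over.pullback (D.map k.hom)).map t))
        ((Over.pullback (D.map k'.hom)).map pk) ((Over.pullback (D.map k'.hom)).map pk) := by
      refine IsPullback.of_iso Sq1' (asIso ((Over.pullback (D.map k'.hom)).map φ)).symm
        (Iso.refl _) (Iso.refl _) (Iso.refl _) ?_ ?_ (by simp) (by simp)
      · rw [Iso.refl_hom, Category.comp_id, Iso.symm_hom, asIso_inv, IsIso.eq_inv_comp,
          ← Functor.map_comp, pullback.lift_fst]
      · rw [Iso.refl_hom, Category.comp_id, Iso.symm_hom, asIso_inv, IsIso.eq_inv_comp,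
          ← Functor.map_comp, pullback.lift_snd]
    refine isPullback_kp_transport (cmpIso (D.map k'.hom) (D.map k.hom) R hK).symm
      (cmpIso (D.map k'.hom) (D.map k.hom) X hK).symm
      (cmpIso (D.map k'.hom) (D.map k.hom) Y hK).symm ?_ ?_ ?_ Sq2'
    · rw [Iso.symm_hom, Iso.symm_hom, Iso.comp_inv_eq, Category.assoc, cmpIso_naturality,
        Iso.inv_hom_id_assoc]
      rfl
    · rw [Iso.symm_hom, Iso.symm_hom, Iso.comp_inv_eq, Category.assoc, cmpIso_naturality,
        Iso.inv_hom_id_assoc]
      rfl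
    · rw [Iso.symm_hom, Iso.symm_hom, bcMap_eq_conj]
      simp

omit [IsCofiltered I] [∀ (i i' : I) (f : i ⟶ i'), IsAffineHom (D.map f)]
  [∀ i, CompactSpace (D.obj i)] [∀ i, QuasiSeparatedSpace (D.obj i)]
  [QuasiCompact X.hom] [QuasiSeparated X.hom] [LocallyOfFinitePresentation X.hom]
  [QuasiCompact R.hom] [QuasiSeparated R.hom] [LocallyOfFinitePresentation R.hom]
  [QuasiCompact Y.hom] [QuasiSeparated Y.hom] [LocallyOfFinitePresentation Y.hom] in
/-- the kernel pair square persists at later stages -/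
lemma kp_stage_transfer (k : Over j) (pk : Red.bc (D.map k.hom) X ⟶ Red.bc (D.map k.hom) Y)
    (h : IsPullback ((Over.pullback (D.map k.hom)).map s) ((Over.pullback (D.map k.hom)).map t)
      pk pk) (k' : Over k.left) :
    IsPullback ((Over.pullback (D.map (Over.mk (k'.hom ≫ k.hom)).hom)).map s)
      ((Over.pullback (D.map (Over.mk (k'.hom ≫ k.hom)).hom)).map t)
      (bcMap (D.map k.hom) (D.map k'.hom) (D.map (k'.hom ≫ k.hom)) (D.map_comp _ _).symm pk)
      (bcMap (D.map k.hom) (D.map k'.hom) (D.map (k'.hom ≫ k.hom)) (D.map_comp _ _).symm pk) := by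
  have hK : D.map k'.hom ≫ D.map k.hom = D.map (k'.hom ≫ k.hom) := (D.map_comp _ _).symm
  have Sq2' := (Over.pullback (D.map k'.hom)).map_isPullback h
  refine isPullback_kp_transport (cmpIso (D.map k'.hom) (D.map k.hom) R hK).symm
    (cmpIso (D.map k'.hom) (D.map k.hom) X hK).symm
    (cmpIso (D.map k'.hom) (D.map k.hom) Y hK).symm ?_ ?_ ?_ Sq2'
  · rw [Iso.symm_hom, Iso.symm_hom, Iso.comp_inv_eq, Category.assoc, cmpIso_naturality,
      Iso.inv_hom_id_assoc]
    rfl
  · rw [Iso.symm_hom, Iso.symm_hom, Iso.comp_inv_eq, Category.assoc, cmpIso_naturality,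
      Iso.inv_hom_id_assoc]
    rfl
  · rw [Iso.symm_hom, Iso.symm_hom, bcMap_eq_conj]
    simp

omit [QuasiCompact R.hom] [QuasiSeparated R.hom] [LocallyOfFinitePresentation R.hom] in
include hc in
/-- Step 2: flatness and surjectivity of the quotient map descend to a stage. -/
theorem exists_flat_surj_of_limit (k : Over j)
    (pk : Red.bc (D.map k.hom) X ⟶ Red.bc (D.map k.hom) Y)
    (hflat : Flat (toLim D c j k pk).left) (hsurj : Surjective (toLim D c j k pk).left) :
    ∃ k' : Over k.left, Flat ((Over.pullback (D.map k'.hom)).map pk).left ∧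
      Surjective ((Over.pullback (D.map k'.hom)).map pk).left := by
  have iX1 : QuasiCompact (Red.bc (D.map k.hom) X).hom := by
    change QuasiCompact (pullback.snd X.hom (D.map k.hom)); infer_instance
  have iX2 : QuasiSeparated (Red.bc (D.map k.hom) X).hom := by
    change QuasiSeparated (pullback.snd X.hom (D.map k.hom)); infer_instance
  have iX3 : LocallyOfFinitePresentation (Red.bc (D.map k.hom) X).hom := by
    change LocallyOfFinitePresentation (pullback.snd X.hom (D.map k.hom)); infer_instance
  have iY1 : QuasiCompact (Red.bc (D.map k.hom) Y).hom := by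
    change QuasiCompact (pullback.snd Y.hom (D.map k.hom)); infer_instance
  have iY2 : QuasiSeparated (Red.bc (D.map k.hom) Y).hom := by
    change QuasiSeparated (pullback.snd Y.hom (D.map k.hom)); infer_instance
  have iY3 : LocallyOfFinitePresentation (Red.bc (D.map k.hom) Y).hom := by
    change LocallyOfFinitePresentation (pullback.snd Y.hom (D.map k.hom)); infer_instance
  have cX : CompactSpace (Red.bc (D.map k.hom) X).left :=
    QuasiCompact.compactSpace_of_compactSpace (Red.bc (D.map k.hom) X).hom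
  have sX : QuasiSeparatedSpace (Red.bc (D.map k.hom) X).left :=
    quasiSeparatedSpace_of_quasiSeparated (Red.bc (D.map k.hom) X).hom
  have cY : CompactSpace (Red.bc (D.map k.hom) Y).left :=
    QuasiCompact.compactSpace_of_compactSpace (Red.bc (D.map k.hom) Y).hom
  have sY : QuasiSeparatedSpace (Red.bc (D.map k.hom) Y).left :=
    quasiSeparatedSpace_of_quasiSeparated (Red.bc (D.map k.hom) Y).hom
  have hw : pk.left ≫ (Red.bc (D.map k.hom) Y).hom = (Red.bc (D.map k.hom) X).hom := Over.w pk
  have lp : LocallyOfFinitePresentation pk.left :=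
    Groth.Agent.Lib.Helper6.locallyOfFinitePresentation_of_comp
      (g := (Red.bc (D.map k.hom) Y).hom) inferInstance (by rw [hw]; exact iX3)
  have i4 : LocallyOfFinitePresentation (pk.left ≫ (Red.bc (D.map k.hom) Y).hom) := by
    rw [hw]; exact iX3
  have i5 : QuasiCompact (pk.left ≫ (Red.bc (D.map k.hom) Y).hom) := by rw [hw]; exact iX1
  have i6 : QuasiSeparated (pk.left ≫ (Red.bc (D.map k.hom) Y).hom) := by rw [hw]; exact iX2
  have hflat' : Flat ((Over.pullback (c.π.app k.left)).map pk).left :=
    prop_map_of_bcMap _ _ _ _ @Flat pk hflat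
  have hsurj' : Surjective ((Over.pullback (c.π.app k.left)).map pk).left :=
    prop_map_of_bcMap _ _ _ _ @Surjective pk hsurj
  have hY := IsPullback.of_hasPullback (Red.bc (D.map k.hom) Y).hom (c.π.app k.left)
  have hX := (isPullback_map_left pk (c.π.app k.left)).flip
  obtain ⟨i₁, φ₁, Xi, Yi, fi, gi, pY, pX, h1, h2, h3⟩ :=
    Groth.Agent.Lib.Helper26.LimCover.qcqsDescent_flat D c hc k.left pk.left
      (Red.bc (D.map k.hom) Y).hom _ _ _ _ hY hX hflat'
  have F1 : Flat ((Over.pullback (D.map φ₁)).map pk).left :=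
    prop_of_abstract (D.map φ₁) @Flat pk fi gi pY pX h1 h2 h3
  obtain ⟨i₂, φ₂, Xi', Yi', fi', gi', pY', pX', h1', h2', h3'⟩ :=
    Groth.Agent.S2581.result D c hc k.left pk.left
      (Red.bc (D.map k.hom) Y).hom _ _ _ _ hY hX
  have F2 : Surjective ((Over.pullback (D.map φ₂)).map pk).left :=
    prop_of_abstract (D.map φ₂) @Surjective pk fi' gi' pY' pX' h1' h2' h3'
  let k₁ : Over k.left := Over.mk φ₁
  let k₂ : Over k.left := Over.mk φ₂
  refine ⟨IsCofiltered.min k₁ k₂, ?_, ?_⟩
  · have := prop_bcMap_left (D.map k₁.hom) (D.map (IsCofiltered.minToLeft k₁ k₂).left)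
      (D.map (IsCofiltered.min k₁ k₂).hom) (stage_w D k.left _) @Flat
      ((Over.pullback (D.map k₁.hom)).map pk) F1
    rwa [bcMap_map] at this
  · have := prop_bcMap_left (D.map k₂.hom) (D.map (IsCofiltered.minToRight k₁ k₂).left)
      (D.map (IsCofiltered.min k₁ k₂).hom) (stage_w D k.left _) @Surjective
      ((Over.pullback (D.map k₂.hom)).map pk) F2
    rwa [bcMap_map] at this

end Core

end Groth.Agent.Lib.Seat87.QuotLim
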