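import Groth.Agent.Lib.Seat87QuotLim
import Groth.Agent.Lib.Seat24CoverDescent

/-!
# Effective quotients over a cofiltered limit, II (helper87)

* `quasiSeparated_of_fppf_cover_source`: the target `Y` of an fppf cover `f : X' ⟶ Y` whose kernel
  pair is quasi-compact over the base is quasi-separated over the base;
* `exists_stage_quotient`: a flat surjective quotient map over the limit between base changes of
  finitely presented schemes over a stage, together with its kernel pair square, descends;
* `quotient_iff`: the quotient `X/R` is effective over the limit iff it is over some stage;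
* `grp_quotient_iff`: the same for `G/G'`.
-/

set_option autoImplicit false
set_option backward.isDefEq.respectTransparency false
set_option backward.defeqAttrib.useBackward true
universe u

open CategoryTheory CategoryTheory.Limits AlgebraicGeometry MonoidalCategory
  CartesianMonoidalCategory MonObj GrpObj Opposite

namespace Groth.Agent.Lib.Seat87.QuotLim

open Groth.Agent.Lib.Seat87.GrpLim Groth.Agent.Lib.Seat87.TorsorLim
  Groth.Agent.Lib.Seat87.SubgrpSpread

section QS

/-- quasi-separatedness of `g` from an fppf cover `f` of its source whose kernel pair is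
quasi-compact over the base -/
theorem quasiSeparated_of_fppf_cover_source {R X' X Y : Scheme.{u}} {a b : R ⟶ X'} (f : X' ⟶ X)
    (g : X ⟶ Y) (sq : IsPullback a b f f) [Flat f] [LocallyOfFinitePresentation f] [Surjective f]
    [QuasiSeparated (f ≫ g)] [QuasiCompact (a ≫ f ≫ g)] : QuasiSeparated g := by
  have sqd := pullback_map_diagonal_isPullback f f g
  set δ := pullback.map f f (f ≫ g) (f ≫ g) (𝟙 _) (𝟙 _) g (Category.id_comp _).symm
    (Category.id_comp _).symm with hδ
  set T := pullback.map (f ≫ g) (f ≫ g) g g f f (𝟙 _) (Category.comp_id _)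
    (Category.comp_id _) with hT
  have hT' : (@Surjective ⊓ @Flat ⊓ @LocallyOfFinitePresentation : MorphismProperty Scheme.{u}) T :=
    MorphismProperty.pullbackMap (P := @Surjective ⊓ @Flat ⊓ @LocallyOfFinitePresentation)
      ⟨⟨‹_›, ‹_›⟩, ‹_›⟩ ⟨⟨‹_›, ‹_›⟩, ‹_›⟩ rfl rfl
  have hδ1 : δ ≫ pullback.fst (f ≫ g) (f ≫ g) = pullback.fst f f := by
    rw [hδ]
    unfold pullback.map
    rw [pullback.lift_fst, Category.comp_id]
  have h1 : QuasiCompact (δ ≫ (pullback.fst (f ≫ g) (f ≫ g) ≫ f ≫ g)) := by
    rw [← Category.assoc, hδ1, ← sq.isoPullback_inv_fst, Category.assoc]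
    infer_instance
  have h2 : QuasiSeparated (pullback.fst (f ≫ g) (f ≫ g) ≫ f ≫ g) := inferInstance
  have h3 : QuasiCompact δ := QuasiCompact.of_comp δ (pullback.fst (f ≫ g) (f ≫ g) ≫ f ≫ g)
  have h4 : QuasiCompact (pullback.diagonal g) :=
    MorphismProperty.of_isPullback_of_descendsAlong (P := @QuasiCompact)
      (Q := @Surjective ⊓ @Flat ⊓ @LocallyOfFinitePresentation) sqd.flip hT' h3
  exact ⟨h4⟩

end QS

section Conj

variable {S : Scheme.{u}}

lemma prop_iso_comp_left (P : MorphismProperty Scheme.{u}) [P.RespectsIso] {A B A' : Over S}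
    (α : A' ≅ A) (z : A ⟶ B) : P (α.hom ≫ z).left ↔ P z.left := by
  have h2 : IsIso α.hom.left := (Over.forget _).map_isIso α.hom
  change P (α.hom.left ≫ z.left) ↔ _
  rw [P.cancel_left_of_respectsIso]

lemma prop_comp_iso_left (P : MorphismProperty Scheme.{u}) [P.RespectsIso] {A B B' : Over S}
    (β : B ≅ B') (z : A ⟶ B) : P (z ≫ β.hom).left ↔ P z.left := by
  have h3 : IsIso β.hom.left := (Over.forget _).map_isIso β.hom
  change P (z.left ≫ β.hom.left) ↔ _
  rw [P.cancel_right_of_respectsIso]

lemma prop_map_left {T : Scheme.{u}} (P : MorphismProperty Scheme.{u}) [P.IsStableUnderBaseChange]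
    {A B : Over S} (z : A ⟶ B) (q : T ⟶ S) (h : P z.left) :
    P ((Over.pullback q).map z).left :=
  MorphismProperty.of_isPullback (isPullback_map_left z q).flip h

end Conj

section Main

variable {I : Type u} [SmallCategory I] (D : I ⥤ Scheme.{u}) (c : Cone D)
  [IsCofiltered I] [∀ (i i' : I) (f : i ⟶ i'), IsAffineHom (D.map f)]
  [∀ i, CompactSpace (D.obj i)] [∀ i, QuasiSeparatedSpace (D.obj i)]
  (hc : IsLimit c) (j : I)

include hc in
/-- a flat surjective quotient map over the limit with its kernel pair square descends -/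
theorem exists_stage_quotient {X R Y : Over (D.obj j)}
    [QuasiCompact X.hom] [QuasiSeparated X.hom] [LocallyOfFinitePresentation X.hom]
    [QuasiCompact R.hom] [QuasiSeparated R.hom] [LocallyOfFinitePresentation R.hom]
    [QuasiCompact Y.hom] [QuasiSeparated Y.hom] [LocallyOfFinitePresentation Y.hom]
    (s t : R ⟶ X) (p : Red.bc (c.π.app j) X ⟶ Red.bc (c.π.app j) Y)
    (hflat : Flat p.left) (hsurj : Surjective p.left)
    (hpb : IsPullback ((Over.pullback (c.π.app j)).map s) ((Over.pullback (c.π.app j)).map t)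
      p p) :
    ∃ (K : Over j) (pK : Red.bc (D.map K.hom) X ⟶ Red.bc (D.map K.hom) Y),
      Flat pK.left ∧ Surjective pK.left ∧ LocallyOfFinitePresentation pK.left ∧
      IsPullback ((Over.pullback (D.map K.hom)).map s) ((Over.pullback (D.map K.hom)).map t)
        pK pK := by
  obtain ⟨k, pk, hpk, hsq⟩ := exists_kp_of_limit D c hc j s t p hpb
  obtain ⟨k', hF, hS⟩ := exists_flat_surj_of_limit D c hc j k pk (by rw [hpk]; exact hflat)
    (by rw [hpk]; exact hsurj)
  have hK : D.map k'.hom ≫ D.map k.hom = D.map (k'.hom ≫ k.hom) := (D.map_comp _ _).symm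
  refine ⟨Over.mk (k'.hom ≫ k.hom),
    bcMap (D.map k.hom) (D.map k'.hom) (D.map (k'.hom ≫ k.hom)) hK pk,
    prop_bcMap_of_map _ _ _ hK @Flat pk hF, prop_bcMap_of_map _ _ _ hK @Surjective pk hS, ?_,
    kp_stage_transfer D j s t k pk hsq k'⟩
  generalize bcMap (D.map k.hom) (D.map k'.hom) (D.map (k'.hom ≫ k.hom)) hK pk = pK
  have iX3 : LocallyOfFinitePresentation (Red.bc (D.map (k'.hom ≫ k.hom)) X).hom := by
    change LocallyOfFinitePresentation (pullback.snd X.hom (D.map (k'.hom ≫ k.hom)))
    infer_instance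
  have iY3 : LocallyOfFinitePresentation (Red.bc (D.map (k'.hom ≫ k.hom)) Y).hom := by
    change LocallyOfFinitePresentation (pullback.snd Y.hom (D.map (k'.hom ≫ k.hom)))
    infer_instance
  have hw : pK.left ≫ (Red.bc (D.map (k'.hom ≫ k.hom)) Y).hom =
      (Red.bc (D.map (k'.hom ≫ k.hom)) X).hom := Over.w pK
  exact Groth.Agent.Lib.Helper6.locallyOfFinitePresentation_of_comp
    (g := (Red.bc (D.map (k'.hom ≫ k.hom)) Y).hom) inferInstance (by rw [hw]; exact iX3)

include hc in
/-- the quotient is effective over the limit iff it is effective over a stage -/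
theorem quotient_iff (Xj Rj : Over (D.obj j))
    [LocallyOfFinitePresentation Xj.hom] [QuasiCompact Xj.hom] [QuasiSeparated Xj.hom]
    [LocallyOfFinitePresentation Rj.hom] [QuasiCompact Rj.hom] [QuasiSeparated Rj.hom]
    (sj tj : Rj ⟶ Xj) :
    (∃ (Y : Over c.pt) (p : (Red.bc (c.π.app j) Xj) ⟶ Y), Flat p.left ∧ Surjective p.left ∧
      LocallyOfFinitePresentation p.left ∧
      IsPullback ((Over.pullback (c.π.app j)).map sj) ((Over.pullback (c.π.app j)).map tj) p p) ↔
    ∃ (i : I) (f : i ⟶ j), ∃ (Y : Over (D.obj i)) (p : (Red.bc (D.map f) Xj) ⟶ Y),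
      Flat p.left ∧ Surjective p.left ∧ LocallyOfFinitePresentation p.left ∧
      IsPullback ((Over.pullback (D.map f)).map sj) ((Over.pullback (D.map f)).map tj) p p := by
  constructor
  · rintro ⟨Y, p, hflat, hsurj, hlfp, hpb⟩
    -- Step A: `Y` is of finite presentation over the limit
    have hXS1 : LocallyOfFinitePresentation (Red.bc (c.π.app j) Xj).hom := by
      change LocallyOfFinitePresentation (pullback.snd Xj.hom (c.π.app j)); infer_instance
    have hXS2 : QuasiCompact (Red.bc (c.π.app j) Xj).hom := by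
      change QuasiCompact (pullback.snd Xj.hom (c.π.app j)); infer_instance
    have hXS3 : QuasiSeparated (Red.bc (c.π.app j) Xj).hom := by
      change QuasiSeparated (pullback.snd Xj.hom (c.π.app j)); infer_instance
    have hRS2 : QuasiCompact (Red.bc (c.π.app j) Rj).hom := by
      change QuasiCompact (pullback.snd Rj.hom (c.π.app j)); infer_instance
    have hw : p.left ≫ Y.hom = (Red.bc (c.π.app j) Xj).hom := Over.w p
    have i1 : LocallyOfFinitePresentation (p.left ≫ Y.hom) := by rw [hw]; exact hXS1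
    have i2 : QuasiCompact (p.left ≫ Y.hom) := by rw [hw]; exact hXS2
    have i3 : QuasiSeparated (p.left ≫ Y.hom) := by rw [hw]; exact hXS3
    have hY1 : LocallyOfFinitePresentation Y.hom := Groth.Agent.S0114.result p.left Y.hom
    have hY2 : QuasiCompact Y.hom :=
      Groth.Agent.Lib.Seat24.FppfSrc.quasiCompact_of_surjective_comp p.left Y.hom
    have sqL : IsPullback ((Over.pullback (c.π.app j)).map sj).left
        ((Over.pullback (c.π.app j)).map tj).left p.left p.left :=
      (Over.forget c.pt).map_isPullback hpb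
    have i4 : QuasiCompact (((Over.pullback (c.π.app j)).map sj).left ≫ p.left ≫ Y.hom) := by
      rw [hw, Over.w]; exact hRS2
    have hY3 : QuasiSeparated Y.hom := quasiSeparated_of_fppf_cover_source p.left Y.hom sqL
    -- Step B: descend `Y`
    obtain ⟨i, Yi_s, fi, g, h1, h2, h3, pb⟩ := Groth.Agent.Lib.Helper26.LimFP.desc_of_fp hc Y.hom
    obtain ⟨Yi, hYi⟩ : ∃ Yi : Over (D.obj i), Yi = Over.mk fi := ⟨_, rfl⟩
    have hYi1 : LocallyOfFinitePresentation Yi.hom := by rw [hYi]; exact h1
    have hYi2 : QuasiCompact Yi.hom := by rw [hYi]; exact h2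
    have hYi3 : QuasiSeparated Yi.hom := by rw [hYi]; exact h3
    obtain ⟨e₀⟩ : Nonempty (Y ≅ Red.bc (c.π.app i) Yi) := by
      rw [hYi]
      exact ⟨Over.isoMk pb.isoPullback (by simp)⟩
    -- Step C: a common stage
    obtain ⟨k₀, a, b, -⟩ : ∃ (k₀ : I) (a : k₀ ⟶ i) (b : k₀ ⟶ j), True :=
      ⟨IsCofiltered.min i j, IsCofiltered.minToLeft i j, IsCofiltered.minToRight i j, trivial⟩
    have iX1 : QuasiCompact (Red.bc (D.map b) Xj).hom := by
      change QuasiCompact (pullback.snd Xj.hom (D.map b)); infer_instance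
    have iX2 : QuasiSeparated (Red.bc (D.map b) Xj).hom := by
      change QuasiSeparated (pullback.snd Xj.hom (D.map b)); infer_instance
    have iX3 : LocallyOfFinitePresentation (Red.bc (D.map b) Xj).hom := by
      change LocallyOfFinitePresentation (pullback.snd Xj.hom (D.map b)); infer_instance
    have iR1 : QuasiCompact (Red.bc (D.map b) Rj).hom := by
      change QuasiCompact (pullback.snd Rj.hom (D.map b)); infer_instance
    have iR2 : QuasiSeparated (Red.bc (D.map b) Rj).hom := by
      change QuasiSeparated (pullback.snd Rj.hom (D.map b)); infer_instance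
    have iR3 : LocallyOfFinitePresentation (Red.bc (D.map b) Rj).hom := by
      change LocallyOfFinitePresentation (pullback.snd Rj.hom (D.map b)); infer_instance
    have iY1 : QuasiCompact (Red.bc (D.map a) Yi).hom := by
      change QuasiCompact (pullback.snd Yi.hom (D.map a)); infer_instance
    have iY2 : QuasiSeparated (Red.bc (D.map a) Yi).hom := by
      change QuasiSeparated (pullback.snd Yi.hom (D.map a)); infer_instance
    have iY3 : LocallyOfFinitePresentation (Red.bc (D.map a) Yi).hom := by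
      change LocallyOfFinitePresentation (pullback.snd Yi.hom (D.map a)); infer_instance
    let cX := cmpIso (c.π.app k₀) (D.map b) Xj (c.w b)
    let cR := cmpIso (c.π.app k₀) (D.map b) Rj (c.w b)
    let cY := cmpIso (c.π.app k₀) (D.map a) Yi (c.w a)
    let eY : Y ≅ Red.bc (c.π.app k₀) (Red.bc (D.map a) Yi) := e₀ ≪≫ cY.symm
    obtain ⟨pInf, hpInf⟩ : ∃ pInf : Red.bc (c.π.app k₀) (Red.bc (D.map b) Xj) ⟶
        Red.bc (c.π.app k₀) (Red.bc (D.map a) Yi), pInf = cX.hom ≫ p ≫ eY.hom := ⟨_, rfl⟩
    have hpbInf : IsPullback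
        ((Over.pullback (c.π.app k₀)).map ((Over.pullback (D.map b)).map sj))
        ((Over.pullback (c.π.app k₀)).map ((Over.pullback (D.map b)).map tj)) pInf pInf :=
      isPullback_kp_transport cR cX eY.symm
        (cmpIso_naturality _ _ _ _ sj) (cmpIso_naturality _ _ _ _ tj)
        (by rw [hpInf]; simp) hpb
    have hflatInf : Flat pInf.left := by
      rw [hpInf, prop_iso_comp_left @Flat, prop_comp_iso_left @Flat]; exact hflat
    have hsurjInf : Surjective pInf.left := by
      rw [hpInf, prop_iso_comp_left @Surjective, prop_comp_iso_left @Surjective]; exact hsurj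
    -- Step D: descend the quotient map
    obtain ⟨K, pK, hF, hS, hL, hsq⟩ := exists_stage_quotient D c hc k₀
      ((Over.pullback (D.map b)).map sj) ((Over.pullback (D.map b)).map tj) pInf hflatInf hsurjInf
      hpbInf
    have hKb : D.map K.hom ≫ D.map b = D.map (K.hom ≫ b) := (D.map_comp _ _).symm
    let dX := cmpIso (D.map K.hom) (D.map b) Xj hKb
    let dR := cmpIso (D.map K.hom) (D.map b) Rj hKb
    refine ⟨K.left, K.hom ≫ b, Red.bc (D.map K.hom) (Red.bc (D.map a) Yi), dX.inv ≫ pK,
      ?_, ?_, ?_, ?_⟩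
    · exact (prop_iso_comp_left @Flat dX.symm pK).mpr hF
    · exact (prop_iso_comp_left @Surjective dX.symm pK).mpr hS
    · exact (prop_iso_comp_left @LocallyOfFinitePresentation dX.symm pK).mpr hL
    · refine isPullback_kp_transport dR.symm dX.symm (Iso.refl _) ?_ ?_ ?_ hsq
      · rw [Iso.symm_hom, Iso.symm_hom, Iso.comp_inv_eq, Category.assoc, cmpIso_naturality,
          Iso.inv_hom_id_assoc]
      · rw [Iso.symm_hom, Iso.symm_hom, Iso.comp_inv_eq, Category.assoc, cmpIso_naturality,
          Iso.inv_hom_id_assoc]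
      · rw [Iso.refl_hom, Category.comp_id, Iso.symm_hom]
  · rintro ⟨i, f, Y, p, hflat, hsurj, hlfp, hsq⟩
    let dX := cmpIso (c.π.app i) (D.map f) Xj (c.w f)
    let dR := cmpIso (c.π.app i) (D.map f) Rj (c.w f)
    refine ⟨Red.bc (c.π.app i) Y, dX.inv ≫ (Over.pullback (c.π.app i)).map p, ?_, ?_, ?_, ?_⟩
    · exact (prop_iso_comp_left @Flat dX.symm _).mpr (prop_map_left @Flat p _ hflat)
    · exact (prop_iso_comp_left @Surjective dX.symm _).mpr (prop_map_left @Surjective p _ hsurj)
    · exact (prop_iso_comp_left @LocallyOfFinitePresentation dX.symm _).mpr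
        (prop_map_left @LocallyOfFinitePresentation p _ hlfp)
    · refine isPullback_kp_transport dR.symm dX.symm (Iso.refl _) ?_ ?_ ?_
        ((Over.pullback (c.π.app i)).map_isPullback hsq)
      · rw [Iso.symm_hom, Iso.symm_hom, Iso.comp_inv_eq, Category.assoc, cmpIso_naturality,
          Iso.inv_hom_id_assoc]
      · rw [Iso.symm_hom, Iso.symm_hom, Iso.comp_inv_eq, Category.assoc, cmpIso_naturality,
          Iso.inv_hom_id_assoc]
      · rw [Iso.refl_hom, Category.comp_id, Iso.symm_hom]

end Main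

section Grp

/-- the square of the statement for `G/G'` in terms of base changes of maps downstairs -/
lemma grp_square_iff {S T : Scheme.{u}} (q : T ⟶ S) (G G' : Over S) [GrpObj G] (u : G' ⟶ G)
    {Q : Over T} (p : Red.bc q G ⟶ Q) :
    IsPullback (((Red.bc q G) ◁ ((Over.pullback q).map u)) ≫ μ[(Red.bc q G)])
      (fst (Red.bc q G) (Red.bc q G')) p p ↔
    IsPullback ((Over.pullback q).map ((G ◁ u) ≫ μ[G])) ((Over.pullback q).map (fst G G')) p p := by
  let m := Functor.Monoidal.μIso (Over.pullback q) G G'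
  have e1 : ((Red.bc q G) ◁ ((Over.pullback q).map u)) ≫ μ[(Red.bc q G)] =
      m.hom ≫ (Over.pullback q).map ((G ◁ u) ≫ μ[G]) := by
    rw [Functor.obj.μ_def, Functor.map_comp, Functor.Monoidal.μIso_hom,
      Functor.LaxMonoidal.μ_natural_right_assoc]
  have e2 : fst (Red.bc q G) (Red.bc q G') = m.hom ≫ (Over.pullback q).map (fst G G') := by
    rw [Functor.Monoidal.μIso_hom, Functor.Monoidal.μ_fst]
  constructor
  · intro h
    refine isPullback_kp_transport m.symm (Iso.refl _) (Iso.refl _) ?_ ?_ (by simp) h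
    · rw [Iso.refl_hom, Category.comp_id, Iso.symm_hom, e1, Iso.inv_hom_id_assoc]
    · rw [Iso.refl_hom, Category.comp_id, Iso.symm_hom, e2, Iso.inv_hom_id_assoc]
  · intro h
    refine isPullback_kp_transport m (Iso.refl _) (Iso.refl _) ?_ ?_ (by simp) h
    · rw [Iso.refl_hom, Category.comp_id, e1]
    · rw [Iso.refl_hom, Category.comp_id, e2]

variable {I : Type u} [SmallCategory I] (D : I ⥤ Scheme.{u}) (c : Cone D)
  [IsCofiltered I] [∀ (i i' : I) (f : i ⟶ i'), IsAffineHom (D.map f)]
  [∀ i, CompactSpace (D.obj i)] [∀ i, QuasiSeparatedSpace (D.obj i)]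
  (hc : IsLimit c) (j : I)

include hc in
/-- `G/G'` is representable over the limit iff it is over a stage -/
theorem grp_quotient_iff (Gj G'j : Over (D.obj j)) [GrpObj Gj]
    [LocallyOfFinitePresentation Gj.hom] [QuasiCompact Gj.hom] [QuasiSeparated Gj.hom]
    [LocallyOfFinitePresentation G'j.hom] [QuasiCompact G'j.hom] [QuasiSeparated G'j.hom]
    (uj : G'j ⟶ Gj) :
    (∃ (Q : Over c.pt) (p : (Red.bc (c.π.app j) Gj) ⟶ Q), Flat p.left ∧ Surjective p.left ∧
      LocallyOfFinitePresentation p.left ∧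
        IsPullback (((Red.bc (c.π.app j) Gj) ◁ ((Over.pullback (c.π.app j)).map uj)) ≫
          μ[(Red.bc (c.π.app j) Gj)]) (fst (Red.bc (c.π.app j) Gj) (Red.bc (c.π.app j) G'j)) p p) ↔
    ∃ (i : I) (f : i ⟶ j), ∃ (Q : Over (D.obj i)) (p : (Red.bc (D.map f) Gj) ⟶ Q),
      Flat p.left ∧ Surjective p.left ∧ LocallyOfFinitePresentation p.left ∧
        IsPullback (((Red.bc (D.map f) Gj) ◁ ((Over.pullback (D.map f)).map uj)) ≫
          μ[(Red.bc (D.map f) Gj)]) (fst (Red.bc (D.map f) Gj) (Red.bc (D.map f) G'j)) p p := by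
  have hR1 : LocallyOfFinitePresentation (Gj ⊗ G'j).hom := by
    rw [Over.tensorObj_hom]; infer_instance
  have hR2 : QuasiCompact (Gj ⊗ G'j).hom := by
    rw [Over.tensorObj_hom]; infer_instance
  have hR3 : QuasiSeparated (Gj ⊗ G'j).hom := by
    rw [Over.tensorObj_hom]; infer_instance
  have key := quotient_iff D c hc j Gj (Gj ⊗ G'j) ((Gj ◁ uj) ≫ μ[Gj]) (fst Gj G'j)
  constructor
  · rintro ⟨Q, p, h1, h2, h3, h4⟩
    obtain ⟨i, f, Q', p', h1', h2', h3', h4'⟩ :=
      key.mp ⟨Q, p, h1, h2, h3, (grp_square_iff _ Gj G'j uj p).mp h4⟩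
    exact ⟨i, f, Q', p', h1', h2', h3', (grp_square_iff _ Gj G'j uj p').mpr h4'⟩
  · rintro ⟨i, f, Q, p, h1, h2, h3, h4⟩
    obtain ⟨Q', p', h1', h2', h3', h4'⟩ :=
      key.mpr ⟨i, f, Q, p, h1, h2, h3, (grp_square_iff _ Gj G'j uj p).mp h4⟩
    exact ⟨Q', p', h1', h2', h3', (grp_square_iff _ Gj G'j uj p').mpr h4'⟩

end Grp

end Groth.Agent.Lib.Seat87.QuotLim
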