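import Groth.Agent.Lib.Seat87GrpLim4
import Groth.Agent.Lib.Helper26LimCover2
import Groth.Agent.S9207

/-!
# Torsors over a cofiltered limit (helper87)

* `exists_isIso_of_limit`: a morphism between finitely presented schemes over a stage which
  becomes an isomorphism over the limit is an isomorphism over some stage.
* `HasCover q X`: the structure morphism of `q^* X` is covering for the fppf topology.
-/

set_option autoImplicit false
set_option backward.isDefEq.respectTransparency false
set_option backward.defeqAttrib.useBackward true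
universe u

open CategoryTheory CategoryTheory.Limits AlgebraicGeometry MonoidalCategory
  CartesianMonoidalCategory MonObj GrpObj Opposite

namespace Groth.Agent.Lib.Seat87.TorsorLim

open Groth.Agent.Lib.Seat87.GrpLim

section IsoBC

variable {S T T' : Scheme.{u}} (q : T ⟶ S) (r : T' ⟶ T) (q' : T' ⟶ S) (hq : r ≫ q = q')

lemma isIso_bcMap {A B : Over S} (z : Red.bc q A ⟶ Red.bc q B) [IsIso z] :
    IsIso (bcMap q r q' hq z) :=
  ⟨bcMap q r q' hq (inv z), by rw [← bcMap_comp, IsIso.hom_inv_id, bcMap_id],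
    by rw [← bcMap_comp, IsIso.inv_hom_id, bcMap_id]⟩

include hq in
lemma isIso_map_transfer {A B : Over S} (φ : A ⟶ B) (h : IsIso ((Over.pullback q).map φ)) :
    IsIso ((Over.pullback q').map φ) := by
  rw [← bcMap_map q r q' hq]
  exact isIso_bcMap q r q' hq _

/-- the shear map of the statement in terms of the base change of the shear map downstairs -/
lemma shear_eq {G X : Over S} (a : G ⊗ X ⟶ X) :
    lift (Functor.LaxMonoidal.μ (Over.pullback q) G X ≫ (Over.pullback q).map a)
        (snd (Red.bc q G) (Red.bc q X)) =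
      Functor.LaxMonoidal.μ (Over.pullback q) G X ≫
        (Over.pullback q).map (lift a (snd G X)) ≫
          Functor.OplaxMonoidal.δ (Over.pullback q) X X := by
  apply CartesianMonoidalCategory.hom_ext
  · simp only [lift_fst, Category.assoc, Functor.OplaxMonoidal.δ_fst]
    rw [← Functor.map_comp, lift_fst]
  · simp only [lift_snd, Category.assoc, Functor.OplaxMonoidal.δ_snd]
    rw [← Functor.map_comp, lift_snd, Functor.Monoidal.μ_snd]

lemma isIso_shear_iff {G X : Over S} (a : G ⊗ X ⟶ X) :
    IsIso (lift (Functor.LaxMonoidal.μ (Over.pullback q) G X ≫ (Over.pullback q).map a)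
        (snd (Red.bc q G) (Red.bc q X))) ↔
      IsIso ((Over.pullback q).map (lift a (snd G X))) := by
  rw [shear_eq, isIso_comp_left_iff, isIso_comp_right_iff]

end IsoBC

section IsoLimit

variable {I : Type u} [SmallCategory I] (D : I ⥤ Scheme.{u}) (c : Cone D)
  [IsCofiltered I] [∀ (i i' : I) (f : i ⟶ i'), IsAffineHom (D.map f)]
  (hc : IsLimit c) (j : I) [CompactSpace (D.obj j)] [QuasiSeparatedSpace (D.obj j)]

include hc in
/-- A morphism of finitely presented schemes over a stage which is an isomorphism over the limit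
is an isomorphism over some stage. -/
theorem exists_isIso_of_limit {A B : Over (D.obj j)} [QuasiCompact A.hom]
    [LocallyOfFinitePresentation A.hom] [QuasiCompact B.hom] [QuasiSeparated B.hom]
    [LocallyOfFiniteType B.hom] (φ : A ⟶ B)
    (h : IsIso ((Over.pullback (c.π.app j)).map φ)) :
    ∃ k : Over j, IsIso ((Over.pullback (D.map k.hom)).map φ) := by
  obtain ⟨k, ψk, hψ⟩ := exists_toLim_eq D c j hc B A (inv ((Over.pullback (c.π.app j)).map φ))
  have e1 : toLim D c j k ((Over.pullback (D.map k.hom)).map φ ≫ ψk) =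
      toLim D c j k (𝟙 _) := by
    unfold toLim at hψ ⊢
    rw [bcMap_comp, bcMap_map, bcMap_id, hψ, IsIso.hom_inv_id]
  obtain ⟨k₁, τ₁, h₁⟩ := exists_toStage_eq D c j hc A A k _ _ e1
  have e2 : toLim D c j k₁ (toStage D j τ₁ ψk ≫ (Over.pullback (D.map k₁.hom)).map φ) =
      toLim D c j k₁ (𝟙 _) := by
    have := toLim_toStage_map D c j τ₁ ψk
    unfold toLim at hψ this ⊢
    rw [bcMap_comp, bcMap_map, bcMap_id, this, hψ, IsIso.inv_hom_id]
  obtain ⟨k₂, τ₂, h₂⟩ := exists_toStage_eq D c j hc B B k₁ _ _ e2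
  refine ⟨k₂, ⟨toStage D j τ₂ (toStage D j τ₁ ψk), ?_, ?_⟩⟩
  · have := congrArg (fun z => toStage D j τ₂ z) h₁
    unfold toStage at this ⊢
    simp only [bcMap_comp, bcMap_map, bcMap_id] at this
    exact this
  · unfold toStage at h₂ ⊢
    simp only [bcMap_comp, bcMap_map, bcMap_id] at h₂
    exact h₂

end IsoLimit

section Cover

variable {S T T' : Scheme.{u}} (q : T ⟶ S) (r : T' ⟶ T) (q' : T' ⟶ S) (hq : r ≫ q = q')

/-- The structure morphism of `q^* X` is covering for the fppf topology: some faithfully flat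
morphism of finite presentation to the base factors through it. -/
def HasCover (X : Over S) : Prop :=
  ∃ (Z : Scheme.{u}) (v : Z ⟶ T) (w : Z ⟶ (Red.bc q X).left), w ≫ (Red.bc q X).hom = v ∧
    Flat v ∧ Surjective v ∧ LocallyOfFinitePresentation v ∧ QuasiCompact v ∧ QuasiSeparated v

include hq in
lemma HasCover.transfer {X : Over S} (h : HasCover q X) : HasCover q' X := by
  obtain ⟨Z, v, w, hw, h1, h2, h3, h4, h5⟩ := h
  have hw' : w ≫ pullback.snd X.hom q = v := hw
  refine ⟨pullback v r, pullback.snd v r,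
    pullback.lift (pullback.fst v r ≫ w ≫ pullback.fst X.hom q) (pullback.snd v r) ?_, ?_,
    inferInstance, inferInstance, inferInstance, inferInstance, inferInstance⟩
  · rw [Category.assoc, Category.assoc, pullback.condition, ← Category.assoc w, hw',
      pullback.condition_assoc, hq]
  · exact pullback.lift_snd _ _ _

end Cover

section CoverLimit

variable {I : Type u} [SmallCategory I] (D : I ⥤ Scheme.{u}) (c : Cone D)
  [IsCofiltered I] [∀ (i i' : I) (f : i ⟶ i'), IsAffineHom (D.map f)]
  [∀ i, CompactSpace (D.obj i)] [∀ i, QuasiSeparatedSpace (D.obj i)]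
  (hc : IsLimit c)

/-- a faithfully flat finitely presented model of `v` at the stage `i` -/
def CoverModel {Z : Scheme.{u}} (v : Z ⟶ c.pt) (i : I) : Prop :=
  ∃ (Zi : Scheme.{u}) (vi : Zi ⟶ D.obj i) (g : Z ⟶ Zi), Flat vi ∧ Surjective vi ∧
    LocallyOfFinitePresentation vi ∧ QuasiCompact vi ∧ QuasiSeparated vi ∧
      IsPullback g v vi (c.π.app i)

omit [IsCofiltered I] [∀ (i i' : I) (f : i ⟶ i'), IsAffineHom (D.map f)]
  [∀ i, CompactSpace (D.obj i)] [∀ i, QuasiSeparatedSpace (D.obj i)] in
lemma CoverModel.move {Z : Scheme.{u}} {v : Z ⟶ c.pt} {i i' : I} (h : CoverModel D c v i)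
    (φ : i' ⟶ i) : CoverModel D c v i' := by
  obtain ⟨Zi, vi, g, h1, h2, h3, h4, h5, pb⟩ := h
  refine ⟨pullback vi (D.map φ), pullback.snd vi (D.map φ),
    pullback.lift g (v ≫ c.π.app i') (by rw [pb.w, Category.assoc, c.w]),
    inferInstance, inferInstance, inferInstance, inferInstance, inferInstance, ?_⟩
  refine IsPullback.of_right ?_ (pullback.lift_snd _ _ _)
    (IsPullback.of_hasPullback vi (D.map φ))
  rw [pullback.lift_fst, c.w]
  exact pb

include hc in
/-- a faithfully flat finitely presented morphism to the limit has such a model at some stage -/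
theorem exists_coverModel {Z : Scheme.{u}} (v : Z ⟶ c.pt) [Flat v] [Surjective v]
    [LocallyOfFinitePresentation v] [QuasiCompact v] [QuasiSeparated v] :
    ∃ i, CoverModel D c v i := by
  obtain ⟨i, Zi, vi, g, h1, h2, h3, h4, pb⟩ :=
    Groth.Agent.Lib.Helper26.LimFP.exists_model_of_qcqsDescent
      Groth.Agent.Lib.Helper26.LimCover.qcqsDescent_flat hc v (inferInstance : Flat v)
  have hopen : IsOpen (Set.range vi) := by
    have := h1; have : Flat vi := h4
    exact vi.isOpenMap.isOpen_range
  have hZ : IsClosed (Set.range vi)ᶜ := hopen.isClosed_compl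
  obtain ⟨T, τ, hτ1, hτ2⟩ : ∃ (T : Scheme.{u}) (τ : T ⟶ D.obj i), IsClosedImmersion τ ∧
      Set.range τ = (Set.range vi)ᶜ :=
    ⟨_, (Scheme.IdealSheafData.vanishingIdeal ⟨_, hZ⟩).subschemeι, inferInstance, by
      rw [Scheme.IdealSheafData.range_subschemeι,
        Scheme.IdealSheafData.coe_support_vanishingIdeal]; rfl⟩
  have hTc : CompactSpace T := QuasiCompact.compactSpace_of_compactSpace τ
  have hempty : IsEmpty ↥(pullback τ (c.π.app i)) := by
    rw [Scheme.isEmpty_pullback_iff, Set.disjoint_left]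
    rintro _ hz ⟨x, rfl⟩
    obtain ⟨y, rfl⟩ := v.surjective x
    have hz' : (c.π.app i) (v y) ∈ (Set.range vi)ᶜ := hτ2 ▸ hz
    apply hz'
    refine ⟨g y, ?_⟩
    exact congr($(pb.w) y)
  obtain ⟨i', ψ, hk'⟩ := Groth.Agent.S9207.result D c hc i τ hempty
  rw [Scheme.isEmpty_pullback_iff, Set.disjoint_left] at hk'
  refine ⟨i', pullback vi (D.map ψ), pullback.snd vi (D.map ψ),
    pullback.lift g (v ≫ c.π.app i') (by rw [pb.w, Category.assoc, c.w]),
    MorphismProperty.pullback_snd _ _ h4, ?_, MorphismProperty.pullback_snd _ _ h1,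
    MorphismProperty.pullback_snd _ _ h2, MorphismProperty.pullback_snd _ _ h3, ?_⟩
  · constructor
    intro x
    have hx : (D.map ψ) x ∈ Set.range vi := by
      by_contra hcon
      exact hk' (hτ2 ▸ hcon : (D.map ψ) x ∈ Set.range τ) ⟨x, rfl⟩
    have : x ∈ Set.range (pullback.snd vi (D.map ψ)) := by
      rw [Scheme.Pullback.range_snd]; exact hx
    exact this
  · refine IsPullback.of_right ?_ (pullback.lift_snd _ _ _)
      (IsPullback.of_hasPullback vi (D.map ψ))
    rw [pullback.lift_fst, c.w]
    exact pb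

include hc in
/-- an fppf covering of the limit factoring through `X_S` descends to a stage -/
theorem exists_hasCover_of_limit (j : I) (X : Over (D.obj j)) [LocallyOfFinitePresentation X.hom]
    (h : HasCover (c.π.app j) X) : ∃ k : Over j, HasCover (D.map k.hom) X := by
  obtain ⟨Z, v, w, hw, h1, h2, h3, h4, h5⟩ := h
  have hw' : w ≫ pullback.snd X.hom (c.π.app j) = v := hw
  obtain ⟨i, hi⟩ := exists_coverModel D c hc v
  obtain ⟨k, a', b, -⟩ : ∃ (k : I) (_ : k ⟶ i) (_ : k ⟶ j), True :=
    ⟨IsCofiltered.min i j, IsCofiltered.minToLeft i j, IsCofiltered.minToRight i j, trivial⟩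
  obtain ⟨Zk, vk, g, m1, m2, m3, m4, m5, pb⟩ := hi.move D c a'
  -- descend the map `w`
  let Y : Over (D.obj k) := Red.bc (D.map b) X
  have hY : LocallyOfFinitePresentation Y.hom := by
    change LocallyOfFinitePresentation (pullback.snd X.hom (D.map b)); infer_instance
  have hZk1 : QuasiCompact (Over.mk vk).hom := m4
  have hZk2 : QuasiSeparated (Over.mk vk).hom := m5
  obtain ⟨k', g', hg1, hg2⟩ := exists_map_of_limit D c hc k (Over.mk vk) Y.hom
    (pb.isoPullback.inv ≫ w ≫ θ X (D.map b) (c.π.app k) (c.π.app j) (c.w b))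
    (by
      change (pb.isoPullback.inv ≫ w ≫ θ X (D.map b) (c.π.app k) (c.π.app j) (c.w b)) ≫
        pullback.snd X.hom (D.map b) = pullback.snd vk (c.π.app k) ≫ c.π.app k
      rw [Category.assoc, Category.assoc, θ_snd, ← Category.assoc w, hw',
        ← Category.assoc, pb.isoPullback_inv_snd])
  have hg2' : g' ≫ pullback.snd X.hom (D.map b) =
      pullback.snd vk (D.map k'.hom) ≫ D.map k'.hom := hg2
  refine ⟨Over.mk (k'.hom ≫ b), pullback vk (D.map k'.hom), pullback.snd vk (D.map k'.hom),
    pullback.lift (g' ≫ pullback.fst X.hom (D.map b)) (pullback.snd vk (D.map k'.hom)) ?_, ?_,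
    MorphismProperty.pullback_snd _ _ m1, MorphismProperty.pullback_snd _ _ m2,
    MorphismProperty.pullback_snd _ _ m3, MorphismProperty.pullback_snd _ _ m4,
    MorphismProperty.pullback_snd _ _ m5⟩
  · rw [Category.assoc, pullback.condition, ← Category.assoc, hg2', Category.assoc]
    change _ = pullback.snd vk (D.map k'.hom) ≫ D.map (k'.hom ≫ b)
    rw [D.map_comp]
  · exact pullback.lift_snd _ _ _

end CoverLimit

section Main

variable {I : Type u} [SmallCategory I] (D : I ⥤ Scheme.{u}) (c : Cone D)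
  [IsCofiltered I] [∀ (i i' : I) (f : i ⟶ i'), IsAffineHom (D.map f)]
  [∀ i, CompactSpace (D.obj i)] [∀ i, QuasiSeparatedSpace (D.obj i)]
  (hc : IsLimit c)

include hc in
/-- Torsors over the limit: the two torsor conditions hold over the limit iff they hold over a
stage. -/
theorem torsor_iff (j : I) (Gj Xj : Over (D.obj j)) (a : Gj ⊗ Xj ⟶ Xj)
    [LocallyOfFinitePresentation Gj.hom] [QuasiCompact Gj.hom] [QuasiSeparated Gj.hom]
    [LocallyOfFinitePresentation Xj.hom] [QuasiCompact Xj.hom] [QuasiSeparated Xj.hom] :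
    (IsIso (lift (Functor.LaxMonoidal.μ (Over.pullback (c.π.app j)) Gj Xj ≫
        (Over.pullback (c.π.app j)).map a)
          (snd (Red.bc (c.π.app j) Gj) (Red.bc (c.π.app j) Xj))) ∧
      HasCover (c.π.app j) Xj) ↔
    ∃ (i : I) (f : i ⟶ j), IsIso (lift (Functor.LaxMonoidal.μ (Over.pullback (D.map f)) Gj Xj ≫
        (Over.pullback (D.map f)).map a) (snd (Red.bc (D.map f) Gj) (Red.bc (D.map f) Xj))) ∧
      HasCover (D.map f) Xj := by
  have hA1 : LocallyOfFinitePresentation (Gj ⊗ Xj).hom := by
    rw [Over.tensorObj_hom]; infer_instance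
  have hB1 : QuasiSeparated (Xj ⊗ Xj).hom := by
    rw [Over.tensorObj_hom]; infer_instance
  have hB2 : LocallyOfFiniteType (Xj ⊗ Xj).hom := by
    rw [Over.tensorObj_hom]; infer_instance
  constructor
  · rintro ⟨h1, h2⟩
    rw [isIso_shear_iff] at h1
    obtain ⟨k₁, hk₁⟩ := exists_isIso_of_limit D c hc j (lift a (snd Gj Xj)) h1
    obtain ⟨k₂, hk₂⟩ := exists_hasCover_of_limit D c hc j Xj h2
    refine ⟨(IsCofiltered.min k₁ k₂).left, (IsCofiltered.min k₁ k₂).hom, ?_, ?_⟩
    · rw [isIso_shear_iff]
      exact isIso_map_transfer (D.map k₁.hom) (D.map (IsCofiltered.minToLeft k₁ k₂).left) _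
        (stage_w D j _) _ hk₁
    · exact hk₂.transfer (D.map k₂.hom) (D.map (IsCofiltered.minToRight k₁ k₂).left) _
        (stage_w D j _)
  · rintro ⟨i, f, h1, h2⟩
    rw [isIso_shear_iff] at h1 ⊢
    exact ⟨isIso_map_transfer (D.map f) (c.π.app i) _ (c.w f) _ h1,
      h2.transfer (D.map f) (c.π.app i) _ (c.w f)⟩

end Main

end Groth.Agent.Lib.Seat87.TorsorLim
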