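import Mathlib

/-!
# Modules over the minimal central order `ℤ[F, V] ⊆ ∏ K_i` (engine for S18003)
-/

set_option autoImplicit false
universe u
open MvPolynomial

namespace Groth.Agent.Lib.Seat87.WeilMod

/-- The ideal `(X₀ X₁ - q)` of `ℤ[X₀, X₁]`. -/
noncomputable def relIdeal (q : ℤ) : Ideal (MvPolynomial (Fin 2) ℤ) :=
  Ideal.span {X 0 * X 1 - C q}

/-- Modulo `X₀ X₁ - q`, every polynomial becomes a polynomial in `X₀` after multiplying by a power
of `X₀`. -/
theorem reduce (q : ℤ) (g : MvPolynomial (Fin 2) ℤ) :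
    ∃ (N : ℕ) (G : Polynomial ℤ),
      X 0 ^ N * g - Polynomial.aeval (X 0 : MvPolynomial (Fin 2) ℤ) G ∈ relIdeal q := by
  induction g using MvPolynomial.induction_on with
  | C a => exact ⟨0, Polynomial.C a, by simp [relIdeal]⟩
  | add g1 g2 h1 h2 =>
    obtain ⟨N1, G1, h1⟩ := h1
    obtain ⟨N2, G2, h2⟩ := h2
    refine ⟨N1 + N2, Polynomial.X ^ N2 * G1 + Polynomial.X ^ N1 * G2, ?_⟩
    have : X 0 ^ (N1 + N2) * (g1 + g2) - Polynomial.aeval (X 0 : MvPolynomial (Fin 2) ℤ)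
        (Polynomial.X ^ N2 * G1 + Polynomial.X ^ N1 * G2)
        = X 0 ^ N2 * (X 0 ^ N1 * g1 - Polynomial.aeval (X 0 : MvPolynomial (Fin 2) ℤ) G1)
          + X 0 ^ N1 * (X 0 ^ N2 * g2 - Polynomial.aeval (X 0 : MvPolynomial (Fin 2) ℤ) G2) := by
      simp only [map_add, map_mul, map_pow, Polynomial.aeval_X]; ring
    rw [this]
    exact Ideal.add_mem _ (Ideal.mul_mem_left _ _ h1) (Ideal.mul_mem_left _ _ h2)
  | mul_X g i h =>
    obtain ⟨N, G, h⟩ := h
    fin_cases i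
    · refine ⟨N, G * Polynomial.X, ?_⟩
      have : X 0 ^ N * (g * X 0) - Polynomial.aeval (X 0 : MvPolynomial (Fin 2) ℤ)
          (G * Polynomial.X)
          = X 0 * (X 0 ^ N * g - Polynomial.aeval (X 0 : MvPolynomial (Fin 2) ℤ) G) := by
        simp only [map_mul, Polynomial.aeval_X]; ring
      simp only [Fin.zero_eta]
      rw [this]
      exact Ideal.mul_mem_left _ _ h
    · refine ⟨N + 1, Polynomial.C q * G, ?_⟩
      have : X 0 ^ (N + 1) * (g * X 1) - Polynomial.aeval (X 0 : MvPolynomial (Fin 2) ℤ)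
          (Polynomial.C q * G)
          = X 0 * X 1 * (X 0 ^ N * g - Polynomial.aeval (X 0 : MvPolynomial (Fin 2) ℤ) G)
            + Polynomial.aeval (X 0 : MvPolynomial (Fin 2) ℤ) G * (X 0 * X 1 - C q) := by
        simp only [map_mul, Polynomial.aeval_C, MvPolynomial.algebraMap_eq]; ring
      simp only [Fin.mk_one]
      rw [this]
      exact Ideal.add_mem _ (Ideal.mul_mem_left _ _ h)
        (Ideal.mul_mem_left _ _ (Ideal.subset_span rfl))


section Main

variable {ι : Type} [Fintype ι] {K : ι → Type u} [∀ i, Field (K i)] [∀ i, CharZero (K i)]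

/-- The constant coefficient of the minimal polynomial of a Weil number is nonzero. -/
theorem coeff_zero_ne {L : Type u} [Field L] [CharZero L] (x : L) (hint : IsIntegral ℤ x)
    (r : ℝ) (hr : 0 < r) (hweil : ∀ z ∈ (minpoly ℤ x).aroots ℂ, ‖z‖ = r) :
    (minpoly ℤ x).coeff 0 ≠ 0 := by
  intro h0
  have hmem : (0 : ℂ) ∈ (minpoly ℤ x).aroots ℂ := by
    rw [Polynomial.mem_aroots]
    refine ⟨minpoly.ne_zero hint, ?_⟩
    rw [← Polynomial.coeff_zero_eq_aeval_zero', h0, map_zero]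
  have := hweil 0 hmem
  rw [norm_zero] at this
  exact hr.ne this

theorem ne_zero_of_weil {L : Type u} [Field L] [CharZero L] (x : L) (hint : IsIntegral ℤ x)
    (r : ℝ) (hr : 0 < r) (hweil : ∀ z ∈ (minpoly ℤ x).aroots ℂ, ‖z‖ = r) : x ≠ 0 := by
  rintro rfl
  apply coeff_zero_ne (0 : L) hint r hr hweil
  have h1 : algebraMap ℤ L ((minpoly ℤ (0 : L)).coeff 0) = 0 := by
    rw [Polynomial.coeff_zero_eq_aeval_zero', minpoly.aeval]
  exact (FaithfulSMul.algebraMap_injective ℤ L) (by rw [h1, map_zero])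

/-- If `G(π_i) = 0` for all `i` then `∏ P_i ∣ G`. -/
theorem prod_minpoly_dvd (π : ∀ i, K i) (hint : ∀ i, IsIntegral ℤ (π i))
    (hinj : ∀ i j, minpoly ℤ (π i) = minpoly ℤ (π j) → i = j) (G : Polynomial ℤ)
    (hG : ∀ i, Polynomial.aeval (π i) G = 0) : (∏ i, minpoly ℤ (π i)) ∣ G := by
  apply Fintype.prod_dvd_of_isRelPrime
  · intro i j hij
    show IsRelPrime (minpoly ℤ (π i)) (minpoly ℤ (π j))
    have hpi := minpoly.prime_of_isIntegrallyClosed (hint i)
    have hpj := minpoly.prime_of_isIntegrallyClosed (hint j)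
    rw [hpi.irreducible.isRelPrime_iff_not_dvd]
    intro hdvd
    apply hij
    apply hinj
    exact Polynomial.eq_of_monic_of_associated (minpoly.monic (hint i)) (minpoly.monic (hint j))
      (hpi.irreducible.associated_of_dvd hpj.irreducible hdvd)
  · intro i
    exact minpoly.isIntegrallyClosed_dvd (hint i) (hG i)

/-- Key lemma: the kernel of `ℤ[X₀,X₁] → ∏ K_i` dies in any (possibly noncommutative) ring in which
the relations `X₀ X₁ = q`, `P_w(X₀) = 0` hold and `X₀` is left cancellable. -/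
theorem ker_le (q : ℤ) (π v : ∀ i, K i) (hv : ∀ i, π i * v i = (q : K i))
    (hint : ∀ i, IsIntegral ℤ (π i))
    (hinj : ∀ i j, minpoly ℤ (π i) = minpoly ℤ (π j) → i = j)
    {E : Type*} [Ring E] (φ : MvPolynomial (Fin 2) ℤ →ₐ[ℤ] E)
    (hrel : φ (X 0) * φ (X 1) = algebraMap ℤ E q)
    (hP : Polynomial.aeval (φ (X 0)) (∏ i, minpoly ℤ (π i)) = 0)
    (hcancel : ∀ x : E, φ (X 0) * x = 0 → x = 0)
    (g : MvPolynomial (Fin 2) ℤ)
    (hg : (MvPolynomial.aeval ![fun i => π i, fun i => v i] :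
        MvPolynomial (Fin 2) ℤ →ₐ[ℤ] ((i : ι) → K i)) g = 0) : φ g = 0 := by
  obtain ⟨N, G, hNG⟩ := reduce q g
  set ψ : MvPolynomial (Fin 2) ℤ →ₐ[ℤ] ((i : ι) → K i) :=
    MvPolynomial.aeval ![fun i => π i, fun i => v i] with hψ
  have hψ0 : ψ (X 0) = fun i => π i := by simp [hψ]
  have hψ1 : ψ (X 1) = fun i => v i := by simp [hψ]
  have h1 : relIdeal q ≤ RingHom.ker ψ := by
    rw [relIdeal, Ideal.span_le, Set.singleton_subset_iff]
    show ψ (X 0 * X 1 - C q) = 0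
    rw [map_sub, map_mul, hψ0, hψ1]
    funext i
    have : (ψ (C q)) i = (q : K i) := by
      simp [hψ]
    simp only [Pi.sub_apply, Pi.mul_apply, Pi.zero_apply, this, hv i, sub_self]
  have h2 : relIdeal q ≤ RingHom.ker φ := by
    rw [relIdeal, Ideal.span_le, Set.singleton_subset_iff]
    show φ (X 0 * X 1 - C q) = 0
    rw [map_sub, map_mul, hrel, ← MvPolynomial.algebraMap_eq, AlgHom.commutes, sub_self]
  have e1 : ψ (X 0 ^ N * g - Polynomial.aeval (X 0 : MvPolynomial (Fin 2) ℤ) G) = 0 := h1 hNG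
  have e2 : φ (X 0 ^ N * g - Polynomial.aeval (X 0 : MvPolynomial (Fin 2) ℤ) G) = 0 := h2 hNG
  rw [map_sub, map_mul, hg, mul_zero, zero_sub, neg_eq_zero,
    ← Polynomial.aeval_algHom_apply, hψ0] at e1
  have hG : ∀ i, Polynomial.aeval (π i) G = 0 := by
    intro i
    have := congrArg (Pi.evalAlgHom ℤ K i) e1
    rw [← Polynomial.aeval_algHom_apply] at this
    simpa using this
  obtain ⟨H, rfl⟩ := prod_minpoly_dvd π hint hinj G hG
  rw [map_sub, map_mul, map_pow, ← Polynomial.aeval_algHom_apply, map_mul, hP, zero_mul,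
    sub_zero] at e2
  clear hNG e1 hG
  induction N with
  | zero => simpa using e2
  | succ n ih =>
    apply ih
    apply hcancel
    rw [← mul_assoc, ← pow_succ']
    exact e2

open scoped IsMulCommutative in
/-- (⇐) direction: construct the module structure. -/
theorem exists_module (q : ℤ) (π v : ∀ i, K i) (hv : ∀ i, π i * v i = (q : K i))
    (hint : ∀ i, IsIntegral ℤ (π i))
    (hinj : ∀ i j, minpoly ℤ (π i) = minpoly ℤ (π j) → i = j)
    (hc : (∏ i, minpoly ℤ (π i)).coeff 0 ≠ 0)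
    (T : Type) [AddCommGroup T] [Module.Free ℤ T] (FT : T →ₗ[ℤ] T)
    (hP : Polynomial.aeval FT (∏ i, minpoly ℤ (π i)) = 0)
    (VT : T →ₗ[ℤ] T) (hV : FT ∘ₗ VT = q • LinearMap.id) :
    ∃ _ : Module (MvPolynomial.aeval ![fun i => π i, fun i => v i] :
        MvPolynomial (Fin 2) ℤ →ₐ[ℤ] ((i : ι) → K i)).range T,
        ∀ t : T, (⟨(MvPolynomial.aeval ![fun i => π i, fun i => v i] :
        MvPolynomial (Fin 2) ℤ →ₐ[ℤ] ((i : ι) → K i)) (X 0), AlgHom.mem_range_self _ _⟩ :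
        (MvPolynomial.aeval ![fun i => π i, fun i => v i] :
        MvPolynomial (Fin 2) ℤ →ₐ[ℤ] ((i : ι) → K i)).range) • t = FT t := by
  set ψ : MvPolynomial (Fin 2) ℤ →ₐ[ℤ] ((i : ι) → K i) :=
    MvPolynomial.aeval ![fun i => π i, fun i => v i] with hψ
  -- `FT` is injective
  have hFinj : ∀ t : T, FT t = 0 → t = 0 := by
    intro t ht
    have h1 := congrArg (fun f : T →ₗ[ℤ] T => f t) hP
    rw [← Polynomial.divX_mul_X_add (∏ i, minpoly ℤ (π i))] at h1
    simp only [map_add, map_mul, Polynomial.aeval_X, Polynomial.aeval_C, LinearMap.add_apply,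
      Module.End.mul_apply, ht, map_zero, zero_add, LinearMap.zero_apply,
      Module.algebraMap_end_apply] at h1
    exact (smul_eq_zero.mp h1).resolve_left hc
  have hFV : FT * VT = q • (1 : Module.End ℤ T) := hV
  have hcancel : ∀ x : Module.End ℤ T, FT * x = 0 → x = 0 := by
    intro x hx
    ext t
    apply hFinj
    exact congrArg (fun f : T →ₗ[ℤ] T => f t) hx
  have hcomm : VT * FT = FT * VT := by
    rw [← sub_eq_zero]
    apply hcancel
    rw [mul_sub, ← mul_assoc, ← mul_assoc, hFV, smul_mul_assoc, one_mul, mul_assoc, hFV,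
      mul_smul_comm, mul_one, sub_self]
  -- the commutative algebra generated by `FT`, `VT`
  have hcommS : ∀ a ∈ ({FT, VT} : Set (Module.End ℤ T)), ∀ b ∈ ({FT, VT} : Set (Module.End ℤ T)),
      a * b = b * a := by
    rintro a (rfl | rfl) b (rfl | rfl)
    · rfl
    · exact hcomm.symm
    · exact hcomm
    · rfl
  haveI := Algebra.isMulCommutative_adjoin ℤ hcommS
  let B := Algebra.adjoin ℤ ({FT, VT} : Set (Module.End ℤ T))
  let a : B := ⟨FT, Algebra.subset_adjoin (by simp)⟩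
  let b : B := ⟨VT, Algebra.subset_adjoin (by simp)⟩
  let φ' : MvPolynomial (Fin 2) ℤ →ₐ[ℤ] B := MvPolynomial.aeval ![a, b]
  let φ : MvPolynomial (Fin 2) ℤ →ₐ[ℤ] Module.End ℤ T := B.val.comp φ'
  have hφ0 : φ (X 0) = FT := by simp [φ, φ', a]
  have hφ1 : φ (X 1) = VT := by simp [φ, φ', b]
  have hker : RingHom.ker (ψ.rangeRestrict : MvPolynomial (Fin 2) ℤ →+* ψ.range) ≤
      RingHom.ker (φ : MvPolynomial (Fin 2) ℤ →+* Module.End ℤ T) := by
    intro g hg
    rw [RingHom.mem_ker] at hg ⊢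
    have hg' : ψ g = 0 := congrArg Subtype.val hg
    apply ker_le q π v hv hint hinj φ _ _ _ g hg'
    · rw [hφ0, hφ1, hFV, Algebra.algebraMap_eq_smul_one]
    · rw [hφ0]; exact hP
    · rw [hφ0]; exact hcancel
  let f : ψ.range →+* Module.End ℤ T :=
    RingHom.liftOfSurjective (ψ.rangeRestrict : MvPolynomial (Fin 2) ℤ →+* ψ.range)
      ψ.rangeRestrict_surjective ⟨(φ : MvPolynomial (Fin 2) ℤ →+* Module.End ℤ T), hker⟩
  refine ⟨Module.compHom T f, ?_⟩
  intro t
  have : f (ψ.rangeRestrict (X 0)) = FT := by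
    have := RingHom.liftOfSurjective_comp_apply
      (ψ.rangeRestrict : MvPolynomial (Fin 2) ℤ →+* ψ.range)
      ψ.rangeRestrict_surjective ⟨(φ : MvPolynomial (Fin 2) ℤ →+* Module.End ℤ T), hker⟩ (X 0)
    exact this.trans hφ0
  exact congrArg (fun f : T →ₗ[ℤ] T => f t) this

/-- (⇒) direction. -/
theorem of_module (q : ℤ) (π v : ∀ i, K i) (hv : ∀ i, π i * v i = (q : K i))
    (hint : ∀ i, IsIntegral ℤ (π i))
    (T : Type) [AddCommGroup T] (FT : T →ₗ[ℤ] T)
    (ψ : MvPolynomial (Fin 2) ℤ →ₐ[ℤ] ((i : ι) → K i))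
    (hψ0 : ψ (X 0) = fun i => π i) (hψ1 : ψ (X 1) = fun i => v i)
    [inst : Module ψ.range T]
    (h : ∀ t : T, (⟨ψ (X 0), AlgHom.mem_range_self _ _⟩ : ψ.range) • t = FT t) :
    Polynomial.aeval FT (∏ i, minpoly ℤ (π i)) = 0 ∧
        ∃ VT : T →ₗ[ℤ] T, FT ∘ₗ VT = q • LinearMap.id := by
  let ρ : ψ.range →ₐ[ℤ] Module.End ℤ T := (Module.toModuleEnd ℤ (S := ψ.range) T).toIntAlgHom
  let FR : ψ.range := ⟨ψ (X 0), AlgHom.mem_range_self _ _⟩
  let VR : ψ.range := ⟨ψ (X 1), AlgHom.mem_range_self _ _⟩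
  have hρF : ρ FR = FT := by
    ext t
    show FR • t = FT t
    exact h t
  have hFV : FR * VR = algebraMap ℤ ψ.range q := by
    apply Subtype.ext
    show ψ (X 0) * ψ (X 1) = algebraMap ℤ ((i : ι) → K i) q
    rw [hψ0, hψ1]
    funext i
    simp [hv i]
  have hPF : Polynomial.aeval FR (∏ i, minpoly ℤ (π i)) = 0 := by
    apply Subtype.ext
    have h1 : ((Polynomial.aeval FR (∏ i, minpoly ℤ (π i)) : ψ.range) : (i : ι) → K i)
        = Polynomial.aeval (ψ (X 0)) (∏ i, minpoly ℤ (π i)) :=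
      (Polynomial.aeval_algHom_apply ψ.range.val FR (∏ i, minpoly ℤ (π i))).symm
    rw [h1, hψ0]
    funext i
    have h2 := Polynomial.aeval_algHom_apply (Pi.evalAlgHom ℤ K i) (fun i => π i)
      (∏ i, minpoly ℤ (π i))
    have h3 : Polynomial.aeval (π i) (∏ i, minpoly ℤ (π i)) = 0 := by
      obtain ⟨H, hH⟩ := Finset.dvd_prod_of_mem (fun i => minpoly ℤ (π i)) (Finset.mem_univ i)
      rw [hH, map_mul, minpoly.aeval, zero_mul]
    simpa [h3] using h2.symm
  refine ⟨?_, ρ VR, ?_⟩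
  · rw [← hρF, Polynomial.aeval_algHom_apply, hPF, map_zero]
  · show FT * ρ VR = _
    rw [← hρF, ← map_mul, hFV, AlgHom.commutes, Algebra.algebraMap_eq_smul_one]
    rfl

/-- The engine for S18003, in the exact shape of the statement. -/
theorem main (p e : ℕ) [Fact p.Prime]
    (π : ∀ i, K i)
    (hint : ∀ i, IsIntegral ℤ (π i))
    (hweil : ∀ i, ∀ z ∈ (minpoly ℤ (π i)).aroots ℂ, ‖z‖ = Real.sqrt ((p : ℝ) ^ e))
    (hinj : ∀ i j, minpoly ℤ (π i) = minpoly ℤ (π j) → i = j)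
    (T : Type) [AddCommGroup T] [Module.Free ℤ T] (FT : T →ₗ[ℤ] T) :
    (∃ _ : Module (MvPolynomial.aeval ![fun i => π i, fun i => ((p : K i) ^ e) / π i] :
        MvPolynomial (Fin 2) ℤ →ₐ[ℤ] ((i : ι) → K i)).range T,
        ∀ t : T, (⟨(MvPolynomial.aeval ![fun i => π i, fun i => ((p : K i) ^ e) / π i] :
        MvPolynomial (Fin 2) ℤ →ₐ[ℤ] ((i : ι) → K i)) (X 0), AlgHom.mem_range_self _ _⟩ :
        (MvPolynomial.aeval ![fun i => π i, fun i => ((p : K i) ^ e) / π i] :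
        MvPolynomial (Fin 2) ℤ →ₐ[ℤ] ((i : ι) → K i)).range) • t = FT t) ↔
      (Polynomial.aeval FT (∏ i, minpoly ℤ (π i)) = 0 ∧
        ∃ VT : T →ₗ[ℤ] T, FT ∘ₗ VT = ((p : ℤ) ^ e) • LinearMap.id) := by
  have hr : 0 < Real.sqrt ((p : ℝ) ^ e) :=
    Real.sqrt_pos.mpr (pow_pos (Nat.cast_pos.mpr (Fact.out : p.Prime).pos) e)
  have hπ : ∀ i, π i ≠ 0 := fun i => ne_zero_of_weil (π i) (hint i) _ hr (hweil i)
  have hv : ∀ i, π i * (((p : K i) ^ e) / π i) = (((p : ℤ) ^ e : ℤ) : K i) := by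
    intro i
    rw [← mul_div_assoc, mul_div_cancel_left₀ _ (hπ i)]
    push_cast
    rfl
  constructor
  · rintro ⟨inst, h⟩
    exact of_module ((p : ℤ) ^ e) π (fun i => ((p : K i) ^ e) / π i) hv hint T FT
      (MvPolynomial.aeval ![fun i => π i, fun i => ((p : K i) ^ e) / π i]) (by simp) (by simp) h
  · rintro ⟨hP, VT, hV⟩
    have hc : (∏ i, minpoly ℤ (π i)).coeff 0 ≠ 0 := by
      rw [Polynomial.coeff_zero_eq_eval_zero, Polynomial.eval_prod, Finset.prod_ne_zero_iff]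
      intro i _
      rw [← Polynomial.coeff_zero_eq_eval_zero]
      exact coeff_zero_ne (π i) (hint i) _ hr (hweil i)
    exact exists_module ((p : ℤ) ^ e) π (fun i => ((p : K i) ^ e) / π i) hv hint hinj hc T FT hP
      VT hV

end Main

end Groth.Agent.Lib.Seat87.WeilMod
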