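import Mathlib
import Groth.Agent.Lib.Seat87WeilMod

/-!
# The kernel of `ℤ[F, V] → ∏ K_i` is `(FV - q, h)` (engine for S17984)
-/

set_option autoImplicit false
universe u
open MvPolynomial
open scoped Pointwise

namespace Groth.Agent.Lib.Seat87.WeilKer

open Groth.Agent.Lib.Seat87.WeilMod

local notation "MP" => MvPolynomial (Fin 2) ℤ

/-- Admissibility: `T^{-N} G(T)` lies in `ℤ[T, q/T]`. -/
def Adm (q : ℤ) (N : ℕ) (G : Polynomial ℤ) : Prop := ∀ j, j < N → q ^ (N - j) ∣ G.coeff j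

theorem Adm.add {q : ℤ} {N : ℕ} {G G' : Polynomial ℤ} (h : Adm q N G) (h' : Adm q N G') :
    Adm q N (G + G') := by
  intro j hj
  rw [Polynomial.coeff_add]
  exact dvd_add (h j hj) (h' j hj)

theorem Adm.shift {q : ℤ} {N : ℕ} {G : Polynomial ℤ} (h : Adm q N G) (M : ℕ) :
    Adm q (N + M) (Polynomial.X ^ M * G) := by
  intro j hj
  rw [Polynomial.coeff_X_pow_mul']
  split_ifs with hjM
  · have : N + M - j = N - (j - M) := by omega
    rw [this]
    exact h _ (by omega)
  · exact dvd_zero _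

theorem Adm.mul_X {q : ℤ} {N : ℕ} {G : Polynomial ℤ} (h : Adm q N G) :
    Adm q N (G * Polynomial.X) := by
  intro j hj
  rcases j with _ | j
  · simp
  · rw [Polynomial.coeff_mul_X]
    exact dvd_trans (pow_dvd_pow q (by omega)) (h j (by omega))

theorem Adm.C_mul {q : ℤ} {N : ℕ} {G : Polynomial ℤ} (h : Adm q N G) :
    Adm q (N + 1) (Polynomial.C q * G) := by
  intro j hj
  rw [Polynomial.coeff_C_mul]
  rcases Nat.lt_succ_iff_lt_or_eq.mp hj with hj' | rfl
  · have : N + 1 - j = (N - j) + 1 := by omega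
    rw [this, pow_succ']
    exact mul_dvd_mul_left q (h j hj')
  · simp

/-- Strengthened reduction. -/
theorem reduce' (q : ℤ) (g : MP) :
    ∃ (N : ℕ) (G : Polynomial ℤ),
      X 0 ^ N * g - Polynomial.aeval (X 0 : MP) G ∈ relIdeal q ∧ Adm q N G := by
  induction g using MvPolynomial.induction_on with
  | C a => exact ⟨0, Polynomial.C a, by simp [relIdeal], fun j hj => absurd hj (Nat.not_lt_zero j)⟩
  | add g1 g2 h1 h2 =>
    obtain ⟨N1, G1, h1, a1⟩ := h1
    obtain ⟨N2, G2, h2, a2⟩ := h2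
    refine ⟨N1 + N2, Polynomial.X ^ N2 * G1 + Polynomial.X ^ N1 * G2, ?_, ?_⟩
    · have : X 0 ^ (N1 + N2) * (g1 + g2) - Polynomial.aeval (X 0 : MP)
          (Polynomial.X ^ N2 * G1 + Polynomial.X ^ N1 * G2)
          = X 0 ^ N2 * (X 0 ^ N1 * g1 - Polynomial.aeval (X 0 : MP) G1)
            + X 0 ^ N1 * (X 0 ^ N2 * g2 - Polynomial.aeval (X 0 : MP) G2) := by
        simp only [map_add, map_mul, map_pow, Polynomial.aeval_X]; ring
      rw [this]
      exact Ideal.add_mem _ (Ideal.mul_mem_left _ _ h1) (Ideal.mul_mem_left _ _ h2)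
    · refine Adm.add (a1.shift N2) ?_
      have := a2.shift N1
      rwa [add_comm] at this
  | mul_X g i h =>
    obtain ⟨N, G, h, a⟩ := h
    fin_cases i
    · refine ⟨N, G * Polynomial.X, ?_, a.mul_X⟩
      have : X 0 ^ N * (g * X 0) - Polynomial.aeval (X 0 : MP) (G * Polynomial.X)
          = X 0 * (X 0 ^ N * g - Polynomial.aeval (X 0 : MP) G) := by
        simp only [map_mul, Polynomial.aeval_X]; ring
      simp only [Fin.zero_eta]
      rw [this]
      exact Ideal.mul_mem_left _ _ h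
    · refine ⟨N + 1, Polynomial.C q * G, ?_, a.C_mul⟩
      have : X 0 ^ (N + 1) * (g * X 1) - Polynomial.aeval (X 0 : MP) (Polynomial.C q * G)
          = X 0 * X 1 * (X 0 ^ N * g - Polynomial.aeval (X 0 : MP) G)
            + Polynomial.aeval (X 0 : MP) G * (X 0 * X 1 - C q) := by
        simp only [map_mul, Polynomial.aeval_C, MvPolynomial.algebraMap_eq]; ring
      simp only [Fin.mk_one]
      rw [this]
      exact Ideal.add_mem _ (Ideal.mul_mem_left _ _ h)
        (Ideal.mul_mem_left _ _ (Ideal.subset_span rfl))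

/-- Setting `X₀ = 0`. -/
noncomputable def zeta : MP →ₐ[ℤ] MP := MvPolynomial.aeval ![0, X 1]

theorem exists_eq_X_mul_add_zeta (z : MP) : ∃ z' : MP, z = X 0 * z' + zeta z := by
  induction z using MvPolynomial.induction_on with
  | C a => exact ⟨0, by simp [zeta]⟩
  | add g1 g2 h1 h2 =>
    obtain ⟨z1, h1⟩ := h1
    obtain ⟨z2, h2⟩ := h2
    refine ⟨z1 + z2, ?_⟩
    rw [map_add]
    nth_rewrite 1 [h1, h2]
    ring
  | mul_X g i h =>
    obtain ⟨z', h⟩ := h
    fin_cases i
    · refine ⟨g, ?_⟩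
      simp [zeta]
      ring
    · refine ⟨z' * X 1, ?_⟩
      have : zeta (g * X 1) = zeta g * X 1 := by simp [zeta]
      simp only [Fin.mk_one]
      rw [this]
      nth_rewrite 1 [h]
      ring

/-- `X₀` is a nonzerodivisor modulo `X₀X₁ - q` (`q ≠ 0`). -/
theorem X_mul_mem {q : ℤ} (hq : q ≠ 0) {y : MP} (h : X 0 * y ∈ relIdeal q) : y ∈ relIdeal q := by
  rw [relIdeal, Ideal.mem_span_singleton] at h ⊢
  obtain ⟨z, hz⟩ := h
  obtain ⟨z', hz'⟩ := exists_eq_X_mul_add_zeta z
  have h1 := congrArg zeta hz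
  have hζ0 : zeta (X 0) = 0 := by simp [zeta]
  have hζ1 : zeta (X 1) = X 1 := by simp [zeta]
  have hζC : zeta (C q) = C q := by simp [zeta]
  rw [map_mul, map_mul, map_sub, map_mul, hζ0, hζ1, hζC, zero_mul, zero_mul, zero_sub] at h1
  have hCq : (C q : MP) ≠ 0 := by
    rw [Ne, MvPolynomial.C_eq_zero]
    exact hq
  have hz0 : zeta z = 0 := by
    rcases mul_eq_zero.mp h1.symm with h | h
    · exact absurd (neg_eq_zero.mp h) hCq
    · exact h
  rw [hz0, add_zero] at hz'
  refine ⟨z', ?_⟩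
  have hX : (X 0 : MP) ≠ 0 := MvPolynomial.X_ne_zero 0
  apply mul_left_cancel₀ hX
  rw [hz, hz']
  ring

theorem X_pow_mul_mem {q : ℤ} (hq : q ≠ 0) (N : ℕ) {y : MP} (h : X 0 ^ N * y ∈ relIdeal q) :
    y ∈ relIdeal q := by
  induction N with
  | zero => simpa using h
  | succ n ih =>
    apply ih
    apply X_mul_mem hq
    rwa [← mul_assoc, ← pow_succ']

local notation "KK" => FractionRing (Polynomial ℤ)

/-- The transcendental `T ∈ Frac ℤ[X]`. -/
noncomputable def tt : KK := algebraMap (Polynomial ℤ) KK Polynomial.X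

theorem tt_ne_zero : tt ≠ 0 := by
  rw [tt, Ne, ← map_zero (algebraMap (Polynomial ℤ) KK)]
  intro h
  exact Polynomial.X_ne_zero (IsFractionRing.injective (Polynomial ℤ) KK h)

/-- `θ : ℤ[X₀,X₁] → Frac ℤ[T]`, `X₀ ↦ T`, `X₁ ↦ q/T`. -/
noncomputable def theta (q : ℤ) : MP →ₐ[ℤ] KK := MvPolynomial.aeval ![tt, (q : KK) / tt]

theorem theta_X0 (q : ℤ) : theta q (X 0) = tt := by simp [theta]

theorem theta_X1 (q : ℤ) : theta q (X 1) = (q : KK) / tt := by simp [theta]

theorem theta_rel (q : ℤ) : relIdeal q ≤ RingHom.ker (theta q) := by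
  rw [relIdeal, Ideal.span_le, Set.singleton_subset_iff]
  show theta q (X 0 * X 1 - C q) = 0
  rw [map_sub, map_mul, theta_X0, theta_X1, mul_div_cancel₀ _ tt_ne_zero]
  simp [theta]

theorem theta_aeval (q : ℤ) (G : Polynomial ℤ) :
    theta q (Polynomial.aeval (X 0 : MP) G) = algebraMap (Polynomial ℤ) KK G := by
  rw [← Polynomial.aeval_algHom_apply, theta_X0, tt, Polynomial.aeval_algebraMap_apply,
    Polynomial.aeval_X_left_apply]

theorem eq_zero_of_aeval_mem {q : ℤ} {G : Polynomial ℤ}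
    (h : Polynomial.aeval (X 0 : MP) G ∈ relIdeal q) : G = 0 := by
  have := theta_rel q h
  rw [RingHom.mem_ker, theta_aeval] at this
  exact IsFractionRing.injective (Polynomial ℤ) KK (by rw [this, map_zero])

theorem ker_theta {q : ℤ} (hq : q ≠ 0) : RingHom.ker (theta q) = relIdeal q := by
  apply le_antisymm _ (theta_rel q)
  intro g hg
  rw [RingHom.mem_ker] at hg
  obtain ⟨N, G, hNG⟩ := reduce q g
  have h1 := theta_rel q hNG
  rw [RingHom.mem_ker, map_sub, map_mul, hg, mul_zero, zero_sub, neg_eq_zero, theta_aeval] at h1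
  have hG : G = 0 := IsFractionRing.injective (Polynomial ℤ) KK (by rw [h1, map_zero])
  rw [hG, map_zero, sub_zero] at hNG
  exact X_pow_mul_mem hq N hNG

/-- If `θ(a) ≠ 0` then `a` is a nonzerodivisor modulo `X₀X₁ - q`. -/
theorem mem_of_mul_mem {q : ℤ} (hq : q ≠ 0) {a y : MP} (ha : theta q a ≠ 0)
    (h : a * y ∈ relIdeal q) : y ∈ relIdeal q := by
  rw [← ker_theta hq, RingHom.mem_ker] at h ⊢
  rw [map_mul] at h
  exact (mul_eq_zero.mp h).resolve_left ha

theorem pow_sub_mem (q : ℤ) (m : ℕ) : (X 0 * X 1 : MP) ^ m - C (q ^ m) ∈ relIdeal q := by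
  rw [relIdeal, Ideal.mem_span_singleton, map_pow]
  exact sub_dvd_pow_sub_pow _ _ m

/-- Claim A: any representation `X₀^N g ≡ G(X₀)` is admissible. -/
theorem adm_of_mem {q : ℤ} {N : ℕ} {g : MP} {G : Polynomial ℤ}
    (h : X 0 ^ N * g - Polynomial.aeval (X 0 : MP) G ∈ relIdeal q) : Adm q N G := by
  obtain ⟨N', G', h', a'⟩ := reduce' q g
  have h1 : Polynomial.aeval (X 0 : MP) (Polynomial.X ^ N * G' - Polynomial.X ^ N' * G)
      ∈ relIdeal q := by
    have : Polynomial.aeval (X 0 : MP) (Polynomial.X ^ N * G' - Polynomial.X ^ N' * G)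
        = X 0 ^ N' * (X 0 ^ N * g - Polynomial.aeval (X 0 : MP) G)
          - X 0 ^ N * (X 0 ^ N' * g - Polynomial.aeval (X 0 : MP) G') := by
      simp only [map_sub, map_mul, map_pow, Polynomial.aeval_X]; ring
    rw [this]
    exact Ideal.sub_mem _ (Ideal.mul_mem_left _ _ h) (Ideal.mul_mem_left _ _ h')
  have h2 : Polynomial.X ^ N * G' = Polynomial.X ^ N' * G := sub_eq_zero.mp (eq_zero_of_aeval_mem h1)
  intro j hj
  have h3 : G.coeff j = (Polynomial.X ^ N * G').coeff (j + N') := by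
    rw [h2, Polynomial.coeff_X_pow_mul]
  rw [h3, Polynomial.coeff_X_pow_mul']
  split_ifs with hle
  · have : N - j = N' - (j + N' - N) := by omega
    rw [this]
    exact a' _ (by omega)
  · exact dvd_zero _

/-- Claim B: admissible pairs are represented. -/
theorem exists_of_adm (q : ℤ) (N : ℕ) : ∀ (G : Polynomial ℤ), Adm q N G →
    ∃ g : MP, X 0 ^ N * g - Polynomial.aeval (X 0 : MP) G ∈ relIdeal q := by
  induction N with
  | zero =>
    intro G _
    exact ⟨Polynomial.aeval (X 0 : MP) G, by simp [relIdeal]⟩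
  | succ n ih =>
    intro G hG
    have hG1 : Adm q n G.divX := by
      intro j hj
      rw [Polynomial.coeff_divX]
      have := hG (j + 1) (by omega)
      have e : n + 1 - (j + 1) = n - j := by omega
      rwa [e] at this
    obtain ⟨g1, hg1⟩ := ih G.divX hG1
    obtain ⟨b, hb⟩ := hG 0 (Nat.succ_pos n)
    rw [Nat.sub_zero] at hb
    refine ⟨g1 + C b * X 1 ^ (n + 1), ?_⟩
    have : X 0 ^ (n + 1) * (g1 + C b * X 1 ^ (n + 1)) - Polynomial.aeval (X 0 : MP) G
        = X 0 * (X 0 ^ n * g1 - Polynomial.aeval (X 0 : MP) G.divX)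
          + C b * ((X 0 * X 1 : MP) ^ (n + 1) - C (q ^ (n + 1))) := by
      nth_rewrite 1 [← Polynomial.X_mul_divX_add G]
      rw [hb]
      simp only [map_add, map_mul, Polynomial.aeval_X, Polynomial.aeval_C,
        MvPolynomial.algebraMap_eq]
      ring
    rw [this]
    exact Ideal.add_mem _ (Ideal.mul_mem_left _ _ hg1) (Ideal.mul_mem_left _ _ (pow_sub_mem q _))

/-- Claim C: division by a polynomial with constant term `±q^D`. -/
theorem adm_of_mul {q : ℤ} (hq : q ≠ 0) {D : ℕ} {P : Polynomial ℤ} (hP : Adm q D P)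
    (h0 : P.coeff 0 = q ^ D ∨ P.coeff 0 = -q ^ D) (M : ℕ) (U : Polynomial ℤ)
    (hPU : Adm q (D + M) (P * U)) : Adm q M U := by
  intro j
  induction j using Nat.strong_induction_on with
  | _ j ih =>
    intro hj
    have h1 := hPU j (by omega)
    rw [Polynomial.coeff_mul, ← Finset.add_sum_erase _ _
      (show (0, j) ∈ Finset.HasAntidiagonal.antidiagonal j by simp)] at h1
    have h2 : q ^ (D + M - j) ∣ ∑ x ∈ (Finset.HasAntidiagonal.antidiagonal j).erase (0, j),
        P.coeff x.1 * U.coeff x.2 := by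
      apply Finset.dvd_sum
      rintro ⟨k, l⟩ hkl
      rw [Finset.mem_erase, Finset.HasAntidiagonal.mem_antidiagonal] at hkl
      obtain ⟨hne, hkl⟩ := hkl
      simp only at hkl
      have hk : 1 ≤ k := by
        rcases Nat.eq_zero_or_pos k with rfl | hk
        · exfalso; apply hne; simp at hkl; rw [hkl]
        · exact hk
      have hl := ih l (by omega) (by omega)
      show q ^ (D + M - j) ∣ P.coeff k * U.coeff l
      by_cases hkD : k < D
      · have hk' := hP k hkD
        have : D + M - j = (D - k) + (M - l) := by omega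
        rw [this, pow_add]
        exact mul_dvd_mul hk' hl
      · apply dvd_mul_of_dvd_right
        exact dvd_trans (pow_dvd_pow q (by omega)) hl
    have h3 := (dvd_add_left h2).mp h1
    simp only at h3
    have e : D + M - j = D + (M - j) := by omega
    rw [e, pow_add] at h3
    rcases h0 with h0 | h0
    · rw [h0] at h3
      exact (mul_dvd_mul_iff_left (pow_ne_zero D hq)).mp h3
    · rw [h0, neg_mul, dvd_neg] at h3
      exact (mul_dvd_mul_iff_left (pow_ne_zero D hq)).mp h3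

section Main

variable {ι : Type} [Fintype ι] {K : ι → Type u} [∀ i, Field (K i)] [∀ i, CharZero (K i)]

/-- The constant term of `P_w` is `±q^D` when all roots have absolute value `√q` and the degree
is `2D`. -/
theorem coeff_zero_prod (x : ℝ) (hx : 0 ≤ x) (π : ∀ i, K i)
    (hint : ∀ i, IsIntegral ℤ (π i))
    (hweil : ∀ i, ∀ z ∈ (minpoly ℤ (π i)).aroots ℂ, ‖z‖ = Real.sqrt x)
    (D : ℕ) (hD : ∑ i, (minpoly ℤ (π i)).natDegree = 2 * D) :
    |(((∏ i, minpoly ℤ (π i)).coeff 0 : ℤ) : ℝ)| = x ^ D := by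
  set P : Polynomial ℤ := ∏ i, minpoly ℤ (π i) with hPdef
  have hmonic : P.Monic := Polynomial.monic_prod_of_monic _ _ (fun i _ => minpoly.monic (hint i))
  have hdeg : P.natDegree = 2 * D := by
    rw [hPdef, Polynomial.natDegree_prod_of_monic _ _ (fun i _ => minpoly.monic (hint i)), hD]
  set Pc : Polynomial ℂ := P.map (algebraMap ℤ ℂ) with hPc
  have hPcmonic : Pc.Monic := hmonic.map _
  have hPcdeg : Pc.natDegree = 2 * D := by
    rw [hPc, hmonic.natDegree_map, hdeg]
  have hsplit : Pc.Splits := IsAlgClosed.splits Pc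
  have hroots : ∀ z ∈ Pc.roots, ‖z‖ = Real.sqrt x := by
    intro z hz
    rw [Polynomial.mem_roots hPcmonic.ne_zero, Polynomial.IsRoot.def, hPc, hPdef,
      Polynomial.map_prod, Polynomial.eval_prod, Finset.prod_eq_zero_iff] at hz
    obtain ⟨i, _, hi⟩ := hz
    apply hweil i z
    rw [Polynomial.mem_aroots]
    refine ⟨minpoly.ne_zero (hint i), ?_⟩
    rw [Polynomial.aeval_def, Polynomial.eval₂_eq_eval_map]
    exact hi
  have hcoeff : Pc.coeff 0 = Pc.roots.prod := by
    rw [hsplit.coeff_zero_eq_prod_roots_of_monic hPcmonic, hPcdeg, pow_mul]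
    simp
  have hnorm : ‖Pc.roots.prod‖ = x ^ D := by
    have h1 : ‖Pc.roots.prod‖ = (Pc.roots.map (fun z => ‖z‖)).prod :=
      map_multiset_prod (normHom : ℂ →*₀ ℝ) Pc.roots
    have h2 : Pc.roots.map (fun z => ‖z‖) = Multiset.replicate (2 * D) (Real.sqrt x) := by
      rw [Multiset.eq_replicate]
      refine ⟨?_, ?_⟩
      · rw [Multiset.card_map, ← hsplit.natDegree_eq_card_roots, hPcdeg]
      · intro b hb
        rw [Multiset.mem_map] at hb
        obtain ⟨z, hz, rfl⟩ := hb
        exact hroots z hz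
    rw [h1, h2, Multiset.prod_replicate, pow_mul, Real.sq_sqrt hx]
  have hc : Pc.coeff 0 = ((P.coeff 0 : ℤ) : ℂ) := by
    rw [hPc, Polynomial.coeff_map]
    rfl
  rw [← hnorm, ← hcoeff, hc, Complex.norm_intCast]

theorem psi_rel (q : ℤ) (π v : ∀ i, K i) (hv : ∀ i, π i * v i = (q : K i)) :
    relIdeal q ≤ RingHom.ker (MvPolynomial.aeval ![fun i => π i, fun i => v i] :
        MP →ₐ[ℤ] ((i : ι) → K i)) := by
  rw [relIdeal, Ideal.span_le, Set.singleton_subset_iff]
  show (MvPolynomial.aeval ![fun i => π i, fun i => v i] :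
        MP →ₐ[ℤ] ((i : ι) → K i)) (X 0 * X 1 - C q) = 0
  funext i
  simp [hv i]

theorem aeval_pi (π : ∀ i, K i) (G : Polynomial ℤ) (i : ι) :
    (Polynomial.aeval (fun i => π i) G : (i : ι) → K i) i = Polynomial.aeval (π i) G := by
  have := Polynomial.aeval_algHom_apply (Pi.evalAlgHom ℤ K i) (fun i => π i) G
  simpa using this.symm

theorem aeval_prod_eq_zero (π : ∀ i, K i) (i : ι) :
    Polynomial.aeval (π i) (∏ i, minpoly ℤ (π i)) = 0 := by
  obtain ⟨H, hH⟩ := Finset.dvd_prod_of_mem (fun i => minpoly ℤ (π i)) (Finset.mem_univ i)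
  rw [hH, map_mul, minpoly.aeval, zero_mul]

/-- The engine for S17984 with general `q`, `v`. -/
theorem main' (q : ℤ) (hq : q ≠ 0) (π v : ∀ i, K i) (hv : ∀ i, π i * v i = (q : K i))
    (hint : ∀ i, IsIntegral ℤ (π i))
    (hinj : ∀ i j, minpoly ℤ (π i) = minpoly ℤ (π j) → i = j)
    (D : ℕ)
    (h0 : (∏ i, minpoly ℤ (π i)).coeff 0 = q ^ D ∨ (∏ i, minpoly ℤ (π i)).coeff 0 = -q ^ D)
    (h : MP)
    (hh : X 0 ^ D * h - Polynomial.aeval (X 0 : MP) (∏ i, minpoly ℤ (π i)) ∈ relIdeal q) :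
    RingHom.ker (MvPolynomial.aeval ![fun i => π i, fun i => v i] :
        MP →ₐ[ℤ] ((i : ι) → K i)) = Ideal.span {X 0 * X 1 - C q, h} ∧
      RingTheory.Sequence.IsWeaklyRegular MP [X 0 * X 1 - C q, h] := by
  set P : Polynomial ℤ := ∏ i, minpoly ℤ (π i) with hPdef
  set ψ : MP →ₐ[ℤ] ((i : ι) → K i) := MvPolynomial.aeval ![fun i => π i, fun i => v i] with hψ
  have hψ0 : ψ (X 0) = fun i => π i := by simp [hψ]
  have hπ : ∀ i, π i ≠ 0 := by
    intro i hi
    have := hv i
    rw [hi, zero_mul] at this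
    exact hq (by exact_mod_cast this.symm)
  have hPmonic : P.Monic := Polynomial.monic_prod_of_monic _ _ (fun i _ => minpoly.monic (hint i))
  have hPadm : Adm q D P := adm_of_mem hh
  have hrel : relIdeal q ≤ RingHom.ker ψ := psi_rel q π v hv
  have hrelJ : relIdeal q ≤ Ideal.span {X 0 * X 1 - C q, h} := by
    rw [relIdeal]
    exact Ideal.span_mono (by simp)
  have hψP : ψ (Polynomial.aeval (X 0 : MP) P) = 0 := by
    rw [← Polynomial.aeval_algHom_apply, hψ0]
    funext i
    rw [aeval_pi]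
    exact aeval_prod_eq_zero π i
  have hψh : ψ h = 0 := by
    have h1 := hrel hh
    rw [RingHom.mem_ker, map_sub, hψP, sub_zero, map_mul, map_pow, hψ0] at h1
    funext i
    have h2 := congrFun h1 i
    simp only [Pi.mul_apply, Pi.pow_apply, Pi.zero_apply] at h2
    exact (mul_eq_zero.mp h2).resolve_left (pow_ne_zero D (hπ i))
  refine ⟨le_antisymm ?_ ?_, ?_⟩
  · -- `ker ψ ⊆ (r, h)`
    intro g hg
    rw [RingHom.mem_ker] at hg
    obtain ⟨N, G, hNG, hadm⟩ := reduce' q g
    have e1 := hrel hNG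
    rw [RingHom.mem_ker, map_sub, map_mul, hg, mul_zero, zero_sub, neg_eq_zero,
      ← Polynomial.aeval_algHom_apply, hψ0] at e1
    have hG : ∀ i, Polynomial.aeval (π i) G = 0 := by
      intro i
      rw [← aeval_pi, e1]
      rfl
    obtain ⟨H, hH⟩ := prod_minpoly_dvd π hint hinj G hG
    rw [← hPdef] at hH
    have hadm' : Adm q (D + N) (P * (Polynomial.X ^ D * H)) := by
      have := hadm.shift D
      rw [hH, add_comm] at this
      have e : Polynomial.X ^ D * (P * H) = P * (Polynomial.X ^ D * H) := by ring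
      rwa [e] at this
    have hU := adm_of_mul hq hPadm h0 N _ hadm'
    obtain ⟨w, hw⟩ := exists_of_adm q N _ hU
    have key : X 0 ^ (N + D) * (g - h * w) ∈ relIdeal q := by
      have : X 0 ^ (N + D) * (g - h * w)
          = X 0 ^ D * (X 0 ^ N * g - Polynomial.aeval (X 0 : MP) G)
            - (X 0 ^ D * h - Polynomial.aeval (X 0 : MP) P) * (X 0 ^ N * w)
            - Polynomial.aeval (X 0 : MP) P
              * (X 0 ^ N * w - Polynomial.aeval (X 0 : MP) (Polynomial.X ^ D * H)) := by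
        rw [hH]
        simp only [map_mul, map_pow, Polynomial.aeval_X]
        ring
      rw [this]
      exact Ideal.sub_mem _ (Ideal.sub_mem _ (Ideal.mul_mem_left _ _ hNG)
        (Ideal.mul_mem_right _ _ hh)) (Ideal.mul_mem_left _ _ hw)
    have key2 := hrelJ (X_pow_mul_mem hq _ key)
    have : g = (g - h * w) + h * w := by ring
    rw [this]
    exact Ideal.add_mem _ key2 (Ideal.mul_mem_right _ _ (Ideal.subset_span (by simp)))
  · -- `(r, h) ⊆ ker ψ`
    rw [Ideal.span_le]
    intro x hx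
    rcases hx with rfl | rfl
    · exact hrel (Ideal.subset_span rfl)
    · exact hψh
  · -- regular sequence
    rw [RingTheory.Sequence.isWeaklyRegular_cons_iff,
      RingTheory.Sequence.isWeaklyRegular_singleton_iff]
    have hmem : ∀ x : MP, x ∈ (X 0 * X 1 - C q : MP) • (⊤ : Submodule MP MP) ↔
        x ∈ relIdeal q := by
      intro x
      rw [Submodule.mem_smul_pointwise_iff_exists, relIdeal, Ideal.mem_span_singleton]
      constructor
      · rintro ⟨b, _, rfl⟩
        exact ⟨b, smul_eq_mul _ _⟩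
      · rintro ⟨b, rfl⟩
        exact ⟨b, trivial, smul_eq_mul _ _⟩
    refine ⟨?_, ?_⟩
    · have hr : (X 0 * X 1 - C q : MP) ≠ 0 := by
        intro h0
        have := congrArg (MvPolynomial.eval (fun _ => (0 : ℤ))) h0
        simp at this
        exact hq this
      exact (isLeftRegular_iff.mp (IsRegular.of_ne_zero hr).left)
    · rw [isSMulRegular_quotient_iff_mem_of_smul_mem]
      intro x hx
      rw [hmem] at hx ⊢
      have h1 : Polynomial.aeval (X 0 : MP) P * x ∈ relIdeal q := by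
        have : Polynomial.aeval (X 0 : MP) P * x
            = X 0 ^ D * (h • x) - (X 0 ^ D * h - Polynomial.aeval (X 0 : MP) P) * x := by
          rw [smul_eq_mul]; ring
        rw [this]
        exact Ideal.sub_mem _ (Ideal.mul_mem_left _ _ hx) (Ideal.mul_mem_right _ _ hh)
      refine mem_of_mul_mem hq ?_ h1
      rw [theta_aeval, Ne, ← map_zero (algebraMap (Polynomial ℤ) (FractionRing (Polynomial ℤ)))]
      intro h2
      exact hPmonic.ne_zero (IsFractionRing.injective _ _ h2)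

/-- The engine for S17984, in the exact shape of the statement. -/
theorem main (p e : ℕ) [Fact p.Prime]
    (π : ∀ i, K i)
    (hint : ∀ i, IsIntegral ℤ (π i))
    (hweil : ∀ i, ∀ z ∈ (minpoly ℤ (π i)).aroots ℂ, ‖z‖ = Real.sqrt ((p : ℝ) ^ e))
    (hinj : ∀ i j, minpoly ℤ (π i) = minpoly ℤ (π j) → i = j)
    (D : ℕ) (hD : ∑ i, (minpoly ℤ (π i)).natDegree = 2 * D)
    (h : MvPolynomial (Fin 2) ℤ)
    (hh : X 0 ^ D * h - Polynomial.aeval (X 0 : MvPolynomial (Fin 2) ℤ) (∏ i, minpoly ℤ (π i)) ∈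
      Ideal.span ({X 0 * X 1 - C ((p : ℤ) ^ e)} : Set (MvPolynomial (Fin 2) ℤ))) :
    RingHom.ker (MvPolynomial.aeval ![fun i => π i, fun i => ((p : K i) ^ e) / π i] :
        MvPolynomial (Fin 2) ℤ →ₐ[ℤ] ((i : ι) → K i)) =
        Ideal.span {X 0 * X 1 - C ((p : ℤ) ^ e), h} ∧
      RingTheory.Sequence.IsWeaklyRegular (MvPolynomial (Fin 2) ℤ)
        [X 0 * X 1 - C ((p : ℤ) ^ e), h] := by
  have hp : 0 < p := (Fact.out : p.Prime).pos
  have hr : 0 < Real.sqrt ((p : ℝ) ^ e) :=
    Real.sqrt_pos.mpr (pow_pos (Nat.cast_pos.mpr hp) e)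
  have hπ : ∀ i, π i ≠ 0 := fun i => ne_zero_of_weil (π i) (hint i) _ hr (hweil i)
  have hv : ∀ i, π i * (((p : K i) ^ e) / π i) = (((p : ℤ) ^ e : ℤ) : K i) := by
    intro i
    rw [← mul_div_assoc, mul_div_cancel_left₀ _ (hπ i)]
    push_cast
    rfl
  have hq : ((p : ℤ) ^ e) ≠ 0 := pow_ne_zero e (by exact_mod_cast hp.ne')
  have h0 : (∏ i, minpoly ℤ (π i)).coeff 0 = ((p : ℤ) ^ e) ^ D ∨
      (∏ i, minpoly ℤ (π i)).coeff 0 = -((p : ℤ) ^ e) ^ D := by
    have h1 := coeff_zero_prod ((p : ℝ) ^ e) (by positivity) π hint hweil D hD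
    have h2 : |(∏ i, minpoly ℤ (π i)).coeff 0| = ((p : ℤ) ^ e) ^ D := by
      exact_mod_cast h1
    exact (abs_eq (by positivity)).mp h2
  exact main' ((p : ℤ) ^ e) hq π (fun i => ((p : K i) ^ e) / π i) hv hint hinj D h0 h hh

end Main

end Groth.Agent.Lib.Seat87.WeilKer
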