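import Mathlib
import Groth.Agent.Lib.Seat87WeilKer
import Groth.Agent.Lib.Helper5KoszulGor
import Groth.Agent.Lib.Helper5IntDim

/-!
# The minimal central order `R_w` is a free Gorenstein `ℤ`-order of rank `2D` (engine for S17985)
-/

set_option autoImplicit false
universe u
open Polynomial

namespace Groth.Agent.Lib.Seat87.WeilOrd

open Groth.Agent.Lib.Seat87.WeilMod Groth.Agent.Lib.Seat87.WeilKer

section FunctionalEquation

/-- Functional equation of a Weil polynomial (evaluation form). -/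
theorem weil_eval (P : Polynomial ℤ) (hP : P.Monic) (x : ℝ) (hx : 0 < x)
    (hroots : ∀ z ∈ P.aroots ℂ, ‖z‖ = Real.sqrt x) (z : ℂ) (hz : z ≠ 0) :
    z ^ P.natDegree * Polynomial.aeval ((x : ℂ) / z) P
      = ((P.coeff 0 : ℤ) : ℂ) * Polynomial.aeval z P := by
  have hsplit : (P.map (algebraMap ℤ ℂ)).Splits := IsAlgClosed.splits _
  have hcard : Multiset.card (P.aroots ℂ) = P.natDegree := by
    rw [Polynomial.aroots, ← hsplit.natDegree_eq_card_roots, hP.natDegree_map]
  have hev : ∀ w : ℂ, Polynomial.aeval w P = ((P.aroots ℂ).map (w - ·)).prod :=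
    fun w => Polynomial.Splits.aeval_eq_prod_aroots_of_monic hsplit hP w
  have hconj : ∀ w : ℂ, (starRingEnd ℂ) (Polynomial.aeval w P) =
      Polynomial.aeval ((starRingEnd ℂ) w) P := by
    intro w
    have := Polynomial.aeval_algHom_apply ((starRingEnd ℂ).toIntAlgHom) w P
    exact this.symm
  have h0 : ((P.coeff 0 : ℤ) : ℂ) = ((P.aroots ℂ).map (fun a => -a)).prod := by
    have := hev 0
    rw [← Polynomial.coeff_zero_eq_aeval_zero' ] at this
    simpa using this
  have hzpow : z ^ P.natDegree = ((P.aroots ℂ).map (fun _ => z)).prod := by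
    rw [Multiset.map_const', Multiset.prod_replicate, hcard]
  have hmul : ∀ a ∈ P.aroots ℂ, a * (starRingEnd ℂ) a = (x : ℂ) := by
    intro a ha
    rw [Complex.mul_conj, Complex.normSq_eq_norm_sq, hroots a ha, Real.sq_sqrt hx.le]
  have hR : Polynomial.aeval z P = ((P.aroots ℂ).map (fun a => z - (starRingEnd ℂ) a)).prod := by
    have h1 := hconj ((starRingEnd ℂ) z)
    rw [Complex.conj_conj] at h1
    rw [← h1, hev, map_multiset_prod, Multiset.map_map]
    congr 1
    apply Multiset.map_congr rfl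
    intro a _
    simp
  rw [hev, hzpow, ← Multiset.prod_map_mul, h0, hR, ← Multiset.prod_map_mul]
  congr 1
  apply Multiset.map_congr rfl
  intro a ha
  have := hmul a ha
  rw [← this]
  field_simp
  ring

/-- Functional equation of a Weil polynomial (coefficient form). -/
theorem weil_coeff (P : Polynomial ℤ) (hP : P.Monic) (q : ℤ) (hq : 0 < q)
    (hroots : ∀ z ∈ P.aroots ℂ, ‖z‖ = Real.sqrt (q : ℝ)) (m : ℕ) (hm : m ≤ P.natDegree) :
    P.coeff (P.natDegree - m) * q ^ (P.natDegree - m) = P.coeff 0 * P.coeff m := by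
  set n := P.natDegree with hn
  have hq' : (0 : ℝ) < (q : ℝ) := by exact_mod_cast hq
  have hqc : (q : ℂ) ≠ 0 := by exact_mod_cast hq.ne'
  let Q : Polynomial ℂ := ∑ k ∈ Finset.range (n + 1),
    C (((P.coeff k : ℤ) : ℂ) * (q : ℂ) ^ k) * X ^ (n - k)
  let Pc : Polynomial ℂ := P.map (Int.castRingHom ℂ)
  have hQ : Q = C ((P.coeff 0 : ℤ) : ℂ) * Pc := by
    apply Polynomial.eq_of_infinite_eval_eq
    apply Set.Infinite.mono (s := {z : ℂ | z ≠ 0})
    · intro z hz
      have hz0 : z ≠ 0 := hz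
      have h1 := weil_eval P hP (q : ℝ) hq' hroots z hz
      show eval z Q = eval z (C ((P.coeff 0 : ℤ) : ℂ) * Pc)
      rw [eval_mul, eval_C]
      have h2 : eval z Pc = aeval z P := by
        rw [Polynomial.aeval_def, Polynomial.eval₂_eq_eval_map]
        rfl
      rw [h2, ← h1, Polynomial.aeval_eq_sum_range, Finset.mul_sum]
      show eval z (∑ k ∈ Finset.range (n + 1),
        C (((P.coeff k : ℤ) : ℂ) * (q : ℂ) ^ k) * X ^ (n - k)) = _
      rw [Polynomial.eval_finsetSum]
      apply Finset.sum_congr rfl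
      intro k hk
      have hk' : k ≤ n := Nat.lt_succ_iff.mp (Finset.mem_range.mp hk)
      rw [eval_mul, eval_C, eval_pow, eval_X]
      have e : z ^ n = z ^ (n - k) * z ^ k := by rw [← pow_add, Nat.sub_add_cancel hk']
      rw [e, zsmul_eq_mul, div_pow]
      push_cast
      field_simp
    · exact (Set.finite_singleton (0 : ℂ)).infinite_compl
  have hcoeff := congrArg (fun R : Polynomial ℂ => R.coeff m) hQ
  simp only [Pc, coeff_C_mul, coeff_map] at hcoeff
  have hQm : Q.coeff m = ((P.coeff (n - m) : ℤ) : ℂ) * (q : ℂ) ^ (n - m) := by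
    show (∑ k ∈ Finset.range (n + 1),
        C (((P.coeff k : ℤ) : ℂ) * (q : ℂ) ^ k) * X ^ (n - k)).coeff m = _
    rw [Polynomial.finsetSum_coeff, Finset.sum_eq_single (n - m)]
    · rw [coeff_C_mul_X_pow, if_pos (by omega)]
    · intro k hk hne
      have hk' : k ≤ n := Nat.lt_succ_iff.mp (Finset.mem_range.mp hk)
      rw [coeff_C_mul_X_pow, if_neg (by omega)]
    · intro h
      exfalso; apply h; rw [Finset.mem_range]; omega
  rw [hQm] at hcoeff
  have : ((P.coeff (n - m) * q ^ (n - m) : ℤ) : ℂ) = ((P.coeff 0 * P.coeff m : ℤ) : ℂ) := by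
    push_cast
    exact hcoeff
  exact_mod_cast this

/-- The functional equation forces admissibility. -/
theorem adm_of_funcEq (P : Polynomial ℤ) (q : ℤ) (hq : q ≠ 0) (D : ℕ)
    (hdeg : P.natDegree = 2 * D) (h0 : P.coeff 0 = q ^ D ∨ P.coeff 0 = -q ^ D)
    (hfe : ∀ m ≤ P.natDegree,
      P.coeff (P.natDegree - m) * q ^ (P.natDegree - m) = P.coeff 0 * P.coeff m) :
    Adm q D P := by
  intro j hj
  have h1 := hfe j (by omega)
  have e : P.natDegree - j = D + (D - j) := by omega
  rw [e, pow_add] at h1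
  have hqD : q ^ D ≠ 0 := pow_ne_zero D hq
  rcases h0 with h0 | h0
  · rw [h0] at h1
    have : P.coeff j = P.coeff (D + (D - j)) * q ^ (D - j) := by
      apply mul_left_cancel₀ hqD
      rw [← h1]; ring
    rw [this]
    exact dvd_mul_left _ _
  · rw [h0] at h1
    have : P.coeff j = -(P.coeff (D + (D - j)) * q ^ (D - j)) := by
      apply mul_left_cancel₀ hqD
      linear_combination h1
    rw [this, dvd_neg]
    exact dvd_mul_left _ _

/-- By the functional equation, `q / x` is again a root. -/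
theorem aeval_div_eq_zero {L : Type*} [Field L] (P : Polynomial ℤ) (q : ℤ)
    (hfe : ∀ m ≤ P.natDegree,
      P.coeff (P.natDegree - m) * q ^ (P.natDegree - m) = P.coeff 0 * P.coeff m)
    (x v : L) (hx : Polynomial.aeval x P = 0) (hv : x * v = (q : L)) (hq0 : (q : L) ≠ 0) :
    Polynomial.aeval v P = 0 := by
  set n := P.natDegree with hn
  have hx0 : x ≠ 0 := by
    rintro rfl
    rw [zero_mul] at hv
    exact hq0 hv.symm
  have key : x ^ n * Polynomial.aeval v P = ((P.coeff 0 : ℤ) : L) * Polynomial.aeval x P := by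
    rw [Polynomial.aeval_eq_sum_range, Polynomial.aeval_eq_sum_range, Finset.mul_sum,
      Finset.mul_sum, ← Finset.sum_range_reflect]
    apply Finset.sum_congr rfl
    intro k hk
    have hk' : k ≤ n := Nat.lt_succ_iff.mp (Finset.mem_range.mp hk)
    have e1 : n + 1 - 1 - k = n - k := by omega
    rw [e1, zsmul_eq_mul, zsmul_eq_mul]
    have h1 := hfe k hk'
    have h2 : ((P.coeff (n - k) : ℤ) : L) * (q : L) ^ (n - k)
        = ((P.coeff 0 : ℤ) : L) * ((P.coeff k : ℤ) : L) := by exact_mod_cast congrArg (Int.cast : ℤ → L) h1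
    have e2 : x ^ n = x ^ k * x ^ (n - k) := by rw [← pow_add, Nat.add_sub_cancel' hk']
    calc x ^ n * (((P.coeff (n - k) : ℤ) : L) * v ^ (n - k))
        = x ^ k * (((P.coeff (n - k) : ℤ) : L) * (x * v) ^ (n - k)) := by rw [e2, mul_pow]; ring
      _ = x ^ k * (((P.coeff 0 : ℤ) : L) * ((P.coeff k : ℤ) : L)) := by rw [hv, h2]
      _ = _ := by ring
  rw [hx, mul_zero] at key
  exact (mul_eq_zero.mp key).resolve_left (pow_ne_zero n hx0)

end FunctionalEquation

section General

open MvPolynomial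

local notation "MP" => MvPolynomial (Fin 2) ℤ

variable {E : Type u} [CommRing E]

/-- The image of `ℤ[X₀, X₁]` is a finite `ℤ`-module when both generators are integral. -/
theorem finite_range (F V : E) (hF : IsIntegral ℤ F) (hV : IsIntegral ℤ V) :
    Module.Finite ℤ (MvPolynomial.aeval ![F, V] : MP →ₐ[ℤ] E).range := by
  have h1 : (MvPolynomial.aeval ![F, V] : MP →ₐ[ℤ] E).range = Algebra.adjoin ℤ {F, V} := by
    rw [← Algebra.adjoin_range_eq_range_aeval]
    have : Set.range ![F, V] = {F, V} := by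
      ext x
      constructor
      · rintro ⟨i, rfl⟩
        fin_cases i <;> simp
      · rintro (rfl | rfl)
        · exact ⟨0, rfl⟩
        · exact ⟨1, rfl⟩
    rw [this]
  rw [h1]
  have hfg : (Subalgebra.toSubmodule (Algebra.adjoin ℤ ({F, V} : Set E))).FG :=
    fg_adjoin_of_finite (by simp) (by rintro x (rfl | rfl); exacts [hF, hV])
  exact Module.Finite.iff_fg.mpr hfg

/-- A power of `a` moves every element of `ℤ[F, V]` into `ℤ[F]` when `a • V ∈ ℤ[F]`. -/
theorem exists_pow_smul_mem (F V : E) (a : ℤ)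
    (haV : a • V ∈ (Polynomial.aeval F : ℤ[X] →ₐ[ℤ] E).range) (g : MP) :
    ∃ N : ℕ, a ^ N • (MvPolynomial.aeval ![F, V] g : E) ∈
      (Polynomial.aeval F : ℤ[X] →ₐ[ℤ] E).range := by
  induction g using MvPolynomial.induction_on with
  | C c =>
    refine ⟨0, ?_⟩
    rw [pow_zero, one_smul, MvPolynomial.aeval_C]
    exact Subalgebra.algebraMap_mem _ c
  | add g1 g2 h1 h2 =>
    obtain ⟨N1, h1⟩ := h1
    obtain ⟨N2, h2⟩ := h2
    refine ⟨N1 + N2, ?_⟩
    rw [map_add, smul_add]
    refine Subalgebra.add_mem _ ?_ ?_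
    · rw [pow_add, mul_comm, mul_smul]
      exact Subalgebra.smul_mem _ h1 _
    · rw [pow_add, mul_smul]
      exact Subalgebra.smul_mem _ h2 _
  | mul_X g i hg =>
    obtain ⟨N, hN⟩ := hg
    have hFmem : F ∈ (Polynomial.aeval F : ℤ[X] →ₐ[ℤ] E).range := ⟨Polynomial.X, by simp⟩
    fin_cases i
    · refine ⟨N, ?_⟩
      rw [map_mul, MvPolynomial.aeval_X]
      show a ^ N • ((MvPolynomial.aeval ![F, V] g : E) * F) ∈ _
      rw [← smul_mul_assoc]
      exact Subalgebra.mul_mem _ hN hFmem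
    · refine ⟨N + 1, ?_⟩
      rw [map_mul, MvPolynomial.aeval_X]
      show a ^ (N + 1) • ((MvPolynomial.aeval ![F, V] g : E) * V) ∈ _
      have e : a ^ (N + 1) • ((MvPolynomial.aeval ![F, V] g : E) * V)
          = (a ^ N • (MvPolynomial.aeval ![F, V] g : E)) * (a • V) := by
        rw [pow_succ, mul_smul, smul_mul_smul_comm, smul_smul, mul_comm]
      rw [e]
      exact Subalgebra.mul_mem _ hN haV

/-- Rank is insensitive to passing to a submodule with torsion quotient. -/
theorem finrank_eq_of_torsion {E' : Type u} [AddCommGroup E'] (M₀ M : Submodule ℤ E')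
    (hle : M₀ ≤ M) [Module.Finite ℤ M] (a : ℤ) (ha : a ≠ 0)
    (h : ∀ x ∈ M, ∃ N : ℕ, a ^ N • x ∈ M₀) :
    Module.finrank ℤ M = Module.finrank ℤ M₀ := by
  let N' : Submodule ℤ M := Submodule.comap M.subtype M₀
  have e : N' ≃ₗ[ℤ] M₀ := Submodule.comapSubtypeEquivOfLe hle
  have h1 := Submodule.finrank_quotient_add_finrank N'
  have h2 : Module.finrank ℤ (M ⧸ N') = 0 := by
    apply Module.finrank_eq_zero_of_rank_eq_zero
    rw [rank_eq_zero_iff]
    intro x
    obtain ⟨y, rfl⟩ := Submodule.Quotient.mk_surjective _ x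
    obtain ⟨n, hn⟩ := h y.1 y.2
    refine ⟨a ^ n, pow_ne_zero n ha, ?_⟩
    rw [← Submodule.Quotient.mk_smul, Submodule.Quotient.mk_eq_zero]
    exact hn
  rw [← h1, h2, zero_add, e.finrank_eq]

/-- `ℤ[F] ≅ ℤ[X]/(P)` has rank `deg P`. -/
theorem finrank_range_aeval (F : E) (P : ℤ[X]) (hP : P.Monic)
    (hker : RingHom.ker (Polynomial.aeval F : ℤ[X] →ₐ[ℤ] E) = Ideal.span {P}) :
    Module.finrank ℤ (Polynomial.aeval F : ℤ[X] →ₐ[ℤ] E).range = P.natDegree := by
  have e1 := Ideal.quotientKerEquivRange (Polynomial.aeval F : ℤ[X] →ₐ[ℤ] E)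
  have e2 := Ideal.quotientEquivAlgOfEq ℤ hker
  have e3 : AdjoinRoot P ≃ₗ[ℤ] (Polynomial.aeval F : ℤ[X] →ₐ[ℤ] E).range :=
    (e2.symm.trans e1).toLinearEquiv
  rw [← e3.finrank_eq, (AdjoinRoot.powerBasis' hP).finrank, AdjoinRoot.powerBasis'_dim]

/-- Krull dimension one for a finite `ℤ`-algebra containing `ℤ`. -/
theorem krullDim_eq_one (S : Type u) [CommRing S] [Module.Finite ℤ S]
    (hinj : Function.Injective (algebraMap ℤ S)) : ringKrullDim S = 1 := by
  haveI : Algebra.IsIntegral ℤ S := Algebra.IsIntegral.of_finite ℤ S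
  rw [Groth.Agent.Lib.Helper5.ringKrullDim_eq_of_isIntegral_of_injective ℤ S hinj]
  exact IsPrincipalIdealRing.ringKrullDim_eq_one ℤ Int.not_isField

/-- A quotient of a Gorenstein ring by a regular sequence of length two is Gorenstein. -/
theorem gor_of_ci {B : Type u} [CommRing B] [LocCoh.IsGorensteinRing B] (r h : B)
    (hr : IsSMulRegular B r)
    (hreg : ∀ x : B, h * x ∈ Ideal.span {r} → x ∈ Ideal.span {r}) :
    LocCoh.IsGorensteinRing (B ⧸ Ideal.span {r, h}) := by
  haveI := Groth.Agent.Lib.Helper5.GorRing.gorRing_quotient_of_regular r hr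
  have hreg' : IsSMulRegular (B ⧸ Ideal.span {r}) (Ideal.Quotient.mk (Ideal.span {r}) h) := by
    rw [isSMulRegular_iff_right_eq_zero_of_smul]
    intro x hx
    obtain ⟨x, rfl⟩ := Ideal.Quotient.mk_surjective x
    rw [smul_eq_mul, ← map_mul, Ideal.Quotient.eq_zero_iff_mem] at hx
    exact Ideal.Quotient.eq_zero_iff_mem.mpr (hreg x hx)
  haveI := Groth.Agent.Lib.Helper5.GorRing.gorRing_quotient_of_regular _ hreg'
  have h1 : (Ideal.span {h}).map (Ideal.Quotient.mk (Ideal.span {r}))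
      = Ideal.span {Ideal.Quotient.mk (Ideal.span {r}) h} := by
    rw [Ideal.map_span, Set.image_singleton]
  have h2 : Ideal.span {r} ⊔ Ideal.span {h} = Ideal.span {r, h} := by
    rw [← Ideal.span_union, Set.singleton_union]
  exact Groth.Agent.Lib.Helper5.GorRing.gorRing_of_ringEquiv
    ((Ideal.quotEquivOfEq h1.symm).trans
      ((DoubleQuot.quotQuotEquivQuotSup _ _).trans (Ideal.quotEquivOfEq h2)))

open scoped Pointwise in
/-- Unpacking a weakly regular sequence of length two. -/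
theorem regular_of_seq {B : Type*} [CommRing B] (r h : B)
    (hseq : RingTheory.Sequence.IsWeaklyRegular B [r, h]) :
    IsSMulRegular B r ∧ ∀ x : B, h * x ∈ Ideal.span {r} → x ∈ Ideal.span {r} := by
  rw [RingTheory.Sequence.isWeaklyRegular_cons_iff,
    RingTheory.Sequence.isWeaklyRegular_singleton_iff] at hseq
  obtain ⟨hr, hreg0⟩ := hseq
  rw [isSMulRegular_quotient_iff_mem_of_smul_mem] at hreg0
  have hmem : ∀ x : B, x ∈ r • (⊤ : Submodule B B) ↔ x ∈ Ideal.span {r} := by
    intro x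
    rw [Submodule.mem_smul_pointwise_iff_exists, Ideal.mem_span_singleton]
    constructor
    · rintro ⟨b, _, rfl⟩
      exact ⟨b, smul_eq_mul _ _⟩
    · rintro ⟨b, rfl⟩
      exact ⟨b, trivial, smul_eq_mul _ _⟩
  refine ⟨hr, fun x hx => ?_⟩
  rw [← hmem] at hx ⊢
  exact hreg0 x hx

/-- The image of a presentation `ℤ[X₀, X₁]/(r, h)` by a regular sequence is Gorenstein
(in any universe). -/
theorem gor_range (ψ : MP →ₐ[ℤ] E) (r h : MP) (hker : RingHom.ker ψ = Ideal.span {r, h})
    (hr : IsSMulRegular MP r)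
    (hreg : ∀ x : MP, h * x ∈ Ideal.span {r} → x ∈ Ideal.span {r}) :
    LocCoh.IsGorensteinRing ψ.range := by
  let σ : MP ≃+* MvPolynomial (Fin 2) (ULift.{u} ℤ) :=
    MvPolynomial.mapEquiv (Fin 2) (ULift.ringEquiv (R := ℤ)).symm
  haveI : IsRegularRing (ULift.{u} ℤ) := IsRegularRing.of_ringEquiv (ULift.ringEquiv (R := ℤ)).symm
  haveI : LocCoh.IsGorensteinRing (ULift.{u} ℤ) :=
    Groth.Agent.Lib.Helper5.GorRing.gorRing_of_isRegularRing _
  haveI : LocCoh.IsGorensteinRing (MvPolynomial (Fin 2) (ULift.{u} ℤ)) :=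
    Groth.Agent.Lib.Helper5.KoszulGor.gorRing_mvPolynomial _ 2
  have hr' : IsSMulRegular (MvPolynomial (Fin 2) (ULift.{u} ℤ)) (σ r) := by
    intro x y hxy
    obtain ⟨x, rfl⟩ := σ.surjective x
    obtain ⟨y, rfl⟩ := σ.surjective y
    simp only [smul_eq_mul, ← map_mul] at hxy
    exact congrArg σ (hr (σ.injective hxy))
  have hreg' : ∀ x, σ h * x ∈ Ideal.span {σ r} → x ∈ Ideal.span {σ r} := by
    intro x hx
    obtain ⟨x, rfl⟩ := σ.surjective x
    rw [← map_mul, Ideal.mem_span_singleton, map_dvd_iff] at hx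
    rw [Ideal.mem_span_singleton, map_dvd_iff]
    exact Ideal.mem_span_singleton.mp (hreg x (Ideal.mem_span_singleton.mpr hx))
  haveI := gor_of_ci (σ r) (σ h) hr' hreg'
  let f : MvPolynomial (Fin 2) (ULift.{u} ℤ) →+* ψ.range :=
    (ψ.rangeRestrict : MP →+* ψ.range).comp (σ.symm : MvPolynomial (Fin 2) (ULift.{u} ℤ) →+* MP)
  have hf : Function.Surjective f := ψ.rangeRestrict_surjective.comp σ.symm.surjective
  have hkerf : RingHom.ker f = Ideal.span {σ r, σ h} := by
    have e : Ideal.span {σ r, σ h} = (Ideal.span {r, h}).map (σ : MP →+* _) := by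
      rw [Ideal.map_span, Set.image_pair]
      rfl
    rw [e, Ideal.map_comap_of_equiv, ← hker]
    ext x
    rw [RingHom.mem_ker, Ideal.mem_comap, RingHom.mem_ker]
    show (ψ.rangeRestrict (σ.symm x) = 0) ↔ _
    rw [Subtype.ext_iff]
    rfl
  have e : (MvPolynomial (Fin 2) (ULift.{u} ℤ) ⧸ Ideal.span {σ r, σ h}) ≃+* ψ.range :=
    (Ideal.quotEquivOfEq hkerf.symm).trans (RingHom.quotientKerEquivOfSurjective hf)
  exact Groth.Agent.Lib.Helper5.GorRing.gorRing_of_ringEquiv
    (R := MvPolynomial (Fin 2) (ULift.{u} ℤ) ⧸ Ideal.span {σ r, σ h}) e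

end General

section Order

open MvPolynomial

variable {ι : Type} [Fintype ι] {K : ι → Type u} [∀ i, Field (K i)] [∀ i, CharZero (K i)]

local notation "MP" => MvPolynomial (Fin 2) ℤ

/-- Roots of the product are roots of a factor. -/
theorem norm_of_mem_aroots_prod (x : ℝ) (π : ∀ i, K i) (hint : ∀ i, IsIntegral ℤ (π i))
    (hweil : ∀ i, ∀ z ∈ (minpoly ℤ (π i)).aroots ℂ, ‖z‖ = Real.sqrt x) :
    ∀ z ∈ (∏ i, minpoly ℤ (π i)).aroots ℂ, ‖z‖ = Real.sqrt x := by
  intro z hz
  rw [Polynomial.mem_aroots, map_prod, Finset.prod_eq_zero_iff] at hz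
  obtain ⟨-, i, -, hi⟩ := hz
  apply hweil i z
  rw [Polynomial.mem_aroots]
  exact ⟨minpoly.ne_zero (hint i), hi⟩

/-- **The minimal central order** (engine for S17985), general `q` and `v`. -/
theorem order_main (q : ℤ) (hq : 0 < q) (π v : ∀ i, K i) (hv : ∀ i, π i * v i = (q : K i))
    (hint : ∀ i, IsIntegral ℤ (π i))
    (hweil : ∀ i, ∀ z ∈ (minpoly ℤ (π i)).aroots ℂ, ‖z‖ = Real.sqrt (q : ℝ))
    (hinj : ∀ i j, minpoly ℤ (π i) = minpoly ℤ (π j) → i = j)
    [Nonempty ι] (D : ℕ) (hD : ∑ i, (minpoly ℤ (π i)).natDegree = 2 * D) :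
    Module.Free ℤ (MvPolynomial.aeval ![fun i => π i, fun i => v i] :
        MP →ₐ[ℤ] ((i : ι) → K i)).range ∧
      Module.finrank ℤ (MvPolynomial.aeval ![fun i => π i, fun i => v i] :
        MP →ₐ[ℤ] ((i : ι) → K i)).range = 2 * D ∧
      ringKrullDim (MvPolynomial.aeval ![fun i => π i, fun i => v i] :
        MP →ₐ[ℤ] ((i : ι) → K i)).range = 1 ∧
      LocCoh.IsGorensteinRing (MvPolynomial.aeval ![fun i => π i, fun i => v i] :
        MP →ₐ[ℤ] ((i : ι) → K i)).range := by
  have hPmonic : (∏ i, minpoly ℤ (π i)).Monic :=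
    Polynomial.monic_prod_of_monic _ _ (fun i _ => minpoly.monic (hint i))
  have hPdeg : (∏ i, minpoly ℤ (π i)).natDegree = 2 * D := by
    rw [Polynomial.natDegree_prod_of_monic _ _ (fun i _ => minpoly.monic (hint i)), hD]
  have hq0 : q ≠ 0 := hq.ne'
  have hqR : (0 : ℝ) ≤ (q : ℝ) := by exact_mod_cast hq.le
  have hrootsP := norm_of_mem_aroots_prod (q : ℝ) π hint hweil
  have hfe := weil_coeff _ hPmonic q hq hrootsP
  have h0 : (∏ i, minpoly ℤ (π i)).coeff 0 = q ^ D ∨ (∏ i, minpoly ℤ (π i)).coeff 0 = -q ^ D := by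
    have h1 := coeff_zero_prod (q : ℝ) hqR π hint hweil D hD
    have h2 : |(∏ i, minpoly ℤ (π i)).coeff 0| = q ^ D := by exact_mod_cast h1
    exact (abs_eq (by positivity)).mp h2
  have ha0 : (∏ i, minpoly ℤ (π i)).coeff 0 ≠ 0 := by
    rcases h0 with h0 | h0 <;> rw [h0]
    · exact pow_ne_zero D hq0
    · exact neg_ne_zero.mpr (pow_ne_zero D hq0)
  have hadm : Adm q D (∏ i, minpoly ℤ (π i)) := adm_of_funcEq _ q hq0 D hPdeg h0 hfe
  obtain ⟨h, hh⟩ := exists_of_adm q D _ hadm
  obtain ⟨hker, hregseq⟩ := main' q hq0 π v hv hint hinj D h0 h hh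
  obtain ⟨hr, hreg⟩ := regular_of_seq _ _ hregseq
  -- integrality of the generators
  have hFP : Polynomial.aeval (fun i => π i : (i : ι) → K i) (∏ i, minpoly ℤ (π i)) = 0 := by
    funext i
    rw [WeilKer.aeval_pi]
    exact aeval_prod_eq_zero π i
  have hVP : Polynomial.aeval (fun i => v i : (i : ι) → K i) (∏ i, minpoly ℤ (π i)) = 0 := by
    funext i
    rw [WeilKer.aeval_pi]
    exact aeval_div_eq_zero _ q hfe (π i) (v i) (aeval_prod_eq_zero π i) (hv i)
      (by exact_mod_cast hq0)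
  have hFint : IsIntegral ℤ (fun i => π i : (i : ι) → K i) :=
    ⟨_, hPmonic, by rw [← Polynomial.aeval_def]; exact hFP⟩
  have hVint : IsIntegral ℤ (fun i => v i : (i : ι) → K i) :=
    ⟨_, hPmonic, by rw [← Polynomial.aeval_def]; exact hVP⟩
  haveI hfin : Module.Finite ℤ (MvPolynomial.aeval ![fun i => π i, fun i => v i] :
        MP →ₐ[ℤ] ((i : ι) → K i)).range :=
    finite_range (fun i => π i : (i : ι) → K i) (fun i => v i) hFint hVint
  haveI htf : Module.IsTorsionFree ℤ (MvPolynomial.aeval ![fun i => π i, fun i => v i] :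
        MP →ₐ[ℤ] ((i : ι) → K i)).range := inferInstance
  refine ⟨Module.free_of_finite_type_torsion_free', ?_, ?_, ?_⟩
  · -- rank
    have hkerF : RingHom.ker (Polynomial.aeval (fun i => π i : (i : ι) → K i) :
        ℤ[X] →ₐ[ℤ] ((i : ι) → K i)) = Ideal.span {∏ i, minpoly ℤ (π i)} := by
      ext G
      rw [RingHom.mem_ker, Ideal.mem_span_singleton]
      constructor
      · intro hG
        apply prod_minpoly_dvd π hint hinj G
        intro i
        rw [← WeilKer.aeval_pi, hG]
        rfl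
      · rintro ⟨H, rfl⟩
        rw [map_mul, hFP, zero_mul]
    have hrk := finrank_range_aeval (fun i => π i : (i : ι) → K i) _ hPmonic hkerF
    have hFV : (fun i => π i : (i : ι) → K i) * (fun i => v i) = algebraMap ℤ _ q := by
      funext i
      simp [hv i]
    have haV : (∏ i, minpoly ℤ (π i)).coeff 0 • (fun i => v i : (i : ι) → K i) ∈
        (Polynomial.aeval (fun i => π i : (i : ι) → K i) : ℤ[X] →ₐ[ℤ] ((i : ι) → K i)).range := by
      refine ⟨-(Polynomial.C q * (∏ i, minpoly ℤ (π i)).divX), ?_⟩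
      show Polynomial.aeval (fun i => π i : (i : ι) → K i)
        (-(Polynomial.C q * (∏ i, minpoly ℤ (π i)).divX)) = _
      have h1 := hFP
      rw [← Polynomial.X_mul_divX_add (∏ i, minpoly ℤ (π i)), map_add, map_mul,
        Polynomial.aeval_X, Polynomial.aeval_C] at h1
      have h2 : algebraMap ℤ ((i : ι) → K i) ((∏ i, minpoly ℤ (π i)).coeff 0)
          = -((fun i => π i : (i : ι) → K i) *
            Polynomial.aeval (fun i => π i : (i : ι) → K i) (∏ i, minpoly ℤ (π i)).divX) :=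
        eq_neg_of_add_eq_zero_right h1
      rw [map_neg, map_mul, Polynomial.aeval_C, ← hFV, Algebra.smul_def, h2]
      ring
    have hle : Subalgebra.toSubmodule (Polynomial.aeval (fun i => π i : (i : ι) → K i) :
          ℤ[X] →ₐ[ℤ] ((i : ι) → K i)).range ≤
        Subalgebra.toSubmodule (MvPolynomial.aeval ![fun i => π i, fun i => v i] :
          MP →ₐ[ℤ] ((i : ι) → K i)).range := by
      rintro x ⟨G, rfl⟩
      refine ⟨Polynomial.aeval (X 0 : MP) G, ?_⟩
      show (MvPolynomial.aeval ![fun i => π i, fun i => v i] :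
        MP →ₐ[ℤ] ((i : ι) → K i)) (Polynomial.aeval (X 0 : MP) G) = _
      rw [← Polynomial.aeval_algHom_apply]
      simp
    haveI : Module.Finite ℤ (Subalgebra.toSubmodule (MvPolynomial.aeval ![fun i => π i,
        fun i => v i] : MP →ₐ[ℤ] ((i : ι) → K i)).range) := hfin
    have hrk2 := finrank_eq_of_torsion _ _ hle _ ha0 (by
      rintro x ⟨g, rfl⟩
      exact exists_pow_smul_mem (fun i => π i : (i : ι) → K i) (fun i => v i) _ haV g)
    show Module.finrank ℤ (Subalgebra.toSubmodule (MvPolynomial.aeval ![fun i => π i,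
        fun i => v i] : MP →ₐ[ℤ] ((i : ι) → K i)).range) = 2 * D
    rw [hrk2, ← hPdeg]
    exact hrk
  · -- Krull dimension
    apply krullDim_eq_one
    intro a b hab
    have h1 := congrArg Subtype.val hab
    obtain ⟨i₀⟩ := (inferInstance : Nonempty ι)
    have h2 := congrFun h1 i₀
    have h3 : ((a : ℤ) : K i₀) = ((b : ℤ) : K i₀) := by simpa using h2
    exact_mod_cast h3
  · exact gor_range _ _ _ hker hr hreg

end Order

end Groth.Agent.Lib.Seat87.WeilOrd
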