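import Mathlib
import Groth.Agent.Lib.Seat87WeilOrd

/-!
# Ordinary Weil numbers and the middle coefficient (engine for S17987)

* `coeff_prod`: for a multiset `s` of elements of norm `≤ 1` in an ultrametric normed field, the
  lowest coefficient of `∏ (X - a)` of norm one sits at index `card s - #{‖a‖ = 1}`.
* `padic_unit_count`: the same for a monic integer polynomial and its roots in `PadicAlgCl p`.
* `even_natDegree`: a monic integer polynomial without real roots has even degree.
* `dvd_coeff_of_lt`: for a Weil `p^e`-polynomial of degree `2d`, `p ∣ a_m` for `m < d`.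
* `ordinary_iff`: half of the `p`-adic roots are units iff `p ∤ a_d`.
-/

set_option autoImplicit false
universe u
open Polynomial

namespace Groth.Agent.Lib.Seat87.WeilPadic

section Ultra

variable {L : Type*} [NormedField L] [IsUltrametricDist L]

theorem norm_sub_lt_one {x y : L} (hx : ‖x‖ < 1) (hy : ‖y‖ < 1) : ‖x - y‖ < 1 := by
  rw [sub_eq_add_neg]
  exact lt_of_le_of_lt (IsUltrametricDist.norm_add_le_max x (-y)) (max_lt hx (by rwa [norm_neg]))

theorem norm_sub_le_one {x y : L} (hx : ‖x‖ ≤ 1) (hy : ‖y‖ ≤ 1) : ‖x - y‖ ≤ 1 := by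
  rw [sub_eq_add_neg]
  exact le_trans (IsUltrametricDist.norm_add_le_max x (-y)) (max_le hx (by rwa [norm_neg]))

theorem norm_sub_eq_one_left {x y : L} (hx : ‖x‖ = 1) (hy : ‖y‖ < 1) : ‖x - y‖ = 1 := by
  rw [sub_eq_add_neg, IsUltrametricDist.norm_add_eq_max_of_norm_ne_norm
    (by rw [norm_neg, hx]; exact hy.ne'), norm_neg, hx, max_eq_left hy.le]

theorem norm_sub_eq_one_right {x y : L} (hx : ‖x‖ < 1) (hy : ‖y‖ = 1) : ‖x - y‖ = 1 := by
  rw [← norm_neg, neg_sub]; exact norm_sub_eq_one_left hy hx

/-- Lowest unit coefficient of a product of linear factors with integral roots. -/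
theorem coeff_prod (s : Multiset L) [DecidablePred fun z : L => ‖z‖ = 1]
    (hs : ∀ z ∈ s, ‖z‖ ≤ 1) :
    (∀ j, ‖((s.map (fun a => X - C a)).prod).coeff j‖ ≤ 1) ∧
    (∀ j, j + Multiset.card (s.filter (fun z => ‖z‖ = 1)) < Multiset.card s →
      ‖((s.map (fun a => X - C a)).prod).coeff j‖ < 1) ∧
    (∀ j, j + Multiset.card (s.filter (fun z => ‖z‖ = 1)) = Multiset.card s →
      ‖((s.map (fun a => X - C a)).prod).coeff j‖ = 1) := by
  induction s using Multiset.induction_on with
  | empty =>
    refine ⟨fun j => ?_, fun j hj => ?_, fun j hj => ?_⟩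
    · simp only [Multiset.map_zero, Multiset.prod_zero, coeff_one]
      split_ifs <;> simp
    · simp at hj
    · have : j = 0 := by simpa using hj
      subst this
      simp
  | cons a s ih =>
    have hs' : ∀ z ∈ s, ‖z‖ ≤ 1 := fun z hz => hs z (Multiset.mem_cons_of_mem hz)
    obtain ⟨ih1, ih2, ih3⟩ := ih hs'
    have ha : ‖a‖ ≤ 1 := hs a (Multiset.mem_cons_self a s)
    set f := (s.map (fun a => X - C a)).prod with hf
    have hprod : ((a ::ₘ s).map (fun a => X - C a)).prod = (X - C a) * f := by
      rw [Multiset.map_cons, Multiset.prod_cons]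
    have h0 : ((X - C a) * f).coeff 0 = - (a * f.coeff 0) := by
      rw [mul_coeff_zero]; simp
    have hS : ∀ j, ((X - C a) * f).coeff (j + 1) = f.coeff j - a * f.coeff (j + 1) :=
      fun j => coeff_X_sub_C_mul
    have hule : Multiset.card (s.filter (fun z => ‖z‖ = 1)) ≤ Multiset.card s :=
      Multiset.card_le_card (Multiset.filter_le _ _)
    have hmul_le : ∀ j, ‖a * f.coeff j‖ ≤ 1 := fun j => by
      rw [norm_mul]; exact mul_le_one₀ ha (norm_nonneg _) (ih1 j)
    rw [hprod, Multiset.filter_cons, Multiset.card_add, Multiset.card_cons]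
    by_cases hau : ‖a‖ = 1
    · rw [if_pos hau, Multiset.card_singleton]
      have hmul_eq : ∀ j, ‖a * f.coeff j‖ = ‖f.coeff j‖ := fun j => by
        rw [norm_mul, hau, one_mul]
      refine ⟨fun j => ?_, fun j hj => ?_, fun j hj => ?_⟩
      · cases j with
        | zero => rw [h0, norm_neg]; exact hmul_le 0
        | succ j => rw [hS]; exact norm_sub_le_one (ih1 j) (hmul_le _)
      · cases j with
        | zero =>
          rw [h0, norm_neg, hmul_eq]
          exact ih2 0 (by omega)
        | succ j =>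
          rw [hS]
          refine norm_sub_lt_one (ih2 j (by omega)) ?_
          rw [hmul_eq]
          exact ih2 (j + 1) (by omega)
      · cases j with
        | zero =>
          rw [h0, norm_neg, hmul_eq]
          exact ih3 0 (by omega)
        | succ j =>
          rw [hS]
          refine norm_sub_eq_one_right (ih2 j (by omega)) ?_
          rw [hmul_eq]
          exact ih3 (j + 1) (by omega)
    · rw [if_neg hau, Multiset.card_zero, zero_add]
      have hau' : ‖a‖ < 1 := lt_of_le_of_ne ha hau
      have hmul_lt : ∀ j, ‖a * f.coeff j‖ < 1 := fun j => by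
        rw [norm_mul]
        calc ‖a‖ * ‖f.coeff j‖ ≤ ‖a‖ * 1 :=
              mul_le_mul_of_nonneg_left (ih1 j) (norm_nonneg _)
          _ < 1 := by rwa [mul_one]
      refine ⟨fun j => ?_, fun j hj => ?_, fun j hj => ?_⟩
      · cases j with
        | zero => rw [h0, norm_neg]; exact hmul_le 0
        | succ j => rw [hS]; exact norm_sub_le_one (ih1 j) (hmul_le _)
      · cases j with
        | zero => rw [h0, norm_neg]; exact hmul_lt 0
        | succ j =>
          rw [hS]
          exact norm_sub_lt_one (ih2 j (by omega)) (hmul_lt _)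
      · cases j with
        | zero => omega
        | succ j =>
          rw [hS]
          exact norm_sub_eq_one_left (ih3 j (by omega)) (hmul_lt _)

end Ultra

section Padic

variable (p : ℕ) [Fact p.Prime]

theorem norm_intCast (a : ℤ) : ‖((a : ℤ) : PadicAlgCl p)‖ = ‖((a : ℤ) : ℚ_[p])‖ := by
  rw [← PadicAlgCl.norm_extends p ((a : ℤ) : ℚ_[p]), map_intCast]

theorem norm_le_one_of_isIntegral (x : PadicAlgCl p) (hx : IsIntegral ℤ x) : ‖x‖ ≤ 1 := by
  have h1 : IsIntegral (Valued.v (R := PadicAlgCl p)).integer x := hx.tower_top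
  have h2 := Valuation.Integers.mem_of_integral (Valuation.integer.integers _) h1
  rw [Valuation.mem_integer_iff, PadicAlgCl.valuation_def] at h2
  exact_mod_cast h2

/-- For a monic integer polynomial `P` with `u` unit roots in `PadicAlgCl p`, the coefficients
of index `< deg P - u` are divisible by `p`, the one of index `deg P - u` is not. -/
theorem padic_unit_count (P : ℤ[X]) (hP : P.Monic)
    [DecidablePred fun z : PadicAlgCl p => ‖z‖ = 1] :
    Multiset.card ((P.aroots (PadicAlgCl p)).filter (fun z => ‖z‖ = 1)) ≤ P.natDegree ∧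
    (∀ j, j + Multiset.card ((P.aroots (PadicAlgCl p)).filter (fun z => ‖z‖ = 1)) < P.natDegree →
        (p : ℤ) ∣ P.coeff j) ∧
    (∀ j, j + Multiset.card ((P.aroots (PadicAlgCl p)).filter (fun z => ‖z‖ = 1)) = P.natDegree →
        ¬ (p : ℤ) ∣ P.coeff j) := by
  have hsplit : (P.map (algebraMap ℤ (PadicAlgCl p))).Splits := IsAlgClosed.splits _
  have hcard : Multiset.card (P.aroots (PadicAlgCl p)) = P.natDegree := by
    rw [Polynomial.aroots, ← hsplit.natDegree_eq_card_roots, hP.natDegree_map]
  have hfac : P.map (algebraMap ℤ (PadicAlgCl p)) =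
      ((P.aroots (PadicAlgCl p)).map (fun a => X - C a)).prod :=
    hsplit.eq_prod_roots_of_monic (hP.map _)
  have hint : ∀ z ∈ P.aroots (PadicAlgCl p), ‖z‖ ≤ 1 := fun z hz =>
    norm_le_one_of_isIntegral p z ⟨P, hP, by
      rw [Polynomial.mem_aroots] at hz
      simpa [Polynomial.aeval_def] using hz.2⟩
  obtain ⟨-, h2, h3⟩ := coeff_prod (P.aroots (PadicAlgCl p)) hint
  have hcoeff : ∀ j, ‖((P.aroots (PadicAlgCl p)).map (fun a => X - C a)).prod.coeff j‖ =
      ‖((P.coeff j : ℤ) : ℚ_[p])‖ := by
    intro j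
    rw [← hfac, coeff_map, eq_intCast, norm_intCast]
  refine ⟨?_, fun j hj => ?_, fun j hj => ?_⟩
  · rw [← hcard]
    exact Multiset.card_le_card (Multiset.filter_le _ _)
  · rw [← Padic.norm_intCast_lt_one_iff, ← hcoeff]
    exact h2 j (by rwa [hcard])
  · rw [← Padic.norm_intCast_lt_one_iff, ← hcoeff, h3 j (by rwa [hcard])]
    exact lt_irrefl _

end Padic

section Complex

/-- A monic integer polynomial without real roots has even degree. -/
theorem even_natDegree (P : ℤ[X]) (hP : P.Monic) (hnr : ∀ z ∈ P.aroots ℂ, z.im ≠ 0) :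
    Even P.natDegree := by
  classical
  have hsplit : (P.map (algebraMap ℤ ℂ)).Splits := IsAlgClosed.splits _
  have hcard : Multiset.card (P.aroots ℂ) = P.natDegree := by
    rw [Polynomial.aroots, ← hsplit.natDegree_eq_card_roots, hP.natDegree_map]
  have hconj : (P.aroots ℂ).map (starRingEnd ℂ) = P.aroots ℂ := by
    unfold Polynomial.aroots
    rw [Polynomial.roots_map_of_injective_of_card_eq_natDegree (starRingEnd ℂ).injective
      hsplit.natDegree_eq_card_roots.symm, Polynomial.map_map]
    congr 2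
    exact RingHom.ext_int _ _
  have hsum : P.aroots ℂ = (P.aroots ℂ).filter (fun z => 0 < z.im) +
      (P.aroots ℂ).filter (fun z => ¬ 0 < z.im) := (Multiset.filter_add_not _ _).symm
  have hneg : (P.aroots ℂ).filter (fun z => ¬ 0 < z.im) =
      ((P.aroots ℂ).filter (fun z => 0 < z.im)).map (starRingEnd ℂ) := by
    conv_lhs => rw [← hconj]
    rw [Multiset.filter_map]
    congr 1
    apply Multiset.filter_congr
    intro z hz
    have := hnr z hz
    simp only [Function.comp, Complex.conj_im]
    constructor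
    · intro h
      rcases lt_or_gt_of_ne this with h' | h'
      · exact absurd (by linarith : 0 < -z.im) h
      · exact h'
    · intro h h'
      linarith
  have h2 : Multiset.card (P.aroots ℂ) =
      2 * Multiset.card ((P.aroots ℂ).filter (fun z => 0 < z.im)) := by
    conv_lhs => rw [hsum, hneg]
    rw [Multiset.card_add, Multiset.card_map]
    ring
  rw [← hcard, h2]
  exact even_two_mul _

/-- For a Weil `p^e`-polynomial of degree `2d`, the coefficients below the middle are divisible
by `p`. -/
theorem dvd_coeff_of_lt (p e : ℕ) (he : 0 < e) (hp : 0 < p) (P : ℤ[X]) (hP : P.Monic)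
    (hroots : ∀ z ∈ P.aroots ℂ, ‖z‖ = Real.sqrt ((p : ℝ) ^ e)) (d : ℕ)
    (hd : P.natDegree = 2 * d) (m : ℕ) (hm : m < d) : (p : ℤ) ∣ P.coeff m := by
  set q : ℤ := (p : ℤ) ^ e with hq
  have hp' : (0 : ℤ) < (p : ℤ) := by exact_mod_cast hp
  have hq0 : 0 < q := pow_pos hp' e
  have hroots' : ∀ z ∈ P.aroots ℂ, ‖z‖ = Real.sqrt (q : ℝ) := by
    intro z hz
    rw [hroots z hz, hq]
    push_cast
    rfl
  have h0 := WeilOrd.weil_coeff P hP q hq0 hroots' 0 (Nat.zero_le _)
  rw [Nat.sub_zero, hP.coeff_natDegree, one_mul, hd] at h0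
  have hsq : (P.coeff 0) ^ 2 = (q ^ d) ^ 2 := by
    rw [sq, ← h0]; ring
  have hm' := WeilOrd.weil_coeff P hP q hq0 hroots' m (by omega)
  rw [hd] at hm'
  have hexp : 2 * d - m = d + (d - m) := by omega
  have hqd : q ^ d ≠ 0 := pow_ne_zero _ hq0.ne'
  have hpq : (p : ℤ) ∣ q ^ (d - m) :=
    dvd_pow (dvd_pow_self _ he.ne') (by omega)
  rw [hexp, pow_add] at hm'
  rcases sq_eq_sq_iff_eq_or_eq_neg.1 hsq with h | h
  · rw [h] at hm'
    have : P.coeff m = P.coeff (d + (d - m)) * q ^ (d - m) := by
      apply mul_left_cancel₀ hqd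
      rw [← hm']; ring
    rw [this]
    exact Dvd.dvd.mul_left hpq _
  · rw [h] at hm'
    have : P.coeff m = - (P.coeff (d + (d - m)) * q ^ (d - m)) := by
      apply mul_left_cancel₀ hqd
      linear_combination hm'
    rw [this]
    exact (Dvd.dvd.mul_left hpq _).neg_right

end Complex

/-- A Weil `p^e`-polynomial without real roots is ordinary iff `p` does not divide its middle
coefficient. -/
theorem ordinary_iff (p e : ℕ) [Fact p.Prime] (he : 0 < e) (P : ℤ[X]) (hP : P.Monic)
    (hroots : ∀ z ∈ P.aroots ℂ, ‖z‖ = Real.sqrt ((p : ℝ) ^ e))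
    (hnr : ∀ z ∈ P.aroots ℂ, z.im ≠ 0)
    [DecidablePred fun z : PadicAlgCl p => ‖z‖ = 1] :
    2 * Multiset.card ((P.aroots (PadicAlgCl p)).filter (fun z => ‖z‖ = 1)) = P.natDegree ↔
      ¬ (p : ℤ) ∣ P.coeff (P.natDegree / 2) := by
  obtain ⟨d, hd⟩ := even_natDegree P hP hnr
  have hd' : P.natDegree = 2 * d := by omega
  have hhalf : P.natDegree / 2 = d := by omega
  obtain ⟨hun, h2, h3⟩ := padic_unit_count p P hP
  have hule : Multiset.card ((P.aroots (PadicAlgCl p)).filter (fun z => ‖z‖ = 1)) ≤ d := by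
    by_contra hlt
    have := h3 (P.natDegree -
      Multiset.card ((P.aroots (PadicAlgCl p)).filter (fun z => ‖z‖ = 1))) (by omega)
    exact this (dvd_coeff_of_lt p e he (Fact.out : p.Prime).pos P hP hroots d hd' _ (by omega))
  rw [hhalf]
  constructor
  · intro h
    exact h3 d (by omega)
  · intro h
    by_contra hne
    exact h (h2 d (by omega))

end Groth.Agent.Lib.Seat87.WeilPadic
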