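import Mathlib.RingTheory.Regular.RegularSequence
import Mathlib.RingTheory.QuotSMulTop
import Mathlib.RingTheory.Noetherian.Basic

/-!
# An elementary acyclicity lemma along a regular sequence

Let `M_e → ⋯ → M_1 → M_0` be a complex of finite modules over a Noetherian ring `R`
(indexed by all of `ℕ`, with `d i = 0` for `i ≥ e`), and `rs` a sequence of length `e` that is
weakly regular on every `M i`.  If every homology class in positive degree is killed by a power of
every element of `rs`, then the complex is exact in positive degrees.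
The proof is an induction on `rs`, passing to the complex `M_{•+1} / x M_{•+1}`.
-/

set_option autoImplicit false
universe u v

namespace Groth.Agent.Lib.Seat88.Acyclic

open RingTheory.Sequence Pointwise

variable {R : Type u} [CommRing R]

/-- membership in `x • ⊤`. -/
theorem mem_smul_top_iff {M : Type v} [AddCommGroup M] [Module R M] (x : R) (m : M) :
    m ∈ (x • (⊤ : Submodule R M)) ↔ ∃ g : M, x • g = m := by
  rw [Submodule.mem_smul_pointwise_iff_exists]
  constructor
  · rintro ⟨g, -, hg⟩; exact ⟨g, hg⟩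
  · rintro ⟨g, hg⟩; exact ⟨g, Submodule.mem_top, hg⟩

/-- A class in `QuotSMulTop x M` vanishes iff the element is a multiple of `x`. -/
theorem mk_eq_zero_iff {M : Type v} [AddCommGroup M] [Module R M] (x : R) (m : M) :
    (Submodule.Quotient.mk m : QuotSMulTop x M) = 0 ↔ ∃ g : M, x • g = m := by
  rw [Submodule.Quotient.mk_eq_zero, mem_smul_top_iff]

/-- If `K ≤ x • K ⊔ B`, then `K ≤ x ^ n • K ⊔ B`. -/
theorem le_pow_smul_sup {M : Type v} [AddCommGroup M] [Module R M] (x : R)
    (K B : Submodule R M) (h : ∀ z ∈ K, ∃ z₁ ∈ K, ∃ b ∈ B, z = x • z₁ + b) (n : ℕ) :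
    ∀ z ∈ K, ∃ z₁ ∈ K, ∃ b ∈ B, z = x ^ n • z₁ + b := by
  induction n with
  | zero =>
    intro z hz
    exact ⟨z, hz, 0, B.zero_mem, by simp⟩
  | succ n ih =>
    intro z hz
    obtain ⟨z₁, hz₁, b, hb, rfl⟩ := ih z hz
    obtain ⟨z₂, hz₂, b', hb', rfl⟩ := h z₁ hz₁
    refine ⟨z₂, hz₂, x ^ n • b' + b, B.add_mem (B.smul_mem _ hb') hb, ?_⟩
    rw [smul_add, smul_smul, pow_succ, add_assoc]

/-- A finitely generated submodule each of whose elements is pushed into `B` by a power of `x`
is pushed into `B` by one power of `x`. -/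
theorem exists_pow_smul_le {M : Type v} [AddCommGroup M] [Module R M] (x : R)
    (K B : Submodule R M) (hK : K.FG) (h : ∀ z ∈ K, ∃ n : ℕ, x ^ n • z ∈ B) :
    ∃ n : ℕ, ∀ z ∈ K, x ^ n • z ∈ B := by
  obtain ⟨S, rfl⟩ := hK
  classical
  induction S using Finset.induction_on with
  | empty =>
    refine ⟨0, fun z hz => ?_⟩
    simp only [Finset.coe_empty, Submodule.span_empty, Submodule.mem_bot] at hz
    simp [hz]
  | insert a S _ ih =>
    have hsub : Submodule.span R (S : Set M) ≤ Submodule.span R ((insert a S : Finset M) : Set M) :=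
      Submodule.span_mono (by simp)
    obtain ⟨n₁, hn₁⟩ := ih (fun z hz => h z (hsub hz))
    obtain ⟨n₂, hn₂⟩ := h a (Submodule.subset_span (by simp))
    refine ⟨n₁ + n₂, fun z hz => ?_⟩
    rw [Finset.coe_insert, Submodule.mem_span_insert] at hz
    obtain ⟨c, y, hy, rfl⟩ := hz
    rw [smul_add]
    refine B.add_mem ?_ ?_
    · rw [smul_comm, pow_add, mul_smul]
      exact B.smul_mem _ (B.smul_mem _ hn₂)
    · rw [pow_add, mul_comm, mul_smul]
      exact B.smul_mem _ (hn₁ y hy)

/-- The abstract acyclicity lemma. -/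
theorem exact_of_torsion [IsNoetherianRing R] (rs : List R) :
    ∀ (M : ℕ → Type v) [∀ i, AddCommGroup (M i)] [∀ i, Module R (M i)]
      [∀ i, Module.Finite R (M i)] (d : ∀ i, M (i + 1) →ₗ[R] M i)
      (_hd : ∀ i, d i ∘ₗ d (i + 1) = 0)
      (_hvan : ∀ i, rs.length ≤ i → d i = 0)
      (_hreg : ∀ i, IsWeaklyRegular (M i) rs)
      (_htors : ∀ i, i < rs.length → ∀ z ∈ LinearMap.ker (d i), ∀ x ∈ rs,
        ∃ n : ℕ, x ^ n • z ∈ LinearMap.range (d (i + 1))),
      ∀ i, i < rs.length → LinearMap.ker (d i) = LinearMap.range (d (i + 1)) := by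
  induction rs with
  | nil =>
    intro M _ _ _ d _ _ _ _ i hi
    simp at hi
  | cons x rs ih =>
    intro M _ _ _ d hd hvan hreg htors
    have hdd : ∀ i (f : M (i + 1 + 1)), d i (d (i + 1) f) = 0 := fun i f => by
      have := LinearMap.congr_fun (hd i) f
      simpa using this
    have hxreg : ∀ i, IsSMulRegular (M i) x := fun i =>
      ((isWeaklyRegular_cons_iff (M i) x rs).mp (hreg i)).1
    have hcancel : ∀ i (a b : M i), x • a = x • b → a = b := fun i a b h => hxreg i h
    have hzero : ∀ i (a : M i), x • a = 0 → a = 0 := fun i a h =>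
      hcancel i a 0 (by rw [h, smul_zero])
    -- the quotient complex
    let N : ℕ → Type v := fun j => QuotSMulTop x (M (j + 1))
    let d' : ∀ j, N (j + 1) →ₗ[R] N j := fun j => QuotSMulTop.map x (d (j + 1))
    have hd' : ∀ j, d' j ∘ₗ d' (j + 1) = 0 := fun j => by
      show QuotSMulTop.map x (d (j + 1)) ∘ₗ QuotSMulTop.map x (d (j + 1 + 1)) = 0
      rw [← QuotSMulTop.map_comp, hd (j + 1), map_zero]
    have hvan' : ∀ j, rs.length ≤ j → d' j = 0 := fun j hj => by
      show QuotSMulTop.map x (d (j + 1)) = 0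
      rw [hvan (j + 1) (by simpa using hj), map_zero]
    have hreg' : ∀ j, IsWeaklyRegular (N j) rs := fun j =>
      ((isWeaklyRegular_cons_iff (M (j + 1)) x rs).mp (hreg (j + 1))).2
    have htors' : ∀ j, j < rs.length → ∀ z ∈ LinearMap.ker (d' j), ∀ y ∈ rs,
        ∃ n : ℕ, y ^ n • z ∈ LinearMap.range (d' (j + 1)) := by
      intro j hj z hz y hy
      obtain ⟨f, rfl⟩ := Submodule.Quotient.mk_surjective _ z
      have hz' : (Submodule.Quotient.mk (d (j + 1) f) : QuotSMulTop x (M (j + 1))) = 0 := hz
      obtain ⟨g, hg⟩ := (mk_eq_zero_iff x _).mp hz'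
      -- `g` is a cycle
      have hgc : g ∈ LinearMap.ker (d j) := by
        rw [LinearMap.mem_ker]
        apply hzero
        rw [← map_smul, hg, hdd]
      have hyrs : y ∈ x :: rs := List.mem_cons_of_mem _ hy
      obtain ⟨n, f', hf'⟩ := htors j (by simp; omega) g hgc y hyrs
      -- `y ^ n • f - x • f'` is a cycle
      have hc : y ^ n • f - x • f' ∈ LinearMap.ker (d (j + 1)) := by
        rw [LinearMap.mem_ker, map_sub, map_smul, map_smul, hf', ← hg, smul_comm, sub_self]
      obtain ⟨n', f'', hf''⟩ := htors (j + 1) (by simp; omega) _ hc y hyrs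
      refine ⟨n' + n, Submodule.Quotient.mk f'', ?_⟩
      show (Submodule.Quotient.mk (d (j + 1 + 1) f'') : QuotSMulTop x (M (j + 1 + 1))) =
        y ^ (n' + n) • Submodule.Quotient.mk f
      rw [← Submodule.Quotient.mk_smul, ← sub_eq_zero, ← Submodule.Quotient.mk_sub, mk_eq_zero_iff]
      refine ⟨- (y ^ n' • f'), ?_⟩
      rw [hf'', smul_sub, pow_add, mul_smul, smul_neg, smul_comm x]
      abel
    have IH := ih N d' hd' hvan' hreg' htors'
    -- key step in degree zero
    have hkey : ∀ z : M 1, x • z ∈ LinearMap.range (d 1) → z ∈ LinearMap.range (d 1) := by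
      rintro z ⟨w, hw⟩
      by_cases hlen : 0 < rs.length
      · have hwc : (Submodule.Quotient.mk w : N 1) ∈ LinearMap.ker (d' 0) := by
          rw [LinearMap.mem_ker]
          show (Submodule.Quotient.mk (d 1 w) : QuotSMulTop x (M 1)) = 0
          rw [mk_eq_zero_iff]
          exact ⟨z, hw.symm⟩
        rw [IH 0 hlen] at hwc
        obtain ⟨v', hv'⟩ := hwc
        obtain ⟨v, rfl⟩ := Submodule.Quotient.mk_surjective _ v'
        have hv'' : (Submodule.Quotient.mk (d 2 v) : QuotSMulTop x (M 2)) =
            Submodule.Quotient.mk w := hv'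
        rw [← sub_eq_zero, ← Submodule.Quotient.mk_sub, mk_eq_zero_iff] at hv''
        obtain ⟨w₁, hw₁⟩ := hv''
        refine ⟨- w₁, ?_⟩
        apply hcancel
        rw [← hw, ← map_smul, smul_neg, hw₁, neg_sub, map_sub, hdd, sub_zero]
      · have h1 : d 1 = 0 := hvan 1 (by simp at hlen ⊢; omega)
        rw [h1] at hw
        have : z = 0 := hzero _ z (by rw [← hw]; simp)
        rw [this]
        exact Submodule.zero_mem _
    intro i hi
    have hle : LinearMap.range (d (i + 1)) ≤ LinearMap.ker (d i) := by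
      rintro _ ⟨f, rfl⟩
      exact hdd i f
    refine le_antisymm ?_ hle
    intro z hz
    rcases i with _ | j
    · -- degree zero
      obtain ⟨n, hn⟩ := htors 0 hi z hz x (List.mem_cons_self)
      induction n with
      | zero => simpa using hn
      | succ n ihn =>
        apply ihn
        apply hkey
        rwa [← mul_smul, ← pow_succ']
    · -- higher degree
      have hj : j < rs.length := by simpa using hi
      have hstep : ∀ z ∈ LinearMap.ker (d (j + 1)), ∃ z₁ ∈ LinearMap.ker (d (j + 1)),
          ∃ b ∈ LinearMap.range (d (j + 1 + 1)), z = x • z₁ + b := by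
        intro z hz
        have hzc : (Submodule.Quotient.mk z : N (j + 1)) ∈ LinearMap.ker (d' j) := by
          rw [LinearMap.mem_ker]
          show (Submodule.Quotient.mk (d (j + 1) z) : QuotSMulTop x (M (j + 1))) = 0
          rw [LinearMap.mem_ker.mp hz, Submodule.Quotient.mk_zero]
        rw [IH j hj] at hzc
        obtain ⟨w', hw'⟩ := hzc
        obtain ⟨w, rfl⟩ := Submodule.Quotient.mk_surjective _ w'
        have hw'' : (Submodule.Quotient.mk (d (j + 1 + 1) w) : QuotSMulTop x (M (j + 1 + 1))) =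
            Submodule.Quotient.mk z := hw'
        rw [← sub_eq_zero, ← Submodule.Quotient.mk_sub, mk_eq_zero_iff] at hw''
        obtain ⟨z₁, hz₁⟩ := hw''
        refine ⟨- z₁, ?_, d (j + 1 + 1) w, ⟨w, rfl⟩, ?_⟩
        · rw [LinearMap.mem_ker, map_neg, neg_eq_zero]
          apply hzero
          rw [← map_smul, hz₁, map_sub, hdd, LinearMap.mem_ker.mp hz, sub_zero]
        · rw [smul_neg, hz₁]; abel
      have hfg : (LinearMap.ker (d (j + 1))).FG := IsNoetherian.noetherian _
      obtain ⟨n, hn⟩ := exists_pow_smul_le x (LinearMap.ker (d (j + 1)))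
        (LinearMap.range (d (j + 1 + 1))) hfg
        (fun z hz => htors (j + 1) hi z hz x List.mem_cons_self)
      obtain ⟨z₁, hz₁, b, hb, rfl⟩ := le_pow_smul_sup x _ _ hstep n z hz
      exact Submodule.add_mem _ (hn z₁ hz₁) hb

end Groth.Agent.Lib.Seat88.Acyclic
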