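import Mathlib.LinearAlgebra.Matrix.ToLin
import Mathlib.RingTheory.Localization.AtPrime.Basic
import Mathlib.RingTheory.Localization.Integer
import Mathlib.RingTheory.Ideal.Colon
import Mathlib.RingTheory.Ideal.MinimalPrime.Basic
import Mathlib.RingTheory.LocalRing.MaximalIdeal.Basic
import Groth.Agent.Lib.Seat88Acyclic

/-!
# From exactness of localized matrix complexes to torsion homology

If `z` is a cycle of a two-step complex of matrices `B`, `A` over `R` and the localized complex is
exact at a prime `p`, then some `s ∉ p` moves `z` into the range of `B`.  Consequently, if this holds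
for all primes not containing `x`, a power of `x` moves `z` into the range of `B`.
-/

set_option autoImplicit false
universe u

namespace Groth.Agent.Lib.Seat88.AcyclicLoc

open Matrix

variable {R : Type u} [CommRing R]

/-- the localization map applied to `mulVec`. -/
theorem map_mulVec_comp {S : Type*} [CommRing S] (φ : R →+* S) {a b : ℕ}
    (A : Matrix (Fin a) (Fin b) R) (v : Fin b → R) :
    (A.map φ) *ᵥ (φ ∘ v) = φ ∘ (A *ᵥ v) := by
  funext i
  exact (RingHom.map_mulVec φ A v i).symm

/-- One prime: a cycle is moved into the range by an element outside the prime. -/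
theorem exists_smul_mem_range_of_loc {a b c : ℕ}
    (A : Matrix (Fin a) (Fin b) R) (B : Matrix (Fin b) (Fin c) R)
    (p : Ideal R) [p.IsPrime]
    (h : LinearMap.ker ((A.map (algebraMap R (Localization.AtPrime p))).mulVecLin) ≤
      LinearMap.range ((B.map (algebraMap R (Localization.AtPrime p))).mulVecLin))
    (z : Fin b → R) (hz : z ∈ LinearMap.ker A.mulVecLin) :
    ∃ s : R, s ∉ p ∧ s • z ∈ LinearMap.range B.mulVecLin := by
  set φ := algebraMap R (Localization.AtPrime p) with hφ
  have hz' : A *ᵥ z = 0 := by simpa using hz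
  have h1 : (φ ∘ z) ∈ LinearMap.ker ((A.map φ).mulVecLin) := by
    rw [LinearMap.mem_ker, Matrix.mulVecLin_apply, map_mulVec_comp, hz']
    funext i
    simp
  obtain ⟨v, hv⟩ := h h1
  rw [Matrix.mulVecLin_apply] at hv
  -- clear denominators of `v`
  obtain ⟨t, ht⟩ := IsLocalization.exist_integer_multiples_of_finite p.primeCompl v
  choose w hw using ht
  -- `φ (t z - B w) = 0`
  have h2 : ∀ k, φ (((t : R) • z - B *ᵥ w) k) = 0 := by
    intro k
    have e1 : φ ∘ (B *ᵥ w) = ((t : R) • ((B.map φ) *ᵥ v)) := by
      rw [← map_mulVec_comp]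
      have : φ ∘ w = (t : R) • v := by
        funext i
        exact hw i
      rw [this]
      funext i
      simp only [Pi.smul_apply, Matrix.mulVec, dotProduct, Algebra.smul_def, Finset.mul_sum]
      refine Finset.sum_congr rfl fun j _ => ?_
      ring
    have e2 : φ ((B *ᵥ w) k) = φ (t : R) * φ (z k) := by
      have := congrFun e1 k
      rw [hv] at this
      simpa [Algebra.smul_def] using this
    simp only [Pi.sub_apply, Pi.smul_apply, smul_eq_mul, map_sub, map_mul, e2, sub_self]
  -- kill each coordinate
  have h3 : ∀ k, ∃ m : p.primeCompl, (m : R) * (((t : R) • z - B *ᵥ w) k) = 0 := fun k =>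
    (IsLocalization.map_eq_zero_iff p.primeCompl (Localization.AtPrime p) _).mp (h2 k)
  choose m hm using h3
  refine ⟨(∏ k, (m k : R)) * (t : R), ?_, ?_⟩
  · have hprod : (∏ k, (m k : R)) ∈ p.primeCompl := by
      have : (∏ k, (m k : R)) = ((∏ k, m k : p.primeCompl) : R) := by
        rw [Submonoid.coe_finsetProd]
      rw [this]
      exact (∏ k, m k : p.primeCompl).2
    exact (p.primeCompl.mul_mem hprod t.2)
  · refine ⟨(∏ k, (m k : R)) • w, ?_⟩
    rw [Matrix.mulVecLin_apply, Matrix.mulVec_smul]
    funext k
    have hk : (∏ k, (m k : R)) * (((t : R) • z - B *ᵥ w) k) = 0 := by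
      rw [← Finset.mul_prod_erase Finset.univ _ (Finset.mem_univ k), mul_comm (m k : R),
        mul_assoc, hm k, mul_zero]
    simp only [Pi.sub_apply, Pi.smul_apply, smul_eq_mul, mul_sub] at hk
    simp only [Pi.smul_apply, smul_eq_mul]
    rw [mul_assoc]
    exact (sub_eq_zero.mp hk).symm

/-- If for every prime `p` not containing `x` some `s ∉ p` moves `z` into `W`, then a power of
`x` moves `z` into `W`. -/
theorem exists_pow_smul_mem {M : Type*} [AddCommGroup M] [Module R M] (W : Submodule R M)
    (z : M) (x : R)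
    (h : ∀ (p : Ideal R) [p.IsPrime], x ∉ p → ∃ s : R, s ∉ p ∧ s • z ∈ W) :
    ∃ n : ℕ, x ^ n • z ∈ W := by
  have hx : x ∈ (W.colon {z}).radical := by
    rw [Ideal.radical_eq_sInf, Ideal.mem_sInf]
    rintro p ⟨hJp, hp⟩
    by_contra hxp
    obtain ⟨s, hsp, hs⟩ := h p hxp
    exact hsp (hJp (Submodule.mem_colon_singleton.mpr hs))
  obtain ⟨n, hn⟩ := hx
  exact ⟨n, Submodule.mem_colon_singleton.mp hn⟩

end Groth.Agent.Lib.Seat88.AcyclicLoc
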