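import Mathlib

/-!
# The Cartier isomorphism in degree one, in coordinates (linear algebra)

Abstract setting: `B` an `A`-algebra, `R → B` a ring map killed by `d` (think `R = B^p`),
`B` free over `R` with basis `bE ε`, `ε : σ → ZMod p` (think monomials `t^ε`),
`Ω[B⁄A]` free with basis `bΩ i` (think `d t_i`), and
`∂_i (bE ε) = ε_i • bE (ε - e_i)`.  Then a one-form with symmetric partial derivatives is
`d g + ∑ c_i • bE (-e_i) • bΩ i` with `c_i ∈ R` (`exists_decomp`), and the `c_i` are
determined (`coeff_eq_zero`).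
-/

set_option autoImplicit false
set_option linter.unusedSectionVars false
universe u v w w'

namespace Groth.Agent.Lib.Seat88.CartierCoord

open KaehlerDifferential

section comm

variable {A : Type u} [CommRing A] {B : Type v} [CommRing B] [Algebra A B]
  {σ : Type w'} (bΩ : Module.Basis σ B Ω[B⁄A]) (t : σ → B)

/-- the `i`-th partial derivative as a derivation -/
noncomputable def der (i : σ) : Derivation A B B := (bΩ.coord i).compDer (D A B)

lemma der_apply (i : σ) (x : B) : der bΩ i x = bΩ.repr (D A B x) i := rfl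

lemma sum_der_smul [Fintype σ] (x : B) : ∑ i, der bΩ i x • bΩ i = D A B x := by
  simp only [der_apply]
  exact bΩ.sum_repr (D A B x)

variable (hΩ : ∀ k, bΩ k = D A B (t k))
include hΩ

lemma der_t [DecidableEq σ] (i k : σ) : der bΩ i (t k) = if k = i then 1 else 0 := by
  rw [der_apply, ← hΩ, Module.Basis.repr_self, Finsupp.single_apply]

lemma derivation_eq_zero (δ : Derivation A B B) (h : ∀ k, δ (t k) = 0) : δ = 0 := by
  have h1 : δ.liftKaehlerDifferential = 0 := by
    apply bΩ.ext
    intro k
    rw [hΩ, Derivation.liftKaehlerDifferential_comp_D, h, LinearMap.zero_apply]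
  ext x
  rw [← Derivation.liftKaehlerDifferential_comp_D δ x, h1]
  simp

/-- the partial derivatives commute -/
lemma der_comm (i j : σ) (x : B) : der bΩ i (der bΩ j x) = der bΩ j (der bΩ i x) := by
  classical
  have h : ⁅der bΩ i, der bΩ j⁆ = 0 := by
    apply derivation_eq_zero bΩ t hΩ
    intro k
    rw [Derivation.commutator_apply, der_t bΩ t hΩ, der_t bΩ t hΩ]
    split_ifs <;> simp
  have h2 := congrArg (fun δ : Derivation A B B => δ x) h
  simp only [Derivation.commutator_apply] at h2
  exact sub_eq_zero.mp h2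

end comm

section main

variable (p : ℕ) [Fact p.Prime] {A : Type u} [CommRing A] {B : Type v} [CommRing B] [Algebra A B]
  (R : Type w) [CommRing R] [CharP R p] [Algebra R B]
  {σ : Type w'} [Fintype σ] [DecidableEq σ]

/-- the canonical map `ZMod p → R` -/
noncomputable def kap : ZMod p →+* R := ZMod.castHom (dvd_refl p) R

variable {R}
variable (bE : Module.Basis (σ → ZMod p) R B) (bΩ : Module.Basis σ B Ω[B⁄A])
  (hR : ∀ r : R, D A B (algebraMap R B r) = 0)
  (hM : ∀ i ε, der bΩ i (bE ε) = kap p R (ε i) • bE (ε - Pi.single i 1))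

/-- the `i`-th partial derivative, an `R`-linear map -/
noncomputable def pd (i : σ) : B →ₗ[R] B where
  toFun x := der bΩ i x
  map_add' x y := map_add _ x y
  map_smul' r x := by
    simp only [RingHom.id_apply]
    rw [Algebra.smul_def, Derivation.leibniz, der_apply bΩ i (algebraMap R B r), hR]
    simp [Algebra.smul_def]

lemma pd_apply (i : σ) (x : B) : pd bΩ hR i x = der bΩ i x := rfl

include hR hM in
lemma repr_pd (i : σ) (x : B) (γ : σ → ZMod p) :
    bE.repr (der bΩ i x) γ = kap p R (γ i + 1) * bE.repr x (γ + Pi.single i 1) := by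
  have key : (Finsupp.lapply γ ∘ₗ bE.repr.toLinearMap ∘ₗ pd bΩ hR i : B →ₗ[R] R) =
      kap p R (γ i + 1) • (Finsupp.lapply (γ + Pi.single i 1) ∘ₗ bE.repr.toLinearMap) := by
    apply bE.ext
    intro ε
    simp only [LinearMap.comp_apply, LinearMap.smul_apply, Finsupp.lapply_apply,
      LinearEquiv.coe_coe, Module.Basis.repr_self, smul_eq_mul, pd_apply]
    rw [hM, map_smul, Module.Basis.repr_self, Finsupp.smul_apply, Finsupp.single_apply,
      Finsupp.single_apply, smul_eq_mul]
    by_cases h : ε = γ + Pi.single i 1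
    · subst h
      simp
    · rw [if_neg h, if_neg]
      · simp
      · intro h'
        apply h
        rw [← h']
        simp
  exact LinearMap.congr_fun key x

section decomp

variable (ω : Ω[B⁄A])

include hR hM in
lemma sym_coeff (hsym : ∀ i j, der bΩ j (bΩ.repr ω i) = der bΩ i (bΩ.repr ω j)) (i j : σ)
    (δ : σ → ZMod p) :
    kap p R (δ j) * bE.repr (bΩ.repr ω i) (δ - Pi.single i 1) =
      kap p R (δ i) * bE.repr (bΩ.repr ω j) (δ - Pi.single j 1) := by
  by_cases hij : i = j
  · subst hij; rfl
  · have h1 := congrArg (fun x => bE.repr x (δ - Pi.single i 1 - Pi.single j 1)) (hsym i j)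
    beta_reduce at h1
    rw [repr_pd p bE bΩ hR hM, repr_pd p bE bΩ hR hM] at h1
    have e1 : (δ - Pi.single i 1 - Pi.single j 1 : σ → ZMod p) j + 1 = δ j := by
      simp [hij]
    have e2 : (δ - Pi.single i 1 - Pi.single j 1 : σ → ZMod p) i + 1 = δ i := by
      simp [Ne.symm hij]
    have e3 : δ - Pi.single i 1 - Pi.single j 1 + Pi.single j 1 = δ - Pi.single i 1 := by abel
    have e4 : δ - Pi.single i 1 - Pi.single j 1 + Pi.single i 1 = δ - Pi.single j 1 := by abel
    rw [e1, e2, e3, e4] at h1
    exact h1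

/-- coefficient of the antiderivative -/
noncomputable def gcoef (δ : σ → ZMod p) : R :=
  if h : ∃ i, δ i ≠ 0 then
    kap p R ((δ h.choose)⁻¹) * bE.repr (bΩ.repr ω h.choose) (δ - Pi.single h.choose 1)
  else 0

include hR hM in
lemma kap_mul_gcoef (hsym : ∀ i j, der bΩ j (bΩ.repr ω i) = der bΩ i (bΩ.repr ω j)) (i : σ)
    (δ : σ → ZMod p) :
    kap p R (δ i) * gcoef p bE bΩ ω δ =
      if δ = 0 then 0 else bE.repr (bΩ.repr ω i) (δ - Pi.single i 1) := by
  unfold gcoef
  by_cases h : ∃ i, δ i ≠ 0
  · rw [dif_pos h]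
    have hδ : δ ≠ 0 := by
      rintro rfl
      obtain ⟨k, hk⟩ := h
      exact hk rfl
    rw [if_neg hδ]
    have h0 := h.choose_spec
    have h1 := sym_coeff p bE bΩ hR hM ω hsym h.choose i δ
    calc kap p R (δ i) * (kap p R ((δ h.choose)⁻¹) *
          bE.repr (bΩ.repr ω h.choose) (δ - Pi.single h.choose 1))
        = kap p R ((δ h.choose)⁻¹) * (kap p R (δ i) *
          bE.repr (bΩ.repr ω h.choose) (δ - Pi.single h.choose 1)) := by ring
      _ = kap p R ((δ h.choose)⁻¹) * (kap p R (δ h.choose) *
          bE.repr (bΩ.repr ω i) (δ - Pi.single i 1)) := by rw [h1]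
      _ = (kap p R ((δ h.choose)⁻¹) * kap p R (δ h.choose)) *
          bE.repr (bΩ.repr ω i) (δ - Pi.single i 1) := by ring
      _ = bE.repr (bΩ.repr ω i) (δ - Pi.single i 1) := by
          rw [← map_mul, inv_mul_cancel₀ h0, map_one, one_mul]
  · rw [dif_neg h, mul_zero]
    have hδ : δ = 0 := by
      funext k
      by_contra hk
      exact h ⟨k, hk⟩
    rw [if_pos hδ]

/-- the antiderivative -/
noncomputable def anti : B := ∑ δ, gcoef p bE bΩ ω δ • bE δ

lemma repr_anti (δ : σ → ZMod p) : bE.repr (anti p bE bΩ ω) δ = gcoef p bE bΩ ω δ := by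
  rw [anti, Module.Basis.repr_sum_self]

include hR hM in
/-- a one-form with symmetric partial derivatives is exact up to the terms `c_i t_i^(p-1) d t_i` -/
theorem exists_decomp (hsym : ∀ i j, der bΩ j (bΩ.repr ω i) = der bΩ i (bΩ.repr ω j)) :
    ∃ (g : B) (c : σ → R), ω = D A B g + ∑ i, (c i • bE (- Pi.single i 1)) • bΩ i := by
  refine ⟨anti p bE bΩ ω, fun i => bE.repr (bΩ.repr ω i) (- Pi.single i 1), ?_⟩
  have hcoord : ∀ i, bΩ.repr ω i = der bΩ i (anti p bE bΩ ω) +
      bE.repr (bΩ.repr ω i) (- Pi.single i 1) • bE (- Pi.single i 1) := by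
    intro i
    apply bE.repr.injective
    ext γ
    rw [map_add, Finsupp.add_apply, repr_pd p bE bΩ hR hM, repr_anti, map_smul,
      Finsupp.smul_apply, Module.Basis.repr_self, Finsupp.single_apply, smul_eq_mul]
    have h1 := kap_mul_gcoef p bE bΩ hR hM ω hsym i (γ + Pi.single i 1)
    rw [Pi.add_apply, Pi.single_eq_same, add_sub_cancel_right] at h1
    rw [h1]
    by_cases hγ : γ + Pi.single i 1 = 0
    · have hγ' : - Pi.single i 1 = γ := by
        rw [neg_eq_iff_add_eq_zero, add_comm]; exact hγ
      rw [if_pos hγ, if_pos hγ', hγ']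
      simp
    · have hγ' : ¬ (- Pi.single i 1 = γ) := by
        intro h
        apply hγ
        rw [← h]
        simp
      rw [if_neg hγ, if_neg hγ']
      simp
  rw [← sum_der_smul bΩ (anti p bE bΩ ω), ← Finset.sum_add_distrib]
  conv_lhs => rw [← bΩ.sum_repr ω]
  refine Finset.sum_congr rfl fun i _ => ?_
  rw [← add_smul, ← hcoord i]

end decomp

include hR hM in
/-- the coefficients `c_i` are determined by the form -/
theorem coeff_eq_zero (g : B) (c : σ → R)
    (h : D A B g + ∑ i, (c i • bE (- Pi.single i 1)) • bΩ i = 0) : c = 0 := by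
  funext i
  have h1 : der bΩ i g + c i • bE (- Pi.single i 1) = 0 := by
    have h2 := congrArg (fun x => bΩ.repr x i) h
    simp only [map_add, map_sum, map_smul, Finsupp.add_apply, Finsupp.coe_finsetSum,
      Finset.sum_apply, Module.Basis.repr_self, Finsupp.smul_apply, Finsupp.single_apply,
      map_zero, Finsupp.zero_apply] at h2
    rw [← h2, der_apply]
    congr 1
    rw [Finset.sum_eq_single i]
    · simp
    · intro k _ hk
      simp [hk]
    · intro hi
      exact absurd (Finset.mem_univ i) hi
  have h3 := congrArg (fun x => bE.repr x (- Pi.single i 1)) h1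
  simp only [map_add, map_smul, Finsupp.add_apply, Finsupp.smul_apply, Module.Basis.repr_self,
    Finsupp.single_eq_same, map_zero, Finsupp.zero_apply, smul_eq_mul, mul_one] at h3
  rw [repr_pd p bE bΩ hR hM] at h3
  simpa using h3

end main

end Groth.Agent.Lib.Seat88.CartierCoord
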