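import Mathlib

/-!
# The `p`-linear map `Ω → Ω/dB`, `f • dg ↦ [f^p g^(p-1) dg]`, in characteristic `p`

For an `A`-algebra `B` of characteristic `p`, `Tw p A B` is `Ω[B⁄A]` with `B` acting through the
Frobenius; the exact forms `dB` are a submodule and `f ↦ [f^(p-1) df]` is an `A`-derivation of `B`
with values in `Q p A B = Tw ⧸ dB`.  The induced linear map `gam : Ω[B⁄A] →ₗ[B] Q p A B` is the
inverse Cartier operator (in degree one).
-/

set_option autoImplicit false
set_option linter.unusedSectionVars false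
universe u v w

namespace Groth.Agent.Lib.Seat88.PLin

open KaehlerDifferential

section binom

/-- the coefficient `choose (n+1) (k+1) / (n+1)` -/
lemma choose_div_mul_succ (n k : ℕ) (hn : (n + 1).Prime) (hk : k < n) :
    (Nat.choose (n + 1) (k + 1) / (n + 1)) * (k + 1) = Nat.choose n k := by
  obtain ⟨c, hc⟩ := hn.dvd_choose_self (Nat.succ_ne_zero k) (by omega : k + 1 < n + 1)
  rw [hc, Nat.mul_div_cancel_left _ (Nat.succ_pos n)]
  have h1 := Nat.add_one_mul_choose_eq n k
  rw [hc] at h1
  have h2 : (n + 1) * Nat.choose n k = (n + 1) * (c * (k + 1)) := by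
    rw [h1]; ring
  exact (Nat.eq_of_mul_eq_mul_left (Nat.succ_pos n) h2).symm

lemma choose_div_mul_sub (n k : ℕ) (hn : (n + 1).Prime) (hk : k < n) :
    (Nat.choose (n + 1) (k + 1) / (n + 1)) * (n - k) = Nat.choose n (k + 1) := by
  have h1 := choose_div_mul_succ n k hn hk
  have h2 := Nat.choose_succ_right_eq n k
  have h3 : (Nat.choose (n + 1) (k + 1) / (n + 1)) * (n - k) * (k + 1) =
      Nat.choose n (k + 1) * (k + 1) := by
    rw [h2, ← h1]; ring
  exact Nat.eq_of_mul_eq_mul_right (Nat.succ_pos k) h3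

end binom

section additivity

variable (A : Type u) [CommRing A] (B : Type v) [CommRing B] [Algebra A B]

/-- the element whose differential measures the failure of additivity of `f ↦ f^(p-1) df` -/
noncomputable def addWitness (n : ℕ) (f g : B) : B :=
  ∑ k ∈ Finset.range n, (Nat.choose (n + 1) (k + 1) / (n + 1)) • (f ^ (k + 1) * g ^ (n - k))

theorem D_addWitness (n : ℕ) (hn : (n + 1).Prime) (f g : B) :
    D A B (addWitness B n f g) =
      (f + g) ^ n • D A B (f + g) - f ^ n • D A B f - g ^ n • D A B g := by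
  have hterm : ∀ k ∈ Finset.range n,
      D A B ((Nat.choose (n + 1) (k + 1) / (n + 1)) • (f ^ (k + 1) * g ^ (n - k))) =
        (f ^ k * g ^ (n - k) * (Nat.choose n k : B)) • D A B f +
          (f ^ (k + 1) * g ^ (n - (k + 1)) * (Nat.choose n (k + 1) : B)) • D A B g := by
    intro k hk
    have hk' : k < n := Finset.mem_range.mp hk
    have h1 := choose_div_mul_succ n k hn hk'
    have h2 := choose_div_mul_sub n k hn hk'
    rw [map_nsmul, Derivation.leibniz, Derivation.leibniz_pow, Derivation.leibniz_pow,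
      ← h1, ← h2]
    have e1 : k + 1 - 1 = k := by omega
    have e2 : n - k - 1 = n - (k + 1) := by omega
    rw [e1, e2]
    simp only [Nat.cast_mul, Nat.cast_add, Nat.cast_one, ← Nat.cast_smul_eq_nsmul B]
    module
  have hsum1 : (f + g) ^ n = ∑ k ∈ Finset.range n, f ^ k * g ^ (n - k) * (Nat.choose n k : B) +
      f ^ n := by
    rw [add_pow, Finset.sum_range_succ]
    simp
  have hsum2 : (f + g) ^ n = ∑ k ∈ Finset.range n,
      f ^ (k + 1) * g ^ (n - (k + 1)) * (Nat.choose n (k + 1) : B) + g ^ n := by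
    rw [add_pow, Finset.sum_range_succ']
    simp
  rw [addWitness, map_sum, Finset.sum_congr rfl hterm, Finset.sum_add_distrib, ← Finset.sum_smul,
    ← Finset.sum_smul, map_add, smul_add]
  have e1 : ∑ k ∈ Finset.range n, f ^ k * g ^ (n - k) * (Nat.choose n k : B) = (f + g) ^ n - f ^ n :=
    eq_sub_of_add_eq hsum1.symm
  have e2 : ∑ k ∈ Finset.range n, f ^ (k + 1) * g ^ (n - (k + 1)) * (Nat.choose n (k + 1) : B) =
      (f + g) ^ n - g ^ n := eq_sub_of_add_eq hsum2.symm
  rw [e1, e2, sub_smul, sub_smul]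
  abel

end additivity

section twist

/-- `Ω[B⁄A]` with `B` acting through the Frobenius -/
@[nolint unusedArguments]
def Tw (_p : ℕ) (A : Type u) [CommRing A] (B : Type v) [CommRing B] [Algebra A B] : Type v :=
  Ω[B⁄A]

variable (p : ℕ) [Fact p.Prime] (A : Type u) [CommRing A] (B : Type v) [CommRing B] [Algebra A B]
  [CharP B p]

noncomputable instance : AddCommGroup (Tw p A B) := inferInstanceAs (AddCommGroup Ω[B⁄A])

/-- the identity map to the twisted module -/
noncomputable def toTw : Ω[B⁄A] ≃+ Tw p A B := AddEquiv.refl _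

noncomputable instance : Module B (Tw p A B) := Module.compHom (Ω[B⁄A]) (frobenius B p)

noncomputable instance : Module A (Tw p A B) := Module.compHom (Tw p A B) (algebraMap A B)

instance : IsScalarTower A B (Tw p A B) :=
  ⟨fun a b x => by
    rw [Algebra.smul_def, mul_smul]
    rfl⟩

lemma smul_toTw (b : B) (ω : Ω[B⁄A]) : b • toTw p A B ω = toTw p A B (b ^ p • ω) := rfl

lemma smulA_toTw (a : A) (ω : Ω[B⁄A]) :
    a • toTw p A B ω = toTw p A B ((algebraMap A B a) ^ p • ω) := rfl

lemma D_pow_p (b : B) : D A B (b ^ p) = 0 := by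
  rw [Derivation.leibniz_pow, ← Nat.cast_smul_eq_nsmul B, CharP.cast_eq_zero, zero_smul]

lemma D_pow_p_mul (b f : B) : D A B (b ^ p * f) = b ^ p • D A B f := by
  rw [Derivation.leibniz, D_pow_p, smul_zero, add_zero]

/-- the exact forms, a submodule for the twisted structure -/
noncomputable def dB : Submodule B (Tw p A B) where
  carrier := {x | ∃ f : B, x = toTw p A B (D A B f)}
  add_mem' := by
    rintro _ _ ⟨f, rfl⟩ ⟨g, rfl⟩
    exact ⟨f + g, by rw [map_add, map_add]⟩
  zero_mem' := ⟨0, by rw [map_zero, map_zero]⟩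
  smul_mem' := by
    rintro b _ ⟨f, rfl⟩
    exact ⟨b ^ p * f, by rw [smul_toTw, D_pow_p_mul]⟩

lemma mem_dB {x : Tw p A B} : x ∈ dB p A B ↔ ∃ f : B, x = toTw p A B (D A B f) := Iff.rfl

/-- the quotient of the (twisted) one-forms by the exact forms -/
abbrev Q : Type v := Tw p A B ⧸ dB p A B

/-- the class of a one-form modulo exact forms -/
noncomputable def cls (ω : Ω[B⁄A]) : Q p A B := (dB p A B).mkQ (toTw p A B ω)

lemma cls_add (ω ω' : Ω[B⁄A]) : cls p A B (ω + ω') = cls p A B ω + cls p A B ω' := by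
  simp [cls]

lemma cls_zero : cls p A B 0 = 0 := by simp [cls]

lemma cls_sum {ι : Type*} (s : Finset ι) (ω : ι → Ω[B⁄A]) :
    cls p A B (∑ i ∈ s, ω i) = ∑ i ∈ s, cls p A B (ω i) := by
  simp only [cls, map_sum]

lemma smul_cls (b : B) (ω : Ω[B⁄A]) : b • cls p A B ω = cls p A B (b ^ p • ω) := rfl

lemma cls_eq_zero_iff (ω : Ω[B⁄A]) : cls p A B ω = 0 ↔ ∃ f : B, ω = D A B f := by
  rw [cls, Submodule.mkQ_apply, Submodule.Quotient.mk_eq_zero, mem_dB]
  rfl

lemma cls_eq_iff (ω ω' : Ω[B⁄A]) : cls p A B ω = cls p A B ω' ↔ ∃ f : B, ω - ω' = D A B f := by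
  rw [← sub_eq_zero, ← cls_eq_zero_iff]
  simp [cls]

lemma cls_D (f : B) : cls p A B (D A B f) = 0 := (cls_eq_zero_iff p A B _).mpr ⟨f, rfl⟩

lemma cls_surjective (x : Q p A B) : ∃ ω, cls p A B ω = x := by
  obtain ⟨y, rfl⟩ := Submodule.Quotient.mk_surjective _ x
  exact ⟨y, rfl⟩

lemma smulA_cls (a : A) (ω : Ω[B⁄A]) :
    a • cls p A B ω = cls p A B ((algebraMap A B a) ^ p • ω) := rfl

lemma pred_add_one : p - 1 + 1 = p := by
  have := (Fact.out : p.Prime).pos
  omega

/-- the derivation `f ↦ [f^(p-1) df]` -/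
noncomputable def delta : Derivation A B (Q p A B) where
  toFun f := cls p A B (f ^ (p - 1) • D A B f)
  map_add' f g := by
    rw [← cls_add, cls_eq_iff]
    have hn : (p - 1 + 1).Prime := by rw [pred_add_one]; exact Fact.out
    refine ⟨addWitness B (p - 1) f g, ?_⟩
    rw [D_addWitness A B (p - 1) hn f g]
    abel
  map_smul' a f := by
    simp only [RingHom.id_apply]
    rw [smulA_cls]
    congr 1
    rw [Algebra.smul_def, Derivation.leibniz, Derivation.map_algebraMap, smul_zero, add_zero,
      mul_pow, smul_smul, smul_smul]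
    congr 1
    have h := pred_add_one p
    calc (algebraMap A B a) ^ (p - 1) * f ^ (p - 1) * (algebraMap A B a)
        = (algebraMap A B a) ^ (p - 1 + 1) * f ^ (p - 1) := by ring
      _ = (algebraMap A B a) ^ p * f ^ (p - 1) := by rw [h]
  map_one_eq_zero' := by
    change cls p A B ((1 : B) ^ (p - 1) • D A B 1) = 0
    rw [Derivation.map_one_eq_zero, smul_zero, cls_zero]
  leibniz' f g := by
    change cls p A B ((f * g) ^ (p - 1) • D A B (f * g)) =
      f • cls p A B (g ^ (p - 1) • D A B g) + g • cls p A B (f ^ (p - 1) • D A B f)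
    rw [smul_cls, smul_cls, ← cls_add]
    congr 1
    rw [Derivation.leibniz]
    have hf : f ^ p = f ^ (p - 1) * f := by rw [← pow_succ, pred_add_one]
    have hg : g ^ p = g ^ (p - 1) * g := by rw [← pow_succ, pred_add_one]
    rw [hf, hg, mul_pow]
    module

lemma delta_apply (f : B) : delta p A B f = cls p A B (f ^ (p - 1) • D A B f) := rfl

/-- the `p`-linear map `Ω → Ω/dB`, `b • dc ↦ [b^p c^(p-1) dc]` (inverse Cartier operator) -/
noncomputable def gam : Ω[B⁄A] →ₗ[B] Q p A B := (delta p A B).liftKaehlerDifferential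

lemma gam_D (f : B) : gam p A B (D A B f) = cls p A B (f ^ (p - 1) • D A B f) := by
  rw [gam, Derivation.liftKaehlerDifferential_comp_D, delta_apply]

lemma gam_smul_D (b f : B) :
    gam p A B (b • D A B f) = cls p A B (b ^ p • f ^ (p - 1) • D A B f) := by
  rw [map_smul, gam_D, smul_cls]

/-- the representative of `gam` on a linear combination of exact forms -/
lemma gam_finsupp_sum (l : B →₀ B) :
    gam p A B (l.sum fun c b => b • D A B c) =
      cls p A B (l.sum fun c b => b ^ p • c ^ (p - 1) • D A B c) := by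
  simp only [Finsupp.sum, map_sum, cls_sum, gam_smul_D]

/-- every one-form is a linear combination of exact forms -/
lemma exists_finsupp (η : Ω[B⁄A]) : ∃ l : B →₀ B, (l.sum fun c b => b • D A B c) = η := by
  have h : η ∈ Submodule.span B (Set.range (D A B)) := by
    rw [KaehlerDifferential.span_range_derivation]; exact Submodule.mem_top
  exact (Finsupp.mem_span_range_iff_exists_finsupp).mp h

end twist

end Groth.Agent.Lib.Seat88.PLin
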