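import Mathlib
import Groth.Prelude.Def_DeRham
import Groth.Agent.Lib.Seat88CartierCoord
import Groth.Agent.Lib.Seat88PLinDer

/-!
# Closed one-forms have symmetric partial derivatives in any coordinate system of an overring

For a de Rham differential `d` on `Ω[B⁄A]` (in the sense of `DeRham.IsDiff`), the values of `d 0` and
of `d 1` on `b • dc`, and: if `B → B'` is an algebra map and `Ω[B'⁄A]` has a basis `d t_k`, then the
image of a closed one-form has symmetric partial derivatives (`sym_of_closed`).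
-/

set_option autoImplicit false
set_option linter.unusedSectionVars false
universe u v w w'

namespace Groth.Agent.Lib.Seat88.CartierClosed

open KaehlerDifferential exteriorPower
open Groth.Agent.Lib.Seat88.CartierCoord

variable {A : Type v} [CommRing A] {B : Type u} [CommRing B] [Algebra A B]
  (d : ∀ q : ℕ, ↥(⋀[B]^q (Ω[B⁄A])) →ₗ[A] ↥(⋀[B]^(q + 1) (Ω[B⁄A])))
  (hd : DeRham.IsDiff (KaehlerDifferential.D A B) d)

omit d in
lemma oneEquiv_symm_smul_D (b c : B) :
    (oneEquiv B (Ω[B⁄A])).symm (b • D A B c) = DeRham.gen (D A B) 1 b (fun _ => c) := by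
  rw [LinearEquiv.symm_apply_eq, DeRham.gen, map_smul, oneEquiv_ιMulti]

omit d in
lemma zeroEquiv_symm (f : B) (b : Fin 0 → B) :
    (zeroEquiv B (Ω[B⁄A])).symm f = DeRham.gen (D A B) 0 f b := by
  rw [LinearEquiv.symm_apply_eq, DeRham.gen, map_smul, zeroEquiv_ιMulti, smul_eq_mul, mul_one]

include hd in
lemma d_zero (f : B) :
    d 0 ((zeroEquiv B (Ω[B⁄A])).symm f) = (oneEquiv B (Ω[B⁄A])).symm (D A B f) := by
  rw [zeroEquiv_symm f Fin.elim0, hd.1 0 f Fin.elim0, LinearEquiv.eq_symm_apply, oneEquiv_ιMulti,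
    Fin.cons_zero]

include hd in
lemma d_one_smul_D (b c : B) :
    d 1 ((oneEquiv B (Ω[B⁄A])).symm (b • D A B c)) =
      ιMulti B 2 (Fin.cons (D A B b) (fun _ => D A B c)) := by
  rw [oneEquiv_symm_smul_D, hd.1 1 b (fun _ => c)]

include hd in
/-- `u • dc` is closed as soon as `du` is a multiple of `dc` -/
lemma closed_of_D_eq_smul (u c r : B) (h : D A B u = r • D A B c) :
    d 1 ((oneEquiv B (Ω[B⁄A])).symm (u • D A B c)) = 0 := by
  rw [d_one_smul_D d hd, h]
  have h1 : (Fin.cons (r • D A B c) (fun _ => D A B c) : Fin 2 → Ω[B⁄A]) =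
      Function.update (Fin.cons (D A B c) (fun _ => D A B c)) 0 (r • D A B c) := by
    rw [Fin.update_cons_zero]
  rw [h1, AlternatingMap.map_update_smul, Fin.update_cons_zero]
  have h2 : ιMulti B 2 (Fin.cons (D A B c) (fun _ => D A B c) : Fin 2 → Ω[B⁄A]) = 0 :=
    (ιMulti B 2).map_eq_zero_of_eq _ (i := 0) (j := 1) (by simp) (by decide)
  rw [h2, smul_zero]

section transport

variable {B' : Type w} [CommRing B'] [Algebra A B'] [Algebra B B'] [IsScalarTower A B B']
  {σ : Type w'} (bΩ' : Module.Basis σ B' Ω[B'⁄A]) (t' : σ → B')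
  (hΩ : ∀ k, bΩ' k = D A B' (t' k))

/-- the `i`-th coordinate of the image of a one-form -/
noncomputable def ell (i : σ) : Ω[B⁄A] →ₗ[B] B' :=
  ((bΩ'.coord i).restrictScalars B) ∘ₗ (map A A B B')

omit d in
lemma ell_apply (i : σ) (η : Ω[B⁄A]) : ell bΩ' i η = bΩ'.repr (map A A B B' η) i := rfl

omit d in
lemma ell_smul_D (i : σ) (b c : B) :
    ell bΩ' i (b • D A B c) = algebraMap B B' b * der bΩ' i (algebraMap B B' c) := by
  rw [map_smul, ell_apply, KaehlerDifferential.map_D, Algebra.smul_def]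
  rfl

omit d in
lemma ell_D (i : σ) (b : B) : ell bΩ' i (D A B b) = der bΩ' i (algebraMap B B' b) := by
  rw [ell_apply, KaehlerDifferential.map_D]
  rfl

/-- the alternating form `ℓ_i ∧ ℓ_j` -/
noncomputable def alt (i j : σ) : Ω[B⁄A] [⋀^Fin 2]→ₗ[B] B' where
  toFun v := ell bΩ' i (v 0) * ell bΩ' j (v 1) - ell bΩ' j (v 0) * ell bΩ' i (v 1)
  map_update_add' := by
    intro _ v k x y
    fin_cases k <;> simp <;> ring
  map_update_smul' := by
    intro _ v k c x
    fin_cases k <;> simp [smul_sub]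
  map_eq_zero_of_eq' := by
    intro v a b hab hne
    fin_cases a <;> fin_cases b <;> simp at hne hab ⊢
    · rw [hab]; ring
    · rw [hab]; ring

/-- the linear functional on two-forms attached to `ℓ_i ∧ ℓ_j` -/
noncomputable def Lam (i j : σ) : ↥(⋀[B]^2 (Ω[B⁄A])) →ₗ[B] B' :=
  alternatingMapLinearEquiv (alt bΩ' i j)

include hd hΩ in
lemma Lam_d_one (i j : σ) (η : Ω[B⁄A]) :
    Lam bΩ' i j (d 1 ((oneEquiv B (Ω[B⁄A])).symm η)) =
      der bΩ' i (ell bΩ' j η) - der bΩ' j (ell bΩ' i η) := by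
  obtain ⟨l, rfl⟩ := PLin.exists_finsupp A B η
  simp only [Finsupp.sum, map_sum]
  rw [← Finset.sum_sub_distrib]
  refine Finset.sum_congr rfl fun c _ => ?_
  rw [d_one_smul_D d hd, Lam, alternatingMapLinearEquiv_apply_ιMulti]
  change ell bΩ' i (D A B (l c)) * ell bΩ' j (D A B c) -
    ell bΩ' j (D A B (l c)) * ell bΩ' i (D A B c) = _
  rw [ell_D, ell_D, ell_D, ell_D, ell_smul_D, ell_smul_D, Derivation.leibniz, Derivation.leibniz,
    der_comm bΩ' t' hΩ i j]
  simp only [smul_eq_mul]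
  ring

include hd hΩ in
/-- the image of a closed one-form has symmetric partial derivatives -/
theorem sym_of_closed (ω : ↥(⋀[B]^1 (Ω[B⁄A]))) (hω : d 1 ω = 0) (i j : σ) :
    der bΩ' j (bΩ'.repr (map A A B B' (oneEquiv B (Ω[B⁄A]) ω)) i) =
      der bΩ' i (bΩ'.repr (map A A B B' (oneEquiv B (Ω[B⁄A]) ω)) j) := by
  have h := Lam_d_one d hd bΩ' t' hΩ i j (oneEquiv B (Ω[B⁄A]) ω)
  rw [LinearEquiv.symm_apply_apply, hω, map_zero] at h
  exact (sub_eq_zero.mp h.symm).symm

end transport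

end Groth.Agent.Lib.Seat88.CartierClosed
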