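import Mathlib
import Groth.Agent.Lib.Seat88PLinDer

/-!
# Naturality of the inverse Cartier operator and descent along a localisation

`gam_map`: the inverse Cartier operator `gam` commutes with the map on differentials induced by an
algebra map `B → B'`.  For `B' = B[1/x]` we clear denominators:
`exists_pow_smul_eq_gam`, `exists_pow_smul_eq_zero`.  `ideal_eq_top` is the usual patching lemma.
-/

set_option autoImplicit false
set_option linter.unusedSectionVars false
universe u v w

namespace Groth.Agent.Lib.Seat88.CartierGlue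

open KaehlerDifferential
open Groth.Agent.Lib.Seat88.PLin

section natural

variable (p : ℕ) [Fact p.Prime] (A : Type u) [CommRing A] (B : Type v) [CommRing B] [Algebra A B]
  [CharP B p] (B' : Type w) [CommRing B'] [Algebra A B'] [Algebra B B'] [IsScalarTower A B B']
  [CharP B' p]

lemma cls_neg (ω : Ω[B⁄A]) : cls p A B (-ω) = -cls p A B ω := by
  simp [cls]

lemma cls_sub (ω ω' : Ω[B⁄A]) : cls p A B (ω - ω') = cls p A B ω - cls p A B ω' := by
  simp [cls]

omit [Fact p.Prime] [CharP B p] [CharP B' p] in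
lemma map_smul_D (b c : B) :
    map A A B B' (b • D A B c) = algebraMap B B' b • D A B' (algebraMap B B' c) := by
  rw [map_smul, KaehlerDifferential.map_D, algebraMap_smul]

omit [Fact p.Prime] [CharP B p] [CharP B' p] in
lemma map_smul' (b : B) (ω : Ω[B⁄A]) :
    map A A B B' (b • ω) = algebraMap B B' b • map A A B B' ω := by
  rw [map_smul, algebraMap_smul]

/-- naturality of the inverse Cartier operator -/
lemma gam_map (η ω : Ω[B⁄A]) (h : gam p A B η = cls p A B ω) :
    gam p A B' (map A A B B' η) = cls p A B' (map A A B B' ω) := by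
  obtain ⟨l, rfl⟩ := exists_finsupp A B η
  rw [gam_finsupp_sum, cls_eq_iff] at h
  obtain ⟨f, hf⟩ := h
  have hω : ω = (l.sum fun c b => b ^ p • c ^ (p - 1) • D A B c) - D A B f := by
    rw [← hf]; abel
  rw [hω, map_sub, KaehlerDifferential.map_D, cls_sub, cls_D, sub_zero]
  simp only [Finsupp.sum, map_sum, cls_sum]
  refine Finset.sum_congr rfl fun c _ => ?_
  rw [map_smul_D, gam_smul_D, map_smul', map_smul_D, map_pow, map_pow]

end natural

section loc

variable (p : ℕ) [Fact p.Prime] (A : Type u) [CommRing A] (B : Type v) [CommRing B] [Algebra A B]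
  [CharP B p] (x : B) (B' : Type w) [CommRing B'] [Algebra A B'] [Algebra B B']
  [IsScalarTower A B B'] [CharP B' p] [IsLocalization.Away x B']

/-- a class dying in the localisation is killed by a power of `x` -/
lemma exists_pow_smul_cls_eq_zero (ω : Ω[B⁄A]) (h : cls p A B' (map A A B B' ω) = 0) :
    ∃ N : ℕ, x ^ N • cls p A B ω = 0 := by
  obtain ⟨g', hg'⟩ := (cls_eq_zero_iff p A B' _).mp h
  obtain ⟨⟨g, s⟩, hgs⟩ := IsLocalization.surj (Submonoid.powers x) g'
  obtain ⟨K, hK⟩ := s.2
  simp only at hgs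
  have hpp := pred_add_one p
  -- g' * φ(y)^p = φ(g * y^(p-1))
  have h1 : algebraMap B B' (s : B) ^ p * g' = algebraMap B B' (g * (s : B) ^ (p - 1)) := by
    rw [map_mul, ← hgs, map_pow]
    calc algebraMap B B' (s : B) ^ p * g'
        = algebraMap B B' (s : B) ^ (p - 1 + 1) * g' := by rw [hpp]
      _ = g' * algebraMap B B' (s : B) * algebraMap B B' (s : B) ^ (p - 1) := by ring
  have h2 : map A A B B' ((s : B) ^ p • ω - D A B (g * (s : B) ^ (p - 1))) = 0 := by
    rw [map_sub, KaehlerDifferential.map_D, ← h1, D_pow_p_mul, map_smul', hg', map_pow, sub_self]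
  obtain ⟨c, hc⟩ := (IsLocalizedModule.eq_zero_iff (Submonoid.powers x) (map A A B B')).mp h2
  obtain ⟨L, hL⟩ := c.2
  refine ⟨L + K, ?_⟩
  rw [smul_cls, cls_eq_zero_iff]
  refine ⟨(c : B) ^ p * (g * (s : B) ^ (p - 1)), ?_⟩
  rw [D_pow_p_mul]
  have hc' : (c : B) • ((s : B) ^ p • ω - D A B (g * (s : B) ^ (p - 1))) = 0 := hc
  have h3 : (c : B) ^ p • ((s : B) ^ p • ω - D A B (g * (s : B) ^ (p - 1))) = 0 := by
    have hcp : (c : B) ^ p = (c : B) ^ (p - 1) * (c : B) := by rw [← pow_succ, hpp]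
    rw [hcp, mul_smul, hc', smul_zero]
  rw [smul_sub, sub_eq_zero, smul_smul] at h3
  have hL' : x ^ L = (c : B) := hL
  have hK' : x ^ K = (s : B) := hK
  rw [← h3, pow_add, hL', hK', mul_pow]

/-- a class which is locally in the image of `gam` is so after multiplication by a power of `x` -/
lemma exists_pow_smul_eq_gam (ω : Ω[B⁄A])
    (h : ∃ η', gam p A B' η' = cls p A B' (map A A B B' ω)) :
    ∃ (N : ℕ) (η : Ω[B⁄A]), gam p A B η = x ^ N • cls p A B ω := by
  obtain ⟨η', hη'⟩ := h
  obtain ⟨⟨η, s⟩, hs⟩ := IsLocalizedModule.surj (Submonoid.powers x) (map A A B B') η'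
  obtain ⟨M, hM⟩ := s.2
  have hM' : x ^ M = (s : B) := hM
  obtain ⟨ω₁, hω₁⟩ := cls_surjective p A B (gam p A B η)
  have h1 := gam_map p A B B' η ω₁ hω₁.symm
  have hs' : (s : B) • η' = map A A B B' η := hs
  have h2 : gam p A B' (map A A B B' η) = cls p A B' (map A A B B' ((s : B) ^ p • ω)) := by
    rw [← hs', ← algebraMap_smul B' (s : B) η', map_smul, hη', smul_cls, map_smul', map_pow]
  have h3 : cls p A B' (map A A B B' (ω₁ - (s : B) ^ p • ω)) = 0 := by
    rw [map_sub, cls_sub, ← h1, ← h2, sub_self]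
  obtain ⟨N, hN⟩ := exists_pow_smul_cls_eq_zero p A B x B' _ h3
  refine ⟨N + M, x ^ N • η, ?_⟩
  rw [map_smul, ← hω₁, pow_add, mul_smul, hM']
  rw [cls_sub, smul_sub, sub_eq_zero, ← smul_cls] at hN
  exact hN

/-- a form killed by `gam` is killed by a power of `x`, if `gam` is injective on the localisation -/
lemma exists_pow_smul_eq_zero (hinj : ∀ η', gam p A B' η' = 0 → η' = 0) (η : Ω[B⁄A])
    (h : gam p A B η = 0) : ∃ N : ℕ, x ^ N • η = 0 := by
  have h1 := gam_map p A B B' η 0 (by rw [h, cls_zero])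
  rw [map_zero, cls_zero] at h1
  have h2 := hinj _ h1
  obtain ⟨c, hc⟩ := (IsLocalizedModule.eq_zero_iff (Submonoid.powers x) (map A A B B')).mp h2
  obtain ⟨N, hN⟩ := c.2
  have hN' : x ^ N = (c : B) := hN
  exact ⟨N, by rw [hN']; exact hc⟩

end loc

section glue

variable (p : ℕ) [Fact p.Prime] (A : Type u) [CommRing A] (B : Type v) [CommRing B] [Algebra A B]
  [CharP B p]

omit [Fact p.Prime] [CharP B p] in
lemma ideal_eq_top (I : Ideal B) (s : Set B) (hs : Ideal.span s = ⊤)
    (h : ∀ x ∈ s, ∃ N : ℕ, x ^ N ∈ I) : I = ⊤ := by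
  rw [← Ideal.radical_eq_top, eq_top_iff, ← hs, Ideal.span_le]
  intro x hx
  exact h x hx

theorem gam_injective_of_cover (s : Set B) (hs : Ideal.span s = ⊤)
    (h : ∀ x ∈ s, ∀ η, gam p A B η = 0 → ∃ N : ℕ, x ^ N • η = 0)
    (η : Ω[B⁄A]) (hη : gam p A B η = 0) : η = 0 := by
  let I : Ideal B := LinearMap.ker (LinearMap.toSpanSingleton B Ω[B⁄A] η)
  have hI : I = ⊤ := by
    apply ideal_eq_top B I s hs
    intro x hx
    obtain ⟨N, hN⟩ := h x hx η hη
    exact ⟨N, by rw [LinearMap.mem_ker, LinearMap.toSpanSingleton_apply]; exact hN⟩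
  have h1 : (1 : B) ∈ I := by rw [hI]; exact Submodule.mem_top
  rw [LinearMap.mem_ker, LinearMap.toSpanSingleton_apply, one_smul] at h1
  exact h1

theorem exists_gam_of_cover (s : Set B) (hs : Ideal.span s = ⊤) (ω : Ω[B⁄A])
    (h : ∀ x ∈ s, ∃ (N : ℕ) (η : Ω[B⁄A]), gam p A B η = x ^ N • cls p A B ω) :
    ∃ η, gam p A B η = cls p A B ω := by
  let J : Ideal B := Submodule.comap (LinearMap.toSpanSingleton B (Q p A B) (cls p A B ω))
    (LinearMap.range (gam p A B))
  have hJ : J = ⊤ := by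
    apply ideal_eq_top B J s hs
    intro x hx
    obtain ⟨N, η, hN⟩ := h x hx
    exact ⟨N, by
      rw [Submodule.mem_comap, LinearMap.toSpanSingleton_apply, LinearMap.mem_range]
      exact ⟨η, hN⟩⟩
  have h1 : (1 : B) ∈ J := by rw [hJ]; exact Submodule.mem_top
  rw [Submodule.mem_comap, LinearMap.toSpanSingleton_apply, one_smul, LinearMap.mem_range] at h1
  exact h1

end glue

end Groth.Agent.Lib.Seat88.CartierGlue
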