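import Mathlib
import Groth.Prelude.Def_FrobAlg
import Groth.Agent.Lib.Helper6FrobEtale
import Groth.Agent.Lib.Seat88RelFrobCoord
import Groth.Agent.Lib.Seat88PLinDer
import Groth.Agent.Lib.Seat88CartierCoord

/-!
# The Cartier isomorphism in degree one for an algebra with étale coordinates over a perfect ring

`B` étale over `A[T_i, i ∈ σ]`, `A` perfect of characteristic `p`.  Then the inverse Cartier
operator `gam : Ω[B⁄A] → Ω[B⁄A]/dB` is injective (`gam_eq_zero`) and every one-form with symmetric
partial derivatives is in its image modulo exact forms (`exists_gam_eq_cls`).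
-/

set_option autoImplicit false
set_option linter.unusedSectionVars false
universe u v w

namespace Groth.Agent.Lib.Seat88.CartierLocal

open TensorProduct FrobAlg MvPolynomial KaehlerDifferential
open Groth.Agent.Lib.Helper6.FrobEtale (relFrob_tmul)
open Groth.Agent.Lib.Seat88
open Groth.Agent.Lib.Seat88.PLin
open Groth.Agent.Lib.Seat88.CartierCoord

section zmod

variable (p : ℕ) [Fact p.Prime]

/-- `Fin p ≃ ZMod p` through `ZMod.val` -/
def finZ : Fin p ≃ ZMod p where
  toFun k := ((k : ℕ) : ZMod p)
  invFun z := ⟨z.val, ZMod.val_lt z⟩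
  left_inv k := by
    ext
    simp [ZMod.val_cast_of_lt k.isLt]
  right_inv z := by simp

lemma val_neg_one : (-1 : ZMod p).val = p - 1 := by
  rw [ZMod.neg_val, if_neg one_ne_zero, ZMod.val_one]

lemma val_sub_one (z : ZMod p) (hz : z ≠ 0) : (z - 1).val = z.val - 1 := by
  rw [ZMod.val_sub, ZMod.val_one]
  rw [ZMod.val_one]
  exact Nat.one_le_iff_ne_zero.mpr ((ZMod.val_ne_zero z).mpr hz)

end zmod

section perfect

variable (p : ℕ) [Fact p.Prime] (A : Type u) [CommRing A] [CharP A p] [PerfectRing A p]
  (B : Type v) [CommRing B] [Algebra A B]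

lemma algebraMap_twist_bijective : Function.Bijective (algebraMap A (Twist p A)) := by
  have : ⇑(algebraMap A (Twist p A)) = (toTwist p A) ∘ (frobenius A p) := rfl
  rw [this]
  exact (toTwist p A).bijective.comp (_root_.bijective_frobenius A p)

/-- for perfect `A`, `b ↦ b ⊗ 1` is a bijection from `B` to its Frobenius twist -/
lemma tmul_one_bijective : Function.Bijective (fun b : B => b ⊗ₜ[A] (1 : Twist p A)) := by
  have hbij := algebraMap_twist_bijective p A
  constructor
  · let e : A ≃ₗ[A] Twist p A := LinearEquiv.ofBijective (Algebra.linearMap A (Twist p A)) hbij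
    let f : B ⊗[A] Twist p A →ₗ[A] B :=
      (TensorProduct.rid A B).toLinearMap ∘ₗ (LinearMap.lTensor B e.symm.toLinearMap)
    have he : e.symm 1 = 1 := by
      rw [LinearEquiv.symm_apply_eq]
      change (1 : Twist p A) = algebraMap A (Twist p A) 1
      rw [map_one]
    have hf : ∀ b : B, f (b ⊗ₜ[A] (1 : Twist p A)) = b := by
      intro b
      simp [f, he]
    intro b b' h
    rw [← hf b, ← hf b']
    exact congrArg f h
  · intro x
    induction x using TensorProduct.induction_on with
    | zero => exact ⟨0, TensorProduct.zero_tmul _ _⟩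
    | tmul b a' =>
      obtain ⟨a, rfl⟩ := hbij.2 a'
      refine ⟨a • b, ?_⟩
      change (a • b) ⊗ₜ[A] (1 : Twist p A) = b ⊗ₜ[A] algebraMap A (Twist p A) a
      rw [TensorProduct.smul_tmul, Algebra.algebraMap_eq_smul_one]
    | add x y hx hy =>
      obtain ⟨b, rfl⟩ := hx
      obtain ⟨b', rfl⟩ := hy
      exact ⟨b + b', TensorProduct.add_tmul _ _ _⟩

end perfect

section coords

variable (p : ℕ) [Fact p.Prime] (A : Type u) [CommRing A] [CharP A p]
  (B : Type v) [CommRing B] [Algebra A B] [CharP B p]
  (σ : Type w) [Fintype σ] [DecidableEq σ]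

lemma relFrob_tmul_one (b : B) : relFrob p A B (b ⊗ₜ[A] (1 : Twist p A)) = b ^ p := by
  rw [relFrob_tmul]
  have : (toTwist p A).symm (1 : Twist p A) = 1 := map_one _
  rw [this, map_one, mul_one]

lemma D_relFrob (r : BaseChange p A B) : D A B (relFrob p A B r) = 0 := by
  induction r using TensorProduct.induction_on with
  | zero => simp
  | tmul b a =>
    rw [relFrob_tmul, Derivation.leibniz, Derivation.map_algebraMap, smul_zero, zero_add,
      D_pow_p, smul_zero]
  | add x y hx hy => rw [map_add, map_add, hx, hy, add_zero]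

lemma relFrob_kap [CharP (BaseChange p A B) p] (z : ZMod p) :
    relFrob p A B (kap p (BaseChange p A B) z) = ((z.val : ℕ) : B) := by
  conv_lhs => rw [← ZMod.natCast_zmod_val z]
  rw [map_natCast, map_natCast]

variable [Algebra (MvPolynomial σ A) B] [IsScalarTower A (MvPolynomial σ A) B]
  [Algebra.Etale (MvPolynomial σ A) B]

/-- the coordinate functions -/
noncomputable def t (i : σ) : B := algebraMap (MvPolynomial σ A) B (X i)

/-- the basis `d t_i` of the differentials -/
noncomputable def bΩ : Module.Basis σ B Ω[B⁄A] :=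
  (KaehlerDifferential.isBaseChange_of_formallyEtale A (MvPolynomial σ A) B).basis
    (KaehlerDifferential.mvPolynomialBasis A σ)

omit [Fintype σ] [DecidableEq σ] [CharP A p] [CharP B p] in
lemma bΩ_apply (i : σ) : bΩ A B σ i = D A B (t A B σ i) := by
  rw [bΩ, IsBaseChange.basis_apply, KaehlerDifferential.mvPolynomialBasis_apply,
    KaehlerDifferential.map_D]
  rfl

omit [Fintype σ] [DecidableEq σ] [CharP A p] [CharP B p] in
lemma der_algebraMap (i : σ) (f : MvPolynomial σ A) :
    der (bΩ A B σ) i (algebraMap (MvPolynomial σ A) B f) =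
      algebraMap (MvPolynomial σ A) B (pderiv i f) := by
  rw [der_apply, ← KaehlerDifferential.map_D A A (MvPolynomial σ A) B f, bΩ,
    IsBaseChange.basis_repr_comp_apply, KaehlerDifferential.mvPolynomialBasis_repr_apply]

/-- the exponent vector attached to `ε : σ → ZMod p` -/
noncomputable def expoZ (ε : σ → ZMod p) : σ →₀ ℕ :=
  Finsupp.equivFunOnFinite.symm fun i => (ε i).val

@[simp] lemma expoZ_apply (ε : σ → ZMod p) (i : σ) : expoZ p σ ε i = (ε i).val := rfl

/-- the monomials `t^ε` -/
noncomputable def mono (ε : σ → ZMod p) : B :=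
  algebraMap (MvPolynomial σ A) B (monomial (expoZ p σ ε) 1)

set_option linter.style.haveILetI false in
/-- `B` is free over its Frobenius twist with basis the monomials `t^ε`, `ε : σ → ZMod p` -/
theorem exists_basisZ :
    letI := (relFrob p A B).toAlgebra
    ∃ b : Module.Basis (σ → ZMod p) (BaseChange p A B) B, ∀ ε, b ε = mono p A B σ ε := by
  letI := (relFrob p A B).toAlgebra
  obtain ⟨b₀, hb₀⟩ := RelFrobCoord.exists_basis p A B σ
  refine ⟨b₀.reindex (Equiv.piCongrRight fun _ => finZ p), fun ε => ?_⟩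
  rw [Module.Basis.reindex_apply, hb₀]
  rfl

omit [Fintype σ] in
lemma expoZ_sub_single (ε : σ → ZMod p) (i : σ) (h : ε i ≠ 0) [Fintype σ] :
    expoZ p σ ε - Finsupp.single i 1 = expoZ p σ (ε - Pi.single i 1) := by
  ext j
  by_cases hj : j = i
  · subst hj
    simp [val_sub_one p _ h]
  · simp [hj]

lemma expoZ_neg_single (i : σ) :
    expoZ p σ (- Pi.single i 1) = Finsupp.single i (p - 1) := by
  ext j
  by_cases hj : j = i
  · subst hj
    simp [val_neg_one p]
  · simp [hj]

lemma mono_neg_single (i : σ) : mono p A B σ (- Pi.single i 1) = t A B σ i ^ (p - 1) := by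
  rw [mono, expoZ_neg_single, ← MvPolynomial.X_pow_eq_monomial, map_pow]
  rfl

lemma der_mono (i : σ) (ε : σ → ZMod p) :
    der (bΩ A B σ) i (mono p A B σ ε) =
      (((ε i).val : ℕ) : B) * mono p A B σ (ε - Pi.single i 1) := by
  rw [mono, der_algebraMap, pderiv_monomial, one_mul, expoZ_apply]
  by_cases h : ε i = 0
  · simp [h]
  · rw [expoZ_sub_single p σ ε i h, mono]
    have : (monomial (expoZ p σ (ε - Pi.single i 1)) (((ε i).val : ℕ) : A)) =
        C (((ε i).val : ℕ) : A) * monomial (expoZ p σ (ε - Pi.single i 1)) 1 := by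
      rw [C_mul_monomial, mul_one]
    rw [this, map_mul, RelFrobCoord.algebraMap_C, map_natCast]

end coords

section main

variable (p : ℕ) [Fact p.Prime] (A : Type u) [CommRing A] [CharP A p] [PerfectRing A p]
  (B : Type v) [CommRing B] [Algebra A B] [CharP B p]
  (σ : Type w) [Fintype σ] [DecidableEq σ]
  [Algebra (MvPolynomial σ A) B] [IsScalarTower A (MvPolynomial σ A) B]
  [Algebra.Etale (MvPolynomial σ A) B]

omit [CharP A p] [PerfectRing A p] [DecidableEq σ] in
/-- the representative of `gam` in coordinates -/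
lemma gam_sum (b : σ → B) :
    gam p A B (∑ i, b i • bΩ A B σ i) =
      cls p A B (∑ i, (b i ^ p * t A B σ i ^ (p - 1)) • bΩ A B σ i) := by
  rw [map_sum, cls_sum]
  refine Finset.sum_congr rfl fun i _ => ?_
  rw [bΩ_apply, gam_smul_D, smul_smul]

set_option linter.style.haveILetI false in
/-- the two halves of the Cartier isomorphism in coordinates -/
theorem key :
    (∀ (g : B) (b : σ → B),
      D A B g + ∑ i, (b i ^ p * t A B σ i ^ (p - 1)) • bΩ A B σ i = 0 → b = 0) ∧
    (∀ ω : Ω[B⁄A],
      (∀ i j, der (bΩ A B σ) j ((bΩ A B σ).repr ω i) = der (bΩ A B σ) i ((bΩ A B σ).repr ω j)) →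
      ∃ (g : B) (b : σ → B),
        ω = D A B g + ∑ i, (b i ^ p * t A B σ i ^ (p - 1)) • bΩ A B σ i) := by
  letI alg : Algebra (BaseChange p A B) B := (relFrob p A B).toAlgebra
  haveI : CharP (BaseChange p A B) p := RelFrobPoly.charP_baseChange p A B
  obtain ⟨bE, hbE⟩ := exists_basisZ p A B σ
  have hR : ∀ r : BaseChange p A B, D A B (algebraMap (BaseChange p A B) B r) = 0 :=
    fun r => D_relFrob p A B r
  have hM : ∀ i ε, der (bΩ A B σ) i (bE ε) =
      kap p (BaseChange p A B) (ε i) • bE (ε - Pi.single i 1) := by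
    intro i ε
    rw [hbE, hbE, der_mono, Algebra.smul_def]
    congr 1
    exact (relFrob_kap p A B (ε i)).symm
  have hsmul : ∀ (b : B) (i : σ),
      ((b ⊗ₜ[A] (1 : Twist p A) : BaseChange p A B) • bE (- Pi.single i 1)) =
        b ^ p * t A B σ i ^ (p - 1) := by
    intro b i
    rw [Algebra.smul_def, hbE, mono_neg_single]
    congr 1
    exact relFrob_tmul_one p A B b
  have hbij := tmul_one_bijective p A B
  constructor
  · intro g b h
    have h1 := coeff_eq_zero p bE (bΩ A B σ) hR hM g (fun i => b i ⊗ₜ[A] (1 : Twist p A))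
      (by simpa only [hsmul] using h)
    funext i
    apply hbij.1
    have h2 := congrFun h1 i
    simpa using h2
  · intro ω hsym
    obtain ⟨g, c, hc⟩ := exists_decomp p bE (bΩ A B σ) hR hM ω hsym
    choose b hb using fun i => hbij.2 (c i)
    refine ⟨g, b, ?_⟩
    rw [hc]
    congr 1
    refine Finset.sum_congr rfl fun i _ => ?_
    have hb' : b i ⊗ₜ[A] (1 : Twist p A) = c i := hb i
    rw [← hsmul, hb']

include σ in
/-- the inverse Cartier operator is injective -/
theorem gam_eq_zero (η : Ω[B⁄A]) (h : gam p A B η = 0) : η = 0 := by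
  obtain ⟨h1, -⟩ := key p A B σ
  have hη := (bΩ A B σ).sum_repr η
  rw [← hη, gam_sum, cls_eq_zero_iff] at h
  obtain ⟨f, hf⟩ := h
  have h2 := h1 (-f) (fun i => (bΩ A B σ).repr η i) (by rw [map_neg, hf, neg_add_cancel])
  rw [← hη]
  refine Finset.sum_eq_zero fun i _ => ?_
  rw [show (bΩ A B σ).repr η i = 0 from congrFun h2 i, zero_smul]

/-- a one-form with symmetric partial derivatives is, modulo exact forms, in the image of the
inverse Cartier operator -/
theorem exists_gam_eq_cls (ω : Ω[B⁄A])
    (hsym : ∀ i j,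
      der (bΩ A B σ) j ((bΩ A B σ).repr ω i) = der (bΩ A B σ) i ((bΩ A B σ).repr ω j)) :
    ∃ η, gam p A B η = cls p A B ω := by
  obtain ⟨-, h2⟩ := key p A B σ
  obtain ⟨g, b, hb⟩ := h2 ω hsym
  refine ⟨∑ i, b i • bΩ A B σ i, ?_⟩
  rw [gam_sum, hb, cls_add, cls_D, zero_add]

end main

end Groth.Agent.Lib.Seat88.CartierLocal
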