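import Mathlib
import Groth.Prelude.Def_DeRham
import Groth.Prelude.Def_FrobAlg
import Groth.Agent.Lib.Seat88PLinDer
import Groth.Agent.Lib.Seat88CartierCoord
import Groth.Agent.Lib.Seat88CartierLocal
import Groth.Agent.Lib.Seat88CartierGlue
import Groth.Agent.Lib.Seat88CartierClosed

/-!
# The Cartier isomorphism in degree one for a smooth algebra over a perfect ring

`cartier_iso`: for `B` smooth over a perfect ring `A` of characteristic `p`, the inverse Cartier
operator `gam : Ω[B⁄A] → Ω[B⁄A]/dB` is injective and its image contains the classes of all closed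
one-forms.  `existsUnique_cartier`: the resulting Cartier operator and its characterisation.
-/

set_option autoImplicit false
set_option linter.unusedSectionVars false
universe u v w

namespace Groth.Agent.Lib.Seat88.CartierGlobal

open KaehlerDifferential exteriorPower
open Groth.Agent.Lib.Seat88.PLin
open Groth.Agent.Lib.Seat88.CartierCoord
open Groth.Agent.Lib.Seat88.CartierGlue
open Groth.Agent.Lib.Seat88.CartierClosed

section localpkg

variable (p : ℕ) [Fact p.Prime] (A : Type u) [CommRing A] [CharP A p] [PerfectRing A p]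
  (B' : Type v) [CommRing B'] [Algebra A B'] [CharP B' p]

set_option linter.style.haveILetI false in
/-- the local Cartier isomorphism for a standard smooth algebra -/
theorem local_of_isStandardSmooth [Algebra.IsStandardSmooth A B'] :
    (∀ η', gam p A B' η' = 0 → η' = 0) ∧
    ∃ (n : ℕ) (bΩ' : Module.Basis (Fin n) B' Ω[B'⁄A]) (t' : Fin n → B'),
      (∀ k, bΩ' k = D A B' (t' k)) ∧
      ∀ ω', (∀ i j, der bΩ' j (bΩ'.repr ω' i) = der bΩ' i (bΩ'.repr ω' j)) →
        ∃ η', gam p A B' η' = cls p A B' ω' := by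
  obtain ⟨ι, σ, hσ, hι, ⟨P⟩⟩ := Algebra.IsStandardSmooth.out (R := A) (S := B')
  haveI : Algebra.IsStandardSmoothOfRelativeDimension P.dimension A B' := ⟨_, _, _, hι, P, rfl⟩
  obtain ⟨g, hg⟩ :=
    Algebra.IsStandardSmoothOfRelativeDimension.exists_etale_mvPolynomial P.dimension A B'
  letI : Algebra (MvPolynomial (Fin P.dimension) A) B' :=
    (g : MvPolynomial (Fin P.dimension) A →+* B').toAlgebra
  haveI : IsScalarTower A (MvPolynomial (Fin P.dimension) A) B' :=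
    IsScalarTower.of_algebraMap_eq' g.comp_algebraMap.symm
  haveI : Algebra.Etale (MvPolynomial (Fin P.dimension) A) B' := hg
  refine ⟨fun η' h => CartierLocal.gam_eq_zero p A B' (Fin P.dimension) η' h,
    P.dimension, CartierLocal.bΩ A B' (Fin P.dimension), CartierLocal.t A B' (Fin P.dimension),
    fun k => CartierLocal.bΩ_apply A B' (Fin P.dimension) k,
    fun ω' h => CartierLocal.exists_gam_eq_cls p A B' (Fin P.dimension) ω' h⟩

end localpkg

section global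

variable (p : ℕ) [Fact p.Prime] (A : Type v) [CommRing A] [CharP A p] [PerfectRing A p]
  (B : Type u) [CommRing B] [Algebra A B] [CharP B p] [Algebra.Smooth A B]
  (d : ∀ q : ℕ, ↥(⋀[B]^q (Ω[B⁄A])) →ₗ[A] ↥(⋀[B]^(q + 1) (Ω[B⁄A])))
  (hd : DeRham.IsDiff (KaehlerDifferential.D A B) d)

include hd in
/-- the Cartier isomorphism in degree one -/
theorem cartier_iso :
    (∀ η, gam p A B η = 0 → η = 0) ∧
    (∀ ω : ↥(⋀[B]^1 (Ω[B⁄A])), d 1 ω = 0 →
      ∃ η, gam p A B η = cls p A B (oneEquiv B (Ω[B⁄A]) ω)) := by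
  have hp : p.Prime := Fact.out
  obtain ⟨s, hs, h⟩ := Algebra.Smooth.exists_span_eq_top_isStandardSmooth A B
  -- the local statements
  have hloc : ∀ x ∈ s, (∀ η, gam p A B η = 0 → ∃ N : ℕ, x ^ N • η = 0) ∧
      (∀ ω : ↥(⋀[B]^1 (Ω[B⁄A])), d 1 ω = 0 →
        ∃ (N : ℕ) (η : Ω[B⁄A]), gam p A B η = x ^ N • cls p A B (oneEquiv B (Ω[B⁄A]) ω)) := by
    intro x hx
    rcases subsingleton_or_nontrivial (Localization.Away x) with hsub | hnt
    · have h0 : (0 : B) ∈ Submonoid.powers x :=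
        (IsLocalization.subsingleton_iff (M := Submonoid.powers x)
          (S := Localization.Away x)).mp hsub
      obtain ⟨N, hN⟩ := h0
      have hN' : x ^ N = 0 := hN
      exact ⟨fun η _ => ⟨N, by rw [hN', zero_smul]⟩,
        fun ω _ => ⟨N, 0, by rw [hN', zero_smul, map_zero]⟩⟩
    · have := h x hx
      have hp0 : ((p : ℕ) : Localization.Away x) = 0 := by
        have : ((p : ℕ) : Localization.Away x) =
            algebraMap B (Localization.Away x) ((p : ℕ) : B) := (map_natCast _ p).symm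
        rw [this, CharP.cast_eq_zero, map_zero]
      have : CharP (Localization.Away x) p := (CharP.charP_iff_prime_eq_zero hp).mpr hp0
      obtain ⟨hinj, n, bΩ', t', hΩ, hsurj⟩ :=
        local_of_isStandardSmooth p A (Localization.Away x)
      refine ⟨fun η hη =>
        exists_pow_smul_eq_zero p A B x (Localization.Away x) hinj η hη, fun ω hω => ?_⟩
      apply exists_pow_smul_eq_gam p A B x (Localization.Away x)
      exact hsurj _ (fun i j => sym_of_closed d hd bΩ' t' hΩ ω hω i j)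
  constructor
  · exact gam_injective_of_cover p A B s hs (fun x hx => (hloc x hx).1)
  · intro ω hω
    exact exists_gam_of_cover p A B s hs _ (fun x hx => (hloc x hx).2 ω hω)

end global

section final

variable (p : ℕ) [Fact p.Prime] (A : Type v) [CommRing A] [CharP A p] [PerfectRing A p]
  (B : Type u) [CommRing B] [Algebra A B] [CharP B p] [Algebra.Smooth A B]
  (d : ∀ q : ℕ, ↥(⋀[B]^q (Ω[B⁄A])) →ₗ[A] ↥(⋀[B]^(q + 1) (Ω[B⁄A])))
  (hd : DeRham.IsDiff (KaehlerDifferential.D A B) d)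

omit [CharP A p] [PerfectRing A p] [Algebra.Smooth A B] in
include hd in
lemma closed_pow (b c : B) :
    d 1 ((oneEquiv B (Ω[B⁄A])).symm ((b ^ p * c ^ (p - 1)) • D A B c)) = 0 :=
  closed_of_D_eq_smul d hd _ c (b ^ p * (((p - 1 : ℕ) : B) * c ^ (p - 1 - 1))) (by
    rw [D_pow_p_mul, Derivation.leibniz_pow, ← Nat.cast_smul_eq_nsmul B, smul_smul, smul_smul,
      mul_assoc])

omit [CharP A p] [PerfectRing A p] [Algebra.Smooth A B] [Fact p.Prime] [CharP B p] in
include hd in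
lemma closed_exact (g : B) : d 1 ((oneEquiv B (Ω[B⁄A])).symm (D A B g)) = 0 := by
  rw [← d_zero d hd g]
  exact LinearMap.congr_fun (hd.2 0) _

include hd in
/-- existence and uniqueness of the Cartier operator in degree one -/
theorem existsUnique_cartier :
    ∃! C : ↥(DeRham.cocycles d 1) →+ ↥(⋀[B]^1 (Ω[B⁄A])),
      (∀ (f : B) (ω ω' : ↥(DeRham.cocycles d 1)),
          (ω' : ↥(⋀[B]^1 (Ω[B⁄A]))) = f ^ p • (ω : ↥(⋀[B]^1 (Ω[B⁄A]))) → C ω' = f • C ω) ∧
      (∀ ω : ↥(DeRham.cocycles d 1),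
          C ω = 0 ↔ (ω : ↥(⋀[B]^1 (Ω[B⁄A]))) ∈ DeRham.coboundaries d 1) ∧
      (∀ (f : B) (ω : ↥(DeRham.cocycles d 1)),
          (ω : ↥(⋀[B]^1 (Ω[B⁄A]))) =
              f ^ (p - 1) • d 0 ((exteriorPower.zeroEquiv B (Ω[B⁄A])).symm f) →
            C ω = d 0 ((exteriorPower.zeroEquiv B (Ω[B⁄A])).symm f)) := by
  obtain ⟨hinj, hsurj⟩ := cartier_iso p A B d hd
  have hinj' : ∀ η η', gam p A B η = gam p A B η' → η = η' := by
    intro η η' h
    have := hinj (η - η') (by rw [map_sub, h, sub_self])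
    exact sub_eq_zero.mp this
  have hcl : ∀ ω : ↥(DeRham.cocycles d 1), d 1 (ω : ↥(⋀[B]^1 (Ω[B⁄A]))) = 0 :=
    fun ω => LinearMap.mem_ker.mp ω.2
  choose E hE using fun ω : ↥(DeRham.cocycles d 1) => hsurj ω (hcl ω)
  have hEchar : ∀ (ω : ↥(DeRham.cocycles d 1)) (η : Ω[B⁄A]),
      gam p A B η = cls p A B (oneEquiv B (Ω[B⁄A]) ω) → E ω = η :=
    fun ω η h => hinj' _ _ ((hE ω).trans h.symm)
  have hd0 : ∀ f : B, d 0 ((zeroEquiv B (Ω[B⁄A])).symm f) =
      (oneEquiv B (Ω[B⁄A])).symm (D A B f) := d_zero d hd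
  -- any operator with the three properties is `ω ↦ E ω`
  have huniq : ∀ C' : ↥(DeRham.cocycles d 1) →+ ↥(⋀[B]^1 (Ω[B⁄A])),
      (∀ (f : B) (ω ω' : ↥(DeRham.cocycles d 1)),
          (ω' : ↥(⋀[B]^1 (Ω[B⁄A]))) = f ^ p • (ω : ↥(⋀[B]^1 (Ω[B⁄A]))) → C' ω' = f • C' ω) →
      (∀ ω : ↥(DeRham.cocycles d 1),
          C' ω = 0 ↔ (ω : ↥(⋀[B]^1 (Ω[B⁄A]))) ∈ DeRham.coboundaries d 1) →
      (∀ (f : B) (ω : ↥(DeRham.cocycles d 1)),
          (ω : ↥(⋀[B]^1 (Ω[B⁄A]))) =
              f ^ (p - 1) • d 0 ((exteriorPower.zeroEquiv B (Ω[B⁄A])).symm f) →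
            C' ω = d 0 ((exteriorPower.zeroEquiv B (Ω[B⁄A])).symm f)) →
      ∀ ω, C' ω = (oneEquiv B (Ω[B⁄A])).symm (E ω) := by
    intro C' Q1 Q2 Q3 ω
    obtain ⟨l, hl⟩ := exists_finsupp A B (E ω)
    have h1 := hE ω
    rw [← hl, gam_finsupp_sum, cls_eq_iff] at h1
    obtain ⟨g, hg⟩ := h1
    -- the closed forms involved
    let z : B → B → ↥(DeRham.cocycles d 1) := fun c b =>
      ⟨(oneEquiv B (Ω[B⁄A])).symm ((b ^ p * c ^ (p - 1)) • D A B c),
        LinearMap.mem_ker.mpr (closed_pow p A B d hd b c)⟩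
    let zg : ↥(DeRham.cocycles d 1) :=
      ⟨(oneEquiv B (Ω[B⁄A])).symm (D A B g), LinearMap.mem_ker.mpr (closed_exact A B d hd g)⟩
    have hz : ∀ c b, C' (z c b) = (oneEquiv B (Ω[B⁄A])).symm (b • D A B c) := by
      intro c b
      have e1 : ((z c b : ↥(DeRham.cocycles d 1)) : ↥(⋀[B]^1 (Ω[B⁄A]))) =
          b ^ p • ((z c 1 : ↥(DeRham.cocycles d 1)) : ↥(⋀[B]^1 (Ω[B⁄A]))) := by
        change (oneEquiv B (Ω[B⁄A])).symm ((b ^ p * c ^ (p - 1)) • D A B c) =
          b ^ p • (oneEquiv B (Ω[B⁄A])).symm (((1 : B) ^ p * c ^ (p - 1)) • D A B c)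
        rw [one_pow, one_mul, ← LinearEquiv.map_smul, smul_smul]
      have e2 : ((z c 1 : ↥(DeRham.cocycles d 1)) : ↥(⋀[B]^1 (Ω[B⁄A]))) =
          c ^ (p - 1) • d 0 ((exteriorPower.zeroEquiv B (Ω[B⁄A])).symm c) := by
        change (oneEquiv B (Ω[B⁄A])).symm (((1 : B) ^ p * c ^ (p - 1)) • D A B c) = _
        rw [hd0, one_pow, one_mul, map_smul]
      rw [Q1 b (z c 1) (z c b) e1, Q3 c (z c 1) e2, hd0, map_smul]
    have hzg : C' zg = 0 := by
      rw [Q2]
      change _ ∈ LinearMap.range (d 0)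
      exact ⟨(zeroEquiv B (Ω[B⁄A])).symm g, hd0 g⟩
    have hω : ω = (∑ c ∈ l.support, z c (l c)) - zg := by
      apply Subtype.ext
      rw [Submodule.coe_sub, Submodule.coe_sum]
      change _ = (∑ c ∈ l.support,
        (oneEquiv B (Ω[B⁄A])).symm ((l c ^ p * c ^ (p - 1)) • D A B c)) -
          (oneEquiv B (Ω[B⁄A])).symm (D A B g)
      rw [← map_sum, ← map_sub, LinearEquiv.eq_symm_apply, ← hg]
      simp only [Finsupp.sum, smul_smul]
      abel
    have hsub : C' ((∑ c ∈ l.support, z c (l c)) - zg) =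
        C' (∑ c ∈ l.support, z c (l c)) - C' zg := map_sub C' _ _
    rw [congrArg C' hω, hsub, map_sum, hzg, sub_zero, ← hl]
    simp only [Finsupp.sum, map_sum, hz]
  let C : ↥(DeRham.cocycles d 1) →+ ↥(⋀[B]^1 (Ω[B⁄A])) :=
    AddMonoidHom.mk' (fun ω => (oneEquiv B (Ω[B⁄A])).symm (E ω)) (by
      intro ω ω'
      rw [← map_add]
      congr 1
      apply hEchar
      rw [map_add, hE, hE, Submodule.coe_add, map_add, cls_add])
  have hC : ∀ ω, C ω = (oneEquiv B (Ω[B⁄A])).symm (E ω) := fun ω => rfl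
  have P1 : ∀ (f : B) (ω ω' : ↥(DeRham.cocycles d 1)),
      (ω' : ↥(⋀[B]^1 (Ω[B⁄A]))) = f ^ p • (ω : ↥(⋀[B]^1 (Ω[B⁄A]))) → C ω' = f • C ω := by
    intro f ω ω' h
    rw [hC, hC, ← map_smul]
    congr 1
    apply hEchar
    rw [map_smul, hE, h, map_smul, smul_cls]
  have P2 : ∀ ω : ↥(DeRham.cocycles d 1),
      C ω = 0 ↔ (ω : ↥(⋀[B]^1 (Ω[B⁄A]))) ∈ DeRham.coboundaries d 1 := by
    intro ω
    rw [hC]
    change _ ↔ (ω : ↥(⋀[B]^1 (Ω[B⁄A]))) ∈ LinearMap.range (d 0)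
    rw [LinearEquiv.map_eq_zero_iff]
    constructor
    · intro h0
      have h1 := hE ω
      rw [h0, map_zero] at h1
      obtain ⟨f, hf⟩ := (cls_eq_zero_iff p A B _).mp h1.symm
      refine ⟨(zeroEquiv B (Ω[B⁄A])).symm f, ?_⟩
      rw [hd0, ← hf, LinearEquiv.symm_apply_apply]
    · rintro ⟨z, hz⟩
      apply hEchar ω 0
      rw [map_zero]
      symm
      rw [cls_eq_zero_iff]
      refine ⟨zeroEquiv B (Ω[B⁄A]) z, ?_⟩
      have h1 := hd0 (zeroEquiv B (Ω[B⁄A]) z)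
      rw [LinearEquiv.symm_apply_apply, hz] at h1
      rw [h1, LinearEquiv.apply_symm_apply]
  have P3 : ∀ (f : B) (ω : ↥(DeRham.cocycles d 1)),
      (ω : ↥(⋀[B]^1 (Ω[B⁄A]))) =
          f ^ (p - 1) • d 0 ((exteriorPower.zeroEquiv B (Ω[B⁄A])).symm f) →
        C ω = d 0 ((exteriorPower.zeroEquiv B (Ω[B⁄A])).symm f) := by
    intro f ω h
    rw [hC, hd0]
    congr 1
    apply hEchar
    rw [gam_D, h, hd0, map_smul, LinearEquiv.apply_symm_apply]
  refine ⟨C, ⟨P1, P2, P3⟩, ?_⟩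
  rintro C' ⟨Q1, Q2, Q3⟩
  ext ω
  rw [huniq C' Q1 Q2 Q3 ω, hC]

end final

end Groth.Agent.Lib.Seat88.CartierGlobal
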