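import Mathlib.RingTheory.Smooth.StandardSmoothOfFree
import Mathlib.RingTheory.Smooth.Flat
import Mathlib.RingTheory.Etale.Basic
import Mathlib.RingTheory.Polynomial.Basic
import Mathlib.RingTheory.Nilpotent.Lemmas

/-!
# Lifting étale algebras along a surjection with nilpotent kernel

Let `π : B → A` be a surjective ring map with nilpotent kernel and `C` an étale `A`-algebra.
Then there is an étale `B`-algebra `D` with a surjection `π' : D → C` over `π` whose kernel is
generated by `ker π`.  Moreover every endomorphism `Φ` of `B` lifting an endomorphism `φ_C ∘ ...`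
extends to `D` (formal étaleness).
-/

set_option autoImplicit false
set_option linter.style.haveILetI false
universe u v

namespace Groth.Agent.Lib.Seat88.EtaleLift

open MvPolynomial

/-- A surjective ring hom with nilpotent kernel reflects units. -/
theorem isUnit_of_map_of_isNilpotent_ker {R S : Type*} [CommRing R] [CommRing S] (f : R →+* S)
    (hf : Function.Surjective f) (hker : ∀ x ∈ RingHom.ker f, IsNilpotent x)
    (x : R) (hx : IsUnit (f x)) : IsUnit x := by
  obtain ⟨y, hy⟩ := hf (hx.unit⁻¹ : Sˣ)
  have h1 : f (x * y - 1) = 0 := by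
    rw [map_sub, map_mul, hy, map_one, IsUnit.mul_val_inv, sub_self]
  have h2 : IsNilpotent (x * y - 1) := hker _ h1
  have h3 : IsUnit (x * y) := by
    have := h2.isUnit_add_one
    simpa using this
  exact isUnit_of_mul_isUnit_left h3

/-- Formal smoothness: lifting a ring map twisted by a ring endomorphism of the base. -/
theorem exists_lift_twisted {B D T Cq : Type*} [CommRing B] [CommRing D] [Algebra B D]
    [Algebra.FormallySmooth B D] [CommRing T] [CommRing Cq]
    (ΦT : B →+* T) (q : T →+* Cq) (hq : Function.Surjective q)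
    (hker : IsNilpotent (RingHom.ker q))
    (g : D →+* Cq) (hg : g.comp (algebraMap B D) = q.comp ΦT) :
    ∃ h : D →+* T, q.comp h = g ∧ h.comp (algebraMap B D) = ΦT := by
  letI : Algebra B T := ΦT.toAlgebra
  letI : Algebra B Cq := (q.comp ΦT).toAlgebra
  let qa : T →ₐ[B] Cq := { q with commutes' := fun b => rfl }
  let ga : D →ₐ[B] Cq := { g with commutes' := fun b => RingHom.congr_fun hg b }
  have hqa : Function.Surjective qa := hq
  have hker' : IsNilpotent (RingHom.ker (qa : T →+* Cq)) := hker
  refine ⟨(Algebra.FormallySmooth.liftOfSurjective ga qa hqa hker' : D →ₐ[B] T), ?_, ?_⟩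
  · ext d
    exact Algebra.FormallySmooth.liftOfSurjective_apply ga qa hqa hker' d
  · ext b
    exact (Algebra.FormallySmooth.liftOfSurjective ga qa hqa hker').commutes b

/-- Lifting an étale algebra along a surjection with nilpotent kernel. -/
theorem exists_etale_lift {A : Type u} {B : Type v} {C : Type*} [CommRing A] [CommRing B]
    [CommRing C] [Algebra A C] [Algebra.Etale A C] (π : B →+* A) (hπ : Function.Surjective π)
    (hnil : IsNilpotent (RingHom.ker π)) :
    ∃ (D : Type v) (_ : CommRing D) (_ : Algebra B D) (π' : D →+* C), Algebra.Etale B D ∧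
      Function.Surjective π' ∧ π'.comp (algebraMap B D) = (algebraMap A C).comp π ∧
      RingHom.ker π' = Ideal.map (algebraMap B D) (RingHom.ker π) := by
  classical
  have hstd : Algebra.IsStandardSmoothOfRelativeDimension 0 A C :=
    Algebra.Etale.iff_isStandardSmoothOfRelativeDimension_zero.mp inferInstance
  obtain ⟨ι, σ, _, _, P, hdim⟩ := hstd.out
  cases nonempty_fintype σ
  -- lift the relations
  have hmapsurj : Function.Surjective (MvPolynomial.map π : MvPolynomial ι B →+* MvPolynomial ι A) :=
    MvPolynomial.map_surjective π hπ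
  choose R hR using fun j : σ => hmapsurj (P.relation j)
  let I : Ideal (MvPolynomial ι B) := Ideal.span (Set.range R)
  let D : Type v := MvPolynomial ι B ⧸ I
  let Q : Algebra.PreSubmersivePresentation B D ι σ :=
    Algebra.PreSubmersivePresentation.naive (v := R) P.map P.map_inj
  -- the map to `C`
  let φ : MvPolynomial ι B →+* C :=
    ((MvPolynomial.aeval P.val : MvPolynomial ι A →ₐ[A] C) : MvPolynomial ι A →+* C).comp
      (MvPolynomial.map π)
  have hφR : ∀ j, φ (R j) = 0 := by
    intro j
    show (MvPolynomial.aeval P.val) (MvPolynomial.map π (R j)) = 0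
    rw [hR j]
    exact P.aeval_val_relation j
  have hφI : ∀ x ∈ I, φ x = 0 := by
    intro x hx
    refine Submodule.span_induction ?_ ?_ ?_ ?_ hx
    · rintro _ ⟨j, rfl⟩; exact hφR j
    · exact map_zero _
    · intro a b _ _ ha hb; rw [map_add, ha, hb, add_zero]
    · intro a b _ hb; rw [smul_eq_mul, map_mul, hb, mul_zero]
  let π' : D →+* C := Ideal.Quotient.lift I φ hφI
  have hπ'mk : ∀ x, π' (Ideal.Quotient.mk I x) = φ x := fun x => Ideal.Quotient.lift_mk I φ hφI
  have hφsurj : Function.Surjective φ := by
    intro c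
    obtain ⟨x, hx⟩ := P.algebraMap_surjective c
    obtain ⟨y, hy⟩ := hmapsurj x
    exact ⟨y, by
      show (MvPolynomial.aeval P.val) (MvPolynomial.map π y) = c
      rw [hy, ← P.algebraMap_apply]; exact hx⟩
  have hπ'surj : Function.Surjective π' := by
    intro c
    obtain ⟨y, hy⟩ := hφsurj c
    exact ⟨Ideal.Quotient.mk I y, by rw [hπ'mk, hy]⟩
  have hcomm : π'.comp (algebraMap B D) = (algebraMap A C).comp π := by
    ext b
    show π' (Ideal.Quotient.mk I (MvPolynomial.C b)) = algebraMap A C (π b)
    rw [hπ'mk]
    show (MvPolynomial.aeval P.val) (MvPolynomial.map π (MvPolynomial.C b)) = _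
    rw [MvPolynomial.map_C, MvPolynomial.aeval_C]
  -- kernel of `φ`
  have hkerφ : RingHom.ker φ = I ⊔ Ideal.map (MvPolynomial.C : B →+* MvPolynomial ι B)
      (RingHom.ker π) := by
    have h1 : RingHom.ker φ = Ideal.comap (MvPolynomial.map π : MvPolynomial ι B →+* MvPolynomial ι A)
        (RingHom.ker ((MvPolynomial.aeval P.val : MvPolynomial ι A →ₐ[A] C) :
          MvPolynomial ι A →+* C)) := by
      rw [← RingHom.comap_ker]
    have h2 : RingHom.ker ((MvPolynomial.aeval P.val : MvPolynomial ι A →ₐ[A] C) :
          MvPolynomial ι A →+* C) = Ideal.map (MvPolynomial.map π : MvPolynomial ι B →+* MvPolynomial ι A) I := by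
      rw [Ideal.map_span, ← Set.range_comp]
      have : (fun j => (MvPolynomial.map π : MvPolynomial ι B →+* MvPolynomial ι A) (R j)) = P.relation := funext hR
      show _ = Ideal.span (Set.range (fun j => (MvPolynomial.map π : MvPolynomial ι B →+* MvPolynomial ι A) (R j)))
      rw [this, P.span_range_relation_eq_ker, P.ker_eq_ker_aeval_val]
      rfl
    rw [h1, h2, Ideal.comap_map_of_surjective _ hmapsurj, ← RingHom.ker_eq_comap_bot,
      MvPolynomial.ker_map]
  have hker : RingHom.ker π' = Ideal.map (algebraMap B D) (RingHom.ker π) := by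
    have h1 : RingHom.ker π' = Ideal.map (Ideal.Quotient.mk I) (RingHom.ker φ) := by
      apply le_antisymm
      · intro d hd
        obtain ⟨x, rfl⟩ := Ideal.Quotient.mk_surjective d
        apply Ideal.mem_map_of_mem
        rw [RingHom.mem_ker] at hd ⊢
        rwa [hπ'mk] at hd
      · rw [Ideal.map_le_iff_le_comap]
        intro x hx
        rw [Ideal.mem_comap, RingHom.mem_ker, hπ'mk]
        exact hx
    rw [h1, hkerφ, Ideal.map_sup, Ideal.map_quotient_self, bot_sup_eq, Ideal.map_map]
    rfl
  -- nilpotency of the kernel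
  have hker_nil : ∀ d ∈ RingHom.ker π', IsNilpotent d := by
    obtain ⟨n, hn⟩ := hnil
    intro d hd
    refine ⟨n, ?_⟩
    have : d ^ n ∈ (RingHom.ker π') ^ n := Ideal.pow_mem_pow hd n
    rw [hker, ← Ideal.map_pow, hn, Ideal.zero_eq_bot, Ideal.map_bot] at this
    exact this
  -- the jacobian
  have hjac : π' Q.jacobian = P.jacobian := by
    rw [Algebra.PreSubmersivePresentation.jacobian_eq_jacobiMatrix_det,
      Algebra.PreSubmersivePresentation.jacobian_eq_jacobiMatrix_det]
    rw [P.algebraMap_apply]
    show π' (Ideal.Quotient.mk I Q.jacobiMatrix.det) = (MvPolynomial.aeval P.val) P.jacobiMatrix.det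
    rw [hπ'mk]
    show (MvPolynomial.aeval P.val) (MvPolynomial.map π Q.jacobiMatrix.det) = _
    congr 1
    rw [RingHom.map_det]
    congr 1
    ext i j
    rw [RingHom.mapMatrix_apply, Matrix.map_apply,
      Algebra.PreSubmersivePresentation.jacobiMatrix_naive,
      Algebra.PreSubmersivePresentation.jacobiMatrix_apply, ← MvPolynomial.pderiv_map, hR j]
  have hunit : IsUnit Q.jacobian :=
    isUnit_of_map_of_isNilpotent_ker π' hπ'surj hker_nil _ (hjac ▸ P.jacobian_isUnit)
  let Q' : Algebra.SubmersivePresentation B D ι σ := ⟨Q, hunit⟩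
  have hQdim : Q'.dimension = 0 := hdim
  have hstdD : Algebra.IsStandardSmoothOfRelativeDimension 0 B D :=
    Q'.isStandardSmoothOfRelativeDimension hQdim
  exact ⟨D, inferInstance, inferInstance, π', inferInstance, hπ'surj, hcomm, hker⟩

end Groth.Agent.Lib.Seat88.EtaleLift
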