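import Mathlib
import Groth.Prelude.Def_FSch4
import Groth.Agent.S0238

/-!
# Étale covers of a formal scheme (as a system of thickenings) and finite étale covers of its level `0`

`FSch.EtCov.level 𝔛 0` is an equivalence for a system of thickenings `𝔛`, from the topological invariance of
finite étale covers along each thickening `X n ⟶ X (n+1)` (prior S0238).
-/

set_option autoImplicit false
set_option linter.style.haveILetI false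
set_option linter.unusedSectionVars false
universe u

open CategoryTheory CategoryTheory.Limits AlgebraicGeometry

namespace Groth.Agent.Lib.Seat88.FormalEtCov

variable (𝔛 : FSch.Sys.{u})

/-- the level `n` scheme of a cover -/
abbrev Rn (R : FSch.EtCov 𝔛) (n : ℕ) : Scheme.{u} := R.obj.left.X n

/-- the level `n` structure map of a cover -/
abbrev pn (R : FSch.EtCov 𝔛) (n : ℕ) : Rn 𝔛 R n ⟶ 𝔛.X n := (R.obj.hom : FSch.Hom _ _).app n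

/-- the level `n` transition map of a cover -/
abbrev tn (R : FSch.EtCov 𝔛) (n : ℕ) : Rn 𝔛 R n ⟶ Rn 𝔛 R (n + 1) := R.obj.left.ι n

theorem adic (R : FSch.EtCov 𝔛) (n : ℕ) :
    IsPullback (tn 𝔛 R n) (pn 𝔛 R n) (pn 𝔛 R (n + 1)) (𝔛.ι n) := R.property.1 n

theorem level_obj_hom (R : FSch.EtCov 𝔛) (n : ℕ) : ((FSch.EtCov.level 𝔛 n).obj R).hom = pn 𝔛 R n := rfl

theorem level_map_left {R R' : FSch.EtCov 𝔛} (φ : R ⟶ R') (n : ℕ) :
    ((FSch.EtCov.level 𝔛 n).map φ).left = (φ.hom.left : FSch.Hom _ _).app n := rfl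

theorem hom_comm {R R' : FSch.EtCov 𝔛} (φ : R ⟶ R') (n : ℕ) :
    (φ.hom.left : FSch.Hom _ _).app n ≫ tn 𝔛 R' n = tn 𝔛 R n ≫ (φ.hom.left : FSch.Hom _ _).app (n + 1) :=
  (φ.hom.left : FSch.Hom _ _).comm n

/-- the comparison between level `n` and the restriction of level `n + 1` -/
noncomputable def a (R : FSch.EtCov 𝔛) (n : ℕ) :
    (FSch.EtCov.level 𝔛 n).obj R ≅ (FEt.restrict (𝔛.ι n)).obj ((FSch.EtCov.level 𝔛 (n + 1)).obj R) :=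
  MorphismProperty.Over.isoMk (adic 𝔛 R n).isoPullback (adic 𝔛 R n).isoPullback_hom_snd

theorem a_hom_left_fst (R : FSch.EtCov 𝔛) (n : ℕ) :
    (a 𝔛 R n).hom.left ≫ pullback.fst (pn 𝔛 R (n + 1)) (𝔛.ι n) = tn 𝔛 R n :=
  (adic 𝔛 R n).isoPullback_hom_fst

theorem a_hom_left_snd (R : FSch.EtCov 𝔛) (n : ℕ) :
    (a 𝔛 R n).hom.left ≫ pullback.snd (pn 𝔛 R (n + 1)) (𝔛.ι n) = pn 𝔛 R n :=
  (adic 𝔛 R n).isoPullback_hom_snd

theorem restrict_map_left_fst {X Y : Scheme.{u}} (f : X ⟶ Y) {Z Z' : FEt.Cat Y} (φ : Z ⟶ Z') :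
    ((FEt.restrict f).map φ).left ≫ pullback.fst Z'.hom f = pullback.fst Z.hom f ≫ φ.left :=
  pullback.lift_fst _ _ _

theorem restrict_map_left_snd {X Y : Scheme.{u}} (f : X ⟶ Y) {Z Z' : FEt.Cat Y} (φ : Z ⟶ Z') :
    ((FEt.restrict f).map φ).left ≫ pullback.snd Z'.hom f = pullback.snd Z.hom f :=
  pullback.lift_snd _ _ _

/-- naturality of the comparison -/
theorem a_naturality {R R' : FSch.EtCov 𝔛} (φ : R ⟶ R') (n : ℕ) :
    (FSch.EtCov.level 𝔛 n).map φ ≫ (a 𝔛 R' n).hom =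
      (a 𝔛 R n).hom ≫ (FEt.restrict (𝔛.ι n)).map ((FSch.EtCov.level 𝔛 (n + 1)).map φ) := by
  apply MorphismProperty.Over.Hom.ext
  have h1 : (((FSch.EtCov.level 𝔛 n).map φ).left ≫ (a 𝔛 R' n).hom.left) ≫
        pullback.fst (pn 𝔛 R' (n + 1)) (𝔛.ι n) =
      ((a 𝔛 R n).hom.left ≫
          ((FEt.restrict (𝔛.ι n)).map ((FSch.EtCov.level 𝔛 (n + 1)).map φ)).left) ≫
        pullback.fst (pn 𝔛 R' (n + 1)) (𝔛.ι n) :=
    (Category.assoc _ _ _).trans <|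
      (congrArg (fun k => ((FSch.EtCov.level 𝔛 n).map φ).left ≫ k) (a_hom_left_fst 𝔛 R' n)).trans <|
      (hom_comm 𝔛 φ n).trans <|
      (congrArg (fun k => k ≫ ((FSch.EtCov.level 𝔛 (n + 1)).map φ).left)
        (a_hom_left_fst 𝔛 R n).symm).trans <|
      (Category.assoc _ _ _).trans <|
      (congrArg (fun k => (a 𝔛 R n).hom.left ≫ k)
        (restrict_map_left_fst (𝔛.ι n) ((FSch.EtCov.level 𝔛 (n + 1)).map φ)).symm).trans
      (Category.assoc _ _ _).symm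
  have h2 : (((FSch.EtCov.level 𝔛 n).map φ).left ≫ (a 𝔛 R' n).hom.left) ≫
        pullback.snd (pn 𝔛 R' (n + 1)) (𝔛.ι n) =
      ((a 𝔛 R n).hom.left ≫
          ((FEt.restrict (𝔛.ι n)).map ((FSch.EtCov.level 𝔛 (n + 1)).map φ)).left) ≫
        pullback.snd (pn 𝔛 R' (n + 1)) (𝔛.ι n) :=
    (Category.assoc _ _ _).trans <|
      (congrArg (fun k => ((FSch.EtCov.level 𝔛 n).map φ).left ≫ k) (a_hom_left_snd 𝔛 R' n)).trans <|
      (MorphismProperty.Over.w ((FSch.EtCov.level 𝔛 n).map φ)).trans <|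
      (a_hom_left_snd 𝔛 R n).symm.trans <|
      (congrArg (fun k => (a 𝔛 R n).hom.left ≫ k)
        (restrict_map_left_snd (𝔛.ι n) ((FSch.EtCov.level 𝔛 (n + 1)).map φ)).symm).trans
      (Category.assoc _ _ _).symm
  exact pullback.hom_ext h1 h2

variable {𝔛}

section Formal

variable (h𝔛 : 𝔛.IsFormal)

include h𝔛 in
theorem isEquivalence_restrict (n : ℕ) : (FEt.restrict (𝔛.ι n)).IsEquivalence := by
  haveI : IsClosedImmersion (𝔛.ι n) := (h𝔛 n).1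
  haveI : Surjective (𝔛.ι n) := ⟨(h𝔛 n).2⟩
  exact Groth.Agent.S0238.result (𝔛.ι n)

include h𝔛 in
/-- a morphism of covers is determined by its level `0` -/
theorem level_map_eq {R R' : FSch.EtCov 𝔛} (φ ψ : R ⟶ R')
    (h0 : (FSch.EtCov.level 𝔛 0).map φ = (FSch.EtCov.level 𝔛 0).map ψ) (n : ℕ) :
    (FSch.EtCov.level 𝔛 n).map φ = (FSch.EtCov.level 𝔛 n).map ψ := by
  induction n with
  | zero => exact h0
  | succ n ih =>
    haveI := isEquivalence_restrict h𝔛 n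
    apply (FEt.restrict (𝔛.ι n)).map_injective
    rw [← cancel_epi (a 𝔛 R n).hom, ← a_naturality, ← a_naturality, ih]

include h𝔛 in
theorem faithful_level : (FSch.EtCov.level 𝔛 0).Faithful where
  map_injective {R R'} φ ψ h0 := by
    apply ObjectProperty.hom_ext
    apply Over.OverMorphism.ext
    apply FSch.Hom.ext
    funext n
    exact congrArg (fun k => k.left) (level_map_eq h𝔛 φ ψ h0 n)

/-- the levels of the lift of a morphism of level `0` -/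
noncomputable def Φ {R R' : FSch.EtCov 𝔛}
    (ψ₀ : (FSch.EtCov.level 𝔛 0).obj R ⟶ (FSch.EtCov.level 𝔛 0).obj R') :
    ∀ n, (FSch.EtCov.level 𝔛 n).obj R ⟶ (FSch.EtCov.level 𝔛 n).obj R'
  | 0 => ψ₀
  | n + 1 =>
    haveI := isEquivalence_restrict h𝔛 n
    (FEt.restrict (𝔛.ι n)).preimage ((a 𝔛 R n).inv ≫ Φ ψ₀ n ≫ (a 𝔛 R' n).hom)

theorem restrict_map_Φ {R R' : FSch.EtCov 𝔛}
    (ψ₀ : (FSch.EtCov.level 𝔛 0).obj R ⟶ (FSch.EtCov.level 𝔛 0).obj R') (n : ℕ) :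
    (a 𝔛 R n).hom ≫ (FEt.restrict (𝔛.ι n)).map (Φ h𝔛 ψ₀ (n + 1)) = Φ h𝔛 ψ₀ n ≫ (a 𝔛 R' n).hom := by
  haveI := isEquivalence_restrict h𝔛 n
  have : (FEt.restrict (𝔛.ι n)).map (Φ h𝔛 ψ₀ (n + 1)) =
      (a 𝔛 R n).inv ≫ Φ h𝔛 ψ₀ n ≫ (a 𝔛 R' n).hom := (FEt.restrict (𝔛.ι n)).map_preimage _
  rw [this, Iso.hom_inv_id_assoc]

theorem Φ_comm {R R' : FSch.EtCov 𝔛}
    (ψ₀ : (FSch.EtCov.level 𝔛 0).obj R ⟶ (FSch.EtCov.level 𝔛 0).obj R') (n : ℕ) :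
    (Φ h𝔛 ψ₀ n).left ≫ tn 𝔛 R' n = tn 𝔛 R n ≫ (Φ h𝔛 ψ₀ (n + 1)).left := by
  have h1 : ((a 𝔛 R n).hom.left ≫ ((FEt.restrict (𝔛.ι n)).map (Φ h𝔛 ψ₀ (n + 1))).left) =
      (Φ h𝔛 ψ₀ n).left ≫ (a 𝔛 R' n).hom.left :=
    congrArg (fun k => k.left) (restrict_map_Φ h𝔛 ψ₀ n)
  have h2 := congrArg (fun k => k ≫ pullback.fst (pn 𝔛 R' (n + 1)) (𝔛.ι n)) h1
  exact ((congrArg (fun k => (Φ h𝔛 ψ₀ n).left ≫ k) (a_hom_left_fst 𝔛 R' n)).symm.trans <|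
    (Category.assoc _ _ _).symm.trans <| h2.symm.trans <| (Category.assoc _ _ _).trans <|
    (congrArg (fun k => (a 𝔛 R n).hom.left ≫ k)
      (restrict_map_left_fst (𝔛.ι n) (Φ h𝔛 ψ₀ (n + 1)))).trans <|
    (Category.assoc _ _ _).symm.trans
      (congrArg (fun k => k ≫ (Φ h𝔛 ψ₀ (n + 1)).left) (a_hom_left_fst 𝔛 R n)))

/-- the lift of a morphism of level `0` -/
noncomputable def lift {R R' : FSch.EtCov 𝔛}
    (ψ₀ : (FSch.EtCov.level 𝔛 0).obj R ⟶ (FSch.EtCov.level 𝔛 0).obj R') : R ⟶ R' :=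
  ObjectProperty.homMk (Over.homMk
    (⟨fun n => (Φ h𝔛 ψ₀ n).left, fun n => Φ_comm h𝔛 ψ₀ n⟩ : FSch.Hom R.obj.left R'.obj.left)
    (by
      apply FSch.Hom.ext
      funext n
      exact MorphismProperty.Over.w (Φ h𝔛 ψ₀ n)))

include h𝔛 in
theorem full_level : (FSch.EtCov.level 𝔛 0).Full where
  map_surjective {R R'} ψ₀ := by
    refine ⟨lift h𝔛 ψ₀, ?_⟩
    apply MorphismProperty.Over.Hom.ext
    rfl

/-- successive lifts of a finite étale cover of level `0` -/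
noncomputable def Zseq (Z₀ : FEt.Cat (𝔛.X 0)) : ∀ n, FEt.Cat (𝔛.X n)
  | 0 => Z₀
  | n + 1 =>
    haveI := isEquivalence_restrict h𝔛 n
    (FEt.restrict (𝔛.ι n)).objPreimage (Zseq Z₀ n)

/-- the identification of the restriction of the lift -/
noncomputable def eZ (Z₀ : FEt.Cat (𝔛.X 0)) (n : ℕ) :
    (FEt.restrict (𝔛.ι n)).obj (Zseq h𝔛 Z₀ (n + 1)) ≅ Zseq h𝔛 Z₀ n :=
  haveI := isEquivalence_restrict h𝔛 n
  (FEt.restrict (𝔛.ι n)).objObjPreimageIso (Zseq h𝔛 Z₀ n)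

/-- the transition maps of the lifted system -/
noncomputable def zι (Z₀ : FEt.Cat (𝔛.X 0)) (n : ℕ) :
    (Zseq h𝔛 Z₀ n).left ⟶ (Zseq h𝔛 Z₀ (n + 1)).left :=
  (eZ h𝔛 Z₀ n).inv.left ≫ pullback.fst (Zseq h𝔛 Z₀ (n + 1)).hom (𝔛.ι n)

theorem eZ_inv_left_snd (Z₀ : FEt.Cat (𝔛.X 0)) (n : ℕ) :
    (eZ h𝔛 Z₀ n).inv.left ≫ pullback.snd (Zseq h𝔛 Z₀ (n + 1)).hom (𝔛.ι n) = (Zseq h𝔛 Z₀ n).hom :=
  MorphismProperty.Over.w (eZ h𝔛 Z₀ n).inv

theorem isPullback_zι (Z₀ : FEt.Cat (𝔛.X 0)) (n : ℕ) :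
    IsPullback (zι h𝔛 Z₀ n) (Zseq h𝔛 Z₀ n).hom (Zseq h𝔛 Z₀ (n + 1)).hom (𝔛.ι n) := by
  let eL : pullback (Zseq h𝔛 Z₀ (n + 1)).hom (𝔛.ι n) ≅ (Zseq h𝔛 Z₀ n).left :=
    (MorphismProperty.Over.forget _ _ _ ⋙ Over.forget _).mapIso (eZ h𝔛 Z₀ n)
  have h1 : eL.inv ≫ pullback.snd (Zseq h𝔛 Z₀ (n + 1)).hom (𝔛.ι n) = (Zseq h𝔛 Z₀ n).hom :=
    eZ_inv_left_snd h𝔛 Z₀ n
  have h2 : eL.inv ≫ pullback.fst (Zseq h𝔛 Z₀ (n + 1)).hom (𝔛.ι n) = zι h𝔛 Z₀ n := rfl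
  refine IsPullback.of_iso (IsPullback.of_hasPullback (Zseq h𝔛 Z₀ (n + 1)).hom (𝔛.ι n)) eL
    (Iso.refl _) (Iso.refl _) (Iso.refl _) ?_ ?_ ?_ ?_
  · rw [Iso.refl_hom, Category.comp_id, ← h2, Iso.hom_inv_id_assoc]
  · rw [Iso.refl_hom, Category.comp_id, ← h1, Iso.hom_inv_id_assoc]
  · simp
  · simp

/-- the lifted system -/
noncomputable def zSys (Z₀ : FEt.Cat (𝔛.X 0)) : FSch.Sys.{u} where
  X n := (Zseq h𝔛 Z₀ n).left
  ι n := zι h𝔛 Z₀ n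

/-- the structure morphism of the lifted system -/
noncomputable def zHom (Z₀ : FEt.Cat (𝔛.X 0)) : zSys h𝔛 Z₀ ⟶ 𝔛 :=
  (⟨fun n => (Zseq h𝔛 Z₀ n).hom, fun n => (isPullback_zι h𝔛 Z₀ n).w.symm⟩ : FSch.Hom _ _)

/-- the lifted cover -/
noncomputable def zCov (Z₀ : FEt.Cat (𝔛.X 0)) : FSch.EtCov 𝔛 :=
  ⟨Over.mk (zHom h𝔛 Z₀), ⟨fun n => isPullback_zι h𝔛 Z₀ n, fun n => (Zseq h𝔛 Z₀ n).prop⟩⟩

include h𝔛 in
theorem essSurj_level : (FSch.EtCov.level 𝔛 0).EssSurj where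
  mem_essImage Z₀ :=
    ⟨zCov h𝔛 Z₀, ⟨MorphismProperty.Over.isoMk (Iso.refl Z₀.left) (Category.id_comp Z₀.hom)⟩⟩

include h𝔛 in
theorem isEquivalence_level : (FSch.EtCov.level 𝔛 0).IsEquivalence := by
  haveI := faithful_level h𝔛
  haveI := full_level h𝔛
  haveI := essSurj_level h𝔛
  exact { }

end Formal

end Groth.Agent.Lib.Seat88.FormalEtCov
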