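import Mathlib.RingTheory.MvPolynomial.Ideal
import Mathlib.RingTheory.Noetherian.Nilpotent
import Mathlib.RingTheory.Polynomial.Basic
import Mathlib.Algebra.MvPolynomial.PDeriv
import Mathlib.Algebra.CharP.Lemmas
import Mathlib.RingTheory.Ideal.Quotient.Operations
import Mathlib.RingTheory.Ideal.Quotient.Noetherian
import Mathlib.RingTheory.PrincipalIdealDomain

/-!
# The truncated polynomial ring `k[X_1..X_n]/(X_i^p)` in characteristic `p`

* the augmentation `q : Q → k` has nilpotent kernel;
* partial derivatives descend to `Q` (`dQ`);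
* elements of `(X_i^p)` have vanishing coefficient at `X^(p-1)`;
* `(X_i + c)^(p-1) - X_i^(p-1)` is a partial derivative.
-/

set_option autoImplicit false
universe u

namespace Groth.Agent.Lib.Seat88.FrobDetB

open MvPolynomial

variable (p : ℕ) (k : Type u) [Field k] (n : ℕ)

/-- the ideal `(X_i^p)` -/
noncomputable def J : Ideal (MvPolynomial (Fin n) k) :=
  Ideal.span (Set.range fun i : Fin n => (X i : MvPolynomial (Fin n) k) ^ p)

/-- the truncated polynomial ring -/
abbrev Q : Type u := MvPolynomial (Fin n) k ⧸ J p k n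

variable {p k n}

lemma J_eq : J p k n = Ideal.span ((fun s => monomial s (1 : k)) ''
    (Set.range fun i : Fin n => Finsupp.single i p)) := by
  rw [J, ← Set.range_comp]
  congr 2
  funext i
  simp [X_pow_eq_monomial]

lemma mem_J_iff {F : MvPolynomial (Fin n) k} :
    F ∈ J p k n ↔ ∀ m ∈ F.support, ∃ i : Fin n, p ≤ m i := by
  rw [J_eq, mem_ideal_span_monomial_image]
  refine forall₂_congr fun m _ => ?_
  constructor
  · rintro ⟨s, ⟨i, rfl⟩, hs⟩
    exact ⟨i, by simpa using hs i⟩
  · rintro ⟨i, hi⟩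
    refine ⟨_, ⟨i, rfl⟩, ?_⟩
    intro j
    by_cases h : j = i
    · subst h; simpa using hi
    · simp [Finsupp.single_apply, Ne.symm h]

/-- Elements of `(X_i^p)` have no monomial all of whose exponents are `< p`. -/
lemma coeff_eq_zero_of_mem_J {F : MvPolynomial (Fin n) k} (hF : F ∈ J p k n)
    (μ : Fin n →₀ ℕ) (hμ : ∀ i, μ i < p) : coeff μ F = 0 := by
  by_contra h
  obtain ⟨i, hi⟩ := mem_J_iff.mp hF μ (mem_support_iff.mpr h)
  exact absurd (hμ i) (by omega)

/-- partial derivatives preserve `(X_i^p)` in characteristic `p` -/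
lemma pderiv_mem_J [CharP k p] (j : Fin n) {F : MvPolynomial (Fin n) k} (hF : F ∈ J p k n) :
    pderiv j F ∈ J p k n := by
  refine Submodule.span_induction ?_ ?_ ?_ ?_ hF
  · rintro _ ⟨i, rfl⟩
    rw [pderiv_pow]
    have : ((p : ℕ) : MvPolynomial (Fin n) k) = 0 := by
      rw [← map_natCast (C : k →+* MvPolynomial (Fin n) k), CharP.cast_eq_zero, map_zero]
    rw [this, zero_mul, zero_mul]
    exact Submodule.zero_mem _
  · rw [map_zero]; exact Submodule.zero_mem _
  · intro a b _ _ ha hb
    rw [map_add]; exact Submodule.add_mem _ ha hb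
  · intro a b hb hb'
    rw [smul_eq_mul, pderiv_mul]
    exact Submodule.add_mem _ (Ideal.mul_mem_left _ _ hb) (Ideal.mul_mem_left _ _ hb')

/-- the derivation of `Q` induced by `∂/∂X_j` -/
noncomputable def dQ [CharP k p] (j : Fin n) (x : Q p k n) : Q p k n :=
  Ideal.Quotient.mk (J p k n) (pderiv j (Function.surjInv Ideal.Quotient.mk_surjective x))

lemma dQ_mk [CharP k p] (j : Fin n) (F : MvPolynomial (Fin n) k) :
    dQ j (Ideal.Quotient.mk (J p k n) F) = Ideal.Quotient.mk (J p k n) (pderiv j F) := by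
  unfold dQ
  rw [Ideal.Quotient.eq, ← map_sub]
  apply pderiv_mem_J
  rw [← Ideal.Quotient.eq]
  exact Function.surjInv_eq _ _

variable (p k n) in
/-- the augmentation `Q → k` -/
noncomputable def q (hp : 0 < p) : Q p k n →+* k :=
  Ideal.Quotient.lift (J p k n) (constantCoeff : MvPolynomial (Fin n) k →+* k) (by
    intro F hF
    show coeff 0 F = 0
    exact coeff_eq_zero_of_mem_J hF 0 (fun i => by simpa using hp))

lemma q_mk (hp : 0 < p) (F : MvPolynomial (Fin n) k) :
    q p k n hp (Ideal.Quotient.mk _ F) = constantCoeff F := by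
  simp [q]

lemma q_surjective (hp : 0 < p) : Function.Surjective (q p k n hp) := fun c =>
  ⟨Ideal.Quotient.mk _ (C c), by rw [q_mk, constantCoeff_C]⟩

lemma isNilpotent_ker_q (hp : 0 < p) : IsNilpotent (RingHom.ker (q p k n hp)) := by
  have hfg : (RingHom.ker (q p k n hp)).FG := IsNoetherian.noetherian _
  rw [hfg.isNilpotent_iff_le_nilradical]
  intro x hx
  obtain ⟨F, rfl⟩ := Ideal.Quotient.mk_surjective x
  rw [RingHom.mem_ker, q_mk] at hx
  have hF : F ∈ Ideal.span (MvPolynomial.X '' (Set.univ : Set (Fin n)) :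
      Set (MvPolynomial (Fin n) k)) := by
    rw [mem_ideal_span_X_image]
    intro m hm
    by_contra hcon
    push Not at hcon
    have hm0 : m = 0 := by
      ext i
      simpa using hcon i (Set.mem_univ i)
    rw [hm0, mem_support_iff] at hm
    exact hm hx
  have hle : Ideal.span (MvPolynomial.X '' (Set.univ : Set (Fin n)) :
      Set (MvPolynomial (Fin n) k)) ≤
      Ideal.comap (Ideal.Quotient.mk (J p k n)) (nilradical (Q p k n)) := by
    rw [Ideal.span_le]
    rintro _ ⟨i, -, rfl⟩
    show Ideal.Quotient.mk (J p k n) (X i) ∈ nilradical (Q p k n)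
    refine ⟨p, ?_⟩
    show (Ideal.Quotient.mk (J p k n) (X i)) ^ p = 0
    rw [← map_pow]
    exact Ideal.Quotient.eq_zero_iff_mem.mpr (Ideal.subset_span ⟨i, rfl⟩)
  exact hle hF

/-- In characteristic `p`, `(X_i + c)^(p-1) - X_i^(p-1)` is `∂_i` of a polynomial in `X_i`. -/
lemma exists_antiderivative [CharP k p] [Fact p.Prime] (i : Fin n) (c : k) :
    ∃ G : MvPolynomial (Fin n) k, ∀ j : Fin n,
      pderiv j G = if i = j then (X i + C c) ^ (p - 1) - X i ^ (p - 1) else 0 := by
  classical
  have hp : p.Prime := Fact.out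
  refine ⟨∑ m ∈ Finset.range (p - 1),
    C (c ^ (p - 1 - m) * ((p - 1).choose m : k) * ((m + 1 : ℕ) : k)⁻¹) * X i ^ (m + 1), ?_⟩
  intro j
  rw [map_sum]
  by_cases hij : i = j
  · subst hij
    rw [if_pos rfl, add_pow, Finset.sum_range_succ, Nat.sub_self, pow_zero, Nat.choose_self,
      Nat.cast_one, mul_one, mul_one, add_sub_cancel_right]
    refine Finset.sum_congr rfl fun m hm => ?_
    rw [Finset.mem_range] at hm
    rw [pderiv_C_mul, pderiv_pow, pderiv_X_self, mul_one, Nat.add_sub_cancel]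
    have hne : ((m + 1 : ℕ) : k) ≠ 0 := by
      rw [Ne, CharP.cast_eq_zero_iff k p]
      intro hdvd
      have := Nat.le_of_dvd (Nat.succ_pos m) hdvd
      omega
    have hcast : ((m + 1 : ℕ) : MvPolynomial (Fin n) k) = C ((m + 1 : ℕ) : k) := by
      rw [map_natCast]
    rw [hcast, ← mul_assoc, ← map_mul, mul_assoc _ _ (((m + 1 : ℕ) : k)), inv_mul_cancel₀ hne,
      mul_one, map_mul, map_pow, map_natCast]
    ring
  · rw [if_neg hij]
    apply Finset.sum_eq_zero
    intro m _
    rw [pderiv_C_mul, pderiv_pow, pderiv_X_of_ne hij, mul_zero, mul_zero]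

end Groth.Agent.Lib.Seat88.FrobDetB
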