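import Groth.Agent.Lib.Seat88JacCoeff
import Groth.Agent.Lib.Seat88FrobDetA
import Groth.Agent.Lib.Seat88FrobDetB
import Groth.Agent.Lib.Seat88EtaleLift

/-!
# The Jacobian of a Frobenius lift has nonzero determinant

For a smooth domain `A` over an algebraically closed field `k` of characteristic `p` with étale
coordinates `t_i`, and arbitrary `f_i ∈ A`, the matrix `δ_ij t_i^(p-1) + ∂f_i/∂t_j` has nonzero
determinant.  Proof: map to `k[X]/(X_i^p)` at a rational point and read off the coefficient
of `X^(p-1)`.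
-/

set_option autoImplicit false
set_option linter.style.haveILetI false
universe u v

namespace Groth.Agent.Lib.Seat88.FrobDetC

open MvPolynomial KaehlerDifferential
open Groth.Agent.Lib.Seat88

section deriv

variable {p : ℕ} {k : Type u} [Field k] [CharP k p] {n : ℕ}

lemma dQ_add (j : Fin n) (x y : FrobDetB.Q p k n) :
    FrobDetB.dQ j (x + y) = FrobDetB.dQ j x + FrobDetB.dQ j y := by
  obtain ⟨F, rfl⟩ := Ideal.Quotient.mk_surjective x
  obtain ⟨G, rfl⟩ := Ideal.Quotient.mk_surjective y
  rw [← map_add, FrobDetB.dQ_mk, FrobDetB.dQ_mk, FrobDetB.dQ_mk, map_add, map_add]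

lemma dQ_mul (j : Fin n) (x y : FrobDetB.Q p k n) :
    FrobDetB.dQ j (x * y) = x * FrobDetB.dQ j y + y * FrobDetB.dQ j x := by
  obtain ⟨F, rfl⟩ := Ideal.Quotient.mk_surjective x
  obtain ⟨G, rfl⟩ := Ideal.Quotient.mk_surjective y
  rw [← map_mul, FrobDetB.dQ_mk, FrobDetB.dQ_mk, FrobDetB.dQ_mk, Derivation.leibniz,
    smul_eq_mul, smul_eq_mul, map_add, map_mul, map_mul]

lemma dQ_C (j : Fin n) (c : k) :
    FrobDetB.dQ j (Ideal.Quotient.mk (FrobDetB.J p k n) (C c)) = 0 := by
  rw [FrobDetB.dQ_mk, pderiv_C, map_zero]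

omit [CharP k p] in
lemma algebraMap_Q (c : k) :
    algebraMap k (FrobDetB.Q p k n) c = Ideal.Quotient.mk (FrobDetB.J p k n) (C c) := rfl

/-- `dQ j` as a `k`-linear map -/
noncomputable def dQlin (j : Fin n) : FrobDetB.Q p k n →ₗ[k] FrobDetB.Q p k n where
  toFun := FrobDetB.dQ j
  map_add' := dQ_add j
  map_smul' c x := by
    have h1 : c • x = Ideal.Quotient.mk (FrobDetB.J p k n) (C c) * x := Algebra.smul_def c x
    have h2 : c • FrobDetB.dQ j x =
        Ideal.Quotient.mk (FrobDetB.J p k n) (C c) * FrobDetB.dQ j x :=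
      Algebra.smul_def c (FrobDetB.dQ j x)
    rw [RingHom.id_apply, h1, h2, dQ_mul, dQ_C, mul_zero, add_zero]

/-- `dQ j` as a derivation -/
noncomputable def dQder (j : Fin n) : Derivation k (FrobDetB.Q p k n) (FrobDetB.Q p k n) :=
  Derivation.mk' (dQlin j) (fun a b => by
    show FrobDetB.dQ j (a * b) = a • FrobDetB.dQ j b + b • FrobDetB.dQ j a
    rw [dQ_mul, smul_eq_mul, smul_eq_mul])

lemma dQder_apply (j : Fin n) (x : FrobDetB.Q p k n) : dQder j x = FrobDetB.dQ j x := rfl

variable {A : Type v} [CommRing A] [Algebra k A]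

/-- Compatibility of the coordinate derivations with a ring map `θ : A → Q`
sending the coordinates `t'_i` to `X_i`. -/
theorem theta_coord (b : Module.Basis (Fin n) A (Ω[A⁄k])) (t' : Fin n → A)
    (hb : ∀ i, b i = D k A (t' i)) (θ : A →+* FrobDetB.Q p k n)
    (hθk : ∀ c : k, θ (algebraMap k A c) = Ideal.Quotient.mk (FrobDetB.J p k n) (C c))
    (hθt : ∀ i, θ (t' i) = Ideal.Quotient.mk (FrobDetB.J p k n) (X i)) (j : Fin n) (a : A) :
    θ (b.coord j (D k A a)) = FrobDetB.dQ j (θ a) := by
  classical
  letI : Algebra A (FrobDetB.Q p k n) := θ.toAlgebra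
  haveI : IsScalarTower k A (FrobDetB.Q p k n) :=
    IsScalarTower.of_algebraMap_eq (fun c => (hθk c).symm)
  let d1 : Derivation k A (FrobDetB.Q p k n) :=
    ((Algebra.linearMap A (FrobDetB.Q p k n)).comp (b.coord j)).compDer (D k A)
  let d2 : Derivation k A (FrobDetB.Q p k n) := (dQder j).compAlgebraMap A
  have h1 : ∀ a, d1 a = θ (b.coord j (D k A a)) := fun a => rfl
  have h2 : ∀ a, d2 a = FrobDetB.dQ j (θ a) := fun a => rfl
  have hlift : d1.liftKaehlerDifferential = d2.liftKaehlerDifferential := by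
    apply b.ext
    intro i
    rw [hb i, Derivation.liftKaehlerDifferential_comp_D, Derivation.liftKaehlerDifferential_comp_D,
      h1, h2, ← hb i, hθt i, FrobDetB.dQ_mk, Module.Basis.coord_apply, Module.Basis.repr_self]
    by_cases hij : i = j
    · subst hij
      rw [Finsupp.single_eq_same, pderiv_X_self, map_one, map_one]
    · rw [Finsupp.single_eq_of_ne (Ne.symm hij), pderiv_X_of_ne hij, map_zero, map_zero]
  rw [← h1, ← h2, ← Derivation.liftKaehlerDifferential_comp_D d1,
    ← Derivation.liftKaehlerDifferential_comp_D d2, hlift]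

end deriv

/-- The main theorem: the Jacobian matrix `δ_ij t_i^(p-1) + ∂f_i/∂t_j` has nonzero determinant. -/
theorem det_ne_zero (p : ℕ) [Fact p.Prime] (k : Type u) [Field k] [IsAlgClosed k] [CharP k p]
    (A : Type v) [CommRing A] [IsDomain A] [Algebra k A] [Algebra.Smooth k A]
    {n : ℕ} (t : Fin n → A) (b : Module.Basis (Fin n) A (Ω[A⁄k]))
    (hb : ∀ i, b i = D k A (t i)) (f : Fin n → A) :
    (Matrix.of fun i j : Fin n =>
      (if i = j then t i ^ (p - 1) else 0) + b.coord j (D k A (f i))).det ≠ 0 := by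
  classical
  have hp : p.Prime := Fact.out
  have hp0 : 0 < p := hp.pos
  haveI : Algebra.FiniteType k A := inferInstance
  obtain ⟨ev⟩ := FrobDetA.exists_algHom_to_field k A
  let c : Fin n → k := fun i => ev (t i)
  let t' : Fin n → A := fun i => t i - algebraMap k A (c i)
  have hb' : ∀ i, b i = D k A (t' i) := by
    intro i
    rw [hb i]
    simp only [t', map_sub, Derivation.map_algebraMap, sub_zero]
  have hev : ∀ i, ev (t' i) = 0 := by
    intro i
    simp only [t', c, map_sub, AlgHom.commutes, Algebra.algebraMap_self, RingHom.id_apply, sub_self]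
  letI algP : Algebra (MvPolynomial (Fin n) k) A := (aeval t').toAlgebra
  haveI : IsScalarTower k (MvPolynomial (Fin n) k) A :=
    IsScalarTower.of_algebraMap_eq' (aeval t').comp_algebraMap.symm
  have halg : ∀ i, algebraMap (MvPolynomial (Fin n) k) A (X i) = t' i := fun i => aeval_X t' i
  haveI : Algebra.FormallyEtale (MvPolynomial (Fin n) k) A :=
    FrobDetA.formallyEtale_of_basis t' b hb' halg
  -- the lift
  obtain ⟨θ, hθq, hθP⟩ := EtaleLift.exists_lift_twisted (B := MvPolynomial (Fin n) k) (D := A)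
    (Ideal.Quotient.mk (FrobDetB.J p k n)) (FrobDetB.q p k n hp0) (FrobDetB.q_surjective hp0)
    (FrobDetB.isNilpotent_ker_q hp0) (ev : A →+* k) (by
      apply MvPolynomial.ringHom_ext
      · intro a
        rw [RingHom.comp_apply, RingHom.comp_apply, FrobDetB.q_mk, constantCoeff_C,
          ← MvPolynomial.algebraMap_eq, ← IsScalarTower.algebraMap_apply k _ A]
        exact ev.commutes a
      · intro i
        rw [RingHom.comp_apply, RingHom.comp_apply, FrobDetB.q_mk, constantCoeff_X, halg]
        exact hev i)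
  have hθt' : ∀ i, θ (t' i) = Ideal.Quotient.mk (FrobDetB.J p k n) (X i) := by
    intro i
    rw [← halg i]
    exact RingHom.congr_fun hθP (X i)
  have hθk : ∀ a : k, θ (algebraMap k A a) = Ideal.Quotient.mk (FrobDetB.J p k n) (C a) := by
    intro a
    rw [IsScalarTower.algebraMap_apply k (MvPolynomial (Fin n) k) A, MvPolynomial.algebraMap_eq]
    exact RingHom.congr_fun hθP (C a)
  have hθt : ∀ i, θ (t i) = Ideal.Quotient.mk (FrobDetB.J p k n) (X i + C (c i)) := by
    intro i
    have : t i = t' i + algebraMap k A (c i) := by simp only [t', sub_add_cancel]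
    rw [this, map_add, hθt' i, hθk, map_add]
  have hcoord := theta_coord b t' hb' θ hθk hθt'
  -- representatives
  choose g hg using fun i => Ideal.Quotient.mk_surjective (θ (f i))
  choose G hG using fun i => FrobDetB.exists_antiderivative (p := p) (k := k) (n := n) i (c i)
  intro hdet
  set M : Matrix (Fin n) (Fin n) A := Matrix.of fun i j : Fin n =>
      (if i = j then t i ^ (p - 1) else 0) + b.coord j (D k A (f i)) with hM
  set M' : Matrix (Fin n) (Fin n) (MvPolynomial (Fin n) k) := Matrix.of fun i j : Fin n =>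
      (if i = j then X i ^ (p - 1) else 0) + pderiv j (g i + G i) with hM'
  have hMM' : θ.mapMatrix M = (Ideal.Quotient.mk (FrobDetB.J p k n)).mapMatrix M' := by
    ext i j
    simp only [RingHom.mapMatrix_apply, Matrix.map_apply, hM, hM', Matrix.of_apply, map_add]
    rw [hcoord, ← hg i, FrobDetB.dQ_mk, hG i j]
    by_cases hij : i = j
    · subst hij
      simp only [if_true, map_pow, hθt, map_sub, map_add]
      ring
    · simp only [if_neg hij, map_zero, add_zero]
  have h0 : Ideal.Quotient.mk (FrobDetB.J p k n) M'.det = 0 := by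
    rw [RingHom.map_det, ← hMM', ← RingHom.map_det, hdet, map_zero]
  have hmem : M'.det ∈ FrobDetB.J p k n := Ideal.Quotient.eq_zero_iff_mem.mp h0
  have hc0 := FrobDetB.coeff_eq_zero_of_mem_J hmem
    (Finsupp.equivFunOnFinite.symm fun _ : Fin n => p - 1) (fun i => by
      simp only [Finsupp.coe_equivFunOnFinite_symm]
      omega)
  have hc1 := JacCoeff.coeff_det_frob (R := k) p hp0 (CharP.cast_eq_zero k p)
    (fun i => g i + G i)
  rw [hM'] at hc0
  rw [hc1] at hc0
  exact one_ne_zero hc0

end Groth.Agent.Lib.Seat88.FrobDetC
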