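import Mathlib

/-!
# Fixed points of Frobenius-semilinear maps over a separably closed field (seat 88)

Let `k` be a separably closed field of characteristic `p`, `V` a finite dimensional `k`-vector space and
`T : V → V` a Frobenius-semilinear map whose range spans `V`.  Then `T - 1` is surjective and `T` has exactly
`p ^ dim V` fixed points (`field_case`).  The proof is elementary: a cyclic-vector argument produces a
nonzero fixed vector (`exists_fixed_ne_zero`), and one inducts on the dimension via the quotient by the
fixed line, solving Artin–Schreier equations (`exists_pow_sub_eq`).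
-/

set_option autoImplicit false
set_option linter.unusedSectionVars false
set_option linter.unusedSimpArgs false
universe u v
open Polynomial

namespace Groth.Agent.Lib.Seat88.FrobFixField

variable (p : ℕ) [Fact p.Prime] {k : Type u} [Field k] [CharP k p]

section Poly

/-- Artin–Schreier equations are solvable over a separably closed field. -/
theorem exists_pow_sub_eq [IsSepClosed k] (c : k) : ∃ t : k, t ^ p - t = c := by
  have hp : p.Prime := Fact.out
  let f : k[X] := X ^ p - X - C c
  have hder : derivative f = -1 := by
    simp [f, derivative_X_pow, CharP.cast_eq_zero k p]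
  have hsep : f.Separable := by
    rw [separable_def, hder]
    exact isCoprime_one_right.neg_right
  have hdeg : f.degree ≠ 0 := by
    intro h0
    have h1 := eq_C_of_degree_eq_zero h0
    rw [h1, derivative_C] at hder
    exact one_ne_zero (neg_eq_zero.mp hder.symm)
  obtain ⟨t, ht⟩ := IsSepClosed.exists_root f hdeg hsep
  refine ⟨t, ?_⟩
  have : t ^ p - t - c = 0 := by simpa [f] using ht
  exact sub_eq_zero.mp this

/-- A polynomial `U` divisible by `X ^ p`, nonzero and with zero derivative, has a nonzero "fixed point". -/
theorem exists_ne_zero_root [IsSepClosed k] (U : k[X]) (hU : U ≠ 0) (hdiv : X ^ p ∣ U)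
    (hder : derivative U = 0) : ∃ s : k, s ≠ 0 ∧ eval s U = s := by
  have hp : p.Prime := Fact.out
  obtain ⟨G, rfl⟩ := hdiv
  have hG : G ≠ 0 := by rintro rfl; exact hU (mul_zero _)
  obtain ⟨q, hq⟩ : ∃ q, p = q + 1 := ⟨p - 1, (Nat.succ_pred_eq_of_pos hp.pos).symm⟩
  let g : k[X] := X ^ q * G - 1
  have hXg : X * g = X ^ p * G - X := by
    simp only [g]; rw [hq]; ring
  have hsep : g.Separable := by
    have h1 : (X * g).Separable := by
      rw [hXg, separable_def, derivative_sub, hder, derivative_X, zero_sub]
      exact isCoprime_one_right.neg_right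
    exact h1.of_mul_right
  have hq0 : q ≠ 0 := by
    rintro rfl
    exact hp.one_lt.ne' (by simpa using hq)
  have hdeg : g.degree ≠ 0 := by
    intro h0
    have h1 := eq_C_of_degree_eq_zero h0
    have h2 : X ^ q * G = C (g.coeff 0 + 1) := by
      have : X ^ q * G = g + 1 := by simp [g]
      rw [this, h1]; simp
    have h3 : g.coeff 0 + 1 = 0 := by
      have := congrArg (eval 0) h2
      simpa [hq0] using this.symm
    rw [h3, C_0] at h2
    rcases mul_eq_zero.mp h2 with h | h
    · exact (pow_ne_zero _ X_ne_zero) h
    · exact hG h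
  obtain ⟨s, hs⟩ := IsSepClosed.exists_root g hdeg hsep
  have hs' : s ^ q * eval s G = 1 := by
    have : s ^ q * eval s G - 1 = 0 := by simpa [g] using hs
    exact sub_eq_zero.mp this
  refine ⟨s, ?_, ?_⟩
  · rintro rfl
    rw [zero_pow hq0, zero_mul] at hs'
    exact zero_ne_one hs'
  · rw [eval_mul, eval_pow, eval_X, hq, pow_succ, mul_right_comm, hs', one_mul]

/-- The polynomial sequence attached to a sequence of coefficients. -/
noncomputable def Useq (c : ℕ → k) : ℕ → k[X]
  | 0 => C (c 0) * X ^ p
  | i + 1 => (Useq c i) ^ p + C (c (i + 1)) * X ^ p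

theorem Useq_dvd (c : ℕ → k) (i : ℕ) : X ^ p ∣ Useq p c i := by
  have hp : p.Prime := Fact.out
  induction i with
  | zero => exact Dvd.intro_left _ rfl
  | succ i ih =>
    rw [Useq]
    exact dvd_add (ih.trans (dvd_pow_self _ hp.ne_zero)) (Dvd.intro_left _ rfl)

theorem Useq_derivative (c : ℕ → k) (i : ℕ) : derivative (Useq p c i) = 0 := by
  cases i with
  | zero => simp [Useq, derivative_X_pow, CharP.cast_eq_zero k p]
  | succ i =>
    rw [Useq, derivative_add, derivative_pow]
    simp [derivative_X_pow, CharP.cast_eq_zero k p]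

theorem Useq_eq_zero (c : ℕ → k) (i : ℕ) (h : Useq p c i = 0) : ∀ j ≤ i, c j = 0 := by
  have hp : p.Prime := Fact.out
  induction i with
  | zero =>
    intro j hj
    obtain rfl : j = 0 := Nat.le_zero.mp hj
    rw [Useq] at h
    rcases mul_eq_zero.mp h with h | h
    · exact C_eq_zero.mp h
    · exact absurd h (pow_ne_zero _ X_ne_zero)
  | succ i ih =>
    rw [Useq] at h
    obtain ⟨G, hG⟩ := Useq_dvd p c i
    have hc : c (i + 1) = 0 := by
      have h1 := congrArg (fun f => coeff f p) h
      simp only [coeff_add, coeff_zero, coeff_C_mul, coeff_X_pow_self, mul_one] at h1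
      rw [hG, mul_pow, ← pow_mul, coeff_X_pow_mul', if_neg, zero_add] at h1
      · exact h1
      · rw [not_le]
        nlinarith [hp.one_lt]
    rw [hc, C_0, zero_mul, add_zero] at h
    have h2 : Useq p c i = 0 := pow_eq_zero_iff hp.ne_zero |>.mp h
    intro j hj
    rcases Nat.of_le_succ hj with hj | rfl
    · exact ih h2 j hj
    · exact hc

theorem Useq_eval_succ (c : ℕ → k) (i : ℕ) (s : k) :
    eval s (Useq p c (i + 1)) = (eval s (Useq p c i)) ^ p + c (i + 1) * s ^ p := by
  rw [Useq]; simp

theorem Useq_eval_zero (c : ℕ → k) (s : k) : eval s (Useq p c 0) = c 0 * s ^ p := by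
  rw [Useq]; simp

end Poly

section Vec

variable {V : Type v} [AddCommGroup V] [Module k V]

/-- A Frobenius-semilinear endomorphism of a finite dimensional space whose range spans is injective. -/
theorem injective_of_span [Module.Finite k V] (T : V →ₛₗ[frobenius k p] V)
    (hspan : Submodule.span k (Set.range T) = ⊤) : Function.Injective T := by
  classical
  have hp : p.Prime := Fact.out
  let b := Module.finBasis k V
  have h1 : ⊤ ≤ Submodule.span k (Set.range (fun i => T (b i))) := by
    rw [← hspan, Submodule.span_le]
    rintro _ ⟨x, rfl⟩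
    rw [← b.sum_repr x, map_sum]
    refine Submodule.sum_mem _ fun i _ => ?_
    rw [map_smulₛₗ]
    exact Submodule.smul_mem _ _ (Submodule.subset_span ⟨i, rfl⟩)
  have hli : LinearIndependent k (fun i => T (b i)) :=
    linearIndependent_of_top_le_span_of_card_eq_finrank h1 (by simp)
  rw [injective_iff_map_eq_zero]
  intro x hx
  rw [← b.sum_repr x, map_sum] at hx
  simp only [map_smulₛₗ] at hx
  have h2 := Fintype.linearIndependent_iff.mp hli _ hx
  have h0 : ∀ i, b.repr x i = 0 := fun i => by
    have h3 := h2 i
    rw [frobenius_def] at h3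
    exact (pow_eq_zero_iff hp.ne_zero).mp h3
  apply b.repr.injective
  ext i
  simp [h0 i]

/-- An injective Frobenius-semilinear endomorphism of a nonzero finite dimensional space over a separably
closed field has a nonzero fixed vector. -/
theorem exists_fixed_ne_zero [IsSepClosed k] [Module.Finite k V] [Nontrivial V]
    (T : V →ₛₗ[frobenius k p] V) (hinj : Function.Injective T) : ∃ w : V, w ≠ 0 ∧ T w = w := by
  classical
  have hp : p.Prime := Fact.out
  obtain ⟨v0, hv0⟩ := exists_ne (0 : V)
  let vv : ℕ → V := fun i => T^[i] v0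
  have hvv_succ : ∀ i, vv (i + 1) = T (vv i) := fun i => Function.iterate_succ_apply' _ _ _
  have hvv_ne : ∀ i, vv i ≠ 0 := by
    intro i
    induction i with
    | zero => exact hv0
    | succ i ih =>
      rw [hvv_succ]
      intro h
      exact ih (hinj (h.trans (map_zero T).symm))
  -- minimal dependent length
  have hex : ∃ r : ℕ, ¬ LinearIndependent k (fun i : Fin (r + 1) => vv i) := by
    refine ⟨Module.finrank k V, fun h => ?_⟩
    have := h.fintype_card_le_finrank
    simp at this
  let r := Nat.find hex
  have hr : ¬ LinearIndependent k (fun i : Fin (r + 1) => vv i) := Nat.find_spec hex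
  have hr0 : r ≠ 0 := by
    intro h0
    apply hr
    rw [h0]
    haveI : Subsingleton (Fin (0 + 1)) := by rw [zero_add]; infer_instance
    exact LinearIndependent.of_subsingleton (0 : Fin (0 + 1)) (hvv_ne _)
  obtain ⟨r', hr'⟩ : ∃ r', r = r' + 1 := ⟨r - 1, (Nat.succ_pred_eq_of_ne_zero hr0).symm⟩
  have hli : LinearIndependent k (fun i : Fin r => vv i) := by
    have := Nat.find_min hex (m := r') (by omega)
    rw [not_not] at this
    rw [hr']
    exact this
  have hmem : vv r ∈ Submodule.span k (Set.range (fun i : Fin r => vv i)) := by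
    by_contra hcon
    apply hr
    rw [linearIndependent_finSucc']
    exact ⟨hli, hcon⟩
  obtain ⟨c0, hc0⟩ := (Submodule.mem_span_range_iff_exists_fun k).mp hmem
  let c : ℕ → k := fun i => if h : i < r then c0 ⟨i, h⟩ else 0
  have hc : ∑ i ∈ Finset.range r, c i • vv i = vv r := by
    rw [Finset.sum_range, ← hc0]
    refine Finset.sum_congr rfl fun i _ => ?_
    simp only [c]
    rw [dif_pos i.2]
  have hli' : ∀ a : ℕ → k, ∑ i ∈ Finset.range r, a i • vv i = 0 → ∀ i < r, a i = 0 := by
    intro a ha i hi
    rw [Finset.sum_range] at ha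
    exact Fintype.linearIndependent_iff.mp hli (fun j => a j) ha ⟨i, hi⟩
  have hcne : ∃ j ≤ r', c j ≠ 0 := by
    by_contra hcon
    push Not at hcon
    apply hvv_ne r
    rw [← hc]
    refine Finset.sum_eq_zero fun i hi => ?_
    rw [hcon i (by have := Finset.mem_range.mp hi; omega), zero_smul]
  have hU : Useq p c r' ≠ 0 := by
    intro h
    obtain ⟨j, hj, hcj⟩ := hcne
    exact hcj (Useq_eq_zero p c r' h j hj)
  obtain ⟨s, hs0, hs⟩ := exists_ne_zero_root p (Useq p c r') hU (Useq_dvd p c r')
    (Useq_derivative p c r')
  let u : ℕ → k := fun i => eval s (Useq p c i)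
  have hu0 : u 0 = c 0 * s ^ p := Useq_eval_zero p c s
  have husucc : ∀ i, u (i + 1) = (u i) ^ p + c (i + 1) * s ^ p := fun i => Useq_eval_succ p c i s
  have hur : u r' = s := hs
  let w : V := ∑ i ∈ Finset.range r, u i • vv i
  refine ⟨w, ?_, ?_⟩
  · intro hw
    have := hli' u hw r' (by omega)
    exact hs0 (hur ▸ this)
  · have hTw : T w = ∑ i ∈ Finset.range r', (u i) ^ p • vv (i + 1) + s ^ p • vv r := by
      simp only [w]
      rw [map_sum, hr', Finset.sum_range_succ]
      simp only [map_smulₛₗ, frobenius_def, ← hvv_succ]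
      rw [hur]
    have hw : w = ∑ i ∈ Finset.range r', (u i) ^ p • vv (i + 1) + s ^ p • vv r := by
      rw [← hc]
      simp only [w]
      rw [hr', Finset.sum_range_succ', Finset.sum_range_succ' (fun i => c i • vv i)]
      simp only [husucc, hu0, add_smul, Finset.sum_add_distrib, mul_smul, smul_add,
        Finset.smul_sum]
      rw [add_assoc]
      congr 1
      rw [smul_comm (c 0)]
      congr 1
      refine Finset.sum_congr rfl fun i _ => ?_
      rw [smul_comm]
    rw [hTw, ← hw]

/-- The equation `c ^ p = c` has exactly `p` solutions. -/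
theorem card_fixed_scalars [IsSepClosed k] : Nat.card {c : k // c ^ p = c} = p := by
  have hp : p.Prime := Fact.out
  have hsep : (X ^ p - X : k[X]).Separable := galois_poly_separable p p dvd_rfl
  have hsplit : ((X ^ p - X : k[X]).map (algebraMap k k)).Splits := by
    rw [Algebra.algebraMap_self, Polynomial.map_id]
    exact IsSepClosed.splits_of_separable _ hsep
  have h1 := card_rootSet_eq_natDegree (K := k) hsep hsplit
  have hdeg : (X ^ p - X : k[X]).natDegree = p := FiniteField.X_pow_card_sub_X_natDegree_eq k hp.one_lt
  have hne : (X ^ p - X : k[X]) ≠ 0 := FiniteField.X_pow_card_sub_X_ne_zero k hp.one_lt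
  have h2 : Nat.card {c : k // c ^ p = c} = Nat.card ((X ^ p - X : k[X]).rootSet k) :=
    Nat.card_congr (Equiv.subtypeEquivRight fun c => by
      rw [mem_rootSet]
      simp [hne, sub_eq_zero])
  rw [h2, Nat.card_eq_fintype_card, h1, hdeg]

/-- The main theorem over a separably closed field, for semilinear maps, by induction on the dimension. -/
theorem semilinear_case [IsSepClosed k] : ∀ (n : ℕ) (V : Type v) [AddCommGroup V] [Module k V]
    [Module.Finite k V] (T : V →ₛₗ[frobenius k p] V), Module.finrank k V = n →
    Submodule.span k (Set.range T) = ⊤ →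
    Function.Surjective (fun m => T m - m) ∧ Nat.card {m : V // T m = m} = p ^ n := by
  intro n
  induction n with
  | zero =>
    intro V _ _ _ T hn hspan
    have hsub : Subsingleton V := Module.finrank_zero_iff.mp hn
    refine ⟨fun y => ⟨0, Subsingleton.elim _ _⟩, ?_⟩
    rw [pow_zero]
    haveI : Unique {m : V // T m = m} := ⟨⟨⟨0, by simp⟩⟩, fun a => Subsingleton.elim _ _⟩
    exact Nat.card_unique
  | succ n ih =>
    intro V _ _ _ T hn hspan
    haveI : Nontrivial V := Module.nontrivial_of_finrank_pos (R := k) (by omega)
    have hinj := injective_of_span p T hspan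
    obtain ⟨w, hw0, hTw⟩ := exists_fixed_ne_zero p T hinj
    let W : Submodule k V := k ∙ w
    have hwW : w ∈ W := Submodule.mem_span_singleton_self w
    have hWT : W ≤ W.comap T := by
      intro x hx
      obtain ⟨a, rfl⟩ := Submodule.mem_span_singleton.mp hx
      rw [Submodule.mem_comap, map_smulₛₗ, hTw]
      exact Submodule.smul_mem _ _ hwW
    let T' : (V ⧸ W) →ₛₗ[frobenius k p] (V ⧸ W) := W.mapQ W T hWT
    have hT' : ∀ x, T' (W.mkQ x) = W.mkQ (T x) := fun x => rfl
    have hmkw : ∀ t : k, W.mkQ (t • w) = 0 := fun t => by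
      rw [Submodule.mkQ_apply, Submodule.Quotient.mk_eq_zero]
      exact Submodule.smul_mem _ _ hwW
    have hdim : Module.finrank k (V ⧸ W) = n := by
      have := W.finrank_quotient_add_finrank
      rw [finrank_span_singleton hw0, hn] at this
      omega
    have hspan' : Submodule.span k (Set.range T') = ⊤ := by
      rw [eq_top_iff]
      rintro x -
      obtain ⟨x, rfl⟩ := W.mkQ_surjective x
      have hx : x ∈ Submodule.span k (Set.range T) := hspan ▸ Submodule.mem_top
      induction hx using Submodule.span_induction with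
      | mem y hy =>
        obtain ⟨z, rfl⟩ := hy
        exact Submodule.subset_span ⟨W.mkQ z, hT' z⟩
      | zero => rw [map_zero]; exact Submodule.zero_mem _
      | add a b _ _ ha hb => rw [map_add]; exact Submodule.add_mem _ ha hb
      | smul a y _ hy => rw [map_smul]; exact Submodule.smul_mem _ _ hy
    obtain ⟨hsurj', hcard'⟩ := ih (V ⧸ W) T' hdim hspan'
    have hkey : ∀ x y : V, W.mkQ (T x - x) = W.mkQ y →
        ∃ t : k, T (x + t • w) - (x + t • w) = y := by
      intro x y hxy
      have hmem : T x - x - y ∈ W := by
        rw [← Submodule.Quotient.mk_eq_zero, ← Submodule.mkQ_apply, map_sub, hxy, sub_self]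
      obtain ⟨a, ha⟩ := Submodule.mem_span_singleton.mp hmem
      obtain ⟨t, ht⟩ := exists_pow_sub_eq p (-a)
      refine ⟨t, ?_⟩
      rw [map_add, map_smulₛₗ, hTw, frobenius_def]
      have h1 : T x - x = y + a • w := by rw [ha]; abel
      calc T x + t ^ p • w - (x + t • w) = (T x - x) + (t ^ p - t) • w := by
            rw [sub_smul]; abel
        _ = y := by rw [h1, ht, neg_smul]; abel
    refine ⟨?_, ?_⟩
    · intro y
      obtain ⟨x', hx'⟩ := hsurj' (W.mkQ y)
      obtain ⟨x, rfl⟩ := W.mkQ_surjective x'
      have h1 : W.mkQ (T x - x) = W.mkQ y := by rw [map_sub, ← hT']; exact hx'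
      obtain ⟨t, ht⟩ := hkey x y h1
      exact ⟨_, ht⟩
    · have hlift : ∀ x' : {m : V ⧸ W // T' m = m}, ∃ x : V, T x = x ∧ W.mkQ x = x'.1 := by
        rintro ⟨x', hx'⟩
        obtain ⟨x, rfl⟩ := W.mkQ_surjective x'
        have h1 : W.mkQ (T x - x) = W.mkQ 0 := by rw [map_sub, ← hT', hx', sub_self, map_zero]
        obtain ⟨t, ht⟩ := hkey x 0 h1
        refine ⟨x + t • w, sub_eq_zero.mp ht, ?_⟩
        rw [map_add, hmkw, add_zero]
      choose sec hsec1 hsec2 using hlift
      let g : {m : V ⧸ W // T' m = m} × {c : k // c ^ p = c} → {m : V // T m = m} :=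
        fun a => ⟨sec a.1 + a.2.1 • w, by
          rw [map_add, map_smulₛₗ, hTw, hsec1, frobenius_def, a.2.2]⟩
      have hg : Function.Bijective g := by
        constructor
        · rintro ⟨a1, c1⟩ ⟨a2, c2⟩ h
          have h1 : sec a1 + c1.1 • w = sec a2 + c2.1 • w := congrArg Subtype.val h
          have h2 : a1 = a2 := by
            apply Subtype.ext
            have h3 := congrArg W.mkQ h1
            rw [map_add, map_add, hmkw, hmkw, add_zero, add_zero, hsec2, hsec2] at h3
            exact h3
          subst h2
          have h3 : c1.1 • w = c2.1 • w := add_left_cancel h1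
          have h4 : c1.1 = c2.1 := smul_left_injective k hw0 h3
          exact Prod.ext rfl (Subtype.ext h4)
        · rintro ⟨x, hx⟩
          let a : {m : V ⧸ W // T' m = m} := ⟨W.mkQ x, by rw [hT', hx]⟩
          have hmem : x - sec a ∈ W := by
            rw [← Submodule.Quotient.mk_eq_zero, ← Submodule.mkQ_apply, map_sub, hsec2, sub_self]
          obtain ⟨c, hc⟩ := Submodule.mem_span_singleton.mp hmem
          have hcp : c ^ p = c := by
            have h5 : T (c • w) = c • w := by rw [hc, map_sub, hx, hsec1]
            rw [map_smulₛₗ, hTw, frobenius_def] at h5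
            exact smul_left_injective k hw0 h5
          refine ⟨⟨a, ⟨c, hcp⟩⟩, Subtype.ext ?_⟩
          show sec a + c • w = x
          rw [hc]; abel
      rw [← Nat.card_congr (Equiv.ofBijective g hg), Nat.card_prod, hcard',
        card_fixed_scalars, pow_succ]

/-- **Lang-type theorem over a separably closed field**: for an additive Frobenius-semilinear endomorphism `T`
of a finite dimensional vector space whose values span, `T - 1` is surjective with `p ^ dim` fixed points. -/
theorem field_case [IsSepClosed k] {V : Type v} [AddCommGroup V] [Module k V] [Module.Finite k V]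
    (T : V →+ V) (hT : ∀ (r : k) (m : V), T (r • m) = r ^ p • T m)
    (hspan : Submodule.span k (Set.range T) = ⊤) :
    Function.Surjective (fun m => T m - m) ∧
      Nat.card {m : V // T m = m} = p ^ Module.finrank k V := by
  let Ts : V →ₛₗ[frobenius k p] V :=
    { toFun := T
      map_add' := map_add T
      map_smul' := fun r m => by simpa [frobenius_def] using hT r m }
  exact semilinear_case p _ V Ts rfl hspan

end Vec

end Groth.Agent.Lib.Seat88.FrobFixField
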