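import Mathlib
import Groth.Agent.Lib.Seat1HenselSection
import Groth.Agent.Lib.Seat88FrobFixField

/-!
# Fixed points of Frobenius-semilinear maps over a strictly henselian local ring (seat 88)

For a henselian local ring `R` of characteristic `p` and a system `∑ⱼ aᵢⱼ xⱼ^p - xᵢ = yᵢ`, the algebra
`R[x]/(∑ⱼ aᵢⱼ xⱼ^p - xᵢ - yᵢ)` is étale (`etale_quo`), so solutions modulo the maximal ideal lift
(`exists_lift`), uniquely (`eq_of_residue_eq`, by Nakayama).  Together with the field case this gives the
Lang-type theorem `main` over a strictly henselian local ring.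
-/

set_option autoImplicit false
set_option linter.unusedSectionVars false
set_option linter.unusedSimpArgs false
universe u v
open MvPolynomial IsLocalRing

namespace Groth.Agent.Lib.Seat88.FrobFixHensel

variable (p : ℕ) [Fact p.Prime] {R : Type u} [CommRing R] [CharP R p] {n : ℕ}
  (a : Matrix (Fin n) (Fin n) R) (y : Fin n → R)

/-- The relations `∑ⱼ aᵢⱼ Xⱼ^p - Xᵢ - yᵢ`. -/
noncomputable def rel (i : Fin n) : MvPolynomial (Fin n) R :=
  ∑ j, C (a i j) * X j ^ p - X i - C (y i)

/-- The quotient algebra. -/
abbrev Quo : Type u := MvPolynomial (Fin n) R ⧸ Ideal.span (Set.range (rel p a y))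

/-- The naive square presentation. -/
noncomputable def pres : Algebra.PreSubmersivePresentation R (Quo p a y) (Fin n) (Fin n) :=
  Algebra.PreSubmersivePresentation.naive (v := rel p a y) id Function.injective_id

theorem pderiv_rel (i j : Fin n) :
    pderiv i (rel p a y j) = if i = j then -1 else 0 := by
  classical
  have h0 : ∀ l : Fin n, pderiv i ((X l : MvPolynomial (Fin n) R) ^ p) = 0 := by
    intro l
    rw [Derivation.leibniz_pow, nsmul_eq_mul, CharP.cast_eq_zero, zero_mul]
  simp only [rel, map_sub, map_sum, Derivation.leibniz, h0, pderiv_C, smul_zero, add_zero,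
    Finset.sum_const_zero, zero_sub, sub_zero, pderiv_X, Pi.single_apply]
  split_ifs with h1 h2 h2
  · rfl
  · exact absurd h1.symm h2
  · exact absurd h2.symm h1
  · exact neg_zero

instance etale_quo : Algebra.Etale R (Quo p a y) := by
  classical
  have hjac : IsUnit (pres p a y).jacobian := by
    rw [Algebra.PreSubmersivePresentation.jacobian_eq_jacobiMatrix_det]
    have h1 : (pres p a y).jacobiMatrix = -1 := by
      ext i j
      rw [pres, Algebra.PreSubmersivePresentation.jacobiMatrix_naive, id_eq, pderiv_rel,
        Matrix.neg_apply, Matrix.one_apply]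
      split_ifs <;> simp
    rw [h1, Matrix.det_neg, Matrix.det_one, mul_one, map_pow, map_neg, map_one]
    exact ((isUnit_one (M := Quo p a y)).neg).pow _
  let Q : Algebra.SubmersivePresentation R (Quo p a y) (Fin n) (Fin n) :=
    { toPreSubmersivePresentation := pres p a y
      jacobian_isUnit := hjac }
  have : Algebra.IsStandardSmoothOfRelativeDimension 0 R (Quo p a y) :=
    Q.isStandardSmoothOfRelativeDimension (by simp [Algebra.Presentation.dimension])
  infer_instance

/-- Solutions of the system modulo the maximal ideal lift to solutions. -/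
theorem exists_lift [HenselianLocalRing R] (v : Fin n → ResidueField R)
    (hv : ∀ i, ∑ j, residue R (a i j) * v j ^ p - v i = residue R (y i)) :
    ∃ x : Fin n → R, (∀ i, ∑ j, a i j * x j ^ p - x i = y i) ∧ ∀ i, residue R (x i) = v i := by
  let φ : MvPolynomial (Fin n) R →ₐ[R] ResidueField R := aeval v
  have hφ : ∀ f ∈ Ideal.span (Set.range (rel p a y)), φ f = 0 := by
    have hle : Ideal.span (Set.range (rel p a y)) ≤ RingHom.ker φ.toRingHom := by
      rw [Ideal.span_le]
      rintro _ ⟨i, rfl⟩
      show φ (rel p a y i) = 0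
      simp only [rel, φ, map_sub, map_sum, map_mul, map_pow, aeval_X, aeval_C]
      rw [sub_eq_zero]
      exact hv i
    exact fun f hf => hle hf
  let χ : Quo p a y →ₐ[R] ResidueField R := Ideal.Quotient.liftₐ _ φ hφ
  obtain ⟨f, hf⟩ := Groth.Agent.Lib.Seat1.HenselSection.exists_algHom_residue χ
  have hC : ∀ r : R, f (Ideal.Quotient.mk _ (C r)) = r := fun r => f.commutes r
  refine ⟨fun i => f (Ideal.Quotient.mk _ (X i)), fun i => ?_, fun i => ?_⟩
  · have h1 : f (Ideal.Quotient.mk _ (rel p a y i)) = 0 := by
      rw [Ideal.Quotient.eq_zero_iff_mem.mpr (Ideal.subset_span (Set.mem_range_self i)), map_zero]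
    simp only [rel, map_sub, map_sum, map_mul, map_pow, hC] at h1
    exact sub_eq_zero.mp h1
  · rw [hf]
    show φ (X i) = v i
    simp [φ]

/-- Two solutions of the system that agree modulo the maximal ideal are equal. -/
theorem eq_of_residue_eq [IsLocalRing R] (x x' : Fin n → R)
    (hx : ∀ i, ∑ j, a i j * x j ^ p - x i = y i) (hx' : ∀ i, ∑ j, a i j * x' j ^ p - x' i = y i)
    (h : ∀ i, residue R (x i) = residue R (x' i)) : x = x' := by
  have hp : p.Prime := Fact.out
  obtain ⟨q, hq⟩ : ∃ q, p = q + 1 := ⟨p - 1, (Nat.succ_pred_eq_of_pos hp.pos).symm⟩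
  have hq0 : q ≠ 0 := by
    rintro rfl
    exact hp.one_lt.ne' (by simpa using hq)
  let d : Fin n → R := fun i => x i - x' i
  have hdm : ∀ i, d i ∈ maximalIdeal R := by
    intro i
    rw [← residue_eq_zero_iff]
    simp only [d, map_sub, h i, sub_self]
  have hd : ∀ i, d i = ∑ j, a i j * d j ^ p := by
    intro i
    have h1 := (hx i).trans (hx' i).symm
    have h2 : ∑ j, a i j * d j ^ p = ∑ j, a i j * x j ^ p - ∑ j, a i j * x' j ^ p := by
      rw [← Finset.sum_sub_distrib]
      refine Finset.sum_congr rfl fun j _ => ?_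
      simp only [d]
      rw [sub_pow_char, mul_sub]
    rw [h2]
    simp only [d]
    linear_combination -h1
  let J : Ideal R := Ideal.span (Set.range d)
  have hJ : J = ⊥ := by
    refine Submodule.eq_bot_of_le_smul_of_le_jacobson_bot (maximalIdeal R) J
      (Submodule.fg_span (Set.finite_range d)) ?_
      (IsLocalRing.jacobson_eq_maximalIdeal ⊥ bot_ne_top).ge
    rw [Ideal.span_le]
    rintro _ ⟨i, rfl⟩
    rw [SetLike.mem_coe, hd i, smul_eq_mul]
    refine Ideal.sum_mem _ fun j _ => ?_
    have h3 : a i j * d j ^ p = (a i j * d j ^ q) * d j := by rw [hq]; ring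
    rw [h3]
    refine Ideal.mul_mem_mul (Ideal.mul_mem_left _ _ (Ideal.pow_mem_of_mem _ (hdm j) _ ?_))
      (Ideal.subset_span ⟨j, rfl⟩)
    exact Nat.pos_of_ne_zero hq0
  funext i
  have h4 : d i ∈ J := Ideal.subset_span ⟨i, rfl⟩
  rw [hJ, Ideal.mem_bot] at h4
  exact sub_eq_zero.mp h4

section Main

variable {M : Type v} [AddCommGroup M] [Module R M]

/-- **Lang-type theorem over a strictly henselian local ring** of characteristic `p`: for a free module `M` of
finite rank and an additive Frobenius-semilinear endomorphism `T` whose values generate `M`, the map `T - 1` is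
surjective and `T` has exactly `p ^ rank M` fixed points. -/
theorem main [HenselianLocalRing R] [IsSepClosed (ResidueField R)] [Module.Free R M]
    [Module.Finite R M] (T : M →+ M) (hT : ∀ (r : R) (m : M), T (r • m) = r ^ p • T m)
    (hspan : Submodule.span R (Set.range T) = ⊤) :
    Function.Surjective (fun m => T m - m) ∧
      Nat.card {m : M // T m = m} = p ^ Module.finrank R M := by
  classical
  have hp : p.Prime := Fact.out
  haveI : CharP (ResidueField R) p := by
    rw [CharP.charP_iff_prime_eq_zero hp]
    rw [← map_natCast (residue R), CharP.cast_eq_zero, map_zero]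
  obtain ⟨n, hn⟩ : ∃ n, Module.finrank R M = n := ⟨_, rfl⟩
  let b : Module.Basis (Fin n) R M := (Module.finBasis R M).reindex (finCongr hn)
  let e : M ≃ₗ[R] (Fin n → R) := b.equivFun
  let a : Matrix (Fin n) (Fin n) R := fun i j => e (T (b j)) i
  have hTe : ∀ m i, e (T m) i = ∑ j, a i j * e m j ^ p := by
    intro m i
    conv_lhs => rw [← b.sum_equivFun m]
    rw [map_sum, map_sum, Finset.sum_apply]
    refine Finset.sum_congr rfl fun j _ => ?_
    rw [hT, map_smul, Pi.smul_apply, smul_eq_mul, mul_comm]
  let Tb : (Fin n → ResidueField R) →+ (Fin n → ResidueField R) :=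
    { toFun := fun v i => ∑ j, residue R (a i j) * v j ^ p
      map_zero' := by
        funext i
        simp [hp.ne_zero]
      map_add' := fun v w => by
        funext i
        simp [add_pow_char, mul_add, Finset.sum_add_distrib] }
  have hTb_apply : ∀ v i, Tb v i = ∑ j, residue R (a i j) * v j ^ p := fun _ _ => rfl
  have hTb : ∀ (r : ResidueField R) v, Tb (r • v) = r ^ p • Tb v := by
    intro r v
    funext i
    rw [Pi.smul_apply, hTb_apply, hTb_apply, smul_eq_mul, Finset.mul_sum]
    refine Finset.sum_congr rfl fun j _ => ?_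
    rw [Pi.smul_apply, smul_eq_mul, mul_pow]
    ring
  let ρ : M → (Fin n → ResidueField R) := fun m i => residue R (e m i)
  have hρ_apply : ∀ m i, ρ m i = residue R (e m i) := fun _ _ => rfl
  have hρT : ∀ m, ρ (T m) = Tb (ρ m) := by
    intro m
    funext i
    rw [hρ_apply, hTb_apply, hTe, map_sum]
    refine Finset.sum_congr rfl fun j _ => ?_
    rw [map_mul, map_pow, hρ_apply]
  have hρsurj : Function.Surjective ρ := by
    intro v
    choose x hx using fun i => residue_surjective (v i)
    refine ⟨e.symm x, ?_⟩
    funext i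
    rw [hρ_apply, LinearEquiv.apply_symm_apply, hx]
  have hspanb : Submodule.span (ResidueField R) (Set.range Tb) = ⊤ := by
    rw [eq_top_iff]
    rintro v -
    obtain ⟨m, rfl⟩ := hρsurj v
    have hm : m ∈ Submodule.span R (Set.range T) := hspan ▸ Submodule.mem_top
    induction hm using Submodule.span_induction with
    | mem z hz =>
      obtain ⟨z', rfl⟩ := hz
      rw [hρT]
      exact Submodule.subset_span ⟨_, rfl⟩
    | zero =>
      have h0 : ρ 0 = 0 := by
        funext i
        rw [hρ_apply, map_zero, Pi.zero_apply, map_zero, Pi.zero_apply]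
      rw [h0]
      exact Submodule.zero_mem _
    | add x y _ _ hx hy =>
      have h0 : ρ (x + y) = ρ x + ρ y := by
        funext i
        rw [hρ_apply, map_add, Pi.add_apply, map_add, Pi.add_apply, hρ_apply, hρ_apply]
      rw [h0]
      exact Submodule.add_mem _ hx hy
    | smul r x _ hx =>
      have h0 : ρ (r • x) = residue R r • ρ x := by
        funext i
        rw [hρ_apply, map_smul, Pi.smul_apply, smul_eq_mul, map_mul, Pi.smul_apply, smul_eq_mul,
          hρ_apply]
      rw [h0]
      exact Submodule.smul_mem _ _ hx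
  obtain ⟨hsurjb, hcardb⟩ := Groth.Agent.Lib.Seat88.FrobFixField.field_case p Tb hTb hspanb
  rw [Module.finrank_fin_fun] at hcardb
  have heqR : ∀ m y : M, T m - m = y ↔ ∀ i, ∑ j, a i j * e m j ^ p - e m i = e y i := by
    intro m y
    rw [← e.injective.eq_iff, funext_iff]
    refine forall_congr' fun i => ?_
    rw [map_sub, Pi.sub_apply, hTe]
  have heqk : ∀ (v w : Fin n → ResidueField R),
      Tb v - v = w ↔ ∀ i, ∑ j, residue R (a i j) * v j ^ p - v i = w i := by
    intro v w
    rw [funext_iff]
    rfl
  rw [hn]
  refine ⟨?_, ?_⟩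
  · intro y
    obtain ⟨v, hv⟩ := hsurjb (ρ y)
    obtain ⟨x, hx, -⟩ := exists_lift p a (e y) v ((heqk v _).mp hv)
    refine ⟨e.symm x, (heqR _ _).mpr ?_⟩
    intro i
    rw [LinearEquiv.apply_symm_apply]
    exact hx i
  · rw [← hcardb]
    let g : {m : M // T m = m} → {v : Fin n → ResidueField R // Tb v = v} :=
      fun m => ⟨ρ m.1, by rw [← hρT, m.2]⟩
    have hg : Function.Bijective g := by
      constructor
      · rintro ⟨m, hm⟩ ⟨m', hm'⟩ h
        have h1 : ρ m = ρ m' := congrArg Subtype.val h
        apply Subtype.ext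
        apply e.injective
        refine eq_of_residue_eq p a (fun _ => 0) (e m) (e m') ?_ ?_ (fun i => congrFun h1 i)
        · intro i
          have h2 := (heqR m 0).mp (sub_eq_zero.mpr hm) i
          rw [map_zero, Pi.zero_apply] at h2
          exact h2
        · intro i
          have h2 := (heqR m' 0).mp (sub_eq_zero.mpr hm') i
          rw [map_zero, Pi.zero_apply] at h2
          exact h2
      · rintro ⟨v, hv⟩
        obtain ⟨x, hx, hxv⟩ := exists_lift p a (fun _ => 0) v (fun i => by
          have h2 := (heqk v 0).mp (sub_eq_zero.mpr hv) i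
          rw [Pi.zero_apply] at h2
          rw [h2, map_zero])
        refine ⟨⟨e.symm x, ?_⟩, Subtype.ext ?_⟩
        · refine sub_eq_zero.mp ((heqR _ 0).mpr fun i => ?_)
          rw [LinearEquiv.apply_symm_apply, map_zero, Pi.zero_apply]
          exact hx i
        · funext i
          show ρ (e.symm x) i = v i
          rw [hρ_apply, LinearEquiv.apply_symm_apply, hxv]
    exact Nat.card_congr (Equiv.ofBijective g hg)

end Main

end Groth.Agent.Lib.Seat88.FrobFixHensel
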