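import Mathlib
import Groth.Agent.Lib.Seat88FrobFixField

/-!
# Bijective Frobenius-semilinear maps on finite modules over a Noetherian local ring (seat 88)

Let `R` be a Noetherian local ring of characteristic `p` with separably closed residue field `κ`, `M` a finite
`R`-module and `T` an additive Frobenius-semilinear bijection of `M`.  Then `𝔪 M = 0` (`smul_top_eq_bot`:
the induced map on `M / 𝔪 M` is surjective, hence injective, so `𝔪 M ⊆ T(𝔪 M) ⊆ 𝔪 (𝔪 M)` and Nakayama applies),
and the field case gives: `T - 1` is surjective with `p ^ dim_κ (κ ⊗ M)` fixed points (`main`).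
-/

set_option autoImplicit false
set_option linter.unusedSectionVars false
set_option linter.unusedSimpArgs false
set_option linter.style.haveILetI false
universe u v
open IsLocalRing TensorProduct

namespace Groth.Agent.Lib.Seat88.FrobFixTors

variable (p : ℕ) [Fact p.Prime] {R : Type u} [CommRing R] [IsLocalRing R] [CharP R p]
  {M : Type v} [AddCommGroup M] [Module R M]

theorem charP_residueField : CharP (ResidueField R) p := by
  have hp : p.Prime := Fact.out
  rw [CharP.charP_iff_prime_eq_zero hp]
  rw [← map_natCast (residue R), CharP.cast_eq_zero, map_zero]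

/-- `T` maps `𝔪 M` into `𝔪 (𝔪 M)`. -/
theorem map_mem_smul_smul (T : M →+ M) (hT : ∀ (r : R) (m : M), T (r • m) = r ^ p • T m)
    (x : M) (hx : x ∈ maximalIdeal R • (⊤ : Submodule R M)) :
    T x ∈ maximalIdeal R • (maximalIdeal R • (⊤ : Submodule R M)) := by
  have hp : p.Prime := Fact.out
  obtain ⟨q, hq⟩ : ∃ q, p = q + 1 := ⟨p - 1, (Nat.succ_pred_eq_of_pos hp.pos).symm⟩
  have hq0 : q ≠ 0 := by
    rintro rfl
    exact hp.one_lt.ne' (by simpa using hq)
  refine Submodule.smul_induction_on hx ?_ ?_
  · intro r hr z _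
    rw [hT, hq, pow_succ', mul_smul]
    exact Submodule.smul_mem_smul hr
      (Submodule.smul_mem_smul (Ideal.pow_mem_of_mem _ hr _ (Nat.pos_of_ne_zero hq0))
        Submodule.mem_top)
  · intro x y hx hy
    rw [map_add]
    exact Submodule.add_mem _ hx hy

variable [IsNoetherianRing R] [Module.Finite R M]

local notation "𝔫" => (maximalIdeal R • (⊤ : Submodule R M))

set_option backward.isDefEq.respectTransparency false in
noncomputable local instance instModQ : Module (ResidueField R) (M ⧸ 𝔫) :=
  inferInstanceAs (Module (R ⧸ maximalIdeal R) _)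

set_option backward.isDefEq.respectTransparency false in
local instance instTowerQ : IsScalarTower R (ResidueField R) (M ⧸ 𝔫) :=
  inferInstanceAs (IsScalarTower R (R ⧸ maximalIdeal R) _)

local instance instCharPκ : CharP (ResidueField R) p := charP_residueField p

omit [IsNoetherianRing R] [Module.Finite R M] in
theorem le_comap (T : M →+ M) (hT : ∀ (r : R) (m : M), T (r • m) = r ^ p • T m) :
    𝔫 ≤ Submodule.comap
      ({ toFun := T
         map_add' := map_add T
         map_smul' := fun r m => by simpa [frobenius_def] using hT r m } :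
        M →ₛₗ[frobenius R p] M) 𝔫 := by
  intro x hx
  rw [Submodule.mem_comap]
  exact Submodule.smul_le_right (map_mem_smul_smul p T hT x hx)

/-- The map induced by `T` on `M / 𝔪 M`, as a Frobenius-semilinear map over the residue field. -/
noncomputable def Tbar (T : M →+ M) (hT : ∀ (r : R) (m : M), T (r • m) = r ^ p • T m) :
    (M ⧸ 𝔫) →ₛₗ[frobenius (ResidueField R) p] (M ⧸ 𝔫) :=
  { toFun := Submodule.mapQ 𝔫 𝔫 _ (le_comap p T hT)
    map_add' := map_add _
    map_smul' := fun c v => by
      obtain ⟨r, rfl⟩ := residue_surjective c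
      have h1 : ∀ (s : R) (w : M ⧸ 𝔫), residue R s • w = s • w := fun s w =>
        algebraMap_smul (ResidueField R) s w
      rw [h1, map_smulₛₗ, frobenius_def, frobenius_def, ← map_pow, h1] }

omit [IsNoetherianRing R] [Module.Finite R M] in
theorem Tbar_mk (T : M →+ M) (hT : ∀ (r : R) (m : M), T (r • m) = r ^ p • T m) (x : M) :
    Tbar p T hT (Submodule.mkQ 𝔫 x) = Submodule.mkQ 𝔫 (T x) := rfl

omit [IsNoetherianRing R] [Module.Finite R M] in
theorem Tbar_surjective (T : M →+ M) (hT : ∀ (r : R) (m : M), T (r • m) = r ^ p • T m)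
    (hsurj : Function.Surjective T) : Function.Surjective (Tbar p T hT) := by
  intro v
  obtain ⟨x, rfl⟩ := Submodule.mkQ_surjective 𝔫 v
  obtain ⟨z, rfl⟩ := hsurj x
  exact ⟨Submodule.mkQ 𝔫 z, Tbar_mk p T hT z⟩

/-- A bijective Frobenius-semilinear map can only exist on a module killed by the maximal ideal. -/
theorem smul_top_eq_bot (T : M →+ M) (hT : ∀ (r : R) (m : M), T (r • m) = r ^ p • T m)
    (hbij : Function.Bijective T) : maximalIdeal R • (⊤ : Submodule R M) = ⊥ := by
  haveI : Module.Finite (ResidueField R) (M ⧸ 𝔫) := Module.Finite.of_restrictScalars_finite R _ _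
  have hsurj := Tbar_surjective p T hT hbij.2
  have hspan : Submodule.span (ResidueField R) (Set.range (Tbar p T hT)) = ⊤ := by
    rw [hsurj.range_eq, Submodule.span_univ]
  have hinj := Groth.Agent.Lib.Seat88.FrobFixField.injective_of_span p (Tbar p T hT) hspan
  have hstar : ∀ x, T x ∈ 𝔫 → x ∈ 𝔫 := by
    intro x hx
    have h1 : Tbar p T hT (Submodule.mkQ 𝔫 x) = 0 := by
      rw [Tbar_mk, Submodule.mkQ_apply, Submodule.Quotient.mk_eq_zero]
      exact hx
    have h2 := hinj (h1.trans (map_zero (Tbar p T hT)).symm)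
    rwa [Submodule.mkQ_apply, Submodule.Quotient.mk_eq_zero] at h2
  have hNN : 𝔫 ≤ maximalIdeal R • 𝔫 := by
    intro y hy
    obtain ⟨x, rfl⟩ := hbij.2 y
    exact map_mem_smul_smul p T hT x (hstar x hy)
  haveI : IsNoetherian R M := isNoetherian_of_isNoetherianRing_of_finite R M
  exact Submodule.eq_bot_of_le_smul_of_le_jacobson_bot (maximalIdeal R) 𝔫
    (IsNoetherian.noetherian 𝔫) hNN (IsLocalRing.jacobson_eq_maximalIdeal ⊥ bot_ne_top).ge

set_option backward.isDefEq.respectTransparency false in
/-- **Lang-type theorem for bijective Frobenius-semilinear maps** on a finite module over a Noetherian local ring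
of characteristic `p` with separably closed residue field. -/
theorem main [IsSepClosed (ResidueField R)] (T : M →+ M)
    (hT : ∀ (r : R) (m : M), T (r • m) = r ^ p • T m) (hbij : Function.Bijective T) :
    Function.Surjective (fun m => T m - m) ∧
      Nat.card {m : M // T m = m} =
        p ^ Module.finrank (ResidueField R) (ResidueField R ⊗[R] M) := by
  haveI : Module.Finite (ResidueField R) (M ⧸ 𝔫) := Module.Finite.of_restrictScalars_finite R _ _
  have hbot := smul_top_eq_bot p T hT hbij
  have hsurj := Tbar_surjective p T hT hbij.2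
  have hspan : Submodule.span (ResidueField R) (Set.range (Tbar p T hT)) = ⊤ := by
    rw [hsurj.range_eq, Submodule.span_univ]
  obtain ⟨h1, h2⟩ := Groth.Agent.Lib.Seat88.FrobFixField.semilinear_case p _ (M ⧸ 𝔫)
    (Tbar p T hT) rfl hspan
  have hmk_inj : Function.Injective (Submodule.mkQ 𝔫) := by
    rw [← LinearMap.ker_eq_bot, Submodule.ker_mkQ]
    exact hbot
  let e : ResidueField R ⊗[R] M ≃ₗ[ResidueField R] M ⧸ 𝔫 :=
    (quotTensorEquivQuotSMul M (maximalIdeal R)).extendScalarsOfSurjective residue_surjective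
  rw [e.finrank_eq, ← h2]
  refine ⟨?_, ?_⟩
  · intro y
    obtain ⟨v, hv⟩ := h1 (Submodule.mkQ 𝔫 y)
    obtain ⟨x, rfl⟩ := Submodule.mkQ_surjective 𝔫 v
    refine ⟨x, hmk_inj ?_⟩
    rw [← hv]
    show Submodule.mkQ 𝔫 (T x - x) = Tbar p T hT (Submodule.mkQ 𝔫 x) - Submodule.mkQ 𝔫 x
    rw [Tbar_mk, map_sub]
  · let g : {m : M // T m = m} → {v : M ⧸ 𝔫 // Tbar p T hT v = v} :=
      fun m => ⟨Submodule.mkQ 𝔫 m.1, by rw [Tbar_mk, m.2]⟩
    have hg : Function.Bijective g := by
      constructor
      · rintro ⟨m, hm⟩ ⟨m', hm'⟩ h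
        exact Subtype.ext (hmk_inj (congrArg Subtype.val h))
      · rintro ⟨v, hv⟩
        obtain ⟨x, rfl⟩ := Submodule.mkQ_surjective 𝔫 v
        refine ⟨⟨x, hmk_inj ?_⟩, rfl⟩
        rw [← Tbar_mk p T hT, hv]
    exact Nat.card_congr (Equiv.ofBijective g hg)

end Groth.Agent.Lib.Seat88.FrobFixTors
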