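import Mathlib
import Groth.Prelude.Def_W4c2gaugesfzipsQuiet

/-!
# Root towers from monomial frames

`IsFrame p φ t`: every element of `B` is uniquely `∑_ε φ(c_ε) t^ε`, `ε : Fin n → Fin p`.
If moreover `t_i ^ p = φ (a_i)`, then `B` is a tower of `n` elementary `p`-th root extractions of `R`
(`isRootTower_of_isFrame`).
-/

set_option autoImplicit false
set_option linter.unusedSectionVars false
universe u

namespace Groth.Agent.Lib.Seat88.FrobTower

open Polynomial

/-- the monomials `t^ε`, `ε : Fin n → Fin p`, form a frame of `B` over `R` -/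
def IsFrame (p : ℕ) {R B : Type u} [CommRing R] [CommRing B] (φ : R →+* B) {n : ℕ}
    (t : Fin n → B) : Prop :=
  Function.Bijective (fun c : (Fin n → Fin p) → R => ∑ ε, φ (c ε) * ∏ i, t i ^ (ε i : ℕ))

section step

variable (p : ℕ) (hp : 0 < p) {R B : Type u} [CommRing R] [Nontrivial R] [CommRing B] [Algebra R B]

/-- coordinates on `R[x]/(x^p - a)` -/
noncomputable def beta (hp : 0 < p) (a : R) : (Fin p → R) ≃ₗ[R] Quiet.RootRing p R a :=
  (((AdjoinRoot.powerBasis' (monic_X_pow_sub_C a hp.ne')).basis.reindex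
    (finCongr (by simp : (AdjoinRoot.powerBasis' (monic_X_pow_sub_C a hp.ne')).dim = p))).equivFun.symm)

lemma beta_apply (a : R) (c : Fin p → R) :
    beta p hp a c = ∑ j, c j • AdjoinRoot.root (X ^ p - C a : R[X]) ^ (j : ℕ) := by
  simp [beta, Module.Basis.equivFun_symm_apply]

omit [Nontrivial R] in
/-- the structure map `R[x]/(x^p - a) → B`, `x ↦ t₀` -/
noncomputable def psi (a : R) (t₀ : B) (h : t₀ ^ p = algebraMap R B a) :
    Quiet.RootRing p R a →ₐ[R] B :=
  AdjoinRoot.liftAlgHom _ (Algebra.ofId R B) t₀ (by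
    change eval₂ (algebraMap R B) t₀ (X ^ p - C a) = 0
    rw [eval₂_sub, eval₂_pow, eval₂_X, eval₂_C, h, sub_self])

omit [Nontrivial R] in
lemma psi_root (a : R) (t₀ : B) (h : t₀ ^ p = algebraMap R B a) :
    psi p a t₀ h (AdjoinRoot.root _) = t₀ := AdjoinRoot.liftAlgHom_root _ _ _ _

lemma psi_beta (a : R) (t₀ : B) (h : t₀ ^ p = algebraMap R B a) (c : Fin p → R) :
    psi p a t₀ h (beta p hp a c) = ∑ j, algebraMap R B (c j) * t₀ ^ (j : ℕ) := by
  rw [beta_apply, map_sum]
  refine Finset.sum_congr rfl fun j _ => ?_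
  rw [map_smul, map_pow, psi_root, Algebra.smul_def]

include hp in
/-- passing from a frame in `n + 1` variables over `R` to a frame in `n` variables over
`R[x]/(x^p - a₀)` -/
lemma isFrame_step {n : ℕ} (t : Fin (n + 1) → B) (a : R) (h0 : t 0 ^ p = algebraMap R B a)
    (hF : IsFrame p (algebraMap R B) t) :
    IsFrame p (psi p a (t 0) h0 : Quiet.RootRing p R a →+* B) (fun i => t i.succ) := by
  -- the reindexing bijection
  let Θ : ((Fin (n + 1) → Fin p) → R) → ((Fin n → Fin p) → Quiet.RootRing p R a) :=
    fun c ε => beta p hp a (fun j => c (Fin.cons j ε))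
  have hΘ : Function.Bijective Θ := by
    constructor
    · intro c c' hcc
      funext δ
      have h1 := congrFun hcc (Fin.tail δ)
      have h2 := (beta p hp a).injective h1
      have h3 := congrFun h2 (δ 0)
      simpa [Fin.cons_self_tail] using h3
    · intro c'
      refine ⟨fun δ => (beta p hp a).symm (c' (Fin.tail δ)) (δ 0), ?_⟩
      funext ε
      simp [Θ]
  have hcomp : (fun c' : (Fin n → Fin p) → Quiet.RootRing p R a =>
      ∑ ε, (psi p a (t 0) h0 : Quiet.RootRing p R a →+* B) (c' ε) * ∏ i, t i.succ ^ (ε i : ℕ)) ∘ Θ =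
      fun c : (Fin (n + 1) → Fin p) → R => ∑ δ, algebraMap R B (c δ) * ∏ i, t i ^ (δ i : ℕ) := by
    funext c
    simp only [Function.comp_apply, Θ, RingHom.coe_coe, psi_beta p hp]
    rw [← (Fin.consEquiv fun _ => Fin p).sum_comp, Fintype.sum_prod_type, Finset.sum_comm]
    refine Finset.sum_congr rfl fun ε _ => ?_
    rw [Finset.sum_mul]
    refine Finset.sum_congr rfl fun j _ => ?_
    have hcons : (Fin.consEquiv fun _ : Fin (n + 1) => Fin p) (j, ε) = Fin.cons j ε := rfl
    rw [hcons, Fin.prod_univ_succ]
    simp only [Fin.cons_zero, Fin.cons_succ]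
    ring
  have h1 : Function.Bijective ((fun c' : (Fin n → Fin p) → Quiet.RootRing p R a =>
      ∑ ε, (psi p a (t 0) h0 : Quiet.RootRing p R a →+* B) (c' ε) * ∏ i, t i.succ ^ (ε i : ℕ)) ∘
        Θ) := by
    rw [hcomp]; exact hF
  exact (Function.Bijective.of_comp_iff _ hΘ).mp h1

end step

/-- a monomial frame with `t_i ^ p` in the base ring gives a tower of `p`-th root extractions -/
theorem isRootTower_of_isFrame (p : ℕ) (hp : 0 < p) :
    ∀ (n : ℕ) (R B : Type u) [CommRing R] [CommRing B] [Algebra R B] (t : Fin n → B)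
      (a : Fin n → R), (∀ i, t i ^ p = algebraMap R B (a i)) → IsFrame p (algebraMap R B) t →
      Quiet.IsRootTower p n R B := by
  intro n
  induction n with
  | zero =>
    intro R B _ _ _ t a ht hF
    have hbij : Function.Bijective (algebraMap R B) := by
      have h1 : (fun c : (Fin 0 → Fin p) → R => ∑ ε, algebraMap R B (c ε) * ∏ i, t i ^ (ε i : ℕ)) =
          (algebraMap R B) ∘ (fun c => c default) := by
        funext c
        simp
      have h2 : Function.Bijective (fun c : (Fin 0 → Fin p) → R => c default) := by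
        constructor
        · intro c c' h
          funext ε
          rw [Subsingleton.elim ε default]
          exact h
        · intro r
          exact ⟨fun _ => r, rfl⟩
      have h3 : Function.Bijective ((algebraMap R B) ∘ (fun c : (Fin 0 → Fin p) → R => c default)) := by
        rw [← h1]; exact hF
      exact (Function.Bijective.of_comp_iff _ h2).mp h3
    exact ⟨(AlgEquiv.ofBijective (Algebra.ofId R B) hbij).symm⟩
  | succ n ih =>
    intro R B _ _ _ t a ht hF
    letI alg : Algebra (Quiet.RootRing p R (a 0)) B :=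
      ((psi p (a 0) (t 0) (ht 0)) : Quiet.RootRing p R (a 0) →+* B).toAlgebra
    have htower : IsScalarTower R (Quiet.RootRing p R (a 0)) B :=
      IsScalarTower.of_algebraMap_eq (fun r => ((psi p (a 0) (t 0) (ht 0)).commutes r).symm)
    refine ⟨a 0, alg, htower, ?_⟩
    refine ih (Quiet.RootRing p R (a 0)) B (fun i => t i.succ)
      (fun i => algebraMap R (Quiet.RootRing p R (a 0)) (a i.succ)) ?_ ?_
    · intro i
      rw [← IsScalarTower.algebraMap_apply R (Quiet.RootRing p R (a 0)) B]
      exact ht i.succ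
    · rcases subsingleton_or_nontrivial R with hR | hR
      · have hB : Subsingleton B := Module.subsingleton R B
        have hR₁ : Subsingleton (Quiet.RootRing p R (a 0)) := Module.subsingleton R _
        exact ⟨fun c c' _ => Subsingleton.elim _ _, fun b => ⟨0, Subsingleton.elim _ _⟩⟩
      · exact isFrame_step p hp t (a 0) (ht 0) hF

end Groth.Agent.Lib.Seat88.FrobTower
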