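import Mathlib
import Groth.Prelude.Def_FrobAlg
import Groth.Prelude.Def_W4c2gaugesfzipsQuiet
import Groth.Agent.Lib.Helper6FrobEtale
import Groth.Agent.Lib.Seat88RelFrobCoord
import Groth.Agent.Lib.Seat88RelFrobSmooth
import Groth.Agent.Lib.Seat88CartierLocal
import Groth.Agent.Lib.Seat88FrobTower

/-!
# The Frobenius of a smooth algebra over a perfect ring: faithfully flat, extraction of `p`-th roots
-/

set_option autoImplicit false
set_option linter.unusedSectionVars false
universe u

namespace Groth.Agent.Lib.Seat88.FrobPthRoot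

open TensorProduct FrobAlg MvPolynomial AlgebraicGeometry CategoryTheory Opposite
open Groth.Agent.Lib.Seat88
open Groth.Agent.Lib.Seat88.FrobTower

section algebra

variable (p : ℕ) [Fact p.Prime] (k : Type u) [CommRing k] [CharP k p] [PerfectRing k p]
  (B : Type u) [CommRing B] [Algebra k B] [CharP B p]

omit [PerfectRing k p] in
lemma frobenius_eq_comp :
    frobenius B p = (relFrob p k B).comp
      ((Algebra.TensorProduct.includeLeft : B →ₐ[k] BaseChange p k B) : B →+* BaseChange p k B) := by
  ext b
  simp only [RingHom.comp_apply, frobenius_def]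
  exact (CartierLocal.relFrob_tmul_one p k B b).symm

theorem frobenius_flat [Algebra.Smooth k B] : (frobenius B p).Flat := by
  rw [frobenius_eq_comp p k B]
  refine RingHom.Flat.comp ?_ (RelFrobSmooth.flat_relFrob_of_smooth p k B)
  exact RingHom.Flat.of_bijective (CartierLocal.tmul_one_bijective p k B)

theorem frobenius_faithfullyFlat [Algebra.Smooth k B] : (frobenius B p).FaithfullyFlat := by
  have hp : p.Prime := Fact.out
  rw [RingHom.FaithfullyFlat.iff_flat_and_comap_surjective]
  refine ⟨frobenius_flat p k B, fun P => ⟨P, ?_⟩⟩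
  ext x
  simp only [PrimeSpectrum.comap_asIdeal, Ideal.mem_comap, frobenius_def]
  exact P.isPrime.pow_mem_iff_mem p hp.pos

set_option linter.style.haveILetI false in
/-- a standard smooth algebra over a perfect ring has a monomial frame for its Frobenius -/
theorem exists_isFrame [Algebra.IsStandardSmooth k B] :
    ∃ (n : ℕ) (t : Fin n → B), IsFrame p (frobenius B p) t := by
  obtain ⟨ι, σ, hσ, hι, ⟨P⟩⟩ := Algebra.IsStandardSmooth.out (R := k) (S := B)
  haveI : Algebra.IsStandardSmoothOfRelativeDimension P.dimension k B := ⟨_, _, _, hι, P, rfl⟩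
  obtain ⟨g, hg⟩ :=
    Algebra.IsStandardSmoothOfRelativeDimension.exists_etale_mvPolynomial P.dimension k B
  letI : Algebra (MvPolynomial (Fin P.dimension) k) B :=
    (g : MvPolynomial (Fin P.dimension) k →+* B).toAlgebra
  haveI : IsScalarTower k (MvPolynomial (Fin P.dimension) k) B :=
    IsScalarTower.of_algebraMap_eq' g.comp_algebraMap.symm
  haveI : Algebra.Etale (MvPolynomial (Fin P.dimension) k) B := hg
  letI alg : Algebra (BaseChange p k B) B := (relFrob p k B).toAlgebra
  obtain ⟨b, hb⟩ := RelFrobCoord.exists_basis p k B (Fin P.dimension)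
  refine ⟨P.dimension, fun i => algebraMap (MvPolynomial (Fin P.dimension) k) B (X i), ?_⟩
  have hmon : ∀ ε : Fin P.dimension → Fin p, b ε =
      ∏ i, algebraMap (MvPolynomial (Fin P.dimension) k) B (X i) ^ (ε i : ℕ) := by
    intro ε
    rw [hb, ExpandFree.mon, MvPolynomial.monomial_eq, map_one, one_mul,
      Finsupp.prod_fintype _ _ (fun i => pow_zero _), map_prod]
    refine Finset.prod_congr rfl fun i _ => ?_
    rw [map_pow, ExpandFree.expo_apply]
  have hcomp : (fun c : (Fin P.dimension → Fin p) → B => ∑ ε, frobenius B p (c ε) *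
      ∏ i, algebraMap (MvPolynomial (Fin P.dimension) k) B (X i) ^ (ε i : ℕ)) =
      b.equivFun.symm ∘ (fun c ε => c ε ⊗ₜ[k] (1 : Twist p k)) := by
    funext c
    rw [Function.comp_apply, Module.Basis.equivFun_symm_apply]
    refine Finset.sum_congr rfl fun ε _ => ?_
    rw [hmon, Algebra.smul_def, frobenius_def]
    congr 1
    exact (CartierLocal.relFrob_tmul_one p k B (c ε)).symm
  change Function.Bijective _
  rw [hcomp]
  exact b.equivFun.symm.bijective.comp (CartierLocal.tmul_one_bijective p k B).comp_left

end algebra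

section scheme

lemma app_algebraMap {R S : CommRingCat.{u}} (φ : R ⟶ S) (U : (Spec R).Opens) (a : R) :
    ((Spec.map φ).app U).hom (algebraMap R Γ(Spec R, U) a) =
      algebraMap S Γ(Spec S, (Spec.map φ) ⁻¹ᵁ U) (φ.hom a) := by
  have key : (Scheme.ΓSpecIso R).inv ≫ (Spec R).presheaf.map (homOfLE le_top).op ≫
      (Spec.map φ).app U =
      φ ≫ (Scheme.ΓSpecIso S).inv ≫ (Spec S).presheaf.map (homOfLE le_top).op := by
    rw [Scheme.Hom.naturality, ← Category.assoc, ← Category.assoc,
      Scheme.ΓSpecIso_inv_naturality φ]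
    rfl
  have h2 := congrArg (fun m => m.hom a) key
  rw [IsAffineOpen.algebraMap_Spec_obj, IsAffineOpen.algebraMap_Spec_obj]
  exact h2

variable (p : ℕ) [Fact p.Prime] (k : Type u) [CommRing k] [CharP k p] [PerfectRing k p]
  (R : CommRingCat.{u}) [Algebra k R] [CharP R p] [Algebra.Smooth k R]

include k in
set_option linter.style.haveILetI false in
set_option backward.isDefEq.respectTransparency.types false in
/-- the Frobenius of a smooth algebra over a perfect ring is an extraction of `p`-th roots -/
theorem isPthRoot_frobenius' :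
    Quiet.IsPthRoot p (Spec.map (CommRingCat.ofHom (frobenius R p))) := by
  have hp : p.Prime := Fact.out
  intro x
  obtain ⟨s, hs, h⟩ := Algebra.Smooth.exists_span_eq_top_isStandardSmooth k R
  obtain ⟨g, hgs, hgx⟩ : ∃ g ∈ s, g ∉ (show PrimeSpectrum R from x).asIdeal := by
    by_contra hcon
    push Not at hcon
    have h1 : Ideal.span s ≤ (show PrimeSpectrum R from x).asIdeal := Ideal.span_le.mpr hcon
    rw [hs] at h1
    exact (show PrimeSpectrum R from x).isPrime.ne_top (top_le_iff.mp h1)
  have hst := h g hgs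
  have hnt : Nontrivial (Localization.Away g) := by
    by_contra hcon
    rw [not_nontrivial_iff_subsingleton] at hcon
    obtain ⟨N, hN⟩ := (IsLocalization.subsingleton_iff (M := Submonoid.powers g)
      (S := Localization.Away g)).mp hcon
    have hN' : g ^ N = 0 := hN
    exact hgx ((show PrimeSpectrum R from x).isPrime.mem_of_pow_mem N (hN' ▸ zero_mem _))
  have hp0 : ((p : ℕ) : Localization.Away g) = 0 := by
    have : ((p : ℕ) : Localization.Away g) = algebraMap R (Localization.Away g) ((p : ℕ) : R) :=
      (map_natCast _ p).symm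
    rw [this, CharP.cast_eq_zero, map_zero]
  haveI : CharP (Localization.Away g) p := (CharP.charP_iff_prime_eq_zero hp).mpr hp0
  obtain ⟨n, t, hF⟩ := exists_isFrame p k (Localization.Away g)
  let φ : R ⟶ R := CommRingCat.ofHom (frobenius R p)
  let U : (Spec (R)).affineOpens :=
    ⟨PrimeSpectrum.basicOpen g, IsAffineOpen.Spec_basicOpen g⟩
  have hpre : (Spec.map φ) ⁻¹ᵁ U.1 = PrimeSpectrum.basicOpen g := by
    ext y
    change g ∉ (PrimeSpectrum.comap (frobenius R p) (show PrimeSpectrum R from y)).asIdeal ↔
      g ∉ (show PrimeSpectrum R from y).asIdeal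
    rw [PrimeSpectrum.comap_asIdeal, Ideal.mem_comap, frobenius_def,
      (show PrimeSpectrum R from y).isPrime.pow_mem_iff_mem p hp.pos]
  refine ⟨U, hgx, hpre ▸ IsAffineOpen.Spec_basicOpen g, ?_⟩
  haveI locU : IsLocalization.Away g Γ(Spec (R), U.1) :=
    inferInstanceAs (IsLocalization.Away g
      Γ(Spec (R), PrimeSpectrum.basicOpen g))
  haveI locV : IsLocalization.Away g Γ(Spec (R), (Spec.map φ) ⁻¹ᵁ U.1) := by
    rw [hpre]
    exact inferInstanceAs (IsLocalization.Away g
      Γ(Spec (R), PrimeSpectrum.basicOpen g))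
  let eR : Localization.Away g ≃ₐ[R] Γ(Spec (R), U.1) :=
    IsLocalization.algEquiv (Submonoid.powers g) _ _
  let eB : Localization.Away g ≃ₐ[R] Γ(Spec (R), (Spec.map φ) ⁻¹ᵁ U.1) :=
    IsLocalization.algEquiv (Submonoid.powers g) _ _
  have hcompat : ∀ y : Localization.Away g,
      ((Spec.map φ).app U.1).hom (eR y) = eB (frobenius (Localization.Away g) p y) := by
    intro y
    have h1 : (((Spec.map φ).app U.1).hom.comp (eR : Localization.Away g →+* _)) =
        ((eB : Localization.Away g →+* _).comp (frobenius (Localization.Away g) p)) := by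
      apply IsLocalization.ringHom_ext (Submonoid.powers g)
      ext a
      simp only [RingHom.comp_apply, RingHom.coe_coe, AlgEquiv.commutes, frobenius_def]
      rw [app_algebraMap, ← map_pow, AlgEquiv.commutes]
      rfl
    exact RingHom.congr_fun h1 y
  refine ⟨n, ?_⟩
  letI := ((Spec.map φ).app U.1).hom.toAlgebra
  refine isRootTower_of_isFrame p hp.pos n _ _ (fun i => eB (t i)) (fun i => eR (t i)) ?_ ?_
  · intro i
    change _ = ((Spec.map φ).app U.1).hom (eR (t i))
    rw [hcompat, frobenius_def, map_pow]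
  · have hcomp : (fun c' : (Fin n → Fin p) → Γ(Spec R, U.1) =>
        ∑ ε, ((Spec.map φ).app U.1).hom (c' ε) * ∏ i, eB (t i) ^ (ε i : ℕ)) ∘
          (fun (c : (Fin n → Fin p) → Localization.Away g) => (eR : _ → _) ∘ c) =
        eB ∘ (fun c : (Fin n → Fin p) → Localization.Away g =>
          ∑ ε, frobenius (Localization.Away g) p (c ε) * ∏ i, t i ^ (ε i : ℕ)) := by
      funext c
      simp only [Function.comp_apply, hcompat, map_sum, map_mul, map_prod, map_pow]
    have h1 : Function.Bijective ((fun c' : (Fin n → Fin p) → Γ(Spec R, U.1) =>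
        ∑ ε, ((Spec.map φ).app U.1).hom (c' ε) * ∏ i, eB (t i) ^ (ε i : ℕ)) ∘
          (fun (c : (Fin n → Fin p) → Localization.Away g) => (eR : _ → _) ∘ c)) := by
      rw [hcomp]
      exact eB.bijective.comp hF
    exact (Function.Bijective.of_comp_iff _ (eR.bijective.comp_left)).mp h1

end scheme

end Groth.Agent.Lib.Seat88.FrobPthRoot
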