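import Mathlib
import Groth.Prelude.Def_W4c2gaugesfzipsQuiet
import Groth.Agent.Lib.Seat88FrobTower

/-!
# Base change of faithful flatness and of monomial frames along a quotient
-/

set_option autoImplicit false
set_option linter.unusedSectionVars false
universe u

namespace Groth.Agent.Lib.Seat88.FrobQuot

open Groth.Agent.Lib.Seat88.FrobTower

/-- the quotient of a faithfully flat ring map by an ideal and its extension is faithfully flat -/
theorem faithfullyFlat_quotientMap {R T : Type u} [CommRing R] [CommRing T] (φ : R →+* T)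
    (hφ : φ.FaithfullyFlat) (I : Ideal R) :
    (Ideal.quotientMap (I.map φ) φ Ideal.le_comap_map).FaithfullyFlat := by
  let _ : Algebra R T := φ.toAlgebra
  have : Module.FaithfullyFlat R T := hφ
  have e := Algebra.TensorProduct.quotIdealMapEquivQuotTensor T I
  have : Module.FaithfullyFlat (R ⧸ I) (T ⧸ I.map (algebraMap R T)) :=
    Module.FaithfullyFlat.of_linearEquiv _ _ e.toLinearEquiv
  exact (RingHom.faithfullyFlat_algebraMap_iff).mpr this

section frame

variable (p : ℕ) {R B : Type u} [CommRing R] [CommRing B] (φ : R →+* B) {n : ℕ} (t : Fin n → B)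

/-- the frame map -/
def frameMap (c : (Fin n → Fin p) → R) : B := ∑ ε, φ (c ε) * ∏ i, t i ^ (ε i : ℕ)

lemma isFrame_iff : IsFrame p φ t ↔ Function.Bijective (frameMap p φ t) := Iff.rfl

lemma frameMap_add (c c' : (Fin n → Fin p) → R) :
    frameMap p φ t (c + c') = frameMap p φ t c + frameMap p φ t c' := by
  simp only [frameMap, Pi.add_apply, map_add, add_mul, Finset.sum_add_distrib]

lemma frameMap_zero : frameMap p φ t 0 = 0 := by
  simp [frameMap]

lemma frameMap_smul (r : R) (c : (Fin n → Fin p) → R) :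
    frameMap p φ t (r • c) = φ r * frameMap p φ t c := by
  simp only [frameMap, Pi.smul_apply, smul_eq_mul, map_mul, Finset.mul_sum, mul_assoc]

lemma frameMap_sum {ι : Type*} (s : Finset ι) (c : ι → (Fin n → Fin p) → R) :
    frameMap p φ t (∑ k ∈ s, c k) = ∑ k ∈ s, frameMap p φ t (c k) := by
  classical
  induction s using Finset.induction_on with
  | empty => simp [frameMap_zero]
  | insert a s ha ih => rw [Finset.sum_insert ha, Finset.sum_insert ha, frameMap_add, ih]

variable {p φ t}

/-- elements of the extended ideal have coordinates in the ideal -/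
lemma exists_coords_mem (hF : IsFrame p φ t) (J : Ideal R) (x : B) (hx : x ∈ J.map φ) :
    ∃ c : (Fin n → Fin p) → R, (∀ ε, c ε ∈ J) ∧ frameMap p φ t c = x := by
  rw [Ideal.map] at hx
  induction hx using Submodule.span_induction with
  | mem x hx =>
    obtain ⟨j, hj, rfl⟩ := hx
    obtain ⟨c₁, hc₁⟩ := hF.2 1
    refine ⟨j • c₁, fun ε => J.mul_mem_right _ hj, ?_⟩
    change frameMap p φ t c₁ = 1 at hc₁
    rw [frameMap_smul, hc₁, mul_one]
  | zero => exact ⟨0, fun ε => J.zero_mem, frameMap_zero p φ t⟩
  | add x y _ _ hx hy =>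
    obtain ⟨c, hc, rfl⟩ := hx
    obtain ⟨c', hc', rfl⟩ := hy
    exact ⟨c + c', fun ε => J.add_mem (hc ε) (hc' ε), frameMap_add p φ t c c'⟩
  | smul b x _ hx =>
    obtain ⟨c, hc, rfl⟩ := hx
    choose d hd using fun ε : Fin n → Fin p => hF.2 (b * ∏ i, t i ^ (ε i : ℕ))
    refine ⟨∑ ε, c ε • d ε, fun δ => ?_, ?_⟩
    · rw [Finset.sum_apply]
      exact J.sum_mem fun ε _ => J.mul_mem_right _ (hc ε)
    · rw [frameMap_sum]
      have hd' : ∀ ε, frameMap p φ t (d ε) = b * ∏ i, t i ^ (ε i : ℕ) := hd
      simp only [frameMap_smul, hd']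
      rw [smul_eq_mul, frameMap, Finset.mul_sum]
      refine Finset.sum_congr rfl fun ε _ => ?_
      ring

/-- a monomial frame passes to the quotient by an ideal and its extension -/
theorem isFrame_quotient (hF : IsFrame p φ t) (J : Ideal R) (J' : Ideal B) (hJ : J' = J.map φ) :
    IsFrame p (Ideal.quotientMap J' φ (hJ ▸ Ideal.le_comap_map))
      (fun i => Ideal.Quotient.mk J' (t i)) := by
  subst hJ
  rw [isFrame_iff]
  have hmk : ∀ c : (Fin n → Fin p) → R,
      frameMap p (Ideal.quotientMap (J.map φ) φ Ideal.le_comap_map)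
        (fun i => Ideal.Quotient.mk (J.map φ) (t i)) (fun ε => Ideal.Quotient.mk J (c ε)) =
      Ideal.Quotient.mk (J.map φ) (frameMap p φ t c) := by
    intro c
    simp only [frameMap, map_sum, map_mul, map_prod, map_pow, Ideal.quotientMap_mk]
  have hlift : ∀ cb : (Fin n → Fin p) → R ⧸ J, ∃ c : (Fin n → Fin p) → R,
      cb = fun ε => Ideal.Quotient.mk J (c ε) := by
    intro cb
    choose c hc using fun ε => Ideal.Quotient.mk_surjective (cb ε)
    exact ⟨c, funext fun ε => (hc ε).symm⟩
  constructor
  · intro cb cb' h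
    obtain ⟨c, rfl⟩ := hlift cb
    obtain ⟨c', rfl⟩ := hlift cb'
    rw [hmk, hmk, Ideal.Quotient.eq] at h
    have h1 : frameMap p φ t (c - c') ∈ J.map φ := by
      have : frameMap p φ t (c - c') = frameMap p φ t c - frameMap p φ t c' := by
        have h2 := frameMap_add p φ t (c - c') c'
        rw [sub_add_cancel] at h2
        rw [h2, add_sub_cancel_right]
      rw [this]
      exact h
    obtain ⟨c'', hc'', h3⟩ := exists_coords_mem hF J _ h1
    have h4 : c'' = c - c' := hF.1 h3
    funext ε
    rw [Ideal.Quotient.eq]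
    have := hc'' ε
    rw [h4] at this
    exact this
  · intro bb
    obtain ⟨b, rfl⟩ := Ideal.Quotient.mk_surjective bb
    obtain ⟨c, hc⟩ := hF.2 b
    refine ⟨fun ε => Ideal.Quotient.mk J (c ε), ?_⟩
    rw [hmk]
    exact congrArg _ hc

end frame

end Groth.Agent.Lib.Seat88.FrobQuot
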