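import Mathlib
import Groth.Prelude.Def_W4c2gaugesfzipsQuiet
import Groth.Agent.Lib.Seat88FrobTower
import Groth.Agent.Lib.Seat88FrobQuot
import Groth.Agent.Lib.Seat88FrobPthRoot

/-!
# The Frobenius of a smooth algebra modulo an ideal is an extraction of `p`-th roots
-/

set_option autoImplicit false
set_option linter.unusedSectionVars false
universe u

namespace Groth.Agent.Lib.Seat88.FrobQuotSch

open AlgebraicGeometry CategoryTheory Opposite
open Groth.Agent.Lib.Seat88.FrobTower
open Groth.Agent.Lib.Seat88.FrobQuot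
open Groth.Agent.Lib.Seat88.FrobPthRoot

set_option linter.style.haveILetI false in
set_option backward.isDefEq.respectTransparency.types false in
/-- sections over a basic open: a frame for the map of localisations gives a root tower for the
map of sections -/
theorem isRootTower_app_basicOpen (p : ℕ) (hp : 0 < p) {R T : CommRingCat.{u}} (φ : R ⟶ T)
    (g : R) (g' : T)
    (hpre : (Spec.map φ) ⁻¹ᵁ (PrimeSpectrum.basicOpen g : (Spec R).Opens) =
      PrimeSpectrum.basicOpen g')
    (Rg Tg : Type u) [CommRing Rg] [CommRing Tg] [Algebra R Rg] [Algebra T Tg]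
    [IsLocalization.Away g Rg] [IsLocalization.Away g' Tg]
    (ψ : Rg →+* Tg) (hψ : ∀ a : R, ψ (algebraMap R Rg a) = algebraMap T Tg (φ.hom a))
    (n : ℕ) (t : Fin n → Tg) (a : Fin n → Rg) (ht : ∀ i, t i ^ p = ψ (a i))
    (hF : IsFrame p ψ t) :
    letI := ((Spec.map φ).app (PrimeSpectrum.basicOpen g)).hom.toAlgebra
    Quiet.IsRootTower p n Γ(Spec R, PrimeSpectrum.basicOpen g)
      Γ(Spec T, (Spec.map φ) ⁻¹ᵁ (PrimeSpectrum.basicOpen g)) := by
  haveI locV : IsLocalization.Away g' Γ(Spec T, (Spec.map φ) ⁻¹ᵁ (PrimeSpectrum.basicOpen g)) := by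
    rw [hpre]
    infer_instance
  let eR : Rg ≃ₐ[R] Γ(Spec R, PrimeSpectrum.basicOpen g) :=
    IsLocalization.algEquiv (Submonoid.powers g) _ _
  let eB : Tg ≃ₐ[T] Γ(Spec T, (Spec.map φ) ⁻¹ᵁ (PrimeSpectrum.basicOpen g)) :=
    IsLocalization.algEquiv (Submonoid.powers g') _ _
  have hcompat : ∀ y : Rg,
      ((Spec.map φ).app (PrimeSpectrum.basicOpen g)).hom (eR y) = eB (ψ y) := by
    intro y
    have h1 : (((Spec.map φ).app (PrimeSpectrum.basicOpen g)).hom.comp (eR : Rg →+* _)) =
        ((eB : Tg →+* _).comp ψ) := by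
      apply IsLocalization.ringHom_ext (Submonoid.powers g)
      ext a
      simp only [RingHom.comp_apply, RingHom.coe_coe, AlgEquiv.commutes, hψ]
      rw [app_algebraMap]
    exact RingHom.congr_fun h1 y
  letI := ((Spec.map φ).app (PrimeSpectrum.basicOpen g)).hom.toAlgebra
  refine isRootTower_of_isFrame p hp n _ _ (fun i => eB (t i)) (fun i => eR (a i)) ?_ ?_
  · intro i
    change _ = ((Spec.map φ).app (PrimeSpectrum.basicOpen g)).hom (eR (a i))
    rw [hcompat, ← ht, map_pow]
  · have hcomp : (fun c' : (Fin n → Fin p) → Γ(Spec R, PrimeSpectrum.basicOpen g) =>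
        ∑ ε, ((Spec.map φ).app (PrimeSpectrum.basicOpen g)).hom (c' ε) *
          ∏ i, eB (t i) ^ (ε i : ℕ)) ∘
          (fun (c : (Fin n → Fin p) → Rg) => (eR : _ → _) ∘ c) =
        eB ∘ (fun c : (Fin n → Fin p) → Rg => ∑ ε, ψ (c ε) * ∏ i, t i ^ (ε i : ℕ)) := by
      funext c
      simp only [Function.comp_apply, hcompat, map_sum, map_mul, map_prod, map_pow]
    have h1 : Function.Bijective ((fun c' : (Fin n → Fin p) → Γ(Spec R, PrimeSpectrum.basicOpen g) =>
        ∑ ε, ((Spec.map φ).app (PrimeSpectrum.basicOpen g)).hom (c' ε) *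
          ∏ i, eB (t i) ^ (ε i : ℕ)) ∘
          (fun (c : (Fin n → Fin p) → Rg) => (eR : _ → _) ∘ c)) := by
      rw [hcomp]
      exact eB.bijective.comp hF
    exact (Function.Bijective.of_comp_iff _ (eR.bijective.comp_left)).mp h1

section quotient

variable (p : ℕ) [Fact p.Prime] (k : Type u) [CommRing k] [CharP k p] [PerfectRing k p]
  (S : Type u) [CommRing S] [Algebra k S] [CharP S p] [Algebra.Smooth k S] (I : Ideal S)

include k in
set_option linter.style.haveILetI false in
set_option backward.isDefEq.respectTransparency.types false in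
/-- the Frobenius of a smooth algebra over a perfect ring, reduced modulo an ideal and its
Frobenius extension, is an extraction of `p`-th roots -/
theorem isPthRoot_quotientMap_frobenius :
    Quiet.IsPthRoot p (Spec.map (CommRingCat.ofHom
      (Ideal.quotientMap (I.map (frobenius S p)) (frobenius S p) Ideal.le_comap_map))) := by
  have hp : p.Prime := Fact.out
  set β : S ⧸ I →+* S ⧸ I.map (frobenius S p) :=
    Ideal.quotientMap (I.map (frobenius S p)) (frobenius S p) Ideal.le_comap_map with hβ
  intro x
  let q : Ideal S := (show PrimeSpectrum (S ⧸ I) from x).asIdeal.comap (Ideal.Quotient.mk I)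
  have hq : q.IsPrime := Ideal.comap_isPrime _ _
  obtain ⟨s, hs, h⟩ := Algebra.Smooth.exists_span_eq_top_isStandardSmooth k S
  obtain ⟨g, hgs, hgq⟩ : ∃ g ∈ s, g ∉ q := by
    by_contra hcon
    push Not at hcon
    have h1 : Ideal.span s ≤ q := Ideal.span_le.mpr hcon
    rw [hs] at h1
    exact hq.ne_top (top_le_iff.mp h1)
  have hst := h g hgs
  have hnt : Nontrivial (Localization.Away g) := by
    by_contra hcon
    rw [not_nontrivial_iff_subsingleton] at hcon
    obtain ⟨N, hN⟩ := (IsLocalization.subsingleton_iff (M := Submonoid.powers g)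
      (S := Localization.Away g)).mp hcon
    have hN' : g ^ N = 0 := hN
    exact hgq (hq.mem_of_pow_mem N (hN' ▸ zero_mem _))
  have hp0 : ((p : ℕ) : Localization.Away g) = 0 := by
    have : ((p : ℕ) : Localization.Away g) = algebraMap S (Localization.Away g) ((p : ℕ) : S) :=
      (map_natCast _ p).symm
    rw [this, CharP.cast_eq_zero, map_zero]
  haveI : CharP (Localization.Away g) p := (CharP.charP_iff_prime_eq_zero hp).mpr hp0
  obtain ⟨n, t, hF⟩ := exists_isFrame p k (Localization.Away g)
  let J : Ideal (Localization.Away g) := I.map (algebraMap S (Localization.Away g))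
  let J' : Ideal (Localization.Away g) :=
    (I.map (frobenius S p)).map (algebraMap S (Localization.Away g))
  have hJ : J' = J.map (frobenius (Localization.Away g) p) := by
    simp only [J, J', Ideal.map_map]
    congr 1
    ext y
    simp [frobenius_def]
  have hFq := isFrame_quotient hF J J' hJ
  let R : CommRingCat.{u} := CommRingCat.of (S ⧸ I)
  let T : CommRingCat.{u} := CommRingCat.of (S ⧸ I.map (frobenius S p))
  let φ : R ⟶ T := CommRingCat.ofHom β
  let gb : S ⧸ I := Ideal.Quotient.mk I g
  let gb' : S ⧸ I.map (frobenius S p) := Ideal.Quotient.mk _ g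
  have hpre : (Spec.map φ) ⁻¹ᵁ (PrimeSpectrum.basicOpen gb : (Spec R).Opens) =
      PrimeSpectrum.basicOpen gb' := by
    ext y
    change gb ∉ (PrimeSpectrum.comap β (show PrimeSpectrum _ from y)).asIdeal ↔
      gb' ∉ (show PrimeSpectrum (S ⧸ I.map (frobenius S p)) from y).asIdeal
    rw [PrimeSpectrum.comap_asIdeal, Ideal.mem_comap]
    have hb : β gb = gb' ^ p := by
      simp [β, gb, gb', Ideal.quotientMap_mk, frobenius_def]
    rw [hb, (show PrimeSpectrum (S ⧸ I.map (frobenius S p)) from y).isPrime.pow_mem_iff_mem p hp.pos]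
  have locR : IsLocalization.Away gb (Localization.Away g ⧸ J) := by
    have h1 : Algebra.algebraMapSubmonoid (S ⧸ I) (Submonoid.powers g) = Submonoid.powers gb := by
      simp [Algebra.algebraMapSubmonoid, Submonoid.map_powers, gb]
    have h2 : IsLocalization (Algebra.algebraMapSubmonoid (S ⧸ I) (Submonoid.powers g))
        (Localization.Away g ⧸ J) := inferInstance
    rw [h1] at h2
    exact h2
  have locT : IsLocalization.Away gb' (Localization.Away g ⧸ J') := by
    have h1 : Algebra.algebraMapSubmonoid (S ⧸ I.map (frobenius S p)) (Submonoid.powers g) =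
        Submonoid.powers gb' := by
      simp [Algebra.algebraMapSubmonoid, Submonoid.map_powers, gb']
    have h2 : IsLocalization
        (Algebra.algebraMapSubmonoid (S ⧸ I.map (frobenius S p)) (Submonoid.powers g))
        (Localization.Away g ⧸ J') := inferInstance
    rw [h1] at h2
    exact h2
  refine ⟨⟨PrimeSpectrum.basicOpen gb, IsAffineOpen.Spec_basicOpen (R := R) gb⟩, hgq,
    hpre ▸ IsAffineOpen.Spec_basicOpen (R := T) gb', n, ?_⟩
  refine isRootTower_app_basicOpen p hp.pos φ gb gb' hpre (Localization.Away g ⧸ J)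
    (Localization.Away g ⧸ J')
    (Ideal.quotientMap J' (frobenius (Localization.Away g) p) (hJ ▸ Ideal.le_comap_map)) ?_ n
    (fun i => Ideal.Quotient.mk J' (t i)) (fun i => Ideal.Quotient.mk J (t i)) ?_ hFq
  · intro a
    obtain ⟨a, rfl⟩ := Ideal.Quotient.mk_surjective a
    change Ideal.quotientMap J' (frobenius (Localization.Away g) p) _
      (Ideal.Quotient.mk J (algebraMap S (Localization.Away g) a)) =
      Ideal.Quotient.mk J' (algebraMap S (Localization.Away g) (a ^ p))
    rw [Ideal.quotientMap_mk, frobenius_def, map_pow, map_pow, map_pow]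
  · intro i
    rw [Ideal.quotientMap_mk, frobenius_def, map_pow]

end quotient

end Groth.Agent.Lib.Seat88.FrobQuotSch
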