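import Mathlib

/-!
# Regular sequences: faithfully flat ring maps and concatenation through a quotient ring
-/

set_option autoImplicit false
set_option linter.unusedSectionVars false
universe u

namespace Groth.Agent.Lib.Seat88.FrobRegSeq

open RingTheory.Sequence

/-- a faithfully flat ring map preserves regular sequences -/
theorem isRegular_map_of_faithfullyFlat {R S : Type u} [CommRing R] [CommRing S] (φ : R →+* S)
    (hφ : φ.FaithfullyFlat) {rs : List R} (reg : IsRegular R rs) : IsRegular S (rs.map φ) := by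
  let _ : Algebra R S := φ.toAlgebra
  have : Module.FaithfullyFlat R S := hφ
  exact reg.of_faithfullyFlat

/-- concatenation of a regular sequence with a sequence regular on the quotient ring -/
theorem isRegular_append {S : Type u} [CommRing S] (rs₁ rs₂ : List S) (I : Ideal S)
    (hI : Ideal.ofList rs₁ = I) (h1 : IsRegular S rs₁)
    (h2 : IsRegular (S ⧸ I) (rs₂.map (Ideal.Quotient.mk I))) : IsRegular S (rs₁ ++ rs₂) := by
  subst hI
  refine ⟨?_, ?_⟩
  · rw [isWeaklyRegular_append_iff]
    refine ⟨h1.toIsWeaklyRegular, ?_⟩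
    have h3 : IsWeaklyRegular (S ⧸ Ideal.ofList rs₁) rs₂ :=
      (isWeaklyRegular_map_algebraMap_iff (S ⧸ Ideal.ofList rs₁) (S ⧸ Ideal.ofList rs₁) rs₂).mp
        h2.toIsWeaklyRegular
    have e : (S ⧸ Ideal.ofList rs₁) ≃ₗ[S] (S ⧸ (Ideal.ofList rs₁ • ⊤ : Submodule S S)) :=
      Submodule.quotEquivOfEq _ _ (by simp)
    exact (e.isWeaklyRegular_congr rs₂).mp h3
  · intro htop
    apply h2.top_ne_smul
    rw [Ideal.ofList_append, smul_eq_mul, Ideal.mul_top] at htop
    have h4 := congrArg (Ideal.map (Ideal.Quotient.mk (Ideal.ofList rs₁))) htop.symm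
    rw [Ideal.map_sup, Ideal.map_top, Ideal.map_quotient_self, bot_sup_eq, Ideal.map_ofList] at h4
    rw [h4, smul_eq_mul, Ideal.top_mul]

lemma ofList_ofFn {S : Type u} [CommRing S] {n : ℕ} (f : Fin n → S) :
    Ideal.ofList (List.ofFn f) = Ideal.span (Set.range f) := by
  unfold Ideal.ofList
  congr 1
  ext x
  simp [List.mem_ofFn]

end Groth.Agent.Lib.Seat88.FrobRegSeq
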