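import Mathlib
import Groth.Prelude.Def_FrobAlg
import Groth.Agent.Lib.Helper6FrobEtale
import Groth.Agent.Lib.Seat88RelFrobSmooth

/-!
# The relative Frobenius of a smooth algebra is finite locally free of rank `p ^ r`
-/

set_option autoImplicit false
set_option linter.unusedSectionVars false
set_option linter.style.haveILetI false
universe u v w

namespace Groth.Agent.Lib.Seat88.RelFrobRank

open TensorProduct FrobAlg
open Groth.Agent.Lib.Helper6.FrobEtale (relFrob_tmul)
open Groth.Agent.Lib.Seat88

variable (p : ℕ) [Fact p.Prime] (A : Type u) [CommRing A] [CharP A p]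
  (B : Type v) [CommRing B] [Algebra A B] [CharP B p]

/-- `B` is of finite type over its Frobenius twist -/
theorem finiteType_relFrob [Algebra.FiniteType A B] :
    letI := (relFrob p A B).toAlgebra
    Algebra.FiniteType (BaseChange p A B) B := by
  letI algRB : Algebra (BaseChange p A B) B := (relFrob p A B).toAlgebra
  let e : A ≃+* Twist p A := FrobAlg.toTwist p A
  letI algTA : Algebra (Twist p A) A := (e.symm : Twist p A →+* A).toAlgebra
  letI algTB : Algebra (Twist p A) B := ((algebraMap A B).comp (e.symm : Twist p A →+* A)).toAlgebra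
  haveI towerTAB : IsScalarTower (Twist p A) A B := IsScalarTower.of_algebraMap_eq (fun _ => rfl)
  have hTA : Algebra.FiniteType (Twist p A) A :=
    Algebra.FiniteType.equiv (inferInstance : Algebra.FiniteType (Twist p A) (Twist p A))
      (AlgEquiv.ofRingEquiv (f := e.symm) (fun _ => rfl) : Twist p A ≃ₐ[Twist p A] A)
  have hTB : Algebra.FiniteType (Twist p A) B := Algebra.FiniteType.trans hTA inferInstance
  haveI tower : @IsScalarTower (Twist p A) (BaseChange p A B) B Algebra.toSMul Algebra.toSMul
      Algebra.toSMul :=
    IsScalarTower.of_algebraMap_eq (fun t => by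
      change algebraMap A B (e.symm t) = FrobAlg.relFrob p A B ((1 : B) ⊗ₜ[A] t)
      rw [relFrob_tmul, one_pow, one_mul])
  exact Algebra.FiniteType.of_restrictScalars_finiteType (Twist p A) (BaseChange p A B) B

/-- `B` is finite over its Frobenius twist -/
theorem finite_relFrob [Algebra.FiniteType A B] :
    letI := (relFrob p A B).toAlgebra
    Module.Finite (BaseChange p A B) B := by
  letI algRB : Algebra (BaseChange p A B) B := (relFrob p A B).toAlgebra
  haveI := finiteType_relFrob p A B
  haveI : Algebra.IsIntegral (BaseChange p A B) B := ⟨fun x => RelFrobPoly.relFrob_isIntegral p A B x⟩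
  exact Algebra.IsIntegral.finite

/-- `B` is finitely presented over its Frobenius twist -/
theorem finitePresentation_relFrob [Algebra.FinitePresentation A B] :
    letI := (relFrob p A B).toAlgebra
    Algebra.FinitePresentation (BaseChange p A B) B := by
  letI algRB : Algebra (BaseChange p A B) B := (relFrob p A B).toAlgebra
  let e : A ≃+* Twist p A := FrobAlg.toTwist p A
  letI algTA : Algebra (Twist p A) A := (e.symm : Twist p A →+* A).toAlgebra
  letI algTB : Algebra (Twist p A) B := ((algebraMap A B).comp (e.symm : Twist p A →+* A)).toAlgebra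
  haveI towerTAB : IsScalarTower (Twist p A) A B := IsScalarTower.of_algebraMap_eq (fun _ => rfl)
  haveI hTA : Algebra.FinitePresentation (Twist p A) A :=
    Algebra.FinitePresentation.equiv
      (AlgEquiv.ofRingEquiv (f := e.symm) (fun _ => rfl) : Twist p A ≃ₐ[Twist p A] A)
  haveI hTB : Algebra.FinitePresentation (Twist p A) B :=
    Algebra.FinitePresentation.trans (Twist p A) A B
  haveI tower : @IsScalarTower (Twist p A) (BaseChange p A B) B Algebra.toSMul Algebra.toSMul
      Algebra.toSMul :=
    IsScalarTower.of_algebraMap_eq (fun t => by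
      change algebraMap A B (e.symm t) = FrobAlg.relFrob p A B ((1 : B) ⊗ₜ[A] t)
      rw [relFrob_tmul, one_pow, one_mul])
  haveI hTR : Algebra.FiniteType (Twist p A) (BaseChange p A B) :=
    Algebra.FiniteType.equiv (inferInstance : Algebra.FiniteType (Twist p A) (Twist p A ⊗[A] B))
      (Algebra.TensorProduct.commRight A (Twist p A) B)
  exact Algebra.FinitePresentation.of_restrict_scalars_finitePresentation (Twist p A)
    (BaseChange p A B) B

/-- `B` is projective over its Frobenius twist when it is smooth over `A` -/
theorem projective_relFrob [Algebra.Smooth A B] :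
    letI := (relFrob p A B).toAlgebra
    Module.Projective (BaseChange p A B) B := by
  letI algRB : Algebra (BaseChange p A B) B := (relFrob p A B).toAlgebra
  haveI := finite_relFrob p A B
  haveI : Module.Flat (BaseChange p A B) B := RelFrobSmooth.flat_relFrob_of_smooth p A B
  haveI : Module.FinitePresentation (BaseChange p A B) B :=
    (Module.FinitePresentation.iff_finitePresentation_of_finite _ _).mpr
      (finitePresentation_relFrob p A B)
  exact Module.Flat.projective_of_finitePresentation

/-- existence of a basis for a standard smooth algebra of relative dimension `n` -/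
theorem exists_basis_of_isStandardSmoothOfRelativeDimension (n : ℕ)
    [Algebra.IsStandardSmoothOfRelativeDimension n A B] :
    letI := (relFrob p A B).toAlgebra
    Nonempty (Module.Basis (Fin n → Fin p) (BaseChange p A B) B) := by
  obtain ⟨g, hg⟩ := Algebra.IsStandardSmoothOfRelativeDimension.exists_etale_mvPolynomial n A B
  letI : Algebra (MvPolynomial (Fin n) A) B := (g : MvPolynomial (Fin n) A →+* B).toAlgebra
  haveI : IsScalarTower A (MvPolynomial (Fin n) A) B :=
    IsScalarTower.of_algebraMap_eq' g.comp_algebraMap.symm
  haveI : Algebra.Etale (MvPolynomial (Fin n) A) B := hg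
  obtain ⟨b, -⟩ := RelFrobCoord.exists_basis p A B (Fin n)
  exact ⟨b⟩

omit [Fact p.Prime] [CharP A p] [CharP B p] in
/-- the relative dimension of a standard smooth localisation is the rank of the differentials -/
theorem relDim_eq (x : B) (n r : ℕ) [Nontrivial (Localization.Away x)] [Algebra.Smooth A B]
    [Algebra.IsStandardSmoothOfRelativeDimension n A (Localization.Away x)]
    (hr : ∀ q : PrimeSpectrum B, Module.rankAtStalk (R := B) Ω[B⁄A] q = r) : n = r := by
  obtain ⟨Q⟩ := (inferInstance : Nonempty (PrimeSpectrum (Localization.Away x)))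
  have h1 := Module.rankAtStalk_isBaseChange
    (KaehlerDifferential.isBaseChange_of_formallyEtale A B (Localization.Away x)) Q
  rw [hr] at h1
  haveI : Algebra.IsStandardSmooth A (Localization.Away x) :=
    Algebra.IsStandardSmoothOfRelativeDimension.isStandardSmooth n
  rw [Module.rankAtStalk_eq_finrank_of_free] at h1
  have h2 := Algebra.IsStandardSmoothOfRelativeDimension.rank_kaehlerDifferential (R := A)
    (S := Localization.Away x) n
  have h3 : Module.finrank (Localization.Away x) Ω[Localization.Away x⁄A] = n :=
    Module.finrank_eq_of_rank_eq h2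
  rw [← h3]
  exact h1

/-- the twist of a localisation away from `x` is the localisation of the twist away from `x ⊗ 1` -/
theorem isLocalization_map (x : B) (B₁ : Type w) [CommRing B₁] [Algebra B B₁] [Algebra A B₁]
    [IsScalarTower A B B₁] [IsLocalization.Away x B₁] :
    letI := ((Algebra.TensorProduct.map (IsScalarTower.toAlgHom A B B₁) (AlgHom.id A (Twist p A))) :
          BaseChange p A B →+* BaseChange p A B₁).toAlgebra
    IsLocalization.Away (algebraMap B (BaseChange p A B) x) (BaseChange p A B₁) := by
  let G : BaseChange p A B →ₐ[A] BaseChange p A B₁ :=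
    Algebra.TensorProduct.map (IsScalarTower.toAlgHom A B B₁) (AlgHom.id A (Twist p A))
  letI : Algebra (BaseChange p A B) (BaseChange p A B₁) := (G : _ →+* _).toAlgebra
  haveI : IsScalarTower B (BaseChange p A B) (BaseChange p A B₁) :=
    IsScalarTower.of_algebraMap_eq (fun b => by
      change _ = G (b ⊗ₜ 1)
      simp [G])
  have hloc := IsLocalization.tensorProduct_tensorProduct A (Twist p A) (Submonoid.powers x) B₁
    (by
      ext a
      change G ((1 : B) ⊗ₜ a) = _
      simp [G])
  have hS : Algebra.algebraMapSubmonoid (BaseChange p A B) (Submonoid.powers x) =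
      Submonoid.powers (algebraMap B (BaseChange p A B) x) := Submonoid.map_powers _ _
  change IsLocalization (Submonoid.powers _) _
  rw [← hS]
  exact hloc

/-- **The rank of `B` over its Frobenius twist is `p ^ r`.** -/
theorem rankAtStalk_relFrob [Algebra.Smooth A B] (r : ℕ)
    (hr : ∀ q : PrimeSpectrum B, Module.rankAtStalk (R := B) Ω[B⁄A] q = r) :
    letI := (relFrob p A B).toAlgebra
    ∀ q : PrimeSpectrum (BaseChange p A B),
      Module.rankAtStalk (R := BaseChange p A B) B q = p ^ r := by
  have hp : p.Prime := Fact.out
  letI algRB : Algebra (BaseChange p A B) B := (relFrob p A B).toAlgebra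
  haveI := finite_relFrob p A B
  haveI : Module.Flat (BaseChange p A B) B := RelFrobSmooth.flat_relFrob_of_smooth p A B
  obtain ⟨s, hs, h⟩ := Algebra.Smooth.exists_span_eq_top_isStandardSmooth A B
  intro q
  -- find `x ∈ s` with `x ⊗ 1 ∉ q`
  obtain ⟨x, hxs, hxq⟩ : ∃ x ∈ s, algebraMap B (BaseChange p A B) x ∉ q.asIdeal := by
    by_contra hcon
    push Not at hcon
    have h1 : Ideal.map (algebraMap B (BaseChange p A B)) (Ideal.span s) ≤ q.asIdeal := by
      rw [Ideal.map_span, Ideal.span_le]
      rintro _ ⟨x, hx, rfl⟩
      exact hcon x hx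
    rw [hs, Ideal.map_top] at h1
    exact q.2.ne_top (top_le_iff.mp h1)
  haveI : Algebra.IsStandardSmooth A (Localization.Away x) := h x hxs
  haveI hnt : Nontrivial (Localization.Away x) := by
    by_contra hnt
    rw [not_nontrivial_iff_subsingleton] at hnt
    have h01 : algebraMap B (Localization.Away x) 1 = algebraMap B (Localization.Away x) 0 :=
      Subsingleton.elim _ _
    obtain ⟨⟨c, k, rfl⟩, hc⟩ := (IsLocalization.eq_iff_exists (Submonoid.powers x) _).mp h01
    simp only [mul_one, mul_zero] at hc
    apply hxq
    apply q.2.mem_of_pow_mem k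
    rw [← map_pow, hc, map_zero]
    exact q.asIdeal.zero_mem
  have hp0 : ((p : ℕ) : Localization.Away x) = 0 := by
    have : ((p : ℕ) : Localization.Away x) = algebraMap B (Localization.Away x) ((p : ℕ) : B) :=
      (map_natCast _ p).symm
    rw [this, CharP.cast_eq_zero, map_zero]
  haveI : CharP (Localization.Away x) p := (CharP.charP_iff_prime_eq_zero hp).mpr hp0
  -- the algebra structures
  let G : BaseChange p A B →ₐ[A] BaseChange p A (Localization.Away x) :=
    Algebra.TensorProduct.map (IsScalarTower.toAlgHom A B (Localization.Away x))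
      (AlgHom.id A (Twist p A))
  letI algRR₁ : Algebra (BaseChange p A B) (BaseChange p A (Localization.Away x)) :=
    (G : _ →+* _).toAlgebra
  haveI hloc : IsLocalization.Away (algebraMap B (BaseChange p A B) x)
      (BaseChange p A (Localization.Away x)) := isLocalization_map p A B x (Localization.Away x)
  letI algR₁B₁ : Algebra (BaseChange p A (Localization.Away x)) (Localization.Away x) :=
    (relFrob p A (Localization.Away x)).toAlgebra
  have hnat := RelFrobSmooth.relFrob_natural p A B (Localization.Away x)
    (IsScalarTower.toAlgHom A B (Localization.Away x))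
  haveI tower : @IsScalarTower (BaseChange p A B) (BaseChange p A (Localization.Away x))
      (Localization.Away x) Algebra.toSMul Algebra.toSMul Algebra.toSMul :=
    IsScalarTower.of_algebraMap_eq (fun z => by
      have := RingHom.congr_fun hnat z
      rw [IsScalarTower.algebraMap_apply (BaseChange p A B) B (Localization.Away x)]
      exact this.symm)
  -- `B → B_x` is a localised module over the twist
  let S : Submonoid (BaseChange p A B) := Submonoid.powers (algebraMap B (BaseChange p A B) x)
  haveI hlocB : IsLocalization (Algebra.algebraMapSubmonoid B S) (Localization.Away x) := by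
    refine (IsLocalization.iff_of_le_of_exists_dvd _ (Submonoid.powers x) ?_ ?_).mpr inferInstance
    · rintro _ ⟨_, ⟨k, rfl⟩, rfl⟩
      refine ⟨k * p, ?_⟩
      change _ = relFrob p A B ((x ⊗ₜ 1) ^ k)
      rw [map_pow, relFrob_tmul, map_one, map_one, mul_one, ← pow_mul, mul_comm]
    · rintro _ ⟨k, rfl⟩
      refine ⟨relFrob p A B ((x ⊗ₜ 1) ^ k), ⟨_, ⟨k, rfl⟩, rfl⟩, ?_⟩
      rw [map_pow, relFrob_tmul, map_one, map_one, mul_one, ← pow_mul, mul_comm, pow_mul]
      exact dvd_pow_self _ hp.ne_zero
  have hbc : IsBaseChange (BaseChange p A (Localization.Away x))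
      (IsScalarTower.toAlgHom (BaseChange p A B) B (Localization.Away x)).toLinearMap :=
    IsLocalizedModule.isBaseChange S _ _
  -- `q` comes from a prime of the localised twist
  obtain ⟨q₁, rfl⟩ : q ∈ Set.range (PrimeSpectrum.comap
      (algebraMap (BaseChange p A B) (BaseChange p A (Localization.Away x)))) := by
    rw [PrimeSpectrum.localization_away_comap_range _ (algebraMap B (BaseChange p A B) x)]
    exact hxq
  rw [← Module.rankAtStalk_isBaseChange hbc q₁]
  -- now use the basis
  obtain ⟨ι, σ, hσ, hι, ⟨P⟩⟩ := Algebra.IsStandardSmooth.out (R := A) (S := Localization.Away x)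
  haveI : Algebra.IsStandardSmoothOfRelativeDimension P.dimension A (Localization.Away x) :=
    ⟨_, _, _, hι, P, rfl⟩
  have hn : P.dimension = r := relDim_eq A B x P.dimension r hr
  obtain ⟨b⟩ := exists_basis_of_isStandardSmoothOfRelativeDimension p A (Localization.Away x)
    P.dimension
  haveI : Module.Free (BaseChange p A (Localization.Away x)) (Localization.Away x) :=
    Module.Free.of_basis b
  haveI : Nontrivial (BaseChange p A (Localization.Away x)) :=
    PrimeSpectrum.nonempty_iff_nontrivial.mp ⟨q₁⟩
  rw [Module.rankAtStalk_eq_finrank_of_free]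
  change Module.finrank (BaseChange p A (Localization.Away x)) (Localization.Away x) = p ^ r
  rw [Module.finrank_eq_card_basis b, hn]
  simp

end Groth.Agent.Lib.Seat88.RelFrobRank
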