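import Mathlib
import Groth.Prelude.Def_FrobAlg
import Groth.Agent.Lib.Seat88RelFrobPoly
import Groth.Agent.Lib.Seat88RelFrobRank
import Groth.Agent.Lib.Seat88CartierLocal

/-!
# A smooth algebra over a perfect ring of characteristic `p` is Frobenius split

* `exists_linear_eq_one`: an element of a projective module which lies in no `m • ⊤` (`m` maximal) is
  sent to `1` by some linear functional.
* `exists_frobenius_splitting`: for `B` smooth over a perfect ring `k` of characteristic `p` there is an
  additive `φ : B → B` with `φ (a ^ p * b) = a * φ b` and `φ 1 = 1`.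
-/

set_option autoImplicit false
set_option linter.unusedSectionVars false
set_option linter.style.haveILetI false
universe u v

namespace Groth.Agent.Lib.Seat88.FrobSplit

open TensorProduct FrobAlg
open Groth.Agent.Lib.Seat88

theorem exists_linear_eq_one {R : Type u} [CommRing R] {P : Type v} [AddCommGroup P] [Module R P]
    [Module.Projective R P] (x : P)
    (hx : ∀ m : Ideal R, m.IsMaximal → x ∉ (m • ⊤ : Submodule R P)) :
    ∃ ψ : P →ₗ[R] R, ψ x = 1 := by
  obtain ⟨s, hs⟩ := Module.projective_def'.1 (inferInstance : Module.Projective R P)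
  let O : Ideal R := LinearMap.range (LinearMap.applyₗ (R := R) (M := P) (M₂ := R) x)
  by_cases hO : O = ⊤
  · have h1 : (1 : R) ∈ O := hO ▸ Submodule.mem_top
    obtain ⟨ψ, hψ⟩ := h1
    exact ⟨ψ, hψ⟩
  · exfalso
    obtain ⟨m, hm, hOm⟩ := Ideal.exists_le_maximal O hO
    apply hx m hm
    have h2 : x = Finsupp.linearCombination R id (s x) := (LinearMap.congr_fun hs x).symm
    rw [h2, Finsupp.linearCombination_apply]
    refine Submodule.sum_mem _ fun q _ => ?_
    refine Submodule.smul_mem_smul (hOm ?_) Submodule.mem_top
    exact ⟨(Finsupp.lapply q).comp s, rfl⟩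

variable (p : ℕ) [Fact p.Prime] (k : Type u) [CommRing k] [CharP k p] [PerfectRing k p]
  (B : Type u) [CommRing B] [Algebra k B] [CharP B p]

/-- a smooth algebra over a perfect ring of characteristic `p` is Frobenius split -/
theorem exists_frobenius_splitting [Algebra.Smooth k B] :
    ∃ φ : B →+ B, (∀ a b : B, φ (a ^ p * b) = a * φ b) ∧ φ 1 = 1 := by
  letI algRB : Algebra (BaseChange p k B) B := (relFrob p k B).toAlgebra
  haveI : Module.Projective (BaseChange p k B) B := RelFrobRank.projective_relFrob p k B
  let incl : B →+* BaseChange p k B := Algebra.TensorProduct.includeLeftRingHom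
  have hincl : ∀ b, incl b = b ⊗ₜ[k] (1 : Twist p k) := fun b => rfl
  have hbij : Function.Bijective incl := CartierLocal.tmul_one_bijective p k B
  let E : B ≃+* BaseChange p k B := RingEquiv.ofBijective incl hbij
  have hE : ∀ b, E b = b ⊗ₜ[k] (1 : Twist p k) := fun b => rfl
  have hsmul : ∀ (r : BaseChange p k B) (b : B), r • b = relFrob p k B r * b := fun r b => rfl
  have hmem : ∀ (m : Ideal (BaseChange p k B)) (y : B),
      y ∈ (m • ⊤ : Submodule (BaseChange p k B) B) → E y ∈ m := by
    intro m y hy
    refine Submodule.smul_induction_on hy ?_ ?_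
    · intro r hr b _
      rw [hsmul, map_mul]
      have : E (relFrob p k B r) = r ^ p := by
        rw [hE, ← RelFrobPoly.pow_eq_relFrob_tmul]
      rw [this]
      exact m.mul_mem_right _ (m.pow_mem_of_mem hr p (Fact.out : p.Prime).pos)
    · intro y z hy hz
      rw [map_add]
      exact m.add_mem hy hz
  obtain ⟨ψ, hψ⟩ := exists_linear_eq_one (R := BaseChange p k B) (P := B) (1 : B) (by
    intro m hm h1
    have := hmem m 1 h1
    rw [map_one] at this
    exact hm.ne_top ((Ideal.eq_top_iff_one m).2 this))
  refine ⟨(E.symm : BaseChange p k B →+* B).toAddMonoidHom.comp ψ.toAddMonoidHom, ?_, ?_⟩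
  · intro a b
    change E.symm (ψ (a ^ p * b)) = a * E.symm (ψ b)
    have h1 : a ^ p * b = (E a) • b := by
      rw [hsmul, hE, CartierLocal.relFrob_tmul_one]
    rw [h1, map_smul, smul_eq_mul, map_mul, RingEquiv.symm_apply_apply]
  · change E.symm (ψ 1) = 1
    rw [hψ, map_one]

end Groth.Agent.Lib.Seat88.FrobSplit
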