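import Mathlib.Algebra.MvPolynomial.PDeriv
import Mathlib.RingTheory.MvPolynomial.Basic
import Mathlib.LinearAlgebra.Matrix.Determinant.Basic
import Mathlib.LinearAlgebra.Matrix.Adjugate
import Mathlib.LinearAlgebra.Multilinear.Basis
import Mathlib.LinearAlgebra.Basis.Prod
import Mathlib.Algebra.CharP.Basic

/-!
# The coefficient of `X^(p-1)` in `det (δ_ij X_i^(p-1) + ∂_j g_i)` is `1` in characteristic `p`
-/

set_option autoImplicit false
universe u

namespace Groth.Agent.Lib.Seat88.JacCoeff

open MvPolynomial

variable {R : Type u} [CommRing R] {n : ℕ}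

lemma X_mul_pderiv_monomial (i : Fin n) (d : Fin n →₀ ℕ) :
    X i * pderiv i (monomial d (1 : R)) = monomial d 1 * C ((d i : ℕ) : R) := by
  rw [pderiv_monomial, one_mul]
  by_cases h : d i = 0
  · simp [h]
  · have hd : Finsupp.single i 1 + (d - Finsupp.single i 1) = d := by
      ext j
      by_cases hj : j = i
      · subst hj
        simp only [Finsupp.coe_add, Finsupp.coe_tsub, Pi.add_apply, Pi.sub_apply,
          Finsupp.single_eq_same]
        omega
      · simp [Ne.symm hj]
    rw [X, monomial_mul, hd, one_mul, mul_comm, C_mul_monomial, mul_one]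

lemma det_eq_zero_of_vecMul_eq_zero (A : Matrix (Fin n) (Fin n) R) (w : Fin n → R) (i₀ : Fin n)
    (hw : w i₀ = 1) (h : Matrix.vecMul w A = 0) : A.det = 0 := by
  have h2 := Matrix.vecMul_vecMul w A A.adjugate
  rw [h, Matrix.zero_vecMul, Matrix.mul_adjugate, Matrix.vecMul_smul, Matrix.vecMul_one] at h2
  have h3 := congrFun h2 i₀
  simpa [hw] using h3.symm

/-- the parameter space of a row: a polynomial and a scalar -/
abbrev W (R : Type u) [CommRing R] (n : ℕ) := MvPolynomial (Fin n) R × R

/-- The row attached to `(g, c)` in position `i`: the Euler gradient of `g` plus `c X_i^p e_i`. -/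
noncomputable def L (p : ℕ) (i : Fin n) : W R n →ₗ[R] (Fin n → MvPolynomial (Fin n) R) :=
  LinearMap.coprod
    (LinearMap.pi fun j => (LinearMap.mulLeft R (X j)).comp (pderiv j).toLinearMap)
    (LinearMap.toSpanSingleton R _ (Pi.single i (X i ^ p)))

lemma L_apply (p : ℕ) (i j : Fin n) (g : MvPolynomial (Fin n) R) (c : R) :
    L p i (g, c) j = X j * pderiv j g + c • (if j = i then X i ^ p else 0) := by
  simp only [L, LinearMap.coprod_apply, LinearMap.pi_apply, LinearMap.comp_apply,
    LinearMap.mulLeft_apply, Derivation.coeFn_coe, LinearMap.toSpanSingleton_apply, Pi.add_apply,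
    Pi.smul_apply, Pi.single_apply]

/-- coefficient of the determinant, as a multilinear map of the rows' parameters -/
noncomputable def Psi (p : ℕ) (μ : Fin n →₀ ℕ) : MultilinearMap R (fun _ : Fin n => W R n) R :=
  (lcoeff R μ).compMultilinearMap
    (((Matrix.detRowAlternating (R := MvPolynomial (Fin n) R)
      (n := Fin n)).toMultilinearMap.restrictScalars R).compLinearMap (fun i => L p i))

lemma Psi_apply (p : ℕ) (μ : Fin n →₀ ℕ) (w : Fin n → W R n) :
    Psi p μ w = coeff μ (Matrix.of fun i j : Fin n => L p i (w i) j).det := rfl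

/-- product of the scalar parameters -/
noncomputable def Psi0 : MultilinearMap R (fun _ : Fin n => W R n) R :=
  (MultilinearMap.mkPiAlgebra R (Fin n) R).compLinearMap (fun _ => LinearMap.snd R _ R)

lemma Psi0_apply (w : Fin n → W R n) : Psi0 w = ∏ i, (w i).2 := by
  simp [Psi0]

/-- the basis of the parameter space -/
noncomputable def bW (R : Type u) [CommRing R] (n : ℕ) :
    Module.Basis ((Fin n →₀ ℕ) ⊕ Unit) R (W R n) :=
  (basisMonomials (Fin n) R).prod (Module.Basis.singleton Unit R)

lemma bW_inl (m : Fin n →₀ ℕ) : bW R n (Sum.inl m) = (monomial m 1, 0) := by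
  simp [bW, Module.Basis.prod_apply]

lemma bW_inr (u : Unit) : bW R n (Sum.inr u) = (0, 1) := by
  simp [bW, Module.Basis.prod_apply]

/-- exponent attached to a basis index in position `i` -/
noncomputable def expo (p : ℕ) (i : Fin n) : (Fin n →₀ ℕ) ⊕ Unit → (Fin n →₀ ℕ)
  | Sum.inl m => m
  | Sum.inr _ => Finsupp.single i p

/-- constant row attached to a basis index in position `i` -/
noncomputable def crow (i : Fin n) : (Fin n →₀ ℕ) ⊕ Unit → Fin n → R
  | Sum.inl m => fun j => ((m j : ℕ) : R)
  | Sum.inr _ => fun j => if j = i then 1 else 0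

lemma L_bW (p : ℕ) (i j : Fin n) (x : (Fin n →₀ ℕ) ⊕ Unit) :
    L p i (bW R n x) j = monomial (expo p i x) 1 * C (crow (R := R) i x j) := by
  rcases x with m | u
  · rw [bW_inl, L_apply, X_mul_pderiv_monomial]
    simp [expo, crow]
  · rw [bW_inr, L_apply]
    by_cases h : j = i
    · subst h
      simp [expo, crow, X_pow_eq_monomial]
    · simp [expo, crow, h]

theorem Psi_eq_Psi0 (p : ℕ) (hp : ((p : ℕ) : R) = 0) :
    Psi (R := R) p (Finsupp.equivFunOnFinite.symm fun _ : Fin n => p) = Psi0 := by
  classical
  apply Module.Basis.ext_multilinear (fun _ => bW R n)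
  intro v
  rw [Psi_apply, Psi0_apply]
  have hmat : (Matrix.of fun i j : Fin n => L p i (bW R n (v i)) j) =
      Matrix.of fun i j : Fin n => monomial (expo p i (v i)) (1 : R) *
        (C.mapMatrix (Matrix.of fun i j : Fin n => crow (R := R) i (v i) j)) i j := by
    ext i j
    simp only [Matrix.of_apply, L_bW, RingHom.mapMatrix_apply, Matrix.map_apply]
  rw [hmat, Matrix.det_mul_column, ← RingHom.map_det, ← monomial_sum_one, mul_comm, C_mul_monomial,
    mul_one, coeff_monomial]
  by_cases hall : ∀ i, ∃ u, v i = Sum.inr u
  · -- all rows are of the second kind: the identity matrix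
    have hv : ∀ i, v i = Sum.inr () := fun i => by obtain ⟨u, hu⟩ := hall i; rw [hu]
    have h1 : (Matrix.of fun i j : Fin n => crow (R := R) i (v i) j) = 1 := by
      ext i j
      simp only [Matrix.of_apply, hv i, crow, Matrix.one_apply]
      by_cases h : i = j
      · subst h; simp
      · simp [h, Ne.symm h]
    have h2 : ∑ i, expo p i (v i) = Finsupp.equivFunOnFinite.symm fun _ : Fin n => p := by
      ext j
      simp only [Finsupp.finsetSum_apply, hv, expo, Finsupp.coe_equivFunOnFinite_symm]
      rw [Finset.sum_eq_single j]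
      · simp
      · intro i _ hi; simp [Finsupp.single_apply, hi]
      · intro h; exact absurd (Finset.mem_univ j) h
    rw [h1, Matrix.det_one, if_pos h2]
    have : ∀ i, (bW R n (v i)).2 = 1 := fun i => by rw [hv i, bW_inr]
    simp [this]
  · -- some row is of the first kind
    push Not at hall
    obtain ⟨i₀, hi₀⟩ := hall
    obtain ⟨m₀, hm₀⟩ : ∃ m, v i₀ = Sum.inl m := by
      rcases h : v i₀ with m | u
      · exact ⟨m, rfl⟩
      · exact absurd h (hi₀ u)
    have hrhs : ∏ i, (bW R n (v i)).2 = 0 := by
      apply Finset.prod_eq_zero (Finset.mem_univ i₀)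
      rw [hm₀, bW_inl]
    rw [hrhs]
    split_ifs with hs
    · -- the weight vector: indicator of the rows of the first kind
      let w : Fin n → R := fun i => if (v i).isLeft then 1 else 0
      apply det_eq_zero_of_vecMul_eq_zero _ w i₀ (by simp [w, hm₀])
      funext j
      simp only [Matrix.vecMul, dotProduct, Matrix.of_apply, Pi.zero_apply]
      -- the sum over the rows of the first kind of the exponents of `X_j`
      have hsum : ∀ i, w i * crow (R := R) i (v i) j =
          (((if (v i).isLeft then expo p i (v i) j else 0 : ℕ)) : R) := by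
        intro i
        rcases h : v i with m | u
        · simp [w, h, crow, expo]
        · simp [w, h]
      rw [Finset.sum_congr rfl (fun i _ => hsum i), ← Nat.cast_sum]
      -- compare with the total exponent
      have htot := DFunLike.congr_fun hs j
      simp only [Finsupp.finsetSum_apply, Finsupp.coe_equivFunOnFinite_symm] at htot
      have hsplit : ∑ i, expo p i (v i) j =
          (∑ i, (if (v i).isLeft then expo p i (v i) j else 0)) +
            ∑ i, (if (v i).isLeft then 0 else expo p i (v i) j) := by
        rw [← Finset.sum_add_distrib]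
        refine Finset.sum_congr rfl fun i _ => ?_
        split_ifs <;> simp
      have hsecond : (∑ i, (if (v i).isLeft then 0 else expo p i (v i) j)) =
          if (v j).isLeft then 0 else p := by
        rw [Finset.sum_eq_single j]
        · rcases h : v j with m | u
          · simp
          · simp [expo]
        · intro i _ hi
          rcases h : v i with m | u
          · simp
          · simp [expo, Finsupp.single_apply, hi]
        · intro h; exact absurd (Finset.mem_univ j) h
      rw [hsplit, hsecond] at htot
      by_cases hj : (v j).isLeft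
      · rw [if_pos hj, add_zero] at htot
        rw [htot]; exact hp
      · rw [if_neg hj] at htot
        have : (∑ i, (if (v i).isLeft then expo p i (v i) j else 0)) = 0 := by omega
        rw [this]; simp
    · rfl

/-- The Euler-twisted statement. -/
theorem coeff_det_euler (p : ℕ) (hp : ((p : ℕ) : R) = 0) (g : Fin n → MvPolynomial (Fin n) R) :
    coeff (Finsupp.equivFunOnFinite.symm fun _ : Fin n => p)
      (Matrix.of fun i j : Fin n =>
        X j * pderiv j (g i) + (if j = i then X i ^ p else 0)).det = 1 := by
  have h := congrArg (fun Φ => Φ (fun i => (g i, (1 : R)))) (Psi_eq_Psi0 (R := R) (n := n) p hp)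
  simp only [Psi_apply, Psi0_apply, Finset.prod_const_one] at h
  rw [← h]
  congr 2
  ext i j
  simp only [Matrix.of_apply, L_apply, one_smul]

/-- The coefficient of `X^(p-1)` in `det (δ_ij X_i^(p-1) + ∂_j g_i)` is `1`. -/
theorem coeff_det_frob (p : ℕ) (hp1 : 1 ≤ p) (hp : ((p : ℕ) : R) = 0)
    (g : Fin n → MvPolynomial (Fin n) R) :
    coeff (Finsupp.equivFunOnFinite.symm fun _ : Fin n => p - 1)
      (Matrix.of fun i j : Fin n =>
        (if i = j then X i ^ (p - 1) else 0) + pderiv j (g i)).det = 1 := by
  classical
  set μ : Fin n →₀ ℕ := Finsupp.equivFunOnFinite.symm fun _ : Fin n => p - 1 with hμ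
  let ν : Fin n →₀ ℕ := ∑ j : Fin n, Finsupp.single j 1
  have hν : ∀ j, ν j = 1 := by
    intro j
    simp only [ν, Finsupp.finsetSum_apply]
    rw [Finset.sum_eq_single j]
    · exact Finsupp.single_eq_same
    · intro i _ hi; simp [Finsupp.single_apply, hi]
    · intro h; exact absurd (Finset.mem_univ j) h
  have hνμ : ν + μ = Finsupp.equivFunOnFinite.symm fun _ : Fin n => p := by
    ext j
    simp only [Finsupp.add_apply, hν, hμ, Finsupp.coe_equivFunOnFinite_symm]
    omega
  have h1 : coeff μ (Matrix.of fun i j : Fin n =>
        (if i = j then X i ^ (p - 1) else 0) + pderiv j (g i)).det =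
      coeff (ν + μ) (monomial ν (1 : R) * (Matrix.of fun i j : Fin n =>
        (if i = j then X i ^ (p - 1) else 0) + pderiv j (g i)).det) := by
    rw [coeff_monomial_mul, one_mul]
  have h2 : monomial ν (1 : R) * (Matrix.of fun i j : Fin n =>
        ((if i = j then X i ^ (p - 1) else 0) + pderiv j (g i) : MvPolynomial (Fin n) R)).det =
      (Matrix.of fun i j : Fin n =>
        X j * pderiv j (g i) + (if j = i then X i ^ p else 0)).det := by
    rw [monomial_sum_one, ← Matrix.det_mul_row]
    congr 1
    ext i j
    simp only [Matrix.of_apply]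
    by_cases h : i = j
    · subst h
      rw [if_pos rfl, if_pos rfl, mul_add, add_comm]
      congr 1
      rw [← X, ← pow_succ', Nat.sub_add_cancel hp1]
    · rw [if_neg h, if_neg (Ne.symm h), zero_add, add_zero, ← X]
  rw [h1, h2, hνμ]
  exact coeff_det_euler p hp g

end Groth.Agent.Lib.Seat88.JacCoeff
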