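import Mathlib

/-!
# Descent of the Jacobson property along faithfully flat, finitely presented, quasi-finite maps

`isJacobsonRing_of_quasiFinite`: if `A → T` is faithfully flat, of finite presentation and
quasi-finite, and `T` is a Jacobson ring, then so is `A`.
-/

set_option autoImplicit false
set_option linter.style.haveILetI false
universe u

open PrimeSpectrum TensorProduct

namespace Groth.Agent.Lib.Seat88.JacobsonDesc

section Core

variable {D T : Type*} [CommRing D] [IsDomain D] [CommRing T] [Algebra D T]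
  [Module.FaithfullyFlat D T] [Algebra.FinitePresentation D T] [Algebra.QuasiFinite D T]
  [IsJacobsonRing T]

/-- A domain with a faithfully flat, f.p., quasi-finite Jacobson algebra having a maximal ideal
over `0` is a field. -/
theorem isField_of_maximal_over_bot (q : Ideal T) [q.IsMaximal] (hq : q.under D = ⊥) :
    IsField D := by
  classical
  let ξ : PrimeSpectrum D := ⟨⊥, Ideal.isPrime_bot⟩
  let F : Set (PrimeSpectrum T) := comap (algebraMap D T) ⁻¹' {ξ}
  have hFfin : F.Finite := Algebra.QuasiFinite.finite_comap_preimage_singleton ξ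
  have hFmem : ∀ x : PrimeSpectrum T, x ∈ F ↔ x.asIdeal.under D = ⊥ := by
    intro x
    constructor
    · intro hx
      exact congrArg PrimeSpectrum.asIdeal (hx : comap (algebraMap D T) x = ξ)
    · intro hx
      exact PrimeSpectrum.ext hx
  -- going down
  have hgd : ∀ y : PrimeSpectrum T, ∃ x ∈ F, x ≤ y := by
    intro y
    haveI : y.asIdeal.LiesOver (y.asIdeal.under D) := ⟨rfl⟩
    haveI : (⊥ : Ideal D).IsPrime := Ideal.isPrime_bot
    obtain ⟨P, hPle, hP, hPo⟩ := Ideal.exists_ideal_le_liesOver_of_le (p := (⊥ : Ideal D))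
      (q := y.asIdeal.under D) y.asIdeal bot_le
    exact ⟨⟨P, hP⟩, (hFmem _).mpr hPo.over.symm, hPle⟩
  -- incomparability
  have hinc : ∀ x ∈ F, ∀ y ∈ F, x ≤ y → x = y := by
    intro x hx y hy hle
    have h1 : x.asIdeal.under D = y.asIdeal.under D :=
      ((hFmem x).mp hx).trans ((hFmem y).mp hy).symm
    exact PrimeSpectrum.ext
      (Algebra.QuasiFinite.eq_of_le_of_under_eq (R := D) x.asIdeal y.asIdeal hle h1)
  let Q : PrimeSpectrum T := ⟨q, inferInstance⟩
  have hQF : Q ∈ F := (hFmem Q).mpr hq
  -- `{Q}` is open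
  have hQopen : IsOpen ({Q} : Set (PrimeSpectrum T)) := by
    have hcompl : ({Q} : Set (PrimeSpectrum T))ᶜ = ⋃ x ∈ F \ {Q}, closure {x} := by
      ext y
      simp only [Set.mem_compl_iff, Set.mem_singleton_iff, Set.mem_iUnion, exists_prop]
      constructor
      · intro hy
        obtain ⟨x, hx, hxy⟩ := hgd y
        refine ⟨x, ⟨hx, ?_⟩, ?_⟩
        · rintro (rfl : x = Q)
          apply hy
          exact (PrimeSpectrum.ext (Ideal.IsMaximal.eq_of_le inferInstance y.2.ne_top hxy)).symm
        · rw [← specializes_iff_mem_closure, ← PrimeSpectrum.le_iff_specializes]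
          exact hxy
      · rintro ⟨x, ⟨hx, hxQ⟩, hyx⟩ hyQ
        rw [hyQ, ← specializes_iff_mem_closure, ← PrimeSpectrum.le_iff_specializes] at hyx
        exact hxQ (hinc x hx Q hQF hyx)
    rw [← isClosed_compl_iff, hcompl]
    exact (hFfin.subset Set.sdiff_subset).isClosed_biUnion (fun _ _ => isClosed_closure)
  -- `{ξ}` is open
  have hopenmap : IsOpenMap (comap (algebraMap D T)) :=
    isOpenMap_comap_of_hasGoingDown_of_finitePresentation
  have hξopen : IsOpen ({ξ} : Set (PrimeSpectrum D)) := by
    have h1 := hopenmap _ hQopen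
    rw [Set.image_singleton] at h1
    have h2 : comap (algebraMap D T) Q = ξ := hQF
    rwa [h2] at h1
  obtain ⟨_, ⟨g, rfl⟩, hgξ, hgsub⟩ :=
    isTopologicalBasis_basic_opens.exists_subset_of_mem_open (Set.mem_singleton ξ) hξopen
  -- every point of `F` is maximal
  have hmax : ∀ x ∈ F, x.asIdeal.IsMaximal := by
    intro x hx
    have hgx : algebraMap D T g ∉ x.asIdeal := by
      intro hmem
      have h1 : g ∈ x.asIdeal.under D := hmem
      rw [(hFmem x).mp hx] at h1
      exact hgξ h1
    have hj : x.asIdeal.jacobson = x.asIdeal := IsJacobsonRing.out inferInstance x.2.isRadical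
    have hex : ∃ n : Ideal T, n.IsMaximal ∧ x.asIdeal ≤ n ∧ algebraMap D T g ∉ n := by
      by_contra hcon
      push Not at hcon
      apply hgx
      rw [← hj, Ideal.jacobson, Ideal.mem_sInf]
      rintro n ⟨hle, hn⟩
      exact hcon n hn hle
    obtain ⟨n, hn, hxn, hgn⟩ := hex
    have hnF : (⟨n, hn.isPrime⟩ : PrimeSpectrum T) ∈ F := by
      have h1 : comap (algebraMap D T) ⟨n, hn.isPrime⟩ ∈
          ((basicOpen g : TopologicalSpace.Opens _) : Set (PrimeSpectrum D)) := hgn
      exact hgsub h1
    have h2 := hinc x hx _ hnF hxn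
    rw [h2]
    exact hn
  -- every prime of `D` is `⊥`
  have hall : ∀ p : PrimeSpectrum D, p = ξ := by
    intro p
    obtain ⟨y, rfl⟩ := PrimeSpectrum.comap_surjective_of_faithfullyFlat (A := D) (B := T) p
    obtain ⟨x, hx, hxy⟩ := hgd y
    have hxm := hmax x hx
    have : x = y := PrimeSpectrum.ext (Ideal.IsMaximal.eq_of_le hxm y.2.ne_top hxy)
    rw [← this]
    exact hx
  obtain ⟨m, hm⟩ := Ideal.exists_maximal D
  have hm0 : m = ⊥ := congrArg PrimeSpectrum.asIdeal (hall ⟨m, hm.isPrime⟩)
  rw [hm0] at hm
  exact Ring.isField_iff_maximal_bot.mpr hm  -- name to check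

end Core

section Main

variable {A T : Type u} [CommRing A] [CommRing T] [Algebra A T]
  [Module.FaithfullyFlat A T] [Algebra.FinitePresentation A T] [Algebra.QuasiFinite A T]
  [IsJacobsonRing T]

/-- maximal ideals contract to maximal ideals -/
theorem isMaximal_under (q : Ideal T) [q.IsMaximal] : (q.under A).IsMaximal := by
  let p : Ideal A := q.under A
  haveI hp : p.IsPrime := inferInstance
  haveI : q.LiesOver p := ⟨rfl⟩
  let D := A ⧸ p
  let T' := D ⊗[A] T
  let f : D →ₐ[A] (T ⧸ q) := IsScalarTower.toAlgHom A D (T ⧸ q)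
  let g : T →ₐ[A] (T ⧸ q) := Ideal.Quotient.mkₐ A q
  let φ : T' →ₐ[A] (T ⧸ q) := Algebra.TensorProduct.productMap f g
  have hφ : Function.Surjective φ := by
    intro y
    obtain ⟨t, rfl⟩ := Ideal.Quotient.mk_surjective y
    exact ⟨1 ⊗ₜ t, Algebra.TensorProduct.productMap_right_apply f g t⟩
  letI : Field (T ⧸ q) := Ideal.Quotient.field q
  let q' : Ideal T' := RingHom.ker φ.toRingHom
  haveI hq' : q'.IsMaximal := RingHom.ker_isMaximal_of_surjective φ.toRingHom hφ
  have hq'D : q'.under D = ⊥ := by
    rw [eq_bot_iff]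
    intro d hd
    have h1 : φ (algebraMap D T' d) = 0 := hd
    have h2 : φ (algebraMap D T' d) = f d := by
      rw [Algebra.TensorProduct.algebraMap_apply]
      exact Algebra.TensorProduct.productMap_left_apply f g d
    rw [h2] at h1
    have hinj : Function.Injective (algebraMap D (T ⧸ q)) :=
      FaithfulSMul.algebraMap_injective _ _
    exact hinj (h1.trans (map_zero _).symm)
  haveI : IsJacobsonRing T' := isJacobsonRing_of_surjective
    ⟨(Algebra.TensorProduct.includeRight : T →ₐ[A] T').toRingHom,
      Algebra.TensorProduct.includeRight_surjective T Ideal.Quotient.mk_surjective⟩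
  have hfield : IsField D := isField_of_maximal_over_bot (D := D) (T := T') q' hq'D
  exact Ideal.Quotient.maximal_of_isField p hfield

/-- **Descent of the Jacobson property** along a faithfully flat, finitely presented,
quasi-finite ring map. -/
theorem isJacobsonRing_of_quasiFinite (A T : Type u) [CommRing A] [CommRing T] [Algebra A T]
    [Module.FaithfullyFlat A T] [Algebra.FinitePresentation A T] [Algebra.QuasiFinite A T]
    [IsJacobsonRing T] : IsJacobsonRing A := by
  rw [isJacobsonRing_iff_prime_eq]
  intro P hP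
  refine le_antisymm ?_ Ideal.le_jacobson
  intro a ha
  by_contra haP
  obtain ⟨x, hx⟩ := PrimeSpectrum.comap_surjective_of_faithfullyFlat (A := A) (B := T) ⟨P, hP⟩
  have hxP : x.asIdeal.under A = P := congrArg PrimeSpectrum.asIdeal hx
  have hax : algebraMap A T a ∉ x.asIdeal := by
    intro hmem
    have h1 : a ∈ x.asIdeal.under A := hmem
    rw [hxP] at h1
    exact haP h1
  have hj : x.asIdeal.jacobson = x.asIdeal := IsJacobsonRing.out inferInstance x.2.isRadical
  have hex : ∃ n : Ideal T, n.IsMaximal ∧ x.asIdeal ≤ n ∧ algebraMap A T a ∉ n := by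
    by_contra hcon
    push Not at hcon
    apply hax
    rw [← hj, Ideal.jacobson, Ideal.mem_sInf]
    rintro n ⟨hle, hn⟩
    exact hcon n hn hle
  obtain ⟨n, hn, hxn, han⟩ := hex
  haveI := hn
  have hm : (n.under A).IsMaximal := isMaximal_under n
  have hPm : P ≤ n.under A := by
    rw [← hxP]
    exact Ideal.comap_mono hxn
  have : a ∈ n.under A := by
    rw [Ideal.jacobson, Ideal.mem_sInf] at ha
    exact ha ⟨hPm, hm⟩
  exact han this

end Main

end Groth.Agent.Lib.Seat88.JacobsonDesc
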