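import Mathlib
import Groth.Agent.Lib.Seat6FppfQF
import Groth.Agent.Lib.Seat88JacobsonDesc

/-!
# fppf ring maps are refined by quasi-finite ones; Jacobson descends along fppf ring maps
-/

set_option autoImplicit false
set_option linter.style.haveILetI false
universe u
open CategoryTheory CategoryTheory.Limits AlgebraicGeometry

namespace Groth.Agent.Lib.Seat88.JacobsonDescSch

/-- a morphism from an affine scheme to `Spec R` in terms of global sections -/
lemma eq_isoSpec_hom_comp {Y : Scheme.{u}} [IsAffine Y] {R : CommRingCat.{u}} (f : Y ⟶ Spec R) :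
    f = Y.isoSpec.hom ≫ Spec.map ((Scheme.ΓSpecIso R).inv ≫ f.appTop) := by
  rw [Spec.map_comp, Scheme.isoSpec_hom_naturality_assoc, Scheme.isoSpec_Spec_hom, ← Spec.map_comp,
    Iso.inv_hom_id, Spec.map_id, Category.comp_id]

/-- Ring form of the refinement of fppf covers by quasi-finite ones: a faithfully flat finitely
presented `A`-algebra `B` admits a finite type `B`-algebra `T` which is faithfully flat, finitely
presented and quasi-finite over `A`. -/
theorem exists_quasiFinite_refinement (A B : Type u) [CommRing A] [CommRing B] [Algebra A B]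
    [Module.FaithfullyFlat A B] [Algebra.FinitePresentation A B] :
    ∃ (T : Type u) (_ : CommRing T) (_ : Algebra A T) (_ : Algebra B T)
      (_ : IsScalarTower A B T), Module.FaithfullyFlat A T ∧ Algebra.FinitePresentation A T ∧
        Algebra.QuasiFinite A T ∧ Algebra.FiniteType B T := by
  let φ : CommRingCat.of A ⟶ CommRingCat.of B := CommRingCat.ofHom (algebraMap A B)
  let f : Spec (CommRingCat.of B) ⟶ Spec (CommRingCat.of A) := Spec.map φ
  haveI hfp : LocallyOfFinitePresentation f :=
    (HasRingHomProperty.Spec_iff (P := @LocallyOfFinitePresentation)).mpr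
      (RingHom.finitePresentation_algebraMap.mpr inferInstance)
  haveI hfl : Flat f :=
    (HasRingHomProperty.Spec_iff (P := @Flat)).mpr (RingHom.flat_algebraMap_iff.mpr inferInstance)
  have hsurj : Function.Surjective f :=
    PrimeSpectrum.comap_surjective_of_faithfullyFlat (A := A) (B := B)
  obtain ⟨Z, hZ, g, hgfl, hgfp, hgqf, hgsurj⟩ :=
    Groth.Agent.Lib.Seat6.FppfQF.exists_affine_flat_lqf_surjective f hsurj
  let σ : CommRingCat.of B ⟶ Γ(Z, ⊤) := (Scheme.ΓSpecIso (CommRingCat.of B)).inv ≫ g.appTop
  have hg : g = Z.isoSpec.hom ≫ Spec.map σ := eq_isoSpec_hom_comp g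
  have hgf : g ≫ f = Z.isoSpec.hom ≫ Spec.map (φ ≫ σ) := by
    rw [Spec.map_comp, ← Category.assoc, ← hg]
  -- properties of `Spec.map (φ ≫ σ)`
  have h1 : Flat (Spec.map (φ ≫ σ)) := by
    rw [← MorphismProperty.cancel_left_of_respectsIso @Flat Z.isoSpec.hom, ← hgf]
    exact hgfl
  have h2 : LocallyOfFinitePresentation (Spec.map (φ ≫ σ)) := by
    rw [← MorphismProperty.cancel_left_of_respectsIso @LocallyOfFinitePresentation Z.isoSpec.hom,
      ← hgf]
    exact hgfp
  have h3 : LocallyQuasiFinite (Spec.map (φ ≫ σ)) := by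
    rw [← MorphismProperty.cancel_left_of_respectsIso @LocallyQuasiFinite Z.isoSpec.hom, ← hgf]
    exact hgqf
  have h4 : LocallyOfFiniteType (Spec.map σ) := by
    haveI : LocallyOfFiniteType (g ≫ f) := inferInstance
    haveI : LocallyOfFiniteType g := locallyOfFiniteType_of_comp g f
    rw [← MorphismProperty.cancel_left_of_respectsIso @LocallyOfFiniteType Z.isoSpec.hom, ← hg]
    infer_instance
  have h5 : Function.Surjective (Spec.map (φ ≫ σ)) := by
    intro y
    obtain ⟨z, hz⟩ := hgsurj y
    refine ⟨Z.isoSpec.hom z, ?_⟩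
    rw [← Scheme.Hom.comp_apply, ← hgf]
    exact hz
  rw [HasRingHomProperty.Spec_iff (P := @Flat)] at h1
  rw [HasRingHomProperty.Spec_iff (P := @LocallyOfFinitePresentation)] at h2
  rw [HasRingHomProperty.Spec_iff (P := @LocallyQuasiFinite)] at h3
  rw [HasRingHomProperty.Spec_iff (P := @LocallyOfFiniteType)] at h4
  letI algBT : Algebra B Γ(Z, ⊤) := σ.hom.toAlgebra
  letI algAT : Algebra A Γ(Z, ⊤) := (φ ≫ σ).hom.toAlgebra
  haveI tower : IsScalarTower A B Γ(Z, ⊤) := IsScalarTower.of_algebraMap_eq' rfl
  haveI : Module.Flat A Γ(Z, ⊤) := h1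
  refine ⟨Γ(Z, ⊤), inferInstance, algAT, algBT, tower, ?_, h2, h3, h4⟩
  exact Module.FaithfullyFlat.of_comap_surjective h5

/-- **The Jacobson property descends along faithfully flat finitely presented ring maps.** -/
theorem isJacobsonRing_of_faithfullyFlat (A B : Type u) [CommRing A] [CommRing B] [Algebra A B]
    [Module.FaithfullyFlat A B] [Algebra.FinitePresentation A B] [IsJacobsonRing B] :
    IsJacobsonRing A := by
  obtain ⟨T, _, _, _, _, hff, hfp, hqf, hft⟩ := exists_quasiFinite_refinement A B
  haveI : IsJacobsonRing T := isJacobsonRing_of_finiteType (A := B) (B := T)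
  exact Groth.Agent.Lib.Seat88.JacobsonDesc.isJacobsonRing_of_quasiFinite A T

end Groth.Agent.Lib.Seat88.JacobsonDescSch
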