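import Groth.Agent.Lib.Helper19LciH1C
import Groth.Agent.Lib.Helper5KoszulBC
import Groth.Agent.Lib.Helper5GorEquidim
import Groth.Agent.Lib.Helper28CMFib1
import Groth.Agent.Lib.Helper28FlatNormal
import Groth.Agent.Lib.Helper5GorRing

/-!
# `H¹` of the naive cotangent complex vanishes for flat lci algebras with generically smooth fibres

* `eq_of_le_of_mem_associatedPrimes`: for `A → P` flat (Noetherian rings) with Cohen–Macaulay
  fibre local rings, an associated prime `q` of `P` is minimal among the primes with the same
  contraction to `A`.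
* `exists_associatedPrime_of_ne_zero`: for an lci algebra over a Noetherian ring, a nonzero element
  of `H¹(NL)` has its annihilator contained in an associated prime of the ring.
* `h1Cotangent_subsingleton`: the main theorem.
-/

set_option autoImplicit false
set_option linter.unusedSectionVars false
set_option linter.style.haveILetI false
universe u

namespace Groth.Agent.Lib.Seat88.LciH1

open Groth.Agent.Lib.Helper19.Kos Groth.Agent.Lib.Helper19.LciH1 Groth.Agent.Lib.Helper28 IsLocalRing

section FibreMinimal

variable {A P : Type u} [CommRing A] [CommRing P] [Algebra A P]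
  [IsNoetherianRing A] [IsNoetherianRing P] [Module.Flat A P]

/-- For a flat map of Noetherian rings with Cohen–Macaulay fibre local ring at `q`, if `q` is an
associated prime of `P` then it is minimal among primes with the same contraction. -/
theorem eq_of_le_of_mem_associatedPrimes (q : Ideal P) [hqp : q.IsPrime]
    (hq : q ∈ associatedPrimes P P)
    (hCM : LocCoh.IsCohenMacaulayLocalRing (EGA4.FibLocRing A P q))
    (Q : Ideal P) [hQp : Q.IsPrime] (hle : Q ≤ q)
    (hcomap : Q.comap (algebraMap A P) = q.comap (algebraMap A P)) : Q = q := by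
  haveI : IsLocalRing (EGA4.FibLocRing A P q) := isLocalRing_fibLocRing (A := A) q
  have hdepth := depth_localization_eq_add_fibLocRing (A := A) q
  -- depth of `P_q` is zero
  have hmax : maximalIdeal (Localization.AtPrime q) ∈
      associatedPrimes (Localization.AtPrime q) (Localization.AtPrime q) := by
    apply Module.associatedPrimes.mem_associatedPrimes_of_comap_mem_associatedPrimes_of_isLocalizedModule
      q.primeCompl (Algebra.linearMap P (Localization.AtPrime q))
    have hcm : Ideal.comap (algebraMap P (Localization.AtPrime q))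
        (maximalIdeal (Localization.AtPrime q)) = q := Localization.AtPrime.under_maximalIdeal
    rw [hcm]
    exact hq
  have hN : IsNoetherianRing (Localization.AtPrime q) :=
    IsLocalization.isNoetherianRing q.primeCompl _ inferInstance
  have h0 : LocCoh.depth (Localization.AtPrime q) (Localization.AtPrime q) = 0 :=
    depth_eq_zero_iff.mpr hmax
  rw [h0] at hdepth
  have h1 : LocCoh.depth (EGA4.FibLocRing A P q) (EGA4.FibLocRing A P q) = 0 := by
    have := hdepth.symm
    exact (add_eq_zero.mp this).2
  -- hence the fibre local ring has dimension zero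
  have hdim : ringKrullDim (EGA4.FibLocRing A P q) = 0 := by
    have := hCM.supportDim_eq_depth
    rw [Module.supportDim_self_eq_ringKrullDim, h1] at this
    exact this
  -- so the maximal ideal of `P_q` is minimal over `p P_q`
  set S := Localization.AtPrime q
  set J : Ideal S := (q.comap (algebraMap A P)).map (algebraMap A S) with hJ
  have hJle : J ≤ maximalIdeal S := by
    rw [hJ, Ideal.map_le_iff_le_comap]
    intro a ha
    rw [Ideal.mem_comap, IsScalarTower.algebraMap_apply A P S,
      ← Localization.AtPrime.map_eq_maximalIdeal]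
    exact Ideal.mem_map_of_mem _ ha
  have hmin : maximalIdeal S ∈ J.minimalPrimes := by
    rw [← height_map_mk_eq_zero_iff J hJle]
    have hmm : (maximalIdeal S).map (Ideal.Quotient.mk J) = maximalIdeal (S ⧸ J) := by
      have hprime : ((maximalIdeal S).map (Ideal.Quotient.mk J)).IsMaximal := by
        apply Ideal.IsMaximal.map_of_surjective_of_ker_le Ideal.Quotient.mk_surjective
        rwa [Ideal.mk_ker]
      exact IsLocalRing.eq_maximalIdeal hprime
    rw [hmm]
    have := IsLocalRing.maximalIdeal_height_eq_ringKrullDim (R := S ⧸ J)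
    rw [hdim] at this
    exact_mod_cast this
  -- the prime `Q P_q`
  have hdisj : Disjoint (q.primeCompl : Set P) (Q : Set P) := by
    rw [Set.disjoint_left]
    intro x hx hxQ
    exact hx (hle hxQ)
  have hQ'prime : (Q.map (algebraMap P S)).IsPrime :=
    IsLocalization.isPrime_of_isPrime_disjoint q.primeCompl S Q hQp hdisj
  have hJQ : J ≤ Q.map (algebraMap P S) := by
    rw [hJ, Ideal.map_le_iff_le_comap]
    intro a ha
    rw [Ideal.mem_comap, IsScalarTower.algebraMap_apply A P S]
    apply Ideal.mem_map_of_mem
    have : a ∈ Q.comap (algebraMap A P) := hcomap ▸ ha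
    exact this
  have hQ'le : Q.map (algebraMap P S) ≤ maximalIdeal S :=
    IsLocalRing.le_maximalIdeal hQ'prime.ne_top
  have hQ'eq : Q.map (algebraMap P S) = maximalIdeal S :=
    le_antisymm hQ'le (hmin.2 ⟨hQ'prime, hJQ⟩ hQ'le)
  have hc1 : (Q.map (algebraMap P S)).comap (algebraMap P S) = Q :=
    IsLocalization.under_map_of_isPrime_disjoint q.primeCompl S hQp hdisj
  rw [← hc1, hQ'eq]
  exact Localization.AtPrime.under_maximalIdeal

end FibreMinimal

section Ass

variable (A P : Type u) [CommRing A] [CommRing P] [Algebra A P] [IsNoetherianRing A]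

/-- For an lci algebra `P` over a Noetherian ring `A`, every nonzero element of `H¹(NL_{P/A})` has
its annihilator contained in an associated prime of `P`. -/
theorem exists_associatedPrime_of_ne_zero (hlci : LCI.IsLCI A P)
    (x : Algebra.H1Cotangent A P) (hx : x ≠ 0) :
    ∃ q : Ideal P, q ∈ associatedPrimes P P ∧ ∀ s : P, s • x = 0 → s ∈ q := by
  obtain ⟨hft, n, f, hf, hK⟩ := hlci
  haveI := hft
  haveI : IsNoetherianRing P := Algebra.FiniteType.isNoetherianRing A P
  have hval : (MvPolynomial.aeval (R := A) (fun i : Fin n => f (MvPolynomial.X i))) = f := by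
    refine MvPolynomial.algHom_ext fun i => ?_
    rw [MvPolynomial.aeval_X]
  let Pg : Algebra.Generators A P (Fin n) :=
    Algebra.Generators.ofSurjective (fun i => f (MvPolynomial.X i)) (by rw [hval]; exact hf)
  have halg : ∀ y : Pg.toExtension.Ring, algebraMap Pg.toExtension.Ring P y = f y := by
    intro y
    have h1 : algebraMap Pg.toExtension.Ring P y =
        MvPolynomial.aeval (R := A) (fun i : Fin n => f (MvPolynomial.X i)) y := rfl
    rw [h1, hval]
  have hsurj : Function.Surjective (algebraMap Pg.toExtension.Ring P) := Pg.algebraMap_surjective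
  have hker : Pg.toExtension.ker = RingHom.ker f.toRingHom := by
    ext y
    show algebraMap Pg.toExtension.Ring P y = 0 ↔ f y = 0
    rw [halg]
  have hK' : LCI.IsKoszulRegularIdeal Pg.toExtension.ker := by rw [hker]; exact hK
  haveI : IsNoetherianRing Pg.toExtension.Ring :=
    inferInstanceAs (IsNoetherianRing (MvPolynomial (Fin n) A))
  -- transport `x` to the kernel of the conormal map of `Pg`
  set x' := Pg.equivH1Cotangent.symm x with hx'def
  have hx0 : x' ≠ 0 := by
    intro h
    apply hx
    have := congrArg Pg.equivH1Cotangent h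
    rwa [hx'def, LinearEquiv.apply_symm_apply, map_zero] at this
  have hx1 : (x'.1 : Pg.toExtension.Cotangent) ≠ 0 := fun h => hx0 (Subtype.ext h)
  obtain ⟨q, hqass, hle⟩ := exists_le_isAssociatedPrime_of_isNoetherianRing P
    (x'.1 : Pg.toExtension.Cotangent) hx1
  obtain ⟨hqp, y, hqy⟩ := isAssociatedPrime_iff.mp hqass
  haveI := hqp
  -- `q` is an associated prime of `P`
  have hqA : IsAssociatedPrime q P := by
    obtain ⟨⟨z, hz⟩, rfl⟩ := Algebra.Extension.Cotangent.mk_surjective y
    have hq'p : (q.comap (algebraMap Pg.toExtension.Ring P)).IsPrime := Ideal.comap_isPrime _ _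
    have hIq : Pg.toExtension.ker ≤ q.comap (algebraMap Pg.toExtension.Ring P) := by
      intro w hw
      rw [Ideal.mem_comap, show algebraMap Pg.toExtension.Ring P w = 0 from hw]
      exact q.zero_mem
    have hann : ∀ p : Pg.toExtension.Ring,
        p * z ∈ Pg.toExtension.ker ^ 2 ↔ p ∈ q.comap (algebraMap Pg.toExtension.Ring P) := by
      intro p
      rw [Ideal.mem_comap, hqy, Submodule.mem_colon_singleton, Submodule.mem_bot, algebraMap_smul,
        ← map_smul, Algebra.Extension.Cotangent.mk_eq_zero_iff]
      rfl
    obtain ⟨c, g, hreg, hspan⟩ := exists_local_regular Pg.toExtension.ker hK'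
      (q.comap (algebraMap Pg.toExtension.Ring P)) hIq
    have hQ := Groth.Agent.Lib.Helper19.CotTVanish.Q_le_F0_of_isWeaklyRegular g hreg
    obtain ⟨a₁, ha₁⟩ := exists_colon_eq Pg.toExtension.ker
      (q.comap (algebraMap Pg.toExtension.Ring P)) g hspan hQ z hz hann
    refine isAssociatedPrime_iff.mpr ⟨hqp, algebraMap Pg.toExtension.Ring P a₁, ?_⟩
    ext s
    obtain ⟨p, rfl⟩ := hsurj s
    rw [Submodule.mem_colon_singleton, Submodule.mem_bot, smul_eq_mul, ← map_mul,
      ← Ideal.mem_comap, ← ha₁ p]
    rfl
  refine ⟨q, hqA, fun s hs => ?_⟩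
  apply hle
  rw [Submodule.mem_colon_singleton, Submodule.mem_bot]
  have h1 : s • x' = 0 := by
    rw [hx'def, ← map_smul, hs, map_zero]
  have := congrArg Subtype.val h1
  exact this

end Ass

section Main

variable (A P : Type u) [CommRing A] [CommRing P] [Algebra A P] [IsNoetherianRing A]
  [Module.Flat A P]

/-- `H¹(NL_{P/A}) = 0` for a flat lci algebra over a Noetherian ring with generically smooth
fibres. -/
theorem h1Cotangent_subsingleton (hlci : LCI.IsLCI A P)
    (hgs : ∀ 𝔓 : PrimeSpectrum P,
      (∀ 𝔔 : PrimeSpectrum P, 𝔔 ≤ 𝔓 →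
          𝔔.asIdeal.comap (algebraMap A P) = 𝔓.asIdeal.comap (algebraMap A P) → 𝔔 = 𝔓) →
        𝔓 ∈ Algebra.smoothLocus A P) :
    Subsingleton (Algebra.H1Cotangent A P) := by
  haveI : Algebra.FiniteType A P := hlci.1
  haveI : IsNoetherianRing P := Algebra.FiniteType.isNoetherianRing A P
  refine ⟨fun a b => ?_⟩
  by_contra hab
  have hx : a - b ≠ 0 := sub_ne_zero.mpr hab
  obtain ⟨q, hqass, hqle⟩ := exists_associatedPrime_of_ne_zero A P hlci (a - b) hx
  haveI hqp : q.IsPrime := hqass.isPrime
  -- the fibre over `q ∩ A` is Gorenstein, hence Cohen–Macaulay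
  set p : Ideal A := q.comap (algebraMap A P) with hp
  haveI : p.IsPrime := Ideal.comap_isPrime _ _
  have hG1 : LocCoh.IsGorensteinRing (TensorProduct A P p.ResidueField) :=
    Groth.Agent.Lib.Helper5.KoszulBC.gorRing_tensor_field_of_flat_isLCI A P hlci p.ResidueField
  have hG2 : LocCoh.IsGorensteinRing (p.Fiber P) :=
    Groth.Agent.Lib.Helper5.GorRing.gorRing_of_ringEquiv
      (Algebra.TensorProduct.comm A P p.ResidueField).toRingEquiv
  have hCM : LocCoh.IsCohenMacaulayRing (p.Fiber P) :=
    Groth.Agent.Lib.Helper5.GorUnmixed.isCohenMacaulayRing_of_isGorensteinRing _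
  have hCMloc : LocCoh.IsCohenMacaulayLocalRing (EGA4.FibLocRing A P q) :=
    (Groth.Agent.Lib.Helper28.CMFib.isCohenMacaulayRing_fiber_iff p).mp hCM q rfl
  -- hence `q` is in the smooth locus
  have hsm : (⟨q, hqp⟩ : PrimeSpectrum P) ∈ Algebra.smoothLocus A P := by
    apply hgs
    intro 𝔔 hle hcomap
    haveI := 𝔔.isPrime
    have := eq_of_le_of_mem_associatedPrimes (A := A) q hqass hCMloc 𝔔.asIdeal hle hcomap
    exact PrimeSpectrum.ext this
  rw [Algebra.smoothLocus_eq_compl_support_inter] at hsm
  have hns : (⟨q, hqp⟩ : PrimeSpectrum P) ∉ Module.support P (Algebra.H1Cotangent A P) := hsm.1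
  rw [Module.notMem_support_iff'] at hns
  obtain ⟨s, hsq, hs⟩ := hns (a - b)
  exact hsq (hqle s hs)

end Main

end Groth.Agent.Lib.Seat88.LciH1
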