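import Mathlib
import Groth.Prelude.Def_EssFT
import Groth.Agent.Lib.Helper10LocImm5

/-!
# Localizing immersions: composition, products, and separating the target (helper88)

* `isLocalizing_comp`, `isLocImmersion_comp`, `isLocalizing_of_isOpenImmersion`,
  `isLocImmersion_of_isOpenImmersion`, `isLocImmersion_pullback_map`.
* `specializes_of_isLocImmersion` : a localizing immersion reflects specialization.
* `exists_open_separated` : if `k₀ : X ⟶ Y₀` is a localizing immersion, `p₀ : Y₀ ⟶ S` is of finite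
  type with `Y₀` Noetherian and `k₀ ≫ p₀` is separated, then some open `Y ⊆ Y₀` containing the range
  of `k₀` is separated over `S`.
-/

set_option autoImplicit false
universe u
open CategoryTheory AlgebraicGeometry TopologicalSpace Limits

namespace Groth.Agent.Lib.Seat88.LocImmSep

open Groth.Agent.Lib.Helper10.LocImmLib

variable {X Y Z S : Scheme.{u}}

instance isLocalizing_isStableUnderComposition :
    MorphismProperty.IsStableUnderComposition @LocImm.IsLocalizing.{u} :=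
  HasRingHomProperty.stableUnderComposition
    (RingHom.locally_stableUnderComposition isLocHom_respectsIso
      isLocHom_isStableUnderBaseChange.localizationPreserves isLocHom_stableUnderComposition)

lemma isLocalizing_comp (f : X ⟶ Y) (g : Y ⟶ Z) (hf : LocImm.IsLocalizing f)
    (hg : LocImm.IsLocalizing g) : LocImm.IsLocalizing (f ≫ g) :=
  MorphismProperty.comp_mem _ f g hf hg

lemma isLocImmersion_comp (f : X ⟶ Y) (g : Y ⟶ Z) (hf : LocImm.IsLocImmersion f)
    (hg : LocImm.IsLocImmersion g) : LocImm.IsLocImmersion (f ≫ g) :=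
  ⟨isLocalizing_comp f g hf.1 hg.1, fun a b hab => hf.2 (hg.2 hab)⟩

lemma isLocHom_id (A : Type u) [CommRing A] : LocImm.IsLocHom (RingHom.id A) := by
  exact ⟨⊥, IsLocalization.of_le_isUnit (by simp)⟩

lemma isLocalizing_of_isOpenImmersion (f : X ⟶ Y) [IsOpenImmersion f] : LocImm.IsLocalizing f :=
  HasRingHomProperty.of_isOpenImmersion (P := @LocImm.IsLocalizing.{u})
    (fun A _ => RingHom.locally_of (isLocHom_respectsIso) _ (isLocHom_id A))

lemma isLocImmersion_of_isOpenImmersion (f : X ⟶ Y) [IsOpenImmersion f] :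
    LocImm.IsLocImmersion f :=
  ⟨isLocalizing_of_isOpenImmersion f, f.isOpenEmbedding.injective⟩

/-- a localizing immersion reflects specialization -/
lemma specializes_of_isLocImmersion (f : X ⟶ Y) (hf : LocImm.IsLocImmersion f) {x x' : X}
    (h : f x' ⤳ f x) : x' ⤳ x := by
  haveI := isIso_stalkMap_of_isLocalizing f hf.1 x
  obtain ⟨x'', hx'', e⟩ := exists_specializes_of_isIso_stalkMap f x (f x') h
  obtain rfl := hf.2 e
  exact hx''

lemma isLocImmersion_pullback_map {X₁ X₂ Y₁ Y₂ : Scheme.{u}} (f₁ : X₁ ⟶ S) (f₂ : X₂ ⟶ S)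
    (g₁ : Y₁ ⟶ S) (g₂ : Y₂ ⟶ S) (i₁ : X₁ ⟶ Y₁) (i₂ : X₂ ⟶ Y₂)
    (h₁ : LocImm.IsLocImmersion i₁) (h₂ : LocImm.IsLocImmersion i₂)
    (e₁ : f₁ = i₁ ≫ g₁) (e₂ : f₂ = i₂ ≫ g₂) :
    LocImm.IsLocImmersion (pullback.map f₁ f₂ g₁ g₂ i₁ i₂ (𝟙 _)
      ((Category.comp_id _).trans e₁) ((Category.comp_id _).trans e₂)) := by
  haveI : Mono i₁ := Groth.Agent.Lib.Helper27.LocImmLib.mono_of_isLocImmersion i₁ h₁
  haveI : Mono i₂ := Groth.Agent.Lib.Helper27.LocImmLib.mono_of_isLocImmersion i₂ h₂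
  refine ⟨MorphismProperty.pullbackMap (P := @LocImm.IsLocalizing.{u}) h₁.1 h₂.1 e₁ e₂, ?_⟩
  haveI : Mono (pullback.map f₁ f₂ g₁ g₂ i₁ i₂ (𝟙 _)
      ((Category.comp_id _).trans e₁) ((Category.comp_id _).trans e₂)) := by
    constructor
    intro T a b hab
    apply pullback.hom_ext
    · rw [← cancel_mono i₁]
      have h := congr($hab ≫ pullback.fst _ _)
      simp only [Category.assoc] at h ⊢
      rw [pullback.lift_fst] at h
      exact h
    · rw [← cancel_mono i₂]
      have h := congr($hab ≫ pullback.snd _ _)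
      simp only [Category.assoc] at h ⊢
      rw [pullback.lift_snd] at h
      exact h
  exact Scheme.Hom.injective _

/-- In a Noetherian quasi-sober space every closed set is the set of specializations of finitely
many of its points. -/
lemma exists_finite_generic {α : Type*} [TopologicalSpace α] [NoetherianSpace α] [QuasiSober α]
    {C : Set α} (hC : IsClosed C) :
    ∃ F : Set α, F.Finite ∧ F ⊆ C ∧ ∀ c ∈ C, ∃ ξ ∈ F, ξ ⤳ c := by
  obtain ⟨T, hTfin, hTcl, hTirr, hCeq⟩ := NoetherianSpace.exists_finite_set_isClosed_irreducible hC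
  choose g hg using fun t : T => QuasiSober.sober (hTirr t.1 t.2) (hTcl t.1 t.2)
  haveI : Finite T := hTfin.to_subtype
  refine ⟨Set.range g, Set.finite_range g, ?_, ?_⟩
  · rintro _ ⟨t, rfl⟩
    rw [hCeq]
    refine ⟨t.1, t.2, ?_⟩
    rw [← (hg t).def]
    exact subset_closure rfl
  · intro c hc
    rw [hCeq] at hc
    obtain ⟨t, ht, hct⟩ := hc
    refine ⟨g ⟨t, ht⟩, ⟨⟨t, ht⟩, rfl⟩, ?_⟩
    rw [specializes_iff_mem_closure, (hg ⟨t, ht⟩).def]
    exact hct

lemma exists_specializes_of_mem_closure_range {α β : Type*} [TopologicalSpace α]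
    [TopologicalSpace β] [NoetherianSpace α] [QuasiSober α] (f : α → β) (hc : Continuous f)
    {t : β} (ht : t ∈ closure (Set.range f)) : ∃ a, f a ⤳ t := by
  obtain ⟨F, hFfin, -, hF⟩ := exists_finite_generic (isClosed_univ : IsClosed (Set.univ : Set α))
  have h1 : closure (Set.range f) ⊆ ⋃ ξ ∈ F, closure {f ξ} := by
    apply closure_minimal
    · rintro _ ⟨a, rfl⟩
      obtain ⟨ξ, hξ, hξa⟩ := hF a (Set.mem_univ a)
      exact Set.mem_iUnion₂.mpr ⟨ξ, hξ, specializes_iff_mem_closure.mp (hξa.map hc)⟩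
    · exact hFfin.isClosed_biUnion fun ξ _ => isClosed_closure
  obtain ⟨ξ, -, hξ⟩ := Set.mem_iUnion₂.mp (h1 ht)
  exact ⟨ξ, specializes_iff_mem_closure.mpr hξ⟩

/-- **Separating the target.** If `k₀ : X ⟶ Y₀` is a localizing immersion, `Y₀` and `Y₀ ×_S Y₀` are
Noetherian spaces and `k₀ ≫ p₀` is separated, then some open `Y ⊆ Y₀` containing the range of `k₀`
is separated over `S`. -/
theorem exists_open_separated {X Y₀ S : Scheme.{u}} (k₀ : X ⟶ Y₀) (p₀ : Y₀ ⟶ S)
    (hk : LocImm.IsLocImmersion k₀) [IsSeparated (k₀ ≫ p₀)] [NoetherianSpace Y₀]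
    [NoetherianSpace ↥(pullback p₀ p₀)] :
    ∃ Y : Y₀.Opens, Set.range (fun x => k₀ x) ⊆ (Y : Set Y₀) ∧ IsSeparated (Y.ι ≫ p₀) := by
  classical
  let Δ : Y₀ ⟶ pullback p₀ p₀ := pullback.diagonal p₀
  let pr₁ : pullback p₀ p₀ ⟶ Y₀ := pullback.fst p₀ p₀
  let pr₂ : pullback p₀ p₀ ⟶ Y₀ := pullback.snd p₀ p₀
  have hΔ₁ : Δ ≫ pr₁ = 𝟙 _ := pullback.diagonal_fst p₀
  have hΔ₂ : Δ ≫ pr₂ = 𝟙 _ := pullback.diagonal_snd p₀
  let E : Set Y₀ := Set.range (fun x => k₀ x)
  let D : Set ↥(pullback p₀ p₀) := Set.range Δ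
  let T : Set ↥(pullback p₀ p₀) := closure D \ D
  have hE : StableUnderGeneralization E := stableUnderGeneralization_range k₀ hk.1
  have hT : IsClosed T := by
    have := (Δ.isLocallyClosed_range).isOpen_coborder
    rw [coborder] at this
    exact isOpen_compl_iff.mp this
  -- Claim 1
  have claim1 : ∀ t ∈ closure D, pr₁ t ∈ E → pr₂ t ∈ E → t ∈ D := by
    intro t ht h1 h2
    let f := k₀ ≫ p₀
    let m : pullback f f ⟶ pullback p₀ p₀ := pullback.map f f p₀ p₀ k₀ k₀ (𝟙 S)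
      ((Category.comp_id _).trans rfl) ((Category.comp_id _).trans rfl)
    have hm : LocImm.IsLocImmersion m :=
      isLocImmersion_pullback_map f f p₀ p₀ k₀ k₀ hk hk rfl rfl
    have hm₁ : m ≫ pr₁ = pullback.fst f f ≫ k₀ := pullback.lift_fst _ _ _
    have hm₂ : m ≫ pr₂ = pullback.snd f f ≫ k₀ := pullback.lift_snd _ _ _
    have hrange : Set.range m = pr₁ ⁻¹' E ∩ pr₂ ⁻¹' E :=
      Scheme.Pullback.range_map f f p₀ p₀ k₀ k₀ (𝟙 S) _ _
    obtain ⟨q, rfl⟩ : t ∈ Set.range m := by rw [hrange]; exact ⟨h1, h2⟩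
    obtain ⟨η, hη⟩ := exists_specializes_of_mem_closure_range (fun y => Δ y) Δ.continuous ht
    obtain ⟨q', (hq' : m q' = Δ η)⟩ : Δ η ∈ Set.range (fun x => m x) :=
      stableUnderGeneralization_range m hm.1 hη ⟨q, rfl⟩
    have hspec : q' ⤳ q := specializes_of_isLocImmersion m hm (by rw [hq']; exact hη)
    let ΔX : X ⟶ pullback f f := pullback.diagonal f
    have hcomm : ΔX ≫ m = k₀ ≫ Δ := by
      apply pullback.hom_ext
      · rw [Category.assoc, Category.assoc]
        change _ ≫ m ≫ pr₁ = _ ≫ Δ ≫ pr₁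
        rw [hm₁, hΔ₁, ← Category.assoc, pullback.diagonal_fst]
        simp
      · rw [Category.assoc, Category.assoc]
        change _ ≫ m ≫ pr₂ = _ ≫ Δ ≫ pr₂
        rw [hm₂, hΔ₂, ← Category.assoc, pullback.diagonal_snd]
        simp
    have hq'Δ : q' ∈ Set.range ΔX := by
      refine ⟨pullback.fst f f q', hm.2 ?_⟩
      have e1 : k₀ (pullback.fst f f q') = η := by
        rw [← Scheme.Hom.comp_apply, ← hm₁, Scheme.Hom.comp_apply, hq',
          ← Scheme.Hom.comp_apply, hΔ₁]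
        rfl
      change m (ΔX (pullback.fst f f q')) = m q'
      rw [← Scheme.Hom.comp_apply, hcomm, Scheme.Hom.comp_apply, e1, hq']
    have hclosed : IsClosed (Set.range ΔX) := ΔX.isClosedEmbedding.isClosed_range
    obtain ⟨x, rfl⟩ : q ∈ Set.range ΔX := hspec.mem_closed hclosed hq'Δ
    exact ⟨k₀ x, by rw [← Scheme.Hom.comp_apply, ← hcomm, Scheme.Hom.comp_apply]⟩
  -- Claim 2
  obtain ⟨C, hCclosed, hCE, hTC⟩ : ∃ C : Set Y₀, IsClosed C ∧ Disjoint C E ∧
      T ⊆ pr₁ ⁻¹' C ∪ pr₂ ⁻¹' C := by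
    obtain ⟨F, hFfin, hFT, hF⟩ := exists_finite_generic hT
    let c₁ : ↥(pullback p₀ p₀) → Set Y₀ := fun τ => if pr₁ τ ∈ E then ∅ else closure {pr₁ τ}
    let c₂ : ↥(pullback p₀ p₀) → Set Y₀ := fun τ => if pr₂ τ ∈ E then ∅ else closure {pr₂ τ}
    refine ⟨⋃ τ ∈ F, (c₁ τ ∪ c₂ τ), ?_, ?_, ?_⟩
    · refine hFfin.isClosed_biUnion fun τ _ => IsClosed.union ?_ ?_
      · simp only [c₁]; split_ifs
        · exact isClosed_empty
        · exact isClosed_closure
      · simp only [c₂]; split_ifs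
        · exact isClosed_empty
        · exact isClosed_closure
    · rw [Set.disjoint_left]
      intro y hy hyE
      obtain ⟨τ, -, hτ⟩ := Set.mem_iUnion₂.mp hy
      rcases hτ with hτ | hτ
      · simp only [c₁] at hτ
        split_ifs at hτ with h
        · exact hτ
        · exact h (hE (specializes_iff_mem_closure.mpr hτ) hyE)
      · simp only [c₂] at hτ
        split_ifs at hτ with h
        · exact hτ
        · exact h (hE (specializes_iff_mem_closure.mpr hτ) hyE)
    · intro t ht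
      obtain ⟨τ, hτF, hτt⟩ := hF t ht
      have hτT := hFT hτF
      by_cases h1 : pr₁ τ ∈ E
      · have h2 : pr₂ τ ∉ E := fun h2 => hτT.2 (claim1 τ hτT.1 h1 h2)
        right
        refine Set.mem_iUnion₂.mpr ⟨τ, hτF, Or.inr ?_⟩
        simp only [c₂, if_neg h2]
        exact specializes_iff_mem_closure.mp (hτt.map pr₂.continuous)
      · left
        refine Set.mem_iUnion₂.mpr ⟨τ, hτF, Or.inl ?_⟩
        simp only [c₁, if_neg h1]
        exact specializes_iff_mem_closure.mp (hτt.map pr₁.continuous)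
  -- Claim 3
  let Y : Y₀.Opens := ⟨Cᶜ, hCclosed.isOpen_compl⟩
  refine ⟨Y, fun y hy => Set.disjoint_right.mp hCE hy, ?_⟩
  let j : (Y : Scheme.{u}) ⟶ Y₀ := Y.ι
  let g := j ≫ p₀
  let n : pullback g g ⟶ pullback p₀ p₀ := pullback.map g g p₀ p₀ j j (𝟙 S)
    ((Category.comp_id _).trans rfl) ((Category.comp_id _).trans rfl)
  have hn₁ : n ≫ pr₁ = pullback.fst g g ≫ j := pullback.lift_fst _ _ _
  have hn₂ : n ≫ pr₂ = pullback.snd g g ≫ j := pullback.lift_snd _ _ _
  let ΔY : (Y : Scheme.{u}) ⟶ pullback g g := pullback.diagonal g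
  have hcomm : ΔY ≫ n = j ≫ Δ := by
    apply pullback.hom_ext
    · rw [Category.assoc, Category.assoc]
      change _ ≫ n ≫ pr₁ = _ ≫ Δ ≫ pr₁
      rw [hn₁, hΔ₁, ← Category.assoc, pullback.diagonal_fst]
      simp
    · rw [Category.assoc, Category.assoc]
      change _ ≫ n ≫ pr₂ = _ ≫ Δ ≫ pr₂
      rw [hn₂, hΔ₂, ← Category.assoc, pullback.diagonal_snd]
      simp
  have hjrange : Set.range j = Cᶜ := Scheme.Opens.range_ι Y
  have hrange : Set.range ΔY = n ⁻¹' (closure D) := by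
    ext z
    constructor
    · rintro ⟨y, rfl⟩
      refine subset_closure ⟨j y, ?_⟩
      rw [← Scheme.Hom.comp_apply, ← hcomm, Scheme.Hom.comp_apply]
    · intro hz
      have hz1 : pr₁ (n z) ∈ Cᶜ := by
        rw [← hjrange, ← Scheme.Hom.comp_apply, hn₁]
        exact ⟨_, rfl⟩
      have hz2 : pr₂ (n z) ∈ Cᶜ := by
        rw [← hjrange, ← Scheme.Hom.comp_apply, hn₂]
        exact ⟨_, rfl⟩
      have hzD : n z ∈ D := by
        by_contra hnD
        rcases hTC ⟨hz, hnD⟩ with h | h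
        · exact hz1 h
        · exact hz2 h
      obtain ⟨y₀, hy₀⟩ := hzD
      have hy₀' : y₀ = pr₁ (n z) := by
        rw [← hy₀, ← Scheme.Hom.comp_apply, hΔ₁]; rfl
      obtain ⟨y, hy⟩ : y₀ ∈ Set.range j := by rw [hjrange, hy₀']; exact hz1
      refine ⟨y, n.isOpenEmbedding.injective ?_⟩
      change n (ΔY y) = n z
      rw [← Scheme.Hom.comp_apply, hcomm, Scheme.Hom.comp_apply, hy, hy₀]
  haveI : IsClosedImmersion ΔY :=
    IsClosedImmersion.of_isPreimmersion ΔY (by rw [hrange]; exact isClosed_closure.preimage n.continuous)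
  exact ⟨inferInstanceAs (IsClosedImmersion ΔY)⟩

end Groth.Agent.Lib.Seat88.LocImmSep
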