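import Mathlib
import Groth.Prelude.Def_EssFT
import Groth.Agent.Lib.Seat88LocImmSep

/-!
# Gluing two finite-type targets of localizing immersions (helper88)

* pushout of two open immersions of schemes: `inl_jointly_surjective`, `inl_eq_inr`;
* `exists_glue_two` : glue two morphisms defined on a two-member open cover;
* `main18192` : the two-piece gluing step for factorizations "localizing immersion followed by
  separated finite type".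
-/

set_option autoImplicit false
universe u
open CategoryTheory AlgebraicGeometry TopologicalSpace Limits

namespace Groth.Agent.Lib.Seat88.LocImmGlue

open Groth.Agent.Lib.Helper10.LocImmLib Groth.Agent.Lib.Seat88.LocImmSep

section Pushout

variable {W Y₁ Y₂ : Scheme.{u}} (g₁ : W ⟶ Y₁) (g₂ : W ⟶ Y₂) [IsOpenImmersion g₁] [IsOpenImmersion g₂]

instance isOpenImmersion_inl : IsOpenImmersion (pushout.inl g₁ g₂) :=
  inferInstanceAs (IsOpenImmersion (colimit.ι (span g₁ g₂) WalkingSpan.left))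

instance isOpenImmersion_inr : IsOpenImmersion (pushout.inr g₁ g₂) :=
  inferInstanceAs (IsOpenImmersion (colimit.ι (span g₁ g₂) WalkingSpan.right))

lemma inl_jointly_surjective (y : ↥(pushout g₁ g₂)) :
    (∃ y₁, pushout.inl g₁ g₂ y₁ = y) ∨ (∃ y₂, pushout.inr g₁ g₂ y₂ = y) := by
  obtain ⟨i, xi, h⟩ := Scheme.IsLocallyDirected.ι_jointly_surjective (span g₁ g₂) y
  rcases i with _ | _ | _
  · left
    refine ⟨g₁ xi, ?_⟩
    rw [← h, ← Scheme.Hom.comp_apply]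
    exact congr($(colimit.w (span g₁ g₂) WalkingSpan.Hom.fst) xi)
  · left; exact ⟨xi, h⟩
  · right; exact ⟨xi, h⟩

lemma inl_eq_inr {y₁ : Y₁} {y₂ : Y₂} (h : pushout.inl g₁ g₂ y₁ = pushout.inr g₁ g₂ y₂) :
    ∃ w : W, g₁ w = y₁ ∧ g₂ w = y₂ := by
  obtain ⟨k, fi, fj, x, hx₁, hx₂⟩ :=
    (Scheme.IsLocallyDirected.ι_eq_ι_iff (F := span g₁ g₂) (i := WalkingSpan.left)
      (j := WalkingSpan.right) (xi := y₁) (xj := y₂)).mp h
  rcases k with _ | _ | _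
  · obtain rfl : fi = WalkingSpan.Hom.fst := Subsingleton.elim _ _
    obtain rfl : fj = WalkingSpan.Hom.snd := Subsingleton.elim _ _
    exact ⟨x, hx₁, hx₂⟩
  · change WidePushoutShape.Hom _ _ at fj
    cases fj
  · change WidePushoutShape.Hom _ _ at fi
    cases fi

end Pushout

section GlueTwo

variable {X T : Scheme.{u}}

lemma fst_comp_eq_snd_comp (U V : X.Opens) (a : (U : Scheme.{u}) ⟶ T) (b : (V : Scheme.{u}) ⟶ T)
    (h : X.homOfLE (inf_le_left : U ⊓ V ≤ U) ≫ a = X.homOfLE (inf_le_right : U ⊓ V ≤ V) ≫ b) :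
    pullback.fst U.ι V.ι ≫ a = pullback.snd U.ι V.ι ≫ b := by
  have hr : Set.range (pullback.fst U.ι V.ι ≫ U.ι) ⊆ Set.range (U ⊓ V).ι := by
    rintro _ ⟨z, rfl⟩
    rw [Scheme.Opens.range_ι]
    refine ⟨?_, ?_⟩
    · rw [Scheme.Hom.comp_apply]
      exact (pullback.fst U.ι V.ι z).2
    · rw [pullback.condition, Scheme.Hom.comp_apply]
      exact (pullback.snd U.ι V.ι z).2
  let l := IsOpenImmersion.lift (U ⊓ V).ι (pullback.fst U.ι V.ι ≫ U.ι) hr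
  have hl : l ≫ (U ⊓ V).ι = pullback.fst U.ι V.ι ≫ U.ι := IsOpenImmersion.lift_fac _ _ _
  have h1 : l ≫ X.homOfLE (inf_le_left : U ⊓ V ≤ U) = pullback.fst U.ι V.ι := by
    rw [← cancel_mono U.ι, Category.assoc, Scheme.homOfLE_ι, hl]
  have h2 : l ≫ X.homOfLE (inf_le_right : U ⊓ V ≤ V) = pullback.snd U.ι V.ι := by
    rw [← cancel_mono V.ι, Category.assoc, Scheme.homOfLE_ι, hl, pullback.condition]
  rw [← h1, ← h2, Category.assoc, Category.assoc, h]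

/-- glue two morphisms along a two-member open cover -/
lemma exists_glue_two (U₁ U₂ : X.Opens) (hU : U₁ ⊔ U₂ = ⊤) (a₁ : (U₁ : Scheme.{u}) ⟶ T)
    (a₂ : (U₂ : Scheme.{u}) ⟶ T)
    (h : X.homOfLE (inf_le_left : U₁ ⊓ U₂ ≤ U₁) ≫ a₁ =
      X.homOfLE (inf_le_right : U₁ ⊓ U₂ ≤ U₂) ≫ a₂) :
    ∃ a : X ⟶ T, U₁.ι ≫ a = a₁ ∧ U₂.ι ≫ a = a₂ := by
  let U : Bool → X.Opens := fun b => if b then U₁ else U₂
  have hUc : IsOpenCover U := by
    change iSup U = ⊤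
    rw [iSup_bool_eq]
    exact hU
  let 𝒰 := X.openCoverOfIsOpenCover U hUc
  let F : ∀ b : Bool, 𝒰.X b ⟶ T := fun b => by
    cases b
    · exact a₂
    · exact a₁
  have hF : ∀ x y, pullback.fst (𝒰.f x) (𝒰.f y) ≫ F x = pullback.snd _ _ ≫ F y := by
    intro x y
    cases x <;> cases y
    · exact fst_comp_eq_snd_comp U₂ U₂ a₂ a₂ (by
        congr 1)
    · refine fst_comp_eq_snd_comp U₂ U₁ a₂ a₁ ?_
      have e1 : X.homOfLE (inf_le_left : U₂ ⊓ U₁ ≤ U₂) =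
          X.homOfLE (le_of_eq (inf_comm _ _) : U₂ ⊓ U₁ ≤ U₁ ⊓ U₂) ≫ X.homOfLE inf_le_right := by
        rw [Scheme.homOfLE_homOfLE]
      have e2 : X.homOfLE (inf_le_right : U₂ ⊓ U₁ ≤ U₁) =
          X.homOfLE (le_of_eq (inf_comm _ _) : U₂ ⊓ U₁ ≤ U₁ ⊓ U₂) ≫ X.homOfLE inf_le_left := by
        rw [Scheme.homOfLE_homOfLE]
      rw [e1, e2, Category.assoc, Category.assoc, h]
    · exact fst_comp_eq_snd_comp U₁ U₂ a₁ a₂ h
    · exact fst_comp_eq_snd_comp U₁ U₁ a₁ a₁ (by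
        congr 1)
  refine ⟨𝒰.glueMorphisms F hF, ?_, ?_⟩
  · exact 𝒰.ι_glueMorphisms F hF true
  · exact 𝒰.ι_glueMorphisms F hF false

lemma hom_ext_two (U₁ U₂ : X.Opens) (hU : U₁ ⊔ U₂ = ⊤) (a b : X ⟶ T)
    (h₁ : U₁.ι ≫ a = U₁.ι ≫ b) (h₂ : U₂.ι ≫ a = U₂.ι ≫ b) : a = b := by
  refine Scheme.hom_ext_of_forall _ _ fun x => ?_
  have hx : x ∈ U₁ ⊔ U₂ := by rw [hU]; trivial
  rcases hx with hx | hx
  · exact ⟨U₁, hx, h₁⟩
  · exact ⟨U₂, hx, h₂⟩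

end GlueTwo

section LocalAtSource

variable {P : MorphismProperty Scheme.{u}} [IsZariskiLocalAtSource P]

lemma of_two {X T : Scheme.{u}} (U₁ U₂ : X.Opens) (hU : U₁ ⊔ U₂ = ⊤) (a : X ⟶ T)
    (h₁ : P (U₁.ι ≫ a)) (h₂ : P (U₂.ι ≫ a)) : P a :=
  IsZariskiLocalAtSource.of_iSup_eq_top (fun b : Bool => if b then U₁ else U₂)
    (by rw [iSup_bool_eq]; exact hU) (by rintro (_ | _) <;> simpa)

lemma of_pushout {W Y₁ Y₂ T : Scheme.{u}} (g₁ : W ⟶ Y₁) (g₂ : W ⟶ Y₂) [IsOpenImmersion g₁]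
    [IsOpenImmersion g₂] (a : pushout g₁ g₂ ⟶ T) (h₁ : P (pushout.inl g₁ g₂ ≫ a))
    (h₂ : P (pushout.inr g₁ g₂ ≫ a)) : P a := by
  refine IsZariskiLocalAtSource.of_openCover (Scheme.IsLocallyDirected.openCover (span g₁ g₂)) ?_
  rintro (_ | _ | _)
  · have : colimit.ι (span g₁ g₂) none = g₁ ≫ pushout.inl g₁ g₂ :=
      (colimit.w (span g₁ g₂) WalkingSpan.Hom.fst).symm
    have h := IsZariskiLocalAtSource.comp h₁ g₁
    rw [← Category.assoc, ← this] at h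
    exact h
  · exact h₁
  · exact h₂

end LocalAtSource

section Main

instance isNoetherian_opens {X : Scheme.{u}} [IsNoetherian X] (U : X.Opens) :
    IsNoetherian (U : Scheme.{u}) :=
  haveI : NoetherianSpace ↥(U : Scheme.{u}) := U.ι.isOpenEmbedding.isInducing.noetherianSpace
  { }

theorem main18192 {X S : Scheme.{u}} [IsNoetherian X] [IsNoetherian S] (f : X ⟶ S) [IsSeparated f]
    (U₁ U₂ : X.Opens) (hU : U₁ ⊔ U₂ = ⊤) (Y₁ Y₂ : Scheme.{u}) [IsNoetherian Y₁] [IsNoetherian Y₂]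
    (k₁ : (U₁ : Scheme.{u}) ⟶ Y₁) (k₂ : (U₂ : Scheme.{u}) ⟶ Y₂) (p₁ : Y₁ ⟶ S) (p₂ : Y₂ ⟶ S)
    (hk₁ : LocImm.IsLocImmersion k₁) (hk₂ : LocImm.IsLocImmersion k₂)
    [IsSeparated p₁] [IsSeparated p₂] [LocallyOfFiniteType p₁] [LocallyOfFiniteType p₂]
    [QuasiCompact p₁] [QuasiCompact p₂]
    (h₁ : k₁ ≫ p₁ = U₁.ι ≫ f) (h₂ : k₂ ≫ p₂ = U₂.ι ≫ f) :
    ∃ (Y : Scheme.{u}) (k : X ⟶ Y) (p : Y ⟶ S), IsNoetherian Y ∧ LocImm.IsLocImmersion k ∧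
      IsSeparated p ∧ LocallyOfFiniteType p ∧ QuasiCompact p ∧ k ≫ p = f := by
  -- Step 1: the common open `W`
  let r₁ : ((U₁ ⊓ U₂ : X.Opens) : Scheme.{u}) ⟶ U₁ := X.homOfLE inf_le_left
  let r₂ : ((U₁ ⊓ U₂ : X.Opens) : Scheme.{u}) ⟶ U₂ := X.homOfLE inf_le_right
  have ha₁ : LocImm.IsLocImmersion (r₁ ≫ k₁) :=
    isLocImmersion_comp _ _ (isLocImmersion_of_isOpenImmersion r₁) hk₁
  have ha₂ : LocImm.IsLocImmersion (r₂ ≫ k₂) :=
    isLocImmersion_comp _ _ (isLocImmersion_of_isOpenImmersion r₂) hk₂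
  have ha : (r₁ ≫ k₁) ≫ p₁ = (r₂ ≫ k₂) ≫ p₂ := by
    rw [Category.assoc, Category.assoc, h₁, h₂, ← Category.assoc, ← Category.assoc,
      Scheme.homOfLE_ι, Scheme.homOfLE_ι]
  obtain ⟨W, k, g₁, g₂, hk, hg₁, hg₂, hgp, hkg₁, hkg₂⟩ :=
    main18193 (r₁ ≫ k₁) (r₂ ≫ k₂) p₁ p₂ ha₁ ha₂ ha
  haveI := hg₁
  haveI := hg₂
  -- Step 2: shrink `W`
  let A₁ : Set ↥(U₁ : Scheme.{u}) := {x | x.1 ∉ U₂}
  let A₂ : Set ↥(U₂ : Scheme.{u}) := {x | x.1 ∉ U₁}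
  have hA₁ : IsClosed A₁ := (U₂.isOpen.isClosed_compl).preimage continuous_subtype_val
  have hA₂ : IsClosed A₂ := (U₁.isOpen.isClosed_compl).preimage continuous_subtype_val
  let B₁ : Set Y₁ := closure ((fun x => k₁ x) '' A₁)
  let B₂ : Set Y₂ := closure ((fun x => k₂ x) '' A₂)
  let O₁ : Y₁.Opens := ⟨B₁ᶜ, isClosed_closure.isOpen_compl⟩
  let O₂ : Y₂.Opens := ⟨B₂ᶜ, isClosed_closure.isOpen_compl⟩
  let W₁ : W.Opens := (g₁ ⁻¹ᵁ O₁) ⊓ (g₂ ⁻¹ᵁ O₂)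
  have hkW₁ : Set.range (fun x => k x) ⊆ (W₁ : Set W) := by
    rintro _ ⟨u, rfl⟩
    constructor
    · change g₁ (k u) ∉ B₁
      rw [← Scheme.Hom.comp_apply, hkg₁, Scheme.Hom.comp_apply]
      have hemb := isEmbedding_of_isLocImmersion k₁ hk₁
      intro hmem
      have : r₁ u ∈ closure A₁ := by
        rw [hemb.isInducing.closure_eq_preimage_closure_image]; exact hmem
      rw [hA₁.closure_eq] at this
      apply this
      change (X.homOfLE _ u).1 ∈ U₂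
      rw [Scheme.homOfLE_apply]
      exact u.2.2
    · change g₂ (k u) ∉ B₂
      rw [← Scheme.Hom.comp_apply, hkg₂, Scheme.Hom.comp_apply]
      have hemb := isEmbedding_of_isLocImmersion k₂ hk₂
      intro hmem
      have : r₂ u ∈ closure A₂ := by
        rw [hemb.isInducing.closure_eq_preimage_closure_image]; exact hmem
      rw [hA₂.closure_eq] at this
      apply this
      change (X.homOfLE _ u).1 ∈ U₁
      rw [Scheme.homOfLE_apply]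
      exact u.2.1
  obtain ⟨k', hk'W, hk'⟩ := exists_isLocImmersion_lift k hk W₁ hkW₁
  obtain ⟨g₁', hg₁'⟩ : ∃ g : (W₁ : Scheme.{u}) ⟶ Y₁, g = W₁.ι ≫ g₁ := ⟨_, rfl⟩
  obtain ⟨g₂', hg₂'⟩ : ∃ g : (W₁ : Scheme.{u}) ⟶ Y₂, g = W₁.ι ≫ g₂ := ⟨_, rfl⟩
  haveI : IsOpenImmersion g₁' := by rw [hg₁']; infer_instance
  haveI : IsOpenImmersion g₂' := by rw [hg₂']; infer_instance
  have hgp' : g₁' ≫ p₁ = g₂' ≫ p₂ := by simp only [hg₁', hg₂', Category.assoc, hgp]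
  have hkg₁' : k' ≫ g₁' = r₁ ≫ k₁ := by simp only [hg₁', ← Category.assoc, hk'W, hkg₁]
  have hkg₂' : k' ≫ g₂' = r₂ ≫ k₂ := by simp only [hg₂', ← Category.assoc, hk'W, hkg₂]
  have hSP₁ : ∀ x : ↥(U₁ : Scheme.{u}), k₁ x ∈ Set.range g₁' → x.1 ∈ U₂ := by
    rintro x ⟨w, hw⟩
    by_contra hx
    have h1 : g₁ (W₁.ι w) ∉ B₁ := w.2.1
    apply h1
    rw [← Scheme.Hom.comp_apply, ← hg₁', hw]
    exact subset_closure ⟨x, hx, rfl⟩
  have hSP₂ : ∀ x : ↥(U₂ : Scheme.{u}), k₂ x ∈ Set.range g₂' → x.1 ∈ U₁ := by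
    rintro x ⟨w, hw⟩
    by_contra hx
    have h1 : g₂ (W₁.ι w) ∉ B₂ := w.2.2
    apply h1
    rw [← Scheme.Hom.comp_apply, ← hg₂', hw]
    exact subset_closure ⟨x, hx, rfl⟩
  -- Step 3: glue
  let Y₀ : Scheme.{u} := pushout g₁' g₂'
  let ι₁ : Y₁ ⟶ Y₀ := pushout.inl g₁' g₂'
  let ι₂ : Y₂ ⟶ Y₀ := pushout.inr g₁' g₂'
  let p₀ : Y₀ ⟶ S := pushout.desc p₁ p₂ hgp'
  have hι₁p : ι₁ ≫ p₀ = p₁ := pushout.inl_desc _ _ _
  have hι₂p : ι₂ ≫ p₀ = p₂ := pushout.inr_desc _ _ _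
  obtain ⟨k₀, hk₀₁, hk₀₂⟩ := exists_glue_two U₁ U₂ hU (k₁ ≫ ι₁) (k₂ ≫ ι₂) (by
    change r₁ ≫ k₁ ≫ ι₁ = r₂ ≫ k₂ ≫ ι₂
    rw [← Category.assoc, ← Category.assoc, ← hkg₁', ← hkg₂', Category.assoc, Category.assoc,
      pushout.condition])
  have hk₀p : k₀ ≫ p₀ = f := by
    apply hom_ext_two U₁ U₂ hU
    · rw [← Category.assoc, hk₀₁, Category.assoc, hι₁p, h₁]
    · rw [← Category.assoc, hk₀₂, Category.assoc, hι₂p, h₂]
  haveI hLS : IsZariskiLocalAtSource @LocImm.IsLocalizing.{u} :=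
    @HasRingHomProperty.instIsZariskiLocalAtSource _ _ hasRingHomProperty_isLocalizing
  have hk₀loc : LocImm.IsLocalizing k₀ := by
    refine of_two (P := @LocImm.IsLocalizing.{u}) U₁ U₂ hU k₀ ?_ ?_
    · rw [hk₀₁]
      exact isLocalizing_comp _ _ hk₁.1 (isLocalizing_of_isOpenImmersion ι₁)
    · rw [hk₀₂]
      exact isLocalizing_comp _ _ hk₂.1 (isLocalizing_of_isOpenImmersion ι₂)
  have hk₀inj : Function.Injective k₀.base := by
    have e₁ : ∀ x : ↥(U₁ : Scheme.{u}), k₀ x.1 = ι₁ (k₁ x) := fun x => by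
      rw [← Scheme.Opens.ι_apply, ← Scheme.Hom.comp_apply, hk₀₁, Scheme.Hom.comp_apply]
    have e₂ : ∀ x : ↥(U₂ : Scheme.{u}), k₀ x.1 = ι₂ (k₂ x) := fun x => by
      rw [← Scheme.Opens.ι_apply, ← Scheme.Hom.comp_apply, hk₀₂, Scheme.Hom.comp_apply]
    have c₁ : ∀ x y : X, x ∈ U₁ → y ∈ U₁ → k₀ x = k₀ y → x = y := by
      intro x y hx hy hxy
      have h3 : ι₁ (k₁ ⟨x, hx⟩) = ι₁ (k₁ ⟨y, hy⟩) := by
        rw [← e₁ ⟨x, hx⟩, ← e₁ ⟨y, hy⟩]; exact hxy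
      exact congrArg Subtype.val (hk₁.2 (ι₁.isOpenEmbedding.injective h3))
    have c₂ : ∀ x y : X, x ∈ U₂ → y ∈ U₂ → k₀ x = k₀ y → x = y := by
      intro x y hx hy hxy
      have h3 : ι₂ (k₂ ⟨x, hx⟩) = ι₂ (k₂ ⟨y, hy⟩) := by
        rw [← e₂ ⟨x, hx⟩, ← e₂ ⟨y, hy⟩]; exact hxy
      exact congrArg Subtype.val (hk₂.2 (ι₂.isOpenEmbedding.injective h3))
    have c₁₂ : ∀ x y : X, x ∈ U₁ → y ∈ U₂ → k₀ x = k₀ y → x ∈ U₂ := by
      intro x y hx hy hxy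
      have h3 : ι₁ (k₁ ⟨x, hx⟩) = ι₂ (k₂ ⟨y, hy⟩) := by
        rw [← e₁ ⟨x, hx⟩, ← e₂ ⟨y, hy⟩]; exact hxy
      obtain ⟨w, hw₁, hw₂⟩ := inl_eq_inr g₁' g₂' h3
      exact hSP₁ ⟨x, hx⟩ ⟨w, hw₁⟩
    intro x y hxy
    have hx : x ∈ U₁ ⊔ U₂ := by rw [hU]; trivial
    have hy : y ∈ U₁ ⊔ U₂ := by rw [hU]; trivial
    rcases hx with hx | hx <;> rcases hy with hy | hy
    · exact c₁ x y hx hy hxy
    · exact c₂ x y (c₁₂ x y hx hy hxy) hy hxy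
    · exact c₂ x y hx (c₁₂ y x hy hx hxy.symm) hxy
    · exact c₂ x y hx hy hxy
  have hk₀ : LocImm.IsLocImmersion k₀ := ⟨hk₀loc, hk₀inj⟩
  -- Step 4: `Y₀` is Noetherian and of finite type over `S`
  haveI : LocallyOfFiniteType p₀ := by
    refine of_pushout (P := @LocallyOfFiniteType) g₁' g₂' p₀ ?_ ?_
    · change LocallyOfFiniteType (ι₁ ≫ p₀)
      rw [hι₁p]; infer_instance
    · change LocallyOfFiniteType (ι₂ ≫ p₀)
      rw [hι₂p]; infer_instance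
  haveI : IsLocallyNoetherian Y₀ := LocallyOfFiniteType.isLocallyNoetherian p₀
  haveI : CompactSpace ↥Y₀ := by
    constructor
    have : (Set.univ : Set Y₀) = Set.range ι₁ ∪ Set.range ι₂ := by
      ext y
      simp only [Set.mem_univ, true_iff]
      rcases inl_jointly_surjective g₁' g₂' y with ⟨y₁, h⟩ | ⟨y₂, h⟩
      · exact Or.inl ⟨y₁, h⟩
      · exact Or.inr ⟨y₂, h⟩
    rw [this]
    exact (isCompact_range ι₁.continuous).union (isCompact_range ι₂.continuous)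
  haveI : IsNoetherian Y₀ := ⟨⟩
  haveI : IsLocallyNoetherian (pullback p₀ p₀) :=
    LocallyOfFiniteType.isLocallyNoetherian (pullback.fst p₀ p₀)
  haveI : CompactSpace ↥(pullback p₀ p₀) :=
    QuasiCompact.compactSpace_of_compactSpace (pullback.fst p₀ p₀)
  haveI : IsNoetherian (pullback p₀ p₀) := ⟨⟩
  haveI : IsSeparated (k₀ ≫ p₀) := by rw [hk₀p]; infer_instance
  obtain ⟨Y, hY, hYsep⟩ := exists_open_separated k₀ p₀ hk₀
  obtain ⟨kk, hkk, hkkloc⟩ := exists_isLocImmersion_lift k₀ hk₀ Y hY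
  refine ⟨Y, kk, Y.ι ≫ p₀, inferInstance, hkkloc, hYsep, inferInstance, inferInstance, ?_⟩
  rw [← Category.assoc, hkk, hk₀p]

end Main

end Groth.Agent.Lib.Seat88.LocImmGlue
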