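import Mathlib
import Groth.Prelude.Def_EssFT
import Groth.Agent.Lib.Seat88LocImmGlue

/-!
# Factorization of separated essentially finite-type morphisms (helper88)

`main18191` : a separated, essentially finite-type morphism of Noetherian schemes factors as a
localizing immersion followed by a separated morphism of finite type.
-/

set_option autoImplicit false
universe u
open CategoryTheory AlgebraicGeometry TopologicalSpace Limits

namespace Groth.Agent.Lib.Seat88.LocImmFact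

open Groth.Agent.Lib.Helper10.LocImmLib Groth.Agent.Lib.Seat88.LocImmSep
  Groth.Agent.Lib.Seat88.LocImmGlue

/-- the factorization property -/
def HasFact {T S : Scheme.{u}} (g : T ⟶ S) : Prop :=
  ∃ (Y : Scheme.{u}) (k : T ⟶ Y) (p : Y ⟶ S), IsNoetherian Y ∧ LocImm.IsLocImmersion k ∧
    IsSeparated p ∧ LocallyOfFiniteType p ∧ QuasiCompact p ∧ k ≫ p = g

variable {T T' S : Scheme.{u}}

lemma hasFact_of_iso_comp (e : T' ≅ T) {g : T ⟶ S} (h : HasFact g) : HasFact (e.hom ≫ g) := by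
  obtain ⟨Y, k, p, hY, hk, hs, hf, hq, hkp⟩ := h
  exact ⟨Y, e.hom ≫ k, p, hY, isLocImmersion_comp _ _ (isLocImmersion_of_isOpenImmersion e.hom) hk,
    hs, hf, hq, by rw [Category.assoc, hkp]⟩

lemma hasFact_of_isEmpty [IsEmpty T] [IsNoetherian T] (g : T ⟶ S) : HasFact g :=
  ⟨T, 𝟙 T, g, inferInstance, isLocImmersion_of_isOpenImmersion _, inferInstance, inferInstance,
    inferInstance, Category.id_comp g⟩

lemma hasFact_sup [IsNoetherian T] [IsNoetherian S] (g : T ⟶ S) [IsSeparated g]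
    (V₁ V₂ : T.Opens) (h₁ : HasFact (V₁.ι ≫ g)) (h₂ : HasFact (V₂.ι ≫ g)) :
    HasFact ((V₁ ⊔ V₂).ι ≫ g) := by
  obtain ⟨Y₁, k₁, p₁, hY₁, hk₁, hs₁, hf₁, hq₁, hkp₁⟩ := h₁
  obtain ⟨Y₂, k₂, p₂, hY₂, hk₂, hs₂, hf₂, hq₂, hkp₂⟩ := h₂
  let V := V₁ ⊔ V₂
  let e₁ := Scheme.Opens.isoOfLE (le_sup_left : V₁ ≤ V)
  let e₂ := Scheme.Opens.isoOfLE (le_sup_right : V₂ ≤ V)
  have hU : V.ι ⁻¹ᵁ V₁ ⊔ V.ι ⁻¹ᵁ V₂ = ⊤ := by
    rw [← Scheme.Hom.preimage_sup, Scheme.Opens.ι_preimage_self]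
  refine main18192 (V.ι ≫ g) (V.ι ⁻¹ᵁ V₁) (V.ι ⁻¹ᵁ V₂) hU Y₁ Y₂ (e₁.hom ≫ k₁) (e₂.hom ≫ k₂) p₁ p₂
    (isLocImmersion_comp _ _ (isLocImmersion_of_isOpenImmersion e₁.hom) hk₁)
    (isLocImmersion_comp _ _ (isLocImmersion_of_isOpenImmersion e₂.hom) hk₂) ?_ ?_
  · rw [Category.assoc, hkp₁, ← Category.assoc, Scheme.Opens.isoOfLE_hom_ι, Category.assoc]
  · rw [Category.assoc, hkp₂, ← Category.assoc, Scheme.Opens.isoOfLE_hom_ι, Category.assoc]

lemma hasFact_finset [IsNoetherian T] [IsNoetherian S] (g : T ⟶ S) [IsSeparated g] {ι : Type*}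
    (V : ι → T.Opens) (s : Finset ι) (h : ∀ i ∈ s, HasFact ((V i).ι ≫ g)) :
    ∀ W : T.Opens, W = ⨆ i ∈ s, V i → HasFact (W.ι ≫ g) := by
  classical
  induction s using Finset.induction_on with
  | empty =>
    intro W hW
    simp only [Finset.notMem_empty, iSup_false, iSup_bot] at hW
    subst hW
    haveI : IsEmpty ↥((⊥ : T.Opens) : Scheme.{u}) := by
      constructor
      rintro ⟨x, hx⟩
      exact hx
    exact hasFact_of_isEmpty _
  | insert a s ha ih =>
    intro W hW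
    rw [Finset.iSup_insert] at hW
    subst hW
    exact hasFact_sup g _ _ (h a (Finset.mem_insert_self a s))
      (ih (fun i hi => h i (Finset.mem_insert_of_mem hi)) _ rfl)

lemma isLocImmersion_SpecMap_of_isLocalization {C B : Type u} [CommRing C] [CommRing B]
    [Algebra C B] (M : Submonoid C) [IsLocalization M B] :
    LocImm.IsLocImmersion (Spec.map (CommRingCat.ofHom (algebraMap C B))) := by
  refine ⟨?_, ?_⟩
  · rw [HasRingHomProperty.Spec_iff (P := @LocImm.IsLocalizing.{u})]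
    exact RingHom.locally_of isLocHom_respectsIso _ (isLocHom_algebraMap M)
  · exact PrimeSpectrum.localization_comap_injective B M

lemma hasFact_of_affine_essFiniteType {X S : Scheme.{u}} [IsLocallyNoetherian S] (f : X ⟶ S)
    (U : S.affineOpens) (V : X.affineOpens) (e : V.1 ≤ f ⁻¹ᵁ U.1)
    (h : (f.appLE U V e).hom.EssFiniteType) : HasFact (V.1.ι ≫ f) := by
  letI : Algebra Γ(S, U.1) Γ(X, V.1) := (f.appLE U V e).hom.toAlgebra
  haveI : Algebra.EssFiniteType Γ(S, U.1) Γ(X, V.1) := h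
  haveI : IsNoetherianRing Γ(S, U.1) := IsLocallyNoetherian.component_noetherian U
  let C := Algebra.EssFiniteType.subalgebra Γ(S, U.1) Γ(X, V.1)
  haveI : IsNoetherianRing C := Algebra.FiniteType.isNoetherianRing Γ(S, U.1) C
  let φ₁ : Γ(S, U.1) ⟶ CommRingCat.of C := CommRingCat.ofHom (algebraMap Γ(S, U.1) C)
  let φ₂ : CommRingCat.of C ⟶ Γ(X, V.1) := CommRingCat.ofHom (algebraMap C Γ(X, V.1))
  have hφ : φ₁ ≫ φ₂ = f.appLE U V e := by
    ext a
    rfl
  have hk : LocImm.IsLocImmersion (Spec.map φ₂) :=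
    isLocImmersion_SpecMap_of_isLocalization
      (Algebra.EssFiniteType.submonoid Γ(S, U.1) Γ(X, V.1))
  haveI : LocallyOfFiniteType (Spec.map φ₁) := by
    rw [HasRingHomProperty.Spec_iff (P := @LocallyOfFiniteType)]
    exact RingHom.finiteType_algebraMap.mpr inferInstance
  refine ⟨Spec (CommRingCat.of C), V.2.isoSpec.hom ≫ Spec.map φ₂, Spec.map φ₁ ≫ U.2.fromSpec,
    inferInstance,
    isLocImmersion_comp _ _ (isLocImmersion_of_isOpenImmersion V.2.isoSpec.hom) hk,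
    inferInstance, inferInstance, inferInstance, ?_⟩
  rw [Category.assoc, ← Category.assoc (Spec.map φ₂), ← Spec.map_comp, hφ,
    IsAffineOpen.SpecMap_appLE_fromSpec f U.2 V.2 e, ← Category.assoc,
    IsAffineOpen.isoSpec_hom_fromSpec]

theorem main18191 {X S : Scheme.{u}} [IsNoetherian X] [IsNoetherian S] (f : X ⟶ S) [IsSeparated f]
    [EssFT.EssFiniteType f] :
    ∃ (Y : Scheme.{u}) (k : X ⟶ Y) (p : Y ⟶ S), IsNoetherian Y ∧ LocImm.IsLocImmersion k ∧
      IsSeparated p ∧ LocallyOfFiniteType p ∧ QuasiCompact p ∧ k ≫ p = f := by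
  choose U V hxV e hUV using
    (EssFT.LocallyEssFiniteType.exists_appLE_essFiniteType (f := f))
  obtain ⟨t, ht⟩ := isCompact_univ.elim_finite_subcover (fun x : X => ((V x).1 : Set X))
    (fun x => (V x).1.isOpen) (fun x _ => Set.mem_iUnion.mpr ⟨x, hxV x⟩)
  have htop : (⊤ : X.Opens) = ⨆ x ∈ t, (V x).1 := by
    apply le_antisymm
    · intro x _
      obtain ⟨y, hy⟩ := Set.mem_iUnion.mp (ht (Set.mem_univ x))
      obtain ⟨hyt, hxy⟩ := Set.mem_iUnion.mp hy
      simp only [Opens.mem_iSup]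
      exact ⟨y, hyt, hxy⟩
    · exact le_top
  have h1 : HasFact ((⊤ : X.Opens).ι ≫ f) :=
    hasFact_finset f (fun x => (V x).1) t
      (fun x _ => hasFact_of_affine_essFiniteType f (U x) (V x) (e x) (hUV x)) ⊤ htop
  have h2 : HasFact f := by
    have := hasFact_of_iso_comp X.topIso.symm h1
    simpa using this
  exact h2

end Groth.Agent.Lib.Seat88.LocImmFact
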