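import Mathlib
import Groth.Prelude.Def_EssFT
import Groth.Agent.Lib.Seat88LocImmFact
import Groth.Agent.Lib.Helper21EssFT

/-!
# Properties of essentially finite-type morphisms via the factorization (helper88)

* `locallyEssFiniteType_of_isLocalizing`, `essFiniteType_comp_of_isLocImmersion`
* `isLocImmersion_fromSpecStalk`
* `main18201` : extension of a local property `P` from finite-type to essentially finite-type
  separated morphisms.
-/

set_option autoImplicit false
universe u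
open CategoryTheory AlgebraicGeometry TopologicalSpace Limits

namespace Groth.Agent.Lib.Seat88.LocImmProp

open Groth.Agent.Lib.Helper10.LocImmLib Groth.Agent.Lib.Seat88.LocImmSep
  Groth.Agent.Lib.Seat88.LocImmGlue Groth.Agent.Lib.Seat88.LocImmFact

variable {X Y Z W : Scheme.{u}}

lemma locallyEssFiniteType_of_isLocalizing (f : X ⟶ Y) (hf : LocImm.IsLocalizing f) :
    EssFT.LocallyEssFiniteType f := by
  refine ⟨fun x => ?_⟩
  obtain ⟨U, V, hx, e, hloc⟩ := hf x
  refine ⟨U, V, hx, e, ?_⟩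
  letI := (f.appLE U V e).hom.toAlgebra
  obtain ⟨M, hM⟩ := hloc
  exact Algebra.EssFiniteType.of_isLocalization _ M

lemma essFiniteType_comp_of_isLocImmersion [IsNoetherian W] (i : W ⟶ X) (f : X ⟶ Y)
    (hi : LocImm.IsLocImmersion i) [EssFT.EssFiniteType f] : EssFT.EssFiniteType (i ≫ f) := by
  haveI := locallyEssFiniteType_of_isLocalizing i hi.1
  haveI : EssFT.LocallyEssFiniteType (i ≫ f) := Groth.Agent.Lib.Helper21EssFT.comp i f
  exact { }

lemma isLocImmersion_fromSpecStalk (X : Scheme.{u}) (x : X) :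
    LocImm.IsLocImmersion (X.fromSpecStalk x) := by
  obtain ⟨_, ⟨U, hU, rfl⟩, hxU, -⟩ :=
    X.isBasis_affineOpens.exists_subset_of_mem_open (Set.mem_univ x) isOpen_univ
  rw [← hU.fromSpecStalk_eq_fromSpecStalk hxU]
  letI := X.presheaf.algebra_section_stalk ⟨x, hxU⟩
  haveI := hU.isLocalization_stalk ⟨x, hxU⟩
  have h1 : LocImm.IsLocImmersion
      (Spec.map (CommRingCat.ofHom (algebraMap Γ(X, U) (X.presheaf.stalk x)))) :=
    isLocImmersion_SpecMap_of_isLocalization (hU.primeIdealOf ⟨x, hxU⟩).asIdeal.primeCompl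
  exact isLocImmersion_comp _ _ h1 (isLocImmersion_of_isOpenImmersion hU.fromSpec)

section PropSec

variable (P : MorphismProperty Scheme.{u})
  (hα : ∀ {W X Y : Scheme.{u}} [IsNoetherian W] [IsNoetherian X] [IsNoetherian Y] (i : W ⟶ X)
    (f : X ⟶ Y) [IsSeparated f] [EssFT.EssFiniteType f], LocImm.IsLocImmersion i → P f → P (i ≫ f))

include hα in
lemma prop_fromSpecStalk_iff [IsNoetherian X] [IsNoetherian Z] [IsNoetherian Y] (k : X ⟶ Z)
    (hk : LocImm.IsLocImmersion k) (p : Z ⟶ Y) [IsSeparated p] [EssFT.EssFiniteType p] (x : X) :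
    P (X.fromSpecStalk x ≫ k ≫ p) ↔ P (Z.fromSpecStalk (k x) ≫ p) := by
  haveI := isIso_stalkMap_of_isLocalizing k hk.1 x
  haveI : Mono k := Groth.Agent.Lib.Helper27.LocImmLib.mono_of_isLocImmersion k hk
  let σ := Spec.map (k.stalkMap x)
  have e : σ ≫ Z.fromSpecStalk (k x) = X.fromSpecStalk x ≫ k :=
    Scheme.SpecMap_stalkMap_fromSpecStalk k
  haveI : EssFT.EssFiniteType (Z.fromSpecStalk (k x) ≫ p) :=
    essFiniteType_comp_of_isLocImmersion _ p (isLocImmersion_fromSpecStalk Z (k x))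
  haveI : EssFT.EssFiniteType (k ≫ p) := essFiniteType_comp_of_isLocImmersion k p hk
  haveI : EssFT.EssFiniteType (X.fromSpecStalk x ≫ k ≫ p) :=
    essFiniteType_comp_of_isLocImmersion _ (k ≫ p) (isLocImmersion_fromSpecStalk X x)
  constructor
  · intro h
    have h2 := hα (inv σ) (X.fromSpecStalk x ≫ k ≫ p) (isLocImmersion_of_isOpenImmersion _) h
    rwa [← Category.assoc (X.fromSpecStalk x), ← e, Category.assoc, IsIso.inv_hom_id_assoc] at h2
  · intro h
    have h2 := hα σ (Z.fromSpecStalk (k x) ≫ p) (isLocImmersion_of_isOpenImmersion _) h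
    rwa [← Category.assoc, e, Category.assoc] at h2

include hα in
theorem main18201
    (hβ₁ : ∀ {X Y : Scheme.{u}} [IsNoetherian X] [IsNoetherian Y] (f : X ⟶ Y) [IsSeparated f]
      [LocallyOfFiniteType f], (∀ x : X, P (X.fromSpecStalk x ≫ f)) → P f)
    (hβ₂ : ∀ {X Y : Scheme.{u}} [IsNoetherian X] [IsNoetherian Y] (f : X ⟶ Y) [IsSeparated f]
      [LocallyOfFiniteType f], IsOpen {x : X | P (X.fromSpecStalk x ≫ f)})
    {X Y : Scheme.{u}} [IsNoetherian X] [IsNoetherian Y] (f : X ⟶ Y) [IsSeparated f]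
    [EssFT.EssFiniteType f] :
    ((∀ x : X, P (X.fromSpecStalk x ≫ f)) → P f) ∧ IsOpen {x : X | P (X.fromSpecStalk x ≫ f)} ∧
      (P f → ∃ (Z : Scheme.{u}) (i : X ⟶ Z) (h : Z ⟶ Y), IsNoetherian Z ∧
        LocImm.IsLocImmersion i ∧ IsSeparated h ∧ LocallyOfFiniteType h ∧ QuasiCompact h ∧ P h ∧
        i ≫ h = f) := by
  obtain ⟨Z, k, p, hZ, hk, hs, hft, hq, hkp⟩ := main18191 f
  haveI : EssFT.EssFiniteType p := essFiniteType_of_locallyOfFiniteType p
  let G : Set Z := {z | P (Z.fromSpecStalk z ≫ p)}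
  have hG : IsOpen G := hβ₂ p
  have hiff : ∀ x : X, P (X.fromSpecStalk x ≫ f) ↔ k x ∈ G := fun x => by
    rw [← hkp]; exact prop_fromSpecStalk_iff P hα k hk p x
  have key : (∀ x : X, P (X.fromSpecStalk x ≫ f)) → ∃ (Z' : Scheme.{u}) (i : X ⟶ Z') (h : Z' ⟶ Y),
      IsNoetherian Z' ∧ LocImm.IsLocImmersion i ∧ IsSeparated h ∧ LocallyOfFiniteType h ∧
      QuasiCompact h ∧ P h ∧ i ≫ h = f := by
    intro hall
    let GO : Z.Opens := ⟨G, hG⟩
    have hrange : Set.range (fun x => k x) ⊆ (GO : Set Z) := by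
      rintro _ ⟨x, rfl⟩
      exact (hiff x).mp (hall x)
    obtain ⟨k', hk'ι, hk'⟩ := exists_isLocImmersion_lift k hk GO hrange
    have hP : P (GO.ι ≫ p) := by
      apply hβ₁
      intro z'
      rw [prop_fromSpecStalk_iff P hα GO.ι (isLocImmersion_of_isOpenImmersion _) p z']
      exact z'.2
    exact ⟨GO, k', GO.ι ≫ p, inferInstance, hk', inferInstance, inferInstance, inferInstance, hP,
      by rw [← Category.assoc, hk'ι, hkp]⟩
  refine ⟨fun hall => ?_, ?_, fun hPf => ?_⟩
  · obtain ⟨Z', i, h, hZ', hi, hs', hft', hq', hPh, hih⟩ := key hall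
    haveI : EssFT.EssFiniteType h := essFiniteType_of_locallyOfFiniteType h
    rw [← hih]
    exact hα i h hi hPh
  · have : {x : X | P (X.fromSpecStalk x ≫ f)} = k ⁻¹' G := by
      ext x
      exact hiff x
    rw [this]
    exact hG.preimage k.continuous
  · apply key
    intro x
    exact hα (X.fromSpecStalk x) f (isLocImmersion_fromSpecStalk X x) hPf

end PropSec

end Groth.Agent.Lib.Seat88.LocImmProp
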