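import Mathlib

/-!
# Lifting étale algebras along ring maps that are surjective on stalks and embeddings on spectra

`exists_etale_lift`: for `ψ : A → Ā` inducing an embedding on spectra and surjective on stalks
(i.e. `Spec ψ` is a preimmersion), an étale `Ā`-algebra `C` and a prime `q` of `C`, there are
an étale `A`-algebra `B` and a localization `C → C'` away from an element outside `q` such that
`C' = Ā ⊗_A B`.
-/

set_option autoImplicit false
set_option linter.style.haveILetI false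
universe u

open Polynomial TensorProduct

namespace Groth.Agent.Lib.Seat88.PreimmLiftAlg

section Spread

variable {A Ā : Type u} [CommRing A] [CommRing Ā] (ψ : A →+* Ā)

/-- finitely many elements have a common local expression near a prime -/
lemma exists_common (hψ : ψ.SurjectiveOnStalks) (P : Ideal Ā) [P.IsPrime] (s : Finset Ā) :
    ∃ (c : Ā) (r : A), c ∉ P ∧ ψ r ∉ P ∧ ∀ y ∈ s, ∃ a : A, c * ψ r * y = c * ψ a := by
  classical
  induction s using Finset.induction_on with
  | empty =>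
    have h1 : (1 : Ā) ∉ P := (Ideal.ne_top_iff_one P).mp (Ideal.IsPrime.ne_top inferInstance)
    exact ⟨1, 1, h1, by rwa [map_one], by simp⟩
  | insert y s hy ih =>
    obtain ⟨c, r, hc, hr, h⟩ := ih
    obtain ⟨x₀, r₀, c₀, hc₀, hr₀, e⟩ :=
      (RingHom.surjective_localRingHom_iff (f := ψ) P).mp (hψ P inferInstance) y
    refine ⟨c * c₀, r * r₀, Ideal.IsPrime.mul_notMem inferInstance hc hc₀, ?_, ?_⟩
    · rw [map_mul]; exact Ideal.IsPrime.mul_notMem inferInstance hr hr₀
    · intro z hz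
      rcases Finset.mem_insert.mp hz with rfl | hz
      · refine ⟨r * x₀, ?_⟩
        rw [map_mul, map_mul]
        linear_combination (c * ψ r) * e
      · obtain ⟨a, ha⟩ := h z hz
        refine ⟨r₀ * a, ?_⟩
        rw [map_mul, map_mul]
        linear_combination (c₀ * ψ r₀) * ha

/-- a basic open neighbourhood pulled back from `Spec A` inside `D(c)` -/
lemma exists_basicOpen (hemb : Topology.IsEmbedding (PrimeSpectrum.comap ψ)) (P : Ideal Ā) [P.IsPrime]
    (c : Ā) (hc : c ∉ P) : ∃ (t : A) (n : ℕ) (d : Ā), ψ t ∉ P ∧ ψ t ^ n = c * d := by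
  let P' : PrimeSpectrum Ā := ⟨P, inferInstance⟩
  have hopen : IsOpen ((PrimeSpectrum.basicOpen c : TopologicalSpace.Opens _) : Set (PrimeSpectrum Ā)) :=
    (PrimeSpectrum.basicOpen c).2
  obtain ⟨O, hO, hOc⟩ := hemb.toIsInducing.isOpen_iff.mp hopen
  have hP : PrimeSpectrum.comap ψ P' ∈ O := by
    have : P' ∈ (PrimeSpectrum.comap ψ) ⁻¹' O := by rw [hOc]; exact hc
    exact this
  obtain ⟨_, ⟨t, rfl⟩, htP, htO⟩ :=
    PrimeSpectrum.isTopologicalBasis_basic_opens.exists_subset_of_mem_open hP hO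
  have hle : PrimeSpectrum.basicOpen (ψ t) ≤ PrimeSpectrum.basicOpen c := by
    intro Q hQ
    have h1 : PrimeSpectrum.comap ψ Q ∈ O := htO hQ
    have h2 : Q ∈ (PrimeSpectrum.comap ψ) ⁻¹' O := h1
    rw [hOc] at h2
    exact h2
  rw [PrimeSpectrum.basicOpen_le_basicOpen_iff] at hle
  obtain ⟨n, hn⟩ := hle
  obtain ⟨d, hd⟩ := Ideal.mem_span_singleton'.mp hn
  exact ⟨t, n, d, htP, by rw [← hd, mul_comm]⟩

/-- finitely many elements become fractions with denominator a power of `ψ b`, `b` from `A` -/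
lemma exists_away (hemb : Topology.IsEmbedding (PrimeSpectrum.comap ψ)) (hψ : ψ.SurjectiveOnStalks)
    (P : Ideal Ā) [P.IsPrime] (s : Finset Ā) :
    ∃ b : A, ψ b ∉ P ∧ ∀ y ∈ s, ∃ (a : A) (n : ℕ), ψ b ^ n * (ψ b * y - ψ a) = 0 := by
  obtain ⟨c, r, hc, hr, h⟩ := exists_common ψ hψ P s
  obtain ⟨t, n, d, ht, hn⟩ := exists_basicOpen ψ hemb P c hc
  refine ⟨t * r, ?_, ?_⟩
  · rw [map_mul]; exact Ideal.IsPrime.mul_notMem inferInstance ht hr
  · intro y hy
    obtain ⟨a, ha⟩ := h y hy
    refine ⟨a * t, n, ?_⟩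
    rw [map_mul, map_mul]
    linear_combination (ψ r ^ n * ψ t * d) * ha + (ψ r ^ n * ψ t * (ψ r * y - ψ a)) * hn

end Spread

section Away

variable {A Ā : Type u} [CommRing A] [CommRing Ā] (ψ : A →+* Ā) (b : A)

lemma mem_range_awayMap (y : Ā) (a : A) (n : ℕ) (h : ψ b ^ n * (ψ b * y - ψ a) = 0) :
    algebraMap Ā (Localization.Away (ψ b)) y ∈ Set.range (Localization.awayMap ψ b) := by
  refine ⟨IsLocalization.mk' _ a ⟨b, Submonoid.mem_powers b⟩, ?_⟩
  rw [Localization.awayMap, IsLocalization.Away.map, IsLocalization.map_mk',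
    IsLocalization.mk'_eq_iff_eq_mul, ← map_mul,
    IsLocalization.eq_iff_exists (Submonoid.powers (ψ b))]
  refine ⟨⟨ψ b ^ n, n, rfl⟩, ?_⟩
  simp only
  linear_combination (-1 : Ā) * h

lemma map_mem_lifts (p : Ā[X])
    (hp : ∀ y ∈ p.coeffs, ∃ (a : A) (n : ℕ), ψ b ^ n * (ψ b * y - ψ a) = 0) :
    p.map (algebraMap Ā (Localization.Away (ψ b))) ∈ Polynomial.lifts (Localization.awayMap ψ b) := by
  rw [Polynomial.lifts_iff_coeff_lifts]
  intro k
  rw [Polynomial.coeff_map]
  by_cases h0 : p.coeff k = 0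
  · rw [h0, map_zero]
    exact ⟨0, map_zero _⟩
  · obtain ⟨a, n, h⟩ := hp _ (Polynomial.coeff_mem_coeffs h0)
    exact mem_range_awayMap ψ b _ a n h

end Away

section Core

variable {A' Ā' C' : Type u} [CommRing A'] [CommRing Ā'] [CommRing C'] [Algebra A' Ā']
  [Algebra Ā' C'] [Algebra A' C'] [IsScalarTower A' Ā' C']
  (Pb : StandardEtalePresentation Ā' C') (f g : A'[X]) (hf : f.Monic)

/-- the standard étale pair `(f, f' g)` -/
noncomputable def liftPair : StandardEtalePair A' :=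
  ⟨f, hf, derivative f * g, ⟨g, 0, 1, by ring⟩⟩

variable (hfm : f.map (algebraMap A' Ā') = Pb.f) (hgm : g.map (algebraMap A' Ā') = Pb.g)

include hfm hgm in
lemma hasMap_liftPair : (liftPair f g hf).HasMap Pb.x := by
  have h1 : ∀ p : A'[X], aeval Pb.x p = aeval Pb.x (p.map (algebraMap A' Ā')) := fun p =>
    (Polynomial.aeval_map_algebraMap Ā' Pb.x p).symm
  refine ⟨?_, ?_⟩
  · change aeval Pb.x f = 0
    rw [h1, hfm]
    exact Pb.hasMap.1
  · change IsUnit (aeval Pb.x (derivative f * g))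
    rw [map_mul]
    refine IsUnit.mul ?_ ?_
    · rw [h1, ← Polynomial.derivative_map, hfm]
      exact Pb.hasMap.isUnit_derivative_f
    · rw [h1, hgm]
      exact Pb.hasMap.2

attribute [local instance] Algebra.TensorProduct.rightAlgebra in
include hfm hgm in
/-- the standard étale algebra of `(f, f' g)` over `A'` base changes to `C'` -/
theorem exists_isPushout :
    ∃ (_ : Algebra (liftPair f g hf).Ring C') (_ : IsScalarTower A' (liftPair f g hf).Ring C'),
      Algebra.IsPushout A' Ā' (liftPair f g hf).Ring C' := by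
  have hmap := hasMap_liftPair Pb f g hf hfm hgm
  let P := liftPair f g hf
  let φ : P.Ring →ₐ[A'] C' := P.lift Pb.x hmap
  let alg : Algebra P.Ring C' := φ.toRingHom.toAlgebra
  have tower : IsScalarTower A' P.Ring C' :=
    IsScalarTower.of_algebraMap_eq' (φ.comp_algebraMap).symm
  refine ⟨alg, tower, ?_⟩
  let incl : P.Ring →ₐ[A'] Ā' ⊗[A'] P.Ring := Algebra.TensorProduct.includeRight
  have h1 : ∀ p : A'[X], aeval ((1 : Ā') ⊗ₜ[A'] P.X) (p.map (algebraMap A' Ā')) =
      incl (aeval P.X p) := by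
    intro p
    rw [Polynomial.aeval_map_algebraMap, ← Polynomial.aeval_algHom_apply]
    rfl
  have hG : Pb.P.HasMap ((1 : Ā') ⊗ₜ[A'] P.X) := by
    refine ⟨?_, ?_⟩
    · rw [← hfm, h1]
      have : aeval P.X f = 0 := P.hasMap_X.1
      rw [this, map_zero]
    · rw [← hgm, h1]
      have h2 : IsUnit (aeval P.X (derivative f * g)) := P.hasMap_X.2
      rw [map_mul] at h2
      exact (isUnit_of_mul_isUnit_right h2).map incl
  let F : Ā' ⊗[A'] P.Ring →ₐ[Ā'] C' :=
    Algebra.TensorProduct.lift (Algebra.ofId Ā' C') φ (fun _ _ => Commute.all _ _)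
  let G : C' →ₐ[Ā'] Ā' ⊗[A'] P.Ring := (Pb.P.lift _ hG).comp Pb.equivRing.toAlgHom
  have hFG : F.comp G = AlgHom.id Ā' C' := by
    apply Pb.hom_ext
    simp [F, G, φ]
  have key : ((G.restrictScalars A').comp φ) = incl := by
    apply StandardEtalePair.hom_ext
    simp [G, φ, incl]
  have hGF : G.comp F = AlgHom.id Ā' _ := by
    apply Algebra.TensorProduct.ext'
    intro a y
    have hk : G (φ y) = (1 : Ā') ⊗ₜ[A'] y := congr($key y)
    have hF : F (a ⊗ₜ y) = algebraMap Ā' C' a * φ y := by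
      simp [F, Algebra.ofId_apply]
    change G (F (a ⊗ₜ y)) = a ⊗ₜ y
    rw [hF, map_mul, AlgHom.commutes, hk, Algebra.TensorProduct.algebraMap_apply,
      Algebra.TensorProduct.tmul_mul_tmul, mul_one, one_mul]
    rfl
  let e : (Ā' ⊗[A'] P.Ring) ≃ₐ[Ā'] C' := AlgEquiv.ofAlgHom F G hFG hGF
  refine Algebra.IsPushout.of_equiv (R := A') (R' := Ā') (S := P.Ring) (S' := Ā' ⊗[A'] P.Ring) e ?_
  ext y
  change F ((1 : Ā') ⊗ₜ[A'] y) = φ y
  simp [F]

end Core

section Main

variable {A Ā C : Type u} [CommRing A] [CommRing Ā] [CommRing C]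

attribute [local instance] Algebra.TensorProduct.rightAlgebra in
theorem exists_etale_lift (ψ : A →+* Ā) (γ : Ā →+* C)
    (hemb : Topology.IsEmbedding (PrimeSpectrum.comap ψ)) (hψ : ψ.SurjectiveOnStalks)
    (hγ : γ.Etale) (q : Ideal C) [q.IsPrime] :
    ∃ (B C' : Type u) (_ : CommRing B) (_ : CommRing C') (β : A →+* B) (φ : B →+* C')
      (l : C →+* C') (c₀ : C), β.Etale ∧ c₀ ∉ q ∧
      (letI := l.toAlgebra; IsLocalization.Away c₀ C') ∧
      CategoryTheory.IsPushout (CommRingCat.ofHom ψ) (CommRingCat.ofHom β)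
        (CommRingCat.ofHom (l.comp γ)) (CommRingCat.ofHom φ) := by
  classical
  algebraize [γ]
  obtain ⟨c, hc, hstd⟩ := Algebra.IsEtaleAt.exists_isStandardEtale (R := Ā) q
  let C₁ := Localization.Away c
  obtain ⟨Pb⟩ := hstd.nonempty_standardEtalePresentation
  have hP₀ : (q.comap γ).IsPrime := inferInstance
  obtain ⟨b, hb, hs⟩ := exists_away ψ hemb hψ (q.comap γ) (Pb.f.coeffs ∪ Pb.g.coeffs)
  let A' := Localization.Away b
  let Ā' := Localization.Away (ψ b)
  let ψ' : A' →+* Ā' := Localization.awayMap ψ b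
  letI : Algebra A' Ā' := ψ'.toAlgebra
  let C'' := Ā' ⊗[Ā] C₁
  let Pb' : StandardEtalePresentation Ā' C'' := Pb.baseChange
  have hPf : Pb'.f = Pb.f.map (algebraMap Ā Ā') := rfl
  have hPg : Pb'.g = Pb.g.map (algebraMap Ā Ā') := rfl
  have hfl : Pb'.f ∈ Polynomial.lifts ψ' := by
    rw [hPf]
    exact map_mem_lifts ψ b Pb.f (fun y hy => hs y (Finset.mem_union_left _ hy))
  have hgl : Pb'.g ∈ Polynomial.lifts ψ' := by
    rw [hPg]
    exact map_mem_lifts ψ b Pb.g (fun y hy => hs y (Finset.mem_union_right _ hy))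
  obtain ⟨f, hf1, hf2, hf3⟩ := Polynomial.lifts_and_natDegree_eq_and_monic hfl Pb'.monic_f
  obtain ⟨g, hg⟩ := hgl
  have hcomm : SMulCommClass Ā A' Ā' := inferInstance
  have halgmap : algebraMap A' C'' = (algebraMap Ā' C'').comp ψ' := rfl
  obtain ⟨algB, towB, hpo⟩ := exists_isPushout Pb' f g hf3 hf1 hg
  let B := (liftPair f g hf3).Ring
  let β : A →+* B := (algebraMap A' B).comp (algebraMap A A')
  let l : C →+* C'' := (algebraMap C₁ C'').comp (algebraMap C C₁)
  refine ⟨B, C'', inferInstance, inferInstance, β, algebraMap B C'', l, c * γ (ψ b), ?_, ?_, ?_, ?_⟩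
  · refine RingHom.Etale.stableUnderComposition _ _ ?_ ?_
    · exact RingHom.etale_algebraMap.mpr (Algebra.Etale.of_isLocalizationAway b)
    · exact RingHom.etale_algebraMap.mpr inferInstance
  · refine Ideal.IsPrime.mul_notMem inferInstance hc ?_
    exact hb
  · letI : Algebra C C'' := l.toAlgebra
    haveI : IsScalarTower C C₁ C'' := IsScalarTower.of_algebraMap_eq' (R := C) (S := C₁) (A := C'') rfl
    haveI h1 : IsLocalization.Away (algebraMap Ā C₁ (ψ b)) C'' :=
      IsLocalization.Away.tensorRight (R := Ā) (S := C₁) (A := Ā') (r := ψ b)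
    have h2 : algebraMap Ā C₁ (ψ b) = algebraMap C C₁ (γ (ψ b)) :=
      IsScalarTower.algebraMap_apply Ā C C₁ (ψ b)
    rw [h2] at h1
    exact IsLocalization.Away.mul' C₁ C'' c (γ (ψ b))
  · have H : ψ'.comp (algebraMap A A') = (algebraMap Ā Ā').comp ψ := IsLocalization.map_comp _
    haveI : IsLocalization ((Submonoid.powers b).map ψ) Ā' := by
      rw [Submonoid.map_powers]
      infer_instance
    have sq1 := CommRingCat.isPushout_of_isLocalization ψ ψ' H (Submonoid.powers b)
    have sq2 := CommRingCat.isPushout_of_isPushout A' Ā' B C''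
    have sq := sq1.paste_vert sq2
    have hl : l.comp γ = (algebraMap Ā' C'').comp (algebraMap Ā Ā') := by
      ext a
      change (1 : Ā') ⊗ₜ[Ā] (algebraMap C C₁ (γ a)) = (algebraMap Ā Ā' a) ⊗ₜ[Ā] (1 : C₁)
      have h3 : algebraMap C C₁ (γ a) = algebraMap Ā C₁ a :=
        (IsScalarTower.algebraMap_apply Ā C C₁ a).symm
      rw [h3, Algebra.algebraMap_eq_smul_one, Algebra.algebraMap_eq_smul_one (A := Ā'),
        TensorProduct.smul_tmul]
    rw [hl]
    exact sq

end Main

end Groth.Agent.Lib.Seat88.PreimmLiftAlg
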