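import Mathlib
import Groth.Prelude.Def_MoreMor
import Groth.Agent.Lib.Seat88PreimmLiftAlg

/-!
# Local lifting of étale morphisms along preimmersions

`exists_etale_lift`: for a preimmersion `ι : Z ⟶ X`, an étale `g : V ⟶ Z` and `v : V`, there is an
étale `p : U ⟶ X` whose base change to `Z` is an open neighbourhood of `v` in `V`.
-/

set_option autoImplicit false
set_option linter.style.haveILetI false
universe u
open CategoryTheory CategoryTheory.Limits AlgebraicGeometry Topology TopologicalSpace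

namespace Groth.Agent.Lib.Seat88.PreimmLift

/-- around every point of the source of a preimmersion there is an affine open of the target
with affine preimage. -/
theorem exists_affine_preimage_affine {Z X : Scheme.{u}} (ι : Z ⟶ X) [IsPreimmersion ι] (z : Z) :
    ∃ X₀ : X.Opens, IsAffineOpen X₀ ∧ ι z ∈ X₀ ∧ IsAffineOpen (ι ⁻¹ᵁ X₀) := by
  obtain ⟨X₁, hX₁, hzX₁, -⟩ :=
    exists_isAffineOpen_mem_and_subset (x := ι z) (U := ⊤) (Opens.mem_top _)
  obtain ⟨W₁, hW₁, hzW₁, hW₁le⟩ :=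
    exists_isAffineOpen_mem_and_subset (x := z) (U := ι ⁻¹ᵁ X₁) hzX₁
  obtain ⟨O, hO, hOW⟩ := ι.isEmbedding.isInducing.isOpen_iff.mp W₁.isOpen
  have hzO : ι z ∈ O := by
    have : z ∈ ι ⁻¹' O := by rw [hOW]; exact hzW₁
    exact this
  obtain ⟨t, ht1, ht2⟩ := hX₁.exists_basicOpen_le (V := ⟨O, hO⟩) ⟨ι z, hzO⟩ hzX₁
  refine ⟨X.basicOpen t, hX₁.basicOpen t, ht2, ?_⟩
  have hle : ι ⁻¹ᵁ (X.basicOpen t) ≤ W₁ := by
    intro y hy
    have h1 : ι y ∈ O := ht1 hy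
    have h2 : y ∈ ι ⁻¹' O := h1
    rw [hOW] at h2
    exact h2
  have hW₁le' : W₁ ≤ ι ⁻¹ᵁ X₁ := hW₁le
  have heq : ι ⁻¹ᵁ (X.basicOpen t) =
      Z.basicOpen (Z.presheaf.map (homOfLE hW₁le').op (ι.app X₁ t)) := by
    rw [Scheme.basicOpen_res, ← Scheme.preimage_basicOpen]
    exact (inf_eq_right.mpr hle).symm
  rw [heq]
  exact hW₁.basicOpen _

/-- **Local lifting of étale morphisms along a preimmersion.** -/
theorem exists_etale_lift {Z X V : Scheme.{u}} (ι : Z ⟶ X) [IsPreimmersion ι] (g : V ⟶ Z)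
    [Etale g] (v : V) :
    ∃ (U : Scheme.{u}) (p : U ⟶ X) (V₂ : Scheme.{u}) (j : V₂ ⟶ V) (a : V₂ ⟶ U) (v₂ : V₂),
      Etale p ∧ IsOpenImmersion j ∧ j v₂ = v ∧ IsPullback a (j ≫ g) p ι := by
  obtain ⟨X₀, hX₀, hzX₀, hW⟩ := exists_affine_preimage_affine ι (g v)
  obtain ⟨V₀, hV₀, hvV₀, hV₀le⟩ :=
    exists_isAffineOpen_mem_and_subset (x := v) (U := g ⁻¹ᵁ (ι ⁻¹ᵁ X₀)) hzX₀
  have hV₀le' : V₀ ≤ g ⁻¹ᵁ (ι ⁻¹ᵁ X₀) := hV₀le
  let ψ : Γ(X, X₀) ⟶ Γ(Z, ι ⁻¹ᵁ X₀) := ι.appLE X₀ (ι ⁻¹ᵁ X₀) le_rfl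
  let γ : Γ(Z, ι ⁻¹ᵁ X₀) ⟶ Γ(V, V₀) := g.appLE (ι ⁻¹ᵁ X₀) V₀ hV₀le'
  have hψ1 : Spec.map ψ ≫ hX₀.fromSpec = hW.fromSpec ≫ ι :=
    IsAffineOpen.SpecMap_appLE_fromSpec ι hX₀ hW le_rfl
  have hγ1 : Spec.map γ ≫ hW.fromSpec = hV₀.fromSpec ≫ g :=
    IsAffineOpen.SpecMap_appLE_fromSpec g hW hV₀ hV₀le'
  have hpre : IsPreimmersion (Spec.map ψ) := by
    haveI : IsPreimmersion (Spec.map ψ ≫ hX₀.fromSpec) := by rw [hψ1]; infer_instance
    exact IsPreimmersion.of_comp (Spec.map ψ) hX₀.fromSpec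
  obtain ⟨hemb, hsurj⟩ := (IsPreimmersion.SpecMap_iff ψ).mp hpre
  have hγet : γ.hom.Etale :=
    HasRingHomProperty.appLE (P := @Etale) g inferInstance ⟨_, hW⟩ ⟨V₀, hV₀⟩ hV₀le'
  let q := hV₀.primeIdealOf ⟨v, hvV₀⟩
  obtain ⟨B, C', _, _, β, φ, l, c₀, hβ, hc₀, hloc, hpo⟩ :=
    Groth.Agent.Lib.Seat88.PreimmLiftAlg.exists_etale_lift ψ.hom γ.hom hemb hsurj hγet q.asIdeal
  letI : Algebra (Γ(V, V₀)) C' := l.toAlgebra
  haveI : IsLocalization.Away c₀ C' := hloc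
  have hjl : IsOpenImmersion (Spec.map (CommRingCat.ofHom l)) :=
    IsOpenImmersion.of_isLocalization (R := Γ(V, V₀)) (S := C') c₀
  have hpβ : Etale (Spec.map (CommRingCat.ofHom β)) :=
    (HasRingHomProperty.Spec_iff (P := @Etale)).mpr hβ
  -- the point
  have hq : q ∈ Set.range (PrimeSpectrum.comap (algebraMap (Γ(V, V₀)) C')) := by
    rw [PrimeSpectrum.localization_away_comap_range C' c₀]
    exact hc₀
  obtain ⟨v₂, hv₂⟩ := hq
  refine ⟨Spec (CommRingCat.of B), Spec.map (CommRingCat.ofHom β) ≫ hX₀.fromSpec,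
    Spec (CommRingCat.of C'), Spec.map (CommRingCat.ofHom l) ≫ hV₀.fromSpec,
    Spec.map (CommRingCat.ofHom φ), v₂, inferInstance, inferInstance, ?_, ?_⟩
  · rw [Scheme.Hom.comp_apply]
    have h1 : Spec.map (CommRingCat.ofHom l) v₂ = q := hv₂
    rw [h1]
    exact hV₀.fromSpec_primeIdealOf ⟨v, hvV₀⟩
  · have sq1 := isPullback_SpecMap_of_isPushout _ _ _ _ hpo
    have H' : ι ⁻¹ᵁ hX₀.fromSpec.opensRange = hW.fromSpec.opensRange := by
      rw [hX₀.opensRange_fromSpec, hW.opensRange_fromSpec]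
    have sq2 := IsOpenImmersion.isPullback (Spec.map ψ) hW.fromSpec hX₀.fromSpec ι hψ1.symm H'
    have sq := (sq1.paste_horiz sq2.flip).flip
    have e : Spec.map (CommRingCat.ofHom (l.comp γ.hom)) ≫ hW.fromSpec =
        (Spec.map (CommRingCat.ofHom l) ≫ hV₀.fromSpec) ≫ g := by
      rw [Category.assoc, ← hγ1, ← Category.assoc, ← Spec.map_comp]
      rfl
    rw [← e]
    exact sq

/-- The cartesian square expressing the map of fibres as a base change of `f`. -/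
theorem isPullback_fiberMap {X Y S : Scheme.{u}} (f : X ⟶ Y) (g : Y ⟶ S) (s : S) :
    IsPullback ((f ≫ g).fiberι s) (MoreMor.fiberMap f g s) f (g.fiberι s) := by
  refine IsPullback.of_bot ?_ (pullback.lift_fst _ _ _).symm
    (IsPullback.of_hasPullback g (S.fromSpecResidueField s))
  have h : MoreMor.fiberMap f g s ≫ pullback.snd g (S.fromSpecResidueField s) =
      pullback.snd (f ≫ g) (S.fromSpecResidueField s) := pullback.lift_snd _ _ _
  rw [h]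
  exact IsPullback.of_hasPullback (f ≫ g) (S.fromSpecResidueField s)

end Groth.Agent.Lib.Seat88.PreimmLift
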