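import Mathlib
import Groth.Prelude.Def_W4c2gaugesfzipsQuiet

/-!
# Root towers as ring homomorphisms: base change, composition, lifting along surjections

`IsTowerHom p n φ` is the ring-hom version of `Quiet.IsRootTower`.  It is stable under pushouts
in `CommRingCat`, under composition, and lifts along surjections of the base ring.
-/

set_option autoImplicit false
set_option linter.style.haveILetI false
set_option linter.unusedSectionVars false
universe u

open CategoryTheory CategoryTheory.Limits Polynomial Quiet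

namespace Groth.Agent.Lib.Seat88.QuietTower

/-- ring-hom version of `Quiet.IsRootTower` -/
def IsTowerHom (p : ℕ) : ℕ → ∀ {A B : Type u} [CommRing A] [CommRing B], (A →+* B) → Prop
  | 0, _, _, _, _, φ => Function.Bijective φ
  | n + 1, A, B, _, _, φ => ∃ (a : A) (ψ : RootRing p A a →+* B),
      ψ.comp (AdjoinRoot.of _) = φ ∧ IsTowerHom p n ψ

variable {p : ℕ}

theorem isRootTower_iff (n : ℕ) : ∀ (A B : Type u) [CommRing A] [CommRing B] [Algebra A B],
    IsRootTower p n A B ↔ IsTowerHom p n (algebraMap A B) := by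
  induction n with
  | zero =>
    intro A B _ _ _
    constructor
    · rintro ⟨e⟩
      have h : (algebraMap A B : A → B) = e.symm ∘ (algebraMap A A) := by
        funext a
        simp
      show Function.Bijective (algebraMap A B)
      rw [h]
      exact e.symm.bijective.comp Function.bijective_id
    · intro h
      exact ⟨(AlgEquiv.ofBijective (Algebra.ofId A B) h).symm⟩
  | succ n ih =>
    intro A B _ _ _
    constructor
    · rintro ⟨a, inst, hst, ht⟩
      refine ⟨a, algebraMap _ B, ?_, (ih _ B).mp ht⟩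
      ext x
      simp only [RingHom.comp_apply]
      rw [← AdjoinRoot.algebraMap_eq, ← IsScalarTower.algebraMap_apply]
    · rintro ⟨a, ψ, hψ, ht⟩
      letI := ψ.toAlgebra
      refine ⟨a, ψ.toAlgebra, IsScalarTower.of_algebraMap_eq' ?_, (ih _ B).mpr ht⟩
      rw [RingHom.algebraMap_toAlgebra, AdjoinRoot.algebraMap_eq, hψ]

/-! ### The base change of an elementary extraction -/

/-- the map of root rings induced by a ring map -/
noncomputable def rootMap (p : ℕ) {A A' : Type u} [CommRing A] [CommRing A'] (f : A →+* A')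
    (a : A) : RootRing p A a →+* RootRing p A' (f a) :=
  AdjoinRoot.map f _ _ (by simp)

@[simp] lemma rootMap_of {A A' : Type u} [CommRing A] [CommRing A'] (f : A →+* A') (a x : A) :
    rootMap p f a (AdjoinRoot.of _ x) = AdjoinRoot.of _ (f x) := by
  simp [rootMap]

@[simp] lemma rootMap_root {A A' : Type u} [CommRing A] [CommRing A'] (f : A →+* A') (a : A) :
    rootMap p f a (AdjoinRoot.root _) = AdjoinRoot.root _ := by
  simp [rootMap]

lemma root_pow {A : Type u} [CommRing A] (a : A) :
    (AdjoinRoot.root (X ^ p - C a : A[X])) ^ p = AdjoinRoot.of _ a := by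
  have h := AdjoinRoot.eval₂_root (X ^ p - C a : A[X])
  simp only [eval₂_sub, eval₂_pow, eval₂_X, eval₂_C] at h
  exact sub_eq_zero.mp h

theorem rootMap_surjective {A A' : Type u} [CommRing A] [CommRing A'] (f : A →+* A')
    (hf : Function.Surjective f) (a : A) : Function.Surjective (rootMap p f a) := by
  intro x
  induction x using AdjoinRoot.induction_on with
  | ih q =>
    induction q using Polynomial.induction_on' with
    | add q₁ q₂ h₁ h₂ =>
      obtain ⟨y₁, hy₁⟩ := h₁
      obtain ⟨y₂, hy₂⟩ := h₂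
      exact ⟨y₁ + y₂, by rw [map_add, hy₁, hy₂, map_add]⟩
    | monomial k c =>
      obtain ⟨c', rfl⟩ := hf c
      refine ⟨AdjoinRoot.of _ c' * AdjoinRoot.root _ ^ k, ?_⟩
      rw [map_mul, map_pow, rootMap_of, rootMap_root, ← C_mul_X_pow_eq_monomial, map_mul, map_pow,
        AdjoinRoot.mk_C, AdjoinRoot.mk_X]

/-- the square of root rings is a pushout -/
theorem isPushout_rootMap (p : ℕ) {A A' : CommRingCat.{u}} (f : A ⟶ A') (a : A) :
    IsPushout (CommRingCat.ofHom (AdjoinRoot.of (X ^ p - C a : A[X]))) f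
      (CommRingCat.ofHom (rootMap p f.hom a))
      (CommRingCat.ofHom (AdjoinRoot.of (X ^ p - C (f.hom a) : A'[X]))) := by
  have w : CommRingCat.ofHom (AdjoinRoot.of (X ^ p - C a : A[X])) ≫
      CommRingCat.ofHom (rootMap p f.hom a) =
      f ≫ CommRingCat.ofHom (AdjoinRoot.of (X ^ p - C (f.hom a) : A'[X])) := by
    ext x
    simp
  have hcond : ∀ s : PushoutCocone (CommRingCat.ofHom (AdjoinRoot.of (X ^ p - C a : A[X]))) f,
      (X ^ p - C (f.hom a) : A'[X]).eval₂ s.inr.hom (s.inl.hom (AdjoinRoot.root _)) = 0 := by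
    intro s
    simp only [eval₂_sub, eval₂_pow, eval₂_X, eval₂_C]
    have h1 : s.inr.hom (f.hom a) = s.inl.hom (AdjoinRoot.of _ a) :=
      (congrArg (fun k : A ⟶ s.pt => k.hom a) s.condition).symm
    rw [h1, ← map_pow, root_pow, sub_self]
  refine IsPushout.of_isColimit' ⟨w⟩ (PushoutCocone.IsColimit.mk w
    (fun s => CommRingCat.ofHom (AdjoinRoot.lift s.inr.hom (s.inl.hom (AdjoinRoot.root _))
      (hcond s))) ?_ ?_ ?_)
  · intro s
    refine CommRingCat.hom_ext (RingHom.ext fun x => ?_)
    change (AdjoinRoot.lift s.inr.hom (s.inl.hom (AdjoinRoot.root _)) (hcond s))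
      (rootMap p f.hom a x) = s.inl.hom x
    induction x using AdjoinRoot.induction_on with
    | ih q =>
      induction q using Polynomial.induction_on' with
      | add q₁ q₂ h₁ h₂ => simp only [map_add, h₁, h₂]
      | monomial k c =>
        rw [← C_mul_X_pow_eq_monomial, map_mul, map_pow, AdjoinRoot.mk_C, AdjoinRoot.mk_X, map_mul,
          map_pow, rootMap_of, rootMap_root, map_mul, map_pow, AdjoinRoot.lift_of,
          AdjoinRoot.lift_root, map_mul, map_pow]
        congr 1
        exact (congrArg (fun k : A ⟶ s.pt => k.hom c) s.condition).symm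
  · intro s
    ext x
    exact AdjoinRoot.lift_of (hcond s)
  · intro s m hm₁ hm₂
    refine CommRingCat.hom_ext (RingHom.ext fun x => ?_)
    change m.hom x = (AdjoinRoot.lift s.inr.hom (s.inl.hom (AdjoinRoot.root _)) (hcond s)) x
    induction x using AdjoinRoot.induction_on with
    | ih q =>
      induction q using Polynomial.induction_on' with
      | add q₁ q₂ h₁ h₂ => simp only [map_add, h₁, h₂]
      | monomial k c =>
        rw [← C_mul_X_pow_eq_monomial, map_mul, map_pow, AdjoinRoot.mk_C, AdjoinRoot.mk_X, map_mul,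
          map_pow, map_mul, map_pow, AdjoinRoot.lift_of, AdjoinRoot.lift_root]
        have h1 : m.hom (AdjoinRoot.of _ c) = s.inr.hom c :=
          congrArg (fun k : A' ⟶ s.pt => k.hom c) hm₂
        have h2 : m.hom (AdjoinRoot.root _) = s.inl.hom (AdjoinRoot.root _) := by
          have := congrArg (fun k : CommRingCat.of (RootRing p A a) ⟶ s.pt =>
            k.hom (AdjoinRoot.root _)) hm₁
          simpa using this
        rw [h1, h2]

/-! ### Base change, isomorphisms, composition -/

lemma isIso_iff_bijective {A B : CommRingCat.{u}} (φ : A ⟶ B) :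
    IsIso φ ↔ Function.Bijective φ.hom :=
  ConcreteCategory.isIso_iff_bijective φ

/-- root towers are stable under pushout -/
theorem IsTowerHom.of_isPushout (p n : ℕ) : ∀ {A B A' B' : CommRingCat.{u}} {φ : A ⟶ B}
    {f : A ⟶ A'} {g : B ⟶ B'} {φ' : A' ⟶ B'}, IsPushout φ f g φ' → IsTowerHom p n φ.hom →
    IsTowerHom p n φ'.hom := by
  induction n with
  | zero =>
    intro A B A' B' φ f g φ' h hφ
    have : IsIso φ := (isIso_iff_bijective φ).mpr hφ
    exact (isIso_iff_bijective φ').mp h.isIso_inr_of_isIso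
  | succ n ih =>
    intro A B A' B' φ f g φ' h hφ
    obtain ⟨a, ψ, hψ, ht⟩ := hφ
    have hL := isPushout_rootMap p f a
    let ψc : CommRingCat.of (RootRing p A a) ⟶ B := CommRingCat.ofHom ψ
    have hφ' : CommRingCat.ofHom (AdjoinRoot.of (X ^ p - C a : A[X])) ≫ ψc = φ := by
      ext x
      exact RingHom.congr_fun hψ x
    have hbig : IsPushout (CommRingCat.ofHom (AdjoinRoot.of (X ^ p - C a : A[X])) ≫ ψc) f g φ' :=
      hφ' ▸ h
    have hR := IsPushout.of_left' hbig hL
    refine ⟨f.hom a, (hL.desc (ψc ≫ g) φ' (by rw [← Category.assoc, hbig.w])).hom, ?_, ih hR ht⟩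
    have := hL.inr_desc (ψc ≫ g) φ' (by rw [← Category.assoc, hbig.w])
    exact congrArg CommRingCat.Hom.hom this

/-- root towers are invariant under isomorphisms of arrows -/
theorem IsTowerHom.of_iso {n : ℕ} {A B A' B' : CommRingCat.{u}} {φ : A ⟶ B} {φ' : A' ⟶ B'}
    (e₁ : A ≅ A') (e₂ : B ≅ B') (w : φ ≫ e₂.hom = e₁.hom ≫ φ') (h : IsTowerHom p n φ.hom) :
    IsTowerHom p n φ'.hom :=
  IsTowerHom.of_isPushout p n (IsPushout.of_vert_isIso ⟨w⟩) h

/-- composition of root towers -/
theorem IsTowerHom.comp (p m : ℕ) : ∀ (n : ℕ) {A B C : CommRingCat.{u}} (φ : A ⟶ B) (ψ : B ⟶ C),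
    IsTowerHom p n φ.hom → IsTowerHom p m ψ.hom → IsTowerHom p (m + n) (φ ≫ ψ).hom := by
  intro n
  induction n with
  | zero =>
    intro A B C φ ψ hφ hψ
    have : IsIso φ := (isIso_iff_bijective φ).mpr hφ
    exact IsTowerHom.of_iso (asIso φ).symm (Iso.refl C) (by simp) hψ
  | succ n ih =>
    intro A B C φ ψ hφ hψ
    obtain ⟨a, φ₁, hφ₁, ht⟩ := hφ
    refine ⟨a, ψ.hom.comp φ₁, ?_, ?_⟩
    · rw [RingHom.comp_assoc, hφ₁]
      rfl
    · exact ih (CommRingCat.ofHom φ₁) ψ ht hψ

/-- root towers lift along surjections of the base ring -/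
theorem exists_lift_tower (p : ℕ) : ∀ (n : ℕ) {A A₀ B₀ : CommRingCat.{u}} (π : A ⟶ A₀)
    (_ : Function.Surjective π.hom) (φ₀ : A₀ ⟶ B₀) (_ : IsTowerHom p n φ₀.hom),
    ∃ (B : CommRingCat.{u}) (φ : A ⟶ B) (πB : B ⟶ B₀),
      IsTowerHom p n φ.hom ∧ IsPushout φ π πB φ₀ := by
  intro n
  induction n with
  | zero =>
    intro A A₀ B₀ π hπ φ₀ h
    have : IsIso φ₀ := (isIso_iff_bijective φ₀).mpr h
    refine ⟨A, 𝟙 A, π ≫ φ₀, Function.bijective_id, IsPushout.of_horiz_isIso ⟨by simp⟩⟩
  | succ n ih =>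
    intro A A₀ B₀ π hπ φ₀ h
    obtain ⟨a₀, ψ₀, hψ₀, ht⟩ := h
    obtain ⟨a, rfl⟩ := hπ a₀
    have hL := isPushout_rootMap p π a
    obtain ⟨B, ψ, πB, hψ, hpo⟩ := ih (CommRingCat.ofHom (rootMap p π.hom a))
      (rootMap_surjective π.hom hπ a) (CommRingCat.ofHom ψ₀) ht
    refine ⟨B, CommRingCat.ofHom (AdjoinRoot.of (X ^ p - C a : A[X])) ≫ ψ, πB,
      ⟨a, ψ.hom, rfl, hψ⟩, ?_⟩
    have h2 := hL.paste_horiz hpo
    have h3 : CommRingCat.ofHom (AdjoinRoot.of (X ^ p - C (π.hom a) : A₀[X])) ≫
        CommRingCat.ofHom ψ₀ = φ₀ := by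
      ext x
      exact RingHom.congr_fun hψ₀ x
    rw [h3] at h2
    exact h2

end Groth.Agent.Lib.Seat88.QuietTower
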