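import Mathlib
import Groth.Prelude.Def_W4c2gaugesfzipsQuiet
import Groth.Agent.Lib.Seat88QuietTower

/-!
# Extractions of `p`-th roots and quasi-étale morphisms: affine-local normal form

* `IsGood p r U`: `U` and `r ⁻¹ᵁ U` are affine and `Γ(Y, U) ⟶ Γ(V, r ⁻¹ᵁ U)` is a root tower.
* `isPthRoot_iff`, `IsGood.of_isPullback`, `IsGood.of_le`, `exists_isGood_le`.
* `exists_normalForm` / `isQuiet_of_normalForm`: a morphism is quasi-étale iff affine-locally on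
  source and target it is `Spec` of an étale ring map followed by a root tower.
-/

set_option autoImplicit false
set_option linter.style.haveILetI false
set_option linter.unusedSectionVars false
universe u

open CategoryTheory CategoryTheory.Limits AlgebraicGeometry Quiet

namespace Groth.Agent.Lib.Seat88.QuietSch

open Groth.Agent.Lib.Seat88.QuietTower

variable {p : ℕ}

/-- `U` is a good affine open for `r` -/
def IsGood (p : ℕ) {V Y : Scheme.{u}} (r : V ⟶ Y) (U : Y.Opens) : Prop :=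
  IsAffineOpen U ∧ IsAffineOpen (r ⁻¹ᵁ U) ∧ ∃ n, IsTowerHom p n (r.app U).hom

theorem isPthRoot_iff {V Y : Scheme.{u}} (r : V ⟶ Y) :
    IsPthRoot p r ↔ ∀ y : Y, ∃ U : Y.Opens, y ∈ U ∧ IsGood p r U := by
  constructor
  · intro h y
    obtain ⟨U, hy, haff, n, ht⟩ := h y
    refine ⟨U.1, hy, U.2, haff, n, ?_⟩
    letI := (r.app U.1).hom.toAlgebra
    exact (isRootTower_iff n _ _).mp ht
  · intro h y
    obtain ⟨U, hy, hU, haff, n, ht⟩ := h y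
    refine ⟨⟨U, hU⟩, hy, haff, n, ?_⟩
    letI := (r.app U).hom.toAlgebra
    exact (isRootTower_iff n _ _).mpr ht

/-- good opens pull back to good opens -/
theorem IsGood.of_isPullback {V Y V' Z : Scheme.{u}} {r : V ⟶ Y} {g : Z ⟶ Y} {r' : V' ⟶ Z}
    {g' : V' ⟶ V} (H : IsPullback g' r' r g) {U : Y.Opens} (hU : IsGood p r U) {W : Z.Opens}
    (hW : IsAffineOpen W) (hWU : W ≤ g ⁻¹ᵁ U) : IsGood p r' W := by
  obtain ⟨hU1, hU2, n, ht⟩ := hU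
  have hUY : r' ⁻¹ᵁ W = g' ⁻¹ᵁ (r ⁻¹ᵁ U) ⊓ r' ⁻¹ᵁ W := by
    refine le_antisymm (le_inf ?_ le_rfl) inf_le_right
    intro x hx
    have h1 : g (r' x) ∈ U := hWU hx
    have h2 : g (r' x) = r (g' x) := by
      rw [← Scheme.Hom.comp_apply, ← Scheme.Hom.comp_apply, H.w]
    rw [h2] at h1
    exact h1
  have hiso := isIso_pushoutSection_of_isAffineOpen H hWU (le_refl (r ⁻¹ᵁ U)) hUY hU1 hW hU2
  have hpo := (isIso_pushoutSection_iff H hWU (le_refl (r ⁻¹ᵁ U)) hUY).mp hiso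
  have haff : IsAffineOpen (r' ⁻¹ᵁ W) := by
    have : IsAffine _ := hU1
    have : IsAffine _ := hW
    have : IsAffine _ := hU2
    exact .of_isIso (Scheme.Hom.isPullback_resLE H hWU (le_refl (r ⁻¹ᵁ U)) hUY).isoPullback.hom
  refine ⟨hW, haff, n, ?_⟩
  have h3 : r.appLE U (r ⁻¹ᵁ U) (le_refl _) = r.app U := (Scheme.Hom.app_eq_appLE _).symm
  have h4 : r'.appLE W (r' ⁻¹ᵁ W) (by simp) = r'.app W := (Scheme.Hom.app_eq_appLE _).symm
  rw [h3] at hpo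
  have := IsTowerHom.of_isPushout p n hpo ht
  rwa [h4] at this

theorem IsGood.of_le {V Y : Scheme.{u}} {r : V ⟶ Y} {U : Y.Opens} (hU : IsGood p r U)
    {W : Y.Opens} (hW : IsAffineOpen W) (hWU : W ≤ U) : IsGood p r W :=
  IsGood.of_isPullback (IsPullback.id_horiz r) hU hW (by simpa using hWU)

theorem exists_isGood_le {V Y : Scheme.{u}} {r : V ⟶ Y} (hr : IsPthRoot p r) (y : Y)
    (W : Y.Opens) (hy : y ∈ W) : ∃ U : Y.Opens, y ∈ U ∧ U ≤ W ∧ IsGood p r U := by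
  obtain ⟨U₀, hy₀, hU₀⟩ := (isPthRoot_iff r).mp hr y
  obtain ⟨U, hU, hyU, hle⟩ := exists_isAffineOpen_mem_and_subset (x := y) (U := U₀ ⊓ W) ⟨hy₀, hy⟩
  exact ⟨U, hyU, fun x hx => (hle hx).2, hU₀.of_le hU (fun x hx => (hle hx).1)⟩

/-! ### Spectra of root towers -/

theorem isPthRoot_of_affine {V Y : Scheme.{u}} [IsAffine V] [IsAffine Y] (r : V ⟶ Y) {n : ℕ}
    (h : IsTowerHom p n r.appTop.hom) : IsPthRoot p r := by
  rw [isPthRoot_iff]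
  intro y
  exact ⟨⊤, trivial, isAffineOpen_top Y, isAffineOpen_top V, n, h⟩

theorem isPthRoot_of_iso_SpecMap {V : Scheme.{u}} {C D : CommRingCat.{u}} (e : V ≅ Spec D)
    (w : C ⟶ D) {n : ℕ} (h : IsTowerHom p n w.hom) : IsPthRoot p (e.hom ≫ Spec.map w) := by
  haveI : IsAffine V := .of_isIso e.hom
  refine isPthRoot_of_affine (n := n) _ ?_
  have hnat : (Spec.map w).appTop ≫ (Scheme.ΓSpecIso D).hom = (Scheme.ΓSpecIso C).hom ≫ w :=
    Scheme.ΓSpecIso_naturality w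
  haveI : IsIso e.hom.appTop := inferInstanceAs (IsIso (e.hom.app ⊤))
  refine IsTowerHom.of_iso (φ := w) (Scheme.ΓSpecIso C).symm
    ((Scheme.ΓSpecIso D).symm ≪≫ asIso e.hom.appTop) ?_ h
  rw [Scheme.Hom.comp_appTop, Iso.trans_hom, Iso.symm_hom, Iso.symm_hom, asIso_hom,
    ← Category.assoc, ← Category.assoc]
  congr 1
  rw [Iso.eq_inv_comp, ← Category.assoc, ← hnat, Category.assoc, Iso.hom_inv_id, Category.comp_id]

/-! ### Normal form of quasi-étale morphisms -/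

lemma appLE_congr_hom {X Y : Scheme.{u}} {f g : X ⟶ Y} (h : f = g) (U : Y.Opens) (V : X.Opens)
    (e : V ≤ f ⁻¹ᵁ U) : f.appLE U V e = g.appLE U V (h ▸ e) := by
  subst h
  rfl

/-- affine-local normal form of a quasi-étale morphism, over a prescribed affine open of the target -/
theorem exists_normalForm {X Y : Scheme.{u}} {f : Y ⟶ X} (hf : IsQuiet p f) (y : Y) (U : X.Opens)
    (hU : IsAffineOpen U) (hy : f y ∈ U) :
    ∃ (N : Y.Opens) (_ : IsAffineOpen N) (hNU : N ≤ f ⁻¹ᵁ U) (C : CommRingCat.{u})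
      (α : Γ(X, U) ⟶ C) (w : C ⟶ Γ(Y, N)) (n : ℕ),
      y ∈ N ∧ α.hom.Etale ∧ IsTowerHom p n w.hom ∧ α ≫ w = f.appLE U N hNU := by
  obtain ⟨V, Y', r, e, hyV, hr, he, hcomm⟩ := hf y
  let y' : V.toScheme := ⟨y, hyV⟩
  have hpt : ∀ v : V.toScheme, e (r v) = f (V.ι v) := by
    intro v
    rw [← Scheme.Hom.comp_apply, ← Scheme.Hom.comp_apply, hcomm]
  have hry : r y' ∈ e ⁻¹ᵁ U := by
    change e (r y') ∈ U
    rw [hpt]
    exact hy
  obtain ⟨U', hyU', hU'U, hgood⟩ := exists_isGood_le hr (r y') (e ⁻¹ᵁ U) hry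
  obtain ⟨hU'aff, hpre, n, ht⟩ := hgood
  have hNU : V.ι ''ᵁ (r ⁻¹ᵁ U') ≤ f ⁻¹ᵁ U := by
    rintro _ ⟨v, hv, rfl⟩
    change f (V.ι v) ∈ U
    rw [← hpt]
    exact hU'U hv
  have hle : r ⁻¹ᵁ U' ≤ (r ≫ e) ⁻¹ᵁ U := by
    intro v hv
    change e (r v) ∈ U
    exact hU'U hv
  refine ⟨V.ι ''ᵁ (r ⁻¹ᵁ U'), hpre.image_of_isOpenImmersion V.ι, hNU, Γ(Y', U'),
    e.appLE U U' hU'U, r.app U', n, ⟨y', hyU', rfl⟩, ?_, ht, ?_⟩
  · exact HasRingHomProperty.appLE (P := @Etale) e he ⟨U, hU⟩ ⟨U', hU'aff⟩ hU'U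
  · have h1 : e.appLE U U' hU'U ≫ r.app U' = (r ≫ e).appLE U (r ⁻¹ᵁ U') hle := by
      rw [Scheme.Hom.app_eq_appLE, Scheme.Hom.appLE_comp_appLE]
    have h2 : (r ≫ e).appLE U (r ⁻¹ᵁ U') hle = (V.ι ≫ f).appLE U (r ⁻¹ᵁ U') (hcomm ▸ hle) :=
      appLE_congr_hom hcomm _ _ _
    have h3 : f.appLE U (V.ι ''ᵁ (r ⁻¹ᵁ U')) hNU ≫
        V.ι.appLE (V.ι ''ᵁ (r ⁻¹ᵁ U')) (r ⁻¹ᵁ U') (by simp) =
        (V.ι ≫ f).appLE U (r ⁻¹ᵁ U') (hcomm ▸ hle) := by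
      rw [Scheme.Hom.appLE_comp_appLE]
    have h4 : V.ι.appLE (V.ι ''ᵁ (r ⁻¹ᵁ U')) (r ⁻¹ᵁ U') (by simp) = 𝟙 _ := by
      rw [Scheme.Opens.ι_appLE]
      exact Y.presheaf.map_id _
    have h5 : f.appLE U (V.ι ''ᵁ (r ⁻¹ᵁ U')) hNU ≫
        V.ι.appLE (V.ι ''ᵁ (r ⁻¹ᵁ U')) (r ⁻¹ᵁ U') (by simp) =
        f.appLE U (V.ι ''ᵁ (r ⁻¹ᵁ U')) hNU := by
      rw [h4]
      exact Category.comp_id _
    exact h1.trans (h2.trans (h3.symm.trans h5))

/-- a morphism which affine-locally is `Spec` of an étale map followed by a root tower is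
quasi-étale -/
theorem isQuiet_of_normalForm {X Y : Scheme.{u}} (f : Y ⟶ X)
    (h : ∀ y : Y, ∃ (N : Y.Opens) (_ : IsAffineOpen N) (U : X.Opens) (_ : IsAffineOpen U)
      (hNU : N ≤ f ⁻¹ᵁ U) (C : CommRingCat.{u}) (α : Γ(X, U) ⟶ C) (w : C ⟶ Γ(Y, N)) (n : ℕ),
      y ∈ N ∧ α.hom.Etale ∧ IsTowerHom p n w.hom ∧ α ≫ w = f.appLE U N hNU) :
    IsQuiet p f := by
  intro y
  obtain ⟨N, hN, U, hU, hNU, C, α, w, n, hyN, hα, hw, hcomm⟩ := h y
  haveI : Etale (Spec.map α) := by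
    rw [HasRingHomProperty.Spec_iff (P := @Etale)]
    exact hα
  refine ⟨N, Spec C, hN.isoSpec.hom ≫ Spec.map w, Spec.map α ≫ hU.fromSpec, hyN,
    isPthRoot_of_iso_SpecMap hN.isoSpec w hw, inferInstance, ?_⟩
  rw [Category.assoc, ← Category.assoc (Spec.map w), ← Spec.map_comp, hcomm,
    IsAffineOpen.SpecMap_appLE_fromSpec f hU hN hNU, ← Category.assoc]
  rw [IsAffineOpen.isoSpec_hom_fromSpec]

/-! ### Base change -/

/-- étale ring maps are stable under pushout -/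
lemma etale_of_isPushout {R S T P : CommRingCat.{u}} {f : R ⟶ S} {g : R ⟶ T} {inl : S ⟶ P}
    {inr : T ⟶ P} (h : IsPushout f g inl inr) (hg : g.hom.Etale) : inl.hom.Etale := by
  have h1 := RingHom.IsStableUnderBaseChange.pushout_inl RingHom.Etale.isStableUnderBaseChange
    RingHom.Etale.respectsIso f g hg
  have h2 : inl = pushout.inl f g ≫ h.isoPushout.inv := by simp
  rw [h2, CommRingCat.hom_comp, RingHom.Etale.respectsIso.cancel_right_isIso]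
  exact h1

/-- quasi-étale morphisms are stable under base change -/
theorem isQuiet_of_isPullback {X Y X' Y' : Scheme.{u}} (f : Y ⟶ X) (g : X' ⟶ X) (f' : Y' ⟶ X')
    (g' : Y' ⟶ Y) (H : IsPullback g' f' f g) (hf : IsQuiet p f) : IsQuiet p f' := by
  refine isQuiet_of_normalForm f' (fun y' => ?_)
  have hxy : g (f' y') = f (g' y') := by
    rw [← Scheme.Hom.comp_apply, ← Scheme.Hom.comp_apply, H.w]
  obtain ⟨U, hU, hxU, -⟩ := exists_isAffineOpen_mem_and_subset (x := f (g' y')) (U := ⊤) trivial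
  obtain ⟨N, hN, hNU, C, α, w, n, hyN, hα, hw, hcomm⟩ := exists_normalForm hf (g' y') U hU hxU
  have hmem : f' y' ∈ g ⁻¹ᵁ U := by
    change g (f' y') ∈ U
    rw [hxy]
    exact hxU
  obtain ⟨U', hU', hyU', hU'U⟩ := exists_isAffineOpen_mem_and_subset (x := f' y') hmem
  have hU'U' : U' ≤ g ⁻¹ᵁ U := hU'U
  have hiso := isIso_pushoutSection_of_isAffineOpen H hU'U' hNU
    (rfl : g' ⁻¹ᵁ N ⊓ f' ⁻¹ᵁ U' = g' ⁻¹ᵁ N ⊓ f' ⁻¹ᵁ U') hU hU' hN
  have hpo := (isIso_pushoutSection_iff H hU'U' hNU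
    (rfl : g' ⁻¹ᵁ N ⊓ f' ⁻¹ᵁ U' = g' ⁻¹ᵁ N ⊓ f' ⁻¹ᵁ U')).mp hiso
  have haff : IsAffineOpen (g' ⁻¹ᵁ N ⊓ f' ⁻¹ᵁ U') := by
    have : IsAffine _ := hU
    have : IsAffine _ := hU'
    have : IsAffine _ := hN
    exact .of_isIso (Scheme.Hom.isPullback_resLE H hU'U' hNU
      (rfl : g' ⁻¹ᵁ N ⊓ f' ⁻¹ᵁ U' = g' ⁻¹ᵁ N ⊓ f' ⁻¹ᵁ U')).isoPullback.hom
  rw [← hcomm] at hpo
  -- the ring-level base change
  let γ := g.appLE U U' hU'U'
  have hsqL : IsPushout γ α (pushout.inl γ α) (pushout.inr γ α) := IsPushout.of_hasPushout γ α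
  have hc : γ ≫ f'.appLE U' (g' ⁻¹ᵁ N ⊓ f' ⁻¹ᵁ U') (by simp) =
      α ≫ w ≫ g'.appLE N (g' ⁻¹ᵁ N ⊓ f' ⁻¹ᵁ U') (by simp) := by
    rw [← Category.assoc]
    exact hpo.w.symm
  let w' := pushout.desc (f'.appLE U' (g' ⁻¹ᵁ N ⊓ f' ⁻¹ᵁ U') (by simp))
    (w ≫ g'.appLE N (g' ⁻¹ᵁ N ⊓ f' ⁻¹ᵁ U') (by simp)) hc
  have hR : IsPushout w (pushout.inr γ α) (g'.appLE N (g' ⁻¹ᵁ N ⊓ f' ⁻¹ᵁ U') (by simp)) w' := by
    refine IsPushout.of_left ?_ (pushout.inr_desc _ _ _).symm hsqL.flip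
    rw [pushout.inl_desc]
    exact hpo
  refine ⟨g' ⁻¹ᵁ N ⊓ f' ⁻¹ᵁ U', haff, U', hU', inf_le_right, pushout γ α, pushout.inl γ α, w', n,
    ⟨hyN, hyU'⟩, ?_, IsTowerHom.of_isPushout p n hR hw, pushout.inl_desc _ _ _⟩
  exact RingHom.IsStableUnderBaseChange.pushout_inl RingHom.Etale.isStableUnderBaseChange
    RingHom.Etale.respectsIso γ α hα

end Groth.Agent.Lib.Seat88.QuietSch
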