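import Mathlib
import Groth.Prelude.Def_W4c2gaugesfzipsQuiet
import Groth.Agent.Lib.Seat88QuietTower
import Groth.Agent.Lib.Seat88QuietSch
import Groth.Agent.Lib.Seat3EtaleLift
import Groth.Agent.Lib.Seat3EtaleClosedLift

/-!
# Local lifting of quasi-étale morphisms along a closed immersion
-/

set_option autoImplicit false
set_option linter.style.haveILetI false
set_option linter.unusedSectionVars false
universe u

open CategoryTheory CategoryTheory.Limits AlgebraicGeometry Quiet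

namespace Groth.Agent.Lib.Seat88.QuietLift

open Groth.Agent.Lib.Seat88.QuietTower Groth.Agent.Lib.Seat88.QuietSch

variable {p : ℕ}

/-- extractions of `p`-th roots are stable under precomposition with isomorphisms -/
theorem isPthRoot_iso_comp {V V' Y : Scheme.{u}} (e : V' ⟶ V) [IsIso e] (r : V ⟶ Y)
    (hr : IsPthRoot p r) : IsPthRoot p (e ≫ r) := by
  rw [isPthRoot_iff] at hr ⊢
  intro y
  obtain ⟨U, hy, hU⟩ := hr y
  have H : IsPullback e (e ≫ r) r (𝟙 Y) := IsPullback.of_horiz_isIso ⟨by simp⟩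
  exact ⟨U, hy, IsGood.of_isPullback H hU hU.1 (by simp)⟩

/-- an extraction of `p`-th roots followed by an étale morphism is quasi-étale -/
theorem isQuiet_of_root_etale {Y Y' X : Scheme.{u}} (r : Y ⟶ Y') (e : Y' ⟶ X)
    (hr : IsPthRoot p r) [Etale e] : IsQuiet p (r ≫ e) := by
  intro y
  exact ⟨⊤, Y', (⊤ : Y.Opens).ι ≫ r, e, trivial, isPthRoot_iso_comp (Scheme.topIso Y).hom r hr,
    inferInstance, by rw [Category.assoc]⟩

/-- local lifting of quasi-étale morphisms along a closed immersion -/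
theorem exists_lift {T U U' : Scheme.{u}} (i : U ⟶ T) [IsClosedImmersion i] (f' : U' ⟶ U)
    (hf' : IsQuiet p f') (u : U') :
    ∃ (V : U'.Opens) (T' : Scheme.{u}) (q : T' ⟶ T) (j : (V : Scheme.{u}) ⟶ T'),
      u ∈ V ∧ IsQuiet p q ∧ IsPullback j (V.ι ≫ f') q i := by
  obtain ⟨T₀, hT₀, hxT₀, -⟩ :=
    exists_isAffineOpen_mem_and_subset (x := i (f' u)) (U := ⊤) trivial
  have hU₀ : IsAffineOpen (i ⁻¹ᵁ T₀) := hT₀.preimage i
  obtain ⟨N, hN, hNU₀, C₀, α₀, w₀, n, huN, hα₀, hw₀, hcomm⟩ :=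
    exists_normalForm hf' u (i ⁻¹ᵁ T₀) hU₀ hxT₀
  let π : Γ(T, T₀) ⟶ Γ(U, i ⁻¹ᵁ T₀) := i.appLE T₀ (i ⁻¹ᵁ T₀) le_rfl
  have hπ : Function.Surjective π.hom := by
    have := i.app_surjective T₀ hT₀
    simpa [π, Scheme.Hom.app_eq_appLE] using this
  -- lift the étale algebra
  letI : Algebra Γ(U, i ⁻¹ᵁ T₀) C₀ := α₀.hom.toAlgebra
  haveI : Algebra.Etale Γ(U, i ⁻¹ᵁ T₀) C₀ := hα₀
  obtain ⟨D, _, _, π', hEt, hπ'surj, hcommD, hker⟩ :=
    Groth.Agent.Lib.Seat3.EtaleLift.exists_etale_lift (C := C₀) π.hom hπ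
  let Dc : CommRingCat.{u} := CommRingCat.of D
  let α : Γ(T, T₀) ⟶ Dc := CommRingCat.ofHom (algebraMap Γ(T, T₀) D)
  let π'c : Dc ⟶ C₀ := CommRingCat.ofHom π'
  have w : α ≫ π'c = π ≫ α₀ := by
    ext a
    exact RingHom.congr_fun hcommD a
  have hpoC : IsPushout α π π'c α₀ :=
    Groth.Agent.Lib.Seat3.EtaleClosedLift.isPushout_of_surjective_of_ker α π π'c α₀ w hπ
      hπ'surj hker
  -- lift the root tower
  obtain ⟨B, φ, πB, hφ, hpoB⟩ := exists_lift_tower p n π'c hπ'surj w₀ hw₀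
  have hpo := hpoC.paste_horiz hpoB
  rw [hcomm] at hpo
  have htop := isPullback_SpecMap_of_isPushout _ _ _ _ hpo
  have hbot : IsPullback (Spec.map π) hU₀.fromSpec hT₀.fromSpec i := by
    apply IsOpenImmersion.isPullback
    · exact (IsAffineOpen.SpecMap_appLE_fromSpec i hT₀ hU₀ le_rfl).symm
    · rw [hT₀.opensRange_fromSpec, hU₀.opensRange_fromSpec]
  have hpb := htop.paste_vert hbot
  rw [IsAffineOpen.SpecMap_appLE_fromSpec f' hU₀ hN hNU₀] at hpb
  haveI : Etale (Spec.map α) := by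
    rw [HasRingHomProperty.Spec_iff (P := @Etale)]
    exact RingHom.etale_algebraMap.mpr hEt
  have hq : IsQuiet p (Spec.map φ ≫ (Spec.map α ≫ hT₀.fromSpec)) := by
    refine isQuiet_of_root_etale (Spec.map φ) (Spec.map α ≫ hT₀.fromSpec) ?_
    have := isPthRoot_of_iso_SpecMap (p := p) (Iso.refl (Spec B)) φ hφ
    simpa using this
  refine ⟨N, Spec B, Spec.map (α ≫ φ) ≫ hT₀.fromSpec, hN.isoSpec.hom ≫ Spec.map πB, huN, ?_, ?_⟩
  · rw [Spec.map_comp, Category.assoc]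
    exact hq
  · refine hpb.of_iso hN.isoSpec.symm (Iso.refl _) (Iso.refl _) (Iso.refl _) ?_ ?_ ?_ ?_
    · simp
    · simp only [Iso.refl_hom, Category.comp_id, Iso.symm_hom]
      rw [← Category.assoc, IsAffineOpen.isoSpec_inv_ι]
    · simp
    · simp

end Groth.Agent.Lib.Seat88.QuietLift
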