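import Mathlib
import Groth.Prelude.Def_W4c2gaugesfzipsQuiet
import Groth.Agent.Lib.Seat88QuietTower
import Groth.Agent.Lib.Helper18RelFrob
import Groth.Agent.Lib.Helper6FrobEtale

/-!
# Swapping an extraction of `p`-th roots with an étale map (Frobenius trick)

In characteristic `p`, if `φ : A ⟶ B` is a root tower and `β : B ⟶ C` is étale, then `C` is the base
change along `φ` of an étale `A`-algebra `C''`; hence `A ⟶ B ⟶ C` is also `A ⟶ C'' ⟶ C` with the first
map étale and the second a root tower.
-/

set_option autoImplicit false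
set_option linter.style.haveILetI false
set_option linter.unusedSectionVars false
universe u

open CategoryTheory CategoryTheory.Limits Polynomial Quiet TensorProduct

namespace Groth.Agent.Lib.Seat88.QuietTower

variable (p : ℕ) [hp : Fact p.Prime]

/-- Frobenius of a ring in which `p = 0` (no `CharP` instance needed) -/
def frob (A : Type u) [CommRing A] (h : (p : A) = 0) : A →+* A where
  toFun x := x ^ p
  map_one' := one_pow p
  map_mul' x y := mul_pow x y p
  map_zero' := zero_pow hp.out.ne_zero
  map_add' x y := by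
    obtain ⟨r, hr⟩ := exists_add_pow_prime_eq hp.out x y
    rw [hr, h]
    ring

@[simp] lemma frob_apply (A : Type u) [CommRing A] (h : (p : A) = 0) (x : A) :
    frob p A h x = x ^ p := rfl

lemma frob_comm {A B : Type u} [CommRing A] [CommRing B] (f : A →+* B) (hA : (p : A) = 0)
    (hB : (p : B) = 0) : f.comp (frob p A hA) = (frob p B hB).comp f := by
  ext x
  simp

lemma natCast_eq_zero_of_hom {A B : Type u} [CommRing A] [CommRing B] (f : A →+* B)
    (hA : (p : A) = 0) : (p : B) = 0 := by
  rw [← map_natCast f, hA, map_zero]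

/-- étale ring maps are stable under pushout -/
lemma etale_of_isPushout {R S T P : CommRingCat.{u}} {f : R ⟶ S} {g : R ⟶ T} {inl : S ⟶ P}
    {inr : T ⟶ P} (h : IsPushout f g inl inr) (hg : g.hom.Etale) : inl.hom.Etale := by
  have h1 := RingHom.IsStableUnderBaseChange.pushout_inl RingHom.Etale.isStableUnderBaseChange
    RingHom.Etale.respectsIso f g hg
  have h2 : inl = pushout.inl f g ≫ h.isoPushout.inv := by simp
  rw [h2, CommRingCat.hom_comp, RingHom.Etale.respectsIso.cancel_right_isIso]
  exact h1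

/-- the relative Frobenius square of an étale ring map is a pushout -/
theorem isPushout_frob_of_etale {R C : Type u} [CommRing R] [CommRing C] (β : R →+* C)
    (hβ : β.Etale) (hR : (p : R) = 0) (hC : (p : C) = 0) :
    IsPushout (CommRingCat.ofHom β) (CommRingCat.ofHom (frob p R hR))
      (CommRingCat.ofHom (frob p C hC)) (CommRingCat.ofHom β) := by
  have w : CommRingCat.ofHom β ≫ CommRingCat.ofHom (frob p C hC) =
      CommRingCat.ofHom (frob p R hR) ≫ CommRingCat.ofHom β := by
    ext x
    simp
  rcases subsingleton_or_nontrivial C with hs | hn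
  · refine IsPushout.of_isColimit' ⟨w⟩ (PushoutCocone.IsColimit.mk w (fun s => s.inl) ?_ ?_ ?_)
    · intro s
      haveI : Subsingleton s.pt := by
        refine ⟨fun x y => ?_⟩
        have h1 : (1 : s.pt) = 0 := by
          rw [← map_one s.inl.hom, Subsingleton.elim (1 : C) 0, map_zero]
        rw [← mul_one x, ← mul_one y, h1, mul_zero, mul_zero]
      exact CommRingCat.hom_ext (RingHom.ext fun x => Subsingleton.elim _ _)
    · intro s
      haveI : Subsingleton s.pt := by
        refine ⟨fun x y => ?_⟩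
        have h1 : (1 : s.pt) = 0 := by
          rw [← map_one s.inl.hom, Subsingleton.elim (1 : C) 0, map_zero]
        rw [← mul_one x, ← mul_one y, h1, mul_zero, mul_zero]
      exact CommRingCat.hom_ext (RingHom.ext fun x => Subsingleton.elim _ _)
    · intro s m _ _
      haveI : Subsingleton s.pt := by
        refine ⟨fun x y => ?_⟩
        have h1 : (1 : s.pt) = 0 := by
          rw [← map_one s.inl.hom, Subsingleton.elim (1 : C) 0, map_zero]
        rw [← mul_one x, ← mul_one y, h1, mul_zero, mul_zero]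
      exact CommRingCat.hom_ext (RingHom.ext fun x => Subsingleton.elim _ _)
  · haveI : Nontrivial R := β.domain_nontrivial
    haveI : CharP R p := (CharP.charP_iff_prime_eq_zero hp.out).mpr hR
    haveI : CharP C p := (CharP.charP_iff_prime_eq_zero hp.out).mpr hC
    letI : Algebra R C := β.toAlgebra
    haveI : Algebra.Etale R C := hβ
    have hbij := Groth.Agent.Lib.Helper18RelFrob.relFrob_bijective_of_etale p R C
    let e₃ : CommRingCat.of (FrobAlg.Twist p R) ≅ CommRingCat.of R :=
      (FrobAlg.toTwist p R).symm.toCommRingCatIso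
    let e₄ : CommRingCat.of (C ⊗[R] FrobAlg.Twist p R) ≅ CommRingCat.of C :=
      (RingEquiv.ofBijective (FrobAlg.relFrob p R C) hbij).toCommRingCatIso
    refine (CommRingCat.isPushout_tensorProduct R C (FrobAlg.Twist p R)).of_iso (Iso.refl _)
      (Iso.refl _) e₃ e₄ ?_ ?_ ?_ ?_
    · ext x
      rfl
    · ext x
      rfl
    · ext x
      change FrobAlg.relFrob p R C (x ⊗ₜ[R] (1 : FrobAlg.Twist p R)) = x ^ p
      rw [Groth.Agent.Lib.Helper6.FrobEtale.relFrob_tmul]
      change x ^ p * algebraMap R C 1 = x ^ p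
      rw [map_one, mul_one]
    · ext x
      change FrobAlg.relFrob p R C ((1 : C) ⊗ₜ[R] x) = β ((FrobAlg.toTwist p R).symm x)
      rw [Groth.Agent.Lib.Helper6.FrobEtale.relFrob_tmul, one_pow, one_mul]
      rfl

/-! ### The retraction of an elementary extraction -/

/-- the retraction `ρ : A[x]/(x^p - a) → A`, Frobenius on coefficients and `x ↦ a` -/
noncomputable def rho (A : Type u) [CommRing A] (hA : (p : A) = 0) (a : A) : RootRing p A a →+* A :=
  AdjoinRoot.lift (frob p A hA) a (by simp [eval₂_sub, eval₂_pow, eval₂_X, eval₂_C])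

lemma rho_comp_of (A : Type u) [CommRing A] (hA : (p : A) = 0) (a : A) :
    (rho p A hA a).comp (AdjoinRoot.of _) = frob p A hA :=
  AdjoinRoot.lift_comp_of _

lemma of_comp_rho (A : Type u) [CommRing A] (hA : (p : A) = 0) (a : A)
    (hR : (p : RootRing p A a) = 0) :
    (AdjoinRoot.of (X ^ p - C a : A[X])).comp (rho p A hA a) = frob p (RootRing p A a) hR := by
  apply AdjoinRoot.ringHom_ext
  · ext x
    simp [rho]
  · simp [rho, root_pow]

/-- one elementary extraction followed by an étale map is an étale map followed by the base change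
of the elementary extraction -/
theorem swap_one {A C₁ : CommRingCat.{u}} (a : A) (hA : (p : A) = 0)
    (β : CommRingCat.of (RootRing p A a) ⟶ C₁) (hβ : β.hom.Etale) :
    ∃ (C'' : CommRingCat.{u}) (α : A ⟶ C'') (w : C'' ⟶ C₁), α.hom.Etale ∧
      IsPushout (CommRingCat.ofHom (AdjoinRoot.of (X ^ p - C a : A[X]))) α β w := by
  have hR : (p : RootRing p A a) = 0 := natCast_eq_zero_of_hom p (AdjoinRoot.of _) hA
  have hC : (p : C₁) = 0 := natCast_eq_zero_of_hom p β.hom hR
  let ι : A ⟶ CommRingCat.of (RootRing p A a) := CommRingCat.ofHom (AdjoinRoot.of _)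
  let ρ : CommRingCat.of (RootRing p A a) ⟶ A := CommRingCat.ofHom (rho p A hA a)
  let FR : CommRingCat.of (RootRing p A a) ⟶ CommRingCat.of (RootRing p A a) :=
    CommRingCat.ofHom (frob p _ hR)
  let FC : C₁ ⟶ C₁ := CommRingCat.ofHom (frob p C₁ hC)
  have h1 : ρ ≫ ι = FR := by
    ext1
    exact of_comp_rho p A hA a hR
  have hFβ : FR ≫ β = β ≫ FC := by
    ext1
    exact frob_comm p β.hom hR hC
  have hsq1 : IsPushout ρ β (pushout.inl ρ β) (pushout.inr ρ β) := IsPushout.of_hasPushout ρ β
  have hcomm : ρ ≫ (ι ≫ β) = β ≫ FC := by rw [← Category.assoc, h1, hFβ]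
  have hbig : IsPushout β FR FC β := isPushout_frob_of_etale p β.hom hβ hR hC
  refine ⟨pushout ρ β, pushout.inl ρ β, pushout.desc (ι ≫ β) FC hcomm, ?_, ?_⟩
  · exact RingHom.IsStableUnderBaseChange.pushout_inl RingHom.Etale.isStableUnderBaseChange
      RingHom.Etale.respectsIso ρ β hβ
  · refine IsPushout.of_left ?_ (pushout.inl_desc _ _ _).symm hsq1
    rw [h1, pushout.inr_desc]
    exact hbig.flip

/-- a root tower followed by an étale map is an étale map followed by a root tower (base change of the
given one) -/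
theorem swap : ∀ (n : ℕ) {A B C₁ : CommRingCat.{u}} (φ : A ⟶ B) (β : B ⟶ C₁) (_ : (p : A) = 0),
    IsTowerHom p n φ.hom → β.hom.Etale →
    ∃ (C'' : CommRingCat.{u}) (α : A ⟶ C'') (w : C'' ⟶ C₁), α.hom.Etale ∧
      IsTowerHom p n w.hom ∧ IsPushout φ α β w := by
  intro n
  induction n with
  | zero =>
    intro A B C₁ φ β hA hφ hβ
    have : IsIso φ := (isIso_iff_bijective φ).mpr hφ
    refine ⟨C₁, φ ≫ β, 𝟙 C₁, ?_, Function.bijective_id, IsPushout.of_horiz_isIso ⟨by simp⟩⟩
    rw [CommRingCat.hom_comp]
    exact RingHom.Etale.stableUnderComposition _ _ (RingHom.Etale.of_bijective hφ) hβ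
  | succ n ih =>
    intro A B C₁ φ β hA hφ hβ
    have hφ0 := hφ
    obtain ⟨a, ψ, hψ, ht⟩ := hφ
    have hR : (p : RootRing p A a) = 0 := natCast_eq_zero_of_hom p (AdjoinRoot.of _) hA
    obtain ⟨C₂, α₁, w₁, hα₁, -, hpo₁⟩ := ih (CommRingCat.ofHom ψ) β hR ht hβ
    obtain ⟨C'', α, w₂, hα, hpo₂⟩ := swap_one p a hA α₁ hα₁
    have h2 := hpo₂.paste_horiz hpo₁
    have h3 : CommRingCat.ofHom (AdjoinRoot.of (X ^ p - C a : A[X])) ≫ CommRingCat.ofHom ψ = φ := by
      ext x
      exact RingHom.congr_fun hψ x
    rw [h3] at h2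
    exact ⟨C'', α, w₂ ≫ w₁, hα, IsTowerHom.of_isPushout p (n + 1) h2 hφ0, h2⟩

end Groth.Agent.Lib.Seat88.QuietTower
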