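import Mathlib
import Groth.Prelude.Def_EtBase
import Groth.Agent.S0117

/-!
# Topological invariance of the small étale site: full faithfulness of base change

For a surjective closed immersion `i : S₀ ⟶ S`, `EtCoh.bc i : S.Etale ⥤ S₀.Etale` is fully faithful (from the
prior statement S0117).
-/

set_option autoImplicit false
set_option linter.style.haveILetI false
set_option linter.unusedSectionVars false
universe u

open CategoryTheory CategoryTheory.Limits AlgebraicGeometry

namespace Groth.Agent.Lib.Seat88.TopInvA

variable {S S₀ : Scheme.{u}} (i : S₀ ⟶ S) [IsClosedImmersion i] [Surjective i]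

/-- the forgetful functor from étale `S`-schemes to `S`-schemes -/
noncomputable abbrev fg (S : Scheme.{u}) : S.Etale ⥤ Over S :=
  Scheme.Etale.forget S

theorem fg_bc_map {X Y : S.Etale} (φ : Y ⟶ X) :
    (fg S₀).map ((EtCoh.bc i).map φ) = (Over.pullback i).map ((fg S).map φ) := rfl

instance faithful_bc : (EtCoh.bc i).Faithful where
  map_injective {Y X} φ ψ h := by
    haveI : AlgebraicGeometry.Etale ((fg S).obj X).hom := X.prop
    have h1 : (Over.pullback i).map ((fg S).map φ) = (Over.pullback i).map ((fg S).map ψ) := by
      rw [← fg_bc_map, ← fg_bc_map, h]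
    have h2 := (Groth.Agent.S0117.result i ((fg S).obj X) ((fg S).obj Y)).1 h1
    exact (fg S).map_injective h2

instance full_bc : (EtCoh.bc i).Full where
  map_surjective {Y X} ψ₀ := by
    haveI : AlgebraicGeometry.Etale ((fg S).obj X).hom := X.prop
    obtain ⟨φ', hφ'⟩ := (Groth.Agent.S0117.result i ((fg S).obj X) ((fg S).obj Y)).2
      ((fg S₀).map ψ₀)
    obtain ⟨φ, rfl⟩ := (fg S).map_surjective φ'
    refine ⟨φ, ?_⟩
    apply (fg S₀).map_injective
    rw [fg_bc_map]
    exact hφ'

end Groth.Agent.Lib.Seat88.TopInvA
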