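import Mathlib
import Groth.Prelude.Def_EtBase
import Groth.Agent.Lib.Seat88TopInvA
import Groth.Agent.Lib.Seat3EtaleClosedLift
import Groth.Agent.Lib.Seat66SmallEt

/-!
# Topological invariance of the small étale site: essential surjectivity of base change

For a surjective closed immersion `i : S₀ ⟶ S`, every étale `S₀`-scheme `X₀` is the base change of an étale
`S`-scheme: local lifts (seat 3) are glued along the locally directed system of liftable opens of `X₀`,
using full faithfulness (`TopInvA`) for the transition maps.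
-/

set_option autoImplicit false
set_option linter.style.haveILetI false
set_option linter.unusedSectionVars false
universe u

open CategoryTheory CategoryTheory.Limits AlgebraicGeometry
open Groth.Agent.Lib.Seat66.SmallEt Groth.Agent.Lib.Seat88.TopInvA

namespace Groth.Agent.Lib.Seat88.TopInvB

section General

/-- A bijective open morphism which is locally on the source an open immersion is an isomorphism. -/
theorem isIso_of_locally_isOpenImmersion {X Y : Scheme.{u}} (f : X ⟶ Y)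
    (hinj : Function.Injective f) (hsurj : Function.Surjective f) (hopen : IsOpenMap f)
    (h : ∀ x : X, ∃ U : X.Opens, x ∈ U ∧ IsOpenImmersion (U.ι ≫ f)) : IsIso f := by
  have hemb : Topology.IsOpenEmbedding f :=
    .of_continuous_injective_isOpenMap f.continuous hinj hopen
  have hst : ∀ x : X, IsIso (f.stalkMap x) := by
    intro x
    obtain ⟨U, hxU, hU⟩ := h x
    let a : U.toScheme := ⟨x, hxU⟩
    have h1 : IsIso ((U.ι ≫ f).stalkMap a) := inferInstance
    rw [Scheme.Hom.stalkMap_comp] at h1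
    exact @IsIso.of_isIso_comp_right _ _ _ _ _ (f.stalkMap (U.ι a)) (U.ι.stalkMap a) inferInstance h1
  haveI := IsOpenImmersion.of_isIso_stalkMap f hemb
  haveI : Surjective f := ⟨hsurj⟩
  exact (isIso_iff_isOpenImmersion_and_surjective f).mpr ⟨inferInstance, inferInstance⟩

/-- base change of a morphism over `C` along `g : B ⟶ C`, as a pullback square -/
theorem isPullback_lift {A A' B C : Scheme.{u}} (f : A ⟶ C) (f' : A' ⟶ C) (g : B ⟶ C) (φ : A ⟶ A')
    (w : φ ≫ f' = f) :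
    IsPullback (pullback.lift (pullback.fst f g ≫ φ) (pullback.snd f g)
      (by rw [Category.assoc, w, pullback.condition])) (pullback.fst f g) (pullback.fst f' g) φ := by
  subst w
  refine IsPullback.of_right (h₁₂ := pullback.snd f' g) (v₁₃ := g) (h₂₂ := f') ?_
    (pullback.lift_fst _ _ _) (IsPullback.of_hasPullback f' g).flip
  rw [pullback.lift_snd]
  exact (IsPullback.of_hasPullback (φ ≫ f') g).flip

end General

variable {S S₀ : Scheme.{u}} (i : S₀ ⟶ S) [IsClosedImmersion i] [Surjective i] (X₀ : S₀.Etale)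

/-- the projection from the base change to the original scheme (a universal homeomorphism) -/
noncomputable def pr (Z : S.Etale) : ((EtCoh.bc i).obj Z).left ⟶ Z.left :=
  pullback.fst Z.hom i

theorem bc_obj_hom (Z : S.Etale) : ((EtCoh.bc i).obj Z).hom = pullback.snd Z.hom i := rfl

theorem bc_map_left {Z Z' : S.Etale} (φ : Z ⟶ Z') :
    ((EtCoh.bc i).map φ).left =
      pullback.lift (pullback.fst Z.hom i ≫ φ.left) (pullback.snd Z.hom i)
        (by rw [Category.assoc, MorphismProperty.Over.w φ, pullback.condition]) := rfl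

@[reassoc]
theorem bc_map_pr {Z Z' : S.Etale} (φ : Z ⟶ Z') :
    ((EtCoh.bc i).map φ).left ≫ pr i Z' = pr i Z ≫ φ.left := by
  rw [bc_map_left]
  exact pullback.lift_fst _ _ _

instance (Z : S.Etale) : IsClosedImmersion (pr i Z) :=
  inferInstanceAs (IsClosedImmersion (pullback.fst Z.hom i))

instance (Z : S.Etale) : Surjective (pr i Z) :=
  inferInstanceAs (Surjective (pullback.fst Z.hom i))

theorem pr_injective (Z : S.Etale) : Function.Injective (pr i Z) :=
  (pr i Z).isEmbedding.injective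

theorem pr_surjective (Z : S.Etale) : Function.Surjective (pr i Z) :=
  (pr i Z).surjective

/-! ### Liftable opens -/

/-- an open of `X₀` is liftable if it is the base change of an étale `S`-scheme -/
def IsLiftable (W : X₀.left.Opens) : Prop :=
  ∃ Z : S.Etale, Nonempty ((EtCoh.bc i).obj Z ≅ opn X₀ W)

/-- liftable opens form a basis -/
theorem exists_liftable (W : X₀.left.Opens) (u : X₀.left) (hu : u ∈ W) :
    ∃ W' : X₀.left.Opens, W' ≤ W ∧ u ∈ W' ∧ IsLiftable i X₀ W' := by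
  let a : W.toScheme := ⟨u, hu⟩
  haveI : Etale (W.ι ≫ X₀.hom) := (opn X₀ W).prop
  obtain ⟨V, p, hp, h, hh, hopen, b, hb⟩ :=
    Groth.Agent.Lib.Seat3.EtaleClosedLift.exists_local_lift i (W.ι ≫ X₀.hom) a
  haveI := hopen
  refine ⟨(h ≫ W.ι).opensRange, ?_, ?_, ?_⟩
  · rintro _ ⟨c, rfl⟩
    exact (h c).2
  · refine ⟨b, ?_⟩
    change W.ι (h b) = u
    rw [show h b = a from hb]
    rfl
  · refine ⟨Scheme.Etale.mk p, ⟨MorphismProperty.Over.isoMk (h ≫ W.ι).isoOpensRange ?_⟩⟩
    change (h ≫ W.ι).isoOpensRange.hom ≫ (h ≫ W.ι).opensRange.ι ≫ X₀.hom = pullback.snd p i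
    rw [← Category.assoc, Scheme.Hom.isoOpensRange_hom_ι, Category.assoc, hh]

/-- the index category: liftable opens -/
abbrev J : Type u := {W : X₀.left.Opens // IsLiftable i X₀ W}

variable {i X₀}

/-- a chosen lift of a liftable open -/
noncomputable def Zc (W : J i X₀) : S.Etale := W.2.choose

/-- the chosen identification -/
noncomputable def ec (W : J i X₀) : (EtCoh.bc i).obj (Zc W) ≅ opn X₀ W.1 :=
  W.2.choose_spec.some

theorem opnLE_refl (W : X₀.left.Opens) : opnLE X₀ (le_refl W) = 𝟙 _ := by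
  rw [← cancel_mono (opnι X₀ W), opnLE_ι, Category.id_comp]

theorem opnLE_comp {W W' W'' : X₀.left.Opens} (h : W ≤ W') (h' : W' ≤ W'') :
    opnLE X₀ h ≫ opnLE X₀ h' = opnLE X₀ (h.trans h') := by
  rw [← cancel_mono (opnι X₀ W''), Category.assoc, opnLE_ι, opnLE_ι, opnLE_ι]

instance {W W' : X₀.left.Opens} (h : W ≤ W') : Mono (opnLE X₀ h) :=
  mono_of_mono_fac (opnLE_ι X₀ h)

/-- the transition morphism between chosen lifts -/
noncomputable def tr {W W' : J i X₀} (h : W.1 ≤ W'.1) : Zc W ⟶ Zc W' :=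
  (EtCoh.bc i).preimage ((ec W).hom ≫ opnLE X₀ h ≫ (ec W').inv)

theorem bc_map_tr {W W' : J i X₀} (h : W.1 ≤ W'.1) :
    (EtCoh.bc i).map (tr h) = (ec W).hom ≫ opnLE X₀ h ≫ (ec W').inv :=
  (EtCoh.bc i).map_preimage _

theorem tr_refl (W : J i X₀) : tr (le_refl W.1) = 𝟙 (Zc W) := by
  apply (EtCoh.bc i).map_injective
  rw [bc_map_tr, opnLE_refl, Category.id_comp, Iso.hom_inv_id, (EtCoh.bc i).map_id]

theorem tr_comp {W W' W'' : J i X₀} (h : W.1 ≤ W'.1) (h' : W'.1 ≤ W''.1) :
    tr h ≫ tr h' = tr (h.trans h') := by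
  apply (EtCoh.bc i).map_injective
  rw [Functor.map_comp, bc_map_tr, bc_map_tr, bc_map_tr]
  simp only [Category.assoc, Iso.inv_hom_id_assoc]
  rw [← opnLE_comp h h', Category.assoc]

instance {W W' : J i X₀} (h : W.1 ≤ W'.1) : Mono (tr h) := by
  haveI : Mono ((EtCoh.bc i).map (tr h)) := by
    rw [bc_map_tr]
    infer_instance
  exact (EtCoh.bc i).mono_of_mono_map inferInstance

/-- the diagram of chosen lifts -/
noncomputable def F : J i X₀ ⥤ S.Etale where
  obj := Zc
  map f := tr (leOfHom f)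
  map_id W := tr_refl W
  map_comp f g := (tr_comp (leOfHom f) (leOfHom g)).symm

/-- the homeomorphism from a liftable open to its lift -/
noncomputable def τ (W : J i X₀) : W.1.toScheme ⟶ (Zc W).left :=
  (ec W).inv.left ≫ pr i (Zc W)

theorem opnLE_left_ι {W W' : X₀.left.Opens} (h : W ≤ W') :
    (opnLE X₀ h).left ≫ W'.ι = W.ι :=
  congrArg (fun k => k.left) (opnLE_ι X₀ h)

@[reassoc]
theorem τ_tr {W W' : J i X₀} (h : W.1 ≤ W'.1) :
    τ W ≫ (tr h).left = (opnLE X₀ h).left ≫ τ W' := by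
  have h1 : (ec W).inv ≫ (EtCoh.bc i).map (tr h) = opnLE X₀ h ≫ (ec W').inv := by
    rw [bc_map_tr, Iso.inv_hom_id_assoc]
  have h2 : (ec W).inv.left ≫ ((EtCoh.bc i).map (tr h)).left =
      (opnLE X₀ h).left ≫ (ec W').inv.left := congrArg (fun k => k.left) h1
  calc τ W ≫ (tr h).left = (ec W).inv.left ≫ (pr i (Zc W) ≫ (tr h).left) := Category.assoc _ _ _
    _ = (ec W).inv.left ≫ (((EtCoh.bc i).map (tr h)).left ≫ pr i (Zc W')) :=
        congrArg (fun k => (ec W).inv.left ≫ k) (bc_map_pr i (tr h)).symm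
    _ = ((ec W).inv.left ≫ ((EtCoh.bc i).map (tr h)).left) ≫ pr i (Zc W') :=
        (Category.assoc _ _ _).symm
    _ = ((opnLE X₀ h).left ≫ (ec W').inv.left) ≫ pr i (Zc W') :=
        congrArg (fun k => k ≫ pr i (Zc W')) h2
    _ = _ := Category.assoc _ _ _

instance (W : J i X₀) : IsIso (ec W).inv.left :=
  inferInstanceAs (IsIso ((Scheme.Etale.forget S₀ ⋙ Over.forget S₀).map (ec W).inv))

theorem τ_apply (W : J i X₀) (a : W.1.toScheme) : τ W a = pr i (Zc W) ((ec W).inv.left a) :=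
  Scheme.Hom.comp_apply _ _ _

theorem τ_injective (W : J i X₀) : Function.Injective (τ W) := by
  intro a b hab
  rw [τ_apply, τ_apply] at hab
  exact (ConcreteCategory.bijective_of_isIso (ec W).inv.left.base).1 (pr_injective i _ hab)

theorem τ_surjective (W : J i X₀) : Function.Surjective (τ W) := by
  intro z
  obtain ⟨y, rfl⟩ := pr_surjective i (Zc W) z
  obtain ⟨a, rfl⟩ := (ConcreteCategory.bijective_of_isIso (ec W).inv.left.base).2 y
  exact ⟨a, τ_apply W a⟩

theorem τ_tr_apply {W W' : J i X₀} (h : W.1 ≤ W'.1) (a : W.1.toScheme) :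
    (tr h).left (τ W a) = τ W' ((opnLE X₀ h).left a) :=
  calc (tr h).left (τ W a) = (τ W ≫ (tr h).left) a := (Scheme.Hom.comp_apply _ _ _).symm
    _ = ((opnLE X₀ h).left ≫ τ W') a :=
        congrArg (fun k : W.1.toScheme ⟶ (Zc W').left => k a) (τ_tr h)
    _ = _ := Scheme.Hom.comp_apply _ _ _

theorem opnLE_left_apply {W W' : X₀.left.Opens} (h : W ≤ W') (a : W.toScheme) :
    W'.ι ((opnLE X₀ h).left a) = W.ι a :=
  calc W'.ι ((opnLE X₀ h).left a) = ((opnLE X₀ h).left ≫ W'.ι) a :=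
        (Scheme.Hom.comp_apply _ _ _).symm
    _ = W.ι a := congrArg (fun k : W.toScheme ⟶ X₀.left => k a) (opnLE_left_ι h)

instance {W W' : J i X₀} (h : W.1 ≤ W'.1) : IsOpenImmersion (tr h).left := by
  haveI : Mono (tr h).left :=
    inferInstanceAs (Mono ((Scheme.Etale.forget S ⋙ Over.forget S).map (tr h)))
  exact IsOpenImmersion.of_flat_of_mono _

/-- the diagram of schemes underlying the chosen lifts -/
noncomputable def G : J i X₀ ⥤ Scheme.{u} := F ⋙ Scheme.Etale.forget S ⋙ Over.forget S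

theorem G_obj (W : J i X₀) : (G (i := i) (X₀ := X₀)).obj W = (Zc W).left := rfl

theorem G_map {W W' : J i X₀} (f : W ⟶ W') :
    (G (i := i) (X₀ := X₀)).map f = (tr (leOfHom f)).left := rfl

instance {W W' : J i X₀} (f : W ⟶ W') : IsOpenImmersion ((G (i := i) (X₀ := X₀)).map f) :=
  inferInstanceAs (IsOpenImmersion (tr (leOfHom f)).left)

instance : ((G (i := i) (X₀ := X₀)) ⋙ Scheme.forget).IsLocallyDirected where
  cond {Wi Wj Wk} fi fj xi xj heq := by
    change (tr (leOfHom fi)).left xi = (tr (leOfHom fj)).left xj at heq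
    obtain ⟨a, rfl⟩ := τ_surjective Wi xi
    obtain ⟨b, rfl⟩ := τ_surjective Wj xj
    rw [τ_tr_apply, τ_tr_apply] at heq
    have h1 := congrArg (fun z => Wk.1.ι z) (τ_injective Wk heq)
    simp only [opnLE_left_apply] at h1
    -- the common point
    have hb : Wi.1.ι a ∈ Wj.1 := by rw [h1]; exact (b : Wj.1).2
    obtain ⟨Wl, hle, hu, hlift⟩ := exists_liftable i X₀ (Wi.1 ⊓ Wj.1) (Wi.1.ι a) ⟨(a : Wi.1).2, hb⟩
    let L : J i X₀ := ⟨Wl, hlift⟩
    let c : Wl.toScheme := ⟨Wi.1.ι a, hu⟩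
    refine ⟨L, homOfLE (hle.trans inf_le_left), homOfLE (hle.trans inf_le_right), τ L c, ?_, ?_⟩
    · change (tr _).left (τ L c) = τ Wi a
      rw [τ_tr_apply]
      congr 1
      apply Wi.1.ι.injective
      rw [opnLE_left_apply]
      rfl
    · change (tr _).left (τ L c) = τ Wj b
      rw [τ_tr_apply]
      congr 1
      apply Wj.1.ι.injective
      rw [opnLE_left_apply, ← h1]
      rfl

variable (i X₀)

/-- the glued scheme -/
noncomputable def X : Scheme.{u} := colimit (G (i := i) (X₀ := X₀))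

/-- the inclusion of a chosen lift into the glued scheme -/
noncomputable def ιX (W : J i X₀) : (Zc W).left ⟶ X i X₀ := colimit.ι (G (i := i) (X₀ := X₀)) W

instance (W : J i X₀) : IsOpenImmersion (ιX i X₀ W) :=
  inferInstanceAs (IsOpenImmersion (colimit.ι (G (i := i) (X₀ := X₀)) W))

theorem tr_ιX {W W' : J i X₀} (h : W.1 ≤ W'.1) : (tr h).left ≫ ιX i X₀ W' = ιX i X₀ W :=
  colimit.w (G (i := i) (X₀ := X₀)) (homOfLE h)

/-- the structure morphism of the glued scheme -/
noncomputable def q : X i X₀ ⟶ S :=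
  colimit.desc (G (i := i) (X₀ := X₀))
    { pt := S
      ι :=
        { app := fun W => (Zc W).hom
          naturality := fun _ _ f =>
            (MorphismProperty.Over.w (tr (leOfHom f))).trans (Category.comp_id _).symm } }

theorem ιX_q (W : J i X₀) : ιX i X₀ W ≫ q i X₀ = (Zc W).hom :=
  colimit.ι_desc _ _

theorem ιX_jointly_surjective (x : X i X₀) : ∃ (W : J i X₀) (z : (Zc W).left), ιX i X₀ W z = x :=
  Scheme.IsLocallyDirected.ι_jointly_surjective (G (i := i) (X₀ := X₀)) x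

theorem ιX_eq_iff {W W' : J i X₀} (z : (Zc W).left) (z' : (Zc W').left)
    (h : ιX i X₀ W z = ιX i X₀ W' z') :
    ∃ (L : J i X₀) (h1 : L.1 ≤ W.1) (h2 : L.1 ≤ W'.1) (y : (Zc L).left),
      (tr h1).left y = z ∧ (tr h2).left y = z' := by
  obtain ⟨L, f1, f2, y, hy1, hy2⟩ :=
    (Scheme.IsLocallyDirected.ι_eq_ι_iff (G (i := i) (X₀ := X₀))).mp h
  exact ⟨L, leOfHom f1, leOfHom f2, y, hy1, hy2⟩

instance : Etale (q i X₀) := by
  refine (IsZariskiLocalAtSource.iff_of_openCover (P := @Etale) (f := q i X₀)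
    (Scheme.IsLocallyDirected.openCover (G (i := i) (X₀ := X₀)))).mpr ?_
  intro W
  change Etale (ιX i X₀ W ≫ q i X₀)
  rw [ιX_q]
  exact (Zc W).prop

/-- the glued étale `S`-scheme -/
noncomputable def XE : S.Etale := Scheme.Etale.mk (q i X₀)

/-- the inclusions, as morphisms of étale `S`-schemes -/
noncomputable def ιE (W : J i X₀) : Zc W ⟶ XE i X₀ :=
  MorphismProperty.Over.homMk (ιX i X₀ W) (ιX_q i X₀ W) trivial

theorem tr_ιE {W W' : J i X₀} (h : W.1 ≤ W'.1) : tr h ≫ ιE i X₀ W' = ιE i X₀ W := by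
  apply MorphismProperty.Over.Hom.ext
  exact tr_ιX i X₀ h

/-- the local pieces of the comparison morphism -/
noncomputable def gθ (W : J i X₀) : opn X₀ W.1 ⟶ (EtCoh.bc i).obj (XE i X₀) :=
  (ec W).inv ≫ (EtCoh.bc i).map (ιE i X₀ W)

theorem opnLE_gθ {W W' : J i X₀} (h : W.1 ≤ W'.1) : opnLE X₀ h ≫ gθ i X₀ W' = gθ i X₀ W := by
  have h1 : (ec W).inv ≫ (EtCoh.bc i).map (tr h) = opnLE X₀ h ≫ (ec W').inv := by
    rw [bc_map_tr, Iso.inv_hom_id_assoc]
  unfold gθ
  rw [← Category.assoc, ← h1, Category.assoc, ← (EtCoh.bc i).map_comp, tr_ιE]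

/-- key identity: the local piece followed by the projection is `τ` followed by the inclusion -/
theorem gθ_pr (W : J i X₀) : (gθ i X₀ W).left ≫ pr i (XE i X₀) = τ W ≫ ιX i X₀ W :=
  calc (gθ i X₀ W).left ≫ pr i (XE i X₀)
      = (ec W).inv.left ≫ (((EtCoh.bc i).map (ιE i X₀ W)).left ≫ pr i (XE i X₀)) :=
        Category.assoc _ _ _
    _ = (ec W).inv.left ≫ (pr i (Zc W) ≫ (ιE i X₀ W).left) :=
        congrArg (fun k => (ec W).inv.left ≫ k) (bc_map_pr i (ιE i X₀ W))
    _ = τ W ≫ ιX i X₀ W := (Category.assoc _ _ _).symm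

/-- the open cover of `X₀` by liftable opens -/
noncomputable def cov : X₀.left.OpenCover where
  I₀ := J i X₀
  X W := W.1
  f W := W.1.ι
  mem₀ := by
    rw [Scheme.presieve₀_mem_precoverage_iff]
    refine ⟨fun x => ?_, fun W => inferInstanceAs (IsOpenImmersion W.1.ι)⟩
    obtain ⟨W', -, hx, hl⟩ := exists_liftable i X₀ ⊤ x trivial
    exact ⟨⟨W', hl⟩, ⟨x, hx⟩, rfl⟩

instance : Preorder (cov i X₀).I₀ := inferInstanceAs (Preorder (J i X₀))

theorem cov_f (W : J i X₀) : (cov i X₀).f W = W.1.ι := rfl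

noncomputable instance : (cov i X₀).LocallyDirected :=
  .ofIsBasisOpensRange
    (by
      intro W W'
      change W.1 ≤ W'.1 ↔ W.1.ι.opensRange ≤ W'.1.ι.opensRange
      rw [Scheme.Opens.opensRange_ι, Scheme.Opens.opensRange_ι])
    (by
      rw [TopologicalSpace.Opens.isBasis_iff_nbhd]
      intro U x hx
      obtain ⟨W', hle, hx', hl⟩ := exists_liftable i X₀ U x hx
      refine ⟨W', ⟨⟨W', hl⟩, ?_⟩, hx', hle⟩
      change W'.ι.opensRange = W'
      exact Scheme.Opens.opensRange_ι W')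

theorem cov_trans {W W' : J i X₀} (f : W ⟶ W') :
    (cov i X₀).trans f = (opnLE X₀ (leOfHom f)).left :=
  (cancel_mono W'.1.ι).mp (((cov i X₀).trans_map f).trans (opnLE_left_ι (leOfHom f)).symm)

theorem θ_compat {W W' : (cov i X₀).I₀} (f : W ⟶ W') :
    (cov i X₀).trans f ≫ (gθ i X₀ W').left = (gθ i X₀ W).left := by
  rw [cov_trans]
  exact congrArg (fun k => k.left) (opnLE_gθ i X₀ (leOfHom f))

/-- the underlying morphism of the comparison morphism -/
noncomputable def θl : X₀.left ⟶ ((EtCoh.bc i).obj (XE i X₀)).left :=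
  (cov i X₀).glueMorphismsOfLocallyDirected (fun W => (gθ i X₀ W).left) (θ_compat i X₀)

theorem ι_θl (W : J i X₀) : W.1.ι ≫ θl i X₀ = (gθ i X₀ W).left :=
  (cov i X₀).map_glueMorphismsOfLocallyDirected (fun W => (gθ i X₀ W).left) (θ_compat i X₀) W

theorem θl_hom : θl i X₀ ≫ ((EtCoh.bc i).obj (XE i X₀)).hom = X₀.hom := by
  apply (cov i X₀).hom_ext
  intro W
  change W.1.ι ≫ θl i X₀ ≫ _ = W.1.ι ≫ X₀.hom
  rw [← Category.assoc, ι_θl]
  exact MorphismProperty.Over.w (gθ i X₀ W)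

/-- the comparison morphism -/
noncomputable def θ : X₀ ⟶ (EtCoh.bc i).obj (XE i X₀) :=
  MorphismProperty.Over.homMk (θl i X₀) (θl_hom i X₀) trivial

theorem θl_pr_apply (W : J i X₀) (a : W.1.toScheme) :
    pr i (XE i X₀) (θl i X₀ (W.1.ι a)) = ιX i X₀ W (τ W a) := by
  have h1 : W.1.ι ≫ θl i X₀ ≫ pr i (XE i X₀) = τ W ≫ ιX i X₀ W :=
    (Category.assoc _ _ _).symm.trans
      ((congrArg (fun k => k ≫ pr i (XE i X₀)) (ι_θl i X₀ W)).trans (gθ_pr i X₀ W))
  have h2 : (W.1.ι ≫ θl i X₀ ≫ pr i (XE i X₀)) a = (τ W ≫ ιX i X₀ W) a :=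
    congrArg (fun k : W.1.toScheme ⟶ X i X₀ => k a) h1
  have h3 : (W.1.ι ≫ θl i X₀ ≫ pr i (XE i X₀)) a = pr i (XE i X₀) (θl i X₀ (W.1.ι a)) :=
    (Scheme.Hom.comp_apply W.1.ι (θl i X₀ ≫ pr i (XE i X₀)) a).trans
      (Scheme.Hom.comp_apply (θl i X₀) (pr i (XE i X₀)) (W.1.ι a))
  exact h3.symm.trans (h2.trans (Scheme.Hom.comp_apply (τ W) (ιX i X₀ W) a))

theorem exists_mem_liftable (x : X₀.left) : ∃ (W : J i X₀) (a : W.1.toScheme), W.1.ι a = x := by
  obtain ⟨W', -, hx, hl⟩ := exists_liftable i X₀ ⊤ x trivial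
  exact ⟨⟨W', hl⟩, ⟨x, hx⟩, rfl⟩

theorem θl_injective : Function.Injective (θl i X₀) := by
  intro x y hxy
  obtain ⟨W, a, rfl⟩ := exists_mem_liftable i X₀ x
  obtain ⟨W', b, rfl⟩ := exists_mem_liftable i X₀ y
  have h1 := congrArg (fun z => pr i (XE i X₀) z) hxy
  simp only [θl_pr_apply] at h1
  obtain ⟨L, hL, hL', y, hy, hy'⟩ := ιX_eq_iff i X₀ _ _ h1
  obtain ⟨c, rfl⟩ := τ_surjective L y
  rw [τ_tr_apply] at hy hy'
  have e1 := congrArg (fun z => W.1.ι z) (τ_injective W hy)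
  have e2 := congrArg (fun z => W'.1.ι z) (τ_injective W' hy')
  simp only [opnLE_left_apply] at e1 e2
  exact e1.symm.trans e2

theorem θl_surjective : Function.Surjective (θl i X₀) := by
  intro p
  obtain ⟨W, z, hz⟩ := ιX_jointly_surjective i X₀ (pr i (XE i X₀) p)
  obtain ⟨a, rfl⟩ := τ_surjective W z
  refine ⟨W.1.ι a, ?_⟩
  apply pr_injective i (XE i X₀)
  rw [θl_pr_apply, hz]

theorem isPullback_bc_map {Z Z' : S.Etale} (φ : Z ⟶ Z') :
    IsPullback ((EtCoh.bc i).map φ).left (pr i Z) (pr i Z') φ.left :=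
  isPullback_lift Z.hom Z'.hom i φ.left (MorphismProperty.Over.w φ)

theorem isOpenImmersion_bc_map {Z Z' : S.Etale} (φ : Z ⟶ Z') [IsOpenImmersion φ.left] :
    IsOpenImmersion ((EtCoh.bc i).map φ).left :=
  MorphismProperty.of_isPullback (P := @IsOpenImmersion) (isPullback_bc_map i φ).flip inferInstance

theorem isOpenImmersion_gθ (W : J i X₀) : IsOpenImmersion (gθ i X₀ W).left := by
  haveI : IsOpenImmersion (ιE i X₀ W).left := inferInstanceAs (IsOpenImmersion (ιX i X₀ W))
  haveI := isOpenImmersion_bc_map i (ιE i X₀ W)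
  exact inferInstanceAs (IsOpenImmersion ((ec W).inv.left ≫ ((EtCoh.bc i).map (ιE i X₀ W)).left))

instance : IsIso (θl i X₀) := by
  haveI : Etale (θl i X₀) := inferInstanceAs (Etale (θ i X₀).left)
  refine isIso_of_locally_isOpenImmersion (θl i X₀) (θl_injective i X₀) (θl_surjective i X₀)
    (θl i X₀).isOpenMap ?_
  intro x
  obtain ⟨W, a, rfl⟩ := exists_mem_liftable i X₀ x
  refine ⟨W.1, (a : W.1).2, ?_⟩
  rw [ι_θl]
  exact isOpenImmersion_gθ i X₀ W

instance : IsIso (θ i X₀) := by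
  haveI : IsIso ((Scheme.Etale.forget S₀ ⋙ Over.forget S₀).map (θ i X₀)) :=
    inferInstanceAs (IsIso (θl i X₀))
  exact isIso_of_reflects_iso (θ i X₀) (Scheme.Etale.forget S₀ ⋙ Over.forget S₀)

/-- every étale `S₀`-scheme is a base change of an étale `S`-scheme -/
theorem exists_lift : ∃ Z : S.Etale, Nonempty ((EtCoh.bc i).obj Z ≅ X₀) :=
  ⟨XE i X₀, ⟨(asIso (θ i X₀)).symm⟩⟩

instance essSurj_bc : (EtCoh.bc i).EssSurj where
  mem_essImage X₀ := exists_lift i X₀

end Groth.Agent.Lib.Seat88.TopInvB
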