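import Mathlib.RingTheory.WittVector.Truncated
import Mathlib.RingTheory.WittVector.Frobenius
import Mathlib.RingTheory.WittVector.Identities
import Mathlib.RingTheory.WittVector.FrobeniusFractionField
import Mathlib.FieldTheory.Perfect
import Groth.Prelude.Def_W4c1liftfrobW2

/-!
# The kernel of a flat `W₂(k)`-lifting is of square zero (`k` perfect of characteristic `p`)
-/

set_option autoImplicit false
universe u v

namespace Groth.Agent.Lib.Seat88.W2Nil

open FrobAlg

variable (p : ℕ) [Fact p.Prime] (k : Type u) [Field k] [CharP k p]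

theorem w2_p_sq : ((p : W2 p k) * (p : W2 p k)) = 0 := by
  have h1 : (p : W2 p k) = WittVector.truncate 2 (p : WittVector p k) := by
    rw [map_natCast]
  rw [h1, ← map_mul, ← RingHom.mem_ker, WittVector.mem_ker_truncate]
  intro i hi
  rw [← pow_two]
  exact WittVector.coeff_p_pow_eq_zero p k (by omega)

theorem w2_ker_res [PerfectRing k p] (w : W2 p k) (h : res p k w = 0) :
    ∃ w' : W2 p k, w = (p : W2 p k) * w' := by
  obtain ⟨X, rfl⟩ := WittVector.truncate_surjective p 2 k w
  rw [res_truncate] at h
  have h1 : WittVector.verschiebung (X.shift 1) = X := by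
    have := WittVector.verschiebung_shift X 0 (by intro i hi; obtain rfl : i = 0 := by omega
                                                  exact h)
    rw [this]
    ext n
    simp [WittVector.shift_coeff]
  obtain ⟨Y, hY⟩ := (WittVector.frobenius_bijective p k).2 (X.shift 1)
  refine ⟨WittVector.truncate 2 Y, ?_⟩
  have h1' : (p : W2 p k) = WittVector.truncate 2 (p : WittVector p k) := by
    rw [map_natCast]
  rw [h1', ← map_mul, mul_comm, ← WittVector.verschiebung_frobenius, hY, h1]

theorem ker_res_sq [PerfectRing k p] : RingHom.ker (res p k) * RingHom.ker (res p k) = ⊥ := by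
  rw [eq_bot_iff, Ideal.mul_le]
  intro a ha b hb
  obtain ⟨a', rfl⟩ := w2_ker_res p k a ha
  obtain ⟨b', rfl⟩ := w2_ker_res p k b hb
  rw [Ideal.mem_bot]
  calc (p : W2 p k) * a' * ((p : W2 p k) * b') = ((p : W2 p k) * (p : W2 p k)) * (a' * b') := by ring
    _ = 0 := by rw [w2_p_sq, zero_mul]

variable {p k}
variable [PerfectRing k p] {A : Type v} [CommRing A] [Algebra k A] {B : Type v} [CommRing B]
  {ι : W2 p k →+* B} {π : B →+* A}

theorem ker_sq (h : IsLift p k A B ι π) : RingHom.ker π * RingHom.ker π = ⊥ := by
  rw [h.ker_eq, ← Ideal.map_mul, ker_res_sq, Ideal.map_bot]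

theorem isNilpotent_ker (h : IsLift p k A B ι π) : IsNilpotent (RingHom.ker π) :=
  ⟨2, by rw [pow_two, ker_sq h]; rfl⟩

end Groth.Agent.Lib.Seat88.W2Nil
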