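import Mathlib
import Groth.Prelude.Def_Frob
import Groth.Prelude.Def_W4c1liftfrobW2
import Groth.Agent.S0117
import Groth.Agent.Lib.Seat88TopInvB
import Groth.Agent.Lib.Seat88W2Nil

/-!
# Étale schemes over a `W₂`-Frobenius-liftable scheme are `W₂`-Frobenius-liftable

* `exists_etale_lift`: along a surjective closed immersion `i : X ⟶ Xl`, an étale `q : Y ⟶ X` is the base
  change of an étale `ql : Yl ⟶ Xl`;
* `exists_endo_lift`: compatible endomorphisms of `X`, `Xl`, `Y` lift to `Yl`;
* `spec_res_*`: `Spec k ⟶ Spec W₂(k)` is a surjective closed immersion (`k` perfect of characteristic `p`).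
-/

set_option autoImplicit false
set_option linter.style.haveILetI false
set_option linter.unusedSectionVars false
universe u

open CategoryTheory CategoryTheory.Limits AlgebraicGeometry

namespace Groth.Agent.Lib.Seat88.W2EtLift

section General

variable {X Xl Y : Scheme.{u}} (i : X ⟶ Xl) [IsClosedImmersion i] [Surjective i] (q : Y ⟶ X)
  [AlgebraicGeometry.Etale q]

/-- an étale scheme over a closed subscheme with the same underlying space lifts -/
theorem exists_etale_lift :
    ∃ (Yl : Scheme.{u}) (ql : Yl ⟶ Xl) (j : Y ⟶ Yl), AlgebraicGeometry.Etale ql ∧ IsPullback j q ql i := by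
  obtain ⟨Z, ⟨e⟩⟩ := Groth.Agent.Lib.Seat88.TopInvB.exists_lift i (Scheme.Etale.mk q)
  let eL : pullback Z.hom i ≅ Y := (Scheme.Etale.forget X ⋙ Over.forget X).mapIso e
  have heL : eL.hom ≫ q = pullback.snd Z.hom i := MorphismProperty.Over.w e.hom
  refine ⟨Z.left, Z.hom, eL.inv ≫ pullback.fst Z.hom i, Z.prop, ?_⟩
  refine IsPullback.of_iso (IsPullback.of_hasPullback Z.hom i) eL (Iso.refl _) (Iso.refl _)
    (Iso.refl _) ?_ ?_ ?_ ?_
  · simp
  · simp [heL]
  · simp
  · simp

variable {i q}

/-- compatible endomorphisms lift to the étale lift -/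
theorem exists_endo_lift {Yl : Scheme.{u}} {ql : Yl ⟶ Xl} [AlgebraicGeometry.Etale ql] {j : Y ⟶ Yl}
    (hpb : IsPullback j q ql i) (Fl : Xl ⟶ Xl) (FX : X ⟶ X) (FY : Y ⟶ Y)
    (hF : i ≫ Fl = FX ≫ i) (hq : FY ≫ q = q ≫ FX) :
    ∃ Gl : Yl ⟶ Yl, j ≫ Gl = FY ≫ j ∧ Gl ≫ ql = ql ≫ Fl := by
  -- the target: the base change of `ql` along `Fl`
  let A : Over Xl := Over.mk (pullback.snd ql Fl)
  let B : Over Xl := Over.mk ql
  haveI : AlgebraicGeometry.Etale A.hom :=
    inferInstanceAs (AlgebraicGeometry.Etale (pullback.snd ql Fl))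
  -- identification of `Y` with the pullback
  let eY : Y ≅ pullback ql i := hpb.isoPullback
  have heY1 : eY.hom ≫ pullback.fst ql i = j := hpb.isoPullback_hom_fst
  have heY2 : eY.hom ≫ pullback.snd ql i = q := hpb.isoPullback_hom_snd
  have heY1' : eY.inv ≫ j = pullback.fst ql i := hpb.isoPullback_inv_fst
  have heY2' : eY.inv ≫ q = pullback.snd ql i := hpb.isoPullback_inv_snd
  -- the morphism downstairs
  have w1 : (eY.inv ≫ FY ≫ j) ≫ ql = (pullback.snd ql i ≫ i) ≫ Fl := by
    rw [Category.assoc, Category.assoc, hpb.w, reassoc_of% hq, ← hF, reassoc_of% heY2',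
      Category.assoc]
  let α : pullback ql i ⟶ pullback ql Fl := pullback.lift (eY.inv ≫ FY ≫ j) (pullback.snd ql i ≫ i) w1
  have w2 : α ≫ A.hom = pullback.snd ql i ≫ i := pullback.lift_snd _ _ _
  let ψ₀ : (Over.pullback i).obj B ⟶ (Over.pullback i).obj A :=
    Over.homMk (pullback.lift α (pullback.snd ql i) w2) (pullback.lift_snd _ _ _)
  obtain ⟨φ, hφ⟩ := (Groth.Agent.S0117.result i A B).2 ψ₀
  have hφ1 : ((Over.pullback i).map φ).left ≫ pullback.fst A.hom i = pullback.fst ql i ≫ φ.left :=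
    pullback.lift_fst _ _ _
  have hφ2 : pullback.fst ql i ≫ φ.left = α := by
    rw [← hφ1]
    change ((fun φ : B ⟶ A => (Over.pullback i).map φ) φ).left ≫ _ = _
    rw [hφ]
    exact pullback.lift_fst _ _ _
  have hφ3 : φ.left ≫ pullback.snd ql Fl = ql := Over.w φ
  refine ⟨φ.left ≫ pullback.fst ql Fl, ?_, ?_⟩
  · have h4 : α ≫ pullback.fst ql Fl = eY.inv ≫ FY ≫ j := pullback.lift_fst _ _ _
    calc j ≫ φ.left ≫ pullback.fst ql Fl
        = (eY.hom ≫ pullback.fst ql i) ≫ φ.left ≫ pullback.fst ql Fl := by rw [heY1]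
      _ = eY.hom ≫ (pullback.fst ql i ≫ φ.left) ≫ pullback.fst ql Fl := by
          simp only [Category.assoc]
      _ = eY.hom ≫ eY.inv ≫ FY ≫ j := by rw [hφ2, h4]
      _ = FY ≫ j := by rw [Iso.hom_inv_id_assoc]
  · rw [Category.assoc, pullback.condition, reassoc_of% hφ3]

end General

section W2

open FrobAlg

variable (p : ℕ) [Fact p.Prime] (k : Type u) [Field k] [CharP k p] [PerfectRing k p]

theorem res_surjective : Function.Surjective (res p k) := fun x =>
  ⟨WittVector.truncate 2 (WittVector.teichmuller p x), by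
    rw [res_truncate, WittVector.teichmuller_coeff_zero]⟩

instance spec_res_isClosedImmersion :
    IsClosedImmersion (Spec.map (CommRingCat.ofHom (res p k))) :=
  IsClosedImmersion.spec_of_surjective _ (res_surjective p k)

instance spec_res_surjective : Surjective (Spec.map (CommRingCat.ofHom (res p k))) := by
  constructor
  intro P
  have hP : P ∈ Set.range (PrimeSpectrum.comap (res p k)) := by
    rw [range_comap_of_surjective _ _ (res_surjective p k)]
    intro a ha
    have h1 : a * a ∈ (⊥ : Ideal (W2 p k)) := by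
      rw [← Groth.Agent.Lib.Seat88.W2Nil.ker_res_sq p k]
      exact Ideal.mul_mem_mul ha ha
    rw [Ideal.mem_bot] at h1
    have h2 : a * a ∈ P.asIdeal := by rw [h1]; exact P.asIdeal.zero_mem
    exact (P.isPrime.mem_or_mem h2).elim id id
  obtain ⟨Q, hQ⟩ := hP
  exact ⟨Q, hQ⟩

end W2

end Groth.Agent.Lib.Seat88.W2EtLift
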