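import Mathlib
import Groth.Prelude.Def_W4c1liftfrobW2
import Groth.Agent.Lib.Helper5W2
import Groth.Agent.Lib.Helper5W2Lift
import Groth.Agent.Lib.Helper5W2Coeff

/-!
# Lifting Frobenius to a flat `W₂(k)`-lifting of a formally smooth algebra

* `exists_section`: a flat lifting `B` over `W₂(k)` of a formally smooth `k`-algebra `A` has the lifting
  property against surjections `T → B` of `W₂(k)`-algebras whose kernel is square-zero and killed by `p`.
* `exists_frobLift`: the Frobenius of `A` lifts to `B`.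
-/

set_option autoImplicit false
set_option linter.style.haveILetI false
universe u

namespace Groth.Agent.Lib.Seat88.W2FrobLift

open Groth.Agent.Lib.Helper5.W2Lift Groth.Agent.Lib.Helper5.W2Coeff

variable {p : ℕ} [Fact p.Prime] {k : Type u} [Field k] [CharP k p] [PerfectRing k p]
variable {A : Type u} [CommRing A] [Algebra k A] {B : Type u} [CommRing B]
  {ι : FrobAlg.W2 p k →+* B} {π : B →+* A}

omit [CharP k p] [PerfectRing k p] in
theorem res_surjective : Function.Surjective (FrobAlg.res p k) := fun x =>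
  ⟨TruncatedWittVector.mk p ![x, 0], by rw [FrobAlg.res_apply, TruncatedWittVector.coeff_mk]; rfl⟩

/-- the lifting property of a flat `W₂(k)`-lifting of a formally smooth algebra against small
extensions killed by `p` -/
theorem exists_section (h : FrobAlg.IsLift p k A B ι π) [Algebra.FormallySmooth k A]
    {T : Type u} [CommRing T] (ιT : FrobAlg.W2 p k →+* T) (q : T →+* B)
    (hq : Function.Surjective q) (hqι : q.comp ιT = ι)
    (hN2 : ∀ x y : T, q x = 0 → q y = 0 → x * y = 0)
    (hpN : ∀ x : T, q x = 0 → ((p : ℕ) : T) * x = 0) :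
    ∃ s : B →+* T, (∀ b, q (s b) = b) ∧ s.comp ι = ιT := by
  classical
  set P : T := ((p : ℕ) : T) with hP
  have hPP : P * P = 0 := by
    rw [hP, ← map_natCast ιT, ← map_mul, Groth.Agent.Lib.Helper5.W2.p_sq_eq_zero, map_zero]
  have hqP : q P = ((p : ℕ) : B) := map_natCast q p
  let I : Ideal T := Ideal.span {P}
  let mk : T →+* T ⧸ I := Ideal.Quotient.mk I
  have hmk : ∀ t : T, mk t = 0 ↔ ∃ u, t = P * u := by
    intro t
    rw [Ideal.Quotient.eq_zero_iff_mem, Ideal.mem_span_singleton']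
    constructor
    · rintro ⟨u, rfl⟩
      exact ⟨u, mul_comm _ _⟩
    · rintro ⟨u, rfl⟩
      exact ⟨u, mul_comm _ _⟩
  have hker : RingHom.ker (FrobAlg.res p k) ≤ RingHom.ker (mk.comp ιT) := by
    rw [ker_res, Ideal.span_le, Set.singleton_subset_iff, SetLike.mem_coe, RingHom.mem_ker,
      RingHom.comp_apply, map_natCast, hmk]
    exact ⟨1, (mul_one _).symm⟩
  let kC : k →+* T ⧸ I :=
    RingHom.liftOfSurjective (FrobAlg.res p k) res_surjective ⟨mk.comp ιT, hker⟩
  have hkC : ∀ w, kC (FrobAlg.res p k w) = mk (ιT w) := fun w =>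
    RingHom.liftOfRightInverse_comp_apply _ _ _ _ w
  letI : Algebra k (T ⧸ I) := kC.toAlgebra
  have halg : ∀ w, algebraMap k (T ⧸ I) (FrobAlg.res p k w) = mk (ιT w) := hkC
  have hcomm : ∀ w, π (ι w) = algebraMap k A (FrobAlg.res p k w) := fun w =>
    RingHom.congr_fun h.comm w
  let ρ₀ : T ⧸ I →+* A := Ideal.Quotient.lift I (π.comp q) (by
    intro x hx
    obtain ⟨u, rfl⟩ := (hmk x).1 (Ideal.Quotient.eq_zero_iff_mem.2 hx)
    rw [RingHom.comp_apply, map_mul, map_mul, hqP, pi_p h, zero_mul])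
  have hρ₀ : ∀ t, ρ₀ (mk t) = π (q t) := fun t => Ideal.Quotient.lift_mk _ _ _
  let ρ : (T ⧸ I) →ₐ[k] A :=
    { ρ₀ with
      commutes' := fun x => by
        obtain ⟨w, rfl⟩ := res_surjective (p := p) x
        change ρ₀ (algebraMap k (T ⧸ I) (FrobAlg.res p k w)) = _
        rw [halg, hρ₀, ← hcomm, ← RingHom.comp_apply q, hqι] }
  have hρ : ∀ t, ρ (mk t) = π (q t) := hρ₀
  have hρsurj : Function.Surjective ρ := by
    intro a
    obtain ⟨b, rfl⟩ := h.surj a
    obtain ⟨t, rfl⟩ := hq b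
    exact ⟨mk t, hρ t⟩
  -- elements of the kernel of `ρ` come from the kernel of `q`
  have hkerρ : ∀ c : T ⧸ I, ρ c = 0 → ∃ n : T, q n = 0 ∧ mk n = c := by
    intro c hc
    obtain ⟨t, rfl⟩ := Ideal.Quotient.mk_surjective c
    rw [hρ] at hc
    obtain ⟨b, hb⟩ := exists_eq_p_mul h hc
    obtain ⟨t', rfl⟩ := hq b
    refine ⟨t - P * t', by rw [map_sub, map_mul, hqP, hb, sub_self], ?_⟩
    rw [map_sub, sub_eq_self, hmk]
    exact ⟨t', rfl⟩
  have hnil : IsNilpotent (RingHom.ker (ρ : (T ⧸ I) →+* A)) := by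
    refine ⟨2, ?_⟩
    rw [pow_two, Ideal.zero_eq_bot, eq_bot_iff, Ideal.mul_le]
    intro c hc c' hc'
    obtain ⟨n, hn, rfl⟩ := hkerρ c hc
    obtain ⟨n', hn', rfl⟩ := hkerρ c' hc'
    rw [Ideal.mem_bot, ← map_mul, hN2 n n' hn hn', map_zero]
  let σ : A →ₐ[k] (T ⧸ I) :=
    Algebra.FormallySmooth.liftOfSurjective (AlgHom.id k A) ρ hρsurj hnil
  have hσ : ∀ a, ρ (σ a) = a := fun a =>
    Algebra.FormallySmooth.liftOfSurjective_apply (AlgHom.id k A) ρ hρsurj hnil a
  -- existence
  have hE : ∀ b : B, ∃ t : T, q t = b ∧ mk t = σ (π b) := by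
    intro b
    obtain ⟨t₀, rfl⟩ := hq b
    have h0 : ρ (mk t₀ - σ (π (q t₀))) = 0 := by rw [map_sub, hσ, hρ, sub_self]
    obtain ⟨n, hn, hn'⟩ := hkerρ _ h0
    refine ⟨t₀ - n, by rw [map_sub, hn, sub_zero], ?_⟩
    rw [map_sub, hn', sub_sub_cancel]
  -- uniqueness
  have hU : ∀ t t' : T, q t = q t' → mk t = mk t' → t = t' := by
    intro t t' h1 h2
    rw [← sub_eq_zero]
    have hd1 : q (t - t') = 0 := by rw [map_sub, h1, sub_self]
    have hd2 : mk (t - t') = 0 := by rw [map_sub, h2, sub_self]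
    obtain ⟨u, hu⟩ := (hmk _).1 hd2
    rw [hu] at hd1 ⊢
    rw [map_mul, hqP] at hd1
    have h3 : π (q u) = 0 := pi_eq_zero_of_p_mul h hd1
    obtain ⟨b', hb'⟩ := exists_eq_p_mul h h3
    obtain ⟨u', rfl⟩ := hq b'
    have h4 : q (u - P * u') = 0 := by rw [map_sub, map_mul, hqP, hb', sub_self]
    have h5 := hpN _ h4
    rw [mul_sub, ← mul_assoc, hPP, zero_mul, sub_zero] at h5
    exact h5
  choose s hs1 hs2 using hE
  let S : B →+* T :=
    { toFun := s
      map_one' := hU _ _ (by rw [hs1, map_one]) (by rw [hs2, map_one, map_one, map_one])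
      map_mul' := fun x y => hU _ _ (by rw [hs1, map_mul, hs1, hs1])
        (by rw [hs2, map_mul, map_mul, map_mul, hs2, hs2])
      map_zero' := hU _ _ (by rw [hs1, map_zero]) (by rw [hs2, map_zero, map_zero, map_zero])
      map_add' := fun x y => hU _ _ (by rw [hs1, map_add, hs1, hs1])
        (by rw [hs2, map_add, map_add, map_add, hs2, hs2]) }
  refine ⟨S, hs1, RingHom.ext fun w => ?_⟩
  refine hU _ _ ?_ ?_
  · change q (s (ι w)) = q (ιT w)
    rw [hs1, ← RingHom.comp_apply q, hqι]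
  · change mk (s (ι w)) = mk (ιT w)
    rw [hs2, hcomm, AlgHom.commutes, halg]

/-- the Frobenius of a formally smooth `k`-algebra lifts to any flat lifting over `W₂(k)` -/
theorem exists_frobLift (h : FrobAlg.IsLift p k A B ι π) [Algebra.FormallySmooth k A] :
    ∃ Φ : B →+* B, FrobAlg.IsFrobLift p k A B ι π Φ := by
  have hp0 : p ≠ 0 := (Fact.out : p.Prime).ne_zero
  rcases subsingleton_or_nontrivial A with hA | hA
  · -- the zero ring
    have hB : Subsingleton B := by
      have h1 : π (1 : B) = 0 := Subsingleton.elim _ _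
      obtain ⟨b, hb⟩ := exists_eq_p_mul h h1
      have h2 : ((p : ℕ) : B) = 0 := by
        have := congrArg (fun x => ((p : ℕ) : B) * x) hb
        simp only [mul_one, ← mul_assoc, p_mul_p h, zero_mul] at this
        exact this
      rw [h2, zero_mul] at hb
      exact subsingleton_of_zero_eq_one hb.symm
    exact ⟨RingHom.id B, { h with
      semi := RingHom.ext fun w => Subsingleton.elim _ _
      red := fun b => Subsingleton.elim _ _ }⟩
  haveI hchar : CharP A p := charP_of_injective_algebraMap (algebraMap k A).injective p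
  let T : Subring (B × B) :=
    RingHom.eqLocus (π.comp (RingHom.fst B B)) ((frobenius A p).comp (π.comp (RingHom.snd B B)))
  have hT : ∀ x : B × B, x ∈ T ↔ π x.1 = π x.2 ^ p := fun x => Iff.rfl
  have hcomm : ∀ w, π (ι w) = algebraMap k A (FrobAlg.res p k w) := fun w =>
    RingHom.congr_fun h.comm w
  let ιT : FrobAlg.W2 p k →+* T :=
    RingHom.codRestrict ((ι.comp (FrobAlg.sigma p k)).prod ι) T (fun w => by
      rw [hT]
      change π (ι (FrobAlg.sigma p k w)) = π (ι w) ^ p
      rw [hcomm, hcomm, FrobAlg.res_apply, FrobAlg.res_apply, WittGrp.coeff_frob, map_pow])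
  let q : T →+* B := (RingHom.snd B B).comp T.subtype
  have hq : Function.Surjective q := by
    intro b
    obtain ⟨b', hb'⟩ := h.surj (π b ^ p)
    exact ⟨⟨(b', b), (hT _).2 hb'⟩, rfl⟩
  have hqι : q.comp ιT = ι := RingHom.ext fun w => rfl
  have hker : ∀ x : T, q x = 0 → ∃ c : B, x.1.1 = ((p : ℕ) : B) * c := by
    intro x hx
    have h1 : π x.1.1 = π x.1.2 ^ p := (hT _).1 x.2
    have h2 : x.1.2 = 0 := hx
    rw [h2, map_zero, zero_pow hp0] at h1
    exact exists_eq_p_mul h h1
  have hN2 : ∀ x y : T, q x = 0 → q y = 0 → x * y = 0 := by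
    intro x y hx hy
    obtain ⟨c, hc⟩ := hker x hx
    obtain ⟨c', hc'⟩ := hker y hy
    have hx2 : x.1.2 = 0 := hx
    apply Subtype.ext
    apply Prod.ext
    · change x.1.1 * y.1.1 = 0
      rw [hc, hc', mul_mul_mul_comm, p_mul_p h, zero_mul]
    · change x.1.2 * y.1.2 = 0
      rw [hx2, zero_mul]
  have hpN : ∀ x : T, q x = 0 → ((p : ℕ) : T) * x = 0 := by
    intro x hx
    obtain ⟨c, hc⟩ := hker x hx
    have hx2 : x.1.2 = 0 := hx
    apply Subtype.ext
    apply Prod.ext
    · change ((p : ℕ) : B × B).1 * x.1.1 = 0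
      rw [hc, Prod.fst_natCast, ← mul_assoc, p_mul_p h, zero_mul]
    · change ((p : ℕ) : B × B).2 * x.1.2 = 0
      rw [hx2, mul_zero]
  obtain ⟨s, hs1, hs2⟩ := exists_section h ιT q hq hqι hN2 hpN
  refine ⟨(RingHom.fst B B).comp (T.subtype.comp s), { h with semi := ?_, red := ?_ }⟩
  · refine RingHom.ext fun w => ?_
    change (s (ι w)).1.1 = ι (FrobAlg.sigma p k w)
    have : s (ι w) = ιT w := RingHom.congr_fun hs2 w
    rw [this]
    rfl
  · intro b
    change π (s b).1.1 = π b ^ p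
    have h1 : π (s b).1.1 = π (s b).1.2 ^ p := (hT _).1 (s b).2
    have h2 : (s b).1.2 = b := hs1 b
    rw [h1, h2]

end Groth.Agent.Lib.Seat88.W2FrobLift
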