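import Groth.Prelude.Def_Magnet3
import Mathlib.AlgebraicGeometry.Morphisms.FormallyUnramified
import Mathlib.AlgebraicGeometry.Morphisms.ClosedImmersion
import Mathlib.AlgebraicGeometry.Morphisms.Affine
import Mathlib.AlgebraicGeometry.IdealSheaf.Functorial

/-!
# Nilpotent thickenings and their base change (helper89)

* `ker_eq_map_of_isPushout`: in a pushout square of commutative rings along a surjection `b`, the kernel of the
  opposite map is the extension of `ker b`.
* `ker_pow_eq_bot_of_isPullback`: affine base change of a closed immersion with `ker ^ n = ⊥` has `ker ^ n = ⊥`.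
* `isPullback_whiskerLeft_left`: in `Over S`, `(B ◁ t).left` is the base change of `t.left`.
-/

set_option autoImplicit false
universe u
open CategoryTheory CategoryTheory.Limits MonoidalCategory CartesianMonoidalCategory AlgebraicGeometry Opposite

namespace Groth.Agent.Lib.Seat89.Thicken

/-- In a pushout square of commutative rings with `b` surjective, `ker c` is the extension of `ker b` along `a`. -/
theorem ker_eq_map_of_isPushout {R A R' A' : CommRingCat.{u}} {a : R ⟶ A} {b : R ⟶ R'} {c : A ⟶ A'}
    {d : R' ⟶ A'} (h : IsPushout a b c d) (hb : Function.Surjective b.hom) :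
    RingHom.ker c.hom = Ideal.map a.hom (RingHom.ker b.hom) := by
  apply le_antisymm
  · -- use the universal property with target `A ⧸ J`
    set J : Ideal A := Ideal.map a.hom (RingHom.ker b.hom) with hJ
    let q : A ⟶ CommRingCat.of (A ⧸ J) := CommRingCat.ofHom (Ideal.Quotient.mk J)
    have hle : RingHom.ker b.hom ≤ RingHom.ker ((Ideal.Quotient.mk J).comp a.hom) := by
      intro x hx
      rw [RingHom.mem_ker, RingHom.comp_apply, Ideal.Quotient.eq_zero_iff_mem]
      exact Ideal.mem_map_of_mem _ hx
    let r0 : R' →+* A ⧸ J := RingHom.liftOfSurjective b.hom hb ⟨(Ideal.Quotient.mk J).comp a.hom, hle⟩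
    let r : R' ⟶ CommRingCat.of (A ⧸ J) := CommRingCat.ofHom r0
    have hr : a ≫ q = b ≫ r := by
      ext x
      change (Ideal.Quotient.mk J) (a.hom x) = r0 (b.hom x)
      have := RingHom.liftOfRightInverse_comp_apply b.hom _ (Function.rightInverse_surjInv hb)
        ⟨(Ideal.Quotient.mk J).comp a.hom, hle⟩ x
      exact this.symm
    intro x hx
    have h1 : c ≫ h.desc q r hr = q := h.inl_desc q r hr
    have h2 : q.hom x = 0 := by
      rw [← h1]
      change (h.desc q r hr).hom (c.hom x) = 0
      rw [RingHom.mem_ker.mp hx, map_zero]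
    exact Ideal.Quotient.eq_zero_iff_mem.mp h2
  · rw [Ideal.map_le_iff_le_comap]
    intro x hx
    rw [Ideal.mem_comap, RingHom.mem_ker]
    have : c.hom (a.hom x) = d.hom (b.hom x) := by
      have := congrArg (fun φ => φ.hom x) h.w
      exact this
    rw [this, RingHom.mem_ker.mp hx, map_zero]

/-- Affine base change of a nilpotent closed immersion is nilpotent of the same order. -/
theorem ker_pow_eq_bot_of_isPullback {X Y S T : Scheme.{u}} {f : T ⟶ S} {g : Y ⟶ X} {iX : X ⟶ S}
    {iY : Y ⟶ T} (H : IsPullback g iY iX f) [IsAffine X] [IsAffine S] [IsClosedImmersion f] (n : ℕ)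
    (hn : f.ker ^ n = ⊥) : g.ker ^ n = ⊥ := by
  have hT : IsAffine T := (IsClosedImmersion.isAffine_surjective_of_isAffine (f := f)).1
  have hsurj : Function.Surjective f.appTop.hom :=
    (IsClosedImmersion.isAffine_surjective_of_isAffine (f := f)).2
  have hg : IsClosedImmersion g := MorphismProperty.of_isPullback H.flip inferInstance
  have hpo : IsPushout iX.appTop f.appTop g.appTop iY.appTop := isPushout_appTop_of_isPullback H
  have hker := ker_eq_map_of_isPushout hpo hsurj
  have hf0 : (RingHom.ker f.appTop.hom) ^ n = ⊥ := by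
    have h1 := congrArg (fun I => I.ideal ⟨⊤, isAffineOpen_top S⟩) hn
    change (RingHom.ker (f.app ⊤).hom) ^ n = ⊥
    simpa [Scheme.IdealSheafData.ideal_pow, Scheme.Hom.ker_apply] using h1
  apply Scheme.IdealSheafData.ext_of_isAffine
  rw [Scheme.IdealSheafData.ideal_pow, Pi.pow_apply, Scheme.Hom.ker_apply]
  change (RingHom.ker g.appTop.hom) ^ n = ⊥
  rw [hker, ← Ideal.map_pow, hf0, Ideal.map_bot]

/-- In `Over S`, `(B ◁ t).left` is the base change of `t.left` along the second projection. -/
theorem isPullback_whiskerLeft_left {S : Scheme.{u}} (B : Over S) {T T' : Over S} (t : T ⟶ T') :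
    IsPullback (B ◁ t).left (pullback.snd B.hom T.hom) (pullback.snd B.hom T'.hom) t.left := by
  refine IsPullback.of_right (h₁₂ := pullback.fst B.hom T'.hom) (v₁₃ := B.hom) (h₂₂ := T'.hom) ?_ ?_
    (IsPullback.of_hasPullback B.hom T'.hom)
  · have h1 : (B ◁ t).left ≫ pullback.fst B.hom T'.hom = pullback.fst B.hom T.hom :=
      Over.whiskerLeft_left_fst t
    have h2 : t.left ≫ T'.hom = T.hom := Over.w t
    rw [h1, h2]
    exact IsPullback.of_hasPullback B.hom T.hom
  · exact Over.whiskerLeft_left_snd t

/-- The kernel of `Spec.map φ` is nilpotent of order `n` when `ker φ` is. -/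
theorem ker_SpecMap_pow {R R' : CommRingCat.{u}} (φ : R ⟶ R') (n : ℕ)
    (hn : (RingHom.ker φ.hom) ^ n = ⊥) : (Spec.map φ).ker ^ n = ⊥ := by
  apply Scheme.IdealSheafData.ext_of_isAffine
  rw [Scheme.IdealSheafData.ideal_pow, Pi.pow_apply, Scheme.Hom.ker_apply]
  change (RingHom.ker (Spec.map φ).appTop.hom) ^ n = ⊥
  have hle : RingHom.ker (Spec.map φ).appTop.hom ≤
      Ideal.map (Scheme.ΓSpecIso R).inv.hom (RingHom.ker φ.hom) := by
    intro x hx
    have h1 : φ.hom ((Scheme.ΓSpecIso R).hom.hom x) = 0 := by
      have h2 := congrArg (fun ψ => ψ.hom x) (Scheme.ΓSpecIso_naturality φ)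
      simp only [CommRingCat.hom_comp, RingHom.comp_apply] at h2
      rw [← h2, RingHom.mem_ker.mp hx, map_zero]
    have h3 : x = (Scheme.ΓSpecIso R).inv.hom ((Scheme.ΓSpecIso R).hom.hom x) := by
      have := congrArg (fun ψ => ψ.hom x) (Scheme.ΓSpecIso R).hom_inv_id
      exact this.symm
    rw [h3]
    exact Ideal.mem_map_of_mem _ h1
  rw [eq_bot_iff]
  calc (RingHom.ker (Spec.map φ).appTop.hom) ^ n
      ≤ (Ideal.map (Scheme.ΓSpecIso R).inv.hom (RingHom.ker φ.hom)) ^ n := Ideal.pow_right_mono hle n
    _ = ⊥ := by rw [← Ideal.map_pow, hn, Ideal.map_bot]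

/-- `Spec (A ⧸ I) ⟶ Spec A` has kernel nilpotent of order `n` when `I ^ n = ⊥`. -/
theorem ker_SpecMap_quotient_pow {A : Type u} [CommRing A] (I : Ideal A) (n : ℕ) (hI : I ^ n = ⊥) :
    (Spec.map (CommRingCat.ofHom (Ideal.Quotient.mk I))).ker ^ n = ⊥ := by
  apply ker_SpecMap_pow
  change (RingHom.ker (Ideal.Quotient.mk I)) ^ n = ⊥
  rw [Ideal.mk_ker, hI]

/-- The structure morphism of the diagonalizable monoid scheme `A(N)_S` is affine. -/
theorem isAffineHom_AMonS (S : Scheme.{u}) (N : Type) [AddCommMonoid N] :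
    IsAffineHom (Magnet.AMonS S N).hom := by
  change IsAffineHom (pullback.snd (Magnet.AMon (ULift.{u} ℤ) N).hom
    (Limits.IsTerminal.from specULiftZIsTerminal S))
  have : IsAffineHom (Magnet.AMon (ULift.{u} ℤ) N).hom := by
    change IsAffineHom (Spec.map _)
    infer_instance
  exact MorphismProperty.pullback_snd _ _ this

open Magnet in
/-- Uniqueness of infinitesimal lifts for the functor of equivariant maps along a formally unramified
equivariant morphism: two elements of `eqvHom ρ aX` over an affine `T'` with the same restriction to a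
nilpotent closed subscheme `T` and the same image in `eqvHom ρ aY` are equal (`B` affine over `S`). -/
theorem eqvHom_ext_of_thickening {S : Scheme.{u}} {A B X Y : Over S} [MonObj A]
    (ρ : MonAct A B) (aX : MonAct A X) (aY : MonAct A Y) (f : X ⟶ Y)
    (hf : MonAct.IsEquivariant aX aY f) [FormallyUnramified f.left]
    {T T' : Over S} (t : T ⟶ T') [IsClosedImmersion t.left] [IsAffine T'.left] [IsAffineHom B.hom]
    (n : ℕ) (hn : t.left.ker ^ n = ⊥)
    (l₁ l₂ : (MonAct.eqvHom ρ aX).obj (op T'))
    (htop : (MonAct.eqvHom ρ aX).map t.op l₁ = (MonAct.eqvHom ρ aX).map t.op l₂)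
    (hbot : (MonAct.eqvHom.postcomp ρ f hf).app _ l₁ = (MonAct.eqvHom.postcomp ρ f hf).app _ l₂) :
    l₁ = l₂ := by
  have H := isPullback_whiskerLeft_left B t
  have hci : IsClosedImmersion (B ◁ t).left := MorphismProperty.of_isPullback H.flip inferInstance
  have haff : IsAffine (B ⊗ T').left := by
    change IsAffine (pullback B.hom T'.hom)
    infer_instance
  have hnil : IsNilpotent (B ◁ t).left.ker := ⟨n, ker_pow_eq_bot_of_isPullback H n hn⟩
  apply Subtype.ext
  apply Over.OverMorphism.ext
  refine FormallyUnramified.hom_ext (B ◁ t).left hnil f.left ?_ ?_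
  · have h1 := congrArg (fun x => x.1.left) htop
    exact h1
  · have h1 := congrArg (fun x => x.1.left) hbot
    exact h1

end Groth.Agent.Lib.Seat89.Thicken
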