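import Groth.Agent.Lib.Seat89Attr
import Groth.Agent.Lib.Seat89Thicken
import Mathlib.AlgebraicGeometry.Sites.Fpqc
import Mathlib.AlgebraicGeometry.Morphisms.Flat

/-!
# Descent properties of the image of an attractor in `X` (helper89)

For an action `a` of `A(M)_S` on `X` and a magnet `N`, `InAttr a N x` says that the `T`-point `x` of `X` lies in the
image of `X^N(T) ⟶ X(T)`; `P a N ξ` is the same for a morphism of schemes `ξ : T₀ ⟶ X.left`.  For `X` separated over `S`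
this property is stable under precomposition (`P_precomp`), descends along quasi-compact flat surjective morphisms
(`P_desc`) and is Zariski local on the source (`P_loc`).
-/

set_option autoImplicit false
universe u
open CategoryTheory CategoryTheory.Limits MonoidalCategory CartesianMonoidalCategory MonObj AlgebraicGeometry Opposite
open Magnet

namespace Groth.Agent.Lib.Seat89.AttrDesc

variable {S : Scheme.{u}} {M : Type} [AddCommMonoid M] {X : Over S} (a : MonAct (AMonS S M) X) (N : AddSubmonoid M)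

/-- the `T`-point `x` of `X` lies in the image of the attractor `X^N` -/
def InAttr {T : Over S} (x : T ⟶ X) : Prop :=
  ∃ φ : (attr a N).obj (op T), (attrToX a N).app (op T) φ = x

theorem attrToX_map {T T' : Over S} (s : T' ⟶ T) (φ : (attr a N).obj (op T)) :
    (attrToX a N).app (op T') ((attr a N).map s.op φ) = s ≫ (attrToX a N).app (op T) φ := by
  have := congrArg (fun m => m φ) ((attrToX a N).naturality s.op)
  exact this

theorem InAttr.precomp {T T' : Over S} {x : T ⟶ X} (h : InAttr a N x) (s : T' ⟶ T) : InAttr a N (s ≫ x) := by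
  obtain ⟨φ, rfl⟩ := h
  exact ⟨(attr a N).map s.op φ, attrToX_map a N s φ⟩

/-- the scheme-level predicate -/
def P {T₀ : Scheme.{u}} (ξ : T₀ ⟶ X.left) : Prop :=
  InAttr a N (Over.homMk ξ : Over.mk (ξ ≫ X.hom) ⟶ X)

theorem P_iff {T : Over S} (x : T ⟶ X) : P a N x.left ↔ InAttr a N x := by
  obtain ⟨e, he⟩ : ∃ e : Over.mk (x.left ≫ X.hom) ≅ T,
      e.hom ≫ x = (Over.homMk x.left : Over.mk (x.left ≫ X.hom) ⟶ X) := by
    refine ⟨Over.isoMk (Iso.refl _) (by simp), ?_⟩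
    apply Over.OverMorphism.ext
    simp
  unfold P
  constructor
  · intro h
    have h2 := h.precomp a N e.inv
    rw [← he, Iso.inv_hom_id_assoc] at h2
    exact h2
  · intro h
    rw [← he]
    exact h.precomp a N e.hom

theorem P_precomp {T T' : Scheme.{u}} (g : T' ⟶ T) (ξ : T ⟶ X.left) (h : P a N ξ) : P a N (g ≫ ξ) := by
  unfold P at h ⊢
  have e : (Over.homMk (g ≫ ξ) : Over.mk ((g ≫ ξ) ≫ X.hom) ⟶ X) =
      (Over.homMk g (by simp) : Over.mk ((g ≫ ξ) ≫ X.hom) ⟶ Over.mk (ξ ≫ X.hom)) ≫ Over.homMk ξ := by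
    apply Over.OverMorphism.ext
    simp
  rw [e]
  exact h.precomp a N _

/-- two elements of the attractor over `T₁`, `T₂` lying over the same point of `X(T)` agree on the fibre product -/
theorem agreeO [IsSeparated X.hom] {T T₁ T₂ : Over S} (x : T ⟶ X) (p₁ : T₁ ⟶ T) (p₂ : T₂ ⟶ T)
    (φ₁ : (attr a N).obj (op T₁)) (φ₂ : (attr a N).obj (op T₂))
    (h₁ : (attrToX a N).app (op T₁) φ₁ = p₁ ≫ x) (h₂ : (attrToX a N).app (op T₂) φ₂ = p₂ ≫ x)
    {ZO : Over S} (G₁ : ZO ⟶ AMonS S ↥N ⊗ T₁) (G₂ : ZO ⟶ AMonS S ↥N ⊗ T₂)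
    (hG : G₁ ≫ (AMonS S ↥N ◁ p₁) = G₂ ≫ (AMonS S ↥N ◁ p₂)) :
    G₁ ≫ φ₁.1 = G₂ ≫ φ₂.1 := by
  have hn : G₁ ≫ fst _ _ = G₂ ≫ fst _ _ := by
    have := congrArg (fun m => m ≫ fst _ _) hG
    simpa only [Category.assoc, whiskerLeft_fst] using this
  have ht : (G₁ ≫ snd _ _) ≫ p₁ = (G₂ ≫ snd _ _) ≫ p₂ := by
    have := congrArg (fun m => m ≫ snd _ _) hG
    simpa only [Category.assoc, whiskerLeft_snd] using this
  have hψ : (attr a N).map (G₁ ≫ snd _ _).op φ₁ = (attr a N).map (G₂ ≫ snd _ _).op φ₂ := by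
    apply Attr.attr_ext a N ZO
    rw [attrToX_map, attrToX_map, h₁, h₂, ← Category.assoc, ht, Category.assoc]
  have hψ1 := congrArg Subtype.val hψ
  rw [MonAct.eqvHom_map_coe, MonAct.eqvHom_map_coe] at hψ1
  have e₁ : G₁ = lift (G₁ ≫ fst _ _) (𝟙 ZO) ≫ (AMonS S ↥N ◁ (G₁ ≫ snd _ _)) := by
    rw [lift_whiskerLeft, Category.id_comp]
    exact (lift_comp_fst_snd G₁).symm
  have e₂ : G₂ = lift (G₁ ≫ fst _ _) (𝟙 ZO) ≫ (AMonS S ↥N ◁ (G₂ ≫ snd _ _)) := by
    rw [lift_whiskerLeft, Category.id_comp, hn]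
    exact (lift_comp_fst_snd G₂).symm
  rw [e₁, e₂, Category.assoc, Category.assoc]
  congr 1

theorem agree [IsSeparated X.hom] {T T₁ T₂ : Over S} (x : T ⟶ X) (p₁ : T₁ ⟶ T) (p₂ : T₂ ⟶ T)
    (φ₁ : (attr a N).obj (op T₁)) (φ₂ : (attr a N).obj (op T₂))
    (h₁ : (attrToX a N).app (op T₁) φ₁ = p₁ ≫ x) (h₂ : (attrToX a N).app (op T₂) φ₂ = p₂ ≫ x)
    {Z : Scheme.{u}} (g₁ : Z ⟶ (AMonS S ↥N ⊗ T₁).left) (g₂ : Z ⟶ (AMonS S ↥N ⊗ T₂).left)
    (hg : g₁ ≫ (AMonS S ↥N ◁ p₁).left = g₂ ≫ (AMonS S ↥N ◁ p₂).left) :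
    g₁ ≫ φ₁.1.left = g₂ ≫ φ₂.1.left := by
  have hw : g₂ ≫ (AMonS S ↥N ⊗ T₂).hom = g₁ ≫ (AMonS S ↥N ⊗ T₁).hom := by
    rw [← Over.w (AMonS S ↥N ◁ p₂), ← Over.w (AMonS S ↥N ◁ p₁), ← Category.assoc, ← Category.assoc, hg]
  have key := agreeO a N x p₁ p₂ φ₁ φ₂ h₁ h₂
    (Over.homMk g₁ rfl : Over.mk (g₁ ≫ (AMonS S ↥N ⊗ T₁).hom) ⟶ AMonS S ↥N ⊗ T₁)
    (Over.homMk g₂ hw : Over.mk (g₁ ≫ (AMonS S ↥N ⊗ T₁).hom) ⟶ AMonS S ↥N ⊗ T₂)
    (by
      apply Over.OverMorphism.ext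
      exact hg)
  exact congrArg (fun m => m.left) key

section Family

variable [IsSeparated X.hom] {T : Over S} {I : Type*} {Ti : I → Over S} (p : ∀ i, Ti i ⟶ T)

/-- **Descent of attractor points along a family** `p i : Ti i ⟶ T` which is universally jointly epimorphic (`hE`) and
along which morphisms out of `A(N)_S × T` glue (`hG`). -/
theorem inAttr_of_family
    (hE : ∀ (B : Over S) (Y : Scheme.{u}) (f g : (B ⊗ T).left ⟶ Y),
      (∀ i, (B ◁ p i).left ≫ f = (B ◁ p i).left ≫ g) → f = g)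
    (hG : ∀ ψ : ∀ i, (AMonS S ↥N ⊗ Ti i).left ⟶ X.left,
      (∀ (i j : I) (Z : Scheme.{u}) (g₁ : Z ⟶ (AMonS S ↥N ⊗ Ti i).left) (g₂ : Z ⟶ (AMonS S ↥N ⊗ Ti j).left),
        g₁ ≫ (AMonS S ↥N ◁ p i).left = g₂ ≫ (AMonS S ↥N ◁ p j).left → g₁ ≫ ψ i = g₂ ≫ ψ j) →
      ∃ ψ₀ : (AMonS S ↥N ⊗ T).left ⟶ X.left, ∀ i, (AMonS S ↥N ◁ p i).left ≫ ψ₀ = ψ i)
    (x : T ⟶ X) (h : ∀ i, InAttr a N (p i ≫ x)) : InAttr a N x := by
  choose φ hφ using h
  obtain ⟨ψ₀, hψ₀⟩ := hG (fun i => (φ i).1.left)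
    (fun i j Z g₁ g₂ hg => agree a N x (p i) (p j) (φ i) (φ j) (hφ i) (hφ j) g₁ g₂ hg)
  have hw : ψ₀ ≫ X.hom = (AMonS S ↥N ⊗ T).hom := by
    apply hE
    intro i
    rw [← Category.assoc, hψ₀, Over.w, Over.w]
  obtain ⟨ψ, hψl⟩ : ∃ ψ : AMonS S ↥N ⊗ T ⟶ X, ψ.left = ψ₀ := ⟨Over.homMk ψ₀ hw, rfl⟩
  have hψ : ∀ i, (AMonS S ↥N ◁ p i) ≫ ψ = (φ i).1 := by
    intro i
    apply Over.OverMorphism.ext
    rw [Over.comp_left, hψl, hψ₀]
  have hEO : ∀ (B : Over S) (f g : B ⊗ T ⟶ X), (∀ i, (B ◁ p i) ≫ f = (B ◁ p i) ≫ g) → f = g := by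
    intro B f g hfg
    apply Over.OverMorphism.ext
    apply hE
    intro i
    rw [← Over.comp_left, ← Over.comp_left, hfg]
  -- equivariance
  have heq : MonAct.IsEquivariant ((subAct S M N).prod (MonAct.trivial (AMonS S M) T)) a ψ := by
    unfold MonAct.IsEquivariant
    rw [← cancel_epi (α_ (AMonS S M) (AMonS S ↥N) T).hom]
    apply hEO
    intro i
    have h1 : ((AMonS S M ⊗ AMonS S ↥N) ◁ p i) ≫ (α_ (AMonS S M) (AMonS S ↥N) T).hom =
        (α_ (AMonS S M) (AMonS S ↥N) (Ti i)).hom ≫ (AMonS S M ◁ (AMonS S ↥N ◁ p i)) :=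
      associator_naturality_right _ _ _
    have h2 := (φ i).2
    unfold MonAct.IsEquivariant at h2
    rw [reassoc_of% h1, reassoc_of% h1, ← MonAct.prod_trivial_act_whiskerLeft_assoc, hψ, h2,
      ← MonoidalCategory.whiskerLeft_comp_assoc, hψ]
  refine ⟨⟨ψ, heq⟩, ?_⟩
  -- the unit section
  change lift (toUnit T ≫ η[AMonS S ↥N]) (𝟙 T) ≫ ψ = x
  have h3 : snd (AMonS S ↥N) T ≫ lift (toUnit T ≫ η[AMonS S ↥N]) (𝟙 T) ≫ ψ = snd (AMonS S ↥N) T ≫ x := by
    apply hEO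
    intro i
    have h4 := hφ i
    change lift (toUnit (Ti i) ≫ η[AMonS S ↥N]) (𝟙 (Ti i)) ≫ (φ i).1 = p i ≫ x at h4
    rw [whiskerLeft_snd_assoc, whiskerLeft_snd_assoc, ← h4, ← hψ, comp_lift_assoc, lift_whiskerLeft_assoc,
      Category.comp_id, Category.id_comp, ← Category.assoc (p i), toUnit_unique (p i ≫ toUnit T) (toUnit (Ti i))]
  have h5 := congrArg (fun m => lift (toUnit T ≫ η[AMonS S ↥N]) (𝟙 T) ≫ m) h3
  simpa only [lift_snd_assoc, Category.id_comp] using h5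

end Family

section Instances

variable [IsSeparated X.hom]

/-- fpqc descent of attractor points -/
theorem inAttr_desc {T T' : Over S} (p : T' ⟶ T) [Flat p.left] [Surjective p.left] [QuasiCompact p.left]
    (x : T ⟶ X) (h : InAttr a N (p ≫ x)) : InAttr a N x := by
  refine inAttr_of_family a N (I := PUnit.{1}) (Ti := fun _ => T') (fun _ => p) ?_ ?_ x (fun _ => h)
  · intro B Y f g hfg
    have Hq := Thicken.isPullback_whiskerLeft_left B p
    have h1 : Flat (B ◁ p).left := MorphismProperty.of_isPullback Hq.flip inferInstance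
    have h2 : Surjective (B ◁ p).left := MorphismProperty.of_isPullback Hq.flip inferInstance
    have h3 : Epi (B ◁ p).left := Flat.epi_of_flat_of_surjective _
    exact (cancel_epi _).1 (hfg PUnit.unit)
  · intro ψ hψ
    have Hq := Thicken.isPullback_whiskerLeft_left (AMonS S ↥N) p
    have h1 : Flat (AMonS S ↥N ◁ p).left := MorphismProperty.of_isPullback Hq.flip inferInstance
    have h2 : Surjective (AMonS S ↥N ◁ p).left := MorphismProperty.of_isPullback Hq.flip inferInstance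
    have h3 : QuasiCompact (AMonS S ↥N ◁ p).left := MorphismProperty.of_isPullback Hq.flip inferInstance
    have h4 : EffectiveEpi (AMonS S ↥N ◁ p).left := inferInstance
    exact ⟨EffectiveEpi.desc (AMonS S ↥N ◁ p).left (ψ PUnit.unit)
      (fun g₁ g₂ hg => hψ PUnit.unit PUnit.unit _ g₁ g₂ hg), fun _ => EffectiveEpi.fac _ _ _⟩

theorem P_desc {T T' : Scheme.{u}} (p : T' ⟶ T) [Flat p] [Surjective p] [QuasiCompact p] (ξ : T ⟶ X.left)
    (h : P a N (p ≫ ξ)) : P a N ξ := by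
  unfold P at h ⊢
  obtain ⟨pO, hpO⟩ : ∃ pO : Over.mk ((p ≫ ξ) ≫ X.hom) ⟶ Over.mk (ξ ≫ X.hom), pO.left = p :=
    ⟨Over.homMk p (by simp), rfl⟩
  have e : (Over.homMk (p ≫ ξ) : Over.mk ((p ≫ ξ) ≫ X.hom) ⟶ X) = pO ≫ Over.homMk ξ := by
    apply Over.OverMorphism.ext
    rw [Over.comp_left, hpO]
    rfl
  rw [e] at h
  have i1 : Flat pO.left := by rw [hpO]; infer_instance
  have i2 : Surjective pO.left := by rw [hpO]; infer_instance
  have i3 : QuasiCompact pO.left := by rw [hpO]; infer_instance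
  exact inAttr_desc a N pO _ h

/-- Zariski descent of attractor points -/
theorem inAttr_loc {T : Over S} (𝒰 : Scheme.OpenCover.{u} T.left) (x : T ⟶ X)
    (h : ∀ i, InAttr a N ((Over.homMk (𝒰.f i) rfl : Over.mk (𝒰.f i ≫ T.hom) ⟶ T) ≫ x)) : InAttr a N x := by
  obtain ⟨uO, huO⟩ : ∃ uO : ∀ i, Over.mk (𝒰.f i ≫ T.hom) ⟶ T, ∀ i, uO i = Over.homMk (𝒰.f i) rfl := ⟨_, fun _ => rfl⟩
  have hul : ∀ i, (uO i).left = 𝒰.f i := fun i => by rw [huO]; rfl
  simp only [← huO] at h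
  refine inAttr_of_family a N (Ti := fun i => Over.mk (𝒰.f i ≫ T.hom)) uO ?_ ?_ x h
  · intro B Y f g hfg
    refine Scheme.Cover.hom_ext (𝒰.pullback₁ (pullback.snd B.hom T.hom)) f g fun i => ?_
    have Hq := Thicken.isPullback_whiskerLeft_left B (uO i)
    rw [hul] at Hq
    change pullback.fst (pullback.snd B.hom T.hom) (𝒰.f i) ≫ f = pullback.fst (pullback.snd B.hom T.hom) (𝒰.f i) ≫ g
    rw [← Hq.isoPullback_inv_fst, Category.assoc, Category.assoc, hfg i]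
  · intro ψ hψ
    have Hq : ∀ i, IsPullback (AMonS S ↥N ◁ uO i).left
        (pullback.snd (AMonS S ↥N).hom (Over.mk (𝒰.f i ≫ T.hom)).hom)
        (pullback.snd (AMonS S ↥N).hom T.hom) (𝒰.f i) := by
      intro i
      have := Thicken.isPullback_whiskerLeft_left (AMonS S ↥N) (uO i)
      rw [hul] at this
      exact this
    have hcompat : ∀ i j : 𝒰.I₀,
        pullback.fst (pullback.fst (pullback.snd (AMonS S ↥N).hom T.hom) (𝒰.f i))
            (pullback.fst (pullback.snd (AMonS S ↥N).hom T.hom) (𝒰.f j)) ≫ (Hq i).isoPullback.inv ≫ ψ i =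
          pullback.snd (pullback.fst (pullback.snd (AMonS S ↥N).hom T.hom) (𝒰.f i))
            (pullback.fst (pullback.snd (AMonS S ↥N).hom T.hom) (𝒰.f j)) ≫ (Hq j).isoPullback.inv ≫ ψ j := by
      intro i j
      rw [← Category.assoc, ← Category.assoc]
      apply hψ i j
      rw [Category.assoc, Category.assoc, (Hq i).isoPullback_inv_fst, (Hq j).isoPullback_inv_fst]
      exact pullback.condition
    refine ⟨Scheme.Cover.glueMorphisms (𝒰.pullback₁ (pullback.snd (AMonS S ↥N).hom T.hom))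
      (fun i => (Hq i).isoPullback.inv ≫ ψ i) hcompat, fun i => ?_⟩
    have h1 := Scheme.Cover.ι_glueMorphisms (𝒰.pullback₁ (pullback.snd (AMonS S ↥N).hom T.hom))
      (fun i => (Hq i).isoPullback.inv ≫ ψ i) hcompat i
    change pullback.fst (pullback.snd (AMonS S ↥N).hom T.hom) (𝒰.f i) ≫ _ = _ at h1
    rw [← (Hq i).isoPullback_hom_fst, Category.assoc, h1]
    exact (Hq i).isoPullback.hom_inv_id_assoc (ψ i)

theorem P_loc {T : Scheme.{u}} (ξ : T ⟶ X.left) (𝒰 : Scheme.OpenCover.{u} T) (h : ∀ i, P a N (𝒰.f i ≫ ξ)) :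
    P a N ξ := by
  unfold P
  refine inAttr_loc a N (T := Over.mk (ξ ≫ X.hom)) 𝒰 _ fun i => ?_
  have h1 := (P_iff a N ((Over.homMk (𝒰.f i) rfl : Over.mk (𝒰.f i ≫ (Over.mk (ξ ≫ X.hom)).hom) ⟶
    Over.mk (ξ ≫ X.hom)) ≫ (Over.homMk ξ : Over.mk (ξ ≫ X.hom) ⟶ X))).1
  apply h1
  exact h i

end Instances

end Groth.Agent.Lib.Seat89.AttrDesc
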