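import Groth.Agent.Lib.Seat89MonAlg
import Groth.Agent.Lib.Seat89AttrDesc

/-!
# Attractors of affine schemes: the ideal of the attractor (helper89)

For `X : Over S` with `X.left` affine and an action `a` of `A(M)_S`, `coact a : Γ(X) →+* Γ(X)[M]` is the coaction and
`compIdeal a N` is the ideal generated by the components `(coact a b)_m`, `m ∉ N`.  A point `ξ : T ⟶ X` with `T.left`
affine lies in the image of the attractor `X^N` iff `ξ^#` kills `compIdeal a N` (`compIdeal_le_ker`, `inAttr_of_le_ker`).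
-/

set_option autoImplicit false
universe u
open CategoryTheory CategoryTheory.Limits MonoidalCategory CartesianMonoidalCategory MonObj AlgebraicGeometry Opposite
open Magnet

namespace Groth.Agent.Lib.Seat89.AffAttr

open Coord MonAlg AttrDesc

variable {S : Scheme.{u}} {M : Type} [AddCommMonoid M] {X : Over S} [IsAffine X.left]
  (a : MonAct (AMonS S M) X) (N : AddSubmonoid M)

/-- the coaction `Γ(X) → Γ(X)[M]` -/
noncomputable def coact : Γ(X.left, ⊤) →+* MonoidAlgebra Γ(X.left, ⊤) (Multiplicative M) :=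
  (eY S M X).symm.toRingHom.comp a.act.left.appTop.hom

theorem eY_coact (b : Γ(X.left, ⊤)) : eY S M X (coact a b) = a.act.left.appTop.hom b :=
  (eY S M X).apply_symm_apply _

/-- the ideal generated by the components of degree outside `N` -/
noncomputable def compIdeal : Ideal Γ(X.left, ⊤) :=
  Ideal.span {c | ∃ (b : Γ(X.left, ⊤)) (m : M), m ∉ N ∧ c = (coact a b).coeff (Multiplicative.ofAdd m)}

theorem orbit_appTop {T : Over S} [IsAffine T.left] (ξ : T ⟶ X) (b : Γ(X.left, ⊤)) :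
    ((AMonS S M ◁ ξ) ≫ a.act).left.appTop.hom b =
      eY S M T (MonoidAlgebra.mapRingHom (Multiplicative M) ξ.left.appTop.hom (coact a b)) := by
  rw [← eY_natural_right, eY_coact]
  rfl

theorem not_mem_range_of_not_mem {m : M} (hm : m ∉ N) :
    Multiplicative.ofAdd m ∉ Set.range (AddMonoidHom.toMultiplicative N.subtype) := by
  rintro ⟨n, hn⟩
  apply hm
  have : ((Multiplicative.toAdd n : ↥N) : M) = m := congrArg Multiplicative.toAdd hn
  rw [← this]
  exact (Multiplicative.toAdd n).2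

/-- **necessity**: the image of the attractor is killed by the component ideal -/
theorem compIdeal_le_ker {T : Over S} [IsAffine T.left] (φ : (attr a N).obj (op T)) :
    compIdeal a N ≤ RingHom.ker ((attrToX a N).app (op T) φ).left.appTop.hom := by
  obtain ⟨ξ, hξ⟩ : ∃ ξ : T ⟶ X, ξ = (attrToX a N).app (op T) φ := ⟨_, rfl⟩
  rw [← hξ]
  have horb := Attr.whiskerRight_comp_eq_orbit a N T φ
  rw [← hξ] at horb
  unfold compIdeal
  rw [Ideal.span_le]
  rintro c ⟨b, m, hm, rfl⟩
  change ξ.left.appTop.hom _ = 0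
  obtain ⟨y, hy⟩ : ∃ y, eY S ↥N T y = φ.1.left.appTop.hom b :=
    ⟨(eY S ↥N T).symm _, (eY S ↥N T).apply_symm_apply _⟩
  have h1 : (AMonS.map S N.subtype ▷ T).left.appTop.hom (φ.1.left.appTop.hom b) =
      ((AMonS S M ◁ ξ) ≫ a.act).left.appTop.hom b := by
    rw [← horb]
    rfl
  rw [← hy, eY_natural_left, orbit_appTop] at h1
  have h2 := (eY S M T).injective h1
  have h3 := congrArg (fun z => z.coeff (Multiplicative.ofAdd m)) h2
  simp only [MonoidAlgebra.coeff_mapRingHom] at h3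
  rw [← h3]
  change (MonoidAlgebra.mapDomain _ y).coeff _ = 0
  rw [MonoidAlgebra.coeff_mapDomain]
  exact Finsupp.mapDomain_notin_range _ _ (not_mem_range_of_not_mem N hm)

section Suff

theorem toMultiplicative_subtype_injective :
    Function.Injective (AddMonoidHom.toMultiplicative N.subtype) := by
  intro x y h
  have h2 : ((Multiplicative.toAdd x : ↥N) : M) = ((Multiplicative.toAdd y : ↥N) : M) :=
    congrArg Multiplicative.toAdd h
  have h3 : Multiplicative.toAdd x = Multiplicative.toAdd y := Subtype.ext h2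
  exact Multiplicative.toAdd.injective h3

/-- elements of `C[M]` supported in `N` come from `C[N]` -/
theorem mem_range_mapDomain {C : Type*} [CommRing C] (y : MonoidAlgebra C (Multiplicative M))
    (hy : ∀ m : M, m ∉ N → y.coeff (Multiplicative.ofAdd m) = 0) :
    y ∈ (MonoidAlgebra.mapDomainRingHom C (AddMonoidHom.toMultiplicative N.subtype)).range := by
  refine ⟨MonoidAlgebra.comapDomain _ (toMultiplicative_subtype_injective N) y, ?_⟩
  change MonoidAlgebra.mapDomain _ (MonoidAlgebra.comapDomain _ (toMultiplicative_subtype_injective N) y) = y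
  apply MonoidAlgebra.mapDomain_comapDomain
  intro g hg
  by_contra hgr
  have h0 : y.coeff g = 0 :=
    hy (Multiplicative.toAdd g) (fun hmem => hgr ⟨Multiplicative.ofAdd ⟨_, hmem⟩, rfl⟩)
  exact (Finsupp.mem_support_iff.1 hg) h0

/-- morphisms into an affine scheme from ring maps -/
theorem exists_hom_appTop {W Y : Scheme.{u}} [IsAffine Y] (f : Γ(Y, ⊤) ⟶ Γ(W, ⊤)) :
    ∃ g : W ⟶ Y, g.appTop = f := by
  refine ⟨W.toSpecΓ ≫ (Spec.map f ≫ Y.isoSpec.inv), ?_⟩
  rw [Scheme.Hom.comp_appTop, Scheme.toSpecΓ_appTop]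
  exact Agree.SpecMap_isoSpec_inv_appTop f

/-- the restriction `Γ(A(N) × T) → Γ(A(M) × T)` is injective -/
theorem appTop_restrict_injective (T : Over S) [IsAffine T.left] :
    Function.Injective (AMonS.map S N.subtype ▷ T).left.appTop.hom := by
  intro z₁ z₂ h
  obtain ⟨y₁, rfl⟩ := (eY S ↥N T).surjective z₁
  obtain ⟨y₂, rfl⟩ := (eY S ↥N T).surjective z₂
  rw [eY_natural_left, eY_natural_left] at h
  have h2 := (eY S M T).injective h
  have h3 : y₁ = y₂ := MonoidAlgebra.mapDomain_injective (toMultiplicative_subtype_injective N) h2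
  rw [h3]

variable {T : Over S} [IsAffine T.left] (ξ : T ⟶ X)

/-- **sufficiency**: a point killed by the component ideal lies in the image of the attractor -/
theorem inAttr_of_le_ker (hS : ∃ W : S.Opens, IsAffineOpen W ∧ Set.range X.hom ⊆ (W : Set S))
    (h : compIdeal a N ≤ RingHom.ker ξ.left.appTop.hom) : InAttr a N ξ := by
  haveI hMT : IsAffine (AMonS S M ⊗ T).left := isAffine_tensor S M T
  haveI hNT : IsAffine (AMonS S ↥N ⊗ T).left := isAffine_tensor S ↥N T
  obtain ⟨ιN, hιN⟩ : ∃ ιN : MonoidAlgebra Γ(T.left, ⊤) (Multiplicative ↥N) →+*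
      MonoidAlgebra Γ(T.left, ⊤) (Multiplicative M),
      ιN = MonoidAlgebra.mapDomainRingHom Γ(T.left, ⊤) (AddMonoidHom.toMultiplicative N.subtype) := ⟨_, rfl⟩
  have hιinj : Function.Injective ιN := by
    rw [hιN]
    exact MonoidAlgebra.mapDomain_injective (toMultiplicative_subtype_injective N)
  obtain ⟨θ, hθ⟩ : ∃ θ : Γ(X.left, ⊤) →+* MonoidAlgebra Γ(T.left, ⊤) (Multiplicative M),
      θ = (MonoidAlgebra.mapRingHom (Multiplicative M) ξ.left.appTop.hom).comp (coact a) := ⟨_, rfl⟩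
  have hθr : ∀ b, ∃ y, ιN y = θ b := by
    intro b
    have := mem_range_mapDomain N (θ b) (fun m hm => by
      rw [hθ]
      change (MonoidAlgebra.mapRingHom (Multiplicative M) ξ.left.appTop.hom (coact a b)).coeff _ = 0
      rw [MonoidAlgebra.coeff_mapRingHom]
      exact h (Ideal.subset_span ⟨b, m, hm, rfl⟩))
    rw [← hιN] at this
    exact this
  choose ψf hψf using hθr
  obtain ⟨ψ, hψ⟩ : ∃ ψ : Γ(X.left, ⊤) →+* MonoidAlgebra Γ(T.left, ⊤) (Multiplicative ↥N), ∀ b, ιN (ψ b) = θ b := by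
    refine ⟨{ toFun := ψf, map_one' := ?_, map_mul' := ?_, map_zero' := ?_, map_add' := ?_ }, hψf⟩
    · apply hιinj; rw [hψf, map_one, map_one]
    · intro x y; apply hιinj; rw [hψf, map_mul, map_mul, hψf, hψf]
    · apply hιinj; rw [hψf, map_zero, map_zero]
    · intro x y; apply hιinj; rw [hψf, map_add, map_add, hψf, hψf]
  -- the morphism
  obtain ⟨φ₀, hφ₀⟩ := exists_hom_appTop (W := (AMonS S ↥N ⊗ T).left) (Y := X.left)
    (CommRingCat.ofHom ((eY S ↥N T).toRingHom.comp ψ))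
  have hφ₀b : ∀ b, φ₀.appTop.hom b = eY S ↥N T (ψ b) := fun b => by rw [hφ₀]; rfl
  obtain ⟨r, hr⟩ : ∃ r : AMonS S M ⊗ T ⟶ AMonS S ↥N ⊗ T, r = AMonS.map S N.subtype ▷ T := ⟨_, rfl⟩
  have hrinj : Function.Injective r.left.appTop.hom := by rw [hr]; exact appTop_restrict_injective N T
  have hrφ₀ : r.left ≫ φ₀ = ((AMonS S M ◁ ξ) ≫ a.act).left := by
    apply ext_of_isAffine
    apply CommRingCat.hom_ext
    apply RingHom.ext
    intro b
    rw [Scheme.Hom.comp_appTop]
    change r.left.appTop.hom (φ₀.appTop.hom b) = _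
    rw [hφ₀b, hr, eY_natural_left, orbit_appTop, ← hιN, hψ, hθ]
    rfl
  -- `φ₀` is a morphism over `S`
  have hw : φ₀ ≫ X.hom = (AMonS S ↥N ⊗ T).hom := by
    obtain ⟨W, hW, hXW⟩ := hS
    haveI : IsAffine W.toScheme := hW
    have hr1 : Set.range (φ₀ ≫ X.hom) ⊆ Set.range W.ι := by
      rw [Scheme.Opens.range_ι]
      rintro _ ⟨z, rfl⟩
      exact hXW ⟨φ₀ z, rfl⟩
    have hr2 : Set.range (AMonS S ↥N ⊗ T).hom ⊆ Set.range W.ι := by
      rw [Scheme.Opens.range_ι]
      rintro _ ⟨z, rfl⟩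
      have e : (AMonS S ↥N ⊗ T).hom = ((snd (AMonS S ↥N) T) ≫ ξ).left ≫ X.hom := (Over.w _).symm
      rw [e]
      exact hXW ⟨_, rfl⟩
    have hl1 := IsOpenImmersion.lift_fac W.ι (φ₀ ≫ X.hom) hr1
    have hl2 := IsOpenImmersion.lift_fac W.ι (AMonS S ↥N ⊗ T).hom hr2
    rw [← hl1, ← hl2]
    congr 1
    apply ext_of_isAffine
    have hrr : r.left ≫ IsOpenImmersion.lift W.ι (φ₀ ≫ X.hom) hr1 =
        r.left ≫ IsOpenImmersion.lift W.ι (AMonS S ↥N ⊗ T).hom hr2 := by
      rw [← cancel_mono W.ι, Category.assoc, Category.assoc, hl1, hl2, ← Category.assoc, hrφ₀, Over.w, Over.w]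
    have h2 := congrArg Scheme.Hom.appTop hrr
    rw [Scheme.Hom.comp_appTop, Scheme.Hom.comp_appTop] at h2
    apply CommRingCat.hom_ext
    apply RingHom.ext
    intro c
    apply hrinj
    exact congrArg (fun m => m.hom c) h2
  obtain ⟨φ, hφl⟩ : ∃ φ : AMonS S ↥N ⊗ T ⟶ X, φ.left = φ₀ := ⟨Over.homMk φ₀ hw, rfl⟩
  have hrφ : r ≫ φ = (AMonS S M ◁ ξ) ≫ a.act := by
    apply Over.OverMorphism.ext
    rw [Over.comp_left, hφl, hrφ₀]
  -- equivariance after restriction to `A(M) × A(M) × T`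
  have key : (AMonS S M ◁ r) ≫ ((subAct S M N).prod (MonAct.trivial (AMonS S M) T)).act ≫ φ =
      (AMonS S M ◁ r) ≫ (AMonS S M ◁ φ) ≫ a.act := by
    apply hom_ext_lift₂
    intro T' g z
    obtain ⟨g', hg'⟩ : ∃ g' : T' ⟶ AMonS S M, g' = z ≫ fst _ _ := ⟨_, rfl⟩
    obtain ⟨t, ht⟩ : ∃ t : T' ⟶ T, t = z ≫ snd _ _ := ⟨_, rfl⟩
    have hz : z = lift g' t := by rw [hg', ht]; exact (lift_comp_fst_snd z).symm
    rw [hz]
    have e2 : lift g' t ≫ r = lift (g' ≫ AMonS.map S N.subtype) t := by rw [hr, lift_whiskerRight]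
    have e1 : ∀ k : T' ⟶ AMonS S M, lift (k ≫ AMonS.map S N.subtype) t ≫ φ = lift k (t ≫ ξ) ≫ a.act := by
      intro k
      rw [← lift_whiskerRight_assoc, ← hr, hrφ, lift_whiskerLeft_assoc]
    have hL : lift g (lift g' t) ≫ (AMonS S M ◁ r) ≫
        ((subAct S M N).prod (MonAct.trivial (AMonS S M) T)).act ≫ φ = lift (g * g') (t ≫ ξ) ≫ a.act := by
      rw [lift_whiskerLeft_assoc, e2, MonAct.lift_prod_act_assoc, MonAct.lift_trivial_act]
      unfold subAct
      rw [MonAct.lift_restrict_act, MonAct.lift_regular_act, ← MonObj.mul_comp, e1]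
    have hR : lift g (lift g' t) ≫ (AMonS S M ◁ r) ≫ (AMonS S M ◁ φ) ≫ a.act =
        lift g (lift g' (t ≫ ξ) ≫ a.act) ≫ a.act := by
      rw [lift_whiskerLeft_assoc, lift_whiskerLeft_assoc, e2, e1]
    rw [hL, hR, MonAct.lift_mul_act]
  have hεinj : Function.Injective (AMonS S M ◁ r).left.appTop.hom := by
    intro z₁ z₂ hz
    obtain ⟨y₁, rfl⟩ := (eY S M (AMonS S ↥N ⊗ T)).surjective z₁
    obtain ⟨y₂, rfl⟩ := (eY S M (AMonS S ↥N ⊗ T)).surjective z₂
    rw [eY_natural_right, eY_natural_right] at hz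
    have h2 := (eY S M (AMonS S M ⊗ T)).injective hz
    have h3 : y₁ = y₂ := MonoidAlgebra.map_injective _ hrinj h2
    rw [h3]
  have heq : MonAct.IsEquivariant ((subAct S M N).prod (MonAct.trivial (AMonS S M) T)) a φ := by
    unfold MonAct.IsEquivariant
    apply Over.OverMorphism.ext
    apply ext_of_isAffine
    have h2 := congrArg (fun m => m.left.appTop) key
    simp only [Over.comp_left, Scheme.Hom.comp_appTop] at h2 ⊢
    apply CommRingCat.hom_ext
    apply RingHom.ext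
    intro c
    apply hεinj
    exact congrArg (fun m => m.hom c) h2
  refine ⟨⟨φ, heq⟩, ?_⟩
  change lift (toUnit T ≫ η[AMonS S ↥N]) (𝟙 T) ≫ φ = ξ
  have e4 : η[AMonS S ↥N] = η[AMonS S M] ≫ AMonS.map S N.subtype := (IsMonHom.one_hom (AMonS.map S N.subtype)).symm
  rw [e4, ← Category.assoc, ← lift_whiskerRight_assoc, ← hr, hrφ, lift_whiskerLeft_assoc, Category.id_comp,
    ← Hom.one_def, MonAct.lift_one_act]

end Suff

end Groth.Agent.Lib.Seat89.AffAttr
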