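import Groth.Agent.Lib.Seat89Comap
import Groth.Prelude.Def_Magnet4

/-!
# Open immersions and attractors (helper89)

For an equivariant open immersion `f : X ⟶ Y` of `S`-schemes with `D(M)_S`-action and a magnet `N ⊆ M`:
an equivariant `ψ : A(N)_S ×_S T ⟶ Y` factors through `X` as soon as its restriction to the idempotent section
`e_{N*}` (the unit-face point of `A(N)`) does (`landsIn_of_landsIn_ept`).  Consequently, a morphism representing
`f^N : X^N ⟶ Y^N` is an open immersion (`isOpenImmersion_of_represents`).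

* `AMonS_map_comp_faceMap`, `restrict_comp_faceMap`, `restrict_comp_faceMap'`: `ι_F(a|_F) = a · e_F`.
* `LandsIn`, `landsIn_iff`, `LandsIn.act`, `LandsIn.of_act`, `LandsIn.of_surjective`.
* `denseRange_whiskerRight`, `ptOver`, `ptOverι`.
* `landsIn_one_of_landsIn` (density/orbit argument on fibres), `exists_cover_lift_surj`.
-/

set_option autoImplicit false
universe u
open CategoryTheory CategoryTheory.Limits MonoidalCategory CartesianMonoidalCategory MonObj AlgebraicGeometry Opposite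
open Magnet

namespace Groth.Agent.Lib.Seat89.OpenImm

section Face

variable (R : Type u) [CommRing R] {M : Type} [AddCommMonoid M] {N F : AddSubmonoid M}

theorem AMon_map_comp_faceMap (hF : IsFace N F) :
    AMon.map R (AddSubmonoid.inclusion hF.le) ≫ AMon.faceMap R hF =
      (𝟙 (AMon R ↥N)) * ((1 : AMon R ↥N ⟶ AMon R ↥F) ≫ AMon.faceMap R hF) := by
  rw [AMon.map_eq_pt, AMon.faceMap, ← CoactBr.pt_comp, ← CoactBr.pt_id, CoactBr.one_eq_pt, ← CoactBr.pt_comp,
    CoactBr.pt_mul_pt]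
  congr 1
  refine MonoidAlgebra.algHom_ext (fun n => ?_) (Subsingleton.elim _ _)
  simp only [AlgHom.comp_apply, Bialgebra.comulAlgHom_apply, MonoidAlgebra.comul_single, Bialgebra.comul_one,
    Algebra.TensorProduct.one_def, TensorProduct.map_tmul, MonoidAlgebra.lsingle_apply, Algebra.TensorProduct.lift_tmul,
    BialgHom.coe_toAlgHom, MonoidAlgebra.mapDomainBialgHom_single]
  by_cases hn : ((Multiplicative.toAdd n : ↥N) : M) ∈ F
  · rw [show n = Multiplicative.ofAdd (Multiplicative.toAdd n) from rfl, faceAlgHom_single_of_mem R hF _ hn]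
    simp
    rfl
  · rw [show n = Multiplicative.ofAdd (Multiplicative.toAdd n) from rfl, faceAlgHom_single_of_not_mem R hF _ hn]
    simp

end Face

section FaceS

variable (S : Scheme.{u}) {M : Type} [AddCommMonoid M] {N F : AddSubmonoid M}

open scoped Obj in
theorem AMonS_map_comp_faceMap (hF : IsFace N F) :
    AMonS.map S (AddSubmonoid.inclusion hF.le) ≫ AMonS.faceMap S hF =
      (𝟙 (AMonS S ↥N)) * ((1 : AMonS S ↥N ⟶ AMonS S ↥F) ≫ AMonS.faceMap S hF) := by
  rw [AMonS.map, AMonS.faceMap, ← Functor.map_comp, AMon_map_comp_faceMap, Functor.map_mul,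
    CategoryTheory.Functor.map_id, CategoryTheory.Functor.map_comp, Functor.map_one]

/-- the idempotent point of `A(N)` attached to the face `F` -/
noncomputable def ept (hF : IsFace N F) (W : Over S) : W ⟶ AMonS S ↥N :=
  (1 : W ⟶ AMonS S ↥F) ≫ AMonS.faceMap S hF

theorem comp_ept (hF : IsFace N F) {W W' : Over S} (c : W' ⟶ W) : c ≫ ept S hF W = ept S hF W' := by
  unfold ept
  rw [← Category.assoc, MonObj.comp_one]

theorem restrict_comp_faceMap (hF : IsFace N F) {W : Over S} (a : W ⟶ AMonS S ↥N) :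
    (a ≫ AMonS.map S (AddSubmonoid.inclusion hF.le)) ≫ AMonS.faceMap S hF = a * ept S hF W := by
  rw [Category.assoc, AMonS_map_comp_faceMap, MonObj.comp_mul, Category.comp_id, ← Category.assoc, MonObj.comp_one]
  rfl

theorem restrict_comp_faceMap' (hF : IsFace N F) {W : Over S} (g : W ⟶ AMonS S M) :
    (g ≫ AMonS.map S F.subtype) ≫ AMonS.faceMap S hF = (g ≫ AMonS.map S N.subtype) * ept S hF W := by
  have e : AMonS.map S F.subtype = AMonS.map S N.subtype ≫ AMonS.map S (AddSubmonoid.inclusion hF.le) := by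
    rw [← AMonS.map_comp]; rfl
  rw [← restrict_comp_faceMap, e]
  simp only [Category.assoc]

end FaceS

section Lands

variable {S : Scheme.{u}} {X Y : Over S} (f : X ⟶ Y)

/-- `y` lands (set-theoretically) in the image of `f`. -/
def LandsIn {W : Over S} (y : W ⟶ Y) : Prop := Set.range y.left ⊆ Set.range f.left

theorem landsIn_iff [IsOpenImmersion f.left] {W : Over S} (y : W ⟶ Y) :
    LandsIn f y ↔ ∃ x : W ⟶ X, x ≫ f = y := by
  constructor
  · intro h
    refine ⟨Over.homMk (IsOpenImmersion.lift f.left y.left h) ?_, ?_⟩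
    · rw [← Over.w f, ← Category.assoc, IsOpenImmersion.lift_fac, Over.w]
    · apply Over.OverMorphism.ext
      exact IsOpenImmersion.lift_fac f.left y.left h
  · rintro ⟨x, rfl⟩
    intro p hp
    obtain ⟨w, rfl⟩ := hp
    exact ⟨x.left w, by rw [Over.comp_left]; rfl⟩

theorem LandsIn.precomp {W W' : Over S} (c : W' ⟶ W) {y : W ⟶ Y} (h : LandsIn f y) : LandsIn f (c ≫ y) := by
  intro p hp
  obtain ⟨w, rfl⟩ := hp
  apply h
  exact ⟨c.left w, by rw [Over.comp_left]; rfl⟩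

theorem landsIn_of_forall {W : Over S} (y : W ⟶ Y)
    (h : ∀ w : W.left, ∃ (W' : Over S) (c : W' ⟶ W), w ∈ Set.range c.left ∧ LandsIn f (c ≫ y)) :
    LandsIn f y := by
  intro p hp
  obtain ⟨w, rfl⟩ := hp
  obtain ⟨W', c, ⟨z, rfl⟩, hc⟩ := h w
  apply hc
  exact ⟨z, by rw [Over.comp_left]; rfl⟩

theorem LandsIn.of_surjective {W W' : Over S} (c : W' ⟶ W) (hc : Function.Surjective c.left) {y : W ⟶ Y}
    (h : LandsIn f (c ≫ y)) : LandsIn f y :=
  landsIn_of_forall f y fun w => ⟨W', c, hc w, h⟩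

variable {M : Type} [AddCommGroup M] (aX : MonAct (AMonS S M) X) (aY : MonAct (AMonS S M) Y)
  (hf : MonAct.IsEquivariant aX aY f)

include hf in
theorem LandsIn.act [IsOpenImmersion f.left] {W : Over S} (g : W ⟶ AMonS S M) {y : W ⟶ Y} (h : LandsIn f y) :
    LandsIn f (lift g y ≫ aY.act) := by
  obtain ⟨x, rfl⟩ := (landsIn_iff f y).1 h
  refine (landsIn_iff f _).2 ⟨lift g x ≫ aX.act, ?_⟩
  rw [Category.assoc]
  exact (MonAct.isEquivariant_iff aX aY f).1 hf W g x

include hf in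
theorem LandsIn.of_act [IsOpenImmersion f.left] {W : Over S} (g : W ⟶ AMonS S M) {y : W ⟶ Y}
    (h : LandsIn f (lift g y ≫ aY.act)) : LandsIn f y := by
  obtain ⟨n, hn, -⟩ := Comap.exists_inv S g
  have := LandsIn.act f aX aY hf n h
  rwa [← aY.lift_mul_act, hn, aY.lift_one_act] at this

end Lands

section KeyL

variable {S : Scheme.{u}} {X Y : Over S} (f : X ⟶ Y)
variable {M : Type} [AddCommGroup M] (aX : MonAct (AMonS S M) X) (aY : MonAct (AMonS S M) Y)
  (hf : MonAct.IsEquivariant aX aY f)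

theorem denseRange_whiskerRight (N : AddSubmonoid M) (T : Over S) :
    DenseRange (AMonS.map S N.subtype ▷ T).left := by
  obtain ⟨h1, h2⟩ := Density.AMonS_map_whiskerRight_dominant S N.subtype Subtype.val_injective T
  have : IsSchemeTheoreticallyDominant (AMonS.map S N.subtype ▷ T).left := ⟨h2⟩
  exact Scheme.Hom.denseRange _

/-- the spectrum of the residue field at a point, as an object over `S` -/
noncomputable def ptOver (W : Over S) (w : W.left) : Over S :=
  Over.mk (W.left.fromSpecResidueField w ≫ W.hom)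

noncomputable def ptOverι (W : Over S) (w : W.left) : ptOver W w ⟶ W :=
  Over.homMk (W.left.fromSpecResidueField w) rfl

instance (W : Over S) (w : W.left) : Nonempty (ptOver W w).left := by
  change Nonempty (Spec (W.left.residueField w))
  infer_instance

theorem ptOverι_apply (W : Over S) (w : W.left) (z : (ptOver W w).left) : (ptOverι W w).left z = w := by
  have : (ptOverι W w).left z ∈ Set.range (W.left.fromSpecResidueField w) := ⟨z, rfl⟩
  rw [Scheme.range_fromSpecResidueField] at this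
  exact this

include hf in
theorem landsIn_one_of_landsIn [IsOpenImmersion f.left] (N : AddSubmonoid M) {W : Over S} (ψ : AMonS S ↥N ⊗ W ⟶ Y)
    (hψ : MonAct.IsEquivariant ((subAct S M N).prod (MonAct.trivial (AMonS S M) W)) aY ψ)
    (e : W ⟶ AMonS S ↥N) (h0 : LandsIn f (lift e (𝟙 W) ≫ ψ)) :
    LandsIn f (lift (1 : W ⟶ AMonS S ↥N) (𝟙 W) ≫ ψ) := by
  apply landsIn_of_forall
  intro w
  obtain ⟨Wκ, hWκ⟩ : ∃ Wκ : Over S, Wκ = ptOver W w := ⟨_, rfl⟩
  obtain ⟨i, hi⟩ : ∃ i : Wκ ⟶ W, ∀ z, i.left z = w := by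
    subst hWκ; exact ⟨ptOverι W w, ptOverι_apply W w⟩
  have hne : Nonempty Wκ.left := by subst hWκ; infer_instance
  clear hWκ
  obtain ⟨ψκ, hψκ⟩ : ∃ ψκ : AMonS S ↥N ⊗ Wκ ⟶ Y, ψκ = (AMonS S ↥N ◁ i) ≫ ψ := ⟨_, rfl⟩
  have hψκe : MonAct.IsEquivariant ((subAct S M N).prod (MonAct.trivial (AMonS S M) Wκ)) aY ψκ := by
    rw [hψκ]
    exact ((MonAct.eqvHom (subAct S M N) aY).map i.op ⟨ψ, hψ⟩).2
  -- the open set
  have hopen : IsOpen (ψκ.left ⁻¹' Set.range f.left) :=
    (f.left.isOpenEmbedding.isOpen_range).preimage ψκ.left.continuous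
  have hnonempty : (ψκ.left ⁻¹' Set.range f.left).Nonempty := by
    obtain ⟨z⟩ := hne
    refine ⟨(lift (i ≫ e) (𝟙 Wκ)).left z, ?_⟩
    have h1 : LandsIn f (lift (i ≫ e) (𝟙 Wκ) ≫ ψκ) := by
      have : lift (i ≫ e) (𝟙 Wκ) ≫ ψκ = i ≫ lift e (𝟙 W) ≫ ψ := by
        rw [hψκ, lift_whiskerLeft_assoc, comp_lift_assoc, Category.id_comp, Category.comp_id]
      rw [this]
      exact h0.precomp f i
    apply h1
    exact ⟨z, by rw [Over.comp_left]; rfl⟩
  obtain ⟨q, hq⟩ := (denseRange_whiskerRight N Wκ).exists_mem_open hopen hnonempty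
  obtain ⟨WL, hWL⟩ : ∃ WL : Over S, WL = ptOver (AMonS S M ⊗ Wκ) q := ⟨_, rfl⟩
  obtain ⟨qL, hqL⟩ : ∃ qL : WL ⟶ AMonS S M ⊗ Wκ, ∀ z, qL.left z = q := by
    subst hWL; exact ⟨ptOverι _ q, ptOverι_apply _ q⟩
  have hneL : Nonempty WL.left := by subst hWL; infer_instance
  clear hWL
  obtain ⟨g, hg⟩ : ∃ g : WL ⟶ AMonS S M, g = qL ≫ fst _ _ := ⟨_, rfl⟩
  obtain ⟨i', hi'⟩ : ∃ i' : WL ⟶ Wκ, i' = qL ≫ snd _ _ := ⟨_, rfl⟩
  refine ⟨WL, i' ≫ i, ?_, ?_⟩
  · obtain ⟨z⟩ := hneL
    exact ⟨z, by rw [Over.comp_left]; exact hi _⟩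
  · have h1 : LandsIn f (qL ≫ (AMonS.map S N.subtype ▷ Wκ) ≫ ψκ) := by
      intro p hp
      obtain ⟨z, rfl⟩ := hp
      have : (qL ≫ (AMonS.map S N.subtype ▷ Wκ) ≫ ψκ).left z =
          ψκ.left ((AMonS.map S N.subtype ▷ Wκ).left (qL.left z)) := by
        rw [Over.comp_left, Over.comp_left]; rfl
      rw [this, hqL z]
      exact hq
    have h2 : qL ≫ (AMonS.map S N.subtype ▷ Wκ) ≫ ψκ = lift g (lift 1 i' ≫ ψκ) ≫ aY.act := by
      have := (MonAct.mem_eqvHom_iff ψκ).1 hψκe WL g 1 i'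
      rw [← this]
      have e1 : qL = lift g i' := by
        rw [hg, hi']; exact (lift_comp_fst_snd qL).symm
      have e2 : lift g (1 : WL ⟶ AMonS S ↥N) ≫ (subAct S M N).act = g ≫ AMonS.map S N.subtype := by
        unfold subAct
        rw [MonAct.lift_restrict_act, MonAct.lift_regular_act, _root_.mul_one]
      rw [e2, ← Category.assoc, e1, lift_whiskerRight]
    rw [h2] at h1
    have h3 := LandsIn.of_act f aX aY hf g h1
    have h4 : lift 1 i' ≫ ψκ = (i' ≫ i) ≫ lift (1 : W ⟶ AMonS S ↥N) (𝟙 W) ≫ ψ := by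
      rw [hψκ, lift_whiskerLeft_assoc, comp_lift_assoc, Category.comp_id, MonObj.comp_one]
    rw [h4] at h3
    exact h3

end KeyL

section Lift

/-- fpqc-local lifting of points along `D(G₂)_S ⟶ A(N₁)_S`, with a surjective cover. -/
theorem exists_cover_lift_surj (S : Scheme.{u}) {N₁ G₂ : Type} [AddCommMonoid N₁] [AddCommGroup G₂] (g : N₁ →+ G₂)
    (hg : Function.Injective g) (hneg : ∀ n : N₁, ∃ n' : N₁, g n' = - g n) {W : Over S} (h' : W ⟶ AMonS S N₁) :
    ∃ (W' : Over S) (p : W' ⟶ W) (h'' : W' ⟶ AMonS S G₂),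
      Function.Surjective p.left ∧ h'' ≫ AMonS.map S g = p ≫ h' := by
  obtain ⟨hfl, hsu, -⟩ := DiagKer.flat_surjective_affine_whiskerRight S g hg hneg W
  obtain ⟨q, hq⟩ : ∃ q : AMonS S G₂ ⊗ W ⟶ AMonS S N₁ ⊗ W, q = AMonS.map S g ▷ W := ⟨_, rfl⟩
  rw [← hq] at hfl hsu
  obtain ⟨σ, hσ⟩ : ∃ σ : W ⟶ AMonS S N₁ ⊗ W, σ = lift h' (𝟙 W) := ⟨_, rfl⟩
  have hσ1 : σ ≫ fst _ _ = h' := by rw [hσ, lift_fst]
  clear hσ
  have hpsu : Surjective (pullback.fst σ.left q.left) := inferInstance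
  have hw : pullback.snd σ.left q.left ≫ (AMonS S G₂ ⊗ W).hom = pullback.fst σ.left q.left ≫ W.hom := by
    rw [← Over.w q, ← Category.assoc, ← pullback.condition, Category.assoc, Over.w σ]
  obtain ⟨W', hW'⟩ : ∃ W' : Over S, W' = Over.mk (pullback.fst σ.left q.left ≫ W.hom) := ⟨_, rfl⟩
  subst hW'
  obtain ⟨p, hp⟩ : ∃ p : Over.mk (pullback.fst σ.left q.left ≫ W.hom) ⟶ W,
      p.left = pullback.fst σ.left q.left := ⟨Over.homMk (pullback.fst σ.left q.left) rfl, rfl⟩
  obtain ⟨v, hv⟩ : ∃ v : Over.mk (pullback.fst σ.left q.left ≫ W.hom) ⟶ AMonS S G₂ ⊗ W,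
      v.left = pullback.snd σ.left q.left := ⟨Over.homMk (pullback.snd σ.left q.left) hw, rfl⟩
  have hvq : v ≫ q = p ≫ σ := by
    apply Over.OverMorphism.ext
    rw [Over.comp_left, Over.comp_left, hv, hp, pullback.condition]
  refine ⟨_, p, v ≫ fst _ _, ?_, ?_⟩
  · rw [hp]; exact hpsu.surj
  · rw [Category.assoc, ← whiskerRight_fst (AMonS.map S g) W, ← hq, ← Category.assoc, hvq, Category.assoc, hσ1]

end Lift

section KeyG

variable {S : Scheme.{u}} {X Y : Over S} (f : X ⟶ Y)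
variable {M : Type} [AddCommGroup M] (aX : MonAct (AMonS S M) X) (aY : MonAct (AMonS S M) Y)
  (hf : MonAct.IsEquivariant aX aY f)

theorem lift_subAct (N : AddSubmonoid M) {W : Over S} (g : W ⟶ AMonS S M) (b : W ⟶ AMonS S ↥N) :
    lift g b ≫ (subAct S M N).act = (g ≫ AMonS.map S N.subtype) * b := by
  unfold subAct
  rw [MonAct.lift_restrict_act, MonAct.lift_regular_act]

include hf in
theorem landsIn_of_landsIn_ept [IsOpenImmersion f.left] (N : AddSubmonoid M) {T : Over S} (ψ : AMonS S ↥N ⊗ T ⟶ Y)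
    (hψ : MonAct.IsEquivariant ((subAct S M N).prod (MonAct.trivial (AMonS S M) T)) aY ψ)
    (h0 : LandsIn f (lift (ept S (isFace_unitFace N) T) (𝟙 T) ≫ ψ)) : LandsIn f ψ := by
  have hψ' := (MonAct.mem_eqvHom_iff ψ).1 hψ
  obtain ⟨a, ha⟩ : ∃ a : AMonS S ↥N ⊗ T ⟶ AMonS S ↥N, a = fst _ _ := ⟨_, rfl⟩
  obtain ⟨t, ht⟩ : ∃ t : AMonS S ↥N ⊗ T ⟶ T, t = snd _ _ := ⟨_, rfl⟩
  have hat : lift a t ≫ ψ = ψ := by rw [ha, ht, lift_fst_snd, Category.id_comp]
  obtain ⟨W', c, g, hc, hg⟩ := exists_cover_lift_surj S (unitFace N).subtype Subtype.val_injective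
    (fun n => by
      obtain ⟨y, hy, hxy⟩ := n.2.2
      have hyn : y = -n.1 := by rw [eq_neg_iff_add_eq_zero, add_comm]; exact hxy
      refine ⟨⟨y, hy, n.1, n.2.1, by rw [add_comm]; exact hxy⟩, hyn⟩)
    (a ≫ AMonS.map S (AddSubmonoid.inclusion (isFace_unitFace N).le))
  obtain ⟨a', ha'⟩ : ∃ a' : W' ⟶ AMonS S ↥N, a' = c ≫ a := ⟨_, rfl⟩
  obtain ⟨t', ht'⟩ : ∃ t' : W' ⟶ T, t' = c ≫ t := ⟨_, rfl⟩
  rw [← Category.assoc, ← ha'] at hg
  apply LandsIn.of_surjective f c hc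
  obtain ⟨ψ₁, hψ₁⟩ : ∃ ψ₁ : AMonS S ↥N ⊗ W' ⟶ Y,
      ψ₁ = lift (fst _ _ * (snd _ _ ≫ a')) (snd _ _ ≫ t') ≫ ψ := ⟨_, rfl⟩
  have hpt : ∀ {V : Over S} (b : V ⟶ AMonS S ↥N) (w : V ⟶ W'),
      lift b w ≫ ψ₁ = lift (b * (w ≫ a')) (w ≫ t') ≫ ψ := by
    intro V b w
    rw [hψ₁, comp_lift_assoc, MonObj.comp_mul, lift_fst, lift_snd_assoc, lift_snd_assoc]
  have hψ₁e : MonAct.IsEquivariant ((subAct S M N).prod (MonAct.trivial (AMonS S M) W')) aY ψ₁ := by
    rw [MonAct.mem_eqvHom_iff]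
    intro V g b w
    have e1 := hψ' V g (b * (w ≫ a')) (w ≫ t')
    rw [lift_subAct N g (b * (w ≫ a'))] at e1
    rw [hpt (lift g b ≫ (subAct S M N).act) w, hpt b w, ← e1, lift_subAct N g b, _root_.mul_assoc]
  have h0' : LandsIn f (lift (ept S (isFace_unitFace N) W') (𝟙 W') ≫ ψ₁) := by
    have e1 := hψ' W' g (ept S (isFace_unitFace N) W') t'
    rw [lift_subAct N g (ept S (isFace_unitFace N) W')] at e1
    have e2 : ept S (isFace_unitFace N) W' * a' = (g ≫ AMonS.map S N.subtype) * ept S (isFace_unitFace N) W' := by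
      rw [mul_comm, ← restrict_comp_faceMap S (isFace_unitFace N) a', ← hg,
        restrict_comp_faceMap' S (isFace_unitFace N) g]
    rw [hpt (ept S (isFace_unitFace N) W') (𝟙 W'), Category.id_comp, Category.id_comp, e2, e1]
    apply LandsIn.act f aX aY hf
    have : lift (ept S (isFace_unitFace N) W') t' ≫ ψ = t' ≫ lift (ept S (isFace_unitFace N) T) (𝟙 T) ≫ ψ := by
      rw [comp_lift_assoc, comp_ept, Category.comp_id]
    rw [this]
    exact h0.precomp f t'
  have h1 := landsIn_one_of_landsIn f aX aY hf N ψ₁ hψ₁e _ h0'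
  rw [hpt 1 (𝟙 W'), Category.id_comp, Category.id_comp, _root_.one_mul, ha', ht', ← comp_lift_assoc, hat] at h1
  exact h1

end KeyG

section Final

variable {S : Scheme.{u}} {X Y : Over S} (f : X ⟶ Y)
variable {M : Type} [AddCommGroup M] (aX : MonAct (AMonS S M) X) (aY : MonAct (AMonS S M) Y)
  (hf : MonAct.IsEquivariant aX aY f)

include hf in
/-- an equivariant map into `Y` that factors through the equivariant monomorphism `f` factors equivariantly -/
theorem isEquivariant_of_comp_mono [Mono f] {P : Over S}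
    (x : P ⟶ X) (ρP : MonAct (AMonS S M) P)
    (h : MonAct.IsEquivariant ρP aY (x ≫ f)) : MonAct.IsEquivariant ρP aX x := by
  unfold MonAct.IsEquivariant at h hf ⊢
  rw [← cancel_mono f, Category.assoc, Category.assoc, hf, h,
    MonoidalCategory.whiskerLeft_comp, Category.assoc]

include hf in
theorem isOpenImmersion_of_represents [IsOpenImmersion f.left] (N : AddSubmonoid M) {ZX ZY : Over S}
    (eX : (attr aX N).RepresentableBy ZX) (eY : (attr aY N).RepresentableBy ZY)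
    (j : ZX ⟶ ZY) (hj : ∀ (T : Over S) (z : T ⟶ ZX),
      eY.homEquiv (z ≫ j) = (MonAct.eqvHom.postcomp (subAct S M N) f hf).app (op T) (eX.homEquiv z)) :
    IsOpenImmersion j.left := by
  have hmonof : Mono f := Over.mono_of_mono_left f
  -- universal element
  obtain ⟨φ, hφ⟩ : ∃ φ : (attr aY N).obj (op ZY), φ = eY.homEquiv (𝟙 ZY) := ⟨_, rfl⟩
  have hφz : ∀ {T : Over S} (z : T ⟶ ZY), (eY.homEquiv z).1 = (AMonS S ↥N ◁ z) ≫ φ.1 := by
    intro T z
    have := eY.homEquiv_comp z (𝟙 ZY)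
    rw [Category.comp_id] at this
    rw [this, hφ]
    rfl
  obtain ⟨y0, hy0⟩ : ∃ y0 : ZY ⟶ Y, y0 = lift (ept S (isFace_unitFace N) ZY) (𝟙 ZY) ≫ φ.1 := ⟨_, rfl⟩
  have hzy0 : ∀ {T : Over S} (z : T ⟶ ZY),
      lift (ept S (isFace_unitFace N) T) (𝟙 T) ≫ (eY.homEquiv z).1 = z ≫ y0 := by
    intro T z
    rw [hφz, hy0, lift_whiskerLeft_assoc, comp_lift_assoc, comp_ept, Category.id_comp, Category.comp_id]
  -- (a)
  have ha : ∀ {T : Over S} (z : T ⟶ ZY), LandsIn f (eY.homEquiv z).1 ↔ LandsIn f (z ≫ y0) := by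
    intro T z
    constructor
    · intro h
      rw [← hzy0]
      exact h.precomp f _
    · intro h
      rw [← hzy0] at h
      exact landsIn_of_landsIn_ept f aX aY hf N _ (eY.homEquiv z).2 h
  -- (b)
  have hb : ∀ {T : Over S} (z : T ⟶ ZY), LandsIn f (eY.homEquiv z).1 → ∃ z' : T ⟶ ZX, z' ≫ j = z := by
    intro T z h
    obtain ⟨x, hx⟩ := (landsIn_iff f _).1 h
    have hxe : MonAct.IsEquivariant ((subAct S M N).prod (MonAct.trivial (AMonS S M) T)) aX x := by
      apply isEquivariant_of_comp_mono f aX aY hf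
      rw [hx]
      exact (eY.homEquiv z).2
    refine ⟨eX.homEquiv.symm ⟨x, hxe⟩, ?_⟩
    apply eY.homEquiv.injective
    rw [hj, Equiv.apply_symm_apply]
    apply Subtype.ext
    exact hx
  -- (c)
  have hc : ∀ {T : Over S} (z' : T ⟶ ZX), LandsIn f (eY.homEquiv (z' ≫ j)).1 := by
    intro T z'
    rw [hj]
    exact (landsIn_iff f _).2 ⟨(eX.homEquiv z').1, rfl⟩
  -- (d)
  have hmonoj : Mono j := by
    constructor
    intro T z₁ z₂ h
    have h2 := congrArg eY.homEquiv h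
    rw [hj, hj] at h2
    have h3 : (eX.homEquiv z₁).1 ≫ f = (eX.homEquiv z₂).1 ≫ f := congrArg Subtype.val h2
    apply eX.homEquiv.injective
    apply Subtype.ext
    exact (cancel_mono f).1 h3
  -- the open subscheme
  obtain ⟨U, hU⟩ : ∃ U : ZY.left.Opens, U = y0.left ⁻¹ᵁ f.left.opensRange := ⟨_, rfl⟩
  have hmemU : ∀ p : ZY.left, p ∈ U ↔ y0.left p ∈ Set.range f.left := by
    intro p
    rw [hU]
    rfl
  obtain ⟨ZU, ιU, hιU⟩ : ∃ (ZU : Over S) (ιU : ZU ⟶ ZY), IsOpenImmersion ιU.left ∧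
      (∀ p : ZU.left, ιU.left p ∈ U) ∧
      ∀ {T : Over S} (z : T ⟶ ZY), (∀ p : T.left, z.left p ∈ U) → ∃ z' : T ⟶ ZU, z' ≫ ιU = z := by
    refine ⟨Over.mk (U.ι ≫ ZY.hom), Over.homMk U.ι rfl, ?_, ?_, ?_⟩
    · change IsOpenImmersion U.ι
      infer_instance
    · intro p
      exact p.2
    · intro T z hz
      have H : Set.range z.left ⊆ Set.range U.ι := by
        rw [Scheme.Opens.range_ι]
        rintro _ ⟨p, rfl⟩
        exact hz p
      refine ⟨Over.homMk (IsOpenImmersion.lift U.ι z.left H) ?_, ?_⟩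
      · change IsOpenImmersion.lift U.ι z.left H ≫ U.ι ≫ ZY.hom = T.hom
        rw [← Category.assoc, IsOpenImmersion.lift_fac, Over.w]
      · apply Over.OverMorphism.ext
        exact IsOpenImmersion.lift_fac U.ι z.left H
  obtain ⟨hιoi, hιmem, hιlift⟩ := hιU
  have hιmono : Mono ιU := Over.mono_of_mono_left ιU
  -- `j` factors through `U`
  have hjU : LandsIn f (j ≫ y0) := by
    have := hc (𝟙 ZX)
    rw [Category.id_comp] at this
    exact (ha j).1 this
  obtain ⟨r, hr⟩ := hιlift j (fun p => (hmemU _).2 (hjU ⟨p, by rw [Over.comp_left]; rfl⟩))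
  -- `U` factors through `j`
  have hUj : LandsIn f (eY.homEquiv ιU).1 := by
    apply (ha ιU).2
    rintro _ ⟨p, rfl⟩
    have := (hmemU _).1 (hιmem p)
    rw [Over.comp_left]
    exact this
  obtain ⟨s, hs⟩ := hb ιU hUj
  have hsr : s ≫ r = 𝟙 ZU := by
    rw [← cancel_mono ιU, Category.assoc, hr, hs, Category.id_comp]
  have hrs : r ≫ s = 𝟙 ZX := by
    rw [← cancel_mono j, Category.assoc, hs, hr, Category.id_comp]
  have hriso : IsIso r := ⟨s, hrs, hsr⟩
  have hrl : IsIso r.left := (inferInstance : IsIso ((Over.forget S).map r))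
  have : j.left = r.left ≫ ιU.left := by rw [← Over.comp_left, hr]
  rw [this]
  infer_instance

end Final

end Groth.Agent.Lib.Seat89.OpenImm
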