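import Groth.Agent.Lib.Seat89AttrDesc
import Groth.Agent.Lib.Seat89OpenImm

/-!
# Restriction of an action to a stable open subscheme (helper89)

For an action `a` of a monoid object `A` of `Over S` on `X` and an open `V` of `X.left` which is stable under the
action, `restr a V hV` is the induced action on `XV X V = (V ⟶ X ⟶ S)`, and the inclusion `ιV X V` is equivariant.
The preimage in `X` of an open of `S` is stable (`stable_preimage`), and for it the image of the attractor of `V` is the
part of the image of the attractor of `X` lying in `V` (`inAttr_restr_iff`).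
-/

set_option autoImplicit false
universe u
open CategoryTheory CategoryTheory.Limits MonoidalCategory CartesianMonoidalCategory MonObj AlgebraicGeometry Opposite
open Magnet

namespace Groth.Agent.Lib.Seat89.Restrict

section General

variable {S : Scheme.{u}} {A : Over S} [MonObj A] (X : Over S) (V : X.left.Opens)

/-- the open subscheme `V` of `X`, over `S` -/
noncomputable abbrev XV : Over S := Over.mk (V.ι ≫ X.hom)

/-- the inclusion -/
noncomputable abbrev ιV : XV X V ⟶ X := Over.homMk V.ι rfl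

theorem ιV_left : (ιV X V).left = V.ι := rfl

instance : IsOpenImmersion (ιV X V).left := by rw [ιV_left]; infer_instance

instance : Mono (ιV X V) := by
  have : Mono (ιV X V).left := inferInstance
  exact Over.mono_of_mono_left _

variable {X}
variable (a : MonAct A X) (hV : (snd A X).left ⁻¹ᵁ V ≤ a.act.left ⁻¹ᵁ V)

include hV in
theorem landsIn_act : OpenImm.LandsIn (ιV X V) ((A ◁ ιV X V) ≫ a.act) := by
  rintro _ ⟨z, rfl⟩
  rw [ιV_left, Scheme.Opens.range_ι]
  rw [Over.comp_left, Scheme.Hom.comp_apply]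
  apply hV
  change (snd A X).left ((A ◁ ιV X V).left z) ∈ V
  rw [← Scheme.Hom.comp_apply, ← Over.comp_left, whiskerLeft_snd, Over.comp_left, Scheme.Hom.comp_apply, ιV_left]
  exact ((snd A (XV X V)).left z).2

/-- the action morphism of the restricted action -/
noncomputable def actV : A ⊗ XV X V ⟶ XV X V :=
  ((OpenImm.landsIn_iff (ιV X V) _).1 (landsIn_act V a hV)).choose

theorem actV_ι : actV V a hV ≫ ιV X V = (A ◁ ιV X V) ≫ a.act :=
  ((OpenImm.landsIn_iff (ιV X V) _).1 (landsIn_act V a hV)).choose_spec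

/-- the restricted action -/
noncomputable def restr : MonAct A (XV X V) :=
  MonAct.mk' (actV V a hV)
    (fun T x => by
      rw [← cancel_mono (ιV X V), Category.assoc, actV_ι, lift_whiskerLeft_assoc, MonAct.lift_one_act])
    (fun T g h x => by
      rw [← cancel_mono (ιV X V), Category.assoc, actV_ι, lift_whiskerLeft_assoc, MonAct.lift_mul_act,
        Category.assoc, actV_ι, lift_whiskerLeft_assoc, Category.assoc, actV_ι, lift_whiskerLeft_assoc])

theorem restr_act : (restr V a hV).act = actV V a hV := rfl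

theorem isEquivariant_ιV : MonAct.IsEquivariant (restr V a hV) a (ιV X V) := by
  unfold MonAct.IsEquivariant
  rw [restr_act, actV_ι]

omit [MonObj A] in
/-- the preimage of an open of the base is stable under any action over the base -/
theorem stable_preimage (act : A ⊗ X ⟶ X) (W : S.Opens) :
    (snd A X).left ⁻¹ᵁ (X.hom ⁻¹ᵁ W) ≤ act.left ⁻¹ᵁ (X.hom ⁻¹ᵁ W) := by
  intro z hz
  change X.hom (act.left z) ∈ W
  change X.hom ((snd A X).left z) ∈ W at hz
  rw [← Scheme.Hom.comp_apply, Over.w] at hz ⊢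
  exact hz

end General

section Attr

variable {S : Scheme.{u}} {M : Type} [AddCommMonoid M] {X : Over S} (a : MonAct (AMonS S M) X) (N : AddSubmonoid M)
  (W : S.Opens)

open AttrDesc

/-- for the preimage `V` of an open of the base, the attractor points of `V` are the attractor points of `X` lying in
`V` -/
theorem inAttr_restr_iff {T : Over S} (v : T ⟶ XV X (X.hom ⁻¹ᵁ W)) :
    InAttr (restr (X.hom ⁻¹ᵁ W) a (stable_preimage a.act W)) N v ↔ InAttr a N (v ≫ ιV X (X.hom ⁻¹ᵁ W)) := by
  obtain ⟨aV, haV⟩ : ∃ aV, aV = restr (X.hom ⁻¹ᵁ W) a (stable_preimage a.act W) := ⟨_, rfl⟩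
  rw [← haV]
  have heqv : MonAct.IsEquivariant aV a (ιV X (X.hom ⁻¹ᵁ W)) := by rw [haV]; exact isEquivariant_ιV _ _ _
  constructor
  · rintro ⟨φ, rfl⟩
    refine ⟨(MonAct.eqvHom.postcomp (subAct S M N) (ιV X (X.hom ⁻¹ᵁ W)) heqv).app (op T) φ, ?_⟩
    change lift (toUnit T ≫ η[AMonS S ↥N]) (𝟙 T) ≫ φ.1 ≫ ιV X (X.hom ⁻¹ᵁ W) = _
    rw [← Category.assoc]
    rfl
  · rintro ⟨φ, hφ⟩
    change lift (toUnit T ≫ η[AMonS S ↥N]) (𝟙 T) ≫ φ.1 = v ≫ ιV X (X.hom ⁻¹ᵁ W) at hφ
    -- `φ` lands in `V`
    have hland : OpenImm.LandsIn (ιV X (X.hom ⁻¹ᵁ W)) φ.1 := by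
      rintro _ ⟨z, rfl⟩
      rw [ιV_left, Scheme.Opens.range_ι]
      change X.hom (φ.1.left z) ∈ W
      rw [← Scheme.Hom.comp_apply, Over.w φ.1]
      have e : (AMonS S ↥N ⊗ T).hom = (snd (AMonS S ↥N) T ≫ v ≫ ιV X (X.hom ⁻¹ᵁ W)).left ≫ X.hom :=
        (Over.w _).symm
      rw [e, Over.comp_left, Over.comp_left, ιV_left]
      simp only [Scheme.Hom.comp_apply]
      exact (v.left ((snd (AMonS S ↥N) T).left z)).2
    obtain ⟨φ', hφ'⟩ := (OpenImm.landsIn_iff (ιV X (X.hom ⁻¹ᵁ W)) φ.1).1 hland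
    have heq' : MonAct.IsEquivariant ((subAct S M N).prod (MonAct.trivial (AMonS S M) T)) aV φ' := by
      have h := φ.2
      unfold MonAct.IsEquivariant at h heqv ⊢
      rw [← cancel_mono (ιV X (X.hom ⁻¹ᵁ W)), Category.assoc, Category.assoc, heqv, hφ', h, ← hφ',
        MonoidalCategory.whiskerLeft_comp, Category.assoc]
    refine ⟨⟨φ', heq'⟩, ?_⟩
    change lift (toUnit T ≫ η[AMonS S ↥N]) (𝟙 T) ≫ φ' = v
    rw [← cancel_mono (ιV X (X.hom ⁻¹ᵁ W)), Category.assoc, hφ', hφ]

end Attr

end Groth.Agent.Lib.Seat89.Restrict
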