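import Groth.Agent.Lib.Seat89EtDesc2
import Mathlib.AlgebraicGeometry.Limits

/-!
# Disjoint unions of closed immersions, and Zariski gluing of closed-subscheme representability (helper89)

* `isPullback_sigmaMap`, `isClosedImmersion_sigmaMap`: the disjoint union of closed immersions is a closed immersion.
* `exists_lift_sigmaMap_iff`: factoring through it is checked summandwise.
* `exists_closedImmersion_of_openCover`: a property `P` of points of `X` (stable under precomposition, fpqc- and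
  Zariski-local) which is represented by a closed subscheme on each member of an open cover of `X` is represented by a
  closed subscheme of `X`.
-/

set_option autoImplicit false
universe u
open CategoryTheory CategoryTheory.Limits AlgebraicGeometry

namespace Groth.Agent.Lib.Seat89.SigmaCI

section Sigma

variable {K : Type u} (U W' : K → Scheme.{u}) (i' : ∀ k, W' k ⟶ U k)

theorem sigmaMap_ι_apply (k : K) (z : W' k) :
    (Limits.Sigma.map i') (Sigma.ι W' k z) = Sigma.ι U k (i' k z) := by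
  have h1 := Scheme.Hom.comp_apply (Sigma.ι W' k) (Limits.Sigma.map i') z
  have h2 := Scheme.Hom.comp_apply (i' k) (Sigma.ι U k) z
  rw [← h1, ← h2, Limits.Sigma.ι_map]

theorem preimage_opensRange (k : K) :
    (Limits.Sigma.map i') ⁻¹ᵁ (Sigma.ι U k).opensRange = (Sigma.ι W' k).opensRange := by
  ext z
  obtain ⟨⟨j, z'⟩, rfl⟩ := (sigmaMk W').surjective z
  rw [sigmaMk_mk]
  constructor
  · intro hz
    obtain ⟨y, hy⟩ := hz
    rw [sigmaMap_ι_apply] at hy
    obtain ⟨rfl, -⟩ := Sigma.mk.inj_iff.mp ((sigmaι_eq_iff U _ _ _ _).mp hy)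
    exact ⟨z', rfl⟩
  · rintro ⟨y, hy⟩
    obtain ⟨rfl, h2⟩ := Sigma.mk.inj_iff.mp ((sigmaι_eq_iff _ _ _ _ _).mp hy)
    refine ⟨i' k z', ?_⟩
    rw [sigmaMap_ι_apply]

theorem isPullback_sigmaMap (k : K) :
    IsPullback (i' k) (Sigma.ι W' k) (Sigma.ι U k) (Limits.Sigma.map i') :=
  IsOpenImmersion.isPullback _ _ _ _ (Limits.Sigma.ι_map _ _) (preimage_opensRange U W' i' k)

variable [∀ k, IsClosedImmersion (i' k)]

theorem isClosedImmersion_sigmaMap : IsClosedImmersion (Limits.Sigma.map i') := by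
  apply IsZariskiLocalAtTarget.of_openCover (P := @IsClosedImmersion) (sigmaOpenCover U)
  intro k
  have H := (isPullback_sigmaMap U W' i' k).flip
  have h1 : pullback.snd (Limits.Sigma.map i') (Sigma.ι U k) = H.isoPullback.inv ≫ i' k := by
    rw [Iso.eq_inv_comp]
    exact H.isoPullback_hom_snd
  change IsClosedImmersion (pullback.snd (Limits.Sigma.map i') (Sigma.ι U k))
  rw [h1]
  infer_instance

theorem exists_lift_sigmaMap_iff {T : Scheme.{u}} (u : T ⟶ ∐ U) :
    (∃ w : T ⟶ ∐ W', w ≫ Limits.Sigma.map i' = u) ↔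
      ∀ k, ∃ wk : pullback u (Sigma.ι U k) ⟶ W' k, wk ≫ i' k = pullback.snd u (Sigma.ι U k) := by
  have := isClosedImmersion_sigmaMap U W' i'
  constructor
  · rintro ⟨w, rfl⟩ k
    have H := isPullback_sigmaMap U W' i' k
    have hc : pullback.snd (w ≫ Limits.Sigma.map i') (Sigma.ι U k) ≫ Sigma.ι U k =
        (pullback.fst (w ≫ Limits.Sigma.map i') (Sigma.ι U k) ≫ w) ≫ Limits.Sigma.map i' := by
      rw [Category.assoc]
      exact pullback.condition.symm
    exact ⟨H.lift _ _ hc, H.lift_fst _ _ hc⟩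
  · intro h
    choose wk hwk using h
    have hcompat : ∀ k l : K,
        pullback.fst (pullback.fst u (Sigma.ι U k)) (pullback.fst u (Sigma.ι U l)) ≫ wk k ≫ Sigma.ι W' k =
          pullback.snd (pullback.fst u (Sigma.ι U k)) (pullback.fst u (Sigma.ι U l)) ≫ wk l ≫ Sigma.ι W' l := by
      intro k l
      rw [← cancel_mono (Limits.Sigma.map i')]
      simp only [Category.assoc, Limits.Sigma.ι_map]
      rw [reassoc_of% (hwk k), reassoc_of% (hwk l), ← pullback.condition, ← pullback.condition,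
        pullback.condition_assoc]
    obtain ⟨g, hg⟩ : ∃ g : T ⟶ ∐ W', ∀ k : K, pullback.fst u (Sigma.ι U k) ≫ g = wk k ≫ Sigma.ι W' k :=
      ⟨Scheme.Cover.glueMorphisms ((sigmaOpenCover U).pullback₁ u) (fun k => wk k ≫ Sigma.ι W' k) hcompat,
        fun k => Scheme.Cover.ι_glueMorphisms ((sigmaOpenCover U).pullback₁ u)
          (fun k => wk k ≫ Sigma.ι W' k) hcompat k⟩
    refine ⟨g, ?_⟩
    have hall : ∀ k : K, pullback.fst u (Sigma.ι U k) ≫ g ≫ Limits.Sigma.map i' =
        pullback.fst u (Sigma.ι U k) ≫ u := by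
      intro k
      rw [reassoc_of% (hg k), Limits.Sigma.ι_map, reassoc_of% (hwk k)]
      exact pullback.condition.symm
    exact Scheme.Cover.hom_ext ((sigmaOpenCover U).pullback₁ u) _ _ fun k => hall k

end Sigma

section Glue

variable {X : Scheme.{u}} (P : ∀ {T : Scheme.{u}}, (T ⟶ X) → Prop)
  (hpre : ∀ {T T' : Scheme.{u}} (g : T' ⟶ T) (ξ : T ⟶ X), P ξ → P (g ≫ ξ))
  (hdesc : ∀ {T T' : Scheme.{u}} (p : T' ⟶ T) [Flat p] [Surjective p] [QuasiCompact p] (ξ : T ⟶ X),
    P (p ≫ ξ) → P ξ)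
  (hloc : ∀ {T : Scheme.{u}} (ξ : T ⟶ X) (𝒰 : Scheme.OpenCover.{u} T), (∀ i, P (𝒰.f i ≫ ξ)) → P ξ)

include hpre hdesc hloc in
/-- **Zariski gluing of closed-subscheme representability.** -/
theorem exists_closedImmersion_of_openCover (𝒰 : Scheme.OpenCover.{u} X) (W' : 𝒰.I₀ → Scheme.{u})
    (i' : ∀ k, W' k ⟶ 𝒰.X k) [∀ k, IsClosedImmersion (i' k)]
    (hrep : ∀ (k : 𝒰.I₀) {T : Scheme.{u}} (u : T ⟶ 𝒰.X k), P (u ≫ 𝒰.f k) ↔ ∃ w : T ⟶ W' k, w ≫ i' k = u) :
    ∃ (Z : Scheme.{u}) (j : Z ⟶ X), IsClosedImmersion j ∧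
      ∀ {T : Scheme.{u}} (ξ : T ⟶ X), P ξ ↔ ∃ z : T ⟶ Z, z ≫ j = ξ := by
  have hci := isClosedImmersion_sigmaMap 𝒰.X W' i'
  have hflat : Flat (Limits.Sigma.desc 𝒰.f) := IsZariskiLocalAtSource.sigmaDesc (fun k => inferInstance)
  have huo : UniversallyOpen (Limits.Sigma.desc 𝒰.f) := IsZariskiLocalAtSource.sigmaDesc (fun k => inferInstance)
  have hsurj : Surjective (Limits.Sigma.desc 𝒰.f) := Surjective.sigmaDesc_of_union_range_eq_univ 𝒰.iUnion_range
  refine EtDesc.exists_closedImmersion_of_atlas' (Limits.Sigma.desc 𝒰.f) (Limits.Sigma.map i') P hpre hdesc hloc ?_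
  intro T u
  rw [exists_lift_sigmaMap_iff]
  have hk : ∀ k, pullback.fst u (Sigma.ι 𝒰.X k) ≫ u ≫ Limits.Sigma.desc 𝒰.f =
      pullback.snd u (Sigma.ι 𝒰.X k) ≫ 𝒰.f k := by
    intro k
    rw [pullback.condition_assoc, Limits.Sigma.ι_desc]
  constructor
  · intro hP k
    have h1 := hpre (pullback.fst u (Sigma.ι 𝒰.X k)) _ hP
    rw [hk] at h1
    exact (hrep k _).1 h1
  · intro h
    refine hloc _ ((sigmaOpenCover 𝒰.X).pullback₁ u) fun k => ?_
    change P (pullback.fst u (Sigma.ι 𝒰.X k) ≫ u ≫ Limits.Sigma.desc 𝒰.f)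
    rw [hk]
    exact (hrep k _).2 (h k)

end Glue

end Groth.Agent.Lib.Seat89.SigmaCI
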