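import Groth.Agent.Lib.Seat89AffAttr
import Groth.Agent.Lib.Seat89Restrict
import Groth.Agent.Lib.Seat89SigmaCI

/-!
# Attractors of schemes affine over the base are closed subschemes (helper89)

* `inAttr_iff_le_ker`: for `X.left` affine (with `X ⟶ S` landing in an affine open), a `T`-point `x` (any `T`) lies in
  the image of `X^N` iff `x^#` kills the component ideal.
* `exists_representableBy_attr`: for `X` affine over `S`, `X^N` is represented by a closed subscheme of `X`.
-/

set_option autoImplicit false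
universe u
open CategoryTheory CategoryTheory.Limits MonoidalCategory CartesianMonoidalCategory MonObj AlgebraicGeometry Opposite
open Magnet

namespace Groth.Agent.Lib.Seat89.AffAttrRep

open AttrDesc AffAttr

section Criterion

variable {S : Scheme.{u}} {M : Type} [AddCommMonoid M] {X : Over S} [IsAffine X.left]
  (a : MonAct (AMonS S M) X) (N : AddSubmonoid M)
  (hS : ∃ W : S.Opens, IsAffineOpen W ∧ Set.range X.hom ⊆ (W : Set S))

include hS in
theorem inAttr_iff_le_ker {T : Over S} (x : T ⟶ X) :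
    InAttr a N x ↔ compIdeal a N ≤ RingHom.ker x.left.appTop.hom := by
  have hsep : IsSeparated X.hom := by
    have h1 : IsSeparated (X.hom ≫ terminal.from S) := by
      rw [terminal.comp_from]
      infer_instance
    exact IsSeparated.of_comp X.hom (terminal.from S)
  constructor
  · intro h c hc
    rw [RingHom.mem_ker]
    refine Scheme.zero_of_zero_cover _ T.left.affineCover fun i => ?_
    obtain ⟨uO, huO⟩ : ∃ uO : Over.mk (T.left.affineCover.f i ≫ T.hom) ⟶ T, uO.left = T.left.affineCover.f i :=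
      ⟨Over.homMk (T.left.affineCover.f i) rfl, rfl⟩
    obtain ⟨φ, hφ⟩ := h.precomp a N uO
    haveI : IsAffine (Over.mk (T.left.affineCover.f i ≫ T.hom)).left :=
      inferInstanceAs (IsAffine (T.left.affineCover.X i))
    have h1 := compIdeal_le_ker a N φ hc
    rw [hφ, RingHom.mem_ker, Over.comp_left, huO, Scheme.Hom.comp_appTop] at h1
    exact h1
  · intro h
    refine inAttr_loc a N T.left.affineCover x fun i => ?_
    haveI : IsAffine (Over.mk (T.left.affineCover.f i ≫ T.hom)).left :=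
      inferInstanceAs (IsAffine (T.left.affineCover.X i))
    refine inAttr_of_le_ker a N _ hS ?_
    intro c hc
    have h1 := h hc
    rw [RingHom.mem_ker] at h1 ⊢
    rw [Over.comp_left, Scheme.Hom.comp_appTop]
    change (T.left.affineCover.f i).appTop.hom (x.left.appTop.hom c) = 0
    rw [h1, map_zero]

end Criterion

section Ideal

open Scheme.IdealSheafData

/-- the closed subscheme of an affine scheme cut out by an ideal of global sections, with its universal property -/
theorem exists_closedImmersion_of_ideal {V : Scheme.{u}} [IsAffine V] (I : Ideal Γ(V, ⊤)) :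
    ∃ (Z : Scheme.{u}) (j : Z ⟶ V), IsClosedImmersion j ∧
      ∀ {T : Scheme.{u}} (u : T ⟶ V), (∃ w : T ⟶ Z, w ≫ j = u) ↔ I ≤ RingHom.ker u.appTop.hom := by
  refine ⟨(ofIdealTop I).subscheme, (ofIdealTop I).subschemeι, inferInstance, fun {T} u => ?_⟩
  rw [EtDesc.exists_lift_iff, ker_subschemeι, Scheme.ker_of_isAffine]
  constructor
  · intro h
    have := h ⟨⊤, isAffineOpen_top _⟩
    simpa using this
  · intro h
    apply le_of_isAffine
    simpa using h

end Ideal

section Main

variable {S : Scheme.{u}} {M : Type} [AddCommMonoid M] {X : Over S} [IsAffineHom X.hom]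
  (a : MonAct (AMonS S M) X) (N : AddSubmonoid M)

/-- local representability over an affine open of the base -/
theorem exists_closedImmersion_preimage (W : S.affineOpens) :
    ∃ (Z : Scheme.{u}) (j : Z ⟶ (↑(X.hom ⁻¹ᵁ W.1) : Scheme.{u})), IsClosedImmersion j ∧
      ∀ {T : Scheme.{u}} (u : T ⟶ (↑(X.hom ⁻¹ᵁ W.1) : Scheme.{u})),
        P a N (u ≫ (X.hom ⁻¹ᵁ W.1).ι) ↔ ∃ w : T ⟶ Z, w ≫ j = u := by
  haveI haff : IsAffine (Restrict.XV X (X.hom ⁻¹ᵁ W.1)).left := W.2.preimage X.hom
  haveI haff' : IsAffine (↑(X.hom ⁻¹ᵁ W.1) : Scheme.{u}) := W.2.preimage X.hom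
  obtain ⟨aV, haV⟩ : ∃ aV, aV = Restrict.restr (X.hom ⁻¹ᵁ W.1) a (Restrict.stable_preimage a.act W.1) := ⟨_, rfl⟩
  have hS : ∃ W' : S.Opens, IsAffineOpen W' ∧
      Set.range (Restrict.XV X (X.hom ⁻¹ᵁ W.1)).hom ⊆ (W' : Set S) := by
    refine ⟨W.1, W.2, ?_⟩
    rintro _ ⟨z, rfl⟩
    change X.hom ((X.hom ⁻¹ᵁ W.1).ι z) ∈ W.1
    exact z.2
  obtain ⟨Z, j, hj, hZ⟩ := exists_closedImmersion_of_ideal (V := (↑(X.hom ⁻¹ᵁ W.1) : Scheme.{u})) (compIdeal aV N)
  refine ⟨Z, j, hj, fun {T} u => ?_⟩
  obtain ⟨uO, huO⟩ : ∃ uO : Over.mk (u ≫ (Restrict.XV X (X.hom ⁻¹ᵁ W.1)).hom) ⟶ Restrict.XV X (X.hom ⁻¹ᵁ W.1),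
      uO.left = u := ⟨Over.homMk u rfl, rfl⟩
  have h1 := P_iff a N (uO ≫ Restrict.ιV X (X.hom ⁻¹ᵁ W.1))
  rw [Over.comp_left, huO] at h1
  rw [hZ]
  refine Iff.trans h1 ?_
  rw [← Restrict.inAttr_restr_iff, ← haV]
  have h2 := inAttr_iff_le_ker aV N hS uO
  rw [huO] at h2
  exact h2

theorem isSeparated_of_isAffineHom : IsSeparated X.hom := IsSeparated.of_isAffineHom _

/-- **the attractor of a scheme affine over the base is a closed subscheme** (scheme-level form) -/
theorem exists_closedImmersion_attr :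
    ∃ (Z : Scheme.{u}) (j : Z ⟶ X.left), IsClosedImmersion j ∧
      ∀ {T : Scheme.{u}} (ξ : T ⟶ X.left), P a N ξ ↔ ∃ z : T ⟶ Z, z ≫ j = ξ := by
  haveI : IsSeparated X.hom := isSeparated_of_isAffineHom
  choose Z j hj hrep using exists_closedImmersion_preimage a N
  have hU : TopologicalSpace.IsOpenCover (fun W : S.affineOpens => X.hom ⁻¹ᵁ W.1) := by
    change ⨆ W : S.affineOpens, X.hom ⁻¹ᵁ W.1 = ⊤
    rw [eq_top_iff]
    intro x _
    obtain ⟨_, ⟨W, hW, rfl⟩, hxW, -⟩ :=
      S.isBasis_affineOpens.exists_subset_of_mem_open (Set.mem_univ (X.hom x)) isOpen_univ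
    exact TopologicalSpace.Opens.mem_iSup.2 ⟨⟨W, hW⟩, hxW⟩
  exact @SigmaCI.exists_closedImmersion_of_openCover X.left (P a N) (fun g ξ h => P_precomp a N g ξ h)
    (fun p _ _ _ ξ h => P_desc a N p ξ h) (fun ξ 𝒰 h => P_loc a N ξ 𝒰 h)
    (X.left.openCoverOfIsOpenCover (fun W : S.affineOpens => X.hom ⁻¹ᵁ W.1) hU) Z j hj (fun W {T} u => hrep W u)

/-- **the attractor of a scheme affine over the base is represented by a closed subscheme** -/
theorem exists_representableBy_attr :
    ∃ (Z : Over S) (i : Z ⟶ X) (e : (attr a N).RepresentableBy Z), IsClosedImmersion i.left ∧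
      ∀ (T : Over S) (z : T ⟶ Z), (attrToX a N).app (op T) (e.homEquiv z) = z ≫ i := by
  haveI : IsSeparated X.hom := isSeparated_of_isAffineHom
  obtain ⟨Z₀, j, hj, hZ⟩ := exists_closedImmersion_attr a N
  have hmono : Mono j := inferInstance
  obtain ⟨W, i, hWi, hileft⟩ : ∃ (W : Over S) (i : W ⟶ X), IsClosedImmersion i.left ∧
      ∀ {T : Over S} (x : T ⟶ X), InAttr a N x ↔ ∃ w : T ⟶ W, w ≫ i = x := by
    refine ⟨Over.mk (j ≫ X.hom), Over.homMk j rfl, hj, fun {T} x => ?_⟩
    rw [← P_iff a N x, hZ]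
    constructor
    · rintro ⟨z, hz⟩
      have hz' : z ≫ (Over.mk (j ≫ X.hom)).hom = T.hom := by
        simp only [Over.mk_hom]
        rw [← Category.assoc, hz, Over.w]
      refine ⟨Over.homMk z hz', ?_⟩
      apply Over.OverMorphism.ext
      change z ≫ j = x.left
      exact hz
    · rintro ⟨w, rfl⟩
      exact ⟨w.left, rfl⟩
  have himono : Mono i := by
    have : Mono i.left := inferInstance
    exact Over.mono_of_mono_left i
  have hF' : ∀ (T : Over S) (w : T ⟶ W), ∃ φ : (attr a N).obj (op T), (attrToX a N).app (op T) φ = w ≫ i :=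
    fun T w => (hileft (w ≫ i)).2 ⟨w, rfl⟩
  choose F hF using hF'
  have hG' : ∀ (T : Over S) (φ : (attr a N).obj (op T)), ∃ w : T ⟶ W, w ≫ i = (attrToX a N).app (op T) φ :=
    fun T φ => (hileft _).1 ⟨φ, rfl⟩
  choose G hG using hG'
  obtain ⟨e, he⟩ : ∃ e : (attr a N).RepresentableBy W,
      ∀ (T : Over S) (w : T ⟶ W), (attrToX a N).app (op T) (e.homEquiv w) = w ≫ i := by
    refine ⟨{ homEquiv := fun {T} =>
                { toFun := fun w => F T w
                  invFun := fun φ => G T φ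
                  left_inv := fun w => ?_
                  right_inv := fun φ => ?_ }
              homEquiv_comp := ?_ }, fun T w => hF T w⟩
    · rw [← cancel_mono i, hG, hF]
    · apply Attr.attr_ext a N T
      rw [hF, hG]
    · intro T T' g w
      apply Attr.attr_ext a N T
      change (attrToX a N).app (op T) (F T (g ≫ w)) =
        (attrToX a N).app (op T) ((attr a N).map g.op (F T' w))
      rw [hF, attrToX_map, hF, Category.assoc]
  exact ⟨W, i, e, hWi, he⟩

end Main

end Groth.Agent.Lib.Seat89.AffAttrRep
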