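import Groth.Agent.Lib.Seat89Coord

/-!
# Agreement loci and spreading along torus actions (helper89)

* `locus γ₁ γ₂`: the largest open on which two morphisms of schemes agree; `opensRange_le_locus`, `eq_of_locus_eq_top`.
* `flat_act_left`: the action map of a diagonalizable group scheme is flat.
* `eq_of_agree_near_absorbing`: two equivariant maps `A(N) × T ⟶ X` which agree near the section given by an absorbing
  point of `A(N)` are equal.
* `eq_of_forall_quotient_comp_eq`: two maps `Spec D ⟶ X` into a common affine open which agree on `Spec (D/Iₙ)` for a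
  separated family of ideals are equal.
-/

set_option autoImplicit false
universe u
open CategoryTheory CategoryTheory.Limits MonoidalCategory CartesianMonoidalCategory MonObj AlgebraicGeometry Opposite
open Magnet

namespace Groth.Agent.Lib.Seat89.Agree


section Locus

variable {P X : Scheme.{u}} (γ₁ γ₂ : P ⟶ X)

/-- the largest open on which two morphisms agree -/
noncomputable def locus : P.Opens := ⨆ U : {U : P.Opens // U.ι ≫ γ₁ = U.ι ≫ γ₂}, U.1

theorem locus_ι : (locus γ₁ γ₂).ι ≫ γ₁ = (locus γ₁ γ₂).ι ≫ γ₂ := by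
  unfold locus
  refine (Scheme.Opens.iSupOpenCover (fun U : {U : P.Opens // U.ι ≫ γ₁ = U.ι ≫ γ₂} => U.1)).hom_ext _ _
    fun k => ?_
  have e : (Scheme.Opens.iSupOpenCover (fun U : {U : P.Opens // U.ι ≫ γ₁ = U.ι ≫ γ₂} => U.1)).f k ≫
      (⨆ U : {U : P.Opens // U.ι ≫ γ₁ = U.ι ≫ γ₂}, U.1).ι = k.1.ι :=
    Scheme.homOfLE_ι P (le_iSup (fun U : {U : P.Opens // U.ι ≫ γ₁ = U.ι ≫ γ₂} => U.1) k)
  rw [← Category.assoc, ← Category.assoc, e]
  exact k.2

theorem opensRange_le_locus {Z : Scheme.{u}} (j : Z ⟶ P) [IsOpenImmersion j] (h : j ≫ γ₁ = j ≫ γ₂) :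
    j.opensRange ≤ locus γ₁ γ₂ := by
  have h' : j.opensRange.ι ≫ γ₁ = j.opensRange.ι ≫ γ₂ := by
    rw [← cancel_epi j.isoOpensRange.hom]
    simp only [Scheme.Hom.isoOpensRange_hom_ι_assoc, h]
  exact le_iSup (fun U : {U : P.Opens // U.ι ≫ γ₁ = U.ι ≫ γ₂} => U.1) ⟨j.opensRange, h'⟩

theorem eq_of_locus_eq_top (h : locus γ₁ γ₂ = ⊤) : γ₁ = γ₂ := by
  have := locus_ι γ₁ γ₂
  rw [h] at this
  have hi : IsIso (⊤ : P.Opens).ι := (inferInstance : IsIso P.topIso.hom)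
  exact (cancel_epi _).1 this

end Locus



section Flat

theorem flat_AMon_hom (R : Type u) [CommRing R] (M : Type) [AddCommMonoid M] : Flat (AMon R M).hom := by
  change Flat (Spec.map (CommRingCat.ofHom (algebraMap R (MonoidAlgebra R (Multiplicative M)))))
  rw [HasRingHomProperty.Spec_iff (P := @Flat)]
  change (algebraMap R (MonoidAlgebra R (Multiplicative M))).Flat
  rw [RingHom.flat_algebraMap_iff]
  infer_instance

theorem flat_AMonS_hom (S : Scheme.{u}) (M : Type) [AddCommMonoid M] : Flat (AMonS S M).hom := by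
  have := flat_AMon_hom (ULift.{u} ℤ) M
  change Flat (pullback.snd (AMon (ULift.{u} ℤ) M).hom (Limits.IsTerminal.from specULiftZIsTerminal S))
  infer_instance

variable {S : Scheme.{u}} {M : Type} [AddCommGroup M] {P : Over S} (b : MonAct (AMonS S M) P)

theorem flat_act_left : Flat b.act.left := by
  obtain ⟨n, hn1, hn2⟩ := Comap.exists_inv S (fst (AMonS S M) P)
  have huniq : ∀ {W : Over S} (c : W ⟶ AMonS S M ⊗ P) (x : W ⟶ AMonS S M), x * (c ≫ fst _ _) = 1 → x = c ≫ n := by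
    intro W c x hx
    have h2 : (c ≫ fst (AMonS S M) P) * (c ≫ n) = 1 := by rw [← MonObj.comp_mul, hn2, MonObj.comp_one]
    calc x = x * ((c ≫ fst (AMonS S M) P) * (c ≫ n)) := by rw [h2, _root_.mul_one]
      _ = c ≫ n := by rw [← _root_.mul_assoc, hx, _root_.one_mul]
  obtain ⟨σ, hσ⟩ : ∃ σ : AMonS S M ⊗ P ⟶ AMonS S M ⊗ P, σ = lift (fst _ _) b.act := ⟨_, rfl⟩
  obtain ⟨σ', hσ'⟩ : ∃ σ' : AMonS S M ⊗ P ⟶ AMonS S M ⊗ P,
      σ' = lift (fst _ _) (lift n (snd _ _) ≫ b.act) := ⟨_, rfl⟩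
  have h1 : σ ≫ σ' = 𝟙 _ := by
    rw [hσ', comp_lift, comp_lift_assoc]
    have e1 : σ ≫ fst (AMonS S M) P = fst _ _ := by rw [hσ, lift_fst]
    have e2 : σ ≫ snd (AMonS S M) P = b.act := by rw [hσ, lift_snd]
    have e3 : σ ≫ n = n := by
      refine (huniq σ n ?_).symm
      rw [e1, hn1]
    have e4 : lift n b.act ≫ b.act = snd _ _ := by
      have := b.lift_mul_act n (fst _ _) (snd _ _)
      rw [lift_fst_snd, Category.id_comp, hn1, b.lift_one_act] at this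
      exact this.symm
    rw [e1, e2, e3, e4, lift_fst_snd]
  have h2 : σ' ≫ σ = 𝟙 _ := by
    rw [hσ, comp_lift]
    have e1 : σ' ≫ fst (AMonS S M) P = fst _ _ := by rw [hσ', lift_fst]
    have e2 : σ' ≫ b.act = snd _ _ := by
      have := b.lift_mul_act (fst _ _) n (snd _ _)
      rw [hn2, b.lift_one_act] at this
      rw [hσ']
      exact this.symm
    rw [e1, e2, lift_fst_snd]
  have hiso : IsIso σ := ⟨σ', h1, h2⟩
  have hisol : IsIso σ.left := (inferInstance : IsIso ((Over.forget S).map σ))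
  have hfl : Flat (snd (AMonS S M) P).left := by
    have := flat_AMonS_hom S M
    change Flat (pullback.snd (AMonS S M).hom P.hom)
    infer_instance
  have : b.act.left = σ.left ≫ (snd (AMonS S M) P).left := by
    rw [← Over.comp_left, hσ, lift_snd]
  rw [this]
  infer_instance

end Flat



section Spread

theorem left_apply_comp {S : Scheme.{u}} {A B C : Over S} (f : A ⟶ B) (g : B ⟶ C) (z : A.left) :
    (f ≫ g).left z = g.left (f.left z) := rfl

theorem left_apply_of_eq {S : Scheme.{u}} {A B C D : Over S} (f : A ⟶ B) (g : B ⟶ D) (f' : A ⟶ C) (g' : C ⟶ D)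
    (h : f ≫ g = f' ≫ g') (z : A.left) : g.left (f.left z) = g'.left (f'.left z) := by
  rw [← left_apply_comp, ← left_apply_comp, h]

variable {S : Scheme.{u}} {M : Type} [AddCommGroup M] (N : AddSubmonoid M) {X : Over S}
  (a : MonAct (AMonS S M) X) {T : Over S}

/-- **Spreading.**  Two equivariant maps `A(N)_S ×_S T ⟶ X` which agree on an open neighbourhood of the section given by
an absorbing point of `A(N)` are equal. -/
theorem eq_of_agree_near_absorbing (ψ₁ ψ₂ : AMonS S ↥N ⊗ T ⟶ X)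
    (h₁ : MonAct.IsEquivariant ((subAct S M N).prod (MonAct.trivial (AMonS S M) T)) a ψ₁)
    (h₂ : MonAct.IsEquivariant ((subAct S M N).prod (MonAct.trivial (AMonS S M) T)) a ψ₂)
    (e : ∀ W : Over S, W ⟶ AMonS S ↥N) (he_nat : ∀ {W W' : Over S} (c : W' ⟶ W), c ≫ e W = e W')
    (he_abs : ∀ (W : Over S) (m : W ⟶ AMonS S ↥N), e W * m = e W)
    (Ω : (AMonS S ↥N ⊗ T).left.Opens) (hΩ : Ω.ι ≫ ψ₁.left = Ω.ι ≫ ψ₂.left)
    (hζ : ∀ t : T.left, (lift (e T) (𝟙 T)).left t ∈ Ω) : ψ₁ = ψ₂ := by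
  obtain ⟨act, hact⟩ : ∃ act : AMonS S M ⊗ (AMonS S ↥N ⊗ T) ⟶ AMonS S ↥N ⊗ T,
      act = ((subAct S M N).prod (MonAct.trivial (AMonS S M) T)).act := ⟨_, rfl⟩
  have hpt : ∀ {W : Over S} (g : W ⟶ AMonS S M) (b : W ⟶ AMonS S ↥N) (t : W ⟶ T),
      lift g (lift b t) ≫ act = lift ((g ≫ AMonS.map S N.subtype) * b) t := by
    intro W g b t
    rw [hact, MonAct.lift_prod_act, OpenImm.lift_subAct, MonAct.lift_trivial_act]
  have hflat : Flat act.left := by rw [hact]; exact flat_act_left _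
  obtain ⟨Ω', hΩ'⟩ : ∃ Ω' : (AMonS S M ⊗ (AMonS S ↥N ⊗ T)).left.Opens,
      Ω' = (snd (AMonS S M) (AMonS S ↥N ⊗ T)).left ⁻¹ᵁ Ω := ⟨_, rfl⟩
  have hmem : ∀ q, q ∈ Ω' ↔ (snd (AMonS S M) (AMonS S ↥N ⊗ T)).left q ∈ Ω := by
    intro q; rw [hΩ']; rfl
  -- agreement after the action map
  have hagree : Ω'.ι ≫ act.left ≫ ψ₁.left = Ω'.ι ≫ act.left ≫ ψ₂.left := by
    have e1 : act ≫ ψ₁ = (AMonS S M ◁ ψ₁) ≫ a.act := by rw [hact]; exact h₁
    have e2 : act ≫ ψ₂ = (AMonS S M ◁ ψ₂) ≫ a.act := by rw [hact]; exact h₂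
    have e1' : act.left ≫ ψ₁.left = (AMonS S M ◁ ψ₁).left ≫ a.act.left := by
      rw [← Over.comp_left, e1, Over.comp_left]
    have e2' : act.left ≫ ψ₂.left = (AMonS S M ◁ ψ₂).left ≫ a.act.left := by
      rw [← Over.comp_left, e2, Over.comp_left]
    rw [e1', e2', ← Category.assoc, ← Category.assoc]
    congr 1
    -- the two whiskered maps agree on Ω'
    have hle : Ω' ≤ (snd (AMonS S M) (AMonS S ↥N ⊗ T)).left ⁻¹ᵁ Ω := by rw [hΩ']
    obtain ⟨ρ, hρ⟩ : ∃ ρ : Ω'.toScheme ⟶ Ω.toScheme,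
        ρ ≫ Ω.ι = Ω'.ι ≫ (snd (AMonS S M) (AMonS S ↥N ⊗ T)).left :=
      ⟨(snd (AMonS S M) (AMonS S ↥N ⊗ T)).left.resLE Ω Ω' hle, Scheme.Hom.resLE_comp_ι _ _⟩
    apply pullback.hom_ext
    · rw [Category.assoc, Category.assoc]
      have f1 := Over.whiskerLeft_left_fst (R := AMonS S M) ψ₁
      have f2 := Over.whiskerLeft_left_fst (R := AMonS S M) ψ₂
      rw [f1, f2]
    · rw [Category.assoc, Category.assoc]
      have f1 := Over.whiskerLeft_left_snd (R := AMonS S M) ψ₁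
      have f2 := Over.whiskerLeft_left_snd (R := AMonS S M) ψ₂
      rw [f1, f2]
      change Ω'.ι ≫ (snd (AMonS S M) (AMonS S ↥N ⊗ T)).left ≫ ψ₁.left =
        Ω'.ι ≫ (snd (AMonS S M) (AMonS S ↥N ⊗ T)).left ≫ ψ₂.left
      rw [← Category.assoc, ← Category.assoc, ← hρ, Category.assoc, Category.assoc, hΩ]
  -- surjectivity of the restricted action map
  have hsurj : Function.Surjective (Ω'.ι ≫ act.left) := by
    intro p
    obtain ⟨W, hW⟩ : ∃ W : Over S, W = OpenImm.ptOver (AMonS S ↥N ⊗ T) p := ⟨_, rfl⟩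
    obtain ⟨π, hπ⟩ : ∃ π : W ⟶ AMonS S ↥N ⊗ T, ∀ z, π.left z = p := by
      subst hW; exact ⟨OpenImm.ptOverι _ p, OpenImm.ptOverι_apply _ p⟩
    have hne : Nonempty W.left := by subst hW; infer_instance
    clear hW
    obtain ⟨a', ha'⟩ : ∃ a' : W ⟶ AMonS S ↥N, a' = π ≫ fst _ _ := ⟨_, rfl⟩
    obtain ⟨t', ht'⟩ : ∃ t' : W ⟶ T, t' = π ≫ snd _ _ := ⟨_, rfl⟩
    have hπ' : π = lift a' t' := by rw [ha', ht']; exact (lift_comp_fst_snd π).symm
    obtain ⟨ma, hma⟩ : ∃ ma : AMonS S ↥N ⊗ W ⟶ AMonS S ↥N ⊗ T,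
        ma = lift (fst _ _ * (snd _ _ ≫ a')) (snd _ _ ≫ t') := ⟨_, rfl⟩
    have hmapt : ∀ {V : Over S} (b : V ⟶ AMonS S ↥N) (w : V ⟶ W),
        lift b w ≫ ma = lift (b * (w ≫ a')) (w ≫ t') := by
      intro V b w
      rw [hma, comp_lift, MonObj.comp_mul, lift_fst, lift_snd_assoc, lift_snd_assoc]
    have hopen : IsOpen (ma.left ⁻¹' (Ω : Set _)) := Ω.isOpen.preimage ma.left.continuous
    have hnonempty : (ma.left ⁻¹' (Ω : Set _)).Nonempty := by
      obtain ⟨z⟩ := hne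
      refine ⟨(lift (e W) (𝟙 W)).left z, ?_⟩
      have h1 : lift (e W) (𝟙 W) ≫ ma = t' ≫ lift (e T) (𝟙 T) := by
        rw [hmapt, Category.id_comp, Category.id_comp, he_abs, comp_lift, he_nat, Category.comp_id]
      have h2 : ma.left ((lift (e W) (𝟙 W)).left z) = (lift (e T) (𝟙 T)).left (t'.left z) :=
        left_apply_of_eq _ _ _ _ h1 z
      change ma.left ((lift (e W) (𝟙 W)).left z) ∈ Ω
      rw [h2]
      exact hζ _
    obtain ⟨q, hq⟩ := (OpenImm.denseRange_whiskerRight N W).exists_mem_open hopen hnonempty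
    obtain ⟨WL, hWL⟩ : ∃ WL : Over S, WL = OpenImm.ptOver (AMonS S M ⊗ W) q := ⟨_, rfl⟩
    obtain ⟨qL, hqL⟩ : ∃ qL : WL ⟶ AMonS S M ⊗ W, ∀ z, qL.left z = q := by
      subst hWL; exact ⟨OpenImm.ptOverι _ q, OpenImm.ptOverι_apply _ q⟩
    have hneL : Nonempty WL.left := by subst hWL; infer_instance
    clear hWL
    obtain ⟨z⟩ := hneL
    obtain ⟨g, hg⟩ : ∃ g : WL ⟶ AMonS S M, g = qL ≫ fst _ _ := ⟨_, rfl⟩
    obtain ⟨w', hw'⟩ : ∃ w' : WL ⟶ W, w' = qL ≫ snd _ _ := ⟨_, rfl⟩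
    have hqL' : qL = lift g w' := by rw [hg, hw']; exact (lift_comp_fst_snd qL).symm
    obtain ⟨ω, hω⟩ : ∃ ω : WL ⟶ AMonS S ↥N ⊗ T,
        ω = lift ((g ≫ AMonS.map S N.subtype) * (w' ≫ a')) (w' ≫ t') := ⟨_, rfl⟩
    have hω1 : ω = qL ≫ (AMonS.map S N.subtype ▷ W) ≫ ma := by
      rw [hω, hqL', ← Category.assoc, lift_whiskerRight, hmapt]
    have hωΩ : ω.left z ∈ Ω := by
      have : ω.left z = ma.left ((AMonS.map S N.subtype ▷ W).left (qL.left z)) := by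
        rw [hω1, Over.comp_left, Over.comp_left]; rfl
      rw [this, hqL z]
      exact hq
    obtain ⟨gi, hgi, -⟩ := Comap.exists_inv S g
    refine ⟨⟨(lift gi ω).left z, ?_⟩, ?_⟩
    · rw [hmem]
      have : (snd (AMonS S M) (AMonS S ↥N ⊗ T)).left ((lift gi ω).left z) = ω.left z := by
        have h3 : lift gi ω ≫ snd (AMonS S M) (AMonS S ↥N ⊗ T) = ω := lift_snd _ _
        rw [← left_apply_comp, h3]
      rw [this]
      exact hωΩ
    · have h4 : lift gi ω ≫ act = w' ≫ π := by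
        rw [hω, hpt, ← _root_.mul_assoc, ← MonObj.mul_comp, hgi, MonObj.one_comp, _root_.one_mul, hπ', comp_lift]
      have h5 : act.left ((lift gi ω).left z) = π.left (w'.left z) :=
        left_apply_of_eq _ _ _ _ h4 z
      change act.left ((lift gi ω).left z) = p
      rw [h5, hπ]
  have hsurj' : Surjective (Ω'.ι ≫ act.left) := ⟨hsurj⟩
  have hepi : Epi (Ω'.ι ≫ act.left) := Flat.epi_of_flat_of_surjective _
  apply Over.OverMorphism.ext
  rw [← cancel_epi (Ω'.ι ≫ act.left), Category.assoc, Category.assoc]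
  exact hagree

end Spread


section Affine

/-- the ring map of `Spec D ⟶ X` for affine `X` -/
theorem SpecMap_isoSpec_inv_appTop {X : Scheme.{u}} [IsAffine X] {D : CommRingCat.{u}} (φ : Γ(X, ⊤) ⟶ D) :
    (Spec.map φ ≫ X.isoSpec.inv).appTop ≫ (Scheme.ΓSpecIso D).hom = φ := by
  have h1 : (Spec.map φ ≫ X.isoSpec.inv) ≫ X.toSpecΓ = Spec.map φ := by
    rw [Category.assoc, Scheme.isoSpec_inv_toSpecΓ, Category.comp_id]
  have h2 := congrArg Scheme.Hom.appTop h1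
  rw [Scheme.Hom.comp_appTop, Scheme.toSpecΓ_appTop] at h2
  have h3 := Scheme.ΓSpecIso_naturality φ
  rw [← cancel_epi (Scheme.ΓSpecIso Γ(X, ⊤)).hom, ← Category.assoc, h2, h3]

/-- Two maps `Spec D ⟶ X` into a common affine open which agree modulo each ideal of a separated family are equal. -/
theorem eq_of_forall_quotient_comp_eq {D : CommRingCat.{u}} {X : Scheme.{u}} (f₁ f₂ : Spec D ⟶ X)
    (U : X.Opens) (hU : IsAffineOpen U) (h₁ : f₁ ⁻¹ᵁ U = ⊤) (h₂ : f₂ ⁻¹ᵁ U = ⊤)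
    (I : ℕ → Ideal D) (hI : ∀ d : D, (∀ n, d ∈ I n) → d = 0)
    (H : ∀ n, Spec.map (CommRingCat.ofHom (Ideal.Quotient.mk (I n))) ≫ f₁ =
      Spec.map (CommRingCat.ofHom (Ideal.Quotient.mk (I n))) ≫ f₂) : f₁ = f₂ := by
  have key : ∀ (f : Spec D ⟶ X) (hf : f ⁻¹ᵁ U = ⊤),
      f = Spec.map (f.appLE U ⊤ (by rw [hf]) ≫ (Scheme.ΓSpecIso D).hom) ≫ hU.fromSpec := by
    intro f hf
    have := IsAffineOpen.SpecMap_appLE_fromSpec f hU (isAffineOpen_top (Spec D)) (by rw [hf])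
    rw [IsAffineOpen.fromSpec_top, Scheme.isoSpec_Spec_inv] at this
    rw [Spec.map_comp, Category.assoc, this, ← Category.assoc, ← Spec.map_comp, Iso.inv_hom_id, Spec.map_id,
      Category.id_comp]
  obtain ⟨ψ₁, hψ₁⟩ : ∃ ψ₁ : Γ(X, U) ⟶ D, f₁ = Spec.map ψ₁ ≫ hU.fromSpec := ⟨_, key f₁ h₁⟩
  obtain ⟨ψ₂, hψ₂⟩ : ∃ ψ₂ : Γ(X, U) ⟶ D, f₂ = Spec.map ψ₂ ≫ hU.fromSpec := ⟨_, key f₂ h₂⟩
  have hψ : ψ₁ = ψ₂ := by
    ext s
    have hsub : ψ₁.hom s - ψ₂.hom s = 0 := by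
      refine hI _ fun n => ?_
      have Hn := H n
      rw [hψ₁, hψ₂, ← Category.assoc, ← Category.assoc, cancel_mono, ← Spec.map_comp, ← Spec.map_comp] at Hn
      have Hn' := Spec.map_injective Hn
      have := congrArg (fun φ => φ.hom s) Hn'
      exact Ideal.Quotient.eq.1 this
    exact sub_eq_zero.1 hsub
  rw [hψ₁, hψ₂, hψ]

end Affine

end Groth.Agent.Lib.Seat89.Agree
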