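import Groth.Agent.Lib.Seat89Density
import Mathlib.AlgebraicGeometry.Morphisms.ClosedImmersion

/-!
# Consequences of schematic density for attractors (helper89)

* `hom_ext_of_ker_eq_bot`: a morphism of `S`-schemes with trivial kernel is an epimorphism with respect to targets
  separated over `S`.
* `exists_factor_of_ker_eq_bot`: factoring through a closed subscheme by schematic density.
* `whiskerRight_comp_eq_orbit`: an element `φ` of the attractor `X^N` over `T`, restricted to `A(M)_S ×_S T`, is the
  orbit map of the point `attrToX φ`.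
* `attr_ext`: for `X` separated over `S`, an element of `X^N(T)` is determined by its image in `X(T)`.
-/

set_option autoImplicit false
universe u
open CategoryTheory CategoryTheory.Limits MonoidalCategory CartesianMonoidalCategory MonObj AlgebraicGeometry Opposite

namespace Groth.Agent.Lib.Seat89.Attr

open Magnet

/-- A morphism with trivial kernel is an epimorphism for targets separated over the base. -/
theorem hom_ext_of_ker_eq_bot {S : Scheme.{u}} {P' P X : Over S} [IsSeparated X.hom] (p : P' ⟶ P)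
    (hp : p.left.ker = ⊥) {φ₁ φ₂ : P ⟶ X} (h : p ≫ φ₁ = p ≫ φ₂) : φ₁ = φ₂ := by
  have hci : IsClosedImmersion (equalizer.ι φ₁ φ₂).left := inferInstance
  have hl : equalizer.lift p h ≫ equalizer.ι φ₁ φ₂ = p := equalizer.lift_ι _ _
  have hker : (equalizer.ι φ₁ φ₂).left.ker = ⊥ := by
    rw [← le_bot_iff, ← hp, ← hl, Over.comp_left]
    exact Scheme.Hom.le_ker_comp _ _
  have hiso : IsIso (equalizer.ι φ₁ φ₂).left := IsClosedImmersion.isIso_iff_ker_eq_bot.mpr hker
  apply Over.OverMorphism.ext
  rw [← cancel_epi (equalizer.ι φ₁ φ₂).left, ← Over.comp_left, ← Over.comp_left, equalizer.condition]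

/-- Factoring through a closed subscheme by schematic density. -/
theorem exists_factor_of_ker_eq_bot {S : Scheme.{u}} {P' P X Z : Over S} (p : P' ⟶ P)
    (hp : p.left.ker = ⊥) (j : Z ⟶ X) [IsClosedImmersion j.left] (φ : P ⟶ X) (ψ : P' ⟶ Z)
    (h : p ≫ φ = ψ ≫ j) : ∃ χ : P ⟶ Z, χ ≫ j = φ := by
  have hcond : p.left ≫ φ.left = ψ.left ≫ j.left := by
    rw [← Over.comp_left, ← Over.comp_left, h]
  have hl : pullback.lift p.left ψ.left hcond ≫ pullback.fst φ.left j.left = p.left :=
    pullback.lift_fst _ _ _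
  have hker : (pullback.fst φ.left j.left).ker = ⊥ := by
    rw [← le_bot_iff, ← hp, ← hl]
    exact Scheme.Hom.le_ker_comp _ _
  have hiso : IsIso (pullback.fst φ.left j.left) := IsClosedImmersion.isIso_iff_ker_eq_bot.mpr hker
  have hw : (inv (pullback.fst φ.left j.left) ≫ pullback.snd φ.left j.left) ≫ Z.hom = P.hom := by
    rw [Category.assoc, ← Over.w j, ← pullback.condition_assoc, IsIso.inv_hom_id_assoc, Over.w φ]
  refine ⟨Over.homMk (inv (pullback.fst φ.left j.left) ≫ pullback.snd φ.left j.left) hw, ?_⟩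
  ext1
  change (inv (pullback.fst φ.left j.left) ≫ pullback.snd φ.left j.left) ≫ j.left = φ.left
  rw [Category.assoc, ← pullback.condition, IsIso.inv_hom_id_assoc]

theorem AMon_map_id (R : Type u) [CommRing R] (N : Type) [AddCommMonoid N] :
    AMon.map R (AddMonoidHom.id N) = 𝟙 (AMon R N) := by
  ext : 1
  rw [AMon.map_left]
  have h : MonoidAlgebra.mapDomainBialgHom R (AddMonoidHom.toMultiplicative (AddMonoidHom.id N)) =
      BialgHom.id R (MonoidAlgebra R (Multiplicative N)) :=
    MonoidAlgebra.mapDomainBialgHom_id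
  rw [h]
  change Spec.map (𝟙 _) = 𝟙 _
  rw [Spec.map_id]

theorem AMonS_map_id (S : Scheme.{u}) (N : Type) [AddCommMonoid N] :
    AMonS.map S (AddMonoidHom.id N) = 𝟙 (AMonS S N) := by
  rw [AMonS.map, AMon_map_id, CategoryTheory.Functor.map_id]

variable {S : Scheme.{u}} {M : Type} [AddCommMonoid M] {X : Over S}

/-- The restriction of an element `φ` of `X^N(T)` to `A(M)_S ×_S T` is the orbit map of the point
`attrToX φ` of `X`. -/
theorem whiskerRight_comp_eq_orbit (a : MonAct (AMonS S M) X) (N : AddSubmonoid M) (T : Over S)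
    (φ : (attr a N).obj (op T)) :
    (AMonS.map S N.subtype ▷ T) ≫ φ.1 = (AMonS S M ◁ ((attrToX a N).app (op T) φ)) ≫ a.act := by
  have hφ := φ.2
  rw [MonAct.mem_eqvHom_iff] at hφ
  apply hom_ext_lift₂
  intro T' g y
  have h1 := hφ T' g (toUnit T' ≫ η[AMonS S ↥N]) y
  unfold subAct at h1
  rw [MonAct.lift_restrict_act, MonAct.lift_regular_act] at h1
  have h2 : (g ≫ AMonS.map S N.subtype) * (toUnit T' ≫ η[AMonS S ↥N]) = g ≫ AMonS.map S N.subtype := by
    rw [← Hom.one_def, _root_.mul_one]
  rw [h2] at h1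
  have h3 : lift (toUnit T' ≫ η[AMonS S ↥N]) y =
      y ≫ lift (toUnit T ≫ η[AMonS S ↥N]) (𝟙 T) := by
    rw [comp_lift, Category.comp_id, ← Category.assoc, toUnit_unique (y ≫ toUnit T)]
  rw [h3, Category.assoc] at h1
  rw [lift_whiskerRight_assoc, h1, lift_whiskerLeft_assoc]
  rfl

/-- For `X` separated over `S`, an element of the attractor `X^N(T)` is determined by its image in `X(T)`. -/
theorem attr_ext [IsSeparated X.hom] (a : MonAct (AMonS S M) X) (N : AddSubmonoid M) (T : Over S)
    (φ₁ φ₂ : (attr a N).obj (op T))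
    (h : (attrToX a N).app (op T) φ₁ = (attrToX a N).app (op T) φ₂) : φ₁ = φ₂ := by
  apply Subtype.ext
  have hd := (Density.AMonS_map_whiskerRight_dominant S N.subtype Subtype.val_injective T).2
  refine hom_ext_of_ker_eq_bot (AMonS.map S N.subtype ▷ T) hd ?_
  rw [whiskerRight_comp_eq_orbit, whiskerRight_comp_eq_orbit, h]

end Groth.Agent.Lib.Seat89.Attr
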