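import Groth.Agent.Lib.Seat89DiagKer
import Mathlib.AlgebraicGeometry.AffineTransitionLimit
import Mathlib.Algebra.Category.Ring.FilteredColimits
import Mathlib.CategoryTheory.Limits.Types.Filtered

/-!
# `A(⋃ Nᵢ)_S ×_S T` is the cofiltered limit of the `A(Nᵢ)_S ×_S T` (helper89)

For a nonempty directed family of submonoids `N i` of `M`, the monoid algebra `R[⨆ N i]` is the filtered colimit of the
`R[N i]`, hence `Spec R[⨆ N i]` is the limit of the `Spec R[N i]`, and the same holds after the product with any `T`.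
-/

set_option autoImplicit false
universe u
open CategoryTheory CategoryTheory.Limits MonoidalCategory CartesianMonoidalCategory MonObj AlgebraicGeometry Opposite

namespace Groth.Agent.Lib.Seat89.AttrLimit

open Magnet

section Ring

variable (R : Type u) [CommRing R] {M : Type} [AddCommMonoid M]

/-- the ring map `R[N₁] → R[N₂]` for submonoids `N₁ ≤ N₂`. -/
noncomputable def inclHom {N₁ N₂ : AddSubmonoid M} (h : N₁ ≤ N₂) :
    MonoidAlgebra R (Multiplicative ↥N₁) →+* MonoidAlgebra R (Multiplicative ↥N₂) :=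
  (MonoidAlgebra.mapDomainBialgHom R (AddMonoidHom.toMultiplicative (AddSubmonoid.inclusion h))).toAlgHom.toRingHom

theorem inclHom_single {N₁ N₂ : AddSubmonoid M} (h : N₁ ≤ N₂) (n : Multiplicative ↥N₁) (r : R) :
    inclHom R h (MonoidAlgebra.single n r) =
      MonoidAlgebra.single (Multiplicative.ofAdd (AddSubmonoid.inclusion h (Multiplicative.toAdd n))) r :=
  MonoidAlgebra.mapDomainBialgHom_single _ _ _

theorem inclHom_refl (N₁ : AddSubmonoid M) : inclHom R (le_refl N₁) = RingHom.id _ := by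
  apply MonoidAlgebra.ringHom_ext
  · intro r
    rw [inclHom_single]
    rfl
  · intro n
    rw [inclHom_single]
    rfl

theorem inclHom_comp {N₁ N₂ N₃ : AddSubmonoid M} (h₁ : N₁ ≤ N₂) (h₂ : N₂ ≤ N₃) :
    (inclHom R h₂).comp (inclHom R h₁) = inclHom R (h₁.trans h₂) := by
  apply MonoidAlgebra.ringHom_ext
  · intro r
    rw [RingHom.comp_apply, inclHom_single, inclHom_single, inclHom_single]
    rfl
  · intro n
    rw [RingHom.comp_apply, inclHom_single, inclHom_single, inclHom_single]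
    rfl

theorem inclHom_injective {N₁ N₂ : AddSubmonoid M} (h : N₁ ≤ N₂) : Function.Injective (inclHom R h) := by
  have hg : Function.Injective (AddMonoidHom.toMultiplicative (AddSubmonoid.inclusion h)) :=
    AddSubmonoid.inclusion_injective h
  exact Function.LeftInverse.injective (g := MonoidAlgebra.comapDomain _ hg)
    (fun x => Density.comapDomain_mapDomain R _ hg x)

variable {J : Type} [Preorder J] (N : J → AddSubmonoid M) (hN : ∀ ⦃a b : J⦄, a ≤ b → N a ≤ N b)

/-- the diagram `i ↦ R[N i]` of commutative rings -/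
noncomputable def ringDiagram : ULift.{u} J ⥤ CommRingCat.{u} where
  obj i := CommRingCat.of (MonoidAlgebra R (Multiplicative ↥(N i.down)))
  map {i j} f := CommRingCat.ofHom (inclHom R (hN (show i.down ≤ j.down from (leOfHom f : i ≤ j))))
  map_id i := by
    rw [← CommRingCat.ofHom_id]
    congr 1
    exact inclHom_refl R _
  map_comp {i j k} f g := by
    rw [← CommRingCat.ofHom_comp]
    congr 1
    exact (inclHom_comp R _ _).symm

/-- the cocone with vertex `R[⨆ N i]` -/
noncomputable def ringCocone : Cocone (ringDiagram R N hN) :=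
  ⟨CommRingCat.of (MonoidAlgebra R (Multiplicative ↥(⨆ i, N i))),
    { app := fun i => CommRingCat.ofHom (inclHom R (le_iSup N i.down))
      naturality := fun i j f => by
        change CommRingCat.ofHom _ ≫ CommRingCat.ofHom _ = CommRingCat.ofHom _ ≫ 𝟙 _
        rw [Category.comp_id, ← CommRingCat.ofHom_comp]
        congr 1
        exact inclHom_comp R _ _ }⟩

theorem isDirected_ulift [IsDirected J (· ≤ ·)] : IsDirected (ULift.{u} J) (· ≤ ·) :=
  ⟨fun a b => by
    obtain ⟨c, h1, h2⟩ := directed_of (· ≤ ·) a.down b.down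
    exact ⟨⟨c⟩, h1, h2⟩⟩

theorem isFiltered_ulift [IsDirected J (· ≤ ·)] [Nonempty J] : IsFiltered (ULift.{u} J) := by
  have := isDirected_ulift (J := J)
  infer_instance

theorem ringCocone_ι_app (i : ULift.{u} J) (x : MonoidAlgebra R (Multiplicative ↥(N i.down))) :
    ((ringCocone R N hN).ι.app i).hom x = inclHom R (le_iSup N i.down) x := rfl

include hN in
/-- every element of `R[⨆ N i]` comes from some `R[N i]` -/
theorem exists_inclHom_eq [IsDirected J (· ≤ ·)] [Nonempty J]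
    (x : MonoidAlgebra R (Multiplicative ↥(⨆ i, N i))) :
    ∃ (i : J) (xi : MonoidAlgebra R (Multiplicative ↥(N i))), x = inclHom R (le_iSup N i) xi := by
  induction x using MonoidAlgebra.induction_linear with
  | zero => exact ⟨Classical.arbitrary J, 0, (map_zero _).symm⟩
  | add x y hx hy =>
    obtain ⟨i, a, rfl⟩ := hx
    obtain ⟨j, b, rfl⟩ := hy
    obtain ⟨k, hik, hjk⟩ := directed_of (· ≤ ·) i j
    refine ⟨k, inclHom R (hN hik) a + inclHom R (hN hjk) b, ?_⟩
    rw [map_add, ← RingHom.comp_apply, ← RingHom.comp_apply, inclHom_comp, inclHom_comp]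
  | single n r =>
    obtain ⟨i, hi⟩ := (AddSubmonoid.mem_iSup_of_directed (Monotone.directed_le (f := N) hN)).mp (Multiplicative.toAdd n).2
    refine ⟨i, MonoidAlgebra.single (Multiplicative.ofAdd ⟨(Multiplicative.toAdd n).1, hi⟩) r, ?_⟩
    rw [inclHom_single]
    rfl

/-- `R[⨆ N i]` is the filtered colimit of the `R[N i]`. -/
noncomputable def ringCoconeIsColimit [IsDirected J (· ≤ ·)] [Nonempty J] :
    IsColimit (ringCocone R N hN) := by
  haveI : IsFiltered (ULift.{u} J) := isFiltered_ulift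
  haveI : PreservesColimitsOfShape (ULift.{u} J) (forget CommRingCat.{u}) :=
    PreservesFilteredColimitsOfSize.preserves_filtered_colimits _
  haveI : ReflectsColimitsOfShape (ULift.{u} J) (forget CommRingCat.{u}) :=
    reflectsColimitsOfShape_of_reflectsIsomorphisms
  refine isColimitOfReflects (forget CommRingCat.{u}) ?_
  refine Types.FilteredColimit.isColimitOf' _ _ ?_ ?_
  · intro x
    obtain ⟨i, xi, hx⟩ := exists_inclHom_eq R N hN x
    exact ⟨⟨i⟩, xi, hx⟩
  · intro i x y hxy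
    refine ⟨i, 𝟙 i, ?_⟩
    have : inclHom R (le_iSup N i.down) x = inclHom R (le_iSup N i.down) y := hxy
    rw [inclHom_injective R _ this]

end Ring

section SchemeLimit

variable (S : Scheme.{u}) {M : Type} [AddCommMonoid M] {J : Type} [Preorder J]
  (N : J → AddSubmonoid M) (hN : ∀ ⦃a b : J⦄, a ≤ b → N a ≤ N b) (T : Over S)

theorem AMonS_map_inclusion_refl (N₁ : AddSubmonoid M) :
    AMonS.map S (AddSubmonoid.inclusion (le_refl N₁)) = 𝟙 _ := by
  have : AddSubmonoid.inclusion (le_refl N₁) = AddMonoidHom.id _ := by ext; rfl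
  rw [this, Attr.AMonS_map_id]

theorem AMonS_map_inclusion_comp {N₁ N₂ N₃ : AddSubmonoid M} (h₁ : N₁ ≤ N₂) (h₂ : N₂ ≤ N₃) :
    AMonS.map S (AddSubmonoid.inclusion h₂) ≫ AMonS.map S (AddSubmonoid.inclusion h₁) =
      AMonS.map S (AddSubmonoid.inclusion (h₁.trans h₂)) := by
  rw [← AMonS.map_comp]
  rfl

/-- the diagram `i ↦ A(N i)_S ×_S T` in `Over S` -/
noncomputable def overDiagram : (ULift.{u} J)ᵒᵖ ⥤ Over S where
  obj i := AMonS S ↥(N i.unop.down) ⊗ T
  map {i j} f := AMonS.map S (AddSubmonoid.inclusion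
    (hN (show j.unop.down ≤ i.unop.down from (leOfHom f.unop : j.unop ≤ i.unop)))) ▷ T
  map_id i := by
    rw [AMonS_map_inclusion_refl, id_whiskerRight]
  map_comp {i j k} f g := by
    rw [← comp_whiskerRight, AMonS_map_inclusion_comp]

theorem overDiagram_map {i j : (ULift.{u} J)ᵒᵖ} (f : i ⟶ j) :
    (overDiagram S N hN T).map f = AMonS.map S (AddSubmonoid.inclusion
      (hN (show j.unop.down ≤ i.unop.down from (leOfHom f.unop : j.unop ≤ i.unop)))) ▷ T := rfl

theorem attrCone_naturality {i j : (ULift.{u} J)ᵒᵖ} (f : i ⟶ j) :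
    (AMonS.map S (AddSubmonoid.inclusion (le_iSup N j.unop.down)) ▷ T).left =
      (AMonS.map S (AddSubmonoid.inclusion (le_iSup N i.unop.down)) ▷ T).left ≫
        ((overDiagram S N hN T).map f).left := by
  have h := AMonS_map_inclusion_comp S
    (hN (show j.unop.down ≤ i.unop.down from (leOfHom f.unop : j.unop ≤ i.unop))) (le_iSup N i.unop.down)
  have h2 := congrArg (fun k => (k ▷ T).left) h
  simp only [comp_whiskerRight, Over.comp_left] at h2
  exact h2.symm

/-- the cone with vertex `A(⨆ N i)_S ×_S T` -/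
noncomputable def attrCone : Cone (overDiagram S N hN T ⋙ Over.forget S) :=
  ⟨(AMonS S ↥(⨆ i, N i) ⊗ T).left,
    { app := fun i => (AMonS.map S (AddSubmonoid.inclusion (le_iSup N i.unop.down)) ▷ T).left
      naturality := fun i j f => (Category.id_comp _).trans (attrCone_naturality S N hN T f) }⟩

/-- the projection `A(N₁)_S ×_S T ⟶ Spec ℤ[N₁]` -/
noncomputable def prFst (N₁ : AddSubmonoid M) :
    (AMonS S ↥N₁ ⊗ T).left ⟶ Spec (CommRingCat.of (MonoidAlgebra (ULift.{u} ℤ) (Multiplicative ↥N₁))) :=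
  pullback.fst (AMonS S ↥N₁).hom T.hom ≫
    pullback.fst (AMon (ULift.{u} ℤ) ↥N₁).hom (Limits.IsTerminal.from specULiftZIsTerminal S)

/-- the projection `A(N₁)_S ×_S T ⟶ T` -/
noncomputable def prSnd (N₁ : AddSubmonoid M) : (AMonS S ↥N₁ ⊗ T).left ⟶ T.left :=
  pullback.snd (AMonS S ↥N₁).hom T.hom

theorem isPullback_pr (N₁ : AddSubmonoid M) :
    IsPullback (prFst S T N₁) (prSnd S T N₁) (AMon (ULift.{u} ℤ) ↥N₁).hom
      (T.hom ≫ Limits.IsTerminal.from specULiftZIsTerminal S) :=
  Density.isPullback_AMonS_tensor S ↥N₁ T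

theorem map_prFst {N₁ N₂ : AddSubmonoid M} (h : N₁ ≤ N₂) :
    (AMonS.map S (AddSubmonoid.inclusion h) ▷ T).left ≫ prFst S T N₁ =
      prFst S T N₂ ≫ Spec.map (CommRingCat.ofHom (inclHom (ULift.{u} ℤ) h)) :=
  (DiagKer.isPullback_AMonS_map_whiskerRight S (AddSubmonoid.inclusion h) T).w

theorem map_prSnd {N₁ N₂ : AddSubmonoid M} (h : N₁ ≤ N₂) :
    (AMonS.map S (AddSubmonoid.inclusion h) ▷ T).left ≫ prSnd S T N₁ = prSnd S T N₂ :=
  Over.whiskerRight_left_snd _

theorem pr_hom_ext (N₁ : AddSubmonoid M) {W : Scheme.{u}} (f g : W ⟶ (AMonS S ↥N₁ ⊗ T).left)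
    (h1 : f ≫ prFst S T N₁ = g ≫ prFst S T N₁) (h2 : f ≫ prSnd S T N₁ = g ≫ prSnd S T N₁) : f = g :=
  (isPullback_pr S T N₁).hom_ext h1 h2

theorem attrCone_π_app (i : (ULift.{u} J)ᵒᵖ) :
    (attrCone S N hN T).π.app i = (AMonS.map S (AddSubmonoid.inclusion (le_iSup N i.unop.down)) ▷ T).left := rfl

theorem overDiagram_forget_map {i j : (ULift.{u} J)ᵒᵖ} (f : i ⟶ j) :
    (overDiagram S N hN T ⋙ Over.forget S).map f = (AMonS.map S (AddSubmonoid.inclusion
      (hN (show j.unop.down ≤ i.unop.down from (leOfHom f.unop : j.unop ≤ i.unop)))) ▷ T).left := rfl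

/-- universal property of `Spec R[⨆ N i]` as the limit of the `Spec R[N i]`, in elementary terms -/
theorem spec_exists_unique_lift [IsDirected J (· ≤ ·)] [Nonempty J] (R : Type u) [CommRing R] (W : Scheme.{u})
    (v : ∀ i : J, W ⟶ Spec (CommRingCat.of (MonoidAlgebra R (Multiplicative ↥(N i)))))
    (hv : ∀ (i j : J) (h : i ≤ j), v j ≫ Spec.map (CommRingCat.ofHom (inclHom R (hN h))) = v i) :
    ∃ l : W ⟶ Spec (CommRingCat.of (MonoidAlgebra R (Multiplicative ↥(⨆ i, N i)))),
      (∀ i, l ≫ Spec.map (CommRingCat.ofHom (inclHom R (le_iSup N i))) = v i) ∧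
      ∀ l' : W ⟶ Spec (CommRingCat.of (MonoidAlgebra R (Multiplicative ↥(⨆ i, N i)))),
        (∀ i, l' ≫ Spec.map (CommRingCat.ofHom (inclHom R (le_iSup N i))) = v i) → l' = l := by
  have : PreservesLimitsOfSize.{u, u} Scheme.Spec.{u} := ΓSpec.adjunction.rightAdjoint_preservesLimits
  have hE : IsLimit (Scheme.Spec.mapCone (ringCocone R N hN).op) :=
    isLimitOfPreserves Scheme.Spec (ringCoconeIsColimit R N hN).op
  have hEπ : ∀ i : (ULift.{u} J)ᵒᵖ, (Scheme.Spec.mapCone (ringCocone R N hN).op).π.app i =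
      Spec.map (CommRingCat.ofHom (inclHom R (le_iSup N i.unop.down))) := fun i => rfl
  let s : Cone ((ringDiagram R N hN).op ⋙ Scheme.Spec) :=
    ⟨W, { app := fun i => v i.unop.down
          naturality := fun i j f => (Category.id_comp _).trans
            (hv j.unop.down i.unop.down (leOfHom f.unop : j.unop ≤ i.unop)).symm }⟩
  refine ⟨hE.lift s, fun i => ?_, fun l' hl' => ?_⟩
  · exact hE.fac s (op ⟨i⟩)
  · exact hE.uniq s l' (fun i => hl' i.unop.down)

/-- universal property of `A(⨆ N i)_S ×_S T` as the limit of the `A(N i)_S ×_S T`, in elementary terms -/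
theorem exists_unique_lift [IsDirected J (· ≤ ·)] [Nonempty J] (W : Scheme.{u})
    (w : ∀ i : J, W ⟶ (AMonS S ↥(N i) ⊗ T).left)
    (hw : ∀ (i j : J) (h : i ≤ j), w j ≫ (AMonS.map S (AddSubmonoid.inclusion (hN h)) ▷ T).left = w i) :
    ∃ l : W ⟶ (AMonS S ↥(⨆ i, N i) ⊗ T).left,
      (∀ i, l ≫ (AMonS.map S (AddSubmonoid.inclusion (le_iSup N i)) ▷ T).left = w i) ∧
      ∀ l' : W ⟶ (AMonS S ↥(⨆ i, N i) ⊗ T).left,
        (∀ i, l' ≫ (AMonS.map S (AddSubmonoid.inclusion (le_iSup N i)) ▷ T).left = w i) → l' = l := by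
  -- the second projection is independent of the index
  have hsnd1 : ∀ (i j : J) (h : i ≤ j), w i ≫ prSnd S T (N i) = w j ≫ prSnd S T (N j) := by
    intro i j h
    rw [← hw i j h, Category.assoc, map_prSnd]
  have hsnd : ∀ (i j : J), w i ≫ prSnd S T (N i) = w j ≫ prSnd S T (N j) := by
    intro i j
    obtain ⟨k, hik, hjk⟩ := directed_of (· ≤ ·) i j
    rw [hsnd1 i k hik, hsnd1 j k hjk]
  have hfst : ∀ (i j : J) (h : i ≤ j), (w j ≫ prFst S T (N j)) ≫
      Spec.map (CommRingCat.ofHom (inclHom (ULift.{u} ℤ) (hN h))) = w i ≫ prFst S T (N i) := by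
    intro i j h
    rw [← hw i j h, Category.assoc, Category.assoc, map_prFst]
  obtain ⟨l₁, hl₁, hl₁'⟩ := spec_exists_unique_lift N hN (ULift.{u} ℤ) W (fun i => w i ≫ prFst S T (N i)) hfst
  have i₀ : J := Classical.arbitrary J
  have hcond : l₁ ≫ (AMon (ULift.{u} ℤ) ↥(⨆ i, N i)).hom =
      (w i₀ ≫ prSnd S T (N i₀)) ≫ T.hom ≫ Limits.IsTerminal.from specULiftZIsTerminal S :=
    specULiftZIsTerminal.hom_ext _ _
  refine ⟨(isPullback_pr S T (⨆ i, N i)).lift l₁ (w i₀ ≫ prSnd S T (N i₀)) hcond, fun i => ?_, fun l' hl' => ?_⟩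
  · apply pr_hom_ext
    · rw [Category.assoc, map_prFst, IsPullback.lift_fst_assoc, hl₁]
    · rw [Category.assoc, map_prSnd, IsPullback.lift_snd, hsnd i₀ i]
  · apply pr_hom_ext
    · rw [IsPullback.lift_fst]
      apply hl₁'
      intro i
      rw [Category.assoc, ← map_prFst, ← Category.assoc, hl' i]
    · rw [IsPullback.lift_snd, ← hl' i₀, Category.assoc, map_prSnd]

/-- `A(⨆ N i)_S ×_S T` is the limit of the `A(N i)_S ×_S T`. -/
theorem attrCone_isLimit [IsDirected J (· ≤ ·)] [Nonempty J] : Nonempty (IsLimit (attrCone S N hN T)) := by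
  have hex : ∀ s : Cone (overDiagram S N hN T ⋙ Over.forget S),
      ∃ l : s.pt ⟶ (AMonS S ↥(⨆ i, N i) ⊗ T).left,
      (∀ i, l ≫ (AMonS.map S (AddSubmonoid.inclusion (le_iSup N i)) ▷ T).left = s.π.app (op ⟨i⟩)) ∧
      ∀ l' : s.pt ⟶ (AMonS S ↥(⨆ i, N i) ⊗ T).left,
        (∀ i, l' ≫ (AMonS.map S (AddSubmonoid.inclusion (le_iSup N i)) ▷ T).left = s.π.app (op ⟨i⟩)) → l' = l := by
    intro s
    refine exists_unique_lift S N hN T s.pt (fun i => s.π.app (op ⟨i⟩)) ?_
    intro i j h
    exact s.w (j := op (ULift.up.{u} j)) (j' := op (ULift.up.{u} i))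
      (homOfLE (show ULift.up.{u} i ≤ ULift.up.{u} j from h)).op
  refine ⟨{ lift := fun s => Classical.choose (hex s)
            fac := fun s i => (Classical.choose_spec (hex s)).1 i.unop.down
            uniq := fun s m hm => (Classical.choose_spec (hex s)).2 m (fun i => hm (op ⟨i⟩)) }⟩

theorem isAffine_tensor_left (N₁ : AddSubmonoid M) [IsAffine T.left] : IsAffine (AMonS S ↥N₁ ⊗ T).left := by
  have h1 : IsAffineHom (AMon (ULift.{u} ℤ) ↥N₁).hom :=
    (inferInstance : IsAffineHom (Spec.map (CommRingCat.ofHom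
      (algebraMap (ULift.{u} ℤ) (MonoidAlgebra (ULift.{u} ℤ) (Multiplicative ↥N₁))))))
  have h2 : IsAffineHom (prSnd S T N₁) := MorphismProperty.of_isPullback (isPullback_pr S T N₁) h1
  exact isAffine_of_isAffineHom (prSnd S T N₁)

include hN in
/-- **Limit argument.**  For `X` locally of finite presentation over `S` and `T` affine, every `S`-morphism
`A(⨆ N i)_S ×_S T ⟶ X` factors through some `A(N i)_S ×_S T`. -/
theorem exists_factor_of_lfp [IsDirected J (· ≤ ·)] [Nonempty J] [IsAffine T.left] (X : Over S)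
    [LocallyOfFinitePresentation X.hom] (φ : AMonS S ↥(⨆ i, N i) ⊗ T ⟶ X) :
    ∃ (i : J) (ψ : AMonS S ↥(N i) ⊗ T ⟶ X),
      (AMonS.map S (AddSubmonoid.inclusion (le_iSup N i)) ▷ T) ≫ ψ = φ := by
  have : IsFiltered (ULift.{u} J) := isFiltered_ulift
  obtain ⟨hc⟩ := attrCone_isLimit S N hN T
  let t : (overDiagram S N hN T ⋙ Over.forget S) ⟶ (Functor.const _).obj S :=
    { app := fun i => ((overDiagram S N hN T).obj i).hom
      naturality := fun i j f => (Over.w ((overDiagram S N hN T).map f)).trans (Category.comp_id _).symm }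
  have haff : ∀ {i j : (ULift.{u} J)ᵒᵖ} (f : i ⟶ j),
      IsAffineHom ((overDiagram S N hN T ⋙ Over.forget S).map f) := fun {i j} f =>
    (Density.AMonS_map_whiskerRight_dominant S _ (AddSubmonoid.inclusion_injective _) T).1
  have haffobj : ∀ i : (ULift.{u} J)ᵒᵖ, IsAffine ((overDiagram S N hN T ⋙ Over.forget S).obj i) := fun i =>
    isAffine_tensor_left S T (N i.unop.down)
  have ha : (attrCone S N hN T).π ≫ t = (Functor.const _).map (φ.left ≫ X.hom) := by
    ext i
    change (AMonS.map S (AddSubmonoid.inclusion (le_iSup N i.unop.down)) ▷ T).left ≫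
      (AMonS S ↥(N i.unop.down) ⊗ T).hom = φ.left ≫ X.hom
    rw [Over.w, Over.w]
  obtain ⟨i, g, hg1, hg2⟩ := Scheme.exists_π_app_comp_eq_of_locallyOfFinitePresentation
    (overDiagram S N hN T ⋙ Over.forget S) t X.hom (attrCone S N hN T) hc φ.left ha
  refine ⟨i.unop.down, Over.homMk g hg2, ?_⟩
  apply Over.OverMorphism.ext
  exact hg1

end SchemeLimit

section Density

/-- In a braided monoidal category: if `f ▷ T'` is left-cancellable against morphisms into `X` for every `T'`, then so is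
`G ◁ (f ▷ T)`. -/
theorem hom_ext_whiskerLeft_whiskerRight {C : Type*} [Category C] [MonoidalCategory C] [BraidedCategory C]
    {A B X : C} (f : A ⟶ B)
    (hf : ∀ (T' : C) (u v : B ⊗ T' ⟶ X), (f ▷ T') ≫ u = (f ▷ T') ≫ v → u = v) (G T : C)
    (u v : G ⊗ (B ⊗ T) ⟶ X) (h : (G ◁ (f ▷ T)) ≫ u = (G ◁ (f ▷ T)) ≫ v) : u = v := by
  have h1 : G ◁ (f ▷ T) = (β_ G (A ⊗ T)).hom ≫ ((f ▷ T) ▷ G) ≫ (β_ G (B ⊗ T)).inv := by
    rw [← Category.assoc, Iso.eq_comp_inv, BraidedCategory.braiding_naturality_right]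
  have h2 : (f ▷ T) ▷ G = (α_ A T G).hom ≫ (f ▷ (T ⊗ G)) ≫ (α_ B T G).inv := by
    rw [← Category.assoc, Iso.eq_comp_inv, associator_naturality_left]
  rw [h1, h2] at h
  simp only [Category.assoc] at h
  rw [cancel_epi, cancel_epi] at h
  have h3 := hf (T ⊗ G) _ _ h
  rwa [cancel_epi, cancel_epi] at h3

/-- For an injective `f : N₁ →+ N₂`, `G ◁ (A(f) ▷ T)` is left-cancellable against morphisms into a separated `X`. -/
theorem hom_ext_whiskerLeft_AMonS_map (S : Scheme.{u}) {N₁ N₂ : Type} [AddCommMonoid N₁] [AddCommMonoid N₂]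
    (f : N₁ →+ N₂) (hf : Function.Injective f) {X : Over S} [IsSeparated X.hom] (G T : Over S)
    (u v : G ⊗ (AMonS S N₁ ⊗ T) ⟶ X)
    (h : (G ◁ (AMonS.map S f ▷ T)) ≫ u = (G ◁ (AMonS.map S f ▷ T)) ≫ v) : u = v := by
  refine hom_ext_whiskerLeft_whiskerRight (AMonS.map S f) ?_ G T u v h
  intro T' u' v' h'
  exact Attr.hom_ext_of_ker_eq_bot (AMonS.map S f ▷ T')
    (Density.AMonS_map_whiskerRight_dominant S f hf T').2 h'

end Density

end Groth.Agent.Lib.Seat89.AttrLimit
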