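import Groth.Agent.Lib.Seat89Coord

/-!
# Points of diagonalizable monoid schemes from characters (helper89)

`exists_point_of_char`: for a monoid map `χ : Multiplicative P →* Γ(T, ⊤)` there is a point `m : T ⟶ A(P)_S` with
`coord m p = χ p`.
-/

set_option autoImplicit false
universe u
open CategoryTheory CategoryTheory.Limits MonoidalCategory CartesianMonoidalCategory MonObj AlgebraicGeometry Opposite
open Magnet

namespace Groth.Agent.Lib.Seat89.CharPt

open Coord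

variable {S : Scheme.{u}} {P : Type} [AddCommMonoid P]

theorem exists_point_of_char {T : Over S} (χ : Multiplicative P →* Γ(T.left, ⊤)) :
    ∃ m : T ⟶ AMonS S P, ∀ p : P, coord m p = χ (Multiplicative.ofAdd p) := by
  obtain ⟨ρ₀, -⟩ : ∃ ρ₀ : ULift.{u} ℤ →+* Γ(T.left, ⊤), True :=
    ⟨(Int.castRingHom Γ(T.left, ⊤)).comp (ULift.ringEquiv : ULift.{u} ℤ ≃+* ℤ).toRingHom, trivial⟩
  obtain ⟨φ, hφ⟩ : ∃ φ : MonoidAlgebra (ULift.{u} ℤ) (Multiplicative P) →+* Γ(T.left, ⊤),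
      ∀ p : P, φ (MonoidAlgebra.single (Multiplicative.ofAdd p) 1) = χ (Multiplicative.ofAdd p) := by
    refine ⟨MonoidAlgebra.liftNCRingHom ρ₀ χ (fun _ _ => Commute.all _ _), fun p => ?_⟩
    rw [MonoidAlgebra.liftNCRingHom_single, map_one, _root_.one_mul]
  obtain ⟨g, hg⟩ : ∃ g : T.left ⟶ Spec (CommRingCat.of (MonoidAlgebra (ULift.{u} ℤ) (Multiplicative P))),
      g = T.left.toSpecΓ ≫ Spec.map (CommRingCat.ofHom φ) := ⟨_, rfl⟩
  have hw : g ≫ (AMon (ULift.{u} ℤ) P).hom = T.hom ≫ Limits.IsTerminal.from specULiftZIsTerminal S :=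
    specULiftZIsTerminal.hom_ext _ _
  obtain ⟨m, hm⟩ : ∃ m : T ⟶ AMonS S P, m.left ≫ prZ S P = g :=
    ⟨Over.homMk (pullback.lift g T.hom hw) (pullback.lift_snd _ _ _), pullback.lift_fst _ _ _⟩
  refine ⟨m, fun p => ?_⟩
  unfold coord ringMap
  rw [hm, hg, Scheme.Hom.comp_appTop, ← Category.assoc, ← Scheme.ΓSpecIso_inv_naturality, Category.assoc,
    Scheme.toSpecΓ_appTop, Iso.inv_hom_id, Category.comp_id]
  exact hφ p

end Groth.Agent.Lib.Seat89.CharPt
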