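import Groth.Agent.Lib.Seat89DiagFlat

/-!
# `R[G]` is free over `R[H]` when `G` is a free `H`-set (helper89)

Generalisation of `Seat89DiagFlat.free_of_injective` to commutative monoids, the decomposition being given as data.
-/

set_option autoImplicit false
universe u v w

namespace Groth.Agent.Lib.Seat89.DiagFlat2

section Free

variable (R : Type u) [CommRing R] {H : Type v} {G : Type w} {Q : Type*} [CommMonoid H] [CommMonoid G]
  (ι : H →* G) (s : Q → G) (mk : G → Q) (kap : G → H)
  (h1 : ∀ g, ι (kap g) * s (mk g) = g) (h2 : ∀ h q, mk (ι h * s q) = q) (h3 : ∀ h q, kap (ι h * s q) = h)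
  (θ : MonoidAlgebra R H →+* MonoidAlgebra R G)
  (hθ : ∀ (h : H) (r : R), θ (MonoidAlgebra.single h r) = MonoidAlgebra.single (ι h) r)

include h1 h2 h3 hθ in
/-- If `G = ⊔_q ι(H) · s q` is a free `H`-set, then `R[G]` is a free `R[H]`-module. -/
theorem free_of_decomp :
    letI : Algebra (MonoidAlgebra R H) (MonoidAlgebra R G) := θ.toAlgebra
    Module.Free (MonoidAlgebra R H) (MonoidAlgebra R G) := by
  let _ : Algebra (MonoidAlgebra R H) (MonoidAlgebra R G) := θ.toAlgebra
  have hsmul : ∀ (a : MonoidAlgebra R H) (x : MonoidAlgebra R G), a • x = θ a * x := fun a x => by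
    rw [Algebra.smul_def]; rfl
  let v : Q → MonoidAlgebra R G := fun q => MonoidAlgebra.single (s q) 1
  let Ψ : (Q →₀ MonoidAlgebra R H) →ₗ[MonoidAlgebra R H] MonoidAlgebra R G :=
    Finsupp.linearCombination (MonoidAlgebra R H) v
  let L : MonoidAlgebra R G →+ (Q →₀ MonoidAlgebra R H) :=
    (Finsupp.liftAddHom (fun g : G =>
      ((Finsupp.singleAddHom (mk g)).comp
        (MonoidAlgebra.singleAddHom (kap g) : R →+ MonoidAlgebra R H)))).comp
      (MonoidAlgebra.coeffAddEquiv (R := R) (M := G)).toAddMonoidHom
  have hL : ∀ (g : G) (r : R), L (MonoidAlgebra.single g r) =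
      Finsupp.single (mk g) (MonoidAlgebra.single (kap g) r) := by
    intro g r
    simp [L]
  have hΨ : ∀ (q : Q) (h : H) (r : R), Ψ (Finsupp.single q (MonoidAlgebra.single h r)) =
      MonoidAlgebra.single (ι h * s q) r := by
    intro q h r
    simp only [Ψ, Finsupp.linearCombination_single, hsmul, hθ, v, MonoidAlgebra.single_mul_single, mul_one]
  have hLΨ : ∀ y, L (Ψ y) = y := by
    intro y
    induction y using Finsupp.induction_linear with
    | zero => simp
    | add x y hx hy => rw [map_add, map_add, hx, hy]
    | single q a =>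
      induction a using MonoidAlgebra.induction_linear with
      | zero => simp
      | add x y hx hy => rw [Finsupp.single_add, map_add, map_add, hx, hy]
      | single h r => rw [hΨ, hL, h2, h3]
  have hΨL : ∀ x, Ψ (L x) = x := by
    intro x
    induction x using MonoidAlgebra.induction_linear with
    | zero => simp
    | add x y hx hy => rw [map_add, map_add, hx, hy]
    | single g r => rw [hL, hΨ, h1]
  have hbij : Function.Bijective Ψ :=
    ⟨Function.LeftInverse.injective hLΨ, Function.RightInverse.surjective hΨL⟩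
  exact Module.Free.of_equiv (LinearEquiv.ofBijective Ψ hbij)

include h1 h2 h3 hθ in
theorem faithfullyFlat_of_decomp [Nontrivial R] [Nonempty G] : θ.FaithfullyFlat := by
  let _ : Algebra (MonoidAlgebra R H) (MonoidAlgebra R G) := θ.toAlgebra
  have hfree : Module.Free (MonoidAlgebra R H) (MonoidAlgebra R G) :=
    free_of_decomp R ι s mk kap h1 h2 h3 θ hθ
  change Module.FaithfullyFlat (MonoidAlgebra R H) (MonoidAlgebra R G)
  infer_instance

end Free

end Groth.Agent.Lib.Seat89.DiagFlat2
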