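import Groth.Agent.Lib.Seat89AttrLimit
import Mathlib.RingTheory.Bialgebra.Convolution
import Groth.Agent.Lib.Seat89DiagFlat2

/-!
# Tools for the change-of-group map of attractors (helper89)

* `AMonS_map_add`: `A(f₁ + f₂) = A(f₁) * A(f₂)` in the monoid of morphisms `A(M)_S ⟶ A(N)_S`.
* `free_of_decomp`: `R[G]` is free over `R[H]` when `G` is a free `H`-set.
-/

set_option autoImplicit false
universe u v w
open CategoryTheory CategoryTheory.Limits MonoidalCategory CartesianMonoidalCategory MonObj AlgebraicGeometry Opposite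

namespace Groth.Agent.Lib.Seat89.Comap

open Magnet

section Add

variable (R : Type u) [CommRing R] {N M : Type} [AddCommMonoid N] [AddCommMonoid M]

theorem AMon_map_eq_mapMulEquiv (f : N →+ M) :
    AMon.map R f = Spec.mapMulEquiv (R := R) (S := MonoidAlgebra R (Multiplicative N))
      (T := MonoidAlgebra R (Multiplicative M))
      (WithConv.toConv (MonoidAlgebra.mapDomainBialgHom R (AddMonoidHom.toMultiplicative f)).toAlgHom) := by
  apply Over.OverMorphism.ext
  rfl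

theorem mapDomain_add (f₁ f₂ : N →+ M) :
    (WithConv.toConv (MonoidAlgebra.mapDomainBialgHom R (AddMonoidHom.toMultiplicative (f₁ + f₂))).toAlgHom :
      WithConv (MonoidAlgebra R (Multiplicative N) →ₐ[R] MonoidAlgebra R (Multiplicative M))) =
    WithConv.toConv (MonoidAlgebra.mapDomainBialgHom R (AddMonoidHom.toMultiplicative f₁)).toAlgHom *
      WithConv.toConv (MonoidAlgebra.mapDomainBialgHom R (AddMonoidHom.toMultiplicative f₂)).toAlgHom := by
  apply WithConv.ofConv_injective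
  refine MonoidAlgebra.algHom_ext (fun n => ?_) (Subsingleton.elim _ _)
  rw [AlgHom.convMul_apply]
  simp [MonoidAlgebra.mapDomainBialgHom_single, MonoidAlgebra.single_mul_single]

theorem AMon_map_add (f₁ f₂ : N →+ M) : AMon.map R (f₁ + f₂) = AMon.map R f₁ * AMon.map R f₂ := by
  rw [AMon_map_eq_mapMulEquiv, AMon_map_eq_mapMulEquiv, AMon_map_eq_mapMulEquiv, mapDomain_add, map_mul]

open scoped Obj in
theorem AMonS_map_add (S : Scheme.{u}) (f₁ f₂ : N →+ M) :
    AMonS.map S (f₁ + f₂) = AMonS.map S f₁ * AMonS.map S f₂ := by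
  rw [AMonS.map, AMon_map_add]
  exact Functor.map_mul _ _ _

end Add


section Delta

variable {M Z : Type} [AddCommGroup M] [AddCommGroup Z] (f : M →+ Z) (Y : AddSubmonoid Z)

/-- `κ : f⁻¹Y → Y`, the restriction of `f` (the map used by `Magnet.attrComap`). -/
def kappa : ↥(Y.comap f) →+ ↥Y := (f.comp (Y.comap f).subtype).codRestrict Y (fun x => x.2)

theorem kappa_coe (n : ↥(Y.comap f)) : (kappa f Y n : Z) = f n.1 := rfl

/-- `δ : f⁻¹Y → M × Y`, `n ↦ (n, f n)`. -/
def delta : ↥(Y.comap f) →+ M × ↥Y :=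
  (AddMonoidHom.inl M ↥Y).comp (Y.comap f).subtype + (AddMonoidHom.inr M ↥Y).comp (kappa f Y)

theorem delta_apply (n : ↥(Y.comap f)) : delta f Y n = (n.1, kappa f Y n) := by
  simp [delta]

theorem f_out (x : M) : f (Quotient.out (QuotientAddGroup.mk x : M ⧸ f.ker)) = f x := by
  rw [← QuotientAddGroup.kerLift_mk f (Quotient.out (QuotientAddGroup.mk x : M ⧸ f.ker)),
    QuotientAddGroup.out_eq', QuotientAddGroup.kerLift_mk]

variable (hY : Y ≤ AddMonoidHom.mrange f)

include hY in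
theorem exists_sigma : ∃ σ : ↥Y → M, ∀ y, f (σ y) = y.1 :=
  ⟨fun y => Classical.choose (hY y.2), fun y => Classical.choose_spec (hY y.2)⟩

include hY in
/-- `M × Y` is a free `f⁻¹Y`-set (through `δ`), with orbit set `M ⧸ ker f`. -/
theorem delta_decomp : ∃ (s : M ⧸ f.ker → M × ↥Y) (mk : M × ↥Y → M ⧸ f.ker) (kap : M × ↥Y → ↥(Y.comap f)),
    (∀ g, delta f Y (kap g) + s (mk g) = g) ∧ (∀ h q, mk (delta f Y h + s q) = q) ∧
      (∀ h q, kap (delta f Y h + s q) = h) := by
  obtain ⟨σ, hσ⟩ := exists_sigma f Y hY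
  let s : M ⧸ f.ker → M × ↥Y := fun q => (Quotient.out q, 0)
  let mk : M × ↥Y → M ⧸ f.ker := fun g => QuotientAddGroup.mk (g.1 - σ g.2)
  have hmem : ∀ g : M × ↥Y, g.1 - Quotient.out (mk g) ∈ Y.comap f := by
    intro g
    rw [AddSubmonoid.mem_comap, map_sub, f_out, map_sub, hσ, sub_sub_cancel]
    exact g.2.2
  let kap : M × ↥Y → ↥(Y.comap f) := fun g => ⟨g.1 - Quotient.out (mk g), hmem g⟩
  have hkap : ∀ g : M × ↥Y, f (kap g).1 = g.2.1 := by
    intro g
    change f (g.1 - Quotient.out (mk g)) = _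
    rw [map_sub, f_out, map_sub, hσ, sub_sub_cancel]
  have h2 : ∀ (h : ↥(Y.comap f)) (q : M ⧸ f.ker), mk (delta f Y h + s q) = q := by
    intro h q
    change QuotientAddGroup.mk ((delta f Y h + s q).1 - σ (delta f Y h + s q).2) = q
    rw [delta_apply]
    change QuotientAddGroup.mk (h.1 + Quotient.out q - σ (kappa f Y h + 0)) = q
    rw [_root_.add_zero]
    have hk : h.1 - σ (kappa f Y h) ∈ f.ker := by
      rw [AddMonoidHom.mem_ker, map_sub, hσ, kappa_coe, sub_self]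
    have e : h.1 + Quotient.out q - σ (kappa f Y h) = Quotient.out q + (h.1 - σ (kappa f Y h)) := by abel
    rw [e, QuotientAddGroup.mk_add, (QuotientAddGroup.eq_zero_iff _).mpr hk, _root_.add_zero,
      QuotientAddGroup.out_eq']
  refine ⟨s, mk, kap, ?_, h2, ?_⟩
  · intro g
    rw [delta_apply]
    apply Prod.ext
    · change (kap g).1 + Quotient.out (mk g) = g.1
      change g.1 - Quotient.out (mk g) + Quotient.out (mk g) = g.1
      rw [sub_add_cancel]
    · change kappa f Y (kap g) + 0 = g.2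
      rw [_root_.add_zero]
      apply Subtype.ext
      rw [kappa_coe, hkap]
  · intro h q
    apply Subtype.ext
    change (delta f Y h + s q).1 - Quotient.out (mk (delta f Y h + s q)) = h.1
    rw [h2, delta_apply]
    change h.1 + Quotient.out q - Quotient.out q = h.1
    rw [add_sub_cancel_right]

end Delta

section Cover

variable (S : Scheme.{u})

/-- If `ℤ[N₁] → ℤ[N₂]` is faithfully flat, then `A(N₂)_S ×_S T ⟶ A(N₁)_S ×_S T` is flat, surjective and affine. -/
theorem flat_surjective_affine_of_faithfullyFlat {N₁ N₂ : Type} [AddCommMonoid N₁] [AddCommMonoid N₂]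
    (g : N₁ →+ N₂)
    (hff : ((MonoidAlgebra.mapDomainBialgHom (ULift.{u} ℤ)
      (AddMonoidHom.toMultiplicative g)).toAlgHom.toRingHom).FaithfullyFlat) (T : Over S) :
    Flat (AMonS.map S g ▷ T).left ∧ Surjective (AMonS.map S g ▷ T).left ∧
      IsAffineHom (AMonS.map S g ▷ T).left := by
  have Hp := DiagKer.isPullback_AMonS_map_whiskerRight S g T
  have hfs := (flat_and_surjective_SpecMap_iff (CommRingCat.ofHom ((MonoidAlgebra.mapDomainBialgHom (ULift.{u} ℤ)
      (AddMonoidHom.toMultiplicative g)).toAlgHom.toRingHom))).mpr hff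
  have h1 : Flat (AMon.map (ULift.{u} ℤ) g).left := hfs.1
  have h2 : Surjective (AMon.map (ULift.{u} ℤ) g).left := hfs.2
  have h3 : IsAffineHom (AMon.map (ULift.{u} ℤ) g).left :=
    (inferInstance : IsAffineHom (Spec.map (CommRingCat.ofHom ((MonoidAlgebra.mapDomainBialgHom (ULift.{u} ℤ)
      (AddMonoidHom.toMultiplicative g)).toAlgHom.toRingHom))))
  exact ⟨MorphismProperty.of_isPullback Hp.flip h1, MorphismProperty.of_isPullback Hp.flip h2,
    MorphismProperty.of_isPullback Hp.flip h3⟩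

variable {M Z : Type} [AddCommGroup M] [AddCommGroup Z] (f : M →+ Z) (Y : AddSubmonoid Z)
  (hY : Y ≤ AddMonoidHom.mrange f)

include hY in
theorem delta_faithfullyFlat (R : Type u) [CommRing R] [Nontrivial R] :
    ((MonoidAlgebra.mapDomainBialgHom R
      (AddMonoidHom.toMultiplicative (delta f Y))).toAlgHom.toRingHom).FaithfullyFlat := by
  obtain ⟨s, mk, kap, h1, h2, h3⟩ := delta_decomp f Y hY
  exact DiagFlat2.faithfullyFlat_of_decomp R (AddMonoidHom.toMultiplicative (delta f Y))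
    (fun q => Multiplicative.ofAdd (s q)) (fun g => mk (Multiplicative.toAdd g))
    (fun g => Multiplicative.ofAdd (kap (Multiplicative.toAdd g)))
    (fun g => congrArg Multiplicative.ofAdd (h1 (Multiplicative.toAdd g)))
    (fun h q => h2 (Multiplicative.toAdd h) q)
    (fun h q => congrArg Multiplicative.ofAdd (h3 (Multiplicative.toAdd h) q)) _
    (fun h r => MonoidAlgebra.mapDomainBialgHom_single _ _ _)

include hY in
theorem delta_flat_surjective_affine (T : Over S) :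
    Flat (AMonS.map S (delta f Y) ▷ T).left ∧ Surjective (AMonS.map S (delta f Y) ▷ T).left ∧
      IsAffineHom (AMonS.map S (delta f Y) ▷ T).left :=
  flat_surjective_affine_of_faithfullyFlat S (delta f Y) (delta_faithfullyFlat f Y hY (ULift.{u} ℤ)) T

include hY in
theorem delta_effectiveEpi_left (T : Over S) : EffectiveEpi (AMonS.map S (delta f Y) ▷ T).left := by
  obtain ⟨h1, h2, h3⟩ := delta_flat_surjective_affine S f Y hY T
  infer_instance

include hY in
theorem delta_epi (T : Over S) : Epi (AMonS.map S (delta f Y) ▷ T) := by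
  obtain ⟨h1, h2, h3⟩ := delta_flat_surjective_affine S f Y hY T
  have : Epi (AMonS.map S (delta f Y) ▷ T).left := Flat.epi_of_flat_of_surjective _
  exact (Over.forget S).epi_of_epi_map this

include hY in
theorem delta_epi_whiskerLeft (G T : Over S) : Epi (G ◁ (AMonS.map S (delta f Y) ▷ T)) :=
  DiagKer.epi_whiskerLeft_whiskerRight _ (fun T' => delta_epi S f Y hY T') G T

end Cover

section Mono

variable {N₁ N₂ : Type} [AddCommMonoid N₁] [AddCommMonoid N₂]

theorem mapDomain_surjective (R : Type u) [CommRing R] (g : N₁ →+ N₂) (hg : Function.Surjective g) :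
    Function.Surjective (MonoidAlgebra.mapDomainBialgHom R (AddMonoidHom.toMultiplicative g)).toAlgHom.toRingHom := by
  intro x
  induction x using MonoidAlgebra.induction_linear with
  | zero => exact ⟨0, map_zero _⟩
  | add x y hx hy =>
    obtain ⟨a, rfl⟩ := hx
    obtain ⟨b, rfl⟩ := hy
    exact ⟨a + b, map_add _ _ _⟩
  | single y r =>
    obtain ⟨n, hn⟩ := hg (Multiplicative.toAdd y)
    refine ⟨MonoidAlgebra.single (Multiplicative.ofAdd n) r, ?_⟩
    have := MonoidAlgebra.mapDomainBialgHom_single (R := R) (AddMonoidHom.toMultiplicative g)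
      (Multiplicative.ofAdd n) r
    refine this.trans ?_
    congr 1

/-- For a surjective `g : N₁ →+ N₂`, `A(N₂)_S ⟶ A(N₁)_S` is a monomorphism (a closed immersion). -/
theorem mono_AMonS_map_of_surjective (S : Scheme.{u}) (g : N₁ →+ N₂) (hg : Function.Surjective g) :
    Mono (AMonS.map S g) := by
  have h1 : IsClosedImmersion (AMon.map (ULift.{u} ℤ) g).left :=
    IsClosedImmersion.spec_of_surjective (CommRingCat.ofHom
      (MonoidAlgebra.mapDomainBialgHom (ULift.{u} ℤ) (AddMonoidHom.toMultiplicative g)).toAlgHom.toRingHom)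
      (mapDomain_surjective (ULift.{u} ℤ) g hg)
  have h2 : Mono (AMon.map (ULift.{u} ℤ) g).left := inferInstance
  have h3 : Mono (AMon.map (ULift.{u} ℤ) g) := Over.mono_of_mono_left _
  unfold AMonS.map
  infer_instance

end Mono

section Lift

/-- fpqc-local lifting of points along `D(Z')_S ⟶ D(M')_S` for an injective homomorphism `g : M' →+ Z'` of groups. -/
theorem exists_cover_lift (S : Scheme.{u}) {M' Z' : Type} [AddCommGroup M'] [AddCommGroup Z'] (g : M' →+ Z')
    (hg : Function.Injective g) {W : Over S} (h' : W ⟶ AMonS S M') :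
    ∃ (W' : Over S) (p : W' ⟶ W) (h'' : W' ⟶ AMonS S Z'), Epi p ∧ h'' ≫ AMonS.map S g = p ≫ h' := by
  obtain ⟨hfl, hsu, -⟩ := DiagKer.flat_surjective_affine_whiskerRight S g hg
    (fun n => ⟨-n, map_neg g n⟩) W
  obtain ⟨q, hq⟩ : ∃ q : AMonS S Z' ⊗ W ⟶ AMonS S M' ⊗ W, q = AMonS.map S g ▷ W := ⟨_, rfl⟩
  rw [← hq] at hfl hsu
  obtain ⟨σ, hσ⟩ : ∃ σ : W ⟶ AMonS S M' ⊗ W, σ = lift h' (𝟙 W) := ⟨_, rfl⟩
  have hσ1 : σ ≫ fst _ _ = h' := by rw [hσ, lift_fst]
  clear hσ
  have hpfl : Flat (pullback.fst σ.left q.left) := inferInstance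
  have hpsu : Surjective (pullback.fst σ.left q.left) := inferInstance
  have hpepi : Epi (pullback.fst σ.left q.left) := Flat.epi_of_flat_of_surjective _
  have hw : pullback.snd σ.left q.left ≫ (AMonS S Z' ⊗ W).hom = pullback.fst σ.left q.left ≫ W.hom := by
    rw [← Over.w q, ← Category.assoc, ← pullback.condition, Category.assoc, Over.w σ]
  obtain ⟨W', hW'⟩ : ∃ W' : Over S, W' = Over.mk (pullback.fst σ.left q.left ≫ W.hom) := ⟨_, rfl⟩
  subst hW'
  obtain ⟨p, hp⟩ : ∃ p : Over.mk (pullback.fst σ.left q.left ≫ W.hom) ⟶ W,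
      p.left = pullback.fst σ.left q.left := ⟨Over.homMk (pullback.fst σ.left q.left) rfl, rfl⟩
  obtain ⟨v, hv⟩ : ∃ v : Over.mk (pullback.fst σ.left q.left ≫ W.hom) ⟶ AMonS S Z' ⊗ W,
      v.left = pullback.snd σ.left q.left := ⟨Over.homMk (pullback.snd σ.left q.left) hw, rfl⟩
  have hvq : v ≫ q = p ≫ σ := by
    apply Over.OverMorphism.ext
    rw [Over.comp_left, Over.comp_left, hv, hp, pullback.condition]
  have hpepi' : Epi p := by
    have : Epi ((Over.forget S).map p) := by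
      change Epi p.left
      rw [hp]; exact hpepi
    exact (Over.forget S).epi_of_epi_map this
  refine ⟨_, p, v ≫ fst _ _, hpepi', ?_⟩
  rw [Category.assoc, ← whiskerRight_fst (AMonS.map S g) W, ← hq, ← Category.assoc, hvq, Category.assoc, hσ1]

end Lift

section Prod

variable (S : Scheme.{u}) {P₁ P₂ : Type} [AddCommMonoid P₁] [AddCommMonoid P₂]

theorem comp_AMonS_map_zero {W : Over S} (w : W ⟶ AMonS S P₂) :
    w ≫ AMonS.map S (0 : P₁ →+ P₂) = 1 := by
  rw [DiagKer.AMonS_map_zero, ← Category.assoc, toUnit_unique (w ≫ toUnit _) (toUnit W), Hom.one_def]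

/-- the point of `A(P₁ × P₂)_S` with components `g` and `y` -/
noncomputable def pairPt {W : Over S} (g : W ⟶ AMonS S P₁) (y : W ⟶ AMonS S P₂) : W ⟶ AMonS S (P₁ × P₂) :=
  (g ≫ AMonS.map S (AddMonoidHom.fst P₁ P₂)) * (y ≫ AMonS.map S (AddMonoidHom.snd P₁ P₂))

theorem pairPt_inl {W : Over S} (g : W ⟶ AMonS S P₁) (y : W ⟶ AMonS S P₂) :
    pairPt S g y ≫ AMonS.map S (AddMonoidHom.inl P₁ P₂) = g := by
  have e1 : (AddMonoidHom.fst P₁ P₂).comp (AddMonoidHom.inl P₁ P₂) = AddMonoidHom.id P₁ := by ext; rfl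
  have e2 : (AddMonoidHom.snd P₁ P₂).comp (AddMonoidHom.inl P₁ P₂) = 0 := by ext; rfl
  rw [pairPt, MonObj.mul_comp, Category.assoc, Category.assoc, ← AMonS.map_comp, ← AMonS.map_comp, e1, e2,
    Attr.AMonS_map_id, Category.comp_id, comp_AMonS_map_zero, _root_.mul_one]

theorem pairPt_inr {W : Over S} (g : W ⟶ AMonS S P₁) (y : W ⟶ AMonS S P₂) :
    pairPt S g y ≫ AMonS.map S (AddMonoidHom.inr P₁ P₂) = y := by
  have e1 : (AddMonoidHom.fst P₁ P₂).comp (AddMonoidHom.inr P₁ P₂) = 0 := by ext; rfl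
  have e2 : (AddMonoidHom.snd P₁ P₂).comp (AddMonoidHom.inr P₁ P₂) = AddMonoidHom.id P₂ := by ext; rfl
  rw [pairPt, MonObj.mul_comp, Category.assoc, Category.assoc, ← AMonS.map_comp, ← AMonS.map_comp, e1, e2,
    Attr.AMonS_map_id, Category.comp_id, comp_AMonS_map_zero, _root_.one_mul]

variable {M Z : Type} [AddCommGroup M] [AddCommGroup Z] (f : M →+ Z) (Y : AddSubmonoid Z)

theorem comp_map_delta {W : Over S} (w : W ⟶ AMonS S (M × ↥Y)) :
    w ≫ AMonS.map S (delta f Y) =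
      ((w ≫ AMonS.map S (AddMonoidHom.inl M ↥Y)) ≫ AMonS.map S (Y.comap f).subtype) *
        ((w ≫ AMonS.map S (AddMonoidHom.inr M ↥Y)) ≫ AMonS.map S (kappa f Y)) := by
  rw [delta, AMonS_map_add, MonObj.comp_mul, AMonS.map_comp, AMonS.map_comp, Category.assoc, Category.assoc]

theorem pairPt_comp_delta {W : Over S} (g : W ⟶ AMonS S M) (y : W ⟶ AMonS S ↥Y) :
    pairPt S g y ≫ AMonS.map S (delta f Y) =
      (g ≫ AMonS.map S (Y.comap f).subtype) * (y ≫ AMonS.map S (kappa f Y)) := by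
  rw [comp_map_delta, pairPt_inl, pairPt_inr]

end Prod

section Core

variable (S : Scheme.{u}) {M Z : Type} [AddCommGroup M] [AddCommGroup Z]

/-- points of a diagonalizable group scheme are invertible -/
theorem exists_inv {W : Over S} (m : W ⟶ AMonS S M) : ∃ n : W ⟶ AMonS S M, n * m = 1 ∧ m * n = 1 := by
  let _ : GrpObj (AMonS S M) := (inferInstance : GrpObj (Red.DS S M))
  exact ⟨m⁻¹, inv_mul_cancel m, mul_inv_cancel m⟩

variable (Y : AddSubmonoid Z) {X : Over S} (a' : MonAct (AMonS S M) X)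

/-- `(w, t) ↦ g_w • ψ(y_w, t)` on `A(M × Y)_S ×_S T`. -/
noncomputable def orbitMap {T : Over S} (ψ : AMonS S ↥Y ⊗ T ⟶ X) : AMonS S (M × ↥Y) ⊗ T ⟶ X :=
  lift (fst _ _ ≫ AMonS.map S (AddMonoidHom.inl M ↥Y))
    (lift (fst _ _ ≫ AMonS.map S (AddMonoidHom.inr M ↥Y)) (snd _ _) ≫ ψ) ≫ a'.act

theorem lift_orbitMap {T W : Over S} (ψ : AMonS S ↥Y ⊗ T ⟶ X) (w : W ⟶ AMonS S (M × ↥Y)) (t : W ⟶ T) :
    lift w t ≫ orbitMap S Y a' ψ =
      lift (w ≫ AMonS.map S (AddMonoidHom.inl M ↥Y))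
        (lift (w ≫ AMonS.map S (AddMonoidHom.inr M ↥Y)) t ≫ ψ) ≫ a'.act := by
  unfold orbitMap
  simp only [comp_lift_assoc, lift_fst_assoc, lift_snd]

variable (f : M →+ Z)

theorem map_f_subtype :
    AMonS.map S f ≫ AMonS.map S (Y.comap f).subtype = AMonS.map S Y.subtype ≫ AMonS.map S (kappa f Y) := by
  rw [← AMonS.map_comp, ← AMonS.map_comp]
  rfl

/-- the inclusion `ker f → f⁻¹Y` -/
def kerIncl : ↥f.ker.toAddSubmonoid →+ ↥(Y.comap f) where
  toFun k := ⟨k.1, by
    rw [AddSubmonoid.mem_comap, (AddMonoidHom.mem_ker).mp k.2]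
    exact Y.zero_mem⟩
  map_zero' := rfl
  map_add' _ _ := rfl

theorem subtype_kerIncl :
    AMonS.map S (Y.comap f).subtype ≫ AMonS.map S (kerIncl Y f) = AMonS.map S f.ker.toAddSubmonoid.subtype := by
  rw [← AMonS.map_comp]
  rfl

theorem kappa_kerIncl {W : Over S} (y : W ⟶ AMonS S ↥Y) :
    (y ≫ AMonS.map S (kappa f Y)) ≫ AMonS.map S (kerIncl Y f) = 1 := by
  have e : (kappa f Y).comp (kerIncl Y f) = 0 := by
    ext k
    exact (AddMonoidHom.mem_ker).mp k.2
  rw [Category.assoc, ← AMonS.map_comp, e, comp_AMonS_map_zero]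

/-- **Descent condition** for the orbit map of an `A(Z)`-equivariant `ψ` along `A(M × Y) ⟶ A(f⁻¹Y)`. -/
theorem orbitMap_descent (hY : Y ≤ AddMonoidHom.mrange f) {T : Over S}
    (ψ : (attr (a'.restrict (AMonS.map S f)) Y).obj (op T)) {W : Over S}
    (w₁ w₂ : W ⟶ AMonS S (M × ↥Y)) (t : W ⟶ T)
    (h : w₁ ≫ AMonS.map S (delta f Y) = w₂ ≫ AMonS.map S (delta f Y)) :
    lift w₁ t ≫ orbitMap S Y a' ψ.1 = lift w₂ t ≫ orbitMap S Y a' ψ.1 := by
  have hψ := ψ.2
  rw [MonAct.mem_eqvHom_iff] at hψ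
  rw [comp_map_delta S f Y w₁, comp_map_delta S f Y w₂] at h
  rw [lift_orbitMap S Y a' ψ.1 w₁ t, lift_orbitMap S Y a' ψ.1 w₂ t]
  obtain ⟨g₁, hg₁⟩ : ∃ g₁, g₁ = w₁ ≫ AMonS.map S (AddMonoidHom.inl M ↥Y) := ⟨_, rfl⟩
  obtain ⟨g₂, hg₂⟩ : ∃ g₂, g₂ = w₂ ≫ AMonS.map S (AddMonoidHom.inl M ↥Y) := ⟨_, rfl⟩
  obtain ⟨y₁, hy₁⟩ : ∃ y₁, y₁ = w₁ ≫ AMonS.map S (AddMonoidHom.inr M ↥Y) := ⟨_, rfl⟩
  obtain ⟨y₂, hy₂⟩ : ∃ y₂, y₂ = w₂ ≫ AMonS.map S (AddMonoidHom.inr M ↥Y) := ⟨_, rfl⟩
  rw [← hg₁, ← hg₂, ← hy₁, ← hy₂] at h ⊢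
  clear hg₁ hg₂ hy₁ hy₂ w₁ w₂
  obtain ⟨n, hn1, hn2⟩ := exists_inv S g₁
  obtain ⟨g, hg⟩ : ∃ g, g = n * g₂ := ⟨_, rfl⟩
  have hg₂' : g₂ = g₁ * g := by rw [hg, ← _root_.mul_assoc, hn2, _root_.one_mul]
  -- `κ*(y₁) = r_N(g) κ*(y₂)`
  have e1 : y₁ ≫ AMonS.map S (kappa f Y) =
      (g ≫ AMonS.map S (Y.comap f).subtype) * (y₂ ≫ AMonS.map S (kappa f Y)) := by
    have := congrArg (fun k => (n ≫ AMonS.map S (Y.comap f).subtype) * k) h
    simp only [← _root_.mul_assoc, ← MonObj.mul_comp, hn1, MonObj.one_comp, _root_.one_mul] at this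
    rw [this, hg]
  -- `g` is trivial on `ker f`
  have e2 : g ≫ AMonS.map S f.ker.toAddSubmonoid.subtype = toUnit W ≫ η[AMonS S ↥f.ker.toAddSubmonoid] := by
    have hk : ∀ y : W ⟶ AMonS S ↥Y, y ≫ AMonS.map S (kappa f Y) ≫ AMonS.map S (kerIncl Y f) = 1 :=
      fun y => by rw [← Category.assoc]; exact kappa_kerIncl S Y f y
    have := congrArg (fun k => k ≫ AMonS.map S (kerIncl Y f)) e1
    simp only [MonObj.mul_comp, Category.assoc, hk, subtype_kerIncl, _root_.mul_one] at this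
    rw [← this, Hom.one_def]
  obtain ⟨h', hh'⟩ := DiagKer.exists_lift_of_comp_eq_one f.ker S g e2
  obtain ⟨W', p, h'', hp, hh''⟩ := exists_cover_lift S (QuotientAddGroup.kerLift f)
    (QuotientAddGroup.kerLift_injective f) h'
  have hf : AMonS.map S f = AMonS.map S (QuotientAddGroup.kerLift f) ≫ AMonS.map S (QuotientAddGroup.mk' f.ker) := by
    rw [← AMonS.map_comp]
    congr 1
  have hpg : p ≫ g = h'' ≫ AMonS.map S f := by
    rw [hf, ← Category.assoc, hh'', Category.assoc, hh']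
  have hκsurj : Function.Surjective (kappa f Y) := by
    intro y
    obtain ⟨m, hm⟩ := hY y.2
    exact ⟨⟨m, by rw [AddSubmonoid.mem_comap, hm]; exact y.2⟩, Subtype.ext hm⟩
  have hmono := mono_AMonS_map_of_surjective S (kappa f Y) hκsurj
  -- `y₁ = r_Y(h'') y₂` on the cover
  have e3 : p ≫ y₁ = (h'' ≫ AMonS.map S Y.subtype) * (p ≫ y₂) := by
    rw [← cancel_mono (AMonS.map S (kappa f Y)), Category.assoc, e1, MonObj.comp_mul, MonObj.mul_comp,
      ← Category.assoc, hpg, Category.assoc, map_f_subtype, Category.assoc, Category.assoc]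
  have h4 := hψ W' h'' (p ≫ y₂) (p ≫ t)
  unfold subAct at h4
  rw [MonAct.lift_restrict_act, MonAct.lift_regular_act, MonAct.lift_restrict_act, ← e3, ← hpg] at h4
  rw [← cancel_epi p, comp_lift_assoc, comp_lift_assoc, comp_lift_assoc, comp_lift_assoc, h4,
    ← a'.lift_mul_act, ← MonObj.comp_mul, ← hg₂']

end Core

end Groth.Agent.Lib.Seat89.Comap
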