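import Groth.Agent.Lib.Seat89OpenImm

/-!
# Coordinates of points of diagonalizable monoid schemes (helper89)

For a point `m : T ⟶ A(P)_S` and `p : P`, `coord m p ∈ Γ(T, ⊤)` is the value of the character `χ^p` at `m`.

* `coord_ext`: points are determined by their coordinates.
* `coord_comp`, `coord_map`, `coord_add`, `coord_zero`, `coord_one`, `coord_mul`, `coord_pow`.
* `coord_faceMap`, `coord_ept`: coordinates of the face points.
-/

set_option autoImplicit false
universe u
open CategoryTheory CategoryTheory.Limits MonoidalCategory CartesianMonoidalCategory MonObj AlgebraicGeometry Opposite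
open Magnet

namespace Groth.Agent.Lib.Seat89.Coord

variable {S : Scheme.{u}} {P Q : Type} [AddCommMonoid P] [AddCommMonoid Q]

/-- the projection `A(P)_S ⟶ Spec ℤ[P]` -/
noncomputable abbrev prZ (S : Scheme.{u}) (P : Type) [AddCommMonoid P] :
    (AMonS S P).left ⟶ Spec (CommRingCat.of (MonoidAlgebra (ULift.{u} ℤ) (Multiplicative P))) :=
  pullback.fst (AMon (ULift.{u} ℤ) P).hom (Limits.IsTerminal.from specULiftZIsTerminal S)

/-- the ring map `ℤ[P] → Γ(T, ⊤)` of a point -/
noncomputable def ringMap {T : Over S} (m : T ⟶ AMonS S P) :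
    MonoidAlgebra (ULift.{u} ℤ) (Multiplicative P) →+* Γ(T.left, ⊤) :=
  ((Scheme.ΓSpecIso (CommRingCat.of (MonoidAlgebra (ULift.{u} ℤ) (Multiplicative P)))).inv ≫
    (m.left ≫ prZ S P).appTop).hom

/-- the value of the character `χ^p` at the point `m` -/
noncomputable def coord {T : Over S} (m : T ⟶ AMonS S P) (p : P) : Γ(T.left, ⊤) :=
  ringMap m (MonoidAlgebra.single (Multiplicative.ofAdd p) 1)

theorem coord_zero {T : Over S} (m : T ⟶ AMonS S P) : coord m 0 = 1 := by
  unfold coord
  exact map_one (ringMap m)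

theorem coord_add {T : Over S} (m : T ⟶ AMonS S P) (p p' : P) : coord m (p + p') = coord m p * coord m p' := by
  unfold coord
  rw [← map_mul, MonoidAlgebra.single_mul_single, _root_.mul_one]
  rfl

theorem coord_nsmul {T : Over S} (m : T ⟶ AMonS S P) (n : ℕ) (p : P) : coord m (n • p) = coord m p ^ n := by
  induction n with
  | zero => rw [zero_nsmul, coord_zero, pow_zero]
  | succ n ih => rw [succ_nsmul, coord_add, ih, pow_succ]

theorem ringMap_comp {T T' : Over S} (c : T' ⟶ T) (m : T ⟶ AMonS S P) :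
    ringMap (c ≫ m) = c.left.appTop.hom.comp (ringMap m) := by
  unfold ringMap
  rw [Over.comp_left, Category.assoc, Scheme.Hom.comp_appTop, ← Category.assoc]
  rfl

theorem coord_comp {T T' : Over S} (c : T' ⟶ T) (m : T ⟶ AMonS S P) (p : P) :
    coord (c ≫ m) p = c.left.appTop.hom (coord m p) := by
  unfold coord
  rw [ringMap_comp]
  rfl

theorem ringMap_map {T : Over S} (m : T ⟶ AMonS S Q) (f : P →+ Q) :
    ringMap (m ≫ AMonS.map S f) = (ringMap m).comp
      (MonoidAlgebra.mapDomainBialgHom (ULift.{u} ℤ) (AddMonoidHom.toMultiplicative f)).toAlgHom.toRingHom := by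
  have e : (AMonS.map S f).left ≫ prZ S P = prZ S Q ≫ (AMon.map (ULift.{u} ℤ) f).left :=
    DiagKer.AMonS_map_left_fst S f
  obtain ⟨φ, hφ⟩ : ∃ φ : CommRingCat.of (MonoidAlgebra (ULift.{u} ℤ) (Multiplicative P)) ⟶
      CommRingCat.of (MonoidAlgebra (ULift.{u} ℤ) (Multiplicative Q)),
      φ = CommRingCat.ofHom (MonoidAlgebra.mapDomainBialgHom (ULift.{u} ℤ)
        (AddMonoidHom.toMultiplicative f)).toAlgHom.toRingHom := ⟨_, rfl⟩
  have e' : (m ≫ AMonS.map S f).left ≫ prZ S P = (m.left ≫ prZ S Q) ≫ Spec.map φ := by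
    rw [Over.comp_left, Category.assoc, e, Category.assoc, hφ]
    rfl
  have key : (Scheme.ΓSpecIso (CommRingCat.of (MonoidAlgebra (ULift.{u} ℤ) (Multiplicative P)))).inv ≫
      ((m ≫ AMonS.map S f).left ≫ prZ S P).appTop =
      φ ≫ (Scheme.ΓSpecIso (CommRingCat.of (MonoidAlgebra (ULift.{u} ℤ) (Multiplicative Q)))).inv ≫
        (m.left ≫ prZ S Q).appTop := by
    rw [e', Scheme.Hom.comp_appTop, ← Category.assoc, ← Scheme.ΓSpecIso_inv_naturality, Category.assoc]
  unfold ringMap
  rw [key, hφ]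
  rfl

theorem coord_map {T : Over S} (m : T ⟶ AMonS S Q) (f : P →+ Q) (p : P) :
    coord (m ≫ AMonS.map S f) p = coord m (f p) := by
  unfold coord
  rw [ringMap_map]
  change ringMap m ((MonoidAlgebra.mapDomainBialgHom (ULift.{u} ℤ) (AddMonoidHom.toMultiplicative f))
    (MonoidAlgebra.single (Multiplicative.ofAdd p) 1)) = _
  rw [MonoidAlgebra.mapDomainBialgHom_single]
  rfl

theorem ringMap_ext {T : Over S} {m m' : T ⟶ AMonS S P} (h : ringMap m = ringMap m') : m = m' := by
  apply Over.OverMorphism.ext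
  have : IsAffine (AMon (ULift.{u} ℤ) P).left :=
    (inferInstance : IsAffine (Spec (CommRingCat.of (MonoidAlgebra (ULift.{u} ℤ) (Multiplicative P)))))
  apply pullback.hom_ext
  · apply ext_of_isAffine
    have h' : (Scheme.ΓSpecIso (CommRingCat.of (MonoidAlgebra (ULift.{u} ℤ) (Multiplicative P)))).inv ≫
        (m.left ≫ prZ S P).appTop =
        (Scheme.ΓSpecIso (CommRingCat.of (MonoidAlgebra (ULift.{u} ℤ) (Multiplicative P)))).inv ≫
        (m'.left ≫ prZ S P).appTop := CommRingCat.hom_ext h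
    exact (cancel_epi _).1 h'
  · exact (Over.w m).trans (Over.w m').symm

theorem coord_ext {T : Over S} {m m' : T ⟶ AMonS S P} (h : ∀ p, coord m p = coord m' p) : m = m' := by
  apply ringMap_ext
  apply MonoidAlgebra.ringHom_ext
  · intro r
    have hr : ∀ φ : MonoidAlgebra (ULift.{u} ℤ) (Multiplicative P) →+* Γ(T.left, ⊤),
        φ (MonoidAlgebra.single 1 r) = ((r.down : ℤ) : Γ(T.left, ⊤)) := by
      intro φ
      have : (MonoidAlgebra.single (1 : Multiplicative P) r : MonoidAlgebra (ULift.{u} ℤ) (Multiplicative P)) =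
          ((r.down : ℤ) : MonoidAlgebra (ULift.{u} ℤ) (Multiplicative P)) := by
        have h1 : (MonoidAlgebra.single (1 : Multiplicative P) r :
            MonoidAlgebra (ULift.{u} ℤ) (Multiplicative P)) = algebraMap (ULift.{u} ℤ) _ r := rfl
        rw [h1]
        have h2 : r = ((r.down : ℤ) : ULift.{u} ℤ) := by
          apply ULift.ext; simp
        conv_lhs => rw [h2]
        rw [map_intCast]
      rw [this, map_intCast]
    rw [hr, hr]
  · intro x
    exact h (Multiplicative.toAdd x)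

theorem coord_one {T : Over S} (p : P) : coord (1 : T ⟶ AMonS S P) p = 1 := by
  have h : (1 : T ⟶ AMonS S P) = (1 : T ⟶ AMonS S P) ≫ AMonS.map S (0 : P →+ P) :=
    (Comap.comp_AMonS_map_zero S (1 : T ⟶ AMonS S P)).symm
  rw [h, coord_map]
  exact coord_zero _

theorem coord_mul {T : Over S} (m m' : T ⟶ AMonS S P) (p : P) : coord (m * m') p = coord m p * coord m' p := by
  have h : m * m' = Comap.pairPt S m m' ≫ AMonS.map S (AddMonoidHom.inl P P + AddMonoidHom.inr P P) := by
    rw [Comap.AMonS_map_add, MonObj.comp_mul, Comap.pairPt_inl, Comap.pairPt_inr]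
  rw [h, coord_map]
  change coord (Comap.pairPt S m m') (AddMonoidHom.inl P P p + AddMonoidHom.inr P P p) = _
  rw [coord_add, ← coord_map, ← coord_map, Comap.pairPt_inl, Comap.pairPt_inr]

theorem coord_pow {T : Over S} (m : T ⟶ AMonS S P) (n : ℕ) (p : P) : coord (m ^ n) p = coord m p ^ n := by
  induction n with
  | zero => rw [pow_zero, pow_zero, coord_one]
  | succ n ih => rw [pow_succ, pow_succ, coord_mul, ih]

section Face

variable {M : Type} [AddCommMonoid M] {N F : AddSubmonoid M}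

theorem AMonS_faceMap_left_fst (S : Scheme.{u}) (hF : IsFace N F) :
    (AMonS.faceMap S hF).left ≫ prZ S ↥N = prZ S ↥F ≫ (AMon.faceMap (ULift.{u} ℤ) hF).left := by
  simp only [AMonS.faceMap, Over.pullback_map_left]
  exact pullback.lift_fst _ _ _

theorem ringMap_faceMap {T : Over S} (hF : IsFace N F) (w : T ⟶ AMonS S ↥F) :
    ringMap (w ≫ AMonS.faceMap S hF) = (ringMap w).comp (faceAlgHom (ULift.{u} ℤ) hF).toRingHom := by
  have e := AMonS_faceMap_left_fst S hF
  obtain ⟨φ, hφ⟩ : ∃ φ : CommRingCat.of (MonoidAlgebra (ULift.{u} ℤ) (Multiplicative ↥N)) ⟶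
      CommRingCat.of (MonoidAlgebra (ULift.{u} ℤ) (Multiplicative ↥F)),
      φ = CommRingCat.ofHom (faceAlgHom (ULift.{u} ℤ) hF).toRingHom := ⟨_, rfl⟩
  have e' : (w ≫ AMonS.faceMap S hF).left ≫ prZ S ↥N = (w.left ≫ prZ S ↥F) ≫ Spec.map φ := by
    rw [Over.comp_left, Category.assoc, e, Category.assoc, hφ]
    rfl
  have key : (Scheme.ΓSpecIso (CommRingCat.of (MonoidAlgebra (ULift.{u} ℤ) (Multiplicative ↥N)))).inv ≫
      ((w ≫ AMonS.faceMap S hF).left ≫ prZ S ↥N).appTop =
      φ ≫ (Scheme.ΓSpecIso (CommRingCat.of (MonoidAlgebra (ULift.{u} ℤ) (Multiplicative ↥F)))).inv ≫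
        (w.left ≫ prZ S ↥F).appTop := by
    rw [e', Scheme.Hom.comp_appTop, ← Category.assoc, ← Scheme.ΓSpecIso_inv_naturality, Category.assoc]
  unfold ringMap
  rw [key, hφ]
  rfl

theorem coord_faceMap_of_mem {T : Over S} (hF : IsFace N F) (w : T ⟶ AMonS S ↥F) (n : ↥N) (h : (n : M) ∈ F) :
    coord (w ≫ AMonS.faceMap S hF) n = coord w ⟨n, h⟩ := by
  unfold coord
  rw [ringMap_faceMap]
  change ringMap w (faceAlgHom (ULift.{u} ℤ) hF (MonoidAlgebra.single (Multiplicative.ofAdd n) 1)) = _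
  rw [faceAlgHom_single_of_mem _ hF n h]

theorem coord_faceMap_of_not_mem {T : Over S} (hF : IsFace N F) (w : T ⟶ AMonS S ↥F) (n : ↥N) (h : (n : M) ∉ F) :
    coord (w ≫ AMonS.faceMap S hF) n = 0 := by
  unfold coord
  rw [ringMap_faceMap]
  change ringMap w (faceAlgHom (ULift.{u} ℤ) hF (MonoidAlgebra.single (Multiplicative.ofAdd n) 1)) = _
  rw [faceAlgHom_single_of_not_mem _ hF n h, map_zero]

theorem coord_ept_of_mem (hF : IsFace N F) (T : Over S) (n : ↥N) (h : (n : M) ∈ F) :
    coord (OpenImm.ept S hF T) n = 1 := by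
  unfold OpenImm.ept
  rw [coord_faceMap_of_mem hF _ n h, coord_one]

theorem coord_ept_of_not_mem (hF : IsFace N F) (T : Over S) (n : ↥N) (h : (n : M) ∉ F) :
    coord (OpenImm.ept S hF T) n = 0 := by
  unfold OpenImm.ept
  rw [coord_faceMap_of_not_mem hF _ n h]

end Face

end Groth.Agent.Lib.Seat89.Coord
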