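import Groth.Agent.Lib.Seat89CharPt

/-!
# Deformation of an attractor onto the attractor of a face (helper89)

For `h : N →+ ℕ` and a function `c` on `T`, `tpt h T c : T ⟶ A(N)_S` is the point with coordinates `c ^ h n`, and
`mulPt h T c` is multiplication by it on `A(N)_S ×_S T`; it is equivariant, so `delta` acts on attractors.
-/

set_option autoImplicit false
universe u
open CategoryTheory CategoryTheory.Limits MonoidalCategory CartesianMonoidalCategory MonObj AlgebraicGeometry Opposite
open Magnet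

namespace Groth.Agent.Lib.Seat89.Deform

open Coord CharPt

variable {S : Scheme.{u}} {M : Type} [AddCommMonoid M] {N : AddSubmonoid M} (h : ↥N →+ ℕ)

/-- the character `n ↦ c ^ h n` -/
def powChar {R : Type*} [CommRing R] (c : R) : Multiplicative ↥N →* R where
  toFun n := c ^ h (Multiplicative.toAdd n)
  map_one' := by simp
  map_mul' x y := by simp [pow_add]

/-- the point of `A(N)` with coordinates `c ^ h n` -/
noncomputable def tpt (T : Over S) (c : Γ(T.left, ⊤)) : T ⟶ AMonS S ↥N :=
  (exists_point_of_char (S := S) (powChar h c)).choose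

theorem coord_tpt (T : Over S) (c : Γ(T.left, ⊤)) (n : ↥N) : coord (tpt h T c) n = c ^ h n :=
  (exists_point_of_char (S := S) (powChar h c)).choose_spec n

theorem comp_tpt {T T' : Over S} (t : T' ⟶ T) (c : Γ(T.left, ⊤)) :
    t ≫ tpt h T c = tpt h T' (t.left.appTop.hom c) := by
  apply coord_ext
  intro n
  rw [coord_comp, coord_tpt, coord_tpt, map_pow]

theorem tpt_one (T : Over S) : tpt h T 1 = 1 := by
  apply coord_ext
  intro n
  rw [coord_tpt, coord_one, one_pow]

/-- multiplication by `tpt` -/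
noncomputable def mulPt (T : Over S) (c : Γ(T.left, ⊤)) : AMonS S ↥N ⊗ T ⟶ AMonS S ↥N ⊗ T :=
  lift (fst (AMonS S ↥N) T * (snd (AMonS S ↥N) T ≫ tpt h T c)) (snd (AMonS S ↥N) T)

theorem lift_mulPt (T : Over S) (c : Γ(T.left, ⊤)) {W : Over S} (n : W ⟶ AMonS S ↥N) (t : W ⟶ T) :
    lift n t ≫ mulPt h T c = lift (n * (t ≫ tpt h T c)) t := by
  unfold mulPt
  rw [comp_lift, MonObj.comp_mul, lift_fst, lift_snd_assoc, lift_snd]

theorem isEquivariant_mulPt (T : Over S) (c : Γ(T.left, ⊤)) :
    MonAct.IsEquivariant ((subAct S M N).prod (MonAct.trivial (AMonS S M) T))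
      ((subAct S M N).prod (MonAct.trivial (AMonS S M) T)) (mulPt h T c) := by
  rw [MonAct.isEquivariant_iff]
  intro W g z
  rw [← lift_comp_fst_snd z, MonAct.lift_prod_act_assoc, MonAct.lift_trivial_act, lift_mulPt h T c, lift_mulPt h T c,
    MonAct.lift_prod_act, MonAct.lift_trivial_act]
  unfold subAct
  rw [MonAct.lift_restrict_act, MonAct.lift_regular_act, MonAct.lift_restrict_act, MonAct.lift_regular_act,
    _root_.mul_assoc]

variable {X : Over S} (a : MonAct (AMonS S M) X)

/-- the deformation -/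
noncomputable def delta (T : Over S) (x : (attr a N).obj (op T)) (c : Γ(T.left, ⊤)) : (attr a N).obj (op T) :=
  ⟨mulPt h T c ≫ x.1, (isEquivariant_mulPt h T c).comp x.2⟩

theorem delta_coe (T : Over S) (x : (attr a N).obj (op T)) (c : Γ(T.left, ⊤)) :
    (delta h a T x c).1 = mulPt h T c ≫ x.1 := rfl

theorem mulPt_whiskerLeft {T T' : Over S} (t : T' ⟶ T) (c : Γ(T.left, ⊤)) :
    mulPt h T' (t.left.appTop.hom c) ≫ (AMonS S ↥N ◁ t) = (AMonS S ↥N ◁ t) ≫ mulPt h T c := by
  apply hom_ext_lift₂
  intro W n w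
  rw [← Category.assoc, lift_mulPt h T' _, ← comp_tpt h t c, lift_whiskerLeft, lift_whiskerLeft_assoc,
    lift_mulPt h T c, Category.assoc]

theorem delta_natural {T T' : Over S} (t : T' ⟶ T) (x : (attr a N).obj (op T)) (c : Γ(T.left, ⊤)) :
    delta h a T' ((attr a N).map t.op x) (t.left.appTop.hom c) = (attr a N).map t.op (delta h a T x c) := by
  apply Subtype.ext
  change mulPt h T' (t.left.appTop.hom c) ≫ (AMonS S ↥N ◁ t) ≫ x.1 = (AMonS S ↥N ◁ t) ≫ mulPt h T c ≫ x.1
  rw [← Category.assoc, mulPt_whiskerLeft, Category.assoc]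

theorem delta_one (T : Over S) (x : (attr a N).obj (op T)) : delta h a T x 1 = x := by
  apply Subtype.ext
  change mulPt h T 1 ≫ x.1 = x.1
  have : mulPt h T 1 = 𝟙 _ := by
    apply hom_ext_lift₂
    intro W n w
    rw [lift_mulPt h T 1, tpt_one, Category.comp_id, MonObj.comp_one, _root_.mul_one]
  rw [this, Category.id_comp]

variable {F : AddSubmonoid M} (hF : IsFace N F) (hh : ∀ n : ↥N, h n = 0 ↔ (n : M) ∈ F)

include hh in
theorem mulPt_zero (T : Over S) :
    mulPt h T 0 = (AMonS.map S (AddSubmonoid.inclusion hF.le) ▷ T) ≫ (AMonS.faceMap S hF ▷ T) := by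
  apply hom_ext_lift₂
  intro W n w
  rw [lift_mulPt h T 0, lift_whiskerRight_assoc, lift_whiskerRight]
  congr 1
  apply coord_ext
  intro n'
  rw [coord_mul, coord_comp, coord_tpt]
  by_cases hn' : (n' : M) ∈ F
  · rw [coord_faceMap_of_mem hF _ n' hn', coord_map, (hh n').2 hn', pow_zero, map_one, _root_.mul_one]
    rfl
  · have h0 : h n' ≠ 0 := fun h0 => hn' ((hh n').1 h0)
    rw [coord_faceMap_of_not_mem hF _ n' hn', zero_pow h0, map_zero, mul_zero]

include hh in
theorem delta_zero (T : Over S) (x : (attr a N).obj (op T)) :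
    delta h a T x 0 = (attrMap a hF.le).app (op T) ((attrFace a hF).app (op T) x) := by
  apply Subtype.ext
  change mulPt h T 0 ≫ x.1 =
    (AMonS.map S (AddSubmonoid.inclusion hF.le) ▷ T) ≫ (AMonS.faceMap S hF ▷ T) ≫ x.1
  rw [mulPt_zero h hF hh T, Category.assoc]

include hh in
theorem mulPt_whiskerRight (T : Over S) (c : Γ(T.left, ⊤)) :
    mulPt h T c ≫ (AMonS.map S (AddSubmonoid.inclusion hF.le) ▷ T) =
      (AMonS.map S (AddSubmonoid.inclusion hF.le) ▷ T) := by
  apply hom_ext_lift₂
  intro W n w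
  rw [← Category.assoc, lift_mulPt h T c, lift_whiskerRight, lift_whiskerRight]
  congr 1
  apply coord_ext
  intro f
  rw [coord_map, coord_map, coord_mul, coord_comp, coord_tpt,
    (hh (AddSubmonoid.inclusion hF.le f)).2 f.2, pow_zero, map_one, _root_.mul_one]

include hh in
theorem delta_face (T : Over S) (y : (attr a F).obj (op T)) (c : Γ(T.left, ⊤)) :
    delta h a T ((attrMap a hF.le).app (op T) y) c = (attrMap a hF.le).app (op T) y := by
  apply Subtype.ext
  change mulPt h T c ≫ (AMonS.map S (AddSubmonoid.inclusion hF.le) ▷ T) ≫ y.1 =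
    (AMonS.map S (AddSubmonoid.inclusion hF.le) ▷ T) ≫ y.1
  rw [← Category.assoc, mulPt_whiskerRight h hF hh T c]

end Groth.Agent.Lib.Seat89.Deform
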