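import Groth.Prelude.Def_Magnet3
import Mathlib.AlgebraicGeometry.Morphisms.SchemeTheoreticallyDominant
import Mathlib.AlgebraicGeometry.Morphisms.Separated
import Mathlib.AlgebraicGeometry.Morphisms.Affine
import Mathlib.AlgebraicGeometry.Morphisms.Flat
import Mathlib.Algebra.Category.Ring.Constructions
import Mathlib.Algebra.MonoidAlgebra.MapDomain
import Mathlib.RingTheory.Bialgebra.MonoidAlgebra

/-!
# Schematic density of `A(N')_S ×_S T ⟶ A(N)_S ×_S T` (helper89)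

For an injective homomorphism of commutative monoids `f : N →+ N'`, the morphism of diagonalizable monoid
schemes `A(N')_S ⟶ A(N)_S` stays scheme-theoretically dominant after the base change `- ×_S T` for every
`S`-scheme `T` (the inclusion of monoid algebras `ℤ[N] → ℤ[N']` is a split injection of `ℤ`-modules).
-/

set_option autoImplicit false
universe u
open CategoryTheory CategoryTheory.Limits MonoidalCategory CartesianMonoidalCategory AlgebraicGeometry Opposite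
open scoped TensorProduct

namespace Groth.Agent.Lib.Seat89.Density

/-- Algebra: two pushouts of commutative rings along the same `b : R₀ ⟶ R`; a comparison map `γ` over a map
`θ : C₁ ⟶ C₂` which has an `R₀`-linear retraction is injective. -/
theorem injective_of_isPushout_of_retraction {R₀ R C₁ C₂ G₁ G₂ : CommRingCat.{u}}
    {a₁ : R₀ ⟶ C₁} {a₂ : R₀ ⟶ C₂} {b : R₀ ⟶ R} {c₁ : C₁ ⟶ G₁} {d₁ : R ⟶ G₁} {c₂ : C₂ ⟶ G₂}
    {d₂ : R ⟶ G₂} (h₁ : IsPushout a₁ b c₁ d₁) (h₂ : IsPushout a₂ b c₂ d₂) (θ : C₁ ⟶ C₂)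
    (hθ : a₁ ≫ θ = a₂) (γ : G₁ ⟶ G₂) (hγc : c₁ ≫ γ = θ ≫ c₂) (hγd : d₁ ≫ γ = d₂)
    (ρ : C₂ →+ C₁) (hρlin : ∀ (r : R₀) (x : C₂), ρ (a₂.hom r * x) = a₁.hom r * ρ x)
    (hρθ : ∀ x, ρ (θ.hom x) = x) :
    Function.Injective γ.hom := by
  let alg₁ : Algebra R₀ C₁ := a₁.hom.toAlgebra
  let alg₂ : Algebra R₀ C₂ := a₂.hom.toAlgebra
  let algR : Algebra R₀ R := b.hom.toAlgebra
  have t₁ := CommRingCat.isPushout_tensorProduct R₀ C₁ R
  have t₂ := CommRingCat.isPushout_tensorProduct R₀ C₂ R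
  let e₁ := t₁.isoIsPushout _ _ h₁
  let e₂ := t₂.isoIsPushout _ _ h₂
  let θ' : C₁ →ₐ[R₀] C₂ :=
    { θ.hom with
      commutes' := fun r => by
        have := congrArg (fun φ => φ.hom r) hθ
        exact this }
  let m : C₁ ⊗[R₀] R →ₐ[R₀] C₂ ⊗[R₀] R := Algebra.TensorProduct.map θ' (AlgHom.id R₀ R)
  let ρ' : C₂ →ₗ[R₀] C₁ :=
    { toFun := ρ
      map_add' := ρ.map_add
      map_smul' := fun r x => by
        simp only [RingHom.id_apply, Algebra.smul_def]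
        exact hρlin r x }
  have hm_inj : Function.Injective m := by
    have hleft : ∀ x, (LinearMap.rTensor R ρ') (m x) = x := by
      intro x
      induction x using TensorProduct.induction_on with
      | zero => simp
      | tmul c r =>
        change (LinearMap.rTensor R ρ') (θ'.toFun c ⊗ₜ[R₀] r) = c ⊗ₜ[R₀] r
        rw [LinearMap.rTensor_tmul]
        congr 1
        exact hρθ c
      | add x y hx hy => rw [map_add, map_add, hx, hy]
    exact Function.LeftInverse.injective hleft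
  have hcomm : e₁.hom ≫ γ = CommRingCat.ofHom m.toRingHom ≫ e₂.hom := by
    apply t₁.hom_ext
    · rw [← Category.assoc, t₁.inl_isoIsPushout_hom _ _ h₁, hγc]
      have h3 : CommRingCat.ofHom (S := C₁ ⊗[R₀] R) Algebra.TensorProduct.includeLeftRingHom ≫
          CommRingCat.ofHom m.toRingHom =
          θ ≫ CommRingCat.ofHom (S := C₂ ⊗[R₀] R) Algebra.TensorProduct.includeLeftRingHom := by
        ext x
        change m (x ⊗ₜ[R₀] 1) = (θ.hom x) ⊗ₜ[R₀] 1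
        simp [m, θ']
      rw [← Category.assoc, h3, Category.assoc, t₂.inl_isoIsPushout_hom _ _ h₂]
    · rw [← Category.assoc, t₁.inr_isoIsPushout_hom _ _ h₁, hγd]
      have h3 : CommRingCat.ofHom (S := C₁ ⊗[R₀] R) Algebra.TensorProduct.includeRight.toRingHom ≫
          CommRingCat.ofHom m.toRingHom =
          CommRingCat.ofHom (S := C₂ ⊗[R₀] R) Algebra.TensorProduct.includeRight.toRingHom := by
        ext x
        change m (1 ⊗ₜ[R₀] x) = 1 ⊗ₜ[R₀] x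
        simp [m]
      rw [← Category.assoc, h3, t₂.inr_isoIsPushout_hom _ _ h₂]
  have hγ : γ = e₁.inv ≫ CommRingCat.ofHom m.toRingHom ≫ e₂.hom := by
    rw [← hcomm, Iso.inv_hom_id_assoc]
  rw [hγ]
  simp only [CommRingCat.hom_comp, RingHom.coe_comp]
  refine Function.Injective.comp (Function.Injective.comp ?_ ?_) ?_
  · exact (ConcreteCategory.bijective_of_isIso e₂.hom).1
  · exact hm_inj
  · exact (ConcreteCategory.bijective_of_isIso e₁.inv).1

/-- Transport of an additive retraction through the isomorphisms `Γ(Spec C, ⊤) ≅ C`. -/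
noncomputable def conjRetraction {C₁ C₂ : CommRingCat.{u}} (ρ : C₂ →+ C₁) : Γ(Spec C₂, ⊤) →+ Γ(Spec C₁, ⊤) :=
  ((Scheme.ΓSpecIso C₁).inv.hom : C₁ →+ Γ(Spec C₁, ⊤)).comp
    (ρ.comp ((Scheme.ΓSpecIso C₂).hom.hom : Γ(Spec C₂, ⊤) →+ C₂))

theorem conjRetraction_apply {C₁ C₂ : CommRingCat.{u}} (ρ : C₂ →+ C₁) (x : Γ(Spec C₂, ⊤)) :
    conjRetraction ρ x = (Scheme.ΓSpecIso C₁).inv.hom (ρ ((Scheme.ΓSpecIso C₂).hom.hom x)) := rfl

theorem appLE_top_top {X Y : Scheme.{u}} (f : X ⟶ Y) (h : (⊤ : X.Opens) ≤ f ⁻¹ᵁ ⊤) :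
    f.appLE ⊤ ⊤ h = f.appTop := by
  simp [Scheme.Hom.appLE, Scheme.Hom.appTop]

theorem ΓSpecIso_hom_appTop_apply {R S : CommRingCat.{u}} (f : R ⟶ S) (x : Γ(Spec R, ⊤)) :
    (Scheme.ΓSpecIso S).hom.hom ((Spec.map f).appTop.hom x) = f.hom ((Scheme.ΓSpecIso R).hom.hom x) :=
  congrArg (fun φ => φ.hom x) (Scheme.ΓSpecIso_naturality f)

theorem ΓSpecIso_inv_apply_hom {R S : CommRingCat.{u}} (f : R ⟶ S) (x : R) :
    (Scheme.ΓSpecIso S).inv.hom (f.hom x) = (Spec.map f).appTop.hom ((Scheme.ΓSpecIso R).inv.hom x) :=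
  congrArg (fun φ => φ.hom x) (Scheme.ΓSpecIso_inv_naturality f)

theorem ΓSpecIso_inv_hom_apply (R : CommRingCat.{u}) (x : Γ(Spec R, ⊤)) :
    (Scheme.ΓSpecIso R).inv.hom ((Scheme.ΓSpecIso R).hom.hom x) = x :=
  congrArg (fun φ => φ.hom x) (Scheme.ΓSpecIso R).hom_inv_id

/-- Scheme version: `P₁ = Spec C₁ ×_{Spec R₀} T₀`, `P₂ = Spec C₂ ×_{Spec R₀} T₀`, and `p : P₂ ⟶ P₁` induced by
`θ : C₁ ⟶ C₂` which has an `R₀`-linear retraction.  Then `p` is scheme-theoretically dominant. -/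
theorem ker_eq_bot_of_isPullback_of_retraction {R₀ C₁ C₂ : CommRingCat.{u}} (a₁ : R₀ ⟶ C₁) (a₂ : R₀ ⟶ C₂)
    (θ : C₁ ⟶ C₂) (hθ : a₁ ≫ θ = a₂) (ρ : C₂ →+ C₁)
    (hρlin : ∀ (r : R₀) (x : C₂), ρ (a₂.hom r * x) = a₁.hom r * ρ x) (hρθ : ∀ x, ρ (θ.hom x) = x)
    {T₀ P₁ P₂ : Scheme.{u}} (τ : T₀ ⟶ Spec R₀)
    {fst₁ : P₁ ⟶ Spec C₁} {snd₁ : P₁ ⟶ T₀} (H₁ : IsPullback fst₁ snd₁ (Spec.map a₁) τ)
    {fst₂ : P₂ ⟶ Spec C₂} {snd₂ : P₂ ⟶ T₀} (H₂ : IsPullback fst₂ snd₂ (Spec.map a₂) τ)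
    (p : P₂ ⟶ P₁) (hp₁ : p ≫ fst₁ = fst₂ ≫ Spec.map θ) (hp₂ : p ≫ snd₁ = snd₂) :
    IsAffineHom p ∧ p.ker = ⊥ := by
  -- `p` is a base change of `Spec.map θ`, hence affine
  have Hp : IsPullback p fst₂ fst₁ (Spec.map θ) := by
    refine IsPullback.of_right (h₁₂ := snd₁) (v₁₃ := τ) (h₂₂ := Spec.map a₁) ?_ hp₁ H₁.flip
    rw [hp₂, ← Spec.map_comp, hθ]
    exact H₂.flip
  have hpaff : IsAffineHom p := MorphismProperty.of_isPullback Hp.flip inferInstance
  refine ⟨hpaff, ?_⟩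
  have hsnd₁ : IsAffineHom snd₁ := MorphismProperty.of_isPullback H₁ inferInstance
  -- the affine cover of `P₁` by preimages of affine opens of `T₀`
  let U : T₀.affineOpens → P₁.affineOpens := fun V => ⟨snd₁ ⁻¹ᵁ V.1, V.2.preimage snd₁⟩
  have hU : ⨆ V, (U V).1 = ⊤ := by
    change ⨆ V : T₀.affineOpens, snd₁ ⁻¹ᵁ V.1 = ⊤
    rw [← Scheme.Hom.preimage_iSup, iSup_affineOpens_eq_top, Scheme.Hom.preimage_top]
  refine Scheme.IdealSheafData.ext_of_iSup_eq_top U hU fun V => ?_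
  rw [Scheme.Hom.ker_apply, Scheme.IdealSheafData.ideal_bot, Pi.bot_apply,
    ← RingHom.injective_iff_ker_eq_bot]
  change Function.Injective (p.app (snd₁ ⁻¹ᵁ V.1)).hom
  have hUST : V.1 ≤ τ ⁻¹ᵁ ⊤ := le_top
  have hUSX₁ : (⊤ : (Spec C₁).Opens) ≤ (Spec.map a₁) ⁻¹ᵁ ⊤ := le_top
  have hUSX₂ : (⊤ : (Spec C₂).Opens) ≤ (Spec.map a₂) ⁻¹ᵁ ⊤ := le_top
  have hUY₁ : snd₁ ⁻¹ᵁ V.1 = fst₁ ⁻¹ᵁ ⊤ ⊓ snd₁ ⁻¹ᵁ V.1 := by simp
  have hUY₂ : p ⁻¹ᵁ (snd₁ ⁻¹ᵁ V.1) = fst₂ ⁻¹ᵁ ⊤ ⊓ snd₂ ⁻¹ᵁ V.1 := by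
    rw [← hp₂]; simp
  have iso₁ := isIso_pushoutSection_of_isAffineOpen H₁ hUST hUSX₁ hUY₁ (isAffineOpen_top _) V.2
    (isAffineOpen_top _)
  have po₁ := (isIso_pushoutSection_iff H₁ hUST hUSX₁ hUY₁).mp iso₁
  have iso₂ := isIso_pushoutSection_of_isAffineOpen H₂ hUST hUSX₂ hUY₂ (isAffineOpen_top _) V.2
    (isAffineOpen_top _)
  have po₂ := (isIso_pushoutSection_iff H₂ hUST hUSX₂ hUY₂).mp iso₂
  have hθ' : (Spec.map a₁).appLE ⊤ ⊤ hUSX₁ ≫ (Spec.map θ).appLE ⊤ ⊤ le_top =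
      (Spec.map a₂).appLE ⊤ ⊤ hUSX₂ := by
    rw [Scheme.Hom.appLE_comp_appLE]
    have : Spec.map θ ≫ Spec.map a₁ = Spec.map a₂ := by rw [← Spec.map_comp, hθ]
    simp only [this]
  have hγc : fst₁.appLE ⊤ (snd₁ ⁻¹ᵁ V.1) le_top ≫ p.app (snd₁ ⁻¹ᵁ V.1) =
      (Spec.map θ).appLE ⊤ ⊤ le_top ≫ fst₂.appLE ⊤ (p ⁻¹ᵁ (snd₁ ⁻¹ᵁ V.1)) le_top := by
    rw [Scheme.Hom.app_eq_appLE, Scheme.Hom.appLE_comp_appLE, Scheme.Hom.appLE_comp_appLE]
    simp only [hp₁]
  have hγd : snd₁.appLE V.1 (snd₁ ⁻¹ᵁ V.1) le_rfl ≫ p.app (snd₁ ⁻¹ᵁ V.1) =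
      snd₂.appLE V.1 (p ⁻¹ᵁ (snd₁ ⁻¹ᵁ V.1)) (by rw [← hp₂]; exact le_rfl) := by
    rw [Scheme.Hom.app_eq_appLE, Scheme.Hom.appLE_comp_appLE]
    simp only [hp₂]
  refine injective_of_isPushout_of_retraction po₁ po₂ ((Spec.map θ).appLE ⊤ ⊤ le_top) hθ'
    (p.app (snd₁ ⁻¹ᵁ V.1)) hγc hγd (conjRetraction ρ) ?_ ?_
  · intro r x
    rw [appLE_top_top, appLE_top_top, conjRetraction_apply, conjRetraction_apply, map_mul,
      ΓSpecIso_hom_appTop_apply, hρlin, map_mul, ΓSpecIso_inv_apply_hom, ΓSpecIso_inv_hom_apply]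
  · intro x
    rw [appLE_top_top, conjRetraction_apply, ΓSpecIso_hom_appTop_apply, hρθ, ΓSpecIso_inv_hom_apply]

section MonoidAlgebra

variable (R : Type u) [CommRing R] {G₁ G₂ : Type} [CommMonoid G₁] [CommMonoid G₂]

theorem comapDomain_algebraMap_mul (g : G₁ →* G₂) (hg : Function.Injective g) (r : R)
    (x : MonoidAlgebra R G₂) :
    MonoidAlgebra.comapDomain g hg (algebraMap R (MonoidAlgebra R G₂) r * x) =
      algebraMap R (MonoidAlgebra R G₁) r * MonoidAlgebra.comapDomain g hg x := by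
  rw [← Algebra.smul_def, ← Algebra.smul_def]
  ext m
  simp

theorem comapDomain_mapDomain (g : G₁ →* G₂) (hg : Function.Injective g) (x : MonoidAlgebra R G₁) :
    MonoidAlgebra.comapDomain g hg (MonoidAlgebra.mapDomainBialgHom R g x) = x := by
  induction x using MonoidAlgebra.induction_linear with
  | zero => simp
  | add x y hx hy => rw [map_add, MonoidAlgebra.comapDomain_add, hx, hy]
  | single m r => rw [MonoidAlgebra.mapDomainBialgHom_single, MonoidAlgebra.comapDomain_single_map]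

end MonoidAlgebra

section Magnet

open Magnet

variable (S : Scheme.{u}) {N₁ N₂ : Type} [AddCommMonoid N₁] [AddCommMonoid N₂]

/-- The structure square exhibiting `(A(N)_S ⊗ T).left` as `Spec ℤ[N] ×_{Spec ℤ} T`. -/
theorem isPullback_AMonS_tensor (N : Type) [AddCommMonoid N] (T : Over S) :
    IsPullback
      (pullback.fst (AMonS S N).hom T.hom ≫
        pullback.fst (AMon (ULift.{u} ℤ) N).hom (Limits.IsTerminal.from specULiftZIsTerminal S))
      (pullback.snd (AMonS S N).hom T.hom)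
      (AMon (ULift.{u} ℤ) N).hom
      (T.hom ≫ Limits.IsTerminal.from specULiftZIsTerminal S) := by
  have h1 : IsPullback (pullback.fst (AMonS S N).hom T.hom) (pullback.snd (AMonS S N).hom T.hom)
      (AMonS S N).hom T.hom := IsPullback.of_hasPullback _ _
  have h2 : IsPullback
      (pullback.fst (AMon (ULift.{u} ℤ) N).hom (Limits.IsTerminal.from specULiftZIsTerminal S))
      (AMonS S N).hom (AMon (ULift.{u} ℤ) N).hom (Limits.IsTerminal.from specULiftZIsTerminal S) :=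
    IsPullback.of_hasPullback _ _
  exact h1.paste_horiz h2

/-- **Schematic density.**  For an injective `f : N₁ →+ N₂` and every `S`-scheme `T`, the morphism
`A(N₂)_S ×_S T ⟶ A(N₁)_S ×_S T` is affine and scheme-theoretically dominant. -/
theorem AMonS_map_whiskerRight_dominant (f : N₁ →+ N₂) (hf : Function.Injective f) (T : Over S) :
    IsAffineHom (AMonS.map S f ▷ T).left ∧ (AMonS.map S f ▷ T).left.ker = ⊥ := by
  have hg : Function.Injective (AddMonoidHom.toMultiplicative f) := hf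
  refine ker_eq_bot_of_isPullback_of_retraction
    (R₀ := CommRingCat.of (ULift.{u} ℤ))
    (C₁ := CommRingCat.of (MonoidAlgebra (ULift.{u} ℤ) (Multiplicative N₁)))
    (C₂ := CommRingCat.of (MonoidAlgebra (ULift.{u} ℤ) (Multiplicative N₂)))
    (CommRingCat.ofHom (algebraMap _ _)) (CommRingCat.ofHom (algebraMap _ _))
    (CommRingCat.ofHom (MonoidAlgebra.mapDomainBialgHom (ULift.{u} ℤ)
      (AddMonoidHom.toMultiplicative f)).toAlgHom.toRingHom)
    ?_ (MonoidAlgebra.comapDomainAddMonoidHom (AddMonoidHom.toMultiplicative f) hg) ?_ ?_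
    (T.hom ≫ Limits.IsTerminal.from specULiftZIsTerminal S)
    (isPullback_AMonS_tensor S N₁ T) (isPullback_AMonS_tensor S N₂ T)
    (AMonS.map S f ▷ T).left ?_ ?_
  · ext r
    simp
  · intro r x
    exact comapDomain_algebraMap_mul (ULift.{u} ℤ) (AddMonoidHom.toMultiplicative f) hg r x
  · intro x
    exact comapDomain_mapDomain (ULift.{u} ℤ) (AddMonoidHom.toMultiplicative f) hg x
  · have hp₁ : (AMonS.map S f ▷ T).left ≫ pullback.fst (AMonS S N₁).hom T.hom ≫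
        pullback.fst (AMon (ULift.{u} ℤ) N₁).hom (Limits.IsTerminal.from specULiftZIsTerminal S) =
        (pullback.fst (AMonS S N₂).hom T.hom ≫
          pullback.fst (AMon (ULift.{u} ℤ) N₂).hom (Limits.IsTerminal.from specULiftZIsTerminal S)) ≫
          (AMon.map (ULift.{u} ℤ) f).left := by
      rw [Over.whiskerRight_left_fst_assoc, Category.assoc]
      congr 1
      simp only [AMonS.map, Over.pullback_map_left, pullback.lift_fst]
    exact hp₁
  · exact Over.whiskerRight_left_snd _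

end Magnet

end Groth.Agent.Lib.Seat89.Density
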