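import Groth.Agent.Lib.Seat89Attr
import Groth.Agent.Lib.Seat89DiagFlat
import Mathlib.AlgebraicGeometry.Sites.Fpqc
import Mathlib.AlgebraicGeometry.Group.Affine

/-!
# The morphism `D(M)_S ⟶ D(Z)_S` for a subgroup `Z ≤ M` (helper89)

* `AMonS_map_zero`: the zero homomorphism induces the trivial morphism `toUnit ≫ η`.
* `flat_surjective_affine_whiskerRight`: for an injective `f : N₁ →+ N₂` into a group with range closed under negation,
  `A(N₂)_S ×_S T ⟶ A(N₁)_S ×_S T` is flat, surjective and affine (hence an effective epimorphism of schemes).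
* `exists_lift_of_comp_eq_one`: exactness of `1 → D(M/Z) → D(M) → D(Z)` on points.
-/

set_option autoImplicit false
universe u
open CategoryTheory CategoryTheory.Limits MonoidalCategory CartesianMonoidalCategory MonObj AlgebraicGeometry Opposite

namespace Groth.Agent.Lib.Seat89.DiagKer

open Magnet

section Zero

variable (R : Type u) [CommRing R] {N M : Type} [AddCommMonoid N] [AddCommMonoid M]

theorem mapDomain_zero_eq :
    (MonoidAlgebra.mapDomainBialgHom R (AddMonoidHom.toMultiplicative (0 : N →+ M))).toAlgHom.toRingHom =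
      (algebraMap R (MonoidAlgebra R (Multiplicative M))).comp
        (Bialgebra.counitAlgHom R (MonoidAlgebra R (Multiplicative N))).toRingHom := by
  apply MonoidAlgebra.ringHom_ext
  · intro r
    simp
  · intro m
    simp

theorem AMon_map_zero : AMon.map R (0 : N →+ M) = toUnit (AMon R M) ≫ η[AMon R N] := by
  ext : 1
  rw [AMon.map_left, mapDomain_zero_eq, Over.comp_left, Over.toUnit_left]
  have h1 : (η[AMon R N]).left = Spec.map (CommRingCat.ofHom
      (Bialgebra.counitAlgHom R (MonoidAlgebra R (Multiplicative N))).toRingHom) :=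
    AlgebraicGeometry.one_spec_asOver_spec_left (R := CommRingCat.of R)
      (A := CommRingCat.of (MonoidAlgebra R (Multiplicative N)))
  have h2 : (AMon R M).hom = Spec.map (CommRingCat.ofHom (algebraMap R (MonoidAlgebra R (Multiplicative M)))) := rfl
  have key : Spec.map (CommRingCat.ofHom
        ((algebraMap R (MonoidAlgebra R (Multiplicative M))).comp
          (Bialgebra.counitAlgHom R (MonoidAlgebra R (Multiplicative N))).toRingHom)) =
      Spec.map (CommRingCat.ofHom (algebraMap R (MonoidAlgebra R (Multiplicative M)))) ≫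
        Spec.map (CommRingCat.ofHom
          (Bialgebra.counitAlgHom R (MonoidAlgebra R (Multiplicative N))).toRingHom) := by
    rw [← Spec.map_comp]
    rfl
  rw [h1, h2]
  exact key

theorem AMonS_map_zero (S : Scheme.{u}) :
    AMonS.map S (0 : N →+ M) = toUnit (AMonS S M) ≫ η[AMonS S N] := by
  have h1 : η[AMonS S N] = Functor.LaxMonoidal.ε (Over.pullback (Limits.IsTerminal.from specULiftZIsTerminal S)) ≫
      (Over.pullback (Limits.IsTerminal.from specULiftZIsTerminal S)).map η[AMon (ULift.{u} ℤ) N] := rfl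
  rw [AMonS.map, AMon_map_zero, Functor.map_comp, h1, ← Category.assoc]
  congr 1
  exact (Functor.Monoidal.toUnit_ε _ _).symm

end Zero

section BaseChange

/-- `P₁ = Spec C₁ ×_{Spec R₀} T₀`, `P₂ = Spec C₂ ×_{Spec R₀} T₀`: the comparison `p : P₂ ⟶ P₁` over `θ : C₁ ⟶ C₂` is a
base change of `Spec.map θ`. -/
theorem isPullback_of_isPullback_Spec {R₀ C₁ C₂ : CommRingCat.{u}} (a₁ : R₀ ⟶ C₁) (a₂ : R₀ ⟶ C₂)
    (θ : C₁ ⟶ C₂) (hθ : a₁ ≫ θ = a₂) {T₀ P₁ P₂ : Scheme.{u}} (τ : T₀ ⟶ Spec R₀)
    {fst₁ : P₁ ⟶ Spec C₁} {snd₁ : P₁ ⟶ T₀} (H₁ : IsPullback fst₁ snd₁ (Spec.map a₁) τ)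
    {fst₂ : P₂ ⟶ Spec C₂} {snd₂ : P₂ ⟶ T₀} (H₂ : IsPullback fst₂ snd₂ (Spec.map a₂) τ)
    (p : P₂ ⟶ P₁) (hp₁ : p ≫ fst₁ = fst₂ ≫ Spec.map θ) (hp₂ : p ≫ snd₁ = snd₂) :
    IsPullback p fst₂ fst₁ (Spec.map θ) := by
  refine IsPullback.of_right (h₁₂ := snd₁) (v₁₃ := τ) (h₂₂ := Spec.map a₁) ?_ hp₁ H₁.flip
  rw [hp₂, ← Spec.map_comp, hθ]
  exact H₂.flip

variable (S : Scheme.{u}) {N₁ N₂ : Type} [AddCommMonoid N₁] [AddCommMonoid N₂]

/-- `A(N₂)_S ×_S T ⟶ A(N₁)_S ×_S T` is a base change of `Spec ℤ[N₂] ⟶ Spec ℤ[N₁]`. -/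
theorem isPullback_AMonS_map_whiskerRight (f : N₁ →+ N₂) (T : Over S) :
    IsPullback (AMonS.map S f ▷ T).left
      (pullback.fst (AMonS S N₂).hom T.hom ≫
        pullback.fst (AMon (ULift.{u} ℤ) N₂).hom (Limits.IsTerminal.from specULiftZIsTerminal S))
      (pullback.fst (AMonS S N₁).hom T.hom ≫
        pullback.fst (AMon (ULift.{u} ℤ) N₁).hom (Limits.IsTerminal.from specULiftZIsTerminal S))
      (AMon.map (ULift.{u} ℤ) f).left := by
  refine isPullback_of_isPullback_Spec
    (R₀ := CommRingCat.of (ULift.{u} ℤ))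
    (C₁ := CommRingCat.of (MonoidAlgebra (ULift.{u} ℤ) (Multiplicative N₁)))
    (C₂ := CommRingCat.of (MonoidAlgebra (ULift.{u} ℤ) (Multiplicative N₂)))
    (CommRingCat.ofHom (algebraMap _ _)) (CommRingCat.ofHom (algebraMap _ _))
    (CommRingCat.ofHom (MonoidAlgebra.mapDomainBialgHom (ULift.{u} ℤ)
      (AddMonoidHom.toMultiplicative f)).toAlgHom.toRingHom)
    ?_ (T.hom ≫ Limits.IsTerminal.from specULiftZIsTerminal S)
    (Density.isPullback_AMonS_tensor S N₁ T) (Density.isPullback_AMonS_tensor S N₂ T)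
    (AMonS.map S f ▷ T).left ?_ ?_
  · ext r
    simp
  · have hp₁ : (AMonS.map S f ▷ T).left ≫ pullback.fst (AMonS S N₁).hom T.hom ≫
        pullback.fst (AMon (ULift.{u} ℤ) N₁).hom (Limits.IsTerminal.from specULiftZIsTerminal S) =
        (pullback.fst (AMonS S N₂).hom T.hom ≫
          pullback.fst (AMon (ULift.{u} ℤ) N₂).hom (Limits.IsTerminal.from specULiftZIsTerminal S)) ≫
          (AMon.map (ULift.{u} ℤ) f).left := by
      rw [Over.whiskerRight_left_fst_assoc, Category.assoc]
      congr 1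
      simp only [AMonS.map, Over.pullback_map_left, pullback.lift_fst]
    exact hp₁
  · exact Over.whiskerRight_left_snd _

/-- For an injective homomorphism `f : N₁ →+ G₂` into a commutative group whose range is closed under negation,
`A(G₂)_S ×_S T ⟶ A(N₁)_S ×_S T` is flat, surjective and affine. -/
theorem flat_surjective_affine_whiskerRight {G₂ : Type} [AddCommGroup G₂] (f : N₁ →+ G₂)
    (hf : Function.Injective f) (hneg : ∀ n : N₁, ∃ n' : N₁, f n' = - f n) (T : Over S) :
    Flat (AMonS.map S f ▷ T).left ∧ Surjective (AMonS.map S f ▷ T).left ∧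
      IsAffineHom (AMonS.map S f ▷ T).left := by
  have Hp := isPullback_AMonS_map_whiskerRight S f T
  have hι : Function.Injective (AddMonoidHom.toMultiplicative f) := hf
  have hinv : ∀ h : Multiplicative N₁, ∃ h' : Multiplicative N₁,
      AddMonoidHom.toMultiplicative f h' = (AddMonoidHom.toMultiplicative f h)⁻¹ := by
    intro h
    obtain ⟨n', hn'⟩ := hneg (Multiplicative.toAdd h)
    exact ⟨Multiplicative.ofAdd n', congrArg Multiplicative.ofAdd hn'⟩
  have hff : ((MonoidAlgebra.mapDomainBialgHom (ULift.{u} ℤ)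
      (AddMonoidHom.toMultiplicative f)).toAlgHom.toRingHom).FaithfullyFlat :=
    DiagFlat.faithfullyFlat_of_injective (ULift.{u} ℤ) (AddMonoidHom.toMultiplicative f) hι hinv _
      (fun h r => MonoidAlgebra.mapDomainBialgHom_single _ _ _)
  have hfs := (flat_and_surjective_SpecMap_iff (CommRingCat.ofHom ((MonoidAlgebra.mapDomainBialgHom (ULift.{u} ℤ)
      (AddMonoidHom.toMultiplicative f)).toAlgHom.toRingHom))).mpr hff
  have h1 : Flat (AMon.map (ULift.{u} ℤ) f).left := hfs.1
  have h2 : Surjective (AMon.map (ULift.{u} ℤ) f).left := hfs.2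
  have h3 : IsAffineHom (AMon.map (ULift.{u} ℤ) f).left :=
    (inferInstance : IsAffineHom (Spec.map (CommRingCat.ofHom ((MonoidAlgebra.mapDomainBialgHom (ULift.{u} ℤ)
      (AddMonoidHom.toMultiplicative f)).toAlgHom.toRingHom))))
  exact ⟨MorphismProperty.of_isPullback Hp.flip h1, MorphismProperty.of_isPullback Hp.flip h2,
    MorphismProperty.of_isPullback Hp.flip h3⟩

end BaseChange

section Kernel

variable (R : Type u) [CommRing R] {M : Type} [AddCommGroup M] (Z : AddSubgroup M)

/-- Ring-level universal property: a ring map out of `R[M]` which is trivial on `Z` factors uniquely through `R[M/Z]`. -/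
theorem exists_desc_quotient {B : Type u} [CommRing B] (α : MonoidAlgebra R (Multiplicative M) →+* B) (β : R →+* B)
    (h : α.comp (MonoidAlgebra.mapDomainBialgHom R
        (AddMonoidHom.toMultiplicative Z.toAddSubmonoid.subtype)).toAlgHom.toRingHom =
      β.comp (Bialgebra.counitAlgHom R (MonoidAlgebra R (Multiplicative ↥Z.toAddSubmonoid))).toRingHom) :
    ∃ γ : MonoidAlgebra R (Multiplicative (M ⧸ Z)) →+* B,
      γ.comp (MonoidAlgebra.mapDomainBialgHom R
        (AddMonoidHom.toMultiplicative (QuotientAddGroup.mk' Z))).toAlgHom.toRingHom = α ∧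
      γ.comp (algebraMap R (MonoidAlgebra R (Multiplicative (M ⧸ Z)))) = β ∧
      ∀ γ' : MonoidAlgebra R (Multiplicative (M ⧸ Z)) →+* B,
        γ'.comp (MonoidAlgebra.mapDomainBialgHom R
          (AddMonoidHom.toMultiplicative (QuotientAddGroup.mk' Z))).toAlgHom.toRingHom = α →
        γ'.comp (algebraMap R (MonoidAlgebra R (Multiplicative (M ⧸ Z)))) = β → γ' = γ := by
  have hα1 : ∀ r : R, α (MonoidAlgebra.single 1 r) = β r := by
    intro r
    have := congrArg (fun φ => φ (MonoidAlgebra.single 1 r)) h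
    simpa using this
  let χ₀ : Multiplicative M →* B := (α : MonoidAlgebra R (Multiplicative M) →* B).comp
    (MonoidAlgebra.of R (Multiplicative M))
  have hχ₀ : ∀ m, χ₀ m = α (MonoidAlgebra.single m 1) := fun m => rfl
  let χ : M →+ Additive B := MonoidHom.toAdditiveRight χ₀
  have hχZ : Z ≤ χ.ker := by
    intro z hz
    rw [AddMonoidHom.mem_ker]
    change Additive.ofMul (α (MonoidAlgebra.single (Multiplicative.ofAdd z) 1)) = 0
    have := congrArg (fun φ => φ (MonoidAlgebra.single
      (Multiplicative.ofAdd (⟨z, hz⟩ : ↥Z.toAddSubmonoid)) 1)) h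
    simp only [RingHom.comp_apply] at this
    have h2 : (MonoidAlgebra.mapDomainBialgHom R
        (AddMonoidHom.toMultiplicative Z.toAddSubmonoid.subtype)).toAlgHom.toRingHom
        (MonoidAlgebra.single (Multiplicative.ofAdd (⟨z, hz⟩ : ↥Z.toAddSubmonoid)) 1) =
        MonoidAlgebra.single (Multiplicative.ofAdd z) 1 :=
      MonoidAlgebra.mapDomainBialgHom_single _ _ _
    rw [h2] at this
    rw [this]
    simp
  let χq : M ⧸ Z →+ Additive B := QuotientAddGroup.lift Z χ hχZ
  let χ' : Multiplicative (M ⧸ Z) →* B := AddMonoidHom.toMultiplicativeLeft χq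
  have hχ' : ∀ m : M, χ' (Multiplicative.ofAdd (QuotientAddGroup.mk m)) =
      α (MonoidAlgebra.single (Multiplicative.ofAdd m) 1) := fun m => rfl
  let γ : MonoidAlgebra R (Multiplicative (M ⧸ Z)) →+* B :=
    MonoidAlgebra.liftNCRingHom β χ' (fun _ _ => Commute.all _ _)
  have hγq : γ.comp (MonoidAlgebra.mapDomainBialgHom R
        (AddMonoidHom.toMultiplicative (QuotientAddGroup.mk' Z))).toAlgHom.toRingHom = α := by
    apply MonoidAlgebra.ringHom_ext
    · intro r
      rw [hα1]
      simp [γ]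
    · intro m
      have h2 : (MonoidAlgebra.mapDomainBialgHom R
        (AddMonoidHom.toMultiplicative (QuotientAddGroup.mk' Z))).toAlgHom.toRingHom
        (MonoidAlgebra.single m 1) =
        MonoidAlgebra.single (Multiplicative.ofAdd (QuotientAddGroup.mk (Multiplicative.toAdd m) : M ⧸ Z)) 1 :=
        MonoidAlgebra.mapDomainBialgHom_single _ _ _
      rw [RingHom.comp_apply, h2]
      simp only [γ, MonoidAlgebra.liftNCRingHom_single, map_one, _root_.one_mul]
      exact hχ' (Multiplicative.toAdd m)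
  refine ⟨γ, hγq, ?_, ?_⟩
  · ext r
    simp [γ, MonoidAlgebra.coe_algebraMap]
  · intro γ' h1 h2
    apply MonoidAlgebra.ringHom_ext
    · intro r
      have := congrArg (fun φ => φ r) h2
      simp only [RingHom.comp_apply, MonoidAlgebra.coe_algebraMap, Function.comp_apply,
        Algebra.algebraMap_self, RingHom.id_apply] at this
      rw [this]
      simp [γ]
    · intro q
      obtain ⟨m, hm⟩ := QuotientAddGroup.mk_surjective (Multiplicative.toAdd q)
      have hq : q = Multiplicative.ofAdd (QuotientAddGroup.mk m : M ⧸ Z) := by rw [hm]; rfl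
      subst hq
      have e1 := congrArg (fun φ => φ (MonoidAlgebra.single (Multiplicative.ofAdd m) 1)) h1
      have e2 := congrArg (fun φ => φ (MonoidAlgebra.single (Multiplicative.ofAdd m) 1)) hγq
      have h3 : (MonoidAlgebra.mapDomainBialgHom R
        (AddMonoidHom.toMultiplicative (QuotientAddGroup.mk' Z))).toAlgHom.toRingHom
        (MonoidAlgebra.single (Multiplicative.ofAdd m) 1) =
        MonoidAlgebra.single (Multiplicative.ofAdd (QuotientAddGroup.mk m : M ⧸ Z)) 1 :=
        MonoidAlgebra.mapDomainBialgHom_single _ _ _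
      simp only [RingHom.comp_apply, h3] at e1 e2
      rw [e1, e2]

/-- `R[M/Z] = R[M] ⊗_{R[Z]} R`. -/
theorem isPushout_quotient :
    IsPushout
      (CommRingCat.ofHom (MonoidAlgebra.mapDomainBialgHom R
        (AddMonoidHom.toMultiplicative Z.toAddSubmonoid.subtype)).toAlgHom.toRingHom)
      (CommRingCat.ofHom
        (Bialgebra.counitAlgHom R (MonoidAlgebra R (Multiplicative ↥Z.toAddSubmonoid))).toRingHom)
      (CommRingCat.ofHom (MonoidAlgebra.mapDomainBialgHom R
        (AddMonoidHom.toMultiplicative (QuotientAddGroup.mk' Z))).toAlgHom.toRingHom)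
      (CommRingCat.ofHom (algebraMap R (MonoidAlgebra R (Multiplicative (M ⧸ Z))))) := by
  have hsq : CommRingCat.ofHom (MonoidAlgebra.mapDomainBialgHom R
        (AddMonoidHom.toMultiplicative Z.toAddSubmonoid.subtype)).toAlgHom.toRingHom ≫
      CommRingCat.ofHom (MonoidAlgebra.mapDomainBialgHom R
        (AddMonoidHom.toMultiplicative (QuotientAddGroup.mk' Z))).toAlgHom.toRingHom =
      CommRingCat.ofHom
        (Bialgebra.counitAlgHom R (MonoidAlgebra R (Multiplicative ↥Z.toAddSubmonoid))).toRingHom ≫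
      CommRingCat.ofHom (algebraMap R (MonoidAlgebra R (Multiplicative (M ⧸ Z)))) := by
    rw [← CommRingCat.ofHom_comp, ← CommRingCat.ofHom_comp]
    congr 1
    apply MonoidAlgebra.ringHom_ext
    · intro r
      simp
    · intro m
      have hm : (QuotientAddGroup.mk (Multiplicative.toAdd m).1 : M ⧸ Z) = 0 :=
        (QuotientAddGroup.eq_zero_iff _).mpr (Multiplicative.toAdd m).2
      simp [hm]
  refine ⟨⟨hsq⟩, ⟨PushoutCocone.isColimitAux' _ fun s => ?_⟩⟩
  have hcond : s.inl.hom.comp (MonoidAlgebra.mapDomainBialgHom R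
        (AddMonoidHom.toMultiplicative Z.toAddSubmonoid.subtype)).toAlgHom.toRingHom =
      s.inr.hom.comp (Bialgebra.counitAlgHom R (MonoidAlgebra R (Multiplicative ↥Z.toAddSubmonoid))).toRingHom := by
    have := congrArg CommRingCat.Hom.hom s.condition
    exact this
  have hex := exists_desc_quotient R Z s.inl.hom s.inr.hom hcond
  refine ⟨CommRingCat.ofHom (Classical.choose hex), ?_, ?_, ?_⟩
  · ext1
    exact (Classical.choose_spec hex).1
  · ext1
    exact (Classical.choose_spec hex).2.1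
  · intro m h1 h2
    ext1
    exact (Classical.choose_spec hex).2.2 m.hom (congrArg CommRingCat.Hom.hom h1)
      (congrArg CommRingCat.Hom.hom h2)

theorem AMonS_map_left_fst (S : Scheme.{u}) {N₁ N₂ : Type} [AddCommMonoid N₁] [AddCommMonoid N₂] (f : N₁ →+ N₂) :
    (AMonS.map S f).left ≫
      pullback.fst (AMon (ULift.{u} ℤ) N₁).hom (Limits.IsTerminal.from specULiftZIsTerminal S) =
    pullback.fst (AMon (ULift.{u} ℤ) N₂).hom (Limits.IsTerminal.from specULiftZIsTerminal S) ≫
      (AMon.map (ULift.{u} ℤ) f).left := by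
  simp only [AMonS.map, Over.pullback_map_left, pullback.lift_fst]

theorem AMonS_map_left_snd (S : Scheme.{u}) {N₁ N₂ : Type} [AddCommMonoid N₁] [AddCommMonoid N₂] (f : N₁ →+ N₂) :
    (AMonS.map S f).left ≫
      pullback.snd (AMon (ULift.{u} ℤ) N₁).hom (Limits.IsTerminal.from specULiftZIsTerminal S) =
    pullback.snd (AMon (ULift.{u} ℤ) N₂).hom (Limits.IsTerminal.from specULiftZIsTerminal S) := by
  simp only [AMonS.map, Over.pullback_map_left, pullback.lift_snd]

/-- Exactness of `1 → D(M/Z)_S → D(M)_S → D(Z)_S` on points: a point of `D(M)_S` whose restriction to `Z` is trivial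
comes from a point of `D(M/Z)_S`. -/
theorem exists_lift_of_comp_eq_one (S : Scheme.{u}) {W : Over S} (h : W ⟶ AMonS S M)
    (hh : h ≫ AMonS.map S Z.toAddSubmonoid.subtype = toUnit W ≫ η[AMonS S ↥Z.toAddSubmonoid]) :
    ∃ h' : W ⟶ AMonS S (M ⧸ Z), h' ≫ AMonS.map S (QuotientAddGroup.mk' Z) = h := by
  have hh' : h ≫ AMonS.map S Z.toAddSubmonoid.subtype =
      h ≫ AMonS.map S (0 : ↥Z.toAddSubmonoid →+ M) := by
    rw [hh, AMonS_map_zero, ← Category.assoc, toUnit_unique (h ≫ toUnit _) (toUnit W)]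
  have e1 : (h.left ≫ pullback.fst (AMon (ULift.{u} ℤ) M).hom (Limits.IsTerminal.from specULiftZIsTerminal S)) ≫
        (AMon.map (ULift.{u} ℤ) Z.toAddSubmonoid.subtype).left =
      (h.left ≫ pullback.fst (AMon (ULift.{u} ℤ) M).hom (Limits.IsTerminal.from specULiftZIsTerminal S)) ≫
        (AMon.map (ULift.{u} ℤ) (0 : ↥Z.toAddSubmonoid →+ M)).left := by
    have := congrArg (fun φ => φ.left ≫
      pullback.fst (AMon (ULift.{u} ℤ) ↥Z.toAddSubmonoid).hom (Limits.IsTerminal.from specULiftZIsTerminal S)) hh'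
    simp only [Over.comp_left, Category.assoc, AMonS_map_left_fst] at this
    rw [Category.assoc, Category.assoc]
    exact this
  have HP := isPullback_SpecMap_of_isPushout _ _ _ _ (isPushout_quotient (ULift.{u} ℤ) Z)
  have key : Spec.map (CommRingCat.ofHom
        ((algebraMap (ULift.{u} ℤ) (MonoidAlgebra (ULift.{u} ℤ) (Multiplicative M))).comp
          (Bialgebra.counitAlgHom (ULift.{u} ℤ)
            (MonoidAlgebra (ULift.{u} ℤ) (Multiplicative ↥Z.toAddSubmonoid))).toRingHom)) =
      Spec.map (CommRingCat.ofHom (algebraMap (ULift.{u} ℤ) (MonoidAlgebra (ULift.{u} ℤ) (Multiplicative M)))) ≫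
        Spec.map (CommRingCat.ofHom (Bialgebra.counitAlgHom (ULift.{u} ℤ)
            (MonoidAlgebra (ULift.{u} ℤ) (Multiplicative ↥Z.toAddSubmonoid))).toRingHom) := by
    rw [← Spec.map_comp]
    rfl
  have z1 : (AMon.map (ULift.{u} ℤ) (0 : ↥Z.toAddSubmonoid →+ M)).left =
      Spec.map (CommRingCat.ofHom (algebraMap (ULift.{u} ℤ) (MonoidAlgebra (ULift.{u} ℤ) (Multiplicative M)))) ≫
        Spec.map (CommRingCat.ofHom (Bialgebra.counitAlgHom (ULift.{u} ℤ)
            (MonoidAlgebra (ULift.{u} ℤ) (Multiplicative ↥Z.toAddSubmonoid))).toRingHom) := by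
    rw [AMon.map_left, mapDomain_zero_eq]
    exact key
  obtain ⟨h₁, hh₁⟩ : ∃ h₁ : W.left ⟶ Spec (CommRingCat.of (MonoidAlgebra (ULift.{u} ℤ) (Multiplicative M))),
      h₁ = h.left ≫ pullback.fst (AMon (ULift.{u} ℤ) M).hom (Limits.IsTerminal.from specULiftZIsTerminal S) :=
    ⟨_, rfl⟩
  have e2 : h₁ ≫ Spec.map (CommRingCat.ofHom (MonoidAlgebra.mapDomainBialgHom (ULift.{u} ℤ)
        (AddMonoidHom.toMultiplicative Z.toAddSubmonoid.subtype)).toAlgHom.toRingHom) =
      (h₁ ≫ Spec.map (CommRingCat.ofHom (algebraMap (ULift.{u} ℤ)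
        (MonoidAlgebra (ULift.{u} ℤ) (Multiplicative M))))) ≫
      Spec.map (CommRingCat.ofHom (Bialgebra.counitAlgHom (ULift.{u} ℤ)
        (MonoidAlgebra (ULift.{u} ℤ) (Multiplicative ↥Z.toAddSubmonoid))).toRingHom) := by
    rw [hh₁]
    refine Eq.trans e1 ?_
    rw [z1]
    exact (Category.assoc _ _ _).symm
  have e3 : HP.lift h₁ _ e2 ≫ Spec.map (CommRingCat.ofHom (MonoidAlgebra.mapDomainBialgHom (ULift.{u} ℤ)
        (AddMonoidHom.toMultiplicative (QuotientAddGroup.mk' Z))).toAlgHom.toRingHom) = h₁ :=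
    HP.lift_fst _ _ _
  have e4 : HP.lift h₁ _ e2 ≫ (AMon (ULift.{u} ℤ) (M ⧸ Z)).hom =
      W.hom ≫ Limits.IsTerminal.from specULiftZIsTerminal S := specULiftZIsTerminal.hom_ext _ _
  have e5 : pullback.lift (HP.lift h₁ _ e2) W.hom e4 ≫ (AMonS S (M ⧸ Z)).hom = W.hom := pullback.lift_snd _ _ _
  refine ⟨Over.homMk (pullback.lift (HP.lift h₁ _ e2) W.hom e4) e5, ?_⟩
  ext : 1
  have e6 : (Over.homMk (pullback.lift (HP.lift h₁ _ e2) W.hom e4) e5 : W ⟶ AMonS S (M ⧸ Z)).left =
      pullback.lift (HP.lift h₁ _ e2) W.hom e4 := rfl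
  apply pullback.hom_ext
  · rw [Over.comp_left, e6, Category.assoc, AMonS_map_left_fst]
    refine Eq.trans (pullback.lift_fst_assoc _ _ _ _) ?_
    rw [← hh₁]
    exact e3
  · rw [Over.comp_left, e6, Category.assoc, AMonS_map_left_snd]
    exact (pullback.lift_snd _ _ _).trans (Over.w h).symm

end Kernel

section Epi

/-- In a braided monoidal category: if `f ▷ T'` is an epimorphism for every `T'`, then so is `G ◁ (f ▷ T)`. -/
theorem epi_whiskerLeft_whiskerRight {C : Type*} [Category C] [MonoidalCategory C] [BraidedCategory C]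
    {A B : C} (f : A ⟶ B) (hf : ∀ T' : C, Epi (f ▷ T')) (G T : C) : Epi (G ◁ (f ▷ T)) := by
  have h1 : G ◁ (f ▷ T) = (β_ G (A ⊗ T)).hom ≫ ((f ▷ T) ▷ G) ≫ (β_ G (B ⊗ T)).inv := by
    rw [← Category.assoc, Iso.eq_comp_inv, BraidedCategory.braiding_naturality_right]
  have h2 : (f ▷ T) ▷ G = (α_ A T G).hom ≫ (f ▷ (T ⊗ G)) ≫ (α_ B T G).inv := by
    rw [← Category.assoc, Iso.eq_comp_inv, associator_naturality_left]
  rw [h1, h2]
  have := hf (T ⊗ G)
  infer_instance

variable (S : Scheme.{u}) {M : Type} [AddCommGroup M] (Z : AddSubgroup M)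

theorem subgroup_flat_surjective_affine (T : Over S) :
    Flat (AMonS.map S Z.toAddSubmonoid.subtype ▷ T).left ∧
      Surjective (AMonS.map S Z.toAddSubmonoid.subtype ▷ T).left ∧
      IsAffineHom (AMonS.map S Z.toAddSubmonoid.subtype ▷ T).left := by
  refine flat_surjective_affine_whiskerRight S Z.toAddSubmonoid.subtype Subtype.val_injective ?_ T
  intro n
  exact ⟨⟨-n.1, Z.neg_mem n.2⟩, rfl⟩

/-- `D(M)_S ×_S T ⟶ D(Z)_S ×_S T` is an effective epimorphism of schemes (fpqc descent). -/
theorem subgroup_effectiveEpi_left (T : Over S) :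
    EffectiveEpi (AMonS.map S Z.toAddSubmonoid.subtype ▷ T).left := by
  obtain ⟨h1, h2, h3⟩ := subgroup_flat_surjective_affine S Z T
  infer_instance

theorem subgroup_epi (T : Over S) : Epi (AMonS.map S Z.toAddSubmonoid.subtype ▷ T) := by
  obtain ⟨h1, h2, h3⟩ := subgroup_flat_surjective_affine S Z T
  have : Epi (AMonS.map S Z.toAddSubmonoid.subtype ▷ T).left := Flat.epi_of_flat_of_surjective _
  exact (Over.forget S).epi_of_epi_map this

theorem subgroup_epi_whiskerLeft (G T : Over S) :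
    Epi (G ◁ (AMonS.map S Z.toAddSubmonoid.subtype ▷ T)) :=
  epi_whiskerLeft_whiskerRight _ (fun T' => subgroup_epi S Z T') G T

end Epi

end Groth.Agent.Lib.Seat89.DiagKer
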