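import Groth.Agent.Lib.Seat89LocRep
import Groth.Agent.Lib.Helper12IdealDescent
import Mathlib.AlgebraicGeometry.IdealSheaf.Functorial
import Mathlib.AlgebraicGeometry.Morphisms.UniversallyOpen
import Mathlib.AlgebraicGeometry.Morphisms.Flat

/-!
# Flat descent of closed-subscheme representability (helper89)

Let `P` be a property of morphisms `T ⟶ X` (a "subfunctor of `h_X`") which is stable under precomposition and descends
along flat surjective morphisms and Zariski coverings.  Let `f : U ⟶ X` be flat, surjective and universally open (e.g.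
étale surjective) and `i' : W' ⟶ U` a closed immersion such that `u : T ⟶ U` factors through `W'` iff `u ≫ f` has `P`.
Then there is a closed immersion `j : Z ⟶ X` such that `ξ : T ⟶ X` has `P` iff it factors through `Z`
(`exists_closedImmersion_of_atlas`).  No quasi-compactness is assumed.
-/

set_option autoImplicit false
universe u
open CategoryTheory CategoryTheory.Limits AlgebraicGeometry

namespace Groth.Agent.Lib.Seat89.EtDesc

section FlatSurj

variable {X Y Z : Scheme.{u}}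

/-- A flat surjective morphism is injective on sections (no quasi-compactness). -/
theorem app_injective_of_flat_surjective (g : Y ⟶ X) [Flat g] [Surjective g] (V : X.Opens) :
    Function.Injective (g.app V) := by
  rw [injective_iff_map_eq_zero]
  intro s hs
  refine TopCat.Presheaf.section_ext X.sheaf V s 0 (fun x hx => ?_)
  obtain ⟨y, rfl⟩ := g.surjective x
  have hinj : Function.Injective (g.stalkMap y) := by
    algebraize [(g.stalkMap y).hom]
    have : Module.FaithfullyFlat (X.presheaf.stalk (g y)) (Y.presheaf.stalk y) :=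
      @Module.FaithfullyFlat.of_flat_of_isLocalHom _ _ _ _ _ _ _
        (Flat.stalkMap g y) (g.toLRSHom.prop y)
    exact ‹RingHom.FaithfullyFlat _›.injective
  apply hinj
  have h1 := Scheme.Hom.germ_stalkMap_apply g V y hx s
  rw [hs, map_zero] at h1
  refine h1.trans ?_
  simp only [map_zero]
  exact (map_zero (g.stalkMap y).hom).symm

theorem ker_eq_bot_of_flat_surjective (f : X ⟶ Y) [Flat f] [Surjective f] : f.ker = ⊥ := by
  rw [eq_bot_iff]
  intro U
  refine (f.ideal_ker_le U).trans ?_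
  intro x hx
  have hinj := app_injective_of_flat_surjective f U.1
  have : x = 0 := hinj (by rw [RingHom.mem_ker] at hx; rw [map_zero]; exact hx)
  rw [this]
  exact Submodule.zero_mem _

theorem ker_comp_of_flat_surjective (π : X ⟶ Y) (ψ : Y ⟶ Z) [Flat π] [Surjective π] :
    (π ≫ ψ).ker = ψ.ker := by
  have : IsSchemeTheoreticallyDominant π := ⟨ker_eq_bot_of_flat_surjective π⟩
  exact Groth.Agent.Lib.Helper12.ker_comp_of_dominant π ψ

end FlatSurj

section Atlas

open Scheme.IdealSheafData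

variable {X U W' : Scheme.{u}} (f : U ⟶ X) (i' : W' ⟶ U) [IsClosedImmersion i']
  (P : ∀ {T : Scheme.{u}}, (T ⟶ X) → Prop)
  (hpre : ∀ {T T' : Scheme.{u}} (g : T' ⟶ T) (ξ : T ⟶ X), P ξ → P (g ≫ ξ))
  (hdesc : ∀ {T T' : Scheme.{u}} (p : T' ⟶ T) [Flat p] [Surjective p] (ξ : T ⟶ X), P (p ≫ ξ) → P ξ)
  (hrep : ∀ {T : Scheme.{u}} (u : T ⟶ U), P (u ≫ f) ↔ ∃ w : T ⟶ W', w ≫ i' = u)

/-- factoring through the closed immersion `i'` in terms of kernels -/
theorem exists_lift_iff {T : Scheme.{u}} (u : T ⟶ U) : (∃ w : T ⟶ W', w ≫ i' = u) ↔ i'.ker ≤ u.ker := by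
  constructor
  · rintro ⟨w, rfl⟩
    exact w.le_ker_comp i'
  · intro h
    exact ⟨IsClosedImmersion.lift i' u h, IsClosedImmersion.lift_fac _ _ _⟩

include hrep in
theorem comap_fst_le_comap_snd {A : Scheme.{u}} (p₁ p₂ : A ⟶ U) (h : p₁ ≫ f = p₂ ≫ f) :
    i'.ker.comap p₁ ≤ i'.ker.comap p₂ := by
  -- the closed subscheme `p₂⁻¹ W'`
  obtain ⟨ι₂, hι₂⟩ : ∃ ι₂ : (i'.ker.comap p₂).subscheme ⟶ A, ι₂ = (i'.ker.comap p₂).subschemeι := ⟨_, rfl⟩
  have hker : ι₂.ker = i'.ker.comap p₂ := by rw [hι₂, ker_subschemeι]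
  have h2 : i'.ker ≤ (ι₂ ≫ p₂).ker := by
    rw [Scheme.Hom.ker_comp, hker]
    exact le_map_comap _ _
  have h3 : P ((ι₂ ≫ p₂) ≫ f) := (hrep _).2 ((exists_lift_iff i' _).2 h2)
  have h4 : P ((ι₂ ≫ p₁) ≫ f) := by
    rw [Category.assoc, h, ← Category.assoc]; exact h3
  have h5 : i'.ker ≤ (ι₂ ≫ p₁).ker := (exists_lift_iff i' _).1 ((hrep _).1 h4)
  rw [Scheme.Hom.ker_comp, hker, le_map_iff_comap_le] at h5
  exact h5

include hrep in
/-- the descent datum of the closed subscheme `W'` -/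
theorem comap_fst_eq_comap_snd {A : Scheme.{u}} (p₁ p₂ : A ⟶ U) (h : p₁ ≫ f = p₂ ≫ f) :
    i'.ker.comap p₁ = i'.ker.comap p₂ :=
  le_antisymm (comap_fst_le_comap_snd f i' P hrep p₁ p₂ h) (comap_fst_le_comap_snd f i' P hrep p₂ p₁ h.symm)

include hpre hdesc hrep in
/-- **Quasi-compact local descent.**  Over an open `jV : V ⟶ X` with a quasi-compact flat surjective sub-atlas
`fV : UV ⟶ V`, the property `P` is represented by an ideal sheaf on `V`. -/
theorem exists_idealSheafData_of_subatlas {V UV : Scheme.{u}} (jV : V ⟶ X) (g : UV ⟶ U) (fV : UV ⟶ V)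
    [Flat fV] [Surjective fV] [QuasiCompact fV] (hsq : fV ≫ jV = g ≫ f) :
    ∃ K : V.IdealSheafData, ∀ {T : Scheme.{u}} (x : T ⟶ V), P (x ≫ jV) ↔ K ≤ x.ker := by
  obtain ⟨J'V, hJ'V⟩ : ∃ J'V : UV.IdealSheafData, J'V = i'.ker.comap g := ⟨_, rfl⟩
  have hstable : J'V.comap (pullback.fst fV fV) = J'V.comap (pullback.snd fV fV) := by
    rw [hJ'V, ← comap_comp, ← comap_comp]
    apply comap_fst_eq_comap_snd f i' P hrep
    rw [Category.assoc, Category.assoc, ← hsq, ← Category.assoc, ← Category.assoc, pullback.condition]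
  have hK := Groth.Agent.Lib.Helper12.comap_map_eq_of_stable fV J'V hstable
  refine ⟨J'V.map fV, fun {T} x => ?_⟩
  obtain ⟨p, hp⟩ : ∃ p : pullback x fV ⟶ T, p = pullback.fst x fV := ⟨_, rfl⟩
  obtain ⟨x', hx'⟩ : ∃ x' : pullback x fV ⟶ UV, x' = pullback.snd x fV := ⟨_, rfl⟩
  have hpflat : Flat p := by rw [hp]; infer_instance
  have hpsurj : Surjective p := by rw [hp]; infer_instance
  have hcond : p ≫ x = x' ≫ fV := by rw [hp, hx']; exact pullback.condition
  have hker : (p ≫ x).ker = x.ker := ker_comp_of_flat_surjective p x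
  have hcomp : p ≫ (x ≫ jV) = (x' ≫ g) ≫ f := by
    rw [← Category.assoc, hcond, Category.assoc, hsq, Category.assoc]
  constructor
  · intro hP
    have h1 : P ((x' ≫ g) ≫ f) := by rw [← hcomp]; exact hpre _ _ hP
    have h2 : i'.ker ≤ (x' ≫ g).ker := (exists_lift_iff i' _).1 ((hrep _).1 h1)
    rw [Scheme.Hom.ker_comp, le_map_iff_comap_le, ← hJ'V] at h2
    have h3 : J'V.map fV ≤ x'.ker.map fV := map_mono fV h2
    rw [← Scheme.Hom.ker_comp, ← hcond, hker] at h3
    exact h3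
  · intro hle
    have h1 : J'V.map fV ≤ (x' ≫ fV).ker := by
      rw [← hcond, hker]; exact hle
    rw [Scheme.Hom.ker_comp, le_map_iff_comap_le, hK, hJ'V, ← le_map_iff_comap_le, ← Scheme.Hom.ker_comp] at h1
    have h2 : P ((x' ≫ g) ≫ f) := (hrep _).2 ((exists_lift_iff i' _).2 h1)
    rw [← hcomp] at h2
    exact hdesc p _ h2

end Atlas

section Subatlas

variable {X U : Scheme.{u}} (f : U ⟶ X) [Flat f] [Surjective f] [UniversallyOpen f]

/-- Over an affine open `V` of `X`, a flat surjective universally open `f : U ⟶ X` has a quasi-compact sub-atlas: a finite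
disjoint union of affine opens of `U` mapping onto `V`. -/
theorem exists_subatlas (V : X.affineOpens) :
    ∃ (UV : Scheme.{u}) (g : UV ⟶ U) (fV : UV ⟶ Spec Γ(X, V.1)), Flat fV ∧ Surjective fV ∧ QuasiCompact fV ∧
      fV ≫ V.2.fromSpec = g ≫ f := by
  obtain ⟨jV, hjV⟩ : ∃ jV : Spec Γ(X, V.1) ⟶ X, jV = V.2.fromSpec := ⟨_, rfl⟩
  have hjVopen : IsOpenImmersion jV := by rw [hjV]; infer_instance
  have hrange : Set.range jV = (V.1 : Set X) := by rw [hjV]; exact V.2.range_fromSpec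
  -- local choice of affine opens of `U`
  have hex : ∀ x : V.1, ∃ O : U.Opens, IsAffineOpen O ∧ O ≤ f ⁻¹ᵁ V.1 ∧ (x : X) ∈ f '' (O : Set U) := by
    intro x
    obtain ⟨u, hu⟩ := f.surjective x
    have huV : u ∈ f ⁻¹ᵁ V.1 := by change f u ∈ V.1; rw [hu]; exact x.2
    obtain ⟨O, hO, huO, hOV⟩ := exists_isAffineOpen_mem_and_subset (x := u) (U := f ⁻¹ᵁ V.1) huV
    exact ⟨O, hO, hOV, u, huO, hu⟩
  choose O hOaff hOle hOmem using hex
  -- finite subcover
  have hopen : ∀ x : V.1, IsOpen (f '' (O x : Set U)) := fun x => f.isOpenMap _ (O x).isOpen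
  have hcover : (V.1 : Set X) ⊆ ⋃ x : V.1, f '' (O x : Set U) := fun y hy =>
    Set.mem_iUnion.2 ⟨⟨y, hy⟩, hOmem ⟨y, hy⟩⟩
  obtain ⟨t, ht⟩ := V.2.isCompact.elim_finite_subcover _ hopen hcover
  -- the sub-atlas
  have haff : ∀ x : t, IsAffine (O x.1).toScheme := fun x => hOaff x.1
  have hsub : ∀ x : t, Set.range ((O x.1).ι ≫ f) ⊆ Set.range jV := by
    intro x
    rw [hrange]
    rintro _ ⟨u, rfl⟩
    exact hOle x.1 u.2
  obtain ⟨fx, hfx⟩ : ∃ fx : ∀ x : t, (O x.1).toScheme ⟶ Spec Γ(X, V.1), ∀ x, fx x ≫ jV = (O x.1).ι ≫ f :=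
    ⟨fun x => IsOpenImmersion.lift jV ((O x.1).ι ≫ f) (hsub x), fun x => IsOpenImmersion.lift_fac _ _ _⟩
  have hfxflat : ∀ x : t, Flat (fx x) := by
    intro x
    have h1 : Flat (fx x ≫ jV) := by rw [hfx]; infer_instance
    exact MorphismProperty.of_postcomp (W := @Flat) (W' := MorphismProperty.monomorphisms Scheme.{u})
      (fx x) jV (MorphismProperty.monomorphisms.infer_property jV) h1
  refine ⟨∐ fun x : t => (O x.1).toScheme, Sigma.desc fun x => (O x.1).ι, Sigma.desc fx, ?_, ?_, ?_, ?_⟩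
  · exact IsZariskiLocalAtSource.sigmaDesc hfxflat
  · refine ⟨fun y => ?_⟩
    have hy : jV y ∈ (V.1 : Set X) := by rw [← hrange]; exact ⟨y, rfl⟩
    obtain ⟨x, hxt, u, huO, hu⟩ : ∃ x ∈ t, ∃ u ∈ (O x : Set U), f u = jV y := by
      have := ht hy
      simp only [Set.mem_iUnion] at this
      obtain ⟨x, hxt, u, huO, hu⟩ := this
      exact ⟨x, hxt, u, huO, hu⟩
    refine ⟨(Sigma.ι (fun x : t => (O x.1).toScheme) ⟨x, hxt⟩) ⟨u, huO⟩, ?_⟩
    apply jV.isOpenEmbedding.injective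
    have e1 : (Sigma.ι (fun x : t => (O x.1).toScheme) ⟨x, hxt⟩ ≫ Sigma.desc fx) ≫ jV = (O x).ι ≫ f := by
      rw [Sigma.ι_desc]; exact hfx ⟨x, hxt⟩
    have e2 := congrArg (fun m => m ⟨u, huO⟩) e1
    exact e2.trans hu
  · have : IsAffine (∐ fun x : t => (O x.1).toScheme) := inferInstance
    infer_instance
  · rw [← hjV]
    apply Sigma.hom_ext
    intro x
    rw [Sigma.ι_desc_assoc, Sigma.ι_desc_assoc]
    exact hfx x

end Subatlas

section AffineIdeal

open Scheme.IdealSheafData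

/-- an ideal sheaf on `Spec A` as an ideal of `A`, tested on maps `Spec R ⟶ Spec A` -/
theorem exists_ideal_of_idealSheafData {A : CommRingCat.{u}} (K : (Spec A).IdealSheafData) :
    ∃ I : Ideal A, ∀ {R : CommRingCat.{u}} (φ : A ⟶ R), K ≤ (Spec.map φ).ker ↔ I ≤ RingHom.ker φ.hom := by
  refine ⟨(K.ideal ⟨⊤, isAffineOpen_top _⟩).comap (Scheme.ΓSpecIso A).inv.hom, fun {R} φ => ?_⟩
  rw [Scheme.ker_of_isAffine]
  have h1 : K ≤ ofIdealTop (RingHom.ker (Spec.map φ).appTop.hom) ↔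
      K.ideal ⟨⊤, isAffineOpen_top _⟩ ≤ RingHom.ker (Spec.map φ).appTop.hom := by
    constructor
    · intro h
      have := h ⟨⊤, isAffineOpen_top _⟩
      simpa using this
    · intro h
      apply le_of_isAffine
      simpa using h
  rw [h1]
  have hnat := Scheme.ΓSpecIso_naturality φ
  have hker : ∀ a : Γ(Spec A, ⊤), a ∈ RingHom.ker (Spec.map φ).appTop.hom ↔
      (Scheme.ΓSpecIso A).hom.hom a ∈ RingHom.ker φ.hom := by
    intro a
    rw [RingHom.mem_ker, RingHom.mem_ker]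
    have h2 : (Scheme.ΓSpecIso R).hom.hom ((Spec.map φ).appTop.hom a) = φ.hom ((Scheme.ΓSpecIso A).hom.hom a) :=
      congrArg (fun ψ => ψ.hom a) hnat
    constructor
    · intro h; rw [← h2, h, map_zero]
    · intro h
      rw [h] at h2
      have h3 := congrArg (Scheme.ΓSpecIso R).inv.hom h2
      rw [map_zero] at h3
      rw [← h3]
      exact (congrArg (fun ψ => ψ.hom ((Spec.map φ).appTop.hom a)) (Scheme.ΓSpecIso R).hom_inv_id).symm
  constructor
  · intro h a ha
    rw [Ideal.mem_comap] at ha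
    have := (hker _).1 (h ha)
    have e : (Scheme.ΓSpecIso A).hom.hom ((Scheme.ΓSpecIso A).inv.hom a) = a :=
      congrArg (fun ψ => ψ.hom a) (Scheme.ΓSpecIso A).inv_hom_id
    rw [e] at this
    exact this
  · intro h a ha
    rw [hker]
    apply h
    rw [Ideal.mem_comap]
    have e : (Scheme.ΓSpecIso A).inv.hom ((Scheme.ΓSpecIso A).hom.hom a) = a :=
      congrArg (fun ψ => ψ.hom a) (Scheme.ΓSpecIso A).hom_inv_id
    rw [e]
    exact ha

end AffineIdeal

section Main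

variable {X U W' : Scheme.{u}} (f : U ⟶ X) [Flat f] [Surjective f] [UniversallyOpen f]
  (i' : W' ⟶ U) [IsClosedImmersion i']

/-- **Flat descent of closed-subscheme representability**, no quasi-compactness assumed. -/
theorem exists_closedImmersion_of_atlas (P : ∀ {T : Scheme.{u}}, (T ⟶ X) → Prop)
    (hpre : ∀ {T T' : Scheme.{u}} (g : T' ⟶ T) (ξ : T ⟶ X), P ξ → P (g ≫ ξ))
    (hdesc : ∀ {T T' : Scheme.{u}} (p : T' ⟶ T) [Flat p] [Surjective p] (ξ : T ⟶ X), P (p ≫ ξ) → P ξ)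
    (hloc : ∀ {T : Scheme.{u}} (ξ : T ⟶ X) (𝒰 : Scheme.OpenCover.{u} T), (∀ i, P (𝒰.f i ≫ ξ)) → P ξ)
    (hrep : ∀ {T : Scheme.{u}} (u : T ⟶ U), P (u ≫ f) ↔ ∃ w : T ⟶ W', w ≫ i' = u) :
    ∃ (Z : Scheme.{u}) (j : Z ⟶ X), IsClosedImmersion j ∧
      ∀ {T : Scheme.{u}} (ξ : T ⟶ X), P ξ ↔ ∃ z : T ⟶ Z, z ≫ j = ξ := by
  refine LocRep.exists_closedImmersion_of_localRep P hpre hloc fun V => ?_
  obtain ⟨UV, g, fV, hflat, hsurj, hqc, hsq⟩ := exists_subatlas f V
  obtain ⟨K, hK⟩ := exists_idealSheafData_of_subatlas f i' P hpre hdesc hrep V.2.fromSpec g fV hsq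
  obtain ⟨I, hI⟩ := exists_ideal_of_idealSheafData K
  exact ⟨I, fun R φ => (hK (Spec.map φ)).trans (hI φ)⟩

end Main

end Groth.Agent.Lib.Seat89.EtDesc
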