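import Groth.Agent.Lib.Seat89EtDesc

/-!
# Flat descent of closed-subscheme representability, fpqc-descent form (helper89)

Same as `EtDesc.exists_closedImmersion_of_atlas`, but the descent hypothesis on `P` is only required along
*quasi-compact* flat surjective morphisms (`exists_closedImmersion_of_atlas'`).
-/

set_option autoImplicit false
universe u
open CategoryTheory CategoryTheory.Limits AlgebraicGeometry

namespace Groth.Agent.Lib.Seat89.EtDesc

section Atlas'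

open Scheme.IdealSheafData

variable {X U W' : Scheme.{u}} (f : U ⟶ X) (i' : W' ⟶ U) [IsClosedImmersion i']
  (P : ∀ {T : Scheme.{u}}, (T ⟶ X) → Prop)
  (hpre : ∀ {T T' : Scheme.{u}} (g : T' ⟶ T) (ξ : T ⟶ X), P ξ → P (g ≫ ξ))
  (hdesc : ∀ {T T' : Scheme.{u}} (p : T' ⟶ T) [Flat p] [Surjective p] [QuasiCompact p] (ξ : T ⟶ X),
    P (p ≫ ξ) → P ξ)
  (hrep : ∀ {T : Scheme.{u}} (u : T ⟶ U), P (u ≫ f) ↔ ∃ w : T ⟶ W', w ≫ i' = u)

include hpre hdesc hrep in
theorem exists_idealSheafData_of_subatlas' {V UV : Scheme.{u}} (jV : V ⟶ X) (g : UV ⟶ U) (fV : UV ⟶ V)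
    [Flat fV] [Surjective fV] [QuasiCompact fV] (hsq : fV ≫ jV = g ≫ f) :
    ∃ K : V.IdealSheafData, ∀ {T : Scheme.{u}} (x : T ⟶ V), P (x ≫ jV) ↔ K ≤ x.ker := by
  obtain ⟨J'V, hJ'V⟩ : ∃ J'V : UV.IdealSheafData, J'V = i'.ker.comap g := ⟨_, rfl⟩
  have hstable : J'V.comap (pullback.fst fV fV) = J'V.comap (pullback.snd fV fV) := by
    rw [hJ'V, ← comap_comp, ← comap_comp]
    apply comap_fst_eq_comap_snd f i' P hrep
    rw [Category.assoc, Category.assoc, ← hsq, ← Category.assoc, ← Category.assoc, pullback.condition]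
  have hK := Groth.Agent.Lib.Helper12.comap_map_eq_of_stable fV J'V hstable
  refine ⟨J'V.map fV, fun {T} x => ?_⟩
  obtain ⟨p, hp⟩ : ∃ p : pullback x fV ⟶ T, p = pullback.fst x fV := ⟨_, rfl⟩
  obtain ⟨x', hx'⟩ : ∃ x' : pullback x fV ⟶ UV, x' = pullback.snd x fV := ⟨_, rfl⟩
  have hpflat : Flat p := by rw [hp]; infer_instance
  have hpsurj : Surjective p := by rw [hp]; infer_instance
  have hpqc : QuasiCompact p := by rw [hp]; infer_instance
  have hcond : p ≫ x = x' ≫ fV := by rw [hp, hx']; exact pullback.condition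
  have hker : (p ≫ x).ker = x.ker := ker_comp_of_flat_surjective p x
  have hcomp : p ≫ (x ≫ jV) = (x' ≫ g) ≫ f := by
    rw [← Category.assoc, hcond, Category.assoc, hsq, Category.assoc]
  constructor
  · intro hP
    have h1 : P ((x' ≫ g) ≫ f) := by rw [← hcomp]; exact hpre _ _ hP
    have h2 : i'.ker ≤ (x' ≫ g).ker := (exists_lift_iff i' _).1 ((hrep _).1 h1)
    rw [Scheme.Hom.ker_comp, le_map_iff_comap_le, ← hJ'V] at h2
    have h3 : J'V.map fV ≤ x'.ker.map fV := map_mono fV h2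
    rw [← Scheme.Hom.ker_comp, ← hcond, hker] at h3
    exact h3
  · intro hle
    have h1 : J'V.map fV ≤ (x' ≫ fV).ker := by
      rw [← hcond, hker]; exact hle
    rw [Scheme.Hom.ker_comp, le_map_iff_comap_le, hK, hJ'V, ← le_map_iff_comap_le, ← Scheme.Hom.ker_comp] at h1
    have h2 : P ((x' ≫ g) ≫ f) := (hrep _).2 ((exists_lift_iff i' _).2 h1)
    rw [← hcomp] at h2
    exact hdesc p _ h2

end Atlas'

section Main'

variable {X U W' : Scheme.{u}} (f : U ⟶ X) [Flat f] [Surjective f] [UniversallyOpen f]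
  (i' : W' ⟶ U) [IsClosedImmersion i']

/-- **Flat descent of closed-subscheme representability**: `P` stable under precomposition, descending along
quasi-compact flat surjective morphisms and Zariski coverings. -/
theorem exists_closedImmersion_of_atlas' (P : ∀ {T : Scheme.{u}}, (T ⟶ X) → Prop)
    (hpre : ∀ {T T' : Scheme.{u}} (g : T' ⟶ T) (ξ : T ⟶ X), P ξ → P (g ≫ ξ))
    (hdesc : ∀ {T T' : Scheme.{u}} (p : T' ⟶ T) [Flat p] [Surjective p] [QuasiCompact p] (ξ : T ⟶ X),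
      P (p ≫ ξ) → P ξ)
    (hloc : ∀ {T : Scheme.{u}} (ξ : T ⟶ X) (𝒰 : Scheme.OpenCover.{u} T), (∀ i, P (𝒰.f i ≫ ξ)) → P ξ)
    (hrep : ∀ {T : Scheme.{u}} (u : T ⟶ U), P (u ≫ f) ↔ ∃ w : T ⟶ W', w ≫ i' = u) :
    ∃ (Z : Scheme.{u}) (j : Z ⟶ X), IsClosedImmersion j ∧
      ∀ {T : Scheme.{u}} (ξ : T ⟶ X), P ξ ↔ ∃ z : T ⟶ Z, z ≫ j = ξ := by
  refine LocRep.exists_closedImmersion_of_localRep P hpre hloc fun V => ?_
  obtain ⟨UV, g, fV, hflat, hsurj, hqc, hsq⟩ := exists_subatlas f V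
  obtain ⟨K, hK⟩ := exists_idealSheafData_of_subatlas' f i' P hpre hdesc hrep V.2.fromSpec g fV hsq
  obtain ⟨I, hI⟩ := exists_ideal_of_idealSheafData K
  exact ⟨I, fun R φ => (hK (Spec.map φ)).trans (hI φ)⟩

end Main'

end Groth.Agent.Lib.Seat89.EtDesc
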