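import Groth.Agent.Lib.Seat89PosFunctional

/-!
# Faces of finitely generated monoids are exposed (helper89)

For a finitely generated submonoid `N` of an abelian group `M` and a face `F` of `N` there is an additive map
`h : N →+ ℕ` with `h n = 0 ↔ n ∈ F` (`exists_addMonoidHom_nat_of_face`).
-/

set_option autoImplicit false

namespace Groth.Agent.Lib.Seat89.FaceHom

open PosFunctional

variable {M : Type*} [AddCommGroup M] (N F : AddSubmonoid M)

/-- the group of differences of a submonoid -/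
def diffSubgroup : AddSubgroup M where
  carrier := {x | ∃ f₁ ∈ F, ∃ f₂ ∈ F, x + f₂ = f₁}
  zero_mem' := ⟨0, F.zero_mem, 0, F.zero_mem, by simp⟩
  add_mem' := by
    rintro x y ⟨f₁, hf₁, f₂, hf₂, hx⟩ ⟨g₁, hg₁, g₂, hg₂, hy⟩
    refine ⟨f₁ + g₁, F.add_mem hf₁ hg₁, f₂ + g₂, F.add_mem hf₂ hg₂, ?_⟩
    rw [← hx, ← hy]
    abel
  neg_mem' := by
    rintro x ⟨f₁, hf₁, f₂, hf₂, hx⟩
    refine ⟨f₂, hf₂, f₁, hf₁, ?_⟩
    rw [← hx]
    abel

theorem mem_diffSubgroup {x : M} : x ∈ diffSubgroup F ↔ ∃ f₁ ∈ F, ∃ f₂ ∈ F, x + f₂ = f₁ := Iff.rfl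

theorem mem_diffSubgroup_of_mem {x : M} (hx : x ∈ F) : x ∈ diffSubgroup F :=
  ⟨x, hx, 0, F.zero_mem, by simp⟩

variable {N F}

/-- in a face, a finite sum of elements of `N` lies in `F` only if every summand does -/
theorem mem_of_sum_mem (hface : ∀ x ∈ N, ∀ y ∈ N, x + y ∈ F → x ∈ F ∧ y ∈ F) {ι : Type*} (t : Finset ι)
    (v : ι → M) (hv : ∀ i ∈ t, v i ∈ N) (hsum : ∑ i ∈ t, v i ∈ F) : ∀ i ∈ t, v i ∈ F := by
  classical
  induction t using Finset.induction_on with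
  | empty => intro i hi; simp at hi
  | insert j t hj ih =>
    rw [Finset.sum_insert hj] at hsum
    have h1 := hface (v j) (hv j (Finset.mem_insert_self j t)) (∑ i ∈ t, v i)
      (N.sum_mem fun i hi => hv i (Finset.mem_insert_of_mem hi)) hsum
    intro i hi
    rcases Finset.mem_insert.1 hi with rfl | hi'
    · exact h1.1
    · exact ih (fun i hi => hv i (Finset.mem_insert_of_mem hi)) h1.2 i hi'

theorem mem_of_nsmul_mem (hface : ∀ x ∈ N, ∀ y ∈ N, x + y ∈ F → x ∈ F ∧ y ∈ F) {x : M} (hx : x ∈ N) {k : ℕ}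
    (hk : 0 < k) (h : k • x ∈ F) : x ∈ F := by
  obtain ⟨k', rfl⟩ : ∃ k', k = k' + 1 := ⟨k - 1, by omega⟩
  rw [succ_nsmul] at h
  exact (hface _ (N.nsmul_mem hx k') x hx h).2

/-- a rational functional, zero on the face and positive on the other generators -/
theorem exists_functional (hN : N.FG) (hle : F ≤ N)
    (hface : ∀ x ∈ N, ∀ y ∈ N, x + y ∈ F → x ∈ F ∧ y ∈ F) :
    ∃ ℓ : M →+ ℚ, (∀ n ∈ N, 0 ≤ ℓ n ∧ (ℓ n = 0 ↔ n ∈ F)) ∧ ∃ D : ℕ, 0 < D ∧ ∀ n ∈ N, ∃ k : ℕ, (D : ℚ) * ℓ n = k := by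
  classical
  obtain ⟨G, hG⟩ := hN
  have hGN : ∀ g ∈ G, g ∈ N := fun g hg => by
    rw [← hG]
    exact AddSubmonoid.subset_closure hg
  obtain ⟨G₁, hG₁⟩ : ∃ G₁ : Finset M, G₁ = G.filter (fun g => g ∉ F) := ⟨_, rfl⟩
  obtain ⟨p, hp⟩ : ∃ p : Fin G₁.card → M, p = fun i => ((G₁.equivFin.symm i : ↥G₁) : M) := ⟨_, rfl⟩
  have hpG₁ : ∀ i, p i ∈ G₁ := fun i => by rw [hp]; exact (G₁.equivFin.symm i).2
  have hpG₁' : ∀ i, p i ∈ G ∧ p i ∉ F := fun i => by
    have h := hpG₁ i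
    rw [hG₁, Finset.mem_filter] at h
    exact h
  have hpN : ∀ i, p i ∈ N := fun i => hGN _ (hpG₁' i).1
  have hpF : ∀ i, p i ∉ F := fun i => (hpG₁' i).2
  have hpsurj : ∀ g ∈ G₁, ∃ i, p i = g := fun g hg => by
    refine ⟨G₁.equivFin ⟨g, hg⟩, ?_⟩
    rw [hp]
    simp
  have H : ∀ a : Fin G₁.card → ℕ, (∑ i, a i • p i) ∈ diffSubgroup F → a = 0 := by
    rintro a ⟨f₁, hf₁, f₂, hf₂, hsum⟩
    have hsN : ∑ i, a i • p i ∈ N := N.sum_mem fun i _ => N.nsmul_mem (hpN i) _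
    have h1 : ∑ i, a i • p i ∈ F := (hface _ hsN f₂ (hle hf₂) (hsum ▸ hf₁)).1
    have h2 := mem_of_sum_mem hface Finset.univ (fun i => a i • p i) (fun i _ => N.nsmul_mem (hpN i) _) h1
    funext i
    by_contra hne
    exact hpF i (mem_of_nsmul_mem hface (hpN i) (Nat.pos_of_ne_zero hne) (h2 i (Finset.mem_univ i)))
  obtain ⟨ℓ, hℓF, hℓp⟩ := exists_pos_functional _ (diffSubgroup F) p H
  have hgen : ∀ g ∈ G, (g ∈ F → ℓ g = 0) ∧ (g ∉ F → 0 < ℓ g) := by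
    intro g hg
    refine ⟨fun h => hℓF g (mem_diffSubgroup_of_mem F h), fun h => ?_⟩
    obtain ⟨i, rfl⟩ := hpsurj g (by rw [hG₁]; exact Finset.mem_filter.2 ⟨hg, h⟩)
    exact hℓp i
  have hN1 : ∀ n ∈ N, 0 ≤ ℓ n ∧ (ℓ n = 0 → n ∈ F) := by
    intro n hn
    rw [← hG] at hn
    induction hn using AddSubmonoid.closure_induction with
    | mem g hg =>
      by_cases hgF : g ∈ F
      · exact ⟨le_of_eq ((hgen g hg).1 hgF).symm, fun _ => hgF⟩
      · have := (hgen g hg).2 hgF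
        exact ⟨le_of_lt this, fun h0 => absurd h0 (ne_of_gt this)⟩
    | zero => exact ⟨by simp, fun _ => F.zero_mem⟩
    | add x y _ _ hx hy =>
      refine ⟨by rw [map_add]; exact add_nonneg hx.1 hy.1, fun h0 => ?_⟩
      rw [map_add] at h0
      have hx0 : ℓ x = 0 := by linarith [hx.1, hy.1]
      have hy0 : ℓ y = 0 := by linarith [hx.1, hy.1]
      exact F.add_mem (hx.2 hx0) (hy.2 hy0)
  refine ⟨ℓ, fun n hn => ⟨(hN1 n hn).1, (hN1 n hn).2, fun h => hℓF n (mem_diffSubgroup_of_mem F h)⟩,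
    ∏ g ∈ G, (ℓ g).den, Finset.prod_pos fun g _ => Rat.den_pos _, ?_⟩
  have hDg : ∀ g ∈ G, ∃ z : ℤ, ((∏ g ∈ G, (ℓ g).den : ℕ) : ℚ) * ℓ g = z := by
    intro g hg
    obtain ⟨c, hc⟩ := Finset.dvd_prod_of_mem (fun g => (ℓ g).den) hg
    refine ⟨c * (ℓ g).num, ?_⟩
    rw [hc]
    push_cast
    have := Rat.mul_den_eq_num (ℓ g)
    rw [← this]
    ring
  have hDz : ∀ n ∈ N, ∃ z : ℤ, ((∏ g ∈ G, (ℓ g).den : ℕ) : ℚ) * ℓ n = z := by
    intro n hn
    rw [← hG] at hn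
    induction hn using AddSubmonoid.closure_induction with
    | mem g hg => exact hDg g hg
    | zero => exact ⟨0, by simp⟩
    | add x y _ _ hx hy =>
      obtain ⟨zx, hzx⟩ := hx
      obtain ⟨zy, hzy⟩ := hy
      exact ⟨zx + zy, by rw [map_add, mul_add, hzx, hzy]; push_cast; rfl⟩
  intro n hn
  obtain ⟨z, hz⟩ := hDz n hn
  have hz0 : (0 : ℚ) ≤ z := by
    rw [← hz]
    exact mul_nonneg (Nat.cast_nonneg _) (hN1 n hn).1
  have hz0' : 0 ≤ z := by exact_mod_cast hz0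
  refine ⟨z.toNat, ?_⟩
  rw [hz]
  have : ((z.toNat : ℤ) : ℚ) = z := by rw [Int.toNat_of_nonneg hz0']
  exact_mod_cast this.symm

/-- **faces of finitely generated monoids are exposed**: a monoid map to `ℕ` whose kernel is the face -/
theorem exists_addMonoidHom_nat_of_face (hN : N.FG) (hle : F ≤ N)
    (hface : ∀ x ∈ N, ∀ y ∈ N, x + y ∈ F → x ∈ F ∧ y ∈ F) :
    ∃ h : ↥N →+ ℕ, ∀ n : ↥N, h n = 0 ↔ (n : M) ∈ F := by
  obtain ⟨ℓ, hℓ, D, hD, hint⟩ := exists_functional hN hle hface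
  choose k hk using fun n : ↥N => hint n.1 n.2
  have hDq : (0 : ℚ) < D := by exact_mod_cast hD
  refine ⟨{ toFun := k, map_zero' := ?_, map_add' := fun x y => ?_ }, fun n => ?_⟩
  · have h1 := hk 0
    simp only [AddSubmonoid.coe_zero, map_zero, mul_zero] at h1
    exact_mod_cast h1.symm
  · have h1 := hk (x + y)
    rw [AddSubmonoid.coe_add, map_add, mul_add, hk x, hk y] at h1
    exact_mod_cast h1.symm
  · change k n = 0 ↔ _
    rw [← (hℓ n.1 n.2).2]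
    constructor
    · intro h0
      have h1 := hk n
      rw [h0, Nat.cast_zero] at h1
      rcases mul_eq_zero.1 h1 with h2 | h2
      · exact absurd h2 (ne_of_gt hDq)
      · exact h2
    · intro h0
      have h1 := hk n
      rw [h0, mul_zero] at h1
      exact_mod_cast h1.symm

end Groth.Agent.Lib.Seat89.FaceHom
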