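import Mathlib.AlgebraicGeometry.IdealSheaf.Subscheme
import Mathlib.AlgebraicGeometry.Morphisms.ClosedImmersion

/-!
# From local ideals to a global closed subscheme (helper89)

Let `P` be a property of morphisms `T ⟶ X` into a fixed scheme `X` which is stable under precomposition and Zariski local
on `T`.  Suppose that for every affine open `U` of `X` there is an ideal `I_U ⊆ Γ(X, U)` such that a morphism
`Spec R ⟶ U ⊆ X` has `P` iff it kills `I_U`.  Then there is a closed subscheme `Z ⊆ X` such that `ξ : T ⟶ X` has `P` iff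
`ξ` factors through `Z` (`exists_closedImmersion_of_localRep`).  (Pattern adapted from `Helper11FixRep`.)
-/

set_option autoImplicit false
universe u
open CategoryTheory CategoryTheory.Limits AlgebraicGeometry

namespace Groth.Agent.Lib.Seat89.LocRep

variable {X : Scheme.{u}}

/-- the closed subscheme `Spec (Γ(X, U) ⧸ I)` of the affine open `U`, mapping to `X` -/
noncomputable def ξI (U : X.affineOpens) (I : Ideal Γ(X, U)) :
    Spec (.of (Γ(X, U) ⧸ I)) ⟶ X :=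
  Spec.map (CommRingCat.ofHom (Ideal.Quotient.mk I)) ≫ U.2.fromSpec

theorem ξI_quotientMap (U : X.affineOpens) (f : Γ(X, U)) (I : Ideal Γ(X, U))
    (I' : Ideal Γ(X, X.basicOpen f))
    (hle : I ≤ I'.comap (X.presheaf.map (homOfLE <| X.basicOpen_le f).op).hom) :
    Spec.map (CommRingCat.ofHom (Ideal.quotientMap I'
      (X.presheaf.map (homOfLE <| X.basicOpen_le f).op).hom hle)) ≫ ξI U I =
      ξI (X.affineBasicOpen f) I' := by
  unfold ξI
  rw [← Category.assoc, ← Spec.map_comp,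
    ← IsAffineOpen.map_fromSpec U.2 (X.affineBasicOpen f).2 (homOfLE <| X.basicOpen_le f).op,
    ← Category.assoc, ← Spec.map_comp]
  rfl

theorem ξI_comp (U : X.affineOpens) (I : Ideal Γ(X, U)) {R : CommRingCat.{u}}
    (ψ : CommRingCat.of (Γ(X, U) ⧸ I) ⟶ R) :
    Spec.map ψ ≫ ξI U I = Spec.map (CommRingCat.ofHom (Ideal.Quotient.mk I) ≫ ψ) ≫ U.2.fromSpec := by
  unfold ξI
  rw [Spec.map_comp, Category.assoc]

section main

variable (P : ∀ {T : Scheme.{u}}, (T ⟶ X) → Prop)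
  (hpre : ∀ {T T' : Scheme.{u}} (g : T' ⟶ T) (ξ : T ⟶ X), P ξ → P (g ≫ ξ))
  (hloc : ∀ {T : Scheme.{u}} (ξ : T ⟶ X) (𝒰 : Scheme.OpenCover.{u} T), (∀ i, P (𝒰.f i ≫ ξ)) → P ξ)
  (J : ∀ U : X.affineOpens, Ideal Γ(X, U))
  (hJ : ∀ (U : X.affineOpens) (R : CommRingCat.{u}) (φ : Γ(X, U) ⟶ R),
    P (Spec.map φ ≫ U.2.fromSpec) ↔ J U ≤ RingHom.ker φ.hom)

include hJ in
theorem P_ξI (U : X.affineOpens) : P (ξI U (J U)) := by
  unfold ξI
  rw [hJ]
  change J U ≤ RingHom.ker (Ideal.Quotient.mk (J U))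
  rw [Ideal.mk_ker]

include hpre hJ in
theorem map_J_basicOpen (U : X.affineOpens) (f : Γ(X, U)) :
    (J U).map (X.presheaf.map (homOfLE <| X.basicOpen_le f).op).hom = J (X.affineBasicOpen f) := by
  apply le_antisymm
  · rw [Ideal.map_le_iff_le_comap]
    have e := ξI_quotientMap U f (Ideal.comap (X.presheaf.map (homOfLE <| X.basicOpen_le f).op).hom
      (J (X.affineBasicOpen f))) (J (X.affineBasicOpen f)) le_rfl
    have h1 : P (ξI (X.affineBasicOpen f) (J (X.affineBasicOpen f))) := P_ξI P J hJ _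
    have h2 := Eq.mpr (congrArg (fun m => P m) e) h1
    have h3 := Eq.mp (congrArg (fun m => P m) (ξI_comp U _ _)) h2
    have h4 := (hJ U _ _).1 h3
    intro a ha
    have h5 := h4 ha
    rw [RingHom.mem_ker] at h5
    rw [Ideal.mem_comap]
    have h6 : (Ideal.quotientMap (J (X.affineBasicOpen f))
        (X.presheaf.map (homOfLE <| X.basicOpen_le f).op).hom le_rfl) (Ideal.Quotient.mk _ a) = 0 := h5
    rw [Ideal.quotientMap_mk, Ideal.Quotient.eq_zero_iff_mem] at h6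
    exact h6
  · have e := ξI_quotientMap U f (J U)
      (Ideal.map (X.presheaf.map (homOfLE <| X.basicOpen_le f).op).hom (J U)) Ideal.le_comap_map
    have h1 : P (ξI (X.affineBasicOpen f)
        (Ideal.map (X.presheaf.map (homOfLE <| X.basicOpen_le f).op).hom (J U))) :=
      Eq.mp (congrArg (fun m => P m) e) (hpre _ _ (P_ξI P J hJ U))
    have h2 := (hJ (X.affineBasicOpen f) _ _).1 h1
    intro a ha
    have h3 := h2 ha
    rw [RingHom.mem_ker] at h3
    exact Ideal.Quotient.eq_zero_iff_mem.1 h3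

include hpre hJ in
theorem J_le_ker_appLE {T : Scheme.{u}} (ξ : T ⟶ X) (hf : P ξ) (U : X.affineOpens) (V : T.affineOpens)
    (hV : V.1 ≤ ξ ⁻¹ᵁ U.1) : J U ≤ RingHom.ker (ξ.appLE U.1 V.1 hV).hom := by
  rw [← hJ, IsAffineOpen.SpecMap_appLE_fromSpec ξ U.2 V.2 hV]
  exact hpre _ _ hf

include hpre hJ in
theorem J_le_ker_app {T : Scheme.{u}} (ξ : T ⟶ X) (hf : P ξ) (U : X.affineOpens) :
    J U ≤ RingHom.ker (ξ.app U.1).hom := by
  intro a ha
  rw [RingHom.mem_ker]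
  refine T.IsSheaf.section_ext fun x hx => ?_
  obtain ⟨_, ⟨V, hV, rfl⟩, hxV, hVU⟩ := T.isBasis_affineOpens.exists_subset_of_mem_open
    (show x ∈ (ξ ⁻¹ᵁ U.1 : Set T) from hx) (ξ ⁻¹ᵁ U.1).2
  refine ⟨V, hVU, hxV, ?_⟩
  rw [map_zero]
  exact J_le_ker_appLE P hpre J hJ ξ hf U ⟨V, hV⟩ hVU ha

include hpre hloc hJ in
/-- **Local-to-global representability by a closed subscheme.** -/
theorem exists_closedImmersion :
    ∃ (Z : Scheme.{u}) (j : Z ⟶ X), IsClosedImmersion j ∧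
      ∀ {T : Scheme.{u}} (ξ : T ⟶ X), P ξ ↔ ∃ z : T ⟶ Z, z ≫ j = ξ := by
  obtain ⟨𝓙, h𝓙⟩ : ∃ 𝓙 : X.IdealSheafData, 𝓙.ideal = J :=
    ⟨{ ideal := J, map_ideal_basicOpen := map_J_basicOpen P hpre J hJ }, rfl⟩
  subst h𝓙
  have hPj : P 𝓙.subschemeι := by
    refine hloc _ 𝓙.subschemeCover.openCover fun U => ?_
    have e : 𝓙.subschemeCover.openCover.f U ≫ 𝓙.subschemeι = ξI U (𝓙.ideal U) := by
      change 𝓙.subschemeCover.f U ≫ 𝓙.subschemeι = _
      rw [Scheme.IdealSheafData.subschemeCover_map_subschemeι,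
        Scheme.IdealSheafData.glueDataObjι_ι]
      rfl
    exact Eq.mpr (congrArg (fun m => P m) e) (P_ξI P _ hJ U)
  refine ⟨𝓙.subscheme, 𝓙.subschemeι, inferInstance, fun {T} ξ => ⟨fun hf => ?_, ?_⟩⟩
  · refine ⟨IsClosedImmersion.lift 𝓙.subschemeι ξ ?_, IsClosedImmersion.lift_fac _ _ _⟩
    rw [Scheme.IdealSheafData.ker_subschemeι]
    change 𝓙 ≤ Scheme.IdealSheafData.ofIdeals _
    rw [Scheme.IdealSheafData.le_ofIdeals_iff]
    intro U
    exact J_le_ker_app P hpre _ hJ ξ hf U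
  · rintro ⟨z, rfl⟩
    exact hpre _ _ hPj

end main

/-- **Local-to-global representability by a closed subscheme** (existential form). -/
theorem exists_closedImmersion_of_localRep (P : ∀ {T : Scheme.{u}}, (T ⟶ X) → Prop)
    (hpre : ∀ {T T' : Scheme.{u}} (g : T' ⟶ T) (ξ : T ⟶ X), P ξ → P (g ≫ ξ))
    (hloc : ∀ {T : Scheme.{u}} (ξ : T ⟶ X) (𝒰 : Scheme.OpenCover.{u} T), (∀ i, P (𝒰.f i ≫ ξ)) → P ξ)
    (hrep : ∀ U : X.affineOpens, ∃ I : Ideal Γ(X, U), ∀ (R : CommRingCat.{u}) (φ : Γ(X, U) ⟶ R),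
      P (Spec.map φ ≫ U.2.fromSpec) ↔ I ≤ RingHom.ker φ.hom) :
    ∃ (Z : Scheme.{u}) (j : Z ⟶ X), IsClosedImmersion j ∧
      ∀ {T : Scheme.{u}} (ξ : T ⟶ X), P ξ ↔ ∃ z : T ⟶ Z, z ≫ j = ξ := by
  choose J hJ using hrep
  exact exists_closedImmersion P hpre hloc J hJ

end Groth.Agent.Lib.Seat89.LocRep
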