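import Groth.Agent.Lib.Seat89FixedDesc
import Groth.Agent.Lib.Seat89LocRep
import Groth.Agent.Lib.Seat89SigmaCI
import Groth.Agent.Lib.Helper11FixSch

/-!
# Fixed points of an affine group with locally free coordinate ring (helper89)

For a monoid object `A` of `Over S`, affine over `S` and with `Γ(A_U)` free over `Γ(U)` for an affine open `U` of `S`,
acting on `X` separated over `S`: fixedness of points `T ⟶ X` (with `T` affine over `U`) descends along jointly injective
families (`isFixed_of_family`).  Hence the fixed points are represented by a closed subscheme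
(`exists_closedImmersion_fixed`).
-/

set_option autoImplicit false
universe u
open CategoryTheory CategoryTheory.Limits MonoidalCategory CartesianMonoidalCategory MonObj AlgebraicGeometry Opposite
open Magnet

namespace Groth.Agent.Lib.Seat89.FixFree

open FixedDesc

variable {S : Scheme.{u}} {A X : Over S} [MonObj A] (a : MonAct A X)

theorem isFixed_iff {T : Over S} (x : T ⟶ X) : IsFixed a x ↔ (A ◁ x) ≫ a.act = snd A T ≫ x := by
  constructor
  · intro h
    have h1 := h (A ⊗ T) (snd A T) (fst A T)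
    have h2 : lift (fst A T) (snd A T ≫ x) = A ◁ x := by
      apply CartesianMonoidalCategory.hom_ext
      · rw [lift_fst, whiskerLeft_fst]
      · rw [lift_snd, whiskerLeft_snd]
    rw [h2] at h1
    exact h1
  · intro h T' t g
    have h4 : lift g (t ≫ x) = lift g t ≫ (A ◁ x) := by rw [lift_whiskerLeft]
    rw [h4, Category.assoc, h, lift_snd_assoc]

section Family

variable [IsAffineHom A.hom] [IsSeparated X.hom] (U : S.affineOpens)
  (hfree : @Module.Free Γ(S, U) Γ(A.left, A.hom ⁻¹ᵁ U) _ _ (A.hom.app U).hom.toAlgebra.toModule)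

/-- the open `A_U ×_S T` of `A ×_S T` (everything, when `T` lies over `U`) -/
noncomputable abbrev box (U : S.affineOpens) (T : Over S) : (A ⊗ T).left.Opens :=
  pullback.fst A.hom T.hom ⁻¹ᵁ (A.hom ⁻¹ᵁ U.1) ⊓ pullback.snd A.hom T.hom ⁻¹ᵁ ⊤

theorem box_eq_top {T : Over S} (hTU : (⊤ : T.left.Opens) ≤ T.hom ⁻¹ᵁ U.1) : box (A := A) U T = ⊤ := by
  rw [eq_top_iff]
  intro z _
  refine ⟨?_, trivial⟩
  change A.hom (pullback.fst A.hom T.hom z) ∈ U.1
  rw [← Scheme.Hom.comp_apply, pullback.condition, Scheme.Hom.comp_apply]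
  exact hTU (Set.mem_univ _)

theorem isAffineOpen_box {T : Over S} [IsAffine T.left] (hTU : (⊤ : T.left.Opens) ≤ T.hom ⁻¹ᵁ U.1) :
    IsAffineOpen (box (A := A) U T) := by
  have H : IsPullback (pullback.fst A.hom T.hom) (pullback.snd A.hom T.hom) A.hom T.hom :=
    IsPullback.of_hasPullback _ _
  have : IsAffine U.1 := U.2
  have : IsAffine (⊤ : T.left.Opens) := isAffineOpen_top T.left
  have : IsAffine (A.hom ⁻¹ᵁ U.1) := U.2.preimage A.hom
  exact .of_isIso (Scheme.Hom.isPullback_resLE H hTU le_rfl rfl).isoPullback.hom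

theorem isPushout_box {T : Over S} [IsAffine T.left] (hTU : (⊤ : T.left.Opens) ≤ T.hom ⁻¹ᵁ U.1) :
    IsPushout (T.hom.appLE U.1 ⊤ hTU) (A.hom.appLE U.1 (A.hom ⁻¹ᵁ U.1) le_rfl)
      ((pullback.snd A.hom T.hom).appLE ⊤ (box (A := A) U T) inf_le_right)
      ((pullback.fst A.hom T.hom).appLE (A.hom ⁻¹ᵁ U.1) (box (A := A) U T) inf_le_left) := by
  have H : IsPullback (pullback.fst A.hom T.hom) (pullback.snd A.hom T.hom) A.hom T.hom :=
    IsPullback.of_hasPullback _ _
  have hiso := isIso_pushoutSection_of_isAffineOpen H hTU (le_refl (A.hom ⁻¹ᵁ U.1))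
    (UY := box (A := A) U T) rfl U.2 (isAffineOpen_top T.left) (U.2.preimage A.hom)
  exact ((isIso_pushoutSection_iff H hTU (le_refl (A.hom ⁻¹ᵁ U.1)) rfl).mp hiso).flip

include hfree in
/-- **descent of fixedness along jointly injective families** -/
theorem isFixed_of_family {T : Over S} [IsAffine T.left] (hTU : (⊤ : T.left.Opens) ≤ T.hom ⁻¹ᵁ U.1)
    (x : T ⟶ X) {J : Type*} (T' : J → Over S) [∀ c, IsAffine (T' c).left] (τ : ∀ c, T' c ⟶ T)
    (hinj : ∀ s : Γ(T.left, ⊤), (∀ c, (τ c).left.appLE ⊤ ⊤ le_top s = 0) → s = 0)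
    (H : ∀ c, IsFixed a (τ c ≫ x)) : IsFixed a x := by
  rw [isFixed_iff]
  have hab : ((A ◁ x) ≫ a.act).left ≫ X.hom = (snd A T ≫ x).left ≫ X.hom := by rw [Over.w, Over.w]
  obtain ⟨E, e, he, hea, hlift⟩ := Helper11FixSch.exists_equalizer_closedImmersion X.hom _ _ hab
  have hT'U : ∀ c, (⊤ : (T' c).left.Opens) ≤ (T' c).hom ⁻¹ᵁ U.1 := by
    intro c z _
    have h1 : (τ c).left ≫ T.hom = (T' c).hom := Over.w (τ c)
    change (T' c).hom z ∈ U.1
    rw [← h1, Scheme.Hom.comp_apply]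
    exact hTU (Set.mem_univ _)
  have hm : ∀ c, (A ◁ τ c).left ≫ ((A ◁ x) ≫ a.act).left = (A ◁ τ c).left ≫ (snd A T ≫ x).left := by
    intro c
    have h1 := (isFixed_iff a (τ c ≫ x)).1 (H c)
    rw [← Over.comp_left, ← Over.comp_left]
    congr 1
    rw [← Category.assoc, ← MonoidalCategory.whiskerLeft_comp, h1, whiskerLeft_snd_assoc]
  choose l hl using fun c => hlift (A ◁ τ c).left (hm c)
  have hm1 : ∀ c, (A ◁ τ c).left ≫ pullback.fst A.hom T.hom = pullback.fst A.hom (T' c).hom := fun c =>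
    congrArg (fun k => k.left) (whiskerLeft_fst A (τ c))
  have hm2 : ∀ c, (A ◁ τ c).left ≫ pullback.snd A.hom T.hom =
      pullback.snd A.hom (T' c).hom ≫ (τ c).left := fun c =>
    congrArg (fun k => k.left) (whiskerLeft_snd A (τ c))
  suffices hiso : IsIso e by
    apply Over.OverMorphism.ext
    rw [← cancel_epi e]
    exact hea
  rw [IsClosedImmersion.isIso_iff_ker_eq_bot, ← le_bot_iff]
  refine Scheme.IdealSheafData.le_of_iSup_eq_top
    (fun _ : Unit => (⟨box (A := A) U T, isAffineOpen_box U hTU⟩ : (A ⊗ T).left.affineOpens)) ?_ ?_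
  · change ⨆ _ : Unit, box (A := A) U T = ⊤
    rw [box_eq_top U hTU]
    simp
  · intro _ s hs
    rw [Scheme.Hom.ker_apply, RingHom.mem_ker] at hs
    change s = 0
    have hle : ∀ c, box (A := A) U (T' c) ≤ (A ◁ τ c).left ⁻¹ᵁ box (A := A) U T := by
      intro c p _
      rw [box_eq_top U hTU]
      trivial
    have hfree' : letI := (A.hom.appLE U.1 (A.hom ⁻¹ᵁ U.1) le_rfl).hom.toAlgebra
        Module.Free Γ(S, U.1) Γ(A.left, A.hom ⁻¹ᵁ U.1) := by
      rw [Scheme.Hom.appLE_eq_app]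
      exact hfree
    refine Groth.Agent.Lib.Helper11FixAlg.eq_zero_of_isPushout (isPushout_box U hTU) hfree'
      (fun c => (T' c).hom.appLE U.1 ⊤ (hT'U c))
      (fun c => (pullback.fst A.hom (T' c).hom).appLE (A.hom ⁻¹ᵁ U.1) (box (A := A) U (T' c)) inf_le_left)
      (fun c => (pullback.snd A.hom (T' c).hom).appLE ⊤ (box (A := A) U (T' c)) inf_le_right)
      (fun c => isPushout_box U (hT'U c))
      (fun c => (τ c).left.appLE ⊤ ⊤ le_top)
      (fun c => (A ◁ τ c).left.appLE (box (A := A) U T) (box (A := A) U (T' c)) (hle c))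
      ?_ ?_ hinj s ?_
    · intro c
      rw [Scheme.Hom.appLE_comp_appLE]
      exact Groth.Agent.Lib.Helper11FixSch.appLE_eq_of_eq (hm1 c) _ _ _
    · intro c
      rw [Scheme.Hom.appLE_comp_appLE, Scheme.Hom.appLE_comp_appLE]
      exact Groth.Agent.Lib.Helper11FixSch.appLE_eq_of_eq (hm2 c) _ _ _
    · intro c
      have h1 : (A ◁ τ c).left.appLE (box (A := A) U T) (box (A := A) U (T' c)) (hle c) =
          (l c ≫ e).appLE (box (A := A) U T) (box (A := A) U (T' c))
            ((hl c).symm ▸ hle c) := Groth.Agent.Lib.Helper11FixSch.appLE_eq_of_eq (hl c).symm _ _ _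
      rw [h1, Scheme.Hom.comp_appLE, CommRingCat.comp_apply, hs, map_zero]

end Family

section Ideal

open LocRep

/-- a property of points of `X₀` which descends along jointly injective families of ring maps (at an affine open `V`) is
cut out on `V` by an ideal -/
theorem exists_ideal_of_family {X₀ : Scheme.{u}} (P : ∀ {T : Scheme.{u}}, (T ⟶ X₀) → Prop)
    (hpre : ∀ {T T' : Scheme.{u}} (g : T' ⟶ T) (ξ : T ⟶ X₀), P ξ → P (g ≫ ξ)) (V : X₀.affineOpens)
    (hfam : ∀ {R : CommRingCat.{u}} (φ : Γ(X₀, V) ⟶ R) {J : Type u} (R' : J → CommRingCat.{u})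
      (ψ : ∀ c, R ⟶ R' c), (∀ r : R, (∀ c, ψ c r = 0) → r = 0) →
      (∀ c, P (Spec.map (φ ≫ ψ c) ≫ V.2.fromSpec)) → P (Spec.map φ ≫ V.2.fromSpec)) :
    ∃ I : Ideal Γ(X₀, V), ∀ (R : CommRingCat.{u}) (φ : Γ(X₀, V) ⟶ R),
      P (Spec.map φ ≫ V.2.fromSpec) ↔ I ≤ RingHom.ker φ.hom := by
  obtain ⟨𝒮, h𝒮⟩ : ∃ 𝒮 : Set (Ideal Γ(X₀, V)),
      𝒮 = {I | P (Spec.map (CommRingCat.ofHom (Ideal.Quotient.mk I)) ≫ V.2.fromSpec)} := ⟨_, rfl⟩
  have hmem : ∀ I : Ideal Γ(X₀, V), I ∈ 𝒮 ↔
      P (Spec.map (CommRingCat.ofHom (Ideal.Quotient.mk I)) ≫ V.2.fromSpec) := by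
    intro I
    rw [h𝒮]
    rfl
  have hI₀ : P (Spec.map (CommRingCat.ofHom (Ideal.Quotient.mk (sInf 𝒮))) ≫ V.2.fromSpec) := by
    refine hfam (CommRingCat.ofHom (Ideal.Quotient.mk (sInf 𝒮))) (J := ↥𝒮)
      (fun c => CommRingCat.of (Γ(X₀, V) ⧸ c.1))
      (fun c => CommRingCat.ofHom (Ideal.Quotient.factor (sInf_le c.2))) ?_ ?_
    · intro r hr
      obtain ⟨x, rfl⟩ := Ideal.Quotient.mk_surjective r
      rw [Ideal.Quotient.eq_zero_iff_mem, Ideal.mem_sInf]
      intro I hI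
      have h1 := hr ⟨I, hI⟩
      have h2 : Ideal.Quotient.factor (sInf_le hI) (Ideal.Quotient.mk _ x) = 0 := h1
      rw [Ideal.Quotient.factor_mk (sInf_le hI) x, Ideal.Quotient.eq_zero_iff_mem] at h2
      exact h2
    · intro c
      have hc := (hmem c.1).1 c.2
      have e : CommRingCat.ofHom (Ideal.Quotient.mk (sInf 𝒮)) ≫
          CommRingCat.ofHom (Ideal.Quotient.factor (sInf_le c.2)) =
          CommRingCat.ofHom (Ideal.Quotient.mk c.1) := by
        apply CommRingCat.hom_ext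
        apply RingHom.ext
        intro x
        exact Ideal.Quotient.factor_mk (sInf_le c.2) x
      rw [e]
      exact hc
  refine ⟨sInf 𝒮, fun R φ => ⟨fun h => ?_, fun h => ?_⟩⟩
  · apply sInf_le
    rw [hmem]
    refine hfam (CommRingCat.ofHom (Ideal.Quotient.mk (RingHom.ker φ.hom))) (J := PUnit.{u + 1})
      (fun _ => R) (fun _ => CommRingCat.ofHom (RingHom.kerLift φ.hom)) ?_ ?_
    · intro r hr
      exact (RingHom.kerLift_injective φ.hom) ((hr PUnit.unit).trans (map_zero _).symm)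
    · intro _
      have e : CommRingCat.ofHom (Ideal.Quotient.mk (RingHom.ker φ.hom)) ≫
          CommRingCat.ofHom (RingHom.kerLift φ.hom) = φ := by
        apply CommRingCat.hom_ext
        apply RingHom.ext
        intro x
        exact RingHom.kerLift_mk φ.hom x
      rw [e]
      exact h
  · have e : φ = CommRingCat.ofHom (Ideal.Quotient.mk (sInf 𝒮)) ≫
        CommRingCat.ofHom (Ideal.Quotient.lift (sInf 𝒮) φ.hom (fun x hx => h hx)) := by
      apply CommRingCat.hom_ext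
      apply RingHom.ext
      intro x
      exact (Ideal.Quotient.lift_mk (a := x) (sInf 𝒮) φ.hom (fun x hx => h hx)).symm
    rw [e, Spec.map_comp, Category.assoc]
    exact hpre _ _ hI₀

end Ideal

section Main

variable [IsAffineHom A.hom] [IsSeparated X.hom]

/-- descent of (scheme-level) fixedness along jointly injective families of ring maps -/
theorem P_of_family (U : S.affineOpens)
    (hfree : @Module.Free Γ(S, U) Γ(A.left, A.hom ⁻¹ᵁ U) _ _ (A.hom.app U).hom.toAlgebra.toModule)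
    {R : CommRingCat.{u}} (ξ : Spec R ⟶ X.left) (hξ : ∀ z, X.hom (ξ z) ∈ U.1)
    {J : Type u} (R' : J → CommRingCat.{u}) (ψ : ∀ c, R ⟶ R' c)
    (hinj : ∀ r : R, (∀ c, ψ c r = 0) → r = 0)
    (H : ∀ c, P a (Spec.map (ψ c) ≫ ξ)) : P a ξ := by
  unfold P
  obtain ⟨T, hT⟩ : ∃ T : Over S, T = Over.mk (ξ ≫ X.hom) := ⟨_, rfl⟩
  haveI : IsAffine (Over.mk (ξ ≫ X.hom)).left := inferInstanceAs (IsAffine (Spec R))
  have hTU : (⊤ : (Over.mk (ξ ≫ X.hom)).left.Opens) ≤ (Over.mk (ξ ≫ X.hom)).hom ⁻¹ᵁ U.1 := by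
    intro z _
    change (ξ ≫ X.hom) z ∈ U.1
    rw [Scheme.Hom.comp_apply]
    exact hξ z
  haveI : ∀ c : J, IsAffine ((fun c => Over.mk ((Spec.map (ψ c) ≫ ξ) ≫ X.hom)) c).left :=
    fun c => inferInstanceAs (IsAffine (Spec (R' c)))
  refine isFixed_of_family a U hfree hTU (Over.homMk ξ : Over.mk (ξ ≫ X.hom) ⟶ X)
    (fun c => Over.mk ((Spec.map (ψ c) ≫ ξ) ≫ X.hom))
    (fun c => Over.homMk (Spec.map (ψ c)) (by simp)) ?_ ?_
  · intro s hs
    change Γ(Spec R, ⊤) at s
    obtain ⟨r, rfl⟩ : ∃ r, (Scheme.ΓSpecIso R).inv r = s :=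
      ⟨(Scheme.ΓSpecIso R).hom s, by simp⟩
    have hr : r = 0 := by
      apply hinj
      intro c
      have h1 := congr($(Scheme.ΓSpecIso_inv_naturality (ψ c)) r)
      rw [CommRingCat.comp_apply, CommRingCat.comp_apply] at h1
      have h2 : (Spec.map (ψ c)).appTop ((Scheme.ΓSpecIso R).inv r) = 0 := hs c
      rw [h2] at h1
      have := congrArg (Scheme.ΓSpecIso (R' c)).hom h1
      simpa using this
    rw [hr, map_zero]
  · intro c
    have h1 := H c
    unfold P at h1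
    have e : (Over.homMk (Spec.map (ψ c)) (by simp) :
        Over.mk ((Spec.map (ψ c) ≫ ξ) ≫ X.hom) ⟶ Over.mk (ξ ≫ X.hom)) ≫
        (Over.homMk ξ : Over.mk (ξ ≫ X.hom) ⟶ X) = Over.homMk (Spec.map (ψ c) ≫ ξ) := by
      apply Over.OverMorphism.ext
      simp
    rw [e]
    exact h1

/-- local representability over an affine open of the base over which `Γ(A)` is free -/
theorem exists_closedImmersion_preimage (U : S.affineOpens)
    (hfree : @Module.Free Γ(S, U) Γ(A.left, A.hom ⁻¹ᵁ U) _ _ (A.hom.app U).hom.toAlgebra.toModule) :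
    ∃ (Z : Scheme.{u}) (j : Z ⟶ (↑(X.hom ⁻¹ᵁ U.1) : Scheme.{u})), IsClosedImmersion j ∧
      ∀ {T : Scheme.{u}} (u : T ⟶ (↑(X.hom ⁻¹ᵁ U.1) : Scheme.{u})),
        P a (u ≫ (X.hom ⁻¹ᵁ U.1).ι) ↔ ∃ w : T ⟶ Z, w ≫ j = u := by
  refine LocRep.exists_closedImmersion_of_localRep (X := (↑(X.hom ⁻¹ᵁ U.1) : Scheme.{u}))
    (fun {T} u => P a (u ≫ (X.hom ⁻¹ᵁ U.1).ι)) ?_ ?_ ?_
  · intro T T' g ξ h
    rw [Category.assoc]
    exact P_precomp a g _ h
  · intro T ξ 𝒰 h
    refine P_loc a _ 𝒰 fun i => ?_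
    rw [← Category.assoc]
    exact h i
  · intro V
    refine exists_ideal_of_family (fun {T} u => P a (u ≫ (X.hom ⁻¹ᵁ U.1).ι)) ?_ V ?_
    · intro T T' g ξ h
      rw [Category.assoc]
      exact P_precomp a g _ h
    · intro R φ J R' ψ hinj H
      refine P_of_family a U hfree _ ?_ R' ψ hinj fun c => ?_
      · intro z
        rw [Scheme.Hom.comp_apply]
        exact (V.2.fromSpec (Spec.map φ z)).2
      · have h1 := H c
        rw [Spec.map_comp, Category.assoc, Category.assoc] at h1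
        rw [Category.assoc]
        exact h1

/-- **the fixed points of an affine, locally free monoid acting on a separated scheme form a closed subscheme**
(scheme-level form) -/
theorem exists_closedImmersion_fixed
    (hfree : ∀ s : S, ∃ U : S.affineOpens, s ∈ (U : S.Opens) ∧
      @Module.Free Γ(S, U) Γ(A.left, A.hom ⁻¹ᵁ U) _ _ (A.hom.app U).hom.toAlgebra.toModule) :
    ∃ (Z : Scheme.{u}) (j : Z ⟶ X.left), IsClosedImmersion j ∧
      ∀ {T : Scheme.{u}} (ξ : T ⟶ X.left), P a ξ ↔ ∃ z : T ⟶ Z, z ≫ j = ξ := by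
  choose Ufun hsU hUfree using hfree
  choose Z j hj hrep using fun s : S => exists_closedImmersion_preimage a (Ufun s) (hUfree s)
  have hU : TopologicalSpace.IsOpenCover (fun s : S => X.hom ⁻¹ᵁ (Ufun s).1) := by
    change ⨆ s : S, X.hom ⁻¹ᵁ (Ufun s).1 = ⊤
    rw [eq_top_iff]
    intro x _
    exact TopologicalSpace.Opens.mem_iSup.2 ⟨X.hom x, hsU (X.hom x)⟩
  exact @SigmaCI.exists_closedImmersion_of_openCover X.left (P a) (fun g ξ h => P_precomp a g ξ h)
    (fun p _ _ _ ξ h => P_desc a p ξ h) (fun ξ 𝒰 h => P_loc a ξ 𝒰 h)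
    (X.left.openCoverOfIsOpenCover (fun s : S => X.hom ⁻¹ᵁ (Ufun s).1) hU) Z j hj (fun s {T} u => hrep s u)

/-- **the fixed points of an affine, locally free monoid acting on a separated scheme form a closed subscheme** -/
theorem exists_closedImmersion_isFixed
    (hfree : ∀ s : S, ∃ U : S.affineOpens, s ∈ (U : S.Opens) ∧
      @Module.Free Γ(S, U) Γ(A.left, A.hom ⁻¹ᵁ U) _ _ (A.hom.app U).hom.toAlgebra.toModule) :
    ∃ (Z : Over S) (i : Z ⟶ X), IsClosedImmersion i.left ∧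
      ∀ (T : Over S) (x : T ⟶ X), IsFixed a x ↔ ∃ z : T ⟶ Z, z ≫ i = x := by
  obtain ⟨Z₀, j, hj, hZ⟩ := exists_closedImmersion_fixed a hfree
  refine ⟨Over.mk (j ≫ X.hom), Over.homMk j rfl, hj, fun T x => ?_⟩
  rw [← P_iff a x, hZ]
  constructor
  · rintro ⟨z, hz⟩
    have hz' : z ≫ (Over.mk (j ≫ X.hom)).hom = T.hom := by
      simp only [Over.mk_hom]
      rw [← Category.assoc, hz, Over.w]
    refine ⟨Over.homMk z hz', ?_⟩
    apply Over.OverMorphism.ext
    change z ≫ j = x.left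
    exact hz
  · rintro ⟨w, rfl⟩
    exact ⟨w.left, rfl⟩

end Main

end Groth.Agent.Lib.Seat89.FixFree
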