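import Groth.Agent.Lib.Seat89EtDesc
import Groth.Prelude.Def_Magnet3
import Mathlib.AlgebraicGeometry.Morphisms.Etale

/-!
# Étale descent of the representability of fixed points by a closed subscheme (helper89)

For an action `a` of a monoid object `A` of `Over S` on `X`, `IsFixed a x` says the `T`-point `x` is fixed.  This property
of `T`-points is stable under precomposition, descends along flat surjective morphisms and is Zariski local
(`P_precomp`, `P_desc`, `P_loc`).  Hence (`exists_representableBy_of_atlas`): if `f : U ⟶ X` is an equivariant, étale,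
surjective and fixed-point reflecting morphism and `U^A` is represented by a closed subscheme of `U`, then `X^A` is
represented by a closed subscheme of `X`.
-/

set_option autoImplicit false
universe u
open CategoryTheory CategoryTheory.Limits MonoidalCategory CartesianMonoidalCategory MonObj AlgebraicGeometry Opposite
open Magnet

namespace Groth.Agent.Lib.Seat89.FixedDesc

variable {S : Scheme.{u}} {A X : Over S} [MonObj A] (a : MonAct A X)

/-- the `T`-point `x` of `X` is fixed by `A` -/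
def IsFixed {T : Over S} (x : T ⟶ X) : Prop :=
  ∀ (T' : Over S) (t : T' ⟶ T) (g : T' ⟶ A), lift g (t ≫ x) ≫ a.act = t ≫ x

theorem IsFixed.precomp {T T' : Over S} {x : T ⟶ X} (h : IsFixed a x) (s : T' ⟶ T) : IsFixed a (s ≫ x) := by
  intro T'' t g
  rw [← Category.assoc]
  exact h T'' (t ≫ s) g

/-- the scheme-level predicate: the point `ξ : T₀ ⟶ X.left` is fixed -/
def P {T₀ : Scheme.{u}} (ξ : T₀ ⟶ X.left) : Prop :=
  IsFixed a (Over.homMk ξ : Over.mk (ξ ≫ X.hom) ⟶ X)

theorem P_iff {T : Over S} (x : T ⟶ X) : P a x.left ↔ IsFixed a x := by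
  obtain ⟨e, he⟩ : ∃ e : Over.mk (x.left ≫ X.hom) ≅ T,
      e.hom ≫ x = (Over.homMk x.left : Over.mk (x.left ≫ X.hom) ⟶ X) := by
    refine ⟨Over.isoMk (Iso.refl _) (by simp), ?_⟩
    apply Over.OverMorphism.ext
    simp
  unfold P
  constructor
  · intro h
    have h2 := h.precomp a e.inv
    rw [← he, Iso.inv_hom_id_assoc] at h2
    exact h2
  · intro h
    rw [← he]
    exact h.precomp a e.hom

theorem P_precomp {T T' : Scheme.{u}} (g : T' ⟶ T) (ξ : T ⟶ X.left) (h : P a ξ) : P a (g ≫ ξ) := by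
  unfold P at h ⊢
  have e : (Over.homMk (g ≫ ξ) : Over.mk ((g ≫ ξ) ≫ X.hom) ⟶ X) =
      (Over.homMk g (by simp) : Over.mk ((g ≫ ξ) ≫ X.hom) ⟶ Over.mk (ξ ≫ X.hom)) ≫ Over.homMk ξ := by
    apply Over.OverMorphism.ext
    simp
  rw [e]
  exact h.precomp a _

/-- the key computation: on the base change of `c : T' ⟶ T` the two maps `A × T ⟶ X` agree as soon as `c ≫ ξ` is
fixed -/
theorem key {T T' : Scheme.{u}} (c : T' ⟶ T) (ξ : T ⟶ X.left) (h : P a (c ≫ ξ)) :
    pullback.fst (snd A (Over.mk (ξ ≫ X.hom))).left c ≫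
        ((A ◁ (Over.homMk ξ : Over.mk (ξ ≫ X.hom) ⟶ X)) ≫ a.act).left =
      pullback.fst (snd A (Over.mk (ξ ≫ X.hom))).left c ≫
        (snd A (Over.mk (ξ ≫ X.hom)) ≫ (Over.homMk ξ : Over.mk (ξ ≫ X.hom) ⟶ X)).left := by
  obtain ⟨TO, hTO⟩ : ∃ TO : Over S, TO = Over.mk (ξ ≫ X.hom) := ⟨_, rfl⟩
  obtain ⟨x, hx⟩ : ∃ x : Over.mk (ξ ≫ X.hom) ⟶ X, x = Over.homMk ξ := ⟨_, rfl⟩
  rw [← hx]
  -- the objects over `S`
  obtain ⟨V, aO, bO, haO, hab⟩ : ∃ (V : Over S) (aO : V ⟶ A ⊗ Over.mk (ξ ≫ X.hom))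
      (bO : V ⟶ Over.mk ((c ≫ ξ) ≫ X.hom)),
      (∀ m₁ m₂ : (A ⊗ Over.mk (ξ ≫ X.hom)).left ⟶ X.left, aO.left ≫ m₁ = aO.left ≫ m₂ →
        pullback.fst (snd A (Over.mk (ξ ≫ X.hom))).left c ≫ m₁ =
          pullback.fst (snd A (Over.mk (ξ ≫ X.hom))).left c ≫ m₂) ∧
      aO ≫ snd A (Over.mk (ξ ≫ X.hom)) ≫ x = bO ≫ Over.homMk (c ≫ ξ) := by
    refine ⟨Over.mk (pullback.fst (snd A (Over.mk (ξ ≫ X.hom))).left c ≫ (A ⊗ Over.mk (ξ ≫ X.hom)).hom),
      Over.homMk (pullback.fst _ _) rfl, Over.homMk (pullback.snd _ _) ?_, fun _ _ h => h, ?_⟩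
    · have h1 := pullback.condition (f := (snd A (Over.mk (ξ ≫ X.hom))).left) (g := c)
      have h2 := Over.w (snd A (Over.mk (ξ ≫ X.hom)))
      simp only [Over.mk_hom, Category.assoc] at h2 ⊢
      rw [← Category.assoc, ← h1, Category.assoc, h2]
    · apply Over.OverMorphism.ext
      rw [hx]
      simp only [Over.comp_left, Over.homMk_left]
      rw [← Category.assoc, pullback.condition, Category.assoc]
  apply haO
  rw [← Over.comp_left, ← Over.comp_left]
  congr 1
  have h1 : A ◁ x = lift (fst A _) (snd A _ ≫ x) := by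
    apply CartesianMonoidalCategory.hom_ext
    · rw [whiskerLeft_fst, lift_fst]
    · rw [whiskerLeft_snd, lift_snd]
  rw [h1, ← Category.assoc, comp_lift, hab]
  exact h V bO (aO ≫ fst A _)

theorem P_desc {T T' : Scheme.{u}} (p : T' ⟶ T) [Flat p] [Surjective p] (ξ : T ⟶ X.left) (h : P a (p ≫ ξ)) :
    P a ξ := by
  have hk := key a p ξ h
  have hepi : Epi (pullback.fst (snd A (Over.mk (ξ ≫ X.hom))).left p) := Flat.epi_of_flat_of_surjective _
  have h2 := (cancel_epi _).1 hk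
  have h3 : (A ◁ (Over.homMk ξ : Over.mk (ξ ≫ X.hom) ⟶ X)) ≫ a.act =
      snd A (Over.mk (ξ ≫ X.hom)) ≫ (Over.homMk ξ : Over.mk (ξ ≫ X.hom) ⟶ X) := Over.OverMorphism.ext h2
  intro T'' t g
  have h4 : lift g (t ≫ (Over.homMk ξ : Over.mk (ξ ≫ X.hom) ⟶ X)) = lift g t ≫ (A ◁ Over.homMk ξ) := by
    rw [lift_whiskerLeft]
  rw [h4, Category.assoc, h3, lift_snd_assoc]

theorem P_loc {T : Scheme.{u}} (ξ : T ⟶ X.left) (𝒰 : Scheme.OpenCover.{u} T) (h : ∀ i, P a (𝒰.f i ≫ ξ)) :
    P a ξ := by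
  have h2 : ((A ◁ (Over.homMk ξ : Over.mk (ξ ≫ X.hom) ⟶ X)) ≫ a.act).left =
      (snd A (Over.mk (ξ ≫ X.hom)) ≫ (Over.homMk ξ : Over.mk (ξ ≫ X.hom) ⟶ X)).left := by
    refine Scheme.Cover.hom_ext (𝒰.pullback₁ (snd A (Over.mk (ξ ≫ X.hom))).left) _ _ fun i => ?_
    exact key a (𝒰.f i) ξ (h i)
  have h3 : (A ◁ (Over.homMk ξ : Over.mk (ξ ≫ X.hom) ⟶ X)) ≫ a.act =
      snd A (Over.mk (ξ ≫ X.hom)) ≫ (Over.homMk ξ : Over.mk (ξ ≫ X.hom) ⟶ X) := Over.OverMorphism.ext h2
  intro T'' t g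
  have h4 : lift g (t ≫ (Over.homMk ξ : Over.mk (ξ ≫ X.hom) ⟶ X)) = lift g t ≫ (A ◁ Over.homMk ξ) := by
    rw [lift_whiskerLeft]
  rw [h4, Category.assoc, h3, lift_snd_assoc]

section Main

variable {U : Over S} (aX : MonAct A X) (aU : MonAct A U) (f : U ⟶ X)

/-- fixed-point reflecting: a point of `U` is fixed iff its image in `X` is -/
theorem isFixed_comp_iff (hf : MonAct.IsEquivariant aU aX f)
    (hfpr : IsPullback (MonAct.fixedPsh.map f hf) (MonAct.fixedPshι aU) (MonAct.fixedPshι aX) (yoneda.map f))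
    {T : Over S} (u : T ⟶ U) : IsFixed aX (u ≫ f) ↔ IsFixed aU u := by
  constructor
  · intro h
    have hT := hfpr.map ((evaluation (Over S)ᵒᵖ (Type u)).obj (op T))
    rw [Limits.Types.isPullback_iff] at hT
    obtain ⟨-, -, hex⟩ := hT
    obtain ⟨p, -, hp2⟩ := hex (⟨u ≫ f, h⟩ : (MonAct.fixedPsh aX).obj (op T)) u rfl
    have : p.1 = u := hp2
    rw [← this]
    exact p.2
  · intro h
    exact ((MonAct.fixedPsh.map f hf).app (op T) ⟨u, h⟩).2

theorem exists_representableBy_of_atlas [Flat f.left] [Surjective f.left] [UniversallyOpen f.left]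
    (hf : MonAct.IsEquivariant aU aX f)
    (hfpr : IsPullback (MonAct.fixedPsh.map f hf) (MonAct.fixedPshι aU) (MonAct.fixedPshι aX) (yoneda.map f))
    (hU : ∃ (W' : Over S) (i' : W' ⟶ U) (e' : (MonAct.fixedPsh aU).RepresentableBy W'),
      IsClosedImmersion i'.left ∧ ∀ (T : Over S) (w : T ⟶ W'),
        (MonAct.fixedPshι aU).app (op T) (e'.homEquiv w) = w ≫ i') :
    ∃ (W : Over S) (i : W ⟶ X) (e : (MonAct.fixedPsh aX).RepresentableBy W),
      IsClosedImmersion i.left ∧ ∀ (T : Over S) (w : T ⟶ W),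
        (MonAct.fixedPshι aX).app (op T) (e.homEquiv w) = w ≫ i := by
  obtain ⟨W', i', e', hi', he'⟩ := hU
  -- points of `U^A` are the points factoring through `W'`
  have hW' : ∀ {T : Over S} (u : T ⟶ U), IsFixed aU u ↔ ∃ w : T ⟶ W', w ≫ i' = u := by
    intro T u
    constructor
    · intro h
      refine ⟨e'.homEquiv.symm ⟨u, h⟩, ?_⟩
      have := he' T (e'.homEquiv.symm ⟨u, h⟩)
      rw [Equiv.apply_symm_apply] at this
      exact this.symm
    · rintro ⟨w, rfl⟩
      have := he' T w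
      have h2 : (e'.homEquiv w).1 = w ≫ i' := this
      rw [← h2]
      exact (e'.homEquiv w).2
  have hrep : ∀ {T : Scheme.{u}} (u : T ⟶ U.left), P aX (u ≫ f.left) ↔ ∃ w : T ⟶ W'.left, w ≫ i'.left = u := by
    intro T u
    obtain ⟨uO, huO⟩ : ∃ uO : Over.mk (u ≫ U.hom) ⟶ U, uO.left = u := ⟨Over.homMk u, rfl⟩
    have h1 : P aX (u ≫ f.left) ↔ IsFixed aX (uO ≫ f) := by
      have := P_iff aX (uO ≫ f)
      rw [Over.comp_left, huO] at this
      exact this
    rw [h1, isFixed_comp_iff aX aU f hf hfpr, hW']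
    constructor
    · rintro ⟨w, hw⟩
      refine ⟨w.left, ?_⟩
      rw [← Over.comp_left, hw, huO]
    · rintro ⟨w, hw⟩
      have hw' : w ≫ W'.hom = (Over.mk (u ≫ U.hom)).hom := by
        have := Over.w i'
        simp only [Over.mk_hom]
        rw [← hw, Category.assoc, this]
      refine ⟨Over.homMk w hw', ?_⟩
      apply Over.OverMorphism.ext
      change w ≫ i'.left = uO.left
      rw [hw, huO]
  obtain ⟨Z, j, hj, hZ⟩ := EtDesc.exists_closedImmersion_of_atlas f.left i'.left (P aX)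
    (fun g ξ h => P_precomp aX g ξ h) (fun p _ _ ξ h => P_desc aX p ξ h) (fun ξ 𝒰 h => P_loc aX ξ 𝒰 h) hrep
  have hmono : Mono j := inferInstance
  -- the representing object
  obtain ⟨W, i, hWi, hileft⟩ : ∃ (W : Over S) (i : W ⟶ X), IsClosedImmersion i.left ∧
      ∀ {T : Over S} (x : T ⟶ X), IsFixed aX x ↔ ∃ w : T ⟶ W, w ≫ i = x := by
    refine ⟨Over.mk (j ≫ X.hom), Over.homMk j rfl, hj, fun {T} x => ?_⟩
    rw [← P_iff aX x, hZ]
    constructor
    · rintro ⟨z, hz⟩
      have hz' : z ≫ (Over.mk (j ≫ X.hom)).hom = T.hom := by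
        simp only [Over.mk_hom]
        rw [← Category.assoc, hz, Over.w]
      refine ⟨Over.homMk z hz', ?_⟩
      apply Over.OverMorphism.ext
      change z ≫ j = x.left
      exact hz
    · rintro ⟨w, rfl⟩
      exact ⟨w.left, rfl⟩
  have himono : Mono i := by
    have : Mono i.left := inferInstance
    exact Over.mono_of_mono_left i
  obtain ⟨e, he⟩ : ∃ e : (MonAct.fixedPsh aX).RepresentableBy W,
      ∀ (T : Over S) (w : T ⟶ W), (e.homEquiv w).1 = w ≫ i := by
    refine ⟨{ homEquiv := fun {T} =>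
                { toFun := fun w => ⟨w ≫ i, (hileft _).2 ⟨w, rfl⟩⟩
                  invFun := fun x => ((hileft x.1).1 x.2).choose
                  left_inv := fun w => ?_
                  right_inv := fun x => ?_ }
              homEquiv_comp := ?_ }, fun _ _ => rfl⟩
    · have := ((hileft (w ≫ i)).1 ((hileft _).2 ⟨w, rfl⟩)).choose_spec
      exact (cancel_mono i).1 this
    · exact Subtype.ext ((hileft x.1).1 x.2).choose_spec
    · intro T T' g w
      apply Subtype.ext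
      change (g ≫ w) ≫ i = g ≫ (w ≫ i)
      rw [Category.assoc]
  exact ⟨W, i, e, hWi, fun T w => he T w⟩

end Main

end Groth.Agent.Lib.Seat89.FixedDesc
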