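import Groth.Agent.Lib.Seat89AffAttrRep

/-!
# Homogeneity of the components of a coaction (helper89)

For `X : Over S` with `X.left` affine and an action `a` of `A(M)_S`, the components `b_m = (coact a b).coeff m` of
`b ∈ Γ(X)` are homogeneous: `coact a b_m = b_m · e^m` (`coact_coeff`; this is coassociativity of the coaction).
Consequently, for `f : M →+ Z` and a magnet `Y` of `Z`, the component ideal of `a` for `f⁻¹ Y` is contained in the
component ideal of the `A(Z)`-action through `f` for `Y` (`compIdeal_comap_le`).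
-/

set_option autoImplicit false
universe u
open CategoryTheory CategoryTheory.Limits MonoidalCategory CartesianMonoidalCategory MonObj AlgebraicGeometry Opposite
open Magnet

namespace Groth.Agent.Lib.Seat89.Homog

open Coord MonAlg AttrDesc AffAttr

section Coassoc

variable {S : Scheme.{u}} {M : Type} [AddCommMonoid M] {X : Over S} [IsAffine X.left]

local instance instAffTensor : IsAffine (AMonS S M ⊗ X).left := isAffine_tensor S M X

/-- the map `A(M) × (A(M) × X) ⟶ A(M) × X`, `(g, (g', x)) ↦ (g g', x)` -/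
noncomputable abbrev mulMap (S : Scheme.{u}) (M : Type) [AddCommMonoid M] (X : Over S) :
    AMonS S M ⊗ (AMonS S M ⊗ X) ⟶ AMonS S M ⊗ X :=
  lift (fst (AMonS S M) (AMonS S M ⊗ X) * (snd (AMonS S M) (AMonS S M ⊗ X) ≫ fst (AMonS S M) X))
    (snd (AMonS S M) (AMonS S M ⊗ X) ≫ snd (AMonS S M) X)

omit [IsAffine X.left] in
theorem mulMap_act (a : MonAct (AMonS S M) X) : mulMap S M X ≫ a.act = (AMonS S M ◁ a.act) ≫ a.act := by
  unfold mulMap
  rw [MonAct.lift_mul_act]
  have h1 : lift (snd (AMonS S M) (AMonS S M ⊗ X) ≫ fst (AMonS S M) X)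
      (snd (AMonS S M) (AMonS S M ⊗ X) ≫ snd (AMonS S M) X) = snd (AMonS S M) (AMonS S M ⊗ X) := by
    rw [← comp_lift, lift_fst_snd, Category.comp_id]
  rw [h1]
  congr 1

theorem eY_single' (Y : Over S) [IsAffine Y.left] (m : M) (c : Γ(Y.left, ⊤)) :
    eY S M Y (MonoidAlgebra.single (Multiplicative.ofAdd m) c) =
      coord (fst (AMonS S M) Y) m * (snd (AMonS S M) Y).left.appTop.hom c := by
  have h : (MonoidAlgebra.single (Multiplicative.ofAdd m) c : MonoidAlgebra Γ(Y.left, ⊤) (Multiplicative M)) =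
      MonoidAlgebra.single (Multiplicative.ofAdd m) 1 * MonoidAlgebra.single 1 c := by
    rw [MonoidAlgebra.single_mul_single, _root_.mul_one, _root_.one_mul]
  rw [h, map_mul, eY_single, eY_const]

theorem mulMap_appTop_single (m : M) (c : Γ(X.left, ⊤)) :
    (mulMap S M X).left.appTop.hom (eY S M X (MonoidAlgebra.single (Multiplicative.ofAdd m) c)) =
      eY S M (AMonS S M ⊗ X)
        (MonoidAlgebra.single (Multiplicative.ofAdd m) (eY S M X (MonoidAlgebra.single (Multiplicative.ofAdd m) c))) := by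
  rw [eY_single', eY_single', map_mul, map_mul, ← coord_comp, ← coord_comp]
  have e1 : mulMap S M X ≫ fst (AMonS S M) X =
      fst (AMonS S M) (AMonS S M ⊗ X) * (snd (AMonS S M) (AMonS S M ⊗ X) ≫ fst (AMonS S M) X) := lift_fst _ _
  have e2 : mulMap S M X ≫ snd (AMonS S M) X = snd (AMonS S M) (AMonS S M ⊗ X) ≫ snd (AMonS S M) X :=
    lift_snd _ _
  rw [e1, coord_mul, _root_.mul_assoc]
  congr 1
  congr 1
  have e3 := congrArg (fun k => k.left.appTop.hom c) e2
  simp only [Over.comp_left, Scheme.Hom.comp_appTop, CommRingCat.hom_comp, RingHom.comp_apply] at e3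
  exact e3

/-- the `m`-th component of `mulMap^# (eY y)` -/
theorem mulMap_appTop_coeff (m : M) (y : MonoidAlgebra Γ(X.left, ⊤) (Multiplicative M)) :
    ((eY S M (AMonS S M ⊗ X)).symm ((mulMap S M X).left.appTop.hom (eY S M X y))).coeff (Multiplicative.ofAdd m) =
      eY S M X (MonoidAlgebra.single (Multiplicative.ofAdd m) (y.coeff (Multiplicative.ofAdd m))) := by
  obtain ⟨F, hF⟩ : ∃ F : MonoidAlgebra Γ(X.left, ⊤) (Multiplicative M) →+ Γ((AMonS S M ⊗ X).left, ⊤),
      ∀ y, F y = ((eY S M (AMonS S M ⊗ X)).symm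
        ((mulMap S M X).left.appTop.hom (eY S M X y))).coeff (Multiplicative.ofAdd m) :=
    ⟨{ toFun := fun y => ((eY S M (AMonS S M ⊗ X)).symm
        ((mulMap S M X).left.appTop.hom (eY S M X y))).coeff (Multiplicative.ofAdd m)
       map_zero' := by simp
       map_add' := fun y y' => by simp }, fun _ => rfl⟩
  obtain ⟨G, hG⟩ : ∃ G : MonoidAlgebra Γ(X.left, ⊤) (Multiplicative M) →+ Γ((AMonS S M ⊗ X).left, ⊤),
      ∀ y, G y = eY S M X (MonoidAlgebra.single (Multiplicative.ofAdd m) (y.coeff (Multiplicative.ofAdd m))) :=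
    ⟨{ toFun := fun y => eY S M X (MonoidAlgebra.single (Multiplicative.ofAdd m) (y.coeff (Multiplicative.ofAdd m)))
       map_zero' := by simp
       map_add' := fun y y' => by simp }, fun _ => rfl⟩
  have hFG : F = G := by
    apply MonoidAlgebra.addMonoidHom_ext
    intro m' c
    obtain ⟨m₀, rfl⟩ : ∃ m₀ : M, Multiplicative.ofAdd m₀ = m' := ⟨Multiplicative.toAdd m', rfl⟩
    rw [hF, hG, mulMap_appTop_single, RingEquiv.symm_apply_apply]
    by_cases hm : m₀ = m
    · subst hm
      simp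
    · have hne : Multiplicative.ofAdd m₀ ≠ Multiplicative.ofAdd m := fun h => hm (Multiplicative.ofAdd.injective h)
      simp [MonoidAlgebra.coeff_single, hne]
  rw [← hF, ← hG, hFG]

/-- **homogeneity of the components of the coaction** (coassociativity) -/
theorem coact_coeff (a : MonAct (AMonS S M) X) (b : Γ(X.left, ⊤)) (m : M) :
    coact a ((coact a b).coeff (Multiplicative.ofAdd m)) =
      MonoidAlgebra.single (Multiplicative.ofAdd m) ((coact a b).coeff (Multiplicative.ofAdd m)) := by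
  apply (eY S M X).injective
  rw [← mulMap_appTop_coeff, eY_coact, eY_coact]
  have h1 : (mulMap S M X).left.appTop.hom (a.act.left.appTop.hom b) =
      ((AMonS S M ◁ a.act) ≫ a.act).left.appTop.hom b := by
    rw [← mulMap_act]
    rfl
  rw [h1, orbit_appTop, RingEquiv.symm_apply_apply, MonoidAlgebra.coeff_mapRingHom]

end Coassoc

section Comap

variable {S : Scheme.{u}} {M Z : Type} [AddCommMonoid M] [AddCommMonoid Z] {X : Over S} [IsAffine X.left]
  (a : MonAct (AMonS S M) X) (f : M →+ Z) (a' : MonAct (AMonS S Z) X)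
  (h : a'.act = (AMonS.map S f ▷ X) ≫ a.act)

include h in
/-- the coaction of the action through `A(Z) ⟶ A(M)` -/
theorem coact_of_act_eq (b : Γ(X.left, ⊤)) :
    coact a' b = MonoidAlgebra.mapDomainRingHom Γ(X.left, ⊤) (AddMonoidHom.toMultiplicative f) (coact a b) := by
  apply (eY S Z X).injective
  rw [eY_coact, h, ← eY_natural_left, eY_coact]
  rfl

include h in
/-- the component ideal for the preimage magnet is contained in the component ideal for the magnet -/
theorem compIdeal_comap_le (Y : AddSubmonoid Z) : compIdeal a (Y.comap f) ≤ compIdeal a' Y := by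
  unfold compIdeal
  rw [Ideal.span_le]
  rintro c ⟨b, m, hm, rfl⟩
  apply Ideal.subset_span
  refine ⟨(coact a b).coeff (Multiplicative.ofAdd m), f m, hm, ?_⟩
  rw [coact_of_act_eq a f a' h, coact_coeff]
  change _ = (MonoidAlgebra.mapDomain (AddMonoidHom.toMultiplicative f)
    (MonoidAlgebra.single (Multiplicative.ofAdd m) ((coact a b).coeff (Multiplicative.ofAdd m)))).coeff _
  rw [MonoidAlgebra.mapDomain_single]
  change _ = (MonoidAlgebra.single (Multiplicative.ofAdd (f m)) ((coact a b).coeff (Multiplicative.ofAdd m))).coeff _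
  simp [MonoidAlgebra.coeff_single]

end Comap

section Local

open AffAttrRep

variable {S : Scheme.{u}} {M : Type} [AddCommMonoid M] {X : Over S} [IsAffineHom X.hom]
  (a : MonAct (AMonS S M) X) (N : AddSubmonoid M)

/-- over an affine open of the base, the image of the attractor is cut out by the component ideal -/
theorem P_preimage_iff (W : S.affineOpens) {T : Scheme.{u}} (u : T ⟶ (↑(X.hom ⁻¹ᵁ W.1) : Scheme.{u})) :
    P a N (u ≫ (X.hom ⁻¹ᵁ W.1).ι) ↔
      @compIdeal S M _ (Restrict.XV X (X.hom ⁻¹ᵁ W.1)) (W.2.preimage X.hom)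
        (Restrict.restr (X.hom ⁻¹ᵁ W.1) a (Restrict.stable_preimage a.act W.1)) N ≤ RingHom.ker u.appTop.hom := by
  haveI haff : IsAffine (Restrict.XV X (X.hom ⁻¹ᵁ W.1)).left := W.2.preimage X.hom
  obtain ⟨aV, haV⟩ : ∃ aV, aV = Restrict.restr (X.hom ⁻¹ᵁ W.1) a (Restrict.stable_preimage a.act W.1) := ⟨_, rfl⟩
  have hS : ∃ W' : S.Opens, IsAffineOpen W' ∧
      Set.range (Restrict.XV X (X.hom ⁻¹ᵁ W.1)).hom ⊆ (W' : Set S) := by
    refine ⟨W.1, W.2, ?_⟩
    rintro _ ⟨z, rfl⟩
    change X.hom ((X.hom ⁻¹ᵁ W.1).ι z) ∈ W.1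
    exact z.2
  obtain ⟨uO, huO⟩ : ∃ uO : Over.mk (u ≫ (Restrict.XV X (X.hom ⁻¹ᵁ W.1)).hom) ⟶ Restrict.XV X (X.hom ⁻¹ᵁ W.1),
      uO.left = u := ⟨Over.homMk u rfl, rfl⟩
  have h1 := P_iff a N (uO ≫ Restrict.ιV X (X.hom ⁻¹ᵁ W.1))
  rw [Over.comp_left, huO] at h1
  refine Iff.trans h1 ?_
  rw [← Restrict.inAttr_restr_iff, ← haV]
  have h2 := inAttr_iff_le_ker aV N hS uO
  rw [huO] at h2
  exact h2

variable {Z : Type} [AddCommMonoid Z] (f : M →+ Z) (Y : AddSubmonoid Z)

/-- a point of `X` in the image of the attractor `X^{Y ⊂ Z}` (for the action through `A(Z) ⟶ A(M)`) is in the image of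
the attractor `X^{f⁻¹ Y ⊂ M}` -/
theorem P_comap {T : Scheme.{u}} (ξ : T ⟶ X.left) (h : P (a.restrict (AMonS.map S f)) Y ξ) :
    P a (Y.comap f) ξ := by
  haveI : IsSeparated X.hom := isSeparated_of_isAffineHom
  have hU : TopologicalSpace.IsOpenCover (fun W : S.affineOpens => ξ ⁻¹ᵁ (X.hom ⁻¹ᵁ W.1)) := by
    change ⨆ W : S.affineOpens, ξ ⁻¹ᵁ (X.hom ⁻¹ᵁ W.1) = ⊤
    rw [eq_top_iff]
    intro x _
    obtain ⟨_, ⟨W, hW, rfl⟩, hxW, -⟩ :=
      S.isBasis_affineOpens.exists_subset_of_mem_open (Set.mem_univ (X.hom (ξ x))) isOpen_univ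
    exact TopologicalSpace.Opens.mem_iSup.2 ⟨⟨W, hW⟩, hxW⟩
  refine P_loc a (Y.comap f) ξ (T.openCoverOfIsOpenCover _ hU) fun W => ?_
  change P a (Y.comap f) ((ξ ⁻¹ᵁ (X.hom ⁻¹ᵁ W.1)).ι ≫ ξ)
  have h1 : P (a.restrict (AMonS.map S f)) Y ((ξ ⁻¹ᵁ (X.hom ⁻¹ᵁ W.1)).ι ≫ ξ) := P_precomp _ _ _ _ h
  rw [← morphismRestrict_ι] at h1 ⊢
  rw [P_preimage_iff] at h1 ⊢
  refine le_trans ?_ h1
  haveI haff : IsAffine (Restrict.XV X (X.hom ⁻¹ᵁ W.1)).left := W.2.preimage X.hom
  apply compIdeal_comap_le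
  rw [← cancel_mono (Restrict.ιV X (X.hom ⁻¹ᵁ W.1)), Restrict.restr_act, Restrict.actV_ι, Category.assoc,
    Restrict.restr_act, Restrict.actV_ι, MonAct.restrict_act, whisker_exchange_assoc]

end Local

end Groth.Agent.Lib.Seat89.Homog
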