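import Groth.Agent.Lib.Seat89Coord
import Mathlib.RingTheory.PowerSeries.Basic
import Mathlib.RingTheory.PowerSeries.Inverse
import Mathlib.RingTheory.Localization.Away.Basic
import Mathlib.Algebra.Polynomial.Inductions
import Mathlib.Algebra.Polynomial.AlgebraMap
import Mathlib.Algebra.MonoidAlgebra.Basic

/-!
# Local algebra of `R[X]` near `X = 0` (helper89)

* `poly_key`, `polyLike_key`: for a prime `𝔭 ∋ X` of `R[X]` and `f ∉ 𝔭` there is `g ∉ 𝔭`, `f ∣ g`, such that an element of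
  `R[X]` which lies in `(X^n) R[X]_g` for all `n` dies in `R[X]_g`.
* `away_key`: the same statement inside a localization away from `g`.
* `polyEquiv`: `R[X] ≃ R[multiples (1 : ℤ)]`.
* `isPushout_monoidAlgebra`: `R[P'] = R ⊗_{R₀} R₀[P']` as a pushout in `CommRingCat`.
-/

set_option autoImplicit false
universe u

namespace Groth.Agent.Lib.Seat89.PolyLocal

section Poly
open Polynomial


variable {R : Type u} [CommRing R]

/-- If `X ^ n ∣ g ^ j * c` with `n > deg c`, then `c` is killed by a power of the constant coefficient of `g`. -/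
theorem exists_pow_coeff_mul_eq_zero (g c : R[X]) (r₀ : R) (hg : g.coeff 0 = r₀)
    (j : ℕ) (h : X ^ (c.natDegree + 1) ∣ g ^ j * c) : ∃ i : ℕ, C (r₀ ^ i) * c = 0 := by
  let R' := Localization.Away r₀
  let φ : R[X] →+* R'[X] := Polynomial.mapRingHom (algebraMap R R')
  let ι : R'[X] →+* PowerSeries R' := Polynomial.coeToPowerSeries.ringHom
  have hunit : IsUnit (ι (φ g)) := by
    rw [PowerSeries.isUnit_iff_constantCoeff]
    have : PowerSeries.constantCoeff (ι (φ g)) = algebraMap R R' r₀ := by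
      rw [← PowerSeries.coeff_zero_eq_constantCoeff_apply]
      change PowerSeries.coeff 0 ((φ g : R'[X]) : PowerSeries R') = _
      rw [Polynomial.coeff_coe]
      change (Polynomial.map (algebraMap R R') g).coeff 0 = _
      rw [Polynomial.coeff_map, hg]
    rw [this]
    exact IsLocalization.Away.algebraMap_isUnit r₀
  have hdvd : (PowerSeries.X : PowerSeries R') ^ (c.natDegree + 1) ∣ ι (φ g) ^ j * ι (φ c) := by
    have := map_dvd (ι.comp φ) h
    simpa [ι, φ] using this
  have hdvd' : (PowerSeries.X : PowerSeries R') ^ (c.natDegree + 1) ∣ ι (φ c) :=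
    ((hunit.pow j).dvd_mul_left).1 hdvd
  rw [PowerSeries.X_pow_dvd_iff] at hdvd'
  have hcoeff : ∀ m, algebraMap R R' (c.coeff m) = 0 := by
    intro m
    by_cases hm : m < c.natDegree + 1
    · have := hdvd' m hm
      simpa [ι, φ] using this
    · have : c.coeff m = 0 := Polynomial.coeff_eq_zero_of_natDegree_lt (by omega)
      rw [this, map_zero]
  have hex : ∀ m, ∃ i : ℕ, r₀ ^ i * c.coeff m = 0 := by
    intro m
    obtain ⟨⟨_, i, rfl⟩, hi⟩ := (IsLocalization.map_eq_zero_iff (Submonoid.powers r₀) R' _).1 (hcoeff m)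
    exact ⟨i, hi⟩
  choose i hi using hex
  refine ⟨(Finset.range (c.natDegree + 1)).sup i, ?_⟩
  ext m
  rw [Polynomial.coeff_C_mul, Polynomial.coeff_zero]
  by_cases hm : m < c.natDegree + 1
  · have hle : i m ≤ (Finset.range (c.natDegree + 1)).sup i := Finset.le_sup (Finset.mem_range.2 hm)
    obtain ⟨d, hd⟩ := Nat.exists_eq_add_of_le hle
    rw [hd, pow_add, mul_comm (r₀ ^ i m), mul_assoc, hi m, mul_zero]
  · have : c.coeff m = 0 := Polynomial.coeff_eq_zero_of_natDegree_lt (by omega)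
    rw [this, mul_zero]

/-- The key local-algebra fact in `R[X]`. -/
theorem poly_key (𝔭 : Ideal R[X]) [𝔭.IsPrime] (hX : (X : R[X]) ∈ 𝔭) (f : R[X]) (hf : f ∉ 𝔭) :
    ∃ g : R[X], g ∉ 𝔭 ∧ f ∣ g ∧
      ∀ c : R[X], (∀ n : ℕ, ∃ j : ℕ, g ^ j * c ∈ Ideal.span {(X : R[X]) ^ n}) → ∃ j : ℕ, g ^ j * c = 0 := by
  have hfr : f - C (f.coeff 0) ∈ 𝔭 := by
    have : f - C (f.coeff 0) = X * f.divX := by
      have h0 := Polynomial.divX_mul_X_add f
      rw [sub_eq_iff_eq_add, mul_comm]
      exact h0.symm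
    rw [this]
    exact 𝔭.mul_mem_right _ hX
  have hr : C (f.coeff 0) ∉ 𝔭 := by
    intro h
    apply hf
    have := 𝔭.add_mem hfr h
    simpa using this
  refine ⟨f * C (f.coeff 0), ?_, dvd_mul_right _ _, ?_⟩
  · intro h
    rcases (Ideal.IsPrime.mem_or_mem inferInstance h) with h | h
    · exact hf h
    · exact hr h
  · intro c hc
    obtain ⟨j, hj⟩ := hc (c.natDegree + 1)
    rw [Ideal.mem_span_singleton] at hj
    obtain ⟨i, hi⟩ := exists_pow_coeff_mul_eq_zero (f * C (f.coeff 0)) c (f.coeff 0 ^ 2)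
      (by rw [Polynomial.mul_coeff_zero, Polynomial.coeff_C_zero, sq]) j hj
    refine ⟨2 * i, ?_⟩
    have : (f * C (f.coeff 0)) ^ (2 * i) = f ^ (2 * i) * C ((f.coeff 0 ^ 2) ^ i) := by
      rw [mul_pow, ← pow_mul, C_pow]
    rw [this, mul_assoc, hi, mul_zero]




/-- transfer of `poly_key` along a ring isomorphism -/
theorem polyLike_key {C : Type u} [CommRing C] (e : R[X] ≃+* C) (τ : C) (hτ : e X = τ)
    (𝔭 : Ideal C) [𝔭.IsPrime] (hX : τ ∈ 𝔭) (f : C) (hf : f ∉ 𝔭) :
    ∃ g : C, g ∉ 𝔭 ∧ f ∣ g ∧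
      ∀ c : C, (∀ n : ℕ, ∃ j : ℕ, g ^ j * c ∈ Ideal.span {τ ^ n}) → ∃ j : ℕ, g ^ j * c = 0 := by
  have hp' : (𝔭.comap (e : R[X] →+* C)).IsPrime := Ideal.comap_isPrime _ _
  have hX' : (X : R[X]) ∈ 𝔭.comap (e : R[X] →+* C) := by
    rw [Ideal.mem_comap]; change e X ∈ 𝔭; rw [hτ]; exact hX
  have hf' : e.symm f ∉ 𝔭.comap (e : R[X] →+* C) := by
    rw [Ideal.mem_comap]; change ¬ e (e.symm f) ∈ 𝔭; rw [e.apply_symm_apply]; exact hf
  obtain ⟨g', hg1, hg2, hg3⟩ := poly_key (𝔭.comap (e : R[X] →+* C)) hX' (e.symm f) hf'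
  refine ⟨e g', ?_, ?_, ?_⟩
  · intro h; exact hg1 (by rw [Ideal.mem_comap]; exact h)
  · have := map_dvd e hg2
    rwa [e.apply_symm_apply] at this
  · intro c hc
    have hc' : ∀ n : ℕ, ∃ j : ℕ, g' ^ j * e.symm c ∈ Ideal.span {(X : R[X]) ^ n} := by
      intro n
      obtain ⟨j, hj⟩ := hc n
      refine ⟨j, ?_⟩
      rw [Ideal.mem_span_singleton] at hj ⊢
      have := map_dvd e.symm hj
      simpa [← hτ] using this
    obtain ⟨j, hj⟩ := hg3 (e.symm c) hc'
    refine ⟨j, ?_⟩
    have := congrArg e hj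
    simpa using this

section Mult

/-- the generator of `multiples (1 : ℤ)` -/
def one1 : ↥(AddSubmonoid.multiples (1 : ℤ)) := ⟨1, AddSubmonoid.mem_multiples 1⟩

theorem nonneg_of_mem (x : ↥(AddSubmonoid.multiples (1 : ℤ))) : 0 ≤ (x : ℤ) := by
  obtain ⟨k, hk⟩ := (AddSubmonoid.mem_multiples_iff _ _).1 x.2
  rw [← hk]; simp

theorem eq_toNat_nsmul (x : ↥(AddSubmonoid.multiples (1 : ℤ))) : x = (x : ℤ).toNat • one1 := by
  apply Subtype.ext
  have h1 : (((x : ℤ).toNat • one1 : ↥(AddSubmonoid.multiples (1 : ℤ))) : ℤ) = (x : ℤ).toNat • (1 : ℤ) :=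
    AddSubmonoidClass.coe_nsmul _ _
  rw [h1, nsmul_eq_mul, mul_one, Int.toNat_of_nonneg (nonneg_of_mem x)]

/-- `n ↦ X ^ n` on `multiples 1` -/
noncomputable def powHom (R : Type u) [CommRing R] :
    Multiplicative ↥(AddSubmonoid.multiples (1 : ℤ)) →* R[X] where
  toFun x := X ^ ((Multiplicative.toAdd x : ↥(AddSubmonoid.multiples (1 : ℤ))) : ℤ).toNat
  map_one' := by simp
  map_mul' a b := by
    rw [← pow_add]
    congr 1
    change (((Multiplicative.toAdd a : ↥(AddSubmonoid.multiples (1 : ℤ))) : ℤ) +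
      ((Multiplicative.toAdd b : ↥(AddSubmonoid.multiples (1 : ℤ))) : ℤ)).toNat = _
    exact Int.toNat_add (nonneg_of_mem _) (nonneg_of_mem _)

/-- `R[X] ≃ R[multiples 1]` with `X ↦ χ^1`. -/
noncomputable def polyEquiv (R : Type u) [CommRing R] :
    R[X] ≃ₐ[R] MonoidAlgebra R (Multiplicative ↥(AddSubmonoid.multiples (1 : ℤ))) :=
  AlgEquiv.ofAlgHom
    (Polynomial.aeval (MonoidAlgebra.single (Multiplicative.ofAdd one1) (1 : R)))
    (MonoidAlgebra.lift R R[X] (Multiplicative ↥(AddSubmonoid.multiples (1 : ℤ))) (powHom R))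
    (by
      refine MonoidAlgebra.algHom_ext (fun x => ?_) (Subsingleton.elim _ _)
      simp only [AlgHom.comp_apply, MonoidAlgebra.lift_single, one_smul, AlgHom.id_apply]
      change Polynomial.aeval _ (X ^ _) = _
      rw [map_pow, Polynomial.aeval_X, MonoidAlgebra.single_pow, one_pow]
      congr 1
      change Multiplicative.ofAdd (_ • one1) = x
      rw [← eq_toNat_nsmul]
      rfl)
    (by
      apply Polynomial.algHom_ext
      simp only [AlgHom.comp_apply, Polynomial.aeval_X, MonoidAlgebra.lift_single, one_smul, AlgHom.id_apply]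
      change X ^ ((1 : ℤ)).toNat = X
      simp)

theorem polyEquiv_X (R : Type u) [CommRing R] :
    polyEquiv R X = MonoidAlgebra.single (Multiplicative.ofAdd one1) (1 : R) := by
  simp [polyEquiv]

end Mult


/-- transfer of the conclusion of `polyLike_key` to the localization away from `g` -/
theorem away_key {C : Type u} [CommRing C] (g τ : C) (D : Type u) [CommRing D] [Algebra C D]
    [IsLocalization.Away g D]
    (hstar : ∀ c : C, (∀ n : ℕ, ∃ j : ℕ, g ^ j * c ∈ Ideal.span {τ ^ n}) → ∃ j : ℕ, g ^ j * c = 0)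
    (d : D) (hd : ∀ n : ℕ, d ∈ Ideal.span {(algebraMap C D τ) ^ n}) : d = 0 := by
  obtain ⟨i, c, hc⟩ := IsLocalization.Away.surj g d
  have hu : IsUnit (algebraMap C D g) := IsLocalization.Away.algebraMap_isUnit g
  have key : ∀ n : ℕ, ∃ j : ℕ, g ^ j * c ∈ Ideal.span {τ ^ n} := by
    intro n
    obtain ⟨d', hd'⟩ := Ideal.mem_span_singleton.1 (hd n)
    obtain ⟨i', c', hc'⟩ := IsLocalization.Away.surj g d'
    have e1 : algebraMap C D (c * g ^ i') = algebraMap C D (τ ^ n * c' * g ^ i) := by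
      simp only [map_mul, map_pow]
      rw [← hc, ← hc', hd']
      ring
    obtain ⟨⟨_, l, rfl⟩, hl⟩ := (IsLocalization.eq_iff_exists (Submonoid.powers g) D).1 e1
    refine ⟨l + i', ?_⟩
    rw [Ideal.mem_span_singleton]
    refine ⟨g ^ l * c' * g ^ i, ?_⟩
    have : g ^ (l + i') * c = g ^ l * (c * g ^ i') := by ring
    rw [this, hl]
    ring
  obtain ⟨j, hj⟩ := hstar c key
  have h0 : algebraMap C D c = 0 := by
    have := congrArg (algebraMap C D) hj
    rw [map_mul, map_pow, map_zero] at this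
    exact ((hu.pow j).mul_right_eq_zero).1 this
  rw [h0] at hc
  exact ((hu.pow i).mul_left_eq_zero).1 hc

end Poly

section Pushout
open CategoryTheory CategoryTheory.Limits


/-- `R[P']` is the pushout of `R₀[P'] ← R₀ → R` (hand-made, to avoid `Algebra (ULift ℤ) R` instances). -/
theorem isPushout_monoidAlgebra (R₀ R : Type u) [CommRing R₀] [CommRing R] (P' : Type) [CommMonoid P']
    (ρ₀ : R₀ →+* R) :
    IsPushout (CommRingCat.ofHom (algebraMap R₀ (MonoidAlgebra R₀ P'))) (CommRingCat.ofHom ρ₀)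
      (CommRingCat.ofHom (MonoidAlgebra.mapRingHom P' ρ₀))
      (CommRingCat.ofHom (MonoidAlgebra.singleOneRingHom : R →+* MonoidAlgebra R P')) := by
  have h11 : ∀ (A : Type u) [CommRing A], (MonoidAlgebra.single (1 : P') (1 : A) : MonoidAlgebra A P') = 1 :=
    fun A _ => rfl
  refine ⟨⟨?_⟩, ⟨PushoutCocone.IsColimit.mk _ (fun s => CommRingCat.ofHom
    (MonoidAlgebra.liftNCRingHom s.inr.hom ((s.inl.hom : MonoidAlgebra R₀ P' →* s.pt).comp (MonoidAlgebra.of R₀ P'))
      (fun _ _ => Commute.all _ _))) ?_ ?_ ?_⟩⟩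
  · ext r
    simp
  · intro s
    ext x
    · have hw := congrArg (fun φ => φ.hom x) s.condition
      simp at hw ⊢
      rw [h11, map_one, mul_one, hw]
    · simp [MonoidAlgebra.of_apply, MonoidAlgebra.mapRingHom_single, MonoidAlgebra.liftNCRingHom_single]
  · intro s
    ext x
    simp [MonoidAlgebra.liftNCRingHom_single]
    rw [h11, map_one, mul_one]
  · intro s m h1 h2
    ext x
    · have := congrArg (fun φ => φ.hom x) h2
      simp at this ⊢
      rw [h11, map_one, mul_one, this]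
    · have := congrArg (fun φ => φ.hom (MonoidAlgebra.single x 1)) h1
      simp [MonoidAlgebra.of_apply, MonoidAlgebra.mapRingHom_single, MonoidAlgebra.liftNCRingHom_single] at this ⊢
      exact this


end Pushout

end Groth.Agent.Lib.Seat89.PolyLocal
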