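import Groth.Agent.Lib.Seat89Agree
import Groth.Agent.Lib.Seat89PolyLocal

/-!
# The affine line as a diagonalizable monoid scheme (helper89)

`P₀ = multiples (1 : ℤ)`; `A(P₀)_S` is the affine line over `S` under multiplication.

* `nilp_of_coord_pow_eq_zero`: a point whose coordinate is nilpotent is nilpotent in the monoid `A(P₀)(T)`.
* `ept_abs`: the zero point is absorbing.
* `exists_monoidAlgebra_equiv`, `exists_polyEquiv`: for affine `Y`, `A(P)_S ×_S Y = Spec Γ(Y)[P]`.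
* `mem_locus`: two maps `A(P₀) × Y ⟶ X` which agree on all nilpotent points agree on an open neighbourhood of the zero
  section.
* `eq_of_forall_nilpotent`: two equivariant such maps are equal.
-/

set_option autoImplicit false
universe u
open CategoryTheory CategoryTheory.Limits MonoidalCategory CartesianMonoidalCategory MonObj AlgebraicGeometry Opposite
open Magnet

namespace Groth.Agent.Lib.Seat89.Line

open Coord PolyLocal

/-- the monoid of natural numbers inside `ℤ` -/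
abbrev P₀ : AddSubmonoid ℤ := AddSubmonoid.multiples (1 : ℤ)

section Elementary

theorem eq_zero_of_mem_unitFace (p : ↥P₀) (h : (p : ℤ) ∈ unitFace P₀) : p = 0 := by
  obtain ⟨-, y, hy, hpy⟩ := h
  have h1 := nonneg_of_mem p
  have h2 := nonneg_of_mem ⟨y, hy⟩
  apply Subtype.ext
  change (p : ℤ) = 0
  change 0 ≤ y at h2
  omega

theorem one1_not_mem : ((one1 : ↥P₀) : ℤ) ∉ unitFace P₀ := by
  intro h
  have := congrArg Subtype.val (eq_zero_of_mem_unitFace one1 h)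
  change (1 : ℤ) = 0 at this
  omega

variable {S : Scheme.{u}}

/-- a point of the line with nilpotent coordinate is nilpotent in the monoid of points -/
theorem nilp_of_coord_pow_eq_zero {T : Over S} (m : T ⟶ AMonS S ↥P₀) (n : ℕ)
    (h : coord m one1 ^ (n + 1) = 0) (m' : T ⟶ AMonS S ↥P₀) : m ^ (n + 1) * m' = m ^ (n + 1) := by
  apply coord_ext
  intro p
  rw [coord_mul, coord_pow, eq_toNat_nsmul p, coord_nsmul, coord_nsmul]
  rcases Nat.eq_zero_or_pos (p : ℤ).toNat with h0 | h0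
  · rw [h0, pow_zero, pow_zero, _root_.mul_one]
  · rw [← pow_mul, _root_.mul_comm _ (n + 1), pow_mul, h, zero_pow (by omega), zero_mul]

/-- the zero point of the line -/
noncomputable abbrev zpt (S : Scheme.{u}) (W : Over S) : W ⟶ AMonS S ↥P₀ :=
  OpenImm.ept S (isFace_unitFace P₀) W

theorem zpt_abs (W : Over S) (m : W ⟶ AMonS S ↥P₀) : zpt S W * m = zpt S W := by
  apply coord_ext
  intro p
  rw [coord_mul]
  by_cases hp : (p : ℤ) ∈ unitFace P₀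
  · have := eq_zero_of_mem_unitFace p hp
    subst this
    rw [coord_zero, coord_zero, _root_.mul_one]
  · rw [coord_ept_of_not_mem _ _ _ hp, zero_mul]

theorem coord_zpt (W : Over S) : coord (zpt S W) one1 = 0 :=
  coord_ept_of_not_mem _ _ _ one1_not_mem

end Elementary

section Ident

variable (S : Scheme.{u}) (P : Type) [AddCommMonoid P] (Y : Over S) [IsAffine Y.left]

/-- For affine `Y`, `A(P)_S ×_S Y` is affine with coordinate ring the monoid algebra `Γ(Y)[P]`. -/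
theorem exists_monoidAlgebra_equiv :
    IsAffine (AMonS S P ⊗ Y).left ∧
      ∃ e : MonoidAlgebra Γ(Y.left, ⊤) (Multiplicative P) ≃+* Γ((AMonS S P ⊗ Y).left, ⊤),
        ∀ p : P, e (MonoidAlgebra.single (Multiplicative.ofAdd p) 1) = coord (fst (AMonS S P) Y) p := by
  obtain ⟨ρ₀, -⟩ : ∃ ρ₀ : ULift.{u} ℤ →+* Γ(Y.left, ⊤), True :=
    ⟨(Int.castRingHom Γ(Y.left, ⊤)).comp (ULift.ringEquiv : ULift.{u} ℤ ≃+* ℤ).toRingHom, trivial⟩
  have hpo := isPushout_monoidAlgebra (ULift.{u} ℤ) Γ(Y.left, ⊤) (Multiplicative P) ρ₀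
  have hpb := isPullback_SpecMap_of_isPushout _ _ _ _ hpo
  have h₁ := Density.isPullback_AMonS_tensor S P Y
  have hy : Y.hom ≫ Limits.IsTerminal.from specULiftZIsTerminal S =
      Y.left.isoSpec.hom ≫ Spec.map (CommRingCat.ofHom ρ₀) := specULiftZIsTerminal.hom_ext _ _
  obtain ⟨inl, hinl⟩ : ∃ inl : CommRingCat.of (MonoidAlgebra (ULift.{u} ℤ) (Multiplicative P)) ⟶
      CommRingCat.of (MonoidAlgebra Γ(Y.left, ⊤) (Multiplicative P)),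
      inl = CommRingCat.ofHom (MonoidAlgebra.mapRingHom (Multiplicative P) ρ₀) := ⟨_, rfl⟩
  obtain ⟨inr, hinr⟩ : ∃ inr : CommRingCat.of Γ(Y.left, ⊤) ⟶
      CommRingCat.of (MonoidAlgebra Γ(Y.left, ⊤) (Multiplicative P)),
      inr = CommRingCat.ofHom (MonoidAlgebra.singleOneRingHom) := ⟨_, rfl⟩
  rw [← hinl, ← hinr] at hpb
  have h₂ : IsPullback (Spec.map inl) (Spec.map inr ≫ Y.left.isoSpec.inv) (AMon (ULift.{u} ℤ) P).hom
      (Y.hom ≫ Limits.IsTerminal.from specULiftZIsTerminal S) := by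
    refine hpb.of_iso (Iso.refl _) (Iso.refl _) (Y.left.isoSpec.symm) (Iso.refl _) ?_ ?_ ?_ ?_
    · simp
    · simp
    · simp only [Iso.refl_hom, Category.comp_id, Category.id_comp]
      rfl
    · rw [hy]
      simp
  obtain ⟨Θ, hΘ⟩ : ∃ Θ : (AMonS S P ⊗ Y).left ≅
      Spec (CommRingCat.of (MonoidAlgebra Γ(Y.left, ⊤) (Multiplicative P))),
      Θ.hom ≫ Spec.map inl = pullback.fst (AMonS S P).hom Y.hom ≫ prZ S P :=
    ⟨IsPullback.isoIsPullback _ _ h₁ h₂, IsPullback.isoIsPullback_hom_fst _ _ h₁ h₂⟩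
  have haff : IsAffine (AMonS S P ⊗ Y).left := IsAffine.of_isIso Θ.hom
  refine ⟨haff, ?_⟩
  have hiso : IsIso Θ.hom.appTop :=
    ⟨Θ.inv.appTop, by rw [← Scheme.Hom.comp_appTop, Iso.inv_hom_id, Scheme.Hom.id_appTop],
      by rw [← Scheme.Hom.comp_appTop, Iso.hom_inv_id, Scheme.Hom.id_appTop]⟩
  obtain ⟨ec, hec⟩ : ∃ ec : CommRingCat.of (MonoidAlgebra Γ(Y.left, ⊤) (Multiplicative P)) ≅
      Γ((AMonS S P ⊗ Y).left, ⊤), ec.hom = (Scheme.ΓSpecIso _).inv ≫ Θ.hom.appTop :=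
    ⟨(Scheme.ΓSpecIso _).symm ≪≫ asIso Θ.hom.appTop, rfl⟩
  refine ⟨ec.commRingCatIsoToRingEquiv, fun p => ?_⟩
  change ec.hom.hom (MonoidAlgebra.single (Multiplicative.ofAdd p) 1) = _
  have key : ringMap (fst (AMonS S P) Y) = ec.hom.hom.comp inl.hom := by
    unfold ringMap
    have e1 : (fst (AMonS S P) Y).left ≫ prZ S P = Θ.hom ≫ Spec.map inl := hΘ.symm
    rw [e1, Scheme.Hom.comp_appTop, ← Category.assoc, ← Scheme.ΓSpecIso_inv_naturality, Category.assoc, ← hec]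
    rfl
  unfold coord
  rw [key, hinl]
  change _ = ec.hom.hom (MonoidAlgebra.mapRingHom (Multiplicative P) ρ₀
    (MonoidAlgebra.single (Multiplicative.ofAdd p) 1))
  rw [MonoidAlgebra.mapRingHom_single, map_one]

end Ident

/-- For affine `Y`, `A¹_S ×_S Y` is affine with coordinate ring `Γ(Y)[X]`, `X` the coordinate of the line. -/
theorem exists_polyEquiv (S : Scheme.{u}) (Y : Over S) [IsAffine Y.left] :
    IsAffine (AMonS S ↥P₀ ⊗ Y).left ∧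
      ∃ e : Polynomial Γ(Y.left, ⊤) ≃+* Γ((AMonS S ↥P₀ ⊗ Y).left, ⊤),
        e Polynomial.X = coord (fst (AMonS S ↥P₀) Y) one1 := by
  obtain ⟨haff, e, he⟩ := exists_monoidAlgebra_equiv S ↥P₀ Y
  refine ⟨haff, (polyEquiv Γ(Y.left, ⊤)).toRingEquiv.trans e, ?_⟩
  change e (polyEquiv _ Polynomial.X) = _
  rw [polyEquiv_X, he]

section PartB

theorem mem_basicOpen_iff_not_mem {Z : Scheme.{u}} (z : Z) (c : Γ(Z, ⊤)) :
    z ∈ Z.basicOpen c ↔ c ∉ (Z.toSpecΓ z).asIdeal := by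
  rw [← Scheme.toSpecΓ_preimage_basicOpen]
  rfl

theorem appTop_SpecMap_ΓSpecIso_inv {D Q : CommRingCat.{u}} (q : D ⟶ Q) (x : D) :
    (Spec.map q).appTop.hom ((Scheme.ΓSpecIso D).inv.hom x) = (Scheme.ΓSpecIso Q).inv.hom (q.hom x) :=
  (congrArg (fun ψ => ψ.hom x) (Scheme.ΓSpecIso_inv_naturality q)).symm

/-- **Formal-local agreement.**  Let `Z` be an affine scheme whose coordinate ring is a polynomial ring `R[τ]`, and let
`γ₁ γ₂ : Z ⟶ X'` agree on every `Spec Q ⟶ Z` on which `τ` is nilpotent.  Then `γ₁` and `γ₂` agree on an open neighbourhood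
of every point of `{τ = 0}`. -/
theorem mem_locus_of_formal {Z X' : Scheme.{u}} [IsAffine Z] (γ₁ γ₂ : Z ⟶ X')
    {R : Type u} [CommRing R] (e : Polynomial R ≃+* Γ(Z, ⊤)) (τ : Γ(Z, ⊤)) (he : e Polynomial.X = τ)
    (x₀ : Z) (hτx : x₀ ∉ Z.basicOpen τ) (hpt : γ₁ x₀ = γ₂ x₀)
    (hyp : ∀ (Q : CommRingCat.{u}) (j : Spec Q ⟶ Z) (n : ℕ),
      j.appTop.hom τ ^ (n + 1) = 0 → j ≫ γ₁ = j ≫ γ₂) :
    x₀ ∈ Agree.locus γ₁ γ₂ := by
  -- (ii) an affine open around the image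
  obtain ⟨X₀, hX₀aff, hX₀mem⟩ : ∃ X₀ : X'.Opens, IsAffineOpen X₀ ∧ γ₁ x₀ ∈ X₀ := by
    obtain ⟨U, hU, hxU, -⟩ := exists_isAffineOpen_mem_and_subset (x := γ₁ x₀) (U := ⊤) trivial
    exact ⟨U, hU, hxU⟩
  -- (iii) a basic open inside the preimages
  have hxU : x₀ ∈ γ₁ ⁻¹ᵁ X₀ ⊓ γ₂ ⁻¹ᵁ X₀ := ⟨hX₀mem, by change γ₂ x₀ ∈ X₀; rw [← hpt]; exact hX₀mem⟩
  obtain ⟨_, ⟨f, rfl⟩, hxf, hfU⟩ :=
    (TopologicalSpace.Opens.isBasis_iff_nbhd.1 (isBasis_basicOpen Z)) hxU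
  -- (iv) the prime ideal of `x₀`
  obtain ⟨𝔭, h𝔭⟩ : ∃ 𝔭 : PrimeSpectrum Γ(Z, ⊤), 𝔭 = Z.toSpecΓ x₀ := ⟨_, rfl⟩
  have hmem : ∀ c : Γ(Z, ⊤), x₀ ∈ Z.basicOpen c ↔ c ∉ 𝔭.asIdeal := by
    intro c; rw [h𝔭]; exact mem_basicOpen_iff_not_mem x₀ c
  have hprime : 𝔭.asIdeal.IsPrime := 𝔭.isPrime
  have hf𝔭 : f ∉ 𝔭.asIdeal := (hmem f).1 hxf
  have hτ𝔭 : τ ∈ 𝔭.asIdeal := by
    by_contra hcon
    exact hτx ((hmem τ).2 hcon)
  -- (vi) the key local algebra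
  obtain ⟨g, hg𝔭, hfg, hstar⟩ := polyLike_key e τ he 𝔭.asIdeal hτ𝔭 f hf𝔭
  -- (vii) the localization and its open immersion
  obtain ⟨D, φ, hφD, hloc⟩ : ∃ (D : CommRingCat.{u}) (φ : Γ(Z, ⊤) ⟶ D)
      (_ : IsOpenImmersion (Spec.map φ)), (Spec.map φ).opensRange = PrimeSpectrum.basicOpen g ∧
      IsUnit (φ.hom g) ∧
      ∀ d : D, (∀ n : ℕ, d ∈ Ideal.span {(φ.hom τ) ^ (n + 1)}) → d = 0 := by
    refine ⟨CommRingCat.of (Localization.Away g), CommRingCat.ofHom (algebraMap _ _),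
      Scheme.isOpenImmersion_SpecMap_localizationAway (R := Γ(Z, ⊤)) g,
      Scheme.Hom.opensRange_localizationAway (R := Γ(Z, ⊤)) g,
      IsLocalization.Away.algebraMap_isUnit g, ?_⟩
    intro d hd
    refine away_key g τ (Localization.Away g) hstar d fun n => ?_
    refine (Ideal.span_singleton_le_span_singleton.2 ?_) (hd n)
    exact ⟨algebraMap _ _ τ, pow_succ _ _⟩
  obtain ⟨hrange, hunit, hsep⟩ := hloc
  obtain ⟨jD, hjD⟩ : ∃ jD : Spec D ⟶ Z, jD = Spec.map φ ≫ Z.isoSpec.inv := ⟨_, rfl⟩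
  have hjDopen : IsOpenImmersion jD := by rw [hjD]; infer_instance
  have hjDtop : jD.appTop = φ ≫ (Scheme.ΓSpecIso D).inv := by
    have := Agree.SpecMap_isoSpec_inv_appTop (X := Z) φ
    rw [← hjD] at this
    rw [← this, Category.assoc, Iso.hom_inv_id, Category.comp_id]
  -- `x₀` lies in the range of `jD`
  have hx₀range : x₀ ∈ jD.opensRange := by
    have hq : Z.toSpecΓ x₀ ∈ (Spec.map φ).opensRange := by
      rw [hrange, ← h𝔭]
      exact hg𝔭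
    obtain ⟨z, hz⟩ := hq
    refine ⟨z, ?_⟩
    have h1 : (Z.isoSpec.hom ≫ Z.isoSpec.inv) x₀ = x₀ := by
      rw [Iso.hom_inv_id]; rfl
    rw [hjD]
    change Z.isoSpec.inv (Spec.map φ z) = x₀
    rw [hz]
    exact h1
  -- the range of `jD` lies in the basic open of `g`, hence of `f`
  have hpre : jD ⁻¹ᵁ Z.basicOpen g = ⊤ := by
    rw [Scheme.preimage_basicOpen_top, hjDtop]
    apply Scheme.basicOpen_of_isUnit
    exact hunit.map (Scheme.ΓSpecIso D).inv.hom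
  have hgf : Z.basicOpen g ≤ Z.basicOpen f := by
    obtain ⟨k', rfl⟩ := hfg
    rw [Scheme.basicOpen_mul]
    exact inf_le_left
  have hjDU : ∀ z : Spec D, jD z ∈ γ₁ ⁻¹ᵁ X₀ ⊓ γ₂ ⁻¹ᵁ X₀ := by
    intro z
    have hz : z ∈ jD ⁻¹ᵁ Z.basicOpen g := by rw [hpre]; trivial
    exact hfU (hgf hz)
  have h₁ : (jD ≫ γ₁) ⁻¹ᵁ X₀ = ⊤ := eq_top_iff.2 fun z _ => (hjDU z).1
  have h₂ : (jD ≫ γ₂) ⁻¹ᵁ X₀ = ⊤ := eq_top_iff.2 fun z _ => (hjDU z).2
  -- (ix) agreement on the infinitesimal neighbourhoods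
  have hgen : ∀ (Q : CommRingCat.{u}) (q : D ⟶ Q) (n : ℕ), q.hom ((φ.hom τ) ^ (n + 1)) = 0 →
      Spec.map q ≫ (jD ≫ γ₁) = Spec.map q ≫ (jD ≫ γ₂) := by
    intro Q q n hq0
    rw [← Category.assoc, ← Category.assoc]
    refine hyp _ (Spec.map q ≫ jD) n ?_
    rw [Scheme.Hom.comp_appTop, hjDtop]
    change (Spec.map q).appTop.hom ((Scheme.ΓSpecIso D).inv.hom (φ.hom τ)) ^ (n + 1) = 0
    rw [appTop_SpecMap_ΓSpecIso_inv, ← RingHom.map_pow, ← RingHom.map_pow, hq0, RingHom.map_zero]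
  have hH : ∀ n : ℕ,
      Spec.map (CommRingCat.ofHom (Ideal.Quotient.mk (Ideal.span {(φ.hom τ) ^ (n + 1)}))) ≫ (jD ≫ γ₁) =
      Spec.map (CommRingCat.ofHom (Ideal.Quotient.mk (Ideal.span {(φ.hom τ) ^ (n + 1)}))) ≫ (jD ≫ γ₂) :=
    fun n => hgen _ _ n (Ideal.Quotient.eq_zero_iff_mem.2 (Ideal.subset_span rfl))
  -- (x) conclusion
  have hfinal : jD ≫ γ₁ = jD ≫ γ₂ :=
    Agree.eq_of_forall_quotient_comp_eq _ _ X₀ hX₀aff h₁ h₂ _ hsep hH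
  exact Agree.opensRange_le_locus γ₁ γ₂ jD hfinal hx₀range

variable {S : Scheme.{u}} {X : Over S}

theorem coord_comp_pow_eq_zero {T P : Over S} (j : T ⟶ P) (m : P ⟶ AMonS S ↥P₀) (n : ℕ)
    (h0 : j.left.appTop.hom (coord m one1) ^ (n + 1) = 0) : coord (j ≫ m) one1 ^ (n + 1) = 0 := by
  rw [coord_comp]; exact h0

theorem mem_locus_of_isAffine (Y : Over S) [IsAffine Y.left] (γ₁ γ₂ : AMonS S ↥P₀ ⊗ Y ⟶ X)
    (h : ∀ (T : Over S) (m : T ⟶ AMonS S ↥P₀) (t : T ⟶ Y),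
      (∃ n : ℕ, ∀ m' : T ⟶ AMonS S ↥P₀, m ^ (n + 1) * m' = m ^ (n + 1)) → lift m t ≫ γ₁ = lift m t ≫ γ₂)
    (y : Y.left) : (lift (zpt S Y) (𝟙 Y)).left y ∈ Agree.locus γ₁.left γ₂.left := by
  obtain ⟨haff, e, he⟩ := exists_polyEquiv S Y
  obtain ⟨ζ, hζ⟩ : ∃ ζ : Y ⟶ AMonS S ↥P₀ ⊗ Y, ζ = lift (zpt S Y) (𝟙 Y) := ⟨_, rfl⟩
  rw [← hζ]
  obtain ⟨τ, hτ⟩ : ∃ τ : Γ((AMonS S ↥P₀ ⊗ Y).left, ⊤), τ = coord (fst (AMonS S ↥P₀) Y) one1 := ⟨_, rfl⟩
  rw [← hτ] at he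
  -- agreement at the zero section
  have hζγ : ζ ≫ γ₁ = ζ ≫ γ₂ := by
    rw [hζ]
    refine h Y (zpt S Y) (𝟙 Y) ⟨0, fun m' => ?_⟩
    rw [zero_add, pow_one]
    exact zpt_abs Y m'
  have hpt : γ₁.left (ζ.left y) = γ₂.left (ζ.left y) := Agree.left_apply_of_eq _ _ _ _ hζγ y
  -- `τ` vanishes on the zero section
  have hτx : ζ.left y ∉ (AMonS S ↥P₀ ⊗ Y).left.basicOpen τ := by
    intro h1
    have h2 : y ∈ ζ.left ⁻¹ᵁ (AMonS S ↥P₀ ⊗ Y).left.basicOpen τ := h1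
    rw [Scheme.preimage_basicOpen_top] at h2
    have h3 : ζ.left.appTop.hom τ = 0 := by
      rw [hτ, ← coord_comp, hζ, lift_fst]
      exact coord_zpt Y
    change y ∈ Y.left.basicOpen (ζ.left.appTop.hom τ) at h2
    rw [h3, Scheme.basicOpen_zero] at h2
    exact h2
  refine mem_locus_of_formal γ₁.left γ₂.left e τ he (ζ.left y) hτx hpt ?_
  intro Q j n hj
  obtain ⟨Tn, jn, hjn⟩ : ∃ (Tn : Over S) (jn : Tn ⟶ AMonS S ↥P₀ ⊗ Y), ∃ hT : Tn.left = Spec Q,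
      jn.left = eqToHom hT ≫ j :=
    ⟨Over.mk (j ≫ (AMonS S ↥P₀ ⊗ Y).hom), Over.homMk j rfl, rfl, (Category.id_comp _).symm⟩
  obtain ⟨hT, hjn⟩ := hjn
  have hnil : coord (jn ≫ fst (AMonS S ↥P₀) Y) one1 ^ (n + 1) = 0 := by
    apply coord_comp_pow_eq_zero
    rw [← hτ]
    obtain ⟨Tn, TnX, Tnhom⟩ := Tn
    change Tn = Spec Q at hT
    subst hT
    change jn.left = 𝟙 _ ≫ j at hjn
    rw [Category.id_comp] at hjn
    rw [hjn]
    exact hj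
  have hfin := h Tn (jn ≫ fst _ _) (jn ≫ snd _ _) ⟨n, nilp_of_coord_pow_eq_zero _ n hnil⟩
  rw [lift_comp_fst_snd] at hfin
  have hfin' : jn.left ≫ γ₁.left = jn.left ≫ γ₂.left := by
    rw [← Over.comp_left, hfin, Over.comp_left]
  rw [hjn, Category.assoc, Category.assoc, cancel_epi] at hfin'
  exact hfin'

end PartB

section General

variable {S : Scheme.{u}} {X : Over S}

/-- whiskering with an open immersion is an open immersion -/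
theorem isOpenImmersion_whiskerLeft_left (A : Over S) {Y₁ Y : Over S} (i : Y₁ ⟶ Y) [IsOpenImmersion i.left] :
    IsOpenImmersion (A ◁ i).left := by
  rw [Over.whiskerLeft_left]
  exact MorphismProperty.pullbackMap (P := @IsOpenImmersion) (i₁ := 𝟙 A.left) (i₂ := i.left)
    inferInstance inferInstance (by simp) (by simp)

/-- Two maps `A¹ × Y ⟶ X` which agree on all nilpotent points agree on an open neighbourhood of the zero section. -/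
theorem mem_locus (Y : Over S) (γ₁ γ₂ : AMonS S ↥P₀ ⊗ Y ⟶ X)
    (h : ∀ (T : Over S) (m : T ⟶ AMonS S ↥P₀) (t : T ⟶ Y),
      (∃ n : ℕ, ∀ m' : T ⟶ AMonS S ↥P₀, m ^ (n + 1) * m' = m ^ (n + 1)) → lift m t ≫ γ₁ = lift m t ≫ γ₂)
    (y : Y.left) : (lift (zpt S Y) (𝟙 Y)).left y ∈ Agree.locus γ₁.left γ₂.left := by
  obtain ⟨U, hU, hyU, -⟩ := exists_isAffineOpen_mem_and_subset (x := y) (U := ⊤) trivial
  obtain ⟨Y₁, i, hi, haff, y₁, hy₁⟩ : ∃ (Y₁ : Over S) (i : Y₁ ⟶ Y), IsOpenImmersion i.left ∧ IsAffine Y₁.left ∧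
      ∃ y₁ : Y₁.left, i.left y₁ = y :=
    ⟨Over.mk (U.ι ≫ Y.hom), Over.homMk U.ι rfl, (inferInstance : IsOpenImmersion U.ι), hU, ⟨y, hyU⟩, rfl⟩
  have h' : ∀ (T : Over S) (m : T ⟶ AMonS S ↥P₀) (t : T ⟶ Y₁),
      (∃ n : ℕ, ∀ m' : T ⟶ AMonS S ↥P₀, m ^ (n + 1) * m' = m ^ (n + 1)) →
        lift m t ≫ ((AMonS S ↥P₀ ◁ i) ≫ γ₁) = lift m t ≫ ((AMonS S ↥P₀ ◁ i) ≫ γ₂) := by
    intro T m t hm
    rw [lift_whiskerLeft_assoc, lift_whiskerLeft_assoc]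
    exact h T m (t ≫ i) hm
  have hloc₁ := mem_locus_of_isAffine Y₁ _ _ h' y₁
  obtain ⟨w, hw⟩ : ∃ w : AMonS S ↥P₀ ⊗ Y₁ ⟶ AMonS S ↥P₀ ⊗ Y, w = AMonS S ↥P₀ ◁ i := ⟨_, rfl⟩
  rw [← hw] at hloc₁
  have hwopen : IsOpenImmersion w.left := by rw [hw]; exact isOpenImmersion_whiskerLeft_left _ i
  obtain ⟨Ω₁, hΩ₁⟩ : ∃ Ω₁ : (AMonS S ↥P₀ ⊗ Y₁).left.Opens, Ω₁ = Agree.locus (w ≫ γ₁).left (w ≫ γ₂).left :=
    ⟨_, rfl⟩
  rw [← hΩ₁] at hloc₁
  have hagree : (Ω₁.ι ≫ w.left) ≫ γ₁.left = (Ω₁.ι ≫ w.left) ≫ γ₂.left := by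
    rw [Category.assoc, Category.assoc, hΩ₁]
    exact Agree.locus_ι _ _
  have hle := Agree.opensRange_le_locus γ₁.left γ₂.left (Ω₁.ι ≫ w.left) hagree
  apply hle
  refine ⟨⟨_, hloc₁⟩, ?_⟩
  have e1 : lift (zpt S Y₁) (𝟙 Y₁) ≫ w = i ≫ lift (zpt S Y) (𝟙 Y) := by
    rw [hw, lift_whiskerLeft, comp_lift, OpenImm.comp_ept, Category.id_comp, Category.comp_id]
  have e2 := Agree.left_apply_of_eq _ _ _ _ e1 y₁
  rw [hy₁] at e2
  exact e2

/-- **Injectivity of `D_X ⟶ D̂_X` for the affine line.**  Two equivariant maps `A¹ × Y ⟶ X` which agree on all nilpotent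
points of `A¹` are equal. -/
theorem eq_of_forall_nilpotent (a : MonAct (AMonS S ℤ) X) (Y : Over S) (ψ₁ ψ₂ : AMonS S ↥P₀ ⊗ Y ⟶ X)
    (h₁ : MonAct.IsEquivariant ((subAct S ℤ P₀).prod (MonAct.trivial (AMonS S ℤ) Y)) a ψ₁)
    (h₂ : MonAct.IsEquivariant ((subAct S ℤ P₀).prod (MonAct.trivial (AMonS S ℤ) Y)) a ψ₂)
    (h : ∀ (T : Over S) (m : T ⟶ AMonS S ↥P₀) (t : T ⟶ Y),
      (∃ n : ℕ, ∀ m' : T ⟶ AMonS S ↥P₀, m ^ (n + 1) * m' = m ^ (n + 1)) → lift m t ≫ ψ₁ = lift m t ≫ ψ₂) :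
    ψ₁ = ψ₂ :=
  Agree.eq_of_agree_near_absorbing P₀ a ψ₁ ψ₂ h₁ h₂ (fun W => zpt S W)
    (fun c => OpenImm.comp_ept S _ c) (fun W m => zpt_abs W m)
    (Agree.locus ψ₁.left ψ₂.left) (Agree.locus_ι _ _) (fun t => mem_locus Y ψ₁ ψ₂ h t)

end General

end Groth.Agent.Lib.Seat89.Line
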