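import Groth.Agent.Lib.Seat89Line

/-!
# The coordinate ring of `A(P)_S ×_S Y` for affine `Y`, naturally (helper89)

For `Y : Over S` with `Y.left` affine, `eY S P Y : Γ(Y)[P] ≃+* Γ(A(P)_S ×_S Y)` sends `single p 1` to the `p`-th
coordinate of the first projection and `single 1 c` to the pullback of `c` along the second projection.  It is natural
in `Y` (`eY_natural_right`) and in `P` (`eY_natural_left`).
-/

set_option autoImplicit false
universe u
open CategoryTheory CategoryTheory.Limits MonoidalCategory CartesianMonoidalCategory MonObj AlgebraicGeometry Opposite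
open Magnet

namespace Groth.Agent.Lib.Seat89.MonAlg

open Coord PolyLocal

section Exists

variable (S : Scheme.{u}) (P : Type) [AddCommMonoid P] (Y : Over S) [IsAffine Y.left]

theorem exists_equiv :
    IsAffine (AMonS S P ⊗ Y).left ∧
      ∃ e : MonoidAlgebra Γ(Y.left, ⊤) (Multiplicative P) ≃+* Γ((AMonS S P ⊗ Y).left, ⊤),
        (∀ p : P, e (MonoidAlgebra.single (Multiplicative.ofAdd p) 1) = coord (fst (AMonS S P) Y) p) ∧
        (∀ c : Γ(Y.left, ⊤), e (MonoidAlgebra.single 1 c) = (snd (AMonS S P) Y).left.appTop.hom c) := by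
  obtain ⟨ρ₀, -⟩ : ∃ ρ₀ : ULift.{u} ℤ →+* Γ(Y.left, ⊤), True :=
    ⟨(Int.castRingHom Γ(Y.left, ⊤)).comp (ULift.ringEquiv : ULift.{u} ℤ ≃+* ℤ).toRingHom, trivial⟩
  have hpo := isPushout_monoidAlgebra (ULift.{u} ℤ) Γ(Y.left, ⊤) (Multiplicative P) ρ₀
  have hpb := isPullback_SpecMap_of_isPushout _ _ _ _ hpo
  have h₁ := Density.isPullback_AMonS_tensor S P Y
  have hy : Y.hom ≫ Limits.IsTerminal.from specULiftZIsTerminal S =
      Y.left.isoSpec.hom ≫ Spec.map (CommRingCat.ofHom ρ₀) := specULiftZIsTerminal.hom_ext _ _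
  obtain ⟨inl, hinl⟩ : ∃ inl : CommRingCat.of (MonoidAlgebra (ULift.{u} ℤ) (Multiplicative P)) ⟶
      CommRingCat.of (MonoidAlgebra Γ(Y.left, ⊤) (Multiplicative P)),
      inl = CommRingCat.ofHom (MonoidAlgebra.mapRingHom (Multiplicative P) ρ₀) := ⟨_, rfl⟩
  obtain ⟨inr, hinr⟩ : ∃ inr : CommRingCat.of Γ(Y.left, ⊤) ⟶
      CommRingCat.of (MonoidAlgebra Γ(Y.left, ⊤) (Multiplicative P)),
      inr = CommRingCat.ofHom (MonoidAlgebra.singleOneRingHom) := ⟨_, rfl⟩
  rw [← hinl, ← hinr] at hpb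
  have h₂ : IsPullback (Spec.map inl) (Spec.map inr ≫ Y.left.isoSpec.inv) (AMon (ULift.{u} ℤ) P).hom
      (Y.hom ≫ Limits.IsTerminal.from specULiftZIsTerminal S) := by
    refine hpb.of_iso (Iso.refl _) (Iso.refl _) (Y.left.isoSpec.symm) (Iso.refl _) ?_ ?_ ?_ ?_
    · simp
    · simp
    · simp only [Iso.refl_hom, Category.comp_id, Category.id_comp]
      rfl
    · rw [hy]
      simp
  obtain ⟨Θ, hΘ, hΘ2⟩ : ∃ Θ : (AMonS S P ⊗ Y).left ≅
      Spec (CommRingCat.of (MonoidAlgebra Γ(Y.left, ⊤) (Multiplicative P))),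
      Θ.hom ≫ Spec.map inl = pullback.fst (AMonS S P).hom Y.hom ≫ prZ S P ∧
      Θ.hom ≫ (Spec.map inr ≫ Y.left.isoSpec.inv) = pullback.snd (AMonS S P).hom Y.hom :=
    ⟨IsPullback.isoIsPullback _ _ h₁ h₂, IsPullback.isoIsPullback_hom_fst _ _ h₁ h₂,
      IsPullback.isoIsPullback_hom_snd _ _ h₁ h₂⟩
  have haff : IsAffine (AMonS S P ⊗ Y).left := IsAffine.of_isIso Θ.hom
  refine ⟨haff, ?_⟩
  have hiso : IsIso Θ.hom.appTop :=
    ⟨Θ.inv.appTop, by rw [← Scheme.Hom.comp_appTop, Iso.inv_hom_id, Scheme.Hom.id_appTop],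
      by rw [← Scheme.Hom.comp_appTop, Iso.hom_inv_id, Scheme.Hom.id_appTop]⟩
  obtain ⟨ec, hec⟩ : ∃ ec : CommRingCat.of (MonoidAlgebra Γ(Y.left, ⊤) (Multiplicative P)) ≅
      Γ((AMonS S P ⊗ Y).left, ⊤), ec.hom = (Scheme.ΓSpecIso _).inv ≫ Θ.hom.appTop :=
    ⟨(Scheme.ΓSpecIso _).symm ≪≫ asIso Θ.hom.appTop, rfl⟩
  refine ⟨ec.commRingCatIsoToRingEquiv, fun p => ?_, fun c => ?_⟩
  · change ec.hom.hom (MonoidAlgebra.single (Multiplicative.ofAdd p) 1) = _
    have key : ringMap (fst (AMonS S P) Y) = ec.hom.hom.comp inl.hom := by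
      unfold ringMap
      have e1 : (fst (AMonS S P) Y).left ≫ prZ S P = Θ.hom ≫ Spec.map inl := hΘ.symm
      rw [e1, Scheme.Hom.comp_appTop, ← Category.assoc, ← Scheme.ΓSpecIso_inv_naturality, Category.assoc, ← hec]
      rfl
    unfold coord
    rw [key, hinl]
    change _ = ec.hom.hom (MonoidAlgebra.mapRingHom (Multiplicative P) ρ₀
      (MonoidAlgebra.single (Multiplicative.ofAdd p) 1))
    rw [MonoidAlgebra.mapRingHom_single, map_one]
  · change ec.hom.hom (MonoidAlgebra.single 1 c) = _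
    have key : (snd (AMonS S P) Y).left.appTop = inr ≫ ec.hom := by
      have e1 : (snd (AMonS S P) Y).left = Θ.hom ≫ (Spec.map inr ≫ Y.left.isoSpec.inv) := hΘ2.symm
      have e2 := Agree.SpecMap_isoSpec_inv_appTop inr
      rw [e1, Scheme.Hom.comp_appTop, hec, ← Category.assoc]
      congr 1
      rw [Iso.eq_comp_inv]
      exact e2
    rw [key, hinr]
    rfl

end Exists

section Def

variable (S : Scheme.{u}) (P : Type) [AddCommMonoid P] (Y : Over S) [IsAffine Y.left]

theorem isAffine_tensor : IsAffine (AMonS S P ⊗ Y).left := (exists_equiv S P Y).1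

/-- the identification `Γ(Y)[P] ≃ Γ(A(P)_S ×_S Y)` -/
noncomputable def eY : MonoidAlgebra Γ(Y.left, ⊤) (Multiplicative P) ≃+* Γ((AMonS S P ⊗ Y).left, ⊤) :=
  (exists_equiv S P Y).2.choose

theorem eY_single (p : P) :
    eY S P Y (MonoidAlgebra.single (Multiplicative.ofAdd p) 1) = coord (fst (AMonS S P) Y) p :=
  (exists_equiv S P Y).2.choose_spec.1 p

theorem eY_const (c : Γ(Y.left, ⊤)) :
    eY S P Y (MonoidAlgebra.single 1 c) = (snd (AMonS S P) Y).left.appTop.hom c :=
  (exists_equiv S P Y).2.choose_spec.2 c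

end Def

section Natural

variable (S : Scheme.{u}) (P : Type) [AddCommMonoid P]

theorem eY_natural_right {Y' Y : Over S} [IsAffine Y'.left] [IsAffine Y.left] (h : Y' ⟶ Y)
    (x : MonoidAlgebra Γ(Y.left, ⊤) (Multiplicative P)) :
    (AMonS S P ◁ h).left.appTop.hom (eY S P Y x) =
      eY S P Y' (MonoidAlgebra.mapRingHom (Multiplicative P) h.left.appTop.hom x) := by
  have key : ((AMonS S P ◁ h).left.appTop.hom).comp (eY S P Y).toRingHom =
      (eY S P Y').toRingHom.comp (MonoidAlgebra.mapRingHom (Multiplicative P) h.left.appTop.hom) := by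
    apply MonoidAlgebra.ringHom_ext
    · intro c
      change (AMonS S P ◁ h).left.appTop.hom (eY S P Y (MonoidAlgebra.single 1 c)) =
        eY S P Y' (MonoidAlgebra.mapRingHom (Multiplicative P) h.left.appTop.hom (MonoidAlgebra.single 1 c))
      rw [eY_const, MonoidAlgebra.mapRingHom_single, eY_const]
      have e1 : (AMonS S P ◁ h) ≫ snd (AMonS S P) Y = snd (AMonS S P) Y' ≫ h := whiskerLeft_snd _ _
      have e2 := congrArg (fun m => m.left.appTop.hom c) e1
      simp only [Over.comp_left, Scheme.Hom.comp_appTop, CommRingCat.hom_comp, RingHom.comp_apply] at e2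
      exact e2
    · intro m
      obtain ⟨p, rfl⟩ : ∃ p : P, Multiplicative.ofAdd p = m := ⟨Multiplicative.toAdd m, rfl⟩
      change (AMonS S P ◁ h).left.appTop.hom (eY S P Y (MonoidAlgebra.single (Multiplicative.ofAdd p) 1)) =
        eY S P Y' (MonoidAlgebra.mapRingHom (Multiplicative P) h.left.appTop.hom
          (MonoidAlgebra.single (Multiplicative.ofAdd p) 1))
      rw [eY_single, MonoidAlgebra.mapRingHom_single, map_one, eY_single, ← coord_comp, whiskerLeft_fst]
  exact congrArg (fun f => f x) key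

theorem eY_natural_left {P' : Type} [AddCommMonoid P'] (g : P' →+ P) (Y : Over S) [IsAffine Y.left]
    (x : MonoidAlgebra Γ(Y.left, ⊤) (Multiplicative P')) :
    (AMonS.map S g ▷ Y).left.appTop.hom (eY S P' Y x) =
      eY S P Y (MonoidAlgebra.mapDomainRingHom Γ(Y.left, ⊤) (AddMonoidHom.toMultiplicative g) x) := by
  have key : ((AMonS.map S g ▷ Y).left.appTop.hom).comp (eY S P' Y).toRingHom =
      (eY S P Y).toRingHom.comp
        (MonoidAlgebra.mapDomainRingHom Γ(Y.left, ⊤) (AddMonoidHom.toMultiplicative g)) := by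
    apply MonoidAlgebra.ringHom_ext
    · intro c
      change (AMonS.map S g ▷ Y).left.appTop.hom (eY S P' Y (MonoidAlgebra.single 1 c)) =
        eY S P Y (MonoidAlgebra.mapDomain (AddMonoidHom.toMultiplicative g) (MonoidAlgebra.single 1 c))
      rw [eY_const, MonoidAlgebra.mapDomain_single, map_one, eY_const]
      have e1 : (AMonS.map S g ▷ Y) ≫ snd (AMonS S P') Y = snd (AMonS S P) Y := whiskerRight_snd _ _
      have e2 := congrArg (fun m => m.left.appTop.hom c) e1
      simp only [Over.comp_left, Scheme.Hom.comp_appTop, CommRingCat.hom_comp, RingHom.comp_apply] at e2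
      exact e2
    · intro m
      obtain ⟨p, rfl⟩ : ∃ p : P', Multiplicative.ofAdd p = m := ⟨Multiplicative.toAdd m, rfl⟩
      change (AMonS.map S g ▷ Y).left.appTop.hom (eY S P' Y (MonoidAlgebra.single (Multiplicative.ofAdd p) 1)) =
        eY S P Y (MonoidAlgebra.mapDomain (AddMonoidHom.toMultiplicative g)
          (MonoidAlgebra.single (Multiplicative.ofAdd p) 1))
      rw [eY_single, MonoidAlgebra.mapDomain_single, ← coord_comp, whiskerRight_fst]
      change _ = eY S P Y (MonoidAlgebra.single (Multiplicative.ofAdd (g p)) 1)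
      rw [eY_single, coord_map]
  exact congrArg (fun f => f x) key

end Natural

end Groth.Agent.Lib.Seat89.MonAlg
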