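import Mathlib

/-!
# Positive functionals on finitely many elements of an abelian group (helper89)

A Gordan-type theorem of the alternative, in the form needed for exposed faces of finitely generated monoids:
if no non-trivial combination `∑ aᵢ pᵢ` with natural coefficients lies in the subgroup `F₀`, there is an additive
functional `ℓ : L →+ ℚ` vanishing on `F₀` and positive on every `pᵢ` (`exists_pos_functional`).
-/

set_option autoImplicit false

namespace Groth.Agent.Lib.Seat89.PosFunctional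

variable {L : Type*} [AddCommGroup L]

/-- a functional vanishing on `F₀` and positive on a non-torsion (mod `F₀`) element -/
theorem exists_functional_single (F₀ : AddSubgroup L) (q : L) (hq : ∀ k : ℕ, 0 < k → k • q ∉ F₀) :
    ∃ ℓ : L →+ ℚ, (∀ x ∈ F₀, ℓ x = 0) ∧ 0 < ℓ q := by
  let g : ℤ →+ L ⧸ F₀ := (zmultiplesHom (L ⧸ F₀)) (QuotientAddGroup.mk q)
  have hg : ∀ k : ℤ, g k = k • (QuotientAddGroup.mk q : L ⧸ F₀) := fun k => rfl
  have hginj : Function.Injective g := by
    rw [injective_iff_map_eq_zero]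
    intro k hk
    by_contra hne
    have hpos : 0 < k.natAbs := Int.natAbs_pos.2 hne
    apply hq k.natAbs hpos
    rw [← QuotientAddGroup.eq_zero_iff]
    rw [hg] at hk
    rcases Int.natAbs_eq k with h | h
    · rw [h] at hk
      simpa using hk
    · rw [h] at hk
      simpa using hk
  obtain ⟨φ, hφ⟩ := (Module.Baer.of_divisible ℚ).extension_property_addMonoidHom g hginj (Int.castAddHom ℚ)
  refine ⟨φ.comp (QuotientAddGroup.mk' F₀), fun x hx => ?_, ?_⟩
  · change φ (QuotientAddGroup.mk x) = 0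
    rw [(QuotientAddGroup.eq_zero_iff x).2 hx, map_zero]
  · change 0 < φ (QuotientAddGroup.mk q)
    have h1 : φ (g 1) = (1 : ℤ) := congrArg (fun f => f 1) hφ
    rw [hg, one_zsmul] at h1
    rw [h1]
    norm_num

/-- a natural number `K` making `K * xᵢ + yᵢ` positive for finitely many `xᵢ > 0` -/
theorem exists_nat_mul_add_pos {s : ℕ} (x y : Fin s → ℚ) (hx : ∀ i, 0 < x i) :
    ∃ K : ℕ, ∀ i, 0 < (K : ℚ) * x i + y i := by
  have h1 : ∀ i, ∃ K : ℕ, ∀ K' : ℕ, K ≤ K' → 0 < (K' : ℚ) * x i + y i := by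
    intro i
    obtain ⟨K, hK⟩ := exists_nat_gt (-(y i) / x i)
    refine ⟨K, fun K' hKK' => ?_⟩
    have h2 : -(y i) / x i < (K' : ℚ) := lt_of_lt_of_le hK (by exact_mod_cast hKK')
    rw [div_lt_iff₀ (hx i)] at h2
    linarith
  choose Kf hKf using h1
  exact ⟨Finset.univ.sup Kf, fun i => hKf i _ (Finset.le_sup (Finset.mem_univ i))⟩

/-- **Gordan-type alternative**: if no non-trivial natural combination of the `pᵢ` lies in `F₀`, some additive functional
vanishes on `F₀` and is positive on every `pᵢ` -/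
theorem exists_pos_functional : ∀ (s : ℕ) (F₀ : AddSubgroup L) (p : Fin s → L)
    (_ : ∀ a : Fin s → ℕ, (∑ i, a i • p i) ∈ F₀ → a = 0),
    ∃ ℓ : L →+ ℚ, (∀ x ∈ F₀, ℓ x = 0) ∧ ∀ i, 0 < ℓ (p i) := by
  intro s
  induction s with
  | zero =>
    intro F₀ p _
    exact ⟨0, fun _ _ => rfl, fun i => i.elim0⟩
  | succ s ih =>
    intro F₀ p H
    -- the distinguished element and the tail
    have hq : ∀ k : ℕ, 0 < k → k • p 0 ∉ F₀ := by
      intro k hk hmem
      have h1 := H (Fin.cons k (fun _ => 0)) (by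
        rw [Fin.sum_univ_succ]
        simpa using hmem)
      have h2 := congrFun h1 0
      simp at h2
      omega
    have Htail : ∀ a : Fin s → ℕ, (∑ i, a i • p i.succ) ∈ F₀ → a = 0 := by
      intro a ha
      have h1 := H (Fin.cons 0 a) (by
        rw [Fin.sum_univ_succ]
        simpa using ha)
      funext i
      have h2 := congrFun h1 i.succ
      simpa using h2
    obtain ⟨ℓ₀, hℓ₀F, hℓ₀p⟩ := ih F₀ (fun i => p i.succ) Htail
    obtain ⟨ℓ₂, hℓ₂F, hℓ₂q⟩ := exists_functional_single F₀ (p 0) hq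
    by_cases hrel : ∀ a : Fin s → ℕ,
        (∑ i, a i • p i.succ) ∈ F₀ ⊔ AddSubgroup.zmultiples (p 0) → a = 0
    · -- no relation modulo `p 0`
      obtain ⟨ℓ₁, hℓ₁F, hℓ₁p⟩ := ih (F₀ ⊔ AddSubgroup.zmultiples (p 0)) (fun i => p i.succ) hrel
      obtain ⟨K, hK⟩ := exists_nat_mul_add_pos (fun i => ℓ₁ (p i.succ)) (fun i => ℓ₂ (p i.succ)) hℓ₁p
      refine ⟨K • ℓ₁ + ℓ₂, fun x hx => ?_, fun i => ?_⟩
      · change K • ℓ₁ x + ℓ₂ x = 0
        rw [hℓ₁F x (AddSubgroup.mem_sup_left hx), hℓ₂F x hx]
        simp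
      · change 0 < K • ℓ₁ (p i) + ℓ₂ (p i)
        refine Fin.cases ?_ (fun j => ?_) i
        · rw [hℓ₁F (p 0) (AddSubgroup.mem_sup_right (AddSubgroup.mem_zmultiples (p 0)))]
          simpa using hℓ₂q
        · have := hK j
          simpa [nsmul_eq_mul] using this
    · -- a relation: `p 0` is a positive combination of the others modulo `F₀`
      push Not at hrel
      obtain ⟨a, ha, hane⟩ := hrel
      obtain ⟨f, hf, z, hz, hfz⟩ := AddSubgroup.mem_sup.1 ha
      obtain ⟨lam, rfl⟩ := AddSubgroup.mem_zmultiples_iff.1 hz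
      have hsumpos : 0 < ∑ i, (a i : ℚ) * ℓ₀ (p i.succ) := by
        obtain ⟨i₀, hi₀⟩ : ∃ i₀, a i₀ ≠ 0 := by
          by_contra hcon
          push Not at hcon
          exact hane (funext hcon)
        apply Finset.sum_pos'
        · intro i _
          exact mul_nonneg (Nat.cast_nonneg _) (le_of_lt (hℓ₀p i))
        · exact ⟨i₀, Finset.mem_univ _, mul_pos (Nat.cast_pos.2 (Nat.pos_of_ne_zero hi₀)) (hℓ₀p i₀)⟩
      have hval : ∑ i, (a i : ℚ) * ℓ₀ (p i.succ) = (lam : ℚ) * ℓ₀ (p 0) := by
        have h1 := congrArg ℓ₀ hfz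
        rw [map_add, hℓ₀F f hf, zero_add, map_zsmul, map_sum] at h1
        rw [zsmul_eq_mul] at h1
        rw [h1]
        apply Finset.sum_congr rfl
        intro i _
        rw [map_nsmul, nsmul_eq_mul]
      have hlampos : 0 < lam := by
        by_contra hle
        push Not at hle
        -- then `(-lam) • p 0 + ∑ aᵢ pᵢ ∈ F₀` is a non-trivial relation
        have h1 := H (Fin.cons (-lam).toNat a) (by
          rw [Fin.sum_univ_succ]
          simp only [Fin.cons_zero, Fin.cons_succ]
          have h2 : ((-lam).toNat : ℤ) = -lam := Int.toNat_of_nonneg (by omega)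
          have h3 : (-lam).toNat • p 0 = (-lam) • p 0 := by
            rw [← natCast_zsmul, h2]
          rw [h3, ← hfz, neg_zsmul]
          have : -(lam • p 0) + (f + lam • p 0) = f := by abel
          rw [this]
          exact hf)
        apply hane
        funext i
        have h2 := congrFun h1 i.succ
        simpa using h2
      have hq0 : 0 < ℓ₀ (p 0) := by
        rw [hval] at hsumpos
        have hl : (0 : ℚ) < (lam : ℚ) := by exact_mod_cast hlampos
        exact (mul_pos_iff_of_pos_left hl).1 hsumpos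
      refine ⟨ℓ₀, hℓ₀F, fun i => ?_⟩
      refine Fin.cases hq0 (fun j => hℓ₀p j) i

end Groth.Agent.Lib.Seat89.PosFunctional
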