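import Groth.Agent.Lib.Seat89Homog

/-!
# Finitely many degrees control all component ideals (helper89)

For `X : Over S` with `X.left` affine and an action `a` of `A(M)_S`:
* `counit_sum`: `b = ∑_m (coact a b)_m`;
* `coact_appLE`: functions from the base have degree `0`;
* `compIdeal_le_of_gens`: if `Γ(X)` is generated over a degree-`0` subring by homogeneous elements `g` of degrees
  `deg g`, then `compIdeal a L ≤ compIdeal a N` as soon as every `deg g ∈ N` lies in `L`;
* `exists_finset_degrees`: for `Γ(X)` of finite type over (an affine open of) the base there is a finite set `D` of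
  degrees such that `compIdeal a L ≤ compIdeal a N` whenever `N ∩ D ⊆ L`.
-/

set_option autoImplicit false
universe u
open CategoryTheory CategoryTheory.Limits MonoidalCategory CartesianMonoidalCategory MonObj AlgebraicGeometry Opposite
open Magnet

namespace Groth.Agent.Lib.Seat89.PureFin

open Coord MonAlg AttrDesc AffAttr Homog

section Counit

variable {S : Scheme.{u}} {M : Type} [AddCommMonoid M] {X : Over S} [IsAffine X.left]
  (a : MonAct (AMonS S M) X)

/-- the unit section `X ⟶ A(M) × X` -/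
noncomputable abbrev unitSec (S : Scheme.{u}) (M : Type) [AddCommMonoid M] (X : Over S) : X ⟶ AMonS S M ⊗ X :=
  lift (1 : X ⟶ AMonS S M) (𝟙 X)

theorem unitSec_appTop (y : MonoidAlgebra Γ(X.left, ⊤) (Multiplicative M)) :
    (unitSec S M X).left.appTop.hom (eY S M X y) = y.coeff.sum (fun _ c => c) := by
  obtain ⟨F, hF⟩ : ∃ F : MonoidAlgebra Γ(X.left, ⊤) (Multiplicative M) →+ Γ(X.left, ⊤),
      ∀ y, F y = (unitSec S M X).left.appTop.hom (eY S M X y) :=
    ⟨{ toFun := fun y => (unitSec S M X).left.appTop.hom (eY S M X y)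
       map_zero' := by simp
       map_add' := fun y y' => by simp }, fun _ => rfl⟩
  obtain ⟨G, hG⟩ : ∃ G : MonoidAlgebra Γ(X.left, ⊤) (Multiplicative M) →+ Γ(X.left, ⊤),
      ∀ y, G y = y.coeff.sum (fun _ c => c) :=
    ⟨{ toFun := fun y => y.coeff.sum (fun _ c => c)
       map_zero' := by simp
       map_add' := fun y y' => by
        rw [MonoidAlgebra.coeff_add]
        exact Finsupp.sum_add_index' (fun _ => rfl) (fun _ _ _ => rfl) }, fun _ => rfl⟩
  have hFG : F = G := by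
    apply MonoidAlgebra.addMonoidHom_ext
    intro m' c
    obtain ⟨m₀, rfl⟩ : ∃ m₀ : M, Multiplicative.ofAdd m₀ = m' := ⟨Multiplicative.toAdd m', rfl⟩
    rw [hF, hG, eY_single', map_mul, ← coord_comp]
    have e1 : unitSec S M X ≫ fst (AMonS S M) X = 1 := lift_fst _ _
    have e2 : unitSec S M X ≫ snd (AMonS S M) X = 𝟙 X := lift_snd _ _
    have e3 := congrArg (fun k => k.left.appTop.hom c) e2
    simp only [Over.comp_left, Scheme.Hom.comp_appTop, CommRingCat.hom_comp, RingHom.comp_apply] at e3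
    rw [e1, coord_one, _root_.one_mul, e3]
    simp [MonoidAlgebra.coeff_single]
  rw [← hF, ← hG, hFG]

/-- **counit**: an element is the sum of its components -/
theorem counit_sum (b : Γ(X.left, ⊤)) : b = (coact a b).coeff.sum (fun _ c => c) := by
  rw [← unitSec_appTop, eY_coact]
  have h : unitSec S M X ≫ a.act = 𝟙 X := MonAct.lift_one_act a (𝟙 X)
  have h2 := congrArg (fun k => k.left.appTop.hom b) h
  simp only [Over.comp_left, Scheme.Hom.comp_appTop, CommRingCat.hom_comp, RingHom.comp_apply] at h2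
  rw [h2]
  rfl

end Counit

section Base

variable {S : Scheme.{u}} {M : Type} [AddCommMonoid M] {X : Over S} [IsAffine X.left]
  (a : MonAct (AMonS S M) X)

omit [IsAffine X.left] in
theorem appLE_comp_appTop {Y : Over S} (k : Y ⟶ X) (W : S.Opens) (e : (⊤ : X.left.Opens) ≤ X.hom ⁻¹ᵁ W)
    (e' : (⊤ : Y.left.Opens) ≤ Y.hom ⁻¹ᵁ W) :
    X.hom.appLE W ⊤ e ≫ k.left.appTop = Y.hom.appLE W ⊤ e' := by
  have h1 : k.left.appTop = k.left.appLE ⊤ ⊤ le_rfl := Scheme.Hom.app_eq_appLE k.left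
  rw [h1, Scheme.Hom.appLE_comp_appLE]
  have h2 : k.left ≫ X.hom = Y.hom := Over.w k
  have gen : ∀ (g g' : Y.left ⟶ S) (_ : g = g') (e₁ : (⊤ : Y.left.Opens) ≤ g ⁻¹ᵁ W)
      (e₂ : (⊤ : Y.left.Opens) ≤ g' ⁻¹ᵁ W), g.appLE W ⊤ e₁ = g'.appLE W ⊤ e₂ := by
    intro g g' h e₁ e₂
    subst h
    rfl
  exact gen _ _ h2 _ _

/-- functions coming from the base have degree `0` -/
theorem coact_appLE (W : S.Opens) (e : (⊤ : X.left.Opens) ≤ X.hom ⁻¹ᵁ W) (r : Γ(S, W)) :
    coact a ((X.hom.appLE W ⊤ e).hom r) = MonoidAlgebra.single 1 ((X.hom.appLE W ⊤ e).hom r) := by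
  apply (eY S M X).injective
  rw [eY_coact, eY_const]
  have e' : (⊤ : (AMonS S M ⊗ X).left.Opens) ≤ (AMonS S M ⊗ X).hom ⁻¹ᵁ W := by
    intro z _
    have h2 : (snd (AMonS S M) X).left ≫ X.hom = (AMonS S M ⊗ X).hom := Over.w _
    change (AMonS S M ⊗ X).hom z ∈ W
    rw [← h2, Scheme.Hom.comp_apply]
    exact e (Set.mem_univ _)
  have h1 := congrArg (fun k => k.hom r) (appLE_comp_appTop a.act W e e')
  have h2 := congrArg (fun k => k.hom r) (appLE_comp_appTop (snd (AMonS S M) X) W e e')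
  simp only [CommRingCat.hom_comp, RingHom.comp_apply] at h1 h2
  rw [h1, h2]

end Base

section Gens

variable {S : Scheme.{u}} {M : Type} [AddCommMonoid M] {X : Over S} [IsAffine X.left]
  (a : MonAct (AMonS S M) X)

/-- if `Γ(X)` is generated over a subring of degree `0` by homogeneous elements `g ∈ G` of degrees `deg g`, then the
component ideal of `L` is contained in that of `N` as soon as `deg g ∈ N → deg g ∈ L` for all `g ∈ G` -/
theorem compIdeal_le_of_gens {A : Type*} [CommRing A] (ρ : A →+* Γ(X.left, ⊤))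
    (hρ : ∀ r, coact a (ρ r) = MonoidAlgebra.single 1 (ρ r))
    (G : Set Γ(X.left, ⊤)) (deg : Γ(X.left, ⊤) → M)
    (hG : ∀ g ∈ G, coact a g = MonoidAlgebra.single (Multiplicative.ofAdd (deg g)) g)
    (hgen : Subring.closure (Set.range ρ ∪ G) = ⊤)
    (N L : AddSubmonoid M) (hNL : ∀ g ∈ G, deg g ∈ N → deg g ∈ L) :
    compIdeal a L ≤ compIdeal a N := by
  obtain ⟨I, hI⟩ : ∃ I, I = compIdeal a N := ⟨_, rfl⟩
  rw [← hI]
  obtain ⟨π, hπ⟩ : ∃ π : Γ(X.left, ⊤) →+* Γ(X.left, ⊤) ⧸ I, π = Ideal.Quotient.mk I := ⟨_, rfl⟩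
  obtain ⟨Φ, hΦ⟩ : ∃ Φ : Γ(X.left, ⊤) →+* MonoidAlgebra (Γ(X.left, ⊤) ⧸ I) (Multiplicative M),
      Φ = (MonoidAlgebra.mapRingHom (Multiplicative M) π).comp (coact a) := ⟨_, rfl⟩
  obtain ⟨ιL, hιL⟩ : ∃ ιL : MonoidAlgebra (Γ(X.left, ⊤) ⧸ I) (Multiplicative ↥L) →+*
      MonoidAlgebra (Γ(X.left, ⊤) ⧸ I) (Multiplicative M),
      ιL = MonoidAlgebra.mapDomainRingHom (Γ(X.left, ⊤) ⧸ I) (AddMonoidHom.toMultiplicative L.subtype) := ⟨_, rfl⟩
  have hsingle : ∀ (l : ↥L) (c : Γ(X.left, ⊤) ⧸ I),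
      ιL (MonoidAlgebra.single (Multiplicative.ofAdd l) c) = MonoidAlgebra.single (Multiplicative.ofAdd (l : M)) c := by
    intro l c
    rw [hιL]
    change MonoidAlgebra.mapDomain _ (MonoidAlgebra.single _ c) = _
    rw [MonoidAlgebra.mapDomain_single]
    rfl
  have hmem : ∀ b, Φ b ∈ ιL.range := by
    intro b
    have hb : b ∈ Subring.closure (Set.range ρ ∪ G) := by rw [hgen]; trivial
    have hle : Subring.closure (Set.range ρ ∪ G) ≤ ιL.range.comap Φ := by
      rw [Subring.closure_le]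
      rintro x (⟨r, rfl⟩ | hx)
      · change Φ (ρ r) ∈ ιL.range
        refine ⟨MonoidAlgebra.single (Multiplicative.ofAdd (0 : ↥L)) (π (ρ r)), ?_⟩
        rw [hsingle, hΦ]
        change _ = MonoidAlgebra.mapRingHom (Multiplicative M) π (coact a (ρ r))
        rw [hρ, MonoidAlgebra.mapRingHom_single]
        rfl
      · change Φ x ∈ ιL.range
        have hx2 : Φ x = MonoidAlgebra.single (Multiplicative.ofAdd (deg x)) (π x) := by
          rw [hΦ]
          change MonoidAlgebra.mapRingHom (Multiplicative M) π (coact a x) = _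
          rw [hG x hx, MonoidAlgebra.mapRingHom_single]
        by_cases hd : deg x ∈ L
        · refine ⟨MonoidAlgebra.single (Multiplicative.ofAdd (⟨deg x, hd⟩ : ↥L)) (π x), ?_⟩
          rw [hsingle, hx2]
        · have hdN : deg x ∉ N := fun h => hd (hNL x hx h)
          have hxI : x ∈ I := by
            rw [hI]
            apply Ideal.subset_span
            refine ⟨x, deg x, hdN, ?_⟩
            rw [hG x hx]
            simp [MonoidAlgebra.coeff_single]
          have hπx : π x = 0 := by rw [hπ]; exact Ideal.Quotient.eq_zero_iff_mem.2 hxI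
          rw [hx2, hπx, MonoidAlgebra.single_zero]
          exact Subring.zero_mem _
    exact hle hb
  unfold compIdeal
  rw [Ideal.span_le]
  rintro c ⟨b, m, hm, rfl⟩
  obtain ⟨y, hy⟩ := hmem b
  have h1 : (Φ b).coeff (Multiplicative.ofAdd m) = π ((coact a b).coeff (Multiplicative.ofAdd m)) := by
    rw [hΦ]
    change (MonoidAlgebra.mapRingHom (Multiplicative M) π (coact a b)).coeff _ = _
    rw [MonoidAlgebra.coeff_mapRingHom]
  have h0 : (ιL y).coeff (Multiplicative.ofAdd m) = 0 := by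
    rw [hιL]
    change (MonoidAlgebra.mapDomain _ y).coeff _ = 0
    rw [MonoidAlgebra.coeff_mapDomain]
    exact Finsupp.mapDomain_notin_range _ _ (not_mem_range_of_not_mem L hm)
  rw [hy, h1, hπ] at h0
  exact Ideal.Quotient.eq_zero_iff_mem.1 h0

open Classical in
/-- a finite-type algebra with a coaction is generated by finitely many homogeneous elements -/
theorem exists_homog_gens {A : Type u} [CommRing A] (ρ : A →+* Γ(X.left, ⊤)) (hft : ρ.FiniteType) :
    ∃ (G : Finset Γ(X.left, ⊤)) (deg : Γ(X.left, ⊤) → M),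
      (∀ g ∈ G, coact a g = MonoidAlgebra.single (Multiplicative.ofAdd (deg g)) g) ∧
      Subring.closure (Set.range ρ ∪ (G : Set Γ(X.left, ⊤))) = ⊤ := by
  letI := ρ.toAlgebra
  obtain ⟨G₀, hG₀⟩ := hft.out
  have hclos : Subring.closure (Set.range ρ ∪ (G₀ : Set Γ(X.left, ⊤))) = ⊤ := by
    have h1 := Algebra.adjoin_eq_ring_closure (R := A) (G₀ : Set Γ(X.left, ⊤))
    rw [hG₀] at h1
    rw [← RingHom.algebraMap_toAlgebra ρ, ← h1]
    rfl
  obtain ⟨G, hGdef⟩ : ∃ G : Finset Γ(X.left, ⊤), G = G₀.biUnion (fun g =>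
      (coact a g).coeff.support.image (fun m => (coact a g).coeff m)) := ⟨_, rfl⟩
  have hGmem : ∀ g ∈ G, ∃ m : M, coact a g = MonoidAlgebra.single (Multiplicative.ofAdd m) g := by
    intro g hg
    rw [hGdef, Finset.mem_biUnion] at hg
    obtain ⟨g₀, -, hg⟩ := hg
    rw [Finset.mem_image] at hg
    obtain ⟨m', -, rfl⟩ := hg
    exact ⟨Multiplicative.toAdd m', coact_coeff a g₀ (Multiplicative.toAdd m')⟩
  refine ⟨G, fun c => if h : ∃ m : M, coact a c = MonoidAlgebra.single (Multiplicative.ofAdd m) c then h.choose else 0,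
    fun g hg => ?_, ?_⟩
  · have h := hGmem g hg
    simp only [dif_pos h]
    exact h.choose_spec
  · rw [eq_top_iff, ← hclos, Subring.closure_le]
    rintro x (hx | hx)
    · exact Subring.subset_closure (Or.inl hx)
    · have hx2 := counit_sum a x
      rw [hx2]
      unfold Finsupp.sum
      apply Subring.sum_mem
      intro m' hm'
      apply Subring.subset_closure
      right
      rw [hGdef]
      simp only [Finset.coe_biUnion, Finset.coe_image, Set.mem_iUnion, Set.mem_image, Finset.mem_coe]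
      exact ⟨x, hx, m', hm', rfl⟩

open Classical in
/-- finitely many degrees control the component ideals, for `Γ(X)` of finite type over an open of the base -/
theorem exists_finset_degrees (W : S.Opens) (e : (⊤ : X.left.Opens) ≤ X.hom ⁻¹ᵁ W)
    (hft : (X.hom.appLE W ⊤ e).hom.FiniteType) :
    ∃ D : Finset M, ∀ N L : AddSubmonoid M, (∀ d ∈ D, d ∈ N → d ∈ L) → compIdeal a L ≤ compIdeal a N := by
  obtain ⟨G, deg, hG, hgen⟩ := exists_homog_gens a _ hft
  refine ⟨G.image deg, fun N L h => ?_⟩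
  exact compIdeal_le_of_gens a _ (coact_appLE a W e) (G : Set Γ(X.left, ⊤)) deg (fun g hg => hG g hg) hgen N L
    (fun g hg => h (deg g) (Finset.mem_image_of_mem _ hg))

end Gens

section Main

variable {S : Scheme.{u}} [CompactSpace S] {M : Type} [AddCommMonoid M] {X : Over S} [IsAffineHom X.hom]
  [LocallyOfFiniteType X.hom] (a : MonAct (AMonS S M) X)

omit [CompactSpace S] in
theorem exists_finset_degrees_preimage (W : S.affineOpens) :
    ∃ D : Finset M, ∀ N L : AddSubmonoid M, (∀ d ∈ D, d ∈ N → d ∈ L) →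
      @compIdeal S M _ (Restrict.XV X (X.hom ⁻¹ᵁ W.1)) (W.2.preimage X.hom)
        (Restrict.restr (X.hom ⁻¹ᵁ W.1) a (Restrict.stable_preimage a.act W.1)) L ≤
      @compIdeal S M _ (Restrict.XV X (X.hom ⁻¹ᵁ W.1)) (W.2.preimage X.hom)
        (Restrict.restr (X.hom ⁻¹ᵁ W.1) a (Restrict.stable_preimage a.act W.1)) N := by
  haveI haff : IsAffine (Restrict.XV X (X.hom ⁻¹ᵁ W.1)).left := W.2.preimage X.hom
  have e : (⊤ : (Restrict.XV X (X.hom ⁻¹ᵁ W.1)).left.Opens) ≤ (Restrict.XV X (X.hom ⁻¹ᵁ W.1)).hom ⁻¹ᵁ W.1 := by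
    intro z _
    change X.hom ((X.hom ⁻¹ᵁ W.1).ι z) ∈ W.1
    exact z.2
  have hlft : LocallyOfFiniteType (Restrict.XV X (X.hom ⁻¹ᵁ W.1)).hom := by
    change LocallyOfFiniteType ((X.hom ⁻¹ᵁ W.1).ι ≫ X.hom)
    infer_instance
  have hft := HasRingHomProperty.appLE (P := @LocallyOfFiniteType) (Restrict.XV X (X.hom ⁻¹ᵁ W.1)).hom hlft W
    ⟨⊤, isAffineOpen_top _⟩ e
  exact exists_finset_degrees _ W.1 e hft

open Classical in
/-- **finitely many degrees control the image of the attractors in `X`** -/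
theorem exists_finset_degrees_global :
    ∃ D : Finset M, ∀ N L : AddSubmonoid M, (∀ d ∈ D, d ∈ N → d ∈ L) →
      ∀ {T : Scheme.{u}} (ξ : T ⟶ X.left), P a N ξ → P a L ξ := by
  haveI : IsSeparated X.hom := AffAttrRep.isSeparated_of_isAffineHom
  choose D hD using exists_finset_degrees_preimage a
  obtain ⟨s, hs, hcov⟩ := (isCompact_iff_finite_and_eq_biUnion_affineOpens (X := S) (U := ⊤)).1 isCompact_univ
  refine ⟨hs.toFinset.biUnion D, fun N L h {T} ξ hξ => ?_⟩
  have hU : TopologicalSpace.IsOpenCover (fun W : ↥s => ξ ⁻¹ᵁ (X.hom ⁻¹ᵁ W.1.1)) := by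
    change ⨆ W : ↥s, ξ ⁻¹ᵁ (X.hom ⁻¹ᵁ W.1.1) = ⊤
    rw [eq_top_iff]
    intro x _
    have hx : X.hom (ξ x) ∈ (⊤ : S.Opens) := trivial
    rw [hcov] at hx
    obtain ⟨W, hx⟩ := TopologicalSpace.Opens.mem_iSup.1 hx
    obtain ⟨hW, hx⟩ := TopologicalSpace.Opens.mem_iSup.1 hx
    exact TopologicalSpace.Opens.mem_iSup.2 ⟨⟨W, hW⟩, hx⟩
  refine P_loc a L ξ (T.openCoverOfIsOpenCover _ hU) fun W => ?_
  change P a L ((ξ ⁻¹ᵁ (X.hom ⁻¹ᵁ W.1.1)).ι ≫ ξ)
  have h1 : P a N ((ξ ⁻¹ᵁ (X.hom ⁻¹ᵁ W.1.1)).ι ≫ ξ) := P_precomp _ _ _ _ hξ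
  rw [← morphismRestrict_ι] at h1 ⊢
  rw [P_preimage_iff] at h1 ⊢
  refine le_trans (hD W.1 N L fun d hd => h d ?_) h1
  exact Finset.mem_biUnion.2 ⟨W.1, hs.mem_toFinset.2 W.2, hd⟩

end Main

end Groth.Agent.Lib.Seat89.PureFin
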