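import Groth.Agent.Lib.Helper20EffCartier
import Mathlib.AlgebraicGeometry.IdealSheaf.Functorial
import Mathlib.AlgebraicGeometry.Morphisms.ClosedImmersion

/-!
# Closed immersions out of a nilpotent thickening (helper89)

Let `i : D ⟶ C` be a closed immersion whose ideal has square zero and `f : C ⟶ X` any morphism.  Then `f` is a closed
immersion iff `i ≫ f` is a closed immersion and the ideal of the image of `D` in `X` generates the ideal of `D` in `C`
(`isClosedImmersion_iff_of_sq_zero`).
-/

set_option autoImplicit false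
universe u
open CategoryTheory CategoryTheory.Limits AlgebraicGeometry

namespace Groth.Agent.Lib.Seat89.RibbonCI

open Scheme.IdealSheafData

variable {D C X : Scheme.{u}}

/-- a closed immersion with nilpotent ideal is surjective -/
theorem surjective_of_ker_pow_eq_bot (i : D ⟶ C) [IsClosedImmersion i] (n : ℕ) (hn : n ≠ 0) (h : i.ker ^ n = ⊥) :
    Function.Surjective i := by
  have h1 : i.ker.support = ⊤ := by
    rw [← support_pow i.ker n hn, h, support_bot]
  have h2 := Scheme.Hom.support_ker i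
  rw [i.isClosedEmbedding.isClosed_range.closure_eq] at h2
  rw [← Set.range_eq_univ, ← h2, h1]
  rfl

/-- ring-level core: `A → B → B/J` with `J² = 0`, `A → B/J` surjective and `J` generated by the image of the kernel
of `A → B/J`: then `A → B` is surjective. -/
theorem surjective_of_sq_zero {A B B' : Type*} [CommRing A] [CommRing B] [CommRing B'] (φ : A →+* B) (π : B →+* B')
    (hπφ : Function.Surjective (π.comp φ)) (hJ : RingHom.ker π * RingHom.ker π = ⊥)
    (hgen : (RingHom.ker (π.comp φ)).map φ = RingHom.ker π) : Function.Surjective φ := by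
  -- every element of `J` is in the range
  have hJr : ∀ y ∈ RingHom.ker π, y ∈ φ.range := by
    intro y hy
    rw [← hgen] at hy
    refine Submodule.span_induction (p := fun y _ => y ∈ φ.range) ?_ ?_ ?_ ?_ hy
    · rintro _ ⟨a, -, rfl⟩
      exact ⟨a, rfl⟩
    · exact φ.range.zero_mem
    · intro x y _ _ hx hy
      exact φ.range.add_mem hx hy
    · intro b x hx hxr
      -- b • x = b * x, `x ∈ J`
      have hxJ : x ∈ RingHom.ker π := by rw [← hgen]; exact hx
      obtain ⟨a, ha⟩ := hπφ (π b)
      have hba : b - φ a ∈ RingHom.ker π := by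
        rw [RingHom.mem_ker, map_sub, ← ha]
        simp
      have hz : (b - φ a) * x = 0 := by
        have : (b - φ a) * x ∈ RingHom.ker π * RingHom.ker π := Ideal.mul_mem_mul hba hxJ
        rw [hJ] at this
        exact this
      have : b • x = φ a * x := by
        rw [smul_eq_mul]
        have := hz
        rw [sub_mul, sub_eq_zero] at this
        exact this
      rw [this]
      exact φ.range.mul_mem ⟨a, rfl⟩ hxr
  intro b
  obtain ⟨a, ha⟩ := hπφ (π b)
  have hba : b - φ a ∈ RingHom.ker π := by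
    rw [RingHom.mem_ker, map_sub, ← ha]
    simp
  obtain ⟨a', ha'⟩ := hJr _ hba
  exact ⟨a' + a, by rw [map_add, ha']; ring⟩

theorem isClosedImmersion_iff_of_sq_zero (i : D ⟶ C) [IsClosedImmersion i] (hsq : i.ker ^ 2 = ⊥) (f : C ⟶ X) :
    IsClosedImmersion f ↔ (IsClosedImmersion (i ≫ f) ∧ (i ≫ f).ker.comap f = i.ker) := by
  constructor
  · intro hf
    refine ⟨inferInstance, ?_⟩
    refine ext_of_iSup_eq_top (fun U : X.affineOpens => (⟨f ⁻¹ᵁ U.1, U.2.preimage f⟩ : C.affineOpens)) ?_ ?_
    · rw [eq_top_iff]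
      intro c _
      obtain ⟨_, ⟨U, hU, rfl⟩, hxU, -⟩ :=
        X.isBasis_affineOpens.exists_subset_of_mem_open (Set.mem_univ (f c)) isOpen_univ
      exact TopologicalSpace.Opens.mem_iSup.2 ⟨⟨U, hU⟩, hxU⟩
    · intro U
      rw [Groth.Agent.Lib.Helper20.EffCartier.ideal_comap_eq_map f _ (U.2.preimage f) U.2 le_rfl,
        Scheme.Hom.ker_comp, ideal_map_of_isAffineHom]
      have hs : Function.Surjective (f.app U.1).hom := f.app_surjective U.1 U.2
      have : f.appLE U.1 (f ⁻¹ᵁ U.1) le_rfl = f.app U.1 := by simp [Scheme.Hom.appLE]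
      rw [this]
      exact Ideal.map_comap_of_surjective _ hs _
  · rintro ⟨hg, hker⟩
    have hisurj := surjective_of_ker_pow_eq_bot i 2 (by norm_num) hsq
    -- `i` is a homeomorphism
    have hihomeo : IsHomeomorph i :=
      isHomeomorph_iff_isEmbedding_surjective.mpr ⟨i.isEmbedding, hisurj⟩
    -- `f` is a closed embedding
    have hfce : Topology.IsClosedEmbedding f := by
      have h := (i ≫ f).isClosedEmbedding
      simp only [Scheme.Hom.comp_base, TopCat.coe_comp] at h
      have e : (f : C → X) = (f ∘ i) ∘ hihomeo.homeomorph.symm := by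
        funext c
        simp only [Function.comp_apply]
        congr 1
        exact (hihomeo.homeomorph.apply_symm_apply c).symm
      rw [e]
      exact h.comp hihomeo.homeomorph.symm.isClosedEmbedding
    have hfaff : IsAffineHom f := isAffineHom_of_isInducing f hfce.isInducing hfce.isClosed_range
    rw [isClosedImmersion_iff_isAffineHom]
    refine ⟨hfaff, fun U hU => ?_⟩
    have hV : IsAffineOpen (f ⁻¹ᵁ U) := hU.preimage f
    -- the three rings
    have hcomp : (i ≫ f).app U = f.app U ≫ i.app (f ⁻¹ᵁ U) := by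
      rw [Scheme.Hom.comp_app]
    refine surjective_of_sq_zero (f.app U).hom (i.app (f ⁻¹ᵁ U)).hom ?_ ?_ ?_
    · have := (i ≫ f).app_surjective U hU
      rw [hcomp] at this
      exact this
    · have h1 : i.ker.ideal ⟨f ⁻¹ᵁ U, hV⟩ = RingHom.ker (i.app (f ⁻¹ᵁ U)).hom := i.ker_apply ⟨f ⁻¹ᵁ U, hV⟩
      rw [← h1, ← pow_two]
      have h2 : (i.ker ^ 2).ideal ⟨f ⁻¹ᵁ U, hV⟩ = (i.ker.ideal ⟨f ⁻¹ᵁ U, hV⟩) ^ 2 := rfl
      rw [← h2, hsq]
      rfl
    · have h1 : i.ker.ideal ⟨f ⁻¹ᵁ U, hV⟩ = RingHom.ker (i.app (f ⁻¹ᵁ U)).hom := i.ker_apply ⟨f ⁻¹ᵁ U, hV⟩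
      have h3 : (i ≫ f).ker.ideal ⟨U, hU⟩ = RingHom.ker ((i ≫ f).app U).hom := (i ≫ f).ker_apply ⟨U, hU⟩
      rw [← h1, ← hker,
        Groth.Agent.Lib.Helper20.EffCartier.ideal_comap_eq_map f _ hV hU le_rfl, h3, hcomp]
      have : f.appLE U (f ⁻¹ᵁ U) le_rfl = f.app U := by simp [Scheme.Hom.appLE]
      rw [this]
      rfl

end Groth.Agent.Lib.Seat89.RibbonCI
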