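import Mathlib
import Groth.Agent.Lib.Helper1Extend

/-!
# Flat base change of `Hom` in the derived category, part 1: linear structures (seat 8)

For a flat `A`-algebra `B`, the functor `extD A B : D(A) ⥤ D(B)` is `A`-linear, the `A`- and `B`-module structures
on the morphism groups of `D(B)` are compatible, and we define the comparison map
`cmp K L : B ⊗[A] Hom_{D(A)}(K, L) → Hom_{D(B)}(K_B, L_B)` together with the predicate `BC K L` saying that it is
bijective.  Basic properties: naturality, invariance under isomorphisms, the case of vanishing morphism groups.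
-/

set_option autoImplicit false
universe u
open CategoryTheory CategoryTheory.Limits
attribute [local instance] HasDerivedCategory.standard
open ModuleCat.Algebra
open Groth.Agent.Lib.Helper1.Extend
open scoped TensorProduct ChangeOfRings

namespace Groth.Agent.Lib.Seat8.FBC

section

variable {A B : Type u} [CommRing A] [CommRing B] [Algebra A B]

/-- In `ModuleCat B`, the `A`-action on morphisms is the `B`-action through `algebraMap`. -/
lemma smul_hom_eq {M N : ModuleCat.{u} B} (a : A) (f : M ⟶ N) :
    a • f = (algebraMap A B a) • f := by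
  ext m
  rfl

/-- In `D(B)`, the `A`-action on morphisms is the `B`-action through `algebraMap`. -/
lemma smul_homD_eq {X Y : Dual.D B} (a : A) (f : X ⟶ Y) :
    a • f = (algebraMap A B a) • f := by
  have key : ∀ Z : Dual.D B, a • 𝟙 Z = (algebraMap A B a) • 𝟙 Z := by
    intro Z
    let e : DerivedCategory.Q.obj (DerivedCategory.Q.objPreimage Z) ≅ Z :=
      DerivedCategory.Q.objObjPreimageIso Z
    have h1 : a • 𝟙 (DerivedCategory.Q.objPreimage Z) =
        (algebraMap A B a) • 𝟙 (DerivedCategory.Q.objPreimage Z) := by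
      ext i : 1
      exact smul_hom_eq a _
    have h2 : a • 𝟙 (DerivedCategory.Q.obj (DerivedCategory.Q.objPreimage Z)) =
        (algebraMap A B a) • 𝟙 (DerivedCategory.Q.obj (DerivedCategory.Q.objPreimage Z)) := by
      rw [← CategoryTheory.Functor.map_id, ← Functor.map_smul, ← Functor.map_smul, h1]
    calc a • 𝟙 Z = e.inv ≫ (a • 𝟙 _) ≫ e.hom := by
          rw [Linear.smul_comp, Linear.comp_smul, Category.id_comp, e.inv_hom_id]
      _ = e.inv ≫ ((algebraMap A B a) • 𝟙 _) ≫ e.hom := by rw [h2]
      _ = (algebraMap A B a) • 𝟙 Z := by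
          rw [Linear.smul_comp, Linear.comp_smul, Category.id_comp, e.inv_hom_id]
  calc a • f = (a • 𝟙 X) ≫ f := by rw [Linear.smul_comp, Category.id_comp]
    _ = ((algebraMap A B a) • 𝟙 X) ≫ f := by rw [key]
    _ = (algebraMap A B a) • f := by rw [Linear.smul_comp, Category.id_comp]

instance isScalarTower_homD (X Y : Dual.D B) : IsScalarTower A B (X ⟶ Y) where
  smul_assoc a b f := by
    rw [smul_homD_eq a (b • f), Algebra.smul_def, mul_smul]

instance linear_ext : (ext A B).Linear A where
  map_smul {M N} f a := by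
    ext m
    let x : (ModuleCat.extendScalars (algebraMap A B)).obj N :=
      (1 : B) ⊗ₜ[A,(algebraMap A B)] (f m)
    show (1 : B) ⊗ₜ[A,(algebraMap A B)] ((a • f) m) = (algebraMap A B a) • x
    have hx : (algebraMap A B a) • x = ((algebraMap A B a) * 1) ⊗ₜ[A,(algebraMap A B)] (f m) :=
      ModuleCat.ExtendScalars.smul_tmul _ _ _ _
    rw [hx]
    have h := TensorProduct.smul_tmul (R := A) (R' := A)
      (M := ((ModuleCat.restrictScalars (algebraMap A B)).obj (ModuleCat.of B B))) (N := N) a
      (show ((ModuleCat.restrictScalars (algebraMap A B)).obj (ModuleCat.of B B)) from (1 : B)) (f m)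
    exact h.symm

end

section Cmp

variable {A B : Type u} [CommRing A] [CommRing B] [Algebra A B] [Module.Flat A B]

variable (B) in
/-- the `A`-linear map `Hom_{D(A)}(K, L) → Hom_{D(B)}(K_B, L_B)` -/
noncomputable abbrev mapL (K L : Dual.D A) :
    (K ⟶ L) →ₗ[A] ((extD A B).obj K ⟶ (extD A B).obj L) :=
  (extD A B).mapLinearMap A

variable (B) in
/-- the comparison map `B ⊗[A] Hom_{D(A)}(K, L) → Hom_{D(B)}(K_B, L_B)` -/
noncomputable abbrev cmp (K L : Dual.D A) :
    B ⊗[A] (K ⟶ L) →ₗ[B] ((extD A B).obj K ⟶ (extD A B).obj L) :=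
  (mapL B K L).liftBaseChange B

lemma cmp_tmul (K L : Dual.D A) (b : B) (f : K ⟶ L) :
    cmp B K L (b ⊗ₜ f) = b • (extD A B).map f := rfl

variable (B) in
/-- flat base change holds for the pair `(K, L)` -/
def BC (K L : Dual.D A) : Prop := Function.Bijective (cmp B K L)

/-- `f ↦ u ≫ f ≫ v` as a linear map -/
noncomputable def homMap {R : Type*} [CommRing R] {C : Type*} [Category C] [Preadditive C] [Linear R C]
    {K K' L L' : C} (u : K' ⟶ K) (v : L ⟶ L') : (K ⟶ L) →ₗ[R] (K' ⟶ L') where
  toFun f := u ≫ f ≫ v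
  map_add' f g := by simp
  map_smul' r f := by simp

@[simp]
lemma homMap_apply {R : Type*} [CommRing R] {C : Type*} [Category C] [Preadditive C] [Linear R C]
    {K K' L L' : C} (u : K' ⟶ K) (v : L ⟶ L') (f : K ⟶ L) :
    homMap (R := R) u v f = u ≫ f ≫ v := rfl

/-- naturality of the comparison map -/
lemma cmp_natural {K K' L L' : Dual.D A} (u : K' ⟶ K) (v : L ⟶ L') (x : B ⊗[A] (K ⟶ L)) :
    cmp B K' L' ((homMap (R := A) u v).lTensor B x) =
      (extD A B).map u ≫ cmp B K L x ≫ (extD A B).map v := by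
  induction x using TensorProduct.induction_on with
  | zero => simp
  | tmul b f =>
    rw [LinearMap.lTensor_tmul, cmp_tmul, cmp_tmul, homMap_apply, Functor.map_comp, Functor.map_comp,
      Linear.smul_comp, Linear.comp_smul]
  | add x y hx hy =>
    rw [map_add, map_add, hx, hy, map_add, Preadditive.add_comp, Preadditive.comp_add]

lemma BC_of_iso {K K' L L' : Dual.D A} (e : K ≅ K') (e' : L ≅ L') (h : BC B K L) : BC B K' L' := by
  have h1 : Function.Bijective ((homMap (R := A) e.inv e'.hom : (K ⟶ L) →ₗ[A] (K' ⟶ L')).lTensor B) := by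
    refine ⟨fun x y hxy => ?_, fun y => ⟨(homMap (R := A) e.hom e'.inv).lTensor B y, ?_⟩⟩
    · have := congrArg ((homMap (R := A) e.hom e'.inv : (K' ⟶ L') →ₗ[A] (K ⟶ L)).lTensor B) hxy
      rw [← LinearMap.comp_apply, ← LinearMap.comp_apply, ← LinearMap.lTensor_comp] at this
      have hid : (homMap (R := A) e.hom e'.inv : (K' ⟶ L') →ₗ[A] (K ⟶ L)) ∘ₗ
          (homMap (R := A) e.inv e'.hom) = LinearMap.id := by
        ext f; simp
      rw [hid, LinearMap.lTensor_id] at this
      exact this
    · rw [← LinearMap.comp_apply, ← LinearMap.lTensor_comp]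
      have hid : (homMap (R := A) e.inv e'.hom : (K ⟶ L) →ₗ[A] (K' ⟶ L')) ∘ₗ
          (homMap (R := A) e.hom e'.inv) = LinearMap.id := by
        ext f; simp
      rw [hid, LinearMap.lTensor_id]
      rfl
  have h2 : Function.Bijective (fun g : (extD A B).obj K ⟶ (extD A B).obj L =>
      (extD A B).map e.inv ≫ g ≫ (extD A B).map e'.hom) := by
    refine ⟨fun x y hxy => ?_, fun y => ⟨(extD A B).map e.hom ≫ y ≫ (extD A B).map e'.inv, ?_⟩⟩
    · have := congrArg (fun g => (extD A B).map e.hom ≫ g ≫ (extD A B).map e'.inv) hxy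
      simpa [← Functor.map_comp_assoc, ← Functor.map_comp] using this
    · simp [← Functor.map_comp_assoc, ← Functor.map_comp]
  have h3 : (cmp B K' L') ∘ ((homMap (R := A) e.inv e'.hom : (K ⟶ L) →ₗ[A] (K' ⟶ L')).lTensor B) =
      (fun g : (extD A B).obj K ⟶ (extD A B).obj L =>
        (extD A B).map e.inv ≫ g ≫ (extD A B).map e'.hom) ∘ (cmp B K L) := by
    funext x
    exact cmp_natural e.inv e'.hom x
  have h4 : Function.Bijective ((cmp B K' L') ∘
      ((homMap (R := A) e.inv e'.hom : (K ⟶ L) →ₗ[A] (K' ⟶ L')).lTensor B)) := by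
    rw [h3]; exact h2.comp h
  exact (Function.Bijective.of_comp_iff _ h1).1 h4

lemma BC_of_subsingleton (K L : Dual.D A) [Subsingleton (K ⟶ L)]
    [Subsingleton ((extD A B).obj K ⟶ (extD A B).obj L)] : BC B K L := by
  have : Subsingleton (B ⊗[A] (K ⟶ L)) := inferInstance
  exact ⟨fun x y _ => Subsingleton.elim x y, fun y => ⟨0, Subsingleton.elim _ _⟩⟩

end Cmp

end Groth.Agent.Lib.Seat8.FBC
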