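import Mathlib
import Groth.Agent.Lib.Seat8FBC1

/-!
# Flat base change of `Hom` in the derived category, part 2: dévissage in the first variable (seat 8)

Exactness of the contravariant `Hom` sequences of a distinguished triangle (after applying a triangulated functor), and
the resulting two-out-of-three property of `BC · L`.
-/

set_option autoImplicit false
universe u
open CategoryTheory CategoryTheory.Limits Pretriangulated
attribute [local instance] HasDerivedCategory.standard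
open ModuleCat.Algebra
open Groth.Agent.Lib.Helper1.Extend
open scoped TensorProduct

namespace Groth.Agent.Lib.Seat8.FBC

section Exact

variable {C D : Type*} [Category C] [Category D] [Preadditive C] [Preadditive D] [HasZeroObject C]
  [HasZeroObject D] [HasShift C ℤ] [HasShift D ℤ] [∀ n : ℤ, (shiftFunctor C n).Additive]
  [∀ n : ℤ, (shiftFunctor D n).Additive] [Pretriangulated C] [Pretriangulated D]

/-- exactness of `Hom(X₁⟦1⟧, Y) → Hom(X₃, Y) → Hom(X₂, Y)` -/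
lemma exactA {X1 X2 X3 : D} (a : X1 ⟶ X2) (b : X2 ⟶ X3) (c : X3 ⟶ X1⟦(1 : ℤ)⟧)
    (hT : Triangle.mk a b c ∈ distTriang D) (Y : D) :
    Function.Exact (fun g : X1⟦(1 : ℤ)⟧ ⟶ Y => c ≫ g) (fun g : X3 ⟶ Y => b ≫ g) := by
  intro f
  constructor
  · intro hf
    obtain ⟨g, hg⟩ := Triangle.yoneda_exact₃ _ hT f hf
    exact ⟨g, hg.symm⟩
  · rintro ⟨g, rfl⟩
    show b ≫ c ≫ g = 0
    have : b ≫ c = 0 := comp_distTriang_mor_zero₂₃ _ hT
    rw [← Category.assoc, this, zero_comp]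

/-- exactness of `Hom(X₃, Y) → Hom(X₂, Y) → Hom(X₁, Y)` -/
lemma exactB {X1 X2 X3 : D} (a : X1 ⟶ X2) (b : X2 ⟶ X3) (c : X3 ⟶ X1⟦(1 : ℤ)⟧)
    (hT : Triangle.mk a b c ∈ distTriang D) (Y : D) :
    Function.Exact (fun g : X3 ⟶ Y => b ≫ g) (fun g : X2 ⟶ Y => a ≫ g) := by
  intro f
  constructor
  · intro hf
    obtain ⟨g, hg⟩ := Triangle.yoneda_exact₂ _ hT f hf
    exact ⟨g, hg.symm⟩
  · rintro ⟨g, rfl⟩
    show a ≫ b ≫ g = 0
    have : a ≫ b = 0 := comp_distTriang_mor_zero₁₂ _ hT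
    rw [← Category.assoc, this, zero_comp]

variable (G : C ⥤ D) [G.CommShift ℤ] [G.IsTriangulated]

lemma exact₃ {X1 X2 X3 : C} (a : X1 ⟶ X2) (b : X2 ⟶ X3) (c : X3 ⟶ X1⟦(1 : ℤ)⟧)
    (hT : Triangle.mk a b c ∈ distTriang C) (Y : D) :
    Function.Exact (fun g : G.obj X3 ⟶ Y => G.map b ≫ g)
      (fun g : G.obj X2 ⟶ Y => G.map a ≫ g) :=
  exactB (G.map a) (G.map b) (G.map c ≫ (G.commShiftIso (1 : ℤ)).hom.app X1)
    (G.map_distinguished _ hT) Y

lemma exact₂ {X1 X2 X3 : C} (a : X1 ⟶ X2) (b : X2 ⟶ X3) (c : X3 ⟶ X1⟦(1 : ℤ)⟧)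
    (hT : Triangle.mk a b c ∈ distTriang C) (Y : D) :
    Function.Exact (fun g : G.obj (X1⟦(1 : ℤ)⟧) ⟶ Y => G.map c ≫ g)
      (fun g : G.obj X3 ⟶ Y => G.map b ≫ g) := by
  have h := exactA (G.map a) (G.map b) (G.map c ≫ (G.commShiftIso (1 : ℤ)).hom.app X1)
    (G.map_distinguished _ hT) Y
  intro f
  refine Iff.trans (h f) ⟨?_, ?_⟩
  · rintro ⟨g, hg⟩
    refine ⟨(G.commShiftIso (1 : ℤ)).hom.app X1 ≫ g, ?_⟩
    have hg' : (G.map c ≫ (G.commShiftIso (1 : ℤ)).hom.app X1) ≫ g = f := hg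
    rw [Category.assoc] at hg'
    exact hg'
  · rintro ⟨g, hg⟩
    refine ⟨(G.commShiftIso (1 : ℤ)).inv.app X1 ≫ g, ?_⟩
    show (G.map c ≫ (G.commShiftIso (1 : ℤ)).hom.app X1) ≫
      (G.commShiftIso (1 : ℤ)).inv.app X1 ≫ g = f
    rw [Category.assoc, Iso.hom_inv_id_app_assoc]
    exact hg

lemma exact₁ {X1 X2 X3 : C} (a : X1 ⟶ X2) (b : X2 ⟶ X3) (c : X3 ⟶ X1⟦(1 : ℤ)⟧)
    (hT : Triangle.mk a b c ∈ distTriang C) (Y : D) :
    Function.Exact (fun g : G.obj (X2⟦(1 : ℤ)⟧) ⟶ Y => G.map (a⟦(1 : ℤ)⟧') ≫ g)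
      (fun g : G.obj (X1⟦(1 : ℤ)⟧) ⟶ Y => G.map c ≫ g) := by
  have h := exact₂ G b c (-(a⟦(1 : ℤ)⟧')) (rot_of_distTriang _ hT) Y
  intro f
  refine Iff.trans (h f) ⟨?_, ?_⟩
  · rintro ⟨g, hg⟩
    refine ⟨-g, ?_⟩
    have hg' : G.map (-(a⟦(1 : ℤ)⟧')) ≫ g = f := hg
    rw [Functor.map_neg, Preadditive.neg_comp] at hg'
    show G.map (a⟦(1 : ℤ)⟧') ≫ (-g) = f
    rw [Preadditive.comp_neg]
    exact hg'
  · rintro ⟨g, hg⟩
    refine ⟨-g, ?_⟩
    show G.map (-(a⟦(1 : ℤ)⟧')) ≫ (-g) = f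
    rw [Functor.map_neg, Preadditive.neg_comp, Preadditive.comp_neg, neg_neg]
    exact hg

end Exact

section Five

variable {A B : Type u} [CommRing A] [CommRing B] [Algebra A B] [Module.Flat A B]

lemma cmp_leftComp {K K' : Dual.D A} (L : Dual.D A) (u : K' ⟶ K) (x : B ⊗[A] (K ⟶ L)) :
    cmp B K' L ((Linear.leftComp A L u).lTensor B x) = (extD A B).map u ≫ cmp B K L x := by
  induction x using TensorProduct.induction_on with
  | zero => simp
  | tmul b f =>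
    rw [LinearMap.lTensor_tmul, cmp_tmul, cmp_tmul]
    show b • (extD A B).map (u ≫ f) = _
    rw [Functor.map_comp, Linear.comp_smul]
  | add x y hx hy =>
    rw [map_add, map_add, hx, hy, map_add, Preadditive.comp_add]

/-- two out of three: the third vertex -/
theorem BC_obj₃ {K1 K2 K3 : Dual.D A} (a : K1 ⟶ K2) (b : K2 ⟶ K3) (c : K3 ⟶ K1⟦(1 : ℤ)⟧)
    (hT : Triangle.mk a b c ∈ distTriang (Dual.D A)) (L : Dual.D A)
    (h1 : BC B K1 L) (h1' : BC B (K1⟦(1 : ℤ)⟧) L) (h2 : BC B K2 L) (h2' : BC B (K2⟦(1 : ℤ)⟧) L) :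
    BC B K3 L := by
  have e1 := exact₁ (𝟭 (Dual.D A)) a b c hT L
  have e2 := exact₂ (𝟭 (Dual.D A)) a b c hT L
  have e3 := exact₃ (𝟭 (Dual.D A)) a b c hT L
  have hf₁ : Function.Exact ((Linear.leftComp A L (a⟦(1 : ℤ)⟧')).lTensor B)
      ((Linear.leftComp A L c).lTensor B) := Module.Flat.lTensor_exact B e1
  have hf₂ : Function.Exact ((Linear.leftComp A L c).lTensor B)
      ((Linear.leftComp A L b).lTensor B) := Module.Flat.lTensor_exact B e2
  have hf₃ : Function.Exact ((Linear.leftComp A L b).lTensor B)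
      ((Linear.leftComp A L a).lTensor B) := Module.Flat.lTensor_exact B e3
  have hg₁ := exact₁ (extD A B) a b c hT ((extD A B).obj L)
  have hg₂ := exact₂ (extD A B) a b c hT ((extD A B).obj L)
  have hg₃ := exact₃ (extD A B) a b c hT ((extD A B).obj L)
  exact AddMonoidHom.bijective_of_surjective_of_bijective_of_bijective_of_injective
    ((Linear.leftComp A L (a⟦(1 : ℤ)⟧')).lTensor B).toAddMonoidHom
    ((Linear.leftComp A L c).lTensor B).toAddMonoidHom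
    ((Linear.leftComp A L b).lTensor B).toAddMonoidHom
    ((Linear.leftComp A L a).lTensor B).toAddMonoidHom
    (Preadditive.leftComp ((extD A B).obj L) ((extD A B).map (a⟦(1 : ℤ)⟧')))
    (Preadditive.leftComp ((extD A B).obj L) ((extD A B).map c))
    (Preadditive.leftComp ((extD A B).obj L) ((extD A B).map b))
    (Preadditive.leftComp ((extD A B).obj L) ((extD A B).map a))
    (cmp B (K2⟦(1 : ℤ)⟧) L).toAddMonoidHom (cmp B (K1⟦(1 : ℤ)⟧) L).toAddMonoidHom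
    (cmp B K3 L).toAddMonoidHom (cmp B K2 L).toAddMonoidHom (cmp B K1 L).toAddMonoidHom
    (AddMonoidHom.ext fun x => (cmp_leftComp L (a⟦(1 : ℤ)⟧') x).symm)
    (AddMonoidHom.ext fun x => (cmp_leftComp L c x).symm)
    (AddMonoidHom.ext fun x => (cmp_leftComp L b x).symm)
    (AddMonoidHom.ext fun x => (cmp_leftComp L a x).symm)
    hf₁ hf₂ hf₃ hg₁ hg₂ hg₃ h2'.2 h1' h2 h1.1

end Five

end Groth.Agent.Lib.Seat8.FBC
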