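import Mathlib
import Groth.Agent.Lib.Seat8FBC2

/-!
# Flat base change of `Hom` in the derived category, part 3: the property `PBC L` (seat 8)

`PBC B L K` says that flat base change holds for all the pairs `(K⟦n⟧, L)`.  It is closed under isomorphisms,
contains the zero objects, and satisfies two-out-of-three in distinguished triangles.
-/

set_option autoImplicit false
universe u
open CategoryTheory CategoryTheory.Limits Pretriangulated
attribute [local instance] HasDerivedCategory.standard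
open ModuleCat.Algebra
open Groth.Agent.Lib.Helper1.Extend
open scoped TensorProduct

namespace Groth.Agent.Lib.Seat8.FBC

variable {A B : Type u} [CommRing A] [CommRing B] [Algebra A B] [Module.Flat A B]

variable (B) in
/-- flat base change for all shifts of `K` -/
def PBC (L : Dual.D A) : ObjectProperty (Dual.D A) := fun K => ∀ n : ℤ, BC B (K⟦n⟧) L

instance (L : Dual.D A) : (PBC B L).IsClosedUnderIsomorphisms where
  of_iso e h n := BC_of_iso ((shiftFunctor (Dual.D A) n).mapIso e) (Iso.refl L) (h n)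

lemma BC_of_isZero (K L : Dual.D A) (hK : IsZero K) : BC B K L := by
  have : Subsingleton (K ⟶ L) := ⟨fun f g => hK.eq_of_src f g⟩
  have hK' : IsZero ((extD A B).obj K) := (extD A B).map_isZero hK
  have : Subsingleton ((extD A B).obj K ⟶ (extD A B).obj L) := ⟨fun f g => hK'.eq_of_src f g⟩
  exact BC_of_subsingleton K L

lemma PBC_of_isZero (L K : Dual.D A) (hK : IsZero K) : PBC B L K := fun n =>
  BC_of_isZero _ _ ((shiftFunctor (Dual.D A) n).map_isZero hK)

lemma PBC_shift (L K : Dual.D A) (h : PBC B L K) (m : ℤ) : PBC B L (K⟦m⟧) := fun n =>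
  BC_of_iso ((shiftFunctorAdd' (Dual.D A) m n (m + n) rfl).app K) (Iso.refl L) (h (m + n))

theorem PBC_obj₃ (L : Dual.D A) (T : Triangle (Dual.D A)) (hT : T ∈ distTriang (Dual.D A))
    (h1 : PBC B L T.obj₁) (h2 : PBC B L T.obj₂) : PBC B L T.obj₃ := by
  intro n
  have hT' : (Triangle.shiftFunctor (Dual.D A) n).obj T ∈ distTriang (Dual.D A) :=
    Triangle.shift_distinguished T hT n
  refine BC_obj₃ (K1 := T.obj₁⟦n⟧) (K2 := T.obj₂⟦n⟧) (K3 := T.obj₃⟦n⟧) _ _ _ hT' L (h1 n) ?_ (h2 n) ?_
  · exact BC_of_iso ((shiftFunctorAdd' (Dual.D A) n 1 (n + 1) rfl).app T.obj₁) (Iso.refl L)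
      (h1 (n + 1))
  · exact BC_of_iso ((shiftFunctorAdd' (Dual.D A) n 1 (n + 1) rfl).app T.obj₂) (Iso.refl L)
      (h2 (n + 1))

theorem PBC_obj₂ (L : Dual.D A) (T : Triangle (Dual.D A)) (hT : T ∈ distTriang (Dual.D A))
    (h1 : PBC B L T.obj₁) (h3 : PBC B L T.obj₃) : PBC B L T.obj₂ :=
  PBC_obj₃ L T.invRotate (inv_rot_of_distTriang T hT) (PBC_shift L _ h3 (-1)) h1

end Groth.Agent.Lib.Seat8.FBC
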