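import Mathlib

/-!
# Maps out of `R[-n]` in `D(R)` compute cohomology (seat 8)

For a commutative ring `R`, an integer `n` and `X : D(R)`, evaluation at the canonical generator gives an
`R`-linear bijection `Hom_{D(R)}(R[-n], X) ≃ H^n(X)`.
-/

set_option autoImplicit false
universe u
open CategoryTheory CategoryTheory.Limits
attribute [local instance] HasDerivedCategory.standard

namespace Groth.Agent.Lib.Seat8.HomSingle

open DerivedCategory HomologicalComplex

variable {R : Type u} [CommRing R]

/-- cochain complexes of `R`-modules -/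
abbrev Cx (R : Type u) [CommRing R] := CochainComplex (ModuleCat.{u} R) ℤ

lemma Q_map_surjective (P Y : Cx R) [P.IsKProjective] :
    Function.Surjective (Q.map : (P ⟶ Y) → (Q.obj P ⟶ Q.obj Y)) := by
  intro g
  obtain ⟨g', hg'⟩ := (CochainComplex.IsKProjective.Qh_map_bijective P
    ((HomotopyCategory.quotient _ _).obj Y)).2 g
  obtain ⟨f, rfl⟩ := (HomotopyCategory.quotient _ _).map_surjective g'
  exact ⟨f, hg'⟩

lemma homotopy_of_Q_map_eq (P Y : Cx R) [P.IsKProjective] (f g : P ⟶ Y)
    (h : Q.map f = Q.map g) : Nonempty (Homotopy f g) := by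
  have h2 : (HomotopyCategory.quotient (ModuleCat.{u} R) (ComplexShape.up ℤ)).map f =
      (HomotopyCategory.quotient (ModuleCat.{u} R) (ComplexShape.up ℤ)).map g := by
    apply (CochainComplex.IsKProjective.Qh_map_bijective _ _).1
    exact h
  exact ⟨HomotopyCategory.homotopyOfEq _ _ h2⟩

lemma Q_map_eq_of_homotopy {X Y : Cx R} {f g : X ⟶ Y} (h : Homotopy f g) :
    Q.map f = Q.map g := by
  show Qh.map ((HomotopyCategory.quotient _ _).map f) = Qh.map ((HomotopyCategory.quotient _ _).map g)
  rw [HomotopyCategory.eq_of_homotopy _ _ h]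

/-- the complex `M[-n]` -/
noncomputable abbrev sg (n : ℤ) (M : ModuleCat.{u} R) : Cx R :=
  (HomologicalComplex.single (ModuleCat.{u} R) (ComplexShape.up ℤ) n).obj M

instance projective_sg_X (n : ℤ) (M : ModuleCat.{u} R) [Projective M] (i : ℤ) :
    Projective ((sg n M).X i) := by
  by_cases h : i = n
  · subst h
    exact Projective.of_iso (HomologicalComplex.singleObjXSelf (ComplexShape.up ℤ) i M).symm inferInstance
  · exact (HomologicalComplex.isZero_single_obj_X (ComplexShape.up ℤ) n M i h).projective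

instance isKProjective_sg (n : ℤ) (M : ModuleCat.{u} R) [Projective M] : (sg n M).IsKProjective :=
  CochainComplex.isKProjective_of_projective (sg n M) n


/-- the chain map `R[-n] ⟶ E` attached to a cocycle `x ∈ E^n` -/
noncomputable def ofCocycle (E : Cx R) (n : ℤ) (x : E.X n) (hx : (E.d n (n + 1)).hom x = 0) :
    sg n (ModuleCat.of R R) ⟶ E :=
  HomologicalComplex.mkHomFromSingle (ModuleCat.ofHom (LinearMap.toSpanSingleton R (E.X n) x))
    (by
      intro j hj
      obtain rfl : j = n + 1 := by simpa using hj.symm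
      ext
      simp [hx])

/-- the canonical generator of `(R[-n])^n` -/
noncomputable def gen (n : ℤ) : (sg n (ModuleCat.of R R)).X n :=
  (HomologicalComplex.singleObjXSelf (ComplexShape.up ℤ) n (ModuleCat.of R R)).inv.hom (1 : R)

lemma ofCocycle_f_gen (E : Cx R) (n : ℤ) (x : E.X n) (hx : (E.d n (n + 1)).hom x = 0) :
    ((ofCocycle E n x hx).f n).hom (gen n) = x := by
  unfold ofCocycle gen
  rw [HomologicalComplex.mkHomFromSingle_f]
  rw [ModuleCat.hom_comp, LinearMap.comp_apply]
  have h1 : (singleObjXSelf (ComplexShape.up ℤ) n (ModuleCat.of R R)).hom.hom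
      ((singleObjXSelf (ComplexShape.up ℤ) n (ModuleCat.of R R)).inv.hom (1 : R)) = (1 : R) := by
    rw [← LinearMap.comp_apply, ← ModuleCat.hom_comp, Iso.inv_hom_id]
    rfl
  rw [h1]
  simp


/-- the class of the generator in `H^n(R[-n])` -/
noncomputable def genClass (n : ℤ) : (sg n (ModuleCat.of R R)).homology n :=
  (HomologicalComplex.singleObjHomologySelfIso (ComplexShape.up ℤ) n (ModuleCat.of R R)).inv.hom (1 : R)

/-- the cycle of the generator -/
noncomputable def genCycle (n : ℤ) : (sg n (ModuleCat.of R R)).cycles n :=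
  (HomologicalComplex.singleObjCyclesSelfIso (ComplexShape.up ℤ) n (ModuleCat.of R R)).inv.hom (1 : R)

lemma homologyπ_genCycle (n : ℤ) :
    ((sg n (ModuleCat.of R R)).homologyπ n).hom (genCycle n) = genClass (R := R) n := by
  unfold genCycle genClass
  rw [← HomologicalComplex.singleObjCyclesSelfIso_inv_homologyπ]
  rfl

lemma iCycles_genCycle (n : ℤ) :
    ((sg n (ModuleCat.of R R)).iCycles n).hom (genCycle n) = gen (R := R) n := by
  unfold genCycle gen
  rw [← HomologicalComplex.singleObjCyclesSelfIso_inv_iCycles]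
  rfl

/-- chain-level evaluation at the generator -/
noncomputable def evCx (E : Cx R) (n : ℤ) (g : sg n (ModuleCat.of R R) ⟶ E) : E.homology n :=
  (HomologicalComplex.homologyMap g n).hom (genClass n)

lemma evCx_eq (E : Cx R) (n : ℤ) (g : sg n (ModuleCat.of R R) ⟶ E) :
    evCx E n g = (E.homologyπ n).hom ((HomologicalComplex.cyclesMap g n).hom (genCycle n)) := by
  unfold evCx
  rw [← homologyπ_genCycle]
  rw [← LinearMap.comp_apply, ← ModuleCat.hom_comp, HomologicalComplex.homologyπ_naturality]
  rfl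

lemma iCycles_cyclesMap_genCycle (E : Cx R) (n : ℤ) (g : sg n (ModuleCat.of R R) ⟶ E) :
    (E.iCycles n).hom ((HomologicalComplex.cyclesMap g n).hom (genCycle n)) = (g.f n).hom (gen n) := by
  rw [← iCycles_genCycle]
  rw [← LinearMap.comp_apply, ← ModuleCat.hom_comp, HomologicalComplex.cyclesMap_i]
  rfl

lemma iCycles_injective (E : Cx R) (n : ℤ) : Function.Injective (E.iCycles n).hom :=
  (ModuleCat.mono_iff_injective _).1 inferInstance

lemma evCx_surjective (E : Cx R) (n : ℤ) (c : E.homology n) :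
    ∃ g : sg n (ModuleCat.of R R) ⟶ E, evCx E n g = c := by
  obtain ⟨z, rfl⟩ := (ModuleCat.epi_iff_surjective (E.homologyπ n)).1 inferInstance c
  have hx : (E.d n (n + 1)).hom ((E.iCycles n).hom z) = 0 := by
    rw [← LinearMap.comp_apply, ← ModuleCat.hom_comp, HomologicalComplex.iCycles_d]
    rfl
  refine ⟨ofCocycle E n _ hx, ?_⟩
  rw [evCx_eq]
  congr 1
  apply iCycles_injective
  rw [iCycles_cyclesMap_genCycle, ofCocycle_f_gen]


lemma exists_of_homologyπ_eq_zero (E : Cx R) (n : ℤ) (z : E.cycles n)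
    (hz : (E.homologyπ n).hom z = 0) : ∃ w : E.X (n - 1), (E.toCycles (n - 1) n).hom w = z := by
  have hex : (ShortComplex.mk (E.toCycles (n - 1) n) (E.homologyπ n)
      (E.toCycles_comp_homologyπ (n - 1) n)).Exact :=
    ShortComplex.exact_of_g_is_cokernel _ (E.homologyIsCokernel (n - 1) n (by simp))
  rw [ShortComplex.moduleCat_exact_iff] at hex
  exact hex z hz

/-- the homotopy to zero attached to a primitive of the cocycle -/
noncomputable def homotopyZero (E : Cx R) (n : ℤ) (g : sg n (ModuleCat.of R R) ⟶ E)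
    (w : E.X (n - 1)) (hw : (E.d (n - 1) n).hom w = (g.f n).hom (gen n)) : Homotopy g 0 where
  hom i j := if h : i = n ∧ j = n - 1 then
      eqToHom (by rw [h.1]) ≫
        (HomologicalComplex.singleObjXSelf (ComplexShape.up ℤ) n (ModuleCat.of R R)).hom ≫
        ModuleCat.ofHom (LinearMap.toSpanSingleton R (E.X (n - 1)) w) ≫ eqToHom (by rw [h.2])
    else 0
  zero i j hij := by
    rw [dif_neg]
    rintro ⟨rfl, rfl⟩
    exact hij (by simp)
  comm i := by
    by_cases hi : i = n
    · subst hi
      rw [dNext_eq _ (show (ComplexShape.up ℤ).Rel i (i + 1) from rfl),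
        prevD_eq _ (show (ComplexShape.up ℤ).Rel (i - 1) i by simp)]
      rw [HomologicalComplex.single_obj_d, zero_comp, zero_add, HomologicalComplex.zero_f, add_zero]
      rw [dif_pos ⟨rfl, rfl⟩]
      rw [← cancel_epi (HomologicalComplex.singleObjXSelf (ComplexShape.up ℤ) i (ModuleCat.of R R)).inv]
      ext
      simp only [eqToHom_refl, Category.id_comp, Category.comp_id, Category.assoc,
        Iso.inv_hom_id_assoc, ModuleCat.hom_comp, LinearMap.comp_apply, ModuleCat.hom_ofHom,
        LinearMap.toSpanSingleton_apply, one_smul]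
      exact hw.symm
    · exact (HomologicalComplex.isZero_single_obj_X (ComplexShape.up ℤ) n _ i hi).eq_of_src _ _


lemma homotopy_zero_of_evCx_eq_zero (E : Cx R) (n : ℤ) (g : sg n (ModuleCat.of R R) ⟶ E)
    (h : evCx E n g = 0) : Nonempty (Homotopy g 0) := by
  rw [evCx_eq] at h
  obtain ⟨w, hw⟩ := exists_of_homologyπ_eq_zero E n _ h
  refine ⟨homotopyZero E n g w ?_⟩
  rw [← iCycles_cyclesMap_genCycle, ← hw, ← LinearMap.comp_apply, ← ModuleCat.hom_comp,
    HomologicalComplex.toCycles_i]

lemma evCx_add (E : Cx R) (n : ℤ) (g g' : sg n (ModuleCat.of R R) ⟶ E) :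
    evCx E n (g + g') = evCx E n g + evCx E n g' := by
  unfold evCx
  rw [HomologicalComplex.homologyMap_add]
  rfl

lemma evCx_zero (E : Cx R) (n : ℤ) : evCx E n (0 : sg n (ModuleCat.of R R) ⟶ E) = 0 := by
  unfold evCx
  rw [HomologicalComplex.homologyMap_zero]
  rfl

lemma evCx_eq_of_homotopy (E : Cx R) (n : ℤ) (g g' : sg n (ModuleCat.of R R) ⟶ E)
    (h : Homotopy g g') : evCx E n g = evCx E n g' := by
  unfold evCx
  rw [h.homologyMap_eq n]


section DLevel

lemma iso_hom_inv_apply {M N : ModuleCat.{u} R} (e : M ≅ N) (x : M) :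
    e.inv.hom (e.hom.hom x) = x := by
  simp

lemma iso_inv_hom_apply {M N : ModuleCat.{u} R} (e : M ≅ N) (x : N) :
    e.hom.hom (e.inv.hom x) = x := by
  simp

/-- `R[-n]` as an object of `D(R)` -/
noncomputable abbrev dSg (R : Type u) [CommRing R] (n : ℤ) : DerivedCategory (ModuleCat.{u} R) :=
  Q.obj (sg n (ModuleCat.of R R))

lemma dSg_eq (n : ℤ) :
    dSg R n = (DerivedCategory.singleFunctor (ModuleCat.{u} R) n).obj (ModuleCat.of R R) := rfl

/-- the class of the generator in `H^n(R[-n])`, in the derived category -/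
noncomputable def dGen (n : ℤ) : (homologyFunctor (ModuleCat.{u} R) n).obj (dSg R n) :=
  ((homologyFunctorFactors (ModuleCat.{u} R) n).inv.app (sg n (ModuleCat.of R R))).hom (genClass n)

/-- evaluation at the generator -/
noncomputable def evD (n : ℤ) (X : DerivedCategory (ModuleCat.{u} R)) (f : dSg R n ⟶ X) :
    (homologyFunctor (ModuleCat.{u} R) n).obj X :=
  ((homologyFunctor (ModuleCat.{u} R) n).map f).hom (dGen n)

lemma evD_Q_map (E : Cx R) (n : ℤ) (g : sg n (ModuleCat.of R R) ⟶ E) :
    evD n (Q.obj E) (Q.map g) =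
      ((homologyFunctorFactors (ModuleCat.{u} R) n).inv.app E).hom (evCx E n g) := by
  unfold evD dGen evCx
  have := (homologyFunctorFactors (ModuleCat.{u} R) n).inv.naturality g
  have h2 := congrArg (fun φ => φ.hom (genClass n)) this
  simp only [Functor.comp_map, ModuleCat.hom_comp] at h2
  exact h2.symm


lemma evD_add (n : ℤ) (X : DerivedCategory (ModuleCat.{u} R)) (f f' : dSg R n ⟶ X) :
    evD n X (f + f') = evD n X f + evD n X f' := by
  unfold evD
  rw [Functor.map_add]
  rfl

lemma evD_zero (n : ℤ) (X : DerivedCategory (ModuleCat.{u} R)) :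
    evD n X (0 : dSg R n ⟶ X) = 0 := by
  unfold evD
  rw [Functor.map_zero]
  rfl

lemma evD_comp (n : ℤ) {X Y : DerivedCategory (ModuleCat.{u} R)} (f : dSg R n ⟶ X) (φ : X ⟶ Y) :
    evD n Y (f ≫ φ) = ((homologyFunctor (ModuleCat.{u} R) n).map φ).hom (evD n X f) := by
  unfold evD
  rw [Functor.map_comp]
  rfl

lemma evD_Q_surjective (E : Cx R) (n : ℤ) (c : (homologyFunctor (ModuleCat.{u} R) n).obj (Q.obj E)) :
    ∃ f : dSg R n ⟶ Q.obj E, evD n (Q.obj E) f = c := by
  obtain ⟨g, hg⟩ := evCx_surjective E n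
    (((homologyFunctorFactors (ModuleCat.{u} R) n).hom.app E).hom c)
  refine ⟨Q.map g, ?_⟩
  rw [evD_Q_map, hg]
  exact iso_hom_inv_apply ((homologyFunctorFactors (ModuleCat.{u} R) n).app E) c

lemma evD_Q_eq_zero (E : Cx R) (n : ℤ) (f : dSg R n ⟶ Q.obj E) (hf : evD n (Q.obj E) f = 0) :
    f = 0 := by
  obtain ⟨g, rfl⟩ := Q_map_surjective (sg n (ModuleCat.of R R)) E f
  rw [evD_Q_map] at hf
  have h0 : evCx E n g = 0 := by
    have := congrArg ((homologyFunctorFactors (ModuleCat.{u} R) n).hom.app E).hom hf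
    rw [map_zero] at this
    exact (iso_inv_hom_apply ((homologyFunctorFactors (ModuleCat.{u} R) n).app E) _).symm.trans this
  obtain ⟨h⟩ := homotopy_zero_of_evCx_eq_zero E n g h0
  rw [Q_map_eq_of_homotopy h, Functor.map_zero]

theorem evD_bijective (n : ℤ) (X : DerivedCategory (ModuleCat.{u} R)) :
    Function.Bijective (evD n X) := by
  let e : Q.obj (Q.objPreimage X) ≅ X := Q.objObjPreimageIso X
  constructor
  · intro f f' h
    have h1 : evD n _ ((f - f') ≫ e.inv) = 0 := by
      rw [evD_comp]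
      have : evD n X (f - f') = 0 := by
        have h2 := evD_add n X (f - f') f'
        rw [sub_add_cancel, h] at h2
        exact add_eq_right.mp h2.symm
      rw [this, map_zero]
    have h3 := evD_Q_eq_zero _ n _ h1
    have h4 : f - f' = 0 := by
      have := congrArg (· ≫ e.hom) h3
      simp only [Category.assoc, Iso.inv_hom_id, Category.comp_id, zero_comp] at this
      exact this
    exact sub_eq_zero.mp h4
  · intro c
    obtain ⟨f, hf⟩ := evD_Q_surjective (Q.objPreimage X) n
      (((homologyFunctor (ModuleCat.{u} R) n).map e.inv).hom c)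
    refine ⟨f ≫ e.hom, ?_⟩
    rw [evD_comp, hf]
    exact iso_inv_hom_apply ((homologyFunctor (ModuleCat.{u} R) n).mapIso e) c


lemma smul_id_sg (n : ℤ) (r : R) :
    r • 𝟙 (sg n (ModuleCat.of R R)) =
      (HomologicalComplex.single (ModuleCat.{u} R) (ComplexShape.up ℤ) n).map
        (r • 𝟙 (ModuleCat.of R R)) := by
  apply HomologicalComplex.from_single_hom_ext
  rw [HomologicalComplex.single_map_f_self]
  simp [HomologicalComplex.smul_f_apply]

lemma evCx_smul_id (n : ℤ) (r : R) :
    evCx (sg n (ModuleCat.of R R)) n (r • 𝟙 _) = r • genClass (R := R) n := by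
  unfold evCx genClass
  rw [smul_id_sg]
  have := HomologicalComplex.singleObjHomologySelfIso_inv_naturality
    (c := ComplexShape.up ℤ) (j := n) (r • 𝟙 (ModuleCat.of R R))
  have h2 := congrArg (fun φ => φ.hom (1 : R)) this
  simp only [ModuleCat.hom_comp, LinearMap.comp_apply] at h2
  rw [h2]
  simp only [ModuleCat.hom_smul, ModuleCat.hom_id, LinearMap.smul_apply, LinearMap.id_coe, id_eq,
    smul_eq_mul, mul_one]
  rw [← map_smul, smul_eq_mul, mul_one]

lemma evD_smul (n : ℤ) (X : DerivedCategory (ModuleCat.{u} R)) (r : R) (f : dSg R n ⟶ X) :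
    evD n X (r • f) = r • evD n X f := by
  have h1 : r • f = (r • 𝟙 (dSg R n)) ≫ f := by rw [Linear.smul_comp, Category.id_comp]
  have h2 : r • 𝟙 (dSg R n) = Q.map (r • 𝟙 (sg n (ModuleCat.of R R))) := by
    rw [Functor.map_smul, CategoryTheory.Functor.map_id]
  rw [h1, evD_comp, h2, evD_Q_map, evCx_smul_id]
  unfold evD dGen
  erw [map_smul, map_smul]

/-- evaluation at the generator, as a linear equivalence `Hom(R[-n], X) ≃ H^n(X)` -/
noncomputable def evEquiv (n : ℤ) (X : DerivedCategory (ModuleCat.{u} R)) :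
    (dSg R n ⟶ X) ≃ₗ[R] (homologyFunctor (ModuleCat.{u} R) n).obj X :=
  LinearEquiv.ofBijective
    { toFun := evD n X
      map_add' := evD_add n X
      map_smul' := evD_smul n X } (evD_bijective n X)

end DLevel

end Groth.Agent.Lib.Seat8.HomSingle
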