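import Mathlib
import Groth.Agent.Lib.Seat8FBC3
import Groth.Agent.Lib.Seat8HomSingle

/-!
# Flat base change of `Hom` in the derived category, part 4: the base case `A[-n]` (seat 8)

`BC B (A[-n]) L` for every `L`: under the identifications `Hom(A[-n], L) = H^n(L)` and
`Hom(B[-n], L_B) = H^n(L_B) = B ⊗ H^n(L)` the comparison map is the identity.
-/

set_option autoImplicit false
set_option linter.unusedSectionVars false
universe u
open CategoryTheory CategoryTheory.Limits Pretriangulated
attribute [local instance] HasDerivedCategory.standard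
open ModuleCat.Algebra
open Groth.Agent.Lib.Helper1.Extend
open Groth.Agent.Lib.Seat8.HomSingle
open scoped TensorProduct ChangeOfRings

namespace Groth.Agent.Lib.Seat8.FBC

section General

variable {C D : Type*} [Category C] [Category D] [HasZeroMorphisms C] [HasZeroMorphisms D]
  (S : ShortComplex C) (F : C ⥤ D) [F.PreservesZeroMorphisms]

/-- compatibility of `mapHomologyIso` with the projections from cycles -/
lemma homologyπ_mapHomologyIso_hom [S.HasHomology] [(S.map F).HasHomology]
    [F.PreservesLeftHomologyOf S] :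
    (S.map F).homologyπ ≫ (S.mapHomologyIso F).hom = (S.mapCyclesIso F).hom ≫ F.map S.homologyπ := by
  let hl := S.leftHomologyData
  let q : (hl.map F).H ⟶ F.obj S.homology := F.map hl.homologyIso.inv
  let p : (hl.map F).K ⟶ (hl.map F).H := F.map hl.π
  have h1 : (S.mapHomologyIso F).hom = (hl.map F).homologyIso.hom ≫ q := by
    rw [ShortComplex.LeftHomologyData.mapHomologyIso_eq hl F]; rfl
  have h2 : (S.map F).homologyπ ≫ (hl.map F).homologyIso.hom = (hl.map F).cyclesIso.hom ≫ p :=
    (hl.map F).homologyπ_comp_homologyIso_hom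
  have h3 : hl.π ≫ hl.homologyIso.inv = S.homologyπ := by
    have := hl.π_comp_homologyIso_inv
    have h6 : hl.cyclesIso.inv = 𝟙 _ := by
      simp [hl, ShortComplex.LeftHomologyData.cyclesIso, ShortComplex.cyclesMapIso']
    rw [h6] at this
    exact this.trans (Category.id_comp _)
  have h4 : p ≫ q = F.map S.homologyπ := by
    show F.map hl.π ≫ F.map hl.homologyIso.inv = _
    rw [← Functor.map_comp, h3]
    rfl
  calc (S.map F).homologyπ ≫ (S.mapHomologyIso F).hom
      = (S.map F).homologyπ ≫ (hl.map F).homologyIso.hom ≫ q := by rw [h1]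
    _ = ((S.map F).homologyπ ≫ (hl.map F).homologyIso.hom) ≫ q := (Category.assoc _ _ _).symm
    _ = ((hl.map F).cyclesIso.hom ≫ p) ≫ q := by rw [h2]
    _ = (hl.map F).cyclesIso.hom ≫ (p ≫ q) := Category.assoc _ _ _
    _ = (S.mapCyclesIso F).hom ≫ F.map S.homologyπ := by rw [h4]; rfl

end General

section Chain

variable {A B : Type u} [CommRing A] [CommRing B] [Algebra A B] [Module.Flat A B]

/-- the element `1 ⊗ m` of the extension of scalars -/
noncomputable def one_tmul {M : ModuleCat.{u} A} (m : M) : (ext A B).obj M :=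
  (1 : B) ⊗ₜ[A,(algebraMap A B)] m

omit [Module.Flat A B] in
lemma ext_map_one_tmul {M N : ModuleCat.{u} A} (f : M ⟶ N) (m : M) :
    ((ext A B).map f).hom (one_tmul (B := B) m) = one_tmul (B := B) (f.hom m) := rfl

variable (E : DRing.Cx A) (n : ℤ)

/-- the cycle `1 ⊗ z` of the base-changed complex -/
noncomputable def cycleBC (z : E.cycles n) : ((extCx A B).obj E).cycles n :=
  (((E.sc n).mapCyclesIso (ext A B)).inv).hom (one_tmul (B := B) z)

lemma iCycles_cycleBC (z : E.cycles n) :
    (((extCx A B).obj E).iCycles n).hom (cycleBC (B := B) E n z) =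
      one_tmul (B := B) ((E.iCycles n).hom z) := by
  unfold cycleBC
  have h := ShortComplex.mapCyclesIso_hom_iCycles (E.sc n) (ext A B)
  have h3 := congrArg (fun φ => φ.hom ((((E.sc n).mapCyclesIso (ext A B)).inv).hom
    (one_tmul (B := B) z))) h
  simp only [ModuleCat.hom_comp, LinearMap.comp_apply] at h3
  rw [iso_inv_hom_apply] at h3
  exact h3.symm

lemma homologyMapCxIso_homologyπ_cycleBC (z : E.cycles n) :
    (homologyMapCxIso (ext A B) E n).hom.hom
      ((((extCx A B).obj E).homologyπ n).hom (cycleBC (B := B) E n z)) =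
      one_tmul (B := B) ((E.homologyπ n).hom z) := by
  unfold cycleBC homologyMapCxIso
  have h := homologyπ_mapHomologyIso_hom (E.sc n) (ext A B)
  have h3 := congrArg (fun φ => φ.hom ((((E.sc n).mapCyclesIso (ext A B)).inv).hom
    (one_tmul (B := B) z))) h
  simp only [ModuleCat.hom_comp, LinearMap.comp_apply] at h3
  rw [iso_inv_hom_apply] at h3
  exact h3

end Chain

section Theta

variable (A B : Type u) [CommRing A] [CommRing B] [Algebra A B] [Module.Flat A B] (n : ℤ)

/-- the generator `1 ⊗ gen` of the base change of `A[-n]` -/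
noncomputable def genBC : (ext A B).obj ((sg n (ModuleCat.of A A)).X n) :=
  one_tmul (B := B) (gen (R := A) n)

lemma d_genBC : (((extCx A B).obj (sg n (ModuleCat.of A A))).d n (n + 1)).hom (genBC A B n) = 0 := by
  have h0 : (sg n (ModuleCat.of A A)).d n (n + 1) = 0 := HomologicalComplex.single_obj_d _ _ _ _ _
  have h1 : ((extCx A B).obj (sg n (ModuleCat.of A A))).d n (n + 1) =
      (ext A B).map ((sg n (ModuleCat.of A A)).d n (n + 1)) := rfl
  rw [h1, h0, Functor.map_zero]
  rfl

/-- the chain map `B[-n] ⟶ (A[-n]) ⊗ B` -/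
noncomputable def phi0 : sg n (ModuleCat.of B B) ⟶ (extCx A B).obj (sg n (ModuleCat.of A A)) :=
  ofCocycle _ n (genBC A B n) (d_genBC A B n)

lemma phi0_f_gen : ((phi0 A B n).f n).hom (gen (R := B) n) = genBC A B n :=
  ofCocycle_f_gen _ n _ _

/-- `(A[-n] ⊗ B)^n` is free of rank one on `1 ⊗ gen` -/
noncomputable def genBCEquiv : (ext A B).obj ((sg n (ModuleCat.of A A)).X n) ≃ₗ[B] B :=
  ((ext A B).mapIso (HomologicalComplex.singleObjXSelf (ComplexShape.up ℤ) n
      (ModuleCat.of A A))).toLinearEquiv ≪≫ₗ (extEquiv (A := A) (B := B) A) ≪≫ₗ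
    (TensorProduct.AlgebraTensorModule.rid A B B)

omit [Module.Flat A B] in
lemma genBCEquiv_genBC : genBCEquiv A B n (genBC A B n) = 1 := by
  unfold genBCEquiv genBC
  simp only [LinearEquiv.trans_apply]
  have h1 : ((ext A B).mapIso (HomologicalComplex.singleObjXSelf (ComplexShape.up ℤ) n
      (ModuleCat.of A A))).toLinearEquiv (one_tmul (B := B) (gen (R := A) n)) =
      one_tmul (B := B) (1 : A) := by
    show ((ext A B).map _).hom (one_tmul (B := B) (gen (R := A) n)) = _
    rw [ext_map_one_tmul]
    congr 1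
    unfold gen
    exact iso_inv_hom_apply _ _
  rw [h1]
  have h2 : extEquiv (A := A) (B := B) A (one_tmul (B := B) (1 : A)) = (1 : B) ⊗ₜ[A] (1 : A) := rfl
  rw [h2]
  simp

lemma bijective_toSpanSingleton_genBC :
    Function.Bijective (LinearMap.toSpanSingleton B
      ((ext A B).obj ((sg n (ModuleCat.of A A)).X n)) (genBC A B n)) := by
  have he := genBCEquiv_genBC A B n
  constructor
  · intro b b' h
    have := congrArg (genBCEquiv A B n) h
    simpa [LinearMap.toSpanSingleton_apply, map_smul, he] using this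
  · intro y
    refine ⟨genBCEquiv A B n y, ?_⟩
    apply (genBCEquiv A B n).injective
    simp [LinearMap.toSpanSingleton_apply, map_smul, he]

instance isIso_phi0 : IsIso (phi0 A B n) := by
  have : ∀ i : ℤ, IsIso ((phi0 A B n).f i) := by
    intro i
    by_cases hi : i = n
    · subst hi
      have h1 : (phi0 A B i).f i =
          (HomologicalComplex.singleObjXSelf (ComplexShape.up ℤ) i (ModuleCat.of B B)).hom ≫
            ModuleCat.ofHom (LinearMap.toSpanSingleton B
              ((ext A B).obj ((sg i (ModuleCat.of A A)).X i)) (genBC A B i)) := by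
        unfold phi0 ofCocycle
        rw [HomologicalComplex.mkHomFromSingle_f]
        rfl
      rw [h1]
      have h2 : IsIso (ModuleCat.ofHom (LinearMap.toSpanSingleton B
          ((ext A B).obj ((sg i (ModuleCat.of A A)).X i)) (genBC A B i))) := by
        rw [ConcreteCategory.isIso_iff_bijective]
        exact bijective_toSpanSingleton_genBC A B i
      exact IsIso.comp_isIso' inferInstance h2
    · have hs : IsZero ((sg n (ModuleCat.of B B)).X i) :=
        HomologicalComplex.isZero_single_obj_X (ComplexShape.up ℤ) n _ i hi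
      have ht : IsZero (((extCx A B).obj (sg n (ModuleCat.of A A))).X i) :=
        (ext A B).map_isZero (HomologicalComplex.isZero_single_obj_X (ComplexShape.up ℤ) n _ i hi)
      exact isIso_of_source_target_iso_zero _ hs.isoZero ht.isoZero
  exact HomologicalComplex.Hom.isIso_of_components _

/-- `B[-n] ≅ (A[-n])_B` in `D(B)` -/
noncomputable def theta : dSg B n ≅ (extD A B).obj (dSg A n) :=
  DerivedCategory.Q.mapIso (asIso (phi0 A B n)) ≪≫ (mapQIso (ext A B) (sg n (ModuleCat.of A A))).symm

end Theta

section Base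

variable {A B : Type u} [CommRing A] [CommRing B] [Algebra A B] [Module.Flat A B]
  (E : DRing.Cx A) (n : ℤ)

/-- the identification `Hom((A[-n])_B, E_B) ≃ (H^n E)_B` -/
noncomputable def lam :
    ((extD A B).obj (dSg A n) ⟶ (extD A B).obj (DerivedCategory.Q.obj E)) ≃ₗ[B]
      (ext A B).obj (E.homology n) :=
  (Linear.homCongr B (theta A B n).symm (mapQIso (ext A B) E)) ≪≫ₗ
    evEquiv n (DerivedCategory.Q.obj ((extCx A B).obj E)) ≪≫ₗ
    ((DerivedCategory.homologyFunctorFactors (ModuleCat.{u} B) n).app
      ((extCx A B).obj E)).toLinearEquiv ≪≫ₗ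
    (homologyMapCxIso (ext A B) E n).toLinearEquiv

lemma theta_comp (g₀ : sg n (ModuleCat.of A A) ⟶ E) :
    ((theta A B n).hom ≫ (extD A B).map (DerivedCategory.Q.map g₀)) ≫ (mapQIso (ext A B) E).hom =
      DerivedCategory.Q.map (phi0 A B n ≫ (extCx A B).map g₀) := by
  have hnat := (ext A B).mapDerivedCategoryFactors_hom_naturality g₀
  unfold theta mapQIso
  simp only [Iso.trans_hom, Functor.mapIso_hom, asIso_hom, Iso.symm_hom, Iso.app_inv, Iso.app_hom,
    Category.assoc, Functor.map_comp]
  rw [hnat, Iso.inv_hom_id_app_assoc]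

lemma cyclesMap_genCycle (g₀ : sg n (ModuleCat.of A A) ⟶ E) :
    (HomologicalComplex.cyclesMap (phi0 A B n ≫ (extCx A B).map g₀) n).hom (genCycle (R := B) n) =
      cycleBC (B := B) E n ((HomologicalComplex.cyclesMap g₀ n).hom (genCycle (R := A) n)) := by
  apply iCycles_injective
  rw [iCycles_cyclesMap_genCycle, iCycles_cycleBC, iCycles_cyclesMap_genCycle]
  rw [HomologicalComplex.comp_f, ModuleCat.hom_comp, LinearMap.comp_apply, phi0_f_gen]
  rfl

lemma lam_map (g₀ : sg n (ModuleCat.of A A) ⟶ E) :
    lam (B := B) E n ((extD A B).map (DerivedCategory.Q.map g₀)) =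
      one_tmul (B := B) (evCx E n g₀) := by
  have h0 : lam (B := B) E n ((extD A B).map (DerivedCategory.Q.map g₀)) =
      (homologyMapCxIso (ext A B) E n).hom.hom
        (((DerivedCategory.homologyFunctorFactors (ModuleCat.{u} B) n).hom.app
          ((extCx A B).obj E)).hom
          (evD n (DerivedCategory.Q.obj ((extCx A B).obj E))
            (((theta A B n).hom ≫ (extD A B).map (DerivedCategory.Q.map g₀)) ≫
              (mapQIso (ext A B) E).hom))) := rfl
  rw [h0, theta_comp E n g₀, evD_Q_map]
  have h3 : ((DerivedCategory.homologyFunctorFactors (ModuleCat.{u} B) n).hom.app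
      ((extCx A B).obj E)).hom
      (((DerivedCategory.homologyFunctorFactors (ModuleCat.{u} B) n).inv.app
        ((extCx A B).obj E)).hom (evCx _ n (phi0 A B n ≫ (extCx A B).map g₀))) =
      evCx _ n (phi0 A B n ≫ (extCx A B).map g₀) :=
    iso_inv_hom_apply ((DerivedCategory.homologyFunctorFactors (ModuleCat.{u} B) n).app
      ((extCx A B).obj E)) _
  rw [h3, evCx_eq, cyclesMap_genCycle, evCx_eq]
  exact homologyMapCxIso_homologyπ_cycleBC E n _

/-- evaluation `Hom(A[-n], E) ≃ H^n(E)` with values in the chain-level homology -/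
noncomputable def evA : (dSg A n ⟶ DerivedCategory.Q.obj E) ≃ₗ[A] E.homology n :=
  evEquiv n (DerivedCategory.Q.obj E) ≪≫ₗ
    ((DerivedCategory.homologyFunctorFactors (ModuleCat.{u} A) n).app E).toLinearEquiv

omit [Algebra A B] [Module.Flat A B] in
lemma evA_Q_map (g₀ : sg n (ModuleCat.of A A) ⟶ E) :
    evA E n (DerivedCategory.Q.map g₀) = evCx E n g₀ := by
  have h0 : evA E n (DerivedCategory.Q.map g₀) =
      ((DerivedCategory.homologyFunctorFactors (ModuleCat.{u} A) n).hom.app E).hom
        (evD n (DerivedCategory.Q.obj E) (DerivedCategory.Q.map g₀)) := rfl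
  rw [h0, evD_Q_map]
  exact iso_inv_hom_apply ((DerivedCategory.homologyFunctorFactors (ModuleCat.{u} A) n).app E) _

lemma lam_cmp (x : B ⊗[A] (dSg A n ⟶ DerivedCategory.Q.obj E)) :
    extEquiv (A := A) (B := B) (E.homology n) (lam (B := B) E n (cmp B _ _ x)) =
      (LinearEquiv.lTensor B (evA E n)) x := by
  induction x using TensorProduct.induction_on with
  | zero => rw [map_zero, map_zero, map_zero, map_zero]
  | tmul b f =>
    obtain ⟨g₀, rfl⟩ := Q_map_surjective (sg n (ModuleCat.of A A)) E f
    rw [cmp_tmul, map_smul, lam_map, map_smul, LinearEquiv.lTensor_tmul, evA_Q_map]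
    have h : extEquiv (A := A) (B := B) (E.homology n) (one_tmul (B := B) (evCx E n g₀)) =
        (1 : B) ⊗ₜ[A] (evCx E n g₀) := rfl
    rw [h, TensorProduct.smul_tmul', smul_eq_mul, mul_one]
  | add x y hx hy =>
    rw [map_add, map_add, map_add, hx, hy, map_add]

/-- the base case: flat base change for `(A[-n], E)` -/
theorem BC_dSg_Q : BC B (dSg A n) (DerivedCategory.Q.obj E) := by
  have h1 : Function.Bijective (fun x : B ⊗[A] (dSg A n ⟶ DerivedCategory.Q.obj E) =>
      extEquiv (A := A) (B := B) (E.homology n) (lam (B := B) E n (cmp B _ _ x))) := by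
    have : (fun x : B ⊗[A] (dSg A n ⟶ DerivedCategory.Q.obj E) =>
        extEquiv (A := A) (B := B) (E.homology n) (lam (B := B) E n (cmp B _ _ x))) =
        (LinearEquiv.lTensor B (evA E n)) := funext (lam_cmp E n)
    rw [this]
    exact (LinearEquiv.lTensor B (evA E n)).bijective
  have h2 : Function.Bijective (fun g : (extD A B).obj (dSg A n) ⟶
      (extD A B).obj (DerivedCategory.Q.obj E) =>
      extEquiv (A := A) (B := B) (E.homology n) (lam (B := B) E n g)) :=
    (extEquiv (A := A) (B := B) (E.homology n)).bijective.comp (lam (B := B) E n).bijective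
  exact (Function.Bijective.of_comp_iff' h2 _).1 h1

theorem BC_dSg (L : Dual.D A) : BC B (dSg A n) L :=
  BC_of_iso (Iso.refl _) (DerivedCategory.Q.objObjPreimageIso L) (BC_dSg_Q _ n)

end Base

end Groth.Agent.Lib.Seat8.FBC
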