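import Mathlib
import Groth.Agent.Lib.Seat8FBC4
import Groth.Agent.Lib.Helper1Devissage
import Groth.Agent.Lib.Helper1PC

/-!
# Flat base change of `Hom` in the derived category, part 5: perfect and pseudo-coherent sources (seat 8)

* `PBC_single_free`: flat base change for `F[-j]`, `F` finite free.
* `PBC_perfect`: flat base change for bounded complexes of finite free modules.
* `BC_of_pseudoCoherent`: for `A → B` flat, `K` pseudo-coherent and `L` bounded below, the comparison map
  `B ⊗_A Hom_{D(A)}(K, L) → Hom_{D(B)}(K ⊗_A B, L ⊗_A B)` is bijective.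
-/

set_option autoImplicit false
universe u
open CategoryTheory CategoryTheory.Limits Pretriangulated
attribute [local instance] HasDerivedCategory.standard
open ModuleCat.Algebra
open Groth.Agent.Lib.Helper1.Extend
open Groth.Agent.Lib.Seat8.HomSingle
open scoped TensorProduct

namespace Groth.Agent.Lib.Seat8.FBC

variable {A B : Type u} [CommRing A] [CommRing B] [Algebra A B] [Module.Flat A B]

/-- flat base change for the shifts of `A[-j]` -/
theorem PBC_single_self (L : Dual.D A) (j : ℤ) :
    PBC B L ((DerivedCategory.singleFunctor (ModuleCat.{u} A) j).obj (ModuleCat.of A A)) := by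
  intro n
  have e : ((DerivedCategory.singleFunctor (ModuleCat.{u} A) j).obj (ModuleCat.of A A))⟦n⟧ ≅
      (DerivedCategory.singleFunctor (ModuleCat.{u} A) (j - n)).obj (ModuleCat.of A A) :=
    ((DerivedCategory.singleFunctors (ModuleCat.{u} A)).shiftIso n (j - n) j (by omega)).app
      (ModuleCat.of A A)
  exact BC_of_iso e.symm (Iso.refl L) (BC_dSg (j - n) L)

lemma PBC_biprod (L X Y : Dual.D A) (hX : PBC B L X) (hY : PBC B L Y) : PBC B L (X ⊞ Y) :=
  PBC_obj₂ L (binaryBiproductTriangle X Y) (binaryBiproductTriangle_distinguished X Y) hX hY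

lemma PBC_single_prod (L : Dual.D A) (j : ℤ) (M N : ModuleCat.{u} A)
    (hM : PBC B L ((DerivedCategory.singleFunctor (ModuleCat.{u} A) j).obj M))
    (hN : PBC B L ((DerivedCategory.singleFunctor (ModuleCat.{u} A) j).obj N)) :
    PBC B L ((DerivedCategory.singleFunctor (ModuleCat.{u} A) j).obj (ModuleCat.of A (M × N))) := by
  have e : (DerivedCategory.singleFunctor (ModuleCat.{u} A) j).obj (ModuleCat.of A (M × N)) ≅
      (DerivedCategory.singleFunctor (ModuleCat.{u} A) j).obj M ⊞
        (DerivedCategory.singleFunctor (ModuleCat.{u} A) j).obj N :=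
    haveI : PreservesBinaryBiproducts (DerivedCategory.singleFunctor (ModuleCat.{u} A) j) :=
      preservesBinaryBiproducts_of_preservesBiproducts _
    (DerivedCategory.singleFunctor (ModuleCat.{u} A) j).mapIso (ModuleCat.biprodIsoProd M N).symm ≪≫
      (DerivedCategory.singleFunctor (ModuleCat.{u} A) j).mapBiprod M N
  exact (PBC B L).prop_of_iso e.symm (PBC_biprod L _ _ hM hN)

lemma PBC_single_of_linearEquiv (L : Dual.D A) (j : ℤ) (M N : ModuleCat.{u} A) (e : M ≃ₗ[A] N)
    (hM : PBC B L ((DerivedCategory.singleFunctor (ModuleCat.{u} A) j).obj M)) :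
    PBC B L ((DerivedCategory.singleFunctor (ModuleCat.{u} A) j).obj N) :=
  (PBC B L).prop_of_iso ((DerivedCategory.singleFunctor (ModuleCat.{u} A) j).mapIso e.toModuleIso) hM

lemma PBC_single_pi (L : Dual.D A) (j : ℤ) (r : ℕ) :
    PBC B L ((DerivedCategory.singleFunctor (ModuleCat.{u} A) j).obj (ModuleCat.of A (Fin r → A))) := by
  induction r with
  | zero =>
    apply PBC_of_isZero
    apply Functor.map_isZero
    exact ModuleCat.isZero_of_subsingleton _
  | succ r ih =>
    have h := PBC_single_prod (B := B) L j (ModuleCat.of A A) (ModuleCat.of A (Fin r → A))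
      (PBC_single_self L j) ih
    exact PBC_single_of_linearEquiv L j _ _ (Fin.consLinearEquiv A (fun _ : Fin r.succ => A)) h

/-- flat base change for `F[-j]`, `F` finite free -/
theorem PBC_single_free (L : Dual.D A) (j : ℤ) (F : ModuleCat.{u} A) [Module.Finite A F]
    [Module.Free A F] : PBC B L ((DerivedCategory.singleFunctor (ModuleCat.{u} A) j).obj F) := by
  let ι := Module.Free.ChooseBasisIndex A F
  have e : (Fin (Fintype.card ι) → A) ≃ₗ[A] F :=
    (LinearEquiv.funCongrLeft A A (Fintype.equivFin ι)).trans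
      (Module.Free.chooseBasis A F).equivFun.symm
  exact PBC_single_of_linearEquiv L j (ModuleCat.of A (Fin (Fintype.card ι) → A)) F e
    (PBC_single_pi L j _)

/-- flat base change for bounded complexes of finite free modules -/
theorem PBC_perfect (L : Dual.D A) (E : DRing.Cx A) (a b : ℤ) (hE : DRing.VanishesOutside E a b)
    (hff : DRing.TermwiseFiniteFree E) : PBC B L (DerivedCategory.Q.obj E) := by
  refine Groth.Agent.Lib.Helper1.Devissage.induction_terms' (PBC B L)
    (fun K hK => PBC_of_isZero L K hK) (fun T hT h1 h3 => PBC_obj₂ L T hT h1 h3)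
    (fun j X Y ⟨e⟩ h => (PBC B L).prop_of_iso
      ((DerivedCategory.singleFunctor (ModuleCat.{u} A) j).mapIso e) h) E a b hE ?_
  intro j _ _
  have := (hff j).1
  have := (hff j).2
  exact PBC_single_free L j (E.X j)

lemma BC_of_isLE_of_isGE (K L : Dual.D A) (n c : ℤ) (hn : n < c) (hK : K.IsLE n) (hL : L.IsGE c) :
    BC B K L := by
  have h1 : Subsingleton (K ⟶ L) :=
    ⟨fun f g => (DerivedCategory.TStructure.t.zero_of_isLE_of_isGE f n c hn hK hL).trans
      (DerivedCategory.TStructure.t.zero_of_isLE_of_isGE g n c hn hK hL).symm⟩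
  have hK' : ((extD A B).obj K).IsLE n := isLE_map (ext A B) K n hK
  have hL' : ((extD A B).obj L).IsGE c := isGE_map (ext A B) L c hL
  have h2 : Subsingleton ((extD A B).obj K ⟶ (extD A B).obj L) :=
    ⟨fun f g => (DerivedCategory.TStructure.t.zero_of_isLE_of_isGE f n c hn hK' hL').trans
      (DerivedCategory.TStructure.t.zero_of_isLE_of_isGE g n c hn hK' hL').symm⟩
  exact BC_of_subsingleton K L

/-- **Flat base change for `Hom` in the derived category**: for `A → B` flat, `K` pseudo-coherent and `L`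
bounded below, `B ⊗_A Hom_{D(A)}(K, L) → Hom_{D(B)}(K ⊗_A B, L ⊗_A B)` is bijective. -/
theorem BC_of_pseudoCoherent (K L : Dual.D A) (c : ℤ) (hL : L.IsGE c)
    (hK : ∀ m : ℤ, DRing.IsPseudoCoherent A m K) : BC B K L := by
  obtain ⟨E, a, b, α, hE, hff, h1, h2⟩ := hK (c - 1)
  obtain ⟨C, β, γ, hT⟩ := distinguished_cocone_triangle α
  have hC : C.IsLE (c - 1 - 1) :=
    (Groth.Agent.Lib.Helper1.PC.conn_iff_of_distTriang _ hT (c - 1)).1 ⟨h1, h2⟩
  have hT' := inv_rot_of_distTriang _ hT
  have hP := PBC_perfect (B := B) L E a b hE hff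
  have hC1 : (C⟦(-1 : ℤ)⟧).IsLE (c - 1) :=
    DerivedCategory.TStructure.t.isLE_shift C (c - 1 - 1) (-1) (c - 1) (by omega)
  have hC2 : ((C⟦(-1 : ℤ)⟧)⟦(1 : ℤ)⟧).IsLE (c - 1 - 1) :=
    DerivedCategory.TStructure.t.isLE_shift (C⟦(-1 : ℤ)⟧) (c - 1) 1 (c - 1 - 1) (by omega)
  refine BC_obj₃ (Triangle.mk α β γ).invRotate.mor₁ (Triangle.mk α β γ).invRotate.mor₂
    (Triangle.mk α β γ).invRotate.mor₃ hT' L ?_ ?_ ?_ ?_
  · exact BC_of_isLE_of_isGE _ L (c - 1) c (by omega) hC1 hL
  · exact BC_of_isLE_of_isGE _ L (c - 1 - 1) c (by omega) hC2 hL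
  · exact BC_of_iso ((shiftFunctorZero (Dual.D A) ℤ).app _) (Iso.refl L) (hP 0)
  · exact hP 1

end Groth.Agent.Lib.Seat8.FBC
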