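import Mathlib
import Groth.Agent.Lib.Seat8FBC5
import Groth.Agent.Lib.Helper1LBC
import Groth.Agent.Lib.Helper1PCTower
import Groth.Agent.S6965
import Groth.Agent.S6942

/-!
# Dualizing complexes and flat base change (seat 8)

* `isDualizing_of_iso`: being dualizing is invariant under isomorphism.
* `lbcFlatIso`: for `A → B` flat, `- ⊗^L_A B ≅ - ⊗_A B` (the exact functor induced on derived categories).
* `isGE_of_isDualizing`, `isPC_of_isDualizing`: a dualizing complex is bounded and pseudo-coherent.
* `isDualizing_extD`: for `A → B` flat between Noetherian rings such that every cyclic `B`-module is extended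
  from a cyclic `A`-module (e.g. a localization), the base change of a dualizing complex is dualizing.
-/

set_option autoImplicit false
universe u
open CategoryTheory CategoryTheory.Limits Pretriangulated
attribute [local instance] HasDerivedCategory.standard
open ModuleCat.Algebra
open Groth.Agent.Lib.Helper1.Extend
open Groth.Agent.Lib.Seat8.FBC
open scoped TensorProduct

namespace Groth.Agent.Lib.Seat8.DualBC

section Iso

variable {A : Type u} [CommRing A]

lemma subsingleton_hom_of_iso {X X' Y Y' : Dual.D A} (e : X ≅ X') (e' : Y ≅ Y')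
    (h : Subsingleton (X ⟶ Y)) : Subsingleton (X' ⟶ Y') :=
  ⟨fun f g => by
    have := h.elim (e.hom ≫ f ≫ e'.inv) (e.hom ≫ g ≫ e'.inv)
    rwa [cancel_epi, cancel_mono] at this⟩

theorem isDualizing_of_iso {ω ω' : Dual.D A} (e : ω ≅ ω') (h : Dual.IsDualizing A ω) :
    Dual.IsDualizing A ω' := by
  obtain ⟨a, b, hab⟩ := h.finite_injective_dimension
  refine ⟨h.isNoetherianRing, ⟨a, b, fun M _ _ i hi => ?_⟩, fun i => ?_, ?_, fun i hi => ?_⟩
  · exact subsingleton_hom_of_iso (Iso.refl _) ((shiftFunctor (Dual.D A) i).mapIso e) (hab M i hi)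
  · have := h.finite_cohomology i
    exact Module.Finite.equiv
      ((DerivedCategory.homologyFunctor (ModuleCat.{u} A) i).mapIso e).toLinearEquiv
  · have hb := h.toEnd_bijective
    let c : (ω ⟶ ω) ≃ (ω' ⟶ ω') :=
      { toFun := fun f => e.inv ≫ f ≫ e.hom
        invFun := fun g => e.hom ≫ g ≫ e.inv
        left_inv := fun f => by simp
        right_inv := fun g => by simp }
    have : (fun a : A => a • 𝟙 ω') = c ∘ (fun a : A => a • 𝟙 ω) := by
      funext a
      show a • 𝟙 ω' = e.inv ≫ (a • 𝟙 ω) ≫ e.hom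
      rw [Linear.smul_comp, Linear.comp_smul, Category.id_comp, e.inv_hom_id]
    rw [this]
    exact c.bijective.comp hb
  · exact subsingleton_hom_of_iso e ((shiftFunctor (Dual.D A) i).mapIso e)
      (h.ext_self_subsingleton i hi)

end Iso

section Bounded

variable {A : Type u} [CommRing A]

/-- vanishing of `Hom(M[0], K[i])` outside `[a, b]` for all modules `M` bounds `K` -/
lemma isGE_isLE_of_finiteInjDim (K : Dual.D A) (a b : ℤ)
    (h : ∀ (M : Type u) [AddCommGroup M] [Module A M] (i : ℤ),
      (i < a ∨ b < i) → Subsingleton (Dual.inD A M ⟶ K⟦i⟧)) : K.IsGE a ∧ K.IsLE b := by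
  have h1 : DRing.HasInjAmplitudeIn A a b K :=
    ((Groth.Agent.S6965.result A K a b).out 1 0).1 (by intro N _ _ i hi; exact h N i hi)
  obtain ⟨E, hE, -, ⟨e⟩⟩ := h1
  have hEge : E.IsStrictlyGE a := by
    rw [CochainComplex.isStrictlyGE_iff]
    exact fun i hi => hE i (Or.inl hi)
  have hEle : E.IsStrictlyLE b := by
    rw [CochainComplex.isStrictlyLE_iff]
    exact fun i hi => hE i (Or.inr hi)
  have h2 : (DerivedCategory.Q.obj E).IsGE a := inferInstance
  have h3 : (DerivedCategory.Q.obj E).IsLE b := inferInstance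
  exact ⟨DerivedCategory.TStructure.t.isGE_of_iso e a, DerivedCategory.TStructure.t.isLE_of_iso e b⟩

lemma exists_isGE_of_isDualizing (ω : Dual.D A) (h : Dual.IsDualizing A ω) :
    ∃ a b : ℤ, ω.IsGE a ∧ ω.IsLE b := by
  obtain ⟨a, b, hab⟩ := h.finite_injective_dimension
  exact ⟨a, b, isGE_isLE_of_finiteInjDim ω a b hab⟩

/-- over a Noetherian ring, bounded above with finite cohomology implies pseudo-coherent -/
lemma isPC_of_finite [IsNoetherianRing A] (K : Dual.D A) (b : ℤ) (hb : K.IsLE b)
    (hfin : ∀ i : ℤ, Module.Finite A (Dual.HD A K i)) (m : ℤ) : DRing.IsPseudoCoherent A m K := by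
  refine (Groth.Agent.S6942.result A m K PUnit).1.2 ⟨⟨b, fun i hi => ?_⟩, fun i _ => hfin i⟩
  exact ModuleCat.subsingleton_of_isZero ((DerivedCategory.isLE_iff K b).1 hb i hi)

lemma isPC_of_isDualizing (ω : Dual.D A) (h : Dual.IsDualizing A ω) (m : ℤ) :
    DRing.IsPseudoCoherent A m ω := by
  have := h.isNoetherianRing
  obtain ⟨a, b, -, hb⟩ := exists_isGE_of_isDualizing ω h
  exact isPC_of_finite ω b hb h.finite_cohomology m

/-- a finite module over a Noetherian ring is pseudo-coherent -/
lemma isPC_inD [IsNoetherianRing A] (M : Type u) [AddCommGroup M] [Module A M] [Module.Finite A M]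
    (m : ℤ) : DRing.IsPseudoCoherent A m (Dual.inD A M) := by
  have h0 : (Dual.inD A M).IsLE 0 := inferInstance
  refine isPC_of_finite _ 0 h0 (fun i => ?_) m
  by_cases hi : i = 0
  · subst hi
    exact Module.Finite.equiv
      (Groth.Agent.Lib.Helper1.PC.homologySingleIso (ModuleCat.of A M) 0).symm.toLinearEquiv
  · have : Subsingleton (Dual.HD A (Dual.inD A M) i) := ModuleCat.subsingleton_of_isZero
      (Groth.Agent.Lib.Helper1.PC.isZero_homology_single (ModuleCat.of A M) 0 i hi)
    infer_instance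

end Bounded

section Flat

variable {A B : Type u} [CommRing A] [CommRing B] [Algebra A B] [Module.Flat A B]

/-- for flat `B`, derived base change is the exact functor `- ⊗_A B` -/
noncomputable def lbcFlatIso [DRing.HasLBaseChange (algebraMap A B)] :
    DRing.LBaseChange (algebraMap A B) ≅ extD A B :=
  haveI : (extD A B).IsLeftDerivedFunctor (ext A B).mapDerivedCategoryFactorsh.hom
      (HomotopyCategory.quasiIso (ModuleCat.{u} A) (ComplexShape.up ℤ)) :=
    Functor.isLeftDerivedFunctor_of_inverts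
      (HomotopyCategory.quasiIso (ModuleCat.{u} A) (ComplexShape.up ℤ)) (extD A B)
      (ext A B).mapDerivedCategoryFactorsh
  Functor.leftDerivedUnique (extD A B) (DRing.LBaseChange (algebraMap A B))
    ((DRing.baseChangeKh (algebraMap A B)).totalLeftDerivedCounit DerivedCategory.Qh
      (HomotopyCategory.quasiIso (ModuleCat.{u} A) (ComplexShape.up ℤ)))
    (ext A B).mapDerivedCategoryFactorsh.hom
    (HomotopyCategory.quasiIso (ModuleCat.{u} A) (ComplexShape.up ℤ))

/-- vanishing of `Hom(K, L[i])` ascends along flat base change -/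
lemma subsingleton_extD_hom (K L : Dual.D A) (i : ℤ) (hBC : BC B K (L⟦i⟧))
    (h : Subsingleton (K ⟶ L⟦i⟧)) :
    Subsingleton ((extD A B).obj K ⟶ ((extD A B).obj L)⟦i⟧) := by
  have h1 : Subsingleton (B ⊗[A] (K ⟶ L⟦i⟧)) := inferInstance
  have h2 : Subsingleton ((extD A B).obj K ⟶ (extD A B).obj (L⟦i⟧)) :=
    (Equiv.ofBijective _ hBC).symm.subsingleton
  exact subsingleton_hom_of_iso (Iso.refl _) (((extD A B).commShiftIso i).app L) h2

/-- bijectivity of `A → End(K)` ascends along flat base change -/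
lemma toEnd_bijective_extD (K : Dual.D A) (hBC : BC B K K)
    (h : Function.Bijective (fun a : A => a • 𝟙 K)) :
    Function.Bijective (fun b : B => b • 𝟙 ((extD A B).obj K)) := by
  let t : A →ₗ[A] (K ⟶ K) :=
    { toFun := fun a => a • 𝟙 K
      map_add' := fun x y => add_smul x y _
      map_smul' := fun x y => by simp [mul_smul] }
  let e : A ≃ₗ[A] (K ⟶ K) := LinearEquiv.ofBijective t h
  have : (fun b : B => b • 𝟙 ((extD A B).obj K)) =
      (cmp B K K) ∘ (LinearEquiv.lTensor B e) ∘ (TensorProduct.rid A B).symm := by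
    funext b
    show _ = cmp B K K (LinearEquiv.lTensor B e ((TensorProduct.rid A B).symm b))
    rw [TensorProduct.rid_symm_apply, LinearEquiv.lTensor_tmul, cmp_tmul]
    show _ = b • (extD A B).map ((1 : A) • 𝟙 K)
    rw [one_smul, CategoryTheory.Functor.map_id]
  rw [this]
  exact hBC.comp ((LinearEquiv.lTensor B e).bijective.comp (TensorProduct.rid A B).symm.bijective)

/-- **Ascent of dualizing complexes** along a flat map of Noetherian rings all of whose cyclic modules
are extended from cyclic modules (e.g. a localization). -/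
theorem isDualizing_extD [IsNoetherianRing B] (ω : Dual.D A) (hω : Dual.IsDualizing A ω)
    (hJ : ∀ J : Ideal B, ∃ I : Ideal A, Nonempty ((B ⧸ J) ≃ₗ[B] B ⊗[A] (A ⧸ I))) :
    Dual.IsDualizing B ((extD A B).obj ω) := by
  have := hω.isNoetherianRing
  obtain ⟨a, b, hab⟩ := hω.finite_injective_dimension
  obtain ⟨hGE, hLE⟩ := isGE_isLE_of_finiteInjDim ω a b hab
  have hpc := isPC_of_isDualizing ω hω
  have hsh : ∀ i : ℤ, (ω⟦i⟧).IsGE (a - i) := fun i =>
    DerivedCategory.TStructure.t.isGE_shift ω a i (a - i) (by omega)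
  refine ⟨inferInstance, ⟨a, b, ?_⟩, fun i => ?_, ?_, fun i hi => ?_⟩
  · refine ((Groth.Agent.S6965.result B ((extD A B).obj ω) a b).out 2 1).1 ?_
    intro J i hi
    obtain ⟨I, ⟨e⟩⟩ := hJ J
    have hBC : BC B (Dual.inD A (A ⧸ I)) (ω⟦i⟧) :=
      BC_of_pseudoCoherent _ _ (a - i) (hsh i) (fun m => isPC_inD (A ⧸ I) m)
    have h1 := subsingleton_extD_hom (B := B) (Dual.inD A (A ⧸ I)) ω i hBC (hab (A ⧸ I) i hi)
    have e1 : (extD A B).obj (Dual.inD A (A ⧸ I)) ≅ Dual.inD B (B ⧸ J) :=
      extDInDIso (A := A) (B := B) (A ⧸ I) ≪≫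
        (DerivedCategory.singleFunctor (ModuleCat.{u} B) 0).mapIso e.symm.toModuleIso
    exact subsingleton_hom_of_iso e1 (Iso.refl _) h1
  · have := hω.finite_cohomology i
    have h2 : Module.Finite B ((ext A B).obj
        ((DerivedCategory.homologyFunctor (ModuleCat.{u} A) i).obj ω)) :=
      Groth.Agent.Lib.Helper1.LDer.finite_bc (algebraMap A B) _
    exact Module.Finite.equiv (homologyMapDIso (ext A B) ω i).symm.toLinearEquiv
  · have hBC : BC B ω ω := BC_of_pseudoCoherent _ _ a hGE hpc
    exact toEnd_bijective_extD ω hBC hω.toEnd_bijective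
  · have hBC : BC B ω (ω⟦i⟧) := BC_of_pseudoCoherent _ _ (a - i) (hsh i) hpc
    exact subsingleton_extD_hom ω ω i hBC (hω.ext_self_subsingleton i hi)

end Flat

end Groth.Agent.Lib.Seat8.DualBC
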