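import Mathlib
import Groth.Prelude.Def_DDual2
import Groth.Agent.Lib.Seat8HomSingle

/-!
# Restriction of scalars on derived categories and its right adjoint (seat 8)

* `restrictD_map_smul_id`: `restrictD φ` sends `φ a • 𝟙` to `a • 𝟙`.
* `homEquiv_smul`: for an adjunction `restrictD φ ⊣ Rf`, the hom-set bijection is semilinear.
* `finite_of_adj`: finiteness over `A` of `Hom(restrictD N, K)` gives finiteness over `B` of `Hom(N, Rf K)`.
-/

set_option autoImplicit false
universe u
open CategoryTheory CategoryTheory.Limits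
attribute [local instance] HasDerivedCategory.standard

namespace Groth.Agent.Lib.Seat8.RestrictAdj

open DerivedCategory HomologicalComplex Groth.Agent.Lib.Seat8.HomSingle

variable {A B : Type u} [CommRing A] [CommRing B] (φ : A →+* B)

lemma restrictScalars_map_smul_id (M : ModuleCat.{u} B) (a : A) :
    (ModuleCat.restrictScalars.{u} φ).map (φ a • 𝟙 M) =
      a • 𝟙 ((ModuleCat.restrictScalars.{u} φ).obj M) := by
  ext x
  rfl

/-- termwise restriction of scalars on complexes -/
noncomputable abbrev resCx : Cx B ⥤ Cx A :=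
  (ModuleCat.restrictScalars.{u} φ).mapHomologicalComplex (ComplexShape.up ℤ)

lemma resCx_map_smul_id (E : Cx B) (a : A) :
    (resCx φ).map (φ a • 𝟙 E) = a • 𝟙 ((resCx φ).obj E) := by
  ext i : 1
  exact restrictScalars_map_smul_id φ (E.X i) a

/-- `restrictD` on `Q.obj E` -/
noncomputable def resQIso (E : Cx B) :
    (DRing.restrictD φ).obj (Q.obj E) ≅ Q.obj ((resCx φ).obj E) :=
  (Functor.mapDerivedCategoryFactors (ModuleCat.restrictScalars.{u} φ)).app E

lemma restrictD_map_Q_map {E E' : Cx B} (g : E ⟶ E') :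
    (DRing.restrictD φ).map (Q.map g) =
      (resQIso φ E).hom ≫ Q.map ((resCx φ).map g) ≫ (resQIso φ E').inv := by
  have := (Functor.mapDerivedCategoryFactors (ModuleCat.restrictScalars.{u} φ)).hom.naturality g
  simp only [Functor.comp_map] at this
  rw [← Category.assoc, Iso.eq_comp_inv]
  exact this

lemma restrictD_map_smul_id_Q (E : Cx B) (a : A) :
    (DRing.restrictD φ).map (φ a • 𝟙 (Q.obj E)) = a • 𝟙 _ := by
  have h1 : φ a • 𝟙 (Q.obj E) = Q.map (φ a • 𝟙 E) := by
    rw [Functor.map_smul, CategoryTheory.Functor.map_id]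
  rw [h1, restrictD_map_Q_map, resCx_map_smul_id, Functor.map_smul, CategoryTheory.Functor.map_id,
    Linear.smul_comp, Linear.comp_smul, Category.id_comp, Iso.hom_inv_id]

lemma restrictD_map_smul_id (X : Dual.D B) (a : A) :
    (DRing.restrictD φ).map (φ a • 𝟙 X) = a • 𝟙 _ := by
  let e : Q.obj (Q.objPreimage X) ≅ X := Q.objObjPreimageIso X
  have h1 : φ a • 𝟙 X = e.inv ≫ (φ a • 𝟙 (Q.obj (Q.objPreimage X))) ≫ e.hom := by
    rw [Linear.smul_comp, Linear.comp_smul, Category.id_comp, Iso.inv_hom_id]
  rw [h1, Functor.map_comp, Functor.map_comp, restrictD_map_smul_id_Q, Linear.smul_comp,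
    Linear.comp_smul, Category.id_comp, ← Functor.map_comp, Iso.inv_hom_id,
    CategoryTheory.Functor.map_id]


section Adj

variable {φ}
variable {Rf : Dual.D A ⥤ Dual.D B} (adj : DRing.restrictD φ ⊣ Rf)

include adj in
/-- the hom-set bijection of an adjunction `restrictD φ ⊣ Rf` is `φ`-semilinear -/
lemma homEquiv_smul (N : Dual.D B) (K : Dual.D A) (a : A) (g : (DRing.restrictD φ).obj N ⟶ K) :
    adj.homEquiv N K (a • g) = φ a • adj.homEquiv N K g := by
  have h1 : a • g = (DRing.restrictD φ).map (φ a • 𝟙 N) ≫ g := by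
    rw [restrictD_map_smul_id, Linear.smul_comp, Category.id_comp]
  rw [h1, Adjunction.homEquiv_naturality_left, Linear.smul_comp, Category.id_comp]

include adj in
lemma homEquiv_add (N : Dual.D B) (K : Dual.D A) (g g' : (DRing.restrictD φ).obj N ⟶ K) :
    adj.homEquiv N K (g + g') = adj.homEquiv N K g + adj.homEquiv N K g' := by
  have : (DRing.restrictD φ).Additive := inferInstance
  have : Rf.Additive := adj.right_adjoint_additive
  simp only [Adjunction.homEquiv_unit, Functor.map_add, Preadditive.comp_add]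

include adj in
/-- finiteness transfers along the adjunction -/
theorem finite_of_adj (N : Dual.D B) (K : Dual.D A)
    (h : Module.Finite A ((DRing.restrictD φ).obj N ⟶ K)) : Module.Finite B (N ⟶ Rf.obj K) := by
  classical
  obtain ⟨s, hs⟩ := h.fg_top
  refine ⟨⟨s.image (adj.homEquiv N K), ?_⟩⟩
  rw [eq_top_iff]
  rintro f -
  obtain ⟨g, rfl⟩ := (adj.homEquiv N K).surjective f
  have hg : g ∈ Submodule.span A (s : Set ((DRing.restrictD φ).obj N ⟶ K)) := by rw [hs]; trivial
  induction hg using Submodule.span_induction with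
  | mem x hx =>
    refine Submodule.subset_span ?_
    rw [Finset.coe_image]
    exact ⟨x, hx, rfl⟩
  | zero =>
    have : adj.homEquiv N K 0 = 0 := by
      have := homEquiv_add adj N K 0 0
      rw [add_zero] at this
      exact add_eq_left.mp this.symm
    rw [this]; exact Submodule.zero_mem _
  | add x y _ _ hx hy => rw [homEquiv_add adj]; exact Submodule.add_mem _ hx hy
  | smul a x _ hx => rw [homEquiv_smul adj]; exact Submodule.smul_mem _ _ hx

end Adj

end Groth.Agent.Lib.Seat8.RestrictAdj
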