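import Mathlib
import Groth.Agent.Lib.Helper1HomFinite
import Groth.Agent.Lib.Seat8RestrictAdj

/-!
# Finiteness of `Hom(M[-j], K)` for `K` bounded below with finite cohomology (seat 8)
-/

set_option autoImplicit false
universe u
open CategoryTheory CategoryTheory.Limits
attribute [local instance] HasDerivedCategory.standard

namespace Groth.Agent.Lib.Seat8.HomFinite

open DerivedCategory Pretriangulated Groth.Agent.S14388 Groth.Agent.Lib.Helper1.HomFinite

variable {A : Type u} [CommRing A]

/-- `Hom(M[-j], K)` is finite for a finite module `M` and `K` bounded below with finite cohomology -/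
theorem finite_hom_single_of_boundedBelow [IsNoetherianRing A] (M : ModuleCat.{u} A)
    [Module.Finite A M] (j : ℤ) (K : DerivedCategory (ModuleCat.{u} A)) (a : ℤ)
    (hKa : ∀ i : ℤ, i < a → IsZero ((homologyFunctor (ModuleCat.{u} A) i).obj K))
    (hfin : ∀ i : ℤ, Module.Finite A ((homologyFunctor (ModuleCat.{u} A) i).obj K)) :
    Module.Finite A ((singleFunctor (ModuleCat.{u} A) j).obj M ⟶ K) := by
  have hfin' : Module.Finite A ((singleFunctor (ModuleCat.{u} A) j).obj M ⟶
      (tt.truncLT (j + 1)).obj K) := by
    apply finite_hom_single_of_bounded M j _ a j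
    · intro i hi
      have hle : ((tt.truncLT (j + 1)).obj K).IsLE j := tt.isLE_truncLT_obj K (j + 1) j (by omega)
      by_cases hij : j < i
      · exact isZero_of_isLE _ j i hij
      rcases hi with hi | hi
      · have hι := isIso_homology_truncLTι (j + 1) i (by omega) K
        exact (hKa i hi).of_iso (asIso ((homologyFunctor (ModuleCat.{u} A) i).map
          ((tt.truncLTι (j + 1)).app K)))
      · have : ((tt.truncLT (j + 1)).obj K).IsLE j := tt.isLE_truncLT_obj K (j + 1) j (by omega)
        exact isZero_of_isLE _ j i hi
    · intro i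
      by_cases hi : i < j + 1
      · have hι := isIso_homology_truncLTι (j + 1) i hi K
        have : Module.Finite A ((homologyFunctor (ModuleCat.{u} A) i).obj
          ((𝟭 (DerivedCategory (ModuleCat.{u} A))).obj K)) := hfin i
        exact Module.Finite.equiv (asIso ((homologyFunctor (ModuleCat.{u} A) i).map
          ((tt.truncLTι (j + 1)).app K))).symm.toLinearEquiv
      · have : ((tt.truncLT (j + 1)).obj K).IsLE j := tt.isLE_truncLT_obj K (j + 1) j (by omega)
        have hz : IsZero ((homologyFunctor (ModuleCat.{u} A) i).obj ((tt.truncLT (j + 1)).obj K)) :=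
          isZero_of_isLE _ j i (by omega)
        have := ModuleCat.subsingleton_of_isZero hz
        infer_instance
  refine Module.Finite.of_surjective (Linear.rightComp A _ ((tt.truncLTι (j + 1)).app K)) ?_
  intro f
  have h0 : f ≫ (tt.truncGEπ (j + 1)).app K = 0 :=
    tt.zero_of_isLE_of_isGE _ j (j + 1) (by omega) inferInstance inferInstance
  obtain ⟨g, hg⟩ := Triangle.coyoneda_exact₂ _ (tt.triangleLTGE_distinguished (j + 1) K) f h0
  exact ⟨g, hg.symm⟩

end Groth.Agent.Lib.Seat8.HomFinite
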