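import Mathlib
import Groth.Agent.Lib.Seat8DualBC
import Groth.Agent.Lib.Seat8HomFinite

/-!
# A Bass-type criterion for injective dimension (seat 8)

`bass`: for `B` Noetherian and `K` in `D^+(B)` with finite cohomology modules, if `Hom((B/n)[0], K[i]) = 0`
for every maximal ideal `n` and every `i > b`, then `Hom((B/J)[0], K[i]) = 0` for every ideal `J` and every
`i > b`.
-/

set_option autoImplicit false
universe u
open CategoryTheory CategoryTheory.Limits Pretriangulated
attribute [local instance] HasDerivedCategory.standard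
open Groth.Agent.Lib.Seat8.DualBC

namespace Groth.Agent.Lib.Seat8.Bass

section Tri

variable {B : Type u} [CommRing B]

lemma subsingleton_mid (T : Triangle (Dual.D B)) (hT : T ∈ distTriang (Dual.D B)) (L : Dual.D B)
    (h1 : Subsingleton (T.obj₁ ⟶ L)) (h3 : Subsingleton (T.obj₃ ⟶ L)) :
    Subsingleton (T.obj₂ ⟶ L) := by
  have h0 : ∀ f : T.obj₂ ⟶ L, f = 0 := by
    intro f
    obtain ⟨g, hg⟩ := Triangle.yoneda_exact₂ T hT f (h1.elim _ _)
    rw [hg, h3.elim g 0, comp_zero]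
  exact ⟨fun f g => (h0 f).trans (h0 g).symm⟩

lemma exists_factor (T : Triangle (Dual.D B)) (hT : T ∈ distTriang (Dual.D B)) (L : Dual.D B)
    (h : Subsingleton (T.obj₃ ⟶ L⟦(1 : ℤ)⟧)) (f : T.obj₁ ⟶ L) :
    ∃ g : T.obj₂ ⟶ L, f = T.mor₁ ≫ g := by
  have hT' := inv_rot_of_distTriang T hT
  have h0 : ∀ u : T.obj₃⟦(-1 : ℤ)⟧ ⟶ L, u = 0 := by
    intro u
    apply (shiftFunctor (Dual.D B) (1 : ℤ)).map_injective
    let e : T.obj₃ ≅ (T.obj₃⟦(-1 : ℤ)⟧)⟦(1 : ℤ)⟧ :=
      ((shiftFunctorCompIsoId (Dual.D B) (-1 : ℤ) 1 (by omega)).app T.obj₃).symm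
    rw [← cancel_epi e.hom]
    exact h.elim _ _
  exact Triangle.yoneda_exact₂ T.invRotate hT' f (h0 _)

end Tri

section Modules

variable {B : Type u} [CommRing B]

/-- multiplication by `x` as a map `B/I' → B/J` -/
def mulQ (I' J : Ideal B) (x : B) (h : ∀ b ∈ I', x * b ∈ J) : (B ⧸ I') →ₗ[B] (B ⧸ J) :=
  Submodule.mapQ I' J (x • LinearMap.id) (fun b hb => by
    simpa [Submodule.mem_comap] using h b hb)

lemma mulQ_mk (I' J : Ideal B) (x : B) (h : ∀ b ∈ I', x * b ∈ J) (b : B) :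
    mulQ I' J x h (Submodule.Quotient.mk b) = Submodule.Quotient.mk (x * b) := rfl

/-- the projection `B/J → B/(J + x)` -/
def facQ (J : Ideal B) (x : B) : (B ⧸ J) →ₗ[B] (B ⧸ (J ⊔ Ideal.span {x})) :=
  Submodule.factor (le_sup_left : J ≤ J ⊔ Ideal.span {x})

lemma facQ_mk (J : Ideal B) (x : B) (b : B) :
    facQ J x (Submodule.Quotient.mk b) = Submodule.Quotient.mk b := rfl

lemma facQ_mulQ (I' J : Ideal B) (x : B) (h : ∀ b ∈ I', x * b ∈ J) (y : B ⧸ I') :
    facQ J x (mulQ I' J x h y) = 0 := by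
  obtain ⟨b, rfl⟩ := Submodule.Quotient.mk_surjective _ y
  rw [mulQ_mk, facQ_mk, Submodule.Quotient.mk_eq_zero]
  exact Submodule.mem_sup_right (Ideal.mul_mem_right b _ (Ideal.subset_span rfl))

lemma exact_mulQ_facQ (I' J : Ideal B) (x : B) (h : ∀ b ∈ I', x * b ∈ J) :
    Function.Exact (mulQ I' J x h) (facQ J x) := by
  intro y
  obtain ⟨b, rfl⟩ := Submodule.Quotient.mk_surjective _ y
  rw [facQ_mk, Submodule.Quotient.mk_eq_zero]
  constructor
  · intro hb
    obtain ⟨j, hj, z, hz, rfl⟩ := Submodule.mem_sup.1 hb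
    obtain ⟨c, rfl⟩ := Ideal.mem_span_singleton'.1 hz
    refine ⟨Submodule.Quotient.mk c, ?_⟩
    rw [mulQ_mk, Submodule.Quotient.eq]
    have : x * c - (j + c * x) = -j := by ring
    rw [this]
    exact J.neg_mem hj
  · rintro ⟨z, hz⟩
    obtain ⟨c, rfl⟩ := Submodule.Quotient.mk_surjective _ z
    rw [mulQ_mk, Submodule.Quotient.eq] at hz
    have : b = x * c - (x * c - b) := by ring
    rw [this]
    exact Submodule.sub_mem _ (Submodule.mem_sup_right
      (Ideal.mul_mem_right c _ (Ideal.subset_span rfl))) (Submodule.mem_sup_left hz)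

lemma mulQ_injective (I' J : Ideal B) (x : B) (h : ∀ b, x * b ∈ J ↔ b ∈ I') :
    Function.Injective (mulQ I' J x (fun b hb => (h b).2 hb)) := by
  rw [← LinearMap.ker_eq_bot, LinearMap.ker_eq_bot']
  intro y hy
  obtain ⟨b, rfl⟩ := Submodule.Quotient.mk_surjective _ y
  rw [mulQ_mk, Submodule.Quotient.mk_eq_zero] at hy
  exact (Submodule.Quotient.mk_eq_zero _).2 ((h b).1 hy)

/-- the sequence `B/(J : x) → B/J → B/(J + x)` -/
noncomputable def ses (I' J : Ideal B) (x : B) (h : ∀ b, x * b ∈ J ↔ b ∈ I') :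
    ShortComplex (ModuleCat.{u} B) :=
  ShortComplex.mk (ModuleCat.ofHom (mulQ I' J x (fun b hb => (h b).2 hb)))
    (ModuleCat.ofHom (facQ J x)) (by
      apply ModuleCat.hom_ext
      apply LinearMap.ext
      intro y
      exact facQ_mulQ I' J x (fun b hb => (h b).2 hb) y)

lemma ses_shortExact (I' J : Ideal B) (x : B) (h : ∀ b, x * b ∈ J ↔ b ∈ I') :
    (ses I' J x h).ShortExact where
  exact := by
    rw [ShortComplex.ShortExact.moduleCat_exact_iff_function_exact]
    exact exact_mulQ_facQ I' J x (fun b hb => (h b).2 hb)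
  mono_f := by
    rw [ModuleCat.mono_iff_injective]
    exact mulQ_injective I' J x h
  epi_g := by
    rw [ModuleCat.epi_iff_surjective]
    exact Submodule.factor_surjective (le_sup_left : J ≤ J ⊔ Ideal.span {x})

end Modules

section Main

variable {B : Type u} [CommRing B] [IsNoetherianRing B]

lemma finite_hom_inD_shift (M : Type u) [AddCommGroup M] [Module B M] [Module.Finite B M]
    (K : Dual.D B) (c : ℤ) (hGE : K.IsGE c) (hfin : ∀ j : ℤ, Module.Finite B (Dual.HD B K j))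
    (i : ℤ) : Module.Finite B (Dual.inD B M ⟶ K⟦i⟧) := by
  have hsh : (K⟦i⟧).IsGE (c - i) :=
    DerivedCategory.TStructure.t.isGE_shift K c i (c - i) (by omega)
  refine Groth.Agent.Lib.Seat8.HomFinite.finite_hom_single_of_boundedBelow (ModuleCat.of B M) 0
    (K⟦i⟧) (c - i) (fun j hj => (DerivedCategory.isGE_iff _ (c - i)).1 hsh j hj) (fun j => ?_)
  have hh : Module.Finite B ↑(((DerivedCategory.homologyFunctor (ModuleCat.{u} B) 0).shift
      (i + j)).obj K) := hfin (i + j)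
  exact Module.Finite.equiv (((DerivedCategory.homologyFunctor (ModuleCat.{u} B) 0).shiftIso i j
    (i + j) rfl).app K).symm.toLinearEquiv

omit [IsNoetherianRing B] in
lemma smul_id_inD_eq_zero (J : Ideal B) (j : B) (hj : j ∈ J) :
    j • 𝟙 (Dual.inD B (B ⧸ J)) = 0 := by
  have h0 : j • 𝟙 (ModuleCat.of B (B ⧸ J)) = 0 := by
    apply ModuleCat.hom_ext
    apply LinearMap.ext
    intro y
    obtain ⟨b, rfl⟩ := Submodule.Quotient.mk_surjective _ y
    show j • (Submodule.Quotient.mk b : B ⧸ J) = 0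
    rw [← Submodule.Quotient.mk_smul, Submodule.Quotient.mk_eq_zero]
    exact J.mul_mem_right b hj
  have h1 : (DerivedCategory.singleFunctor (ModuleCat.{u} B) 0).map
      (j • 𝟙 (ModuleCat.of B (B ⧸ J))) = j • 𝟙 (Dual.inD B (B ⧸ J)) := by
    rw [Functor.map_smul, CategoryTheory.Functor.map_id]
  rw [← h1, h0, Functor.map_zero]

/-- **Bass-type criterion**: vanishing of `Ext^i(B/n, K)` for all maximal ideals `n` and `i > b` implies
vanishing of `Ext^i(B/J, K)` for all ideals `J` and `i > b`, for `K` bounded below with finite cohomology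
over a Noetherian ring. -/
theorem bass (K : Dual.D B) (c : ℤ) (hGE : K.IsGE c)
    (hfin : ∀ j : ℤ, Module.Finite B (Dual.HD B K j)) (b : ℤ)
    (hmax : ∀ n : Ideal B, n.IsMaximal → ∀ i : ℤ, b < i →
      Subsingleton (Dual.inD B (B ⧸ n) ⟶ K⟦i⟧)) :
    ∀ (J : Ideal B) (i : ℤ), b < i → Subsingleton (Dual.inD B (B ⧸ J) ⟶ K⟦i⟧) := by
  intro J
  refine IsNoetherian.induction (P := fun J : Ideal B => ∀ i : ℤ, b < i →
    Subsingleton (Dual.inD B (B ⧸ J) ⟶ K⟦i⟧)) (fun (J : Ideal B) ih => ?_) J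
  intro i hi
  by_cases hJmax : J.IsMaximal
  · exact hmax J hJmax i hi
  by_contra hE
  have hann : Module.annihilator B (Dual.inD B (B ⧸ J) ⟶ K⟦i⟧) ≠ ⊤ := by
    intro h
    apply hE
    refine ⟨fun f g => ?_⟩
    have h1 : (1 : B) ∈ Module.annihilator B (Dual.inD B (B ⧸ J) ⟶ K⟦i⟧) := h ▸ Submodule.mem_top
    rw [Module.mem_annihilator] at h1
    rw [← one_smul B f, ← one_smul B g, h1 f, h1 g]
  obtain ⟨n, hn, han⟩ := Ideal.exists_le_maximal _ hann
  have hJann : J ≤ Module.annihilator B (Dual.inD B (B ⧸ J) ⟶ K⟦i⟧) := by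
    intro j hj
    rw [Module.mem_annihilator]
    intro g
    calc j • g = (j • 𝟙 _) ≫ g := by rw [Linear.smul_comp, Category.id_comp]
      _ = 0 := by rw [smul_id_inD_eq_zero J j hj, zero_comp]
  have hJn : J ≤ n := hJann.trans han
  have hlt : J < n := lt_of_le_of_ne hJn (fun h => hJmax (h ▸ hn))
  obtain ⟨x, hxn, hxJ⟩ := SetLike.exists_of_lt hlt
  obtain ⟨I', hI'⟩ : ∃ I' : Ideal B, ∀ b, x * b ∈ J ↔ b ∈ I' :=
    ⟨Submodule.comap (x • LinearMap.id) J, fun b => by simp [Submodule.mem_comap]⟩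
  have hJI' : J ≤ I' := fun b hb => (hI' b).1 (J.mul_mem_left x hb)
  have hJx : J < J ⊔ Ideal.span {x} :=
    lt_of_le_of_ne le_sup_left
      (fun h => hxJ (h ▸ Submodule.mem_sup_right (Ideal.subset_span rfl)))
  have hS := ses_shortExact I' J x hI'
  have hT := hS.singleTriangle_distinguished
  rcases hJI'.eq_or_lt with heq | hlt'
  · subst heq
    -- Nakayama
    have hfinE : Module.Finite B (Dual.inD B (B ⧸ J) ⟶ K⟦i⟧) :=
      finite_hom_inD_shift (B ⧸ J) K c hGE hfin i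
    have h3 : Subsingleton (hS.singleTriangle.obj₃ ⟶ (K⟦i⟧)⟦(1 : ℤ)⟧) :=
      subsingleton_hom_of_iso (Iso.refl _)
        ((shiftFunctorAdd' (Dual.D B) i 1 (i + 1) rfl).app K) (ih _ hJx (i + 1) (by omega))
    have hm : hS.singleTriangle.mor₁ = x • 𝟙 (Dual.inD B (B ⧸ J)) := by
      have h0 : ModuleCat.ofHom (mulQ J J x (fun b hb => (hI' b).2 hb)) =
          x • 𝟙 (ModuleCat.of B (B ⧸ J)) := by
        apply ModuleCat.hom_ext
        apply LinearMap.ext
        intro y
        obtain ⟨b, rfl⟩ := Submodule.Quotient.mk_surjective _ y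
        rfl
      show (DerivedCategory.singleFunctor (ModuleCat.{u} B) 0).map
        (ModuleCat.ofHom (mulQ J J x (fun b hb => (hI' b).2 hb))) = _
      rw [h0, Functor.map_smul, CategoryTheory.Functor.map_id]
    have hle : (⊤ : Submodule B (Dual.inD B (B ⧸ J) ⟶ K⟦i⟧)) ≤
        Ideal.span {x} • (⊤ : Submodule B (Dual.inD B (B ⧸ J) ⟶ K⟦i⟧)) := by
      intro g _
      obtain ⟨g', hg'⟩ := exists_factor hS.singleTriangle hT (K⟦i⟧) h3 g
      have hg'' : g = (x • 𝟙 (Dual.inD B (B ⧸ J))) ≫ (g' : Dual.inD B (B ⧸ J) ⟶ K⟦i⟧) := by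
        rw [← hm]
        exact hg'
      rw [Linear.smul_comp, Category.id_comp] at hg''
      rw [hg'']
      exact Submodule.smul_mem_smul (Ideal.mem_span_singleton_self x) Submodule.mem_top
    obtain ⟨r, hr1, hr2⟩ := Submodule.exists_sub_one_mem_and_smul_eq_zero_of_fg_of_le_smul
      (Ideal.span {x}) ⊤ Module.Finite.fg_top hle
    have hrn : r ∈ n := han ((Module.mem_annihilator).2 (fun g => hr2 g Submodule.mem_top))
    have hr1n : r - 1 ∈ n := (Ideal.span_singleton_le_iff_mem (I := n)).2 hxn hr1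
    have h1n : (1 : B) ∈ n := by
      have : (1 : B) = r - (r - 1) := by ring
      rw [this]
      exact n.sub_mem hrn hr1n
    exact hn.ne_top ((Ideal.eq_top_iff_one _).2 h1n)
  · exact hE (subsingleton_mid hS.singleTriangle hT (K⟦i⟧) (ih I' hlt' i hi) (ih _ hJx i hi))

end Main

end Groth.Agent.Lib.Seat8.Bass
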