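import Mathlib
import Groth.Prelude.Def_Wider
import Groth.Agent.Lib.Seat8Bass

set_option autoImplicit false
set_option linter.unusedSectionVars false
universe u
open CategoryTheory CategoryTheory.Limits Pretriangulated Opposite

attribute [local instance] HasDerivedCategory.standard

namespace Groth.Agent.Lib.Seat8.Bidual

section Tri

variable {C : Type*} [Category C] [Preadditive C] [HasZeroObject C] [HasShift C ℤ]
  [∀ n : ℤ, (shiftFunctor C n).Additive] [Pretriangulated C]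
variable {X Y Z : C} (f : X ⟶ Y) (g : Y ⟶ Z) (h : Z ⟶ X⟦(1 : ℤ)⟧)

/-- the connecting map `Hom(X, W[i]) → Hom(Z, W[i+1])` of a triangle `X → Y → Z → X[1]` -/
noncomputable def conn (W : C) (i j : ℤ) (hij : i + 1 = j) (φ : X ⟶ W⟦i⟧) : Z ⟶ W⟦j⟧ :=
  h ≫ φ⟦(1 : ℤ)⟧' ≫ (shiftFunctorAdd' C i 1 j hij).inv.app W

lemma conn_zero (W : C) (i j : ℤ) (hij : i + 1 = j) :
    conn h W i j hij 0 = 0 := by
  simp [conn]

lemma g_conn (hT : Triangle.mk f g h ∈ distTriang C) (W : C) (i j : ℤ) (hij : i + 1 = j)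
    (φ : X ⟶ W⟦i⟧) : g ≫ conn h W i j hij φ = 0 := by
  have : g ≫ h = 0 := comp_distTriang_mor_zero₂₃ _ hT
  rw [conn, ← Category.assoc, this, zero_comp]

lemma ex_Y (hT : Triangle.mk f g h ∈ distTriang C) {V : C} (φ : Y ⟶ V)
    (hφ : f ≫ φ = 0) : ∃ ψ : Z ⟶ V, g ≫ ψ = φ := by
  obtain ⟨ψ, hψ⟩ := Triangle.yoneda_exact₂ _ hT φ hφ
  exact ⟨ψ, hψ.symm⟩

lemma ex_X (hT : Triangle.mk f g h ∈ distTriang C) (W : C) (i j : ℤ) (hij : i + 1 = j)
    (φ : X ⟶ W⟦i⟧) (hφ : conn h W i j hij φ = 0) :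
    ∃ ψ : Y ⟶ W⟦i⟧, f ≫ ψ = φ := by
  have h1 : h ≫ φ⟦(1 : ℤ)⟧' = 0 := by
    have := hφ
    rw [conn, ← Category.assoc] at this
    rw [← cancel_mono ((shiftFunctorAdd' C i 1 j hij).inv.app W), this, zero_comp]
  obtain ⟨k, hk⟩ := Triangle.yoneda_exact₃ _ (rot_of_distTriang _ hT) (φ⟦(1 : ℤ)⟧') h1
  have hk' : φ⟦(1 : ℤ)⟧' = (-f⟦(1 : ℤ)⟧') ≫ (show Y⟦(1 : ℤ)⟧ ⟶ (W⟦i⟧)⟦(1 : ℤ)⟧ from k) := hk
  obtain ⟨ψ', hψ'⟩ := (shiftFunctor C (1 : ℤ)).map_surjective
    (show Y⟦(1 : ℤ)⟧ ⟶ (W⟦i⟧)⟦(1 : ℤ)⟧ from k)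
  refine ⟨-ψ', ?_⟩
  apply (shiftFunctor C (1 : ℤ)).map_injective
  rw [hk', ← hψ', Functor.map_comp, Functor.map_neg, Preadditive.comp_neg, Preadditive.neg_comp]

lemma ex_Z (hT : Triangle.mk f g h ∈ distTriang C) (W : C) (i j : ℤ) (hij : i + 1 = j)
    (ψ : Z ⟶ W⟦j⟧) (hψ : g ≫ ψ = 0) :
    ∃ φ : X ⟶ W⟦i⟧, conn h W i j hij φ = ψ := by
  obtain ⟨k, hk⟩ := Triangle.yoneda_exact₃ _ hT ψ hψ
  obtain ⟨φ, hφ⟩ := (shiftFunctor C (1 : ℤ)).map_surjective
    ((show X⟦(1 : ℤ)⟧ ⟶ W⟦j⟧ from k) ≫ (shiftFunctorAdd' C i 1 j hij).hom.app W)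
  refine ⟨φ, ?_⟩
  have hk' : ψ = h ≫ (show X⟦(1 : ℤ)⟧ ⟶ W⟦j⟧ from k) := hk
  rw [conn, hφ, hk']
  simp

end Tri

section Engine

variable {A : Type u} [CommRing A]

/-- data for the biduality engine: a contravariant "duality" functor from modules to `D(A)` turning
short exact sequences into distinguished triangles, with `DQ(A) ≅ ω` -/
structure Data (A : Type u) [CommRing A] (ω : Dual.D A) where
  DQ : (ModuleCat.{u} A)ᵒᵖ ⥤ Dual.D A
  additive : DQ.Additive
  smul_id : ∀ a : A, DQ.map (Quiver.Hom.op (a • 𝟙 (ModuleCat.of A A))) = a • 𝟙 _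
  tri : ∀ S : ShortComplex (ModuleCat.{u} A), S.ShortExact →
    ∃ δ : DQ.obj (op S.X₁) ⟶ (DQ.obj (op S.X₃))⟦(1 : ℤ)⟧,
      Triangle.mk (DQ.map S.g.op) (DQ.map S.f.op) δ ∈ distTriang (Dual.D A)
  θ : DQ.obj (op (ModuleCat.of A A)) ≅ ω
  bound : ∃ c : ℤ, ∀ (M : ModuleCat.{u} A) (i : ℤ), c < i →
    Subsingleton (DQ.obj (op M) ⟶ ω⟦i⟧)

variable {ω : Dual.D A} (d : Data A ω)

/-- the map `A → M`, `1 ↦ m` -/
noncomputable def pt (M : ModuleCat.{u} A) (m : M) : ModuleCat.of A A ⟶ M :=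
  ModuleCat.ofHom (LinearMap.toSpanSingleton A M m)

lemma pt_comp {M N : ModuleCat.{u} A} (f : M ⟶ N) (m : M) : pt M m ≫ f = pt N (f.hom m) := by
  apply ModuleCat.hom_ext
  apply LinearMap.ext_ring
  simp [pt]

lemma pt_add (M : ModuleCat.{u} A) (m m' : M) : pt M (m + m') = pt M m + pt M m' := by
  apply ModuleCat.hom_ext
  apply LinearMap.ext_ring
  simp [pt]

lemma pt_self (a : A) : pt (ModuleCat.of A A) a = a • 𝟙 (ModuleCat.of A A) := by
  apply ModuleCat.hom_ext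
  apply LinearMap.ext_ring
  simp [pt]

/-- the evaluation map `M → Hom(DQ M, ω[0])` -/
noncomputable def η (M : ModuleCat.{u} A) (m : M) : d.DQ.obj (op M) ⟶ ω⟦(0 : ℤ)⟧ :=
  d.DQ.map (pt M m).op ≫ d.θ.hom ≫ (shiftFunctorZero (Dual.D A) ℤ).inv.app ω

lemma η_nat {M N : ModuleCat.{u} A} (f : M ⟶ N) (m : M) :
    d.DQ.map f.op ≫ η d M m = η d N (f.hom m) := by
  rw [η, η, ← pt_comp f m, op_comp, Functor.map_comp, Category.assoc]

lemma η_add (M : ModuleCat.{u} A) (m m' : M) : η d M (m + m') = η d M m + η d M m' := by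
  have := d.additive
  rw [η, η, η, pt_add, op_add, Functor.map_add, Preadditive.add_comp]

lemma η_zero (M : ModuleCat.{u} A) : η d M 0 = 0 := by
  have h := η_add d M 0 0
  rw [add_zero] at h
  exact add_eq_left.mp h.symm

lemma η_sub (M : ModuleCat.{u} A) (m m' : M) : η d M (m - m') = η d M m - η d M m' := by
  have h := η_add d M (m - m') m'
  rw [sub_add_cancel] at h
  rw [h, add_sub_cancel_right]

lemma isZero_DQ (M : ModuleCat.{u} A) [Subsingleton M] : IsZero (d.DQ.obj (op M)) := by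
  have := d.additive
  exact d.DQ.map_isZero (ModuleCat.isZero_of_subsingleton M).op

/-- vanishing propagates to quotients: `T^i(X₂) = 0`, `T^{i+1}(X₁) = 0` imply `T^i(X₃) = 0` -/
lemma subsingleton_X₃ (S : ShortComplex (ModuleCat.{u} A)) (hS : S.ShortExact) (i : ℤ)
    (h2 : Subsingleton (d.DQ.obj (op S.X₂) ⟶ ω⟦i⟧))
    (h1 : Subsingleton (d.DQ.obj (op S.X₁) ⟶ ω⟦i + 1⟧)) :
    Subsingleton (d.DQ.obj (op S.X₃) ⟶ ω⟦i⟧) := by
  obtain ⟨δ, hδ⟩ := d.tri S hS
  have h0 : ∀ φ : d.DQ.obj (op S.X₃) ⟶ ω⟦i⟧, φ = 0 := by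
    intro φ
    obtain ⟨ψ, hψ⟩ : ∃ ψ : d.DQ.obj (op S.X₂) ⟶ ω⟦i⟧, d.DQ.map S.g.op ≫ ψ = φ :=
      ex_X _ _ _ hδ ω i (i + 1) rfl φ (h1.elim _ _)
    rw [← hψ, h2.elim ψ 0, comp_zero]
  exact ⟨fun f g => (h0 f).trans (h0 g).symm⟩

/-- vanishing propagates to extensions -/
lemma subsingleton_X₂ (S : ShortComplex (ModuleCat.{u} A)) (hS : S.ShortExact) (i : ℤ)
    (h1 : Subsingleton (d.DQ.obj (op S.X₁) ⟶ ω⟦i⟧))
    (h3 : Subsingleton (d.DQ.obj (op S.X₃) ⟶ ω⟦i⟧)) :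
    Subsingleton (d.DQ.obj (op S.X₂) ⟶ ω⟦i⟧) := by
  obtain ⟨δ, hδ⟩ := d.tri S hS
  exact Groth.Agent.Lib.Seat8.Bass.subsingleton_mid _ hδ _ h3 h1

/-- `T^i(A) = 0` for `i ≠ 0` -/
lemma subsingleton_self (hω : Dual.IsDualizing A ω) (i : ℤ) (hi : i ≠ 0) :
    Subsingleton (d.DQ.obj (op (ModuleCat.of A A)) ⟶ ω⟦i⟧) := by
  have := hω.ext_self_subsingleton i hi
  exact ((Iso.homCongr d.θ (Iso.refl (ω⟦i⟧))).subsingleton)

/-- the short exact sequence attached to a surjection from `A` -/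
noncomputable abbrev sesQ {N : Type u} [AddCommGroup N] [Module A N] (q : A →ₗ[A] N) :
    ShortComplex (ModuleCat.{u} A) := q.shortComplexKer

/-- the short exact sequence attached to an exact pair -/
noncomputable abbrev sesE {N₁ N₂ N₃ : Type u} [AddCommGroup N₁] [Module A N₁] [AddCommGroup N₂]
    [Module A N₂] [AddCommGroup N₃] [Module A N₃] (f : N₁ →ₗ[A] N₂) (g : N₂ →ₗ[A] N₃)
    (h : Function.Exact f g) : ShortComplex (ModuleCat.{u} A) :=
  ShortComplex.mk (ModuleCat.ofHom f) (ModuleCat.ofHom g) (by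
    ext x
    simpa using h.apply_apply_eq_zero x)

lemma sesE_shortExact {N₁ N₂ N₃ : Type u} [AddCommGroup N₁] [Module A N₁] [AddCommGroup N₂]
    [Module A N₂] [AddCommGroup N₃] [Module A N₃] (f : N₁ →ₗ[A] N₂) (g : N₂ →ₗ[A] N₃)
    (h : Function.Exact f g) (hf : Function.Injective f) (hg : Function.Surjective g) :
    (sesE f g h).ShortExact where
  exact := (ShortComplex.ShortExact.moduleCat_exact_iff_function_exact _).mpr h
  mono_f := (ModuleCat.mono_iff_injective _).mpr hf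
  epi_g := (ModuleCat.epi_iff_surjective _).mpr hg

/-- the inductive step: `T^{i+1} = 0` on all finite modules implies `T^i = 0` on all finite modules
(`i ≠ 0`) -/
lemma step (hω : Dual.IsDualizing A ω) (i : ℤ) (hi : i ≠ 0)
    (h : ∀ (N : Type u) [AddCommGroup N] [Module A N] [Module.Finite A N],
      Subsingleton (d.DQ.obj (op (ModuleCat.of A N)) ⟶ ω⟦i + 1⟧))
    (N : Type u) [AddCommGroup N] [Module A N] [hN : Module.Finite A N] :
    Subsingleton (d.DQ.obj (op (ModuleCat.of A N)) ⟶ ω⟦i⟧) := by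
  have := hω.isNoetherianRing
  induction hN using IsNoetherianRing.induction_on_isQuotientEquivQuotientPrime A with
  | subsingleton N =>
    exact ⟨fun f g => (isZero_DQ d (ModuleCat.of A N)).eq_of_src _ _⟩
  | quotient N p e =>
    let q : A →ₗ[A] N := e.symm.toLinearMap.comp (Submodule.mkQ p.1)
    have hq : Function.Surjective q := e.symm.surjective.comp (Submodule.mkQ_surjective _)
    exact subsingleton_X₃ d (sesQ q) (LinearMap.shortExact_shortComplexKer hq) i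
      (subsingleton_self d hω i hi) (h (LinearMap.ker q))
  | exact N₁ N₂ N₃ f g hf hg hfg h1 h3 =>
    exact subsingleton_X₂ d (sesE f g hfg) (sesE_shortExact f g hfg hf hg) i h1 h3

/-- `η_A` is bijective -/
lemma η_self_bijective (hω : Dual.IsDualizing A ω) :
    Function.Bijective (η d (ModuleCat.of A A)) := by
  let E : (ω ⟶ ω) ≃ (d.DQ.obj (op (ModuleCat.of A A)) ⟶ ω⟦(0 : ℤ)⟧) :=
    Iso.homCongr d.θ.symm ((shiftFunctorZero (Dual.D A) ℤ).symm.app ω)
  have h : η d (ModuleCat.of A A) = E ∘ (fun a : A => a • 𝟙 ω) := by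
    funext a
    change d.DQ.map (pt _ a).op ≫ d.θ.hom ≫ (shiftFunctorZero (Dual.D A) ℤ).inv.app ω =
      d.θ.hom ≫ (a • 𝟙 ω) ≫ (shiftFunctorZero (Dual.D A) ℤ).inv.app ω
    rw [pt_self, d.smul_id, Linear.smul_comp, Linear.smul_comp, Linear.comp_smul, Category.id_comp,
      Category.id_comp]
  rw [h]
  exact E.bijective.comp hω.toEnd_bijective

/-- `T^i = 0` on finite modules for `i ≥ 1` -/
lemma subsingleton_pos (hω : Dual.IsDualizing A ω) (i : ℤ) (hi : 1 ≤ i)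
    (N : Type u) [AddCommGroup N] [Module A N] [Module.Finite A N] :
    Subsingleton (d.DQ.obj (op (ModuleCat.of A N)) ⟶ ω⟦i⟧) := by
  obtain ⟨c, hc⟩ := d.bound
  have key : ∀ (k : ℕ) (i : ℤ), 1 ≤ i → c < i + k →
      ∀ (N : Type u) [AddCommGroup N] [Module A N] [Module.Finite A N],
        Subsingleton (d.DQ.obj (op (ModuleCat.of A N)) ⟶ ω⟦i⟧) := by
    intro k
    induction k with
    | zero =>
      intro i _ hik N _ _ _
      exact hc _ i (by simpa using hik)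
    | succ k ih =>
      intro i hi hik N _ _ _
      exact step d hω i (by omega) (fun N' _ _ _ => ih (i + 1) (by omega) (by push_cast at hik; omega) N') N
  exact key (c + 1 - i).toNat i hi (by omega) N

/-- `η` is surjective on finite modules -/
lemma η_surjective (hω : Dual.IsDualizing A ω)
    (N : Type u) [AddCommGroup N] [Module A N] [hN : Module.Finite A N] :
    Function.Surjective (η d (ModuleCat.of A N)) := by
  have := hω.isNoetherianRing
  induction hN using IsNoetherianRing.induction_on_isQuotientEquivQuotientPrime A with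
  | subsingleton N =>
    intro t
    exact ⟨0, (isZero_DQ d (ModuleCat.of A N)).eq_of_src _ _⟩
  | quotient N p e =>
    let q : A →ₗ[A] N := e.symm.toLinearMap.comp (Submodule.mkQ p.1)
    have hq : Function.Surjective q := e.symm.surjective.comp (Submodule.mkQ_surjective _)
    intro t
    obtain ⟨δ, hδ⟩ := d.tri (sesQ q) (LinearMap.shortExact_shortComplexKer hq)
    have h1 := subsingleton_pos d hω 1 le_rfl (LinearMap.ker q)
    obtain ⟨ψ, hψ⟩ : ∃ ψ : d.DQ.obj (op (ModuleCat.of A A)) ⟶ ω⟦(0 : ℤ)⟧,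
        d.DQ.map (sesQ q).g.op ≫ ψ = t :=
      ex_X _ _ _ hδ ω 0 1 (by norm_num) t (h1.elim _ _)
    -- `ψ = η_A a`
    obtain ⟨a, rfl⟩ := (η_self_bijective d hω).2 ψ
    refine ⟨q a, ?_⟩
    rw [← hψ]
    exact (η_nat d (sesQ q).g a).symm
  | exact N₁ N₂ N₃ f g hf hg hfg h1 h3 =>
    intro t
    obtain ⟨δ, hδ⟩ := d.tri (sesE f g hfg) (sesE_shortExact f g hfg hf hg)
    obtain ⟨n₃, hn₃⟩ := h3 (d.DQ.map (sesE f g hfg).g.op ≫ t)
    obtain ⟨n₂, rfl⟩ := hg n₃
    have h0 : d.DQ.map (sesE f g hfg).g.op ≫ (t - η d (ModuleCat.of A N₂) n₂) = 0 := by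
      rw [Preadditive.comp_sub, ← hn₃, η_nat]
      exact sub_self _
    obtain ⟨ψ, hψ⟩ : ∃ ψ : d.DQ.obj (op (ModuleCat.of A N₁)) ⟶ ω⟦(0 : ℤ)⟧,
        d.DQ.map (sesE f g hfg).f.op ≫ ψ = t - η d (ModuleCat.of A N₂) n₂ :=
      ex_Y _ _ _ hδ _ h0
    obtain ⟨n₁, rfl⟩ := h1 ψ
    refine ⟨n₂ + f n₁, ?_⟩
    have e1 : d.DQ.map (sesE f g hfg).f.op ≫ η d (ModuleCat.of A N₁) n₁ =
        η d (ModuleCat.of A N₂) (f n₁) := η_nat d (sesE f g hfg).f n₁
    rw [η_add, ← e1, hψ]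
    abel

/-- `η` kills only zero on cyclic modules -/
lemma η_eq_zero_quot (hω : Dual.IsDualizing A ω)
    (N : Type u) [AddCommGroup N] [Module A N] (q : A →ₗ[A] N) (hq : Function.Surjective q)
    (n : N) (hn : η d (ModuleCat.of A N) n = 0) : n = 0 := by
  have := hω.isNoetherianRing
  obtain ⟨a, rfl⟩ := hq n
  obtain ⟨δ, hδ⟩ := d.tri (sesQ q) (LinearMap.shortExact_shortComplexKer hq)
  have h0 : d.DQ.map (sesQ q).g.op ≫ η d (ModuleCat.of A A) a = 0 := by
    rw [← hn]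
    exact η_nat d (sesQ q).g a
  obtain ⟨ψ, hψ⟩ : ∃ ψ : d.DQ.obj (op (ModuleCat.of A (LinearMap.ker q))) ⟶ ω⟦(0 : ℤ)⟧,
      d.DQ.map (sesQ q).f.op ≫ ψ = η d (ModuleCat.of A A) a :=
    ex_Y _ _ _ hδ _ h0
  obtain ⟨k, rfl⟩ := η_surjective d hω (LinearMap.ker q) ψ
  have e1 : d.DQ.map (sesQ q).f.op ≫ η d (ModuleCat.of A (LinearMap.ker q)) k =
      η d (ModuleCat.of A A) (k : A) := η_nat d (sesQ q).f k
  rw [e1] at hψ
  have : (k : A) = a := (η_self_bijective d hω).1 hψ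
  rw [← this]
  exact k.2

/-- `T^{-1} = 0` on cyclic modules -/
lemma subsingleton_neg_one_quot (hω : Dual.IsDualizing A ω)
    (N : Type u) [AddCommGroup N] [Module A N] (q : A →ₗ[A] N) (hq : Function.Surjective q) :
    Subsingleton (d.DQ.obj (op (ModuleCat.of A N)) ⟶ ω⟦(-1 : ℤ)⟧) := by
  have := hω.isNoetherianRing
  obtain ⟨δ, hδ⟩ := d.tri (sesQ q) (LinearMap.shortExact_shortComplexKer hq)
  have hA := subsingleton_self d hω (-1) (by norm_num)
  have h0 : ∀ t : d.DQ.obj (op (ModuleCat.of A N)) ⟶ ω⟦(-1 : ℤ)⟧, t = 0 := by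
    intro t
    have hc : conn δ ω (-1) 0 (by norm_num) t = 0 := by
      have h2 := g_conn _ _ _ hδ ω (-1) 0 (by norm_num) t
      obtain ⟨k, hk⟩ := η_surjective d hω (LinearMap.ker q)
        (conn δ ω (-1) 0 (by norm_num) t)
      rw [← hk] at h2 ⊢
      have e1 : d.DQ.map (sesQ q).f.op ≫ η d (ModuleCat.of A (LinearMap.ker q)) k =
          η d (ModuleCat.of A A) (k : A) := η_nat d (sesQ q).f k
      have e2 : η d (ModuleCat.of A A) (k : A) = η d (ModuleCat.of A A) 0 := by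
        rw [η_zero, ← e1]
        exact h2
      have e3 : (k : A) = 0 := (η_self_bijective d hω).1 e2
      have e4 : k = 0 := Subtype.ext e3
      rw [e4, η_zero]
    obtain ⟨ψ, hψ⟩ : ∃ ψ : d.DQ.obj (op (ModuleCat.of A A)) ⟶ ω⟦(-1 : ℤ)⟧,
        d.DQ.map (sesQ q).g.op ≫ ψ = t :=
      ex_X _ _ _ hδ ω (-1) 0 (by norm_num) t hc
    rw [← hψ, hA.elim ψ 0, comp_zero]
  exact ⟨fun f g => (h0 f).trans (h0 g).symm⟩

/-- `T^{-1} = 0` on finite modules -/
lemma subsingleton_neg_one (hω : Dual.IsDualizing A ω)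
    (N : Type u) [AddCommGroup N] [Module A N] [hN : Module.Finite A N] :
    Subsingleton (d.DQ.obj (op (ModuleCat.of A N)) ⟶ ω⟦(-1 : ℤ)⟧) := by
  have := hω.isNoetherianRing
  induction hN using IsNoetherianRing.induction_on_isQuotientEquivQuotientPrime A with
  | subsingleton N =>
    exact ⟨fun f g => (isZero_DQ d (ModuleCat.of A N)).eq_of_src _ _⟩
  | quotient N p e =>
    let q : A →ₗ[A] N := e.symm.toLinearMap.comp (Submodule.mkQ p.1)
    have hq : Function.Surjective q := e.symm.surjective.comp (Submodule.mkQ_surjective _)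
    exact subsingleton_neg_one_quot d hω N q hq
  | exact N₁ N₂ N₃ f g hf hg hfg h1 h3 =>
    exact subsingleton_X₂ d (sesE f g hfg) (sesE_shortExact f g hfg hf hg) _ h1 h3

/-- `η` kills only zero on finite modules -/
lemma η_eq_zero (hω : Dual.IsDualizing A ω)
    (N : Type u) [AddCommGroup N] [Module A N] [hN : Module.Finite A N] :
    ∀ n : N, η d (ModuleCat.of A N) n = 0 → n = 0 := by
  have := hω.isNoetherianRing
  induction hN using IsNoetherianRing.induction_on_isQuotientEquivQuotientPrime A with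
  | subsingleton N =>
    intro n _
    exact Subsingleton.elim _ _
  | quotient N p e =>
    let q : A →ₗ[A] N := e.symm.toLinearMap.comp (Submodule.mkQ p.1)
    have hq : Function.Surjective q := e.symm.surjective.comp (Submodule.mkQ_surjective _)
    exact η_eq_zero_quot d hω N q hq
  | exact N₁ N₂ N₃ f g hf hg hfg h1 h3 =>
    intro n₂ hn₂
    obtain ⟨δ, hδ⟩ := d.tri (sesE f g hfg) (sesE_shortExact f g hfg hf hg)
    have e3 : η d (ModuleCat.of A N₃) (g n₂) = 0 := by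
      have : d.DQ.map (sesE f g hfg).g.op ≫ η d (ModuleCat.of A N₂) n₂ =
          η d (ModuleCat.of A N₃) (g n₂) := η_nat d (sesE f g hfg).g n₂
      rw [← this, hn₂, comp_zero]
    have hg0 : g n₂ = 0 := h3 _ e3
    obtain ⟨n₁, rfl⟩ := (hfg n₂).mp hg0
    have e1 : d.DQ.map (sesE f g hfg).f.op ≫ η d (ModuleCat.of A N₁) n₁ = 0 := by
      rw [← hn₂]
      exact η_nat d (sesE f g hfg).f n₁
    obtain ⟨φ, hφ⟩ : ∃ φ : d.DQ.obj (op (ModuleCat.of A N₃)) ⟶ ω⟦(-1 : ℤ)⟧,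
        conn δ ω (-1) 0 (by norm_num) φ = η d (ModuleCat.of A N₁) n₁ :=
      ex_Z _ _ _ hδ ω (-1) 0 (by norm_num) _ e1
    have hφ0 : φ = 0 := (subsingleton_neg_one d hω N₃).elim _ _
    rw [hφ0, conn_zero] at hφ
    rw [h1 n₁ hφ.symm, map_zero]

lemma η_injective (hω : Dual.IsDualizing A ω)
    (N : Type u) [AddCommGroup N] [Module A N] [Module.Finite A N] :
    Function.Injective (η d (ModuleCat.of A N)) := by
  intro n n' h
  have : η d (ModuleCat.of A N) (n - n') = 0 := by rw [η_sub, h, sub_self]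
  exact sub_eq_zero.mp (η_eq_zero d hω N _ this)

/-- `T^i = 0` on finite modules for `i ≤ -1` -/
lemma subsingleton_neg (hω : Dual.IsDualizing A ω) (i : ℤ) (hi : i ≤ -1)
    (N : Type u) [AddCommGroup N] [Module A N] [Module.Finite A N] :
    Subsingleton (d.DQ.obj (op (ModuleCat.of A N)) ⟶ ω⟦i⟧) := by
  have key : ∀ (k : ℕ) (i : ℤ), i + k = -1 →
      ∀ (N : Type u) [AddCommGroup N] [Module A N] [Module.Finite A N],
        Subsingleton (d.DQ.obj (op (ModuleCat.of A N)) ⟶ ω⟦i⟧) := by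
    intro k
    induction k with
    | zero =>
      intro i hik N _ _ _
      obtain rfl : i = -1 := by simpa using hik
      exact subsingleton_neg_one d hω N
    | succ k ih =>
      intro i hik N _ _ _
      exact step d hω i (by omega) (fun N' _ _ _ => ih (i + 1) (by push_cast at hik; omega) N') N
  exact key (-1 - i).toNat i (by omega) N

/-- **Biduality**: for a finite module `M`, `Hom(DQ M, ω[i]) = 0` for `i ≠ 0` and
`M → Hom(DQ M, ω[0])` is bijective. -/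
theorem main (hω : Dual.IsDualizing A ω)
    (N : Type u) [AddCommGroup N] [Module A N] [Module.Finite A N] :
    (∀ i : ℤ, i ≠ 0 → Subsingleton (d.DQ.obj (op (ModuleCat.of A N)) ⟶ ω⟦i⟧)) ∧
      Function.Bijective (η d (ModuleCat.of A N)) := by
  refine ⟨fun i hi => ?_, η_injective d hω N, η_surjective d hω N⟩
  rcases lt_or_gt_of_ne hi with h | h
  · exact subsingleton_neg d hω i (by omega) N
  · exact subsingleton_pos d hω i (by omega) N

end Engine

end Groth.Agent.Lib.Seat8.Bidual
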