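import Mathlib
import Groth.Prelude.Def_DRing2
import Groth.Agent.Lib.Seat8Bidual

set_option autoImplicit false
set_option linter.unusedSectionVars false
universe u
open CategoryTheory CategoryTheory.Limits Pretriangulated Opposite

attribute [local instance] HasDerivedCategory.standard

namespace Groth.Agent.Lib.Seat8.HomDual

open DerivedCategory

variable {A : Type u} [CommRing A] (I : DRing.Cx A)

/-- the functor `M ↦ Hom_A(M, I•)` from modules to complexes -/
noncomputable def homFun : (ModuleCat.{u} A)ᵒᵖ ⥤ DRing.Cx A where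
  obj M := (((linearCoyoneda A (ModuleCat.{u} A)).obj M).mapHomologicalComplex
    (ComplexShape.up ℤ)).obj I
  map f := (NatTrans.mapHomologicalComplex ((linearCoyoneda A (ModuleCat.{u} A)).map f)
    (ComplexShape.up ℤ)).app I
  map_id M := by
    rw [CategoryTheory.Functor.map_id, NatTrans.mapHomologicalComplex_id]
    rfl
  map_comp f g := by
    rw [Functor.map_comp, NatTrans.mapHomologicalComplex_comp]
    rfl

lemma homFun_map_f_apply {M N : (ModuleCat.{u} A)ᵒᵖ} (f : M ⟶ N) (n : ℤ) (x : M.unop ⟶ I.X n) :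
    (((homFun I).map f).f n).hom x = f.unop ≫ x := rfl

instance : (homFun I).Additive where
  map_add {M N} f g := by
    ext n x
    change (f + g).unop ≫ x = f.unop ≫ x + g.unop ≫ x
    rw [unop_add, Preadditive.add_comp]

lemma homFun_map_smul_id (M : ModuleCat.{u} A) (a : A) :
    (homFun I).map (Quiver.Hom.op (a • 𝟙 M)) = a • 𝟙 _ := by
  ext n x
  change (a • 𝟙 M) ≫ x = a • x
  rw [Linear.smul_comp, Category.id_comp]
  rfl

/-- the functor `M ↦ Hom_A(M, I•)` to the derived category -/
noncomputable def DQ : (ModuleCat.{u} A)ᵒᵖ ⥤ Dual.D A := homFun I ⋙ Q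

instance : (DQ I).Additive := by
  unfold DQ
  infer_instance

lemma DQ_map_smul_id (M : ModuleCat.{u} A) (a : A) :
    (DQ I).map (Quiver.Hom.op (a • 𝟙 M)) = a • 𝟙 _ := by
  change Q.map ((homFun I).map (Quiver.Hom.op (a • 𝟙 M))) = _
  rw [homFun_map_smul_id, Functor.map_smul, CategoryTheory.Functor.map_id]
  rfl

/-- the short complex of Hom-complexes attached to a short complex of modules -/
noncomputable def sesCx (S : ShortComplex (ModuleCat.{u} A)) : ShortComplex (DRing.Cx A) :=
  ShortComplex.mk ((homFun I).map S.g.op) ((homFun I).map S.f.op) (by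
    rw [← Functor.map_comp, ← op_comp, S.zero, op_zero, Functor.map_zero])

lemma sesCx_shortExact (hI : DRing.TermwiseInjective I) (S : ShortComplex (ModuleCat.{u} A))
    (hS : S.ShortExact) : (sesCx I S).ShortExact := by
  apply HomologicalComplex.shortExact_of_degreewise_shortExact
  intro n
  have : Injective (I.X n) := Module.injective_object_of_injective_module (inj := hI n)
  have := hS.mono_f
  have := hS.epi_g
  refine { exact := ?_, mono_f := ?_, epi_g := ?_ }
  · rw [ShortComplex.moduleCat_exact_iff]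
    intro (x : S.X₂ ⟶ I.X n) hx
    have hx' : S.f ≫ x = 0 := hx
    exact ⟨hS.exact.desc x hx', hS.exact.g_desc x hx'⟩
  · rw [ModuleCat.mono_iff_injective]
    intro (x : S.X₃ ⟶ I.X n) (y : S.X₃ ⟶ I.X n) hxy
    have hxy' : S.g ≫ x = S.g ≫ y := hxy
    exact (cancel_epi S.g).mp hxy'
  · rw [ModuleCat.epi_iff_surjective]
    intro (x : S.X₁ ⟶ I.X n)
    exact ⟨Injective.factorThru x S.f, Injective.comp_factorThru x S.f⟩

lemma tri (hI : DRing.TermwiseInjective I) (S : ShortComplex (ModuleCat.{u} A))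
    (hS : S.ShortExact) :
    ∃ δ : (DQ I).obj (op S.X₁) ⟶ ((DQ I).obj (op S.X₃))⟦(1 : ℤ)⟧,
      Triangle.mk ((DQ I).map S.g.op) ((DQ I).map S.f.op) δ ∈ distTriang (Dual.D A) :=
  ⟨triangleOfSESδ (sesCx_shortExact I hI S hS),
    triangleOfSES_distinguished (sesCx_shortExact I hI S hS)⟩

/-- evaluation at `1`: `Hom_A(A, I•) ≅ I•` -/
noncomputable def evIso : (homFun I).obj (op (ModuleCat.of A A)) ≅ I :=
  HomologicalComplex.Hom.isoOfComponents
    (fun n => (ModuleCat.homLinearEquiv.trans
      (LinearMap.ringLmapEquivSelf A A (I.X n))).toModuleIso)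
    (by
      intro i j _
      ext x
      rfl)

lemma isZero_homFun_X (M : ModuleCat.{u} A) (n : ℤ) (h : IsZero (I.X n)) :
    IsZero (((homFun I).obj (op M)).X n) := by
  have : Subsingleton (M ⟶ I.X n) := ⟨fun f g => h.eq_of_tgt f g⟩
  exact ModuleCat.isZero_of_subsingleton (ModuleCat.of A (M ⟶ I.X n))

lemma isKInjective_of_bounded (a b : ℤ) (hv : DRing.VanishesOutside I a b)
    (hI : DRing.TermwiseInjective I) : I.IsKInjective := by
  have : I.IsStrictlyGE a := by
    rw [CochainComplex.isStrictlyGE_iff]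
    intro i hi
    exact hv i (Or.inl hi)
  have : ∀ n, Injective (I.X n) := fun n =>
    Module.injective_object_of_injective_module (inj := hI n)
  exact CochainComplex.isKInjective_of_injective I a

/-- `Q.map` is surjective onto morphisms into (the image of) a K-injective complex. -/
lemma Q_map_surjective_of_isKInjective (X J : DRing.Cx A)
    [J.IsKInjective] (ψ : Q.obj X ⟶ Q.obj J) : ∃ φ : X ⟶ J, Q.map φ = ψ := by
  obtain ⟨y, hy⟩ := (CochainComplex.IsKInjective.Qh_map_bijective
    ((HomotopyCategory.quotient _ _).obj X) J).2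
    ((quotientCompQhIso _).hom.app X ≫ ψ ≫ (quotientCompQhIso _).inv.app J)
  obtain ⟨φ, rfl⟩ := Functor.map_surjective _ y
  refine ⟨φ, ?_⟩
  have := quotientCompQhIso_hom_naturality φ
  rw [hy] at this
  simpa using this.symm

/-- the bound: `Hom(Q(Hom(M, I)), (Q I)[i]) = 0` for `i > b - a` -/
lemma subsingleton_hom_shift (a b : ℤ) (hv : DRing.VanishesOutside I a b)
    (hI : DRing.TermwiseInjective I) (M : ModuleCat.{u} A) (i : ℤ) (hi : b - a < i) :
    Subsingleton ((DQ I).obj (op M) ⟶ (Q.obj I)⟦i⟧) := by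
  have := isKInjective_of_bounded I a b hv hI
  have h0 : ∀ ψ : Q.obj ((homFun I).obj (op M)) ⟶ Q.obj (I⟦i⟧), ψ = 0 := by
    intro ψ
    obtain ⟨φ, rfl⟩ := Q_map_surjective_of_isKInjective _ _ ψ
    have : φ = 0 := by
      ext n : 1
      by_cases hn : n < a ∨ b < n
      · exact (isZero_homFun_X I M n (hv n hn)).eq_of_src _ _
      · have : IsZero ((I⟦i⟧).X n) := hv (n + i) (Or.inr (by omega))
        exact this.eq_of_tgt _ _
    rw [this, Functor.map_zero]
  have h1 : Subsingleton (Q.obj ((homFun I).obj (op M)) ⟶ Q.obj (I⟦i⟧)) :=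
    ⟨fun f g => (h0 f).trans (h0 g).symm⟩
  let E : (Q.obj ((homFun I).obj (op M)) ⟶ Q.obj (I⟦i⟧)) ≃
      ((DQ I).obj (op M) ⟶ (Q.obj I)⟦i⟧) :=
    Iso.homCongr (Iso.refl _) ((Q.commShiftIso i).app I)
  exact E.symm.subsingleton

/-- evaluation at `m ∈ M`, as a chain map `Hom_A(M, I•) ⟶ I•` -/
noncomputable def evAt (M : ModuleCat.{u} A) (m : M) : (homFun I).obj (op M) ⟶ I :=
  (homFun I).map (Bidual.pt M m).op ≫ (evIso I).hom

/-- the engine data attached to a bounded complex of injectives -/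
noncomputable def data (a b : ℤ) (hv : DRing.VanishesOutside I a b)
    (hI : DRing.TermwiseInjective I) {ω : Dual.D A} (e : Q.obj I ≅ ω) : Bidual.Data A ω where
  DQ := DQ I
  additive := inferInstance
  smul_id c := DQ_map_smul_id I _ c
  tri S hS := tri I hI S hS
  θ := Q.mapIso (evIso I) ≪≫ e
  bound := ⟨b - a, fun M i hi => by
    have := subsingleton_hom_shift I a b hv hI M i hi
    let E : ((DQ I).obj (op M) ⟶ (Q.obj I)⟦i⟧) ≃ ((DQ I).obj (op M) ⟶ ω⟦i⟧) :=
      Iso.homCongr (Iso.refl _) ((shiftFunctor (Dual.D A) i).mapIso e)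
    exact E.symm.subsingleton⟩

lemma η_data (a b : ℤ) (hv : DRing.VanishesOutside I a b)
    (hI : DRing.TermwiseInjective I) {ω : Dual.D A} (e : Q.obj I ≅ ω) (M : ModuleCat.{u} A)
    (m : M) :
    Bidual.η (data I a b hv hI e) M m =
      Q.map (evAt I M m) ≫ e.hom ≫ (shiftFunctorZero (Dual.D A) ℤ).inv.app ω := by
  change Q.map ((homFun I).map (Bidual.pt M m).op) ≫ (Q.map (evIso I).hom ≫ e.hom) ≫ _ = _
  rw [evAt, Functor.map_comp]
  simp only [Category.assoc]

end Groth.Agent.Lib.Seat8.HomDual
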