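import Mathlib
import Groth.Prelude.Def_DDual2
import Groth.Agent.Lib.Seat8Bass
import Groth.Agent.Lib.Seat8HomDual
import Groth.Agent.S6965

set_option autoImplicit false
set_option linter.unusedSectionVars false
universe u
open CategoryTheory CategoryTheory.Limits Pretriangulated

attribute [local instance] HasDerivedCategory.standard

namespace Groth.Agent.Lib.Seat8.NormAmp

open DerivedCategory Groth.Agent.Lib.Seat8.HomDual

variable {A : Type u} [CommRing A] [IsLocalRing A]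

/-- a normalized dualizing complex over a local ring has injective amplitude in `[a, 0]` -/
theorem exists_hasInjAmplitudeIn (ω : Dual.D A) (hω : Dual.IsDualizing A ω)
    (hn : Dual.IsNormalized A ω) : ∃ a : ℤ, DRing.HasInjAmplitudeIn A a 0 ω := by
  have := hω.isNoetherianRing
  obtain ⟨a, b, hab⟩ := hω.finite_injective_dimension
  obtain ⟨c, d, hGE, -⟩ := Groth.Agent.Lib.Seat8.DualBC.exists_isGE_of_isDualizing ω hω
  have hb := Groth.Agent.Lib.Seat8.Bass.bass ω c hGE hω.finite_cohomology 0 (by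
    intro n hnmax i hi
    obtain rfl : n = IsLocalRing.maximalIdeal A := IsLocalRing.eq_maximalIdeal hnmax
    exact hn i (by omega))
  refine ⟨a, ((Groth.Agent.S6965.result A ω a 0).out 2 0).mp ?_⟩
  intro I i hi
  rcases hi with hi | hi
  · exact hab (A ⧸ I) i (Or.inl hi)
  · exact hb I i hi

/-- **S19132**: for a normalized dualizing complex `ω` and `N ∈ D^{≥ 0}`, `Hom(N, ω[i]) = 0` for
`i > 0` -/
theorem subsingleton_hom_of_isGE (ω : Dual.D A) (hω : Dual.IsDualizing A ω)
    (hn : Dual.IsNormalized A ω) (N : Dual.D A) [N.IsGE 0] (i : ℤ) (hi : 0 < i) :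
    Subsingleton (N ⟶ ω⟦i⟧) := by
  obtain ⟨a, I, hv, hI, ⟨e⟩⟩ := exists_hasInjAmplitudeIn ω hω hn
  obtain ⟨K, hK, ⟨eN⟩⟩ := N.exists_iso_Q_obj_of_isGE 0
  have := isKInjective_of_bounded I a 0 hv hI
  have h0 : ∀ ψ : Q.obj K ⟶ Q.obj (I⟦i⟧), ψ = 0 := by
    intro ψ
    obtain ⟨φ, rfl⟩ := Q_map_surjective_of_isKInjective _ _ ψ
    have : φ = 0 := by
      apply HomologicalComplex.hom_ext
      intro n
      by_cases hn0 : n < 0
      · exact (K.isZero_of_isStrictlyGE 0 n hn0).eq_of_src _ _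
      · have : IsZero ((I⟦i⟧).X n) := hv (n + i) (Or.inr (by omega))
        exact this.eq_of_tgt _ _
    rw [this, Functor.map_zero]
  have h1 : Subsingleton (Q.obj K ⟶ Q.obj (I⟦i⟧)) := ⟨fun f g => (h0 f).trans (h0 g).symm⟩
  let E : (Q.obj K ⟶ Q.obj (I⟦i⟧)) ≃ (N ⟶ ω⟦i⟧) :=
    Iso.homCongr eN.symm ((Q.commShiftIso i).app I ≪≫ (shiftFunctor (Dual.D A) i).mapIso e)
  exact E.symm.subsingleton

end Groth.Agent.Lib.Seat8.NormAmp
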