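import Mathlib
import Groth.Prelude.Def_DDual2
import Groth.Agent.Lib.Seat8RestrictAdj
import Groth.Agent.Lib.Seat8HomDual
import Groth.Agent.Lib.Helper16KInjAdj

set_option autoImplicit false
set_option linter.unusedSectionVars false
universe u
open CategoryTheory CategoryTheory.Limits Pretriangulated Opposite

attribute [local instance] HasDerivedCategory.standard

namespace Groth.Agent.Lib.Seat8.Coext

open DerivedCategory Groth.Agent.Lib.Seat8.RestrictAdj Groth.Agent.Lib.Seat8.HomDual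
  Groth.Agent.Lib.Helper16.KInjAdj

variable {A B : Type u} [CommRing A] [CommRing B] (φ : A →+* B)

section General

/-- `(Z, ev)` corepresents the functor `X ↦ Hom_{D(A)}(X|_A, ω)` on `D(B)` -/
def IsCoext (ω : Dual.D A) (Z : Dual.D B) (ev : (DRing.restrictD φ).obj Z ⟶ ω) : Prop :=
  ∀ X : Dual.D B, Function.Bijective (fun f : X ⟶ Z => (DRing.restrictD φ).map f ≫ ev)

variable {φ}

lemma IsCoext.of_adj {R : Dual.D A ⥤ Dual.D B} (adj : DRing.restrictD φ ⊣ R) (ω : Dual.D A) :
    IsCoext φ ω (R.obj ω) (adj.counit.app ω) := by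
  intro X
  have : (fun f : X ⟶ R.obj ω => (DRing.restrictD φ).map f ≫ adj.counit.app ω) =
      (adj.homEquiv X ω).symm := by
    funext f
    rw [Adjunction.homEquiv_counit]
  rw [this]
  exact (adj.homEquiv X ω).symm.bijective

lemma IsCoext.comp_iso {ω ω' : Dual.D A} {Z : Dual.D B} {ev : (DRing.restrictD φ).obj Z ⟶ ω}
    (h : IsCoext φ ω Z ev) (e : ω ≅ ω') : IsCoext φ ω' Z (ev ≫ e.hom) := by
  intro X
  have : (fun f : X ⟶ Z => (DRing.restrictD φ).map f ≫ ev ≫ e.hom) =
      (fun g => g ≫ e.hom) ∘ (fun f : X ⟶ Z => (DRing.restrictD φ).map f ≫ ev) := by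
    funext f
    simp
  rw [this]
  exact (Iso.homCongr (Iso.refl _) e).bijective.comp (h X) |> fun hb => by
    convert hb using 2
    funext g
    simp [Iso.homCongr]

/-- uniqueness of corepresenting objects -/
lemma IsCoext.uniq {ω : Dual.D A} {Z Z' : Dual.D B} {ev : (DRing.restrictD φ).obj Z ⟶ ω}
    {ev' : (DRing.restrictD φ).obj Z' ⟶ ω} (h : IsCoext φ ω Z ev) (h' : IsCoext φ ω Z' ev') :
    ∃ α : Z ≅ Z', (DRing.restrictD φ).map α.hom ≫ ev' = ev := by
  obtain ⟨α, hα⟩ := (h' Z).2 ev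
  obtain ⟨β, hβ⟩ := (h Z').2 ev'
  dsimp only at hα hβ
  refine ⟨⟨α, β, ?_, ?_⟩, hα⟩
  · apply (h Z).1
    dsimp only
    rw [Functor.map_comp, Category.assoc, hβ, hα, CategoryTheory.Functor.map_id, Category.id_comp]
  · apply (h' Z').1
    dsimp only
    rw [Functor.map_comp, Category.assoc, hα, hβ, CategoryTheory.Functor.map_id, Category.id_comp]

/-- finiteness transfers along a corepresentation -/
theorem IsCoext.finite {ω : Dual.D A} {Z : Dual.D B} {ev : (DRing.restrictD φ).obj Z ⟶ ω}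
    (h : IsCoext φ ω Z ev) (X : Dual.D B)
    (hfin : Module.Finite A ((DRing.restrictD φ).obj X ⟶ ω)) : Module.Finite B (X ⟶ Z) := by
  classical
  obtain ⟨s, hs⟩ := hfin.fg_top
  let F : (X ⟶ Z) → ((DRing.restrictD φ).obj X ⟶ ω) := fun f => (DRing.restrictD φ).map f ≫ ev
  have hF : Function.Bijective F := h X
  let G := (Equiv.ofBijective F hF).symm
  have hFG : ∀ g, F (G g) = g := (Equiv.ofBijective F hF).apply_symm_apply
  have hF_add : ∀ f f', F (f + f') = F f + F f' := fun f f' => by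
    simp only [F, Functor.map_add, Preadditive.add_comp]
  have hF_smul : ∀ (a : A) f, F (φ a • f) = a • F f := fun a f => by
    have h1 : φ a • f = (φ a • 𝟙 X) ≫ f := by rw [Linear.smul_comp, Category.id_comp]
    simp only [F]
    rw [h1, Functor.map_comp, restrictD_map_smul_id, Linear.smul_comp, Category.id_comp,
      Linear.smul_comp]
  refine ⟨⟨s.image G, ?_⟩⟩
  rw [eq_top_iff]
  rintro f -
  obtain ⟨g, rfl⟩ : ∃ g, G g = f := ⟨F f, (Equiv.ofBijective F hF).symm_apply_apply f⟩
  have hg : g ∈ Submodule.span A (s : Set ((DRing.restrictD φ).obj X ⟶ ω)) := by rw [hs]; trivial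
  induction hg using Submodule.span_induction with
  | mem x hx =>
    refine Submodule.subset_span ?_
    rw [Finset.coe_image]
    exact ⟨x, hx, rfl⟩
  | zero =>
    have : G 0 = 0 := by
      apply hF.1
      rw [hFG]
      simp [F]
    rw [this]; exact Submodule.zero_mem _
  | add x y _ _ hx hy =>
    have : G (x + y) = G x + G y := by
      apply hF.1
      rw [hFG, hF_add, hFG, hFG]
    rw [this]; exact Submodule.add_mem _ hx hy
  | smul a x _ hx =>
    have : G (a • x) = φ a • G x := by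
      apply hF.1
      rw [hFG, hF_smul, hFG]
    rw [this]; exact Submodule.smul_mem _ _ hx

end General

section Concrete

/-- the adjunction restriction ⊣ coextension -/
noncomputable abbrev rcAdj : ModuleCat.restrictScalars.{u} φ ⊣ ModuleCat.coextendScalars.{u, u, u} φ :=
  ModuleCat.restrictCoextendScalarsAdj.{u, u, u} φ

instance : (ModuleCat.coextendScalars.{u, u, u} φ).Additive :=
  (rcAdj φ).right_adjoint_additive

/-- termwise coextension of scalars of a complex -/
noncomputable abbrev coextCx (I : DRing.Cx A) : DRing.Cx B :=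
  ((ModuleCat.coextendScalars.{u, u, u} φ).mapHomologicalComplex (ComplexShape.up ℤ)).obj I

/-- the object `Q(Hom_A(B, I•))` of `D(B)` -/
noncomputable abbrev Z₀ (I : DRing.Cx A) : Dual.D B := Q.obj (coextCx φ I)

/-- evaluation at one, as a chain map -/
noncomputable def counitCx (I : DRing.Cx A) : (resCx φ).obj (coextCx φ I) ⟶ I :=
  flat (rcAdj φ) (𝟙 (coextCx φ I))

/-- the evaluation map `Z₀|_A ⟶ Q(I)` -/
noncomputable def ev₀ (I : DRing.Cx A) : (DRing.restrictD φ).obj (Z₀ φ I) ⟶ Q.obj I :=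
  (resQIso φ (coextCx φ I)).hom ≫ Q.map (counitCx φ I)

/-- the transpose of a chain map `K|_A ⟶ I` -/
noncomputable def sharp {K : DRing.Cx B} {I : DRing.Cx A} (g : (resCx φ).obj K ⟶ I) :
    K ⟶ coextCx φ I :=
  unitCx (rcAdj φ) K ≫
    ((ModuleCat.coextendScalars.{u, u, u} φ).mapHomologicalComplex (ComplexShape.up ℤ)).map g

lemma flat_sharp_aux {Y : ModuleCat.{u} B} {X : ModuleCat.{u} A}
    (g : (ModuleCat.restrictScalars.{u} φ).obj Y ⟶ X) :
    (ModuleCat.restrictScalars.{u} φ).map ((rcAdj φ).unit.app Y ≫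
      (ModuleCat.coextendScalars.{u, u, u} φ).map g) ≫ (rcAdj φ).counit.app X = g := by
  have h1 : (rcAdj φ).unit.app Y ≫ (ModuleCat.coextendScalars.{u, u, u} φ).map g =
      (rcAdj φ).homEquiv Y X g := ((rcAdj φ).homEquiv_unit Y X g).symm
  have h2 : (ModuleCat.restrictScalars.{u} φ).map ((rcAdj φ).homEquiv Y X g) ≫
      (rcAdj φ).counit.app X = ((rcAdj φ).homEquiv Y X).symm ((rcAdj φ).homEquiv Y X g) :=
    ((rcAdj φ).homEquiv_counit Y X _).symm
  rw [h1, h2, Equiv.symm_apply_apply]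

lemma flat_sharp {K : DRing.Cx B} {I : DRing.Cx A} (g : (resCx φ).obj K ⟶ I) :
    flat (rcAdj φ) (sharp φ g) = g := by
  ext n : 1
  exact flat_sharp_aux φ (Y := K.X n) (X := I.X n) (g.f n)

lemma flat_eq {K : DRing.Cx B} {I : DRing.Cx A} (f : K ⟶ coextCx φ I) :
    flat (rcAdj φ) f = (resCx φ).map f ≫ counitCx φ I := by
  ext n : 1
  change (ModuleCat.restrictScalars.{u} φ).map (f.f n) ≫ (rcAdj φ).counit.app (I.X n) =
    (ModuleCat.restrictScalars.{u} φ).map (f.f n) ≫
      ((ModuleCat.restrictScalars.{u} φ).map (𝟙 _) ≫ (rcAdj φ).counit.app (I.X n))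
  rw [CategoryTheory.Functor.map_id, Category.id_comp]

lemma restrictD_map_Q_map_comp_ev₀ {K : DRing.Cx B} {I : DRing.Cx A} (f : K ⟶ coextCx φ I) :
    (DRing.restrictD φ).map (Q.map f) ≫ ev₀ φ I =
      (resQIso φ K).hom ≫ Q.map (flat (rcAdj φ) f) := by
  rw [ev₀, restrictD_map_Q_map, flat_eq, Functor.map_comp]
  simp only [Category.assoc, Iso.inv_hom_id_assoc]

lemma homotopy_of_Q_map_eq_of_isKInjective (X J : DRing.Cx A) [J.IsKInjective] (f g : X ⟶ J)
    (h : Q.map f = Q.map g) : Nonempty (Homotopy f g) := by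
  have h2 : (HomotopyCategory.quotient (ModuleCat.{u} A) (ComplexShape.up ℤ)).map f =
      (HomotopyCategory.quotient (ModuleCat.{u} A) (ComplexShape.up ℤ)).map g := by
    apply (CochainComplex.IsKInjective.Qh_map_bijective _ _).1
    exact h
  exact ⟨HomotopyCategory.homotopyOfEq _ _ h2⟩

instance isKInjective_coextCx (I : DRing.Cx A) [I.IsKInjective] : (coextCx φ I).IsKInjective :=
  isKInjective_map (rcAdj φ) I

/-- the key universal property: `(Z₀, ev₀)` corepresents `X ↦ Hom(X|_A, Q I)` -/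
theorem isCoext_Z₀ (I : DRing.Cx A) [I.IsKInjective] :
    IsCoext φ (Q.obj I) (Z₀ φ I) (ev₀ φ I) := by
  intro X
  obtain ⟨K, ⟨e⟩⟩ : ∃ K : DRing.Cx B, Nonempty (Q.obj K ≅ X) := ⟨_, ⟨Q.objObjPreimageIso X⟩⟩
  -- the case `X = Q K`
  have key : Function.Bijective
      (fun f : Q.obj K ⟶ Z₀ φ I => (DRing.restrictD φ).map f ≫ ev₀ φ I) := by
    constructor
    · intro f f' hff'
      dsimp only at hff'
      obtain ⟨f₁, rfl⟩ := Q_map_surjective_of_isKInjective (A := B) K (coextCx φ I) f
      obtain ⟨f₂, rfl⟩ := Q_map_surjective_of_isKInjective (A := B) K (coextCx φ I) f'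
      rw [restrictD_map_Q_map_comp_ev₀, restrictD_map_Q_map_comp_ev₀, cancel_epi] at hff'
      obtain ⟨h⟩ := homotopy_of_Q_map_eq_of_isKInjective _ _ _ _ hff'
      have h1 : Homotopy f₁ f₂ :=
        (Homotopy.ofEq (unit_flat (rcAdj φ) f₁).symm).trans
          ((((ModuleCat.coextendScalars.{u, u, u} φ).mapHomotopy h).compLeft
            (unitCx (rcAdj φ) K)).trans (Homotopy.ofEq (unit_flat (rcAdj φ) f₂)))
      exact Groth.Agent.Lib.Seat8.HomSingle.Q_map_eq_of_homotopy h1
    · intro ψ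
      obtain ⟨g, hg⟩ := Q_map_surjective_of_isKInjective ((resCx φ).obj K) I
        ((resQIso φ K).inv ≫ ψ)
      refine ⟨Q.map (sharp φ g), ?_⟩
      dsimp only
      rw [restrictD_map_Q_map_comp_ev₀, flat_sharp, hg, Iso.hom_inv_id_assoc]
  have h2 : (fun f : X ⟶ Z₀ φ I => (DRing.restrictD φ).map f ≫ ev₀ φ I) =
      (fun g => (DRing.restrictD φ).map e.inv ≫ g) ∘
        (fun f : Q.obj K ⟶ Z₀ φ I => (DRing.restrictD φ).map f ≫ ev₀ φ I) ∘
          (fun f : X ⟶ Z₀ φ I => e.hom ≫ f) := by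
    funext f
    simp only [Function.comp_apply, Functor.map_comp, Category.assoc]
    rw [← Category.assoc, ← Functor.map_comp, Iso.inv_hom_id, CategoryTheory.Functor.map_id,
      Category.id_comp]
  rw [h2]
  refine Function.Bijective.comp ?_ (Function.Bijective.comp key ?_)
  · exact (Iso.homCongr ((DRing.restrictD φ).mapIso e) (Iso.refl (Q.obj I))).bijective |>
      fun hb => by
        convert hb using 2
        simp [Iso.homCongr]
  · exact (Iso.homCongr e.symm (Iso.refl (Z₀ φ I))).bijective |> fun hb => by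
      convert hb using 2
      simp [Iso.homCongr]

end Concrete

end Groth.Agent.Lib.Seat8.Coext
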