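import Mathlib
import Groth.Prelude.Def_DDual2
import Groth.Agent.Lib.Seat8Coext

set_option autoImplicit false
set_option linter.unusedSectionVars false
universe u
open CategoryTheory CategoryTheory.Limits Pretriangulated Opposite

attribute [local instance] HasDerivedCategory.standard

namespace Groth.Agent.Lib.Seat8.CoextShift

open DerivedCategory Groth.Agent.Lib.Seat8.RestrictAdj Groth.Agent.Lib.Seat8.Coext

section Shift

variable (R : Type*) [Ring R] {C : Type*} [Category C] [Preadditive C] [Linear R C] [HasShift C ℤ]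
  [∀ n : ℤ, (shiftFunctor C n).Additive] [∀ n : ℤ, (shiftFunctor C n).Linear R]

/-- `(X⟦-i⟧ ⟶ Y) ≃ₗ[R] (X ⟶ Y⟦i⟧)` -/
noncomputable def shiftNegLinearEquiv (X Y : C) (i : ℤ) : (X⟦-i⟧ ⟶ Y) ≃ₗ[R] (X ⟶ Y⟦i⟧) where
  toFun f := (shiftEquiv C i).symm.toAdjunction.homEquiv X Y f
  invFun g := ((shiftEquiv C i).symm.toAdjunction.homEquiv X Y).symm g
  left_inv f := Equiv.symm_apply_apply _ f
  right_inv g := Equiv.apply_symm_apply _ g
  map_add' f g := by
    simp only [Adjunction.homEquiv_unit]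
    change _ ≫ (shiftFunctor C i).map (f + g) = _ ≫ (shiftFunctor C i).map f +
      _ ≫ (shiftFunctor C i).map g
    rw [Functor.map_add, Preadditive.comp_add]
  map_smul' a f := by
    simp only [Adjunction.homEquiv_unit, RingHom.id_apply]
    change _ ≫ (shiftFunctor C i).map (a • f) = a • (_ ≫ (shiftFunctor C i).map f)
    rw [Functor.map_smul, Linear.comp_smul]

end Shift

section Coext

variable {A B : Type u} [CommRing A] [CommRing B] {φ : A →+* B}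

/-- the (semilinear, additive) shifted form of a corepresentation:
`Hom_B(X, Z[i]) ≃ Hom_A(X|_A, ω[i])` -/
theorem IsCoext.exists_shift_equiv {ω : Dual.D A} {Z : Dual.D B}
    {ev : (DRing.restrictD φ).obj Z ⟶ ω} (h : IsCoext φ ω Z ev) (X : Dual.D B) (i : ℤ) :
    ∃ E : (X ⟶ Z⟦i⟧) ≃+ ((DRing.restrictD φ).obj X ⟶ ω⟦i⟧),
      ∀ (a : A) (f : X ⟶ Z⟦i⟧), E (φ a • f) = a • E f := by
  let E1 : (X ⟶ Z⟦i⟧) ≃ₗ[B] (X⟦-i⟧ ⟶ Z) := (shiftNegLinearEquiv B X Z i).symm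
  let F : (X⟦-i⟧ ⟶ Z) → ((DRing.restrictD φ).obj (X⟦-i⟧) ⟶ ω) :=
    fun f => (DRing.restrictD φ).map f ≫ ev
  have hF : Function.Bijective F := h (X⟦-i⟧)
  have hF_add : ∀ f f', F (f + f') = F f + F f' := fun f f' => by
    simp only [F, Functor.map_add, Preadditive.add_comp]
  have hF_smul : ∀ (a : A) f, F (φ a • f) = a • F f := fun a f => by
    have h1 : φ a • f = (φ a • 𝟙 (X⟦-i⟧)) ≫ f := by rw [Linear.smul_comp, Category.id_comp]
    simp only [F]
    rw [h1, Functor.map_comp, restrictD_map_smul_id, Linear.smul_comp, Category.id_comp,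
      Linear.smul_comp]
  let E2 : (X⟦-i⟧ ⟶ Z) ≃+ ((DRing.restrictD φ).obj (X⟦-i⟧) ⟶ ω) :=
    AddEquiv.ofBijective (AddMonoidHom.mk' F hF_add) hF
  let c : (DRing.restrictD φ).obj (X⟦-i⟧) ≅ ((DRing.restrictD φ).obj X)⟦-i⟧ :=
    ((DRing.restrictD φ).commShiftIso (-i)).app X
  let E3 : ((DRing.restrictD φ).obj (X⟦-i⟧) ⟶ ω) ≃ₗ[A] (((DRing.restrictD φ).obj X)⟦-i⟧ ⟶ ω) :=
    Linear.homCongr A c (Iso.refl ω)
  let E4 : (((DRing.restrictD φ).obj X)⟦-i⟧ ⟶ ω) ≃ₗ[A] ((DRing.restrictD φ).obj X ⟶ ω⟦i⟧) :=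
    shiftNegLinearEquiv A ((DRing.restrictD φ).obj X) ω i
  refine ⟨E1.toAddEquiv.trans (E2.trans (E3.toAddEquiv.trans E4.toAddEquiv)), ?_⟩
  intro a f
  change E4 (E3 (F (E1 (φ a • f)))) = a • E4 (E3 (F (E1 f)))
  rw [map_smul, hF_smul, map_smul, map_smul]

end Coext

end Groth.Agent.Lib.Seat8.CoextShift
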