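import Mathlib
import Groth.Prelude.Def_DDual2
import Groth.Agent.Lib.Seat8Coext
import Groth.Agent.Lib.Seat8DualBC
import Groth.Agent.Lib.Seat8HomFinite
import Groth.Agent.S6965

set_option autoImplicit false
set_option linter.unusedSectionVars false
universe u
open CategoryTheory CategoryTheory.Limits Pretriangulated Opposite

attribute [local instance] HasDerivedCategory.standard

namespace Groth.Agent.Lib.Seat8.DualFinite

open DerivedCategory Groth.Agent.Lib.Seat8.RestrictAdj Groth.Agent.Lib.Seat8.HomDual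
  Groth.Agent.Lib.Seat8.Coext Groth.Agent.Lib.Seat8.Bidual

variable {A B : Type u} [CommRing A] [CommRing B] [Algebra A B]

/-- `B` as an `A`-module via restriction of scalars -/
noncomputable abbrev MB (A B : Type u) [CommRing A] [CommRing B] [Algebra A B] : ModuleCat.{u} A :=
  (ModuleCat.restrictScalars.{u} (algebraMap A B)).obj (ModuleCat.of B B)

/-- componentwise identification `Hom_A(B, E)|_A ≃ Hom_A(B_A, E)` -/
noncomputable def ιL (E : ModuleCat.{u} A) :
    ((ModuleCat.restrictScalars.{u} (algebraMap A B)).obj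
      ((ModuleCat.coextendScalars.{u, u, u} (algebraMap A B)).obj E)) ≃ₗ[A] (MB A B ⟶ E) where
  toFun := fun g => ModuleCat.ofHom (X := MB A B) (Y := E)
    (ModuleCat.CoextendScalars.equiv (algebraMap A B) E g)
  map_add' := fun g g' => rfl
  map_smul' := fun a g => by
    apply ModuleCat.hom_ext
    apply LinearMap.ext
    intro (s : B)
    change ModuleCat.CoextendScalars.equiv (algebraMap A B) E g (s * algebraMap A B a) =
      a • ModuleCat.CoextendScalars.equiv (algebraMap A B) E g s
    rw [← map_smul]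
    congr 1
    change s * algebraMap A B a = algebraMap A B a * s
    exact mul_comm _ _
  invFun := fun f => (ModuleCat.CoextendScalars.equiv (algebraMap A B) E).symm f.hom
  left_inv := fun g => rfl
  right_inv := fun f => rfl

/-- componentwise identification `Hom_A(B, E)|_A ≅ Hom_A(B_A, E)` -/
noncomputable def ιX (E : ModuleCat.{u} A) :
    (ModuleCat.restrictScalars.{u} (algebraMap A B)).obj
      ((ModuleCat.coextendScalars.{u, u, u} (algebraMap A B)).obj E) ≅
      ModuleCat.of A (MB A B ⟶ E) :=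
  (ιL E).toModuleIso

variable (I : DRing.Cx A)

/-- `Hom_A(B, I•)|_A ≅ Hom_A(B_A, I•)` as complexes of `A`-modules -/
noncomputable def ι :
    (resCx (algebraMap A B)).obj (coextCx (algebraMap A B) I) ≅ (homFun I).obj (op (MB A B)) :=
  HomologicalComplex.Hom.isoOfComponents (fun n => ιX (A := A) (B := B) (I.X n))
    (by
      intro i j _
      ext g
      rfl)

lemma key_chain (b : B) :
    (resCx (algebraMap A B)).map (b • 𝟙 (coextCx (algebraMap A B) I)) ≫ counitCx (algebraMap A B) I =
      (ι (B := B) I).hom ≫ evAt I (MB A B) b := by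
  ext n g
  change ModuleCat.CoextendScalars.equiv (algebraMap A B) (I.X n) g ((1 : B) * b) =
    ModuleCat.CoextendScalars.equiv (algebraMap A B) (I.X n) g
      ((1 : A) • (show MB A B from b))
  rw [one_mul, one_smul]

instance finite_MB [Module.Finite A B] : Module.Finite A (MB A B) := by
  let l : B →ₗ[A] (MB A B) :=
    { toFun := fun b => b
      map_add' := fun _ _ => rfl
      map_smul' := fun c b => by
        show c • b = algebraMap A B c * b
        rw [Algebra.smul_def] }
  exact Module.Finite.of_surjective l (fun b => ⟨b, rfl⟩)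

/-- `Z₀|_A ≅ Q(Hom_A(B_A, I•))` -/
noncomputable def α : (DRing.restrictD (algebraMap A B)).obj (Z₀ (algebraMap A B) I) ≅
    (DQ I).obj (op (MB A B)) :=
  resQIso (algebraMap A B) (coextCx (algebraMap A B) I) ≪≫ Q.mapIso (ι (B := B) I)

lemma key_derived (b : B) :
    (DRing.restrictD (algebraMap A B)).map (b • 𝟙 (Z₀ (algebraMap A B) I)) ≫ ev₀ (algebraMap A B) I =
      (α (B := B) I).hom ≫ Q.map (evAt I (MB A B) b) := by
  have h1 : b • 𝟙 (Z₀ (algebraMap A B) I) = Q.map (b • 𝟙 (coextCx (algebraMap A B) I)) := by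
    rw [Functor.map_smul, CategoryTheory.Functor.map_id]
  rw [h1, ev₀, restrictD_map_Q_map]
  simp only [Category.assoc, Iso.inv_hom_id_assoc]
  rw [← Functor.map_comp, key_chain, Functor.map_comp]
  simp only [α, Iso.trans_hom, Functor.mapIso_hom, Category.assoc]
  rfl

lemma subsingleton_shift_neg_iff {C : Type*} [Category C] [HasShift C ℤ] (X Y : C) (i : ℤ) :
    Subsingleton (X⟦-i⟧ ⟶ Y) ↔ Subsingleton (X ⟶ Y⟦i⟧) :=
  ((shiftEquiv C i).symm.toAdjunction.homEquiv X Y).subsingleton_congr

section Main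

variable (a b : ℤ) (hv : DRing.VanishesOutside I a b) (hI : DRing.TermwiseInjective I)
  (hω : Dual.IsDualizing A (Q.obj I)) [Module.Finite A B]

include hv hI hω

lemma toEnd_bijective_Z₀ :
    Function.Bijective (fun c : B => c • 𝟙 (Z₀ (algebraMap A B) I)) := by
  have := isKInjective_of_bounded I a b hv hI
  have hF := isCoext_Z₀ (algebraMap A B) I (Z₀ (algebraMap A B) I)
  rw [← Function.Bijective.of_comp_iff' hF]
  have hη := (Bidual.main (data I a b hv hI (Iso.refl _)) hω (MB A B)).2
  let E : ((DQ I).obj (op (MB A B)) ⟶ (Q.obj I)⟦(0 : ℤ)⟧) ≃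
      ((DRing.restrictD (algebraMap A B)).obj (Z₀ (algebraMap A B) I) ⟶ Q.obj I) :=
    Iso.homCongr (α (B := B) I).symm ((shiftFunctorZero (Dual.D A) ℤ).app (Q.obj I))
  have : ((fun f : Z₀ (algebraMap A B) I ⟶ Z₀ (algebraMap A B) I =>
      (DRing.restrictD (algebraMap A B)).map f ≫ ev₀ (algebraMap A B) I) ∘
        (fun c : B => c • 𝟙 (Z₀ (algebraMap A B) I))) =
      E ∘ Bidual.η (data I a b hv hI (Iso.refl _)) (MB A B) := by
    funext c
    simp only [Function.comp_apply]
    rw [key_derived, η_data]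
    simp only [E, Iso.homCongr, Iso.symm_inv, Iso.refl_hom, Category.id_comp, Iso.app_hom,
      Equiv.coe_fn_mk]
    congr 1
    have h0 : (shiftFunctorZero (Dual.D A) ℤ).inv.app (Q.obj I) ≫
        (shiftFunctorZero (Dual.D A) ℤ).hom.app (Q.obj I) = 𝟙 _ :=
      (shiftFunctorZero (Dual.D A) ℤ).inv_hom_id_app (Q.obj I)
    exact ((Category.assoc _ _ _).trans ((congrArg _ h0).trans (Category.comp_id _))).symm
  rw [this]
  exact E.bijective.comp hη

lemma ext_self_subsingleton_Z₀ (i : ℤ) (hi : i ≠ 0) :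
    Subsingleton (Z₀ (algebraMap A B) I ⟶ (Z₀ (algebraMap A B) I)⟦i⟧) := by
  have := isKInjective_of_bounded I a b hv hI
  have hF := isCoext_Z₀ (algebraMap A B) I ((Z₀ (algebraMap A B) I)⟦-i⟧)
  have h5 : Subsingleton ((DQ I).obj (op (MB A B)) ⟶ (Q.obj I)⟦i⟧) :=
    (Bidual.main (data I a b hv hI (Iso.refl _)) hω (MB A B)).1 i hi
  have h4 : Subsingleton ((DRing.restrictD (algebraMap A B)).obj (Z₀ (algebraMap A B) I) ⟶
      (Q.obj I)⟦i⟧) :=
    (Iso.homCongr (α (B := B) I) (Iso.refl _)).subsingleton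
  have h3 : Subsingleton ((DRing.restrictD (algebraMap A B) ⋙ shiftFunctor (Dual.D A) (-i)).obj
      (Z₀ (algebraMap A B) I) ⟶ Q.obj I) := (subsingleton_shift_neg_iff _ _ i).mpr h4
  have h2 : Subsingleton ((DRing.restrictD (algebraMap A B)).obj ((Z₀ (algebraMap A B) I)⟦-i⟧) ⟶
      Q.obj I) :=
    (Iso.homCongr (((DRing.restrictD (algebraMap A B)).commShiftIso (-i)).app
      (Z₀ (algebraMap A B) I)) (Iso.refl _)).subsingleton
  have h1 : Subsingleton ((Z₀ (algebraMap A B) I)⟦-i⟧ ⟶ Z₀ (algebraMap A B) I) :=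
    ⟨fun f g => hF.1 (h2.elim _ _)⟩
  exact (subsingleton_shift_neg_iff _ _ i).mp h1

omit hω [Module.Finite A B] in
lemma hasInjAmplitudeIn_Z₀ : DRing.HasInjAmplitudeIn B a b (Z₀ (algebraMap A B) I) := by
  refine ⟨coextCx (algebraMap A B) I, ?_, ?_, ⟨Iso.refl _⟩⟩
  · intro n hn
    exact (ModuleCat.coextendScalars.{u, u, u} (algebraMap A B)).map_isZero (hv n hn)
  · intro n
    have : Injective (I.X n) := Module.injective_object_of_injective_module (inj := hI n)
    have : Injective ((ModuleCat.coextendScalars.{u, u, u} (algebraMap A B)).obj (I.X n)) :=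
      Injective.injective_of_adjoint (rcAdj (algebraMap A B)) (I.X n)
    exact Module.injective_module_of_injective_object B
      ((ModuleCat.coextendScalars.{u, u, u} (algebraMap A B)).obj (I.X n))

lemma finite_cohomology_Z₀ (i : ℤ) :
    Module.Finite B (Dual.HD B (Z₀ (algebraMap A B) I) i) := by
  open Groth.Agent.Lib.Seat8.HomSingle Groth.Agent.Lib.Seat8.HomFinite in
  have := hω.isNoetherianRing
  have := isKInjective_of_bounded I a b hv hI
  suffices h : Module.Finite B (dSg B i ⟶ Z₀ (algebraMap A B) I) from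
    Module.Finite.equiv (evEquiv (R := B) i (Z₀ (algebraMap A B) I))
  refine (isCoext_Z₀ (algebraMap A B) I).finite (dSg B i) ?_
  let e : (DRing.restrictD (algebraMap A B)).obj (dSg B i) ≅
      (DerivedCategory.singleFunctor (ModuleCat.{u} A) i).obj (MB A B) :=
    ((ModuleCat.restrictScalars.{u} (algebraMap A B)).mapDerivedCategorySingleFunctor i).app
      (ModuleCat.of B B)
  obtain ⟨a', b', hGE, -⟩ := Groth.Agent.Lib.Seat8.DualBC.exists_isGE_of_isDualizing _ hω
  have h1 : Module.Finite A ((DerivedCategory.singleFunctor (ModuleCat.{u} A) i).obj (MB A B) ⟶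
      Q.obj I) :=
    finite_hom_single_of_boundedBelow _ i (Q.obj I) a'
      (fun j hj => DerivedCategory.isZero_of_isGE _ a' j hj) hω.finite_cohomology
  exact Module.Finite.of_surjective (Linear.leftComp A (Q.obj I) e.hom) (fun f => ⟨e.inv ≫ f, by
      show e.hom ≫ e.inv ≫ f = f
      rw [Iso.hom_inv_id_assoc]⟩)

/-- **Main theorem**: `Q(Hom_A(B, I•))` is a dualizing complex for `B` -/
theorem isDualizing_Z₀ [IsNoetherianRing B] : Dual.IsDualizing B (Z₀ (algebraMap A B) I) := by
  refine ⟨inferInstance, ⟨a, b, ?_⟩, finite_cohomology_Z₀ I a b hv hI hω,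
    toEnd_bijective_Z₀ I a b hv hI hω, ext_self_subsingleton_Z₀ I a b hv hI hω⟩
  intro M _ _ i hi
  have h12 := ((Groth.Agent.S6965.result B (Z₀ (algebraMap A B) I) a b).out 0 1).mp
    (hasInjAmplitudeIn_Z₀ I a b hv hI)
  exact h12 M i hi

end Main

section Final

variable [Module.Finite A B] [IsNoetherianRing B]

/-- a bounded injective model of a dualizing complex -/
lemma exists_model (ω : Dual.D A) (hω : Dual.IsDualizing A ω) :
    ∃ (I : DRing.Cx A) (a b : ℤ), DRing.VanishesOutside I a b ∧ DRing.TermwiseInjective I ∧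
      Nonempty (Q.obj I ≅ ω) := by
  obtain ⟨a, b, hab⟩ := hω.finite_injective_dimension
  have hamp : DRing.HasInjAmplitudeIn A a b ω :=
    ((Groth.Agent.S6965.result A ω a b).out 0 1).mpr (by
      intro N _ _ i hi
      exact hab N i hi)
  obtain ⟨I, hv, hI, ⟨e⟩⟩ := hamp
  exact ⟨I, a, b, hv, hI, ⟨e⟩⟩

/-- for a dualizing complex `ω` over `A` and a finite `A`-algebra `B`, the functor
`X ↦ Hom(X|_A, ω)` on `D(B)` is corepresentable -/
theorem exists_isCoext (ω : Dual.D A) (hω : Dual.IsDualizing A ω) :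
    ∃ (Z : Dual.D B) (ev : (DRing.restrictD (algebraMap A B)).obj Z ⟶ ω),
      IsCoext (algebraMap A B) ω Z ev := by
  obtain ⟨I, a, b, hv, hI, ⟨e⟩⟩ := exists_model ω hω
  have := isKInjective_of_bounded I a b hv hI
  exact ⟨Z₀ (algebraMap A B) I, ev₀ (algebraMap A B) I ≫ e.hom,
    (isCoext_Z₀ (algebraMap A B) I).comp_iso e⟩

/-- **Theorem**: if `(Z, ev)` corepresents `X ↦ Hom(X|_A, ω)` on `D(B)`, `ω` dualizing for `A`,
`A → B` finite, then `Z` is a dualizing complex for `B`. -/
theorem isDualizing_of_isCoext (ω : Dual.D A) (hω : Dual.IsDualizing A ω) (Z : Dual.D B)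
    (ev : (DRing.restrictD (algebraMap A B)).obj Z ⟶ ω)
    (h : IsCoext (algebraMap A B) ω Z ev) : Dual.IsDualizing B Z := by
  obtain ⟨I, a, b, hv, hI, ⟨e⟩⟩ := exists_model ω hω
  have hω' : Dual.IsDualizing A (Q.obj I) :=
    Groth.Agent.Lib.Seat8.DualBC.isDualizing_of_iso e.symm hω
  have hZ₀ := isDualizing_Z₀ (B := B) I a b hv hI hω'
  have := isKInjective_of_bounded I a b hv hI
  have h0 : IsCoext (algebraMap A B) ω (Z₀ (algebraMap A B) I) (ev₀ (algebraMap A B) I ≫ e.hom) :=
    (isCoext_Z₀ (algebraMap A B) I).comp_iso e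
  obtain ⟨β, -⟩ := h0.uniq h
  exact Groth.Agent.Lib.Seat8.DualBC.isDualizing_of_iso β hZ₀

end Final

end Groth.Agent.Lib.Seat8.DualFinite
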