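import Mathlib
import Groth.Prelude.Def_DDual2
import Groth.Agent.Lib.Seat8CoextShift
import Groth.Agent.Lib.Seat8DualFinite
import Groth.Agent.Lib.Helper1Restrict

set_option autoImplicit false
set_option linter.unusedSectionVars false
universe u
open CategoryTheory CategoryTheory.Limits Pretriangulated Opposite

attribute [local instance] HasDerivedCategory.standard

namespace Groth.Agent.Lib.Seat8.Normalized

open DerivedCategory Groth.Agent.Lib.Seat8.RestrictAdj Groth.Agent.Lib.Seat8.Coext
  Groth.Agent.Lib.Seat8.CoextShift Groth.Agent.Lib.Seat8.Bidual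

section Killed

variable {A : Type u} [CommRing A] [IsLocalRing A] [IsNoetherianRing A]

/-- if `Hom(κ, ω[i]) = 0` then `Hom(N, ω[i]) = 0` for every finite module `N` killed by the
maximal ideal -/
theorem subsingleton_of_killed (ω : Dual.D A) (i : ℤ)
    (h : Subsingleton (Dual.inD A (IsLocalRing.ResidueField A) ⟶ ω⟦i⟧))
    (N : Type u) [AddCommGroup N] [Module A N] [hN : Module.Finite A N]
    (hk : ∀ a ∈ IsLocalRing.maximalIdeal A, ∀ x : N, a • x = 0) :
    Subsingleton (Dual.inD A N ⟶ ω⟦i⟧) := by
  induction hN using IsNoetherianRing.induction_on_isQuotientEquivQuotientPrime A with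
  | subsingleton N =>
    have hz : IsZero (Dual.inD A N) :=
      (DerivedCategory.singleFunctor (ModuleCat.{u} A) 0).map_isZero
        (ModuleCat.isZero_of_subsingleton (ModuleCat.of A N))
    exact ⟨fun f g => hz.eq_of_src _ _⟩
  | quotient N p e =>
    have hle : IsLocalRing.maximalIdeal A ≤ p.1 := by
      intro a ha
      have h1 : a • e.symm (1 : A ⧸ p.1) = 0 := hk a ha _
      have h2 : e (a • e.symm (1 : A ⧸ p.1)) = 0 := by rw [h1, map_zero]
      rw [map_smul, LinearEquiv.apply_symm_apply] at h2
      have h3 : (Ideal.Quotient.mk p.1 a) = 0 := by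
        rw [← h2]
        change _ = a • (Ideal.Quotient.mk p.1 1)
        rw [← Ideal.Quotient.mk_eq_mk, Algebra.smul_def]
        simp
      exact Ideal.Quotient.eq_zero_iff_mem.mp h3
    have hp : p.1 = IsLocalRing.maximalIdeal A :=
      ((IsLocalRing.maximalIdeal.isMaximal A).eq_of_le p.2.ne_top hle).symm
    let e' : N ≃ₗ[A] IsLocalRing.ResidueField A :=
      e.trans (Submodule.quotEquivOfEq _ _ hp)
    let e'' : Dual.inD A N ≅ Dual.inD A (IsLocalRing.ResidueField A) :=
      (DerivedCategory.singleFunctor (ModuleCat.{u} A) 0).mapIso e'.toModuleIso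
    exact (Iso.homCongr e'' (Iso.refl (ω⟦i⟧))).subsingleton
  | exact N₁ N₂ N₃ f g hf hg hfg h1 h3 =>
    have hS := sesE_shortExact f g hfg hf hg
    have hT := hS.singleTriangle_distinguished
    have k1 : ∀ a ∈ IsLocalRing.maximalIdeal A, ∀ x : N₁, a • x = 0 := by
      intro a ha x
      apply hf
      rw [map_smul, hk a ha, map_zero]
    have k3 : ∀ a ∈ IsLocalRing.maximalIdeal A, ∀ x : N₃, a • x = 0 := by
      intro a ha x
      obtain ⟨y, rfl⟩ := hg x
      rw [← map_smul, hk a ha, map_zero]
    exact Groth.Agent.Lib.Seat8.Bass.subsingleton_mid _ hT _ (h1 k1) (h3 k3)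

end Killed

section Local

variable {A B : Type u} [CommRing A] [CommRing B] [IsLocalRing A] [IsLocalRing B] [Algebra A B]
  [IsLocalHom (algebraMap A B)] [IsNoetherianRing A] [Module.Finite A B]

/-- the residue field of `B` as an `A`-module -/
noncomputable abbrev kB (A B : Type u) [CommRing A] [CommRing B] [IsLocalRing B] [Algebra A B] :
    ModuleCat.{u} A :=
  (ModuleCat.restrictScalars.{u} (algebraMap A B)).obj
    (ModuleCat.of B (IsLocalRing.ResidueField B))

omit [IsLocalRing A] [IsLocalHom (algebraMap A B)] [IsNoetherianRing A] in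
lemma finite_kB : Module.Finite A (kB A B) := by
  let l : B →ₗ[A] (kB A B) :=
    { toFun := fun b => IsLocalRing.residue B b
      map_add' := fun _ _ => map_add _ _ _
      map_smul' := fun c b => by
        change IsLocalRing.residue B (c • b) = algebraMap A B c • IsLocalRing.residue B b
        rw [Algebra.smul_def, map_mul]
        rfl }
  exact Module.Finite.of_surjective l (fun x => IsLocalRing.residue_surjective x)

omit [IsNoetherianRing A] [Module.Finite A B] in
lemma killed_kB (a : A) (ha : a ∈ IsLocalRing.maximalIdeal A) (x : kB A B) : a • x = 0 := by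
  obtain ⟨b, rfl⟩ := IsLocalRing.residue_surjective (show IsLocalRing.ResidueField B from x)
  change algebraMap A B a • IsLocalRing.residue B b = 0
  have h1 : algebraMap A B a ∈ IsLocalRing.maximalIdeal B := by
    rw [IsLocalRing.mem_maximalIdeal] at ha ⊢
    exact fun hu => ha (isUnit_of_map_unit (algebraMap A B) a hu)
  have h2 : algebraMap A B a • IsLocalRing.residue B b =
      IsLocalRing.residue B (algebraMap A B a * b) := by
    rw [map_mul]
    rfl
  rw [h2, IsLocalRing.residue_eq_zero_iff]
  exact Ideal.mul_mem_right _ _ h1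

/-- a corepresenting object of a normalized complex is normalized -/
theorem isNormalized_of_isCoext (ω : Dual.D A) (hn : Dual.IsNormalized A ω) (Z : Dual.D B)
    (ev : (DRing.restrictD (algebraMap A B)).obj Z ⟶ ω)
    (h : IsCoext (algebraMap A B) ω Z ev) : Dual.IsNormalized B Z := by
  intro i hi
  obtain ⟨E, -⟩ := IsCoext.exists_shift_equiv h (Dual.inD B (IsLocalRing.ResidueField B)) i
  suffices hs : Subsingleton ((DRing.restrictD (algebraMap A B)).obj
      (Dual.inD B (IsLocalRing.ResidueField B)) ⟶ ω⟦i⟧) from E.toEquiv.subsingleton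
  let e := Groth.Agent.Lib.Helper1.Restrict.restrictDSingleIso (algebraMap A B)
    (ModuleCat.of B (IsLocalRing.ResidueField B)) 0
  have := finite_kB (A := A) (B := B)
  have h1 : Subsingleton (Dual.inD A (kB A B) ⟶ ω⟦i⟧) :=
    subsingleton_of_killed ω i (hn i hi) (kB A B) (killed_kB (A := A) (B := B))
  exact (Iso.homCongr e (Iso.refl (ω⟦i⟧))).subsingleton

end Local

end Groth.Agent.Lib.Seat8.Normalized
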