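import Mathlib
import Groth.Agent.S14388
import Groth.Agent.S0973
import Groth.Prelude.Def_Wider

/-!
# Nonzero maps between objects of `D(R)` from nonzero maps on extreme cohomology (seat 8)

* `exists_hom_ne_zero`: for `X ∈ D^{≤ n}`, `Y ∈ D^{≥ n}` and a nonzero map `H^n(X) → H^n(Y)` there is a
  nonzero map `X → Y`.
* `exists_linearMap_ne_zero`: over an Artinian local ring there is a nonzero linear map between any nonzero
  finite module and any nonzero module.
-/

set_option autoImplicit false
universe u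
open CategoryTheory CategoryTheory.Limits Pretriangulated
attribute [local instance] HasDerivedCategory.standard
open DerivedCategory Groth.Agent.S14388

namespace Groth.Agent.Lib.Seat8.SingleDeg

section Derived

variable {R : Type u} [CommRing R]

/-- a nonzero map on the extreme cohomology modules lifts to a nonzero map in the derived category -/
theorem exists_hom_ne_zero (X Y : Dual.D R) (n : ℤ) (hX : X.IsLE n) (hY : Y.IsGE n)
    (f : (homologyFunctor (ModuleCat.{u} R) n).obj X ⟶ (homologyFunctor (ModuleCat.{u} R) n).obj Y)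
    (hf : f ≠ 0) : ∃ g : X ⟶ Y, g ≠ 0 := by
  -- truncations
  have hX1LE : ((tt.truncGE n).obj X).IsLE n := inferInstance
  have hX1GE : ((tt.truncGE n).obj X).IsGE n := inferInstance
  have hY2LE : ((tt.truncLT (n + 1)).obj Y).IsLE n := inferInstance
  have hY2GE : ((tt.truncLT (n + 1)).obj Y).IsGE n := inferInstance
  obtain ⟨e₁⟩ := Groth.Agent.S0973.iso_single_of_amp ((tt.truncGE n).obj X) n
  obtain ⟨e₂⟩ := Groth.Agent.S0973.iso_single_of_amp ((tt.truncLT (n + 1)).obj Y) n
  have hπ := isIso_homology_truncGEπ n n le_rfl X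
  have hι := isIso_homology_truncLTι (n + 1) n (by omega) Y
  let f' : (homologyFunctor (ModuleCat.{u} R) n).obj ((tt.truncGE n).obj X) ⟶
      (homologyFunctor (ModuleCat.{u} R) n).obj ((tt.truncLT (n + 1)).obj Y) :=
    inv ((homologyFunctor (ModuleCat.{u} R) n).map ((tt.truncGEπ n).app X)) ≫ f ≫
      inv ((homologyFunctor (ModuleCat.{u} R) n).map ((tt.truncLTι (n + 1)).app Y))
  have hf' : f' ≠ 0 := by
    intro h0
    apply hf
    have : f = (homologyFunctor (ModuleCat.{u} R) n).map ((tt.truncGEπ n).app X) ≫ f' ≫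
        (homologyFunctor (ModuleCat.{u} R) n).map ((tt.truncLTι (n + 1)).app Y) := by
      simp [f']
    rw [this, h0, zero_comp, comp_zero]
  let u : (tt.truncGE n).obj X ⟶ (tt.truncLT (n + 1)).obj Y :=
    e₁.hom ≫ (singleFunctor (ModuleCat.{u} R) n).map f' ≫ e₂.inv
  have hu : u ≠ 0 := by
    intro h0
    apply hf'
    apply (singleFunctor (ModuleCat.{u} R) n).map_injective
    rw [Functor.map_zero]
    have : (singleFunctor (ModuleCat.{u} R) n).map f' = e₁.inv ≫ u ≫ e₂.hom := by
      simp [u]
    rw [this, h0, zero_comp, comp_zero]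
  refine ⟨(tt.truncGEπ n).app X ≫ u ≫ (tt.truncLTι (n + 1)).app Y, fun h0 => hu ?_⟩
  have hXle : tt.IsLE ((𝟭 (DerivedCategory (ModuleCat.{u} R))).obj X) (n + 1) :=
    tt.isLE_of_le X n (n + 1) (by omega)
  have h1 : (tt.truncGEπ n).app X ≫ u = 0 := by
    apply lemmaB (n := n + 1) (X := Y) ((tt.truncGEπ n).app X ≫ u)
    rw [Category.assoc]
    exact h0
  have hYge : tt.IsGE ((tt.truncLT (n + 1)).obj Y) (n - 1) :=
    tt.isGE_of_ge _ (n - 1) n (by omega)
  exact lemmaA (n := n) (X := X) u h1

end Derived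

section Artinian

variable {R : Type u} [CommRing R] [IsLocalRing R] [IsArtinianRing R]

/-- a nonzero module over an Artinian local ring contains a nonzero element killed by the maximal ideal -/
lemma exists_ne_zero_smul_eq_zero (N : Type*) [AddCommGroup N] [Module R N] [Nontrivial N] :
    ∃ x : N, x ≠ 0 ∧ ∀ a ∈ IsLocalRing.maximalIdeal R, a • x = 0 := by
  obtain ⟨y, hy⟩ := exists_ne (0 : N)
  have hnil : IsNilpotent (IsLocalRing.maximalIdeal R) :=
    (isArtinianRing_iff_isNilpotent_maximalIdeal R).1 inferInstance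
  obtain ⟨t, ht⟩ := hnil
  -- the least `s` with `m^s y = 0`
  have hex : ∃ s : ℕ, ∀ a ∈ (IsLocalRing.maximalIdeal R) ^ s, a • y = 0 :=
    ⟨t, fun a ha => by
      rw [ht] at ha
      have : a = 0 := by simpa using ha
      rw [this, zero_smul]⟩
  classical
  have hs0 : Nat.find hex ≠ 0 := by
    intro h0
    have := Nat.find_spec hex
    rw [h0, pow_zero] at this
    exact hy (by simpa using this 1 (by simp))
  obtain ⟨s, hs⟩ := Nat.exists_eq_succ_of_ne_zero hs0
  have hmin : ¬ ∀ a ∈ (IsLocalRing.maximalIdeal R) ^ s, a • y = 0 :=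
    Nat.find_min hex (by omega)
  push Not at hmin
  obtain ⟨a, ha, hay⟩ := hmin
  refine ⟨a • y, hay, fun b hb => ?_⟩
  rw [smul_smul]
  apply Nat.find_spec hex
  rw [hs, pow_succ']
  exact Ideal.mul_mem_mul hb ha

/-- over an Artinian local ring, there is a nonzero linear map from any nonzero finite module to any
nonzero module -/
theorem exists_linearMap_ne_zero (M N : Type u) [AddCommGroup M] [Module R M] [Module.Finite R M]
    [Nontrivial M] [AddCommGroup N] [Module R N] [Nontrivial N] : ∃ f : M →ₗ[R] N, f ≠ 0 := by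
  obtain ⟨x, hx, hmx⟩ := exists_ne_zero_smul_eq_zero (R := R) N
  -- a maximal submodule of `M`
  obtain ⟨P, hP⟩ : ∃ P : Submodule R M, IsCoatom P := by
    have : IsCoatomic (Submodule R M) := inferInstance
    obtain h | ⟨P, hP, -⟩ := this.eq_top_or_exists_le_coatom (⊥ : Submodule R M)
    · exact absurd h bot_ne_top
    · exact ⟨P, hP⟩
  have hsimple : IsSimpleModule R (M ⧸ P) := isSimpleModule_iff_isCoatom.2 hP
  obtain ⟨I, hI, ⟨e⟩⟩ := isSimpleModule_iff_quot_maximal.1 hsimple
  have hIm : I = IsLocalRing.maximalIdeal R := IsLocalRing.eq_maximalIdeal hI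
  subst hIm
  -- `R/m → N`, `1 ↦ x`
  let j : (R ⧸ IsLocalRing.maximalIdeal R) →ₗ[R] N :=
    Submodule.liftQ (IsLocalRing.maximalIdeal R) (LinearMap.toSpanSingleton R N x)
      (fun a ha => by
        rw [LinearMap.mem_ker, LinearMap.toSpanSingleton_apply]
        exact hmx a ha)
  refine ⟨j ∘ₗ e.toLinearMap ∘ₗ P.mkQ, fun h0 => hx ?_⟩
  obtain ⟨z, hz⟩ := P.mkQ_surjective (e.symm (Submodule.Quotient.mk 1))
  have := LinearMap.congr_fun h0 z
  simp only [LinearMap.comp_apply, LinearMap.zero_apply] at this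
  rw [hz, LinearEquiv.coe_coe, LinearEquiv.apply_symm_apply] at this
  have h1 : j (Submodule.Quotient.mk 1) = x := by
    show LinearMap.toSpanSingleton R N x 1 = x
    rw [LinearMap.toSpanSingleton_apply, one_smul]
  exact h1.symm.trans this

end Artinian

end Groth.Agent.Lib.Seat8.SingleDeg
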