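import Mathlib
import Groth.Prelude.Def_DDual2
import Groth.Agent.Lib.Seat8HomSingle
import Groth.Agent.Lib.Seat8DualBC
import Groth.Agent.S0973

set_option autoImplicit false
set_option linter.unusedSectionVars false
universe u
open CategoryTheory CategoryTheory.Limits Pretriangulated Opposite

attribute [local instance] HasDerivedCategory.standard

namespace Groth.Agent.Lib.Seat8.FieldDual

open DerivedCategory Groth.Agent.Lib.Seat8.HomSingle

section Proj

variable {R : Type u} [CommRing R]

/-- maps in `D(R)` from a projective module in degree `0` to a module in degree `-p ≠ 0` vanish -/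
lemma hom_single_projective_eq_zero (M N : ModuleCat.{u} R) [Projective M] (p : ℤ) (hp : p ≠ 0)
    (f : (singleFunctor (ModuleCat.{u} R) 0).obj M ⟶
      ((singleFunctor (ModuleCat.{u} R) 0).obj N)⟦p⟧) : f = 0 := by
  let c : Q.obj ((sg 0 N)⟦p⟧) ≅ ((singleFunctor (ModuleCat.{u} R) 0).obj N)⟦p⟧ :=
    (Q.commShiftIso p).app (sg 0 N)
  have h1 : f ≫ c.inv = 0 := by
    obtain ⟨g, hg⟩ := Q_map_surjective (sg 0 M) ((sg 0 N)⟦p⟧) (f ≫ c.inv)
    have hg0 : g = 0 := by
      apply HomologicalComplex.hom_ext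
      intro i
      by_cases hi : i = 0
      · subst hi
        have hz : IsZero (((sg 0 N)⟦p⟧).X 0) :=
          HomologicalComplex.isZero_single_obj_X (ComplexShape.up ℤ) 0 N (0 + p) (by omega)
        exact hz.eq_of_tgt _ _
      · exact (HomologicalComplex.isZero_single_obj_X (ComplexShape.up ℤ) 0 M i hi).eq_of_src _ _
    exact hg.symm.trans (by rw [hg0, Functor.map_zero]; rfl)
  rw [← cancel_mono c.inv, h1, zero_comp]

end Proj

section Field

variable {k : Type u} [Field k]

instance projective_of_field (M : ModuleCat.{u} k) : Projective M := by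
  have h1 : Module.Free k M := Module.Free.of_divisionRing k M
  have h2 : Module.Projective k M := Module.Projective.of_free
  exact (IsProjective.iff_projective (R := k) (P := M)).mp h2

/-- a dualizing complex over a field has at most one nonzero cohomology module -/
lemma isZero_or_isZero (Z : Dual.D k) (hZ : Dual.IsDualizing k Z) (i j : ℤ) (hij : i ≠ j) :
    IsZero ((homologyFunctor (ModuleCat.{u} k) i).obj Z) ∨
      IsZero ((homologyFunctor (ModuleCat.{u} k) j).obj Z) := by
  classical
  obtain ⟨a, b, hGE, hLE⟩ := Groth.Agent.Lib.Seat8.DualBC.exists_isGE_of_isDualizing Z hZ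
  by_cases hi : i ∈ Finset.Icc a b
  swap
  · left
    rw [Finset.mem_Icc, not_and_or, not_le, not_le] at hi
    rcases hi with hi | hi
    · exact isZero_of_isGE Z a i hi
    · exact isZero_of_isLE Z b i hi
  by_cases hj : j ∈ Finset.Icc a b
  swap
  · right
    rw [Finset.mem_Icc, not_and_or, not_le, not_le] at hj
    rcases hj with hj | hj
    · exact isZero_of_isGE Z a j hj
    · exact isZero_of_isLE Z b j hj
  let F : Finset.Icc a b → Dual.D k := fun i =>
    (singleFunctor (ModuleCat.{u} k) (i : ℤ)).obj ((homologyFunctor (ModuleCat.{u} k) (i : ℤ)).obj Z)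
  obtain ⟨e⟩ : Nonempty (Z ≅ ⨁ F) :=
    Groth.Agent.S0973.result Z a b (fun i j p _ hp f =>
      hom_single_projective_eq_zero _ _ (p : ℤ) (by omega) f)
  -- the idempotents
  let ε : Finset.Icc a b → (Z ⟶ Z) := fun i => e.hom ≫ biproduct.π F i ≫ biproduct.ι F i ≫ e.inv
  have hεε : ∀ i j : Finset.Icc a b, i ≠ j → ε i ≫ ε j = 0 := by
    intro i j hij
    simp only [ε, Category.assoc, Iso.inv_hom_id_assoc]
    rw [biproduct.ι_π_ne_assoc F hij]
    simp
  have hzero : ∀ i : Finset.Icc a b, ε i = 0 →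
      IsZero ((homologyFunctor (ModuleCat.{u} k) (i : ℤ)).obj Z) := by
    intro i h0
    have h1 : 𝟙 (F i) = 0 := by
      have : 𝟙 (F i) = biproduct.ι F i ≫ e.inv ≫ ε i ≫ e.hom ≫ biproduct.π F i := by
        simp [ε]
      rw [this, h0]
      simp
    have h2 : IsZero (F i) := (IsZero.iff_id_eq_zero _).mpr h1
    have h3 : IsZero ((homologyFunctor (ModuleCat.{u} k) (i : ℤ)).obj (F i)) :=
      (homologyFunctor (ModuleCat.{u} k) (i : ℤ)).map_isZero h2
    exact h3.of_iso ((singleFunctorCompHomologyFunctorIso (ModuleCat.{u} k) (i : ℤ)).app _).symm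
  obtain ⟨ci, hci⟩ := hZ.toEnd_bijective.2 (ε ⟨i, hi⟩)
  obtain ⟨cj, hcj⟩ := hZ.toEnd_bijective.2 (ε ⟨j, hj⟩)
  have hne : (⟨i, hi⟩ : Finset.Icc a b) ≠ ⟨j, hj⟩ := fun h => hij (congrArg Subtype.val h)
  have h0 : (ci * cj) • 𝟙 Z = (0 : k) • 𝟙 Z := by
    have := hεε _ _ hne
    rw [← hci, ← hcj] at this
    dsimp only at this
    rw [Linear.smul_comp, Linear.comp_smul, Category.id_comp, smul_smul] at this
    rw [this, zero_smul]
  have h1 : ci * cj = 0 := hZ.toEnd_bijective.1 h0
  rcases mul_eq_zero.mp h1 with h | h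
  · left
    apply hzero ⟨i, hi⟩
    rw [← hci, h]
    exact zero_smul _ _
  · right
    apply hzero ⟨j, hj⟩
    rw [← hcj, h]
    exact zero_smul _ _

/-- a dualizing complex over a field is nonzero -/
lemma exists_not_isZero (Z : Dual.D k) (hZ : Dual.IsDualizing k Z) :
    ∃ n : ℤ, ¬ IsZero ((homologyFunctor (ModuleCat.{u} k) n).obj Z) := by
  by_contra hcon
  push Not at hcon
  have hz : IsZero Z := by
    have h1 : Z.IsGE 1 := (isGE_iff Z 1).mpr (fun i _ => hcon i)
    have h0 : Z.IsLE 0 := (isLE_iff Z 0).mpr (fun i _ => hcon i)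
    exact DerivedCategory.TStructure.t.isZero Z 0 1
  have : (1 : k) • 𝟙 Z = (0 : k) • 𝟙 Z := hz.eq_of_src _ _
  exact one_ne_zero (hZ.toEnd_bijective.1 this)

/-- a nonzero vector space whose endomorphisms are all scalars is one-dimensional -/
lemma nonempty_linearEquiv_of_end (V : Type u) [AddCommGroup V] [Module k V] [Nontrivial V]
    (h : ∀ T : V →ₗ[k] V, ∃ c : k, T = c • LinearMap.id) : Nonempty (V ≃ₗ[k] k) := by
  obtain ⟨v, hv⟩ := exists_ne (0 : V)
  have : Module.Free k V := Module.Free.of_divisionRing k V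
  obtain ⟨φ, hφ⟩ := Module.Projective.exists_dual_ne_zero k hv
  let f : V →ₗ[k] k := (φ v)⁻¹ • φ
  have hf : f v = 1 := by
    change (φ v)⁻¹ • φ v = 1
    rw [smul_eq_mul, inv_mul_cancel₀ hφ]
  have hspan : ∀ w : V, ∃ c : k, w = c • v := by
    intro w
    obtain ⟨c, hc⟩ := h ((LinearMap.toSpanSingleton k V w).comp f)
    refine ⟨c, ?_⟩
    have := congrArg (fun T : V →ₗ[k] V => T v) hc
    simpa [hf] using this
  refine ⟨(LinearEquiv.ofBijective (LinearMap.toSpanSingleton k V v) ⟨?_, ?_⟩).symm⟩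
  · intro c c' hcc'
    have h1 : (c - c') • v = 0 := by
      rw [sub_smul]
      exact sub_eq_zero.mpr hcc'
    rcases smul_eq_zero.mp h1 with h2 | h2
    · exact sub_eq_zero.mp h2
    · exact absurd h2 hv
  · intro w
    obtain ⟨c, hc⟩ := hspan w
    exact ⟨c, hc.symm⟩

/-- **Dualizing complexes over a field**: exactly one cohomology module is nonzero, and it is
one-dimensional. -/
theorem exists_degree (Z : Dual.D k) (hZ : Dual.IsDualizing k Z) :
    ∃ n : ℤ, (∀ i : ℤ, i ≠ n → IsZero ((homologyFunctor (ModuleCat.{u} k) i).obj Z)) ∧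
      Nonempty (((homologyFunctor (ModuleCat.{u} k) n).obj Z) ≃ₗ[k] k) := by
  obtain ⟨n, hn⟩ := exists_not_isZero Z hZ
  have hz : ∀ i : ℤ, i ≠ n → IsZero ((homologyFunctor (ModuleCat.{u} k) i).obj Z) := by
    intro i hi
    rcases isZero_or_isZero Z hZ i n hi with h | h
    · exact h
    · exact absurd h hn
  refine ⟨n, hz, ?_⟩
  have hGE : Z.IsGE n := (isGE_iff Z n).mpr (fun i hi => hz i (by omega))
  have hLE : Z.IsLE n := (isLE_iff Z n).mpr (fun i hi => hz i (by omega))
  obtain ⟨e⟩ := Groth.Agent.S0973.iso_single_of_amp Z n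
  have hZ' := Groth.Agent.Lib.Seat8.DualBC.isDualizing_of_iso e hZ
  have hnt : Nontrivial ((homologyFunctor (ModuleCat.{u} k) n).obj Z) := by
    by_contra hcon
    rw [not_nontrivial_iff_subsingleton] at hcon
    exact hn (ModuleCat.isZero_of_subsingleton _)
  apply nonempty_linearEquiv_of_end
  intro T
  obtain ⟨c, hc⟩ := hZ'.toEnd_bijective.2
    ((singleFunctor (ModuleCat.{u} k) n).map (ModuleCat.ofHom T))
  refine ⟨c, ?_⟩
  dsimp only at hc
  have h1 : (singleFunctor (ModuleCat.{u} k) n).map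
      (c • 𝟙 ((homologyFunctor (ModuleCat.{u} k) n).obj Z)) =
      (singleFunctor (ModuleCat.{u} k) n).map (ModuleCat.ofHom T) := by
    rw [Functor.map_smul, CategoryTheory.Functor.map_id]
    exact hc
  have h2 := (singleFunctor (ModuleCat.{u} k) n).map_injective h1
  have h3 := congrArg ModuleCat.Hom.hom h2
  exact h3.symm

end Field

end Groth.Agent.Lib.Seat8.FieldDual
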