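import Mathlib
import Groth.Prelude.Def_DDual2
import Groth.Agent.Lib.Seat8Normalized
import Groth.Agent.Lib.Seat8NormAmp
import Groth.Agent.Lib.Seat8SingleDeg
import Groth.Agent.S0364
import Groth.Agent.S0302

set_option autoImplicit false
set_option linter.unusedSectionVars false
universe u
open CategoryTheory CategoryTheory.Limits Pretriangulated

attribute [local instance] HasDerivedCategory.standard

namespace Groth.Agent.Lib.Seat8.DimZero

open DerivedCategory Groth.Agent.Lib.Seat8.HomDual Groth.Agent.Lib.Seat8.Bidual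

section FinLen

variable {A : Type u} [CommRing A] [IsLocalRing A]

/-- if `Hom(κ, ω[i]) = 0` then `Hom(N, ω[i]) = 0` for every module `N` of finite length -/
theorem subsingleton_of_isFiniteLength (ω : Dual.D A) (i : ℤ)
    (h : Subsingleton (Dual.inD A (IsLocalRing.ResidueField A) ⟶ ω⟦i⟧))
    (N : Type u) [AddCommGroup N] [Module A N] (hN : IsFiniteLength A N) :
    Subsingleton (Dual.inD A N ⟶ ω⟦i⟧) := by
  induction hN with
  | of_subsingleton =>
    rename_i M _ _ _
    have hz : IsZero (Dual.inD A M) :=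
      (DerivedCategory.singleFunctor (ModuleCat.{u} A) 0).map_isZero
        (ModuleCat.isZero_of_subsingleton (ModuleCat.of A M))
    exact ⟨fun f g => hz.eq_of_src _ _⟩
  | of_simple_quotient hN' ih =>
    rename_i M _ _ N' hsimple
    obtain ⟨I, hI, ⟨e⟩⟩ := isSimpleModule_iff_quot_maximal.mp hsimple
    obtain rfl : I = IsLocalRing.maximalIdeal A := IsLocalRing.eq_maximalIdeal hI
    have h3 : Subsingleton (Dual.inD A (M ⧸ N') ⟶ ω⟦i⟧) := by
      let e'' : Dual.inD A (M ⧸ N') ≅ Dual.inD A (IsLocalRing.ResidueField A) :=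
        (DerivedCategory.singleFunctor (ModuleCat.{u} A) 0).mapIso e.toModuleIso
      exact (Iso.homCongr e'' (Iso.refl (ω⟦i⟧))).subsingleton
    have hS := sesE_shortExact N'.subtype N'.mkQ
      (LinearMap.exact_subtype_mkQ N') N'.injective_subtype (Submodule.mkQ_surjective N')
    have hT := hS.singleTriangle_distinguished
    exact Groth.Agent.Lib.Seat8.Bass.subsingleton_mid _ hT _ ih h3

end FinLen

section Single

variable {A : Type u} [CommRing A]

/-- a complex concentrated in degree `0` is a single complex -/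
noncomputable def isoSingle (I : DRing.Cx A) (hv : DRing.VanishesOutside I 0 0) :
    I ≅ (HomologicalComplex.single (ModuleCat.{u} A) (ComplexShape.up ℤ) 0).obj (I.X 0) where
  hom := HomologicalComplex.mkHomToSingle (𝟙 (I.X 0)) (fun i hi =>
    (hv i (Or.inl (by simp at hi; omega))).eq_of_src _ _)
  inv := HomologicalComplex.mkHomFromSingle (𝟙 (I.X 0)) (fun k hk =>
    (hv k (Or.inr (by simp at hk; omega))).eq_of_tgt _ _)
  hom_inv_id := by
    apply HomologicalComplex.hom_ext
    intro n
    by_cases hn : n = 0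
    · subst hn
      simp
    · exact (hv n (by omega)).eq_of_src _ _
  inv_hom_id := by
    apply HomologicalComplex.hom_ext
    intro n
    by_cases hn : n = 0
    · subst hn
      simp
    · exact (HomologicalComplex.isZero_single_obj_X (ComplexShape.up ℤ) 0 _ n hn).eq_of_src _ _

end Single

section Artinian

variable {A : Type u} [CommRing A] [IsLocalRing A] [IsArtinianRing A]

instance isSimpleModule_residueField (A : Type u) [CommRing A] [IsLocalRing A] :
    IsSimpleModule A (IsLocalRing.ResidueField A) :=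
  isSimpleModule_iff_quot_maximal.mpr
    ⟨IsLocalRing.maximalIdeal A, inferInstance, ⟨LinearEquiv.refl _ _⟩⟩

/-- over an Artinian local ring, an injective module `J` with `Hom(κ, J) ≃ κ` is an injective hull
of `κ` -/
theorem exists_isInjectiveHull (J : Type u) [AddCommGroup J] [Module A J]
    (hJ : Module.Injective A J)
    (L : (IsLocalRing.ResidueField A →ₗ[A] J) ≃ₗ[A] IsLocalRing.ResidueField A) :
    ∃ g : IsLocalRing.ResidueField A →ₗ[A] J, InjHull.IsInjectiveHull g := by
  let g : IsLocalRing.ResidueField A →ₗ[A] J := L.symm 1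
  have hg0 : g ≠ 0 := by
    intro h
    have : L g = 0 := by rw [h, map_zero]
    rw [LinearEquiv.apply_symm_apply] at this
    exact one_ne_zero this
  have hginj : Function.Injective g := (LinearMap.injective_or_eq_zero g).resolve_right hg0
  refine ⟨g, ⟨⟨hginj, ?_⟩, hJ⟩⟩
  intro N hN
  have : Nontrivial N := (Submodule.nontrivial_iff_ne_bot).mpr hN
  obtain ⟨x, hx, hmx⟩ := Groth.Agent.Lib.Seat8.SingleDeg.exists_ne_zero_smul_eq_zero (R := A) N
  -- the map `κ → J` with image `A x`
  let g' : IsLocalRing.ResidueField A →ₗ[A] J :=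
    Submodule.liftQ (IsLocalRing.maximalIdeal A) (LinearMap.toSpanSingleton A J (x : J))
      (fun a ha => by
        rw [LinearMap.mem_ker, LinearMap.toSpanSingleton_apply]
        have := hmx a ha
        exact congrArg Subtype.val this)
  have hg'1 : ∀ c : A, g' (IsLocalRing.residue A c) = c • (x : J) := fun c => by
    change Submodule.liftQ _ _ _ (Submodule.Quotient.mk c) = _
    rw [Submodule.liftQ_apply, LinearMap.toSpanSingleton_apply]
  obtain ⟨a, ha⟩ := IsLocalRing.residue_surjective (L g')
  have hres : ∀ c : A, c • (IsLocalRing.residue A 1) = IsLocalRing.residue A c := fun c => by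
    rw [Algebra.smul_def, map_one, mul_one]
    rfl
  have hg'g : g' = a • g := by
    apply L.injective
    rw [map_smul, LinearEquiv.apply_symm_apply, ← ha]
    change _ = a • (IsLocalRing.residue A 1)
    rw [hres]
  have hau : IsUnit a := by
    by_contra hna
    have ham : a ∈ IsLocalRing.maximalIdeal A := (IsLocalRing.mem_maximalIdeal a).mpr hna
    have h1 : g' (IsLocalRing.residue A 1) = 0 := by
      rw [hg'g, LinearMap.smul_apply, ← map_smul]
      have : a • (IsLocalRing.residue A 1) = 0 := by
        rw [hres]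
        exact (IsLocalRing.residue_eq_zero_iff a).mpr ham
      rw [this, map_zero]
    rw [hg'1, one_smul] at h1
    exact hx (Subtype.ext h1)
  obtain ⟨b, hb⟩ := hau.exists_left_inv
  have hgg' : g = b • g' := by
    rw [hg'g, smul_smul, hb, one_smul]
  have hrange : LinearMap.range g ≤ N := by
    rintro _ ⟨y, rfl⟩
    obtain ⟨c, rfl⟩ := IsLocalRing.residue_surjective y
    rw [hgg', LinearMap.smul_apply, hg'1]
    exact N.smul_mem _ (N.smul_mem _ x.2)
  rw [inf_eq_right.mpr hrange]
  intro h
  exact hg0 (LinearMap.range_eq_bot.mp h)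

/-- **Dimension zero**: over an Artinian local ring a normalized dualizing complex is an injective
hull of the residue field placed in degree `0`. -/
theorem exists_iso_inD_injectiveHull (ω : Dual.D A) (hω : Dual.IsDualizing A ω)
    (hn : Dual.IsNormalized A ω) :
    ∃ (J : ModuleCat.{u} A) (g : IsLocalRing.ResidueField A →ₗ[A] J),
      InjHull.IsInjectiveHull g ∧ Nonempty (ω ≅ Dual.inD A J) := by
  -- amplitude `[0, 0]`
  have hamp : DRing.HasInjAmplitudeIn A 0 0 ω := by
    refine ((Groth.Agent.S6965.result A ω 0 0).out 2 0).mp ?_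
    intro I i hi
    have hfl : IsFiniteLength A (A ⧸ I) :=
      isFiniteLength_iff_isNoetherian_isArtinian.mpr ⟨inferInstance, inferInstance⟩
    exact subsingleton_of_isFiniteLength ω i (hn i (by omega)) (A ⧸ I) hfl
  obtain ⟨I, hv, hI, ⟨e⟩⟩ := hamp
  let J : ModuleCat.{u} A := I.X 0
  have hJ : Module.Injective A J := hI 0
  let e1 : ω ≅ Dual.inD A J := e.symm ≪≫ Q.mapIso (isoSingle I hv)
  -- the socle
  obtain ⟨n, hne, ⟨L0⟩⟩ := Groth.Agent.S0364.result A ω hω (IsLocalRing.maximalIdeal A)
  obtain rfl : n = 0 := by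
    by_contra hn0
    have h1 : Subsingleton (Dual.inD A (A ⧸ IsLocalRing.maximalIdeal A) ⟶ ω⟦n⟧) := hn n hn0
    have h2 : Subsingleton (A ⧸ IsLocalRing.maximalIdeal A) := L0.symm.toEquiv.subsingleton
    have h3 : Nontrivial (A ⧸ IsLocalRing.maximalIdeal A) := Ideal.Quotient.nontrivial_iff.mpr
      (IsLocalRing.maximalIdeal.isMaximal A).ne_top
    exact not_subsingleton _ h2
  let E1 : (IsLocalRing.ResidueField A →ₗ[A] J) ≃ₗ[A]
      (ModuleCat.of A (IsLocalRing.ResidueField A) ⟶ J) :=
    (ModuleCat.homLinearEquiv (M := ModuleCat.of A (IsLocalRing.ResidueField A)) (N := J)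
      (S := A)).symm
  let E2 : (ModuleCat.of A (IsLocalRing.ResidueField A) ⟶ J) ≃ₗ[A]
      (Dual.inD A (IsLocalRing.ResidueField A) ⟶ Dual.inD A J) :=
    LinearEquiv.ofBijective
      ((DerivedCategory.singleFunctor (ModuleCat.{u} A) 0).mapLinearMap A)
      ⟨(DerivedCategory.singleFunctor (ModuleCat.{u} A) 0).map_injective,
        (DerivedCategory.singleFunctor (ModuleCat.{u} A) 0).map_surjective⟩
  let E3 : (Dual.inD A (IsLocalRing.ResidueField A) ⟶ Dual.inD A J) ≃ₗ[A]
      (Dual.inD A (IsLocalRing.ResidueField A) ⟶ ω⟦(0 : ℤ)⟧) :=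
    Linear.homCongr A (Iso.refl _) (e1.symm ≪≫ ((shiftFunctorZero (Dual.D A) ℤ).app ω).symm)
  obtain ⟨g, hg⟩ := exists_isInjectiveHull J hJ (E1.trans (E2.trans (E3.trans L0)))
  exact ⟨J, g, hg, ⟨e1⟩⟩

end Artinian

end Groth.Agent.Lib.Seat8.DimZero
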