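import Mathlib
import Groth.Prelude.Def_DDual2
import Groth.Prelude.Def_CAlg
import Groth.Agent.Lib.Seat8DimZero
import Groth.Agent.Lib.Helper28Depth
import Groth.Agent.Lib.Helper28DepthLoc
import Groth.Agent.Lib.Seat8NormAmp
import Groth.Agent.Lib.Helper29Gorenstein

set_option autoImplicit false
set_option linter.unusedSectionVars false
universe u
open CategoryTheory CategoryTheory.Limits Pretriangulated
open scoped Pointwise

attribute [local instance] HasDerivedCategory.standard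

namespace Groth.Agent.Lib.Seat8.DepthDual

open DerivedCategory Groth.Agent.Lib.Seat8.Bidual

section Tri

variable {A : Type u} [CommRing A]
variable {N₁ N₂ N₃ : Type u} [AddCommGroup N₁] [Module A N₁] [AddCommGroup N₂]
    [Module A N₂] [AddCommGroup N₃] [Module A N₃] (f : N₁ →ₗ[A] N₂) (g : N₂ →ₗ[A] N₃)
    (hfg : Function.Exact f g) (hf : Function.Injective f) (hg : Function.Surjective g)

include g hfg hf hg

/-- if `Ext^{i+1}(N₃, W) = 0` then every class in `Ext^i(N₁, W)` lifts to `Ext^i(N₂, W)` -/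
lemma exists_lift (W : Dual.D A) (i : ℤ) (h : Subsingleton (Dual.inD A N₃ ⟶ W⟦i + 1⟧))
    (φ : Dual.inD A N₁ ⟶ W⟦i⟧) :
    ∃ ψ : Dual.inD A N₂ ⟶ W⟦i⟧,
      (DerivedCategory.singleFunctor (ModuleCat.{u} A) 0).map (ModuleCat.ofHom f) ≫ ψ = φ := by
  have hS := sesE_shortExact f g hfg hf hg
  have hT := hS.singleTriangle_distinguished
  exact ex_X _ _ _ hT W i (i + 1) rfl φ (h.elim _ _)

/-- if `Ext^j(N₂, W) = 0` and `Ext^j(N₃, W) ≠ 0` (`j = i+1`) then `Ext^i(N₁, W) ≠ 0` -/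
lemma nontrivial_of_conn (W : Dual.D A) (i j : ℤ) (hij : i + 1 = j)
    (h2 : Subsingleton (Dual.inD A N₂ ⟶ W⟦j⟧)) (h3 : Nontrivial (Dual.inD A N₃ ⟶ W⟦j⟧)) :
    Nontrivial (Dual.inD A N₁ ⟶ W⟦i⟧) := by
  have hS := sesE_shortExact f g hfg hf hg
  have hT := hS.singleTriangle_distinguished
  obtain ⟨ψ, hψ⟩ := exists_ne (0 : Dual.inD A N₃ ⟶ W⟦j⟧)
  obtain ⟨φ, hφ⟩ := ex_Z _ _ _ hT W i j hij ψ (h2.elim _ _)
  refine ⟨⟨φ, 0, ?_⟩⟩
  rintro rfl
  rw [conn_zero] at hφ
  exact hψ hφ.symm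

/-- if `Ext^i(N₁, W) ≠ 0` and `Ext^{i+1}(N₃, W) = 0` then `Ext^i(N₂, W) ≠ 0` -/
lemma nontrivial_of_lift (W : Dual.D A) (i : ℤ)
    (h3 : Subsingleton (Dual.inD A N₃ ⟶ W⟦i + 1⟧)) (h1 : Nontrivial (Dual.inD A N₁ ⟶ W⟦i⟧)) :
    Nontrivial (Dual.inD A N₂ ⟶ W⟦i⟧) := by
  obtain ⟨φ, hφ⟩ := exists_ne (0 : Dual.inD A N₁ ⟶ W⟦i⟧)
  obtain ⟨ψ, hψ⟩ := exists_lift f g hfg hf hg W i h3 φ
  refine ⟨⟨ψ, 0, ?_⟩⟩
  rintro rfl
  rw [comp_zero] at hψ
  exact hφ hψ.symm

end Tri


section Main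

variable {A : Type u} [CommRing A] [IsLocalRing A] [IsNoetherianRing A]
  (ω : Dual.D A) (hω : Dual.IsDualizing A ω) (hn : Dual.IsNormalized A ω)

include hω in
/-- finiteness of `Ext^i(M, ω)` -/
lemma finite_ext (M : Type u) [AddCommGroup M] [Module A M] [Module.Finite A M] (i : ℤ) :
    Module.Finite A (Dual.inD A M ⟶ ω⟦i⟧) := by
  obtain ⟨c, d, hGE, -⟩ := Groth.Agent.Lib.Seat8.DualBC.exists_isGE_of_isDualizing ω hω
  exact Groth.Agent.Lib.Seat8.Bass.finite_hom_inD_shift M ω c hGE hω.finite_cohomology i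

include hω hn in
/-- `Ext^i(M, ω) = 0` for `i > 0` -/
lemma subsingleton_pos (M : Type u) [AddCommGroup M] [Module A M] (i : ℤ) (hi : 0 < i) :
    Subsingleton (Dual.inD A M ⟶ ω⟦i⟧) :=
  Groth.Agent.Lib.Seat8.NormAmp.subsingleton_hom_of_isGE ω hω hn (Dual.inD A M) i hi

include hω in
/-- Nakayama step: if `Ext^{i+1}(M/xM, ω) = 0` for an `M`-regular `x ∈ m` then `Ext^i(M, ω) = 0` -/
lemma subsingleton_of_regular (M : Type u) [AddCommGroup M] [Module A M] [Module.Finite A M]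
    (x : A) (hx : x ∈ IsLocalRing.maximalIdeal A) (hreg : IsSMulRegular M x) (i : ℤ)
    (h : Subsingleton (Dual.inD A (QuotSMulTop x M) ⟶ ω⟦i + 1⟧)) :
    Subsingleton (Dual.inD A M ⟶ ω⟦i⟧) := by
  have hfin := finite_ext ω hω M i
  have hf : Function.Injective (LinearMap.lsmul A M x) := hreg
  have hg := Submodule.mkQ_surjective (x • (⊤ : Submodule A M))
  have hex := LinearMap.exact_lsmul_mkQ_smul_top M x
  have hmap : (DerivedCategory.singleFunctor (ModuleCat.{u} A) 0).map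
      (ModuleCat.ofHom (LinearMap.lsmul A M x)) = x • 𝟙 (Dual.inD A M) := by
    have h1 : ModuleCat.ofHom (LinearMap.lsmul A M x) = x • 𝟙 (ModuleCat.of A M) := by
      apply ModuleCat.hom_ext
      apply LinearMap.ext
      intro y
      rfl
    rw [h1, Functor.map_smul, CategoryTheory.Functor.map_id]
  have htop : (⊤ : Submodule A (Dual.inD A M ⟶ ω⟦i⟧)) = ⊥ := by
    apply Submodule.eq_bot_of_le_smul_of_le_jacobson_bot (IsLocalRing.maximalIdeal A) ⊤
      Module.Finite.fg_top ?_ (IsLocalRing.maximalIdeal_le_jacobson _)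
    intro φ _
    obtain ⟨ψ, hψ⟩ := exists_lift (LinearMap.lsmul A M x) _ hex hf hg ω i h φ
    rw [hmap, Linear.smul_comp, Category.id_comp] at hψ
    rw [← hψ]
    exact Submodule.smul_mem_smul hx Submodule.mem_top
  exact ⟨fun a b => by
    have ha : a ∈ (⊤ : Submodule A (Dual.inD A M ⟶ ω⟦i⟧)) := Submodule.mem_top
    have hb : b ∈ (⊤ : Submodule A (Dual.inD A M ⟶ ω⟦i⟧)) := Submodule.mem_top
    rw [htop, Submodule.mem_bot] at ha hb
    rw [ha, hb]⟩

include hω hn in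
/-- `Ext^0(κ, ω) ≠ 0` -/
lemma nontrivial_residue :
    Nontrivial (Dual.inD A (A ⧸ IsLocalRing.maximalIdeal A) ⟶ ω⟦(0 : ℤ)⟧) := by
  obtain ⟨n, hne, ⟨L0⟩⟩ := Groth.Agent.S0364.result A ω hω (IsLocalRing.maximalIdeal A)
  have h3 : Nontrivial (A ⧸ IsLocalRing.maximalIdeal A) := Ideal.Quotient.nontrivial_iff.mpr
    (IsLocalRing.maximalIdeal.isMaximal A).ne_top
  obtain rfl : n = 0 := by
    by_contra hn0
    have h1 : Subsingleton (Dual.inD A (A ⧸ IsLocalRing.maximalIdeal A) ⟶ ω⟦n⟧) := hn n hn0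
    have h2 : Subsingleton (A ⧸ IsLocalRing.maximalIdeal A) := L0.symm.toEquiv.subsingleton
    exact not_subsingleton _ h2
  exact L0.toEquiv.nontrivial

include hω hn in
/-- the main induction: `depth M = n` implies `Ext^{-δ}(M, ω) = 0` for `δ < n` and
`Ext^{-n}(M, ω) ≠ 0` -/
theorem ext_of_depth_eq (n : ℕ) : ∀ (M : Type u) [AddCommGroup M] [Module A M] [Module.Finite A M]
    [Nontrivial M], LocCoh.depth A M = n →
    (∀ δ : ℕ, δ < n → Subsingleton (Dual.inD A M ⟶ ω⟦(-(δ : ℤ))⟧)) ∧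
      Nontrivial (Dual.inD A M ⟶ ω⟦(-(n : ℤ))⟧) := by
  induction n with
  | zero =>
    intro M _ _ _ _ hd
    refine ⟨fun δ hδ => absurd hδ (Nat.not_lt_zero δ), ?_⟩
    obtain ⟨j, hj⟩ := Groth.Agent.Lib.Helper29Gorenstein.exists_injective_of_depth_eq_zero M
      (by exact_mod_cast hd)
    have hg := Submodule.mkQ_surjective (LinearMap.range j)
    have hex : Function.Exact j (LinearMap.range j).mkQ := LinearMap.exact_map_mkQ_range j
    have h3 : Subsingleton (Dual.inD A (M ⧸ LinearMap.range j) ⟶ ω⟦(0 : ℤ) + 1⟧) :=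
      subsingleton_pos ω hω hn _ _ (by norm_num)
    have := nontrivial_of_lift j _ hex hj hg ω 0 h3 (nontrivial_residue ω hω hn)
    simpa using this
  | succ n ih =>
    intro M _ _ _ _ hd
    have hIM : IsLocalRing.maximalIdeal A • (⊤ : Submodule A M) ≠ ⊤ :=
      Groth.Agent.Lib.Helper28.maximalIdeal_smul_top_ne_top
    have h1 : (1 : ℕ∞) ≤ LocCoh.idealDepth (IsLocalRing.maximalIdeal A) M := by
      change (1 : ℕ∞) ≤ LocCoh.depth A M
      rw [hd]
      exact_mod_cast Nat.le_add_left 1 n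
    obtain ⟨x, hx, hreg⟩ := (Groth.Agent.Lib.Helper28.one_le_idealDepth_iff hIM).mp h1
    have hIM' := Groth.Agent.Lib.Helper28.smul_top_quotSMulTop_ne_top hx hIM
    have hnt : Nontrivial (QuotSMulTop x M) := by
      by_contra hns
      rw [not_nontrivial_iff_subsingleton] at hns
      exact hIM' (Subsingleton.elim _ _)
    have hd' : LocCoh.depth A (QuotSMulTop x M) = n := by
      have := Groth.Agent.Lib.Helper28.idealDepth_quotSMulTop_add_one
        (IsLocalRing.maximalIdeal A) M hIM x hx hreg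
      change LocCoh.depth A (QuotSMulTop x M) + 1 = LocCoh.depth A M at this
      rw [hd] at this
      have h2 : LocCoh.depth A (QuotSMulTop x M) + 1 = (n : ℕ∞) + 1 := by
        rw [this]; push_cast; rfl
      exact ENat.add_left_injective_of_ne_top (by norm_num : (1 : ℕ∞) ≠ ⊤) h2
    obtain ⟨ih1, ih2⟩ := ih (QuotSMulTop x M) hd'
    have hvan : ∀ δ : ℕ, δ < n + 1 → Subsingleton (Dual.inD A M ⟶ ω⟦(-(δ : ℤ))⟧) := by
      intro δ hδ
      apply subsingleton_of_regular ω hω M x hx hreg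
      rcases Nat.eq_zero_or_pos δ with rfl | hpos
      · exact subsingleton_pos ω hω hn _ _ (by norm_num)
      · have : (-(δ : ℤ)) + 1 = -((δ - 1 : ℕ) : ℤ) := by
          rw [Nat.cast_sub hpos]; ring
        rw [this]
        exact ih1 (δ - 1) (by omega)
    refine ⟨hvan, ?_⟩
    have hf : Function.Injective (LinearMap.lsmul A M x) := hreg
    have hg := Submodule.mkQ_surjective (x • (⊤ : Submodule A M))
    have hex := LinearMap.exact_lsmul_mkQ_smul_top M x
    exact nontrivial_of_conn (LinearMap.lsmul A M x) _ hex hf hg ω (-((n + 1 : ℕ) : ℤ)) (-(n : ℤ))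
      (by push_cast; ring) (hvan n (by omega)) ih2

end Main

end Groth.Agent.Lib.Seat8.DepthDual
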