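import Mathlib
import Groth.Prelude.Def_DDual2
import Groth.Prelude.Def_CAlg
import Groth.Agent.Lib.Seat8DepthDual

set_option autoImplicit false
set_option linter.unusedSectionVars false
universe u
open CategoryTheory CategoryTheory.Limits Pretriangulated
open scoped Pointwise

attribute [local instance] HasDerivedCategory.standard

namespace Groth.Agent.Lib.Seat8.DimDual

open DerivedCategory Groth.Agent.Lib.Seat8.Bidual Groth.Agent.Lib.Seat8.DepthDual

section Aux

lemma lt_of_add_one_lt (s : WithBot ℕ∞) (d : ℕ) (h : s + 1 < ((d + 1 : ℕ) : WithBot ℕ∞)) :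
    s < (d : WithBot ℕ∞) := by
  induction s using WithBot.recBotCoe with
  | bot => exact WithBot.bot_lt_coe _
  | coe k =>
    induction k using ENat.recTopCoe with
    | top =>
      exfalso
      have : ((⊤ : ℕ∞) : WithBot ℕ∞) + 1 = ((⊤ : ℕ∞) : WithBot ℕ∞) := rfl
      rw [this] at h
      exact absurd (WithBot.coe_lt_coe.mp h) (by simp)
    | coe n =>
      have h' : ((n + 1 : ℕ) : WithBot ℕ∞) < ((d + 1 : ℕ) : WithBot ℕ∞) := by
        push_cast
        exact h
      have h2 : n + 1 < d + 1 := by exact_mod_cast h'
      have h3 : n < d := by omega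
      exact_mod_cast h3

variable {A : Type u} [CommRing A]

lemma subsingleton_hom_of_subsingleton (M : Type u) [AddCommGroup M] [Module A M]
    [Subsingleton M] (L : Dual.D A) : Subsingleton (Dual.inD A M ⟶ L) := by
  have hz : IsZero (Dual.inD A M) :=
    (DerivedCategory.singleFunctor (ModuleCat.{u} A) 0).map_isZero
      (ModuleCat.isZero_of_subsingleton (ModuleCat.of A M))
  exact ⟨fun f g => hz.eq_of_src _ _⟩

lemma subsingleton_hom_of_equiv {M N : Type u} [AddCommGroup M] [Module A M] [AddCommGroup N]
    [Module A N] (e : M ≃ₗ[A] N) (L : Dual.D A) (h : Subsingleton (Dual.inD A N ⟶ L)) :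
    Subsingleton (Dual.inD A M ⟶ L) := by
  let e'' : Dual.inD A M ≅ Dual.inD A N :=
    (DerivedCategory.singleFunctor (ModuleCat.{u} A) 0).mapIso e.toModuleIso
  exact (Iso.homCongr e'' (Iso.refl L)).subsingleton

end Aux

section Main

variable {A : Type u} [CommRing A] [IsLocalRing A] [IsNoetherianRing A]
  (ω : Dual.D A) (hω : Dual.IsDualizing A ω) (hn : Dual.IsNormalized A ω)

include hω hn in
/-- `Ext^i(M, ω) = 0` for `i ≤ -d` when `dim Supp M < d` -/
theorem subsingleton_of_supportDim_lt (d : ℕ) : ∀ (M : Type u) [AddCommGroup M] [Module A M]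
    [Module.Finite A M], Module.supportDim A M < (d : WithBot ℕ∞) → ∀ i : ℤ, i ≤ -(d : ℤ) →
    Subsingleton (Dual.inD A M ⟶ ω⟦i⟧) := by
  induction d with
  | zero =>
    intro M _ _ _ hlt i _
    have hsub : Subsingleton M := by
      by_contra h
      rw [not_subsingleton_iff_nontrivial] at h
      have h0 := Module.supportDim_ne_bot_of_nontrivial A M
      rcases hs : Module.supportDim A M with _ | k
      · exact h0 hs
      · rw [hs] at hlt
        have : (k : WithBot ℕ∞) < ((0 : ℕ∞) : WithBot ℕ∞) := hlt
        exact absurd (WithBot.coe_lt_coe.mp this) (by simp)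
    exact subsingleton_hom_of_subsingleton M _
  | succ d ih =>
    intro M _ _ hfin
    induction hfin using IsNoetherianRing.induction_on_isQuotientEquivQuotientPrime A with
    | subsingleton N =>
      intro _ i _
      exact subsingleton_hom_of_subsingleton N _
    | quotient N p e =>
      intro hlt i hi
      apply subsingleton_hom_of_equiv e
      by_cases hp : p.asIdeal = IsLocalRing.maximalIdeal A
      · apply subsingleton_hom_of_equiv (Submodule.quotEquivOfEq _ _ hp)
        exact hn i (by omega)
      · obtain ⟨x, hxm, hxp⟩ : ∃ x ∈ IsLocalRing.maximalIdeal A, x ∉ p.asIdeal := by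
          by_contra hcon
          push Not at hcon
          exact hp (le_antisymm (IsLocalRing.le_maximalIdeal p.2.ne_top) hcon)
        have hreg : IsSMulRegular (A ⧸ p.asIdeal) x := by
          intro y z hyz
          have h1 : Ideal.Quotient.mk p.asIdeal x * y = Ideal.Quotient.mk p.asIdeal x * z := hyz
          have h0 : Ideal.Quotient.mk p.asIdeal x ≠ 0 := by
            rw [Ne, Ideal.Quotient.eq_zero_iff_mem]
            exact hxp
          exact mul_left_cancel₀ h0 h1
        apply subsingleton_of_regular ω hω (A ⧸ p.asIdeal) x hxm hreg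
        apply ih
        · apply lt_of_add_one_lt
          rw [Module.supportDim_quotSMulTop_succ_eq_supportDim hreg hxm,
            ← Module.supportDim_eq_of_equiv e]
          exact hlt
        · push_cast at hi
          omega
    | exact N₁ N₂ N₃ f g hf hg hfg h1 h3 =>
      intro hlt i hi
      have hS := sesE_shortExact f g hfg hf hg
      exact Groth.Agent.Lib.Seat8.Bass.subsingleton_mid hS.singleTriangle
        hS.singleTriangle_distinguished (ω⟦i⟧)
        (h1 (lt_of_le_of_lt (Module.supportDim_le_of_injective f hf) hlt) i hi)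
        (h3 (lt_of_le_of_lt (Module.supportDim_le_of_surjective g hg) hlt) i hi)

end Main

end Groth.Agent.Lib.Seat8.DimDual
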