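import Mathlib
import Groth.Agent.Lib.Seat8SingleDeg
import Groth.Agent.Lib.Seat8DualBC

/-!
# Dualizing complexes over Artinian local rings and at minimal primes (seat 8)

* `existsUnique_nontrivial_HD`: over an Artinian local ring, a dualizing complex has exactly one nonzero
  cohomology module.
* `isDualizing_extD_localization`: the localization of a dualizing complex is dualizing.
-/

set_option autoImplicit false
universe u
open CategoryTheory CategoryTheory.Limits Pretriangulated
attribute [local instance] HasDerivedCategory.standard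
open DerivedCategory Groth.Agent.S14388
open Groth.Agent.Lib.Helper1.Extend
open Groth.Agent.Lib.Seat8.DualBC
open scoped TensorProduct

namespace Groth.Agent.Lib.Seat8.MinPrime

section Artinian

variable {R : Type u} [CommRing R] [IsLocalRing R] [IsArtinianRing R]

/-- over an Artinian local ring, a dualizing complex has exactly one nonzero cohomology module -/
theorem existsUnique_nontrivial_HD (Ω : Dual.D R) (hΩ : Dual.IsDualizing R Ω) :
    ∃! i : ℤ, Nontrivial (Dual.HD R Ω i) := by
  have hN := hΩ.isNoetherianRing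
  obtain ⟨a, b, hGE, hLE⟩ := exists_isGE_of_isDualizing Ω hΩ
  have hsub : ∀ i : ℤ, ¬ Nontrivial (Dual.HD R Ω i) → IsZero
      ((homologyFunctor (ModuleCat.{u} R) i).obj Ω) := fun i hi => by
    have : Subsingleton (Dual.HD R Ω i) := not_nontrivial_iff_subsingleton.1 hi
    exact ModuleCat.isZero_of_subsingleton _
  have hlow : ∀ z : ℤ, Nontrivial (Dual.HD R Ω z) → a ≤ z := fun z hz => by
    by_contra hlt
    have h0 := (DerivedCategory.isGE_iff Ω a).1 hGE z (by omega)
    have := ModuleCat.subsingleton_of_isZero h0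
    exact not_subsingleton (Dual.HD R Ω z) this
  have hhigh : ∀ z : ℤ, Nontrivial (Dual.HD R Ω z) → z ≤ b := fun z hz => by
    by_contra hlt
    have h0 := (DerivedCategory.isLE_iff Ω b).1 hLE z (by omega)
    have := ModuleCat.subsingleton_of_isZero h0
    exact not_subsingleton (Dual.HD R Ω z) this
  -- some cohomology module is nonzero
  have hex : ∃ z : ℤ, Nontrivial (Dual.HD R Ω z) := by
    by_contra hcon
    push Not at hcon
    have hle : Ω.IsLE (a - 1) := (DerivedCategory.isLE_iff Ω (a - 1)).2
      (fun i _ => hsub i (not_nontrivial_iff_subsingleton.2 (hcon i)))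
    have hz : IsZero Ω := tt.isZero Ω (a - 1) a (by omega)
    have h1 : (1 : R) • 𝟙 Ω = (0 : R) • 𝟙 Ω := hz.eq_of_src _ _
    exact one_ne_zero (hΩ.toEnd_bijective.1 h1)
  obtain ⟨n, hn, hnmin⟩ := Int.exists_least_of_bdd ⟨a, hlow⟩ hex
  obtain ⟨m, hm, hmmax⟩ := Int.exists_greatest_of_bdd ⟨b, hhigh⟩ hex
  have hnm : n ≤ m := hnmin m hm
  suffices hkey : n = m by
    refine ⟨n, hn, fun i hi => ?_⟩
    have h1 := hnmin i hi
    have h2 := hmmax i hi
    omega
  by_contra hne
  have hlt : n < m := lt_of_le_of_ne hnm hne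
  have hGEn : Ω.IsGE n := (DerivedCategory.isGE_iff Ω n).2 (fun i hi => hsub i (fun h => by
    have := hnmin i h
    omega))
  have hLEm : Ω.IsLE m := (DerivedCategory.isLE_iff Ω m).2 (fun i hi => hsub i (fun h => by
    have := hmmax i h
    omega))
  have hXLE : (Ω⟦m - n⟧).IsLE n := tt.isLE_shift Ω m (m - n) n (by omega)
  -- the modules
  let eH : (homologyFunctor (ModuleCat.{u} R) n).obj (Ω⟦m - n⟧) ≅
      (homologyFunctor (ModuleCat.{u} R) m).obj Ω :=
    ((homologyFunctor (ModuleCat.{u} R) 0).shiftIso (m - n) n m (by omega)).app Ω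
  have hM1 : Module.Finite R ((homologyFunctor (ModuleCat.{u} R) n).obj (Ω⟦m - n⟧)) := by
    have := hΩ.finite_cohomology m
    exact Module.Finite.equiv eH.symm.toLinearEquiv
  have hM2 : Nontrivial ((homologyFunctor (ModuleCat.{u} R) n).obj (Ω⟦m - n⟧)) :=
    eH.toLinearEquiv.toEquiv.nontrivial
  have hN2 : Nontrivial ((homologyFunctor (ModuleCat.{u} R) n).obj Ω) := hn
  obtain ⟨f, hf⟩ := Groth.Agent.Lib.Seat8.SingleDeg.exists_linearMap_ne_zero (R := R)
    ((homologyFunctor (ModuleCat.{u} R) n).obj (Ω⟦m - n⟧))
    ((homologyFunctor (ModuleCat.{u} R) n).obj Ω)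
  obtain ⟨g, hg⟩ := Groth.Agent.Lib.Seat8.SingleDeg.exists_hom_ne_zero (Ω⟦m - n⟧) Ω n hXLE hGEn
    (ModuleCat.ofHom f) (fun h0 => hf (by
      have := congrArg ModuleCat.Hom.hom h0
      simpa using this))
  -- but `Hom(Ω[m-n], Ω) = 0`
  have hsubs := hΩ.ext_self_subsingleton (n - m) (by omega)
  apply hg
  apply (shiftFunctor (Dual.D R) (n - m)).map_injective
  let e : Ω ≅ (Ω⟦m - n⟧)⟦n - m⟧ :=
    ((shiftFunctorCompIsoId (Dual.D R) (m - n) (n - m) (by omega)).app Ω).symm
  rw [← cancel_epi e.hom]
  exact hsubs.elim _ _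

end Artinian

section Localization

variable {A : Type u} [CommRing A]

/-- the localization of a dualizing complex is a dualizing complex -/
theorem isDualizing_extD_localization [IsNoetherianRing A] (S : Submonoid A) (ω : Dual.D A)
    (hω : Dual.IsDualizing A ω) :
    haveI : Module.Flat A (Localization S) := IsLocalization.flat (Localization S) S
    Dual.IsDualizing (Localization S) ((extD A (Localization S)).obj ω) := by
  haveI : Module.Flat A (Localization S) := IsLocalization.flat (Localization S) S
  have hN : IsNoetherianRing (Localization S) := IsLocalization.isNoetherianRing S _ inferInstance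
  refine isDualizing_extD ω hω (fun J => ⟨J.under A, ⟨?_⟩⟩)
  have h1 : Ideal.map (algebraMap A (Localization S)) (J.under A) = J :=
    IsLocalization.map_under S (Localization S) J
  exact (Submodule.quotEquivOfEq _ _ h1.symm).trans
    (Ideal.qoutMapEquivTensorQout (Localization S) (I := J.under A))

end Localization

end Groth.Agent.Lib.Seat8.MinPrime
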