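import Mathlib
import Groth.Prelude.Def_DDual2
import Groth.Agent.Lib.Seat8DimDual
import Groth.Agent.Lib.Seat8MinPrime
import Groth.Agent.Lib.Seat14FinLenEquiv

set_option autoImplicit false
set_option linter.unusedSectionVars false
universe u
open CategoryTheory CategoryTheory.Limits Pretriangulated
open scoped Pointwise TensorProduct

attribute [local instance] HasDerivedCategory.standard

namespace Groth.Agent.Lib.Seat8.DimFn

open DerivedCategory Groth.Agent.Lib.Seat8.Bidual Groth.Agent.Lib.Seat8.DepthDual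
  Groth.Agent.Lib.Seat8.DimDual Groth.Agent.Lib.Helper1.Extend Groth.Agent.Lib.Seat8.FBC
  Groth.Agent.Lib.Seat8.DualBC

section Loc

variable {A : Type u} [CommRing A] [IsNoetherianRing A] (S : Submonoid A)

/-- flat base change of `Ext^j(A/I, ω)` to a localization -/
theorem nonempty_equiv_localization (ω : Dual.D A) (hω : Dual.IsDualizing A ω) (I : Ideal A)
    (j : ℤ) :
    Nonempty ((Localization S ⊗[A] (Dual.inD A (A ⧸ I) ⟶ ω⟦j⟧)) ≃ₗ[Localization S]
      (Dual.inD (Localization S) (Localization S ⧸ I.map (algebraMap A (Localization S))) ⟶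
        ((extD A (Localization S)).obj ω)⟦j⟧)) := by
  obtain ⟨a, b, hab⟩ := hω.finite_injective_dimension
  obtain ⟨hGE, hLE⟩ := isGE_isLE_of_finiteInjDim ω a b hab
  have hsh : (ω⟦j⟧).IsGE (a - j) :=
    DerivedCategory.TStructure.t.isGE_shift ω a j (a - j) (by omega)
  have hBC : BC (Localization S) (Dual.inD A (A ⧸ I)) (ω⟦j⟧) :=
    BC_of_pseudoCoherent _ _ (a - j) hsh (fun m => isPC_inD (A ⧸ I) m)
  let e1 : (extD A (Localization S)).obj (Dual.inD A (A ⧸ I)) ≅
      Dual.inD (Localization S) (Localization S ⧸ I.map (algebraMap A (Localization S))) :=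
    extDInDIso (A := A) (B := Localization S) (A ⧸ I) ≪≫
      (DerivedCategory.singleFunctor (ModuleCat.{u} (Localization S)) 0).mapIso
        (Ideal.qoutMapEquivTensorQout (Localization S) (I := I)).symm.toModuleIso
  let e2 : (extD A (Localization S)).obj (ω⟦j⟧) ≅ ((extD A (Localization S)).obj ω)⟦j⟧ :=
    ((extD A (Localization S)).commShiftIso j).app ω
  exact ⟨(LinearEquiv.ofBijective (cmp (Localization S) (Dual.inD A (A ⧸ I)) (ω⟦j⟧)) hBC).trans
    (Linear.homCongr (Localization S) e1 e2)⟩

end Loc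


section Degree

variable {A : Type u} [CommRing A] [IsNoetherianRing A]

/-- transfer between the localized `Ext` module at `p` and `Ext` over `A_p` of the residue field -/
theorem nonempty_equiv_atPrime (ω : Dual.D A) (hω : Dual.IsDualizing A ω) (p : Ideal A)
    [hp : p.IsPrime] (j : ℤ) :
    Nonempty (LocalizedModule p.primeCompl (Dual.inD A (A ⧸ p) ⟶ ω⟦j⟧) ≃
      (Dual.inD (Localization.AtPrime p)
        (Localization.AtPrime p ⧸ IsLocalRing.maximalIdeal (Localization.AtPrime p)) ⟶
        ((extD A (Localization.AtPrime p)).obj ω)⟦j⟧)) := by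
  obtain ⟨E1⟩ := nonempty_equiv_localization p.primeCompl ω hω p j
  let E0 := LocalizedModule.equivTensorProduct p.primeCompl (Dual.inD A (A ⧸ p) ⟶ ω⟦j⟧)
  have hmap : p.map (algebraMap A (Localization.AtPrime p)) =
      IsLocalRing.maximalIdeal (Localization.AtPrime p) :=
    Localization.AtPrime.map_eq_maximalIdeal
  let e3 : Dual.inD (Localization.AtPrime p)
      (Localization.AtPrime p ⧸ p.map (algebraMap A (Localization.AtPrime p))) ≅
      Dual.inD (Localization.AtPrime p)
        (Localization.AtPrime p ⧸ IsLocalRing.maximalIdeal (Localization.AtPrime p)) :=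
    (DerivedCategory.singleFunctor (ModuleCat.{u} (Localization.AtPrime p)) 0).mapIso
      (Submodule.quotEquivOfEq _ _ hmap).toModuleIso
  exact ⟨E0.toEquiv.trans (E1.toEquiv.trans (Iso.homCongr e3 (Iso.refl _)))⟩

/-- **the degree of a dualizing complex at a prime** -/
theorem exists_degree (ω : Dual.D A) (hω : Dual.IsDualizing A ω) (p : Ideal A) [hp : p.IsPrime] :
    ∃ n : ℤ, (∀ j : ℤ, Nontrivial (LocalizedModule p.primeCompl (Dual.inD A (A ⧸ p) ⟶ ω⟦j⟧)) ↔
        j = n) ∧
      (∀ j : ℤ, j ≠ n → Subsingleton (Dual.inD (Localization.AtPrime p)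
        (Localization.AtPrime p ⧸ IsLocalRing.maximalIdeal (Localization.AtPrime p)) ⟶
        ((extD A (Localization.AtPrime p)).obj ω)⟦j⟧)) := by
  have hωB : Dual.IsDualizing (Localization.AtPrime p) ((extD A (Localization.AtPrime p)).obj ω) :=
    Groth.Agent.Lib.Seat8.MinPrime.isDualizing_extD_localization p.primeCompl ω hω
  have := hωB.isNoetherianRing
  obtain ⟨n, h1, ⟨L0⟩⟩ := Groth.Agent.S0364.result (Localization.AtPrime p) _ hωB
    (IsLocalRing.maximalIdeal (Localization.AtPrime p))
  refine ⟨n, fun j => ?_, h1⟩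
  obtain ⟨E⟩ := nonempty_equiv_atPrime ω hω p j
  constructor
  · intro hnt
    by_contra hj
    have := h1 j hj
    have : Subsingleton (LocalizedModule p.primeCompl (Dual.inD A (A ⧸ p) ⟶ ω⟦j⟧)) :=
      E.subsingleton
    exact not_subsingleton _ this
  · rintro rfl
    have h3 : Nontrivial (Localization.AtPrime p ⧸
        IsLocalRing.maximalIdeal (Localization.AtPrime p)) :=
      Ideal.Quotient.nontrivial_iff.mpr (IsLocalRing.maximalIdeal.isMaximal _).ne_top
    have : Nontrivial (Dual.inD (Localization.AtPrime p)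
        (Localization.AtPrime p ⧸ IsLocalRing.maximalIdeal (Localization.AtPrime p)) ⟶
        ((extD A (Localization.AtPrime p)).obj ω)⟦j⟧) := L0.toEquiv.nontrivial
    exact E.nontrivial

end Degree


section Step

variable {B : Type u} [CommRing B] [IsLocalRing B] [IsNoetherianRing B]

/-- if `m` is the only prime strictly containing `P` and `x ∈ m \ P`, then `(B/P)/x` has finite
length -/
theorem isFiniteLength_quotSMulTop (P : Ideal B) [hP : P.IsPrime]
    (hcov : ∀ K : Ideal B, K.IsPrime → P ≤ K → K ≠ P → K = IsLocalRing.maximalIdeal B)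
    (x : B) (hxP : x ∉ P) : IsFiniteLength B (QuotSMulTop x (B ⧸ P)) := by
  have hrad : IsLocalRing.maximalIdeal B ≤ (P ⊔ Ideal.span {x}).radical := by
    rw [Ideal.radical_eq_sInf]
    refine le_sInf ?_
    rintro K ⟨hJK, hK⟩
    have hPK : P ≤ K := le_sup_left.trans hJK
    have hxK : x ∈ K := hJK (Ideal.mem_sup_right (Ideal.mem_span_singleton_self x))
    have hne : K ≠ P := by
      rintro rfl
      exact hxP hxK
    rw [hcov K hK hPK hne]
  obtain ⟨k, hk⟩ := Ideal.exists_pow_le_of_le_radical_of_fg hrad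
    (IsNoetherian.noetherian (IsLocalRing.maximalIdeal B))
  have hann : P ⊔ Ideal.span {x} ≤ Module.annihilator B (QuotSMulTop x (B ⧸ P)) := by
    refine sup_le ?_ ?_
    · intro u hu
      rw [Module.mem_annihilator]
      intro q
      obtain ⟨y, rfl⟩ := Submodule.mkQ_surjective _ q
      obtain ⟨b, rfl⟩ := Ideal.Quotient.mk_surjective y
      rw [← map_smul]
      have : u • (Ideal.Quotient.mk P b) = 0 := by
        change Ideal.Quotient.mk P (u * b) = 0
        exact Ideal.Quotient.eq_zero_iff_mem.mpr (Ideal.mul_mem_right _ _ hu)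
      rw [this, map_zero]
    · rw [Ideal.span_le, Set.singleton_subset_iff]
      change x ∈ Module.annihilator B (QuotSMulTop x (B ⧸ P))
      rw [Module.mem_annihilator]
      intro q
      obtain ⟨y, rfl⟩ := Submodule.mkQ_surjective _ q
      rw [← map_smul, Submodule.mkQ_apply, Submodule.Quotient.mk_eq_zero]
      exact Submodule.smul_mem_pointwise_smul _ _ _ Submodule.mem_top
  apply Groth.Agent.Lib.Seat14.FinLenEquiv.isFiniteLength_of_finite_of_pow_smul _ k
  intro a ha q
  exact Module.mem_annihilator.mp (hann (hk ha)) q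

/-- **the inductive step**: if `Ext^j(κ, ω) = 0` for `j ≠ n` and `m` is the only prime strictly
containing `P ≠ m`, then `Ext^j(B/P, ω) = 0` for `j ≠ n - 1` -/
theorem subsingleton_ext_quot_prime (ω : Dual.D B) (hω : Dual.IsDualizing B ω) (n : ℤ)
    (hn : ∀ j : ℤ, j ≠ n → Subsingleton
      (Dual.inD B (B ⧸ IsLocalRing.maximalIdeal B) ⟶ ω⟦j⟧))
    (P : Ideal B) [hP : P.IsPrime] (hPm : P ≠ IsLocalRing.maximalIdeal B)
    (hcov : ∀ K : Ideal B, K.IsPrime → P ≤ K → K ≠ P → K = IsLocalRing.maximalIdeal B)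
    (j : ℤ) (hj : j + 1 ≠ n) : Subsingleton (Dual.inD B (B ⧸ P) ⟶ ω⟦j⟧) := by
  obtain ⟨x, hxm, hxP⟩ : ∃ x ∈ IsLocalRing.maximalIdeal B, x ∉ P := by
    by_contra hcon
    push Not at hcon
    exact hPm (le_antisymm (IsLocalRing.le_maximalIdeal hP.ne_top) hcon)
  have hreg : IsSMulRegular (B ⧸ P) x := by
    intro y z hyz
    have h1 : Ideal.Quotient.mk P x * y = Ideal.Quotient.mk P x * z := hyz
    have h0 : Ideal.Quotient.mk P x ≠ 0 := by
      rw [Ne, Ideal.Quotient.eq_zero_iff_mem]
      exact hxP
    exact mul_left_cancel₀ h0 h1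
  apply subsingleton_of_regular ω hω (B ⧸ P) x hxm hreg
  exact Groth.Agent.Lib.Seat8.DimZero.subsingleton_of_isFiniteLength ω (j + 1) (hn (j + 1) hj) _
    (isFiniteLength_quotSMulTop P hcov x hxP)

end Step


section Cover

variable {A : Type u} [CommRing A] [IsNoetherianRing A]

/-- the degree of `ω` at the prime `p` -/
noncomputable def deg (ω : Dual.D A) (hω : Dual.IsDualizing A ω) (p : PrimeSpectrum A) : ℤ :=
  (exists_degree ω hω p.asIdeal).choose

theorem deg_spec (ω : Dual.D A) (hω : Dual.IsDualizing A ω) (p : PrimeSpectrum A) (j : ℤ) :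
    Nontrivial (LocalizedModule p.asIdeal.primeCompl (Dual.inD A (A ⧸ p.asIdeal) ⟶ ω⟦j⟧)) ↔
      j = deg ω hω p :=
  (exists_degree ω hω p.asIdeal).choose_spec.1 j

theorem deg_spec' (ω : Dual.D A) (hω : Dual.IsDualizing A ω) (p : PrimeSpectrum A) (j : ℤ)
    (hj : j ≠ deg ω hω p) :
    Subsingleton (Dual.inD (Localization.AtPrime p.asIdeal)
        (Localization.AtPrime p.asIdeal ⧸
          IsLocalRing.maximalIdeal (Localization.AtPrime p.asIdeal)) ⟶
        ((extD A (Localization.AtPrime p.asIdeal)).obj ω)⟦j⟧) :=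
  (exists_degree ω hω p.asIdeal).choose_spec.2 j hj

/-- **the dimension function property**: if `q` covers `p` then `deg p + 1 = deg q` -/
theorem deg_covBy (ω : Dual.D A) (hω : Dual.IsDualizing A ω) (p q : PrimeSpectrum A)
    (hpq : p ⋖ q) : deg ω hω p + 1 = deg ω hω q := by
  by_contra hne
  have hle : p.asIdeal ≤ q.asIdeal := hpq.1.le
  have hdisj : Disjoint (q.asIdeal.primeCompl : Set A) (p.asIdeal : Set A) := by
    rw [Set.disjoint_left]
    intro a ha hap
    exact ha (hle hap)
  have hωB : Dual.IsDualizing (Localization.AtPrime q.asIdeal)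
      ((extD A (Localization.AtPrime q.asIdeal)).obj ω) :=
    Groth.Agent.Lib.Seat8.MinPrime.isDualizing_extD_localization q.asIdeal.primeCompl ω hω
  have := hωB.isNoetherianRing
  have hP : (p.asIdeal.map (algebraMap A (Localization.AtPrime q.asIdeal))).IsPrime :=
    IsLocalization.isPrime_of_isPrime_disjoint q.asIdeal.primeCompl _ _ p.2 hdisj
  have hcomapP : (p.asIdeal.map (algebraMap A (Localization.AtPrime q.asIdeal))).comap
      (algebraMap A (Localization.AtPrime q.asIdeal)) = p.asIdeal :=
    IsLocalization.under_map_of_isPrime_disjoint q.asIdeal.primeCompl _ p.2 hdisj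
  have hmapq : q.asIdeal.map (algebraMap A (Localization.AtPrime q.asIdeal)) =
      IsLocalRing.maximalIdeal (Localization.AtPrime q.asIdeal) :=
    Localization.AtPrime.map_eq_maximalIdeal
  have hcomapq : (IsLocalRing.maximalIdeal (Localization.AtPrime q.asIdeal)).comap
      (algebraMap A (Localization.AtPrime q.asIdeal)) = q.asIdeal :=
    Localization.AtPrime.under_maximalIdeal
  have hPm : p.asIdeal.map (algebraMap A (Localization.AtPrime q.asIdeal)) ≠
      IsLocalRing.maximalIdeal (Localization.AtPrime q.asIdeal) := by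
    intro h
    have : p.asIdeal = q.asIdeal := by rw [← hcomapP, h, hcomapq]
    exact hpq.1.ne (PrimeSpectrum.ext this)
  have hcov : ∀ K : Ideal (Localization.AtPrime q.asIdeal), K.IsPrime →
      p.asIdeal.map (algebraMap A (Localization.AtPrime q.asIdeal)) ≤ K →
      K ≠ p.asIdeal.map (algebraMap A (Localization.AtPrime q.asIdeal)) →
      K = IsLocalRing.maximalIdeal (Localization.AtPrime q.asIdeal) := by
    intro K hK hPK hKP
    have hK' : (K.comap (algebraMap A (Localization.AtPrime q.asIdeal))).IsPrime :=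
      Ideal.comap_isPrime _ K
    have hKq : K.comap (algebraMap A (Localization.AtPrime q.asIdeal)) ≤ q.asIdeal :=
      (Ideal.comap_mono (IsLocalRing.le_maximalIdeal hK.ne_top)).trans hcomapq.le
    have hpK : p.asIdeal ≤ K.comap (algebraMap A (Localization.AtPrime q.asIdeal)) := by
      rw [← hcomapP]
      exact Ideal.comap_mono hPK
    have hmc : (K.comap (algebraMap A (Localization.AtPrime q.asIdeal))).map
        (algebraMap A (Localization.AtPrime q.asIdeal)) = K :=
      IsLocalization.map_under q.asIdeal.primeCompl _ K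
    have hne' : K.comap (algebraMap A (Localization.AtPrime q.asIdeal)) ≠ p.asIdeal := by
      intro h
      apply hKP
      rw [← hmc, h]
    let c : PrimeSpectrum A := ⟨K.comap (algebraMap A (Localization.AtPrime q.asIdeal)), hK'⟩
    have hpc : p < c := lt_of_le_of_ne hpK (fun h => hne' (congrArg PrimeSpectrum.asIdeal h).symm)
    have hcq : c ≤ q := hKq
    have hceq : c = q := by
      by_contra h
      exact hpq.2 hpc (lt_of_le_of_ne hcq h)
    rw [← hmc, ← hmapq]
    exact congrArg (Ideal.map _) (congrArg PrimeSpectrum.asIdeal hceq)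
  -- `Ext^j_B(B/P, ω_B) = 0` for `j + 1 ≠ deg q`
  have h2 := subsingleton_ext_quot_prime ((extD A (Localization.AtPrime q.asIdeal)).obj ω) hωB
    (deg ω hω q) (deg_spec' ω hω q)
    (p.asIdeal.map (algebraMap A (Localization.AtPrime q.asIdeal))) hPm hcov (deg ω hω p) hne
  obtain ⟨E⟩ := nonempty_equiv_localization q.asIdeal.primeCompl ω hω p.asIdeal (deg ω hω p)
  have h3 : Subsingleton (LocalizedModule q.asIdeal.primeCompl
      (Dual.inD A (A ⧸ p.asIdeal) ⟶ ω⟦deg ω hω p⟧)) :=
    ((LocalizedModule.equivTensorProduct q.asIdeal.primeCompl _).toEquiv.trans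
      E.toEquiv).subsingleton
  have h4 : q ∉ Module.support A (Dual.inD A (A ⧸ p.asIdeal) ⟶ ω⟦deg ω hω p⟧) := by
    rw [Module.mem_support_iff]
    exact not_nontrivial_iff_subsingleton.mpr h3
  have h5 : p ∈ Module.support A (Dual.inD A (A ⧸ p.asIdeal) ⟶ ω⟦deg ω hω p⟧) := by
    rw [Module.mem_support_iff]
    exact (deg_spec ω hω p _).mpr rfl
  exact h4 (Module.mem_support_mono hpq.1.le h5)

end Cover

end Groth.Agent.Lib.Seat8.DimFn
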