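import Mathlib
import Groth.Prelude.Def_DDual2
import Groth.Agent.Lib.Seat8DimFn

set_option autoImplicit false
universe u
open CategoryTheory CategoryTheory.Limits Pretriangulated

attribute [local instance] HasDerivedCategory.standard

namespace Groth.Agent.Lib.Seat8.DimFn2
open Groth.Agent.Lib.Seat8.DimFn

section Order

variable {A : Type u} [CommRing A] [IsNoetherianRing A]

lemma wellFoundedGT_primeSpectrum : WellFoundedGT (PrimeSpectrum A) :=
  StrictMono.wellFoundedGT (f := fun p : PrimeSpectrum A => p.asIdeal)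
    (fun _ _ h => PrimeSpectrum.asIdeal_lt_asIdeal _ _ |>.mpr h)

lemma wellFoundedLT_primeSpectrum : WellFoundedLT (PrimeSpectrum A) :=
  StrictMono.wellFoundedLT (f := fun p : PrimeSpectrum A => p.asIdeal.height)
    (fun p q h => by
      have := p.2
      exact Ideal.height_strict_mono_of_isPrime ((PrimeSpectrum.asIdeal_lt_asIdeal _ _).mpr h))

theorem deg_strictMono (ω : Dual.D A) (hω : Dual.IsDualizing A ω) : StrictMono (deg ω hω) := by
  have h1 := wellFoundedGT_primeSpectrum (A := A)
  have h2 := wellFoundedLT_primeSpectrum (A := A)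
  have h3 : IsStronglyAtomic (PrimeSpectrum A) := IsStronglyAtomic.of_wellFounded_lt h2.wf
  intro p
  induction p using h1.induction with
  | _ p ih =>
    intro q hpq
    obtain ⟨r, hpr, hrq⟩ := exists_covBy_le_of_lt hpq
    have hd := deg_covBy ω hω p r hpr
    rcases hrq.eq_or_lt with rfl | hlt
    · omega
    · have := ih r hpr.lt hlt
      omega

end Order


section Dim

variable {A : Type u} [CommRing A] [IsNoetherianRing A]

theorem deg_mem (ω : Dual.D A) (hω : Dual.IsDualizing A ω) (a b : ℤ)
    (hab : ∀ (M : Type u) [AddCommGroup M] [Module A M] (i : ℤ),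
      (i < a ∨ b < i) → Subsingleton (Dual.inD A M ⟶ ω⟦i⟧)) (p : PrimeSpectrum A) :
    a ≤ deg ω hω p ∧ deg ω hω p ≤ b := by
  by_contra h
  have hsub := hab (A ⧸ p.asIdeal) (deg ω hω p) (by omega)
  have hnt := (deg_spec ω hω p _).mpr rfl
  have hmem : p ∈ Module.support A (Dual.inD A (A ⧸ p.asIdeal) ⟶ ω⟦deg ω hω p⟧) :=
    Module.mem_support_iff.mpr hnt
  rw [Module.support_eq_empty] at hmem
  exact hmem

theorem ringKrullDim_lt_top (ω : Dual.D A) (hω : Dual.IsDualizing A ω) : ringKrullDim A < ⊤ := by
  obtain ⟨a, b, hab⟩ := hω.finite_injective_dimension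
  have key : ∀ l : LTSeries (PrimeSpectrum A), (l.length : ℤ) ≤ b - a := by
    intro l
    have h : ∀ i : Fin (l.length + 1), deg ω hω (l 0) + ((i : ℕ) : ℤ) ≤ deg ω hω (l i) := by
      intro i
      induction i using Fin.induction with
      | zero => simp
      | succ i ih =>
        have := deg_strictMono ω hω (l.step i)
        simp only [Fin.val_succ, Fin.val_castSucc] at ih ⊢
        push_cast
        omega
    have hl := h (Fin.last _)
    have h0 := deg_mem ω hω a b hab (l 0)
    have h1 := deg_mem ω hω a b hab (l (Fin.last _))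
    simp only [Fin.val_last] at hl
    omega
  have hlt : ringKrullDim A < (((b - a + 1).toNat : ℕ) : WithBot ℕ∞) := by
    rw [ringKrullDim, Order.krullDim_lt_coe_iff]
    intro l
    have := key l
    omega
  refine hlt.trans ?_
  exact WithBot.coe_lt_coe.mpr (ENat.natCast_lt_top _)

end Dim

end Groth.Agent.Lib.Seat8.DimFn2
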