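import Mathlib
import Groth.Prelude.Def_DDual2
import Groth.Agent.Lib.Seat8DimFn2
import Groth.Agent.Lib.Seat8HomSingle

set_option autoImplicit false
set_option linter.unusedSectionVars false
universe u
open CategoryTheory CategoryTheory.Limits Pretriangulated

attribute [local instance] HasDerivedCategory.standard

namespace Groth.Agent.Lib.Seat8.DimFn3
open Groth.Agent.Lib.Seat8.DimFn Groth.Agent.Lib.Seat8.DimFn2 Groth.Agent.Lib.Helper1.Extend
open scoped TensorProduct

section Series

lemma add_length_le {α : Type*} [Preorder α] (f : α → ℤ) (hf : StrictMono f) (l : LTSeries α) :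
    f l.head + (l.length : ℤ) ≤ f l.last := by
  have h : ∀ i : Fin (l.length + 1), f (l 0) + ((i : ℕ) : ℤ) ≤ f (l i) := by
    intro i
    induction i using Fin.induction with
    | zero => simp
    | succ i ih =>
      have := hf (l.step i)
      simp only [Fin.val_succ, Fin.val_castSucc] at ih ⊢
      push_cast
      omega
  have hl := h (Fin.last _)
  simp only [Fin.val_last] at hl
  exact hl

end Series

section Local

variable {A : Type u} [CommRing A] [IsLocalRing A] [IsNoetherianRing A]
  (ω : Dual.D A) (hω : Dual.IsDualizing A ω) (hn : Dual.IsNormalized A ω)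

include hn in
theorem deg_closedPoint : deg ω hω (IsLocalRing.closedPoint A) = 0 := by
  by_contra h
  have hsub : Subsingleton (Dual.inD A (A ⧸ (IsLocalRing.closedPoint A).asIdeal) ⟶
      ω⟦deg ω hω (IsLocalRing.closedPoint A)⟧) := hn _ h
  have hnt := (deg_spec ω hω (IsLocalRing.closedPoint A) _).mpr rfl
  have hmem : IsLocalRing.closedPoint A ∈ Module.support A
      (Dual.inD A (A ⧸ (IsLocalRing.closedPoint A).asIdeal) ⟶
        ω⟦deg ω hω (IsLocalRing.closedPoint A)⟧) :=
    Module.mem_support_iff.mpr hnt
  rw [Module.support_eq_empty] at hmem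
  exact hmem

include hn in
theorem deg_le_zero (p : PrimeSpectrum A) : deg ω hω p ≤ 0 := by
  rw [← deg_closedPoint ω hω hn]
  exact (deg_strictMono ω hω).monotone (IsLocalRing.le_maximalIdeal p.2.ne_top)

include hn in
theorem exists_series (n : ℕ) : ∀ r : PrimeSpectrum A, deg ω hω r = -(n : ℤ) →
    ∃ l : LTSeries (PrimeSpectrum A), l.length = n ∧ l.head = r := by
  have h2 := wellFoundedLT_primeSpectrum (A := A)
  have h3 : IsStronglyAtomic (PrimeSpectrum A) := IsStronglyAtomic.of_wellFounded_lt h2.wf
  induction n with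
  | zero =>
    intro r _
    exact ⟨RelSeries.singleton _ r, rfl, rfl⟩
  | succ n ih =>
    intro r hr
    have hne : r ≠ IsLocalRing.closedPoint A := by
      rintro rfl
      rw [deg_closedPoint ω hω hn] at hr
      push_cast at hr
      omega
    have hlt : r < IsLocalRing.closedPoint A :=
      lt_of_le_of_ne (IsLocalRing.le_maximalIdeal r.2.ne_top) hne
    obtain ⟨r', hcov, -⟩ := exists_covBy_le_of_lt hlt
    have hd := deg_covBy ω hω r r' hcov
    obtain ⟨l, hl, hhead⟩ := ih r' (by push_cast at hr; omega)
    refine ⟨l.cons r (by rw [hhead]; exact hcov.lt), ?_, ?_⟩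
    · simp [hl]
    · simp

include hn in
/-- for a normalized dualizing complex over a local ring, `deg p = - dim A/p` -/
theorem ringKrullDim_quotient_eq (p : PrimeSpectrum A) :
    ringKrullDim (A ⧸ p.asIdeal) = (((-deg ω hω p).toNat : ℕ) : WithBot ℕ∞) := by
  have hle := deg_le_zero ω hω hn p
  have hIci : PrimeSpectrum.zeroLocus (p.asIdeal : Set A) = Set.Ici p := by
    ext q
    rw [PrimeSpectrum.mem_zeroLocus, Set.mem_Ici]
    exact PrimeSpectrum.asIdeal_le_asIdeal p q
  rw [ringKrullDim_quotient, hIci, ← Order.coheight_eq_krullDim_Ici]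
  congr 1
  apply le_antisymm
  · rw [Order.coheight_le_iff']
    intro l hl
    have h1 := add_length_le (deg ω hω) (deg_strictMono ω hω) l
    have h2 := deg_le_zero ω hω hn l.last
    rw [hl] at h1
    have : l.length ≤ (-deg ω hω p).toNat := by omega
    exact_mod_cast this
  · obtain ⟨l, hl, hhead⟩ := exists_series ω hω hn (-deg ω hω p).toNat p (by
      rw [Int.toNat_of_nonneg (by omega)]
      ring)
    have := Order.length_le_coheight (x := p) (p := l) (by rw [hhead])
    rw [hl] at this
    exact this

end Local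


section MinPrime

variable {A : Type u} [CommRing A] [IsNoetherianRing A]

/-- `H^i(ω)_p ≃ H^i(ω_p)` -/
theorem nonempty_equiv_localized_HD (ω : Dual.D A) (p : Ideal A) [hp : p.IsPrime] (i : ℤ) :
    Nonempty (LocalizedModule p.primeCompl (Dual.HD A ω i) ≃
      Dual.HD (Localization.AtPrime p) ((extD A (Localization.AtPrime p)).obj ω) i) := by
  let E0 := LocalizedModule.equivTensorProduct p.primeCompl (Dual.HD A ω i)
  let e1 := homologyMapDIso (ext A (Localization.AtPrime p)) ω i
  let e2 := extIso (A := A) (B := Localization.AtPrime p) (Dual.HD A ω i)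
  exact ⟨E0.toEquiv.trans (e1 ≪≫ e2).symm.toLinearEquiv.toEquiv⟩

/-- at a prime `p` with `A_p` Artinian, `H^i(ω)_p ≠ 0` exactly for `i = deg p` -/
theorem nontrivial_localized_HD_iff (ω : Dual.D A) (hω : Dual.IsDualizing A ω) (p : Ideal A)
    [hp : p.IsPrime] [IsArtinianRing (Localization.AtPrime p)] (i : ℤ) :
    Nontrivial (LocalizedModule p.primeCompl (Dual.HD A ω i)) ↔ i = deg ω hω ⟨p, hp⟩ := by
  have hωB : Dual.IsDualizing (Localization.AtPrime p) ((extD A (Localization.AtPrime p)).obj ω) :=
    Groth.Agent.Lib.Seat8.MinPrime.isDualizing_extD_localization p.primeCompl ω hω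
  have hfl : IsFiniteLength (Localization.AtPrime p) (Localization.AtPrime p) :=
    (isArtinianRing_iff_isFiniteLength (Localization.AtPrime p)).mp inferInstance
  -- vanishing away from `deg p`
  have hvan : ∀ j : ℤ, j ≠ deg ω hω ⟨p, hp⟩ → Subsingleton
      (Dual.HD (Localization.AtPrime p) ((extD A (Localization.AtPrime p)).obj ω) j) := by
    intro j hj
    have h1 : Subsingleton (Dual.inD (Localization.AtPrime p) (Localization.AtPrime p) ⟶
        ((extD A (Localization.AtPrime p)).obj ω)⟦j⟧) :=
      Groth.Agent.Lib.Seat8.DimZero.subsingleton_of_isFiniteLength _ j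
        (deg_spec' ω hω ⟨p, hp⟩ j hj) _ hfl
    let e1 : (Dual.inD (Localization.AtPrime p) (Localization.AtPrime p) ⟶
        ((extD A (Localization.AtPrime p)).obj ω)⟦j⟧) ≃
        Dual.HD (Localization.AtPrime p) (((extD A (Localization.AtPrime p)).obj ω)⟦j⟧) 0 :=
      Equiv.ofBijective _ (Groth.Agent.Lib.Seat8.HomSingle.evD_bijective 0 _)
    let e2 : Dual.HD (Localization.AtPrime p) (((extD A (Localization.AtPrime p)).obj ω)⟦j⟧) 0
        ≃ₗ[Localization.AtPrime p]
        Dual.HD (Localization.AtPrime p) ((extD A (Localization.AtPrime p)).obj ω) j :=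
      (((DerivedCategory.homologyFunctor (ModuleCat.{u} (Localization.AtPrime p)) 0).shiftIso j 0 j
        (by omega)).app _).toLinearEquiv
    exact (e1.trans e2.toEquiv).symm.subsingleton
  obtain ⟨E⟩ := nonempty_equiv_localized_HD ω p i
  constructor
  · intro hnt
    by_contra hi
    have := hvan i hi
    have : Subsingleton (LocalizedModule p.primeCompl (Dual.HD A ω i)) := E.subsingleton
    exact not_subsingleton _ this
  · rintro rfl
    obtain ⟨k, hk, -⟩ := Groth.Agent.Lib.Seat8.MinPrime.existsUnique_nontrivial_HD _ hωB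
    have hkd : k = deg ω hω ⟨p, hp⟩ := by
      by_contra hne
      have := hvan k hne
      exact not_subsingleton _ this
    rw [hkd] at hk
    exact E.nontrivial

end MinPrime

end Groth.Agent.Lib.Seat8.DimFn3
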