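import Mathlib
import Groth.Prelude.Def_DDual2
import Groth.Agent.Lib.Seat8DimFn3

set_option autoImplicit false
set_option linter.unusedSectionVars false
universe u
open CategoryTheory CategoryTheory.Limits Pretriangulated

attribute [local instance] HasDerivedCategory.standard

namespace Groth.Agent.Lib.Seat8.DualShift

open DerivedCategory

variable {A : Type u} [CommRing A]

/-- `Hom(X, (ω[n])[i]) ≃ Hom(X, ω[n+i])` -/
noncomputable def homShiftAddEquiv (X ω : Dual.D A) (n i : ℤ) :
    (X ⟶ (ω⟦n⟧)⟦i⟧) ≃ₗ[A] (X ⟶ ω⟦n + i⟧) :=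
  Linear.homCongr A (Iso.refl X) ((shiftFunctorAdd' (Dual.D A) n i (n + i) rfl).app ω).symm

/-- a shift of a dualizing complex is dualizing -/
theorem isDualizing_shift (ω : Dual.D A) (hω : Dual.IsDualizing A ω) (n : ℤ) :
    Dual.IsDualizing A (ω⟦n⟧) := by
  have := hω.isNoetherianRing
  obtain ⟨a, b, hab⟩ := hω.finite_injective_dimension
  refine ⟨inferInstance, ⟨a - n, b - n, ?_⟩, fun i => ?_, ?_, fun i hi => ?_⟩
  · intro M _ _ i hi
    have := hab M (n + i) (by omega)
    exact (homShiftAddEquiv (Dual.inD A M) ω n i).toEquiv.subsingleton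
  · have hh : Module.Finite A ↑(((DerivedCategory.homologyFunctor (ModuleCat.{u} A) 0).shift
        (n + i)).obj ω) := hω.finite_cohomology (n + i)
    exact Module.Finite.equiv (((DerivedCategory.homologyFunctor (ModuleCat.{u} A) 0).shiftIso n i
      (n + i) rfl).app ω).symm.toLinearEquiv
  · have h1 : (fun a : A => a • 𝟙 (ω⟦n⟧)) =
        (fun f : ω ⟶ ω => f⟦n⟧') ∘ (fun a : A => a • 𝟙 ω) := by
      funext a
      simp only [Function.comp_apply]
      rw [Functor.map_smul, CategoryTheory.Functor.map_id]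
    rw [h1]
    have hb : Function.Bijective (fun f : ω ⟶ ω => f⟦n⟧') :=
      ⟨(shiftFunctor (Dual.D A) n).map_injective, (shiftFunctor (Dual.D A) n).map_surjective⟩
    exact hb.comp hω.toEnd_bijective
  · have hs := hω.ext_self_subsingleton i hi
    let e : (ω⟦n⟧)⟦i⟧ ≅ (ω⟦i⟧)⟦n⟧ := (shiftFunctorComm (Dual.D A) n i).app ω
    refine ⟨fun f g => ?_⟩
    rw [← cancel_mono e.hom]
    obtain ⟨f', hf'⟩ := (shiftFunctor (Dual.D A) n).map_surjective (f ≫ e.hom)
    obtain ⟨g', hg'⟩ := (shiftFunctor (Dual.D A) n).map_surjective (g ≫ e.hom)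
    rw [← hf', ← hg', hs.elim f' g']

/-- shifting by the degree at the closed point gives a normalized complex -/
theorem isNormalized_shift [IsLocalRing A] (ω : Dual.D A) (n : ℤ)
    (h : ∀ j : ℤ, j ≠ n → Subsingleton (Dual.inD A (IsLocalRing.ResidueField A) ⟶ ω⟦j⟧)) :
    Dual.IsNormalized A (ω⟦n⟧) := by
  intro i hi
  have := h (n + i) (by omega)
  exact (homShiftAddEquiv (Dual.inD A (IsLocalRing.ResidueField A)) ω n i).toEquiv.subsingleton

end Groth.Agent.Lib.Seat8.DualShift

namespace Groth.Agent.Lib.Seat8.DimFn4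

open DerivedCategory Groth.Agent.Lib.Seat8.DimFn Groth.Agent.Lib.Seat8.DimFn2
  Groth.Agent.Lib.Seat8.DimFn3 Groth.Agent.Lib.Seat8.DualShift
  Groth.Agent.Lib.Helper1.Extend Groth.Agent.Lib.Seat8.FBC Groth.Agent.Lib.Seat8.DualBC
open scoped TensorProduct

section Loc

variable {A : Type u} [CommRing A] [IsNoetherianRing A]

/-- flat base change of `Ext^j(M, ω)` to a localization, `M` finite -/
theorem nonempty_equiv_localizedModule (S : Submonoid A) (ω : Dual.D A) (hω : Dual.IsDualizing A ω)
    (M : Type u) [AddCommGroup M] [Module A M] [Module.Finite A M] (j : ℤ) :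
    Nonempty (LocalizedModule S (Dual.inD A M ⟶ ω⟦j⟧) ≃ₗ[Localization S]
      (Dual.inD (Localization S) (LocalizedModule S M) ⟶
        ((extD A (Localization S)).obj ω)⟦j⟧)) := by
  obtain ⟨a, b, hab⟩ := hω.finite_injective_dimension
  obtain ⟨hGE, hLE⟩ := isGE_isLE_of_finiteInjDim ω a b hab
  have hsh : (ω⟦j⟧).IsGE (a - j) :=
    DerivedCategory.TStructure.t.isGE_shift ω a j (a - j) (by omega)
  have hBC : BC (Localization S) (Dual.inD A M) (ω⟦j⟧) :=
    BC_of_pseudoCoherent _ _ (a - j) hsh (fun m => isPC_inD M m)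
  let e1 : (extD A (Localization S)).obj (Dual.inD A M) ≅
      Dual.inD (Localization S) (LocalizedModule S M) :=
    extDInDIso (A := A) (B := Localization S) M ≪≫
      (DerivedCategory.singleFunctor (ModuleCat.{u} (Localization S)) 0).mapIso
        (LocalizedModule.equivTensorProduct S M).symm.toModuleIso
  let e2 : (extD A (Localization S)).obj (ω⟦j⟧) ≅ ((extD A (Localization S)).obj ω)⟦j⟧ :=
    ((extD A (Localization S)).commShiftIso j).app ω
  exact ⟨(LocalizedModule.equivTensorProduct S _).trans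
    ((LinearEquiv.ofBijective (cmp (Localization S) (Dual.inD A M) (ω⟦j⟧)) hBC).trans
      (Linear.homCongr (Localization S) e1 e2))⟩

/-- the localization at `p` of a dualizing complex, shifted by `deg p`, is a normalized dualizing
complex -/
theorem isDualizing_isNormalized_atPrime (ω : Dual.D A) (hω : Dual.IsDualizing A ω)
    (p : PrimeSpectrum A) :
    Dual.IsDualizing (Localization.AtPrime p.asIdeal)
        (((extD A (Localization.AtPrime p.asIdeal)).obj ω)⟦deg ω hω p⟧) ∧
      Dual.IsNormalized (Localization.AtPrime p.asIdeal)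
        (((extD A (Localization.AtPrime p.asIdeal)).obj ω)⟦deg ω hω p⟧) := by
  have hωB : Dual.IsDualizing (Localization.AtPrime p.asIdeal)
      ((extD A (Localization.AtPrime p.asIdeal)).obj ω) :=
    Groth.Agent.Lib.Seat8.MinPrime.isDualizing_extD_localization p.asIdeal.primeCompl ω hω
  exact ⟨isDualizing_shift _ hωB _, isNormalized_shift _ _ (deg_spec' ω hω p)⟩

/-- `Ext^j_A(M, ω)_p ≃ Ext^{j - deg p}_{A_p}(M_p, ω_p[deg p])` -/
theorem nonempty_equiv_atPrime_shift (ω : Dual.D A) (hω : Dual.IsDualizing A ω)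
    (p : PrimeSpectrum A) (M : Type u) [AddCommGroup M] [Module A M] [Module.Finite A M] (j : ℤ) :
    Nonempty (LocalizedModule p.asIdeal.primeCompl (Dual.inD A M ⟶ ω⟦j⟧) ≃
      (Dual.inD (Localization.AtPrime p.asIdeal) (LocalizedModule p.asIdeal.primeCompl M) ⟶
        (((extD A (Localization.AtPrime p.asIdeal)).obj ω)⟦deg ω hω p⟧)⟦j - deg ω hω p⟧)) := by
  obtain ⟨E⟩ := nonempty_equiv_localizedModule p.asIdeal.primeCompl ω hω M j
  have hj : deg ω hω p + (j - deg ω hω p) = j := by ring
  let E2 := homShiftAddEquiv (Dual.inD (Localization.AtPrime p.asIdeal)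
    (LocalizedModule p.asIdeal.primeCompl M)) ((extD A (Localization.AtPrime p.asIdeal)).obj ω)
    (deg ω hω p) (j - deg ω hω p)
  rw [hj] at E2
  exact ⟨E.toEquiv.trans E2.symm.toEquiv⟩

end Loc


section Supp

variable {A : Type u} [CommRing A] [IsNoetherianRing A]

/-- if `p ∈ Supp Ext^i(M, ω)` then `i ≤ deg p` -/
theorem le_deg_of_mem_support (ω : Dual.D A) (hω : Dual.IsDualizing A ω)
    (M : Type u) [AddCommGroup M] [Module A M] [Module.Finite A M] (i : ℤ) (p : PrimeSpectrum A)
    (hp : p ∈ Module.support A (Dual.inD A M ⟶ ω⟦i⟧)) : i ≤ deg ω hω p := by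
  by_contra h
  obtain ⟨E⟩ := nonempty_equiv_atPrime_shift ω hω p M i
  obtain ⟨h1, h2⟩ := isDualizing_isNormalized_atPrime ω hω p
  have := h1.isNoetherianRing
  have hs := Groth.Agent.Lib.Seat8.DepthDual.subsingleton_pos _ h1 h2
    (LocalizedModule p.asIdeal.primeCompl M) (i - deg ω hω p) (by omega)
  have : Subsingleton (LocalizedModule p.asIdeal.primeCompl (Dual.inD A M ⟶ ω⟦i⟧)) :=
    E.subsingleton
  rw [Module.mem_support_iff] at hp
  exact not_subsingleton _ this

end Supp

section LocalSupp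

variable {A : Type u} [CommRing A] [IsLocalRing A] [IsNoetherianRing A]
  (ω : Dual.D A) (hω : Dual.IsDualizing A ω) (hn : Dual.IsNormalized A ω)

include hn in
theorem coheight_eq (p : PrimeSpectrum A) :
    Order.coheight p = (((-deg ω hω p).toNat : ℕ) : ℕ∞) := by
  have h := ringKrullDim_quotient_eq ω hω hn p
  have hIci : PrimeSpectrum.zeroLocus (p.asIdeal : Set A) = Set.Ici p := by
    ext q
    rw [PrimeSpectrum.mem_zeroLocus, Set.mem_Ici]
    exact PrimeSpectrum.asIdeal_le_asIdeal p q
  rw [ringKrullDim_quotient, hIci, ← Order.coheight_eq_krullDim_Ici] at h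
  exact_mod_cast h

include hω hn in
/-- `dim Supp Ext^i(M, ω) ≤ -i` -/
theorem supportDim_ext_le (M : Type u) [AddCommGroup M] [Module A M] [Module.Finite A M] (i : ℤ) :
    Module.supportDim A (Dual.inD A M ⟶ ω⟦i⟧) ≤ (((-i).toNat : ℕ) : WithBot ℕ∞) := by
  unfold Module.supportDim Order.krullDim
  refine iSup_le fun l => ?_
  let l' : LTSeries (PrimeSpectrum A) := l.map Subtype.val (fun _ _ h => h)
  have h1 : (l'.length : ℕ∞) ≤ Order.coheight l'.head := Order.length_le_coheight_head
  rw [coheight_eq ω hω hn] at h1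
  have h2 : i ≤ deg ω hω l'.head := le_deg_of_mem_support ω hω M i _ (by
    change (l.head).val ∈ _
    exact l.head.2)
  have h3 : l'.length ≤ (-deg ω hω l'.head).toNat := by exact_mod_cast h1
  have h4 : l.length ≤ (-i).toNat := by
    have : l'.length = l.length := rfl
    omega
  exact_mod_cast h4

end LocalSupp

end Groth.Agent.Lib.Seat8.DimFn4
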