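import Mathlib
import Groth.Prelude.Def_DDual2
import Groth.Prelude.Def_CAlg
import Groth.Agent.Lib.Seat8DimFn4
import Groth.Agent.S0365

set_option autoImplicit false
set_option linter.unusedSectionVars false
universe u
open CategoryTheory CategoryTheory.Limits Pretriangulated

attribute [local instance] HasDerivedCategory.standard

namespace Groth.Agent.Lib.Seat8.DualCM

open DerivedCategory Groth.Agent.Lib.Seat8.DimFn Groth.Agent.Lib.Seat8.DimFn2
  Groth.Agent.Lib.Seat8.DimFn3 Groth.Agent.Lib.Seat8.DimFn4 Groth.Agent.Lib.Seat8.DualShift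
  Groth.Agent.Lib.Helper1.Extend

section Local

variable {B : Type u} [CommRing B] [IsLocalRing B] [IsNoetherianRing B]

/-- a Noetherian local ring whose normalized dualizing complex has a single nonzero cohomology
module is Cohen–Macaulay -/
theorem supportDim_eq_depth_of_concentrated (ω : Dual.D B) (hω : Dual.IsDualizing B ω)
    (hn : Dual.IsNormalized B ω) (m : ℤ) (hm : ∀ j : ℤ, j ≠ m → Subsingleton (Dual.HD B ω j)) :
    Module.supportDim B B = ((LocCoh.depth B B : ℕ∞) : WithBot ℕ∞) := by
  have hIM : IsLocalRing.maximalIdeal B • (⊤ : Submodule B B) ≠ ⊤ :=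
    Groth.Agent.Lib.Helper28.maximalIdeal_smul_top_ne_top
  have hne : LocCoh.depth B B ≠ ⊤ := Groth.Agent.Lib.Helper28.idealDepth_ne_top hIM
  obtain ⟨t, ht⟩ := ENat.ne_top_iff_exists.mp hne
  obtain ⟨-, hnt⟩ := (Groth.Agent.S0365.result B ω hω hn t).mp ht.symm
  have hmt : m = -(t : ℤ) := by
    by_contra h
    have := hm (-(t : ℤ)) (fun h' => h h'.symm)
    exact not_subsingleton _ this
  subst hmt
  -- all minimal primes have degree `-t`
  have hmin : ∀ q : Ideal B, q ∈ minimalPrimes B → ∀ hq : q.IsPrime,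
      deg ω hω ⟨q, hq⟩ = -(t : ℤ) := by
    intro q hqmin hq
    have : IsArtinianRing (Localization.AtPrime q) :=
      isArtinianRing_iff_isNoetherianRing_krullDimLE_zero.mpr
        ⟨IsLocalization.isNoetherianRing q.primeCompl _ inferInstance,
          Ring.KrullDimLE.of_isLocalization q hqmin _⟩
    have h1 := (nontrivial_localized_HD_iff ω hω q (deg ω hω ⟨q, hq⟩)).mpr rfl
    by_contra h
    have := hm _ h
    have hmem : (⟨q, hq⟩ : PrimeSpectrum B) ∈ Module.support B
        (Dual.HD B ω (deg ω hω ⟨q, hq⟩)) := Module.mem_support_iff.mpr h1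
    rw [Module.support_eq_empty] at hmem
    exact hmem
  rw [Module.supportDim_self_eq_ringKrullDim, ← ht]
  apply le_antisymm
  · rw [ringKrullDim, Order.krullDim_eq_iSup_coheight]
    refine iSup_le fun q => ?_
    obtain ⟨q0, hq0, hle⟩ := Ideal.exists_minimalPrimes_le (I := ⊥) (J := q.asIdeal) bot_le
    have hq0p : q0.IsPrime := hq0.1.1
    have h1 : Order.coheight q ≤ Order.coheight (⟨q0, hq0p⟩ : PrimeSpectrum B) :=
      Order.coheight_anti (show (⟨q0, hq0p⟩ : PrimeSpectrum B) ≤ q from hle)
    have h3 := coheight_eq ω hω hn (⟨q0, hq0p⟩ : PrimeSpectrum B)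
    rw [hmin q0 hq0 hq0p] at h3
    have h2 : ((-(-(t : ℤ))).toNat : ℕ) = t := by simp
    rw [h2] at h3
    rw [h3] at h1
    exact_mod_cast h1
  · have := Groth.Agent.Lib.Helper28.depth_le_supportDim (R := B) (M := B)
    rw [Module.supportDim_self_eq_ringKrullDim, ← ht] at this
    exact this

end Local

end Groth.Agent.Lib.Seat8.DualCM
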