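import Mathlib
import Groth.Prelude.Def_DDual2
import Groth.Prelude.Def_CAlg
import Groth.Agent.Lib.Seat8DualCM
import Groth.Agent.Lib.Helper28DepthCM2
import Groth.Agent.S19859
import Groth.Agent.S0368
import Groth.Agent.Lib.Helper28DepthMore

set_option autoImplicit false
set_option linter.unusedSectionVars false
universe u
open CategoryTheory CategoryTheory.Limits Pretriangulated

attribute [local instance] HasDerivedCategory.standard

namespace Groth.Agent.Lib.Seat8.CMLocus

open DerivedCategory Groth.Agent.Lib.Seat8.DimFn Groth.Agent.Lib.Seat8.DimFn2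
  Groth.Agent.Lib.Seat8.DimFn3 Groth.Agent.Lib.Seat8.DimFn4 Groth.Agent.Lib.Seat8.DualShift
  Groth.Agent.Lib.Helper1.Extend

section Core

variable {B : Type u} [CommRing B] [IsLocalRing B] [IsNoetherianRing B]
  (ω : Dual.D B) (hω : Dual.IsDualizing B ω) (hn : Dual.IsNormalized B ω)

include hω hn in
/-- a nonzero finite module is Cohen–Macaulay iff `Ext^j(N, ω)` is nonzero for at most one `j` -/
theorem isCM_iff_unique (N : Type u) [AddCommGroup N] [Module B N] [Module.Finite B N]
    [Nontrivial N] :
    LocCoh.IsCohenMacaulayModule B N ↔ ∀ j j' : ℤ, Nontrivial (Dual.inD B N ⟶ ω⟦j⟧) →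
      Nontrivial (Dual.inD B N ⟶ ω⟦j'⟧) → j = j' := by
  obtain ⟨d, hd⟩ := Groth.Agent.Lib.Helper28.exists_natCast_eq_supportDim (R := B) (M := N)
  have hIM : IsLocalRing.maximalIdeal B • (⊤ : Submodule B N) ≠ ⊤ :=
    Groth.Agent.Lib.Helper28.maximalIdeal_smul_top_ne_top
  have hne : LocCoh.depth B N ≠ ⊤ := Groth.Agent.Lib.Helper28.idealDepth_ne_top hIM
  obtain ⟨t, ht⟩ := ENat.ne_top_iff_exists.mp hne
  obtain ⟨-, hnt⟩ := Groth.Agent.Lib.Seat8.DepthDual.ext_of_depth_eq ω hω hn t N ht.symm
  have hntd := Groth.Agent.S19859.result B ω hω hn N d hd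
  constructor
  · intro hCM j j' hj hj'
    have h := (Groth.Agent.S0368.result B ω hω hn N d hd).mp hCM
    have h1 : -j = (d : ℤ) := by
      by_contra hne
      have := h (-j) hne
      rw [neg_neg] at this
      exact not_subsingleton _ this
    have h2 : -j' = (d : ℤ) := by
      by_contra hne
      have := h (-j') hne
      rw [neg_neg] at this
      exact not_subsingleton _ this
    omega
  · intro h
    have hdt : -(t : ℤ) = -(d : ℤ) := h _ _ hnt hntd
    have hdt' : t = d := by omega
    unfold LocCoh.IsCohenMacaulayModule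
    rw [hd, ← ht, hdt']
    rfl

end Core


section Locus

variable {A : Type u} [CommRing A] [IsNoetherianRing A]
  (ω : Dual.D A) (hω : Dual.IsDualizing A ω)
  (M : Type u) [AddCommGroup M] [Module A M] [Module.Finite A M]

include hω in
theorem finite_ext (i : ℤ) : Module.Finite A (Dual.inD A M ⟶ ω⟦i⟧) := by
  obtain ⟨c, d, hGE, -⟩ := Groth.Agent.Lib.Seat8.DualBC.exists_isGE_of_isDualizing ω hω
  exact Groth.Agent.Lib.Seat8.Bass.finite_hom_inD_shift M ω c hGE hω.finite_cohomology i

include hω in
theorem mem_support_iff (p : PrimeSpectrum A) (j : ℤ) :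
    p ∈ Module.support A (Dual.inD A M ⟶ ω⟦j⟧) ↔
      Nontrivial (Dual.inD (Localization.AtPrime p.asIdeal)
        (LocalizedModule p.asIdeal.primeCompl M) ⟶
        (((extD A (Localization.AtPrime p.asIdeal)).obj ω)⟦deg ω hω p⟧)⟦j - deg ω hω p⟧) := by
  obtain ⟨E⟩ := nonempty_equiv_atPrime_shift ω hω p M j
  rw [Module.mem_support_iff]
  exact ⟨fun h => E.symm.nontrivial, fun h => E.nontrivial⟩

include hω in
/-- the Cohen–Macaulay locus of `M` in terms of the supports of the `Ext^j(M, ω)` -/
theorem cm_iff (p : PrimeSpectrum A) :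
    (Subsingleton (LocalizedModule p.asIdeal.primeCompl M) ∨
      LocCoh.IsCohenMacaulayModule (Localization.AtPrime p.asIdeal)
        (LocalizedModule p.asIdeal.primeCompl M)) ↔
    ∀ j j' : ℤ, p ∈ Module.support A (Dual.inD A M ⟶ ω⟦j⟧) →
      p ∈ Module.support A (Dual.inD A M ⟶ ω⟦j'⟧) → j = j' := by
  obtain ⟨h1, h2⟩ := isDualizing_isNormalized_atPrime ω hω p
  have hNoeth := h1.isNoetherianRing
  by_cases hN : Subsingleton (LocalizedModule p.asIdeal.primeCompl M)
  · refine ⟨fun _ j j' hj _ => ?_, fun _ => Or.inl hN⟩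
    rw [mem_support_iff ω hω M] at hj
    have := Groth.Agent.Lib.Seat8.DimDual.subsingleton_hom_of_subsingleton
      (A := Localization.AtPrime p.asIdeal) (LocalizedModule p.asIdeal.primeCompl M)
      ((((extD A (Localization.AtPrime p.asIdeal)).obj ω)⟦deg ω hω p⟧)⟦j - deg ω hω p⟧)
    exact absurd this (not_subsingleton _)
  · have hN' := not_subsingleton_iff_nontrivial.mp hN
    have hcore := isCM_iff_unique _ h1 h2 (LocalizedModule p.asIdeal.primeCompl M)
    constructor
    · rintro (h | h)
      · exact absurd h hN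
      · intro j j' hj hj'
        rw [mem_support_iff ω hω M] at hj hj'
        have := hcore.mp h _ _ hj hj'
        omega
    · intro h
      refine Or.inr (hcore.mpr fun k k' hk hk' => ?_)
      have e1 : k = (k + deg ω hω p) - deg ω hω p := by ring
      have e2 : k' = (k' + deg ω hω p) - deg ω hω p := by ring
      rw [e1] at hk
      rw [e2] at hk'
      have := h (k + deg ω hω p) (k' + deg ω hω p)
        ((mem_support_iff ω hω M p _).mpr hk) ((mem_support_iff ω hω M p _).mpr hk')
      omega

include hω in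
/-- the Cohen–Macaulay locus of a finite module is open -/
theorem isOpen_cm :
    IsOpen {p : PrimeSpectrum A | Subsingleton (LocalizedModule p.asIdeal.primeCompl M) ∨
      LocCoh.IsCohenMacaulayModule (Localization.AtPrime p.asIdeal)
        (LocalizedModule p.asIdeal.primeCompl M)} := by
  obtain ⟨a, b, hab⟩ := hω.finite_injective_dimension
  rw [← isClosed_compl_iff]
  have hset : {p : PrimeSpectrum A | Subsingleton (LocalizedModule p.asIdeal.primeCompl M) ∨
      LocCoh.IsCohenMacaulayModule (Localization.AtPrime p.asIdeal)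
        (LocalizedModule p.asIdeal.primeCompl M)}ᶜ =
      ⋃ j ∈ Finset.Icc a b, ⋃ j' ∈ Finset.Icc a b,
        {p : PrimeSpectrum A | j ≠ j' ∧ p ∈ Module.support A (Dual.inD A M ⟶ ω⟦j⟧) ∧
          p ∈ Module.support A (Dual.inD A M ⟶ ω⟦j'⟧)} := by
    ext p
    simp only [Set.mem_compl_iff, Set.mem_ofPred_eq, Set.mem_iUnion, Finset.mem_Icc, exists_prop]
    rw [cm_iff ω hω M p]
    constructor
    · intro h
      push Not at h
      obtain ⟨j, j', hj, hj', hne⟩ := h
      have hjr : a ≤ j ∧ j ≤ b := by
        by_contra hcon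
        have := hab M j (by omega)
        rw [Module.support_eq_empty] at hj
        exact hj
      have hjr' : a ≤ j' ∧ j' ≤ b := by
        by_contra hcon
        have := hab M j' (by omega)
        rw [Module.support_eq_empty] at hj'
        exact hj'
      exact ⟨j, hjr, j', hjr', hne, hj, hj'⟩
    · rintro ⟨j, -, j', -, hne, hj, hj'⟩ h
      exact hne (h j j' hj hj')
  rw [hset]
  refine isClosed_biUnion_finset fun j _ => isClosed_biUnion_finset fun j' _ => ?_
  by_cases hjj : j = j'
  · have : {p : PrimeSpectrum A | j ≠ j' ∧ p ∈ Module.support A (Dual.inD A M ⟶ ω⟦j⟧) ∧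
        p ∈ Module.support A (Dual.inD A M ⟶ ω⟦j'⟧)} = ∅ := by
      ext p
      simp [hjj]
    rw [this]
    exact isClosed_empty
  · have : {p : PrimeSpectrum A | j ≠ j' ∧ p ∈ Module.support A (Dual.inD A M ⟶ ω⟦j⟧) ∧
        p ∈ Module.support A (Dual.inD A M ⟶ ω⟦j'⟧)} =
        Module.support A (Dual.inD A M ⟶ ω⟦j⟧) ∩ Module.support A (Dual.inD A M ⟶ ω⟦j'⟧) := by
      ext p
      simp [hjj]
    rw [this]
    have := finite_ext ω hω M j
    have := finite_ext ω hω M j'
    exact Module.isClosed_support.inter Module.isClosed_support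

omit [IsNoetherianRing A] in
/-- at a minimal prime of the support, the localization has dimension `0`, hence is CM -/
theorem isCM_of_mem_minimalPrimes [IsNoetherianRing A] (q : PrimeSpectrum A)
    (hq : q.asIdeal ∈ (Module.annihilator A M).minimalPrimes) :
    q ∈ Module.support A M ∧
    LocCoh.IsCohenMacaulayModule (Localization.AtPrime q.asIdeal)
      (LocalizedModule q.asIdeal.primeCompl M) := by
  have hqM : q ∈ Module.support A M := by
    rw [Module.support_eq_zeroLocus]
    exact (PrimeSpectrum.mem_zeroLocus _ _).mpr hq.1.2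
  refine ⟨hqM, ?_⟩
  have h0 : Module.supportDim (Localization.AtPrime q.asIdeal)
      (LocalizedModule q.asIdeal.primeCompl M) = 0 :=
    (Groth.Agent.Lib.Helper28.supportDim_localization_eq_zero_iff (M := M) q.asIdeal hqM).mpr hq
  have hnt : Nontrivial (LocalizedModule q.asIdeal.primeCompl M) :=
    (Module.mem_support_iff.mp hqM)
  have hle := Groth.Agent.Lib.Helper28.depth_le_supportDim
    (R := Localization.AtPrime q.asIdeal) (M := LocalizedModule q.asIdeal.primeCompl M)
  unfold LocCoh.IsCohenMacaulayModule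
  rw [h0] at hle ⊢
  have : LocCoh.depth (Localization.AtPrime q.asIdeal)
      (LocalizedModule q.asIdeal.primeCompl M) = 0 := by
    have h1 : ((LocCoh.depth (Localization.AtPrime q.asIdeal)
      (LocalizedModule q.asIdeal.primeCompl M) : ℕ∞) : WithBot ℕ∞) ≤ ((0 : ℕ∞) : WithBot ℕ∞) := hle
    exact le_antisymm (WithBot.coe_le_coe.mp h1) zero_le
  rw [this]
  rfl

omit [IsNoetherianRing A] in
/-- the CM points of the support are dense in the support -/
theorem support_subset_closure_cm [IsNoetherianRing A] :
    Module.support A M ⊆ closure ({p : PrimeSpectrum A |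
      LocCoh.IsCohenMacaulayModule (Localization.AtPrime p.asIdeal)
        (LocalizedModule p.asIdeal.primeCompl M)} ∩ Module.support A M) := by
  intro p hp
  have hann : Module.annihilator A M ≤ p.asIdeal := by
    rw [Module.support_eq_zeroLocus] at hp
    exact (PrimeSpectrum.mem_zeroLocus _ _).mp hp
  obtain ⟨q, hq, hqp⟩ := Ideal.exists_minimalPrimes_le hann
  have hqprime : q.IsPrime := hq.1.1
  obtain ⟨h1, h2⟩ := isCM_of_mem_minimalPrimes M ⟨q, hqprime⟩ hq
  have hspec : (⟨q, hqprime⟩ : PrimeSpectrum A) ⤳ p :=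
    (PrimeSpectrum.le_iff_specializes _ p).mp hqp
  have hmem : p ∈ closure {(⟨q, hqprime⟩ : PrimeSpectrum A)} :=
    specializes_iff_mem_closure.mp hspec
  refine closure_mono ?_ hmem
  rintro _ rfl
  exact ⟨h2, h1⟩

end Locus

section RingLocus

variable {A : Type u} [CommRing A] [IsNoetherianRing A]

theorem isCMRing_iff (p : PrimeSpectrum A) :
    LocCoh.IsCohenMacaulayLocalRing (Localization.AtPrime p.asIdeal) ↔
      LocCoh.IsCohenMacaulayModule (Localization.AtPrime p.asIdeal)
        (LocalizedModule p.asIdeal.primeCompl A) := by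
  unfold LocCoh.IsCohenMacaulayModule
  rw [Groth.Agent.Lib.Helper28.depth_localizedModule_self,
    Module.supportDim_eq_of_equiv (Groth.Agent.Lib.Helper28.localizedModuleSelfEquiv p.asIdeal)]
  constructor
  · intro h
    exact h.supportDim_eq_depth
  · intro h
    exact { supportDim_eq_depth := h }

end RingLocus

end Groth.Agent.Lib.Seat8.CMLocus
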