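import Mathlib
import Groth.Prelude.Def_DDual2
import Groth.Agent.Lib.Seat8DimFn4
import Groth.Agent.Lib.Seat8DepthDual
import Groth.Agent.Lib.Helper28DepthSk
import Groth.Agent.S0364

set_option autoImplicit false
set_option linter.unusedSectionVars false
universe u
open CategoryTheory CategoryTheory.Limits Pretriangulated

attribute [local instance] HasDerivedCategory.standard

namespace Groth.Agent.Lib.Seat8.PtwiseDual

open DerivedCategory Groth.Agent.Lib.Seat8.DimFn Groth.Agent.Lib.Seat8.DimFn2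
  Groth.Agent.Lib.Seat8.DimFn3 Groth.Agent.Lib.Seat8.DimFn4 Groth.Agent.Lib.Seat8.DualShift
  Groth.Agent.Lib.Helper1.Extend Groth.Agent.Lib.Seat8.FBC Groth.Agent.Lib.Seat8.DualBC

section General

variable {A : Type u} [CommRing A]

/-- `H^i(ω[n]) ≃ H^{n+i}(ω)` -/
noncomputable def HDShiftEquiv (ω : Dual.D A) (n i : ℤ) :
    Dual.HD A (ω⟦n⟧) i ≃ₗ[A] Dual.HD A ω (n + i) :=
  (((DerivedCategory.homologyFunctor (ModuleCat.{u} A) 0).shiftIso n i (n + i) rfl).app
    ω).toLinearEquiv

/-- `Hom(M, ω[i]) ≃ H^i(ω)` for `M = A` -/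
theorem nonempty_equiv_HD (ω : Dual.D A) (i : ℤ) :
    Nonempty ((Dual.inD A A ⟶ ω⟦i⟧) ≃ Dual.HD A ω i) := by
  let e1 : (Dual.inD A A ⟶ ω⟦i⟧) ≃ Dual.HD A (ω⟦i⟧) 0 :=
    Equiv.ofBijective _ (Groth.Agent.Lib.Seat8.HomSingle.evD_bijective 0 _)
  have e2 := HDShiftEquiv ω i 0
  rw [add_zero] at e2
  exact ⟨e1.trans e2.toEquiv⟩

end General

section Local

variable {B : Type u} [CommRing B] [IsLocalRing B] [IsNoetherianRing B]

/-- a dualizing complex over a local ring has a normalized shift -/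
theorem exists_normalized_shift (ω : Dual.D B) (hω : Dual.IsDualizing B ω) :
    ∃ n : ℤ, Dual.IsNormalized B (ω⟦n⟧) := by
  obtain ⟨n, hn, -⟩ := Groth.Agent.S0364.result B ω hω (IsLocalRing.maximalIdeal B)
  exact ⟨n, isNormalized_shift ω n hn⟩

/-- over an Artinian local ring a normalized dualizing complex has cohomology only in degree 0 -/
theorem subsingleton_HD_of_artinian [IsArtinianRing B] (ω : Dual.D B)
    (hn : Dual.IsNormalized B ω) (i : ℤ) (hi : i ≠ 0) : Subsingleton (Dual.HD B ω i) := by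
  have hfl : IsFiniteLength B B := (isArtinianRing_iff_isFiniteLength B).mp inferInstance
  have h1 : Subsingleton (Dual.inD B B ⟶ ω⟦i⟧) :=
    Groth.Agent.Lib.Seat8.DimZero.subsingleton_of_isFiniteLength ω i (hn i hi) B hfl
  obtain ⟨e⟩ := nonempty_equiv_HD ω i
  exact e.symm.subsingleton

/-- at a minimal prime `P` of a local ring with dualizing complex `ω` whose shift `ω[n]` is
normalized, some `H^{n+i}(ω)` with `-dim B ≤ i ≤ 0` is supported at `P` -/
theorem exists_mem_support_HD (ω : Dual.D B) (hω : Dual.IsDualizing B ω) (n : ℤ)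
    (hn : Dual.IsNormalized B (ω⟦n⟧)) (P : PrimeSpectrum B) (hP : P.asIdeal ∈ minimalPrimes B)
    (d : ℕ) (hd : ringKrullDim B ≤ (d : WithBot ℕ∞)) :
    ∃ i : ℤ, i ≤ 0 ∧ -(d : ℤ) ≤ i ∧ P ∈ Module.support B (Dual.HD B ω (n + i)) := by
  have hω' : Dual.IsDualizing B (ω⟦n⟧) := isDualizing_shift ω hω n
  refine ⟨deg (ω⟦n⟧) hω' P, deg_le_zero _ hω' hn P, ?_, ?_⟩
  · have h1 := ringKrullDim_quotient_eq _ hω' hn P
    have h2 : ringKrullDim (B ⧸ P.asIdeal) ≤ (d : WithBot ℕ∞) :=
      (ringKrullDim_quotient_le _).trans hd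
    rw [h1] at h2
    have h3 : ((-deg (ω⟦n⟧) hω' P).toNat : ℕ) ≤ d := by exact_mod_cast h2
    have h4 := deg_le_zero _ hω' hn P
    omega
  · have hArt : IsArtinianRing (Localization.AtPrime P.asIdeal) := by
      have := Ring.KrullDimLE.of_isLocalization P.asIdeal hP (Localization.AtPrime P.asIdeal)
      exact isArtinianRing_iff_krullDimLE_zero.mpr this
    have h1 : Nontrivial (LocalizedModule P.asIdeal.primeCompl
        (Dual.HD B (ω⟦n⟧) (deg (ω⟦n⟧) hω' P))) :=
      (nontrivial_localized_HD_iff (ω⟦n⟧) hω' P.asIdeal _).mpr rfl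
    have h2 : P ∈ Module.support B (Dual.HD B (ω⟦n⟧) (deg (ω⟦n⟧) hω' P)) :=
      Module.mem_support_iff.mpr h1
    rwa [(HDShiftEquiv ω n _).support_eq] at h2

end Local

section Global

variable {A : Type u} [CommRing A] [IsNoetherianRing A]

/-- `H^i(ω)_p ≃ H^i(ω_p)`, linear version -/
theorem nonempty_linearEquiv_localized_HD (ω : Dual.D A) (p : Ideal A) [hp : p.IsPrime] (i : ℤ) :
    Nonempty (LocalizedModule p.primeCompl (Dual.HD A ω i) ≃ₗ[Localization.AtPrime p]
      Dual.HD (Localization.AtPrime p) ((extD A (Localization.AtPrime p)).obj ω) i) := by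
  let E0 := LocalizedModule.equivTensorProduct p.primeCompl (Dual.HD A ω i)
  let e1 := homologyMapDIso (ext A (Localization.AtPrime p)) ω i
  let e2 := extIso (A := A) (B := Localization.AtPrime p) (Dual.HD A ω i)
  exact ⟨E0.trans (e1 ≪≫ e2).symm.toLinearEquiv⟩

/-- flat base change of `Ext^j(M, R)` to a localization, `M` finite, `R` bounded below -/
theorem nonempty_equiv_localizedModule (S : Submonoid A) (R : Dual.D A) (a : ℤ) (hGE : R.IsGE a)
    (M : Type u) [AddCommGroup M] [Module A M] [Module.Finite A M] (j : ℤ) :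
    Nonempty (LocalizedModule S (Dual.inD A M ⟶ R⟦j⟧) ≃ₗ[Localization S]
      (Dual.inD (Localization S) (LocalizedModule S M) ⟶
        ((extD A (Localization S)).obj R)⟦j⟧)) := by
  have hsh : (R⟦j⟧).IsGE (a - j) :=
    DerivedCategory.TStructure.t.isGE_shift R a j (a - j) (by omega)
  have hBC : BC (Localization S) (Dual.inD A M) (R⟦j⟧) :=
    BC_of_pseudoCoherent _ _ (a - j) hsh (fun m => isPC_inD M m)
  let e1 : (extD A (Localization S)).obj (Dual.inD A M) ≅
      Dual.inD (Localization S) (LocalizedModule S M) :=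
    extDInDIso (A := A) (B := Localization S) M ≪≫
      (DerivedCategory.singleFunctor (ModuleCat.{u} (Localization S)) 0).mapIso
        (LocalizedModule.equivTensorProduct S M).symm.toModuleIso
  let e2 : (extD A (Localization S)).obj (R⟦j⟧) ≅ ((extD A (Localization S)).obj R)⟦j⟧ :=
    ((extD A (Localization S)).commShiftIso j).app R
  exact ⟨(LocalizedModule.equivTensorProduct S _).trans
    ((LinearEquiv.ofBijective (cmp (Localization S) (Dual.inD A M) (R⟦j⟧)) hBC).trans
      (Linear.homCongr (Localization S) e1 e2))⟩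

variable (R : Dual.D A)
  (hdual : ∀ q : PrimeSpectrum A, Dual.IsDualizing (Localization.AtPrime q.asIdeal)
    ((extD A (Localization.AtPrime q.asIdeal)).obj R))

/-- the normalizing shift at the prime `q` -/
noncomputable def nq (q : PrimeSpectrum A) : ℤ :=
  (exists_normalized_shift _ (hdual q)).choose

theorem nq_spec (q : PrimeSpectrum A) : Dual.IsNormalized (Localization.AtPrime q.asIdeal)
    (((extD A (Localization.AtPrime q.asIdeal)).obj R)⟦nq R hdual q⟧) :=
  (exists_normalized_shift _ (hdual q)).choose_spec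

include hdual in
/-- at a minimal prime `p`, the only cohomology module of `R` supported at `p` is `H^{n_p}` -/
theorem eq_nq_of_mem_support (p : PrimeSpectrum A) (hp : p.asIdeal ∈ minimalPrimes A) (j : ℤ)
    (hj : p ∈ Module.support A (Dual.HD A R j)) : j = nq R hdual p := by
  have hArt : IsArtinianRing (Localization.AtPrime p.asIdeal) := by
    have := Ring.KrullDimLE.of_isLocalization p.asIdeal hp (Localization.AtPrime p.asIdeal)
    exact isArtinianRing_iff_krullDimLE_zero.mpr this
  by_contra hne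
  have h1 := subsingleton_HD_of_artinian _ (nq_spec R hdual p) (j - nq R hdual p) (by omega)
  have e := HDShiftEquiv ((extD A (Localization.AtPrime p.asIdeal)).obj R) (nq R hdual p)
    (j - nq R hdual p)
  have h2 : Subsingleton (Dual.HD (Localization.AtPrime p.asIdeal)
      ((extD A (Localization.AtPrime p.asIdeal)).obj R) (nq R hdual p + (j - nq R hdual p))) :=
    e.symm.toEquiv.subsingleton
  have hjj : nq R hdual p + (j - nq R hdual p) = j := by ring
  rw [hjj] at h2
  obtain ⟨E⟩ := nonempty_linearEquiv_localized_HD R p.asIdeal j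
  have h3 : Subsingleton (LocalizedModule p.asIdeal.primeCompl (Dual.HD A R j)) :=
    E.toEquiv.subsingleton
  have h4 : Nontrivial (LocalizedModule p.asIdeal.primeCompl (Dual.HD A R j)) :=
    Module.mem_support_iff.mp hj
  exact not_subsingleton _ h3

include hdual in
/-- for every prime `q` there is a minimal prime `p ≤ q` and `-d ≤ i ≤ 0` with
`p ∈ Supp H^{n_q + i}(R)` -/
theorem exists_minimal_mem_support (q : PrimeSpectrum A) (d : ℕ)
    (hd : ringKrullDim A ≤ (d : WithBot ℕ∞)) :
    ∃ p : PrimeSpectrum A, p.asIdeal ∈ minimalPrimes A ∧ ∃ i : ℤ, i ≤ 0 ∧ -(d : ℤ) ≤ i ∧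
      p ∈ Module.support A (Dual.HD A R (nq R hdual q + i)) := by
  have hdq : ringKrullDim (Localization.AtPrime q.asIdeal) ≤ (d : WithBot ℕ∞) := by
    rw [IsLocalization.AtPrime.ringKrullDim_eq_height q.asIdeal]
    exact (Ideal.height_le_ringKrullDim_of_ne_top q.2.ne_top).trans hd
  obtain ⟨P, hP, -⟩ := Ideal.exists_minimalPrimes_le
    (bot_le : (⊥ : Ideal (Localization.AtPrime q.asIdeal)) ≤
      IsLocalRing.maximalIdeal (Localization.AtPrime q.asIdeal))
  have hPprime : P.IsPrime := hP.1.1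
  obtain ⟨i, hi0, hid, hi⟩ := exists_mem_support_HD _ (hdual q) _ (nq_spec R hdual q)
    ⟨P, hPprime⟩ hP d hdq
  obtain ⟨E⟩ := nonempty_linearEquiv_localized_HD R q.asIdeal (nq R hdual q + i)
  rw [← E.support_eq] at hi
  have hi' := (Groth.Agent.Lib.Helper28.mem_support_isLocalizedModule_iff q.asIdeal.primeCompl
    (Localization.AtPrime q.asIdeal)
    (LocalizedModule.mkLinearMap q.asIdeal.primeCompl (Dual.HD A R (nq R hdual q + i)))
    ⟨P, hPprime⟩).mp hi
  refine ⟨_, ?_, i, hi0, hid, hi'⟩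
  have h1 := IsLocalization.minimalPrimes_map q.asIdeal.primeCompl
    (Localization.AtPrime q.asIdeal) (⊥ : Ideal A)
  rw [Ideal.map_bot] at h1
  have h2 : P ∈ Ideal.under A ⁻¹' (⊥ : Ideal A).minimalPrimes := by
    rw [← h1]; exact hP
  exact h2

include hdual in
/-- the normalizing shifts are bounded above when `dim A < ∞` -/
theorem exists_nq_le (d : ℕ) (hd : ringKrullDim A ≤ (d : WithBot ℕ∞)) :
    ∃ N : ℤ, ∀ q : PrimeSpectrum A, nq R hdual q ≤ N := by
  classical
  let f : Ideal A → ℤ := fun I => if h : I.IsPrime then nq R hdual ⟨I, h⟩ else 0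
  have hfin : (f '' minimalPrimes A).Finite :=
    (minimalPrimes.finite_of_isNoetherianRing A).image f
  obtain ⟨N0, hN0⟩ := hfin.bddAbove
  refine ⟨N0 + d, fun q => ?_⟩
  obtain ⟨p, hp, i, hi0, hid, hi⟩ := exists_minimal_mem_support R hdual q d hd
  have h1 := eq_nq_of_mem_support R hdual p hp _ hi
  have h2 : f p.asIdeal ≤ N0 := hN0 ⟨p.asIdeal, hp, rfl⟩
  have h3 : f p.asIdeal = nq R hdual p := by
    simp only [f, dif_pos p.2]
  rw [h3] at h2
  omega

include hdual in
/-- vanishing of `Ext^i(M, R)` for finite `M` and `i` above the bound -/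
theorem subsingleton_ext_of_lt (a : ℤ) (hGE : R.IsGE a) (N : ℤ)
    (hN : ∀ q : PrimeSpectrum A, nq R hdual q ≤ N)
    (M : Type u) [AddCommGroup M] [Module A M] [Module.Finite A M] (i : ℤ) (hi : N < i) :
    Subsingleton (Dual.inD A M ⟶ R⟦i⟧) := by
  rw [← Module.support_eq_empty_iff (R := A)]
  rw [Set.eq_empty_iff_forall_notMem]
  intro q hq
  have hnt : Nontrivial (LocalizedModule q.asIdeal.primeCompl (Dual.inD A M ⟶ R⟦i⟧)) :=
    Module.mem_support_iff.mp hq
  obtain ⟨E⟩ := nonempty_equiv_localizedModule q.asIdeal.primeCompl R a hGE M i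
  have hω' := isDualizing_shift _ (hdual q) (nq R hdual q)
  have h1 : Subsingleton (Dual.inD (Localization.AtPrime q.asIdeal)
      (LocalizedModule q.asIdeal.primeCompl M) ⟶
      (((extD A (Localization.AtPrime q.asIdeal)).obj R)⟦nq R hdual q⟧)⟦i - nq R hdual q⟧) :=
    Groth.Agent.Lib.Seat8.DepthDual.subsingleton_pos _ hω' (nq_spec R hdual q) _ _
      (by have := hN q; omega)
  have E2 := homShiftAddEquiv (Dual.inD (Localization.AtPrime q.asIdeal)
    (LocalizedModule q.asIdeal.primeCompl M)) ((extD A (Localization.AtPrime q.asIdeal)).obj R)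
    (nq R hdual q) (i - nq R hdual q)
  have hj : nq R hdual q + (i - nq R hdual q) = i := by ring
  rw [hj] at E2
  have h2 : Subsingleton (LocalizedModule q.asIdeal.primeCompl (Dual.inD A M ⟶ R⟦i⟧)) :=
    (E.toEquiv.trans E2.symm.toEquiv).subsingleton
  exact not_subsingleton _ h2

include hdual in
/-- **pointwise dualizing + finite Krull dimension ⇒ finite injective dimension** -/
theorem exists_finiteInjDim (hdim : ringKrullDim A < ⊤)
    (hbdd : ∃ a : ℤ, ∀ i : ℤ, i < a → Subsingleton (Dual.HD A R i)) :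
    ∃ a b : ℤ, ∀ (I : Ideal A) (i : ℤ), (i < a ∨ b < i) →
      Subsingleton (Dual.inD A (A ⧸ I) ⟶ R⟦i⟧) := by
  obtain ⟨a, ha⟩ := hbdd
  have hGE : R.IsGE a := by
    rw [DerivedCategory.isGE_iff]
    intro i hi
    have := ha i hi
    exact ModuleCat.isZero_of_subsingleton _
  obtain ⟨d, hd⟩ : ∃ d : ℕ, ringKrullDim A ≤ (d : WithBot ℕ∞) := by
    rcases h : ringKrullDim A with _ | x
    · exact ⟨0, bot_le⟩
    · rw [h] at hdim
      have hx : x ≠ ⊤ := by
        rintro rfl
        exact lt_irrefl _ hdim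
      obtain ⟨n, rfl⟩ := ENat.ne_top_iff_exists.mp hx
      exact ⟨n, le_refl _⟩
  obtain ⟨N, hN⟩ := exists_nq_le R hdual d hd
  refine ⟨a, N, fun I i hi => ?_⟩
  rcases hi with hi | hi
  · have hsh : (R⟦i⟧).IsGE (a - i) :=
      DerivedCategory.TStructure.t.isGE_shift R a i (a - i) (by omega)
    have hle : (Dual.inD A (A ⧸ I)).IsLE 0 := by
      dsimp only [Dual.inD]
      infer_instance
    refine ⟨fun f g => ?_⟩
    rw [DerivedCategory.TStructure.t.zero_of_isLE_of_isGE f 0 (a - i) (by omega) hle hsh,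
      DerivedCategory.TStructure.t.zero_of_isLE_of_isGE g 0 (a - i) (by omega) hle hsh]
  · exact subsingleton_ext_of_lt R hdual a hGE N hN (A ⧸ I) i hi

end Global

end Groth.Agent.Lib.Seat8.PtwiseDual
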