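import Mathlib
import Groth.Prelude.Def_DualSch
import Groth.Agent.Lib.Helper17AdjWay1
import Groth.Agent.Lib.Seat8CMLocus
import Groth.Agent.Lib.Seat8PtwiseDual
import Groth.Agent.Lib.Helper5FiberMor
import Groth.Agent.S0372

set_option autoImplicit false
set_option linter.unusedSectionVars false
universe u
open CategoryTheory CategoryTheory.Limits AlgebraicGeometry

attribute [local instance] HasDerivedCategory.standard

namespace Groth.Agent.Lib.Seat8.CMSch

section Plumbing

variable {X : Scheme.{u}}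

/-- isomorphic modules have simultaneously nontrivial stalks -/
theorem nontrivial_stalk_iff_of_iso {M N : X.Modules} (e : M ≅ N) (x : X) :
    Nontrivial (M.presheaf.stalk x) ↔ Nontrivial (N.presheaf.stalk x) := by
  let E := (Scheme.Modules.toPresheaf X ⋙ TopCat.Presheaf.stalkFunctor _ x).mapIso e
  have hb : Function.Bijective (ConcreteCategory.hom E.hom) :=
    ConcreteCategory.bijective_of_isIso E.hom
  exact (Equiv.ofBijective _ hb).nontrivial_congr

/-- isomorphic abelian groups are simultaneously nontrivial -/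
theorem nontrivial_iff_of_iso_Ab {G H : Ab.{u}} (e : G ≅ H) : Nontrivial G ↔ Nontrivial H := by
  have hb : Function.Bijective (ConcreteCategory.hom e.hom) :=
    ConcreteCategory.bijective_of_isIso e.hom
  exact (Equiv.ofBijective _ hb).nontrivial_congr

/-- the stalk of `M~` at `p` is the localization `M_p` -/
theorem nontrivial_stalk_tilde_iff {R : CommRingCat.{u}} (M : ModuleCat.{u} R)
    (p : PrimeSpectrum.Top R) :
    Nontrivial ((tilde M).presheaf.stalk p) ↔
      Nontrivial (LocalizedModule p.asIdeal.primeCompl M) := by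
  let E := IsLocalizedModule.linearEquiv p.asIdeal.primeCompl
    (LocalizedModule.mkLinearMap p.asIdeal.primeCompl M) (tilde.toStalk M p).hom
  exact E.toEquiv.nontrivial_congr.symm

/-- stalks of the cohomology sheaves of `K~` -/
theorem nontrivial_stalk_HD_tildeD_iff (R : CommRingCat.{u})
    [PreservesFiniteLimits (tilde.functor R)] (K : DerivedCategory (ModuleCat.{u} R))
    (p : PrimeSpectrum.Top R) (i : ℤ) :
    Nontrivial ((DCoh.HD ((DCoh.tildeD R).obj K) i).presheaf.stalk p) ↔
      Nontrivial (LocalizedModule p.asIdeal.primeCompl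
        ((DerivedCategory.homologyFunctor (ModuleCat.{u} R) i).obj K)) := by
  have h4 := nontrivial_stalk_iff_of_iso
    (Groth.Agent.Lib.Helper17.AdjWay.homologyIso (tilde.functor R) K i) p
  exact h4.trans (nontrivial_stalk_tilde_iff _ p)

variable [∀ (U : Scheme.{u}) (j : U ⟶ X) [IsOpenImmersion j],
    PreservesFiniteLimits (Scheme.Modules.restrictFunctor j)]
  [∀ (R : CommRingCat.{u}), PreservesFiniteLimits (tilde.functor R)]

/-- stalks of the cohomology sheaves of `ω` in an affine chart -/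
theorem nontrivial_stalk_HD_iff (ω : DCoh.D X) {A : Type u} [CommRing A]
    (j : Spec (CommRingCat.of A) ⟶ X) [IsOpenImmersion j] (ωA : Dual.D A)
    (e : (DCoh.restrictD j).obj ω ≅ (DCoh.tildeD (CommRingCat.of A)).obj ωA)
    (p : Spec (CommRingCat.of A)) (i : ℤ) :
    Nontrivial ((DCoh.HD ω i).presheaf.stalk (j p)) ↔
      Nontrivial (LocalizedModule p.asIdeal.primeCompl (Dual.HD A ωA i)) := by
  have h1 : Nontrivial (((Scheme.Modules.restrictFunctor j).obj (DCoh.HD ω i)).presheaf.stalk p) ↔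
      Nontrivial ((DCoh.HD ω i).presheaf.stalk (j p)) :=
    nontrivial_iff_of_iso_Ab ((Scheme.Modules.restrictStalkNatIso j p).app (DCoh.HD ω i))
  have h2 := nontrivial_stalk_iff_of_iso
    (Groth.Agent.Lib.Helper17.AdjWay.homologyIso (Scheme.Modules.restrictFunctor j) ω i) p
  have h3 := nontrivial_stalk_iff_of_iso
    ((DerivedCategory.homologyFunctor (Spec (CommRingCat.of A)).Modules i).mapIso e) p
  have h5 := nontrivial_stalk_HD_tildeD_iff (CommRingCat.of A) ωA p i
  rw [← h1, ← h2]
  exact h3.trans h5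

end Plumbing

section Algebra

open Groth.Agent.Lib.Seat8.DimFn Groth.Agent.Lib.Seat8.DimFn3 Groth.Agent.Lib.Seat8.PtwiseDual
  Groth.Agent.Lib.Seat8.CMLocus

variable {A : Type u} [CommRing A] [IsNoetherianRing A]

/-- `Hom(A, ω[i]) ≃ₗ H^i(ω)` -/
theorem nonempty_homSelfEquivHD (ω : Dual.D A) (i : ℤ) :
    Nonempty ((Dual.inD A A ⟶ (shiftFunctor (Dual.D A) i).obj ω) ≃ₗ[A] Dual.HD A ω i) := by
  have e2 := HDShiftEquiv ω i 0
  rw [add_zero] at e2
  exact ⟨(Groth.Agent.Lib.Seat8.HomSingle.evEquiv 0 ((shiftFunctor (Dual.D A) i).obj ω)).trans e2⟩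

/-- `A_p` is Cohen–Macaulay iff exactly one `H^i(ω)` is supported at `p` -/
theorem isCM_iff_existsUnique (ω : Dual.D A) (hω : Dual.IsDualizing A ω) (p : PrimeSpectrum A) :
    LocCoh.IsCohenMacaulayLocalRing (Localization.AtPrime p.asIdeal) ↔
      ∃! i : ℤ, Nontrivial (LocalizedModule p.asIdeal.primeCompl (Dual.HD A ω i)) := by
  have hsupp : ∀ i : ℤ, p ∈ Module.support A (Dual.inD A A ⟶ (shiftFunctor (Dual.D A) i).obj ω) ↔
      Nontrivial (LocalizedModule p.asIdeal.primeCompl (Dual.HD A ω i)) := by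
    intro i
    obtain ⟨E⟩ := nonempty_homSelfEquivHD ω i
    rw [E.support_eq, Module.mem_support_iff]
  have hnt : Nontrivial (LocalizedModule p.asIdeal.primeCompl A) :=
    (Groth.Agent.Lib.Helper28.localizedModuleSelfEquiv p.asIdeal).toEquiv.nontrivial
  have hcm := cm_iff ω hω A p
  rw [isCMRing_iff]
  constructor
  · intro h
    have h2 := hcm.mp (Or.inr h)
    -- existence
    obtain ⟨q, hq, hqp⟩ := Ideal.exists_minimalPrimes_le (bot_le : (⊥ : Ideal A) ≤ p.asIdeal)
    have hqprime : q.IsPrime := hq.1.1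
    have hArt : IsArtinianRing (Localization.AtPrime q) := by
      have := Ring.KrullDimLE.of_isLocalization q hq (Localization.AtPrime q)
      exact isArtinianRing_iff_krullDimLE_zero.mpr this
    have h3 : Nontrivial (LocalizedModule q.primeCompl (Dual.HD A ω (deg ω hω ⟨q, hqprime⟩))) :=
      (nontrivial_localized_HD_iff ω hω q _).mpr rfl
    have h4 : (⟨q, hqprime⟩ : PrimeSpectrum A) ∈
        Module.support A (Dual.HD A ω (deg ω hω ⟨q, hqprime⟩)) := Module.mem_support_iff.mpr h3
    have h5 : p ∈ Module.support A (Dual.HD A ω (deg ω hω ⟨q, hqprime⟩)) :=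
      Module.mem_support_mono (p := ⟨q, hqprime⟩) hqp h4
    refine ⟨deg ω hω ⟨q, hqprime⟩, Module.mem_support_iff.mp h5, fun j hj => ?_⟩
    exact h2 _ _ ((hsupp j).mpr hj) ((hsupp _).mpr (Module.mem_support_iff.mp h5))
  · rintro ⟨i, hi, huniq⟩
    have h2 := hcm.mpr (fun j j' hj hj' => by
      rw [huniq j ((hsupp j).mp hj), huniq j' ((hsupp j').mp hj')])
    rcases h2 with h2 | h2
    · exact absurd h2 (not_subsingleton _)
    · exact h2

end Algebra

section Final

variable {X : Scheme.{u}}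

/-- the local ring of `X` at a point of an affine chart -/
noncomputable def stalkEquiv {A : Type u} [CommRing A] (j : Spec (CommRingCat.of A) ⟶ X)
    [IsOpenImmersion j] (p : Spec (CommRingCat.of A)) :
    X.presheaf.stalk (j p) ≃+* Localization.AtPrime p.asIdeal :=
  (asIso (j.stalkMap p) ≪≫ Spec.stalkIso (CommRingCat.of A) p).commRingCatIsoToRingEquiv

theorem isCM_stalk_iff {A : Type u} [CommRing A] (j : Spec (CommRingCat.of A) ⟶ X)
    [IsOpenImmersion j] (p : Spec (CommRingCat.of A)) :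
    LocCoh.IsCohenMacaulayLocalRing (X.presheaf.stalk (j p)) ↔
      LocCoh.IsCohenMacaulayLocalRing (Localization.AtPrime p.asIdeal) :=
  ⟨fun h => Groth.Agent.Lib.Helper5.FiberMor.isoInv_cm _ _ (stalkEquiv j p) h,
    fun h => Groth.Agent.Lib.Helper5.FiberMor.isoInv_cm _ _ (stalkEquiv j p).symm h⟩

variable [∀ (U : Scheme.{u}) (j : U ⟶ X) [IsOpenImmersion j],
    PreservesFiniteLimits (Scheme.Modules.restrictFunctor j)]
  [∀ (R : CommRingCat.{u}), PreservesFiniteLimits (tilde.functor R)]

theorem main (ω : DCoh.D X) (hω : Dual2.IsDualizingSch X ω) :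
    (∀ x : X, LocCoh.IsCohenMacaulayLocalRing (X.presheaf.stalk x) ↔
      ∃! i : ℤ, Nontrivial ((DCoh.HD ω i).presheaf.stalk x)) ∧
    IsOpen {x : X | LocCoh.IsCohenMacaulayLocalRing (X.presheaf.stalk x)} := by
  -- affine charts
  have hchart : ∀ x : X, ∃ (A : Type u) (_ : CommRing A) (j : Spec (CommRingCat.of A) ⟶ X)
      (_ : IsOpenImmersion j) (p : Spec (CommRingCat.of A)), j p = x := by
    intro x
    obtain ⟨R, f, hf, y, hy⟩ := Scheme.exists_Spec_apply_eq x
    exact ⟨R, inferInstance, f, hf, y, hy⟩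
  constructor
  · intro x
    obtain ⟨A, _, j, _, p, rfl⟩ := hchart x
    obtain ⟨ωA, hωA, ⟨e⟩⟩ := hω A j
    have hN := hωA.isNoetherianRing
    rw [isCM_stalk_iff j p, isCM_iff_existsUnique ωA hωA p]
    constructor
    · rintro ⟨i, hi, hu⟩
      exact ⟨i, (nontrivial_stalk_HD_iff ω j ωA e p i).mpr hi,
        fun k hk => hu k ((nontrivial_stalk_HD_iff ω j ωA e p k).mp hk)⟩
    · rintro ⟨i, hi, hu⟩
      exact ⟨i, (nontrivial_stalk_HD_iff ω j ωA e p i).mp hi,
        fun k hk => hu k ((nontrivial_stalk_HD_iff ω j ωA e p k).mpr hk)⟩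
  · rw [isOpen_iff_forall_mem_open]
    intro x hx
    obtain ⟨A, _, j, _, p, rfl⟩ := hchart x
    obtain ⟨ωA, hωA, -⟩ := hω A j
    have hN := hωA.isNoetherianRing
    have hopen := (Groth.Agent.S0372.result A ωA hωA).1
    refine ⟨j '' {q | LocCoh.IsCohenMacaulayLocalRing (Localization.AtPrime q.asIdeal)}, ?_,
      j.isOpenEmbedding.isOpenMap _ hopen, ⟨p, (isCM_stalk_iff j p).mp hx, rfl⟩⟩
    rintro _ ⟨q, hq, rfl⟩
    exact (isCM_stalk_iff j q).mpr hq

end Final

end Groth.Agent.Lib.Seat8.CMSch
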