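import Mathlib
import Groth.Prelude.Def_DDual2
import Groth.Prelude.Def_CAlg
import Groth.Agent.Lib.Seat8PtwiseDual
import Groth.Agent.Lib.Seat8DepthDual
import Groth.Agent.Lib.Seat8NormAmp
import Groth.Agent.Lib.Seat8Bass
import Groth.Agent.S14388
import Groth.Agent.S0973
import Groth.Agent.S0366
import Groth.Agent.S1719
import Groth.Agent.Lib.Helper28Depth

set_option autoImplicit false
set_option linter.unusedSectionVars false
universe u
open CategoryTheory CategoryTheory.Limits Pretriangulated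

attribute [local instance] HasDerivedCategory.standard

namespace Groth.Agent.Lib.Seat8.CanonS2

open DerivedCategory Groth.Agent.Lib.Seat8.DimFn Groth.Agent.Lib.Seat8.DimFn2
  Groth.Agent.Lib.Seat8.DimFn3 Groth.Agent.Lib.Seat8.DimFn4 Groth.Agent.Lib.Seat8.DualShift
  Groth.Agent.Lib.Helper1.Extend Groth.Agent.Lib.Seat8.PtwiseDual Groth.Agent.S14388

section Local

variable {B : Type u} [CommRing B] [IsLocalRing B] [IsNoetherianRing B]
  (ω : Dual.D B) (hω : Dual.IsDualizing B ω) (hn : Dual.IsNormalized B ω)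

include hω hn in
/-- `Hom(N, ω[j]) = 0` when `N ∈ D^{≥ m}` and `j + m > 0` -/
theorem subsingleton_hom_of_isGE (N : Dual.D B) (m : ℤ) (hN : N.IsGE m) (j : ℤ) (hj : 0 < j + m) :
    Subsingleton (N ⟶ ω⟦j⟧) := by
  have hNm : (N⟦m⟧).IsGE 0 := DerivedCategory.TStructure.t.isGE_shift N m m 0 (by omega)
  have h := Groth.Agent.Lib.Seat8.NormAmp.subsingleton_hom_of_isGE ω hω hn (N⟦m⟧) (j + m) hj
  refine ⟨fun f g => ?_⟩
  apply (shiftFunctor (Dual.D B) m).map_injective
  rw [← cancel_mono ((shiftFunctorAdd' (Dual.D B) j m (j + m) rfl).app ω).inv]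
  exact h.elim _ _

include hω hn in
/-- the cohomology of a normalized dualizing complex vanishes below `-dim B` -/
theorem isGE_of_ringKrullDim (δ : ℕ) (hδ : ringKrullDim B = δ) : ω.IsGE (-(δ : ℤ)) := by
  rw [DerivedCategory.isGE_iff]
  intro i hi
  have hsd : Module.supportDim B B = (δ : WithBot ℕ∞) := by
    rw [Module.supportDim_self_eq_ringKrullDim, hδ]
  have h1 := (Groth.Agent.S0366.result B ω hω hn B δ hsd i).1
  have h2 : Subsingleton (Dual.inD B B ⟶ ω⟦i⟧) := by
    by_contra hcon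
    rw [not_subsingleton_iff_nontrivial] at hcon
    have := h1 hcon
    omega
  obtain ⟨e⟩ := nonempty_equiv_HD ω i
  have h3 : Subsingleton (Dual.HD B ω i) := e.symm.subsingleton
  exact ModuleCat.isZero_of_subsingleton _

include hω hn in
/-- `Ext^i(H^{-δ}(ω), ω) = 0` for `i = 0` (if `δ ≥ 1`) and `i = -1` (if `δ ≥ 2`) -/
theorem subsingleton_ext_canonical (δ : ℕ) (hδ : ringKrullDim B = δ) (i : ℤ) (hi : i + δ ≠ 0)
    (hi' : -1 ≤ i) : Subsingleton (Dual.inD B (Dual.HD B ω (-(δ : ℤ))) ⟶ ω⟦i⟧) := by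
  have hGE : ω.IsGE (-(δ : ℤ)) := isGE_of_ringKrullDim ω hω hn δ hδ
  set n : ℤ := -(δ : ℤ) with hndef
  -- truncation triangle
  have hT := tt.triangleLTGE_distinguished (n + 1) ω
  have hLLE : ((tt.truncLT (n + 1)).obj ω).IsLE n := inferInstance
  have hLGE : ((tt.truncLT (n + 1)).obj ω).IsGE n := inferInstance
  obtain ⟨e₁⟩ := Groth.Agent.S0973.iso_single_of_amp ((tt.truncLT (n + 1)).obj ω) n
  have hι := isIso_homology_truncLTι (n + 1) n (by omega) ω
  let eH : (homologyFunctor (ModuleCat.{u} B) n).obj ((tt.truncLT (n + 1)).obj ω) ≅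
      (homologyFunctor (ModuleCat.{u} B) n).obj ω :=
    asIso ((homologyFunctor (ModuleCat.{u} B) n).map ((tt.truncLTι (n + 1)).app ω))
  -- `L' ≅ (inD K)[δ]`
  let e₂ : (tt.truncLT (n + 1)).obj ω ≅
      (singleFunctor (ModuleCat.{u} B) n).obj ((homologyFunctor (ModuleCat.{u} B) n).obj ω) :=
    e₁ ≪≫ (singleFunctor (ModuleCat.{u} B) n).mapIso eH
  let e₃ : (Dual.inD B (Dual.HD B ω n))⟦(δ : ℤ)⟧ ≅
      (singleFunctor (ModuleCat.{u} B) n).obj ((homologyFunctor (ModuleCat.{u} B) n).obj ω) :=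
    ((DerivedCategory.singleFunctors (ModuleCat.{u} B)).shiftIso (δ : ℤ) n 0 (by omega)).app _
  -- vanishing of `Hom(L', ω[j])` for `j = i + δ`
  have hG : ((tt.truncGE (n + 1)).obj ω).IsGE (n + 1) := inferInstance
  have key : Subsingleton ((tt.truncLT (n + 1)).obj ω ⟶ ω⟦i + δ⟧) := by
    have h3 : Subsingleton ((tt.truncGE (n + 1)).obj ω ⟶ (ω⟦i + δ⟧)⟦(1 : ℤ)⟧) := by
      have h4 := subsingleton_hom_of_isGE ω hω hn ((tt.truncGE (n + 1)).obj ω) (n + 1) hG
        (i + δ + 1) (by omega)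
      exact Groth.Agent.Lib.Seat8.DualBC.subsingleton_hom_of_iso (Iso.refl _)
        ((shiftFunctorAdd' (Dual.D B) (i + δ) 1 (i + δ + 1) rfl).app ω) h4
    refine ⟨fun f g => ?_⟩
    have h0 : ∀ f : (tt.truncLT (n + 1)).obj ω ⟶ ω⟦i + δ⟧, f = 0 := by
      intro f
      obtain ⟨g, hg⟩ := Groth.Agent.Lib.Seat8.Bass.exists_factor _ hT (ω⟦i + δ⟧) h3 f
      have hg0 : g = 0 := (hω.ext_self_subsingleton (i + δ) hi).elim _ _
      rw [hg, hg0]
      exact comp_zero
    rw [h0 f, h0 g]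
  -- transport
  refine ⟨fun f g => ?_⟩
  apply (shiftFunctor (Dual.D B) (δ : ℤ)).map_injective
  rw [← cancel_mono ((shiftFunctorAdd' (Dual.D B) i δ (i + δ) rfl).app ω).inv,
    ← cancel_epi (e₂ ≪≫ e₃.symm).hom]
  exact key.elim _ _

include hω hn in
/-- the canonical module `H^{-δ}(ω)` has depth at least `min(2, δ)` -/
theorem min_le_depth_canonical (δ : ℕ) (hδ : ringKrullDim B = δ) :
    min (2 : ℕ∞) (δ : ℕ∞) ≤ LocCoh.depth B (Dual.HD B ω (-(δ : ℤ))) := by
  have hfin : Module.Finite B (Dual.HD B ω (-(δ : ℤ))) := hω.finite_cohomology _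
  by_cases htop : LocCoh.depth B (Dual.HD B ω (-(δ : ℤ))) = ⊤
  · rw [htop]; exact le_top
  obtain ⟨t, ht⟩ := ENat.ne_top_iff_exists.mp htop
  have hnt : Nontrivial (Dual.HD B ω (-(δ : ℤ))) := by
    by_contra hsub
    rw [not_nontrivial_iff_subsingleton] at hsub
    apply htop
    exact Groth.Agent.Lib.Helper28.idealDepth_eq_top_of_smul_top_eq_top _ _
      (Subsingleton.elim _ _)
  obtain ⟨-, hne⟩ := Groth.Agent.Lib.Seat8.DepthDual.ext_of_depth_eq ω hω hn t
    (Dual.HD B ω (-(δ : ℤ))) ht.symm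
  rw [← ht]
  by_contra hlt
  push Not at hlt
  have h2 : (t : ℕ∞) < 2 := lt_of_lt_of_le hlt (min_le_left _ _)
  have h3 : (t : ℕ∞) < (δ : ℕ∞) := lt_of_lt_of_le hlt (min_le_right _ _)
  have h2' : t < 2 := by exact_mod_cast h2
  have h3' : t < δ := by exact_mod_cast h3
  have hs := subsingleton_ext_canonical ω hω hn δ hδ (-(t : ℤ)) (by omega) (by omega)
  exact not_subsingleton _ hs

end Local

section Global

variable {A : Type u} [CommRing A] [IsNoetherianRing A]

/-- if `p ∈ Supp H^i(ω)` then `deg p - dim A_p ≤ i` -/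
theorem deg_sub_le_of_mem_support (ω : Dual.D A) (hω : Dual.IsDualizing A ω) (i : ℤ)
    (p : PrimeSpectrum A) (hp : p ∈ Module.support A (Dual.HD A ω i)) (δ : ℕ)
    (hδ : ringKrullDim (Localization.AtPrime p.asIdeal) = δ) : deg ω hω p - δ ≤ i := by
  by_contra hlt
  push Not at hlt
  obtain ⟨h1, h2⟩ := isDualizing_isNormalized_atPrime ω hω p
  have hNoeth := h1.isNoetherianRing
  have hGE := isGE_of_ringKrullDim _ h1 h2 δ hδ
  have hz : Subsingleton (Dual.HD (Localization.AtPrime p.asIdeal)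
      (((extD A (Localization.AtPrime p.asIdeal)).obj ω)⟦deg ω hω p⟧) (i - deg ω hω p)) := by
    have := DerivedCategory.isZero_of_isGE _ (-(δ : ℤ)) (i - deg ω hω p) (by omega) (hX := hGE)
    exact ModuleCat.subsingleton_of_isZero this
  have E2 := HDShiftEquiv ((extD A (Localization.AtPrime p.asIdeal)).obj ω) (deg ω hω p)
    (i - deg ω hω p)
  have hj : deg ω hω p + (i - deg ω hω p) = i := by ring
  rw [hj] at E2
  obtain ⟨E1⟩ := nonempty_linearEquiv_localized_HD ω p.asIdeal i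
  have : Subsingleton (LocalizedModule p.asIdeal.primeCompl (Dual.HD A ω i)) :=
    (E1.trans E2.symm).toEquiv.subsingleton
  rw [Module.mem_support_iff] at hp
  exact not_subsingleton _ this

end Global

section LocalGlobal

variable {A : Type u} [CommRing A] [IsLocalRing A] [IsNoetherianRing A]
  (ω : Dual.D A) (hω : Dual.IsDualizing A ω) (hn : Dual.IsNormalized A ω)
  (d : ℕ) (hd : ringKrullDim A = d)

include hn hd in
theorem neg_le_deg (r : PrimeSpectrum A) : -(d : ℤ) ≤ deg ω hω r := by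
  have h1 := coheight_eq ω hω hn r
  have h2 : (Order.coheight r : WithBot ℕ∞) ≤ (d : WithBot ℕ∞) := by
    rw [← hd]; exact Order.coheight_le_krullDim r
  rw [h1] at h2
  have h3 : (-deg ω hω r).toNat ≤ d := by exact_mod_cast h2
  omega

include hn hd in
/-- for `p ∈ Supp H^{-d}(ω)`: `dim A_p = d + deg p` -/
theorem exists_dim_eq (p : PrimeSpectrum A)
    (hp : p ∈ Module.support A (Dual.HD A ω (-(d : ℤ)))) :
    ∃ δ : ℕ, ringKrullDim (Localization.AtPrime p.asIdeal) = δ ∧ Order.height p = δ ∧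
      (δ : ℤ) = d + deg ω hω p := by
  have hsum : ((Order.height p + Order.coheight p : ℕ∞) : WithBot ℕ∞) ≤ (d : WithBot ℕ∞) := by
    rw [← hd]
    unfold ringKrullDim
    rw [Order.krullDim_eq_iSup_height_add_coheight_of_nonempty]
    exact WithBot.coe_le_coe.mpr (le_iSup (fun a : PrimeSpectrum A =>
      Order.height a + Order.coheight a) p)
  have hsum' : Order.height p + Order.coheight p ≤ (d : ℕ∞) := by exact_mod_cast hsum
  have hht : Order.height p ≠ ⊤ := by
    intro h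
    rw [h, top_add] at hsum'
    exact absurd hsum' (by simp)
  obtain ⟨δ, hδ⟩ := ENat.ne_top_iff_exists.mp hht
  have hdim : ringKrullDim (Localization.AtPrime p.asIdeal) = δ := by
    rw [IsLocalization.AtPrime.ringKrullDim_eq_height p.asIdeal,
      PrimeSpectrum.height_eq_orderHeight, ← hδ]
    rfl
  refine ⟨δ, hdim, hδ.symm, ?_⟩
  have h1 := deg_sub_le_of_mem_support ω hω _ p hp δ hdim
  rw [coheight_eq ω hω hn p, ← hδ] at hsum'
  have h2 : δ + (-deg ω hω p).toNat ≤ d := by exact_mod_cast hsum'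
  have h3 := deg_le_zero ω hω hn p
  omega

include hω hn hd in
/-- the support of `H^{-d}(ω)` -/
theorem support_canonical :
    Module.support A (Dual.HD A ω (-(d : ℤ))) = {p : PrimeSpectrum A |
      ∃ q ∈ minimalPrimes A, q ≤ p.asIdeal ∧ ringKrullDim (A ⧸ q) = d} := by
  ext p
  simp only [Set.mem_ofPred_eq]
  constructor
  · intro hp
    obtain ⟨δ, -, hht, hδ⟩ := exists_dim_eq ω hω hn d hd p hp
    obtain ⟨l, hlast, hlen⟩ := Order.exists_series_of_height_eq_coe p hht
    have h1 := add_length_le (deg ω hω) (deg_strictMono ω hω) l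
    rw [hlast, hlen] at h1
    have h2 := neg_le_deg ω hω hn d hd l.head
    have hdeg : deg ω hω l.head = -(d : ℤ) := by omega
    have hle : l.head ≤ p := by rw [← hlast]; exact l.head_le_last
    refine ⟨l.head.asIdeal, ⟨⟨l.head.2, bot_le⟩, ?_⟩, hle, ?_⟩
    · rintro I ⟨hI, -⟩ hIq
      by_contra hcon
      have hlt : (⟨I, hI⟩ : PrimeSpectrum A) < l.head := lt_of_le_not_ge hIq hcon
      have h3 := deg_strictMono ω hω hlt
      have h4 := neg_le_deg ω hω hn d hd ⟨I, hI⟩
      omega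
    · rw [ringKrullDim_quotient_eq ω hω hn l.head, hdeg]
      simp
  · rintro ⟨q, hq, hqp, hdim⟩
    have hqprime : q.IsPrime := hq.1.1
    have h1 := (Groth.Agent.S1719.result A ω hω hn q hq d hdim (-(d : ℤ))).mpr rfl
    have h2 : (⟨q, hqprime⟩ : PrimeSpectrum A) ∈ Module.support A (Dual.HD A ω (-(d : ℤ))) :=
      Module.mem_support_iff.mpr h1
    exact Module.mem_support_mono (p := ⟨q, hqprime⟩) hqp h2

include hω hn hd in
/-- `H^{-d}(ω)` satisfies `(S₂)` -/
theorem hasSk_two_canonical : LocCoh.HasSk 2 A (Dual.HD A ω (-(d : ℤ))) := by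
  intro p hp
  by_cases hsupp : (⟨p, hp⟩ : PrimeSpectrum A) ∈ Module.support A (Dual.HD A ω (-(d : ℤ)))
  · obtain ⟨δ, hδ, -, hdeg⟩ := exists_dim_eq ω hω hn d hd ⟨p, hp⟩ hsupp
    obtain ⟨h1, h2⟩ := isDualizing_isNormalized_atPrime ω hω ⟨p, hp⟩
    have hNoeth := h1.isNoetherianRing
    have hdep := min_le_depth_canonical _ h1 h2 δ hδ
    obtain ⟨E1⟩ := nonempty_linearEquiv_localized_HD ω p (-(d : ℤ))
    have E2 := HDShiftEquiv ((extD A (Localization.AtPrime p)).obj ω) (deg ω hω ⟨p, hp⟩)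
      (-(δ : ℤ))
    have hj : deg ω hω ⟨p, hp⟩ + -(δ : ℤ) = -(d : ℤ) := by omega
    rw [hj] at E2
    have hdepth : LocCoh.depth (Localization.AtPrime p)
        (LocalizedModule p.primeCompl (Dual.HD A ω (-(d : ℤ)))) =
        LocCoh.depth (Localization.AtPrime p) (Dual.HD (Localization.AtPrime p)
          (((extD A (Localization.AtPrime p)).obj ω)⟦deg ω hω ⟨p, hp⟩⟧) (-(δ : ℤ))) :=
      Groth.Agent.Lib.Helper28.idealDepth_congr (E1.trans E2.symm) _
    have hsd : Module.supportDim (Localization.AtPrime p)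
        (LocalizedModule p.primeCompl (Dual.HD A ω (-(d : ℤ)))) ≤ (δ : WithBot ℕ∞) := by
      rw [← hδ]
      exact Module.supportDim_le_ringKrullDim _ _
    rw [hdepth]
    calc min ((2 : ℕ) : WithBot ℕ∞) (Module.supportDim (Localization.AtPrime p)
          (LocalizedModule p.primeCompl (Dual.HD A ω (-(d : ℤ)))))
        ≤ min ((2 : ℕ) : WithBot ℕ∞) (δ : WithBot ℕ∞) := min_le_min_left _ hsd
      _ = ((min (2 : ℕ∞) (δ : ℕ∞) : ℕ∞) : WithBot ℕ∞) := by
          rw [WithBot.coe_min]; rfl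
      _ ≤ _ := WithBot.coe_le_coe.mpr hdep
  · have hsub : Subsingleton (LocalizedModule p.primeCompl (Dual.HD A ω (-(d : ℤ)))) := by
      rw [Module.mem_support_iff, not_nontrivial_iff_subsingleton] at hsupp
      exact hsupp
    rw [Module.supportDim_eq_bot_of_subsingleton]
    simp

end LocalGlobal

end Groth.Agent.Lib.Seat8.CanonS2
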