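import Mathlib
import Groth.Agent.Lib.Helper2Div

/-!
# Ideal sheaves on affine opens: support versus primes (seat 8)
-/

set_option autoImplicit false
universe u

open CategoryTheory Limits AlgebraicGeometry

namespace Groth.Agent.Lib.Seat8.Div

/-- a point of an affine open lies in the support of an ideal sheaf iff its prime contains the ideal -/
lemma mem_support_iff_le_primeIdealOf {X : Scheme.{u}} (D : X.IdealSheafData) (U : X.affineOpens)
    (y : X) (hy : y ∈ U.1) :
    y ∈ D.support ↔ D.ideal U ≤ (U.2.primeIdealOf ⟨y, hy⟩).asIdeal := by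
  rw [Scheme.IdealSheafData.mem_support_iff_of_mem hy, Scheme.mem_zeroLocus_iff]
  constructor
  · intro h f hf
    have := h f hf
    rwa [Groth.Agent.Lib.Helper2.mem_basicOpen_iff_notMem_primeIdealOf U.2 y hy, not_not] at this
  · intro h f hf
    rw [Groth.Agent.Lib.Helper2.mem_basicOpen_iff_notMem_primeIdealOf U.2 y hy, not_not]
    exact h hf

/-- specialization between points of an affine open is inclusion of primes -/
lemma primeIdealOf_le_of_specializes {X : Scheme.{u}} (U : X.affineOpens) (y y' : X) (hy : y ∈ U.1)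
    (hy' : y' ∈ U.1) (h : y ⤳ y') :
    (U.2.primeIdealOf ⟨y, hy⟩).asIdeal ≤ (U.2.primeIdealOf ⟨y', hy'⟩).asIdeal := by
  have hU : IsAffineOpen U.1 := U.2
  have h1 : hU.fromSpec (hU.primeIdealOf ⟨y, hy⟩) ⤳ hU.fromSpec (hU.primeIdealOf ⟨y', hy'⟩) := by
    rw [hU.fromSpec_primeIdealOf ⟨y, hy⟩, hU.fromSpec_primeIdealOf ⟨y', hy'⟩]
    exact h
  have h2 := (hU.fromSpec.isOpenEmbedding.isInducing.specializes_iff).1 h1
  exact (PrimeSpectrum.le_iff_specializes _ _).2 h2

/-- the point of an affine open attached to a prime of its ring of sections -/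
lemma exists_point_of_prime {X : Scheme.{u}} (U : X.affineOpens) (p : Ideal Γ(X, U.1)) [hp : p.IsPrime] :
    ∃ (y : X) (hy : y ∈ U.1), (U.2.primeIdealOf ⟨y, hy⟩).asIdeal = p := by
  have hU : IsAffineOpen U.1 := U.2
  let Q : PrimeSpectrum Γ(X, U.1) := ⟨p, hp⟩
  have hyU : hU.fromSpec Q ∈ U.1 := by
    have : hU.fromSpec Q ∈ Set.range hU.fromSpec := ⟨Q, rfl⟩
    rw [hU.range_fromSpec] at this
    exact this
  have hQ : hU.primeIdealOf ⟨hU.fromSpec Q, hyU⟩ = Q := by
    apply hU.fromSpec.isOpenEmbedding.injective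
    exact hU.fromSpec_primeIdealOf ⟨hU.fromSpec Q, hyU⟩
  exact ⟨_, hyU, by rw [hQ]⟩

end Groth.Agent.Lib.Seat8.Div
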