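import Mathlib
import Groth.Agent.Lib.Seat8DualBC

/-!
# Descent of dualizing complexes along jointly faithful families of flat algebras (seat 8)

* `JointlyFaithful B`: every maximal ideal of `A` survives in some `B j`.
* `JointlyFaithful.subsingleton`, `JointlyFaithful.bijective`: vanishing of modules and bijectivity of linear
  maps (in any universe) descend.
* `finiteInjDim_of_extD`, `isDualizing_of_extD`: descent of finite injective dimension and of the dualizing
  property for objects of `D^b_coh`.
-/

set_option autoImplicit false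
universe w w' u
open CategoryTheory CategoryTheory.Limits Pretriangulated
attribute [local instance] HasDerivedCategory.standard
open ModuleCat.Algebra
open Groth.Agent.Lib.Helper1.Extend
open Groth.Agent.Lib.Seat8.FBC
open Groth.Agent.Lib.Seat8.DualBC
open scoped TensorProduct

namespace Groth.Agent.Lib.Seat8.DualDesc

section Faithful

variable (A : Type u) [CommRing A] {J : Type*} (B : J → Type u) [∀ j, CommRing (B j)]
  [∀ j, Algebra A (B j)]

/-- every maximal ideal of `A` survives in some `B j` -/
def JointlyFaithful : Prop := ∀ m : Ideal A, m.IsMaximal → ∃ j, m.map (algebraMap A (B j)) ≠ ⊤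

variable {A B} [∀ j, Module.Flat A (B j)]

lemma JointlyFaithful.subsingleton (hB : JointlyFaithful A B) (M : Type w) [AddCommGroup M]
    [Module A M] (h : ∀ j, Subsingleton (B j ⊗[A] M)) : Subsingleton M := by
  by_contra hM
  rw [not_subsingleton_iff_nontrivial] at hM
  obtain ⟨x, hx⟩ := exists_ne (0 : M)
  let g : A →ₗ[A] M := LinearMap.toSpanSingleton A M x
  have hI : LinearMap.ker g ≠ ⊤ := by
    intro hI
    have h1 : (1 : A) ∈ LinearMap.ker g := hI ▸ Submodule.mem_top
    rw [LinearMap.mem_ker] at h1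
    exact hx (by simpa [g] using h1)
  obtain ⟨m, hm, hIm⟩ := Ideal.exists_le_maximal (LinearMap.ker g) hI
  obtain ⟨j, hj⟩ := hB m hm
  let g' : (A ⧸ LinearMap.ker g) →ₗ[A] M := (LinearMap.ker g).liftQ g le_rfl
  have hg' : Function.Injective g' := by
    rw [← LinearMap.ker_eq_bot]
    exact Submodule.ker_liftQ_eq_bot _ _ _ le_rfl
  have h2 : Function.Injective (g'.lTensor (B j)) :=
    Module.Flat.lTensor_preserves_injective_linearMap g' hg'
  have := h j
  have h3 : Subsingleton (B j ⊗[A] (A ⧸ LinearMap.ker g)) := h2.subsingleton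
  have h4 : Subsingleton (B j ⧸ Ideal.map (algebraMap A (B j)) (LinearMap.ker g)) :=
    (Ideal.qoutMapEquivTensorQout (B j) (I := LinearMap.ker g)).injective.subsingleton
  rw [Ideal.Quotient.subsingleton_iff] at h4
  exact hj (top_le_iff.1 (h4 ▸ Ideal.map_mono hIm))

lemma JointlyFaithful.bijective (hB : JointlyFaithful A B) {M : Type w} {N : Type w'} [AddCommGroup M]
    [Module A M] [AddCommGroup N] [Module A N] (f : M →ₗ[A] N)
    (h : ∀ j, Function.Bijective (f.lTensor (B j))) : Function.Bijective f := by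
  constructor
  · rw [← LinearMap.ker_eq_bot]
    have : Subsingleton (LinearMap.ker f) := by
      refine hB.subsingleton _ (fun j => ?_)
      have h1 : Function.Injective ((LinearMap.ker f).subtype.lTensor (B j)) :=
        Module.Flat.lTensor_preserves_injective_linearMap _ (Submodule.subtype_injective _)
      refine ⟨fun y z => h1 ((h j).1 ?_)⟩
      have hc : f ∘ₗ (LinearMap.ker f).subtype = 0 := by
        ext ⟨x, hx⟩
        exact hx
      have h2 : ∀ y, (f.lTensor (B j)) (((LinearMap.ker f).subtype.lTensor (B j)) y) = 0 := by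
        intro y
        rw [← LinearMap.comp_apply, ← LinearMap.lTensor_comp, hc, LinearMap.lTensor_zero]
        rfl
      rw [h2 y, h2 z]
    exact Submodule.eq_bot_of_subsingleton
  · rw [← LinearMap.range_eq_top]
    have : Subsingleton (N ⧸ LinearMap.range f) := by
      refine hB.subsingleton _ (fun j => ?_)
      have h1 : Function.Surjective ((LinearMap.range f).mkQ.lTensor (B j)) :=
        LinearMap.lTensor_surjective _ (Submodule.mkQ_surjective _)
      have hc : (LinearMap.range f).mkQ ∘ₗ f = 0 := by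
        ext x
        simp
      have h2 : ∀ z, ((LinearMap.range f).mkQ.lTensor (B j)) z = 0 := by
        intro z
        obtain ⟨w, rfl⟩ := (h j).2 z
        rw [← LinearMap.comp_apply, ← LinearMap.lTensor_comp, hc, LinearMap.lTensor_zero]
        rfl
      refine ⟨fun y z => ?_⟩
      obtain ⟨y', rfl⟩ := h1 y
      obtain ⟨z', rfl⟩ := h1 z
      rw [h2, h2]
    exact Submodule.Quotient.subsingleton_iff.1 this

end Faithful

section Instances

variable {A : Type u} [CommRing A]

lemma jointlyFaithful_of_faithfullyFlat (B : Type u) [CommRing B] [Algebra A B]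
    [Module.FaithfullyFlat A B] : JointlyFaithful A (fun _ : Unit => B) := by
  intro m hm
  refine ⟨(), fun h => ?_⟩
  have h1 := Ideal.comap_map_eq_self_of_faithfullyFlat (B := B) m
  rw [h, Ideal.comap_top] at h1
  exact hm.ne_top h1.symm

lemma jointlyFaithful_away {n : ℕ} (f : Fin n → A) (hf : Ideal.span (Set.range f) = ⊤) :
    JointlyFaithful A (fun i : Fin n => Localization.Away (f i)) := by
  intro m hm
  have : ∃ i, f i ∉ m := by
    by_contra hcon
    push Not at hcon
    have : Ideal.span (Set.range f) ≤ m := Ideal.span_le.2 (by rintro _ ⟨i, rfl⟩; exact hcon i)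
    rw [hf] at this
    exact hm.ne_top (top_le_iff.1 this)
  obtain ⟨i, hi⟩ := this
  refine ⟨i, ?_⟩
  rw [IsLocalization.map_algebraMap_ne_top_iff_disjoint (Submonoid.powers (f i))]
  rw [Set.disjoint_left]
  rintro _ ⟨k, rfl⟩ hk
  exact hi (hm.isPrime.mem_of_pow_mem k hk)

lemma jointlyFaithful_maximal :
    JointlyFaithful A (fun m : MaximalSpectrum A => Localization.AtPrime m.asIdeal) := by
  intro m hm
  refine ⟨⟨m, hm⟩, ?_⟩
  rw [IsLocalization.map_algebraMap_ne_top_iff_disjoint m.primeCompl]
  rw [Set.disjoint_left]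
  intro x hx hx'
  exact hx hx'

end Instances

section Descent

variable {A : Type u} [CommRing A] {J : Type*} {B : J → Type u} [∀ j, CommRing (B j)]
  [∀ j, Algebra A (B j)] [∀ j, Module.Flat A (B j)] (hB : JointlyFaithful A B)

include hB

lemma JointlyFaithful.isZero (H : ModuleCat.{u} A) (h : ∀ j, IsZero ((ext A (B j)).obj H)) :
    IsZero H := by
  have : Subsingleton H := hB.subsingleton H (fun j => by
    have h1 : Subsingleton ((ext A (B j)).obj H) := ModuleCat.subsingleton_of_isZero (h j)
    exact (extEquiv (A := A) (B := B j) H).symm.injective.subsingleton)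
  exact ModuleCat.isZero_of_subsingleton H

lemma JointlyFaithful.isLE (X : Dual.D A) (n : ℤ) (h : ∀ j, ((extD A (B j)).obj X).IsLE n) :
    X.IsLE n := by
  rw [DerivedCategory.isLE_iff]
  intro i hi
  refine hB.isZero _ (fun j => ?_)
  exact ((DerivedCategory.isLE_iff _ n).1 (h j) i hi).of_iso (homologyMapDIso (ext A (B j)) X i).symm

lemma JointlyFaithful.isGE (X : Dual.D A) (n : ℤ) (h : ∀ j, ((extD A (B j)).obj X).IsGE n) :
    X.IsGE n := by
  rw [DerivedCategory.isGE_iff]
  intro i hi
  refine hB.isZero _ (fun j => ?_)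
  exact ((DerivedCategory.isGE_iff _ n).1 (h j) i hi).of_iso (homologyMapDIso (ext A (B j)) X i).symm

/-- vanishing of `Hom(K, L[i])` descends -/
lemma subsingleton_hom_of_extD (K L : Dual.D A) (i : ℤ) (hBC : ∀ j, BC (B j) K (L⟦i⟧))
    (h : ∀ j, Subsingleton ((extD A (B j)).obj K ⟶ ((extD A (B j)).obj L)⟦i⟧)) :
    Subsingleton (K ⟶ L⟦i⟧) := by
  refine hB.subsingleton _ (fun j => ?_)
  have h2 : Subsingleton ((extD A (B j)).obj K ⟶ (extD A (B j)).obj (L⟦i⟧)) :=
    subsingleton_hom_of_iso (Iso.refl _) (((extD A (B j)).commShiftIso i).app L).symm (h j)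
  exact (hBC j).1.subsingleton

/-- bijectivity of `A → End(K)` descends -/
lemma toEnd_bijective_of_extD (K : Dual.D A) (hBC : ∀ j, BC (B j) K K)
    (h : ∀ j, Function.Bijective (fun b : B j => b • 𝟙 ((extD A (B j)).obj K))) :
    Function.Bijective (fun a : A => a • 𝟙 K) := by
  let t : A →ₗ[A] (K ⟶ K) :=
    { toFun := fun a => a • 𝟙 K
      map_add' := fun x y => add_smul x y _
      map_smul' := fun x y => by simp [mul_smul] }
  refine hB.bijective t (fun j => ?_)
  have h1 : (fun b : B j => b • 𝟙 ((extD A (B j)).obj K)) =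
      (cmp (B j) K K) ∘ ((t.lTensor (B j)) ∘ (TensorProduct.rid A (B j)).symm) := by
    funext b
    show _ = cmp (B j) K K (t.lTensor (B j) ((TensorProduct.rid A (B j)).symm b))
    rw [TensorProduct.rid_symm_apply, LinearMap.lTensor_tmul, cmp_tmul]
    show _ = b • (extD A (B j)).map ((1 : A) • 𝟙 K)
    rw [one_smul, CategoryTheory.Functor.map_id]
  have h2 := h j
  rw [h1] at h2
  have h3 := (Function.Bijective.of_comp_iff' (hBC j) _).1 h2
  exact (Function.Bijective.of_comp_iff _ (TensorProduct.rid A (B j)).symm.bijective).1 h3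

/-- finite injective dimension descends (with uniform bounds) for bounded below objects -/
lemma finiteInjDim_of_extD [IsNoetherianRing A] (K : Dual.D A) (c : ℤ) (hGE : K.IsGE c) (a b : ℤ)
    (h : ∀ (j : J) (N : Type u) [AddCommGroup N] [Module (B j) N] (i : ℤ), (i < a ∨ b < i) →
      Subsingleton (Dual.inD (B j) N ⟶ ((extD A (B j)).obj K)⟦i⟧)) :
    ∀ (M : Type u) [AddCommGroup M] [Module A M] (i : ℤ), (i < a ∨ b < i) →
      Subsingleton (Dual.inD A M ⟶ K⟦i⟧) := by
  have key := ((Groth.Agent.S6965.result A K a b).out 2 1).1 ?_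
  · intro M _ _ i hi
    exact key M i hi
  intro I i hi
  have hsh : (K⟦i⟧).IsGE (c - i) := DerivedCategory.TStructure.t.isGE_shift K c i (c - i) (by omega)
  have hBC : ∀ j, BC (B j) (Dual.inD A (A ⧸ I)) (K⟦i⟧) := fun j =>
    BC_of_pseudoCoherent _ _ (c - i) hsh (fun m => isPC_inD (A ⧸ I) m)
  refine subsingleton_hom_of_extD hB _ K i hBC (fun j => ?_)
  exact subsingleton_hom_of_iso (extDInDIso (A := A) (B := B j) (A ⧸ I)).symm (Iso.refl _)
    (h j (B j ⊗[A] (A ⧸ I)) i hi)

/-- **Descent of dualizing complexes** along a jointly faithful family of flat algebras, for objects with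
finite cohomology modules and finite injective dimension. -/
theorem isDualizing_of_extD [IsNoetherianRing A] (K : Dual.D A)
    (hfin : ∀ i : ℤ, Module.Finite A (Dual.HD A K i))
    (hinj : ∃ a b : ℤ, ∀ (M : Type u) [AddCommGroup M] [Module A M] (i : ℤ),
      (i < a ∨ b < i) → Subsingleton (Dual.inD A M ⟶ K⟦i⟧))
    (hend : ∀ j, Function.Bijective (fun b : B j => b • 𝟙 ((extD A (B j)).obj K)))
    (hext : ∀ (j : J) (i : ℤ), i ≠ 0 →
      Subsingleton ((extD A (B j)).obj K ⟶ ((extD A (B j)).obj K)⟦i⟧)) :
    Dual.IsDualizing A K := by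
  obtain ⟨a, b, hab⟩ := hinj
  obtain ⟨hGE, hLE⟩ := isGE_isLE_of_finiteInjDim K a b hab
  have hpc : ∀ m : ℤ, DRing.IsPseudoCoherent A m K := fun m => isPC_of_finite K b hLE hfin m
  refine ⟨inferInstance, ⟨a, b, hab⟩, hfin, ?_, fun i hi => ?_⟩
  · exact toEnd_bijective_of_extD hB K (fun j => BC_of_pseudoCoherent _ _ a hGE hpc) hend
  · have hsh : (K⟦i⟧).IsGE (a - i) :=
      DerivedCategory.TStructure.t.isGE_shift K a i (a - i) (by omega)
    exact subsingleton_hom_of_extD hB K K i (fun j => BC_of_pseudoCoherent _ _ (a - i) hsh hpc)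
      (fun j => hext j i hi)

end Descent

end Groth.Agent.Lib.Seat8.DualDesc
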