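import Mathlib
import Groth.Agent.Lib.Seat8Bass

/-!
# Ascent of dualizing complexes along flat maps whose closed fibres are fields (seat 8)

`isDualizing_extD_of_maximal`: for `A → B` flat between Noetherian rings such that every residue field `B/n`
of `B` at a maximal ideal is extended from a cyclic `A`-module (e.g. `n = pB` with `p = n ∩ A`), the base
change of a dualizing complex for `A` is dualizing for `B`.
-/

set_option autoImplicit false
universe u
open CategoryTheory CategoryTheory.Limits Pretriangulated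
attribute [local instance] HasDerivedCategory.standard
open ModuleCat.Algebra
open Groth.Agent.Lib.Helper1.Extend
open Groth.Agent.Lib.Seat8.FBC
open Groth.Agent.Lib.Seat8.DualBC
open scoped TensorProduct

namespace Groth.Agent.Lib.Seat8.DualFlat

variable {A B : Type u} [CommRing A] [CommRing B] [Algebra A B] [Module.Flat A B]

/-- `Hom((B ⊗ M)[0], (K ⊗ B)[i]) = 0` if `Hom(M[0], K[i]) = 0`, for `M` finite and `K` bounded below -/
lemma subsingleton_inD_extD [IsNoetherianRing A] (M : Type u) [AddCommGroup M] [Module A M]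
    [Module.Finite A M] (K : Dual.D A) (c : ℤ) (hGE : K.IsGE c) (i : ℤ)
    (h : Subsingleton (Dual.inD A M ⟶ K⟦i⟧)) :
    Subsingleton (Dual.inD B (B ⊗[A] M) ⟶ ((extD A B).obj K)⟦i⟧) := by
  have hsh : (K⟦i⟧).IsGE (c - i) :=
    DerivedCategory.TStructure.t.isGE_shift K c i (c - i) (by omega)
  have hBC : BC B (Dual.inD A M) (K⟦i⟧) :=
    BC_of_pseudoCoherent _ _ (c - i) hsh (fun m => isPC_inD M m)
  have h1 := subsingleton_extD_hom (B := B) (Dual.inD A M) K i hBC h
  exact subsingleton_hom_of_iso (extDInDIso (A := A) (B := B) M) (Iso.refl _) h1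

/-- **Ascent of dualizing complexes** along a flat map of Noetherian rings such that the residue fields of
`B` at maximal ideals are extended from cyclic `A`-modules. -/
theorem isDualizing_extD_of_maximal [IsNoetherianRing B] (ω : Dual.D A)
    (hω : Dual.IsDualizing A ω)
    (hmax : ∀ n : Ideal B, n.IsMaximal → ∃ I : Ideal A, Nonempty ((B ⧸ n) ≃ₗ[B] B ⊗[A] (A ⧸ I))) :
    Dual.IsDualizing B ((extD A B).obj ω) := by
  have := hω.isNoetherianRing
  obtain ⟨a, b, hab⟩ := hω.finite_injective_dimension
  obtain ⟨hGE, hLE⟩ := isGE_isLE_of_finiteInjDim ω a b hab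
  have hpc := isPC_of_isDualizing ω hω
  have hsh : ∀ i : ℤ, (ω⟦i⟧).IsGE (a - i) := fun i =>
    DerivedCategory.TStructure.t.isGE_shift ω a i (a - i) (by omega)
  have hGE' : ((extD A B).obj ω).IsGE a := isGE_map (ext A B) ω a hGE
  have hfin' : ∀ i : ℤ, Module.Finite B (Dual.HD B ((extD A B).obj ω) i) := fun i => by
    have := hω.finite_cohomology i
    have h2 : Module.Finite B ((ext A B).obj
        ((DerivedCategory.homologyFunctor (ModuleCat.{u} A) i).obj ω)) :=
      Groth.Agent.Lib.Helper1.LDer.finite_bc (algebraMap A B) _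
    exact Module.Finite.equiv (homologyMapDIso (ext A B) ω i).symm.toLinearEquiv
  refine ⟨inferInstance, ⟨a, b, ?_⟩, hfin', ?_, fun i hi => ?_⟩
  · refine ((Groth.Agent.S6965.result B ((extD A B).obj ω) a b).out 2 1).1 ?_
    intro J i hi
    rcases hi with hi | hi
    · -- below the range: t-structure
      have h1 : (Dual.inD B (B ⧸ J)).IsLE 0 := inferInstance
      have h2 : (((extD A B).obj ω)⟦i⟧).IsGE (a - i) :=
        DerivedCategory.TStructure.t.isGE_shift _ a i (a - i) (by omega)
      exact ⟨fun f g =>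
        (DerivedCategory.TStructure.t.zero_of_isLE_of_isGE f 0 (a - i) (by omega) h1 h2).trans
        (DerivedCategory.TStructure.t.zero_of_isLE_of_isGE g 0 (a - i) (by omega) h1 h2).symm⟩
    · refine Groth.Agent.Lib.Seat8.Bass.bass ((extD A B).obj ω) a hGE' hfin' b ?_ J i hi
      intro n hn i hi
      obtain ⟨I, ⟨e⟩⟩ := hmax n hn
      have h1 := subsingleton_inD_extD (B := B) (A ⧸ I) ω a hGE i (hab (A ⧸ I) i (Or.inr hi))
      exact subsingleton_hom_of_iso
        ((DerivedCategory.singleFunctor (ModuleCat.{u} B) 0).mapIso e.symm.toModuleIso)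
        (Iso.refl _) h1
  · have hBC : BC B ω ω := BC_of_pseudoCoherent _ _ a hGE hpc
    exact toEnd_bijective_extD ω hBC hω.toEnd_bijective
  · have hBC : BC B ω (ω⟦i⟧) := BC_of_pseudoCoherent _ _ (a - i) (hsh i) hpc
    exact subsingleton_extD_hom ω ω i hBC (hω.ext_self_subsingleton i hi)

end Groth.Agent.Lib.Seat8.DualFlat
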