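import Mathlib
import Groth.Agent.Lib.Helper3Coext
import Groth.Agent.Lib.Seat8InjSum

/-!
# The coinduction sequence `0 → N → Hom_A(A[X], N) → Hom_A(A[X], N) → 0` (seat 8)

For an `A[X]`-module `N`, the sequence `0 → N → Hom_A(A[X], N) → Hom_A(A[X], N) → 0`, `n ↦ (s ↦ s n)`,
`φ ↦ (s ↦ φ(X s) - X φ(s))` is an exact sequence of `A[X]`-modules.  If `N` is injective as an `A`-module
(e.g. `N = A[X] ⊗_A E` with `E` injective and `A` Noetherian), the two outer terms are injective.
-/

set_option autoImplicit false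
universe u
open Polynomial Groth.Agent.Lib.Helper3.Coext
open scoped TensorProduct

namespace Groth.Agent.Lib.Seat8.PolyInj

section Seq

variable (A : Type u) [CommRing A] (N : Type u) [AddCommGroup N] [Module A[X] N] [Module A N]
  [IsScalarTower A A[X] N]

/-- `n ↦ (s ↦ s • n)` -/
noncomputable def iota : N →ₗ[A[X]] Obj A A[X] N := linToHom (LinearMap.id : N →ₗ[A] N)

lemma toLin_iota (n : N) (s : A[X]) : toLin (iota A N n) s = s • n :=
  toLin_linToHom_apply _ _ _

/-- the `A`-linear map `s ↦ φ(X s) - X φ(s)` -/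
noncomputable def Dlin (φ : A[X] →ₗ[A] N) : A[X] →ₗ[A] N where
  toFun s := φ (X * s) - (X : A[X]) • φ s
  map_add' s t := by
    rw [mul_add, map_add, map_add, smul_add]
    abel
  map_smul' a s := by
    simp only [RingHom.id_apply]
    rw [mul_smul_comm, map_smul, map_smul, smul_sub, smul_comm a (X : A[X]) (φ s)]

/-- `φ ↦ (s ↦ φ(X s) - X φ(s))` -/
noncomputable def D : Obj A A[X] N →ₗ[A[X]] Obj A A[X] N where
  toFun φ := ofLin (Dlin A N (toLin φ))
  map_add' φ ψ := by
    apply toLin_injective
    apply LinearMap.ext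
    intro s
    simp only [toLin_ofLin, toLin_add, LinearMap.add_apply]
    simp only [Dlin, LinearMap.coe_mk, AddHom.coe_mk, LinearMap.add_apply, smul_add]
    abel
  map_smul' t φ := by
    apply toLin_injective
    apply LinearMap.ext
    intro s
    simp only [RingHom.id_apply]
    rw [toLin_smul_apply, toLin_ofLin, toLin_ofLin]
    simp only [Dlin, LinearMap.coe_mk, AddHom.coe_mk, toLin_smul_apply]
    rw [mul_assoc]

lemma toLin_D (φ : Obj A A[X] N) (s : A[X]) :
    toLin (D A N φ) s = toLin φ (X * s) - (X : A[X]) • toLin φ s := by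
  show toLin (ofLin (Dlin A N (toLin φ))) s = _
  rw [toLin_ofLin]
  rfl

lemma iota_injective : Function.Injective (iota A N) := by
  intro n n' h
  have h1 := toLin_iota A N n 1
  have h2 := toLin_iota A N n' 1
  rw [one_smul] at h1 h2
  rw [← h1, ← h2, h]

lemma D_iota (n : N) : D A N (iota A N n) = 0 := by
  apply toLin_injective
  apply LinearMap.ext
  intro s
  rw [toLin_D, toLin_iota, toLin_iota, toLin_zero, LinearMap.zero_apply, mul_smul, sub_self]

lemma toLin_eq_smul_of_D_eq_zero (φ : Obj A A[X] N) (h : D A N φ = 0) (s : A[X]) :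
    toLin φ s = s • toLin φ 1 := by
  have hX : ∀ t : A[X], toLin φ (X * t) = (X : A[X]) • toLin φ t := by
    intro t
    have := congrArg (fun ψ => toLin ψ t) h
    simp only [toLin_D, toLin_zero, LinearMap.zero_apply] at this
    exact sub_eq_zero.1 this
  have hpow : ∀ k : ℕ, toLin φ (X ^ k) = (X ^ k : A[X]) • toLin φ 1 := by
    intro k
    induction k with
    | zero => simp
    | succ k ih => rw [pow_succ', hX, ih, mul_smul]
  induction s using Polynomial.induction_on' with
  | add p q hp hq => rw [map_add, hp, hq, add_smul]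
  | monomial k a =>
    rw [← Polynomial.smul_X_eq_monomial, map_smul, hpow, smul_assoc]

lemma exact_iota_D : Function.Exact (iota A N) (D A N) := by
  intro φ
  constructor
  · intro h
    refine ⟨toLin φ 1, ?_⟩
    apply toLin_injective
    apply LinearMap.ext
    intro s
    rw [toLin_iota, toLin_eq_smul_of_D_eq_zero A N φ h s]
  · rintro ⟨n, rfl⟩
    exact D_iota A N n

/-- the sequence `c 0 = 0`, `c (k+1) = X • c k + ψ (X ^ k)` -/
noncomputable def cseq (ψ : A[X] →ₗ[A] N) : ℕ → N
  | 0 => 0
  | (k + 1) => (X : A[X]) • cseq ψ k + ψ (X ^ k)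

lemma D_surjective : Function.Surjective (D A N) := by
  intro ψ
  let φ₀ : A[X] →ₗ[A] N := (Polynomial.basisMonomials A).constr A (cseq A N (toLin ψ))
  have hφ₀ : ∀ k : ℕ, φ₀ (X ^ k) = cseq A N (toLin ψ) k := by
    intro k
    have h1 : (X ^ k : A[X]) = Polynomial.basisMonomials A k := by
      rw [Polynomial.coe_basisMonomials]
      exact (Polynomial.monomial_one_right_eq_X_pow k).symm
    rw [h1]
    exact (Polynomial.basisMonomials A).constr_basis A _ k
  refine ⟨ofLin φ₀, ?_⟩
  apply toLin_injective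
  refine (Polynomial.basisMonomials A).ext (fun k => ?_)
  have h1 : (Polynomial.basisMonomials A k : A[X]) = X ^ k := by
    rw [Polynomial.coe_basisMonomials]
    exact Polynomial.monomial_one_right_eq_X_pow k
  rw [h1, toLin_D, toLin_ofLin, ← pow_succ', hφ₀, hφ₀]
  show (X : A[X]) • cseq A N (toLin ψ) k + toLin ψ (X ^ k) - _ = _
  abel

end Seq

end Groth.Agent.Lib.Seat8.PolyInj
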