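import Mathlib
import Groth.Agent.Lib.Seat8PolyInj
import Groth.Agent.Lib.Seat8Bass
import Groth.Agent.S6965

/-!
# Injective amplitude `[0, 1]` of `A[X] ⊗_A E` for `E` injective over a Noetherian ring (seat 8)
-/

set_option autoImplicit false
universe u
open CategoryTheory CategoryTheory.Limits Pretriangulated
open Polynomial Groth.Agent.Lib.Helper3.Coext
open scoped TensorProduct
attribute [local instance] HasDerivedCategory.standard

namespace Groth.Agent.Lib.Seat8.PolyInj

section Tri

variable {B : Type u} [CommRing B]

lemma subsingleton_mid_cov (T : Triangle (Dual.D B)) (hT : T ∈ distTriang (Dual.D B)) (X : Dual.D B)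
    (h1 : Subsingleton (X ⟶ T.obj₁)) (h3 : Subsingleton (X ⟶ T.obj₃)) :
    Subsingleton (X ⟶ T.obj₂) := by
  have h0 : ∀ f : X ⟶ T.obj₂, f = 0 := by
    intro f
    obtain ⟨g, hg⟩ := Triangle.coyoneda_exact₂ T hT f (h3.elim _ _)
    rw [hg, h1.elim g 0, Limits.zero_comp]
  exact ⟨fun f g => (h0 f).trans (h0 g).symm⟩

/-- an injective module placed in degree `0` has injective amplitude `[0, 0]` -/
lemma hasInjAmp_single (C : ModuleCat.{u} B) (hC : Module.Injective B C) :
    DRing.HasInjAmplitudeIn B 0 0
      ((DerivedCategory.singleFunctor (ModuleCat.{u} B) 0).obj C) := by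
  refine ⟨(HomologicalComplex.single (ModuleCat.{u} B) (ComplexShape.up ℤ) 0).obj C, ?_, ?_,
    ⟨((DerivedCategory.singleFunctorIsoCompQ (ModuleCat.{u} B) 0).app C).symm⟩⟩
  · intro i hi
    exact HomologicalComplex.isZero_single_obj_X (ComplexShape.up ℤ) 0 C i (by omega)
  · intro i
    have hCinj : Injective C := Module.injective_object_of_injective_module B C
    by_cases hi : i = 0
    · subst hi
      have : Injective (((HomologicalComplex.single (ModuleCat.{u} B) (ComplexShape.up ℤ) 0).obj
          C).X 0) :=
        Injective.of_iso (HomologicalComplex.singleObjXSelf (ComplexShape.up ℤ) 0 C).symm hCinj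
      exact Module.injective_module_of_injective_object B _
    · have hz := HomologicalComplex.isZero_single_obj_X (ComplexShape.up ℤ) 0 C i hi
      have : Injective (((HomologicalComplex.single (ModuleCat.{u} B) (ComplexShape.up ℤ) 0).obj
          C).X i) := Injective.of_iso hz.isoZero.symm inferInstance
      exact Module.injective_module_of_injective_object B _

lemma subsingleton_hom_single_injective (C : ModuleCat.{u} B) (hC : Module.Injective B C)
    (M : Type u) [AddCommGroup M] [Module B M] (j : ℤ) (hj : j ≠ 0) :
    Subsingleton (Dual.inD B M ⟶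
      ((DerivedCategory.singleFunctor (ModuleCat.{u} B) 0).obj C)⟦j⟧) := by
  have h := ((Groth.Agent.S6965.result B
    ((DerivedCategory.singleFunctor (ModuleCat.{u} B) 0).obj C) 0 0).out 0 1).1
    (hasInjAmp_single C hC)
  exact h M j (by omega)

end Tri

section Main

variable (A : Type u) [CommRing A] (N : Type u) [AddCommGroup N] [Module A[X] N] [Module A N]
  [IsScalarTower A A[X] N]

/-- the coinduction sequence as a short complex of `A[X]`-modules -/
noncomputable def sesN : ShortComplex (ModuleCat.{u} A[X]) :=
  ShortComplex.mk (ModuleCat.ofHom (iota A N) : ModuleCat.of A[X] N ⟶ Obj A A[X] N)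
    (ModuleCat.ofHom (D A N) : Obj A A[X] N ⟶ Obj A A[X] N) (by
      apply ModuleCat.hom_ext
      apply LinearMap.ext
      intro n
      exact D_iota A N n)

lemma sesN_shortExact : (sesN A N).ShortExact where
  exact := by
    rw [ShortComplex.ShortExact.moduleCat_exact_iff_function_exact]
    exact exact_iota_D A N
  mono_f := by
    rw [ModuleCat.mono_iff_injective]
    exact iota_injective A N
  epi_g := by
    rw [ModuleCat.epi_iff_surjective]
    exact D_surjective A N

/-- an `A[X]`-module which is injective over `A` has injective amplitude `[0, 1]` over `A[X]` -/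
theorem hasInjAmp_of_injective_restrict (hN : Module.Injective A N) :
    DRing.HasInjAmplitudeIn A[X] 0 1 (Dual.inD A[X] N) := by
  have hC : Module.Injective A[X] (Obj A A[X] N) := injective_obj hN
  have hS := sesN_shortExact A N
  have hT := hS.singleTriangle_distinguished
  refine ((Groth.Agent.S6965.result A[X] (Dual.inD A[X] N) 0 1).out 1 0).1 ?_
  intro M _ _ i hi
  have hT' := Triangle.shift_distinguished _ (inv_rot_of_distTriang _ hT) i
  refine subsingleton_mid_cov _ hT' (Dual.inD A[X] M) ?_ ?_
  · -- `Hom(M, C[i-1]) = 0`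
    have h1 := subsingleton_hom_single_injective (Obj A A[X] N) hC M (i - 1) (by omega)
    exact Groth.Agent.Lib.Seat8.DualBC.subsingleton_hom_of_iso (Iso.refl _)
      ((shiftFunctorAdd' (Dual.D A[X]) (-1) i (i - 1) (by omega)).app _) h1
  · exact subsingleton_hom_single_injective (Obj A A[X] N) hC M i (by omega)

end Main

section Tensor

variable (A : Type u) [CommRing A] [IsNoetherianRing A] (E : Type u) [AddCommGroup E] [Module A E]
  [Module.Injective A E]

omit [IsNoetherianRing A] in
lemma injective_of_linearEquiv {X Y : Type u} [AddCommGroup X] [Module A X] [AddCommGroup Y]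
    [Module A Y] (e : X ≃ₗ[A] Y) (hY : Module.Injective A Y) : Module.Injective A X := by
  refine ⟨fun P Q _ _ _ _ i hi g => ?_⟩
  obtain ⟨h, hh⟩ := hY.out i hi (e.toLinearMap ∘ₗ g)
  refine ⟨e.symm.toLinearMap ∘ₗ h, fun x => ?_⟩
  simp [hh]

/-- `A[X] ⊗_A E` is injective as an `A`-module -/
lemma injective_tensor : Module.Injective A (A[X] ⊗[A] E) := by
  have h1 : Module.Injective A (ℕ →₀ E) := Groth.Agent.Lib.Seat8.InjSum.injective_finsupp ℕ E
  exact injective_of_linearEquiv A
    ((TensorProduct.congr (Polynomial.basisMonomials A).repr (LinearEquiv.refl A E)).trans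
      (TensorProduct.finsuppScalarLeft A E ℕ)) h1

/-- **S1748**: `A[X] ⊗_A E` has injective amplitude `[0, 1]` over `A[X]` -/
theorem hasInjAmp_tensor : DRing.HasInjAmplitudeIn A[X] 0 1 (Dual.inD A[X] (A[X] ⊗[A] E)) :=
  hasInjAmp_of_injective_restrict A (A[X] ⊗[A] E) (injective_tensor A E)

end Tensor

end Groth.Agent.Lib.Seat8.PolyInj
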