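import Mathlib
import Groth.Agent.Lib.Seat8PolyInj2
import Groth.Agent.Lib.Seat8DualFlat
import Groth.Agent.Lib.Helper1Devissage

/-!
# Base change of a dualizing complex to the polynomial ring (seat 8)
-/

set_option autoImplicit false
universe u
open CategoryTheory CategoryTheory.Limits Pretriangulated
attribute [local instance] HasDerivedCategory.standard
open ModuleCat.Algebra
open Groth.Agent.Lib.Helper1.Extend
open Groth.Agent.Lib.Seat8.FBC
open Groth.Agent.Lib.Seat8.DualBC
open scoped TensorProduct Polynomial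

namespace Groth.Agent.Lib.Seat8.DualPoly

section General

variable {A B : Type u} [CommRing A] [CommRing B] [Algebra A B] [Module.Flat A B]

/-- ascent of dualizing complexes along a flat map, given finite injective dimension of the base change -/
theorem isDualizing_extD_of_injDim [IsNoetherianRing B] (ω : Dual.D A) (hω : Dual.IsDualizing A ω)
    (hinj : ∃ a b : ℤ, ∀ (N : Type u) [AddCommGroup N] [Module B N] (i : ℤ), (i < a ∨ b < i) →
      Subsingleton (Dual.inD B N ⟶ ((extD A B).obj ω)⟦i⟧)) :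
    Dual.IsDualizing B ((extD A B).obj ω) := by
  have := hω.isNoetherianRing
  obtain ⟨a, b, hab⟩ := hω.finite_injective_dimension
  obtain ⟨hGE, hLE⟩ := isGE_isLE_of_finiteInjDim ω a b hab
  have hpc := isPC_of_isDualizing ω hω
  have hsh : ∀ i : ℤ, (ω⟦i⟧).IsGE (a - i) := fun i =>
    DerivedCategory.TStructure.t.isGE_shift ω a i (a - i) (by omega)
  refine ⟨inferInstance, hinj, fun i => ?_, ?_, fun i hi => ?_⟩
  · have := hω.finite_cohomology i
    have h2 : Module.Finite B ((ext A B).obj
        ((DerivedCategory.homologyFunctor (ModuleCat.{u} A) i).obj ω)) :=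
      Groth.Agent.Lib.Helper1.LDer.finite_bc (algebraMap A B) _
    exact Module.Finite.equiv (homologyMapDIso (ext A B) ω i).symm.toLinearEquiv
  · have hBC : BC B ω ω := BC_of_pseudoCoherent _ _ a hGE hpc
    exact toEnd_bijective_extD ω hBC hω.toEnd_bijective
  · have hBC : BC B ω (ω⟦i⟧) := BC_of_pseudoCoherent _ _ (a - i) (hsh i) hpc
    exact subsingleton_extD_hom ω ω i hBC (hω.ext_self_subsingleton i hi)

end General

section Poly

variable {A : Type u} [CommRing A] [IsNoetherianRing A]

/-- the property "Hom(M[0], K[i]) = 0 for all modules M and all i outside [a, b]" -/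
def PInj (B : Type u) [CommRing B] (a b : ℤ) : ObjectProperty (Dual.D B) := fun K =>
  ∀ (M : Type u) [AddCommGroup M] [Module B M] (i : ℤ), (i < a ∨ b < i) →
    Subsingleton (Dual.inD B M ⟶ K⟦i⟧)

instance (B : Type u) [CommRing B] (a b : ℤ) : (PInj B a b).IsClosedUnderIsomorphisms where
  of_iso e h := fun M _ _ i hi =>
    subsingleton_hom_of_iso (Iso.refl _) ((shiftFunctor (Dual.D B) i).mapIso e) (h M i hi)

lemma PInj_of_isZero (B : Type u) [CommRing B] (a b : ℤ) (K : Dual.D B) (hK : IsZero K) :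
    PInj B a b K := fun _ _ _ i _ =>
  ⟨fun f g => ((shiftFunctor (Dual.D B) i).map_isZero hK).eq_of_tgt f g⟩

lemma PInj_obj₂ (B : Type u) [CommRing B] (a b : ℤ) (T : Triangle (Dual.D B))
    (hT : T ∈ distTriang (Dual.D B)) (h1 : PInj B a b T.obj₁) (h3 : PInj B a b T.obj₃) :
    PInj B a b T.obj₂ := fun M _ _ i hi =>
  Groth.Agent.Lib.Seat8.PolyInj.subsingleton_mid_cov _ (Triangle.shift_distinguished T hT i)
    (Dual.inD B M) (h1 M i hi) (h3 M i hi)

/-- a module of injective amplitude `[0, 1]` placed in degree `j ∈ [a, b]` satisfies `PInj a (b + 1)` -/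
lemma PInj_single (B : Type u) [CommRing B] (a b j : ℤ) (hj1 : a ≤ j) (hj2 : j ≤ b)
    (X : ModuleCat.{u} B) (hX : DRing.HasInjAmplitudeIn B 0 1
      ((DerivedCategory.singleFunctor (ModuleCat.{u} B) 0).obj X)) :
    PInj B a (b + 1) ((DerivedCategory.singleFunctor (ModuleCat.{u} B) j).obj X) := by
  intro M _ _ i hi
  have h' := ((Groth.Agent.S6965.result B
    ((DerivedCategory.singleFunctor (ModuleCat.{u} B) 0).obj X) 0 1).out 0 1).1 hX
  have h := h' M (i - j) (by omega)
  have e1 : ((DerivedCategory.singleFunctor (ModuleCat.{u} B) 0).obj X)⟦i - j⟧ ≅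
      (DerivedCategory.singleFunctor (ModuleCat.{u} B) (j - i)).obj X :=
    ((DerivedCategory.singleFunctors (ModuleCat.{u} B)).shiftIso (i - j) (j - i) 0 (by omega)).app X
  have e2 : ((DerivedCategory.singleFunctor (ModuleCat.{u} B) j).obj X)⟦i⟧ ≅
      (DerivedCategory.singleFunctor (ModuleCat.{u} B) (j - i)).obj X :=
    ((DerivedCategory.singleFunctors (ModuleCat.{u} B)).shiftIso i (j - i) j (by omega)).app X
  exact subsingleton_hom_of_iso (Iso.refl _) (e1 ≪≫ e2.symm) h

/-- **S1776**: the base change of a dualizing complex to the polynomial ring is dualizing -/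
theorem isDualizing_extD_polynomial (ω : Dual.D A) (hω : Dual.IsDualizing A ω) :
    Dual.IsDualizing A[X] ((extD A A[X]).obj ω) := by
  obtain ⟨a, b, hab⟩ := hω.finite_injective_dimension
  have h1 : DRing.HasInjAmplitudeIn A a b ω :=
    ((Groth.Agent.S6965.result A ω a b).out 1 0).1 (by intro N _ _ i hi; exact hab N i hi)
  obtain ⟨I, hI, hIinj, ⟨e⟩⟩ := h1
  refine isDualizing_extD_of_injDim ω hω ⟨a, b + 1, ?_⟩
  have key : PInj A[X] a (b + 1) (DerivedCategory.Q.obj ((extCx A A[X]).obj I)) := by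
    refine Groth.Agent.Lib.Helper1.Devissage.induction_terms' (PInj A[X] a (b + 1))
      (fun K hK => PInj_of_isZero A[X] a (b + 1) K hK)
      (fun T hT h1 h3 => PInj_obj₂ A[X] a (b + 1) T hT h1 h3)
      (fun j X Y ⟨e⟩ h => (PInj A[X] a (b + 1)).prop_of_iso
        ((DerivedCategory.singleFunctor (ModuleCat.{u} A[X]) j).mapIso e) h)
      ((extCx A A[X]).obj I) a b (fun i hi => (ext A A[X]).map_isZero (hI i hi)) ?_
    intro j hj1 hj2
    have hinj : Module.Injective A (I.X j) := hIinj j
    have h2 := Groth.Agent.Lib.Seat8.PolyInj.hasInjAmp_tensor A (I.X j)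
    have e' : (DerivedCategory.singleFunctor (ModuleCat.{u} A[X]) 0).obj
        ((ext A A[X]).obj (I.X j)) ≅ Dual.inD A[X] (A[X] ⊗[A] (I.X j)) :=
      (DerivedCategory.singleFunctor (ModuleCat.{u} A[X]) 0).mapIso
        (extIso (A := A) (B := A[X]) (I.X j))
    have h3 : DRing.HasInjAmplitudeIn A[X] 0 1
        ((DerivedCategory.singleFunctor (ModuleCat.{u} A[X]) 0).obj
          ((ext A A[X]).obj (I.X j))) := by
      obtain ⟨E', hE', hE'inj, ⟨e''⟩⟩ := h2
      exact ⟨E', hE', hE'inj, ⟨e'' ≪≫ e'.symm⟩⟩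
    exact PInj_single A[X] a b j hj1 hj2 _ h3
  have e3 : (extD A A[X]).obj ω ≅ DerivedCategory.Q.obj ((extCx A A[X]).obj I) :=
    (extD A A[X]).mapIso e.symm ≪≫ mapQIso (ext A A[X]) I
  exact (PInj A[X] a (b + 1)).prop_of_iso e3.symm key

end Poly

end Groth.Agent.Lib.Seat8.DualPoly
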