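import Mathlib
import Groth.Prelude.Def_DDual2
import Groth.Agent.Lib.Seat8DimZero
import Groth.Agent.Lib.Seat8DualFinite
import Groth.Agent.Lib.Seat8CoextShift
import Groth.Agent.S11662
import Groth.Agent.S0302

set_option autoImplicit false
set_option linter.unusedSectionVars false
universe u
open CategoryTheory CategoryTheory.Limits Pretriangulated

attribute [local instance] HasDerivedCategory.standard

namespace Groth.Agent.Lib.Seat8.FinLenDual

open DerivedCategory Groth.Agent.Lib.Seat8.Coext Groth.Agent.Lib.Seat8.RestrictAdj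

section General

variable {A B : Type u} [CommRing A] [CommRing B] {φ : A →+* B}

/-- the (semilinear, additive) form of a corepresentation: `Hom_B(X, Z) ≃ Hom_A(X|_A, ω)` -/
theorem IsCoext.exists_equiv {ω : Dual.D A} {Z : Dual.D B}
    {ev : (DRing.restrictD φ).obj Z ⟶ ω} (h : IsCoext φ ω Z ev) (X : Dual.D B) :
    ∃ E : (X ⟶ Z) ≃+ ((DRing.restrictD φ).obj X ⟶ ω),
      ∀ (a : A) (f : X ⟶ Z), E (φ a • f) = a • E f := by
  let F : (X ⟶ Z) → ((DRing.restrictD φ).obj X ⟶ ω) :=
    fun f => (DRing.restrictD φ).map f ≫ ev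
  have hF : Function.Bijective F := h X
  have hF_add : ∀ f f', F (f + f') = F f + F f' := fun f f' => by
    simp only [F, Functor.map_add, Preadditive.add_comp]
  have hF_smul : ∀ (a : A) f, F (φ a • f) = a • F f := fun a f => by
    have h1 : φ a • f = (φ a • 𝟙 X) ≫ f := by rw [Linear.smul_comp, Category.id_comp]
    simp only [F]
    rw [h1, Functor.map_comp, restrictD_map_smul_id, Linear.smul_comp, Category.id_comp,
      Linear.smul_comp]
  exact ⟨AddEquiv.ofBijective (AddMonoidHom.mk' F hF_add) hF, hF_smul⟩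

end General

section Tower

variable {A B : Type u} [CommRing A] [CommRing B] [Algebra A B]

/-- restriction of scalars of `N[0]`, for a module `N` with compatible `A`- and `B`-structures -/
noncomputable def restrictInDIso (N : Type u) [AddCommGroup N] [Module A N] [Module B N]
    [IsScalarTower A B N] :
    (DRing.restrictD (algebraMap A B)).obj (Dual.inD B N) ≅ Dual.inD A N :=
  Groth.Agent.Lib.Helper1.Restrict.restrictDSingleIso (algebraMap A B) (ModuleCat.of B N) 0 ≪≫
    (DerivedCategory.singleFunctor (ModuleCat.{u} A) 0).mapIso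
      (LinearEquiv.toModuleIso
        (X₁ := (ModuleCat.restrictScalars.{u} (algebraMap A B)).obj (ModuleCat.of B N))
        (X₂ := ModuleCat.of A N)
        ({ toFun := fun x => x
           invFun := fun x => x
           map_add' := fun _ _ => rfl
           map_smul' := fun a x => algebraMap_smul B a (show N from x)
           left_inv := fun _ => rfl
           right_inv := fun _ => rfl } :
          ((ModuleCat.restrictScalars.{u} (algebraMap A B)).obj (ModuleCat.of B N) :
            ModuleCat.{u} A) ≃ₗ[A] (ModuleCat.of A N : ModuleCat.{u} A)))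

end Tower

section LemmaA

variable {A B : Type u} [CommRing A] [CommRing B] [Algebra A B] [Module.Finite A B]
  [IsLocalRing A] [IsLocalRing B] [IsLocalHom (algebraMap A B)] [IsNoetherianRing A]
  [IsArtinianRing B]

/-- **Key lemma**: for a finite local homomorphism `A → B` to an Artinian local ring and a
normalized dualizing complex `ω` of `A`, there is an injective hull `J` of the residue field of `B`
with `Hom_{D(A)}(M, ω) ≃ Hom_B(M, J)` for every `B`-module `M`. -/
theorem exists_hull_equiv (ω : Dual.D A) (hω : Dual.IsDualizing A ω)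
    (hn : Dual.IsNormalized A ω) :
    ∃ (J : ModuleCat.{u} B) (g : IsLocalRing.ResidueField B →ₗ[B] J),
      InjHull.IsInjectiveHull g ∧
      ∀ (M : Type u) [AddCommGroup M] [Module B M],
        ∃ E : ((DRing.restrictD (algebraMap A B)).obj (Dual.inD B M) ⟶ ω) ≃+ (M →ₗ[B] J),
          ∀ (a : A) f, E (a • f) = (algebraMap A B a) • E f := by
  obtain ⟨Z, ev, h⟩ := Groth.Agent.Lib.Seat8.DualFinite.exists_isCoext (B := B) ω hω
  have hZ : Dual.IsDualizing B Z :=
    Groth.Agent.Lib.Seat8.DualFinite.isDualizing_of_isCoext ω hω Z ev h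
  have hZn : Dual.IsNormalized B Z :=
    Groth.Agent.Lib.Seat8.Normalized.isNormalized_of_isCoext ω hn Z ev h
  obtain ⟨J, g, hg, ⟨e⟩⟩ := Groth.Agent.Lib.Seat8.DimZero.exists_iso_inD_injectiveHull Z hZ hZn
  refine ⟨J, g, hg, ?_⟩
  intro M _ _
  obtain ⟨E0, hE0⟩ := IsCoext.exists_equiv h (Dual.inD B M)
  let E1 : (M →ₗ[B] J) ≃ₗ[B] (ModuleCat.of B M ⟶ J) :=
    (ModuleCat.homLinearEquiv (M := ModuleCat.of B M) (N := J) (S := B)).symm
  let E2 : (ModuleCat.of B M ⟶ J) ≃ₗ[B] (Dual.inD B M ⟶ Dual.inD B J) :=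
    LinearEquiv.ofBijective
      ((DerivedCategory.singleFunctor (ModuleCat.{u} B) 0).mapLinearMap B)
      ⟨(DerivedCategory.singleFunctor (ModuleCat.{u} B) 0).map_injective,
        (DerivedCategory.singleFunctor (ModuleCat.{u} B) 0).map_surjective⟩
  let E3 : (Dual.inD B M ⟶ Dual.inD B J) ≃ₗ[B] (Dual.inD B M ⟶ Z) :=
    Linear.homCongr B (Iso.refl _) e.symm
  let E123 : (M →ₗ[B] J) ≃ₗ[B] (Dual.inD B M ⟶ Z) := E1.trans (E2.trans E3)
  refine ⟨(E123.toAddEquiv.trans E0).symm, ?_⟩
  intro a f
  apply (E123.toAddEquiv.trans E0).injective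
  rw [AddEquiv.apply_symm_apply]
  change _ = E0 (E123 _)
  rw [map_smul, hE0]
  congr 1
  exact ((E123.toAddEquiv.trans E0).apply_symm_apply f).symm

end LemmaA


section Quot

variable (A : Type u) [CommRing A] [IsLocalRing A] (k : ℕ)

lemma pow_succ_ne_top : (IsLocalRing.maximalIdeal A) ^ (k + 1) ≠ ⊤ := by
  intro h
  have h1 : (IsLocalRing.maximalIdeal A) ^ (k + 1) ≤ IsLocalRing.maximalIdeal A :=
    Ideal.pow_le_self (by omega)
  rw [h] at h1
  exact (IsLocalRing.maximalIdeal.isMaximal A).ne_top (top_le_iff.mp h1)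

lemma nontrivial_quot : Nontrivial (A ⧸ (IsLocalRing.maximalIdeal A) ^ (k + 1)) :=
  Ideal.Quotient.nontrivial_iff.mpr (pow_succ_ne_top A k)

lemma isLocalRing_quot : IsLocalRing (A ⧸ (IsLocalRing.maximalIdeal A) ^ (k + 1)) :=
  haveI := nontrivial_quot A k
  IsLocalRing.of_surjective' (Ideal.Quotient.mk _) Ideal.Quotient.mk_surjective

lemma isLocalHom_quot :
    IsLocalHom (algebraMap A (A ⧸ (IsLocalRing.maximalIdeal A) ^ (k + 1))) :=
  haveI := nontrivial_quot A k
  IsLocalHom.of_surjective (Ideal.Quotient.mk _) Ideal.Quotient.mk_surjective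

lemma isArtinianRing_quot [IsNoetherianRing A] :
    IsArtinianRing (A ⧸ (IsLocalRing.maximalIdeal A) ^ (k + 1)) := by
  have := nontrivial_quot A k
  have := isLocalRing_quot A k
  have := isLocalHom_quot A k
  set I := (IsLocalRing.maximalIdeal A) ^ (k + 1) with hI
  rw [isArtinianRing_iff_isNilpotent_maximalIdeal]
  have : (IsLocalRing.maximalIdeal A).map (Ideal.Quotient.mk I) =
      IsLocalRing.maximalIdeal (A ⧸ I) := by
    ext x
    obtain ⟨x, rfl⟩ := Ideal.Quotient.mk_surjective x
    have hle : I ≤ IsLocalRing.maximalIdeal A := IsLocalRing.le_maximalIdeal (pow_succ_ne_top A k)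
    simp [sup_eq_left.mpr hle]
  refine ⟨k + 1, ?_⟩
  rw [← this, ← Ideal.map_pow, Ideal.zero_eq_bot, Ideal.map_quotient_self]

end Quot

section Simple

variable {A R : Type u} [CommRing A] [CommRing R] [Algebra A R]

lemma isSimpleModule_of_tower
    (M : Type u) [AddCommGroup M] [Module A M] [Module R M] [IsScalarTower A R M]
    [IsSimpleModule A M] : IsSimpleModule R M := by
  have h := (isSimpleModule_iff_toSpanSingleton_surjective (R := A) (M := M)).mp inferInstance
  refine (isSimpleModule_iff_toSpanSingleton_surjective (R := R) (M := M)).mpr ⟨h.1, ?_⟩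
  intro x hx y
  obtain ⟨a, ha⟩ := h.2 x hx y
  refine ⟨algebraMap A R a, ?_⟩
  rw [LinearMap.toSpanSingleton_apply] at ha ⊢
  rw [algebraMap_smul]
  exact ha

lemma nonempty_linearEquiv_residueField [IsLocalRing R] (M : Type u) [AddCommGroup M]
    [Module R M] [IsSimpleModule R M] : Nonempty (M ≃ₗ[R] IsLocalRing.ResidueField R) := by
  obtain ⟨I, hI, ⟨e⟩⟩ := isSimpleModule_iff_quot_maximal.mp (inferInstance : IsSimpleModule R M)
  obtain rfl : I = IsLocalRing.maximalIdeal R := IsLocalRing.eq_maximalIdeal hI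
  exact ⟨e⟩

end Simple

section Hull

variable {R : Type u} [CommRing R] {M M' E : Type u} [AddCommGroup M] [Module R M]
  [AddCommGroup M'] [Module R M'] [AddCommGroup E] [Module R E]

lemma isInjectiveHull_comp_equiv {g : M →ₗ[R] E} (hg : InjHull.IsInjectiveHull g)
    (e : M' ≃ₗ[R] M) : InjHull.IsInjectiveHull (g ∘ₗ e.toLinearMap) := by
  refine ⟨⟨?_, ?_⟩, hg.isInjective⟩
  · rw [LinearMap.coe_comp]
    exact hg.injective.comp e.injective
  · have : LinearMap.range (g ∘ₗ e.toLinearMap) = LinearMap.range g := by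
      rw [LinearMap.range_comp, LinearEquiv.range, Submodule.map_top]
    rw [this]
    exact hg.essential

end Hull

section HomEquiv

variable {A : Type u} [CommRing A] (I : Ideal A) (N E : Type u) [AddCommGroup N] [Module A N]
  [AddCommGroup E] [Module A E] [Module (A ⧸ I) N] [IsScalarTower A (A ⧸ I) N]

/-- `Hom_{A/I}(N, E[I]) ≃ Hom_A(N, E)` -/
noncomputable def homTorsionEquiv :
    (N →ₗ[A ⧸ I] LocCoh.torsionBy I E) ≃ₗ[A] (N →ₗ[A] E) :=
  (LinearMap.extendScalarsOfSurjectiveEquiv (R := A) (S := A ⧸ I) (M := N)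
      (N := LocCoh.torsionBy I E) Ideal.Quotient.mk_surjective).symm.trans
    { toFun := fun g => (LocCoh.torsionBy I E).subtype ∘ₗ g
      map_add' := fun g g' => LinearMap.comp_add _ _ _
      map_smul' := fun a g => LinearMap.comp_smul _ _ _
      invFun := fun h => LinearMap.codRestrict (LocCoh.torsionBy I E) h (fun x => by
        rw [Submodule.mem_torsionBySet_iff]
        intro a
        rw [← map_smul, ← algebraMap_smul (A ⧸ I) (a : A) x]
        have : algebraMap A (A ⧸ I) (a : A) = 0 := Ideal.Quotient.eq_zero_iff_mem.mpr a.2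
        rw [this, zero_smul, map_zero])
      left_inv := fun g => by
        ext x
        rfl
      right_inv := fun h => by
        ext x
        rfl }

end HomEquiv


lemma exists_pow_le_annihilator {A : Type u} [CommRing A] [IsLocalRing A] (N : Type u)
    [AddCommGroup N] [Module A N] (hN : IsFiniteLength A N) :
    ∃ k : ℕ, (IsLocalRing.maximalIdeal A) ^ k ≤ Module.annihilator A N := by
  induction hN with
  | of_subsingleton =>
    rename_i M _ _ _
    refine ⟨0, ?_⟩
    rw [Module.annihilator_eq_top_iff.mpr inferInstance]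
    exact le_top
  | of_simple_quotient hN' ih =>
    rename_i M _ _ N' hsimple
    obtain ⟨k, hk⟩ := ih
    obtain ⟨I, hI, ⟨e⟩⟩ := isSimpleModule_iff_quot_maximal.mp hsimple
    obtain rfl : I = IsLocalRing.maximalIdeal A := IsLocalRing.eq_maximalIdeal hI
    refine ⟨k + 1, ?_⟩
    rw [pow_succ, Ideal.mul_le]
    intro r hr s hs
    rw [Module.mem_annihilator]
    intro x
    have h1 : s • x ∈ N' := by
      rw [← Submodule.Quotient.mk_eq_zero, Submodule.Quotient.mk_smul]
      apply e.injective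
      rw [map_smul, map_zero]
      obtain ⟨c, hc⟩ := Ideal.Quotient.mk_surjective (e (Submodule.Quotient.mk x))
      rw [← hc]
      change Ideal.Quotient.mk _ (s * c) = 0
      exact Ideal.Quotient.eq_zero_iff_mem.mpr (Ideal.mul_mem_right _ _ hs)
    have h2 := Module.mem_annihilator.mp (hk hr) ⟨s • x, h1⟩
    rw [mul_smul]
    exact congrArg Subtype.val h2


section Main

variable (A : Type u) [CommRing A] [IsLocalRing A] [IsNoetherianRing A]

/-- the finite length case, given a power of the maximal ideal killing `N` -/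
theorem nonempty_equiv_of_pow_le (ω : Dual.D A) (hω : Dual.IsDualizing A ω)
    (hn : Dual.IsNormalized A ω) (E : Type u) [AddCommGroup E] [Module A E]
    (f : IsLocalRing.ResidueField A →ₗ[A] E) (hf : InjHull.IsInjectiveHull f)
    (N : Type u) [AddCommGroup N] [Module A N] (k : ℕ)
    (hk : (IsLocalRing.maximalIdeal A) ^ (k + 1) ≤ Module.annihilator A N) :
    Nonempty ((Dual.inD A N ⟶ ω) ≃ₗ[A] (N →ₗ[A] E)) := by
  have := nontrivial_quot A k
  have := isLocalRing_quot A k
  have := isLocalHom_quot A k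
  have := isArtinianRing_quot A k
  -- `N` and `κ` as modules over the quotient
  have hNt : Module.IsTorsionBySet A N ((IsLocalRing.maximalIdeal A) ^ (k + 1) : Ideal A) := by
    intro x a
    exact Module.mem_annihilator.mp (hk a.2) x
  letI : Module (A ⧸ (IsLocalRing.maximalIdeal A) ^ (k + 1)) N := hNt.module
  have hκt : Module.IsTorsionBySet A (IsLocalRing.ResidueField A)
      ((IsLocalRing.maximalIdeal A) ^ (k + 1) : Ideal A) := by
    intro x a
    obtain ⟨c, rfl⟩ := IsLocalRing.residue_surjective x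
    have ha : (a : A) ∈ IsLocalRing.maximalIdeal A :=
      Ideal.pow_le_self (by omega : k + 1 ≠ 0) a.2
    change IsLocalRing.residue A ((a : A) * c) = 0
    exact (IsLocalRing.residue_eq_zero_iff _).mpr (Ideal.mul_mem_right _ _ ha)
  letI : Module (A ⧸ (IsLocalRing.maximalIdeal A) ^ (k + 1)) (IsLocalRing.ResidueField A) :=
    hκt.module
  -- the two hulls
  obtain ⟨g, hg, -⟩ := Groth.Agent.S11662.result A ((IsLocalRing.maximalIdeal A) ^ (k + 1))
    (IsLocalRing.ResidueField A) E f hf
  obtain ⟨J, gJ, hgJ, hM⟩ := exists_hull_equiv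
    (B := A ⧸ (IsLocalRing.maximalIdeal A) ^ (k + 1)) ω hω hn
  have hsimple : IsSimpleModule (A ⧸ (IsLocalRing.maximalIdeal A) ^ (k + 1))
      (IsLocalRing.ResidueField A) := isSimpleModule_of_tower (A := A) _
  obtain ⟨eκ⟩ := nonempty_linearEquiv_residueField
    (R := A ⧸ (IsLocalRing.maximalIdeal A) ^ (k + 1)) (IsLocalRing.ResidueField A)
  obtain ⟨eJ, -⟩ := Groth.Agent.S0302.result (A ⧸ (IsLocalRing.maximalIdeal A) ^ (k + 1))
    (IsLocalRing.ResidueField A) J (LocCoh.torsionBy ((IsLocalRing.maximalIdeal A) ^ (k + 1)) E)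
    (gJ ∘ₗ eκ.toLinearMap) (isInjectiveHull_comp_equiv hgJ eκ) g hg
  obtain ⟨E0, hE0⟩ := hM N
  -- the chain
  let E1 : (Dual.inD A N ⟶ ω) ≃ₗ[A]
      ((DRing.restrictD (algebraMap A (A ⧸ (IsLocalRing.maximalIdeal A) ^ (k + 1)))).obj
        (Dual.inD (A ⧸ (IsLocalRing.maximalIdeal A) ^ (k + 1)) N) ⟶ ω) :=
    Linear.homCongr A (restrictInDIso N).symm (Iso.refl ω)
  let E2 : (N →ₗ[A ⧸ (IsLocalRing.maximalIdeal A) ^ (k + 1)] J) ≃ₗ[A ⧸ (IsLocalRing.maximalIdeal A) ^ (k + 1)]
      (N →ₗ[A ⧸ (IsLocalRing.maximalIdeal A) ^ (k + 1)]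
        LocCoh.torsionBy ((IsLocalRing.maximalIdeal A) ^ (k + 1)) E) :=
    LinearEquiv.congrRight eJ
  let E3 := homTorsionEquiv ((IsLocalRing.maximalIdeal A) ^ (k + 1)) N E
  refine ⟨AddEquiv.toLinearEquiv
    (E1.toAddEquiv.trans (E0.trans (E2.toAddEquiv.trans E3.toAddEquiv))) ?_⟩
  intro a x
  change E3 (E2 (E0 (E1 (a • x)))) = a • E3 (E2 (E0 (E1 x)))
  have h3 : ∀ (z : N →ₗ[A ⧸ (IsLocalRing.maximalIdeal A) ^ (k + 1)]
      LocCoh.torsionBy ((IsLocalRing.maximalIdeal A) ^ (k + 1)) E),
      E3 (algebraMap A (A ⧸ (IsLocalRing.maximalIdeal A) ^ (k + 1)) a • z) = a • E3 z := by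
    intro z
    rw [← map_smul]
    congr 1
  rw [map_smul E1, hE0, map_smul E2, h3]

end Main

end Groth.Agent.Lib.Seat8.FinLenDual
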