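import Mathlib
import Groth.Prelude
import Groth.Agent.Lib.Helper1Extend
import Groth.Agent.Lib.Seat8DualFlat
import Groth.Agent.Lib.Seat8DualPoly

/-!
# Towers of flat extensions and dualizing complexes over polynomial rings in several variables (seat 90)
-/

set_option autoImplicit false
universe u
open CategoryTheory CategoryTheory.Limits
attribute [local instance] HasDerivedCategory.standard
open Groth.Agent.Lib.Helper1.Extend
open scoped TensorProduct Polynomial

namespace Groth.Agent.Lib.Seat90.ExtTower

section Comp

variable {C₁ C₂ C₃ : Type (u + 1)} [Category.{u} C₁] [Category.{u} C₂] [Category.{u} C₃]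
  [Abelian C₁] [Abelian C₂] [Abelian C₃]
  [HasDerivedCategory.{u + 1} C₁] [HasDerivedCategory.{u + 1} C₂] [HasDerivedCategory.{u + 1} C₃]
  (F : C₁ ⥤ C₂) [F.Additive] [PreservesFiniteLimits F] [PreservesFiniteColimits F]
  (G : C₂ ⥤ C₃) [G.Additive] [PreservesFiniteLimits G] [PreservesFiniteColimits G]
  (H : C₁ ⥤ C₃) [H.Additive] [PreservesFiniteLimits H] [PreservesFiniteColimits H]

/-- the composite of the derived functors of exact functors lifts the composite -/
noncomputable def compFactors :
    DerivedCategory.Q ⋙ (F.mapDerivedCategory ⋙ G.mapDerivedCategory) ≅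
      (F.mapHomologicalComplex (ComplexShape.up ℤ) ⋙ G.mapHomologicalComplex (ComplexShape.up ℤ)) ⋙
        DerivedCategory.Q :=
  (Functor.associator _ _ _).symm ≪≫
    Functor.isoWhiskerRight F.mapDerivedCategoryFactors G.mapDerivedCategory ≪≫
    Functor.associator _ _ _ ≪≫
    Functor.isoWhiskerLeft (F.mapHomologicalComplex (ComplexShape.up ℤ)) G.mapDerivedCategoryFactors ≪≫
    (Functor.associator _ _ _).symm

/-- derived functors of exact functors compose -/
noncomputable def mapDerivedCategoryComp (e : F ⋙ G ≅ H) :
    F.mapDerivedCategory ⋙ G.mapDerivedCategory ≅ H.mapDerivedCategory :=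
  letI : Localization.Lifting DerivedCategory.Q
      (HomologicalComplex.quasiIso C₁ (ComplexShape.up ℤ))
      ((F.mapHomologicalComplex (ComplexShape.up ℤ) ⋙ G.mapHomologicalComplex (ComplexShape.up ℤ)) ⋙
        DerivedCategory.Q) (F.mapDerivedCategory ⋙ G.mapDerivedCategory) := ⟨compFactors F G⟩
  Localization.liftNatIso DerivedCategory.Q (HomologicalComplex.quasiIso C₁ (ComplexShape.up ℤ))
    ((F.mapHomologicalComplex (ComplexShape.up ℤ) ⋙ G.mapHomologicalComplex (ComplexShape.up ℤ)) ⋙
        DerivedCategory.Q)
    (H.mapHomologicalComplex (ComplexShape.up ℤ) ⋙ DerivedCategory.Q) _ _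
    (Functor.isoWhiskerRight (NatIso.mapHomologicalComplex e (ComplexShape.up ℤ)) DerivedCategory.Q)

end Comp

section Tower

variable (A B C : Type u) [CommRing A] [CommRing B] [CommRing C] [Algebra A B] [Algebra B C]
  [Algebra A C] [IsScalarTower A B C]

/-- extension of scalars along a tower -/
noncomputable def extComp : ext A B ⋙ ext B C ≅ ext A C :=
  (ModuleCat.extendScalarsComp.{u, u} (algebraMap A B) (algebraMap B C)).symm ≪≫
    eqToIso (congrArg (ModuleCat.extendScalars.{u, u, u})
      (IsScalarTower.algebraMap_eq A B C).symm)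

variable [Module.Flat A B] [Module.Flat B C] [Module.Flat A C]

/-- derived extension of scalars along a tower of flat maps -/
noncomputable def extDComp : extD A B ⋙ extD B C ≅ extD A C :=
  mapDerivedCategoryComp (ext A B) (ext B C) (ext A C) (extComp A B C)

end Tower

section Surj

variable {A B : Type u} [CommRing A] [CommRing B] [Algebra A B] [Module.Flat A B]

/-- ascent of dualizing complexes along a flat surjective map (e.g. an isomorphism) -/
theorem isDualizing_extD_of_surjective [IsNoetherianRing B]
    (hs : Function.Surjective (algebraMap A B)) (ω : Dual.D A) (hω : Dual.IsDualizing A ω) :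
    Dual.IsDualizing B ((extD A B).obj ω) := by
  refine Groth.Agent.Lib.Seat8.DualFlat.isDualizing_extD_of_maximal ω hω (fun n hn => ?_)
  refine ⟨n.comap (algebraMap A B), ⟨?_⟩⟩
  have h : (n.comap (algebraMap A B)).map (algebraMap A B) = n := Ideal.map_comap_of_surjective _ hs n
  exact (Submodule.quotEquivOfEq _ _ h.symm).trans
    (Ideal.qoutMapEquivTensorQout B (I := n.comap (algebraMap A B)))

end Surj

section MvPoly

variable (R : Type u) [CommRing R] [IsNoetherianRing R]

/-- the base change of a dualizing complex to a polynomial ring in finitely many variables is dualizing -/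
theorem isDualizing_extD_mvPolynomial (n : ℕ) (ω : Dual.D R) (hω : Dual.IsDualizing R ω) :
    Dual.IsDualizing (MvPolynomial (Fin n) R) ((extD R (MvPolynomial (Fin n) R)).obj ω) := by
  induction n with
  | zero =>
    refine isDualizing_extD_of_surjective ?_ ω hω
    rw [MvPolynomial.algebraMap_eq]
    exact MvPolynomial.C_surjective (Fin 0)
  | succ n ih =>
    have h1 : Dual.IsDualizing (MvPolynomial (Fin n) R)[X]
        ((extD (MvPolynomial (Fin n) R) (MvPolynomial (Fin n) R)[X]).obj
          ((extD R (MvPolynomial (Fin n) R)).obj ω)) :=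
      Groth.Agent.Lib.Seat8.DualPoly.isDualizing_extD_polynomial _ ih
    haveI : Module.Flat R (MvPolynomial (Fin n) R)[X] :=
      Module.Flat.trans R (MvPolynomial (Fin n) R) (MvPolynomial (Fin n) R)[X]
    have h2 : Dual.IsDualizing (MvPolynomial (Fin n) R)[X]
        ((extD R (MvPolynomial (Fin n) R)[X]).obj ω) :=
      Groth.Agent.Lib.Seat8.DualBC.isDualizing_of_iso
        ((extDComp R (MvPolynomial (Fin n) R) (MvPolynomial (Fin n) R)[X]).app ω) h1
    let e : (MvPolynomial (Fin n) R)[X] ≃ₐ[R] MvPolynomial (Fin (n + 1)) R :=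
      (MvPolynomial.finSuccEquiv R n).symm
    letI : Algebra (MvPolynomial (Fin n) R)[X] (MvPolynomial (Fin (n + 1)) R) :=
      e.toAlgHom.toRingHom.toAlgebra
    haveI : IsScalarTower R (MvPolynomial (Fin n) R)[X] (MvPolynomial (Fin (n + 1)) R) :=
      IsScalarTower.of_algebraMap_eq (fun r => (e.commutes r).symm)
    haveI : Module.Flat (MvPolynomial (Fin n) R)[X] (MvPolynomial (Fin (n + 1)) R) :=
      (RingHom.flat_algebraMap_iff (R := (MvPolynomial (Fin n) R)[X])
        (S := MvPolynomial (Fin (n + 1)) R)).1 (RingHom.Flat.of_bijective e.bijective)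
    have h3 : Dual.IsDualizing (MvPolynomial (Fin (n + 1)) R)
        ((extD (MvPolynomial (Fin n) R)[X] (MvPolynomial (Fin (n + 1)) R)).obj
          ((extD R (MvPolynomial (Fin n) R)[X]).obj ω)) :=
      isDualizing_extD_of_surjective e.surjective _ h2
    exact Groth.Agent.Lib.Seat8.DualBC.isDualizing_of_iso
      ((extDComp R (MvPolynomial (Fin n) R)[X] (MvPolynomial (Fin (n + 1)) R)).app ω) h3

end MvPoly

end Groth.Agent.Lib.Seat90.ExtTower
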