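import Mathlib
import Groth.Prelude
import Groth.Agent.Lib.Seat8DualFlat
import Groth.Agent.Lib.Seat8PtwiseDual
import Groth.Agent.Lib.Seat8DualPoly
import Groth.Agent.Lib.Seat90ExtTower
import Groth.Agent.S1787

/-!
# Ascent of dualizing complexes along flat maps which are unramified at maximal ideals (seat 90)
-/

set_option autoImplicit false
universe u
open CategoryTheory CategoryTheory.Limits
attribute [local instance] HasDerivedCategory.standard
open Groth.Agent.Lib.Helper1.Extend Groth.Agent.Lib.Seat8.FBC Groth.Agent.Lib.Seat8.DualBC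
open scoped TensorProduct

namespace Groth.Agent.Lib.Seat90.UnramAscent

section Loc

variable {B : Type u} [CommRing B] (S : Submonoid B)
  {M N : Type u} [AddCommGroup M] [Module B M] [AddCommGroup N] [Module B N]

/-- a surjection whose kernel is `S`-torsion induces an isomorphism on localizations -/
theorem bijective_map_of_surjective_of_ker_torsion (f : M →ₗ[B] N) (hf : Function.Surjective f)
    (hk : ∀ x : M, f x = 0 → ∃ s ∈ S, s • x = 0) :
    Function.Bijective (LocalizedModule.map S f) := by
  constructor
  · rw [← LinearMap.ker_eq_bot, eq_bot_iff]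
    intro z hz
    induction z using LocalizedModule.induction_on with
    | h m s =>
      rw [LinearMap.mem_ker, LocalizedModule.map_mk] at hz
      rw [Submodule.mem_bot]
      have hz' : LocalizedModule.mk (f m) s = LocalizedModule.mk (0 : N) (1 : S) := by
        rw [hz, LocalizedModule.zero_mk]
      obtain ⟨t, ht⟩ := LocalizedModule.mk_eq.1 hz'
      have h1 : f ((t : B) • m) = 0 := by
        rw [map_smul]
        have ht' : t • (1 : S) • f m = t • s • (0 : N) := ht
        rw [one_smul, smul_zero, smul_zero] at ht'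
        exact ht'
      obtain ⟨t', ht', h2⟩ := hk _ h1
      have : LocalizedModule.mk m s = LocalizedModule.mk (0 : M) (1 : S) := by
        rw [LocalizedModule.mk_eq]
        refine ⟨⟨t', ht'⟩ * t, ?_⟩
        simp only [one_smul, smul_zero]
        rw [Submonoid.smul_def, Submonoid.coe_mul, mul_smul]
        exact h2
      rw [this, LocalizedModule.zero_mk]
  · intro z
    induction z using LocalizedModule.induction_on with
    | h n s =>
      obtain ⟨m, rfl⟩ := hf n
      exact ⟨LocalizedModule.mk m s, LocalizedModule.map_mk S f m s⟩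

end Loc

section Kill

variable {B : Type u} [CommRing B]

/-- `Hom((B/n)[0], K)` is killed by `n` -/
lemma smul_hom_eq_zero (n : Ideal B) (K : Dual.D B) (a : B) (ha : a ∈ n)
    (f : Dual.inD B (B ⧸ n) ⟶ K) : a • f = 0 := by
  have h1 : a • f = (a • 𝟙 (Dual.inD B (B ⧸ n))) ≫ f := by rw [Linear.smul_comp, Category.id_comp]
  have h3 : a • 𝟙 (ModuleCat.of B (B ⧸ n)) = 0 := by
    apply ModuleCat.hom_ext
    apply LinearMap.ext
    intro x
    obtain ⟨y, rfl⟩ := Ideal.Quotient.mk_surjective x
    change a • (Ideal.Quotient.mk n y) = 0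
    rw [← Ideal.Quotient.mk_eq_mk, ← Submodule.Quotient.mk_smul, Ideal.Quotient.mk_eq_mk,
      Ideal.Quotient.eq_zero_iff_mem]
    exact Ideal.mul_mem_right _ _ ha
  have h2 : a • 𝟙 (Dual.inD B (B ⧸ n)) =
      (DerivedCategory.singleFunctor (ModuleCat.{u} B) 0).map (a • 𝟙 (ModuleCat.of B (B ⧸ n))) := by
    rw [Functor.map_smul, CategoryTheory.Functor.map_id]
  rw [h1, h2, h3, Functor.map_zero, zero_comp]

end Kill

section Ascent

variable {A B : Type u} [CommRing A] [CommRing B] [Algebra A B] [Module.Flat A B]

/-- **Ascent of dualizing complexes** along a flat map of Noetherian rings which is "unramified at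
maximal ideals": for every maximal ideal `n` of `B` there is an ideal `I` of `A` with `I B_n = n B_n`. -/
theorem isDualizing_extD_of_unramified [IsNoetherianRing B] (ω : Dual.D A)
    (hω : Dual.IsDualizing A ω)
    (hmax : ∀ n : Ideal B, n.IsMaximal → ∃ I : Ideal A, I.map (algebraMap A B) ≤ n ∧
      ∀ x ∈ n, ∃ s ∉ n, s * x ∈ I.map (algebraMap A B)) :
    Dual.IsDualizing B ((extD A B).obj ω) := by
  have := hω.isNoetherianRing
  obtain ⟨a, b, hab⟩ := hω.finite_injective_dimension
  obtain ⟨hGE, hLE⟩ := isGE_isLE_of_finiteInjDim ω a b hab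
  have hGE' : ((extD A B).obj ω).IsGE a := isGE_map (ext A B) ω a hGE
  have hfin' : ∀ i : ℤ, Module.Finite B (Dual.HD B ((extD A B).obj ω) i) := fun i => by
    have := hω.finite_cohomology i
    have h2 : Module.Finite B ((ext A B).obj
        ((DerivedCategory.homologyFunctor (ModuleCat.{u} A) i).obj ω)) :=
      Groth.Agent.Lib.Helper1.LDer.finite_bc (algebraMap A B) _
    exact Module.Finite.equiv (homologyMapDIso (ext A B) ω i).symm.toLinearEquiv
  refine Groth.Agent.Lib.Seat8.DualPoly.isDualizing_extD_of_injDim ω hω ⟨a, b, ?_⟩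
  refine ((Groth.Agent.S6965.result B ((extD A B).obj ω) a b).out 2 1).1 ?_
  intro J i hi
  rcases hi with hi | hi
  · have h1 : (Dual.inD B (B ⧸ J)).IsLE 0 := inferInstance
    have h2 : (((extD A B).obj ω)⟦i⟧).IsGE (a - i) :=
      DerivedCategory.TStructure.t.isGE_shift _ a i (a - i) (by omega)
    exact ⟨fun f g =>
      (DerivedCategory.TStructure.t.zero_of_isLE_of_isGE f 0 (a - i) (by omega) h1 h2).trans
      (DerivedCategory.TStructure.t.zero_of_isLE_of_isGE g 0 (a - i) (by omega) h1 h2).symm⟩
  · refine Groth.Agent.Lib.Seat8.Bass.bass ((extD A B).obj ω) a hGE' hfin' b ?_ J i hi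
    intro n hn i hi
    obtain ⟨I, hIn, hloc⟩ := hmax n hn
    haveI : n.IsPrime := hn.isPrime
    -- `Ext^i(B/IB, K') = 0`
    have h1 := Groth.Agent.Lib.Seat8.DualFlat.subsingleton_inD_extD (B := B) (A ⧸ I) ω a hGE i
      (hab (A ⧸ I) i (Or.inr hi))
    have h1' : Subsingleton (Dual.inD B (B ⧸ I.map (algebraMap A B)) ⟶ ((extD A B).obj ω)⟦i⟧) :=
      subsingleton_hom_of_iso
        ((DerivedCategory.singleFunctor (ModuleCat.{u} B) 0).mapIso
          (Ideal.qoutMapEquivTensorQout B (I := I)).symm.toModuleIso) (Iso.refl _) h1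
    -- localizations of the two Ext modules
    obtain ⟨E1⟩ := Groth.Agent.Lib.Seat8.PtwiseDual.nonempty_equiv_localizedModule n.primeCompl
      ((extD A B).obj ω) a hGE' (B ⧸ n) i
    obtain ⟨E2⟩ := Groth.Agent.Lib.Seat8.PtwiseDual.nonempty_equiv_localizedModule n.primeCompl
      ((extD A B).obj ω) a hGE' (B ⧸ I.map (algebraMap A B)) i
    -- `(B/IB)_n ≃ (B/n)_n`
    let f : (B ⧸ I.map (algebraMap A B)) →ₗ[B] (B ⧸ n) :=
      Submodule.mapQ (I.map (algebraMap A B)) n LinearMap.id hIn
    have hfs : Function.Surjective f := by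
      intro y
      obtain ⟨z, rfl⟩ := Submodule.Quotient.mk_surjective _ y
      exact ⟨Submodule.Quotient.mk z, rfl⟩
    have hfk : ∀ x : B ⧸ I.map (algebraMap A B), f x = 0 → ∃ s ∈ n.primeCompl, s • x = 0 := by
      intro x hx
      obtain ⟨z, rfl⟩ := Submodule.Quotient.mk_surjective _ x
      have hz : z ∈ n := (Submodule.Quotient.mk_eq_zero n).1 hx
      obtain ⟨s, hs, hsz⟩ := hloc z hz
      refine ⟨s, hs, ?_⟩
      rw [← Submodule.Quotient.mk_smul]
      exact (Submodule.Quotient.mk_eq_zero _).2 hsz
    let eMN : LocalizedModule n.primeCompl (B ⧸ I.map (algebraMap A B)) ≃ₗ[Localization n.primeCompl]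
        LocalizedModule n.primeCompl (B ⧸ n) :=
      LinearEquiv.ofBijective (LocalizedModule.map n.primeCompl f)
        (bijective_map_of_surjective_of_ker_torsion n.primeCompl f hfs hfk)
    -- the localized Ext of `B/n` vanishes
    have h2 : Subsingleton (LocalizedModule n.primeCompl
        (Dual.inD B (B ⧸ I.map (algebraMap A B)) ⟶ ((extD A B).obj ω)⟦i⟧)) := by
      refine ⟨fun x y => ?_⟩
      induction x using LocalizedModule.induction_on with
      | h m s =>
        induction y using LocalizedModule.induction_on with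
        | h m' s' =>
          rw [Subsingleton.elim m 0, Subsingleton.elim m' 0, LocalizedModule.zero_mk,
            LocalizedModule.zero_mk]
    have h3 : Subsingleton (Dual.inD (Localization n.primeCompl)
        (LocalizedModule n.primeCompl (B ⧸ I.map (algebraMap A B))) ⟶
        ((extD B (Localization n.primeCompl)).obj ((extD A B).obj ω))⟦i⟧) :=
      E2.symm.toEquiv.subsingleton
    have h4 : Subsingleton (Dual.inD (Localization n.primeCompl)
        (LocalizedModule n.primeCompl (B ⧸ n)) ⟶
        ((extD B (Localization n.primeCompl)).obj ((extD A B).obj ω))⟦i⟧) :=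
      subsingleton_hom_of_iso
        ((DerivedCategory.singleFunctor (ModuleCat.{u} (Localization n.primeCompl)) 0).mapIso
          eMN.toModuleIso) (Iso.refl _) h3
    have h5 : Subsingleton (LocalizedModule n.primeCompl
        (Dual.inD B (B ⧸ n) ⟶ ((extD A B).obj ω)⟦i⟧)) := E1.toEquiv.subsingleton
    -- hence the Ext of `B/n` vanishes
    have h6 : ∀ x : (Dual.inD B (B ⧸ n) ⟶ ((extD A B).obj ω)⟦i⟧), x = 0 := by
      intro x
      have h7 : LocalizedModule.mk x (1 : n.primeCompl) = LocalizedModule.mk 0 (1 : n.primeCompl) :=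
        Subsingleton.elim _ _
      obtain ⟨u, hu⟩ := LocalizedModule.mk_eq.1 h7
      rw [one_smul, one_smul, smul_zero] at hu
      obtain ⟨y, c, hc, hyc⟩ := hn.exists_inv u.2
      have h8 : x = (y * (u : B) + c) • x := by rw [hyc, one_smul]
      rw [h8, add_smul, mul_smul]
      have h9 : (u : B) • x = 0 := hu
      rw [h9, smul_zero, zero_add]
      exact smul_hom_eq_zero n _ c hc x
    exact ⟨fun x y => (h6 x).trans (h6 y).symm⟩

end Ascent

section Unram

variable {C B : Type u} [CommRing C] [CommRing B] [Algebra C B]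

/-- for a formally unramified algebra essentially of finite type, `p B_n = n B_n` where `p = n ∩ C` -/
theorem exists_ideal_of_formallyUnramified [Algebra.FormallyUnramified C B]
    [Algebra.EssFiniteType C B] (n : Ideal B) [hn : n.IsPrime] :
    ∃ I : Ideal C, I.map (algebraMap C B) ≤ n ∧
      ∀ x ∈ n, ∃ s ∉ n, s * x ∈ I.map (algebraMap C B) := by
  haveI : n.LiesOver (n.comap (algebraMap C B)) := ⟨rfl⟩
  letI := Localization.AtPrime.algebraOfLiesOver (n.comap (algebraMap C B)) n
  have h := (Algebra.isUnramifiedAt_iff_map_eq C (n.comap (algebraMap C B)) n).1 inferInstance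
  refine ⟨n.comap (algebraMap C B), Ideal.map_comap_le, fun x hx => ?_⟩
  have hx' : algebraMap B (Localization.AtPrime n) x ∈
      IsLocalRing.maximalIdeal (Localization.AtPrime n) :=
    (IsLocalization.AtPrime.to_map_mem_maximal_iff (Localization.AtPrime n) n x).2 hx
  rw [← h.2, IsScalarTower.algebraMap_eq C B (Localization.AtPrime n), ← Ideal.map_map] at hx'
  obtain ⟨⟨⟨y, hy⟩, s⟩, hys⟩ := (IsLocalization.mem_map_algebraMap_iff n.primeCompl _).1 hx'
  simp only at hys
  rw [← map_mul] at hys
  obtain ⟨t, ht⟩ := (IsLocalization.eq_iff_exists n.primeCompl _).1 hys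
  refine ⟨t * s, ?_, ?_⟩
  · exact fun hmem => (hn.mem_or_mem hmem).elim t.2 s.2
  · have : (t : B) * (s : B) * x = t * y := by rw [← ht]; ring
    rw [this]
    exact Ideal.mul_mem_left _ _ hy

end Unram

section Smooth

open Groth.Agent.Lib.Seat90.ExtTower Groth.Agent.Lib.Seat8.DualBC

variable {A B : Type u} [CommRing A] [CommRing B] [Algebra A B]

/-- derived base change exists along flat maps -/
theorem hasLBaseChange_of_flat [Module.Flat A B] : DRing.HasLBaseChange (algebraMap A B) := by
  haveI : (extD A B).IsLeftDerivedFunctor (ext A B).mapDerivedCategoryFactorsh.hom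
      (HomotopyCategory.quasiIso (ModuleCat.{u} A) (ComplexShape.up ℤ)) :=
    Functor.isLeftDerivedFunctor_of_inverts
      (HomotopyCategory.quasiIso (ModuleCat.{u} A) (ComplexShape.up ℤ)) (extD A B)
      (ext A B).mapDerivedCategoryFactorsh
  exact Functor.HasLeftDerivedFunctor.mk' (extD A B) (ext A B).mapDerivedCategoryFactorsh.hom

variable [IsNoetherianRing A]

/-- base change of a dualizing complex to an algebra étale over a polynomial ring -/
theorem isDualizing_extD_of_etale_mvPolynomial (n : ℕ) [IsNoetherianRing B] [Module.Flat A B]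
    (g : MvPolynomial (Fin n) A →+* B) (hg : g.comp MvPolynomial.C = algebraMap A B)
    (hét : g.Etale) (ω : Dual.D A) (hω : Dual.IsDualizing A ω) :
    Dual.IsDualizing B ((extD A B).obj ω) := by
  letI : Algebra (MvPolynomial (Fin n) A) B := g.toAlgebra
  haveI : Algebra.Etale (MvPolynomial (Fin n) A) B := hét
  haveI : IsScalarTower A (MvPolynomial (Fin n) A) B :=
    IsScalarTower.of_algebraMap_eq (fun r => by rw [← hg]; rfl)
  haveI : Module.Flat (MvPolynomial (Fin n) A) B := inferInstance
  have h1 := isDualizing_extD_mvPolynomial A n ω hω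
  have h2 := isDualizing_extD_of_unramified (A := MvPolynomial (Fin n) A) (B := B) _ h1
    (fun m hm => by
      haveI := hm.isPrime
      exact exists_ideal_of_formallyUnramified m)
  exact isDualizing_of_iso ((extDComp A (MvPolynomial (Fin n) A) B).app ω) h2

/-- **base change of a dualizing complex along a smooth map is dualizing** -/
theorem isDualizing_extD_of_smooth [Algebra.Smooth A B] (ω : Dual.D A)
    (hω : Dual.IsDualizing A ω) : Dual.IsDualizing B ((extD A B).obj ω) := by
  haveI : IsNoetherianRing B := Algebra.FiniteType.isNoetherianRing A B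
  obtain ⟨s, hs, hss⟩ := Algebra.Smooth.exists_span_eq_top_isStandardSmooth A B
  obtain ⟨t, hts, ht⟩ := (Ideal.span_eq_top_iff_finite s).1 hs
  let f : Fin t.card → B := fun i => (t.equivFin.symm i : B)
  have hf : Ideal.span (Set.range f) = ⊤ := by
    have : Set.range f = (t : Set B) := by
      ext x
      constructor
      · rintro ⟨i, rfl⟩
        exact (t.equivFin.symm i).2
      · intro hx
        exact ⟨t.equivFin ⟨x, hx⟩, by simp [f]⟩
    rw [this]
    exact ht
  refine Groth.Agent.S1787.result B t.card f hf _ (fun i => ?_)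
  haveI : Module.Flat B (Localization.Away (f i)) :=
    IsLocalization.flat (Localization.Away (f i)) (Submonoid.powers (f i))
  haveI : Module.Flat A (Localization.Away (f i)) := Module.Flat.trans A B (Localization.Away (f i))
  haveI : IsNoetherianRing (Localization.Away (f i)) :=
    IsLocalization.isNoetherianRing (Submonoid.powers (f i)) _ inferInstance
  refine ⟨hasLBaseChange_of_flat, ?_⟩
  have hx : f i ∈ s := hts (t.equivFin.symm i).2
  haveI := hss _ hx
  obtain ⟨m, g, hg, hét⟩ := RingHom.IsStandardSmooth.exists_etale_mvPolynomial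
    (f := algebraMap A (Localization.Away (f i)))
    (RingHom.isStandardSmooth_algebraMap.2 inferInstance)
  have h3 := isDualizing_extD_of_etale_mvPolynomial m g hg hét ω hω
  letI := hasLBaseChange_of_flat (A := B) (B := Localization.Away (f i))
  exact isDualizing_of_iso (((extDComp A B (Localization.Away (f i))).app ω).symm ≪≫
    ((lbcFlatIso (A := B) (B := Localization.Away (f i))).app _).symm) h3

end Smooth

end Groth.Agent.Lib.Seat90.UnramAscent
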