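import Mathlib
import Groth.Prelude.Def_DDual2
import Groth.Prelude.Def_CAlg
import Groth.Agent.Lib.Seat8PtwiseDual
import Groth.Agent.Lib.Seat8CMSch
import Groth.Agent.Lib.Seat8FinLenDual
import Groth.Agent.Lib.Seat63RHomCxInj
import Groth.Agent.Lib.Helper29Gorenstein
import Groth.Agent.S0973
import Groth.Agent.S0364
import Groth.Agent.Lib.Seat90UnramAscent
import Groth.Agent.Lib.Seat8MinPrime
import Groth.Agent.Lib.Seat8DimFn2
import Groth.Agent.Lib.Helper5GorRing
import Groth.Agent.Lib.Helper28FlatNormal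

set_option autoImplicit false
set_option linter.unusedSectionVars false
universe u
open CategoryTheory CategoryTheory.Limits Pretriangulated
open scoped TensorProduct

attribute [local instance] HasDerivedCategory.standard

namespace Groth.Agent.Lib.Seat8.FibreBass

open DerivedCategory Groth.Agent.Lib.Seat8.DualShift
  Groth.Agent.Lib.Helper1.Extend Groth.Agent.Lib.Seat8.FBC Groth.Agent.Lib.Seat8.DualBC
  Groth.Agent.Lib.Seat8.Coext Groth.Agent.Lib.Seat8.CoextShift Groth.Agent.Lib.Seat8.PtwiseDual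

section Gor

variable (F : Type u) [CommRing F] [hF : LocCoh.IsGorensteinLocalRing F]

/-- over a Gorenstein local ring of dimension at most `e`, `Ext^j(N, F) = 0` for `j > e` -/
theorem subsingleton_hom_self (e : ℕ) (he : ringKrullDim F ≤ (e : WithBot ℕ∞))
    (N : Type u) [AddCommGroup N] [Module F N] (j : ℤ) (hj : (e : ℤ) < j) :
    Subsingleton (Dual.inD F N ⟶ (Dual.inD F F)⟦j⟧) := by
  obtain ⟨n, hn⟩ : ∃ n : ℕ, ringKrullDim F = (n : WithBot ℕ∞) := by
    rcases h : ringKrullDim F with _ | x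
    · exact absurd h ringKrullDim_ne_bot
    · rw [h] at he
      have hx : x ≠ ⊤ := by
        rintro rfl
        have h1 : (⊤ : ℕ∞) ≤ (e : ℕ∞) := WithBot.coe_le_coe.mp he
        exact absurd h1 (not_le.mpr (ENat.natCast_lt_top e))
      obtain ⟨n, rfl⟩ := ENat.ne_top_iff_exists.mp hx
      exact ⟨n, rfl⟩
  have hne : n ≤ e := by
    rw [hn] at he
    exact_mod_cast he
  have hinj := (Groth.Agent.Lib.Helper29Gorenstein.depth_eq_and_hasInjectiveDimensionLT F n hn).2
  obtain ⟨i, rfl⟩ : ∃ i : ℕ, j = (i : ℤ) := ⟨j.toNat, by omega⟩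
  have hs : Subsingleton (Abelian.Ext.{u} (ModuleCat.of F N) (ModuleCat.of F F) i) :=
    HasInjectiveDimensionLT.subsingleton (ModuleCat.of F F) (n + 1) i (by omega) _
  exact (Abelian.Ext.homEquiv (X := ModuleCat.of F N)
    (Y := ModuleCat.of F F) (n := i)).symm.subsingleton

end Gor

section CoextGeneral

variable {A B : Type u} [CommRing A] [CommRing B] (φ : A →+* B)

/-- coextensions exist for every object -/
theorem exists_isCoext (ω : Dual.D A) :
    ∃ (Z : Dual.D B) (ev : (DRing.restrictD φ).obj Z ⟶ ω), IsCoext φ ω Z ev := by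
  obtain ⟨I, ι, -, hI, hι⟩ := Groth.Agent.Lib.Seat63.RHomCx.exists_resolution (Q.objPreimage ω)
  have : IsIso (Q.map ι) := by
    rw [DerivedCategory.isIso_Q_map_iff_quasiIso]; exact hι
  let e : Q.obj I ≅ ω := (asIso (Q.map ι)).symm ≪≫ Q.objObjPreimageIso ω
  exact ⟨Z₀ φ I, ev₀ φ I ≫ e.hom, (isCoext_Z₀ φ I).comp_iso e⟩

end CoextGeneral

section FlatBC

variable {A B : Type u} [CommRing A] [CommRing B] [Algebra A B] [Module.Flat A B]
  [IsNoetherianRing A]

/-- flat base change: `Ext^j_B(B/IB, ω ⊗ B) ≃ B ⊗ Ext^j_A(A/I, ω)` -/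
theorem nonempty_equiv_quot (ω : Dual.D A) (a : ℤ) (hGE : ω.IsGE a) (I : Ideal A) (j : ℤ) :
    Nonempty ((Dual.inD B (B ⧸ I.map (algebraMap A B)) ⟶ ((extD A B).obj ω)⟦j⟧) ≃ₗ[B]
      B ⊗[A] (Dual.inD A (A ⧸ I) ⟶ ω⟦j⟧)) := by
  have hsh : (ω⟦j⟧).IsGE (a - j) :=
    DerivedCategory.TStructure.t.isGE_shift ω a j (a - j) (by omega)
  have hBC : BC B (Dual.inD A (A ⧸ I)) (ω⟦j⟧) :=
    BC_of_pseudoCoherent _ _ (a - j) hsh (fun m => isPC_inD (A ⧸ I) m)
  let e1 : (extD A B).obj (Dual.inD A (A ⧸ I)) ≅ Dual.inD B (B ⧸ I.map (algebraMap A B)) :=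
    extDInDIso (A := A) (B := B) (A ⧸ I) ≪≫
      (DerivedCategory.singleFunctor (ModuleCat.{u} B) 0).mapIso
        (Algebra.TensorProduct.quotIdealMapEquivTensorQuot B I).toLinearEquiv.symm.toModuleIso
  let e2 : (extD A B).obj (ω⟦j⟧) ≅ ((extD A B).obj ω)⟦j⟧ :=
    ((extD A B).commShiftIso j).app ω
  exact ⟨((LinearEquiv.ofBijective (cmp B (Dual.inD A (A ⧸ I)) (ω⟦j⟧)) hBC).trans
      (Linear.homCongr B e1 e2)).symm⟩

end FlatBC


section ChangeOfRings

variable {B : Type u} [CommRing B] [IsNoetherianRing B] (J : Ideal B) (K : Dual.D B)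

/-- maps into a coextension along `B → B/J` -/
theorem exists_hom_coext_equiv {Z : Dual.D (B ⧸ J)}
    {ev : (DRing.restrictD (algebraMap B (B ⧸ J))).obj Z ⟶ K}
    (h : IsCoext (algebraMap B (B ⧸ J)) K Z ev) (N : Type u) [AddCommGroup N] [Module B N]
    [Module (B ⧸ J) N] [IsScalarTower B (B ⧸ J) N] (j : ℤ) :
    ∃ E : (Dual.inD (B ⧸ J) N ⟶ Z⟦j⟧) ≃+ (Dual.inD B N ⟶ K⟦j⟧),
      ∀ (b : B) (x : Dual.inD (B ⧸ J) N ⟶ Z⟦j⟧),
        E (algebraMap B (B ⧸ J) b • x) = b • E x := by
  obtain ⟨E2, hE2⟩ := Groth.Agent.Lib.Seat8.CoextShift.IsCoext.exists_shift_equiv h (Dual.inD (B ⧸ J) N) j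
  let E3 : ((DRing.restrictD (algebraMap B (B ⧸ J))).obj (Dual.inD (B ⧸ J) N) ⟶ K⟦j⟧) ≃ₗ[B]
      (Dual.inD B N ⟶ K⟦j⟧) :=
    Linear.homCongr B (Groth.Agent.Lib.Seat8.FinLenDual.restrictInDIso (A := B) (B := B ⧸ J) N)
      (Iso.refl _)
  refine ⟨E2.trans E3.toAddEquiv, ?_⟩
  intro b x
  change E3 (E2 (algebraMap B (B ⧸ J) b • x)) = b • E3 (E2 x)
  rw [hE2, map_smul]

/-- cohomology of a coextension along `B → B/J` -/
theorem exists_HD_coext_equiv {Z : Dual.D (B ⧸ J)}
    {ev : (DRing.restrictD (algebraMap B (B ⧸ J))).obj Z ⟶ K}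
    (h : IsCoext (algebraMap B (B ⧸ J)) K Z ev) (j : ℤ) :
    ∃ E : Dual.HD (B ⧸ J) Z j ≃+ (Dual.inD B (B ⧸ J) ⟶ K⟦j⟧),
      ∀ (b : B) (x : Dual.HD (B ⧸ J) Z j), E (algebraMap B (B ⧸ J) b • x) = b • E x := by
  obtain ⟨E1⟩ := Groth.Agent.Lib.Seat8.CMSch.nonempty_homSelfEquivHD Z j
  obtain ⟨E2, hE2⟩ := exists_hom_coext_equiv J K h (B ⧸ J) j
  refine ⟨E1.symm.toAddEquiv.trans E2, ?_⟩
  intro b x
  change E2 (E1.symm (algebraMap B (B ⧸ J) b • x)) = b • E2 (E1.symm x)
  rw [map_smul, hE2]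


/-- **Change of rings**: if `Ext^j_B(B/J, K)` vanishes for `j ≠ δ` and `Ext^δ_B(B/J, K) ≅ B/J`, then
`Ext^i_B(N, K) = 0` whenever `Ext^{i-δ}_{B/J}(N, B/J) = 0`, for modules `N` over `B/J`. -/
theorem subsingleton_hom_of_quotient (δ : ℤ)
    (h0 : ∀ j : ℤ, j ≠ δ → Subsingleton (Dual.inD B (B ⧸ J) ⟶ K⟦j⟧))
    (h1 : Nonempty ((Dual.inD B (B ⧸ J) ⟶ K⟦δ⟧) ≃ₗ[B] (B ⧸ J)))
    (N : Type u) [AddCommGroup N] [Module B N] [Module (B ⧸ J) N] [IsScalarTower B (B ⧸ J) N]
    (i : ℤ) (hs : Subsingleton (Dual.inD (B ⧸ J) N ⟶ (Dual.inD (B ⧸ J) (B ⧸ J))⟦i - δ⟧)) :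
    Subsingleton (Dual.inD B N ⟶ K⟦i⟧) := by
  obtain ⟨Z, ev, h⟩ := exists_isCoext (algebraMap B (B ⧸ J)) K
  -- cohomology of `Z`
  have hH : ∀ j : ℤ, j ≠ δ →
      IsZero ((homologyFunctor (ModuleCat.{u} (B ⧸ J)) j).obj Z) := by
    intro j hj
    obtain ⟨E, -⟩ := exists_HD_coext_equiv J K h j
    have := h0 j hj
    have : Subsingleton (Dual.HD (B ⧸ J) Z j) := E.toEquiv.subsingleton
    exact ModuleCat.isZero_of_subsingleton _
  have hGE : Z.IsGE δ := (DerivedCategory.isGE_iff Z δ).2 (fun j hj => hH j (by omega))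
  have hLE : Z.IsLE δ := (DerivedCategory.isLE_iff Z δ).2 (fun j hj => hH j (by omega))
  obtain ⟨eZ⟩ := Groth.Agent.S0973.iso_single_of_amp Z δ
  -- `H^δ(Z) ≅ B/J`
  obtain ⟨E, hE⟩ := exists_HD_coext_equiv J K h δ
  obtain ⟨e1⟩ := h1
  let c : Dual.HD (B ⧸ J) Z δ ≃ₗ[B ⧸ J] (B ⧸ J) :=
    AddEquiv.toLinearEquiv (E.trans e1.toAddEquiv) (by
      intro f x
      obtain ⟨b, rfl⟩ := Ideal.Quotient.mk_surjective f
      change e1 (E (algebraMap B (B ⧸ J) b • x)) = _
      rw [hE, map_smul]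
      rfl)
  let eZ' : Z ≅ (singleFunctor (ModuleCat.{u} (B ⧸ J)) δ).obj (ModuleCat.of (B ⧸ J) (B ⧸ J)) :=
    eZ ≪≫ (singleFunctor (ModuleCat.{u} (B ⧸ J)) δ).mapIso c.toModuleIso
  let eZ'' : Z⟦δ⟧ ≅ Dual.inD (B ⧸ J) (B ⧸ J) :=
    (shiftFunctor (Dual.D (B ⧸ J)) δ).mapIso eZ' ≪≫
      ((singleFunctors (ModuleCat.{u} (B ⧸ J))).shiftIso δ 0 δ (add_zero δ)).app _
  let eZi : Z⟦i⟧ ≅ (Dual.inD (B ⧸ J) (B ⧸ J))⟦i - δ⟧ :=
    (shiftFunctorAdd' (Dual.D (B ⧸ J)) δ (i - δ) i (by omega)).app Z ≪≫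
      (shiftFunctor (Dual.D (B ⧸ J)) (i - δ)).mapIso eZ''
  obtain ⟨E', -⟩ := exists_hom_coext_equiv J K h N i
  have : Subsingleton (Dual.inD (B ⧸ J) N ⟶ Z⟦i⟧) :=
    subsingleton_hom_of_iso (Iso.refl _) eZi.symm hs
  exact E'.symm.toEquiv.subsingleton

end ChangeOfRings


section LocalFibre

variable {A B : Type u} [CommRing A] [CommRing B] [Algebra A B] [Module.Flat A B]
  [IsNoetherianRing A] [IsNoetherianRing B]

/-- **Bass numbers along a flat map with Gorenstein closed fibre**: if `Ext^j_A(A/I, ω)` vanishes for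
`j ≠ δ` and is `A/I` for `j = δ`, and `B/IB` is a Gorenstein local ring of dimension at most `e`, then
`Ext^i_B(N, ω ⊗ B) = 0` for `i > δ + e` and every `B`-module `N` killed by `IB`. -/
theorem subsingleton_hom_extD_of_gorenstein (ω : Dual.D A) (a : ℤ) (hGE : ω.IsGE a) (I : Ideal A)
    (δ : ℤ) (h0 : ∀ j : ℤ, j ≠ δ → Subsingleton (Dual.inD A (A ⧸ I) ⟶ ω⟦j⟧))
    (h1 : Nonempty ((Dual.inD A (A ⧸ I) ⟶ ω⟦δ⟧) ≃ₗ[A] (A ⧸ I)))
    (J : Ideal B) (hJ : J = I.map (algebraMap A B)) [hF : LocCoh.IsGorensteinLocalRing (B ⧸ J)]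
    (e : ℕ) (he : ringKrullDim (B ⧸ J) ≤ (e : WithBot ℕ∞))
    (N : Type u) [AddCommGroup N] [Module B N] (hN : Module.IsTorsionBySet B N J) (i : ℤ)
    (hi : δ + e < i) :
    Subsingleton (Dual.inD B N ⟶ ((extD A B).obj ω)⟦i⟧) := by
  subst hJ
  letI := hN.module
  haveI : IsScalarTower B (B ⧸ I.map (algebraMap A B)) N := hN.isScalarTower
  refine subsingleton_hom_of_quotient _ _ δ ?_ ?_ N i
    (subsingleton_hom_self (B ⧸ I.map (algebraMap A B)) e he N (i - δ) (by omega))
  · intro j hj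
    obtain ⟨E⟩ := nonempty_equiv_quot (B := B) ω a hGE I j
    have := h0 j hj
    exact E.toEquiv.subsingleton
  · obtain ⟨E⟩ := nonempty_equiv_quot (B := B) ω a hGE I δ
    obtain ⟨e1⟩ := h1
    exact ⟨E.trans ((TensorProduct.AlgebraTensorModule.congr (LinearEquiv.refl B B) e1).trans
      (Algebra.TensorProduct.quotIdealMapEquivTensorQuot B I).toLinearEquiv.symm)⟩

end LocalFibre


section Global

variable {A B : Type u} [CommRing A] [CommRing B] [Algebra A B] [Module.Flat A B]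
  [IsNoetherianRing B]

/-- local vanishing at a prime `Q` of `B` -/
theorem subsingleton_localized (ω : Dual.D A) (hω : Dual.IsDualizing A ω) (a b : ℤ)
    (hab : ∀ (M : Type u) [AddCommGroup M] [Module A M] (i : ℤ),
      (i < a ∨ b < i) → Subsingleton (Dual.inD A M ⟶ ω⟦i⟧))
    (Q : Ideal B) [hQ : Q.IsPrime] (e : ℕ)
    (hG : LocCoh.IsGorensteinLocalRing (EGA4.FibLocRing A B Q))
    (he : ringKrullDim (EGA4.FibLocRing A B Q) ≤ (e : WithBot ℕ∞)) (i : ℤ) (hi : b + e < i) :
    Subsingleton (Dual.inD (Localization.AtPrime Q) (LocalizedModule Q.primeCompl (B ⧸ Q)) ⟶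
      ((extD B (Localization.AtPrime Q)).obj ((extD A B).obj ω))⟦i⟧) := by
  have hNA := hω.isNoetherianRing
  obtain ⟨hGE, hLE⟩ := isGE_isLE_of_finiteInjDim ω a b hab
  haveI hlies : Q.LiesOver (Q.comap (algebraMap A B)) := ⟨rfl⟩
  letI alg := Localization.AtPrime.algebraOfLiesOver (Q.comap (algebraMap A B)) Q
  haveI hflatAp : Module.Flat A (Localization.AtPrime (Q.comap (algebraMap A B))) :=
    IsLocalization.flat _ (Q.comap (algebraMap A B)).primeCompl
  haveI hflatB : Module.Flat B (Localization.AtPrime Q) := IsLocalization.flat _ Q.primeCompl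
  haveI hflatA : Module.Flat A (Localization.AtPrime Q) := Module.Flat.trans A B _
  haveI hflat : Module.Flat (Localization.AtPrime (Q.comap (algebraMap A B)))
      (Localization.AtPrime Q) :=
    (Module.flat_iff_of_isLocalization (Localization.AtPrime (Q.comap (algebraMap A B)))
      (Q.comap (algebraMap A B)).primeCompl _).mpr hflatA
  haveI hNAp : IsNoetherianRing (Localization.AtPrime (Q.comap (algebraMap A B))) :=
    IsLocalization.isNoetherianRing (Q.comap (algebraMap A B)).primeCompl _ inferInstance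
  haveI hNBQ : IsNoetherianRing (Localization.AtPrime Q) :=
    IsLocalization.isNoetherianRing Q.primeCompl _ inferInstance
  -- the localized dualizing complex
  have hωp : Dual.IsDualizing (Localization.AtPrime (Q.comap (algebraMap A B)))
      ((extD A (Localization.AtPrime (Q.comap (algebraMap A B)))).obj ω) :=
    Groth.Agent.Lib.Seat8.MinPrime.isDualizing_extD_localization
      (Q.comap (algebraMap A B)).primeCompl ω hω
  have hGEp : ((extD A (Localization.AtPrime (Q.comap (algebraMap A B)))).obj ω).IsGE a :=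
    isGE_map (ext A _) ω a hGE
  obtain ⟨δ, h0, h1⟩ := Groth.Agent.S0364.result _ _ hωp
    (IsLocalRing.maximalIdeal (Localization.AtPrime (Q.comap (algebraMap A B))))
  have hmapeq : (Q.comap (algebraMap A B)).map
      (algebraMap A (Localization.AtPrime (Q.comap (algebraMap A B)))) =
      IsLocalRing.maximalIdeal (Localization.AtPrime (Q.comap (algebraMap A B))) :=
    IsLocalization.AtPrime.map_eq_maximalIdeal (Q.comap (algebraMap A B))
      (Localization.AtPrime (Q.comap (algebraMap A B)))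
  -- the bound `δ ≤ b`
  have hδ : δ ≤ b := by
    by_contra hlt
    push Not at hlt
    have h2 := hab (A ⧸ Q.comap (algebraMap A B)) δ (Or.inr hlt)
    obtain ⟨E⟩ := nonempty_equiv_quot
      (B := Localization.AtPrime (Q.comap (algebraMap A B))) ω a hGE (Q.comap (algebraMap A B)) δ
    have h3 : Subsingleton (Dual.inD (Localization.AtPrime (Q.comap (algebraMap A B)))
        (Localization.AtPrime (Q.comap (algebraMap A B)) ⧸ (Q.comap (algebraMap A B)).map
          (algebraMap A (Localization.AtPrime (Q.comap (algebraMap A B))))) ⟶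
        ((extD A (Localization.AtPrime (Q.comap (algebraMap A B)))).obj ω)⟦δ⟧) :=
      E.toEquiv.subsingleton
    rw [hmapeq] at h3
    obtain ⟨e1⟩ := h1
    have h4 : Subsingleton (Localization.AtPrime (Q.comap (algebraMap A B)) ⧸
        IsLocalRing.maximalIdeal (Localization.AtPrime (Q.comap (algebraMap A B)))) :=
      e1.symm.toEquiv.subsingleton
    exact not_subsingleton _ h4
  -- the torsion property
  have hJ : (Q.comap (algebraMap A B)).map (algebraMap A (Localization.AtPrime Q)) =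
      (IsLocalRing.maximalIdeal (Localization.AtPrime (Q.comap (algebraMap A B)))).map
        (algebraMap (Localization.AtPrime (Q.comap (algebraMap A B))) (Localization.AtPrime Q)) := by
    rw [← hmapeq, Ideal.map_map, ← IsScalarTower.algebraMap_eq]
  have hN : Module.IsTorsionBySet (Localization.AtPrime Q)
      (LocalizedModule Q.primeCompl (B ⧸ Q))
      ((Q.comap (algebraMap A B)).map (algebraMap A (Localization.AtPrime Q)) :
        Set (Localization.AtPrime Q)) := by
    rw [Ideal.map, ← Module.isTorsionBySet_iff_is_torsion_by_span]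
    rintro x ⟨_, ⟨r, hr, rfl⟩⟩
    induction x using LocalizedModule.induction_on with
    | h m s =>
      obtain ⟨y, rfl⟩ := Ideal.Quotient.mk_surjective m
      change algebraMap A (Localization.AtPrime Q) r • LocalizedModule.mk _ s = 0
      rw [IsScalarTower.algebraMap_apply A B (Localization.AtPrime Q), algebraMap_smul,
        LocalizedModule.smul'_mk]
      have : (algebraMap A B r) • (Ideal.Quotient.mk Q y) = 0 := by
        rw [Algebra.smul_def, Ideal.Quotient.algebraMap_eq, ← map_mul,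
          Ideal.Quotient.eq_zero_iff_mem]
        exact Q.mul_mem_right _ hr
      rw [this, LocalizedModule.zero_mk]
  have hmain := subsingleton_hom_extD_of_gorenstein
    (A := Localization.AtPrime (Q.comap (algebraMap A B))) (B := Localization.AtPrime Q)
    ((extD A (Localization.AtPrime (Q.comap (algebraMap A B)))).obj ω) a hGEp
    (IsLocalRing.maximalIdeal (Localization.AtPrime (Q.comap (algebraMap A B)))) δ h0 h1
    ((Q.comap (algebraMap A B)).map (algebraMap A (Localization.AtPrime Q))) hJ (hF := hG) e he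
    (LocalizedModule Q.primeCompl (B ⧸ Q)) hN i (by omega)
  exact subsingleton_hom_of_iso (Iso.refl _)
    ((shiftFunctor (Dual.D (Localization.AtPrime Q)) i).mapIso
      ((Groth.Agent.Lib.Seat90.ExtTower.extDComp A
          (Localization.AtPrime (Q.comap (algebraMap A B))) (Localization.AtPrime Q)).app ω ≪≫
        ((Groth.Agent.Lib.Seat90.ExtTower.extDComp A B (Localization.AtPrime Q)).app ω).symm))
    hmain


/-- **Ascent of dualizing complexes along a flat map with Gorenstein fibres of bounded dimension.** -/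
theorem isDualizing_extD_of_gorenstein_fibres (ω : Dual.D A) (hω : Dual.IsDualizing A ω) (e : ℕ)
    (hfib : ∀ (Q : Ideal B) [Q.IsPrime], LocCoh.IsGorensteinLocalRing (EGA4.FibLocRing A B Q) ∧
      ringKrullDim (EGA4.FibLocRing A B Q) ≤ (e : WithBot ℕ∞)) :
    Dual.IsDualizing B ((extD A B).obj ω) := by
  have := hω.isNoetherianRing
  obtain ⟨a, b, hab⟩ := hω.finite_injective_dimension
  obtain ⟨hGE, hLE⟩ := isGE_isLE_of_finiteInjDim ω a b hab
  have hGE' : ((extD A B).obj ω).IsGE a := isGE_map (ext A B) ω a hGE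
  have hfin' : ∀ i : ℤ, Module.Finite B (Dual.HD B ((extD A B).obj ω) i) := fun i => by
    have := hω.finite_cohomology i
    have h2 : Module.Finite B ((ext A B).obj
        ((DerivedCategory.homologyFunctor (ModuleCat.{u} A) i).obj ω)) :=
      Groth.Agent.Lib.Helper1.LDer.finite_bc (algebraMap A B) _
    exact Module.Finite.equiv (homologyMapDIso (ext A B) ω i).symm.toLinearEquiv
  refine Groth.Agent.Lib.Seat8.DualPoly.isDualizing_extD_of_injDim ω hω ⟨a, b + e, ?_⟩
  refine ((Groth.Agent.S6965.result B ((extD A B).obj ω) a (b + e)).out 2 1).1 ?_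
  intro J i hi
  rcases hi with hi | hi
  · have h1 : (Dual.inD B (B ⧸ J)).IsLE 0 := inferInstance
    have h2 : (((extD A B).obj ω)⟦i⟧).IsGE (a - i) :=
      DerivedCategory.TStructure.t.isGE_shift _ a i (a - i) (by omega)
    exact ⟨fun f g =>
      (DerivedCategory.TStructure.t.zero_of_isLE_of_isGE f 0 (a - i) (by omega) h1 h2).trans
      (DerivedCategory.TStructure.t.zero_of_isLE_of_isGE g 0 (a - i) (by omega) h1 h2).symm⟩
  · refine Groth.Agent.Lib.Seat8.Bass.bass ((extD A B).obj ω) a hGE' hfin' (b + e) ?_ J i hi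
    intro n hn i hi
    haveI : n.IsPrime := hn.isPrime
    obtain ⟨hG, he⟩ := hfib n
    have h4 := subsingleton_localized ω hω a b hab n e hG he i hi
    obtain ⟨E1⟩ := Groth.Agent.Lib.Seat8.PtwiseDual.nonempty_equiv_localizedModule n.primeCompl
      ((extD A B).obj ω) a hGE' (B ⧸ n) i
    have h5 : Subsingleton (LocalizedModule n.primeCompl
        (Dual.inD B (B ⧸ n) ⟶ ((extD A B).obj ω)⟦i⟧)) := E1.toEquiv.subsingleton
    have h6 : ∀ x : (Dual.inD B (B ⧸ n) ⟶ ((extD A B).obj ω)⟦i⟧), x = 0 := by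
      intro x
      have h7 : LocalizedModule.mk x (1 : n.primeCompl) = LocalizedModule.mk 0 (1 : n.primeCompl) :=
        Subsingleton.elim _ _
      obtain ⟨u, hu⟩ := LocalizedModule.mk_eq.1 h7
      rw [one_smul, one_smul, smul_zero] at hu
      obtain ⟨y, c, hc, hyc⟩ := hn.exists_inv u.2
      have h8 : x = (y * (u : B) + c) • x := by rw [hyc, one_smul]
      rw [h8, add_smul, mul_smul]
      have h9 : (u : B) • x = 0 := hu
      rw [h9, smul_zero, zero_add]
      exact Groth.Agent.Lib.Seat90.UnramAscent.smul_hom_eq_zero n _ c hc x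
    exact ⟨fun x y => (h6 x).trans (h6 y).symm⟩

end Global


section FiniteType

variable {A B : Type u} [CommRing A] [CommRing B] [Algebra A B]

/-- a finite type algebra over a Noetherian ring of finite dimension has finite dimension -/
theorem exists_ringKrullDim_le_of_finiteType [IsNoetherianRing A] [Algebra.FiniteType A B]
    (h : ringKrullDim A < ⊤) : ∃ e : ℕ, ringKrullDim B ≤ (e : WithBot ℕ∞) := by
  obtain ⟨d, hd⟩ : ∃ d : ℕ, ringKrullDim A ≤ (d : WithBot ℕ∞) := by
    rcases hx : ringKrullDim A with _ | x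
    · exact ⟨0, bot_le⟩
    · rw [hx] at h
      have hx' : x ≠ ⊤ := by
        rintro rfl
        exact absurd h (lt_irrefl _)
      obtain ⟨n, rfl⟩ := ENat.ne_top_iff_exists.mp hx'
      exact ⟨n, le_rfl⟩
  obtain ⟨n, f, hf⟩ := Algebra.FiniteType.iff_quotient_mvPolynomial''.mp
    (inferInstance : Algebra.FiniteType A B)
  refine ⟨d + n, ?_⟩
  have h1 : ringKrullDim B ≤ ringKrullDim (MvPolynomial (Fin n) A) :=
    ringKrullDim_le_of_surjective f.toRingHom hf
  have h2 : ringKrullDim (MvPolynomial (Fin n) A) = ringKrullDim A + (n : ℕ) := by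
    have := MvPolynomial.ringKrullDim_of_isNoetherianRing (R := A) (ι := Fin n)
    simpa using this
  rw [h2] at h1
  refine h1.trans ?_
  push_cast
  exact add_le_add_left hd _

variable [IsNoetherianRing A] [IsNoetherianRing B] [Module.Flat A B]

/-- **Ascent of dualizing complexes along a flat finite type map with Gorenstein fibres.** -/
theorem isDualizing_extD_of_finiteType_gorenstein [Algebra.FiniteType A B]
    (hG : ∀ (p : Ideal A) [p.IsPrime], LocCoh.IsGorensteinRing (p.Fiber B))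
    (ω : Dual.D A) (hω : Dual.IsDualizing A ω) :
    Dual.IsDualizing B ((extD A B).obj ω) := by
  obtain ⟨e, he⟩ := exists_ringKrullDim_le_of_finiteType (A := A) (B := B)
    (Groth.Agent.Lib.Seat8.DimFn2.ringKrullDim_lt_top ω hω)
  have hfib := Groth.Agent.Lib.Helper5.GorRing.forall_gor_fiber_iff.mp hG
  refine isDualizing_extD_of_gorenstein_fibres ω hω e (fun Q _ => ⟨hfib Q, ?_⟩)
  haveI := (hfib Q).toIsLocalRing
  have h1 := Groth.Agent.Lib.Helper28.height_eq_height_fibLocRing_add (A := A) Q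
  rw [← IsLocalRing.maximalIdeal_height_eq_ringKrullDim]
  have h2 : (IsLocalRing.maximalIdeal (EGA4.FibLocRing A B Q)).height ≤ Q.height := by
    rw [h1]; exact le_self_add
  exact (WithBot.coe_le_coe.mpr h2).trans (Ideal.height_le_ringKrullDim_of_isPrime.trans he)

end FiniteType

end Groth.Agent.Lib.Seat8.FibreBass
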