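import Mathlib
import Groth.Prelude.Def_DDual2
import Groth.Agent.Lib.Seat8DualFinite
import Groth.Agent.Lib.Seat8DualPoly
import Groth.Agent.Lib.Seat8MinPrime

set_option autoImplicit false
set_option linter.unusedSectionVars false
universe u
open CategoryTheory CategoryTheory.Limits

attribute [local instance] HasDerivedCategory.standard

namespace Groth.Agent.Lib.Seat8.HasDual

open Polynomial

/-- the ring `R` admits a dualizing complex -/
def HasDualizing (R : Type u) [CommRing R] : Prop := ∃ ω : Dual.D R, Dual.IsDualizing R ω

variable {A B : Type u} [CommRing A] [CommRing B]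

lemma hasDual_of_finite [Algebra A B] [Module.Finite A B] [IsNoetherianRing B] (h : HasDualizing A) :
    HasDualizing B := by
  obtain ⟨ω, hω⟩ := h
  obtain ⟨Z, ev, hZ⟩ := Groth.Agent.Lib.Seat8.DualFinite.exists_isCoext (B := B) ω hω
  exact ⟨Z, Groth.Agent.Lib.Seat8.DualFinite.isDualizing_of_isCoext ω hω Z ev hZ⟩

lemma hasDual_of_surjective (f : A →+* B) (hf : Function.Surjective f) (h : HasDualizing A) :
    HasDualizing B := by
  have := h.choose_spec.isNoetherianRing
  let _ := f.toAlgebra
  have : Module.Finite A B := Module.Finite.of_surjective (Algebra.linearMap A B) hf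
  have : IsNoetherianRing B := isNoetherianRing_of_surjective A B f hf
  exact hasDual_of_finite h

lemma hasDual_of_ringEquiv (e : A ≃+* B) (h : HasDualizing A) : HasDualizing B :=
  hasDual_of_surjective e.toRingHom e.surjective h

lemma hasDual_polynomial (h : HasDualizing A) : HasDualizing A[X] := by
  obtain ⟨ω, hω⟩ := h
  have := hω.isNoetherianRing
  exact ⟨_, Groth.Agent.Lib.Seat8.DualPoly.isDualizing_extD_polynomial ω hω⟩

lemma hasDual_mvPolynomial (h : HasDualizing A) (n : ℕ) : HasDualizing (MvPolynomial (Fin n) A) := by
  induction n with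
  | zero => exact hasDual_of_ringEquiv (MvPolynomial.isEmptyRingEquiv A (Fin 0)).symm h
  | succ n ih =>
    exact hasDual_of_ringEquiv (MvPolynomial.finSuccEquiv A n).toRingEquiv.symm
      (hasDual_polynomial ih)

lemma hasDual_localization (S : Submonoid A) (h : HasDualizing A) : HasDualizing (Localization S) := by
  obtain ⟨ω, hω⟩ := h
  have := hω.isNoetherianRing
  exact ⟨_, Groth.Agent.Lib.Seat8.MinPrime.isDualizing_extD_localization S ω hω⟩

lemma hasDual_of_isLocalization (S : Submonoid A) [Algebra A B] [IsLocalization S B]
    (h : HasDualizing A) : HasDualizing B :=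
  hasDual_of_ringEquiv (IsLocalization.algEquiv S (Localization S) B).toRingEquiv
    (hasDual_localization S h)

lemma hasDual_of_finiteType [Algebra A B] [Algebra.FiniteType A B] (h : HasDualizing A) : HasDualizing B := by
  obtain ⟨n, f, hf⟩ := Algebra.FiniteType.iff_quotient_mvPolynomial''.mp ‹Algebra.FiniteType A B›
  exact hasDual_of_surjective f.toRingHom hf (hasDual_mvPolynomial h n)

/-- **S0377**: algebras essentially of finite type over a ring with a dualizing complex have
dualizing complexes -/
theorem hasDual_of_essFiniteType [Algebra A B] [Algebra.EssFiniteType A B] (h : HasDualizing A) :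
    HasDualizing B := by
  have h1 : HasDualizing (Algebra.EssFiniteType.subalgebra A B) := hasDual_of_finiteType h
  exact hasDual_of_isLocalization (Algebra.EssFiniteType.submonoid A B) h1

end Groth.Agent.Lib.Seat8.HasDual
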