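import Mathlib
import Groth.Agent.Lib.Seat8Div
import Groth.Agent.Lib.Seat8SubStalk

/-!
# Associated primes of the local rings of a closed subscheme (seat 8)

Transfer of associated primes along a surjection, and the translation between associated primes of
`O_{X,x} ⧸ 𝓘_x` and points of the closed subscheme whose maximal ideal is associated.
-/

set_option autoImplicit false
universe u

open CategoryTheory Limits AlgebraicGeometry

namespace Groth.Agent.Lib.Seat8.NoEmb

/-- Associated primes of `R ⧸ ker φ` over `R` give associated primes of `R'` over itself, for a surjection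
`φ : R → R'`. -/
theorem isAssociatedPrime_of_surjective {R R' : Type*} [CommRing R] [CommRing R'] [IsNoetherianRing R]
    (φ : R →+* R') (hφ : Function.Surjective φ) (P' : Ideal R') [hP' : P'.IsPrime]
    (h : IsAssociatedPrime (P'.comap φ) (R ⧸ RingHom.ker φ)) : IsAssociatedPrime P' R' := by
  rw [isAssociatedPrime_iff] at h
  obtain ⟨-, x, hx⟩ := h
  obtain ⟨c, rfl⟩ := Ideal.Quotient.mk_surjective x
  refine ⟨hP', φ c, ?_⟩
  have hcolon : (Submodule.colon (⊥ : Submodule R' R') {φ c} : Ideal R') = P' := by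
    ext t
    obtain ⟨r, rfl⟩ := hφ t
    rw [Submodule.mem_colon_singleton, Submodule.mem_bot, smul_eq_mul, ← map_mul,
      ← RingHom.mem_ker, ← Ideal.mem_comap, hx, Submodule.mem_colon_singleton, Submodule.mem_bot]
    have e1 : r • (Ideal.Quotient.mk (RingHom.ker φ)) c =
      Ideal.Quotient.mk (RingHom.ker φ) (r * c) := rfl
    rw [e1, Ideal.Quotient.eq_zero_iff_mem]
  rw [hcolon]
  exact hP'.radical.symm

/-- The translation: under "no embedded points" (`h1`) and "maximal points have codimension one" (`h2`), every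
associated prime of `O_{X,x} ⧸ 𝓘_x` has height one. -/
theorem height_eq_one_of_isAssociatedPrime (X : Scheme.{u}) [IsLocallyNoetherian X]
    (𝓘 : X.IdealSheafData)
    (h1 : ∀ z : ↥𝓘.subscheme, IsAssociatedPrime
      (IsLocalRing.maximalIdeal ↑(𝓘.subscheme.presheaf.stalk z)) ↑(𝓘.subscheme.presheaf.stalk z) →
      ∀ z' : ↥𝓘.subscheme, z' ⤳ z → z' = z)
    (h2 : ∀ z : ↥𝓘.subscheme, (∀ z' : ↥𝓘.subscheme, z' ⤳ z → z' = z) →
      ringKrullDim (X.presheaf.stalk (𝓘.subschemeι z)) = 1)
    (x : X) (U : X.affineOpens) (hxU : x ∈ U.1)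
    (P : Ideal (X.presheaf.stalk x))
    (hP : IsAssociatedPrime P
      (X.presheaf.stalk x ⧸ (𝓘.ideal U).map (X.presheaf.germ U.1 x hxU).hom)) :
    P.height = 1 := by
  have hU : IsAffineOpen U.1 := U.2
  have hAN : IsNoetherianRing Γ(X, U.1) := IsLocallyNoetherian.component_noetherian U
  have hPp : P.IsPrime := hP.isPrime
  let _ : Algebra Γ(X, U.1) (X.presheaf.stalk x) :=
    TopCat.Presheaf.algebra_section_stalk X.presheaf (⟨x, hxU⟩ : U.1)
  have hloc : IsLocalization.AtPrime (X.presheaf.stalk x) (hU.primeIdealOf ⟨x, hxU⟩).asIdeal :=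
    hU.isLocalization_stalk ⟨x, hxU⟩
  -- step 1: the contraction `q` of `P` is an associated prime of `A ⧸ J`
  set J := 𝓘.ideal U with hJ
  set p := (hU.primeIdealOf ⟨x, hxU⟩).asIdeal.primeCompl with hp
  have hIeq : J.map (X.presheaf.germ U.1 x hxU).hom =
      Submodule.localized' (X.presheaf.stalk x) p
        (Algebra.linearMap Γ(X, U.1) (X.presheaf.stalk x)) J := by
    rw [Submodule.localized'_eq_span]
    rfl
  rw [hIeq] at hP
  have hq : IsAssociatedPrime (P.comap (algebraMap Γ(X, U.1) (X.presheaf.stalk x)))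
      (Γ(X, U.1) ⧸ J) :=
    Module.associatedPrimes.comap_mem_associatedPrimes_of_mem_associatedPrimes_of_isLocalizedModule_of_fg
      p (Submodule.toLocalizedQuotient' (X.presheaf.stalk x) p
        (Algebra.linearMap Γ(X, U.1) (X.presheaf.stalk x)) J) P hP
      ((isNoetherianRing_iff_ideal_fg _).mp hAN _)
  set q := P.comap (algebraMap Γ(X, U.1) (X.presheaf.stalk x)) with hqdef
  have hqp : q.IsPrime := hq.isPrime
  have hJq : J ≤ q := by
    refine le_trans (le_of_eq ?_) hq.annihilator_le
    rw [Submodule.annihilator_top]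
    exact (Ideal.annihilator_quotient).symm
  -- step 2: the point `y` of `q`
  obtain ⟨y, hyU, hy⟩ := Groth.Agent.Lib.Seat8.Div.exists_point_of_prime U q
  have hysupp : y ∈ 𝓘.support := by
    rw [Groth.Agent.Lib.Seat8.Div.mem_support_iff_le_primeIdealOf 𝓘 U y hyU, hy]
    exact hJq
  obtain ⟨z', rfl⟩ : y ∈ Set.range 𝓘.subschemeι := by
    rw [Scheme.IdealSheafData.range_subschemeι]; exact hysupp
  let _ : Algebra Γ(X, U.1) (X.presheaf.stalk (𝓘.subschemeι z')) :=
    TopCat.Presheaf.algebra_section_stalk X.presheaf (⟨𝓘.subschemeι z', hyU⟩ : U.1)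
  have hlocy : IsLocalization.AtPrime (X.presheaf.stalk (𝓘.subschemeι z'))
      (hU.primeIdealOf ⟨_, hyU⟩).asIdeal := hU.isLocalization_stalk ⟨_, hyU⟩
  set q' := (hU.primeIdealOf ⟨𝓘.subschemeι z', hyU⟩).asIdeal with hq'def
  have hq' : IsAssociatedPrime q' (Γ(X, U.1) ⧸ J) := by rw [hy]; exact hq
  -- step 4: the maximal ideal of `O_{X,y}` is associated to `O_{X,y} ⧸ J O_{X,y}`
  have hmax : IsAssociatedPrime (IsLocalRing.maximalIdeal (X.presheaf.stalk (𝓘.subschemeι z')))
      (X.presheaf.stalk (𝓘.subschemeι z') ⧸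
        Submodule.localized' (X.presheaf.stalk (𝓘.subschemeι z')) q'.primeCompl
        (Algebra.linearMap Γ(X, U.1) (X.presheaf.stalk (𝓘.subschemeι z'))) J) := by
    apply Module.associatedPrimes.mem_associatedPrimes_of_comap_mem_associatedPrimes_of_isLocalizedModule
      q'.primeCompl (Submodule.toLocalizedQuotient' (X.presheaf.stalk (𝓘.subschemeι z')) q'.primeCompl
        (Algebra.linearMap Γ(X, U.1) (X.presheaf.stalk (𝓘.subschemeι z'))) J)
    have hu := IsLocalization.AtPrime.under_maximalIdeal (X.presheaf.stalk (𝓘.subschemeι z')) q'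
    rw [Ideal.under_def] at hu
    rw [hu]
    exact hq'
  have hIeq' : Submodule.localized' (X.presheaf.stalk (𝓘.subschemeι z')) q'.primeCompl
        (Algebra.linearMap Γ(X, U.1) (X.presheaf.stalk (𝓘.subschemeι z'))) J =
      RingHom.ker (𝓘.subschemeι.stalkMap z').hom := by
    rw [Groth.Agent.Lib.Seat8.SubStalk.ker_stalkMap_subschemeι 𝓘 z' U hyU,
      Submodule.localized'_eq_span]
    rfl
  rw [hIeq'] at hmax
  -- step 5: transfer to the local ring of the subscheme
  have hcomap : (IsLocalRing.maximalIdeal (𝓘.subscheme.presheaf.stalk z')).comap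
      (𝓘.subschemeι.stalkMap z').hom =
      IsLocalRing.maximalIdeal (X.presheaf.stalk (𝓘.subschemeι z')) :=
    have : IsLocalHom (𝓘.subschemeι.stalkMap z').hom :=
      (Groth.Agent.Lib.Seat8.SubStalk.stalkMap_subschemeι_surjective 𝓘 z').isLocalHom
    IsLocalRing.maximalIdeal_comap (𝓘.subschemeι.stalkMap z').hom
  rw [← hcomap] at hmax
  have hZ := isAssociatedPrime_of_surjective (𝓘.subschemeι.stalkMap z').hom
    (Groth.Agent.Lib.Seat8.SubStalk.stalkMap_subschemeι_surjective 𝓘 z') _ hmax
  -- step 6: dimension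
  have hdim := h2 z' (h1 z' hZ)
  have h3 := IsLocalization.AtPrime.ringKrullDim_eq_height q' (X.presheaf.stalk (𝓘.subschemeι z'))
  rw [hdim] at h3
  have h4 : q'.height = 1 := by exact_mod_cast h3.symm
  rw [← IsLocalization.height_under p P]
  rw [hy] at h4
  exact h4

end Groth.Agent.Lib.Seat8.NoEmb
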