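import Mathlib
import Groth.Prelude.Def_CAlg
import Groth.Agent.Lib.Helper28DepthBC

/-!
# Serre's condition on a hypersurface of a local ring (seat 8)

If `A` is a Noetherian local ring, `g` a nonzerodivisor, and `φ : A → B` a surjection onto a local ring with kernel
`(g)`, then `depth B + 1 = depth A` and `dim B + 1 = dim A`; hence `(S_k)` for `A` at the closed point gives
`(S_{k-1})` for `B` at the closed point.
-/

set_option autoImplicit false
universe u

open Groth.Agent.Lib.Helper28
open scoped Pointwise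

namespace Groth.Agent.Lib.Seat8.SkDiv

variable {A B : Type u} [CommRing A] [CommRing B] [IsLocalRing A] [IsLocalRing B]
  [IsNoetherianRing A]

omit [IsNoetherianRing A] in
theorem mem_maximalIdeal_of_ker (φ : A →+* B) (g : A) (hker : RingHom.ker φ = Ideal.span {g}) :
    g ∈ IsLocalRing.maximalIdeal A := by
  rw [IsLocalRing.mem_maximalIdeal, mem_nonunits_iff]
  intro hu
  have h1 : φ g = 0 := by
    rw [← RingHom.mem_ker, hker]
    exact Ideal.mem_span_singleton_self g
  have h2 : IsUnit (φ g) := hu.map φ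
  rw [h1] at h2
  exact not_isUnit_zero h2

theorem depth_add_one (φ : A →+* B) (hφ : Function.Surjective φ) (g : A)
    (hg : g ∈ nonZeroDivisors A) (hker : RingHom.ker φ = Ideal.span {g}) :
    LocCoh.depth B B + 1 = LocCoh.depth A A := by
  have hgm := mem_maximalIdeal_of_ker φ g hker
  let _ : Algebra A B := φ.toAlgebra
  have : IsLocalHom (algebraMap A B) := by
    show IsLocalHom φ
    exact hφ.isLocalHom
  have : Module.Finite A B := Module.Finite.of_surjective (Algebra.linearMap A B) hφ
  have : IsNoetherianRing B := isNoetherianRing_of_surjective A B φ hφ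
  have h1 : LocCoh.depth A B = LocCoh.depth B B :=
    depth_eq_depth_of_isLocalHom_of_finite (A := A) (B := B) (M := B)
  -- `B ≃ₗ[A] QuotSMulTop g A`
  have hkerl : LinearMap.ker (Algebra.linearMap A B) = g • (⊤ : Submodule A A) := by
    ext a
    rw [LinearMap.mem_ker, Algebra.linearMap_apply]
    show φ a = 0 ↔ _
    rw [← RingHom.mem_ker, hker, Ideal.mem_span_singleton', Submodule.mem_smul_pointwise_iff_exists]
    constructor
    · rintro ⟨b, rfl⟩
      exact ⟨b, trivial, by simp [mul_comm]⟩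
    · rintro ⟨b, -, rfl⟩
      exact ⟨b, by simp [mul_comm]⟩
  let e : QuotSMulTop g A ≃ₗ[A] B :=
    (Submodule.quotEquivOfEq _ _ hkerl.symm).trans
      ((Algebra.linearMap A B).quotKerEquivOfSurjective hφ)
  have h2 : LocCoh.depth A (QuotSMulTop g A) = LocCoh.depth A B :=
    idealDepth_congr e _
  have hreg : IsSMulRegular A g := Module.Flat.isSMulRegular_of_nonZeroDivisors hg
  have hne : IsLocalRing.maximalIdeal A • (⊤ : Submodule A A) ≠ ⊤ := by
    rw [Ideal.smul_top_eq_map, Algebra.algebraMap_self, Ideal.map_id]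
    intro h
    have := congrArg (Submodule.restrictScalars A) h
    simp at this
    exact (IsLocalRing.maximalIdeal.isMaximal A).ne_top this
  have h3 := idealDepth_quotSMulTop_add_one (IsLocalRing.maximalIdeal A) A hne g hgm hreg
  unfold LocCoh.depth at h1 h2 ⊢
  rw [← h1, ← h2, h3]

theorem ringKrullDim_add_one (φ : A →+* B) (hφ : Function.Surjective φ) (g : A)
    (hg : g ∈ nonZeroDivisors A) (hker : RingHom.ker φ = Ideal.span {g}) :
    ringKrullDim B + 1 = ringKrullDim A := by
  have hgm := mem_maximalIdeal_of_ker φ g hker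
  rw [← ringKrullDim_quotient_span_singleton_succ_eq_ringKrullDim_of_mem_nonZeroDivisors hg hgm]
  congr 1
  exact (ringKrullDim_eq_of_ringEquiv
    ((Ideal.quotEquivOfEq hker.symm).trans (RingHom.quotientKerEquivOfSurjective hφ))).symm

theorem sk_pred (φ : A →+* B) (hφ : Function.Surjective φ) (g : A)
    (hg : g ∈ nonZeroDivisors A) (hker : RingHom.ker φ = Ideal.span {g}) (k : ℕ)
    (h : min (k : WithBot ℕ∞) (ringKrullDim A) ≤ ((LocCoh.depth A A : ℕ∞) : WithBot ℕ∞)) :
    min ((k - 1 : ℕ) : WithBot ℕ∞) (ringKrullDim B) ≤ ((LocCoh.depth B B : ℕ∞) : WithBot ℕ∞) := by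
  have hd := depth_add_one φ hφ g hg hker
  have hdim := ringKrullDim_add_one φ hφ g hg hker
  rcases Nat.eq_zero_or_pos k with rfl | hk
  · refine le_trans (min_le_left _ _) ?_
    simp only [zero_tsub, Nat.cast_zero]
    exact_mod_cast (bot_le : (0 : ℕ∞) ≤ LocCoh.depth B B)
  obtain ⟨k', rfl⟩ : ∃ k', k = k' + 1 := ⟨k - 1, by omega⟩
  simp only [add_tsub_cancel_right]
  have hnn : (0 : WithBot ℕ∞) ≤ ringKrullDim B := ringKrullDim_nonneg_of_nontrivial
  obtain ⟨e, he⟩ : ∃ e : ℕ∞, ringKrullDim B = (e : WithBot ℕ∞) := by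
    cases hB : ringKrullDim B using WithBot.recBotCoe with
    | bot => rw [hB] at hnn; simp at hnn
    | coe e => exact ⟨e, rfl⟩
  rw [← hd, ← hdim, he] at h
  rw [he]
  have h' : min ((k' : ℕ∞) + 1) (e + 1) ≤ LocCoh.depth B B + 1 := by
    have : (((min ((k' : ℕ∞) + 1) (e + 1) : ℕ∞)) : WithBot ℕ∞) ≤
        ((LocCoh.depth B B + 1 : ℕ∞) : WithBot ℕ∞) := by
      refine le_trans (le_of_eq ?_) h
      push_cast
      rfl
    exact_mod_cast this
  rw [min_add_add_right] at h'
  by_cases htop : LocCoh.depth B B = ⊤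
  · rw [htop]; exact le_top
  have h'' : min (k' : ℕ∞) e ≤ LocCoh.depth B B :=
    (ENat.add_le_add_iff_right ENat.one_ne_top).mp h'
  have : ((min (k' : ℕ∞) e : ℕ∞) : WithBot ℕ∞) ≤ ((LocCoh.depth B B : ℕ∞) : WithBot ℕ∞) := by
    exact_mod_cast h''
  refine le_trans (le_of_eq ?_) this
  push_cast
  rfl

end Groth.Agent.Lib.Seat8.SkDiv
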