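import Mathlib

/-!
# Unmixed height one ideals in a Noetherian UFD are principal (seat 8)

If `S` is a Noetherian unique factorisation domain and `I` a nonzero ideal all of whose associated primes
(of `S ⧸ I`) have height one, then `I` is principal.
-/

set_option autoImplicit false
universe u

namespace Groth.Agent.Lib.Seat8.UFDPrincipal

variable {S : Type u} [CommRing S] [IsDomain S] [IsNoetherianRing S] [UniqueFactorizationMonoid S]

omit [IsDomain S] [UniqueFactorizationMonoid S] in
/-- Associated primes of `S ⧸ (I : π)` are associated primes of `S ⧸ I`. -/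
theorem isAssociatedPrime_quotient_colon (I : Ideal S) (π : S) (P : Ideal S)
    (hP : IsAssociatedPrime P (S ⧸ (Submodule.colon I {π} : Ideal S))) :
    IsAssociatedPrime P (S ⧸ I) := by
  rw [isAssociatedPrime_iff] at hP ⊢
  obtain ⟨hPp, x, hx⟩ := hP
  obtain ⟨c, rfl⟩ := Ideal.Quotient.mk_surjective x
  refine ⟨hPp, Ideal.Quotient.mk I (π * c), ?_⟩
  rw [hx]
  ext r
  rw [Submodule.mem_colon_singleton, Submodule.mem_colon_singleton, Submodule.mem_bot,
    Submodule.mem_bot]
  have e1 : r • (Ideal.Quotient.mk (Submodule.colon I {π} : Ideal S)) c =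
      Ideal.Quotient.mk (Submodule.colon I {π} : Ideal S) (r * c) := rfl
  have e2 : r • (Ideal.Quotient.mk I) (π * c) = Ideal.Quotient.mk I (r * (π * c)) := rfl
  rw [e1, e2, Ideal.Quotient.eq_zero_iff_mem, Ideal.Quotient.eq_zero_iff_mem,
    Submodule.mem_colon_singleton, smul_eq_mul]
  constructor <;> intro h <;> convert h using 1 <;> ring

theorem isPrincipal_of_forall_height_eq_one :
    ∀ I : Ideal S, I ≠ ⊥ → (∀ P : Ideal S, IsAssociatedPrime P (S ⧸ I) → P.height = 1) →
      I.IsPrincipal := by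
  intro I
  refine WellFoundedGT.induction (motive := fun I : Ideal S => I ≠ ⊥ →
    (∀ P : Ideal S, IsAssociatedPrime P (S ⧸ I) → P.height = 1) → I.IsPrincipal) I ?_
  intro I ih hI h
  by_cases htop : I = ⊤
  · subst htop
    exact ⟨⟨1, by simp⟩⟩
  have : Nontrivial (S ⧸ I) := Ideal.Quotient.nontrivial_iff.mpr htop
  obtain ⟨Q, hQ⟩ := associatedPrimes.nonempty S (S ⧸ I)
  have hQ1 := h Q hQ
  have hQp : Q.IsPrime := hQ.isPrime
  obtain ⟨π, hπ⟩ := UniqueFactorizationMonoid.isPrincipal_of_height_eq_one hQ1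
  have hIQ : I ≤ Q := by
    refine le_trans (le_of_eq ?_) hQ.annihilator_le
    rw [Submodule.annihilator_top]
    exact (Ideal.annihilator_quotient).symm
  have hπnu : ¬ IsUnit π := by
    intro hu
    apply hQp.ne_top
    rw [hπ]
    exact Ideal.span_singleton_eq_top.mpr hu
  set I₁ : Ideal S := Submodule.colon I {π} with hI₁
  have hle : I ≤ I₁ := by
    intro a ha
    rw [hI₁, Submodule.mem_colon_singleton]
    exact I.mul_mem_right π ha
  have heq : I = Ideal.span {π} * I₁ := by
    apply le_antisymm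
    · intro a ha
      have haQ := hIQ ha
      rw [hπ, Ideal.submodule_span_eq, Ideal.mem_span_singleton'] at haQ
      obtain ⟨b, rfl⟩ := haQ
      have hb : b ∈ I₁ := by
        rw [hI₁, Submodule.mem_colon_singleton]
        exact ha
      rw [mul_comm b π]
      exact Ideal.mul_mem_mul (Ideal.mem_span_singleton_self π) hb
    · rw [Ideal.span_singleton_mul_le_iff]
      intro s hs
      rw [hI₁, Submodule.mem_colon_singleton] at hs
      simpa [mul_comm] using hs
  have hne : I₁ ≠ I := by
    intro h1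
    rw [h1] at heq
    obtain ⟨r, hr1, hr2⟩ := Submodule.exists_sub_one_mem_and_smul_eq_zero_of_fg_of_le_smul
      (Ideal.span {π}) I (IsNoetherian.noetherian I) (le_of_eq heq)
    obtain ⟨n, hnI, hn0⟩ := Submodule.exists_mem_ne_zero_of_ne_bot hI
    have hrn := hr2 n hnI
    rw [smul_eq_mul, mul_eq_zero] at hrn
    have hr0 : r = 0 := hrn.resolve_right hn0
    rw [hr0, zero_sub, neg_mem_iff] at hr1
    exact hπnu (Ideal.span_singleton_eq_top.mp ((Ideal.eq_top_iff_one _).mpr hr1))
  have hlt : I < I₁ := lt_of_le_of_ne hle (Ne.symm hne)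
  have hI₁ne : I₁ ≠ ⊥ := fun h0 => hI (le_bot_iff.mp (h0 ▸ hle))
  obtain ⟨g, hg⟩ := ih I₁ hlt hI₁ne (fun P hP => h P (isAssociatedPrime_quotient_colon I π P hP))
  refine ⟨⟨π * g, ?_⟩⟩
  rw [heq]
  conv_lhs => rw [hg]
  rw [Ideal.submodule_span_eq, Ideal.span_singleton_mul_span_singleton]

end Groth.Agent.Lib.Seat8.UFDPrincipal
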