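import Mathlib.RingTheory.Etale.StandardEtale
import Mathlib.FieldTheory.IsAlgClosed.AlgebraicClosure
import Mathlib.RingTheory.Spectrum.Prime.RingHom
import Mathlib.RingTheory.LocalRing.ResidueField.Ideal

/-!
# Artin–Schreier coverings, algebraic part (seat 90)

For a commutative ring `A` in which the prime `p` is zero and `a : A`, the algebra
`A[T]/(T^p - T - a)` is (standard) étale over `A`, the class of `T` satisfies `T^p - T = a`, and
`Spec` of it surjects onto `Spec A`.
-/

set_option autoImplicit false
universe u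

open Polynomial

namespace Groth.Agent.Lib.Seat90.ASAlg

variable {A : Type u} [CommRing A]

theorem monic_as (p : ℕ) (hp : 1 < p) (a : A) : (X ^ p - X - C a : A[X]).Monic := by
  nontriviality A
  have h1 : (X ^ p - X - C a : A[X]) = X ^ p - (X + C a) := by ring
  rw [h1]
  apply Polynomial.monic_X_pow_sub
  calc (X + C a : A[X]).degree = 1 := degree_X_add_C a
    _ < p := by exact_mod_cast hp

/-- The standard étale pair `(T^p - T - a, 1)`. -/
noncomputable def pair (p : ℕ) (hp : 1 < p) (h0 : (p : A) = 0) (a : A) :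
    StandardEtalePair A where
  f := X ^ p - X - C a
  monic_f := monic_as p hp a
  g := 1
  cond := by
    refine ⟨-1, 0, 1, ?_⟩
    have hC : (C (p : A) : A[X]) = 0 := by rw [h0, C_0]
    simp only [derivative_sub, derivative_X_pow, derivative_X, derivative_C, sub_zero, mul_zero,
      add_zero, pow_one]
    rw [hC, zero_mul]
    ring

variable (p : ℕ) (hp : 1 < p) (h0 : (p : A) = 0) (a : A)

/-- The class of `T` in `A[T]/(T^p - T - a)` satisfies `T^p - T = a`. -/
theorem X_pow_sub : (pair p hp h0 a).X ^ p - (pair p hp h0 a).X =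
    algebraMap A (pair p hp h0 a).Ring a := by
  have h : aeval (pair p hp h0 a).X (X ^ p - X - C a) = 0 := ((pair p hp h0 a).hasMap_X).1
  simp only [map_sub, map_pow, aeval_X, aeval_C] at h
  exact sub_eq_zero.mp h

/-- `Spec A[T]/(T^p - T - a) → Spec A` is surjective. -/
theorem comap_surjective :
    Function.Surjective (PrimeSpectrum.comap (algebraMap A (pair p hp h0 a).Ring)) := by
  intro q
  let κ := q.asIdeal.ResidueField
  let Kb := AlgebraicClosure κ
  let φ : A →+* Kb := (algebraMap κ Kb).comp (algebraMap A κ)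
  let _ : Algebra A Kb := φ.toAlgebra
  have hdeg : (X ^ p - X - C (φ a) : Kb[X]).degree ≠ 0 := by
    have h1 : (X ^ p - X - C (φ a) : Kb[X]) = X ^ p - (X + C (φ a)) := by ring
    have h2 : (X + C (φ a) : Kb[X]).degree < (X ^ p : Kb[X]).degree := by
      rw [degree_X_add_C, degree_X_pow]
      exact_mod_cast hp
    rw [h1, degree_sub_eq_left_of_degree_lt h2, degree_X_pow]
    exact_mod_cast (by omega : p ≠ 0)
  obtain ⟨x, hx⟩ := IsAlgClosed.exists_root (X ^ p - X - C (φ a) : Kb[X]) hdeg
  have hmap : (pair p hp h0 a).HasMap x := by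
    refine ⟨?_, ?_⟩
    · change aeval x (X ^ p - X - C a) = 0
      simp only [map_sub, map_pow, aeval_X, aeval_C]
      have := hx
      simp only [IsRoot.def, eval_sub, eval_pow, eval_X, eval_C] at this
      exact this
    · change IsUnit (aeval x (1 : A[X]))
      simp
  let ψ : (pair p hp h0 a).Ring →ₐ[A] Kb := (pair p hp h0 a).lift x hmap
  refine ⟨⟨RingHom.ker ψ.toRingHom, RingHom.ker_isPrime _⟩, ?_⟩
  ext b
  simp only [PrimeSpectrum.comap_asIdeal, Ideal.mem_comap, RingHom.mem_ker]
  change ψ (algebraMap A _ b) = 0 ↔ _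
  rw [ψ.commutes]
  change (algebraMap κ Kb) (algebraMap A κ b) = 0 ↔ _
  rw [map_eq_zero_iff _ (algebraMap κ Kb).injective, Ideal.algebraMap_residueField_eq_zero]

end Groth.Agent.Lib.Seat90.ASAlg
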