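import Groth.Prelude.Def_W4c5etcohweilstudentAS
import Groth.Agent.Lib.Seat14Kummer
import Groth.Agent.Lib.Seat90ASAlg
import Mathlib.CategoryTheory.Sites.LocallySurjective

set_option autoImplicit false
universe u
open CategoryTheory CategoryTheory.Limits AlgebraicGeometry Opposite

namespace Groth.Agent.Lib.Seat90.AS

open Groth.Agent.Lib.Seat14.Kummer Groth.Agent.Lib.Seat90

set_option backward.isDefEq.respectTransparency.types false in
theorem as_isLocallySurjective (X : Scheme.{u}) (p : ℕ) (hp : p.Prime) (h0 : (p : Γ(X, ⊤)) = 0) :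
    Sheaf.IsLocallySurjective (W4c5etcohweilstudent.artinSchreierEndo X p hp h0) := by
  constructor
  intro U s
  rw [mem_smallEtale_iff]
  intro x
  let 𝒰 := U.left.affineOpenCover
  obtain ⟨y, hy⟩ := 𝒰.covers x
  let R : CommRingCat.{u} := 𝒰.X (𝒰.idx x)
  let j : Spec R ⟶ U.left := 𝒰.f (𝒰.idx x)
  let a : Γ(U.left, ⊤) := ULift.down s
  let aR : R := (j.appTop ≫ (Scheme.ΓSpecIso R).hom).hom a
  have h0U : (p : Γ(U.left, ⊤)) = 0 := W4c5etcohweilstudent.natCast_eq_zero_etale p h0 U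
  have h0R : (p : R) = 0 := by
    have := congrArg (j.appTop ≫ (Scheme.ΓSpecIso R).hom).hom h0U
    simpa using this
  let P := ASAlg.pair p hp.one_lt h0R aR
  let B : CommRingCat.{u} := CommRingCat.of P.Ring
  let φ : R ⟶ B := CommRingCat.ofHom (algebraMap R P.Ring)
  have : Etale (Spec.map φ) := by
    rw [HasRingHomProperty.Spec_iff (P := @Etale)]
    exact RingHom.etale_algebraMap.mpr inferInstance
  let g₀ : Spec B ⟶ U.left := Spec.map φ ≫ j
  let W : X.Etale := Scheme.Etale.mk (g₀ ≫ U.hom)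
  let g : W ⟶ U := MorphismProperty.Over.homMk g₀ rfl trivial
  obtain ⟨q, hq⟩ := ASAlg.comap_surjective p hp.one_lt h0R aR y
  refine ⟨W, g, q, ?_, ?_⟩
  · let tB : Γ(Spec B, ⊤) := (Scheme.ΓSpecIso B).inv.hom P.X
    refine ⟨ULift.up tB, ?_⟩
    change (ULift.up (tB ^ p - tB) : ULift.{u+1} Γ(Spec B, ⊤)) = ULift.up (g₀.appTop.hom a)
    congr 1
    change ((Scheme.ΓSpecIso B).inv.hom P.X) ^ p - (Scheme.ΓSpecIso B).inv.hom P.X = _
    rw [← map_pow, ← map_sub, ASAlg.X_pow_sub]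
    change ((Scheme.ΓSpecIso B).inv.hom (φ.hom ((Scheme.ΓSpecIso R).hom.hom (j.appTop.hom a)))) = _
    have h1 : g₀.appTop = j.appTop ≫ (Spec.map φ).appTop := by
      simp [g₀]
    have h2 := Scheme.ΓSpecIso_naturality φ
    have h3 : (Spec.map φ).appTop = (Scheme.ΓSpecIso R).hom ≫ φ ≫ (Scheme.ΓSpecIso B).inv := by
      rw [← Category.assoc, ← h2, Category.assoc, Iso.hom_inv_id, Category.comp_id]
    rw [h1, h3]
    rfl
  · change (Spec.map φ ≫ j) q = x
    rw [Scheme.Hom.comp_apply]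
    have : (Spec.map φ) q = y := hq
    rw [this, hy]

theorem as_epi (X : Scheme.{u}) (p : ℕ) (hp : p.Prime) (h0 : (p : Γ(X, ⊤)) = 0) :
    Epi (W4c5etcohweilstudent.artinSchreierEndo X p hp h0) := by
  have := as_isLocallySurjective X p hp h0
  exact Sheaf.epi_of_isLocallySurjective _

end Groth.Agent.Lib.Seat90.AS
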