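import Mathlib
import Groth.Prelude
import Groth.Agent.Lib.Seat8DimFn4
import Groth.Agent.Lib.Helper28Hartshorne
import Groth.Agent.Lib.Helper5CodepthOpen

/-!
# A local `(S_2)` ring with a dualizing complex is equidimensional (seat 90)

Uses Hartshorne's connectedness lemma (`Helper28Hartshorne`) and the dimension function `deg` of the
dualizing complex (`Seat8DimFn`).
-/

set_option autoImplicit false
set_option linter.unusedSectionVars false
universe u
open CategoryTheory CategoryTheory.Limits Pretriangulated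

attribute [local instance] HasDerivedCategory.standard

namespace Groth.Agent.Lib.Seat90.S2Equidim

open DerivedCategory Groth.Agent.Lib.Seat8.DimFn Groth.Agent.Lib.Seat8.DimFn2
  Groth.Agent.Lib.Seat8.DimFn3 Groth.Agent.Lib.Seat8.DimFn4

section Local

variable {A : Type u} [CommRing A] [IsLocalRing A] [IsNoetherianRing A]
  (ω : Dual.D A) (hω : Dual.IsDualizing A ω) (hn : Dual.IsNormalized A ω)

include hn in
/-- there is a minimal prime `q` with `deg q = -dim A` -/
theorem exists_minimal_deg_eq (n : ℕ) (hd : ringKrullDim A = n) :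
    ∃ (q : Ideal A) (_ : q ∈ minimalPrimes A) (hqp : q.IsPrime), deg ω hω ⟨q, hqp⟩ = -(n : ℤ) := by
  obtain ⟨l, hl⟩ : ∃ l : LTSeries (PrimeSpectrum A), l.length = n := by
    have h1 : ((n : ℕ) : WithBot ℕ∞) ≤ Order.krullDim (PrimeSpectrum A) := by
      change _ ≤ ringKrullDim A
      rw [hd]
    exact Order.le_krullDim_iff.mp h1
  obtain ⟨q, hq, hle⟩ := Ideal.exists_minimalPrimes_le (bot_le : (⊥ : Ideal A) ≤ l.head.asIdeal)
  have hqp : q.IsPrime := hq.1.1
  refine ⟨q, hq, hqp, ?_⟩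
  have h1 := add_length_le (deg ω hω) (deg_strictMono ω hω) l
  have h2 := deg_le_zero ω hω hn l.last
  have h3 : deg ω hω ⟨q, hqp⟩ ≤ deg ω hω l.head :=
    (deg_strictMono ω hω).monotone (show (⟨q, hqp⟩ : PrimeSpectrum A) ≤ l.head from hle)
  have h4 := ringKrullDim_quotient_eq ω hω hn ⟨q, hqp⟩
  have h5 : ringKrullDim (A ⧸ q) ≤ ringKrullDim A := ringKrullDim_quotient_le q
  change ringKrullDim (A ⧸ q) = _ at h4
  rw [h4, hd] at h5
  have h6 : (-deg ω hω ⟨q, hqp⟩).toNat ≤ n := by exact_mod_cast h5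
  have h7 := deg_le_zero ω hω hn ⟨q, hqp⟩
  omega

include hn in
/-- a Noetherian local ring with a dualizing complex which satisfies `(S_2)` is equidimensional:
all minimal primes have the same degree -/
theorem deg_eq_of_minimal_of_hasSk_two (n : ℕ) (hd : ringKrullDim A = n)
    (hS : LocCoh.HasSk 2 A A) (q : Ideal A) (hq : q ∈ minimalPrimes A) (hqp : q.IsPrime) :
    deg ω hω ⟨q, hqp⟩ = -(n : ℤ) := by
  classical
  by_contra hbad
  have hfin : (minimalPrimes A).Finite := minimalPrimes.finite_of_isNoetherianRing A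
  let good : Ideal A → Prop := fun r => ∃ hr : r.IsPrime, deg ω hω ⟨r, hr⟩ = -(n : ℤ)
  let F1 : Finset (Ideal A) := hfin.toFinset.filter good
  let F2 : Finset (Ideal A) := hfin.toFinset.filter (fun r => ¬ good r)
  have hmemF1 : ∀ r, r ∈ F1 ↔ r ∈ minimalPrimes A ∧ good r := by
    intro r
    simp [F1]
  have hmemF2 : ∀ r, r ∈ F2 ↔ r ∈ minimalPrimes A ∧ ¬ good r := by
    intro r
    simp [F2]
  obtain ⟨q1, hq1, hq1p, hq1deg⟩ := exists_minimal_deg_eq ω hω hn n hd
  have hq1F : q1 ∈ F1 := (hmemF1 q1).mpr ⟨hq1, hq1p, hq1deg⟩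
  have hqF : q ∈ F2 := (hmemF2 q).mpr ⟨hq, fun ⟨_, h⟩ => hbad h⟩
  have hI : F1.inf id ≤ IsLocalRing.maximalIdeal A :=
    (Finset.inf_le (f := id) hq1F).trans (IsLocalRing.le_maximalIdeal hq1p.ne_top)
  have hJ : F2.inf id ≤ IsLocalRing.maximalIdeal A :=
    (Finset.inf_le (f := id) hqF).trans (IsLocalRing.le_maximalIdeal hqp.ne_top)
  obtain ⟨P, hPmin, -⟩ := Ideal.exists_minimalPrimes_le (sup_le hI hJ)
  have hPp : P.IsPrime := hPmin.1.1
  have hdepth := Groth.Agent.Lib.Helper28.not_two_le_depth_of_mem_minimalPrimes_sup_inf F1 F2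
    (fun r hr => by
      by_cases hg : good r
      · exact Or.inl ((hmemF1 r).mpr ⟨hr, hg⟩)
      · exact Or.inr ((hmemF2 r).mpr ⟨hr, hg⟩))
    (fun r hr => ((hmemF1 r).mp hr).1) (fun r hr => ((hmemF2 r).mp hr).1)
    (fun r h1 h2 => ((hmemF2 r).mp h2).2 ((hmemF1 r).mp h1).2) P hPmin
  -- `(S_2)` at `P` gives `ht P ≤ 1`
  have hSP := hS P
  obtain ⟨e1, e2⟩ := Groth.Agent.Lib.Helper5.CodepthOpen.dep_dm_self (A := A) P
  change LocCoh.depth (Localization.AtPrime P) (LocalizedModule P.primeCompl A) = _ at e1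
  change Module.supportDim (Localization.AtPrime P) (LocalizedModule P.primeCompl A) = _ at e2
  rw [e1, e2, Module.supportDim_self_eq_ringKrullDim,
    IsLocalization.AtPrime.ringKrullDim_eq_height P (Localization.AtPrime P)] at hSP
  have hht : P.height < 2 := by
    rw [not_le] at hdepth
    rw [min_le_iff] at hSP
    rcases hSP with h | h
    · have h' : ((2 : ℕ∞) : WithBot ℕ∞) ≤
          ((LocCoh.depth (Localization.AtPrime P) (Localization.AtPrime P) : ℕ∞) : WithBot ℕ∞) := h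
      exact absurd (WithBot.coe_le_coe.mp h') (not_le.mpr hdepth)
    · have : P.height ≤ LocCoh.depth (Localization.AtPrime P) (Localization.AtPrime P) := by
        exact_mod_cast h
      exact lt_of_le_of_lt this hdepth
  -- the two minimal primes below `P`
  obtain ⟨r1, hr1F, hr1P⟩ := (Ideal.IsPrime.inf_le' hPp).mp (le_sup_left.trans hPmin.1.2)
  obtain ⟨r2, hr2F, hr2P⟩ := (Ideal.IsPrime.inf_le' hPp).mp (le_sup_right.trans hPmin.1.2)
  obtain ⟨hr1min, hr1p, hr1deg⟩ := (hmemF1 r1).mp hr1F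
  obtain ⟨hr2min, hr2bad⟩ := (hmemF2 r2).mp hr2F
  have hr2p : r2.IsPrime := hr2min.1.1
  have hne : r1 ≠ r2 := by
    rintro rfl
    exact hr2bad ⟨hr1p, hr1deg⟩
  have hcov : ∀ (r : Ideal A) (hrmin : r ∈ minimalPrimes A) (hrp : r.IsPrime), r ≤ P → r ≠ P →
      (⟨r, hrp⟩ : PrimeSpectrum A) ⋖ ⟨P, hPp⟩ := by
    intro r hrmin hrp hrP hrne
    refine ⟨lt_of_le_of_ne hrP (fun h => hrne (congrArg PrimeSpectrum.asIdeal h)), ?_⟩
    intro s hrs hsP
    have hs := s.2
    have h1 : r.height < s.asIdeal.height :=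
      Ideal.height_strict_mono_of_isPrime ((PrimeSpectrum.asIdeal_lt_asIdeal _ _).mpr hrs)
    have h2 : s.asIdeal.height < P.height :=
      Ideal.height_strict_mono_of_isPrime ((PrimeSpectrum.asIdeal_lt_asIdeal _ _).mpr hsP)
    have h3 : (1 : ℕ∞) ≤ s.asIdeal.height := Order.one_le_iff_pos.mpr (lt_of_le_of_lt bot_le h1)
    have h4 : s.asIdeal.height + 1 ≤ P.height := Order.add_one_le_of_lt h2
    have h5 : (2 : ℕ∞) ≤ P.height := by
      calc (2 : ℕ∞) = 1 + 1 := by norm_num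
        _ ≤ s.asIdeal.height + 1 := add_le_add h3 le_rfl
        _ ≤ P.height := h4
    exact absurd h5 (not_le.mpr hht)
  have hr1ne : r1 ≠ P := by
    rintro rfl
    -- `r2 ≤ r1` with `r1` minimal forces `r1 = r2`
    have : r1 ≤ r2 := hr1min.2 ⟨hr2p, bot_le⟩ hr2P
    exact hne (le_antisymm this hr2P)
  have hr2ne : r2 ≠ P := by
    rintro rfl
    have : r2 ≤ r1 := hr2min.2 ⟨hr1p, bot_le⟩ hr1P
    exact hne (le_antisymm hr1P this)
  have hc1 := deg_covBy ω hω _ _ (hcov r1 hr1min hr1p hr1P hr1ne)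
  have hc2 := deg_covBy ω hω _ _ (hcov r2 hr2min hr2p hr2P hr2ne)
  exact hr2bad ⟨hr2p, by omega⟩

include hω hn in
/-- a Noetherian local ring with a dualizing complex which satisfies `(S_2)` is equidimensional -/
theorem isEquidim_of_hasSk_two (n : ℕ) (hd : ringKrullDim A = n)
    (hS : LocCoh.HasSk 2 A A) : EGA4.IsEquidim A := by
  intro q hq
  have hqp : q.IsPrime := hq.1.1
  have h1 := deg_eq_of_minimal_of_hasSk_two ω hω hn n hd hS q hq hqp
  have h2 := ringKrullDim_quotient_eq ω hω hn ⟨q, hqp⟩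
  change ringKrullDim (A ⧸ q) = _ at h2
  rw [h2, hd, h1]
  simp

end Local

end Groth.Agent.Lib.Seat90.S2Equidim
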