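import Mathlib
import Groth.Prelude
import Groth.Agent.Lib.Seat8CMLocus
import Groth.Agent.S0366
import Groth.Agent.S0367
import Groth.Agent.S19859

/-!
# Serre's condition `(S_k)` in terms of the supports of `Ext^i(M, ω)` (seat 90)

* `core`: over a Noetherian local ring with normalized dualizing complex, for a nonzero finite module
  `N` of depth `t` and dimension `d`: `Ext^{-t}(N, ω) ≠ 0`, `Ext^{-d}(N, ω) ≠ 0`, and
  `Ext^c(N, ω) ≠ 0 → -d ≤ c ≤ -t`.
* `sk_local_iff`: the local form of the `(S_k)` criterion.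
* `hasSk_iff`: the global form.
-/

set_option autoImplicit false
set_option linter.unusedSectionVars false
universe u
open CategoryTheory CategoryTheory.Limits Pretriangulated

attribute [local instance] HasDerivedCategory.standard

namespace Groth.Agent.Lib.Seat90.SkExt

open DerivedCategory Groth.Agent.Lib.Seat8.DimFn Groth.Agent.Lib.Seat8.DimFn2
  Groth.Agent.Lib.Seat8.DimFn3 Groth.Agent.Lib.Seat8.DimFn4 Groth.Agent.Lib.Seat8.DualShift
  Groth.Agent.Lib.Helper1.Extend

section Core

variable {B : Type u} [CommRing B] [IsLocalRing B] [IsNoetherianRing B]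
  (ω : Dual.D B) (hω : Dual.IsDualizing B ω) (hn : Dual.IsNormalized B ω)

include hω hn in
/-- depth, dimension and the range of nonvanishing of `Ext^c(N, ω)` -/
theorem core (N : Type u) [AddCommGroup N] [Module B N] [Module.Finite B N] [Nontrivial N] :
    ∃ t d : ℕ, LocCoh.depth B N = t ∧ Module.supportDim B N = d ∧
      Nontrivial (Dual.inD B N ⟶ ω⟦(-(t : ℤ))⟧) ∧ Nontrivial (Dual.inD B N ⟶ ω⟦(-(d : ℤ))⟧) ∧
      ∀ c : ℤ, Nontrivial (Dual.inD B N ⟶ ω⟦c⟧) → -(d : ℤ) ≤ c ∧ c ≤ -(t : ℤ) := by
  obtain ⟨d, hd⟩ := Groth.Agent.Lib.Helper28.exists_natCast_eq_supportDim (R := B) (M := N)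
  have hIM : IsLocalRing.maximalIdeal B • (⊤ : Submodule B N) ≠ ⊤ :=
    Groth.Agent.Lib.Helper28.maximalIdeal_smul_top_ne_top
  have hne : LocCoh.depth B N ≠ ⊤ := Groth.Agent.Lib.Helper28.idealDepth_ne_top hIM
  obtain ⟨t, ht⟩ := ENat.ne_top_iff_exists.mp hne
  obtain ⟨hsub, hnt⟩ := (Groth.Agent.S0367.result B ω hω hn N t).mp ht.symm
  have hntd := Groth.Agent.S19859.result B ω hω hn N d hd
  refine ⟨t, d, ht.symm, hd, hnt, hntd, fun c hc => ?_⟩
  obtain ⟨h1, h2⟩ := (Groth.Agent.S0366.result B ω hω hn N d hd c).1 hc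
  refine ⟨h1, ?_⟩
  by_contra hlt
  have hδ : (-c).toNat < t := by omega
  have hs := hsub (-c).toNat hδ
  have hcc : (-(((-c).toNat : ℕ) : ℤ)) = c := by omega
  rw [hcc] at hs
  exact not_subsingleton _ hs

include hω hn in
/-- the local form of the `(S_k)` criterion -/
theorem sk_local_iff (N : Type u) [AddCommGroup N] [Module B N] [Module.Finite B N]
    (k : ℕ) (hk : 1 ≤ k) :
    min (k : WithBot ℕ∞) (Module.supportDim B N) ≤ ((LocCoh.depth B N : ℕ∞) : WithBot ℕ∞) ↔
      ∀ i j : ℤ, j < i → Nontrivial (Dual.inD B N ⟶ ω⟦i⟧) → Nontrivial (Dual.inD B N ⟶ ω⟦j⟧) →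
        ((((k : ℤ) + i - j).toNat : ℕ) : WithBot ℕ∞) ≤ Module.supportDim B N := by
  by_cases hN : Subsingleton N
  · constructor
    · intro _ i j _ hi _
      have := Groth.Agent.Lib.Seat8.DimDual.subsingleton_hom_of_subsingleton (A := B) N (ω⟦i⟧)
      exact absurd this (not_subsingleton _)
    · intro _
      have : Module.supportDim B N = ⊥ := Module.supportDim_eq_bot_of_subsingleton B N
      rw [this]
      simp
  · have hN' := not_subsingleton_iff_nontrivial.mp hN
    obtain ⟨t, d, ht, hd, hnt, hntd, hc⟩ := core ω hω hn N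
    rw [ht, hd]
    have htd : t ≤ d := by
      have := (hc _ hnt).1
      omega
    constructor
    · intro h i j hji hi hj
      have h' : min k d ≤ t := by
        rw [min_le_iff] at h ⊢
        rcases h with h | h
        · left
          exact_mod_cast h
        · right
          exact_mod_cast h
      obtain ⟨-, hi2⟩ := hc i hi
      obtain ⟨hj1, -⟩ := hc j hj
      have hkt : k ≤ t := by
        rcases le_total k d with hkd | hkd
        · rwa [min_eq_left hkd] at h'
        · rw [min_eq_right hkd] at h'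
          omega
      have : ((k : ℤ) + i - j).toNat ≤ d := by omega
      exact_mod_cast this
    · intro h
      have h' : min k d ≤ t := by
        rcases eq_or_lt_of_le htd with heq | hlt
        · rw [heq]
          exact min_le_right _ _
        · have h2 := h (-(t : ℤ)) (-(d : ℤ)) (by omega) hnt hntd
          have h3 : ((k : ℤ) + -(t : ℤ) - -(d : ℤ)).toNat ≤ d := by exact_mod_cast h2
          have : k ≤ t := by omega
          exact (min_le_left _ _).trans this
      rw [min_le_iff] at h' ⊢
      rcases h' with h' | h'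
      · left
        exact_mod_cast h'
      · right
        exact_mod_cast h'

end Core

section Global

variable {A : Type u} [CommRing A] [IsNoetherianRing A]
  (ω : Dual.D A) (hω : Dual.IsDualizing A ω)
  (M : Type u) [AddCommGroup M] [Module A M] [Module.Finite A M]

include hω in
/-- `(S_k)` for `M` in terms of the codimension of `Supp Ext^i(M, ω) ∩ Supp Ext^j(M, ω)` -/
theorem hasSk_iff (k : ℕ) (hk : 1 ≤ k) :
    LocCoh.HasSk k A M ↔
      ∀ (i j : ℤ), j < i → ∀ p : PrimeSpectrum A,
        p ∈ Module.support A (Dual.inD A M ⟶ ω⟦i⟧) → p ∈ Module.support A (Dual.inD A M ⟶ ω⟦j⟧) →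
          (((k : ℤ) + i - j).toNat : WithBot ℕ∞) ≤
            Module.supportDim (Localization.AtPrime p.asIdeal)
              (LocalizedModule p.asIdeal.primeCompl M) := by
  constructor
  · intro h i j hji p hi hj
    obtain ⟨h1, h2⟩ := isDualizing_isNormalized_atPrime ω hω p
    have hNoeth := h1.isNoetherianRing
    rw [Groth.Agent.Lib.Seat8.CMLocus.mem_support_iff ω hω M] at hi hj
    have hloc := (sk_local_iff _ h1 h2 (LocalizedModule p.asIdeal.primeCompl M) k hk).mp
      (h p.asIdeal) (i - deg ω hω p) (j - deg ω hω p) (by omega) hi hj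
    have e : (k : ℤ) + (i - deg ω hω p) - (j - deg ω hω p) = (k : ℤ) + i - j := by ring
    rw [e] at hloc
    exact hloc
  · intro h p hp
    let P : PrimeSpectrum A := ⟨p, hp⟩
    obtain ⟨h1, h2⟩ := isDualizing_isNormalized_atPrime ω hω P
    have hNoeth := h1.isNoetherianRing
    refine (sk_local_iff _ h1 h2 (LocalizedModule p.primeCompl M) k hk).mpr ?_
    intro i j hji hi hj
    have e1 : i = (i + deg ω hω P) - deg ω hω P := by ring
    have e2 : j = (j + deg ω hω P) - deg ω hω P := by ring
    rw [e1] at hi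
    rw [e2] at hj
    have := h (i + deg ω hω P) (j + deg ω hω P) (by omega) P
      ((Groth.Agent.Lib.Seat8.CMLocus.mem_support_iff ω hω M P _).mpr hi)
      ((Groth.Agent.Lib.Seat8.CMLocus.mem_support_iff ω hω M P _).mpr hj)
    have e : (k : ℤ) + (i + deg ω hω P) - (j + deg ω hω P) = (k : ℤ) + i - j := by ring
    rw [e] at this
    exact this

end Global

end Groth.Agent.Lib.Seat90.SkExt
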