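import Mathlib
import Groth.Prelude
import Groth.Agent.Lib.Seat90SkExt

/-!
# `(S_k)` for equidimensional modules via `dim Supp Ext^j(M, ω)` (seat 90)

* `mem_support_deg_of_minimal`: a minimal prime `q` of `Supp M` lies in `Supp Ext^{deg q}(M, ω)`.
* `mem_support_neg_delta`: over a local ring with normalized `ω`, for `M` equidimensional of
  dimension `δ`, `Supp M ⊆ Supp Ext^{-δ}(M, ω)`.
* `supportDim_localized`: `dim M_p = δ + deg p` for `p ∈ Supp M`.
* `hasSk_iff_of_equidim`: the criterion.
-/

set_option autoImplicit false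
set_option linter.unusedSectionVars false
universe u
open CategoryTheory CategoryTheory.Limits Pretriangulated

attribute [local instance] HasDerivedCategory.standard

namespace Groth.Agent.Lib.Seat90.SkEquidim

open DerivedCategory Groth.Agent.Lib.Seat8.DimFn Groth.Agent.Lib.Seat8.DimFn2
  Groth.Agent.Lib.Seat8.DimFn3 Groth.Agent.Lib.Seat8.DimFn4 Groth.Agent.Lib.Seat8.DualShift
  Groth.Agent.Lib.Helper1.Extend Groth.Agent.Lib.Seat90.SkExt

section General

variable {A : Type u} [CommRing A] [IsNoetherianRing A]
  (ω : Dual.D A) (hω : Dual.IsDualizing A ω)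
  (M : Type u) [AddCommGroup M] [Module A M] [Module.Finite A M]

include hω in
/-- a minimal prime `q` of the support of `M` lies in the support of `Ext^{deg q}(M, ω)` -/
theorem mem_support_deg_of_minimal (q : Ideal A)
    (hq : q ∈ (Module.annihilator A M).minimalPrimes) (hqp : q.IsPrime) :
    (⟨q, hqp⟩ : PrimeSpectrum A) ∈
      Module.support A (Dual.inD A M ⟶ ω⟦deg ω hω ⟨q, hqp⟩⟧) := by
  have hqass : q ∈ associatedPrimes A M :=
    Module.associatedPrimes.minimalPrimes_annihilator_subset_associatedPrimes A M hq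
  have hdepth : LocCoh.depth (Localization.AtPrime q) (LocalizedModule q.primeCompl M) = 0 :=
    Groth.Agent.Lib.Helper5.depth_eq_zero_iff_maximalIdeal_mem_associatedPrimes.mpr
      ((Groth.Agent.Lib.Helper28.maximalIdeal_mem_associatedPrimes_localization_iff q).mpr hqass)
  obtain ⟨h1, h2⟩ := isDualizing_isNormalized_atPrime ω hω ⟨q, hqp⟩
  have hNoeth := h1.isNoetherianRing
  have hsupp : (⟨q, hqp⟩ : PrimeSpectrum A) ∈ Module.support A M :=
    Module.mem_support_iff_of_finite.mpr hq.1.2
  have hnt : Nontrivial (LocalizedModule q.primeCompl M) := Module.mem_support_iff.mp hsupp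
  obtain ⟨-, hnt0⟩ := (Groth.Agent.S0367.result _ _ h1 h2
    (LocalizedModule q.primeCompl M) 0).mp (by rw [hdepth]; rfl)
  rw [Groth.Agent.Lib.Seat8.CMLocus.mem_support_iff ω hω M]
  have e : deg ω hω ⟨q, hqp⟩ - deg ω hω ⟨q, hqp⟩ = -((0 : ℕ) : ℤ) := by simp
  rw [e]
  exact hnt0

include hω in
/-- a nonzero `Ext` module of `p ∈ Supp`: the quotient `A/p` has dimension at most that of the
support -/
theorem ringKrullDim_quotient_le_of_mem_support (i : ℤ) (p : PrimeSpectrum A)
    (hp : p ∈ Module.support A (Dual.inD A M ⟶ ω⟦i⟧)) :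
    ringKrullDim (A ⧸ p.asIdeal) ≤ Module.supportDim A (Dual.inD A M ⟶ ω⟦i⟧) := by
  have := Groth.Agent.Lib.Seat8.CMLocus.finite_ext ω hω M i
  rw [Module.supportDim_eq_ringKrullDim_quotient_annihilator]
  exact ringKrullDim_le_of_surjective
    (Ideal.Quotient.factor (Module.annihilator_le_of_mem_support hp))
    (Ideal.Quotient.factor_surjective _)

end General

section Local

variable {A : Type u} [CommRing A] [IsLocalRing A] [IsNoetherianRing A]
  (ω : Dual.D A) (hω : Dual.IsDualizing A ω) (hn : Dual.IsNormalized A ω)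
  (M : Type u) [AddCommGroup M] [Module A M] [Module.Finite A M]
  (hM : EGA4.IsEquidimModule A M) (δ : ℕ) (hδ : Module.supportDim A M = δ)

include hω hn hM hδ in
theorem deg_eq_of_minimal (q : Ideal A)
    (hq : q ∈ (Module.annihilator A M).minimalPrimes) (hqp : q.IsPrime) :
    deg ω hω ⟨q, hqp⟩ = -(δ : ℤ) := by
  have h1 := ringKrullDim_quotient_eq ω hω hn ⟨q, hqp⟩
  have h2 := hM q hq
  rw [hδ] at h2
  change ringKrullDim (A ⧸ q) = _ at h1
  rw [h1] at h2
  have h3 : (-deg ω hω ⟨q, hqp⟩).toNat = δ := by exact_mod_cast h2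
  have h4 := deg_le_zero ω hω hn ⟨q, hqp⟩
  omega

include hω hn hM hδ in
/-- `Supp M ⊆ Supp Ext^{-δ}(M, ω)` -/
theorem mem_support_neg_delta (p : PrimeSpectrum A) (hp : p ∈ Module.support A M) :
    p ∈ Module.support A (Dual.inD A M ⟶ ω⟦(-(δ : ℤ))⟧) := by
  have hann : Module.annihilator A M ≤ p.asIdeal := Module.mem_support_iff_of_finite.mp hp
  obtain ⟨q, hq, hle⟩ := Ideal.exists_minimalPrimes_le hann
  have hqp : q.IsPrime := hq.1.1
  have h1 := mem_support_deg_of_minimal ω hω M q hq hqp
  rw [deg_eq_of_minimal ω hω hn M hM δ hδ q hq hqp] at h1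
  exact Module.mem_support_mono (show (⟨q, hqp⟩ : PrimeSpectrum A) ≤ p from hle) h1

include hω hn hM hδ in
/-- the dimension formula `dim M_p = δ + deg p` (with `deg p = - dim A/p`), together with the
depth and the `Ext` nonvanishing range at `p` -/
theorem local_data (p : PrimeSpectrum A) (hp : p ∈ Module.support A M) :
    ∃ t d : ℕ, LocCoh.depth (Localization.AtPrime p.asIdeal)
        (LocalizedModule p.asIdeal.primeCompl M) = t ∧
      Module.supportDim (Localization.AtPrime p.asIdeal)
        (LocalizedModule p.asIdeal.primeCompl M) = d ∧ (d : ℤ) = δ + deg ω hω p ∧ t ≤ d ∧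
      p ∈ Module.support A (Dual.inD A M ⟶ ω⟦(-(t : ℤ) + deg ω hω p)⟧) ∧
      ∀ j : ℤ, p ∈ Module.support A (Dual.inD A M ⟶ ω⟦j⟧) →
        -(d : ℤ) ≤ j - deg ω hω p ∧ j - deg ω hω p ≤ -(t : ℤ) := by
  obtain ⟨h1, h2⟩ := isDualizing_isNormalized_atPrime ω hω p
  have hNoeth := h1.isNoetherianRing
  have hnt : Nontrivial (LocalizedModule p.asIdeal.primeCompl M) := Module.mem_support_iff.mp hp
  obtain ⟨t, d, ht, hd, hntt, hntd, hc⟩ := core _ h1 h2 (LocalizedModule p.asIdeal.primeCompl M)
  have htd : t ≤ d := by
    have := (hc _ hntt).1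
    omega
  refine ⟨t, d, ht, hd, ?_, htd, ?_, fun j hj => ?_⟩
  · -- the dimension formula
    have hge : -(d : ℤ) ≤ -(δ : ℤ) - deg ω hω p := by
      have := mem_support_neg_delta ω hω hn M hM δ hδ p hp
      rw [Groth.Agent.Lib.Seat8.CMLocus.mem_support_iff ω hω M] at this
      exact (hc _ this).1
    have hle : -(δ : ℤ) ≤ -(d : ℤ) + deg ω hω p := by
      have e : -(d : ℤ) = (-(d : ℤ) + deg ω hω p) - deg ω hω p := by ring
      rw [e] at hntd
      have hmem := (Groth.Agent.Lib.Seat8.CMLocus.mem_support_iff ω hω M p _).mpr hntd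
      have hnt' : Nontrivial (Dual.inD A M ⟶ ω⟦(-(d : ℤ) + deg ω hω p)⟧) := by
        by_contra h
        rw [not_nontrivial_iff_subsingleton] at h
        rw [Module.support_eq_empty] at hmem
        exact hmem
      exact ((Groth.Agent.S0366.result A ω hω hn M δ hδ _).1 hnt').1
    omega
  · have e : -(t : ℤ) = (-(t : ℤ) + deg ω hω p) - deg ω hω p := by ring
    rw [e] at hntt
    exact (Groth.Agent.Lib.Seat8.CMLocus.mem_support_iff ω hω M p _).mpr hntt
  · rw [Groth.Agent.Lib.Seat8.CMLocus.mem_support_iff ω hω M] at hj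
    exact hc _ hj

include hω hn hM hδ in
/-- `(S_k)` for an equidimensional module of dimension `δ`: `dim Supp Ext^j(M, ω) ≤ -j - k` for
`j ≠ -δ`. -/
theorem hasSk_iff_of_equidim (k : ℕ) (hk : 1 ≤ k) :
    LocCoh.HasSk k A M ↔
      ∀ j : ℤ, j ≠ -(δ : ℤ) →
        (-j - (k : ℤ) < 0 → Subsingleton (Dual.inD A M ⟶ ω⟦j⟧)) ∧
        (0 ≤ -j - (k : ℤ) → Module.supportDim A (Dual.inD A M ⟶ ω⟦j⟧) ≤
          ((-j - (k : ℤ)).toNat : WithBot ℕ∞)) := by
  constructor
  · intro h j hj
    -- the key claim
    have claim : ∀ p : PrimeSpectrum A, p ∈ Module.support A (Dual.inD A M ⟶ ω⟦j⟧) →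
        j + k ≤ deg ω hω p := by
      intro p hpj
      have hpM : p ∈ Module.support A M := by
        by_contra hpM
        rw [Module.notMem_support_iff] at hpM
        obtain ⟨h1, h2⟩ := isDualizing_isNormalized_atPrime ω hω p
        rw [Groth.Agent.Lib.Seat8.CMLocus.mem_support_iff ω hω M] at hpj
        have := Groth.Agent.Lib.Seat8.DimDual.subsingleton_hom_of_subsingleton
          (A := Localization.AtPrime p.asIdeal) (LocalizedModule p.asIdeal.primeCompl M)
          ((((extD A (Localization.AtPrime p.asIdeal)).obj ω)⟦deg ω hω p⟧)⟦j - deg ω hω p⟧)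
        exact not_subsingleton _ this
      obtain ⟨t, d, ht, hd, hdδ, htd, -, hrange⟩ := local_data ω hω hn M hM δ hδ p hpM
      obtain ⟨hr1, hr2⟩ := hrange j hpj
      have hS := h p.asIdeal
      rw [ht, hd] at hS
      have hS' : k ≤ t ∨ d ≤ t := by
        rw [min_le_iff] at hS
        rcases hS with hS | hS
        · left
          exact_mod_cast hS
        · right
          exact_mod_cast hS
      rcases hS' with hS' | hS'
      · omega
      · exfalso
        apply hj
        omega
    constructor
    · intro hneg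
      by_contra hns
      rw [not_subsingleton_iff_nontrivial] at hns
      obtain ⟨p, hp⟩ := Module.nonempty_support_of_nontrivial (R := A)
        (M := (Dual.inD A M ⟶ ω⟦j⟧))
      have h1 := claim p hp
      have h2 := deg_le_zero ω hω hn p
      omega
    · intro hpos
      unfold Module.supportDim Order.krullDim
      refine iSup_le fun l => ?_
      let l' : LTSeries (PrimeSpectrum A) := l.map Subtype.val (fun _ _ h => h)
      have h1 : (l'.length : ℕ∞) ≤ Order.coheight l'.head := Order.length_le_coheight_head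
      rw [coheight_eq ω hω hn] at h1
      have h2 : j + k ≤ deg ω hω l'.head := claim _ (by
        change (l.head).val ∈ _
        exact l.head.2)
      have h3 : l'.length ≤ (-deg ω hω l'.head).toNat := by exact_mod_cast h1
      have h4 : l.length ≤ (-j - (k : ℤ)).toNat := by
        have : l'.length = l.length := rfl
        omega
      exact_mod_cast h4
  · intro h p hp
    let P : PrimeSpectrum A := ⟨p, hp⟩
    by_cases hpM : P ∈ Module.support A M
    · obtain ⟨t, d, ht, hd, hdδ, htd, hmem, -⟩ := local_data ω hω hn M hM δ hδ P hpM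
      change LocCoh.depth (Localization.AtPrime p) (LocalizedModule p.primeCompl M) = t at ht
      change Module.supportDim (Localization.AtPrime p) (LocalizedModule p.primeCompl M) = d at hd
      rw [ht, hd]
      have h' : k ≤ t ∨ d ≤ t := by
        rcases eq_or_lt_of_le htd with heq | hlt
        · right
          omega
        · left
          have hjne : -(t : ℤ) + deg ω hω P ≠ -(δ : ℤ) := by omega
          obtain ⟨hA, hB⟩ := h _ hjne
          by_cases hneg : -(-(t : ℤ) + deg ω hω P) - (k : ℤ) < 0
          · have := hA hneg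
            rw [Module.support_eq_empty] at hmem
            exact absurd hmem (Set.notMem_empty _)
          · rw [not_lt] at hneg
            have h1 := hB hneg
            have h2 := ringKrullDim_quotient_le_of_mem_support ω hω M _ P hmem
            rw [ringKrullDim_quotient_eq ω hω hn P] at h2
            have h3 : (-deg ω hω P).toNat ≤ (-(-(t : ℤ) + deg ω hω P) - (k : ℤ)).toNat := by
              exact_mod_cast h2.trans h1
            have h4 := deg_le_zero ω hω hn P
            omega
      rw [min_le_iff]
      rcases h' with h' | h'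
      · left
        exact_mod_cast h'
      · right
        exact_mod_cast h'
    · rw [Module.notMem_support_iff] at hpM
      have : Module.supportDim (Localization.AtPrime p) (LocalizedModule p.primeCompl M) = ⊥ :=
        Module.supportDim_eq_bot_of_subsingleton _ _
      rw [this]
      simp

end Local

end Groth.Agent.Lib.Seat90.SkEquidim
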