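import Mathlib
import Groth.Prelude
import Groth.Agent.Lib.Seat90SkEquidim
import Groth.Agent.Lib.Seat8PtwiseDual
import Groth.Agent.Lib.Helper28DepthCM

/-!
# `(S_k)` for equidimensional modules, global form (seat 90)

Same as `Seat90SkEquidim`, but over a (not necessarily local) Noetherian ring with a dualizing complex
`ω` whose degree function vanishes at every maximal ideal.
-/

set_option autoImplicit false
set_option linter.unusedSectionVars false
universe u
open CategoryTheory CategoryTheory.Limits Pretriangulated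

attribute [local instance] HasDerivedCategory.standard

namespace Groth.Agent.Lib.Seat90.SkEquidimG

open DerivedCategory Groth.Agent.Lib.Seat8.DimFn Groth.Agent.Lib.Seat8.DimFn2
  Groth.Agent.Lib.Seat8.DimFn4 Groth.Agent.Lib.Seat8.DualShift
  Groth.Agent.Lib.Helper1.Extend Groth.Agent.Lib.Seat90.SkExt Groth.Agent.Lib.Seat90.SkEquidim

section Deg

variable {A : Type u} [CommRing A] [IsNoetherianRing A]
  (ω : Dual.D A) (hω : Dual.IsDualizing A ω)

/-- if `ω` is normalized at the maximal ideal `m` then `deg m = 0` -/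
theorem deg_eq_zero_of_normalized (m : PrimeSpectrum A)
    (hnorm : ∀ i : ℤ, i ≠ 0 → Subsingleton (Dual.inD A (A ⧸ m.asIdeal) ⟶ ω⟦i⟧)) :
    deg ω hω m = 0 := by
  by_contra h
  have hsub := hnorm _ h
  have hnt := (deg_spec ω hω m _).mpr rfl
  have hmem : m ∈ Module.support A (Dual.inD A (A ⧸ m.asIdeal) ⟶ ω⟦deg ω hω m⟧) :=
    Module.mem_support_iff.mpr hnt
  rw [Module.support_eq_empty] at hmem
  exact hmem

variable (hmax : ∀ m : PrimeSpectrum A, m.asIdeal.IsMaximal → deg ω hω m = 0)

include hmax in
theorem deg_le_zero (p : PrimeSpectrum A) : deg ω hω p ≤ 0 := by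
  obtain ⟨m, hm, hpm⟩ := Ideal.exists_le_maximal p.asIdeal p.2.ne_top
  rw [← hmax ⟨m, hm.isPrime⟩ hm]
  exact (deg_strictMono ω hω).monotone (show p ≤ ⟨m, hm.isPrime⟩ from hpm)

include hmax in
theorem exists_series (n : ℕ) : ∀ r : PrimeSpectrum A, deg ω hω r = -(n : ℤ) →
    ∃ l : LTSeries (PrimeSpectrum A), l.length = n ∧ l.head = r := by
  have h2 := wellFoundedLT_primeSpectrum (A := A)
  have h3 : IsStronglyAtomic (PrimeSpectrum A) := IsStronglyAtomic.of_wellFounded_lt h2.wf
  induction n with
  | zero =>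
    intro r _
    exact ⟨RelSeries.singleton _ r, rfl, rfl⟩
  | succ n ih =>
    intro r hr
    obtain ⟨m, hm, hrm⟩ := Ideal.exists_le_maximal r.asIdeal r.2.ne_top
    have hne : r ≠ ⟨m, hm.isPrime⟩ := by
      rintro rfl
      rw [hmax _ hm] at hr
      push_cast at hr
      omega
    have hlt : r < ⟨m, hm.isPrime⟩ := lt_of_le_of_ne (show r ≤ ⟨m, hm.isPrime⟩ from hrm) hne
    obtain ⟨r', hcov, -⟩ := exists_covBy_le_of_lt hlt
    have hd := deg_covBy ω hω r r' hcov
    obtain ⟨l, hl, hhead⟩ := ih r' (by push_cast at hr; omega)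
    refine ⟨l.cons r (by rw [hhead]; exact hcov.lt), ?_, ?_⟩
    · simp [hl]
    · simp

include hmax in
theorem coheight_eq (p : PrimeSpectrum A) :
    Order.coheight p = (((-deg ω hω p).toNat : ℕ) : ℕ∞) := by
  have hle := deg_le_zero ω hω hmax p
  apply le_antisymm
  · rw [Order.coheight_le_iff']
    intro l hl
    have h1 := Groth.Agent.Lib.Seat8.DimFn3.add_length_le (deg ω hω) (deg_strictMono ω hω) l
    have h2 := deg_le_zero ω hω hmax l.last
    rw [hl] at h1
    have : l.length ≤ (-deg ω hω p).toNat := by omega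
    exact_mod_cast this
  · obtain ⟨l, hl, hhead⟩ := exists_series ω hω hmax (-deg ω hω p).toNat p (by
      rw [Int.toNat_of_nonneg (by omega)]
      ring)
    have := Order.length_le_coheight (x := p) (p := l) (by rw [hhead])
    rw [hl] at this
    exact this

include hmax in
/-- `deg p = - dim A/p` -/
theorem ringKrullDim_quotient_eq (p : PrimeSpectrum A) :
    ringKrullDim (A ⧸ p.asIdeal) = (((-deg ω hω p).toNat : ℕ) : WithBot ℕ∞) := by
  have hIci : PrimeSpectrum.zeroLocus (p.asIdeal : Set A) = Set.Ici p := by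
    ext q
    rw [PrimeSpectrum.mem_zeroLocus, Set.mem_Ici]
    exact PrimeSpectrum.asIdeal_le_asIdeal p q
  rw [ringKrullDim_quotient, hIci, ← Order.coheight_eq_krullDim_Ici, coheight_eq ω hω hmax]
  rfl

end Deg

section Main

variable {A : Type u} [CommRing A] [IsNoetherianRing A]
  (ω : Dual.D A) (hω : Dual.IsDualizing A ω)
  (hmax : ∀ m : PrimeSpectrum A, m.asIdeal.IsMaximal → deg ω hω m = 0)
  (M : Type u) [AddCommGroup M] [Module A M] [Module.Finite A M]
  (hM : EGA4.IsEquidimModule A M) (δ : ℕ) (hδ : Module.supportDim A M = δ)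

include hω hmax hM hδ in
theorem deg_eq_of_minimal (q : Ideal A)
    (hq : q ∈ (Module.annihilator A M).minimalPrimes) (hqp : q.IsPrime) :
    deg ω hω ⟨q, hqp⟩ = -(δ : ℤ) := by
  have h1 := ringKrullDim_quotient_eq ω hω hmax ⟨q, hqp⟩
  have h2 := hM q hq
  rw [hδ] at h2
  change ringKrullDim (A ⧸ q) = _ at h1
  rw [h1] at h2
  have h3 : (-deg ω hω ⟨q, hqp⟩).toNat = δ := by exact_mod_cast h2
  have h4 := deg_le_zero ω hω hmax ⟨q, hqp⟩
  omega

include hω hmax hM hδ in
/-- `Supp M ⊆ Supp Ext^{-δ}(M, ω)` -/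
theorem mem_support_neg_delta (p : PrimeSpectrum A) (hp : p ∈ Module.support A M) :
    p ∈ Module.support A (Dual.inD A M ⟶ ω⟦(-(δ : ℤ))⟧) := by
  have hann : Module.annihilator A M ≤ p.asIdeal := Module.mem_support_iff_of_finite.mp hp
  obtain ⟨q, hq, hle⟩ := Ideal.exists_minimalPrimes_le hann
  have hqp : q.IsPrime := hq.1.1
  have h1 := mem_support_deg_of_minimal ω hω M q hq hqp
  rw [deg_eq_of_minimal ω hω hmax M hM δ hδ q hq hqp] at h1
  exact Module.mem_support_mono (show (⟨q, hqp⟩ : PrimeSpectrum A) ≤ p from hle) h1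

include hω hmax hM hδ in
/-- the dimension formula `dim M_p = δ + deg p` (with `deg p = - dim A/p`), together with the
depth and the `Ext` nonvanishing range at `p` -/
theorem global_data (p : PrimeSpectrum A) (hp : p ∈ Module.support A M) :
    ∃ t d : ℕ, LocCoh.depth (Localization.AtPrime p.asIdeal)
        (LocalizedModule p.asIdeal.primeCompl M) = t ∧
      Module.supportDim (Localization.AtPrime p.asIdeal)
        (LocalizedModule p.asIdeal.primeCompl M) = d ∧ (d : ℤ) = δ + deg ω hω p ∧ t ≤ d ∧
      p ∈ Module.support A (Dual.inD A M ⟶ ω⟦(-(t : ℤ) + deg ω hω p)⟧) ∧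
      ∀ j : ℤ, p ∈ Module.support A (Dual.inD A M ⟶ ω⟦j⟧) →
        -(d : ℤ) ≤ j - deg ω hω p ∧ j - deg ω hω p ≤ -(t : ℤ) := by
  obtain ⟨h1, h2⟩ := isDualizing_isNormalized_atPrime ω hω p
  have hNoeth := h1.isNoetherianRing
  have hnt : Nontrivial (LocalizedModule p.asIdeal.primeCompl M) := Module.mem_support_iff.mp hp
  obtain ⟨t, d, ht, hd, hntt, hntd, hc⟩ := core _ h1 h2 (LocalizedModule p.asIdeal.primeCompl M)
  have htd : t ≤ d := by
    have := (hc _ hntt).1
    omega
  refine ⟨t, d, ht, hd, ?_, htd, ?_, fun j hj => ?_⟩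
  · -- the dimension formula
    have hge : -(d : ℤ) ≤ -(δ : ℤ) - deg ω hω p := by
      have := mem_support_neg_delta ω hω hmax M hM δ hδ p hp
      rw [Groth.Agent.Lib.Seat8.CMLocus.mem_support_iff ω hω M] at this
      exact (hc _ this).1
    have hle : d + (-deg ω hω p).toNat ≤ δ := by
      have h3 := Groth.Agent.Lib.Helper28.supportDim_localization_add_ringKrullDim_quotient_le
        p.asIdeal M hp
      rw [hd, ringKrullDim_quotient_eq ω hω hmax p, hδ] at h3
      exact_mod_cast h3
    have h4 := deg_le_zero ω hω hmax p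
    omega
  · have e : -(t : ℤ) = (-(t : ℤ) + deg ω hω p) - deg ω hω p := by ring
    rw [e] at hntt
    exact (Groth.Agent.Lib.Seat8.CMLocus.mem_support_iff ω hω M p _).mpr hntt
  · rw [Groth.Agent.Lib.Seat8.CMLocus.mem_support_iff ω hω M] at hj
    exact hc _ hj

include hω hmax hM hδ in
/-- `Ext^j(M, ω) = 0` for `j < -δ` and for `j > 0` -/
theorem subsingleton_ext_of_not_mem (j : ℤ) (hj : j < -(δ : ℤ) ∨ 0 < j) :
    Subsingleton (Dual.inD A M ⟶ ω⟦j⟧) := by
  by_contra hns
  rw [not_subsingleton_iff_nontrivial] at hns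
  obtain ⟨p, hp⟩ := Module.nonempty_support_of_nontrivial (R := A)
    (M := (Dual.inD A M ⟶ ω⟦j⟧))
  have hpM : p ∈ Module.support A M := by
    by_contra hpM
    rw [Module.notMem_support_iff] at hpM
    rw [Groth.Agent.Lib.Seat8.CMLocus.mem_support_iff ω hω M] at hp
    have := Groth.Agent.Lib.Seat8.DimDual.subsingleton_hom_of_subsingleton
      (A := Localization.AtPrime p.asIdeal) (LocalizedModule p.asIdeal.primeCompl M)
      ((((extD A (Localization.AtPrime p.asIdeal)).obj ω)⟦deg ω hω p⟧)⟦j - deg ω hω p⟧)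
    exact not_subsingleton _ this
  obtain ⟨t, d, -, -, hdδ, -, -, hrange⟩ := global_data ω hω hmax M hM δ hδ p hpM
  obtain ⟨hr1, hr2⟩ := hrange j hp
  have h4 := deg_le_zero ω hω hmax p
  omega

include hω hmax hM hδ in
/-- `(S_k)` for an equidimensional module of dimension `δ`: `dim Supp Ext^j(M, ω) ≤ -j - k` for
`j ≠ -δ`. -/
theorem hasSk_iff_of_equidim (k : ℕ) :
    LocCoh.HasSk k A M ↔
      ∀ j : ℤ, j ≠ -(δ : ℤ) →
        (-j - (k : ℤ) < 0 → Subsingleton (Dual.inD A M ⟶ ω⟦j⟧)) ∧
        (0 ≤ -j - (k : ℤ) → Module.supportDim A (Dual.inD A M ⟶ ω⟦j⟧) ≤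
          ((-j - (k : ℤ)).toNat : WithBot ℕ∞)) := by
  constructor
  · intro h j hj
    -- the key claim
    have claim : ∀ p : PrimeSpectrum A, p ∈ Module.support A (Dual.inD A M ⟶ ω⟦j⟧) →
        j + k ≤ deg ω hω p := by
      intro p hpj
      have hpM : p ∈ Module.support A M := by
        by_contra hpM
        rw [Module.notMem_support_iff] at hpM
        rw [Groth.Agent.Lib.Seat8.CMLocus.mem_support_iff ω hω M] at hpj
        have := Groth.Agent.Lib.Seat8.DimDual.subsingleton_hom_of_subsingleton
          (A := Localization.AtPrime p.asIdeal) (LocalizedModule p.asIdeal.primeCompl M)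
          ((((extD A (Localization.AtPrime p.asIdeal)).obj ω)⟦deg ω hω p⟧)⟦j - deg ω hω p⟧)
        exact not_subsingleton _ this
      obtain ⟨t, d, ht, hd, hdδ, htd, -, hrange⟩ := global_data ω hω hmax M hM δ hδ p hpM
      obtain ⟨hr1, hr2⟩ := hrange j hpj
      have hS := h p.asIdeal
      rw [ht, hd] at hS
      have hS' : k ≤ t ∨ d ≤ t := by
        rw [min_le_iff] at hS
        rcases hS with hS | hS
        · left
          exact_mod_cast hS
        · right
          exact_mod_cast hS
      rcases hS' with hS' | hS'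
      · omega
      · exfalso
        apply hj
        omega
    constructor
    · intro hneg
      by_contra hns
      rw [not_subsingleton_iff_nontrivial] at hns
      obtain ⟨p, hp⟩ := Module.nonempty_support_of_nontrivial (R := A)
        (M := (Dual.inD A M ⟶ ω⟦j⟧))
      have h1 := claim p hp
      have h2 := deg_le_zero ω hω hmax p
      omega
    · intro hpos
      unfold Module.supportDim Order.krullDim
      refine iSup_le fun l => ?_
      let l' : LTSeries (PrimeSpectrum A) := l.map Subtype.val (fun _ _ h => h)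
      have h1 : (l'.length : ℕ∞) ≤ Order.coheight l'.head := Order.length_le_coheight_head
      rw [coheight_eq ω hω hmax] at h1
      have h2 : j + k ≤ deg ω hω l'.head := claim _ (by
        change (l.head).val ∈ _
        exact l.head.2)
      have h3 : l'.length ≤ (-deg ω hω l'.head).toNat := by exact_mod_cast h1
      have h4 : l.length ≤ (-j - (k : ℤ)).toNat := by
        have : l'.length = l.length := rfl
        omega
      exact_mod_cast h4
  · intro h p hp
    let P : PrimeSpectrum A := ⟨p, hp⟩
    by_cases hpM : P ∈ Module.support A M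
    · obtain ⟨t, d, ht, hd, hdδ, htd, hmem, -⟩ := global_data ω hω hmax M hM δ hδ P hpM
      change LocCoh.depth (Localization.AtPrime p) (LocalizedModule p.primeCompl M) = t at ht
      change Module.supportDim (Localization.AtPrime p) (LocalizedModule p.primeCompl M) = d at hd
      rw [ht, hd]
      have h' : k ≤ t ∨ d ≤ t := by
        rcases eq_or_lt_of_le htd with heq | hlt
        · right
          omega
        · left
          have hjne : -(t : ℤ) + deg ω hω P ≠ -(δ : ℤ) := by omega
          obtain ⟨hA, hB⟩ := h _ hjne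
          by_cases hneg : -(-(t : ℤ) + deg ω hω P) - (k : ℤ) < 0
          · have := hA hneg
            rw [Module.support_eq_empty] at hmem
            exact absurd hmem (Set.notMem_empty _)
          · rw [not_lt] at hneg
            have h1 := hB hneg
            have h2 := ringKrullDim_quotient_le_of_mem_support ω hω M _ P hmem
            rw [ringKrullDim_quotient_eq ω hω hmax P] at h2
            have h3 : (-deg ω hω P).toNat ≤ (-(-(t : ℤ) + deg ω hω P) - (k : ℤ)).toNat := by
              exact_mod_cast h2.trans h1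
            have h4 := deg_le_zero ω hω hmax P
            omega
      rw [min_le_iff]
      rcases h' with h' | h'
      · left
        exact_mod_cast h'
      · right
        exact_mod_cast h'
    · rw [Module.notMem_support_iff] at hpM
      have : Module.supportDim (Localization.AtPrime p) (LocalizedModule p.primeCompl M) = ⊥ :=
        Module.supportDim_eq_bot_of_subsingleton _ _
      rw [this]
      simp

end Main

section Ring

variable {A : Type u} [CommRing A] [IsNoetherianRing A]

/-- `Hom(A, ω[i]) ≃ₗ H^i(ω)` -/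
theorem nonempty_homSelfEquivHD (ω : Dual.D A) (i : ℤ) :
    Nonempty ((Dual.inD A A ⟶ (shiftFunctor (Dual.D A) i).obj ω) ≃ₗ[A] Dual.HD A ω i) := by
  have e2 := Groth.Agent.Lib.Seat8.PtwiseDual.HDShiftEquiv ω i 0
  rw [add_zero] at e2
  exact ⟨(Groth.Agent.Lib.Seat8.HomSingle.evEquiv 0 ((shiftFunctor (Dual.D A) i).obj ω)).trans e2⟩

theorem isEquidimModule_self (hEq : EGA4.IsEquidim A) : EGA4.IsEquidimModule A A := by
  intro p hp
  rw [Module.supportDim_self_eq_ringKrullDim]
  apply hEq p
  have : Module.annihilator A A = ⊥ := by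
    rw [eq_bot_iff]
    intro a ha
    have := (Module.mem_annihilator.mp ha) (1 : A)
    simpa using this
  rw [this] at hp
  exact hp

/-- the ring form: `H^{-i}(ω) = 0` for `i > n`, and the `(S_k)` criterion. -/
theorem ring_form (hEq : EGA4.IsEquidim A) (n : ℕ) (hd : ringKrullDim A = n)
    (ω : Dual.D A) (hω : Dual.IsDualizing A ω)
    (hnorm : ∀ (m : Ideal A) (_ : m.IsMaximal) (i : ℤ), i ≠ 0 →
      Subsingleton (Dual.inD A (A ⧸ m) ⟶ ω⟦i⟧)) :
    (∀ i : ℕ, n < i → Subsingleton (Dual.HD A ω (-(i : ℤ)))) ∧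
    ∀ k' : ℕ, 1 ≤ k' →
      (LocCoh.HasSk k' A A ↔
        ∀ i : ℕ, i ≠ n →
          (i < k' → Subsingleton (Dual.HD A ω (-(i : ℤ)))) ∧
          (k' ≤ i → Module.supportDim A (Dual.HD A ω (-(i : ℤ))) ≤
            ((i - k' : ℕ) : WithBot ℕ∞))) := by
  have hmax : ∀ m : PrimeSpectrum A, m.asIdeal.IsMaximal → deg ω hω m = 0 :=
    fun m hm => deg_eq_zero_of_normalized ω hω m (hnorm m.asIdeal hm)
  have hM := isEquidimModule_self hEq
  have hδ : Module.supportDim A A = n := by
    rw [Module.supportDim_self_eq_ringKrullDim, hd]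
  have hvan := subsingleton_ext_of_not_mem ω hω hmax A hM n hδ
  refine ⟨fun i hi => ?_, fun k' _ => ?_⟩
  · obtain ⟨E⟩ := nonempty_homSelfEquivHD ω (-(i : ℤ))
    have := hvan (-(i : ℤ)) (Or.inl (by omega))
    exact E.symm.toEquiv.subsingleton
  · rw [hasSk_iff_of_equidim ω hω hmax A hM n hδ k']
    constructor
    · intro h i hi
      obtain ⟨E⟩ := nonempty_homSelfEquivHD ω (-(i : ℤ))
      obtain ⟨hA, hB⟩ := h (-(i : ℤ)) (by omega)
      constructor
      · intro hik
        have := hA (by omega)
        exact E.symm.toEquiv.subsingleton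
      · intro hik
        have h1 := hB (by omega)
        rw [Module.supportDim_eq_of_equiv E] at h1
        have e : (-(-(i : ℤ)) - (k' : ℤ)).toNat = i - k' := by omega
        rw [e] at h1
        exact h1
    · intro h j hj
      by_cases hjpos : 0 < j
      · have := hvan j (Or.inr hjpos)
        refine ⟨fun _ => this, fun _ => ?_⟩
        rw [(Module.supportDim_eq_bot_iff_subsingleton A _).mpr this]
        exact bot_le
      · rw [not_lt] at hjpos
        obtain ⟨i, rfl⟩ : ∃ i : ℕ, j = -(i : ℤ) := ⟨(-j).toNat, by omega⟩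
        obtain ⟨E⟩ := nonempty_homSelfEquivHD ω (-(i : ℤ))
        obtain ⟨hA, hB⟩ := h i (by omega)
        constructor
        · intro hik
          have := hA (by omega)
          exact E.toEquiv.subsingleton
        · intro hik
          have h1 := hB (by omega)
          rw [Module.supportDim_eq_of_equiv E]
          have e : (-(-(i : ℤ)) - (k' : ℤ)).toNat = i - k' := by omega
          rw [e]
          exact h1

end Ring

end Groth.Agent.Lib.Seat90.SkEquidimG
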