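import Mathlib
import Groth.Prelude
import Groth.Agent.Lib.Seat90S2Equidim
import Groth.Agent.Lib.Seat90SkEquidimG
import Groth.Agent.Lib.Seat8CanonS2
import Groth.Agent.S0973
import Groth.Agent.S14388

/-!
# Endomorphisms of the dualizing module of an `(S_2)` local ring (seat 90)

Let `A` be a Noetherian local ring of dimension `n` with normalized dualizing complex `ω` and
`K = H^{-n}(ω)`. If `A` is `(S_2)` then `A → End_A(K)` is bijective; if `A` is `(S_3)` then
`Ext^1_A(K, K) = 0`.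
-/

set_option autoImplicit false
set_option linter.unusedSectionVars false
universe u
open CategoryTheory CategoryTheory.Limits Pretriangulated

attribute [local instance] HasDerivedCategory.standard

namespace Groth.Agent.Lib.Seat90.CanonEnd

open DerivedCategory Groth.Agent.Lib.Seat8.DimFn Groth.Agent.Lib.Seat8.DimFn2
  Groth.Agent.Lib.Seat8.DimFn3 Groth.Agent.Lib.Seat8.DimFn4 Groth.Agent.Lib.Seat8.DualShift
  Groth.Agent.Lib.Helper1.Extend Groth.Agent.S14388

section Devissage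

variable {A : Type u} [CommRing A]

/-- transport of vanishing of `Hom` along a shift -/
theorem subsingleton_hom_of_shift {X Y Z W : Dual.D A} (m : ℤ) (eX : X⟦m⟧ ≅ Z) (eY : Y⟦m⟧ ≅ W)
    (h : Subsingleton (Z ⟶ W)) : Subsingleton (X ⟶ Y) := by
  refine ⟨fun f g => (shiftFunctor (Dual.D A) m).map_injective ?_⟩
  rw [← cancel_mono eY.hom, ← cancel_epi eX.inv]
  exact h.elim _ _

/-- if all `Hom(H^j(X)[-j], Y)` vanish then `Hom(X, Y)` vanishes, for bounded `X` -/
theorem subsingleton_hom_of_homology (Y : Dual.D A) (k : ℕ) : ∀ (X : Dual.D A) (a : ℤ),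
    X.IsGE a → X.IsLE (a + k - 1) →
    (∀ j : ℤ, a ≤ j → j ≤ a + k - 1 →
      Subsingleton ((singleFunctor (ModuleCat.{u} A) j).obj
        ((homologyFunctor (ModuleCat.{u} A) j).obj X) ⟶ Y)) →
    Subsingleton (X ⟶ Y) := by
  induction k with
  | zero =>
    intro X a hGE hLE _
    have hzero : IsZero X := tt.isZero X (a + ((0 : ℕ) : ℤ) - 1) a (by simp)
    exact ⟨fun f g => hzero.eq_of_src _ _⟩
  | succ k ih =>
    intro X a hGE hLE hφ
    have hc : a + ((k + 1 : ℕ) : ℤ) - 1 = a + k := by push_cast; ring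
    rw [hc] at hLE
    set c : ℤ := a + k with hcdef
    have hT := tt.triangleLTGE_distinguished c X
    -- top piece
    have hQGE : ((tt.truncGE c).obj X).IsGE c := inferInstance
    have hQLE : ((tt.truncGE c).obj X).IsLE c := inferInstance
    obtain ⟨eQ⟩ := Groth.Agent.S0973.iso_single_of_amp ((tt.truncGE c).obj X) c
    have hπiso := isIso_homology_truncGEπ c c le_rfl X
    let eH : (homologyFunctor (ModuleCat.{u} A) c).obj ((tt.truncGE c).obj X) ≅
        (homologyFunctor (ModuleCat.{u} A) c).obj X :=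
      (asIso ((homologyFunctor (ModuleCat.{u} A) c).map ((tt.truncGEπ c).app X))).symm
    let e : (tt.truncGE c).obj X ≅ (singleFunctor (ModuleCat.{u} A) c).obj
        ((homologyFunctor (ModuleCat.{u} A) c).obj X) :=
      eQ ≪≫ (singleFunctor (ModuleCat.{u} A) c).mapIso eH
    have h3 : Subsingleton ((tt.truncGE c).obj X ⟶ Y) := by
      have := hφ c (by omega) (by rw [hc])
      exact Groth.Agent.Lib.Seat8.DualBC.subsingleton_hom_of_iso e.symm (Iso.refl _) this
    have h1 : Subsingleton ((tt.truncLT c).obj X ⟶ Y) := by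
      apply ih ((tt.truncLT c).obj X) a inferInstance
      · have : ((tt.truncLT c).obj X).IsLE (c - 1) := inferInstance
        have e' : a + (k : ℤ) - 1 = c - 1 := by rw [hcdef]
        rw [e']
        exact this
      · intro j hj1 hj2
        have hjc : j < c := by omega
        have hιiso := isIso_homology_truncLTι c j hjc X
        let eJ : (homologyFunctor (ModuleCat.{u} A) j).obj ((tt.truncLT c).obj X) ≅
            (homologyFunctor (ModuleCat.{u} A) j).obj X :=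
          asIso ((homologyFunctor (ModuleCat.{u} A) j).map ((tt.truncLTι c).app X))
        have := hφ j hj1 (by rw [hc]; omega)
        exact Groth.Agent.Lib.Seat8.DualBC.subsingleton_hom_of_iso
          ((singleFunctor (ModuleCat.{u} A) j).mapIso eJ.symm) (Iso.refl _) this
    exact Groth.Agent.Lib.Seat8.Bass.subsingleton_mid _ hT Y h1 h3

end Devissage

section Local

variable {A : Type u} [CommRing A] [IsLocalRing A] [IsNoetherianRing A]
  (ω : Dual.D A) (hω : Dual.IsDualizing A ω) (hn : Dual.IsNormalized A ω)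
  (n : ℕ) (hd : ringKrullDim A = n)

omit [IsLocalRing A] [IsNoetherianRing A] in
theorem hasSk_two_of_le (k : ℕ) (hk : 2 ≤ k) (M : Type u) [AddCommGroup M] [Module A M]
    (hS : LocCoh.HasSk k A M) : LocCoh.HasSk 2 A M := by
  intro p hp
  refine le_trans (min_le_min ?_ le_rfl) (hS p)
  exact_mod_cast hk

include hω hn hd in
/-- a normalized dualizing complex lives in degrees `≤ 0` -/
theorem isLE_zero : ω.IsLE 0 := by
  rw [DerivedCategory.isLE_iff]
  intro i hi
  have hsd : Module.supportDim A A = (n : WithBot ℕ∞) := by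
    rw [Module.supportDim_self_eq_ringKrullDim, hd]
  have h1 := (Groth.Agent.S0366.result A ω hω hn A n hsd i).1
  have h2 : Subsingleton (Dual.inD A A ⟶ ω⟦i⟧) := by
    by_contra hcon
    rw [not_subsingleton_iff_nontrivial] at hcon
    have := h1 hcon
    omega
  obtain ⟨e⟩ := Groth.Agent.Lib.Seat8.PtwiseDual.nonempty_equiv_HD ω i
  have h3 : Subsingleton (Dual.HD A ω i) := e.symm.subsingleton
  exact ModuleCat.isZero_of_subsingleton _

include hω hn hd in
/-- `(S_k)`, `k ≥ 2` ⇒ `Hom(H^j(ω)[-j], ω[i]) = 0` for `j ≠ -n`, `i ≤ k - 1` -/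
theorem subsingleton_single_homology (k : ℕ) (hk : 2 ≤ k) (hS : LocCoh.HasSk k A A)
    (j : ℤ) (hj : j ≠ -(n : ℤ)) (i : ℤ) (hi : i ≤ (k : ℤ) - 1) :
    Subsingleton ((singleFunctor (ModuleCat.{u} A) j).obj
      ((homologyFunctor (ModuleCat.{u} A) j).obj ω) ⟶ ω⟦i⟧) := by
  have hS2 := hasSk_two_of_le k hk A hS
  have hEq := Groth.Agent.Lib.Seat90.S2Equidim.isEquidim_of_hasSk_two ω hω hn n hd hS2
  have hM := Groth.Agent.Lib.Seat90.SkEquidimG.isEquidimModule_self hEq
  have hδ : Module.supportDim A A = (n : WithBot ℕ∞) := by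
    rw [Module.supportDim_self_eq_ringKrullDim, hd]
  obtain ⟨hA, hB⟩ := (Groth.Agent.Lib.Seat90.SkEquidim.hasSk_iff_of_equidim ω hω hn A hM n hδ k
    (by omega)).mp hS j hj
  obtain ⟨E⟩ := Groth.Agent.Lib.Seat90.SkEquidimG.nonempty_homSelfEquivHD ω j
  have hfin : Module.Finite A (Dual.HD A ω j) := hω.finite_cohomology j
  -- vanishing of `Ext^c(H^j(ω), ω)` for `c ≤ j + k - 1`
  have hvan : ∀ c : ℤ, c ≤ j + k - 1 → Subsingleton (Dual.inD A (Dual.HD A ω j) ⟶ ω⟦c⟧) := by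
    intro c hc
    by_cases hneg : -j - (k : ℤ) < 0
    · have h1 := hA hneg
      have h2 : Subsingleton (Dual.HD A ω j) := E.symm.toEquiv.subsingleton
      exact Groth.Agent.Lib.Seat8.DimDual.subsingleton_hom_of_subsingleton _ _
    · rw [not_lt] at hneg
      have h1 := hB hneg
      rw [Module.supportDim_eq_of_equiv E] at h1
      refine Groth.Agent.Lib.Seat8.DimDual.subsingleton_of_supportDim_lt ω hω hn
        ((-j - (k : ℤ)).toNat + 1) (Dual.HD A ω j) ?_ c ?_
      · refine lt_of_le_of_lt h1 ?_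
        exact_mod_cast Nat.lt_succ_self _
      · push_cast
        omega
  -- transport
  have e1 : ((singleFunctor (ModuleCat.{u} A) j).obj
      ((homologyFunctor (ModuleCat.{u} A) j).obj ω))⟦j⟧ ≅ Dual.inD A (Dual.HD A ω j) :=
    ((DerivedCategory.singleFunctors (ModuleCat.{u} A)).shiftIso j 0 j (by omega)).app _
  have e2 : (ω⟦i⟧)⟦j⟧ ≅ ω⟦i + j⟧ := ((shiftFunctorAdd' (Dual.D A) i j (i + j) rfl).app ω).symm
  exact subsingleton_hom_of_shift j e1 e2 (hvan (i + j) (by omega))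

include hω hn hd in
/-- `(S_k)`, `k ≥ 2` ⇒ `Hom(τ_{> -n} ω, ω[i]) = 0` for `i ≤ k - 1` -/
theorem subsingleton_truncGE_hom (k : ℕ) (hk : 2 ≤ k) (hS : LocCoh.HasSk k A A)
    (i : ℤ) (hi : i ≤ (k : ℤ) - 1) :
    Subsingleton ((tt.truncGE (-(n : ℤ) + 1)).obj ω ⟶ ω⟦i⟧) := by
  have hLE := isLE_zero ω hω hn n hd
  refine subsingleton_hom_of_homology (ω⟦i⟧) n ((tt.truncGE (-(n : ℤ) + 1)).obj ω)
    (-(n : ℤ) + 1) inferInstance ?_ ?_
  · have : ((tt.truncGE (-(n : ℤ) + 1)).obj ω).IsLE 0 := inferInstance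
    have e : -(n : ℤ) + 1 + (n : ℤ) - 1 = 0 := by ring
    rw [e]
    exact this
  · intro j hj1 hj2
    have hπiso := isIso_homology_truncGEπ (-(n : ℤ) + 1) j hj1 ω
    let eJ : (homologyFunctor (ModuleCat.{u} A) j).obj ω ≅
        (homologyFunctor (ModuleCat.{u} A) j).obj ((tt.truncGE (-(n : ℤ) + 1)).obj ω) :=
      asIso ((homologyFunctor (ModuleCat.{u} A) j).map ((tt.truncGEπ (-(n : ℤ) + 1)).app ω))
    have := subsingleton_single_homology ω hω hn n hd k hk hS j (by omega) i hi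
    exact Groth.Agent.Lib.Seat8.DualBC.subsingleton_hom_of_iso
      ((singleFunctor (ModuleCat.{u} A) j).mapIso eJ) (Iso.refl _) this

end Local

section Ends

variable {A : Type u} [CommRing A] [IsLocalRing A] [IsNoetherianRing A]
  (ω : Dual.D A) (hω : Dual.IsDualizing A ω) (hn : Dual.IsNormalized A ω)
  (n : ℕ) (hd : ringKrullDim A = n)

include hω hn hd in
/-- `τ_{≤ -n} ω ≅ K[n]` for `K = H^{-n}(ω)` -/
theorem nonempty_truncLT_iso :
    Nonempty ((tt.truncLT (-(n : ℤ) + 1)).obj ω ≅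
      (Dual.inD A (Dual.HD A ω (-(n : ℤ))))⟦(n : ℤ)⟧) := by
  have hGE : ω.IsGE (-(n : ℤ)) :=
    Groth.Agent.Lib.Seat8.CanonS2.isGE_of_ringKrullDim ω hω hn n hd
  set m : ℤ := -(n : ℤ) with hmdef
  have hLLE : ((tt.truncLT (m + 1)).obj ω).IsLE m := inferInstance
  have hLGE : ((tt.truncLT (m + 1)).obj ω).IsGE m := inferInstance
  obtain ⟨e₁⟩ := Groth.Agent.S0973.iso_single_of_amp ((tt.truncLT (m + 1)).obj ω) m
  have hι := isIso_homology_truncLTι (m + 1) m (by omega) ω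
  let eH : (homologyFunctor (ModuleCat.{u} A) m).obj ((tt.truncLT (m + 1)).obj ω) ≅
      (homologyFunctor (ModuleCat.{u} A) m).obj ω :=
    asIso ((homologyFunctor (ModuleCat.{u} A) m).map ((tt.truncLTι (m + 1)).app ω))
  let e₂ : (tt.truncLT (m + 1)).obj ω ≅
      (singleFunctor (ModuleCat.{u} A) m).obj ((homologyFunctor (ModuleCat.{u} A) m).obj ω) :=
    e₁ ≪≫ (singleFunctor (ModuleCat.{u} A) m).mapIso eH
  let e₃ : (Dual.inD A (Dual.HD A ω m))⟦(n : ℤ)⟧ ≅
      (singleFunctor (ModuleCat.{u} A) m).obj ((homologyFunctor (ModuleCat.{u} A) m).obj ω) :=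
    ((DerivedCategory.singleFunctors (ModuleCat.{u} A)).shiftIso (n : ℤ) m 0 (by omega)).app _
  exact ⟨e₂ ≪≫ e₃.symm⟩

include hω hn hd in
/-- `A → End(τ_{≤ -n} ω)` is bijective when `Hom(τ_{> -n} ω, ω[i]) = 0` for `i = 0, 1` -/
theorem bijective_smul_id_truncLT
    (h0 : Subsingleton ((tt.truncGE (-(n : ℤ) + 1)).obj ω ⟶ ω))
    (h1 : Subsingleton ((tt.truncGE (-(n : ℤ) + 1)).obj ω ⟶ ω⟦(1 : ℤ)⟧)) :
    Function.Bijective (fun a : A => a • 𝟙 ((tt.truncLT (-(n : ℤ) + 1)).obj ω)) := by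
  set m : ℤ := -(n : ℤ) with hmdef
  have hT := tt.triangleLTGE_distinguished (m + 1) ω
  set L := (tt.truncLT (m + 1)).obj ω with hL
  set X := (tt.truncGE (m + 1)).obj ω with hX
  set ι : L ⟶ ω := (tt.truncLTι (m + 1)).app ω with hι
  have hLLE : L.IsLE m := inferInstance
  have hXGE : X.IsGE (m + 1) := inferInstance
  -- precomposition with `ι` is bijective on `End ω`
  have hP : Function.Bijective (fun g : ω ⟶ ω => ι ≫ g) := by
    constructor
    · intro g g' hgg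
      have h : ι ≫ (g - g') = 0 := by
        rw [Preadditive.comp_sub]
        exact sub_eq_zero.mpr hgg
      obtain ⟨u, hu⟩ := Triangle.yoneda_exact₂ _ hT (g - g') h
      have hu0 : u = 0 := h0.elim _ _
      rw [hu0, comp_zero] at hu
      exact sub_eq_zero.mp hu
    · intro f
      obtain ⟨g, hg⟩ := Groth.Agent.Lib.Seat8.Bass.exists_factor _ hT ω h1 f
      exact ⟨g, hg.symm⟩
  -- postcomposition with `ι` is bijective on `End L`
  have hQ : Function.Bijective (fun f : L ⟶ L => f ≫ ι) := by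
    constructor
    · intro f f' hff
      have h : (f - f') ≫ ι = 0 := by
        rw [Preadditive.sub_comp]
        exact sub_eq_zero.mpr hff
      have hT' := inv_rot_of_distTriang _ hT
      obtain ⟨g, hg⟩ := Triangle.coyoneda_exact₂ _ hT' (f - f') h
      have hXs : (X⟦(-1 : ℤ)⟧).IsGE (m + 2) := tt.isGE_shift X (m + 1) (-1) (m + 2) (by omega)
      have hg0 : g = 0 := tt.zero_of_isLE_of_isGE g m (m + 2) (by omega) hLLE hXs
      rw [hg0, zero_comp] at hg
      exact sub_eq_zero.mp hg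
    · intro f
      have h : f ≫ (tt.truncGEπ (m + 1)).app ω = 0 :=
        tt.zero_of_isLE_of_isGE _ m (m + 1) (by omega) hLLE hXGE
      obtain ⟨g, hg⟩ := Triangle.coyoneda_exact₂ _ hT f h
      exact ⟨g, hg.symm⟩
  have hφ := hω.toEnd_bijective
  have hcomp : (fun f : L ⟶ L => f ≫ ι) ∘ (fun a : A => a • 𝟙 L) =
      (fun g : ω ⟶ ω => ι ≫ g) ∘ (fun a : A => a • 𝟙 ω) := by
    funext a
    simp only [Function.comp_apply]
    rw [Linear.smul_comp, Linear.comp_smul, Category.id_comp, Category.comp_id]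
  have hbij : Function.Bijective ((fun f : L ⟶ L => f ≫ ι) ∘ (fun a : A => a • 𝟙 L)) := by
    rw [hcomp]
    exact hP.comp hφ
  exact (Function.Bijective.of_comp_iff' hQ _).mp hbij

include hω hn hd in
/-- `Hom(L, L[1]) = 0` for `L = τ_{≤ -n} ω` when `Hom(τ_{> -n} ω, ω[2]) = 0` -/
theorem subsingleton_truncLT_ext_one
    (h2 : Subsingleton ((tt.truncGE (-(n : ℤ) + 1)).obj ω ⟶ ω⟦(2 : ℤ)⟧)) :
    Subsingleton ((tt.truncLT (-(n : ℤ) + 1)).obj ω ⟶
      ((tt.truncLT (-(n : ℤ) + 1)).obj ω)⟦(1 : ℤ)⟧) := by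
  set m : ℤ := -(n : ℤ) with hmdef
  have hT := tt.triangleLTGE_distinguished (m + 1) ω
  set L := (tt.truncLT (m + 1)).obj ω with hL
  set X := (tt.truncGE (m + 1)).obj ω with hX
  set ι : L ⟶ ω := (tt.truncLTι (m + 1)).app ω with hι
  have hLLE : L.IsLE m := inferInstance
  have hXGE : X.IsGE (m + 1) := inferInstance
  -- `Hom(L, ω[1]) = 0`
  have hLω : ∀ f : L ⟶ ω⟦(1 : ℤ)⟧, f = 0 := by
    intro f
    have h3 : Subsingleton (X ⟶ (ω⟦(1 : ℤ)⟧)⟦(1 : ℤ)⟧) :=
      Groth.Agent.Lib.Seat8.DualBC.subsingleton_hom_of_iso (Iso.refl _)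
        ((shiftFunctorAdd' (Dual.D A) 1 1 2 rfl).app ω) h2
    obtain ⟨g, hg⟩ := Groth.Agent.Lib.Seat8.Bass.exists_factor _ hT (ω⟦(1 : ℤ)⟧) h3 f
    have hg0 : g = 0 := (hω.ext_self_subsingleton 1 (by omega)).elim _ _
    rw [hg, hg0]
    exact comp_zero
  have h0 : ∀ f : L ⟶ L⟦(1 : ℤ)⟧, f = 0 := by
    intro f
    have hT2 := rot_of_distTriang _ (rot_of_distTriang _ hT)
    have h : f ≫ (-(ι⟦(1 : ℤ)⟧')) = 0 := by
      rw [Preadditive.comp_neg, hLω (f ≫ ι⟦(1 : ℤ)⟧'), neg_zero]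
    obtain ⟨g, hg⟩ := Triangle.coyoneda_exact₂ _ hT2 f h
    have hg0 : g = 0 := tt.zero_of_isLE_of_isGE g m (m + 1) (by omega) hLLE hXGE
    rw [hg, hg0]
    exact zero_comp
  exact ⟨fun f g => (h0 f).trans (h0 g).symm⟩

end Ends

section Main

variable {A : Type u} [CommRing A] [IsLocalRing A] [IsNoetherianRing A]
  (ω : Dual.D A) (hω : Dual.IsDualizing A ω) (hn : Dual.IsNormalized A ω)
  (n : ℕ) (hd : ringKrullDim A = n)

include hω hn hd in
/-- `(S_2)` ⇒ `A → End_A(K)` bijective, `K = H^{-n}(ω)` -/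
theorem toEnd_bijective_of_hasSk_two (hS : LocCoh.HasSk 2 A A) :
    Function.Bijective (fun r : A => r • (LinearMap.id :
      Dual.HD A ω (-(n : ℤ)) →ₗ[A] Dual.HD A ω (-(n : ℤ)))) := by
  have h0 := subsingleton_truncGE_hom ω hω hn n hd 2 le_rfl hS 0 (by norm_num)
  have h1 := subsingleton_truncGE_hom ω hω hn n hd 2 le_rfl hS 1 (by norm_num)
  have h0' : Subsingleton ((tt.truncGE (-(n : ℤ) + 1)).obj ω ⟶ ω) :=
    Groth.Agent.Lib.Seat8.DualBC.subsingleton_hom_of_iso (Iso.refl _)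
      ((shiftFunctorZero (Dual.D A) ℤ).app ω) h0
  have hL := bijective_smul_id_truncLT ω hω hn n hd h0' h1
  obtain ⟨E⟩ := nonempty_truncLT_iso ω hω hn n hd
  let K := ModuleCat.of A (Dual.HD A ω (-(n : ℤ)))
  let F := DerivedCategory.singleFunctor (ModuleCat.{u} A) 0
  let S := shiftFunctor (Dual.D A) (n : ℤ)
  let e1 : (K ⟶ K) ≃ (Dual.HD A ω (-(n : ℤ)) →ₗ[A] Dual.HD A ω (-(n : ℤ))) := ModuleCat.homEquiv
  let e2 : (K ⟶ K) ≃ (F.obj K ⟶ F.obj K) := (Functor.FullyFaithful.ofFullyFaithful F).homEquiv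
  let e3 : (F.obj K ⟶ F.obj K) ≃ (S.obj (F.obj K) ⟶ S.obj (F.obj K)) :=
    (Functor.FullyFaithful.ofFullyFaithful S).homEquiv
  let e4 : (S.obj (F.obj K) ⟶ S.obj (F.obj K)) ≃
      ((tt.truncLT (-(n : ℤ) + 1)).obj ω ⟶ (tt.truncLT (-(n : ℤ) + 1)).obj ω) :=
    E.symm.homCongr E.symm
  let Ψ := e1.symm.trans (e2.trans (e3.trans e4))
  have hcomp : Ψ ∘ (fun r : A => r • (LinearMap.id :
      Dual.HD A ω (-(n : ℤ)) →ₗ[A] Dual.HD A ω (-(n : ℤ)))) =
      fun a : A => a • 𝟙 ((tt.truncLT (-(n : ℤ) + 1)).obj ω) := by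
    funext r
    have h1 : e1.symm (r • (LinearMap.id :
        Dual.HD A ω (-(n : ℤ)) →ₗ[A] Dual.HD A ω (-(n : ℤ)))) = r • 𝟙 K := by
      apply e1.injective
      rw [Equiv.apply_symm_apply]
      rfl
    simp only [Function.comp_apply, Ψ, Equiv.trans_apply]
    rw [h1]
    have h2 : e2 (r • 𝟙 K) = r • 𝟙 (F.obj K) := by
      change F.map (r • 𝟙 K) = _
      rw [Functor.map_smul, F.map_id]
    rw [h2]
    have h3 : e3 (r • 𝟙 (F.obj K)) = r • 𝟙 (S.obj (F.obj K)) := by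
      change S.map (r • 𝟙 (F.obj K)) = _
      rw [Functor.map_smul, S.map_id]
    rw [h3]
    change E.symm.inv ≫ (r • 𝟙 (S.obj (F.obj K))) ≫ E.symm.hom = _
    rw [Linear.smul_comp, Linear.comp_smul, Category.id_comp]
    simp
  have hbij : Function.Bijective (Ψ ∘ (fun r : A => r • (LinearMap.id :
      Dual.HD A ω (-(n : ℤ)) →ₗ[A] Dual.HD A ω (-(n : ℤ))))) := by
    rw [hcomp]
    exact hL
  exact (Function.Bijective.of_comp_iff' Ψ.bijective _).mp hbij

include hω hn hd in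
/-- `(S_3)` ⇒ `Ext^1_A(K, K) = 0`, `K = H^{-n}(ω)` -/
theorem subsingleton_ext_one_of_hasSk_three (hS : LocCoh.HasSk 3 A A) :
    Subsingleton (Dual.inD A (Dual.HD A ω (-(n : ℤ))) ⟶
      (Dual.inD A (Dual.HD A ω (-(n : ℤ))))⟦(1 : ℤ)⟧) := by
  have h2 := subsingleton_truncGE_hom ω hω hn n hd 3 (by norm_num) hS 2 (by norm_num)
  have hL := subsingleton_truncLT_ext_one ω hω hn n hd h2
  obtain ⟨E⟩ := nonempty_truncLT_iso ω hω hn n hd
  exact subsingleton_hom_of_shift (n : ℤ) E.symm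
    ((shiftFunctorComm (Dual.D A) 1 (n : ℤ)).app _ ≪≫ (shiftFunctor (Dual.D A) 1).mapIso E.symm) hL

end Main

end Groth.Agent.Lib.Seat90.CanonEnd
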