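import Mathlib.Topology.Connected.Clopen
import Mathlib.Topology.Inseparable

/-!
# Connectedness of the source of a generalizing surjection with connected fibres (seat 90)
-/

set_option autoImplicit false

namespace Groth.Agent.Lib.Seat90.ConnFib

variable {W Z : Type*} [TopologicalSpace W] [TopologicalSpace Z]

/-- Let `q : W → Z` be a continuous generalizing surjection with preconnected fibres. If `Z` is
preconnected and every point of `Z` is a specialization of a point of a fixed finite set `G`, then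
`W` is preconnected. -/
theorem preconnectedSpace_of_generalizingMap (q : W → Z) (_hq : Continuous q)
    (hsurj : Function.Surjective q) (hgen : GeneralizingMap q)
    (hfib : ∀ z, IsPreconnected (q ⁻¹' {z})) [PreconnectedSpace Z]
    (G : Set Z) (hG : G.Finite) (hGgen : ∀ z, ∃ g ∈ G, g ⤳ z) : PreconnectedSpace W := by
  rw [preconnectedSpace_iff_clopen]
  -- key: for a clopen `A` of `W`, the set of `z` whose fibre meets `A` is closed
  have key : ∀ A : Set W, IsClopen A → IsClosed {z | (q ⁻¹' {z} ∩ A).Nonempty} := by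
    intro A hA
    have hsub : ∀ z, (q ⁻¹' {z} ∩ A).Nonempty → q ⁻¹' {z} ⊆ A :=
      fun z hz => (hfib z).subset_isClopen hA hz
    have hsub' : ∀ z, (q ⁻¹' {z} ∩ Aᶜ).Nonempty → q ⁻¹' {z} ⊆ Aᶜ :=
      fun z hz => (hfib z).subset_isClopen hA.compl hz
    -- stability under specialization, for any clopen
    have hspec : ∀ B : Set W, IsClopen B → (∀ z, (q ⁻¹' {z} ∩ B).Nonempty → q ⁻¹' {z} ⊆ B) →
        ∀ z z', z ⤳ z' → (q ⁻¹' {z} ∩ B).Nonempty → (q ⁻¹' {z'} ∩ B).Nonempty := by
      intro B hB hBsub z z' hzz' hz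
      obtain ⟨w', hw'⟩ := hsurj z'
      obtain ⟨w, hww', hw⟩ := hgen (hw' ▸ hzz')
      have hwB : w ∈ B := hBsub z hz hw
      exact ⟨w', hw', hww'.mem_closed hB.isClosed hwB⟩
    have hEq : {z | (q ⁻¹' {z} ∩ A).Nonempty} =
        ⋃ g ∈ {g ∈ G | (q ⁻¹' {g} ∩ A).Nonempty}, closure {g} := by
      ext z
      simp only [Set.mem_ofPred_eq, Set.mem_iUnion, exists_prop]
      constructor
      · intro hz
        obtain ⟨g, hgG, hgz⟩ := hGgen z
        refine ⟨g, ⟨hgG, ?_⟩, specializes_iff_mem_closure.mp hgz⟩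
        by_contra hcon
        -- the fibre over g is nonempty, hence meets Aᶜ
        obtain ⟨w, hw⟩ := hsurj g
        have hwA : w ∉ A := fun hwA => hcon ⟨w, hw, hwA⟩
        have h1 : (q ⁻¹' {g} ∩ Aᶜ).Nonempty := ⟨w, hw, hwA⟩
        obtain ⟨w', hw', hw'A⟩ := hspec Aᶜ hA.compl hsub' g z hgz h1
        obtain ⟨w'', hw'', hw''A⟩ := hz
        exact hsub' z ⟨w', hw', hw'A⟩ hw'' hw''A
      · rintro ⟨g, ⟨-, hg⟩, hgz⟩
        exact hspec A hA hsub g z (specializes_iff_mem_closure.mpr hgz) hg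
    rw [hEq]
    exact (hG.subset (fun g hg => hg.1)).isClosed_biUnion fun g _ => isClosed_closure
  intro A hA
  set A₀ : Set Z := {z | (q ⁻¹' {z} ∩ A).Nonempty} with hA₀
  have hsub : ∀ z, (q ⁻¹' {z} ∩ A).Nonempty → q ⁻¹' {z} ⊆ A :=
    fun z hz => (hfib z).subset_isClopen hA hz
  have hcompl : A₀ᶜ = {z | (q ⁻¹' {z} ∩ Aᶜ).Nonempty} := by
    ext z
    simp only [hA₀, Set.mem_compl_iff, Set.mem_ofPred_eq]
    constructor
    · intro hz
      obtain ⟨w, hw⟩ := hsurj z
      exact ⟨w, hw, fun hwA => hz ⟨w, hw, hwA⟩⟩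
    · rintro ⟨w, hw, hwA⟩ hz
      exact hwA (hsub z hz hw)
  have hclopen : IsClopen A₀ := by
    refine ⟨key A hA, ?_⟩
    rw [← isClosed_compl_iff, hcompl]
    exact key Aᶜ hA.compl
  have hpre : A = q ⁻¹' A₀ := by
    ext w
    constructor
    · intro hw
      exact ⟨w, rfl, hw⟩
    · intro hw
      exact hsub (q w) hw rfl
  rcases isClopen_iff.mp hclopen with h | h
  · left
    rw [hpre, h, Set.preimage_empty]
  · right
    rw [hpre, h, Set.preimage_univ]

end Groth.Agent.Lib.Seat90.ConnFib
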