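import Mathlib.RingTheory.DividedPowers.RatAlgebra
import Mathlib.RingTheory.DividedPowers.Padic
import Mathlib.RingTheory.DividedPowers.SubDPIdeal
import Mathlib.RingTheory.DividedPowers.DPMorphism
import Mathlib.RingTheory.MvPolynomial.Basic
import Mathlib.LinearAlgebra.Basis.Basic

/-!
# The divided power polynomial algebra over a torsion-free ring, inside `K[X]` for a `ℚ`-algebra `K`

`A → K` is an injective ring homomorphism to a `ℚ`-algebra.  Inside `B = K[X_1, …, X_N]` we
consider the `A`-span `P'` of the divided power monomials `X^[e] = ∏ X_i^{e_i}/e_i!`; it is an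
`A`-subalgebra, free with basis the `X^[e]`, and the ideal generated by the `X_i^[m]`, `m ≥ 1`, is
stable under `x ↦ x^n/n!`.
-/

set_option autoImplicit false
universe u v w

namespace Groth.Agent.Lib.Seat90.DPPoly

open MvPolynomial Nat

section Monomials

variable (K : Type v) [CommRing K] [Algebra ℚ K] (N : ℕ)

/-- the rational number `1/e!` for a multi-index `e` -/
noncomputable def qinv (e : Fin N →₀ ℕ) : ℚ := ∏ i, ((e i)! : ℚ)⁻¹

/-- the multi-binomial coefficient -/
def mchoose (e e' : Fin N →₀ ℕ) : ℕ := ∏ i, (e i + e' i).choose (e i)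

theorem qinv_ne_zero (e : Fin N →₀ ℕ) : qinv N e ≠ 0 := by
  unfold qinv
  refine Finset.prod_ne_zero_iff.2 fun i _ => inv_ne_zero ?_
  exact_mod_cast (e i).factorial_ne_zero

theorem qinv_mul (e e' : Fin N →₀ ℕ) :
    qinv N e * qinv N e' = (mchoose N e e' : ℚ) * qinv N (e + e') := by
  unfold qinv mchoose
  rw [← Finset.prod_mul_distrib, Nat.cast_prod, ← Finset.prod_mul_distrib]
  refine Finset.prod_congr rfl fun i _ => ?_
  rw [Finsupp.add_apply]
  have h := Nat.add_choose_mul_factorial_mul_factorial (e i) (e' i)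
  rw [← Nat.choose_symm_add] at h
  have h4 : (((e i + e' i).choose (e i) : ℕ) : ℚ) ≠ 0 := by
    exact_mod_cast (Nat.choose_pos (Nat.le_add_right _ _)).ne'
  have h' : (((e i + e' i).choose (e i) : ℕ) : ℚ) * ((e i)! : ℚ) * ((e' i)! : ℚ) = ((e i + e' i)! : ℚ) := by
    exact_mod_cast h
  have h1 : ((e i)! : ℚ) ≠ 0 := by exact_mod_cast (e i).factorial_ne_zero
  have h2 : ((e' i)! : ℚ) ≠ 0 := by exact_mod_cast (e' i).factorial_ne_zero
  have h3 : ((e i + e' i)! : ℚ) ≠ 0 := by exact_mod_cast (e i + e' i).factorial_ne_zero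
  rw [← h']
  field_simp

/-- the divided power monomial `X^[e]` -/
noncomputable def dpm (e : Fin N →₀ ℕ) : MvPolynomial (Fin N) K :=
  monomial e (algebraMap ℚ K (qinv N e))

theorem dpm_zero : dpm K N 0 = 1 := by
  unfold dpm qinv
  simp

theorem dpm_mul (e e' : Fin N →₀ ℕ) :
    dpm K N e * dpm K N e' = (mchoose N e e') • dpm K N (e + e') := by
  unfold dpm
  rw [monomial_mul, ← map_mul, qinv_mul, map_mul, map_natCast, nsmul_eq_mul]
  rw [← C_eq_coe_nat, C_mul_monomial]

theorem coeff_dpm (e e' : Fin N →₀ ℕ) :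
    coeff e' (dpm K N e) = if e = e' then algebraMap ℚ K (qinv N e) else 0 := by
  classical
  unfold dpm
  rw [coeff_monomial]

theorem isUnit_qinv (e : Fin N →₀ ℕ) : IsUnit (algebraMap ℚ K (qinv N e)) :=
  (IsUnit.mk0 _ (qinv_ne_zero N e)).map (algebraMap ℚ K)

end Monomials

section Model

variable (A : Type u) [CommRing A] (K : Type v) [CommRing K] [Algebra ℚ K] [Algebra A K] (N : ℕ)

/-- the `A`-span of the divided power monomials -/
noncomputable def dpSpan : Submodule A (MvPolynomial (Fin N) K) :=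
  Submodule.span A (Set.range (dpm K N))

theorem dpm_mem_dpSpan (e : Fin N →₀ ℕ) : dpm K N e ∈ dpSpan A K N :=
  Submodule.subset_span ⟨e, rfl⟩

theorem one_mem_dpSpan : (1 : MvPolynomial (Fin N) K) ∈ dpSpan A K N := by
  rw [← dpm_zero K N]
  exact dpm_mem_dpSpan A K N 0

theorem mul_mem_dpSpan (x y : MvPolynomial (Fin N) K) (hx : x ∈ dpSpan A K N)
    (hy : y ∈ dpSpan A K N) : x * y ∈ dpSpan A K N := by
  unfold dpSpan at hx hy
  induction hx, hy using Submodule.span_induction₂ with
  | mem_mem x y hx hy =>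
    obtain ⟨e, rfl⟩ := hx
    obtain ⟨e', rfl⟩ := hy
    rw [dpm_mul]
    exact Submodule.smul_of_tower_mem _ _ (dpm_mem_dpSpan A K N _)
  | zero_left y _ => rw [zero_mul]; exact Submodule.zero_mem _
  | zero_right x _ => rw [mul_zero]; exact Submodule.zero_mem _
  | add_left x y z _ _ _ h1 h2 => rw [add_mul]; exact Submodule.add_mem _ h1 h2
  | add_right x y z _ _ _ h1 h2 => rw [mul_add]; exact Submodule.add_mem _ h1 h2
  | smul_left r x y _ _ h => rw [smul_mul_assoc]; exact Submodule.smul_mem _ _ h
  | smul_right r x y _ _ h => rw [mul_smul_comm]; exact Submodule.smul_mem _ _ h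

/-- the divided power polynomial algebra over `A`, as a subalgebra of `K[X]` -/
noncomputable def dpAlg : Subalgebra A (MvPolynomial (Fin N) K) :=
  (dpSpan A K N).toSubalgebra (one_mem_dpSpan A K N) (mul_mem_dpSpan A K N)

theorem mem_dpAlg (x : MvPolynomial (Fin N) K) : x ∈ dpAlg A K N ↔ x ∈ dpSpan A K N := Iff.rfl

/-- the divided power monomials as elements of the subalgebra -/
noncomputable def dpb (e : Fin N →₀ ℕ) : dpAlg A K N := ⟨dpm K N e, dpm_mem_dpSpan A K N e⟩

theorem dpb_val (e : Fin N →₀ ℕ) : (dpb A K N e : MvPolynomial (Fin N) K) = dpm K N e := rfl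

theorem dpb_zero : dpb A K N 0 = 1 := Subtype.ext (dpm_zero K N)

theorem dpb_mul (e e' : Fin N →₀ ℕ) :
    dpb A K N e * dpb A K N e' = (mchoose N e e') • dpb A K N (e + e') := by
  apply Subtype.ext
  rw [Subalgebra.coe_mul, dpb_val, dpb_val, dpm_mul]
  simp [dpb_val]

end Model

section Basis

variable (A : Type u) [CommRing A] (K : Type v) [CommRing K] [Algebra ℚ K] [Algebra A K] (N : ℕ)
  (hinj : Function.Injective (algebraMap A K))

theorem coeff_linearCombination (l : (Fin N →₀ ℕ) →₀ A) (e : Fin N →₀ ℕ) :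
    coeff e (Finsupp.linearCombination A (dpm K N) l) = l e • algebraMap ℚ K (qinv N e) := by
  classical
  rw [Finsupp.linearCombination_apply, Finsupp.sum, coeff_sum]
  simp only [coeff_smul, coeff_dpm]
  rw [Finset.sum_eq_single e]
  · rw [if_pos rfl]
  · intro e' _ hne
    rw [if_neg hne, smul_zero]
  · intro he
    rw [Finsupp.notMem_support_iff.1 he, zero_smul]

include hinj in
theorem linearIndependent_dpm : LinearIndependent A (dpm K N) := by
  rw [linearIndependent_iff]
  intro l hl
  ext e
  have h := congrArg (coeff e) hl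
  rw [coeff_linearCombination, coeff_zero, Algebra.smul_def] at h
  have h2 := (isUnit_qinv K N e).mul_left_eq_zero.1 h
  rw [Finsupp.zero_apply]
  exact hinj (h2.trans (map_zero _).symm)

include hinj in
theorem linearIndependent_dpb : LinearIndependent A (dpb A K N) := by
  have h : LinearIndependent A ((dpAlg A K N).val.toLinearMap ∘ dpb A K N) :=
    linearIndependent_dpm A K N hinj
  exact LinearIndependent.of_comp _ h

theorem span_dpb : (⊤ : Submodule A (dpAlg A K N)) ≤ Submodule.span A (Set.range (dpb A K N)) := by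
  have key : ∀ x (_ : x ∈ Submodule.span A (Set.range (dpm K N))), ∀ hx : x ∈ dpAlg A K N,
      (⟨x, hx⟩ : dpAlg A K N) ∈ Submodule.span A (Set.range (dpb A K N)) := by
    intro x hx'
    induction hx' using Submodule.span_induction with
    | mem x h =>
      intro hx
      obtain ⟨e, rfl⟩ := h
      exact Submodule.subset_span ⟨e, rfl⟩
    | zero =>
      intro hx
      exact Submodule.zero_mem _
    | add x y hxs hys h1 h2 =>
      intro hxy
      exact Submodule.add_mem _ (h1 hxs) (h2 hys)
    | smul a x hxs h1 =>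
      intro hax
      exact Submodule.smul_mem _ a (h1 hxs)
  rintro ⟨x, hx⟩ -
  exact key x hx hx

/-- the basis of divided power monomials -/
noncomputable def dpBasis : Module.Basis (Fin N →₀ ℕ) A (dpAlg A K N) :=
  Module.Basis.mk (linearIndependent_dpb A K N hinj) (span_dpb A K N)

theorem dpBasis_apply (e : Fin N →₀ ℕ) : dpBasis A K N hinj e = dpb A K N e := by
  unfold dpBasis
  rw [Module.Basis.mk_apply]

end Basis

section DP

variable (A : Type u) [CommRing A] (K : Type v) [CommRing K] [Algebra ℚ K] [Algebra A K] (N : ℕ)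

/-- the inclusion of the divided power polynomial algebra into `K[X]` -/
noncomputable def incl : dpAlg A K N →+* MvPolynomial (Fin N) K := (dpAlg A K N).val.toRingHom

theorem incl_apply (x : dpAlg A K N) : incl A K N x = (x : MvPolynomial (Fin N) K) := rfl

theorem incl_injective : Function.Injective (incl A K N) := Subtype.val_injective

/-- generators of the augmentation ideal -/
def augGen : Set (dpAlg A K N) :=
  {y | ∃ (i : Fin N) (m : ℕ), 1 ≤ m ∧ y = dpb A K N (Finsupp.single i m)}

/-- the augmentation ideal of the divided power polynomial algebra -/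
noncomputable def augI : Ideal (dpAlg A K N) := Ideal.span (augGen A K N)

/-- the ideal of `K[X]` generated by the augmentation ideal -/
noncomputable def augJ : Ideal (MvPolynomial (Fin N) K) := (augI A K N).map (incl A K N)

theorem dpb_single_mem (i : Fin N) (m : ℕ) (hm : 1 ≤ m) :
    dpb A K N (Finsupp.single i m) ∈ augI A K N :=
  Ideal.subset_span ⟨i, m, hm, rfl⟩

theorem qinv_single (i : Fin N) (m : ℕ) : qinv N (Finsupp.single i m) = ((m ! : ℕ) : ℚ)⁻¹ := by
  unfold qinv
  rw [Finset.prod_eq_single i]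
  · rw [Finsupp.single_eq_same]
  · intro j _ hj
    rw [Finsupp.single_eq_of_ne hj]
    simp
  · intro h
    exact absurd (Finset.mem_univ i) h

theorem dpm_single (i : Fin N) (m : ℕ) :
    dpm K N (Finsupp.single i m) = (((m ! : ℕ) : ℚ)⁻¹) • (X i : MvPolynomial (Fin N) K) ^ m := by
  unfold dpm
  rw [qinv_single, X_pow_eq_monomial, smul_monomial, Algebra.algebraMap_eq_smul_one]

theorem dpm_single_one (i : Fin N) : dpm K N (Finsupp.single i 1) = X i := by
  rw [dpm_single]
  simp

theorem X_mem_augJ (i : Fin N) : (X i : MvPolynomial (Fin N) K) ∈ augJ A K N := by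
  have h := Ideal.mem_map_of_mem (incl A K N) (dpb_single_mem A K N i 1 le_rfl)
  rw [incl_apply, dpb_val, dpm_single_one] at h
  exact h

open Classical in
/-- the divided power structure `x ↦ xⁿ/n!` on the extended augmentation ideal -/
noncomputable def dpJ : DividedPowers (augJ A K N) :=
  DividedPowers.RatAlgebra.dividedPowers (augJ A K N)

theorem dpJ_dpow_X (i : Fin N) (m : ℕ) :
    (dpJ A K N).dpow m (X i) = dpm K N (Finsupp.single i m) := by
  rw [DividedPowers.RatAlgebra.dpow_eq_inv_fact_smul _ (dpJ A K N) (X_mem_augJ A K N i), dpm_single,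
    Ring.inverse_eq_inv']

theorem dpJ_dpow_dpm (i : Fin N) (n m : ℕ) (hm : m ≠ 0) :
    (dpJ A K N).dpow n (dpm K N (Finsupp.single i m)) =
      (Nat.uniformBell n m) • dpm K N (Finsupp.single i (n * m)) := by
  rw [← dpJ_dpow_X A K N i m, (dpJ A K N).dpow_comp hm (X_mem_augJ A K N i), dpJ_dpow_X,
    nsmul_eq_mul]

/-- the augmentation ideal is stable under `x ↦ xⁿ/n!` -/
theorem exists_dpow (x : dpAlg A K N) (hx : x ∈ augI A K N) : ∀ n : ℕ,
    ∃ y : dpAlg A K N, (n ≠ 0 → y ∈ augI A K N) ∧
      incl A K N y = (dpJ A K N).dpow n (incl A K N x) := by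
  unfold augI at hx
  induction hx using Submodule.span_induction with
  | mem x h =>
    obtain ⟨i, m, hm, rfl⟩ := h
    intro n
    refine ⟨(Nat.uniformBell n m) • dpb A K N (Finsupp.single i (n * m)), fun hn => ?_, ?_⟩
    · refine Submodule.smul_of_tower_mem _ _ (dpb_single_mem A K N i (n * m) ?_)
      exact Nat.one_le_iff_ne_zero.2 (Nat.mul_ne_zero hn (by omega))
    · rw [map_nsmul]
      simp only [incl_apply, dpb_val]
      rw [dpJ_dpow_dpm A K N i n m (by omega)]
  | zero =>
    intro n
    by_cases hn : n = 0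
    · subst hn
      refine ⟨1, fun h => absurd rfl h, ?_⟩
      rw [map_one, map_zero, (dpJ A K N).dpow_zero (Ideal.zero_mem _)]
    · refine ⟨0, fun _ => Ideal.zero_mem _, ?_⟩
      rw [map_zero, (dpJ A K N).dpow_eval_zero hn]
  | add x y hx hy h1 h2 =>
    intro n
    choose Y1 hY1 hY1' using h1
    choose Y2 hY2 hY2' using h2
    refine ⟨∑ k ∈ Finset.antidiagonal n, Y1 k.1 * Y2 k.2, fun hn => ?_, ?_⟩
    · refine Submodule.sum_mem _ fun k hk => ?_
      rw [Finset.mem_antidiagonal] at hk
      by_cases hk1 : k.1 = 0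
      · exact Ideal.mul_mem_left _ _ (hY2 k.2 (by omega))
      · exact Ideal.mul_mem_right _ _ (hY1 k.1 hk1)
    · have hxJ : incl A K N x ∈ augJ A K N := Ideal.mem_map_of_mem _ hx
      have hyJ : incl A K N y ∈ augJ A K N := Ideal.mem_map_of_mem _ hy
      rw [map_add, (dpJ A K N).dpow_add hxJ hyJ, map_sum]
      refine Finset.sum_congr rfl fun k _ => ?_
      rw [map_mul, hY1', hY2']
  | smul a x hx h1 =>
    intro n
    obtain ⟨y, hy, hy'⟩ := h1 n
    refine ⟨a ^ n * y, fun hn => Ideal.mul_mem_left _ _ (hy hn), ?_⟩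
    have hxJ : incl A K N x ∈ augJ A K N := Ideal.mem_map_of_mem _ hx
    rw [smul_eq_mul, map_mul, map_mul, map_pow, (dpJ A K N).dpow_mul hxJ, hy']

/-- the divided power structure on the augmentation ideal -/
noncomputable def dpI : DividedPowers (augI A K N) :=
  DividedPowers.ofInjective (augI A K N) (augJ A K N) (incl A K N) (incl_injective A K N)
    (dpJ A K N) rfl
    (fun n x hx => ⟨(exists_dpow A K N x hx n).choose, (exists_dpow A K N x hx n).choose_spec.1,
      (exists_dpow A K N x hx n).choose_spec.2⟩)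

theorem incl_dpI_dpow (n : ℕ) (x : dpAlg A K N) (hx : x ∈ augI A K N) :
    incl A K N ((dpI A K N).dpow n x) = (dpJ A K N).dpow n (incl A K N x) := by
  classical
  change incl A K N (dite _ _ _) = _
  rw [dif_pos hx]
  exact (Exists.choose_spec (_ : ∃ y, ∃ (_ : n ≠ 0 → y ∈ augI A K N),
    incl A K N y = (dpJ A K N).dpow n (incl A K N x))).2

theorem dpI_dpow_dpb (i : Fin N) (n m : ℕ) (hm : m ≠ 0) :
    (dpI A K N).dpow n (dpb A K N (Finsupp.single i m)) =
      (Nat.uniformBell n m) • dpb A K N (Finsupp.single i (n * m)) := by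
  apply incl_injective A K N
  rw [incl_dpI_dpow A K N n _ (dpb_single_mem A K N i m (Nat.one_le_iff_ne_zero.2 hm)), map_nsmul]
  simp only [incl_apply, dpb_val]
  rw [dpJ_dpow_dpm A K N i n m hm]

theorem dpI_dpow_dpb_one (i : Fin N) (n : ℕ) :
    (dpI A K N).dpow n (dpb A K N (Finsupp.single i 1)) = dpb A K N (Finsupp.single i n) := by
  rw [dpI_dpow_dpb A K N i n 1 one_ne_zero, Nat.uniformBell_one_right, one_smul, mul_one]

end DP

end Groth.Agent.Lib.Seat90.DPPoly
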