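import Mathlib
import Groth.Prelude
import Groth.Agent.Lib.Seat8FinLenDual

/-!
# Dimension function of `RHom_A(B, ω)` for a surjection `A → B` (Seat 90)

For `A → B` surjective, `R` right adjoint to restriction of scalars `D(B) → D(A)`, `q` a prime of
`B` with preimage `p`: `Hom_{D(B)}(B/q, R(ω)[i])_q ≠ 0 ↔ Hom_{D(A)}(A/p, ω[i])_p ≠ 0`.
-/

set_option autoImplicit false
universe u
open CategoryTheory CategoryTheory.Limits

attribute [local instance] HasDerivedCategory.standard

namespace Groth.Agent.Lib.Seat90.DeltaSurj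

open Groth.Agent.Lib.Seat8.Coext Groth.Agent.Lib.Seat8.CoextShift
  Groth.Agent.Lib.Seat8.FinLenDual

/-- nontriviality of localizations is transported along a semilinear additive equivalence over a
surjective ring map. -/
theorem nontrivial_localizedModule_iff_of_semilinear {A B : Type*} [CommRing A] [CommRing B]
    (φ : A →+* B) (hφ : Function.Surjective φ) {M : Type*} [AddCommGroup M] [Module B M]
    {M' : Type*} [AddCommGroup M'] [Module A M'] (F : M ≃+ M')
    (hF : ∀ (a : A) (x : M), F (φ a • x) = a • F x) (q : Ideal B) [q.IsPrime] :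
    Nontrivial (LocalizedModule q.primeCompl M) ↔
      Nontrivial (LocalizedModule (q.comap φ).primeCompl M') := by
  rw [← not_subsingleton_iff_nontrivial, ← not_subsingleton_iff_nontrivial, not_iff_not,
    LocalizedModule.subsingleton_iff, LocalizedModule.subsingleton_iff]
  constructor
  · intro h m'
    obtain ⟨r, hr, hrm⟩ := h (F.symm m')
    obtain ⟨a, rfl⟩ := hφ r
    refine ⟨a, hr, ?_⟩
    have := hF a (F.symm m')
    rw [hrm, map_zero, AddEquiv.apply_symm_apply] at this
    exact this.symm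
  · intro h m
    obtain ⟨a, ha, ham⟩ := h (F m)
    refine ⟨φ a, ha, ?_⟩
    apply F.injective
    rw [hF, ham, map_zero]

variable {A B : Type u} [CommRing A] [CommRing B] [Algebra A B]

/-- `A/p ≃ B/q` for `p` the preimage of `q` under a surjection. -/
noncomputable def quotEquiv (hs : Function.Surjective (algebraMap A B)) (q : Ideal B) :
    (A ⧸ q.comap (algebraMap A B)) ≃ₗ[A] (B ⧸ q) :=
  LinearEquiv.ofBijective (Ideal.quotientMapₐ q (Algebra.ofId A B) le_rfl).toLinearMap
    ⟨Ideal.quotientMap_injective (f := (Algebra.ofId A B : A →+* B)),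
      Ideal.quotientMap_surjective (f := (Algebra.ofId A B : A →+* B)) (H := le_rfl) hs⟩

theorem main (hs : Function.Surjective (algebraMap A B)) (R : Dual.D A ⥤ Dual.D B)
    (adj : DRing.restrictD (algebraMap A B) ⊣ R) (ω : Dual.D A) (q : PrimeSpectrum B) (i : ℤ) :
    Nontrivial (LocalizedModule q.asIdeal.primeCompl
        (Dual.inD B (B ⧸ q.asIdeal) ⟶ (R.obj ω)⟦i⟧)) ↔
      Nontrivial (LocalizedModule (q.asIdeal.comap (algebraMap A B)).primeCompl
        (Dual.inD A (A ⧸ q.asIdeal.comap (algebraMap A B)) ⟶ ω⟦i⟧)) := by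
  have h := IsCoext.of_adj adj ω
  obtain ⟨E, hE⟩ := IsCoext.exists_shift_equiv h (Dual.inD B (B ⧸ q.asIdeal)) i
  let c : (DRing.restrictD (algebraMap A B)).obj (Dual.inD B (B ⧸ q.asIdeal)) ≅
      Dual.inD A (A ⧸ q.asIdeal.comap (algebraMap A B)) :=
    restrictInDIso (A := A) (B := B) (B ⧸ q.asIdeal) ≪≫
      (DerivedCategory.singleFunctor (ModuleCat.{u} A) 0).mapIso
        (LinearEquiv.toModuleIso (quotEquiv hs q.asIdeal).symm)
  let E' : ((DRing.restrictD (algebraMap A B)).obj (Dual.inD B (B ⧸ q.asIdeal)) ⟶ ω⟦i⟧) ≃ₗ[A]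
      (Dual.inD A (A ⧸ q.asIdeal.comap (algebraMap A B)) ⟶ ω⟦i⟧) :=
    Linear.homCongr A c (Iso.refl _)
  refine nontrivial_localizedModule_iff_of_semilinear (algebraMap A B) hs
    (E.trans E'.toAddEquiv) (fun a x => ?_) q.asIdeal
  change E' (E (algebraMap A B a • x)) = a • E' (E x)
  rw [hE, map_smul]

end Groth.Agent.Lib.Seat90.DeltaSurj
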