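import Mathlib
import Groth.Prelude

/-!
# The different of a finite free algebra with invertible `ω = Hom_A(B, A)` (seat 90)

* `smul_comm_of_invertible`: `ψ a • b = ψ b • a` for a linear form on an invertible module.
* `hom_tr_mem_differentSet`, `exists_hom_of_mem_differentSet`: the different is `{ψ(τ)}`.
* `discr_mem_span_norm`: the discriminant lies in the ideal generated by norms of the different.
-/

set_option autoImplicit false
universe u

namespace Groth.Agent.Lib.Seat90.DiscInv

open TensorProduct Disc

section RankOne

variable {R M : Type*} [CommRing R] [AddCommGroup M] [Module R M] [Module.Invertible R M]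

theorem smul_comm_of_invertible (ψ : M →ₗ[R] R) (a b : M) : ψ a • b = ψ b • a := by
  have h := congrArg (TensorProduct.lift ((LinearMap.lsmul R M).comp ψ))
    (Module.Invertible.tmul_comm (R := R) (m₁ := a) (m₂ := b))
  simpa using h

end RankOne

section

variable {A B : Type u} [CommRing A] [CommRing B] [Algebra A B]

/-- the trace element, without instance requirements -/
noncomputable def tr : Omega A B := ⟨Algebra.trace A B⟩

/-- `toLinearMap` as an additive map -/
def toLM : Omega A B →+ (B →ₗ[A] A) where
  toFun := Omega.toLinearMap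
  map_zero' := rfl
  map_add' _ _ := rfl

theorem hom_tr_mem_differentSet [Module.Invertible B (Omega A B)] (ψ : Omega A B →ₗ[B] B) :
    ψ tr ∈ differentSet A B := by
  intro φ
  refine ⟨ψ ⟨φ⟩, fun x => ?_⟩
  have h := smul_comm_of_invertible ψ (tr : Omega A B) ⟨φ⟩
  have h2 := congrArg (fun w : Omega A B => w.toLinearMap x) h
  simpa [tr] using h2

theorem exists_hom_of_mem_differentSet [Module.Invertible B (Omega A B)] (x : B)
    (hx : x ∈ differentSet A B) : ∃ ψ : Omega A B →ₗ[B] B, ψ tr = x := by
  let T : B →ₗ[B] Omega A B := LinearMap.toSpanSingleton B (Omega A B) tr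
  have hmem : ∀ φ : Omega A B, LinearMap.lsmul B (Omega A B) x φ ∈ LinearMap.range T := by
    intro φ
    obtain ⟨c, hc⟩ := hx φ.toLinearMap
    refine ⟨c, ?_⟩
    apply Omega.ext
    apply LinearMap.ext
    intro y
    simp [T, tr, hc]
  let g : Omega A B →ₗ[B] LinearMap.range T :=
    (LinearMap.lsmul B (Omega A B) x).codRestrict _ hmem
  obtain ⟨ψ, hψ⟩ := Module.projective_lifting_property T.rangeRestrict g
    T.surjective_rangeRestrict
  refine ⟨ψ, ?_⟩
  have h1 : ∀ φ : Omega A B, ψ φ • (tr : Omega A B) = x • φ := by
    intro φ
    have := congrArg (fun w => ((w φ : LinearMap.range T) : Omega A B)) hψ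
    simpa [T, g] using this
  apply eq_of_smul_eq_smul (α := Omega A B)
  intro φ
  rw [smul_comm_of_invertible ψ tr φ, h1]

end

end Groth.Agent.Lib.Seat90.DiscInv
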