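import Mathlib
import Groth.Prelude
import Groth.Agent.Lib.Seat90DiscInv

/-!
# The discriminant lies in the ideal of norms of the different (seat 90)
-/

set_option autoImplicit false
universe u

namespace Groth.Agent.Lib.Seat90.DiscInv

open TensorProduct Disc

variable {A B : Type u} [CommRing A] [CommRing B] [Algebra A B]
variable {ι : Type} [Fintype ι] [DecidableEq ι] (b : Module.Basis ι A B)

/-- the `A`-linear endomorphism `b_i ↦ ψ(b_i^*)` -/
noncomputable def fψ (ψ : Omega A B →ₗ[B] B) : B →ₗ[A] B :=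
  b.constr A (fun i => ψ ⟨b.coord i⟩)

theorem leftMulMatrix_hom_tr [Module.Invertible B (Omega A B)] (ψ : Omega A B →ₗ[B] B) :
    Algebra.leftMulMatrix b (ψ tr) =
      (LinearMap.toMatrix b b (fψ b ψ)).transpose * Algebra.traceMatrix A b := by
  ext i j
  rw [Algebra.leftMulMatrix_eq_repr_mul, Matrix.mul_apply]
  have h := smul_comm_of_invertible ψ (tr : Omega A B) ⟨b.coord i⟩
  have h1 : b.coord i (ψ tr * b j) = Algebra.trace A B (ψ ⟨b.coord i⟩ * b j) := by
    have h2 := congrArg (fun w : Omega A B => w.toLinearMap (b j)) h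
    simpa [tr] using h2
  rw [Module.Basis.coord_apply] at h1
  rw [h1]
  conv_lhs => rw [← b.sum_repr (ψ ⟨b.coord i⟩)]
  rw [Finset.sum_mul, map_sum]
  refine Finset.sum_congr rfl fun k _ => ?_
  rw [smul_mul_assoc, map_smul, smul_eq_mul, Algebra.traceMatrix_apply, Algebra.traceForm_apply,
    Matrix.transpose_apply, LinearMap.toMatrix_apply, fψ, Module.Basis.constr_basis]

theorem norm_hom_tr [Module.Invertible B (Omega A B)] (ψ : Omega A B →ₗ[B] B) :
    Algebra.norm A (ψ tr) = (LinearMap.toMatrix b b (fψ b ψ)).det * Algebra.discr A b := by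
  rw [Algebra.norm_eq_matrix_det b, leftMulMatrix_hom_tr, Matrix.det_mul, Matrix.det_transpose,
    Algebra.discr_def]

/-- `fψ` hits every value of `ψ`. -/
theorem exists_fψ_eq (ψ : Omega A B →ₗ[B] B) (w : Omega A B) : ∃ y : B, fψ b ψ y = ψ w := by
  refine ⟨∑ i, w.toLinearMap (b i) • b i, ?_⟩
  have hw : w = ∑ i, algebraMap A B (w.toLinearMap (b i)) • (⟨b.coord i⟩ : Omega A B) := by
    apply Omega.ext
    change toLM w = toLM _
    rw [map_sum]
    apply LinearMap.ext
    intro z
    rw [LinearMap.sum_apply]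
    have h1 : ∀ i, toLM (algebraMap A B (w.toLinearMap (b i)) • (⟨b.coord i⟩ : Omega A B)) z =
        (w.toLinearMap (b i) • b.coord i) z := by
      intro i
      change b.coord i (algebraMap A B (w.toLinearMap (b i)) * z) = _
      rw [← Algebra.smul_def, map_smul]
      rfl
    simp_rw [h1]
    rw [← LinearMap.sum_apply, Module.Basis.sum_dual_apply_smul_coord]
    rfl
  conv_rhs => rw [hw]
  rw [map_sum, map_sum]
  refine Finset.sum_congr rfl fun i _ => ?_
  rw [map_smul, map_smul, fψ, Module.Basis.constr_basis, Algebra.smul_def, smul_eq_mul]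

theorem repr_mem_of_mem_map (m : Ideal A) (z : B) (hz : z ∈ m.map (algebraMap A B)) (k : ι) :
    b.repr z k ∈ m := by
  have hz' : z ∈ (m • ⊤ : Submodule A B) := by
    rw [Ideal.smul_top_eq_map]
    exact hz
  refine Submodule.smul_induction_on (p := fun z => b.repr z k ∈ m) hz' ?_ ?_
  · intro a ha y _
    change b.repr (a • y) k ∈ m
    rw [map_smul, Finsupp.smul_apply, smul_eq_mul]
    exact Ideal.mul_mem_right _ _ ha
  · intro x y hx hy
    change b.repr (x + y) k ∈ m
    rw [map_add, Finsupp.add_apply]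
    exact m.add_mem hx hy

theorem det_not_mem_of_surjective_mod (m : Ideal A) [hm : m.IsMaximal] (f : B →ₗ[A] B)
    (hf : ∀ z : B, ∃ y : B, z - f y ∈ m.map (algebraMap A B)) :
    (LinearMap.toMatrix b b f).det ∉ m := by
  choose y hy using fun j => hf (b j)
  have hcomp : ((LinearMap.toMatrix b b f) * (LinearMap.toMatrix b b (b.constr A y))).map
      (Ideal.Quotient.mk m) = 1 := by
    rw [← LinearMap.toMatrix_comp]
    ext k j
    rw [Matrix.map_apply, LinearMap.toMatrix_apply, LinearMap.comp_apply,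
      Module.Basis.constr_basis, Matrix.one_apply]
    have h1 : b.repr (b j - f (y j)) k ∈ m := repr_mem_of_mem_map b m _ (hy j) k
    rw [map_sub, Finsupp.sub_apply, Module.Basis.repr_self, Finsupp.single_apply] at h1
    have h2 := Ideal.Quotient.eq.mpr h1
    rw [← h2]
    by_cases hkj : k = j
    · subst hkj
      simp
    · have : ¬ j = k := fun h => hkj h.symm
      simp [hkj, this]
  intro hdet
  have h3 := congrArg Matrix.det hcomp
  rw [← RingHom.mapMatrix_apply, ← RingHom.map_det, Matrix.det_mul, map_mul, Matrix.det_one,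
    Ideal.Quotient.eq_zero_iff_mem.mpr hdet, zero_mul] at h3
  have : Nontrivial (A ⧸ m) := Ideal.Quotient.nontrivial_iff.mpr hm.ne_top
  exact zero_ne_one h3

theorem exists_hom_surjective_mod [Module.Finite A B] [Module.Invertible B (Omega A B)]
    (m : Ideal A) [hm : m.IsMaximal] :
    ∃ ψ : Omega A B →ₗ[B] B, ∀ z : B, ∃ w : Omega A B, z - ψ w ∈ m.map (algebraMap A B) := by
  have : IsArtinianRing (A ⧸ m) := by
    let _ := Ideal.Quotient.field m
    infer_instance
  have : Module.Finite (A ⧸ m) (B ⧸ m.map (algebraMap A B)) :=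
    Module.Finite.of_restrictScalars_finite A (A ⧸ m) (B ⧸ m.map (algebraMap A B))
  have : IsArtinianRing (B ⧸ m.map (algebraMap A B)) :=
    IsArtinianRing.of_finite (A ⧸ m) (B ⧸ m.map (algebraMap A B))
  have hfree : Module.Free (B ⧸ m.map (algebraMap A B))
      ((B ⧸ m.map (algebraMap A B)) ⊗[B] Omega A B) := inferInstance
  obtain ⟨e⟩ := Module.Invertible.free_iff_linearEquiv.mp hfree
  let g : Omega A B →ₗ[B] B ⧸ m.map (algebraMap A B) :=
    (e.toLinearMap.restrictScalars B) ∘ₗ
      (TensorProduct.mk B (B ⧸ m.map (algebraMap A B)) (Omega A B) 1)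
  obtain ⟨ψ, hψ⟩ := Module.projective_lifting_property
    (Ideal.Quotient.mkₐ B (m.map (algebraMap A B))).toLinearMap g Ideal.Quotient.mk_surjective
  refine ⟨ψ, fun z => ?_⟩
  have hsurj := TensorProduct.mk_surjective B (Omega A B) (B ⧸ m.map (algebraMap A B))
    Ideal.Quotient.mk_surjective
  obtain ⟨w, hw⟩ := hsurj (e.symm (Ideal.Quotient.mk _ z))
  refine ⟨w, ?_⟩
  rw [← Ideal.Quotient.eq]
  have h1 := congrArg (fun h => h w) hψ
  simp only [LinearMap.comp_apply, AlgHom.toLinearMap_apply, Ideal.Quotient.mkₐ_eq_mk, g,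
    LinearMap.restrictScalars_apply, LinearEquiv.coe_coe] at h1
  rw [h1, hw, LinearEquiv.apply_symm_apply]

theorem discr_mem_span_norm [Module.Invertible B (Omega A B)] :
    Algebra.discr A b ∈ Ideal.span (Algebra.norm A '' differentSet A B) := by
  have : Module.Finite A B := Module.Finite.of_basis b
  have h : ∀ a ∈ Ideal.span {d : A | ∃ ψ : Omega A B →ₗ[B] B,
      d = (LinearMap.toMatrix b b (fψ b ψ)).det},
      a * Algebra.discr A b ∈ Ideal.span (Algebra.norm A '' differentSet A B) := by
    intro a ha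
    induction ha using Submodule.span_induction with
    | mem x hx =>
      obtain ⟨ψ, rfl⟩ := hx
      rw [← norm_hom_tr]
      exact Ideal.subset_span ⟨_, hom_tr_mem_differentSet ψ, rfl⟩
    | zero => simp
    | add x y _ _ hx hy =>
      rw [add_mul]
      exact Ideal.add_mem _ hx hy
    | smul c x _ hx =>
      rw [smul_eq_mul, mul_assoc]
      exact Ideal.mul_mem_left _ c hx
  have htop : Ideal.span {d : A | ∃ ψ : Omega A B →ₗ[B] B,
      d = (LinearMap.toMatrix b b (fψ b ψ)).det} = ⊤ := by
    by_contra hne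
    obtain ⟨m, hm, hle⟩ := Ideal.exists_le_maximal _ hne
    obtain ⟨ψ, hψ⟩ := exists_hom_surjective_mod (A := A) (B := B) m
    have hf : ∀ z : B, ∃ y : B, z - fψ b ψ y ∈ m.map (algebraMap A B) := by
      intro z
      obtain ⟨w, hw⟩ := hψ z
      obtain ⟨y, hy⟩ := exists_fψ_eq b ψ w
      exact ⟨y, by rw [hy]; exact hw⟩
    exact det_not_mem_of_surjective_mod b m (fψ b ψ) hf (hle (Ideal.subset_span ⟨ψ, rfl⟩))
  have := h 1 (htop ▸ Submodule.mem_top)
  rwa [one_mul] at this

end Groth.Agent.Lib.Seat90.DiscInv
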