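import Mathlib
import Groth.Prelude
import Groth.Agent.Lib.Helper27NoetherDiff

/-!
# The different and the Noether different have the same radical (finite free case; seat 90)

* `lmul_mem_differentSet`: `μ(ξ)` lies in the different for `ξ` in the annihilator of the diagonal.
* `exists_hom_sq`: for `x` in the different there is `ψ : ω → B` with `ψ(τ) = x²`.
-/

set_option autoImplicit false
universe u v

namespace Groth.Agent.Lib.Seat90.DiscUnram

open TensorProduct Disc
open Groth.Agent.Lib.Helper27NoetherDiff

variable {A : Type u} {B : Type v} [CommRing A] [CommRing B] [Algebra A B]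

theorem trace_pair (φ : B →ₗ[A] A) (ξ : B ⊗[A] B) :
    Algebra.trace A B (pair φ ξ) =
      φ (pair (Algebra.trace A B) (Algebra.TensorProduct.comm A B B ξ)) := by
  induction ξ using TensorProduct.induction_on with
  | zero => simp
  | tmul x y => simp [mul_comm]
  | add x y hx hy => simp only [map_add, hx, hy]

theorem lmul_comm (ξ : B ⊗[A] B) :
    Algebra.TensorProduct.lmul' (S := B) A (Algebra.TensorProduct.comm A B B ξ) =
      Algebra.TensorProduct.lmul' (S := B) A ξ := by
  induction ξ using TensorProduct.induction_on with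
  | zero => simp
  | tmul x y => simp [mul_comm]
  | add x y hx hy => simp only [map_add, hx, hy]

theorem comm_mem_ann (ξ : B ⊗[A] B)
    (hξ : ξ ∈ Submodule.annihilator (RingHom.ker (Algebra.TensorProduct.lmul' (S := B) A))) :
    Algebra.TensorProduct.comm A B B ξ ∈
      Submodule.annihilator (RingHom.ker (Algebra.TensorProduct.lmul' (S := B) A)) := by
  rw [mem_ann_iff] at hξ ⊢
  intro c
  have h1 : (c ⊗ₜ[A] (1 : B)) = Algebra.TensorProduct.comm A B B ((1 : B) ⊗ₜ[A] c) := by simp
  have h2 : ((1 : B) ⊗ₜ[A] c) = Algebra.TensorProduct.comm A B B (c ⊗ₜ[A] (1 : B)) := by simp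
  rw [h1, ← map_mul, ← hξ c, map_mul, ← h2]

variable [Module.Finite A B] [Module.Free A B]

theorem pair_trace_eq_lmul (ξ : B ⊗[A] B)
    (hξ : ξ ∈ Submodule.annihilator (RingHom.ker (Algebra.TensorProduct.lmul' (S := B) A))) :
    pair (Algebra.trace A B) ξ = Algebra.TensorProduct.lmul' (S := B) A ξ := by
  classical
  let b : Module.Basis (Module.Free.ChooseBasisIndex A B) A B := Module.Free.chooseBasis A B
  rw [mem_ann_iff] at hξ
  rw [pair_trace b, ← sum_mul_pair b]
  refine Finset.sum_congr rfl (fun j _ => ?_)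
  rw [hξ, pair_mul_right]

theorem lmul_mem_differentSet (ξ : B ⊗[A] B)
    (hξ : ξ ∈ Submodule.annihilator (RingHom.ker (Algebra.TensorProduct.lmul' (S := B) A))) :
    Algebra.TensorProduct.lmul' (S := B) A ξ ∈ differentSet A B := by
  intro φ
  refine ⟨pair φ ξ, fun y => ?_⟩
  have h1 : pair φ ξ * y = pair (φ ∘ₗ LinearMap.mulLeft A y) ξ := by
    rw [mul_comm, ← pair_mul_right, ← (mem_ann_iff ξ).mp hξ y, pair_mul_left]
  rw [h1, trace_pair, pair_trace_eq_lmul _ (comm_mem_ann ξ hξ), lmul_comm]
  simp [mul_comm]

theorem eq_zero_of_smul_eq_zero (z : B) (hz : ∀ φ : Omega A B, z • φ = 0) : z = 0 := by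
  classical
  let b : Module.Basis (Module.Free.ChooseBasisIndex A B) A B := Module.Free.chooseBasis A B
  apply b.repr.injective
  ext i
  have h := congrArg (fun w : Omega A B => w.toLinearMap 1) (hz ⟨b.coord i⟩)
  simpa using h

theorem exists_hom_sq (x : B) (hx : x ∈ differentSet A B) :
    ∃ ψ : Omega A B →ₗ[B] B, ψ ⟨Algebra.trace A B⟩ = x * x := by
  choose c hc using hx
  -- well-definedness
  have W : ∀ n : B, (∀ y, Algebra.trace A B (n * y) = 0) → x * n = 0 := by
    intro n hn
    apply eq_zero_of_smul_eq_zero (A := A)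
    intro φ
    apply Omega.ext
    apply LinearMap.ext
    intro y
    change φ.toLinearMap (x * n * y) = 0
    rw [mul_assoc, hc, ← mul_assoc, mul_comm (c _) n, mul_assoc]
    exact hn _
  have W' : ∀ u v : B, (∀ y, Algebra.trace A B (u * y) = Algebra.trace A B (v * y)) →
      x * u = x * v := by
    intro u v h
    have := W (u - v) (fun y => by rw [sub_mul, map_sub, h, sub_self])
    rw [mul_sub, sub_eq_zero] at this
    exact this
  refine ⟨{ toFun := fun φ => x * c φ.toLinearMap
            map_add' := fun φ φ' => ?_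
            map_smul' := fun z φ => ?_ }, ?_⟩
  · rw [← mul_add]
    apply W'
    intro y
    rw [← hc, add_mul, map_add, ← hc, ← hc]
    rfl
  · rw [RingHom.id_apply, smul_eq_mul, mul_left_comm]
    apply W'
    intro y
    rw [← hc, mul_assoc, mul_left_comm z, ← hc]
    change φ.toLinearMap (z * (x * y)) = φ.toLinearMap (x * (z * y))
    rw [mul_left_comm]
  · change x * c (Algebra.trace A B) = x * x
    apply W'
    intro y
    rw [← hc]

end Groth.Agent.Lib.Seat90.DiscUnram
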