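import Mathlib

/-!
# Elements of `ℤ[X, X⁻¹, 1/(Xⁿ - 1)]` as fractions (seat 90)

Every element of the subring of `ℚ(X)` generated by `X`, `X⁻¹` and the `1/(Xⁿ - 1)` is of the form
`G / (X^a (X^N - 1)^e)` with `G ∈ ℤ[X]`; evaluation of such fractions.
-/

set_option autoImplicit false

namespace Groth.Agent.Lib.Seat90.ExpRat

open Polynomial

/-- the denominators `X^a (X^N - 1)^e` -/
noncomputable def Dz (a N e : ℕ) : ℤ[X] := X ^ a * (X ^ N - 1) ^ e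

/-- `ℤ[X] → ℚ(X)` -/
noncomputable def ι : ℤ[X] →+* RatFunc ℚ :=
  (algebraMap ℚ[X] (RatFunc ℚ)).comp (Polynomial.mapRingHom (Int.castRingHom ℚ))

theorem ι_apply (G : ℤ[X]) :
    ι G = algebraMap ℚ[X] (RatFunc ℚ) (G.map (Int.castRingHom ℚ)) := rfl

theorem ι_X : ι X = RatFunc.X := by
  rw [ι_apply, Polynomial.map_X, RatFunc.algebraMap_X]

theorem ι_injective : Function.Injective ι := by
  intro G H h
  rw [ι_apply, ι_apply] at h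
  exact Polynomial.map_injective _ Int.cast_injective
    (RatFunc.algebraMap_injective ℚ h)

theorem Dz_ne_zero (a N e : ℕ) (hN : 0 < N) : Dz a N e ≠ 0 := by
  unfold Dz
  have h1 : (X ^ N - 1 : ℤ[X]).Monic := monic_X_pow_sub_C (1 : ℤ) hN.ne'
  exact ((monic_X_pow a).mul (h1.pow e)).ne_zero

theorem Dz_dvd (a₁ N₁ e₁ a₂ N₂ e₂ : ℕ) :
    Dz a₁ N₁ e₁ ∣ Dz (a₁ + a₂) (N₁ * N₂) (e₁ + e₂) := by
  unfold Dz
  apply mul_dvd_mul (pow_dvd_pow _ (Nat.le_add_right _ _))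
  have h : (X ^ N₁ - 1 : ℤ[X]) ∣ X ^ (N₁ * N₂) - 1 := by
    have := sub_dvd_pow_sub_pow ((X : ℤ[X]) ^ N₁) 1 N₂
    rwa [one_pow, ← pow_mul] at this
  exact (pow_dvd_pow_of_dvd h e₁).trans (pow_dvd_pow _ (Nat.le_add_right _ _))

theorem Dz_dvd' (a₁ N₁ e₁ a₂ N₂ e₂ : ℕ) :
    Dz a₂ N₂ e₂ ∣ Dz (a₁ + a₂) (N₁ * N₂) (e₁ + e₂) := by
  rw [add_comm a₁, mul_comm N₁, add_comm e₁]
  exact Dz_dvd _ _ _ _ _ _

theorem Dz_mul_self (a N e : ℕ) : Dz a N e * Dz a N e = Dz (a + a) N (e + e) := by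
  unfold Dz
  rw [pow_add, pow_add]
  ring

/-- `F = G / (X^a (X^N - 1)^e)` with `G ∈ ℤ[X]` -/
def Rep (F : RatFunc ℚ) : Prop :=
  ∃ (G : ℤ[X]) (a N e : ℕ), 0 < N ∧ F * ι (Dz a N e) = ι G

theorem Rep.of_dvd {F : RatFunc ℚ} {G D D' : ℤ[X]} (h : F * ι D = ι G) (hd : D ∣ D') :
    ∃ G' : ℤ[X], F * ι D' = ι G' := by
  obtain ⟨K, rfl⟩ := hd
  exact ⟨G * K, by rw [map_mul, ← mul_assoc, h, map_mul]⟩

theorem rep_add {F₁ F₂ : RatFunc ℚ} (h₁ : Rep F₁) (h₂ : Rep F₂) : Rep (F₁ + F₂) := by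
  obtain ⟨G₁, a₁, N₁, e₁, hN₁, h₁⟩ := h₁
  obtain ⟨G₂, a₂, N₂, e₂, hN₂, h₂⟩ := h₂
  obtain ⟨G₁', h₁'⟩ := Rep.of_dvd h₁ (Dz_dvd a₁ N₁ e₁ a₂ N₂ e₂)
  obtain ⟨G₂', h₂'⟩ := Rep.of_dvd h₂ (Dz_dvd' a₁ N₁ e₁ a₂ N₂ e₂)
  exact ⟨G₁' + G₂', a₁ + a₂, N₁ * N₂, e₁ + e₂, Nat.mul_pos hN₁ hN₂, by
    rw [add_mul, h₁', h₂', map_add]⟩

theorem rep_mul {F₁ F₂ : RatFunc ℚ} (h₁ : Rep F₁) (h₂ : Rep F₂) : Rep (F₁ * F₂) := by
  obtain ⟨G₁, a₁, N₁, e₁, hN₁, h₁⟩ := h₁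
  obtain ⟨G₂, a₂, N₂, e₂, hN₂, h₂⟩ := h₂
  obtain ⟨G₁', h₁'⟩ := Rep.of_dvd h₁ (Dz_dvd a₁ N₁ e₁ a₂ N₂ e₂)
  obtain ⟨G₂', h₂'⟩ := Rep.of_dvd h₂ (Dz_dvd' a₁ N₁ e₁ a₂ N₂ e₂)
  refine ⟨G₁' * G₂', (a₁ + a₂) + (a₁ + a₂), N₁ * N₂, (e₁ + e₂) + (e₁ + e₂),
    Nat.mul_pos hN₁ hN₂, ?_⟩
  rw [← Dz_mul_self, map_mul, map_mul, ← h₁', ← h₂']
  ring

theorem rep_neg {F : RatFunc ℚ} (h : Rep F) : Rep (-F) := by
  obtain ⟨G, a, N, e, hN, h⟩ := h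
  exact ⟨-G, a, N, e, hN, by rw [neg_mul, h, map_neg]⟩

theorem Dz_zero_one_zero : Dz 0 1 0 = 1 := by
  unfold Dz
  simp

theorem rep_of_mem {F : RatFunc ℚ}
    (hF : F ∈ Subring.closure
      (({RatFunc.X, (RatFunc.X : RatFunc ℚ)⁻¹} : Set (RatFunc ℚ)) ∪
        Set.range fun n : ℕ => ((RatFunc.X : RatFunc ℚ) ^ (n + 1) - 1)⁻¹)) : Rep F := by
  induction hF using Subring.closure_induction with
  | mem x hx =>
    rcases hx with (rfl | hx) | ⟨n, rfl⟩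
    · exact ⟨X, 0, 1, 0, Nat.one_pos, by rw [Dz_zero_one_zero, map_one, mul_one, ι_X]⟩
    · rw [Set.mem_singleton_iff] at hx
      subst hx
      refine ⟨1, 1, 1, 0, Nat.one_pos, ?_⟩
      have : Dz 1 1 0 = X := by unfold Dz; simp
      rw [this, ι_X, map_one]
      exact inv_mul_cancel₀ RatFunc.X_ne_zero
    · refine ⟨1, 0, n + 1, 1, Nat.succ_pos n, ?_⟩
      have : Dz 0 (n + 1) 1 = X ^ (n + 1) - 1 := by unfold Dz; simp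
      rw [this, map_sub, map_pow, ι_X, map_one]
      apply inv_mul_cancel₀
      intro h
      have h2 : ι (X ^ (n + 1) - 1) = 0 := by rw [map_sub, map_pow, ι_X, map_one]; exact h
      have h3 : (X ^ (n + 1) - 1 : ℤ[X]) = 0 := ι_injective (by rw [h2, map_zero])
      exact (monic_X_pow_sub_C (1 : ℤ) (Nat.succ_ne_zero n)).ne_zero (by simpa using h3)
  | zero => exact ⟨0, 0, 1, 0, Nat.one_pos, by rw [zero_mul, map_zero]⟩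
  | one => exact ⟨1, 0, 1, 0, Nat.one_pos, by rw [Dz_zero_one_zero, map_one, mul_one]⟩
  | add x y _ _ hx hy => exact rep_add hx hy
  | neg x _ hx => exact rep_neg hx
  | mul x y _ _ hx hy => exact rep_mul hx hy

/-- Evaluation of a fraction. -/
theorem eval_eq_div {F : RatFunc ℚ} {G D : ℚ[X]}
    (h : F * algebraMap ℚ[X] (RatFunc ℚ) D = algebraMap ℚ[X] (RatFunc ℚ) G) (x : ℚ)
    (hD : D.eval x ≠ 0) :
    F.eval (RingHom.id ℚ) x = G.eval x / D.eval x := by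
  have hD0 : D ≠ 0 := by
    rintro rfl
    simp at hD
  have hA : algebraMap ℚ[X] (RatFunc ℚ) D ≠ 0 := RatFunc.algebraMap_ne_zero hD0
  have hF : F = algebraMap ℚ[X] (RatFunc ℚ) G / algebraMap ℚ[X] (RatFunc ℚ) D := by
    rw [eq_div_iff hA, h]
  have hden : F.denom ∣ D := (RatFunc.denom_dvd hD0).2 ⟨G, hF⟩
  have hden' : Polynomial.eval₂ (RingHom.id ℚ) x F.denom ≠ 0 := by
    intro h0
    apply hD
    have := Polynomial.eval₂_eq_zero_of_dvd_of_eval₂_eq_zero (RingHom.id ℚ) x hden h0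
    rwa [Polynomial.eval₂_id] at this
  have h1 := RatFunc.eval_mul (f := RingHom.id ℚ) (a := x) (x := F)
    (y := algebraMap ℚ[X] (RatFunc ℚ) D) hden' (by
      rw [RatFunc.denom_algebraMap]
      simp)
  rw [h, RatFunc.eval_algebraMap, RatFunc.eval_algebraMap] at h1
  simp only [Algebra.algebraMap_self, RingHom.id_apply, Polynomial.eval₂_id] at h1
  rw [eq_div_iff hD, ← h1]

end Groth.Agent.Lib.Seat90.ExpRat
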