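import Mathlib
import Groth.Agent.S14192
import Groth.Agent.Lib.Seat90ExpRatA

/-!
# Rationality of `exp(Σ u(v) t^v / v)` gives a linear recurrence for `u` (seat 90)
-/

set_option autoImplicit false

namespace Groth.Agent.Lib.Seat90.ExpRat

open PowerSeries

/-- `Σ_{v ≥ 1} u(v) t^v / v` -/
noncomputable def gser (u : ℕ → ℚ) : ℚ⟦X⟧ :=
  PowerSeries.mk fun v : ℕ => if v = 0 then (0 : ℚ) else u v / (v : ℚ)

lemma constantCoeff_gser (u : ℕ → ℚ) : constantCoeff (gser u) = 0 := by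
  rw [← coeff_zero_eq_constantCoeff_apply, gser, coeff_mk]
  simp

lemma derivative_gser (u : ℕ → ℚ) :
    d⁄dX ℚ (gser u) = PowerSeries.mk fun v : ℕ => u (v + 1) := by
  ext n
  rw [coeff_derivative, gser, coeff_mk, coeff_mk]
  simp only [Nat.add_eq_zero_iff, one_ne_zero, and_false, if_false]
  have : ((n : ℚ) + 1) ≠ 0 := by positivity
  push_cast
  field_simp

theorem key_identity (u : ℕ → ℚ) (P Q : Polynomial ℚ)
    (h : (PowerSeries.exp ℚ).subst (gser u) * (Q : ℚ⟦X⟧) = (P : ℚ⟦X⟧)) :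
    ((P * Q : Polynomial ℚ) : ℚ⟦X⟧) * (PowerSeries.mk fun v : ℕ => u (v + 1)) =
      ((Polynomial.derivative P * Q - P * Polynomial.derivative Q : Polynomial ℚ) : ℚ⟦X⟧) := by
  have hZ := Groth.Agent.S14192.derivative_E (constantCoeff_gser u)
  rw [derivative_gser] at hZ
  have h' : Groth.Agent.S14192.E (gser u) * (Q : ℚ⟦X⟧) = P := h
  have h1 := congrArg (d⁄dX ℚ) h'
  rw [Derivation.leibniz, hZ, derivative_coe, derivative_coe] at h1
  simp only [smul_eq_mul] at h1
  rw [Polynomial.coe_mul, Polynomial.coe_sub, Polynomial.coe_mul, Polynomial.coe_mul, ← h1, ← h']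
  ring

theorem P_ne_zero (u : ℕ → ℚ) (P Q : Polynomial ℚ) (hQ : Q ≠ 0)
    (h : (PowerSeries.exp ℚ).subst (gser u) * (Q : ℚ⟦X⟧) = (P : ℚ⟦X⟧)) : P ≠ 0 := by
  rintro rfl
  have h' : Groth.Agent.S14192.E (gser u) * (Q : ℚ⟦X⟧) = 0 := by
    rw [show Groth.Agent.S14192.E (gser u) = (PowerSeries.exp ℚ).subst (gser u) from rfl, h]
    simp
  rcases mul_eq_zero.mp h' with h0 | h0
  · have := Groth.Agent.S14192.constantCoeff_E (constantCoeff_gser u)
    rw [h0] at this
    simp at this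
  · exact hQ (Polynomial.coe_injective ℚ (by simpa using h0))

theorem recurrence_of_mul (U : ℕ → ℚ) (A B : Polynomial ℚ)
    (h : (A : ℚ⟦X⟧) * (PowerSeries.mk U) = (B : ℚ⟦X⟧)) (m : ℕ) (hm : B.natDegree < m) :
    ∑ j ∈ Finset.range (A.natDegree + 1), A.coeff (A.natDegree - j) * U (m + j) = 0 := by
  have h1 := congrArg (coeff (m + A.natDegree)) h
  rw [coeff_mul, Polynomial.coeff_coe, Polynomial.coeff_eq_zero_of_natDegree_lt (by omega)] at h1
  rw [Finset.Nat.sum_antidiagonal_eq_sum_range_succ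
    (fun i j => coeff i (A : ℚ⟦X⟧) * coeff j (PowerSeries.mk U))] at h1
  simp only [Polynomial.coeff_coe, coeff_mk] at h1
  rw [show (m + A.natDegree).succ = (A.natDegree + 1) + m by omega, Finset.sum_range_add] at h1
  rw [Finset.sum_eq_zero (s := Finset.range m), add_zero] at h1
  swap
  · intro x _
    rw [Polynomial.coeff_eq_zero_of_natDegree_lt (by omega), zero_mul]
  rw [← Finset.sum_range_reflect] at h1
  rw [← h1]
  apply Finset.sum_congr rfl
  intro j hj
  rw [Finset.mem_range] at hj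
  congr 2 <;> omega

/-- Rationality gives a linear recurrence with non-zero leading coefficient. -/
theorem exists_recurrence (u : ℕ → ℚ) (P Q : Polynomial ℚ) (hQ : Q ≠ 0)
    (h : (PowerSeries.exp ℚ).subst (gser u) * (Q : ℚ⟦X⟧) = (P : ℚ⟦X⟧)) :
    ∃ (c : ℕ → ℚ) (d M₀ : ℕ), c 0 ≠ 0 ∧
      ∀ m, M₀ ≤ m → ∑ j ∈ Finset.range (d + 1), c j * u (m + j + 1) = 0 := by
  have hP := P_ne_zero u P Q hQ h
  have hA : P * Q ≠ 0 := mul_ne_zero hP hQ
  refine ⟨fun j => (P * Q).coeff ((P * Q).natDegree - j), (P * Q).natDegree,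
    (Polynomial.derivative P * Q - P * Polynomial.derivative Q).natDegree + 1, ?_, ?_⟩
  · simpa using hA
  · intro m hm
    exact recurrence_of_mul (fun v => u (v + 1)) _ _ (key_identity u P Q h) m (by omega)

end Groth.Agent.Lib.Seat90.ExpRat
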