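import Mathlib
import Groth.Agent.Lib.Seat90ExpRatA

/-!
# A linear recurrence for the values `F(q^v)` forces the denominator away (seat 90)
-/

set_option autoImplicit false

namespace Groth.Agent.Lib.Seat90.ExpRat

open Polynomial

/-- `σ_j = q^j X` -/
noncomputable def sig (q : ℚ) (j : ℕ) : ℚ[X] := C (q ^ j) * X

lemma sig_zero (q : ℚ) : sig q 0 = X := by
  unfold sig
  simp

lemma eval_comp_sig (q : ℚ) (G : ℚ[X]) (j m : ℕ) :
    (G.comp (sig q j)).eval (q ^ (m + 1)) = G.eval (q ^ (m + j + 1)) := by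
  rw [eval_comp, sig, eval_mul, eval_C, eval_X]
  congr 1
  ring

/-- the denominators over `ℚ` -/
noncomputable def Dq (a N e : ℕ) : ℚ[X] := X ^ a * (X ^ N - 1) ^ e

lemma Dq_eval (a N e : ℕ) (x : ℚ) : (Dq a N e).eval x = x ^ a * (x ^ N - 1) ^ e := by
  unfold Dq
  simp

lemma Dq_eval_ne_zero {q : ℚ} (hq : 1 < q) (a N e : ℕ) (hN : 0 < N) (v : ℕ) (hv : 0 < v) :
    (Dq a N e).eval (q ^ v) ≠ 0 := by
  rw [Dq_eval]
  have h0 : (0 : ℚ) < q := lt_trans zero_lt_one hq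
  have h1 : 1 < (q ^ v) ^ N := by
    rw [← pow_mul]
    exact one_lt_pow₀ hq (Nat.mul_pos hv hN).ne'
  apply mul_ne_zero
  · exact pow_ne_zero _ (pow_ne_zero _ h0.ne')
  · exact pow_ne_zero _ (sub_pos.mpr h1).ne'

lemma Dq_comp (a N e : ℕ) (s : ℚ[X]) : (Dq a N e).comp s = s ^ a * (s ^ N - 1) ^ e := by
  unfold Dq
  simp

lemma isCoprime_sig {q : ℚ} (hq : 1 < q) (N : ℕ) (hN : 0 < N) (i : ℕ) :
    IsCoprime (X ^ N - 1 : ℚ[X]) (sig q i) := by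
  have h0 : (0 : ℚ) < q := lt_trans zero_lt_one hq
  have hc : q ^ i ≠ 0 := pow_ne_zero _ h0.ne'
  refine ⟨-1, C ((q ^ i)⁻¹) * X ^ (N - 1), ?_⟩
  unfold sig
  have hX : (X : ℚ[X]) ^ (N - 1) * X = X ^ N := by
    rw [← pow_succ]
    congr 1
    omega
  have : C ((q ^ i)⁻¹) * X ^ (N - 1) * (C (q ^ i) * X) =
      C ((q ^ i)⁻¹ * q ^ i) * ((X : ℚ[X]) ^ (N - 1) * X) := by
    rw [C_mul]
    ring
  rw [this, hX, inv_mul_cancel₀ hc, C_1]
  ring

lemma isCoprime_sig_pow_sub_one {q : ℚ} (hq : 1 < q) (N : ℕ) (hN : 0 < N) (i : ℕ) (hi : 0 < i) :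
    IsCoprime (X ^ N - 1 : ℚ[X]) (sig q i ^ N - 1) := by
  have h1 : 1 < (q ^ i) ^ N := by
    rw [← pow_mul]
    exact one_lt_pow₀ hq (Nat.mul_pos hi hN).ne'
  have hne : 1 - (q ^ i) ^ N ≠ 0 := (sub_neg.mpr h1).ne
  refine ⟨C ((1 - (q ^ i) ^ N)⁻¹) * C ((q ^ i) ^ N), -C ((1 - (q ^ i) ^ N)⁻¹), ?_⟩
  unfold sig
  rw [mul_pow, ← C_pow]
  have : C ((1 - (q ^ i) ^ N)⁻¹) * C ((q ^ i) ^ N) * ((X : ℚ[X]) ^ N - 1) +
      -C ((1 - (q ^ i) ^ N)⁻¹) * (C ((q ^ i) ^ N) * X ^ N - 1) =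
      C ((1 - (q ^ i) ^ N)⁻¹) * (1 - C ((q ^ i) ^ N)) := by ring
  rw [this, ← C_1, ← C_sub, ← C_mul, inv_mul_cancel₀ hne]

lemma isCoprime_Dq_comp {q : ℚ} (hq : 1 < q) (a N e : ℕ) (hN : 0 < N) (i : ℕ) (hi : 0 < i) :
    IsCoprime ((X ^ N - 1 : ℚ[X]) ^ e) ((Dq a N e).comp (sig q i)) := by
  rw [Dq_comp]
  apply IsCoprime.pow_left
  apply IsCoprime.mul_right
  · exact (isCoprime_sig hq N hN i).pow_right
  · exact (isCoprime_sig_pow_sub_one hq N hN i hi).pow_right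

/-- The key divisibility. -/
theorem dvd_of_recurrence {q : ℚ} (hq : 1 < q) (F : RatFunc ℚ) (G : ℚ[X]) (a N e : ℕ)
    (hN : 0 < N)
    (hF : F * algebraMap ℚ[X] (RatFunc ℚ) (Dq a N e) = algebraMap ℚ[X] (RatFunc ℚ) G)
    (c : ℕ → ℚ) (d M₀ : ℕ) (hc : c 0 ≠ 0)
    (hrec : ∀ m, M₀ ≤ m →
      ∑ j ∈ Finset.range (d + 1), c j * F.eval (RingHom.id ℚ) (q ^ (m + j + 1)) = 0) :
    (X ^ N - 1 : ℚ[X]) ^ e ∣ G := by
  classical
  have hu : ∀ v, 0 < v → F.eval (RingHom.id ℚ) (q ^ v) =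
      G.eval (q ^ v) / (Dq a N e).eval (q ^ v) := fun v hv =>
    eval_eq_div hF _ (Dq_eval_ne_zero hq a N e hN v hv)
  -- the polynomial identity
  have hW : ∑ j ∈ Finset.range (d + 1), C (c j) * G.comp (sig q j) *
      ∏ i ∈ (Finset.range (d + 1)).erase j, (Dq a N e).comp (sig q i) = 0 := by
    apply Polynomial.eq_zero_of_infinite_isRoot
    apply Set.infinite_of_injective_forall_mem (f := fun m : ℕ => q ^ (M₀ + m + 1))
    · intro m₁ m₂ h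
      have := pow_right_injective₀ (lt_trans zero_lt_one hq) hq.ne' h
      omega
    · intro m
      show Polynomial.IsRoot _ _
      rw [Polynomial.IsRoot.def, eval_finsetSum, ← zero_mul
        (∏ i ∈ Finset.range (d + 1), ((Dq a N e).comp (sig q i)).eval (q ^ (M₀ + m + 1))),
        ← hrec (M₀ + m) (Nat.le_add_right _ _), Finset.sum_mul]
      apply Finset.sum_congr rfl
      intro j hj
      rw [eval_mul, eval_mul, eval_C, eval_prod, eval_comp_sig,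
        ← Finset.mul_prod_erase _ _ hj, eval_comp_sig, hu _ (Nat.succ_pos _)]
      have hne := Dq_eval_ne_zero hq a N e hN (M₀ + m + j + 1) (Nat.succ_pos _)
      field_simp
  rw [Finset.sum_range_succ', sig_zero, comp_X] at hW
  have h0 : (Dq a N e).comp (sig q 0) ∣
      C (c 0) * G * ∏ i ∈ (Finset.range (d + 1)).erase 0, (Dq a N e).comp (sig q i) := by
    rw [eq_neg_of_add_eq_zero_right hW, dvd_neg]
    apply Finset.dvd_sum
    intro j _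
    apply Dvd.dvd.mul_left
    apply Finset.dvd_prod_of_mem
    rw [Finset.mem_erase, Finset.mem_range]
    exact ⟨by omega, by omega⟩
  rw [sig_zero, comp_X] at h0
  have h1 : (X ^ N - 1 : ℚ[X]) ^ e ∣
      C (c 0) * G * ∏ i ∈ (Finset.range (d + 1)).erase 0, (Dq a N e).comp (sig q i) :=
    (Dvd.intro_left _ rfl).trans h0
  have hcop : IsCoprime ((X ^ N - 1 : ℚ[X]) ^ e)
      (∏ i ∈ (Finset.range (d + 1)).erase 0, (Dq a N e).comp (sig q i)) := by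
    apply IsCoprime.prod_right
    intro i hi
    rw [Finset.mem_erase] at hi
    exact isCoprime_Dq_comp hq a N e hN i (Nat.pos_of_ne_zero hi.1)
  have h2 := hcop.dvd_of_dvd_mul_right h1
  have hunit : IsUnit (C (c 0) : ℚ[X]) := Polynomial.isUnit_C.mpr (isUnit_iff_ne_zero.mpr hc)
  exact (hunit.dvd_mul_left).mp h2

/-- Divisibility by the monic `(X^N - 1)^e` descends from `ℚ[X]` to `ℤ[X]`. -/
theorem exists_int_quotient (G : ℤ[X]) (N e : ℕ) (hN : 0 < N)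
    (h : (X ^ N - 1 : ℚ[X]) ^ e ∣ G.map (Int.castRingHom ℚ)) :
    ∃ K : ℤ[X], G = (X ^ N - 1) ^ e * K := by
  have hM : ((X ^ N - 1 : ℤ[X]) ^ e).Monic := (monic_X_pow_sub_C (1 : ℤ) hN.ne').pow e
  have hmap : ((X ^ N - 1 : ℤ[X]) ^ e).map (Int.castRingHom ℚ) = (X ^ N - 1 : ℚ[X]) ^ e := by
    simp
  have h1 : (G %ₘ ((X ^ N - 1 : ℤ[X]) ^ e)).map (Int.castRingHom ℚ) = 0 := by
    rw [Polynomial.map_modByMonic _ hM, hmap]
    have hM' : ((X ^ N - 1 : ℚ[X]) ^ e).Monic := (monic_X_pow_sub_C (1 : ℚ) hN.ne').pow e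
    exact (Polynomial.modByMonic_eq_zero_iff_dvd hM').2 h
  have h2 : G %ₘ ((X ^ N - 1 : ℤ[X]) ^ e) = 0 :=
    Polynomial.map_injective _ Int.cast_injective (by rw [h1, Polynomial.map_zero])
  obtain ⟨K, hK⟩ := (Polynomial.modByMonic_eq_zero_iff_dvd hM).1 h2
  exact ⟨K, hK⟩

end Groth.Agent.Lib.Seat90.ExpRat
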