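import Mathlib
import Groth.Prelude
import Groth.Agent.Lib.Helper1Extend
import Groth.Agent.Lib.Seat8DualFlat
import Groth.Agent.Lib.Seat8DimFn4
import Groth.Agent.S0364
import Groth.Agent.Lib.Seat8DualPoly
import Groth.Agent.Lib.Seat90ExtTower
import Groth.Agent.Lib.Seat8FinLenDual

/-!
# Ext-degrees of dualizing complexes at maximal ideals, and polynomial extensions (seat 90)
-/

set_option autoImplicit false
set_option linter.dupNamespace false
universe u
open CategoryTheory CategoryTheory.Limits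
attribute [local instance] HasDerivedCategory.standard
open Groth.Agent.Lib.Helper1.Extend Groth.Agent.Lib.Seat8.DimFn
open scoped TensorProduct Polynomial

namespace Groth.Agent.Lib.Seat90.ExtDeg

/-- `Ext^i(A/I, K) = 0` for `i ≠ d` -/
def ExtDeg (A : Type u) [CommRing A] (K : Dual.D A) (I : Ideal A) (d : ℤ) : Prop :=
  ∀ i : ℤ, i ≠ d → Subsingleton (Dual.inD A (A ⧸ I) ⟶ K⟦i⟧)

section BC

variable {A B : Type u} [CommRing A] [CommRing B] [Algebra A B] [Module.Flat A B]

/-- flat base change of the Ext-degree -/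
theorem ExtDeg.baseChange [IsNoetherianRing A] (K : Dual.D A) (c : ℤ) (hGE : K.IsGE c)
    (I : Ideal A) (d : ℤ) (h : ExtDeg A K I d) :
    ExtDeg B ((extD A B).obj K) (I.map (algebraMap A B)) d := by
  intro i hi
  have h1 := Groth.Agent.Lib.Seat8.DualFlat.subsingleton_inD_extD (B := B) (A ⧸ I) K c hGE i
    (h i hi)
  exact Groth.Agent.Lib.Seat8.DualBC.subsingleton_hom_of_iso
    ((DerivedCategory.singleFunctor (ModuleCat.{u} B) 0).mapIso
      (Ideal.qoutMapEquivTensorQout B (I := I)).symm.toModuleIso)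
    (Iso.refl _) h1

theorem ExtDeg.of_iso {K K' : Dual.D A} (e : K ≅ K') (I : Ideal A) (d : ℤ) (h : ExtDeg A K I d) :
    ExtDeg A K' I d := fun i hi =>
  Groth.Agent.Lib.Seat8.DualBC.subsingleton_hom_of_iso (Iso.refl _)
    ((shiftFunctor (Dual.D A) i).mapIso e) (h i hi)

theorem ExtDeg.of_eq {K : Dual.D A} {I J : Ideal A} (hIJ : I = J) (d : ℤ) (h : ExtDeg A K I d) :
    ExtDeg A K J d := by
  subst hIJ
  exact h

end BC

section Deg

variable {A : Type u} [CommRing A] [IsNoetherianRing A]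

/-- the Ext-degree at a prime determines the value of the degree function -/
theorem deg_eq_of_extDeg (ω : Dual.D A) (hω : Dual.IsDualizing A ω) (p : PrimeSpectrum A) (d : ℤ)
    (h : ExtDeg A ω p.asIdeal d) : deg ω hω p = d := by
  by_contra hne
  have h1 := (deg_spec ω hω p (deg ω hω p)).2 rfl
  have h2 := h (deg ω hω p) hne
  have h3 : Subsingleton (LocalizedModule p.asIdeal.primeCompl
      (Dual.inD A (A ⧸ p.asIdeal) ⟶ ω⟦deg ω hω p⟧)) := by
    refine ⟨fun x y => ?_⟩
    induction x using LocalizedModule.induction_on with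
    | h m s =>
      induction y using LocalizedModule.induction_on with
      | h m' s' =>
        rw [Subsingleton.elim m 0, Subsingleton.elim m' 0, LocalizedModule.zero_mk,
          LocalizedModule.zero_mk]
  exact not_subsingleton _ h3

/-- at a maximal ideal, the degree function is the Ext-degree -/
theorem extDeg_of_deg_eq (ω : Dual.D A) (hω : Dual.IsDualizing A ω) (m : Ideal A) [hm : m.IsMaximal]
    (d : ℤ) (h : deg ω hω ⟨m, hm.isPrime⟩ = d) : ExtDeg A ω m d := by
  obtain ⟨n₀, h1, _⟩ := Groth.Agent.S0364.result A ω hω m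
  have h2 := (deg_spec ω hω ⟨m, hm.isPrime⟩ d).2 h.symm
  have h3 : n₀ = d := by
    by_contra hne
    have h4 := h1 d (Ne.symm hne)
    have h5 : Subsingleton (LocalizedModule m.primeCompl (Dual.inD A (A ⧸ m) ⟶ ω⟦d⟧)) := by
      refine ⟨fun x y => ?_⟩
      induction x using LocalizedModule.induction_on with
      | h a s =>
        induction y using LocalizedModule.induction_on with
        | h a' s' =>
          rw [Subsingleton.elim a 0, Subsingleton.elim a' 0, LocalizedModule.zero_mk,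
            LocalizedModule.zero_mk]
    exact not_subsingleton _ h5
  subst h3
  exact h1

end Deg



section Cov

variable {B : Type u} [CommRing B]

/-- `𝔫 B[X]` is covered by any maximal ideal of `B[X]` lying over the maximal ideal `𝔫` -/
theorem covBy_map_C (𝔫 : Ideal B) [h𝔫 : 𝔫.IsMaximal] (𝔫' : Ideal B[X]) [h𝔫' : 𝔫'.IsMaximal]
    (hc : 𝔫'.comap (Polynomial.C) = 𝔫) :
    (⟨𝔫.map Polynomial.C, (Ideal.isPrime_map_C_iff_isPrime 𝔫).2 h𝔫.isPrime⟩ : PrimeSpectrum B[X]) ⋖
      ⟨𝔫', h𝔫'.isPrime⟩ := by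
  have hP0 : (𝔫.map (Polynomial.C : B →+* B[X])).IsPrime := (Ideal.isPrime_map_C_iff_isPrime 𝔫).2 h𝔫.isPrime
  have hle : 𝔫.map (Polynomial.C : B →+* B[X]) ≤ 𝔫' := by
    rw [Ideal.map_le_iff_le_comap, hc]
  letI : Field (B ⧸ 𝔫) := Ideal.Quotient.field 𝔫
  let e : (B ⧸ 𝔫)[X] ≃+* B[X] ⧸ (𝔫.map (Polynomial.C : B →+* B[X])) :=
    Ideal.polynomialQuotientEquivQuotientPolynomial 𝔫
  have hnf : ¬ IsField (B[X] ⧸ (𝔫.map (Polynomial.C : B →+* B[X]))) := fun hf =>
    Polynomial.not_isField (B ⧸ 𝔫) (MulEquiv.isField hf e.toMulEquiv)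
  have hnm : ¬ (𝔫.map (Polynomial.C : B →+* B[X])).IsMaximal := fun hm =>
    hnf ((Ideal.Quotient.maximal_ideal_iff_isField_quotient _).1 hm)
  have hne : 𝔫.map (Polynomial.C : B →+* B[X]) ≠ 𝔫' := fun h => hnm (h ▸ h𝔫')
  haveI : IsPrincipalIdealRing (B[X] ⧸ (𝔫.map (Polynomial.C : B →+* B[X]))) :=
    IsPrincipalIdealRing.of_surjective e.toRingHom e.surjective
  haveI : IsDomain (B[X] ⧸ (𝔫.map (Polynomial.C : B →+* B[X]))) := Ideal.Quotient.isDomain _
  refine ⟨lt_of_le_of_ne hle (fun h => hne (congrArg PrimeSpectrum.asIdeal h)), ?_⟩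
  intro c hc1 hc2
  have hc1' : 𝔫.map (Polynomial.C : B →+* B[X]) ≤ c.asIdeal := hc1.le
  have hc1ne : c.asIdeal ≠ 𝔫.map (Polynomial.C : B →+* B[X]) := fun h =>
    hc1.ne (PrimeSpectrum.ext h.symm)
  have hsurj : Function.Surjective (Ideal.Quotient.mk (𝔫.map (Polynomial.C : B →+* B[X]))) :=
    Ideal.Quotient.mk_surjective
  have hker : RingHom.ker (Ideal.Quotient.mk (𝔫.map (Polynomial.C : B →+* B[X]))) ≤ c.asIdeal := by
    rw [Ideal.mk_ker]; exact hc1'
  have hcm : (c.asIdeal.map (Ideal.Quotient.mk (𝔫.map (Polynomial.C : B →+* B[X])))).IsPrime :=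
    Ideal.map_isPrime_of_surjective hsurj hker
  have hcomap : (c.asIdeal.map (Ideal.Quotient.mk (𝔫.map (Polynomial.C : B →+* B[X])))).comap
      (Ideal.Quotient.mk (𝔫.map (Polynomial.C : B →+* B[X]))) = c.asIdeal :=
    (Ideal.comap_map_of_surjective _ hsurj _).trans (sup_eq_left.2 hker)
  have hcb : c.asIdeal.map (Ideal.Quotient.mk (𝔫.map (Polynomial.C : B →+* B[X]))) ≠ ⊥ := by
    intro h
    apply hc1ne
    refine le_antisymm ?_ hc1'
    rw [← hcomap, h, ← RingHom.ker_eq_comap_bot, Ideal.mk_ker]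
  have hmax : (c.asIdeal.map (Ideal.Quotient.mk (𝔫.map (Polynomial.C : B →+* B[X])))).IsMaximal :=
    Ring.DimensionLEOne.maximalOfPrime hcb hcm
  have hcmax : c.asIdeal.IsMaximal := by
    rw [← hcomap]
    exact Ideal.comap_isMaximal_of_surjective _ hsurj
  have : c.asIdeal = 𝔫' := hcmax.eq_of_le h𝔫'.ne_top hc2.le
  exact hc2.ne (PrimeSpectrum.ext this)

end Cov

section Step

variable {B : Type u} [CommRing B] [IsNoetherianRing B]

/-- the Ext-degree at a maximal ideal of `B[X]` lying over a maximal ideal of `B` goes up by one -/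
theorem ExtDeg.polynomial_step (ω : Dual.D B) (hω : Dual.IsDualizing B ω)
    (𝔫 : Ideal B) [h𝔫 : 𝔫.IsMaximal] (𝔫' : Ideal B[X]) [h𝔫' : 𝔫'.IsMaximal]
    (hc : 𝔫'.comap (Polynomial.C) = 𝔫) (d : ℤ) (h : ExtDeg B ω 𝔫 d) :
    ExtDeg B[X] ((extD B B[X]).obj ω) 𝔫' (d + 1) := by
  have hω' := Groth.Agent.Lib.Seat8.DualPoly.isDualizing_extD_polynomial ω hω
  obtain ⟨a, b, hab⟩ := hω.finite_injective_dimension
  obtain ⟨hGE, hLE⟩ := Groth.Agent.Lib.Seat8.DualBC.isGE_isLE_of_finiteInjDim ω a b hab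
  have h0 : ExtDeg B[X] ((extD B B[X]).obj ω) (𝔫.map (algebraMap B B[X])) d :=
    h.baseChange ω a hGE 𝔫 d
  have hcov := covBy_map_C 𝔫 𝔫' hc
  have hd0 := deg_eq_of_extDeg _ hω'
    ⟨𝔫.map Polynomial.C, (Ideal.isPrime_map_C_iff_isPrime 𝔫).2 h𝔫.isPrime⟩ d h0
  have hd1 := deg_covBy _ hω' _ _ hcov
  exact extDeg_of_deg_eq _ hω' 𝔫' (d + 1) (by rw [← hd1, hd0])

end Step



section Max

variable {R : Type u} [CommRing R]

/-- a maximal ideal of `R[x_1..x_n][X]` lying over a maximal ideal of `R` contracts to a maximal ideal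
of `R[x_1..x_n]` -/
theorem isMaximal_comap_C_of_comap_maximal (I : Ideal R) [hI : I.IsMaximal] {σ : Type*} [Finite σ]
    (𝔫' : Ideal (MvPolynomial σ R)[X]) [h𝔫' : 𝔫'.IsMaximal]
    (h : 𝔫'.comap (algebraMap R (MvPolynomial σ R)[X]) = I) :
    (𝔫'.comap (Polynomial.C : MvPolynomial σ R →+* (MvPolynomial σ R)[X])).IsMaximal := by
  classical
  letI : Field (R ⧸ I) := Ideal.Quotient.field I
  letI : Field ((MvPolynomial σ R)[X] ⧸ 𝔫') := Ideal.Quotient.field 𝔫'
  let g : (MvPolynomial σ R)[X] →+* (MvPolynomial σ R)[X] ⧸ 𝔫' := Ideal.Quotient.mk 𝔫'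
  let eo : MvPolynomial (Option σ) R ≃ₐ[R] (MvPolynomial σ R)[X] := MvPolynomial.optionEquivLeft R σ
  let g' : MvPolynomial (Option σ) R →+* (MvPolynomial σ R)[X] ⧸ 𝔫' :=
    g.comp (eo : MvPolynomial (Option σ) R →+* (MvPolynomial σ R)[X])
  have hg' : Function.Surjective g' := Ideal.Quotient.mk_surjective.comp eo.surjective
  have hk : ∀ r ∈ I, (g'.comp MvPolynomial.C) r = 0 := by
    intro r hr
    have h1 : eo (MvPolynomial.C r) = algebraMap R (MvPolynomial σ R)[X] r := eo.commutes r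
    have h2 : r ∈ 𝔫'.comap (algebraMap R (MvPolynomial σ R)[X]) := h ▸ hr
    change g (eo (MvPolynomial.C r)) = 0
    rw [h1]
    exact Ideal.Quotient.eq_zero_iff_mem.2 h2
  let c : (R ⧸ I) →+* (MvPolynomial σ R)[X] ⧸ 𝔫' := Ideal.Quotient.lift I (g'.comp MvPolynomial.C) hk
  let g'' : MvPolynomial (Option σ) (R ⧸ I) →+* (MvPolynomial σ R)[X] ⧸ 𝔫' :=
    MvPolynomial.eval₂Hom c (fun i => g' (MvPolynomial.X i))
  have hcomp : g''.comp (MvPolynomial.map (Ideal.Quotient.mk I)) = g' := by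
    apply MvPolynomial.ringHom_ext
    · intro r
      simp [g'', c]
    · intro i
      simp [g'']
  have hg'' : Function.Surjective g'' := by
    intro y
    obtain ⟨x, rfl⟩ := hg' y
    exact ⟨MvPolynomial.map (Ideal.Quotient.mk I) x, by rw [← hcomp]; rfl⟩
  have hint1 : (g''.comp MvPolynomial.C).IsIntegral :=
    MvPolynomial.comp_C_integral_of_surjective_of_isJacobsonRing g'' hg''
  have hint2 : ((g''.comp MvPolynomial.C).comp (Ideal.Quotient.mk I)).IsIntegral :=
    RingHom.IsIntegral.trans _ _ (RingHom.isIntegral_of_surjective _ Ideal.Quotient.mk_surjective) hint1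
  have heq : ((g''.comp MvPolynomial.C).comp (Ideal.Quotient.mk I)) =
      (g.comp Polynomial.C).comp (algebraMap R (MvPolynomial σ R)) := by
    ext r
    have h1 : eo (MvPolynomial.C r) = algebraMap R (MvPolynomial σ R)[X] r := eo.commutes r
    have h3 : algebraMap R (MvPolynomial σ R)[X] r =
        Polynomial.C (algebraMap R (MvPolynomial σ R) r) := rfl
    simp only [RingHom.comp_apply, g'', c, MvPolynomial.coe_eval₂Hom, MvPolynomial.eval₂_C,
      Ideal.Quotient.lift_mk, g']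
    change g (eo (MvPolynomial.C r)) = _
    rw [h1, h3]
  have hint3 : (g.comp Polynomial.C).IsIntegral :=
    RingHom.IsIntegral.tower_top _ _ (heq ▸ hint2)
  have hmax := Ideal.isMaximal_comap_of_isIntegral_of_isMaximal' (g.comp Polynomial.C) hint3 ⊥
  have hcm : Ideal.comap (g.comp Polynomial.C) ⊥ = 𝔫'.comap Polynomial.C := by
    rw [← Ideal.comap_comap, ← RingHom.ker_eq_comap_bot, Ideal.mk_ker]
  rw [← hcm]
  exact hmax

end Max


section MvPoly

open Groth.Agent.Lib.Seat90.ExtTower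

variable (R : Type u) [CommRing R] [IsNoetherianRing R]

/-- the Ext-degree at a maximal ideal of `R[x_1..x_n]` lying over a maximal ideal of `R` goes up by `n` -/
theorem extDeg_mvPolynomial (ω : Dual.D R) (hω : Dual.IsDualizing R ω) (I : Ideal R) [hI : I.IsMaximal]
    (d : ℤ) (h : ExtDeg R ω I d) (n : ℕ) :
    ∀ (m' : Ideal (MvPolynomial (Fin n) R)) [m'.IsMaximal],
      m'.comap (algebraMap R (MvPolynomial (Fin n) R)) = I →
      ExtDeg (MvPolynomial (Fin n) R) ((extD R (MvPolynomial (Fin n) R)).obj ω) m' (d + n) := by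
  obtain ⟨a, b, hab⟩ := hω.finite_injective_dimension
  obtain ⟨hGE, hLE⟩ := Groth.Agent.Lib.Seat8.DualBC.isGE_isLE_of_finiteInjDim ω a b hab
  induction n with
  | zero =>
    intro m' hm' hc
    have hs : Function.Surjective (algebraMap R (MvPolynomial (Fin 0) R)) := by
      rw [MvPolynomial.algebraMap_eq]
      exact MvPolynomial.C_surjective (Fin 0)
    have h1 := h.baseChange (B := MvPolynomial (Fin 0) R) ω a hGE I d
    have h2 : I.map (algebraMap R (MvPolynomial (Fin 0) R)) = m' := by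
      rw [← hc]
      exact Ideal.map_comap_of_surjective _ hs m'
    simpa using h1.of_eq h2
  | succ n ih =>
    intro m'' hm'' hc
    let e : (MvPolynomial (Fin n) R)[X] ≃ₐ[R] MvPolynomial (Fin (n + 1)) R :=
      (MvPolynomial.finSuccEquiv R n).symm
    have hωn := isDualizing_extD_mvPolynomial R n ω hω
    haveI : Module.Flat R (MvPolynomial (Fin n) R)[X] :=
      Module.Flat.trans R (MvPolynomial (Fin n) R) (MvPolynomial (Fin n) R)[X]
    -- the contraction to `P_n[X]`
    have h𝔫' : (m''.comap (e : (MvPolynomial (Fin n) R)[X] →+* MvPolynomial (Fin (n + 1)) R)).IsMaximal :=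
      Ideal.comap_isMaximal_of_surjective _ e.surjective
    have hc' : (m''.comap (e : (MvPolynomial (Fin n) R)[X] →+* MvPolynomial (Fin (n + 1)) R)).comap
        (algebraMap R (MvPolynomial (Fin n) R)[X]) = I := by
      rw [← hc, Ideal.comap_comap]
      congr 1
      refine RingHom.ext (fun r => ?_)
      exact e.commutes r
    -- the contraction to `P_n`
    have h𝔫 := isMaximal_comap_C_of_comap_maximal I _ hc'
    have hc0 : ((m''.comap (e : (MvPolynomial (Fin n) R)[X] →+* MvPolynomial (Fin (n + 1)) R)).comap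
        (Polynomial.C : MvPolynomial (Fin n) R →+* (MvPolynomial (Fin n) R)[X])).comap
        (algebraMap R (MvPolynomial (Fin n) R)) = I := by
      rw [← hc', Ideal.comap_comap]
      rfl
    have h1 := ih _ hc0
    have h2 := ExtDeg.polynomial_step _ hωn _ _ rfl (d + n) h1
    have h3 : ExtDeg (MvPolynomial (Fin n) R)[X] ((extD R (MvPolynomial (Fin n) R)[X]).obj ω)
        (m''.comap (e : (MvPolynomial (Fin n) R)[X] →+* MvPolynomial (Fin (n + 1)) R)) (d + n + 1) :=
      h2.of_iso ((extDComp R (MvPolynomial (Fin n) R) (MvPolynomial (Fin n) R)[X]).app ω) _ _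
    letI : Algebra (MvPolynomial (Fin n) R)[X] (MvPolynomial (Fin (n + 1)) R) :=
      e.toAlgHom.toRingHom.toAlgebra
    haveI : IsScalarTower R (MvPolynomial (Fin n) R)[X] (MvPolynomial (Fin (n + 1)) R) :=
      IsScalarTower.of_algebraMap_eq (fun r => (e.commutes r).symm)
    haveI : Module.Flat (MvPolynomial (Fin n) R)[X] (MvPolynomial (Fin (n + 1)) R) :=
      (RingHom.flat_algebraMap_iff (R := (MvPolynomial (Fin n) R)[X])
        (S := MvPolynomial (Fin (n + 1)) R)).1 (RingHom.Flat.of_bijective e.bijective)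
    have hGE' : ((extD R (MvPolynomial (Fin n) R)[X]).obj ω).IsGE a :=
      isGE_map (ext R (MvPolynomial (Fin n) R)[X]) ω a hGE
    have h4 := h3.baseChange (B := MvPolynomial (Fin (n + 1)) R) _ a hGE' _ _
    have h5 : (m''.comap (e : (MvPolynomial (Fin n) R)[X] →+* MvPolynomial (Fin (n + 1)) R)).map
        (algebraMap (MvPolynomial (Fin n) R)[X] (MvPolynomial (Fin (n + 1)) R)) = m'' :=
      Ideal.map_comap_of_surjective _ e.surjective m''
    have h6 := (h4.of_eq h5).of_iso
      ((extDComp R (MvPolynomial (Fin n) R)[X] (MvPolynomial (Fin (n + 1)) R)).app ω) _ _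
    have h7 : d + ((n + 1 : ℕ) : ℤ) = d + n + 1 := by push_cast; ring
    rw [h7]
    exact h6

end MvPoly

section Coext

variable {P A : Type u} [CommRing P] [CommRing A] [Algebra P A]

/-- `P/ψ⁻¹(m) ≃ A/m` as `P`-modules, for `ψ : P → A` surjective -/
noncomputable def quotComapEquiv (hs : Function.Surjective (algebraMap P A)) (m : Ideal A) :
    (P ⧸ m.comap (algebraMap P A)) ≃ₗ[P] (A ⧸ m) :=
  let f : P →ₗ[P] (A ⧸ m) := ((Submodule.mkQ m).restrictScalars P).comp (Algebra.linearMap P A)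
  have hf : Function.Surjective f := (Submodule.mkQ_surjective m).comp hs
  have hker : LinearMap.ker f = m.comap (algebraMap P A) := by
    ext x
    simp only [LinearMap.mem_ker, Ideal.mem_comap]
    exact Submodule.Quotient.mk_eq_zero m
  (Submodule.quotEquivOfEq _ _ hker.symm).trans (f.quotKerEquivOfSurjective hf)

/-- the Ext-degree of `RHom_P(A, Y)` at `m` is that of `Y` at the preimage of `m` -/
theorem ExtDeg.of_adj (hs : Function.Surjective (algebraMap P A)) (Rψ : Dual.D P ⥤ Dual.D A)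
    (adj : DRing.restrictD (algebraMap P A) ⊣ Rψ) (Y : Dual.D P) (m : Ideal A) (d : ℤ)
    (h : ExtDeg P Y (m.comap (algebraMap P A)) d) : ExtDeg A (Rψ.obj Y) m d := by
  intro i hi
  have hco := Groth.Agent.Lib.Seat8.Coext.IsCoext.of_adj adj Y
  obtain ⟨E, -⟩ := Groth.Agent.Lib.Seat8.CoextShift.IsCoext.exists_shift_equiv hco
    (Dual.inD A (A ⧸ m)) i
  have h1 := h i hi
  have e1 : (DRing.restrictD (algebraMap P A)).obj (Dual.inD A (A ⧸ m)) ≅
      Dual.inD P (P ⧸ m.comap (algebraMap P A)) :=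
    Groth.Agent.Lib.Seat8.FinLenDual.restrictInDIso (A := P) (B := A) (A ⧸ m) ≪≫
      (DerivedCategory.singleFunctor (ModuleCat.{u} P) 0).mapIso
        (quotComapEquiv hs m).symm.toModuleIso
  have h2 : Subsingleton ((DRing.restrictD (algebraMap P A)).obj (Dual.inD A (A ⧸ m)) ⟶ Y⟦i⟧) :=
    Groth.Agent.Lib.Seat8.DualBC.subsingleton_hom_of_iso e1.symm (Iso.refl _) h1
  exact E.toEquiv.subsingleton

/-- shifting lowers the Ext-degree -/
theorem ExtDeg.shift (K : Dual.D A) (I : Ideal A) (d n : ℤ) (h : ExtDeg A K I d) :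
    ExtDeg A (K⟦n⟧) I (d - n) := by
  intro i hi
  have := h (n + i) (by omega)
  exact (Groth.Agent.Lib.Seat8.DualShift.homShiftAddEquiv (Dual.inD A (A ⧸ I)) K n i).toEquiv.subsingleton

end Coext

end Groth.Agent.Lib.Seat90.ExtDeg
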