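import Mathlib
import Groth.Prelude
import Groth.Agent.Lib.Seat8HomDual
import Groth.Agent.Lib.Seat8Coext

/-!
# `Ext` through K-injective complexes (Seat 90)

For a K-injective complex `J` of `A`-modules, a module `N` and `n : ℤ`, the cohomology
`H^n(Hom_A(N, J•))` is `A`-linearly isomorphic to `Hom_{D(A)}(N[-n], J)`.  Both are quotients of the
module `Z` of cocycles `x : N → J^n`, `d x = 0`, by the submodule of coboundaries.
-/

set_option autoImplicit false
universe u
open CategoryTheory CategoryTheory.Limits Opposite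

attribute [local instance] HasDerivedCategory.standard

namespace Groth.Agent.Lib.Seat90.ExtInj

open DerivedCategory HomologicalComplex Groth.Agent.Lib.Seat8.HomSingle
  Groth.Agent.Lib.Seat8.HomDual

variable {A : Type u} [CommRing A] (J : DRing.Cx A) (N : ModuleCat.{u} A) (n : ℤ)

/-- the module of cocycles `N → J^n`. -/
noncomputable def Zn : Submodule A (N ⟶ J.X n) :=
  LinearMap.ker (Linear.rightComp A N (J.d n (n + 1)))

theorem mem_Zn (x : N ⟶ J.X n) : x ∈ Zn J N n ↔ x ≫ J.d n (n + 1) = 0 := Iff.rfl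

/-- the module of coboundaries. -/
noncomputable def Bn : Submodule A (N ⟶ J.X n) :=
  LinearMap.range (Linear.rightComp A N (J.d (n - 1) n))

theorem mem_Bn (x : N ⟶ J.X n) : x ∈ Bn J N n ↔ ∃ h : N ⟶ J.X (n - 1), h ≫ J.d (n - 1) n = x :=
  Iff.rfl

/-- the chain map `N[-n] → J` of a cocycle. -/
noncomputable def chainOf (x : N ⟶ J.X n) (hx : x ≫ J.d n (n + 1) = 0) : sg n N ⟶ J :=
  HomologicalComplex.mkHomFromSingle x (by
    intro j hj
    obtain rfl : j = n + 1 := by simpa using hj.symm
    exact hx)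

theorem chainOf_f (x : N ⟶ J.X n) (hx : x ≫ J.d n (n + 1) = 0) :
    (chainOf J N n x hx).f n = (singleObjXSelf (ComplexShape.up ℤ) n N).hom ≫ x :=
  HomologicalComplex.mkHomFromSingle_f _ _

theorem eq_chainOf (g : sg n N ⟶ J) :
    ∃ hx, g = chainOf J N n ((singleObjXSelf (ComplexShape.up ℤ) n N).inv ≫ g.f n) hx := by
  have hx : ((singleObjXSelf (ComplexShape.up ℤ) n N).inv ≫ g.f n) ≫ J.d n (n + 1) = 0 := by
    rw [Category.assoc, g.comm, HomologicalComplex.single_obj_d, zero_comp, comp_zero]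
  refine ⟨hx, ?_⟩
  apply HomologicalComplex.from_single_hom_ext
  rw [chainOf_f, Iso.hom_inv_id_assoc]

/-- the linear map `Z → Hom_{D(A)}(N[-n], J)`. -/
noncomputable def π₁ : Zn J N n →ₗ[A] (Q.obj (sg n N) ⟶ Q.obj J) where
  toFun x := Q.map (chainOf J N n x.1 x.2)
  map_add' x y := by
    rw [← Functor.map_add]
    congr 1
    apply HomologicalComplex.from_single_hom_ext
    rw [HomologicalComplex.add_f_apply, chainOf_f, chainOf_f, chainOf_f]
    exact Preadditive.comp_add _ _ _ _ _ _
  map_smul' a x := by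
    rw [RingHom.id_apply, ← Functor.map_smul]
    congr 1
    apply HomologicalComplex.from_single_hom_ext
    rw [HomologicalComplex.smul_f_apply, chainOf_f, chainOf_f]
    exact Linear.comp_smul (R := A) (C := ModuleCat.{u} A) _ _ _ _ _ _

/-- the homotopy to zero attached to a primitive of the cocycle. -/
noncomputable def homotopyZero (g : sg n N ⟶ J) (h : N ⟶ J.X (n - 1))
    (hh : h ≫ J.d (n - 1) n = (singleObjXSelf (ComplexShape.up ℤ) n N).inv ≫ g.f n) :
    Homotopy g 0 where
  hom i j := if hij : i = n ∧ j = n - 1 then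
      eqToHom (by rw [hij.1]) ≫ (singleObjXSelf (ComplexShape.up ℤ) n N).hom ≫ h ≫
        eqToHom (by rw [hij.2])
    else 0
  zero i j hij := by
    rw [dif_neg]
    rintro ⟨rfl, rfl⟩
    exact hij (by simp)
  comm i := by
    by_cases hi : i = n
    · subst hi
      rw [dNext_eq _ (show (ComplexShape.up ℤ).Rel i (i + 1) from rfl),
        prevD_eq _ (show (ComplexShape.up ℤ).Rel (i - 1) i by simp)]
      rw [HomologicalComplex.single_obj_d, zero_comp, zero_add, HomologicalComplex.zero_f, add_zero]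
      rw [dif_pos ⟨rfl, rfl⟩]
      simp only [eqToHom_refl, Category.id_comp, Category.comp_id, Category.assoc]
      rw [hh, Iso.hom_inv_id_assoc]
    · exact (HomologicalComplex.isZero_single_obj_X (ComplexShape.up ℤ) n _ i hi).eq_of_src _ _

variable [J.IsKInjective]

theorem π₁_surjective : Function.Surjective (π₁ J N n) := by
  intro ψ
  obtain ⟨g, rfl⟩ := Q_map_surjective_of_isKInjective (sg n N) J ψ
  obtain ⟨hx, hg⟩ := eq_chainOf J N n g
  exact ⟨⟨_, hx⟩, (congrArg (fun k => Q.map k) hg).symm⟩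

theorem π₁_eq_zero_iff (x : Zn J N n) : π₁ J N n x = 0 ↔ x.1 ∈ Bn J N n := by
  constructor
  · intro hx
    have h0 : Q.map (chainOf J N n x.1 x.2) = Q.map (0 : sg n N ⟶ J) := by
      rw [Functor.map_zero]; exact hx
    obtain ⟨H⟩ := Groth.Agent.Lib.Seat8.Coext.homotopy_of_Q_map_eq_of_isKInjective _ _ _ _ h0
    have hc := H.comm n
    rw [dNext_eq _ (show (ComplexShape.up ℤ).Rel n (n + 1) from rfl),
      prevD_eq _ (show (ComplexShape.up ℤ).Rel (n - 1) n by simp),
      HomologicalComplex.single_obj_d, zero_comp, zero_add, HomologicalComplex.zero_f, add_zero,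
      chainOf_f] at hc
    refine ⟨(singleObjXSelf (ComplexShape.up ℤ) n N).inv ≫ H.hom n (n - 1), ?_⟩
    change ((singleObjXSelf (ComplexShape.up ℤ) n N).inv ≫ H.hom n (n - 1)) ≫ J.d (n - 1) n = x.1
    rw [Category.assoc, ← hc, Iso.inv_hom_id_assoc]
  · rintro ⟨h, hh⟩
    change h ≫ J.d (n - 1) n = x.1 at hh
    have H : Homotopy (chainOf J N n x.1 x.2) 0 := homotopyZero J N n _ h (by
      rw [chainOf_f, Iso.inv_hom_id_assoc, hh])
    change Q.map (chainOf J N n x.1 x.2) = 0
    rw [Groth.Agent.Lib.Seat8.HomSingle.Q_map_eq_of_homotopy H, Functor.map_zero]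

omit [J.IsKInjective] in
theorem homFun_d_apply (i j : ℤ) (x : N ⟶ J.X i) :
    (((homFun J).obj (op N)).d i j).hom x = x ≫ J.d i j := rfl

/-- the inclusion of the cocycles in `Hom_A(N, J^n)`. -/
noncomputable def ιZ : ModuleCat.of A (Zn J N n) ⟶ ((homFun J).obj (op N)).X n :=
  ModuleCat.ofHom (Zn J N n).subtype

omit [J.IsKInjective] in
theorem ιZ_d : ιZ J N n ≫ ((homFun J).obj (op N)).d n (n + 1) = 0 := by
  ext x
  exact x.2

/-- the lift of the inclusion of cocycles to the cycles. -/
noncomputable def lz : ModuleCat.of A (Zn J N n) ⟶ ((homFun J).obj (op N)).cycles n :=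
  ((homFun J).obj (op N)).liftCycles (ιZ J N n) (n + 1) (by simp) (ιZ_d J N n)

omit [J.IsKInjective] in
theorem lz_i : lz J N n ≫ ((homFun J).obj (op N)).iCycles n = ιZ J N n :=
  HomologicalComplex.liftCycles_i _ _ _ _ _

omit [J.IsKInjective] in
theorem iCycles_lz (x : Zn J N n) :
    (((homFun J).obj (op N)).iCycles n).hom ((lz J N n).hom x) = (x.1 : N ⟶ J.X n) := by
  have h := congrArg (fun k => k.hom x) (lz_i J N n)
  exact h

/-- the linear map `Z → H^n(Hom_A(N, J))`. -/
noncomputable def π₂ : Zn J N n →ₗ[A] ((homFun J).obj (op N)).homology n :=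
  (lz J N n ≫ ((homFun J).obj (op N)).homologyπ n).hom

omit [J.IsKInjective] in
theorem π₂_apply (x : Zn J N n) :
    π₂ J N n x = (((homFun J).obj (op N)).homologyπ n).hom ((lz J N n).hom x) := rfl

omit [J.IsKInjective] in
theorem π₂_surjective : Function.Surjective (π₂ J N n) := by
  intro c
  obtain ⟨z, rfl⟩ := (ModuleCat.epi_iff_surjective (((homFun J).obj (op N)).homologyπ n)).1
    inferInstance c
  have hx : (((homFun J).obj (op N)).d n (n + 1)).hom
      ((((homFun J).obj (op N)).iCycles n).hom z) = 0 := by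
    rw [← LinearMap.comp_apply, ← ModuleCat.hom_comp, HomologicalComplex.iCycles_d]
    rfl
  let x : Zn J N n := ⟨((((homFun J).obj (op N)).iCycles n).hom z : N ⟶ J.X n), hx⟩
  refine ⟨x, ?_⟩
  rw [π₂_apply]
  have h1 : (lz J N n).hom x = z := by
    apply iCycles_injective
    exact iCycles_lz J N n x
  rw [h1]

omit [J.IsKInjective] in
theorem π₂_eq_zero_iff (x : Zn J N n) : π₂ J N n x = 0 ↔ x.1 ∈ Bn J N n := by
  constructor
  · intro hx
    rw [π₂_apply] at hx
    obtain ⟨w, hw⟩ := exists_of_homologyπ_eq_zero ((homFun J).obj (op N)) n _ hx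
    refine ⟨w, ?_⟩
    change (((homFun J).obj (op N)).d (n - 1) n).hom w = x.1
    have h2 : (((homFun J).obj (op N)).iCycles n).hom
        ((((homFun J).obj (op N)).toCycles (n - 1) n).hom w) =
        (((homFun J).obj (op N)).d (n - 1) n).hom w := by
      rw [← LinearMap.comp_apply, ← ModuleCat.hom_comp, HomologicalComplex.toCycles_i]
    rw [← h2, hw]
    exact iCycles_lz J N n x
  · rintro ⟨h, hh⟩
    change (((homFun J).obj (op N)).d (n - 1) n).hom h = x.1 at hh
    have h1 : (lz J N n).hom x = (((homFun J).obj (op N)).toCycles (n - 1) n).hom h := by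
      apply iCycles_injective
      have h2 : (((homFun J).obj (op N)).iCycles n).hom
          ((((homFun J).obj (op N)).toCycles (n - 1) n).hom h) =
          (((homFun J).obj (op N)).d (n - 1) n).hom h := by
        rw [← LinearMap.comp_apply, ← ModuleCat.hom_comp, HomologicalComplex.toCycles_i]
      rw [h2, hh]
      exact iCycles_lz J N n x
    rw [π₂_apply, h1, ← LinearMap.comp_apply, ← ModuleCat.hom_comp,
      HomologicalComplex.toCycles_comp_homologyπ]
    rfl

/-- **`Ext` through a K-injective complex**: `Hom_{D(A)}(N[-n], J) ≃ H^n(Hom_A(N, J))`. -/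
noncomputable def extEquiv :
    (Q.obj (sg n N) ⟶ Q.obj J) ≃ₗ[A] ((homFun J).obj (op N)).homology n :=
  ((LinearMap.quotKerEquivOfSurjective (π₁ J N n) (π₁_surjective J N n)).symm.trans
    (Submodule.quotEquivOfEq _ _ (by
      ext x
      rw [LinearMap.mem_ker, LinearMap.mem_ker, π₁_eq_zero_iff, π₂_eq_zero_iff]))).trans
    (LinearMap.quotKerEquivOfSurjective (π₂ J N n) (π₂_surjective J N n))

end Groth.Agent.Lib.Seat90.ExtInj
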