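import Mathlib

/-!
# Exterior-algebra model of the Koszul complex: basics (Seat 90)

For a module `M` over a commutative ring `R` and a functional `φ : M → R`, the Koszul complex is the
exterior algebra `⋀ M` with the differential `kd φ = contractLeft φ` (interior product), of degree
`-1`.  This file records: naturality of `kd` under linear maps, the behaviour of `kd` and of
`ExteriorAlgebra.map` on the graded pieces `⋀[R]^p M`, and the fact that `kd φ` takes values in
`I • ⋀^p` when `φ` takes values in the ideal `I`.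
-/

set_option autoImplicit false
universe u v w

namespace Groth.Agent.Lib.Seat90.ExtKoszulA

open CliffordAlgebra

variable {R : Type u} [CommRing R] {M : Type v} [AddCommGroup M] [Module R M]
  {N : Type w} [AddCommGroup N] [Module R N]

/-- the Koszul differential on the exterior algebra: interior product with `φ`. -/
noncomputable def kd (φ : Module.Dual R M) : ExteriorAlgebra R M →ₗ[R] ExteriorAlgebra R M :=
  CliffordAlgebra.contractLeft φ

theorem kd_ι_mul (φ : Module.Dual R M) (m : M) (x : ExteriorAlgebra R M) :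
    kd φ (ExteriorAlgebra.ι R m * x) = φ m • x - ExteriorAlgebra.ι R m * kd φ x :=
  CliffordAlgebra.contractLeft_ι_mul φ m x

theorem kd_algebraMap (φ : Module.Dual R M) (r : R) :
    kd φ (algebraMap R (ExteriorAlgebra R M) r) = 0 :=
  CliffordAlgebra.contractLeft_algebraMap _ φ r

theorem kd_one (φ : Module.Dual R M) : kd φ (1 : ExteriorAlgebra R M) = 0 :=
  CliffordAlgebra.contractLeft_one _ φ

theorem kd_ι (φ : Module.Dual R M) (m : M) :
    kd φ (ExteriorAlgebra.ι R m) = algebraMap R (ExteriorAlgebra R M) (φ m) :=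
  CliffordAlgebra.contractLeft_ι _ φ m

theorem kd_kd (φ : Module.Dual R M) (x : ExteriorAlgebra R M) : kd φ (kd φ x) = 0 :=
  CliffordAlgebra.contractLeft_contractLeft φ x

theorem kd_zero (x : ExteriorAlgebra R M) : kd (0 : Module.Dual R M) x = 0 := by
  unfold kd
  rw [map_zero, LinearMap.zero_apply]

/-- naturality of the Koszul differential. -/
theorem kd_map (g : M →ₗ[R] N) (φ : Module.Dual R N) (x : ExteriorAlgebra R M) :
    kd φ (ExteriorAlgebra.map g x) = ExteriorAlgebra.map g (kd (φ ∘ₗ g) x) := by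
  induction x using CliffordAlgebra.left_induction with
  | algebraMap r =>
    rw [AlgHom.commutes]
    change kd φ (algebraMap R (ExteriorAlgebra R N) r) =
      ExteriorAlgebra.map g (kd (φ ∘ₗ g) (algebraMap R (ExteriorAlgebra R M) r))
    rw [kd_algebraMap, kd_algebraMap, map_zero]
  | add x y hx hy => rw [map_add, map_add, map_add, map_add, hx, hy]
  | ι_mul x m hx =>
    change kd φ (ExteriorAlgebra.map g (ExteriorAlgebra.ι R m * x)) =
      ExteriorAlgebra.map g (kd (φ ∘ₗ g) (ExteriorAlgebra.ι R m * x))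
    rw [map_mul, ExteriorAlgebra.map_apply_ι, kd_ι_mul, kd_ι_mul, hx, map_sub, map_smul, map_mul,
      ExteriorAlgebra.map_apply_ι]
    rfl

/-- `ExteriorAlgebra.map` preserves the graded pieces. -/
theorem map_mem (g : M →ₗ[R] N) (p : ℕ) {x : ExteriorAlgebra R M} (hx : x ∈ ⋀[R]^p M) :
    ExteriorAlgebra.map g x ∈ ⋀[R]^p N := by
  have h : (⋀[R]^p M).map (ExteriorAlgebra.map g).toLinearMap ≤ ⋀[R]^p N := by
    rw [ExteriorAlgebra.exteriorPower, ExteriorAlgebra.exteriorPower, Submodule.map_pow]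
    refine pow_le_pow_left' ?_ p
    rintro _ ⟨_, ⟨m, rfl⟩, rfl⟩
    exact ⟨g m, (ExteriorAlgebra.map_apply_ι g m).symm⟩
  exact h ⟨x, hx, rfl⟩

theorem ι_mul_mem (m : M) (p : ℕ) {x : ExteriorAlgebra R M} (hx : x ∈ ⋀[R]^p M) :
    ExteriorAlgebra.ι R m * x ∈ ⋀[R]^(p + 1) M := by
  rw [ExteriorAlgebra.exteriorPower, pow_succ']
  exact Submodule.mul_mem_mul ⟨m, rfl⟩ hx

theorem ι_mul_mem_smul (I : Ideal R) (m : M) (p : ℕ) {x : ExteriorAlgebra R M}
    (hx : x ∈ I • ⋀[R]^p M) : ExteriorAlgebra.ι R m * x ∈ I • ⋀[R]^(p + 1) M := by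
  refine Submodule.smul_induction_on (p := fun x => ExteriorAlgebra.ι R m * x ∈ I • ⋀[R]^(p + 1) M)
    hx ?_ ?_
  · intro r hr y hy
    rw [mul_smul_comm]
    exact Submodule.smul_mem_smul hr (ι_mul_mem m p hy)
  · intro y z hy hz
    rw [mul_add]
    exact Submodule.add_mem _ hy hz

theorem mem_zero_iff (x : ExteriorAlgebra R M) :
    x ∈ ⋀[R]^0 M ↔ ∃ r : R, algebraMap R (ExteriorAlgebra R M) r = x := by
  rw [ExteriorAlgebra.exteriorPower, pow_zero, Submodule.mem_one]

/-- `kd φ` lowers the degree by one and takes values in `I • ⋀^p` when `φ` has values in `I`. -/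
theorem kd_mem_smul (φ : Module.Dual R M) (I : Ideal R) (hI : ∀ m, φ m ∈ I) :
    ∀ (p : ℕ) (x : ExteriorAlgebra R M), x ∈ ⋀[R]^(p + 1) M → kd φ x ∈ I • ⋀[R]^p M := by
  intro p
  induction p with
  | zero =>
    intro x hx
    rw [ExteriorAlgebra.exteriorPower, zero_add, pow_one] at hx
    obtain ⟨m, rfl⟩ := hx
    rw [kd_ι, Algebra.algebraMap_eq_smul_one]
    refine Submodule.smul_mem_smul (hI m) ?_
    rw [mem_zero_iff]
    exact ⟨1, map_one _⟩
  | succ p ih =>
    intro x hx
    rw [ExteriorAlgebra.exteriorPower, pow_succ'] at hx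
    refine Submodule.mul_induction_on (C := fun x => kd φ x ∈ I • ⋀[R]^(p + 1) M) hx ?_ ?_
    · rintro _ ⟨m, rfl⟩ y hy
      rw [kd_ι_mul]
      refine Submodule.sub_mem _ (Submodule.smul_mem_smul (hI m) hy) ?_
      exact ι_mul_mem_smul I m p (ih y hy)
    · intro y z hy hz
      rw [map_add]
      exact Submodule.add_mem _ hy hz

theorem kd_mem (φ : Module.Dual R M) (p : ℕ) {x : ExteriorAlgebra R M}
    (hx : x ∈ ⋀[R]^(p + 1) M) : kd φ x ∈ ⋀[R]^p M := by
  have h := kd_mem_smul φ ⊤ (fun _ => Submodule.mem_top) p x hx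
  rwa [Submodule.top_smul] at h

theorem kd_eq_zero_of_mem_zero (φ : Module.Dual R M) {x : ExteriorAlgebra R M}
    (hx : x ∈ ⋀[R]^0 M) : kd φ x = 0 := by
  obtain ⟨r, rfl⟩ := (mem_zero_iff x).1 hx
  exact kd_algebraMap φ r

end Groth.Agent.Lib.Seat90.ExtKoszulA
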