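import Mathlib
import Groth.Agent.Lib.Seat90ExtKoszulA

/-!
# Exterior-algebra Koszul complex of a split module `M = R e₀ ⊕ M'` (Seat 90)

For a splitting `M = R e₀ ⊕ M'`, every element of `⋀ M` is uniquely `e₀ ∧ j b + j a` with
`a, b ∈ ⋀ M'` (`j` induced by the inclusion); the Koszul differential of `φ` in these coordinates is
`(b, a) ↦ (-∂' b, φ e₀ • b + ∂' a)`, the mapping cone of multiplication by `φ e₀` on the Koszul complex
of `φ ∘ incl`.  Also the ℤ-indexed graded pieces `grZ R M q` (`= ⋀^(-q)` for `q ≤ 0`, zero otherwise).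
-/

set_option autoImplicit false
universe u v w

namespace Groth.Agent.Lib.Seat90.ExtKoszulB

open Groth.Agent.Lib.Seat90.ExtKoszulA

variable {R : Type u} [CommRing R] {M : Type v} [AddCommGroup M] [Module R M]
  {M' : Type w} [AddCommGroup M'] [Module R M']

section GrZ

variable (R M)

/-- the graded piece of the exterior algebra in cohomological degree `q` (`⋀^(-q)` for `q ≤ 0`). -/
noncomputable def grZ (q : ℤ) : Submodule R (ExteriorAlgebra R M) :=
  if q ≤ 0 then ⋀[R]^((-q).toNat) M else ⊥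

variable {R M}

theorem grZ_of_nonpos {q : ℤ} (hq : q ≤ 0) : grZ R M q = ⋀[R]^((-q).toNat) M := if_pos hq

theorem grZ_of_pos {q : ℤ} (hq : 0 < q) : grZ R M q = ⊥ := if_neg (not_le.2 hq)

theorem grZ_neg_natCast (p : ℕ) : grZ R M (-(p : ℤ)) = ⋀[R]^p M := by
  rw [grZ_of_nonpos (by omega)]
  congr 1
  omega

theorem kd_mem_grZ (φ : Module.Dual R M) {q q' : ℤ} (h : q + 1 = q') {x : ExteriorAlgebra R M}
    (hx : x ∈ grZ R M q) : kd φ x ∈ grZ R M q' := by
  subst h
  rcases lt_trichotomy q 0 with hq | hq | hq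
  · rw [grZ_of_nonpos hq.le] at hx
    rw [grZ_of_nonpos (by omega)]
    have e : (-q).toNat = (-(q + 1)).toNat + 1 := by omega
    rw [e] at hx
    exact kd_mem φ _ hx
  · subst hq
    rw [grZ_of_nonpos le_rfl] at hx
    rw [kd_eq_zero_of_mem_zero φ (by simpa using hx)]
    exact Submodule.zero_mem _
  · rw [grZ_of_pos hq, Submodule.mem_bot] at hx
    rw [hx, map_zero]
    exact Submodule.zero_mem _

theorem map_mem_grZ {N : Type*} [AddCommGroup N] [Module R N] (g : M →ₗ[R] N) {q : ℤ}
    {x : ExteriorAlgebra R M} (hx : x ∈ grZ R M q) : ExteriorAlgebra.map g x ∈ grZ R N q := by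
  by_cases hq : q ≤ 0
  · rw [grZ_of_nonpos hq] at hx ⊢
    exact map_mem g _ hx
  · rw [grZ_of_pos (not_le.1 hq), Submodule.mem_bot] at hx
    rw [hx, map_zero]
    exact Submodule.zero_mem _

theorem ι_mul_mem_grZ (m : M) {q q' : ℤ} (h : q + 1 = q') {x : ExteriorAlgebra R M}
    (hx : x ∈ grZ R M q') : ExteriorAlgebra.ι R m * x ∈ grZ R M q := by
  subst h
  by_cases hq : q + 1 ≤ 0
  · rw [grZ_of_nonpos hq] at hx
    rw [grZ_of_nonpos (by omega)]
    have e : (-q).toNat = (-(q + 1)).toNat + 1 := by omega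
    rw [e]
    exact ι_mul_mem m _ hx
  · rw [grZ_of_pos (not_le.1 hq), Submodule.mem_bot] at hx
    rw [hx, mul_zero]
    exact Submodule.zero_mem _

end GrZ

/-- a splitting `M = R e₀ ⊕ M'`. -/
structure Split (R : Type u) [CommRing R] (M : Type v) [AddCommGroup M] [Module R M]
    (M' : Type w) [AddCommGroup M'] [Module R M'] where
  /-- the inclusion of the complement -/
  incl : M' →ₗ[R] M
  /-- the projection onto the complement -/
  proj : M →ₗ[R] M'
  /-- the distinguished basis vector -/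
  e₀ : M
  /-- its coordinate functional -/
  ε : Module.Dual R M
  proj_incl : ∀ m', proj (incl m') = m'
  proj_e₀ : proj e₀ = 0
  ε_incl : ∀ m', ε (incl m') = 0
  ε_e₀ : ε e₀ = 1
  decomp : ∀ m, m = ε m • e₀ + incl (proj m)

namespace Split

variable (S : Split R M M')

/-- the map on exterior algebras induced by the inclusion. -/
noncomputable def j : ExteriorAlgebra R M' →ₐ[R] ExteriorAlgebra R M := ExteriorAlgebra.map S.incl

/-- the map on exterior algebras induced by the projection. -/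
noncomputable def r : ExteriorAlgebra R M →ₐ[R] ExteriorAlgebra R M' := ExteriorAlgebra.map S.proj

/-- the distinguished vector in the exterior algebra. -/
noncomputable def e : ExteriorAlgebra R M := ExteriorAlgebra.ι R S.e₀

theorem r_j (a : ExteriorAlgebra R M') : S.r (S.j a) = a := by
  have h : (ExteriorAlgebra.map S.proj).comp (ExteriorAlgebra.map S.incl) =
      AlgHom.id R (ExteriorAlgebra R M') := by
    rw [ExteriorAlgebra.map_comp_map]
    have : S.proj ∘ₗ S.incl = LinearMap.id := LinearMap.ext S.proj_incl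
    rw [this, ExteriorAlgebra.map_id]
  exact congr($h a)

theorem r_e : S.r S.e = 0 := by
  unfold r e
  rw [ExteriorAlgebra.map_apply_ι, S.proj_e₀, map_zero]

theorem r_e_mul (x : ExteriorAlgebra R M) : S.r (S.e * x) = 0 := by
  rw [map_mul, r_e, zero_mul]

theorem j_ι_mul (m' : M') (a : ExteriorAlgebra R M') :
    S.j (ExteriorAlgebra.ι R m' * a) = ExteriorAlgebra.ι R (S.incl m') * S.j a := by
  unfold j
  rw [map_mul, ExteriorAlgebra.map_apply_ι]

theorem r_ι_mul (m : M) (x : ExteriorAlgebra R M) :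
    S.r (ExteriorAlgebra.ι R m * x) = ExteriorAlgebra.ι R (S.proj m) * S.r x := by
  unfold r
  rw [map_mul, ExteriorAlgebra.map_apply_ι]

theorem kd_j (φ : Module.Dual R M) (a : ExteriorAlgebra R M') :
    kd φ (S.j a) = S.j (kd (φ ∘ₗ S.incl) a) := kd_map S.incl φ a

theorem kd_e_mul_j (φ : Module.Dual R M) (b : ExteriorAlgebra R M') :
    kd φ (S.e * S.j b) = φ S.e₀ • S.j b - S.e * S.j (kd (φ ∘ₗ S.incl) b) := by
  unfold e
  rw [kd_ι_mul, kd_j]

theorem kd_ε_j (a : ExteriorAlgebra R M') : kd S.ε (S.j a) = 0 := by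
  rw [kd_j]
  have : S.ε ∘ₗ S.incl = 0 := LinearMap.ext S.ε_incl
  rw [this, kd_zero, map_zero]

theorem kd_ε_e_mul_j (b : ExteriorAlgebra R M') : kd S.ε (S.e * S.j b) = S.j b := by
  rw [kd_e_mul_j, S.ε_e₀, one_smul]
  have : S.ε ∘ₗ S.incl = 0 := LinearMap.ext S.ε_incl
  rw [this, kd_zero, map_zero, mul_zero, sub_zero]

theorem e_mul_e : S.e * S.e = 0 := ExteriorAlgebra.ι_sq_zero S.e₀

theorem ι_mul_e (m : M) : ExteriorAlgebra.ι R m * S.e = -(S.e * ExteriorAlgebra.ι R m) :=
  eq_neg_of_add_eq_zero_left (ExteriorAlgebra.ι_add_mul_swap m S.e₀)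

theorem ι_eq (m : M) :
    ExteriorAlgebra.ι R m = S.ε m • S.e + ExteriorAlgebra.ι R (S.incl (S.proj m)) := by
  conv_lhs => rw [S.decomp m]
  rw [map_add, map_smul]
  rfl

/-- every element of `⋀ M` is `e₀ ∧ j b + j a`, with `b = r (ε ⌟ x)` and `a = r x`. -/
theorem recon (x : ExteriorAlgebra R M) : S.e * S.j (S.r (kd S.ε x)) + S.j (S.r x) = x := by
  induction x using CliffordAlgebra.left_induction with
  | algebraMap c =>
    change S.e * S.j (S.r (kd S.ε (algebraMap R (ExteriorAlgebra R M) c))) +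
      S.j (S.r (algebraMap R (ExteriorAlgebra R M) c)) = algebraMap R (ExteriorAlgebra R M) c
    rw [kd_algebraMap, map_zero, map_zero, mul_zero, zero_add, AlgHom.commutes, AlgHom.commutes]
  | add x y hx hy =>
    rw [map_add, map_add, map_add, mul_add, map_add, map_add, add_add_add_comm, hx, hy]
  | ι_mul x m hx =>
    change S.e * S.j (S.r (kd S.ε (ExteriorAlgebra.ι R m * x))) +
      S.j (S.r (ExteriorAlgebra.ι R m * x)) = ExteriorAlgebra.ι R m * x
    rw [kd_ι_mul, map_sub, map_smul, r_ι_mul, r_ι_mul, map_sub, map_smul, j_ι_mul, j_ι_mul]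
    set A₁ := S.j (S.r (kd S.ε x)) with hA₁
    set A₂ := S.j (S.r x) with hA₂
    set I := ExteriorAlgebra.ι R (S.incl (S.proj m)) with hI
    have hm : ExteriorAlgebra.ι R m = S.ε m • S.e + I := S.ι_eq m
    have hIE : I * S.e = -(S.e * I) := S.ι_mul_e _
    have hx' : x = S.e * A₁ + A₂ := hx.symm
    conv_rhs => rw [hx', hm]
    rw [add_mul, mul_add, mul_add, smul_mul_assoc, smul_mul_assoc, ← mul_assoc, S.e_mul_e, zero_mul,
      smul_zero, zero_add, ← mul_assoc I, hIE, neg_mul, mul_sub, mul_smul_comm, mul_assoc]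
    abel

end Split

end Groth.Agent.Lib.Seat90.ExtKoszulB
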