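import Mathlib
import Groth.Prelude
import Groth.Agent.Lib.Seat31KoszulSyz
import Groth.Agent.Lib.Seat90ExtKoszulB

/-!
# Comparison of the mapping-cone Koszul complex with the exterior-algebra model (Seat 90)

`IsModel K M φ`: the cochain complex `K` is (degreewise linearly) isomorphic to the exterior-algebra
Koszul complex `(⋀ M, kd φ)`, graded by `grZ`.  The mapping-cone Koszul complex `Koszul.koszul A l`
is a model for `M = Fin l.length → A` with `φ = ∑ lᵢ xᵢ` (`isModel_koszul`).  Consequence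
(`kExact_of_koszulRegular`): for a Koszul-regular list the exterior-algebra Koszul complex is exact in
positive degrees.
-/

set_option autoImplicit false
universe u v w

namespace Groth.Agent.Lib.Seat90.ExtKoszulC

open CategoryTheory CategoryTheory.Limits CochainComplex HomComplex
open Groth.Agent.Lib.Seat31.KoszulSyz Groth.Agent.Lib.Seat90.ExtKoszulA
  Groth.Agent.Lib.Seat90.ExtKoszulB

section KExact

variable {R : Type u} [CommRing R] {M : Type v} [AddCommGroup M] [Module R M]
  {N : Type w} [AddCommGroup N] [Module R N]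

/-- the exterior-algebra Koszul complex of `φ` is exact in positive degrees. -/
def KExact (M : Type v) [AddCommGroup M] [Module R M] (φ : Module.Dual R M) : Prop :=
  ∀ p : ℕ, 1 ≤ p → ∀ ω ∈ ⋀[R]^p M, kd φ ω = 0 → ∃ η ∈ ⋀[R]^(p + 1) M, kd φ η = ω

theorem KExact.of_equiv (σ : M ≃ₗ[R] N) (φ : Module.Dual R N)
    (h : KExact M (φ ∘ₗ (σ : M →ₗ[R] N))) : KExact N φ := by
  intro p hp ω hω hd
  have hcomp : (ExteriorAlgebra.map (σ : M →ₗ[R] N)).comp
      (ExteriorAlgebra.map (σ.symm : N →ₗ[R] M)) = AlgHom.id R _ := by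
    rw [ExteriorAlgebra.map_comp_map]
    have : (σ : M →ₗ[R] N) ∘ₗ (σ.symm : N →ₗ[R] M) = LinearMap.id :=
      LinearMap.ext fun x => σ.apply_symm_apply x
    rw [this, ExteriorAlgebra.map_id]
  have hcomp' : (ExteriorAlgebra.map (σ.symm : N →ₗ[R] M)).comp
      (ExteriorAlgebra.map (σ : M →ₗ[R] N)) = AlgHom.id R _ := by
    rw [ExteriorAlgebra.map_comp_map]
    have : (σ.symm : N →ₗ[R] M) ∘ₗ (σ : M →ₗ[R] N) = LinearMap.id :=
      LinearMap.ext fun x => σ.symm_apply_apply x
    rw [this, ExteriorAlgebra.map_id]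
  set ω' := ExteriorAlgebra.map (σ.symm : N →ₗ[R] M) ω with hω'
  have h1 : ExteriorAlgebra.map (σ : M →ₗ[R] N) ω' = ω := congr($hcomp ω)
  have h2 : kd (φ ∘ₗ (σ : M →ₗ[R] N)) ω' = 0 := by
    have h3 : ExteriorAlgebra.map (σ : M →ₗ[R] N) (kd (φ ∘ₗ (σ : M →ₗ[R] N)) ω') = 0 := by
      rw [← kd_map, h1, hd]
    have h4 := congr($hcomp' (kd (φ ∘ₗ (σ : M →ₗ[R] N)) ω'))
    simp only [AlgHom.comp_apply, AlgHom.id_apply] at h4
    rw [← h4, h3, map_zero]
  obtain ⟨η', hη', hη'd⟩ := h p hp ω' (map_mem _ p hω) h2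
  refine ⟨ExteriorAlgebra.map (σ : M →ₗ[R] N) η', map_mem _ _ hη', ?_⟩
  rw [kd_map, hη'd, h1]

end KExact

variable {A : Type u} [CommRing A]

/-- `K` is degreewise isomorphic to the exterior-algebra Koszul complex of `(M, φ)`. -/
def IsModel (K : CochainComplex (ModuleCat.{u} A) ℤ) (M : Type u) [AddCommGroup M] [Module A M]
    (φ : Module.Dual A M) : Prop :=
  ∃ θ : ∀ q : ℤ, K.X q →ₗ[A] ExteriorAlgebra A M,
    (∀ q, Function.Injective (θ q)) ∧ (∀ q, LinearMap.range (θ q) = grZ A M q) ∧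
    ∀ (q q' : ℤ) (_ : q + 1 = q') (x : K.X q), θ q' ((K.d q q').hom x) = kd φ (θ q x)

section Cone

variable {K : CochainComplex (ModuleCat.{u} A) ℤ} {M M' : Type u} [AddCommGroup M] [Module A M]
  [AddCommGroup M'] [Module A M']

theorem isModel_cone (S : Split A M M') (φ : Module.Dual A M) (f : A) (hf : φ S.e₀ = f)
    (h : IsModel K M' (φ ∘ₗ S.incl)) : IsModel (mappingCone (f • 𝟙 K)) M φ := by
  obtain ⟨θ', hinj, hrange, hcompat⟩ := h
  set ψ : K ⟶ K := f • 𝟙 K with hψ
  let θ : ∀ q : ℤ, (mappingCone ψ).X q →ₗ[A] ExteriorAlgebra A M := fun q =>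
    LinearMap.mulLeft A S.e ∘ₗ S.j.toLinearMap ∘ₗ θ' (q + 1) ∘ₗ cfst ψ q (q + 1) rfl +
      S.j.toLinearMap ∘ₗ θ' q ∘ₗ csnd ψ q
  have hθ : ∀ q x, θ q x = S.e * S.j (θ' (q + 1) (cfst ψ q (q + 1) rfl x)) +
      S.j (θ' q (csnd ψ q x)) := fun q x => rfl
  have hmem' : ∀ q (u : K.X q), θ' q u ∈ grZ A M' q := fun q u => by
    rw [← hrange q]; exact ⟨u, rfl⟩
  refine ⟨θ, ?_, ?_, ?_⟩
  · intro q
    rw [injective_iff_map_eq_zero]
    intro x hx
    rw [hθ] at hx
    have hb : θ' (q + 1) (cfst ψ q (q + 1) rfl x) = 0 := by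
      have := congr(S.r (kd S.ε $hx))
      rwa [map_add, S.kd_ε_e_mul_j, S.kd_ε_j, add_zero, S.r_j, map_zero, map_zero] at this
    have ha : θ' q (csnd ψ q x) = 0 := by
      have := congr(S.r $hx)
      rwa [map_add, S.r_e_mul, zero_add, S.r_j, map_zero] at this
    have hb' : cfst ψ q (q + 1) rfl x = 0 := hinj _ (hb.trans (map_zero _).symm)
    have ha' : csnd ψ q x = 0 := hinj _ (ha.trans (map_zero _).symm)
    apply cone_ext ψ q (q + 1) rfl
    · rw [hb', map_zero]
    · rw [ha', map_zero]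
  · intro q
    ext y
    constructor
    · rintro ⟨x, rfl⟩
      rw [hθ]
      refine Submodule.add_mem _ ?_ ?_
      · exact ι_mul_mem_grZ S.e₀ rfl (map_mem_grZ S.incl (hmem' _ _))
      · exact map_mem_grZ S.incl (hmem' _ _)
    · intro hy
      have hb : S.r (kd S.ε y) ∈ grZ A M' (q + 1) :=
        map_mem_grZ S.proj (kd_mem_grZ S.ε rfl hy)
      have ha : S.r y ∈ grZ A M' q := map_mem_grZ S.proj hy
      rw [← hrange] at hb ha
      obtain ⟨u, hu⟩ := hb
      obtain ⟨v, hv⟩ := ha
      refine ⟨cinl ψ q (q + 1) rfl u + cinr ψ q v, ?_⟩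
      have h1 : cfst ψ q (q + 1) rfl (cinl ψ q (q + 1) rfl u + cinr ψ q v) = u := by
        rw [map_add, cfst_cinl, cfst_cinr, add_zero]
      have h2 : csnd ψ q (cinl ψ q (q + 1) rfl u + cinr ψ q v) = v := by
        rw [map_add, csnd_cinl, csnd_cinr, zero_add]
      rw [hθ, h1, h2, hu, hv, S.recon]
  · intro q q' hq x
    subst hq
    rw [hθ, hθ, cfst_d ψ q (q + 1) (q + 1 + 1) rfl rfl, csnd_d ψ q (q + 1) rfl]
    have e1 : (ψ.f (q + 1)).hom (cfst ψ q (q + 1) rfl x) = f • cfst ψ q (q + 1) rfl x := rfl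
    rw [e1]
    set b := θ' (q + 1) (cfst ψ q (q + 1) rfl x) with hb
    set a := θ' q (csnd ψ q x) with ha
    have h1 : θ' (q + 1 + 1) (-(K.d (q + 1) (q + 1 + 1)).hom (cfst ψ q (q + 1) rfl x)) =
        -kd (φ ∘ₗ S.incl) b := by
      rw [map_neg, hcompat (q + 1) (q + 1 + 1) rfl]
    have h2 : θ' (q + 1) (f • cfst ψ q (q + 1) rfl x + (K.d q (q + 1)).hom (csnd ψ q x)) =
        f • b + kd (φ ∘ₗ S.incl) a := by
      rw [map_add, map_smul, hcompat q (q + 1) rfl]
    rw [h1, h2, map_add (kd φ), S.kd_e_mul_j, S.kd_j, hf, map_neg, mul_neg, map_add, map_smul]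
    abel

end Cone

section Nil

theorem isModel_nil (M : Type u) [AddCommGroup M] [Module A M] [Subsingleton M]
    (φ : Module.Dual A M) : IsModel (Koszul.koszul A []) M φ := by
  change IsModel ((CochainComplex.singleFunctor (ModuleCat.{u} A) 0).obj (ModuleCat.of A A)) M φ
  let K := (CochainComplex.singleFunctor (ModuleCat.{u} A) 0).obj (ModuleCat.of A A)
  have hsub : ∀ q : ℤ, q ≠ 0 → Subsingleton (K.X q) := fun q hq =>
    ModuleCat.subsingleton_of_isZero (HomologicalComplex.isZero_single_obj_X _ _ _ _ hq)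
  let E : K.X 0 ≃ₗ[A] A :=
    (HomologicalComplex.singleObjXIsoOfEq (ComplexShape.up ℤ) 0 (ModuleCat.of A A) 0
      rfl).toLinearEquiv
  let θ : ∀ q : ℤ, K.X q →ₗ[A] ExteriorAlgebra A M := fun q =>
    if h : q = 0 then
      Algebra.linearMap A (ExteriorAlgebra A M) ∘ₗ
        (HomologicalComplex.singleObjXIsoOfEq (ComplexShape.up ℤ) 0 (ModuleCat.of A A) q
          h).toLinearEquiv.toLinearMap
    else 0
  have hθ0 : θ 0 = Algebra.linearMap A (ExteriorAlgebra A M) ∘ₗ E.toLinearMap := by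
    change (if h : (0 : ℤ) = 0 then _ else _) = _
    rw [dif_pos rfl]
  have hι : LinearMap.range (ExteriorAlgebra.ι A : M →ₗ[A] ExteriorAlgebra A M) = ⊥ := by
    rw [LinearMap.range_eq_bot]
    ext m
    rw [Subsingleton.elim m 0, map_zero, LinearMap.zero_apply]
  have hinjA : Function.Injective (Algebra.linearMap A (ExteriorAlgebra A M)) :=
    (ExteriorAlgebra.algebraMap_leftInverse (R := A) M).injective
  refine ⟨θ, ?_, ?_, ?_⟩
  · intro q
    by_cases h : q = 0
    · subst h
      rw [hθ0, LinearMap.coe_comp]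
      exact hinjA.comp E.injective
    · have := hsub q h
      exact Function.injective_of_subsingleton _
  · intro q
    by_cases h : q = 0
    · subst h
      rw [hθ0, LinearMap.range_comp, LinearMap.range_eq_top.2 E.surjective, Submodule.map_top,
        grZ_of_nonpos le_rfl]
      change _ = ⋀[A]^0 M
      rw [ExteriorAlgebra.exteriorPower, pow_zero, Submodule.one_eq_range]
    · have : θ q = 0 := dif_neg h
      rw [this, LinearMap.range_zero]
      rcases lt_or_gt_of_ne h with hq | hq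
      · rw [grZ_of_nonpos hq.le, ExteriorAlgebra.exteriorPower, hι, ← Submodule.zero_eq_bot,
          zero_pow (by omega)]
      · rw [grZ_of_pos hq]
  · intro q q' hq x
    have hd : K.d q q' = 0 := HomologicalComplex.single_obj_d _ _ _ _ _
    rw [hd]
    change θ q' 0 = _
    rw [map_zero]
    by_cases h : q = 0
    · subst h
      rw [hθ0, LinearMap.comp_apply, Algebra.linearMap_apply, kd_algebraMap]
    · have : θ q = 0 := dif_neg h
      rw [this, LinearMap.zero_apply, map_zero]

end Nil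

section List

/-- the functional `m ↦ ∑ lᵢ mᵢ`. -/
noncomputable def phi {n : ℕ} (F : Fin n → A) : Module.Dual A (Fin n → A) :=
  ∑ i : Fin n, F i • (LinearMap.proj i : (Fin n → A) →ₗ[A] A)

theorem phi_apply {n : ℕ} (F : Fin n → A) (m : Fin n → A) : phi F m = ∑ i, F i * m i := by
  unfold phi
  rw [LinearMap.sum_apply]
  rfl

/-- the splitting `A^(n+1) = A e₀ ⊕ Aⁿ`. -/
noncomputable def consSplit (n : ℕ) : Split A (Fin (n + 1) → A) (Fin n → A) where
  incl :=
    { toFun := fun m' => Fin.cons 0 m'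
      map_add' := fun x y => by
        funext i
        refine Fin.cases ?_ (fun k => ?_) i
        · simp
        · simp
      map_smul' := fun c x => by
        funext i
        refine Fin.cases ?_ (fun k => ?_) i
        · simp
        · simp }
  proj := LinearMap.pi fun k => LinearMap.proj k.succ
  e₀ := Pi.single 0 1
  ε := LinearMap.proj 0
  proj_incl := fun m' => by
    funext k
    simp
  proj_e₀ := by
    funext k
    simp [Fin.succ_ne_zero]
  ε_incl := fun m' => by simp
  ε_e₀ := by simp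
  decomp := fun m => by
    funext i
    refine Fin.cases ?_ (fun k => ?_) i
    · simp
    · simp [Fin.succ_ne_zero]

theorem isModel_koszul : ∀ l : List A,
    IsModel (Koszul.koszul A l) (Fin l.length → A) (phi l.get)
  | [] => by
    have : Subsingleton (Fin ([] : List A).length → A) :=
      ⟨fun a b => funext fun i => i.elim0⟩
    exact isModel_nil _ _
  | f :: l => by
    change IsModel (mappingCone (f • 𝟙 (Koszul.koszul A l))) (Fin (l.length + 1) → A)
      (phi (f :: l).get)
    refine isModel_cone (consSplit l.length) _ f ?_ ?_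
    · rw [phi_apply, Fin.sum_univ_succ]
      simp [consSplit, Fin.succ_ne_zero]
    · have : phi (f :: l).get ∘ₗ (consSplit l.length).incl = phi l.get := by
        refine LinearMap.ext fun m => ?_
        rw [LinearMap.comp_apply, phi_apply, phi_apply]
        change ∑ i : Fin (l.length + 1), (f :: l).get i *
          ((consSplit (A := A) l.length).incl m : Fin (l.length + 1) → A) i = _
        rw [Fin.sum_univ_succ]
        simp [consSplit]
      rw [this]
      exact isModel_koszul l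

theorem kExact_list (l : List A) (hl : LCI.IsKoszulRegularSeq A l) :
    KExact (Fin l.length → A) (phi l.get) := by
  intro p hp ω hω hd
  obtain ⟨θ, hinj, hrange, hcompat⟩ := isModel_koszul l
  have hq : (-(p : ℤ)) ≠ 0 := by omega
  rw [← grZ_neg_natCast, ← hrange] at hω
  obtain ⟨x, rfl⟩ := hω
  have hdx : ((Koszul.koszul A l).d (-(p : ℤ)) (-(p : ℤ) + 1)).hom x = 0 := by
    apply hinj
    rw [hcompat _ _ rfl, hd, map_zero]
  have hex : (Koszul.koszul A l).ExactAt (-(p : ℤ)) :=
    (HomologicalComplex.exactAt_iff_isZero_homology _ _).2 (hl _ hq)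
  rw [HomologicalComplex.exactAt_iff' _ (-(p : ℤ) - 1) (-(p : ℤ)) (-(p : ℤ) + 1) (by simp) (by simp),
    ShortComplex.moduleCat_exact_iff] at hex
  obtain ⟨y, hy⟩ := hex x hdx
  refine ⟨θ (-(p : ℤ) - 1) y, ?_, ?_⟩
  · have : θ (-(p : ℤ) - 1) y ∈ grZ A (Fin l.length → A) (-(p : ℤ) - 1) := by
      rw [← hrange]; exact ⟨y, rfl⟩
    have e2 : grZ A (Fin l.length → A) (-(p : ℤ) - 1) = ⋀[A]^(p + 1) (Fin l.length → A) := by
      have e : (-(p : ℤ) - 1) = -((p + 1 : ℕ) : ℤ) := by push_cast; ring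
      rw [e, grZ_neg_natCast]
    rwa [e2] at this
  · rw [← hcompat (-(p : ℤ) - 1) (-(p : ℤ)) (by ring)]
    exact congr(θ _ $hy)

/-- **Exactness of the exterior-algebra Koszul complex of a Koszul-regular sequence.** -/
theorem kExact_of_koszulRegular {n : ℕ} (F : Fin n → A)
    (hF : LCI.IsKoszulRegularSeq A (List.ofFn F)) : KExact (Fin n → A) (phi F) := by
  have h1 := kExact_list (List.ofFn F) hF
  have hlen : (List.ofFn F).length = n := List.length_ofFn
  let σ : (Fin (List.ofFn F).length → A) ≃ₗ[A] (Fin n → A) :=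
    LinearEquiv.funCongrLeft A A (finCongr hlen.symm)
  refine KExact.of_equiv σ (phi F) ?_
  have : phi F ∘ₗ (σ : (Fin (List.ofFn F).length → A) →ₗ[A] (Fin n → A)) =
      phi (List.ofFn F).get := by
    refine LinearMap.ext fun m => ?_
    rw [LinearMap.comp_apply, phi_apply, phi_apply]
    refine (Fintype.sum_equiv (finCongr hlen) _ _ fun i => ?_).symm
    rw [List.get_ofFn]
    rfl
  rw [this]
  exact h1

end List

end Groth.Agent.Lib.Seat90.ExtKoszulC
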