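import Mathlib

/-!
# Comparison of complexes of projective modules, by hand (Seat 90)

For `ℕ`-indexed families of modules with differentials of degree `-1`: a map in degree `0` from a
complex of projectives to an exact complex lifts to a chain map (`exists_lift`), and a chain map that
vanishes in degree `0` is null-homotopic (`exists_homotopy`).
-/

set_option autoImplicit false
universe u v w

namespace Groth.Agent.Lib.Seat90.ExtKoszulD

variable {R : Type u} [CommRing R]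
variable {X : ℕ → Type v} [∀ p, AddCommGroup (X p)] [∀ p, Module R (X p)]
variable {Y : ℕ → Type w} [∀ p, AddCommGroup (Y p)] [∀ p, Module R (Y p)]
variable (dX : ∀ p, X (p + 1) →ₗ[R] X p) (dY : ∀ p, Y (p + 1) →ₗ[R] Y p)

/-- lifting a linear map through a differential, from a projective module. -/
theorem exists_lift_step {P : Type v} [AddCommGroup P] [Module R P] [Module.Projective R P]
    {N : Type w} [AddCommGroup N] [Module R N] {N' : Type w} [AddCommGroup N'] [Module R N']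
    (d : N' →ₗ[R] N) (g : P →ₗ[R] N) (hg : ∀ x, g x ∈ LinearMap.range d) :
    ∃ g' : P →ₗ[R] N', ∀ x, d (g' x) = g x := by
  obtain ⟨h, hh⟩ := Module.projective_lifting_property d.rangeRestrict
    (g.codRestrict (LinearMap.range d) hg) d.surjective_rangeRestrict
  refine ⟨h, fun x => ?_⟩
  have := congr(($hh x : N))
  simpa using this

include dX dY in
theorem exists_lift [∀ p, Module.Projective R (X p)]
    (hX : ∀ p x, dX p (dX (p + 1) x) = 0)
    (hY : ∀ p (y : Y (p + 1)), dY p y = 0 → ∃ z, dY (p + 1) z = y)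
    (φ₀ : X 0 →ₗ[R] Y 0) (h₀ : ∀ x : X 1, φ₀ (dX 0 x) ∈ LinearMap.range (dY 0)) :
    ∃ φ : ∀ p, X p →ₗ[R] Y p, φ 0 = φ₀ ∧ ∀ p x, dY p (φ (p + 1) x) = φ p (dX p x) := by
  classical
  let J : ∀ p, (X p →ₗ[R] Y p) → Prop := fun p ψ =>
    ∀ x : X (p + 1), ψ (dX p x) ∈ LinearMap.range (dY p)
  have step : ∀ p (ψ : X p →ₗ[R] Y p), J p ψ →
      ∃ ψ' : X (p + 1) →ₗ[R] Y (p + 1), (∀ x, dY p (ψ' x) = ψ (dX p x)) ∧ J (p + 1) ψ' := by
    intro p ψ hψ
    obtain ⟨ψ', hψ'⟩ := exists_lift_step (dY p) (ψ ∘ₗ dX p) hψ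
    refine ⟨ψ', hψ', fun x => ?_⟩
    have : dY p (ψ' (dX (p + 1) x)) = 0 := by
      rw [hψ', LinearMap.comp_apply, hX, map_zero]
    obtain ⟨z, hz⟩ := hY p _ this
    exact ⟨z, hz⟩
  let seq : ∀ p, {ψ : X p →ₗ[R] Y p // J p ψ} := fun p =>
    Nat.rec (motive := fun p => {ψ : X p →ₗ[R] Y p // J p ψ}) ⟨φ₀, h₀⟩
      (fun p s => ⟨(step p s.1 s.2).choose, (step p s.1 s.2).choose_spec.2⟩) p
  refine ⟨fun p => (seq p).1, rfl, fun p x => ?_⟩
  exact (step p (seq p).1 (seq p).2).choose_spec.1 x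

include dX dY in
theorem exists_homotopy [∀ p, Module.Projective R (X p)]
    (hX : ∀ p x, dX p (dX (p + 1) x) = 0)
    (hY : ∀ p (y : Y (p + 1)), dY p y = 0 → ∃ z, dY (p + 1) z = y)
    (D : ∀ p, X p →ₗ[R] Y p) (hD : ∀ p x, dY p (D (p + 1) x) = D p (dX p x)) (hD0 : D 0 = 0) :
    ∃ h : ∀ p, X p →ₗ[R] Y (p + 1),
      ∀ p x, D (p + 1) x = dY (p + 1) (h (p + 1) x) + h p (dX p x) := by
  classical
  let J : ∀ p, (X p →ₗ[R] Y (p + 1)) → Prop := fun p h =>
    ∀ x : X (p + 1), dY p (D (p + 1) x - h (dX p x)) = 0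
  have step : ∀ p (h : X p →ₗ[R] Y (p + 1)), J p h →
      ∃ h' : X (p + 1) →ₗ[R] Y (p + 1 + 1),
        (∀ x, dY (p + 1) (h' x) = D (p + 1) x - h (dX p x)) ∧ J (p + 1) h' := by
    intro p h hh
    obtain ⟨h', hh'⟩ := exists_lift_step (dY (p + 1)) (D (p + 1) - h ∘ₗ dX p) (fun x => by
      obtain ⟨z, hz⟩ := hY p _ (hh x)
      exact ⟨z, hz⟩)
    refine ⟨h', fun x => hh' x, fun x => ?_⟩
    rw [map_sub, hh', LinearMap.sub_apply, LinearMap.comp_apply, hX, map_zero, sub_zero, hD,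
      sub_self]
  have h0 : J 0 (0 : X 0 →ₗ[R] Y 1) := fun x => by
    rw [LinearMap.zero_apply, sub_zero, hD, hD0, LinearMap.zero_apply]
  let seq : ∀ p, {h : X p →ₗ[R] Y (p + 1) // J p h} := fun p =>
    Nat.rec (motive := fun p => {h : X p →ₗ[R] Y (p + 1) // J p h}) ⟨0, h0⟩
      (fun p s => ⟨(step p s.1 s.2).choose, (step p s.1 s.2).choose_spec.2⟩) p
  refine ⟨fun p => (seq p).1, fun p x => ?_⟩
  have := (step p (seq p).1 (seq p).2).choose_spec.1 x
  change dY (p + 1) ((seq (p + 1)).1 x) = _ at this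
  rw [this, sub_add_cancel]

end Groth.Agent.Lib.Seat90.ExtKoszulD
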