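import Mathlib
import Groth.Agent.Lib.Seat90ExtKoszulC
import Groth.Agent.Lib.Seat90ExtKoszulD

/-!
# A Wiebe-type determinant lemma (Seat 90)

`mem_sup_of_mul_mem`: let `F, g : Fin n → R` with `F = c g` for a square matrix `c`, and suppose the
exterior-algebra Koszul complex of `F` is exact in positive degrees.  If `x g_j ∈ (F)` for all `j`,
then `x ∈ (F) + (det c)`.

Proof: lift multiplication by `x : R/(g) → R/(F)` to a chain map `Φ : K(g) → K(F)`; the composite
with `⋀ c : K(F) → K(g)` lifts multiplication by `x` on `R/(F)`, hence is homotopic to `x`; in top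
degree `⋀ⁿ c = det c`, and the homotopy contributes an element of `(F)`.
-/

set_option autoImplicit false
universe u

namespace Groth.Agent.Lib.Seat90.ExtKoszulE

open Groth.Agent.Lib.Seat90.ExtKoszulA Groth.Agent.Lib.Seat90.ExtKoszulC
  Groth.Agent.Lib.Seat90.ExtKoszulD Set.powersetCard

variable {R : Type u} [CommRing R]

theorem phi_mem_span {n : ℕ} (F : Fin n → R) (m : Fin n → R) :
    phi F m ∈ Ideal.span (Set.range F) := by
  rw [phi_apply]
  exact Ideal.sum_mem _ fun i _ => Ideal.mul_mem_right _ _ (Ideal.subset_span ⟨i, rfl⟩)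

theorem exists_phi_eq {n : ℕ} (F : Fin n → R) {a : R} (ha : a ∈ Ideal.span (Set.range F)) :
    ∃ m : Fin n → R, phi F m = a := by
  obtain ⟨c, hc⟩ := Ideal.mem_span_range_iff_exists_fun.1 ha
  refine ⟨c, ?_⟩
  rw [phi_apply, ← hc]
  exact Finset.sum_congr rfl fun i _ => mul_comm _ _

theorem map_mem_of_mem_smul_top {N : Type*} [AddCommGroup N] [Module R N] (I : Ideal R)
    (ℓ : N →ₗ[R] R) {w : N} (hw : w ∈ I • (⊤ : Submodule R N)) : ℓ w ∈ I := by
  refine Submodule.smul_induction_on (p := fun w => ℓ w ∈ I) hw ?_ ?_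
  · intro r hr v _
    rw [map_smul, smul_eq_mul]
    exact I.mul_mem_right _ hr
  · intro v w hv hw
    rw [map_add]
    exact I.add_mem hv hw

theorem mem_sup_of_mul_mem {n : ℕ} (F g : Fin n → R) (c : Matrix (Fin n) (Fin n) R)
    (hc : ∀ i, F i = ∑ j, c i j * g j) (hF : KExact (Fin n → R) (phi F)) (x : R)
    (hx : ∀ j, x * g j ∈ Ideal.span (Set.range F)) :
    x ∈ Ideal.span (Set.range F) ⊔ Ideal.span {c.det} := by
  classical
  cases n with
  | zero =>
    have : c.det = 1 := Matrix.det_isEmpty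
    rw [this, Ideal.span_singleton_one, sup_top_eq]
    trivial
  | succ k =>
  set I := Ideal.span (Set.range F) with hI
  let X : ℕ → Type u := fun p => ↥(⋀[R]^p (Fin (k + 1) → R))
  let dF : ∀ p, X (p + 1) →ₗ[R] X p := fun p =>
    (kd (phi F)).restrict (fun x hx => kd_mem (phi F) p hx)
  let dg : ∀ p, X (p + 1) →ₗ[R] X p := fun p =>
    (kd (phi g)).restrict (fun x hx => kd_mem (phi g) p hx)
  have dF_coe : ∀ p (ω : X (p + 1)), ((dF p ω : X p) : ExteriorAlgebra R (Fin (k + 1) → R)) =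
      kd (phi F) (ω : ExteriorAlgebra R (Fin (k + 1) → R)) := fun _ _ => rfl
  have dg_coe : ∀ p (ω : X (p + 1)), ((dg p ω : X p) : ExteriorAlgebra R (Fin (k + 1) → R)) =
      kd (phi g) (ω : ExteriorAlgebra R (Fin (k + 1) → R)) := fun _ _ => rfl
  -- the linear map with matrix `c`
  let C : (Fin (k + 1) → R) →ₗ[R] (Fin (k + 1) → R) := Matrix.toLin' c.transpose
  have hCapp : ∀ m j, C m j = ∑ i, c i j * m i := fun m j => by
    simp [C, Matrix.toLin'_apply, Matrix.mulVec, dotProduct]
  have hC : phi g ∘ₗ C = phi F := by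
    refine LinearMap.ext fun m => ?_
    rw [LinearMap.comp_apply, phi_apply, phi_apply]
    simp_rw [hCapp, hc, Finset.mul_sum, Finset.sum_mul]
    rw [Finset.sum_comm]
    refine Finset.sum_congr rfl fun i _ => Finset.sum_congr rfl fun j _ => ?_
    ring
  let LC : ∀ p, X p →ₗ[R] X p := fun p =>
    (ExteriorAlgebra.map C).toLinearMap.restrict (fun x hx => map_mem C p hx)
  have LC_coe : ∀ p (ω : X p), ((LC p ω : X p) : ExteriorAlgebra R (Fin (k + 1) → R)) =
      ExteriorAlgebra.map C (ω : ExteriorAlgebra R (Fin (k + 1) → R)) := fun _ _ => rfl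
  have hLC : ∀ p (ω : X (p + 1)), dg p (LC (p + 1) ω) = LC p (dF p ω) := by
    intro p ω
    apply Subtype.ext
    rw [dg_coe, LC_coe, LC_coe, dF_coe, kd_map, hC]
  have hXF : ∀ p (ω : X (p + 1 + 1)), dF p (dF (p + 1) ω) = 0 := by
    intro p ω
    apply Subtype.ext
    rw [dF_coe, dF_coe, kd_kd]
    rfl
  have hXg : ∀ p (ω : X (p + 1 + 1)), dg p (dg (p + 1) ω) = 0 := by
    intro p ω
    apply Subtype.ext
    rw [dg_coe, dg_coe, kd_kd]
    rfl
  have hY : ∀ p (y : X (p + 1)), dF p y = 0 → ∃ z, dF (p + 1) z = y := by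
    intro p y hy
    have hy' : kd (phi F) (y : ExteriorAlgebra R (Fin (k + 1) → R)) = 0 := by
      rw [← dF_coe, hy]
      rfl
    obtain ⟨η, hη, hd⟩ := hF (p + 1) (by omega) y.1 y.2 hy'
    exact ⟨⟨η, hη⟩, Subtype.ext hd⟩
  -- the lift of multiplication by `x`
  have h₀ : ∀ ω : X 1, (x • (LinearMap.id : X 0 →ₗ[R] X 0)) (dg 0 ω) ∈ LinearMap.range (dF 0) := by
    intro ω
    have hω : (ω : ExteriorAlgebra R (Fin (k + 1) → R)) ∈
        LinearMap.range (ExteriorAlgebra.ι R : (Fin (k + 1) → R) →ₗ[R] _) := by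
      have : (ω : ExteriorAlgebra R (Fin (k + 1) → R)) ∈
          LinearMap.range (ExteriorAlgebra.ι R : (Fin (k + 1) → R) →ₗ[R] _) ^ 1 := ω.2
      rwa [pow_one] at this
    obtain ⟨m, hm⟩ := hω
    have hxm : x * phi g m ∈ I := by
      rw [phi_apply, Finset.mul_sum]
      refine Ideal.sum_mem _ fun j _ => ?_
      rw [← mul_assoc]
      exact Ideal.mul_mem_right _ _ (hx j)
    obtain ⟨m', hm'⟩ := exists_phi_eq F hxm
    have hmem : ExteriorAlgebra.ι R m' ∈ ⋀[R]^(0 + 1) (Fin (k + 1) → R) := by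
      rw [ExteriorAlgebra.exteriorPower, zero_add, pow_one]
      exact ⟨m', rfl⟩
    refine ⟨⟨ExteriorAlgebra.ι R m', hmem⟩, ?_⟩
    apply Subtype.ext
    rw [dF_coe]
    change kd (phi F) (ExteriorAlgebra.ι R m') =
      x • kd (phi g) (ω : ExteriorAlgebra R (Fin (k + 1) → R))
    rw [← hm, kd_ι, kd_ι, hm', Algebra.smul_def, ← map_mul]
  obtain ⟨Φ, hΦ0, hΦ⟩ := exists_lift dg dF hXg hY (x • LinearMap.id) h₀
  -- the chain endomorphism `Φ ∘ ⋀c - x`
  let D : ∀ p, X p →ₗ[R] X p := fun p => Φ p ∘ₗ LC p - x • LinearMap.id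
  have hD : ∀ p (ω : X (p + 1)), dF p (D (p + 1) ω) = D p (dF p ω) := by
    intro p ω
    simp only [D, LinearMap.sub_apply, LinearMap.comp_apply, LinearMap.smul_apply,
      LinearMap.id_apply, map_sub, map_smul]
    rw [hΦ, hLC]
  have hD0 : D 0 = 0 := by
    refine LinearMap.ext fun ω => ?_
    have hLC0 : LC 0 ω = ω := by
      apply Subtype.ext
      rw [LC_coe]
      obtain ⟨r, hr⟩ := (mem_zero_iff _).1 ω.2
      rw [← hr, AlgHom.commutes]
    simp only [D, LinearMap.sub_apply, LinearMap.comp_apply, LinearMap.smul_apply,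
      LinearMap.id_apply, LinearMap.zero_apply, hΦ0, hLC0, sub_self]
  obtain ⟨h, hh⟩ := exists_homotopy dF dF hXF hY D hD hD0
  -- the top degree
  let b := Pi.basisFun R (Fin (k + 1))
  let B := b.exteriorPower (k + 1)
  let s₀ : Set.powersetCard (Fin (k + 1)) (k + 1) := ⟨Finset.univ, by simp⟩
  have huniq : ∀ s : Set.powersetCard (Fin (k + 1)) (k + 1), s = s₀ := by
    intro s
    apply Subtype.ext
    have h1 : (s : Finset (Fin (k + 1))).card = k + 1 := s.2
    exact Finset.eq_univ_of_card _ (by rw [h1, Fintype.card_fin])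
  let etop : X (k + 1) := B s₀
  let τ : X (k + 1) →ₗ[R] R := B.coord s₀
  have hτtop : τ etop = 1 := by
    simp [τ, etop]
  have hspan : ∀ ω : X (k + 1), ω = τ ω • etop := by
    intro ω
    apply B.ext_elem
    intro s
    rw [huniq s, map_smul, Finsupp.smul_apply, B.repr_self, Finsupp.single_eq_same, smul_eq_mul,
      mul_one]
    rfl
  -- `⋀ c` is `det c` in top degree
  have hdet : τ (LC (k + 1) etop) = c.det := by
    let emb := ofFinEmbEquiv.symm s₀
    have hemb : Function.Bijective emb :=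
      ⟨emb.injective, Finite.surjective_of_injective emb.injective⟩
    have h1 : etop = exteriorPower.ιMulti R (k + 1) (b ∘ emb) := by
      change b.exteriorPower (k + 1) s₀ = _
      rw [exteriorPower.basis_apply]
      rfl
    have h2 : LC (k + 1) etop = exteriorPower.ιMulti R (k + 1) (C ∘ b ∘ emb) := by
      apply Subtype.ext
      rw [LC_coe, h1, exteriorPower.ιMulti_apply_coe, ExteriorAlgebra.map_apply_ιMulti,
        exteriorPower.ιMulti_apply_coe]
    have h3 : τ = exteriorPower.ιMultiDual R (k + 1) b s₀ := exteriorPower.basis_coord R (k + 1) b s₀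
    rw [h2, h3, exteriorPower.ιMultiDual_apply_ιMulti]
    have h4 : (Matrix.of fun i j => b.coord (ofFinEmbEquiv.symm s₀ j) ((C ∘ b ∘ emb) i)) =
        c.submatrix (Equiv.ofBijective emb hemb) (Equiv.ofBijective emb hemb) := by
      ext i j
      simp only [Matrix.of_apply, Matrix.submatrix_apply, Function.comp_apply,
        Equiv.ofBijective_apply]
      rw [Module.Basis.coord_apply, Pi.basisFun_repr, hCapp]
      simp [b, Pi.single_apply]
      rfl
    rw [h4, Matrix.det_submatrix_equiv_self]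
  -- the differentials take values in `I • ⊤`
  have hdI : ∀ p (z : X (p + 1)), dF p z ∈ I • (⊤ : Submodule R (X p)) := by
    intro p z
    rw [Submodule.mem_smul_top_iff, dF_coe]
    exact kd_mem_smul (phi F) I (phi_mem_span F) p _ z.2
  -- conclusion
  have key1 : τ (D (k + 1) etop) ∈ I := by
    rw [hh k etop, map_add]
    refine I.add_mem ?_ ?_
    · exact map_mem_of_mem_smul_top I τ (hdI _ _)
    · exact map_mem_of_mem_smul_top I (τ ∘ₗ h k) (hdI _ _)
  have key2 : τ (D (k + 1) etop) = c.det * τ (Φ (k + 1) etop) - x := by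
    simp only [D, LinearMap.sub_apply, LinearMap.comp_apply, LinearMap.smul_apply,
      LinearMap.id_apply, map_sub, map_smul, hτtop, smul_eq_mul, mul_one]
    rw [hspan (LC (k + 1) etop), hdet, map_smul, map_smul, smul_eq_mul]
  rw [key2] at key1
  rw [Submodule.mem_sup]
  refine ⟨-(c.det * τ (Φ (k + 1) etop) - x), I.neg_mem key1, c.det * τ (Φ (k + 1) etop), ?_, ?_⟩
  · exact Ideal.mul_mem_right _ _ (Ideal.subset_span rfl)
  · ring

end Groth.Agent.Lib.Seat90.ExtKoszulE
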