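import Mathlib
import Groth.Agent.Lib.Seat90ExtKoszulE

/-!
# The second half of the Wiebe-type determinant lemma (Seat 90)

`mem_span_of_mul_det_mem`: let `F, g : Fin n → R` with `F = c g` for a square matrix `c`, and suppose
the exterior-algebra Koszul complex of `F` is exact in positive degrees.  If `x * det c ∈ (F)` then
`x ∈ (g)`.

Proof: the exterior algebra `⋀ M` (`M = Rⁿ`) acts on itself by iterated interior products
(`Theta`, through the standard identification `M ≃ M*`); `η ↦ Theta (⋀c η) τ` (`τ` the top form) is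
a chain map from the wedge complex `(⋀ M, g ∧ -)` to the Koszul complex `(⋀ M, kd F)`, equal to `τ`
at `η = 1` and to a multiple of `det c` in the other extreme degree.  If `x det c ∈ (F)` then `x`
times this chain map is null-homotopic, and the top degree of the homotopy exhibits `x ∈ (g)`.
-/

set_option autoImplicit false
universe u v w

namespace Groth.Agent.Lib.Seat90.ExtKoszulF

open Groth.Agent.Lib.Seat90.ExtKoszulA Groth.Agent.Lib.Seat90.ExtKoszulC
  Groth.Agent.Lib.Seat90.ExtKoszulD Groth.Agent.Lib.Seat90.ExtKoszulE Set.powersetCard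

section Homotopy

variable {R : Type u} [CommRing R]
variable {X : ℕ → Type v} [∀ p, AddCommGroup (X p)] [∀ p, Module R (X p)]
variable {Y : ℕ → Type w} [∀ p, AddCommGroup (Y p)] [∀ p, Module R (Y p)]
variable (dX : ∀ p, X (p + 1) →ₗ[R] X p) (dY : ∀ p, Y (p + 1) →ₗ[R] Y p)

include dX dY in
/-- a chain map from a complex of projectives to an exact complex whose degree-`0` component has
values in the image of the differential is null-homotopic. -/
theorem exists_homotopy' [∀ p, Module.Projective R (X p)]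
    (hX : ∀ p x, dX p (dX (p + 1) x) = 0)
    (hY : ∀ p (y : Y (p + 1)), dY p y = 0 → ∃ z, dY (p + 1) z = y)
    (D : ∀ p, X p →ₗ[R] Y p) (hD : ∀ p x, dY p (D (p + 1) x) = D p (dX p x))
    (hD0 : ∀ x : X 0, D 0 x ∈ LinearMap.range (dY 0)) :
    ∃ h : ∀ p, X p →ₗ[R] Y (p + 1), (∀ x, D 0 x = dY 0 (h 0 x)) ∧
      ∀ p x, D (p + 1) x = dY (p + 1) (h (p + 1) x) + h p (dX p x) := by
  classical
  obtain ⟨h0, hh0⟩ := exists_lift_step (dY 0) (D 0) hD0
  let J : ∀ p, (X p →ₗ[R] Y (p + 1)) → Prop := fun p h =>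
    ∀ x : X (p + 1), dY p (D (p + 1) x - h (dX p x)) = 0
  have step : ∀ p (h : X p →ₗ[R] Y (p + 1)), J p h →
      ∃ h' : X (p + 1) →ₗ[R] Y (p + 1 + 1),
        (∀ x, dY (p + 1) (h' x) = D (p + 1) x - h (dX p x)) ∧ J (p + 1) h' := by
    intro p h hh
    obtain ⟨h', hh'⟩ := exists_lift_step (dY (p + 1)) (D (p + 1) - h ∘ₗ dX p) (fun x => by
      obtain ⟨z, hz⟩ := hY p _ (hh x)
      exact ⟨z, hz⟩)
    refine ⟨h', fun x => hh' x, fun x => ?_⟩
    rw [map_sub, hh', LinearMap.sub_apply, LinearMap.comp_apply, hX, map_zero, sub_zero, hD,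
      sub_self]
  have hJ0 : J 0 h0 := fun x => by
    rw [map_sub, hD, hh0, sub_self]
  let seq : ∀ p, {h : X p →ₗ[R] Y (p + 1) // J p h} := fun p =>
    Nat.rec (motive := fun p => {h : X p →ₗ[R] Y (p + 1) // J p h}) ⟨h0, hJ0⟩
      (fun p s => ⟨(step p s.1 s.2).choose, (step p s.1 s.2).choose_spec.2⟩) p
  refine ⟨fun p => (seq p).1, fun x => (hh0 x).symm, fun p x => ?_⟩
  have := (step p (seq p).1 (seq p).2).choose_spec.1 x
  change dY (p + 1) ((seq (p + 1)).1 x) = _ at this
  rw [this, sub_add_cancel]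

end Homotopy

section Theta

variable {R : Type u} [CommRing R] {n : ℕ}

/-- `phi` as a linear map `Rⁿ → (Rⁿ)*`. -/
noncomputable def phiL (R : Type u) [CommRing R] (n : ℕ) :
    (Fin n → R) →ₗ[R] Module.Dual R (Fin n → R) where
  toFun := phi
  map_add' v w := by
    refine LinearMap.ext fun m => ?_
    rw [LinearMap.add_apply, phi_apply, phi_apply, phi_apply, ← Finset.sum_add_distrib]
    exact Finset.sum_congr rfl fun i _ => by rw [Pi.add_apply, add_mul]
  map_smul' r v := by
    refine LinearMap.ext fun m => ?_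
    rw [RingHom.id_apply, LinearMap.smul_apply, phi_apply, phi_apply, smul_eq_mul, Finset.mul_sum]
    exact Finset.sum_congr rfl fun i _ => by rw [Pi.smul_apply, smul_eq_mul, mul_assoc]

/-- the action of `⋀ Rⁿ` on itself by iterated interior products. -/
noncomputable def Theta (R : Type u) [CommRing R] (n : ℕ) :
    ExteriorAlgebra R (Fin n → R) →ₐ[R] Module.End R (ExteriorAlgebra R (Fin n → R)) :=
  ExteriorAlgebra.lift R ⟨(CliffordAlgebra.contractLeft
      (Q := (0 : QuadraticForm R (Fin n → R)))).comp (phiL R n), fun v => by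
    refine LinearMap.ext fun x => ?_
    rw [LinearMap.comp_apply, Module.End.mul_apply, LinearMap.zero_apply]
    exact CliffordAlgebra.contractLeft_contractLeft _ x⟩

theorem Theta_ι (v : Fin n → R) : Theta R n (ExteriorAlgebra.ι R v) = kd (phi v) := by
  unfold Theta
  rw [ExteriorAlgebra.lift_ι_apply]
  rfl

theorem Theta_ι_mul (v : Fin n → R) (η ω : ExteriorAlgebra R (Fin n → R)) :
    Theta R n (ExteriorAlgebra.ι R v * η) ω = kd (phi v) (Theta R n η ω) := by
  rw [map_mul, Theta_ι, Module.End.mul_apply]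

/-- `Theta η` lowers degrees by the degree of `η`. -/
theorem Theta_mem (p : ℕ) : ∀ (η : ExteriorAlgebra R (Fin n → R)), η ∈ ⋀[R]^p (Fin n → R) →
    ∀ (q : ℕ) (ω : ExteriorAlgebra R (Fin n → R)), ω ∈ ⋀[R]^(q + p) (Fin n → R) →
      Theta R n η ω ∈ ⋀[R]^q (Fin n → R) := by
  induction p with
  | zero =>
    intro η hη q ω hω
    obtain ⟨r, rfl⟩ := (mem_zero_iff η).1 hη
    rw [AlgHom.commutes, Module.algebraMap_end_apply]
    exact Submodule.smul_mem _ _ hω
  | succ p ih =>
    intro η hη q ω hω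
    rw [ExteriorAlgebra.exteriorPower, pow_succ'] at hη
    refine Submodule.mul_induction_on
      (C := fun η => Theta R n η ω ∈ ⋀[R]^q (Fin n → R)) hη ?_ ?_
    · rintro _ ⟨v, rfl⟩ y hy
      rw [Theta_ι_mul]
      refine kd_mem (phi v) q (ih y hy (q + 1) ω ?_)
      rwa [show q + 1 + p = q + (p + 1) by omega]
    · intro y z hy hz
      rw [map_add, LinearMap.add_apply]
      exact Submodule.add_mem _ hy hz

end Theta

section Top

variable (R : Type u) [CommRing R] (k : ℕ)

/-- the index of the top basis element. -/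
def s₀ : Set.powersetCard (Fin (k + 1)) (k + 1) := ⟨Finset.univ, by simp⟩

theorem s₀_uniq (s : Set.powersetCard (Fin (k + 1)) (k + 1)) : s = s₀ k := by
  apply Subtype.ext
  have h1 : (s : Finset (Fin (k + 1))).card = k + 1 := s.2
  exact Finset.eq_univ_of_card _ (by rw [h1, Fintype.card_fin])

/-- the top form of `R^(k+1)`. -/
noncomputable def etop : ↥(⋀[R]^(k + 1) (Fin (k + 1) → R)) :=
  (Pi.basisFun R (Fin (k + 1))).exteriorPower (k + 1) (s₀ k)

/-- the coordinate of the top form. -/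
noncomputable def tauc : ↥(⋀[R]^(k + 1) (Fin (k + 1) → R)) →ₗ[R] R :=
  ((Pi.basisFun R (Fin (k + 1))).exteriorPower (k + 1)).coord (s₀ k)

theorem tauc_etop : tauc R k (etop R k) = 1 := by
  simp [tauc, etop]

theorem eq_smul_etop (ω : ↥(⋀[R]^(k + 1) (Fin (k + 1) → R))) : ω = tauc R k ω • etop R k := by
  apply ((Pi.basisFun R (Fin (k + 1))).exteriorPower (k + 1)).ext_elem
  intro s
  rw [s₀_uniq k s, map_smul, Finsupp.smul_apply, etop, Module.Basis.repr_self,
    Finsupp.single_eq_same, smul_eq_mul, mul_one]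
  rfl

theorem map_toLin'_etop (a : Matrix (Fin (k + 1)) (Fin (k + 1)) R) :
    ExteriorAlgebra.map (Matrix.toLin' a) (etop R k : ExteriorAlgebra R (Fin (k + 1) → R)) =
      a.det • (etop R k : ExteriorAlgebra R (Fin (k + 1) → R)) := by
  classical
  let b := Pi.basisFun R (Fin (k + 1))
  let emb := ofFinEmbEquiv.symm (s₀ k)
  have hemb : Function.Bijective emb :=
    ⟨emb.injective, Finite.surjective_of_injective emb.injective⟩
  have h1 : etop R k = exteriorPower.ιMulti R (k + 1) (b ∘ emb) := by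
    change b.exteriorPower (k + 1) (s₀ k) = _
    rw [exteriorPower.basis_apply]
    rfl
  let LCe : ↥(⋀[R]^(k + 1) (Fin (k + 1) → R)) :=
    ⟨ExteriorAlgebra.map (Matrix.toLin' a) (etop R k : ExteriorAlgebra R (Fin (k + 1) → R)),
      map_mem _ _ (etop R k).2⟩
  have h2 : LCe = exteriorPower.ιMulti R (k + 1) (Matrix.toLin' a ∘ b ∘ emb) := by
    apply Subtype.ext
    change ExteriorAlgebra.map (Matrix.toLin' a) (etop R k : ExteriorAlgebra R (Fin (k + 1) → R)) = _
    rw [h1, exteriorPower.ιMulti_apply_coe, ExteriorAlgebra.map_apply_ιMulti,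
      exteriorPower.ιMulti_apply_coe]
  have h3 : tauc R k = exteriorPower.ιMultiDual R (k + 1) b (s₀ k) :=
    exteriorPower.basis_coord R (k + 1) b (s₀ k)
  have h5 : tauc R k LCe = a.det := by
    rw [h2, h3, exteriorPower.ιMultiDual_apply_ιMulti]
    have h4 : (Matrix.of fun i j => b.coord (ofFinEmbEquiv.symm (s₀ k) j)
        ((Matrix.toLin' a ∘ b ∘ emb) i)) =
        a.transpose.submatrix (Equiv.ofBijective emb hemb) (Equiv.ofBijective emb hemb) := by
      ext i j
      simp only [Matrix.of_apply, Matrix.submatrix_apply, Function.comp_apply,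
        Equiv.ofBijective_apply, Matrix.transpose_apply]
      rw [Module.Basis.coord_apply, Pi.basisFun_repr, Matrix.toLin'_apply]
      simp [b, Matrix.mulVec, dotProduct, Pi.single_apply]
      rfl
    rw [h4, Matrix.det_submatrix_equiv_self, Matrix.det_transpose]
  have h6 := eq_smul_etop R k LCe
  rw [h5] at h6
  exact congrArg Subtype.val h6

end Top

section Main

variable {R : Type u} [CommRing R]

theorem mem_span_of_mul_det_mem {n : ℕ} (F g : Fin n → R) (c : Matrix (Fin n) (Fin n) R)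
    (hc : ∀ i, F i = ∑ j, c i j * g j) (hF : KExact (Fin n → R) (phi F)) (x : R)
    (hx : x * c.det ∈ Ideal.span (Set.range F)) : x ∈ Ideal.span (Set.range g) := by
  classical
  cases n with
  | zero =>
    have h1 : c.det = 1 := Matrix.det_isEmpty
    have h2 : Ideal.span (Set.range F) = ⊥ := by
      rw [Set.range_eq_empty, Ideal.span_empty]
    rw [h1, mul_one, h2, Ideal.mem_bot] at hx
    rw [hx]
    exact Ideal.zero_mem _
  | succ k =>
  set I := Ideal.span (Set.range F) with hI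
  have hFg : I ≤ Ideal.span (Set.range g) := by
    rw [hI, Ideal.span_le]
    rintro _ ⟨i, rfl⟩
    rw [SetLike.mem_coe, hc]
    exact Ideal.sum_mem _ fun j _ => Ideal.mul_mem_left _ _ (Ideal.subset_span ⟨j, rfl⟩)
  let X : ℕ → Type u := fun q => ↥(⋀[R]^(k + 1 - q) (Fin (k + 1) → R))
  let Y : ℕ → Type u := fun q => ↥(⋀[R]^q (Fin (k + 1) → R))
  let dY : ∀ q, Y (q + 1) →ₗ[R] Y q := fun q =>
    (kd (phi F)).restrict (fun y hy => kd_mem (phi F) q hy)
  have dY_coe : ∀ q (ω : Y (q + 1)), ((dY q ω : Y q) : ExteriorAlgebra R (Fin (k + 1) → R)) =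
      kd (phi F) (ω : ExteriorAlgebra R (Fin (k + 1) → R)) := fun _ _ => rfl
  let wg : ExteriorAlgebra R (Fin (k + 1) → R) →ₗ[R] ExteriorAlgebra R (Fin (k + 1) → R) :=
    LinearMap.mulLeft R (ExteriorAlgebra.ι R g)
  have wg_mem : ∀ q, q < k + 1 → ∀ y : ExteriorAlgebra R (Fin (k + 1) → R),
      y ∈ ⋀[R]^(k + 1 - (q + 1)) (Fin (k + 1) → R) → wg y ∈ ⋀[R]^(k + 1 - q) (Fin (k + 1) → R) := by
    intro q hq y hy
    have h1 : k + 1 - q = (k + 1 - (q + 1)) + 1 := by omega
    rw [h1]
    exact ι_mul_mem g _ hy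
  let dX : ∀ q, X (q + 1) →ₗ[R] X q := fun q =>
    if hq : q < k + 1 then wg.restrict (wg_mem q hq) else 0
  let C' : (Fin (k + 1) → R) →ₗ[R] (Fin (k + 1) → R) := Matrix.toLin' c
  have hC'g : C' g = F := by
    funext i
    simp only [C', Matrix.toLin'_apply, Matrix.mulVec, dotProduct]
    exact (hc i).symm
  let τ : ExteriorAlgebra R (Fin (k + 1) → R) := (etop R k : ExteriorAlgebra R (Fin (k + 1) → R))
  let psi : ExteriorAlgebra R (Fin (k + 1) → R) →ₗ[R] ExteriorAlgebra R (Fin (k + 1) → R) :=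
    (LinearMap.applyₗ τ) ∘ₗ (Theta R (k + 1)).toLinearMap ∘ₗ (ExteriorAlgebra.map C').toLinearMap
  have psi_apply : ∀ η, psi η = Theta R (k + 1) (ExteriorAlgebra.map C' η) τ := fun _ => rfl
  have psi_mul : ∀ η, psi (ExteriorAlgebra.ι R g * η) = kd (phi F) (psi η) := by
    intro η
    rw [psi_apply (ExteriorAlgebra.ι R g * η), psi_apply η, map_mul, ExteriorAlgebra.map_apply_ι,
      hC'g, Theta_ι_mul]
  have psi_mem : ∀ q, q ≤ k + 1 → ∀ η : ExteriorAlgebra R (Fin (k + 1) → R),
      η ∈ ⋀[R]^(k + 1 - q) (Fin (k + 1) → R) → psi η ∈ ⋀[R]^q (Fin (k + 1) → R) := by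
    intro q hq η hη
    refine Theta_mem (k + 1 - q) _ (map_mem C' _ hη) q τ ?_
    rw [show q + (k + 1 - q) = k + 1 by omega]
    exact (etop R k).2
  let D : ∀ q, X q →ₗ[R] Y q := fun q =>
    if hq : q ≤ k + 1 then x • psi.restrict (psi_mem q hq) else 0
  have hXX : ∀ q (η : X (q + 1 + 1)), dX q (dX (q + 1) η) = 0 := by
    intro q η
    by_cases h1 : q + 1 < k + 1
    · have h0 : q < k + 1 := by omega
      simp only [dX, dif_pos h1, dif_pos h0]
      apply Subtype.ext
      change ExteriorAlgebra.ι R g * (ExteriorAlgebra.ι R g *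
        (η : ExteriorAlgebra R (Fin (k + 1) → R))) = 0
      rw [← mul_assoc, ExteriorAlgebra.ι_sq_zero, zero_mul]
    · simp only [dX, dif_neg h1, LinearMap.zero_apply, map_zero]
  have hY : ∀ q (y : Y (q + 1)), dY q y = 0 → ∃ z, dY (q + 1) z = y := by
    intro q y hy
    have hy' : kd (phi F) (y : ExteriorAlgebra R (Fin (k + 1) → R)) = 0 := by
      rw [← dY_coe, hy]
      rfl
    obtain ⟨η, hη, hd⟩ := hF (q + 1) (by omega) y.1 y.2 hy'
    exact ⟨⟨η, hη⟩, Subtype.ext hd⟩
  have hD : ∀ q (η : X (q + 1)), dY q (D (q + 1) η) = D q (dX q η) := by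
    intro q η
    by_cases h1 : q + 1 ≤ k + 1
    · have h0 : q ≤ k + 1 := by omega
      have h0' : q < k + 1 := by omega
      simp only [D, dX, dif_pos h1, dif_pos h0, dif_pos h0']
      apply Subtype.ext
      change kd (phi F) (x • psi (η : ExteriorAlgebra R (Fin (k + 1) → R))) =
        x • psi (ExteriorAlgebra.ι R g * (η : ExteriorAlgebra R (Fin (k + 1) → R)))
      rw [map_smul, psi_mul]
    · have h0' : ¬ q < k + 1 := by omega
      simp only [D, dX, dif_neg h1, dif_neg h0', LinearMap.zero_apply, map_zero]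
  -- degree zero
  have hD0 : ∀ η : X 0, D 0 η ∈ LinearMap.range (dY 0) := by
    intro η
    have hη : (η : ExteriorAlgebra R (Fin (k + 1) → R)) ∈ ⋀[R]^(k + 1) (Fin (k + 1) → R) := η.2
    obtain ⟨t, ht⟩ : ∃ t : R, (η : ExteriorAlgebra R (Fin (k + 1) → R)) = t • τ :=
      ⟨tauc R k ⟨_, hη⟩, congrArg Subtype.val (eq_smul_etop R k ⟨_, hη⟩)⟩
    have h3 : Theta R (k + 1) τ τ ∈ ⋀[R]^0 (Fin (k + 1) → R) :=
      Theta_mem (k + 1) τ (etop R k).2 0 τ (by rw [zero_add]; exact (etop R k).2)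
    obtain ⟨r₀, hr₀⟩ := (mem_zero_iff _).1 h3
    have h4 : psi (η : ExteriorAlgebra R (Fin (k + 1) → R)) =
        algebraMap R _ (c.det * (t * r₀)) := by
      rw [psi_apply, ht, map_smul, map_toLin'_etop, smul_smul, map_smul, LinearMap.smul_apply,
        ← hr₀, Algebra.smul_def, ← map_mul]
      congr 1
      ring
    have h5 : x * (c.det * (t * r₀)) ∈ I := by
      rw [← mul_assoc]
      exact I.mul_mem_right _ hx
    obtain ⟨m', hm'⟩ := exists_phi_eq F h5
    have hmem : ExteriorAlgebra.ι R m' ∈ ⋀[R]^(0 + 1) (Fin (k + 1) → R) := by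
      rw [ExteriorAlgebra.exteriorPower, zero_add, pow_one]
      exact ⟨m', rfl⟩
    refine ⟨⟨ExteriorAlgebra.ι R m', hmem⟩, ?_⟩
    apply Subtype.ext
    rw [dY_coe]
    simp only [D, dif_pos (Nat.zero_le (k + 1))]
    change kd (phi F) (ExteriorAlgebra.ι R m') =
      x • psi (η : ExteriorAlgebra R (Fin (k + 1) → R))
    rw [kd_ι, hm', h4, Algebra.smul_def, ← map_mul]
  obtain ⟨h, -, hh⟩ := exists_homotopy' dX dY hXX hY D hD hD0
  -- the top degree
  have hone : (1 : ExteriorAlgebra R (Fin (k + 1) → R)) ∈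
      ⋀[R]^(k + 1 - (k + 1)) (Fin (k + 1) → R) := by
    rw [Nat.sub_self]
    exact (mem_zero_iff _).2 ⟨1, map_one _⟩
  let one : X (k + 1) := ⟨1, hone⟩
  have hDone : D (k + 1) one = x • etop R k := by
    simp only [D, dif_pos (le_refl (k + 1))]
    apply Subtype.ext
    change x • psi 1 = x • τ
    rw [psi_apply, map_one, map_one, Module.End.one_apply]
  have hιmem : ∀ v : Fin (k + 1) → R,
      ExteriorAlgebra.ι R v ∈ ⋀[R]^(k + 1 - k) (Fin (k + 1) → R) := by
    intro v
    rw [show k + 1 - k = 1 by omega, ExteriorAlgebra.exteriorPower, pow_one]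
    exact ⟨v, rfl⟩
  let ιX : (Fin (k + 1) → R) →ₗ[R] X k :=
    (ExteriorAlgebra.ι R).codRestrict (⋀[R]^(k + 1 - k) (Fin (k + 1) → R)) hιmem
  have hdXone : dX k one = ιX g := by
    simp only [dX, dif_pos (Nat.lt_succ_self k)]
    apply Subtype.ext
    change ExteriorAlgebra.ι R g * 1 = ExteriorAlgebra.ι R g
    rw [mul_one]
  have hdI : ∀ p (z : Y (p + 1)), dY p z ∈ I • (⊤ : Submodule R (Y p)) := by
    intro p z
    rw [Submodule.mem_smul_top_iff, dY_coe]
    exact kd_mem_smul (phi F) I (phi_mem_span F) p _ z.2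
  have key := congrArg (tauc R k) (hh k one)
  rw [hDone, map_smul, tauc_etop, smul_eq_mul, mul_one, map_add, hdXone] at key
  rw [key]
  refine Ideal.add_mem _ (hFg (map_mem_of_mem_smul_top I (tauc R k) (hdI _ _))) ?_
  let L : (Fin (k + 1) → R) →ₗ[R] R := tauc R k ∘ₗ h k ∘ₗ ιX
  change L g ∈ _
  rw [LinearMap.pi_apply_eq_sum_univ L g]
  exact Ideal.sum_mem _ fun j _ => by
    rw [smul_eq_mul]
    exact Ideal.mul_mem_right _ _ (Ideal.subset_span ⟨j, rfl⟩)

end Main

end Groth.Agent.Lib.Seat90.ExtKoszulF
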