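import Mathlib
import Groth.Prelude
import Groth.Agent.Lib.Seat90ExtInj
import Groth.Agent.Lib.Seat8CoextShift
import Groth.Agent.Lib.Helper17KInj12
import Groth.Agent.S1749

/-!
# The triangle `RHom_A(A/I, ω) → ω → Hom_A(I, E)[0]` for an ideal of finite length (Seat 90)
-/

set_option autoImplicit false
universe u
open CategoryTheory CategoryTheory.Limits CategoryTheory.Pretriangulated Opposite

attribute [local instance] HasDerivedCategory.standard

namespace Groth.Agent.Lib.Seat90.FinLenTriangle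

open DerivedCategory HomologicalComplex Groth.Agent.Lib.Seat8.HomSingle
  Groth.Agent.Lib.Seat8.HomDual Groth.Agent.Lib.Seat8.Coext Groth.Agent.Lib.Seat8.RestrictAdj
  Groth.Agent.Lib.Seat8.CoextShift Groth.Agent.Lib.Seat90.ExtInj

variable {A : Type u} [CommRing A]

/-- an object of `D(A)` with cohomology only in degree `0` is its `H^0` placed in degree `0`. -/
theorem nonempty_iso_single_of_homology (X : Dual.D A) (M : ModuleCat.{u} A)
    (h0 : ∀ i : ℤ, i ≠ 0 → IsZero ((homologyFunctor (ModuleCat.{u} A) i).obj X))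
    (e : (homologyFunctor (ModuleCat.{u} A) 0).obj X ≅ M) :
    Nonempty (X ≅ (DerivedCategory.singleFunctor (ModuleCat.{u} A) 0).obj M) := by
  have hGE : X.IsGE 0 := by
    rw [isGE_iff]
    intro i hi
    exact h0 i (by omega)
  have hLE : X.IsLE 0 := by
    rw [isLE_iff]
    intro i hi
    exact h0 i (by omega)
  obtain ⟨Y, ⟨eY⟩⟩ := exists_iso_singleFunctor_obj_of_isGE_of_isLE X 0
  have e2 : Y ≅ M :=
    ((singleFunctorCompHomologyFunctorIso (ModuleCat.{u} A) 0).app Y).symm ≪≫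
      (homologyFunctor (ModuleCat.{u} A) 0).mapIso eY.symm ≪≫ e
  exact ⟨eY ≪≫ (DerivedCategory.singleFunctor (ModuleCat.{u} A) 0).mapIso e2⟩

section B

variable (J : DRing.Cx A) [J.IsKInjective] (N : ModuleCat.{u} A) (i : ℤ)

/-- `Q(N[-i]) ≅ N[0]⟦-i⟧`. -/
noncomputable def isoSg :
    Q.obj (sg i N) ≅ ((DerivedCategory.singleFunctor (ModuleCat.{u} A) 0).obj N)⟦-i⟧ :=
  (singleFunctorIsoCompQ (ModuleCat.{u} A) i).symm.app N ≪≫
    ((singleFunctors (ModuleCat.{u} A)).shiftIso (-i) i 0 (by omega)).symm.app N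

/-- `H^i(Hom_A(N, J)) ≃ Hom_{D(A)}(N[0], J⟦i⟧)`. -/
noncomputable def hdEquiv :
    Dual.HD A (Q.obj ((homFun J).obj (op N))) i ≃ₗ[A]
      ((DerivedCategory.singleFunctor (ModuleCat.{u} A) 0).obj N ⟶ (Q.obj J)⟦i⟧) :=
  ((((homologyFunctorFactors (ModuleCat.{u} A) i).app
      ((homFun J).obj (op N))).toLinearEquiv.trans (extEquiv J N i).symm).trans
    (Linear.homCongr A (isoSg N i) (Iso.refl (Q.obj J)))).trans
    (shiftNegLinearEquiv A _ _ i)

omit [J.IsKInjective] in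
/-- if `Ext^i(N, ω)` vanishes for `i ≠ 0`, then `Q(Hom_A(N, J)) ≅ Ext^0(N, ω)[0]`. -/
theorem nonempty_iso_inD [J.IsKInjective] (ω : Dual.D A) (e : ω ≅ Q.obj J) (N : Type u)
    [AddCommGroup N] [Module A N] (M : Type u) [AddCommGroup M] [Module A M]
    (h0 : ∀ i : ℤ, i ≠ 0 → Subsingleton (Dual.inD A N ⟶ ω⟦i⟧))
    (h1 : Nonempty ((Dual.inD A N ⟶ ω) ≃ₗ[A] M)) :
    Nonempty (Q.obj ((homFun J).obj (op (ModuleCat.of A N))) ≅ Dual.inD A M) := by
  obtain ⟨e1⟩ := h1
  have key : ∀ i : ℤ, Dual.HD A (Q.obj ((homFun J).obj (op (ModuleCat.of A N)))) i ≃ₗ[A]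
      (Dual.inD A N ⟶ ω⟦i⟧) := fun i =>
    (hdEquiv J (ModuleCat.of A N) i).trans
      (Linear.homCongr A (Iso.refl _) ((shiftFunctor (Dual.D A) i).mapIso e.symm))
  refine nonempty_iso_single_of_homology _ (ModuleCat.of A M) (fun i hi => ?_) ?_
  · have := h0 i hi
    have : Subsingleton (Dual.HD A (Q.obj ((homFun J).obj (op (ModuleCat.of A N)))) i) :=
      (key i).toEquiv.subsingleton
    exact ModuleCat.isZero_of_subsingleton _
  · exact LinearEquiv.toModuleIso (((key 0).trans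
      (Linear.homCongr A (Iso.refl _) ((shiftFunctorZero (Dual.D A) ℤ).app ω))).trans e1)

end B

section A

variable (I : Ideal A)

/-- `A/I` with its quotient module structure is `A/I` with the restricted structure. -/
noncomputable def e₀ : (A ⧸ I) ≃ₗ[A]
    ((ModuleCat.restrictScalars.{u} (Ideal.Quotient.mk I)).obj (ModuleCat.of (A ⧸ I) (A ⧸ I))) where
  toFun x := x
  invFun x := x
  left_inv _ := rfl
  right_inv _ := rfl
  map_add' _ _ := rfl
  map_smul' a x := by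
    obtain ⟨y, rfl⟩ := Ideal.Quotient.mk_surjective x
    rfl

/-- `Hom_A(A/I, M)` in its two incarnations. -/
noncomputable def termEquiv (M : ModuleCat.{u} A) :
    ((ModuleCat.restrictScalars.{u} (Ideal.Quotient.mk I)).obj
      ((ModuleCat.coextendScalars.{u, u, u} (Ideal.Quotient.mk I)).obj M)) ≃ₗ[A]
      (ModuleCat.of A (A ⧸ I) ⟶ M) where
  toFun g := ModuleCat.ofHom
    ((ModuleCat.CoextendScalars.equiv (Ideal.Quotient.mk I) M g).comp (e₀ I).toLinearMap)
  invFun k := (ModuleCat.CoextendScalars.equiv (Ideal.Quotient.mk I) M).symm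
    (k.hom.comp (e₀ I).symm.toLinearMap)
  left_inv g := by
    apply ModuleCat.CoextendScalars.ext
    apply LinearMap.ext
    intro x
    rfl
  right_inv k := by
    apply ModuleCat.hom_ext
    apply LinearMap.ext
    intro x
    rfl
  map_add' g g' := by
    apply ModuleCat.hom_ext
    apply LinearMap.ext
    intro x
    rfl
  map_smul' a g := by
    apply ModuleCat.hom_ext
    apply LinearMap.ext
    intro x
    change (ModuleCat.CoextendScalars.equiv (Ideal.Quotient.mk I) M g)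
      ((x : A ⧸ I) * Ideal.Quotient.mk I a) =
        a • (ModuleCat.CoextendScalars.equiv (Ideal.Quotient.mk I) M g) (e₀ I x)
    rw [← map_smul]
    congr 1
    rw [ModuleCat.restrictScalars.smul_def]
    exact mul_comm (x : A ⧸ I) (Ideal.Quotient.mk I a)

/-- the complex `Hom_A(A/I, J)` in its two incarnations. -/
noncomputable def cxIso (J : DRing.Cx A) :
    (resCx (Ideal.Quotient.mk I)).obj (coextCx (Ideal.Quotient.mk I) J) ≅
      (homFun J).obj (op (ModuleCat.of A (A ⧸ I))) :=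
  HomologicalComplex.Hom.isoOfComponents
    (fun n => (termEquiv I (J.X n)).toModuleIso)
    (by
      intro i j _
      apply ModuleCat.hom_ext
      apply LinearMap.ext
      intro g
      rfl)

end A

section Main

variable (I : Ideal A)

/-- the short exact sequence `0 → I → A → A/I → 0`. -/
noncomputable def sesI : ShortComplex (ModuleCat.{u} A) :=
  ShortComplex.mk (ModuleCat.ofHom I.subtype : ModuleCat.of A I ⟶ ModuleCat.of A A)
    (ModuleCat.ofHom (Submodule.mkQ I) : ModuleCat.of A A ⟶ ModuleCat.of A (A ⧸ I)) (by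
      apply ModuleCat.hom_ext
      apply LinearMap.ext
      intro x
      exact (Submodule.Quotient.mk_eq_zero I).2 x.2)

theorem sesI_shortExact : (sesI I).ShortExact := by
  have h1 : Mono (sesI I).f := (ModuleCat.mono_iff_injective _).2 Subtype.val_injective
  have h2 : Epi (sesI I).g := (ModuleCat.epi_iff_surjective _).2 (Submodule.mkQ_surjective I)
  refine ShortComplex.ShortExact.mk ?_
  rw [ShortComplex.moduleCat_exact_iff]
  intro x hx
  exact ⟨⟨x, (Submodule.Quotient.mk_eq_zero I).1 hx⟩, rfl⟩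

theorem exists_triangle [IsLocalRing A] [IsNoetherianRing A] (ω : Dual.D A)
    (hω : Dual.IsDualizing A ω) (hn : Dual.IsNormalized A ω) (hIl : IsFiniteLength A I)
    (E : Type u) [AddCommGroup E] [Module A E] (e' : IsLocalRing.ResidueField A →ₗ[A] E)
    (he : InjHull.IsInjectiveHull e') (R : Dual.D A ⥤ Dual.D (A ⧸ I))
    (adj : DRing.restrictD (Ideal.Quotient.mk I) ⊣ R) :
    ∃ (u : (DRing.restrictD (Ideal.Quotient.mk I)).obj (R.obj ω) ⟶ ω)
      (v : ω ⟶ Dual.inD A (I →ₗ[A] E))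
      (w : Dual.inD A (I →ₗ[A] E) ⟶
        ((DRing.restrictD (Ideal.Quotient.mk I)).obj (R.obj ω))⟦(1 : ℤ)⟧),
      Triangle.mk u v w ∈ distTriang (Dual.D A) := by
  obtain ⟨J, g, hJ, hg, -, hinj⟩ :=
    Groth.Agent.Lib.Helper17.KInj.exists_kInjective_resolution (ModuleCat.{u} A)
      (Q.objPreimage ω)
  have := hJ
  have := hg
  have : IsIso (Q.map g) := by
    rw [DerivedCategory.isIso_Q_map_iff_quasiIso]; exact hg
  obtain ⟨e, -⟩ : ∃ _ : ω ≅ Q.obj J, True :=
    ⟨(Q.objObjPreimageIso ω).symm ≪≫ asIso (Q.map g), trivial⟩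
  have hTI : DRing.TermwiseInjective J := fun n =>
    Module.injective_module_of_injective_object A (J.X n)
  obtain ⟨δ, hT⟩ := tri J hTI (sesI I) (sesI_shortExact I)
  obtain ⟨α, -⟩ := IsCoext.uniq (IsCoext.of_adj adj ω)
    ((isCoext_Z₀ (Ideal.Quotient.mk I) J).comp_iso e.symm)
  obtain ⟨i₁, -⟩ : ∃ _ : (DRing.restrictD (Ideal.Quotient.mk I)).obj (R.obj ω) ≅
      (DQ J).obj (op (sesI I).X₃), True :=
    ⟨(DRing.restrictD (Ideal.Quotient.mk I)).mapIso α ≪≫
      resQIso (Ideal.Quotient.mk I) (coextCx (Ideal.Quotient.mk I) J) ≪≫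
      Q.mapIso (cxIso I J), trivial⟩
  obtain ⟨i₂, -⟩ : ∃ _ : ω ≅ (DQ J).obj (op (sesI I).X₂), True :=
    ⟨e ≪≫ (Q.mapIso (evIso J)).symm, trivial⟩
  obtain ⟨h0, h1⟩ := Groth.Agent.S1749.result A ω hω hn E e' he I hIl
  obtain ⟨i₃'⟩ := nonempty_iso_inD J ω e I (I →ₗ[A] E) h0 h1
  obtain ⟨i₃, -⟩ : ∃ _ : Dual.inD A (I →ₗ[A] E) ≅ (DQ J).obj (op (sesI I).X₁), True :=
    ⟨i₃'.symm, trivial⟩
  refine ⟨i₁.hom ≫ (DQ J).map (sesI I).g.op ≫ i₂.inv,
    i₂.hom ≫ (DQ J).map (sesI I).f.op ≫ i₃.inv, i₃.hom ≫ δ ≫ i₁.inv⟦(1 : ℤ)⟧', ?_⟩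
  refine isomorphic_distinguished _ hT _ (Triangle.isoMk _ _ i₁ i₂ i₃ ?_ ?_ ?_)
  · change (i₁.hom ≫ (DQ J).map (sesI I).g.op ≫ i₂.inv) ≫ i₂.hom = i₁.hom ≫ (DQ J).map (sesI I).g.op
    rw [Category.assoc, Category.assoc, Iso.inv_hom_id, Category.comp_id]
  · change (i₂.hom ≫ (DQ J).map (sesI I).f.op ≫ i₃.inv) ≫ i₃.hom = i₂.hom ≫ (DQ J).map (sesI I).f.op
    rw [Category.assoc, Category.assoc, Iso.inv_hom_id, Category.comp_id]
  · change (i₃.hom ≫ δ ≫ i₁.inv⟦(1 : ℤ)⟧') ≫ i₁.hom⟦(1 : ℤ)⟧' = i₃.hom ≫ δ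
    rw [Category.assoc, Category.assoc, ← Functor.map_comp, Iso.inv_hom_id,
      CategoryTheory.Functor.map_id, Category.comp_id]

end Main

end Groth.Agent.Lib.Seat90.FinLenTriangle
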