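import Mathlib

set_option autoImplicit false
set_option linter.unusedSectionVars false
universe u

namespace Groth.Agent.Lib.Seat90.FixIdeal

open IsLocalRing

variable {k : Type u} [Field k] {A : Type u} [CommRing A] [Algebra k A] [IsLocalRing A]

/-- `δ a = a - σ a` -/
def dl (σ : A →ₐ[k] A) (a : A) : A := a - σ a

theorem dl_add (σ : A →ₐ[k] A) (a b : A) : dl σ (a + b) = dl σ a + dl σ b := by
  simp only [dl, map_add]; ring

theorem dl_sub (σ : A →ₐ[k] A) (a b : A) : dl σ (a - b) = dl σ a - dl σ b := by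
  simp only [dl, map_sub]; ring

theorem dl_mul (σ : A →ₐ[k] A) (r a : A) : dl σ (r * a) = r * dl σ a + dl σ r * σ a := by
  simp only [dl, map_mul]; ring

theorem dl_algebraMap (σ : A →ₐ[k] A) (c : k) : dl σ (algebraMap k A c) = 0 := by
  simp [dl]

theorem dl_zero (σ : A →ₐ[k] A) : dl σ 0 = 0 := by simp [dl]

section
variable (σ : A →ₐ[k] A) (n : ℕ) (hσ : ∀ a : A, (⇑σ)^[n] a = a) (hn : (n : k) ≠ 0)
include hσ hn

theorem n_pos : 0 < n := by
  rcases Nat.eq_zero_or_pos n with h | h
  · subst h; simp at hn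
  · exact h

theorem sigma_mem {a : A} (ha : a ∈ maximalIdeal A) : σ a ∈ maximalIdeal A := by
  by_contra h
  rw [mem_maximalIdeal, mem_nonunits_iff, not_not] at h
  have hpos := n_pos σ n hσ hn
  obtain ⟨j, rfl⟩ := Nat.exists_eq_succ_of_ne_zero hpos.ne'
  have h2 : IsUnit ((σ ^ j) (σ a)) := h.map (σ ^ j)
  rw [AlgHom.coe_pow] at h2
  have h3 : (⇑σ)^[j] (σ a) = a := by
    rw [← Function.iterate_succ_apply]; exact hσ a
  rw [h3] at h2
  exact ha h2

theorem sigma_pow_mem (j : ℕ) {a : A} (ha : a ∈ maximalIdeal A) :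
    (σ ^ j) a ∈ maximalIdeal A := by
  induction j with
  | zero => simpa using ha
  | succ j ih =>
    rw [show σ ^ (j + 1) = σ * σ ^ j from pow_succ' σ j, AlgHom.mul_apply]
    exact sigma_mem σ n hσ hn ih

theorem sigma_mem_sq {a : A} (ha : a ∈ maximalIdeal A ^ 2) : σ a ∈ maximalIdeal A ^ 2 := by
  have h1 : maximalIdeal A ≤ (maximalIdeal A).comap σ := fun x hx => sigma_mem σ n hσ hn hx
  have h2 : maximalIdeal A ^ 2 ≤ (maximalIdeal A ^ 2).comap σ :=
    (Ideal.pow_right_mono h1 2).trans (Ideal.le_comap_pow _ _)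
  exact h2 ha

theorem sigma_pow_mem_sq (j : ℕ) {a : A} (ha : a ∈ maximalIdeal A ^ 2) :
    (σ ^ j) a ∈ maximalIdeal A ^ 2 := by
  induction j with
  | zero => simpa using ha
  | succ j ih =>
    rw [show σ ^ (j + 1) = σ * σ ^ j from pow_succ' σ j, AlgHom.mul_apply]
    exact sigma_mem_sq σ n hσ hn ih

theorem dl_mem {a : A} (ha : a ∈ maximalIdeal A) : dl σ a ∈ maximalIdeal A :=
  Ideal.sub_mem _ ha (sigma_mem σ n hσ hn ha)


/-- the averaging operator -/
noncomputable def av (σ : A →ₐ[k] A) (n : ℕ) (a : A) : A :=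
  algebraMap k A ((n : k)⁻¹) * ∑ i ∈ Finset.range n, (σ ^ i) a

theorem sigma_av (a : A) : σ (av σ n a) = av σ n a := by
  unfold av
  rw [map_mul, AlgHom.commutes, map_sum]
  congr 1
  have h1 : ∀ i, σ ((σ ^ i) a) = (σ ^ (i + 1)) a := by
    intro i
    rw [show σ ^ (i + 1) = σ * σ ^ i from pow_succ' σ i, AlgHom.mul_apply]
  simp only [h1]
  have h2 := Finset.sum_range_succ' (fun i => (σ ^ i) a) n
  have h3 := Finset.sum_range_succ (fun i => (σ ^ i) a) n
  have h4 : (σ ^ n) a = (σ ^ 0) a := by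
    rw [AlgHom.coe_pow, hσ a]; simp
  rw [h3, h4] at h2
  exact (add_right_cancel h2).symm

theorem dl_av (a : A) : dl σ (av σ n a) = 0 := by
  rw [dl, sigma_av σ n hσ hn, sub_self]

theorem sub_av (a : A) :
    a - av σ n a = algebraMap k A ((n : k)⁻¹) * ∑ i ∈ Finset.range n, (a - (σ ^ i) a) := by
  unfold av
  rw [Finset.sum_sub_distrib, Finset.sum_const, Finset.card_range, nsmul_eq_mul, mul_sub,
    ← mul_assoc]
  have : algebraMap k A ((n : k)⁻¹) * (n : A) = 1 := by
    rw [← map_natCast (algebraMap k A) n, ← map_mul, inv_mul_cancel₀ hn, map_one]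
  rw [this, one_mul]

theorem sub_pow_mem_sq {b : A} (hb : dl σ b ∈ maximalIdeal A ^ 2) (i : ℕ) :
    b - (σ ^ i) b ∈ maximalIdeal A ^ 2 := by
  induction i with
  | zero => simp
  | succ i ih =>
    have : b - (σ ^ (i + 1)) b = (b - (σ ^ i) b) + (σ ^ i) (dl σ b) := by
      rw [show σ ^ (i + 1) = σ ^ i * σ from pow_succ σ i, AlgHom.mul_apply, dl, map_sub]
      ring
    rw [this]
    exact Ideal.add_mem _ ih (sigma_pow_mem_sq σ n hσ hn i hb)

theorem sub_av_mem_sq {b : A} (hb : dl σ b ∈ maximalIdeal A ^ 2) :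
    b - av σ n b ∈ maximalIdeal A ^ 2 := by
  rw [sub_av σ n hσ hn]
  exact Ideal.mul_mem_left _ _ (Ideal.sum_mem _ fun i _ => sub_pow_mem_sq σ n hσ hn hb i)

/-- `δ(m²) ⊆ m I_σ`. -/
theorem dl_mem_of_mem_sq {s : A} (hs : s ∈ maximalIdeal A ^ 2) :
    dl σ s ∈ maximalIdeal A * Ideal.span (Set.range (dl σ)) := by
  rw [pow_two] at hs
  refine Submodule.mul_induction_on hs ?_ ?_
  · intro u hu v hv
    rw [dl_mul]
    refine Ideal.add_mem _ (Ideal.mul_mem_mul hu (Ideal.subset_span ⟨v, rfl⟩)) ?_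
    rw [mul_comm (dl σ u)]
    exact Ideal.mul_mem_mul (sigma_mem σ n hσ hn hv) (Ideal.subset_span ⟨u, rfl⟩)
  · intro x y hx hy
    rw [dl_add]
    exact Ideal.add_mem _ hx hy

omit hσ hn in
theorem exists_sub_algebraMap_mem
    (hres : Function.Surjective ⇑(algebraMap k (ResidueField A))) (a : A) :
    ∃ c : k, a - algebraMap k A c ∈ maximalIdeal A := by
  obtain ⟨c, hc⟩ := hres (residue A a)
  refine ⟨c, ?_⟩
  rw [← residue_eq_zero_iff, map_sub, ← hc, IsScalarTower.algebraMap_apply k A (ResidueField A)]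
  exact sub_self _

theorem span_le_maximalIdeal (hres : Function.Surjective ⇑(algebraMap k (ResidueField A))) :
    Ideal.span (Set.range (dl σ)) ≤ maximalIdeal A := by
  rw [Ideal.span_le]
  rintro _ ⟨a, rfl⟩
  obtain ⟨c, hc⟩ := exists_sub_algebraMap_mem hres a
  have : dl σ a = dl σ (a - algebraMap k A c) := by
    rw [dl_sub, dl_algebraMap, sub_zero]
  rw [this]
  exact dl_mem σ n hσ hn hc

theorem exists_approx (hres : Function.Surjective ⇑(algebraMap k (ResidueField A))) {z : A}
    (hz : z ∈ Ideal.span (Set.range (dl σ))) :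
    ∃ b ∈ maximalIdeal A, z - dl σ b ∈ maximalIdeal A * Ideal.span (Set.range (dl σ)) := by
  induction hz using Submodule.span_induction with
  | mem z hz =>
    obtain ⟨a, rfl⟩ := hz
    obtain ⟨c, hc⟩ := exists_sub_algebraMap_mem hres a
    refine ⟨a - algebraMap k A c, hc, ?_⟩
    rw [dl_sub, dl_algebraMap, sub_zero, sub_self]
    exact Ideal.zero_mem _
  | zero =>
    exact ⟨0, Ideal.zero_mem _, by rw [dl_zero, sub_zero]; exact Ideal.zero_mem _⟩
  | add x y _ _ hx hy =>
    obtain ⟨b₁, hb₁, h₁⟩ := hx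
    obtain ⟨b₂, hb₂, h₂⟩ := hy
    refine ⟨b₁ + b₂, Ideal.add_mem _ hb₁ hb₂, ?_⟩
    have : x + y - dl σ (b₁ + b₂) = (x - dl σ b₁) + (y - dl σ b₂) := by rw [dl_add]; ring
    rw [this]
    exact Ideal.add_mem _ h₁ h₂
  | smul r x _ hx =>
    obtain ⟨b, hb, h⟩ := hx
    refine ⟨r * b, Ideal.mul_mem_left _ _ hb, ?_⟩
    have : r • x - dl σ (r * b) = r * (x - dl σ b) - σ b * dl σ r := by
      rw [dl_mul, smul_eq_mul]; ring
    rw [this]
    exact Ideal.sub_mem _ (Ideal.mul_mem_left _ _ h)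
      (Ideal.mul_mem_mul (sigma_mem σ n hσ hn hb) (Ideal.subset_span ⟨r, rfl⟩))

/-- The key injectivity statement: `I_σ ∩ m² ⊆ m I_σ`. -/
theorem mem_mul_of_mem_sq (hres : Function.Surjective ⇑(algebraMap k (ResidueField A))) {z : A}
    (hz : z ∈ Ideal.span (Set.range (dl σ))) (hz2 : z ∈ maximalIdeal A ^ 2) :
    z ∈ maximalIdeal A * Ideal.span (Set.range (dl σ)) := by
  obtain ⟨b, hb, h⟩ := exists_approx σ n hσ hn hres hz
  have hle : maximalIdeal A * Ideal.span (Set.range (dl σ)) ≤ maximalIdeal A ^ 2 := by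
    rw [pow_two]
    exact Ideal.mul_mono_right (span_le_maximalIdeal σ n hσ hn hres)
  have hb2 : dl σ b ∈ maximalIdeal A ^ 2 := by
    have : dl σ b = z - (z - dl σ b) := by ring
    rw [this]
    exact Ideal.sub_mem _ hz2 (hle h)
  have hs := sub_av_mem_sq σ n hσ hn hb2
  have h5 : dl σ b = dl σ (b - av σ n b) := by
    rw [dl_sub, dl_av σ n hσ hn, sub_zero]
  have h6 := dl_mem_of_mem_sq σ n hσ hn hs
  rw [← h5] at h6
  have : z = (z - dl σ b) + dl σ b := by ring
  rw [this]
  exact Ideal.add_mem _ h h6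


theorem toCotangent_mem_span (hres : Function.Surjective ⇑(algebraMap k (ResidueField A)))
    {z : A} (hz : z ∈ Ideal.span (Set.range (dl σ))) (hzm : z ∈ maximalIdeal A) :
    (maximalIdeal A).toCotangent ⟨z, hzm⟩ ∈
      Submodule.span (ResidueField A) ((maximalIdeal A).toCotangent ''
        {s : ↥(maximalIdeal A) | (s : A) ∈ Set.range (dl σ)}) := by
  have hIm := span_le_maximalIdeal σ n hσ hn hres
  revert hzm
  induction hz using Submodule.span_induction with
  | mem z hz =>
    intro hzm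
    exact Submodule.subset_span ⟨⟨z, hzm⟩, hz, rfl⟩
  | zero =>
    intro hzm
    have : (⟨0, hzm⟩ : ↥(maximalIdeal A)) = 0 := rfl
    rw [this, map_zero]
    exact Submodule.zero_mem _
  | add x y hx hy px py =>
    intro hzm
    have : (⟨x + y, hzm⟩ : ↥(maximalIdeal A)) = ⟨x, hIm hx⟩ + ⟨y, hIm hy⟩ := rfl
    rw [this, map_add]
    exact Submodule.add_mem _ (px _) (py _)
  | smul r x hx px =>
    intro hzm
    have : (⟨r • x, hzm⟩ : ↥(maximalIdeal A)) = r • ⟨x, hIm hx⟩ := rfl
    rw [this, map_smul, ← algebraMap_smul (ResidueField A) r]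
    exact Submodule.smul_mem _ _ (px _)

theorem main [IsNoetherianRing A] (hres : Function.Surjective ⇑(algebraMap k (ResidueField A))) :
    ∃ (m : ℕ) (f : Fin m → ↥(maximalIdeal A)),
      Ideal.span (Set.range fun i : Fin m => (f i : A)) = Ideal.span (Set.range (dl σ)) ∧
      LinearIndependent (ResidueField A)
        (fun i : Fin m => (maximalIdeal A).toCotangent (f i)) := by
  classical
  have hIm := span_le_maximalIdeal σ n hσ hn hres
  set S' : Set ↥(maximalIdeal A) := {s | (s : A) ∈ Set.range (dl σ)} with hS'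
  set T : Set (maximalIdeal A).Cotangent := (maximalIdeal A).toCotangent '' S' with hT
  obtain ⟨b, hbT, hspan, hli⟩ := exists_linearIndependent (ResidueField A) T
  have hbfin : b.Finite := hli.setFinite
  have : Finite b := hbfin.to_subtype
  let e : Fin (Nat.card b) ≃ b := (Finite.equivFin b).symm
  have hex : ∀ i : Fin (Nat.card b), ∃ s : ↥(maximalIdeal A), s ∈ S' ∧
      (maximalIdeal A).toCotangent s = (e i : (maximalIdeal A).Cotangent) := by
    intro i
    obtain ⟨s, hs, hs2⟩ := hbT (e i).2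
    exact ⟨s, hs, hs2⟩
  choose f hfS hf using hex
  have hrange : Set.range (fun i => (maximalIdeal A).toCotangent (f i)) = b := by
    have : (fun i => (maximalIdeal A).toCotangent (f i)) = (Subtype.val : b → _) ∘ e := by
      funext i; exact hf i
    rw [this, Set.range_comp, e.surjective.range_eq, Set.image_univ, Subtype.range_val]
  refine ⟨Nat.card b, f, ?_, ?_⟩
  · apply le_antisymm
    · rw [Ideal.span_le]
      rintro _ ⟨i, rfl⟩
      exact Ideal.subset_span (hfS i)
    · apply Submodule.le_of_le_smul_of_le_jacobson_bot (I := maximalIdeal A)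
        (IsNoetherian.noetherian _) (maximalIdeal_le_jacobson ⊥)
      intro z hz
      have hzm := hIm hz
      have h1 := toCotangent_mem_span σ n hσ hn hres hz hzm
      rw [← hT, ← hspan, ← hrange, Submodule.mem_span_range_iff_exists_fun] at h1
      obtain ⟨c, hc⟩ := h1
      choose r hr using fun i => residue_surjective (c i)
      have h2 : (maximalIdeal A).toCotangent (⟨z, hzm⟩ - ∑ i, r i • f i) = 0 := by
        rw [map_sub, map_sum, ← hc, sub_eq_zero]
        apply Finset.sum_congr rfl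
        intro i _
        rw [map_smul, ← hr i]
        exact (algebraMap_smul (ResidueField A) (r i) ((maximalIdeal A).toCotangent (f i))).symm
      rw [Ideal.toCotangent_eq_zero] at h2
      have h3 : ((⟨z, hzm⟩ - ∑ i, r i • f i : ↥(maximalIdeal A)) : A) = z - ∑ i, r i * (f i : A) := by
        simp
      rw [h3] at h2
      have hJI : ∑ i, r i * (f i : A) ∈ Ideal.span (Set.range fun i => (f i : A)) :=
        Ideal.sum_mem _ fun i _ => Ideal.mul_mem_left _ _ (Ideal.subset_span ⟨i, rfl⟩)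
      have hJI' : ∑ i, r i * (f i : A) ∈ Ideal.span (Set.range (dl σ)) :=
        Ideal.sum_mem _ fun i _ => Ideal.mul_mem_left _ _ (Ideal.subset_span (hfS i))
      have h4 := mem_mul_of_mem_sq σ n hσ hn hres (Ideal.sub_mem _ hz hJI') h2
      rw [Submodule.mem_sup]
      refine ⟨_, hJI, _, h4, ?_⟩
      ring
  · have : (fun i => (maximalIdeal A).toCotangent (f i)) = (Subtype.val : b → _) ∘ e := by
      funext i; exact hf i
    rw [this]
    exact hli.comp e e.injective

end

end Groth.Agent.Lib.Seat90.FixIdeal
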