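import Mathlib
import Groth.Agent.Lib.Helper22IdealComap

/-!
# Pullback of ideal sheaves: products, powers, radicals
-/

set_option autoImplicit false
universe u

namespace Groth.Agent.Lib.Seat90.IdealComap

open AlgebraicGeometry CategoryTheory CategoryTheory.Limits
open Groth.Agent.Lib.Helper22.IdealComap

variable {X Y : Scheme.{u}}

/-- To compare two ideal sheaves on the source of `f`, it suffices to do so on the affine opens which
map into an affine open of the target. -/
theorem le_of_forall_pair (f : X ⟶ Y) {P Q : X.IdealSheafData}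
    (H : ∀ (U : X.affineOpens) (V : Y.affineOpens), U.1 ≤ f ⁻¹ᵁ V.1 → P.ideal U ≤ Q.ideal U) :
    P ≤ Q := by
  let ι := {UV : X.affineOpens × Y.affineOpens // UV.1.1 ≤ f ⁻¹ᵁ UV.2.1}
  refine Scheme.IdealSheafData.le_of_iSup_eq_top (ι := ι) (fun i => i.1.1) ?_ fun i => H _ _ i.2
  rw [eq_top_iff]
  intro x _
  obtain ⟨V, hV, hxV, -⟩ := TopologicalSpace.Opens.isBasis_iff_nbhd.mp Y.isBasis_affineOpens
    (show f.base x ∈ (⊤ : Y.Opens) from trivial)
  obtain ⟨U, hU, hxU, hUV⟩ := TopologicalSpace.Opens.isBasis_iff_nbhd.mp X.isBasis_affineOpens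
    (show x ∈ f ⁻¹ᵁ V from hxV)
  exact TopologicalSpace.Opens.mem_iSup.mpr ⟨⟨⟨⟨U, hU⟩, ⟨V, hV⟩⟩, hUV⟩, hxU⟩

theorem comap_mul (f : X ⟶ Y) (A B : Y.IdealSheafData) :
    (A * B).comap f = A.comap f * B.comap f := by
  apply le_antisymm
  · refine le_of_forall_pair f fun U V h => ?_
    rw [Scheme.IdealSheafData.ideal_mul, Pi.mul_apply, ideal_comap_eq_map f _ U V h,
      ideal_comap_eq_map f _ U V h, ideal_comap_eq_map f _ U V h,
      Scheme.IdealSheafData.ideal_mul, Pi.mul_apply, Ideal.map_mul]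
  · refine le_of_forall_pair f fun U V h => ?_
    rw [Scheme.IdealSheafData.ideal_mul, Pi.mul_apply, ideal_comap_eq_map f _ U V h,
      ideal_comap_eq_map f _ U V h, ideal_comap_eq_map f _ U V h,
      Scheme.IdealSheafData.ideal_mul, Pi.mul_apply, Ideal.map_mul]

theorem comap_pow (f : X ⟶ Y) (A : Y.IdealSheafData) (n : ℕ) :
    (A ^ n).comap f = A.comap f ^ n := by
  induction n with
  | zero =>
    rw [pow_zero, pow_zero]
    exact Scheme.IdealSheafData.comap_top f
  | succ n ih => rw [pow_succ, pow_succ, comap_mul, ih]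

theorem comap_radical_le (f : X ⟶ Y) (A : Y.IdealSheafData) :
    A.radical.comap f ≤ (A.comap f).radical := by
  refine le_of_forall_pair f fun U V h => ?_
  rw [Scheme.IdealSheafData.radical_ideal, ideal_comap_eq_map f _ U V h,
    ideal_comap_eq_map f _ U V h, Scheme.IdealSheafData.radical_ideal]
  exact Ideal.map_radical_le _

end Groth.Agent.Lib.Seat90.IdealComap
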