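import Mathlib
import Groth.Prelude.Def_Frob
import Groth.Agent.Lib.Seat90IdealComap

/-!
# Powers of the absolute Frobenius of a scheme and pullbacks of ideal sheaves along them
-/

set_option autoImplicit false
universe u

namespace Groth.Agent.Lib.Seat90.FrobPow

open AlgebraicGeometry CategoryTheory CategoryTheory.Limits FrobSch
open Groth.Agent.Lib.Helper22.IdealComap Groth.Agent.Lib.Seat90.IdealComap

variable (X : Scheme.{u}) (p : ℕ) [Fact p.Prime] [IsCharP X p]

/-- the `N`-th power of the absolute Frobenius -/
noncomputable def frobPow (N : ℕ) : X ⟶ X := End.asHom (End.of (frob X p) ^ N)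

theorem frobPow_eq (N : ℕ) : End.asHom (End.of (frob X p) ^ N) = frobPow X p N := rfl

theorem frobPow_zero : frobPow X p 0 = 𝟙 X := by
  unfold frobPow
  rw [pow_zero]
  rfl

theorem frobPow_succ (N : ℕ) : frobPow X p (N + 1) = frobPow X p N ≫ frob X p := by
  unfold frobPow
  rw [pow_succ', End.mul_def]

theorem frobPow_base_apply (N : ℕ) (x : X) : (frobPow X p N).base x = x := by
  induction N with
  | zero => rw [frobPow_zero]; rfl
  | succ N ih =>
    rw [frobPow_succ, Scheme.Hom.comp_base, TopCat.comp_app, ih]
    rfl

theorem frobPow_preimage (N : ℕ) (U : X.Opens) : frobPow X p N ⁻¹ᵁ U = U := by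
  ext x
  change (frobPow X p N).base x ∈ U ↔ x ∈ U
  rw [frobPow_base_apply]

variable {X} in
theorem frobPow_comp {Y : Scheme.{u}} [IsCharP Y p] (f : X ⟶ Y) (N : ℕ) :
    frobPow X p N ≫ f = f ≫ frobPow Y p N := by
  induction N with
  | zero => rw [frobPow_zero, frobPow_zero, Category.id_comp, Category.comp_id]
  | succ N ih =>
    rw [frobPow_succ, frobPow_succ, Category.assoc, frob_comp, ← Category.assoc, ih,
      Category.assoc]

theorem frobPow_succ' (N : ℕ) : frobPow X p (N + 1) = frob X p ≫ frobPow X p N := by
  unfold frobPow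
  rw [pow_succ, End.mul_def]

theorem radical_mono' {A B : X.IdealSheafData} (h : A ≤ B) : A.radical ≤ B.radical := by
  intro U
  rw [Scheme.IdealSheafData.radical_ideal, Scheme.IdealSheafData.radical_ideal]
  exact Ideal.radical_mono (h U)

theorem radical_radical (A : X.IdealSheafData) : A.radical.radical = A.radical := by
  ext U : 2
  rw [Scheme.IdealSheafData.radical_ideal, Scheme.IdealSheafData.radical_ideal]
  exact Ideal.radical_idem _

/-- the pullback of an ideal sheaf under Frobenius is contained in the `p`-th power of its radical -/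
theorem comap_frob_le (M : X.IdealSheafData) :
    M.comap (frob X p) ≤ (M.comap (frob X p)).radical ^ p := by
  intro U
  have hU : U.1 ≤ frob X p ⁻¹ᵁ U.1 := le_rfl
  have h1 := ideal_comap_eq_map (frob X p) M U U hU
  rw [Scheme.IdealSheafData.ideal_pow, Pi.pow_apply, Scheme.IdealSheafData.radical_ideal]
  conv_lhs => rw [h1]
  rw [Ideal.map_le_iff_le_comap]
  intro a ha
  rw [Ideal.mem_comap]
  have h2 : ((frob X p).appLE U.1 U.1 hU).hom a = a ^ p := by
    rw [Scheme.Hom.appLE]
    change (X.presheaf.map (𝟙 (Opposite.op U.1))).hom (a ^ p) = a ^ p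
    rw [X.presheaf.map_id]
    rfl
  rw [h2]
  apply Ideal.pow_mem_pow
  refine ⟨p, ?_⟩
  rw [h1, ← h2]
  exact Ideal.mem_map_of_mem _ ha

/-- the pullback of an ideal sheaf under the `N`-th power of Frobenius is contained in the
`p^N`-th power of its radical -/
theorem comap_frobPow_le (N : ℕ) (M : X.IdealSheafData) :
    M.comap (frobPow X p N) ≤ (M.comap (frobPow X p N)).radical ^ (p ^ N) := by
  induction N with
  | zero =>
    rw [pow_zero, pow_one]
    exact Scheme.IdealSheafData.le_radical _
  | succ N ih =>
    have h1 : M.comap (frobPow X p (N + 1)) = (M.comap (frobPow X p N)).comap (frob X p) := by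
      rw [frobPow_succ', Scheme.IdealSheafData.comap_comp]
    set A := M.comap (frobPow X p N) with hA
    rw [h1]
    have h2 : A.comap (frob X p) ≤ (A.radical.comap (frob X p)) ^ (p ^ N) := by
      rw [← comap_pow]
      exact Scheme.IdealSheafData.comap_mono _ ih
    have h3 : A.radical.comap (frob X p) ≤ (A.comap (frob X p)).radical ^ p := by
      refine (comap_frob_le X p A.radical).trans ?_
      refine pow_le_pow_left' ?_ p
      have := radical_mono' X (comap_radical_le (frob X p) A)
      rwa [radical_radical] at this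
    refine h2.trans ?_
    rw [pow_succ', pow_mul]
    exact pow_le_pow_left' h3 _

end Groth.Agent.Lib.Seat90.FrobPow
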