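import Mathlib
import Groth.Prelude.Def_Frob
import Groth.Agent.Lib.Seat90FrobPow

/-!
# A Frobenius-twisted correspondence is contracting near an invariant closed subscheme
-/

set_option autoImplicit false
universe u

namespace Groth.Agent.Lib.Seat90.FrobContract

open AlgebraicGeometry CategoryTheory CategoryTheory.Limits FrobSch
open Groth.Agent.Lib.Seat90.IdealComap Groth.Agent.Lib.Seat90.FrobPow

section AppTop

variable (X : Scheme.{u}) (p : ℕ) [Fact p.Prime] [IsCharP X p]

theorem frobPow_appTop (N : ℕ) (s : Γ(X, ⊤)) :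
    (frobPow X p N).appTop s = s ^ (p ^ N) := by
  induction N generalizing s with
  | zero =>
    rw [frobPow_zero, pow_zero, pow_one]
    rfl
  | succ N ih =>
    rw [frobPow_succ, Scheme.Hom.comp_appTop, CommRingCat.comp_apply, frob_appTop, ih, ← pow_mul,
      pow_succ']

end AppTop

section Field

variable (p : ℕ) [Fact p.Prime] (K : Type u) [Field K] [CharP K p] [PerfectRing K p]

/-- the inverse of the `N`-th power of Frobenius on the spectrum of a perfect field -/
noncomputable def G (N : ℕ) : Spec (CommRingCat.of K) ⟶ Spec (CommRingCat.of K) :=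
  Spec.map (CommRingCat.ofHom ((iterateFrobeniusEquiv K p N).symm : K →+* K))

theorem G_comp_frobPow (N : ℕ) :
    G p K N ≫ frobPow (Spec (CommRingCat.of K)) p N = 𝟙 _ := by
  apply ext_of_isAffine
  rw [Scheme.Hom.comp_appTop]
  ext s
  rw [CommRingCat.comp_apply, frobPow_appTop, map_pow]
  have h1 := Scheme.ΓSpecIso_naturality
    (CommRingCat.ofHom ((iterateFrobeniusEquiv K p N).symm : K →+* K))
  have h2 : (Scheme.ΓSpecIso (CommRingCat.of K)).hom ((G p K N).appTop s) =
      (iterateFrobeniusEquiv K p N).symm ((Scheme.ΓSpecIso (CommRingCat.of K)).hom s) := by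
    unfold G
    have h4 := congrArg (fun ψ => (CommRingCat.Hom.hom ψ) s) h1
    simp only [CommRingCat.hom_comp, RingHom.comp_apply, CommRingCat.hom_ofHom] at h4
    exact h4
  apply (Scheme.ΓSpecIso (CommRingCat.of K)).commRingCatIsoToRingEquiv.injective
  change (Scheme.ΓSpecIso (CommRingCat.of K)).hom _ = (Scheme.ΓSpecIso (CommRingCat.of K)).hom _
  rw [map_pow, h2]
  have h3 : ∀ x : K, ((iterateFrobeniusEquiv K p N).symm x) ^ p ^ N = x := by
    intro x
    rw [← iterateFrobeniusEquiv_def K p N, RingEquiv.apply_symm_apply]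
  rw [h3]
  simp

end Field

section Twist

variable {C C₀ : Scheme.{u}} (p : ℕ) [Fact p.Prime]
  (k₀ : Type u) [Field k₀] [Fintype k₀] [CharP k₀ p] (e : ℕ) (hq : Fintype.card k₀ = p ^ e)
  (K : Type u) [Field K] [Algebra k₀ K] [IsAlgClosure k₀ K]
  (f₀ : C₀ ⟶ Spec (CommRingCat.of k₀)) [IsCharP C₀ p]
  (πC₀ : C ⟶ C₀) (πK : C ⟶ Spec (CommRingCat.of K))
  (hC : IsPullback πC₀ πK f₀ (Spec.map (CommRingCat.ofHom (algebraMap k₀ K))))
  (n : ℕ) (Fr : C ⟶ C)
  (hFr₀ : Fr ≫ πC₀ = πC₀ ≫ End.asHom (End.of (frob C₀ p) ^ (e * n)))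
  (hFrK : Fr ≫ πK = πK)

include hq hC hFr₀ hFrK in
/-- the geometric Frobenius factors through the absolute Frobenius -/
theorem exists_factor [IsCharP C p] : ∃ τ : C ⟶ C, Fr = τ ≫ frobPow C p (e * n) := by
  have : CharP K p := charP_of_injective_algebraMap (algebraMap k₀ K).injective p
  have : IsAlgClosed K := IsAlgClosure.isAlgClosed k₀
  have : PerfectRing K p := PerfectField.toPerfectRing p
  have hfix : ∀ a : k₀, a ^ p ^ (e * n) = a := by
    intro a
    rw [pow_mul, ← hq]
    exact FiniteField.pow_card_pow n a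
  have hG : G p K (e * n) ≫ Spec.map (CommRingCat.ofHom (algebraMap k₀ K)) =
      Spec.map (CommRingCat.ofHom (algebraMap k₀ K)) := by
    unfold G
    rw [← Spec.map_comp]
    congr 1
    ext a
    simp only [CommRingCat.hom_comp, CommRingCat.hom_ofHom, RingHom.comp_apply, RingHom.coe_coe]
    rw [RingEquiv.symm_apply_eq, iterateFrobeniusEquiv_def, ← map_pow, hfix]
  have hw : πC₀ ≫ f₀ = (πK ≫ G p K (e * n)) ≫ Spec.map (CommRingCat.ofHom (algebraMap k₀ K)) := by
    rw [Category.assoc, hG, hC.w]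
  refine ⟨hC.lift πC₀ (πK ≫ G p K (e * n)) hw, ?_⟩
  apply hC.hom_ext
  · rw [Category.assoc, frobPow_comp, ← Category.assoc, hC.lift_fst, hFr₀]
    rfl
  · rw [Category.assoc, frobPow_comp, ← Category.assoc, hC.lift_snd, Category.assoc,
      G_comp_frobPow, Category.comp_id, hFrK]

end Twist

section Core

variable {C X : Scheme.{u}} (p : ℕ) [Fact p.Prime] [IsCharP C p]

/-- the contraction criterion -/
theorem core (N : ℕ) (Fr τ : C ⟶ C) (hτ : Fr = τ ≫ frobPow C p N)
    (c₁ c₂ : C ⟶ X) (I : X.IdealSheafData) (d : ℕ)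
    (hd : (I.comap c₂).radical ^ d ≤ I.comap c₂) (hn : d < p ^ N)
    (hinv : (Fr ≫ c₁).base '' (c₂.base ⁻¹' (I.support : Set X)) ⊆ (I.support : Set X)) :
    I.comap (Fr ≫ c₁) ≤ I.comap c₂ ∧ I.comap (Fr ≫ c₁) ^ d ≤ I.comap c₂ ^ (d + 1) := by
  set L := I.comap (Fr ≫ c₁) with hL
  set J := I.comap c₂ with hJ
  -- step 1: `L ≤ L.radical ^ q`
  have h1 : L ≤ L.radical ^ (p ^ N) := by
    have e1 : L = ((I.comap c₁).comap (frobPow C p N)).comap τ := by
      rw [hL, hτ, Category.assoc, Scheme.IdealSheafData.comap_comp,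
        Scheme.IdealSheafData.comap_comp]
    set N' := (I.comap c₁).comap (frobPow C p N) with hN'
    have e2 : N'.comap τ ≤ (N'.radical.comap τ) ^ (p ^ N) := by
      rw [← comap_pow]
      exact Scheme.IdealSheafData.comap_mono _ (comap_frobPow_le C p N (I.comap c₁))
    rw [e1]
    exact e2.trans (pow_le_pow_left' (comap_radical_le τ N') _)
  -- step 2: `L.radical ≤ J.radical`
  have h2 : L.radical ≤ J.radical := by
    rw [← Scheme.IdealSheafData.vanishingIdeal_support,
      ← Scheme.IdealSheafData.vanishingIdeal_support]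
    apply Scheme.IdealSheafData.vanishingIdeal_antimono
    rw [hL, hJ, Scheme.IdealSheafData.support_comap, Scheme.IdealSheafData.support_comap]
    intro x hx
    exact hinv ⟨x, hx, rfl⟩
  have h3 : L ≤ J.radical ^ (p ^ N) := h1.trans (pow_le_pow_left' h2 _)
  have hle1 : ∀ (A : C.IdealSheafData) (a b : ℕ), a ≤ b → A ^ b ≤ A ^ a := by
    intro A a b hab V
    rw [Scheme.IdealSheafData.ideal_pow, Scheme.IdealSheafData.ideal_pow]
    exact Ideal.pow_le_pow_right hab
  refine ⟨h3.trans ((hle1 _ _ _ hn.le).trans hd), ?_⟩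
  calc L ^ d ≤ (J.radical ^ (p ^ N)) ^ d := pow_le_pow_left' h3 _
    _ = (J.radical ^ d) ^ (p ^ N) := by rw [← pow_mul, ← pow_mul, mul_comm]
    _ ≤ J ^ (p ^ N) := pow_le_pow_left' hd _
    _ ≤ J ^ (d + 1) := hle1 _ _ _ hn

end Core

end Groth.Agent.Lib.Seat90.FrobContract
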