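import Mathlib
import Groth.Prelude.Def_Frob
import Groth.Agent.Lib.Seat90FrobContract

/-!
# Contraction of a Frobenius-twisted correspondence near its fixed points
-/

set_option autoImplicit false
universe u

namespace Groth.Agent.Lib.Seat90.FrobContract2

open AlgebraicGeometry CategoryTheory CategoryTheory.Limits FrobSch
open Groth.Agent.Lib.Seat90.IdealComap Groth.Agent.Lib.Seat90.FrobPow
open Groth.Agent.Lib.Seat90.FrobContract

section General

variable {X Y : Scheme.{u}}

/-- for an open immersion the radical commutes with the pullback of ideal sheaves -/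
theorem comap_radical_of_isOpenImmersion (f : X ⟶ Y) [IsOpenImmersion f] (A : Y.IdealSheafData) :
    (A.comap f).radical = A.radical.comap f := by
  ext U : 2
  rw [Scheme.IdealSheafData.radical_ideal,
    Scheme.IdealSheafData.ideal_comap_of_isOpenImmersion,
    Scheme.IdealSheafData.ideal_comap_of_isOpenImmersion,
    Scheme.IdealSheafData.radical_ideal, Ideal.comap_radical]

/-- the formal part of the contraction criterion -/
theorem contract_alg (L J : X.IdealSheafData) (q d : ℕ) (h1 : L ≤ L.radical ^ q)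
    (h2 : L.radical ≤ J.radical) (hd : J.radical ^ d ≤ J) (hn : d < q) :
    L ≤ J ∧ L ^ d ≤ J ^ (d + 1) := by
  have h3 : L ≤ J.radical ^ q := h1.trans (pow_le_pow_left' h2 _)
  have hle1 : ∀ (A : X.IdealSheafData) (a b : ℕ), a ≤ b → A ^ b ≤ A ^ a := by
    intro A a b hab V
    rw [Scheme.IdealSheafData.ideal_pow, Scheme.IdealSheafData.ideal_pow]
    exact Ideal.pow_le_pow_right hab
  refine ⟨h3.trans ((hle1 _ _ _ hn.le).trans hd), ?_⟩
  calc L ^ d ≤ (J.radical ^ q) ^ d := pow_le_pow_left' h3 _
    _ = (J.radical ^ d) ^ q := by rw [← pow_mul, ← pow_mul, mul_comm]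
    _ ≤ J ^ q := pow_le_pow_left' hd _
    _ ≤ J ^ (d + 1) := hle1 _ _ _ hn

theorem radical_le_of_support_le (L J : X.IdealSheafData)
    (h : (J.support : Set X) ⊆ (L.support : Set X)) : L.radical ≤ J.radical := by
  rw [← Scheme.IdealSheafData.vanishingIdeal_support,
    ← Scheme.IdealSheafData.vanishingIdeal_support]
  exact Scheme.IdealSheafData.vanishingIdeal_antimono h

end General

section Core

variable {C X : Scheme.{u}} (p : ℕ) [Fact p.Prime] [IsCharP C p]

theorem comap_le_radical_pow (N : ℕ) (Fr τ : C ⟶ C) (hτ : Fr = τ ≫ frobPow C p N)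
    (A : C.IdealSheafData) : A.comap Fr ≤ (A.comap Fr).radical ^ (p ^ N) := by
  have e1 : A.comap Fr = (A.comap (frobPow C p N)).comap τ := by
    rw [hτ, Scheme.IdealSheafData.comap_comp]
  set N' := A.comap (frobPow C p N) with hN'
  have e2 : N'.comap τ ≤ (N'.radical.comap τ) ^ (p ^ N) := by
    rw [← comap_pow]
    exact Scheme.IdealSheafData.comap_mono _ (comap_frobPow_le C p N A)
  rw [e1]
  exact e2.trans (pow_le_pow_left' (comap_radical_le τ N') _)

/-- the contraction criterion on an open subscheme `W` of `C` on which the closed subset is invariant -/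
theorem core_open (N : ℕ) (Fr τ : C ⟶ C) (hτ : Fr = τ ≫ frobPow C p N)
    (c₁ c₂ : C ⟶ X) (I : X.IdealSheafData) (d : ℕ)
    (hd : (I.comap c₂).radical ^ d ≤ I.comap c₂) (hn : d < p ^ N) (W : C.Opens)
    (hinv : ∀ y : C, y ∈ W → c₂.base y ∈ (I.support : Set X) →
      (Fr ≫ c₁).base y ∈ (I.support : Set X)) :
    I.comap (W.ι ≫ Fr ≫ c₁) ≤ I.comap (W.ι ≫ c₂) ∧
      I.comap (W.ι ≫ Fr ≫ c₁) ^ d ≤ I.comap (W.ι ≫ c₂) ^ (d + 1) := by
  apply contract_alg _ _ (p ^ N) d
  · -- `L_W ≤ L_W.radical ^ q`
    have e0 : I.comap (W.ι ≫ Fr ≫ c₁) = ((I.comap c₁).comap Fr).comap W.ι := by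
      rw [Scheme.IdealSheafData.comap_comp, Scheme.IdealSheafData.comap_comp]
    rw [e0]
    have e1 := Scheme.IdealSheafData.comap_mono W.ι (comap_le_radical_pow p N Fr τ hτ (I.comap c₁))
    refine e1.trans ?_
    change (((I.comap c₁).comap Fr).radical ^ (p ^ N)).comap W.ι ≤ _
    rw [comap_pow]
    exact pow_le_pow_left' (comap_radical_le W.ι _) _
  · apply radical_le_of_support_le
    rw [Scheme.IdealSheafData.support_comap, Scheme.IdealSheafData.support_comap]
    intro w hw
    exact hinv (W.ι.base w) w.2 hw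
  · have e0 : I.comap (W.ι ≫ c₂) = (I.comap c₂).comap W.ι := by
      rw [Scheme.IdealSheafData.comap_comp]
    rw [e0, comap_radical_of_isOpenImmersion, ← comap_pow]
    exact Scheme.IdealSheafData.comap_mono W.ι hd
  · exact hn

end Core

end Groth.Agent.Lib.Seat90.FrobContract2
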