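import Mathlib
import Groth.Prelude
import Groth.Agent.Lib.Helper27NoetherDiff

/-!
# `ω_{B/A} ≅ B` from a Casimir-type element (Seat 90)

`B` finite free over `A`, `ξ ∈ B ⊗_A B` in the annihilator of the diagonal ideal.  Then
`θ_ξ : ω_{B/A} → B`, `l ↦ (l ⊗ id)(ξ)` is `B`-linear, sends the trace to `μ(ξ)`, and is bijective as
soon as `1` is a value of `θ_ξ`.  In an Artinian ring an ideal with zero annihilator is the unit
ideal.
-/

set_option autoImplicit false
universe u

namespace Groth.Agent.Lib.Seat90.OmegaFrob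

open TensorProduct Groth.Agent.Lib.Helper27NoetherDiff

variable {A B : Type u} [CommRing A] [CommRing B] [Algebra A B]

/-- the `B`-linear map `ω → B` attached to an element of the annihilator of the diagonal ideal. -/
noncomputable def thetaOf (ξ : B ⊗[A] B)
    (hξ : ξ ∈ Submodule.annihilator (RingHom.ker (Algebra.TensorProduct.lmul' (S := B) A))) :
    Disc.Omega A B →ₗ[B] B where
  toFun l := pair l.toLinearMap ξ
  map_add' l l' := pair_add _ _ _
  map_smul' c l := by
    change pair (l.toLinearMap ∘ₗ LinearMap.mulLeft A c) ξ = c • pair l.toLinearMap ξ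
    rw [← pair_mul_left, (mem_ann_iff ξ).1 hξ, pair_mul_right, smul_eq_mul]

theorem thetaOf_apply (ξ : B ⊗[A] B)
    (hξ : ξ ∈ Submodule.annihilator (RingHom.ker (Algebra.TensorProduct.lmul' (S := B) A)))
    (l : Disc.Omega A B) : thetaOf ξ hξ l = pair l.toLinearMap ξ := rfl

variable [Module.Finite A B] [Module.Free A B]

theorem thetaOf_trace (ξ : B ⊗[A] B)
    (hξ : ξ ∈ Submodule.annihilator (RingHom.ker (Algebra.TensorProduct.lmul' (S := B) A))) :
    thetaOf ξ hξ (Disc.Omega.trace A B) = Algebra.TensorProduct.lmul' (S := B) A ξ := by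
  classical
  let b : Module.Basis (Module.Free.ChooseBasisIndex A B) A B := Module.Free.chooseBasis A B
  change pair (Algebra.trace A B) ξ = _
  rw [pair_trace b, ← sum_mul_pair b]
  refine Finset.sum_congr rfl (fun j _ => ?_)
  rw [(mem_ann_iff ξ).1 hξ, pair_mul_right]

theorem thetaOf_bijective (ξ : B ⊗[A] B)
    (hξ : ξ ∈ Submodule.annihilator (RingHom.ker (Algebra.TensorProduct.lmul' (S := B) A)))
    (h1 : ∃ l₀ : Disc.Omega A B, thetaOf ξ hξ l₀ = 1) : Function.Bijective (thetaOf ξ hξ) := by
  classical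
  obtain ⟨l₀, hl₀⟩ := h1
  let b : Module.Basis (Module.Free.ChooseBasisIndex A B) A B := Module.Free.chooseBasis A B
  have hsurj : Function.Surjective (thetaOf ξ hξ) := by
    intro u
    refine ⟨u • l₀, ?_⟩
    rw [map_smul, hl₀, smul_eq_mul, mul_one]
  refine ⟨?_, hsurj⟩
  -- the endomorphism `T b_j = c_j`
  let cj : Module.Free.ChooseBasisIndex A B → B := fun j => pair (b.coord j) ξ
  let T : B →ₗ[A] B := b.constr A cj
  have hθ : ∀ l : Disc.Omega A B, thetaOf ξ hξ l = T (∑ j, l.toLinearMap (b j) • b j) := by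
    intro l
    rw [thetaOf_apply, map_sum]
    conv_lhs => rw [eq_sum_tmul_pair b ξ]
    rw [map_sum]
    refine Finset.sum_congr rfl fun j _ => ?_
    rw [pair_tmul, map_smul, Module.Basis.constr_basis]
  have hTsurj : Function.Surjective T := by
    intro u
    obtain ⟨l, hl⟩ := hsurj u
    exact ⟨_, (hθ l).symm.trans hl⟩
  have hTinj : Function.Injective T := OrzechProperty.injective_of_surjective_endomorphism T hTsurj
  rw [injective_iff_map_eq_zero]
  intro l hl
  rw [hθ l] at hl
  have h0 := (map_eq_zero_iff T hTinj).1 hl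
  apply Disc.Omega.toLinearMap_injective
  apply b.ext
  intro i
  have h2 := congrArg (fun y => b.repr y i) h0
  simp only [map_sum, map_smul, Module.Basis.repr_self, Finsupp.coe_finsetSum, Finset.sum_apply,
    Finsupp.smul_apply, Finsupp.single_apply, smul_eq_mul, mul_ite, mul_one, mul_zero,
    Finset.sum_ite_eq', Finset.mem_univ, if_true, map_zero, Finsupp.coe_zero, Pi.zero_apply] at h2
  rw [h2]
  rfl

/-- In an Artinian ring, an ideal with zero annihilator is the unit ideal. -/
theorem eq_top_of_forall_mul_eq_zero [IsArtinianRing B] (V : Ideal B)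
    (h : ∀ b : B, (∀ v ∈ V, b * v = 0) → b = 0) : V = ⊤ := by
  by_contra hV
  obtain ⟨m, hm, hVm⟩ := Ideal.exists_le_maximal V hV
  have hmin : m ∈ (Module.annihilator B B).minimalPrimes := by
    refine ⟨⟨hm.isPrime, ?_⟩, ?_⟩
    · rw [Module.annihilator_eq_bot.2 inferInstance]
      exact bot_le
    · rintro p ⟨hp, -⟩ hpm
      have : p.IsMaximal := (IsArtinianRing.isPrime_iff_isMaximal p).1 hp
      exact (this.eq_of_le hm.ne_top hpm).ge
  have hass := Module.associatedPrimes.minimalPrimes_annihilator_subset_associatedPrimes B B hmin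
  obtain ⟨-, x, hx⟩ := (isAssociatedPrime_iff).1 hass
  have hx0 : x = 0 := by
    apply h
    intro v hv
    have : v ∈ (⊥ : Submodule B B).colon {x} := hx ▸ hVm hv
    rw [Submodule.mem_colon_singleton, Submodule.mem_bot, smul_eq_mul] at this
    rw [mul_comm]
    exact this
  apply hm.ne_top
  rw [hx, hx0]
  ext r
  simp [Submodule.mem_colon_singleton]

end Groth.Agent.Lib.Seat90.OmegaFrob
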