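import Mathlib
import Groth.Prelude
import Groth.Agent.Lib.Seat40RegSeqFlat
import Groth.Agent.Lib.Seat90ExtKoszulE

/-!
# Auxiliary results for S2235 (Seat 90)

`P ⊗_A B` with `B = P/(f)`: the sequence `f_i ⊗ 1` is Koszul-regular (flat base change along
`P → P ⊗_A B`), `ker (P ⊗ B → B ⊗ B) = (f_i ⊗ 1)`, and the annihilator of the diagonal ideal is
generated by the image of `det c` (from `ExtKoszulE.mem_sup_of_mul_mem`).
-/

set_option autoImplicit false
universe u

namespace Groth.Agent.Lib.Seat90.S2235Aux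

open TensorProduct
open Groth.Agent.Lib.Seat90.ExtKoszulC Groth.Agent.Lib.Seat90.ExtKoszulE

variable {A P : Type u} [CommRing A] [CommRing P] [Algebra A P] {n : ℕ} (f : Fin n → P)

/-- exactness of the exterior Koszul complex of `f_i ⊗ 1` in `P ⊗_A P/(f)`. -/
theorem kExact_tensor (hf : LCI.IsKoszulRegularSeq P (List.ofFn f))
    [Module.Flat A (P ⧸ Ideal.span (Set.range f))] :
    KExact (Fin n → P ⊗[A] (P ⧸ Ideal.span (Set.range f)))
      (phi fun i => f i ⊗ₜ[A] (1 : P ⧸ Ideal.span (Set.range f))) := by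
  have hflat : (algebraMap P (P ⊗[A] (P ⧸ Ideal.span (Set.range f)))).Flat := by
    rw [RingHom.flat_algebraMap_iff]
    infer_instance
  have h1 := Groth.Agent.Lib.Seat40.RegSeqFlat.koszul_of_flat _ hflat (List.ofFn f) hf
  rw [List.map_ofFn] at h1
  have h2 : (⇑(algebraMap P (P ⊗[A] (P ⧸ Ideal.span (Set.range f)))) ∘ f) =
      fun i => f i ⊗ₜ[A] (1 : P ⧸ Ideal.span (Set.range f)) := by
    funext i
    rw [Function.comp_apply, Algebra.TensorProduct.algebraMap_apply]
    rfl
  rw [h2] at h1
  exact kExact_of_koszulRegular _ h1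

theorem main' {B : Type u} [CommRing B] [Algebra A B] (q : P →ₐ[A] B)
    (hq : Function.Surjective q) (hqker : RingHom.ker q = Ideal.span (Set.range f))
    (g : Fin n → P ⊗[A] B)
    (hgker : Ideal.span (Set.range g) =
      RingHom.ker (Algebra.TensorProduct.productMap q (AlgHom.id A B)))
    (c : Matrix (Fin n) (Fin n) (P ⊗[A] B))
    (hc : ∀ i, f i ⊗ₜ[A] (1 : B) = ∑ j, c i j * g j)
    (hK : KExact (Fin n → P ⊗[A] B) (phi fun i => f i ⊗ₜ[A] (1 : B))) :
    Submodule.annihilator (RingHom.ker (Algebra.TensorProduct.lmul' (S := B) A)) =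
      Ideal.span {Algebra.TensorProduct.map q (AlgHom.id A B) (Matrix.det c)} := by
  classical
  set F : Fin n → P ⊗[A] B := fun i => f i ⊗ₜ[A] (1 : B) with hFdef
  set π := Algebra.TensorProduct.map q (AlgHom.id A B) with hπ
  have hsurj : Function.Surjective π :=
    Algebra.TensorProduct.map_surjective _ _ hq Function.surjective_id
  have hker : RingHom.ker π = Ideal.span (Set.range F) := by
    rw [hπ, Algebra.TensorProduct.rTensor_ker _ hq, hqker, Ideal.map_span, ← Set.range_comp]
    rfl
  have hcomp : ∀ w, Algebra.TensorProduct.lmul' (S := B) A (π w) =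
      Algebra.TensorProduct.productMap q (AlgHom.id A B) w := by
    intro w
    rw [Algebra.TensorProduct.productMap_eq_comp_map]
    rfl
  have hgmem : ∀ w, w ∈ Ideal.span (Set.range g) ↔
      π w ∈ RingHom.ker (Algebra.TensorProduct.lmul' (S := B) A) := by
    intro w
    rw [hgker, RingHom.mem_ker, RingHom.mem_ker, hcomp]
  apply le_antisymm
  · intro y hy
    obtain ⟨x, rfl⟩ := hsurj y
    have hxg : ∀ j, x * g j ∈ Ideal.span (Set.range F) := by
      intro j
      rw [← hker, RingHom.mem_ker, map_mul]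
      have h1 : π (g j) ∈ RingHom.ker (Algebra.TensorProduct.lmul' (S := B) A) :=
        (hgmem _).1 (Ideal.subset_span ⟨j, rfl⟩)
      exact (Submodule.mem_annihilator.1 hy) _ h1
    have h2 := mem_sup_of_mul_mem F g c hc hK x hxg
    obtain ⟨a, ha, b, hb, rfl⟩ := Submodule.mem_sup.1 h2
    rw [← hker, RingHom.mem_ker] at ha
    obtain ⟨t, rfl⟩ := Ideal.mem_span_singleton'.1 hb
    rw [map_add, ha, zero_add, map_mul]
    exact Ideal.mul_mem_left _ _ (Ideal.subset_span (Set.mem_singleton _))
  · rw [Ideal.span_le, Set.singleton_subset_iff, SetLike.mem_coe, Submodule.mem_annihilator]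
    intro z hz
    obtain ⟨w, rfl⟩ := hsurj z
    have hw : w ∈ Ideal.span (Set.range g) := (hgmem w).2 hz
    rw [smul_eq_mul, ← map_mul, ← RingHom.mem_ker, hker]
    -- Cramer
    have hcv : c.mulVec g = F := by
      funext i
      rw [hFdef]
      simp only [Matrix.mulVec, dotProduct]
      exact (hc i).symm
    have hadj : ∀ j, c.det * g j = ∑ i, c.adjugate j i * F i := by
      intro j
      have h3 : c.adjugate.mulVec (c.mulVec g) = c.det • g := by
        rw [Matrix.mulVec_mulVec, Matrix.adjugate_mul, Matrix.smul_mulVec, Matrix.one_mulVec]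
      rw [hcv] at h3
      have h4 := congr_fun h3 j
      rw [Pi.smul_apply, smul_eq_mul] at h4
      rw [← h4]
      rfl
    refine Submodule.span_induction (p := fun w _ => c.det * w ∈ Ideal.span (Set.range F))
      ?_ ?_ ?_ ?_ hw
    · rintro _ ⟨j, rfl⟩
      rw [hadj]
      exact Ideal.sum_mem _ fun i _ => Ideal.mul_mem_left _ _ (Ideal.subset_span ⟨i, rfl⟩)
    · rw [mul_zero]
      exact Ideal.zero_mem _
    · intro u v _ _ hu hv
      rw [mul_add]
      exact Ideal.add_mem _ hu hv
    · intro a u _ hu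
      rw [smul_eq_mul, mul_left_comm]
      exact Ideal.mul_mem_left _ _ hu

theorem main (g : Fin n → P ⊗[A] (P ⧸ Ideal.span (Set.range f)))
    (hgker : Ideal.span (Set.range g) = RingHom.ker (Algebra.TensorProduct.productMap
      (Ideal.Quotient.mkₐ A (Ideal.span (Set.range f))) (AlgHom.id A (P ⧸ Ideal.span (Set.range f)))))
    (c : Matrix (Fin n) (Fin n) (P ⊗[A] (P ⧸ Ideal.span (Set.range f))))
    (hc : ∀ i, f i ⊗ₜ[A] (1 : P ⧸ Ideal.span (Set.range f)) = ∑ j, c i j * g j)
    (hK : KExact (Fin n → P ⊗[A] (P ⧸ Ideal.span (Set.range f)))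
      (phi fun i => f i ⊗ₜ[A] (1 : P ⧸ Ideal.span (Set.range f)))) :
    Submodule.annihilator (RingHom.ker
        (Algebra.TensorProduct.lmul' (S := P ⧸ Ideal.span (Set.range f)) A)) =
      Ideal.span {Algebra.TensorProduct.map (Ideal.Quotient.mkₐ A (Ideal.span (Set.range f)))
        (AlgHom.id A (P ⧸ Ideal.span (Set.range f))) (Matrix.det c)} := by
  refine main' f (Ideal.Quotient.mkₐ A (Ideal.span (Set.range f)))
    (Ideal.Quotient.mkₐ_surjective A _) ?_ g hgker c hc hK
  ext x
  rw [RingHom.mem_ker]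
  exact Ideal.Quotient.eq_zero_iff_mem

end Groth.Agent.Lib.Seat90.S2235Aux
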