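import Mathlib
import Groth.Prelude
import Groth.Agent.Lib.Seat90S2235Aux

/-!
# Auxiliary results for S2210 (Seat 90)

For a polynomial ring `P = A[x_1..x_n]`, an `A`-algebra `B` and `q : P →ₐ[A] B`, the kernel of
`P ⊗_A B → B` is generated by `g_j = x_j ⊗ 1 - 1 ⊗ q x_j`, and every `p ⊗ 1 - 1 ⊗ q p` is a
combination `∑ c_j g_j` with `c_j ↦ q (∂p/∂x_j)`.
-/

set_option autoImplicit false
universe u

namespace Groth.Agent.Lib.Seat90.S2210Aux

open TensorProduct

variable {A : Type u} [CommRing A] {n : ℕ} {B : Type u} [CommRing B] [Algebra A B]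
  (q : MvPolynomial (Fin n) A →ₐ[A] B)

/-- the diagonal generators. -/
noncomputable def gen (j : Fin n) : MvPolynomial (Fin n) A ⊗[A] B :=
  (MvPolynomial.X j) ⊗ₜ[A] (1 : B) - (1 : MvPolynomial (Fin n) A) ⊗ₜ[A] q (MvPolynomial.X j)

/-- evaluation `P ⊗ B → B`. -/
noncomputable abbrev ev : MvPolynomial (Fin n) A ⊗[A] B →ₐ[A] B :=
  Algebra.TensorProduct.productMap q (AlgHom.id A B)

theorem ev_gen (j : Fin n) : ev q (gen q j) = 0 := by
  rw [gen, map_sub, ev, Algebra.TensorProduct.productMap_apply_tmul,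
    Algebra.TensorProduct.productMap_apply_tmul]
  simp

theorem exists_coeff (p : MvPolynomial (Fin n) A) :
    ∃ c : Fin n → MvPolynomial (Fin n) A ⊗[A] B,
      p ⊗ₜ[A] (1 : B) - (1 : MvPolynomial (Fin n) A) ⊗ₜ[A] q p = ∑ j, c j * gen q j ∧
      ∀ j, ev q (c j) = q (MvPolynomial.pderiv j p) := by
  classical
  induction p using MvPolynomial.induction_on with
  | C a =>
    refine ⟨fun _ => 0, ?_, ?_⟩
    · simp only [zero_mul, Finset.sum_const_zero]
      rw [sub_eq_zero, MvPolynomial.C_eq_smul_one, map_smul, map_one, TensorProduct.smul_tmul]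
    · intro j
      rw [map_zero, MvPolynomial.pderiv_C, map_zero]
  | add p₁ p₂ h₁ h₂ =>
    obtain ⟨c₁, hc₁, hd₁⟩ := h₁
    obtain ⟨c₂, hc₂, hd₂⟩ := h₂
    refine ⟨fun j => c₁ j + c₂ j, ?_, ?_⟩
    · simp only [add_mul, Finset.sum_add_distrib]
      rw [← hc₁, ← hc₂, map_add, TensorProduct.add_tmul, TensorProduct.tmul_add]
      ring
    · intro j
      rw [map_add, hd₁, hd₂, map_add, map_add]
  | mul_X p k h =>
    obtain ⟨c, hc, hd⟩ := h
    refine ⟨fun j => c j * ((MvPolynomial.X k) ⊗ₜ[A] (1 : B)) +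
      if j = k then (1 : MvPolynomial (Fin n) A) ⊗ₜ[A] q p else 0, ?_, ?_⟩
    · simp only [add_mul, Finset.sum_add_distrib, ite_mul, zero_mul, Finset.sum_ite_eq',
        Finset.mem_univ, if_true]
      have h1 : ∑ j, c j * ((MvPolynomial.X k) ⊗ₜ[A] (1 : B)) * gen q j =
          (∑ j, c j * gen q j) * ((MvPolynomial.X k) ⊗ₜ[A] (1 : B)) := by
        rw [Finset.sum_mul]
        refine Finset.sum_congr rfl fun j _ => ?_
        ring
      rw [h1, ← hc, gen, map_mul]
      simp only [sub_mul, mul_sub, Algebra.TensorProduct.tmul_mul_tmul, mul_one, one_mul]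
      ring
    · intro j
      have h2 : ev q ((MvPolynomial.X k) ⊗ₜ[A] (1 : B)) = q (MvPolynomial.X k) := by
        rw [ev, Algebra.TensorProduct.productMap_apply_tmul]
        simp
      have h3 : ev q ((1 : MvPolynomial (Fin n) A) ⊗ₜ[A] q p) = q p := by
        rw [ev, Algebra.TensorProduct.productMap_apply_tmul]
        simp
      rw [map_add, map_mul, hd, h2, Derivation.leibniz, MvPolynomial.pderiv_X, map_add,
        smul_eq_mul, smul_eq_mul, map_mul, map_mul]
      by_cases hjk : j = k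
      · subst hjk
        rw [if_pos rfl, h3, Pi.single_eq_same, map_one]
        ring
      · rw [if_neg hjk, map_zero, Pi.single_eq_of_ne (Ne.symm hjk), map_zero]
        ring

theorem span_gen_eq_ker :
    Ideal.span (Set.range (gen q)) = RingHom.ker (ev q) := by
  apply le_antisymm
  · rw [Ideal.span_le]
    rintro _ ⟨j, rfl⟩
    exact ev_gen q j
  · intro w hw
    rw [RingHom.mem_ker] at hw
    have key : ∀ w : MvPolynomial (Fin n) A ⊗[A] B,
        w - (1 : MvPolynomial (Fin n) A) ⊗ₜ[A] (ev q w) ∈ Ideal.span (Set.range (gen q)) := by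
      intro w
      induction w using TensorProduct.induction_on with
      | zero =>
        rw [map_zero, TensorProduct.tmul_zero, sub_zero]
        exact Ideal.zero_mem _
      | tmul p b =>
        obtain ⟨c, hc, -⟩ := exists_coeff q p
        have h1 : p ⊗ₜ[A] b - (1 : MvPolynomial (Fin n) A) ⊗ₜ[A] (ev q (p ⊗ₜ[A] b)) =
            (p ⊗ₜ[A] (1 : B) - (1 : MvPolynomial (Fin n) A) ⊗ₜ[A] q p) *
              ((1 : MvPolynomial (Fin n) A) ⊗ₜ[A] b) := by
          rw [ev, Algebra.TensorProduct.productMap_apply_tmul, sub_mul,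
            Algebra.TensorProduct.tmul_mul_tmul, Algebra.TensorProduct.tmul_mul_tmul]
          simp
        rw [h1, hc]
        refine Ideal.mul_mem_right _ _ (Ideal.sum_mem _ fun j _ => ?_)
        exact Ideal.mul_mem_left _ _ (Ideal.subset_span ⟨j, rfl⟩)
      | add x y hx hy =>
        rw [map_add, TensorProduct.tmul_add]
        have : x + y - ((1 : MvPolynomial (Fin n) A) ⊗ₜ[A] (ev q x) +
            (1 : MvPolynomial (Fin n) A) ⊗ₜ[A] (ev q y)) =
            (x - (1 : MvPolynomial (Fin n) A) ⊗ₜ[A] (ev q x)) +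
            (y - (1 : MvPolynomial (Fin n) A) ⊗ₜ[A] (ev q y)) := by ring
        rw [this]
        exact Ideal.add_mem _ hx hy
    have h2 := key w
    rwa [hw, TensorProduct.tmul_zero, sub_zero] at h2

/-- the coefficient matrix for a family `f` killed by `q`. -/
theorem exists_matrix (f : Fin n → MvPolynomial (Fin n) A) (hf : ∀ i, q (f i) = 0) :
    ∃ c : Matrix (Fin n) (Fin n) (MvPolynomial (Fin n) A ⊗[A] B),
      (∀ i, f i ⊗ₜ[A] (1 : B) = ∑ j, c i j * gen q j) ∧
      ∀ i j, ev q (c i j) = q (MvPolynomial.pderiv j (f i)) := by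
  choose c hc hd using fun i => exists_coeff q (f i)
  refine ⟨Matrix.of c, fun i => ?_, fun i j => hd i j⟩
  have := hc i
  rw [hf i, TensorProduct.tmul_zero, sub_zero] at this
  exact this

end Groth.Agent.Lib.Seat90.S2210Aux
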