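import Mathlib
import Groth.Prelude
import Groth.Agent.Lib.Seat56RelGCI5
import Groth.Agent.Lib.Seat56RelGCI6
import Groth.Agent.Lib.Seat90S2210Aux
import Groth.Agent.Lib.Seat90ExtKoszulF
import Groth.Agent.Lib.Seat90OmegaFrob

/-!
# The dualizing module of a finite global complete intersection (Seat 90)

`B = A[x_1..x_n]/(f_1..f_n)` quasi-finite over `A`: flat, `f` Koszul-regular; for a matrix `c` with
`f_i ⊗ 1 = ∑ c_ij (x_j ⊗ 1 - 1 ⊗ x_j)` in `A[x] ⊗_A B`, the element `Δ = image of det c` in
`B ⊗_A B` generates the annihilator of the diagonal ideal and `b ↦ (1 ⊗ b) Δ` is injective.  If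
moreover `B` is finite free over `A` and Artinian then `θ_Δ : ω_{B/A} → B` is bijective.
-/

set_option autoImplicit false
universe u

namespace Groth.Agent.Lib.Seat90.GciOmega

open TensorProduct Groth.Agent.Lib.Helper27NoetherDiff Groth.Agent.Lib.Seat90.OmegaFrob
  Groth.Agent.Lib.Seat90.S2210Aux Groth.Agent.Lib.Seat90.ExtKoszulC

variable {A : Type u} [CommRing A] {n : ℕ} (f : Fin n → MvPolynomial (Fin n) A)

theorem isRelGCI_of_quasiFinite
    [Algebra.QuasiFinite A (MvPolynomial (Fin n) A ⧸ Ideal.span (Set.range f))] :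
    Synt.IsRelGCI A n n f := by
  intro p hnt
  refine ⟨le_refl n, ?_⟩
  have := hnt
  rw [Nat.sub_self, Nat.cast_zero]
  have h1 : IsArtinianRing
      (p.asIdeal.Fiber (MvPolynomial (Fin n) A ⧸ Ideal.span (Set.range f))) := inferInstance
  have h2 := (isArtinianRing_iff_isNoetherianRing_krullDimLE_zero
    (R := p.asIdeal.Fiber (MvPolynomial (Fin n) A ⧸ Ideal.span (Set.range f)))).1 h1
  have h3 := (ringKrullDimZero_iff_ringKrullDim_eq_zero
    (R := p.asIdeal.Fiber (MvPolynomial (Fin n) A ⧸ Ideal.span (Set.range f)))).1 h2.2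
  exact h3

theorem flat_of_quasiFinite
    [Algebra.QuasiFinite A (MvPolynomial (Fin n) A ⧸ Ideal.span (Set.range f))] :
    Module.Flat A (MvPolynomial (Fin n) A ⧸ Ideal.span (Set.range f)) :=
  Groth.Agent.Lib.Seat56.RelGCI.flat_of_isRelGCI (isRelGCI_of_quasiFinite f)

theorem kr_of_quasiFinite
    [Algebra.QuasiFinite A (MvPolynomial (Fin n) A ⧸ Ideal.span (Set.range f))] :
    LCI.IsKoszulRegularSeq (MvPolynomial (Fin n) A) (List.ofFn f) :=
  Groth.Agent.Lib.Seat56.RelGCI.isKoszulRegularSeq_of_isRelGCI (isRelGCI_of_quasiFinite f)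

/-- the quotient map as an algebra map. -/
noncomputable abbrev qq : MvPolynomial (Fin n) A →ₐ[A]
    (MvPolynomial (Fin n) A ⧸ Ideal.span (Set.range f)) :=
  Ideal.Quotient.mkₐ A (Ideal.span (Set.range f))

/-- the image in `B ⊗ B` of the determinant. -/
noncomputable def casimir
    (c : Matrix (Fin n) (Fin n)
      (MvPolynomial (Fin n) A ⊗[A] (MvPolynomial (Fin n) A ⧸ Ideal.span (Set.range f)))) :
    (MvPolynomial (Fin n) A ⧸ Ideal.span (Set.range f)) ⊗[A]
      (MvPolynomial (Fin n) A ⧸ Ideal.span (Set.range f)) :=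
  Algebra.TensorProduct.map (qq f) (AlgHom.id A _) c.det

variable [Algebra.QuasiFinite A (MvPolynomial (Fin n) A ⧸ Ideal.span (Set.range f))]
  (c : Matrix (Fin n) (Fin n)
      (MvPolynomial (Fin n) A ⊗[A] (MvPolynomial (Fin n) A ⧸ Ideal.span (Set.range f))))
  (hc : ∀ i, f i ⊗ₜ[A] (1 : MvPolynomial (Fin n) A ⧸ Ideal.span (Set.range f)) =
    ∑ j, c i j * gen (qq f) j)

include hc in
theorem ann_eq_span_casimir :
    Submodule.annihilator (RingHom.ker (Algebra.TensorProduct.lmul'
      (S := MvPolynomial (Fin n) A ⧸ Ideal.span (Set.range f)) A)) =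
      Ideal.span {casimir f c} := by
  have := flat_of_quasiFinite f
  exact Groth.Agent.Lib.Seat90.S2235Aux.main (A := A) f (gen (qq f)) (span_gen_eq_ker (qq f)) c hc
    (Groth.Agent.Lib.Seat90.S2235Aux.kExact_tensor (A := A) f (kr_of_quasiFinite f))

include hc in
theorem casimir_mem :
    casimir f c ∈ Submodule.annihilator (RingHom.ker (Algebra.TensorProduct.lmul'
      (S := MvPolynomial (Fin n) A ⧸ Ideal.span (Set.range f)) A)) := by
  rw [ann_eq_span_casimir f c hc]
  exact Ideal.subset_span rfl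

include hc in
/-- the second half of Wiebe's lemma. -/
theorem wiebe_inj (b : MvPolynomial (Fin n) A ⧸ Ideal.span (Set.range f))
    (hb : ((1 : MvPolynomial (Fin n) A ⧸ Ideal.span (Set.range f)) ⊗ₜ[A] b) * casimir f c = 0) :
    b = 0 := by
  have hflat := flat_of_quasiFinite f
  have hK := Groth.Agent.Lib.Seat90.S2235Aux.kExact_tensor (A := A) f (kr_of_quasiFinite f)
  have hqs : Function.Surjective (qq f) := Ideal.Quotient.mkₐ_surjective A _
  have hker : RingHom.ker (Algebra.TensorProduct.map (qq f) (AlgHom.id A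
      (MvPolynomial (Fin n) A ⧸ Ideal.span (Set.range f)))) =
      Ideal.span (Set.range fun i => f i ⊗ₜ[A]
        (1 : MvPolynomial (Fin n) A ⧸ Ideal.span (Set.range f))) := by
    have hqker : RingHom.ker (qq f) = Ideal.span (Set.range f) := by
      ext x
      rw [RingHom.mem_ker]
      exact Ideal.Quotient.eq_zero_iff_mem
    rw [Algebra.TensorProduct.rTensor_ker _ hqs, hqker, Ideal.map_span, ← Set.range_comp]
    rfl
  have h1 : ((1 : MvPolynomial (Fin n) A) ⊗ₜ[A] b) * c.det ∈
      Ideal.span (Set.range fun i => f i ⊗ₜ[A]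
        (1 : MvPolynomial (Fin n) A ⧸ Ideal.span (Set.range f))) := by
    rw [← hker, RingHom.mem_ker, map_mul, Algebra.TensorProduct.map_tmul, map_one]
    exact hb
  have h2 := Groth.Agent.Lib.Seat90.ExtKoszulF.mem_span_of_mul_det_mem _ (gen (qq f)) c hc hK _ h1
  rw [span_gen_eq_ker, RingHom.mem_ker, ev, Algebra.TensorProduct.productMap_apply_tmul] at h2
  simpa using h2

theorem lmul'_casimir (hd : ∀ i j, ev (qq f) (c i j) = qq f (MvPolynomial.pderiv j (f i))) :
    Algebra.TensorProduct.lmul' (S := MvPolynomial (Fin n) A ⧸ Ideal.span (Set.range f)) A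
      (casimir f c) = Ideal.Quotient.mk (Ideal.span (Set.range f))
        (Matrix.det (Matrix.of fun i j => MvPolynomial.pderiv j (f i))) := by
  have h1 : Algebra.TensorProduct.lmul' (S := MvPolynomial (Fin n) A ⧸ Ideal.span (Set.range f)) A
      (casimir f c) = ev (qq f) c.det := by
    rw [ev, Algebra.TensorProduct.productMap_eq_comp_map]
    rfl
  rw [h1, AlgHom.map_det]
  change _ = qq f _
  rw [AlgHom.map_det]
  congr 1
  ext i j
  simp only [AlgHom.mapMatrix_apply, Matrix.map_apply, Matrix.of_apply]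
  exact hd i j

section Finite

variable [Module.Finite A (MvPolynomial (Fin n) A ⧸ Ideal.span (Set.range f))]
  [Module.Free A (MvPolynomial (Fin n) A ⧸ Ideal.span (Set.range f))]

include hc in
theorem exists_theta_eq_one
    [IsArtinianRing (MvPolynomial (Fin n) A ⧸ Ideal.span (Set.range f))] :
    ∃ l₀ : Disc.Omega A (MvPolynomial (Fin n) A ⧸ Ideal.span (Set.range f)),
      thetaOf (casimir f c) (casimir_mem f c hc) l₀ = 1 := by
  classical
  let b : Module.Basis (Module.Free.ChooseBasisIndex A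
      (MvPolynomial (Fin n) A ⧸ Ideal.span (Set.range f))) A
      (MvPolynomial (Fin n) A ⧸ Ideal.span (Set.range f)) := Module.Free.chooseBasis A _
  have hV : (LinearMap.range (thetaOf (casimir f c) (casimir_mem f c hc)) :
      Ideal (MvPolynomial (Fin n) A ⧸ Ideal.span (Set.range f))) = ⊤ := by
    apply eq_top_of_forall_mul_eq_zero
    intro y hy
    apply wiebe_inj f c hc y
    rw [eq_sum_tmul_pair b (((1 : MvPolynomial (Fin n) A ⧸ Ideal.span (Set.range f)) ⊗ₜ[A] y) *
      casimir f c)]
    refine Finset.sum_eq_zero fun j _ => ?_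
    rw [pair_mul_right]
    have h1 : pair (b.coord j) (casimir f c) ∈
        LinearMap.range (thetaOf (casimir f c) (casimir_mem f c hc)) := ⟨⟨b.coord j⟩, rfl⟩
    rw [hy _ h1, TensorProduct.tmul_zero]
  have h1 : (1 : MvPolynomial (Fin n) A ⧸ Ideal.span (Set.range f)) ∈
      (LinearMap.range (thetaOf (casimir f c) (casimir_mem f c hc)) :
        Ideal (MvPolynomial (Fin n) A ⧸ Ideal.span (Set.range f))) := by
    rw [hV]
    trivial
  exact h1

end Finite

end Groth.Agent.Lib.Seat90.GciOmega
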