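import Mathlib
import Groth.Prelude
import Groth.Agent.Lib.Seat90GciOmega

/-!
# Base change of a finite global complete intersection along a surjection of the base (Seat 90)

`B = A[x]/(f)`, `K` an `A`-algebra with `A → K` surjective (in the application `K = A/𝔪`),
`B_K = K[x]/(f̄)`.  The maps `ρ : B → B_K`, `ρQ : A[x] ⊗_A B → K[x] ⊗_K B_K`,
`ρρ : B ⊗_A B → B_K ⊗_K B_K` and their compatibility with the Casimir element.
-/

set_option autoImplicit false
universe u

namespace Groth.Agent.Lib.Seat90.GciOmegaBC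

open TensorProduct Groth.Agent.Lib.Seat90.GciOmega Groth.Agent.Lib.Seat90.S2210Aux

variable {A : Type u} [CommRing A] {n : ℕ} (f : Fin n → MvPolynomial (Fin n) A)
  (K : Type u) [CommRing K] [Algebra A K]

/-- base change of polynomials. -/
noncomputable def ρP : MvPolynomial (Fin n) A →ₐ[A] MvPolynomial (Fin n) K :=
  MvPolynomial.mapAlgHom (Algebra.ofId A K)

theorem ρP_X (j : Fin n) : ρP (n := n) (A := A) K (MvPolynomial.X j) = MvPolynomial.X j := by
  simp [ρP]

theorem ρP_surjective (hK : Function.Surjective (algebraMap A K)) :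
    Function.Surjective (ρP (n := n) (A := A) K) :=
  MvPolynomial.map_surjective _ hK

theorem ker_ρP : RingHom.ker (ρP (n := n) (A := A) K) =
    Ideal.map (MvPolynomial.C) (RingHom.ker (algebraMap A K)) :=
  MvPolynomial.ker_map (algebraMap A K)

/-- the base-changed equations. -/
noncomputable def fbar : Fin n → MvPolynomial (Fin n) K := fun i => ρP K (f i)

theorem map_span_eq : Ideal.map (ρP (n := n) (A := A) K) (Ideal.span (Set.range f)) =
    Ideal.span (Set.range (fbar f K)) := by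
  rw [Ideal.map_span, ← Set.range_comp]
  rfl

/-- `B → B_K`. -/
noncomputable def ρ : (MvPolynomial (Fin n) A ⧸ Ideal.span (Set.range f)) →ₐ[A]
    (MvPolynomial (Fin n) K ⧸ Ideal.span (Set.range (fbar f K))) :=
  Ideal.Quotient.liftₐ (Ideal.span (Set.range f))
    ((Ideal.Quotient.mkₐ A (Ideal.span (Set.range (fbar f K)))).comp (ρP K)) (by
      intro a ha
      rw [AlgHom.comp_apply]
      refine Ideal.Quotient.eq_zero_iff_mem.2 ?_
      rw [← map_span_eq]
      exact Ideal.mem_map_of_mem _ ha)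

theorem ρ_mk (p : MvPolynomial (Fin n) A) :
    ρ f K (Ideal.Quotient.mk (Ideal.span (Set.range f)) p) =
      Ideal.Quotient.mk (Ideal.span (Set.range (fbar f K))) (ρP K p) := rfl

theorem ρ_qq (p : MvPolynomial (Fin n) A) :
    ρ f K (qq f p) = qq (fbar f K) (ρP K p) := rfl

theorem ρ_surjective (hK : Function.Surjective (algebraMap A K)) :
    Function.Surjective (ρ f K) := by
  intro y
  obtain ⟨p', rfl⟩ := Ideal.Quotient.mk_surjective y
  obtain ⟨p, rfl⟩ := ρP_surjective K hK p'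
  exact ⟨Ideal.Quotient.mk _ p, ρ_mk f K p⟩

theorem ker_ρ_le (hK : Function.Surjective (algebraMap A K)) :
    RingHom.ker (ρ f K) ≤ Ideal.map
      (algebraMap A (MvPolynomial (Fin n) A ⧸ Ideal.span (Set.range f)))
      (RingHom.ker (algebraMap A K)) := by
  intro x hx
  obtain ⟨p, rfl⟩ := Ideal.Quotient.mk_surjective x
  rw [RingHom.mem_ker, ρ_mk, Ideal.Quotient.eq_zero_iff_mem, ← map_span_eq,
    Ideal.mem_map_iff_of_surjective _ (ρP_surjective K hK)] at hx
  obtain ⟨p', hp', hpp'⟩ := hx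
  have h2 : p - p' ∈ RingHom.ker (ρP (n := n) (A := A) K) := by
    rw [RingHom.mem_ker, map_sub, hpp', sub_self]
  rw [ker_ρP] at h2
  have h4 : Ideal.Quotient.mk (Ideal.span (Set.range f)) p =
      Ideal.Quotient.mk (Ideal.span (Set.range f)) (p - p') := by
    rw [map_sub, Ideal.Quotient.eq_zero_iff_mem.2 hp', sub_zero]
  rw [h4]
  have h5 : Ideal.map (Ideal.Quotient.mk (Ideal.span (Set.range f)))
      (Ideal.map (MvPolynomial.C) (RingHom.ker (algebraMap A K))) =
      Ideal.map (algebraMap A (MvPolynomial (Fin n) A ⧸ Ideal.span (Set.range f)))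
        (RingHom.ker (algebraMap A K)) := by
    rw [Ideal.map_map]
    rfl
  rw [← h5]
  exact Ideal.mem_map_of_mem _ h2

section tmap

variable {K}
variable {P B : Type u} [CommRing P] [CommRing B] [Algebra A P] [Algebra A B]
  {P' B' : Type u} [CommRing P'] [CommRing B'] [Algebra K P'] [Algebra K B']
  [Algebra A P'] [Algebra A B'] [IsScalarTower A K P'] [IsScalarTower A K B']

/-- the tensor product of two semilinear algebra maps, `P ⊗_A B → P' ⊗_K B'`. -/
noncomputable def tmap (g : P →ₐ[A] P') (h : B →ₐ[A] B') : (P ⊗[A] B) →ₐ[A] (P' ⊗[K] B') :=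
  Algebra.TensorProduct.lift
    (((Algebra.TensorProduct.includeLeft (R := K) (S := K) (A := P') (B := B')).restrictScalars
      A).comp g)
    (((Algebra.TensorProduct.includeRight (R := K) (A := P') (B := B')).restrictScalars A).comp h)
    (fun _ _ => Commute.all _ _)

theorem tmap_tmul (g : P →ₐ[A] P') (h : B →ₐ[A] B') (p : P) (b : B) :
    tmap (K := K) g h (p ⊗ₜ[A] b) = (g p) ⊗ₜ[K] (h b) := by
  rw [tmap, Algebra.TensorProduct.lift_tmul]
  simp only [AlgHom.comp_apply, AlgHom.coe_restrictScalars',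
    Algebra.TensorProduct.includeLeft_apply,
    Algebra.TensorProduct.includeRight_apply, Algebra.TensorProduct.tmul_mul_tmul, mul_one, one_mul]

end tmap

/-- `A[x] ⊗_A B → K[x] ⊗_K B_K`. -/
noncomputable def ρQ : (MvPolynomial (Fin n) A ⊗[A]
      (MvPolynomial (Fin n) A ⧸ Ideal.span (Set.range f))) →ₐ[A]
    (MvPolynomial (Fin n) K ⊗[K]
      (MvPolynomial (Fin n) K ⧸ Ideal.span (Set.range (fbar f K)))) :=
  tmap (K := K) (ρP K) (ρ f K)

theorem ρQ_tmul (p : MvPolynomial (Fin n) A)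
    (b : MvPolynomial (Fin n) A ⧸ Ideal.span (Set.range f)) :
    ρQ f K (p ⊗ₜ[A] b) = (ρP K p) ⊗ₜ[K] (ρ f K b) := tmap_tmul _ _ p b

/-- `B ⊗_A B → B_K ⊗_K B_K`. -/
noncomputable def ρρ : ((MvPolynomial (Fin n) A ⧸ Ideal.span (Set.range f)) ⊗[A]
      (MvPolynomial (Fin n) A ⧸ Ideal.span (Set.range f))) →ₐ[A]
    ((MvPolynomial (Fin n) K ⧸ Ideal.span (Set.range (fbar f K))) ⊗[K]
      (MvPolynomial (Fin n) K ⧸ Ideal.span (Set.range (fbar f K)))) :=
  tmap (K := K) (ρ f K) (ρ f K)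

theorem ρρ_tmul (b b' : MvPolynomial (Fin n) A ⧸ Ideal.span (Set.range f)) :
    ρρ f K (b ⊗ₜ[A] b') = (ρ f K b) ⊗ₜ[K] (ρ f K b') := tmap_tmul _ _ b b'

theorem ρρ_map (w : MvPolynomial (Fin n) A ⊗[A]
    (MvPolynomial (Fin n) A ⧸ Ideal.span (Set.range f))) :
    ρρ f K (Algebra.TensorProduct.map (qq f) (AlgHom.id A _) w) =
      Algebra.TensorProduct.map (qq (fbar f K)) (AlgHom.id K _) (ρQ f K w) := by
  induction w using TensorProduct.induction_on with
  | zero => simp
  | tmul p b =>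
    rw [Algebra.TensorProduct.map_tmul, ρρ_tmul, ρQ_tmul, Algebra.TensorProduct.map_tmul, ρ_qq]
    rfl
  | add x y hx hy => rw [map_add, map_add, hx, hy, map_add, map_add]

theorem ρQ_gen (j : Fin n) : ρQ f K (gen (qq f) j) = gen (qq (fbar f K)) j := by
  rw [gen, gen, map_sub, ρQ_tmul, ρQ_tmul, map_one, map_one, ρ_qq, ρP_X]

theorem ρQ_f (i : Fin n) :
    ρQ f K (f i ⊗ₜ[A] (1 : MvPolynomial (Fin n) A ⧸ Ideal.span (Set.range f))) =
      (fbar f K i) ⊗ₜ[K] 1 := by
  rw [ρQ_tmul, map_one]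
  rfl

/-- the base-changed matrix satisfies the base-changed relation. -/
theorem hc_bar (c : Matrix (Fin n) (Fin n)
      (MvPolynomial (Fin n) A ⊗[A] (MvPolynomial (Fin n) A ⧸ Ideal.span (Set.range f))))
    (hc : ∀ i, f i ⊗ₜ[A] (1 : MvPolynomial (Fin n) A ⧸ Ideal.span (Set.range f)) =
      ∑ j, c i j * gen (qq f) j) (i : Fin n) :
    (fbar f K i) ⊗ₜ[K]
        (1 : MvPolynomial (Fin n) K ⧸ Ideal.span (Set.range (fbar f K))) =
      ∑ j, (c.map (ρQ f K)) i j * gen (qq (fbar f K)) j := by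
  rw [← ρQ_f, hc i, map_sum]
  refine Finset.sum_congr rfl fun j _ => ?_
  rw [map_mul, ρQ_gen, Matrix.map_apply]

theorem ρρ_casimir (c : Matrix (Fin n) (Fin n)
      (MvPolynomial (Fin n) A ⊗[A] (MvPolynomial (Fin n) A ⧸ Ideal.span (Set.range f)))) :
    ρρ f K (casimir f c) = casimir (fbar f K) (c.map (ρQ f K)) := by
  rw [casimir, casimir, ρρ_map]
  congr 1
  exact RingHom.map_det (R := MvPolynomial (Fin n) A ⊗[A]
      (MvPolynomial (Fin n) A ⧸ Ideal.span (Set.range f)))
    (S := MvPolynomial (Fin n) K ⊗[K]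
      (MvPolynomial (Fin n) K ⧸ Ideal.span (Set.range (fbar f K))))
    ((ρQ f K : _ →ₐ[A] _) : _ →+* _) c

end Groth.Agent.Lib.Seat90.GciOmegaBC
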