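import Mathlib

/-!
# Hasse–Davenport, part A: monic polynomials over a finite field and the multiplicative weight

`polysLT`, `monics`, `irr` are finsets of polynomials over a finite field; `lam χ ψ` is the
multiplicative weight `f ↦ ψ(-nextCoeff f) χ((-1)^deg f · f(0))` on monic polynomials and
`S χ ψ n` its sum over monic polynomials of degree `n`.
-/

set_option autoImplicit false

open Polynomial BigOperators

namespace Groth.Agent.Lib.Seat90.HasseDav

variable {F : Type*} [Field F] [Fintype F] {R : Type*} [CommRing R]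

open Classical in
/-- All polynomials of degree `< n` over a finite field. -/
noncomputable def polysLT (F : Type*) [Field F] [Fintype F] (n : ℕ) : Finset F[X] :=
  haveI : Fintype (degreeLT F n) := Fintype.ofEquiv _ (degreeLTEquiv F n).symm.toEquiv
  Finset.univ.image (Subtype.val : degreeLT F n → F[X])

theorem mem_polysLT {n : ℕ} {f : F[X]} : f ∈ polysLT F n ↔ f.degree < n := by
  classical
  simp [polysLT, mem_degreeLT]

open Classical in
/-- Monic polynomials of degree `n`. -/
noncomputable def monics (F : Type*) [Field F] [Fintype F] (n : ℕ) : Finset F[X] :=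
  (polysLT F (n + 1)).filter (fun f => f.Monic ∧ f.natDegree = n)

theorem mem_monics {n : ℕ} {f : F[X]} : f ∈ monics F n ↔ f.Monic ∧ f.natDegree = n := by
  classical
  simp only [monics, Finset.mem_filter, mem_polysLT, and_iff_right_iff_imp]
  rintro ⟨-, h⟩
  calc f.degree ≤ f.natDegree := degree_le_natDegree
    _ < (n + 1 : ℕ) := by rw [h]; exact_mod_cast Nat.lt_succ_self n

open Classical in
/-- Monic irreducible polynomials of degree `≤ N`. -/
noncomputable def irr (F : Type*) [Field F] [Fintype F] (N : ℕ) : Finset F[X] :=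
  (polysLT F (N + 1)).filter (fun f => f.Monic ∧ Irreducible f)

theorem mem_irr {N : ℕ} {f : F[X]} :
    f ∈ irr F N ↔ f.Monic ∧ Irreducible f ∧ f.natDegree ≤ N := by
  classical
  simp only [irr, Finset.mem_filter, mem_polysLT]
  constructor
  · rintro ⟨h, hm, hi⟩
    refine ⟨hm, hi, ?_⟩
    rw [degree_eq_natDegree hm.ne_zero] at h
    exact Nat.lt_succ_iff.mp (by exact_mod_cast h)
  · rintro ⟨hm, hi, h⟩
    refine ⟨?_, hm, hi⟩
    calc f.degree ≤ f.natDegree := degree_le_natDegree
      _ < (N + 1 : ℕ) := by exact_mod_cast Nat.lt_succ_of_le h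

theorem monics_zero : monics F 0 = {1} := by
  ext f
  rw [mem_monics, Finset.mem_singleton]
  constructor
  · rintro ⟨hm, h⟩
    exact eq_one_of_monic_natDegree_zero hm h
  · rintro rfl
    exact ⟨monic_one, natDegree_one⟩

/-- The multiplicative weight. -/
noncomputable def lam (χ : MulChar F R) (ψ : AddChar F R) (f : F[X]) : R :=
  ψ (-(f.nextCoeff)) * χ ((-1) ^ f.natDegree * f.coeff 0)

variable (χ : MulChar F R) (ψ : AddChar F R)

theorem lam_one : lam χ ψ 1 = 1 := by
  have : (1 : F[X]).nextCoeff = 0 := by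
    rw [← C_1]; exact nextCoeff_C_eq_zero 1
  simp [lam, this]

theorem lam_mul {f g : F[X]} (hf : f.Monic) (hg : g.Monic) :
    lam χ ψ (f * g) = lam χ ψ f * lam χ ψ g := by
  unfold lam
  rw [Monic.nextCoeff_mul hf hg, hf.natDegree_mul hg, mul_coeff_zero, neg_add, AddChar.map_add_eq_mul,
    pow_add, show (-1 : F) ^ f.natDegree * (-1) ^ g.natDegree * (f.coeff 0 * g.coeff 0) =
      ((-1) ^ f.natDegree * f.coeff 0) * ((-1) ^ g.natDegree * g.coeff 0) by ring, map_mul]
  ring

theorem lam_pow {f : F[X]} (hf : f.Monic) (r : ℕ) : lam χ ψ (f ^ r) = lam χ ψ f ^ r := by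
  induction r with
  | zero => simp [lam_one]
  | succ r ih => rw [pow_succ, lam_mul χ ψ (hf.pow r) hf, ih, pow_succ]

theorem lam_X_add_C (a : F) : lam χ ψ (X + C a) = ψ (-a) * χ (-a) := by
  unfold lam
  rw [nextCoeff_X_add_C, natDegree_X_add_C]
  simp

/-- The sum of the weight over monic polynomials of degree `n`. -/
noncomputable def S (n : ℕ) : R := ∑ f ∈ monics F n, lam χ ψ f

theorem S_zero : S χ ψ 0 = 1 := by
  simp [S, monics_zero, lam_one]

theorem S_one : S χ ψ 1 = ∑ x : F, χ x * ψ x := by
  classical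
  unfold S
  have h : monics F 1 = Finset.univ.image (fun a : F => X + C a) := by
    ext f
    simp only [mem_monics, Finset.mem_image, Finset.mem_univ, true_and]
    constructor
    · rintro ⟨hm, h⟩
      exact ⟨f.coeff 0, (hm.eq_X_add_C h).symm⟩
    · rintro ⟨a, rfl⟩
      exact ⟨monic_X_add_C a, natDegree_X_add_C a⟩
  rw [h, Finset.sum_image]
  · simp only [lam_X_add_C]
    rw [← Equiv.sum_comp (Equiv.neg F)]
    refine Finset.sum_congr rfl fun a _ => ?_
    simp [mul_comm]
  · intro a _ b _ hab
    have := congrArg (fun p : F[X] => p.coeff 0) hab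
    simpa using this

theorem S_eq_zero [IsDomain R] (hψ : ψ ≠ 1) {n : ℕ} (hn : 2 ≤ n) : S χ ψ n = 0 := by
  classical
  obtain ⟨a, ha⟩ : ∃ a : F, ψ (-a) ≠ 1 := by
    by_contra hcon
    simp only [not_exists, not_not] at hcon
    apply hψ
    ext x
    simpa using hcon (-x)
  have key : S χ ψ n = ψ (-a) * S χ ψ n := by
    unfold S
    rw [Finset.mul_sum]
    have hdeg : ∀ f : F[X], f.Monic → f.natDegree = n →
        (C a * X ^ (n - 1)).degree < f.degree := by
      intro f hm hf
      rw [degree_eq_natDegree hm.ne_zero, hf]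
      refine lt_of_le_of_lt (degree_C_mul_X_pow_le (n - 1) a) ?_
      exact_mod_cast Nat.sub_lt (by omega) one_pos
    have hdeg' : ∀ f : F[X], f.Monic → f.natDegree = n →
        (C (-a) * X ^ (n - 1)).degree < f.degree := by
      intro f hm hf
      rw [degree_eq_natDegree hm.ne_zero, hf]
      refine lt_of_le_of_lt (degree_C_mul_X_pow_le (n - 1) (-a)) ?_
      exact_mod_cast Nat.sub_lt (by omega) one_pos
    refine Finset.sum_bij' (fun f _ => f + C (-a) * X ^ (n - 1)) (fun f _ => f + C a * X ^ (n - 1))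
      ?_ ?_ ?_ ?_ ?_
    · intro f hf
      rw [mem_monics] at hf ⊢
      exact ⟨hf.1.add_of_left (hdeg' f hf.1 hf.2),
        by rw [natDegree_add_eq_left_of_degree_lt (hdeg' f hf.1 hf.2)]; exact hf.2⟩
    · intro f hf
      rw [mem_monics] at hf ⊢
      exact ⟨hf.1.add_of_left (hdeg f hf.1 hf.2),
        by rw [natDegree_add_eq_left_of_degree_lt (hdeg f hf.1 hf.2)]; exact hf.2⟩
    · intro f _
      simp only [map_neg, neg_mul, add_assoc, neg_add_cancel, add_zero]
    · intro f _
      simp only [map_neg, neg_mul, add_assoc, add_neg_cancel, add_zero]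
    · intro f hf
      rw [mem_monics] at hf
      have hnd : (f + C (-a) * X ^ (n - 1)).natDegree = n := by
        rw [natDegree_add_eq_left_of_degree_lt (hdeg' f hf.1 hf.2)]; exact hf.2
      unfold lam
      rw [hnd, hf.2, nextCoeff_of_natDegree_pos (by omega), nextCoeff_of_natDegree_pos (by omega),
        hnd, hf.2, coeff_add, coeff_add, coeff_C_mul_X_pow, coeff_C_mul_X_pow, if_pos rfl,
        if_neg (by omega), add_zero, neg_add, neg_neg, AddChar.map_add_eq_mul]
      have h1 : ψ (-a) * (ψ (-f.coeff (n - 1)) * ψ a) = ψ (-f.coeff (n - 1)) := by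
        rw [mul_comm (ψ (-a)), mul_assoc, ← AddChar.map_add_eq_mul, add_neg_cancel,
          AddChar.map_zero_eq_one, mul_one]
      rw [← mul_assoc, h1]
  have : (1 - ψ (-a)) * S χ ψ n = 0 := by
    rw [sub_mul, one_mul, ← key, sub_self]
  rcases mul_eq_zero.mp this with h | h
  · exact absurd (sub_eq_zero.mp h).symm ha
  · exact h

end Groth.Agent.Lib.Seat90.HasseDav
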