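import Mathlib
import Groth.Agent.Lib.Seat90HasseDavA

/-!
# Hasse–Davenport, part B: the Newton-type identity from unique factorisation
-/

set_option autoImplicit false
set_option linter.unusedSectionVars false

open Polynomial BigOperators UniqueFactorizationMonoid

namespace Groth.Agent.Lib.Seat90.HasseDav

variable {F : Type*} [Field F] [Fintype F] {R : Type*} [CommRing R]
variable (χ : MulChar F R) (ψ : AddChar F R)

open Classical in
theorem sum_filter_dvd {h : F[X]} (hh : h.Monic) (n : ℕ) :
    ∑ f ∈ (monics F n).filter (fun f => h ∣ f), lam χ ψ f =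
      if h.natDegree ≤ n then lam χ ψ h * S χ ψ (n - h.natDegree) else 0 := by
  split_ifs with hle
  · have himg : (monics F n).filter (fun f => h ∣ f) =
        (monics F (n - h.natDegree)).image (fun k => h * k) := by
      ext f
      simp only [Finset.mem_filter, Finset.mem_image, mem_monics]
      constructor
      · rintro ⟨⟨hm, hd⟩, k, rfl⟩
        have hk : k.Monic := hh.of_mul_monic_left hm
        refine ⟨k, ⟨hk, ?_⟩, rfl⟩
        rw [hh.natDegree_mul hk] at hd
        omega
      · rintro ⟨k, ⟨hk, hd⟩, rfl⟩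
        refine ⟨⟨hh.mul hk, ?_⟩, dvd_mul_right _ _⟩
        rw [hh.natDegree_mul hk, hd]
        omega
    rw [himg, Finset.sum_image]
    · unfold S
      rw [Finset.mul_sum]
      refine Finset.sum_congr rfl fun k hk => ?_
      exact lam_mul χ ψ hh (mem_monics.mp hk).1
    · intro a _ b _ hab
      exact mul_left_cancel₀ hh.ne_zero hab
  · apply Finset.sum_eq_zero
    intro f hf
    exfalso
    rw [Finset.mem_filter, mem_monics] at hf
    have := natDegree_le_of_dvd hf.2 hf.1.1.ne_zero
    omega

open Classical in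
theorem sum_pow_dvd {N : ℕ} {f : F[X]} (hf : f.Monic) (hN : f.natDegree ≤ N) :
    ∑ P ∈ irr F N, ∑ r ∈ Finset.Icc 1 N, (if P ^ r ∣ f then P.natDegree else 0) =
      f.natDegree := by
  have hf0 : f ≠ 0 := hf.ne_zero
  have key : ∀ P ∈ irr F N, ∑ r ∈ Finset.Icc 1 N, (if P ^ r ∣ f then P.natDegree else 0) =
      (normalizedFactors f).count P * P.natDegree := by
    intro P hP
    rw [mem_irr] at hP
    obtain ⟨hPm, hPi, -⟩ := hP
    set c := (normalizedFactors f).count P with hc
    have hiff : ∀ r : ℕ, P ^ r ∣ f ↔ r ≤ c := by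
      intro r
      rw [pow_dvd_iff_le_emultiplicity, emultiplicity_eq_count_normalizedFactors hPi hf0,
        hPm.normalize_eq_self]
      exact_mod_cast Iff.rfl
    have hcN : c ≤ N := by
      have h1 : P ^ c ∣ f := (hiff c).mpr le_rfl
      have h2 := natDegree_le_of_dvd h1 hf0
      rw [hPm.natDegree_pow] at h2
      have h3 : 1 ≤ P.natDegree := hPi.natDegree_pos
      calc c = c * 1 := (mul_one c).symm
        _ ≤ c * P.natDegree := Nat.mul_le_mul_left c h3
        _ ≤ f.natDegree := h2
        _ ≤ N := hN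
    simp only [hiff]
    rw [← Finset.sum_filter, Finset.sum_const, smul_eq_mul]
    congr 1
    have : (Finset.Icc 1 N).filter (fun r => r ≤ c) = Finset.Icc 1 c := by
      ext r
      simp only [Finset.mem_filter, Finset.mem_Icc]
      omega
    rw [this, Nat.card_Icc]
    omega
  rw [Finset.sum_congr rfl key]
  have hprod : (normalizedFactors f).prod = f := by
    rw [prod_normalizedFactors_eq hf0, hf.normalize_eq_self]
  have hmonic : ∀ P ∈ normalizedFactors f, P.Monic := by
    intro P hP
    have h1 := normalize_normalized_factor P hP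
    rw [← h1]
    exact monic_normalize (irreducible_of_normalized_factor P hP).ne_zero
  have hdeg : f.natDegree = ((normalizedFactors f).map natDegree).sum := by
    conv_lhs => rw [← hprod]
    exact natDegree_multiset_prod_of_monic _ hmonic
  rw [hdeg, Finset.sum_multiset_map_count]
  symm
  simp only [smul_eq_mul]
  apply Finset.sum_subset
  · intro P hP
    rw [Multiset.mem_toFinset] at hP
    rw [mem_irr]
    refine ⟨hmonic P hP, irreducible_of_normalized_factor P hP, ?_⟩
    exact (natDegree_le_of_dvd (dvd_of_mem_normalizedFactors hP) hf0).trans hN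
  · intro P _ hP
    rw [Multiset.mem_toFinset] at hP
    rw [Multiset.count_eq_zero_of_notMem hP, zero_mul]

open Classical in
theorem newton {N n : ℕ} (hn : n ≤ N) :
    (n : R) * S χ ψ n = ∑ P ∈ irr F N, ∑ r ∈ Finset.Icc 1 N, (P.natDegree : R) *
      (if r * P.natDegree ≤ n then lam χ ψ P ^ r * S χ ψ (n - r * P.natDegree) else 0) := by
  have h1 : (n : R) * S χ ψ n = ∑ f ∈ monics F n,
      ∑ P ∈ irr F N, ∑ r ∈ Finset.Icc 1 N,
        (if P ^ r ∣ f then (P.natDegree : R) * lam χ ψ f else 0) := by
    unfold S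
    rw [Finset.mul_sum]
    refine Finset.sum_congr rfl fun f hf => ?_
    rw [mem_monics] at hf
    have := sum_pow_dvd (F := F) hf.1 (hf.2.trans_le hn)
    rw [hf.2] at this
    rw [← this, Nat.cast_sum, Finset.sum_mul]
    refine Finset.sum_congr rfl fun P _ => ?_
    rw [Nat.cast_sum, Finset.sum_mul]
    refine Finset.sum_congr rfl fun r _ => ?_
    split_ifs <;> simp
  rw [h1, Finset.sum_comm]
  refine Finset.sum_congr rfl fun P hP => ?_
  rw [Finset.sum_comm]
  refine Finset.sum_congr rfl fun r _ => ?_
  rw [mem_irr] at hP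
  have hPr : (P ^ r).Monic := hP.1.pow r
  have := sum_filter_dvd χ ψ hPr n
  rw [hP.1.natDegree_pow, lam_pow χ ψ hP.1] at this
  rw [← this, Finset.mul_sum, Finset.sum_filter]

open Classical in
/-- The "von Mangoldt" sums. -/
noncomputable def B (N i : ℕ) : R :=
  ∑ P ∈ irr F N, ∑ r ∈ Finset.Icc 1 N,
    (if r * P.natDegree = i then (P.natDegree : R) * lam χ ψ P ^ r else 0)

theorem B_zero (N : ℕ) : B χ ψ N 0 = 0 := by
  classical
  unfold B
  apply Finset.sum_eq_zero
  intro P hP
  apply Finset.sum_eq_zero
  intro r hr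
  rw [mem_irr] at hP
  rw [Finset.mem_Icc] at hr
  have h3 : 1 ≤ P.natDegree := hP.2.1.natDegree_pos
  rw [if_neg]
  have : 1 ≤ r * P.natDegree := Nat.mul_pos (by omega) h3
  omega

theorem newton' [IsDomain R] (hψ : ψ ≠ 1) {N n : ℕ} (hn1 : 1 ≤ n) (hn : n ≤ N) :
    (n : R) * S χ ψ n = B χ ψ N n + S χ ψ 1 * B χ ψ N (n - 1) := by
  classical
  rw [newton χ ψ hn]
  unfold B
  rw [Finset.mul_sum, ← Finset.sum_add_distrib]
  refine Finset.sum_congr rfl fun P hP => ?_
  rw [Finset.mul_sum, ← Finset.sum_add_distrib]
  refine Finset.sum_congr rfl fun r hr => ?_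
  rcases lt_trichotomy (r * P.natDegree + 1) n with h | h | h
  · -- r d ≤ n - 2
    rw [if_pos (by omega), if_neg (by omega), if_neg (by omega),
      S_eq_zero χ ψ hψ (n := n - r * P.natDegree) (by omega)]
    simp
  · rw [if_pos (by omega), if_neg (by omega), if_pos (by omega),
      show n - r * P.natDegree = 1 by omega]
    ring
  · rcases Nat.lt_or_ge n (r * P.natDegree) with h' | h'
    · rw [if_neg (by omega), if_neg (by omega), if_neg (by omega)]
      simp
    · have : r * P.natDegree = n := by omega
      rw [if_pos (by omega), if_pos this, if_neg (by omega), this, Nat.sub_self, S_zero]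
      ring

theorem B_eq [IsDomain R] (hψ : ψ ≠ 1) {N : ℕ} :
    ∀ n : ℕ, 1 ≤ n → n ≤ N → B χ ψ N n = -(-(S χ ψ 1)) ^ n := by
  intro n
  induction n with
  | zero => intro h; omega
  | succ m ih =>
    intro _ hm
    rcases Nat.eq_zero_or_pos m with rfl | hpos
    · have := newton' χ ψ hψ (N := N) (n := 1) le_rfl hm
      rw [Nat.sub_self, B_zero, mul_zero, add_zero, Nat.cast_one, one_mul] at this
      rw [← this]
      ring
    · have := newton' χ ψ hψ (N := N) (n := m + 1) (by omega) hm
      rw [S_eq_zero χ ψ hψ (n := m + 1) (by omega), mul_zero, Nat.add_sub_cancel,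
        ih hpos (by omega)] at this
      have h2 : B χ ψ N (m + 1) = -(S χ ψ 1 * -(-S χ ψ 1) ^ m) := by
        rw [eq_neg_iff_add_eq_zero]; exact this.symm
      rw [h2]
      ring

end Groth.Agent.Lib.Seat90.HasseDav
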