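import Mathlib
import Groth.Agent.Lib.Seat90HasseDavB

/-!
# Hasse–Davenport, part C: the field-theoretic input and the final identity
-/

set_option autoImplicit false
set_option linter.unusedSectionVars false

open Polynomial BigOperators IntermediateField

namespace Groth.Agent.Lib.Seat90.HasseDav

variable {F : Type*} [Field F] [Fintype F] {F' : Type*} [Field F'] [Fintype F'] [Algebra F F']
variable {R : Type*} [CommRing R]
variable (χ : MulChar F R) (ψ : AddChar F R)

theorem minpoly_mem_irr (α : F') : minpoly F α ∈ irr F (Module.finrank F F') := by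
  have hint : IsIntegral F α := IsIntegral.of_finite F α
  rw [mem_irr]
  refine ⟨minpoly.monic hint, minpoly.irreducible hint, ?_⟩
  rw [← IntermediateField.adjoin.finrank hint, ← Module.finrank_mul_finrank F F⟮α⟯ F']
  exact Nat.le_mul_of_pos_right _ Module.finrank_pos

theorem finrank_mul_natDegree (α : F') :
    Module.finrank F⟮α⟯ F' * (minpoly F α).natDegree = Module.finrank F F' := by
  have hint : IsIntegral F α := IsIntegral.of_finite F α
  rw [← IntermediateField.adjoin.finrank hint, mul_comm, Module.finrank_mul_finrank F F⟮α⟯ F']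

theorem char_norm_trace (α : F') :
    χ (Algebra.norm F α) * ψ (Algebra.trace F F' α) =
      lam χ ψ (minpoly F α) ^ Module.finrank F⟮α⟯ F' := by
  have hint : IsIntegral F α := IsIntegral.of_finite F α
  have htr := trace_eq_finrank_mul_minpoly_nextCoeff F α
  have hno := Algebra.norm_eq_norm_adjoin F α
  have hgen := Algebra.PowerBasis.norm_gen_eq_coeff_zero_minpoly (adjoin.powerBasis hint)
  simp only [adjoin.powerBasis_gen, adjoin.powerBasis_dim, minpoly_gen] at hgen
  rw [htr, hno, hgen]
  unfold lam
  rw [map_pow, ← nsmul_eq_mul, AddChar.map_nsmul_eq_pow, mul_pow, mul_comm]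

open Classical in
theorem card_minpoly_eq {P : F[X]} (hm : P.Monic) (hi : Irreducible P)
    (hd : P.natDegree ∣ Module.finrank F F') :
    (Finset.univ.filter (fun α : F' => minpoly F α = P)).card = P.natDegree := by
  have : Fact (Irreducible P) := ⟨hi⟩
  have h1 : Module.finrank F (AdjoinRoot P) = P.natDegree :=
    finrank_quotient_span_eq_natDegree
  have h2 := FiniteField.natCard_algHom_of_finrank_dvd (F := F) (K := AdjoinRoot P) (L := F')
    (h1 ▸ hd)
  rw [h1, Nat.card_congr (AdjoinRoot.equiv F' F P hm.ne_zero)] at h2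
  rw [← h2, Nat.card_eq_fintype_card, Fintype.card_subtype]
  refine congrArg Finset.card ?_
  ext α
  simp only [Finset.mem_filter, Finset.mem_univ, true_and, mem_aroots]
  constructor
  · intro h
    exact ⟨hm.ne_zero, h ▸ minpoly.aeval F α⟩
  · rintro ⟨-, h⟩
    exact (minpoly.eq_of_irreducible_of_monic hi h hm).symm

theorem sum_eq_B :
    ∑ α : F', χ (Algebra.norm F α) * ψ (Algebra.trace F F' α) =
      B χ ψ (Module.finrank F F') (Module.finrank F F') := by
  classical
  unfold B
  set s := Module.finrank F F' with hs
  have hterm : ∀ P ∈ irr F s, ∀ r ∈ Finset.Icc 1 s,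
      (if r * P.natDegree = s then (P.natDegree : R) * lam χ ψ P ^ r else 0) =
        ∑ α : F', (if r * P.natDegree = s ∧ minpoly F α = P then lam χ ψ P ^ r else 0) := by
    intro P hP r _
    rw [mem_irr] at hP
    by_cases h : r * P.natDegree = s
    · rw [if_pos h]
      simp only [h, true_and]
      rw [← Finset.sum_filter, Finset.sum_const, nsmul_eq_mul,
        card_minpoly_eq hP.1 hP.2.1 (Dvd.intro_left r h)]
    · rw [if_neg h]
      simp [h]
  rw [Finset.sum_congr rfl fun P hP => Finset.sum_congr rfl (hterm P hP)]
  rw [Finset.sum_congr rfl fun P _ => Finset.sum_comm, Finset.sum_comm]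
  refine Finset.sum_congr rfl fun α _ => ?_
  rw [Finset.sum_eq_single (minpoly F α)]
  · rw [Finset.sum_eq_single (Module.finrank F⟮α⟯ F')]
    · rw [if_pos ⟨finrank_mul_natDegree α, rfl⟩, char_norm_trace]
    · intro r _ hr
      rw [if_neg]
      rintro ⟨h, -⟩
      apply hr
      have h3 : 0 < (minpoly F α).natDegree :=
        (minpoly.irreducible (IsIntegral.of_finite F α)).natDegree_pos
      exact Nat.eq_of_mul_eq_mul_right h3 (h.trans (finrank_mul_natDegree α).symm)
    · intro h
      exfalso
      apply h
      rw [Finset.mem_Icc]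
      refine ⟨Module.finrank_pos, ?_⟩
      calc Module.finrank F⟮α⟯ F'
          ≤ Module.finrank F⟮α⟯ F' * (minpoly F α).natDegree :=
            Nat.le_mul_of_pos_right _
              (minpoly.irreducible (IsIntegral.of_finite F α)).natDegree_pos
        _ = s := finrank_mul_natDegree α
  · intro P _ hP
    apply Finset.sum_eq_zero
    intro r _
    rw [if_neg]
    rintro ⟨-, h⟩
    exact hP h.symm
  · intro h
    exact absurd (minpoly_mem_irr α) h

theorem hasse_davenport [IsDomain R] (hψ : ψ ≠ 1) :
    -(∑ x : F', χ (Algebra.norm F x) * ψ (Algebra.trace F F' x)) =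
      (-(∑ x : F, χ x * ψ x)) ^ Module.finrank F F' := by
  rw [sum_eq_B, B_eq χ ψ hψ (Module.finrank F F') Module.finrank_pos le_rfl, neg_neg, S_one]

end Groth.Agent.Lib.Seat90.HasseDav
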