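import Mathlib.Algebra.Order.Antidiag.FinsuppEquiv
import Mathlib.RingTheory.MvPolynomial.Homogeneous
import Mathlib.Algebra.MonoidAlgebra.Module
import Mathlib.LinearAlgebra.Dimension.Constructions
import Mathlib.LinearAlgebra.FiniteDimensional.Defs

/-!
# Dimension of the space of forms of degree `n` in `r` variables (light imports)
-/

set_option autoImplicit false
universe u

namespace Groth.Agent.Lib.Seat90.Homog

open MvPolynomial Module

variable (k : Type u) [Field k]

theorem homogeneousSubmodule_eq' (r n : ℕ) :
    homogeneousSubmodule (Fin r) k n = AddMonoidAlgebra.supported k k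
      (↑((Finset.univ : Finset (Fin r)).finsuppAntidiag n) : Set (Fin r →₀ ℕ)) := by
  classical
  rw [homogeneousSubmodule_eq_finsupp_supported]
  congr 1
  ext d
  simp [Finsupp.degree_eq_sum]

theorem finite_homog (r n : ℕ) :
    Module.Finite k (homogeneousSubmodule (Fin r) k n) := by
  classical
  rw [homogeneousSubmodule_eq']
  exact Module.Finite.equiv (AddMonoidAlgebra.supportedEquivFinsupp (R := k) (S := k)
    (↑((Finset.univ : Finset (Fin r)).finsuppAntidiag n) : Set (Fin r →₀ ℕ))).symm

theorem finrank_homog (r n : ℕ) :
    Module.finrank k (homogeneousSubmodule (Fin r) k n) = Nat.choose (r + n - 1) n := by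
  classical
  rw [homogeneousSubmodule_eq']
  rw [(AddMonoidAlgebra.supportedEquivFinsupp (R := k) (S := k)
    (↑((Finset.univ : Finset (Fin r)).finsuppAntidiag n) : Set (Fin r →₀ ℕ))).finrank_eq]
  rw [Module.finrank_finsupp_self]
  simp [Finset.card_finsuppAntidiag_nat_eq_choose]

end Groth.Agent.Lib.Seat90.Homog
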