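import Mathlib
import Groth.Prelude
import Groth.Agent.Lib.Seat30GamRes
import Groth.Agent.Lib.Seat90FinLenTriangle
import Groth.Agent.Lib.Helper8Matlis
import Groth.Agent.S11174
import Groth.Agent.S0302
import Groth.Agent.S5170
import Groth.Agent.S1749

/-!
# Local cohomology of a normalized dualizing complex (seat 90)
-/

set_option autoImplicit false
universe u
open CategoryTheory CategoryTheory.Limits
attribute [local instance] HasDerivedCategory.standard

namespace Groth.Agent.Lib.Seat90.LCDual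

open Groth.Agent.Lib.Seat30.GamDer

lemma isZero_colimit {J C : Type*} [Category J] [Category C] [HasZeroMorphisms C] (F : J ⥤ C)
    [HasColimit F] (h : ∀ j, IsZero (F.obj j)) : IsZero (colimit F) := by
  rw [IsZero.iff_id_eq_zero]
  apply colimit.hom_ext
  intro j
  exact (h j).eq_of_src _ _

section General

variable {A : Type u} [CommRing A] [IsNoetherianRing A] (I : Ideal A) [DRing.HasRgammaI I]

/-- maps from an object with torsion cohomology into `RΓ_I K` are the same as maps into `K` -/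
theorem bijective_comp_ε (L K : Dual.D A)
    (hL : ∀ i : ℤ, LocCoh.IsPowerTorsion I (Dual.HD A L i)) :
    Function.Bijective (fun f : L ⟶ (DRing.RgammaI I).obj K => f ≫ (DRing.RgammaIε I).app K) := by
  constructor
  · intro g₁ g₂ h
    exact Groth.Agent.Lib.Seat30.Coreflect.cancel
      (fun L : Dual.D A => ∀ i : ℤ, LocCoh.IsPowerTorsion I (Dual.HD A L i))
      (DRing.RgammaI I) (DRing.RgammaIε I) (fun L hL => isIso_ε_of_torsion I L hL)
      (isIso_map_ε I) hL g₁ g₂ h
  · intro h
    haveI := isIso_ε_of_torsion I L hL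
    refine ⟨inv ((DRing.RgammaIε I).app L) ≫ (DRing.RgammaI I).map h, ?_⟩
    have n : (DRing.RgammaI I).map h ≫ (DRing.RgammaIε I).app K = (DRing.RgammaIε I).app L ≫ h :=
      (DRing.RgammaIε I).naturality h
    change (inv ((DRing.RgammaIε I).app L) ≫ (DRing.RgammaI I).map h) ≫ (DRing.RgammaIε I).app K = h
    rw [Category.assoc, n, IsIso.inv_hom_id_assoc]

omit [IsNoetherianRing A] [DRing.HasRgammaI I] in
/-- a torsion module placed in degree `0` has torsion cohomology -/
theorem isPowerTorsion_HD_inD (N : Type u) [AddCommGroup N] [Module A N]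
    (hN : LocCoh.IsPowerTorsion I N) (i : ℤ) : LocCoh.IsPowerTorsion I (Dual.HD A (Dual.inD A N) i) := by
  by_cases hi : i = 0
  · subst hi
    let e := (Groth.Agent.Lib.Helper1.PC.homologySingleIso (ModuleCat.of A N) 0).toLinearEquiv
    intro x
    obtain ⟨n, hn⟩ := hN (e x)
    refine ⟨n, fun a ha => ?_⟩
    apply e.injective
    rw [map_smul, hn a ha, map_zero]
  · have : Subsingleton (Dual.HD A (Dual.inD A N) i) := ModuleCat.subsingleton_of_isZero
      (Groth.Agent.Lib.Helper1.PC.isZero_homology_single (ModuleCat.of A N) 0 i hi)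
    intro x
    exact ⟨0, fun a _ => Subsingleton.elim _ _⟩

/-- if `RΓ_I ω ≅ L'[0]` then `Hom_A(N, L') ≃ Hom_{D(A)}(N[0], ω)` for torsion modules `N` -/
theorem nonempty_hom_equiv (ω : Dual.D A) (L' : ModuleCat.{u} A)
    (e : (DRing.RgammaI I).obj ω ≅ (DerivedCategory.singleFunctor (ModuleCat.{u} A) 0).obj L')
    (N : Type u) [AddCommGroup N] [Module A N] (hN : LocCoh.IsPowerTorsion I N) :
    Nonempty ((N →ₗ[A] L') ≃ₗ[A] (Dual.inD A N ⟶ ω)) := by
  let l1 : (N →ₗ[A] L') ≃ₗ[A] (ModuleCat.of A N ⟶ L') :=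
    (ModuleCat.homLinearEquiv (S := A) (M := ModuleCat.of A N) (N := L')).symm
  let l2 : (ModuleCat.of A N ⟶ L') ≃ₗ[A]
      (Dual.inD A N ⟶ (DerivedCategory.singleFunctor (ModuleCat.{u} A) 0).obj L') :=
    LinearEquiv.ofBijective
      ((DerivedCategory.singleFunctor (ModuleCat.{u} A) 0).mapLinearMap A)
      ⟨(DerivedCategory.singleFunctor (ModuleCat.{u} A) 0).map_injective,
        (DerivedCategory.singleFunctor (ModuleCat.{u} A) 0).map_surjective⟩
  let l3 : (Dual.inD A N ⟶ (DerivedCategory.singleFunctor (ModuleCat.{u} A) 0).obj L') ≃ₗ[A]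
      (Dual.inD A N ⟶ (DRing.RgammaI I).obj ω) := Linear.homCongr A (Iso.refl _) e.symm
  let l4 : (Dual.inD A N ⟶ (DRing.RgammaI I).obj ω) ≃ₗ[A] (Dual.inD A N ⟶ ω) :=
    LinearEquiv.ofBijective (Linear.rightComp A (Dual.inD A N) ((DRing.RgammaIε I).app ω))
      (bijective_comp_ε I (Dual.inD A N) ω (isPowerTorsion_HD_inD I N hN))
  exact ⟨l1 ≪≫ₗ l2 ≪≫ₗ l3 ≪≫ₗ l4⟩

end General

section Local

variable {A : Type u} [CommRing A] [IsLocalRing A] [IsNoetherianRing A]

/-- `A/m^n` has finite length -/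
theorem isFiniteLength_quot_pow (n : ℕ) :
    IsFiniteLength A (A ⧸ (IsLocalRing.maximalIdeal A) ^ n) := by
  rw [Groth.Agent.Lib.Helper8.Matlis.isFiniteLength_iff_tors]
  intro P hP x
  have hnle : ¬ IsLocalRing.maximalIdeal A ≤ P.asIdeal := fun hle =>
    hP ((IsLocalRing.maximalIdeal.isMaximal A).eq_of_le P.2.ne_top hle).symm
  obtain ⟨s, hs, hsP⟩ := SetLike.not_le_iff_exists.1 hnle
  refine ⟨s ^ n, fun h => hsP (P.2.mem_of_pow_mem n h), ?_⟩
  obtain ⟨y, rfl⟩ := Ideal.Quotient.mk_surjective x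
  have : s ^ n * y ∈ (IsLocalRing.maximalIdeal A) ^ n :=
    Ideal.mul_mem_right _ _ (Ideal.pow_mem_pow hs n)
  change Ideal.Quotient.mk _ (s ^ n * y) = 0
  exact Ideal.Quotient.eq_zero_iff_mem.2 this

omit [IsNoetherianRing A] in
/-- finite length modules are `m`-power torsion -/
theorem isPowerTorsion_of_isFiniteLength (N : Type u) [AddCommGroup N] [Module A N]
    (hN : IsFiniteLength A N) : LocCoh.IsPowerTorsion (IsLocalRing.maximalIdeal A) N := by
  obtain ⟨k, hk⟩ := Groth.Agent.Lib.Helper8.Matlis.exists_pow_smul_eq_zero_of_isFiniteLength N hN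
  exact fun x => ⟨k, fun a ha => hk a ha x⟩

/-- **local cohomology of a normalized dualizing complex**: `H^0_m(ω) ≅ E` and `H^i_m(ω) = 0` otherwise -/
theorem main (ω : Dual.D A) (hω : Dual.IsDualizing A ω) (hn : Dual.IsNormalized A ω)
    (E : Type u) [AddCommGroup E] [Module A E] (f : IsLocalRing.ResidueField A →ₗ[A] E)
    (hf : InjHull.IsInjectiveHull f) :
    Nonempty (Dual2.HDI A (IsLocalRing.maximalIdeal A) ω 0 ≃ₗ[A] E) ∧
      ∀ i : ℤ, i ≠ 0 → Subsingleton (Dual2.HDI A (IsLocalRing.maximalIdeal A) ω i) := by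
  haveI := Groth.Agent.Lib.Seat30.GamRes.hasRgammaI (IsLocalRing.maximalIdeal A)
  -- vanishing
  have hvan : ∀ i : ℤ, i ≠ 0 → Subsingleton (Dual2.HDI A (IsLocalRing.maximalIdeal A) ω i) := by
    intro i hi
    refine ModuleCat.subsingleton_of_isZero (isZero_colimit _ (fun j => ?_))
    have h1 := (Groth.Agent.S1749.result A ω hω hn E f hf
      (A ⧸ (IsLocalRing.maximalIdeal A) ^ (j.unop.unop)) (isFiniteLength_quot_pow _)).1 i hi
    exact @ModuleCat.isZero_of_subsingleton _ _ _ h1
  refine ⟨?_, hvan⟩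
  -- `RΓ_m ω` is concentrated in degree 0
  have hG : ∀ i : ℤ, i ≠ 0 → IsZero ((DerivedCategory.homologyFunctor (ModuleCat.{u} A) i).obj
      ((DRing.RgammaI (IsLocalRing.maximalIdeal A)).obj ω)) := by
    intro i hi
    obtain ⟨l⟩ := Groth.Agent.Lib.Seat30.RGammaColim.main (IsLocalRing.maximalIdeal A) ω i
    have := hvan i hi
    have : Subsingleton (Dual.HD A ((DRing.RgammaI (IsLocalRing.maximalIdeal A)).obj ω) i) :=
      l.toEquiv.subsingleton
    exact ModuleCat.isZero_of_subsingleton _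
  obtain ⟨e⟩ := Groth.Agent.Lib.Seat90.FinLenTriangle.nonempty_iso_single_of_homology
    ((DRing.RgammaI (IsLocalRing.maximalIdeal A)).obj ω) _ hG (Iso.refl _)
  -- the module `L'`
  obtain ⟨L', hL'⟩ : ∃ L' : ModuleCat.{u} A, L' = (DerivedCategory.homologyFunctor (ModuleCat.{u} A) 0).obj
      ((DRing.RgammaI (IsLocalRing.maximalIdeal A)).obj ω) := ⟨_, rfl⟩
  rw [← hL'] at e
  have hpt : LocCoh.IsPowerTorsion (IsLocalRing.maximalIdeal A) L' := by
    rw [hL']
    exact isPowerTorsion_RgammaI (IsLocalRing.maximalIdeal A) ω 0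
  -- lengths
  have hlen : ∀ (N : Type u) [AddCommGroup N] [Module A N], IsFiniteLength A N →
      Module.length A (N →ₗ[A] L') = Module.length A N := by
    intro N _ _ hN
    obtain ⟨l1⟩ := nonempty_hom_equiv (IsLocalRing.maximalIdeal A) ω L' e N
      (isPowerTorsion_of_isFiniteLength N hN)
    obtain ⟨l2⟩ := (Groth.Agent.S1749.result A ω hω hn E f hf N hN).2
    rw [(l1 ≪≫ₗ l2).length_eq]
    exact Groth.Agent.S5170.result A E f hf N hN
  -- the socle
  have hk : IsFiniteLength A (IsLocalRing.ResidueField A) := by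
    have : IsSimpleModule A (IsLocalRing.ResidueField A) :=
      (isSimpleModule_iff_isCoatom (R := A) (m := IsLocalRing.maximalIdeal A)).2
        (Ideal.isMaximal_def.1 (IsLocalRing.maximalIdeal.isMaximal A))
    exact (isFiniteLength_iff_isNoetherian_isArtinian).2 ⟨inferInstance, inferInstance⟩
  have hb : Nonempty ((IsLocalRing.ResidueField A →ₗ[A] L') ≃ₗ[A] IsLocalRing.ResidueField A) := by
    have h1 := hlen (IsLocalRing.ResidueField A) hk
    have : IsSimpleModule A (IsLocalRing.ResidueField A) :=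
      (isSimpleModule_iff_isCoatom (R := A) (m := IsLocalRing.maximalIdeal A)).2
        (Ideal.isMaximal_def.1 (IsLocalRing.maximalIdeal.isMaximal A))
    rw [Module.length_eq_one A (IsLocalRing.ResidueField A)] at h1
    have : IsSimpleModule A (IsLocalRing.ResidueField A →ₗ[A] L') := Module.length_eq_one_iff.1 h1
    exact Groth.Agent.Lib.Seat8.FinLenDual.nonempty_linearEquiv_residueField _
  -- the criterion
  obtain ⟨f', hf'⟩ := Groth.Agent.S11174.result A L' hpt hb
    (fun n => (IsLocalRing.maximalIdeal A) ^ n)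
    (fun a b hab => Ideal.pow_le_pow_right hab) (fun n => ⟨n, le_rfl⟩) (fun N => ⟨N, le_rfl⟩)
    (fun n => (hlen _ (isFiniteLength_quot_pow n)).symm)
  obtain ⟨e', -⟩ := Groth.Agent.S0302.result A (IsLocalRing.ResidueField A) L' E f' hf' f hf
  obtain ⟨l⟩ := Groth.Agent.Lib.Seat30.RGammaColim.main (IsLocalRing.maximalIdeal A) ω 0
  subst hL'
  exact ⟨l.symm ≪≫ₗ e'⟩

end Local

end Groth.Agent.Lib.Seat90.LCDual
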