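import Mathlib

/-!
# The Jacobian homotopy on the naive cotangent complex of a finite presentation (Seat 90)

For generators `G : Algebra.Generators A B ι` (finite `ι`) with kernel generated by `f : κ → G.Ring`,
an injection `u : κ → ι` and `M = (∂f_j/∂x_{u i})` (a `κ × κ` matrix over `B`), the `B`-linear map
`s : ⊕ B dx_i → I/I²`, `s(x) = ∑_j (∑_k adj(M)_{jk} x_{u k}) • [f_j]` satisfies `s ∘ d = det M` and,
when `u` is surjective, `d ∘ s = det M`.
-/

set_option autoImplicit false
universe u

namespace Groth.Agent.Lib.Seat90.NLJac

open Algebra MvPolynomial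

variable {A B : Type u} [CommRing A] [CommRing B] [Algebra A B]
  {ι : Type*} (G : Generators A B ι)
  {κ : Type} [Fintype κ] [DecidableEq κ] (f : κ → G.Ring)
  (hker : Ideal.span (Set.range f) = G.toExtension.ker) (u : κ → ι)

/-- the generators of the kernel as elements of it. -/
def fk (j : κ) : G.toExtension.ker := ⟨f j, hker.le (Ideal.subset_span ⟨j, rfl⟩)⟩

/-- the Jacobian matrix (rows: variables `u i`; columns: equations). -/
noncomputable def jac : Matrix κ κ B := Matrix.of fun i j => aeval G.val (pderiv (u i) (f j))

/-- the partial contracting homotopy. -/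
noncomputable def sMap : G.toExtension.CotangentSpace →ₗ[B] G.toExtension.Cotangent :=
  ∑ j, ∑ k, ((jac G f u).adjugate j k) •
    (LinearMap.toSpanSingleton B _ (Extension.Cotangent.mk (fk G f hker j))).comp
      (G.cotangentSpaceBasis.coord (u k))

lemma sMap_apply (x : G.toExtension.CotangentSpace) :
    sMap G f hker u x = ∑ j, ∑ k, ((jac G f u).adjugate j k * G.cotangentSpaceBasis.repr x (u k)) •
      Extension.Cotangent.mk (fk G f hker j) := by
  simp only [sMap, LinearMap.sum_apply, LinearMap.smul_apply, LinearMap.comp_apply,
    LinearMap.toSpanSingleton_apply, Module.Basis.coord_apply, smul_smul]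

lemma repr_d_mk (y : G.toExtension.ker) (i : ι) :
    G.cotangentSpaceBasis.repr (G.toExtension.cotangentComplex (Extension.Cotangent.mk y)) i =
      aeval G.val (pderiv i y.1) := by
  rw [Extension.cotangentComplex_mk]
  exact G.cotangentSpaceBasis_repr_one_tmul y.1 i

theorem sMap_d (c : G.toExtension.Cotangent) :
    sMap G f hker u (G.toExtension.cotangentComplex c) = (jac G f u).det • c := by
  have hspan := Extension.Cotangent.span_eq_top_of_span_eq_ker (P := G.toExtension) f hker
  have key : (sMap G f hker u).comp G.toExtension.cotangentComplex =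
      (jac G f u).det • LinearMap.id := by
    refine LinearMap.ext_on hspan ?_
    rintro _ ⟨l, rfl⟩
    change sMap G f hker u (G.toExtension.cotangentComplex (Extension.Cotangent.mk (fk G f hker l)))
      = (jac G f u).det • Extension.Cotangent.mk (fk G f hker l)
    rw [sMap_apply]
    have h1 : ∀ j, ∑ k, ((jac G f u).adjugate j k * G.cotangentSpaceBasis.repr
        (G.toExtension.cotangentComplex (Extension.Cotangent.mk (fk G f hker l))) (u k)) •
        Extension.Cotangent.mk (fk G f hker j) =
        ((jac G f u).adjugate * jac G f u) j l • Extension.Cotangent.mk (fk G f hker j) := by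
      intro j
      rw [← Finset.sum_smul, Matrix.mul_apply]
      congr 1
      refine Finset.sum_congr rfl fun k _ => ?_
      rw [repr_d_mk]
      rfl
    simp only [h1, Matrix.adjugate_mul, Matrix.smul_apply, Matrix.one_apply, smul_eq_mul,
      mul_ite, mul_one, mul_zero, ite_smul, zero_smul, Finset.sum_ite_eq', Finset.mem_univ,
      if_true]
  exact LinearMap.congr_fun key c

theorem d_sMap (hu : Function.Surjective u) (x : G.toExtension.CotangentSpace) :
    G.toExtension.cotangentComplex (sMap G f hker u x) = (jac G f u).det • x := by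
  apply G.cotangentSpaceBasis.repr.injective
  ext i
  obtain ⟨k', rfl⟩ := hu i
  rw [sMap_apply, map_sum, map_sum, Finsupp.coe_finsetSum, Finset.sum_apply]
  simp only [map_sum, map_smul, Finsupp.coe_finsetSum, Finset.sum_apply, Finsupp.coe_smul,
    Pi.smul_apply, smul_eq_mul, repr_d_mk]
  have h1 : ∀ j, ∑ k, (jac G f u).adjugate j k * G.cotangentSpaceBasis.repr x (u k) *
      aeval G.val (pderiv (u k') (fk G f hker j).1) =
      ∑ k, (jac G f u) k' j * (jac G f u).adjugate j k * G.cotangentSpaceBasis.repr x (u k) := by
    intro j
    refine Finset.sum_congr rfl fun k _ => ?_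
    change _ * _ * aeval G.val (pderiv (u k') (f j)) = _
    rw [jac, Matrix.of_apply]
    ring
  simp only [h1]
  rw [Finset.sum_comm]
  have h2 : ∀ k, ∑ j, (jac G f u) k' j * (jac G f u).adjugate j k *
      G.cotangentSpaceBasis.repr x (u k) =
      ((jac G f u) * (jac G f u).adjugate) k' k * G.cotangentSpaceBasis.repr x (u k) := by
    intro k
    rw [Matrix.mul_apply, Finset.sum_mul]
  simp only [h2, Matrix.mul_adjugate, Matrix.smul_apply, Matrix.one_apply, smul_eq_mul,
    mul_ite, mul_one, mul_zero, ite_mul, zero_mul, Finset.sum_ite_eq, Finset.mem_univ, if_true]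

end Groth.Agent.Lib.Seat90.NLJac
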