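import Mathlib.RingTheory.Ideal.Operations
import Mathlib.Algebra.Algebra.Subalgebra.Basic

/-!
# A nilpotent Nakayama lemma for subrings (seat 90)

If `S` is a subring of `C`, `𝔧 = span G` with `G ⊆ S`, `𝔧^N = ⊥` and `S + 𝔧 = C`, then `S = C`.
-/

set_option autoImplicit false

namespace Groth.Agent.Lib.Seat90.NilNak

variable {C : Type*} [CommRing C]

theorem step (S : Subring C) (G : Set C) (hGS : G ⊆ S)
    (h1 : ∀ c : C, ∃ r ∈ S, c - r ∈ Ideal.span G) (k : ℕ) :
    ∀ y ∈ Ideal.span G ^ k, ∃ r ∈ S, y - r ∈ Ideal.span G ^ (k + 1) := by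
  induction k with
  | zero =>
    intro y _
    obtain ⟨r, hr, h⟩ := h1 y
    exact ⟨r, hr, by simpa using h⟩
  | succ k ih =>
    intro y hy
    rw [pow_succ'] at hy
    -- P(u) := ∀ v ∈ 𝔧^k, ∃ r ∈ S, u v - r ∈ 𝔧^{k+2}
    have hP : ∀ u ∈ Ideal.span G, ∀ v ∈ Ideal.span G ^ k,
        ∃ r ∈ S, u * v - r ∈ Ideal.span G ^ (k + 1 + 1) := by
      intro u hu
      induction hu using Submodule.span_induction with
      | mem g hg =>
        intro v hv
        obtain ⟨r, hr, h⟩ := ih v hv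
        refine ⟨g * r, S.mul_mem (hGS hg) hr, ?_⟩
        have : g * v - g * r = g * (v - r) := by ring
        rw [this, pow_succ' _ (k + 1)]
        exact Ideal.mul_mem_mul (Ideal.subset_span hg) h
      | zero =>
        intro v _
        exact ⟨0, S.zero_mem, by simp⟩
      | add a b _ _ ha hb =>
        intro v hv
        obtain ⟨r₁, hr₁, h₁⟩ := ha v hv
        obtain ⟨r₂, hr₂, h₂⟩ := hb v hv
        refine ⟨r₁ + r₂, S.add_mem hr₁ hr₂, ?_⟩
        have : (a + b) * v - (r₁ + r₂) = (a * v - r₁) + (b * v - r₂) := by ring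
        rw [this]
        exact Ideal.add_mem _ h₁ h₂
      | smul a b _ hb =>
        intro v hv
        obtain ⟨r, hr, h⟩ := hb (a * v) (Ideal.mul_mem_left _ _ hv)
        refine ⟨r, hr, ?_⟩
        have : a • b * v - r = b * (a * v) - r := by rw [smul_eq_mul]; ring
        rw [this]
        exact h
    refine Submodule.mul_induction_on hy ?_ ?_
    · intro u hu v hv
      exact hP u hu v hv
    · intro a b ha hb
      obtain ⟨r₁, hr₁, h₁⟩ := ha
      obtain ⟨r₂, hr₂, h₂⟩ := hb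
      refine ⟨r₁ + r₂, S.add_mem hr₁ hr₂, ?_⟩
      have : a + b - (r₁ + r₂) = (a - r₁) + (b - r₂) := by ring
      rw [this]
      exact Ideal.add_mem _ h₁ h₂

theorem approx (S : Subring C) (G : Set C) (hGS : G ⊆ S)
    (h1 : ∀ c : C, ∃ r ∈ S, c - r ∈ Ideal.span G) (k : ℕ) (c : C) :
    ∃ r ∈ S, c - r ∈ Ideal.span G ^ k := by
  induction k with
  | zero => exact ⟨0, S.zero_mem, by simp⟩
  | succ k ih =>
    obtain ⟨r, hr, h⟩ := ih
    obtain ⟨r', hr', h'⟩ := step S G hGS h1 k _ h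
    refine ⟨r + r', S.add_mem hr hr', ?_⟩
    have : c - (r + r') = c - r - r' := by ring
    rw [this]
    exact h'

/-- Nilpotent Nakayama for subrings. -/
theorem eq_top (S : Subring C) (G : Set C) (hGS : G ⊆ S)
    (h1 : ∀ c : C, ∃ r ∈ S, c - r ∈ Ideal.span G) (N : ℕ) (hN : Ideal.span G ^ N = ⊥) (c : C) :
    c ∈ S := by
  obtain ⟨r, hr, h⟩ := approx S G hGS h1 N c
  rw [hN, Ideal.mem_bot, sub_eq_zero] at h
  rw [h]
  exact hr

end Groth.Agent.Lib.Seat90.NilNak
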