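import Mathlib
import Groth.Prelude
import Groth.Agent.Lib.Seat90NodeCompl3

/-!
# The isomorphism `Â[[x,y]]/(xy - α) ≃ B̂` in the flat case
-/

set_option autoImplicit false
set_option linter.unusedSectionVars false

universe u

open MvPowerSeries IsLocalRing

namespace Groth.Agent.Lib.Seat90.NodeCompl

variable (A B : Type u) [CommRing A] [IsLocalRing A] [IsNoetherianRing A]
  [CommRing B] [IsLocalRing B] [IsNoetherianRing B] [Algebra A B] [IsLocalHom (algebraMap A B)]

section Pi

variable {B}
variable (J : Ideal B)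

/-- completion of the quotient map -/
noncomputable def quotCompl :
    AdicCompletion (maximalIdeal B) B →+*
      AdicCompletion ((maximalIdeal B).map (Ideal.Quotient.mk J)) (B ⧸ J) :=
  FSch.complMap (maximalIdeal B) ((maximalIdeal B).map (Ideal.Quotient.mk J))
    (Ideal.Quotient.mk J) le_rfl

theorem quotCompl_algebraMap (b : B) :
    quotCompl J (algebraMap B (AdicCompletion (maximalIdeal B) B) b) =
      algebraMap (B ⧸ J) (AdicCompletion ((maximalIdeal B).map (Ideal.Quotient.mk J)) (B ⧸ J))
        (Ideal.Quotient.mk J b) := by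
  apply AdicCompletion.ext_evalₐ
  intro n
  unfold quotCompl
  rw [Groth.Agent.Lib.Helper19.evalₐ_complMap, AdicCompletion.algebraMap_apply,
    AdicCompletion.evalₐ_of, AdicCompletion.algebraMap_apply, AdicCompletion.evalₐ_of,
    Algebra.algebraMap_self, RingHom.id_apply, Algebra.algebraMap_self, RingHom.id_apply,
    Ideal.quotientMap_mk]

theorem quotCompl_surjective : Function.Surjective (quotCompl J) := by
  have hfg : ((maximalIdeal B).map (Ideal.Quotient.mk J)).FG := IsNoetherian.noetherian _
  have hcomp : (quotCompl J).comp (algebraMap B (AdicCompletion (maximalIdeal B) B)) =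
      (algebraMap (B ⧸ J) (AdicCompletion ((maximalIdeal B).map (Ideal.Quotient.mk J)) (B ⧸ J))).comp
        (Ideal.Quotient.mk J) := RingHom.ext fun b => quotCompl_algebraMap J b
  have hmap : (maximalIdeal (AdicCompletion (maximalIdeal B) B)).map (quotCompl J) =
      ((maximalIdeal B).map (Ideal.Quotient.mk J)).map
        (algebraMap (B ⧸ J) (AdicCompletion ((maximalIdeal B).map (Ideal.Quotient.mk J)) (B ⧸ J))) := by
    rw [AdicCompletion.maximalIdeal_eq_map, Ideal.map_map, hcomp, ← Ideal.map_map]
  haveI : IsHausdorff ((maximalIdeal (AdicCompletion (maximalIdeal B) B)).map (quotCompl J))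
      (AdicCompletion ((maximalIdeal B).map (Ideal.Quotient.mk J)) (B ⧸ J)) := by
    rw [hmap]
    exact (AdicCompletion.isAdicComplete_self _ hfg).toIsHausdorff
  apply surjective_of_mk_map_comp_surjective (quotCompl J)
    (I := maximalIdeal (AdicCompletion (maximalIdeal B) B))
  intro y
  obtain ⟨y, rfl⟩ := Ideal.Quotient.mk_surjective y
  obtain ⟨f, hf⟩ := Ideal.Quotient.mk_surjective
    (AdicCompletion.evalOneₐ ((maximalIdeal B).map (Ideal.Quotient.mk J)) y)
  obtain ⟨b, rfl⟩ := Ideal.Quotient.mk_surjective f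
  refine ⟨algebraMap B (AdicCompletion (maximalIdeal B) B) b, ?_⟩
  rw [RingHom.comp_apply, Ideal.Quotient.eq, hmap, quotCompl_algebraMap,
    ← AdicCompletion.ker_evalOneₐ_eq_map _ hfg, RingHom.mem_ker]
  change AdicCompletion.evalOneₐ _ (_ - y) = 0
  rw [map_sub, ← hf, AdicCompletion.algebraMap_apply, AdicCompletion.evalOneₐ_of,
    Algebra.algebraMap_self, RingHom.id_apply, sub_self]

end Pi

section Inj

/-- The coefficientwise reduction `Â[[x,y]]/(xy - α) → k[[x,y]]/(xy)` and its kernel. -/
theorem exists_sigma (α : AdicCompletion (maximalIdeal A) A)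
    (hα : α ∈ (maximalIdeal A).map (algebraMap A (AdicCompletion (maximalIdeal A) A))) :
    ∃ σ : (MvPowerSeries (Fin 2) (AdicCompletion (maximalIdeal A) A) ⧸ Ideal.span
          {(X 0 * X 1 - C α : MvPowerSeries (Fin 2) (AdicCompletion (maximalIdeal A) A))}) →+*
        (MvPowerSeries (Fin 2) (ResidueField A) ⧸
          Ideal.span {(X 0 * X 1 : MvPowerSeries (Fin 2) (ResidueField A))}),
      Function.Surjective σ ∧
        RingHom.ker σ ≤ (maximalIdeal A).map (algebraMap A _) := by
  have hfg : (maximalIdeal A).FG := IsNoetherian.noetherian _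
  let r : AdicCompletion (maximalIdeal A) A →+* ResidueField A :=
    (AdicCompletion.evalOneₐ (maximalIdeal A)).toRingHom
  have hr_surj : Function.Surjective r := AdicCompletion.evalOneₐ_surjective _
  have hr_ker : RingHom.ker r = (maximalIdeal A).map
      (algebraMap A (AdicCompletion (maximalIdeal A) A)) :=
    AdicCompletion.ker_evalOneₐ_eq_map _ hfg
  let σ₀ : MvPowerSeries (Fin 2) (AdicCompletion (maximalIdeal A) A) →+*
      MvPowerSeries (Fin 2) (ResidueField A) := MvPowerSeries.map r
  have hσ₀surj : Function.Surjective σ₀ := by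
    intro g
    choose c hc using hr_surj
    refine ⟨fun β => c (coeff β g), ?_⟩
    ext β
    rw [coeff_map]
    exact hc _
  have hrα : r α = 0 := by
    rw [← RingHom.mem_ker, hr_ker]; exact hα
  have hσ₀gen : σ₀ (X 0 * X 1 - C α) = X 0 * X 1 := by
    rw [map_sub, map_mul, MvPowerSeries.map_X, MvPowerSeries.map_X, MvPowerSeries.map_C, hrα,
      map_zero, sub_zero]
  have hkill : ∀ t ∈ Ideal.span {(X 0 * X 1 - C α :
      MvPowerSeries (Fin 2) (AdicCompletion (maximalIdeal A) A))},
      ((Ideal.Quotient.mk (Ideal.span {(X 0 * X 1 :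
        MvPowerSeries (Fin 2) (ResidueField A))})).comp σ₀) t = 0 := by
    intro t ht
    rw [Ideal.mem_span_singleton] at ht
    obtain ⟨c, rfl⟩ := ht
    rw [RingHom.comp_apply, map_mul, hσ₀gen, Ideal.Quotient.eq_zero_iff_mem]
    exact Ideal.mul_mem_right _ _ (Ideal.subset_span rfl)
  refine ⟨Ideal.Quotient.lift _ _ hkill, ?_, ?_⟩
  · apply Ideal.Quotient.lift_surjective_of_surjective
    exact Ideal.Quotient.mk_surjective.comp hσ₀surj
  · intro s hs
    obtain ⟨t, rfl⟩ := Ideal.Quotient.mk_surjective s
    rw [RingHom.mem_ker, Ideal.Quotient.lift_mk, RingHom.comp_apply,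
      Ideal.Quotient.eq_zero_iff_mem, Ideal.mem_span_singleton] at hs
    obtain ⟨g, hg⟩ := hs
    obtain ⟨g', rfl⟩ := hσ₀surj g
    have h1 : σ₀ (t - (X 0 * X 1 - C α) * g') = 0 := by
      rw [map_sub, map_mul, hσ₀gen, hg, sub_self]
    have h2 : t - (X 0 * X 1 - C α) * g' ∈
        ((maximalIdeal A).map (algebraMap A (AdicCompletion (maximalIdeal A) A))).map
          (C : _ →+* MvPowerSeries (Fin 2) (AdicCompletion (maximalIdeal A) A)) := by
      apply mem_map_C_of_coeff_mem _ (hfg.map _)
      intro β
      rw [← hr_ker, RingHom.mem_ker]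
      have := congrArg (coeff β) h1
      rwa [coeff_map, map_zero] at this
    have h3 : Ideal.Quotient.mk (Ideal.span {(X 0 * X 1 - C α :
        MvPowerSeries (Fin 2) (AdicCompletion (maximalIdeal A) A))}) t =
        Ideal.Quotient.mk _ (t - (X 0 * X 1 - C α) * g') := by
      rw [Ideal.Quotient.eq]
      have : t - (t - (X 0 * X 1 - C α) * g') = (X 0 * X 1 - C α) * g' := by ring
      rw [this]
      exact Ideal.mul_mem_right _ _ (Ideal.subset_span rfl)
    rw [h3]
    have h4 := Ideal.mem_map_of_mem (Ideal.Quotient.mk (Ideal.span {(X 0 * X 1 - C α :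
        MvPowerSeries (Fin 2) (AdicCompletion (maximalIdeal A) A))})) h2
    rw [Ideal.map_map, Ideal.map_map] at h4
    convert h4 using 2
    refine RingHom.ext fun a => ?_
    rw [RingHom.comp_apply, RingHom.comp_apply, ← MvPowerSeries.algebraMap_apply]
    rfl

end Inj

end Groth.Agent.Lib.Seat90.NodeCompl
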