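import Mathlib
import Groth.Prelude
import Groth.Agent.Lib.Seat90NodeCompl4

/-!
# The isomorphism `Â[[x,y]]/(xy - α) ≃ B̂` in the flat case: main theorem
-/

set_option autoImplicit false
set_option linter.unusedSectionVars false

universe u

open MvPowerSeries IsLocalRing

namespace Groth.Agent.Lib.Seat90.NodeCompl

variable (A B : Type u) [CommRing A] [IsLocalRing A] [IsNoetherianRing A]
  [CommRing B] [IsLocalRing B] [IsNoetherianRing B] [Algebra A B] [IsLocalHom (algebraMap A B)]

theorem injective_of_flat [Module.Flat A B]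
    (α : AdicCompletion (maximalIdeal A) A)
    (hα : α ∈ (maximalIdeal A).map (algebraMap A (AdicCompletion (maximalIdeal A) A)))
    (ψ : (MvPowerSeries (Fin 2) (AdicCompletion (maximalIdeal A) A) ⧸ Ideal.span
          {(X 0 * X 1 - C α : MvPowerSeries (Fin 2) (AdicCompletion (maximalIdeal A) A))}) →ₐ[A]
        AdicCompletion (maximalIdeal B) B)
    (hψ : Function.Surjective ψ)
    (e : AdicCompletion ((maximalIdeal B).map (Ideal.Quotient.mk
          ((maximalIdeal A).map (algebraMap A B))))
          (B ⧸ (maximalIdeal A).map (algebraMap A B)) ≃+*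
        (MvPowerSeries (Fin 2) (ResidueField A) ⧸
          Ideal.span {(X 0 * X 1 : MvPowerSeries (Fin 2) (ResidueField A))})) :
    Function.Injective ψ := by
  haveI : IsNoetherianRing (AdicCompletion (maximalIdeal A) A) :=
    Groth.Agent.Lib.Helper19.isNoetherianRing_adicCompletion _
  haveI : IsNoetherianRing (AdicCompletion (maximalIdeal B) B) :=
    Groth.Agent.Lib.Helper19.isNoetherianRing_adicCompletion _
  -- notation
  set J := (maximalIdeal A).map (algebraMap A B) with hJ
  set S := (MvPowerSeries (Fin 2) (AdicCompletion (maximalIdeal A) A) ⧸ Ideal.span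
          {(X 0 * X 1 - C α : MvPowerSeries (Fin 2) (AdicCompletion (maximalIdeal A) A))}) with hS
  -- the reduction σ
  obtain ⟨σ, hσsurj, hσker⟩ := exists_sigma A α hα
  -- θ
  let θ : S →+* (MvPowerSeries (Fin 2) (ResidueField A) ⧸
          Ideal.span {(X 0 * X 1 : MvPowerSeries (Fin 2) (ResidueField A))}) :=
    e.toRingHom.comp ((quotCompl J).comp ψ.toRingHom)
  have hθsurj : Function.Surjective θ :=
    e.surjective.comp ((quotCompl_surjective J).comp hψ)
  have hθM : (maximalIdeal A).map (algebraMap A S) ≤ RingHom.ker θ := by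
    rw [Ideal.map_le_iff_le_comap]
    intro a ha
    rw [Ideal.mem_comap, RingHom.mem_ker]
    change e (quotCompl J (ψ (algebraMap A S a))) = 0
    rw [ψ.commutes, algebraMap_eq_comp, RingHom.comp_apply, quotCompl_algebraMap,
      Ideal.Quotient.eq_zero_iff_mem.mpr (Ideal.mem_map_of_mem _ ha), map_zero, map_zero]
  have hker1 : RingHom.ker θ ≤ RingHom.ker σ :=
    ker_le_of_surjective σ θ hσsurj hθsurj (hσker.trans hθM)
  have hψθ : RingHom.ker ψ.toRingHom ≤ RingHom.ker θ := by
    intro s hs
    rw [RingHom.mem_ker] at hs ⊢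
    change e (quotCompl J (ψ.toRingHom s)) = 0
    rw [hs, map_zero, map_zero]
  have hKM : RingHom.ker ψ.toRingHom ≤ (maximalIdeal A).map (algebraMap A S) :=
    hψθ.trans (hker1.trans hσker)
  -- flatness of B̂ over A
  haveI : IsScalarTower A B (AdicCompletion (maximalIdeal B) B) :=
    IsScalarTower.of_algebraMap_eq fun a => by
      rw [algebraMap_eq_comp]; rfl
  haveI : Module.Flat A (AdicCompletion (maximalIdeal B) B) :=
    Module.Flat.trans A B (AdicCompletion (maximalIdeal B) B)
  -- generators of the maximal ideal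
  obtain ⟨r, g, hg⟩ := Submodule.fg_iff_exists_fin_generating_family.1
    (IsNoetherian.noetherian (maximalIdeal A))
  have hMspan : (maximalIdeal A).map (algebraMap A S) =
      Ideal.span (Set.range fun i => algebraMap A S (g i)) := by
    have h1 : (maximalIdeal A).map (algebraMap A S) =
        (Ideal.span (Set.range g)).map (algebraMap A S) :=
      congrArg (Ideal.map (algebraMap A S)) hg.symm
    rw [h1, Ideal.map_span, ← Set.range_comp]
    rfl
  -- locality
  haveI : Nontrivial S := hψ.nontrivial
  haveI : IsLocalRing S :=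
    IsLocalRing.of_surjective' (Ideal.Quotient.mk _) Ideal.Quotient.mk_surjective
  have hMmax : (maximalIdeal A).map (algebraMap A S) ≤ maximalIdeal S := by
    rw [Ideal.map_le_iff_le_comap]
    intro a ha
    rw [Ideal.mem_comap, mem_maximalIdeal, mem_nonunits_iff]
    intro hunit
    have h1 : IsUnit (ψ (algebraMap A S a)) := hunit.map ψ
    rw [ψ.commutes] at h1
    have h2 : algebraMap A (AdicCompletion (maximalIdeal B) B) a ∈
        maximalIdeal (AdicCompletion (maximalIdeal B) B) :=
      map_algebraMap_le A B (Ideal.mem_map_of_mem _ ha)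
    exact h2 h1
  -- Nakayama
  have hKle : RingHom.ker ψ.toRingHom ≤
      (maximalIdeal A).map (algebraMap A S) • RingHom.ker ψ.toRingHom := by
    intro s hs
    have hsM := hKM hs
    rw [hMspan] at hsM
    obtain ⟨c, hc⟩ := Ideal.mem_span_range_iff_exists_fun.mp hsM
    have hsum : s = ∑ i, g i • c i := by
      rw [← hc]
      refine Finset.sum_congr rfl fun i _ => ?_
      exact (mul_comm (c i) _).trans (Algebra.smul_def (g i) (c i)).symm
    have hψs : ψ.toLinearMap (∑ i, g i • c i) = 0 := by
      rw [← hsum]; exact hs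
    obtain ⟨k, hk, hkeq⟩ := exists_ker_coeffs_of_flat ψ.toLinearMap hψ g c hψs
    rw [hsum, hkeq]
    refine Submodule.sum_mem _ fun i _ => ?_
    rw [Algebra.smul_def]
    exact Submodule.smul_mem_smul (Ideal.mem_map_of_mem _ (hg ▸ Submodule.subset_span ⟨i, rfl⟩))
      (hk i)
  have hbot : RingHom.ker ψ.toRingHom = ⊥ :=
    Submodule.eq_bot_of_le_smul_of_le_jacobson_bot _ _ (IsNoetherian.noetherian _) hKle
      (hMmax.trans (IsLocalRing.maximalIdeal_le_jacobson _))
  exact (RingHom.injective_iff_ker_eq_bot ψ.toRingHom).mpr hbot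

end Groth.Agent.Lib.Seat90.NodeCompl
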