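import Mathlib
import Groth.Prelude
import Groth.Agent.Lib.Seat90NodeCompl5
import Groth.Agent.Lib.Helper19FSAdicLocal

/-!
# Bridging lemmas for completions of local rings (seat 90)

* `complEquiv`: functoriality of adic completion of rings for ring isomorphisms;
* `ker_quotCompl`: for a Noetherian local ring `B` and an ideal `J`, the kernel of
  `B̂ → (B/J)^` is `J B̂`;
* `isLocalHom_algebraMap_compl`: `B → B̂` is a local homomorphism.
-/

set_option autoImplicit false
set_option linter.unusedSectionVars false

universe u

open MvPowerSeries IsLocalRing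

namespace Groth.Agent.Lib.Seat90.NodeBridge

open Groth.Agent.Lib.Seat90.NodeCompl

section ComplEquiv

variable {R S : Type u} [CommRing R] [CommRing S]

theorem map_symm_le (I : Ideal R) (J : Ideal S) (e : R ≃+* S)
    (h : I.map (e : R →+* S) = J) : J.map (e.symm : S →+* R) ≤ I := by
  rw [← h, Ideal.map_map]
  have : (e.symm : S →+* R).comp (e : R →+* S) = RingHom.id R := by
    ext r
    simp
  rw [this, Ideal.map_id]

/-- Adic completion of rings is functorial for ring isomorphisms matching the ideals. -/
noncomputable def complEquiv (I : Ideal R) (J : Ideal S) (e : R ≃+* S)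
    (h : I.map (e : R →+* S) = J) : AdicCompletion I R ≃+* AdicCompletion J S :=
  RingEquiv.ofRingHom (FSch.complMap I J (e : R →+* S) h.le)
    (FSch.complMap J I (e.symm : S →+* R) (map_symm_le I J e h))
    (by
      refine RingHom.ext fun x => ?_
      apply AdicCompletion.ext_evalₐ
      intro n
      rw [RingHom.comp_apply, Groth.Agent.Lib.Helper19.evalₐ_complMap,
        Groth.Agent.Lib.Helper19.evalₐ_complMap, RingHom.id_apply]
      obtain ⟨s, hs⟩ := Ideal.Quotient.mk_surjective (AdicCompletion.evalₐ J n x)
      rw [← hs, Ideal.quotientMap_mk, Ideal.quotientMap_mk]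
      simp)
    (by
      refine RingHom.ext fun x => ?_
      apply AdicCompletion.ext_evalₐ
      intro n
      rw [RingHom.comp_apply, Groth.Agent.Lib.Helper19.evalₐ_complMap,
        Groth.Agent.Lib.Helper19.evalₐ_complMap, RingHom.id_apply]
      obtain ⟨s, hs⟩ := Ideal.Quotient.mk_surjective (AdicCompletion.evalₐ I n x)
      rw [← hs, Ideal.quotientMap_mk, Ideal.quotientMap_mk]
      simp)

theorem complEquiv_algebraMap (I : Ideal R) (J : Ideal S) (e : R ≃+* S)
    (h : I.map (e : R →+* S) = J) (r : R) :
    complEquiv I J e h (algebraMap R (AdicCompletion I R) r) =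
      algebraMap S (AdicCompletion J S) (e r) := by
  apply AdicCompletion.ext_evalₐ
  intro n
  change AdicCompletion.evalₐ J n (FSch.complMap I J (e : R →+* S) h.le _) = _
  rw [Groth.Agent.Lib.Helper19.evalₐ_complMap, AdicCompletion.algebraMap_apply,
    AdicCompletion.evalₐ_of, AdicCompletion.algebraMap_apply, AdicCompletion.evalₐ_of,
    Algebra.algebraMap_self, RingHom.id_apply, Algebra.algebraMap_self, RingHom.id_apply,
    Ideal.quotientMap_mk]
  rfl

end ComplEquiv

section Ker

variable {B : Type u} [CommRing B] [IsLocalRing B] [IsNoetherianRing B] (J : Ideal B)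

theorem ker_quotCompl :
    RingHom.ker (quotCompl J) = J.map (algebraMap B (AdicCompletion (maximalIdeal B) B)) := by
  haveI : IsNoetherianRing (AdicCompletion (maximalIdeal B) B) :=
    Groth.Agent.Lib.Helper19.isNoetherianRing_adicCompletion _
  apply le_antisymm
  · intro x hx
    rw [RingHom.mem_ker] at hx
    apply mem_of_forall_mem_sup_pow
    intro n
    obtain ⟨b, hb⟩ := Ideal.Quotient.mk_surjective (AdicCompletion.evalₐ (maximalIdeal B) n x)
    have h1 := congrArg (AdicCompletion.evalₐ _ n) hx
    unfold quotCompl at h1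
    rw [Groth.Agent.Lib.Helper19.evalₐ_complMap, ← hb, Ideal.quotientMap_mk, map_zero,
      Ideal.Quotient.eq_zero_iff_mem, ← Ideal.map_pow,
      Ideal.mem_map_iff_of_surjective _ Ideal.Quotient.mk_surjective] at h1
    obtain ⟨c, hc, hcb⟩ := h1
    have hbc : b - c ∈ J := by
      rw [← Ideal.Quotient.eq]
      exact hcb.symm
    have h2 : x - algebraMap B (AdicCompletion (maximalIdeal B) B) (b - c) ∈
        maximalIdeal (AdicCompletion (maximalIdeal B) B) ^ n := by
      rw [AdicCompletion.maximalIdeal_eq_map, ← Ideal.map_pow]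
      apply Groth.Agent.Lib.Helper19.mem_map_pow_of_evalₐ_eq_zero _ (IsNoetherian.noetherian _)
      rw [map_sub, ← hb, AdicCompletion.algebraMap_apply, AdicCompletion.evalₐ_of,
        Algebra.algebraMap_self, RingHom.id_apply, ← map_sub, Ideal.Quotient.eq_zero_iff_mem]
      have : b - (b - c) = c := by ring
      rw [this]
      exact hc
    have h3 : x = algebraMap B (AdicCompletion (maximalIdeal B) B) (b - c) +
        (x - algebraMap B (AdicCompletion (maximalIdeal B) B) (b - c)) := by ring
    rw [h3]
    exact Submodule.add_mem_sup (Ideal.mem_map_of_mem _ hbc) h2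
  · rw [Ideal.map_le_iff_le_comap]
    intro j hj
    rw [Ideal.mem_comap, RingHom.mem_ker, quotCompl_algebraMap,
      Ideal.Quotient.eq_zero_iff_mem.2 hj, map_zero]

theorem isLocalHom_algebraMap_compl :
    IsLocalHom (algebraMap B (AdicCompletion (maximalIdeal B) B)) := by
  refine ⟨fun b hb => ?_⟩
  by_contra h
  have h1 : algebraMap B (AdicCompletion (maximalIdeal B) B) b ∈
      maximalIdeal (AdicCompletion (maximalIdeal B) B) := by
    rw [AdicCompletion.maximalIdeal_eq_map]
    exact Ideal.mem_map_of_mem _ h
  exact h1 hb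

end Ker

end Groth.Agent.Lib.Seat90.NodeBridge
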