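import Mathlib
import Groth.Prelude
import Groth.Agent.Lib.Seat90NodeBridge
import Groth.Agent.Lib.Helper19PowerSeries

/-!
# The ring `k[[x,y]]/(xy)` and local rings mapping onto it (seat 90)
-/

set_option autoImplicit false
set_option linter.unusedSectionVars false

universe u

open MvPowerSeries IsLocalRing

namespace Groth.Agent.Lib.Seat90.NodeBridge

section Aug

variable (k : Type u) [Field k]

/-- `k[[x,y]]/(xy)` -/
abbrev N0 : Type u :=
  MvPowerSeries (Fin 2) k ⧸ Ideal.span {(X 0 * X 1 : MvPowerSeries (Fin 2) k)}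

/-- the augmentation `k[[x,y]]/(xy) → k` -/
noncomputable def aug : N0 k →+* k :=
  Ideal.Quotient.lift _ (constantCoeff : MvPowerSeries (Fin 2) k →+* k) (by
    intro t ht
    rw [Ideal.mem_span_singleton] at ht
    obtain ⟨c, rfl⟩ := ht
    rw [map_mul, map_mul, constantCoeff_X, zero_mul, zero_mul])

theorem aug_mk (f : MvPowerSeries (Fin 2) k) :
    aug k (Ideal.Quotient.mk _ f) = constantCoeff f :=
  Ideal.Quotient.lift_mk _ _ _

instance : Nontrivial (N0 k) :=
  ⟨⟨0, 1, fun h => by
    have := congrArg (aug k) h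
    rw [map_zero, map_one] at this
    exact zero_ne_one this⟩⟩

theorem not_isUnit_of_aug_eq_zero (z : N0 k) (hz : aug k z = 0) : ¬ IsUnit z := fun h => by
  have := h.map (aug k)
  rw [hz] at this
  exact not_isUnit_zero this

theorem mem_span_pair_of_constantCoeff_eq_zero (f : MvPowerSeries (Fin 2) k)
    (hf : constantCoeff f = 0) :
    f ∈ Ideal.span {(X 0 : MvPowerSeries (Fin 2) k), X 1} := by
  have h1 := Groth.Agent.Lib.Helper19.mem_varsIdeal_pow_of_coeff_eq_zero 1 f (by
    intro α hα
    have h0 : α = 0 := by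
      have : Finsupp.degree α = 0 := by omega
      exact (Finsupp.degree_eq_zero_iff α).1 this
    rw [h0, coeff_zero_eq_constantCoeff_apply]
    exact hf)
  rw [pow_one] at h1
  refine (Ideal.span_le.2 ?_) h1
  rintro _ ⟨i, rfl⟩
  fin_cases i
  · exact Ideal.subset_span (Set.mem_insert _ _)
  · exact Ideal.subset_span (Set.mem_insert_of_mem _ rfl)

/-- A local ring mapping onto `k[[x,y]]/(xy)`: coordinates. -/
theorem exists_uv {R : Type u} [CommRing R] [IsLocalRing R]
    (ε : R →+* N0 k) (hε : Function.Surjective ε) :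
    ∃ u v : R, u ∈ maximalIdeal R ∧ v ∈ maximalIdeal R ∧ u * v ∈ RingHom.ker ε ∧
      maximalIdeal R = Ideal.span {u, v} ⊔ RingHom.ker ε := by
  haveI : IsLocalHom ε := IsLocalHom.of_surjective ε hε
  obtain ⟨u, hu⟩ := hε (Ideal.Quotient.mk _ (X 0))
  obtain ⟨v, hv⟩ := hε (Ideal.Quotient.mk _ (X 1))
  have hnon : ∀ r : R, aug k (ε r) = 0 → r ∈ maximalIdeal R := by
    intro r hr
    rw [mem_maximalIdeal, mem_nonunits_iff]
    intro h
    exact not_isUnit_of_aug_eq_zero k _ hr (h.map ε)
  have hum : u ∈ maximalIdeal R := hnon u (by rw [hu, aug_mk, constantCoeff_X])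
  have hvm : v ∈ maximalIdeal R := hnon v (by rw [hv, aug_mk, constantCoeff_X])
  have hker : RingHom.ker ε ≤ maximalIdeal R :=
    IsLocalRing.le_maximalIdeal (RingHom.ker_ne_top ε)
  refine ⟨u, v, hum, hvm, ?_, ?_⟩
  · rw [RingHom.mem_ker, map_mul, hu, hv, ← map_mul, Ideal.Quotient.eq_zero_iff_mem]
    exact Ideal.subset_span rfl
  · apply le_antisymm
    · intro b hb
      obtain ⟨f, hf⟩ := Ideal.Quotient.mk_surjective (ε b)
      have hf0 : constantCoeff f = 0 := by
        by_contra hne
        have h1 : IsUnit f := isUnit_iff_constantCoeff.2 (isUnit_iff_ne_zero.2 hne)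
        have h2 : IsUnit (ε b) := by
          rw [← hf]
          exact h1.map _
        have h3 : IsUnit b := isUnit_of_map_unit ε b h2
        exact hb h3
      obtain ⟨p, q, hpq⟩ := Ideal.mem_span_pair.1
        (mem_span_pair_of_constantCoeff_eq_zero k f hf0)
      obtain ⟨P, hP⟩ := hε (Ideal.Quotient.mk _ p)
      obtain ⟨Q, hQ⟩ := hε (Ideal.Quotient.mk _ q)
      have h4 : b - (P * u + Q * v) ∈ RingHom.ker ε := by
        rw [RingHom.mem_ker, map_sub, map_add, map_mul, map_mul, hP, hQ, hu, hv, ← hf,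
          ← map_mul, ← map_mul, ← map_add, hpq, sub_self]
      have h5 : b = (P * u + Q * v) + (b - (P * u + Q * v)) := by ring
      rw [h5]
      exact Submodule.add_mem_sup (Ideal.mem_span_pair.2 ⟨P, Q, rfl⟩) h4
    · rw [sup_le_iff, Ideal.span_le]
      refine ⟨?_, hker⟩
      rintro x (rfl | rfl)
      · exact hum
      · exact hvm

end Aug

end Groth.Agent.Lib.Seat90.NodeBridge
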