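import Mathlib
import Groth.Prelude
import Groth.Agent.Lib.Seat90NodeBridge2
import Groth.Agent.S7925

/-!
# Completion of a flat local algebra whose completed fibre ring is `k[[x,y]]/(xy)` (seat 90)

`core`: for a flat local homomorphism `A → B` of Noetherian local rings such that the completion
of `B/𝔪_A B` is `k[[x,y]]/(xy)` compatibly with `k = A/𝔪_A`, the completion `B̂` is
`Â[[x,y]]/(xy - h)` for some `h ∈ 𝔪_Â`, compatibly with `A`.  (No coordinates in `B` needed:
`S7925` is applied to `A → B̂`.)
-/

set_option autoImplicit false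
set_option linter.unusedSectionVars false
set_option linter.style.haveILetI false

universe u

open MvPowerSeries IsLocalRing

namespace Groth.Agent.Lib.Seat90.NodeBridge

open Groth.Agent.Lib.Seat90.NodeCompl

variable (A B : Type u) [CommRing A] [IsLocalRing A] [IsNoetherianRing A]
  [CommRing B] [IsLocalRing B] [Algebra A B] [IsLocalHom (algebraMap A B)]

/-- The residue field extension is trivial when the completed fibre ring is `k[[x,y]]/(xy)`
compatibly with `k`. -/
theorem bijective_residue_of_equiv
    (e₀ : AdicCompletion ((maximalIdeal B).map (Ideal.Quotient.mk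
          ((maximalIdeal A).map (algebraMap A B))))
          (B ⧸ (maximalIdeal A).map (algebraMap A B)) ≃+* N0 (ResidueField A))
    (he₀ : ∀ a : A, e₀ (algebraMap (B ⧸ (maximalIdeal A).map (algebraMap A B)) _
          (Ideal.Quotient.mk _ (algebraMap A B a))) =
        Ideal.Quotient.mk _ (C (residue A a))) :
    Function.Bijective (ResidueField.map (algebraMap A B)) := by
  refine ⟨(ResidueField.map (algebraMap A B)).injective, ?_⟩
  intro y
  obtain ⟨b, rfl⟩ := residue_surjective y
  obtain ⟨a, ha⟩ := residue_surjective
    (aug _ (e₀ (algebraMap (B ⧸ (maximalIdeal A).map (algebraMap A B)) _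
      (Ideal.Quotient.mk _ b))))
  refine ⟨residue A a, ?_⟩
  rw [ResidueField.map_residue]
  symm
  rw [← sub_eq_zero, ← map_sub, residue_eq_zero_iff, mem_maximalIdeal, mem_nonunits_iff]
  intro hunit
  have h1 : aug _ (e₀ (algebraMap (B ⧸ (maximalIdeal A).map (algebraMap A B)) _
      (Ideal.Quotient.mk _ (b - algebraMap A B a)))) = 0 := by
    rw [map_sub, map_sub, map_sub, map_sub, he₀, aug_mk, constantCoeff_C, ← ha, sub_self]
  exact not_isUnit_of_aug_eq_zero _ _ h1 (((hunit.map _).map _).map _)

variable [IsNoetherianRing B]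

theorem core [Module.Flat A B]
    (e₀ : AdicCompletion ((maximalIdeal B).map (Ideal.Quotient.mk
          ((maximalIdeal A).map (algebraMap A B))))
          (B ⧸ (maximalIdeal A).map (algebraMap A B)) ≃+* N0 (ResidueField A))
    (he₀ : ∀ a : A, e₀ (algebraMap (B ⧸ (maximalIdeal A).map (algebraMap A B)) _
          (Ideal.Quotient.mk _ (algebraMap A B a))) =
        Ideal.Quotient.mk _ (C (residue A a))) :
    ∃ h ∈ maximalIdeal (AdicCompletion (maximalIdeal A) A),
      ∃ E : AdicCompletion (maximalIdeal B) B ≃+*
          (MvPowerSeries (Fin 2) (AdicCompletion (maximalIdeal A) A) ⧸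
            Ideal.span {(X 0 * X 1 - C h :
              MvPowerSeries (Fin 2) (AdicCompletion (maximalIdeal A) A))}),
        ∀ a : A, E (algebraMap B (AdicCompletion (maximalIdeal B) B) (algebraMap A B a)) =
          Ideal.Quotient.mk _ (C (algebraMap A (AdicCompletion (maximalIdeal A) A) a)) := by
  haveI hN : IsNoetherianRing (AdicCompletion (maximalIdeal B) B) :=
    Groth.Agent.Lib.Helper19.isNoetherianRing_adicCompletion _
  haveI hloc1 : IsLocalHom (algebraMap B (AdicCompletion (maximalIdeal B) B)) :=
    isLocalHom_algebraMap_compl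
  haveI hloc : IsLocalHom (algebraMap A (AdicCompletion (maximalIdeal B) B)) := by
    rw [algebraMap_eq_comp]
    infer_instance
  haveI hflat1 : Module.Flat B (AdicCompletion (maximalIdeal B) B) :=
    AdicCompletion.flat_of_isNoetherian _
  haveI hflat : Module.Flat A (AdicCompletion (maximalIdeal B) B) :=
    Module.Flat.trans A B _
  have hJB' : (maximalIdeal A).map (algebraMap A (AdicCompletion (maximalIdeal B) B)) =
      ((maximalIdeal A).map (algebraMap A B)).map (algebraMap B (AdicCompletion (maximalIdeal B) B)) := by
    rw [Ideal.map_map, ← algebraMap_eq_comp]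
  have hqker : RingHom.ker (quotCompl ((maximalIdeal A).map (algebraMap A B))) =
      (maximalIdeal A).map (algebraMap A (AdicCompletion (maximalIdeal B) B)) := by
    rw [ker_quotCompl, hJB']
  -- `d : B̂/𝔪_A B̂ ≃ (B/𝔪_A B)^`
  let d : (AdicCompletion (maximalIdeal B) B ⧸
        (maximalIdeal A).map (algebraMap A (AdicCompletion (maximalIdeal B) B))) ≃+*
      AdicCompletion ((maximalIdeal B).map (Ideal.Quotient.mk ((maximalIdeal A).map (algebraMap A B)))) (B ⧸ ((maximalIdeal A).map (algebraMap A B))) :=
    (Ideal.quotEquivOfEq hqker.symm).trans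
      (RingHom.quotientKerEquivOfSurjective (quotCompl_surjective ((maximalIdeal A).map (algebraMap A B))))
  have hd : ∀ x, d (Ideal.Quotient.mk _ x) = quotCompl ((maximalIdeal A).map (algebraMap A B)) x := fun x => rfl
  have hId : ((maximalIdeal (AdicCompletion (maximalIdeal B) B)).map (Ideal.Quotient.mk
        ((maximalIdeal A).map (algebraMap A (AdicCompletion (maximalIdeal B) B))))).map
        (d : _ →+* _) =
      ((maximalIdeal B).map (Ideal.Quotient.mk ((maximalIdeal A).map (algebraMap A B)))).map (algebraMap (B ⧸ ((maximalIdeal A).map (algebraMap A B)))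
        (AdicCompletion ((maximalIdeal B).map (Ideal.Quotient.mk ((maximalIdeal A).map (algebraMap A B)))) (B ⧸ ((maximalIdeal A).map (algebraMap A B))))) := by
    rw [Ideal.map_map]
    have h1 : (d : _ →+* _).comp (Ideal.Quotient.mk
        ((maximalIdeal A).map (algebraMap A (AdicCompletion (maximalIdeal B) B)))) =
        quotCompl ((maximalIdeal A).map (algebraMap A B)) := RingHom.ext fun x => hd x
    have hcomp : (quotCompl ((maximalIdeal A).map (algebraMap A B))).comp (algebraMap B (AdicCompletion (maximalIdeal B) B)) =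
        (algebraMap (B ⧸ ((maximalIdeal A).map (algebraMap A B))) (AdicCompletion ((maximalIdeal B).map (Ideal.Quotient.mk ((maximalIdeal A).map (algebraMap A B))))
          (B ⧸ ((maximalIdeal A).map (algebraMap A B))))).comp (Ideal.Quotient.mk ((maximalIdeal A).map (algebraMap A B))) :=
      RingHom.ext fun b => quotCompl_algebraMap ((maximalIdeal A).map (algebraMap A B)) b
    rw [h1, AdicCompletion.maximalIdeal_eq_map, Ideal.map_map, hcomp, ← Ideal.map_map]
  haveI hcompl : IsAdicComplete
      (((maximalIdeal B).map (Ideal.Quotient.mk ((maximalIdeal A).map (algebraMap A B)))).map (algebraMap (B ⧸ ((maximalIdeal A).map (algebraMap A B)))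
        (AdicCompletion ((maximalIdeal B).map (Ideal.Quotient.mk ((maximalIdeal A).map (algebraMap A B)))) (B ⧸ ((maximalIdeal A).map (algebraMap A B))))))
      (AdicCompletion ((maximalIdeal B).map (Ideal.Quotient.mk ((maximalIdeal A).map (algebraMap A B)))) (B ⧸ ((maximalIdeal A).map (algebraMap A B)))) :=
    AdicCompletion.isAdicComplete_self _ (IsNoetherian.noetherian _)
  let c := AdicCompletion.ofAlgEquiv
    (((maximalIdeal B).map (Ideal.Quotient.mk ((maximalIdeal A).map (algebraMap A B)))).map (algebraMap (B ⧸ ((maximalIdeal A).map (algebraMap A B)))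
        (AdicCompletion ((maximalIdeal B).map (Ideal.Quotient.mk ((maximalIdeal A).map (algebraMap A B)))) (B ⧸ ((maximalIdeal A).map (algebraMap A B))))))
  let e' : AdicCompletion ((maximalIdeal (AdicCompletion (maximalIdeal B) B)).map
        (Ideal.Quotient.mk
          ((maximalIdeal A).map (algebraMap A (AdicCompletion (maximalIdeal B) B)))))
        (AdicCompletion (maximalIdeal B) B ⧸
          (maximalIdeal A).map (algebraMap A (AdicCompletion (maximalIdeal B) B))) ≃+*
      N0 (ResidueField A) :=
    (complEquiv _ _ d hId).trans (c.symm.toRingEquiv.trans e₀)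
  have he' : ∀ a : A, e' (algebraMap (AdicCompletion (maximalIdeal B) B ⧸
          (maximalIdeal A).map (algebraMap A (AdicCompletion (maximalIdeal B) B))) _
        (Ideal.Quotient.mk _ (algebraMap A (AdicCompletion (maximalIdeal B) B) a))) =
      Ideal.Quotient.mk _ (C (residue A a)) := by
    intro a
    change e₀ (c.symm (complEquiv _ _ d hId (algebraMap _ _
      (Ideal.Quotient.mk _ (algebraMap A (AdicCompletion (maximalIdeal B) B) a))))) = _
    rw [complEquiv_algebraMap, hd, algebraMap_eq_comp, RingHom.comp_apply, quotCompl_algebraMap,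
      AdicCompletion.algebraMap_apply (R := AdicCompletion ((maximalIdeal B).map
        (Ideal.Quotient.mk ((maximalIdeal A).map (algebraMap A B)))) (B ⧸ ((maximalIdeal A).map (algebraMap A B)))), Algebra.algebraMap_self, RingHom.id_apply,
      AdicCompletion.ofAlgEquiv_symm_of]
    exact he₀ a
  have hres' := bijective_residue_of_equiv A (AdicCompletion (maximalIdeal B) B) e' he'
  -- coordinates
  obtain ⟨u, v, hu, hv, huv, hgen⟩ := exists_uv (ResidueField A)
    ((e₀ : _ →+* N0 (ResidueField A)).comp (quotCompl ((maximalIdeal A).map (algebraMap A B))))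
    (e₀.surjective.comp (quotCompl_surjective ((maximalIdeal A).map (algebraMap A B))))
  have hkerε : RingHom.ker ((e₀ : _ →+* N0 (ResidueField A)).comp (quotCompl ((maximalIdeal A).map (algebraMap A B)))) =
      (maximalIdeal A).map (algebraMap A (AdicCompletion (maximalIdeal B) B)) := by
    rw [← hqker]
    ext x
    rw [RingHom.mem_ker, RingHom.mem_ker, RingHom.comp_apply]
    exact e₀.map_eq_zero_iff
  rw [hkerε] at huv hgen
  obtain ⟨α, hα, ψ, -, -⟩ := Groth.Agent.S7925.result A (AdicCompletion (maximalIdeal B) B)
    hres' u v hu hv huv hgen ⟨e', he'⟩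
  refine ⟨α, by rw [AdicCompletion.maximalIdeal_eq_map]; exact hα, ?_⟩
  let cB := AdicCompletion.ofAlgEquiv (maximalIdeal (AdicCompletion (maximalIdeal B) B))
  refine ⟨cB.toRingEquiv.trans ψ.symm.toRingEquiv, ?_⟩
  intro a
  change ψ.symm (cB (algebraMap B (AdicCompletion (maximalIdeal B) B) (algebraMap A B a))) = _
  have h1 : cB (algebraMap B (AdicCompletion (maximalIdeal B) B) (algebraMap A B a)) =
      algebraMap A (AdicCompletion (maximalIdeal (AdicCompletion (maximalIdeal B) B))
        (AdicCompletion (maximalIdeal B) B)) a := by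
    rw [← RingHom.comp_apply, ← algebraMap_eq_comp,
      algebraMap_eq_comp A (AdicCompletion (maximalIdeal B) B), RingHom.comp_apply]
    rfl
  rw [h1, ψ.symm.commutes, ← MvPowerSeries.algebraMap_apply]
  rfl

end Groth.Agent.Lib.Seat90.NodeBridge
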