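import Mathlib
import Groth.Agent.Lib.Helper5FiberStalk

/-!
# The local ring of a fibre, compatibly with the residue field (seat 90)

Refines `Helper5.FiberStalk.nonempty_stalk_fiber_equiv`: the isomorphism
`O_{X_y, z} ≃ O_{X,x} / 𝔪_y O_{X,x}` is compatible with the maps from the residue field `κ(y)`.
-/

set_option autoImplicit false
universe u

namespace Groth.Agent.Lib.Seat90.NodeFib

open AlgebraicGeometry CategoryTheory Limits IsLocalRing
open Groth.Agent.Lib.Helper5.FiberStalk

variable {X Y : Scheme.{u}} (f : X ⟶ Y) (x : X)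

theorem toFiber_snd :
    toFiber f x ≫ f.fiberToSpecResidueField (f x) = Spec.map (toQ f x) :=
  pullback.lift_snd _ _ _

/-- Key identity on the residue-field side. -/
theorem stalkClosedPointTo_toFiber_snd (s : Γ(Spec (Y.residueField (f x)), ⊤)) :
    (Scheme.stalkClosedPointTo (toFiber f x)).hom
      ((f.fiber (f x)).presheaf.germ ((f.fiberToSpecResidueField (f x)) ⁻¹ᵁ ⊤) _ trivial
        ((f.fiberToSpecResidueField (f x)).app ⊤ s)) =
    (toQ f x).hom ((Scheme.ΓSpecIso (Y.residueField (f x))).hom.hom s) := by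
  have e1 : (f.fiber (f x)).presheaf.germ ((f.fiberToSpecResidueField (f x)) ⁻¹ᵁ ⊤) _ trivial
      ((f.fiberToSpecResidueField (f x)).app ⊤ s) =
      ((f.fiberToSpecResidueField (f x)).stalkMap (toFiber f x (closedPoint (Q f x)))).hom
        ((Spec (Y.residueField (f x))).presheaf.germ ⊤ _ trivial s) :=
    (Scheme.Hom.germ_stalkMap_apply (f.fiberToSpecResidueField (f x)) ⊤ _ trivial s).symm
  rw [e1]
  have e2 : (Scheme.stalkClosedPointTo (toFiber f x)).hom
      (((f.fiberToSpecResidueField (f x)).stalkMap (toFiber f x (closedPoint (Q f x)))).hom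
        ((Spec (Y.residueField (f x))).presheaf.germ ⊤ _ trivial s)) =
      (Scheme.stalkClosedPointTo (toFiber f x ≫ f.fiberToSpecResidueField (f x))).hom
        ((Spec (Y.residueField (f x))).presheaf.germ ⊤ _ trivial s) := by
    rw [Scheme.stalkClosedPointTo_comp]
    rfl
  rw [e2]
  refine (aux_congr (toFiber_snd f x) ⊤ trivial s).trans ?_
  exact ConcreteCategory.congr_hom (Scheme.germ_stalkClosedPointTo_Spec (toQ f x)) s

/-- The local ring of the fibre through `x` at a point `z` over `x` is
`O_{X,x} ⧸ m_{f x} O_{X,x}`, compatibly with the residue field of `f x`. -/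
theorem exists_stalk_fiber_equiv (z : f.fiber (f x)) (hz : f.fiberι (f x) z = x) :
    ∃ θ : (f.fiber (f x)).presheaf.stalk z ≃+* (X.presheaf.stalk x ⧸ fibIdeal f x),
      ∀ s : Γ(Spec (Y.residueField (f x)), ⊤),
        θ ((f.fiber (f x)).presheaf.germ ⊤ z trivial
          ((f.fiberToSpecResidueField (f x)).app ⊤ s)) =
        (toQ f x).hom ((Scheme.ΓSpecIso (Y.residueField (f x))).hom.hom s) := by
  obtain rfl : z = toFiber f x (closedPoint (Q f x)) :=
    (f.fiberι (f x)).isEmbedding.injective (hz.trans (fiberι_toFiber_closedPoint f x).symm)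
  exact ⟨RingEquiv.ofBijective (Scheme.stalkClosedPointTo (toFiber f x)).hom
    ⟨stalkClosedPointTo_toFiber_injective f x, stalkClosedPointTo_toFiber_surjective f x⟩,
    fun s => stalkClosedPointTo_toFiber_snd f x s⟩

theorem toQ_residue (a : Y.presheaf.stalk (f x)) :
    (toQ f x).hom (IsLocalRing.residue (Y.presheaf.stalk (f x)) a) =
      Ideal.Quotient.mk (fibIdeal f x) ((f.stalkMap x).hom a) :=
  rfl

end Groth.Agent.Lib.Seat90.NodeFib
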