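import Mathlib.RingTheory.AdicCompletion.Basic
import Mathlib.RingTheory.MvPowerSeries.Equiv
import Mathlib.RingTheory.Ideal.Quotient.Operations

set_option autoImplicit false
universe u

namespace Groth.Agent.Lib.Seat90.NodeNF

open Finset

variable {R : Type u} [CommRing R]

/-- partial sums `∑_{k<n} c_k t^k` -/
noncomputable def psum (t : R) (c : ℕ → R) (n : ℕ) : R := ∑ k ∈ range n, c k * t ^ k

theorem psum_succ' (t : R) (c : ℕ → R) (n : ℕ) :
    psum t c (n + 1) = c 0 + t * psum t (fun k => c (k + 1)) n := by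
  unfold psum
  rw [Finset.sum_range_succ', Finset.mul_sum]
  simp only [pow_zero, mul_one]
  rw [add_comm]
  congr 1
  apply Finset.sum_congr rfl
  intro k _
  ring

theorem psum_cauchy (I : Ideal R) (t : R) (ht : t ∈ I) (c : ℕ → R) {m n : ℕ} (h : m ≤ n) :
    psum t c m ≡ psum t c n [SMOD (I ^ m • ⊤ : Submodule R R)] := by
  obtain ⟨d, rfl⟩ := Nat.exists_eq_add_of_le h
  rw [SModEq.comm, SModEq.sub_mem]
  unfold psum
  rw [Finset.sum_range_add, add_sub_cancel_left, smul_eq_mul, Ideal.mul_top]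
  apply Ideal.sum_mem
  intro k _
  rw [pow_add, ← mul_assoc, mul_comm, ← mul_assoc]
  exact Ideal.mul_mem_left _ _ (Ideal.pow_mem_pow ht m)

theorem exists_ev (I : Ideal R) [IsAdicComplete I R] (t : R) (ht : t ∈ I) :
    ∃ ev : (ℕ → R) → R, ∀ c, ev c = c 0 + t * ev (fun k => c (k + 1)) := by
  have hex : ∀ c : ℕ → R, ∃ L : R, ∀ n, psum t c n ≡ L [SMOD (I ^ n • ⊤ : Submodule R R)] :=
    fun c => IsPrecomplete.prec' (I := I) (psum t c) (fun h => psum_cauchy I t ht c h)
  choose ev hev using hex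
  refine ⟨ev, fun c => ?_⟩
  rw [IsHausdorff.eq_iff_smodEq (I := I)]
  intro n
  have h1 : ev c ≡ psum t c (n + 1) [SMOD (I ^ n • ⊤ : Submodule R R)] :=
    ((hev c (n + 1)).symm).mono (Submodule.pow_smul_top_le I R (Nat.le_succ n))
  refine h1.trans ?_
  rw [psum_succ']
  refine SModEq.add SModEq.rfl ?_
  have h2 := hev (fun k => c (k + 1)) n
  have := SModEq.smul h2 t
  simpa [smul_eq_mul] using this


/-- exponent vector `(a, b)` -/
noncomputable def idx (a b : ℕ) : Fin 2 →₀ ℕ := Finsupp.single 0 a + Finsupp.single 1 b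

@[simp] theorem idx_zero (a b : ℕ) : idx a b 0 = a := by simp [idx]
@[simp] theorem idx_one (a b : ℕ) : idx a b 1 = b := by simp [idx]

theorem eq_idx (d : Fin 2 →₀ ℕ) : d = idx (d 0) (d 1) := by
  ext i
  fin_cases i <;> simp

theorem idx_succ_succ (a b : ℕ) :
    idx (a + 1) (b + 1) = (Finsupp.single 0 1 + Finsupp.single 1 1) + idx a b := by
  ext i
  fin_cases i <;> simp [add_comm]

theorem idx_succ_right (a b : ℕ) :
    idx a (b + 1) = Finsupp.single 1 1 + idx a b := by
  ext i
  fin_cases i <;> simp [add_comm]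

theorem idx_zero_right (a : ℕ) : idx a 0 = Finsupp.single 0 a := by simp [idx]
theorem idx_zero_left (b : ℕ) : idx 0 b = Finsupp.single 1 b := by simp [idx]

/-- the coefficient of `x^a y^b` -/
noncomputable def cf (F : MvPowerSeries (Fin 2) R) (a b : ℕ) : R := MvPowerSeries.coeff (idx a b) F

/-- the series with prescribed coefficients -/
noncomputable def mk2 (c : ℕ → ℕ → R) : MvPowerSeries (Fin 2) R := fun d => c (d 0) (d 1)

@[simp] theorem cf_mk2 (c : ℕ → ℕ → R) (a b : ℕ) : cf (mk2 c) a b = c a b := by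
  change c (idx a b 0) (idx a b 1) = _
  simp

theorem ext2 {F G : MvPowerSeries (Fin 2) R} (h : ∀ a b, cf F a b = cf G a b) : F = G := by
  apply MvPowerSeries.ext
  intro d
  rw [eq_idx d]
  exact h _ _

theorem cf_add (F G : MvPowerSeries (Fin 2) R) (a b : ℕ) : cf (F + G) a b = cf F a b + cf G a b := by
  simp [cf]

theorem cf_sub (F G : MvPowerSeries (Fin 2) R) (a b : ℕ) : cf (F - G) a b = cf F a b - cf G a b := by
  simp [cf]

theorem cf_C_mul (t : R) (G : MvPowerSeries (Fin 2) R) (a b : ℕ) :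
    cf (MvPowerSeries.C t * G) a b = t * cf G a b := by
  simp [cf, MvPowerSeries.coeff_C_mul]

theorem X0X1 : (MvPowerSeries.X 0 * MvPowerSeries.X 1 : MvPowerSeries (Fin 2) R) =
    MvPowerSeries.monomial (Finsupp.single 0 1 + Finsupp.single 1 1) 1 := by
  rw [MvPowerSeries.X_def, MvPowerSeries.X_def, MvPowerSeries.monomial_mul_monomial, mul_one]

theorem cf_xy_mul_succ (G : MvPowerSeries (Fin 2) R) (a b : ℕ) :
    cf (MvPowerSeries.X 0 * MvPowerSeries.X 1 * G) (a + 1) (b + 1) = cf G a b := by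
  unfold cf
  rw [X0X1, idx_succ_succ, MvPowerSeries.coeff_add_monomial_mul, one_mul]

theorem cf_xy_mul_zero_right (G : MvPowerSeries (Fin 2) R) (a : ℕ) :
    cf (MvPowerSeries.X 0 * MvPowerSeries.X 1 * G) a 0 = 0 := by
  unfold cf
  rw [X0X1, MvPowerSeries.coeff_monomial_mul, if_neg]
  intro h
  have := h 1
  simp at this

theorem cf_xy_mul_zero_left (G : MvPowerSeries (Fin 2) R) (b : ℕ) :
    cf (MvPowerSeries.X 0 * MvPowerSeries.X 1 * G) 0 b = 0 := by
  unfold cf
  rw [X0X1, MvPowerSeries.coeff_monomial_mul, if_neg]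
  intro h
  have := h 0
  simp at this

theorem cf_y_mul_succ (G : MvPowerSeries (Fin 2) R) (a b : ℕ) :
    cf (MvPowerSeries.X 1 * G) a (b + 1) = cf G a b := by
  unfold cf
  rw [MvPowerSeries.X_def, idx_succ_right, MvPowerSeries.coeff_add_monomial_mul, one_mul]

theorem cf_y_mul_zero (G : MvPowerSeries (Fin 2) R) (a : ℕ) :
    cf (MvPowerSeries.X 1 * G) a 0 = 0 := by
  unfold cf
  rw [MvPowerSeries.X_def, MvPowerSeries.coeff_monomial_mul, if_neg]
  intro h
  have := h 1
  simp at this

theorem coeff_toMv_single (i : Fin 2) (f : PowerSeries R) (n : ℕ) :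
    MvPowerSeries.coeff (Finsupp.single i n) (PowerSeries.toMvPowerSeries i f) =
      PowerSeries.coeff n f := by
  have := MvPowerSeries.coeff_embDomain_rename (R := R) (Function.Embedding.punit i) f
    (Finsupp.single () n)
  rw [Finsupp.embDomain_single] at this
  exact this

theorem coeff_toMv_of_ne (i j : Fin 2) (hij : j ≠ i) (f : PowerSeries R) (d : Fin 2 →₀ ℕ)
    (hd : d j ≠ 0) : MvPowerSeries.coeff d (PowerSeries.toMvPowerSeries i f) = 0 := by
  apply MvPowerSeries.coeff_rename_eq_zero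
  rintro ⟨x, rfl⟩
  apply hd
  have hx : x = Finsupp.single () (x ()) := by
    ext; simp
  rw [hx, Finsupp.mapDomain_single, Finsupp.single_apply, if_neg (Ne.symm hij)]

theorem cf_toMv0_zero (f : PowerSeries R) (a : ℕ) :
    cf (PowerSeries.toMvPowerSeries 0 f) a 0 = PowerSeries.coeff a f := by
  unfold cf
  rw [idx_zero_right, coeff_toMv_single]

theorem cf_toMv0_succ (f : PowerSeries R) (a b : ℕ) :
    cf (PowerSeries.toMvPowerSeries 0 f) a (b + 1) = 0 := by
  unfold cf
  exact coeff_toMv_of_ne 0 1 (by decide) f _ (by simp)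

theorem cf_toMv1_zero (g : PowerSeries R) (b : ℕ) :
    cf (PowerSeries.toMvPowerSeries 1 g) 0 b = PowerSeries.coeff b g := by
  unfold cf
  rw [idx_zero_left, coeff_toMv_single]

theorem cf_toMv1_succ (g : PowerSeries R) (a b : ℕ) :
    cf (PowerSeries.toMvPowerSeries 1 g) (a + 1) b = 0 := by
  unfold cf
  exact coeff_toMv_of_ne 1 0 (by decide) g _ (by simp)


/-- The element `xy - t` of `R[[x,y]]`. -/
noncomputable abbrev rel (t : R) : MvPowerSeries (Fin 2) R :=
  MvPowerSeries.X 0 * MvPowerSeries.X 1 - MvPowerSeries.C t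

theorem cf_rel_mul_succ (t : R) (G : MvPowerSeries (Fin 2) R) (a b : ℕ) :
    cf (rel t * G) (a + 1) (b + 1) = cf G a b - t * cf G (a + 1) (b + 1) := by
  rw [rel, sub_mul, cf_sub, cf_xy_mul_succ, cf_C_mul]

theorem cf_rel_mul_zero_right (t : R) (G : MvPowerSeries (Fin 2) R) (a : ℕ) :
    cf (rel t * G) a 0 = - (t * cf G a 0) := by
  rw [rel, sub_mul, cf_sub, cf_xy_mul_zero_right, cf_C_mul, zero_sub]

theorem cf_rel_mul_zero_left (t : R) (G : MvPowerSeries (Fin 2) R) (b : ℕ) :
    cf (rel t * G) 0 b = - (t * cf G 0 b) := by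
  rw [rel, sub_mul, cf_sub, cf_xy_mul_zero_left, cf_C_mul, zero_sub]

/-- Existence of the normal form: every series is, modulo `xy - t`, of the form `f(x) + y g(y)`. -/
theorem exists_normal_form (I : Ideal R) [IsAdicComplete I R] (t : R) (ht : t ∈ I)
    (F : MvPowerSeries (Fin 2) R) :
    ∃ (f g : PowerSeries R) (G : MvPowerSeries (Fin 2) R),
      F - (PowerSeries.toMvPowerSeries 0 f + MvPowerSeries.X 1 * PowerSeries.toMvPowerSeries 1 g) =
        rel t * G := by
  obtain ⟨ev, hev⟩ := exists_ev I t ht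
  refine ⟨PowerSeries.mk (fun n => ev (fun k => cf F (n + k) k)),
    PowerSeries.mk (fun n => ev (fun k => cf F k (n + 1 + k))),
    mk2 (fun a b => ev (fun k => cf F (a + 1 + k) (b + 1 + k))), ?_⟩
  apply ext2
  intro a b
  rcases b with _ | b
  · -- b = 0
    rw [cf_rel_mul_zero_right, cf_sub, cf_add, cf_toMv0_zero, cf_y_mul_zero, PowerSeries.coeff_mk,
      cf_mk2, add_zero]
    rw [hev (fun k => cf F (a + k) k)]
    have : (fun k => cf F (a + (k + 1)) (k + 1)) = (fun k => cf F (a + 1 + k) (0 + 1 + k)) := by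
      funext k
      congr 1 <;> omega
    rw [this]
    simp only [add_zero]
    ring
  · rcases a with _ | a
    · -- a = 0, b+1
      rw [cf_rel_mul_zero_left, cf_sub, cf_add, cf_toMv0_succ, cf_y_mul_succ, cf_toMv1_zero,
        PowerSeries.coeff_mk, cf_mk2, zero_add]
      rw [hev (fun k => cf F k (b + 1 + k))]
      have : (fun k => cf F (k + 1) (b + 1 + (k + 1))) =
          (fun k => cf F (0 + 1 + k) (b + 1 + 1 + k)) := by
        funext k
        congr 1 <;> omega
      rw [this]
      simp only [add_zero]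
      ring
    · rw [cf_rel_mul_succ, cf_sub, cf_add, cf_toMv0_succ, cf_y_mul_succ, cf_toMv1_succ,
        cf_mk2, cf_mk2, add_zero, sub_zero]
      rw [hev (fun k => cf F (a + 1 + k) (b + 1 + k))]
      have : (fun k => cf F (a + 1 + (k + 1)) (b + 1 + (k + 1))) =
          (fun k => cf F (a + 1 + 1 + k) (b + 1 + 1 + k)) := by
        funext k
        congr 1 <;> omega
      rw [this]
      simp only [add_zero]
      ring

/-- Uniqueness of the normal form. -/
theorem normal_form_unique (I : Ideal R) [IsHausdorff I R] (t : R) (ht : t ∈ I)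
    (f g : PowerSeries R) (G : MvPowerSeries (Fin 2) R)
    (h : PowerSeries.toMvPowerSeries 0 f + MvPowerSeries.X 1 * PowerSeries.toMvPowerSeries 1 g =
      rel t * G) : f = 0 ∧ g = 0 := by
  have hrec : ∀ a b, cf G a b = t * cf G (a + 1) (b + 1) := by
    intro a b
    have := congrArg (fun H => cf H (a + 1) (b + 1)) h
    simp only [cf_add, cf_toMv0_succ, cf_y_mul_succ, cf_toMv1_succ, cf_rel_mul_succ, add_zero] at this
    exact (sub_eq_zero.mp this.symm)
  have hpow : ∀ k a b, cf G a b = t ^ k * cf G (a + k) (b + k) := by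
    intro k
    induction k with
    | zero => intro a b; simp
    | succ k ih =>
      intro a b
      rw [ih a b, hrec (a + k) (b + k), pow_succ, mul_assoc]
      rfl
  have hG : G = 0 := by
    apply ext2
    intro a b
    have h0 : cf (0 : MvPowerSeries (Fin 2) R) a b = 0 := by simp [cf]
    rw [h0]
    apply IsHausdorff.haus' (I := I)
    intro n
    rw [SModEq.zero, smul_eq_mul, Ideal.mul_top, hpow n a b]
    exact Ideal.mul_mem_right _ _ (Ideal.pow_mem_pow ht n)
  rw [hG, mul_zero] at h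
  constructor
  · ext a
    have := congrArg (fun H => cf H a 0) h
    simp only [cf_add, cf_toMv0_zero, cf_y_mul_zero, add_zero] at this
    rw [this]
    simp [cf]
  · ext b
    have := congrArg (fun H => cf H 0 (b + 1)) h
    simp only [cf_add, cf_toMv0_succ, cf_y_mul_succ, cf_toMv1_zero, zero_add] at this
    rw [this]
    simp [cf]

end Groth.Agent.Lib.Seat90.NodeNF
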