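import Groth.Prelude.Def_W4c5spincurvestfNode
import Groth.Agent.Lib.Seat90NodeNF

set_option autoImplicit false
universe u

namespace Groth.Agent.Lib.Seat90.NodeNFQ

open SpinCurv Groth.Agent.Lib.Seat90.NodeNF

variable {R : Type u} [CommRing R]

theorem mulVec_nodeAlpha (p q : R) (v : Fin 2 → NodeRing R (p * q)) :
    Matrix.mulVec (nodeAlpha R p q) v =
      ![NodeRing.x R (p * q) * v 0 + algebraMap R (NodeRing R (p * q)) p * v 1,
        algebraMap R (NodeRing R (p * q)) q * v 0 + NodeRing.y R (p * q) * v 1] := by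
  funext i
  fin_cases i <;> simp [nodeAlpha, Matrix.mulVec, dotProduct, Fin.sum_univ_two]

theorem xy_eq (t : R) : NodeRing.x R t * NodeRing.y R t = algebraMap R (NodeRing R t) t := by
  rw [← sub_eq_zero]
  change Ideal.Quotient.mk _ (MvPowerSeries.X 0) * Ideal.Quotient.mk _ (MvPowerSeries.X 1) -
    Ideal.Quotient.mk _ (algebraMap R (MvPowerSeries (Fin 2) R) t) = 0
  rw [← map_mul, ← map_sub, Ideal.Quotient.eq_zero_iff_mem]
  exact Ideal.subset_span (Set.mem_singleton _)

theorem ofX_add (t : R) (f g : PowerSeries R) :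
    NodeRing.ofX R t (f + g) = NodeRing.ofX R t f + NodeRing.ofX R t g := by
  simp [NodeRing.ofX]

theorem ofX_mul (t : R) (f g : PowerSeries R) :
    NodeRing.ofX R t (f * g) = NodeRing.ofX R t f * NodeRing.ofX R t g := by
  simp [NodeRing.ofX]

theorem ofX_X (t : R) : NodeRing.ofX R t PowerSeries.X = NodeRing.x R t := by
  simp [NodeRing.ofX, NodeRing.x]

theorem ofX_C (t : R) (r : R) : NodeRing.ofX R t (PowerSeries.C r) = algebraMap R _ r := by
  simp [NodeRing.ofX]
  rfl

theorem ofX_zero (t : R) : NodeRing.ofX R t 0 = 0 := by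
  simp [NodeRing.ofX]

theorem ofY_zero (t : R) : NodeRing.ofY R t 0 = 0 := by
  simp [NodeRing.ofY]

theorem ofX_sub (t : R) (f g : PowerSeries R) :
    NodeRing.ofX R t (f - g) = NodeRing.ofX R t f - NodeRing.ofX R t g := by
  simp [NodeRing.ofX]

theorem ofY_sub (t : R) (f g : PowerSeries R) :
    NodeRing.ofY R t (f - g) = NodeRing.ofY R t f - NodeRing.ofY R t g := by
  simp [NodeRing.ofY]

theorem ofY_add (t : R) (f g : PowerSeries R) :
    NodeRing.ofY R t (f + g) = NodeRing.ofY R t f + NodeRing.ofY R t g := by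
  simp [NodeRing.ofY]

theorem ofY_mul (t : R) (f g : PowerSeries R) :
    NodeRing.ofY R t (f * g) = NodeRing.ofY R t f * NodeRing.ofY R t g := by
  simp [NodeRing.ofY]

theorem ofY_X (t : R) : NodeRing.ofY R t PowerSeries.X = NodeRing.y R t := by
  simp [NodeRing.ofY, NodeRing.y]

theorem ofY_C (t : R) (r : R) : NodeRing.ofY R t (PowerSeries.C r) = algebraMap R _ r := by
  simp [NodeRing.ofY]
  rfl


/-- (E): every element of the node ring is `f(x) + y g(y)`. -/
theorem exists_nf (I : Ideal R) [IsAdicComplete I R] (t : R) (ht : t ∈ I) (a : NodeRing R t) :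
    ∃ f g : PowerSeries R, a = NodeRing.ofX R t f + NodeRing.y R t * NodeRing.ofY R t g := by
  obtain ⟨F, rfl⟩ := Ideal.Quotient.mk_surjective a
  obtain ⟨f, g, G, h⟩ := exists_normal_form I t ht F
  refine ⟨f, g, ?_⟩
  rw [← sub_eq_zero]
  change Ideal.Quotient.mk _ F - (Ideal.Quotient.mk _ _ + Ideal.Quotient.mk _ _ * Ideal.Quotient.mk _ _) = 0
  rw [← map_mul, ← map_add, ← map_sub, Ideal.Quotient.eq_zero_iff_mem, h]
  exact Ideal.mul_mem_right _ _ (Ideal.subset_span (Set.mem_singleton _))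

/-- (U): uniqueness of the normal form `f(x) + y g(y)`. -/
theorem nf_unique (I : Ideal R) [IsHausdorff I R] (t : R) (ht : t ∈ I) (f g : PowerSeries R)
    (h : NodeRing.ofX R t f + NodeRing.y R t * NodeRing.ofY R t g = 0) : f = 0 ∧ g = 0 := by
  change Ideal.Quotient.mk _ _ + Ideal.Quotient.mk _ _ * Ideal.Quotient.mk _ _ = 0 at h
  rw [← map_mul, ← map_add, Ideal.Quotient.eq_zero_iff_mem, Ideal.mem_span_singleton'] at h
  obtain ⟨G, hG⟩ := h
  exact normal_form_unique I t ht f g G (by rw [← hG, mul_comm])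

/-- (E'): every element of the node ring is `x f(x) + g(y)`. -/
theorem exists_nf' (I : Ideal R) [IsAdicComplete I R] (t : R) (ht : t ∈ I) (a : NodeRing R t) :
    ∃ f g : PowerSeries R, a = NodeRing.x R t * NodeRing.ofX R t f + NodeRing.ofY R t g := by
  obtain ⟨f, g, rfl⟩ := exists_nf I t ht a
  refine ⟨PowerSeries.mk fun n => PowerSeries.coeff (n + 1) f,
    PowerSeries.X * g + PowerSeries.C (PowerSeries.constantCoeff f), ?_⟩
  conv_lhs => rw [PowerSeries.eq_X_mul_shift_add_const f]
  rw [ofX_add, ofX_mul, ofX_X, ofX_C, ofY_add, ofY_mul, ofY_X, ofY_C]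
  ring

/-- (U'): uniqueness of the normal form `x f(x) + g(y)`. -/
theorem nf_unique' (I : Ideal R) [IsHausdorff I R] (t : R) (ht : t ∈ I) (f g : PowerSeries R)
    (h : NodeRing.x R t * NodeRing.ofX R t f + NodeRing.ofY R t g = 0) : f = 0 ∧ g = 0 := by
  have hg := PowerSeries.eq_X_mul_shift_add_const g
  set g' : PowerSeries R := PowerSeries.mk fun n => PowerSeries.coeff (n + 1) g with hg'
  set g0 : R := PowerSeries.constantCoeff g with hg0
  have h2 : NodeRing.ofX R t (PowerSeries.X * f + PowerSeries.C g0) +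
      NodeRing.y R t * NodeRing.ofY R t g' = 0 := by
    rw [← h, hg, ofX_add, ofX_mul, ofX_X, ofX_C, ofY_add, ofY_mul, ofY_X, ofY_C]
    ring
  obtain ⟨h3, h4⟩ := nf_unique I t ht _ _ h2
  have h5 : g0 = 0 := by
    have := congrArg PowerSeries.constantCoeff h3
    simpa using this
  rw [h5, map_zero, add_zero] at h3
  have h6 : f = 0 := by
    ext n
    have := congrArg (PowerSeries.coeff (n + 1)) h3
    rw [PowerSeries.coeff_succ_X_mul] at this
    simpa using this
  refine ⟨h6, ?_⟩
  rw [hg, h4, h5]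
  simp

end Groth.Agent.Lib.Seat90.NodeNFQ
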