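import Mathlib
import Groth.Prelude
import Groth.Agent.S7923

/-!
# Approximating sequences for a nondegenerate binary quadratic form (seat 90)

Analogue of `S7923` with `u v` replaced by `Q(u, v) = a u² + b u v + c v²`, `b² - 4ac` a unit.
-/

set_option autoImplicit false
set_option linter.unusedSectionVars false

universe u

open IsLocalRing

namespace Groth.Agent.Lib.Seat90.NodeQ

open Groth.Agent.S7923

variable {A B : Type u} [CommRing A] [IsLocalRing A] [CommRing B] [IsLocalRing B] [Algebra A B]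
  [IsLocalHom (algebraMap A B)]

/-- the quadratic form with coefficients in `A`, evaluated in `B` -/
def Qf (qa qb qc : A) (x y : B) : B :=
  algebraMap A B qa * x ^ 2 + algebraMap A B qb * x * y + algebraMap A B qc * y ^ 2

theorem Qf_sub (qa qb qc : A) (x y P Q : B) :
    Qf qa qb qc (x - P) (y - Q) = Qf qa qb qc x y
      - (2 * algebraMap A B qa * x + algebraMap A B qb * y) * P
      - (algebraMap A B qb * x + 2 * algebraMap A B qc * y) * Q + Qf qa qb qc P Q := by
  unfold Qf
  ring

theorem Qf_mem (qa qb qc : A) (I : Ideal B) (P Q : B) (hP : P ∈ I) (hQ : Q ∈ I) :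
    Qf qa qb qc P Q ∈ I * I := by
  unfold Qf
  refine add_mem (add_mem ?_ ?_) ?_
  · rw [pow_two, ← mul_assoc]
    exact Ideal.mul_mem_mul (Ideal.mul_mem_left _ _ hP) hP
  · exact Ideal.mul_mem_mul (Ideal.mul_mem_left _ _ hP) hQ
  · rw [pow_two, ← mul_assoc]
    exact Ideal.mul_mem_mul (Ideal.mul_mem_left _ _ hQ) hQ

/-- The partial derivatives of a nondegenerate form generate the same ideal as the variables. -/
theorem span_partials (qa qb qc : A) (hd : IsUnit (qb ^ 2 - 4 * qa * qc)) (u v : B) :
    Ideal.span {2 * algebraMap A B qa * u + algebraMap A B qb * v,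
      algebraMap A B qb * u + 2 * algebraMap A B qc * v} = Ideal.span {u, v} := by
  obtain ⟨d', hd'⟩ := hd.exists_left_inv
  have h1 := congrArg (algebraMap A B) hd'
  simp only [map_mul, map_sub, map_pow, map_one, map_ofNat] at h1
  apply le_antisymm
  · rw [Ideal.span_le]
    rintro x (rfl | rfl)
    · exact Ideal.mem_span_pair.2 ⟨2 * algebraMap A B qa, algebraMap A B qb, rfl⟩
    · exact Ideal.mem_span_pair.2 ⟨algebraMap A B qb, 2 * algebraMap A B qc, rfl⟩
  · rw [Ideal.span_le]
    rintro x (rfl | rfl)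
    · refine Ideal.mem_span_pair.2 ⟨-(algebraMap A B d') * (2 * algebraMap A B qc),
        algebraMap A B d' * algebraMap A B qb, ?_⟩
      linear_combination x * h1
    · refine Ideal.mem_span_pair.2 ⟨algebraMap A B d' * algebraMap A B qb,
        -(algebraMap A B d') * (2 * algebraMap A B qa), ?_⟩
      linear_combination x * h1

/-- The invariant of the construction. -/
def InvQ (qa qb qc : A) (u v : B) (n : ℕ) (t : B × B × A) : Prop :=
  t.1 ∈ maximalIdeal B ∧ t.2.1 ∈ maximalIdeal B ∧ t.2.2 ∈ maximalIdeal A ∧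
    t.1 - u ∈ (maximalIdeal A).map (algebraMap A B) ∧
    t.2.1 - v ∈ (maximalIdeal A).map (algebraMap A B) ∧
    Qf qa qb qc t.1 t.2.1 - algebraMap A B t.2.2 ∈
      (maximalIdeal A ^ (n + 1)).map (algebraMap A B)

theorem stepQ
    (hres : Function.Bijective (IsLocalRing.ResidueField.map (algebraMap A B)))
    (qa qb qc : A) (hd : IsUnit (qb ^ 2 - 4 * qa * qc))
    (u v : B)
    (hgen : maximalIdeal B = Ideal.span {u, v} ⊔ (maximalIdeal A).map (algebraMap A B))
    (n : ℕ) (t : B × B × A) (ht : InvQ qa qb qc u v n t) :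
    ∃ t' : B × B × A, InvQ qa qb qc u v (n + 1) t' ∧
      t'.1 - t.1 ∈ (maximalIdeal A ^ (n + 1)).map (algebraMap A B) ∧
      t'.2.1 - t.2.1 ∈ (maximalIdeal A ^ (n + 1)).map (algebraMap A B) ∧
      t'.2.2 - t.2.2 ∈ maximalIdeal A ^ (n + 1) := by
  obtain ⟨a, b, e⟩ := t
  obtain ⟨ha, hb, he, hau, hbv, hab⟩ := ht
  simp only at ha hb he hau hbv hab
  have hgen' : maximalIdeal B =
      Ideal.span {2 * algebraMap A B qa * u + algebraMap A B qb * v,
        algebraMap A B qb * u + 2 * algebraMap A B qc * v} ⊔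
        (maximalIdeal A).map (algebraMap A B) := by
    rw [span_partials qa qb qc hd u v]
    exact hgen
  have hU : (2 * algebraMap A B qa * a + algebraMap A B qb * b) -
      (2 * algebraMap A B qa * u + algebraMap A B qb * v) ∈
      (maximalIdeal A).map (algebraMap A B) := by
    have : (2 * algebraMap A B qa * a + algebraMap A B qb * b) -
        (2 * algebraMap A B qa * u + algebraMap A B qb * v) =
        2 * algebraMap A B qa * (a - u) + algebraMap A B qb * (b - v) := by ring
    rw [this]
    exact add_mem (Ideal.mul_mem_left _ _ hau) (Ideal.mul_mem_left _ _ hbv)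
  have hV : (algebraMap A B qb * a + 2 * algebraMap A B qc * b) -
      (algebraMap A B qb * u + 2 * algebraMap A B qc * v) ∈
      (maximalIdeal A).map (algebraMap A B) := by
    have : (algebraMap A B qb * a + 2 * algebraMap A B qc * b) -
        (algebraMap A B qb * u + 2 * algebraMap A B qc * v) =
        algebraMap A B qb * (a - u) + 2 * algebraMap A B qc * (b - v) := by ring
    rw [this]
    exact add_mem (Ideal.mul_mem_left _ _ hau) (Ideal.mul_mem_left _ _ hbv)
  obtain ⟨δ, hδ, P, hP, Q, hQ, r, hr, hx⟩ :=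
    decomp_ideal (2 * algebraMap A B qa * a + algebraMap A B qb * b)
      (algebraMap A B qb * a + 2 * algebraMap A B qc * b)
      (decomp_elt hres _ _ hgen' _ _ hU hV) (maximalIdeal A ^ (n + 1)) _ hab
  have hpow_le : maximalIdeal A ^ (n + 1) ≤ maximalIdeal A := Ideal.pow_le_self (by omega)
  have hmap_le : (maximalIdeal A ^ (n + 1)).map (algebraMap A B) ≤
      (maximalIdeal A).map (algebraMap A B) := Ideal.map_mono hpow_le
  refine ⟨(a - P, b - Q, e + δ), ⟨?_, ?_, ?_, ?_, ?_, ?_⟩, ?_, ?_, ?_⟩
  · exact sub_mem ha (map_max_le (hmap_le hP))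
  · exact sub_mem hb (map_max_le (hmap_le hQ))
  · exact add_mem he (hpow_le hδ)
  · have : a - P - u = (a - u) - P := by ring
    simp only
    rw [this]
    exact sub_mem hau (hmap_le hP)
  · have : b - Q - v = (b - v) - Q := by ring
    simp only
    rw [this]
    exact sub_mem hbv (hmap_le hQ)
  · simp only
    have key : Qf qa qb qc (a - P) (b - Q) - algebraMap A B (e + δ) = r + Qf qa qb qc P Q := by
      rw [Qf_sub, map_add]
      linear_combination hx
    rw [key]
    have hr' : r ∈ (maximalIdeal A ^ (n + 1 + 1)).map (algebraMap A B) := by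
      rw [pow_succ (maximalIdeal A) (n + 1)]
      exact hr
    have hPQ : Qf qa qb qc P Q ∈ (maximalIdeal A ^ (n + 1 + 1)).map (algebraMap A B) := by
      have h2 := Qf_mem qa qb qc _ P Q hP hQ
      rw [← Ideal.map_mul, ← pow_add] at h2
      exact Ideal.map_mono (Ideal.pow_le_pow_right (by omega)) h2
    exact add_mem hr' hPQ
  · simp only
    have : a - P - a = -P := by ring
    rw [this]
    exact neg_mem hP
  · simp only
    have : b - Q - b = -Q := by ring
    rw [this]
    exact neg_mem hQ
  · simp only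
    have : e + δ - e = δ := by ring
    rw [this]
    exact hδ

/-- Approximating sequences for `Q(u, v) ∈ 𝔪_A B`. -/
theorem exists_seq
    (hres : Function.Bijective (IsLocalRing.ResidueField.map (algebraMap A B)))
    (qa qb qc : A) (hd : IsUnit (qb ^ 2 - 4 * qa * qc))
    (u v : B) (hu : u ∈ maximalIdeal B) (hv : v ∈ maximalIdeal B)
    (huv : Qf qa qb qc u v ∈ (maximalIdeal A).map (algebraMap A B))
    (hgen : maximalIdeal B = Ideal.span {u, v} ⊔ (maximalIdeal A).map (algebraMap A B)) :
    ∃ (us vs : ℕ → B) (ε : ℕ → A), us 0 = u ∧ vs 0 = v ∧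
      ∀ n : ℕ, us n ∈ maximalIdeal B ∧ vs n ∈ maximalIdeal B ∧
        ε n ∈ maximalIdeal A ∧
        us (n + 1) - us n ∈ (maximalIdeal A ^ (n + 1)).map (algebraMap A B) ∧
        vs (n + 1) - vs n ∈ (maximalIdeal A ^ (n + 1)).map (algebraMap A B) ∧
        ε (n + 1) - ε n ∈ maximalIdeal A ^ (n + 1) ∧
        Qf qa qb qc (us n) (vs n) - algebraMap A B (ε n) ∈
          (maximalIdeal A ^ (n + 1)).map (algebraMap A B) := by
  have inv0 : InvQ qa qb qc u v 0 (u, v, (0 : A)) := by
    refine ⟨hu, hv, zero_mem _, ?_, ?_, ?_⟩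
    · simp
    · simp
    · simpa using huv
  let s : (n : ℕ) → {t : B × B × A // InvQ qa qb qc u v n t} := fun n =>
    Nat.rec (motive := fun n => {t : B × B × A // InvQ qa qb qc u v n t}) ⟨(u, v, 0), inv0⟩
      (fun n t => ⟨(stepQ hres qa qb qc hd u v hgen n t.1 t.2).choose,
        (stepQ hres qa qb qc hd u v hgen n t.1 t.2).choose_spec.1⟩) n
  have hs : ∀ n, (s (n + 1)).1 = (stepQ hres qa qb qc hd u v hgen n (s n).1 (s n).2).choose :=
    fun n => rfl
  refine ⟨fun n => (s n).1.1, fun n => (s n).1.2.1, fun n => (s n).1.2.2, rfl, rfl, ?_⟩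
  intro n
  obtain ⟨h1, h2, h3, -, -, h6⟩ := (s n).2
  have hspec := (stepQ hres qa qb qc hd u v hgen n (s n).1 (s n).2).choose_spec.2
  rw [← hs n] at hspec
  exact ⟨h1, h2, h3, hspec.1, hspec.2.1, hspec.2.2, h6⟩

end Groth.Agent.Lib.Seat90.NodeQ
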