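import Mathlib
import Groth.Prelude
import Groth.Agent.Lib.Seat90NodeCompl
import Groth.Agent.Lib.Seat90NodeQA

/-!
# The surjection `Â[[x,y]]/(Q - α) → B̂` for a nondegenerate binary quadratic form (seat 90)
-/

set_option autoImplicit false
set_option linter.unusedSectionVars false

universe u

open MvPowerSeries IsLocalRing

namespace Groth.Agent.Lib.Seat90.NodeQ

open Groth.Agent.Lib.Seat90.NodeCompl

variable (A B : Type u) [CommRing A] [IsLocalRing A] [IsNoetherianRing A]
  [CommRing B] [IsLocalRing B] [IsNoetherianRing B] [Algebra A B] [IsLocalHom (algebraMap A B)]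

theorem algebraMap_quot (I : Ideal (MvPowerSeries (Fin 2) (AdicCompletion (maximalIdeal A) A)))
    (a : A) :
    algebraMap A (MvPowerSeries (Fin 2) (AdicCompletion (maximalIdeal A) A) ⧸ I) a =
      Ideal.Quotient.mk I (C (algebraMap A (AdicCompletion (maximalIdeal A) A) a)) := by
  rw [← MvPowerSeries.algebraMap_apply]
  rfl

theorem mainQ
    (hres : Function.Bijective (IsLocalRing.ResidueField.map (algebraMap A B)))
    (qa qb qc : A) (hd : IsUnit (qb ^ 2 - 4 * qa * qc))
    (u v : B) (hu : u ∈ IsLocalRing.maximalIdeal B) (hv : v ∈ IsLocalRing.maximalIdeal B)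
    (huv : Qf qa qb qc u v ∈ (IsLocalRing.maximalIdeal A).map (algebraMap A B))
    (hgen : IsLocalRing.maximalIdeal B = Ideal.span {u, v} ⊔ (IsLocalRing.maximalIdeal A).map (algebraMap A B)) :
    ∃ (α : AdicCompletion (IsLocalRing.maximalIdeal A) A)
      (_ : α ∈ (IsLocalRing.maximalIdeal A).map (algebraMap A (AdicCompletion (IsLocalRing.maximalIdeal A) A)))
      (ψ : (MvPowerSeries (Fin 2) (AdicCompletion (IsLocalRing.maximalIdeal A) A) ⧸ Ideal.span
          {(C (algebraMap A (AdicCompletion (maximalIdeal A) A) qa) * X 0 ^ 2 +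
            C (algebraMap A (AdicCompletion (maximalIdeal A) A) qb) * X 0 * X 1 +
            C (algebraMap A (AdicCompletion (maximalIdeal A) A) qc) * X 1 ^ 2 - C α :
              MvPowerSeries (Fin 2) (AdicCompletion (maximalIdeal A) A))}) →ₐ[A]
        AdicCompletion (IsLocalRing.maximalIdeal B) B),
      Function.Surjective ψ := by
  obtain ⟨us, vs, ε, hu0, hv0, hseq⟩ := exists_seq hres qa qb qc hd u v hu hv huv hgen
  have hus : ∀ n, us (n + 1) - us n ∈ (maximalIdeal A ^ (n + 1)).map (algebraMap A B) :=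
    fun n => (hseq n).2.2.2.1
  have hvs : ∀ n, vs (n + 1) - vs n ∈ (maximalIdeal A ^ (n + 1)).map (algebraMap A B) :=
    fun n => (hseq n).2.2.2.2.1
  have hε : ∀ n, ε (n + 1) - ε n ∈ maximalIdeal A ^ (n + 1) := fun n => (hseq n).2.2.2.2.2.1
  have hprodseq : ∀ n, Qf qa qb qc (us n) (vs n) - algebraMap A B (ε n) ∈
      (maximalIdeal A ^ (n + 1)).map (algebraMap A B) := fun n => (hseq n).2.2.2.2.2.2
  set ut := lim (maximalIdeal B) us (fun n => map_pow_le A B (n + 1) (hus n)) with hut_def
  set vt := lim (maximalIdeal B) vs (fun n => map_pow_le A B (n + 1) (hvs n)) with hvt_def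
  set α := lim (maximalIdeal A) ε hε with hα_def
  have hαmem : α ∈ maximalIdeal (AdicCompletion (maximalIdeal A) A) :=
    lim_mem_maximalIdeal ε hε (hseq 1).2.2.1
  have hutmem : ut ∈ maximalIdeal (AdicCompletion (maximalIdeal B) B) :=
    lim_mem_maximalIdeal us _ (hseq 1).1
  have hvtmem : vt ∈ maximalIdeal (AdicCompletion (maximalIdeal B) B) :=
    lim_mem_maximalIdeal vs _ (hseq 1).2.1
  have hprod : algebraMap A (AdicCompletion (maximalIdeal B) B) qa * ut ^ 2 +
      algebraMap A (AdicCompletion (maximalIdeal B) B) qb * ut * vt +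
      algebraMap A (AdicCompletion (maximalIdeal B) B) qc * vt ^ 2 = hatMap A B α := by
    apply AdicCompletion.ext_evalₐ
    intro n
    rw [map_add, map_add, map_mul, map_mul, map_mul, map_mul, map_pow, map_pow,
      evalₐ_algebraMap, evalₐ_algebraMap, evalₐ_algebraMap, evalₐ_lim, evalₐ_lim, evalₐ_hatMap,
      evalₐ_lim, Ideal.quotientMap_mk, ← map_pow, ← map_pow, ← map_mul, ← map_mul, ← map_mul,
      ← map_mul, ← map_add, ← map_add, Ideal.Quotient.eq]
    exact Ideal.pow_le_pow_right (Nat.le_succ n) (map_pow_le A B (n + 1) (hprodseq n))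
  obtain ⟨Ψ, hΨX, hΨC⟩ := exists_psi A B ![ut, vt] (by
    intro s
    fin_cases s
    · exact hutmem
    · exact hvtmem)
  have hΨ0 : Ψ (X 0) = ut := hΨX 0
  have hΨ1 : Ψ (X 1) = vt := hΨX 1
  have hker : ∀ t ∈ Ideal.span {(C (algebraMap A (AdicCompletion (maximalIdeal A) A) qa) * X 0 ^ 2 +
        C (algebraMap A (AdicCompletion (maximalIdeal A) A) qb) * X 0 * X 1 +
        C (algebraMap A (AdicCompletion (maximalIdeal A) A) qc) * X 1 ^ 2 - C α :
      MvPowerSeries (Fin 2) (AdicCompletion (maximalIdeal A) A))}, Ψ t = 0 := by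
    intro t ht
    rw [Ideal.mem_span_singleton] at ht
    obtain ⟨c, rfl⟩ := ht
    rw [map_mul, map_sub, map_add, map_add, map_mul, map_mul, map_mul, map_mul, map_pow, map_pow,
      hΨ0, hΨ1, hΨC, hΨC, hΨC, hΨC, hatMap_algebraMap, hatMap_algebraMap, hatMap_algebraMap,
      hprod, sub_self, zero_mul]
  have hcomm : ∀ a : A, Ideal.Quotient.lift _ Ψ hker (algebraMap A _ a) =
      algebraMap A (AdicCompletion (maximalIdeal B) B) a := by
    intro a
    rw [algebraMap_quot, Ideal.Quotient.lift_mk, hΨC, hatMap_algebraMap]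
  -- the ideal generated by the image of the maximal ideal
  have hCmem : ∀ c ∈ maximalIdeal (AdicCompletion (maximalIdeal A) A),
      (C c : MvPowerSeries (Fin 2) (AdicCompletion (maximalIdeal A) A)) ∈
        maximalIdeal (MvPowerSeries (Fin 2) (AdicCompletion (maximalIdeal A) A)) := by
    intro c hc
    rw [Groth.Agent.Lib.Helper19.maximalIdeal_eq_coeffIdeal,
      Groth.Agent.Lib.Helper19.mem_coeffIdeal_one, constantCoeff_C]
    exact hc
  have hXmem : ∀ s : Fin 2, (X s : MvPowerSeries (Fin 2) (AdicCompletion (maximalIdeal A) A)) ∈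
        maximalIdeal (MvPowerSeries (Fin 2) (AdicCompletion (maximalIdeal A) A)) := by
    intro s
    rw [Groth.Agent.Lib.Helper19.maximalIdeal_eq_coeffIdeal,
      Groth.Agent.Lib.Helper19.mem_coeffIdeal_one, constantCoeff_X]
    exact Ideal.zero_mem _
  have h𝔞le : (maximalIdeal A).map (algebraMap A (AdicCompletion (maximalIdeal B) B)) ≤
      (maximalIdeal (MvPowerSeries (Fin 2) (AdicCompletion (maximalIdeal A) A))).map Ψ := by
    rw [Ideal.map_le_iff_le_comap]
    intro a ha
    rw [Ideal.mem_comap, ← hatMap_algebraMap, ← hΨC]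
    apply Ideal.mem_map_of_mem
    apply hCmem
    rw [AdicCompletion.maximalIdeal_eq_map]
    exact Ideal.mem_map_of_mem _ ha
  have hutsub := lim_sub_mem A B us hus
  have hvtsub := lim_sub_mem A B vs hvs
  rw [hu0] at hutsub
  rw [hv0] at hvtsub
  have hmaxge : maximalIdeal (AdicCompletion (maximalIdeal B) B) ≤
      (maximalIdeal (MvPowerSeries (Fin 2) (AdicCompletion (maximalIdeal A) A))).map Ψ := by
    rw [AdicCompletion.maximalIdeal_eq_map]
    have hmB : (maximalIdeal B).map (algebraMap B (AdicCompletion (maximalIdeal B) B)) =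
        (Ideal.span {u, v} ⊔ (maximalIdeal A).map (algebraMap A B)).map
          (algebraMap B (AdicCompletion (maximalIdeal B) B)) :=
      congrArg (Ideal.map (algebraMap B (AdicCompletion (maximalIdeal B) B))) hgen
    rw [hmB, Ideal.map_sup, Ideal.map_map, ← algebraMap_eq_comp, sup_le_iff]
    refine ⟨?_, h𝔞le⟩
    rw [Ideal.map_span, Ideal.span_le]
    rintro _ ⟨b, hb, rfl⟩
    rcases hb with rfl | hb
    · have h1 : algebraMap B (AdicCompletion (maximalIdeal B) B) b =
          ut - (ut - algebraMap B (AdicCompletion (maximalIdeal B) B) b) := by ring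
      rw [SetLike.mem_coe, h1]
      refine Ideal.sub_mem _ ?_ (h𝔞le hutsub)
      rw [← hΨ0]
      exact Ideal.mem_map_of_mem _ (hXmem 0)
    · rw [Set.mem_singleton_iff] at hb
      subst hb
      have h1 : algebraMap B (AdicCompletion (maximalIdeal B) B) b =
          vt - (vt - algebraMap B (AdicCompletion (maximalIdeal B) B) b) := by ring
      rw [SetLike.mem_coe, h1]
      refine Ideal.sub_mem _ ?_ (h𝔞le hvtsub)
      rw [← hΨ1]
      exact Ideal.mem_map_of_mem _ (hXmem 1)
  have hmaxle : (maximalIdeal (MvPowerSeries (Fin 2) (AdicCompletion (maximalIdeal A) A))).map Ψ ≤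
      maximalIdeal (AdicCompletion (maximalIdeal B) B) := by
    rw [Ideal.map_le_iff_le_comap]
    intro t ht
    rw [Ideal.mem_comap]
    have hc : constantCoeff t ∈ maximalIdeal (AdicCompletion (maximalIdeal A) A) := by
      rw [Groth.Agent.Lib.Helper19.maximalIdeal_eq_coeffIdeal,
        Groth.Agent.Lib.Helper19.mem_coeffIdeal_one] at ht
      exact ht
    have hvars : t - C (constantCoeff t) ∈
        Groth.Agent.Lib.Helper19.varsIdeal (Fin 2) (AdicCompletion (maximalIdeal A) A) := by
      have := Groth.Agent.Lib.Helper19.mem_varsIdeal_pow_of_coeff_eq_zero 1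
        (t - C (constantCoeff t)) (fun β hβ => by
          have hβ0 : β = 0 := by
            rw [Nat.lt_one_iff, Finsupp.degree_eq_zero_iff] at hβ
            exact hβ
          subst hβ0
          rw [map_sub, coeff_zero_eq_constantCoeff_apply, coeff_zero_eq_constantCoeff_apply,
            constantCoeff_C, sub_self])
      rwa [pow_one] at this
    have h1 : t = C (constantCoeff t) + (t - C (constantCoeff t)) := by ring
    rw [h1, map_add]
    apply Ideal.add_mem
    · rw [hΨC]
      exact map_algebraMap_le A B (hatMap_mem A B _ hc)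
    · have h2 : (Groth.Agent.Lib.Helper19.varsIdeal (Fin 2)
          (AdicCompletion (maximalIdeal A) A)).map Ψ ≤
          maximalIdeal (AdicCompletion (maximalIdeal B) B) := by
        rw [Groth.Agent.Lib.Helper19.varsIdeal, Ideal.map_span, Ideal.span_le]
        rintro _ ⟨_, ⟨s, rfl⟩, rfl⟩
        rw [SetLike.mem_coe, hΨX]
        fin_cases s
        · exact hutmem
        · exact hvtmem
      exact h2 (Ideal.mem_map_of_mem _ hvars)
  haveI : IsNoetherianRing (AdicCompletion (maximalIdeal B) B) :=
    Groth.Agent.Lib.Helper19.isNoetherianRing_adicCompletion _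
  haveI : IsAdicComplete (maximalIdeal (MvPowerSeries (Fin 2) (AdicCompletion (maximalIdeal A) A)))
      (MvPowerSeries (Fin 2) (AdicCompletion (maximalIdeal A) A)) :=
    Groth.Agent.Lib.Helper19.isAdicComplete_mvPowerSeries
  haveI : IsHausdorff ((maximalIdeal (MvPowerSeries (Fin 2)
      (AdicCompletion (maximalIdeal A) A))).map Ψ) (AdicCompletion (maximalIdeal B) B) :=
    IsHausdorff.of_isLocalRing _ _ (fun h => (maximalIdeal.isMaximal _).ne_top
      (top_le_iff.mp (h ▸ hmaxle)))
  have hsurjΨ : Function.Surjective Ψ := by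
    apply surjective_of_mk_map_comp_surjective Ψ
      (I := maximalIdeal (MvPowerSeries (Fin 2) (AdicCompletion (maximalIdeal A) A)))
    intro y
    obtain ⟨y, rfl⟩ := Ideal.Quotient.mk_surjective y
    obtain ⟨a, ha⟩ : ∃ a : A, y - algebraMap A (AdicCompletion (maximalIdeal B) B) a ∈
        maximalIdeal (AdicCompletion (maximalIdeal B) B) := by
      obtain ⟨abar, habar⟩ := hres.2 (AdicCompletion.evalOneₐ (maximalIdeal B) y)
      obtain ⟨a, rfl⟩ := IsLocalRing.residue_surjective abar
      refine ⟨a, ?_⟩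
      rw [AdicCompletion.maximalIdeal_eq_map,
        ← AdicCompletion.ker_evalOneₐ_eq_map _ (IsNoetherian.noetherian _), RingHom.mem_ker]
      change AdicCompletion.evalOneₐ (maximalIdeal B) (y - _) = 0
      rw [map_sub, ← habar, AdicCompletion.algebraMap_apply, AdicCompletion.evalOneₐ_of,
        sub_eq_zero]
      rfl
    refine ⟨C (algebraMap A (AdicCompletion (maximalIdeal A) A) a), ?_⟩
    rw [RingHom.comp_apply, Ideal.Quotient.eq, hΨC, hatMap_algebraMap]
    apply hmaxge
    rw [← neg_sub]
    exact neg_mem ha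
  refine ⟨α, by rw [← AdicCompletion.maximalIdeal_eq_map]; exact hαmem,
    AlgHom.mk (Ideal.Quotient.lift _ Ψ hker) hcomm, ?_⟩
  exact Ideal.Quotient.lift_surjective_of_surjective _ hker hsurjΨ

end Groth.Agent.Lib.Seat90.NodeQ
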