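import Mathlib
import Groth.Prelude
import Groth.Agent.Lib.Seat90NodeCompl5

/-!
# Injectivity of `Â[[x,y]]/(G) → B̂` in the flat case, for a general generator `G` (seat 90)

Generalisation of `Seat90NodeCompl4/5` (`G = xy - α`) to an arbitrary power series `G` whose reduction
`Ḡ` modulo `𝔪_Â` presents the completed fibre ring.
-/

set_option autoImplicit false
set_option linter.unusedSectionVars false
set_option linter.style.haveILetI false

universe u

open MvPowerSeries IsLocalRing

namespace Groth.Agent.Lib.Seat90.NodeQ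

open Groth.Agent.Lib.Seat90.NodeCompl

variable (A B : Type u) [CommRing A] [IsLocalRing A] [IsNoetherianRing A]
  [CommRing B] [IsLocalRing B] [IsNoetherianRing B] [Algebra A B] [IsLocalHom (algebraMap A B)]

/-- the reduction `Â → k` -/
noncomputable def rA : AdicCompletion (maximalIdeal A) A →+* ResidueField A :=
  (AdicCompletion.evalOneₐ (maximalIdeal A)).toRingHom

theorem rA_algebraMap (a : A) :
    rA A (algebraMap A (AdicCompletion (maximalIdeal A) A) a) = residue A a := by
  unfold rA
  change AdicCompletion.evalOneₐ (maximalIdeal A) _ = _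
  rw [AdicCompletion.algebraMap_apply, AdicCompletion.evalOneₐ_of]
  rfl

theorem exists_sigma_gen (G : MvPowerSeries (Fin 2) (AdicCompletion (maximalIdeal A) A))
    (Gbar : MvPowerSeries (Fin 2) (ResidueField A))
    (hG : MvPowerSeries.map (rA A) G = Gbar) :
    ∃ σ : (MvPowerSeries (Fin 2) (AdicCompletion (maximalIdeal A) A) ⧸ Ideal.span {G}) →+*
        (MvPowerSeries (Fin 2) (ResidueField A) ⧸ Ideal.span {Gbar}),
      Function.Surjective σ ∧
        RingHom.ker σ ≤ (maximalIdeal A).map (algebraMap A _) := by
  have hfg : (maximalIdeal A).FG := IsNoetherian.noetherian _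
  let r : AdicCompletion (maximalIdeal A) A →+* ResidueField A := rA A
  have hr_surj : Function.Surjective r := AdicCompletion.evalOneₐ_surjective _
  have hr_ker : RingHom.ker r = (maximalIdeal A).map
      (algebraMap A (AdicCompletion (maximalIdeal A) A)) :=
    AdicCompletion.ker_evalOneₐ_eq_map _ hfg
  let σ₀ : MvPowerSeries (Fin 2) (AdicCompletion (maximalIdeal A) A) →+*
      MvPowerSeries (Fin 2) (ResidueField A) := MvPowerSeries.map r
  have hσ₀surj : Function.Surjective σ₀ := by
    intro g
    choose c hc using hr_surj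
    refine ⟨fun β => c (coeff β g), ?_⟩
    ext β
    rw [coeff_map]
    exact hc _
  have hσ₀gen : σ₀ G = Gbar := hG
  have hkill : ∀ t ∈ Ideal.span {(G :
      MvPowerSeries (Fin 2) (AdicCompletion (maximalIdeal A) A))},
      ((Ideal.Quotient.mk (Ideal.span {(Gbar :
        MvPowerSeries (Fin 2) (ResidueField A))})).comp σ₀) t = 0 := by
    intro t ht
    rw [Ideal.mem_span_singleton] at ht
    obtain ⟨c, rfl⟩ := ht
    rw [RingHom.comp_apply, map_mul, hσ₀gen, Ideal.Quotient.eq_zero_iff_mem]
    exact Ideal.mul_mem_right _ _ (Ideal.subset_span rfl)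
  refine ⟨Ideal.Quotient.lift _ _ hkill, ?_, ?_⟩
  · apply Ideal.Quotient.lift_surjective_of_surjective
    exact Ideal.Quotient.mk_surjective.comp hσ₀surj
  · intro s hs
    obtain ⟨t, rfl⟩ := Ideal.Quotient.mk_surjective s
    rw [RingHom.mem_ker, Ideal.Quotient.lift_mk, RingHom.comp_apply,
      Ideal.Quotient.eq_zero_iff_mem, Ideal.mem_span_singleton] at hs
    obtain ⟨g, hg⟩ := hs
    obtain ⟨g', rfl⟩ := hσ₀surj g
    have h1 : σ₀ (t - G * g') = 0 := by
      rw [map_sub, map_mul, hσ₀gen, hg, sub_self]
    have h2 : t - G * g' ∈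
        ((maximalIdeal A).map (algebraMap A (AdicCompletion (maximalIdeal A) A))).map
          (C : _ →+* MvPowerSeries (Fin 2) (AdicCompletion (maximalIdeal A) A)) := by
      apply mem_map_C_of_coeff_mem _ (hfg.map _)
      intro β
      rw [← hr_ker, RingHom.mem_ker]
      have := congrArg (coeff β) h1
      rwa [coeff_map, map_zero] at this
    have h3 : Ideal.Quotient.mk (Ideal.span {(G :
        MvPowerSeries (Fin 2) (AdicCompletion (maximalIdeal A) A))}) t =
        Ideal.Quotient.mk _ (t - G * g') := by
      rw [Ideal.Quotient.eq]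
      have : t - (t - G * g') = G * g' := by ring
      rw [this]
      exact Ideal.mul_mem_right _ _ (Ideal.subset_span rfl)
    rw [h3]
    have h4 := Ideal.mem_map_of_mem (Ideal.Quotient.mk (Ideal.span {(G :
        MvPowerSeries (Fin 2) (AdicCompletion (maximalIdeal A) A))})) h2
    rw [Ideal.map_map, Ideal.map_map] at h4
    convert h4 using 2
    refine RingHom.ext fun a => ?_
    rw [RingHom.comp_apply, RingHom.comp_apply, ← MvPowerSeries.algebraMap_apply]
    rfl


theorem injective_of_flat_gen [Module.Flat A B]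
    (G : MvPowerSeries (Fin 2) (AdicCompletion (maximalIdeal A) A))
    (Gbar : MvPowerSeries (Fin 2) (ResidueField A))
    (hG : MvPowerSeries.map (rA A) G = Gbar)
    (ψ : (MvPowerSeries (Fin 2) (AdicCompletion (maximalIdeal A) A) ⧸ Ideal.span {G}) →ₐ[A]
        AdicCompletion (maximalIdeal B) B)
    (hψ : Function.Surjective ψ)
    (e : AdicCompletion ((maximalIdeal B).map (Ideal.Quotient.mk
          ((maximalIdeal A).map (algebraMap A B))))
          (B ⧸ (maximalIdeal A).map (algebraMap A B)) ≃+*
        (MvPowerSeries (Fin 2) (ResidueField A) ⧸ Ideal.span {Gbar})) :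
    Function.Injective ψ := by
  haveI : IsNoetherianRing (AdicCompletion (maximalIdeal A) A) :=
    Groth.Agent.Lib.Helper19.isNoetherianRing_adicCompletion _
  haveI : IsNoetherianRing (AdicCompletion (maximalIdeal B) B) :=
    Groth.Agent.Lib.Helper19.isNoetherianRing_adicCompletion _
  -- notation
  set J := (maximalIdeal A).map (algebraMap A B) with hJ
  set S := (MvPowerSeries (Fin 2) (AdicCompletion (maximalIdeal A) A) ⧸ Ideal.span {G}) with hS
  -- the reduction σ
  obtain ⟨σ, hσsurj, hσker⟩ := exists_sigma_gen A G Gbar hG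
  -- θ
  let θ : S →+* (MvPowerSeries (Fin 2) (ResidueField A) ⧸ Ideal.span {Gbar}) :=
    e.toRingHom.comp ((quotCompl J).comp ψ.toRingHom)
  have hθsurj : Function.Surjective θ :=
    e.surjective.comp ((quotCompl_surjective J).comp hψ)
  have hθM : (maximalIdeal A).map (algebraMap A S) ≤ RingHom.ker θ := by
    rw [Ideal.map_le_iff_le_comap]
    intro a ha
    rw [Ideal.mem_comap, RingHom.mem_ker]
    change e (quotCompl J (ψ (algebraMap A S a))) = 0
    rw [ψ.commutes, algebraMap_eq_comp, RingHom.comp_apply, quotCompl_algebraMap,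
      Ideal.Quotient.eq_zero_iff_mem.mpr (Ideal.mem_map_of_mem _ ha), map_zero, map_zero]
  have hker1 : RingHom.ker θ ≤ RingHom.ker σ :=
    ker_le_of_surjective σ θ hσsurj hθsurj (hσker.trans hθM)
  have hψθ : RingHom.ker ψ.toRingHom ≤ RingHom.ker θ := by
    intro s hs
    rw [RingHom.mem_ker] at hs ⊢
    change e (quotCompl J (ψ.toRingHom s)) = 0
    rw [hs, map_zero, map_zero]
  have hKM : RingHom.ker ψ.toRingHom ≤ (maximalIdeal A).map (algebraMap A S) :=
    hψθ.trans (hker1.trans hσker)
  -- flatness of B̂ over A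
  haveI : IsScalarTower A B (AdicCompletion (maximalIdeal B) B) :=
    IsScalarTower.of_algebraMap_eq fun a => by
      rw [algebraMap_eq_comp]; rfl
  haveI : Module.Flat A (AdicCompletion (maximalIdeal B) B) :=
    Module.Flat.trans A B (AdicCompletion (maximalIdeal B) B)
  -- generators of the maximal ideal
  obtain ⟨r, g, hg⟩ := Submodule.fg_iff_exists_fin_generating_family.1
    (IsNoetherian.noetherian (maximalIdeal A))
  have hMspan : (maximalIdeal A).map (algebraMap A S) =
      Ideal.span (Set.range fun i => algebraMap A S (g i)) := by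
    have h1 : (maximalIdeal A).map (algebraMap A S) =
        (Ideal.span (Set.range g)).map (algebraMap A S) :=
      congrArg (Ideal.map (algebraMap A S)) hg.symm
    rw [h1, Ideal.map_span, ← Set.range_comp]
    rfl
  -- locality
  haveI : Nontrivial S := hψ.nontrivial
  haveI : IsLocalRing S :=
    IsLocalRing.of_surjective' (Ideal.Quotient.mk _) Ideal.Quotient.mk_surjective
  have hMmax : (maximalIdeal A).map (algebraMap A S) ≤ maximalIdeal S := by
    rw [Ideal.map_le_iff_le_comap]
    intro a ha
    rw [Ideal.mem_comap, mem_maximalIdeal, mem_nonunits_iff]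
    intro hunit
    have h1 : IsUnit (ψ (algebraMap A S a)) := hunit.map ψ
    rw [ψ.commutes] at h1
    have h2 : algebraMap A (AdicCompletion (maximalIdeal B) B) a ∈
        maximalIdeal (AdicCompletion (maximalIdeal B) B) :=
      map_algebraMap_le A B (Ideal.mem_map_of_mem _ ha)
    exact h2 h1
  -- Nakayama
  have hKle : RingHom.ker ψ.toRingHom ≤
      (maximalIdeal A).map (algebraMap A S) • RingHom.ker ψ.toRingHom := by
    intro s hs
    have hsM := hKM hs
    rw [hMspan] at hsM
    obtain ⟨c, hc⟩ := Ideal.mem_span_range_iff_exists_fun.mp hsM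
    have hsum : s = ∑ i, g i • c i := by
      rw [← hc]
      refine Finset.sum_congr rfl fun i _ => ?_
      exact (mul_comm (c i) _).trans (Algebra.smul_def (g i) (c i)).symm
    have hψs : ψ.toLinearMap (∑ i, g i • c i) = 0 := by
      rw [← hsum]; exact hs
    obtain ⟨k, hk, hkeq⟩ := exists_ker_coeffs_of_flat ψ.toLinearMap hψ g c hψs
    rw [hsum, hkeq]
    refine Submodule.sum_mem _ fun i _ => ?_
    rw [Algebra.smul_def]
    exact Submodule.smul_mem_smul (Ideal.mem_map_of_mem _ (hg ▸ Submodule.subset_span ⟨i, rfl⟩))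
      (hk i)
  have hbot : RingHom.ker ψ.toRingHom = ⊥ :=
    Submodule.eq_bot_of_le_smul_of_le_jacobson_bot _ _ (IsNoetherian.noetherian _) hKle
      (hMmax.trans (IsLocalRing.maximalIdeal_le_jacobson _))
  exact (RingHom.injective_iff_ker_eq_bot ψ.toRingHom).mpr hbot


end Groth.Agent.Lib.Seat90.NodeQ
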