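import Mathlib
import Groth.Prelude
import Groth.Agent.Lib.Seat90NodeBridge3

/-!
# The ring `k[[x,y]]/(Ḡ)` with `Ḡ(0) = 0` and local rings mapping onto it (seat 90)

Generalises `Seat90NodeBridge2` (`Ḡ = xy`).
-/

set_option autoImplicit false
set_option linter.unusedSectionVars false
set_option linter.style.haveILetI false

universe u

open MvPowerSeries IsLocalRing

namespace Groth.Agent.Lib.Seat90.NodeQ

section Aug

variable (k : Type u) [Field k]

variable (Gbar : MvPowerSeries (Fin 2) k) (h0 : constantCoeff Gbar = 0)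

/-- `k[[x,y]]/(Ḡ)` -/
abbrev NG : Type u := MvPowerSeries (Fin 2) k ⧸ Ideal.span {Gbar}

/-- the augmentation `k[[x,y]]/(xy) → k` -/
noncomputable def augG : NG k Gbar →+* k :=
  Ideal.Quotient.lift _ (constantCoeff : MvPowerSeries (Fin 2) k →+* k) (by
    intro t ht
    rw [Ideal.mem_span_singleton] at ht
    obtain ⟨c, rfl⟩ := ht
    rw [map_mul, h0, zero_mul])

theorem augG_mk (f : MvPowerSeries (Fin 2) k) :
    augG k Gbar h0 (Ideal.Quotient.mk _ f) = constantCoeff f :=
  Ideal.Quotient.lift_mk _ _ _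

include h0 in
theorem nontrivial_NG : Nontrivial (NG k Gbar) :=
  ⟨⟨0, 1, fun h => by
    have := congrArg (augG k Gbar h0) h
    rw [map_zero, map_one] at this
    exact zero_ne_one this⟩⟩

theorem not_isUnit_of_augG_eq_zero (z : NG k Gbar) (hz : augG k Gbar h0 z = 0) :
    ¬ IsUnit z := fun h => by
  have := h.map (augG k Gbar h0)
  rw [hz] at this
  exact not_isUnit_zero this

include h0 in
/-- A local ring mapping onto `k[[x,y]]/(Ḡ)`: coordinates. -/
theorem exists_uv_gen {R : Type u} [CommRing R] [IsLocalRing R]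
    (ε : R →+* NG k Gbar) (hε : Function.Surjective ε) :
    ∃ u v : R, u ∈ maximalIdeal R ∧ v ∈ maximalIdeal R ∧
      ε u = Ideal.Quotient.mk _ (X 0) ∧ ε v = Ideal.Quotient.mk _ (X 1) ∧
      maximalIdeal R = Ideal.span {u, v} ⊔ RingHom.ker ε := by
  haveI := nontrivial_NG k Gbar h0
  haveI : IsLocalHom ε := IsLocalHom.of_surjective ε hε
  obtain ⟨u, hu⟩ := hε (Ideal.Quotient.mk _ (X 0))
  obtain ⟨v, hv⟩ := hε (Ideal.Quotient.mk _ (X 1))
  have hnon : ∀ r : R, augG k Gbar h0 (ε r) = 0 → r ∈ maximalIdeal R := by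
    intro r hr
    rw [mem_maximalIdeal, mem_nonunits_iff]
    intro h
    exact not_isUnit_of_augG_eq_zero k Gbar h0 _ hr (h.map ε)
  have hum : u ∈ maximalIdeal R := hnon u (by rw [hu, augG_mk, constantCoeff_X])
  have hvm : v ∈ maximalIdeal R := hnon v (by rw [hv, augG_mk, constantCoeff_X])
  have hker : RingHom.ker ε ≤ maximalIdeal R :=
    IsLocalRing.le_maximalIdeal (RingHom.ker_ne_top ε)
  refine ⟨u, v, hum, hvm, hu, hv, ?_⟩
  apply le_antisymm
  · intro b hb
    obtain ⟨f, hf⟩ := Ideal.Quotient.mk_surjective (ε b)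
    have hf0 : constantCoeff f = 0 := by
      by_contra hne
      have h1 : IsUnit f := isUnit_iff_constantCoeff.2 (isUnit_iff_ne_zero.2 hne)
      have h2 : IsUnit (ε b) := by
        rw [← hf]
        exact h1.map _
      have h3 : IsUnit b := isUnit_of_map_unit ε b h2
      exact hb h3
    obtain ⟨p, q, hpq⟩ := Ideal.mem_span_pair.1
      (Groth.Agent.Lib.Seat90.NodeBridge.mem_span_pair_of_constantCoeff_eq_zero k f hf0)
    obtain ⟨P, hP⟩ := hε (Ideal.Quotient.mk _ p)
    obtain ⟨Q, hQ⟩ := hε (Ideal.Quotient.mk _ q)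
    have h4 : b - (P * u + Q * v) ∈ RingHom.ker ε := by
      rw [RingHom.mem_ker, map_sub, map_add, map_mul, map_mul, hP, hQ, hu, hv, ← hf,
        ← map_mul, ← map_mul, ← map_add, hpq, sub_self]
    have h5 : b = (P * u + Q * v) + (b - (P * u + Q * v)) := by ring
    rw [h5]
    exact Submodule.add_mem_sup (Ideal.mem_span_pair.2 ⟨P, Q, rfl⟩) h4
  · rw [sup_le_iff, Ideal.span_le]
    refine ⟨?_, hker⟩
    rintro x (rfl | rfl)
    · exact hum
    · exact hvm

end Aug

end Groth.Agent.Lib.Seat90.NodeQ
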