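import Mathlib
import Groth.Prelude
import Groth.Agent.Lib.Seat90NodeQB
import Groth.Agent.Lib.Seat90NodeQC
import Groth.Agent.Lib.Seat90NodeQD

/-!
# Completion of a flat local algebra whose completed fibre ring is `k[[x,y]]/(q)` (seat 90)

`coreQ`: for a flat local homomorphism `A → B` of Noetherian local rings such that the completion
of `B/𝔪_A B` is `k[[x,y]]/(q)` compatibly with `k = A/𝔪_A`, `q` a binary quadratic form with
nonzero discriminant, `B̂` is `Â[[x,y]]/(Q - h)` for a lift `Q` of `q` and some `h ∈ 𝔪_Â`,
compatibly with `A`.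
-/

set_option autoImplicit false
set_option linter.unusedSectionVars false
set_option linter.style.haveILetI false

universe u

open MvPowerSeries IsLocalRing

namespace Groth.Agent.Lib.Seat90.NodeQ

open Groth.Agent.Lib.Seat90.NodeCompl Groth.Agent.Lib.Seat90.NodeBridge

variable (A B : Type u) [CommRing A] [IsLocalRing A] [IsNoetherianRing A]
  [CommRing B] [IsLocalRing B] [Algebra A B] [IsLocalHom (algebraMap A B)]

/-- the reduced quadratic form -/
noncomputable def qbar (qa qb qc : A) : MvPowerSeries (Fin 2) (ResidueField A) :=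
  C (residue A qa) * X 0 ^ 2 + C (residue A qb) * X 0 * X 1 + C (residue A qc) * X 1 ^ 2

theorem constantCoeff_qbar (qa qb qc : A) : constantCoeff (qbar A qa qb qc) = 0 := by
  unfold qbar
  simp

/-- The residue field extension is trivial when the completed fibre ring is `k[[x,y]]/(xy)`
compatibly with `k`. -/
theorem bijective_residue_of_equiv_gen (Gbar : MvPowerSeries (Fin 2) (ResidueField A))
    (h0 : constantCoeff Gbar = 0)
    (e₀ : AdicCompletion ((maximalIdeal B).map (Ideal.Quotient.mk
          ((maximalIdeal A).map (algebraMap A B))))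
          (B ⧸ (maximalIdeal A).map (algebraMap A B)) ≃+* NG (ResidueField A) Gbar)
    (he₀ : ∀ a : A, e₀ (algebraMap (B ⧸ (maximalIdeal A).map (algebraMap A B)) _
          (Ideal.Quotient.mk _ (algebraMap A B a))) =
        Ideal.Quotient.mk _ (C (residue A a))) :
    Function.Bijective (ResidueField.map (algebraMap A B)) := by
  refine ⟨(ResidueField.map (algebraMap A B)).injective, ?_⟩
  intro y
  obtain ⟨b, rfl⟩ := residue_surjective y
  obtain ⟨a, ha⟩ := residue_surjective
    (augG _ Gbar h0 (e₀ (algebraMap (B ⧸ (maximalIdeal A).map (algebraMap A B)) _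
      (Ideal.Quotient.mk _ b))))
  refine ⟨residue A a, ?_⟩
  rw [ResidueField.map_residue]
  symm
  rw [← sub_eq_zero, ← map_sub, residue_eq_zero_iff, mem_maximalIdeal, mem_nonunits_iff]
  intro hunit
  have h1 : augG _ Gbar h0 (e₀ (algebraMap (B ⧸ (maximalIdeal A).map (algebraMap A B)) _
      (Ideal.Quotient.mk _ (b - algebraMap A B a)))) = 0 := by
    rw [map_sub, map_sub, map_sub, map_sub, he₀, augG_mk, constantCoeff_C, ← ha, sub_self]
  exact not_isUnit_of_augG_eq_zero _ Gbar h0 _ h1 (((hunit.map _).map _).map _)


variable [IsNoetherianRing B]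

theorem resultQ [Module.Flat A B]
    (hres : Function.Bijective (IsLocalRing.ResidueField.map (algebraMap A B)))
    (qa qb qc : A) (hd : IsUnit (qb ^ 2 - 4 * qa * qc))
    (u v : B) (hu : u ∈ maximalIdeal B) (hv : v ∈ maximalIdeal B)
    (huv : Qf qa qb qc u v ∈ (maximalIdeal A).map (algebraMap A B))
    (hgen : maximalIdeal B = Ideal.span {u, v} ⊔ (maximalIdeal A).map (algebraMap A B))
    (e : AdicCompletion ((maximalIdeal B).map (Ideal.Quotient.mk
          ((maximalIdeal A).map (algebraMap A B))))
          (B ⧸ (maximalIdeal A).map (algebraMap A B)) ≃+*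
        NG (ResidueField A) (qbar A qa qb qc)) :
    ∃ (α : AdicCompletion (maximalIdeal A) A)
      (_ : α ∈ (maximalIdeal A).map (algebraMap A (AdicCompletion (maximalIdeal A) A)))
      (_ : (MvPowerSeries (Fin 2) (AdicCompletion (maximalIdeal A) A) ⧸ Ideal.span
          {(C (algebraMap A (AdicCompletion (maximalIdeal A) A) qa) * X 0 ^ 2 +
            C (algebraMap A (AdicCompletion (maximalIdeal A) A) qb) * X 0 * X 1 +
            C (algebraMap A (AdicCompletion (maximalIdeal A) A) qc) * X 1 ^ 2 - C α :
              MvPowerSeries (Fin 2) (AdicCompletion (maximalIdeal A) A))}) ≃ₐ[A]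
        AdicCompletion (maximalIdeal B) B), True := by
  obtain ⟨α, hα, ψ, hsurj⟩ := mainQ A B hres qa qb qc hd u v hu hv huv hgen
  have hrα : rA A α = 0 := by
    have hker : RingHom.ker (rA A) =
        (maximalIdeal A).map (algebraMap A (AdicCompletion (maximalIdeal A) A)) :=
      AdicCompletion.ker_evalOneₐ_eq_map _ (IsNoetherian.noetherian _)
    have h1 : α ∈ RingHom.ker (rA A) := by
      rw [hker]
      exact hα
    exact h1
  have hG : MvPowerSeries.map (rA A)
      (C (algebraMap A (AdicCompletion (maximalIdeal A) A) qa) * X 0 ^ 2 +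
        C (algebraMap A (AdicCompletion (maximalIdeal A) A) qb) * X 0 * X 1 +
        C (algebraMap A (AdicCompletion (maximalIdeal A) A) qc) * X 1 ^ 2 - C α) =
      qbar A qa qb qc := by
    unfold qbar
    rw [map_sub, map_add, map_add, map_mul, map_mul, map_mul, map_mul, map_pow, map_pow,
      MvPowerSeries.map_C, MvPowerSeries.map_C, MvPowerSeries.map_C, MvPowerSeries.map_C,
      MvPowerSeries.map_X, MvPowerSeries.map_X, rA_algebraMap, rA_algebraMap, rA_algebraMap,
      hrα, map_zero, sub_zero]
  have hinj := injective_of_flat_gen A B _ _ hG ψ hsurj e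
  exact ⟨α, hα, AlgEquiv.ofBijective ψ ⟨hinj, hsurj⟩, trivial⟩

theorem coreQ [Module.Flat A B] (qa qb qc : A) (hdisc : IsUnit (qb ^ 2 - 4 * qa * qc))
    (e₀ : AdicCompletion ((maximalIdeal B).map (Ideal.Quotient.mk
          ((maximalIdeal A).map (algebraMap A B))))
          (B ⧸ (maximalIdeal A).map (algebraMap A B)) ≃+* NG (ResidueField A) (qbar A qa qb qc))
    (he₀ : ∀ a : A, e₀ (algebraMap (B ⧸ (maximalIdeal A).map (algebraMap A B)) _
          (Ideal.Quotient.mk _ (algebraMap A B a))) =
        Ideal.Quotient.mk _ (C (residue A a))) :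
    ∃ h ∈ maximalIdeal (AdicCompletion (maximalIdeal A) A),
      ∃ E : AdicCompletion (maximalIdeal B) B ≃+*
          (MvPowerSeries (Fin 2) (AdicCompletion (maximalIdeal A) A) ⧸
            Ideal.span {(C (algebraMap A (AdicCompletion (maximalIdeal A) A) qa) * X 0 ^ 2 +
              C (algebraMap A (AdicCompletion (maximalIdeal A) A) qb) * X 0 * X 1 +
              C (algebraMap A (AdicCompletion (maximalIdeal A) A) qc) * X 1 ^ 2 - C h :
              MvPowerSeries (Fin 2) (AdicCompletion (maximalIdeal A) A))}),
        ∀ a : A, E (algebraMap B (AdicCompletion (maximalIdeal B) B) (algebraMap A B a)) =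
          Ideal.Quotient.mk _ (C (algebraMap A (AdicCompletion (maximalIdeal A) A) a)) := by
  haveI hN : IsNoetherianRing (AdicCompletion (maximalIdeal B) B) :=
    Groth.Agent.Lib.Helper19.isNoetherianRing_adicCompletion _
  haveI hloc1 : IsLocalHom (algebraMap B (AdicCompletion (maximalIdeal B) B)) :=
    isLocalHom_algebraMap_compl
  haveI hloc : IsLocalHom (algebraMap A (AdicCompletion (maximalIdeal B) B)) := by
    rw [algebraMap_eq_comp]
    infer_instance
  haveI hflat1 : Module.Flat B (AdicCompletion (maximalIdeal B) B) :=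
    AdicCompletion.flat_of_isNoetherian _
  haveI hflat : Module.Flat A (AdicCompletion (maximalIdeal B) B) :=
    Module.Flat.trans A B _
  have hJB' : (maximalIdeal A).map (algebraMap A (AdicCompletion (maximalIdeal B) B)) =
      ((maximalIdeal A).map (algebraMap A B)).map (algebraMap B (AdicCompletion (maximalIdeal B) B)) := by
    rw [Ideal.map_map, ← algebraMap_eq_comp]
  have hqker : RingHom.ker (quotCompl ((maximalIdeal A).map (algebraMap A B))) =
      (maximalIdeal A).map (algebraMap A (AdicCompletion (maximalIdeal B) B)) := by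
    rw [ker_quotCompl, hJB']
  -- `d : B̂/𝔪_A B̂ ≃ (B/𝔪_A B)^`
  let d : (AdicCompletion (maximalIdeal B) B ⧸
        (maximalIdeal A).map (algebraMap A (AdicCompletion (maximalIdeal B) B))) ≃+*
      AdicCompletion ((maximalIdeal B).map (Ideal.Quotient.mk ((maximalIdeal A).map (algebraMap A B)))) (B ⧸ ((maximalIdeal A).map (algebraMap A B))) :=
    (Ideal.quotEquivOfEq hqker.symm).trans
      (RingHom.quotientKerEquivOfSurjective (quotCompl_surjective ((maximalIdeal A).map (algebraMap A B))))
  have hd : ∀ x, d (Ideal.Quotient.mk _ x) = quotCompl ((maximalIdeal A).map (algebraMap A B)) x := fun x => rfl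
  have hId : ((maximalIdeal (AdicCompletion (maximalIdeal B) B)).map (Ideal.Quotient.mk
        ((maximalIdeal A).map (algebraMap A (AdicCompletion (maximalIdeal B) B))))).map
        (d : _ →+* _) =
      ((maximalIdeal B).map (Ideal.Quotient.mk ((maximalIdeal A).map (algebraMap A B)))).map (algebraMap (B ⧸ ((maximalIdeal A).map (algebraMap A B)))
        (AdicCompletion ((maximalIdeal B).map (Ideal.Quotient.mk ((maximalIdeal A).map (algebraMap A B)))) (B ⧸ ((maximalIdeal A).map (algebraMap A B))))) := by
    rw [Ideal.map_map]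
    have h1 : (d : _ →+* _).comp (Ideal.Quotient.mk
        ((maximalIdeal A).map (algebraMap A (AdicCompletion (maximalIdeal B) B)))) =
        quotCompl ((maximalIdeal A).map (algebraMap A B)) := RingHom.ext fun x => hd x
    have hcomp : (quotCompl ((maximalIdeal A).map (algebraMap A B))).comp (algebraMap B (AdicCompletion (maximalIdeal B) B)) =
        (algebraMap (B ⧸ ((maximalIdeal A).map (algebraMap A B))) (AdicCompletion ((maximalIdeal B).map (Ideal.Quotient.mk ((maximalIdeal A).map (algebraMap A B))))
          (B ⧸ ((maximalIdeal A).map (algebraMap A B))))).comp (Ideal.Quotient.mk ((maximalIdeal A).map (algebraMap A B))) :=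
      RingHom.ext fun b => quotCompl_algebraMap ((maximalIdeal A).map (algebraMap A B)) b
    rw [h1, AdicCompletion.maximalIdeal_eq_map, Ideal.map_map, hcomp, ← Ideal.map_map]
  haveI hcompl : IsAdicComplete
      (((maximalIdeal B).map (Ideal.Quotient.mk ((maximalIdeal A).map (algebraMap A B)))).map (algebraMap (B ⧸ ((maximalIdeal A).map (algebraMap A B)))
        (AdicCompletion ((maximalIdeal B).map (Ideal.Quotient.mk ((maximalIdeal A).map (algebraMap A B)))) (B ⧸ ((maximalIdeal A).map (algebraMap A B))))))
      (AdicCompletion ((maximalIdeal B).map (Ideal.Quotient.mk ((maximalIdeal A).map (algebraMap A B)))) (B ⧸ ((maximalIdeal A).map (algebraMap A B)))) :=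
    AdicCompletion.isAdicComplete_self _ (IsNoetherian.noetherian _)
  let c := AdicCompletion.ofAlgEquiv
    (((maximalIdeal B).map (Ideal.Quotient.mk ((maximalIdeal A).map (algebraMap A B)))).map (algebraMap (B ⧸ ((maximalIdeal A).map (algebraMap A B)))
        (AdicCompletion ((maximalIdeal B).map (Ideal.Quotient.mk ((maximalIdeal A).map (algebraMap A B)))) (B ⧸ ((maximalIdeal A).map (algebraMap A B))))))
  let e' : AdicCompletion ((maximalIdeal (AdicCompletion (maximalIdeal B) B)).map
        (Ideal.Quotient.mk
          ((maximalIdeal A).map (algebraMap A (AdicCompletion (maximalIdeal B) B)))))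
        (AdicCompletion (maximalIdeal B) B ⧸
          (maximalIdeal A).map (algebraMap A (AdicCompletion (maximalIdeal B) B))) ≃+*
      NG (ResidueField A) (qbar A qa qb qc) :=
    (complEquiv _ _ d hId).trans (c.symm.toRingEquiv.trans e₀)
  have he' : ∀ a : A, e' (algebraMap (AdicCompletion (maximalIdeal B) B ⧸
          (maximalIdeal A).map (algebraMap A (AdicCompletion (maximalIdeal B) B))) _
        (Ideal.Quotient.mk _ (algebraMap A (AdicCompletion (maximalIdeal B) B) a))) =
      Ideal.Quotient.mk _ (C (residue A a)) := by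
    intro a
    change e₀ (c.symm (complEquiv _ _ d hId (algebraMap _ _
      (Ideal.Quotient.mk _ (algebraMap A (AdicCompletion (maximalIdeal B) B) a))))) = _
    rw [complEquiv_algebraMap, hd, algebraMap_eq_comp, RingHom.comp_apply, quotCompl_algebraMap,
      AdicCompletion.algebraMap_apply (R := AdicCompletion ((maximalIdeal B).map
        (Ideal.Quotient.mk ((maximalIdeal A).map (algebraMap A B)))) (B ⧸ ((maximalIdeal A).map (algebraMap A B)))), Algebra.algebraMap_self, RingHom.id_apply,
      AdicCompletion.ofAlgEquiv_symm_of]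
    exact he₀ a
  have hres' := bijective_residue_of_equiv_gen A (AdicCompletion (maximalIdeal B) B)
    (qbar A qa qb qc) (constantCoeff_qbar A qa qb qc) e' he'
  -- coordinates
  obtain ⟨u, v, hu, hv, hεu, hεv, hgen⟩ := exists_uv_gen (ResidueField A) (qbar A qa qb qc)
    (constantCoeff_qbar A qa qb qc)
    ((e₀ : _ →+* NG (ResidueField A) (qbar A qa qb qc)).comp
      (quotCompl ((maximalIdeal A).map (algebraMap A B))))
    (e₀.surjective.comp (quotCompl_surjective ((maximalIdeal A).map (algebraMap A B))))
  have hkerε : RingHom.ker ((e₀ : _ →+* NG (ResidueField A) (qbar A qa qb qc)).comp (quotCompl ((maximalIdeal A).map (algebraMap A B)))) =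
      (maximalIdeal A).map (algebraMap A (AdicCompletion (maximalIdeal B) B)) := by
    rw [← hqker]
    ext x
    rw [RingHom.mem_ker, RingHom.mem_ker, RingHom.comp_apply]
    exact e₀.map_eq_zero_iff
  have hεA : ∀ a : A, ((e₀ : _ →+* NG (ResidueField A) (qbar A qa qb qc)).comp
      (quotCompl ((maximalIdeal A).map (algebraMap A B))))
      (algebraMap A (AdicCompletion (maximalIdeal B) B) a) =
      Ideal.Quotient.mk _ (C (residue A a)) := by
    intro a
    rw [RingHom.comp_apply, algebraMap_eq_comp, RingHom.comp_apply, quotCompl_algebraMap]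
    exact he₀ a
  have huv : Qf qa qb qc u v ∈
      RingHom.ker ((e₀ : _ →+* NG (ResidueField A) (qbar A qa qb qc)).comp
        (quotCompl ((maximalIdeal A).map (algebraMap A B)))) := by
    rw [RingHom.mem_ker]
    unfold Qf
    rw [map_add, map_add, map_mul, map_mul, map_mul, map_mul, map_pow, map_pow, hεA, hεA, hεA,
      hεu, hεv, ← map_pow, ← map_pow, ← map_mul, ← map_mul, ← map_mul, ← map_mul, ← map_add,
      ← map_add, Ideal.Quotient.eq_zero_iff_mem]
    exact Ideal.subset_span rfl
  rw [hkerε] at huv hgen
  obtain ⟨α, hα, ψ, -⟩ := resultQ A (AdicCompletion (maximalIdeal B) B)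
    hres' qa qb qc hdisc u v hu hv huv hgen e'
  refine ⟨α, by rw [AdicCompletion.maximalIdeal_eq_map]; exact hα, ?_⟩
  let cB := AdicCompletion.ofAlgEquiv (maximalIdeal (AdicCompletion (maximalIdeal B) B))
  refine ⟨cB.toRingEquiv.trans ψ.symm.toRingEquiv, ?_⟩
  intro a
  change ψ.symm (cB (algebraMap B (AdicCompletion (maximalIdeal B) B) (algebraMap A B a))) = _
  have h1 : cB (algebraMap B (AdicCompletion (maximalIdeal B) B) (algebraMap A B a)) =
      algebraMap A (AdicCompletion (maximalIdeal (AdicCompletion (maximalIdeal B) B))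
        (AdicCompletion (maximalIdeal B) B)) a := by
    rw [← RingHom.comp_apply, ← algebraMap_eq_comp,
      algebraMap_eq_comp A (AdicCompletion (maximalIdeal B) B), RingHom.comp_apply]
    rfl
  rw [h1, ψ.symm.commutes, algebraMap_quot]


end Groth.Agent.Lib.Seat90.NodeQ
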