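import Mathlib
import Groth.Prelude
import Groth.Agent.Lib.Seat90NodeCompl
import Groth.Agent.Lib.Helper19FSAdicLocal

/-!
# Ring maps out of a completion are determined on the dense subring (seat 90)

* `ringHom_ext_of_dense`: two ring maps `R̂ → T` into a Noetherian local ring sending `𝔪_R̂` into
  `𝔪_T` and agreeing on `R` are equal.
* `mem_span_singleton_of_map`: `a ∈ b R̂ ⇒ a ∈ b R` for a Noetherian local ring `R`.
* `isLocalRing_quot`, `mk_C_mem`: the quotient of `Λ[[x,y]]` by a power series with non-unit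
  constant coefficient is local, and constants from `𝔪_Λ` land in its maximal ideal.
-/

set_option autoImplicit false
set_option linter.unusedSectionVars false
set_option linter.style.haveILetI false

universe u

open MvPowerSeries IsLocalRing

namespace Groth.Agent.Lib.Seat90.NodeUniq

open Groth.Agent.Lib.Seat90.NodeCompl

section Dense

variable {R : Type u} [CommRing R] [IsLocalRing R] [IsNoetherianRing R]

theorem exists_sub_mem_pow (c : AdicCompletion (maximalIdeal R) R) (n : ℕ) :
    ∃ r : R, c - algebraMap R (AdicCompletion (maximalIdeal R) R) r ∈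
      maximalIdeal (AdicCompletion (maximalIdeal R) R) ^ n := by
  obtain ⟨r, hr⟩ := Ideal.Quotient.mk_surjective (AdicCompletion.evalₐ (maximalIdeal R) n c)
  refine ⟨r, ?_⟩
  rw [AdicCompletion.maximalIdeal_eq_map, ← Ideal.map_pow]
  apply Groth.Agent.Lib.Helper19.mem_map_pow_of_evalₐ_eq_zero _ (IsNoetherian.noetherian _)
  rw [map_sub, ← hr, AdicCompletion.algebraMap_apply, AdicCompletion.evalₐ_of,
    Algebra.algebraMap_self, RingHom.id_apply, sub_self]

theorem ringHom_ext_of_dense {T : Type u} [CommRing T] [IsLocalRing T] [IsNoetherianRing T]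
    (g₁ g₂ : AdicCompletion (maximalIdeal R) R →+* T)
    (h₁ : ∀ d ∈ maximalIdeal (AdicCompletion (maximalIdeal R) R), g₁ d ∈ maximalIdeal T)
    (h₂ : ∀ d ∈ maximalIdeal (AdicCompletion (maximalIdeal R) R), g₂ d ∈ maximalIdeal T)
    (h : ∀ r : R, g₁ (algebraMap R _ r) = g₂ (algebraMap R _ r)) : g₁ = g₂ := by
  refine RingHom.ext fun c => ?_
  rw [← sub_eq_zero]
  have hmem : g₁ c - g₂ c ∈ (⨅ i : ℕ, maximalIdeal T ^ i : Ideal T) := by
    rw [Ideal.mem_iInf]
    intro n
    obtain ⟨r, hr⟩ := exists_sub_mem_pow c n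
    have e : g₁ c - g₂ c = g₁ (c - algebraMap R _ r) - g₂ (c - algebraMap R _ r) := by
      rw [map_sub, map_sub, h r]
      ring
    rw [e]
    have hpow : ∀ (g : AdicCompletion (maximalIdeal R) R →+* T),
        (∀ d ∈ maximalIdeal (AdicCompletion (maximalIdeal R) R), g d ∈ maximalIdeal T) →
        g (c - algebraMap R _ r) ∈ maximalIdeal T ^ n := by
      intro g hg
      have h3 := Ideal.mem_map_of_mem g hr
      rw [Ideal.map_pow] at h3
      exact Ideal.pow_right_mono (Ideal.map_le_iff_le_comap.2 hg) n h3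
    exact sub_mem (hpow g₁ h₁) (hpow g₂ h₂)
  rw [Ideal.iInf_pow_eq_bot_of_isLocalRing _ (maximalIdeal.isMaximal T).ne_top] at hmem
  exact hmem

theorem mem_span_singleton_of_map (a b : R)
    (h : algebraMap R (AdicCompletion (maximalIdeal R) R) a ∈
      Ideal.span {algebraMap R (AdicCompletion (maximalIdeal R) R) b}) :
    a ∈ Ideal.span {b} := by
  rw [Ideal.mem_span_singleton'] at h
  obtain ⟨c, hc⟩ := h
  apply mem_of_forall_mem_sup_pow
  intro n
  obtain ⟨cn, hcn⟩ := Ideal.Quotient.mk_surjective (AdicCompletion.evalₐ (maximalIdeal R) n c)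
  have h1 := congrArg (AdicCompletion.evalₐ (maximalIdeal R) n) hc
  rw [map_mul, ← hcn, AdicCompletion.algebraMap_apply, AdicCompletion.evalₐ_of,
    AdicCompletion.algebraMap_apply, AdicCompletion.evalₐ_of, Algebra.algebraMap_self,
    RingHom.id_apply, RingHom.id_apply, ← map_mul, Ideal.Quotient.eq] at h1
  have h2 : a = cn * b + -(cn * b - a) := by ring
  rw [h2]
  exact Submodule.add_mem_sup (Ideal.mem_span_singleton'.2 ⟨cn, rfl⟩) (neg_mem h1)

end Dense

section Quot

variable {Λ : Type u} [CommRing Λ] [IsLocalRing Λ]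

theorem span_ne_top (G : MvPowerSeries (Fin 2) Λ) (hG : constantCoeff G ∈ maximalIdeal Λ) :
    Ideal.span {G} ≠ ⊤ := by
  intro h
  have h1 : Ideal.span {G} ≤ maximalIdeal (MvPowerSeries (Fin 2) Λ) := by
    rw [Ideal.span_le]
    rintro x rfl
    rw [SetLike.mem_coe, Groth.Agent.Lib.Helper19.maximalIdeal_eq_coeffIdeal,
      Groth.Agent.Lib.Helper19.mem_coeffIdeal_one]
    exact hG
  exact (maximalIdeal.isMaximal _).ne_top (top_le_iff.mp (h ▸ h1))

theorem isLocalRing_quot (G : MvPowerSeries (Fin 2) Λ) (hG : constantCoeff G ∈ maximalIdeal Λ) :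
    IsLocalRing (MvPowerSeries (Fin 2) Λ ⧸ Ideal.span {G}) := by
  haveI : Nontrivial (MvPowerSeries (Fin 2) Λ ⧸ Ideal.span {G}) :=
    Ideal.Quotient.nontrivial_iff.2 (span_ne_top G hG)
  exact IsLocalRing.of_surjective' (Ideal.Quotient.mk _) Ideal.Quotient.mk_surjective

theorem mk_C_mem (G : MvPowerSeries (Fin 2) Λ) (hG : constantCoeff G ∈ maximalIdeal Λ)
    (d : Λ) (hd : d ∈ maximalIdeal Λ) :
    haveI := isLocalRing_quot G hG
    Ideal.Quotient.mk (Ideal.span {G}) (C d) ∈
      maximalIdeal (MvPowerSeries (Fin 2) Λ ⧸ Ideal.span {G}) := by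
  haveI := isLocalRing_quot G hG
  haveI : Nontrivial (MvPowerSeries (Fin 2) Λ ⧸ Ideal.span {G}) :=
    Ideal.Quotient.nontrivial_iff.2 (span_ne_top G hG)
  haveI : IsLocalHom (Ideal.Quotient.mk (Ideal.span {G})) :=
    IsLocalHom.of_surjective _ Ideal.Quotient.mk_surjective
  rw [mem_maximalIdeal, mem_nonunits_iff]
  intro hu
  have h1 : IsUnit (C d : MvPowerSeries (Fin 2) Λ) := isUnit_of_map_unit _ _ hu
  rw [isUnit_iff_constantCoeff, constantCoeff_C] at h1
  exact hd h1

end Quot

end Groth.Agent.Lib.Seat90.NodeUniq
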