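import Mathlib.Topology.NoetherianSpace
import Mathlib.Topology.Separation.Basic
import Mathlib.Topology.Connected.Basic
import Mathlib.Topology.Sets.Opens

/-!
# Noetherian topological spaces: connected open neighbourhoods, discreteness criterion
-/

set_option autoImplicit false
universe u

namespace Groth.Agent.Lib.Seat90.NoethTop

open TopologicalSpace Set

variable {α : Type u} [TopologicalSpace α]

/-- In a Noetherian space every point has a connected open neighbourhood. -/
theorem exists_isOpen_isConnected [NoetherianSpace α] (f : α) :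
    ∃ β : Set α, IsOpen β ∧ f ∈ β ∧ IsConnected β := by
  set S : Set (Set α) := {Z | Z ∈ irreducibleComponents α ∧ f ∉ Z} with hS
  have hSfin : S.Finite :=
    (NoetherianSpace.finite_irreducibleComponents (α := α)).subset fun Z hZ => hZ.1
  have hclosed : IsClosed (⋃₀ S) := by
    rw [Set.sUnion_eq_biUnion]
    exact hSfin.isClosed_biUnion fun Z hZ => isClosed_of_mem_irreducibleComponents Z hZ.1
  refine ⟨(⋃₀ S)ᶜ, hclosed.isOpen_compl, ?_, ⟨f, ?_⟩, ?_⟩
  · rintro ⟨Z, hZ, hfZ⟩
    exact hZ.2 hfZ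
  · rintro ⟨Z, hZ, hfZ⟩
    exact hZ.2 hfZ
  · -- preconnected
    have hf : f ∈ (⋃₀ S)ᶜ := by
      rintro ⟨Z, hZ, hfZ⟩
      exact hZ.2 hfZ
    set c : Set (Set α) := {T | ∃ Z ∈ irreducibleComponents α, f ∈ Z ∧ T = Z ∩ (⋃₀ S)ᶜ} with hc
    have hcover : (⋃₀ S)ᶜ = ⋃₀ c := by
      ext y
      constructor
      · intro hy
        refine ⟨irreducibleComponent y ∩ (⋃₀ S)ᶜ,
          ⟨irreducibleComponent y, irreducibleComponent_mem_irreducibleComponents y, ?_, rfl⟩,
          mem_irreducibleComponent, hy⟩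
        by_contra hfy
        exact hy ⟨irreducibleComponent y,
          ⟨irreducibleComponent_mem_irreducibleComponents y, hfy⟩, mem_irreducibleComponent⟩
      · rintro ⟨T, ⟨Z, -, -, rfl⟩, hy⟩
        exact hy.2
    rw [hcover]
    refine isPreconnected_sUnion f c ?_ ?_
    · rintro T ⟨Z, -, hfZ, rfl⟩
      exact ⟨hfZ, hf⟩
    · rintro T ⟨Z, hZ, -, rfl⟩
      have hirr : IsPreirreducible Z := hZ.1.2
      intro u v hu hv _ hTu hTv
      obtain ⟨a, ⟨haZ, haS⟩, hau⟩ := hTu
      obtain ⟨b, ⟨hbZ, hbS⟩, hbv⟩ := hTv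
      obtain ⟨z, hzZ, hz1, hz2⟩ := hirr (u ∩ (⋃₀ S)ᶜ) (v ∩ (⋃₀ S)ᶜ)
        (hu.inter hclosed.isOpen_compl) (hv.inter hclosed.isOpen_compl)
        ⟨a, haZ, hau, haS⟩ ⟨b, hbZ, hbv, hbS⟩
      exact ⟨z, ⟨hzZ, hz1.2⟩, hz1.1, hz2.1⟩

/-- A compact `T₀` space all of whose closed points are open is discrete. -/
theorem discreteTopology_of_closed_points_open [CompactSpace α] [T0Space α]
    (h : ∀ f : α, IsClosed ({f} : Set α) → IsOpen ({f} : Set α)) : DiscreteTopology α := by
  rw [discreteTopology_iff_isOpen_singleton]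
  set U : Set α := {f | IsOpen ({f} : Set α)} with hU
  have hUopen : IsOpen U := by
    have : U = ⋃ f ∈ U, {f} := by
      ext y; simp
    rw [this]
    exact isOpen_biUnion fun f hf => hf
  have hUuniv : Uᶜ = ∅ := by
    by_contra hne
    obtain ⟨z, hz, hzc⟩ := hUopen.isClosed_compl.exists_closed_singleton
      (Set.nonempty_iff_ne_empty.mpr hne)
    exact hz (h z hzc)
  intro f
  have : f ∈ U := by
    by_contra hf
    have : f ∈ Uᶜ := hf
    rw [hUuniv] at this
    exact this
  exact this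

end Groth.Agent.Lib.Seat90.NoethTop
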