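import Groth.Prelude.Def_W4c5spincurvestfNode
import Mathlib.Algebra.Polynomial.Laurent
import Mathlib.RingTheory.MvPolynomial.Basic
import Mathlib.LinearAlgebra.Finsupp.LinearCombination

/-!
# Normal form in `R[x, y]/(xy - c)`: the standard monomials `x^n` (`n ≥ 0`), `y^n` (`n > 0`)
form an `R`-basis indexed by `ℤ`.
-/

set_option autoImplicit false
universe u

namespace Groth.Agent.Lib.Seat90.PolyNode

open MvPolynomial SpinCurv

variable (R : Type u) [CommRing R] (c : R)

/-- the relation `xy - c` -/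
noncomputable abbrev rel : MvPolynomial (Fin 2) R :=
  MvPolynomial.X 0 * MvPolynomial.X 1 - MvPolynomial.C c

theorem smul_eq (r : R) (z : PolyNodeRing R c) : r • z = algebraMap R (PolyNodeRing R c) r * z :=
  Algebra.smul_def r z

theorem x_mul_y : PolyNodeRing.x R c * PolyNodeRing.y R c = algebraMap R (PolyNodeRing R c) c := by
  have h : Ideal.Quotient.mk (Ideal.span {rel R c}) (rel R c) = 0 :=
    Ideal.Quotient.eq_zero_iff_mem.2 (Ideal.subset_span rfl)
  rw [map_sub, sub_eq_zero, map_mul] at h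
  rw [h]; rfl

theorem y_mul_x : PolyNodeRing.y R c * PolyNodeRing.x R c = algebraMap R (PolyNodeRing R c) c := by
  rw [mul_comm, x_mul_y]

/-- the standard monomials: `x^n` for `n ≥ 0`, `y^(-n)` for `n < 0` -/
noncomputable def e (n : ℤ) : PolyNodeRing R c :=
  if 0 ≤ n then PolyNodeRing.x R c ^ n.toNat else PolyNodeRing.y R c ^ (-n).toNat

theorem e_natCast (k : ℕ) : e R c (k : ℤ) = PolyNodeRing.x R c ^ k := by
  unfold e; rw [if_pos (Int.natCast_nonneg k), Int.toNat_natCast]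

theorem e_neg_natCast (k : ℕ) : e R c (-(k : ℤ)) = PolyNodeRing.y R c ^ k := by
  unfold e
  rcases Nat.eq_zero_or_pos k with rfl | hk
  · simp
  · rw [if_neg (by omega), neg_neg, Int.toNat_natCast]

theorem e_zero : e R c 0 = 1 := by
  have := e_natCast R c 0
  simpa using this

theorem x_pow_mul_y_pow (a b : ℕ) :
    PolyNodeRing.x R c ^ a * PolyNodeRing.y R c ^ b = c ^ min a b • e R c ((a : ℤ) - b) := by
  rcases le_total b a with h | h
  · obtain ⟨d, rfl⟩ := Nat.exists_eq_add_of_le h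
    rw [min_eq_right h, pow_add, mul_comm (PolyNodeRing.x R c ^ b), mul_assoc, ← mul_pow, x_mul_y]
    have : ((b + d : ℕ) : ℤ) - b = d := by push_cast; ring
    rw [this, e_natCast, smul_eq, map_pow, mul_comm]
  · obtain ⟨d, rfl⟩ := Nat.exists_eq_add_of_le h
    rw [min_eq_left h, pow_add, ← mul_assoc, ← mul_pow, x_mul_y]
    have : (a : ℤ) - ((a + d : ℕ) : ℤ) = -(d : ℤ) := by push_cast; ring
    rw [this, e_neg_natCast, smul_eq, map_pow]

/-- the coordinate map on polynomials: `x^a y^b ↦ c^(min a b) T^(a-b)` -/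
noncomputable def Φ₀ : MvPolynomial (Fin 2) R →ₗ[R] (ℤ →₀ R) :=
  (basisMonomials (Fin 2) R).constr R
    (fun m => Finsupp.single ((m 0 : ℤ) - (m 1 : ℤ)) (c ^ min (m 0) (m 1)))

theorem Φ₀_monomial (m : Fin 2 →₀ ℕ) (r : R) :
    Φ₀ R c (monomial m r) = Finsupp.single ((m 0 : ℤ) - (m 1 : ℤ)) (r * c ^ min (m 0) (m 1)) := by
  have h : monomial m r = r • (basisMonomials (Fin 2) R) m := by
    rw [coe_basisMonomials, smul_monomial, smul_eq_mul, mul_one]
  rw [h, map_smul, Φ₀, Module.Basis.constr_basis, Finsupp.smul_single, smul_eq_mul]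

theorem Φ₀_mul_rel (f : MvPolynomial (Fin 2) R) : Φ₀ R c (f * rel R c) = 0 := by
  have h : (Φ₀ R c).comp (LinearMap.mulRight R (rel R c)) = 0 := by
    apply (basisMonomials (Fin 2) R).ext
    intro m
    rw [coe_basisMonomials, LinearMap.comp_apply, LinearMap.mulRight_apply, LinearMap.zero_apply]
    have h1 : (monomial m (1 : R)) * rel R c =
        monomial (m + (Finsupp.single 0 1 + Finsupp.single 1 1)) 1 - monomial m c := by
      unfold rel
      rw [mul_sub, X, X, monomial_mul, monomial_mul, C_apply, monomial_mul]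
      simp
    rw [h1, map_sub, Φ₀_monomial, Φ₀_monomial]
    have e0 : (m + (Finsupp.single 0 1 + Finsupp.single 1 1) : Fin 2 →₀ ℕ) 0 = m 0 + 1 := by
      simp [Finsupp.add_apply]
    have e1 : (m + (Finsupp.single 0 1 + Finsupp.single 1 1) : Fin 2 →₀ ℕ) 1 = m 1 + 1 := by
      simp [Finsupp.add_apply]
    rw [e0, e1, Nat.succ_min_succ, pow_succ]
    have : ((m 0 + 1 : ℕ) : ℤ) - ((m 1 + 1 : ℕ) : ℤ) = (m 0 : ℤ) - (m 1 : ℤ) := by push_cast; ring
    rw [this, one_mul, mul_comm, sub_self]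
  have := LinearMap.congr_fun h f
  simpa using this

theorem span_le_ker : (Ideal.span {rel R c}).restrictScalars R ≤ LinearMap.ker (Φ₀ R c) := by
  intro f hf
  rw [Submodule.restrictScalars_mem, Ideal.mem_span_singleton'] at hf
  obtain ⟨a, rfl⟩ := hf
  rw [LinearMap.mem_ker]
  exact Φ₀_mul_rel R c a

/-- the coordinate map on the quotient -/
noncomputable def Φ : PolyNodeRing R c →ₗ[R] (ℤ →₀ R) :=
  (Submodule.liftQ _ (Φ₀ R c) (span_le_ker R c)).comp
    (Submodule.Quotient.restrictScalarsEquiv R (Ideal.span {rel R c})).symm.toLinearMap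

theorem Φ_mk (f : MvPolynomial (Fin 2) R) :
    Φ R c (Ideal.Quotient.mk _ f) = Φ₀ R c f := rfl

/-- the inverse: `T^n ↦ e n` -/
noncomputable def Ψ : (ℤ →₀ R) →ₗ[R] PolyNodeRing R c :=
  Finsupp.linearCombination R (e R c)

theorem Ψ_single (n : ℤ) (r : R) : Ψ R c (Finsupp.single n r) = r • e R c n := by
  unfold Ψ; rw [Finsupp.linearCombination_single]

theorem mk_monomial (m : Fin 2 →₀ ℕ) (r : R) :
    (Ideal.Quotient.mk (Ideal.span {rel R c}) (monomial m r) : PolyNodeRing R c) =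
      r • (PolyNodeRing.x R c ^ m 0 * PolyNodeRing.y R c ^ m 1) := by
  rw [monomial_eq, map_mul, Finsupp.prod_fintype _ _ (fun i => by simp), Fin.prod_univ_two, map_mul,
    map_pow, map_pow, smul_eq]
  rfl

theorem Ψ_Φ₀ (f : MvPolynomial (Fin 2) R) :
    Ψ R c (Φ₀ R c f) = Ideal.Quotient.mk (Ideal.span {rel R c}) f := by
  have h : (Ψ R c).comp (Φ₀ R c) =
      (Ideal.Quotient.mkₐ R (Ideal.span {rel R c})).toLinearMap := by
    apply (basisMonomials (Fin 2) R).ext
    intro m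
    rw [coe_basisMonomials, LinearMap.comp_apply, Φ₀_monomial, Ψ_single, one_mul]
    change _ = Ideal.Quotient.mk (Ideal.span {rel R c}) (monomial m 1)
    rw [mk_monomial, one_smul, x_pow_mul_y_pow]
  exact LinearMap.congr_fun h f

theorem Ψ_Φ (f : PolyNodeRing R c) : Ψ R c (Φ R c f) = f := by
  obtain ⟨f, rfl⟩ := Ideal.Quotient.mk_surjective f
  rw [Φ_mk, Ψ_Φ₀]

theorem Φ_e (n : ℤ) : Φ R c (e R c n) = Finsupp.single n 1 := by
  rcases Int.le_total 0 n with h | h
  · obtain ⟨k, rfl⟩ := Int.eq_ofNat_of_zero_le h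
    rw [e_natCast]
    change Φ R c (Ideal.Quotient.mk _ (MvPolynomial.X 0) ^ k) = _
    rw [← map_pow, Φ_mk, X_pow_eq_monomial, Φ₀_monomial]
    simp
  · obtain ⟨k, rfl⟩ : ∃ k : ℕ, n = -(k : ℤ) := ⟨(-n).toNat, by omega⟩
    rw [e_neg_natCast]
    change Φ R c (Ideal.Quotient.mk _ (MvPolynomial.X 1) ^ k) = _
    rw [← map_pow, Φ_mk, X_pow_eq_monomial, Φ₀_monomial]
    simp

theorem Φ_Ψ (v : ℤ →₀ R) : Φ R c (Ψ R c v) = v := by
  induction v using Finsupp.induction_linear with
  | zero => simp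
  | add v w hv hw => rw [map_add, map_add, hv, hw]
  | single n r => rw [Ψ_single, map_smul, Φ_e, Finsupp.smul_single, smul_eq_mul, mul_one]

/-- the coordinate isomorphism -/
noncomputable def coordEquiv : PolyNodeRing R c ≃ₗ[R] (ℤ →₀ R) :=
  LinearEquiv.ofLinearMap (Φ R c) (Ψ R c)
    (LinearMap.ext fun v => Φ_Ψ R c v) (LinearMap.ext fun f => Ψ_Φ R c f)

/-- the basis of standard monomials -/
noncomputable def basis : Module.Basis ℤ R (PolyNodeRing R c) := Module.Basis.ofRepr (coordEquiv R c)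

theorem basis_apply (n : ℤ) : basis R c n = e R c n := by
  unfold basis
  rw [Module.Basis.coe_ofRepr]
  change Ψ R c (Finsupp.single n 1) = _
  rw [Ψ_single, one_smul]

theorem basis_repr (f : PolyNodeRing R c) : (basis R c).repr f = Φ R c f := rfl

theorem x_mul_e (n : ℤ) :
    PolyNodeRing.x R c * e R c n = if 0 ≤ n then e R c (n + 1) else c • e R c (n + 1) := by
  split_ifs with h
  · obtain ⟨k, rfl⟩ := Int.eq_ofNat_of_zero_le h
    have : ((k : ℤ) + 1) = ((k + 1 : ℕ) : ℤ) := by push_cast; ring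
    rw [this, e_natCast, e_natCast, pow_succ, mul_comm]
  · obtain ⟨k, rfl⟩ : ∃ k : ℕ, n = -((k + 1 : ℕ) : ℤ) := ⟨(-n).toNat - 1, by omega⟩
    have : -((k + 1 : ℕ) : ℤ) + 1 = -(k : ℤ) := by push_cast; ring
    rw [this, e_neg_natCast, e_neg_natCast, pow_succ, mul_comm _ (PolyNodeRing.y R c), ← mul_assoc,
      x_mul_y, smul_eq]

theorem y_mul_e (n : ℤ) :
    PolyNodeRing.y R c * e R c n = if n ≤ 0 then e R c (n - 1) else c • e R c (n - 1) := by
  split_ifs with h
  · obtain ⟨k, rfl⟩ : ∃ k : ℕ, n = -(k : ℤ) := ⟨(-n).toNat, by omega⟩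
    have : -(k : ℤ) - 1 = -((k + 1 : ℕ) : ℤ) := by push_cast; ring
    rw [this, e_neg_natCast, e_neg_natCast, pow_succ, mul_comm]
  · obtain ⟨k, rfl⟩ : ∃ k : ℕ, n = ((k + 1 : ℕ) : ℤ) := ⟨n.toNat - 1, by omega⟩
    have : ((k + 1 : ℕ) : ℤ) - 1 = (k : ℤ) := by push_cast; ring
    rw [this, e_natCast, e_natCast, pow_succ, mul_comm _ (PolyNodeRing.x R c), ← mul_assoc,
      y_mul_x, smul_eq]

/-- algebra homomorphisms out of the node ring are determined by the images of `x` and `y` -/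
theorem algHom_ext {B : Type*} [Semiring B] [Algebra R B] (g h : PolyNodeRing R c →ₐ[R] B)
    (hx : g (PolyNodeRing.x R c) = h (PolyNodeRing.x R c))
    (hy : g (PolyNodeRing.y R c) = h (PolyNodeRing.y R c)) : g = h := by
  apply Ideal.Quotient.algHom_ext
  apply MvPolynomial.algHom_ext
  intro i
  fin_cases i
  · exact hx
  · exact hy

theorem algHom_e {B : Type*} [Semiring B] [Algebra R B] (g : PolyNodeRing R c →ₐ[R] B) (n : ℤ) :
    g (e R c n) = if 0 ≤ n then g (PolyNodeRing.x R c) ^ n.toNat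
      else g (PolyNodeRing.y R c) ^ (-n).toNat := by
  unfold e
  split_ifs <;> rw [map_pow]

/-- expansion in the basis -/
theorem eq_sum (f : PolyNodeRing R c) :
    f = (Φ R c f).sum (fun n r => r • e R c n) := by
  conv_lhs => rw [← Ψ_Φ R c f]
  unfold Ψ
  rw [Finsupp.linearCombination_apply]

end Groth.Agent.Lib.Seat90.PolyNode
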