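import Groth.Agent.Lib.Seat90PolyNode

/-!
# Coordinates of products with `x`, `y` in `R[x, y]/(xy - c)` and of images in Laurent polynomials
-/

set_option autoImplicit false
universe u

namespace Groth.Agent.Lib.Seat90.PolyNode

open SpinCurv LaurentPolynomial

variable (R : Type u) [CommRing R] (c : R)

theorem Φ_injective : Function.Injective (Φ R c) := (coordEquiv R c).injective

theorem Φ_y_mul (h : PolyNodeRing R c) (m : ℤ) :
    Φ R c (PolyNodeRing.y R c * h) m = (if m ≤ -1 then 1 else c) * Φ R c h (m + 1) := by
  have key : (Finsupp.lapply m).comp ((Φ R c).comp (LinearMap.mulLeft R (PolyNodeRing.y R c))) =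
      (if m ≤ -1 then (1 : R) else c) • (Finsupp.lapply (m + 1)).comp (Φ R c) := by
    apply (basis R c).ext
    intro n
    rw [basis_apply]
    simp only [LinearMap.comp_apply, LinearMap.mulLeft_apply, LinearMap.smul_apply,
      Finsupp.lapply_apply, smul_eq_mul]
    rw [y_mul_e, Φ_e]
    by_cases hn : n ≤ 0
    · rw [if_pos hn, Φ_e]
      by_cases hm : n - 1 = m
      · have hm' : n = m + 1 := by omega
        have hm1 : m ≤ -1 := by omega
        rw [if_pos hm1, hm', one_mul]; simp
      · have hm' : n ≠ m + 1 := by omega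
        rw [Finsupp.single_eq_of_ne' hm, Finsupp.single_eq_of_ne' hm', mul_zero]
    · rw [if_neg hn, map_smul, Φ_e]
      by_cases hm : n - 1 = m
      · have hm' : n = m + 1 := by omega
        have hm1 : ¬ m ≤ -1 := by omega
        rw [if_neg hm1, hm']; simp
      · have hm' : n ≠ m + 1 := by omega
        rw [Finsupp.smul_apply, Finsupp.single_eq_of_ne' hm, Finsupp.single_eq_of_ne' hm', smul_zero,
          mul_zero]
  have := LinearMap.congr_fun key h
  simp only [LinearMap.comp_apply, LinearMap.mulLeft_apply, LinearMap.smul_apply,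
    Finsupp.lapply_apply, smul_eq_mul] at this
  exact this

theorem Φ_x_mul (h : PolyNodeRing R c) (m : ℤ) :
    Φ R c (PolyNodeRing.x R c * h) m = (if 1 ≤ m then 1 else c) * Φ R c h (m - 1) := by
  have key : (Finsupp.lapply m).comp ((Φ R c).comp (LinearMap.mulLeft R (PolyNodeRing.x R c))) =
      (if 1 ≤ m then (1 : R) else c) • (Finsupp.lapply (m - 1)).comp (Φ R c) := by
    apply (basis R c).ext
    intro n
    rw [basis_apply]
    simp only [LinearMap.comp_apply, LinearMap.mulLeft_apply, LinearMap.smul_apply,
      Finsupp.lapply_apply, smul_eq_mul]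
    rw [x_mul_e, Φ_e]
    by_cases hn : 0 ≤ n
    · rw [if_pos hn, Φ_e]
      by_cases hm : n + 1 = m
      · have hm' : n = m - 1 := by omega
        have hm1 : 1 ≤ m := by omega
        rw [if_pos hm1, hm', one_mul]; simp
      · have hm' : n ≠ m - 1 := by omega
        rw [Finsupp.single_eq_of_ne' hm, Finsupp.single_eq_of_ne' hm', mul_zero]
    · rw [if_neg hn, map_smul, Φ_e]
      by_cases hm : n + 1 = m
      · have hm' : n = m - 1 := by omega
        have hm1 : ¬ 1 ≤ m := by omega
        rw [if_neg hm1, hm']; simp
      · have hm' : n ≠ m - 1 := by omega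
        rw [Finsupp.smul_apply, Finsupp.single_eq_of_ne' hm, Finsupp.single_eq_of_ne' hm', smul_zero,
          mul_zero]
  have := LinearMap.congr_fun key h
  simp only [LinearMap.comp_apply, LinearMap.mulLeft_apply, LinearMap.smul_apply,
    Finsupp.lapply_apply, smul_eq_mul] at this
  exact this

theorem coeff_C_mul_T (r : R) (m a : ℤ) :
    (C r * T m : LaurentPolynomial R).coeff a = if m = a then r else 0 := by
  rw [← single_eq_C_mul_T, AddMonoidAlgebra.coeff_single, Finsupp.single_apply]

/-- coefficients of the image under a chart map of the shape `x ↦ T, y ↦ β T⁻¹` -/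
theorem coeff_hom_pos (g : PolyNodeRing R c →ₐ[R] LaurentPolynomial R) (β : R)
    (hgx : g (PolyNodeRing.x R c) = T 1) (hgy : g (PolyNodeRing.y R c) = C β * T (-1))
    (h : PolyNodeRing R c) (a : ℤ) :
    (g h).coeff a = β ^ (-a).toNat * Φ R c h a := by
  have key : (Finsupp.lapply a).comp
      ((AddMonoidAlgebra.coeffLinearEquiv (S := R) (M := ℤ) R).toLinearMap.comp g.toLinearMap) =
      (β ^ (-a).toNat) • (Finsupp.lapply a).comp (Φ R c) := by
    apply (basis R c).ext
    intro n
    rw [basis_apply]
    simp only [LinearMap.comp_apply, LinearMap.smul_apply, Finsupp.lapply_apply, smul_eq_mul,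
      AlgHom.toLinearMap_apply, LinearEquiv.coe_coe]
    change (g (e R c n)).coeff a = _
    rw [algHom_e, Φ_e, hgx, hgy]
    by_cases hn : 0 ≤ n
    · rw [if_pos hn, T_pow, mul_one, Int.toNat_of_nonneg hn, T_apply]
      by_cases hna : n = a
      · subst hna
        have : (-n).toNat = 0 := by omega
        rw [if_pos rfl, this, pow_zero, one_mul]; simp
      · rw [if_neg hna, Finsupp.single_eq_of_ne' hna, mul_zero]
    · rw [if_neg hn, mul_pow, ← map_pow, T_pow]
      have e1 : (((-n).toNat : ℕ) : ℤ) * (-1) = n := by omega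
      rw [e1, coeff_C_mul_T]
      by_cases hna : n = a
      · subst hna
        rw [if_pos rfl]; simp
      · rw [if_neg hna, Finsupp.single_eq_of_ne' hna, mul_zero]
  have := LinearMap.congr_fun key h
  simpa using this

/-- coefficients of the image under a chart map of the shape `x ↦ T⁻¹, y ↦ β T` -/
theorem coeff_hom_neg (g : PolyNodeRing R c →ₐ[R] LaurentPolynomial R) (β : R)
    (hgx : g (PolyNodeRing.x R c) = T (-1)) (hgy : g (PolyNodeRing.y R c) = C β * T 1)
    (h : PolyNodeRing R c) (a : ℤ) :
    (g h).coeff a = β ^ a.toNat * Φ R c h (-a) := by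
  have key : (Finsupp.lapply a).comp
      ((AddMonoidAlgebra.coeffLinearEquiv (S := R) (M := ℤ) R).toLinearMap.comp g.toLinearMap) =
      (β ^ a.toNat) • (Finsupp.lapply (-a)).comp (Φ R c) := by
    apply (basis R c).ext
    intro n
    rw [basis_apply]
    simp only [LinearMap.comp_apply, LinearMap.smul_apply, Finsupp.lapply_apply, smul_eq_mul,
      AlgHom.toLinearMap_apply, LinearEquiv.coe_coe]
    change (g (e R c n)).coeff a = _
    rw [algHom_e, Φ_e, hgx, hgy]
    by_cases hn : 0 ≤ n
    · rw [if_pos hn, T_pow]
      have e1 : ((n.toNat : ℕ) : ℤ) * (-1) = -n := by omega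
      rw [e1, T_apply]
      by_cases hna : -n = a
      · have hna' : n = -a := by omega
        have : a.toNat = 0 := by omega
        rw [if_pos hna, this, pow_zero, one_mul, hna']; simp
      · have hna' : n ≠ -a := by omega
        rw [if_neg hna, Finsupp.single_eq_of_ne' hna', mul_zero]
    · rw [if_neg hn, mul_pow, ← map_pow, T_pow, mul_one]
      have e1 : (((-n).toNat : ℕ) : ℤ) = -n := by omega
      rw [e1, coeff_C_mul_T]
      by_cases hna : -n = a
      · have hna' : n = -a := by omega
        rw [if_pos hna, hna']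
        have : (-(-a)).toNat = a.toNat := by rw [neg_neg]
        rw [this]; simp
      · have hna' : n ≠ -a := by omega
        rw [if_neg hna, Finsupp.single_eq_of_ne' hna', mul_zero]
  have := LinearMap.congr_fun key h
  simpa using this

theorem coeff_T_mul (F : LaurentPolynomial R) (m a : ℤ) :
    (T m * F).coeff a = F.coeff (a - m) := by
  unfold T
  rw [AddMonoidAlgebra.coeff_single_mul_apply, one_mul]
  congr 1; ring

end Groth.Agent.Lib.Seat90.PolyNode
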