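import Groth.Agent.Lib.Seat90PolyNodeSec

/-!
# Further multiplication formulas for the standard monomials of `R[x, y]/(xy - c)`
-/

set_option autoImplicit false
universe u

namespace Groth.Agent.Lib.Seat90.PolyNode

open SpinCurv

variable (R : Type u) [CommRing R] (c : R)

theorem e_mul_x_pow (k : ℤ) (j : ℕ) :
    e R c k * PolyNodeRing.x R c ^ j = c ^ (min j (-k).toNat) • e R c (k + j) := by
  rcases Int.le_total 0 k with h | h
  · obtain ⟨m, rfl⟩ := Int.eq_ofNat_of_zero_le h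
    have e1 : (-(m : ℤ)).toNat = 0 := by omega
    have e2 : ((m : ℤ) + j) = ((m + j : ℕ) : ℤ) := by push_cast; ring
    rw [e1, Nat.min_zero, pow_zero, one_smul, e2, e_natCast, e_natCast, pow_add]
  · obtain ⟨m, rfl⟩ : ∃ m : ℕ, k = -(m : ℤ) := ⟨(-k).toNat, by omega⟩
    have e1 : (-(-(m : ℤ))).toNat = m := by omega
    have e2 : (-(m : ℤ) + j) = (j : ℤ) - m := by ring
    rw [e1, e2, e_neg_natCast, mul_comm, x_pow_mul_y_pow]

theorem e_mul_y_pow (k : ℤ) (j : ℕ) :
    e R c k * PolyNodeRing.y R c ^ j = c ^ (min k.toNat j) • e R c (k - j) := by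
  rcases Int.le_total 0 k with h | h
  · obtain ⟨m, rfl⟩ := Int.eq_ofNat_of_zero_le h
    rw [Int.toNat_natCast, e_natCast, x_pow_mul_y_pow]
  · obtain ⟨m, rfl⟩ : ∃ m : ℕ, k = -(m : ℤ) := ⟨(-k).toNat, by omega⟩
    have e1 : (-(m : ℤ)).toNat = 0 := by omega
    have e2 : (-(m : ℤ) - j) = -((m + j : ℕ) : ℤ) := by push_cast; ring
    rw [e1, Nat.zero_min, pow_zero, one_smul, e2, e_neg_natCast, e_neg_natCast, pow_add]

variable {R}

/-- image of the standard monomials under a homomorphism of the shape `x ↦ α x', y ↦ y'` -/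
theorem hom_e_left {c' : R} (α : R) (r : PolyNodeRing R c →ₐ[R] PolyNodeRing R c')
    (hx : r (PolyNodeRing.x R c) = algebraMap R _ α * PolyNodeRing.x R c')
    (hy : r (PolyNodeRing.y R c) = PolyNodeRing.y R c') (k : ℤ) :
    r (e R c k) = α ^ k.toNat • e R c' k := by
  rw [algHom_e]
  by_cases h : 0 ≤ k
  · rw [if_pos h, hx, mul_pow, ← map_pow, ← smul_eq]
    unfold e
    rw [if_pos h]
  · have e1 : k.toNat = 0 := by omega
    rw [if_neg h, hy, e1, pow_zero, one_smul]
    unfold e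
    rw [if_neg h]

/-- image of the standard monomials under a homomorphism of the shape `x ↦ y', y ↦ β x'` -/
theorem hom_e_right {c' : R} (β : R) (r : PolyNodeRing R c →ₐ[R] PolyNodeRing R c')
    (hx : r (PolyNodeRing.x R c) = PolyNodeRing.y R c')
    (hy : r (PolyNodeRing.y R c) = algebraMap R _ β * PolyNodeRing.x R c') (k : ℤ) :
    r (e R c k) = β ^ (-k).toNat • e R c' (-k) := by
  rw [algHom_e]
  by_cases h : 0 ≤ k
  · obtain ⟨m, rfl⟩ := Int.eq_ofNat_of_zero_le h
    have e1 : (-(m : ℤ)).toNat = 0 := by omega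
    rw [if_pos h, hx, e1, pow_zero, one_smul, e_neg_natCast, Int.toNat_natCast]
  · obtain ⟨m, rfl⟩ : ∃ m : ℕ, k = -(m : ℤ) := ⟨(-k).toNat, by omega⟩
    rw [if_neg h, hy, neg_neg, Int.toNat_natCast, mul_pow, ← map_pow, ← smul_eq, e_natCast]

end Groth.Agent.Lib.Seat90.PolyNode
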