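import Groth.Agent.Lib.Seat90PolyNode2

/-!
# Sections of the twisting sheaves on the blown-up node, in coordinates

For the two charts `R[s, y]/(sy - q)` and `R[t, x]/(xt - p)` glued along `R[T, T⁻¹]`
(`s ↦ T, y ↦ q T⁻¹`, `t ↦ T⁻¹, x ↦ p T`), the module of pairs `(g, f)` with `g = Tⁿ f` on the
overlap (`n ≥ -1`) is free with an explicit basis `v a`, `a : ℤ`.
-/

set_option autoImplicit false
universe u

namespace Groth.Agent.Lib.Seat90.PolyNode

open SpinCurv LaurentPolynomial

/-- `Finsupp.filter` as a linear map -/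
noncomputable def lfilter (R : Type u) [CommRing R] (P : ℤ → Prop) [DecidablePred P] :
    (ℤ →₀ R) →ₗ[R] (ℤ →₀ R) where
  toFun := Finsupp.filter P
  map_add' _ _ := Finsupp.filter_add
  map_smul' _ _ := Finsupp.filter_smul

theorem lfilter_apply (R : Type u) [CommRing R] (P : ℤ → Prop) [DecidablePred P] (v : ℤ →₀ R) (a : ℤ) :
    lfilter R P v a = if P a then v a else 0 := by
  change Finsupp.filter P v a = _
  rw [Finsupp.filter_apply]

section Sec

variable (R : Type u) [CommRing R] (p q : R)
  (gU : PolyNodeRing R q →ₐ[R] LaurentPolynomial R)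
  (gV : PolyNodeRing R p →ₐ[R] LaurentPolynomial R)
  (n : ℤ)

/-- the difference of the two restrictions to the overlap -/
noncomputable def Λ : PolyNodeRing R q × PolyNodeRing R p →ₗ[R] LaurentPolynomial R :=
  gU.toLinearMap.comp (LinearMap.fst R (PolyNodeRing R q) (PolyNodeRing R p)) -
    (LinearMap.mulLeft R (LaurentPolynomial.T n)).comp
      (gV.toLinearMap.comp (LinearMap.snd R (PolyNodeRing R q) (PolyNodeRing R p)))

theorem Λ_apply (z : PolyNodeRing R q × PolyNodeRing R p) :
    Λ R p q gU gV n z = gU z.1 - LaurentPolynomial.T n * gV z.2 := rfl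

variable (hgUs : gU (PolyNodeRing.x R q) = LaurentPolynomial.T 1)
  (hgUy : gU (PolyNodeRing.y R q) = LaurentPolynomial.C q * LaurentPolynomial.T (-1))
  (hgVt : gV (PolyNodeRing.x R p) = LaurentPolynomial.T (-1))
  (hgVx : gV (PolyNodeRing.y R p) = LaurentPolynomial.C p * LaurentPolynomial.T 1)

include hgUs hgUy hgVt hgVx in
theorem mem_ker_Λ (z : PolyNodeRing R q × PolyNodeRing R p) :
    z ∈ LinearMap.ker (Λ R p q gU gV n) ↔
      ∀ a : ℤ, q ^ (-a).toNat * Φ R q z.1 a = p ^ (a - n).toNat * Φ R p z.2 (-(a - n)) := by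
  rw [LinearMap.mem_ker, Λ_apply, sub_eq_zero]
  constructor
  · intro h a
    rw [← coeff_hom_pos R q gU q hgUs hgUy, ← coeff_hom_neg R p gV p hgVt hgVx, h, coeff_T_mul]
  · intro h
    ext a
    rw [coeff_T_mul, coeff_hom_pos R q gU q hgUs hgUy, coeff_hom_neg R p gV p hgVt hgVx]
    exact h a

/-- the coordinate projection: negative coordinates of the first component, and the reflected
coordinates of the second component in nonnegative degrees -/
noncomputable def π₀ : PolyNodeRing R q × PolyNodeRing R p →ₗ[R] (ℤ →₀ R) :=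
  (lfilter R (fun a => a < 0)).comp ((Φ R q).comp (LinearMap.fst R _ _)) +
    (lfilter R (fun a => 0 ≤ a)).comp
      ((Finsupp.domLCongr (Equiv.subLeft n)).toLinearMap.comp ((Φ R p).comp (LinearMap.snd R _ _)))

theorem π₀_apply (z : PolyNodeRing R q × PolyNodeRing R p) (a : ℤ) :
    π₀ R p q n z a =
      (if a < 0 then Φ R q z.1 a else 0) + (if 0 ≤ a then Φ R p z.2 (n - a) else 0) := by
  simp only [π₀, LinearMap.add_apply, LinearMap.comp_apply, Finsupp.add_apply, lfilter_apply,
    LinearMap.fst_apply, LinearMap.snd_apply, LinearEquiv.coe_coe, Finsupp.domLCongr_apply,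
    Finsupp.domCongr_apply, Finsupp.equivMapDomain_apply, Equiv.subLeft_symm_apply]
  congr 3
  ring

/-- the basis vectors of the module of sections -/
noncomputable def v (a : ℤ) : PolyNodeRing R q × PolyNodeRing R p :=
  if 0 ≤ a then (p ^ (a - n).toNat • e R q a, e R p (n - a))
  else (e R q a, q ^ (-a).toNat • e R p (n - a))

variable (hn : -1 ≤ n)

include hgUs hgUy hgVt hgVx hn in
theorem v_mem (a : ℤ) : v R p q n a ∈ LinearMap.ker (Λ R p q gU gV n) := by
  rw [mem_ker_Λ R p q gU gV n hgUs hgUy hgVt hgVx]
  intro b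
  by_cases ha : 0 ≤ a
  · simp only [v, if_pos ha, map_smul, Φ_e, Finsupp.smul_apply, smul_eq_mul]
    by_cases hab : a = b
    · subst hab
      have e1 : (-a).toNat = 0 := by omega
      have e2 : -(a - n) = n - a := by ring
      rw [e1, e2]; simp
    · have hab' : n - a ≠ -(b - n) := by omega
      rw [Finsupp.single_eq_of_ne' hab, Finsupp.single_eq_of_ne' hab']; simp
  · simp only [v, if_neg ha, map_smul, Φ_e, Finsupp.smul_apply, smul_eq_mul]
    by_cases hab : a = b
    · subst hab
      have e1 : (a - n).toNat = 0 := by omega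
      have e2 : -(a - n) = n - a := by ring
      rw [e1, e2]; simp
    · have hab' : n - a ≠ -(b - n) := by omega
      rw [Finsupp.single_eq_of_ne' hab, Finsupp.single_eq_of_ne' hab']; simp

theorem π₀_v (a : ℤ) : π₀ R p q n (v R p q n a) = Finsupp.single a 1 := by
  ext b
  rw [π₀_apply]
  by_cases ha : 0 ≤ a
  · simp only [v, if_pos ha, map_smul, Φ_e, Finsupp.smul_apply, smul_eq_mul]
    by_cases hab : a = b
    · subst hab
      rw [if_neg (by omega), if_pos ha]; simp
    · have hab' : n - a ≠ n - b := by omega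
      rw [Finsupp.single_eq_of_ne' hab, Finsupp.single_eq_of_ne' hab']; simp
  · simp only [v, if_neg ha, map_smul, Φ_e, Finsupp.smul_apply, smul_eq_mul]
    by_cases hab : a = b
    · subst hab
      rw [if_pos (by omega), if_neg ha]; simp
    · have hab' : n - a ≠ n - b := by omega
      rw [Finsupp.single_eq_of_ne' hab, Finsupp.single_eq_of_ne' hab']; simp

theorem π₀_linearCombination (r : ℤ →₀ R) :
    π₀ R p q n (Finsupp.linearCombination R (v R p q n) r) = r := by
  induction r using Finsupp.induction_linear with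
  | zero => simp
  | add x y hx hy => rw [map_add, map_add, hx, hy]
  | single a s =>
    rw [Finsupp.linearCombination_single, map_smul, π₀_v, Finsupp.smul_single, smul_eq_mul, mul_one]

include hgUs hgUy hgVt hgVx hn in
/-- `π₀` is injective on the module of sections -/
theorem eq_zero_of_π₀_eq_zero (z : PolyNodeRing R q × PolyNodeRing R p)
    (hz : z ∈ LinearMap.ker (Λ R p q gU gV n)) (h0 : π₀ R p q n z = 0) : z = 0 := by
  have hz' := (mem_ker_Λ R p q gU gV n hgUs hgUy hgVt hgVx z).1 hz
  have h0' : ∀ a, π₀ R p q n z a = 0 := fun a => by rw [h0]; rfl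
  have hneg : ∀ a : ℤ, a < 0 → Φ R q z.1 a = 0 := by
    intro a ha
    have := h0' a
    rw [π₀_apply, if_pos ha, if_neg (by omega), add_zero] at this
    exact this
  have hpos : ∀ a : ℤ, 0 ≤ a → Φ R p z.2 (n - a) = 0 := by
    intro a ha
    have := h0' a
    rw [π₀_apply, if_neg (by omega), if_pos ha, zero_add] at this
    exact this
  have h1 : Φ R q z.1 = 0 := by
    ext a
    rw [Finsupp.zero_apply]
    by_cases ha : a < 0
    · exact hneg a ha
    · have := hz' a
      have e1 : (-a).toNat = 0 := by omega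
      have e2 : -(a - n) = n - a := by ring
      rw [e1, e2, pow_zero, one_mul, hpos a (by omega), mul_zero] at this
      exact this
  have h2 : Φ R p z.2 = 0 := by
    ext b
    rw [Finsupp.zero_apply]
    by_cases hb : 0 ≤ n - b
    · have := hpos (n - b) hb
      rwa [sub_sub_cancel] at this
    · have := hz' (n - b)
      have e1 : (n - b - n).toNat = 0 := by omega
      have e2 : -(n - b - n) = b := by ring
      rw [e1, e2, pow_zero, one_mul, hneg (n - b) (by omega), mul_zero] at this
      exact this.symm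
  have g0 : z.1 = 0 := Φ_injective R q (h1.trans (map_zero (Φ R q)).symm)
  have f0 : z.2 = 0 := Φ_injective R p (h2.trans (map_zero (Φ R p)).symm)
  exact Prod.ext g0 f0

include hgUs hgUy hgVt hgVx hn in
/-- every section is the combination of the `v a` given by its coordinates -/
theorem eq_linearCombination (z : PolyNodeRing R q × PolyNodeRing R p)
    (hz : z ∈ LinearMap.ker (Λ R p q gU gV n)) :
    z = Finsupp.linearCombination R (v R p q n) (π₀ R p q n z) := by
  have hmem : Finsupp.linearCombination R (v R p q n) (π₀ R p q n z) ∈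
      LinearMap.ker (Λ R p q gU gV n) := by
    rw [Finsupp.linearCombination_apply]
    refine Submodule.sum_mem _ fun a _ => Submodule.smul_mem _ _ ?_
    exact v_mem R p q gU gV n hgUs hgUy hgVt hgVx hn a
  have h := eq_zero_of_π₀_eq_zero R p q gU gV n hgUs hgUy hgVt hgVx hn
    (z - Finsupp.linearCombination R (v R p q n) (π₀ R p q n z))
    (Submodule.sub_mem _ hz hmem) (by rw [map_sub, π₀_linearCombination, sub_self])
  exact sub_eq_zero.1 h

include hgUs hgUy hgVt hgVx hn in
/-- the module of sections is free -/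
theorem free_ker_Λ : Module.Free R (LinearMap.ker (Λ R p q gU gV n)) := by
  let π : LinearMap.ker (Λ R p q gU gV n) →ₗ[R] (ℤ →₀ R) :=
    (π₀ R p q n).comp (Submodule.subtype _)
  have hinj : Function.Injective π := by
    rw [← LinearMap.ker_eq_bot, LinearMap.ker_eq_bot']
    rintro ⟨z, hz⟩ h0
    apply Subtype.ext
    exact eq_zero_of_π₀_eq_zero R p q gU gV n hgUs hgUy hgVt hgVx hn z hz h0
  have hsurj : Function.Surjective π := by
    intro x
    refine ⟨⟨Finsupp.linearCombination R (v R p q n) x, ?_⟩, π₀_linearCombination R p q n x⟩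
    rw [Finsupp.linearCombination_apply]
    refine Submodule.sum_mem _ fun a _ => Submodule.smul_mem _ _ ?_
    exact v_mem R p q gU gV n hgUs hgUy hgVt hgVx hn a
  exact Module.Free.of_equiv (LinearEquiv.ofBijective π ⟨hinj, hsurj⟩).symm

end Sec

end Groth.Agent.Lib.Seat90.PolyNode
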