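import Mathlib
import Groth.Prelude.Def_CAlgX
import Groth.Agent.Lib.Seat90NilNak

set_option autoImplicit false
universe u v

namespace Groth.Agent.Lib.Seat90.QRegTrunc

open MvPolynomial

variable (R : Type u) {A : Type v} [CommRing R] [CommRing A] [Algebra R A] {d : ℕ} (x : Fin d → A)
  (N : ℕ)

/-- the ideal `J` -/
abbrev JJ : Ideal A := Ideal.span (Set.range x)

/-- the image `J̄` of `J` in `A/J^N` -/
abbrev Jb : Ideal (A ⧸ JJ x ^ N) := (JJ x).map (Ideal.Quotient.mk (JJ x ^ N))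

theorem Jb_pow (k : ℕ) : Jb x N ^ k = (JJ x ^ k).map (Ideal.Quotient.mk (JJ x ^ N)) := by
  rw [Jb, Ideal.map_pow]

theorem Jb_pow_N : Jb x N ^ N = ⊥ := by
  rw [Jb_pow, Ideal.map_quotient_self]

variable (hN : 1 ≤ N)
include hN

theorem pow_le : JJ x ^ N ≤ JJ x := Ideal.pow_le_self (by omega)

/-- the projection `A/J^N → A/J` -/
noncomputable abbrev piN : (A ⧸ JJ x ^ N) →ₐ[R] (A ⧸ JJ x) :=
  Ideal.Quotient.factorₐ R (pow_le x N hN)

theorem piN_surjective : Function.Surjective (piN R x N hN) :=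
  Ideal.Quotient.factor_surjective (pow_le x N hN)

theorem ker_piN : RingHom.ker (piN R x N hN : (A ⧸ JJ x ^ N) →+* (A ⧸ JJ x)) = Jb x N := by
  ext c
  obtain ⟨a, rfl⟩ := Ideal.Quotient.mk_surjective c
  rw [RingHom.mem_ker]
  change Ideal.Quotient.mk (JJ x) a = 0 ↔ _
  rw [Ideal.Quotient.eq_zero_iff_mem]
  constructor
  · intro h
    exact Ideal.mem_map_of_mem _ h
  · intro h
    have h2 : a ∈ (Jb x N).comap (Ideal.Quotient.mk (JJ x ^ N)) := h
    rw [Jb, Ideal.comap_map_of_surjective _ Ideal.Quotient.mk_surjective, ← RingHom.ker_eq_comap_bot,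
      Ideal.mk_ker, sup_eq_left.mpr (pow_le x N hN)] at h2
    exact h2

theorem isNilpotent_ker_piN :
    IsNilpotent (RingHom.ker (piN R x N hN : (A ⧸ JJ x ^ N) →+* (A ⧸ JJ x))) := by
  rw [ker_piN]
  exact ⟨N, Jb_pow_N x N⟩

variable [Algebra.FormallySmooth R (A ⧸ JJ x)]

/-- the section `A/J → A/J^N` given by formal smoothness -/
noncomputable def sec : (A ⧸ JJ x) →ₐ[R] (A ⧸ JJ x ^ N) :=
  Algebra.FormallySmooth.liftOfSurjective (AlgHom.id R (A ⧸ JJ x)) (piN R x N hN)
    (piN_surjective R x N hN) (isNilpotent_ker_piN R x N hN)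

theorem piN_sec (b : A ⧸ JJ x) : piN R x N hN (sec R x N hN b) = b :=
  Algebra.FormallySmooth.liftOfSurjective_apply _ _ _ _ b

/-- `ψ : B[T] → A/J^N`, `T_i ↦ x_i`, `b ↦ s(b)`. -/
noncomputable def psi : MvPolynomial (Fin d) (A ⧸ JJ x) →ₐ[R] (A ⧸ JJ x ^ N) :=
  { MvPolynomial.eval₂Hom (sec R x N hN : (A ⧸ JJ x) →+* (A ⧸ JJ x ^ N))
      (fun i => Ideal.Quotient.mk (JJ x ^ N) (x i)) with
    commutes' := fun r => by
      simp only [RingHom.toMonoidHom_eq_coe, OneHom.toFun_eq_coe, MonoidHom.toOneHom_coe,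
        MonoidHom.coe_coe, MvPolynomial.algebraMap_apply, coe_eval₂Hom, eval₂_C, RingHom.coe_coe,
        AlgHom.commutes] }

theorem psi_X (i : Fin d) : psi R x N hN (X i) = Ideal.Quotient.mk (JJ x ^ N) (x i) := by
  simp [psi]

theorem psi_C (b : A ⧸ JJ x) : psi R x N hN (C b) = sec R x N hN b := by
  simp [psi]

theorem psi_apply (p : MvPolynomial (Fin d) (A ⧸ JJ x)) :
    psi R x N hN p = MvPolynomial.eval₂ (sec R x N hN : (A ⧸ JJ x) →+* (A ⧸ JJ x ^ N))
      (fun i => Ideal.Quotient.mk (JJ x ^ N) (x i)) p := rfl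


theorem psi_mem_pow (k : ℕ) {p : MvPolynomial (Fin d) (A ⧸ JJ x)}
    (hp : p ∈ idealOfVars (Fin d) (A ⧸ JJ x) ^ k) : psi R x N hN p ∈ Jb x N ^ k := by
  have h1 : (idealOfVars (Fin d) (A ⧸ JJ x)).map (psi R x N hN) ≤ Jb x N := by
    rw [Ideal.map_span, Ideal.span_le]
    rintro _ ⟨_, ⟨i, rfl⟩, rfl⟩
    rw [psi_X]
    exact Ideal.mem_map_of_mem _ (Ideal.subset_span ⟨i, rfl⟩)
  have h2 : (idealOfVars (Fin d) (A ⧸ JJ x) ^ k).map (psi R x N hN) ≤ Jb x N ^ k := by
    rw [Ideal.map_pow]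
    exact Ideal.pow_right_mono h1 k
  exact h2 (Ideal.mem_map_of_mem _ hp)

theorem psi_eq_zero_of_mem {p : MvPolynomial (Fin d) (A ⧸ JJ x)}
    (hp : p ∈ idealOfVars (Fin d) (A ⧸ JJ x) ^ N) : psi R x N hN p = 0 := by
  have := psi_mem_pow R x N hN N hp
  rwa [Jb_pow_N, Ideal.mem_bot] at this

/-- `ψ̄ : B[T]/(T)^N → A/J^N`. -/
noncomputable def psib :
    (MvPolynomial (Fin d) (A ⧸ JJ x) ⧸ idealOfVars (Fin d) (A ⧸ JJ x) ^ N) →ₐ[R] (A ⧸ JJ x ^ N) :=
  Ideal.Quotient.liftₐ _ (psi R x N hN) (fun _ ha => psi_eq_zero_of_mem R x N hN ha)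

theorem psib_mk (p : MvPolynomial (Fin d) (A ⧸ JJ x)) :
    psib R x N hN (Ideal.Quotient.mk _ p) = psi R x N hN p := rfl

theorem psi_surjective : Function.Surjective (psi R x N hN) := by
  intro c
  have hspan : Ideal.span (Set.range fun i => Ideal.Quotient.mk (JJ x ^ N) (x i)) = Jb x N := by
    rw [Jb, Ideal.map_span, ← Set.range_comp]
    rfl
  have := NilNak.eq_top (psi R x N hN : MvPolynomial (Fin d) (A ⧸ JJ x) →+* (A ⧸ JJ x ^ N)).range
    (Set.range fun i => Ideal.Quotient.mk (JJ x ^ N) (x i)) ?_ ?_ N ?_ c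
  · exact this
  · rintro _ ⟨i, rfl⟩
    exact ⟨X i, psi_X R x N hN i⟩
  · intro c
    refine ⟨sec R x N hN (piN R x N hN c), ⟨C (piN R x N hN c), psi_C R x N hN _⟩, ?_⟩
    rw [hspan, ← ker_piN R x N hN, RingHom.mem_ker, map_sub]
    change piN R x N hN c - piN R x N hN (sec R x N hN (piN R x N hN c)) = 0
    rw [piN_sec, sub_self]
  · rw [hspan, Jb_pow_N]

theorem psib_surjective : Function.Surjective (psib R x N hN) := by
  intro c
  obtain ⟨p, rfl⟩ := psi_surjective R x N hN c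
  exact ⟨Ideal.Quotient.mk _ p, rfl⟩


omit [Algebra.FormallySmooth R (A ⧸ JJ x)] in
theorem mk_eq_piN_mk (a : A) :
    Ideal.Quotient.mk (JJ x) a = piN R x N hN (Ideal.Quotient.mk (JJ x ^ N) a) := rfl

/-- The quasi-regularity step: a homogeneous polynomial of degree `k < N` over `B` whose image under
`ψ` lies in `J̄^{k+1}` is zero. -/
theorem homog_eq_zero (hqr : CAlgX.IsQuasiRegular x) (k : ℕ) (hk : k + 1 ≤ N)
    (q : MvPolynomial (Fin d) (A ⧸ JJ x)) (hq : q.IsHomogeneous k)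
    (h : psi R x N hN q ∈ Jb x N ^ (k + 1)) : q = 0 := by
  classical
  -- a set-theoretic lift of the section
  have hl : ∀ b : A ⧸ JJ x, ∃ a : A, Ideal.Quotient.mk (JJ x ^ N) a = sec R x N hN b :=
    fun b => Ideal.Quotient.mk_surjective _
  choose l hl using hl
  have hl2 : ∀ b, Ideal.Quotient.mk (JJ x) (l b) = b := by
    intro b
    rw [mk_eq_piN_mk R x N hN, hl, piN_sec]
  set Pt : MvPolynomial (Fin d) A := ∑ α ∈ q.support, monomial α (l (coeff α q)) with hPt
  have hPt_hom : Pt.IsHomogeneous k := by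
    refine IsHomogeneous.sum _ _ _ fun α hα => isHomogeneous_monomial _ ?_
    have := hq (mem_support_iff.mp hα)
    rw [Finsupp.degree_eq_weight_one]
    exact this
  have hPt_coeff : ∀ α ∈ q.support, coeff α Pt = l (coeff α q) := by
    intro α hα
    rw [hPt, coeff_sum]
    simp only [coeff_monomial]
    rw [Finset.sum_ite_eq' q.support α, if_pos hα]
  have hev : Ideal.Quotient.mk (JJ x ^ N) (eval x Pt) = psi R x N hN q := by
    rw [psi_apply, eval₂_eq', hPt, map_sum, map_sum]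
    apply Finset.sum_congr rfl
    intro α _
    rw [eval_monomial, map_mul, hl, Finsupp.prod_fintype _ _ (fun i => pow_zero _), map_prod]
    simp only [map_pow]
    rfl
  have hmem : eval x Pt ∈ JJ x ^ (k + 1) := by
    have h2 : eval x Pt ∈ (Jb x N ^ (k + 1)).comap (Ideal.Quotient.mk (JJ x ^ N)) := by
      rw [Ideal.mem_comap, hev]; exact h
    rw [Jb_pow, Ideal.comap_map_of_surjective _ Ideal.Quotient.mk_surjective,
      ← RingHom.ker_eq_comap_bot, Ideal.mk_ker,
      sup_eq_left.mpr (Ideal.pow_le_pow_right hk)] at h2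
    exact h2
  have hcoef := hqr k Pt hPt_hom hmem
  rw [← support_eq_empty, Finset.eq_empty_iff_forall_notMem]
  intro α hα
  have h3 := hcoef α
  rw [hPt_coeff α hα] at h3
  have h4 : coeff α q = 0 := by
    rw [← hl2 (coeff α q)]
    exact Ideal.Quotient.eq_zero_iff_mem.mpr h3
  exact (mem_support_iff.mp hα) h4


theorem mem_pow_of_psi_mem (hqr : CAlgX.IsQuasiRegular x) (k : ℕ) (hk : k ≤ N) :
    ∀ p : MvPolynomial (Fin d) (A ⧸ JJ x), psi R x N hN p ∈ Jb x N ^ k →
      p ∈ idealOfVars (Fin d) (A ⧸ JJ x) ^ k := by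
  induction k with
  | zero => intro p _; simp
  | succ k ih =>
    intro p hp
    have hpk : p ∈ idealOfVars (Fin d) (A ⧸ JJ x) ^ k :=
      ih (by omega) p (Ideal.pow_le_pow_right (Nat.le_succ k) hp)
    set pk := homogeneousComponent k p with hpk_def
    have hp' : p - pk ∈ idealOfVars (Fin d) (A ⧸ JJ x) ^ (k + 1) := by
      rw [mem_pow_idealOfVars_iff']
      intro m hm
      rw [coeff_sub, hpk_def, coeff_homogeneousComponent]
      by_cases hmk : m.degree = k
      · rw [if_pos hmk, sub_self]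
      · rw [if_neg hmk, sub_zero]
        exact (mem_pow_idealOfVars_iff' k p).mp hpk m (by omega)
    have h1 : psi R x N hN pk ∈ Jb x N ^ (k + 1) := by
      have : psi R x N hN pk = psi R x N hN p - psi R x N hN (p - pk) := by
        rw [map_sub]; ring
      rw [this]
      exact Ideal.sub_mem _ hp (psi_mem_pow R x N hN (k + 1) hp')
    have h2 : pk = 0 :=
      homog_eq_zero R x N hN hqr k hk pk (homogeneousComponent_isHomogeneous k p) h1
    rw [h2, sub_zero] at hp'
    exact hp'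

theorem psib_injective (hqr : CAlgX.IsQuasiRegular x) : Function.Injective (psib R x N hN) := by
  rw [injective_iff_map_eq_zero]
  intro q hq
  obtain ⟨p, rfl⟩ := Ideal.Quotient.mk_surjective q
  rw [psib_mk] at hq
  rw [Ideal.Quotient.eq_zero_iff_mem]
  apply mem_pow_of_psi_mem R x N hN hqr N le_rfl p
  rw [hq]
  exact Ideal.zero_mem _

/-- the equivalence `A/J^N ≃ B[T]/(T)^N` -/
noncomputable def equiv (hqr : CAlgX.IsQuasiRegular x) :
    (A ⧸ JJ x ^ N) ≃ₐ[R]
      (MvPolynomial (Fin d) (A ⧸ JJ x) ⧸ idealOfVars (Fin d) (A ⧸ JJ x) ^ N) :=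
  (AlgEquiv.ofBijective (psib R x N hN)
    ⟨psib_injective R x N hN hqr, psib_surjective R x N hN⟩).symm

theorem equiv_x (hqr : CAlgX.IsQuasiRegular x) (i : Fin d) :
    equiv R x N hN hqr (Ideal.Quotient.mk _ (x i)) = Ideal.Quotient.mk _ (X i) := by
  rw [equiv, AlgEquiv.symm_apply_eq]
  change _ = psib R x N hN (Ideal.Quotient.mk _ (X i))
  rw [psib_mk, psi_X]

theorem piN_psi (p : MvPolynomial (Fin d) (A ⧸ JJ x)) :
    piN R x N hN (psi R x N hN p) = constantCoeff p := by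
  have : ((piN R x N hN : (A ⧸ JJ x ^ N) →+* (A ⧸ JJ x)).comp
      (psi R x N hN : MvPolynomial (Fin d) (A ⧸ JJ x) →+* (A ⧸ JJ x ^ N))) = constantCoeff := by
    apply MvPolynomial.ringHom_ext
    · intro b
      change piN R x N hN (psi R x N hN (C b)) = constantCoeff (C b)
      rw [psi_C, piN_sec, constantCoeff_C]
    · intro i
      change piN R x N hN (psi R x N hN (X i)) = constantCoeff (X i)
      rw [psi_X, constantCoeff_X]
      change Ideal.Quotient.mk (JJ x) (x i) = 0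
      exact Ideal.Quotient.eq_zero_iff_mem.mpr (Ideal.subset_span ⟨i, rfl⟩)
  exact congrArg (fun f => f p) this

theorem equiv_sub_mem (hqr : CAlgX.IsQuasiRegular x) (a : A) :
    equiv R x N hN hqr (Ideal.Quotient.mk _ a) -
      Ideal.Quotient.mk _ (C (Ideal.Quotient.mk _ a)) ∈
      (idealOfVars (Fin d) (A ⧸ JJ x)).map (Ideal.Quotient.mk _) := by
  obtain ⟨p, hp⟩ := Ideal.Quotient.mk_surjective (equiv R x N hN hqr (Ideal.Quotient.mk _ a))
  rw [← hp, ← map_sub]
  apply Ideal.mem_map_of_mem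
  have h1 : psi R x N hN p = Ideal.Quotient.mk _ a := by
    have : psib R x N hN (Ideal.Quotient.mk _ p) = Ideal.Quotient.mk _ a := by
      rw [hp, equiv]
      exact AlgEquiv.apply_symm_apply (AlgEquiv.ofBijective (psib R x N hN) _) _
    rwa [psib_mk] at this
  have h2 : constantCoeff (p - C (Ideal.Quotient.mk (JJ x) a)) = 0 := by
    rw [map_sub, constantCoeff_C, ← piN_psi R x N hN p, h1]
    exact sub_self _
  have h3 := (mem_pow_idealOfVars_iff' 1 (p - C (Ideal.Quotient.mk (JJ x) a))).mpr (by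
    intro m hm
    have hm0 : m = 0 := by
      have : m.degree = 0 := by omega
      exact (Finsupp.degree_eq_zero_iff m).mp this
    rw [hm0]
    exact h2)
  rwa [pow_one] at h3

end Groth.Agent.Lib.Seat90.QRegTrunc
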