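import Mathlib
import Groth.Prelude
import Groth.Agent.Lib.Seat8Coext
import Groth.Agent.Lib.Helper17KInj12

/-!
# The triangle `RHom_A(A/f, ω) → ω → ω` for a nonzerodivisor `f` (Seat 90)

For a nonzerodivisor `f` of `A`, `B = A/(f)` and any right adjoint `R` of restriction of scalars
`D(B) → D(A)`, there is a distinguished triangle `R(ω)|_A → ω --f--> ω → R(ω)|_A[1]` for every
`ω ∈ D(A)`: represent `ω` by a K-injective complex `I` of injective modules; `R(ω)` is `Hom_A(B, I)`
(Seat 8), and `0 → Hom_A(B, I) → I --f--> I → 0` is termwise exact since injective modules are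
divisible by nonzerodivisors.
-/

set_option autoImplicit false
universe u
open CategoryTheory CategoryTheory.Limits CategoryTheory.Pretriangulated

attribute [local instance] HasDerivedCategory.standard

namespace Groth.Agent.Lib.Seat90.QuotTriangle

open DerivedCategory Groth.Agent.Lib.Seat8.Coext Groth.Agent.Lib.Seat8.RestrictAdj
  Groth.Agent.Lib.Helper16.KInjAdj

variable {A : Type u} [CommRing A] (f : A)

/-- multiplication by a nonzerodivisor is surjective on an injective module. -/
theorem smul_surjective_of_injective (hf : f ∈ nonZeroDivisors A) (M : ModuleCat.{u} A)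
    [Injective M] (m : M) : ∃ m' : M, f • m' = m := by
  let g : ModuleCat.of A A ⟶ ModuleCat.of A A := ModuleCat.ofHom (LinearMap.mulLeft A f)
  have : Mono g := by
    rw [ModuleCat.mono_iff_injective]
    intro x y hxy
    change f * x = f * y at hxy
    exact (mul_cancel_left_mem_nonZeroDivisors hf).1 hxy
  let h : ModuleCat.of A A ⟶ M := ModuleCat.ofHom (LinearMap.toSpanSingleton A M m)
  refine ⟨Injective.factorThru h g (1 : A), ?_⟩
  have h1 : g ≫ Injective.factorThru h g = h := Injective.comp_factorThru h g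
  have h2 := congrArg (fun k => k.hom (1 : A)) h1
  simp only [ModuleCat.hom_comp, LinearMap.comp_apply] at h2
  change (Injective.factorThru h g).hom (f * 1) = (1 : A) • m at h2
  rw [one_smul, mul_one] at h2
  rw [← h2, ← map_smul, smul_eq_mul, mul_one]

theorem counit_apply {B : Type u} [CommRing B] (φ : A →+* B) (M : ModuleCat.{u} A)
    (g : (ModuleCat.restrictScalars.{u} φ).obj ((ModuleCat.coextendScalars.{u, u, u} φ).obj M)) :
    ((rcAdj φ).counit.app M).hom g = ModuleCat.CoextendScalars.equiv φ M g (1 : B) := rfl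

theorem counit_injective {B : Type u} [CommRing B] (φ : A →+* B) (hφ : Function.Surjective φ)
    (M : ModuleCat.{u} A) : Function.Injective ((rcAdj φ).counit.app M).hom := by
  rw [injective_iff_map_eq_zero]
  intro g hg
  rw [counit_apply] at hg
  apply ModuleCat.CoextendScalars.ext
  ext s
  obtain ⟨a, rfl⟩ := hφ s
  let one' : ((ModuleCat.restrictScalars.{u} φ).obj (ModuleCat.of B B)) := (1 : B)
  have h1 : (φ a : B) = a • one' := by
    rw [ModuleCat.restrictScalars.smul_def]
    exact (mul_one _).symm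
  change (ModuleCat.CoextendScalars.equiv φ M g) (φ a) = 0
  rw [h1, map_smul]
  change a • (ModuleCat.CoextendScalars.equiv φ M g) (1 : B) = 0
  rw [hg, smul_zero]

theorem span_le_ker (M : ModuleCat.{u} A) (m : M) (hm : f • m = 0) :
    Ideal.span {f} ≤ LinearMap.ker (LinearMap.toSpanSingleton A M m) := by
  rw [Ideal.span, Submodule.span_le]
  rintro x rfl
  change LinearMap.toSpanSingleton A M m x = 0
  rw [LinearMap.toSpanSingleton_apply, hm]

/-- the `A`-linear map `A/(f) → M` attached to an `f`-torsion element, for the standard module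
structure. -/
noncomputable def tl (M : ModuleCat.{u} A) (m : M) (hm : f • m = 0) :
    (A ⧸ Ideal.span {f}) →ₗ[A] M :=
  (Ideal.span {f}).liftQ (LinearMap.toSpanSingleton A M m) (span_le_ker f M m hm)

theorem tl_mk (M : ModuleCat.{u} A) (m : M) (hm : f • m = 0) (x : A) :
    tl f M m hm (Ideal.Quotient.mk (Ideal.span {f}) x) = x • m := by
  change (Ideal.span {f}).liftQ (LinearMap.toSpanSingleton A M m) _ (Submodule.Quotient.mk x) = _
  rw [Submodule.liftQ_apply, LinearMap.toSpanSingleton_apply]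

/-- the `A`-linear map `A/(f) → M` attached to an `f`-torsion element. -/
noncomputable def torsionMap (M : ModuleCat.{u} A) (m : M) (hm : f • m = 0) :
    ((ModuleCat.restrictScalars.{u} (Ideal.Quotient.mk (Ideal.span {f}))).obj
      (ModuleCat.of (A ⧸ Ideal.span {f}) (A ⧸ Ideal.span {f}))) →ₗ[A] M where
  toFun s := tl f M m hm s
  map_add' x y := map_add (tl f M m hm) x y
  map_smul' a s := by
    obtain ⟨x, rfl⟩ := Ideal.Quotient.mk_surjective s
    change tl f M m hm (Ideal.Quotient.mk (Ideal.span {f}) a * Ideal.Quotient.mk (Ideal.span {f}) x)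
      = a • tl f M m hm (Ideal.Quotient.mk (Ideal.span {f}) x)
    rw [← map_mul, tl_mk, tl_mk, mul_smul]

theorem torsionMap_one (M : ModuleCat.{u} A) (m : M) (hm : f • m = 0) :
    torsionMap f M m hm (1 : A ⧸ Ideal.span {f}) = m := by
  change tl f M m hm (Ideal.Quotient.mk (Ideal.span {f}) 1) = m
  rw [tl_mk, one_smul]

section SC

variable (hf : f ∈ nonZeroDivisors A)

theorem counit_comp_smul (M : ModuleCat.{u} A) :
    (rcAdj (Ideal.Quotient.mk (Ideal.span {f}))).counit.app M ≫ (f • 𝟙 M) = 0 := by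
  ext g
  rw [ModuleCat.hom_comp, LinearMap.comp_apply, counit_apply]
  change f • (ModuleCat.CoextendScalars.equiv (Ideal.Quotient.mk (Ideal.span {f})) M g)
    (1 : A ⧸ Ideal.span {f}) = 0
  let one' : ((ModuleCat.restrictScalars.{u} (Ideal.Quotient.mk (Ideal.span {f}))).obj
    (ModuleCat.of (A ⧸ Ideal.span {f}) (A ⧸ Ideal.span {f}))) := (1 : A ⧸ Ideal.span {f})
  change f • (ModuleCat.CoextendScalars.equiv (Ideal.Quotient.mk (Ideal.span {f})) M g) one' = 0
  rw [← map_smul, ModuleCat.restrictScalars.smul_def]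
  have : Ideal.Quotient.mk (Ideal.span {f}) f = 0 :=
    Ideal.Quotient.eq_zero_iff_mem.2 (Ideal.subset_span rfl)
  rw [this, zero_smul]
  exact LinearMap.map_zero _

/-- the termwise short complex `Hom_A(A/f, M) → M → M`. -/
noncomputable def termSC (M : ModuleCat.{u} A) : ShortComplex (ModuleCat.{u} A) :=
  ShortComplex.mk _ _ (counit_comp_smul f M)

include hf in
theorem termSC_shortExact (M : ModuleCat.{u} A) [Injective M] : (termSC f M).ShortExact := by
  have h1 : Mono (termSC f M).f :=
    (ModuleCat.mono_iff_injective _).2 (counit_injective _ Ideal.Quotient.mk_surjective M)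
  have h2 : Epi (termSC f M).g :=
    (ModuleCat.epi_iff_surjective _).2 (fun m => by
      obtain ⟨m', hm'⟩ := smul_surjective_of_injective f hf M m
      exact ⟨m', hm'⟩)
  refine ShortComplex.ShortExact.mk ?_
  rw [ShortComplex.moduleCat_exact_iff]
  intro m hm
  have hm' : f • m = 0 := hm
  refine ⟨(ModuleCat.CoextendScalars.equiv _ M).symm (torsionMap f M m hm'), ?_⟩
  change ((rcAdj (Ideal.Quotient.mk (Ideal.span {f}))).counit.app M).hom _ = m
  rw [counit_apply, LinearEquiv.apply_symm_apply]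
  exact torsionMap_one f M m hm'

end SC

section Cx

variable (hf : f ∈ nonZeroDivisors A) (I : DRing.Cx A)

theorem counitCx_f {B : Type u} [CommRing B] (φ : A →+* B) (n : ℤ) :
    (counitCx φ I).f n = (rcAdj φ).counit.app (I.X n) := by
  change (ModuleCat.restrictScalars.{u} φ).map ((𝟙 (coextCx φ I) : _ ⟶ _).f n) ≫
    (rcAdj φ).counit.app (I.X n) = _
  rw [HomologicalComplex.id_f, CategoryTheory.Functor.map_id, Category.id_comp]

/-- the short complex of complexes `Hom_A(A/f, I) → I → I`. -/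
noncomputable abbrev cxSC : ShortComplex (DRing.Cx A) :=
  ShortComplex.mk (counitCx (Ideal.Quotient.mk (Ideal.span {f})) I) (f • 𝟙 I) (by
    ext n : 1
    rw [HomologicalComplex.comp_f, counitCx_f, HomologicalComplex.smul_f_apply,
      HomologicalComplex.id_f, HomologicalComplex.zero_f]
    exact counit_comp_smul f (I.X n))

include hf in
theorem cxSC_shortExact (hI : ∀ n, Injective (I.X n)) : (cxSC f I).ShortExact := by
  refine HomologicalComplex.shortExact_of_degreewise_shortExact _ (fun n => ?_)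
  have := hI n
  refine ShortComplex.shortExact_of_iso ?_ (termSC_shortExact f hf (I.X n))
  refine ShortComplex.isoMk (Iso.refl _) (Iso.refl _) (Iso.refl _) ?_ ?_
  · change 𝟙 _ ≫ (counitCx (Ideal.Quotient.mk (Ideal.span {f})) I).f n =
      (rcAdj (Ideal.Quotient.mk (Ideal.span {f}))).counit.app (I.X n) ≫ 𝟙 _
    rw [counitCx_f, Category.id_comp, Category.comp_id]
  · change 𝟙 _ ≫ (f • 𝟙 I : I ⟶ I).f n = (f • 𝟙 (I.X n)) ≫ 𝟙 _
    rw [HomologicalComplex.smul_f_apply, HomologicalComplex.id_f, Category.id_comp,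
      Category.comp_id]

end Cx

/-- the triangle `R(ω)|_A → ω --f--> ω → R(ω)|_A[1]`. -/
theorem exists_triangle (hf : f ∈ nonZeroDivisors A)
    (R : Dual.D A ⥤ Dual.D (A ⧸ Ideal.span {f}))
    (adj : DRing.restrictD (Ideal.Quotient.mk (Ideal.span {f})) ⊣ R) (ω : Dual.D A) :
    ∃ (u : (DRing.restrictD (Ideal.Quotient.mk (Ideal.span {f}))).obj (R.obj ω) ⟶ ω)
      (w : ω ⟶ ((DRing.restrictD (Ideal.Quotient.mk (Ideal.span {f}))).obj (R.obj ω))⟦(1 : ℤ)⟧),
      Triangle.mk u (f • 𝟙 ω) w ∈ distinguishedTriangles := by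
  obtain ⟨I, g, hI, hg, -, hinj⟩ :=
    Groth.Agent.Lib.Helper17.KInj.exists_kInjective_resolution (ModuleCat.{u} A)
      (Q.objPreimage ω)
  have := hI
  have := hg
  have : IsIso (Q.map g) := by
    rw [DerivedCategory.isIso_Q_map_iff_quasiIso]; exact hg
  obtain ⟨e, -⟩ : ∃ _ : ω ≅ Q.obj I, True :=
    ⟨(Q.objObjPreimageIso ω).symm ≪≫ asIso (Q.map g), trivial⟩
  obtain ⟨α, -⟩ := IsCoext.uniq (IsCoext.of_adj adj ω)
    ((isCoext_Z₀ (Ideal.Quotient.mk (Ideal.span {f})) I).comp_iso e.symm)
  obtain ⟨i₁, -⟩ : ∃ _ : (DRing.restrictD (Ideal.Quotient.mk (Ideal.span {f}))).obj (R.obj ω) ≅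
      Q.obj ((resCx (Ideal.Quotient.mk (Ideal.span {f}))).obj
        (coextCx (Ideal.Quotient.mk (Ideal.span {f})) I)), True :=
    ⟨(DRing.restrictD (Ideal.Quotient.mk (Ideal.span {f}))).mapIso α ≪≫
      resQIso (Ideal.Quotient.mk (Ideal.span {f})) (coextCx (Ideal.Quotient.mk (Ideal.span {f})) I),
      trivial⟩
  have hS := cxSC_shortExact f hf I hinj
  have hT := DerivedCategory.triangleOfSES_distinguished hS
  refine ⟨i₁.hom ≫ Q.map (cxSC f I).f ≫ e.inv,
    e.hom ≫ DerivedCategory.triangleOfSESδ hS ≫ i₁.inv⟦(1 : ℤ)⟧', ?_⟩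
  refine isomorphic_distinguished _ hT _ (Triangle.isoMk _ _ i₁ e e ?_ ?_ ?_)
  · change (i₁.hom ≫ Q.map (cxSC f I).f ≫ e.inv) ≫ e.hom = i₁.hom ≫ Q.map (cxSC f I).f
    rw [Category.assoc, Category.assoc, Iso.inv_hom_id, Category.comp_id]
  · change (f • 𝟙 ω) ≫ e.hom = e.hom ≫ Q.map (f • 𝟙 I)
    rw [Functor.map_smul, CategoryTheory.Functor.map_id, Linear.smul_comp, Linear.comp_smul,
      Category.id_comp, Category.comp_id]
  · change (e.hom ≫ DerivedCategory.triangleOfSESδ hS ≫ i₁.inv⟦(1 : ℤ)⟧') ≫ i₁.hom⟦(1 : ℤ)⟧' =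
      e.hom ≫ DerivedCategory.triangleOfSESδ hS
    rw [Category.assoc, Category.assoc, ← Functor.map_comp, Iso.inv_hom_id,
      CategoryTheory.Functor.map_id, Category.comp_id]

end Groth.Agent.Lib.Seat90.QuotTriangle
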