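import Mathlib
import Groth.Agent.Lib.Seat31NLHtpy

/-!
# Two-term complexes with a partial contracting homotopy (Seat 90)

For a two-term complex `K = [X₀ → X₁]` (degrees `-1, 0`) in an `R`-linear abelian category and
`s : X₁ ⟶ X₀` with `d ≫ s = g • 𝟙`:
* if also `s ≫ d = g • 𝟙` then `g • 𝟙 (Q.obj K) = 0` in the derived category;
* if `X₁` is projective then `g` kills every morphism `Q.obj K ⟶ Q.obj L` with `L` strictly `≤ -1`.
-/

set_option autoImplicit false

universe w v u

namespace Groth.Agent.Lib.Seat90.TwoTermKill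

open CategoryTheory Limits DerivedCategory
open Groth.Agent.Lib.Seat31.NLHtpy (rel homotopyOfDouble)

variable {R : Type*} [Ring R]
variable {C : Type u} [Category.{v} C] [Abelian C] [Linear R C] [HasDerivedCategory.{w} C]
variable {X₀ X₁ : C} (d : X₀ ⟶ X₁) (s : X₁ ⟶ X₀) (g : R)

theorem smul_id_eq_zero (h₀ : d ≫ s = g • 𝟙 X₀) (h₁ : s ≫ d = g • 𝟙 X₁) :
    g • 𝟙 (Q.obj (HomologicalComplex.double d rel)) = 0 := by
  have H : Homotopy (g • 𝟙 (HomologicalComplex.double d rel)) 0 := by
    refine homotopyOfDouble d d _ _ s ?_ ?_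
    · rw [HomologicalComplex.smul_f_apply, HomologicalComplex.id_f, HomologicalComplex.zero_f,
        add_zero, ← Category.assoc d s, h₀]
      simp
    · rw [HomologicalComplex.smul_f_apply, HomologicalComplex.id_f, HomologicalComplex.zero_f,
        add_zero, ← Category.assoc s d, h₁]
      simp
  rw [← Q.map_id, ← Functor.map_smul, Q_map_eq_of_homotopy C H, Functor.map_zero]

/-- the residual endomorphism `g - s ≫ d` of `X₁` kills `d`. -/
lemma d_comp_resid (h₀ : d ≫ s = g • 𝟙 X₀) : d ≫ (g • 𝟙 X₁ - s ≫ d) = 0 := by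
  rw [Preadditive.comp_sub, ← Category.assoc, h₀, Linear.comp_smul, Linear.smul_comp,
    Category.comp_id, Category.id_comp, sub_self]

/-- the chain map `K → X₁[0]` given by `g - s ≫ d`. -/
noncomputable def toSingle (h₀ : d ≫ s = g • 𝟙 X₀) :
    HomologicalComplex.double d rel ⟶ (HomologicalComplex.single C (ComplexShape.up ℤ) 0).obj X₁ :=
  HomologicalComplex.mkHomToSingle
    ((HomologicalComplex.doubleXIso₁ d rel (by decide)).hom ≫ (g • 𝟙 X₁ - s ≫ d)) (by
      intro i hi
      have hi' : i = -1 := by
        simp only [ComplexShape.up_Rel] at hi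
        omega
      subst hi'
      rw [HomologicalComplex.double_d _ _ (by decide)]
      simp only [Category.assoc, Iso.inv_hom_id_assoc]
      rw [d_comp_resid d s g h₀, comp_zero])

/-- the inclusion `X₁[0] → K`. -/
noncomputable def fromSingle :
    (HomologicalComplex.single C (ComplexShape.up ℤ) 0).obj X₁ ⟶ HomologicalComplex.double d rel :=
  HomologicalComplex.mkHomFromSingle (HomologicalComplex.doubleXIso₁ d rel (by decide)).inv (by
    intro j hj
    have hj' : j = 1 := by
      simp only [ComplexShape.up_Rel] at hj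
      omega
    subst hj'
    apply IsZero.eq_of_tgt
    exact HomologicalComplex.isZero_double_X _ _ 1 (by decide) (by decide))

noncomputable def homotopy (h₀ : d ≫ s = g • 𝟙 X₀) :
    Homotopy (g • 𝟙 (HomologicalComplex.double d rel)) (toSingle d s g h₀ ≫ fromSingle d) := by
  refine homotopyOfDouble d d _ _ s ?_ ?_
  · have hz : (toSingle d s g h₀ ≫ fromSingle d).f (-1) = 0 := by
      rw [HomologicalComplex.comp_f]
      have : IsZero (((HomologicalComplex.single C (ComplexShape.up ℤ) 0).obj X₁).X (-1)) :=
        HomologicalComplex.isZero_single_obj_X _ _ _ _ (by decide)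
      rw [this.eq_of_tgt ((toSingle d s g h₀).f (-1)) 0, zero_comp]
    rw [hz, HomologicalComplex.smul_f_apply, HomologicalComplex.id_f, add_zero,
      ← Category.assoc d s, h₀]
    simp
  · rw [HomologicalComplex.comp_f, toSingle, fromSingle, HomologicalComplex.mkHomToSingle_f,
      HomologicalComplex.mkHomFromSingle_f, HomologicalComplex.smul_f_apply,
      HomologicalComplex.id_f]
    simp only [Category.assoc, Iso.inv_hom_id_assoc, Preadditive.sub_comp, Preadditive.comp_sub,
      Linear.smul_comp, Linear.comp_smul, Category.id_comp, Iso.hom_inv_id]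
    abel

theorem smul_comp_eq_zero [Projective X₁] (h₀ : d ≫ s = g • 𝟙 X₀)
    (L : CochainComplex C ℤ) [L.IsStrictlyLE (-1)]
    (φ : Q.obj (HomologicalComplex.double d rel) ⟶ Q.obj L) : g • φ = 0 := by
  have h1 : g • φ = (g • 𝟙 (Q.obj (HomologicalComplex.double d rel))) ≫ φ := by
    rw [Linear.smul_comp, Category.id_comp]
  rw [h1, ← Q.map_id, ← Functor.map_smul, Q_map_eq_of_homotopy C (homotopy d s g h₀),
    Functor.map_comp, Category.assoc]
  have h2 : Q.map (fromSingle d) ≫ φ = 0 :=
    from_singleFunctor_obj_eq_zero_of_projective (i := 0) _ (-1) (by decide)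
  rw [h2, comp_zero]

end Groth.Agent.Lib.Seat90.TwoTermKill
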