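import Mathlib
import Groth.Prelude
import Groth.Agent.Lib.Seat31LciNL
import Groth.Agent.Lib.Seat90NLJac
import Groth.Agent.Lib.Seat90TwoTermKill

/-!
# Auxiliary results for S8806 (Seat 90)
-/

set_option autoImplicit false
universe u

open CategoryTheory CategoryTheory.Limits

attribute [local instance] HasDerivedCategory.standard

namespace Groth.Agent.Lib.Seat90.S8806Aux

open Algebra MvPolynomial DerivedCategory
open Groth.Agent.Lib.Seat31.LciNL Groth.Agent.Lib.Seat90.NLJac Groth.Agent.Lib.Seat90.TwoTermKill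

variable {A : Type u} [CommRing A] {n m : ℕ} (f : Fin m → MvPolynomial (Fin n) A)

/-- the standard presentation of `A[x]/(f)`. -/
noncomputable def gens :
    Generators A (MvPolynomial (Fin n) A ⧸ Ideal.span (Set.range f)) (Fin n) :=
  gensOf (Ideal.Quotient.mkₐ A (Ideal.span (Set.range f))) (Ideal.Quotient.mkₐ_surjective A _)

lemma gens_ker : Ideal.span (Set.range f) = (gens f).toExtension.ker := by
  rw [gens, gensOf_ker]
  ext x
  rw [RingHom.mem_ker]
  exact Ideal.Quotient.eq_zero_iff_mem.symm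

lemma aeval_gens (p : MvPolynomial (Fin n) A) :
    aeval (gens f).val p = Ideal.Quotient.mk (Ideal.span (Set.range f)) p := by
  have : MvPolynomial.aeval (gens f).val = Ideal.Quotient.mkₐ A (Ideal.span (Set.range f)) :=
    (MvPolynomial.aeval_unique (Ideal.Quotient.mkₐ A (Ideal.span (Set.range f)))).symm
  rw [this]
  rfl

lemma det_jac (u : Fin m → Fin n) :
    (jac (gens f) f u).det = Ideal.Quotient.mk (Ideal.span (Set.range f))
      (Matrix.det (Matrix.of fun i j : Fin m => pderiv (u i) (f j))) := by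
  rw [RingHom.map_det]
  congr 1
  ext i j
  simp only [jac, Matrix.of_apply, RingHom.mapMatrix_apply, Matrix.map_apply]
  exact aeval_gens f _

lemma d_comp_s (u : Fin m → Fin n) :
    ModuleCat.ofHom (gens f).toExtension.cotangentComplex ≫
      ModuleCat.ofHom (sMap (gens f) f (gens_ker f) u) =
    (jac (gens f) f u).det • 𝟙 (ModuleCat.of _ (gens f).toExtension.Cotangent) := by
  apply ModuleCat.hom_ext
  apply LinearMap.ext
  intro c
  exact sMap_d (gens f) f (gens_ker f) u c

lemma s_comp_d (u : Fin m → Fin n) (hu : Function.Surjective u) :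
    ModuleCat.ofHom (sMap (gens f) f (gens_ker f) u) ≫
      ModuleCat.ofHom (gens f).toExtension.cotangentComplex =
    (jac (gens f) f u).det • 𝟙 (ModuleCat.of _ (gens f).toExtension.CotangentSpace) := by
  apply ModuleCat.hom_ext
  apply LinearMap.ext
  intro c
  exact d_sMap (gens f) f (gens_ker f) u hu c

instance : Projective (ModuleCat.of (MvPolynomial (Fin n) A ⧸ Ideal.span (Set.range f))
    (gens f).toExtension.CotangentSpace) :=
  ModuleCat.projective_of_free (gens f).cotangentSpaceBasis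

theorem smul_hom_eq_zero (u : Fin m → Fin n)
    (L : CochainComplex (ModuleCat.{u} (MvPolynomial (Fin n) A ⧸ Ideal.span (Set.range f))) ℤ)
    [L.IsStrictlyLE (-1)]
    (φ : DRing.toD (NLCx.cx (gens f).toExtension) ⟶ Q.obj L) :
    (jac (gens f) f u).det • φ = 0 :=
  smul_comp_eq_zero (ModuleCat.ofHom (gens f).toExtension.cotangentComplex)
    (ModuleCat.ofHom (sMap (gens f) f (gens_ker f) u)) (jac (gens f) f u).det (d_comp_s f u) L φ

theorem smul_id_eq_zero' (u : Fin m → Fin n) (hu : Function.Surjective u) :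
    (jac (gens f) f u).det • 𝟙 (DRing.toD (NLCx.cx (gens f).toExtension)) = 0 :=
  smul_id_eq_zero (ModuleCat.ofHom (gens f).toExtension.cotangentComplex)
    (ModuleCat.ofHom (sMap (gens f) f (gens_ker f) u)) (jac (gens f) f u).det (d_comp_s f u)
    (s_comp_d f u hu)

theorem main (hmn : m ≤ n) :
    (∀ (N : Type u) [AddCommGroup N]
      [Module (MvPolynomial (Fin n) A ⧸ Ideal.span (Set.range f)) N]
      (φ : LCI.NL A (MvPolynomial (Fin n) A ⧸ Ideal.span (Set.range f)) ⟶
        (Dual.inD (MvPolynomial (Fin n) A ⧸ Ideal.span (Set.range f)) N)⟦(1 : ℤ)⟧),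
      (Ideal.Quotient.mk (Ideal.span (Set.range f)) (Matrix.det
        (Matrix.of (fun i j : Fin m => MvPolynomial.pderiv (Fin.castLE hmn i) (f j))))) • φ = 0) ∧
    (n = m → (Ideal.Quotient.mk (Ideal.span (Set.range f)) (Matrix.det
        (Matrix.of (fun i j : Fin m => MvPolynomial.pderiv (Fin.castLE hmn i) (f j))))) •
      𝟙 (LCI.NL A (MvPolynomial (Fin n) A ⧸ Ideal.span (Set.range f))) = 0) := by
  let e : DRing.toD (NLCx.cx (gens f).toExtension) ≅
      LCI.NL A (MvPolynomial (Fin n) A ⧸ Ideal.span (Set.range f)) :=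
    isoOfGenerators (gens f) (Generators.self A _)
  rw [← det_jac f (Fin.castLE hmn)]
  refine ⟨?_, ?_⟩
  · intro N _ _ φ
    let L := (CochainComplex.singleFunctor
      (ModuleCat.{u} (MvPolynomial (Fin n) A ⧸ Ideal.span (Set.range f))) (-1)).obj (ModuleCat.of _ N)
    let ι₁ : (Dual.inD (MvPolynomial (Fin n) A ⧸ Ideal.span (Set.range f)) N)⟦(1 : ℤ)⟧ ≅ Q.obj L :=
      ((DerivedCategory.singleFunctors
        (ModuleCat.{u} (MvPolynomial (Fin n) A ⧸ Ideal.span (Set.range f)))).shiftIso 1 (-1) 0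
          (by simp)).app (ModuleCat.of _ N) ≪≫
      (DerivedCategory.singleFunctorIsoCompQ _ (-1)).app (ModuleCat.of _ N)
    have h := smul_hom_eq_zero f (Fin.castLE hmn) L (e.hom ≫ φ ≫ ι₁.hom)
    have h2 : (jac (gens f) f (Fin.castLE hmn)).det • φ =
        e.inv ≫ ((jac (gens f) f (Fin.castLE hmn)).det • (e.hom ≫ φ ≫ ι₁.hom)) ≫ ι₁.inv := by
      rw [Linear.smul_comp, Linear.comp_smul]
      simp
    rw [h2, h, zero_comp, comp_zero]
  · intro hnm
    subst hnm
    have hu : Function.Surjective (Fin.castLE hmn) := fun i => ⟨i, Fin.ext rfl⟩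
    have h := smul_id_eq_zero' f (Fin.castLE hmn) hu
    have h2 : (jac (gens f) f (Fin.castLE hmn)).det •
        𝟙 (LCI.NL A (MvPolynomial (Fin n) A ⧸ Ideal.span (Set.range f))) =
        e.inv ≫ ((jac (gens f) f (Fin.castLE hmn)).det •
          𝟙 (DRing.toD (NLCx.cx (gens f).toExtension))) ≫ e.hom := by
      rw [Linear.smul_comp, Linear.comp_smul]
      simp
    rw [h2, h, zero_comp, comp_zero]

end Groth.Agent.Lib.Seat90.S8806Aux
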