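import Mathlib
import Groth.Prelude
import Groth.Agent.Lib.Seat90GciOmegaBC

/-!
# `ω_{B/A} ≅ B` for a finite free global complete intersection `B = A[x]/(f_1, …, f_n)` (Seat 90)

The map `θ : ω_{B/A} → B`, `l ↦ (l ⊗ id)(Δ)` attached to the Casimir element `Δ` has `1` in its
image: otherwise the image lies in a maximal ideal `𝔫`, and reducing modulo `𝔪 = 𝔫 ∩ A` contradicts
Wiebe's lemma over the field `A/𝔪`.
-/

set_option autoImplicit false
universe u

namespace Groth.Agent.Lib.Seat90.S8969Aux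

open TensorProduct Groth.Agent.Lib.Seat90.GciOmega Groth.Agent.Lib.Seat90.S2210Aux
  Groth.Agent.Lib.Seat90.GciOmegaBC Groth.Agent.Lib.Seat90.OmegaFrob
  Groth.Agent.Lib.Helper27NoetherDiff

variable {A : Type u} [CommRing A] {n : ℕ} (f : Fin n → MvPolynomial (Fin n) A)

/-- the key reduction step over a residue field `K` of `A`. -/
theorem range_eq_top_aux (K : Type u) [Field K] [Algebra A K]
    (hK : Function.Surjective (algebraMap A K))
    [Module.Finite A (MvPolynomial (Fin n) A ⧸ Ideal.span (Set.range f))]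
    [Module.Free A (MvPolynomial (Fin n) A ⧸ Ideal.span (Set.range f))]
    (c : Matrix (Fin n) (Fin n)
      (MvPolynomial (Fin n) A ⊗[A] (MvPolynomial (Fin n) A ⧸ Ideal.span (Set.range f))))
    (hc : ∀ i, f i ⊗ₜ[A] (1 : MvPolynomial (Fin n) A ⧸ Ideal.span (Set.range f)) =
      ∑ j, c i j * gen (qq f) j)
    (V : Ideal (MvPolynomial (Fin n) A ⧸ Ideal.span (Set.range f)))
    (hV : ∀ l : (MvPolynomial (Fin n) A ⧸ Ideal.span (Set.range f)) →ₗ[A] A,
      pair l (casimir f c) ∈ V) :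
    Ideal.map (ρ f K) V = ⊤ := by
  classical
  have hsurj := ρ_surjective f K hK
  have : Module.Finite A (MvPolynomial (Fin n) K ⧸ Ideal.span (Set.range (fbar f K))) :=
    Module.Finite.of_surjective (ρ f K).toLinearMap hsurj
  have : Module.Finite K (MvPolynomial (Fin n) K ⧸ Ideal.span (Set.range (fbar f K))) :=
    Module.Finite.of_restrictScalars_finite A K _
  have : IsArtinianRing (MvPolynomial (Fin n) K ⧸ Ideal.span (Set.range (fbar f K))) :=
    IsArtinianRing.of_finite K _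
  apply eq_top_of_forall_mul_eq_zero
  intro b hb
  apply wiebe_inj (fbar f K) (c.map (ρQ f K)) (hc_bar f K c hc) b
  rw [← ρρ_casimir]
  let bs : Module.Basis (Module.Free.ChooseBasisIndex A
      (MvPolynomial (Fin n) A ⧸ Ideal.span (Set.range f))) A
      (MvPolynomial (Fin n) A ⧸ Ideal.span (Set.range f)) := Module.Free.chooseBasis A _
  rw [eq_sum_tmul_pair bs (casimir f c), map_sum]
  refine (Finset.mul_sum (R := (MvPolynomial (Fin n) K ⧸ Ideal.span (Set.range (fbar f K))) ⊗[K]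
      (MvPolynomial (Fin n) K ⧸ Ideal.span (Set.range (fbar f K)))) _ _ _).trans ?_
  refine Finset.sum_eq_zero fun j _ => ?_
  rw [ρρ_tmul, Algebra.TensorProduct.tmul_mul_tmul, one_mul,
    hb _ (Ideal.mem_map_of_mem _ (hV (bs.coord j))), TensorProduct.tmul_zero]

/-- `1` is a value of `θ`. -/
theorem exists_theta_eq_one'
    [Module.Finite A (MvPolynomial (Fin n) A ⧸ Ideal.span (Set.range f))]
    [Module.Free A (MvPolynomial (Fin n) A ⧸ Ideal.span (Set.range f))]
    (c : Matrix (Fin n) (Fin n)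
      (MvPolynomial (Fin n) A ⊗[A] (MvPolynomial (Fin n) A ⧸ Ideal.span (Set.range f))))
    (hc : ∀ i, f i ⊗ₜ[A] (1 : MvPolynomial (Fin n) A ⧸ Ideal.span (Set.range f)) =
      ∑ j, c i j * gen (qq f) j) :
    ∃ l₀ : Disc.Omega A (MvPolynomial (Fin n) A ⧸ Ideal.span (Set.range f)),
      thetaOf (casimir f c) (casimir_mem f c hc) l₀ = 1 := by
  classical
  let V : Ideal (MvPolynomial (Fin n) A ⧸ Ideal.span (Set.range f)) :=
    LinearMap.range (thetaOf (casimir f c) (casimir_mem f c hc))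
  by_contra hne
  have hV : V ≠ ⊤ := by
    intro h
    apply hne
    have h1 : (1 : MvPolynomial (Fin n) A ⧸ Ideal.span (Set.range f)) ∈ V := h ▸ Submodule.mem_top
    exact h1
  obtain ⟨𝔫, h𝔫, hV𝔫⟩ := Ideal.exists_le_maximal V hV
  have hmax : (𝔫.comap (algebraMap A
      (MvPolynomial (Fin n) A ⧸ Ideal.span (Set.range f)))).IsMaximal :=
    Ideal.isMaximal_comap_of_isIntegral_of_isMaximal 𝔫
  letI : Field (A ⧸ 𝔫.comap (algebraMap A
      (MvPolynomial (Fin n) A ⧸ Ideal.span (Set.range f)))) := Ideal.Quotient.field _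
  have hK : Function.Surjective (algebraMap A (A ⧸ 𝔫.comap (algebraMap A
      (MvPolynomial (Fin n) A ⧸ Ideal.span (Set.range f))))) := Ideal.Quotient.mk_surjective
  have h1 := range_eq_top_aux f _ hK c hc V (fun l => ⟨⟨l⟩, rfl⟩)
  have h2 : V ⊔ RingHom.ker (ρ f (A ⧸ 𝔫.comap (algebraMap A
      (MvPolynomial (Fin n) A ⧸ Ideal.span (Set.range f))))) = ⊤ := by
    have h := Ideal.comap_map_of_surjective (ρ f _) (ρ_surjective f _ hK) V
    rw [h1, Ideal.comap_top] at h
    exact h.symm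
  have h3 : RingHom.ker (ρ f (A ⧸ 𝔫.comap (algebraMap A
      (MvPolynomial (Fin n) A ⧸ Ideal.span (Set.range f))))) ≤ 𝔫 := by
    refine (ker_ρ_le f _ hK).trans ?_
    rw [Ideal.map_le_iff_le_comap]
    intro a ha
    rw [RingHom.mem_ker, Ideal.Quotient.algebraMap_eq, Ideal.Quotient.eq_zero_iff_mem] at ha
    exact ha
  exact h𝔫.ne_top (top_le_iff.1 (h2 ▸ sup_le hV𝔫 h3))

end Groth.Agent.Lib.Seat90.S8969Aux
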