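import Mathlib.RingTheory.PowerSeries.WeierstrassPreparation
import Mathlib.RingTheory.PowerSeries.Substitution
import Mathlib.RingTheory.Polynomial.Basic

/-!
# `A⟦X⟧` is free over `A⟦f⟧` for a Weierstrass divisor `f` with `f(0) = 0`

For a complete local ring `A` and a power series `f` with zero constant coefficient whose
reduction modulo the maximal ideal is nonzero of order `h`, every power series `g` can be written
uniquely as `∑_{i<h} c_i(f) X^i`.  Conversely, if the reduction of `f` vanishes there is no finite
basis.
-/

set_option autoImplicit false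
universe u

namespace Groth.Agent.Lib.Seat90.WeierBasis

open PowerSeries

section General

variable {A : Type u} [CommRing A] (f : PowerSeries A) (hf0 : PowerSeries.constantCoeff f = 0)

/-- the shift of a power series -/
noncomputable def shift (c : PowerSeries A) : PowerSeries A :=
  PowerSeries.mk fun j => PowerSeries.coeff (j + 1) c

theorem coeff_shift (c : PowerSeries A) (j : ℕ) :
    PowerSeries.coeff j (shift c) = PowerSeries.coeff (j + 1) c := by
  unfold shift
  rw [PowerSeries.coeff_mk]

theorem coeff_iterate_shift (c : PowerSeries A) (J j : ℕ) :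
    PowerSeries.coeff j (shift^[J] c) = PowerSeries.coeff (J + j) c := by
  induction J generalizing c with
  | zero => simp
  | succ J ih =>
    rw [Function.iterate_succ_apply, ih, coeff_shift]
    have e : J + j + 1 = J + 1 + j := by omega
    rw [e]

theorem eq_C_add_X_mul_shift (c : PowerSeries A) :
    c = PowerSeries.C (PowerSeries.constantCoeff c) + PowerSeries.X * shift c := by
  conv_lhs => rw [PowerSeries.eq_X_mul_shift_add_const c]
  rw [add_comm]
  rfl

include hf0 in
theorem hasSubst : PowerSeries.HasSubst f := PowerSeries.HasSubst.of_constantCoeff_zero' hf0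

include hf0 in
theorem subst_eq (c : PowerSeries A) :
    PowerSeries.subst f c =
      PowerSeries.C (PowerSeries.constantCoeff c) + f * PowerSeries.subst f (shift c) := by
  have h := hasSubst f hf0
  conv_lhs => rw [eq_C_add_X_mul_shift c]
  rw [PowerSeries.subst_add h, PowerSeries.subst_mul h, PowerSeries.subst_X h]
  congr 1
  exact PowerSeries.subst_C _

end General

section Local

variable {A : Type u} [CommRing A] [IsLocalRing A] (f : PowerSeries A)

/-- the order of the reduction of `f` -/
noncomputable def ht : ℕ := (f.map (IsLocalRing.residue A)).order.toNat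

/-- the combination `∑_{i<h} c_i(f) X^i` -/
noncomputable def comb (c : Fin (ht f) → PowerSeries A) : PowerSeries A :=
  ∑ i, PowerSeries.subst f (c i) * PowerSeries.X ^ (i : ℕ)

/-- the polynomial of constant coefficients -/
noncomputable def cpoly (c : Fin (ht f) → PowerSeries A) : Polynomial A :=
  ∑ i : Fin (ht f), Polynomial.C (PowerSeries.constantCoeff (c i)) * Polynomial.X ^ (i : ℕ)

theorem degree_cpoly_lt (c : Fin (ht f) → PowerSeries A) : (cpoly f c).degree < (ht f : ℕ) :=
  Polynomial.degree_sum_fin_lt _

theorem coeff_cpoly (c : Fin (ht f) → PowerSeries A) (i : Fin (ht f)) :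
    (cpoly f c).coeff (i : ℕ) = PowerSeries.constantCoeff (c i) := by
  classical
  unfold cpoly
  rw [Polynomial.finsetSum_coeff]
  simp only [Polynomial.coeff_C_mul_X_pow]
  rw [Finset.sum_eq_single i]
  · rw [if_pos rfl]
  · intro j _ hj
    rw [if_neg]
    intro h
    exact hj (Fin.ext h.symm)
  · intro h
    exact absurd (Finset.mem_univ i) h

theorem cpoly_coe (c : Fin (ht f) → PowerSeries A) :
    ((cpoly f c : Polynomial A) : PowerSeries A) =
      ∑ i : Fin (ht f), PowerSeries.C (PowerSeries.constantCoeff (c i)) * PowerSeries.X ^ (i : ℕ) := by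
  unfold cpoly
  rw [← Polynomial.coeToPowerSeries.ringHom_apply, map_sum]
  refine Finset.sum_congr rfl fun i _ => ?_
  rw [map_mul, map_pow, Polynomial.coeToPowerSeries.ringHom_apply,
    Polynomial.coeToPowerSeries.ringHom_apply, Polynomial.coe_C, Polynomial.coe_X]

variable (hf0 : PowerSeries.constantCoeff f = 0)

include hf0 in
theorem comb_eq (c : Fin (ht f) → PowerSeries A) :
    comb f c = f * comb f (fun i => shift (c i)) + ((cpoly f c : Polynomial A) : PowerSeries A) := by
  rw [cpoly_coe]
  unfold comb
  rw [Finset.mul_sum, ← Finset.sum_add_distrib]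
  refine Finset.sum_congr rfl fun i _ => ?_
  rw [subst_eq f hf0 (c i)]
  ring

end Local

section Complete

variable {A : Type u} [CommRing A] [IsLocalRing A]
  [IsAdicComplete (IsLocalRing.maximalIdeal A) A] (f : PowerSeries A)
  (hf0 : PowerSeries.constantCoeff f = 0) (hf : f.map (IsLocalRing.residue A) ≠ 0)

include hf0 hf in
theorem step_zero (c : Fin (ht f) → PowerSeries A) (h : comb f c = 0) :
    (∀ i, PowerSeries.constantCoeff (c i) = 0) ∧ comb f (fun i => shift (c i)) = 0 := by
  have hdiv : PowerSeries.IsWeierstrassDivision 0 f (comb f (fun i => shift (c i))) (cpoly f c) := by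
    refine ⟨degree_cpoly_lt f c, ?_⟩
    rw [← comb_eq f hf0 c, h]
  obtain ⟨h1, h2⟩ := hdiv.eq_zero hf
  refine ⟨fun i => ?_, h1⟩
  rw [← coeff_cpoly f c i, h2, Polynomial.coeff_zero]

include hf0 hf in
theorem iterate_zero (c : Fin (ht f) → PowerSeries A) (h : comb f c = 0) (J : ℕ) :
    comb f (fun i => shift^[J] (c i)) = 0 := by
  induction J with
  | zero => exact h
  | succ J ih =>
    have := (step_zero f hf0 hf _ ih).2
    simp only [← Function.iterate_succ_apply' shift] at this
    exact this

include hf0 hf in
theorem eq_zero_of_comb_eq_zero (c : Fin (ht f) → PowerSeries A) (h : comb f c = 0) :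
    c = 0 := by
  funext i
  ext J
  have h1 := (step_zero f hf0 hf _ (iterate_zero f hf0 hf c h J)).1 i
  rw [← PowerSeries.coeff_zero_eq_constantCoeff_apply, coeff_iterate_shift, add_zero] at h1
  rw [h1]
  simp

omit [IsAdicComplete (IsLocalRing.maximalIdeal A) A] in
theorem comb_sub (c c' : Fin (ht f) → PowerSeries A) (hs : PowerSeries.HasSubst f) :
    comb f (c - c') = comb f c - comb f c' := by
  unfold comb
  rw [← Finset.sum_sub_distrib]
  refine Finset.sum_congr rfl fun i _ => ?_
  rw [Pi.sub_apply, PowerSeries.subst_sub hs, sub_mul]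

/-- the sequence of successive Weierstrass quotients -/
noncomputable def qs (g : PowerSeries A) : ℕ → PowerSeries A
  | 0 => g
  | (j + 1) => PowerSeries.weierstrassDiv (qs g j) f

/-- the coefficient series -/
noncomputable def cs (g : PowerSeries A) (i : Fin (ht f)) : PowerSeries A :=
  PowerSeries.mk fun j => (PowerSeries.weierstrassMod (qs f g j) f).coeff (i : ℕ)

theorem cpoly_cs (g : PowerSeries A) (J : ℕ) :
    cpoly f (fun i => shift^[J] (cs f g i)) = PowerSeries.weierstrassMod (qs f g J) f := by
  classical
  ext n
  unfold cpoly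
  rw [Polynomial.finsetSum_coeff]
  simp only [Polynomial.coeff_C_mul_X_pow]
  by_cases hn : n < ht f
  · rw [Finset.sum_eq_single ⟨n, hn⟩]
    · rw [if_pos rfl, ← PowerSeries.coeff_zero_eq_constantCoeff_apply, coeff_iterate_shift]
      unfold cs
      rw [PowerSeries.coeff_mk, add_zero]
    · intro j _ hj
      rw [if_neg]
      intro h
      exact hj (Fin.ext h.symm)
    · intro h
      exact absurd (Finset.mem_univ _) h
  · rw [Finset.sum_eq_zero]
    · symm
      apply Polynomial.coeff_eq_zero_of_degree_lt
      refine lt_of_lt_of_le (PowerSeries.degree_weierstrassMod_lt (qs f g J) f) ?_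
      exact_mod_cast not_lt.1 hn
    · intro j _
      rw [if_neg]
      intro h
      exact hn (h ▸ j.2)

include hf0 hf in
theorem diff_step (g : PowerSeries A) (J : ℕ) :
    qs f g J - comb f (fun i => shift^[J] (cs f g i)) =
      f * (qs f g (J + 1) - comb f (fun i => shift^[J + 1] (cs f g i))) := by
  have h1 := PowerSeries.eq_mul_weierstrassDiv_add_weierstrassMod (qs f g J) hf
  have h2 := comb_eq f hf0 (fun i => shift^[J] (cs f g i))
  rw [cpoly_cs] at h2
  have h3 : qs f g (J + 1) = PowerSeries.weierstrassDiv (qs f g J) f := rfl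
  simp only [Function.iterate_succ_apply']
  rw [h3, mul_sub]
  calc qs f g J - comb f (fun i => shift^[J] (cs f g i))
      = (f * (PowerSeries.weierstrassDiv (qs f g J) f) +
          ((PowerSeries.weierstrassMod (qs f g J) f : Polynomial A) : PowerSeries A)) -
        (f * comb f (fun i => shift (shift^[J] (cs f g i))) +
          ((PowerSeries.weierstrassMod (qs f g J) f : Polynomial A) : PowerSeries A)) := by
        rw [← h1, ← h2]
    _ = _ := by ring

include hf0 hf in
theorem diff_eq (g : PowerSeries A) (J : ℕ) :
    g - comb f (cs f g) = f ^ J * (qs f g J - comb f (fun i => shift^[J] (cs f g i))) := by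
  induction J with
  | zero => simp [qs]
  | succ J ih =>
    rw [ih, diff_step f hf0 hf g J, pow_succ, mul_assoc]

include hf0 hf in
theorem eq_comb (g : PowerSeries A) : g = comb f (cs f g) := by
  rw [← sub_eq_zero]
  ext n
  have h1 : (PowerSeries.X : PowerSeries A) ^ (n + 1) ∣ g - comb f (cs f g) := by
    rw [diff_eq f hf0 hf g (n + 1)]
    exact Dvd.dvd.mul_right (pow_dvd_pow_of_dvd (PowerSeries.X_dvd_iff.2 hf0) _) _
  rw [PowerSeries.X_pow_dvd_iff] at h1
  rw [h1 n (Nat.lt_succ_self n)]
  simp

include hf0 hf in
/-- `A⟦X⟧` is free of rank `h` over `A⟦f⟧` with basis `1, X, …, X^{h-1}` -/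
theorem existsUnique_comb (g : PowerSeries A) :
    ∃! c : Fin (ht f) → PowerSeries A, g = comb f c := by
  refine ⟨cs f g, eq_comb f hf0 hf g, fun c hc => ?_⟩
  have h1 : comb f (c - cs f g) = 0 := by
    rw [comb_sub f _ _ (hasSubst f hf0), ← hc, ← eq_comb f hf0 hf g, sub_self]
  have h2 := eq_zero_of_comb_eq_zero f hf0 hf _ h1
  exact sub_eq_zero.1 h2

end Complete

section Converse

variable {A : Type u} [CommRing A] [IsLocalRing A] (f : PowerSeries A)
  (hf0 : PowerSeries.constantCoeff f = 0) (hfm : f.map (IsLocalRing.residue A) = 0)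

include hf0 hfm in
theorem map_subst_eq (c : PowerSeries A) :
    PowerSeries.map (IsLocalRing.residue A) (PowerSeries.subst f c : PowerSeries A) =
      PowerSeries.C (IsLocalRing.residue A (PowerSeries.constantCoeff c)) := by
  rw [subst_eq f hf0 c, map_add, map_mul, hfm, zero_mul, add_zero, PowerSeries.map_C]

theorem not_finite_powerSeries (k : Type u) [Field k] : ¬ Module.Finite k (PowerSeries k) := by
  intro h
  have hN : IsNoetherian k (PowerSeries k) := isNoetherian_of_isNoetherianRing_of_finite k _
  have h2 : Module.Finite k (Polynomial k) :=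
    Module.Finite.of_injective (Polynomial.coeToPowerSeries.algHom k).toLinearMap
      (fun p q hpq => Polynomial.coe_injective k hpq)
  exact Polynomial.not_finite h2

include hf0 hfm in
/-- if the reduction of `f` vanishes, `A⟦X⟧` is not spanned over `A⟦f⟧` by finitely many elements -/
theorem not_span_of_map_eq_zero (n : ℕ) (b : Fin n → PowerSeries A)
    (h : ∀ g : PowerSeries A, ∃ c : Fin n → PowerSeries A,
      g = ∑ i, PowerSeries.subst f (c i) * b i) : False := by
  classical
  apply not_finite_powerSeries (IsLocalRing.ResidueField A)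
  refine ⟨Finset.univ.image (fun i => PowerSeries.map (IsLocalRing.residue A) (b i)), ?_⟩
  rw [eq_top_iff]
  intro y _
  obtain ⟨g, rfl⟩ := PowerSeries.map_surjective (IsLocalRing.residue A)
    IsLocalRing.residue_surjective y
  obtain ⟨c, hc⟩ := h g
  rw [hc, map_sum]
  refine Submodule.sum_mem _ fun i _ => ?_
  rw [map_mul, map_subst_eq f hf0 hfm, ← PowerSeries.smul_eq_C_mul]
  refine Submodule.smul_mem _ _ (Submodule.subset_span ?_)
  rw [Finset.coe_image]
  exact ⟨i, Finset.mem_coe.2 (Finset.mem_univ i), rfl⟩

end Converse

end Groth.Agent.Lib.Seat90.WeierBasis
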