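import Mathlib

/-!
# Krull dimension and quotients by primes (seat 91)

Namespace `Groth.Agent.Lib.Seat91.DimAux`.
-/

set_option autoImplicit false

namespace Groth.Agent.Lib.Seat91.DimAux

variable {U : Type*} [CommRing U]

theorem length_le_ringKrullDim_quotient_head (s : LTSeries (PrimeSpectrum U)) :
    ((s.length : ℕ∞) : WithBot ℕ∞) ≤ ringKrullDim (U ⧸ s.head.asIdeal) := by
  have h1 : (s.length : ℕ∞) ≤ Order.coheight s.head := Order.length_le_coheight_head
  have h2 : ((Order.coheight s.head : ℕ∞) : WithBot ℕ∞) = Order.krullDim (Set.Ici s.head) :=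
    Order.coheight_eq_krullDim_Ici _
  have h3 : ringKrullDim (U ⧸ s.head.asIdeal) = Order.krullDim (Set.Ici s.head) := by
    rw [ringKrullDim_quotient]
    rfl
  calc ((s.length : ℕ∞) : WithBot ℕ∞) ≤ ((Order.coheight s.head : ℕ∞) : WithBot ℕ∞) := by
        exact_mod_cast h1
    _ = ringKrullDim (U ⧸ s.head.asIdeal) := by rw [h2, h3]

/-- the dimension of a ring is bounded by the dimensions of its quotients by primes -/
theorem ringKrullDim_le_of_forall_quotient_le (M : WithBot ℕ∞)
    (h : ∀ p : Ideal U, p.IsPrime → ringKrullDim (U ⧸ p) ≤ M) : ringKrullDim U ≤ M := by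
  unfold ringKrullDim Order.krullDim
  refine iSup_le fun s => ?_
  exact (length_le_ringKrullDim_quotient_head s).trans (h _ s.head.isPrime)

/-- a ring of finite dimension `N` has a prime `p` with `dim U/p = N` -/
theorem exists_prime_ringKrullDim_quotient_eq (N : ℕ) (h : ringKrullDim U = N) :
    ∃ p : Ideal U, p.IsPrime ∧ ringKrullDim (U ⧸ p) = N := by
  have h1 : (N : WithBot ℕ∞) ≤ Order.krullDim (PrimeSpectrum U) := h.ge
  obtain ⟨l, hl⟩ := Order.le_krullDim_iff.1 h1
  refine ⟨l.head.asIdeal, l.head.isPrime, le_antisymm ?_ ?_⟩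
  · rw [← h]
    exact ringKrullDim_quotient_le _
  · have := length_le_ringKrullDim_quotient_head l
    rw [hl] at this
    exact_mod_cast this

end Groth.Agent.Lib.Seat91.DimAux
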