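import Groth.Agent.Lib.Helper28DepthCM
import Groth.Agent.Lib.Helper14FTDimB
import Groth.Agent.Lib.Seat91GrIrr
import Groth.Agent.Lib.Seat91DimAux

/-!
# Unmixedness of graded Cohen–Macaulay modules (seat 91)

`R` a `ℤ`-graded algebra of finite type over a field `k`, concentrated in degrees `≥ 0`, `R_0 = k`;
`M` a finite graded `R`-module all of whose localizations are zero or Cohen–Macaulay, `dim M = r`.
Then `dim R/ann(x) ≥ r` for every nonzero homogeneous `x ∈ M` (`le_dim_quotient_annihilator`).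

Proof: a minimal prime `p` of `ann x` is homogeneous and associated to `M`; localise at the
irrelevant ideal `𝔪 ⊇ p`, use unmixedness of CM modules over local rings (helper28) and the fact
that `𝔪` has height `dim R/q` over every homogeneous prime `q` (helper14, affine domains).

Namespace `Groth.Agent.Lib.Seat91.CMGraded`.
-/

set_option autoImplicit false
set_option linter.unusedSectionVars false
set_option linter.style.haveILetI false
universe u

open Groth.Agent.Lib.Seat91.GrIrr

namespace Groth.Agent.Lib.Seat91.CMGraded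

variable {k R M : Type u} [Field k] [CommRing R] [Algebra k R] [Algebra.FiniteType k R]
  (𝒜 : ℤ → Submodule k R) [GradedAlgebra 𝒜]
  (hpos : ∀ n : ℤ, n < 0 → 𝒜 n = ⊥) (h0 : 𝒜 0 = Submodule.span k {(1 : R)})
  [AddCommGroup M] [Module R M] [Module.Finite R M]
  (ℳ : ℤ → AddSubgroup M) [DirectSum.Decomposition ℳ] [SetLike.GradedSMul 𝒜 ℳ]

include hpos h0 ℳ in
/-- the irrelevant ideal has height `≥ dim M` in the support of `M` -/
theorem le_height_irr [Nontrivial R] (r : ℕ) (hd : Module.supportDim R M = r)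
    (hprime : (irr 𝒜).IsPrime)
    (hm : (⟨irr 𝒜, hprime⟩ : PrimeSpectrum R) ∈ Module.support R M) :
    (r : ℕ∞) ≤ Order.height (⟨⟨irr 𝒜, hprime⟩, hm⟩ : Module.support R M) := by
  classical
  have hN : IsNoetherianRing R := Algebra.FiniteType.isNoetherianRing k R
  -- a prime `q` of the support with `dim R/q = r`
  have h1 : ((r : ℕ) : WithBot ℕ∞) ≤ Order.krullDim (Module.support R M) := hd.ge
  obtain ⟨l, hl⟩ := Order.le_krullDim_iff.1 h1
  have h2 : (l.length : ℕ∞) ≤ Order.coheight l.head := Order.length_le_coheight_head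
  have hq := Groth.Agent.Lib.Helper28.ringKrullDim_quotient_eq_coheight l.head.1.asIdeal M
    (hp := l.head.1.2) l.head.2
  have hqr : (r : WithBot ℕ∞) ≤ ringKrullDim (R ⧸ l.head.1.asIdeal) := by
    rw [hq]
    rw [hl] at h2
    exact_mod_cast h2
  -- a minimal prime `q₁ ≤ q` of the annihilator
  have hann : Module.annihilator R M ≤ l.head.1.asIdeal :=
    Module.annihilator_le_of_mem_support l.head.2
  haveI := l.head.1.2
  obtain ⟨q₁, hq₁, hq₁q⟩ := Ideal.exists_minimalPrimes_le hann
  have hq₁p : q₁.IsPrime := hq₁.1.1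
  have hq₁hom : q₁.IsHomogeneous 𝒜 :=
    isHomogeneous_of_mem_minimalPrimes 𝒜 (isHomogeneous_annihilator 𝒜 ℳ) hq₁
  have hq₁irr : q₁ ≤ irr 𝒜 := le_irr_of_isHomogeneous 𝒜 hpos h0 hq₁hom hq₁p.ne_top
  have hq₁supp : (⟨q₁, hq₁p⟩ : PrimeSpectrum R) ∈ Module.support R M := by
    rw [Module.mem_support_iff_of_finite]
    exact hq₁.1.2
  have hq₁r : (r : WithBot ℕ∞) ≤ ringKrullDim (R ⧸ q₁) :=
    hqr.trans (ringKrullDim_le_of_surjective (Ideal.Quotient.factor hq₁q)
      (Ideal.Quotient.factor_surjective hq₁q))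
  -- the vertex of `R/q₁`
  have hmax : (irr 𝒜).IsMaximal := irr_isMaximal 𝒜 hpos h0
  have hmax' : ((irr 𝒜).map (Ideal.Quotient.mk q₁)).IsMaximal :=
    Ideal.IsMaximal.map_of_surjective_of_ker_le Ideal.Quotient.mk_surjective
      (by rwa [Ideal.mk_ker])
  have hprime' : ((irr 𝒜).map (Ideal.Quotient.mk q₁)).IsPrime := hmax'.isPrime
  have hht : ((((irr 𝒜).map (Ideal.Quotient.mk q₁)).height : ℕ∞) : WithBot ℕ∞) =
      ringKrullDim (R ⧸ q₁) := by
    haveI : Algebra.FiniteType k (R ⧸ q₁) :=
      Algebra.FiniteType.of_surjective (Ideal.Quotient.mkₐ k q₁)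
        (Ideal.Quotient.mkₐ_surjective k q₁)
    obtain ⟨m, c, hcm, hm, hc, hmc⟩ := Groth.Agent.Lib.Helper14.FTDim.exists_dim_height (k := k)
      (R ⧸ q₁) ((irr 𝒜).map (Ideal.Quotient.mk q₁))
    have h0' : ringKrullDim ((R ⧸ q₁) ⧸ (irr 𝒜).map (Ideal.Quotient.mk q₁)) = 0 := by
      letI := Ideal.Quotient.field ((irr 𝒜).map (Ideal.Quotient.mk q₁))
      exact ringKrullDim_eq_zero_of_field _
    rw [h0'] at hmc
    have : m - c = 0 := by exact_mod_cast hmc.symm
    rw [hm, hc, show m = c by omega]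
    rfl
  -- transport along `Spec (R/q₁) → Supp M`
  let g : PrimeSpectrum (R ⧸ q₁) → Module.support R M := fun a =>
    ⟨PrimeSpectrum.comap (Ideal.Quotient.mk q₁) a, by
      refine Module.mem_support_mono (p := ⟨q₁, hq₁p⟩) ?_ hq₁supp
      intro z hz
      show Ideal.Quotient.mk q₁ z ∈ a.asIdeal
      rw [Ideal.Quotient.eq_zero_iff_mem.2 hz]
      exact Ideal.zero_mem _⟩
  have hg : StrictMono g := by
    refine Monotone.strictMono_of_injective ?_ ?_
    · intro a b hab
      exact Ideal.comap_mono hab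
    · intro a b hab
      have h3 : PrimeSpectrum.comap (Ideal.Quotient.mk q₁) a =
          PrimeSpectrum.comap (Ideal.Quotient.mk q₁) b := congrArg Subtype.val hab
      exact PrimeSpectrum.comap_injective_of_surjective _ Ideal.Quotient.mk_surjective h3
  have h4 := Order.height_le_height_apply_of_strictMono g hg
    ⟨(irr 𝒜).map (Ideal.Quotient.mk q₁), hprime'⟩
  have h5 : g ⟨(irr 𝒜).map (Ideal.Quotient.mk q₁), hprime'⟩ = ⟨⟨irr 𝒜, hprime⟩, hm⟩ := by
    apply Subtype.ext
    apply PrimeSpectrum.ext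
    show ((irr 𝒜).map (Ideal.Quotient.mk q₁)).comap (Ideal.Quotient.mk q₁) = irr 𝒜
    rw [Ideal.comap_map_of_surjective _ Ideal.Quotient.mk_surjective, ← RingHom.ker_eq_comap_bot,
      Ideal.mk_ker, sup_eq_left.2 hq₁irr]
  rw [h5] at h4
  refine le_trans ?_ h4
  rw [← PrimeSpectrum.height_eq_orderHeight]
  have h6 : (r : WithBot ℕ∞) ≤ (((irr 𝒜).map (Ideal.Quotient.mk q₁)).height : WithBot ℕ∞) := by
    rw [hht]; exact hq₁r
  exact_mod_cast h6

include hpos h0 in
/-- **graded unmixedness**: `dim R/ann(x) ≥ dim M` for a nonzero homogeneous element `x` of a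
graded module `M` all of whose localizations are zero or Cohen–Macaulay -/
theorem le_dim_quotient_annihilator
    (hMcm : ∀ (q : Ideal R) [q.IsPrime], Subsingleton (LocalizedModule q.primeCompl M) ∨
      LocCoh.IsCohenMacaulayModule (Localization.AtPrime q) (LocalizedModule q.primeCompl M))
    (r : ℕ) (hd : Module.supportDim R M = r) {n : ℤ} {x : M} (hx : x ∈ ℳ n) (hx0 : x ≠ 0) :
    (r : WithBot ℕ∞) ≤ ringKrullDim (R ⧸ (Submodule.span R {x}).annihilator) := by
  classical
  have hN : IsNoetherianRing R := Algebra.FiniteType.isNoetherianRing k R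
  haveI : Nontrivial R := by
    by_contra h
    rw [not_nontrivial_iff_subsingleton] at h
    haveI := Module.subsingleton R M
    exact hx0 (Subsingleton.elim _ _)
  set Ix := (Submodule.span R {x}).annihilator with hIx
  have hIx_ne : Ix ≠ ⊤ := by
    intro h
    have : (1 : R) ∈ Ix := by rw [h]; trivial
    rw [hIx, Submodule.mem_annihilator_span_singleton, one_smul] at this
    exact hx0 this
  obtain ⟨⟨p, hp⟩⟩ := Ideal.nonempty_minimalPrimes hIx_ne
  have hp_prime : p.IsPrime := hp.1.1
  have hp_hom : p.IsHomogeneous 𝒜 :=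
    isHomogeneous_of_mem_minimalPrimes 𝒜 (isHomogeneous_annihilator_span_singleton 𝒜 ℳ hx) hp
  have hp_irr : p ≤ irr 𝒜 := le_irr_of_isHomogeneous 𝒜 hpos h0 hp_hom hp_prime.ne_top
  have hp_ass : p ∈ associatedPrimes R M := by
    have h1 : p ∈ associatedPrimes R (Submodule.span R {x}) :=
      Module.associatedPrimes.minimalPrimes_annihilator_subset_associatedPrimes R
        (Submodule.span R {x}) hp
    exact associatedPrimes.subset_of_injective (f := (Submodule.span R {x}).subtype)
      Subtype.val_injective h1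
  have hp_supp : (⟨p, hp_prime⟩ : PrimeSpectrum R) ∈ Module.support R M :=
    Groth.Agent.Lib.Helper28.mem_support_of_mem_associatedPrimes hp_ass
  have hmax : (irr 𝒜).IsMaximal := irr_isMaximal 𝒜 hpos h0
  haveI hprime : (irr 𝒜).IsPrime := hmax.isPrime
  have hm_supp : (⟨irr 𝒜, hprime⟩ : PrimeSpectrum R) ∈ Module.support R M :=
    Module.mem_support_mono (p := ⟨p, hp_prime⟩) hp_irr hp_supp
  have hnt : Nontrivial (LocalizedModule (irr 𝒜).primeCompl M) := Module.mem_support_iff.mp hm_supp
  have hcm := (hMcm (irr 𝒜)).resolve_left (not_subsingleton_iff_nontrivial.2 hnt)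
  -- the prime `p'` of the localization
  set p' := p.map (algebraMap R (Localization.AtPrime (irr 𝒜))) with hp'
  have hdisj : Disjoint ((irr 𝒜).primeCompl : Set R) p := by
    rw [Set.disjoint_left]
    intro a ha hap
    exact ha (hp_irr hap)
  have hcomap : p'.comap (algebraMap R (Localization.AtPrime (irr 𝒜))) = p :=
    IsLocalization.under_map_of_isPrime_disjoint (irr 𝒜).primeCompl _ hp_prime hdisj
  have hp'_ass : p' ∈ associatedPrimes (Localization.AtPrime (irr 𝒜))
      (LocalizedModule (irr 𝒜).primeCompl M) := by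
    apply Module.associatedPrimes.mem_associatedPrimes_of_comap_mem_associatedPrimes_of_isLocalizedModule
      (irr 𝒜).primeCompl (LocalizedModule.mkLinearMap (irr 𝒜).primeCompl M) p'
    rw [hcomap]
    exact hp_ass
  have h1 := Groth.Agent.Lib.Helper28.ringKrullDim_quotient_eq_supportDim_of_isCohenMacaulayModule
    hcm hp'_ass
  have h2 := Groth.Agent.Lib.Helper28.supportDim_localization_eq_height (irr 𝒜) M hm_supp
  have h3 := le_height_irr 𝒜 hpos h0 ℳ r hd hprime hm_supp
  -- `dim R_𝔪/p' ≤ dim R/p`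
  have h4 : ringKrullDim (Localization.AtPrime (irr 𝒜) ⧸ p') ≤ ringKrullDim (R ⧸ p) := by
    rw [ringKrullDim_quotient, ringKrullDim_quotient]
    refine Order.krullDim_le_of_strictMono (fun a =>
      ⟨PrimeSpectrum.comap (algebraMap R (Localization.AtPrime (irr 𝒜))) a.1, ?_⟩) ?_
    · rw [PrimeSpectrum.mem_zeroLocus]
      have ha := (PrimeSpectrum.mem_zeroLocus _ _).1 a.2
      intro z hz
      exact ha (Ideal.mem_map_of_mem _ hz)
    · refine Monotone.strictMono_of_injective ?_ ?_
      · intro a b hab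
        exact Ideal.comap_mono (show a.1.asIdeal ≤ b.1.asIdeal from hab)
      · intro a b hab
        have h5 : PrimeSpectrum.comap (algebraMap R (Localization.AtPrime (irr 𝒜))) a.1 =
            PrimeSpectrum.comap (algebraMap R (Localization.AtPrime (irr 𝒜))) b.1 :=
          congrArg Subtype.val hab
        exact Subtype.ext (PrimeSpectrum.localization_comap_injective _ (irr 𝒜).primeCompl h5)
  have h5 : ringKrullDim (R ⧸ p) ≤ ringKrullDim (R ⧸ Ix) :=
    ringKrullDim_le_of_surjective (Ideal.Quotient.factor hp.1.2)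
      (Ideal.Quotient.factor_surjective hp.1.2)
  refine le_trans ?_ (h4.trans h5)
  rw [h1, h2]
  exact_mod_cast h3

end Groth.Agent.Lib.Seat91.CMGraded
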