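import Mathlib
import Groth.Prelude.Def_DeRham

/-!
# Cartan's formula for the Lie derivative along a derivation on `⋀^• Ω[B⁄R]` (seat 91)

Namespace `Groth.Agent.Lib.Seat91.Cartan`.  Generic version of the `cartan` section of `Seat91PolyHomotopy`:
for an `R`-derivation `E : B → B`, the contraction `iE E q : ⋀^(q+1) Ω → ⋀^q Ω`, the Lie derivative
`Lie E d' = d' ι + ι d'` for a family `d'` satisfying the de Rham rule, and
`Lie (b₀ db₁ ∧ … ∧ db_q) = E b₀ db₁ ∧ … + ∑_m b₀ db₁ ∧ … ∧ d(E b_m) ∧ …`.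
-/

set_option autoImplicit false
set_option linter.style.haveILetI false
set_option linter.unusedSectionVars false

universe u

open exteriorPower DeRham

namespace Groth.Agent.Lib.Seat91.Cartan

section contraction

variable {R B : Type u} [CommRing R] [CommRing B] [Algebra R B] (E : Derivation R B B)

/-- pairing of a differential with the derivation `E` -/
noncomputable def φE : Ω[B⁄R] →ₗ[B] B := E.liftKaehlerDifferential

theorem φE_D (b : B) : φE E (KaehlerDifferential.D R B b) = E b :=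
  Derivation.liftKaehlerDifferential_comp_D E b

/-- contraction with the derivation `E` -/
noncomputable def iE (q : ℕ) : ↥(⋀[B]^(q + 1) (Ω[B⁄R])) →ₗ[B] ↥(⋀[B]^q (Ω[B⁄R])) :=
  alternatingMapLinearEquiv
    (AlternatingMap.alternatizeUncurryFin ((φE E).smulRight (ιMulti B q)))

theorem iE_ιMulti (q : ℕ) (v : Fin (q + 1) → Ω[B⁄R]) :
    iE E q (ιMulti B (q + 1) v) =
      ∑ m : Fin (q + 1), (-1 : ℤ) ^ (m : ℕ) • (φE E (v m) • ιMulti B q (Fin.removeNth m v)) := by
  rw [iE, alternatingMapLinearEquiv_apply_ιMulti, AlternatingMap.alternatizeUncurryFin_apply]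
  refine Finset.sum_congr rfl fun m _ => ?_
  rw [LinearMap.smulRight_apply, AlternatingMap.smul_apply]

end contraction

section cartan

variable {R B : Type u} [CommRing R] [CommRing B] [Algebra R B] (E : Derivation R B B)
  (d' : ∀ p : ℕ, ↥(⋀[B]^p (Ω[B⁄R])) →ₗ[R] ↥(⋀[B]^(p + 1) (Ω[B⁄R])))

theorem removeNth_succ_cons {α : Type*} {n : ℕ} (m : Fin (n + 1)) (j : α) (I : Fin (n + 1) → α) :
    Fin.removeNth (Fin.succ m) (Fin.cons j I : Fin (n + 2) → α) =
      Fin.cons j (Fin.removeNth m I) := by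
  funext l
  refine Fin.cases ?_ (fun l' => ?_) l
  · simp [Fin.removeNth]
  · simp [Fin.removeNth]

/-- `x ↦ x ∧ v₁ ∧ … ∧ v_q` as a linear map -/
noncomputable def consLin (R B : Type u) [CommRing R] [CommRing B] [Algebra R B] (q : ℕ)
    (v : Fin q → Ω[B⁄R]) : Ω[B⁄R] →ₗ[B] ↥(⋀[B]^(q + 1) (Ω[B⁄R])) where
  toFun x := ιMulti B (q + 1) (Fin.cons x v)
  map_add' x y := (ιMulti B (q + 1)).toMultilinearMap.cons_add v x y
  map_smul' c x := (ιMulti B (q + 1)).toMultilinearMap.cons_smul v c x

theorem consLin_apply (q : ℕ) (v : Fin q → Ω[B⁄R]) (x : Ω[B⁄R]) :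
    consLin R B q v x = ιMulti B (q + 1) (Fin.cons x v) := rfl

theorem iE_cons_zero (x : Ω[B⁄R]) (v : Fin 0 → Ω[B⁄R]) :
    iE E 0 (ιMulti B 1 (Fin.cons x v)) = φE E x • ιMulti B 0 v := by
  rw [iE_ιMulti, Fin.sum_univ_one]
  simp

theorem iE_cons_succ (q : ℕ) (x : Ω[B⁄R]) (v : Fin (q + 1) → Ω[B⁄R]) :
    iE E (q + 1) (ιMulti B (q + 2) (Fin.cons x v)) =
      φE E x • ιMulti B (q + 1) v +
        ∑ m : Fin (q + 1), (-1 : ℤ) ^ ((m : ℕ) + 1) •
          (φE E (v m) • ιMulti B (q + 1) (Fin.cons x (Fin.removeNth m v))) := by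
  rw [iE_ιMulti, Fin.sum_univ_succ]
  congr 1
  · simp
  · refine Finset.sum_congr rfl fun m _ => ?_
    rw [Fin.val_succ, Fin.cons_succ, removeNth_succ_cons]

/-- the Lie derivative `d ι + ι d` along the Euler derivation -/
noncomputable def Lie :
    ∀ q : ℕ, ↥(⋀[B]^q (Ω[B⁄R])) →ₗ[R] ↥(⋀[B]^q (Ω[B⁄R]))
  | 0 => (iE E 0).restrictScalars R ∘ₗ d' 0
  | q + 1 => d' q ∘ₗ (iE E q).restrictScalars R + (iE E (q + 1)).restrictScalars R ∘ₗ d' (q + 1)

theorem Lie_zero_apply (ω : ↥(⋀[B]^0 (Ω[B⁄R]))) : Lie E d' 0 ω = iE E 0 (d' 0 ω) := rfl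

theorem Lie_succ_apply (q : ℕ) (ω : ↥(⋀[B]^(q + 1) (Ω[B⁄R]))) :
    Lie E d' (q + 1) ω = d' q (iE E q ω) + iE E (q + 1) (d' (q + 1) ω) := rfl

variable (hd' : DeRham.IsRule (KaehlerDifferential.D R B) d')

include hd' in
theorem cartan_zero (b₀ : B) (b : Fin 0 → B) :
    Lie E d' 0 (gen (KaehlerDifferential.D R B) 0 b₀ b) =
      gen (KaehlerDifferential.D R B) 0 (E b₀) b := by
  rw [Lie_zero_apply, hd' 0 b₀ b, iE_cons_zero, φE_D]
  rfl

include hd' in
theorem cartan_succ (q : ℕ) (b₀ : B) (b : Fin (q + 1) → B) :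
    Lie E d' (q + 1) (gen (KaehlerDifferential.D R B) (q + 1) b₀ b) =
      gen (KaehlerDifferential.D R B) (q + 1) (E b₀) b +
        ∑ m : Fin (q + 1), gen (KaehlerDifferential.D R B) (q + 1) b₀
          (Function.update b m (E (b m))) := by
  rw [Lie_succ_apply, hd' (q + 1) b₀ b, iE_cons_succ, φE_D]
  -- the `d ι` part
  have h1 : iE E q (gen (KaehlerDifferential.D R B) (q + 1) b₀ b) =
      ∑ m : Fin (q + 1), (-1 : ℤ) ^ (m : ℕ) •
        gen (KaehlerDifferential.D R B) q (b₀ * E (b m)) (Fin.removeNth m b) := by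
    unfold gen
    rw [map_smul, iE_ιMulti, Finset.smul_sum]
    refine Finset.sum_congr rfl fun m _ => ?_
    rw [smul_comm b₀, smul_smul, φE_D]
    rfl
  rw [h1, map_sum]
  have h2 : ∀ m : Fin (q + 1),
      d' q ((-1 : ℤ) ^ (m : ℕ) •
        gen (KaehlerDifferential.D R B) q (b₀ * E (b m)) (Fin.removeNth m b)) =
      (-1 : ℤ) ^ (m : ℕ) • (b₀ • ιMulti B (q + 1)
        (Fin.cons (KaehlerDifferential.D R B (E (b m)))
          (Fin.removeNth m (fun i => KaehlerDifferential.D R B (b i))))) +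
      (-1 : ℤ) ^ (m : ℕ) • (E (b m) • ιMulti B (q + 1)
        (Fin.cons (KaehlerDifferential.D R B b₀)
          (Fin.removeNth m (fun i => KaehlerDifferential.D R B (b i))))) := by
    intro m
    rw [map_zsmul, hd' q, ← smul_add]
    congr 1
    have h3 : (fun i => KaehlerDifferential.D R B (Fin.removeNth m b i)) =
        Fin.removeNth m (fun i => KaehlerDifferential.D R B (b i)) := rfl
    rw [h3, ← consLin_apply, ← consLin_apply, ← consLin_apply, Derivation.leibniz, map_add,
      map_smul, map_smul]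
  -- cancel
  have h4 : ∀ m : Fin (q + 1),
      (-1 : ℤ) ^ (m : ℕ) • (E (b m) • ιMulti B (q + 1)
        (Fin.cons (KaehlerDifferential.D R B b₀)
          (Fin.removeNth m (fun i => KaehlerDifferential.D R B (b i))))) +
      (-1 : ℤ) ^ ((m : ℕ) + 1) • (φE E (KaehlerDifferential.D R B (b m)) •
        ιMulti B (q + 1) (Fin.cons (KaehlerDifferential.D R B b₀)
          (Fin.removeNth m (fun i => KaehlerDifferential.D R B (b i))))) = 0 := by
    intro m
    rw [φE_D, pow_succ, mul_neg_one, neg_smul, add_neg_cancel]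
  have h5 : ∀ m : Fin (q + 1),
      (-1 : ℤ) ^ (m : ℕ) • (b₀ • ιMulti B (q + 1)
        (Fin.cons (KaehlerDifferential.D R B (E (b m)))
          (Fin.removeNth m (fun i => KaehlerDifferential.D R B (b i))))) =
      gen (KaehlerDifferential.D R B) (q + 1) b₀ (Function.update b m (E (b m))) := by
    intro m
    unfold gen
    rw [smul_comm]
    congr 1
    have h6 := AlternatingMap.neg_one_pow_smul_map_insertNth (ιMulti B (q + 1)) m
      (KaehlerDifferential.D R B (E (b m)))
      (Fin.removeNth m (fun i => KaehlerDifferential.D R B (b i)))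
    rw [Fin.insertNth_removeNth] at h6
    have h7 : (Matrix.vecCons (KaehlerDifferential.D R B (E (b m)))
        (Fin.removeNth m (fun i => KaehlerDifferential.D R B (b i)))) =
        Fin.cons (KaehlerDifferential.D R B (E (b m)))
          (Fin.removeNth m (fun i => KaehlerDifferential.D R B (b i))) := rfl
    rw [h7] at h6
    rw [← h6, smul_smul, ← pow_add, Even.neg_one_pow ⟨_, rfl⟩, one_smul]
    congr 1
    funext i
    by_cases hi : i = m
    · subst hi; simp
    · simp [Function.update_of_ne hi]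
  rw [add_left_comm, ← Finset.sum_add_distrib]
  congr 1
  refine Finset.sum_congr rfl fun m _ => ?_
  rw [h2 m, add_assoc, h4 m, add_zero, h5 m]

theorem gen_nsmul_left (q : ℕ) (b₀ : B) (b : Fin q → B) (n : ℕ) :
    gen (KaehlerDifferential.D R B) q (n • b₀) b =
      n • gen (KaehlerDifferential.D R B) q b₀ b := by
  unfold gen
  rw [smul_assoc]

theorem gen_update_nsmul (q : ℕ) (b₀ : B) (b : Fin q → B) (m : Fin q) (n : ℕ) :
    gen (KaehlerDifferential.D R B) q b₀ (Function.update b m (n • b m)) =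
      n • gen (KaehlerDifferential.D R B) q b₀ b := by
  unfold gen
  have h1 : (fun i => KaehlerDifferential.D R B (Function.update b m (n • b m) i)) =
      Function.update (fun i => KaehlerDifferential.D R B (b i)) m
        ((n : B) • KaehlerDifferential.D R B (b m)) := by
    funext i
    by_cases hi : i = m
    · subst hi
      simp [Nat.cast_smul_eq_nsmul]
    · simp [Function.update_of_ne hi]
  rw [h1, AlternatingMap.map_update_smul, Function.update_eq_self,
    Nat.cast_smul_eq_nsmul, smul_comm]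

include hd' in
/-- the Lie derivative acts on weight-homogeneous generators by the weight -/
theorem Lie_gen_eigen (q : ℕ) (b₀ : B) (b : Fin q → B) (n₀ : ℕ) (w : Fin q → ℕ)
    (h₀ : E b₀ = n₀ • b₀) (hw : ∀ m, E (b m) = w m • b m) :
    Lie E d' q (gen (KaehlerDifferential.D R B) q b₀ b) =
      (n₀ + ∑ m, w m) • gen (KaehlerDifferential.D R B) q b₀ b := by
  cases q with
  | zero =>
    rw [cartan_zero E d' hd', h₀, gen_nsmul_left]
    simp
  | succ q =>
    rw [cartan_succ E d' hd', h₀, gen_nsmul_left, add_smul, Finset.sum_smul]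
    congr 1
    refine Finset.sum_congr rfl fun m _ => ?_
    rw [hw m, gen_update_nsmul]

end cartan

section liecomm

variable {R B : Type u} [CommRing R] [CommRing B] [Algebra R B] (E : Derivation R B B)
  (d' : ∀ p : ℕ, ↥(⋀[B]^p (Ω[B⁄R])) →ₗ[R] ↥(⋀[B]^(p + 1) (Ω[B⁄R])))

theorem Lie_comm (hd' : DeRham.IsDiff (KaehlerDifferential.D R B) d') (q : ℕ)
    (ω : ↥(⋀[B]^q (Ω[B⁄R]))) : Lie E d' (q + 1) (d' q ω) = d' q (Lie E d' q ω) := by
  have hdd : ∀ p x, d' (p + 1) (d' p x) = 0 := fun p x => LinearMap.congr_fun (hd'.2 p) x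
  cases q with
  | zero =>
    rw [Lie_succ_apply, Lie_zero_apply, hdd, map_zero, add_zero]
  | succ q =>
    rw [Lie_succ_apply, Lie_succ_apply, hdd, map_zero, add_zero, map_add, hdd, zero_add]

end liecomm

section eigen

/-- eigenvectors of an endomorphism of a module over a `ℚ`-algebra for distinct natural eigenvalues are
independent -/
theorem eigen_sum_eq_zero {R V : Type*} [CommRing R] [Algebra ℚ R] [AddCommGroup V] [Module R V]
    (T : V →ₗ[R] V) :
    ∀ (S : Finset ℕ) (z : ℕ → V), (∀ n ∈ S, T (z n) = n • z n) → ∑ n ∈ S, z n = 0 →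
      ∀ n ∈ S, z n = 0 := by
  classical
  letI : Module ℚ V := Module.compHom V (algebraMap ℚ R)
  intro S
  induction S using Finset.induction_on with
  | empty => intro z _ _ n hn; simp at hn
  | insert m S' hm ih =>
    intro z hz hsum
    rw [Finset.sum_insert hm] at hsum
    have hT : T (z m) + ∑ n ∈ S', T (z n) = 0 := by
      rw [← map_sum, ← map_add, hsum, map_zero]
    have h1 : ∑ n ∈ S', (((n : ℤ) - (m : ℤ)) • z n) = 0 := by
      have h2 : ∑ n ∈ S', (((n : ℤ) - (m : ℤ)) • z n) =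
          (T (z m) + ∑ n ∈ S', T (z n)) - m • (z m + ∑ n ∈ S', z n) := by
        rw [hz m (Finset.mem_insert_self _ _), smul_add, Finset.smul_sum,
          Finset.sum_congr rfl fun n hn => hz n (Finset.mem_insert_of_mem hn)]
        simp only [sub_smul, Finset.sum_sub_distrib, natCast_zsmul]
        abel
      rw [h2, hT, hsum, smul_zero, sub_zero]
    have h3 : ∀ n ∈ S', ((n : ℤ) - (m : ℤ)) • z n = 0 := by
      refine ih (fun n => ((n : ℤ) - (m : ℤ)) • z n) (fun n hn => ?_) h1
      rw [map_zsmul, hz n (Finset.mem_insert_of_mem hn), smul_comm]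
    have h4 : ∀ n ∈ S', z n = 0 := by
      intro n hn
      have hnm : ((n : ℤ) - (m : ℤ)) ≠ 0 := by
        intro h
        apply hm
        have : n = m := by omega
        rwa [← this]
      have h5 := h3 n hn
      rw [← Int.cast_smul_eq_zsmul ℚ] at h5
      rcases smul_eq_zero.1 h5 with h6 | h6
      · exact absurd (by exact_mod_cast h6) hnm
      · exact h6
    intro n hn
    rcases Finset.mem_insert.1 hn with rfl | hn'
    · rw [Finset.sum_eq_zero h4, add_zero] at hsum
      exact hsum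
    · exact h4 n hn'

/-- dividing by a nonzero natural number in a module over a `ℚ`-algebra -/
theorem inv_smul_nsmul {R V : Type*} [CommRing R] [Algebra ℚ R] [AddCommGroup V] [Module R V]
    (n : ℕ) (hn : n ≠ 0) (v : V) : (algebraMap ℚ R (n : ℚ)⁻¹) • (n • v) = v := by
  rw [← Nat.cast_smul_eq_nsmul R, smul_smul]
  have : algebraMap ℚ R (n : ℚ)⁻¹ * (n : R) = 1 := by
    rw [← map_natCast (algebraMap ℚ R), ← map_mul, inv_mul_cancel₀ (by exact_mod_cast hn), map_one]
  rw [this, one_smul]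

end eigen

end Groth.Agent.Lib.Seat91.Cartan
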