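import Mathlib
import Groth.Prelude.Def_GrLC

/-!
# The pieces of a graded ring as a graded algebra over its degree-zero subring (seat 91)

For a `ℤ`-graded ring `R` (pieces additive subgroups `𝒜 n`, as in `Def_GrLC`), the pieces
`GrLC.comp 𝒜 𝒜 n`, viewed as submodules over `R_0 = GrLC.deg0 𝒜`, form a `GradedAlgebra`
(`compGradedAlgebra`).  This lets rows stated with `IsField (GrLC.deg0 𝒜)` use lemmas stated for
graded algebras over a field.

Namespace `Groth.Agent.Lib.Seat91.CompGrading`.
-/

set_option autoImplicit false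
universe u

open DirectSum

namespace Groth.Agent.Lib.Seat91.CompGrading

variable {R : Type u} [CommRing R] (𝒜 : ℤ → AddSubgroup R) [GradedRing 𝒜]

theorem mem_comp_iff (i : ℤ) (x : R) : x ∈ GrLC.comp 𝒜 𝒜 i ↔ x ∈ 𝒜 i := Iff.rfl

/-- The identity from the additive piece to the piece as an `R_0`-submodule. -/
def toComp (i : ℤ) : 𝒜 i →+ GrLC.comp 𝒜 𝒜 i where
  toFun x := ⟨x.1, x.2⟩
  map_zero' := rfl
  map_add' _ _ := rfl

/-- The pieces as `R_0`-submodules form a decomposition. -/
@[instance_reducible]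
noncomputable def compDecomposition : DirectSum.Decomposition (GrLC.comp 𝒜 𝒜) :=
  DirectSum.Decomposition.ofAddHom (GrLC.comp 𝒜 𝒜)
    ((DFinsupp.mapRange.addMonoidHom (toComp 𝒜)).comp
      (DirectSum.decomposeAddEquiv 𝒜).toAddMonoidHom)
    (by
      ext x
      simp only [AddMonoidHom.coe_comp, Function.comp_apply, AddMonoidHom.id_apply]
      have h : ∀ d : ⨁ i, 𝒜 i, DirectSum.coeAddMonoidHom (GrLC.comp 𝒜 𝒜)
          (DFinsupp.mapRange.addMonoidHom (toComp 𝒜) d) = DirectSum.coeAddMonoidHom 𝒜 d := by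
        intro d
        induction d using DirectSum.induction_on with
        | zero => simp
        | of i y =>
          rw [DirectSum.coeAddMonoidHom_of]
          change DirectSum.coeAddMonoidHom (GrLC.comp 𝒜 𝒜)
            (DFinsupp.mapRange.addMonoidHom (toComp 𝒜) (DFinsupp.single i y)) = _
          rw [DFinsupp.mapRange.addMonoidHom_apply, DFinsupp.mapRange_single]
          exact DirectSum.coeAddMonoidHom_of (GrLC.comp 𝒜 𝒜) i _
        | add x y hx hy => rw [map_add, map_add, hx, hy, map_add]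
      have h2 := h (DirectSum.decompose 𝒜 x)
      exact h2.trans (DirectSum.Decomposition.left_inv x))
    (by
      refine DirectSum.addHom_ext fun i z => ?_
      simp only [AddMonoidHom.coe_comp, Function.comp_apply, AddMonoidHom.id_apply]
      rw [DirectSum.coeAddMonoidHom_of]
      have hz : (z : R) ∈ 𝒜 i := z.2
      change DFinsupp.mapRange.addMonoidHom (toComp 𝒜) (DirectSum.decompose 𝒜 (z : R)) = _
      rw [DirectSum.decompose_of_mem 𝒜 hz]
      change DFinsupp.mapRange.addMonoidHom (toComp 𝒜) (DFinsupp.single i _) = _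
      rw [DFinsupp.mapRange.addMonoidHom_apply, DFinsupp.mapRange_single]
      rfl)

instance compGradedMonoid : SetLike.GradedMonoid (GrLC.comp 𝒜 𝒜) where
  one_mem := SetLike.GradedOne.one_mem (A := 𝒜)
  mul_mem := fun _ _ _ _ ha hb => SetLike.GradedMul.mul_mem (A := 𝒜) ha hb

/-- The pieces as `R_0`-submodules form a graded algebra over `R_0`. -/
@[instance_reducible]
noncomputable def compGradedAlgebra : GradedAlgebra (GrLC.comp 𝒜 𝒜) :=
  { (compGradedMonoid 𝒜) with toDecomposition := compDecomposition 𝒜 }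

theorem comp_eq_bot {n : ℤ} (h : 𝒜 n = ⊥) : GrLC.comp 𝒜 𝒜 n = ⊥ := by
  rw [eq_bot_iff]
  intro x hx
  have hx' : x ∈ 𝒜 n := hx
  rw [h] at hx'
  rw [Submodule.mem_bot]
  exact (AddSubgroup.mem_bot).1 hx'

theorem comp_zero_eq : GrLC.comp 𝒜 𝒜 0 = Submodule.span (GrLC.deg0 𝒜) {(1 : R)} := by
  apply le_antisymm
  · intro x hx
    have hx' : x ∈ 𝒜 0 := hx
    rw [Submodule.mem_span_singleton]
    refine ⟨⟨x, hx'⟩, ?_⟩
    show x * 1 = x
    rw [mul_one]
  · rw [Submodule.span_le]
    rintro _ rfl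
    exact SetLike.GradedOne.one_mem (A := 𝒜)

end Groth.Agent.Lib.Seat91.CompGrading
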