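import Groth.Agent.Lib.Seat91GLatPerm
import Mathlib.LinearAlgebra.FreeModule.PID
import Mathlib.RingTheory.Noetherian.Basic
import Mathlib.RingTheory.PrincipalIdealDomain
import Mathlib.GroupTheory.Coset.Basic
import Mathlib.Tactic

/-!
# Coflasque covers of finitely generated `G`-modules by permutation lattices (seat 91)

Namespace `Groth.Agent.Lib.Seat91.GLatCover`.

For a finite group `G` and a finitely generated `G`-module `(A, ρ)`:
* `Idx ρ`: the finite `G`-set `⊔_{H ≤ G} ⊔_{s ∈ gens H} G/H`, `gens H` a finite generating set of `A^H`;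
* `cover ρ : ℤ[Idx ρ] → A`: equivariant, and surjective on `H`-invariants for every subgroup `H`;
* `subRep`: restriction of a representation to a stable submodule;
* `isCoflasque_ker`: the kernel of an equivariant map from a coflasque module which is surjective on
  `H`-invariants for all `H` is coflasque;
* `exists_coflasque_cover`: `0 → Q → P → A → 0` with `P` permutation, `Q` coflasque.
-/

set_option autoImplicit false
set_option linter.style.haveILetI false

namespace Groth.Agent.Lib.Seat91.GLatCover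

open GLat Groth.Agent.Lib.Seat91.GLatPerm

section general

variable {G : Type*} [Group G] {P A : Type*} [AddCommGroup P] [AddCommGroup A]

/-- the submodule of `H`-invariants -/
def inv (ρ : Representation ℤ G A) (H : Subgroup G) : Submodule ℤ A where
  carrier := {a | ∀ h : H, ρ (h : G) a = a}
  add_mem' := fun {a b} ha hb h => by rw [map_add, ha h, hb h]
  zero_mem' := fun h => map_zero _
  smul_mem' := fun c a ha h => by rw [map_smul, ha h]

theorem mem_inv {ρ : Representation ℤ G A} {H : Subgroup G} {a : A} :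
    a ∈ inv ρ H ↔ ∀ h : H, ρ (h : G) a = a := Iff.rfl

/-- restriction of a representation to a stable submodule -/
def subRep (τ : Representation ℤ G P) (Q : Submodule ℤ P) (hQ : ∀ g, ∀ x ∈ Q, τ g x ∈ Q) :
    Representation ℤ G Q where
  toFun g := (τ g).restrict (hQ g)
  map_one' := by
    ext x
    simp
  map_mul' g h := by
    ext x
    simp

@[simp]
theorem subRep_coe (τ : Representation ℤ G P) (Q : Submodule ℤ P) (hQ : ∀ g, ∀ x ∈ Q, τ g x ∈ Q)
    (g : G) (x : Q) : ((subRep τ Q hQ g x : Q) : P) = τ g (x : P) := rfl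

theorem ker_stable {τ : Representation ℤ G P} {ρ : Representation ℤ G A} {π : P →ₗ[ℤ] A}
    (hπ : IsEquivariant τ ρ π) : ∀ g, ∀ x ∈ LinearMap.ker π, τ g x ∈ LinearMap.ker π := by
  intro g x hx
  rw [LinearMap.mem_ker] at hx ⊢
  rw [hπ g x, hx, map_zero]

/-- the kernel of an equivariant map out of a coflasque module, surjective on invariants, is coflasque -/
theorem isCoflasque_ker {τ : Representation ℤ G P} {ρ : Representation ℤ G A} {π : P →ₗ[ℤ] A}
    (hπ : IsEquivariant τ ρ π) (hτ : IsCoflasque τ)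
    (hsurj : ∀ (H : Subgroup G) (a : A), a ∈ inv ρ H → ∃ p : P, p ∈ inv τ H ∧ π p = a) :
    IsCoflasque (subRep τ (LinearMap.ker π) (ker_stable hπ)) := by
  intro H f hf
  obtain ⟨p, hp⟩ := hτ H (fun a => (f a : P)) (fun a b => by
    have := congrArg (Subtype.val) (hf a b)
    simpa using this)
  have hinv : π p ∈ inv ρ H := by
    intro h
    have h1 : π (τ (h : G) p - p) = 0 := by
      rw [← hp h]
      exact (f h).2
    rw [map_sub, hπ, sub_eq_zero] at h1
    exact h1
  obtain ⟨p', hp', hpp'⟩ := hsurj H (π p) hinv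
  have hmem : p - p' ∈ LinearMap.ker π := by
    rw [LinearMap.mem_ker, map_sub, hpp', sub_self]
  refine ⟨⟨p - p', hmem⟩, fun a => ?_⟩
  apply Subtype.ext
  have h2 : τ (a : G) p' = p' := hp' a
  simp only [AddSubgroupClass.coe_sub, subRep_coe, map_sub, h2]
  rw [hp a]
  abel

end general

section cover

variable {G : Type} [Group G] {A : Type} [AddCommGroup A] [Module.Finite ℤ A]
  (ρ : Representation ℤ G A)

theorem inv_fg (H : Subgroup G) : (inv ρ H).FG := by
  haveI : IsNoetherian ℤ A := isNoetherian_of_isNoetherianRing_of_finite ℤ A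
  exact IsNoetherian.noetherian _

/-- a finite generating set of the invariants -/
noncomputable def gens (H : Subgroup G) : Finset A := (inv_fg ρ H).choose

theorem span_gens (H : Subgroup G) : Submodule.span ℤ (gens ρ H : Set A) = inv ρ H :=
  (inv_fg ρ H).choose_spec

theorem gens_mem_inv {H : Subgroup G} {s : A} (hs : s ∈ gens ρ H) : s ∈ inv ρ H := by
  rw [← span_gens]
  exact Submodule.subset_span hs

/-- the index set `⊔_{H} ⊔_{s ∈ gens H} G/H` -/
abbrev Idx : Type := Σ p : (Σ H : Subgroup G, ↥(gens ρ H)), G ⧸ p.1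

example : MulAction G (Idx ρ) := inferInstance

example [Finite G] : Finite (Idx ρ) := inferInstance

/-- the value of a basis element: `(H, s, gH) ↦ g • s` -/
noncomputable def val : Idx ρ → A := fun i =>
  Quotient.liftOn' i.2 (fun g => ρ g (i.1.2 : A)) (by
    intro a b hab
    have hab' : a⁻¹ * b ∈ i.1.1 := QuotientGroup.leftRel_apply.1 hab
    have hs : ρ ((⟨a⁻¹ * b, hab'⟩ : i.1.1) : G) (i.1.2 : A) = (i.1.2 : A) :=
      gens_mem_inv ρ i.1.2.2 ⟨a⁻¹ * b, hab'⟩
    show ρ a (i.1.2 : A) = ρ b (i.1.2 : A)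
    have : b = a * (a⁻¹ * b) := by group
    rw [this, map_mul, Module.End.mul_apply, hs])

theorem val_mk (p : Σ H : Subgroup G, ↥(gens ρ H)) (g : G) :
    val ρ ⟨p, (g : G ⧸ p.1)⟩ = ρ g (p.2 : A) := rfl

theorem val_smul (g : G) (i : Idx ρ) : val ρ (g • i) = ρ g (val ρ i) := by
  obtain ⟨p, x⟩ := i
  induction x using Quotient.inductionOn' with
  | h x =>
    show val ρ ⟨p, ((g * x : G) : G ⧸ p.1)⟩ = ρ g (val ρ ⟨p, (x : G ⧸ p.1)⟩)
    rw [val_mk, val_mk, map_mul, Module.End.mul_apply]

/-- the covering map `ℤ[Idx ρ] → A` -/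
noncomputable def cover : (Idx ρ →₀ ℤ) →ₗ[ℤ] A := Finsupp.linearCombination ℤ (val ρ)

theorem cover_single (i : Idx ρ) (c : ℤ) : cover ρ (Finsupp.single i c) = c • val ρ i := by
  simp [cover]

theorem cover_equivariant : IsEquivariant (perm (G := G) (Idx ρ)) ρ (cover ρ) := by
  intro g m
  induction m using Finsupp.induction_linear with
  | zero => simp
  | add x y hx hy => simp only [map_add, hx, hy]
  | single i c => rw [perm_single, cover_single, cover_single, val_smul, map_smul]

theorem cover_surjective_inv (H : Subgroup G) (a : A) (ha : a ∈ inv ρ H) :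
    ∃ p : Idx ρ →₀ ℤ, p ∈ inv (perm (G := G) (Idx ρ)) H ∧ cover ρ p = a := by
  classical
  rw [← span_gens, Submodule.mem_span_finset] at ha
  obtain ⟨c, -, hc⟩ := ha
  refine ⟨∑ s ∈ (gens ρ H).attach, Finsupp.single (⟨⟨H, s⟩, ((1 : G) : G ⧸ H)⟩ : Idx ρ) (c s), ?_, ?_⟩
  · intro h
    rw [map_sum]
    refine Finset.sum_congr rfl fun s _ => ?_
    rw [perm_single]
    congr 1
    show (⟨⟨H, s⟩, (((h : G) * 1 : G) : G ⧸ H)⟩ : Idx ρ) = ⟨⟨H, s⟩, ((1 : G) : G ⧸ H)⟩
    congr 1
    rw [mul_one]
    exact QuotientGroup.eq.2 (by simp)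
  · have hv : ∀ s : ↥(gens ρ H), val ρ ⟨⟨H, s⟩, ((1 : G) : G ⧸ H)⟩ = (s : A) := fun s => by
      rw [val_mk, map_one]; rfl
    rw [map_sum]
    simp only [cover_single, hv]
    rw [← hc]
    exact Finset.sum_attach (gens ρ H) (fun s => c s • s)

theorem cover_surjective : Function.Surjective (cover ρ) := by
  intro a
  obtain ⟨p, -, hp⟩ := cover_surjective_inv ρ ⊥ a (by
    intro h
    have : (h : G) = 1 := Subgroup.mem_bot.1 h.2
    rw [this, map_one, Module.End.one_apply])
  exact ⟨p, hp⟩

end cover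

section final

variable {G : Type} [Group G] [Finite G] {A : Type} [AddCommGroup A] [Module.Finite ℤ A]
  (ρ : Representation ℤ G A)

theorem exists_coflasque_cover :
    ∃ (Q : Type) (_ : AddCommGroup Q) (P : Type) (_ : AddCommGroup P)
      (_ : Module.Finite ℤ Q) (_ : Module.Free ℤ Q) (_ : Module.Finite ℤ P) (_ : Module.Free ℤ P)
      (σ : Representation ℤ G Q) (τ : Representation ℤ G P) (i : Q →ₗ[ℤ] P) (π : P →ₗ[ℤ] A),
      GLat.IsEquivariant σ τ i ∧ GLat.IsEquivariant τ ρ π ∧ Function.Injective i ∧ Function.Surjective π ∧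
      LinearMap.range i = LinearMap.ker π ∧ GLat.IsPermutation τ ∧ GLat.IsCoflasque σ := by
  haveI : IsNoetherian ℤ (Idx ρ →₀ ℤ) := isNoetherian_of_isNoetherianRing_of_finite ℤ _
  refine ⟨↥(LinearMap.ker (cover ρ)), inferInstance, (Idx ρ →₀ ℤ), inferInstance,
    inferInstance, inferInstance, inferInstance, inferInstance,
    subRep (perm (G := G) (Idx ρ)) (LinearMap.ker (cover ρ)) (ker_stable (cover_equivariant ρ)),
    perm (G := G) (Idx ρ), (LinearMap.ker (cover ρ)).subtype, cover ρ, ?_, cover_equivariant ρ,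
    Subtype.val_injective, cover_surjective ρ, Submodule.range_subtype _, isPermutation_perm (Idx ρ), ?_⟩
  · intro g m
    rfl
  · exact isCoflasque_ker (cover_equivariant ρ) isCoflasque_perm (cover_surjective_inv ρ)

end final

end Groth.Agent.Lib.Seat91.GLatCover
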