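import Groth.Agent.Lib.Seat91GLatExt
import Mathlib.LinearAlgebra.Dual.Lemmas
import Mathlib.LinearAlgebra.FreeModule.Finite.Basic

/-!
# Flasque resolutions of `G`-lattices (seat 91)

Namespace `Groth.Agent.Lib.Seat91.GLatDual`.

For a finite group `G` and a `G`-lattice `(A, ρ)` let `A' = Hom(A, ℤ)` be the dual lattice and
`cover ρ.dual : ℤ[X] → A'` the permutation cover (surjective on `H`-invariants for all `H`).  The transpose
`emb ρ : A → ℤ[X]`, `a ↦ (i ↦ val i a)`, is an equivariant embedding with torsion-free, flasque cokernel.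

* `emb`, `emb_equivariant`, `emb_injective`, `free_quot`, `isFlasque_quot`;
* `exists_flasque_resolution` (= the statement of S18686).
-/

set_option autoImplicit false
set_option linter.style.haveILetI false
set_option linter.unusedSectionVars false

namespace Groth.Agent.Lib.Seat91.GLatDual

open GLat Groth.Agent.Lib.Seat91.GLatPerm Groth.Agent.Lib.Seat91.GLatCover
  Groth.Agent.Lib.Seat91.GLatExt

section lattice

variable {A : Type*} [AddCommGroup A] [Module.Finite ℤ A] [Module.Free ℤ A]

/-- an element of a lattice all of whose coordinates are divisible by `r` is divisible by `r` -/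
theorem exists_smul_of_forall_dual_dvd (r : ℤ) (a : A) (h : ∀ φ : Module.Dual ℤ A, r ∣ φ a) :
    ∃ a' : A, a = r • a' := by
  classical
  let b := Module.Free.chooseBasis ℤ A
  have hc : ∀ k, ∃ c : ℤ, b.coord k a = r * c := fun k => h (b.coord k)
  choose c hc using hc
  refine ⟨∑ k, c k • b k, ?_⟩
  rw [Finset.smul_sum]
  conv_lhs => rw [← b.sum_repr a]
  refine Finset.sum_congr rfl fun k _ => ?_
  rw [smul_smul, ← hc k, Module.Basis.coord_apply]

end lattice

section bilin

variable {G : Type*} [Group G] {X : Type*} [MulAction G X]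

/-- the standard bilinear form on `ℤ[X]` -/
noncomputable def bil (X : Type*) : (X →₀ ℤ) →ₗ[ℤ] (X →₀ ℤ) →ₗ[ℤ] ℤ :=
  Finsupp.linearCombination ℤ (fun i => (Finsupp.lapply i : (X →₀ ℤ) →ₗ[ℤ] ℤ))

theorem bil_single (i : X) (c : ℤ) (p : X →₀ ℤ) : bil X (Finsupp.single i c) p = c * p i := by
  simp [bil]

theorem bil_perm (g : G) (q p : X →₀ ℤ) :
    bil X (perm (G := G) X g q) (perm (G := G) X g p) = bil X q p := by
  induction q using Finsupp.induction_linear with
  | zero => simp
  | add x y hx hy => simp only [map_add, LinearMap.add_apply, hx, hy]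
  | single i c => rw [perm_single, bil_single, bil_single, perm_apply, inv_smul_smul]

end bilin

section emb

variable {G : Type} [Group G] [Finite G] {A : Type} [AddCommGroup A] [Module.Finite ℤ A]
  [Module.Free ℤ A] (ρ : Representation ℤ G A)

/-- the index set of the permutation cover of the dual lattice -/
abbrev X : Type := Idx ρ.dual

/-- the transpose of the permutation cover of the dual lattice -/
noncomputable def emb : A →ₗ[ℤ] (X ρ →₀ ℤ) :=
  (Finsupp.linearEquivFunOnFinite ℤ ℤ (X ρ)).symm.toLinearMap ∘ₗ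
    LinearMap.pi (fun i => (val ρ.dual i : A →ₗ[ℤ] ℤ))

theorem emb_apply (a : A) (i : X ρ) : emb ρ a i = val ρ.dual i a := by
  simp [emb, Finsupp.linearEquivFunOnFinite]

theorem emb_equivariant : IsEquivariant ρ (perm (G := G) (X ρ)) (emb ρ) := by
  intro g a
  ext i
  rw [perm_apply, emb_apply, emb_apply, val_smul]
  simp [Module.Dual.transpose_apply]

theorem bil_emb (q : X ρ →₀ ℤ) (a : A) : bil (X ρ) q (emb ρ a) = cover ρ.dual q a := by
  induction q using Finsupp.induction_linear with
  | zero => simp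
  | add x y hx hy => simp only [map_add, LinearMap.add_apply, hx, hy]
  | single i c =>
    rw [bil_single, emb_apply, cover_single, LinearMap.smul_apply, smul_eq_mul]

theorem emb_injective : Function.Injective (emb ρ) := by
  rw [← LinearMap.ker_eq_bot, LinearMap.ker_eq_bot']
  intro a ha
  rw [← Module.forall_dual_apply_eq_zero_iff ℤ a]
  intro φ
  obtain ⟨q, rfl⟩ := cover_surjective ρ.dual φ
  rw [← bil_emb, ha, map_zero]

theorem range_emb_stable :
    ∀ g, LinearMap.range (emb ρ) ≤ (LinearMap.range (emb ρ)).comap (perm (G := G) (X ρ) g) := by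
  rintro g _ ⟨a, rfl⟩
  exact ⟨ρ g a, emb_equivariant ρ g a⟩

/-- the image of `emb` is saturated -/
theorem emb_saturated (r : ℤ) (hr : r ≠ 0) (p : X ρ →₀ ℤ) (hp : r • p ∈ LinearMap.range (emb ρ)) :
    p ∈ LinearMap.range (emb ρ) := by
  obtain ⟨a, ha⟩ := hp
  obtain ⟨a', rfl⟩ := exists_smul_of_forall_dual_dvd r a (by
    intro φ
    obtain ⟨q, rfl⟩ := cover_surjective ρ.dual φ
    rw [← bil_emb, ha, map_smul, smul_eq_mul]
    exact dvd_mul_right _ _)
  refine ⟨a', ?_⟩
  rw [map_smul] at ha
  exact (smul_right_injective _ hr) ha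

instance isTorsionFree_quot :
    Module.IsTorsionFree ℤ ((X ρ →₀ ℤ) ⧸ LinearMap.range (emb ρ)) := by
  apply Module.IsTorsionFree.of_smul_eq_zero
  intro r m hrm
  by_cases hr : r = 0
  · exact Or.inl hr
  right
  obtain ⟨p, rfl⟩ := Submodule.mkQ_surjective _ m
  rw [← map_smul, Submodule.mkQ_apply, Submodule.Quotient.mk_eq_zero] at hrm
  rw [Submodule.mkQ_apply, Submodule.Quotient.mk_eq_zero]
  exact emb_saturated ρ r hr p hrm

theorem free_quot : Module.Free ℤ ((X ρ →₀ ℤ) ⧸ LinearMap.range (emb ρ)) := inferInstance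

/-- the key lattice duality statement: an invariant element on which all invariant functionals take
values divisible by `|H|` is a norm -/
theorem mem_range_nrm_of_dvd (H : Subgroup G) (a : A) (ha : a ∈ inv ρ H)
    (hdvd : ∀ φ : Module.Dual ℤ A, φ ∈ inv ρ.dual H → (Nat.card H : ℤ) ∣ φ a) :
    ∃ a' : A, a = nrm ρ H a' := by
  classical
  haveI : IsNoetherian ℤ A := isNoetherian_of_isNoetherianRing_of_finite ℤ A
  let N : Submodule ℤ A := LinearMap.range (nrm ρ H)
  let c := Module.Free.chooseBasis ℤ N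
  let nr : A →ₗ[ℤ] N := (nrm ρ H).rangeRestrict
  have hφ : ∀ k, (c.coord k ∘ₗ nr : Module.Dual ℤ A) ∈ inv ρ.dual H := by
    intro k h
    ext x
    simp only [Representation.dual_apply, Module.Dual.transpose_apply, LinearMap.coe_comp,
      Function.comp_apply]
    have h0 : nr (ρ ((h : G)⁻¹) x) = nr x := Subtype.ext (nrm_smul ρ H h⁻¹ x)
    rw [h0]
  have hm : ∀ k, ∃ m : ℤ, c.coord k (nr a) = (Nat.card H : ℤ) * m := fun k => hdvd _ (hφ k)
  choose m hm using hm
  have h1 : nr a = (Nat.card H : ℤ) • ∑ k, m k • c k := by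
    rw [Finset.smul_sum]
    conv_lhs => rw [← c.sum_repr (nr a)]
    refine Finset.sum_congr rfl fun k _ => ?_
    rw [smul_smul, ← hm k, Module.Basis.coord_apply]
  obtain ⟨a', ha'⟩ := (∑ k, m k • c k).2
  refine ⟨a', ?_⟩
  have h3 : ((nr a : N) : A) = (Nat.card H : ℤ) • ((∑ k, m k • c k : N) : A) := by
    rw [h1]; rfl
  have h2 : (Nat.card H : ℤ) • a = (Nat.card H : ℤ) • nrm ρ H a' := by
    rw [← nrm_of_mem_inv ρ H ha, ha']
    exact h3
  have hcard : (Nat.card H : ℤ) ≠ 0 := by
    exact_mod_cast Nat.card_pos.ne'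
  exact (smul_right_injective _ hcard) h2

theorem isFlasque_quot :
    IsFlasque ((perm (G := G) (X ρ)).quotient (LinearMap.range (emb ρ)) (range_emb_stable ρ)) := by
  refine isFlasque_of_quotient (ρA := ρ) (ρB := perm (G := G) (X ρ)) (i := emb ρ)
    (π := (LinearMap.range (emb ρ)).mkQ) (emb_equivariant ρ) ?_ (Submodule.mkQ_surjective _)
    (Submodule.ker_mkQ _).symm isFlasque_perm ?_
  · intro g m
    rfl
  · intro H a p hp
    have ha : a ∈ inv ρ H := by
      intro h
      apply emb_injective ρ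
      rw [emb_equivariant ρ, ← hp, smul_nrm]
    obtain ⟨a', rfl⟩ := mem_range_nrm_of_dvd ρ H a ha (by
      intro φ hφ
      obtain ⟨q, hq, rfl⟩ := cover_surjective_inv ρ.dual H φ hφ
      rw [← bil_emb, ← hp]
      letI : Fintype H := Fintype.ofFinite H
      rw [nrm_apply', map_sum]
      have : ∀ h : H, bil (X ρ) q (perm (G := G) (X ρ) (h : G) p) = bil (X ρ) q p := by
        intro h
        conv_lhs => rw [← hq h]
        exact bil_perm _ _ _
      simp only [this, Finset.sum_const, Finset.card_univ, Nat.card_eq_fintype_card, nsmul_eq_mul]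
      exact dvd_mul_right _ _)
    exact ⟨a', rfl⟩

theorem exists_flasque_resolution :
    ∃ (P : Type) (_ : AddCommGroup P) (F : Type) (_ : AddCommGroup F)
      (_ : Module.Finite ℤ P) (_ : Module.Free ℤ P) (_ : Module.Finite ℤ F) (_ : Module.Free ℤ F)
      (σ : Representation ℤ G P) (τ : Representation ℤ G F) (i : A →ₗ[ℤ] P) (π : P →ₗ[ℤ] F),
      GLat.IsEquivariant ρ σ i ∧ GLat.IsEquivariant σ τ π ∧ Function.Injective i ∧ Function.Surjective π ∧
      LinearMap.range i = LinearMap.ker π ∧ GLat.IsPermutation σ ∧ GLat.IsFlasque τ := by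
  refine ⟨(X ρ →₀ ℤ), inferInstance, (X ρ →₀ ℤ) ⧸ LinearMap.range (emb ρ), inferInstance,
    inferInstance, inferInstance, inferInstance, free_quot ρ,
    perm (G := G) (X ρ),
    (perm (G := G) (X ρ)).quotient (LinearMap.range (emb ρ)) (range_emb_stable ρ),
    emb ρ, (LinearMap.range (emb ρ)).mkQ, emb_equivariant ρ, ?_, emb_injective ρ,
    Submodule.mkQ_surjective _, (Submodule.ker_mkQ _).symm, isPermutation_perm (X ρ),
    isFlasque_quot ρ⟩
  intro g m
  rfl

end emb

end Groth.Agent.Lib.Seat91.GLatDual
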