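import Groth.Agent.Lib.Seat91GLatCover

/-!
# Extensions of (co)flasque modules (seat 91)

Namespace `Groth.Agent.Lib.Seat91.GLatExt`.

* `nrm ρ H`: the norm map `∑_{h ∈ H} ρ h` (finite `G`), `aug ρ H`: the augmentation submodule;
* `isFlasque_iff`: `IsFlasque ρ ↔ ∀ H m, nrm ρ H m = 0 → m ∈ aug ρ H`;
* `isCoflasque_of_exact`, `isFlasque_of_exact`: an extension of (co)flasque modules is (co)flasque;
* `isFlasque_of_quotient`: a quotient `B/A` of a flasque `B` is flasque if `Ĥ⁰(H,A) → Ĥ⁰(H,B)` is injective;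
* `isTorsionFree_of_exact`: an extension of torsion-free modules is torsion-free.
-/

set_option autoImplicit false
set_option linter.style.haveILetI false
set_option linter.unusedSectionVars false

namespace Groth.Agent.Lib.Seat91.GLatExt

open GLat Groth.Agent.Lib.Seat91.GLatPerm Groth.Agent.Lib.Seat91.GLatCover

section coflasque

variable {G : Type*} [Group G] {A B C : Type*} [AddCommGroup A] [AddCommGroup B] [AddCommGroup C]
  {ρA : Representation ℤ G A} {ρB : Representation ℤ G B} {ρC : Representation ℤ G C}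
  {i : A →ₗ[ℤ] B} {π : B →ₗ[ℤ] C}

/-- an extension of a coflasque module by a coflasque module is coflasque -/
theorem isCoflasque_of_exact (hi : IsEquivariant ρA ρB i) (hπ : IsEquivariant ρB ρC π)
    (hinj : Function.Injective i) (hsurj : Function.Surjective π)
    (hex : LinearMap.range i = LinearMap.ker π)
    (hA : IsCoflasque ρA) (hC : IsCoflasque ρC) : IsCoflasque ρB := by
  intro H f hf
  obtain ⟨p, hp⟩ := hC H (fun a => π (f a)) (fun a b => by rw [hf a b, map_add, hπ])
  obtain ⟨q, rfl⟩ := hsurj p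
  have hker : ∀ a : H, f a - (ρB (a : G) q - q) ∈ LinearMap.range i := by
    intro a
    rw [hex, LinearMap.mem_ker, map_sub, map_sub, hπ, hp a, sub_self]
  choose f'' hf'' using hker
  obtain ⟨m, hm⟩ := hA H f'' (fun a b => by
    apply hinj
    rw [map_add, hi, hf'', hf'', hf'', hf a b, Subgroup.coe_mul, map_mul, Module.End.mul_apply]
    simp only [map_sub]
    abel)
  refine ⟨q + i m, fun a => ?_⟩
  have h1 := hf'' a
  rw [hm a, map_sub, hi] at h1
  have h2 : f a = (ρB (a : G) (i m) - i m) + (ρB (a : G) q - q) := by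
    rw [h1]; abel
  rw [h2, map_add]
  abel

end coflasque

section norm

variable {G : Type*} [Group G] [Finite G] {A B C : Type*} [AddCommGroup A] [AddCommGroup B]
  [AddCommGroup C]

/-- the norm map of a subgroup of a finite group -/
noncomputable def nrm (ρ : Representation ℤ G A) (H : Subgroup G) : A →ₗ[ℤ] A :=
  letI : Fintype H := Fintype.ofFinite H
  ∑ h : H, ρ (h : G)

theorem nrm_apply (ρ : Representation ℤ G A) (H : Subgroup G) (m : A) :
    nrm ρ H m = ∑ᶠ h : H, ρ (h : G) m := by
  letI : Fintype H := Fintype.ofFinite H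
  rw [finsum_eq_sum_of_fintype]
  simp [nrm, LinearMap.sum_apply]

theorem nrm_apply' (ρ : Representation ℤ G A) (H : Subgroup G) [Fintype H] (m : A) :
    nrm ρ H m = ∑ h : H, ρ (h : G) m := by
  rw [nrm_apply, finsum_eq_sum_of_fintype]

/-- the augmentation submodule -/
def aug (ρ : Representation ℤ G A) (H : Subgroup G) : Submodule ℤ A :=
  Submodule.span ℤ {x : A | ∃ (h : H) (y : A), x = ρ (h : G) y - y}

theorem isFlasque_iff (ρ : Representation ℤ G A) :
    IsFlasque ρ ↔ ∀ (H : Subgroup G) (m : A), nrm ρ H m = 0 → m ∈ aug ρ H := by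
  constructor
  · intro h H m hm
    exact h H m (by rw [← nrm_apply]; exact hm)
  · intro h H m hm
    exact h H m (by rw [nrm_apply]; exact hm)

variable {ρA : Representation ℤ G A} {ρB : Representation ℤ G B} {ρC : Representation ℤ G C}
  {i : A →ₗ[ℤ] B} {π : B →ₗ[ℤ] C}

theorem nrm_equivariant (hi : IsEquivariant ρA ρB i) (H : Subgroup G) (a : A) :
    i (nrm ρA H a) = nrm ρB H (i a) := by
  letI : Fintype H := Fintype.ofFinite H
  rw [nrm_apply', nrm_apply', map_sum]
  exact Finset.sum_congr rfl fun h _ => hi _ _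

theorem nrm_smul (ρ : Representation ℤ G A) (H : Subgroup G) (h : H) (a : A) :
    nrm ρ H (ρ (h : G) a) = nrm ρ H a := by
  letI : Fintype H := Fintype.ofFinite H
  rw [nrm_apply', nrm_apply']
  refine Fintype.sum_bijective (· * h) (Group.mulRight_bijective h) _ _ fun x => ?_
  rw [Subgroup.coe_mul, map_mul, Module.End.mul_apply]

theorem smul_nrm (ρ : Representation ℤ G A) (H : Subgroup G) (h : H) (a : A) :
    ρ (h : G) (nrm ρ H a) = nrm ρ H a := by
  letI : Fintype H := Fintype.ofFinite H
  rw [nrm_apply', map_sum]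
  refine Fintype.sum_bijective (h * ·) (Group.mulLeft_bijective h) _ _ fun x => ?_
  rw [Subgroup.coe_mul, map_mul, Module.End.mul_apply]

theorem nrm_mem_inv (ρ : Representation ℤ G A) (H : Subgroup G) (a : A) :
    nrm ρ H a ∈ inv ρ H := fun h => smul_nrm ρ H h a

theorem nrm_of_mem_inv (ρ : Representation ℤ G A) (H : Subgroup G) {a : A} (ha : a ∈ inv ρ H) :
    nrm ρ H a = (Nat.card H : ℤ) • a := by
  letI : Fintype H := Fintype.ofFinite H
  rw [nrm_apply']
  have : ∀ h : H, ρ (h : G) a = a := ha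
  simp only [this, Finset.sum_const, Finset.card_univ, Nat.card_eq_fintype_card]
  rw [natCast_zsmul]

theorem nrm_aug (ρ : Representation ℤ G A) (H : Subgroup G) {x : A} (hx : x ∈ aug ρ H) :
    nrm ρ H x = 0 := by
  induction hx using Submodule.span_induction with
  | mem x hx =>
    obtain ⟨h, y, rfl⟩ := hx
    rw [map_sub, nrm_smul, sub_self]
  | zero => exact map_zero _
  | add x y _ _ hx hy => rw [map_add, hx, hy, add_zero]
  | smul c x _ hx => rw [map_smul, hx, smul_zero]

theorem map_aug (hi : IsEquivariant ρA ρB i) (H : Subgroup G) {x : A} (hx : x ∈ aug ρA H) :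
    i x ∈ aug ρB H := by
  induction hx using Submodule.span_induction with
  | mem x hx =>
    obtain ⟨h, y, rfl⟩ := hx
    rw [map_sub, hi]
    exact Submodule.subset_span ⟨h, i y, rfl⟩
  | zero => rw [map_zero]; exact zero_mem _
  | add x y _ _ hx hy => rw [map_add]; exact add_mem hx hy
  | smul c x _ hx => rw [map_smul]; exact Submodule.smul_mem _ _ hx

theorem exists_aug_lift (hπ : IsEquivariant ρB ρC π) (hsurj : Function.Surjective π)
    (H : Subgroup G) {x : C} (hx : x ∈ aug ρC H) : ∃ y ∈ aug ρB H, π y = x := by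
  induction hx using Submodule.span_induction with
  | mem x hx =>
    obtain ⟨h, y, rfl⟩ := hx
    obtain ⟨z, rfl⟩ := hsurj y
    exact ⟨ρB (h : G) z - z, Submodule.subset_span ⟨h, z, rfl⟩, by rw [map_sub, hπ]⟩
  | zero => exact ⟨0, zero_mem _, map_zero _⟩
  | add x y _ _ hx hy =>
    obtain ⟨x', hx', rfl⟩ := hx
    obtain ⟨y', hy', rfl⟩ := hy
    exact ⟨x' + y', add_mem hx' hy', map_add _ _ _⟩
  | smul c x _ hx =>
    obtain ⟨x', hx', rfl⟩ := hx
    exact ⟨c • x', Submodule.smul_mem _ _ hx', map_smul _ _ _⟩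

/-- an extension of a flasque module by a flasque module is flasque -/
theorem isFlasque_of_exact (hi : IsEquivariant ρA ρB i) (hπ : IsEquivariant ρB ρC π)
    (hinj : Function.Injective i) (hsurj : Function.Surjective π)
    (hex : LinearMap.range i = LinearMap.ker π)
    (hA : IsFlasque ρA) (hC : IsFlasque ρC) : IsFlasque ρB := by
  rw [isFlasque_iff] at hA hC ⊢
  intro H m hm
  have h1 : π m ∈ aug ρC H := hC H (π m) (by rw [← nrm_equivariant hπ, hm, map_zero])
  obtain ⟨y, hy, hy'⟩ := exists_aug_lift hπ hsurj H h1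
  have h2 : m - y ∈ LinearMap.range i := by
    rw [hex, LinearMap.mem_ker, map_sub, hy', sub_self]
  obtain ⟨a, ha⟩ := h2
  have h3 : nrm ρA H a = 0 := hinj (by
    rw [nrm_equivariant hi, ha, map_sub, hm, nrm_aug ρB H hy, sub_zero, map_zero])
  have h4 : a ∈ aug ρA H := hA H a h3
  have h5 : i a ∈ aug ρB H := map_aug hi H h4
  have h6 : m = i a + y := by rw [ha]; abel
  rw [h6]
  exact add_mem h5 hy

/-- a quotient of a flasque module `B` by `A` is flasque as soon as `Ĥ⁰(H, A) → Ĥ⁰(H, B)` is injective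
for all `H` -/
theorem isFlasque_of_quotient (hi : IsEquivariant ρA ρB i) (hπ : IsEquivariant ρB ρC π)
    (hsurj : Function.Surjective π) (hex : LinearMap.range i = LinearMap.ker π)
    (hB : IsFlasque ρB)
    (hH0 : ∀ (H : Subgroup G) (a : A) (p : B), nrm ρB H p = i a → ∃ a' : A, i a = i (nrm ρA H a')) :
    IsFlasque ρC := by
  rw [isFlasque_iff] at hB ⊢
  intro H m hm
  obtain ⟨p, rfl⟩ := hsurj m
  have h1 : nrm ρB H p ∈ LinearMap.range i := by
    rw [hex, LinearMap.mem_ker, nrm_equivariant hπ, hm]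
  obtain ⟨a, ha⟩ := h1
  obtain ⟨a', ha'⟩ := hH0 H a p ha.symm
  have h2 : nrm ρB H (p - i a') = 0 := by
    rw [map_sub, ← nrm_equivariant hi, ← ha', ha, sub_self]
  have h3 := hB H _ h2
  have h4 := map_aug hπ H h3
  have h5 : π (i a') = 0 := by
    have : i a' ∈ LinearMap.ker π := by rw [← hex]; exact ⟨a', rfl⟩
    exact this
  rwa [map_sub, h5, sub_zero] at h4

end norm

section torsion

variable {A B C : Type*} [AddCommGroup A] [AddCommGroup B] [AddCommGroup C]
  {i : A →ₗ[ℤ] B} {π : B →ₗ[ℤ] C}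

/-- an extension of torsion-free abelian groups is torsion-free -/
theorem isTorsionFree_of_exact (hinj : Function.Injective i)
    (hex : LinearMap.range i = LinearMap.ker π)
    [Module.IsTorsionFree ℤ A] [Module.IsTorsionFree ℤ C] : Module.IsTorsionFree ℤ B := by
  apply Module.IsTorsionFree.of_smul_eq_zero
  intro r m hrm
  by_cases hr : r = 0
  · exact Or.inl hr
  right
  have h1 : π m = 0 := by
    have : r • π m = 0 := by rw [← map_smul, hrm, map_zero]
    exact (smul_eq_zero_iff_right hr).1 this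
  have h2 : m ∈ LinearMap.range i := by rw [hex]; exact h1
  obtain ⟨a, rfl⟩ := h2
  have h3 : r • a = 0 := hinj (by rw [map_smul, hrm, map_zero])
  rw [(smul_eq_zero_iff_right hr).1 h3, map_zero]

end torsion

end Groth.Agent.Lib.Seat91.GLatExt
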