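import Groth.Prelude.Def_W4c5flasquetoriphsGLat
import Mathlib.Algebra.Group.Action.Sigma
import Mathlib.GroupTheory.GroupAction.Quotient
import Mathlib.LinearAlgebra.Finsupp.LinearCombination
import Mathlib.LinearAlgebra.Finsupp.VectorSpace
import Mathlib.Tactic

/-!
# Permutation lattices are flasque and coflasque (seat 91)

Namespace `Groth.Agent.Lib.Seat91.GLatPerm`.

* `perm X`: the permutation representation of `G` on `X →₀ ℤ` for a `G`-set `X`.
* `isPermutation_perm`, `isCoflasque_perm`, `isFlasque_perm` (for a finite group).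
-/

set_option autoImplicit false
set_option linter.style.haveILetI false
set_option linter.unusedSimpArgs false

namespace Groth.Agent.Lib.Seat91.GLatPerm

open GLat

variable {G : Type*} [Group G] (X : Type*) [MulAction G X]

/-- the permutation representation on `X →₀ ℤ` -/
noncomputable def perm : Representation ℤ G (X →₀ ℤ) where
  toFun g := Finsupp.lmapDomain ℤ ℤ (fun x => g • x)
  map_one' := by
    ext x : 2
    simp
  map_mul' g h := by
    ext x : 2
    simp [mul_smul]

variable {X}

@[simp]
theorem perm_single (g : G) (x : X) (c : ℤ) :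
    perm (G := G) X g (Finsupp.single x c) = Finsupp.single (g • x) c := by
  simp [perm]

theorem perm_apply (g : G) (f : X →₀ ℤ) (x : X) :
    perm (G := G) X g f x = f (g⁻¹ • x) := by
  have h : perm (G := G) X g f = Finsupp.mapDomain (fun x => g • x) f := rfl
  have hx : x = g • (g⁻¹ • x) := by simp
  rw [h]
  conv_lhs => rw [hx]
  exact Finsupp.mapDomain_apply (MulAction.injective g) f (g⁻¹ • x)

theorem isPermutation_perm (X : Type) [MulAction G X] : IsPermutation (perm (G := G) X) :=
  ⟨X, Finsupp.basisSingleOne, fun g i => ⟨g • i, by simp [Finsupp.basisSingleOne]⟩⟩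

/-- `H¹(H, ℤ[X]) = 0` for every finite subgroup `H`. -/
theorem isCoflasque_perm [Finite G] : IsCoflasque (perm (G := G) X) := by
  classical
  intro H f hf
  letI : Fintype H := Fintype.ofFinite H
  have hne : (Finset.univ : Finset H).Nonempty := ⟨1, Finset.mem_univ _⟩
  let μ : X → ℤ := fun x => Finset.univ.inf' hne (fun b : H => f b x)
  have hcoc : ∀ (a b : H) (x : X), f (a * b) x = f a x + f b ((a : G)⁻¹ • x) := by
    intro a b x
    rw [hf a b, Finsupp.add_apply, perm_apply]
  have hμ : ∀ (a : H) (x : X), μ ((a : G)⁻¹ • x) = μ x - f a x := by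
    intro a x
    apply le_antisymm
    · obtain ⟨c, -, hc⟩ := Finset.exists_mem_eq_inf' hne (fun b : H => f b x)
      have h1 : μ ((a : G)⁻¹ • x) ≤ f (a⁻¹ * c) ((a : G)⁻¹ • x) :=
        Finset.inf'_le _ (Finset.mem_univ _)
      have h2 := hcoc a (a⁻¹ * c) x
      rw [mul_inv_cancel_left] at h2
      have h3 : μ x = f c x := hc
      linarith
    · apply Finset.le_inf'
      intro b _
      have h1 : μ x ≤ f (a * b) x := Finset.inf'_le _ (Finset.mem_univ _)
      have h2 := hcoc a b x
      linarith
  let S : Finset X := Finset.univ.biUnion (fun b : H => (f b).support)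
  have hS : ∀ x, -μ x ≠ 0 → x ∈ S := by
    intro x hx
    by_contra hxS
    apply hx
    have h0 : ∀ b : H, f b x = 0 := by
      intro b
      by_contra hb
      exact hxS (Finset.mem_biUnion.2 ⟨b, Finset.mem_univ _, Finsupp.mem_support_iff.2 hb⟩)
    have : μ x = 0 := by
      obtain ⟨c, -, hc⟩ := Finset.exists_mem_eq_inf' hne (fun b : H => f b x)
      show Finset.univ.inf' hne (fun b : H => f b x) = 0
      rw [hc]
      exact h0 c
    rw [this, neg_zero]
  refine ⟨Finsupp.onFinset S (fun x => -μ x) hS, fun a => ?_⟩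
  ext x
  rw [Finsupp.sub_apply, perm_apply, Finsupp.onFinset_apply, Finsupp.onFinset_apply, hμ a x]
  ring

/-- `Ĥ⁻¹(H, ℤ[X]) = 0` for every finite subgroup `H`. -/
theorem isFlasque_perm [Finite G] : IsFlasque (perm (G := G) X) := by
  classical
  intro H m hm
  letI : Fintype H := Fintype.ofFinite H
  let q : X → MulAction.orbitRel.Quotient H X := Quotient.mk''
  let π : (X →₀ ℤ) →ₗ[ℤ] (MulAction.orbitRel.Quotient H X →₀ ℤ) := Finsupp.lmapDomain ℤ ℤ q
  have hπ : ∀ (h : H) (f : X →₀ ℤ), π (perm (G := G) X (h : G) f) = π f := by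
    intro h f
    show Finsupp.mapDomain q (Finsupp.mapDomain (fun x => (h : G) • x) f) = Finsupp.mapDomain q f
    rw [← Finsupp.mapDomain_comp]
    congr 1
    funext x
    exact Quotient.sound' ⟨h, rfl⟩
  have h0 : π m = 0 := by
    have h1 : π (∑ᶠ h : H, perm (G := G) X (h : G) m) = 0 := by rw [hm, map_zero]
    rw [finsum_eq_sum_of_fintype, map_sum] at h1
    simp only [hπ] at h1
    rw [Finset.sum_const, Finset.card_univ] at h1
    have hc : Fintype.card H ≠ 0 := Fintype.card_ne_zero
    ext z
    have h2 := DFunLike.congr_fun h1 z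
    simp only [Finsupp.smul_apply, Finsupp.zero_apply, smul_eq_mul, nsmul_eq_mul] at h2
    rcases mul_eq_zero.1 h2 with h3 | h3
    · exact absurd (by exact_mod_cast h3) hc
    · simpa using h3
  let r : X → X := fun x => Quotient.out (q x)
  have hr : ∀ x, ∃ h : H, (h : G) • r x = x := by
    intro x
    have h1 : q (r x) = q x := Quotient.out_eq _
    have h2 := Quotient.exact' h1
    obtain ⟨h, hh⟩ := h2
    refine ⟨h⁻¹, ?_⟩
    have h3 : (h : G) • x = r x := hh
    rw [← h3, Subgroup.coe_inv, inv_smul_smul]
  have hmr : Finsupp.mapDomain r m = 0 := by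
    show Finsupp.mapDomain (Quotient.out ∘ q) m = 0
    rw [Finsupp.mapDomain_comp]
    show Finsupp.mapDomain Quotient.out (π m) = 0
    rw [h0, Finsupp.mapDomain_zero]
  have hdec : m = m.sum (fun x c => c • (Finsupp.single x (1 : ℤ) - Finsupp.single (r x) 1)) := by
    have h1 : m.sum (fun x c => c • (Finsupp.single x (1 : ℤ) - Finsupp.single (r x) 1)) =
        m.sum (fun x c => Finsupp.single x c) - m.sum (fun x c => Finsupp.single (r x) c) := by
      rw [← Finsupp.sum_sub]
      congr 1
      funext x c
      rw [smul_sub, Finsupp.smul_single, Finsupp.smul_single, smul_eq_mul, mul_one]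
    rw [h1, Finsupp.sum_single]
    show m = m - Finsupp.mapDomain r m
    rw [hmr, sub_zero]
  rw [hdec]
  apply Submodule.sum_mem
  intro x _
  apply Submodule.smul_mem
  apply Submodule.subset_span
  obtain ⟨h, hh⟩ := hr x
  exact ⟨h, Finsupp.single (r x) 1, by rw [perm_single, hh]⟩

end Groth.Agent.Lib.Seat91.GLatPerm
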