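import Groth.Agent.Lib.Seat91GLatDual

/-!
# Pullbacks and pushouts of `G`-modules; coflasque resolutions and flasque covers (seat 91)

Namespace `Groth.Agent.Lib.Seat91.GLatSquare`.

* `pb π₁ π₂`: the pullback `P₁ ×_F P₂` as a submodule of `P₁ × P₂`, with its two short exact sequences;
* `po ι j`: the submodule `{(ι k, -j k)}` of `P₁ × P₂` whose quotient is the pushout, with its two
  short exact sequences;
* `exists_coflasque_resolution` (= the statement of S18687);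
* `exists_flasque_cover` (= the statement of S18685).
-/

set_option autoImplicit false
set_option linter.style.haveILetI false
set_option linter.unusedSectionVars false

namespace Groth.Agent.Lib.Seat91.GLatSquare

open GLat Groth.Agent.Lib.Seat91.GLatPerm Groth.Agent.Lib.Seat91.GLatCover
  Groth.Agent.Lib.Seat91.GLatExt Groth.Agent.Lib.Seat91.GLatDual

section pullback

variable {G : Type*} [Group G] {P₁ P₂ F : Type*} [AddCommGroup P₁] [AddCommGroup P₂]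
  [AddCommGroup F] {σ₁ : Representation ℤ G P₁} {σ₂ : Representation ℤ G P₂}
  {τ : Representation ℤ G F} (π₁ : P₁ →ₗ[ℤ] F) (π₂ : P₂ →ₗ[ℤ] F)

/-- the pullback as a submodule of the product -/
def pb : Submodule ℤ (P₁ × P₂) :=
  LinearMap.ker (π₁ ∘ₗ LinearMap.fst ℤ P₁ P₂ - π₂ ∘ₗ LinearMap.snd ℤ P₁ P₂)

variable {π₁ π₂}

theorem mem_pb {x : P₁ × P₂} : x ∈ pb π₁ π₂ ↔ π₁ x.1 = π₂ x.2 := by
  simp [pb, sub_eq_zero]

theorem pb_stable (h₁ : IsEquivariant σ₁ τ π₁) (h₂ : IsEquivariant σ₂ τ π₂) :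
    ∀ g, ∀ x ∈ pb π₁ π₂, (σ₁.prod σ₂) g x ∈ pb π₁ π₂ := by
  intro g x hx
  rw [mem_pb] at hx ⊢
  simp only [Representation.prod_apply_apply]
  rw [h₁, h₂, hx]

/-- the representation on the pullback -/
noncomputable def pbRep (h₁ : IsEquivariant σ₁ τ π₁) (h₂ : IsEquivariant σ₂ τ π₂) :
    Representation ℤ G (pb π₁ π₂) :=
  subRep (σ₁.prod σ₂) (pb π₁ π₂) (pb_stable h₁ h₂)

/-- second projection from the pullback -/
def pbSnd (π₁ : P₁ →ₗ[ℤ] F) (π₂ : P₂ →ₗ[ℤ] F) : pb π₁ π₂ →ₗ[ℤ] P₂ :=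
  LinearMap.snd ℤ P₁ P₂ ∘ₗ (pb π₁ π₂).subtype

/-- first projection from the pullback -/
def pbFst (π₁ : P₁ →ₗ[ℤ] F) (π₂ : P₂ →ₗ[ℤ] F) : pb π₁ π₂ →ₗ[ℤ] P₁ :=
  LinearMap.fst ℤ P₁ P₂ ∘ₗ (pb π₁ π₂).subtype

theorem pbSnd_equivariant (h₁ : IsEquivariant σ₁ τ π₁) (h₂ : IsEquivariant σ₂ τ π₂) :
    IsEquivariant (pbRep h₁ h₂) σ₂ (pbSnd π₁ π₂) := fun _ _ => rfl

theorem pbFst_equivariant (h₁ : IsEquivariant σ₁ τ π₁) (h₂ : IsEquivariant σ₂ τ π₂) :
    IsEquivariant (pbRep h₁ h₂) σ₁ (pbFst π₁ π₂) := fun _ _ => rfl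

theorem pbSnd_surjective (hs : Function.Surjective π₁) : Function.Surjective (pbSnd π₁ π₂) := by
  intro p₂
  obtain ⟨p₁, hp₁⟩ := hs (π₂ p₂)
  exact ⟨⟨(p₁, p₂), mem_pb.2 hp₁⟩, rfl⟩

theorem pbFst_surjective (hs : Function.Surjective π₂) : Function.Surjective (pbFst π₁ π₂) := by
  intro p₁
  obtain ⟨p₂, hp₂⟩ := hs (π₁ p₁)
  exact ⟨⟨(p₁, p₂), mem_pb.2 hp₂.symm⟩, rfl⟩

variable {A : Type*} [AddCommGroup A] {ρ : Representation ℤ G A}

/-- the inclusion of `ker π₁` (parametrised by `i : A → P₁`) into the pullback -/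
def pbInl (π₂ : P₂ →ₗ[ℤ] F) (i : A →ₗ[ℤ] P₁) (hi : LinearMap.range i = LinearMap.ker π₁) :
    A →ₗ[ℤ] pb π₁ π₂ :=
  LinearMap.codRestrict (pb π₁ π₂) (LinearMap.inl ℤ P₁ P₂ ∘ₗ i) (fun a => by
    rw [mem_pb]
    have : i a ∈ LinearMap.ker π₁ := by rw [← hi]; exact ⟨a, rfl⟩
    simpa using this)

/-- the inclusion of `ker π₂` (parametrised by `i : A → P₂`) into the pullback -/
def pbInr (π₁ : P₁ →ₗ[ℤ] F) (i : A →ₗ[ℤ] P₂) (hi : LinearMap.range i = LinearMap.ker π₂) :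
    A →ₗ[ℤ] pb π₁ π₂ :=
  LinearMap.codRestrict (pb π₁ π₂) (LinearMap.inr ℤ P₁ P₂ ∘ₗ i) (fun a => by
    rw [mem_pb]
    have : i a ∈ LinearMap.ker π₂ := by rw [← hi]; exact ⟨a, rfl⟩
    have h0 : π₂ (i a) = 0 := this
    simp [h0])

theorem pbInl_equivariant (h₁ : IsEquivariant σ₁ τ π₁) (h₂ : IsEquivariant σ₂ τ π₂)
    (i : A →ₗ[ℤ] P₁) (hi : LinearMap.range i = LinearMap.ker π₁) (hie : IsEquivariant ρ σ₁ i) :
    IsEquivariant ρ (pbRep h₁ h₂) (pbInl π₂ i hi) := by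
  intro g a
  apply Subtype.ext
  show (i (ρ g a), (0 : P₂)) = ((σ₁ g) (i a), (σ₂ g) 0)
  rw [hie, map_zero]

theorem pbInr_equivariant (h₁ : IsEquivariant σ₁ τ π₁) (h₂ : IsEquivariant σ₂ τ π₂)
    (i : A →ₗ[ℤ] P₂) (hi : LinearMap.range i = LinearMap.ker π₂) (hie : IsEquivariant ρ σ₂ i) :
    IsEquivariant ρ (pbRep h₁ h₂) (pbInr π₁ i hi) := by
  intro g a
  apply Subtype.ext
  show ((0 : P₁), i (ρ g a)) = ((σ₁ g) 0, (σ₂ g) (i a))
  rw [hie, map_zero]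

theorem pbInl_injective (i : A →ₗ[ℤ] P₁) (hi : LinearMap.range i = LinearMap.ker π₁)
    (hinj : Function.Injective i) : Function.Injective (pbInl π₂ i hi) := by
  intro a b hab
  apply hinj
  have := congrArg (fun x : pb π₁ π₂ => (x : P₁ × P₂).1) hab
  exact this

theorem pbInr_injective (i : A →ₗ[ℤ] P₂) (hi : LinearMap.range i = LinearMap.ker π₂)
    (hinj : Function.Injective i) : Function.Injective (pbInr π₁ i hi) := by
  intro a b hab
  apply hinj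
  have := congrArg (fun x : pb π₁ π₂ => (x : P₁ × P₂).2) hab
  exact this

theorem pbInl_exact (i : A →ₗ[ℤ] P₁) (hi : LinearMap.range i = LinearMap.ker π₁) :
    LinearMap.range (pbInl π₂ i hi) = LinearMap.ker (pbSnd π₁ π₂) := by
  ext x
  constructor
  · rintro ⟨a, rfl⟩
    rfl
  · intro hx
    obtain ⟨⟨p₁, p₂⟩, hp⟩ := x
    have h2 : p₂ = 0 := hx
    subst h2
    rw [mem_pb] at hp
    have h1 : p₁ ∈ LinearMap.range i := by
      rw [hi, LinearMap.mem_ker]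
      simpa using hp
    obtain ⟨a, rfl⟩ := h1
    exact ⟨a, rfl⟩

theorem pbInr_exact (i : A →ₗ[ℤ] P₂) (hi : LinearMap.range i = LinearMap.ker π₂) :
    LinearMap.range (pbInr π₁ i hi) = LinearMap.ker (pbFst π₁ π₂) := by
  ext x
  constructor
  · rintro ⟨a, rfl⟩
    rfl
  · intro hx
    obtain ⟨⟨p₁, p₂⟩, hp⟩ := x
    have h2 : p₁ = 0 := hx
    subst h2
    rw [mem_pb] at hp
    have h1 : p₂ ∈ LinearMap.range i := by
      rw [hi, LinearMap.mem_ker]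
      simpa using hp.symm
    obtain ⟨a, rfl⟩ := h1
    exact ⟨a, rfl⟩

end pullback

section pushout

variable {G : Type*} [Group G] {K P₁ P₂ : Type*} [AddCommGroup K] [AddCommGroup P₁]
  [AddCommGroup P₂] {ρK : Representation ℤ G K} {σ₁ : Representation ℤ G P₁}
  {σ₂ : Representation ℤ G P₂} (ι : K →ₗ[ℤ] P₁) (j : K →ₗ[ℤ] P₂)

/-- the antidiagonal image of `K` in `P₁ × P₂`; the pushout is the quotient by it -/
def po : Submodule ℤ (P₁ × P₂) := LinearMap.range (ι.prod (-j))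

variable {ι j}

theorem mem_po {x : P₁ × P₂} : x ∈ po ι j ↔ ∃ k : K, ι k = x.1 ∧ -j k = x.2 := by
  constructor
  · rintro ⟨k, rfl⟩
    exact ⟨k, rfl, rfl⟩
  · rintro ⟨k, h1, h2⟩
    exact ⟨k, Prod.ext h1 h2⟩

theorem po_stable (hι : IsEquivariant ρK σ₁ ι) (hj : IsEquivariant ρK σ₂ j) :
    ∀ g, po ι j ≤ (po ι j).comap ((σ₁.prod σ₂) g) := by
  intro g x hx
  rw [Submodule.mem_comap, mem_po]
  rw [mem_po] at hx
  obtain ⟨k, h1, h2⟩ := hx
  refine ⟨ρK g k, ?_, ?_⟩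
  · rw [hι, h1]; rfl
  · rw [hj, ← map_neg, h2]; rfl

/-- the representation on the pushout -/
noncomputable def poRep (hι : IsEquivariant ρK σ₁ ι) (hj : IsEquivariant ρK σ₂ j) :
    Representation ℤ G ((P₁ × P₂) ⧸ po ι j) :=
  (σ₁.prod σ₂).quotient (po ι j) (po_stable hι hj)

/-- `P₁ → pushout` -/
def poInl (ι : K →ₗ[ℤ] P₁) (j : K →ₗ[ℤ] P₂) : P₁ →ₗ[ℤ] (P₁ × P₂) ⧸ po ι j :=
  (po ι j).mkQ ∘ₗ LinearMap.inl ℤ P₁ P₂

/-- `P₂ → pushout` -/
def poInr (ι : K →ₗ[ℤ] P₁) (j : K →ₗ[ℤ] P₂) : P₂ →ₗ[ℤ] (P₁ × P₂) ⧸ po ι j :=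
  (po ι j).mkQ ∘ₗ LinearMap.inr ℤ P₁ P₂

theorem poInl_equivariant (hι : IsEquivariant ρK σ₁ ι) (hj : IsEquivariant ρK σ₂ j) :
    IsEquivariant σ₁ (poRep hι hj) (poInl ι j) := by
  intro g p
  show (po ι j).mkQ (σ₁ g p, 0) = (po ι j).mkQ ((σ₁ g) p, (σ₂ g) 0)
  rw [map_zero]

theorem poInr_equivariant (hι : IsEquivariant ρK σ₁ ι) (hj : IsEquivariant ρK σ₂ j) :
    IsEquivariant σ₂ (poRep hι hj) (poInr ι j) := by
  intro g p
  show (po ι j).mkQ (0, σ₂ g p) = (po ι j).mkQ ((σ₁ g) 0, (σ₂ g) p)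
  rw [map_zero]

theorem poInl_injective (hj : Function.Injective j) : Function.Injective (poInl ι j) := by
  rw [← LinearMap.ker_eq_bot, LinearMap.ker_eq_bot']
  intro p hp
  have h1 : ((p, 0) : P₁ × P₂) ∈ po ι j := (Submodule.Quotient.mk_eq_zero _).1 hp
  rw [mem_po] at h1
  obtain ⟨k, h1, h2⟩ := h1
  have h3 : j k = 0 := by simpa using h2
  have h4 : k = 0 := hj (by rw [h3, map_zero])
  have h5 : ι k = p := h1
  rw [← h5, h4, map_zero]

theorem poInr_injective (hι : Function.Injective ι) : Function.Injective (poInr ι j) := by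
  rw [← LinearMap.ker_eq_bot, LinearMap.ker_eq_bot']
  intro p hp
  have h1 : ((0, p) : P₁ × P₂) ∈ po ι j := (Submodule.Quotient.mk_eq_zero _).1 hp
  rw [mem_po] at h1
  obtain ⟨k, h1, h2⟩ := h1
  have h4 : k = 0 := hι (by rw [h1, map_zero])
  have h5 : -j k = p := h2
  rw [← h5, h4, map_zero, neg_zero]

variable {A : Type*} [AddCommGroup A] {ρ : Representation ℤ G A}

/-- `pushout → coker ι`, parametrised by `π₁ : P₁ → A` -/
def poPr₁ (j : K →ₗ[ℤ] P₂) (π₁ : P₁ →ₗ[ℤ] A) (h : LinearMap.range ι = LinearMap.ker π₁) :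
    ((P₁ × P₂) ⧸ po ι j) →ₗ[ℤ] A :=
  (po ι j).liftQ (π₁ ∘ₗ LinearMap.fst ℤ P₁ P₂) (by
    intro x hx
    rw [mem_po] at hx
    obtain ⟨k, h1, -⟩ := hx
    have : ι k ∈ LinearMap.ker π₁ := by rw [← h]; exact ⟨k, rfl⟩
    rw [LinearMap.mem_ker, LinearMap.comp_apply, LinearMap.fst_apply, ← h1]
    exact this)

/-- `pushout → coker j`, parametrised by `π₂ : P₂ → A` -/
def poPr₂ (ι : K →ₗ[ℤ] P₁) (π₂ : P₂ →ₗ[ℤ] A) (h : LinearMap.range j = LinearMap.ker π₂) :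
    ((P₁ × P₂) ⧸ po ι j) →ₗ[ℤ] A :=
  (po ι j).liftQ (π₂ ∘ₗ LinearMap.snd ℤ P₁ P₂) (by
    intro x hx
    rw [mem_po] at hx
    obtain ⟨k, -, h2⟩ := hx
    have : j k ∈ LinearMap.ker π₂ := by rw [← h]; exact ⟨k, rfl⟩
    rw [LinearMap.mem_ker, LinearMap.comp_apply, LinearMap.snd_apply, ← h2, map_neg]
    rw [LinearMap.mem_ker] at this
    rw [this, neg_zero])

theorem poPr₁_mk (π₁ : P₁ →ₗ[ℤ] A) (h : LinearMap.range ι = LinearMap.ker π₁) (x : P₁ × P₂) :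
    poPr₁ j π₁ h ((po ι j).mkQ x) = π₁ x.1 := rfl

theorem poPr₂_mk (π₂ : P₂ →ₗ[ℤ] A) (h : LinearMap.range j = LinearMap.ker π₂) (x : P₁ × P₂) :
    poPr₂ ι π₂ h ((po ι j).mkQ x) = π₂ x.2 := rfl

theorem poPr₁_equivariant (hι : IsEquivariant ρK σ₁ ι) (hj : IsEquivariant ρK σ₂ j)
    (π₁ : P₁ →ₗ[ℤ] A) (h : LinearMap.range ι = LinearMap.ker π₁) (hπ : IsEquivariant σ₁ ρ π₁) :
    IsEquivariant (poRep hι hj) ρ (poPr₁ j π₁ h) := by
  intro g m
  obtain ⟨x, rfl⟩ := Submodule.mkQ_surjective _ m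
  show π₁ ((σ₁ g) x.1) = ρ g (π₁ x.1)
  exact hπ g x.1

theorem poPr₂_equivariant (hι : IsEquivariant ρK σ₁ ι) (hj : IsEquivariant ρK σ₂ j)
    (π₂ : P₂ →ₗ[ℤ] A) (h : LinearMap.range j = LinearMap.ker π₂) (hπ : IsEquivariant σ₂ ρ π₂) :
    IsEquivariant (poRep hι hj) ρ (poPr₂ ι π₂ h) := by
  intro g m
  obtain ⟨x, rfl⟩ := Submodule.mkQ_surjective _ m
  show π₂ ((σ₂ g) x.2) = ρ g (π₂ x.2)
  exact hπ g x.2

theorem poPr₁_surjective (π₁ : P₁ →ₗ[ℤ] A) (h : LinearMap.range ι = LinearMap.ker π₁)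
    (hs : Function.Surjective π₁) : Function.Surjective (poPr₁ j π₁ h) := by
  intro a
  obtain ⟨p, rfl⟩ := hs a
  exact ⟨(po ι j).mkQ (p, 0), rfl⟩

theorem poPr₂_surjective (π₂ : P₂ →ₗ[ℤ] A) (h : LinearMap.range j = LinearMap.ker π₂)
    (hs : Function.Surjective π₂) : Function.Surjective (poPr₂ ι π₂ h) := by
  intro a
  obtain ⟨p, rfl⟩ := hs a
  exact ⟨(po ι j).mkQ (0, p), rfl⟩

/-- `0 → P₂ → pushout → coker ι → 0` is exact in the middle -/
theorem poInr_exact (π₁ : P₁ →ₗ[ℤ] A) (h : LinearMap.range ι = LinearMap.ker π₁) :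
    LinearMap.range (poInr ι j) = LinearMap.ker (poPr₁ j π₁ h) := by
  ext m
  constructor
  · rintro ⟨p, rfl⟩
    show π₁ 0 = 0
    exact map_zero _
  · intro hm
    obtain ⟨⟨p₁, p₂⟩, rfl⟩ := Submodule.mkQ_surjective _ m
    have h1 : π₁ p₁ = 0 := hm
    have h2 : p₁ ∈ LinearMap.range ι := by rw [h]; exact h1
    obtain ⟨k, rfl⟩ := h2
    refine ⟨p₂ + j k, ?_⟩
    show (po ι j).mkQ (0, p₂ + j k) = (po ι j).mkQ (ι k, p₂)
    rw [eq_comm, ← sub_eq_zero, ← map_sub, Submodule.mkQ_apply, Submodule.Quotient.mk_eq_zero,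
      mem_po]
    exact ⟨k, by simp, by simp⟩

/-- `0 → P₁ → pushout → coker j → 0` is exact in the middle -/
theorem poInl_exact (π₂ : P₂ →ₗ[ℤ] A) (h : LinearMap.range j = LinearMap.ker π₂) :
    LinearMap.range (poInl ι j) = LinearMap.ker (poPr₂ ι π₂ h) := by
  ext m
  constructor
  · rintro ⟨p, rfl⟩
    show π₂ 0 = 0
    exact map_zero _
  · intro hm
    obtain ⟨⟨p₁, p₂⟩, rfl⟩ := Submodule.mkQ_surjective _ m
    have h1 : π₂ p₂ = 0 := hm
    have h2 : p₂ ∈ LinearMap.range j := by rw [h]; exact h1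
    obtain ⟨k, rfl⟩ := h2
    refine ⟨p₁ + ι k, ?_⟩
    show (po ι j).mkQ (p₁ + ι k, 0) = (po ι j).mkQ (p₁, j k)
    rw [← sub_eq_zero, ← map_sub, Submodule.mkQ_apply, Submodule.Quotient.mk_eq_zero, mem_po]
    exact ⟨k, by simp, by simp⟩

end pushout

section final

variable {G : Type} [Group G] [Finite G] {A : Type} [AddCommGroup A] [Module.Finite ℤ A]
  (ρ : Representation ℤ G A)

/-- coflasque resolution `0 → A → Q → P → 0` of a lattice -/
theorem exists_coflasque_resolution [Module.Free ℤ A] :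
    ∃ (Q : Type) (_ : AddCommGroup Q) (P : Type) (_ : AddCommGroup P)
      (_ : Module.Finite ℤ Q) (_ : Module.Free ℤ Q) (_ : Module.Finite ℤ P) (_ : Module.Free ℤ P)
      (σ : Representation ℤ G Q) (τ : Representation ℤ G P) (i : A →ₗ[ℤ] Q) (π : Q →ₗ[ℤ] P),
      GLat.IsEquivariant ρ σ i ∧ GLat.IsEquivariant σ τ π ∧ Function.Injective i ∧ Function.Surjective π ∧
      LinearMap.range i = LinearMap.ker π ∧ GLat.IsCoflasque σ ∧ GLat.IsPermutation τ := by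
  -- the embedding `A → P₁` into a permutation lattice with cokernel `F`
  let P₁ := X ρ →₀ ℤ
  let σ₁ : Representation ℤ G P₁ := perm (G := G) (X ρ)
  let R : Submodule ℤ P₁ := LinearMap.range (emb ρ)
  let τ : Representation ℤ G (P₁ ⧸ R) := σ₁.quotient R (range_emb_stable ρ)
  let π₁ : P₁ →ₗ[ℤ] (P₁ ⧸ R) := R.mkQ
  have hπ₁ : IsEquivariant σ₁ τ π₁ := fun _ _ => rfl
  have hex₁ : LinearMap.range (emb ρ) = LinearMap.ker π₁ := (Submodule.ker_mkQ _).symm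
  -- the coflasque cover of `F`
  let P₂ := Idx τ →₀ ℤ
  let σ₂ : Representation ℤ G P₂ := perm (G := G) (Idx τ)
  let π₂ : P₂ →ₗ[ℤ] (P₁ ⧸ R) := cover τ
  have hπ₂ : IsEquivariant σ₂ τ π₂ := cover_equivariant τ
  let K₂ : Submodule ℤ P₂ := LinearMap.ker π₂
  let ρK₂ : Representation ℤ G K₂ := subRep σ₂ K₂ (ker_stable hπ₂)
  have hK₂ : IsCoflasque ρK₂ := isCoflasque_ker hπ₂ isCoflasque_perm (cover_surjective_inv τ)
  have hex₂ : LinearMap.range K₂.subtype = LinearMap.ker π₂ := Submodule.range_subtype _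
  haveI : IsNoetherian ℤ (P₁ × P₂) := isNoetherian_of_isNoetherianRing_of_finite ℤ _
  refine ⟨pb π₁ π₂, inferInstance, P₂, inferInstance, inferInstance, inferInstance, inferInstance,
    inferInstance, pbRep hπ₁ hπ₂, σ₂, pbInl π₂ (emb ρ) hex₁, pbSnd π₁ π₂,
    pbInl_equivariant hπ₁ hπ₂ (emb ρ) hex₁ (emb_equivariant ρ), pbSnd_equivariant hπ₁ hπ₂,
    pbInl_injective (emb ρ) hex₁ (emb_injective ρ), pbSnd_surjective (Submodule.mkQ_surjective _),
    pbInl_exact (emb ρ) hex₁, ?_, isPermutation_perm (Idx τ)⟩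
  exact isCoflasque_of_exact (ρA := ρK₂) (ρC := σ₁)
    (pbInr_equivariant hπ₁ hπ₂ K₂.subtype hex₂ (fun _ _ => rfl)) (pbFst_equivariant hπ₁ hπ₂)
    (pbInr_injective K₂.subtype hex₂ Subtype.val_injective) (pbFst_surjective (cover_surjective τ))
    (pbInr_exact K₂.subtype hex₂) hK₂ isCoflasque_perm

/-- flasque cover `0 → P → F → A → 0` of a finitely generated `G`-module -/
theorem exists_flasque_cover :
    ∃ (P : Type) (_ : AddCommGroup P) (F : Type) (_ : AddCommGroup F)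
      (_ : Module.Finite ℤ P) (_ : Module.Free ℤ P) (_ : Module.Finite ℤ F) (_ : Module.Free ℤ F)
      (σ : Representation ℤ G P) (τ : Representation ℤ G F) (i : P →ₗ[ℤ] F) (π : F →ₗ[ℤ] A),
      GLat.IsEquivariant σ τ i ∧ GLat.IsEquivariant τ ρ π ∧ Function.Injective i ∧ Function.Surjective π ∧
      LinearMap.range i = LinearMap.ker π ∧ GLat.IsPermutation σ ∧ GLat.IsFlasque τ := by
  -- the permutation cover of `A` with kernel `K`
  let P₁ := Idx ρ →₀ ℤ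
  let σ₁ : Representation ℤ G P₁ := perm (G := G) (Idx ρ)
  let π₁ : P₁ →ₗ[ℤ] A := cover ρ
  have hπ₁ : IsEquivariant σ₁ ρ π₁ := cover_equivariant ρ
  haveI : IsNoetherian ℤ P₁ := isNoetherian_of_isNoetherianRing_of_finite ℤ _
  let K : Submodule ℤ P₁ := LinearMap.ker π₁
  let ρK : Representation ℤ G K := subRep σ₁ K (ker_stable hπ₁)
  let ι : K →ₗ[ℤ] P₁ := K.subtype
  have hι : IsEquivariant ρK σ₁ ι := fun _ _ => rfl
  have hex₁ : LinearMap.range ι = LinearMap.ker π₁ := Submodule.range_subtype _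
  -- the flasque resolution of `K`
  let P₂ := X ρK →₀ ℤ
  let σ₂ : Representation ℤ G P₂ := perm (G := G) (X ρK)
  let j : K →ₗ[ℤ] P₂ := emb ρK
  have hj : IsEquivariant ρK σ₂ j := emb_equivariant ρK
  let R : Submodule ℤ P₂ := LinearMap.range j
  let τ₂ : Representation ℤ G (P₂ ⧸ R) := σ₂.quotient R (range_emb_stable ρK)
  let π₂ : P₂ →ₗ[ℤ] (P₂ ⧸ R) := R.mkQ
  have hπ₂ : IsEquivariant σ₂ τ₂ π₂ := fun _ _ => rfl
  have hex₂ : LinearMap.range j = LinearMap.ker π₂ := (Submodule.ker_mkQ _).symm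
  have hτ₂ : IsFlasque τ₂ := isFlasque_quot ρK
  haveI : Module.IsTorsionFree ℤ (P₂ ⧸ R) := isTorsionFree_quot ρK
  -- the pushout
  haveI : Module.IsTorsionFree ℤ ((P₁ × P₂) ⧸ po ι j) :=
    isTorsionFree_of_exact (i := poInl ι j) (π := poPr₂ ι π₂ hex₂)
      (poInl_injective (emb_injective ρK)) (poInl_exact π₂ hex₂)
  refine ⟨P₂, inferInstance, (P₁ × P₂) ⧸ po ι j, inferInstance, inferInstance, inferInstance,
    inferInstance, inferInstance, σ₂, poRep hι hj, poInr ι j, poPr₁ j π₁ hex₁,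
    poInr_equivariant hι hj, poPr₁_equivariant hι hj π₁ hex₁ hπ₁,
    poInr_injective Subtype.val_injective, poPr₁_surjective π₁ hex₁ (cover_surjective ρ),
    poInr_exact π₁ hex₁, isPermutation_perm (X ρK), ?_⟩
  exact isFlasque_of_exact (ρA := σ₁) (ρC := τ₂)
    (poInl_equivariant hι hj) (poPr₂_equivariant hι hj π₂ hex₂ hπ₂)
    (poInl_injective (emb_injective ρK)) (poPr₂_surjective π₂ hex₂ (Submodule.mkQ_surjective _))
    (poInl_exact π₂ hex₂) isFlasque_perm hτ₂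

end final

end Groth.Agent.Lib.Seat91.GLatSquare
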