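import Groth.Agent.Lib.Seat91GrLES
import Groth.Agent.S13224
import Groth.Agent.S13225

/-!
# Dimension shifting for graded local cohomology (seat 91)

* `tors 𝓝 a g` — the `a`-torsion elements of degree `g` of a graded module, an `R_0`-module;
* `h0v` — `Γ_a(N) → H^0_a(N)`, with `h0v_mem_Hcomp`, `h0v_eq_zero_iff`, `exists_h0v_eq`, `Hmap_h0v`;
* `IsAcyc a N` — all higher graded local cohomology of `N` vanishes;
* `nonempty_step_one` — for `0 → N' → N → N'' → 0` with `H^1_a(N) = 0`: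
  `H^1_a(N')_g ≅ Γ_a(N'')_g / π(Γ_a(N)_g)`;
* `nonempty_step_succ` — if moreover `H^p_a(N) = H^{p+1}_a(N) = 0` then `H^{p+1}_a(N')_g ≅ H^p_a(N'')_g`.

Namespace `Groth.Agent.Lib.Seat91.GrAcyc`.
-/

set_option autoImplicit false
set_option linter.unusedSectionVars false
set_option linter.style.haveILetI false
universe u

open DirectSum Groth.Agent.Lib.Seat91.GrCx Groth.Agent.Lib.Seat91.GrCompare
  Groth.Agent.Lib.Seat91.GrLES Groth.Agent.Lib.Helper29GrHom

namespace Groth.Agent.Lib.Seat91.GrAcyc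

variable {ι : Type} [AddCommGroup ι] [DecidableEq ι]
variable {R : Type u} [CommRing R] {𝒜 : ι → AddSubgroup R} [GradedRing 𝒜]

section tors

variable {N : Type u} [AddCommGroup N] [Module R N] (𝓝 : ι → AddSubgroup N)
  [SetLike.GradedSMul 𝒜 𝓝]

/-- the `a`-torsion elements of degree `g`, as a module over the degree zero subring -/
def tors (a : HomogeneousIdeal 𝒜) (g : ι) : Submodule (GrLC.deg0 𝒜) N :=
  GrLC.comp 𝒜 𝓝 g ⊓ (GrLC.gam a.toIdeal N).restrictScalars (GrLC.deg0 𝒜)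

theorem mem_tors {a : HomogeneousIdeal 𝒜} {g : ι} {x : N} :
    x ∈ tors 𝓝 a g ↔ x ∈ 𝓝 g ∧ x ∈ GrLC.gam a.toIdeal N := Iff.rfl

end tors

section h0

variable {N : Type u} [AddCommGroup N] [Module R N] {𝓝 : ι → AddSubgroup N}
  [DirectSum.Decomposition 𝓝] [SetLike.GradedSMul 𝒜 𝓝]
variable {N' : Type u} [AddCommGroup N'] [Module R N'] {𝓝' : ι → AddSubgroup N'}
  [DirectSum.Decomposition 𝓝'] [SetLike.GradedSMul 𝒜 𝓝']

/-- the class in `H^0_a(N)` of a torsion element -/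
def h0v (G : GrLC.StarInjRes 𝒜 𝓝) (a : HomogeneousIdeal 𝒜) (x : N)
    (hx : x ∈ GrLC.gam a.toIdeal N) : G.H a 0 :=
  G.toH a 0 ⟨G.ε x, ⟨map_mem_gam G.ε _ hx, d_ε G x⟩⟩

theorem h0v_mem_Hcomp (G : GrLC.StarInjRes 𝒜 𝓝) (a : HomogeneousIdeal 𝒜) {x : N}
    (hx : x ∈ GrLC.gam a.toIdeal N) {g : ι} (hg : x ∈ 𝓝 g) : h0v G a x hx ∈ G.Hcomp a 0 g :=
  ⟨_, G.ε_grHom g _ hg, rfl⟩

theorem h0v_add (G : GrLC.StarInjRes 𝒜 𝓝) (a : HomogeneousIdeal 𝒜) {x y : N}
    (hx : x ∈ GrLC.gam a.toIdeal N) (hy : y ∈ GrLC.gam a.toIdeal N) :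
    h0v G a (x + y) (add_mem hx hy) = h0v G a x hx + h0v G a y hy := by
  unfold h0v
  rw [← map_add]
  congr 1
  apply Subtype.ext
  exact map_add G.ε x y

theorem h0v_smul (G : GrLC.StarInjRes 𝒜 𝓝) (a : HomogeneousIdeal 𝒜) (r : R) {x : N}
    (hx : x ∈ GrLC.gam a.toIdeal N) :
    h0v G a (r • x) (Submodule.smul_mem _ r hx) = r • h0v G a x hx := by
  unfold h0v
  rw [← map_smul]
  congr 1
  apply Subtype.ext
  exact map_smul G.ε r x

theorem h0v_eq_zero_iff (G : GrLC.StarInjRes 𝒜 𝓝) (a : HomogeneousIdeal 𝒜) {x : N}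
    (hx : x ∈ GrLC.gam a.toIdeal N) : h0v G a x hx = 0 ↔ x = 0 := by
  unfold h0v
  rw [Submodule.mkQ_apply, Submodule.Quotient.mk_eq_zero, Submodule.mem_comap]
  change G.ε x ∈ (⊥ : Submodule R (G.X 0).carrier) ↔ _
  rw [Submodule.mem_bot]
  constructor
  · intro h
    exact G.ε_injective (by rw [h, map_zero])
  · intro h
    rw [h, map_zero]

theorem exists_h0v_eq (G : GrLC.StarInjRes 𝒜 𝓝) (a : HomogeneousIdeal 𝒜) {g : ι} {y : G.H a 0}
    (hy : y ∈ G.Hcomp a 0 g) :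
    ∃ (x : N) (hx : x ∈ GrLC.gam a.toIdeal N), x ∈ 𝓝 g ∧ h0v G a x hx = y := by
  classical
  obtain ⟨z, hzg, rfl⟩ := hy
  have hz1 : (z : (G.X 0).carrier) ∈ GrLC.gam a.toIdeal (G.X 0).carrier := z.2.1
  have hz2 : (z : (G.X 0).carrier) ∈ LinearMap.ker (G.d 0) := z.2.2
  rw [G.exact_zero] at hz2
  obtain ⟨x, hx⟩ := hz2
  -- `x` is homogeneous of degree `g`
  have hxg : x ∈ 𝓝 g := by
    have h1 : ∀ i, i ≠ g → ((decompose 𝓝 x) i : N) = 0 := by
      intro i hi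
      apply G.ε_injective
      rw [map_zero, ← decompose_map (G.X 0).gr 𝓝 G.ε G.ε_grHom x i, hx,
        DirectSum.decompose_of_mem_ne _ hzg hi.symm]
    have h2 : x = ((decompose 𝓝 x) g : N) := by
      conv_lhs => rw [← DirectSum.sum_support_decompose 𝓝 x]
      by_cases hg : g ∈ (decompose 𝓝 x).support
      · rw [Finset.sum_eq_single g (fun i _ hi => h1 i hi) (fun h => absurd hg h)]
      · rw [DFinsupp.notMem_support_iff.1 hg, Finset.sum_eq_zero fun i hi => h1 i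
          (fun h => hg (h ▸ hi))]
        rfl
    rw [h2]
    exact SetLike.coe_mem _
  have hxt : x ∈ GrLC.gam a.toIdeal N := by
    obtain ⟨k, hk⟩ := hz1
    refine ⟨k, fun r hr => G.ε_injective ?_⟩
    rw [map_smul, hx, hk r hr, map_zero]
  refine ⟨x, hxt, hxg, ?_⟩
  unfold h0v
  congr 1
  exact Subtype.ext hx

theorem Hmap_h0v (G : GrLC.StarInjRes 𝒜 𝓝) (G' : GrLC.StarInjRes 𝒜 𝓝') (c : CMap G G' 0)
    (f : N →ₗ[R] N') (hc : ∀ x : N, c.θ 0 (G.ε x) = G'.ε (f x)) (a : HomogeneousIdeal 𝒜) {x : N}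
    (hx : x ∈ GrLC.gam a.toIdeal N) :
    c.Hmap a 0 (h0v G a x hx) = h0v G' a (f x) (map_mem_gam f _ hx) := by
  unfold h0v
  rw [CMap.Hmap_toH]
  congr 1
  apply Subtype.ext
  rw [CMap.mapCocyc_coe]
  exact hc x

end h0

section acyc

/-- a graded module all of whose higher graded local cohomology vanishes -/
def IsAcyc (a : HomogeneousIdeal 𝒜) (N : GrLC.GMod.{u} 𝒜) : Prop :=
  ∀ (G : GrLC.StarInjRes 𝒜 N.gr) (p : ℕ), 0 < p → Subsingleton (G.H a p)

variable [IsNoetherianRing R] [Module.Free ℤ ι] [Module.Finite ℤ ι]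

theorem isAcyc_of_locCoh (a : HomogeneousIdeal 𝒜) (N : GrLC.GMod.{u} 𝒜)
    (h : ∀ p : ℕ, 0 < p → Subsingleton (LocCoh.H a.toIdeal p N.carrier)) : IsAcyc a N := by
  intro G p hp
  obtain ⟨e⟩ := Groth.Agent.S13224.result R 𝒜 a N.carrier N.gr G p
  haveI := h p hp
  exact e.toEquiv.subsingleton

end acyc

section steps

variable [IsNoetherianRing R] [Module.Free ℤ ι] [Module.Finite ℤ ι]
variable {M' : Type u} [AddCommGroup M'] [Module R M'] {ℳ' : ι → AddSubgroup M'}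
  [DirectSum.Decomposition ℳ'] [SetLike.GradedSMul 𝒜 ℳ']
variable {M : Type u} [AddCommGroup M] [Module R M] {ℳ : ι → AddSubgroup M}
  [DirectSum.Decomposition ℳ] [SetLike.GradedSMul 𝒜 ℳ]
variable {M'' : Type u} [AddCommGroup M''] [Module R M''] {ℳ'' : ι → AddSubgroup M''}
  [DirectSum.Decomposition ℳ''] [SetLike.GradedSMul 𝒜 ℳ'']

/-- a degree preserving bijection of graded local cohomologies is bijective on pieces -/
theorem nonempty_piece_equiv (E'' : GrLC.StarInjRes 𝒜 ℳ'') (E' : GrLC.StarInjRes 𝒜 ℳ')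
    (a : HomogeneousIdeal 𝒜) (p p' : ℕ) (δ : E''.H a p →ₗ[R] E'.H a p')
    (hδ : ∀ (g : ι) (x : E''.H a p), x ∈ E''.Hcomp a p g → δ x ∈ E'.Hcomp a p' g)
    (hbij : Function.Bijective δ) (g : ι) :
    Nonempty (E''.Hcomp a p g ≃ₗ[GrLC.deg0 𝒜] E'.Hcomp a p' g) := by
  classical
  letI : DirectSum.Decomposition (E''.Hgr a p) :=
    (Groth.Agent.S13225.result R 𝒜 a M'' ℳ'' E'' p).chooseDecomposition
  letI : DirectSum.Decomposition (E'.Hgr a p') :=
    (Groth.Agent.S13225.result R 𝒜 a M' ℳ' E' p').chooseDecomposition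
  let f : E''.Hcomp a p g →ₗ[GrLC.deg0 𝒜] E'.Hcomp a p' g :=
    { toFun := fun x => ⟨δ x.1, hδ g x.1 x.2⟩
      map_add' := fun x y => Subtype.ext (map_add δ x.1 y.1)
      map_smul' := fun c x => Subtype.ext (map_smul δ (c : R) x.1) }
  refine ⟨LinearEquiv.ofBijective f ⟨?_, ?_⟩⟩
  · intro x y hxy
    apply Subtype.ext
    apply hbij.1
    exact congrArg Subtype.val hxy
  · rintro ⟨y, hy⟩
    obtain ⟨w, rfl⟩ := hbij.2 y
    have hy' : δ w ∈ E'.Hgr a p' g := hy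
    have h1 := decompose_map (E'.Hgr a p') (E''.Hgr a p) δ hδ w g
    rw [DirectSum.decompose_of_mem_same _ hy'] at h1
    refine ⟨⟨((decompose (E''.Hgr a p) w) g : E''.H a p), SetLike.coe_mem _⟩, ?_⟩
    apply Subtype.ext
    exact h1.symm

variable {E' : GrLC.StarInjRes 𝒜 ℳ'} {E : GrLC.StarInjRes 𝒜 ℳ} {E'' : GrLC.StarInjRes 𝒜 ℳ''}
variable {incl : M' →ₗ[R] M} (hincl : Function.Injective incl)
  {π : M →ₗ[R] M''} (hπ : Function.Surjective π) (hπg : GrLC.IsGrHom ℳ ℳ'' π)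
  (hex : LinearMap.ker π = LinearMap.range incl)
  (c : CMap E' E 0) (hc : ∀ m : M', c.θ 0 (E'.ε m) = E.ε (incl m))
  (j : CMap E E'' 0) (hj : ∀ m : M, j.θ 0 (E.ε m) = E''.ε (π m))

include hincl hπ hπg hex hc hj in
/-- **dimension shifting, higher degrees** -/
theorem nonempty_step_succ (a : HomogeneousIdeal 𝒜) (p : ℕ)
    (h1 : Subsingleton (E.H a p)) (h2 : Subsingleton (E.H a (p + 1))) (g : ι) :
    Nonempty (E''.Hcomp a p g ≃ₗ[GrLC.deg0 𝒜] E'.Hcomp a (p + 1) g) := by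
  obtain ⟨δ, hδdeg, -, hδker, hδrange⟩ := exists_les hincl hπ hπg hex c hc j hj a
  refine nonempty_piece_equiv E'' E' a p (p + 1) (δ p) (hδdeg p) ⟨?_, ?_⟩ g
  · rw [← LinearMap.ker_eq_bot, hδker p, eq_bot_iff]
    rintro _ ⟨x, rfl⟩
    rw [Submodule.mem_bot, Subsingleton.elim x 0, map_zero]
  · rw [← LinearMap.range_eq_top, ← hδrange p, eq_top_iff]
    intro x _
    rw [LinearMap.mem_ker]
    exact Subsingleton.elim _ _

include hincl hπ hπg hex hc hj in
/-- **dimension shifting, degree one** -/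
theorem nonempty_step_one (a : HomogeneousIdeal 𝒜) (h1 : Subsingleton (E.H a 1)) (g : ι) :
    Nonempty (E'.Hcomp a 1 g ≃ₗ[GrLC.deg0 𝒜]
      (↥(tors ℳ'' a g) ⧸ ((tors ℳ a g).map (π.restrictScalars (GrLC.deg0 𝒜))).comap
        (tors ℳ'' a g).subtype)) := by
  classical
  obtain ⟨δ, hδdeg, -, hδker, hδrange⟩ := exists_les hincl hπ hπg hex c hc j hj a
  letI : DirectSum.Decomposition (E''.Hgr a 0) :=
    (Groth.Agent.S13225.result R 𝒜 a M'' ℳ'' E'' 0).chooseDecomposition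
  letI : DirectSum.Decomposition (E'.Hgr a 1) :=
    (Groth.Agent.S13225.result R 𝒜 a M' ℳ' E' 1).chooseDecomposition
  letI : DirectSum.Decomposition (E.Hgr a 0) :=
    (Groth.Agent.S13225.result R 𝒜 a M ℳ E 0).chooseDecomposition
  have hjdeg : ∀ (g : ι) (x : E.H a 0), x ∈ E.Hgr a 0 g → j.Hmap a 0 x ∈ E''.Hgr a 0 g := by
    intro g x hx
    have := CMap.Hmap_mem_Hcomp j a 0 hx
    rwa [add_zero] at this
  let Φ : tors ℳ'' a g →ₗ[GrLC.deg0 𝒜] E'.Hcomp a 1 g :=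
    { toFun := fun x => ⟨δ 0 (h0v E'' a x.1 x.2.2),
        hδdeg 0 g _ (h0v_mem_Hcomp E'' a x.2.2 x.2.1)⟩
      map_add' := fun x y => by
        apply Subtype.ext
        change δ 0 (h0v E'' a (x.1 + y.1) _) = δ 0 _ + δ 0 _
        rw [h0v_add E'' a x.2.2 y.2.2, map_add]
      map_smul' := fun r x => by
        apply Subtype.ext
        change δ 0 (h0v E'' a ((r : R) • x.1) _) = (r : R) • δ 0 _
        rw [h0v_smul E'' a (r : R) x.2.2, map_smul] }
  have hΦsurj : Function.Surjective Φ := by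
    rintro ⟨y, hy⟩
    have hy1 : y ∈ LinearMap.range (δ 0) := by
      rw [← hδrange 0, LinearMap.mem_ker]
      exact Subsingleton.elim _ _
    obtain ⟨w, rfl⟩ := hy1
    have hy' : δ 0 w ∈ E'.Hgr a 1 g := hy
    have h2 := decompose_map (E'.Hgr a 1) (E''.Hgr a 0) (δ 0) (hδdeg 0) w g
    rw [DirectSum.decompose_of_mem_same _ hy'] at h2
    obtain ⟨x, hxt, hxg, hx⟩ := exists_h0v_eq E'' a
      (show ((decompose (E''.Hgr a 0) w) g : E''.H a 0) ∈ E''.Hcomp a 0 g from SetLike.coe_mem _)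
    refine ⟨⟨x, hxg, hxt⟩, ?_⟩
    apply Subtype.ext
    change δ 0 (h0v E'' a x hxt) = δ 0 w
    rw [hx, ← h2]
  have hΦker : LinearMap.ker Φ = ((tors ℳ a g).map (π.restrictScalars (GrLC.deg0 𝒜))).comap
      (tors ℳ'' a g).subtype := by
    ext x
    rw [LinearMap.mem_ker, Submodule.mem_comap]
    constructor
    · intro hx
      have hx1 : δ 0 (h0v E'' a x.1 x.2.2) = 0 := congrArg Subtype.val hx
      have hx2 : h0v E'' a x.1 x.2.2 ∈ LinearMap.range (j.Hmap a 0) := by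
        rw [← hδker 0, LinearMap.mem_ker]
        exact hx1
      obtain ⟨v, hv⟩ := hx2
      -- the component of degree `g` of `v`
      have h3 := decompose_map (E''.Hgr a 0) (E.Hgr a 0) (j.Hmap a 0) hjdeg v g
      rw [hv, DirectSum.decompose_of_mem_same _
        (show h0v E'' a x.1 x.2.2 ∈ E''.Hgr a 0 g from h0v_mem_Hcomp E'' a x.2.2 x.2.1)] at h3
      obtain ⟨u, hut, hug, hu⟩ := exists_h0v_eq E a
        (show ((decompose (E.Hgr a 0) v) g : E.H a 0) ∈ E.Hcomp a 0 g from SetLike.coe_mem _)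
      rw [← hu, Hmap_h0v E E'' j π hj a hut] at h3
      have h4 : h0v E'' a (x.1 - π u) (sub_mem x.2.2 (map_mem_gam π _ hut)) = 0 := by
        have := h0v_add E'' a (sub_mem x.2.2 (map_mem_gam π _ hut)) (map_mem_gam π _ hut)
        have h5 : h0v E'' a (x.1 - π u + π u)
            (add_mem (sub_mem x.2.2 (map_mem_gam π _ hut)) (map_mem_gam π _ hut)) =
            h0v E'' a x.1 x.2.2 := by
          congr 1
          exact sub_add_cancel _ _
        rw [h5, h3] at this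
        exact add_right_cancel (b := h0v E'' a (π u) (map_mem_gam π _ hut))
          (by rw [zero_add]; exact this.symm)
      rw [h0v_eq_zero_iff] at h4
      refine ⟨u, ⟨hug, hut⟩, ?_⟩
      exact (sub_eq_zero.1 h4).symm
    · rintro ⟨u, ⟨hug, hut⟩, hu⟩
      apply Subtype.ext
      change δ 0 (h0v E'' a x.1 x.2.2) = 0
      have h3 : h0v E'' a x.1 x.2.2 = j.Hmap a 0 (h0v E a u hut) := by
        rw [Hmap_h0v E E'' j π hj a hut]
        congr 1
        exact hu.symm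
      rw [h3, ← LinearMap.mem_ker, hδker 0]
      exact ⟨_, rfl⟩
  exact ⟨((LinearMap.quotKerEquivOfSurjective Φ hΦsurj).symm.trans
    (Submodule.quotEquivOfEq _ _ hΦker))⟩

end steps

end Groth.Agent.Lib.Seat91.GrAcyc
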