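import Groth.Agent.Lib.Seat91GrCompare

/-!
# Products and graded direct summands of *injective graded modules (seat 91)

* `prodGr`, `prodDecomposition`, `prod_gradedSMul`, `prodGMod`: the product of two graded modules.
* `isStarInj_prod`: a product of two *injective modules is *injective.
* `subGMod`, `isStarInj_sub_of_retraction`: a homogeneous submodule of a *injective module which is
  the image of a homogeneous projection is *injective.

Namespace `Groth.Agent.Lib.Seat91.GrProd`.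
-/

set_option autoImplicit false
set_option linter.unusedSectionVars false
universe u

open DirectSum Groth.Agent.Lib.Helper29GrSub Groth.Agent.Lib.Helper29GrHom

namespace Groth.Agent.Lib.Seat91.GrProd

variable {ι : Type} [AddCommGroup ι] [DecidableEq ι]
variable {R : Type u} [CommRing R] (𝒜 : ι → AddSubgroup R) [GradedRing 𝒜]

section prod

variable {A B : Type u} [AddCommGroup A] [Module R A] [AddCommGroup B] [Module R B]
  (𝓐 : ι → AddSubgroup A) (𝓑 : ι → AddSubgroup B)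

/-- the pieces of the product -/
def prodGr : ι → AddSubgroup (A × B) := fun g => (𝓐 g).prod (𝓑 g)

theorem mem_prodGr {g : ι} {x : A × B} : x ∈ prodGr 𝓐 𝓑 g ↔ x.1 ∈ 𝓐 g ∧ x.2 ∈ 𝓑 g := Iff.rfl

/-- left inclusion of pieces -/
def inlPiece (g : ι) : ↥(𝓐 g) →+ ↥(prodGr 𝓐 𝓑 g) where
  toFun a := ⟨((a : A), 0), a.2, zero_mem _⟩
  map_zero' := rfl
  map_add' a a' := by
    apply Subtype.ext
    show ((a : A) + (a' : A), (0 : B)) = ((a : A), (0 : B)) + ((a' : A), (0 : B))
    rw [Prod.mk_add_mk, add_zero]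

/-- right inclusion of pieces -/
def inrPiece (g : ι) : ↥(𝓑 g) →+ ↥(prodGr 𝓐 𝓑 g) where
  toFun b := ⟨(0, (b : B)), zero_mem _, b.2⟩
  map_zero' := rfl
  map_add' b b' := by
    apply Subtype.ext
    show ((0 : A), (b : B) + (b' : B)) = ((0 : A), (b : B)) + ((0 : A), (b' : B))
    rw [Prod.mk_add_mk, add_zero]

theorem coe_map_inlPiece (y : ⨁ g, 𝓐 g) :
    DirectSum.coeAddMonoidHom (prodGr 𝓐 𝓑) (DirectSum.map (inlPiece 𝓐 𝓑) y) =
      (DirectSum.coeAddMonoidHom 𝓐 y, 0) := by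
  classical
  induction y using DirectSum.induction_on with
  | zero =>
    simp only [map_zero]
    rfl
  | of g x =>
    rw [DirectSum.map_of, DirectSum.coeAddMonoidHom_of, DirectSum.coeAddMonoidHom_of]
    rfl
  | add x y hx hy =>
    rw [map_add, map_add, map_add, hx, hy, Prod.mk_add_mk, add_zero]

theorem coe_map_inrPiece (y : ⨁ g, 𝓑 g) :
    DirectSum.coeAddMonoidHom (prodGr 𝓐 𝓑) (DirectSum.map (inrPiece 𝓐 𝓑) y) =
      (0, DirectSum.coeAddMonoidHom 𝓑 y) := by
  classical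
  induction y using DirectSum.induction_on with
  | zero =>
    simp only [map_zero]
    rfl
  | of g x =>
    rw [DirectSum.map_of, DirectSum.coeAddMonoidHom_of, DirectSum.coeAddMonoidHom_of]
    rfl
  | add x y hx hy =>
    rw [map_add, map_add, map_add, hx, hy, Prod.mk_add_mk, add_zero]

variable [DirectSum.Decomposition 𝓐] [DirectSum.Decomposition 𝓑]

/-- the decomposition map of the product -/
def prodDecHom : (A × B) →+ ⨁ g, prodGr 𝓐 𝓑 g :=
  ((DirectSum.map (inlPiece 𝓐 𝓑)).comp (DirectSum.decomposeAddEquiv 𝓐).toAddMonoidHom).comp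
      (AddMonoidHom.fst A B) +
    ((DirectSum.map (inrPiece 𝓐 𝓑)).comp (DirectSum.decomposeAddEquiv 𝓑).toAddMonoidHom).comp
      (AddMonoidHom.snd A B)

theorem prodDecHom_apply (x : A × B) :
    prodDecHom 𝓐 𝓑 x = DirectSum.map (inlPiece 𝓐 𝓑) (DirectSum.decompose 𝓐 x.1) +
      DirectSum.map (inrPiece 𝓐 𝓑) (DirectSum.decompose 𝓑 x.2) := rfl

/-- the decomposition of the product of two graded modules -/
@[instance_reducible]
def prodDecomposition : DirectSum.Decomposition (prodGr 𝓐 𝓑) :=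
  DirectSum.Decomposition.ofAddHom (prodGr 𝓐 𝓑) (prodDecHom 𝓐 𝓑)
    (by
      apply AddMonoidHom.ext
      intro x
      rw [AddMonoidHom.comp_apply, prodDecHom_apply, map_add, coe_map_inlPiece, coe_map_inrPiece]
      have h1 : DirectSum.coeAddMonoidHom 𝓐 (DirectSum.decompose 𝓐 x.1) = x.1 :=
        DirectSum.Decomposition.left_inv x.1
      have h2 : DirectSum.coeAddMonoidHom 𝓑 (DirectSum.decompose 𝓑 x.2) = x.2 :=
        DirectSum.Decomposition.left_inv x.2
      rw [h1, h2, Prod.mk_add_mk, add_zero, zero_add]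
      rfl)
    (by
      apply DirectSum.addHom_ext
      rintro g ⟨⟨a, b⟩, ha, hb⟩
      rw [AddMonoidHom.comp_apply, DirectSum.coeAddMonoidHom_of]
      show prodDecHom 𝓐 𝓑 (a, b) = _
      have ha' : a ∈ 𝓐 g := ha
      have hb' : b ∈ 𝓑 g := hb
      rw [prodDecHom_apply, DirectSum.decompose_of_mem 𝓐 ha', DirectSum.decompose_of_mem 𝓑 hb',
        DirectSum.map_of, DirectSum.map_of, ← map_add]
      refine congrArg (DirectSum.of (fun i => ↥(prodGr 𝓐 𝓑 i)) g) (Subtype.ext ?_)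
      show ((a, (0 : B)) + ((0 : A), b)) = (a, b)
      rw [Prod.mk_add_mk, add_zero, zero_add])

theorem prod_gradedSMul [SetLike.GradedSMul 𝒜 𝓐] [SetLike.GradedSMul 𝒜 𝓑] :
    SetLike.GradedSMul 𝒜 (prodGr 𝓐 𝓑) where
  smul_mem := by
    rintro i j r ⟨a, b⟩ hr ⟨ha, hb⟩
    exact ⟨SetLike.GradedSMul.smul_mem (A := 𝒜) (B := 𝓐) hr ha,
      SetLike.GradedSMul.smul_mem (A := 𝒜) (B := 𝓑) hr hb⟩

end prod

/-- the product of two bundled graded modules -/
def prodGMod (X Y : GrLC.GMod.{u} 𝒜) : GrLC.GMod.{u} 𝒜 :=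
  { carrier := X.carrier × Y.carrier
    gr := prodGr X.gr Y.gr
    dec := prodDecomposition X.gr Y.gr
    gsmul := prod_gradedSMul 𝒜 X.gr Y.gr }

theorem isStarInj_prod (X Y : GrLC.GMod.{u} 𝒜) (hX : GrLC.IsStarInj 𝒜 X.gr)
    (hY : GrLC.IsStarInj 𝒜 Y.gr) : GrLC.IsStarInj 𝒜 (prodGMod 𝒜 X Y).gr := by
  intro A B f hf hinj g hg
  obtain ⟨h1, hh1, hh1f⟩ := hX A B f hf hinj (LinearMap.fst R _ _ ∘ₗ g) (fun j m hm => (hg j m hm).1)
  obtain ⟨h2, hh2, hh2f⟩ := hY A B f hf hinj (LinearMap.snd R _ _ ∘ₗ g) (fun j m hm => (hg j m hm).2)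
  refine ⟨h1.prod h2, fun j m hm => ⟨hh1 j m hm, hh2 j m hm⟩, ?_⟩
  apply LinearMap.ext
  intro x
  apply Prod.ext
  · exact LinearMap.congr_fun hh1f x
  · exact LinearMap.congr_fun hh2f x

section sub

variable (X : GrLC.GMod.{u} 𝒜) (S : Submodule R X.carrier) (hS : S.IsHomogeneous X.gr)

/-- a homogeneous submodule as a bundled graded module -/
noncomputable def subGMod : GrLC.GMod.{u} 𝒜 :=
  { carrier := ↥S
    gr := subGr X.gr S
    dec := subDecomposition X.gr S hS
    gsmul := sub_gradedSMul X.gr S 𝒜 }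

/-- the image of a homogeneous projection of a *injective module is *injective -/
theorem isStarInj_sub_of_retraction (hX : GrLC.IsStarInj 𝒜 X.gr)
    (p : X.carrier →ₗ[R] X.carrier) (hp : GrLC.IsGrHom X.gr X.gr p) (hpS : ∀ c, p c ∈ S)
    (hpid : ∀ c ∈ S, p c = c) : GrLC.IsStarInj 𝒜 (subGMod 𝒜 X S hS).gr := by
  intro A B f hf hinj g hg
  obtain ⟨h, hh, hhf⟩ := hX A B f hf hinj (S.subtype ∘ₗ g) (fun j m hm => hg j m hm)
  refine ⟨LinearMap.codRestrict S (p ∘ₗ h) (fun b => hpS _), fun j m hm => ?_, ?_⟩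
  · show p (h m) ∈ X.gr j
    exact hp j _ (hh j m hm)
  · apply LinearMap.ext
    intro x
    apply Subtype.ext
    show p (h (f x)) = S.subtype (g x)
    have : h (f x) = S.subtype (g x) := LinearMap.congr_fun hhf x
    rw [this]
    exact hpid _ (Submodule.coe_mem (g x : ↥S))

end sub

end Groth.Agent.Lib.Seat91.GrProd
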