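import Groth.Agent.Lib.Seat91GrAcyc
import Groth.Agent.Lib.Seat91GrProd
import Groth.Agent.Lib.Helper29GrRes
import Groth.Agent.S13217

/-!
# Graded local cohomology from acyclic resolutions (seat 91)

* `AcycRes a ℳ` — a resolution of a graded module by graded modules with vanishing higher graded
  local cohomology (with respect to `a`);
* `AcycRes.Zs`, `AcycRes.Bs`, `AcycRes.Hs` — the degree `g` torsion cocycles / coboundaries /
  cohomology of the complex `Γ_a(Y^•)`, over the degree zero subring;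
* `nonempty_Hcomp_equiv_Hs` — `H^p_a(M)_g ≅ H^p(Γ_a(Y^•))_g` for every acyclic resolution.
* `ofStarInjRes` — a *injective resolution is an acyclic resolution.

Namespace `Groth.Agent.Lib.Seat91.GrAcycRes`.
-/

set_option autoImplicit false
set_option linter.unusedSectionVars false
set_option linter.style.haveILetI false
universe u

open DirectSum Groth.Agent.Lib.Seat91.GrCx Groth.Agent.Lib.Seat91.GrCompare
  Groth.Agent.Lib.Seat91.GrLES Groth.Agent.Lib.Helper29GrHom Groth.Agent.Lib.Seat91.GrAcyc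

namespace Groth.Agent.Lib.Seat91.GrAcycRes

variable {ι : Type} [AddCommGroup ι] [DecidableEq ι]
variable {R : Type u} [CommRing R] {𝒜 : ι → AddSubgroup R} [GradedRing 𝒜]

section general

variable {N : Type u} [AddCommGroup N] [Module R N] {𝓝 : ι → AddSubgroup N}
  [DirectSum.Decomposition 𝓝] [SetLike.GradedSMul 𝒜 𝓝]
variable {N' : Type u} [AddCommGroup N'] [Module R N'] {𝓝' : ι → AddSubgroup N'}
  [DirectSum.Decomposition 𝓝'] [SetLike.GradedSMul 𝒜 𝓝']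

/-- an injective homogeneous map reflects degrees -/
theorem mem_of_map_mem (f : N →ₗ[R] N') (hf : GrLC.IsGrHom 𝓝 𝓝' f) (hinj : Function.Injective f)
    {x : N} {g : ι} (h : f x ∈ 𝓝' g) : x ∈ 𝓝 g := by
  classical
  have h1 : ∀ i, i ≠ g → ((decompose 𝓝 x) i : N) = 0 := by
    intro i hi
    apply hinj
    rw [map_zero, ← decompose_map 𝓝' 𝓝 f hf x i, DirectSum.decompose_of_mem_ne _ h hi.symm]
  have h2 : x = ((decompose 𝓝 x) g : N) := by
    conv_lhs => rw [← DirectSum.sum_support_decompose 𝓝 x]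
    by_cases hg : g ∈ (decompose 𝓝 x).support
    · rw [Finset.sum_eq_single g (fun i _ hi => h1 i hi) (fun h => absurd hg h)]
    · rw [DFinsupp.notMem_support_iff.1 hg, Finset.sum_eq_zero fun i hi => h1 i
        (fun h => hg (h ▸ hi))]
      rfl
  rw [h2]
  exact SetLike.coe_mem _

/-- an injective map reflects torsion -/
theorem mem_gam_of_map_mem (f : N →ₗ[R] N') (hinj : Function.Injective f) (a : Ideal R)
    {x : N} (h : f x ∈ GrLC.gam a N') : x ∈ GrLC.gam a N := by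
  obtain ⟨k, hk⟩ := h
  refine ⟨k, fun r hr => hinj ?_⟩
  rw [map_smul, hk r hr, map_zero]

theorem tors_deg {a : HomogeneousIdeal 𝒜} {g : ι} (x : ↥(tors 𝓝 a g)) : (x : N) ∈ 𝓝 g := x.2.1

theorem tors_gam {a : HomogeneousIdeal 𝒜} {g : ι} (x : ↥(tors 𝓝 a g)) :
    (x : N) ∈ GrLC.gam a.toIdeal N := x.2.2

/-- `H^0_a(N)_g` is the torsion of degree `g` -/
theorem nonempty_Hcomp_zero (F : GrLC.StarInjRes 𝒜 𝓝) (a : HomogeneousIdeal 𝒜) (g : ι) :
    Nonempty (F.Hcomp a 0 g ≃ₗ[GrLC.deg0 𝒜] tors 𝓝 a g) := by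
  let Φ : tors 𝓝 a g →ₗ[GrLC.deg0 𝒜] F.Hcomp a 0 g :=
    { toFun := fun x => ⟨h0v F a x.1 (tors_gam x),
        h0v_mem_Hcomp F a (tors_gam x) (tors_deg x)⟩
      map_add' := fun x y => Subtype.ext (h0v_add F a (tors_gam x) (tors_gam y))
      map_smul' := fun r x => Subtype.ext (h0v_smul F a (r : R) (tors_gam x)) }
  refine ⟨(LinearEquiv.ofBijective Φ ⟨?_, ?_⟩).symm⟩
  · rw [← LinearMap.ker_eq_bot, eq_bot_iff]
    intro x hx
    rw [LinearMap.mem_ker] at hx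
    have h1 : h0v F a x.1 (tors_gam x) = 0 := congrArg Subtype.val hx
    have h2 := (h0v_eq_zero_iff F a (tors_gam x)).1 h1
    rw [Submodule.mem_bot]
    exact Subtype.ext h2
  · rintro ⟨y, hy⟩
    obtain ⟨x, hxt, hxg, hx⟩ := exists_h0v_eq F a hy
    exact ⟨⟨x, hxg, hxt⟩, Subtype.ext hx⟩

end general

/-- a resolution by graded modules which are acyclic for graded local cohomology w.r.t. `a` -/
structure AcycRes (a : HomogeneousIdeal 𝒜) {M : Type u} [AddCommGroup M] [Module R M]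
    (ℳ : ι → AddSubgroup M) [DirectSum.Decomposition ℳ] [SetLike.GradedSMul 𝒜 ℳ] :
    Type (u + 1) where
  /-- the terms -/
  Y : ℕ → GrLC.GMod.{u} 𝒜
  /-- the differentials -/
  d : ∀ n : ℕ, (Y n).carrier →ₗ[R] (Y (n + 1)).carrier
  /-- the augmentation -/
  ε : M →ₗ[R] (Y 0).carrier
  d_grHom : ∀ n : ℕ, GrLC.IsGrHom (Y n).gr (Y (n + 1)).gr (d n)
  ε_grHom : GrLC.IsGrHom ℳ (Y 0).gr ε
  ε_injective : Function.Injective ε
  exact_zero : LinearMap.ker (d 0) = LinearMap.range ε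
  exact_succ : ∀ n : ℕ, LinearMap.ker (d (n + 1)) = LinearMap.range (d n)
  acyc : ∀ n : ℕ, IsAcyc a (Y n)

namespace AcycRes

variable {a : HomogeneousIdeal 𝒜} {M : Type u} [AddCommGroup M] [Module R M]
  {ℳ : ι → AddSubgroup M} [DirectSum.Decomposition ℳ] [SetLike.GradedSMul 𝒜 ℳ]

/-- torsion cocycles of degree `g` -/
def Zs (A : AcycRes a ℳ) (p : ℕ) (g : ι) : Submodule (GrLC.deg0 𝒜) (A.Y p).carrier :=
  tors (A.Y p).gr a g ⊓ (LinearMap.ker (A.d p)).restrictScalars (GrLC.deg0 𝒜)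

/-- torsion coboundaries of degree `g` -/
def Bs (A : AcycRes a ℳ) : (p : ℕ) → (g : ι) → Submodule (GrLC.deg0 𝒜) (A.Y p).carrier
  | 0, _ => ⊥
  | n + 1, g => (tors (A.Y n).gr a g).map ((A.d n).restrictScalars (GrLC.deg0 𝒜))

/-- the cohomology of degree `g` of `Γ_a(Y^•)` -/
abbrev Hs (A : AcycRes a ℳ) (p : ℕ) (g : ι) : Type u :=
  ↥(A.Zs p g) ⧸ (A.Bs p g).comap (A.Zs p g).subtype

theorem mem_Zs (A : AcycRes a ℳ) {p : ℕ} {g : ι} {x : (A.Y p).carrier} :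
    x ∈ A.Zs p g ↔ (x ∈ (A.Y p).gr g ∧ x ∈ GrLC.gam a.toIdeal (A.Y p).carrier) ∧ A.d p x = 0 :=
  Iff.rfl

theorem mem_Bs_succ (A : AcycRes a ℳ) {n : ℕ} {g : ι} {x : (A.Y (n + 1)).carrier} :
    x ∈ A.Bs (n + 1) g ↔ ∃ y, (y ∈ (A.Y n).gr g ∧ y ∈ GrLC.gam a.toIdeal (A.Y n).carrier) ∧
      A.d n y = x := Iff.rfl

theorem d_ε (A : AcycRes a ℳ) (x : M) : A.d 0 (A.ε x) = 0 := by
  have : A.ε x ∈ LinearMap.ker (A.d 0) := by
    rw [A.exact_zero]
    exact ⟨x, rfl⟩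
  exact this

theorem d_d (A : AcycRes a ℳ) (n : ℕ) (x : (A.Y n).carrier) : A.d (n + 1) (A.d n x) = 0 := by
  have : A.d n x ∈ LinearMap.ker (A.d (n + 1)) := by
    rw [A.exact_succ]
    exact ⟨x, rfl⟩
  exact this

/-- `Γ_a(M)_g ≅ Z^0_g` -/
theorem nonempty_tors_equiv_Zs (A : AcycRes a ℳ) (g : ι) :
    Nonempty (tors ℳ a g ≃ₗ[GrLC.deg0 𝒜] A.Zs 0 g) := by
  let Ψ : tors ℳ a g →ₗ[GrLC.deg0 𝒜] A.Zs 0 g :=
    { toFun := fun x => ⟨A.ε x.1,
        ⟨⟨A.ε_grHom g _ x.2.1, map_mem_gam A.ε _ x.2.2⟩, A.d_ε x.1⟩⟩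
      map_add' := fun x y => Subtype.ext (map_add A.ε x.1 y.1)
      map_smul' := fun r x => Subtype.ext (map_smul A.ε (r : R) x.1) }
  refine ⟨LinearEquiv.ofBijective Ψ ⟨?_, ?_⟩⟩
  · intro x y hxy
    apply Subtype.ext
    apply A.ε_injective
    exact congrArg Subtype.val hxy
  · rintro ⟨y, ⟨hyg, hyt⟩, hyd⟩
    have hy : y ∈ LinearMap.range A.ε := by
      rw [← A.exact_zero]
      exact hyd
    obtain ⟨x, rfl⟩ := hy
    exact ⟨⟨x, mem_of_map_mem A.ε A.ε_grHom A.ε_injective hyg,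
      mem_gam_of_map_mem A.ε A.ε_injective _ hyt⟩, rfl⟩

/-- `H^0(Γ_a(Y^•))_g ≅ Z^0_g` -/
theorem nonempty_Hs_zero (A : AcycRes a ℳ) (g : ι) :
    Nonempty (A.Hs 0 g ≃ₗ[GrLC.deg0 𝒜] A.Zs 0 g) := by
  refine ⟨Submodule.quotEquivOfEqBot _ ?_⟩
  change Submodule.comap (A.Zs 0 g).subtype ⊥ = ⊥
  rw [Submodule.comap_bot, Submodule.ker_subtype]

/-- the first syzygy -/
noncomputable def Z1 (A : AcycRes a ℳ) : GrLC.GMod.{u} 𝒜 :=
  Groth.Agent.Lib.Seat91.GrProd.subGMod 𝒜 (A.Y 1) (LinearMap.ker (A.d 1))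
    (ker_isHomogeneous (A.Y 2).gr (A.Y 1).gr (A.d 1) (A.d_grHom 1))

/-- `Y^0 → Z^1` -/
noncomputable def π1 (A : AcycRes a ℳ) : (A.Y 0).carrier →ₗ[R] A.Z1.carrier :=
  LinearMap.codRestrict (LinearMap.ker (A.d 1)) (A.d 0) (fun x => A.d_d 0 x)

theorem π1_coe (A : AcycRes a ℳ) (x : (A.Y 0).carrier) :
    (LinearMap.ker (A.d 1)).subtype (A.π1 x) = A.d 0 x := rfl

theorem π1_surjective (A : AcycRes a ℳ) : Function.Surjective A.π1 := by
  rintro ⟨y, hy⟩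
  rw [A.exact_succ 0] at hy
  obtain ⟨x, rfl⟩ := hy
  exact ⟨x, rfl⟩

theorem π1_grHom (A : AcycRes a ℳ) : GrLC.IsGrHom (A.Y 0).gr A.Z1.gr A.π1 :=
  fun g x hx => A.d_grHom 0 g x hx

theorem ker_π1 (A : AcycRes a ℳ) : LinearMap.ker A.π1 = LinearMap.range A.ε := by
  rw [← A.exact_zero]
  ext x
  rw [LinearMap.mem_ker, LinearMap.mem_ker]
  constructor
  · intro h
    exact congrArg Subtype.val h
  · intro h
    exact Subtype.ext h

/-- the shifted resolution, of the first syzygy -/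
noncomputable def shift (A : AcycRes a ℳ) : AcycRes a A.Z1.gr where
  Y n := A.Y (n + 1)
  d n := A.d (n + 1)
  ε := (LinearMap.ker (A.d 1)).subtype
  d_grHom n := A.d_grHom (n + 1)
  ε_grHom := fun _ _ hx => hx
  ε_injective := Subtype.val_injective
  exact_zero := (Submodule.range_subtype _).symm
  exact_succ n := A.exact_succ (n + 1)
  acyc n := A.acyc (n + 1)

end AcycRes

section main

variable [IsNoetherianRing R] [Module.Free ℤ ι] [Module.Finite ℤ ι]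

open AcycRes

/-- the case `p = 1` -/
theorem nonempty_Hcomp_one {a : HomogeneousIdeal 𝒜} {M : Type u} [AddCommGroup M] [Module R M]
    {ℳ : ι → AddSubgroup M} [DirectSum.Decomposition ℳ] [SetLike.GradedSMul 𝒜 ℳ]
    (F : GrLC.StarInjRes 𝒜 ℳ) (A : AcycRes a ℳ) (g : ι) :
    Nonempty (F.Hcomp a 1 g ≃ₗ[GrLC.deg0 𝒜] A.Hs 1 g) := by
  let G0 : GrLC.StarInjRes 𝒜 (A.Y 0).gr := Groth.Agent.Lib.Helper29GrRes.starInjRes 𝒜 (A.Y 0).gr
  let G1 : GrLC.StarInjRes 𝒜 A.Z1.gr := Groth.Agent.Lib.Helper29GrRes.starInjRes 𝒜 A.Z1.gr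
  obtain ⟨c, hc⟩ := exists_cmap F G0 A.ε A.ε_grHom
  obtain ⟨j, hj⟩ := exists_cmap G0 G1 A.π1 A.π1_grHom
  obtain ⟨e1⟩ := nonempty_step_one A.ε_injective A.π1_surjective A.π1_grHom A.ker_π1 c hc j hj a
    (A.acyc 0 G0 1 Nat.one_pos) g
  -- identify the two quotients
  let e : ↥(tors A.Z1.gr a g) ≃ₗ[GrLC.deg0 𝒜] ↥(A.Zs 1 g) :=
    { toFun := fun x => ⟨(LinearMap.ker (A.d 1)).subtype x.1,
        ⟨⟨(tors_deg x), map_mem_gam (LinearMap.ker (A.d 1)).subtype _ (tors_gam x)⟩,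
          (x.1 : ↥(LinearMap.ker (A.d 1))).2⟩⟩
      map_add' := fun x y => rfl
      map_smul' := fun r x => rfl
      invFun := fun y => ⟨⟨y.1, (A.mem_Zs.1 y.2).2⟩, ⟨(A.mem_Zs.1 y.2).1.1,
        mem_gam_of_map_mem (LinearMap.ker (A.d 1)).subtype Subtype.val_injective _
          (A.mem_Zs.1 y.2).1.2⟩⟩
      left_inv := fun x => rfl
      right_inv := fun y => rfl }
  suffices key : Submodule.map (e : ↥(tors A.Z1.gr a g) →ₗ[GrLC.deg0 𝒜] ↥(A.Zs 1 g))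
      (Submodule.comap (tors A.Z1.gr a g).subtype
        (Submodule.map (A.π1.restrictScalars (GrLC.deg0 𝒜)) (tors (A.Y 0).gr a g))) =
      Submodule.comap (A.Zs 1 g).subtype (A.Bs 1 g) from
    ⟨e1.trans (Submodule.Quotient.equiv _ _ e key)⟩
  ext y
  rw [Submodule.mem_map, Submodule.mem_comap]
  constructor
  · rintro ⟨x, hx, rfl⟩
    rw [Submodule.mem_comap] at hx
    obtain ⟨u, hu, hux⟩ := hx
    refine ⟨u, hu, ?_⟩
    exact congrArg Subtype.val hux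
  · rintro ⟨u, hu, huy⟩
    refine ⟨e.symm y, ?_, e.apply_symm_apply y⟩
    rw [Submodule.mem_comap]
    refine ⟨u, hu, ?_⟩
    apply Subtype.ext
    exact huy

/-- **graded local cohomology may be computed from an acyclic resolution** -/
theorem nonempty_Hcomp_equiv_Hs {a : HomogeneousIdeal 𝒜} (p : ℕ) :
    ∀ {M : Type u} [AddCommGroup M] [Module R M]
    {ℳ : ι → AddSubgroup M} [DirectSum.Decomposition ℳ] [SetLike.GradedSMul 𝒜 ℳ]
    (F : GrLC.StarInjRes 𝒜 ℳ) (A : AcycRes a ℳ) (g : ι),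
    Nonempty (F.Hcomp a p g ≃ₗ[GrLC.deg0 𝒜] A.Hs p g) := by
  induction p with
  | zero =>
    intro M _ _ ℳ _ _ F A g
    obtain ⟨e1⟩ := nonempty_Hcomp_zero F a g
    obtain ⟨e2⟩ := A.nonempty_tors_equiv_Zs g
    obtain ⟨e3⟩ := A.nonempty_Hs_zero g
    exact ⟨(e1.trans e2).trans e3.symm⟩
  | succ p ih =>
    intro M _ _ ℳ _ _ F A g
    rcases p with _ | p
    · exact nonempty_Hcomp_one F A g
    · let G0 : GrLC.StarInjRes 𝒜 (A.Y 0).gr :=
        Groth.Agent.Lib.Helper29GrRes.starInjRes 𝒜 (A.Y 0).gr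
      let G1 : GrLC.StarInjRes 𝒜 A.Z1.gr := Groth.Agent.Lib.Helper29GrRes.starInjRes 𝒜 A.Z1.gr
      obtain ⟨c, hc⟩ := exists_cmap F G0 A.ε A.ε_grHom
      obtain ⟨j, hj⟩ := exists_cmap G0 G1 A.π1 A.π1_grHom
      obtain ⟨e1⟩ := nonempty_step_succ A.ε_injective A.π1_surjective A.π1_grHom A.ker_π1 c hc j hj
        a (p + 1) (A.acyc 0 G0 (p + 1) (Nat.succ_pos p)) (A.acyc 0 G0 (p + 1 + 1) (Nat.succ_pos _)) g
      obtain ⟨e2⟩ := ih G1 A.shift g
      exact ⟨e1.symm.trans e2⟩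

end main

section ofStar

variable [IsNoetherianRing R] [Module.Free ℤ ι] [Module.Finite ℤ ι]

/-- a *injective module is acyclic -/
theorem isAcyc_of_isStarInj (a : HomogeneousIdeal 𝒜) (N : GrLC.GMod.{u} 𝒜)
    (hN : GrLC.IsStarInj 𝒜 N.gr) : IsAcyc a N :=
  isAcyc_of_locCoh a N fun p hp =>
    Groth.Agent.S13217.result R 𝒜 a N.carrier N.gr hN p hp

/-- a *injective resolution is an acyclic resolution -/
def ofStarInjRes (a : HomogeneousIdeal 𝒜) {M : Type u} [AddCommGroup M] [Module R M]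
    {ℳ : ι → AddSubgroup M} [DirectSum.Decomposition ℳ] [SetLike.GradedSMul 𝒜 ℳ]
    (E : GrLC.StarInjRes 𝒜 ℳ) : AcycRes a ℳ where
  Y := E.X
  d := E.d
  ε := E.ε
  d_grHom := E.d_grHom
  ε_grHom := E.ε_grHom
  ε_injective := E.ε_injective
  exact_zero := E.exact_zero
  exact_succ := E.exact_succ
  acyc n := isAcyc_of_isStarInj a (E.X n) (E.starInj n)

end ofStar

end Groth.Agent.Lib.Seat91.GrAcycRes
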