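import Groth.Agent.Lib.Seat91GrTop

/-!
# Divisibility of the top graded local cohomology by ideals of small dimension (seat 91)

`smul_top_eq_top_of_dim_quot_lt`: let `J` be an ideal generated by finitely many homogeneous
elements with `dim R/J < i` and `i + 1 > dim R`. Then `J • H^i_a(M) = H^i_a(M)` for every finite
graded module `M` (right exactness of `H^i_a` plus Grothendieck vanishing for `M / JM`).

Namespace `Groth.Agent.Lib.Seat91.GrTopQ`.
-/

set_option autoImplicit false
set_option linter.unusedSectionVars false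
set_option linter.style.haveILetI false
universe u

open DirectSum Groth.Agent.Lib.Seat91.GrCx Groth.Agent.Lib.Seat91.GrRX
  Groth.Agent.Lib.Seat91.GrVanish Groth.Agent.Lib.Helper29GrQuot Groth.Agent.Lib.Helper29GrGam
  Groth.Agent.Lib.Helper29GrShift Groth.Agent.Lib.Seat86.GrProd Groth.Agent.Lib.Seat91.GrTop

namespace Groth.Agent.Lib.Seat91.GrTopQ

variable {ι : Type} [AddCommGroup ι] [DecidableEq ι] [Module.Free ℤ ι] [Module.Finite ℤ ι]
variable {R : Type u} [CommRing R] [IsNoetherianRing R] {𝒜 : ι → AddSubgroup R} [GradedRing 𝒜]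

theorem H_subsingleton_of_supportDim_lt {M : Type u} [AddCommGroup M] [Module R M]
    [Module.Finite R M] {ℳ : ι → AddSubgroup M} [DirectSum.Decomposition ℳ] [SetLike.GradedSMul 𝒜 ℳ]
    (E : GrLC.StarInjRes 𝒜 ℳ) (a : HomogeneousIdeal 𝒜) (i : ℕ)
    (h : Module.supportDim R M < ((i : ℕ) : WithBot ℕ∞)) : Subsingleton (E.H a i) := by
  obtain ⟨e⟩ := Groth.Agent.S13224.result R 𝒜 a M ℳ E i
  have hz := Groth.Agent.Lib.Helper8.GV.H_eq_zero_of_supportDim_lt a.toIdeal i M h
  have : Subsingleton (LocCoh.H a.toIdeal i M) := ⟨fun x y => by rw [hz x, hz y]⟩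
  exact e.toEquiv.subsingleton

/-- the induction: modules killed by the generators outside `T` -/
theorem smul_top_eq_top_of_dim_quot_lt_aux (G : Finset R) (hG : ∀ x ∈ G, ∃ k : ι, x ∈ 𝒜 k)
    (J : Ideal R) (hJ : J = Ideal.span (G : Set R)) (a : HomogeneousIdeal 𝒜) (i : ℕ)
    (hdim : ringKrullDim R < ((i + 1 : ℕ) : WithBot ℕ∞))
    (hJdim : ringKrullDim (R ⧸ J) < ((i : ℕ) : WithBot ℕ∞)) (T : Finset R) :
    T ⊆ G → ∀ (M : Type u) [AddCommGroup M] [Module R M] [Module.Finite R M]
      (ℳ : ι → AddSubgroup M) [DirectSum.Decomposition ℳ] [SetLike.GradedSMul 𝒜 ℳ],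
      (∀ y ∈ G, y ∉ T → ∀ m : M, y • m = 0) → ∀ E : GrLC.StarInjRes 𝒜 ℳ,
        J • (⊤ : Submodule R (E.H a i)) = ⊤ := by
  classical
  induction T using Finset.induction_on with
  | empty =>
    intro _ M _ _ _ ℳ _ _ hkill E
    have hann : J ≤ Module.annihilator R M := by
      rw [hJ]
      apply Ideal.span_le.2
      intro y hy
      rw [SetLike.mem_coe, Module.mem_annihilator]
      exact fun m => hkill y hy (Finset.notMem_empty y) m
    have hsd : Module.supportDim R M < ((i : ℕ) : WithBot ℕ∞) := by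
      rw [Module.supportDim_eq_ringKrullDim_quotient_annihilator]
      refine lt_of_le_of_lt ?_ hJdim
      exact ringKrullDim_le_of_surjective (Ideal.Quotient.factor hann)
        (Ideal.Quotient.factor_surjective hann)
    have := H_subsingleton_of_supportDim_lt E a i hsd
    exact Subsingleton.elim _ _
  | insert x T' hxT' ih =>
    intro hTG M _ _ _ ℳ _ _ hkill E
    have hxG : x ∈ G := hTG (Finset.mem_insert_self x T')
    have hT'G : T' ⊆ G := fun y hy => hTG (Finset.mem_insert_of_mem hy)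
    obtain ⟨k, hxk⟩ := hG x hxG
    have hP := range_smul_isHomogeneous ℳ hxk
    letI : DirectSum.Decomposition
        (quotGr ℳ (LinearMap.range (x • (LinearMap.id : M →ₗ[R] M)))) :=
      quotDecomposition ℳ _ hP
    haveI : SetLike.GradedSMul 𝒜
        (quotGr ℳ (LinearMap.range (x • (LinearMap.id : M →ₗ[R] M)))) :=
      quot_gradedSMul ℳ _ 𝒜
    have hkillN : ∀ y ∈ G, y ∉ T' →
        ∀ n : M ⧸ LinearMap.range (x • (LinearMap.id : M →ₗ[R] M)), y • n = 0 := by
      intro y hyG hyT' n
      obtain ⟨m, rfl⟩ := Submodule.Quotient.mk_surjective _ n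
      rw [← Submodule.Quotient.mk_smul, Submodule.Quotient.mk_eq_zero]
      by_cases hyx : y = x
      · rw [hyx]
        exact ⟨m, rfl⟩
      · have : y ∉ insert x T' := by
          rw [Finset.mem_insert]
          rintro (h | h)
          · exact hyx h
          · exact hyT' h
        rw [hkill y hyG this m]
        exact zero_mem _
    have IH := ih hT'G (M ⧸ LinearMap.range (x • (LinearMap.id : M →ₗ[R] M)))
      (quotGr ℳ (LinearMap.range (x • (LinearMap.id : M →ₗ[R] M)))) hkillN
      (Groth.Agent.Lib.Helper29GrRes.starInjRes 𝒜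
        (quotGr ℳ (LinearMap.range (x • (LinearMap.id : M →ₗ[R] M)))))
    obtain ⟨p, hps, hpk, -⟩ := exists_right_exact_smul
      (𝒩 := quotGr ℳ (LinearMap.range (x • (LinearMap.id : M →ₗ[R] M)))) x k hxk
      (LinearMap.range (x • (LinearMap.id : M →ₗ[R] M))).mkQ
      (Submodule.mkQ_surjective _) (fun g m hm => ⟨m, hm, rfl⟩) (Submodule.ker_mkQ _) E
      (Groth.Agent.Lib.Helper29GrRes.starInjRes 𝒜
        (quotGr ℳ (LinearMap.range (x • (LinearMap.id : M →ₗ[R] M))))) a i hdim
    have hxJ : x ∈ J := by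
      rw [hJ]
      exact Ideal.subset_span hxG
    rw [eq_top_iff]
    intro u _
    have h1 : p u ∈ (J • (⊤ : Submodule R (E.H a i))).map p := by
      rw [Submodule.map_smul'', Submodule.map_top, LinearMap.range_eq_top.2 hps, IH]
      exact Submodule.mem_top
    obtain ⟨u', hu', hpu'⟩ := h1
    have h2 : p (u - u') = 0 := by rw [map_sub, hpu', sub_self]
    obtain ⟨y', hy'⟩ := (hpk _).1 h2
    have h3 : u = u' + x • y' := by rw [hy']; abel
    rw [h3]
    exact add_mem hu' (Submodule.smul_mem_smul hxJ Submodule.mem_top)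

/-- **divisibility of the top graded local cohomology by an ideal of small dimension** -/
theorem smul_top_eq_top_of_dim_quot_lt (G : Finset R) (hG : ∀ x ∈ G, ∃ k : ι, x ∈ 𝒜 k)
    (J : Ideal R) (hJ : J = Ideal.span (G : Set R)) (a : HomogeneousIdeal 𝒜) (i : ℕ)
    (hdim : ringKrullDim R < ((i + 1 : ℕ) : WithBot ℕ∞))
    (hJdim : ringKrullDim (R ⧸ J) < ((i : ℕ) : WithBot ℕ∞))
    {M : Type u} [AddCommGroup M] [Module R M] [Module.Finite R M]
    {ℳ : ι → AddSubgroup M} [DirectSum.Decomposition ℳ] [SetLike.GradedSMul 𝒜 ℳ]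
    (E : GrLC.StarInjRes 𝒜 ℳ) : J • (⊤ : Submodule R (E.H a i)) = ⊤ :=
  smul_top_eq_top_of_dim_quot_lt_aux G hG J hJ a i hdim hJdim G (Finset.Subset.refl G) M ℳ
    (fun _ hy hy' => absurd hy hy') E

omit [Module.Free ℤ ι] [Module.Finite ℤ ι] in
/-- a homogeneous ideal of a Noetherian graded ring is generated by finitely many homogeneous
elements -/
theorem exists_homogeneous_generators (J : Ideal R) (hJ : J.IsHomogeneous 𝒜) :
    ∃ G : Finset R, (∀ x ∈ G, ∃ k : ι, x ∈ 𝒜 k) ∧ J = Ideal.span (G : Set R) := by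
  classical
  obtain ⟨G₀, hG₀⟩ := (IsNoetherian.noetherian J : J.FG)
  refine ⟨G₀.biUnion fun x => (DFinsupp.support (decompose 𝒜 x)).image
    fun i => ((decompose 𝒜 x) i : R), ?_, ?_⟩
  · intro c hc
    rw [Finset.mem_biUnion] at hc
    obtain ⟨x, _, hx⟩ := hc
    rw [Finset.mem_image] at hx
    obtain ⟨i, _, rfl⟩ := hx
    exact ⟨i, SetLike.coe_mem _⟩
  · apply le_antisymm
    · rw [← hG₀]
      apply Submodule.span_le.2
      intro x hx
      rw [← DirectSum.sum_support_decompose 𝒜 x]
      refine Submodule.sum_mem _ fun i hi => Submodule.subset_span ?_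
      rw [Finset.mem_coe, Finset.mem_biUnion]
      exact ⟨x, hx, Finset.mem_image.2 ⟨i, hi, rfl⟩⟩
    · apply Ideal.span_le.2
      intro c hc
      rw [Finset.mem_coe, Finset.mem_biUnion] at hc
      obtain ⟨x, hx, hx'⟩ := hc
      rw [Finset.mem_image] at hx'
      obtain ⟨i, _, rfl⟩ := hx'
      have hxJ : x ∈ J := by
        rw [← hG₀]
        exact Submodule.subset_span hx
      exact hJ i hxJ

end Groth.Agent.Lib.Seat91.GrTopQ
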