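import Groth.Agent.Lib.Seat97HilbStd
import Groth.Agent.Lib.Seat91HilbMono
import Groth.Agent.Lib.Seat91DimAux

/-!
# A standard graded quotient with a one-dimensional piece has Krull dimension at most one (seat 91)

`R` a Noetherian `ℤ`-graded algebra over a field `k`, `R_n = 0` for `n < 0`, `R_0 = k`, generated in
degree one, `J` a homogeneous ideal.  If `(R/J)_{i₀}` is spanned by one element for some `i₀ ≥ 1`,
then `dim R/J ≤ 1` (`ringKrullDim_quotient_le_one`): modulo every homogeneous prime `P ⊇ J` the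
space `R_1` is spanned by one element `x`, so `R/P` is a quotient of `k[X]`.

Namespace `Groth.Agent.Lib.Seat91.HilbBound`.
-/

set_option autoImplicit false
set_option linter.unusedSectionVars false
set_option linter.style.haveILetI false
universe u

open DirectSum Polynomial Groth.Agent.Lib.Seat91.GrIrr Groth.Agent.Lib.Seat97.HilbStd

namespace Groth.Agent.Lib.Seat91.HilbBound

variable {k : Type u} [Field k] {R : Type u} [CommRing R] [Algebra k R]
  (𝒜 : ℤ → Submodule k R) [GradedAlgebra 𝒜]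

omit [GradedAlgebra 𝒜] in
theorem smul_mem_ideal (P : Ideal R) (c : k) {z : R} (hz : z ∈ P) : c • z ∈ P := by
  rw [Algebra.smul_def]
  exact Ideal.mul_mem_left _ _ hz

/-- modulo a homogeneous prime containing `J`, the degree one piece is spanned by one element -/
theorem exists_span_mod_prime (J : Ideal R) (i₀ : ℕ) (hi₀ : 1 ≤ i₀) (t : R)
    (ht : ∀ r ∈ 𝒜 (i₀ : ℤ), ∃ c : k, r - c • t ∈ J) (P : Ideal R) [hP : P.IsPrime] (hJP : J ≤ P) :
    ∃ x : R, ∀ y ∈ 𝒜 1, ∃ c : k, y - c • x ∈ P := by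
  classical
  by_cases hall : ∀ y ∈ 𝒜 1, y ∈ P
  · exact ⟨0, fun y hy => ⟨0, by rw [smul_zero, sub_zero]; exact hall y hy⟩⟩
  · rw [not_forall] at hall
    obtain ⟨x, hx⟩ := hall
    rw [Classical.not_imp] at hx
    obtain ⟨hx1, hxP⟩ := hx
    refine ⟨x, fun y hy => ?_⟩
    obtain ⟨i₁, rfl⟩ : ∃ i₁, i₀ = i₁ + 1 := ⟨i₀ - 1, by omega⟩
    have hxpow : ∀ n : ℕ, x ^ n ∈ 𝒜 (n : ℤ) := by
      intro n
      have := SetLike.pow_mem_graded n hx1
      simpa using this
    have hx1' : x ^ (i₁ + 1) ∈ 𝒜 ((i₁ + 1 : ℕ) : ℤ) := hxpow (i₁ + 1)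
    have hxy : x ^ i₁ * y ∈ 𝒜 ((i₁ + 1 : ℕ) : ℤ) := by
      have := SetLike.mul_mem_graded (hxpow i₁) hy
      rwa [Nat.cast_add, Nat.cast_one]
    obtain ⟨α, hα⟩ := ht _ hx1'
    obtain ⟨β, hβ⟩ := ht _ hxy
    have hα' := hJP hα
    have hβ' := hJP hβ
    have hxn : ∀ n : ℕ, x ^ n ∉ P := fun n h => hxP (hP.mem_of_pow_mem n h)
    have hα0 : α ≠ 0 := by
      intro h
      rw [h, zero_smul, sub_zero] at hα'
      exact hxn _ hα'
    have h1 : x ^ i₁ * (α • y - β • x) ∈ P := by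
      have h2 : x ^ i₁ * (α • y - β • x) =
          α • (x ^ i₁ * y - β • t) - β • (x ^ (i₁ + 1) - α • t) := by
        rw [smul_sub, smul_sub, mul_sub, mul_smul_comm, mul_smul_comm, pow_succ, smul_comm α β t]
        abel
      rw [h2]
      exact sub_mem (smul_mem_ideal P α hβ') (smul_mem_ideal P β hα')
    have h3 : α • y - β • x ∈ P := (hP.mem_or_mem h1).resolve_left (hxn i₁)
    refine ⟨α⁻¹ * β, ?_⟩
    have h4 : y - (α⁻¹ * β) • x = α⁻¹ • (α • y - β • x) := by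
      rw [smul_sub, smul_smul, smul_smul, inv_mul_cancel₀ hα0, one_smul]
    rw [h4]
    exact smul_mem_ideal P _ h3

/-- **a standard graded quotient with a piece of dimension `≤ 1` has dimension `≤ 1`** -/
theorem ringKrullDim_quotient_le_one [IsNoetherianRing R]
    (hpos : ∀ n : ℤ, n < 0 → 𝒜 n = ⊥) (h0 : 𝒜 0 = Submodule.span k {(1 : R)})
    (hstd : Ideal.span (⋃ j ∈ Set.Ioi (0 : ℤ), (𝒜 j : Set R)) =
      Ideal.span ((𝒜 1 : Submodule k R) : Set R))
    (J : Ideal R) (hJ : J.IsHomogeneous 𝒜) (i₀ : ℕ) (hi₀ : 1 ≤ i₀) (t : R)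
    (ht : ∀ r ∈ 𝒜 (i₀ : ℤ), ∃ c : k, r - c • t ∈ J) : ringKrullDim (R ⧸ J) ≤ 1 := by
  classical
  haveI : Module.Finite k (𝒜 1) := Groth.Agent.Lib.Seat91.HilbMono.finite_piece 𝒜 h0 1
  obtain ⟨n, xs, hxs⟩ := exists_isStd 𝒜 hpos h0 hstd
  have hsurj := hxs.aeval_surjective
  apply Groth.Agent.Lib.Seat91.DimAux.ringKrullDim_le_of_forall_quotient_le
  intro 𝔭 h𝔭
  haveI := h𝔭
  -- the composite `R → R/J → (R/J)/𝔭`
  let ψ : R →ₐ[k] ((R ⧸ J) ⧸ 𝔭) := (Ideal.Quotient.mkₐ k 𝔭).comp (Ideal.Quotient.mkₐ k J)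
  have hψsurj : Function.Surjective ψ :=
    (Ideal.Quotient.mkₐ_surjective k 𝔭).comp (Ideal.Quotient.mkₐ_surjective k J)
  let P : Ideal R := RingHom.ker ψ.toRingHom
  haveI hPprime : P.IsPrime := RingHom.ker_isPrime ψ.toRingHom
  have hJP : J ≤ P := by
    intro r hr
    change ψ r = 0
    change (Ideal.Quotient.mk 𝔭) ((Ideal.Quotient.mk J) r) = 0
    rw [Ideal.Quotient.eq_zero_iff_mem.2 hr, map_zero]
  -- the homogeneous core
  let Q : Ideal R := (P.homogeneousCore 𝒜).toIdeal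
  haveI hQprime : Q.IsPrime := hPprime.homogeneousCore
  have hQP : Q ≤ P := Ideal.toIdeal_homogeneousCore_le 𝒜 P
  have hJQ : J ≤ Q := by
    have := Ideal.homogeneousCore_mono 𝒜 hJP
    have h2 : (J.homogeneousCore 𝒜).toIdeal = J := hJ.toIdeal_homogeneousCore_eq_self
    intro r hr
    rw [← h2] at hr
    exact this hr
  obtain ⟨x, hx⟩ := exists_span_mod_prime 𝒜 J i₀ hi₀ t ht Q hJQ
  have hc : ∀ i, ∃ c : k, xs i - c • x ∈ Q := fun i => hx (xs i) (hxs.mem i)
  choose c hc using hc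
  let θ : k[X] →ₐ[k] ((R ⧸ J) ⧸ 𝔭) := Polynomial.aeval (ψ x)
  let σ : MvPolynomial (Fin (n + 1)) k →ₐ[k] k[X] :=
    MvPolynomial.aeval fun i => Polynomial.C (c i) * Polynomial.X
  have hcomp : θ.comp σ = ψ.comp (MvPolynomial.aeval xs) := by
    apply MvPolynomial.algHom_ext
    intro i
    simp only [AlgHom.comp_apply, σ, θ, MvPolynomial.aeval_X, map_mul, Polynomial.aeval_C,
      Polynomial.aeval_X]
    have h1 : ψ (xs i - c i • x) = 0 := hQP (hc i)
    rw [map_sub, sub_eq_zero, map_smul] at h1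
    rw [h1, Algebra.smul_def]
  have hθsurj : Function.Surjective θ := by
    intro w
    obtain ⟨r, rfl⟩ := hψsurj w
    obtain ⟨p, rfl⟩ := hsurj r
    refine ⟨σ p, ?_⟩
    have := AlgHom.congr_fun hcomp p
    simpa using this
  calc ringKrullDim ((R ⧸ J) ⧸ 𝔭) ≤ ringKrullDim k[X] :=
        ringKrullDim_le_of_surjective θ.toRingHom hθsurj
    _ = 1 := by
        rw [Polynomial.ringKrullDim_of_isNoetherianRing, ringKrullDim_eq_zero_of_field, zero_add]

end Groth.Agent.Lib.Seat91.HilbBound
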