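import Groth.Agent.Lib.Seat91GrRX
import Groth.Agent.Lib.Helper29GrQuot

/-!
# The top graded local cohomology is divisible by the supporting ideal (seat 91)

`smul_top_eq_top`: if `a` is generated by finitely many homogeneous elements, `i > 0` and
`i + 1 > dim R`, then `a • H^i_a(M) = H^i_a(M)` for every finite graded module `M`.
(Right exactness of `H^i_a` plus `H^i_a(M / aM) = 0`.)

Namespace `Groth.Agent.Lib.Seat91.GrTop`.
-/

set_option autoImplicit false
set_option linter.unusedSectionVars false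
set_option linter.style.haveILetI false
universe u

open DirectSum Groth.Agent.Lib.Seat91.GrCx Groth.Agent.Lib.Seat91.GrRX
  Groth.Agent.Lib.Seat91.GrVanish Groth.Agent.Lib.Helper29GrQuot Groth.Agent.Lib.Helper29GrGam
  Groth.Agent.Lib.Helper29GrShift Groth.Agent.Lib.Seat86.GrProd

namespace Groth.Agent.Lib.Seat91.GrTop

variable {ι : Type} [AddCommGroup ι] [DecidableEq ι] [Module.Free ℤ ι] [Module.Finite ℤ ι]
variable {R : Type u} [CommRing R] [IsNoetherianRing R] {𝒜 : ι → AddSubgroup R} [GradedRing 𝒜]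

theorem range_smul_isHomogeneous {M : Type u} [AddCommGroup M] [Module R M] (ℳ : ι → AddSubgroup M)
    [DirectSum.Decomposition ℳ] [SetLike.GradedSMul 𝒜 ℳ] {x : R} {k : ι} (hx : x ∈ 𝒜 k) :
    (LinearMap.range (x • (LinearMap.id : M →ₗ[R] M))).IsHomogeneous ℳ := by
  have hμg : GrLC.IsGrHom (shiftGr ℳ (-k)) ℳ (x • (LinearMap.id : M →ₗ[R] M)) := by
    intro j m hm
    have hm' : m ∈ ℳ (j + -k) := hm
    have := SetLike.GradedSMul.smul_mem (A := 𝒜) (B := ℳ) hx hm'
    rw [vadd_eq_add, add_comm, neg_add_cancel_right] at this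
    exact this
  rw [← Submodule.map_top]
  exact map_isHomogeneous (shiftGr ℳ (-k)) ℳ _ hμg (top_isHomogeneous _)

/-- the induction: modules killed by the generators outside `T` -/
theorem smul_top_eq_top_aux (G : Finset R) (hG : ∀ x ∈ G, ∃ k : ι, x ∈ 𝒜 k)
    (a : HomogeneousIdeal 𝒜) (ha : a.toIdeal = Ideal.span (G : Set R)) (i : ℕ) (hi : 0 < i)
    (hdim : ringKrullDim R < ((i + 1 : ℕ) : WithBot ℕ∞)) (T : Finset R) :
    T ⊆ G → ∀ (M : Type u) [AddCommGroup M] [Module R M] [Module.Finite R M]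
      (ℳ : ι → AddSubgroup M) [DirectSum.Decomposition ℳ] [SetLike.GradedSMul 𝒜 ℳ],
      (∀ y ∈ G, y ∉ T → ∀ m : M, y • m = 0) → ∀ E : GrLC.StarInjRes 𝒜 ℳ,
        a.toIdeal • (⊤ : Submodule R (E.H a i)) = ⊤ := by
  classical
  induction T using Finset.induction_on with
  | empty =>
    intro _ M _ _ _ ℳ _ _ hkill E
    have htor : ∀ m : M, m ∈ GrLC.gam a.toIdeal M := by
      intro m
      refine ⟨1, fun r hr => ?_⟩
      rw [pow_one, ha] at hr
      induction hr using Submodule.span_induction with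
      | mem y hy => exact hkill y hy (Finset.notMem_empty y) m
      | zero => exact zero_smul R m
      | add y z _ _ hy hz => rw [add_smul, hy, hz, add_zero]
      | smul s y _ hy => rw [smul_eq_mul, mul_smul, hy, smul_zero]
    have := H_subsingleton_of_torsion E a htor i hi
    exact Subsingleton.elim _ _
  | insert x T' hxT' ih =>
    intro hTG M _ _ _ ℳ _ _ hkill E
    have hxG : x ∈ G := hTG (Finset.mem_insert_self x T')
    have hT'G : T' ⊆ G := fun y hy => hTG (Finset.mem_insert_of_mem hy)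
    obtain ⟨k, hxk⟩ := hG x hxG
    have hP := range_smul_isHomogeneous ℳ hxk
    letI : DirectSum.Decomposition
        (quotGr ℳ (LinearMap.range (x • (LinearMap.id : M →ₗ[R] M)))) :=
      quotDecomposition ℳ _ hP
    haveI : SetLike.GradedSMul 𝒜
        (quotGr ℳ (LinearMap.range (x • (LinearMap.id : M →ₗ[R] M)))) :=
      quot_gradedSMul ℳ _ 𝒜
    have hkillN : ∀ y ∈ G, y ∉ T' →
        ∀ n : M ⧸ LinearMap.range (x • (LinearMap.id : M →ₗ[R] M)), y • n = 0 := by
      intro y hyG hyT' n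
      obtain ⟨m, rfl⟩ := Submodule.Quotient.mk_surjective _ n
      rw [← Submodule.Quotient.mk_smul, Submodule.Quotient.mk_eq_zero]
      by_cases hyx : y = x
      · rw [hyx]
        exact ⟨m, rfl⟩
      · have : y ∉ insert x T' := by
          rw [Finset.mem_insert]
          rintro (h | h)
          · exact hyx h
          · exact hyT' h
        rw [hkill y hyG this m]
        exact zero_mem _
    have IH := ih hT'G (M ⧸ LinearMap.range (x • (LinearMap.id : M →ₗ[R] M)))
      (quotGr ℳ (LinearMap.range (x • (LinearMap.id : M →ₗ[R] M)))) hkillN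
      (Groth.Agent.Lib.Helper29GrRes.starInjRes 𝒜
        (quotGr ℳ (LinearMap.range (x • (LinearMap.id : M →ₗ[R] M)))))
    obtain ⟨p, hps, hpk, -⟩ := exists_right_exact_smul
      (𝒩 := quotGr ℳ (LinearMap.range (x • (LinearMap.id : M →ₗ[R] M)))) x k hxk
      (LinearMap.range (x • (LinearMap.id : M →ₗ[R] M))).mkQ
      (Submodule.mkQ_surjective _) (fun g m hm => ⟨m, hm, rfl⟩) (Submodule.ker_mkQ _) E
      (Groth.Agent.Lib.Helper29GrRes.starInjRes 𝒜
        (quotGr ℳ (LinearMap.range (x • (LinearMap.id : M →ₗ[R] M))))) a i hdim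
    have hxa : x ∈ a.toIdeal := by
      rw [ha]
      exact Ideal.subset_span hxG
    rw [eq_top_iff]
    intro u _
    have h1 : p u ∈ (a.toIdeal • (⊤ : Submodule R (E.H a i))).map p := by
      rw [Submodule.map_smul'', Submodule.map_top, LinearMap.range_eq_top.2 hps, IH]
      exact Submodule.mem_top
    obtain ⟨u', hu', hpu'⟩ := h1
    have h2 : p (u - u') = 0 := by rw [map_sub, hpu', sub_self]
    obtain ⟨y', hy'⟩ := (hpk _).1 h2
    have h3 : u = u' + x • y' := by rw [hy']; abel
    rw [h3]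
    exact add_mem hu' (Submodule.smul_mem_smul hxa Submodule.mem_top)

/-- **divisibility of the top graded local cohomology** -/
theorem smul_top_eq_top (G : Finset R) (hG : ∀ x ∈ G, ∃ k : ι, x ∈ 𝒜 k)
    (a : HomogeneousIdeal 𝒜) (ha : a.toIdeal = Ideal.span (G : Set R)) (i : ℕ) (hi : 0 < i)
    (hdim : ringKrullDim R < ((i + 1 : ℕ) : WithBot ℕ∞))
    {M : Type u} [AddCommGroup M] [Module R M] [Module.Finite R M]
    {ℳ : ι → AddSubgroup M} [DirectSum.Decomposition ℳ] [SetLike.GradedSMul 𝒜 ℳ]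
    (E : GrLC.StarInjRes 𝒜 ℳ) : a.toIdeal • (⊤ : Submodule R (E.H a i)) = ⊤ :=
  smul_top_eq_top_aux G hG a ha i hi hdim G (Finset.Subset.refl G) M ℳ
    (fun _ hy hy' => absurd hy hy') E

end Groth.Agent.Lib.Seat91.GrTop
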