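import Groth.Agent.Lib.Seat91GrMatlisB
import Groth.Agent.Lib.Seat91GrTopQ
import Groth.Agent.Lib.Seat91HilbBound
import Groth.Agent.Lib.Seat91CompGrading
import Groth.Agent.Lib.Seat86GrLen
import Groth.Agent.S18656
import Groth.Agent.S13225

/-!
# Pieces of the canonical module of a standard graded ring of dimension `≥ 2` (seat 91)

`two_le_finrank`: `R` standard graded over the field `R_0`, `dim R = n ≥ 2`, `C` a *canonical module,
`a = a(R)`.  Then `dim_k C_j ≥ 2` for all `j > -a`.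

Route (no Cohen–Macaulay hypothesis needed): `H^n_m(R)_a ≠ 0` gives a nonzero homogeneous map
`C → E'` of degree `a`, hence a nonzero homogeneous `w ∈ C_i` with `i ≤ -a < j` (`E'` lives in degrees
`≤ 0`).  With `J = ann(w)`: `E'` cogenerates, so `J • Hom(C, E') ≠ Hom(C, E')`, so `J • H^n_m(R) ≠ H^n_m(R)`,
so `dim R/J ≥ n ≥ 2` (divisibility of the top local cohomology by ideals of small dimension).  But if
`dim_k C_j ≤ 1` then `(R/J)_{j-i} ≅ R_{j-i} w ⊆ C_j` has dimension `≤ 1` and `dim R/J ≤ 1`.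

Namespace `Groth.Agent.Lib.Seat91.GrCanon`.
-/

set_option autoImplicit false
set_option linter.unusedSectionVars false
set_option linter.style.haveILetI false
set_option maxHeartbeats 1000000
universe u

open DirectSum Groth.Agent.Lib.Seat91.GrMatlisB Groth.Agent.Lib.Helper29GrShift
  Groth.Agent.Lib.Helper29GrHom

namespace Groth.Agent.Lib.Seat91.GrCanon

variable {R : Type u} [CommRing R] (𝒜 : ℤ → AddSubgroup R) [GradedRing 𝒜]

/-- components for the `R_0`-submodule grading are the components for the subgroup grading -/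
theorem coe_decompose_comp (x : R) (i : ℤ) :
    ((@DirectSum.decompose _ _ _ _ _ _ _ (GrLC.comp 𝒜 𝒜)
      (Groth.Agent.Lib.Seat91.CompGrading.compDecomposition 𝒜) x) i : R) =
      ((decompose 𝒜 x) i : R) := rfl

variable {C : Type u} [AddCommGroup C] [Module R C] (𝒞 : ℤ → AddSubgroup C)
  [DirectSum.Decomposition 𝒞] [SetLike.GradedSMul 𝒜 𝒞]

/-- the annihilator of a homogeneous element is a homogeneous ideal -/
theorem ker_toSpanSingleton_isHomogeneous {i : ℤ} {w : C} (hw : w ∈ 𝒞 i) :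
    (LinearMap.ker (LinearMap.toSpanSingleton R C w)).IsHomogeneous 𝒜 := by
  classical
  letI : DirectSum.Decomposition (shiftGr 𝒞 i) := shiftDecomposition 𝒞 i
  refine ker_isHomogeneous (shiftGr 𝒞 i) 𝒜 (LinearMap.toSpanSingleton R C w) ?_
  intro g r hr
  have := SetLike.GradedSMul.smul_mem (A := 𝒜) (B := 𝒞) hr hw
  rwa [vadd_eq_add] at this

theorem two_le_finrank [IsNoetherianRing R] (hpos : ∀ n : ℤ, n < 0 → 𝒜 n = ⊥)
    (h0 : IsField (GrLC.deg0 𝒜)) (m : HomogeneousIdeal 𝒜) (hm : GrLC.IsStarLocal 𝒜 m)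
    (hmsp : m.toIdeal = Ideal.span (⋃ n ∈ Set.Ioi (0 : ℤ), (𝒜 n : Set R)))
    (hstd : Ideal.span (⋃ n ∈ Set.Ioi (0 : ℤ), (𝒜 n : Set R)) =
      Ideal.span ((𝒜 1 : AddSubgroup R) : Set R))
    (n : ℕ) (hn : ringKrullDim R = n) (h2 : 2 ≤ n) (I : GrLC.StarInjRes 𝒜 𝒜) (a : ℤ)
    (ha : GrLC.endDeg (I.Hgr m n) = ((a : WithTop ℤ) : WithBot (WithTop ℤ)))
    {E' : Type u} [AddCommGroup E'] [Module R E'] (𝓔 : ℤ → AddSubgroup E')
    [DirectSum.Decomposition 𝓔] [SetLike.GradedSMul 𝒜 𝓔] (e : (R ⧸ m.toIdeal) →ₗ[R] E')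
    (he : GrLC.IsStarInjHull 𝒜 (GrLC.quotGr 𝒜 m) 𝓔 e)
    (hC : GrLC.IsStarCanonical 𝒜 𝒞 𝓔 m n I) (j : ℤ) (hj : -a < j) :
    2 ≤ Module.finrank (GrLC.deg0 𝒜) (GrLC.comp 𝒜 𝒞 j) := by
  classical
  by_contra hlt
  rw [not_le] at hlt
  obtain ⟨hCfin, φ, hφ⟩ := hC
  haveI := hCfin
  letI : Field (GrLC.deg0 𝒜) := h0.toField
  have hmsp' : ∀ i : ℤ, 0 < i → ∀ r ∈ 𝒜 i, r ∈ m.toIdeal := by
    intro i hi r hr
    rw [hmsp]
    exact Ideal.subset_span (Set.mem_biUnion (Set.mem_Ioi.2 hi) hr)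
  -- (1) a nonzero class of degree `a`
  have hHa : I.Hcomp m n a ≠ ⊥ :=
    Groth.Agent.S18656.result R 𝒜 hpos h0 m hm hmsp hstd n hn (by omega) I a ha a le_rfl
  obtain ⟨h, hh, hh0⟩ : ∃ h : I.H m n, h ∈ I.Hgr m n a ∧ h ≠ 0 := by
    by_contra hcon
    apply hHa
    rw [eq_bot_iff]
    intro x hx
    rw [Submodule.mem_bot]
    by_contra hx0
    exact hcon ⟨x, hx, hx0⟩
  letI : DirectSum.Decomposition (I.Hgr m n) :=
    (Groth.Agent.S13225.result R 𝒜 m R 𝒜 I n).chooseDecomposition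
  obtain ⟨f₁, hf₁deg, hf₁⟩ := exists_isGrHomDeg_of_mem (𝒜 := 𝒜) 𝒞 𝓔 (I.Hgr m n) φ hφ hh
  have hf₁0 : f₁ ≠ 0 := by
    rintro rfl
    rw [map_zero] at hf₁
    exact hh0 hf₁.symm
  -- (2) a nonzero homogeneous element of degree `i ≤ -a`
  obtain ⟨i, w, hw, hfw⟩ : ∃ (i : ℤ) (w : C), w ∈ 𝒞 i ∧ f₁ w ≠ 0 := by
    by_contra hcon
    apply hf₁0
    apply LinearMap.ext
    intro c
    rw [LinearMap.zero_apply, ← DirectSum.sum_support_decompose 𝒞 c, map_sum]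
    refine Finset.sum_eq_zero fun i _ => ?_
    by_contra hne
    exact hcon ⟨i, _, SetLike.coe_mem _, hne⟩
  have hw0 : w ≠ 0 := by
    rintro rfl
    exact hfw (map_zero _)
  have hia : i + a ≤ 0 := by
    by_contra hpos'
    rw [not_le] at hpos'
    have h1 : f₁ w ∈ 𝓔 (i + a) := hf₁deg i w hw
    rw [piece_eq_bot_of_pos hpos hmsp' he.toIsStarEss hpos'] at h1
    exact hfw ((AddSubgroup.mem_bot).1 h1)
  -- (3) the annihilator of `w`
  let J : Ideal R := LinearMap.ker (LinearMap.toSpanSingleton R C w)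
  have hJmem : ∀ r : R, r ∈ J ↔ r • w = 0 := by
    intro r
    change LinearMap.toSpanSingleton R C w r = 0 ↔ _
    rw [LinearMap.toSpanSingleton_apply]
  have hJhom : J.IsHomogeneous 𝒜 := fun k r hr =>
    ker_toSpanSingleton_isHomogeneous 𝒜 𝒞 hw k hr
  obtain ⟨h', hh'⟩ := exists_hom_apply_ne_zero 𝒞 hm he hw hw0
  have hne := smul_top_ne_top_of_apply_ne_zero J (fun r hr => (hJmem r).1 hr) h' hh'
  -- (4) the Hilbert function bound
  obtain ⟨i₀, hi₀⟩ : ∃ i₀ : ℕ, (i₀ : ℤ) = j - i := ⟨(j - i).toNat, Int.toNat_of_nonneg (by omega)⟩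
  have hi₀1 : 1 ≤ i₀ := by omega
  haveI : IsNoetherian R C := isNoetherian_of_isNoetherianRing_of_finite R C
  haveI : IsNoetherian (GrLC.deg0 𝒜) (GrLC.comp 𝒜 𝒞 j) :=
    Groth.Agent.Lib.Seat86.GrLen.isNoetherian_comp 𝒜 𝒞 j
  haveI : Module.Finite (GrLC.deg0 𝒜) (GrLC.comp 𝒜 𝒞 j) := inferInstance
  have hle1 : Module.finrank (GrLC.deg0 𝒜) (GrLC.comp 𝒜 𝒞 j) ≤ 1 := by omega
  obtain ⟨v, hv⟩ := finrank_le_one_iff.1 hle1
  have hmemj : ∀ r ∈ 𝒜 (i₀ : ℤ), r • w ∈ 𝒞 j := by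
    intro r hr
    have := SetLike.GradedSMul.smul_mem (A := 𝒜) (B := 𝒞) hr hw
    rw [vadd_eq_add, hi₀, sub_add_cancel] at this
    exact this
  obtain ⟨t, ht⟩ : ∃ t : R, ∀ r ∈ GrLC.comp 𝒜 𝒜 (i₀ : ℤ),
      ∃ c : GrLC.deg0 𝒜, r - c • t ∈ J := by
    by_cases hall : ∀ r ∈ 𝒜 (i₀ : ℤ), r • w = 0
    · refine ⟨0, fun r hr => ⟨0, ?_⟩⟩
      rw [smul_zero, sub_zero, hJmem]
      exact hall r hr
    · rw [not_forall] at hall
      obtain ⟨t, ht⟩ := hall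
      rw [Classical.not_imp] at ht
      obtain ⟨ht1, htw⟩ := ht
      refine ⟨t, fun r hr => ?_⟩
      obtain ⟨c₀, hc₀⟩ := hv ⟨t • w, hmemj t ht1⟩
      obtain ⟨c₁, hc₁⟩ := hv ⟨r • w, hmemj r hr⟩
      have hc₀' : (c₀ : R) • (v : C) = t • w := congrArg Subtype.val hc₀
      have hc₁' : (c₁ : R) • (v : C) = r • w := congrArg Subtype.val hc₁
      have hc₀0 : c₀ ≠ 0 := by
        rintro rfl
        apply htw
        rw [← hc₀']
        simp
      refine ⟨c₁ * c₀⁻¹, ?_⟩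
      rw [hJmem, sub_smul, ← hc₁']
      have h3 : ((c₁ * c₀⁻¹) • t) • w = ((c₁ * c₀⁻¹ : GrLC.deg0 𝒜) : R) • (t • w) := by
        rw [Subring.smul_def, smul_eq_mul, mul_smul]
      rw [h3, ← hc₀', ← mul_smul, ← Subring.coe_mul, mul_assoc, inv_mul_cancel₀ hc₀0, mul_one,
        sub_self]
  letI : GradedAlgebra (GrLC.comp 𝒜 𝒜) := Groth.Agent.Lib.Seat91.CompGrading.compGradedAlgebra 𝒜
  have hpos' : ∀ n : ℤ, n < 0 → GrLC.comp 𝒜 𝒜 n = ⊥ := fun n hn =>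
    Groth.Agent.Lib.Seat91.CompGrading.comp_eq_bot 𝒜 (hpos n hn)
  have h0' : GrLC.comp 𝒜 𝒜 0 = Submodule.span (GrLC.deg0 𝒜) {(1 : R)} :=
    Groth.Agent.Lib.Seat91.CompGrading.comp_zero_eq 𝒜
  have hJhom' : J.IsHomogeneous (GrLC.comp 𝒜 𝒜) := fun k r hr => hJhom k hr
  have hdimJ : ringKrullDim (R ⧸ J) ≤ 1 :=
    Groth.Agent.Lib.Seat91.HilbBound.ringKrullDim_quotient_le_one (GrLC.comp 𝒜 𝒜) hpos' h0' hstd
      J hJhom' i₀ hi₀1 t ht
  -- (5) divisibility of the top local cohomology gives the contradiction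
  obtain ⟨G, hG, hJG⟩ := Groth.Agent.Lib.Seat91.GrTopQ.exists_homogeneous_generators J hJhom
  have hdim : ringKrullDim R < ((n + 1 : ℕ) : WithBot ℕ∞) := by
    rw [hn]
    exact_mod_cast Nat.lt_succ_self n
  have hJdim : ringKrullDim (R ⧸ J) < ((n : ℕ) : WithBot ℕ∞) := by
    refine lt_of_le_of_lt hdimJ ?_
    exact_mod_cast h2
  have htop := Groth.Agent.Lib.Seat91.GrTopQ.smul_top_eq_top_of_dim_quot_lt G hG J hJG m n hdim
    hJdim I
  exact hne (smul_top_eq_top_of_equiv φ J htop)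

end Groth.Agent.Lib.Seat91.GrCanon
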