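import Groth.Agent.Lib.Seat91GrCx

/-!
# Comparison theorem over a base map, uniqueness up to homotopy, and independence of graded local
cohomology of the *injective resolution (seat 91)

* `exists_cmap`: a homogeneous map `g : M → N` lifts to a chain map `E → F` of *injective resolutions.
* `exists_htpy`: two lifts of the same map are homotopic; `Hmap_eq_of_base_eq`.
* `exists_equiv`: two *injective resolutions of `M` have isomorphic graded local cohomology, by an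
  `R`-linear equivalence preserving the pieces.

Namespace `Groth.Agent.Lib.Seat91.GrCompare`.
-/

set_option autoImplicit false
set_option linter.unusedSectionVars false
universe u

open DirectSum Groth.Agent.Lib.Seat91.GrCx

namespace Groth.Agent.Lib.Seat91.GrCompare

variable {ι : Type} [AddCommGroup ι] [DecidableEq ι]
variable {R : Type u} [CommRing R] {𝒜 : ι → AddSubgroup R} [GradedRing 𝒜]
variable {M : Type u} [AddCommGroup M] [Module R M] {ℳ : ι → AddSubgroup M}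
  [DirectSum.Decomposition ℳ] [SetLike.GradedSMul 𝒜 ℳ]
variable {N : Type u} [AddCommGroup N] [Module R N] {𝒩 : ι → AddSubgroup N}
  [DirectSum.Decomposition 𝒩] [SetLike.GradedSMul 𝒜 𝒩]

theorem isGrHomDeg_zero_iff {A B : Type u} [AddCommGroup A] [Module R A] [AddCommGroup B] [Module R B]
    (𝓐 : ι → AddSubgroup A) (𝓑 : ι → AddSubgroup B) (f : A →ₗ[R] B) :
    GrLC.IsGrHomDeg 𝓐 𝓑 f 0 ↔ GrLC.IsGrHom 𝓐 𝓑 f := by
  constructor
  · intro h g x hx
    have := h g x hx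
    rwa [add_zero] at this
  · intro h g x hx
    rw [add_zero]
    exact h g x hx

section compare

variable (E : GrLC.StarInjRes 𝒜 ℳ) (F : GrLC.StarInjRes 𝒜 𝒩) (g : M →ₗ[R] N)
  (hg : GrLC.IsGrHom ℳ 𝒩 g)

/-- a stage of the comparison map -/
structure CStage (n : ℕ) where
  /-- the map -/
  θ : (E.X n).carrier →ₗ[R] (F.X n).carrier
  hom : GrLC.IsGrHom (E.X n).gr (F.X n).gr θ
  kills : ∀ x : (E.X n).carrier, E.d n x = 0 → F.d n (θ x) = 0

include hg in
theorem exists_cstage_zero : ∃ s : CStage E F 0, ∀ m : M, s.θ (E.ε m) = F.ε (g m) := by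
  have hker : LinearMap.ker E.ε ≤ LinearMap.ker (F.ε ∘ₗ g) := by
    intro m hm
    rw [LinearMap.mem_ker] at hm
    have : m = 0 := E.ε_injective (by rw [hm, map_zero])
    rw [this]
    exact zero_mem _
  have hγ : GrLC.IsGrHom ℳ (F.X 0).gr (F.ε ∘ₗ g) := fun j m hm => F.ε_grHom j _ (hg j m hm)
  obtain ⟨h, hh, hhε⟩ := Groth.Agent.Lib.Helper29GrCompare.exists_extension 𝒜 (E.X 0) (F.X 0) ℳ
    (F.starInj 0) E.ε E.ε_grHom (F.ε ∘ₗ g) hγ hker
  refine ⟨⟨h, hh, ?_⟩, hhε⟩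
  intro x hx
  have hx' : x ∈ LinearMap.range E.ε := by rw [← E.exact_zero]; exact hx
  obtain ⟨m, rfl⟩ := hx'
  rw [hhε m]
  exact d_ε F (g m)

theorem exists_cstage_succ (n : ℕ) (s : CStage E F n) :
    ∃ t : CStage E F (n + 1), ∀ x : (E.X n).carrier, t.θ (E.d n x) = F.d n (s.θ x) := by
  have hker : LinearMap.ker (E.d n) ≤ LinearMap.ker (F.d n ∘ₗ s.θ) := by
    intro x hx
    exact s.kills x hx
  have hγ : GrLC.IsGrHom (E.X n).gr (F.X (n + 1)).gr (F.d n ∘ₗ s.θ) :=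
    fun k x hx => F.d_grHom n k _ (s.hom k x hx)
  obtain ⟨h, hh, hhd⟩ := Groth.Agent.Lib.Helper29GrCompare.exists_extension 𝒜 (E.X (n + 1))
    (F.X (n + 1)) (E.X n).gr (F.starInj (n + 1)) (E.d n) (E.d_grHom n) (F.d n ∘ₗ s.θ) hγ hker
  refine ⟨⟨h, hh, ?_⟩, hhd⟩
  intro x hx
  have hx' : x ∈ LinearMap.range (E.d n) := by rw [← E.exact_succ n]; exact hx
  obtain ⟨y, rfl⟩ := hx'
  rw [hhd y]
  exact d_comp_d F n _

include hg in
/-- **comparison theorem over a base map** -/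
theorem exists_cmap : ∃ c : CMap E F 0, ∀ m : M, c.θ 0 (E.ε m) = F.ε (g m) := by
  obtain ⟨s0, hs0⟩ := exists_cstage_zero E F g hg
  choose next hnext using exists_cstage_succ E F
  let S : ∀ n, CStage E F n := fun n => Nat.rec s0 (fun n s => next n s) n
  refine ⟨⟨fun n => (S n).θ, fun n => (isGrHomDeg_zero_iff _ _ _).2 (S n).hom, fun n x => ?_⟩, hs0⟩
  exact hnext n (S n) x

end compare

section homotopy

variable {E : GrLC.StarInjRes 𝒜 ℳ} {F : GrLC.StarInjRes 𝒜 𝒩} (c c' : CMap E F 0)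

/-- a stage of the homotopy -/
structure HStage (n : ℕ) where
  /-- the map -/
  s : (E.X (n + 1)).carrier →ₗ[R] (F.X n).carrier
  hom : GrLC.IsGrHom (E.X (n + 1)).gr (F.X n).gr s
  key : ∀ x : (E.X (n + 1)).carrier, E.d (n + 1) x = 0 →
    c.θ (n + 1) x - c'.θ (n + 1) x = F.d n (s x)

theorem sub_isGrHom (n : ℕ) : GrLC.IsGrHom (E.X n).gr (F.X n).gr (c.θ n - c'.θ n) := by
  intro j x hx
  exact sub_mem ((isGrHomDeg_zero_iff _ _ _).1 (c.hom n) j x hx)
    ((isGrHomDeg_zero_iff _ _ _).1 (c'.hom n) j x hx)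

theorem exists_hstage_zero (h0 : ∀ m : M, c.θ 0 (E.ε m) = c'.θ 0 (E.ε m)) :
    ∃ st : HStage c c' 0, ∀ x : (E.X 0).carrier, c.θ 0 x - c'.θ 0 x = st.s (E.d 0 x) := by
  have hker : LinearMap.ker (E.d 0) ≤ LinearMap.ker (c.θ 0 - c'.θ 0) := by
    intro x hx
    have hx' : x ∈ LinearMap.range E.ε := by rw [← E.exact_zero]; exact hx
    obtain ⟨m, rfl⟩ := hx'
    rw [LinearMap.mem_ker, LinearMap.sub_apply, h0 m, sub_self]
  obtain ⟨h, hh, hhd⟩ := Groth.Agent.Lib.Helper29GrCompare.exists_extension 𝒜 (E.X 1)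
    (F.X 0) (E.X 0).gr (F.starInj 0) (E.d 0) (E.d_grHom 0) (c.θ 0 - c'.θ 0) (sub_isGrHom c c' 0) hker
  refine ⟨⟨h, hh, ?_⟩, fun x => (hhd x).symm⟩
  intro x hx
  have hx' : x ∈ LinearMap.range (E.d 0) := by rw [← E.exact_succ 0]; exact hx
  obtain ⟨y, rfl⟩ := hx'
  rw [c.comm, c'.comm, ← map_sub, hhd y]
  rfl

theorem exists_hstage_succ (n : ℕ) (st : HStage c c' n) :
    ∃ st' : HStage c c' (n + 1), ∀ x : (E.X (n + 1)).carrier,
      c.θ (n + 1) x - c'.θ (n + 1) x = F.d n (st.s x) + st'.s (E.d (n + 1) x) := by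
  set γ : (E.X (n + 1)).carrier →ₗ[R] (F.X (n + 1)).carrier :=
    (c.θ (n + 1) - c'.θ (n + 1)) - F.d n ∘ₗ st.s with hγ_def
  have hker : LinearMap.ker (E.d (n + 1)) ≤ LinearMap.ker γ := by
    intro x hx
    rw [LinearMap.mem_ker, hγ_def, LinearMap.sub_apply, LinearMap.sub_apply, LinearMap.comp_apply,
      st.key x hx, sub_self]
  have hγ : GrLC.IsGrHom (E.X (n + 1)).gr (F.X (n + 1)).gr γ := by
    intro j x hx
    exact sub_mem (sub_isGrHom c c' (n + 1) j x hx) (F.d_grHom n j _ (st.hom j x hx))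
  obtain ⟨h, hh, hhd⟩ := Groth.Agent.Lib.Helper29GrCompare.exists_extension 𝒜 (E.X (n + 2))
    (F.X (n + 1)) (E.X (n + 1)).gr (F.starInj (n + 1)) (E.d (n + 1)) (E.d_grHom (n + 1)) γ hγ hker
  have hrel : ∀ x : (E.X (n + 1)).carrier,
      c.θ (n + 1) x - c'.θ (n + 1) x = F.d n (st.s x) + h (E.d (n + 1) x) := by
    intro x
    rw [hhd x, hγ_def, LinearMap.sub_apply, LinearMap.sub_apply, LinearMap.comp_apply]
    abel
  refine ⟨⟨h, hh, ?_⟩, hrel⟩
  intro x hx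
  have hx' : x ∈ LinearMap.range (E.d (n + 1)) := by rw [← E.exact_succ (n + 1)]; exact hx
  obtain ⟨y, rfl⟩ := hx'
  rw [c.comm, c'.comm, ← map_sub, hrel y, map_add, d_comp_d F n, zero_add]

/-- **uniqueness up to homotopy** -/
theorem exists_htpy (h0 : ∀ m : M, c.θ 0 (E.ε m) = c'.θ 0 (E.ε m)) : Nonempty (Htpy c c') := by
  obtain ⟨s0, hs0⟩ := exists_hstage_zero c c' h0
  choose next hnext using exists_hstage_succ c c'
  let S : ∀ n, HStage c c' n := fun n => Nat.rec s0 (fun n s => next n s) n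
  exact ⟨⟨fun n => (S n).s, hs0, fun n x => hnext n (S n) x⟩⟩

theorem Hmap_eq_of_base_eq (h0 : ∀ m : M, c.θ 0 (E.ε m) = c'.θ 0 (E.ε m))
    (a : HomogeneousIdeal 𝒜) (i : ℕ) (x : E.H a i) : c.Hmap a i x = c'.Hmap a i x := by
  obtain ⟨h⟩ := exists_htpy c c' h0
  exact Hmap_eq_of_htpy h a i x

end homotopy

section indep

/-- composition of degree-zero chain maps, of degree zero -/
def comp0 {P : Type u} [AddCommGroup P] [Module R P] {𝓟 : ι → AddSubgroup P}
    [DirectSum.Decomposition 𝓟] [SetLike.GradedSMul 𝒜 𝓟]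
    {E : GrLC.StarInjRes 𝒜 ℳ} {F : GrLC.StarInjRes 𝒜 𝒩} {G : GrLC.StarInjRes 𝒜 𝓟}
    (c' : CMap F G 0) (c : CMap E F 0) : CMap E G 0 where
  θ n := c'.θ n ∘ₗ c.θ n
  hom n := (isGrHomDeg_zero_iff _ _ _).2 fun j x hx =>
    (isGrHomDeg_zero_iff _ _ _).1 (c'.hom n) j _ ((isGrHomDeg_zero_iff _ _ _).1 (c.hom n) j x hx)
  comm n x := by
    show c'.θ (n + 1) (c.θ (n + 1) (E.d n x)) = G.d n (c'.θ n (c.θ n x))
    rw [c.comm, c'.comm]

theorem Hmap_comp0 {P : Type u} [AddCommGroup P] [Module R P] {𝓟 : ι → AddSubgroup P}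
    [DirectSum.Decomposition 𝓟] [SetLike.GradedSMul 𝒜 𝓟]
    {E : GrLC.StarInjRes 𝒜 ℳ} {F : GrLC.StarInjRes 𝒜 𝒩} {G : GrLC.StarInjRes 𝒜 𝓟}
    (c' : CMap F G 0) (c : CMap E F 0) (a : HomogeneousIdeal 𝒜) (i : ℕ) (x : E.H a i) :
    (comp0 c' c).Hmap a i x = c'.Hmap a i (c.Hmap a i x) := by
  obtain ⟨z, rfl⟩ := Submodule.Quotient.mk_surjective _ x
  rfl

/-- a chain map over the identity induces the identity up to the canonical isomorphism: any chain
endomorphism over the identity of `M` acts as the identity on graded local cohomology -/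
theorem Hmap_eq_self {E : GrLC.StarInjRes 𝒜 ℳ} (c : CMap E E 0)
    (h0 : ∀ m : M, c.θ 0 (E.ε m) = E.ε m) (a : HomogeneousIdeal 𝒜) (i : ℕ) (x : E.H a i) :
    c.Hmap a i x = x := by
  rw [Hmap_eq_of_base_eq c (CMap.id E) (fun m => by rw [h0 m]; rfl) a i x, CMap.Hmap_id]

/-- **independence of the resolution**: a chain map of *injective resolutions over an isomorphism
`g : M ≃ N` of graded modules induces an isomorphism on graded local cohomology, preserving pieces -/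
theorem exists_equiv_of_cmap (E : GrLC.StarInjRes 𝒜 ℳ) (F : GrLC.StarInjRes 𝒜 𝒩) (g : M ≃ₗ[R] N)
    (hg' : GrLC.IsGrHom 𝒩 ℳ g.symm.toLinearMap)
    (c : CMap E F 0) (hc : ∀ m : M, c.θ 0 (E.ε m) = F.ε (g m))
    (a : HomogeneousIdeal 𝒜) (i : ℕ) :
    ∃ e : E.H a i ≃ₗ[R] F.H a i, (∀ x, e x = c.Hmap a i x) ∧
      ∀ (j : ι) (x : E.H a i), x ∈ E.Hcomp a i j ↔ e x ∈ F.Hcomp a i j := by
  obtain ⟨c', hc'⟩ := exists_cmap F E g.symm.toLinearMap hg'
  refine exists_hEquiv c c' (fun a i x => ?_) (fun a i y => ?_) a i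
  · rw [← Hmap_comp0]
    refine Hmap_eq_self _ (fun m => ?_) a i x
    show c'.θ 0 (c.θ 0 (E.ε m)) = E.ε m
    rw [hc, hc']
    show E.ε (g.symm (g m)) = E.ε m
    rw [LinearEquiv.symm_apply_apply]
  · rw [← Hmap_comp0]
    refine Hmap_eq_self _ (fun m => ?_) a i y
    show c.θ 0 (c'.θ 0 (F.ε m)) = F.ε m
    rw [hc', hc]
    show F.ε (g (g.symm m)) = F.ε m
    rw [LinearEquiv.apply_symm_apply]

/-- two *injective resolutions of the same graded module compute the same graded local cohomology -/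
theorem exists_equiv (E E' : GrLC.StarInjRes 𝒜 ℳ) (a : HomogeneousIdeal 𝒜) (i : ℕ) :
    ∃ e : E.H a i ≃ₗ[R] E'.H a i,
      ∀ (j : ι) (x : E.H a i), x ∈ E.Hcomp a i j ↔ e x ∈ E'.Hcomp a i j := by
  obtain ⟨c, hc⟩ := exists_cmap E E' LinearMap.id (fun _ _ h => h)
  obtain ⟨e, -, he⟩ := exists_equiv_of_cmap E E' (LinearEquiv.refl R M)
    (fun _ _ h => h) c hc a i
  exact ⟨e, he⟩

end indep

end Groth.Agent.Lib.Seat91.GrCompare
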