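import Groth.Agent.Lib.Seat91GrProd

/-!
# The mapping cone of a comparison map as a *injective resolution of the cokernel (seat 91)

For a short exact sequence `0 → M' → M → M'' → 0` of graded modules, *injective resolutions `E'` of
`M'`, `E` of `M` and a chain map `c : E' → E` over `M' → M`, the mapping cone
`C^n = E'^{n+1} × E^n`, `D (a, b) = (-d a, c a + d b)` (with `C^0` replaced by a graded complement of
the image of `E'^0`) is a *injective resolution `coneRes` of `M''`.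

Namespace `Groth.Agent.Lib.Seat91.GrCone`.
-/

set_option autoImplicit false
set_option linter.unusedSectionVars false
universe u

open DirectSum Groth.Agent.Lib.Seat91.GrCx Groth.Agent.Lib.Seat91.GrCompare
  Groth.Agent.Lib.Seat91.GrProd Groth.Agent.Lib.Helper29GrSub Groth.Agent.Lib.Helper29GrHom

namespace Groth.Agent.Lib.Seat91.GrCone

variable {ι : Type} [AddCommGroup ι] [DecidableEq ι]
variable {R : Type u} [CommRing R] {𝒜 : ι → AddSubgroup R} [GradedRing 𝒜]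
variable {M' : Type u} [AddCommGroup M'] [Module R M'] {ℳ' : ι → AddSubgroup M'}
  [DirectSum.Decomposition ℳ'] [SetLike.GradedSMul 𝒜 ℳ']
variable {M : Type u} [AddCommGroup M] [Module R M] {ℳ : ι → AddSubgroup M}
  [DirectSum.Decomposition ℳ] [SetLike.GradedSMul 𝒜 ℳ]
variable (E' : GrLC.StarInjRes 𝒜 ℳ') (E : GrLC.StarInjRes 𝒜 ℳ) (c : CMap E' E 0)

/-- the terms of the cone, as types -/
abbrev CT (n : ℕ) : Type u := (E'.X (n + 1)).carrier × (E.X n).carrier

/-- the grading of the terms of the cone -/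
def CGr (n : ℕ) : ι → AddSubgroup (CT E' E n) := prodGr (E'.X (n + 1)).gr (E.X n).gr

theorem mem_CGr {n : ℕ} {g : ι} {x : CT E' E n} :
    x ∈ CGr E' E n g ↔ x.1 ∈ (E'.X (n + 1)).gr g ∧ x.2 ∈ (E.X n).gr g := Iff.rfl

/-- the differential of the cone -/
def D (n : ℕ) : CT E' E n →ₗ[R] CT E' E (n + 1) :=
  LinearMap.prod (-(E'.d (n + 1)) ∘ₗ LinearMap.fst R _ _)
    (c.θ (n + 1) ∘ₗ LinearMap.fst R _ _ + E.d n ∘ₗ LinearMap.snd R _ _)

theorem D_apply (n : ℕ) (x : CT E' E n) :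
    D E' E c n x = (-(E'.d (n + 1) x.1), c.θ (n + 1) x.1 + E.d n x.2) := rfl

theorem D_fst (n : ℕ) (x : CT E' E n) : (D E' E c n x).1 = -(E'.d (n + 1) x.1) := rfl

theorem D_snd (n : ℕ) (x : CT E' E n) : (D E' E c n x).2 = c.θ (n + 1) x.1 + E.d n x.2 := rfl

/-- the map `E'^n → C^n`, `a ↦ (-d a, c a)` -/
def Q (n : ℕ) : (E'.X n).carrier →ₗ[R] CT E' E n :=
  LinearMap.prod (-(E'.d n)) (c.θ n)

theorem Q_fst (n : ℕ) (a : (E'.X n).carrier) : (Q E' E c n a).1 = -(E'.d n a) := rfl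

theorem Q_snd (n : ℕ) (a : (E'.X n).carrier) : (Q E' E c n a).2 = c.θ n a := rfl

theorem D_Q (n : ℕ) (a : (E'.X n).carrier) : D E' E c n (Q E' E c n a) = 0 := by
  apply Prod.ext
  · rw [D_fst, Q_fst, map_neg, d_comp_d, neg_zero, neg_zero]; rfl
  · rw [D_snd, Q_fst, Q_snd, map_neg, c.comm, neg_add_cancel]; rfl

theorem Q_succ (n : ℕ) (a : (E'.X (n + 1)).carrier) :
    Q E' E c (n + 1) a = D E' E c n (a, 0) := by
  apply Prod.ext
  · rfl
  · rw [D_snd, Q_snd, map_zero, add_zero]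

theorem D_D (n : ℕ) (x : CT E' E n) : D E' E c (n + 1) (D E' E c n x) = 0 := by
  apply Prod.ext
  · rw [D_fst, D_fst, map_neg, d_comp_d, neg_zero, neg_zero]; rfl
  · rw [D_snd, D_fst, D_snd, map_neg, map_add, d_comp_d, add_zero, c.comm, neg_add_cancel]; rfl

theorem isGrHom_θ (n : ℕ) : GrLC.IsGrHom (E'.X n).gr (E.X n).gr (c.θ n) :=
  (isGrHomDeg_zero_iff _ _ _).1 (c.hom n)

theorem D_isGrHom (n : ℕ) : GrLC.IsGrHom (CGr E' E n) (CGr E' E (n + 1)) (D E' E c n) := by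
  intro g x hx
  rw [mem_CGr] at hx ⊢
  refine ⟨?_, ?_⟩
  · rw [D_fst]
    exact ((E'.X (n + 1 + 1)).gr g).neg_mem (E'.d_grHom (n + 1) g _ hx.1)
  · rw [D_snd]
    exact ((E.X (n + 1)).gr g).add_mem (isGrHom_θ E' E c (n + 1) g _ hx.1) (E.d_grHom n g _ hx.2)

theorem Q_isGrHom (n : ℕ) : GrLC.IsGrHom (E'.X n).gr (CGr E' E n) (Q E' E c n) := by
  intro g a ha
  rw [mem_CGr]
  exact ⟨((E'.X (n + 1)).gr g).neg_mem (E'.d_grHom n g a ha), isGrHom_θ E' E c n g a ha⟩

variable {incl : M' →ₗ[R] M} (hincl : Function.Injective incl)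
  (hc : ∀ m : M', c.θ 0 (E'.ε m) = E.ε (incl m))

include hincl hc in
theorem Q_zero_injective : Function.Injective (Q E' E c 0) := by
  rw [injective_iff_map_eq_zero]
  intro a ha
  have ha1 : E'.d 0 a = 0 := by
    have := congrArg Prod.fst ha
    rw [Q_fst] at this
    exact neg_eq_zero.1 this
  have ha2 : c.θ 0 a = 0 := congrArg Prod.snd ha
  have h1 : a ∈ LinearMap.range E'.ε := by rw [← E'.exact_zero]; exact ha1
  obtain ⟨m, rfl⟩ := h1
  rw [hc] at ha2
  have h3 : incl m = 0 := E.ε_injective (by rw [ha2, map_zero])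
  have h4 : m = 0 := hincl (by rw [h3, map_zero])
  rw [h4, map_zero]

/-- a homogeneous retraction of `Q 0 : E'^0 → C^0` -/
structure Retr where
  /-- the retraction -/
  r : CT E' E 0 →ₗ[R] (E'.X 0).carrier
  hr : GrLC.IsGrHom (CGr E' E 0) (E'.X 0).gr r
  hrQ : ∀ a, r (Q E' E c 0 a) = a

include hincl hc in
theorem exists_retr : Nonempty (Retr E' E c) := by
  have hker : LinearMap.ker (Q E' E c 0) ≤
      LinearMap.ker (LinearMap.id : (E'.X 0).carrier →ₗ[R] _) := by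
    intro a ha
    rw [LinearMap.mem_ker] at ha
    have := Q_zero_injective E' E c hincl hc (by rw [ha, map_zero] : Q E' E c 0 a = Q E' E c 0 0)
    rw [this]
    exact zero_mem _
  obtain ⟨r, hr, hr'⟩ := Groth.Agent.Lib.Helper29GrCompare.exists_extension 𝒜
    (prodGMod 𝒜 (E'.X 1) (E.X 0)) (E'.X 0)
    (E'.X 0).gr (E'.starInj 0) (Q E' E c 0) (Q_isGrHom E' E c 0) LinearMap.id (fun _ _ h => h) hker
  exact ⟨⟨r, hr, hr'⟩⟩


instance instDecCGr (n : ℕ) : DirectSum.Decomposition (CGr E' E n) :=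
  prodDecomposition (E'.X (n + 1)).gr (E.X n).gr

instance instGSMulCGr (n : ℕ) : SetLike.GradedSMul 𝒜 (CGr E' E n) :=
  prod_gradedSMul 𝒜 (E'.X (n + 1)).gr (E.X n).gr

section retr

variable {E' E c} (ρ : Retr E' E c)

/-- the projection of `C^0` onto the kernel of the retraction -/
def pK : CT E' E 0 →ₗ[R] CT E' E 0 := LinearMap.id - Q E' E c 0 ∘ₗ ρ.r

theorem pK_apply (x : CT E' E 0) : pK ρ x = x - Q E' E c 0 (ρ.r x) := rfl

theorem r_pK (x : CT E' E 0) : ρ.r (pK ρ x) = 0 := by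
  rw [pK_apply, map_sub, ρ.hrQ, sub_self]

theorem pK_Q (a : (E'.X 0).carrier) : pK ρ (Q E' E c 0 a) = 0 := by
  rw [pK_apply, ρ.hrQ, sub_self]

theorem pK_of_mem {x : CT E' E 0} (hx : ρ.r x = 0) : pK ρ x = x := by
  rw [pK_apply, hx, map_zero, sub_zero]

theorem D_pK (x : CT E' E 0) : D E' E c 0 (pK ρ x) = D E' E c 0 x := by
  rw [pK_apply, map_sub, D_Q, sub_zero]

theorem pK_isGrHom : GrLC.IsGrHom (CGr E' E 0) (CGr E' E 0) (pK ρ) := by
  intro g x hx
  rw [pK_apply]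
  exact (CGr E' E 0 g).sub_mem hx (Q_isGrHom E' E c 0 g _ (ρ.hr g x hx))

/-- the sub-objects of the cone forming the resolution: the kernel of the retraction in degree `0`,
everything in higher degrees -/
def S : (n : ℕ) → Submodule R (CT E' E n)
  | 0 => LinearMap.ker ρ.r
  | _ + 1 => ⊤

/-- the projections onto `S n` -/
def p : (n : ℕ) → CT E' E n →ₗ[R] CT E' E n
  | 0 => pK ρ
  | _ + 1 => LinearMap.id

theorem p_mem (n : ℕ) (x : CT E' E n) : p ρ n x ∈ S ρ n := by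
  cases n with
  | zero => exact r_pK ρ x
  | succ n => exact Submodule.mem_top

theorem p_of_mem (n : ℕ) {x : CT E' E n} (hx : x ∈ S ρ n) : p ρ n x = x := by
  cases n with
  | zero => exact pK_of_mem ρ hx
  | succ n => rfl

theorem D_p (n : ℕ) (x : CT E' E n) : D E' E c n (p ρ n x) = D E' E c n x := by
  cases n with
  | zero => exact D_pK ρ x
  | succ n => rfl

theorem p_Q_zero (a : (E'.X 0).carrier) : p ρ 0 (Q E' E c 0 a) = 0 := pK_Q ρ a

theorem p_isGrHom (n : ℕ) : GrLC.IsGrHom (CGr E' E n) (CGr E' E n) (p ρ n) := by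
  cases n with
  | zero => exact pK_isGrHom ρ
  | succ n => exact fun _ _ h => h

theorem S_isHomogeneous (n : ℕ) : (S ρ n).IsHomogeneous (CGr E' E n) := by
  cases n with
  | zero => exact ker_isHomogeneous (E'.X 0).gr (CGr E' E 0) ρ.r ρ.hr
  | succ n => exact fun _ _ _ => Submodule.mem_top

/-- `fst (p n x) - fst x` is a differential of `- r x` (in degree `0`), zero in higher degrees -/
theorem p_fst_sub (n : ℕ) (x : CT E' E n) :
    ∃ f : CT E' E n →ₗ[R] (E'.X n).carrier, (p ρ n x).1 - x.1 = E'.d n (f x) := by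
  cases n with
  | zero =>
    refine ⟨ρ.r, ?_⟩
    show (pK ρ x).1 - x.1 = _
    rw [pK_apply, Prod.fst_sub, Q_fst]
    abel
  | succ n =>
    refine ⟨0, ?_⟩
    show x.1 - x.1 = _
    rw [sub_self, LinearMap.zero_apply, map_zero]

end retr


section res

variable {E' E c} (ρ : Retr E' E c)
variable {M'' : Type u} [AddCommGroup M''] [Module R M''] {ℳ'' : ι → AddSubgroup M''}
  [DirectSum.Decomposition ℳ''] [SetLike.GradedSMul 𝒜 ℳ'']
  {π : M →ₗ[R] M''} (hπ : Function.Surjective π) (hπg : GrLC.IsGrHom ℳ ℳ'' π)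
  (hex : LinearMap.ker π = LinearMap.range incl)

/-- the augmentation before passing to the quotient -/
def ε₀ : M →ₗ[R] ↥(S ρ 0) :=
  LinearMap.codRestrict (S ρ 0) (pK ρ ∘ₗ LinearMap.inr R _ _ ∘ₗ E.ε) (fun _ => r_pK ρ _)

theorem ε₀_coe (m : M) : ((ε₀ ρ m : ↥(S ρ 0)) : CT E' E 0) = pK ρ (0, E.ε m) := rfl

include hc in
theorem inr_ε_incl (m' : M') : ((0, E.ε (incl m')) : CT E' E 0) = Q E' E c 0 (E'.ε m') := by
  apply Prod.ext
  · rw [Q_fst, d_ε, neg_zero]
  · rw [Q_snd, hc]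

include hc hex in
theorem ker_le_ker_ε₀ : LinearMap.ker π ≤ LinearMap.ker (ε₀ ρ) := by
  intro m hm
  rw [hex] at hm
  obtain ⟨m', rfl⟩ := hm
  rw [LinearMap.mem_ker]
  apply Subtype.ext
  rw [ε₀_coe, inr_ε_incl hc, pK_Q]
  rfl

/-- the augmentation of the cone resolution -/
noncomputable def coneε : M'' →ₗ[R] ↥(S ρ 0) :=
  (LinearMap.ker π).liftQ (ε₀ ρ) (ker_le_ker_ε₀ hc ρ hex) ∘ₗ
    (π.quotKerEquivOfSurjective hπ).symm.toLinearMap

theorem coneε_π (m : M) : coneε hc ρ hπ hex (π m) = ε₀ ρ m := by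
  have h : (π.quotKerEquivOfSurjective hπ).symm (π m) = Submodule.Quotient.mk m := by
    rw [LinearEquiv.symm_apply_eq]
    rfl
  show (LinearMap.ker π).liftQ (ε₀ ρ) (ker_le_ker_ε₀ hc ρ hex)
    ((π.quotKerEquivOfSurjective hπ).symm (π m)) = _
  rw [h]
  rfl


include hπg in
theorem coneε_grHom :
    GrLC.IsGrHom ℳ'' (subGr (CGr E' E 0) (S ρ 0)) (coneε hc ρ hπ hex) := by
  intro g m'' hm''
  obtain ⟨m, rfl⟩ := hπ m''
  have h1 : π ((decompose ℳ m) g : M) = π m := by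
    rw [← decompose_map ℳ'' ℳ π hπg m g, DirectSum.decompose_of_mem_same _ hm'']
  rw [← h1, coneε_π, mem_subGr, ε₀_coe]
  refine pK_isGrHom ρ g _ ?_
  rw [mem_CGr]
  exact ⟨zero_mem _, E.ε_grHom g _ (SetLike.coe_mem _)⟩

include hincl in
theorem coneε_injective : Function.Injective (coneε hc ρ hπ hex) := by
  rw [injective_iff_map_eq_zero]
  intro m'' h
  obtain ⟨m, rfl⟩ := hπ m''
  rw [coneε_π] at h
  have h1 : pK ρ (0, E.ε m) = 0 := congrArg Subtype.val h
  rw [pK_apply, sub_eq_zero] at h1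
  have h2 : E'.d 0 (ρ.r (0, E.ε m)) = 0 := by
    have := congrArg Prod.fst h1
    rw [Q_fst] at this
    exact neg_eq_zero.1 this.symm
  have h3 : E.ε m = c.θ 0 (ρ.r (0, E.ε m)) := congrArg Prod.snd h1
  obtain ⟨m', hm'⟩ : ρ.r (0, E.ε m) ∈ LinearMap.range E'.ε := by
    rw [← E'.exact_zero]; exact h2
  rw [← hm', hc] at h3
  have h4 : m = incl m' := E.ε_injective h3
  have h5 : incl m' ∈ LinearMap.ker π := by rw [hex]; exact ⟨m', rfl⟩
  rw [h4]
  exact h5

/-- the differential of the cone resolution -/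
def coned (n : ℕ) : ↥(S ρ n) →ₗ[R] ↥(S ρ (n + 1)) :=
  LinearMap.codRestrict (S ρ (n + 1)) (D E' E c n ∘ₗ (S ρ n).subtype) (fun _ => Submodule.mem_top)

theorem coned_coe (n : ℕ) (x : ↥(S ρ n)) :
    ((coned ρ n x : ↥(S ρ (n + 1))) : CT E' E (n + 1)) = D E' E c n x := rfl

theorem cone_exact_zero :
    LinearMap.ker (coned ρ 0) = LinearMap.range (coneε hc ρ hπ hex) := by
  apply le_antisymm
  · rintro ⟨x, hx⟩ hker
    have hD : D E' E c 0 x = 0 := congrArg Subtype.val hker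
    have h1 : E'.d 1 x.1 = 0 := by
      have := congrArg Prod.fst hD
      rw [D_fst] at this
      exact neg_eq_zero.1 this
    obtain ⟨a₀, ha₀⟩ : x.1 ∈ LinearMap.range (E'.d 0) := by
      rw [← E'.exact_succ 0]; exact h1
    have hy1 : (x + Q E' E c 0 a₀).1 = 0 := by
      rw [Prod.fst_add, Q_fst, ha₀, add_neg_cancel]
    have hDy : D E' E c 0 (x + Q E' E c 0 a₀) = 0 := by rw [map_add, hD, D_Q, add_zero]
    have h2 : E.d 0 (x + Q E' E c 0 a₀).2 = 0 := by
      have := congrArg Prod.snd hDy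
      rw [D_snd, hy1, map_zero] at this
      exact (zero_add _).symm.trans this
    obtain ⟨m, hm⟩ : (x + Q E' E c 0 a₀).2 ∈ LinearMap.range E.ε := by
      rw [← E.exact_zero]; exact h2
    refine ⟨π m, ?_⟩
    rw [coneε_π]
    apply Subtype.ext
    rw [ε₀_coe]
    show pK ρ (0, E.ε m) = x
    have h3 : ((0, E.ε m) : CT E' E 0) = x + Q E' E c 0 a₀ := Prod.ext hy1.symm hm
    rw [h3, map_add, pK_Q, add_zero, pK_of_mem ρ hx]
  · rintro _ ⟨m'', rfl⟩
    obtain ⟨m, rfl⟩ := hπ m''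
    rw [coneε_π, LinearMap.mem_ker]
    apply Subtype.ext
    rw [coned_coe, ε₀_coe, D_pK]
    apply Prod.ext
    · rw [D_fst]
      show -(E'.d 1 0) = 0
      rw [map_zero, neg_zero]
    · rw [D_snd]
      show c.θ 1 0 + E.d 0 (E.ε m) = 0
      rw [map_zero, zero_add, d_ε]

theorem cone_exact_succ (n : ℕ) :
    LinearMap.ker (coned ρ (n + 1)) = LinearMap.range (coned ρ n) := by
  apply le_antisymm
  · rintro ⟨x, hx⟩ hker
    have hD : D E' E c (n + 1) x = 0 := congrArg Subtype.val hker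
    have h1 : E'.d (n + 1 + 1) x.1 = 0 := by
      have := congrArg Prod.fst hD
      rw [D_fst] at this
      exact neg_eq_zero.1 this
    obtain ⟨a₀, ha₀⟩ : x.1 ∈ LinearMap.range (E'.d (n + 1)) := by
      rw [← E'.exact_succ (n + 1)]; exact h1
    have hy1 : (x + D E' E c n (a₀, 0)).1 = 0 := by
      rw [Prod.fst_add, D_fst]
      show x.1 + -(E'.d (n + 1) a₀) = 0
      rw [ha₀, add_neg_cancel]
    have hDy : D E' E c (n + 1) (x + D E' E c n (a₀, 0)) = 0 := by
      rw [map_add, hD, D_D, add_zero]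
    have h2 : E.d (n + 1) (x + D E' E c n (a₀, 0)).2 = 0 := by
      have := congrArg Prod.snd hDy
      rw [D_snd, hy1, map_zero] at this
      exact (zero_add _).symm.trans this
    obtain ⟨b₀, hb₀⟩ : (x + D E' E c n (a₀, 0)).2 ∈ LinearMap.range (E.d n) := by
      rw [← E.exact_succ n]; exact h2
    refine ⟨⟨p ρ n (-a₀, b₀), p_mem ρ n _⟩, ?_⟩
    apply Subtype.ext
    rw [coned_coe]
    show D E' E c n (p ρ n (-a₀, b₀)) = x
    rw [D_p]
    have hy : x + D E' E c n (a₀, 0) = D E' E c n (0, b₀) := by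
      apply Prod.ext
      · rw [hy1, D_fst]
        show (0 : (E'.X (n + 1 + 1)).carrier) = -(E'.d (n + 1) 0)
        rw [map_zero, neg_zero]
      · rw [← hb₀, D_snd]
        show E.d n b₀ = c.θ (n + 1) 0 + E.d n b₀
        rw [map_zero, zero_add]
    have hx' : x = D E' E c n (0, b₀) - D E' E c n (a₀, 0) := by
      rw [← hy, add_sub_cancel_right]
    rw [hx', ← map_sub]
    congr 1
    apply Prod.ext
    · show -a₀ = 0 - a₀
      rw [zero_sub]
    · show b₀ = b₀ - 0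
      rw [sub_zero]
  · rintro _ ⟨x, rfl⟩
    rw [LinearMap.mem_ker]
    apply Subtype.ext
    rw [coned_coe, coned_coe, D_D]
    rfl

/-- **the cone resolution**: a *injective resolution of the cokernel `M''` -/
noncomputable def coneRes : GrLC.StarInjRes 𝒜 ℳ'' where
  X n := subGMod 𝒜 (prodGMod 𝒜 (E'.X (n + 1)) (E.X n)) (S ρ n) (S_isHomogeneous ρ n)
  d n := coned ρ n
  ε := coneε hc ρ hπ hex
  d_grHom n := fun g (x : ↥(S ρ n)) hx => D_isGrHom E' E c n g x.1 hx
  ε_grHom := coneε_grHom hc ρ hπ hπg hex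
  ε_injective := coneε_injective hincl hc ρ hπ hex
  exact_zero := cone_exact_zero hc ρ hπ hex
  exact_succ := cone_exact_succ ρ
  starInj n := isStarInj_sub_of_retraction 𝒜 (prodGMod 𝒜 (E'.X (n + 1)) (E.X n)) (S ρ n)
    (S_isHomogeneous ρ n) (isStarInj_prod 𝒜 _ _ (E'.starInj (n + 1)) (E.starInj n)) (p ρ n)
    (p_isGrHom ρ n) (p_mem ρ n) (fun _ hx => p_of_mem ρ n hx)

end res

end Groth.Agent.Lib.Seat91.GrCone
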