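import Groth.Agent.Lib.Helper29GrCompare

/-!
# Chain maps between *injective resolutions and the maps they induce on graded local cohomology
(seat 91)

For *injective resolutions `E` of `M` and `F` of `N` (Prelude `GrLC.StarInjRes`):

* `CMap E F k`: families of `R`-linear maps `E.X n → F.X n`, homogeneous of degree `k`, commuting with
  the differentials; `CMap.Hmap c a i : E.H a i →ₗ[R] F.H a i` the induced map on `Γ_a`-cohomology,
  which shifts pieces by `k` (`Hmap_mem_Hcomp`); `CMap.smul x` (multiplication by a homogeneous `x`),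
  `CMap.comp`, `CMap.id`.
* `Htpy c c'`: chain homotopies; homotopic maps induce the same map (`Hmap_eq_of_htpy`).
* `hEquiv`: mutually inverse-up-to-homotopy maps of degree `0` give a linear equivalence
  `E.H a i ≃ₗ[R] F.H a i` preserving the pieces.

Namespace `Groth.Agent.Lib.Seat91.GrCx`.
-/

set_option autoImplicit false
set_option linter.unusedSectionVars false
universe u

open DirectSum

namespace Groth.Agent.Lib.Seat91.GrCx

variable {ι : Type} [AddCommGroup ι] [DecidableEq ι]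
variable {R : Type u} [CommRing R] {𝒜 : ι → AddSubgroup R} [GradedRing 𝒜]
variable {M : Type u} [AddCommGroup M] [Module R M] {ℳ : ι → AddSubgroup M}
  [DirectSum.Decomposition ℳ] [SetLike.GradedSMul 𝒜 ℳ]
variable {N : Type u} [AddCommGroup N] [Module R N] {𝒩 : ι → AddSubgroup N}
  [DirectSum.Decomposition 𝒩] [SetLike.GradedSMul 𝒜 𝒩]
variable {P : Type u} [AddCommGroup P] [Module R P] {𝓟 : ι → AddSubgroup P}
  [DirectSum.Decomposition 𝓟] [SetLike.GradedSMul 𝒜 𝓟]

/-- a linear map preserves power torsion -/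
theorem map_mem_gam {A B : Type u} [AddCommGroup A] [Module R A] [AddCommGroup B] [Module R B]
    (f : A →ₗ[R] B) (a : Ideal R) {x : A} (hx : x ∈ GrLC.gam a A) : f x ∈ GrLC.gam a B := by
  obtain ⟨n, hn⟩ := hx
  exact ⟨n, fun r hr => by rw [← map_smul, hn r hr, map_zero]⟩

theorem d_comp_d (E : GrLC.StarInjRes 𝒜 ℳ) (n : ℕ) (x : (E.X n).carrier) :
    E.d (n + 1) (E.d n x) = 0 := by
  have : E.d n x ∈ LinearMap.ker (E.d (n + 1)) := by
    rw [E.exact_succ n]; exact LinearMap.mem_range_self _ x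
  exact this

theorem d_ε (E : GrLC.StarInjRes 𝒜 ℳ) (m : M) : E.d 0 (E.ε m) = 0 := by
  have : E.ε m ∈ LinearMap.ker (E.d 0) := by
    rw [E.exact_zero]; exact LinearMap.mem_range_self _ m
  exact this

/-- a chain map of degree `k` between *injective resolutions -/
structure CMap (E : GrLC.StarInjRes 𝒜 ℳ) (F : GrLC.StarInjRes 𝒜 𝒩) (k : ι) where
  /-- the components -/
  θ : ∀ n, (E.X n).carrier →ₗ[R] (F.X n).carrier
  hom : ∀ n, GrLC.IsGrHomDeg (E.X n).gr (F.X n).gr (θ n) k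
  comm : ∀ n x, θ (n + 1) (E.d n x) = F.d n (θ n x)

namespace CMap

variable {E : GrLC.StarInjRes 𝒜 ℳ} {F : GrLC.StarInjRes 𝒜 𝒩} {G : GrLC.StarInjRes 𝒜 𝓟} {k l : ι}

/-- the induced map on cocycles -/
def mapCocyc (c : CMap E F k) (a : HomogeneousIdeal 𝒜) (i : ℕ) :
    ↥(E.cocyc a i) →ₗ[R] ↥(F.cocyc a i) :=
  LinearMap.codRestrict (F.cocyc a i) (c.θ i ∘ₗ (E.cocyc a i).subtype) (by
    intro z
    have hz1 : (z : (E.X i).carrier) ∈ GrLC.gam a.toIdeal (E.X i).carrier := z.2.1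
    have hz2 : E.d i (z : (E.X i).carrier) = 0 := z.2.2
    refine ⟨map_mem_gam (c.θ i) _ hz1, ?_⟩
    show F.d i (c.θ i z) = 0
    rw [← c.comm, hz2, map_zero])

@[simp] theorem mapCocyc_coe (c : CMap E F k) (a : HomogeneousIdeal 𝒜) (i : ℕ) (z : ↥(E.cocyc a i)) :
    ((c.mapCocyc a i z : ↥(F.cocyc a i)) : (F.X i).carrier) = c.θ i z := rfl

theorem map_cobdy (c : CMap E F k) (a : HomogeneousIdeal 𝒜) (i : ℕ) {z : (E.X i).carrier}
    (hz : z ∈ E.cobdy a i) : c.θ i z ∈ F.cobdy a i := by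
  cases i with
  | zero =>
    have hz' : z ∈ (⊥ : Submodule R (E.X 0).carrier) := hz
    rw [Submodule.mem_bot] at hz'
    rw [hz', map_zero]
    exact zero_mem _
  | succ n =>
    have hz' : z ∈ (GrLC.gam a.toIdeal (E.X n).carrier).map (E.d n) := hz
    obtain ⟨y, hy, rfl⟩ := hz'
    show c.θ (n + 1) (E.d n y) ∈ (GrLC.gam a.toIdeal (F.X n).carrier).map (F.d n)
    rw [c.comm]
    exact ⟨c.θ n y, map_mem_gam _ _ hy, rfl⟩

/-- the induced map on graded local cohomology -/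
def Hmap (c : CMap E F k) (a : HomogeneousIdeal 𝒜) (i : ℕ) : E.H a i →ₗ[R] F.H a i :=
  Submodule.mapQ _ _ (c.mapCocyc a i) (by
    intro z hz
    rw [Submodule.mem_comap] at hz ⊢
    exact c.map_cobdy a i hz)

theorem Hmap_toH (c : CMap E F k) (a : HomogeneousIdeal 𝒜) (i : ℕ) (z : ↥(E.cocyc a i)) :
    c.Hmap a i (E.toH a i z) = F.toH a i (c.mapCocyc a i z) := rfl

theorem Hmap_mem_Hcomp (c : CMap E F k) (a : HomogeneousIdeal 𝒜) (i : ℕ) {g : ι} {x : E.H a i}
    (hx : x ∈ E.Hcomp a i g) : c.Hmap a i x ∈ F.Hcomp a i (g + k) := by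
  obtain ⟨z, hz, rfl⟩ := hx
  exact ⟨c.mapCocyc a i z, c.hom i g _ hz, rfl⟩

/-- the identity chain map -/
def id (E : GrLC.StarInjRes 𝒜 ℳ) : CMap E E 0 where
  θ _ := LinearMap.id
  hom n g x hx := by rw [add_zero]; exact hx
  comm _ _ := rfl

/-- composition of chain maps -/
def comp (c' : CMap F G l) (c : CMap E F k) : CMap E G (k + l) where
  θ n := c'.θ n ∘ₗ c.θ n
  hom n g x hx := by
    have := c'.hom n (g + k) _ (c.hom n g x hx)
    rwa [add_assoc] at this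
  comm n x := by
    show c'.θ (n + 1) (c.θ (n + 1) (E.d n x)) = G.d n (c'.θ n (c.θ n x))
    rw [c.comm, c'.comm]

/-- multiplication by a homogeneous element -/
def smul (E : GrLC.StarInjRes 𝒜 ℳ) {x : R} (hx : x ∈ 𝒜 k) : CMap E E k where
  θ n := x • LinearMap.id
  hom n g y hy := by
    have := SetLike.GradedSMul.smul_mem (A := 𝒜) (B := (E.X n).gr) hx hy
    rw [vadd_eq_add, add_comm] at this
    exact this
  comm n y := by
    show x • E.d n y = E.d n (x • y)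
    rw [map_smul]

theorem Hmap_id (a : HomogeneousIdeal 𝒜) (i : ℕ) (x : E.H a i) : (CMap.id E).Hmap a i x = x := by
  obtain ⟨z, rfl⟩ := Submodule.Quotient.mk_surjective _ x
  rfl

theorem Hmap_comp (c' : CMap F G l) (c : CMap E F k) (a : HomogeneousIdeal 𝒜) (i : ℕ) (x : E.H a i) :
    (c'.comp c).Hmap a i x = c'.Hmap a i (c.Hmap a i x) := by
  obtain ⟨z, rfl⟩ := Submodule.Quotient.mk_surjective _ x
  rfl

theorem Hmap_smul {x : R} (hx : x ∈ 𝒜 k) (a : HomogeneousIdeal 𝒜) (i : ℕ) (y : E.H a i) :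
    (CMap.smul E hx).Hmap a i y = x • y := by
  obtain ⟨z, rfl⟩ := Submodule.Quotient.mk_surjective _ y
  rfl

end CMap

/-- a chain homotopy between two chain maps -/
structure Htpy {E : GrLC.StarInjRes 𝒜 ℳ} {F : GrLC.StarInjRes 𝒜 𝒩} {k : ι} (c c' : CMap E F k) where
  /-- the homotopy -/
  s : ∀ n, (E.X (n + 1)).carrier →ₗ[R] (F.X n).carrier
  h0 : ∀ x : (E.X 0).carrier, c.θ 0 x - c'.θ 0 x = s 0 (E.d 0 x)
  hs : ∀ (n : ℕ) (x : (E.X (n + 1)).carrier),
    c.θ (n + 1) x - c'.θ (n + 1) x = F.d n (s n x) + s (n + 1) (E.d (n + 1) x)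

theorem Hmap_eq_of_htpy {E : GrLC.StarInjRes 𝒜 ℳ} {F : GrLC.StarInjRes 𝒜 𝒩} {k : ι}
    {c c' : CMap E F k} (h : Htpy c c') (a : HomogeneousIdeal 𝒜) (i : ℕ) (x : E.H a i) :
    c.Hmap a i x = c'.Hmap a i x := by
  obtain ⟨z, rfl⟩ := Submodule.Quotient.mk_surjective _ x
  show F.toH a i (c.mapCocyc a i z) = F.toH a i (c'.mapCocyc a i z)
  rw [← sub_eq_zero, ← map_sub]
  show Submodule.Quotient.mk _ = 0
  rw [Submodule.Quotient.mk_eq_zero, Submodule.mem_comap]
  have hz1 : (z : (E.X i).carrier) ∈ GrLC.gam a.toIdeal (E.X i).carrier := z.2.1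
  have hz2 : E.d i (z : (E.X i).carrier) = 0 := z.2.2
  show c.θ i z - c'.θ i z ∈ F.cobdy a i
  cases i with
  | zero =>
    rw [h.h0, hz2, map_zero]
    exact zero_mem _
  | succ n =>
    rw [h.hs, hz2, map_zero, add_zero]
    exact ⟨h.s n z, map_mem_gam _ _ hz1, rfl⟩

/-- homotopy inverse chain maps of degree zero give an isomorphism on graded local cohomology
preserving the pieces -/
theorem exists_hEquiv {E : GrLC.StarInjRes 𝒜 ℳ} {F : GrLC.StarInjRes 𝒜 𝒩}
    (c : CMap E F 0) (c' : CMap F E 0)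
    (h1 : ∀ (a : HomogeneousIdeal 𝒜) (i : ℕ) (x : E.H a i), c'.Hmap a i (c.Hmap a i x) = x)
    (h2 : ∀ (a : HomogeneousIdeal 𝒜) (i : ℕ) (y : F.H a i), c.Hmap a i (c'.Hmap a i y) = y)
    (a : HomogeneousIdeal 𝒜) (i : ℕ) :
    ∃ e : E.H a i ≃ₗ[R] F.H a i, (∀ x, e x = c.Hmap a i x) ∧
      ∀ (g : ι) (x : E.H a i), x ∈ E.Hcomp a i g ↔ e x ∈ F.Hcomp a i g := by
  refine ⟨LinearEquiv.ofLinearMap (c.Hmap a i) (c'.Hmap a i) (LinearMap.ext (h2 a i))
    (LinearMap.ext (h1 a i)), fun x => rfl, fun g x => ⟨fun hx => ?_, fun hx => ?_⟩⟩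
  · have := c.Hmap_mem_Hcomp a i hx
    rwa [add_zero] at this
  · have := c'.Hmap_mem_Hcomp a i hx
    rw [add_zero] at this
    have e : c'.Hmap a i (c.Hmap a i x) = x := h1 a i x
    rwa [← e]

end Groth.Agent.Lib.Seat91.GrCx
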