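import Groth.Agent.Lib.Helper28DepthCM
import Groth.Agent.Lib.Helper14FTDimB
import Groth.Agent.Lib.Seat91GrIrr
import Groth.Agent.Lib.Seat91DimAux

/-!
# Height of the irrelevant ideal and a socle obstruction to Cohen–Macaulayness (seat 91)

`T = k ⊕ T_1 ⊕ …` a graded algebra over a field `k`.

* `natCast_le_height_irr`: for `T` of finite type, `ht T_+ ≥ r` whenever `dim T ≥ r`.
* `false_of_socle`: if `T` is Cohen–Macaulay with `ht T_+ ≥ 2`, `t ∈ T_+` is a nonzerodivisor and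
  `T_+ z ⊆ tT`, then `z ∈ tT`.

Namespace `Groth.Agent.Lib.Seat91.GrDepth`.
-/

set_option autoImplicit false
set_option linter.unusedSectionVars false
set_option linter.style.haveILetI false
universe u

open DirectSum Groth.Agent.Lib.Seat91.GrIrr Groth.Agent.Lib.Seat91.DimAux

namespace Groth.Agent.Lib.Seat91.GrDepth

variable {k T : Type u} [Field k] [CommRing T] [Algebra k T]
  (𝒯 : ℤ → Submodule k T) [GradedAlgebra 𝒯]
  (hpos : ∀ n : ℤ, n < 0 → 𝒯 n = ⊥) (h0 : 𝒯 0 = Submodule.span k {(1 : T)})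

include hpos h0 in
/-- the irrelevant ideal of a graded algebra of finite type has height `dim T` -/
theorem natCast_le_height_irr [Algebra.FiniteType k T] [Nontrivial T] (r : ℕ)
    (hd : (r : WithBot ℕ∞) ≤ ringKrullDim T) : (r : ℕ∞) ≤ (irr 𝒯).height := by
  classical
  have hN : IsNoetherianRing T := Algebra.FiniteType.isNoetherianRing k T
  obtain ⟨l, hl⟩ := Order.le_krullDim_iff.1 hd
  have hqr : (r : WithBot ℕ∞) ≤ ringKrullDim (T ⧸ l.head.asIdeal) := by
    have := length_le_ringKrullDim_quotient_head l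
    rw [hl] at this
    exact_mod_cast this
  haveI := l.head.2
  obtain ⟨q₁, hq₁, hq₁q⟩ := Ideal.exists_minimalPrimes_le (bot_le : (⊥ : Ideal T) ≤ l.head.asIdeal)
  have hq₁p : q₁.IsPrime := hq₁.1.1
  have hq₁hom : q₁.IsHomogeneous 𝒯 :=
    isHomogeneous_of_mem_minimalPrimes 𝒯 (Ideal.IsHomogeneous.bot 𝒯) hq₁
  have hq₁irr : q₁ ≤ irr 𝒯 := le_irr_of_isHomogeneous 𝒯 hpos h0 hq₁hom hq₁p.ne_top
  have hq₁r : (r : WithBot ℕ∞) ≤ ringKrullDim (T ⧸ q₁) :=
    hqr.trans (ringKrullDim_le_of_surjective (Ideal.Quotient.factor hq₁q)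
      (Ideal.Quotient.factor_surjective hq₁q))
  have hmax : (irr 𝒯).IsMaximal := irr_isMaximal 𝒯 hpos h0
  have hprime : (irr 𝒯).IsPrime := hmax.isPrime
  have hmax' : ((irr 𝒯).map (Ideal.Quotient.mk q₁)).IsMaximal :=
    Ideal.IsMaximal.map_of_surjective_of_ker_le Ideal.Quotient.mk_surjective
      (by rwa [Ideal.mk_ker])
  have hprime' : ((irr 𝒯).map (Ideal.Quotient.mk q₁)).IsPrime := hmax'.isPrime
  have hht : ((((irr 𝒯).map (Ideal.Quotient.mk q₁)).height : ℕ∞) : WithBot ℕ∞) =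
      ringKrullDim (T ⧸ q₁) := by
    haveI : Algebra.FiniteType k (T ⧸ q₁) :=
      Algebra.FiniteType.of_surjective (Ideal.Quotient.mkₐ k q₁)
        (Ideal.Quotient.mkₐ_surjective k q₁)
    obtain ⟨m, c, hcm, hm, hc, hmc⟩ := Groth.Agent.Lib.Helper14.FTDim.exists_dim_height (k := k)
      (T ⧸ q₁) ((irr 𝒯).map (Ideal.Quotient.mk q₁))
    have h0' : ringKrullDim ((T ⧸ q₁) ⧸ (irr 𝒯).map (Ideal.Quotient.mk q₁)) = 0 := by
      letI := Ideal.Quotient.field ((irr 𝒯).map (Ideal.Quotient.mk q₁))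
      exact ringKrullDim_eq_zero_of_field _
    rw [h0'] at hmc
    have : m - c = 0 := by exact_mod_cast hmc.symm
    rw [hm, hc, show m = c by omega]
    rfl
  let g : PrimeSpectrum (T ⧸ q₁) → PrimeSpectrum T := fun a =>
    PrimeSpectrum.comap (Ideal.Quotient.mk q₁) a
  have hg : StrictMono g := by
    refine Monotone.strictMono_of_injective ?_ ?_
    · intro a b hab
      exact Ideal.comap_mono hab
    · exact PrimeSpectrum.comap_injective_of_surjective _ Ideal.Quotient.mk_surjective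
  have h4 := Order.height_le_height_apply_of_strictMono g hg
    ⟨(irr 𝒯).map (Ideal.Quotient.mk q₁), hprime'⟩
  have h5 : g ⟨(irr 𝒯).map (Ideal.Quotient.mk q₁), hprime'⟩ = ⟨irr 𝒯, hprime⟩ := by
    apply PrimeSpectrum.ext
    show ((irr 𝒯).map (Ideal.Quotient.mk q₁)).comap (Ideal.Quotient.mk q₁) = irr 𝒯
    rw [Ideal.comap_map_of_surjective _ Ideal.Quotient.mk_surjective, ← RingHom.ker_eq_comap_bot,
      Ideal.mk_ker, sup_eq_left.2 hq₁irr]
  rw [h5, ← PrimeSpectrum.height_eq_orderHeight, ← PrimeSpectrum.height_eq_orderHeight] at h4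
  refine le_trans ?_ h4
  have h6 : (r : WithBot ℕ∞) ≤ (((irr 𝒯).map (Ideal.Quotient.mk q₁)).height : WithBot ℕ∞) := by
    rw [hht]; exact hq₁r
  exact_mod_cast h6

include hpos h0 in
/-- **socle obstruction**: in a graded Cohen–Macaulay ring whose irrelevant ideal has height `≥ 2`,
modulo a nonzerodivisor `t ∈ T_+` there is no socle -/
theorem mem_span_of_irr_mul_mem [Nontrivial T] [hCM : LocCoh.IsCohenMacaulayRing T]
    (h2 : 2 ≤ (irr 𝒯).height) {t z : T} (ht : t ∈ irr 𝒯) (htreg : t ∈ nonZeroDivisors T)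
    (hz : ∀ u ∈ irr 𝒯, u * z ∈ Ideal.span {t}) : z ∈ Ideal.span {t} := by
  have hmax : (irr 𝒯).IsMaximal := irr_isMaximal 𝒯 hpos h0
  haveI hprime : (irr 𝒯).IsPrime := hmax.isPrime
  set A := Localization.AtPrime (irr 𝒯) with hA_def
  have hA : LocCoh.IsCohenMacaulayLocalRing A :=
    hCM.isCohenMacaulayLocalRing_localization (irr 𝒯)
  have hdim : Module.supportDim A A = (((irr 𝒯).height : ℕ∞) : WithBot ℕ∞) := by
    rw [Module.supportDim_self_eq_ringKrullDim,
      IsLocalization.AtPrime.ringKrullDim_eq_height (irr 𝒯) A]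
  have hdepth : 2 ≤ LocCoh.depth A A := by
    have h3 := hA.supportDim_eq_depth
    rw [hdim] at h3
    have h4 : (irr 𝒯).height = LocCoh.depth A A := WithBot.coe_injective h3
    rw [← h4]
    exact h2
  set τ : A := algebraMap T A t with hτ_def
  have hτm : τ ∈ IsLocalRing.maximalIdeal A := by
    have := (IsLocalization.AtPrime.mk'_mem_maximal_iff A (irr 𝒯) t 1).2 ht
    rwa [IsLocalization.mk'_one] at this
  have hτreg : IsSMulRegular A τ := by
    have : τ ∈ nonZeroDivisors A :=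
      IsLocalization.map_nonZeroDivisors_le (irr 𝒯).primeCompl A (Submonoid.mem_map_of_mem _ htreg)
    intro a b hab
    simp only [smul_eq_mul] at hab
    exact (mul_cancel_left_mem_nonZeroDivisors this).1 hab
  have hIM : IsLocalRing.maximalIdeal A • (⊤ : Submodule A A) ≠ ⊤ :=
    Groth.Agent.Lib.Helper28.maximalIdeal_smul_top_ne_top
  have hadd := Groth.Agent.Lib.Helper28.idealDepth_quotSMulTop_add_one
    (IsLocalRing.maximalIdeal A) A hIM τ hτm hτreg
  have hIM' := Groth.Agent.Lib.Helper28.smul_top_quotSMulTop_ne_top (M := A) hτm hIM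
  have h1 : 1 ≤ LocCoh.idealDepth (IsLocalRing.maximalIdeal A) (QuotSMulTop τ A) := by
    have h5 : (2 : ℕ∞) ≤ LocCoh.idealDepth (IsLocalRing.maximalIdeal A) (QuotSMulTop τ A) + 1 := by
      rw [hadd]; exact hdepth
    have h6 : ((1 : ℕ∞) + 1) ≤ LocCoh.idealDepth (IsLocalRing.maximalIdeal A) (QuotSMulTop τ A) + 1 := by
      rw [one_add_one_eq_two]; exact h5
    exact (ENat.add_le_add_iff_right ENat.one_ne_top).mp h6
  obtain ⟨u, hu, hreg⟩ := (Groth.Agent.Lib.Helper28.one_le_idealDepth_iff hIM').mp h1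
  obtain ⟨a, s, rfl⟩ := IsLocalization.exists_mk'_eq (irr 𝒯).primeCompl u
  have ha : a ∈ irr 𝒯 := (IsLocalization.AtPrime.mk'_mem_maximal_iff A (irr 𝒯) a s).1 hu
  obtain ⟨v, hv⟩ := Ideal.mem_span_singleton'.1 (hz a ha)
  -- `u • [z/1] = 0` in `A/τA`
  have hζ : (Submodule.Quotient.mk (algebraMap T A z) : QuotSMulTop τ A) = 0 := by
    apply hreg
    show IsLocalization.mk' A a s • (Submodule.Quotient.mk (algebraMap T A z) : QuotSMulTop τ A) =
      IsLocalization.mk' A a s • (0 : QuotSMulTop τ A)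
    rw [smul_zero, ← Submodule.Quotient.mk_smul, Submodule.Quotient.mk_eq_zero,
      Submodule.mem_smul_pointwise_iff_exists]
    refine ⟨IsLocalization.mk' A v s, Submodule.mem_top, ?_⟩
    rw [smul_eq_mul, smul_eq_mul, hτ_def, IsLocalization.mul_mk'_eq_mk'_of_mul,
      mul_comm (IsLocalization.mk' A a s), IsLocalization.mul_mk'_eq_mk'_of_mul]
    congr 1
    rw [mul_comm t v, hv, mul_comm]
  rw [Submodule.Quotient.mk_eq_zero, Submodule.mem_smul_pointwise_iff_exists] at hζ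
  obtain ⟨α, -, hα⟩ := hζ
  obtain ⟨v', s', rfl⟩ := IsLocalization.exists_mk'_eq (irr 𝒯).primeCompl α
  rw [smul_eq_mul, hτ_def, IsLocalization.mul_mk'_eq_mk'_of_mul, IsLocalization.mk'_eq_iff_eq_mul,
    ← map_mul, IsLocalization.eq_iff_exists (irr 𝒯).primeCompl] at hα
  obtain ⟨c, hc⟩ := hα
  -- `ρ z ∈ tT` with `ρ ∉ 𝔫`
  set ρ : T := c * s' with hρ
  have hρz : ρ * z ∈ Ideal.span {t} := by
    have : ρ * z = t * (c * v') := by
      rw [hρ, mul_assoc, mul_comm (s' : T) z, ← hc]; ring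
    rw [this]
    exact Ideal.mul_mem_right _ _ (Ideal.subset_span rfl)
  have hρm : ρ ∉ irr 𝒯 := by
    intro h
    rcases hprime.mem_or_mem h with h' | h'
    · exact c.2 h'
    · exact s'.2 h'
  have hmem := sub_decompose_zero_mem_irr 𝒯 hpos ρ
  obtain ⟨c₀, hc₀⟩ := exists_decompose_zero_eq 𝒯 h0 ρ
  have hc0 : c₀ ≠ 0 := by
    rintro rfl
    rw [map_zero] at hc₀
    apply hρm
    have := hmem
    rwa [hc₀, sub_zero] at this
  have h4 : algebraMap k T c₀ * z ∈ Ideal.span {t} := by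
    have h5 := hz _ hmem
    rw [sub_mul, hc₀] at h5
    have := Ideal.sub_mem _ hρz h5
    rwa [sub_sub_cancel] at this
  have : z = algebraMap k T c₀⁻¹ * (algebraMap k T c₀ * z) := by
    rw [← mul_assoc, ← map_mul, inv_mul_cancel₀ hc0, map_one, one_mul]
  rw [this]
  exact Ideal.mul_mem_left _ _ h4

end Groth.Agent.Lib.Seat91.GrDepth
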