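import Groth.Agent.Lib.Seat91GrCone

/-!
# The long exact sequence of graded local cohomology (seat 91)

For a short exact sequence `0 → M' → M → M'' → 0` of graded modules and *injective resolutions
`E'`, `E`, `E''` with chain maps `c : E' → E`, `j : E → E''` over the maps of the sequence, there are
connecting maps `δ i : E''.H a i → E'.H a (i + 1)` preserving degrees such that
`H^i(M') → H^i(M) → H^i(M'') → H^{i+1}(M') → H^{i+1}(M)` is exact (`exists_les`).

Namespace `Groth.Agent.Lib.Seat91.GrLES`.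
-/

set_option autoImplicit false
set_option linter.unusedSectionVars false
universe u

open DirectSum Groth.Agent.Lib.Seat91.GrCx Groth.Agent.Lib.Seat91.GrCompare
  Groth.Agent.Lib.Seat91.GrProd Groth.Agent.Lib.Seat91.GrCone
  Groth.Agent.Lib.Helper29GrSub Groth.Agent.Lib.Helper29GrHom

namespace Groth.Agent.Lib.Seat91.GrLES

section gam

variable {R : Type u} [CommRing R] {A B : Type u} [AddCommGroup A] [Module R A]
  [AddCommGroup B] [Module R B]

theorem mem_gam_prod (I : Ideal R) (x : A × B) :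
    x ∈ GrLC.gam I (A × B) ↔ x.1 ∈ GrLC.gam I A ∧ x.2 ∈ GrLC.gam I B := by
  constructor
  · intro hx
    exact ⟨map_mem_gam (LinearMap.fst R A B) I hx, map_mem_gam (LinearMap.snd R A B) I hx⟩
  · rintro ⟨h1, h2⟩
    have e : x = LinearMap.inl R A B x.1 + LinearMap.inr R A B x.2 := by
      apply Prod.ext
      · show x.1 = x.1 + 0
        rw [add_zero]
      · show x.2 = 0 + x.2
        rw [zero_add]
    rw [e]
    exact add_mem (map_mem_gam _ I h1) (map_mem_gam _ I h2)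

theorem mem_gam_sub (I : Ideal R) (S : Submodule R A) (x : ↥S) :
    x ∈ GrLC.gam I ↥S ↔ (x : A) ∈ GrLC.gam I A := by
  constructor
  · intro hx
    exact map_mem_gam S.subtype I hx
  · rintro ⟨n, hn⟩
    refine ⟨n, fun r hr => Subtype.ext ?_⟩
    show r • (x : A) = 0
    exact hn r hr

end gam


section cone

variable {ι : Type} [AddCommGroup ι] [DecidableEq ι]
variable {R : Type u} [CommRing R] {𝒜 : ι → AddSubgroup R} [GradedRing 𝒜]
variable {M' : Type u} [AddCommGroup M'] [Module R M'] {ℳ' : ι → AddSubgroup M'}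
  [DirectSum.Decomposition ℳ'] [SetLike.GradedSMul 𝒜 ℳ']
variable {M : Type u} [AddCommGroup M] [Module R M] {ℳ : ι → AddSubgroup M}
  [DirectSum.Decomposition ℳ] [SetLike.GradedSMul 𝒜 ℳ]
variable {M'' : Type u} [AddCommGroup M''] [Module R M''] {ℳ'' : ι → AddSubgroup M''}
  [DirectSum.Decomposition ℳ''] [SetLike.GradedSMul 𝒜 ℳ'']
variable {E' : GrLC.StarInjRes 𝒜 ℳ'} {E : GrLC.StarInjRes 𝒜 ℳ} {c : CMap E' E 0}
variable {incl : M' →ₗ[R] M} (hincl : Function.Injective incl)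
  (hc : ∀ m : M', c.θ 0 (E'.ε m) = E.ε (incl m)) (ρ : Retr E' E c)
  {π : M →ₗ[R] M''} (hπ : Function.Surjective π) (hπg : GrLC.IsGrHom ℳ ℳ'' π)
  (hex : LinearMap.ker π = LinearMap.range incl)

local notation "C" => coneRes hincl hc ρ hπ hπg hex

/-- the underlying element of the cone -/
def cval (n : ℕ) : ((C).X n).carrier →ₗ[R] CT E' E n := (S ρ n).subtype

theorem cval_injective (n : ℕ) : Function.Injective (cval hincl hc ρ hπ hπg hex n) :=
  Subtype.val_injective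

theorem cval_d (n : ℕ) (x : ((C).X n).carrier) :
    cval hincl hc ρ hπ hπg hex (n + 1) ((C).d n x) = D E' E c n (cval hincl hc ρ hπ hπg hex n x) :=
  rfl

theorem cval_mem (n : ℕ) (x : ((C).X n).carrier) : cval hincl hc ρ hπ hπg hex n x ∈ S ρ n :=
  Subtype.property (p := fun y => y ∈ S ρ n) x

/-- elements of the cone from elements of `S` -/
def cmk (n : ℕ) (x : CT E' E n) (hx : x ∈ S ρ n) : ((C).X n).carrier := (⟨x, hx⟩ : ↥(S ρ n))

theorem cval_cmk (n : ℕ) (x : CT E' E n) (hx : x ∈ S ρ n) :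
    cval hincl hc ρ hπ hπg hex n (cmk hincl hc ρ hπ hπg hex n x hx) = x := rfl

theorem mem_gam_cone (I : Ideal R) (n : ℕ) (x : ((C).X n).carrier) :
    x ∈ GrLC.gam I ((C).X n).carrier ↔
      (cval hincl hc ρ hπ hπg hex n x).1 ∈ GrLC.gam I (E'.X (n + 1)).carrier ∧
      (cval hincl hc ρ hπ hπg hex n x).2 ∈ GrLC.gam I (E.X n).carrier := by
  rw [← mem_gam_prod]
  exact mem_gam_sub I (S ρ n) x


local notation "cv" => cval hincl hc ρ hπ hπg hex
local notation "mk'" => cmk hincl hc ρ hπ hπg hex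

theorem mem_gam_cone' (I : Ideal R) (n : ℕ) (x : ((C).X n).carrier) :
    x ∈ GrLC.gam I ((C).X n).carrier ↔ cv n x ∈ GrLC.gam I (CT E' E n) :=
  mem_gam_sub I (S ρ n) x

theorem toH_eq_zero_iff {N : Type u} [AddCommGroup N] [Module R N] {𝒩 : ι → AddSubgroup N}
    [DirectSum.Decomposition 𝒩] [SetLike.GradedSMul 𝒜 𝒩] (F : GrLC.StarInjRes 𝒜 𝒩)
    (a : HomogeneousIdeal 𝒜) (i : ℕ) (z : ↥(F.cocyc a i)) :
    F.toH a i z = 0 ↔ (z : (F.X i).carrier) ∈ F.cobdy a i := by
  show Submodule.Quotient.mk z = 0 ↔ _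
  rw [Submodule.Quotient.mk_eq_zero, Submodule.mem_comap]
  rfl

theorem toH_eq_iff {N : Type u} [AddCommGroup N] [Module R N] {𝒩 : ι → AddSubgroup N}
    [DirectSum.Decomposition 𝒩] [SetLike.GradedSMul 𝒜 𝒩] (F : GrLC.StarInjRes 𝒜 𝒩)
    (a : HomogeneousIdeal 𝒜) (i : ℕ) (z w : ↥(F.cocyc a i)) :
    F.toH a i z = F.toH a i w ↔ (z : (F.X i).carrier) - (w : (F.X i).carrier) ∈ F.cobdy a i := by
  rw [← sub_eq_zero, ← map_sub, toH_eq_zero_iff]
  rfl

/-- the chain map `E → C` -/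
def jmap : CMap E (C) 0 where
  θ n := LinearMap.codRestrict (S ρ n) (p ρ n ∘ₗ LinearMap.inr R _ _) (fun _ => p_mem ρ n _)
  hom n := (isGrHomDeg_zero_iff _ _ _).2 (fun g b hb => p_isGrHom ρ n g _ ⟨zero_mem _, hb⟩)
  comm n b := by
    apply cval_injective hincl hc ρ hπ hπg hex (n + 1)
    show p ρ (n + 1) (0, E.d n b) = D E' E c n (p ρ n (0, b))
    rw [D_p]
    apply Prod.ext
    · show (0 : (E'.X (n + 1 + 1)).carrier) = -(E'.d (n + 1) 0)
      rw [map_zero, neg_zero]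
    · show E.d n b = c.θ (n + 1) 0 + E.d n b
      rw [map_zero, zero_add]

theorem cv_jmap (n : ℕ) (b : (E.X n).carrier) :
    cv n ((jmap hincl hc ρ hπ hπg hex).θ n b) = p ρ n (0, b) := rfl

theorem jmap_ε (m : M) : (jmap hincl hc ρ hπ hπg hex).θ 0 (E.ε m) = (C).ε (π m) := by
  apply cval_injective hincl hc ρ hπ hπg hex 0
  rw [cv_jmap]
  show pK ρ (0, E.ε m) = ((coneε hc ρ hπ hex (π m) : ↥(S ρ 0)) : CT E' E 0)
  rw [coneε_π]
  rfl


variable (a : HomogeneousIdeal 𝒜)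

theorem cocyc_fst_mem (i : ℕ) (z : ↥((C).cocyc a i)) :
    (cv i (z : ((C).X i).carrier)).1 ∈ E'.cocyc a (i + 1) := by
  have hz1 : (z : ((C).X i).carrier) ∈ GrLC.gam a.toIdeal ((C).X i).carrier := z.2.1
  have hz2 : (C).d i (z : ((C).X i).carrier) = 0 := z.2.2
  refine ⟨((mem_gam_cone hincl hc ρ hπ hπg hex a.toIdeal i _).1 hz1).1, ?_⟩
  show E'.d (i + 1) (cv i (z : ((C).X i).carrier)).1 = 0
  have h := congrArg (fun y => (cv (i + 1) y).1) hz2
  simp only [cval_d, D_fst] at h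
  exact neg_eq_zero.1 h

/-- first component of a cocycle of the cone, as a cocycle of `E'` -/
noncomputable def bdCocyc (i : ℕ) : ↥((C).cocyc a i) →ₗ[R] ↥(E'.cocyc a (i + 1)) :=
  LinearMap.codRestrict (E'.cocyc a (i + 1))
    (LinearMap.fst R _ _ ∘ₗ cv i ∘ₗ ((C).cocyc a i).subtype)
    (fun z => cocyc_fst_mem hincl hc ρ hπ hπg hex a i z)

theorem bdCocyc_coe (i : ℕ) (z : ↥((C).cocyc a i)) :
    ((bdCocyc hincl hc ρ hπ hπg hex a i z : ↥(E'.cocyc a (i + 1))) : (E'.X (i + 1)).carrier) =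
      (cv i (z : ((C).X i).carrier)).1 := rfl

theorem cobdy_fst_mem (i : ℕ) {z : ((C).X i).carrier} (hz : z ∈ (C).cobdy a i) :
    (cv i z).1 ∈ E'.cobdy a (i + 1) := by
  cases i with
  | zero =>
    have hz' : z ∈ (⊥ : Submodule R ((C).X 0).carrier) := hz
    rw [Submodule.mem_bot] at hz'
    rw [hz', map_zero]
    exact zero_mem _
  | succ n =>
    have hz' : z ∈ (GrLC.gam a.toIdeal ((C).X n).carrier).map ((C).d n) := hz
    obtain ⟨y, hy, rfl⟩ := hz'
    show _ ∈ (GrLC.gam a.toIdeal (E'.X (n + 1)).carrier).map (E'.d (n + 1))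
    refine ⟨-(cv n y).1, neg_mem ((mem_gam_cone hincl hc ρ hπ hπg hex a.toIdeal n y).1 hy).1, ?_⟩
    rw [cval_d, D_fst, map_neg]

/-- the connecting map `H^i(C) → H^{i+1}(E')` -/
noncomputable def bd (i : ℕ) : (C).H a i →ₗ[R] E'.H a (i + 1) :=
  Submodule.mapQ _ _ (bdCocyc hincl hc ρ hπ hπg hex a i) (by
    intro z hz
    rw [Submodule.mem_comap] at hz ⊢
    exact cobdy_fst_mem hincl hc ρ hπ hπg hex a i hz)

theorem bd_toH (i : ℕ) (z : ↥((C).cocyc a i)) :
    bd hincl hc ρ hπ hπg hex a i ((C).toH a i z) =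
      E'.toH a (i + 1) (bdCocyc hincl hc ρ hπ hπg hex a i z) := rfl

theorem bd_mem_Hcomp (i : ℕ) {g : ι} {x : (C).H a i} (hx : x ∈ (C).Hcomp a i g) :
    bd hincl hc ρ hπ hπg hex a i x ∈ E'.Hcomp a (i + 1) g := by
  obtain ⟨z, hz, rfl⟩ := hx
  exact ⟨bdCocyc hincl hc ρ hπ hπg hex a i z, hz.1, rfl⟩

/-- L1 : the image of a torsion element of `E'^i` in the cone is a coboundary -/
theorem mk_pQ_mem_cobdy (i : ℕ) {a₀ : (E'.X i).carrier}
    (h : a₀ ∈ GrLC.gam a.toIdeal (E'.X i).carrier) :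
    mk' i (p ρ i (Q E' E c i a₀)) (p_mem ρ i _) ∈ (C).cobdy a i := by
  cases i with
  | zero =>
    have : mk' 0 (p ρ 0 (Q E' E c 0 a₀)) (p_mem ρ 0 _) = 0 := by
      apply cval_injective hincl hc ρ hπ hπg hex 0
      rw [cval_cmk, map_zero]
      exact p_Q_zero ρ a₀
    rw [this]
    exact zero_mem _
  | succ n =>
    show _ ∈ (GrLC.gam a.toIdeal ((C).X n).carrier).map ((C).d n)
    refine ⟨mk' n (p ρ n (a₀, 0)) (p_mem ρ n _),
      (mem_gam_cone' hincl hc ρ hπ hπg hex a.toIdeal n _).2 ?_, ?_⟩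
    · rw [cval_cmk]
      exact map_mem_gam (p ρ n) _ ((mem_gam_prod _ _).2 ⟨h, zero_mem _⟩)
    · apply cval_injective hincl hc ρ hπ hπg hex (n + 1)
      rw [cval_d, cval_cmk, cval_cmk, D_p, Q_succ]
      rfl

/-- L2 : the projection changes the first component of a torsion element by a coboundary -/
theorem p_fst_sub_mem_cobdy (i : ℕ) {x : CT E' E i} (hx : x ∈ GrLC.gam a.toIdeal (CT E' E i)) :
    (p ρ i x).1 - x.1 ∈ E'.cobdy a (i + 1) := by
  obtain ⟨f, hf⟩ := p_fst_sub ρ i x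
  rw [hf]
  exact ⟨f x, map_mem_gam f _ hx, rfl⟩


local notation "J" => jmap hincl hc ρ hπ hπg hex

/-- exactness at `H^i(E)` -/
theorem cone_exact_mid (i : ℕ) :
    LinearMap.ker ((J).Hmap a i) = LinearMap.range (c.Hmap a i) := by
  apply le_antisymm
  · intro x hx
    rw [LinearMap.mem_ker] at hx
    obtain ⟨z, rfl⟩ := Submodule.Quotient.mk_surjective _ x
    have hz1 : (z : (E.X i).carrier) ∈ GrLC.gam a.toIdeal (E.X i).carrier := z.2.1
    have hz2 : E.d i (z : (E.X i).carrier) = 0 := z.2.2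
    have hx' : (J).θ i (z : (E.X i).carrier) ∈ (C).cobdy a i :=
      (toH_eq_zero_iff (C) a i ((J).mapCocyc a i z)).1 hx
    cases i with
    | zero =>
      have h0 : (J).θ 0 (z : (E.X 0).carrier) = 0 := (Submodule.mem_bot R).1 hx'
      have h1 : pK ρ (0, (z : (E.X 0).carrier)) = 0 := by
        have := congrArg (cv 0) h0
        rw [cv_jmap, map_zero] at this
        exact this
      rw [pK_apply, sub_eq_zero] at h1
      have hd : E'.d 0 (ρ.r (0, (z : (E.X 0).carrier))) = 0 := by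
        have := congrArg Prod.fst h1
        rw [Q_fst] at this
        exact neg_eq_zero.1 this.symm
      have hcz : (z : (E.X 0).carrier) = c.θ 0 (ρ.r (0, (z : (E.X 0).carrier))) :=
        congrArg Prod.snd h1
      have htor : ρ.r (0, (z : (E.X 0).carrier)) ∈ GrLC.gam a.toIdeal (E'.X 0).carrier :=
        map_mem_gam ρ.r _ ((mem_gam_prod _ _).2 ⟨zero_mem _, hz1⟩)
      refine ⟨E'.toH a 0 ⟨ρ.r (0, (z : (E.X 0).carrier)), htor, hd⟩, ?_⟩
      rw [CMap.Hmap_toH]
      refine congrArg (E.toH a 0) (Subtype.ext ?_)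
      rw [CMap.mapCocyc_coe]
      exact hcz.symm
    | succ n =>
      have hx'' : (J).θ (n + 1) (z : (E.X (n + 1)).carrier) ∈
          (GrLC.gam a.toIdeal ((C).X n).carrier).map ((C).d n) := hx'
      obtain ⟨y, hy, hyz⟩ := hx''
      have hy' := (mem_gam_cone hincl hc ρ hπ hπg hex a.toIdeal n y).1 hy
      have h1 : D E' E c n (cv n y) = (0, (z : (E.X (n + 1)).carrier)) := by
        have := congrArg (cv (n + 1)) hyz
        rw [cval_d, cv_jmap] at this
        exact this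
      have hd : E'.d (n + 1) (cv n y).1 = 0 := by
        have := congrArg Prod.fst h1
        rw [D_fst] at this
        exact neg_eq_zero.1 this
      have hcz : c.θ (n + 1) (cv n y).1 + E.d n (cv n y).2 = (z : (E.X (n + 1)).carrier) :=
        congrArg Prod.snd h1
      refine ⟨E'.toH a (n + 1) ⟨(cv n y).1, hy'.1, hd⟩, ?_⟩
      rw [CMap.Hmap_toH]
      show E.toH a (n + 1) _ = E.toH a (n + 1) z
      rw [toH_eq_iff, CMap.mapCocyc_coe]
      show c.θ (n + 1) (cv n y).1 - (z : (E.X (n + 1)).carrier) ∈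
        (GrLC.gam a.toIdeal (E.X n).carrier).map (E.d n)
      refine ⟨-(cv n y).2, neg_mem hy'.2, ?_⟩
      rw [← hcz, map_neg]
      abel
  · rintro _ ⟨y, rfl⟩
    rw [LinearMap.mem_ker]
    obtain ⟨z', rfl⟩ := Submodule.Quotient.mk_surjective _ y
    have hz1 : (z' : (E'.X i).carrier) ∈ GrLC.gam a.toIdeal (E'.X i).carrier := z'.2.1
    have hz2 : E'.d i (z' : (E'.X i).carrier) = 0 := z'.2.2
    show (J).Hmap a i (c.Hmap a i (E'.toH a i z')) = 0
    rw [CMap.Hmap_toH, CMap.Hmap_toH, toH_eq_zero_iff, CMap.mapCocyc_coe, CMap.mapCocyc_coe]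
    have hQ : ((0, c.θ i (z' : (E'.X i).carrier)) : CT E' E i) = Q E' E c i z' := by
      apply Prod.ext
      · rw [Q_fst, hz2, neg_zero]
      · rfl
    have := mk_pQ_mem_cobdy hincl hc ρ hπ hπg hex a i hz1
    rw [← hQ] at this
    exact this


local notation "BD" => bd hincl hc ρ hπ hπg hex

/-- exactness at `H^i(C)` -/
theorem cone_exact_right (i : ℕ) :
    LinearMap.ker (BD a i) = LinearMap.range ((J).Hmap a i) := by
  apply le_antisymm
  · intro x hx
    rw [LinearMap.mem_ker] at hx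
    obtain ⟨w, rfl⟩ := Submodule.Quotient.mk_surjective _ x
    have hw1 : (w : ((C).X i).carrier) ∈ GrLC.gam a.toIdeal ((C).X i).carrier := w.2.1
    have hw2 : (C).d i (w : ((C).X i).carrier) = 0 := w.2.2
    have hw1' := (mem_gam_cone hincl hc ρ hπ hπg hex a.toIdeal i _).1 hw1
    have hx' : (cv i (w : ((C).X i).carrier)).1 ∈
        (GrLC.gam a.toIdeal (E'.X i).carrier).map (E'.d i) :=
      (toH_eq_zero_iff E' a (i + 1) (bdCocyc hincl hc ρ hπ hπg hex a i w)).1 hx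
    obtain ⟨a₀, ha₀, hda₀⟩ := hx'
    have hy1 : (cv i (w : ((C).X i).carrier) + Q E' E c i a₀).1 = 0 := by
      rw [Prod.fst_add, Q_fst, hda₀, add_neg_cancel]
    have hDy : D E' E c i (cv i (w : ((C).X i).carrier) + Q E' E c i a₀) = 0 := by
      rw [map_add, D_Q, add_zero, ← cval_d, hw2, map_zero]
    have hdz : E.d i (cv i (w : ((C).X i).carrier) + Q E' E c i a₀).2 = 0 := by
      have := congrArg Prod.snd hDy
      rw [D_snd, hy1, map_zero] at this
      exact (zero_add _).symm.trans this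
    have hztor : (cv i (w : ((C).X i).carrier) + Q E' E c i a₀).2 ∈
        GrLC.gam a.toIdeal (E.X i).carrier := by
      rw [Prod.snd_add, Q_snd]
      exact add_mem hw1'.2 (map_mem_gam (c.θ i) _ ha₀)
    refine ⟨E.toH a i ⟨(cv i (w : ((C).X i).carrier) + Q E' E c i a₀).2, hztor, hdz⟩, ?_⟩
    rw [CMap.Hmap_toH]
    show (C).toH a i _ = (C).toH a i w
    rw [toH_eq_iff, CMap.mapCocyc_coe]
    have hy : ((0, (cv i (w : ((C).X i).carrier) + Q E' E c i a₀).2) : CT E' E i) =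
        cv i (w : ((C).X i).carrier) + Q E' E c i a₀ := Prod.ext hy1.symm rfl
    have key : (J).θ i (cv i (w : ((C).X i).carrier) + Q E' E c i a₀).2 -
        (w : ((C).X i).carrier) = mk' i (p ρ i (Q E' E c i a₀)) (p_mem ρ i _) := by
      apply cval_injective hincl hc ρ hπ hπg hex i
      rw [map_sub, cv_jmap, cval_cmk, hy, map_add,
        p_of_mem ρ i (cval_mem hincl hc ρ hπ hπg hex i _), add_sub_cancel_left]
    rw [key]
    exact mk_pQ_mem_cobdy hincl hc ρ hπ hπg hex a i ha₀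
  · rintro _ ⟨y, rfl⟩
    rw [LinearMap.mem_ker]
    obtain ⟨z, rfl⟩ := Submodule.Quotient.mk_surjective _ y
    have hz1 : (z : (E.X i).carrier) ∈ GrLC.gam a.toIdeal (E.X i).carrier := z.2.1
    show BD a i ((J).Hmap a i (E.toH a i z)) = 0
    rw [CMap.Hmap_toH, bd_toH, toH_eq_zero_iff, bdCocyc_coe, CMap.mapCocyc_coe, cv_jmap]
    have := p_fst_sub_mem_cobdy ρ a i (x := (0, (z : (E.X i).carrier)))
      ((mem_gam_prod _ _).2 ⟨zero_mem _, hz1⟩)
    rw [sub_zero] at this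
    exact this

/-- exactness at `H^{i+1}(E')` -/
theorem cone_exact_left (i : ℕ) :
    LinearMap.ker (c.Hmap a (i + 1)) = LinearMap.range (BD a i) := by
  apply le_antisymm
  · intro x hx
    rw [LinearMap.mem_ker] at hx
    obtain ⟨z', rfl⟩ := Submodule.Quotient.mk_surjective _ x
    have hz1 : (z' : (E'.X (i + 1)).carrier) ∈ GrLC.gam a.toIdeal (E'.X (i + 1)).carrier := z'.2.1
    have hz2 : E'.d (i + 1) (z' : (E'.X (i + 1)).carrier) = 0 := z'.2.2
    have hx' : c.θ (i + 1) (z' : (E'.X (i + 1)).carrier) ∈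
        (GrLC.gam a.toIdeal (E.X i).carrier).map (E.d i) :=
      (toH_eq_zero_iff E a (i + 1) (c.mapCocyc a (i + 1) z')).1 hx
    obtain ⟨b₀, hb₀, hdb₀⟩ := hx'
    have hytor : (((z' : (E'.X (i + 1)).carrier), -b₀) : CT E' E i) ∈
        GrLC.gam a.toIdeal (CT E' E i) := (mem_gam_prod _ _).2 ⟨hz1, neg_mem hb₀⟩
    have hDy : D E' E c i ((z' : (E'.X (i + 1)).carrier), -b₀) = 0 := by
      apply Prod.ext
      · rw [D_fst]
        show -(E'.d (i + 1) (z' : (E'.X (i + 1)).carrier)) = 0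
        rw [hz2, neg_zero]
      · rw [D_snd]
        show c.θ (i + 1) (z' : (E'.X (i + 1)).carrier) + E.d i (-b₀) = 0
        rw [map_neg, hdb₀, add_neg_cancel]
    have hwtor : mk' i (p ρ i ((z' : (E'.X (i + 1)).carrier), -b₀)) (p_mem ρ i _) ∈
        GrLC.gam a.toIdeal ((C).X i).carrier := by
      rw [mem_gam_cone', cval_cmk]
      exact map_mem_gam (p ρ i) _ hytor
    have hwd : (C).d i (mk' i (p ρ i ((z' : (E'.X (i + 1)).carrier), -b₀)) (p_mem ρ i _)) = 0 := by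
      apply cval_injective hincl hc ρ hπ hπg hex (i + 1)
      rw [cval_d, cval_cmk, D_p, hDy, map_zero]
    refine ⟨(C).toH a i ⟨mk' i (p ρ i ((z' : (E'.X (i + 1)).carrier), -b₀)) (p_mem ρ i _),
      hwtor, hwd⟩, ?_⟩
    rw [bd_toH]
    show E'.toH a (i + 1) _ = E'.toH a (i + 1) z'
    rw [toH_eq_iff, bdCocyc_coe]
    exact p_fst_sub_mem_cobdy ρ a i hytor
  · rintro _ ⟨y, rfl⟩
    rw [LinearMap.mem_ker]
    obtain ⟨w, rfl⟩ := Submodule.Quotient.mk_surjective _ y
    have hw1 : (w : ((C).X i).carrier) ∈ GrLC.gam a.toIdeal ((C).X i).carrier := w.2.1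
    have hw2 : (C).d i (w : ((C).X i).carrier) = 0 := w.2.2
    have hw1' := (mem_gam_cone hincl hc ρ hπ hπg hex a.toIdeal i _).1 hw1
    show c.Hmap a (i + 1) (BD a i ((C).toH a i w)) = 0
    rw [bd_toH, CMap.Hmap_toH, toH_eq_zero_iff, CMap.mapCocyc_coe, bdCocyc_coe]
    show _ ∈ (GrLC.gam a.toIdeal (E.X i).carrier).map (E.d i)
    refine ⟨-(cv i (w : ((C).X i).carrier)).2, neg_mem hw1'.2, ?_⟩
    have h := congrArg (fun y => (cv (i + 1) y).2) hw2
    simp only [cval_d, D_snd] at h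
    have h' : c.θ (i + 1) (cv i (w : ((C).X i).carrier)).1 +
        E.d i (cv i (w : ((C).X i).carrier)).2 = 0 := by
      rw [h, map_zero]; rfl
    rw [map_neg, neg_eq_iff_add_eq_zero]
    exact (add_comm _ _).trans h'

end cone

section les

variable {ι : Type} [AddCommGroup ι] [DecidableEq ι]
variable {R : Type u} [CommRing R] {𝒜 : ι → AddSubgroup R} [GradedRing 𝒜]
variable {M' : Type u} [AddCommGroup M'] [Module R M'] {ℳ' : ι → AddSubgroup M'}
  [DirectSum.Decomposition ℳ'] [SetLike.GradedSMul 𝒜 ℳ']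
variable {M : Type u} [AddCommGroup M] [Module R M] {ℳ : ι → AddSubgroup M}
  [DirectSum.Decomposition ℳ] [SetLike.GradedSMul 𝒜 ℳ]
variable {M'' : Type u} [AddCommGroup M''] [Module R M''] {ℳ'' : ι → AddSubgroup M''}
  [DirectSum.Decomposition ℳ''] [SetLike.GradedSMul 𝒜 ℳ'']
variable {E' : GrLC.StarInjRes 𝒜 ℳ'} {E : GrLC.StarInjRes 𝒜 ℳ} {E'' : GrLC.StarInjRes 𝒜 ℳ''}
variable {incl : M' →ₗ[R] M} (hincl : Function.Injective incl)
  {π : M →ₗ[R] M''} (hπ : Function.Surjective π) (hπg : GrLC.IsGrHom ℳ ℳ'' π)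
  (hex : LinearMap.ker π = LinearMap.range incl)
  (c : CMap E' E 0) (hc : ∀ m : M', c.θ 0 (E'.ε m) = E.ε (incl m))
  (j : CMap E E'' 0) (hj : ∀ m : M, j.θ 0 (E.ε m) = E''.ε (π m))

include hincl hπ hπg hex hc hj in
/-- **the long exact sequence of graded local cohomology** of a short exact sequence of graded
modules, for arbitrary *injective resolutions and chain maps over the maps of the sequence -/
theorem exists_les (a : HomogeneousIdeal 𝒜) :
    ∃ δ : ∀ i : ℕ, E''.H a i →ₗ[R] E'.H a (i + 1),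
      (∀ (i : ℕ) (g : ι) (x : E''.H a i), x ∈ E''.Hcomp a i g → δ i x ∈ E'.Hcomp a (i + 1) g) ∧
      (∀ i : ℕ, LinearMap.ker (j.Hmap a i) = LinearMap.range (c.Hmap a i)) ∧
      (∀ i : ℕ, LinearMap.ker (δ i) = LinearMap.range (j.Hmap a i)) ∧
      (∀ i : ℕ, LinearMap.ker (c.Hmap a (i + 1)) = LinearMap.range (δ i)) := by
  obtain ⟨ρ⟩ := exists_retr E' E c hincl hc
  obtain ⟨t, ht⟩ := exists_cmap (coneRes hincl hc ρ hπ hπg hex) E'' LinearMap.id (fun _ _ h => h)
  have he := fun i => exists_equiv_of_cmap (coneRes hincl hc ρ hπ hπg hex) E''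
    (LinearEquiv.refl R M'') (fun _ _ h => h) t ht a i
  choose e he1 he2 using he
  have hjt : ∀ (i : ℕ) (x : E.H a i),
      j.Hmap a i x = e i ((jmap hincl hc ρ hπ hπg hex).Hmap a i x) := by
    intro i x
    rw [he1, ← Hmap_comp0]
    refine Hmap_eq_of_base_eq j (comp0 t (jmap hincl hc ρ hπ hπg hex)) (fun m => ?_) a i x
    rw [hj]
    show _ = t.θ 0 ((jmap hincl hc ρ hπ hπg hex).θ 0 (E.ε m))
    rw [jmap_ε, ht]
    rfl
  refine ⟨fun i => bd hincl hc ρ hπ hπg hex a i ∘ₗ (e i).symm.toLinearMap, ?_, ?_, ?_, ?_⟩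
  · intro i g x hx
    apply bd_mem_Hcomp
    rw [he2 i g]
    show e i ((e i).symm x) ∈ _
    rw [LinearEquiv.apply_symm_apply]
    exact hx
  · intro i
    rw [← cone_exact_mid hincl hc ρ hπ hπg hex a i]
    ext x
    rw [LinearMap.mem_ker, LinearMap.mem_ker, hjt]
    exact (e i).map_eq_zero_iff
  · intro i
    ext x
    rw [LinearMap.mem_ker]
    show bd hincl hc ρ hπ hπg hex a i ((e i).symm x) = 0 ↔ _
    rw [← LinearMap.mem_ker, cone_exact_right hincl hc ρ hπ hπg hex a i]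
    constructor
    · rintro ⟨y, hy⟩
      refine ⟨y, ?_⟩
      rw [hjt, hy, LinearEquiv.apply_symm_apply]
    · rintro ⟨y, rfl⟩
      refine ⟨y, ?_⟩
      rw [hjt, LinearEquiv.symm_apply_apply]
  · intro i
    rw [cone_exact_left hincl hc ρ hπ hπg hex a i]
    apply le_antisymm
    · rintro _ ⟨y, rfl⟩
      refine ⟨e i y, ?_⟩
      show bd hincl hc ρ hπ hπg hex a i ((e i).symm (e i y)) = _
      rw [LinearEquiv.symm_apply_apply]
    · rintro _ ⟨y, rfl⟩
      exact ⟨(e i).symm y, rfl⟩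

end les

end Groth.Agent.Lib.Seat91.GrLES
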