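import Groth.Prelude.Def_GrLC
import Groth.Agent.Lib.Seat91GrHomDec
import Groth.Agent.Lib.Helper29GrQuot
import Groth.Agent.Lib.Helper29GrShift
import Groth.Agent.Lib.Helper29GrHom
import Groth.Agent.Lib.Seat97GrHeight

/-!
# Pieces of graded Matlis duality over a positively graded *local ring (seat 91)

`(R, m)` positively `ℤ`-graded *local, `m ⊇ R_+`, `e : R/m → E'` a *injective envelope.
* `e_mem_zero` — the image of `e` lies in degree `0`;
* `piece_eq_bot_of_pos` — `E'_d = 0` for `d > 0`;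
* `exists_hom_apply_ne_zero` — `E'` cogenerates: for a nonzero homogeneous `w` of a graded module `C`
  there is `h : C → E'` (homogeneous of degree `-deg w`) with `h w ≠ 0`;
* `smul_top_ne_top_of_apply_ne_zero` — then `ann(w) • Hom(C, E') ≠ Hom(C, E')`;
* `exists_isGrHomDeg_of_mem` — a bijection `φ : Hom(C, E') → H` sending maps of degree `d` into `H_d`
  (`H` graded, `C` finite) sends the maps of degree `a` ONTO `H_a`.

Namespace `Groth.Agent.Lib.Seat91.GrMatlisB`.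
-/

set_option autoImplicit false
set_option linter.unusedSectionVars false
set_option linter.style.haveILetI false
universe u

open DirectSum Groth.Agent.Lib.Seat91.GrHomDec Groth.Agent.Lib.Helper29GrShift
  Groth.Agent.Lib.Helper29GrHom

namespace Groth.Agent.Lib.Seat91.GrMatlisB

section inverse

variable {ι : Type} [AddCommGroup ι] [DecidableEq ι]
variable {R : Type u} [CommRing R] {𝒜 : ι → AddSubgroup R} [GradedRing 𝒜]
variable {C : Type u} [AddCommGroup C] [Module R C] (𝒞 : ι → AddSubgroup C)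
  [DirectSum.Decomposition 𝒞] [SetLike.GradedSMul 𝒜 𝒞]
variable {E : Type u} [AddCommGroup E] [Module R E] (𝓔 : ι → AddSubgroup E)
  [DirectSum.Decomposition 𝓔] [SetLike.GradedSMul 𝒜 𝓔]
variable {H : Type u} [AddCommGroup H] [Module R H] (𝓗 : ι → AddSubgroup H)
  [DirectSum.Decomposition 𝓗]

/-- a graded bijection from `Hom(C, E)` (with `C` finite) is onto in each degree -/
theorem exists_isGrHomDeg_of_mem [Module.Finite R C] (φ : (C →ₗ[R] E) ≃ₗ[R] H)
    (hφ : GrLC.IsGrHom (fun d => (GrLC.homDeg 𝒜 𝒞 𝓔 d).toAddSubgroup) 𝓗 φ.toLinearMap)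
    {a : ι} {h : H} (hh : h ∈ 𝓗 a) :
    ∃ f : C →ₗ[R] E, GrLC.IsGrHomDeg 𝒞 𝓔 f a ∧ φ f = h := by
  classical
  obtain ⟨s, hs⟩ := exists_finset_sum_comp (𝒜 := 𝒜) 𝒞 𝓔 (φ.symm h)
  have hmem : ∀ d, φ (comp (𝒜 := 𝒜) 𝒞 𝓔 (φ.symm h) d) ∈ 𝓗 d := fun d =>
    hφ d _ (comp_isGrHomDeg (𝒜 := 𝒜) 𝒞 𝓔 (φ.symm h) d)
  have h1 : h = ∑ d ∈ s, φ (comp (𝒜 := 𝒜) 𝒞 𝓔 (φ.symm h) d) := by
    rw [← map_sum, ← hs, LinearEquiv.apply_symm_apply]
  have h2 : ((decompose 𝓗 h) a : H) =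
      ∑ d ∈ s, ((decompose 𝓗 (φ (comp (𝒜 := 𝒜) 𝒞 𝓔 (φ.symm h) d))) a : H) := by
    conv_lhs => rw [h1]
    rw [decompose_sum, DFinsupp.finsetSum_apply, AddSubmonoidClass.coe_finsetSum]
  rw [DirectSum.decompose_of_mem_same _ hh] at h2
  by_cases has : a ∈ s
  · refine ⟨comp (𝒜 := 𝒜) 𝒞 𝓔 (φ.symm h) a, comp_isGrHomDeg (𝒜 := 𝒜) 𝒞 𝓔 _ a, ?_⟩
    have h3 : ∑ d ∈ s, ((decompose 𝓗 (φ (comp (𝒜 := 𝒜) 𝒞 𝓔 (φ.symm h) d))) a : H) =
        φ (comp (𝒜 := 𝒜) 𝒞 𝓔 (φ.symm h) a) := by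
      rw [Finset.sum_eq_single a]
      · rw [DirectSum.decompose_of_mem_same _ (hmem a)]
      · intro d _ hda
        rw [DirectSum.decompose_of_mem_ne _ (hmem d) hda]
      · intro h'
        exact absurd has h'
    exact (h2.trans h3).symm
  · refine ⟨0, fun g c _ => by rw [LinearMap.zero_apply]; exact zero_mem _, ?_⟩
    have h3 : ∑ d ∈ s, ((decompose 𝓗 (φ (comp (𝒜 := 𝒜) 𝒞 𝓔 (φ.symm h) d))) a : H) = 0 := by
      refine Finset.sum_eq_zero fun d hd => ?_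
      have hda : d ≠ a := fun h' => has (h' ▸ hd)
      rw [DirectSum.decompose_of_mem_ne _ (hmem d) hda]
    rw [map_zero]
    exact (h2.trans h3).symm

end inverse

section hull

variable {R : Type u} [CommRing R] {𝒜 : ℤ → AddSubgroup R} [GradedRing 𝒜]
variable {E' : Type u} [AddCommGroup E'] [Module R E'] {𝓔 : ℤ → AddSubgroup E'}
  [DirectSum.Decomposition 𝓔] [SetLike.GradedSMul 𝒜 𝓔]
variable {m : HomogeneousIdeal 𝒜} {e : (R ⧸ m.toIdeal) →ₗ[R] E'}

/-- the image of the residue module lies in degree `0` -/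
theorem e_mem_zero (hpos : ∀ n : ℤ, n < 0 → 𝒜 n = ⊥)
    (hmsp : ∀ i : ℤ, 0 < i → ∀ r ∈ 𝒜 i, r ∈ m.toIdeal)
    (he : GrLC.IsGrHom (GrLC.quotGr 𝒜 m) 𝓔 e) (x : R ⧸ m.toIdeal) : e x ∈ 𝓔 0 := by
  classical
  obtain ⟨r, rfl⟩ := Ideal.Quotient.mk_surjective x
  rw [← DirectSum.sum_support_decompose 𝒜 r, map_sum, map_sum]
  refine sum_mem fun i _ => ?_
  rcases lt_trichotomy i 0 with hi | hi | hi
  · have h0 : ((decompose 𝒜 r) i : R) = 0 := by
      have : ((decompose 𝒜 r) i : R) ∈ (⊥ : AddSubgroup R) := by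
        rw [← hpos i hi]
        exact SetLike.coe_mem _
      exact (AddSubgroup.mem_bot).1 this
    rw [h0, map_zero, map_zero]
    exact zero_mem _
  · subst hi
    apply he 0
    exact ⟨((decompose 𝒜 r) 0 : R), SetLike.coe_mem _, rfl⟩
  · have h0 : (Ideal.Quotient.mk m.toIdeal) ((decompose 𝒜 r) i : R) = 0 :=
      Ideal.Quotient.eq_zero_iff_mem.2 (hmsp i hi _ (SetLike.coe_mem _))
    rw [h0, map_zero]
    exact zero_mem _

/-- the part of `E'` in positive degrees, an `R`-submodule when `R` is positively graded -/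
def posPart (hpos : ∀ n : ℤ, n < 0 → 𝒜 n = ⊥) : Submodule R E' where
  carrier := {y | ∀ g : ℤ, g ≤ 0 → ((decompose 𝓔 y) g : E') = 0}
  zero_mem' g _ := by simp
  add_mem' {y z} hy hz g hg := by
    rw [decompose_add, DirectSum.add_apply, AddSubgroup.coe_add, hy g hg, hz g hg, add_zero]
  smul_mem' r y hy := by
    classical
    intro g hg
    induction r using DirectSum.Decomposition.inductionOn 𝒜 with
    | zero => simp
    | homogeneous s =>
      rename_i k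
      rcases lt_or_ge k 0 with hk | hk
      · have h0 : (s : R) = 0 := by
          have : (s : R) ∈ (⊥ : AddSubgroup R) := by
            rw [← hpos k hk]
            exact s.2
          exact (AddSubgroup.mem_bot).1 this
        rw [h0, zero_smul]
        simp
      · have h1 := projE_smul (𝒜 := 𝒜) 𝓔 s.2 (g - k) y
        rw [projE_apply, projE_apply, add_sub_cancel] at h1
        rw [h1, hy (g - k) (by omega), smul_zero]
    | add s s' hs hs' =>
      rw [add_smul, decompose_add, DirectSum.add_apply, AddSubgroup.coe_add, hs, hs', add_zero]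

theorem posPart_isHomogeneous (hpos : ∀ n : ℤ, n < 0 → 𝒜 n = ⊥) :
    (posPart (𝓔 := 𝓔) hpos).IsHomogeneous 𝓔 := by
  classical
  intro i y hy g hg
  by_cases h : i = g
  · subst h
    rw [DirectSum.decompose_of_mem_same _ (SetLike.coe_mem _)]
    exact hy i hg
  · rw [DirectSum.decompose_of_mem_ne _ (SetLike.coe_mem _) h]

/-- **`E'` lives in degrees `≤ 0`** -/
theorem piece_eq_bot_of_pos (hpos : ∀ n : ℤ, n < 0 → 𝒜 n = ⊥)
    (hmsp : ∀ i : ℤ, 0 < i → ∀ r ∈ 𝒜 i, r ∈ m.toIdeal)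
    (he : GrLC.IsStarEss (GrLC.quotGr 𝒜 m) 𝓔 e) {d : ℤ} (hd : 0 < d) : 𝓔 d = ⊥ := by
  classical
  rw [eq_bot_iff]
  intro y hy
  rw [AddSubgroup.mem_bot]
  by_contra hy0
  have hyP : y ∈ posPart (𝓔 := 𝓔) hpos := by
    intro g hg
    have hne : d ≠ g := by omega
    rw [DirectSum.decompose_of_mem_ne _ hy hne]
  have hPne : posPart (𝓔 := 𝓔) hpos ≠ ⊥ := by
    intro h
    rw [h] at hyP
    exact hy0 ((Submodule.mem_bot R).1 hyP)
  have hmeet := he.essential _ (posPart_isHomogeneous hpos) hPne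
  apply hmeet
  rw [eq_bot_iff]
  rintro z ⟨hzP, x, rfl⟩
  rw [Submodule.mem_bot]
  have h0 := e_mem_zero hpos hmsp he.grHom x
  have := hzP 0 le_rfl
  rwa [DirectSum.decompose_of_mem_same _ h0] at this

end hull

section cogen

variable {R : Type u} [CommRing R] [IsNoetherianRing R] {𝒜 : ℤ → AddSubgroup R} [GradedRing 𝒜]
variable {E' : Type u} [AddCommGroup E'] [Module R E'] {𝓔 : ℤ → AddSubgroup E'}
  [DirectSum.Decomposition 𝓔] [SetLike.GradedSMul 𝒜 𝓔]
variable {m : HomogeneousIdeal 𝒜} {e : (R ⧸ m.toIdeal) →ₗ[R] E'}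
variable {C : Type u} [AddCommGroup C] [Module R C] (𝒞 : ℤ → AddSubgroup C)
  [DirectSum.Decomposition 𝒞] [SetLike.GradedSMul 𝒜 𝒞]

/-- **`E'` cogenerates the graded category** -/
theorem exists_hom_apply_ne_zero (hm : GrLC.IsStarLocal 𝒜 m)
    (he : GrLC.IsStarInjHull 𝒜 (GrLC.quotGr 𝒜 m) 𝓔 e) {j' : ℤ} {w : C} (hw : w ∈ 𝒞 j')
    (hw0 : w ≠ 0) : ∃ h : C →ₗ[R] E', h w ≠ 0 := by
  classical
  let β : R →ₗ[R] C := LinearMap.toSpanSingleton R C w
  letI : DirectSum.Decomposition (shiftGr 𝒞 j') := shiftDecomposition 𝒞 j'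
  haveI : SetLike.GradedSMul 𝒜 (shiftGr 𝒞 j') := shift_gradedSMul 𝒜 𝒞 j'
  have hβ : ∀ (g : ℤ) (r : R), r ∈ 𝒜 g → β r ∈ shiftGr 𝒞 j' g := by
    intro g r hr
    have := SetLike.GradedSMul.smul_mem (A := 𝒜) (B := 𝒞) hr hw
    rwa [vadd_eq_add] at this
  let K : Submodule R R := LinearMap.ker β
  have hK : K.IsHomogeneous 𝒜 := ker_isHomogeneous (shiftGr 𝒞 j') 𝒜 β hβ
  have hKne : (K : Ideal R) ≠ ⊤ := by
    intro h
    have h1 : (1 : R) ∈ K := by rw [h]; exact Submodule.mem_top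
    have h2 : β 1 = 0 := h1
    apply hw0
    rw [← h2]
    simp [β]
  have hKm : (K : Ideal R) ≤ m.toIdeal :=
    Groth.Agent.Lib.Seat97.GrHeight.le_of_isStarLocal 𝒜 hm K (fun i x hx => hK i hx) hKne
  letI : DirectSum.Decomposition (Groth.Agent.Lib.Helper29GrQuot.quotGr 𝒜 K) :=
    Groth.Agent.Lib.Helper29GrQuot.quotDecomposition 𝒜 K hK
  haveI : SetLike.GradedSMul 𝒜 (Groth.Agent.Lib.Helper29GrQuot.quotGr 𝒜 K) :=
    Groth.Agent.Lib.Helper29GrQuot.quot_gradedSMul 𝒜 K 𝒜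
  let A : GrLC.GMod.{u} 𝒜 := GrLC.GMod.of 𝒜 (R ⧸ K) (Groth.Agent.Lib.Helper29GrQuot.quotGr 𝒜 K)
  let B : GrLC.GMod.{u} 𝒜 := GrLC.GMod.of 𝒜 C (shiftGr 𝒞 j')
  let f : (R ⧸ K) →ₗ[R] C := K.liftQ β le_rfl
  have hf : GrLC.IsGrHom A.gr B.gr f := by
    rintro g y ⟨r, hr, rfl⟩
    exact hβ g r hr
  have hinj : Function.Injective f := by
    rw [← LinearMap.ker_eq_bot]
    exact Submodule.ker_liftQ_eq_bot _ _ _ le_rfl
  let π : R →ₗ[R] (R ⧸ m.toIdeal) := Submodule.mkQ m.toIdeal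
  have hKπ : K ≤ LinearMap.ker (e ∘ₗ π) := by
    intro r hr
    rw [LinearMap.mem_ker, LinearMap.comp_apply]
    have : π r = 0 := (Submodule.Quotient.mk_eq_zero _).2 (hKm hr)
    rw [this, map_zero]
  let g : (R ⧸ K) →ₗ[R] E' := K.liftQ (e ∘ₗ π) hKπ
  have hg : GrLC.IsGrHom A.gr 𝓔 g := by
    rintro i y ⟨r, hr, rfl⟩
    apply he.grHom i
    exact ⟨r, hr, rfl⟩
  obtain ⟨h, -, hcomp⟩ : ∃ h : C →ₗ[R] E', GrLC.IsGrHom (shiftGr 𝒞 j') 𝓔 h ∧ h ∘ₗ f = g :=
    he.starInj A B f hf hinj g hg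
  refine ⟨h, ?_⟩
  have h1 : f (K.mkQ 1) = w := by
    change β 1 = w
    simp [β]
  have h2 : h w = g (K.mkQ 1) := by
    rw [← h1]
    exact LinearMap.congr_fun hcomp _
  rw [h2]
  change e (π 1) ≠ 0
  intro h0
  have h3 : π 1 = 0 := he.injective (by rw [h0, map_zero])
  have h4 : (1 : R) ∈ m.toIdeal := (Submodule.Quotient.mk_eq_zero _).1 h3
  have h5 : m.toIdeal = ⊤ := (Ideal.eq_top_iff_one _).2 h4
  apply hm.1.1
  apply HomogeneousIdeal.toIdeal_injective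
  rw [h5]
  rfl

omit [IsNoetherianRing R] [GradedRing 𝒜] in
/-- the annihilator of an element seen by `Hom(C, E')` does not act surjectively on `Hom(C, E')` -/
theorem smul_top_ne_top_of_apply_ne_zero {w : C} (J : Ideal R) (hJ : ∀ r ∈ J, r • w = 0)
    (h : C →ₗ[R] E') (hw : h w ≠ 0) : J • (⊤ : Submodule R (C →ₗ[R] E')) ≠ ⊤ := by
  intro htop
  have hall : ∀ f ∈ J • (⊤ : Submodule R (C →ₗ[R] E')), f w = 0 := by
    intro f hf
    refine Submodule.smul_induction_on hf (fun r hr f' _ => ?_) (fun f₁ f₂ h₁ h₂ => ?_)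
    · rw [LinearMap.smul_apply, ← map_smul, hJ r hr, map_zero]
    · rw [LinearMap.add_apply, h₁, h₂, add_zero]
  exact hw (hall h (by rw [htop]; exact Submodule.mem_top))

omit [IsNoetherianRing R] [GradedRing 𝒜] in
/-- transport of divisibility along a linear equivalence -/
theorem smul_top_eq_top_of_equiv {X Y : Type u} [AddCommGroup X] [Module R X] [AddCommGroup Y]
    [Module R Y] (φ : X ≃ₗ[R] Y) (J : Ideal R)
    (h : J • (⊤ : Submodule R Y) = ⊤) : J • (⊤ : Submodule R X) = ⊤ := by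
  have h1 : (J • (⊤ : Submodule R X)).map φ.toLinearMap = ⊤ := by
    rw [Submodule.map_smul'', Submodule.map_top, LinearMap.range_eq_top.2 φ.surjective, h]
  rw [eq_top_iff]
  intro x _
  have h2 : φ x ∈ (J • (⊤ : Submodule R X)).map φ.toLinearMap := by rw [h1]; exact Submodule.mem_top
  obtain ⟨x', hx', hxx'⟩ := h2
  have : x' = x := φ.injective hxx'
  rwa [this] at hx'

end cogen

end Groth.Agent.Lib.Seat91.GrMatlisB
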