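import Groth.Agent.S13224
import Groth.Agent.S0323
import Groth.Agent.Lib.Helper8GV

/-!
# Vanishing of graded local cohomology (seat 91)

Via the comparison with ungraded local cohomology (S13224):
* `H_subsingleton_of_torsion`: `H^i_a(M) = 0` for `i > 0` when `M` is `a`-torsion;
* `H_subsingleton_of_dim_lt`: Grothendieck vanishing, `H^i_a(M) = 0` for `i > dim R`, `M` finite.

Namespace `Groth.Agent.Lib.Seat91.GrVanish`.
-/

set_option autoImplicit false
set_option linter.unusedSectionVars false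
universe u

namespace Groth.Agent.Lib.Seat91.GrVanish

variable {ι : Type} [AddCommGroup ι] [DecidableEq ι] [Module.Free ℤ ι] [Module.Finite ℤ ι]
variable {R : Type u} [CommRing R] [IsNoetherianRing R] {𝒜 : ι → AddSubgroup R} [GradedRing 𝒜]
variable {M : Type u} [AddCommGroup M] [Module R M] {ℳ : ι → AddSubgroup M}
  [DirectSum.Decomposition ℳ] [SetLike.GradedSMul 𝒜 ℳ]

theorem H_subsingleton_of_torsion (E : GrLC.StarInjRes 𝒜 ℳ) (a : HomogeneousIdeal 𝒜)
    (hM : ∀ m : M, m ∈ GrLC.gam a.toIdeal M) (i : ℕ) (hi : 0 < i) : Subsingleton (E.H a i) := by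
  obtain ⟨e⟩ := Groth.Agent.S13224.result R 𝒜 a M ℳ E i
  have hM' : LocCoh.IsPowerTorsion a.toIdeal M := fun m => hM m
  have := (Groth.Agent.S0323.result R a.toIdeal M hM').2 i hi
  exact e.toEquiv.subsingleton

theorem H_subsingleton_of_dim_lt [Module.Finite R M] (E : GrLC.StarInjRes 𝒜 ℳ)
    (a : HomogeneousIdeal 𝒜) (i : ℕ) (h : ringKrullDim R < ((i : ℕ) : WithBot ℕ∞)) :
    Subsingleton (E.H a i) := by
  obtain ⟨e⟩ := Groth.Agent.S13224.result R 𝒜 a M ℳ E i
  have h' : Module.supportDim R M < ((i : ℕ) : WithBot ℕ∞) :=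
    lt_of_le_of_lt (Module.supportDim_le_ringKrullDim R M) h
  have hz := Groth.Agent.Lib.Helper8.GV.H_eq_zero_of_supportDim_lt a.toIdeal i M h'
  have : Subsingleton (LocCoh.H a.toIdeal i M) := ⟨fun x y => by rw [hz x, hz y]⟩
  exact e.toEquiv.subsingleton

end Groth.Agent.Lib.Seat91.GrVanish
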