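import Groth.Agent.Lib.Seat91GrShift
import Groth.Agent.Lib.Seat91GrVanish
import Groth.Agent.Lib.Helper29GrRes

/-!
# Right exactness of the top graded local cohomology (seat 91)

* `right_exact`: for two spliced short exact sequences `0 → Z → M₁ → K → 0`, `0 → K → M → N → 0` of
  graded modules (with `Z`, `K` finite) and `i + 1 > dim R`: `H^i(M) → H^i(N)` is surjective with kernel
  the image of `H^i(M₁) → H^i(M)`.
* `exists_right_exact_smul`: for `x` homogeneous of degree `k`, `N = M / xM`, `i + 1 > dim R`: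
  a degree-preserving surjection `p : H^i(M) → H^i(N)` with kernel `x H^i(M)`.

Namespace `Groth.Agent.Lib.Seat91.GrRX`.
-/

set_option autoImplicit false
set_option linter.unusedSectionVars false
set_option linter.style.haveILetI false
universe u

open DirectSum Groth.Agent.Lib.Seat91.GrCx Groth.Agent.Lib.Seat91.GrCompare
  Groth.Agent.Lib.Seat91.GrLES Groth.Agent.Lib.Seat91.GrShift Groth.Agent.Lib.Seat91.GrVanish
  Groth.Agent.Lib.Helper29GrShift Groth.Agent.Lib.Helper29GrSub Groth.Agent.Lib.Helper29GrHom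
  Groth.Agent.Lib.Helper29GrGam
  Groth.Agent.Lib.Seat86.GrSmul Groth.Agent.Lib.Seat86.GrProd

namespace Groth.Agent.Lib.Seat91.GrRX

variable {ι : Type} [AddCommGroup ι] [DecidableEq ι] [Module.Free ℤ ι] [Module.Finite ℤ ι]
variable {R : Type u} [CommRing R] [IsNoetherianRing R] {𝒜 : ι → AddSubgroup R} [GradedRing 𝒜]

section RE

variable {Z : Type u} [AddCommGroup Z] [Module R Z] {𝓩 : ι → AddSubgroup Z}
  [DirectSum.Decomposition 𝓩] [SetLike.GradedSMul 𝒜 𝓩] [Module.Finite R Z]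
variable {M₁ : Type u} [AddCommGroup M₁] [Module R M₁] {ℳ₁ : ι → AddSubgroup M₁}
  [DirectSum.Decomposition ℳ₁] [SetLike.GradedSMul 𝒜 ℳ₁]
variable {K : Type u} [AddCommGroup K] [Module R K] {𝓚 : ι → AddSubgroup K}
  [DirectSum.Decomposition 𝓚] [SetLike.GradedSMul 𝒜 𝓚] [Module.Finite R K]
variable {M : Type u} [AddCommGroup M] [Module R M] {ℳ : ι → AddSubgroup M}
  [DirectSum.Decomposition ℳ] [SetLike.GradedSMul 𝒜 ℳ]
variable {N : Type u} [AddCommGroup N] [Module R N] {𝒩 : ι → AddSubgroup N}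
  [DirectSum.Decomposition 𝒩] [SetLike.GradedSMul 𝒜 𝒩]
variable {ιZ : Z →ₗ[R] M₁} (hιZ : Function.Injective ιZ) {q : M₁ →ₗ[R] K}
  (hq : Function.Surjective q) (hqg : GrLC.IsGrHom ℳ₁ 𝓚 q)
  (hexB : LinearMap.ker q = LinearMap.range ιZ)
variable {ιK : K →ₗ[R] M} (hιK : Function.Injective ιK) {π : M →ₗ[R] N}
  (hπ : Function.Surjective π) (hπg : GrLC.IsGrHom ℳ 𝒩 π)
  (hexA : LinearMap.ker π = LinearMap.range ιK)
variable {EZ : GrLC.StarInjRes 𝒜 𝓩} {E₁ : GrLC.StarInjRes 𝒜 ℳ₁} {EK : GrLC.StarInjRes 𝒜 𝓚}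
  {E : GrLC.StarInjRes 𝒜 ℳ} {F : GrLC.StarInjRes 𝒜 𝒩}
variable (cZ : CMap EZ E₁ 0) (hcZ : ∀ z : Z, cZ.θ 0 (EZ.ε z) = E₁.ε (ιZ z))
  (jK : CMap E₁ EK 0) (hjK : ∀ m : M₁, jK.θ 0 (E₁.ε m) = EK.ε (q m))
  (cK : CMap EK E 0) (hcK : ∀ m : K, cK.θ 0 (EK.ε m) = E.ε (ιK m))
  (jN : CMap E F 0) (hjN : ∀ m : M, jN.θ 0 (E.ε m) = F.ε (π m))

include hιZ hq hqg hexB hιK hπ hπg hexA hcZ hjK hcK hjN in
theorem right_exact (a : HomogeneousIdeal 𝒜) (i : ℕ)
    (hdim : ringKrullDim R < ((i + 1 : ℕ) : WithBot ℕ∞)) :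
    Function.Surjective (jN.Hmap a i) ∧
      LinearMap.ker (jN.Hmap a i) = LinearMap.range ((comp0 cK jK).Hmap a i) := by
  obtain ⟨δA, -, hA1, hA2, -⟩ := exists_les hιK hπ hπg hexA cK hcK jN hjN a
  obtain ⟨δB, -, -, hB2, -⟩ := exists_les hιZ hq hqg hexB cZ hcZ jK hjK a
  have sK : Subsingleton (EK.H a (i + 1)) := H_subsingleton_of_dim_lt EK a (i + 1) hdim
  have sZ : Subsingleton (EZ.H a (i + 1)) := H_subsingleton_of_dim_lt EZ a (i + 1) hdim
  have surjN : Function.Surjective (jN.Hmap a i) := by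
    rw [← LinearMap.range_eq_top, ← hA2 i]
    ext y
    simp only [LinearMap.mem_ker, Submodule.mem_top, iff_true]
    exact Subsingleton.elim _ _
  have surjK : Function.Surjective (jK.Hmap a i) := by
    rw [← LinearMap.range_eq_top, ← hB2 i]
    ext y
    simp only [LinearMap.mem_ker, Submodule.mem_top, iff_true]
    exact Subsingleton.elim _ _
  refine ⟨surjN, ?_⟩
  rw [hA1 i]
  apply le_antisymm
  · rintro _ ⟨y, rfl⟩
    obtain ⟨w, rfl⟩ := surjK y
    exact ⟨w, Hmap_comp0 cK jK a i w⟩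
  · rintro _ ⟨w, rfl⟩
    exact ⟨jK.Hmap a i w, (Hmap_comp0 cK jK a i w).symm⟩

end RE


section smul

variable {M : Type u} [AddCommGroup M] [Module R M] {ℳ : ι → AddSubgroup M}
  [DirectSum.Decomposition ℳ] [SetLike.GradedSMul 𝒜 ℳ] [Module.Finite R M]
variable {N : Type u} [AddCommGroup N] [Module R N] {𝒩 : ι → AddSubgroup N}
  [DirectSum.Decomposition 𝒩] [SetLike.GradedSMul 𝒜 𝒩]

theorem top_isHomogeneous {L : Type u} [AddCommGroup L] [Module R L] (𝓛 : ι → AddSubgroup L)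
    [DirectSum.Decomposition 𝓛] : (⊤ : Submodule R L).IsHomogeneous 𝓛 :=
  fun _ _ _ => Submodule.mem_top

/-- **right exactness of the top graded local cohomology for multiplication by a homogeneous
element** -/
theorem exists_right_exact_smul (x : R) (k : ι) (hx : x ∈ 𝒜 k) (π : M →ₗ[R] N)
    (hπ : Function.Surjective π) (hπg : GrLC.IsGrHom ℳ 𝒩 π)
    (hker : LinearMap.ker π = LinearMap.range (x • (LinearMap.id : M →ₗ[R] M)))
    (E : GrLC.StarInjRes 𝒜 ℳ) (F : GrLC.StarInjRes 𝒜 𝒩) (a : HomogeneousIdeal 𝒜) (i : ℕ)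
    (hdim : ringKrullDim R < ((i + 1 : ℕ) : WithBot ℕ∞)) :
    ∃ p : E.H a i →ₗ[R] F.H a i, Function.Surjective p ∧
      (∀ y : E.H a i, p y = 0 ↔ ∃ y' : E.H a i, x • y' = y) ∧
      (∀ (g : ι) (y : E.H a i), y ∈ E.Hcomp a i g → p y ∈ F.Hcomp a i g) := by
  have hμg : GrLC.IsGrHom (shiftGr ℳ (-k)) ℳ (x • (LinearMap.id : M →ₗ[R] M)) := by
    intro j m hm
    have hm' : m ∈ ℳ (j + -k) := hm
    have := SetLike.GradedSMul.smul_mem (A := 𝒜) (B := ℳ) hx hm'
    rw [vadd_eq_add, add_comm, neg_add_cancel_right] at this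
    exact this
  have hZ : (LinearMap.ker (x • (LinearMap.id : M →ₗ[R] M))).IsHomogeneous (shiftGr ℳ (-k)) :=
    ker_isHomogeneous ℳ (shiftGr ℳ (-k)) _ hμg
  have hK : (LinearMap.range (x • (LinearMap.id : M →ₗ[R] M))).IsHomogeneous ℳ := by
    rw [← Submodule.map_top]
    exact map_isHomogeneous (shiftGr ℳ (-k)) ℳ _ hμg (top_isHomogeneous _)
  letI : DirectSum.Decomposition (subGr (shiftGr ℳ (-k))
      (LinearMap.ker (x • (LinearMap.id : M →ₗ[R] M)))) := subDecomposition _ _ hZ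
  haveI : SetLike.GradedSMul 𝒜 (subGr (shiftGr ℳ (-k))
      (LinearMap.ker (x • (LinearMap.id : M →ₗ[R] M)))) := sub_gradedSMul _ _ 𝒜
  letI : DirectSum.Decomposition (subGr ℳ
      (LinearMap.range (x • (LinearMap.id : M →ₗ[R] M)))) := subDecomposition _ _ hK
  haveI : SetLike.GradedSMul 𝒜 (subGr ℳ
      (LinearMap.range (x • (LinearMap.id : M →ₗ[R] M)))) := sub_gradedSMul _ _ 𝒜
  haveI : IsNoetherian R M := isNoetherian_of_isNoetherianRing_of_finite R M
  obtain ⟨cZ, hcZ⟩ := exists_cmap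
    (Groth.Agent.Lib.Helper29GrRes.starInjRes 𝒜 (subGr (shiftGr ℳ (-k))
      (LinearMap.ker (x • (LinearMap.id : M →ₗ[R] M)))))
    (shiftRes E (-k)) (LinearMap.ker (x • (LinearMap.id : M →ₗ[R] M))).subtype
    (fun _ _ h => h)
  obtain ⟨jK, hjK⟩ := exists_cmap (shiftRes E (-k))
    (Groth.Agent.Lib.Helper29GrRes.starInjRes 𝒜 (subGr ℳ
      (LinearMap.range (x • (LinearMap.id : M →ₗ[R] M)))))
    (x • (LinearMap.id : M →ₗ[R] M)).rangeRestrict (fun j m hm => hμg j m hm)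
  obtain ⟨cK, hcK⟩ := exists_cmap
    (Groth.Agent.Lib.Helper29GrRes.starInjRes 𝒜 (subGr ℳ
      (LinearMap.range (x • (LinearMap.id : M →ₗ[R] M)))))
    E (LinearMap.range (x • (LinearMap.id : M →ₗ[R] M))).subtype (fun _ _ h => h)
  obtain ⟨jN, hjN⟩ := exists_cmap E F π hπg
  have hexB : LinearMap.ker (x • (LinearMap.id : M →ₗ[R] M)).rangeRestrict =
      LinearMap.range (LinearMap.ker (x • (LinearMap.id : M →ₗ[R] M))).subtype := by
    rw [LinearMap.ker_rangeRestrict, Submodule.range_subtype]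
  have hexA : LinearMap.ker π =
      LinearMap.range (LinearMap.range (x • (LinearMap.id : M →ₗ[R] M))).subtype := by
    rw [hker, Submodule.range_subtype]
  obtain ⟨hsurj, hkerp⟩ := right_exact
    (𝓩 := subGr (shiftGr ℳ (-k)) (LinearMap.ker (x • (LinearMap.id : M →ₗ[R] M))))
    (ℳ₁ := shiftGr ℳ (-k))
    (𝓚 := subGr ℳ (LinearMap.range (x • (LinearMap.id : M →ₗ[R] M))))
    (ιZ := (LinearMap.ker (x • (LinearMap.id : M →ₗ[R] M))).subtype)
    (q := (x • (LinearMap.id : M →ₗ[R] M)).rangeRestrict)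
    (ιK := (LinearMap.range (x • (LinearMap.id : M →ₗ[R] M))).subtype)
    (Submodule.injective_subtype _) (LinearMap.surjective_rangeRestrict _)
    (fun j m hm => hμg j m hm) hexB (Submodule.injective_subtype _) hπ hπg hexA
    cZ hcZ jK hjK cK hcK jN hjN a i hdim
  have hcomp : ∀ y : (shiftRes E (-k)).H a i,
      (comp0 cK jK).Hmap a i y = x • shiftH E (-k) a i y := by
    intro y
    rw [← smulC_Hmap E hx a i y]
    refine Hmap_eq_of_base_eq (comp0 cK jK) (smulC E hx) (fun m => ?_) a i y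
    rw [smulC_ε]
    show cK.θ 0 (jK.θ 0 ((shiftRes E (-k)).ε m)) = _
    rw [hjK, hcK]
    rfl
  refine ⟨jN.Hmap a i, hsurj, fun y => ?_, fun g y hy => ?_⟩
  · rw [← LinearMap.mem_ker, hkerp]
    constructor
    · rintro ⟨w, rfl⟩
      exact ⟨shiftH E (-k) a i w, (hcomp w).symm⟩
    · rintro ⟨y', rfl⟩
      exact ⟨(shiftH E (-k) a i).symm y', hcomp _⟩
  · have := jN.Hmap_mem_Hcomp a i hy
    rwa [add_zero] at this

end smul

end Groth.Agent.Lib.Seat91.GrRX
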