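import Groth.Agent.Lib.Seat91GrLES
import Groth.Agent.Lib.Seat86GrSmul

/-!
# Multiplication by a homogeneous element as a chain map of the shifted resolution (seat 91)

* `smulC E hx : CMap (shiftRes E (-k)) E 0` for `x ∈ 𝒜 k` (`shiftRes` of seat 86), inducing
  multiplication by `x` on graded local cohomology (`smulC_Hmap`).
* `decompose_smul_deg`: multiplication by an element shifting the pieces by `k` commutes with taking
  components.

Namespace `Groth.Agent.Lib.Seat91.GrShift`.
-/

set_option autoImplicit false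
set_option linter.unusedSectionVars false
universe u

open DirectSum Groth.Agent.Lib.Seat91.GrCx Groth.Agent.Lib.Seat91.GrCompare
  Groth.Agent.Lib.Helper29GrShift Groth.Agent.Lib.Seat86.GrSmul Groth.Agent.Lib.Seat86.GrProd

namespace Groth.Agent.Lib.Seat91.GrShift

variable {ι : Type} [AddCommGroup ι] [DecidableEq ι]
variable {R : Type u} [CommRing R] {𝒜 : ι → AddSubgroup R} [GradedRing 𝒜]
variable {M : Type u} [AddCommGroup M] [Module R M] {ℳ : ι → AddSubgroup M}
  [DirectSum.Decomposition ℳ] [SetLike.GradedSMul 𝒜 ℳ]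

/-- multiplication by a homogeneous element of degree `k`, as a degree-zero chain map from the
shifted resolution `E(-k)` to `E` -/
noncomputable def smulC (E : GrLC.StarInjRes 𝒜 ℳ) {x : R} {k : ι} (hx : x ∈ 𝒜 k) :
    CMap (shiftRes E (-k)) E 0 where
  θ n := x • (LinearMap.id : (E.X n).carrier →ₗ[R] (E.X n).carrier)
  hom n := by
    have key : ∀ (j : ι) (y : (E.X n).carrier), y ∈ (E.X n).gr (j + -k) →
        x • y ∈ (E.X n).gr (j + 0) := by
      intro j y hy
      have := SetLike.GradedSMul.smul_mem (A := 𝒜) (B := (E.X n).gr) hx hy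
      rw [vadd_eq_add, add_comm, neg_add_cancel_right] at this
      rw [add_zero]
      exact this
    exact key
  comm n y := (map_smul (E.d n) x y).symm

theorem smulC_ε (E : GrLC.StarInjRes 𝒜 ℳ) {x : R} {k : ι} (hx : x ∈ 𝒜 k) (m : M) :
    (smulC E hx).θ 0 ((shiftRes E (-k)).ε m) = E.ε (x • m) :=
  (map_smul E.ε x m).symm

theorem smulC_Hmap (E : GrLC.StarInjRes 𝒜 ℳ) {x : R} {k : ι} (hx : x ∈ 𝒜 k)
    (a : HomogeneousIdeal 𝒜) (i : ℕ) (y : (shiftRes E (-k)).H a i) :
    (smulC E hx).Hmap a i y = x • shiftH E (-k) a i y := by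
  obtain ⟨z, rfl⟩ := Submodule.Quotient.mk_surjective _ y
  have e : (smulC E hx).Hmap a i (Submodule.Quotient.mk z) =
      E.toH a i (x • (show ↥(E.cocyc a i) from z)) := rfl
  rw [e, map_smul]
  rfl

section pieces

variable {H : Type u} [AddCommGroup H] [Module R H] (𝓗 : ι → AddSubgroup H)
  [DirectSum.Decomposition 𝓗]

/-- multiplication by an element shifting the pieces by `k` commutes with components -/
theorem decompose_smul_deg (x : R) (k : ι) (hx : ∀ (g : ι) (v : H), v ∈ 𝓗 g → x • v ∈ 𝓗 (g + k))
    (v : H) (g : ι) :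
    ((decompose 𝓗 (x • v)) (g + k) : H) = x • ((decompose 𝓗 v) g : H) := by
  classical
  induction v using DirectSum.Decomposition.inductionOn 𝓗 with
  | zero => simp
  | homogeneous m =>
    rename_i j
    have hm : x • (m : H) ∈ 𝓗 (j + k) := hx j m m.2
    by_cases h : j = g
    · subst h
      rw [DirectSum.decompose_of_mem_same _ hm, DirectSum.decompose_of_mem_same _ m.2]
    · have h' : j + k ≠ g + k := fun e => h (add_right_cancel e)
      rw [DirectSum.decompose_of_mem_ne _ hm h', DirectSum.decompose_of_mem_ne _ m.2 h, smul_zero]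
  | add m m' hm hm' =>
    rw [smul_add, DirectSum.decompose_add, DirectSum.decompose_add, DirectSum.add_apply,
      DirectSum.add_apply, AddSubgroup.coe_add, AddSubgroup.coe_add, smul_add, hm, hm']

end pieces

end Groth.Agent.Lib.Seat91.GrShift
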