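import Mathlib

/-!
# A Noetherian non-negatively graded algebra with `T₀ = k` is of finite type (seat 91)

Namespace `Groth.Agent.Lib.Seat91.GradedFG`.
-/

set_option autoImplicit false
set_option linter.unusedSectionVars false

universe u

namespace Groth.Agent.Lib.Seat91.GradedFG

variable {k T : Type*} [CommRing k] [CommRing T] [Algebra k T] (𝒯 : ℤ → Submodule k T) [GradedAlgebra 𝒯]

/-- A Noetherian `ℤ`-graded `k`-algebra concentrated in non-negative degrees with degree zero part `k · 1` is a
`k`-algebra of finite type. -/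
theorem finiteType_of_isNoetherianRing [IsNoetherianRing T] (hneg : ∀ n : ℤ, n < 0 → 𝒯 n = ⊥)
    (h0 : 𝒯 0 = Submodule.span k {(1 : T)}) : Algebra.FiniteType k T := by
  classical
  set G : Set T := {x : T | ∃ n : ℤ, 0 < n ∧ x ∈ 𝒯 n} with hG
  have hfg : (Ideal.span G).FG := IsNoetherian.noetherian _
  obtain ⟨G', hG'G, hspan⟩ := (Submodule.fg_span_iff_fg_span_finset_subset G).1 hfg
  set B : Subalgebra k T := Algebra.adjoin k (G' : Set T) with hB
  have hdeg : ∀ g ∈ G', ∃ n : ℤ, 0 < n ∧ g ∈ 𝒯 n := fun g hg => hG'G hg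
  have key : ∀ (n : ℕ) (x : T), x ∈ 𝒯 (n : ℤ) → x ∈ B := by
    intro n
    induction n using Nat.strong_induction_on with
    | _ n ih =>
      intro x hx
      rcases Nat.eq_zero_or_pos n with hn | hn
      · subst hn
        rw [Nat.cast_zero, h0, Submodule.mem_span_singleton] at hx
        obtain ⟨c, rfl⟩ := hx
        rw [Algebra.smul_def, mul_one]
        exact Subalgebra.algebraMap_mem B c
      · have hxG : x ∈ Ideal.span G := Ideal.subset_span ⟨n, by exact_mod_cast hn, hx⟩
        have hxG' : x ∈ Submodule.span T (G' : Set T) := by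
          have : Ideal.span G = Submodule.span T (G' : Set T) := hspan
          rw [← this]; exact hxG
        obtain ⟨c, -, hc⟩ := Submodule.mem_span_finset.1 hxG'
        -- take the degree `n` component
        have hx' : x = ∑ g ∈ G', ((DirectSum.decompose 𝒯 (c g • g) (n : ℤ) : 𝒯 n) : T) := by
          have h1 : ((DirectSum.decompose 𝒯 x (n : ℤ) : 𝒯 n) : T) = x :=
            DirectSum.decompose_of_mem_same 𝒯 hx
          rw [← h1, ← hc, DirectSum.decompose_sum, DFinsupp.finsetSum_apply,
            AddSubmonoidClass.coe_finsetSum]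
        rw [hx']
        refine Subalgebra.sum_mem B fun g hg => ?_
        obtain ⟨d, hd0, hgd⟩ := hdeg g hg
        have h2 : ((DirectSum.decompose 𝒯 (c g • g) (n : ℤ) : 𝒯 n) : T) =
            ((DirectSum.decompose 𝒯 (c g) ((n : ℤ) - d) : 𝒯 ((n : ℤ) - d)) : T) * g := by
          have h3 := DirectSum.coe_decompose_mul_add_of_right_mem 𝒯 (i := (n : ℤ) - d) (a := c g) hgd
          rw [sub_add_cancel] at h3
          rw [smul_eq_mul, h3]
        rw [h2]
        refine Subalgebra.mul_mem B ?_ (Algebra.subset_adjoin hg)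
        by_cases hnd : (n : ℤ) - d < 0
        · have : ((DirectSum.decompose 𝒯 (c g) ((n : ℤ) - d) : 𝒯 ((n : ℤ) - d)) : T) ∈
              (⊥ : Submodule k T) := by
            rw [← hneg _ hnd]; exact SetLike.coe_mem _
          rw [(Submodule.mem_bot k).1 this]
          exact Subalgebra.zero_mem B
        · replace hnd := not_lt.1 hnd
          obtain ⟨m, hm⟩ := Int.eq_ofNat_of_zero_le hnd
          have hmn : m < n := by omega
          refine ih m hmn _ ?_
          rw [← hm]
          exact SetLike.coe_mem _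
  refine ⟨⟨G', ?_⟩⟩
  rw [eq_top_iff]
  intro x _
  rw [← DirectSum.sum_support_decompose 𝒯 x]
  refine Subalgebra.sum_mem B fun n _ => ?_
  by_cases hn : n < 0
  · have : ((DirectSum.decompose 𝒯 x n : 𝒯 n) : T) ∈ (⊥ : Submodule k T) := by
      rw [← hneg _ hn]; exact SetLike.coe_mem _
    rw [(Submodule.mem_bot k).1 this]
    exact Subalgebra.zero_mem B
  · replace hn := not_lt.1 hn
    obtain ⟨m, rfl⟩ := Int.eq_ofNat_of_zero_le hn
    exact key m _ (SetLike.coe_mem _)

end Groth.Agent.Lib.Seat91.GradedFG
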