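import Groth.Agent.Lib.Seat91HilbMono

/-!
# Homogeneous prime avoidance and homogeneous nonzerodivisors (seat 91)

* `exists_homogeneous_notMem`: graded prime avoidance over an arbitrary (possibly finite) base:
  finitely many primes each missing some homogeneous element of positive degree are simultaneously
  missed by one homogeneous element of positive degree.
* `exists_homogeneous_nonZeroDivisor`: a graded Cohen–Macaulay algebra `R = k ⊕ R_1 ⊕ …` over a field
  of dimension `≥ 1` (Noetherian) has a homogeneous nonzerodivisor of positive degree.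

Namespace `Groth.Agent.Lib.Seat91.HomogAvoid`.
-/

set_option autoImplicit false
set_option linter.unusedSectionVars false
set_option linter.style.haveILetI false
universe u

open DirectSum Groth.Agent.Lib.Seat91.GrIrr

namespace Groth.Agent.Lib.Seat91.HomogAvoid

section avoid

variable {k R : Type*} [CommRing k] [CommRing R] [Algebra k R]
  (𝒜 : ℤ → Submodule k R) [GradedAlgebra 𝒜]

theorem pow_mem_nat {d : ℕ} {x : R} (hx : x ∈ 𝒜 (d : ℤ)) (n : ℕ) :
    x ^ n ∈ 𝒜 ((d * n : ℕ) : ℤ) := by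
  have h := SetLike.pow_mem_graded n hx
  have e : n • (d : ℤ) = ((d * n : ℕ) : ℤ) := by
    rw [nsmul_eq_mul]; push_cast; ring
  rwa [e] at h

theorem prod_mem_nat {ι : Type*} (s : Finset ι) (d : ι → ℕ) (x : ι → R)
    (hx : ∀ i ∈ s, x i ∈ 𝒜 (d i : ℤ)) : (∏ i ∈ s, x i) ∈ 𝒜 ((∑ i ∈ s, d i : ℕ) : ℤ) := by
  classical
  induction s using Finset.induction_on with
  | empty =>
    simp only [Finset.prod_empty, Finset.sum_empty, Nat.cast_zero]
    exact SetLike.GradedOne.one_mem
  | insert a s ha ih =>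
    rw [Finset.prod_insert ha, Finset.sum_insert ha]
    have h1 := hx a (Finset.mem_insert_self a s)
    have h2 := ih fun i hi => hx i (Finset.mem_insert_of_mem hi)
    have := SetLike.mul_mem_graded h1 h2
    rw [Nat.cast_add]
    exact this

/-- **graded prime avoidance** -/
theorem exists_homogeneous_notMem (F : Finset (Ideal R))
    (hF : ∀ P ∈ F, P.IsPrime ∧ ∃ d : ℕ, 0 < d ∧ ∃ x ∈ 𝒜 (d : ℤ), x ∉ P) :
    ∃ d : ℕ, 0 < d ∧ ∃ x ∈ 𝒜 (d : ℤ), ∀ P ∈ F, x ∉ P := by
  classical
  induction F using Finset.strongInduction with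
  | H F ih =>
    by_cases hne : F.Nonempty
    swap
    · rw [Finset.not_nonempty_iff_eq_empty] at hne
      subst hne
      exact ⟨1, one_pos, 0, zero_mem _, by simp⟩
    have key : ∀ P ∈ F, ∃ d : ℕ, 0 < d ∧ ∃ x ∈ 𝒜 (d : ℤ), ∀ Q ∈ F.erase P, x ∉ Q := fun P hP =>
      ih (F.erase P) (Finset.erase_ssubset hP) (fun Q hQ => hF Q (Finset.mem_of_mem_erase hQ))
    by_cases hex : ∃ P ∈ F, ∃ d : ℕ, 0 < d ∧ ∃ x ∈ 𝒜 (d : ℤ), (∀ Q ∈ F.erase P, x ∉ Q) ∧ x ∉ P
    · obtain ⟨P, hP, d, hd, x, hx, hxQ, hxP⟩ := hex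
      refine ⟨d, hd, x, hx, fun Q hQ => ?_⟩
      by_cases hQP : Q = P
      · subst hQP; exact hxP
      · exact hxQ Q (Finset.mem_erase.2 ⟨hQP, hQ⟩)
    · push Not at hex
      choose! d hd x hx hxQ using key
      have hxP : ∀ P ∈ F, x P ∈ P := fun P hP =>
        hex P hP (d P) (hd P hP) (x P) (hx P hP) (hxQ P hP)
      obtain ⟨Q, hQ⟩ := hne
      have hQprime : Q.IsPrime := (hF Q hQ).1
      by_cases hF' : (F.erase Q).Nonempty
      swap
      · obtain ⟨-, e, he, y, hy, hyQ⟩ := hF Q hQ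
        refine ⟨e, he, y, hy, fun P hP => ?_⟩
        have : P = Q := by
          by_contra hPQ
          exact hF' ⟨P, Finset.mem_erase.2 ⟨hPQ, hP⟩⟩
        rw [this]; exact hyQ
      · set u := ∏ P ∈ F.erase Q, x P with hu_def
        set e := ∑ P ∈ F.erase Q, d P with he_def
        have hu : u ∈ 𝒜 (e : ℤ) :=
          prod_mem_nat 𝒜 (F.erase Q) d x fun P hP => hx P (Finset.mem_of_mem_erase hP)
        have he : 0 < e := by
          obtain ⟨P, hP⟩ := hF'
          exact lt_of_lt_of_le (hd P (Finset.mem_of_mem_erase hP))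
            (Finset.single_le_sum (f := d) (fun i _ => Nat.zero_le _) hP)
        have huP : ∀ P ∈ F.erase Q, u ∈ P := by
          intro P hP
          obtain ⟨c, hc⟩ := Finset.dvd_prod_of_mem x hP
          rw [hu_def, hc]
          exact Ideal.mul_mem_right _ _ (hxP P (Finset.mem_of_mem_erase hP))
        have huQ : u ∉ Q := by
          rw [hu_def, Ideal.IsPrime.prod_mem_iff]
          push Not
          intro P hP
          have hPF : P ∈ F := Finset.mem_of_mem_erase hP
          have hPQ : P ≠ Q := (Finset.mem_erase.1 hP).1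
          exact hxQ P hPF Q (Finset.mem_erase.2 ⟨hPQ.symm, hQ⟩)
        have hdQ : 0 < d Q := hd Q hQ
        refine ⟨e * d Q, Nat.mul_pos he hdQ, u ^ d Q + x Q ^ e, ?_, ?_⟩
        · refine Submodule.add_mem _ (pow_mem_nat 𝒜 hu (d Q)) ?_
          have := pow_mem_nat 𝒜 (hx Q hQ) e
          rwa [Nat.mul_comm] at this
        · intro P hP hmem
          by_cases hPQ : P = Q
          · subst hPQ
            have h1 : x P ^ e ∈ P := Ideal.pow_mem_of_mem _ (hxP P hP) e he
            have h2 : u ^ d P ∈ P := (Ideal.add_mem_iff_left _ h1).1 hmem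
            exact huQ (hQprime.mem_of_pow_mem _ h2)
          · have hP' : P ∈ F.erase Q := Finset.mem_erase.2 ⟨hPQ, hP⟩
            have hPprime : P.IsPrime := (hF P hP).1
            have h1 : u ^ d Q ∈ P := Ideal.pow_mem_of_mem _ (huP P hP') (d Q) hdQ
            have h2 : x Q ^ e ∈ P := (Ideal.add_mem_iff_right _ h1).1 hmem
            exact hxQ Q hQ P hP' (hPprime.mem_of_pow_mem _ h2)

end avoid

section nzd

variable {k R : Type u} [Field k] [CommRing R] [Algebra k R]
  (𝒜 : ℤ → Submodule k R) [GradedAlgebra 𝒜]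
  (hpos : ∀ n : ℤ, n < 0 → 𝒜 n = ⊥) (h0 : 𝒜 0 = Submodule.span k {(1 : R)})

include hpos h0 in
/-- a graded Cohen–Macaulay algebra of dimension `≥ 1` has a homogeneous nonzerodivisor of positive
degree -/
theorem exists_homogeneous_nonZeroDivisor [Nontrivial R]
    [hCM : LocCoh.IsCohenMacaulayRing R] (h1 : 1 ≤ ringKrullDim R) :
    ∃ d : ℕ, 0 < d ∧ ∃ x ∈ 𝒜 (d : ℤ), x ∈ nonZeroDivisors R := by
  classical
  have hfin : (associatedPrimes R R).Finite := associatedPrimes.finite R R
  have hmax : (irr 𝒜).IsMaximal := irr_isMaximal 𝒜 hpos h0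
  obtain ⟨d, hd, x, hx, hxP⟩ := exists_homogeneous_notMem 𝒜 hfin.toFinset (by
    intro P hP
    rw [Set.Finite.mem_toFinset] at hP
    have hP' : IsAssociatedPrime P R := hP
    refine ⟨hP'.isPrime, ?_⟩
    by_contra hcon
    push Not at hcon
    have hle : irr 𝒜 ≤ P := by
      refine Ideal.span_le.2 ?_
      intro a ha
      simp only [Set.mem_iUnion, Set.mem_Ioi, SetLike.mem_coe] at ha
      obtain ⟨n, hn, han⟩ := ha
      obtain ⟨m, rfl⟩ := Int.eq_ofNat_of_zero_le hn.le
      exact hcon m (by exact_mod_cast hn) a han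
    have heq : irr 𝒜 = P := hmax.eq_of_le hP'.isPrime.ne_top hle
    obtain ⟨-, z, hz⟩ := isAssociatedPrime_iff.1 hP'
    have hz0 : z = 0 := by
      apply HilbMono.eq_zero_of_irr_mul_eq_zero 𝒜 hpos h0 h1
      intro a ha
      rw [heq, hz, Submodule.mem_colon_singleton] at ha
      simpa using ha
    apply hP'.isPrime.ne_top
    rw [hz, hz0]
    ext r
    simp [Submodule.mem_colon_singleton])
  refine ⟨d, hd, x, hx, ?_⟩
  by_contra hxn
  have h2 : x ∈ (nonZeroDivisors R : Set R)ᶜ := hxn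
  rw [← biUnion_associatedPrimes_eq_compl_nonZeroDivisors] at h2
  simp only [Set.mem_iUnion, SetLike.mem_coe] at h2
  obtain ⟨P, hP, hxPm⟩ := h2
  exact hxP P (by rw [Set.Finite.mem_toFinset]; exact hP) hxPm

end nzd

end Groth.Agent.Lib.Seat91.HomogAvoid
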