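import Mathlib
import Groth.Agent.Lib.Helper26ModRank
import Groth.Agent.Lib.Helper23FinType
import Groth.Agent.Lib.Helper23FinTypeLocal
import Groth.Agent.Lib.Helper23TensorQCoh
import Groth.Agent.Lib.Helper20LocFree

/-!
# Finite locally free modules of constant rank: quasi-coherence and monotonicity of the rank (seat 91)

Namespace `Groth.Agent.Lib.Seat91.LocFreeRank`.

* `isQuasicoherent_of_isFinLocFreeOfRank`: a module which is finite locally free of rank `n`
  (prelude's `FlatMod.IsFinLocFreeOfRank`) is quasi-coherent.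
* `rank_le_of_mono`: on a nonempty scheme, a monomorphism `F ⟶ E` of finite locally free modules of ranks `r`
  and `n` forces `r ≤ n`.
-/

set_option autoImplicit false
set_option linter.style.haveILetI false
universe u
open CategoryTheory AlgebraicGeometry Limits TopologicalSpace

namespace Groth.Agent.Lib.Seat91.LocFreeRank

open Groth.Agent.Lib.Helper23.FinType Groth.Agent.Lib.Helper20.Thickening
  Groth.Agent.Lib.Helper20.LocFree Groth.Agent.Lib.Helper26.ModRank

theorem isQuasicoherent_of_isFinLocFreeOfRank {X : Scheme.{u}} {n : ℕ} (M : X.Modules)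
    (h : FlatMod.IsFinLocFreeOfRank n M) : M.IsQuasicoherent := by
  choose V hxV hV using h
  refine isQuasicoherent_of_open_cover M V ?_ fun x => ?_
  · rw [IsOpenCover, eq_top_iff]
    intro x _
    exact Opens.mem_iSup.2 ⟨x, hxV x⟩
  · obtain ⟨e⟩ := hV x
    haveI : (FlatMod.freeMod (V x : Scheme.{u}) n).IsQuasicoherent := inferInstance
    exact Groth.Agent.Lib.Helper23.TensorQCoh.isQuasicoherent_of_iso e.symm

theorem rank_le_of_mono {X : Scheme.{u}} [Nonempty X] {F E : X.Modules} {r n : ℕ}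
    (hF : FlatMod.IsFinLocFreeOfRank r F) (hE : FlatMod.IsFinLocFreeOfRank n E)
    (i : F ⟶ E) [Mono i] : r ≤ n := by
  haveI := isQuasicoherent_of_isFinLocFreeOfRank F hF
  haveI := isQuasicoherent_of_isFinLocFreeOfRank E hE
  obtain ⟨x⟩ := (inferInstance : Nonempty X)
  obtain ⟨W₁, hx₁, ⟨e₁⟩⟩ := hF x
  obtain ⟨W₂, hx₂, ⟨e₂⟩⟩ := hE x
  obtain ⟨U, hU, hxU, hUW⟩ := exists_isAffineOpen_mem_and_subset (x := x) (U := W₁ ⊓ W₂) ⟨hx₁, hx₂⟩
  obtain ⟨b₁⟩ := nonempty_basis_of_restrict_iso F e₁ hU (hUW.trans inf_le_left)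
  obtain ⟨b₂⟩ := nonempty_basis_of_restrict_iso E e₂ hU (hUW.trans inf_le_right)
  haveI : Nonempty U := ⟨⟨x, hxU⟩⟩
  haveI : Nontrivial Γ(X, U) := inferInstance
  have hinj : Function.Injective ((ΓUF hU).map i).hom := injective_ΓU_map i hU
  haveI : Module.Finite Γ(X, U) ((ΓUF hU).obj E) := Module.Finite.of_basis b₂
  have h1 := LinearMap.finrank_le_finrank_of_injective
    (f := ((ΓUF hU).map i).hom) hinj
  rw [Module.finrank_eq_card_basis b₁, Module.finrank_eq_card_basis b₂] at h1
  simpa using h1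

end Groth.Agent.Lib.Seat91.LocFreeRank
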