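import Mathlib
import Groth.Prelude.Def_DeRham
import Groth.Agent.Lib.Seat91Cartan

/-!
# The algebraic Poincaré lemma for polynomial rings over a `ℚ`-algebra (seat 91)

Namespace `Groth.Agent.Lib.Seat91.MvPolyPoincare`.

For `A = R[x_i : i ∈ σ]` (`σ` finite, `R` a `ℚ`-algebra) and any family `d'` on `⋀^• Ω[A⁄R]` satisfying
`DeRham.IsDiff`: a polynomial with `D a = 0` is constant and every closed form of positive degree is exact.
The proof uses the Euler derivation `E = ∑ x_i ∂/∂x_i` and the generic Cartan formula of `Seat91Cartan`.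
-/

set_option autoImplicit false
set_option linter.style.haveILetI false
set_option linter.unusedSectionVars false

universe u

open exteriorPower DeRham MvPolynomial
open Groth.Agent.Lib.Seat91.Cartan

namespace Groth.Agent.Lib.Seat91.MvPolyPoincare

section euler

variable (R : Type u) [CommRing R] (σ : Type) [Fintype σ]

/-- the Euler derivation `∑ x_i ∂/∂x_i` -/
noncomputable def E : Derivation R (MvPolynomial σ R) (MvPolynomial σ R) :=
  ∑ i : σ, (X i : MvPolynomial σ R) • (pderiv i : Derivation R (MvPolynomial σ R) (MvPolynomial σ R))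

theorem E_apply (p : MvPolynomial σ R) : E R σ p = ∑ i : σ, X i * pderiv i p := by
  unfold E
  have h := congrFun (map_sum (Derivation.coeFnAddMonoidHom (R := R) (A := MvPolynomial σ R)
    (M := MvPolynomial σ R)) (fun i : σ => (X i : MvPolynomial σ R) •
      (pderiv i : Derivation R (MvPolynomial σ R) (MvPolynomial σ R))) Finset.univ) p
  rw [Finset.sum_apply] at h
  exact h

theorem E_monomial (m : σ →₀ ℕ) (c : R) :
    E R σ (monomial m c) = (∑ i, m i) • monomial m c := by
  rw [E_apply, Finset.sum_smul]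
  refine Finset.sum_congr rfl fun i _ => ?_
  rw [X_mul_pderiv_monomial]

theorem E_X (i : σ) : E R σ (X i : MvPolynomial σ R) = (1 : ℕ) • (X i : MvPolynomial σ R) := by
  classical
  have h := E_monomial R σ (Finsupp.single i 1) 1
  have h2 : ∑ j, (Finsupp.single i 1 : σ →₀ ℕ) j = 1 := by
    rw [Finset.sum_eq_single i]
    · simp
    · intro j _ hj; simp [hj.symm]
    · intro h; exact absurd (Finset.mem_univ i) h
  rw [h2] at h
  exact h

theorem coeff_E (t : σ →₀ ℕ) (a : MvPolynomial σ R) :
    coeff t (E R σ a) = (∑ i, t i) • coeff t a := by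
  classical
  induction a using MvPolynomial.induction_on' with
  | monomial s c =>
    rw [E_monomial, coeff_smul, coeff_monomial]
    split_ifs with h
    · rw [h]
    · rw [smul_zero, smul_zero]
  | add p q hp hq =>
    rw [map_add, coeff_add, coeff_add, hp, hq, smul_add]

theorem eq_C_of_E_eq_zero [Algebra ℚ R] (a : MvPolynomial σ R) (h : E R σ a = 0) :
    a = C (coeff 0 a) := by
  classical
  ext t
  rw [coeff_C]
  split_ifs with ht
  · rw [ht]
  · have h1 : (∑ i, t i) • coeff t a = 0 := by rw [← coeff_E, h, coeff_zero]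
    have h2 : (∑ i, t i) ≠ 0 := by
      intro h0
      apply ht
      ext i
      have := (Finset.sum_eq_zero_iff.1 h0) i (Finset.mem_univ i)
      simp [this]
    rw [← inv_smul_nsmul (R := R) _ h2 (coeff t a), h1, smul_zero]

end euler

section span

variable (R : Type u) [CommRing R] (σ : Type) [Fintype σ]

theorem span_D_X :
    Submodule.span (MvPolynomial σ R)
      (Set.range fun i : σ => KaehlerDifferential.D R (MvPolynomial σ R) (X i)) = ⊤ := by
  rw [eq_top_iff, ← KaehlerDifferential.span_range_derivation R (MvPolynomial σ R), Submodule.span_le]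
  rintro _ ⟨p, rfl⟩
  induction p using MvPolynomial.induction_on with
  | C a =>
    rw [← MvPolynomial.algebraMap_eq, Derivation.map_algebraMap]
    exact zero_mem _
  | add p q hp hq =>
    rw [map_add]
    exact add_mem hp hq
  | mul_X p i hp =>
    rw [Derivation.leibniz]
    exact add_mem (Submodule.smul_mem _ _ (Submodule.subset_span ⟨i, rfl⟩))
      (Submodule.smul_mem _ _ hp)

variable {R σ} in
/-- induction principle: the special generators `(c x^m) dx_{j₁} ∧ … ∧ dx_{j_q}` generate
`⋀^q Ω[R[x]⁄R]` additively -/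
theorem special_gen_induction (q : ℕ)
    (P : ↥(⋀[MvPolynomial σ R]^q (Ω[MvPolynomial σ R⁄R])) → Prop) (h0 : P 0)
    (hadd : ∀ x y, P x → P y → P (x + y))
    (hgen : ∀ (m : σ →₀ ℕ) (c : R) (j : Fin q → σ),
      P (gen (KaehlerDifferential.D R (MvPolynomial σ R)) q (monomial m c) (fun i => X (j i)))) :
    ∀ ω, P ω := by
  intro ω
  have hspan := exteriorPower.ιMulti_span_of_span (R := MvPolynomial σ R) (n := q)
    (M := Ω[MvPolynomial σ R⁄R]) (span_D_X R σ)
  have hω : ω ∈ Submodule.span (MvPolynomial σ R) (exteriorPower.ιMulti (MvPolynomial σ R) q ''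
      {v : Fin q → Ω[MvPolynomial σ R⁄R] | Set.range v ⊆
        Set.range fun i : σ => KaehlerDifferential.D R (MvPolynomial σ R) (X i)}) := by
    rw [hspan]; exact Submodule.mem_top
  have key : ∀ c : MvPolynomial σ R, P (c • ω) := by
    induction hω using Submodule.span_induction with
    | mem ω h =>
      obtain ⟨v, hv, rfl⟩ := h
      have hv' : ∀ i, ∃ s : σ, KaehlerDifferential.D R (MvPolynomial σ R) (X s) = v i :=
        fun i => hv ⟨i, rfl⟩
      choose s hs using hv'
      intro c
      have h2 : c • exteriorPower.ιMulti (MvPolynomial σ R) q v =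
          gen (KaehlerDifferential.D R (MvPolynomial σ R)) q c (fun i => X (s i)) := by
        simp only [gen, hs]
      rw [h2]
      clear h2
      induction c using MvPolynomial.induction_on' with
      | add c₁ c₂ h₁ h₂ =>
        have : gen (KaehlerDifferential.D R (MvPolynomial σ R)) q (c₁ + c₂) (fun i => X (s i)) =
            gen (KaehlerDifferential.D R (MvPolynomial σ R)) q c₁ (fun i => X (s i)) +
              gen (KaehlerDifferential.D R (MvPolynomial σ R)) q c₂ (fun i => X (s i)) := by
          unfold gen; rw [add_smul]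
        rw [this]
        exact hadd _ _ h₁ h₂
      | monomial m a => exact hgen m a s
    | zero => intro c; rw [smul_zero]; exact h0
    | add x y _ _ hx hy => intro c; rw [smul_add]; exact hadd _ _ (hx c) (hy c)
    | smul e x _ hx => intro c; rw [smul_smul]; exact hx (c * e)
  have := key 1
  rwa [one_smul] at this

end span

section main

variable {R : Type u} [CommRing R] {σ : Type} [Fintype σ]
  (d' : ∀ p : ℕ, ↥(⋀[MvPolynomial σ R]^p (Ω[MvPolynomial σ R⁄R])) →ₗ[R]
    ↥(⋀[MvPolynomial σ R]^(p + 1) (Ω[MvPolynomial σ R⁄R])))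

/-- `ω` is a finite sum of eigenvectors of the Lie derivative with positive natural eigenvalues -/
def Decomp (q : ℕ) (ω : ↥(⋀[MvPolynomial σ R]^(q + 1) (Ω[MvPolynomial σ R⁄R]))) : Prop :=
  ∃ y : ℕ →₀ ↥(⋀[MvPolynomial σ R]^(q + 1) (Ω[MvPolynomial σ R⁄R])), (y.sum fun _ v => v) = ω ∧
    (∀ n, Lie (E R σ) d' (q + 1) (y n) = n • y n) ∧ y 0 = 0

theorem decomp_all (hd' : DeRham.IsRule (KaehlerDifferential.D R (MvPolynomial σ R)) d') (q : ℕ)
    (ω : ↥(⋀[MvPolynomial σ R]^(q + 1) (Ω[MvPolynomial σ R⁄R]))) : Decomp d' q ω := by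
  classical
  refine special_gen_induction (q + 1) (Decomp d' q) ?_ ?_ ?_ ω
  · exact ⟨0, by simp, fun n => by simp, by simp⟩
  · rintro x y ⟨y₁, h₁, e₁, z₁⟩ ⟨y₂, h₂, e₂, z₂⟩
    refine ⟨y₁ + y₂, ?_, fun n => ?_, ?_⟩
    · rw [Finsupp.sum_add_index' (fun _ => rfl) (fun _ _ _ => rfl), h₁, h₂]
    · rw [Finsupp.add_apply, map_add, e₁, e₂, smul_add]
    · rw [Finsupp.add_apply, z₁, z₂, add_zero]
  · intro m c j
    set g := gen (KaehlerDifferential.D R (MvPolynomial σ R)) (q + 1) (monomial m c)
      (fun i => X (j i)) with hg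
    have hLie : Lie (E R σ) d' (q + 1) g = ((∑ i, m i) + ∑ _l : Fin (q + 1), 1) • g :=
      Lie_gen_eigen (E R σ) d' hd' (q + 1) _ _ (∑ i, m i) (fun _ => 1) (E_monomial R σ m c)
        (fun l => E_X R σ (j l))
    refine ⟨Finsupp.single ((∑ i, m i) + ∑ _l : Fin (q + 1), 1) g, ?_, fun n => ?_, ?_⟩
    · rw [Finsupp.sum_single_index rfl]
    · rw [Finsupp.single_apply]
      split_ifs with h
      · rw [hLie, h]
      · rw [map_zero, smul_zero]
    · rw [Finsupp.single_apply]
      split_ifs with h
      · exfalso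
        simp at h
      · rfl

/-- The algebraic Poincaré lemma for `R[x_i : i ∈ σ]`, `σ` finite, over a `ℚ`-algebra `R`. -/
theorem poincare [Algebra ℚ R]
    (hd' : DeRham.IsDiff (KaehlerDifferential.D R (MvPolynomial σ R)) d') :
    (∀ a : MvPolynomial σ R, KaehlerDifferential.D R (MvPolynomial σ R) a = 0 → ∃ c : R, a = C c) ∧
    ∀ (p : ℕ) (ω : ↥(⋀[MvPolynomial σ R]^(p + 1) (Ω[MvPolynomial σ R⁄R]))),
      d' (p + 1) ω = 0 → ∃ θ, d' p θ = ω := by
  classical
  constructor
  · intro a ha
    refine ⟨coeff 0 a, eq_C_of_E_eq_zero R σ a ?_⟩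
    rw [← φE_D, ha, map_zero]
  · intro p ω hω
    obtain ⟨Y, hsum, heig, hY0⟩ := decomp_all d' hd'.1 p ω
    have hz : ∀ n, d' (p + 1) (Y n) = 0 := by
      have h1 := eigen_sum_eq_zero (Lie (E R σ) d' (p + 2)) Y.support (fun n => d' (p + 1) (Y n))
        (fun n _ => by rw [Lie_comm (E R σ) d' hd', heig n, map_nsmul])
        (by
          rw [← map_sum]
          have : ∑ n ∈ Y.support, Y n = ω := hsum
          rw [this, hω])
      intro n
      by_cases hn : n ∈ Y.support
      · exact h1 n hn
      · rw [Finsupp.notMem_support_iff.1 hn, map_zero]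
    refine ⟨∑ n ∈ Y.support, (algebraMap ℚ R (n : ℚ)⁻¹) • iE (E R σ) p (Y n), ?_⟩
    rw [map_sum, ← hsum]
    show _ = ∑ n ∈ Y.support, Y n
    refine Finset.sum_congr rfl fun n hn => ?_
    have hn0 : n ≠ 0 := by
      rintro rfl
      exact (Finsupp.mem_support_iff.1 hn) hY0
    have h3 : n • Y n = d' p (iE (E R σ) p (Y n)) := by
      rw [← heig n, Lie_succ_apply, hz n, map_zero, add_zero]
    rw [map_smul, ← h3, inv_smul_nsmul (R := R) n hn0]

end main

end Groth.Agent.Lib.Seat91.MvPolyPoincare
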