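import Mathlib

/-!
# Torsion of coinvariants of an automorphism of order `ℓ` of a `ℤ_ℓ`-lattice (seat 91)

Namespace `Groth.Agent.Lib.Seat91.PadicTors`.

* `card_quot_smul`: `|N/ℓN| = ℓ ^ rank N` for a free `ℤ_ℓ`-module of finite rank;
* `Decomp E f`: an idempotent `E` splitting off the part of `M` on which `f` is "nearly invertible";
* `Decomp.torsion_killed`, `Decomp.card_torsion`, `Decomp.finrank_ker`;
* `index_range_comp_self`: the index of `g²(K)` is the square of the index of `g(K)` for injective `g`.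
-/

set_option autoImplicit false
set_option linter.style.haveILetI false
set_option linter.unusedSectionVars false

universe u

namespace Groth.Agent.Lib.Seat91.PadicTors

variable {ℓ : ℕ} [Fact ℓ.Prime]

section card

/-- `|ℤ_ℓ/(ℓ)| = ℓ` -/
theorem card_quot_span_p : Nat.card (ℤ_[ℓ] ⧸ Ideal.span {(ℓ : ℤ_[ℓ])}) = ℓ := by
  have e : (ℤ_[ℓ] ⧸ Ideal.span {(ℓ : ℤ_[ℓ])}) ≃+* ZMod ℓ :=
    (Ideal.quotEquivOfEq (by rw [PadicInt.ker_toZMod, PadicInt.maximalIdeal_eq_span_p])).trans
      (RingHom.quotientKerEquivOfSurjective (ZMod.ringHom_surjective PadicInt.toZMod))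
  rw [Nat.card_congr e.toEquiv, Nat.card_zmod]

theorem card_quot_smul (N : Type*) [AddCommGroup N] [Module ℤ_[ℓ] N] [Module.Free ℤ_[ℓ] N]
    [Module.Finite ℤ_[ℓ] N] :
    Nat.card (N ⧸ LinearMap.range ((ℓ : ℤ_[ℓ]) • (LinearMap.id : N →ₗ[ℤ_[ℓ]] N))) =
      ℓ ^ Module.finrank ℤ_[ℓ] N := by
  classical
  let b := Module.finBasis ℤ_[ℓ] N
  let N' : Submodule ℤ_[ℓ] (Fin (Module.finrank ℤ_[ℓ] N) → ℤ_[ℓ]) :=
    Submodule.pi Set.univ fun _ => Ideal.span {(ℓ : ℤ_[ℓ])}
  have hmap : Submodule.map (b.equivFun : N →ₗ[ℤ_[ℓ]] _)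
      (LinearMap.range ((ℓ : ℤ_[ℓ]) • (LinearMap.id : N →ₗ[ℤ_[ℓ]] N))) = N' := by
    ext x
    simp only [N', Submodule.mem_map, Submodule.mem_pi, Set.mem_univ, forall_true_left,
      Ideal.mem_span_singleton, LinearMap.mem_range]
    constructor
    · rintro ⟨_, ⟨y, rfl⟩, rfl⟩ i
      exact ⟨b.equivFun y i, by simp⟩
    · intro h
      choose c hc using h
      refine ⟨(ℓ : ℤ_[ℓ]) • b.equivFun.symm c, ⟨b.equivFun.symm c, rfl⟩, ?_⟩
      rw [LinearEquiv.coe_coe, map_smul, LinearEquiv.apply_symm_apply]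
      ext i
      rw [Pi.smul_apply, smul_eq_mul, hc i]
  let e := (Submodule.Quotient.equiv _ N' b.equivFun hmap).trans
    (Submodule.quotientPi (fun _ : Fin (Module.finrank ℤ_[ℓ] N) =>
      (Ideal.span {(ℓ : ℤ_[ℓ])} : Submodule ℤ_[ℓ] ℤ_[ℓ])))
  rw [Nat.card_congr e.toEquiv, Nat.card_pi]
  simp [card_quot_span_p]

end card

section index

/-- for an injective endomorphism `g`, `[K : g²K] = [K : gK]²` -/
theorem index_range_comp_self {K : Type*} [AddCommGroup K] (g : K →+ K)
    (hg : Function.Injective g) :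
    (g.comp g).range.index = g.range.index * g.range.index := by
  have h1 : (g.comp g).range = g.range.map g := by
    rw [AddMonoidHom.range_eq_map, AddMonoidHom.range_eq_map, ← AddSubgroup.map_map]
  have h2 : g.range = (⊤ : AddSubgroup K).map g := AddMonoidHom.range_eq_map g
  have h3 : (g.comp g).range ≤ g.range := by
    rw [h1]
    rintro _ ⟨x, -, rfl⟩
    exact ⟨x, rfl⟩
  have h4 : (g.comp g).range.relIndex g.range = g.range.index := by
    have h5 : (g.range.map g).relIndex ((⊤ : AddSubgroup K).map g) = g.range.relIndex ⊤ :=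
      AddSubgroup.relIndex_map_map_of_injective _ _ hg
    rw [AddSubgroup.relIndex_top_right] at h5
    rw [h1, ← h5, ← h2]
  rw [← AddSubgroup.relIndex_mul_index h3, h4]

end index

section decomp

variable {M : Type u} [AddCommGroup M] [Module ℤ_[ℓ] M] [Module.Free ℤ_[ℓ] M]
  [Module.Finite ℤ_[ℓ] M]

/-- an idempotent `E` commuting with `f`, with `f = 0` exactly on `im E`, and `ℓ ker E ⊆ f (ker E)` -/
structure Decomp (E f : Module.End ℤ_[ℓ] M) : Prop where
  idem : E * E = E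
  fE : f * E = 0
  Ef : E * f = 0
  lift : ∀ x, E x = 0 → ∃ y, E y = 0 ∧ (ℓ : ℤ_[ℓ]) • x = f y
  fix : ∀ x, f x = 0 → E x = x

namespace Decomp

variable {E f : Module.End ℤ_[ℓ] M} (h : Decomp E f)

include h

theorem E_f_apply (x : M) : E (f x) = 0 := by
  have := LinearMap.congr_fun h.Ef x
  simpa using this

theorem f_E_apply (x : M) : f (E x) = 0 := by
  have := LinearMap.congr_fun h.fE x
  simpa using this

theorem E_E_apply (x : M) : E (E x) = E x := by
  have := LinearMap.congr_fun h.idem x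
  simpa using this

/-- the restriction of `f` to `ker E` -/
noncomputable def g : LinearMap.ker E →ₗ[ℤ_[ℓ]] LinearMap.ker E :=
  f.restrict (fun x _ => h.E_f_apply x)

theorem g_coe (k : LinearMap.ker E) : ((h.g k : LinearMap.ker E) : M) = f (k : M) := rfl

theorem g_injective : Function.Injective h.g := by
  rw [← LinearMap.ker_eq_bot, LinearMap.ker_eq_bot']
  intro k hk
  have h1 : f (k : M) = 0 := by
    have := congrArg Subtype.val hk
    simpa [g_coe] using this
  have h2 : E (k : M) = (k : M) := h.fix _ h1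
  have h3 : E (k : M) = 0 := k.2
  apply Subtype.ext
  rw [← h2, h3]
  rfl

theorem E_eq_zero_of_torsion (x : M)
    (hx : (LinearMap.range f).mkQ x ∈ Submodule.torsion ℤ_[ℓ] (M ⧸ LinearMap.range f)) :
    E x = 0 := by
  rw [Submodule.mem_torsion_iff] at hx
  obtain ⟨a, ha⟩ := hx
  have h1 : (a : ℤ_[ℓ]) • x ∈ LinearMap.range f := by
    rw [← Submodule.Quotient.mk_eq_zero, Submodule.Quotient.mk_smul]
    exact ha
  obtain ⟨y, hy⟩ := h1
  have h2 : (a : ℤ_[ℓ]) • E x = 0 := by
    rw [← map_smul, ← hy, h.E_f_apply]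
  have ha0 : (a : ℤ_[ℓ]) ≠ 0 := nonZeroDivisors.coe_ne_zero a
  exact (smul_eq_zero_iff_right ha0).1 h2

theorem torsion_killed :
    ∀ x ∈ Submodule.torsion ℤ_[ℓ] (M ⧸ LinearMap.range f), (ℓ : ℤ_[ℓ]) • x = 0 := by
  intro x hx
  obtain ⟨y, rfl⟩ := Submodule.mkQ_surjective _ x
  have h1 := h.E_eq_zero_of_torsion y hx
  obtain ⟨z, -, hz⟩ := h.lift y h1
  rw [← map_smul, hz, Submodule.mkQ_apply, Submodule.Quotient.mk_eq_zero]
  exact ⟨z, rfl⟩

/-- the map `ker E → M/fM` -/
noncomputable def φ (E f : Module.End ℤ_[ℓ] M) : LinearMap.ker E →ₗ[ℤ_[ℓ]] (M ⧸ LinearMap.range f) :=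
  (LinearMap.range f).mkQ ∘ₗ (LinearMap.ker E).subtype

theorem range_φ : LinearMap.range (φ E f) = Submodule.torsion ℤ_[ℓ] (M ⧸ LinearMap.range f) := by
  ext x
  constructor
  · rintro ⟨k, rfl⟩
    rw [Submodule.mem_torsion_iff]
    have hℓ : (ℓ : ℤ_[ℓ]) ≠ 0 := by
      exact_mod_cast (Fact.out : ℓ.Prime).ne_zero
    refine ⟨⟨(ℓ : ℤ_[ℓ]), mem_nonZeroDivisors_of_ne_zero hℓ⟩, ?_⟩
    obtain ⟨z, -, hz⟩ := h.lift (k : M) k.2
    show (ℓ : ℤ_[ℓ]) • (LinearMap.range f).mkQ (k : M) = 0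
    rw [← map_smul, hz, Submodule.mkQ_apply, Submodule.Quotient.mk_eq_zero]
    exact ⟨z, rfl⟩
  · intro hx
    obtain ⟨y, rfl⟩ := Submodule.mkQ_surjective _ x
    exact ⟨⟨y, h.E_eq_zero_of_torsion y hx⟩, rfl⟩

theorem ker_φ : LinearMap.ker (φ E f) = LinearMap.range h.g := by
  ext k
  rw [LinearMap.mem_ker]
  show (LinearMap.range f).mkQ (k : M) = 0 ↔ _
  rw [Submodule.mkQ_apply, Submodule.Quotient.mk_eq_zero]
  constructor
  · rintro ⟨y, hy⟩
    have hmem : y - E y ∈ LinearMap.ker E := by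
      rw [LinearMap.mem_ker, map_sub, h.E_E_apply, sub_self]
    refine ⟨⟨y - E y, hmem⟩, ?_⟩
    apply Subtype.ext
    rw [g_coe]
    show f (y - E y) = (k : M)
    rw [map_sub, h.f_E_apply, sub_zero, hy]
  · rintro ⟨k', rfl⟩
    exact ⟨(k' : M), rfl⟩

theorem card_torsion :
    Nat.card (Submodule.torsion ℤ_[ℓ] (M ⧸ LinearMap.range f)) =
      Nat.card (LinearMap.ker E ⧸ LinearMap.range h.g) := by
  rw [← h.range_φ, ← h.ker_φ]
  exact (Nat.card_congr (LinearMap.quotKerEquivRange (φ E f)).toEquiv).symm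

theorem range_E : LinearMap.range E = LinearMap.ker f := by
  ext x
  constructor
  · rintro ⟨y, rfl⟩
    exact h.f_E_apply y
  · intro hx
    exact ⟨x, h.fix x hx⟩

theorem finrank_ker :
    Module.finrank ℤ_[ℓ] (LinearMap.ker E) =
      Module.finrank ℤ_[ℓ] M - Module.finrank ℤ_[ℓ] (LinearMap.ker f) := by
  have h1 : Module.finrank ℤ_[ℓ] (LinearMap.range E) + Module.finrank ℤ_[ℓ] (LinearMap.ker E) =
      Module.finrank ℤ_[ℓ] M := by
    rw [← E.quotKerEquivRange.finrank_eq]
    exact Submodule.finrank_quotient_add_finrank _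
  rw [h.range_E] at h1
  omega

end Decomp

end decomp

section cases

variable {M : Type u} [AddCommGroup M] [Module ℤ_[ℓ] M] [Module.Free ℤ_[ℓ] M]
  [Module.Finite ℤ_[ℓ] M]

/-- `End M` is torsion-free -/
theorem end_smul_eq_zero {a : ℤ_[ℓ]} (ha : a ≠ 0) {X : Module.End ℤ_[ℓ] M} (h : a • X = 0) :
    X = 0 := by
  ext x
  have := LinearMap.congr_fun h x
  simp only [LinearMap.smul_apply, LinearMap.zero_apply] at this
  exact (smul_eq_zero_iff_right ha).1 this

theorem natCast_mul_eq_smul (n : ℕ) (X : Module.End ℤ_[ℓ] M) :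
    (n : Module.End ℤ_[ℓ] M) * X = (n : ℤ_[ℓ]) • X := by
  rw [Nat.cast_smul_eq_nsmul, nsmul_eq_mul]

theorem natCast_mul_eq_zero {n : ℕ} (hn : n ≠ 0) {X : Module.End ℤ_[ℓ] M}
    (h : (n : Module.End ℤ_[ℓ] M) * X = 0) : X = 0 := by
  rw [natCast_mul_eq_smul] at h
  exact end_smul_eq_zero (by exact_mod_cast hn) h

theorem natCast_apply (n : ℕ) (x : M) : (n : Module.End ℤ_[ℓ] M) x = (n : ℤ_[ℓ]) • x := by
  have h := natCast_mul_eq_smul (ℓ := ℓ) n (1 : Module.End ℤ_[ℓ] M)
  rw [mul_one] at h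
  rw [h, LinearMap.smul_apply, Module.End.one_apply]

theorem coe_pow_eq_one (A : M ≃ₗ[ℤ_[ℓ]] M) (n : ℕ) (hA : A ^ n = 1) :
    ((A : M →ₗ[ℤ_[ℓ]] M) : Module.End ℤ_[ℓ] M) ^ n = 1 := by
  have h := congrArg (LinearEquiv.automorphismGroup.toLinearMapMonoidHom (R := ℤ_[ℓ]) (M := M)) hA
  rw [map_pow, map_one] at h
  exact h

end cases

section two

variable [hp : Fact (Nat.Prime 2)] {M : Type u} [AddCommGroup M] [Module ℤ_[2] M]
  [Module.Free ℤ_[2] M] [Module.Finite ℤ_[2] M]

theorem case_two (f B : Module.End ℤ_[2] M) (hsq : (1 + f) ^ 2 = 1)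
    (hB : f = (2 : ℤ_[2]) • B) (c : ℕ)
    (hc : c = Module.finrank ℤ_[2] M - Module.finrank ℤ_[2] (LinearMap.ker f)) :
    (∀ x ∈ Submodule.torsion ℤ_[2] (M ⧸ LinearMap.range f), ((2 : ℕ) : ℤ_[2]) • x = 0) ∧
      ∃ r : ℕ, r * (2 - 1) = c ∧
        Nat.card (Submodule.torsion ℤ_[2] (M ⧸ LinearMap.range f)) = 2 ^ r := by
  have hB' : f = 2 * B := by
    rw [hB, ← Nat.cast_ofNat (R := ℤ_[2]), ← natCast_mul_eq_smul, Nat.cast_ofNat]
  have h4 : (4 : Module.End ℤ_[2] M) * (B + B * B) = 0 := by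
    have : (4 : Module.End ℤ_[2] M) * (B + B * B) = (1 + 2 * B) ^ 2 - 1 := by noncomm_ring
    rw [this, ← hB', hsq, sub_self]
  have hBB : B + B * B = 0 := by
    rw [← Nat.cast_ofNat (R := Module.End ℤ_[2] M)] at h4
    exact natCast_mul_eq_zero (by norm_num) h4
  have hBx : ∀ x, B (B x) = -B x := by
    intro x
    have := LinearMap.congr_fun hBB x
    simp only [LinearMap.add_apply, Module.End.mul_apply, LinearMap.zero_apply] at this
    exact (eq_neg_of_add_eq_zero_right this)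
  have hfx : ∀ x, f x = ((2 : ℕ) : ℤ_[2]) • B x := by
    intro x
    rw [hB, LinearMap.smul_apply, Nat.cast_ofNat]
  have h2 : ((2 : ℕ) : ℤ_[2]) ≠ 0 := by norm_num
  have D : Decomp (ℓ := 2) (1 + B) f := by
    refine ⟨?_, ?_, ?_, ?_, ?_⟩
    · have : (1 + B) * (1 + B) = 1 + B + (B + B * B) := by noncomm_ring
      rw [this, hBB, add_zero]
    · have : f * (1 + B) = 2 * (B + B * B) := by rw [hB']; noncomm_ring
      rw [this, hBB, mul_zero]
    · have : (1 + B) * f = 2 * (B + B * B) := by rw [hB']; noncomm_ring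
      rw [this, hBB, mul_zero]
    · intro x hx
      have hx' : B x = -x := by
        simp only [LinearMap.add_apply, Module.End.one_apply] at hx
        exact (eq_neg_of_add_eq_zero_right hx)
      refine ⟨-x, ?_, ?_⟩
      · rw [map_neg, hx, neg_zero]
      · rw [hfx, map_neg, hx', neg_neg]
    · intro x hx
      rw [hfx] at hx
      have : B x = 0 := (smul_eq_zero_iff_right h2).1 hx
      simp only [LinearMap.add_apply, Module.End.one_apply, this, add_zero]
  refine ⟨D.torsion_killed, Module.finrank ℤ_[2] (LinearMap.ker (1 + B)), ?_, ?_⟩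
  · rw [D.finrank_ker, hc]; simp
  · rw [D.card_torsion]
    have hrange : LinearMap.range D.g =
        LinearMap.range (((2 : ℕ) : ℤ_[2]) • (LinearMap.id : LinearMap.ker (1 + B) →ₗ[ℤ_[2]] _)) := by
      have hk : ∀ k : LinearMap.ker (1 + B), f (k : M) = -(((2 : ℕ) : ℤ_[2]) • (k : M)) := by
        intro k
        have hx : (1 + B) (k : M) = 0 := k.2
        have hx' : B (k : M) = -(k : M) := by
          simp only [LinearMap.add_apply, Module.End.one_apply] at hx
          exact (eq_neg_of_add_eq_zero_right hx)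
        rw [hfx, hx', smul_neg]
      ext k
      constructor
      · rintro ⟨k', rfl⟩
        refine ⟨-k', ?_⟩
        apply Subtype.ext
        rw [Decomp.g_coe, hk]
        simp
      · rintro ⟨k', rfl⟩
        refine ⟨-k', ?_⟩
        apply Subtype.ext
        rw [Decomp.g_coe]
        have := hk (-k')
        simp only [NegMemClass.coe_neg, smul_neg, neg_neg] at this
        rw [NegMemClass.coe_neg, this]
        simp
    rw [hrange]
    haveI : IsNoetherian ℤ_[2] M := isNoetherian_of_isNoetherianRing_of_finite ℤ_[2] M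
    exact card_quot_smul (ℓ := 2) (LinearMap.ker (1 + B))

end two

section three

variable [hp : Fact (Nat.Prime 3)] {M : Type u} [AddCommGroup M] [Module ℤ_[3] M]
  [Module.Free ℤ_[3] M] [Module.Finite ℤ_[3] M]

theorem case_three (f B : Module.End ℤ_[3] M) (hcube : (1 + f) ^ 3 = 1)
    (hB : f ^ 2 = (3 : ℤ_[3]) • B) (c : ℕ)
    (hc : c = Module.finrank ℤ_[3] M - Module.finrank ℤ_[3] (LinearMap.ker f)) :
    (∀ x ∈ Submodule.torsion ℤ_[3] (M ⧸ LinearMap.range f), ((3 : ℕ) : ℤ_[3]) • x = 0) ∧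
      ∃ r : ℕ, r * (3 - 1) = c ∧
        Nat.card (Submodule.torsion ℤ_[3] (M ⧸ LinearMap.range f)) = 3 ^ r := by
  have hB' : f * f = 3 * B := by
    rw [← pow_two, hB, ← Nat.cast_ofNat (R := ℤ_[3]), ← natCast_mul_eq_smul, Nat.cast_ofNat]
  have hcube' : (1 + f) * (1 + f) * (1 + f) = 1 := by
    have : (1 + f) * (1 + f) * (1 + f) = (1 + f) ^ 3 := by noncomm_ring
    rw [this, hcube]
  have div3 : ∀ X : Module.End ℤ_[3] M, 3 * X = 0 → X = 0 := by
    intro X hX
    rw [← Nat.cast_ofNat (R := Module.End ℤ_[3] M)] at hX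
    exact natCast_mul_eq_zero (by norm_num) hX
  have hEN : 3 * (1 + f + B) = 3 + 3 * f + f * f := by
    rw [hB', mul_add, mul_add, mul_one]
  have hfN : f * (3 + 3 * f + f * f) = 0 := by
    have : f * (3 + 3 * f + f * f) = (1 + f) * (1 + f) * (1 + f) - 1 := by noncomm_ring
    rw [this, hcube', sub_self]
  have hNf : (3 + 3 * f + f * f) * f = 0 := by
    have : (3 + 3 * f + f * f) * f = (1 + f) * (1 + f) * (1 + f) - 1 := by noncomm_ring
    rw [this, hcube', sub_self]
  have hidem : (1 + f + B) * (1 + f + B) = 1 + f + B := by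
    rw [← sub_eq_zero]
    apply div3
    apply div3
    have e1 : 3 * (3 * ((1 + f + B) * (1 + f + B) - (1 + f + B))) =
        (3 * (1 + f + B)) * (3 * (1 + f + B)) - 3 * (3 * (1 + f + B)) := by noncomm_ring
    have e2 : (3 + 3 * f + f * f) * (3 + 3 * f + f * f) - 3 * (3 + 3 * f + f * f) =
        ((3 + 3 * f + f * f) * f) * (3 + f) := by noncomm_ring
    rw [e1, hEN, e2, hNf, zero_mul]
  have hfE : f * (1 + f + B) = 0 := by
    apply div3
    have e1 : 3 * (f * (1 + f + B)) = f * (3 * (1 + f + B)) := by noncomm_ring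
    rw [e1, hEN, hfN]
  have hEf : (1 + f + B) * f = 0 := by
    apply div3
    have e1 : 3 * ((1 + f + B) * f) = (3 * (1 + f + B)) * f := by noncomm_ring
    rw [e1, hEN, hNf]
  have hid : f * f * ((1 + f) * (1 + f)) + 3 = 3 * (1 + f + B) := by
    have e1 : f * f * ((1 + f) * (1 + f)) + 3 =
        ((1 + f) * (1 + f) * (1 + f) - 1) * (1 + f) - 2 * ((1 + f) * (1 + f) * (1 + f) - 1)
          + (3 + 3 * f + f * f) := by noncomm_ring
    rw [e1, hcube', sub_self, zero_mul, mul_zero, sub_zero, zero_add, hEN]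
  have h3 : ((3 : ℕ) : ℤ_[3]) ≠ 0 := by norm_num
  have three_apply : ∀ x : M, (3 : Module.End ℤ_[3] M) x = ((3 : ℕ) : ℤ_[3]) • x := by
    intro x
    rw [← natCast_apply (ℓ := 3) 3 x, Nat.cast_ofNat]
  -- `3 E x = 3x + 3 f x + f (f x)`
  have hENx : ∀ x : M, ((3 : ℕ) : ℤ_[3]) • (1 + f + B) x =
      ((3 : ℕ) : ℤ_[3]) • x + ((3 : ℕ) : ℤ_[3]) • f x + f (f x) := by
    intro x
    have := LinearMap.congr_fun hEN x
    simpa only [Module.End.mul_apply, LinearMap.add_apply, three_apply, Module.End.one_apply]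
      using this
  have hidx : ∀ x : M, f (f (x + f x + f (x + f x))) + ((3 : ℕ) : ℤ_[3]) • x =
      ((3 : ℕ) : ℤ_[3]) • (1 + f + B) x := by
    intro x
    have := LinearMap.congr_fun hid x
    simpa only [Module.End.mul_apply, LinearMap.add_apply, three_apply, Module.End.one_apply]
      using this
  have D : Decomp (ℓ := 3) (1 + f + B) f := by
    refine ⟨hidem, hfE, hEf, ?_, ?_⟩
    · intro x hx
      refine ⟨-f (x + f x + f (x + f x)), ?_, ?_⟩
      · rw [map_neg]
        have := LinearMap.congr_fun hEf (x + f x + f (x + f x))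
        rw [Module.End.mul_apply, LinearMap.zero_apply] at this
        rw [this, neg_zero]
      · have := hidx x
        rw [hx, smul_zero] at this
        rw [map_neg]
        exact (eq_neg_of_add_eq_zero_right this)
    · intro x hx
      have := hENx x
      rw [hx, map_zero, smul_zero, add_zero, add_zero] at this
      exact (smul_right_injective M h3) this
  haveI : IsNoetherian ℤ_[3] M := isNoetherian_of_isNoetherianRing_of_finite ℤ_[3] M
  -- the index computation
  have hsq : LinearMap.range (D.g ∘ₗ D.g) =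
      LinearMap.range (((3 : ℕ) : ℤ_[3]) • (LinearMap.id : LinearMap.ker (1 + f + B) →ₗ[ℤ_[3]] _)) := by
    ext k
    constructor
    · rintro ⟨k', rfl⟩
      -- `f (f k') = -3 (k' + f k')`
      have hk' : (1 + f + B) (k' : M) = 0 := k'.2
      have e1 := hENx (k' : M)
      rw [hk', smul_zero] at e1
      have hmem : -((k' : M) + f (k' : M)) ∈ LinearMap.ker (1 + f + B) := by
        rw [LinearMap.mem_ker, map_neg, map_add, hk', D.E_f_apply, add_zero, neg_zero]
      refine ⟨⟨_, hmem⟩, ?_⟩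
      apply Subtype.ext
      show ((3 : ℕ) : ℤ_[3]) • (-((k' : M) + f (k' : M))) = f (f (k' : M))
      rw [smul_neg, smul_add, neg_eq_iff_eq_neg]
      exact (eq_neg_of_add_eq_zero_left e1.symm)
    · rintro ⟨k', rfl⟩
      have hk' : (1 + f + B) (k' : M) = 0 := k'.2
      have e1 := hidx (k' : M)
      rw [hk', smul_zero] at e1
      -- `3 k' = f (f (-z))`, `z = k' + f k' + f (k' + f k')`
      set z : M := (k' : M) + f (k' : M) + f ((k' : M) + f (k' : M)) with hz
      have hw : -z - (1 + f + B) (-z) ∈ LinearMap.ker (1 + f + B) := by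
        rw [LinearMap.mem_ker, map_sub, D.E_E_apply, sub_self]
      refine ⟨⟨_, hw⟩, ?_⟩
      apply Subtype.ext
      show f (f (-z - (1 + f + B) (-z))) = ((3 : ℕ) : ℤ_[3]) • (k' : M)
      rw [map_sub, D.f_E_apply, sub_zero, map_neg, map_neg]
      exact (neg_eq_of_add_eq_zero_right e1)
  have hcard : Nat.card (LinearMap.ker (1 + f + B) ⧸ LinearMap.range D.g) *
      Nat.card (LinearMap.ker (1 + f + B) ⧸ LinearMap.range D.g) =
      3 ^ Module.finrank ℤ_[3] (LinearMap.ker (1 + f + B)) := by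
    rw [← card_quot_smul (ℓ := 3) (LinearMap.ker (1 + f + B)), ← hsq]
    have := index_range_comp_self D.g.toAddMonoidHom D.g_injective
    rw [AddSubgroup.index_eq_card, AddSubgroup.index_eq_card] at this
    exact this.symm
  obtain ⟨r, -, hr⟩ := (Nat.dvd_prime_pow Nat.prime_three).1 (Dvd.intro _ hcard)
  refine ⟨D.torsion_killed, r, ?_, ?_⟩
  · rw [hr, ← pow_add] at hcard
    have := Nat.pow_right_injective (by norm_num : 2 ≤ 3) hcard
    rw [hc, ← D.finrank_ker]
    omega
  · rw [D.card_torsion, hr]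

end three

end Groth.Agent.Lib.Seat91.PadicTors
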