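import Mathlib
import Groth.Prelude.Def_DeRham

/-!
# The formal Poincaré lemma for `k[[σ]]` (seat 91)

Namespace `Groth.Agent.Lib.Seat91.Poincare`.

`A = k[[σ]]`, `M = σ → A` with basis `e i`.  For any family `d` satisfying the de Rham rule for the derivation
`δ f = (∂_i f)_i` we have `d (f • e_I) = ∑_j ∂_j f • e_{j :: I}`, and the Euler homotopy `h = T ∘ ι_E`
(`ι_E` contraction with `∑ x_i ∂_i`, `T` dividing the coefficient of `x^b e_I` by `|b| + |I|`) satisfies
`d h + h d = 1` in positive degrees.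
-/

set_option autoImplicit false
set_option linter.style.haveILetI false
set_option linter.unusedSectionVars false

universe u

open exteriorPower

namespace Groth.Agent.Lib.Seat91.Poincare

section series

variable {k : Type u} [Field k] [CharZero k] {σ : Type u}

/-- divide the coefficient of `x^b` by `|b| + q` -/
noncomputable def T (q : ℕ) : MvPowerSeries σ k →ₗ[k] MvPowerSeries σ k where
  toFun f := fun b => MvPowerSeries.coeff b f / ((Finsupp.degree b : ℕ) + q : k)
  map_add' f g := by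
    ext b
    show (MvPowerSeries.coeff b (f + g)) / _ = MvPowerSeries.coeff b f / _ + MvPowerSeries.coeff b g / _
    rw [map_add, add_div]
  map_smul' c f := by
    ext b
    show (MvPowerSeries.coeff b (c • f)) / _ = c • (MvPowerSeries.coeff b f / _)
    rw [map_smul, smul_eq_mul, smul_eq_mul, mul_div_assoc]

theorem coeff_T (q : ℕ) (f : MvPowerSeries σ k) (b : σ →₀ ℕ) :
    MvPowerSeries.coeff b (T q f) = MvPowerSeries.coeff b f / ((Finsupp.degree b : ℕ) + q : k) := rfl

/-- `∂_j ∘ T_q = T_{q+1} ∘ ∂_j` -/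
theorem pderiv_T (q : ℕ) (j : σ) (f : MvPowerSeries σ k) :
    MvPowerSeries.pderiv k j (T q f) = T (q + 1) (MvPowerSeries.pderiv k j f) := by
  ext b
  rw [MvPowerSeries.coeff_pderiv, coeff_T, coeff_T, MvPowerSeries.coeff_pderiv]
  have : Finsupp.degree (b + Finsupp.single j 1) = Finsupp.degree b + 1 := by
    rw [map_add, Finsupp.degree_single]
  rw [this]
  push_cast
  ring

theorem coeff_X_mul_pderiv (j : σ) (f : MvPowerSeries σ k) (b : σ →₀ ℕ) :
    MvPowerSeries.coeff b (MvPowerSeries.X j * MvPowerSeries.pderiv k j f) =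
      (b j : k) * MvPowerSeries.coeff b f := by
  classical
  rw [MvPowerSeries.X_def, MvPowerSeries.coeff_monomial_mul]
  split_ifs with h
  · rw [MvPowerSeries.coeff_pderiv, one_mul, tsub_add_cancel_of_le h]
    have h1 : 1 ≤ b j := by
      have := h j
      simpa using this
    have h2 : (((b - Finsupp.single j 1 : σ →₀ ℕ) j : ℕ) : k) + 1 = (b j : k) := by
      rw [Finsupp.tsub_apply, Finsupp.single_eq_same]
      have : ((b j - 1 : ℕ) : k) + 1 = ((b j - 1 + 1 : ℕ) : k) := by push_cast; ring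
      rw [this, Nat.sub_add_cancel h1]
    rw [h2, mul_comm]
  · have h1 : b j = 0 := by
      by_contra h0
      apply h
      intro i
      by_cases hij : i = j
      · subst hij
        rw [Finsupp.single_eq_same]
        omega
      · rw [Finsupp.single_eq_of_ne hij]
        exact Nat.zero_le _
    rw [h1, Nat.cast_zero, zero_mul]

/-- `T_q (∑_j x_j ∂_j f) + q T_q f = f` for `q ≥ 1` -/
theorem T_euler [Fintype σ] (q : ℕ) (hq : 1 ≤ q) (f : MvPowerSeries σ k) :
    T q (∑ j, MvPowerSeries.X j * MvPowerSeries.pderiv k j f) + (q : k) • T q f = f := by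
  ext b
  rw [map_add, map_smul, coeff_T, coeff_T, map_sum]
  simp only [coeff_X_mul_pderiv]
  rw [← Finset.sum_mul, smul_eq_mul]
  have h1 : (∑ i, (b i : k)) = ((Finsupp.degree b : ℕ) : k) := by
    rw [Finsupp.degree_eq_sum]
    push_cast
    rfl
  rw [h1]
  have h2 : ((Finsupp.degree b : ℕ) : k) + (q : k) ≠ 0 := by
    have : ((Finsupp.degree b + q : ℕ) : k) ≠ 0 := by
      apply Nat.cast_ne_zero.2
      omega
    simpa using this
  field_simp

end series

section forms

variable {k : Type u} [Field k] [CharZero k] {σ : Type u} [Fintype σ] [LinearOrder σ]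

/-- the wedge `e_{I 0} ∧ … ∧ e_{I (q-1)}` of standard basis vectors -/
noncomputable def eI (k : Type u) [Field k] (q : ℕ) (I : Fin q → σ) :
    ↥(⋀[MvPowerSeries σ k]^q (σ → MvPowerSeries σ k)) :=
  ιMulti (MvPowerSeries σ k) q (fun m => (Pi.single (I m) 1 : σ → MvPowerSeries σ k))

/-- the basis of `⋀^q M` -/
noncomputable def bas (k : Type u) [Field k] (σ : Type u) [Fintype σ] [LinearOrder σ] (q : ℕ) :
    Module.Basis (Set.powersetCard σ q) (MvPowerSeries σ k)
      ↥(⋀[MvPowerSeries σ k]^q (σ → MvPowerSeries σ k)) :=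
  (Pi.basisFun (MvPowerSeries σ k) σ).exteriorPower q

theorem bas_apply (q : ℕ) (S : Set.powersetCard σ q) :
    bas k σ q S = eI k q (fun m => Set.powersetCard.ofFinEmbEquiv.symm S m) := by
  rw [bas, exteriorPower.basis_apply, ιMulti_family, eI]
  congr 1
  funext m
  simp [Pi.basisFun_apply]

/-- induction principle: two `k`-linear maps agreeing on all `f • e_I` are equal -/
theorem ext_eI {N : Type*} [AddCommGroup N] [Module k N] {q : ℕ}
    {L₁ L₂ : ↥(⋀[MvPowerSeries σ k]^q (σ → MvPowerSeries σ k)) →ₗ[k] N}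
    (h : ∀ (f : MvPowerSeries σ k) (I : Fin q → σ), L₁ (f • eI k q I) = L₂ (f • eI k q I)) :
    L₁ = L₂ := by
  ext ω
  rw [← (bas k σ q).linearCombination_repr ω, Finsupp.linearCombination_apply, Finsupp.sum,
    map_sum, map_sum]
  refine Finset.sum_congr rfl fun S _ => ?_
  rw [bas_apply]
  exact h _ _

section rule

variable (δ : Derivation k (MvPowerSeries σ k) (σ → MvPowerSeries σ k))
  (hδ : ∀ (f : MvPowerSeries σ k) (i : σ), δ f i = MvPowerSeries.pderiv k i f)
  (d : ∀ p : ℕ, ↥(⋀[MvPowerSeries σ k]^p (σ → MvPowerSeries σ k)) →ₗ[k]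
      ↥(⋀[MvPowerSeries σ k]^(p + 1) (σ → MvPowerSeries σ k)))

include hδ in
theorem δ_X (i : σ) : δ (MvPowerSeries.X i) = (Pi.single i 1 : σ → MvPowerSeries σ k) := by
  funext j
  rw [hδ, MvPowerSeries.pderiv_X]
  simp [Pi.single_apply, eq_comm]

include hδ in
theorem δ_eq_sum (f : MvPowerSeries σ k) :
    δ f = ∑ j, MvPowerSeries.pderiv k j f • (Pi.single j 1 : σ → MvPowerSeries σ k) := by
  funext i
  rw [hδ, Finset.sum_apply]
  simp [Pi.single_apply]

/-- `x ↦ x ∧ v₁ ∧ … ∧ v_q` as a linear map -/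
noncomputable def consLin (q : ℕ) (v : Fin q → (σ → MvPowerSeries σ k)) :
    (σ → MvPowerSeries σ k) →ₗ[MvPowerSeries σ k]
      ↥(⋀[MvPowerSeries σ k]^(q + 1) (σ → MvPowerSeries σ k)) where
  toFun x := ιMulti (MvPowerSeries σ k) (q + 1) (Fin.cons x v)
  map_add' x y := (ιMulti (MvPowerSeries σ k) (q + 1)).toMultilinearMap.cons_add v x y
  map_smul' c x := (ιMulti (MvPowerSeries σ k) (q + 1)).toMultilinearMap.cons_smul v c x

include hδ in
/-- the de Rham rule on the generators `f • e_I` -/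
theorem d_smul_eI (hd : DeRham.IsRule δ d) (q : ℕ) (f : MvPowerSeries σ k) (I : Fin q → σ) :
    d q (f • eI k q I) = ∑ j, MvPowerSeries.pderiv k j f • eI k (q + 1) (Fin.cons j I) := by
  have h1 := hd q f (fun m => MvPowerSeries.X (I m))
  unfold DeRham.gen at h1
  simp only [δ_X δ hδ] at h1
  rw [eI, h1, δ_eq_sum δ hδ f]
  have h2 : ∀ x : σ → MvPowerSeries σ k,
      ιMulti (MvPowerSeries σ k) (q + 1)
        (Fin.cons x (fun i => (Pi.single (I i) 1 : σ → MvPowerSeries σ k))) =
      consLin q (fun i => (Pi.single (I i) 1 : σ → MvPowerSeries σ k)) x := fun x => rfl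
  rw [h2, map_sum]
  refine Finset.sum_congr rfl fun j _ => ?_
  rw [map_smul, ← h2, eI]
  congr 2
  funext m
  refine Fin.cases ?_ (fun m' => ?_) m
  · simp
  · simp

end rule

section contraction

/-- the linear form `v ↦ ∑ x_i v_i` (pairing with the Euler vector field) -/
noncomputable def φE (k : Type u) [Field k] (σ : Type u) [Fintype σ] :
    (σ → MvPowerSeries σ k) →ₗ[MvPowerSeries σ k] MvPowerSeries σ k :=
  ∑ i, (MvPowerSeries.X i : MvPowerSeries σ k) • LinearMap.proj i

theorem φE_single (i : σ) :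
    φE k σ (Pi.single i 1 : σ → MvPowerSeries σ k) = MvPowerSeries.X i := by
  simp [φE, Pi.single_apply]

/-- contraction with the Euler vector field -/
noncomputable def iE (k : Type u) [Field k] (σ : Type u) [Fintype σ] (q : ℕ) :
    ↥(⋀[MvPowerSeries σ k]^(q + 1) (σ → MvPowerSeries σ k)) →ₗ[MvPowerSeries σ k]
      ↥(⋀[MvPowerSeries σ k]^q (σ → MvPowerSeries σ k)) :=
  alternatingMapLinearEquiv
    (AlternatingMap.alternatizeUncurryFin ((φE k σ).smulRight (ιMulti (MvPowerSeries σ k) q)))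

theorem iE_eI (q : ℕ) (I : Fin (q + 1) → σ) :
    iE k σ q (eI k (q + 1) I) =
      ∑ m : Fin (q + 1), (-1 : ℤ) ^ (m : ℕ) •
        ((MvPowerSeries.X (I m) : MvPowerSeries σ k) • eI k q (Fin.removeNth m I)) := by
  rw [iE, eI, alternatingMapLinearEquiv_apply_ιMulti, AlternatingMap.alternatizeUncurryFin_apply]
  refine Finset.sum_congr rfl fun m _ => ?_
  rw [LinearMap.smulRight_apply, AlternatingMap.smul_apply, φE_single]
  rfl

end contraction

section Tforms

/-- the operator `T q` applied coefficientwise (w.r.t. the standard basis) to `q`-forms -/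
noncomputable def Tf (k : Type u) [Field k] [CharZero k] (σ : Type u) [Fintype σ] [LinearOrder σ]
    (q : ℕ) :
    ↥(⋀[MvPowerSeries σ k]^q (σ → MvPowerSeries σ k)) →ₗ[k]
      ↥(⋀[MvPowerSeries σ k]^q (σ → MvPowerSeries σ k)) :=
  ((bas k σ q).repr.symm.restrictScalars k).toLinearMap ∘ₗ
    Finsupp.mapRange.linearMap (T q) ∘ₗ ((bas k σ q).repr.restrictScalars k).toLinearMap

/-- the coordinates of `e_I` are constants -/
theorem repr_eI_const (q : ℕ) (I : Fin q → σ) (S : Set.powersetCard σ q) :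
    ∃ c : k, (bas k σ q).repr (eI k q I) S = MvPowerSeries.C c := by
  rw [bas, exteriorPower.basis_repr_apply, eI, ιMultiDual_apply_ιMulti]
  refine ⟨(Matrix.of fun i j : Fin q =>
    if Set.powersetCard.ofFinEmbEquiv.symm S j = I i then (1 : k) else 0).det, ?_⟩
  rw [RingHom.map_det]
  congr 1
  refine Matrix.ext fun i j => ?_
  by_cases h : Set.powersetCard.ofFinEmbEquiv.symm S j = I i
  · simp [h]
  · simp [h, Pi.single_apply]

theorem Tf_smul_eI (q : ℕ) (f : MvPowerSeries σ k) (I : Fin q → σ) :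
    Tf k σ q (f • eI k q I) = T q f • eI k q I := by
  have hv := repr_eI_const (k := k) q I
  have h1 : Finsupp.mapRange.linearMap (T q) ((bas k σ q).repr (f • eI k q I)) =
      T q f • (bas k σ q).repr (eI k q I) := by
    ext S
    obtain ⟨c, hc⟩ := hv S
    rw [Finsupp.mapRange.linearMap_apply, Finsupp.mapRange_apply, map_smul, Finsupp.smul_apply,
      Finsupp.smul_apply, hc, smul_eq_mul, smul_eq_mul, mul_comm f, ← MvPowerSeries.smul_eq_C_mul,
      map_smul, MvPowerSeries.smul_eq_C_mul, mul_comm]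
  show (bas k σ q).repr.symm (Finsupp.mapRange.linearMap (T q) ((bas k σ q).repr (f • eI k q I))) = _
  rw [h1, map_smul, Module.Basis.repr_symm_apply, Module.Basis.linearCombination_repr]

end Tforms

section homotopy

/-- the Euler homotopy `T ∘ ι_E` -/
noncomputable def hE (k : Type u) [Field k] [CharZero k] (σ : Type u) [Fintype σ] [LinearOrder σ]
    (q : ℕ) :
    ↥(⋀[MvPowerSeries σ k]^(q + 1) (σ → MvPowerSeries σ k)) →ₗ[k]
      ↥(⋀[MvPowerSeries σ k]^q (σ → MvPowerSeries σ k)) :=
  Tf k σ q ∘ₗ (iE k σ q).restrictScalars k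

theorem hE_smul_eI (q : ℕ) (f : MvPowerSeries σ k) (I : Fin (q + 1) → σ) :
    hE k σ q (f • eI k (q + 1) I) =
      ∑ m : Fin (q + 1), (-1 : ℤ) ^ (m : ℕ) •
        (T q (f * MvPowerSeries.X (I m)) • eI k q (Fin.removeNth m I)) := by
  show Tf k σ q (iE k σ q (f • eI k (q + 1) I)) = _
  rw [map_smul, iE_eI, Finset.smul_sum, map_sum]
  refine Finset.sum_congr rfl fun m _ => ?_
  rw [smul_comm f, map_zsmul, smul_smul, Tf_smul_eI]

theorem removeNth_succ_cons {α : Type*} {n : ℕ} (m : Fin (n + 1)) (j : α) (I : Fin (n + 1) → α) :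
    Fin.removeNth (Fin.succ m) (Fin.cons j I : Fin (n + 2) → α) =
      Fin.cons j (Fin.removeNth m I) := by
  funext l
  refine Fin.cases ?_ (fun l' => ?_) l
  · simp [Fin.removeNth]
  · simp [Fin.removeNth]

/-- the sign lemma `e_{I m :: I∖m} = (-1)^m e_I` -/
theorem eI_cons_removeNth (q : ℕ) (I : Fin (q + 1) → σ) (m : Fin (q + 1)) :
    eI k (q + 1) (Fin.cons (I m) (Fin.removeNth m I)) = (-1 : ℤ) ^ (m : ℕ) • eI k (q + 1) I := by
  have h := AlternatingMap.neg_one_pow_smul_map_insertNth (ιMulti (MvPowerSeries σ k) (q + 1)) m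
    (Pi.single (I m) 1 : σ → MvPowerSeries σ k)
    (fun l => (Pi.single (Fin.removeNth m I l) 1 : σ → MvPowerSeries σ k))
  have h1 : m.insertNth (Pi.single (I m) 1 : σ → MvPowerSeries σ k)
      (fun l => (Pi.single (Fin.removeNth m I l) 1 : σ → MvPowerSeries σ k)) =
      fun l => (Pi.single (I l) 1 : σ → MvPowerSeries σ k) :=
    Fin.insertNth_self_removeNth m (fun l => (Pi.single (I l) 1 : σ → MvPowerSeries σ k))
  rw [h1] at h
  rw [eI, eI, h]
  congr 1
  funext l
  refine Fin.cases ?_ (fun l' => ?_) l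
  · simp
  · simp

end homotopy

section poincare

variable (δ : Derivation k (MvPowerSeries σ k) (σ → MvPowerSeries σ k))
  (hδ : ∀ (f : MvPowerSeries σ k) (i : σ), δ f i = MvPowerSeries.pderiv k i f)
  (d : ∀ p : ℕ, ↥(⋀[MvPowerSeries σ k]^p (σ → MvPowerSeries σ k)) →ₗ[k]
      ↥(⋀[MvPowerSeries σ k]^(p + 1) (σ → MvPowerSeries σ k)))

theorem pderiv_T_mul_X (q : ℕ) (j i : σ) (f : MvPowerSeries σ k) :
    MvPowerSeries.pderiv k j (T q (f * MvPowerSeries.X i)) =
      T (q + 1) (MvPowerSeries.pderiv k j f * MvPowerSeries.X i) +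
        if i = j then T (q + 1) f else 0 := by
  rw [pderiv_T, Derivation.leibniz, MvPowerSeries.pderiv_X, map_add, smul_eq_mul, smul_eq_mul,
    add_comm, mul_comm (MvPowerSeries.X i)]
  congr 1
  rw [Pi.single_apply]
  split_ifs with h
  · rw [mul_one]
  · rw [mul_zero, map_zero]

include hδ in
theorem d_hE_smul_eI (hd : DeRham.IsRule δ d) (q : ℕ) (f : MvPowerSeries σ k)
    (I : Fin (q + 1) → σ) :
    d q (hE k σ q (f • eI k (q + 1) I)) =
      ∑ m : Fin (q + 1), ∑ j : σ, (-1 : ℤ) ^ (m : ℕ) •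
        ((T (q + 1) (MvPowerSeries.pderiv k j f * MvPowerSeries.X (I m)) +
          if I m = j then T (q + 1) f else 0) • eI k (q + 1) (Fin.cons j (Fin.removeNth m I))) := by
  rw [hE_smul_eI, map_sum]
  refine Finset.sum_congr rfl fun m _ => ?_
  rw [map_zsmul, d_smul_eI δ hδ d hd, Finset.smul_sum]
  refine Finset.sum_congr rfl fun j _ => ?_
  rw [pderiv_T_mul_X]

include hδ in
theorem hE_d_smul_eI (hd : DeRham.IsRule δ d) (q : ℕ) (f : MvPowerSeries σ k)
    (I : Fin (q + 1) → σ) :
    hE k σ (q + 1) (d (q + 1) (f • eI k (q + 1) I)) =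
      ∑ j : σ, (T (q + 1) (MvPowerSeries.pderiv k j f * MvPowerSeries.X j) • eI k (q + 1) I +
        ∑ m : Fin (q + 1), (-1 : ℤ) ^ ((m : ℕ) + 1) •
          (T (q + 1) (MvPowerSeries.pderiv k j f * MvPowerSeries.X (I m)) •
            eI k (q + 1) (Fin.cons j (Fin.removeNth m I)))) := by
  rw [d_smul_eI δ hδ d hd, map_sum]
  refine Finset.sum_congr rfl fun j _ => ?_
  rw [hE_smul_eI, Fin.sum_univ_succ]
  congr 1
  · simp
  · refine Finset.sum_congr rfl fun m _ => ?_
    rw [Fin.val_succ, Fin.cons_succ, removeNth_succ_cons]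

include hδ in
/-- the homotopy formula on generators -/
theorem homotopy_smul_eI (hd : DeRham.IsRule δ d) (q : ℕ) (f : MvPowerSeries σ k)
    (I : Fin (q + 1) → σ) :
    d q (hE k σ q (f • eI k (q + 1) I)) + hE k σ (q + 1) (d (q + 1) (f • eI k (q + 1) I)) =
      f • eI k (q + 1) I := by
  rw [d_hE_smul_eI δ hδ d hd, hE_d_smul_eI δ hδ d hd, Finset.sum_comm, ← Finset.sum_add_distrib]
  -- now a sum over `j`
  have key : ∀ j : σ,
      (∑ m : Fin (q + 1), (-1 : ℤ) ^ (m : ℕ) •
        ((T (q + 1) (MvPowerSeries.pderiv k j f * MvPowerSeries.X (I m)) +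
          if I m = j then T (q + 1) f else 0) • eI k (q + 1) (Fin.cons j (Fin.removeNth m I)))) +
      (T (q + 1) (MvPowerSeries.pderiv k j f * MvPowerSeries.X j) • eI k (q + 1) I +
        ∑ m : Fin (q + 1), (-1 : ℤ) ^ ((m : ℕ) + 1) •
          (T (q + 1) (MvPowerSeries.pderiv k j f * MvPowerSeries.X (I m)) •
            eI k (q + 1) (Fin.cons j (Fin.removeNth m I)))) =
      T (q + 1) (MvPowerSeries.X j * MvPowerSeries.pderiv k j f) • eI k (q + 1) I +
        ∑ m : Fin (q + 1), (if I m = j then T (q + 1) f • eI k (q + 1) I else 0) := by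
    intro j
    rw [add_left_comm, ← Finset.sum_add_distrib, mul_comm (MvPowerSeries.X j)]
    congr 1
    refine Finset.sum_congr rfl fun m _ => ?_
    rw [add_smul, smul_add, pow_succ, mul_neg_one, neg_smul, add_right_comm, add_neg_cancel,
      zero_add]
    split_ifs with h
    · subst h
      rw [eI_cons_removeNth, smul_comm (T (q + 1) f), smul_smul, ← pow_add, Even.neg_one_pow ⟨_, rfl⟩,
        one_smul]
    · rw [zero_smul, smul_zero]
  rw [Finset.sum_congr rfl fun j _ => key j, Finset.sum_add_distrib, ← Finset.sum_smul,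
    ← map_sum, Finset.sum_comm]
  simp only [Finset.sum_ite_eq, Finset.mem_univ, if_true, Finset.sum_const, Finset.card_univ,
    Fintype.card_fin]
  rw [← smul_assoc, ← add_smul]
  congr 1
  have := T_euler (k := k) (σ := σ) (q + 1) (by omega) f
  rw [Nat.cast_smul_eq_nsmul] at this
  exact this

include hδ in
/-- the homotopy formula `d h + h d = 1` in positive degrees -/
theorem homotopy (hd : DeRham.IsRule δ d) (q : ℕ)
    (ω : ↥(⋀[MvPowerSeries σ k]^(q + 1) (σ → MvPowerSeries σ k))) :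
    d q (hE k σ q ω) + hE k σ (q + 1) (d (q + 1) ω) = ω := by
  have h := ext_eI (L₁ := d q ∘ₗ hE k σ q + hE k σ (q + 1) ∘ₗ d (q + 1)) (L₂ := LinearMap.id)
    (fun f I => by
      simpa using homotopy_smul_eI δ hδ d hd q f I)
  exact LinearMap.congr_fun h ω

include hδ in
/-- the formal Poincaré lemma: closed forms of positive degree are exact -/
theorem poincare (hd : DeRham.IsDiff δ d) (p : ℕ) :
    DeRham.cocycles d (p + 1) ≤ DeRham.coboundaries d (p + 1) := by
  intro ω hω
  have h1 : d (p + 1) ω = 0 := hω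
  have h2 := homotopy δ hδ d hd.1 p ω
  rw [h1, map_zero, add_zero] at h2
  exact ⟨hE k σ p ω, h2⟩

end poincare

end forms

end Groth.Agent.Lib.Seat91.Poincare
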