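import Mathlib

/-!
# The weight coaction on a tensor product of two `ℤ`-graded algebras (seat 91)

Namespace `Groth.Agent.Lib.Seat91.SegreCoact`.

For `ℤ`-graded `k`-algebras `(R, 𝒜)`, `(S, ℬ)` the algebra map `Φ : R ⊗ S → (R ⊗ S)[ℤ]` sending `a ⊗ b`
(`a ∈ 𝒜 m`, `b ∈ ℬ n`) to `(a ⊗ b) t^(m - n)`.
-/

set_option autoImplicit false
set_option linter.unusedSectionVars false

universe u

open scoped TensorProduct

namespace Groth.Agent.Lib.Seat91.SegreCoact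

section coact

variable {k A C : Type*} [CommRing k] [CommRing A] [Algebra k A] [CommRing C] [Algebra k C]
  (𝒜 : ℤ → Submodule k A) [GradedAlgebra 𝒜]

/-- `a ↦ ∑ j(a_n) t^(ε n)` -/
noncomputable def coact (ε : ℤ) (j : A →ₐ[k] C) : A →ₐ[k] AddMonoidAlgebra C ℤ :=
  (DirectSum.toAlgebra k (fun i => 𝒜 i)
    (fun i => (AddMonoidAlgebra.lsingle (R := k) (ε * i)) ∘ₗ j.toLinearMap ∘ₗ (𝒜 i).subtype)
    (by
      simp only [LinearMap.coe_comp, Function.comp_apply, Submodule.coe_subtype, AlgHom.toLinearMap_apply,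
        AddMonoidAlgebra.lsingle_apply, mul_zero]
      rw [AddMonoidAlgebra.one_def]
      congr 1
      exact map_one j)
    (by
      intro i i' ai aj
      simp only [LinearMap.coe_comp, Function.comp_apply, Submodule.coe_subtype, AlgHom.toLinearMap_apply,
        AddMonoidAlgebra.lsingle_apply, AddMonoidAlgebra.single_mul_single]
      rw [mul_add, ← map_mul]
      rfl)).comp
  (DirectSum.decomposeAlgEquiv 𝒜).toAlgHom

theorem coact_of_mem (ε : ℤ) (j : A →ₐ[k] C) {n : ℤ} {a : A} (ha : a ∈ 𝒜 n) :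
    coact 𝒜 ε j a = AddMonoidAlgebra.single (ε * n) (j a) := by
  unfold coact
  rw [AlgHom.comp_apply]
  have h1 : ((DirectSum.decomposeAlgEquiv 𝒜).toAlgHom : A →ₐ[k] _) a = DirectSum.decompose 𝒜 a := rfl
  rw [h1, DirectSum.decompose_of_mem 𝒜 ha, DirectSum.toAlgebra_apply]
  exact DirectSum.toSemiring_of (A := fun i => 𝒜 i) _ _ _ n (⟨a, ha⟩ : 𝒜 n)

end coact

section Phi

variable {k R S : Type*} [CommRing k] [CommRing R] [Algebra k R] [CommRing S] [Algebra k S]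
  (𝒜 : ℤ → Submodule k R) [GradedAlgebra 𝒜] (ℬ : ℤ → Submodule k S) [GradedAlgebra ℬ]

/-- the weight coaction `a ⊗ b ↦ (a ⊗ b) t^(deg a - deg b)` -/
noncomputable def Phi : R ⊗[k] S →ₐ[k] AddMonoidAlgebra (R ⊗[k] S) ℤ :=
  Algebra.TensorProduct.lift (coact 𝒜 1 Algebra.TensorProduct.includeLeft)
    (coact ℬ (-1) Algebra.TensorProduct.includeRight) (fun _ _ => Commute.all _ _)

theorem Phi_tmul_of_mem {m n : ℤ} {a : R} {b : S} (ha : a ∈ 𝒜 m) (hb : b ∈ ℬ n) :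
    Phi 𝒜 ℬ (a ⊗ₜ[k] b) = AddMonoidAlgebra.single (m - n) (a ⊗ₜ[k] b) := by
  rw [Phi, Algebra.TensorProduct.lift_tmul, coact_of_mem 𝒜 1 _ ha, coact_of_mem ℬ (-1) _ hb,
    AddMonoidAlgebra.single_mul_single]
  congr 1
  · ring
  · simp

/-- every element of `R ⊗ S` is a sum of bihomogeneous pure tensors -/
theorem bihom_induction (P : R ⊗[k] S → Prop) (h0 : P 0) (hadd : ∀ x y, P x → P y → P (x + y))
    (hhom : ∀ (m n : ℤ) (a : R) (b : S), a ∈ 𝒜 m → b ∈ ℬ n → P (a ⊗ₜ[k] b)) : ∀ u, P u := by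
  classical
  have hsum : ∀ {ι : Type} (s : Finset ι) (f : ι → R ⊗[k] S), (∀ i ∈ s, P (f i)) → P (∑ i ∈ s, f i) := by
    intro ι s f
    induction s using Finset.induction_on with
    | empty => intro _; simpa using h0
    | insert i s hi ih =>
      intro h
      rw [Finset.sum_insert hi]
      exact hadd _ _ (h i (Finset.mem_insert_self _ _))
        (ih fun j hj => h j (Finset.mem_insert_of_mem hj))
  intro u
  induction u using TensorProduct.induction_on with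
  | zero => exact h0
  | add x y hx hy => exact hadd x y hx hy
  | tmul a b =>
    rw [← DirectSum.sum_support_decompose 𝒜 a, TensorProduct.sum_tmul]
    refine hsum _ _ fun m _ => ?_
    rw [← DirectSum.sum_support_decompose ℬ b, TensorProduct.tmul_sum]
    refine hsum _ _ fun n _ => ?_
    exact hhom m n _ _ (SetLike.coe_mem _) (SetLike.coe_mem _)

/-- the diagonal pieces `R_n ⊗ S_n` -/
def diag (n : ℤ) : Submodule k (R ⊗[k] S) :=
  Submodule.span k {x : R ⊗[k] S | ∃ a ∈ 𝒜 n, ∃ b ∈ ℬ n, x = a ⊗ₜ[k] b}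

theorem Phi_of_mem_diag {n : ℤ} {x : R ⊗[k] S} (hx : x ∈ diag 𝒜 ℬ n) :
    Phi 𝒜 ℬ x = AddMonoidAlgebra.single 0 x := by
  have h : Set.EqOn (Phi 𝒜 ℬ).toLinearMap (AddMonoidAlgebra.lsingle (R := k) (0 : ℤ))
      {x : R ⊗[k] S | ∃ a ∈ 𝒜 n, ∃ b ∈ ℬ n, x = a ⊗ₜ[k] b} := by
    rintro _ ⟨a, ha, b, hb, rfl⟩
    show Phi 𝒜 ℬ (a ⊗ₜ[k] b) = AddMonoidAlgebra.single 0 (a ⊗ₜ[k] b)
    rw [Phi_tmul_of_mem 𝒜 ℬ ha hb, sub_self]
  exact LinearMap.eqOn_span h hx

theorem Phi_of_mem_iSup_diag {x : R ⊗[k] S} (hx : x ∈ ⨆ n, diag 𝒜 ℬ n) :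
    Phi 𝒜 ℬ x = AddMonoidAlgebra.single 0 x := by
  induction hx using Submodule.iSup_induction' with
  | mem n x hx => exact Phi_of_mem_diag 𝒜 ℬ hx
  | zero => simp
  | add x y _ _ hx hy => rw [map_add, hx, hy, AddMonoidAlgebra.single_add]

theorem coeff_zero_Phi_mem (u : R ⊗[k] S) : (Phi 𝒜 ℬ u).coeff 0 ∈ ⨆ n, diag 𝒜 ℬ n := by
  classical
  refine bihom_induction 𝒜 ℬ (fun u => (Phi 𝒜 ℬ u).coeff 0 ∈ ⨆ n, diag 𝒜 ℬ n) ?_ ?_ ?_ u
  · simp
  · intro x y hx hy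
    rw [map_add, AddMonoidAlgebra.coeff_add, Finsupp.add_apply]
    exact add_mem hx hy
  · intro m n a b ha hb
    rw [Phi_tmul_of_mem 𝒜 ℬ ha hb, AddMonoidAlgebra.coeff_single, Finsupp.single_apply]
    split_ifs with h
    · have hmn : m = n := by omega
      subst hmn
      exact Submodule.mem_iSup_of_mem m (Submodule.subset_span ⟨a, ha, b, hb, rfl⟩)
    · exact zero_mem _

theorem sum_coeff_Phi (u : R ⊗[k] S) : ((Phi 𝒜 ℬ u).coeff.sum fun _ c => c) = u := by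
  refine bihom_induction 𝒜 ℬ (fun u => ((Phi 𝒜 ℬ u).coeff.sum fun _ c => c) = u) ?_ ?_ ?_ u
  · simp
  · intro x y hx hy
    rw [map_add, AddMonoidAlgebra.coeff_add, Finsupp.sum_add_index' (fun _ => rfl) (fun _ _ _ => rfl),
      hx, hy]
  · intro m n a b ha hb
    rw [Phi_tmul_of_mem 𝒜 ℬ ha hb, AddMonoidAlgebra.coeff_single, Finsupp.sum_single_index rfl]

end Phi

end Groth.Agent.Lib.Seat91.SegreCoact
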