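import Groth.Agent.Lib.Seat91HomogAvoid
import Groth.Agent.Lib.Seat91SegreCoact

/-!
# Standard graded algebras with `dim R_1 ≤ 1` are polynomial rings (seat 91)

`R = k ⊕ R_1 ⊕ …` graded over a field, generated in degree one.

* `piece_eq_span_pow`: if `R_1 ⊆ k·y` then `R_n = k·y^n`.
* `aeval_surjective`, `aeval_injective`: then `k[X] → R`, `X ↦ y` is surjective, and injective if all
  `y^n ≠ 0`.
* `exists_ne_zero_of_cm`: a standard graded CM ring of dimension `≥ 1` has `R_n ≠ 0` for all `n ≥ 0`.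
* `le_span_of_irr_eq_span`: if the irrelevant ideal is principal then `R_1 ⊆ k·g_1`.
* `segre_bijective`: if `R_n = k·y^n` and `ε : R → k`, `ε y = 1`, then `T → R ⊗ S → S` is bijective for
  the Segre product `T` of `R` and `S`.

Namespace `Groth.Agent.Lib.Seat91.PolyGraded`.
-/

set_option autoImplicit false
set_option linter.unusedSectionVars false
set_option linter.style.haveILetI false
universe u

open DirectSum Polynomial Groth.Agent.Lib.Seat91.GrIrr Groth.Agent.Lib.Seat91.SegreCoact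
open scoped TensorProduct

namespace Groth.Agent.Lib.Seat91.PolyGraded

section compat

variable {k T S : Type*} [CommRing k] [CommRing T] [Algebra k T] [CommRing S] [Algebra k S]
  (𝒯 : ℤ → Submodule k T) [GradedAlgebra 𝒯] (ℬ : ℤ → Submodule k S) [GradedAlgebra ℬ]

theorem coe_decompose_congr {x : T} {i j : ℤ} (h : i = j) :
    ((decompose 𝒯 x i : 𝒯 i) : T) = ((decompose 𝒯 x j : 𝒯 j) : T) := by
  subst h; rfl

theorem eq_zero_of_mem_neg (hpos : ∀ n : ℤ, n < 0 → 𝒯 n = ⊥) {i : ℤ} (hi : i < 0) {z : T}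
    (hz : z ∈ 𝒯 i) : z = 0 := by
  rw [hpos i hi] at hz
  simpa using hz

/-- a degree-preserving linear map commutes with taking homogeneous components -/
theorem decompose_apply_of_forall_mem (f : T →ₗ[k] S) (hf : ∀ n, ∀ t ∈ 𝒯 n, f t ∈ ℬ n) (t : T)
    (n : ℤ) : ((decompose ℬ (f t) n : ℬ n) : S) = f ((decompose 𝒯 t n : 𝒯 n) : T) := by
  classical
  induction t using DirectSum.Decomposition.inductionOn 𝒯 with
  | zero => simp
  | @homogeneous i a =>
    by_cases h : i = n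
    · subst h
      rw [decompose_of_mem_same ℬ (hf _ _ a.2), decompose_of_mem_same 𝒯 a.2]
    · rw [decompose_of_mem_ne ℬ (hf _ _ a.2) h, decompose_of_mem_ne 𝒯 a.2 h, map_zero]
  | add a b ha hb =>
    rw [map_add, decompose_add, decompose_add, DirectSum.add_apply, DirectSum.add_apply,
      Submodule.coe_add, Submodule.coe_add, map_add, ha, hb]

end compat

section std

variable {k R : Type*} [Field k] [CommRing R] [Algebra k R]
  (𝒜 : ℤ → Submodule k R) [GradedAlgebra 𝒜]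
  (hpos : ∀ n : ℤ, n < 0 → 𝒜 n = ⊥) (h0 : 𝒜 0 = Submodule.span k {(1 : R)})
  (hstd : irr 𝒜 = Ideal.span ((𝒜 1 : Submodule k R) : Set R))
  {y : R} (hy : y ∈ 𝒜 1) (h1 : 𝒜 1 ≤ Submodule.span k {y})

include hy in
theorem pow_mem (n : ℕ) : y ^ n ∈ 𝒜 (n : ℤ) := by
  have := HomogAvoid.pow_mem_nat 𝒜 (d := 1) (x := y) (by exact_mod_cast hy) n
  rwa [one_mul] at this

include h0 hstd hy h1 in
theorem piece_eq_span_pow (n : ℕ) : 𝒜 (n : ℤ) = Submodule.span k {y ^ n} := by
  induction n with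
  | zero => simpa using h0
  | succ n ih =>
    apply le_antisymm
    · intro b hb
      have hb1 : b ∈ irr 𝒜 := mem_irr_of_mem 𝒜 (by positivity) hb
      rw [hstd] at hb1
      have hle : Ideal.span ((𝒜 1 : Submodule k R) : Set R) ≤ Ideal.span {y} := by
        refine Ideal.span_le.2 fun a ha => ?_
        obtain ⟨c, rfl⟩ := Submodule.mem_span_singleton.1 (h1 ha)
        rw [Algebra.smul_def]
        exact Ideal.mul_mem_left _ _ (Ideal.subset_span rfl)
      obtain ⟨f, rfl⟩ := Ideal.mem_span_singleton'.1 (hle hb1)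
      have hb' : f * y ∈ 𝒜 ((n : ℤ) + 1) := by
        rwa [Nat.cast_succ] at hb
      have h2 : ((decompose 𝒜 (f * y) ((n : ℤ) + 1) : 𝒜 _) : R) = (decompose 𝒜 f n : R) * y :=
        DirectSum.coe_decompose_mul_add_of_right_mem 𝒜 hy
      have h3 : ((decompose 𝒜 (f * y) ((n : ℤ) + 1) : 𝒜 _) : R) = f * y :=
        decompose_of_mem_same 𝒜 hb'
      have h4 : ((decompose 𝒜 f n : 𝒜 n) : R) ∈ Submodule.span k {y ^ n} := by
        rw [← ih]; exact SetLike.coe_mem _
      obtain ⟨c, hc⟩ := Submodule.mem_span_singleton.1 h4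
      rw [← h3, h2, ← hc, pow_succ, smul_mul_assoc]
      exact Submodule.smul_mem _ _ (Submodule.subset_span rfl)
    · rw [Submodule.span_le, Set.singleton_subset_iff]
      exact pow_mem 𝒜 hy (n + 1)

include hpos h0 hstd hy h1 in
theorem aeval_surjective : Function.Surjective (aeval y : k[X] →ₐ[k] R) := by
  intro a
  induction a using DirectSum.Decomposition.inductionOn 𝒜 with
  | zero => exact ⟨0, map_zero _⟩
  | @homogeneous i b =>
    rcases lt_or_ge i 0 with hi | hi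
    · have : (b : R) = 0 := eq_zero_of_mem_neg 𝒜 hpos hi b.2
      exact ⟨0, by rw [map_zero, this]⟩
    · obtain ⟨n, rfl⟩ := Int.eq_ofNat_of_zero_le hi
      have := (piece_eq_span_pow 𝒜 h0 hstd hy h1 n).le b.2
      obtain ⟨c, hc⟩ := Submodule.mem_span_singleton.1 this
      exact ⟨C c * X ^ n, by rw [map_mul, aeval_C, map_pow, aeval_X, ← Algebra.smul_def, hc]⟩
  | add a b ha hb =>
    obtain ⟨p, rfl⟩ := ha
    obtain ⟨q, rfl⟩ := hb
    exact ⟨p + q, map_add _ _ _⟩

include hy in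
theorem decompose_aeval (p : k[X]) (n : ℕ) :
    ((decompose 𝒜 (aeval y p) (n : ℤ) : 𝒜 _) : R) = p.coeff n • y ^ n := by
  induction p using Polynomial.induction_on' with
  | add p q hp hq =>
    rw [map_add, decompose_add, DirectSum.add_apply, Submodule.coe_add, hp, hq, coeff_add, add_smul]
  | monomial m c =>
    have hm : aeval y (monomial m c) ∈ 𝒜 (m : ℤ) := by
      rw [aeval_monomial, ← Algebra.smul_def]
      exact Submodule.smul_mem _ _ (pow_mem 𝒜 hy m)
    rw [coeff_monomial]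
    by_cases h : m = n
    · subst h
      rw [decompose_of_mem_same 𝒜 hm, if_pos rfl, aeval_monomial, Algebra.smul_def]
    · rw [decompose_of_mem_ne 𝒜 hm (by exact_mod_cast h), if_neg h, zero_smul]

include hy in
theorem aeval_injective (hne : ∀ n : ℕ, y ^ n ≠ 0) :
    Function.Injective (aeval y : k[X] →ₐ[k] R) := by
  rw [injective_iff_map_eq_zero]
  intro p hp
  ext n
  have := decompose_aeval 𝒜 hy p n
  rw [hp, decompose_zero, DirectSum.zero_apply, ZeroMemClass.coe_zero] at this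
  rw [coeff_zero]
  exact (smul_eq_zero.1 this.symm).resolve_right (hne n)

include hpos in
theorem decompose_nonpos_of_mem_irr {b : R} (hb : b ∈ irr 𝒜) {j : ℤ} (hj : j ≤ 0) :
    ((decompose 𝒜 b j : 𝒜 j) : R) = 0 := by
  rcases hj.lt_or_eq with h | h
  · exact eq_zero_of_mem_neg 𝒜 hpos h (decompose 𝒜 b j).2
  · subst h
    exact decompose_zero_of_mem_irr 𝒜 hpos hb

include hpos in
theorem decompose_one_mul_eq_zero {a b : R} (ha : a ∈ irr 𝒜) (hb : b ∈ irr 𝒜) :
    ((decompose 𝒜 (a * b) 1 : 𝒜 1) : R) = 0 := by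
  have key : ∀ a ∈ irr 𝒜, ∀ b ∈ irr 𝒜, ((decompose 𝒜 (a * b) 1 : 𝒜 1) : R) = 0 := by
    intro a ha
    refine Submodule.span_induction
      (p := fun a _ => ∀ b ∈ irr 𝒜, ((decompose 𝒜 (a * b) 1 : 𝒜 1) : R) = 0) ?_ ?_ ?_ ?_ ha
    · intro a ha b hb
      simp only [Set.mem_iUnion, Set.mem_Ioi, SetLike.mem_coe] at ha
      obtain ⟨n, hn, han⟩ := ha
      have h2 := DirectSum.coe_decompose_mul_add_of_left_mem 𝒜 (b := b) (j := 1 - n) han
      rw [coe_decompose_congr 𝒜 (show (1 : ℤ) = n + (1 - n) by ring), h2,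
        decompose_nonpos_of_mem_irr 𝒜 hpos hb (by omega), mul_zero]
    · intro b _
      simp
    · intro a a' _ _ h h' b hb
      rw [add_mul, decompose_add, DirectSum.add_apply, Submodule.coe_add, h b hb, h' b hb, add_zero]
    · intro c a _ h b hb
      rw [smul_eq_mul, mul_comm c a, mul_assoc]
      exact h (c * b) (Ideal.mul_mem_left _ _ hb)
  exact key a ha b hb

include hpos h0 in
/-- if the irrelevant ideal is principal then `R_1` is at most one-dimensional -/
theorem le_span_of_irr_eq_span {g : R} (hg : irr 𝒜 = Ideal.span {g}) :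
    𝒜 1 ≤ Submodule.span k {((decompose 𝒜 g 1 : 𝒜 1) : R)} := by
  intro b hb
  have hb' : b ∈ irr 𝒜 := mem_irr_of_mem 𝒜 one_pos hb
  have hgi : g ∈ irr 𝒜 := by rw [hg]; exact Ideal.subset_span rfl
  rw [hg] at hb'
  obtain ⟨u, rfl⟩ := Ideal.mem_span_singleton'.1 hb'
  obtain ⟨c, hc⟩ := exists_decompose_zero_eq 𝒜 h0 u
  have hu : u - (decompose 𝒜 u 0 : R) ∈ irr 𝒜 := sub_decompose_zero_mem_irr 𝒜 hpos u
  have h1 : u * g = (decompose 𝒜 u 0 : R) * g + (u - (decompose 𝒜 u 0 : R)) * g := by ring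
  have h2 : ((decompose 𝒜 (u * g) 1 : 𝒜 1) : R) = u * g := decompose_of_mem_same 𝒜 hb
  have h3 : ((decompose 𝒜 ((decompose 𝒜 u 0 : R) * g) 1 : 𝒜 1) : R) =
      (decompose 𝒜 u 0 : R) * (decompose 𝒜 g 1 : R) := by
    have := DirectSum.coe_decompose_mul_add_of_left_mem 𝒜 (a := ((decompose 𝒜 u 0 : 𝒜 0) : R))
      (b := g) (i := 0) (j := 1) (SetLike.coe_mem _)
    rw [← this]
    exact coe_decompose_congr 𝒜 (by norm_num)
  have h4 := decompose_one_mul_eq_zero 𝒜 hpos hu hgi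
  rw [← h2, h1, decompose_add, DirectSum.add_apply, Submodule.coe_add, h3, h4, add_zero, hc,
    ← Algebra.smul_def]
  exact Submodule.smul_mem _ _ (Submodule.subset_span rfl)

end std

section cm

variable {k R : Type u} [Field k] [CommRing R] [Algebra k R]
  (𝒜 : ℤ → Submodule k R) [GradedAlgebra 𝒜]
  (hpos : ∀ n : ℤ, n < 0 → 𝒜 n = ⊥) (h0 : 𝒜 0 = Submodule.span k {(1 : R)})
  (hstd : irr 𝒜 = Ideal.span ((𝒜 1 : Submodule k R) : Set R))

include hpos h0 hstd in
theorem one_le_finrank [Nontrivial R] [LocCoh.IsCohenMacaulayRing R]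
    (hdim : 1 ≤ ringKrullDim R) (n : ℕ) : 1 ≤ Module.finrank k (𝒜 (n : ℤ)) := by
  induction n with
  | zero =>
    have : Module.finrank k (𝒜 ((0 : ℕ) : ℤ)) = 1 := by
      rw [Nat.cast_zero, h0]
      exact finrank_span_singleton one_ne_zero
    rw [this]
  | succ n ih =>
    have := HilbMono.finrank_le_succ 𝒜 hpos h0 hstd hdim (n : ℤ)
    rw [Nat.cast_succ]
    exact ih.trans this

include hpos h0 hstd in
/-- a standard graded CM ring of dimension `≥ 1` is nonzero in every nonnegative degree -/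
theorem exists_ne_zero_of_cm [Nontrivial R] [LocCoh.IsCohenMacaulayRing R]
    (hdim : 1 ≤ ringKrullDim R) (n : ℕ) : ∃ w ∈ 𝒜 (n : ℤ), w ≠ 0 := by
  haveI : Module.Finite k (𝒜 (n : ℤ)) := HilbMono.finite_piece 𝒜 h0 n
  have h := one_le_finrank 𝒜 hpos h0 hstd hdim n
  obtain ⟨w, hw⟩ := Module.finrank_pos_iff_exists_ne_zero.1 (Nat.lt_of_lt_of_le one_pos h)
  exact ⟨w, w.2, fun h => hw (Subtype.ext h)⟩

end cm

section segre

variable {k R S T : Type*} [Field k] [CommRing R] [Algebra k R] [CommRing S] [Algebra k S]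
  [CommRing T] [Algebra k T]
  (𝒜 : ℤ → Submodule k R) [GradedAlgebra 𝒜] (ℬ : ℤ → Submodule k S) [GradedAlgebra ℬ]
  (𝒯 : ℤ → Submodule k T) [GradedAlgebra 𝒯]
  (ψ : T →ₐ[k] R ⊗[k] S)
  (hdeg : ∀ n : ℤ, (𝒯 n).map ψ.toLinearMap = diag 𝒜 ℬ n)

/-- `a ⊗ b ↦ ε(a) b` -/
noncomputable def tau' (ε : R →ₐ[k] k) : R ⊗[k] S →ₐ[k] S :=
  (Algebra.TensorProduct.lid k S).toAlgHom.comp (Algebra.TensorProduct.map ε (AlgHom.id k S))

theorem tau'_tmul (ε : R →ₐ[k] k) (a : R) (b : S) : tau' (S := S) ε (a ⊗ₜ[k] b) = ε a • b := by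
  simp [tau']

variable (hposR : ∀ n : ℤ, n < 0 → 𝒜 n = ⊥) (hposS : ∀ n : ℤ, n < 0 → ℬ n = ⊥)
  {y : R} (hA : ∀ n : ℕ, 𝒜 (n : ℤ) = Submodule.span k {y ^ n})
  (ε : R →ₐ[k] k) (hε : ε y = 1)

include hposR hA hε in
theorem eq_pow_tmul_of_mem_diag {n : ℤ} {ξ : R ⊗[k] S} (hξ : ξ ∈ diag 𝒜 ℬ n) :
    ξ = (y ^ n.toNat) ⊗ₜ[k] (tau' (S := S) ε ξ) ∧ tau' (S := S) ε ξ ∈ ℬ n := by
  induction hξ using Submodule.span_induction with
  | mem ξ hξ =>
    obtain ⟨a, ha, b, hb, rfl⟩ := hξ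
    rcases lt_or_ge n 0 with hn | hn
    · rw [hposR n hn] at ha
      have ha0 : a = 0 := by simpa using ha
      subst ha0
      simp
    · obtain ⟨m, rfl⟩ := Int.eq_ofNat_of_zero_le hn
      rw [hA m] at ha
      obtain ⟨c, rfl⟩ := Submodule.mem_span_singleton.1 ha
      rw [tau'_tmul, map_smul, map_pow, hε, one_pow, smul_eq_mul, mul_one, Int.toNat_natCast]
      refine ⟨?_, Submodule.smul_mem _ _ hb⟩
      rw [TensorProduct.smul_tmul]
  | zero => simp
  | add ξ η _ _ h h' =>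
    refine ⟨?_, ?_⟩
    · rw [map_add, TensorProduct.tmul_add, ← h.1, ← h'.1]
    · rw [map_add]; exact Submodule.add_mem _ h.2 h'.2
  | smul c ξ _ h =>
    refine ⟨?_, ?_⟩
    · rw [map_smul, TensorProduct.tmul_smul, ← h.1]
    · rw [map_smul]; exact Submodule.smul_mem _ _ h.2

include hdeg hposR hposS hA hε in
/-- if `R = k[y]` then the Segre product of `R` and `S` is `S` -/
theorem segre_bijective (hψ : Function.Injective ψ) :
    Function.Bijective ((tau' (S := S) ε).comp ψ) := by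
  classical
  have hmem : ∀ n, ∀ t ∈ 𝒯 n, ((tau' (S := S) ε).comp ψ).toLinearMap t ∈ ℬ n := by
    intro n t ht
    have : ψ t ∈ diag 𝒜 ℬ n := by
      rw [← hdeg n]; exact ⟨t, ht, rfl⟩
    exact (eq_pow_tmul_of_mem_diag 𝒜 ℬ hposR hA ε hε this).2
  constructor
  · rw [injective_iff_map_eq_zero]
    intro t ht
    rw [← DirectSum.sum_support_decompose 𝒯 t]
    refine Finset.sum_eq_zero fun n _ => ?_
    have h1 := decompose_apply_of_forall_mem 𝒯 ℬ ((tau' (S := S) ε).comp ψ).toLinearMap hmem t n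
    rw [AlgHom.toLinearMap_apply, ht, decompose_zero, DirectSum.zero_apply,
      ZeroMemClass.coe_zero] at h1
    have h2 : ψ ((decompose 𝒯 t n : 𝒯 n) : T) ∈ diag 𝒜 ℬ n := by
      rw [← hdeg n]; exact ⟨_, SetLike.coe_mem _, rfl⟩
    have h3 := (eq_pow_tmul_of_mem_diag 𝒜 ℬ hposR hA ε hε h2).1
    have h4 : tau' (S := S) ε (ψ ((decompose 𝒯 t n : 𝒯 n) : T)) = 0 := h1.symm
    rw [h4, TensorProduct.tmul_zero] at h3
    exact hψ (by rw [h3, map_zero])
  · intro s
    induction s using DirectSum.Decomposition.inductionOn ℬ with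
    | zero => exact ⟨0, map_zero _⟩
    | @homogeneous i b =>
      rcases lt_or_ge i 0 with hi | hi
      · have : (b : S) = 0 := eq_zero_of_mem_neg ℬ hposS hi b.2
        exact ⟨0, by rw [map_zero, this]⟩
      · obtain ⟨n, rfl⟩ := Int.eq_ofNat_of_zero_le hi
        have h1 : (y ^ n) ⊗ₜ[k] (b : S) ∈ diag 𝒜 ℬ (n : ℤ) := by
          refine Submodule.subset_span ⟨y ^ n, ?_, b, b.2, rfl⟩
          rw [hA n]; exact Submodule.subset_span rfl
        rw [← hdeg] at h1
        obtain ⟨t, -, ht⟩ := h1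
        refine ⟨t, ?_⟩
        rw [AlgHom.comp_apply]
        have ht' : ψ t = (y ^ n) ⊗ₜ[k] (b : S) := ht
        rw [ht', tau'_tmul, map_pow, hε, one_pow, one_smul]
    | add a b ha hb =>
      obtain ⟨p, rfl⟩ := ha
      obtain ⟨q, rfl⟩ := hb
      exact ⟨p + q, map_add _ _ _⟩

end segre

end Groth.Agent.Lib.Seat91.PolyGraded
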