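import Mathlib
import Groth.Prelude.Def_DeRham
import Groth.Agent.Lib.Helper22DeRham
import Groth.Agent.S15294

/-!
# Homotopy invariance of algebraic de Rham cohomology: `A → A[X]` over a `ℚ`-algebra (seat 91)

Namespace `Groth.Agent.Lib.Seat91.PolyHomotopy`.

The Euler derivation `E = X d/dX` of `A[X]` over `R` gives a contraction `iE` on the exterior powers of
`Ω[A[X]⁄R]`; the Lie derivative `L = d ι + ι d` acts on `b₀ db₁ ∧ … ∧ db_p` by the Cartan formula, hence by the
integer `n + #{i | b_i = X}` on the generators `(a Xⁿ) db₁ ∧ … ∧ db_p`, `b_i ∈ A ∪ {X}`.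
-/

set_option autoImplicit false
set_option linter.style.haveILetI false
set_option linter.unusedSectionVars false

universe u

open exteriorPower DeRham Polynomial

namespace Groth.Agent.Lib.Seat91.PolyHomotopy

section euler

variable (R A : Type u) [CommRing R] [CommRing A] [Algebra R A]

/-- the Euler derivation `X d/dX` of `A[X]` over `R` -/
noncomputable def E : Derivation R A[X] A[X] :=
  (X : A[X]) • ((Polynomial.derivative' : Derivation A A[X] A[X]).restrictScalars R)

theorem E_apply (p : A[X]) : E R A p = X * derivative p := rfl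

theorem E_C (a : A) : E R A (C a) = 0 := by
  rw [E_apply, derivative_C, mul_zero]

theorem E_X : E R A X = X := by
  rw [E_apply, derivative_X, mul_one]

theorem E_C_mul_X_pow (a : A) (n : ℕ) : E R A (C a * X ^ n) = n • (C a * X ^ n) := by
  rw [E_apply, derivative_C_mul_X_pow]
  rcases n with _ | n
  · simp
  · rw [Nat.add_sub_cancel, nsmul_eq_mul]
    push_cast
    rw [map_mul, map_add, map_one, C_eq_natCast]
    ring

/-- pairing of a differential with the Euler derivation -/
noncomputable def φE : Ω[A[X]⁄R] →ₗ[A[X]] A[X] := (E R A).liftKaehlerDifferential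

theorem φE_D (b : A[X]) : φE R A (KaehlerDifferential.D R A[X] b) = E R A b :=
  Derivation.liftKaehlerDifferential_comp_D (E R A) b

/-- contraction with the Euler derivation -/
noncomputable def iE (q : ℕ) :
    ↥(⋀[A[X]]^(q + 1) (Ω[A[X]⁄R])) →ₗ[A[X]] ↥(⋀[A[X]]^q (Ω[A[X]⁄R])) :=
  alternatingMapLinearEquiv
    (AlternatingMap.alternatizeUncurryFin ((φE R A).smulRight (ιMulti A[X] q)))

theorem iE_ιMulti (q : ℕ) (v : Fin (q + 1) → Ω[A[X]⁄R]) :
    iE R A q (ιMulti A[X] (q + 1) v) =
      ∑ m : Fin (q + 1), (-1 : ℤ) ^ (m : ℕ) • (φE R A (v m) • ιMulti A[X] q (Fin.removeNth m v)) := by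
  rw [iE, alternatingMapLinearEquiv_apply_ιMulti, AlternatingMap.alternatizeUncurryFin_apply]
  refine Finset.sum_congr rfl fun m _ => ?_
  rw [LinearMap.smulRight_apply, AlternatingMap.smul_apply]

end euler

section cartan

variable {R A : Type u} [CommRing R] [CommRing A] [Algebra R A]
  (d' : ∀ p : ℕ, ↥(⋀[A[X]]^p (Ω[A[X]⁄R])) →ₗ[R] ↥(⋀[A[X]]^(p + 1) (Ω[A[X]⁄R])))

theorem removeNth_succ_cons {α : Type*} {n : ℕ} (m : Fin (n + 1)) (j : α) (I : Fin (n + 1) → α) :
    Fin.removeNth (Fin.succ m) (Fin.cons j I : Fin (n + 2) → α) =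
      Fin.cons j (Fin.removeNth m I) := by
  funext l
  refine Fin.cases ?_ (fun l' => ?_) l
  · simp [Fin.removeNth]
  · simp [Fin.removeNth]

/-- `x ↦ x ∧ v₁ ∧ … ∧ v_q` as a linear map -/
noncomputable def consLin (R A : Type u) [CommRing R] [CommRing A] [Algebra R A] (q : ℕ)
    (v : Fin q → Ω[A[X]⁄R]) : Ω[A[X]⁄R] →ₗ[A[X]] ↥(⋀[A[X]]^(q + 1) (Ω[A[X]⁄R])) where
  toFun x := ιMulti A[X] (q + 1) (Fin.cons x v)
  map_add' x y := (ιMulti A[X] (q + 1)).toMultilinearMap.cons_add v x y
  map_smul' c x := (ιMulti A[X] (q + 1)).toMultilinearMap.cons_smul v c x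

theorem consLin_apply (q : ℕ) (v : Fin q → Ω[A[X]⁄R]) (x : Ω[A[X]⁄R]) :
    consLin R A q v x = ιMulti A[X] (q + 1) (Fin.cons x v) := rfl

theorem iE_cons_zero (x : Ω[A[X]⁄R]) (v : Fin 0 → Ω[A[X]⁄R]) :
    iE R A 0 (ιMulti A[X] 1 (Fin.cons x v)) = φE R A x • ιMulti A[X] 0 v := by
  rw [iE_ιMulti, Fin.sum_univ_one]
  simp

theorem iE_cons_succ (q : ℕ) (x : Ω[A[X]⁄R]) (v : Fin (q + 1) → Ω[A[X]⁄R]) :
    iE R A (q + 1) (ιMulti A[X] (q + 2) (Fin.cons x v)) =
      φE R A x • ιMulti A[X] (q + 1) v +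
        ∑ m : Fin (q + 1), (-1 : ℤ) ^ ((m : ℕ) + 1) •
          (φE R A (v m) • ιMulti A[X] (q + 1) (Fin.cons x (Fin.removeNth m v))) := by
  rw [iE_ιMulti, Fin.sum_univ_succ]
  congr 1
  · simp
  · refine Finset.sum_congr rfl fun m _ => ?_
    rw [Fin.val_succ, Fin.cons_succ, removeNth_succ_cons]

/-- the Lie derivative `d ι + ι d` along the Euler derivation -/
noncomputable def Lie :
    ∀ q : ℕ, ↥(⋀[A[X]]^q (Ω[A[X]⁄R])) →ₗ[R] ↥(⋀[A[X]]^q (Ω[A[X]⁄R]))
  | 0 => (iE R A 0).restrictScalars R ∘ₗ d' 0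
  | q + 1 => d' q ∘ₗ (iE R A q).restrictScalars R + (iE R A (q + 1)).restrictScalars R ∘ₗ d' (q + 1)

theorem Lie_zero_apply (ω : ↥(⋀[A[X]]^0 (Ω[A[X]⁄R]))) : Lie d' 0 ω = iE R A 0 (d' 0 ω) := rfl

theorem Lie_succ_apply (q : ℕ) (ω : ↥(⋀[A[X]]^(q + 1) (Ω[A[X]⁄R]))) :
    Lie d' (q + 1) ω = d' q (iE R A q ω) + iE R A (q + 1) (d' (q + 1) ω) := rfl

variable (hd' : DeRham.IsRule (KaehlerDifferential.D R A[X]) d')

include hd' in
theorem cartan_zero (b₀ : A[X]) (b : Fin 0 → A[X]) :
    Lie d' 0 (gen (KaehlerDifferential.D R A[X]) 0 b₀ b) =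
      gen (KaehlerDifferential.D R A[X]) 0 (E R A b₀) b := by
  rw [Lie_zero_apply, hd' 0 b₀ b, iE_cons_zero, φE_D]
  rfl

include hd' in
theorem cartan_succ (q : ℕ) (b₀ : A[X]) (b : Fin (q + 1) → A[X]) :
    Lie d' (q + 1) (gen (KaehlerDifferential.D R A[X]) (q + 1) b₀ b) =
      gen (KaehlerDifferential.D R A[X]) (q + 1) (E R A b₀) b +
        ∑ m : Fin (q + 1), gen (KaehlerDifferential.D R A[X]) (q + 1) b₀
          (Function.update b m (E R A (b m))) := by
  rw [Lie_succ_apply, hd' (q + 1) b₀ b, iE_cons_succ, φE_D]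
  -- the `d ι` part
  have h1 : iE R A q (gen (KaehlerDifferential.D R A[X]) (q + 1) b₀ b) =
      ∑ m : Fin (q + 1), (-1 : ℤ) ^ (m : ℕ) •
        gen (KaehlerDifferential.D R A[X]) q (b₀ * E R A (b m)) (Fin.removeNth m b) := by
    unfold gen
    rw [map_smul, iE_ιMulti, Finset.smul_sum]
    refine Finset.sum_congr rfl fun m _ => ?_
    rw [smul_comm b₀, smul_smul, φE_D]
    rfl
  rw [h1, map_sum]
  have h2 : ∀ m : Fin (q + 1),
      d' q ((-1 : ℤ) ^ (m : ℕ) •
        gen (KaehlerDifferential.D R A[X]) q (b₀ * E R A (b m)) (Fin.removeNth m b)) =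
      (-1 : ℤ) ^ (m : ℕ) • (b₀ • ιMulti A[X] (q + 1)
        (Fin.cons (KaehlerDifferential.D R A[X] (E R A (b m)))
          (Fin.removeNth m (fun i => KaehlerDifferential.D R A[X] (b i))))) +
      (-1 : ℤ) ^ (m : ℕ) • (E R A (b m) • ιMulti A[X] (q + 1)
        (Fin.cons (KaehlerDifferential.D R A[X] b₀)
          (Fin.removeNth m (fun i => KaehlerDifferential.D R A[X] (b i))))) := by
    intro m
    rw [map_zsmul, hd' q, ← smul_add]
    congr 1
    have h3 : (fun i => KaehlerDifferential.D R A[X] (Fin.removeNth m b i)) =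
        Fin.removeNth m (fun i => KaehlerDifferential.D R A[X] (b i)) := rfl
    rw [h3, ← consLin_apply, ← consLin_apply, ← consLin_apply, Derivation.leibniz, map_add,
      map_smul, map_smul]
  -- cancel
  have h4 : ∀ m : Fin (q + 1),
      (-1 : ℤ) ^ (m : ℕ) • (E R A (b m) • ιMulti A[X] (q + 1)
        (Fin.cons (KaehlerDifferential.D R A[X] b₀)
          (Fin.removeNth m (fun i => KaehlerDifferential.D R A[X] (b i))))) +
      (-1 : ℤ) ^ ((m : ℕ) + 1) • (φE R A (KaehlerDifferential.D R A[X] (b m)) •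
        ιMulti A[X] (q + 1) (Fin.cons (KaehlerDifferential.D R A[X] b₀)
          (Fin.removeNth m (fun i => KaehlerDifferential.D R A[X] (b i))))) = 0 := by
    intro m
    rw [φE_D, pow_succ, mul_neg_one, neg_smul, add_neg_cancel]
  have h5 : ∀ m : Fin (q + 1),
      (-1 : ℤ) ^ (m : ℕ) • (b₀ • ιMulti A[X] (q + 1)
        (Fin.cons (KaehlerDifferential.D R A[X] (E R A (b m)))
          (Fin.removeNth m (fun i => KaehlerDifferential.D R A[X] (b i))))) =
      gen (KaehlerDifferential.D R A[X]) (q + 1) b₀ (Function.update b m (E R A (b m))) := by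
    intro m
    unfold gen
    rw [smul_comm]
    congr 1
    have h6 := AlternatingMap.neg_one_pow_smul_map_insertNth (ιMulti A[X] (q + 1)) m
      (KaehlerDifferential.D R A[X] (E R A (b m)))
      (Fin.removeNth m (fun i => KaehlerDifferential.D R A[X] (b i)))
    rw [Fin.insertNth_removeNth] at h6
    have h7 : (Matrix.vecCons (KaehlerDifferential.D R A[X] (E R A (b m)))
        (Fin.removeNth m (fun i => KaehlerDifferential.D R A[X] (b i)))) =
        Fin.cons (KaehlerDifferential.D R A[X] (E R A (b m)))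
          (Fin.removeNth m (fun i => KaehlerDifferential.D R A[X] (b i))) := rfl
    rw [h7] at h6
    rw [← h6, smul_smul, ← pow_add, Even.neg_one_pow ⟨_, rfl⟩, one_smul]
    congr 1
    funext i
    by_cases hi : i = m
    · subst hi; simp
    · simp [Function.update_of_ne hi]
  rw [add_left_comm, ← Finset.sum_add_distrib]
  congr 1
  refine Finset.sum_congr rfl fun m _ => ?_
  rw [h2 m, add_assoc, h4 m, add_zero, h5 m]

theorem gen_nsmul_left (q : ℕ) (b₀ : A[X]) (b : Fin q → A[X]) (n : ℕ) :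
    gen (KaehlerDifferential.D R A[X]) q (n • b₀) b =
      n • gen (KaehlerDifferential.D R A[X]) q b₀ b := by
  unfold gen
  rw [smul_assoc]

theorem gen_update_nsmul (q : ℕ) (b₀ : A[X]) (b : Fin q → A[X]) (m : Fin q) (n : ℕ) :
    gen (KaehlerDifferential.D R A[X]) q b₀ (Function.update b m (n • b m)) =
      n • gen (KaehlerDifferential.D R A[X]) q b₀ b := by
  unfold gen
  have h1 : (fun i => KaehlerDifferential.D R A[X] (Function.update b m (n • b m) i)) =
      Function.update (fun i => KaehlerDifferential.D R A[X] (b i)) m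
        ((n : A[X]) • KaehlerDifferential.D R A[X] (b m)) := by
    funext i
    by_cases hi : i = m
    · subst hi
      simp [Nat.cast_smul_eq_nsmul]
    · simp [Function.update_of_ne hi]
  rw [h1, AlternatingMap.map_update_smul, Function.update_eq_self,
    Nat.cast_smul_eq_nsmul, smul_comm]

include hd' in
/-- the Lie derivative acts on weight-homogeneous generators by the weight -/
theorem Lie_gen_eigen (q : ℕ) (b₀ : A[X]) (b : Fin q → A[X]) (n₀ : ℕ) (w : Fin q → ℕ)
    (h₀ : E R A b₀ = n₀ • b₀) (hw : ∀ m, E R A (b m) = w m • b m) :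
    Lie d' q (gen (KaehlerDifferential.D R A[X]) q b₀ b) =
      (n₀ + ∑ m, w m) • gen (KaehlerDifferential.D R A[X]) q b₀ b := by
  cases q with
  | zero =>
    rw [cartan_zero d' hd', h₀, gen_nsmul_left]
    simp
  | succ q =>
    rw [cartan_succ d' hd', h₀, gen_nsmul_left, add_smul, Finset.sum_smul]
    congr 1
    refine Finset.sum_congr rfl fun m _ => ?_
    rw [hw m, gen_update_nsmul]

end cartan

section span

variable (R A : Type u) [CommRing R] [CommRing A] [Algebra R A]

/-- `none ↦ X`, `some a ↦ C a` -/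
noncomputable def bOf : Option A → A[X]
  | none => X
  | some a => C a

/-- the weight: `none ↦ 1`, `some a ↦ 0` -/
def wOf : Option A → ℕ
  | none => 1
  | some _ => 0

variable {A} in
theorem E_bOf (s : Option A) : E R A (bOf A s) = wOf A s • bOf A s := by
  cases s with
  | none => simp [bOf, wOf, E_X]
  | some a => simp [bOf, wOf, E_C]

theorem span_D_bOf :
    Submodule.span A[X] (Set.range fun s : Option A => KaehlerDifferential.D R A[X] (bOf A s)) = ⊤ := by
  rw [eq_top_iff, ← KaehlerDifferential.span_range_derivation R A[X], Submodule.span_le]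
  rintro _ ⟨p, rfl⟩
  induction p using Polynomial.induction_on' with
  | add p q hp hq =>
    rw [map_add]
    exact add_mem hp hq
  | monomial n a =>
    rw [← Polynomial.C_mul_X_pow_eq_monomial, (KaehlerDifferential.D R A[X]).leibniz,
      (KaehlerDifferential.D R A[X]).leibniz_pow]
    have hX : KaehlerDifferential.D R A[X] X ∈ Submodule.span A[X]
        (Set.range fun s : Option A => KaehlerDifferential.D R A[X] (bOf A s)) :=
      Submodule.subset_span ⟨none, rfl⟩
    have hC : KaehlerDifferential.D R A[X] (C a) ∈ Submodule.span A[X]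
        (Set.range fun s : Option A => KaehlerDifferential.D R A[X] (bOf A s)) :=
      Submodule.subset_span ⟨some a, rfl⟩
    exact add_mem (Submodule.smul_mem _ _ (nsmul_mem (Submodule.smul_mem _ _ hX) _))
      (Submodule.smul_mem _ _ hC)

variable {R A} in
/-- induction principle: the special generators `(a Xⁿ) db₁ ∧ … ∧ db_q`, `b_i ∈ A ∪ {X}`, generate
`⋀^q Ω[A[X]⁄R]` additively -/
theorem special_gen_induction (q : ℕ) (P : ↥(⋀[A[X]]^q (Ω[A[X]⁄R])) → Prop) (h0 : P 0)
    (hadd : ∀ x y, P x → P y → P (x + y))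
    (hgen : ∀ (n : ℕ) (a : A) (s : Fin q → Option A),
      P (gen (KaehlerDifferential.D R A[X]) q (C a * X ^ n) (fun i => bOf A (s i)))) :
    ∀ ω, P ω := by
  intro ω
  have hspan := exteriorPower.ιMulti_span_of_span (R := A[X]) (n := q) (M := Ω[A[X]⁄R])
    (span_D_bOf R A)
  have hω : ω ∈ Submodule.span A[X] (exteriorPower.ιMulti A[X] q ''
      {v : Fin q → Ω[A[X]⁄R] | Set.range v ⊆
        Set.range fun s : Option A => KaehlerDifferential.D R A[X] (bOf A s)}) := by
    rw [hspan]; exact Submodule.mem_top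
  have key : ∀ c : A[X], P (c • ω) := by
    induction hω using Submodule.span_induction with
    | mem ω h =>
      obtain ⟨v, hv, rfl⟩ := h
      have hv' : ∀ i, ∃ s : Option A, KaehlerDifferential.D R A[X] (bOf A s) = v i :=
        fun i => hv ⟨i, rfl⟩
      choose s hs using hv'
      intro c
      have h2 : c • exteriorPower.ιMulti A[X] q v =
          gen (KaehlerDifferential.D R A[X]) q c (fun i => bOf A (s i)) := by
        simp only [gen, hs]
      rw [h2]
      clear h2
      induction c using Polynomial.induction_on' with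
      | add c₁ c₂ h₁ h₂ =>
        have : gen (KaehlerDifferential.D R A[X]) q (c₁ + c₂) (fun i => bOf A (s i)) =
            gen (KaehlerDifferential.D R A[X]) q c₁ (fun i => bOf A (s i)) +
              gen (KaehlerDifferential.D R A[X]) q c₂ (fun i => bOf A (s i)) := by
          unfold gen; rw [add_smul]
        rw [this]
        exact hadd _ _ h₁ h₂
      | monomial n a =>
        rw [← Polynomial.C_mul_X_pow_eq_monomial]
        exact hgen n a s
    | zero => intro c; rw [smul_zero]; exact h0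
    | add x y _ _ hx hy => intro c; rw [smul_add]; exact hadd _ _ (hx c) (hy c)
    | smul e x _ hx => intro c; rw [smul_smul]; exact hx (c * e)
  have := key 1
  rwa [one_smul] at this

end span

section eigen

/-- eigenvectors of an endomorphism of a module over a `ℚ`-algebra for distinct natural eigenvalues are
independent -/
theorem eigen_sum_eq_zero {R V : Type*} [CommRing R] [Algebra ℚ R] [AddCommGroup V] [Module R V]
    (T : V →ₗ[R] V) :
    ∀ (S : Finset ℕ) (z : ℕ → V), (∀ n ∈ S, T (z n) = n • z n) → ∑ n ∈ S, z n = 0 →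
      ∀ n ∈ S, z n = 0 := by
  classical
  letI : Module ℚ V := Module.compHom V (algebraMap ℚ R)
  intro S
  induction S using Finset.induction_on with
  | empty => intro z _ _ n hn; simp at hn
  | insert m S' hm ih =>
    intro z hz hsum
    rw [Finset.sum_insert hm] at hsum
    have hT : T (z m) + ∑ n ∈ S', T (z n) = 0 := by
      rw [← map_sum, ← map_add, hsum, map_zero]
    have h1 : ∑ n ∈ S', (((n : ℤ) - (m : ℤ)) • z n) = 0 := by
      have h2 : ∑ n ∈ S', (((n : ℤ) - (m : ℤ)) • z n) =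
          (T (z m) + ∑ n ∈ S', T (z n)) - m • (z m + ∑ n ∈ S', z n) := by
        rw [hz m (Finset.mem_insert_self _ _), smul_add, Finset.smul_sum,
          Finset.sum_congr rfl fun n hn => hz n (Finset.mem_insert_of_mem hn)]
        simp only [sub_smul, Finset.sum_sub_distrib, natCast_zsmul]
        abel
      rw [h2, hT, hsum, smul_zero, sub_zero]
    have h3 : ∀ n ∈ S', ((n : ℤ) - (m : ℤ)) • z n = 0 := by
      refine ih (fun n => ((n : ℤ) - (m : ℤ)) • z n) (fun n hn => ?_) h1
      rw [map_zsmul, hz n (Finset.mem_insert_of_mem hn), smul_comm]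
    have h4 : ∀ n ∈ S', z n = 0 := by
      intro n hn
      have hnm : ((n : ℤ) - (m : ℤ)) ≠ 0 := by
        intro h
        apply hm
        have : n = m := by omega
        rwa [← this]
      have h5 := h3 n hn
      rw [← Int.cast_smul_eq_zsmul ℚ] at h5
      rcases smul_eq_zero.1 h5 with h6 | h6
      · exact absurd (by exact_mod_cast h6) hnm
      · exact h6
    intro n hn
    rcases Finset.mem_insert.1 hn with rfl | hn'
    · rw [Finset.sum_eq_zero h4, add_zero] at hsum
      exact hsum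
    · exact h4 n hn'

/-- dividing by a nonzero natural number in a module over a `ℚ`-algebra -/
theorem inv_smul_nsmul {R V : Type*} [CommRing R] [Algebra ℚ R] [AddCommGroup V] [Module R V]
    (n : ℕ) (hn : n ≠ 0) (v : V) : (algebraMap ℚ R (n : ℚ)⁻¹) • (n • v) = v := by
  rw [← Nat.cast_smul_eq_nsmul R, smul_smul]
  have : algebraMap ℚ R (n : ℚ)⁻¹ * (n : R) = 1 := by
    rw [← map_natCast (algebraMap ℚ R), ← map_mul, inv_mul_cancel₀ (by exact_mod_cast hn), map_one]
  rw [this, one_smul]

end eigen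

section main

variable {R A : Type u} [CommRing R] [CommRing A] [Algebra R A]
  (d : ∀ p : ℕ, ↥(⋀[A]^p (Ω[A⁄R])) →ₗ[R] ↥(⋀[A]^(p + 1) (Ω[A⁄R])))
  (d' : ∀ p : ℕ, ↥(⋀[A[X]]^p (Ω[A[X]⁄R])) →ₗ[R] ↥(⋀[A[X]]^(p + 1) (Ω[A[X]⁄R])))
  (ψ : ∀ p : ℕ, ↥(⋀[A]^p (Ω[A⁄R])) →+ ↥(⋀[A[X]]^p (Ω[A[X]⁄R])))

/-- `ω` is a finite sum of eigenvectors of the Lie derivative with natural eigenvalues, the one for the eigenvalue
`0` coming from `A` -/
def Decomp (q : ℕ) (ω : ↥(⋀[A[X]]^q (Ω[A[X]⁄R]))) : Prop :=
  ∃ y : ℕ →₀ ↥(⋀[A[X]]^q (Ω[A[X]⁄R])), (y.sum fun _ v => v) = ω ∧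
    (∀ n, Lie d' q (y n) = n • y n) ∧ ∃ x₀, ψ q x₀ = y 0

theorem bOf_of_wOf_eq_zero (s : Option A) (h : wOf A s = 0) : bOf A s = C (s.getD 0) := by
  cases s with
  | none => simp [wOf] at h
  | some a => rfl

theorem decomp_all (hd' : DeRham.IsRule (KaehlerDifferential.D R A[X]) d')
    (hψ : DeRham.IsCxMap (KaehlerDifferential.D R A) (KaehlerDifferential.D R A[X])
      (algebraMap A A[X]) ψ) (q : ℕ) (ω : ↥(⋀[A[X]]^q (Ω[A[X]⁄R]))) : Decomp d' ψ q ω := by
  classical
  refine special_gen_induction q (Decomp d' ψ q) ?_ ?_ ?_ ω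
  · exact ⟨0, by simp, fun n => by simp, 0, by simp⟩
  · rintro x y ⟨y₁, h₁, e₁, x₁, hx₁⟩ ⟨y₂, h₂, e₂, x₂, hx₂⟩
    refine ⟨y₁ + y₂, ?_, fun n => ?_, x₁ + x₂, ?_⟩
    · rw [Finsupp.sum_add_index' (fun _ => rfl) (fun _ _ _ => rfl), h₁, h₂]
    · rw [Finsupp.add_apply, map_add, e₁, e₂, smul_add]
    · rw [map_add, hx₁, hx₂, Finsupp.add_apply]
  · intro n a s
    set g := gen (KaehlerDifferential.D R A[X]) q (C a * X ^ n) (fun i => bOf A (s i)) with hg
    have hLie : Lie d' q g = (n + ∑ m, wOf A (s m)) • g :=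
      Lie_gen_eigen d' hd' q _ _ n (fun m => wOf A (s m)) (E_C_mul_X_pow R A a n)
        (fun m => E_bOf R (s m))
    refine ⟨Finsupp.single (n + ∑ m, wOf A (s m)) g, ?_, fun m => ?_, ?_⟩
    · rw [Finsupp.sum_single_index rfl]
    · rw [Finsupp.single_apply]
      split_ifs with h
      · rw [hLie, h]
      · rw [map_zero, smul_zero]
    · rw [Finsupp.single_apply]
      split_ifs with h
      · have hn : n = 0 := by omega
        have hs : ∀ m, wOf A (s m) = 0 := by
          have h0 : ∑ m, wOf A (s m) = 0 := by omega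
          intro m
          exact (Finset.sum_eq_zero_iff.1 h0) m (Finset.mem_univ m)
        refine ⟨gen (KaehlerDifferential.D R A) q a (fun i => (s i).getD 0), ?_⟩
        rw [hψ q a (fun i => (s i).getD 0), hg, hn, pow_zero, mul_one]
        congr 1
        funext i
        rw [bOf_of_wOf_eq_zero (s i) (hs i)]
        rfl
      · exact ⟨0, map_zero _⟩

include d in
/-- the retraction `ε_*` induced by `X ↦ 0` -/
theorem exists_retraction (hd : DeRham.IsDiff (KaehlerDifferential.D R A) d)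
    (hd' : DeRham.IsDiff (KaehlerDifferential.D R A[X]) d')
    (hψ : DeRham.IsCxMap (KaehlerDifferential.D R A) (KaehlerDifferential.D R A[X])
      (algebraMap A A[X]) ψ) :
    ∃ εs : ∀ p : ℕ, ↥(⋀[A[X]]^p (Ω[A[X]⁄R])) →+ ↥(⋀[A]^p (Ω[A⁄R])),
      (∀ p x, εs p (ψ p x) = x) ∧ (∀ p x, εs (p + 1) (d' p x) = d p (εs p x)) := by
  letI : Algebra A[X] A := (Polynomial.evalRingHom (0 : A)).toAlgebra
  have halg : ∀ b : A[X], algebraMap A[X] A b = Polynomial.eval 0 b := fun b => rfl
  haveI : IsScalarTower R A[X] A := IsScalarTower.of_algebraMap_eq (fun r => by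
    rw [halg, Polynomial.algebraMap_apply, Polynomial.eval_C])
  obtain ⟨ε, hε⟩ := Groth.Agent.Lib.Helper22.exists_isCxMap_kaehler R R A[X] A
  have hε' : DeRham.IsCxMap (KaehlerDifferential.D R A[X]) (KaehlerDifferential.D R A)
      (algebraMap A[X] A) (fun p => (ε p).toAddMonoidHom) := fun p b₀ b => hε p b₀ b
  refine ⟨fun p => (ε p).toAddMonoidHom, fun p x => ?_, fun p x => ?_⟩
  · refine Groth.Agent.Lib.Helper22.deRham_gen_induction (R := R) (A := A) p
      (fun x => (ε p).toAddMonoidHom (ψ p x) = x) (by simp) ?_ ?_ x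
    · intro x y hx hy
      rw [map_add, map_add, hx, hy]
    · intro c b
      rw [hψ p c b]
      show ε p _ = _
      rw [hε p]
      simp only [halg, Polynomial.algebraMap_apply, Polynomial.eval_C, Algebra.algebraMap_self,
        RingHom.id_apply]
  · exact Groth.Agent.S15294.result R R A[X] A d' hd' d hd (fun p => (ε p).toAddMonoidHom) hε' p x

theorem Lie_comm (hd' : DeRham.IsDiff (KaehlerDifferential.D R A[X]) d') (q : ℕ)
    (ω : ↥(⋀[A[X]]^q (Ω[A[X]⁄R]))) : Lie d' (q + 1) (d' q ω) = d' q (Lie d' q ω) := by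
  have hdd : ∀ p x, d' (p + 1) (d' p x) = 0 := fun p x => LinearMap.congr_fun (hd'.2 p) x
  cases q with
  | zero =>
    rw [Lie_succ_apply, Lie_zero_apply, hdd, map_zero, add_zero]
  | succ q =>
    rw [Lie_succ_apply, Lie_succ_apply, hdd, map_zero, add_zero, map_add, hdd, zero_add]

theorem main [Algebra ℚ R] (hd : DeRham.IsDiff (KaehlerDifferential.D R A) d)
    (hd' : DeRham.IsDiff (KaehlerDifferential.D R A[X]) d')
    (hψ : DeRham.IsCxMap (KaehlerDifferential.D R A) (KaehlerDifferential.D R A[X])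
      (algebraMap A A[X]) ψ)
    (hcomm : ∀ (p : ℕ) (x : ↥(⋀[A]^p (Ω[A⁄R]))), ψ (p + 1) (d p x) = d' p (ψ p x)) (i : ℕ) :
    (∀ y ∈ DeRham.cocycles d' i, ∃ x ∈ DeRham.cocycles d i, y - ψ i x ∈ DeRham.coboundaries d' i) ∧
      (∀ x ∈ DeRham.cocycles d i, ψ i x ∈ DeRham.coboundaries d' i →
        x ∈ DeRham.coboundaries d i) := by
  classical
  obtain ⟨εs, hε1, hε2⟩ := exists_retraction d d' ψ hd hd' hψ
  constructor
  · intro y hy
    have hy0 : d' i y = 0 := hy
    obtain ⟨Y, hsum, heig, x₀, hx₀⟩ := decomp_all d' ψ hd'.1 hψ i y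
    -- each component is closed
    have hz : ∀ n, d' i (Y n) = 0 := by
      have h1 := eigen_sum_eq_zero (Lie d' (i + 1)) Y.support (fun n => d' i (Y n))
        (fun n _ => by rw [Lie_comm d' hd', heig n, map_nsmul])
        (by
          rw [← map_sum]
          have : ∑ n ∈ Y.support, Y n = y := hsum
          rw [this, hy0])
      intro n
      by_cases hn : n ∈ Y.support
      · exact h1 n hn
      · rw [Finsupp.notMem_support_iff.1 hn, map_zero]
    refine ⟨x₀, ?_, ?_⟩
    · show d i x₀ = 0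
      rw [← hε1 (i + 1) (d i x₀), hcomm, hx₀, hz 0, map_zero]
    · -- `y - ψ x₀` is the sum of the components of positive weight
      have h2 : y - ψ i x₀ = ∑ n ∈ Y.support.erase 0, Y n := by
        rw [hx₀, ← hsum]
        show ∑ n ∈ Y.support, Y n - Y 0 = _
        by_cases h0 : 0 ∈ Y.support
        · rw [← Finset.add_sum_erase _ _ h0, add_sub_cancel_left]
        · rw [Finset.erase_eq_of_notMem h0, Finsupp.notMem_support_iff.1 h0, sub_zero]
      rw [h2]
      refine Submodule.sum_mem _ fun n hn => ?_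
      have hn0 : n ≠ 0 := (Finset.mem_erase.1 hn).1
      cases i with
      | zero =>
        have h3 : n • Y n = 0 := by
          rw [← heig n, Lie_zero_apply, hz n, map_zero]
        have h4 : Y n = 0 := by
          rw [← inv_smul_nsmul (R := R) n hn0 (Y n), h3, smul_zero]
        rw [h4]
        exact zero_mem _
      | succ i =>
        have h3 : n • Y n = d' i (iE R A i (Y n)) := by
          rw [← heig n, Lie_succ_apply, hz n, map_zero, add_zero]
        refine ⟨(algebraMap ℚ R (n : ℚ)⁻¹) • iE R A i (Y n), ?_⟩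
        rw [map_smul, ← h3, inv_smul_nsmul (R := R) n hn0]
  · intro x hx hψx
    cases i with
    | zero =>
      have h1 : ψ 0 x = 0 := hψx
      have h2 : x = 0 := by rw [← hε1 0 x, h1, map_zero]
      rw [h2]
      exact zero_mem _
    | succ i =>
      obtain ⟨η, hη⟩ := hψx
      refine ⟨εs i η, ?_⟩
      rw [← hε2, hη, hε1]

end main

end Groth.Agent.Lib.Seat91.PolyHomotopy
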