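import Mathlib
import Groth.Agent.Lib.Seat91SegreCoact
import Groth.Agent.Lib.Seat91GradedFG

/-!
# The Segre product as a direct summand of the tensor product (seat 91)

Namespace `Groth.Agent.Lib.Seat91.SegreRetract`.

`T` is a graded algebra with an injective algebra map `ψ : T → R ⊗ S` carrying `T_n` onto the span of the
`a ⊗ b`, `a ∈ R_n`, `b ∈ S_n`.  The degree-zero coefficient of the weight coaction is a `T`-linear retraction of `ψ`;
hence `ψ⁻¹(I (R ⊗ S)) = I`, `T` is Noetherian when `R ⊗ S` is, primes of `T` lift to `R ⊗ S`, and `T` is of finite type.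
-/

set_option autoImplicit false
set_option linter.unusedSectionVars false
set_option linter.style.haveILetI false

universe u

open scoped TensorProduct
open Groth.Agent.Lib.Seat91.SegreCoact

namespace Groth.Agent.Lib.Seat91.SegreRetract

variable {k R S T : Type*} [CommRing k] [CommRing R] [Algebra k R] [CommRing S] [Algebra k S]
  [CommRing T] [Algebra k T]
  (𝒜 : ℤ → Submodule k R) [GradedAlgebra 𝒜] (ℬ : ℤ → Submodule k S) [GradedAlgebra ℬ]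
  (𝒯 : ℤ → Submodule k T) [GradedAlgebra 𝒯]
  (ψ : T →ₐ[k] R ⊗[k] S)
  (hdeg : ∀ n : ℤ, (𝒯 n).map ψ.toLinearMap = diag 𝒜 ℬ n)

include hdeg in
theorem psi_mem_iSup (τ : T) : ψ τ ∈ ⨆ n, diag 𝒜 ℬ n := by
  classical
  rw [← DirectSum.sum_support_decompose 𝒯 τ, map_sum]
  refine Submodule.sum_mem _ fun n _ => ?_
  refine Submodule.mem_iSup_of_mem n ?_
  rw [← hdeg n]
  exact ⟨_, SetLike.coe_mem _, rfl⟩

include hdeg in
theorem mem_range_of_mem_iSup {u : R ⊗[k] S} (hu : u ∈ ⨆ n, diag 𝒜 ℬ n) : u ∈ Set.range ψ := by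
  induction hu using Submodule.iSup_induction' with
  | mem n x hx =>
    rw [← hdeg n] at hx
    obtain ⟨τ, _, rfl⟩ := hx
    exact ⟨τ, rfl⟩
  | zero => exact ⟨0, map_zero _⟩
  | add x y _ _ hx hy =>
    obtain ⟨a, rfl⟩ := hx
    obtain ⟨b, rfl⟩ := hy
    exact ⟨a + b, map_add _ _ _⟩

include hdeg in
theorem Phi_psi (τ : T) : Phi 𝒜 ℬ (ψ τ) = AddMonoidAlgebra.single 0 (ψ τ) :=
  Phi_of_mem_iSup_diag 𝒜 ℬ (psi_mem_iSup 𝒜 ℬ 𝒯 ψ hdeg τ)

include hdeg in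
/-- the `T`-linear retraction of `ψ` -/
theorem exists_retract (hψ : Function.Injective ψ) :
    ∃ ρ : R ⊗[k] S →+ T, (∀ τ, ρ (ψ τ) = τ) ∧ ∀ τ u, ρ (ψ τ * u) = τ * ρ u := by
  classical
  have hex : ∀ u : R ⊗[k] S, ∃ τ : T, ψ τ = (Phi 𝒜 ℬ u).coeff 0 := fun u =>
    mem_range_of_mem_iSup 𝒜 ℬ 𝒯 ψ hdeg (coeff_zero_Phi_mem 𝒜 ℬ u)
  choose ρ hρ using hex
  have hadd : ∀ u v, ρ (u + v) = ρ u + ρ v := by
    intro u v
    apply hψ
    rw [map_add, hρ, hρ, hρ, map_add, AddMonoidAlgebra.coeff_add, Finsupp.add_apply]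
  have h0 : ρ 0 = 0 := by
    apply hψ
    rw [hρ, map_zero (Phi 𝒜 ℬ), map_zero ψ, AddMonoidAlgebra.coeff_zero, Finsupp.zero_apply]
  refine ⟨⟨⟨ρ, h0⟩, hadd⟩, fun τ => ?_, fun τ u => ?_⟩
  · apply hψ
    show ψ (ρ (ψ τ)) = ψ τ
    rw [hρ, Phi_psi 𝒜 ℬ 𝒯 ψ hdeg, AddMonoidAlgebra.coeff_single, Finsupp.single_eq_same]
  · apply hψ
    show ψ (ρ (ψ τ * u)) = ψ (τ * ρ u)
    rw [hρ, map_mul, map_mul, hρ, Phi_psi 𝒜 ℬ 𝒯 ψ hdeg, AddMonoidAlgebra.coeff_single_zero_mul]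

include hdeg in
theorem comap_map (hψ : Function.Injective ψ) (I : Ideal T) :
    (I.map ψ.toRingHom).comap ψ.toRingHom = I := by
  obtain ⟨ρ, hρ1, hρ2⟩ := exists_retract 𝒜 ℬ 𝒯 ψ hdeg hψ
  refine le_antisymm ?_ Ideal.le_comap_map
  intro τ hτ
  have hτ' : ψ τ ∈ I.map ψ.toRingHom := hτ
  have key : ∀ x ∈ I.map ψ.toRingHom, ∀ u : R ⊗[k] S, ρ (u * x) ∈ I := by
    intro x hx
    unfold Ideal.map at hx
    induction hx using Submodule.span_induction with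
    | mem x hx =>
      obtain ⟨i, hi, rfl⟩ := hx
      intro u
      show ρ (u * ψ i) ∈ I
      rw [mul_comm, hρ2]
      exact I.mul_mem_right _ hi
    | zero => intro u; rw [mul_zero, map_zero]; exact zero_mem _
    | add x y _ _ hx hy => intro u; rw [mul_add, map_add]; exact add_mem (hx u) (hy u)
    | smul a x _ hx =>
      intro u
      rw [smul_eq_mul, ← mul_assoc]
      exact hx (u * a)
  have := key _ hτ' 1
  rwa [one_mul, hρ1] at this

include hdeg in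
theorem isNoetherianRing (hψ : Function.Injective ψ) [IsNoetherianRing (R ⊗[k] S)] :
    IsNoetherianRing T := by
  rw [isNoetherianRing_iff, isNoetherian_iff']
  have hmono : StrictMono (fun I : Ideal T => I.map ψ.toRingHom) := by
    intro I J hIJ
    refine lt_of_le_of_ne (Ideal.map_mono hIJ.le) fun h => hIJ.ne ?_
    rw [← comap_map 𝒜 ℬ 𝒯 ψ hdeg hψ I, ← comap_map 𝒜 ℬ 𝒯 ψ hdeg hψ J]
    exact congrArg _ h
  haveI : WellFoundedGT (Ideal (R ⊗[k] S)) := by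
    have : IsNoetherian (R ⊗[k] S) (R ⊗[k] S) := inferInstance
    rw [isNoetherian_iff'] at this
    exact this
  exact hmono.wellFoundedGT

include hdeg in
/-- lying over for the pure extension `ψ : T → R ⊗ S` -/
theorem exists_prime_comap_eq (hψ : Function.Injective ψ) (𝔮 : Ideal T) [𝔮.IsPrime] :
    ∃ 𝔓 : Ideal (R ⊗[k] S), 𝔓.IsPrime ∧ 𝔓.comap ψ.toRingHom = 𝔮 := by
  have hdisj : Disjoint ((𝔮.map ψ.toRingHom : Ideal (R ⊗[k] S)) : Set (R ⊗[k] S))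
      ((𝔮.primeCompl.map ψ.toRingHom : Submonoid (R ⊗[k] S)) : Set (R ⊗[k] S)) := by
    rw [Set.disjoint_left]
    rintro x hx ⟨s, hs, rfl⟩
    have : s ∈ (𝔮.map ψ.toRingHom).comap ψ.toRingHom := hx
    rw [comap_map 𝒜 ℬ 𝒯 ψ hdeg hψ] at this
    exact hs this
  obtain ⟨𝔓, h𝔓, hle, hd⟩ := Ideal.exists_le_prime_disjoint _ _ hdisj
  refine ⟨𝔓, h𝔓, le_antisymm ?_ ?_⟩
  · intro τ hτ
    by_contra hτq
    exact (Set.disjoint_left.1 hd) (show ψ τ ∈ (𝔓 : Set (R ⊗[k] S)) from hτ) ⟨τ, hτq, rfl⟩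
  · exact (Ideal.le_comap_map).trans (Ideal.comap_mono hle)

include hdeg in
theorem neg_eq_bot (hψ : Function.Injective ψ) (hposR : ∀ n : ℤ, n < 0 → 𝒜 n = ⊥) (n : ℤ) (hn : n < 0) :
    𝒯 n = ⊥ := by
  have h1 : diag 𝒜 ℬ n = ⊥ := by
    unfold diag
    rw [Submodule.span_eq_bot]
    rintro _ ⟨a, ha, b, _, rfl⟩
    rw [hposR n hn, Submodule.mem_bot] at ha
    rw [ha, TensorProduct.zero_tmul]
  rw [eq_bot_iff]
  intro τ hτ
  have h2 : ψ τ ∈ (𝒯 n).map ψ.toLinearMap := ⟨τ, hτ, rfl⟩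
  rw [hdeg n, h1, Submodule.mem_bot] at h2
  rw [Submodule.mem_bot]
  exact hψ (by rw [h2, map_zero])

include hdeg in
theorem zero_eq (hψ : Function.Injective ψ) (h0R : 𝒜 0 = Submodule.span k {(1 : R)})
    (h0S : ℬ 0 = Submodule.span k {(1 : S)}) : 𝒯 0 = Submodule.span k {(1 : T)} := by
  have h1 : diag 𝒜 ℬ 0 = Submodule.span k {(1 : R ⊗[k] S)} := by
    unfold diag
    refine le_antisymm (Submodule.span_le.2 ?_) (Submodule.span_le.2 ?_)
    · rintro _ ⟨a, ha, b, hb, rfl⟩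
      rw [h0R, Submodule.mem_span_singleton] at ha
      rw [h0S, Submodule.mem_span_singleton] at hb
      obtain ⟨c, rfl⟩ := ha
      obtain ⟨c', rfl⟩ := hb
      rw [TensorProduct.smul_tmul_smul]
      exact Submodule.smul_mem _ _ (Submodule.subset_span rfl)
    · rintro _ rfl
      refine Submodule.subset_span ⟨1, ?_, 1, ?_, rfl⟩
      · rw [h0R]; exact Submodule.subset_span rfl
      · rw [h0S]; exact Submodule.subset_span rfl
  refine le_antisymm ?_ ?_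
  · intro τ hτ
    have h2 : ψ τ ∈ (𝒯 0).map ψ.toLinearMap := ⟨τ, hτ, rfl⟩
    rw [hdeg 0, h1, Submodule.mem_span_singleton] at h2
    obtain ⟨c, hc⟩ := h2
    rw [Submodule.mem_span_singleton]
    refine ⟨c, hψ ?_⟩
    rw [← hc, map_smul, map_one]
  · rw [Submodule.span_le]
    rintro _ rfl
    exact SetLike.GradedOne.one_mem

include hdeg in
theorem finiteType (hψ : Function.Injective ψ) [IsNoetherianRing (R ⊗[k] S)]
    (hposR : ∀ n : ℤ, n < 0 → 𝒜 n = ⊥) (h0R : 𝒜 0 = Submodule.span k {(1 : R)})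
    (h0S : ℬ 0 = Submodule.span k {(1 : S)}) : Algebra.FiniteType k T := by
  haveI := isNoetherianRing 𝒜 ℬ 𝒯 ψ hdeg hψ
  exact Groth.Agent.Lib.Seat91.GradedFG.finiteType_of_isNoetherianRing 𝒯
    (neg_eq_bot 𝒜 ℬ 𝒯 ψ hdeg hψ hposR) (zero_eq 𝒜 ℬ 𝒯 ψ hdeg hψ h0R h0S)

end Groth.Agent.Lib.Seat91.SegreRetract
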