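import Mathlib
import Groth.Agent.Lib.Seat91SegreCoact
import Groth.Agent.Lib.Seat91SegreRetract
import Groth.Agent.Lib.Seat91TrdegAux
import Groth.Agent.Lib.Seat91DimAux
import Groth.Agent.Lib.Helper14FTDim
import Groth.Agent.Lib.Helper4TensorDim

/-!
# Krull dimension of the Segre product of two graded algebras over a field (seat 91)

Namespace `Groth.Agent.Lib.Seat91.SegreDim`.
-/

set_option autoImplicit false
set_option linter.unusedSectionVars false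
set_option linter.style.haveILetI false

universe u

open scoped TensorProduct
open Groth.Agent.Lib.Seat91.SegreCoact Groth.Agent.Lib.Seat91.SegreRetract
  Groth.Agent.Lib.Seat91.TrdegAux

namespace Groth.Agent.Lib.Seat91.SegreDim

section transc

/-- an element of nonzero weight is transcendental over a subalgebra of weight zero -/
theorem transcendental_of_weight {k D' D₀ : Type*} [CommRing k] [CommRing D'] [Algebra k D']
    [CommRing D₀] [IsDomain D₀] (ι : D' →+* AddMonoidAlgebra D₀ ℤ) (hι : Function.Injective ι)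
    (E : Subalgebra k D') (hE : ∀ e ∈ E, ∃ c : D₀, ι e = AddMonoidAlgebra.single 0 c)
    (h : D') (w : ℤ) (hw : w ≠ 0) (x : D₀) (hx : x ≠ 0) (hh : ι h = AddMonoidAlgebra.single w x) :
    Transcendental E h := by
  classical
  rintro ⟨p, hp0, hp⟩
  apply hp0
  have hc : ∀ i : ℕ, ∃ c : D₀, ι ((p.coeff i : E) : D') = AddMonoidAlgebra.single 0 c :=
    fun i => hE _ (p.coeff i).2
  choose c hc using hc
  have h1 : ι (Polynomial.aeval h p) =
      ∑ i ∈ p.support, AddMonoidAlgebra.single (i • w) (c i * x ^ i) := by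
    rw [Polynomial.aeval_eq_sum_range, map_sum]
    rw [Finset.sum_subset (s₁ := p.support) (s₂ := Finset.range (p.natDegree + 1))]
    · refine Finset.sum_congr rfl fun i _ => ?_
      rw [Algebra.smul_def, map_mul, map_pow, hh, AddMonoidAlgebra.single_pow]
      have : ι (algebraMap E D' (p.coeff i)) = AddMonoidAlgebra.single 0 (c i) := hc i
      rw [this, AddMonoidAlgebra.single_mul_single, zero_add]
    · intro i hi
      rw [Finset.mem_range]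
      exact Nat.lt_succ_of_le (Polynomial.le_natDegree_of_mem_supp i hi)
    · intro i _ hi
      have hci : c i = 0 := by
        have h2 := hc i
        rw [Polynomial.notMem_support_iff.1 hi, ZeroMemClass.coe_zero, map_zero] at h2
        exact AddMonoidAlgebra.single_eq_zero.1 h2.symm
      rw [hci, zero_mul, AddMonoidAlgebra.single_zero]
  rw [hp, map_zero] at h1
  ext j
  rw [Polynomial.coeff_zero]
  by_cases hj : j ∈ p.support
  · have h2 := congrArg (fun z => z.coeff (j • w)) h1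
    simp only [AddMonoidAlgebra.coeff_zero, Finsupp.zero_apply, AddMonoidAlgebra.coeff_sum,
      Finsupp.finsetSum_apply, AddMonoidAlgebra.coeff_single] at h2
    rw [Finset.sum_eq_single j] at h2
    · rw [Finsupp.single_eq_same] at h2
      have h3 : c j = 0 := by
        rcases mul_eq_zero.1 h2.symm with h | h
        · exact h
        · exact absurd h (pow_ne_zero j hx)
      have h4 : ι ((p.coeff j : E) : D') = 0 := by rw [hc j, h3, AddMonoidAlgebra.single_zero]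
      have h5 : ((p.coeff j : E) : D') = 0 := hι (by rw [h4, map_zero])
      rw [h5]
      rfl
    · intro i _ hij
      rw [Finsupp.single_apply, if_neg]
      intro heq
      apply hij
      have : (i : ℤ) * w = (j : ℤ) * w := by simpa using heq
      exact_mod_cast mul_right_cancel₀ hw this
    · intro h; exact absurd hj h
  · rw [Polynomial.notMem_support_iff.1 hj]

end transc

section core

variable {k R S : Type*} [CommRing k] [CommRing R] [Algebra k R] [CommRing S] [Algebra k S]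
  (𝒜 : ℤ → Submodule k R) [GradedAlgebra 𝒜] (ℬ : ℤ → Submodule k S) [GradedAlgebra ℬ]
  (𝔓 : Ideal (R ⊗[k] S))

/-- the weight coaction followed by reduction modulo `𝔓` -/
noncomputable def PhiP : R ⊗[k] S →ₐ[k] AddMonoidAlgebra ((R ⊗[k] S) ⧸ 𝔓) ℤ :=
  (AddMonoidAlgebra.mapAlgHom ℤ (Ideal.Quotient.mkₐ k 𝔓)).comp (Phi 𝒜 ℬ)

theorem PhiP_tmul_of_mem {m n : ℤ} {a : R} {b : S} (ha : a ∈ 𝒜 m) (hb : b ∈ ℬ n) :
    PhiP 𝒜 ℬ 𝔓 (a ⊗ₜ[k] b) =
      AddMonoidAlgebra.single (m - n) (Ideal.Quotient.mk 𝔓 (a ⊗ₜ[k] b)) := by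
  rw [PhiP, AlgHom.comp_apply, Phi_tmul_of_mem 𝒜 ℬ ha hb, AddMonoidAlgebra.mapAlgHom_single]
  rfl

theorem PhiP_of_mem_iSup_diag {x : R ⊗[k] S} (hx : x ∈ ⨆ n, diag 𝒜 ℬ n) :
    PhiP 𝒜 ℬ 𝔓 x = AddMonoidAlgebra.single 0 (Ideal.Quotient.mk 𝔓 x) := by
  rw [PhiP, AlgHom.comp_apply, Phi_of_mem_iSup_diag 𝒜 ℬ hx, AddMonoidAlgebra.mapAlgHom_single]
  rfl

/-- the weight-homogeneous core of `𝔓` -/
noncomputable def core : Ideal (R ⊗[k] S) := RingHom.ker (PhiP 𝒜 ℬ 𝔓).toRingHom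

theorem mem_core_iff (u : R ⊗[k] S) : u ∈ core 𝒜 ℬ 𝔓 ↔ PhiP 𝒜 ℬ 𝔓 u = 0 := Iff.rfl

instance core_isPrime [𝔓.IsPrime] : (core 𝒜 ℬ 𝔓).IsPrime := by
  unfold core
  exact RingHom.ker_isPrime _

theorem core_le : core 𝒜 ℬ 𝔓 ≤ 𝔓 := by
  intro u hu
  rw [mem_core_iff] at hu
  rw [← sum_coeff_Phi 𝒜 ℬ u]
  refine Ideal.sum_mem _ fun d _ => ?_
  have h1 : ((PhiP 𝒜 ℬ 𝔓 u).coeff d) = Ideal.Quotient.mk 𝔓 ((Phi 𝒜 ℬ u).coeff d) := by
    rw [PhiP, AlgHom.comp_apply, AddMonoidAlgebra.coeff_mapAlgHom]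
    rfl
  rw [hu, AddMonoidAlgebra.coeff_zero, Finsupp.zero_apply] at h1
  exact Ideal.Quotient.eq_zero_iff_mem.1 h1.symm

theorem tmul_mem_core_iff {m n : ℤ} {a : R} {b : S} (ha : a ∈ 𝒜 m) (hb : b ∈ ℬ n) :
    a ⊗ₜ[k] b ∈ core 𝒜 ℬ 𝔓 ↔ a ⊗ₜ[k] b ∈ 𝔓 := by
  rw [mem_core_iff, PhiP_tmul_of_mem 𝒜 ℬ 𝔓 ha hb, AddMonoidAlgebra.single_eq_zero,
    Ideal.Quotient.eq_zero_iff_mem]

theorem mem_core_iff_of_mem_iSup_diag {x : R ⊗[k] S} (hx : x ∈ ⨆ n, diag 𝒜 ℬ n) :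
    x ∈ core 𝒜 ℬ 𝔓 ↔ x ∈ 𝔓 := by
  rw [mem_core_iff, PhiP_of_mem_iSup_diag 𝒜 ℬ 𝔓 hx, AddMonoidAlgebra.single_eq_zero,
    Ideal.Quotient.eq_zero_iff_mem]

/-- the injection `(R ⊗ S) ⧸ core 𝔓 → ((R ⊗ S) ⧸ 𝔓)[ℤ]` -/
noncomputable def iotaCore : (R ⊗[k] S) ⧸ core 𝒜 ℬ 𝔓 →+* AddMonoidAlgebra ((R ⊗[k] S) ⧸ 𝔓) ℤ :=
  RingHom.kerLift (PhiP 𝒜 ℬ 𝔓).toRingHom

theorem iotaCore_injective : Function.Injective (iotaCore 𝒜 ℬ 𝔓) :=
  RingHom.kerLift_injective _

theorem iotaCore_mk (u : R ⊗[k] S) :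
    iotaCore 𝒜 ℬ 𝔓 (Ideal.Quotient.mk (core 𝒜 ℬ 𝔓) u) = PhiP 𝒜 ℬ 𝔓 u := rfl

end core

section upper

variable {k R S T : Type u} [Field k] [CommRing R] [Algebra k R] [CommRing S] [Algebra k S]
  [CommRing T] [Algebra k T]
  (𝒜 : ℤ → Submodule k R) [GradedAlgebra 𝒜] (ℬ : ℤ → Submodule k S) [GradedAlgebra ℬ]
  (𝒯 : ℤ → Submodule k T) [GradedAlgebra 𝒯] (ψ : T →ₐ[k] R ⊗[k] S)
  (hdeg : ∀ n : ℤ, (𝒯 n).map ψ.toLinearMap = diag 𝒜 ℬ n)

theorem dim_eq_trdeg (E : Type u) [CommRing E] [IsDomain E] [Algebra k E] [Algebra.FiniteType k E] :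
    ∃ n : ℕ, Algebra.trdeg k E = n ∧ ringKrullDim E = n := by
  obtain ⟨n, h1, h2, -⟩ := Groth.Agent.Lib.Helper14.FTDim.exists_dim k E
  exact ⟨n, by rw [← trdeg_fractionRing, h1], h2⟩

instance finiteType_tensor [Algebra.FiniteType k R] [Algebra.FiniteType k S] :
    Algebra.FiniteType k (R ⊗[k] S) :=
  Algebra.FiniteType.trans (inferInstance : Algebra.FiniteType k R)
    (inferInstance : Algebra.FiniteType R (R ⊗[k] S))

include hdeg in
/-- the upper bound for one prime of `T` -/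
theorem dim_quotient_le (hψ : Function.Injective ψ) [Algebra.FiniteType k R]
    [Algebra.FiniteType k S] [Algebra.FiniteType k T]
    (h0T : 𝒯 0 = Submodule.span k {(1 : T)})
    (N : ℕ) (hN : 1 ≤ N) (hU : ringKrullDim (R ⊗[k] S) = N) (𝔮 : Ideal T) [𝔮.IsPrime] :
    ringKrullDim (T ⧸ 𝔮) ≤ ((N - 1 : ℕ) : WithBot ℕ∞) := by
  classical
  obtain ⟨𝔓, h𝔓, hcomap⟩ := exists_prime_comap_eq 𝒜 ℬ 𝒯 ψ hdeg hψ 𝔮
  by_cases hcase : ∃ (m n : ℤ) (a : R) (b : S), a ∈ 𝒜 m ∧ b ∈ ℬ n ∧ m ≠ n ∧ a ⊗ₜ[k] b ∉ 𝔓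
  · -- a weight vector outside `𝔓`
    obtain ⟨m, n, a, b, ha, hb, hmn, hab⟩ := hcase
    set P' := core 𝒜 ℬ 𝔓 with hP'
    -- `T ⧸ 𝔮 → (R ⊗ S) ⧸ P'`
    have hker : ∀ τ : T, ψ τ ∈ P' ↔ τ ∈ 𝔮 := by
      intro τ
      rw [hP', mem_core_iff_of_mem_iSup_diag 𝒜 ℬ 𝔓 (psi_mem_iSup 𝒜 ℬ 𝒯 ψ hdeg τ), ← hcomap]
      rfl
    let f : T →ₐ[k] (R ⊗[k] S) ⧸ P' := (Ideal.Quotient.mkₐ k P').comp ψ
    have hf : ∀ τ ∈ 𝔮, f τ = 0 := by
      intro τ hτ
      show Ideal.Quotient.mk P' (ψ τ) = 0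
      rw [Ideal.Quotient.eq_zero_iff_mem, hker]
      exact hτ
    let g : T ⧸ 𝔮 →ₐ[k] (R ⊗[k] S) ⧸ P' := Ideal.Quotient.liftₐ 𝔮 f hf
    have hg : Function.Injective g := by
      rw [injective_iff_map_eq_zero]
      intro x hx
      obtain ⟨τ, rfl⟩ := Ideal.Quotient.mk_surjective x
      have : Ideal.Quotient.mk P' (ψ τ) = 0 := hx
      rw [Ideal.Quotient.eq_zero_iff_mem, hker] at this
      exact Ideal.Quotient.eq_zero_iff_mem.2 this
    set E' : Subalgebra k ((R ⊗[k] S) ⧸ P') := g.range with hE'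
    have e : (T ⧸ 𝔮) ≃ₐ[k] E' := AlgEquiv.ofInjective g hg
    haveI : Algebra.FiniteType k ((R ⊗[k] S) ⧸ P') :=
      Algebra.FiniteType.of_surjective (Ideal.Quotient.mkₐ k P') (Ideal.Quotient.mkₐ_surjective k P')
    haveI : Algebra.FiniteType k (T ⧸ 𝔮) :=
      Algebra.FiniteType.of_surjective (Ideal.Quotient.mkₐ k 𝔮) (Ideal.Quotient.mkₐ_surjective k 𝔮)
    obtain ⟨e₁, he₁, hd₁⟩ := dim_eq_trdeg (k := k) (T ⧸ 𝔮)
    obtain ⟨n', hn', hd'⟩ := dim_eq_trdeg (k := k) ((R ⊗[k] S) ⧸ P')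
    -- the transcendental element
    have htr : Transcendental E' (Ideal.Quotient.mk P' (a ⊗ₜ[k] b)) := by
      refine transcendental_of_weight (iotaCore 𝒜 ℬ 𝔓) (iotaCore_injective 𝒜 ℬ 𝔓) E' ?_ _ (m - n)
        (sub_ne_zero.2 hmn) (Ideal.Quotient.mk 𝔓 (a ⊗ₜ[k] b)) ?_ ?_
      · rintro _ ⟨x, rfl⟩
        obtain ⟨τ, rfl⟩ := Ideal.Quotient.mk_surjective x
        refine ⟨Ideal.Quotient.mk 𝔓 (ψ τ), ?_⟩
        show iotaCore 𝒜 ℬ 𝔓 (Ideal.Quotient.mk P' (ψ τ)) = _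
        rw [iotaCore_mk, PhiP_of_mem_iSup_diag 𝒜 ℬ 𝔓 (psi_mem_iSup 𝒜 ℬ 𝒯 ψ hdeg τ)]
      · rw [ne_eq, Ideal.Quotient.eq_zero_iff_mem]
        exact hab
      · rw [iotaCore_mk, PhiP_tmul_of_mem 𝒜 ℬ 𝔓 ha hb]
    have h1 := trdeg_add_one_le (k := k) E' _ htr
    rw [← e.trdeg_eq, he₁, hn'] at h1
    have h2 : e₁ + 1 ≤ n' := by exact_mod_cast h1
    have h3 : (n' : WithBot ℕ∞) ≤ N := by
      rw [← hd', ← hU]
      exact ringKrullDim_quotient_le _
    have h4 : n' ≤ N := by exact_mod_cast h3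
    rw [hd₁]
    have h5 : e₁ ≤ N - 1 := by omega
    exact_mod_cast h5
  · -- everything of nonzero weight lies in `𝔓`: the quotient is `k`
    push Not at hcase
    have hdiag : ∀ n : ℤ, n ≠ 0 → diag 𝒜 ℬ n ≤ (𝔓.restrictScalars k) := by
      intro n hn
      unfold diag
      rw [Submodule.span_le]
      rintro _ ⟨a, ha, b, hb, rfl⟩
      have h1 : a ⊗ₜ[k] (1 : S) ∈ 𝔓 := hcase n 0 a 1 ha SetLike.GradedOne.one_mem hn
      have h2 : a ⊗ₜ[k] b = (a ⊗ₜ[k] (1 : S)) * ((1 : R) ⊗ₜ[k] b) := by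
        rw [Algebra.TensorProduct.tmul_mul_tmul, mul_one, one_mul]
      show a ⊗ₜ[k] b ∈ 𝔓
      rw [h2]
      exact 𝔓.mul_mem_right _ h1
    have hTn : ∀ n : ℤ, n ≠ 0 → ∀ τ ∈ 𝒯 n, τ ∈ 𝔮 := by
      intro n hn τ hτ
      rw [← hcomap]
      show ψ τ ∈ 𝔓
      have h1 : ψ τ ∈ (𝒯 n).map ψ.toLinearMap := ⟨τ, hτ, rfl⟩
      rw [hdeg n] at h1
      exact hdiag n hn h1
    have hsurj : Function.Surjective (algebraMap k (T ⧸ 𝔮)) := by
      intro x
      obtain ⟨τ, rfl⟩ := Ideal.Quotient.mk_surjective x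
      have h1 : Ideal.Quotient.mk 𝔮 τ =
          Ideal.Quotient.mk 𝔮 ((DirectSum.decompose 𝒯 τ 0 : 𝒯 0) : T) := by
        rw [Ideal.Quotient.eq]
        nth_rewrite 1 [← DirectSum.sum_support_decompose 𝒯 τ]
        by_cases h0 : (0 : ℤ) ∈ (DirectSum.decompose 𝒯 τ).support
        · rw [← Finset.add_sum_erase _ _ h0, add_sub_cancel_left]
          refine Ideal.sum_mem _ fun n hn => ?_
          exact hTn n (Finset.mem_erase.1 hn).1 _ (SetLike.coe_mem _)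
        · have : ((DirectSum.decompose 𝒯 τ 0 : 𝒯 0) : T) = 0 := by
            rw [DFinsupp.notMem_support_iff.1 h0]; rfl
          rw [this, sub_zero]
          refine Ideal.sum_mem _ fun n hn => ?_
          have hn0 : n ≠ 0 := fun h => h0 (h ▸ hn)
          exact hTn n hn0 _ (SetLike.coe_mem _)
      have h2 : ((DirectSum.decompose 𝒯 τ 0 : 𝒯 0) : T) ∈ Submodule.span k {(1 : T)} := by
        rw [← h0T]; exact SetLike.coe_mem _
      obtain ⟨c, hc⟩ := Submodule.mem_span_singleton.1 h2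
      refine ⟨c, ?_⟩
      rw [h1, ← hc, Algebra.smul_def, mul_one]
      rfl
    have h1 := ringKrullDim_le_of_surjective (algebraMap k (T ⧸ 𝔮)) hsurj
    rw [ringKrullDim_eq_zero_of_field] at h1
    refine h1.trans ?_
    exact_mod_cast Nat.zero_le _

end upper

section lower

theorem isAlgebraic_of_mul_pow_eq {B D : Type*} [CommRing B] [CommRing D] [Algebra B D]
    (z : D) (β γ : B) (hβ : β ≠ 0) (N₁ : ℕ) (hN₁ : 0 < N₁)
    (h : algebraMap B D β * z ^ N₁ = algebraMap B D γ) : IsAlgebraic B z := by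
  refine ⟨Polynomial.C β * Polynomial.X ^ N₁ - Polynomial.C γ, ?_, ?_⟩
  · intro h0
    have h1 := congrArg (fun p => Polynomial.coeff p N₁) h0
    simp only [Polynomial.coeff_sub, Polynomial.coeff_C_mul, Polynomial.coeff_X_pow, if_true,
      mul_one, Polynomial.coeff_C, Polynomial.coeff_zero] at h1
    rw [if_neg (by omega), sub_zero] at h1
    exact hβ h1
  · rw [map_sub, map_mul, map_pow, Polynomial.aeval_C, Polynomial.aeval_X, Polynomial.aeval_C, h,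
      sub_self]

variable {k R S T : Type u} [Field k] [CommRing R] [Algebra k R] [CommRing S] [Algebra k S]
  [CommRing T] [Algebra k T]
  (𝒜 : ℤ → Submodule k R) [GradedAlgebra 𝒜] (ℬ : ℤ → Submodule k S) [GradedAlgebra ℬ]
  (𝒯 : ℤ → Submodule k T) [GradedAlgebra 𝒯] (ψ : T →ₐ[k] R ⊗[k] S)
  (hdeg : ∀ n : ℤ, (𝒯 n).map ψ.toLinearMap = diag 𝒜 ℬ n)

include ℬ in
/-- if every `a ⊗ 1` of nonzero degree lies in the prime `P'`, then `(R ⊗ S) ⧸ P'` is a quotient of `S` -/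
theorem dim_quotient_le_right (h0R : 𝒜 0 = Submodule.span k {(1 : R)}) (P' : Ideal (R ⊗[k] S))
    (h : ∀ (m : ℤ) (a : R), a ∈ 𝒜 m → m ≠ 0 → a ⊗ₜ[k] (1 : S) ∈ P') :
    ringKrullDim ((R ⊗[k] S) ⧸ P') ≤ ringKrullDim S := by
  let φ : S →+* (R ⊗[k] S) ⧸ P' :=
    (Ideal.Quotient.mk P').comp (Algebra.TensorProduct.includeRight : S →ₐ[k] R ⊗[k] S).toRingHom
  refine ringKrullDim_le_of_surjective φ ?_
  intro x
  obtain ⟨u, rfl⟩ := Ideal.Quotient.mk_surjective x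
  refine bihom_induction 𝒜 ℬ (fun u => ∃ b' : S, φ b' = Ideal.Quotient.mk P' u) ?_ ?_ ?_ u
  · exact ⟨0, by simp⟩
  · rintro x y ⟨b₁, h₁⟩ ⟨b₂, h₂⟩
    exact ⟨b₁ + b₂, by rw [map_add, map_add, h₁, h₂]⟩
  · intro m n a b ha _
    by_cases hm : m = 0
    · subst hm
      rw [h0R, Submodule.mem_span_singleton] at ha
      obtain ⟨c, rfl⟩ := ha
      refine ⟨c • b, ?_⟩
      show Ideal.Quotient.mk P' ((1 : R) ⊗ₜ[k] (c • b)) = _
      rw [TensorProduct.tmul_smul, TensorProduct.smul_tmul']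
    · refine ⟨0, ?_⟩
      rw [map_zero]
      symm
      rw [Ideal.Quotient.eq_zero_iff_mem]
      have h2 : a ⊗ₜ[k] b = (a ⊗ₜ[k] (1 : S)) * ((1 : R) ⊗ₜ[k] b) := by
        rw [Algebra.TensorProduct.tmul_mul_tmul, mul_one, one_mul]
      rw [h2]
      exact P'.mul_mem_right _ (h m a ha hm)

include 𝒜 in
/-- if every `1 ⊗ b` of nonzero degree lies in the prime `P'`, then `(R ⊗ S) ⧸ P'` is a quotient of `R` -/
theorem dim_quotient_le_left (h0S : ℬ 0 = Submodule.span k {(1 : S)}) (P' : Ideal (R ⊗[k] S))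
    (h : ∀ (n : ℤ) (b : S), b ∈ ℬ n → n ≠ 0 → (1 : R) ⊗ₜ[k] b ∈ P') :
    ringKrullDim ((R ⊗[k] S) ⧸ P') ≤ ringKrullDim R := by
  let φ : R →+* (R ⊗[k] S) ⧸ P' :=
    (Ideal.Quotient.mk P').comp (Algebra.TensorProduct.includeLeft : R →ₐ[k] R ⊗[k] S).toRingHom
  refine ringKrullDim_le_of_surjective φ ?_
  intro x
  obtain ⟨u, rfl⟩ := Ideal.Quotient.mk_surjective x
  refine bihom_induction 𝒜 ℬ (fun u => ∃ a' : R, φ a' = Ideal.Quotient.mk P' u) ?_ ?_ ?_ u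
  · exact ⟨0, by simp⟩
  · rintro x y ⟨b₁, h₁⟩ ⟨b₂, h₂⟩
    exact ⟨b₁ + b₂, by rw [map_add, map_add, h₁, h₂]⟩
  · intro m n a b _ hb
    by_cases hn : n = 0
    · subst hn
      rw [h0S, Submodule.mem_span_singleton] at hb
      obtain ⟨c, rfl⟩ := hb
      refine ⟨c • a, ?_⟩
      show Ideal.Quotient.mk P' ((c • a) ⊗ₜ[k] (1 : S)) = _
      rw [TensorProduct.tmul_smul, TensorProduct.smul_tmul']
    · refine ⟨0, ?_⟩
      rw [map_zero]
      symm
      rw [Ideal.Quotient.eq_zero_iff_mem]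
      have h2 : a ⊗ₜ[k] b = (a ⊗ₜ[k] (1 : S)) * ((1 : R) ⊗ₜ[k] b) := by
        rw [Algebra.TensorProduct.tmul_mul_tmul, mul_one, one_mul]
      rw [h2]
      exact P'.mul_mem_left _ (h n b hb hn)

theorem isAlgebraic_adjoin_of_mul_pow_eq {D' : Type*} [CommRing D'] [Algebra k D']
    (E' : Subalgebra k D') (h z β₀ γ₀ : D') (hβmem : β₀ ∈ Algebra.adjoin E' ({h} : Set D'))
    (hγmem : γ₀ ∈ Algebra.adjoin E' ({h} : Set D')) (hβ : β₀ ≠ 0) (N₁ : ℕ) (hN₁ : 0 < N₁)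
    (heq : β₀ * z ^ N₁ = γ₀) : IsAlgebraic (Algebra.adjoin E' ({h} : Set D')) z :=
  isAlgebraic_of_mul_pow_eq z ⟨β₀, hβmem⟩ ⟨γ₀, hγmem⟩
    (fun h0 => hβ (congrArg Subtype.val h0)) N₁ hN₁ heq

include hdeg in
/-- the lower bound `r + s - 1 ≤ dim T` -/
theorem le_dim [Algebra.FiniteType k R] [Algebra.FiniteType k S] [Algebra.FiniteType k T]
    (hposR : ∀ n : ℤ, n < 0 → 𝒜 n = ⊥) (h0R : 𝒜 0 = Submodule.span k {(1 : R)})
    (hposS : ∀ n : ℤ, n < 0 → ℬ n = ⊥) (h0S : ℬ 0 = Submodule.span k {(1 : S)})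
    (r s : ℕ) (hr : ringKrullDim R = r) (hs : ringKrullDim S = s) (h1r : 1 ≤ r) (h1s : 1 ≤ s)
    (hU : ringKrullDim (R ⊗[k] S) = ((r + s : ℕ) : WithBot ℕ∞)) :
    ((r + s - 1 : ℕ) : WithBot ℕ∞) ≤ ringKrullDim T := by
  classical
  obtain ⟨𝔓, h𝔓, hdim𝔓⟩ := Groth.Agent.Lib.Seat91.DimAux.exists_prime_ringKrullDim_quotient_eq (r + s) hU
  set P' := core 𝒜 ℬ 𝔓 with hP'
  have hP'dim : ringKrullDim ((R ⊗[k] S) ⧸ P') = ((r + s : ℕ) : WithBot ℕ∞) := by
    refine le_antisymm ?_ ?_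
    · rw [← hU]; exact ringKrullDim_quotient_le _
    · rw [← hdim𝔓]
      exact ringKrullDim_le_of_surjective (Ideal.Quotient.factor (core_le 𝒜 ℬ 𝔓))
        (Ideal.Quotient.factor_surjective (core_le 𝒜 ℬ 𝔓))
  -- homogeneous elements of positive degree outside `P'`
  have hx : ∃ (m : ℤ) (x : R), x ∈ 𝒜 m ∧ m ≠ 0 ∧ x ⊗ₜ[k] (1 : S) ∉ P' := by
    by_contra hcon
    push Not at hcon
    have h1 := dim_quotient_le_right 𝒜 ℬ h0R P' (fun m a ha hm => hcon m a ha hm)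
    rw [hP'dim, hs] at h1
    have h2 : r + s ≤ s := by exact_mod_cast h1
    omega
  have hy : ∃ (n : ℤ) (y : S), y ∈ ℬ n ∧ n ≠ 0 ∧ (1 : R) ⊗ₜ[k] y ∉ P' := by
    by_contra hcon
    push Not at hcon
    have h1 := dim_quotient_le_left 𝒜 ℬ h0S P' (fun n b hb hn => hcon n b hb hn)
    rw [hP'dim, hr] at h1
    have h2 : r + s ≤ r := by exact_mod_cast h1
    omega
  obtain ⟨m, x, hxm, hm0, hxP⟩ := hx
  obtain ⟨n, y, hyn, hn0, hyP⟩ := hy
  have hmpos : 0 ≤ m := by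
    by_contra hneg
    rw [hposR m (not_le.1 hneg), Submodule.mem_bot] at hxm
    apply hxP
    rw [hxm, TensorProduct.zero_tmul]
    exact zero_mem _
  have hnpos : 0 ≤ n := by
    by_contra hneg
    rw [hposS n (not_le.1 hneg), Submodule.mem_bot] at hyn
    apply hyP
    rw [hyn, TensorProduct.tmul_zero]
    exact zero_mem _
  obtain ⟨m', rfl⟩ := Int.eq_ofNat_of_zero_le hmpos
  obtain ⟨n', rfl⟩ := Int.eq_ofNat_of_zero_le hnpos
  have hm' : 0 < m' := by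
    rcases Nat.eq_zero_or_pos m' with h | h
    · exact absurd (by rw [h]; rfl) hm0
    · exact h
  have hn' : 0 < n' := by
    rcases Nat.eq_zero_or_pos n' with h | h
    · exact absurd (by rw [h]; rfl) hn0
    · exact h
  -- the subalgebra `E'`
  let f : T →ₐ[k] (R ⊗[k] S) ⧸ P' := (Ideal.Quotient.mkₐ k P').comp ψ
  set E' : Subalgebra k ((R ⊗[k] S) ⧸ P') := f.range with hE'
  have hmemE : ∀ v : R ⊗[k] S, v ∈ (⨆ d, diag 𝒜 ℬ d) → Ideal.Quotient.mk P' v ∈ E' := by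
    intro v hv
    obtain ⟨τ, rfl⟩ := mem_range_of_mem_iSup 𝒜 ℬ 𝒯 ψ hdeg hv
    exact ⟨τ, rfl⟩
  have htmul : ∀ (d : ℤ) (a' : R) (b' : S), a' ∈ 𝒜 d → b' ∈ ℬ d →
      Ideal.Quotient.mk P' (a' ⊗ₜ[k] b') ∈ E' := fun d a' b' ha' hb' =>
    hmemE _ (Submodule.mem_iSup_of_mem d (Submodule.subset_span ⟨a', ha', b', hb', rfl⟩))
  set X : R ⊗[k] S := x ⊗ₜ[k] (1 : S) with hX
  set Y : R ⊗[k] S := (1 : R) ⊗ₜ[k] y with hY
  set h := Ideal.Quotient.mk P' X with hh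
  set B := Algebra.adjoin E' ({h} : Set ((R ⊗[k] S) ⧸ P')) with hB
  have hhB : h ∈ B := Algebra.subset_adjoin (Set.mem_singleton h)
  have hEB : ∀ e ∈ E', e ∈ B := fun e he => Subalgebra.algebraMap_mem B (⟨e, he⟩ : E')
  have hh0 : h ≠ 0 := by
    rw [hh, ne_eq, Ideal.Quotient.eq_zero_iff_mem]; exact hxP
  have hY0 : Ideal.Quotient.mk P' Y ≠ 0 := by
    rw [ne_eq, Ideal.Quotient.eq_zero_iff_mem]; exact hyP
  -- `θ' = X^n' Y^m'`
  have hθ' : Ideal.Quotient.mk P' (X ^ n' * Y ^ m') ∈ E' := by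
    have h1 : X ^ n' * Y ^ m' = (x ^ n') ⊗ₜ[k] (y ^ m') := by
      rw [hX, hY, Algebra.TensorProduct.tmul_pow, Algebra.TensorProduct.tmul_pow,
        Algebra.TensorProduct.tmul_mul_tmul, one_pow, one_pow, mul_one, one_mul]
    rw [h1]
    refine htmul ((n' * m' : ℕ) : ℤ) _ _ ?_ ?_
    · have := SetLike.pow_mem_graded n' hxm
      convert this using 2
      simp
    · have := SetLike.pow_mem_graded m' hyn
      convert this using 2
      simp [mul_comm]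
  have hθ'0 : Ideal.Quotient.mk P' (X ^ n' * Y ^ m') ≠ 0 := by
    rw [map_mul, map_pow, map_pow]
    exact mul_ne_zero (pow_ne_zero _ hh0) (pow_ne_zero _ hY0)
  have halg : ∀ d : (R ⊗[k] S) ⧸ P', IsAlgebraic B d := by
    intro d
    obtain ⟨u, rfl⟩ := Ideal.Quotient.mk_surjective d
    refine bihom_induction 𝒜 ℬ (fun u => IsAlgebraic B (Ideal.Quotient.mk P' u)) ?_ ?_ ?_ u
    · rw [map_zero]; exact isAlgebraic_zero
    · intro u v hu hv
      rw [map_add]; exact hu.add hv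
    · intro p q a b ha hb
      set z := Ideal.Quotient.mk P' (a ⊗ₜ[k] b) with hz
      by_cases hpq : q ≤ p
      · obtain ⟨c', hc'⟩ := Int.eq_ofNat_of_zero_le (sub_nonneg.2 hpq)
        -- `θ = u^n' Y^c'`
        have hθ : Ideal.Quotient.mk P' ((a ⊗ₜ[k] b) ^ n' * Y ^ c') ∈ E' := by
          have h1 : (a ⊗ₜ[k] b) ^ n' * Y ^ c' = (a ^ n') ⊗ₜ[k] (b ^ n' * y ^ c') := by
            rw [hY, Algebra.TensorProduct.tmul_pow, Algebra.TensorProduct.tmul_pow,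
              Algebra.TensorProduct.tmul_mul_tmul, one_pow, mul_one]
          rw [h1]
          refine htmul (n' • p) _ _ (SetLike.pow_mem_graded n' ha) ?_
          have := SetLike.mul_mem_graded (SetLike.pow_mem_graded n' hb) (SetLike.pow_mem_graded c' hyn)
          convert this using 2
          simp only [nsmul_eq_mul]
          rw [← hc']
          ring
        refine isAlgebraic_adjoin_of_mul_pow_eq E' h z
          (Ideal.Quotient.mk P' (X ^ n' * Y ^ m') ^ c')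
          (Ideal.Quotient.mk P' ((a ⊗ₜ[k] b) ^ n' * Y ^ c') ^ m' * h ^ (n' * c'))
          (Subalgebra.pow_mem B (hEB _ hθ') _)
          (Subalgebra.mul_mem B (Subalgebra.pow_mem B (hEB _ hθ) _) (Subalgebra.pow_mem B hhB _))
          (pow_ne_zero _ hθ'0) (n' * m') (Nat.mul_pos hn' hm') ?_
        rw [hz, hh, ← map_pow, ← map_pow, ← map_pow, ← map_pow, ← map_mul, ← map_mul]
        congr 1
        ring
      · have hpq' : p ≤ q := le_of_not_ge hpq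
        obtain ⟨c', hc'⟩ := Int.eq_ofNat_of_zero_le (sub_nonneg.2 hpq')
        -- `θ = X^c' u^m'`
        have hθ : Ideal.Quotient.mk P' (X ^ c' * (a ⊗ₜ[k] b) ^ m') ∈ E' := by
          have h1 : X ^ c' * (a ⊗ₜ[k] b) ^ m' = (x ^ c' * a ^ m') ⊗ₜ[k] (b ^ m') := by
            rw [hX, Algebra.TensorProduct.tmul_pow, Algebra.TensorProduct.tmul_pow,
              Algebra.TensorProduct.tmul_mul_tmul, one_pow, one_mul]
          rw [h1]
          refine htmul (m' • q) _ _ ?_ (SetLike.pow_mem_graded m' hb)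
          have := SetLike.mul_mem_graded (SetLike.pow_mem_graded c' hxm) (SetLike.pow_mem_graded m' ha)
          convert this using 2
          simp only [nsmul_eq_mul]
          rw [← hc']
          ring
        have hc'0 : h ^ c' ≠ 0 := pow_ne_zero _ hh0
        refine isAlgebraic_adjoin_of_mul_pow_eq E' h z (h ^ c')
          (Ideal.Quotient.mk P' (X ^ c' * (a ⊗ₜ[k] b) ^ m'))
          (Subalgebra.pow_mem B hhB _) (hEB _ hθ) hc'0 m' hm' ?_
        rw [hz, hh, ← map_pow, ← map_pow, ← map_mul]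
  -- conclusion
  have h1 := trdeg_le_add_one (k := k) E' h halg
  haveI : Algebra.FiniteType k ((R ⊗[k] S) ⧸ P') :=
    Algebra.FiniteType.of_surjective (Ideal.Quotient.mkₐ k P') (Ideal.Quotient.mkₐ_surjective k P')
  haveI : Algebra.FiniteType k E' :=
    Algebra.FiniteType.of_surjective f.rangeRestrict f.rangeRestrict_surjective
  obtain ⟨e₁, he₁, hd₁⟩ := dim_eq_trdeg (k := k) E'
  obtain ⟨n₁, hn₁, hd'⟩ := dim_eq_trdeg (k := k) ((R ⊗[k] S) ⧸ P')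
  rw [hP'dim] at hd'
  have hn₁' : r + s = n₁ := by exact_mod_cast hd'
  rw [he₁, hn₁] at h1
  have h2 : n₁ ≤ e₁ + 1 := by exact_mod_cast h1
  have h3 : ringKrullDim E' ≤ ringKrullDim T :=
    ringKrullDim_le_of_surjective f.rangeRestrict.toRingHom f.rangeRestrict_surjective
  rw [hd₁] at h3
  refine le_trans ?_ h3
  have h4 : r + s - 1 ≤ e₁ := by omega
  exact_mod_cast h4

end lower

end Groth.Agent.Lib.Seat91.SegreDim
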