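import Groth.Agent.Lib.Seat91SocleRep
import Groth.Agent.Lib.Seat91GrDepth
import Groth.Agent.S18647

/-!
# The Segre product of a non-polynomial one-dimensional ring is not Cohen–Macaulay (seat 91)

`R`, `S` standard graded Cohen–Macaulay over a field `k`, `dim R = 1`, `dim S ≥ 2`, `dim_k R_1 ≥ 2`.
Then the Segre product `T = R # S` is not Cohen–Macaulay (`not_isCohenMacaulayRing`): for homogeneous
nonzerodivisors `x ∈ R_d`, `y ∈ S_d` and a socle representative `r ∈ R_a ∖ xR` of `R/xR`, the element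
`z = r ⊗ y w` (`0 ≠ w ∈ S_{a-d}`) is a socle element of `T/(x ⊗ y)T`, so `depth T ≤ 1 < 2 ≤ dim T`.

Namespace `Groth.Agent.Lib.Seat91.SegreCM1`.
-/

set_option autoImplicit false
set_option linter.unusedSectionVars false
set_option linter.style.haveILetI false
universe u

open DirectSum Groth.Agent.Lib.Seat91.GrIrr Groth.Agent.Lib.Seat91.SegreCoact
open scoped TensorProduct

namespace Groth.Agent.Lib.Seat91.SegreCM1

section tensor

variable {k R S : Type*} [Field k] [CommRing R] [Algebra k R] [CommRing S] [Algebra k S]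

theorem tmul_one_mul (x : R) (ξ : R ⊗[k] S) :
    (x ⊗ₜ[k] (1 : S)) * ξ = LinearMap.rTensor S (LinearMap.mulLeft k x) ξ := by
  induction ξ using TensorProduct.induction_on with
  | zero => simp
  | tmul a b => simp [Algebra.TensorProduct.tmul_mul_tmul]
  | add a b ha hb => rw [mul_add, map_add, ha, hb]

theorem one_tmul_mul (y : S) (ξ : R ⊗[k] S) :
    ((1 : R) ⊗ₜ[k] y) * ξ = LinearMap.lTensor R (LinearMap.mulLeft k y) ξ := by
  induction ξ using TensorProduct.induction_on with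
  | zero => simp
  | tmul a b => simp [Algebra.TensorProduct.tmul_mul_tmul]
  | add a b ha hb => rw [mul_add, map_add, ha, hb]

theorem tmul_one_mul_cancel {x : R} (hx : x ∈ nonZeroDivisors R) {ξ η : R ⊗[k] S}
    (h : (x ⊗ₜ[k] (1 : S)) * ξ = (x ⊗ₜ[k] (1 : S)) * η) : ξ = η := by
  rw [tmul_one_mul, tmul_one_mul] at h
  refine Module.Flat.rTensor_preserves_injective_linearMap (M := S) (LinearMap.mulLeft k x) ?_ h
  intro a b hab
  exact (mul_cancel_left_mem_nonZeroDivisors hx).1 hab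

theorem one_tmul_mul_cancel {y : S} (hy : y ∈ nonZeroDivisors S) {ξ η : R ⊗[k] S}
    (h : ((1 : R) ⊗ₜ[k] y) * ξ = ((1 : R) ⊗ₜ[k] y) * η) : ξ = η := by
  rw [one_tmul_mul, one_tmul_mul] at h
  refine Module.Flat.lTensor_preserves_injective_linearMap (M := R) (LinearMap.mulLeft k y) ?_ h
  intro a b hab
  exact (mul_cancel_left_mem_nonZeroDivisors hy).1 hab

theorem tmul_mem_nonZeroDivisors {x : R} (hx : x ∈ nonZeroDivisors R) {y : S}
    (hy : y ∈ nonZeroDivisors S) : x ⊗ₜ[k] y ∈ nonZeroDivisors (R ⊗[k] S) := by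
  rw [mem_nonZeroDivisors_iff_left]
  intro ξ hξ
  have e : x ⊗ₜ[k] y = (x ⊗ₜ[k] (1 : S)) * ((1 : R) ⊗ₜ[k] y) := by
    rw [Algebra.TensorProduct.tmul_mul_tmul, mul_one, one_mul]
  rw [e, mul_assoc] at hξ
  have h1 : ((1 : R) ⊗ₜ[k] y) * ξ = 0 := by
    apply tmul_one_mul_cancel hx
    rw [hξ, mul_zero]
  apply one_tmul_mul_cancel hy
  rw [h1, mul_zero]

/-- `a ⊗ b ↦ λ(b) a` -/
noncomputable def lam' (lam : S →ₗ[k] k) : R ⊗[k] S →ₗ[k] R :=
  (TensorProduct.rid k R).toLinearMap ∘ₗ (LinearMap.lTensor R lam)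

theorem lam'_tmul (lam : S →ₗ[k] k) (a : R) (b : S) :
    lam' lam (a ⊗ₜ[k] b) = lam b • a := by
  simp [lam']

theorem lam'_tmul_one_mul (lam : S →ₗ[k] k) (x : R) (ξ : R ⊗[k] S) :
    lam' lam ((x ⊗ₜ[k] (1 : S)) * ξ) = x * lam' lam ξ := by
  induction ξ using TensorProduct.induction_on with
  | zero => simp
  | tmul a b =>
    rw [Algebra.TensorProduct.tmul_mul_tmul, one_mul, lam'_tmul, lam'_tmul, mul_smul_comm]
  | add a b ha hb => rw [mul_add, map_add, ha, hb, map_add, mul_add]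

end tensor

section core

variable {k R S T : Type*} [Field k] [CommRing R] [Algebra k R] [CommRing S] [Algebra k S]
  [CommRing T] [Algebra k T]
  (𝒜 : ℤ → Submodule k R) [GradedAlgebra 𝒜] (ℬ : ℤ → Submodule k S) [GradedAlgebra ℬ]
  (𝒯 : ℤ → Submodule k T) [GradedAlgebra 𝒯]
  (ψ : T →ₐ[k] R ⊗[k] S)
  (hdeg : ∀ n : ℤ, (𝒯 n).map ψ.toLinearMap = diag 𝒜 ℬ n)

include hdeg in
/-- the socle element of `T/(x ⊗ y)` -/
theorem socle_core (hψ : Function.Injective ψ)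
    {d a : ℕ} (hd : 0 < d) {x : R} (hx : x ∈ 𝒜 (d : ℤ))
    (hxreg : x ∈ nonZeroDivisors R) {y : S} (hy : y ∈ ℬ (d : ℤ)) (hyreg : y ∈ nonZeroDivisors S)
    {r : R} (hr : r ∈ 𝒜 (a : ℤ)) (hrx : r ∉ Ideal.span {x})
    (hdiv : ∀ m : ℕ, 0 < m → ∀ x' ∈ 𝒜 (m : ℤ), ∃ r' ∈ 𝒜 ((a : ℤ) + m - d), x' * r = x * r')
    {w : S} (hw : w ∈ ℬ ((a : ℤ) - d)) (hw0 : w ≠ 0) :
    ∃ t z : T, t ∈ irr 𝒯 ∧ t ∈ nonZeroDivisors T ∧ (∀ u ∈ irr 𝒯, u * z ∈ Ideal.span {t}) ∧
      z ∉ Ideal.span {t} := by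
  classical
  have hxy : x ⊗ₜ[k] y ∈ diag 𝒜 ℬ (d : ℤ) := Submodule.subset_span ⟨x, hx, y, hy, rfl⟩
  rw [← hdeg] at hxy
  obtain ⟨t, htd, ht⟩ := hxy
  have ht' : ψ t = x ⊗ₜ[k] y := ht
  have hyw : y * w ∈ ℬ (a : ℤ) := by
    have := SetLike.mul_mem_graded hy hw
    rwa [show (d : ℤ) + ((a : ℤ) - d) = a by ring] at this
  have hrz : r ⊗ₜ[k] (y * w) ∈ diag 𝒜 ℬ (a : ℤ) := Submodule.subset_span ⟨r, hr, _, hyw, rfl⟩
  rw [← hdeg] at hrz
  obtain ⟨z, hza, hz⟩ := hrz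
  have hz' : ψ z = r ⊗ₜ[k] (y * w) := hz
  refine ⟨t, z, mem_irr_of_mem 𝒯 (by exact_mod_cast hd) htd, ?_, ?_, ?_⟩
  · apply mem_nonZeroDivisors_of_injective (f := ψ) hψ
    rw [ht']
    exact tmul_mem_nonZeroDivisors hxreg hyreg
  · -- `T_+ z ⊆ tT`
    have hhom : ∀ m : ℤ, 0 < m → ∀ u ∈ 𝒯 m, u * z ∈ Ideal.span {t} := by
      intro m hm u hu
      obtain ⟨m', rfl⟩ := Int.eq_ofNat_of_zero_le hm.le
      have hm' : 0 < m' := by exact_mod_cast hm
      have hψu : ψ u ∈ diag 𝒜 ℬ (m' : ℤ) := by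
        rw [← hdeg]; exact ⟨u, hu, rfl⟩
      have key : ∀ ξ ∈ diag 𝒜 ℬ (m' : ℤ), ∃ v : T, ξ * ψ z = ψ (t * v) := by
        intro ξ hξ
        induction hξ using Submodule.span_induction with
        | mem ξ hξ =>
          obtain ⟨a', ha', b', hb', rfl⟩ := hξ
          obtain ⟨r', hr', hrr'⟩ := hdiv m' hm' a' ha'
          have hbw : b' * w ∈ ℬ ((a : ℤ) + m' - d) := by
            have := SetLike.mul_mem_graded hb' hw
            rwa [show (m' : ℤ) + ((a : ℤ) - d) = (a : ℤ) + m' - d by ring] at this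
          have hv : r' ⊗ₜ[k] (b' * w) ∈ diag 𝒜 ℬ ((a : ℤ) + m' - d) :=
            Submodule.subset_span ⟨r', hr', _, hbw, rfl⟩
          rw [← hdeg] at hv
          obtain ⟨v, -, hv⟩ := hv
          have hv' : ψ v = r' ⊗ₜ[k] (b' * w) := hv
          refine ⟨v, ?_⟩
          rw [map_mul, ht', hv', hz', Algebra.TensorProduct.tmul_mul_tmul,
            Algebra.TensorProduct.tmul_mul_tmul, hrr']
          congr 1
          ring
        | zero => exact ⟨0, by simp⟩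
        | add ξ η _ _ h h' =>
          obtain ⟨v, hv⟩ := h
          obtain ⟨v', hv'⟩ := h'
          exact ⟨v + v', by rw [add_mul, hv, hv', mul_add, map_add]⟩
        | smul c ξ _ h =>
          obtain ⟨v, hv⟩ := h
          exact ⟨c • v, by rw [smul_mul_assoc, hv, mul_smul_comm, map_smul]⟩
      obtain ⟨v, hv⟩ := key _ hψu
      rw [← map_mul] at hv
      rw [hψ hv]
      exact Ideal.mul_mem_right _ _ (Ideal.subset_span rfl)
    intro u hu
    induction hu using Submodule.span_induction with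
    | mem u hu =>
      simp only [Set.mem_iUnion, Set.mem_Ioi, SetLike.mem_coe] at hu
      obtain ⟨m, hm, hum⟩ := hu
      exact hhom m hm u hum
    | zero => simp
    | add u u' _ _ h h' => rw [add_mul]; exact Ideal.add_mem _ h h'
    | smul c u _ h => rw [smul_eq_mul, mul_assoc]; exact Ideal.mul_mem_left _ _ h
  · -- `z ∉ tT`
    intro hzt
    obtain ⟨v, hv⟩ := Ideal.mem_span_singleton'.1 hzt
    have h1 := congrArg ψ hv
    rw [map_mul, ht', hz'] at h1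
    have e1 : r ⊗ₜ[k] (y * w) = ((1 : R) ⊗ₜ[k] y) * (r ⊗ₜ[k] w) := by
      rw [Algebra.TensorProduct.tmul_mul_tmul, one_mul]
    have e2 : ψ v * (x ⊗ₜ[k] y) = ((1 : R) ⊗ₜ[k] y) * ((x ⊗ₜ[k] (1 : S)) * ψ v) := by
      rw [← mul_assoc, Algebra.TensorProduct.tmul_mul_tmul, one_mul, mul_one, mul_comm]
    rw [e1, e2] at h1
    have h2 := one_tmul_mul_cancel hyreg h1
    obtain ⟨lam, hlam⟩ : ∃ lam : Module.Dual k S, lam w ≠ 0 := by
      by_contra hcon
      push Not at hcon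
      exact hw0 ((Module.forall_dual_apply_eq_zero_iff k w).1 hcon)
    have h3 := congrArg (lam' (R := R) lam) h2
    rw [lam'_tmul_one_mul, lam'_tmul] at h3
    apply hrx
    rw [Ideal.mem_span_singleton']
    refine ⟨(lam w)⁻¹ • lam' (R := R) lam (ψ v), ?_⟩
    rw [smul_mul_assoc, mul_comm, h3, smul_smul, inv_mul_cancel₀ hlam, one_smul]

end core

section main

variable {k R S T : Type u} [Field k] [CommRing R] [Algebra k R] [CommRing S] [Algebra k S]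
  [CommRing T] [Algebra k T]
  (𝒜 : ℤ → Submodule k R) [GradedAlgebra 𝒜] (ℬ : ℤ → Submodule k S) [GradedAlgebra ℬ]
  (𝒯 : ℤ → Submodule k T) [GradedAlgebra 𝒯]
  (ψ : T →ₐ[k] R ⊗[k] S)
  (hdeg : ∀ n : ℤ, (𝒯 n).map ψ.toLinearMap = diag 𝒜 ℬ n)

/-- a nontrivial algebra of finite type over a field has finite Krull dimension -/
theorem exists_nat_ringKrullDim (k S : Type*) [Field k] [CommRing S] [Algebra k S]
    [hft : Algebra.FiniteType k S] [Nontrivial S] : ∃ s : ℕ, ringKrullDim S = s := by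
  obtain ⟨n, f, hf⟩ := Algebra.FiniteType.iff_quotient_mvPolynomial''.mp hft
  have hle : ringKrullDim S ≤ (n : WithBot ℕ∞) := by
    have h1 := ringKrullDim_le_of_surjective (f : MvPolynomial (Fin n) k →+* S) hf
    rw [MvPolynomial.ringKrullDim_of_isNoetherianRing, ringKrullDim_eq_zero_of_field,
      Nat.card_eq_fintype_card, Fintype.card_fin, zero_add] at h1
    exact h1
  have hnb : ringKrullDim S ≠ ⊥ := by
    intro h
    have h3 := ringKrullDim_nonneg_of_nontrivial (R := S)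
    rw [h] at h3
    exact absurd h3 (by decide)
  obtain ⟨e, he⟩ := WithBot.ne_bot_iff_exists.1 hnb
  rw [← he] at hle
  have h2 : e ≤ (n : ℕ∞) := by exact_mod_cast hle
  obtain ⟨s, hs⟩ := ENat.ne_top_iff_exists.1 (ne_top_of_le_ne_top (ENat.natCast_ne_top n) h2)
  exact ⟨s, by rw [← he, ← hs]; rfl⟩

include hdeg in
/-- **the Segre product with a non-polynomial one-dimensional ring is not Cohen–Macaulay** -/
theorem not_isCohenMacaulayRing [Algebra.FiniteType k R] [Algebra.FiniteType k S]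
    (hψ : Function.Injective ψ)
    (hposR : ∀ n : ℤ, n < 0 → 𝒜 n = ⊥) (h0R : 𝒜 0 = Submodule.span k {(1 : R)})
    (hposS : ∀ n : ℤ, n < 0 → ℬ n = ⊥) (h0S : ℬ 0 = Submodule.span k {(1 : S)})
    [LocCoh.IsCohenMacaulayRing R] [LocCoh.IsCohenMacaulayRing S]
    (hstdR : irr 𝒜 = Ideal.span ((𝒜 1 : Submodule k R) : Set R))
    (hstdS : irr ℬ = Ideal.span ((ℬ 1 : Submodule k S) : Set S))
    (hr : ringKrullDim R = 1) (hs : 2 ≤ ringKrullDim S)
    (hH : ¬ ∃ y ∈ 𝒜 1, 𝒜 1 ≤ Submodule.span k {y}) : ¬ LocCoh.IsCohenMacaulayRing T := by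
  classical
  intro hT
  have hntR : Nontrivial R := by
    by_contra h
    rw [not_nontrivial_iff_subsingleton] at h
    rw [ringKrullDim_eq_bot_of_subsingleton] at hr
    exact absurd hr (by decide)
  have hntS : Nontrivial S := by
    by_contra h
    rw [not_nontrivial_iff_subsingleton] at h
    rw [ringKrullDim_eq_bot_of_subsingleton] at hs
    exact absurd hs (by decide)
  obtain ⟨s, hs'⟩ := exists_nat_ringKrullDim k S
  have h2s : 2 ≤ s := by
    rw [hs'] at hs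
    exact_mod_cast hs
  have hr' : ringKrullDim R = ((1 : ℕ) : WithBot ℕ∞) := by rw [hr]; rfl
  have hdimT := Groth.Agent.S18647.result k R 𝒜 hposR h0R S ℬ hposS h0S T 𝒯 ψ hψ hdeg 1 s hr' hs'
    le_rfl (by omega)
  have hntT : Nontrivial T := by
    by_contra h
    rw [not_nontrivial_iff_subsingleton] at h
    rw [ringKrullDim_eq_bot_of_subsingleton] at hdimT
    exact absurd hdimT.symm (WithBot.coe_ne_bot)
  have : Algebra.FiniteType k (R ⊗[k] S) := Groth.Agent.Lib.Seat91.SegreDim.finiteType_tensor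
  have : IsNoetherianRing (R ⊗[k] S) := Algebra.FiniteType.isNoetherianRing k _
  have hftT : Algebra.FiniteType k T :=
    Groth.Agent.Lib.Seat91.SegreRetract.finiteType 𝒜 ℬ 𝒯 ψ hdeg hψ hposR h0R h0S
  have h0T : 𝒯 0 = Submodule.span k {(1 : T)} :=
    Groth.Agent.Lib.Seat91.SegreRetract.zero_eq 𝒜 ℬ 𝒯 ψ hdeg hψ h0R h0S
  have hposT : ∀ n : ℤ, n < 0 → 𝒯 n = ⊥ :=
    Groth.Agent.Lib.Seat91.SegreRetract.neg_eq_bot 𝒜 ℬ 𝒯 ψ hdeg hψ hposR
  have hht : 2 ≤ (irr 𝒯).height := by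
    have := Groth.Agent.Lib.Seat91.GrDepth.natCast_le_height_irr 𝒯 hposT h0T 2 (by
      rw [hdimT]
      exact_mod_cast (by omega : 2 ≤ 1 + s - 1))
    exact_mod_cast this
  -- homogeneous nonzerodivisors of a common degree
  obtain ⟨d₁, hd₁, x₁, hx₁, hx₁reg⟩ :=
    Groth.Agent.Lib.Seat91.HomogAvoid.exists_homogeneous_nonZeroDivisor 𝒜 hposR h0R hr.ge
  obtain ⟨d₂, hd₂, y₂, hy₂, hy₂reg⟩ :=
    Groth.Agent.Lib.Seat91.HomogAvoid.exists_homogeneous_nonZeroDivisor ℬ hposS h0S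
      (le_trans (by norm_num) hs)
  have hx : x₁ ^ d₂ ∈ 𝒜 ((d₁ * d₂ : ℕ) : ℤ) :=
    Groth.Agent.Lib.Seat91.HomogAvoid.pow_mem_nat 𝒜 hx₁ d₂
  have hy : y₂ ^ d₁ ∈ ℬ ((d₁ * d₂ : ℕ) : ℤ) := by
    have := Groth.Agent.Lib.Seat91.HomogAvoid.pow_mem_nat ℬ hy₂ d₁
    rwa [Nat.mul_comm] at this
  have hxreg : x₁ ^ d₂ ∈ nonZeroDivisors R := pow_mem hx₁reg d₂
  have hyreg : y₂ ^ d₁ ∈ nonZeroDivisors S := pow_mem hy₂reg d₁
  have hd : 0 < d₁ * d₂ := Nat.mul_pos hd₁ hd₂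
  obtain ⟨a, hda, r, hra, hrx, hdiv⟩ :=
    Groth.Agent.Lib.Seat91.SocleRep.exists_socle_rep 𝒜 hposR h0R hstdR hr hH hd hx hxreg
  obtain ⟨w, hw, hw0⟩ := Groth.Agent.Lib.Seat91.PolyGraded.exists_ne_zero_of_cm ℬ hposS h0S hstdS
    (le_trans (by norm_num) hs) (a - d₁ * d₂)
  rw [Nat.cast_sub hda] at hw
  obtain ⟨t, z, ht, htreg, hz, hzt⟩ :=
    socle_core 𝒜 ℬ 𝒯 ψ hdeg hψ hd hx hxreg hy hyreg hra hrx hdiv hw hw0
  exact hzt (Groth.Agent.Lib.Seat91.GrDepth.mem_span_of_irr_mul_mem 𝒯 hposT h0T hht ht htreg hz)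

end main

end Groth.Agent.Lib.Seat91.SegreCM1
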