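import Groth.Agent.S18647
import Groth.Agent.Lib.Seat91GrQuotZ

/-!
# The Segre product of two graded quotient rings (seat 91)

For homogeneous ideals `I ⊆ R`, `J ⊆ S` and `T = R # S` (through `ψ`), the quotient of `T` by the
kernel of `T → R ⊗ S → R/I ⊗ S/J` is the Segre product `(R/I) # (S/J)`; hence, by S18647, its
dimension is `dim R/I + dim S/J - 1` (`dim_quot`).

Namespace `Groth.Agent.Lib.Seat91.SegreQuot`.
-/

set_option autoImplicit false
set_option linter.unusedSectionVars false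
set_option linter.style.haveILetI false
universe u

open scoped TensorProduct
open DirectSum Groth.Agent.Lib.Seat91.GrQuotZ

namespace Groth.Agent.Lib.Seat91.SegreQuot

section defs

variable {k R S : Type*} [CommRing k] [CommRing R] [Algebra k R] [CommRing S] [Algebra k S]

/-- `R ⊗ S → R/I ⊗ S/J` -/
noncomputable def piQ (I : Ideal R) (J : Ideal S) : R ⊗[k] S →ₐ[k] (R ⧸ I) ⊗[k] (S ⧸ J) :=
  Algebra.TensorProduct.map (Ideal.Quotient.mkₐ k I) (Ideal.Quotient.mkₐ k J)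

@[simp] theorem piQ_tmul (I : Ideal R) (J : Ideal S) (a : R) (b : S) :
    piQ (k := k) I J (a ⊗ₜ[k] b) = Ideal.Quotient.mk I a ⊗ₜ[k] Ideal.Quotient.mk J b := by
  simp [piQ]

theorem piQ_surjective (I : Ideal R) (J : Ideal S) : Function.Surjective (piQ (k := k) I J) :=
  Algebra.TensorProduct.map_surjective _ _ (Ideal.Quotient.mkₐ_surjective k I)
    (Ideal.Quotient.mkₐ_surjective k J)

theorem ker_piQ (I : Ideal R) (J : Ideal S) :
    RingHom.ker (piQ (k := k) I J) =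
      I.map (Algebra.TensorProduct.includeLeft : R →ₐ[k] R ⊗[k] S) ⊔
        J.map (Algebra.TensorProduct.includeRight : S →ₐ[k] R ⊗[k] S) := by
  unfold piQ
  have h1 : RingHom.ker (Ideal.Quotient.mkₐ k I) = I :=
    Ideal.ext fun x => by rw [RingHom.mem_ker]; exact Ideal.Quotient.eq_zero_iff_mem
  have h2 : RingHom.ker (Ideal.Quotient.mkₐ k J) = J :=
    Ideal.ext fun x => by rw [RingHom.mem_ker]; exact Ideal.Quotient.eq_zero_iff_mem
  rw [Algebra.TensorProduct.map_ker _ _ (Ideal.Quotient.mkₐ_surjective k I)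
    (Ideal.Quotient.mkₐ_surjective k J), h1, h2]

end defs

section main

variable {k R S T : Type u} [Field k] [CommRing R] [Algebra k R] [CommRing S] [Algebra k S]
  [CommRing T] [Algebra k T]
  (𝒜 : ℤ → Submodule k R) [GradedAlgebra 𝒜] (ℬ : ℤ → Submodule k S) [GradedAlgebra ℬ]
  (𝒯 : ℤ → Submodule k T) [GradedAlgebra 𝒯] (ψ : T →ₐ[k] R ⊗[k] S)
  (hdeg : ∀ n : ℤ, (𝒯 n).map ψ.toLinearMap =
    Submodule.span k {x : R ⊗[k] S | ∃ a ∈ 𝒜 n, ∃ b ∈ ℬ n, x = a ⊗ₜ[k] b})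
  (I : Ideal R) (hI : I.IsHomogeneous 𝒜) (J : Ideal S)

/-- the kernel of `T → R/I ⊗ S/J` -/
noncomputable def kerQ : Ideal T := RingHom.ker ((piQ (k := k) I J).comp ψ)

theorem mem_kerQ (t : T) : t ∈ kerQ ψ I J ↔ piQ (k := k) I J (ψ t) = 0 := Iff.rfl

include hdeg in
theorem map_piece (n : ℤ) :
    (𝒯 n).map ((piQ (k := k) I J).comp ψ).toLinearMap =
      Submodule.span k {x : (R ⧸ I) ⊗[k] (S ⧸ J) | ∃ a ∈ qgr 𝒜 I n, ∃ b ∈ qgr ℬ J n,
        x = a ⊗ₜ[k] b} := by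
  have h1 : ((piQ (k := k) I J).comp ψ).toLinearMap =
      (piQ (k := k) I J).toLinearMap ∘ₗ ψ.toLinearMap := rfl
  rw [h1, Submodule.map_comp, hdeg n, Submodule.map_span]
  congr 1
  ext x
  constructor
  · rintro ⟨_, ⟨a, ha, b, hb, rfl⟩, rfl⟩
    exact ⟨_, mk_mem_qgr 𝒜 I ha, _, mk_mem_qgr ℬ J hb, by simp⟩
  · rintro ⟨_, ⟨a, ha, rfl⟩, _, ⟨b, hb, rfl⟩, rfl⟩
    exact ⟨a ⊗ₜ[k] b, ⟨a, ha, b, hb, rfl⟩, by simp⟩

include hdeg hI in
theorem kerQ_isHomogeneous : (kerQ ψ I J).IsHomogeneous 𝒯 := by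
  classical
  letI : GradedAlgebra (qgr 𝒜 I) := gradedAlgebraQuot 𝒜 I hI
  set f := (piQ (k := k) I J).comp ψ with hf
  intro n t ht
  -- the projection to `R'`-degree `n`
  let E : (R ⧸ I) ⊗[k] (S ⧸ J) →ₗ[k] (R ⧸ I) ⊗[k] (S ⧸ J) :=
    TensorProduct.map (GradedAlgebra.proj (qgr 𝒜 I) n) LinearMap.id
  have hE : ∀ (m : ℤ) (τ : T), τ ∈ 𝒯 m → E (f τ) = if m = n then f τ else 0 := by
    intro m τ hτ
    have h1 : f τ ∈ (𝒯 m).map f.toLinearMap := ⟨τ, hτ, rfl⟩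
    rw [hf, map_piece 𝒜 ℬ 𝒯 ψ hdeg I J m] at h1
    rw [← hf] at h1
    generalize f τ = y at h1 ⊢
    induction h1 using Submodule.span_induction with
    | mem x hx =>
      obtain ⟨a, ha, b, hb, rfl⟩ := hx
      show (GradedAlgebra.proj (qgr 𝒜 I) n a) ⊗ₜ[k] b = _
      rw [GradedAlgebra.proj_apply]
      split_ifs with hmn
      · subst hmn
        rw [DirectSum.decompose_of_mem_same _ ha]
      · rw [DirectSum.decompose_of_mem_ne _ ha hmn, TensorProduct.zero_tmul]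
    | zero => simp
    | add x y _ _ hx hy =>
      rw [map_add, hx, hy]
      split_ifs <;> simp
    | smul c x _ hx =>
      rw [map_smul, hx]
      split_ifs <;> simp
  have h2 : f t = 0 := ht
  have h3 : f t = ∑ m ∈ (decompose 𝒯 t).support, f ((decompose 𝒯 t m : 𝒯 m) : T) := by
    conv_lhs => rw [← DirectSum.sum_support_decompose 𝒯 t]
    rw [map_sum]
  have h4 : E (f t) = f ((decompose 𝒯 t n : 𝒯 n) : T) := by
    rw [h3, map_sum]
    rw [Finset.sum_congr rfl fun m _ => hE m _ (SetLike.coe_mem (decompose 𝒯 t m))]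
    rw [Finset.sum_ite_eq' (decompose 𝒯 t).support n]
    split_ifs with hn
    · rfl
    · rw [DFinsupp.notMem_support_iff.1 hn]
      simp
  show f ((decompose 𝒯 t n : 𝒯 n) : T) = 0
  rw [← h4, h2, map_zero]

variable (hJ : J.IsHomogeneous ℬ)

include hdeg hI hJ in
/-- **dimension of the Segre product of two graded quotients** -/
theorem dim_quot
    (hposR : ∀ n : ℤ, n < 0 → 𝒜 n = ⊥) (h0R : 𝒜 0 = Submodule.span k {(1 : R)})
    (hposS : ∀ n : ℤ, n < 0 → ℬ n = ⊥) (h0S : ℬ 0 = Submodule.span k {(1 : S)})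
    [Algebra.FiniteType k R] [Algebra.FiniteType k S]
    (r s : ℕ) (hr : ringKrullDim (R ⧸ I) = r) (hs : ringKrullDim (S ⧸ J) = s)
    (h1r : 1 ≤ r) (h1s : 1 ≤ s) :
    ringKrullDim (T ⧸ kerQ ψ I J) = ((r + s - 1 : ℕ) : WithBot ℕ∞) := by
  classical
  letI : GradedAlgebra (qgr 𝒜 I) := gradedAlgebraQuot 𝒜 I hI
  letI : GradedAlgebra (qgr ℬ J) := gradedAlgebraQuot ℬ J hJ
  have hhom := kerQ_isHomogeneous 𝒜 ℬ 𝒯 ψ hdeg I hI J
  letI : GradedAlgebra (qgr 𝒯 (kerQ ψ I J)) := gradedAlgebraQuot 𝒯 (kerQ ψ I J) hhom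
  haveI : Algebra.FiniteType k (R ⧸ I) :=
    Algebra.FiniteType.of_surjective (Ideal.Quotient.mkₐ k I) (Ideal.Quotient.mkₐ_surjective k I)
  haveI : Algebra.FiniteType k (S ⧸ J) :=
    Algebra.FiniteType.of_surjective (Ideal.Quotient.mkₐ k J) (Ideal.Quotient.mkₐ_surjective k J)
  set f := (piQ (k := k) I J).comp ψ with hf
  let ψ' : T ⧸ kerQ ψ I J →ₐ[k] (R ⧸ I) ⊗[k] (S ⧸ J) := Ideal.kerLiftAlg f
  have hψ' : Function.Injective ψ' := Ideal.kerLiftAlg_injective f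
  refine Groth.Agent.S18647.result k (R ⧸ I) (qgr 𝒜 I) (fun n hn => qgr_eq_bot 𝒜 I (hposR n hn))
    (qgr_eq_span_one 𝒜 I h0R) (S ⧸ J) (qgr ℬ J) (fun n hn => qgr_eq_bot ℬ J (hposS n hn))
    (qgr_eq_span_one ℬ J h0S) (T ⧸ kerQ ψ I J) (qgr 𝒯 (kerQ ψ I J)) ψ' hψ' ?_ r s hr hs h1r h1s
  intro n
  rw [← map_piece 𝒜 ℬ 𝒯 ψ hdeg I J n]
  unfold qgr
  rw [← Submodule.map_comp]
  congr 1

end main

end Groth.Agent.Lib.Seat91.SegreQuot
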