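import Groth.Prelude.Def_GrSeg
import Groth.Agent.Lib.Seat91SegreQuot
import Groth.Agent.Lib.Seat91CMGraded

/-!
# Dimension of the Segre product of two graded Cohen–Macaulay modules (seat 91)

`supportDim_le`: `dim (M # N) ≤ dim M + dim N - 1` (no CM hypothesis), through `ann M`, `ann N`
and `SegreQuot.dim_quot`.
`le_supportDim`: for nonzero `M # N` and `M`, `N` Cohen–Macaulay, `dim (M # N) ≥ dim M + dim N - 1`,
through a nonzero `x ⊗ y`, `x ∈ M_n`, `y ∈ N_n`: `T/ann(x # y) = (R/ann x) # (S/ann y)` and graded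
unmixedness (`CMGraded.le_dim_quotient_annihilator`).

Namespace `Groth.Agent.Lib.Seat91.SegreMod`.
-/

set_option autoImplicit false
set_option linter.unusedSectionVars false
set_option linter.style.haveILetI false
universe u

open scoped TensorProduct
open DirectSum Groth.Agent.Lib.Seat91.SegreQuot Groth.Agent.Lib.Seat91.GrIrr

namespace Groth.Agent.Lib.Seat91.SegreMod

section act

variable {k : Type u} [CommRing k] {R S : Type u} [CommRing R] [CommRing S] [Algebra k R]
  [Algebra k S] {M N : Type u} [AddCommGroup M] [Module R M] [Module k M] [IsScalarTower k R M]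
  [AddCommGroup N] [Module S N] [Module k N] [IsScalarTower k S N]

theorem act_mul (b b' : R ⊗[k] S) (e : M ⊗[k] N) :
    GrSeg.act k R S M N (b * b') e = GrSeg.act k R S M N b (GrSeg.act k R S M N b' e) := by
  induction e using TensorProduct.induction_on with
  | zero => simp
  | add x y hx hy => rw [map_add, hx, hy, map_add, map_add]
  | tmul m n =>
    induction b' using TensorProduct.induction_on with
    | zero => simp
    | add x y hx hy =>
      rw [mul_add, map_add, LinearMap.add_apply, hx, hy, map_add, LinearMap.add_apply, map_add]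
    | tmul r' s' =>
      induction b using TensorProduct.induction_on with
      | zero => simp
      | add x y hx hy =>
        rw [add_mul, map_add, LinearMap.add_apply, hx, hy, map_add, LinearMap.add_apply]
      | tmul r s =>
        rw [Algebra.TensorProduct.tmul_mul_tmul, GrSeg.act_tmul, GrSeg.act_tmul, GrSeg.act_tmul,
          mul_smul, mul_smul]

theorem act_includeLeft_eq_zero {a : R} (ha : a ∈ Module.annihilator R M) (e : M ⊗[k] N) :
    GrSeg.act k R S M N (a ⊗ₜ[k] (1 : S)) e = 0 := by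
  induction e using TensorProduct.induction_on with
  | zero => simp
  | add x y hx hy => rw [map_add, hx, hy, add_zero]
  | tmul m n =>
    rw [GrSeg.act_tmul, Module.mem_annihilator.1 ha m, TensorProduct.zero_tmul]

theorem act_includeRight_eq_zero {b : S} (hb : b ∈ Module.annihilator S N) (e : M ⊗[k] N) :
    GrSeg.act k R S M N ((1 : R) ⊗ₜ[k] b) e = 0 := by
  induction e using TensorProduct.induction_on with
  | zero => simp
  | add x y hx hy => rw [map_add, hx, hy, add_zero]
  | tmul m n =>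
    rw [GrSeg.act_tmul, Module.mem_annihilator.1 hb n, TensorProduct.tmul_zero]

/-- `ker (R ⊗ S → R/ann M ⊗ S/ann N)` acts as zero on `M ⊗ N` -/
theorem act_eq_zero_of_piQ_eq_zero {u : R ⊗[k] S}
    (hu : piQ (k := k) (Module.annihilator R M) (Module.annihilator S N) u = 0) (e : M ⊗[k] N) :
    GrSeg.act k R S M N u e = 0 := by
  have h1 : u ∈ RingHom.ker (piQ (k := k) (Module.annihilator R M) (Module.annihilator S N)) := hu
  rw [ker_piQ, Submodule.mem_sup] at h1
  obtain ⟨u₁, hu₁, u₂, hu₂, rfl⟩ := h1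
  have hL : ∀ v ∈ (Module.annihilator R M).map
      (Algebra.TensorProduct.includeLeft : R →ₐ[k] R ⊗[k] S), ∀ e : M ⊗[k] N,
      GrSeg.act k R S M N v e = 0 := by
    intro v hv
    unfold Ideal.map at hv
    induction hv using Submodule.span_induction with
    | mem x hx =>
      obtain ⟨a, ha, rfl⟩ := hx
      exact fun e => act_includeLeft_eq_zero ha e
    | zero => intro e; simp
    | add x y _ _ hx hy => intro e; rw [map_add, LinearMap.add_apply, hx, hy, add_zero]
    | smul c x _ hx =>
      intro e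
      rw [smul_eq_mul, act_mul, hx, map_zero]
  have hR : ∀ v ∈ (Module.annihilator S N).map
      (Algebra.TensorProduct.includeRight : S →ₐ[k] R ⊗[k] S), ∀ e : M ⊗[k] N,
      GrSeg.act k R S M N v e = 0 := by
    intro v hv
    unfold Ideal.map at hv
    induction hv using Submodule.span_induction with
    | mem x hx =>
      obtain ⟨a, ha, rfl⟩ := hx
      exact fun e => act_includeRight_eq_zero ha e
    | zero => intro e; simp
    | add x y _ _ hx hy => intro e; rw [map_add, LinearMap.add_apply, hx, hy, add_zero]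
    | smul c x _ hx =>
      intro e
      rw [smul_eq_mul, act_mul, hx, map_zero]
  rw [map_add, LinearMap.add_apply, hL u₁ hu₁, hR u₂ hu₂, add_zero]

end act

section iota

variable {k : Type u} [Field k] {R S : Type u} [CommRing R] [CommRing S] [Algebra k R]
  [Algebra k S] {M N : Type u} [AddCommGroup M] [Module R M] [Module k M] [IsScalarTower k R M]
  [AddCommGroup N] [Module S N] [Module k N] [IsScalarTower k S N]

/-- `R/ann(x) → M`, `ā ↦ a • x`, as a `k`-linear map -/
noncomputable def iotaX (x : M) : (R ⧸ Ideal.torsionOf R M x) →ₗ[k] M :=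
  (((Submodule.span R {x}).subtype).comp
    (Ideal.quotTorsionOfEquivSpanSingleton R M x).toLinearMap).restrictScalars k

theorem iotaX_mk (x : M) (a : R) : iotaX (k := k) x (Ideal.Quotient.mk _ a) = a • x := rfl

theorem iotaX_injective (x : M) : Function.Injective (iotaX (k := k) (R := R) x) := by
  intro a b hab
  have : (Ideal.quotTorsionOfEquivSpanSingleton R M x) a =
      (Ideal.quotTorsionOfEquivSpanSingleton R M x) b := Subtype.ext hab
  exact (Ideal.quotTorsionOfEquivSpanSingleton R M x).injective this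

/-- `R/ann(x) ⊗ S/ann(y) → M ⊗ N` -/
noncomputable def iotaXY (x : M) (y : N) :
    (R ⧸ Ideal.torsionOf R M x) ⊗[k] (S ⧸ Ideal.torsionOf S N y) →ₗ[k] M ⊗[k] N :=
  TensorProduct.map (iotaX x) (iotaX y)

theorem iotaXY_injective (x : M) (y : N) :
    Function.Injective (iotaXY (k := k) (R := R) (S := S) x y) :=
  TensorProduct.map_injective_of_flat_flat _ _ (iotaX_injective x) (iotaX_injective y)

theorem act_tmul_eq_iotaXY (x : M) (y : N) (u : R ⊗[k] S) :
    GrSeg.act k R S M N u (x ⊗ₜ[k] y) =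
      iotaXY x y (piQ (k := k) (Ideal.torsionOf R M x) (Ideal.torsionOf S N y) u) := by
  induction u using TensorProduct.induction_on with
  | zero => simp
  | add u v hu hv => rw [map_add, LinearMap.add_apply, hu, hv, map_add, map_add]
  | tmul a b =>
    rw [GrSeg.act_tmul, piQ_tmul]
    rfl

end iota

section main

variable {k : Type u} [Field k] {R : Type u} [CommRing R] [Algebra k R]
  (𝒜 : ℤ → Submodule k R) [GradedAlgebra 𝒜]
  {S : Type u} [CommRing S] [Algebra k S] (ℬ : ℤ → Submodule k S) [GradedAlgebra ℬ]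
  {T : Type u} [CommRing T] [Algebra k T] (𝒯 : ℤ → Submodule k T) [GradedAlgebra 𝒯]
  (ψ : T →ₐ[k] R ⊗[k] S)
  {M : Type u} [AddCommGroup M] [Module R M] [Module k M] [IsScalarTower k R M]
  (ℳ : ℤ → AddSubgroup M) [DirectSum.Decomposition ℳ] [SetLike.GradedSMul 𝒜 ℳ]
  {N : Type u} [AddCommGroup N] [Module S N] [Module k N] [IsScalarTower k S N]
  (𝒩 : ℤ → AddSubgroup N) [DirectSum.Decomposition 𝒩] [SetLike.GradedSMul ℬ 𝒩]
  {P : Type u} [AddCommGroup P] [Module T P] [Module k P] [IsScalarTower k T P]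
  (𝒬 : ℤ → AddSubgroup P) [DirectSum.Decomposition 𝒬] (φ : P →ₗ[k] M ⊗[k] N)
  (hT : GrSeg.IsSegreRing 𝒜 ℬ 𝒯 ψ) (hP : GrSeg.IsSegreMod ψ ℳ 𝒩 𝒬 φ)
  (hposR : ∀ n : ℤ, n < 0 → 𝒜 n = ⊥) (h0R : 𝒜 0 = Submodule.span k {(1 : R)})
  (hposS : ∀ n : ℤ, n < 0 → ℬ n = ⊥) (h0S : ℬ 0 = Submodule.span k {(1 : S)})
  [Algebra.FiniteType k R] [Algebra.FiniteType k S] [Module.Finite R M] [Module.Finite S N]
  (r s : ℕ) (h1r : 1 ≤ r) (h1s : 1 ≤ s)
  (hdM : Module.supportDim R M = r) (hdN : Module.supportDim S N = s)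

include hT hP hposR h0R hposS h0S h1r h1s hdM hdN in
/-- **upper bound**: `dim (M # N) ≤ dim M + dim N - 1` -/
theorem supportDim_le : Module.supportDim T P ≤ ((r + s - 1 : ℕ) : WithBot ℕ∞) := by
  classical
  have hdeg : ∀ n : ℤ, (𝒯 n).map ψ.toLinearMap =
      Submodule.span k {x : R ⊗[k] S | ∃ a ∈ 𝒜 n, ∃ b ∈ ℬ n, x = a ⊗ₜ[k] b} := hT.2
  have hI := isHomogeneous_annihilator 𝒜 ℳ
  have hJ := isHomogeneous_annihilator ℬ 𝒩
  have hr : ringKrullDim (R ⧸ Module.annihilator R M) = r := by
    rw [← Module.supportDim_eq_ringKrullDim_quotient_annihilator, hdM]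
  have hs : ringKrullDim (S ⧸ Module.annihilator S N) = s := by
    rw [← Module.supportDim_eq_ringKrullDim_quotient_annihilator, hdN]
  have hdim := dim_quot 𝒜 ℬ 𝒯 ψ hdeg _ hI _ hJ hposR h0R hposS h0S r s hr hs h1r h1s
  rw [← hdim, ringKrullDim_quotient]
  unfold Module.supportDim
  refine Order.krullDim_le_of_strictMono (fun a => ⟨a.1, ?_⟩) (fun _ _ h => h)
  rw [PrimeSpectrum.mem_zeroLocus]
  have h1 : Module.annihilator T P ≤ a.1.asIdeal := Module.annihilator_le_of_mem_support a.2
  intro t ht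
  apply h1
  rw [Module.mem_annihilator]
  intro p
  apply hP.injective
  rw [hP.map_smul, map_zero]
  exact act_eq_zero_of_piQ_eq_zero ((mem_kerQ ψ _ _ t).1 ht) _

include hT hP hposR h0R hposS h0S h1r h1s hdM hdN in
/-- **lower bound**: `dim (M # N) ≥ dim M + dim N - 1` for nonzero `M # N`, `M` and `N`
Cohen–Macaulay -/
theorem le_supportDim [Nontrivial P]
    (hMcm : ∀ (q : Ideal R) [q.IsPrime], Subsingleton (LocalizedModule q.primeCompl M) ∨
      LocCoh.IsCohenMacaulayModule (Localization.AtPrime q) (LocalizedModule q.primeCompl M))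
    (hNcm : ∀ (q : Ideal S) [q.IsPrime], Subsingleton (LocalizedModule q.primeCompl N) ∨
      LocCoh.IsCohenMacaulayModule (Localization.AtPrime q) (LocalizedModule q.primeCompl N)) :
    ((r + s - 1 : ℕ) : WithBot ℕ∞) ≤ Module.supportDim T P := by
  classical
  have hdeg : ∀ n : ℤ, (𝒯 n).map ψ.toLinearMap =
      Submodule.span k {x : R ⊗[k] S | ∃ a ∈ 𝒜 n, ∃ b ∈ ℬ n, x = a ⊗ₜ[k] b} := hT.2
  -- a nonzero homogeneous component
  obtain ⟨p₀, hp₀⟩ := exists_ne (0 : P)
  have hex : ∃ n, ((decompose 𝒬 p₀ n : 𝒬 n) : P) ≠ 0 := by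
    by_contra h
    push Not at h
    apply hp₀
    rw [← DirectSum.sum_support_decompose 𝒬 p₀]
    exact Finset.sum_eq_zero fun n _ => h n
  obtain ⟨n, hn⟩ := hex
  have hφpn : φ ((decompose 𝒬 p₀ n : 𝒬 n) : P) ∈ GrSeg.segrePiece k ℳ 𝒩 n := by
    rw [← SetLike.mem_coe, ← hP.image_piece n]
    exact ⟨_, SetLike.coe_mem _, rfl⟩
  have hφne : φ ((decompose 𝒬 p₀ n : 𝒬 n) : P) ≠ 0 :=
    fun h => hn (hP.injective (h.trans (map_zero φ).symm))
  -- a nonzero pure tensor of degree `n`
  have hex2 : ∃ x ∈ ℳ n, ∃ y ∈ 𝒩 n, x ⊗ₜ[k] y ≠ (0 : M ⊗[k] N) := by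
    by_contra h
    push Not at h
    apply hφne
    have hbot : GrSeg.segrePiece k ℳ 𝒩 n = ⊥ := by
      unfold GrSeg.segrePiece
      rw [Submodule.span_eq_bot]
      rintro _ ⟨a, ha, b, hb, rfl⟩
      exact h a ha b hb
    rw [hbot] at hφpn
    exact (Submodule.mem_bot k).1 hφpn
  obtain ⟨x, hx, y, hy, hxy⟩ := hex2
  have hx0 : x ≠ 0 := by
    rintro rfl
    exact hxy (TensorProduct.zero_tmul _ _)
  have hy0 : y ≠ 0 := by
    rintro rfl
    exact hxy (TensorProduct.tmul_zero _ _)
  have hmem : x ⊗ₜ[k] y ∈ (GrSeg.segrePiece k ℳ 𝒩 n : Set (M ⊗[k] N)) :=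
    Submodule.subset_span ⟨x, hx, y, hy, rfl⟩
  rw [← hP.image_piece n] at hmem
  obtain ⟨p', -, hp'⟩ := hmem
  -- the annihilators
  have hIx : (Ideal.torsionOf R M x).IsHomogeneous 𝒜 := by
    rw [← Ideal.annihilator_span_singleton_eq_torsionOf]
    exact isHomogeneous_annihilator_span_singleton 𝒜 ℳ hx
  have hJy : (Ideal.torsionOf S N y).IsHomogeneous ℬ := by
    rw [← Ideal.annihilator_span_singleton_eq_torsionOf]
    exact isHomogeneous_annihilator_span_singleton ℬ 𝒩 hy
  have hr : ringKrullDim (R ⧸ Ideal.torsionOf R M x) = r := by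
    apply le_antisymm
    · rw [← hdM, Module.supportDim_eq_ringKrullDim_quotient_annihilator]
      have hle : Module.annihilator R M ≤ Ideal.torsionOf R M x := fun a ha => by
        rw [Ideal.mem_torsionOf_iff]
        exact Module.mem_annihilator.1 ha x
      exact ringKrullDim_le_of_surjective (Ideal.Quotient.factor hle)
        (Ideal.Quotient.factor_surjective hle)
    · rw [← Ideal.annihilator_span_singleton_eq_torsionOf]
      exact Groth.Agent.Lib.Seat91.CMGraded.le_dim_quotient_annihilator 𝒜 hposR h0R ℳ hMcm r hdM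
        hx hx0
  have hs : ringKrullDim (S ⧸ Ideal.torsionOf S N y) = s := by
    apply le_antisymm
    · rw [← hdN, Module.supportDim_eq_ringKrullDim_quotient_annihilator]
      have hle : Module.annihilator S N ≤ Ideal.torsionOf S N y := fun a ha => by
        rw [Ideal.mem_torsionOf_iff]
        exact Module.mem_annihilator.1 ha y
      exact ringKrullDim_le_of_surjective (Ideal.Quotient.factor hle)
        (Ideal.Quotient.factor_surjective hle)
    · rw [← Ideal.annihilator_span_singleton_eq_torsionOf]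
      exact Groth.Agent.Lib.Seat91.CMGraded.le_dim_quotient_annihilator ℬ hposS h0S 𝒩 hNcm s hdN
        hy hy0
  have hdim := dim_quot 𝒜 ℬ 𝒯 ψ hdeg _ hIx _ hJy hposR h0R hposS h0S r s hr hs h1r h1s
  -- `ann (x # y) ⊆ ker (T → R/ann x ⊗ S/ann y)`
  have hle : Ideal.torsionOf T P p' ≤
      kerQ ψ (Ideal.torsionOf R M x) (Ideal.torsionOf S N y) := by
    intro t ht
    rw [Ideal.mem_torsionOf_iff] at ht
    rw [mem_kerQ]
    apply iotaXY_injective x y
    rw [map_zero, ← act_tmul_eq_iotaXY, ← hp', ← hP.map_smul, ht, map_zero]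
  calc ((r + s - 1 : ℕ) : WithBot ℕ∞)
      = ringKrullDim (T ⧸ kerQ ψ (Ideal.torsionOf R M x) (Ideal.torsionOf S N y)) := hdim.symm
    _ ≤ ringKrullDim (T ⧸ Ideal.torsionOf T P p') :=
        ringKrullDim_le_of_surjective (Ideal.Quotient.factor hle)
          (Ideal.Quotient.factor_surjective hle)
    _ = Module.supportDim T (T ⧸ Ideal.torsionOf T P p') :=
        (Module.supportDim_quotient_eq_ringKrullDim _).symm
    _ = Module.supportDim T (Submodule.span T {p'}) :=
        Module.supportDim_eq_of_equiv (Ideal.quotTorsionOfEquivSpanSingleton T P p')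
    _ ≤ Module.supportDim T P :=
        Module.supportDim_le_of_injective (Submodule.span T {p'}).subtype Subtype.val_injective

end main

end Groth.Agent.Lib.Seat91.SegreMod
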