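import Groth.Agent.Lib.Seat91PolyGraded

/-!
# Socle representatives in one-dimensional standard graded Cohen–Macaulay rings (seat 91)

`R = k ⊕ R_1 ⊕ …` standard graded Cohen–Macaulay of dimension one over a field `k`, `x ∈ R_d` a
homogeneous nonzerodivisor.  If `dim_k R_1 ≥ 2` there are `a ≥ d` and `r ∈ R_a ∖ xR` with
`R_m r ⊆ x R_{a+m-d}` for all `m > 0` (`exists_socle_rep`).

Namespace `Groth.Agent.Lib.Seat91.SocleRep`.
-/

set_option autoImplicit false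
set_option linter.unusedSectionVars false
set_option linter.style.haveILetI false
universe u

open DirectSum Groth.Agent.Lib.Seat91.GrIrr Groth.Agent.Lib.Seat91.PolyGraded

namespace Groth.Agent.Lib.Seat91.SocleRep

section general

variable {k R : Type*} [Field k] [CommRing R] [Algebra k R]
  (𝒜 : ℤ → Submodule k R) [GradedAlgebra 𝒜]
  (hpos : ∀ n : ℤ, n < 0 → 𝒜 n = ⊥) (h0 : 𝒜 0 = Submodule.span k {(1 : R)})
  (hstd : irr 𝒜 = Ideal.span ((𝒜 1 : Submodule k R) : Set R))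

/-- homogeneous division: a homogeneous multiple of a homogeneous element has a homogeneous
cofactor -/
theorem exists_homogeneous_cofactor {d n : ℤ} {x b : R} (hx : x ∈ 𝒜 d) (hb : b ∈ 𝒜 n)
    (hbx : b ∈ Ideal.span {x}) : ∃ c ∈ 𝒜 (n - d), b = x * c := by
  obtain ⟨f, rfl⟩ := Ideal.mem_span_singleton'.1 hbx
  refine ⟨((decompose 𝒜 f (n - d) : 𝒜 (n - d)) : R), SetLike.coe_mem _, ?_⟩
  have h2 := DirectSum.coe_decompose_mul_add_of_right_mem 𝒜 (a := f) (i := n - d) hx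
  have h3 : ((decompose 𝒜 (f * x) n : 𝒜 n) : R) = f * x := decompose_of_mem_same 𝒜 hb
  rw [mul_comm x, ← h2, ← coe_decompose_congr 𝒜 (show n = n - d + d by ring), h3]

include hstd in
theorem piece_le_irr_pow (n : ℕ) : ∀ b ∈ 𝒜 (n : ℤ), b ∈ (irr 𝒜) ^ n := by
  induction n with
  | zero => intro b _; simp
  | succ n ih =>
    intro b hb
    have hb1 : b ∈ irr 𝒜 := mem_irr_of_mem 𝒜 (by positivity) hb
    rw [hstd, Ideal.span, Submodule.mem_span_iff_exists_finset_subset] at hb1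
    obtain ⟨c, t, htF, -, hsum⟩ := hb1
    have hb' : b ∈ 𝒜 ((n : ℤ) + 1) := by rwa [Nat.cast_succ] at hb
    have h1 : b = ((decompose 𝒜 b ((n : ℤ) + 1) : 𝒜 _) : R) := (decompose_of_mem_same 𝒜 hb').symm
    rw [h1, ← hsum, decompose_sum, DFinsupp.finsetSum_apply, AddSubmonoidClass.coe_finsetSum]
    refine Ideal.sum_mem _ fun f hf => ?_
    have hf1 : f ∈ 𝒜 1 := htF hf
    rw [smul_eq_mul, DirectSum.coe_decompose_mul_add_of_right_mem 𝒜 hf1, pow_succ]
    exact Ideal.mul_mem_mul (ih _ (SetLike.coe_mem _)) (mem_irr_of_mem 𝒜 one_pos hf1)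

end general

section cm

variable {k R : Type u} [Field k] [CommRing R] [Algebra k R]
  (𝒜 : ℤ → Submodule k R) [GradedAlgebra 𝒜]
  (hpos : ∀ n : ℤ, n < 0 → 𝒜 n = ⊥) (h0 : 𝒜 0 = Submodule.span k {(1 : R)})
  (hstd : irr 𝒜 = Ideal.span ((𝒜 1 : Submodule k R) : Set R))

include hpos h0 in
/-- in dimension one a power of the irrelevant ideal lies in the ideal of a homogeneous
nonzerodivisor -/
theorem exists_irr_pow_le_span [Nontrivial R] [IsNoetherianRing R] (hdim : ringKrullDim R = 1)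
    {d : ℤ} {x : R} (hx : x ∈ 𝒜 d) (hxreg : x ∈ nonZeroDivisors R) (hxirr : x ∈ irr 𝒜) :
    ∃ N : ℕ, (irr 𝒜) ^ N ≤ Ideal.span {x} := by
  have hmax : (irr 𝒜).IsMaximal := irr_isMaximal 𝒜 hpos h0
  haveI hprime : (irr 𝒜).IsPrime := hmax.isPrime
  have hJhom : (Ideal.span {x}).IsHomogeneous 𝒜 := by
    refine Ideal.homogeneous_span 𝒜 _ ?_
    rintro z hz
    rw [Set.mem_singleton_iff] at hz
    subst hz
    exact ⟨d, hx⟩
  have hJne : Ideal.span {x} ≠ ⊤ := fun h => hprime.ne_top (top_le_iff.1 (h ▸ (Ideal.span_le.2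
    (Set.singleton_subset_iff.2 hxirr))))
  have hrad : irr 𝒜 ≤ (Ideal.span {x}).radical := by
    rw [← Ideal.sInf_minimalPrimes]
    refine le_sInf fun P hP => ?_
    have hPprime : P.IsPrime := hP.1.1
    have hPhom : P.IsHomogeneous 𝒜 := isHomogeneous_of_mem_minimalPrimes 𝒜 hJhom hP
    have hPirr : P ≤ irr 𝒜 := le_irr_of_isHomogeneous 𝒜 hpos h0 hPhom hPprime.ne_top
    by_contra hnot
    have hlt : P < irr 𝒜 := lt_of_le_of_ne hPirr fun h => hnot h.ge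
    have h1 : 1 ≤ P.height :=
      (Ideal.one_le_height_span_singleton_of_mem_nonZeroDivisors hxreg).trans (Ideal.height_mono hP.1.2)
    have h2 : P.height + 1 ≤ (irr 𝒜).height := Ideal.height_add_one_le_of_lt_of_isPrime hlt
    have h3 : ((irr 𝒜).height : WithBot ℕ∞) ≤ 1 := by
      rw [← hdim]; exact Ideal.height_le_ringKrullDim_of_isPrime
    have h4 : (irr 𝒜).height ≤ 1 := by exact_mod_cast h3
    have h5' : (1 : ℕ∞) + 1 ≤ P.height + 1 := by gcongr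
    have h5 : (1 : ℕ∞) + 1 ≤ 1 := h5'.trans (h2.trans h4)
    exact absurd h5 (by decide)
  exact Ideal.exists_pow_le_of_le_radical_of_fg hrad (IsNoetherian.noetherian _)

include hpos h0 hstd in
/-- the pieces of high degree lie in `xR` -/
theorem exists_bound [Nontrivial R] [IsNoetherianRing R] (hdim : ringKrullDim R = 1)
    {d : ℤ} {x : R} (hx : x ∈ 𝒜 d) (hxreg : x ∈ nonZeroDivisors R) (hxirr : x ∈ irr 𝒜) :
    ∃ N : ℕ, ∀ n : ℕ, N ≤ n → ∀ b ∈ 𝒜 (n : ℤ), b ∈ Ideal.span {x} := by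
  obtain ⟨N, hN⟩ := exists_irr_pow_le_span 𝒜 hpos h0 hdim hx hxreg hxirr
  refine ⟨N, fun n hn b hb => hN (Ideal.pow_le_pow_right hn (piece_le_irr_pow 𝒜 hstd n b hb))⟩

include hpos h0 hstd in
theorem finrank_mono_nat [Nontrivial R] [LocCoh.IsCohenMacaulayRing R]
    (hdim : 1 ≤ ringKrullDim R) (m n : ℕ) (hmn : m ≤ n) :
    Module.finrank k (𝒜 (m : ℤ)) ≤ Module.finrank k (𝒜 (n : ℤ)) := by
  induction n, hmn using Nat.le_induction with
  | base => exact le_rfl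
  | succ n _ ih =>
    have := HilbMono.finrank_le_succ 𝒜 hpos h0 hstd hdim (n : ℤ)
    rw [Nat.cast_succ]
    exact ih.trans this

include hpos h0 hstd in
/-- if `dim R_1 ≥ 2` then `R_d ⊄ xR` -/
theorem exists_notMem_span [Nontrivial R] [LocCoh.IsCohenMacaulayRing R]
    (hdim : 1 ≤ ringKrullDim R)
    (hH : ¬ ∃ y ∈ 𝒜 1, 𝒜 1 ≤ Submodule.span k {y})
    {d : ℕ} (hd : 0 < d) {x : R} (hx : x ∈ 𝒜 (d : ℤ)) :
    ∃ b ∈ 𝒜 (d : ℤ), b ∉ Ideal.span {x} := by
  by_contra hcon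
  push Not at hcon
  apply hH
  haveI : ∀ j, Module.Finite k (𝒜 j) := fun j => HilbMono.finite_piece 𝒜 h0 j
  have hle : 𝒜 (d : ℤ) ≤ Submodule.span k {x} := by
    intro b hb
    obtain ⟨c, hc, hbc⟩ := exists_homogeneous_cofactor 𝒜 hx hb (hcon b hb)
    rw [sub_self, h0] at hc
    obtain ⟨e, rfl⟩ := Submodule.mem_span_singleton.1 hc
    rw [hbc, mul_smul_comm, mul_one]
    exact Submodule.smul_mem _ _ (Submodule.subset_span rfl)
  have hx1 : Module.finrank k (Submodule.span k {x}) ≤ 1 := by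
    have := finrank_span_le_card (R := k) ({x} : Set R)
    simpa using this
  have h1 : Module.finrank k (𝒜 (d : ℤ)) ≤ 1 := (Submodule.finrank_mono hle).trans hx1
  have h2 : Module.finrank k (𝒜 ((1 : ℕ) : ℤ)) ≤ 1 :=
    (finrank_mono_nat 𝒜 hpos h0 hstd hdim 1 d hd).trans h1
  rw [Nat.cast_one] at h2
  obtain ⟨v, hv⟩ := finrank_le_one_iff.1 h2
  refine ⟨v, v.2, fun w hw => ?_⟩
  obtain ⟨c, hc⟩ := hv ⟨w, hw⟩
  rw [Submodule.mem_span_singleton]
  exact ⟨c, congrArg Subtype.val hc⟩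

include hpos h0 hstd in
/-- **socle representative** -/
theorem exists_socle_rep [Nontrivial R] [LocCoh.IsCohenMacaulayRing R]
    (hdim : ringKrullDim R = 1)
    (hH : ¬ ∃ y ∈ 𝒜 1, 𝒜 1 ≤ Submodule.span k {y})
    {d : ℕ} (hd : 0 < d) {x : R} (hx : x ∈ 𝒜 (d : ℤ)) (hxreg : x ∈ nonZeroDivisors R) :
    ∃ a : ℕ, d ≤ a ∧ ∃ r ∈ 𝒜 (a : ℤ), r ∉ Ideal.span {x} ∧
      ∀ m : ℕ, 0 < m → ∀ x' ∈ 𝒜 (m : ℤ), ∃ r' ∈ 𝒜 ((a : ℤ) + m - d), x' * r = x * r' := by
  classical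
  have hxirr : x ∈ irr 𝒜 := mem_irr_of_mem 𝒜 (by exact_mod_cast hd) hx
  obtain ⟨N, hN⟩ := exists_bound 𝒜 hpos h0 hstd hdim hx hxreg hxirr
  obtain ⟨b, hb, hbx⟩ := exists_notMem_span 𝒜 hpos h0 hstd hdim.ge hH hd hx
  set P : ℕ → Prop := fun n => ∃ b ∈ 𝒜 (n : ℤ), b ∉ Ideal.span {x} with hP
  have hPd : P d := ⟨b, hb, hbx⟩
  have hdN : d ≤ N := by
    by_contra h
    push Not at h
    exact hbx (hN d h.le b hb)
  set a := Nat.findGreatest P N with ha
  have hPa : P a := Nat.findGreatest_spec hdN hPd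
  have hda : d ≤ a := Nat.le_findGreatest hdN hPd
  have hgt : ∀ n : ℕ, a < n → ¬ P n := by
    intro n hn
    by_cases hnN : n ≤ N
    · exact Nat.findGreatest_is_greatest hn hnN
    · push Not at hnN
      rintro ⟨b', hb', hb'x⟩
      exact hb'x (hN n hnN.le b' hb')
  obtain ⟨r, hr, hrx⟩ := hPa
  refine ⟨a, hda, r, hr, hrx, fun m hm x' hx' => ?_⟩
  have hmem : x' * r ∈ 𝒜 (((m + a : ℕ) : ℕ) : ℤ) := by
    have := SetLike.mul_mem_graded hx' hr
    rwa [← Nat.cast_add] at this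
  have hnot := hgt (m + a) (by omega)
  have hin : x' * r ∈ Ideal.span {x} := by
    by_contra h
    exact hnot ⟨_, hmem, h⟩
  obtain ⟨c, hc, hbc⟩ := exists_homogeneous_cofactor 𝒜 hx hmem hin
  refine ⟨c, ?_, hbc⟩
  have e : (((m + a : ℕ) : ℕ) : ℤ) - d = (a : ℤ) + m - d := by push_cast; ring
  rwa [e] at hc

end cm

end Groth.Agent.Lib.Seat91.SocleRep
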