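import Groth.Agent.Lib.Seat91GrHomDec
import Groth.Agent.Lib.Helper29GrHom

/-!
# The Veronese module of a graded module (seat 91)

For a `ℤ`-graded ring `R`, an abstract Veronese subring `φ : R' → R` (`φ(R'_j) = R_{jq}`, `VerData`)
and a graded `R`-module `N`:
* `verSub 𝓝 q` — the elements of `N` with components only in degrees divisible by `q`;
  `verProj` — the projection onto it;
* `Ver D 𝓝` — the Veronese module `N^(q)`, a graded `R'`-module (`verGr`, `verDecomposition`,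
  `ver_gradedSMul`, `verGMod`); `verMap` — functoriality; `ker_verMap` — exactness;
* `toVer` — a graded `R'`-module presented as `N^(q)` is isomorphic to `Ver D 𝓝`;
* `isNoetherianRing` — `R'` is Noetherian if `R` is;
* `mem_gam_iff` — `Γ_{m'}(N^(q)) = Γ_m(N) ∩ N^(q)`.

Namespace `Groth.Agent.Lib.Seat91.Veronese`.
-/

set_option autoImplicit false
set_option linter.unusedSectionVars false
set_option linter.dupNamespace false
universe u
open DirectSum

namespace Groth.Agent.Lib.Seat91.Veronese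

section verSub

variable {N : Type u} [AddCommGroup N] (𝓝 : ℤ → AddSubgroup N) [DirectSum.Decomposition 𝓝] (q : ℕ)

/-- elements with components only in degrees divisible by `q` -/
def verSub : AddSubgroup N where
  carrier := {x | ∀ i : ℤ, ¬ (q : ℤ) ∣ i → ((decompose 𝓝 x) i : N) = 0}
  zero_mem' := fun i _ => by rw [decompose_zero]; rfl
  add_mem' := fun {x y} hx hy i hi => by
    rw [decompose_add, DirectSum.add_apply, AddSubgroup.coe_add, hx i hi, hy i hi, add_zero]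
  neg_mem' := fun {x} hx i hi => by
    rw [decompose_neg, show (-(decompose 𝓝 x)) i = -((decompose 𝓝 x) i) from rfl,
      AddSubgroup.coe_neg, hx i hi, neg_zero]

theorem mem_verSub {x : N} :
    x ∈ verSub 𝓝 q ↔ ∀ i : ℤ, ¬ (q : ℤ) ∣ i → ((decompose 𝓝 x) i : N) = 0 := Iff.rfl

theorem mem_verSub_of_mem {x : N} {j : ℤ} (hx : x ∈ 𝓝 (j * q)) : x ∈ verSub 𝓝 q := by
  intro i hi
  have : j * q ≠ i := fun h => hi ⟨j, by rw [← h, mul_comm]⟩
  rw [decompose_of_mem_ne 𝓝 hx this]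

/-- a subgroup containing all pieces of degree divisible by `q` contains `verSub` -/
theorem verSub_le (G : AddSubgroup N) (hG : ∀ j : ℤ, 𝓝 (j * q) ≤ G) : verSub 𝓝 q ≤ G := by
  classical
  intro x hx
  rw [← DirectSum.sum_support_decompose 𝓝 x]
  refine sum_mem fun i _ => ?_
  by_cases hi : (q : ℤ) ∣ i
  · obtain ⟨j, rfl⟩ := hi
    have : 𝓝 (q * j) ≤ G := by
      rw [mul_comm]
      exact hG j
    exact this (SetLike.coe_mem _)
  · rw [hx i hi]
    exact zero_mem _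

open Classical in
/-- projection onto the degrees divisible by `q` -/
noncomputable def verProj (x : N) : N :=
  (decompose 𝓝).symm (DFinsupp.filter (fun i : ℤ => (q : ℤ) ∣ i) (decompose 𝓝 x))

open Classical in
theorem decompose_verProj (x : N) (i : ℤ) :
    ((decompose 𝓝 (verProj 𝓝 q x)) i : N) =
      if (q : ℤ) ∣ i then ((decompose 𝓝 x) i : N) else 0 := by
  unfold verProj
  rw [Equiv.apply_symm_apply]
  have := DFinsupp.filter_apply (fun i : ℤ => (q : ℤ) ∣ i) i (decompose 𝓝 x)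
  split_ifs with h
  · rw [if_pos h] at this
    exact congrArg Subtype.val this
  · rw [if_neg h] at this
    exact congrArg Subtype.val this

theorem verProj_mem (x : N) : verProj 𝓝 q x ∈ verSub 𝓝 q := by
  intro i hi
  rw [decompose_verProj, if_neg hi]

theorem decompose_injective' {x y : N} (h : ∀ i : ℤ, ((decompose 𝓝 x) i : N) = ((decompose 𝓝 y) i : N)) :
    x = y := by
  apply (decompose 𝓝).injective
  apply DFinsupp.ext
  intro i
  exact Subtype.ext (h i)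

theorem verProj_of_mem {x : N} (hx : x ∈ verSub 𝓝 q) : verProj 𝓝 q x = x := by
  apply decompose_injective' 𝓝
  intro i
  rw [decompose_verProj]
  split_ifs with h
  · rfl
  · exact (hx i h).symm

theorem verProj_add (x y : N) : verProj 𝓝 q (x + y) = verProj 𝓝 q x + verProj 𝓝 q y := by
  apply decompose_injective' 𝓝
  intro i
  rw [decompose_add, DirectSum.add_apply, AddSubgroup.coe_add, decompose_verProj, decompose_verProj,
    decompose_verProj, decompose_add, DirectSum.add_apply, AddSubgroup.coe_add]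
  split_ifs
  · rfl
  · rw [add_zero]

theorem verProj_zero : verProj 𝓝 q (0 : N) = 0 := verProj_of_mem 𝓝 q (zero_mem _)

end verSub

/-- abstract Veronese subring: `φ : R' → R` injective with `φ(R'_j) = R_{jq}` -/
structure VerData {R R' : Type u} [CommRing R] [CommRing R'] (𝒜 : ℤ → AddSubgroup R)
    (𝒜' : ℤ → AddSubgroup R') where
  /-- the inclusion -/
  φ : R' →+* R
  /-- the order -/
  q : ℕ
  hq : 0 < q
  inj : Function.Injective φ
  hdeg : ∀ j : ℤ, (𝒜' j).map (φ : R' →+ R) = 𝒜 (j * q)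

namespace VerData

variable {R R' : Type u} [CommRing R] [CommRing R'] {𝒜 : ℤ → AddSubgroup R}
  {𝒜' : ℤ → AddSubgroup R'} (D : VerData 𝒜 𝒜')

theorem φ_mem {j : ℤ} {r : R'} (hr : r ∈ 𝒜' j) : D.φ r ∈ 𝒜 (j * D.q) := by
  rw [← D.hdeg j]
  exact ⟨r, hr, rfl⟩

theorem exists_φ_eq {j : ℤ} {r : R} (hr : r ∈ 𝒜 (j * D.q)) : ∃ r' ∈ 𝒜' j, D.φ r' = r := by
  rw [← D.hdeg j] at hr
  obtain ⟨r', h1, h2⟩ := hr
  exact ⟨r', h1, h2⟩

theorem q_ne_zero : (D.q : ℤ) ≠ 0 := by
  exact_mod_cast D.hq.ne'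

theorem mul_q_injective : Function.Injective (fun j : ℤ => j * (D.q : ℤ)) :=
  mul_left_injective₀ D.q_ne_zero

end VerData

section ver

variable {R R' : Type u} [CommRing R] [CommRing R'] {𝒜 : ℤ → AddSubgroup R}
  {𝒜' : ℤ → AddSubgroup R'} [GradedRing 𝒜] [GradedRing 𝒜'] (D : VerData 𝒜 𝒜')
variable {N : Type u} [AddCommGroup N] [Module R N] (𝓝 : ℤ → AddSubgroup N)
  [DirectSum.Decomposition 𝓝] [SetLike.GradedSMul 𝒜 𝓝]

open Groth.Agent.Lib.Seat91.GrHomDec

theorem smul_mem_verSub (r : R') {x : N} (hx : x ∈ verSub 𝓝 D.q) : D.φ r • x ∈ verSub 𝓝 D.q := by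
  classical
  induction r using DirectSum.Decomposition.inductionOn 𝒜' with
  | zero =>
    rw [map_zero, zero_smul]
    exact zero_mem _
  | homogeneous r =>
    rename_i j
    intro i hi
    obtain ⟨g, rfl⟩ : ∃ g, i = j * D.q + g := ⟨i - j * D.q, by ring⟩
    have h1 := projE_smul (𝒜 := 𝒜) 𝓝 (D.φ_mem r.2) g x
    rw [projE_apply, projE_apply] at h1
    rw [h1, hx g (fun h => hi (dvd_add (Dvd.intro_left _ rfl) h)), smul_zero]
  | add a b ha hb =>
    rw [map_add, add_smul]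
    exact add_mem ha hb

theorem verProj_smul (r : R') (x : N) :
    verProj 𝓝 D.q (D.φ r • x) = D.φ r • verProj 𝓝 D.q x := by
  classical
  induction r using DirectSum.Decomposition.inductionOn 𝒜' with
  | zero =>
    rw [map_zero, zero_smul, zero_smul, verProj_zero]
  | homogeneous r =>
    rename_i j
    apply decompose_injective' 𝓝
    intro i
    obtain ⟨g, rfl⟩ : ∃ g, i = j * D.q + g := ⟨i - j * D.q, by ring⟩
    have h1 := projE_smul (𝒜 := 𝒜) 𝓝 (D.φ_mem r.2) g x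
    have h2 := projE_smul (𝒜 := 𝒜) 𝓝 (D.φ_mem r.2) g (verProj 𝓝 D.q x)
    rw [projE_apply, projE_apply] at h1 h2
    rw [decompose_verProj, h1, h2, decompose_verProj]
    have hdvd : (D.q : ℤ) ∣ j * D.q + g ↔ (D.q : ℤ) ∣ g := dvd_add_right (Dvd.intro_left _ rfl)
    by_cases hg : (D.q : ℤ) ∣ g
    · rw [if_pos hg, if_pos (hdvd.2 hg)]
    · rw [if_neg hg, if_neg (fun h => hg (hdvd.1 h)), smul_zero]
  | add a b ha hb =>
    rw [map_add, add_smul, add_smul, verProj_add, ha, hb]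

/-- the Veronese module `N^(q)` -/
def Ver : Type u := ↥(verSub 𝓝 D.q)

instance : AddCommGroup (Ver D 𝓝) := inferInstanceAs (AddCommGroup ↥(verSub 𝓝 D.q))

/-- the inclusion `N^(q) → N` -/
def Ver.val : Ver D 𝓝 →+ N := (verSub 𝓝 D.q).subtype

theorem Ver.val_injective : Function.Injective (Ver.val D 𝓝) := Subtype.val_injective

theorem Ver.val_mem (x : Ver D 𝓝) : Ver.val D 𝓝 x ∈ verSub 𝓝 D.q := x.2

/-- constructor -/
def Ver.mk (x : N) (hx : x ∈ verSub 𝓝 D.q) : Ver D 𝓝 := ⟨x, hx⟩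

@[simp] theorem Ver.val_mk (x : N) (hx : x ∈ verSub 𝓝 D.q) : Ver.val D 𝓝 (Ver.mk D 𝓝 x hx) = x := rfl

theorem Ver.mk_val (x : Ver D 𝓝) : Ver.mk D 𝓝 (Ver.val D 𝓝 x) (Ver.val_mem D 𝓝 x) = x := rfl

instance : Module R' (Ver D 𝓝) where
  smul r x := ⟨D.φ r • x.1, smul_mem_verSub D 𝓝 r x.2⟩
  one_smul x := Subtype.ext (by
    show D.φ 1 • x.1 = x.1
    rw [map_one, one_smul])
  mul_smul r s x := Subtype.ext (by
    show D.φ (r * s) • x.1 = D.φ r • (D.φ s • x.1)
    rw [map_mul, mul_smul])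
  smul_zero r := Subtype.ext (smul_zero _)
  smul_add r x y := Subtype.ext (smul_add _ _ _)
  add_smul r s x := Subtype.ext (by
    show D.φ (r + s) • x.1 = D.φ r • x.1 + D.φ s • x.1
    rw [map_add, add_smul])
  zero_smul x := Subtype.ext (by
    show D.φ 0 • x.1 = 0
    rw [map_zero, zero_smul])

theorem Ver.val_smul (r : R') (x : Ver D 𝓝) :
    Ver.val D 𝓝 (r • x) = D.φ r • Ver.val D 𝓝 x := rfl

/-- the pieces of `N^(q)` -/
def verGr : ℤ → AddSubgroup (Ver D 𝓝) := fun j => (𝓝 (j * D.q)).comap (Ver.val D 𝓝)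

theorem mem_verGr {j : ℤ} {x : Ver D 𝓝} : x ∈ verGr D 𝓝 j ↔ Ver.val D 𝓝 x ∈ 𝓝 (j * D.q) := Iff.rfl

instance ver_gradedSMul : SetLike.GradedSMul 𝒜' (verGr D 𝓝) where
  smul_mem := by
    intro i j r x hr hx
    rw [vadd_eq_add, mem_verGr, Ver.val_smul, add_mul]
    exact SetLike.GradedSMul.smul_mem (A := 𝒜) (B := 𝓝) (D.φ_mem hr) hx

/-- the component maps -/
def verComp (j : ℤ) : Ver D 𝓝 →+ verGr D 𝓝 j where
  toFun x := ⟨Ver.mk D 𝓝 ((decompose 𝓝 (Ver.val D 𝓝 x)) (j * D.q) : N)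
    (mem_verSub_of_mem 𝓝 D.q (SetLike.coe_mem _)),
    show ((decompose 𝓝 (Ver.val D 𝓝 x)) (j * D.q) : N) ∈ 𝓝 (j * D.q) from SetLike.coe_mem _⟩
  map_zero' := by
    apply Subtype.ext
    apply Ver.val_injective
    show ((decompose 𝓝 (Ver.val D 𝓝 0)) (j * D.q) : N) = 0
    rw [map_zero, decompose_zero]
    rfl
  map_add' x y := by
    apply Subtype.ext
    apply Ver.val_injective
    show ((decompose 𝓝 (Ver.val D 𝓝 (x + y))) (j * D.q) : N) =
      ((decompose 𝓝 (Ver.val D 𝓝 x)) (j * D.q) : N) + ((decompose 𝓝 (Ver.val D 𝓝 y)) (j * D.q) : N)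
    rw [map_add, decompose_add, DirectSum.add_apply, AddSubgroup.coe_add]

theorem val_verComp (j : ℤ) (x : Ver D 𝓝) :
    Ver.val D 𝓝 (verComp D 𝓝 j x : Ver D 𝓝) = ((decompose 𝓝 (Ver.val D 𝓝 x)) (j * D.q) : N) := rfl

theorem verComp_of_mem_same {j : ℤ} (x : verGr D 𝓝 j) : verComp D 𝓝 j (x : Ver D 𝓝) = x := by
  apply Subtype.ext
  apply Ver.val_injective
  rw [val_verComp, decompose_of_mem_same 𝓝 (mem_verGr D 𝓝 |>.1 x.2)]

theorem verComp_of_mem_ne {j k : ℤ} (x : verGr D 𝓝 k) (h : k ≠ j) :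
    verComp D 𝓝 j (x : Ver D 𝓝) = 0 := by
  apply Subtype.ext
  apply Ver.val_injective
  rw [val_verComp, decompose_of_mem_ne 𝓝 (mem_verGr D 𝓝 |>.1 x.2)
    (fun e => h (D.mul_q_injective e))]
  rfl

theorem verComp_coe (y : ⨁ j, verGr D 𝓝 j) (j : ℤ) :
    verComp D 𝓝 j (DirectSum.coeAddMonoidHom (verGr D 𝓝) y) = y j := by
  classical
  induction y using DirectSum.induction_on with
  | zero => simp
  | of k v =>
    rw [DirectSum.coeAddMonoidHom_of]
    by_cases h : k = j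
    · subst h
      rw [verComp_of_mem_same, DirectSum.of_eq_same]
    · rw [verComp_of_mem_ne D 𝓝 v h, DirectSum.of_eq_of_ne _ _ _ (Ne.symm h)]
  | add x y hx hy =>
    rw [map_add, map_add, hx, hy, DirectSum.add_apply]

theorem isInternal_verGr : DirectSum.IsInternal (verGr D 𝓝) := by
  classical
  constructor
  · intro y y' h
    apply DFinsupp.ext
    intro j
    rw [← verComp_coe D 𝓝 y j, ← verComp_coe D 𝓝 y' j, h]
  · intro x
    let S : Finset ℤ := (decompose 𝓝 (Ver.val D 𝓝 x)).support.preimage (fun j : ℤ => j * (D.q : ℤ))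
      D.mul_q_injective.injOn
    refine ⟨∑ j ∈ S, DirectSum.of (fun j => verGr D 𝓝 j) j (verComp D 𝓝 j x), ?_⟩
    rw [map_sum]
    simp_rw [DirectSum.coeAddMonoidHom_of]
    apply Ver.val_injective
    rw [map_sum]
    simp_rw [val_verComp]
    rw [Finset.sum_preimage (fun j : ℤ => j * (D.q : ℤ)) _ _
      (fun i => ((decompose 𝓝 (Ver.val D 𝓝 x)) i : N))]
    · exact DirectSum.sum_support_decompose 𝓝 (Ver.val D 𝓝 x)
    · intro i _ hi
      apply Ver.val_mem D 𝓝 x i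
      rintro ⟨j, rfl⟩
      exact hi ⟨j, mul_comm _ _⟩

/-- the decomposition of `N^(q)` -/
@[instance_reducible]
noncomputable def verDecomposition : DirectSum.Decomposition (verGr D 𝓝) :=
  (isInternal_verGr D 𝓝).chooseDecomposition

/-- the projection `N → N^(q)` -/
noncomputable def verProjHom : N →+ Ver D 𝓝 where
  toFun x := Ver.mk D 𝓝 (verProj 𝓝 D.q x) (verProj_mem 𝓝 D.q x)
  map_zero' := Ver.val_injective D 𝓝 (verProj_zero 𝓝 D.q)
  map_add' x y := Ver.val_injective D 𝓝 (verProj_add 𝓝 D.q x y)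

theorem val_verProjHom (x : N) : Ver.val D 𝓝 (verProjHom D 𝓝 x) = verProj 𝓝 D.q x := rfl

theorem verProjHom_val (x : Ver D 𝓝) : verProjHom D 𝓝 (Ver.val D 𝓝 x) = x :=
  Ver.val_injective D 𝓝 (verProj_of_mem 𝓝 D.q (Ver.val_mem D 𝓝 x))

theorem verProjHom_smul (r : R') (x : N) : verProjHom D 𝓝 (D.φ r • x) = r • verProjHom D 𝓝 x :=
  Ver.val_injective D 𝓝 (verProj_smul D 𝓝 r x)

end ver

section gmod

variable {R R' : Type u} [CommRing R] [CommRing R'] {𝒜 : ℤ → AddSubgroup R}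
  {𝒜' : ℤ → AddSubgroup R'} [GradedRing 𝒜] [GradedRing 𝒜'] (D : VerData 𝒜 𝒜')

/-- the Veronese module as a bundled graded `R'`-module -/
noncomputable def verGMod (X : GrLC.GMod.{u} 𝒜) : GrLC.GMod.{u} 𝒜' :=
  { carrier := Ver D X.gr
    gr := verGr D X.gr
    dec := verDecomposition D X.gr
    gsmul := ver_gradedSMul D X.gr }

variable {N : Type u} [AddCommGroup N] [Module R N] {𝓝 : ℤ → AddSubgroup N}
  [DirectSum.Decomposition 𝓝] [SetLike.GradedSMul 𝒜 𝓝]
variable {N' : Type u} [AddCommGroup N'] [Module R N'] {𝓝' : ℤ → AddSubgroup N'}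
  [DirectSum.Decomposition 𝓝'] [SetLike.GradedSMul 𝒜 𝓝']
variable {N'' : Type u} [AddCommGroup N''] [Module R N''] {𝓝'' : ℤ → AddSubgroup N''}
  [DirectSum.Decomposition 𝓝''] [SetLike.GradedSMul 𝒜 𝓝'']

open Groth.Agent.Lib.Helper29GrHom

theorem map_mem_verSub (q : ℕ) (f : N →ₗ[R] N') (hf : GrLC.IsGrHom 𝓝 𝓝' f) {x : N}
    (hx : x ∈ verSub 𝓝 q) : f x ∈ verSub 𝓝' q := by
  intro i hi
  rw [decompose_map 𝓝' 𝓝 f hf x i, hx i hi, map_zero]

theorem map_verProj (q : ℕ) (f : N →ₗ[R] N') (hf : GrLC.IsGrHom 𝓝 𝓝' f) (x : N) :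
    f (verProj 𝓝 q x) = verProj 𝓝' q (f x) := by
  apply decompose_injective' 𝓝'
  intro i
  rw [decompose_map 𝓝' 𝓝 f hf, decompose_verProj, decompose_verProj, decompose_map 𝓝' 𝓝 f hf]
  split_ifs
  · rfl
  · rw [map_zero]

/-- functoriality of the Veronese module -/
def verMap (f : N →ₗ[R] N') (hf : GrLC.IsGrHom 𝓝 𝓝' f) : Ver D 𝓝 →ₗ[R'] Ver D 𝓝' where
  toFun x := Ver.mk D 𝓝' (f (Ver.val D 𝓝 x)) (map_mem_verSub D.q f hf (Ver.val_mem D 𝓝 x))
  map_add' x y := Ver.val_injective D 𝓝' (by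
    show f (Ver.val D 𝓝 (x + y)) = f (Ver.val D 𝓝 x) + f (Ver.val D 𝓝 y)
    rw [map_add, map_add])
  map_smul' r x := Ver.val_injective D 𝓝' (by
    show f (Ver.val D 𝓝 (r • x)) = D.φ r • f (Ver.val D 𝓝 x)
    rw [Ver.val_smul, map_smul])

theorem val_verMap (f : N →ₗ[R] N') (hf : GrLC.IsGrHom 𝓝 𝓝' f) (x : Ver D 𝓝) :
    Ver.val D 𝓝' (verMap D f hf x) = f (Ver.val D 𝓝 x) := rfl

theorem verMap_grHom (f : N →ₗ[R] N') (hf : GrLC.IsGrHom 𝓝 𝓝' f) :
    GrLC.IsGrHom (verGr D 𝓝) (verGr D 𝓝') (verMap D f hf) :=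
  fun j _ hx => hf (j * D.q) _ hx

theorem verMap_injective (f : N →ₗ[R] N') (hf : GrLC.IsGrHom 𝓝 𝓝' f)
    (hinj : Function.Injective f) : Function.Injective (verMap D f hf) := by
  intro x y hxy
  apply Ver.val_injective D 𝓝
  apply hinj
  exact congrArg (Ver.val D 𝓝') hxy

/-- the Veronese functor is exact -/
theorem ker_verMap (f : N →ₗ[R] N') (hf : GrLC.IsGrHom 𝓝 𝓝' f) (f' : N' →ₗ[R] N'')
    (hf' : GrLC.IsGrHom 𝓝' 𝓝'' f') (hex : LinearMap.ker f' = LinearMap.range f) :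
    LinearMap.ker (verMap D f' hf') = LinearMap.range (verMap D f hf) := by
  ext x
  rw [LinearMap.mem_ker, LinearMap.mem_range]
  constructor
  · intro hx
    have h1 : f' (Ver.val D 𝓝' x) = 0 :=
      (congrArg (Ver.val D 𝓝'') hx).trans (map_zero _)
    have h2 : Ver.val D 𝓝' x ∈ LinearMap.range f := by
      rw [← hex]
      exact h1
    obtain ⟨y, hy⟩ := h2
    refine ⟨verProjHom D 𝓝 y, ?_⟩
    apply Ver.val_injective D 𝓝'
    rw [val_verMap, val_verProjHom, map_verProj D.q f hf, hy]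
    exact verProj_of_mem 𝓝' D.q (Ver.val_mem D 𝓝' x)
  · rintro ⟨y, rfl⟩
    apply Ver.val_injective D 𝓝''
    rw [val_verMap, val_verMap]
    have : f (Ver.val D 𝓝 y) ∈ LinearMap.ker f' := by
      rw [hex]
      exact ⟨_, rfl⟩
    rw [this]
    rfl

end gmod

end Groth.Agent.Lib.Seat91.Veronese
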