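import Groth.Agent.Lib.Seat91VerB
import Groth.Agent.Lib.Seat91GrAcycRes
import Groth.Agent.S11614
import Groth.Agent.Lib.Helper8Acyc

/-!
# The Veronese module of a *injective module is acyclic (seat 91)

`ver_isAcyc`: for a *injective graded `R`-module `X`, the Veronese module `X^(q)` has vanishing higher
graded local cohomology with respect to `m' = R'_+`: `X^(q)` is a direct summand of `X` over `R'`,
`H^p_{m'}(X|_{R'}) = H^p_{m'R}(X)` (independence of base, S11614), `√(m'R) = √m`, and *injective
modules are `Γ_m`-acyclic (S13217).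

Namespace `Groth.Agent.Lib.Seat91.Veronese`.
-/

set_option autoImplicit false
set_option linter.unusedSectionVars false
set_option linter.dupNamespace false
set_option linter.style.haveILetI false
universe u
open DirectSum CategoryTheory

namespace Groth.Agent.Lib.Seat91.Veronese

open Groth.Agent.Lib.Seat91.GrAcyc Groth.Agent.Lib.Seat91.GrAcycRes

variable {R R' : Type u} [CommRing R] [CommRing R'] {𝒜 : ℤ → AddSubgroup R}
  {𝒜' : ℤ → AddSubgroup R'} [GradedRing 𝒜] [GradedRing 𝒜'] (D : VerData 𝒜 𝒜')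

variable (m : HomogeneousIdeal 𝒜) (m' : HomogeneousIdeal 𝒜')
  (hmsp : m.toIdeal = Ideal.span (⋃ n ∈ Set.Ioi (0 : ℤ), (𝒜 n : Set R)))
  (hm'sp : m'.toIdeal = Ideal.span (⋃ j ∈ Set.Ioi (0 : ℤ), (𝒜' j : Set R')))

include hmsp hm'sp in
theorem ver_locCoh_subsingleton [IsNoetherianRing R] [IsNoetherianRing R']
    (X : GrLC.GMod.{u} 𝒜) (hX : GrLC.IsStarInj 𝒜 X.gr) (p : ℕ) (hp : 0 < p) :
    Subsingleton (LocCoh.H m'.toIdeal p (Ver D X.gr)) := by
  letI : Algebra R' R := D.φ.toAlgebra
  letI : Module R' X.carrier := Module.compHom X.carrier D.φ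
  haveI : IsScalarTower R' R X.carrier := ⟨fun a b c => by
    show (D.φ a * b) • c = D.φ a • (b • c)
    rw [mul_smul]⟩
  obtain ⟨ψ, -⟩ := Groth.Agent.S11614.result R' R m'.toIdeal X.carrier p
  have hrad : (Ideal.map (algebraMap R' R) m'.toIdeal).radical = m.toIdeal.radical :=
    radical_map_eq D m m' hmsp hm'sp
  haveI h1 : Subsingleton (LocCoh.H m.toIdeal p X.carrier) :=
    Groth.Agent.S13217.result R 𝒜 m X.carrier X.gr hX p hp
  haveI h2 : Subsingleton (LocCoh.H (Ideal.map (algebraMap R' R) m'.toIdeal) p X.carrier) :=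
    Groth.Agent.Lib.Helper8.Acyc.subsingleton_of_radical_eq hrad p X.carrier h1
  haveI h3 : Subsingleton (LocCoh.H m'.toIdeal p X.carrier) := ψ.symm.toEquiv.subsingleton
  -- the Veronese module is a retract
  let incl : Ver D X.gr →ₗ[R'] X.carrier :=
    { toFun := fun x => Ver.val D X.gr x
      map_add' := fun x y => map_add (Ver.val D X.gr) x y
      map_smul' := fun r x => rfl }
  let proj : X.carrier →ₗ[R'] Ver D X.gr :=
    { toFun := fun y => verProjHom D X.gr y
      map_add' := fun y z => map_add (verProjHom D X.gr) y z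
      map_smul' := fun r y => verProjHom_smul D X.gr r y }
  have hpi : proj ∘ₗ incl = LinearMap.id := by
    apply LinearMap.ext
    intro y
    exact verProjHom_val D X.gr y
  let F := localCohomology m'.toIdeal p
  have h4 : F.map (ModuleCat.ofHom incl) ≫ F.map (ModuleCat.ofHom proj) = 𝟙 _ := by
    rw [← F.map_comp, ← ModuleCat.ofHom_comp, hpi, ModuleCat.ofHom_id, F.map_id]
  refine ⟨fun x y => ?_⟩
  have h5 : ∀ z : LocCoh.H m'.toIdeal p (Ver D X.gr),
      (F.map (ModuleCat.ofHom proj)).hom ((F.map (ModuleCat.ofHom incl)).hom z) = z := by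
    intro z
    have := congrArg (fun f => f.hom z) h4
    simpa using this
  rw [← h5 x, ← h5 y]
  congr 1
  exact Subsingleton.elim _ _

include hmsp hm'sp in
/-- the Veronese module of a *injective module is acyclic -/
theorem ver_isAcyc [IsNoetherianRing R] (X : GrLC.GMod.{u} 𝒜) (hX : GrLC.IsStarInj 𝒜 X.gr) :
    IsAcyc m' (verGMod D X) := by
  haveI : IsNoetherianRing R' := isNoetherianRing D
  apply isAcyc_of_locCoh
  intro p hp
  exact ver_locCoh_subsingleton D m m' hmsp hm'sp X hX p hp

end Groth.Agent.Lib.Seat91.Veronese
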