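import Groth.Agent.Lib.Seat91Ver

/-!
# The Veronese module, part B (seat 91)

* `toVer` — a graded `R'`-module presented as `N^(q)` is isomorphic to `Ver D 𝓝`;
* `isNoetherianRing` — `R'` is Noetherian if `R` is;
* `deg0Map` — the bijection `R'_0 → R_0`;
* `radical_map_eq`, `mem_gam_iff` — `√(m' R) = √m`, `Γ_{m'}(N^(q)) = Γ_m(N) ∩ N^(q)`.

Namespace `Groth.Agent.Lib.Seat91.Veronese`.
-/

set_option autoImplicit false
set_option linter.unusedSectionVars false
set_option linter.dupNamespace false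
universe u
open DirectSum

namespace Groth.Agent.Lib.Seat91.Veronese

variable {R R' : Type u} [CommRing R] [CommRing R'] {𝒜 : ℤ → AddSubgroup R}
  {𝒜' : ℤ → AddSubgroup R'} [GradedRing 𝒜] [GradedRing 𝒜'] (D : VerData 𝒜 𝒜')

section present

variable {N : Type u} [AddCommGroup N] [Module R N] (𝓝 : ℤ → AddSubgroup N)
  [DirectSum.Decomposition 𝓝] [SetLike.GradedSMul 𝒜 𝓝]
variable {M' : Type u} [AddCommGroup M'] [Module R' M'] (ℳ' : ℤ → AddSubgroup M')
  [DirectSum.Decomposition ℳ']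
  (g : M' →ₛₗ[D.φ] N) (hg : Function.Injective g)
  (hgdeg : ∀ j : ℤ, (ℳ' j).map (g : M' →+ N) = 𝓝 (j * D.q))

include hgdeg in
theorem g_mem_verSub (x : M') : g x ∈ verSub 𝓝 D.q := by
  classical
  induction x using DirectSum.Decomposition.inductionOn ℳ' with
  | zero =>
    rw [map_zero]
    exact zero_mem _
  | homogeneous m =>
    rename_i j
    apply mem_verSub_of_mem 𝓝 D.q (j := j)
    rw [← hgdeg j]
    exact ⟨m, m.2, rfl⟩
  | add a b ha hb =>
    rw [map_add]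
    exact add_mem ha hb

/-- the presentation isomorphism, as a linear map -/
def toVer : M' →ₗ[R'] Ver D 𝓝 where
  toFun x := Ver.mk D 𝓝 (g x) (g_mem_verSub D 𝓝 ℳ' g hgdeg x)
  map_add' x y := Ver.val_injective D 𝓝 (map_add g x y)
  map_smul' r x := Ver.val_injective D 𝓝 (map_smulₛₗ g r x)

theorem val_toVer (x : M') : Ver.val D 𝓝 (toVer D 𝓝 ℳ' g hgdeg x) = g x := rfl

include hg in
theorem toVer_injective : Function.Injective (toVer D 𝓝 ℳ' g hgdeg) := by
  intro x y hxy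
  apply hg
  exact congrArg (Ver.val D 𝓝) hxy

theorem toVer_surjective : Function.Surjective (toVer D 𝓝 ℳ' g hgdeg) := by
  intro x
  have h1 : verSub 𝓝 D.q ≤ (g : M' →+ N).range := by
    apply verSub_le
    intro j
    rw [← hgdeg j]
    exact AddSubgroup.map_le_range _ _
  obtain ⟨y, hy⟩ := h1 (Ver.val_mem D 𝓝 x)
  exact ⟨y, Ver.val_injective D 𝓝 hy⟩

theorem toVer_grHom : GrLC.IsGrHom ℳ' (verGr D 𝓝) (toVer D 𝓝 ℳ' g hgdeg) := by
  intro j x hx
  rw [mem_verGr, val_toVer, ← hgdeg j]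
  exact ⟨x, hx, rfl⟩

end present

section noeth

theorem exists_φ_eq_verProj (r : R) : ∃ r' : R', D.φ r' = verProj 𝒜 D.q r := by
  have h1 : verSub 𝒜 D.q ≤ (D.φ : R' →+ R).range := by
    apply verSub_le
    intro j
    rw [← D.hdeg j]
    exact AddSubgroup.map_le_range _ _
  exact h1 (verProj_mem 𝒜 D.q r)

theorem φ_mem_verSub (x : R') : D.φ x ∈ verSub 𝒜 D.q := by
  classical
  induction x using DirectSum.Decomposition.inductionOn 𝒜' with
  | zero =>
    rw [map_zero]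
    exact zero_mem _
  | homogeneous m =>
    rename_i j
    exact mem_verSub_of_mem 𝒜 D.q (j := j) (D.φ_mem m.2)
  | add a b ha hb =>
    rw [map_add]
    exact add_mem ha hb

/-- the retraction `R → R'` -/
noncomputable def ρ (r : R) : R' := Classical.choose (exists_φ_eq_verProj D r)

theorem φ_ρ (r : R) : D.φ (ρ D r) = verProj 𝒜 D.q r := Classical.choose_spec (exists_φ_eq_verProj D r)

theorem ρ_φ (x : R') : ρ D (D.φ x) = x := by
  apply D.inj
  rw [φ_ρ, verProj_of_mem 𝒜 D.q (φ_mem_verSub D x)]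

theorem ρ_add (a b : R) : ρ D (a + b) = ρ D a + ρ D b := by
  apply D.inj
  rw [map_add, φ_ρ, φ_ρ, φ_ρ, verProj_add]

theorem ρ_zero : ρ D 0 = 0 := by
  apply D.inj
  rw [map_zero, φ_ρ, verProj_zero]

theorem ρ_mul (x : R') (r : R) : ρ D (D.φ x * r) = x * ρ D r := by
  apply D.inj
  rw [map_mul, φ_ρ, φ_ρ]
  exact verProj_smul D 𝒜 x r

theorem comap_map (I : Ideal R') : Ideal.comap D.φ (Ideal.map D.φ I) = I := by
  apply le_antisymm
  · intro x hx
    rw [Ideal.mem_comap] at hx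
    have key : ∀ r ∈ Ideal.map D.φ I, ∀ s : R, ρ D (s * r) ∈ I := by
      intro r hr
      refine Submodule.span_induction (p := fun r _ => ∀ s : R, ρ D (s * r) ∈ I) ?_ ?_ ?_ ?_ hr
      · rintro _ ⟨a, ha, rfl⟩ s
        rw [mul_comm, ρ_mul]
        exact I.mul_mem_right _ ha
      · intro s
        rw [mul_zero, ρ_zero]
        exact zero_mem _
      · intro a b _ _ ha hb s
        rw [mul_add, ρ_add]
        exact add_mem (ha s) (hb s)
      · intro t a _ ha s
        rw [smul_eq_mul, ← mul_assoc]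
        exact ha (s * t)
    have := key _ hx 1
    rwa [one_mul, ρ_φ] at this
  · exact Ideal.le_comap_map

include D in
theorem isNoetherianRing [IsNoetherianRing R] : IsNoetherianRing R' := by
  rw [isNoetherianRing_iff, isNoetherian_iff']
  have hsm : StrictMono (Ideal.map D.φ : Ideal R' → Ideal R) := by
    intro I J hIJ
    refine lt_of_le_of_ne (Ideal.map_mono hIJ.le) (fun h => hIJ.ne ?_)
    rw [← comap_map D I, ← comap_map D J, h]
  have : WellFoundedGT (Ideal R) := (isNoetherian_iff' (R := R) (M := R)).1 inferInstance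
  exact hsm.wellFoundedGT

/-- the map `R'_0 → R_0` -/
def deg0Map : GrLC.deg0 𝒜' → GrLC.deg0 𝒜 := fun r => ⟨D.φ r.1, by
  have h := D.φ_mem r.2
  rw [zero_mul] at h
  exact h⟩

theorem deg0Map_coe (r : GrLC.deg0 𝒜') : ((deg0Map D r : GrLC.deg0 𝒜) : R) = D.φ r.1 := rfl

theorem deg0Map_bijective : Function.Bijective (deg0Map D) := by
  constructor
  · intro a b hab
    apply Subtype.ext
    apply D.inj
    exact congrArg Subtype.val hab
  · rintro ⟨r, hr⟩
    have hr' : r ∈ 𝒜 (0 * D.q) := by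
      rw [zero_mul]
      exact hr
    obtain ⟨r', h1, h2⟩ := D.exists_φ_eq hr'
    exact ⟨⟨r', h1⟩, Subtype.ext h2⟩

end noeth

section torsion

variable (m : HomogeneousIdeal 𝒜) (m' : HomogeneousIdeal 𝒜')
  (hmsp : m.toIdeal = Ideal.span (⋃ n ∈ Set.Ioi (0 : ℤ), (𝒜 n : Set R)))
  (hm'sp : m'.toIdeal = Ideal.span (⋃ j ∈ Set.Ioi (0 : ℤ), (𝒜' j : Set R')))

include hmsp hm'sp in
theorem map_le : Ideal.map D.φ m'.toIdeal ≤ m.toIdeal := by
  rw [hm'sp, Ideal.map_span, Ideal.span_le]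
  rintro _ ⟨r, hr, rfl⟩
  simp only [Set.mem_iUnion, Set.mem_Ioi, SetLike.mem_coe] at hr
  obtain ⟨j, hj, hr⟩ := hr
  rw [hmsp]
  apply Ideal.subset_span
  simp only [Set.mem_iUnion, Set.mem_Ioi, SetLike.mem_coe]
  exact ⟨j * D.q, mul_pos hj (by exact_mod_cast D.hq), D.φ_mem hr⟩

include hm'sp in
theorem exists_pow_eq {n : ℤ} (hn : 0 < n) {y : R} (hy : y ∈ 𝒜 n) :
    ∃ r' ∈ m'.toIdeal, D.φ r' = y ^ D.q := by
  have h1 : y ^ D.q ∈ 𝒜 (n * D.q) := by
    have := SetLike.pow_mem_graded D.q hy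
    rwa [nsmul_eq_mul, mul_comm] at this
  obtain ⟨r', h2, h3⟩ := D.exists_φ_eq h1
  refine ⟨r', ?_, h3⟩
  rw [hm'sp]
  apply Ideal.subset_span
  simp only [Set.mem_iUnion, Set.mem_Ioi, SetLike.mem_coe]
  exact ⟨n, hn, h2⟩

include hmsp hm'sp in
theorem radical_map_eq : (Ideal.map D.φ m'.toIdeal).radical = m.toIdeal.radical := by
  apply le_antisymm
  · exact Ideal.radical_mono (map_le D m m' hmsp hm'sp)
  · rw [Ideal.radical_le_radical_iff, hmsp, Ideal.span_le]
    intro y hy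
    simp only [Set.mem_iUnion, Set.mem_Ioi, SetLike.mem_coe] at hy
    obtain ⟨n, hn, hy⟩ := hy
    obtain ⟨r', h1, h2⟩ := exists_pow_eq D m' hm'sp hn hy
    refine ⟨D.q, ?_⟩
    rw [← h2]
    exact Ideal.mem_map_of_mem _ h1

variable {N : Type u} [AddCommGroup N] [Module R N] (𝓝 : ℤ → AddSubgroup N)
  [DirectSum.Decomposition 𝓝] [SetLike.GradedSMul 𝒜 𝓝]

include hmsp hm'sp in
theorem mem_gam_iff [IsNoetherianRing R] (x : Ver D 𝓝) :
    x ∈ GrLC.gam m'.toIdeal (Ver D 𝓝) ↔ Ver.val D 𝓝 x ∈ GrLC.gam m.toIdeal N := by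
  constructor
  · rintro ⟨k, hk⟩
    -- `m ≤ √(ann x)`
    let J : Ideal R := LinearMap.ker (LinearMap.toSpanSingleton R N (Ver.val D 𝓝 x))
    have hJ : ∀ r : R, r ∈ J ↔ r • Ver.val D 𝓝 x = 0 := by
      intro r
      rw [LinearMap.mem_ker, LinearMap.toSpanSingleton_apply]
    have h1 : m.toIdeal ≤ J.radical := by
      rw [hmsp, Ideal.span_le]
      intro y hy
      simp only [Set.mem_iUnion, Set.mem_Ioi, SetLike.mem_coe] at hy
      obtain ⟨n, hn, hy⟩ := hy
      obtain ⟨r', h1, h2⟩ := exists_pow_eq D m' hm'sp hn hy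
      refine ⟨D.q * k, ?_⟩
      rw [hJ, pow_mul, ← h2, ← map_pow, ← Ver.val_smul, hk _ (Ideal.pow_mem_pow h1 k), map_zero]
    obtain ⟨K, hK⟩ := Ideal.exists_pow_le_of_le_radical_of_fg h1 (IsNoetherian.noetherian _)
    exact ⟨K, fun r hr => (hJ r).1 (hK hr)⟩
  · rintro ⟨k, hk⟩
    refine ⟨k, fun r hr => ?_⟩
    apply Ver.val_injective D 𝓝
    rw [Ver.val_smul, map_zero]
    apply hk
    have h2 : D.φ r ∈ Ideal.map D.φ (m'.toIdeal ^ k) := Ideal.mem_map_of_mem _ hr
    rw [Ideal.map_pow] at h2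
    exact Ideal.pow_right_mono (map_le D m m' hmsp hm'sp) k h2

end torsion

end Groth.Agent.Lib.Seat91.Veronese
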