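import Groth.Agent.Lib.Seat91VerAcyc

/-!
# Local cohomology of Veronese modules (seat 91)

`finrank_Hcomp_eq`: for a Noetherian `ℤ`-graded ring `R`, `m = R_+`, an abstract Veronese subring
`φ : R' → R`, `m' = R'_+`, a graded `R`-module `M` and a graded `R'`-module `M'` presented as
`M^(q)`:  `dim_{R'_0} H^p_{m'}(M')_j = dim_{R_0} H^p_m(M)_{jq}`.

Namespace `Groth.Agent.Lib.Seat91.Veronese`.
-/

set_option autoImplicit false
set_option linter.unusedSectionVars false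
set_option linter.dupNamespace false
set_option linter.style.haveILetI false
universe u
open DirectSum

namespace Groth.Agent.Lib.Seat91.Veronese

open Groth.Agent.Lib.Seat91.GrAcyc Groth.Agent.Lib.Seat91.GrAcycRes

section general

/-- ranks of subquotients correspond under a semilinear injection matching the sub-objects -/
theorem rank_quot_eq {K K' : Type u} [Ring K] [Ring K'] (σ : K' →+* K)
    (hσ : Function.Bijective σ)
    {V' V : Type u} [AddCommGroup V'] [Module K' V'] [AddCommGroup V] [Module K V]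
    (Z' B' : Submodule K' V') (Z B : Submodule K V) (f : V' →ₛₗ[σ] V)
    (hinj : Function.Injective f)
    (hZ : ∀ y : V, y ∈ Z ↔ ∃ x ∈ Z', f x = y)
    (hB : ∀ y : V, y ∈ B ↔ ∃ x ∈ B', f x = y) :
    Module.rank K' (↥Z' ⧸ B'.comap Z'.subtype) = Module.rank K (↥Z ⧸ B.comap Z.subtype) := by
  let fZ : ↥Z' →ₛₗ[σ] ↥Z :=
    { toFun := fun x => ⟨f x.1, (hZ _).2 ⟨x.1, x.2, rfl⟩⟩
      map_add' := fun x y => Subtype.ext (map_add f x.1 y.1)
      map_smul' := fun c x => Subtype.ext (map_smulₛₗ f c x.1) }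
  have hle : B'.comap Z'.subtype ≤ Submodule.comap fZ (B.comap Z.subtype) := by
    intro x hx
    rw [Submodule.mem_comap] at hx
    rw [Submodule.mem_comap, Submodule.mem_comap]
    exact (hB _).2 ⟨_, hx, rfl⟩
  let Φ := Submodule.mapQ (B'.comap Z'.subtype) (B.comap Z.subtype) fZ hle
  have hΦinj : Function.Injective Φ := by
    rw [injective_iff_map_eq_zero]
    intro x hx
    obtain ⟨x, rfl⟩ := Submodule.mkQ_surjective _ x
    rw [Submodule.mkQ_apply] at hx ⊢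
    rw [Submodule.mapQ_apply, Submodule.Quotient.mk_eq_zero, Submodule.mem_comap] at hx
    rw [Submodule.Quotient.mk_eq_zero, Submodule.mem_comap]
    obtain ⟨b, hb, hbx⟩ := (hB _).1 hx
    have h3 : Z'.subtype x = b := (hinj (hbx : f b = f (Z'.subtype x))).symm
    rw [h3]
    exact hb
  have hΦsurj : Function.Surjective Φ := by
    intro y
    obtain ⟨z, rfl⟩ := Submodule.mkQ_surjective _ y
    obtain ⟨x, hx, hxz⟩ := (hZ _).1 z.2
    refine ⟨Submodule.Quotient.mk ⟨x, hx⟩, ?_⟩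
    rw [Submodule.mapQ_apply, Submodule.mkQ_apply]
    congr 1
    exact Subtype.ext hxz
  exact rank_eq_of_equiv_equiv σ (AddEquiv.ofBijective Φ.toAddMonoidHom ⟨hΦinj, hΦsurj⟩) hσ
    (fun c x => map_smulₛₗ Φ c x)

end general

variable {R R' : Type u} [CommRing R] [CommRing R'] {𝒜 : ℤ → AddSubgroup R}
  {𝒜' : ℤ → AddSubgroup R'} [GradedRing 𝒜] [GradedRing 𝒜'] (D : VerData 𝒜 𝒜')

/-- the ring homomorphism `R'_0 → R_0` -/
def deg0Hom : GrLC.deg0 𝒜' →+* GrLC.deg0 𝒜 :=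
  RingHom.codRestrict (D.φ.comp (GrLC.deg0 𝒜').subtype) (GrLC.deg0 𝒜) (fun r => by
    have h := D.φ_mem (show (r : R') ∈ 𝒜' 0 from r.2)
    rw [zero_mul] at h
    exact h)

theorem deg0Hom_coe (r : GrLC.deg0 𝒜') : ((deg0Hom D r : GrLC.deg0 𝒜) : R) = D.φ r.1 := rfl

theorem deg0Hom_bijective : Function.Bijective (deg0Hom D) := deg0Map_bijective D

variable (m : HomogeneousIdeal 𝒜) (m' : HomogeneousIdeal 𝒜')
  (hmsp : m.toIdeal = Ideal.span (⋃ n ∈ Set.Ioi (0 : ℤ), (𝒜 n : Set R)))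
  (hm'sp : m'.toIdeal = Ideal.span (⋃ j ∈ Set.Ioi (0 : ℤ), (𝒜' j : Set R')))
variable [IsNoetherianRing R]
variable {M : Type u} [AddCommGroup M] [Module R M] {ℳ : ℤ → AddSubgroup M}
  [DirectSum.Decomposition ℳ] [SetLike.GradedSMul 𝒜 ℳ] (E : GrLC.StarInjRes 𝒜 ℳ)
variable {M' : Type u} [AddCommGroup M'] [Module R' M'] {ℳ' : ℤ → AddSubgroup M'}
  [DirectSum.Decomposition ℳ'] [SetLike.GradedSMul 𝒜' ℳ']
  (g : M' →ₛₗ[D.φ] M) (hg : Function.Injective g)
  (hgdeg : ∀ j : ℤ, (ℳ' j).map (g : M' →+ M) = ℳ (j * D.q))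

/-- the Veronese of a *injective resolution of `M` is an acyclic resolution of `M'` -/
noncomputable def verRes : AcycRes m' ℳ' where
  Y n := verGMod D (E.X n)
  d n := verMap D (E.d n) (E.d_grHom n)
  ε := (verMap D E.ε E.ε_grHom).comp (toVer D ℳ ℳ' g hgdeg)
  d_grHom n := verMap_grHom D (E.d n) (E.d_grHom n)
  ε_grHom := fun j x hx => verMap_grHom D E.ε E.ε_grHom j _ (toVer_grHom D ℳ ℳ' g hgdeg j x hx)
  ε_injective := (verMap_injective D E.ε E.ε_grHom E.ε_injective).comp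
    (toVer_injective D ℳ ℳ' g hg hgdeg)
  exact_zero := (ker_verMap D E.ε E.ε_grHom (E.d 0) (E.d_grHom 0) E.exact_zero).trans
    (LinearMap.range_comp_of_range_eq_top _
      (LinearMap.range_eq_top.2 (toVer_surjective D ℳ ℳ' g hgdeg))).symm
  exact_succ n := ker_verMap D (E.d n) (E.d_grHom n) (E.d (n + 1)) (E.d_grHom (n + 1))
    (E.exact_succ n)
  acyc n := ver_isAcyc D m m' hmsp hm'sp (E.X n) (E.starInj n)

/-- the semilinear inclusion `X^(q) → X` over `R'_0 → R_0` -/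
def valSL (X : GrLC.GMod.{u} 𝒜) : (verGMod D X).carrier →ₛₗ[deg0Hom D] X.carrier where
  toFun x := Ver.val D X.gr x
  map_add' x y := map_add (Ver.val D X.gr) x y
  map_smul' _ _ := rfl

theorem valSL_apply (X : GrLC.GMod.{u} 𝒜) (x : (verGMod D X).carrier) :
    valSL D X x = Ver.val D X.gr x := rfl

theorem valSL_injective (X : GrLC.GMod.{u} 𝒜) : Function.Injective (valSL D X) :=
  Ver.val_injective D X.gr

theorem mem_Zs_iff (p : ℕ) (j : ℤ) (y : (E.X p).carrier) :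
    y ∈ (ofStarInjRes m E).Zs p (j * D.q) ↔
      ∃ x ∈ (verRes D m m' hmsp hm'sp E g hg hgdeg).Zs p j, valSL D (E.X p) x = y := by
  constructor
  · rintro ⟨⟨hy1, hy2⟩, hy3⟩
    refine ⟨Ver.mk D (E.X p).gr y (mem_verSub_of_mem _ _ hy1),
      ⟨⟨hy1, (mem_gam_iff D m m' hmsp hm'sp (E.X p).gr _).2 hy2⟩, ?_⟩, rfl⟩
    apply Ver.val_injective D (E.X (p + 1)).gr
    exact (hy3 : E.d p y = 0).trans (map_zero _).symm
  · rintro ⟨x, ⟨⟨hx1, hx2⟩, hx3⟩, rfl⟩
    exact ⟨⟨hx1, (mem_gam_iff D m m' hmsp hm'sp (E.X p).gr _).1 hx2⟩,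
      (congrArg (Ver.val D (E.X (p + 1)).gr) hx3).trans (map_zero _)⟩

theorem mem_Bs_iff (p : ℕ) (j : ℤ) (y : (E.X p).carrier) :
    y ∈ (ofStarInjRes m E).Bs p (j * D.q) ↔
      ∃ x ∈ (verRes D m m' hmsp hm'sp E g hg hgdeg).Bs p j, valSL D (E.X p) x = y := by
  rcases p with _ | n
  · constructor
    · intro hy
      have hy0 : y = 0 := hy
      exact ⟨0, zero_mem _, (map_zero (valSL D (E.X 0))).trans hy0.symm⟩
    · rintro ⟨x, hx, rfl⟩
      have hx0 : x = 0 := hx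
      exact ((congrArg (valSL D (E.X 0)) hx0).trans (map_zero _) : valSL D (E.X 0) x = 0)
  · constructor
    · rintro ⟨u, ⟨hu1, hu2⟩, rfl⟩
      refine ⟨verMap D (E.d n) (E.d_grHom n) (Ver.mk D (E.X n).gr u (mem_verSub_of_mem _ _ hu1)),
        ⟨Ver.mk D (E.X n).gr u (mem_verSub_of_mem _ _ hu1),
          ⟨hu1, (mem_gam_iff D m m' hmsp hm'sp (E.X n).gr _).2 hu2⟩, rfl⟩, rfl⟩
    · rintro ⟨x, ⟨u, ⟨hu1, hu2⟩, rfl⟩, rfl⟩
      exact ⟨Ver.val D (E.X n).gr u,
        ⟨hu1, (mem_gam_iff D m m' hmsp hm'sp (E.X n).gr _).1 hu2⟩, rfl⟩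

include hmsp hm'sp g hg hgdeg in
/-- **local cohomology of the Veronese module**: `dim H^p_{m'}(M^(q))_j = dim H^p_m(M)_{jq}` -/
theorem finrank_Hcomp_eq (F : GrLC.StarInjRes 𝒜' ℳ') (p : ℕ) (j : ℤ) :
    Module.finrank (GrLC.deg0 𝒜') (F.Hcomp m' p j) =
      Module.finrank (GrLC.deg0 𝒜) (E.Hcomp m p (j * D.q)) := by
  haveI : IsNoetherianRing R' := isNoetherianRing D
  obtain ⟨e1⟩ := nonempty_Hcomp_equiv_Hs (a := m') p F
    (verRes D m m' hmsp hm'sp E g hg hgdeg) j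
  obtain ⟨e2⟩ := nonempty_Hcomp_equiv_Hs (a := m) p E (ofStarInjRes m E) (j * D.q)
  rw [e1.finrank_eq, e2.finrank_eq]
  unfold Module.finrank
  congr 1
  exact rank_quot_eq (deg0Hom D) (deg0Hom_bijective D) _ _ _ _ (valSL D (E.X p))
    (valSL_injective D (E.X p)) (mem_Zs_iff D m m' hmsp hm'sp E g hg hgdeg p j)
    (mem_Bs_iff D m m' hmsp hm'sp E g hg hgdeg p j)

end Groth.Agent.Lib.Seat91.Veronese
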