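import Mathlib.RingTheory.WittVector.Identities
import Mathlib.RingTheory.WittVector.Domain
import Mathlib.RingTheory.WittVector.InitTail
import Mathlib.RingTheory.WittVector.Truncated
import Mathlib.RingTheory.WittVector.Teichmuller
import Mathlib.RingTheory.WittVector.Frobenius
import Mathlib.RingTheory.Ideal.Span
import Mathlib.LinearAlgebra.Span.Basic
import Mathlib.Tactic

/-!
# Witt vectors of weakly `ℓ`-cyclic extensions in characteristic `p` (seat 91)

Namespace `Groth.Agent.Lib.Seat91.Witt`.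

Let `A → B` be domains of characteristic `p`, `B` spanned over `A` by a finite set `y` of elements whose
`ℓ`-th powers lie in `A`, `p ∤ ℓ`.  Main result `exists_teichmuller_mul_eq_sum`: there is `a ≠ 0` in `A`
such that for every Witt vector `η` over `B`, `[a]^(p^n) η` is a `W(A)`-linear combination of the finitely many
elements `F^n [b^u]`, `b ∈ y`, `u ≤ ℓ`.  Consequence `teichmuller_mul_mem_span`: `[a] V^n η` lies in the ideal of
`W(B)` generated by `V^n W(A)`.
-/

set_option autoImplicit false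
set_option linter.unusedSectionVars false

namespace Groth.Agent.Lib.Seat91.Witt

open WittVector Function

variable {p : ℕ} [hp : Fact p.Prime]

local notation "𝕎" => WittVector p

section general

variable {R : Type*} [CommRing R]

/-- the ideal of Witt vectors whose first `N` coefficients vanish -/
noncomputable def K (N : ℕ) : Ideal (𝕎 R) := RingHom.ker (truncate N : 𝕎 R →+* TruncatedWittVector p N R)

theorem mem_K {N : ℕ} {x : 𝕎 R} : x ∈ K (p := p) N ↔ ∀ i < N, x.coeff i = 0 := by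
  unfold K
  rw [mem_ker_truncate]

theorem iterate_verschiebung_mem_K (N : ℕ) (x : 𝕎 R) :
    (⇑(verschiebung : 𝕎 R →+ 𝕎 R))^[N] x ∈ K (p := p) N :=
  mem_K.2 fun _ hi => iterate_verschiebung_coeff_eq_zero x hi

theorem exists_of_mem_K {N : ℕ} {x : 𝕎 R} (h : x ∈ K (p := p) N) :
    ∃ y : 𝕎 R, x = (⇑(verschiebung : 𝕎 R →+ 𝕎 R))^[N] y :=
  ⟨x.shift N, eq_iterate_verschiebung (mem_K.1 h)⟩

theorem K_anti {M N : ℕ} (h : M ≤ N) : (K N : Ideal (𝕎 R)) ≤ K (p := p) M := by
  intro x hx
  exact mem_K.2 fun i hi => mem_K.1 hx i (lt_of_lt_of_le hi h)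

theorem eq_zero_of_forall_mem_K {x : 𝕎 R} (h : ∀ N, x ∈ K (p := p) N) : x = 0 := by
  ext i
  simpa using mem_K.1 (h (i + 1)) i (Nat.lt_succ_self i)

theorem coeff_eq_of_sub_mem_K {k : ℕ} {x y : 𝕎 R} (h : x - y ∈ K (p := p) (k + 1)) :
    x.coeff k = y.coeff k := by
  have h1 : truncate (k + 1) x = truncate (k + 1) y := by
    have : truncate (k + 1) (x - y) = 0 := h
    rw [map_sub, sub_eq_zero] at this
    exact this
  have := congrArg (TruncatedWittVector.coeff ⟨k, Nat.lt_succ_self k⟩) h1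
  simpa [coeff_truncate] using this

theorem sub_mem_K_of_coeff_eq {N : ℕ} {x y : 𝕎 R} (h : ∀ i < N, x.coeff i = y.coeff i) :
    x - y ∈ K (p := p) N := by
  show truncate N (x - y) = 0
  rw [map_sub, sub_eq_zero]
  ext i
  rw [coeff_truncate, coeff_truncate]
  exact h i i.2

theorem map_mem_K {S : Type*} [CommRing S] (f : R →+* S) {N : ℕ} {x : 𝕎 R} (h : x ∈ K (p := p) N) :
    WittVector.map f x ∈ K (p := p) N :=
  mem_K.2 fun i hi => by rw [map_coeff, mem_K.1 h i hi, map_zero]

theorem map_iterate_verschiebung {S : Type*} [CommRing S] (f : R →+* S) (N : ℕ) (x : 𝕎 R) :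
    WittVector.map f ((⇑(verschiebung : 𝕎 R →+ 𝕎 R))^[N] x) =
      (⇑(verschiebung : 𝕎 S →+ 𝕎 S))^[N] (WittVector.map f x) := by
  induction N with
  | zero => rfl
  | succ N ih => rw [iterate_succ_apply', iterate_succ_apply', map_verschiebung, ih]

theorem iterate_verschiebung_add (N : ℕ) (x y : 𝕎 R) :
    (⇑(verschiebung : 𝕎 R →+ 𝕎 R))^[N] (x + y) =
      (⇑(verschiebung : 𝕎 R →+ 𝕎 R))^[N] x + (⇑(verschiebung : 𝕎 R →+ 𝕎 R))^[N] y :=
  iterate_map_add _ N x y

theorem iterate_verschiebung_zero (N : ℕ) :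
    (⇑(verschiebung : 𝕎 R →+ 𝕎 R))^[N] 0 = 0 :=
  iterate_map_zero _ N

theorem iterate_verschiebung_sum {ι : Type*} (s : Finset ι) (g : ι → 𝕎 R) (N : ℕ) :
    (⇑(verschiebung : 𝕎 R →+ 𝕎 R))^[N] (∑ i ∈ s, g i) =
      ∑ i ∈ s, (⇑(verschiebung : 𝕎 R →+ 𝕎 R))^[N] (g i) := by
  classical
  induction s using Finset.induction_on with
  | empty => simp
  | insert a s ha ih => rw [Finset.sum_insert ha, Finset.sum_insert ha, iterate_verschiebung_add, ih]

variable [CharP R p]

theorem iterate_frobenius_teichmuller (k : ℕ) (b : R) :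
    (⇑(frobenius : 𝕎 R →+* 𝕎 R))^[k] (teichmuller p b) = teichmuller p (b ^ p ^ k) := by
  induction k with
  | zero => simp
  | succ k ih =>
    rw [iterate_succ_apply', ih, frobenius_eq_map_frobenius, map_teichmuller, frobenius_def,
      ← pow_mul, pow_succ]

/-- `[c] * V^N x = V^N ([c^(p^N)] * x)` -/
theorem teichmuller_mul_iterate_verschiebung (N : ℕ) (c : R) (x : 𝕎 R) :
    teichmuller p c * (⇑(verschiebung : 𝕎 R →+ 𝕎 R))^[N] x =
      (⇑(verschiebung : 𝕎 R →+ 𝕎 R))^[N] (teichmuller p (c ^ p ^ N) * x) := by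
  rw [mul_comm, iterate_verschiebung_mul_left, iterate_frobenius_teichmuller, mul_comm]

end general

section arith

/-- an inverse `u` of `m` modulo `ℓ` with `u ≤ ℓ` and quotient `v ≤ m` -/
theorem exists_mul_eq_one_add_mul {m ℓ : ℕ} (hℓ : 0 < ℓ) (hm : 0 < m) (h : Nat.Coprime m ℓ) :
    ∃ u v : ℕ, u * m = 1 + v * ℓ ∧ v ≤ m ∧ u ≤ ℓ := by
  rcases Nat.lt_or_ge 1 ℓ with h1 | h1
  · obtain ⟨u, hlt, hu⟩ := Nat.exists_mul_mod_eq_one_of_coprime h h1
    refine ⟨u, m * u / ℓ, ?_, ?_, hlt.le⟩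
    · have h3 := Nat.div_add_mod (m * u) ℓ
      rw [hu] at h3
      rw [mul_comm u m, mul_comm (m * u / ℓ) ℓ]
      omega
    · apply Nat.div_le_of_le_mul
      rw [mul_comm ℓ m]
      exact Nat.mul_le_mul_left m hlt.le
  · have : ℓ = 1 := by omega
    subst this
    exact ⟨1, m - 1, by omega, by omega, le_refl _⟩

end arith

section main

open Classical in
/-- the product of the chosen `ℓ`-th powers of the nonzero generators -/
noncomputable def aElt {A B : Type*} [CommRing A] [CommRing B] (y : Finset B) (c : B → A) : A :=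
  ∏ b ∈ y.filter (fun b => b ≠ 0), c b

/-- the index set: generators together with an exponent `≤ ℓ` -/
def idx {B : Type*} (y : Finset B) (ℓ : ℕ) : Finset (B × ℕ) := y ×ˢ Finset.range (ℓ + 1)

variable {A B : Type*} [CommRing A] [CommRing B] [IsDomain A] [IsDomain B] [Algebra A B]
  [CharP A p] [CharP B p]

/-- the elements `F^n [b^u]` -/
noncomputable def T (n : ℕ) (i : B × ℕ) : 𝕎 B :=
  (⇑(frobenius : 𝕎 B →+* 𝕎 B))^[n] (teichmuller p (i.1 ^ i.2))

variable (y : Finset B) (ℓ : ℕ) (c : B → A)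

theorem aElt_ne_zero
    (hc : ∀ b ∈ y, algebraMap A B (c b) = b ^ ℓ) : aElt y c ≠ 0 := by
  classical
  unfold aElt
  rw [Finset.prod_ne_zero_iff]
  intro b hb
  rw [Finset.mem_filter] at hb
  intro h0
  have := hc b hb.1
  rw [h0, map_zero] at this
  have hℓ0 : ℓ ≠ 0 := by
    rintro rfl
    simp at this
  exact hb.2 ((pow_eq_zero_iff hℓ0).1 this.symm)

theorem mono_step (hc : ∀ b ∈ y, algebraMap A B (c b) = b ^ ℓ) (hℓ : 0 < ℓ) (hpℓ : ¬ p ∣ ℓ)
    (n N : ℕ) (b : B) (hb : b ∈ y) (g : A) :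
    ∃ (u : ℕ) (x : A), u ∈ Finset.range (ℓ + 1) ∧
      teichmuller p (algebraMap A B (aElt y c)) ^ p ^ n *
          (⇑(verschiebung : 𝕎 B →+ 𝕎 B))^[N] (teichmuller p (algebraMap A B g * b)) =
        WittVector.map (algebraMap A B)
            ((⇑(verschiebung : 𝕎 A →+ 𝕎 A))^[N] (teichmuller p x)) * T (p := p) n (b, u) := by
  classical
  by_cases hb0 : b = 0
  · refine ⟨0, 0, by simp, ?_⟩
    subst hb0
    simp [teichmuller_zero]
  · set m : ℕ := p ^ (n + N) with hm
    have hmpos : 0 < m := pow_pos hp.out.pos _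
    have hcop : Nat.Coprime m ℓ := by
      apply Nat.Coprime.pow_left
      exact (Nat.Prime.coprime_iff_not_dvd hp.out).2 hpℓ
    obtain ⟨u, v, huv, hvm, huℓ⟩ := exists_mul_eq_one_add_mul hℓ hmpos hcop
    have hbmem : b ∈ y.filter (fun b => b ≠ 0) := Finset.mem_filter.2 ⟨hb, hb0⟩
    set r : A := ∏ b' ∈ (y.filter (fun b => b ≠ 0)).erase b, c b' with hr
    have ha : aElt y c = c b * r := by
      unfold aElt
      rw [hr, Finset.mul_prod_erase _ _ hbmem]
    refine ⟨u, g * c b ^ (m - v) * r ^ m, Finset.mem_range.2 (Nat.lt_succ_of_le huℓ), ?_⟩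
    have key : algebraMap A B (aElt y c) ^ m * (algebraMap A B g * b) =
        algebraMap A B (g * c b ^ (m - v) * r ^ m) * (b ^ u) ^ m := by
      have e1 : (b ^ u) ^ m = b * algebraMap A B (c b) ^ v := by
        rw [← pow_mul, huv, pow_add, pow_one, mul_comm v ℓ, pow_mul, hc b hb]
      have e2 : algebraMap A B (c b) ^ m = algebraMap A B (c b) ^ (m - v) * algebraMap A B (c b) ^ v := by
        rw [← pow_add, Nat.sub_add_cancel hvm]
      rw [e1, ha, map_mul, map_mul, map_mul, map_pow, map_pow, mul_pow, e2]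
      ring
    unfold T
    rw [← map_pow, teichmuller_mul_iterate_verschiebung, ← map_mul, map_iterate_verschiebung,
      map_teichmuller, iterate_verschiebung_mul_left, ← iterate_add_apply,
      iterate_frobenius_teichmuller, ← map_mul]
    congr 2
    rw [← pow_mul, ← pow_add, ← hm, key, hm, add_comm n N]

/-- one step of the successive approximation -/
theorem approx_step (hspan : Submodule.span A (y : Set B) = ⊤)
    (hc : ∀ b ∈ y, algebraMap A B (c b) = b ^ ℓ) (hℓ : 0 < ℓ) (hpℓ : ¬ p ∣ ℓ)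
    (n N : ℕ) (w : 𝕎 B) :
    ∃ (Y : B × ℕ → 𝕎 A) (w' : 𝕎 B), (∀ i, Y i ∈ K (p := p) N) ∧
      teichmuller p (algebraMap A B (aElt y c)) ^ p ^ n *
          (⇑(verschiebung : 𝕎 B →+ 𝕎 B))^[N] w =
        ∑ i ∈ idx y ℓ, WittVector.map (algebraMap A B) (Y i) * T (p := p) n i +
          teichmuller p (algebraMap A B (aElt y c)) ^ p ^ n *
            (⇑(verschiebung : 𝕎 B →+ 𝕎 B))^[N + 1] w' := by
  classical
  have hb₀ : w.coeff 0 ∈ Submodule.span A (y : Set B) := by rw [hspan]; trivial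
  obtain ⟨g, -, hg⟩ := Submodule.mem_span_finset.1 hb₀
  set t : 𝕎 B := ∑ b ∈ y, teichmuller p (algebraMap A B (g b) * b) with ht
  have h0 : (w - t).coeff 0 = 0 := by
    have h1 : (w - t).coeff 0 = constantCoeff (w - t) := rfl
    rw [h1, map_sub, ht, map_sum]
    have h2 : ∀ b ∈ y, constantCoeff (teichmuller p (algebraMap A B (g b) * b)) = g b • b := by
      intro b _
      show (teichmuller p (algebraMap A B (g b) * b)).coeff 0 = g b • b
      rw [teichmuller_coeff_zero, Algebra.smul_def]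
    rw [Finset.sum_congr rfl h2, hg]
    show w.coeff 0 - w.coeff 0 = 0
    exact sub_self _
  have hw : w = t + verschiebung ((w - t).shift 1) := by
    have := eq_iterate_verschiebung (x := w - t) (n := 1) (fun i hi => by
      have : i = 0 := by omega
      subst this; exact h0)
    rw [iterate_one] at this
    rw [← this]; ring
  have hstep : ∀ b ∈ y, ∃ (u : ℕ) (x : A), u ∈ Finset.range (ℓ + 1) ∧
      teichmuller p (algebraMap A B (aElt y c)) ^ p ^ n *
          (⇑(verschiebung : 𝕎 B →+ 𝕎 B))^[N] (teichmuller p (algebraMap A B (g b) * b)) =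
        WittVector.map (algebraMap A B)
            ((⇑(verschiebung : 𝕎 A →+ 𝕎 A))^[N] (teichmuller p x)) * T (p := p) n (b, u) :=
    fun b hb => mono_step y ℓ c hc hℓ hpℓ n N b hb (g b)
  choose! u x hu hx using hstep
  refine ⟨fun i => if i.2 = u i.1 then (⇑(verschiebung : 𝕎 A →+ 𝕎 A))^[N] (teichmuller p (x i.1)) else 0,
    (w - t).shift 1, ?_, ?_⟩
  · intro i
    dsimp only
    split_ifs
    · exact iterate_verschiebung_mem_K N _
    · exact Ideal.zero_mem _
  · have hsum : ∑ i ∈ idx y ℓ, WittVector.map (algebraMap A B)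
          (if i.2 = u i.1 then (⇑(verschiebung : 𝕎 A →+ 𝕎 A))^[N] (teichmuller p (x i.1)) else 0) *
            T (p := p) n i =
        ∑ b ∈ y, WittVector.map (algebraMap A B)
          ((⇑(verschiebung : 𝕎 A →+ 𝕎 A))^[N] (teichmuller p (x b))) * T (p := p) n (b, u b) := by
      unfold idx
      rw [Finset.sum_product]
      refine Finset.sum_congr rfl fun b hb => ?_
      rw [Finset.sum_eq_single (u b)]
      · simp
      · intro u' _ hne
        simp [hne]
      · intro hnot
        exact absurd (hu b hb) hnot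
    rw [hsum]
    conv_lhs => rw [hw]
    rw [iterate_verschiebung_add, mul_add, ht, iterate_verschiebung_sum, Finset.mul_sum]
    congr 1
    exact Finset.sum_congr rfl fun b hb => hx b hb

/-- the main decomposition: `[a]^(p^n) η` is a `W(A)`-combination of the `F^n [b^u]` -/
theorem exists_eq_sum (hspan : Submodule.span A (y : Set B) = ⊤)
    (hc : ∀ b ∈ y, algebraMap A B (c b) = b ^ ℓ) (hℓ : 0 < ℓ) (hpℓ : ¬ p ∣ ℓ)
    (n : ℕ) (η : 𝕎 B) :
    ∃ X : B × ℕ → 𝕎 A, teichmuller p (algebraMap A B (aElt y c)) ^ p ^ n * η =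
      ∑ i ∈ idx y ℓ, WittVector.map (algebraMap A B) (X i) * T (p := p) n i := by
  classical
  choose Ys ws hK hstep using fun N w => approx_step (p := p) y ℓ c hspan hc hℓ hpℓ n N w
  let s : ℕ → (B × ℕ → 𝕎 A) × 𝕎 B :=
    fun N => Nat.rec (0, η) (fun N s => (s.1 + Ys N s.2, ws N s.2)) N
  have hs0 : s 0 = (0, η) := rfl
  have hsS : ∀ N, s (N + 1) = ((s N).1 + Ys N (s N).2, ws N (s N).2) := fun N => rfl
  set E : 𝕎 B := teichmuller p (algebraMap A B (aElt y c)) ^ p ^ n with hE
  have hP : ∀ N, E * η = ∑ i ∈ idx y ℓ, WittVector.map (algebraMap A B) ((s N).1 i) * T (p := p) n i +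
      E * (⇑(verschiebung : 𝕎 B →+ 𝕎 B))^[N] (s N).2 := by
    intro N
    induction N with
    | zero => simp [hs0]
    | succ N ih =>
      rw [ih, hstep N (s N).2, hsS]
      simp only [Pi.add_apply, map_add, add_mul, Finset.sum_add_distrib]
      ring
  have hdiff : ∀ N i, (s (N + 1)).1 i - (s N).1 i ∈ K (p := p) N := by
    intro N i
    rw [hsS]
    simp only [Pi.add_apply, add_sub_cancel_left]
    exact hK N (s N).2 i
  have hdiff' : ∀ k N, k + 1 ≤ N → ∀ i, (s N).1 i - (s (k + 1)).1 i ∈ K (p := p) (k + 1) := by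
    intro k N hN i
    induction N, hN using Nat.le_induction with
    | base => simp
    | succ N hN ih =>
      have h1 := K_anti (p := p) (R := A) hN (hdiff N i)
      have h2 : (s (N + 1)).1 i - (s (k + 1)).1 i =
          ((s (N + 1)).1 i - (s N).1 i) + ((s N).1 i - (s (k + 1)).1 i) := by ring
      rw [h2]
      exact Ideal.add_mem _ h1 ih
  let X : B × ℕ → 𝕎 A := fun i => WittVector.mk p (fun k => ((s (k + 1)).1 i).coeff k)
  have hX : ∀ N i, X i - (s N).1 i ∈ K (p := p) N := by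
    intro N i
    apply sub_mem_K_of_coeff_eq
    intro k hk
    show ((s (k + 1)).1 i).coeff k = _
    exact (coeff_eq_of_sub_mem_K (hdiff' k N hk i)).symm
  refine ⟨X, ?_⟩
  rw [← sub_eq_zero]
  apply eq_zero_of_forall_mem_K (p := p)
  intro N
  have h3 : E * η - ∑ i ∈ idx y ℓ, WittVector.map (algebraMap A B) (X i) * T (p := p) n i =
      E * (⇑(verschiebung : 𝕎 B →+ 𝕎 B))^[N] (s N).2 -
        ∑ i ∈ idx y ℓ, WittVector.map (algebraMap A B) (X i - (s N).1 i) * T (p := p) n i := by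
    rw [hP N]
    simp only [map_sub, sub_mul, Finset.sum_sub_distrib]
    ring
  rw [h3]
  apply Ideal.sub_mem
  · exact Ideal.mul_mem_left _ _ (iterate_verschiebung_mem_K N _)
  · apply Ideal.sum_mem
    intro i _
    exact Ideal.mul_mem_right _ _ (map_mem_K _ (hX N i))

/-- `[a] V^n η` lies in the ideal of `W(B)` generated by the image of `V^n W(A)` -/
theorem teichmuller_mul_mem_span (hspan : Submodule.span A (y : Set B) = ⊤)
    (hc : ∀ b ∈ y, algebraMap A B (c b) = b ^ ℓ) (hℓ : 0 < ℓ) (hpℓ : ¬ p ∣ ℓ)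
    (n : ℕ) (η : 𝕎 B) :
    teichmuller p (algebraMap A B (aElt y c)) * (⇑(verschiebung : 𝕎 B →+ 𝕎 B))^[n] η ∈
      Ideal.span (Set.range (fun x : 𝕎 A =>
        WittVector.map (algebraMap A B) ((⇑(verschiebung : 𝕎 A →+ 𝕎 A))^[n] x))) := by
  obtain ⟨X, hX⟩ := exists_eq_sum (p := p) y ℓ c hspan hc hℓ hpℓ n η
  have h1 : teichmuller p (algebraMap A B (aElt y c)) * (⇑(verschiebung : 𝕎 B →+ 𝕎 B))^[n] η =
      (⇑(verschiebung : 𝕎 B →+ 𝕎 B))^[n] (teichmuller p (algebraMap A B (aElt y c)) ^ p ^ n * η) := by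
    rw [teichmuller_mul_iterate_verschiebung, map_pow]
  rw [h1, hX, iterate_verschiebung_sum]
  apply Ideal.sum_mem
  intro i _
  have h2 : (⇑(verschiebung : 𝕎 B →+ 𝕎 B))^[n] (WittVector.map (algebraMap A B) (X i) * T (p := p) n i) =
      WittVector.map (algebraMap A B) ((⇑(verschiebung : 𝕎 A →+ 𝕎 A))^[n] (X i)) *
        teichmuller p (i.1 ^ i.2) := by
    unfold T
    rw [← iterate_verschiebung_mul_left, map_iterate_verschiebung]
  rw [h2]
  exact Ideal.mul_mem_right _ _ (Ideal.subset_span ⟨X i, rfl⟩)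

end main

end Groth.Agent.Lib.Seat91.Witt
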