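import Mathlib
import Groth.Prelude.Def_Curves

/-!
# Schemes local for Zariski and finite coverings

`IsLocalFor K P`: every morphism from `P` to the target of a jointly surjective family of
`K`-morphisms factors through a member. The spectrum of a local ring is local for open immersions,
the spectrum of an absolutely integrally closed domain is local for finite morphisms, and conversely.
-/

set_option autoImplicit false
set_option linter.style.haveILetI false
universe u
open CategoryTheory CategoryTheory.Limits AlgebraicGeometry TopologicalSpace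
open Polynomial

namespace Groth.Agent.Lib.Seat92.AICLocal


/-- Over an absolutely integrally closed ring, an element of a domain which is integral along a
ring map lies in the range. -/
theorem mem_range_of_isIntegralElem {A C : Type*} [CommRing A] [CommRing C] [IsDomain C]
    (hA : Curves.IsAIC A) (φ : A →+* C) (c : C) (hc : φ.IsIntegralElem c) : c ∈ φ.range := by
  haveI : Nontrivial A := φ.domain_nontrivial
  obtain ⟨p, hp, hpc⟩ := hc
  induction' hn : p.natDegree using Nat.strong_induction_on with n ih generalizing p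
  by_cases h0 : p.natDegree = 0
  · have h1 : p = 1 := hp.natDegree_eq_zero.mp h0
    subst h1
    simp at hpc
  · obtain ⟨a, ha⟩ := hA p hp (Nat.pos_of_ne_zero h0)
    have hroot : p.IsRoot a := ha
    obtain ⟨q, hq⟩ := Polynomial.dvd_iff_isRoot.mpr hroot
    have hqm : q.Monic := (monic_X_sub_C a).of_mul_monic_left (hq ▸ hp)
    have h2 : eval₂ φ c p = (c - φ a) * eval₂ φ c q := by
      rw [hq, eval₂_mul]; simp
    have hdeg : p.natDegree = 1 + q.natDegree := by
      rw [hq, (monic_X_sub_C a).natDegree_mul hqm, natDegree_X_sub_C]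
    rcases mul_eq_zero.mp (h2 ▸ hpc) with h | h
    · exact ⟨a, (sub_eq_zero.mp h).symm⟩
    · exact ih q.natDegree (by omega) q hqm h rfl

/-- An integral ring map from an absolutely integrally closed ring with a prime lying over `⊥`
admits a retraction. -/
theorem exists_retraction {A B : Type*} [CommRing A] [CommRing B]
    (hA : Curves.IsAIC A) (φ : A →+* B) (hφ : φ.IsIntegral) (𝔭 : Ideal B) [𝔭.IsPrime]
    (h𝔭 : 𝔭.comap φ = ⊥) : ∃ ψ : B →+* A, ψ.comp φ = RingHom.id A := by
  let χ : A →+* B ⧸ 𝔭 := (Ideal.Quotient.mk 𝔭).comp φ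
  have hinj : Function.Injective χ := by
    rw [RingHom.injective_iff_ker_eq_bot, ← h𝔭]
    ext a
    simp [χ, RingHom.mem_ker, Ideal.Quotient.eq_zero_iff_mem]
  have hsurj : Function.Surjective χ := by
    intro c
    obtain ⟨b, rfl⟩ := Ideal.Quotient.mk_surjective c
    obtain ⟨p, hp, hpb⟩ := hφ b
    have : χ.IsIntegralElem (Ideal.Quotient.mk 𝔭 b) := by
      refine ⟨p, hp, ?_⟩
      have := Polynomial.hom_eval₂ p φ (Ideal.Quotient.mk 𝔭) b
      rw [← this, hpb, map_zero]
    obtain ⟨a, ha⟩ := mem_range_of_isIntegralElem hA χ _ this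
    exact ⟨a, ha⟩
  let e : A ≃+* B ⧸ 𝔭 := RingEquiv.ofBijective χ ⟨hinj, hsurj⟩
  refine ⟨e.symm.toRingHom.comp (Ideal.Quotient.mk 𝔭), ?_⟩
  ext a
  show e.symm (χ a) = a
  exact e.symm_apply_apply a



/-- `P` is local for the jointly surjective families of `K`-morphisms. -/
def IsLocalFor (K : MorphismProperty Scheme.{u}) (P : Scheme.{u}) : Prop :=
  ∀ (X : Scheme.{u}) (R : Presieve X), R ∈ Scheme.precoverage K X →
    ∀ g : P ⟶ X, ∃ (Y : Scheme.{u}) (w : Y ⟶ X) (h : P ⟶ Y), R w ∧ h ≫ w = g

theorem IsLocalFor.of_iso {K : MorphismProperty Scheme.{u}} {P P' : Scheme.{u}} (e : P ≅ P')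
    (h : IsLocalFor K P) : IsLocalFor K P' := by
  intro X R hR g
  obtain ⟨Y, w, k, hw, hk⟩ := h X R hR (e.hom ≫ g)
  exact ⟨Y, w, e.inv ≫ k, hw, by rw [Category.assoc, hk, Iso.inv_hom_id_assoc]⟩

theorem isLocalFor_of_isLocalRing (A : CommRingCat.{u}) [IsLocalRing A]
    (K : MorphismProperty Scheme.{u}) (hK : K ≤ @IsOpenImmersion) : IsLocalFor K (Spec A) := by
  intro X R hR g
  obtain ⟨hsurj, hprop⟩ := hR
  rw [Presieve.mem_comap_jointlySurjectivePrecoverage_iff] at hsurj
  obtain ⟨Y, w, hw, y, hy⟩ := hsurj (g (IsLocalRing.closedPoint A))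
  haveI : IsOpenImmersion w := hK _ (hprop hw)
  have hrange : Set.range g ⊆ Set.range w := by
    rintro _ ⟨p, rfl⟩
    have hsp : p ⤳ IsLocalRing.closedPoint A := IsLocalRing.specializes_closedPoint p
    have hsp' : g p ⤳ g (IsLocalRing.closedPoint A) := hsp.map g.continuous
    have hmem : g (IsLocalRing.closedPoint A) ∈ w.opensRange := ⟨y, hy⟩
    exact hsp'.mem_open w.opensRange.isOpen hmem
  exact ⟨Y, w, IsOpenImmersion.lift w g hrange, hw, IsOpenImmersion.lift_fac _ _ _⟩

theorem isLocalFor_finite_of_isAIC (A : CommRingCat.{u}) [IsDomain A] (hA : Curves.IsAIC A) :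
    IsLocalFor @IsFinite (Spec A) := by
  intro X R hR g
  obtain ⟨hsurj, hprop⟩ := hR
  rw [Presieve.mem_comap_jointlySurjectivePrecoverage_iff] at hsurj
  let η : Spec A := (⟨⊥, Ideal.isPrime_bot⟩ : PrimeSpectrum A)
  obtain ⟨Y, w, hw, y, hy⟩ := hsurj (g η)
  haveI : IsFinite w := hprop hw
  obtain ⟨z, hz1, hz2⟩ := Scheme.Pullback.exists_preimage_pullback (f := w) (g := g) y η hy
  haveI : IsAffine (pullback w g) := isAffine_of_isAffineHom (pullback.snd w g)
  let B : CommRingCat.{u} := Γ(pullback w g, ⊤)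
  let q' : Spec B ⟶ Spec A := (pullback w g).isoSpec.inv ≫ pullback.snd w g
  haveI : IsFinite q' := inferInstance
  let φ : A ⟶ B := Spec.preimage q'
  have hφ : Spec.map φ = q' := Spec.map_preimage q'
  have hfin : φ.hom.Finite := by
    rw [← IsFinite.SpecMap_iff, hφ]; infer_instance
  let z' : Spec B := (pullback w g).isoSpec.hom z
  have hz' : q' z' = η := by
    show ((pullback w g).isoSpec.inv ≫ pullback.snd w g) ((pullback w g).isoSpec.hom z) = η
    rw [← Scheme.Hom.comp_apply, Iso.hom_inv_id_assoc, hz2]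
  have hcomap : (z' : PrimeSpectrum B).asIdeal.comap φ.hom = ⊥ := by
    have h1 : (Spec.map φ) z' = η := by rw [hφ, hz']
    have h2 := congrArg PrimeSpectrum.asIdeal h1
    exact h2
  haveI : (z' : PrimeSpectrum B).asIdeal.IsPrime := (z' : PrimeSpectrum B).isPrime
  obtain ⟨ψ, hψ⟩ := exists_retraction hA φ.hom hfin.to_isIntegral (z' : PrimeSpectrum B).asIdeal hcomap
  let ψ' : B ⟶ A := CommRingCat.ofHom ψ
  let s : Spec A ⟶ pullback w g := Spec.map ψ' ≫ (pullback w g).isoSpec.inv
  have hs : s ≫ pullback.snd w g = 𝟙 _ := by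
    show (Spec.map ψ' ≫ (pullback w g).isoSpec.inv) ≫ pullback.snd w g = 𝟙 _
    rw [Category.assoc]
    show Spec.map ψ' ≫ q' = 𝟙 _
    rw [← hφ, ← Spec.map_comp, Spec.map_eq_id]
    ext a
    exact congrArg (fun f => f a) hψ
  refine ⟨Y, w, s ≫ pullback.fst w g, hw, ?_⟩
  rw [Category.assoc, pullback.condition, ← Category.assoc, hs, Category.id_comp]



theorem quasiCompact_ι_of_isCompact {P : Scheme.{u}} [QuasiSeparatedSpace P] (U : P.Opens)
    (hU : IsCompact (U : Set P)) : QuasiCompact U.ι := by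
  rw [quasiCompact_iff_forall_isAffineOpen]
  intro V hV
  have h1 : IsCompact ((U : Set P) ∩ V) :=
    QuasiSeparatedSpace.inter_isCompact (U : Set P) (V : Set P) U.2 hU V.2 hV.isCompact
  rw [U.ι.isOpenEmbedding.isInducing.isCompact_iff]
  convert h1 using 1
  ext x
  constructor
  · rintro ⟨y, hy, rfl⟩
    exact ⟨y.2, hy⟩
  · rintro ⟨hxU, hxV⟩
    exact ⟨⟨x, hxU⟩, hxV, rfl⟩

theorem nonempty_of_isLocalFor {K : MorphismProperty Scheme.{u}} (P : Scheme.{u})
    (h : IsLocalFor K P) : Nonempty P := by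
  by_contra hne
  rw [not_nonempty_iff] at hne
  obtain ⟨Y, w, k, hw, -⟩ := h P ⊥ (Scheme.bot_mem_precoverage K P) (𝟙 P)
  exact hw

theorem isAffine_of_isLocalFor (P : Scheme.{u}) [QuasiSeparatedSpace P]
    (h : IsLocalFor (@IsOpenImmersion ⊓ @QuasiCompact) P) : IsAffine P := by
  have hR : Presieve.ofArrows (fun U : P.affineOpens => (U.1 : Scheme.{u})) (fun U => U.1.ι) ∈
      Scheme.precoverage (@IsOpenImmersion ⊓ @QuasiCompact) P := by
    rw [Scheme.ofArrows_mem_precoverage_iff]
    refine ⟨fun x => ?_, fun U => ⟨inferInstance, ?_⟩⟩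
    · obtain ⟨_, ⟨U, hU, rfl⟩, hxU, -⟩ := P.isBasis_affineOpens.exists_subset_of_mem_open
        (Set.mem_univ x) isOpen_univ
      exact ⟨⟨U, hU⟩, by rw [Scheme.Opens.range_ι]; exact hxU⟩
    · exact quasiCompact_ι_of_isCompact U.1 U.2.isCompact
  obtain ⟨Y, w, k, hw, hk⟩ := h P _ hR (𝟙 P)
  obtain ⟨U⟩ := hw
  have h2 : U.1.ι ≫ k = 𝟙 _ := by
    rw [← cancel_mono U.1.ι, Category.assoc, hk, Category.comp_id, Category.id_comp]
  haveI : IsIso U.1.ι := ⟨k, h2, hk⟩
  haveI : IsAffine U.1 := U.2
  exact IsAffine.of_isIso (inv U.1.ι)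



theorem exists_retraction_of_isLocalFor {K : MorphismProperty Scheme.{u}} {A : CommRingCat.{u}}
    (h : IsLocalFor K (Spec A)) {ι : Type*} (B : ι → CommRingCat.{u}) (φ : ∀ i, A ⟶ B i)
    (hK : ∀ i, K (Spec.map (φ i)))
    (hsurj : ∀ x : PrimeSpectrum A, ∃ i, x ∈ Set.range (PrimeSpectrum.comap (φ i).hom)) :
    ∃ i, ∃ ψ : B i ⟶ A, φ i ≫ ψ = 𝟙 A := by
  have hR : Presieve.ofArrows (fun i => Spec (B i)) (fun i => Spec.map (φ i)) ∈
      Scheme.precoverage K (Spec A) := by
    rw [Scheme.ofArrows_mem_precoverage_iff]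
    exact ⟨fun x => hsurj x, hK⟩
  obtain ⟨Y, w, k, hw, hk⟩ := h _ _ hR (𝟙 _)
  obtain ⟨i⟩ := hw
  refine ⟨i, Spec.preimage k, ?_⟩
  apply Spec.map_injective
  rw [Spec.map_comp, Spec.map_preimage, hk, Spec.map_id]

theorem isLocalRing_of_isLocalFor (A : CommRingCat.{u})
    (h : IsLocalFor (@IsOpenImmersion ⊓ @QuasiCompact) (Spec A)) : IsLocalRing A := by
  haveI : Nontrivial A := by
    obtain ⟨x⟩ := nonempty_of_isLocalFor _ h
    exact PrimeSpectrum.nonempty_iff_nontrivial.mp ⟨(x : PrimeSpectrum A)⟩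
  refine IsLocalRing.of_isUnit_or_isUnit_one_sub_self fun a => ?_
  let f : Bool → A := fun b => cond b a (1 - a)
  obtain ⟨b, ψ, hψ⟩ := exists_retraction_of_isLocalFor h
    (fun b => CommRingCat.of (Localization.Away (f b)))
    (fun b => CommRingCat.ofHom (algebraMap A (Localization.Away (f b))))
    (fun b => ⟨inferInstance, inferInstance⟩)
    (fun x => by
      by_cases hx : a ∈ x.asIdeal
      · refine ⟨false, ?_⟩
        rw [CommRingCat.hom_ofHom, PrimeSpectrum.localization_away_comap_range _ (f false)]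
        show (1 - a) ∉ x.asIdeal
        intro h1
        exact x.isPrime.ne_top ((Ideal.eq_top_iff_one _).2 (by simpa using x.asIdeal.add_mem hx h1))
      · refine ⟨true, ?_⟩
        rw [CommRingCat.hom_ofHom, PrimeSpectrum.localization_away_comap_range _ (f true)]
        exact hx)
  have hunit : IsUnit (f b) := by
    have h1 : IsUnit (algebraMap A (Localization.Away (f b)) (f b)) :=
      IsLocalization.Away.algebraMap_isUnit (f b)
    have h2 := h1.map ψ.hom
    have h3 : ψ.hom (algebraMap A (Localization.Away (f b)) (f b)) = f b :=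
      congrArg (fun g => g.hom (f b)) hψ
    rwa [h3] at h2
  cases b
  · exact Or.inr hunit
  · exact Or.inl hunit

theorem isDomain_of_isLocalFor (A : CommRingCat.{u}) [Nontrivial A]
    (h : IsLocalFor @IsFinite (Spec A)) : IsDomain A := by
  haveI : NoZeroDivisors A := by
    refine ⟨fun {a b} hab => ?_⟩
    let f : Bool → A := fun c => cond c a b
    obtain ⟨c, ψ, hψ⟩ := exists_retraction_of_isLocalFor h
      (fun c => CommRingCat.of (A ⧸ Ideal.span {f c}))
      (fun c => CommRingCat.ofHom (Ideal.Quotient.mk (Ideal.span {f c})))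
      (fun c => by
        rw [IsFinite.SpecMap_iff, CommRingCat.hom_ofHom]
        exact RingHom.Finite.of_surjective _ Ideal.Quotient.mk_surjective)
      (fun x => by
        have hx : a * b ∈ x.asIdeal := by rw [hab]; exact zero_mem _
        rcases x.isPrime.mem_or_mem hx with h1 | h1
        · refine ⟨true, ?_⟩
          rw [CommRingCat.hom_ofHom,
            _root_.range_comap_of_surjective _ _ Ideal.Quotient.mk_surjective,
            Ideal.mk_ker, PrimeSpectrum.zeroLocus_span]
          simpa [f] using h1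
        · refine ⟨false, ?_⟩
          rw [CommRingCat.hom_ofHom,
            _root_.range_comap_of_surjective _ _ Ideal.Quotient.mk_surjective,
            Ideal.mk_ker, PrimeSpectrum.zeroLocus_span]
          simpa [f] using h1)
    have h0 : f c = 0 := by
      have h3 : ψ.hom (Ideal.Quotient.mk (Ideal.span {f c}) (f c)) = f c :=
        congrArg (fun g => g.hom (f c)) hψ
      rw [← h3, Ideal.Quotient.eq_zero_iff_mem.mpr (Ideal.mem_span_singleton_self _), map_zero]
    cases c
    · exact Or.inr h0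
    · exact Or.inl h0
  exact NoZeroDivisors.to_isDomain A

theorem isAIC_of_isLocalFor (A : CommRingCat.{u}) [IsDomain A]
    (h : IsLocalFor @IsFinite (Spec A)) : Curves.IsAIC A := by
  intro p hp hdeg
  have hfin : (AdjoinRoot.of p).Finite := by
    haveI := hp.finite_adjoinRoot
    exact RingHom.finite_algebraMap.mpr inferInstance
  have hinj : Function.Injective (AdjoinRoot.of p) :=
    AdjoinRoot.of.injective_of_degree_ne_zero (by
      intro h0
      rw [Polynomial.degree_eq_natDegree hp.ne_zero] at h0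
      have : p.natDegree = 0 := by exact_mod_cast h0
      omega)
  obtain ⟨_, ψ, hψ⟩ := exists_retraction_of_isLocalFor h (ι := PUnit.{1})
    (fun _ => CommRingCat.of (AdjoinRoot p))
    (fun _ => CommRingCat.ofHom (AdjoinRoot.of p))
    (fun _ => by
      rw [IsFinite.SpecMap_iff, CommRingCat.hom_ofHom]
      exact hfin)
    (fun x => by
      refine ⟨⟨⟩, ?_⟩
      rw [CommRingCat.hom_ofHom]
      exact hfin.to_isIntegral.comap_surjective hinj x)
  refine ⟨ψ.hom (AdjoinRoot.root p), ?_⟩
  have h1 : ∀ a : A, ψ.hom (AdjoinRoot.of p a) = a := fun a =>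
    congrArg (fun g => g.hom a) hψ
  have h2 : Polynomial.eval₂ (ψ.hom.comp (AdjoinRoot.of p)) (ψ.hom (AdjoinRoot.root p)) p = 0 := by
    rw [← Polynomial.hom_eval₂, AdjoinRoot.eval₂_root, map_zero]
  have h3 : ψ.hom.comp (AdjoinRoot.of p) = RingHom.id A := RingHom.ext h1
  rw [h3, Polynomial.eval₂_id] at h2
  exact h2

end Groth.Agent.Lib.Seat92.AICLocal
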