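import Groth.Agent.Lib.Seat92MProd

/-!
# Abstract admissible blow-ups of modulus pairs: identities, composition, cancellation (helper92)
-/

set_option autoImplicit false
set_option linter.style.haveILetI false
universe u

namespace Groth.Agent.Lib.Seat92.AdmBlowup

open CategoryTheory CategoryTheory.Limits AlgebraicGeometry TopologicalSpace

theorem isIso_morphismRestrict_of_eq {X Y : Scheme.{u}} (f : X ⟶ Y) {U U' : Y.Opens}
    (h : U' = U) (hf : IsIso (f ∣_ U)) : IsIso (f ∣_ U') := by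
  subst h; exact hf

theorem isAdmBlowup_id {X : Scheme.{u}} (I : X.IdealSheafData) :
    ModPair.IsAdmBlowup I I (𝟙 X) := by
  refine ⟨(Scheme.IdealSheafData.comap_id I).symm, inferInstance, ?_⟩
  infer_instance

theorem isAdmBlowup_comp {X Y Z : Scheme.{u}} {I : X.IdealSheafData} {J : Y.IdealSheafData}
    {K : Z.IdealSheafData} {f : X ⟶ Y} {g : Y ⟶ Z} (hf : ModPair.IsAdmBlowup I J f)
    (hg : ModPair.IsAdmBlowup J K g) : ModPair.IsAdmBlowup I K (f ≫ g) := by
  obtain ⟨hf1, hf2, hf3⟩ := hf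
  obtain ⟨hg1, hg2, hg3⟩ := hg
  have hf1' : I = J.comap f := hf1
  have hg1' : J = K.comap g := hg1
  refine ⟨?_, inferInstance, ?_⟩
  · show I = K.comap (f ≫ g)
    rw [Scheme.IdealSheafData.comap_comp, ← hg1', ← hf1']
  · rw [morphismRestrict_comp]
    have h1 : IsIso (f ∣_ g ⁻¹ᵁ ModPair.interior K) :=
      isIso_morphismRestrict_of_eq f
        (by rw [hg1', Groth.Agent.S18743.interior_comap]) hf3
    exact IsIso.comp_isIso' h1 hg3

/-- Ambient morphisms which agree after composition with an admissible blow-up agree. -/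
theorem hom_ext_of_isAdmBlowup {X Y Z : Scheme.{u}} {I : X.IdealSheafData}
    {J : Y.IdealSheafData} {K : Z.IdealSheafData} (hI : BlowUp.IsEffCartierIdeal I)
    {f₁ f₂ : X ⟶ Y} (h₁ : ModPair.IsAmbient I J f₁) (h₂ : ModPair.IsAmbient I J f₂)
    {s : Y ⟶ Z} (hs : ModPair.IsAdmBlowup J K s) (h : f₁ ≫ s = f₂ ≫ s) : f₁ = f₂ := by
  obtain ⟨hs1, hs2, hs3⟩ := hs
  have hs1' : J = K.comap s := hs1
  haveI : IsSchemeTheoreticallyDominant (ModPair.interior I).ι :=
    Groth.Agent.S18743.isSchemeTheoreticallyDominant_interior I hI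
  refine Groth.Agent.Lib.Seat92.MProd.ext_of_isSchemeTheoreticallyDominant s h
    (ModPair.interior I).ι ?_
  -- both composites factor through `s ⁻¹ (interior K)`
  have hr : ∀ (f : X ⟶ Y), ModPair.IsAmbient I J f →
      Set.range ((ModPair.interior I).ι ≫ f) ⊆ Set.range (s ⁻¹ᵁ ModPair.interior K).ι := by
    intro f hf
    rintro _ ⟨w, rfl⟩
    rw [Scheme.Opens.range_ι, ← Groth.Agent.S18743.interior_comap, ← hs1']
    exact Groth.Agent.Lib.Seat92.MProd.interior_le_preimage_of_isAmbient hf w.2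
  let k₁ := IsOpenImmersion.lift (s ⁻¹ᵁ ModPair.interior K).ι ((ModPair.interior I).ι ≫ f₁)
    (hr f₁ h₁)
  let k₂ := IsOpenImmersion.lift (s ⁻¹ᵁ ModPair.interior K).ι ((ModPair.interior I).ι ≫ f₂)
    (hr f₂ h₂)
  have hk₁ : k₁ ≫ (s ⁻¹ᵁ ModPair.interior K).ι = (ModPair.interior I).ι ≫ f₁ :=
    IsOpenImmersion.lift_fac _ _ _
  have hk₂ : k₂ ≫ (s ⁻¹ᵁ ModPair.interior K).ι = (ModPair.interior I).ι ≫ f₂ :=
    IsOpenImmersion.lift_fac _ _ _
  have hkk : k₁ = k₂ := by
    haveI := hs3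
    rw [← cancel_mono (s ∣_ ModPair.interior K), ← cancel_mono (ModPair.interior K).ι,
      Category.assoc, Category.assoc, morphismRestrict_ι, ← Category.assoc, ← Category.assoc,
      hk₁, hk₂, Category.assoc, Category.assoc, h]
  rw [← hk₁, ← hk₂, hkk]

end Groth.Agent.Lib.Seat92.AdmBlowup
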