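import Groth.Agent.S18743
import Groth.Agent.Lib.Helper6ImageBC

/-!
# Tools for ambient products of modulus pairs (helper92)

* `isIso_imageι_morphismRestrict`: the scheme-theoretic image of a quasi-compact open `U`,
  restricted to `U`, is `U`;
* `isIso_snd_morphismRestrict`: base change of a morphism which is an isomorphism over an open;
* `isSchemeTheoreticallyDominant_preimage_of_le`: density of the preimage of an open in the
  scheme-theoretic image of a smaller open.
-/

set_option autoImplicit false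
set_option linter.style.haveILetI false
universe u

namespace Groth.Agent.Lib.Seat92.MProd

open CategoryTheory CategoryTheory.Limits AlgebraicGeometry TopologicalSpace

/-- The closed immersion of the scheme-theoretic image of a quasi-compact open `U` is an
isomorphism over `U`. -/
theorem isIso_imageι_morphismRestrict {P : Scheme.{u}} (U : P.Opens) [QuasiCompact U.ι]
    (U' : P.Opens) (hU : U' = U) : IsIso (U.ι.imageι ∣_ U') := by
  subst hU
  have hfac : U'.ι.toImage ≫ U'.ι.imageι = U'.ι := Scheme.Hom.toImage_imageι _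
  have hrange : Set.range U'.ι.toImage ⊆ Set.range (U'.ι.imageι ⁻¹ᵁ U').ι := by
    rintro _ ⟨w, rfl⟩
    rw [Scheme.Opens.range_ι]
    show U'.ι.imageι (U'.ι.toImage w) ∈ U'
    rw [← Scheme.Hom.comp_apply, hfac]
    exact w.2
  let t' := IsOpenImmersion.lift (U'.ι.imageι ⁻¹ᵁ U').ι U'.ι.toImage hrange
  have ht' : t' ≫ (U'.ι.imageι ⁻¹ᵁ U').ι = U'.ι.toImage := IsOpenImmersion.lift_fac _ _ _
  have hsec : t' ≫ (U'.ι.imageι ∣_ U') = 𝟙 _ := by
    rw [← cancel_mono U'.ι, Category.assoc, morphismRestrict_ι, ← Category.assoc, ht', hfac,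
      Category.id_comp]
  haveI : IsSplitEpi (U'.ι.imageι ∣_ U') := ⟨⟨⟨t', hsec⟩⟩⟩
  haveI : Mono (U'.ι.imageι ∣_ U') := by
    haveI : IsClosedImmersion (U'.ι.imageι ∣_ U') :=
      IsZariskiLocalAtTarget.restrict (P := @IsClosedImmersion) inferInstance U'
    infer_instance
  exact isIso_of_mono_of_isSplitEpi _

/-- If `s` is an isomorphism over the open `V` and `O ≤ g ⁻¹ V`, then the base change of `s`
along `g` is an isomorphism over `O`. -/
theorem isIso_snd_morphismRestrict {X S T : Scheme.{u}} (s : X ⟶ S) (g : T ⟶ S) (V : S.Opens)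
    [IsIso (s ∣_ V)] (O : T.Opens) (hO : O ≤ g ⁻¹ᵁ V) : IsIso (pullback.snd s g ∣_ O) := by
  have A := (isPullback_morphismRestrict (pullback.snd s g) O).flip
  have B := IsPullback.of_hasPullback s g
  have AB := A.paste_horiz B
  have hg' : O.ι ≫ g = g.resLE V O hO ≫ V.ι := (Scheme.Hom.resLE_comp_ι g hO).symm
  rw [hg'] at AB
  have t := (isPullback_morphismRestrict s V).flip
  exact (IsPullback.of_right' AB t).isIso_snd_of_isIso

/-- The preimage of an open `O` containing the image of the quasi-compact open `U` is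
scheme-theoretically dense in the scheme-theoretic image of `U`. -/
theorem isSchemeTheoreticallyDominant_preimage {P Z : Scheme.{u}} (U : P.Opens)
    [QuasiCompact U.ι] (φ : P ⟶ Z) (O : Z.Opens) (hU : U ≤ φ ⁻¹ᵁ O) :
    IsSchemeTheoreticallyDominant ((U.ι.imageι ≫ φ) ⁻¹ᵁ O).ι := by
  have hfac : U.ι.toImage ≫ U.ι.imageι = U.ι := Scheme.Hom.toImage_imageι _
  have hrange : Set.range U.ι.toImage ⊆ Set.range ((U.ι.imageι ≫ φ) ⁻¹ᵁ O).ι := by
    rintro _ ⟨w, rfl⟩
    rw [Scheme.Opens.range_ι]
    show (U.ι.imageι ≫ φ) (U.ι.toImage w) ∈ O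
    rw [← Scheme.Hom.comp_apply, ← Category.assoc, hfac]
    exact hU w.2
  let k := IsOpenImmersion.lift ((U.ι.imageι ≫ φ) ⁻¹ᵁ O).ι U.ι.toImage hrange
  have hk : k ≫ ((U.ι.imageι ≫ φ) ⁻¹ᵁ O).ι = U.ι.toImage := IsOpenImmersion.lift_fac _ _ _
  refine ⟨le_bot_iff.mp ?_⟩
  have h1 := Scheme.Hom.le_ker_comp k ((U.ι.imageι ≫ φ) ⁻¹ᵁ O).ι
  rw [hk, Groth.Agent.Lib.Helper6.ker_toImage_eq_bot] at h1
  exact h1

/-- A morphism from a scheme with an effective Cartier divisor factors through the
scheme-theoretic image of a quasi-compact open `U` as soon as it maps the complement of the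
divisor into `U`. -/
theorem ker_imageι_le_ker {P W' : Scheme.{u}} (U : P.Opens) (IW : W'.IdealSheafData)
    (hIW : BlowUp.IsEffCartierIdeal IW) (h : W' ⟶ P)
    (hU : ModPair.interior IW ≤ h ⁻¹ᵁ U) : U.ι.imageι.ker ≤ h.ker := by
  have hOdom : IsSchemeTheoreticallyDominant (ModPair.interior IW).ι :=
    Groth.Agent.S18743.isSchemeTheoreticallyDominant_interior IW hIW
  have hrange : Set.range ((ModPair.interior IW).ι ≫ h) ⊆ Set.range U.ι := by
    rintro _ ⟨w, rfl⟩
    rw [Scheme.Opens.range_ι]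
    exact hU w.2
  let k := IsOpenImmersion.lift U.ι ((ModPair.interior IW).ι ≫ h) hrange
  have hk : k ≫ U.ι = (ModPair.interior IW).ι ≫ h := IsOpenImmersion.lift_fac _ _ _
  have h2 : ((ModPair.interior IW).ι ≫ h).ker = h.ker := by
    rw [Scheme.Hom.ker_comp, (ModPair.interior IW).ι.ker_eq_bot, Scheme.IdealSheafData.map_bot]
  have h3 : U.ι.imageι.ker = U.ι.ker := Scheme.IdealSheafData.ker_subschemeι _
  rw [h3, ← h2, ← hk]
  exact Scheme.Hom.le_ker_comp k U.ι

/-- An ambient morphism maps the interior into the interior. -/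
theorem interior_le_preimage_of_isAmbient {X Y : Scheme.{u}} {I : X.IdealSheafData}
    {J : Y.IdealSheafData} {f : X ⟶ Y} (hf : ModPair.IsAmbient I J f) :
    ModPair.interior I ≤ f ⁻¹ᵁ ModPair.interior J := by
  rw [← Groth.Agent.S18743.interior_comap]
  intro x hx
  have hx' : x ∉ I.support := hx
  show x ∉ (J.comap f).support
  exact fun h => hx' (Scheme.IdealSheafData.support_antitone hf h)

/-- Two morphisms into a scheme separated over `Z` which agree over `Z` and on a
scheme-theoretically dense part agree. -/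
theorem ext_of_isSchemeTheoreticallyDominant {W X Y Z : Scheme.{u}} {f g : X ⟶ Y}
    (s : Y ⟶ Z) [IsSeparated s] (h : f ≫ s = g ≫ s)
    (ι : W ⟶ X) [IsSchemeTheoreticallyDominant ι] (hU : ι ≫ f = ι ≫ g) : f = g := by
  let X' : Over Z := Over.mk (f ≫ s)
  let Y' : Over Z := Over.mk s
  let U' : Over Z := Over.mk (ι ≫ f ≫ s)
  let f' : X' ⟶ Y' := Over.homMk f
  let g' : X' ⟶ Y' := Over.homMk g
  let ι' : U' ⟶ X' := Over.homMk ι
  have : IsSeparated Y'.hom := ‹_›
  have hι : ι' ≫ f' = ι' ≫ g' := by ext1; exact hU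
  have hfac : (equalizer.lift ι' hι).left ≫ (equalizer.ι f' g').left = ι := by
    rw [← Over.comp_left, equalizer.lift_ι]; rfl
  have hker : (equalizer.ι f' g').left.ker = ⊥ := by
    refine le_bot_iff.mp ?_
    have h1 := Scheme.Hom.le_ker_comp (equalizer.lift ι' hι).left (equalizer.ι f' g').left
    rw [hfac, ι.ker_eq_bot] at h1
    exact h1
  have hiso : IsIso (equalizer.ι f' g').left :=
    IsClosedImmersion.isIso_of_ker_eq (equalizer.ι f' g').left (𝟙 X) (equalizer.ι f' g').left
      (Category.comp_id _) (by rw [hker, Scheme.Hom.ker_eq_bot_of_isIso])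
  rw [← cancel_epi (equalizer.ι f' g').left]
  exact congr($(equalizer.condition f' g').left)

end Groth.Agent.Lib.Seat92.MProd
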