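import Groth.Agent.S18732
import Groth.Agent.Lib.Seat92MProd
import Groth.Agent.Lib.Helper20BlowUp
import Groth.Agent.Lib.Helper20RelCartier

/-!
# Tools for general ambient products of modulus pairs (helper92)

* `quasiCompact_ι_inf`: the intersection of two quasi-compact opens is a quasi-compact open;
* `isEffCartierIdeal_of_mul`: if `E` and `K * E` are effective Cartier, so is `K`;
* `le_of_mul_le_mul_right`: cancellation of an effective Cartier ideal in inequalities.
-/

set_option autoImplicit false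
set_option linter.style.haveILetI false
universe u

namespace Groth.Agent.Lib.Seat92.AmbProd

open CategoryTheory CategoryTheory.Limits AlgebraicGeometry TopologicalSpace

/-- The intersection of two quasi-compact opens is quasi-compact. -/
theorem quasiCompact_ι_inf {P : Scheme.{u}} (A B : P.Opens) [QuasiCompact A.ι]
    [QuasiCompact B.ι] : QuasiCompact (A ⊓ B).ι := by
  have h1 : QuasiCompact (P.homOfLE (inf_le_left : A ⊓ B ≤ A)) :=
    MorphismProperty.of_isPullback (P := @QuasiCompact) (isPullback_opens_inf A B).flip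
      inferInstance
  have h2 : (A ⊓ B).ι = P.homOfLE (inf_le_left : A ⊓ B ≤ A) ≫ A.ι := (P.homOfLE_ι _).symm
  rw [h2]
  infer_instance

/-- If `E` and `K * E` are effective Cartier, then so is `K`. -/
theorem isEffCartierIdeal_of_mul {Y : Scheme.{u}} {K E : Y.IdealSheafData}
    (hE : BlowUp.IsEffCartierIdeal E) (hKE : BlowUp.IsEffCartierIdeal (K * E)) :
    BlowUp.IsEffCartierIdeal K := by
  intro y
  obtain ⟨U, hU, hyU, -, e, d, he, hd, hEe, hKEd⟩ :=
    Groth.Agent.Lib.Helper20.RelCartier.exists_common hE hKE y ⊤ trivial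
  have hmul : K.ideal ⟨U, hU⟩ * Ideal.span {e} = Ideal.span {d} := by
    rw [← hEe, ← hKEd]; rfl
  have hdmem : d ∈ K.ideal ⟨U, hU⟩ * Ideal.span {e} := by
    rw [hmul]; exact Ideal.mem_span_singleton_self d
  obtain ⟨k, hk, hke⟩ := Ideal.mem_mul_span_singleton.mp hdmem
  have hknzd : k ∈ nonZeroDivisors Γ(Y, U) := by
    have : k * e ∈ nonZeroDivisors Γ(Y, U) := hke ▸ hd
    exact (mul_mem_nonZeroDivisors.mp this).1
  refine ⟨⟨U, hU⟩, hyU, k, hknzd, le_antisymm ?_ ?_⟩
  · intro k' hk'
    have h1 : k' * e ∈ K.ideal ⟨U, hU⟩ * Ideal.span {e} :=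
      Ideal.mul_mem_mul hk' (Ideal.mem_span_singleton_self e)
    rw [hmul, ← hke, Ideal.mem_span_singleton'] at h1
    obtain ⟨r, hr⟩ := h1
    have h2 : (r * k) * e = k' * e := by rw [mul_assoc]; exact hr
    have h3 : r * k = k' := (mul_cancel_right_mem_nonZeroDivisors he).mp h2
    rw [Ideal.mem_span_singleton']
    exact ⟨r, h3⟩
  · rw [Ideal.span_singleton_le_iff_mem]
    exact hk

/-- An effective Cartier ideal can be cancelled in inequalities of products. -/
theorem le_of_mul_le_mul_right {Y : Scheme.{u}} {A B E : Y.IdealSheafData}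
    (hE : BlowUp.IsEffCartierIdeal E) (h : A * E ≤ B * E) : A ≤ B := by
  let ι : Type u := {U : Y.affineOpens // ∃ e : Γ(Y, U.1), e ∈ nonZeroDivisors Γ(Y, U.1) ∧
    E.ideal U = Ideal.span {e}}
  refine Scheme.IdealSheafData.le_of_iSup_eq_top (ι := ι) (fun U => U.1) ?_ ?_
  · rw [eq_top_iff]
    intro y _
    obtain ⟨U, hyU, e, he, hEe⟩ := hE y
    exact TopologicalSpace.Opens.mem_iSup.mpr ⟨⟨U, e, he, hEe⟩, hyU⟩
  · rintro ⟨U, e, he, hEe⟩ x hx
    have hx' : x ∈ A.ideal U := hx
    have hemem : e ∈ E.ideal U := by rw [hEe]; exact Ideal.mem_span_singleton_self e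
    have h1 : x * e ∈ (A * E).ideal U := by
      show x * e ∈ A.ideal U * E.ideal U
      exact Ideal.mul_mem_mul hx' hemem
    have h2 : x * e ∈ B.ideal U * E.ideal U := h U h1
    have h3 : x * e ∈ B.ideal U * Ideal.span {e} := Ideal.mul_mono_right hEe.le h2
    obtain ⟨z, hz, hze⟩ := Ideal.mem_mul_span_singleton.mp h3
    have : z = x := (mul_cancel_right_mem_nonZeroDivisors he).mp hze
    show x ∈ B.ideal U
    exact this ▸ hz

end Groth.Agent.Lib.Seat92.AmbProd
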