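import Groth.Agent.Lib.Seat92AmbProd

/-!
# Basic facts on `ModPair.mprod` (helper92)

The product of the interiors is a quasi-compact open, and the two moduli pull back to effective
Cartier ideals on its closure `mprod` and on any blow-up of it.
-/

set_option autoImplicit false
set_option linter.style.haveILetI false
universe u

namespace Groth.Agent.Lib.Seat92.AmbProdBasic

open CategoryTheory CategoryTheory.Limits AlgebraicGeometry TopologicalSpace

variable {S T X : Scheme.{u}} (f : X ⟶ S) (g : T ⟶ S) (I : X.IdealSheafData)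
  (J : T.IdealSheafData)

theorem quasiCompact_prodInterior (hX : BlowUp.IsEffCartierIdeal I)
    (hT : BlowUp.IsEffCartierIdeal J) : QuasiCompact (ModPair.prodInterior f g I J).ι := by
  haveI q₁ : QuasiCompact ((pullback.fst f g) ⁻¹ᵁ ModPair.interior I).ι :=
    Groth.Agent.S18732.quasiCompact_ι I hX (pullback.fst f g)
  haveI q₂ : QuasiCompact ((pullback.snd f g) ⁻¹ᵁ ModPair.interior J).ι :=
    Groth.Agent.S18732.quasiCompact_ι J hT (pullback.snd f g)
  exact Groth.Agent.Lib.Seat92.AmbProd.quasiCompact_ι_inf _ _

theorem isEffCartierIdeal_comap_fst (hX : BlowUp.IsEffCartierIdeal I)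
    (hT : BlowUp.IsEffCartierIdeal J) :
    BlowUp.IsEffCartierIdeal (I.comap (ModPair.mprodι f g I J ≫ pullback.fst f g)) := by
  haveI := quasiCompact_prodInterior f g I J hX hT
  haveI : IsSchemeTheoreticallyDominant
      ((ModPair.mprodι f g I J ≫ pullback.fst f g) ⁻¹ᵁ ModPair.interior I).ι :=
    Groth.Agent.Lib.Seat92.MProd.isSchemeTheoreticallyDominant_preimage
      (ModPair.prodInterior f g I J) (pullback.fst f g) (ModPair.interior I) inf_le_left
  exact (Groth.Agent.S18732.result I hX (ModPair.mprodι f g I J ≫ pullback.fst f g)).2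

theorem isEffCartierIdeal_comap_snd (hX : BlowUp.IsEffCartierIdeal I)
    (hT : BlowUp.IsEffCartierIdeal J) :
    BlowUp.IsEffCartierIdeal (J.comap (ModPair.mprodι f g I J ≫ pullback.snd f g)) := by
  haveI := quasiCompact_prodInterior f g I J hX hT
  haveI : IsSchemeTheoreticallyDominant
      ((ModPair.mprodι f g I J ≫ pullback.snd f g) ⁻¹ᵁ ModPair.interior J).ι :=
    Groth.Agent.Lib.Seat92.MProd.isSchemeTheoreticallyDominant_preimage
      (ModPair.prodInterior f g I J) (pullback.snd f g) (ModPair.interior J) inf_le_right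
  exact (Groth.Agent.S18732.result J hT (ModPair.mprodι f g I J ≫ pullback.snd f g)).2

end Groth.Agent.Lib.Seat92.AmbProdBasic
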