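import Groth.Agent.S18732
import Groth.Agent.Lib.Seat92MProd
import Groth.Agent.Lib.Seat92AdmBlowup

/-!
# Tools for closures of clopen pieces of the interior of a modulus pair (helper92)

* `exists_of_isOpenImmersion`, `isEffCartierIdeal_coprod`: effective Cartier ideals are detected
  on the two summands of a binary coproduct of schemes;
* `isIso_morphismRestrict_iSup`: being an isomorphism over opens is local;
* `quasiCompact_ι_of_sup_eq_interior`: a clopen piece of the complement of an effective Cartier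
  divisor is a quasi-compact open.
-/

set_option autoImplicit false
set_option linter.style.haveILetI false
universe u

namespace Groth.Agent.Lib.Seat92.CoprodClosure

open CategoryTheory CategoryTheory.Limits AlgebraicGeometry TopologicalSpace

/-- Effective Cartier ideals can be tested after pullback along an open immersion, around the
points of its image. -/
theorem exists_of_isOpenImmersion {Y Z : Scheme.{u}} (j : Z ⟶ Y) [IsOpenImmersion j]
    (K : Y.IdealSheafData) (h : BlowUp.IsEffCartierIdeal (K.comap j)) (z : Z) :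
    ∃ V : Y.affineOpens, j z ∈ V.1 ∧
      ∃ f : Γ(Y, V.1), f ∈ nonZeroDivisors Γ(Y, V.1) ∧ K.ideal V = Ideal.span {f} := by
  obtain ⟨V, hxV, f, hf, hI⟩ := h z
  have hbij : Function.Bijective (j.appIso V.1).inv.hom :=
    ConcreteCategory.bijective_of_isIso (j.appIso V.1).inv
  refine ⟨⟨j ''ᵁ V.1, V.2.image_of_isOpenImmersion _⟩, ⟨z, hxV, rfl⟩,
    (j.appIso V.1).inv.hom f, ?_, ?_⟩
  · rw [mem_nonZeroDivisors_iff_right] at hf ⊢
    intro y hy
    obtain ⟨t, rfl⟩ := hbij.2 y
    rw [← map_mul] at hy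
    have : t * f = 0 := hbij.1 (by rw [hy, map_zero])
    rw [hf t this, map_zero]
  · have h1 := Scheme.IdealSheafData.ideal_comap_of_isOpenImmersion K j V
    rw [hI] at h1
    have h2 := Ideal.map_comap_of_surjective _ hbij.2
      (K.ideal ⟨j ''ᵁ V.1, V.2.image_of_isOpenImmersion _⟩)
    rw [← h1, Ideal.map_span, Set.image_singleton] at h2
    exact h2.symm

/-- Effective Cartier ideals on a binary coproduct are detected on the two summands. -/
theorem isEffCartierIdeal_coprod {Y₀ Y₁ : Scheme.{u}} (K : (Y₀ ⨿ Y₁).IdealSheafData)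
    (h₀ : BlowUp.IsEffCartierIdeal (K.comap coprod.inl))
    (h₁ : BlowUp.IsEffCartierIdeal (K.comap coprod.inr)) : BlowUp.IsEffCartierIdeal K := by
  intro x
  obtain ⟨(x | x), rfl⟩ := (coprodMk Y₀ Y₁).surjective x
  · rw [coprodMk_inl]
    exact exists_of_isOpenImmersion coprod.inl K h₀ x
  · rw [coprodMk_inr]
    exact exists_of_isOpenImmersion coprod.inr K h₁ x

/-- Being an isomorphism over opens of the target is local. -/
theorem isIso_morphismRestrict_iSup {X Y : Scheme.{u}} (f : X ⟶ Y) {ι : Type*} (U : ι → Y.Opens)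
    (h : ∀ i, IsIso (f ∣_ U i)) : IsIso (f ∣_ (⨆ i, U i)) := by
  change MorphismProperty.isomorphisms Scheme _
  rw [IsZariskiLocalAtTarget.iff_of_iSup_eq_top (P := MorphismProperty.isomorphisms Scheme)
    (U := fun i : ι ↦ (⨆ i, U i).ι ⁻¹ᵁ U i)]
  · intro i
    rw [(MorphismProperty.isomorphisms Scheme).arrow_mk_iso_iff (morphismRestrictRestrict f _ _)]
    have h1 : (⨆ i, U i).ι ''ᵁ ((⨆ i, U i).ι ⁻¹ᵁ U i) = U i := by
      rw [Scheme.Hom.image_preimage_eq_opensRange_inf, Scheme.Opens.opensRange_ι]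
      exact inf_eq_right.mpr (le_iSup U i)
    exact Groth.Agent.Lib.Seat92.AdmBlowup.isIso_morphismRestrict_of_eq f h1 (h i)
  · apply (⨆ i, U i).ι.image_injective
    dsimp
    rw [Scheme.Hom.image_iSup, Scheme.Hom.image_top_eq_opensRange, Scheme.Opens.opensRange_ι]
    simp [Scheme.Hom.image_preimage_eq_opensRange_inf, le_iSup U]

theorem isIso_morphismRestrict_sup {X Y : Scheme.{u}} (f : X ⟶ Y) (U₀ U₁ : Y.Opens)
    (h₀ : IsIso (f ∣_ U₀)) (h₁ : IsIso (f ∣_ U₁)) : IsIso (f ∣_ (U₀ ⊔ U₁)) := by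
  have h := isIso_morphismRestrict_iSup f (fun b : Bool => cond b U₀ U₁)
    (by rintro (_ | _) <;> assumption)
  have e : (⨆ b : Bool, cond b U₀ U₁) = U₀ ⊔ U₁ := by
    rw [iSup_bool_eq]; rfl
  exact Groth.Agent.Lib.Seat92.AdmBlowup.isIso_morphismRestrict_of_eq f e.symm h

/-- `U.ι` is quasi-compact as soon as `U ∩ V` is compact for all affine opens `V`. -/
theorem quasiCompact_ι_iff {X : Scheme.{u}} (U : X.Opens) :
    QuasiCompact U.ι ↔ ∀ V : X.Opens, IsAffineOpen V → IsCompact ((U ⊓ V : X.Opens) : Set X) := by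
  rw [quasiCompact_iff_forall_isAffineOpen]
  refine forall₂_congr fun V _ => ?_
  rw [U.ι.isOpenEmbedding.isInducing.isCompact_iff]
  have : (U.ι : U.toScheme → X) '' ((U.ι ⁻¹ᵁ V : U.toScheme.Opens) : Set U.toScheme) =
      ((U ⊓ V : X.Opens) : Set X) := by
    show (U.ι : U.toScheme → X) '' ((U.ι : U.toScheme → X) ⁻¹' (V : Set X)) = _
    rw [Set.image_preimage_eq_inter_range, Scheme.Opens.range_ι, Set.inter_comm]
    rfl
  rw [this]

/-- A clopen piece of the complement of an effective Cartier divisor is a quasi-compact open. -/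
theorem quasiCompact_ι_of_sup_eq_interior {X : Scheme.{u}} (I : X.IdealSheafData)
    (hI : BlowUp.IsEffCartierIdeal I) (U₀ U₁ : X.Opens)
    (hU : U₀ ⊔ U₁ = ModPair.interior I) (hd : Disjoint U₀ U₁) : QuasiCompact U₀.ι := by
  have hqc : QuasiCompact (ModPair.interior I).ι := by
    exact Groth.Agent.S18732.quasiCompact_ι I hI (𝟙 X)
  rw [quasiCompact_ι_iff] at hqc ⊢
  intro V hV
  have h1 := (hqc V hV).diff U₁.isOpen
  convert h1 using 1
  rw [← hU]
  ext x
  simp only [Opens.coe_inf, Opens.coe_sup, Set.mem_inter_iff, SetLike.mem_coe, Set.mem_sdiff,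
    Set.mem_union]
  constructor
  · rintro ⟨h0, hv⟩
    refine ⟨⟨Or.inl h0, hv⟩, fun h1 => ?_⟩
    have : x ∈ (U₀ ⊓ U₁ : X.Opens) := ⟨h0, h1⟩
    rw [hd.eq_bot] at this
    exact this
  · rintro ⟨⟨h0 | h1, hv⟩, hn⟩
    · exact ⟨h0, hv⟩
    · exact (hn h1).elim

end Groth.Agent.Lib.Seat92.CoprodClosure
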