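import Groth.Prelude.Def_W4c6modpairsegaMP
import Groth.Agent.Lib.Helper22FTIdeal
import Groth.Agent.Lib.Helper20RelCartier

/-!
# The colon ideal sheaf by an effective Cartier ideal (helper92)

* `colon_map_away`: colon ideals by finitely generated ideals commute with localization away from
  an element;
* `ft_of_isEffCartierIdeal`: effective Cartier ideal sheaves are of finite type;
* `colonSheaf A E hE`: the ideal sheaf `(A : E)`.
-/

set_option autoImplicit false
set_option linter.style.haveILetI false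
universe u

namespace Groth.Agent.Lib.Seat92.ColonSheaf

open CategoryTheory AlgebraicGeometry TopologicalSpace

section Algebra

variable {R S : Type*} [CommRing R] [CommRing S] [Algebra R S]

/-- A finite family of membership statements after localization can be cleared by one power. -/
theorem exists_pow_mul_mem_of_finset (f : R) [IsLocalization.Away f S] (A : Ideal R) (x : R)
    (G : Finset R) (h : ∀ t ∈ G, algebraMap R S (x * t) ∈ A.map (algebraMap R S)) :
    ∃ m : ℕ, ∀ t ∈ G, f ^ m * (x * t) ∈ A := by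
  classical
  induction G using Finset.induction_on with
  | empty => exact ⟨0, fun t ht => absurd ht (Finset.notMem_empty t)⟩
  | insert a G ha ih =>
    obtain ⟨m, hm⟩ := ih fun t ht => h t (Finset.mem_insert_of_mem ht)
    have ha' := h a (Finset.mem_insert_self a G)
    rw [IsLocalization.mem_map_algebraMap_iff (Submonoid.powers f) S] at ha'
    obtain ⟨⟨i, ⟨_, k, rfl⟩⟩, hik⟩ := ha'
    rw [← map_mul] at hik
    obtain ⟨⟨_, l, rfl⟩, hl⟩ := (IsLocalization.eq_iff_exists (Submonoid.powers f) S).mp hik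
    have h1 : f ^ (l + k) * (x * a) ∈ A := by
      have : f ^ (l + k) * (x * a) = f ^ l * (x * a * f ^ k) := by ring
      rw [this]
      simp only at hl
      rw [hl]
      exact A.mul_mem_left _ i.2
    refine ⟨m + (l + k), fun t ht => ?_⟩
    rcases Finset.mem_insert.mp ht with rfl | ht
    · have : f ^ (m + (l + k)) * (x * t) = f ^ m * (f ^ (l + k) * (x * t)) := by ring
      rw [this]
      exact A.mul_mem_left _ h1
    · have : f ^ (m + (l + k)) * (x * t) = f ^ (l + k) * (f ^ m * (x * t)) := by ring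
      rw [this]
      exact A.mul_mem_left _ (hm t ht)

/-- Colon ideals by finitely generated ideals commute with localization away from an element. -/
theorem colon_map_away (f : R) [IsLocalization.Away f S] (A E : Ideal R) (hE : E.FG) :
    (A.colon (E : Set R)).map (algebraMap R S) =
      (A.map (algebraMap R S)).colon ((E.map (algebraMap R S) : Ideal S) : Set S) := by
  apply le_antisymm
  · rw [Ideal.map_le_iff_le_comap]
    intro x hx
    show algebraMap R S x ∈ (A.map (algebraMap R S)).colon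
      ((E.map (algebraMap R S) : Ideal S) : Set S)
    have hEmap : ((E.map (algebraMap R S) : Ideal S) : Set S) =
        ((Ideal.span (algebraMap R S '' (E : Set R)) : Ideal S) : Set S) := rfl
    rw [hEmap, Ideal.colon_span, Submodule.mem_colon]
    rintro _ ⟨t, ht, rfl⟩
    rw [smul_eq_mul, ← map_mul]
    exact Ideal.mem_map_of_mem _ (Submodule.mem_colon.mp hx t ht)
  · intro y hy
    obtain ⟨⟨x, ⟨_, n, rfl⟩⟩, hxy⟩ := IsLocalization.surj (Submonoid.powers f) y
    simp only at hxy
    obtain ⟨G, hG⟩ := hE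
    have hx : ∀ t ∈ G, algebraMap R S (x * t) ∈ A.map (algebraMap R S) := by
      intro t ht
      have ht' : algebraMap R S t ∈ ((E.map (algebraMap R S) : Ideal S) : Set S) :=
        Ideal.mem_map_of_mem _ (hG ▸ Ideal.subset_span ht)
      have h1 := Submodule.mem_colon.mp hy _ ht'
      rw [smul_eq_mul] at h1
      rw [map_mul, ← hxy]
      have : y * algebraMap R S (f ^ n) * algebraMap R S t =
          algebraMap R S (f ^ n) * (y * algebraMap R S t) := by ring
      rw [this]
      exact Ideal.mul_mem_left _ _ h1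
    obtain ⟨m, hm⟩ := exists_pow_mul_mem_of_finset (S := S) f A x G hx
    have hmem : f ^ m * x ∈ A.colon (E : Set R) := by
      rw [← hG, Ideal.colon_span, Submodule.mem_colon]
      intro t ht
      rw [smul_eq_mul, mul_assoc]
      exact hm t ht
    have hunit : IsUnit (algebraMap R S (f ^ (m + n))) :=
      IsLocalization.map_units S (⟨f ^ (m + n), m + n, rfl⟩ : Submonoid.powers f)
    have h2 : y * algebraMap R S (f ^ (m + n)) = algebraMap R S (f ^ m * x) := by
      rw [map_mul, ← hxy, pow_add, map_mul]; ring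
    have h3 : y * algebraMap R S (f ^ (m + n)) ∈ (A.colon (E : Set R)).map (algebraMap R S) := by
      rw [h2]; exact Ideal.mem_map_of_mem _ hmem
    obtain ⟨v, hv⟩ := hunit
    have : y = y * algebraMap R S (f ^ (m + n)) * ↑v⁻¹ := by
      rw [← hv, mul_assoc, Units.mul_inv, mul_one]
    rw [this]
    exact Ideal.mul_mem_right _ _ h3

open nonZeroDivisors in
/-- The local algebra of two principal ideals whose sum is principal (all generated by
nonzerodivisors). -/
theorem principal_colon {R : Type*} [CommRing R] (a₁ a₂ e : R) (h₁ : a₁ ∈ R⁰) (h₂ : a₂ ∈ R⁰)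
    (he : e ∈ R⁰) (hsup : Ideal.span {a₁} ⊔ Ideal.span {a₂} = Ideal.span {e}) :
    ∃ a₁' a₂' : R, a₁ = a₁' * e ∧ a₂ = a₂' * e ∧ a₁' ∈ R⁰ ∧ a₂' ∈ R⁰ ∧
      (Ideal.span {a₁}).colon ((Ideal.span {e} : Ideal R) : Set R) = Ideal.span {a₁'} ∧
      (Ideal.span {a₂}).colon ((Ideal.span {e} : Ideal R) : Set R) = Ideal.span {a₂'} ∧
      Ideal.span {a₁'} ⊔ Ideal.span {a₂'} = ⊤ ∧
      Ideal.span {a₁} ⊓ Ideal.span {a₂} ≤ Ideal.span {a₁' * a₂' * e} := by
  have m₁ : a₁ ∈ Ideal.span {e} := hsup ▸ Ideal.mem_sup_left (Ideal.mem_span_singleton_self a₁)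
  have m₂ : a₂ ∈ Ideal.span {e} := hsup ▸ Ideal.mem_sup_right (Ideal.mem_span_singleton_self a₂)
  obtain ⟨a₁', ha₁'⟩ := Ideal.mem_span_singleton'.mp m₁
  obtain ⟨a₂', ha₂'⟩ := Ideal.mem_span_singleton'.mp m₂
  have me : e ∈ Ideal.span {a₁} ⊔ Ideal.span {a₂} := hsup ▸ Ideal.mem_span_singleton_self e
  obtain ⟨y, hy, z, hz, hyz⟩ := Submodule.mem_sup.mp me
  obtain ⟨α, rfl⟩ := Ideal.mem_span_singleton'.mp hy
  obtain ⟨β, rfl⟩ := Ideal.mem_span_singleton'.mp hz
  have hone : α * a₁' + β * a₂' = 1 := by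
    have : (α * a₁' + β * a₂') * e = 1 * e := by
      rw [one_mul]
      calc (α * a₁' + β * a₂') * e = α * (a₁' * e) + β * (a₂' * e) := by ring
        _ = e := by rw [ha₁', ha₂', hyz]
    exact (mul_cancel_right_mem_nonZeroDivisors he).mp this
  have n₁ : a₁' ∈ R⁰ := (mul_mem_nonZeroDivisors.mp (ha₁' ▸ h₁ : a₁' * e ∈ R⁰)).1
  have n₂ : a₂' ∈ R⁰ := (mul_mem_nonZeroDivisors.mp (ha₂' ▸ h₂ : a₂' * e ∈ R⁰)).1
  have colon_eq : ∀ (a a' : R), a' * e = a →
      (Ideal.span {a}).colon ((Ideal.span {e} : Ideal R) : Set R) = Ideal.span {a'} := by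
    intro a a' haa'
    ext x
    rw [Ideal.mem_colon_span_singleton, Ideal.mem_span_singleton', Ideal.mem_span_singleton']
    constructor
    · rintro ⟨r, hr⟩
      refine ⟨r, (mul_cancel_right_mem_nonZeroDivisors he).mp ?_⟩
      rw [mul_assoc, haa', hr]
    · rintro ⟨r, rfl⟩
      exact ⟨r, by rw [← haa']; ring⟩
  refine ⟨a₁', a₂', ha₁'.symm, ha₂'.symm, n₁, n₂, colon_eq a₁ a₁' ha₁', colon_eq a₂ a₂' ha₂', ?_, ?_⟩
  · rw [Ideal.eq_top_iff_one, ← hone]
    exact Ideal.add_mem _
      (Ideal.mem_sup_left (Ideal.mul_mem_left _ _ (Ideal.mem_span_singleton_self a₁')))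
      (Ideal.mem_sup_right (Ideal.mul_mem_left _ _ (Ideal.mem_span_singleton_self a₂')))
  · rintro d ⟨hd₁, hd₂⟩
    obtain ⟨r, hr⟩ := Ideal.mem_span_singleton'.mp hd₁
    obtain ⟨s, hs⟩ := Ideal.mem_span_singleton'.mp hd₂
    have hc : r * a₁' = s * a₂' := by
      apply (mul_cancel_right_mem_nonZeroDivisors he).mp
      rw [mul_assoc, mul_assoc, ha₁', ha₂', hr, hs]
    rw [Ideal.mem_span_singleton']
    refine ⟨α * s + β * r, ?_⟩
    have : d = (r * a₁') * e := by rw [mul_assoc, ha₁', hr]
    rw [this]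
    calc (α * s + β * r) * (a₁' * a₂' * e)
        = (α * a₁' * (s * a₂') + β * a₂' * (r * a₁')) * e := by ring
      _ = (α * a₁' * (r * a₁') + β * a₂' * (r * a₁')) * e := by rw [hc]
      _ = ((α * a₁' + β * a₂') * (r * a₁')) * e := by ring
      _ = r * a₁' * e := by rw [hone, one_mul]

end Algebra

section Sheaf

variable {X : Scheme.{u}}

open Groth.Agent.Lib.Helper22.FTIdeal in
/-- Effective Cartier ideal sheaves are of finite type. -/
theorem ft_of_isEffCartierIdeal {E : X.IdealSheafData} (hE : BlowUp.IsEffCartierIdeal E)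
    (W : X.affineOpens) : (E.ideal W).FG := by
  have key : ∀ x : W.1, ∃ r : Γ(X, W.1), x.1 ∈ X.basicOpen r ∧
      (E.ideal (X.affineBasicOpen r)).FG := by
    intro ⟨x, hx⟩
    obtain ⟨V, hxV, e, -, hVe⟩ := hE x
    obtain ⟨r, hr, hxr⟩ := W.2.exists_basicOpen_le (V := V.1) ⟨x, hxV⟩ hx
    refine ⟨r, hxr, ?_⟩
    have hfg : (E.ideal V).FG := by rw [hVe]; exact ⟨{e}, by simp⟩
    exact ftOn_of_fg V hfg (X.affineBasicOpen r) hr
  choose r hxr hr using key
  have hspan : Ideal.span (Set.range r) = ⊤ := by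
    rw [← W.2.self_le_iSup_basicOpen_iff]
    exact fun x hxW ↦ Opens.mem_iSup.mpr ⟨⟨_, ⟨x, hxW⟩, rfl⟩, hxr ⟨x, hxW⟩⟩
  have inst := W.2.isLocalization_basicOpen
  refine fg_of_span_isLocalization _ _ hspan (fun g => Γ(X, X.basicOpen g.1)) ?_
  rintro ⟨_, x, rfl⟩
  have hle : X.affineBasicOpen (r x) ≤ W := X.affineBasicOpen_le (r x)
  have hmap := E.map_ideal hle
  have := hr x
  rw [← hmap] at this
  exact this

/-- The colon ideal sheaf `(A : E)` for `E` of finite type. -/
noncomputable def colonSheaf (A E : X.IdealSheafData) (hE : ∀ W : X.affineOpens, (E.ideal W).FG) :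
    X.IdealSheafData where
  ideal U := (A.ideal U).colon (E.ideal U : Set Γ(X, U.1))
  map_ideal_basicOpen U f := by
    haveI := U.2.isLocalization_basicOpen f
    have h := colon_map_away (S := Γ(X, X.basicOpen f)) f (A.ideal U) (E.ideal U) (hE U)
    have hA := A.map_ideal_basicOpen U f
    have hEE := E.map_ideal_basicOpen U f
    rw [← hA, ← hEE]
    exact h

theorem colonSheaf_ideal (A E : X.IdealSheafData) (hE : ∀ W : X.affineOpens, (E.ideal W).FG)
    (U : X.affineOpens) :
    (colonSheaf A E hE).ideal U = (A.ideal U).colon (E.ideal U : Set Γ(X, U.1)) := rfl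

end Sheaf

end Groth.Agent.Lib.Seat92.ColonSheaf
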