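import Groth.Agent.S18731
import Groth.Agent.S18733
import Groth.Agent.Lib.Seat92AmbProdBasic
import Groth.Agent.Lib.Seat92BlowUpProper
import Groth.Agent.Lib.Seat92CoprodClosure

/-!
# The universal property of the ambient product, up to admissible blow-up (helper92)

* `isIso_morphismRestrict_of_le`: an isomorphism over an open is one over smaller opens;
* `exists_lift_ambProd`: a pair of ambient morphisms to `X`, `T` over `S` lifts to the ambient
  product after an abstract admissible blow-up of the source;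
* `hom_ext_ambProd`: ambient morphisms to the ambient product are determined by their two
  projections.
-/

set_option autoImplicit false
set_option linter.style.haveILetI false
universe u

namespace Groth.Agent.Lib.Seat92.AmbProdUniv

open CategoryTheory CategoryTheory.Limits AlgebraicGeometry TopologicalSpace

/-- An isomorphism over an open is an isomorphism over every smaller open. -/
theorem isIso_morphismRestrict_of_le {X Y : Scheme.{u}} (f : X ⟶ Y) {U U' : Y.Opens}
    (h : U' ≤ U) (hf : IsIso (f ∣_ U)) : IsIso (f ∣_ U') := by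
  have h0 : IsIso ((f ∣_ U) ∣_ (U.ι ⁻¹ᵁ U')) := inferInstance
  have h1 : IsIso (f ∣_ (U.ι ''ᵁ (U.ι ⁻¹ᵁ U'))) :=
    ((MorphismProperty.isomorphisms Scheme).arrow_mk_iso_iff
      (morphismRestrictRestrict f U (U.ι ⁻¹ᵁ U'))).mp h0
  have h2 : U.ι ''ᵁ (U.ι ⁻¹ᵁ U') = U' := by
    rw [Scheme.Hom.image_preimage_eq_opensRange_inf, Scheme.Opens.opensRange_ι]
    exact inf_eq_right.mpr h
  exact Groth.Agent.Lib.Seat92.AdmBlowup.isIso_morphismRestrict_of_eq f h2.symm h1

variable {S T X Y : Scheme.{u}} {J : T.IdealSheafData} {I : X.IdealSheafData}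
  (hT : BlowUp.IsEffCartierIdeal J) (hX : BlowUp.IsEffCartierIdeal I)
  {f : X ⟶ S} {g : T ⟶ S} {π : Y ⟶ ModPair.mprod f g I J} {K : Y.IdealSheafData}
  (hY : ModPair.IsAmbProd f g I J π K)

include hT hX hY in
/-- Lifting to the ambient product after an abstract admissible blow-up. -/
theorem exists_lift_ambProd {Z : Scheme.{u}} (IZ : Z.IdealSheafData)
    (hIZ : BlowUp.IsEffCartierIdeal IZ) (a : Z ⟶ T) (b : Z ⟶ X)
    (ha : ModPair.IsAmbient IZ J a) (hb : ModPair.IsAmbient IZ I b) (hab : b ≫ f = a ≫ g) :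
    ∃ (Z' : Scheme.{u}) (β : Z' ⟶ Z), BlowUp.IsEffCartierIdeal (IZ.comap β) ∧
      ModPair.IsAdmBlowup (IZ.comap β) IZ β ∧
      ∃ c : Z' ⟶ Y, c ≫ π ≫ ModPair.mprodι f g I J ≫ pullback.snd f g = β ≫ a ∧
        c ≫ π ≫ ModPair.mprodι f g I J ≫ pullback.fst f g = β ≫ b ∧
        ModPair.IsAmbient (IZ.comap β) K c := by
  obtain ⟨hbl, hKE⟩ := hY
  -- the map to the fibre product factors through the closure of the product of the interiors
  set h₀ : Z ⟶ pullback f g := pullback.lift b a hab with hh₀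
  have hfst : h₀ ≫ pullback.fst f g = b := pullback.lift_fst _ _ _
  have hsnd : h₀ ≫ pullback.snd f g = a := pullback.lift_snd _ _ _
  have hle : ModPair.interior IZ ≤ h₀ ⁻¹ᵁ ModPair.prodInterior f g I J := by
    unfold ModPair.prodInterior
    rw [Scheme.Hom.preimage_inf, ← Scheme.Hom.comp_preimage, ← Scheme.Hom.comp_preimage,
      hfst, hsnd]
    exact le_inf (Groth.Agent.Lib.Seat92.MProd.interior_le_preimage_of_isAmbient hb)
      (Groth.Agent.Lib.Seat92.MProd.interior_le_preimage_of_isAmbient ha)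
  haveI := Groth.Agent.Lib.Seat92.AmbProdBasic.quasiCompact_prodInterior f g I J hX hT
  have hker : (ModPair.mprodι f g I J).ker ≤ h₀.ker :=
    Groth.Agent.Lib.Seat92.MProd.ker_imageι_le_ker (ModPair.prodInterior f g I J) IZ hIZ h₀ hle
  set h : Z ⟶ ModPair.mprod f g I J := IsClosedImmersion.lift (ModPair.mprodι f g I J) h₀ hker
    with hh
  have hfac : h ≫ ModPair.mprodι f g I J = h₀ := IsClosedImmersion.lift_fac _ _ _
  have hhfst : h ≫ ModPair.mprodι f g I J ≫ pullback.fst f g = b := by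
    rw [← Category.assoc, hfac, hfst]
  have hhsnd : h ≫ ModPair.mprodι f g I J ≫ pullback.snd f g = a := by
    rw [← Category.assoc, hfac, hsnd]
  -- the centre pulled back to `Z`
  have hCZ : (ModPair.prodCentre f g I J).comap h = I.comap b ⊔ J.comap a := by
    unfold ModPair.prodCentre
    rw [Scheme.IdealSheafData.comap_sup, ← Scheme.IdealSheafData.comap_comp,
      ← Scheme.IdealSheafData.comap_comp, hhfst, hhsnd]
  have hIb : BlowUp.IsEffCartierIdeal (I.comap b) := Groth.Agent.S18731.result IZ I hIZ hX b hb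
  have hJa : BlowUp.IsEffCartierIdeal (J.comap a) := Groth.Agent.S18731.result IZ J hIZ hT a ha
  have hfg : ∀ W : Z.affineOpens, ((I.comap b ⊔ J.comap a).ideal W).FG := fun W =>
    Submodule.FG.sup (Groth.Agent.Lib.Seat92.ColonSheaf.ft_of_isEffCartierIdeal hIb W)
      (Groth.Agent.Lib.Seat92.ColonSheaf.ft_of_isEffCartierIdeal hJa W)
  obtain ⟨Z', β, hβ⟩ := Groth.Agent.Lib.Seat82.BlowUpExists.exists_isBlowUp Z
    (I.comap b ⊔ J.comap a)
  have hIZ' : BlowUp.IsEffCartierIdeal (IZ.comap β) :=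
    Groth.Agent.Lib.Helper20.BlowUpBasic.isEffCartierIdeal_comap _ β hβ IZ hIZ
  have hI₁ : BlowUp.IsEffCartierIdeal ((I.comap b).comap β) :=
    Groth.Agent.Lib.Helper20.BlowUpBasic.isEffCartierIdeal_comap _ β hβ _ hIb
  have hI₂ : BlowUp.IsEffCartierIdeal ((J.comap a).comap β) :=
    Groth.Agent.Lib.Helper20.BlowUpBasic.isEffCartierIdeal_comap _ β hβ _ hJa
  have hE'eq : (I.comap b ⊔ J.comap a).comap β = (I.comap b).comap β ⊔ (J.comap a).comap β :=
    Scheme.IdealSheafData.comap_sup _ _ _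
  have hE' : BlowUp.IsEffCartierIdeal ((I.comap b).comap β ⊔ (J.comap a).comap β) := by
    rw [← hE'eq]; exact hβ.1
  -- `β` is an abstract admissible blow-up
  have hadm : ModPair.IsAdmBlowup (IZ.comap β) IZ β := by
    refine ⟨rfl, Groth.Agent.Lib.Seat92.BlowUpProper.isProper_of_isBlowUp _ hfg β hβ, ?_⟩
    have h1 := Groth.Agent.Lib.Helper20.BlowUpBasic.isIso_morphismRestrict _ β hβ
    refine isIso_morphismRestrict_of_le β ?_ h1
    intro z hz
    have hz' : z ∉ IZ.support := hz
    show z ∉ (I.comap b ⊔ J.comap a).support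
    intro hmem
    rw [Scheme.IdealSheafData.support_sup] at hmem
    exact hz' (Scheme.IdealSheafData.support_antitone hb hmem.1)
  -- the lift to the blow-up
  have hCeff : BlowUp.IsEffCartierIdeal ((ModPair.prodCentre f g I J).comap (β ≫ h)) := by
    rw [Scheme.IdealSheafData.comap_comp, hCZ]; exact hβ.1
  obtain ⟨c, hc, -⟩ := hbl.2 Z' (β ≫ h) hCeff
  have hcfst : c ≫ π ≫ ModPair.mprodι f g I J ≫ pullback.fst f g = β ≫ b := by
    rw [← Category.assoc, hc, Category.assoc, hhfst]
  have hcsnd : c ≫ π ≫ ModPair.mprodι f g I J ≫ pullback.snd f g = β ≫ a := by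
    rw [← Category.assoc, hc, Category.assoc, hhsnd]
  refine ⟨Z', β, hIZ', hadm, c, hcsnd, hcfst, ?_⟩
  -- the modulus condition for `c`
  obtain ⟨I₁', I₂', -, -, e1, e2, -, hmin⟩ := Groth.Agent.S18733.result _ _ hI₁ hI₂ hE'
  have hD : IZ.comap β ≤ I₁' * I₂' * ((I.comap b).comap β ⊔ (J.comap a).comap β) :=
    hmin (IZ.comap β) hIZ' (Scheme.IdealSheafData.comap_mono β hb)
      (Scheme.IdealSheafData.comap_mono β ha)
  have hEc : ((ModPair.prodCentre f g I J).comap π).comap c =
      (I.comap b).comap β ⊔ (J.comap a).comap β := by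
    rw [← Scheme.IdealSheafData.comap_comp, hc, Scheme.IdealSheafData.comap_comp, hCZ, hE'eq]
  have hIc : ((I.comap (ModPair.mprodι f g I J ≫ pullback.fst f g)).comap π).comap c =
      (I.comap b).comap β := by
    rw [← Scheme.IdealSheafData.comap_comp, ← Scheme.IdealSheafData.comap_comp, Category.assoc,
      hcfst, Scheme.IdealSheafData.comap_comp]
  have hJc : ((J.comap (ModPair.mprodι f g I J ≫ pullback.snd f g)).comap π).comap c =
      (J.comap a).comap β := by
    rw [← Scheme.IdealSheafData.comap_comp, ← Scheme.IdealSheafData.comap_comp, Category.assoc,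
      hcsnd, Scheme.IdealSheafData.comap_comp]
  have hKc : K.comap c * ((I.comap b).comap β ⊔ (J.comap a).comap β) =
      (I.comap b).comap β * (J.comap a).comap β := by
    rw [← hEc, ← Groth.Agent.Lib.Helper20.BlowUpBasic.comap_mul, hKE,
      Groth.Agent.Lib.Helper20.BlowUpBasic.comap_mul, hIc, hJc]
  show IZ.comap β ≤ K.comap c
  refine le_trans hD ?_
  apply Groth.Agent.Lib.Seat92.AmbProd.le_of_mul_le_mul_right hE'
  rw [hKc]
  generalize (I.comap b).comap β = A at e1 e2 ⊢
  generalize (J.comap a).comap β = B at e1 e2 ⊢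
  have : I₁' * I₂' * (A ⊔ B) * (A ⊔ B) = (I₁' * (A ⊔ B)) * (I₂' * (A ⊔ B)) := by
    rw [mul_assoc, mul_assoc, mul_assoc]
    congr 1
    rw [← mul_assoc, ← mul_assoc, mul_comm I₂' (A ⊔ B)]
  rw [this, ← e1, ← e2]

include hY in
/-- Ambient morphisms into the ambient product are determined by their two projections. -/
theorem hom_ext_ambProd (hKI : ModPair.IsAmbient K I
      (π ≫ ModPair.mprodι f g I J ≫ pullback.fst f g))
    {Z : Scheme.{u}} (IZ : Z.IdealSheafData)
    (hIZ : BlowUp.IsEffCartierIdeal IZ) (c₁ c₂ : Z ⟶ Y) (hc₁ : ModPair.IsAmbient IZ K c₁)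
    (h1 : c₁ ≫ π ≫ ModPair.mprodι f g I J ≫ pullback.snd f g =
      c₂ ≫ π ≫ ModPair.mprodι f g I J ≫ pullback.snd f g)
    (h2 : c₁ ≫ π ≫ ModPair.mprodι f g I J ≫ pullback.fst f g =
      c₂ ≫ π ≫ ModPair.mprodι f g I J ≫ pullback.fst f g) : c₁ = c₂ := by
  obtain ⟨hbl, hKE⟩ := hY
  have h3 : c₁ ≫ π = c₂ ≫ π := by
    rw [← cancel_mono (ModPair.mprodι f g I J)]
    apply pullback.hom_ext
    · simpa only [Category.assoc] using h2
    · simpa only [Category.assoc] using h1
  refine Groth.Agent.Lib.Seat82.BlowUpLocal.hom_ext_of_isBlowUp hbl c₁ c₂ h3 ?_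
  rw [Scheme.IdealSheafData.comap_comp]
  refine Groth.Agent.S18731.result IZ _ hIZ hbl.1 c₁ ?_
  show IZ ≤ _
  refine le_trans hc₁ (Scheme.IdealSheafData.comap_mono c₁ ?_)
  have hKI' : K ≤ (I.comap (ModPair.mprodι f g I J ≫ pullback.fst f g)).comap π := by
    have := hKI
    rw [ModPair.IsAmbient, Scheme.IdealSheafData.comap_comp] at this
    exact this
  exact le_trans hKI' (Scheme.IdealSheafData.comap_mono π le_sup_left)

end Groth.Agent.Lib.Seat92.AmbProdUniv
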