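import Mathlib
import Groth.Agent.Lib.Helper22LimBC
import Groth.Agent.Lib.Helper22NA10
import Groth.Agent.S0591
import Groth.Agent.S9187
import Groth.Agent.S2581
import Groth.Agent.S7382

/-!
# Chevalley's theorem without Noetherian hypotheses

Everything in this file is conditional on the Noetherian form of Chevalley's theorem
(`NoethChev`, proved as `Groth.Agent.S0021.result`): a Noetherian scheme admitting a finite
surjective morphism from an affine scheme is affine.

* `isSeparated_of_universallyClosed_surjective`: separatedness descends along surjective universally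
  closed morphisms.
* `isAffine_of_finite_fp_surjective`: a qcqs scheme admitting a finite, finitely presented,
  surjective morphism from an affine scheme is affine (Noetherian approximation).
* `isAffine_of_integral_surjective`: same for an integral surjective morphism.
* `isAffine_of_universallyClosed_surjective`: same for a universally closed surjective morphism.
-/

set_option autoImplicit false
set_option linter.style.haveILetI false
universe u
open CategoryTheory CategoryTheory.Limits AlgebraicGeometry TopologicalSpace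

namespace Groth.Agent.Lib.Seat92.Chevalley

open Groth.Agent.Lib.Helper22.LimBC

/-- The Noetherian form of Chevalley's theorem, as a hypothesis. -/
def NoethChev : Prop :=
  ∀ {Y X : Scheme.{u}} (f : Y ⟶ X) [IsFinite f] [Surjective f] [IsAffine Y] [IsNoetherian X],
    IsAffine X

section separated

/-- Separatedness descends along surjective universally closed morphisms. -/
theorem isSeparated_of_universallyClosed_surjective {X Y B : Scheme.{u}} (f : X ⟶ Y) (g : Y ⟶ B)
    [UniversallyClosed f] [Surjective f] [IsSeparated (f ≫ g)] : IsSeparated g := by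
  let m : pullback (f ≫ g) (f ≫ g) ⟶ pullback g g :=
    pullback.map (f ≫ g) (f ≫ g) g g f f (𝟙 B) ((Category.comp_id _).trans rfl)
      ((Category.comp_id _).trans rfl)
  have hm : UniversallyClosed m :=
    MorphismProperty.pullbackMap (P := @UniversallyClosed) (f := f ≫ g) (g := f ≫ g)
      (f' := g) (g' := g) (i₁ := f) (i₂ := f) inferInstance inferInstance rfl rfl
  have hcomm : pullback.diagonal (f ≫ g) ≫ m = f ≫ pullback.diagonal g := by
    apply pullback.hom_ext
    · simp only [m, Category.assoc, pullback.lift_fst, pullback.diagonal_fst,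
        pullback.diagonal_fst_assoc, Category.comp_id]
    · simp only [m, Category.assoc, pullback.lift_snd, pullback.diagonal_snd,
        pullback.diagonal_snd_assoc, Category.comp_id]
  have hrange : Set.range (pullback.diagonal g) = m '' Set.range (pullback.diagonal (f ≫ g)) := by
    have h1 : Set.range (pullback.diagonal g) = Set.range (f ≫ pullback.diagonal g) := by
      rw [Scheme.Hom.comp_base, TopCat.coe_comp, Set.range_comp, Set.range_eq_univ.mpr f.surjective,
        Set.image_univ]
    rw [h1, ← hcomm, Scheme.Hom.comp_base, TopCat.coe_comp, Set.range_comp]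
  have hcl : IsClosed (Set.range (pullback.diagonal g)) := by
    rw [hrange]
    exact m.isClosedMap _ (pullback.diagonal (f ≫ g)).isClosedEmbedding.isClosed_range
  have : IsClosedImmersion (pullback.diagonal g) := .of_isPreimmersion _ hcl
  exact ⟨this⟩

/-- The target of a surjective universally closed morphism from a separated scheme is separated. -/
theorem scheme_isSeparated_of_universallyClosed_surjective {X S : Scheme.{u}} (f : X ⟶ S)
    [UniversallyClosed f] [Surjective f] [X.IsSeparated] : S.IsSeparated := by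
  have : IsSeparated (f ≫ terminal.from S) := by
    rw [terminal.comp_from]; infer_instance
  exact ⟨isSeparated_of_universallyClosed_surjective f (terminal.from S)⟩

end separated

section stage

/-- Transfer of a base-change stable property along a composite base change. -/
lemma of_isPullback_comp {P : MorphismProperty Scheme.{u}} [P.IsStableUnderBaseChange]
    {X₁ S₁ X₂ S₂ X₃ S₃ : Scheme.{u}} {f₁ : X₁ ⟶ S₁} {f₂ : X₂ ⟶ S₂} {f₃ : X₃ ⟶ S₃}
    {a : S₃ ⟶ S₂} {b : S₂ ⟶ S₁} {p₂ : X₂ ⟶ X₁} {p₃ : X₃ ⟶ X₁}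
    (h₂ : IsPullback p₂ f₂ f₁ b) (h₃ : IsPullback p₃ f₃ f₁ (a ≫ b)) (hP : P f₂) : P f₃ := by
  have hw : p₃ ≫ f₁ = (f₃ ≫ a) ≫ b := by rw [Category.assoc, h₃.w]
  have : IsPullback (h₂.lift p₃ (f₃ ≫ a) hw) f₃ f₂ a := by
    refine IsPullback.of_right ?_ (h₂.lift_snd _ _ hw) h₂
    rw [h₂.lift_fst]; exact h₃
  exact MorphismProperty.of_isPullback this hP

variable {J : Type u} [SmallCategory J] [IsCofiltered J] (D : J ⥤ Scheme.{u}) (c : Cone D)
  (hc : IsLimit c) [∀ (i j : J) (f : i ⟶ j), IsAffineHom (D.map f)]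
  [∀ i, CompactSpace (D.obj i)] [∀ i, QuasiSeparatedSpace (D.obj i)]

include hc in
/-- A finite, finitely presented, surjective morphism from an affine scheme to the limit descends to
a finite surjective morphism from an affine scheme to some stage. -/
theorem exists_stage {X : Scheme.{u}} (f : X ⟶ c.pt) [IsFinite f]
    [LocallyOfFinitePresentation f] [Surjective f] [IsAffine X] :
    ∃ (i : J) (Xi : Scheme.{u}) (fi : Xi ⟶ D.obj i), IsFinite fi ∧ Surjective fi ∧ IsAffine Xi := by
  have inst : ∀ {i j : J} (f : i ⟶ j), IsAffineHom (D.map f) := fun f => inferInstance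
  obtain ⟨i₁, X₁, f₁, q, hfp, hqc, hqs, hpb⟩ := Groth.Agent.S0591.result D c hc X f
  haveI : CompactSpace X₁ := QuasiCompact.compactSpace_of_compactSpace f₁
  haveI : QuasiSeparatedSpace X₁ := quasiSeparatedSpace_of_quasiSeparated f₁
  haveI : LocallyOfFiniteType f₁ := inferInstance
  have hY : IsPullback (c.π.app i₁) (𝟙 c.pt) (𝟙 (D.obj i₁)) (c.π.app i₁) := IsPullback.id_vert _
  -- finiteness at some stage
  obtain ⟨i₂, φ₂, X₂, Y₂, f₂, g₂, pY₂, pX₂, h21, h22, h23⟩ :=
    Groth.Agent.S9187.result D c hc i₁ f₁ (𝟙 (D.obj i₁)) f (𝟙 c.pt) (c.π.app i₁) q hY hpb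
  haveI : IsIso g₂ := h21.isIso_snd_of_isIso
  have sq₂ : IsPullback pX₂ (f₂ ≫ g₂) f₁ (D.map φ₂) := by
    have := h22.paste_vert h21
    rwa [Category.comp_id] at this
  -- surjectivity at some stage
  haveI : LocallyOfFinitePresentation (f₁ ≫ 𝟙 (D.obj i₁)) := by rwa [Category.comp_id]
  haveI : QuasiCompact (f₁ ≫ 𝟙 (D.obj i₁)) := by rwa [Category.comp_id]
  haveI : QuasiSeparated (f₁ ≫ 𝟙 (D.obj i₁)) := by rwa [Category.comp_id]
  obtain ⟨i₃, φ₃, X₃, Y₃, f₃, g₃, pY₃, pX₃, h31, h32, h33⟩ :=
    Groth.Agent.S2581.result D c hc i₁ f₁ (𝟙 (D.obj i₁)) f (𝟙 c.pt) (c.π.app i₁) q hY hpb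
  haveI : IsIso g₃ := h31.isIso_snd_of_isIso
  have sq₃ : IsPullback pX₃ (f₃ ≫ g₃) f₁ (D.map φ₃) := by
    have := h32.paste_vert h31
    rwa [Category.comp_id] at this
  -- affineness at some stage
  haveI : IsAffine (bcCone i₁ hpb).pt := ‹IsAffine X›
  obtain ⟨j, hj⟩ := Scheme.exists_isAffine_of_isLimit (bcDiagram D i₁ f₁) (bcCone i₁ hpb)
    (isLimitBcCone i₁ hpb hc)
  -- a common stage
  obtain ⟨k, a₂, a₃, -⟩ := IsCofilteredOrEmpty.cone_objs (Over.mk φ₂) (Over.mk φ₃)
  obtain ⟨l, b, b', -⟩ := IsCofilteredOrEmpty.cone_objs k j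
  have e₂ : D.map l.hom = D.map (b ≫ a₂).left ≫ D.map φ₂ := by
    rw [← D.map_comp]; congr 1; exact (Over.w (b ≫ a₂)).symm
  have e₃ : D.map l.hom = D.map (b ≫ a₃).left ≫ D.map φ₃ := by
    rw [← D.map_comp]; congr 1; exact (Over.w (b ≫ a₃)).symm
  refine ⟨l.left, (bcDiagram D i₁ f₁).obj l, dSnd D i₁ f₁ l, ?_, ?_, ?_⟩
  · have h := isPullback_d D i₁ f₁ l
    rw [e₂] at h
    exact of_isPullback_comp (P := @IsFinite) sq₂ h inferInstance
  · have h := isPullback_d D i₁ f₁ l
    rw [e₃] at h
    haveI : Surjective (f₃ ≫ g₃) := inferInstance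
    exact of_isPullback_comp (P := @Surjective) sq₃ h inferInstance
  · exact isAffine_of_isAffineHom ((bcDiagram D i₁ f₁).map b')

end stage

section main

variable (H : NoethChev.{u})

include H in
/-- Chevalley for a finite, finitely presented, surjective morphism onto a qcqs scheme. -/
theorem isAffine_of_finite_fp_surjective {X S : Scheme.{u}} (f : X ⟶ S) [IsFinite f]
    [LocallyOfFinitePresentation f] [Surjective f] [IsAffine X] [CompactSpace S]
    [QuasiSeparatedSpace S] : IsAffine S := by
  obtain ⟨A, instA, DA, cA, hcA, eA, hgood⟩ :=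
    Groth.Agent.Lib.Helper22.NA10.exists_goodSys S
  haveI := hgood.dir
  haveI := hgood.ne
  haveI : IsCofiltered Aᵒᵖ := inferInstance
  haveI : ∀ (i j : Aᵒᵖ) (a : i ⟶ j), IsAffineHom (DA.map a) := fun _ _ a => hgood.aff a
  have inst : ∀ {i j : Aᵒᵖ} (a : i ⟶ j), IsAffineHom (DA.map a) := fun a => hgood.aff a
  haveI : ∀ i, CompactSpace (DA.obj i) := hgood.cpt
  haveI : ∀ i, LocallyOfFiniteType (specULiftZIsTerminal.from (DA.obj i)) := hgood.lft
  haveI : ∀ i, QuasiSeparatedSpace (DA.obj i) := fun i =>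
    Groth.Agent.Lib.Helper22.NA4.quasiSeparatedSpace_of_lft _
  obtain ⟨i, Xi, fi, h1, h2, h3⟩ := exists_stage DA cA hcA (f ≫ eA.inv)
  haveI : IsLocallyNoetherian (DA.obj i) :=
    Groth.Agent.Lib.Helper22.NA4.isLocallyNoetherian_of_lft _
  haveI : IsNoetherian (DA.obj i) := {}
  haveI : IsAffine (DA.obj i) := H fi
  haveI : IsAffineHom (cA.π.app i) := isAffineHom_π_app DA cA hcA i
  haveI : IsAffine cA.pt := isAffine_of_isAffineHom (cA.π.app i)
  exact .of_isIso eA.inv

include H in
/-- Chevalley for an integral surjective morphism. -/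
theorem isAffine_of_integral_surjective {X S : Scheme.{u}} (f : X ⟶ S) [IsIntegralHom f]
    [Surjective f] [IsAffine X] : IsAffine S := by
  haveI : CompactSpace S := Function.Surjective.compactSpace f.continuous f.surjective
  haveI : S.IsSeparated := scheme_isSeparated_of_universallyClosed_surjective f
  haveI : QuasiSeparatedSpace S := inferInstance
  obtain ⟨I, _, _, _, D, c, hc, hD, ⟨e⟩⟩ := Groth.Agent.S7382.result f
  haveI : IsConnected Iᵒᵖ := IsCofiltered.isConnected _
  have hc' : IsLimit ((Over.forget S).mapCone c) := isLimitOfPreserves (Over.forget S) hc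
  have i1 : ∀ {i j : Iᵒᵖ} (a : i ⟶ j), IsAffineHom ((D ⋙ Over.forget S).map a) :=
    fun {i j} a => by
      show IsAffineHom (D.map a).left
      haveI := (hD j).1
      haveI : IsAffineHom ((D.map a).left ≫ (D.obj j).hom) := by
        rw [Over.w]
        have := (hD i).1
        infer_instance
      exact IsAffineHom.of_comp (D.map a).left (D.obj j).hom
  have i2 : ∀ i, CompactSpace ((D ⋙ Over.forget S).obj i) := fun i => by
    show CompactSpace (D.obj i).left
    have := (hD i).1
    exact QuasiCompact.compactSpace_of_compactSpace (D.obj i).hom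
  have i3 : ∀ i, QuasiSeparatedSpace ((D ⋙ Over.forget S).obj i) := fun i => by
    show QuasiSeparatedSpace (D.obj i).left
    have := (hD i).1
    exact quasiSeparatedSpace_of_quasiSeparated (D.obj i).hom
  haveI : IsAffine ((Over.forget S).mapCone c).pt := by
    show IsAffine c.pt.left
    haveI : IsIso e.hom.left := (inferInstance : IsIso ((Over.forget S).map e.hom))
    exact .of_isIso (Y := X) e.hom.left
  obtain ⟨a, ha⟩ := Scheme.exists_isAffine_of_isLimit (D ⋙ Over.forget S)
    ((Over.forget S).mapCone c) hc'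
  have ha' : IsAffine (D.obj a).left := ha
  have := (hD a).1
  have := (hD a).2
  haveI : Surjective (D.obj a).hom := by
    have h1 : (e.inv.left ≫ (c.π.app a).left) ≫ (D.obj a).hom = f := by
      rw [Category.assoc, Over.w]
      exact Over.w e.inv
    haveI : Surjective ((e.inv.left ≫ (c.π.app a).left) ≫ (D.obj a).hom) := by rwa [h1]
    exact Surjective.of_comp (e.inv.left ≫ (c.π.app a).left) (D.obj a).hom
  exact isAffine_of_finite_fp_surjective H (D.obj a).hom

include H in
/-- Chevalley for a universally closed surjective morphism. -/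
theorem isAffine_of_universallyClosed_surjective {X S : Scheme.{u}} (f : X ⟶ S)
    [UniversallyClosed f] [Surjective f] [IsAffine X] : IsAffine S := by
  haveI : S.IsSeparated := scheme_isSeparated_of_universallyClosed_surjective f
  haveI : IsAffineHom (f ≫ terminal.from S) := by
    rw [terminal.comp_from]; infer_instance
  haveI : IsAffineHom f := IsAffineHom.of_comp f (terminal.from S)
  haveI : IsIntegralHom f := IsIntegralHom.iff_universallyClosed_and_isAffineHom.mpr ⟨‹_›, ‹_›⟩
  exact isAffine_of_integral_surjective H f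

omit H in
/-- A scheme covered by finitely many affine closed subschemes is affine: auxiliary form producing
an integral morphism from an affine scheme with the prescribed range. -/
theorem exists_integral_of_finite_closed_cover {X : Scheme.{u}} (κ : Type) [Finite κ] :
    ∀ (Z : κ → Scheme.{u}) (ι : ∀ k, Z k ⟶ X) (_ : ∀ k, IsClosedImmersion (ι k))
      (_ : ∀ k, IsAffine (Z k)),
      ∃ (W : Scheme.{u}) (g : W ⟶ X), IsAffine W ∧ IsIntegralHom g ∧
        ∀ x : X, x ∈ Set.range g ↔ ∃ k, x ∈ Set.range (ι k) := by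
  refine Finite.induction_empty_option (P := fun κ : Type =>
    ∀ (Z : κ → Scheme.{u}) (ι : ∀ k, Z k ⟶ X) (_ : ∀ k, IsClosedImmersion (ι k))
      (_ : ∀ k, IsAffine (Z k)),
      ∃ (W : Scheme.{u}) (g : W ⟶ X), IsAffine W ∧ IsIntegralHom g ∧
        ∀ x : X, x ∈ Set.range g ↔ ∃ k, x ∈ Set.range (ι k)) ?_ ?_ ?_ κ
  · intro α β e hα Z ι h1 h2
    obtain ⟨W, g, hW, hg, hr⟩ := hα (fun a => Z (e a)) (fun a => ι (e a)) (fun a => h1 _)
      (fun a => h2 _)
    refine ⟨W, g, hW, hg, fun x => (hr x).trans ⟨fun ⟨a, ha⟩ => ⟨e a, ha⟩, fun ⟨b, hb⟩ => ⟨e.symm b, ?_⟩⟩⟩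
    rwa [e.apply_symm_apply]
  · intro Z ι _ _
    refine ⟨∅, Scheme.emptyTo X, inferInstance, ?_, fun x => ⟨fun ⟨y, _⟩ => ?_, fun ⟨k, _⟩ => k.elim⟩⟩
    · haveI : IsClosedImmersion (Scheme.emptyTo X) := inferInstance
      infer_instance
    · exact (IsEmpty.false y).elim
  · intro α _ hα Z ι h1 h2
    obtain ⟨W, g, hW, hg, hr⟩ := hα (fun a => Z (some a)) (fun a => ι (some a)) (fun a => h1 _)
      (fun a => h2 _)
    haveI := h1 none
    haveI := h2 none
    refine ⟨W ⨿ Z none, coprod.desc g (ι none), inferInstance, inferInstance, fun x => ?_⟩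
    constructor
    · rintro ⟨y, rfl⟩
      obtain ⟨y | y, rfl⟩ := (coprodMk W (Z none)).surjective y
      · rw [coprodMk_inl, ← Scheme.Hom.comp_apply, coprod.inl_desc]
        obtain ⟨k, hk⟩ := (hr (g y)).mp ⟨y, rfl⟩
        exact ⟨some k, hk⟩
      · rw [coprodMk_inr, ← Scheme.Hom.comp_apply, coprod.inr_desc]
        exact ⟨none, y, rfl⟩
    · rintro ⟨k | k, hk⟩
      · obtain ⟨y, rfl⟩ := hk
        exact ⟨(coprod.inr : Z none ⟶ W ⨿ Z none) y, by
          rw [← Scheme.Hom.comp_apply, coprod.inr_desc]⟩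
      · obtain ⟨y, hy⟩ := (hr x).mpr ⟨k, hk⟩
        exact ⟨(coprod.inl : W ⟶ W ⨿ Z none) y, by
          rw [← Scheme.Hom.comp_apply, coprod.inl_desc, hy]⟩

include H in
/-- The scheme-theoretic image of `X ⟶ Y` is integral with finite fibres over `S` if `X` is, for `Y`
separated over `S`. -/
theorem imageι_comp_integral {X Y S : Scheme.{u}} (f : X ⟶ Y) (g : Y ⟶ S)
    [IsSeparated g] [IsIntegralHom (f ≫ g)]
    (hfin : ∀ s : S, Set.Finite ((f ≫ g).base ⁻¹' {s})) :
    IsIntegralHom (f.imageι ≫ g) ∧ ∀ s : S, Set.Finite ((f.imageι ≫ g).base ⁻¹' {s}) := by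
  haveI : IsIntegralHom f := IsIntegralHom.of_comp f g
  have hf'h : f.toImage ≫ f.imageι ≫ g = f ≫ g := by
    rw [← Category.assoc, Scheme.Hom.toImage_imageι]
  haveI : IsIntegralHom (f.toImage ≫ f.imageι ≫ g) := by rw [hf'h]; infer_instance
  haveI : IsIntegralHom f.toImage := IsIntegralHom.of_comp f.toImage (f.imageι ≫ g)
  haveI : Surjective f.toImage := by
    refine ⟨?_⟩
    rw [← Set.range_eq_univ]
    have hcl : IsClosed (Set.range f.toImage) := f.toImage.isClosedMap.isClosed_range
    rw [← hcl.closure_eq]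
    exact f.toImage.denseRange.closure_eq
  haveI : UniversallyClosed (f.toImage ≫ f.imageι ≫ g) := inferInstance
  haveI : UniversallyClosed (f.imageι ≫ g) :=
    UniversallyClosed.of_comp_surjective f.toImage (f.imageι ≫ g)
  haveI : IsAffineHom (f.imageι ≫ g) := by
    refine ⟨fun U hU => ?_⟩
    haveI : IsAffine (f.toImage ⁻¹ᵁ ((f.imageι ≫ g) ⁻¹ᵁ U)).toScheme :=
      hU.preimage (f.toImage ≫ f.imageι ≫ g)
    haveI : IsIntegralHom (f.toImage ∣_ ((f.imageι ≫ g) ⁻¹ᵁ U)) := inferInstance
    haveI : Surjective (f.toImage ∣_ ((f.imageι ≫ g) ⁻¹ᵁ U)) :=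
      IsZariskiLocalAtTarget.restrict ‹Surjective f.toImage› _
    exact isAffine_of_integral_surjective H (f.toImage ∣_ ((f.imageι ≫ g) ⁻¹ᵁ U))
  refine ⟨IsIntegralHom.iff_universallyClosed_and_isAffineHom.mpr ⟨‹_›, ‹_›⟩, fun s => ?_⟩
  have hsub : (f.imageι ≫ g).base ⁻¹' {s} ⊆ f.toImage.base '' ((f ≫ g).base ⁻¹' {s}) := by
    intro y hy
    obtain ⟨x, rfl⟩ := f.toImage.surjective y
    refine ⟨x, ?_, rfl⟩
    show (f ≫ g).base x = s
    rw [← hf'h]
    exact hy
  exact ((hfin s).image _).subset hsub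

end main

end Groth.Agent.Lib.Seat92.Chevalley
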