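import Groth.Agent.Lib.Seat92PairCoprod
import Groth.Agent.Lib.Seat92CoprodClosure

/-!
# Admissible blow-ups are stable under coproducts (helper92)

* `isPullback_sigmaMap`, `sigmaMap_of_isZariskiLocalAtTarget`: `Sigma.map s` is, over the `i`-th
  summand, the map `s i`;
* `isIso_morphismRestrict_image_of_isPullback`: isomorphisms over opens descend along pullback
  squares over open immersions;
* `isAdmBlowup_sigmaMap`: a disjoint union of abstract admissible blow-ups is one;
* `admBlowup_of_coproducts`: the same for arbitrary coproduct cocones of modulus pairs, phrased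
  with elementary universal properties.
-/

set_option autoImplicit false
set_option linter.style.haveILetI false
universe u

namespace Groth.Agent.Lib.Seat92.CoprodStable

open CategoryTheory CategoryTheory.Limits AlgebraicGeometry TopologicalSpace
open Groth.Agent.Lib.Seat92.PairCoprod

section Schemes

variable {σ : Type u} {X Y : σ → Scheme.{u}} (s : ∀ i, X i ⟶ Y i)

theorem sigmaMap_ι_apply (j : σ) (z' : X j) :
    (Limits.Sigma.map s) (Sigma.ι X j z') = Sigma.ι Y j (s j z') := by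
  have h1 := Scheme.Hom.comp_apply (Sigma.ι X j) (Limits.Sigma.map s) z'
  have h2 := Scheme.Hom.comp_apply (s j) (Sigma.ι Y j) z'
  rw [← h1, ← h2, Limits.Sigma.ι_map]

theorem preimage_opensRange_sigmaMap (i : σ) :
    (Limits.Sigma.map s) ⁻¹ᵁ (Sigma.ι Y i).opensRange = (Sigma.ι X i).opensRange := by
  ext z
  obtain ⟨⟨j, z'⟩, rfl⟩ := (sigmaMk X).surjective z
  rw [sigmaMk_mk]
  constructor
  · intro hz
    obtain ⟨y, hy⟩ := hz
    rw [sigmaMap_ι_apply] at hy
    obtain ⟨rfl, -⟩ := Sigma.mk.inj_iff.mp ((sigmaι_eq_iff Y _ _ _ _).mp hy)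
    exact ⟨z', rfl⟩
  · rintro ⟨y, hy⟩
    obtain ⟨rfl, h2⟩ := Sigma.mk.inj_iff.mp ((sigmaι_eq_iff _ _ _ _ _).mp hy)
    refine ⟨s i z', ?_⟩
    rw [sigmaMap_ι_apply]

theorem isPullback_sigmaMap (i : σ) :
    IsPullback (s i) (Sigma.ι X i) (Sigma.ι Y i) (Limits.Sigma.map s) :=
  IsOpenImmersion.isPullback _ _ _ _ (Limits.Sigma.ι_map _ _) (preimage_opensRange_sigmaMap s i)

theorem sigmaMap_of_isZariskiLocalAtTarget (P : MorphismProperty Scheme.{u})
    [IsZariskiLocalAtTarget P] (h : ∀ i, P (s i)) : P (Limits.Sigma.map s) := by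
  apply IsZariskiLocalAtTarget.of_openCover (P := P) (sigmaOpenCover Y)
  intro i
  have H := (isPullback_sigmaMap s i).flip
  have h1 : pullback.snd (Limits.Sigma.map s) (Sigma.ι Y i) = H.isoPullback.inv ≫ s i := by
    rw [Iso.eq_inv_comp]
    exact H.isoPullback_hom_snd
  show P (pullback.snd (Limits.Sigma.map s) (Sigma.ι Y i))
  rw [h1]
  exact (P.cancel_left_of_respectsIso _ _).mpr (h i)

end Schemes

/-- Isomorphisms over opens descend along pullback squares over open immersions. -/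
theorem isIso_morphismRestrict_image_of_isPullback {P' Q' P Q : Scheme.{u}} {p : P' ⟶ P}
    {s : P' ⟶ Q'} {φ : P ⟶ Q} {q : Q' ⟶ Q} [IsOpenImmersion q] (H : IsPullback p s φ q)
    (V : Q'.Opens) (h : IsIso (s ∣_ V)) : IsIso (φ ∣_ (q ''ᵁ V)) := by
  have big : IsPullback (s ∣_ V) ((s ⁻¹ᵁ V).ι ≫ p) (V.ι ≫ q) φ :=
    (isPullback_morphismRestrict s V).paste_vert H.flip
  have e1 := morphismRestrictOpensRange φ (V.ι ≫ q)
  have h1 : pullback.snd φ (V.ι ≫ q) = big.flip.isoPullback.inv ≫ (s ∣_ V) := by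
    rw [Iso.eq_inv_comp]
    exact big.flip.isoPullback_hom_snd
  have h2 : IsIso (pullback.snd φ (V.ι ≫ q)) := by
    rw [h1]; infer_instance
  have h3 : IsIso (φ ∣_ (V.ι ≫ q).opensRange) :=
    ((MorphismProperty.isomorphisms Scheme).arrow_mk_iso_iff e1).mpr h2
  have h4 : q ''ᵁ V = (V.ι ≫ q).opensRange := by
    rw [Scheme.Hom.opensRange_comp, Scheme.Opens.opensRange_ι]
  exact Groth.Agent.Lib.Seat92.AdmBlowup.isIso_morphismRestrict_of_eq φ h4 h3

section AdmBlowup

variable {σ : Type u} {X Y : σ → Scheme.{u}} (s : ∀ i, X i ⟶ Y i)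
  (I : ∀ i, (X i).IdealSheafData) (J : ∀ i, (Y i).IdealSheafData)

theorem interior_sigmaIdeal :
    ModPair.interior (sigmaIdeal Y J) = ⨆ i, (Sigma.ι Y i) ''ᵁ ModPair.interior (J i) := by
  ext y
  obtain ⟨⟨j, y'⟩, rfl⟩ := (sigmaMk Y).surjective y
  rw [sigmaMk_mk]
  have h1 : Sigma.ι Y j y' ∈ ModPair.interior (sigmaIdeal Y J) ↔ y' ∈ ModPair.interior (J j) := by
    have := Groth.Agent.S18743.interior_comap (Sigma.ι Y j) (sigmaIdeal Y J)
    rw [sigmaIdeal_comap_ι] at this
    rw [this]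
    exact Iff.rfl
  show Sigma.ι Y j y' ∈ ModPair.interior (sigmaIdeal Y J) ↔ _
  rw [h1]
  constructor
  · intro hy
    exact TopologicalSpace.Opens.mem_iSup.mpr ⟨j, ⟨y', hy, rfl⟩⟩
  · intro hy
    obtain ⟨i, z, hz, hzy⟩ := TopologicalSpace.Opens.mem_iSup.mp hy
    obtain ⟨rfl, h2⟩ := Sigma.mk.inj_iff.mp ((sigmaι_eq_iff Y _ _ _ _).mp hzy)
    rw [heq_eq_eq] at h2
    exact h2 ▸ hz

/-- A disjoint union of abstract admissible blow-ups is an abstract admissible blow-up. -/
theorem isAdmBlowup_sigmaMap (h : ∀ i, ModPair.IsAdmBlowup (I i) (J i) (s i)) :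
    ModPair.IsAdmBlowup (sigmaIdeal X I) (sigmaIdeal Y J) (Limits.Sigma.map s) := by
  refine ⟨?_, ?_, ?_⟩
  · -- minimal
    have key : ∀ i, ((sigmaIdeal Y J).comap (Limits.Sigma.map s)).comap (Sigma.ι X i) = I i := by
      intro i
      rw [← Scheme.IdealSheafData.comap_comp, Limits.Sigma.ι_map,
        Scheme.IdealSheafData.comap_comp, sigmaIdeal_comap_ι]
      exact (h i).1.symm
    apply le_antisymm
    · refine le_of_forall_comap_ι_le fun i => ?_
      rw [key, sigmaIdeal_comap_ι]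
    · refine le_of_forall_comap_ι_le fun i => ?_
      rw [key, sigmaIdeal_comap_ι]
  · exact sigmaMap_of_isZariskiLocalAtTarget s @IsProper fun i => (h i).2.1
  · rw [interior_sigmaIdeal]
    apply Groth.Agent.Lib.Seat92.CoprodClosure.isIso_morphismRestrict_iSup
    intro i
    exact isIso_morphismRestrict_image_of_isPullback (isPullback_sigmaMap s i).flip _ (h i).2.2

end AdmBlowup

section Pairs

/-- Isomorphisms of modulus pairs are abstract admissible blow-ups. -/
theorem admBlowup_of_iso {P P' : ModPair.Pair.{u}} (e : P ≅ P') :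
    ModPair.Pair.admBlowup e.hom := by
  have hiso : IsIso e.hom.hom := by
    refine ⟨e.inv.hom, ?_, ?_⟩
    · exact congrArg ModPair.Pair.Hom.hom e.hom_inv_id
    · exact congrArg ModPair.Pair.Hom.hom e.inv_hom_id
  refine ⟨le_antisymm e.hom.cond ?_, inferInstance, inferInstance⟩
  have h1 : (P.mod.comap e.inv.hom).comap e.hom.hom = P.mod := by
    rw [← Scheme.IdealSheafData.comap_comp]
    have : e.hom.hom ≫ e.inv.hom = 𝟙 _ := congrArg ModPair.Pair.Hom.hom e.hom_inv_id
    rw [this, Scheme.IdealSheafData.comap_id]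
  calc P'.mod.comap e.hom.hom ≤ (P.mod.comap e.inv.hom).comap e.hom.hom :=
        Scheme.IdealSheafData.comap_mono _ e.inv.cond
    _ = P.mod := h1

variable {σ : Type u} (P Q : σ → ModPair.Pair.{u}) (s : ∀ i, P i ⟶ Q i)

/-- The explicit coproduct of the `s i`. -/
noncomputable def coprodMap :
    coprodPair (Discrete.functor P) ⟶ coprodPair (Discrete.functor Q) :=
  ⟨Limits.Sigma.map fun i => (s i).hom, by
    show sigmaIdeal _ _ ≤ (sigmaIdeal _ _).comap _
    refine le_of_forall_comap_ι_le fun i => ?_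
    rw [sigmaIdeal_comap_ι, ← Scheme.IdealSheafData.comap_comp]
    erw [Limits.Sigma.ι_map]
    rw [Scheme.IdealSheafData.comap_comp]
    erw [sigmaIdeal_comap_ι]
    exact (s i).cond⟩

/-- The injections into the explicit coproduct. -/
noncomputable def inj (i : σ) : P i ⟶ coprodPair (Discrete.functor P) :=
  (coprodCocone (Discrete.functor P)).ι.app ⟨i⟩

/-- Morphisms out of the explicit coproduct. -/
noncomputable def desc {Z : ModPair.Pair.{u}} (a : ∀ i, P i ⟶ Z) :
    coprodPair (Discrete.functor P) ⟶ Z :=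
  (coprodIsColimit (Discrete.functor P)).desc
    { pt := Z, ι := Discrete.natTrans fun j => a j.as }

theorem inj_desc {Z : ModPair.Pair.{u}} (a : ∀ i, P i ⟶ Z) (i : σ) :
    inj P i ≫ desc P a = a i :=
  (coprodIsColimit (Discrete.functor P)).fac
    { pt := Z, ι := Discrete.natTrans fun j => a j.as } ⟨i⟩

theorem hom_ext {Z : ModPair.Pair.{u}} {f g : coprodPair (Discrete.functor P) ⟶ Z}
    (h : ∀ i, inj P i ≫ f = inj P i ≫ g) : f = g :=
  (coprodIsColimit (Discrete.functor P)).hom_ext fun j => h j.as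

theorem inj_coprodMap (i : σ) : inj P i ≫ coprodMap P Q s = s i ≫ inj Q i := by
  apply ModPair.Pair.Hom.ext
  exact Limits.Sigma.ι_map (fun i => (s i).hom) i

theorem admBlowup_coprodMap (hs : ∀ i, ModPair.Pair.admBlowup (s i)) :
    ModPair.Pair.admBlowup (coprodMap P Q s) :=
  isAdmBlowup_sigmaMap (fun i => (s i).hom) (fun i => (P i).mod) (fun i => (Q i).mod) hs

/-- A cocone with the universal property of the coproduct is isomorphic to the explicit one. -/
theorem exists_iso_coprodPair {PP : ModPair.Pair.{u}} (p : ∀ i, P i ⟶ PP)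
    (hP : ∀ (Z : ModPair.Pair.{u}) (a : ∀ i, P i ⟶ Z), ∃! t : PP ⟶ Z, ∀ i, p i ≫ t = a i) :
    ∃ e : PP ≅ coprodPair (Discrete.functor P), ∀ i, p i ≫ e.hom = inj P i := by
  obtain ⟨u, hu, -⟩ := hP (coprodPair (Discrete.functor P)) (inj P)
  have hu : ∀ i, p i ≫ u = inj P i := hu
  refine ⟨⟨u, desc P p, ?_, ?_⟩, hu⟩
  · obtain ⟨t, -, ht⟩ := hP PP p
    have h1 : u ≫ desc P p = t := ht _ fun i => by rw [← Category.assoc, hu, inj_desc]
    have h2 : 𝟙 PP = t := ht _ fun i => Category.comp_id _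
    rw [h1, ← h2]
  · apply hom_ext
    intro i
    rw [← Category.assoc, inj_desc, hu, Category.comp_id]

/-- Abstract admissible blow-ups are stable under coproducts of modulus pairs. -/
theorem admBlowup_of_coproducts (hs : ∀ i, ModPair.Pair.admBlowup (s i))
    {PP QQ : ModPair.Pair.{u}} (p : ∀ i, P i ⟶ PP) (q : ∀ i, Q i ⟶ QQ)
    (hP : ∀ (Z : ModPair.Pair.{u}) (a : ∀ i, P i ⟶ Z), ∃! t : PP ⟶ Z, ∀ i, p i ≫ t = a i)
    (hQ : ∀ (Z : ModPair.Pair.{u}) (a : ∀ i, Q i ⟶ Z), ∃! t : QQ ⟶ Z, ∀ i, q i ≫ t = a i)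
    (φ : PP ⟶ QQ) (hφ : ∀ i, p i ≫ φ = s i ≫ q i) : ModPair.Pair.admBlowup φ := by
  obtain ⟨eP, heP⟩ := exists_iso_coprodPair P p hP
  obtain ⟨eQ, heQ⟩ := exists_iso_coprodPair Q q hQ
  have heQ' : ∀ i, inj Q i ≫ eQ.inv = q i := fun i => by
    rw [← heQ, Category.assoc, Iso.hom_inv_id, Category.comp_id]
  have hfac : φ = eP.hom ≫ coprodMap P Q s ≫ eQ.inv := by
    obtain ⟨t, -, ht⟩ := hP QQ fun i => s i ≫ q i
    have h1 : φ = t := ht _ hφ
    have h2 : eP.hom ≫ coprodMap P Q s ≫ eQ.inv = t := ht _ fun i => by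
      rw [← Category.assoc, heP, ← Category.assoc, inj_coprodMap, Category.assoc, heQ']
    rw [h1, h2]
  rw [hfac]
  exact Groth.Agent.Lib.Seat92.AdmBlowup.isAdmBlowup_comp (admBlowup_of_iso eP)
    (Groth.Agent.Lib.Seat92.AdmBlowup.isAdmBlowup_comp (admBlowup_coprodMap P Q s hs)
      (admBlowup_of_iso eQ.symm))

end Pairs

end Groth.Agent.Lib.Seat92.CoprodStable
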