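import Groth.Agent.Lib.Helper28FibLoc
import Groth.Agent.S18708

/-!
# Localizing a four-term exact sequence at a prime: the fibre-local criterion (helper92)

For `A → B` Noetherian, a prime `q` of `B` over `p`, and an exact sequence
`0 → F → E⁰ → E¹ → G → 0` of finite `B`-modules with `E⁰, E¹` flat over `A`, such that `G` is flat
over `A` at all strict generizations of `q`, `depth (E⁰_q/pE⁰_q) ≥ 2`, `depth (E¹_q/pE¹_q) ≥ 1`:
`G` is flat over `A` at `q` iff `depth (F_q/pF_q) ≥ 2` (`flatAt_iff_two_le_fibre_depth`).
This is S18708 applied to `A_p → B_q` with `J` the maximal ideal.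
-/

set_option autoImplicit false
set_option linter.unusedSectionVars false
universe u

namespace Groth.Agent.Lib.Seat92.FibLocal

open Groth.Agent.Lib.Helper28

section LocLoc

variable {B : Type u} [CommRing B]
  (q : Ideal B) [q.IsPrime] (Q : Ideal (Localization.AtPrime q)) [Q.IsPrime]
  (N : Type u) [AddCommGroup N] [Module B N]

/-- `(N_q)_Q` is the localization of `N` at the prime `Q ∩ B`. -/
theorem isLocalizedModule_comp :
    IsLocalizedModule (Q.comap (algebraMap B (Localization.AtPrime q))).primeCompl
      (((LocalizedModule.mkLinearMap Q.primeCompl (LocalizedModule q.primeCompl N)).restrictScalars B) ∘ₗ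
        (LocalizedModule.mkLinearMap q.primeCompl N)) := by
  rw [isLocalizedModule_iff_isBaseChange _ (Localization.AtPrime Q)]
  exact IsBaseChange.comp (LocalizedModule.isBaseChange q.primeCompl N)
    (LocalizedModule.isBaseChange Q.primeCompl (LocalizedModule q.primeCompl N))

/-- Flatness over a base ring `A` passes from `N_{Q ∩ B}` to `(N_q)_Q`. -/
theorem flat_localizedModule_localizedModule {A : Type u} [CommRing A] [Algebra A B]
    [Module A N] [IsScalarTower A B N]
    (h : Module.Flat A
      (LocalizedModule (Q.comap (algebraMap B (Localization.AtPrime q))).primeCompl N)) :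
    Module.Flat A (LocalizedModule Q.primeCompl (LocalizedModule q.primeCompl N)) := by
  have := isLocalizedModule_comp q Q N
  let e : LocalizedModule (Q.comap (algebraMap B (Localization.AtPrime q))).primeCompl N ≃ₗ[B]
      LocalizedModule Q.primeCompl (LocalizedModule q.primeCompl N) :=
    IsLocalizedModule.iso (Q.comap (algebraMap B (Localization.AtPrime q))).primeCompl
      (((LocalizedModule.mkLinearMap Q.primeCompl (LocalizedModule q.primeCompl N)).restrictScalars B) ∘ₗ
        (LocalizedModule.mkLinearMap q.primeCompl N))
  exact Module.Flat.of_linearEquiv (e.restrictScalars A).symm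

end LocLoc

section LocalData

variable {A B : Type u} [CommRing A] [CommRing B] [Algebra A B] (q : Ideal B) [q.IsPrime]

/-- `q` lies over `q ∩ A`. -/
theorem liesOver_comap : q.LiesOver (q.comap (algebraMap A B)) := ⟨rfl⟩

/-- The algebra structure `A_p → B_q` for `p = q ∩ A`. -/
noncomputable abbrev algLoc :
    Algebra (Localization.AtPrime (q.comap (algebraMap A B))) (Localization.AtPrime q) :=
  haveI := liesOver_comap (A := A) q
  Localization.AtPrime.algebraOfLiesOver (q.comap (algebraMap A B)) q

attribute [local instance] algLoc

theorem isLocalHom_algLoc :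
    IsLocalHom (algebraMap (Localization.AtPrime (q.comap (algebraMap A B)))
      (Localization.AtPrime q)) := by
  have := liesOver_comap (A := A) q
  rw [RingHom.algebraMap_toAlgebra]
  exact Localization.isLocalHom_localRingHom (q.comap (algebraMap A B)) q (algebraMap A B)
    Ideal.LiesOver.over

/-- `A → A_p → B_q` is `A → B → B_q`. -/
theorem isScalarTower_algLoc :
    IsScalarTower A (Localization.AtPrime (q.comap (algebraMap A B))) (Localization.AtPrime q) := by
  have := liesOver_comap (A := A) q
  infer_instance

variable (M : Type u) [AddCommGroup M] [Module B M]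

/-- The `A_p`-module structure on `M_q`. -/
noncomputable abbrev modLoc :
    Module (Localization.AtPrime (q.comap (algebraMap A B))) (LocalizedModule q.primeCompl M) :=
  Module.compHom _ (algebraMap (Localization.AtPrime (q.comap (algebraMap A B)))
    (Localization.AtPrime q))

attribute [local instance] modLoc

theorem isScalarTower_modLoc :
    IsScalarTower (Localization.AtPrime (q.comap (algebraMap A B))) (Localization.AtPrime q)
      (LocalizedModule q.primeCompl M) :=
  ⟨fun a b x => by
    change (a • b) • x = algebraMap _ (Localization.AtPrime q) a • (b • x)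
    rw [Algebra.smul_def, mul_smul]⟩

theorem isScalarTower_modLoc' [Module A M] [IsScalarTower A B M] :
    IsScalarTower A (Localization.AtPrime (q.comap (algebraMap A B)))
      (LocalizedModule q.primeCompl M) := by
  have := isScalarTower_algLoc (A := A) q
  exact IsScalarTower.of_algebraMap_smul fun r x => by
    change algebraMap (Localization.AtPrime (q.comap (algebraMap A B))) (Localization.AtPrime q)
      (algebraMap A _ r) • x = r • x
    rw [← IsScalarTower.algebraMap_apply, IsScalarTower.algebraMap_apply A B
      (Localization.AtPrime q), algebraMap_smul, algebraMap_smul]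

theorem map_maximalIdeal_algLoc :
    (IsLocalRing.maximalIdeal (Localization.AtPrime (q.comap (algebraMap A B)))).map
      (algebraMap (Localization.AtPrime (q.comap (algebraMap A B))) (Localization.AtPrime q)) =
      (q.comap (algebraMap A B)).map (algebraMap A (Localization.AtPrime q)) := by
  have := isScalarTower_algLoc (A := A) q
  rw [← IsLocalization.AtPrime.map_eq_maximalIdeal (q.comap (algebraMap A B))
    (Localization.AtPrime (q.comap (algebraMap A B))), Ideal.map_map,
    ← IsScalarTower.algebraMap_eq]

end LocalData

section Criterion

variable {A B : Type u} [CommRing A] [CommRing B] [IsNoetherianRing A] [IsNoetherianRing B]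
  [Algebra A B] (q : Ideal B) [q.IsPrime]

attribute [local instance] algLoc modLoc

/-- The depth of the closed fibre of `M_q` over `A_p → B_q` with respect to the maximal ideal is
the fibre-local depth of `M` at `q`. -/
theorem idealDepth_fibMod_eq (M : Type u) [AddCommGroup M] [Module B M] [Module.Finite B M] :
    LocCoh.idealDepth (IsLocalRing.maximalIdeal (Localization.AtPrime q))
      (EGA4.FibMod (Localization.AtPrime (q.comap (algebraMap A B))) (Localization.AtPrime q)
        (LocalizedModule q.primeCompl M)) =
    LocCoh.idealDepth (q.map (algebraMap B (EGA4.FibLocRing A B q))) (EGA4.FibLocMod A B q M) := by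
  rw [idealDepth_congr (Submodule.quotEquivOfEq _
    ((q.comap (algebraMap A B)).map (algebraMap A (Localization.AtPrime q)) •
      (⊤ : Submodule (Localization.AtPrime q) (LocalizedModule q.primeCompl M)))
    (by rw [← map_maximalIdeal_algLoc (A := A) q]))]
  have hfin : Module.Finite (EGA4.FibLocRing A B q) (EGA4.FibLocMod A B q M) :=
    Module.Finite.of_restrictScalars_finite (Localization.AtPrime q) _ _
  rw [idealDepth_restrictScalars_eq_idealDepth_map (B := EGA4.FibLocRing A B q)
    (IsLocalRing.maximalIdeal (Localization.AtPrime q)) (EGA4.FibLocMod A B q M)]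
  have hq : (IsLocalRing.maximalIdeal (Localization.AtPrime q)).map
      (algebraMap (Localization.AtPrime q) (EGA4.FibLocRing A B q)) =
      q.map (algebraMap B (EGA4.FibLocRing A B q)) := by
    rw [← Localization.AtPrime.map_eq_maximalIdeal, Ideal.map_map,
      ← IsScalarTower.algebraMap_eq]
  rw [hq]

/-- Flatness of `M_q` over `A` and over `A_p` are the same. -/
theorem flat_localization_iff (M : Type u) [AddCommGroup M] [Module B M] [Module A M]
    [IsScalarTower A B M] :
    Module.Flat (Localization.AtPrime (q.comap (algebraMap A B))) (LocalizedModule q.primeCompl M) ↔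
      Module.Flat A (LocalizedModule q.primeCompl M) := by
  have := isScalarTower_modLoc' (A := A) q M
  exact Module.flat_iff_of_isLocalization (Localization.AtPrime (q.comap (algebraMap A B)))
    (q.comap (algebraMap A B)).primeCompl _

variable
    {F E0 E1 G : Type u} [AddCommGroup F] [Module B F] [Module A F] [IsScalarTower A B F] [Module.Finite B F]
    [AddCommGroup E0] [Module B E0] [Module A E0] [IsScalarTower A B E0] [Module.Finite B E0] [Module.Flat A E0]
    [AddCommGroup E1] [Module B E1] [Module A E1] [IsScalarTower A B E1] [Module.Finite B E1] [Module.Flat A E1]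
    [AddCommGroup G] [Module B G] [Module A G] [IsScalarTower A B G] [Module.Finite B G]

/-- The fibre-local criterion at a prime `q`: if `G` is `A`-flat at all strict generizations of
`q`, then `G` is `A`-flat at `q` iff the fibre stalk of `F` at `q` has depth `≥ 2`. -/
theorem flatAt_iff_two_le_fibre_depth
    (f : F →ₗ[B] E0) (u : E0 →ₗ[B] E1) (v : E1 →ₗ[B] G)
    (hf : Function.Injective f) (hfu : Function.Exact f u) (huv : Function.Exact u v)
    (hv : Function.Surjective v)
    (hgen : ∀ (q' : Ideal B) [q'.IsPrime], q' < q → FlatCA.FlatAt A q' G)
    (h0 : 2 ≤ LocCoh.idealDepth (q.map (algebraMap B (EGA4.FibLocRing A B q)))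
      (EGA4.FibLocMod A B q E0))
    (h1 : 1 ≤ LocCoh.idealDepth (q.map (algebraMap B (EGA4.FibLocRing A B q)))
      (EGA4.FibLocMod A B q E1)) :
    (FlatCA.FlatAt A q G ↔
      2 ≤ LocCoh.idealDepth (q.map (algebraMap B (EGA4.FibLocRing A B q)))
        (EGA4.FibLocMod A B q F)) ∧
    (FlatCA.FlatAt A q G → FlatCA.FlatAt A q F) := by
  have hloc := isLocalHom_algLoc (A := A) q
  have tF := isScalarTower_modLoc (A := A) q F
  have tE0 := isScalarTower_modLoc (A := A) q E0
  have tE1 := isScalarTower_modLoc (A := A) q E1
  have tG := isScalarTower_modLoc (A := A) q G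
  have hE0flat : Module.Flat (Localization.AtPrime (q.comap (algebraMap A B)))
      (LocalizedModule q.primeCompl E0) :=
    (flat_localization_iff q E0).mpr (flat_localizedModule_of_flat q.primeCompl)
  have hE1flat : Module.Flat (Localization.AtPrime (q.comap (algebraMap A B)))
      (LocalizedModule q.primeCompl E1) :=
    (flat_localization_iff q E1).mpr (flat_localizedModule_of_flat q.primeCompl)
  have hGU' : ∀ Q : PrimeSpectrum (Localization.AtPrime q),
      ¬ IsLocalRing.maximalIdeal (Localization.AtPrime q) ≤ Q.asIdeal →
      FlatCA.FlatAt (Localization.AtPrime (q.comap (algebraMap A B))) Q.asIdeal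
        (LocalizedModule q.primeCompl G) := by
    intro Q hQ
    have hQle : Q.asIdeal ≤ IsLocalRing.maximalIdeal (Localization.AtPrime q) :=
      IsLocalRing.le_maximalIdeal Q.2.ne_top
    have hq'le : Q.asIdeal.comap (algebraMap B (Localization.AtPrime q)) ≤ q := by
      have hc := IsLocalization.AtPrime.comap_maximalIdeal (Localization.AtPrime q) q
      exact (Ideal.comap_mono hQle).trans hc.le
    have hq'ne : Q.asIdeal.comap (algebraMap B (Localization.AtPrime q)) ≠ q := by
      intro h
      apply hQ
      have hm : (Q.asIdeal.comap (algebraMap B (Localization.AtPrime q))).map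
          (algebraMap B (Localization.AtPrime q)) = Q.asIdeal :=
        IsLocalization.map_comap q.primeCompl (Localization.AtPrime q) Q.asIdeal
      rw [h, IsLocalization.AtPrime.map_eq_maximalIdeal] at hm
      exact hm.le
    have hflat : Module.Flat A (LocalizedModule
        (Q.asIdeal.comap (algebraMap B (Localization.AtPrime q))).primeCompl G) :=
      hgen _ (lt_of_le_of_ne hq'le hq'ne)
    have h2 := flat_localizedModule_localizedModule q Q.asIdeal G hflat
    have tG' := isScalarTower_modLoc' (A := A) q G
    have tower : IsScalarTower A (Localization.AtPrime (q.comap (algebraMap A B)))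
        (LocalizedModule Q.asIdeal.primeCompl (LocalizedModule q.primeCompl G)) :=
      IsScalarTower.of_algebraMap_smul fun r x => by
        induction x using LocalizedModule.induction_on with
        | h m s =>
          rw [LocalizedModule.smul'_mk, LocalizedModule.smul'_mk, algebraMap_smul]
    unfold FlatCA.FlatAt
    exact (Module.flat_iff_of_isLocalization (Localization.AtPrime (q.comap (algebraMap A B)))
      (q.comap (algebraMap A B)).primeCompl _).mpr h2
  have h0' : 2 ≤ LocCoh.idealDepth (IsLocalRing.maximalIdeal (Localization.AtPrime q))
      (EGA4.FibMod (Localization.AtPrime (q.comap (algebraMap A B))) (Localization.AtPrime q)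
        (LocalizedModule q.primeCompl E0)) := by
    rw [idealDepth_fibMod_eq]; exact h0
  have h1' : 1 ≤ LocCoh.idealDepth (IsLocalRing.maximalIdeal (Localization.AtPrime q))
      (EGA4.FibMod (Localization.AtPrime (q.comap (algebraMap A B))) (Localization.AtPrime q)
        (LocalizedModule q.primeCompl E1)) := by
    rw [idealDepth_fibMod_eq]; exact h1
  have key := Groth.Agent.S18708.result (Localization.AtPrime (q.comap (algebraMap A B)))
    (Localization.AtPrime q) (IsLocalRing.maximalIdeal (Localization.AtPrime q))
    (LocalizedModule q.primeCompl F) (LocalizedModule q.primeCompl E0)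
    (LocalizedModule q.primeCompl E1) (LocalizedModule q.primeCompl G)
    (LocalizedModule.map q.primeCompl f) (LocalizedModule.map q.primeCompl u)
    (LocalizedModule.map q.primeCompl v)
    (LocalizedModule.map_injective q.primeCompl f hf)
    (LocalizedModule.map_exact q.primeCompl f u hfu)
    (LocalizedModule.map_exact q.primeCompl u v huv)
    (LocalizedModule.map_surjective q.primeCompl v hv) hGU' h0' h1'
  rw [idealDepth_fibMod_eq, flat_localization_iff] at key
  refine ⟨key.1.symm, fun hG => ?_⟩
  have := key.2.2 hG
  rwa [flat_localization_iff] at this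

end Criterion

end Groth.Agent.Lib.Seat92.FibLocal
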