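import Mathlib.Algebra.Module.LocalizedModule.Exact
import Mathlib.Algebra.Module.FinitePresentation
import Mathlib.RingTheory.TensorProduct.IsBaseChangePi
import Mathlib.RingTheory.LocalRing.Module
import Mathlib.LinearAlgebra.Matrix.ToLin
import Mathlib.LinearAlgebra.Dual.Lemmas
import Mathlib.Algebra.Module.Projective
import Mathlib.RingTheory.Localization.AtPrime.Basic
import Mathlib.RingTheory.Localization.Finiteness
import Mathlib.RingTheory.Noetherian.Basic

/-!
# Four-term free presentations of reflexive modules (helper92)

General lemmas: generalized inverses of linear maps, their transposes, localization of matrix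
maps, and the construction `0 → F → Bⁿ → Bᵐ → G → 0` for a finite reflexive module `F` over a
Noetherian ring, with `G` free at all primes where `F` is free.
-/

set_option autoImplicit false
universe u v

namespace Groth.Agent.Lib.Seat92.FourTerm

section GenInv

variable {S : Type*} [CommRing S]
  {N M P : Type*} [AddCommGroup N] [Module S N] [AddCommGroup M] [Module S M]
  [AddCommGroup P] [Module S P]

/-- If `u : N → M` has a generalized inverse `τ` (`u τ u = u`), `M` is projective and
`N --u--> M --p--> P → 0` is exact, then `P` is projective. -/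
theorem projective_of_exact_of_genInv [Module.Projective S M]
    (u : N →ₗ[S] M) (p : M →ₗ[S] P) (hp : Function.Surjective p) (hex : Function.Exact u p)
    (τ : M →ₗ[S] N) (hτ : u ∘ₗ τ ∘ₗ u = u) : Module.Projective S P := by
  have hτ' : ∀ y, u (τ (u y)) = u y := fun y => LinearMap.congr_fun hτ y
  let c : M →ₗ[S] M := LinearMap.id - u ∘ₗ τ
  have hc : LinearMap.ker p ≤ LinearMap.ker c := by
    intro x hx
    obtain ⟨y, rfl⟩ := (hex x).mp hx
    simp [c, hτ']
  let i : P →ₗ[S] M :=
    (LinearMap.ker p).liftQ c hc ∘ₗ (p.quotKerEquivOfSurjective hp).symm.toLinearMap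
  refine Module.Projective.of_split i p ?_
  ext z
  obtain ⟨x, rfl⟩ := hp z
  have h1 : (p.quotKerEquivOfSurjective hp).symm (p x) = Submodule.Quotient.mk x := by
    rw [LinearEquiv.symm_apply_eq]; rfl
  have h2 : p (u (τ x)) = 0 := hex.apply_apply_eq_zero _
  simp [i, h1, c, h2]

/-- If `N --ρ--> M --π--> D → 0` is exact with `M` and `D` projective, then `ρ` has a
generalized inverse. -/
theorem exists_genInv {D : Type*} [AddCommGroup D] [Module S D]
    [Module.Projective S M] [Module.Projective S D]
    (ρ : N →ₗ[S] M) (π : M →ₗ[S] D) (hπ : Function.Surjective π) (hex : Function.Exact ρ π) :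
    ∃ σ : M →ₗ[S] N, ρ ∘ₗ σ ∘ₗ ρ = ρ := by
  obtain ⟨s1, hs1⟩ := Module.projective_lifting_property π LinearMap.id hπ
  have hs1' : ∀ d, π (s1 d) = d := fun d => LinearMap.congr_fun hs1 d
  let c : M →ₗ[S] M := LinearMap.id - s1 ∘ₗ π
  have hc : ∀ x, c x ∈ LinearMap.range ρ := by
    intro x
    have : π (c x) = 0 := by simp [c, hs1']
    obtain ⟨y, hy⟩ := (hex (c x)).mp this
    exact ⟨y, hy⟩
  let c' : M →ₗ[S] LinearMap.range ρ := c.codRestrict _ hc
  obtain ⟨σ, hσ⟩ := Module.projective_lifting_property ρ.rangeRestrict c'
    ρ.surjective_rangeRestrict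
  refine ⟨σ, ?_⟩
  apply LinearMap.ext
  intro x
  have h1 : ρ (σ (ρ x)) = c (ρ x) := by
    have := congrArg Subtype.val (LinearMap.congr_fun hσ (ρ x))
    simpa [c'] using this
  have h2 : π (ρ x) = 0 := hex.apply_apply_eq_zero _
  simp [h1, c, h2]

end GenInv

section Transpose

variable {S : Type*} [CommRing S] {m n : ℕ}

/-- A generalized inverse of a matrix map gives one for the transposed matrix map. -/
theorem exists_transpose_genInv (R : Matrix (Fin n) (Fin m) S)
    (σ : (Fin n → S) →ₗ[S] (Fin m → S))
    (h : R.mulVecLin ∘ₗ σ ∘ₗ R.mulVecLin = R.mulVecLin) :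
    ∃ τ : (Fin m → S) →ₗ[S] (Fin n → S),
      R.transpose.mulVecLin ∘ₗ τ ∘ₗ R.transpose.mulVecLin = R.transpose.mulVecLin := by
  refine ⟨(LinearMap.toMatrix' σ).transpose.mulVecLin, ?_⟩
  have h1 : R * LinearMap.toMatrix' σ * R = R := by
    have := congrArg LinearMap.toMatrix' h
    rw [← Matrix.toLin'_apply', LinearMap.toMatrix'_comp, LinearMap.toMatrix'_comp,
      LinearMap.toMatrix'_toLin', ← Matrix.mul_assoc] at this
    exact this
  rw [← Matrix.mulVecLin_mul, ← Matrix.mulVecLin_mul, ← Matrix.transpose_mul,
    ← Matrix.transpose_mul, h1]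

end Transpose

section LocMatrix

variable {B : Type u} [CommRing B] (q : Ideal B) [q.IsPrime]

/-- The coordinatewise localization map `Bᵏ → (B_q)ᵏ`. -/
noncomputable def locPi (k : ℕ) : (Fin k → B) →ₗ[B] (Fin k → Localization.AtPrime q) :=
  LinearMap.pi fun i => (Algebra.linearMap B (Localization.AtPrime q)) ∘ₗ LinearMap.proj i

instance (k : ℕ) : IsLocalizedModule q.primeCompl (locPi q k) := by
  unfold locPi
  infer_instance

theorem locPi_apply (k : ℕ) (x : Fin k → B) (i : Fin k) :
    locPi q k x i = algebraMap B (Localization.AtPrime q) (x i) := rfl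

/-- The localization of a matrix map is the map of the matrix with localized entries. -/
theorem map_mulVecLin {r c : ℕ} (T : Matrix (Fin r) (Fin c) B) (y : Fin c → Localization.AtPrime q) :
    IsLocalizedModule.map q.primeCompl (locPi q c) (locPi q r) T.mulVecLin y =
      (T.map (algebraMap B (Localization.AtPrime q))).mulVecLin y := by
  have : IsLocalizedModule.map q.primeCompl (locPi q c) (locPi q r) T.mulVecLin =
      ((T.map (algebraMap B (Localization.AtPrime q))).mulVecLin).restrictScalars B := by
    apply IsLocalizedModule.linearMap_ext q.primeCompl (locPi q c) (locPi q r)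
    apply LinearMap.ext
    intro x
    funext i
    simp only [LinearMap.coe_comp, Function.comp_apply, IsLocalizedModule.map_apply,
      LinearMap.coe_restrictScalars, locPi_apply, Matrix.mulVecLin_apply]
    rw [RingHom.map_mulVec]
    rfl
  rw [this]
  rfl

end LocMatrix

section DualLoc

variable {A : Type u} [CommRing A] (p : Ideal A) [p.IsPrime]
  (G : Type v) [AddCommGroup G] [Module A G]

/-- The localization map on duals. -/
noncomputable def dualLoc :
    Module.Dual A G →ₗ[A]
      Module.Dual (Localization.AtPrime p) (LocalizedModule p.primeCompl G) :=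
  IsLocalizedModule.mapExtendScalars p.primeCompl (LocalizedModule.mkLinearMap p.primeCompl G)
    (Algebra.linearMap A (Localization.AtPrime p)) (Localization.AtPrime p)

instance [IsNoetherianRing A] [Module.Finite A G] :
    IsLocalizedModule p.primeCompl (dualLoc p G) := by
  have : Module.FinitePresentation A G := Module.finitePresentation_of_finite A G
  unfold dualLoc
  infer_instance

end DualLoc

section Main

variable {B : Type u} [CommRing B] [IsNoetherianRing B]
  (F : Type u) [AddCommGroup F] [Module B F] [Module.Finite B F] [Module.IsReflexive B F]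

/-- A finite reflexive module over a Noetherian ring sits in an exact sequence
`0 → F → Bⁿ → Bᵐ → G → 0` with `G` free at every prime where `F` is free. -/
theorem exists_fourTerm :
    ∃ (n m : ℕ) (g : F →ₗ[B] (Fin n → B)) (h : (Fin n → B) →ₗ[B] (Fin m → B)),
      Function.Injective g ∧ Function.Exact g h ∧
      ∀ q : PrimeSpectrum B,
        Module.Free (Localization.AtPrime q.asIdeal) (LocalizedModule q.asIdeal.primeCompl F) →
        Module.Free (Localization.AtPrime q.asIdeal)
          (LocalizedModule q.asIdeal.primeCompl ((Fin m → B) ⧸ LinearMap.range h)) := by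
  classical
  obtain ⟨n, φ, hφ⟩ := Module.Finite.exists_fin (R := B) (M := Module.Dual B F)
  set π : (Fin n → B) →ₗ[B] Module.Dual B F := Fintype.linearCombination B φ with hπdef
  have hπ : Function.Surjective π := by
    rw [← LinearMap.range_eq_top, hπdef, Fintype.range_linearCombination, hφ]
  have hπapp : ∀ (a : Fin n → B) (x : F), π a x = ∑ i, a i * φ i x := by
    intro a x
    simp [hπdef, Fintype.linearCombination_apply, LinearMap.sum_apply]
  have hKfg : (LinearMap.ker π).FG := IsNoetherian.noetherian _
  obtain ⟨m, k, hk⟩ := Submodule.fg_iff_exists_fin_generating_family.mp hKfg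
  have hkmem : ∀ j, k j ∈ LinearMap.ker π := fun j => by
    rw [← hk]; exact Submodule.subset_span ⟨j, rfl⟩
  let R : Matrix (Fin n) (Fin m) B := Matrix.of fun i j => k j i
  have hrange : LinearMap.range R.mulVecLin = LinearMap.ker π := by
    rw [Matrix.range_mulVecLin, ← hk]
    congr 1
  have hexB : Function.Exact R.mulVecLin π := by
    intro y
    rw [← LinearMap.mem_ker, ← hrange]
    rfl
  have hhapp : ∀ (y : Fin n → B) (j : Fin m), R.transpose.mulVecLin y j = ∑ i, k j i * y i := by
    intro y j
    rw [Matrix.mulVecLin_apply]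
    simp only [Matrix.mulVec, dotProduct, Matrix.transpose_apply, R, Matrix.of_apply]
  refine ⟨n, m, LinearMap.pi φ, R.transpose.mulVecLin, ?_, ?_, ?_⟩
  · -- injectivity
    rw [← LinearMap.ker_eq_bot, LinearMap.ker_eq_bot']
    intro x hx
    have hx' : ∀ i, φ i x = 0 := fun i => congrFun hx i
    have hall : ∀ ψ : Module.Dual B F, ψ x = 0 := by
      intro ψ
      have hle : Submodule.span B (Set.range φ) ≤ LinearMap.ker (Module.Dual.eval B F x) := by
        rw [Submodule.span_le]
        rintro _ ⟨i, rfl⟩
        exact hx' i
      have : ψ ∈ Submodule.span B (Set.range φ) := by rw [hφ]; trivial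
      exact hle this
    apply (Module.bijective_dual_eval B F).1
    apply LinearMap.ext
    intro ψ
    simpa using hall ψ
  · -- exactness
    intro y
    constructor
    · intro hy
      let ψ0 : (Fin n → B) →ₗ[B] B := Fintype.linearCombination B y
      have hψ0 : ∀ a, ψ0 a = ∑ i, a i * y i := by
        intro a; simp [ψ0, Fintype.linearCombination_apply]
      have hle : LinearMap.ker π ≤ LinearMap.ker ψ0 := by
        rw [← hk, Submodule.span_le]
        rintro _ ⟨j, rfl⟩
        show ψ0 (k j) = 0
        rw [hψ0, ← hhapp, hy]
        rfl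
      let ψ : Module.Dual B F →ₗ[B] B :=
        (LinearMap.ker π).liftQ ψ0 hle ∘ₗ (π.quotKerEquivOfSurjective hπ).symm.toLinearMap
      have hψ : ∀ a, ψ (π a) = ψ0 a := by
        intro a
        have h1 : (π.quotKerEquivOfSurjective hπ).symm (π a) = Submodule.Quotient.mk a := by
          rw [LinearEquiv.symm_apply_eq]; rfl
        simp [ψ, h1]
      obtain ⟨x, hx⟩ := (Module.bijective_dual_eval B F).2 ψ
      refine ⟨x, ?_⟩
      funext i
      have h2 : π (Pi.single i 1) = φ i := by
        apply LinearMap.ext; intro z
        rw [hπapp]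
        simp [Pi.single_apply]
      have h3 : ψ0 (Pi.single i 1) = y i := by
        rw [hψ0]; simp [Pi.single_apply]
      calc (LinearMap.pi φ x) i = φ i x := rfl
        _ = Module.Dual.eval B F x (φ i) := rfl
        _ = ψ (φ i) := by rw [hx]
        _ = ψ (π (Pi.single i 1)) := by rw [h2]
        _ = y i := by rw [hψ, h3]
    · rintro ⟨x, rfl⟩
      funext j
      rw [hhapp]
      have := LinearMap.congr_fun (LinearMap.mem_ker.mp (hkmem j)) x
      rw [hπapp] at this
      simpa using this
  · intro q hq
    have := hq
    let a : B →+* Localization.AtPrime q.asIdeal := algebraMap B (Localization.AtPrime q.asIdeal)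
    -- the localized presentation of the dual
    let πS : (Fin n → Localization.AtPrime q.asIdeal) →ₗ[Localization.AtPrime q.asIdeal]
        Module.Dual (Localization.AtPrime q.asIdeal) (LocalizedModule q.asIdeal.primeCompl F) :=
      IsLocalizedModule.mapExtendScalars q.asIdeal.primeCompl (locPi q.asIdeal n)
        (dualLoc q.asIdeal F) (Localization.AtPrime q.asIdeal) π
    have hπS : Function.Surjective πS := by
      intro d
      obtain ⟨y, hy⟩ := IsLocalizedModule.map_surjective q.asIdeal.primeCompl
        (locPi q.asIdeal n) (dualLoc q.asIdeal F) π hπ d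
      exact ⟨y, by rw [← hy]; rfl⟩
    let ρS : (Fin m → Localization.AtPrime q.asIdeal) →ₗ[Localization.AtPrime q.asIdeal]
        (Fin n → Localization.AtPrime q.asIdeal) := (R.map a).mulVecLin
    have hexS : Function.Exact ρS πS := by
      have hex := IsLocalizedModule.map_exact q.asIdeal.primeCompl (locPi q.asIdeal m)
        (locPi q.asIdeal n) (dualLoc q.asIdeal F) R.mulVecLin π hexB
      intro y
      have h1 := hex y
      have h2 : πS y = IsLocalizedModule.map q.asIdeal.primeCompl (locPi q.asIdeal n)
        (dualLoc q.asIdeal F) π y := rfl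
      rw [h2, h1]
      constructor
      · rintro ⟨z, hz⟩
        exact ⟨z, by rw [← hz, map_mulVecLin]⟩
      · rintro ⟨z, hz⟩
        exact ⟨z, by rw [← hz, map_mulVecLin]⟩
    obtain ⟨σ, hσ⟩ := exists_genInv ρS πS hπS hexS
    obtain ⟨τ, hτ⟩ := exists_transpose_genInv (R.map a) σ hσ
    -- the localized cokernel presentation
    let pS : (Fin m → Localization.AtPrime q.asIdeal) →ₗ[Localization.AtPrime q.asIdeal]
        LocalizedModule q.asIdeal.primeCompl ((Fin m → B) ⧸ LinearMap.range R.transpose.mulVecLin) :=
      IsLocalizedModule.mapExtendScalars q.asIdeal.primeCompl (locPi q.asIdeal m)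
        (LocalizedModule.mkLinearMap q.asIdeal.primeCompl
          ((Fin m → B) ⧸ LinearMap.range R.transpose.mulVecLin))
        (Localization.AtPrime q.asIdeal) (LinearMap.range R.transpose.mulVecLin).mkQ
    have hpS : Function.Surjective pS := by
      intro d
      obtain ⟨y, hy⟩ := IsLocalizedModule.map_surjective q.asIdeal.primeCompl
        (locPi q.asIdeal m) (LocalizedModule.mkLinearMap q.asIdeal.primeCompl
          ((Fin m → B) ⧸ LinearMap.range R.transpose.mulVecLin))
        (LinearMap.range R.transpose.mulVecLin).mkQ (Submodule.mkQ_surjective _) d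
      exact ⟨y, by rw [← hy]; rfl⟩
    have hexG : Function.Exact (R.map a).transpose.mulVecLin pS := by
      have hexq : Function.Exact R.transpose.mulVecLin
          (LinearMap.range R.transpose.mulVecLin).mkQ := by
        intro y
        rw [Submodule.mkQ_apply, Submodule.Quotient.mk_eq_zero]
        rfl
      have hex := IsLocalizedModule.map_exact q.asIdeal.primeCompl (locPi q.asIdeal n)
        (locPi q.asIdeal m) (LocalizedModule.mkLinearMap q.asIdeal.primeCompl
          ((Fin m → B) ⧸ LinearMap.range R.transpose.mulVecLin)) R.transpose.mulVecLin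
        (LinearMap.range R.transpose.mulVecLin).mkQ hexq
      intro y
      have h1 := hex y
      have h2 : pS y = IsLocalizedModule.map q.asIdeal.primeCompl (locPi q.asIdeal m)
        (LocalizedModule.mkLinearMap q.asIdeal.primeCompl
          ((Fin m → B) ⧸ LinearMap.range R.transpose.mulVecLin))
        (LinearMap.range R.transpose.mulVecLin).mkQ y := rfl
      rw [h2, h1, ← Matrix.transpose_map]
      constructor
      · rintro ⟨z, hz⟩
        exact ⟨z, by rw [← hz, map_mulVecLin]⟩
      · rintro ⟨z, hz⟩
        exact ⟨z, by rw [← hz, map_mulVecLin]⟩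
    have hproj : Module.Projective (Localization.AtPrime q.asIdeal)
        (LocalizedModule q.asIdeal.primeCompl
          ((Fin m → B) ⧸ LinearMap.range R.transpose.mulVecLin)) :=
      projective_of_exact_of_genInv (R.map a).transpose.mulVecLin pS hpS hexG τ hτ
    exact Module.free_of_flat_of_isLocalRing

end Main

end Groth.Agent.Lib.Seat92.FourTerm
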