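import Mathlib
import Groth.Agent.Lib.Helper26ModLim

/-!
# A closed subscheme of a cofiltered limit is the limit of its scheme-theoretic images

Let `Y = lim Y_j` be a cofiltered limit of schemes with affine transition maps and `i : X ⟶ Y`
a closed immersion.  Let `X_j ⊆ Y_j` be the scheme-theoretic image of `X ⟶ Y ⟶ Y_j`.  Then the `X_j`
form a diagram with affine transition maps, closed immersions `X_j ⟶ Y_j`, and `X = lim X_j`.
-/

set_option autoImplicit false
set_option linter.style.haveILetI false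
set_option linter.unusedSectionVars false
universe u
open CategoryTheory CategoryTheory.Limits AlgebraicGeometry TopologicalSpace

namespace Groth.Agent.Lib.Seat92.ImageLimit

/-- A section of the structure sheaf vanishing locally vanishes. -/
lemma eq_zero_of_locally {T : Scheme.{u}} (N : T.Opens) (f : Γ(T, N))
    (h : ∀ t : T, t ∈ N → ∃ (N' : T.Opens) (hle : N' ≤ N), t ∈ N' ∧
      (T.presheaf.map (homOfLE hle).op).hom f = 0) : f = 0 := by
  choose! N' hle hmem hz using h
  refine TopCat.Sheaf.eq_of_locally_eq' T.sheaf (fun t : N => N' t.1) N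
    (fun t => homOfLE (hle t.1 t.2)) ?_ f 0 ?_
  · intro t ht
    exact Opens.mem_iSup.mpr ⟨⟨t, ht⟩, hmem t ht⟩
  · intro t
    rw [map_zero]
    exact hz t.1 t.2

lemma app_res {X Y : Scheme.{u}} (f : X ⟶ Y) {U W : Y.Opens} (hWU : W ≤ U) (x : Γ(Y, U)) :
    (f.app W).hom ((Y.presheaf.map (homOfLE hWU).op).hom x) =
      (X.presheaf.map (homOfLE (f.preimage_mono hWU)).op).hom ((f.app U).hom x) := by
  have := congr($(f.naturality (homOfLE hWU).op) x)
  exact this

section

variable {J : Type u} [SmallCategory J] [IsCofiltered J] (D : J ⥤ Scheme.{u}) (c : Cone D)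
  (hc : IsLimit c) [∀ {i j : J} (f : i ⟶ j), IsAffineHom (D.map f)]

include hc in
/-- Kernels of morphisms into a cofiltered limit can be compared stagewise. -/
theorem ker_le_ker_of_forall {X T : Scheme.{u}} (i : X ⟶ c.pt) [QuasiCompact i] (h : T ⟶ c.pt)
    (H : ∀ j, (i ≫ c.π.app j).ker ≤ (h ≫ c.π.app j).ker) : i.ker ≤ h.ker := by
  have inst : ∀ (i j : J) (f : i ⟶ j), IsAffineHom (D.map f) := fun _ _ f => inferInstance
  refine Scheme.IdealSheafData.le_ofIdeals_iff.mpr fun U x hx => ?_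
  have hx0 : (i.app U.1).hom x = 0 := i.ideal_ker_le U hx
  rw [RingHom.mem_ker]
  refine eq_zero_of_locally (h ⁻¹ᵁ U.1) _ fun t ht => ?_
  obtain ⟨_, ⟨_, ⟨j, V, hV, rfl⟩, rfl⟩, hyW, hWU⟩ :=
    (isBasis_preimage_isAffineOpen D c hc).exists_subset_of_mem_open
      (show h t ∈ (U.1 : Set c.pt) from ht) U.1.isOpen
  set W := c.π.app j ⁻¹ᵁ V with hW
  have hWU' : W ≤ U.1 := hWU
  obtain ⟨k, a, s', hs'⟩ := Groth.Agent.Lib.Helper26.ModLim.exists_appLE_eq D c hc j V hV
    ((c.pt.presheaf.map (homOfLE hWU').op).hom x)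
  have hV' : IsAffineOpen (D.map a ⁻¹ᵁ V) := hV.preimage _
  have hWk : c.π.app k ⁻¹ᵁ (D.map a ⁻¹ᵁ V) = W := by
    rw [← Scheme.Hom.comp_preimage, c.w]
  haveI : IsAffineHom (c.π.app k) := isAffineHom_π_app D c hc k
  haveI : QuasiCompact (i ≫ c.π.app k) := inferInstance
  -- `s'` lies in the kernel of `X ⟶ Y_k`
  have h1 : ((i ≫ c.π.app k).app (D.map a ⁻¹ᵁ V)).hom s' = 0 := by
    refine Groth.Agent.Lib.Helper26.ModLim.app_eq_zero_of_appLE (i ≫ c.π.app k) (D.map a ⁻¹ᵁ V)
      (i ⁻¹ᵁ W) (by rw [Scheme.Hom.comp_preimage, hWk]) (by rw [Scheme.Hom.comp_preimage, hWk])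
      s' ?_
    have e : (i ≫ c.π.app k).appLE (D.map a ⁻¹ᵁ V) (i ⁻¹ᵁ W)
          (by rw [Scheme.Hom.comp_preimage, hWk]) =
        (c.π.app k).appLE (D.map a ⁻¹ᵁ V) W hWk.ge ≫ i.appLE W (i ⁻¹ᵁ W) le_rfl := by
      rw [Scheme.Hom.appLE_comp_appLE]
    rw [e, CommRingCat.hom_comp, RingHom.comp_apply, ← hs', ← Scheme.Hom.app_eq_appLE,
      app_res i hWU', hx0, map_zero]
  have h2 : s' ∈ (i ≫ c.π.app k).ker.ideal ⟨_, hV'⟩ := by
    rw [Scheme.Hom.ker_apply]; exact h1
  have h3 : ((h ≫ c.π.app k).app (D.map a ⁻¹ᵁ V)).hom s' = 0 :=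
    (h ≫ c.π.app k).ideal_ker_le ⟨_, hV'⟩ (H k _ h2)
  refine ⟨h ⁻¹ᵁ W, h.preimage_mono hWU', hyW, ?_⟩
  -- restrict
  rw [← app_res h hWU', hs', Scheme.Hom.app_eq_appLE, ← RingHom.comp_apply, ← CommRingCat.hom_comp,
    Scheme.Hom.appLE_comp_appLE]
  have e2 : (h ≫ c.π.app k).appLE (D.map a ⁻¹ᵁ V) (h ⁻¹ᵁ W)
      (by rw [Scheme.Hom.comp_preimage, hWk]) =
      (h ≫ c.π.app k).app (D.map a ⁻¹ᵁ V) ≫
        T.presheaf.map (homOfLE (by rw [Scheme.Hom.comp_preimage, hWk] :
          h ⁻¹ᵁ W ≤ (h ≫ c.π.app k) ⁻¹ᵁ (D.map a ⁻¹ᵁ V))).op := by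
    rw [Scheme.Hom.app_eq_appLE, Scheme.Hom.appLE_map]
  rw [e2, CommRingCat.hom_comp, RingHom.comp_apply, h3, map_zero]

variable {X : Scheme.{u}} (i : X ⟶ c.pt)

/-- `X ⟶ Y ⟶ Y_j`. -/
abbrev pr (j : J) : X ⟶ D.obj j := i ≫ c.π.app j

lemma pr_map {j k : J} (a : j ⟶ k) : pr D c i j ≫ D.map a = pr D c i k := by
  rw [pr, Category.assoc, c.w]

lemma ker_pr_le {j k : J} (a : j ⟶ k) : (pr D c i k).ker ≤ (pr D c i j).ker.map (D.map a) := by
  rw [← Scheme.Hom.ker_comp, pr_map]

/-- The transition maps between scheme-theoretic images. -/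
noncomputable def imgMap {j k : J} (a : j ⟶ k) : (pr D c i j).image ⟶ (pr D c i k).image :=
  Scheme.IdealSheafData.subschemeMap _ _ (D.map a) (ker_pr_le D c i a)

lemma imgMap_ι {j k : J} (a : j ⟶ k) :
    imgMap D c i a ≫ (pr D c i k).imageι = (pr D c i j).imageι ≫ D.map a :=
  Scheme.IdealSheafData.subschemeMap_subschemeι _ _ _ _

lemma toImage_imgMap {j k : J} (a : j ⟶ k) :
    (pr D c i j).toImage ≫ imgMap D c i a = (pr D c i k).toImage := by
  rw [← cancel_mono (pr D c i k).imageι, Category.assoc, imgMap_ι, Scheme.Hom.toImage_imageι,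
    Scheme.Hom.toImage_imageι_assoc, pr_map]

/-- The diagram of scheme-theoretic images. -/
@[reducible] noncomputable def imgD : J ⥤ Scheme.{u} where
  obj j := (pr D c i j).image
  map {j k} a := imgMap D c i a
  map_id j := by
    rw [← cancel_mono (pr D c i j).imageι, imgMap_ι]
    simp
  map_comp {j k l} a b := by
    rw [← cancel_mono (pr D c i l).imageι, imgMap_ι, Category.assoc, imgMap_ι,
      ← Category.assoc, imgMap_ι, Category.assoc, D.map_comp]

/-- The closed immersions `X_j ⟶ Y_j`. -/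
@[reducible] noncomputable def imgι : imgD D c i ⟶ D where
  app j := (pr D c i j).imageι
  naturality {j k} a := imgMap_ι D c i a

lemma imgι_app (j : J) : (imgι D c i).app j = (pr D c i j).imageι := rfl

instance (j : J) : IsClosedImmersion ((imgι D c i).app j) := by
  rw [imgι_app]
  exact (inferInstance : IsClosedImmersion (pr D c i j).ker.subschemeι)

/-- The cone `X ⟶ X_j`. -/
@[reducible] noncomputable def imgCone : Cone (imgD D c i) where
  pt := X
  π :=
  { app j := (pr D c i j).toImage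
    naturality {j k} a := by
      show 𝟙 X ≫ (pr D c i k).toImage = (pr D c i j).toImage ≫ imgMap D c i a
      rw [Category.id_comp, toImage_imgMap] }

lemma imgCone_π_app (j : J) : (imgCone D c i).π.app j = (pr D c i j).toImage := rfl

lemma imgCone_π_imgι (j : J) : (imgCone D c i).π.app j ≫ (imgι D c i).app j = i ≫ c.π.app j := by
  rw [imgCone_π_app, imgι_app]; exact (pr D c i j).toImage_imageι

instance imgD_affine {j k : J} (a : j ⟶ k) : IsAffineHom ((imgD D c i).map a) := by
  haveI : IsAffineHom ((imgD D c i).map a ≫ (imgι D c i).app k) := by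
    rw [(imgι D c i).naturality]; infer_instance
  exact MorphismProperty.of_postcomp (W := @IsAffineHom) (W' := @IsSeparated) _
    ((imgι D c i).app k) inferInstance ‹_›

section limit

/-- The cone over `D` induced by a cone over the images. -/
noncomputable def coneD (s : Cone (imgD D c i)) : Cone D :=
  (Cones.postcompose (imgι D c i)).obj s

include hc in
lemma ker_le_ker_lift [IsClosedImmersion i] (s : Cone (imgD D c i)) : i.ker ≤ (hc.lift (coneD D c i s)).ker := by
  refine ker_le_ker_of_forall D c hc i _ fun j => ?_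
  have h1 : hc.lift (coneD D c i s) ≫ c.π.app j = s.π.app j ≫ (imgι D c i).app j :=
    hc.fac (coneD D c i s) j
  rw [h1, imgι_app]
  have h2 : (pr D c i j).imageι.ker = (i ≫ c.π.app j).ker :=
    Scheme.IdealSheafData.ker_subschemeι _
  rw [← h2]
  exact Scheme.Hom.le_ker_comp _ _

/-- The lift into `X`. -/
noncomputable def imgLift [IsClosedImmersion i] (s : Cone (imgD D c i)) : s.pt ⟶ X :=
  IsClosedImmersion.lift i (hc.lift (coneD D c i s)) (ker_le_ker_lift D c hc i s)

lemma imgLift_i [IsClosedImmersion i] (s : Cone (imgD D c i)) :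
    imgLift D c hc i s ≫ i = hc.lift (coneD D c i s) :=
  IsClosedImmersion.lift_fac _ _ _

/-- `X` is the limit of its scheme-theoretic images. -/
noncomputable def imgIsLimit [IsClosedImmersion i] : IsLimit (imgCone D c i) where
  lift s := imgLift D c hc i s
  fac s j := by
    rw [← cancel_mono ((imgι D c i).app j), Category.assoc, imgCone_π_imgι,
      reassoc_of% (imgLift_i D c hc i s)]
    exact hc.fac (coneD D c i s) j
  uniq s m hm := by
    rw [← cancel_mono i, imgLift_i]
    refine hc.hom_ext fun j => ?_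
    refine Eq.trans ?_ (hc.fac (coneD D c i s) j).symm
    show (m ≫ i) ≫ c.π.app j = s.π.app j ≫ (imgι D c i).app j
    rw [Category.assoc, ← imgCone_π_imgι, ← Category.assoc, hm]

end limit

end

end Groth.Agent.Lib.Seat92.ImageLimit
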