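import Groth.Agent.Lib.Helper8LCDepth
import Groth.Agent.Lib.Helper8LC4
import Groth.Agent.Lib.Helper28Hull2

/-!
# Local cohomology of closed fibres in a four-term exact sequence (helper92)

* `mem_torsionSub_of_forall_prime`: an element killed locally off `V(J)` is `J`-power torsion;
* `H_eq_zero_of_smul_top_eq_top`, `H_eq_zero_of_lt_idealDepth`: vanishing of `H^i_J` below the depth,
  also when `JM = M`;
* `one_le_idealDepth_of_H0_eq_zero`: `H^0_J(M) = 0` gives `depth_J M ≥ 1`;
* `one_le_idealDepth_fibMod_coker`: in the situation of the key proposition on hulls,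
  `H^2_J(F/mF) = 0` implies `depth_J (G/mG) ≥ 1`.
-/

set_option autoImplicit false
set_option linter.unusedSectionVars false
universe u
open CategoryTheory CategoryTheory.Limits

namespace Groth.Agent.Lib.Seat92.LCFib

open Groth.Agent.Lib.Helper8.LC Groth.Agent.Lib.Helper8.ExtLES Groth.Agent.Lib.Helper28

section Torsion

variable {B : Type u} [CommRing B] [IsNoetherianRing B]

/-- An element killed locally at every prime not containing `J` is `J`-power torsion. -/
theorem mem_torsionSub_of_forall_prime (J : Ideal B) {X : Type u} [AddCommGroup X] [Module B X]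
    (x : X) (h : ∀ (q : Ideal B) [q.IsPrime], ¬ J ≤ q → ∃ s ∉ q, s • x = 0) :
    x ∈ DRing.torsionSub J X := by
  have hrad : J ≤ (Ideal.torsionOf B X x).radical := by
    intro r hr
    rw [Ideal.radical_eq_sInf, Ideal.mem_sInf]
    rintro q ⟨hq, hqp⟩
    by_contra hrq
    have hIq : ¬ J ≤ q := fun hle => hrq (hle hr)
    obtain ⟨s, hs, hsx⟩ := h q hIq
    exact hs (hq ((Ideal.mem_torsionOf_iff x s).mpr hsx))
  obtain ⟨n, hn⟩ := Ideal.exists_pow_le_of_le_radical_of_fg hrad (IsNoetherian.noetherian J)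
  exact ⟨n, fun a ha => (Ideal.mem_torsionOf_iff x a).mp (hn ha)⟩

end Torsion

section Vanishing

variable {R : Type u} [CommRing R] [IsNoetherianRing R] (I : Ideal R)

/-- If `IM = M` for a finite module `M`, all local cohomology of `M` with support in `I`
vanishes. -/
theorem H_eq_zero_of_smul_top_eq_top (M : Type u) [AddCommGroup M] [Module R M] [Module.Finite R M]
    (hIM : I • (⊤ : Submodule R M) = ⊤) (i : ℕ)
    (y : (localCohomology I i).obj (ModuleCat.of R M)) : y = 0 := by
  obtain ⟨c, hc1, hc2⟩ := Submodule.exists_sub_one_mem_and_smul_eq_zero_of_fg_of_le_smul I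
    (⊤ : Submodule R M) Module.Finite.fg_top (le_of_eq hIM.symm)
  have ha : (1 - c) ∈ I := by
    have := I.neg_mem hc1
    rwa [neg_sub] at this
  have hact : LinearMap.lsmul R M (1 - c) = LinearMap.id := by
    apply LinearMap.ext
    intro m
    simp only [LinearMap.lsmul_apply, LinearMap.id_coe, id_eq]
    rw [sub_smul, one_smul, hc2 m Submodule.mem_top, sub_zero]
  have hsm : ∀ w : (localCohomology I i).obj (ModuleCat.of R M), (1 - c) • w = w := by
    intro w
    rw [← H_map_lsmul, hact]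
    have : ModuleCat.ofHom (LinearMap.id : M →ₗ[R] M) = 𝟙 (ModuleCat.of R M) := rfl
    rw [this, CategoryTheory.Functor.map_id]
    rfl
  exact H_eq_zero_of_smul_injective I i (ModuleCat.of R M) (1 - c) ha
    (fun w hw => by rwa [hsm] at hw) y

/-- Vanishing of local cohomology below the depth (no condition `IM ≠ M`). -/
theorem H_eq_zero_of_lt_idealDepth (n : ℕ) (M : Type u) [AddCommGroup M] [Module R M]
    [Module.Finite R M] (hd : (n : ℕ∞) ≤ LocCoh.idealDepth I M) (i : ℕ) (hi : i < n)
    (y : (localCohomology I i).obj (ModuleCat.of R M)) : y = 0 := by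
  by_cases hIM : I • (⊤ : Submodule R M) = ⊤
  · exact H_eq_zero_of_smul_top_eq_top I M hIM i y
  · exact H_eq_zero_of_lt_depth I n M hIM hd i hi y

/-- If `H^0_I(M) = 0` then `depth_I M ≥ 1`. -/
theorem one_le_idealDepth_of_H0_eq_zero (M : Type u) [AddCommGroup M] [Module R M]
    [Module.Finite R M]
    (h : ∀ y : (localCohomology I 0).obj (ModuleCat.of R M), y = 0) :
    1 ≤ LocCoh.idealDepth I M := by
  by_cases hIM : I • (⊤ : Submodule R M) = ⊤
  · unfold LocCoh.idealDepth
    rw [if_pos hIM]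
    exact le_top
  · rw [Order.one_le_iff_ne_zero]
    intro h0
    obtain ⟨y, hy⟩ := H_ne_zero_of_depth_eq I 0 M hIM (by simpa using h0)
    exact hy (h y)

end Vanishing

section LES

variable {R : Type u} [CommRing R] [IsNoetherianRing R] (I : Ideal R)

/-- If `φ : M → N` has `I`-power torsion kernel and `H^{n+1}_I(M) = 0` then
`H^{n+1}_I(range φ) = 0`. -/
theorem H_succ_range_eq_zero_of_torsion_ker {M N : Type u} [AddCommGroup M] [Module R M]
    [AddCommGroup N] [Module R N] (φ : M →ₗ[R] N)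
    (hker : ∀ y : M, φ y = 0 → y ∈ DRing.torsionSub I M) (n : ℕ)
    (h : ∀ y : (localCohomology I (n + 1)).obj (ModuleCat.of R M), y = 0)
    (z : (localCohomology I (n + 1)).obj (ModuleCat.of R (LinearMap.range φ))) : z = 0 := by
  have hA : DRing.torsionSub I (LinearMap.ker φ) = ⊤ := by
    rw [eq_top_iff]
    rintro ⟨y, hy⟩ -
    obtain ⟨k, hk⟩ := hker y hy
    exact ⟨k, fun a ha => Subtype.ext (hk a ha)⟩
  have hex : Function.Exact (LinearMap.ker φ).subtype φ.rangeRestrict := by
    intro y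
    constructor
    · intro hy
      exact ⟨⟨y, congrArg Subtype.val hy⟩, rfl⟩
    · rintro ⟨⟨w, hw⟩, rfl⟩
      exact Subtype.ext hw
  obtain ⟨y, hy⟩ := (H_map_bijective_of_torsion_left I (LinearMap.ker φ).subtype φ.rangeRestrict
    (Submodule.injective_subtype _) φ.surjective_rangeRestrict hex hA n).2 z
  rw [← hy, h y, map_zero]

/-- From the long exact sequence: if `H^i(X₂) = 0` and `H^{i+1}(X₁) = 0` then `H^i(X₃) = 0`. -/
theorem H_right_eq_zero_of_exact {X₁ X₂ X₃ : Type u} [AddCommGroup X₁] [Module R X₁]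
    [AddCommGroup X₂] [Module R X₂] [AddCommGroup X₃] [Module R X₃]
    (f : X₁ →ₗ[R] X₂) (g : X₂ →ₗ[R] X₃) (hf : Function.Injective f) (hg : Function.Surjective g)
    (hex : Function.Exact f g) (i : ℕ)
    (h2 : ∀ y : (localCohomology I i).obj (ModuleCat.of R X₂), y = 0)
    (h1 : ∀ x : (localCohomology I (i + 1)).obj (ModuleCat.of R X₁), x = 0)
    (z : (localCohomology I i).obj (ModuleCat.of R X₃)) : z = 0 := by
  have hS := Sfg_shortExact f g hf hg hex
  obtain ⟨y, hy⟩ := H_exact₃ I i (Sfg f g hex) hS z (h1 _)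
  rw [← hy, h2 y, map_zero]

end LES

section Main

variable {A B : Type u} [CommRing A] [CommRing B]
    [IsNoetherianRing A] [IsNoetherianRing B] [IsLocalRing A] [IsLocalRing B] [Algebra A B]
    [IsLocalHom (algebraMap A B)] (J : Ideal B)

omit [IsNoetherianRing A] [IsLocalRing B] [IsLocalHom (algebraMap A B)] in
/-- The kernel of the closed-fibre map of an injection whose cokernel is flat off `V(J)` is
`J`-power torsion. -/
theorem ker_quotSMulTopMap_le_torsionSub
    {X' X X'' : Type u} [AddCommGroup X'] [Module B X'] [Module A X'] [IsScalarTower A B X']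
    [AddCommGroup X] [Module B X] [Module A X] [IsScalarTower A B X]
    [AddCommGroup X''] [Module B X''] [Module A X''] [IsScalarTower A B X'']
    (i : X' →ₗ[B] X) (p : X →ₗ[B] X'')
    (hi : Function.Injective i) (hp : Function.Surjective p) (hex : Function.Exact i p)
    (hU : ∀ q : PrimeSpectrum B, ¬ J ≤ q.asIdeal → FlatCA.FlatAt A q.asIdeal X'')
    (y : EGA4.FibMod A B X') (hy : quotSMulTopMap (EGA4.mB A B) i y = 0) :
    y ∈ DRing.torsionSub J (EGA4.FibMod A B X') := by
  obtain ⟨x, rfl⟩ := Submodule.Quotient.mk_surjective _ y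
  rw [quotSMulTopMap_mk, Submodule.Quotient.mk_eq_zero] at hy
  apply mem_torsionSub_of_forall_prime
  intro q hq hJq
  obtain ⟨s, hs, hsx⟩ := exists_smul_mem_of_exact_of_flat_localizedModule q.primeCompl i p hi hp hex
    (hU ⟨q, hq⟩ hJq) (IsLocalRing.maximalIdeal A) x hy
  refine ⟨s, hs, ?_⟩
  rw [← Submodule.Quotient.mk_smul, Submodule.Quotient.mk_eq_zero]
  exact hsx

variable
    {F E0 E1 G : Type u} [AddCommGroup F] [Module B F] [Module A F] [IsScalarTower A B F] [Module.Finite B F]
    [AddCommGroup E0] [Module B E0] [Module A E0] [IsScalarTower A B E0] [Module.Finite B E0] [Module.Flat A E0]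
    [AddCommGroup E1] [Module B E1] [Module A E1] [IsScalarTower A B E1] [Module.Finite B E1] [Module.Flat A E1]
    [AddCommGroup G] [Module B G] [Module A G] [IsScalarTower A B G] [Module.Finite B G]

/-- In a four-term exact sequence `0 → F → E⁰ → E¹ → G → 0` with `E⁰, E¹` flat over `A`, `G` flat
off `V(J)`, `depth_J (E⁰/mE⁰) ≥ 2`, `depth_J (E¹/mE¹) ≥ 1`: if `H²_J(F/mF) = 0` then
`depth_J (G/mG) ≥ 1`. -/
theorem one_le_idealDepth_fibMod_coker
    (f : F →ₗ[B] E0) (u : E0 →ₗ[B] E1) (v : E1 →ₗ[B] G)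
    (hf : Function.Injective f) (hfu : Function.Exact f u) (huv : Function.Exact u v)
    (hv : Function.Surjective v)
    (hGU : ∀ q : PrimeSpectrum B, ¬ J ≤ q.asIdeal → FlatCA.FlatAt A q.asIdeal G)
    (h0 : 2 ≤ LocCoh.idealDepth J (EGA4.FibMod A B E0))
    (h1 : 1 ≤ LocCoh.idealDepth J (EGA4.FibMod A B E1))
    (hH2 : ∀ y : (localCohomology J 2).obj (ModuleCat.of B (EGA4.FibMod A B F)), y = 0) :
    1 ≤ LocCoh.idealDepth J (EGA4.FibMod A B G) := by
  -- the image `K` of `u`
  let K : Submodule B E1 := LinearMap.range u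
  let u1 : E0 →ₗ[B] K := u.rangeRestrict
  let u2 : K →ₗ[B] E1 := K.subtype
  have hu1 : Function.Surjective u1 := u.surjective_rangeRestrict
  have hu2 : Function.Injective u2 := K.injective_subtype
  have hex1 : Function.Exact f u1 := by
    intro y
    rw [← hfu y]
    constructor
    · intro h; exact congrArg Subtype.val h
    · intro h; exact Subtype.ext h
  have hex2 : Function.Exact u2 v := by
    intro y
    rw [huv y]
    constructor
    · rintro ⟨e, rfl⟩; exact ⟨⟨u e, e, rfl⟩, rfl⟩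
    · rintro ⟨⟨_, e, rfl⟩, rfl⟩; exact ⟨e, rfl⟩
  have hKU : ∀ q : PrimeSpectrum B, ¬ J ≤ q.asIdeal → FlatCA.FlatAt A q.asIdeal K := by
    intro q hq
    exact flat_localizedModule_of_exact q.asIdeal.primeCompl u2 v hu2 hv hex2
      (flatAt_of_flat q.asIdeal) (hGU q hq)
  -- fibre maps
  set 𝔪 := EGA4.mB A B with h𝔪
  set fb := quotSMulTopMap 𝔪 f with hfb
  set u1b := quotSMulTopMap 𝔪 u1 with hu1b
  set u2b := quotSMulTopMap 𝔪 u2 with hu2b
  set vb := quotSMulTopMap 𝔪 v with hvb
  have hu1b_surj : Function.Surjective u1b := quotSMulTopMap_surjective 𝔪 u1 hu1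
  have hvb_surj : Function.Surjective vb := quotSMulTopMap_surjective 𝔪 v hv
  have hexb1 : Function.Exact fb u1b := quotSMulTopMap_exact 𝔪 f u1 hu1 hex1
  have hexb2 : Function.Exact u2b vb := quotSMulTopMap_exact 𝔪 u2 v hv hex2
  -- step 1: `H²(range fb) = 0`
  have hs1 : ∀ z : (localCohomology J 2).obj (ModuleCat.of B (LinearMap.range fb)), z = 0 :=
    H_succ_range_eq_zero_of_torsion_ker J fb
      (fun y hy => ker_quotSMulTopMap_le_torsionSub J f u1 hf hu1 hex1 hKU y hy) 1 hH2
  -- step 2: `H¹(K/mK) = 0`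
  have hE0 : ∀ y : (localCohomology J 1).obj (ModuleCat.of B (EGA4.FibMod A B E0)), y = 0 :=
    H_eq_zero_of_lt_idealDepth J 2 _ (by exact_mod_cast h0) 1 (by norm_num)
  have hexS2 : Function.Exact (LinearMap.range fb).subtype u1b := by
    intro y
    rw [hexb1 y]
    constructor
    · rintro ⟨w, rfl⟩; exact ⟨⟨fb w, w, rfl⟩, rfl⟩
    · rintro ⟨⟨_, w, rfl⟩, rfl⟩; exact ⟨w, rfl⟩
  have hs2 : ∀ z : (localCohomology J 1).obj (ModuleCat.of B (EGA4.FibMod A B K)), z = 0 :=
    H_right_eq_zero_of_exact J (LinearMap.range fb).subtype u1b (Submodule.injective_subtype _)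
      hu1b_surj hexS2 1 hE0 hs1
  -- step 3: `H¹(range u2b) = 0`
  have hs3 : ∀ z : (localCohomology J 1).obj (ModuleCat.of B (LinearMap.range u2b)), z = 0 :=
    H_succ_range_eq_zero_of_torsion_ker J u2b
      (fun y hy => ker_quotSMulTopMap_le_torsionSub J u2 v hu2 hv hex2 hGU y hy) 0 hs2
  -- step 4: `H⁰(G/mG) = 0`
  have hE1 : ∀ y : (localCohomology J 0).obj (ModuleCat.of B (EGA4.FibMod A B E1)), y = 0 :=
    H_eq_zero_of_lt_idealDepth J 1 _ (by exact_mod_cast h1) 0 (by norm_num)
  have hexS4 : Function.Exact (LinearMap.range u2b).subtype vb := by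
    intro y
    rw [hexb2 y]
    constructor
    · rintro ⟨w, rfl⟩; exact ⟨⟨u2b w, w, rfl⟩, rfl⟩
    · rintro ⟨⟨_, w, rfl⟩, rfl⟩; exact ⟨w, rfl⟩
  have hs4 : ∀ z : (localCohomology J 0).obj (ModuleCat.of B (EGA4.FibMod A B G)), z = 0 :=
    H_right_eq_zero_of_exact J (LinearMap.range u2b).subtype vb (Submodule.injective_subtype _)
      hvb_surj hexS4 0 hE1 hs3
  exact one_le_idealDepth_of_H0_eq_zero J _ hs4

end Main

end Groth.Agent.Lib.Seat92.LCFib
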