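import Mathlib
import Groth.Prelude.Def_CohB1
import Groth.Agent.Lib.Seat92ChowUnion
import Groth.Agent.Lib.Helper22LimSep

/-!
# Descending properness along a cofiltered limit of schemes

If `f₀ : X₀ ⟶ Y₀` is locally of finite type between qcqs schemes over a stage `S_{i₀}` of a
cofiltered limit `S = lim S_i` (affine transition maps) and its base change to `S` is proper, then
its base change to some stage is proper.  The proof uses Chow's lemma
(`Seat92.ChowUnion.chow_general`) and Helper22's limit library.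
-/

set_option autoImplicit false
set_option linter.style.haveILetI false
universe u
open CategoryTheory CategoryTheory.Limits AlgebraicGeometry TopologicalSpace

namespace Groth.Agent.Lib.Seat92.LimProper

open Groth.Agent.Lib.Helper22.LimBC Groth.Agent.Lib.Helper22.LimClosed
  Groth.Agent.Lib.Helper22.LimSep

section square

variable {X₀ Y₀ X₀' B₀ : Scheme.{u}} (f₀ : X₀ ⟶ Y₀) (π₀ : X₀' ⟶ X₀) (t : B₀ ⟶ Y₀) (j₀ : X₀' ⟶ B₀)
  (hsq : j₀ ≫ t = π₀ ≫ f₀)
variable {X Y B : Scheme.{u}} {qY : Y ⟶ Y₀} {qX : X ⟶ X₀} {f : X ⟶ Y} {qB : B ⟶ B₀} {tB : B ⟶ Y}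
  (hX : IsPullback qX f f₀ qY) (hB : IsPullback qB tB t qY)

/-- The induced map `X₀' ×_{B₀} B ⟶ X`. -/
noncomputable def rho : pullback j₀ qB ⟶ X :=
  hX.lift (pullback.fst j₀ qB ≫ π₀) (pullback.snd j₀ qB ≫ tB) (by
    rw [Category.assoc, ← hsq, ← Category.assoc, pullback.condition, Category.assoc, hB.w,
      Category.assoc])

lemma rho_qX : rho f₀ π₀ t j₀ hsq hX hB ≫ qX = pullback.fst j₀ qB ≫ π₀ := hX.lift_fst _ _ _

lemma rho_f : rho f₀ π₀ t j₀ hsq hX hB ≫ f = pullback.snd j₀ qB ≫ tB := hX.lift_snd _ _ _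

lemma isPullback_rho : IsPullback (pullback.fst j₀ qB) (rho f₀ π₀ t j₀ hsq hX hB) π₀ qX := by
  have big : IsPullback (pullback.fst j₀ qB) (pullback.snd j₀ qB ≫ tB) (j₀ ≫ t) qY :=
    (IsPullback.of_hasPullback j₀ qB).paste_vert hB
  rw [hsq, ← rho_f f₀ π₀ t j₀ hsq hX hB] at big
  exact IsPullback.of_bot big (rho_qX f₀ π₀ t j₀ hsq hX hB).symm hX

include hsq hX hB in
/-- At the limit: the base change of `j₀` has closed range. -/
lemma isClosed_range_snd [IsProper π₀] [IsProper f] [IsSeparated t] :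
    IsClosed (Set.range (pullback.snd j₀ qB)) := by
  haveI : IsProper (rho f₀ π₀ t j₀ hsq hX hB) :=
    MorphismProperty.of_isPullback (P := @IsProper) (isPullback_rho f₀ π₀ t j₀ hsq hX hB) ‹_›
  haveI : IsSeparated tB := MorphismProperty.of_isPullback (P := @IsSeparated) hB ‹_›
  haveI : IsProper (pullback.snd j₀ qB ≫ tB) := by
    rw [← rho_f f₀ π₀ t j₀ hsq hX hB]; infer_instance
  haveI := IsProper.of_comp (pullback.snd j₀ qB) tB
  exact (pullback.snd j₀ qB).isClosedMap.isClosed_range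

include hsq hX hB in
/-- At a stage: if the base change of the immersion `j₀` has closed range, then `f` is proper. -/
lemma isProper_of_isClosed_range [IsImmersion j₀] [IsProper π₀] [Surjective π₀] [IsProper t]
    [IsSeparated f] [LocallyOfFiniteType f] [QuasiCompact f]
    (h : IsClosed (Set.range (pullback.snd j₀ qB))) : IsProper f := by
  haveI : IsClosedImmersion (pullback.snd j₀ qB) := IsClosedImmersion.of_isPreimmersion _ h
  haveI : IsProper tB := MorphismProperty.of_isPullback (P := @IsProper) hB ‹_›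
  haveI : Surjective (rho f₀ π₀ t j₀ hsq hX hB) :=
    MorphismProperty.of_isPullback (P := @Surjective) (isPullback_rho f₀ π₀ t j₀ hsq hX hB) ‹_›
  haveI : UniversallyClosed (rho f₀ π₀ t j₀ hsq hX hB ≫ f) := by
    rw [rho_f f₀ π₀ t j₀ hsq hX hB]; infer_instance
  haveI : UniversallyClosed f := UniversallyClosed.of_comp_surjective (rho f₀ π₀ t j₀ hsq hX hB) f
  exact {}

end square

section main

variable {I : Type u} [SmallCategory I] [IsCofiltered I]
    (D : I ⥤ Scheme.{u}) (c : Limits.Cone D) (hc : Limits.IsLimit c)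
    [∀ (i j : I) (f : i ⟶ j), IsAffineHom (D.map f)] (i₀ : I)

include hc in
/-- Separated case: if the base change `f` of a separated `f₀` (locally of finite type, between
qcqs schemes) to the limit is proper, then the base change to some stage is proper. -/
theorem exists_isProper_bcMor_of_isSeparated {X₀ Y₀ : Scheme.{u}} (f₀ : X₀ ⟶ Y₀)
    (g₀ : Y₀ ⟶ D.obj i₀) [CompactSpace X₀] [QuasiSeparatedSpace X₀] [CompactSpace Y₀]
    [QuasiSeparatedSpace Y₀] [LocallyOfFiniteType f₀] [IsSeparated f₀]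
    {X Y : Scheme.{u}} {f : X ⟶ Y} {g : Y ⟶ c.pt} {qY : Y ⟶ Y₀} {qX : X ⟶ X₀}
    (hY : IsPullback qY g g₀ (c.π.app i₀)) (hX : IsPullback qX f f₀ qY) [IsProper f] :
    ∃ k : Over i₀, IsProper (bcMor D i₀ f₀ g₀ k) := by
  have inst : ∀ {i j : I} (f : i ⟶ j), IsAffineHom (D.map f) := fun f => inferInstance
  obtain ⟨n, X₀', π₀, j₀, hj₀, hsq, hπ₀, hsurj⟩ :=
    Groth.Agent.Lib.Seat92.ChowUnion.chow_general f₀
  haveI : Surjective π₀ := ⟨hsurj⟩
  haveI : IsProper (CohB1.ProjSpaceOver.toBase n Y₀) := Groth.Agent.S9705.isProper_toBase n Y₀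
  haveI : CompactSpace (CohB1.ProjSpaceOver n Y₀) :=
    QuasiCompact.compactSpace_of_compactSpace (CohB1.ProjSpaceOver.toBase n Y₀)
  haveI : QuasiSeparatedSpace (CohB1.ProjSpaceOver n Y₀) :=
    quasiSeparatedSpace_of_quasiSeparated (CohB1.ProjSpaceOver.toBase n Y₀)
  haveI : CompactSpace X₀' := QuasiCompact.compactSpace_of_compactSpace π₀
  haveI : QuasiCompact j₀ := inferInstance
  have hT₀ : IsClosed (closure (Set.range j₀) \ Set.range j₀) := by
    have := isLocallyClosed_iff_isOpen_coborder.mp j₀.isLocallyClosed_range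
    exact isOpen_compl_iff.mp this
  have hB := IsPullback.of_hasPullback (CohB1.ProjSpaceOver.toBase n Y₀) qY
  have hP := hB.paste_vert hY
  have hE : IsClosed (⇑(pullback.fst (CohB1.ProjSpaceOver.toBase n Y₀) qY) ⁻¹' Set.range j₀) := by
    rw [← Scheme.Pullback.range_snd]
    exact isClosed_range_snd f₀ π₀ (CohB1.ProjSpaceOver.toBase n Y₀) j₀ hsq hX hB
  obtain ⟨k, hk⟩ := exists_isClosed_preimage_range_bc D c hc i₀
    (CohB1.ProjSpaceOver.toBase n Y₀ ≫ g₀) j₀ hT₀ hP hE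
  refine ⟨k, ?_⟩
  have hXk := isPullback_bcMor D i₀ f₀ g₀ k
  have hBk := isPullback_bcMor D i₀ (CohB1.ProjSpaceOver.toBase n Y₀) g₀ k
  haveI : QuasiCompact f₀ := inferInstance
  haveI : IsSeparated (bcMor D i₀ f₀ g₀ k) :=
    MorphismProperty.of_isPullback (P := @IsSeparated) hXk ‹_›
  haveI : LocallyOfFiniteType (bcMor D i₀ f₀ g₀ k) :=
    MorphismProperty.of_isPullback (P := @LocallyOfFiniteType) hXk ‹_›
  haveI : QuasiCompact (bcMor D i₀ f₀ g₀ k) :=
    MorphismProperty.of_isPullback (P := @QuasiCompact) hXk ‹_›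
  apply isProper_of_isClosed_range f₀ π₀ (CohB1.ProjSpaceOver.toBase n Y₀) j₀ hsq hXk hBk
  rw [Scheme.Pullback.range_snd]
  exact hk

include hc in
/-- General case, in the existential form of the milestone statements. -/
theorem exists_isProper_descend {X₀ Y₀ : Scheme.{u}} (f₀ : X₀ ⟶ Y₀)
    (g₀ : Y₀ ⟶ D.obj i₀) [CompactSpace X₀] [QuasiSeparatedSpace X₀] [CompactSpace Y₀]
    [QuasiSeparatedSpace Y₀] [LocallyOfFiniteType f₀]
    {X Y : Scheme.{u}} {f : X ⟶ Y} {g : Y ⟶ c.pt} {qY : Y ⟶ Y₀} {qX : X ⟶ X₀}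
    (hY : IsPullback qY g g₀ (c.π.app i₀)) (hX : IsPullback qX f f₀ qY) [IsProper f] :
    ∃ (i : I) (φ : i ⟶ i₀) (Xi Yi : Scheme.{u}) (fi : Xi ⟶ Yi) (gi : Yi ⟶ D.obj i) (pY : Yi ⟶ Y₀)
      (pX : Xi ⟶ X₀), IsPullback pY gi g₀ (D.map φ) ∧ IsPullback pX fi f₀ pY ∧ IsProper fi := by
  have inst : ∀ {i j : I} (f : i ⟶ j), IsAffineHom (D.map f) := fun f => inferInstance
  haveI : QuasiCompact f₀ := inferInstance
  haveI : CompactSpace ↥(pullback f₀ f₀) :=
    QuasiCompact.compactSpace_of_compactSpace (pullback.fst f₀ f₀)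
  haveI : QuasiSeparated f₀ := inferInstance
  haveI : QuasiCompact (pullback.diagonal f₀) := inferInstance
  obtain ⟨k₁, hk₁⟩ := exists_isSeparated_bcMor D c hc i₀ f₀ g₀ hY hX
  -- restart at the stage `k₁`
  let f₁ := bcMor D i₀ f₀ g₀ k₁
  let g₁ := dSnd D i₀ g₀ k₁
  haveI : CompactSpace ((bcDiagram D i₀ (f₀ ≫ g₀)).obj k₁) :=
    QuasiCompact.compactSpace_of_compactSpace (dFst D i₀ (f₀ ≫ g₀) k₁)
  haveI : QuasiSeparatedSpace ((bcDiagram D i₀ (f₀ ≫ g₀)).obj k₁) :=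
    quasiSeparatedSpace_of_quasiSeparated (dFst D i₀ (f₀ ≫ g₀) k₁)
  haveI : CompactSpace ((bcDiagram D i₀ g₀).obj k₁) :=
    QuasiCompact.compactSpace_of_compactSpace (dFst D i₀ g₀ k₁)
  haveI : QuasiSeparatedSpace ((bcDiagram D i₀ g₀).obj k₁) :=
    quasiSeparatedSpace_of_quasiSeparated (dFst D i₀ g₀ k₁)
  have hXk₁ := isPullback_bcMor D i₀ f₀ g₀ k₁
  haveI : LocallyOfFiniteType f₁ :=
    MorphismProperty.of_isPullback (P := @LocallyOfFiniteType) hXk₁ ‹_›
  haveI : IsSeparated f₁ := hk₁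
  have hY₁ := isPullback_bcπ i₀ hY k₁
  have hX₁ := isPullback_bcπ_bcMor hY hX k₁
  obtain ⟨k₂, hk₂⟩ := exists_isProper_bcMor_of_isSeparated D c hc k₁.left f₁ g₁ hY₁ hX₁
  refine ⟨k₂.left, k₂.hom ≫ k₁.hom, _, _, bcMor D k₁.left f₁ g₁ k₂, dSnd D k₁.left g₁ k₂,
    dFst D k₁.left g₁ k₂ ≫ dFst D i₀ g₀ k₁,
    dFst D k₁.left (f₁ ≫ g₁) k₂ ≫ dFst D i₀ (f₀ ≫ g₀) k₁, ?_, ?_, hk₂⟩
  · rw [D.map_comp]
    exact (isPullback_d D k₁.left g₁ k₂).paste_horiz (isPullback_d D i₀ g₀ k₁)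
  · exact (isPullback_bcMor D k₁.left f₁ g₁ k₂).paste_horiz hXk₁

end main

end Groth.Agent.Lib.Seat92.LimProper
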