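import Mathlib
import Groth.Prelude.Def_CohB1
import Groth.Agent.Lib.Seat92LimProper
import Groth.Agent.Lib.Seat92ProperLimit
import Groth.Agent.S0591
import Groth.Agent.S2076

/-!
# A proper morphism to a cofiltered limit is eventually proper over the stages
-/

set_option autoImplicit false
set_option linter.style.haveILetI false
universe u
open CategoryTheory CategoryTheory.Limits AlgebraicGeometry TopologicalSpace

namespace Groth.Agent.Lib.Seat92.LimProper2

open Groth.Agent.Lib.Helper22.LimBC Groth.Agent.Lib.Seat92.LimProper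
  Groth.Agent.Lib.Seat92.ProperLimit

set_option maxHeartbeats 800000 in
theorem eventually_isProper {I : Type u} [SmallCategory I] [IsCofiltered I] (S : Scheme.{u})
    (D : I ⥤ Scheme.{u}) (t : D ⟶ (Functor.const I).obj S) (c : Limits.Cone D) (hc : Limits.IsLimit c)
    [∀ (i j : I) (a : i ⟶ j), IsAffineHom (D.map a)]
    [∀ i, CompactSpace (D.obj i)] [∀ i, QuasiSeparatedSpace (D.obj i)] (i₀ : I)
    {Y : Scheme.{u}} (h : Y ⟶ c.pt) [IsProper h] [LocallyOfFiniteType (h ≫ c.π.app i₀ ≫ t.app i₀)] :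
    ∃ i₁ : I, ∀ (i : I) (_ : i ⟶ i₁), IsProper (h ≫ c.π.app i) := by
  have inst : ∀ {i j : I} (f : i ⟶ j), IsAffineHom (D.map f) := fun f => inferInstance
  -- the structure map to `S` does not depend on the index
  have htn : ∀ {i j : I} (a : i ⟶ j), D.map a ≫ t.app j = t.app i := by
    intro i j a
    have h1 := t.naturality a
    simp only [Functor.const_obj_obj, Functor.const_obj_map, Category.comp_id] at h1
    exact h1
  have hts : ∀ {i j : I} (a : i ⟶ j), c.π.app i ≫ t.app i = c.π.app j ≫ t.app j := by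
    intro i j a
    rw [← htn a, ← Category.assoc, c.w]
  have hts' : ∀ i j : I, c.π.app i ≫ t.app i = c.π.app j ≫ t.app j := by
    intro i j
    obtain ⟨k, a, b, -⟩ := IsCofilteredOrEmpty.cone_objs i j
    rw [← hts a, hts b]
  haveI : IsAffineHom (c.π.app i₀) := AlgebraicGeometry.isAffineHom_π_app D c hc i₀
  haveI : CompactSpace c.pt := QuasiCompact.compactSpace_of_compactSpace (c.π.app i₀)
  haveI : QuasiSeparatedSpace c.pt := quasiSeparatedSpace_of_quasiSeparated (c.π.app i₀)
  obtain ⟨A, _, _, DA, cA, hcA, e, -, hA⟩ := exists_proper_fp_limit h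
  obtain ⟨a₀⟩ := IsCofiltered.nonempty (C := A)
  obtain ⟨hcl, hprop, hlfp⟩ := hA a₀
  let p : (DA.obj a₀).left ⟶ c.pt := (DA.obj a₀).hom
  let κ : Y ⟶ (DA.obj a₀).left := e.inv.left ≫ (cA.π.app a₀).left
  have hκp : κ ≫ p = h := by
    have h1 : (cA.π.app a₀).left ≫ (DA.obj a₀).hom = cA.pt.hom := Over.w (cA.π.app a₀)
    have h2 : e.inv.left ≫ cA.pt.hom = h := Over.w e.inv
    show (e.inv.left ≫ (cA.π.app a₀).left) ≫ (DA.obj a₀).hom = h
    rw [Category.assoc, h1, h2]
  haveI : IsIso e.inv.left := inferInstanceAs (IsIso ((Over.forget _).map e.inv))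
  haveI : IsClosedImmersion κ :=
    (inferInstance : IsClosedImmersion (e.inv.left ≫ (cA.π.app a₀).left))
  haveI : IsProper p := hprop
  haveI : LocallyOfFinitePresentation p := hlfp
  obtain ⟨i, Y'i, pi, g, hpi1, hpi2, hpi3, hP⟩ := Groth.Agent.S0591.result D c hc _ p
  haveI : CompactSpace Y'i := QuasiCompact.compactSpace_of_compactSpace pi
  haveI : QuasiSeparatedSpace Y'i := quasiSeparatedSpace_of_quasiSeparated pi
  -- properness at some stage
  have hYid : IsPullback (c.π.app i) (𝟙 c.pt) (𝟙 (D.obj i)) (c.π.app i) :=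
    IsPullback.id_vert (c.π.app i)
  obtain ⟨j, φ, Xj, Yj, fj, gj, pY, pX, hYj, hXj, hfj⟩ :=
    exists_isProper_descend D c hc i pi (𝟙 _) hYid hP
  haveI : IsIso gj := hYj.isIso_snd_of_isIso
  have hbig : IsPullback pX (fj ≫ gj) pi (D.map φ) := by
    have := hXj.paste_vert hYj
    rwa [Category.comp_id] at this
  haveI : IsProper (fj ≫ gj) := inferInstance
  -- closed immersion at some stage
  haveI : ∀ l : Over i, CompactSpace ((bcDiagram D i pi).obj l) := fun l =>
    QuasiCompact.compactSpace_of_compactSpace (dFst D i pi l)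
  have hlft : LocallyOfFiniteType (κ ≫ p ≫ c.π.app i ≫ t.app i) := by
    rw [← Category.assoc, hκp, hts' i i₀]
    infer_instance
  let κ' : Y ⟶ (bcCone i hP).pt := κ
  haveI hκ'1 : IsClosedImmersion κ' := ‹IsClosedImmersion κ›
  haveI hκ'2 : LocallyOfFiniteType (κ' ≫ p ≫ c.π.app i ≫ t.app i) := hlft
  obtain ⟨l, hl⟩ := Groth.Agent.S2076.aux S (bcDiagram D i pi)
    (fun l => dSnd D i pi l ≫ t.app l.left)
    (fun {j k} φ => by rw [map_dSnd_assoc, htn])
    (bcCone i hP) (isLimitBcCone i hP hc) (p ≫ c.π.app i ≫ t.app i)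
    (fun l => by
      show bcπ i hP l ≫ dSnd D i pi l ≫ t.app l.left = _
      rw [bcπ_snd_assoc, hts l.hom]
      rfl)
    κ'
  -- a common refinement
  obtain ⟨m, a, b, hab⟩ := IsCofiltered.cospan l.hom φ
  let m' : Over i := Over.mk (a ≫ l.hom)
  let μ : m' ⟶ l := Over.homMk a rfl
  haveI : IsClosedImmersion (κ ≫ bcπ i hP m') := by
    haveI : IsClosedImmersion ((κ ≫ bcπ i hP m') ≫ (bcDiagram D i pi).map μ) := by
      rw [Category.assoc, bcπ_map]
      exact hl
    exact IsClosedImmersion.of_comp (κ ≫ bcπ i hP m') ((bcDiagram D i pi).map μ)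
  have big : IsPullback (dFst D i pi m') (dSnd D i pi m') pi (D.map b ≫ D.map φ) := by
    have := isPullback_d D i pi m'
    rw [show m'.hom = b ≫ φ from hab, D.map_comp] at this
    exact this
  let lift : (bcDiagram D i pi).obj m' ⟶ Xj :=
    hbig.lift (dFst D i pi m') (dSnd D i pi m' ≫ D.map b) (by rw [Category.assoc, big.w])
  have hlift1 : lift ≫ pX = dFst D i pi m' := hbig.lift_fst _ _ _
  have hlift2 : lift ≫ (fj ≫ gj) = dSnd D i pi m' ≫ D.map b := hbig.lift_snd _ _ _
  have hleft : IsPullback lift (dSnd D i pi m') (fj ≫ gj) (D.map b) :=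
    IsPullback.of_right (by rw [hlift1]; exact big) hlift2 hbig
  haveI : IsProper (dSnd D i pi m') :=
    MorphismProperty.of_isPullback (P := @IsProper) hleft inferInstance
  have hm : IsProper (h ≫ c.π.app m) := by
    have : h ≫ c.π.app m = (κ ≫ bcπ i hP m') ≫ dSnd D i pi m' := by
      rw [Category.assoc, bcπ_snd, ← Category.assoc, hκp]
      rfl
    rw [this]
    infer_instance
  refine ⟨m, fun i' a' => ?_⟩
  haveI : IsProper ((h ≫ c.π.app i') ≫ D.map a') := by
    rw [Category.assoc, c.w]; exact hm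
  exact IsProper.of_comp (h ≫ c.π.app i') (D.map a')

end Groth.Agent.Lib.Seat92.LimProper2
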