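import Mathlib
import Groth.Prelude.Def_EGA4b
import Groth.Agent.Lib.Seat92LimProper
import Groth.Agent.Lib.Helper26StalkLim
import Groth.Agent.Lib.Helper12Descent
import Groth.Agent.Lib.Helper19Jacobson

/-!
# Spreading out properness from the completion of a local ring to a neighbourhood

* `isProper_of_isProper_baseChange_cpl`: properness descends along `Spec Â → Spec A` for a
  Noetherian local ring `A` (faithfully flat descent).
* `exists_nhd_isProper_of_stalk`: if the base change of `f` to `Spec 𝒪_{S,s}` is proper then so is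
  the restriction of `f` over a neighbourhood of `s` (limit argument, via
  `Seat92.LimProper.exists_isProper_descend`).
-/

set_option autoImplicit false
set_option linter.style.haveILetI false
universe u
open CategoryTheory CategoryTheory.Limits AlgebraicGeometry TopologicalSpace

namespace Groth.Agent.Lib.Seat92.NhdProper

open Groth.Agent.Lib.Helper26.StalkLim

section general

variable {X Y S T T' : Scheme.{u}} (f : X ⟶ Y) (g : Y ⟶ S) (σ : T ⟶ S) (c : T' ⟶ T)

/-- The comparison map `Y ×_S T' ⟶ Y ×_S T`. -/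
noncomputable def mY : pullback g (c ≫ σ) ⟶ pullback g σ :=
  pullback.lift (pullback.fst g (c ≫ σ)) (pullback.snd g (c ≫ σ) ≫ c)
    (by rw [pullback.condition, Category.assoc])

@[reassoc (attr := simp)]
lemma mY_fst : mY g σ c ≫ pullback.fst g σ = pullback.fst g (c ≫ σ) := pullback.lift_fst _ _ _

@[reassoc (attr := simp)]
lemma mY_snd : mY g σ c ≫ pullback.snd g σ = pullback.snd g (c ≫ σ) ≫ c := pullback.lift_snd _ _ _

lemma isPullback_mY :
    IsPullback (mY g σ c) (pullback.snd g (c ≫ σ)) (pullback.snd g σ) c := by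
  refine IsPullback.of_right ?_ (mY_snd g σ c) (IsPullback.of_hasPullback g σ)
  rw [mY_fst]
  exact IsPullback.of_hasPullback g (c ≫ σ)

/-- The comparison map `X ×_Y (Y ×_S T') ⟶ X ×_Y (Y ×_S T)`. -/
noncomputable def mX :
    pullback f (pullback.fst g (c ≫ σ)) ⟶ pullback f (pullback.fst g σ) :=
  pullback.lift (pullback.fst f (pullback.fst g (c ≫ σ)))
    (pullback.snd f (pullback.fst g (c ≫ σ)) ≫ mY g σ c)
    (by rw [pullback.condition, Category.assoc, mY_fst])

@[reassoc (attr := simp)]
lemma mX_fst : mX f g σ c ≫ pullback.fst f (pullback.fst g σ) =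
    pullback.fst f (pullback.fst g (c ≫ σ)) := pullback.lift_fst _ _ _

@[reassoc (attr := simp)]
lemma mX_snd : mX f g σ c ≫ pullback.snd f (pullback.fst g σ) =
    pullback.snd f (pullback.fst g (c ≫ σ)) ≫ mY g σ c := pullback.lift_snd _ _ _

lemma isPullback_mX :
    IsPullback (mX f g σ c) (pullback.snd f (pullback.fst g (c ≫ σ)))
      (pullback.snd f (pullback.fst g σ)) (mY g σ c) := by
  refine IsPullback.of_right ?_ (mX_snd f g σ c) (IsPullback.of_hasPullback f (pullback.fst g σ))
  rw [mX_fst, mY_fst]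
  exact IsPullback.of_hasPullback f (pullback.fst g (c ≫ σ))

/-- Properness of the base change of `f` descends along an fpqc base change `c`. -/
lemma isProper_of_isProper_baseChange [Surjective c] [Flat c] [QuasiCompact c]
    (h : IsProper (pullback.snd f (pullback.fst g (c ≫ σ)))) :
    IsProper (pullback.snd f (pullback.fst g σ)) := by
  haveI := Groth.Agent.Lib.Helper12.descendsAlong_isProper.{u}
  have hm : (@Surjective ⊓ @Flat ⊓ @QuasiCompact : MorphismProperty Scheme.{u}) (mY g σ c) := by
    have sq := isPullback_mY g σ c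
    refine ⟨⟨?_, ?_⟩, ?_⟩
    · exact MorphismProperty.of_isPullback (P := @Surjective) sq.flip ‹_›
    · exact MorphismProperty.of_isPullback (P := @Flat) sq.flip ‹_›
    · exact MorphismProperty.of_isPullback (P := @QuasiCompact) sq.flip ‹_›
  exact MorphismProperty.of_isPullback_of_descendsAlong (P := @IsProper)
    (Q := (@Surjective ⊓ @Flat ⊓ @QuasiCompact : MorphismProperty Scheme.{u}))
    (isPullback_mX f g σ c).flip hm h

end general

section completion

variable (A : Type u) [CommRing A] [IsLocalRing A] [IsNoetherianRing A]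

lemma faithfullyFlat_cpl : Module.FaithfullyFlat A (EGA4.Cpl A) := by
  apply Groth.Agent.Lib.Helper19.faithfullyFlat_adicCompletion_of_le_jacobson
  rw [IsLocalRing.jacobson_eq_maximalIdeal ⊥ bot_ne_top]

/-- `Spec Â ⟶ Spec A`. -/
noncomputable abbrev cplMap : Spec (CommRingCat.of (EGA4.Cpl A)) ⟶ Spec (CommRingCat.of A) :=
  Spec.map (CommRingCat.ofHom (algebraMap A (EGA4.Cpl A)))

instance : Flat (cplMap A) := by
  haveI := faithfullyFlat_cpl A
  rw [HasRingHomProperty.Spec_iff (P := @Flat)]
  simp only [CommRingCat.hom_ofHom]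
  rw [RingHom.flat_algebraMap_iff]
  infer_instance

instance : Surjective (cplMap A) := by
  haveI := faithfullyFlat_cpl A
  constructor
  exact PrimeSpectrum.comap_surjective_of_faithfullyFlat (A := A) (B := EGA4.Cpl A)

end completion

section restrict

variable {X Y S U Yi Xi : Scheme.{u}} (f : X ⟶ Y) (g : Y ⟶ S) (j : U ⟶ S) [IsOpenImmersion j]
  {gi : Yi ⟶ U} {pY : Yi ⟶ Y} {fi : Xi ⟶ Yi} {pX : Xi ⟶ X}

include j in
/-- If `fi` is the base change of `f` to `Y ×_S U` for an open immersion `U ⟶ S`, and `fi` is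
proper, then the restriction of `f` over the range of `U` is proper. -/
lemma isProper_restrict_of_isPullback (hY : IsPullback pY gi g j) (hX : IsPullback pX fi f pY)
    [IsProper fi] : IsProper (f ∣_ (g ⁻¹ᵁ j.opensRange)) := by
  haveI : IsOpenImmersion pY := MorphismProperty.of_isPullback (P := @IsOpenImmersion) hY.flip ‹_›
  have hr : Set.range pY = Set.range (g ⁻¹ᵁ j.opensRange).ι := by
    have := Scheme.image_preimage_eq_of_isPullback hY.flip Set.univ
    simp only [Set.preimage_univ, Set.image_univ] at this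
    rw [this]
    simp
  let θ := IsOpenImmersion.isoOfRangeEq pY (g ⁻¹ᵁ j.opensRange).ι hr
  have hθ : θ.inv ≫ pY = (g ⁻¹ᵁ j.opensRange).ι := IsOpenImmersion.isoOfRangeEq_inv_fac _ _ hr
  have sq0 := isPullback_morphismRestrict f (g ⁻¹ᵁ j.opensRange)
  let l : (f ⁻¹ᵁ (g ⁻¹ᵁ j.opensRange)).toScheme ⟶ Xi :=
    hX.lift (f ⁻¹ᵁ (g ⁻¹ᵁ j.opensRange)).ι (f ∣_ (g ⁻¹ᵁ j.opensRange) ≫ θ.inv) (by
      rw [Category.assoc, hθ]; exact sq0.w.symm)
  have hl1 : l ≫ pX = (f ⁻¹ᵁ (g ⁻¹ᵁ j.opensRange)).ι := hX.lift_fst _ _ _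
  have hl2 : l ≫ fi = f ∣_ (g ⁻¹ᵁ j.opensRange) ≫ θ.inv := hX.lift_snd _ _ _
  have sq : IsPullback l (f ∣_ (g ⁻¹ᵁ j.opensRange)) fi θ.inv := by
    refine IsPullback.of_right ?_ hl2 hX
    rw [hl1, hθ]
    exact sq0.flip
  exact MorphismProperty.of_isPullback (P := @IsProper) sq ‹_›

end restrict

section nhd

variable {X Y S : Scheme.{u}} (f : X ⟶ Y) (g : Y ⟶ S)
  [QuasiCompact g] [QuasiSeparated g] [QuasiCompact (f ≫ g)] [QuasiSeparated (f ≫ g)]
  [LocallyOfFiniteType f] (s : S)

/-- If the base change of `f` to `Spec 𝒪_{S,s}` is proper, then `f` is proper over an open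
neighbourhood of `s`. -/
theorem exists_nhd_isProper_of_stalk
    (h : IsProper (pullback.snd f (pullback.fst g (S.fromSpecStalk s)))) :
    ∃ W : S.Opens, s ∈ W ∧ IsProper (f ∣_ (g ⁻¹ᵁ W)) := by
  obtain ⟨a₀⟩ : Nonempty (AffNhd s) := inferInstance
  let i₀ : (AffNhd s)ᵒᵖ := Opposite.op a₀
  let t : (specDiagram s).obj i₀ ⟶ S := toX s i₀
  let c' : (specCone s).pt ⟶ (specDiagram s).obj i₀ := (specCone s).π.app i₀
  have hσ : c' ≫ t = S.fromSpecStalk s := π_toX s i₀
  rw [← hσ] at h
  let g₀ := pullback.snd g t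
  let f₀ := pullback.snd f (pullback.fst g t)
  have hY := isPullback_mY g t c'
  have hX := isPullback_mX f g t c'
  -- finiteness conditions
  haveI : QuasiCompact g₀ := inferInstance
  haveI : QuasiSeparated g₀ := inferInstance
  haveI : CompactSpace ↥(pullback g t) := QuasiCompact.compactSpace_of_compactSpace g₀
  haveI : QuasiSeparatedSpace ↥(pullback g t) := quasiSeparatedSpace_of_quasiSeparated g₀
  have sqfg : IsPullback (pullback.fst f (pullback.fst g t)) (f₀ ≫ g₀) (f ≫ g) t :=
    (IsPullback.of_hasPullback f (pullback.fst g t)).paste_vert (IsPullback.of_hasPullback g t)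
  haveI : QuasiCompact (f₀ ≫ g₀) :=
    MorphismProperty.of_isPullback (P := @QuasiCompact) sqfg ‹_›
  haveI : QuasiSeparated (f₀ ≫ g₀) :=
    MorphismProperty.of_isPullback (P := @QuasiSeparated) sqfg ‹_›
  haveI : CompactSpace ↥(pullback f (pullback.fst g t)) :=
    QuasiCompact.compactSpace_of_compactSpace (f₀ ≫ g₀)
  haveI : QuasiSeparatedSpace ↥(pullback f (pullback.fst g t)) :=
    quasiSeparatedSpace_of_quasiSeparated (f₀ ≫ g₀)
  haveI : LocallyOfFiniteType f₀ := inferInstance
  haveI : IsProper (pullback.snd f (pullback.fst g (c' ≫ t))) := h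
  obtain ⟨i, φ, Xi, Yi, fi, gi, pY, pX, h1, h2, h3⟩ :=
    Groth.Agent.Lib.Seat92.LimProper.exists_isProper_descend (specDiagram s) (specCone s)
      (specIsLimit s) i₀ f₀ g₀ hY hX
  refine ⟨i.unop.U, i.unop.mem, ?_⟩
  have h1' : IsPullback (pY ≫ pullback.fst g t) gi g (toX s i) := by
    have := h1.paste_horiz (IsPullback.of_hasPullback g t)
    rwa [map_toX] at this
  have h2' : IsPullback (pX ≫ pullback.fst f (pullback.fst g t)) fi f
      (pY ≫ pullback.fst g t) :=
    h2.paste_horiz (IsPullback.of_hasPullback f (pullback.fst g t))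
  have := isProper_restrict_of_isPullback f g (toX s i) h1' h2'
  rwa [opensRange_toX] at this

end nhd

end Groth.Agent.Lib.Seat92.NhdProper
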