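import Groth.Prelude.Def_W4c6modpairsegaMP
import Mathlib.AlgebraicGeometry.Limits
import Mathlib.AlgebraicGeometry.Morphisms.QuasiCompact
import Mathlib.CategoryTheory.Limits.Preserves.Basic

/-!
# Coproducts of modulus pairs (helper92)

For a family of schemes `X i` with ideal sheaves `I i`, the ideal sheaf `sigmaIdeal X I` on `∐ X`
restricting to `I i` on each summand, and its basic properties.
-/

set_option autoImplicit false
universe u

namespace Groth.Agent.Lib.Seat92.PairCoprod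

open CategoryTheory CategoryTheory.Limits AlgebraicGeometry TopologicalSpace

variable {σ : Type u} (X : σ → Scheme.{u}) (I : ∀ i, (X i).IdealSheafData)

/-- The disjoint union of the closed subschemes, mapping to the disjoint union. -/
noncomputable abbrev sigmaSub : (∐ fun i => (I i).subscheme) ⟶ ∐ X :=
  Limits.Sigma.map fun i => (I i).subschemeι

theorem sigmaSub_ι_apply (j : σ) (z' : (I j).subscheme) :
    (sigmaSub X I) (Sigma.ι (fun i => (I i).subscheme) j z') =
      Sigma.ι X j ((I j).subschemeι z') := by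
  have h1 := Scheme.Hom.comp_apply (Sigma.ι (fun i => (I i).subscheme) j) (sigmaSub X I) z'
  have h2 := Scheme.Hom.comp_apply ((I j).subschemeι) (Sigma.ι X j) z'
  rw [← h1, ← h2, Limits.Sigma.ι_map]

theorem preimage_opensRange (i : σ) :
    (sigmaSub X I) ⁻¹ᵁ (Sigma.ι X i).opensRange =
      (Sigma.ι (fun i => (I i).subscheme) i).opensRange := by
  ext z
  obtain ⟨⟨j, z'⟩, rfl⟩ := (sigmaMk fun i => (I i).subscheme).surjective z
  rw [sigmaMk_mk]
  constructor
  · intro hz
    obtain ⟨y, hy⟩ := hz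
    rw [sigmaSub_ι_apply] at hy
    obtain ⟨rfl, -⟩ := Sigma.mk.inj_iff.mp ((sigmaι_eq_iff X _ _ _ _).mp hy)
    exact ⟨z', rfl⟩
  · rintro ⟨y, hy⟩
    obtain ⟨rfl, h2⟩ := Sigma.mk.inj_iff.mp ((sigmaι_eq_iff _ _ _ _ _).mp hy)
    refine ⟨(I i).subschemeι z', ?_⟩
    rw [sigmaSub_ι_apply]

theorem isPullback_sigmaSub (i : σ) :
    IsPullback (I i).subschemeι (Sigma.ι (fun i => (I i).subscheme) i) (Sigma.ι X i)
      (sigmaSub X I) :=
  IsOpenImmersion.isPullback _ _ _ _ (Limits.Sigma.ι_map _ _) (preimage_opensRange X I i)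

theorem quasiCompact_pullback_snd (i : σ) :
    QuasiCompact (pullback.snd (sigmaSub X I) (Sigma.ι X i)) := by
  have H := (isPullback_sigmaSub X I i).flip
  have h1 : pullback.snd (sigmaSub X I) (Sigma.ι X i) =
      H.isoPullback.inv ≫ (I i).subschemeι := by
    rw [Iso.eq_inv_comp]
    exact H.isoPullback_hom_snd
  rw [h1]
  infer_instance

set_option backward.isDefEq.respectTransparency.types false in
instance quasiCompact_sigmaSub : QuasiCompact (sigmaSub X I) := by
  apply IsZariskiLocalAtTarget.of_openCover (P := @QuasiCompact) (sigmaOpenCover X)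
  intro i
  exact quasiCompact_pullback_snd X I i

/-- The ideal sheaf on `∐ X` restricting to `I i` on the `i`-th summand. -/
noncomputable def sigmaIdeal : (∐ X).IdealSheafData := (sigmaSub X I).ker

theorem sigmaIdeal_comap_ι (i : σ) : (sigmaIdeal X I).comap (Sigma.ι X i) = I i := by
  ext U : 2
  rw [Scheme.IdealSheafData.ideal_comap_of_isOpenImmersion, sigmaIdeal,
    ← Scheme.ker_ideal_of_isPullback_of_isOpenImmersion (sigmaSub X I)
      (I i).subschemeι (Sigma.ι (fun i => (I i).subscheme) i) (Sigma.ι X i)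
      (isPullback_sigmaSub X I i) U, Scheme.IdealSheafData.ker_subschemeι]

variable {X}

/-- Ideal sheaves on `∐ X` are compared summandwise. -/
theorem le_of_forall_comap_ι_le {K L : (∐ X).IdealSheafData}
    (h : ∀ i, K.comap (Sigma.ι X i) ≤ L.comap (Sigma.ι X i)) : K ≤ L := by
  refine Scheme.IdealSheafData.le_of_iSup_eq_top
    (ι := Σ i, (X i).affineOpens)
    (fun p => ⟨Sigma.ι X p.1 ''ᵁ p.2.1, p.2.2.image_of_isOpenImmersion _⟩) ?_ ?_
  · rw [eq_top_iff]
    rintro x -
    obtain ⟨⟨j, x'⟩, rfl⟩ := (sigmaMk X).surjective x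
    rw [sigmaMk_mk]
    obtain ⟨_, ⟨V, hV, rfl⟩, hxV, -⟩ :=
      (X j).isBasis_affineOpens.exists_subset_of_mem_open (Set.mem_univ x') isOpen_univ
    exact TopologicalSpace.Opens.mem_iSup.mpr ⟨⟨j, ⟨V, hV⟩⟩, ⟨x', hxV, rfl⟩⟩
  · rintro ⟨i, U⟩
    have h1 := Scheme.IdealSheafData.ideal_comap_of_isOpenImmersion K (Sigma.ι X i) U
    have h2 := Scheme.IdealSheafData.ideal_comap_of_isOpenImmersion L (Sigma.ι X i) U
    have h3 := h i U
    rw [h1, h2] at h3
    intro s hs
    have hsurj : Function.Surjective ((Sigma.ι X i).appIso U.1).inv.hom :=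
      (ConcreteCategory.bijective_of_isIso ((Sigma.ι X i).appIso U.1).inv).2
    obtain ⟨t, rfl⟩ := hsurj s
    exact h3 hs

/-- Effective Cartier ideals on `∐ X` are detected summandwise. -/
theorem isEffCartierIdeal_of_forall_comap_ι {K : (∐ X).IdealSheafData}
    (h : ∀ i, BlowUp.IsEffCartierIdeal (K.comap (Sigma.ι X i))) : BlowUp.IsEffCartierIdeal K := by
  intro x
  obtain ⟨⟨j, x'⟩, rfl⟩ := (sigmaMk X).surjective x
  rw [sigmaMk_mk]
  obtain ⟨V, hxV, f, hf, hI⟩ := h j x'
  have hbij : Function.Bijective ((Sigma.ι X j).appIso V.1).inv.hom :=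
    ConcreteCategory.bijective_of_isIso ((Sigma.ι X j).appIso V.1).inv
  refine ⟨⟨Sigma.ι X j ''ᵁ V.1, V.2.image_of_isOpenImmersion _⟩, ⟨x', hxV, rfl⟩,
    ((Sigma.ι X j).appIso V.1).inv.hom f, ?_, ?_⟩
  · rw [mem_nonZeroDivisors_iff_right] at hf ⊢
    intro y hy
    obtain ⟨t, rfl⟩ := hbij.2 y
    rw [← map_mul] at hy
    have : t * f = 0 := hbij.1 (by rw [hy, map_zero])
    rw [hf t this, map_zero]
  · have h1 := Scheme.IdealSheafData.ideal_comap_of_isOpenImmersion K (Sigma.ι X j) V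
    rw [hI] at h1
    have h2 := Ideal.map_comap_of_surjective _ hbij.2
      (K.ideal ⟨Sigma.ι X j ''ᵁ V.1, V.2.image_of_isOpenImmersion _⟩)
    rw [← h1, Ideal.map_span, Set.image_singleton] at h2
    exact h2.symm

section Colimit

variable (F : Discrete σ ⥤ ModPair.Pair.{u})

/-- The coproduct of a family of modulus pairs. -/
noncomputable def coprodPair : ModPair.Pair.{u} where
  total := ∐ fun i => (F.obj ⟨i⟩).total
  mod := sigmaIdeal (fun i => (F.obj ⟨i⟩).total) (fun i => (F.obj ⟨i⟩).mod)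
  isEffCartier := isEffCartierIdeal_of_forall_comap_ι (fun i => by
    rw [sigmaIdeal_comap_ι]; exact (F.obj ⟨i⟩).isEffCartier)

/-- The coproduct cocone. -/
noncomputable def coprodCocone : Cocone F where
  pt := coprodPair F
  ι := Discrete.natTrans fun j =>
    ⟨Sigma.ι (fun i => (F.obj ⟨i⟩).total) j.as,
      (sigmaIdeal_comap_ι (fun i => (F.obj ⟨i⟩).total) (fun i => (F.obj ⟨i⟩).mod) j.as).ge⟩

theorem coprodCocone_ι_hom (i : σ) :
    ((coprodCocone F).ι.app ⟨i⟩).hom = Sigma.ι (fun i => (F.obj ⟨i⟩).total) i := rfl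

/-- The coproduct cocone is a colimit. -/
noncomputable def coprodIsColimit : IsColimit (coprodCocone F) where
  desc s := ⟨Sigma.desc fun i => (s.ι.app ⟨i⟩).hom, by
    change sigmaIdeal (fun i => (F.obj ⟨i⟩).total) (fun i => (F.obj ⟨i⟩).mod) ≤
      s.pt.mod.comap (Sigma.desc fun i => (s.ι.app ⟨i⟩).hom)
    refine le_of_forall_comap_ι_le (X := fun i => (F.obj ⟨i⟩).total) fun i => ?_
    rw [← Scheme.IdealSheafData.comap_comp, Limits.Sigma.ι_desc]
    exact (sigmaIdeal_comap_ι (fun i => (F.obj ⟨i⟩).total) (fun i => (F.obj ⟨i⟩).mod) i).le.trans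
      (s.ι.app ⟨i⟩).cond⟩
  fac s j := by
    obtain ⟨i⟩ := j
    apply ModPair.Pair.Hom.ext
    exact Limits.Sigma.ι_desc _ _
  uniq s m hm := by
    apply ModPair.Pair.Hom.ext
    refine Limits.Sigma.hom_ext _ _ fun i => ?_
    rw [Limits.Sigma.ι_desc]
    exact congrArg ModPair.Pair.Hom.hom (hm ⟨i⟩)

/-- The total-space functor maps the coproduct cocone to a colimit cocone. -/
noncomputable def forgetMapCoconeIsColimit :
    IsColimit (ModPair.Pair.forget.mapCocone (coprodCocone F)) where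
  desc s := Sigma.desc fun i => s.ι.app ⟨i⟩
  fac s j := by
    obtain ⟨i⟩ := j
    exact Limits.Sigma.ι_desc _ _
  uniq s m hm := by
    change (∐ fun i => (F.obj ⟨i⟩).total) ⟶ s.pt at m
    refine Limits.Sigma.hom_ext _ _ fun i => ?_
    have h2 : Sigma.ι (fun i => (F.obj ⟨i⟩).total) i ≫
        (Sigma.desc fun i => s.ι.app ⟨i⟩ : (∐ fun i => (F.obj ⟨i⟩).total) ⟶ s.pt) =
        s.ι.app ⟨i⟩ := Limits.Sigma.ι_desc (fun i => s.ι.app ⟨i⟩) i
    exact (hm ⟨i⟩).trans h2.symm

theorem hasColimit : HasColimit F := ⟨⟨⟨coprodCocone F, coprodIsColimit F⟩⟩⟩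

theorem preservesColimit : PreservesColimit F ModPair.Pair.forget.{u} :=
  preservesColimit_of_preserves_colimit_cocone (coprodIsColimit F) (forgetMapCoconeIsColimit F)

end Colimit

end Groth.Agent.Lib.Seat92.PairCoprod
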