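import Mathlib
import Groth.Agent.Lib.Seat92ImageLimit
import Groth.Agent.Lib.Seat92ProperLimit
import Groth.Agent.Lib.Seat92LimProper
import Groth.Agent.S0591

/-!
# A proper morphism over a limit is a limit of proper morphisms over the stages

Let `S = lim S_j` be a cofiltered limit of qcqs schemes with affine transition maps and `f : X ⟶ S`
proper.  Then there are a stage `i₀`, a diagram `X_k` (`k : Over i₀`) with affine transition maps,
proper morphisms `X_k ⟶ S_k` natural in `k`, and `X = lim X_k` compatibly with `f`.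
-/

set_option autoImplicit false
set_option linter.style.haveILetI false
universe u
open CategoryTheory CategoryTheory.Limits AlgebraicGeometry TopologicalSpace

namespace Groth.Agent.Lib.Seat92.ProperApprox

open Groth.Agent.Lib.Helper22.LimBC Groth.Agent.Lib.Seat92.ImageLimit

/-- A proper morphism to a qcqs scheme factors as a closed immersion followed by a proper morphism
of finite presentation. -/
theorem exists_closedImmersion_proper_fp {X S : Scheme.{u}} (f : X ⟶ S) [IsProper f]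
    [CompactSpace S] [QuasiSeparatedSpace S] :
    ∃ (Y : Scheme.{u}) (ι : X ⟶ Y) (g : Y ⟶ S), IsClosedImmersion ι ∧ IsProper g ∧
      LocallyOfFinitePresentation g ∧ ι ≫ g = f := by
  obtain ⟨K, _, _, E, cE, hcE, eE, hcl, hE⟩ :=
    Groth.Agent.Lib.Seat92.ProperLimit.exists_proper_fp_limit f
  obtain ⟨k⟩ := IsCofiltered.nonempty (C := K)
  obtain ⟨h1, h2, h3⟩ := hE k
  refine ⟨(E.obj k).left, eE.inv.left ≫ (cE.π.app k).left, (E.obj k).hom, ?_, h2, h3, ?_⟩
  · haveI : IsIso eE.inv.left := (inferInstance : IsIso ((Over.forget S).map eE.inv))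
    infer_instance
  · rw [Category.assoc, Over.w]
    exact Over.w eE.inv

section main

variable {J : Type u} [SmallCategory J] [IsCofiltered J] (D : J ⥤ Scheme.{u}) (c : Cone D)
  (hc : IsLimit c) [∀ (i j : J) (f : i ⟶ j), IsAffineHom (D.map f)]
  [∀ i, CompactSpace (D.obj i)] [∀ i, QuasiSeparatedSpace (D.obj i)]

include hc in
/-- A proper morphism of finite presentation over the limit descends to a proper morphism over some
stage. -/
theorem exists_proper_model {Y : Scheme.{u}} (g : Y ⟶ c.pt) [IsProper g]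
    [LocallyOfFinitePresentation g] :
    ∃ (i₀ : J) (Y₀ : Scheme.{u}) (g₀ : Y₀ ⟶ D.obj i₀) (q₀ : Y ⟶ Y₀), IsProper g₀ ∧
      IsPullback q₀ g g₀ (c.π.app i₀) := by
  have inst : ∀ {i j : J} (f : i ⟶ j), IsAffineHom (D.map f) := fun f => inferInstance
  obtain ⟨i₁, Y₁, g₁, q, hfp, hqc, hqs, hpb⟩ := Groth.Agent.S0591.result D c hc Y g
  haveI : CompactSpace Y₁ := QuasiCompact.compactSpace_of_compactSpace g₁
  haveI : QuasiSeparatedSpace Y₁ := quasiSeparatedSpace_of_quasiSeparated g₁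
  haveI : LocallyOfFiniteType g₁ := inferInstance
  have hY : IsPullback (c.π.app i₁) (𝟙 c.pt) (𝟙 (D.obj i₁)) (c.π.app i₁) := IsPullback.id_vert _
  obtain ⟨i₂, φ, Xi, Yi, fi, gi, pY, pX, h1, h2, h3⟩ :=
    Groth.Agent.Lib.Seat92.LimProper.exists_isProper_descend D c hc i₁ g₁ (𝟙 (D.obj i₁)) hY hpb
  haveI : IsIso gi := h1.isIso_snd_of_isIso
  have sq : IsPullback pX (fi ≫ gi) g₁ (D.map φ) := by
    have := h2.paste_vert h1
    rwa [Category.comp_id] at this
  have hw : q ≫ g₁ = (g ≫ c.π.app i₂) ≫ D.map φ := by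
    rw [Category.assoc, c.w, hpb.w]
  refine ⟨i₂, Xi, fi ≫ gi, sq.lift q (g ≫ c.π.app i₂) hw, inferInstance, ?_⟩
  refine IsPullback.of_right ?_ (sq.lift_snd _ _ hw) sq
  rw [sq.lift_fst, c.w]
  exact hpb

include hc in
/-- A proper morphism over the limit is a limit of proper morphisms over the stages. -/
theorem exists_proper_system {X : Scheme.{u}} (f : X ⟶ c.pt) [IsProper f] [CompactSpace c.pt]
    [QuasiSeparatedSpace c.pt] :
    ∃ (i₀ : J) (DX : Over i₀ ⥤ Scheme.{u}) (φ : DX ⟶ Over.forget i₀ ⋙ D) (cX : Cone DX)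
      (_ : IsLimit cX) (eX : cX.pt ≅ X),
      (∀ (j k : Over i₀) (a : j ⟶ k), IsAffineHom (DX.map a)) ∧ (∀ j, IsProper (φ.app j)) ∧
      ∀ j : Over i₀, cX.π.app j ≫ φ.app j = eX.hom ≫ f ≫ c.π.app j.left := by
  have inst : ∀ {i j : J} (f : i ⟶ j), IsAffineHom (D.map f) := fun f => inferInstance
  obtain ⟨Y, ι, g, hι, hg, hfp, hfac⟩ := exists_closedImmersion_proper_fp f
  obtain ⟨i₀, Y₀, g₀, q₀, hg₀, hpb⟩ := exists_proper_model D c hc g
  let DY := bcDiagram D i₀ g₀
  let cY : Cone DY := bcCone i₀ hpb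
  have hcY : IsLimit cY := isLimitBcCone i₀ hpb hc
  let ι' : X ⟶ cY.pt := ι
  haveI : IsClosedImmersion ι' := hι
  refine ⟨i₀, imgD DY cY ι', imgι DY cY ι' ≫ bcDiagramι D i₀ g₀, imgCone DY cY ι',
    imgIsLimit DY cY hcY ι', Iso.refl X, fun j k a => ?_, fun j => ?_, fun j => ?_⟩
  · exact imgD_affine DY cY ι' a
  · haveI : IsProper (dSnd D i₀ g₀ j) :=
      MorphismProperty.of_isPullback (P := @IsProper) (isPullback_d D i₀ g₀ j) hg₀
    show IsProper ((imgι DY cY ι').app j ≫ dSnd D i₀ g₀ j)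
    infer_instance
  · show (imgCone DY cY ι').π.app j ≫ (imgι DY cY ι').app j ≫ dSnd D i₀ g₀ j =
      𝟙 X ≫ f ≫ c.π.app j.left
    rw [← Category.assoc, imgCone_π_imgι, Category.id_comp, Category.assoc]
    show ι ≫ bcπ i₀ hpb j ≫ dSnd D i₀ g₀ j = f ≫ c.π.app j.left
    rw [bcπ_snd, ← Category.assoc, hfac]

end main

end Groth.Agent.Lib.Seat92.ProperApprox
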