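import Mathlib
import Groth.Agent.Lib.Helper18OverLoc

/-!
# Localization of a full subcategory of a slice category, closed under `W`-sources

Let `W` have a right calculus of fractions on `C`, `S : C`, and `P` a property of objects of
`Over S` such that the source of any morphism `t : X' ⟶ X` with `W t.left` and `P X` satisfies `P`.
Then `W` restricted to `P.FullSubcategory` has a right calculus of fractions, and the canonical
functor from the localization of `P.FullSubcategory` to `Over (L.obj S)` is full and faithful.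
-/

set_option autoImplicit false

universe v₁ v₂ v₃ u₁ u₂ u₃
open CategoryTheory

namespace Groth.Agent.Lib.Seat92.SubOverLoc

open Groth.Agent.Lib.Helper18OverLoc

variable {C : Type u₁} [Category.{v₁} C] (W : MorphismProperty C) (S : C)
  (P : ObjectProperty (Over S))

/-- The class `W` on the full subcategory of the slice. -/
abbrev WP : MorphismProperty P.FullSubcategory := (WS W S).inverseImage P.ι

variable {W S P}

/-- Lift a right fraction of the slice to the full subcategory. -/
def liftFrac (hP : ∀ ⦃X' X : Over S⦄ (t : X' ⟶ X), W t.left → P X → P X')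
    {X Y : P.FullSubcategory} (z : (WS W S).RightFraction X.obj Y.obj) :
    (WP W S P).RightFraction X Y where
  X' := ⟨z.X', hP z.s z.hs X.property⟩
  s := ObjectProperty.homMk z.s
  hs := z.hs
  f := ObjectProperty.homMk z.f

/-- The underlying right fraction of the slice. -/
def downFrac {X Y : P.FullSubcategory} (z : (WP W S P).RightFraction X Y) :
    (WS W S).RightFraction X.obj Y.obj :=
  ⟨z.s.hom, z.hs, z.f.hom⟩

theorem rcf [W.HasRightCalculusOfFractions]
    (hP : ∀ ⦃X' X : Over S⦄ (t : X' ⟶ X), W t.left → P X → P X') :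
    (WP W S P).HasRightCalculusOfFractions where
  exists_rightFraction X Y φ := by
    obtain ⟨ψ, hψ⟩ := MorphismProperty.HasRightCalculusOfFractions.exists_rightFraction
      (W := WS W S) (X := X.obj) (Y := Y.obj) ⟨φ.f.hom, φ.s.hom, φ.hs⟩
    refine ⟨liftFrac hP ψ, ?_⟩
    apply ObjectProperty.hom_ext
    exact hψ
  ext X Y Y' f₁ f₂ s hs h := by
    obtain ⟨X', t, ht, hh⟩ := MorphismProperty.HasRightCalculusOfFractions.ext
      (W := WS W S) f₁.hom f₂.hom s.hom hs (congrArg (fun m => m.hom) h)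
    exact ⟨⟨X', hP t ht X.property⟩, ObjectProperty.homMk t, ht, ObjectProperty.hom_ext _ hh⟩

variable {D : Type u₂} [Category.{v₂} D] (L : C ⥤ D) [L.IsLocalization W]

lemma invG : (WP W S P).IsInvertedBy (P.ι ⋙ Over.post (X := S) L) := by
  intro X Y f hf
  exact invF L f.hom hf

lemma downFrac_map {X Y : P.FullSubcategory} (z : (WP W S P).RightFraction X Y) :
    z.map (P.ι ⋙ Over.post (X := S) L) (invG L) =
      (downFrac z).map (Over.post (X := S) L) (invF L) := by
  have : IsIso ((P.ι ⋙ Over.post (X := S) L).map z.s) := invG L _ z.hs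
  rw [← cancel_epi ((P.ι ⋙ Over.post (X := S) L).map z.s),
    MorphismProperty.RightFraction.map_s_comp_map]
  exact (MorphismProperty.RightFraction.map_s_comp_map (downFrac z)
    (Over.post (X := S) L) (invF L)).symm

theorem main [W.HasRightCalculusOfFractions]
    (hP : ∀ ⦃X' X : Over S⦄ (t : X' ⟶ X), W t.left → P X → P X')
    {E : Type u₃} [Category.{v₃} E] (L' : P.FullSubcategory ⥤ E)
    [L'.IsLocalization ((W.inverseImage (Over.forget S)).inverseImage P.ι)]
    (Φ : E ⥤ Over (L.obj S)) (e : L' ⋙ Φ ≅ P.ι ⋙ Over.post L) : Φ.Full ∧ Φ.Faithful := by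
  have hrcf : (WP W S P).HasRightCalculusOfFractions := rcf hP
  have hL' : (WP W S P).IsInvertedBy L' := Localization.inverts L' _
  have hcomp : (WP W S P).IsInvertedBy (L' ⋙ Φ) := fun X Y f hf => by
    have := hL' f hf
    dsimp
    infer_instance
  have key : ∀ {X Y : P.FullSubcategory} (z : (WP W S P).RightFraction X Y),
      Φ.map (z.map L' hL') =
        e.hom.app X ≫ z.map (P.ι ⋙ Over.post L) (invG L) ≫ e.inv.app Y := by
    intro X Y z
    have h := map_natIso e hcomp (invG L) z
    rw [← map_comp_functor L' Φ hL' hcomp, ← Category.assoc, ← h]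
    simp
  have : L'.EssSurj := Localization.essSurj L' (WP W S P)
  have hfull : Φ.Full := by
    refine ⟨fun {e₁ e₂} g => ?_⟩
    let a₁ : L'.obj (L'.objPreimage e₁) ≅ e₁ := L'.objObjPreimageIso e₁
    let a₂ : L'.obj (L'.objPreimage e₂) ≅ e₂ := L'.objObjPreimageIso e₂
    obtain ⟨z, hz⟩ := exists_fraction (W := W) L (L'.objPreimage e₁).obj (L'.objPreimage e₂).obj
      (e.inv.app _ ≫ Φ.map a₁.hom ≫ g ≫ Φ.map a₂.inv ≫ e.hom.app _)
    refine ⟨a₁.inv ≫ (liftFrac hP z).map L' hL' ≫ a₂.hom, ?_⟩
    have hz' : (liftFrac hP z).map (P.ι ⋙ Over.post L) (invG L) =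
        z.map (Over.post (X := S) L) (invF L) := downFrac_map L (liftFrac hP z)
    rw [Φ.map_comp, Φ.map_comp, key, hz', ← hz]
    simp [← Φ.map_comp_assoc, ← Φ.map_comp]
  have hfaith : Φ.Faithful := by
    refine ⟨fun {e₁ e₂} u v huv => ?_⟩
    let a₁ : L'.obj (L'.objPreimage e₁) ≅ e₁ := L'.objObjPreimageIso e₁
    let a₂ : L'.obj (L'.objPreimage e₂) ≅ e₂ := L'.objObjPreimageIso e₂
    obtain ⟨z₁, hz₁⟩ := Localization.exists_rightFraction L' (WP W S P) (a₁.hom ≫ u ≫ a₂.inv)
    obtain ⟨z₂, hz₂⟩ := Localization.exists_rightFraction L' (WP W S P) (a₁.hom ≫ v ≫ a₂.inv)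
    have h3 : Φ.map (z₁.map L' hL') = Φ.map (z₂.map L' hL') := by
      rw [← hz₁, ← hz₂]
      simp [huv]
    rw [key, key] at h3
    have h4 : z₁.map (P.ι ⋙ Over.post L) (invG L) = z₂.map (P.ι ⋙ Over.post L) (invG L) := by
      simpa using h3
    rw [downFrac_map, downFrac_map] at h4
    obtain ⟨Z, t₁, t₂, hst, hft, ht⟩ := rel_of_map_eq L (downFrac z₁) (downFrac z₂) h4
    have h5 : MorphismProperty.RightFractionRel z₁ z₂ := by
      refine ⟨⟨Z, hP (t₁ ≫ (downFrac z₁).s) ht (L'.objPreimage e₁).property⟩,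
        ObjectProperty.homMk t₁, ObjectProperty.homMk t₂, ?_, ?_, ?_⟩
      · exact ObjectProperty.hom_ext _ hst
      · exact ObjectProperty.hom_ext _ hft
      · exact ht
    have h6 : z₁.map L' hL' = z₂.map L' hL' :=
      (MorphismProperty.RightFraction.map_eq_iff L' (WP W S P) z₁ z₂).2 h5
    have h7 : a₁.hom ≫ u ≫ a₂.inv = a₁.hom ≫ v ≫ a₂.inv := by rw [hz₁, hz₂, h6]
    simpa using h7
  exact ⟨hfull, hfaith⟩

end Groth.Agent.Lib.Seat92.SubOverLoc
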