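import Mathlib

/-!
# Points of equidimensional one-dimensional spaces; reduced generic stalks (seat 93)

Namespace `Groth.Agent.Lib.Seat93.DimOne`.

* `isClosed_singleton_of_not_generic`: in a T0 space all of whose irreducible components have
  dimension one, a point whose closure is not an irreducible component is closed.
* `finite_of_forall_isClosed_singleton`: in a Noetherian quasi-sober space, a locally closed set
  `V ∩ C` all of whose points are closed is finite.
* `germ_eq_zero_of_generic`: on a reduced scheme, a function vanishing at the generic point of an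
  irreducible component has zero germ there.
-/
set_option autoImplicit false
universe u

namespace Groth.Agent.Lib.Seat93.DimOne

open TopologicalSpace

section topology

variable {X : Type*} [TopologicalSpace X]

/-- In a T0 space all of whose irreducible components have dimension one, a point whose closure is
not an irreducible component is closed. -/
theorem isClosed_singleton_of_not_generic [T0Space X]
    (hequi : ∀ Z ∈ irreducibleComponents X, topologicalKrullDim ↥Z = 1)
    (y : X) (hy : closure ({y} : Set X) ∉ irreducibleComponents X) : IsClosed ({y} : Set X) := by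
  obtain ⟨Z, hZ, hyZ⟩ := exists_mem_irreducibleComponents_subset_of_isIrreducible
    (closure ({y} : Set X)) isIrreducible_singleton.closure
  have hZirr : IsIrreducible Z := hZ.1
  have hZcl : IsClosed Z := isClosed_of_mem_irreducibleComponents Z hZ
  have hyZ' : y ∈ Z := hyZ (subset_closure rfl)
  suffices hcl : closure ({y} : Set X) = {y} by
    rw [← hcl]; exact isClosed_closure
  apply Set.Subset.antisymm _ subset_closure
  intro y' hy'
  by_contra hne
  have hne' : y' ≠ y := hne
  have hy'Z : y' ∈ Z := hyZ hy'
  have : IrreducibleSpace ↥Z := Subtype.irreducibleSpace hZirr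
  -- three irreducible closed subsets of `Z`
  let p : ↥Z := ⟨y, hyZ'⟩
  let p' : ↥Z := ⟨y', hy'Z⟩
  let a0 : IrreducibleCloseds ↥Z := ⟨closure {p'}, isIrreducible_singleton.closure, isClosed_closure⟩
  let a1 : IrreducibleCloseds ↥Z := ⟨closure {p}, isIrreducible_singleton.closure, isClosed_closure⟩
  let a2 : IrreducibleCloseds ↥Z := ⟨Set.univ, IrreducibleSpace.isIrreducible_univ ↥Z, isClosed_univ⟩
  have hspec : ∀ q q' : ↥Z, q' ∈ closure ({q} : Set ↥Z) ↔ (q' : X) ∈ closure ({(q : X)} : Set X) := by
    intro q q'
    rw [← specializes_iff_mem_closure, ← specializes_iff_mem_closure]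
    exact subtype_specializes_iff q q'
  have h01 : a0 < a1 := by
    refine lt_of_le_of_ne ?_ ?_
    · change closure ({p'} : Set ↥Z) ⊆ closure {p}
      refine closure_minimal ?_ isClosed_closure
      rw [Set.singleton_subset_iff, hspec]
      exact hy'
    · intro h
      have h1 : p ∈ closure ({p'} : Set ↥Z) := by
        have : p ∈ (a1 : Set ↥Z) := subset_closure rfl
        rw [← h] at this
        exact this
      rw [hspec] at h1
      have s1 : y' ⤳ y := specializes_iff_mem_closure.2 h1
      have s2 : y ⤳ y' := specializes_iff_mem_closure.2 hy'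
      exact hne' (s1.antisymm s2).eq
  have h12 : a1 < a2 := by
    refine lt_of_le_of_ne (fun _ _ => Set.mem_univ _) ?_
    intro h
    apply hy
    have hsub : Z ⊆ closure ({y} : Set X) := by
      intro z hz
      have h1 : (⟨z, hz⟩ : ↥Z) ∈ (a1 : Set ↥Z) := by rw [h]; exact Set.mem_univ _
      exact (hspec p ⟨z, hz⟩).1 h1
    rw [← Set.Subset.antisymm hsub hyZ]
    exact hZ
  let ser : LTSeries (IrreducibleCloseds ↥Z) :=
    ((RelSeries.singleton _ a0).snoc a1 (by simpa using h01)).snoc a2 (by simpa using h12)
  have hlen : (ser.length : WithBot ℕ∞) ≤ topologicalKrullDim ↥Z := Order.LTSeries.length_le_krullDim ser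
  rw [hequi Z hZ] at hlen
  have h2 : ser.length = 2 := rfl
  rw [h2] at hlen
  exact absurd hlen (by norm_num)

/-- In a Noetherian quasi-sober space, a locally closed set `V ∩ C` all of whose points are closed
is finite. -/
theorem finite_of_forall_isClosed_singleton [NoetherianSpace X] [QuasiSober X]
    (V C : Set X) (hV : IsOpen V) (hC : IsClosed C)
    (hcl : ∀ z ∈ V ∩ C, IsClosed ({z} : Set X)) : (V ∩ C).Finite := by
  suffices h : ∀ K : Closeds X, ((V ∩ C) ∩ (K : Set X)).Finite by
    have := h ⊤
    simpa using this
  intro K
  induction K using WellFoundedLT.induction with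
  | ind K IH =>
    obtain ⟨T, hTfin, hTirr, hKT⟩ := NoetherianSpace.exists_finite_set_closeds_irreducible K
    have hsub : ((V ∩ C) ∩ (K : Set X)) ⊆ ⋃ t ∈ T, ((V ∩ C) ∩ (t : Set X)) := by
      intro z hz
      have hzK : z ∈ (K : Set X) := hz.2
      rw [hKT] at hzK
      have hclosed : IsClosed (⋃₀ ((fun t : Closeds X => (t : Set X)) '' T)) := by
        rw [Set.sUnion_image]
        exact hTfin.isClosed_biUnion (fun t _ => t.isClosed)
      have : z ∈ ⋃ t ∈ T, (t : Set X) := by
        have h1 := hzK
        rw [Closeds.coe_sSup, hclosed.closure_eq, Set.sUnion_image] at h1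
        exact h1
      simp only [Set.mem_iUnion] at this ⊢
      obtain ⟨t, ht, hzt⟩ := this
      exact ⟨t, ht, hz.1, hzt⟩
    refine (hTfin.biUnion fun t ht => ?_).subset hsub
    have htK : t ≤ K := by
      rw [hKT]; exact le_sSup ht
    rcases lt_or_eq_of_le htK with hlt | heq
    · exact IH t hlt
    · subst heq
      have hirr : IsIrreducible (t : Set X) := hTirr t ht
      by_cases hemp : ((V ∩ C) ∩ (t : Set X)).Nonempty
      · obtain ⟨z, ⟨hzV, hzC⟩, hzt⟩ := hemp
        obtain ⟨g, hg⟩ := QuasiSober.sober hirr t.isClosed
        have hgt : closure ({g} : Set X) = (t : Set X) := hg.def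
        have hzg : z ∈ closure ({g} : Set X) := by rw [hgt]; exact hzt
        have hgV : g ∈ V := by
          obtain ⟨w, hwV, hw⟩ := mem_closure_iff.1 hzg V hV hzV
          rw [Set.mem_singleton_iff] at hw
          rwa [hw] at hwV
        by_cases hgC : g ∈ C
        · have hgcl : IsClosed ({g} : Set X) := hcl g ⟨hgV, hgC⟩
          rw [hgcl.closure_eq] at hgt
          rw [← hgt]
          exact (Set.finite_singleton g).subset Set.inter_subset_right
        · let K' : Closeds X := t ⊓ ⟨C, hC⟩
          have hlt : K' < t := by
            refine lt_of_le_of_ne inf_le_left ?_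
            intro h
            apply hgC
            have hgt' : g ∈ (t : Set X) := by rw [← hgt]; exact subset_closure rfl
            have : g ∈ (K' : Set X) := by rw [h]; exact hgt'
            exact this.2
          refine (IH K' hlt).subset ?_
          intro w hw
          exact ⟨hw.1, hw.2, hw.1.2⟩
      · rw [Set.not_nonempty_iff_eq_empty] at hemp
        rw [hemp]
        exact Set.finite_empty

end topology

section scheme

open AlgebraicGeometry

/-- On a reduced scheme, a function vanishing at the generic point of an irreducible component has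
zero germ there. -/
theorem germ_eq_zero_of_generic {X : Scheme.{u}} [IsReduced X] (y : X)
    (hy : closure ({y} : Set X) ∈ irreducibleComponents X) (U : X.Opens) (hyU : y ∈ U)
    (f : Γ(X, U)) (hf : y ∉ X.basicOpen f) : X.presheaf.germ U y hyU f = 0 := by
  set a := X.presheaf.germ U y hyU f with ha
  have hnu : ¬ IsUnit a := by
    intro h
    exact hf ((X.mem_basicOpen f y hyU).2 h)
  -- the spectrum of the stalk is a single point
  have hsub : Subsingleton (PrimeSpectrum (X.presheaf.stalk y)) := by
    refine ⟨fun p q => ?_⟩
    have hinj : Function.Injective (X.fromSpecStalk y).base :=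
      (X.fromSpecStalk y).isEmbedding.injective
    have hall : ∀ r : Spec (X.presheaf.stalk y), (X.fromSpecStalk y).base r = y := by
      intro r
      have h1 : (X.fromSpecStalk y).base r ∈ Set.range (X.fromSpecStalk y).base := ⟨r, rfl⟩
      rw [Scheme.range_fromSpecStalk] at h1
      have hs : (X.fromSpecStalk y).base r ⤳ y := h1
      have hle : closure ({y} : Set X) ⊆ closure {(X.fromSpecStalk y).base r} :=
        closure_minimal (Set.singleton_subset_iff.2 (specializes_iff_mem_closure.1 hs))
          isClosed_closure
      have heq := hy.eq_of_subset isIrreducible_singleton.closure hle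
      have hs' : y ⤳ (X.fromSpecStalk y).base r := by
        rw [specializes_iff_mem_closure, heq]
        exact subset_closure rfl
      exact (hs.antisymm hs').eq
    exact hinj ((hall p).trans (hall q).symm)
  have hnil : IsNilpotent a := by
    rw [← mem_nilradical, nilradical_eq_sInf, Ideal.mem_sInf]
    intro I hI
    have hIp : I.IsPrime := hI
    have hmax : IsLocalRing.maximalIdeal (X.presheaf.stalk y) = I := by
      have := hsub.elim ⟨IsLocalRing.maximalIdeal (X.presheaf.stalk y), inferInstance⟩ ⟨I, hIp⟩
      exact congrArg PrimeSpectrum.asIdeal this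
    rw [← hmax]
    exact (IsLocalRing.mem_maximalIdeal a).2 hnu
  exact hnil.eq_zero

end scheme

end Groth.Agent.Lib.Seat93.DimOne
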