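import Mathlib

/-!
# Formal unramifiedness of a finitely generated algebra over an algebraically closed field
is detected by dual-number points (seat 93)

* `exists_algHom_of_isMaximal`: every maximal ideal of a f.g. algebra over an algebraically closed
  field `k` is the kernel of a `k`-point.
* `formallyUnramified_of_dualNumber`: if two `k`-algebra maps `B → k[ε]` agreeing modulo `ε`
  are always equal, then `B` is formally unramified over `k`.
-/
set_option autoImplicit false
universe u

namespace Groth.Agent.Lib.Seat93.DualNum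

open KaehlerDifferential

variable (k : Type u) [Field k] [IsAlgClosed k] (B : Type u) [CommRing B] [Algebra k B]
  [Algebra.FiniteType k B]

/-- Every maximal ideal of a finitely generated algebra over an algebraically closed field is the
kernel of a rational point. -/
theorem exists_algHom_of_isMaximal (m : Ideal B) [hm : m.IsMaximal] :
    ∃ π : B →ₐ[k] k, ∀ b, b - algebraMap k B (π b) ∈ m := by
  letI : Field (B ⧸ m) := Ideal.Quotient.field m
  haveI : Algebra.FiniteType k (B ⧸ m) :=
    Algebra.FiniteType.of_surjective (Ideal.Quotient.mkₐ k m) Ideal.Quotient.mk_surjective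
  haveI : Module.Finite k (B ⧸ m) := finite_of_finite_type_of_isJacobsonRing k (B ⧸ m)
  have hbij : Function.Bijective (algebraMap k (B ⧸ m)) :=
    IsAlgClosed.algebraMap_bijective_of_isIntegral
  let e : k ≃ₐ[k] (B ⧸ m) := AlgEquiv.ofBijective (Algebra.ofId k (B ⧸ m)) hbij
  refine ⟨(e.symm : (B ⧸ m) →ₐ[k] k).comp (Ideal.Quotient.mkₐ k m), fun b => ?_⟩
  rw [← Ideal.Quotient.eq]
  have h1 : (Ideal.Quotient.mk m) (algebraMap k B
      (((e.symm : (B ⧸ m) →ₐ[k] k).comp (Ideal.Quotient.mkₐ k m)) b))
      = e (e.symm (Ideal.Quotient.mk m b)) := rfl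
  rw [h1, AlgEquiv.apply_symm_apply]

variable {k B}

/-- If `k`-algebra maps `B → k[ε]` are determined by their reduction modulo `ε`, then `B` is
formally unramified over `k` (`k` algebraically closed, `B` finitely generated). -/
theorem formallyUnramified_of_dualNumber
    (H : ∀ g₁ g₂ : B →ₐ[k] DualNumber k,
      (TrivSqZeroExt.fstHom k k k).comp g₁ = (TrivSqZeroExt.fstHom k k k).comp g₂ → g₁ = g₂) :
    Algebra.FormallyUnramified k B := by
  classical
  rw [Algebra.formallyUnramified_iff]
  by_contra hns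
  have hann : Module.annihilator B Ω[B⁄k] ≠ ⊤ := by
    intro h
    exact hns (Module.annihilator_eq_top_iff.1 h)
  obtain ⟨m, hm, hle⟩ := Ideal.exists_le_maximal _ hann
  haveI := hm
  have hne : m • (⊤ : Submodule B Ω[B⁄k]) ≠ ⊤ := by
    intro htop
    obtain ⟨r, hr1, hr0⟩ := Submodule.exists_sub_one_mem_and_smul_eq_zero_of_fg_of_le_smul m
      (⊤ : Submodule B Ω[B⁄k]) Module.Finite.fg_top (by rw [htop])
    have h1 : r ∈ Module.annihilator B Ω[B⁄k] :=
      Module.mem_annihilator.2 (fun n => hr0 n trivial)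
    have h2 : r ∈ m := hle h1
    have h3 : (1 : B) ∈ m := by
      have := m.sub_mem h2 hr1
      simpa using this
    exact hm.ne_top ((Ideal.eq_top_iff_one m).2 h3)
  obtain ⟨ω, hω⟩ : ∃ ω : Ω[B⁄k], ω ∉ m • (⊤ : Submodule B Ω[B⁄k]) := by
    by_contra hcon
    push Not at hcon
    exact hne (eq_top_iff.2 fun x _ => hcon x)
  obtain ⟨π, hπ⟩ := exists_algHom_of_isMaximal k B m
  -- a `k`-linear functional vanishing on `m Ω` but not at `ω`
  set P : Submodule k Ω[B⁄k] := (m • (⊤ : Submodule B Ω[B⁄k])).restrictScalars k with hP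
  obtain ⟨Λ, hΛω, hΛP⟩ := Submodule.exists_dual_map_eq_bot_of_notMem (p := P) (x := ω) hω
    inferInstance
  have hΛ0 : ∀ x ∈ m • (⊤ : Submodule B Ω[B⁄k]), Λ x = 0 := by
    intro x hx
    have : Λ x ∈ P.map Λ := Submodule.mem_map_of_mem (show x ∈ P from hx)
    rw [hΛP] at this
    exact (Submodule.mem_bot k).1 this
  -- semilinearity over `π`
  have hsemi : ∀ (a : B) (x : Ω[B⁄k]), Λ (a • x) = π a * Λ x := by
    intro a x
    have h1 : (a - algebraMap k B (π a)) • x ∈ m • (⊤ : Submodule B Ω[B⁄k]) :=
      Submodule.smul_mem_smul (hπ a) trivial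
    have h2 := hΛ0 _ h1
    rw [sub_smul, map_sub, sub_eq_zero, algebraMap_smul] at h2
    rw [h2, LinearMap.map_smul, smul_eq_mul]
  -- the two dual-number points
  let f : B →ₗ[k] DualNumber k :=
    (TrivSqZeroExt.inlAlgHom k k k).toLinearMap ∘ₗ π.toLinearMap +
      (TrivSqZeroExt.inrHom k k) ∘ₗ Λ ∘ₗ (D k B).toLinearMap
  have hf : ∀ b, f b = TrivSqZeroExt.inl (π b) + TrivSqZeroExt.inr (Λ (D k B b)) := fun b => rfl
  let g₁ : B →ₐ[k] DualNumber k := AlgHom.ofLinearMap f
    (by
      rw [hf]
      simp)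
    (by
      intro x y
      rw [hf, hf, hf]
      apply TrivSqZeroExt.ext
      · simp
      · simp only [TrivSqZeroExt.snd_add, TrivSqZeroExt.snd_inl, TrivSqZeroExt.snd_inr, zero_add,
          TrivSqZeroExt.snd_mul, TrivSqZeroExt.fst_add, TrivSqZeroExt.fst_inl,
          TrivSqZeroExt.fst_inr, add_zero, Derivation.leibniz, map_add, hsemi, smul_eq_mul,
          MulOpposite.smul_eq_mul_unop, MulOpposite.unop_op]
        ring)
  let g₂ : B →ₐ[k] DualNumber k := (TrivSqZeroExt.inlAlgHom k k k).comp π
  have hg : g₁ = g₂ := by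
    apply H
    ext b
    change (f b).fst = (TrivSqZeroExt.inl (π b) : DualNumber k).fst
    rw [hf]
    simp
  have hD : ∀ b, Λ (D k B b) = 0 := by
    intro b
    have h1 : (g₁ b).snd = (g₂ b).snd := by rw [hg]
    change (f b).snd = (TrivSqZeroExt.inl (π b) : DualNumber k).snd at h1
    rw [hf] at h1
    simpa using h1
  -- hence `Λ = 0` on the whole of `Ω`
  let Q : Submodule B Ω[B⁄k] :=
    { carrier := {x | Λ x = 0}
      add_mem' := fun {x y} hx hy => by
        change Λ (x + y) = 0
        rw [map_add, show Λ x = 0 from hx, show Λ y = 0 from hy, add_zero]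
      zero_mem' := map_zero Λ
      smul_mem' := fun a x hx => by
        change Λ (a • x) = 0
        rw [hsemi, show Λ x = 0 from hx, mul_zero] }
  have hQ : Q = ⊤ := by
    rw [eq_top_iff, ← KaehlerDifferential.span_range_derivation k B, Submodule.span_le]
    rintro _ ⟨b, rfl⟩
    exact hD b
  have : ω ∈ Q := by rw [hQ]; trivial
  exact hΛω this

end Groth.Agent.Lib.Seat93.DualNum
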