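import Mathlib
import Groth.Prelude.Def_TorSh
import Groth.Agent.Lib.Helper1Sky2
import Groth.Agent.Lib.Helper2QCoh
import Groth.Agent.Lib.Helper2QcPush
import Groth.Agent.Lib.Helper4NormDelta
import Groth.Agent.Lib.Helper23StalkLin
import Groth.Agent.Lib.Helper23ModLocal
set_option backward.isDefEq.respectTransparency.types false

/-!
# The sheaf of rational functions `j_* O_{Spec K}` on an integral scheme (seat 93)
-/

set_option autoImplicit false
universe u
open CategoryTheory CategoryTheory.Limits TopCat TopologicalSpace Opposite AlgebraicGeometry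

namespace Groth.Agent.Lib.Seat93.RatFun

open Groth.Agent.Lib.Helper2

variable (X : Scheme.{u}) [IsIntegral X]

/-- a section of a torsion-free quasi-coherent module on an integral scheme with vanishing germ at
the generic point is zero -/
theorem eq_zero_of_germ_generic (F : X.Modules) [F.IsQuasicoherent]
    (hF : TorSh.IsTorsionFree F) (U : X.Opens) (hη : genericPoint X ∈ U) (s : Γ(F, U))
    (hs : F.presheaf.germ U (genericPoint X) hη s = 0) : s = 0 := by
  apply QcPush.section_eq_zero_of_germ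
  intro y hy
  obtain ⟨W, hWaff, hyW, hWU⟩ : ∃ W : X.Opens, IsAffineOpen W ∧ y ∈ W ∧ W ≤ U := by
    obtain ⟨W, hW, hyW, hWU⟩ :=
      TopologicalSpace.Opens.isBasis_iff_nbhd.mp (X.isBasis_affineOpens) hy
    exact ⟨W, hW, hyW, hWU⟩
  have hηW : genericPoint X ∈ W :=
    ((genericPoint_spec X).mem_open_set_iff W.2).2 ⟨y, Set.mem_univ _, hyW⟩
  set m : Γ(F, W) := F.presheaf.map (homOfLE hWU).op s with hmdef
  have hm : F.presheaf.germ W y hyW m = F.presheaf.germ U y hy s :=
    TopCat.Presheaf.germ_res_apply F.presheaf (homOfLE hWU) y hyW s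
  have hmη : F.presheaf.germ W (genericPoint X) hηW m = 0 := by
    rw [hmdef, TopCat.Presheaf.germ_res_apply F.presheaf (homOfLE hWU) _ hηW s, hs]
  rw [← hm]
  obtain ⟨a, haη, ham⟩ := QCoh.exists_smul_eq_zero_of_germ_eq_zero hWaff F _ hηW m hmη
  have ha0 : a ≠ 0 := by
    rintro rfl
    rw [Scheme.basicOpen_zero] at haη
    exact haη
  have hne : X.presheaf.germ W y hyW a ≠ 0 := by
    intro h
    exact ha0 (germ_injective_of_isIntegral X y hyW (by rw [h, map_zero]))
  have h3 : X.presheaf.germ W y hyW a • F.presheaf.germ W y hyW m = 0 := by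
    rw [← QCoh.germ_smul, ham, map_zero]
  have hreg := (hF y).isSMulRegular (IsRegular.of_ne_zero hne)
  exact hreg (h3.trans (smul_zero _).symm)


/-! ### the sheaf of rational functions -/

/-- the function field, as the stalk at the generic point -/
noncomputable abbrev Kη : CommRingCat.{u} := X.presheaf.stalk (genericPoint X)

/-- the canonical morphism `Spec K ⟶ X` -/
noncomputable abbrev jj : Spec (X.presheaf.stalk (genericPoint X)) ⟶ X :=
  X.fromSpecStalk (genericPoint X)

/-- the sheaf of rational functions `j_* O_{Spec K}` -/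
noncomputable abbrev KK : X.Modules :=
  (Scheme.Modules.pushforward (jj X)).obj
    (Coh.structureModule (Spec (X.presheaf.stalk (genericPoint X))))

lemma pre_eq_top (U : X.Opens) (hη : genericPoint X ∈ U) : (jj X) ⁻¹ᵁ U = ⊤ := by
  ext pt
  simp only [Opens.coe_top, Set.mem_univ, iff_true]
  have : Subsingleton ↥(Spec (Kη X)) := inferInstanceAs (Subsingleton (PrimeSpectrum (Kη X)))
  have h1 : pt = IsLocalRing.closedPoint ↑(X.presheaf.stalk (genericPoint X)) :=
    Subsingleton.elim _ _
  show (jj X) pt ∈ U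
  rw [h1, Scheme.fromSpecStalk_closedPoint]
  exact hη

lemma pre_eq_bot (U : X.Opens) (hη : genericPoint X ∉ U) : (jj X) ⁻¹ᵁ U = ⊥ := by
  ext pt
  simp only [Opens.coe_bot, Set.mem_empty_iff_false, iff_false]
  have : Subsingleton ↥(Spec (Kη X)) := inferInstanceAs (Subsingleton (PrimeSpectrum (Kη X)))
  have h1 : pt = IsLocalRing.closedPoint ↑(X.presheaf.stalk (genericPoint X)) :=
    Subsingleton.elim _ _
  show ¬ (jj X) pt ∈ U
  rw [h1, Scheme.fromSpecStalk_closedPoint]
  exact hη

lemma res_bijective {Y : Scheme.{u}} {A B : Y.Opens} (f : A ⟶ B) (h : B ≤ A) :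
    Function.Bijective (Y.presheaf.map f.op) := by
  rw [Function.bijective_iff_has_inverse]
  refine ⟨Y.presheaf.map (homOfLE h).op, fun s => ?_, fun s => ?_⟩
  · have h1 : f.op ≫ (homOfLE h).op = 𝟙 _ := Subsingleton.elim _ _
    have h2 : Y.presheaf.map f.op ≫ Y.presheaf.map (homOfLE h).op = 𝟙 _ := by
      rw [← Functor.map_comp, h1, CategoryTheory.Functor.map_id]
    exact congrArg (fun g => g.hom s) h2
  · have h1 : (homOfLE h).op ≫ f.op = 𝟙 _ := Subsingleton.elim _ _
    have h2 : Y.presheaf.map (homOfLE h).op ≫ Y.presheaf.map f.op = 𝟙 _ := by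
      rw [← Functor.map_comp, h1, CategoryTheory.Functor.map_id]
    exact congrArg (fun g => g.hom s) h2

/-- restriction maps of `𝒦` between opens containing the generic point are bijective -/
lemma KK_res_bijective {U V : X.Opens} (i : V ⟶ U) (hη : genericPoint X ∈ V) :
    Function.Bijective ((KK X).presheaf.map i.op) := by
  have hV := pre_eq_top X V hη
  have hU := pre_eq_top X U (i.le hη)
  exact res_bijective (Y := Spec (Kη X)) ((Opens.map (jj X).base).map i) (by rw [hU, hV])

lemma KK_germ_injective (U : X.Opens) (hη : genericPoint X ∈ U) :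
    Function.Injective ((KK X).presheaf.germ U (genericPoint X) hη) := by
  rw [injective_iff_map_eq_zero]
  intro m hm
  have h0 : (KK X).presheaf.germ U (genericPoint X) hη m =
      (KK X).presheaf.germ U (genericPoint X) hη 0 := by rw [hm, map_zero]
  obtain ⟨W, hW, i₁, i₂, hres⟩ := (KK X).presheaf.germ_eq (genericPoint X) hη hη m 0 h0
  rw [map_zero] at hres
  exact (KK_res_bijective X i₁ hW).1 (hres.trans (map_zero _).symm)

lemma KK_germ_surjective (U : X.Opens) (hη : genericPoint X ∈ U) :
    Function.Surjective ((KK X).presheaf.germ U (genericPoint X) hη) := by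
  intro d
  obtain ⟨V, hV, m', rfl⟩ := (KK X).presheaf.exists_germ_eq d
  have hW : genericPoint X ∈ U ⊓ V := ⟨hη, hV⟩
  obtain ⟨m, hm⟩ := (KK_res_bijective X (homOfLE (inf_le_left : U ⊓ V ≤ U)) hW).2
    ((KK X).presheaf.map (homOfLE (inf_le_right : U ⊓ V ≤ V)).op m')
  refine ⟨m, ?_⟩
  rw [← TopCat.Presheaf.germ_res_apply (KK X).presheaf (homOfLE (inf_le_left : U ⊓ V ≤ U)) _ hW m,
    hm, TopCat.Presheaf.germ_res_apply (KK X).presheaf (homOfLE (inf_le_right : U ⊓ V ≤ V)) _ hW m']

/-- sections of `𝒦` over an open not containing the generic point vanish -/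
lemma KK_eq_zero (U : X.Opens) (hη : genericPoint X ∉ U) (m : Γ(KK X, U)) : m = 0 := by
  apply QcPush.section_eq_zero_of_germ
  intro y hy
  exact absurd (((genericPoint_spec X).mem_open_set_iff U.2).2 ⟨y, Set.mem_univ _, hy⟩) hη

/-- the unit section of `𝒦` -/
noncomputable def oneK (U : X.Opens) : Γ(KK X, U) :=
  (show Γ(KK X, U) from (1 : Γ(Spec (Kη X), (jj X) ⁻¹ᵁ U)))

lemma res_oneK {U V : X.Opens} (i : V ⟶ U) : (KK X).presheaf.map i.op (oneK X U) = oneK X V :=
  map_one ((Spec (Kη X)).presheaf.map ((Opens.map (jj X).base).map i).op).hom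

lemma smul_oneK (U : X.Opens) (b : Γ(X, U)) :
    b • oneK X U = (show Γ(KK X, U) from ((jj X).app U b : Γ(Spec (Kη X), (jj X) ⁻¹ᵁ U))) :=
  mul_one ((jj X).app U b : Γ(Spec (Kη X), (jj X) ⁻¹ᵁ U))

/-- the distinguished element `1` of the generic stalk of `𝒦` -/
noncomputable def eK : (KK X).presheaf.stalk (genericPoint X) :=
  (KK X).presheaf.germ ⊤ (genericPoint X) trivial (oneK X ⊤)

lemma germ_oneK (U : X.Opens) (hη : genericPoint X ∈ U) :
    (KK X).presheaf.germ U (genericPoint X) hη (oneK X U) = eK X := by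
  rw [eK, ← res_oneK X (homOfLE (le_top : U ≤ ⊤))]
  exact TopCat.Presheaf.germ_res_apply (KK X).presheaf (homOfLE le_top) _ hη (oneK X ⊤)


/-- the generic stalk of `𝒦` is spanned by `1` -/
lemma exists_smul_eK (d : (KK X).presheaf.stalk (genericPoint X)) :
    ∃ c : X.presheaf.stalk (genericPoint X), c • eK X = d := by
  obtain ⟨V, hV, m, rfl⟩ := (KK X).presheaf.exists_germ_eq d
  have hVtop := pre_eq_top X V hV
  have ht := res_bijective (Y := Spec (Kη X))
    (homOfLE (le_top : (jj X) ⁻¹ᵁ V ≤ ⊤)) (by rw [hVtop])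
  obtain ⟨m', hm'⟩ := ht.2 (show Γ(Spec (Kη X), (jj X) ⁻¹ᵁ V) from m)
  set c : X.presheaf.stalk (genericPoint X) := (Scheme.ΓSpecIso (Kη X)).hom m' with hc
  obtain ⟨W, hW, b, hb⟩ := X.presheaf.exists_germ_eq c
  have hW' : genericPoint X ∈ W ⊓ V := ⟨hW, hV⟩
  set b' : Γ(X, W ⊓ V) := X.presheaf.map (homOfLE (inf_le_left : W ⊓ V ≤ W)).op b with hb'
  have hgb' : X.presheaf.germ (W ⊓ V) (genericPoint X) hW' b' = c := by
    rw [hb', TopCat.Presheaf.germ_res_apply X.presheaf (homOfLE inf_le_left) _ hW' b, hb]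
  have key : ((jj X).app (W ⊓ V) b' : Γ(Spec (Kη X), (jj X) ⁻¹ᵁ (W ⊓ V))) =
      (Spec (Kη X)).presheaf.map ((Opens.map (jj X).base).map
        (homOfLE (inf_le_right : W ⊓ V ≤ V))).op (show Γ(Spec (Kη X), (jj X) ⁻¹ᵁ V) from m) := by
    rw [← hm']
    have h1 := congrArg (fun g => g.hom b') (Scheme.fromSpecStalk_app (X := X) hW')
    refine h1.trans ?_
    show (Spec (Kη X)).presheaf.map (homOfLE le_top).op
        ((Scheme.ΓSpecIso (Kη X)).inv (X.presheaf.germ (W ⊓ V) (genericPoint X) hW' b')) = _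
    rw [hgb', hc]
    have h2 : (Scheme.ΓSpecIso (Kη X)).inv ((Scheme.ΓSpecIso (Kη X)).hom m') = m' :=
      congrArg (fun g => g.hom m') (Scheme.ΓSpecIso (Kη X)).hom_inv_id
    rw [h2]
    have h3 : (homOfLE (le_top : (jj X) ⁻¹ᵁ V ≤ ⊤)).op ≫
        ((Opens.map (jj X).base).map (homOfLE (inf_le_right : W ⊓ V ≤ V))).op =
        (homOfLE (le_top : (jj X) ⁻¹ᵁ (W ⊓ V) ≤ ⊤)).op := Subsingleton.elim _ _
    have h4 := congrArg (fun g => ((Spec (Kη X)).presheaf.map g).hom m') h3
    simp only [Functor.map_comp] at h4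
    exact h4.symm
  refine ⟨c, ?_⟩
  rw [← germ_oneK X (W ⊓ V) hW', ← hgb', ← QCoh.germ_smul, smul_oneK]
  rw [← TopCat.Presheaf.germ_res_apply (KK X).presheaf (homOfLE (inf_le_right : W ⊓ V ≤ V)) _ hW' m]
  exact congrArg ((KK X).presheaf.germ (W ⊓ V) (genericPoint X) hW') key


lemma eK_ne_zero : eK X ≠ 0 := by
  intro h
  have h1 : oneK X ⊤ = 0 := KK_germ_injective X ⊤ trivial (h.trans (map_zero _).symm)
  have ht := res_bijective (Y := Spec (Kη X))
    (homOfLE (le_top : (jj X) ⁻¹ᵁ ⊤ ≤ ⊤)) (by rw [pre_eq_top X ⊤ trivial])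
  have h2 : (1 : Γ(Spec (Kη X), ⊤)) = 0 := by
    apply ht.1
    rw [map_one, map_zero]
    exact h1
  have h3 := congrArg (Scheme.ΓSpecIso (Kη X)).hom h2
  rw [map_one, map_zero] at h3
  exact one_ne_zero h3

/-- the generic stalk of `𝒦` is one-dimensional over the function field -/
lemma finrank_KK :
    Module.finrank (X.presheaf.stalk (genericPoint X)) ((KK X).presheaf.stalk (genericPoint X)) = 1 :=
  (finrank_eq_one_iff_of_nonzero' (eK X) (eK_ne_zero X)).2 (exists_smul_eK X)


open Groth.Agent.Lib.Helper4.NormDelta Groth.Agent.Lib.Helper23.StalkLin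
  Groth.Agent.Lib.Helper23.Extend

lemma japp_ne_zero (W : X.Opens) (hη : genericPoint X ∈ W) (b : Γ(X, W)) (hb : b ≠ 0) :
    ((jj X).app W b : Γ(Spec (Kη X), (jj X) ⁻¹ᵁ W)) ≠ 0 := by
  intro h0
  apply hb
  apply germ_injective_of_isIntegral X (genericPoint X) hη
  rw [map_zero]
  have h1 := congrArg (fun g => g.hom b) (Scheme.fromSpecStalk_app (X := X) hη)
  have h2 : (Spec (Kη X)).presheaf.map (homOfLE (le_top : (jj X) ⁻¹ᵁ W ≤ ⊤)).op
      ((Scheme.ΓSpecIso (Kη X)).inv (X.presheaf.germ W (genericPoint X) hη b)) = 0 :=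
    h1.symm.trans h0
  have ht := res_bijective (Y := Spec (Kη X))
    (homOfLE (le_top : (jj X) ⁻¹ᵁ W ≤ ⊤)) (by rw [pre_eq_top X W hη])
  have h3 : (Scheme.ΓSpecIso (Kη X)).inv (X.presheaf.germ W (genericPoint X) hη b) = 0 :=
    ht.1 (h2.trans (map_zero _).symm)
  have h4 := congrArg (Scheme.ΓSpecIso (Kη X)).hom h3
  rw [map_zero] at h4
  refine Eq.trans ?_ h4
  exact (congrArg (fun g => g.hom (X.presheaf.germ W (genericPoint X) hη b))
    (Scheme.ΓSpecIso (Kη X)).inv_hom_id).symm

/-- the sheaf of rational functions is torsion-free -/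
theorem KK_isTorsionFree : TorSh.IsTorsionFree (KK X) := by
  intro x
  refine ⟨fun a ha => ?_⟩
  have key : ∀ d : (KK X).presheaf.stalk x, a • d = 0 → d = 0 := by
    intro d hd
    have ha0 : a ≠ 0 := ha.ne_zero
    obtain ⟨V, hxV, m, rfl⟩ := (KK X).presheaf.exists_germ_eq d
    obtain ⟨V', hxV', b, rfl⟩ := X.presheaf.exists_germ_eq a
    set W := V ⊓ V' with hW
    have hxW : x ∈ W := ⟨hxV, hxV'⟩
    set m₁ : Γ(KK X, W) := (KK X).presheaf.map (homOfLE (inf_le_left : W ≤ V)).op m with hm₁
    set b₁ : Γ(X, W) := X.presheaf.map (homOfLE (inf_le_right : W ≤ V')).op b with hb₁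
    have e1 : (KK X).presheaf.germ W x hxW m₁ = (KK X).presheaf.germ V x hxV m :=
      TopCat.Presheaf.germ_res_apply (KK X).presheaf (homOfLE inf_le_left) x hxW m
    have e2 : X.presheaf.germ W x hxW b₁ = X.presheaf.germ V' x hxV' b :=
      TopCat.Presheaf.germ_res_apply X.presheaf (homOfLE inf_le_right) x hxW b
    rw [← e1, ← e2, ← QCoh.germ_smul] at hd
    rw [← e2] at ha0
    have h0 : (KK X).presheaf.germ W x hxW (b₁ • m₁) = (KK X).presheaf.germ W x hxW 0 := by
      rw [hd, map_zero]
    obtain ⟨W', hxW', i₁, i₂, hres⟩ := (KK X).presheaf.germ_eq x hxW hxW (b₁ • m₁) 0 h0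
    rw [map_zero] at hres
    set m₂ : Γ(KK X, W') := (KK X).presheaf.map i₁.op m₁ with hm₂
    set b₂ : Γ(X, W') := X.presheaf.map i₁.op b₁ with hb₂
    have hres' : b₂ • m₂ = 0 := by
      rw [← hres]
      exact (PresheafOfModules.map_smul (R := X.presheaf ⋙ forget₂ CommRingCat RingCat) (KK X).val
        i₁.op b₁ m₁).symm
    have e3 : (KK X).presheaf.germ W' x hxW' m₂ = (KK X).presheaf.germ W x hxW m₁ :=
      TopCat.Presheaf.germ_res_apply (KK X).presheaf i₁ x hxW' m₁
    have e4 : X.presheaf.germ W' x hxW' b₂ = X.presheaf.germ W x hxW b₁ :=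
      TopCat.Presheaf.germ_res_apply X.presheaf i₁ x hxW' b₁
    rw [← e1, ← e3]
    rw [← e4] at ha0
    have hb₂ne : b₂ ≠ 0 := fun h => ha0 (by rw [h, map_zero])
    have hηW' : genericPoint X ∈ W' :=
      ((genericPoint_spec X).mem_open_set_iff W'.2).2 ⟨x, Set.mem_univ _, hxW'⟩
    have hne := japp_ne_zero X W' hηW' b₂ hb₂ne
    have hne' : Nonempty ↥((jj X) ⁻¹ᵁ W') := by
      rw [pre_eq_top X W' hηW']
      exact ⟨⟨IsLocalRing.closedPoint _, trivial⟩⟩
    have : Nonempty ↥(((jj X) ⁻¹ᵁ W' : (Spec (Kη X)).Opens) : Scheme.{u}) := hne'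
    have : IsIntegral (Spec (Kη X)) := inferInstance
    have : IsDomain Γ(Spec (Kη X), (jj X) ⁻¹ᵁ W') :=
      AlgebraicGeometry.IsIntegral.component_integral (X := Spec (Kη X)) ((jj X) ⁻¹ᵁ W')
    have hmul : ((jj X).app W' b₂ : Γ(Spec (Kη X), (jj X) ⁻¹ᵁ W')) *
        (show Γ(Spec (Kη X), (jj X) ⁻¹ᵁ W') from m₂) = 0 := hres'
    have hm0 : (show Γ(Spec (Kη X), (jj X) ⁻¹ᵁ W') from m₂) = 0 :=
      (mul_eq_zero.1 hmul).resolve_left hne
    have : m₂ = 0 := hm0
    rw [this, map_zero]
  intro t t' h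
  have h0 : a • (t - t') = 0 := by
    rw [smul_sub, sub_eq_zero]; exact h
  exact sub_eq_zero.mp (key _ h0)

/-- a submodule of the sheaf of rational functions is torsion-free -/
theorem isTorsionFree_of_mono (G : X.Modules) (i : G ⟶ KK X) [Mono i] :
    TorSh.IsTorsionFree G := by
  intro x
  have := KK_isTorsionFree X x
  exact Function.Injective.moduleIsTorsionFree (stalkLin i x) (stalkLin_injective i x)
    (fun r d => map_smul (stalkLin i x) r d)

/-- a nonzero submodule of the sheaf of rational functions has rank one -/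
theorem finrank_eq_one_of_mono (G : X.Modules) (i : G ⟶ KK X) [Mono i] (hG : ¬ IsZero G) :
    Module.finrank (X.presheaf.stalk (genericPoint X)) (G.presheaf.stalk (genericPoint X)) = 1 := by
  obtain ⟨U, s, hs⟩ : ∃ (U : X.Opens) (s : Γ(G, U)), s ≠ 0 := by
    by_contra hcon
    push Not at hcon
    exact hG (Groth.Agent.Lib.Helper23.ModLocal.isZero_of_forall_eq_zero hcon)
  have his : i.app U s ≠ 0 := fun h =>
    hs (injective_app_of_mono i U (h.trans (map_zero _).symm))
  have hη : genericPoint X ∈ U := by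
    by_contra hη
    exact his (KK_eq_zero X U hη _)
  set v : G.presheaf.stalk (genericPoint X) := G.presheaf.germ U (genericPoint X) hη s with hv
  have hiv : stalkLin i (genericPoint X) v ≠ 0 := by
    rw [hv, stalkLin_germ]
    intro h
    exact his (KK_germ_injective X U hη (h.trans (map_zero _).symm))
  have hv0 : v ≠ 0 := fun h => hiv (by rw [h, map_zero])
  rw [finrank_eq_one_iff_of_nonzero' v hv0]
  intro w
  obtain ⟨c₁, hc₁⟩ := exists_smul_eK X (stalkLin i (genericPoint X) v)
  obtain ⟨c₂, hc₂⟩ := exists_smul_eK X (stalkLin i (genericPoint X) w)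
  have hc₁0 : c₁ ≠ 0 := by
    rintro rfl
    rw [zero_smul] at hc₁
    exact hiv hc₁.symm
  refine ⟨c₂ * c₁⁻¹, ?_⟩
  apply stalkLin_injective i (genericPoint X)
  rw [map_smul, ← hc₁, ← hc₂, smul_smul, mul_assoc, inv_mul_cancel₀ hc₁0, mul_one]


/-! ### sectionwise criteria for sheaves of modules -/

section General

variable {D : Type u} [SmallCategory D] {K : GrothendieckTopology D} {R : Sheaf K RingCat.{u}}

theorem mono_of_injective_app {M N : SheafOfModules.{u} R} (f : M ⟶ N)
    (h : ∀ V : Dᵒᵖ, Function.Injective (f.val.app V).hom) : Mono f := by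
  have : Mono ((SheafOfModules.forget R).map f) :=
    PresheafOfModules.mono_of_injective (f := f.val) (fun V => h V)
  exact (SheafOfModules.forget R).mono_of_mono_map inferInstance

theorem epi_of_surjective_app {M N : SheafOfModules.{u} R} (f : M ⟶ N)
    (h : ∀ V : Dᵒᵖ, Function.Surjective (f.val.app V).hom) : Epi f := by
  have : Sheaf.IsLocallySurjective ((SheafOfModules.toSheaf R).map f) :=
    (Presheaf.isLocallySurjective_of_surjective K
      ((PresheafOfModules.toPresheaf R.obj).map f.val) (fun V s => h V s) :)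
  have : Epi ((SheafOfModules.toSheaf R).map f) :=
    (Sheaf.isLocallySurjective_iff_epi' AddCommGrpCat.{u} _).1 inferInstance
  exact (SheafOfModules.toSheaf R).epi_of_epi_map inferInstance

theorem isIso_of_bijective_app {M N : SheafOfModules.{u} R} (f : M ⟶ N)
    (h₁ : ∀ V : Dᵒᵖ, Function.Injective (f.val.app V).hom)
    (h₂ : ∀ V : Dᵒᵖ, Function.Surjective (f.val.app V).hom) : IsIso f := by
  have := mono_of_injective_app f h₁
  have := epi_of_surjective_app f h₂
  exact isIso_of_mono_of_epi f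

end General

open Groth.Agent.Lib.Helper1.Sky Groth.Agent.Lib.Helper1.StalkTensor

/-- the generic stalk of `𝒦` as a module over the function field -/
noncomputable def Nη : ModuleCat.{u} (Ox (genericPoint X)) :=
  ModuleCat.of (Ox (genericPoint X)) ((KK X).presheaf.stalk (genericPoint X))

/-- the morphism to the skyscraper at the generic point attached to a linear map on stalks -/
noncomputable def toSky (F : X.Modules)
    (g : F.presheaf.stalk (genericPoint X) →ₗ[X.presheaf.stalk (genericPoint X)]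
      (KK X).presheaf.stalk (genericPoint X)) : F ⟶ skyMod (genericPoint X) (Nη X) :=
  ⟨ofStalk (R := X.presheaf) (x := genericPoint X) (N := Nη X) (P := toPM F) g⟩

lemma toSky_ev (F : X.Modules)
    (g : F.presheaf.stalk (genericPoint X) →ₗ[X.presheaf.stalk (genericPoint X)]
      (KK X).presheaf.stalk (genericPoint X)) (U : X.Opens) (s : Γ(F, U))
    (hη : genericPoint X ∈ U) :
    SkyT.ev X.presheaf U (((toSky X F g).val.app (op U)).hom s) hη =
      g (F.presheaf.germ U (genericPoint X) hη s) := rfl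

/-- `𝒦` is the skyscraper at the generic point -/
instance isIso_toSky_id : IsIso (toSky X (KK X) LinearMap.id) := by
  apply isIso_of_bijective_app
  · intro V
    rw [injective_iff_map_eq_zero]
    intro m hm
    by_cases hη : genericPoint X ∈ V.unop
    · apply KK_germ_injective X V.unop hη
      refine Eq.trans ?_ (map_zero _).symm
      exact congrArg (fun t => SkyT.ev X.presheaf V.unop t hη) hm
    · exact KK_eq_zero X V.unop hη m
  · intro V t
    by_cases hη : genericPoint X ∈ V.unop
    · obtain ⟨m, hm⟩ := KK_germ_surjective X V.unop hη (SkyT.ev X.presheaf V.unop t hη)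
      refine ⟨m, ?_⟩
      apply SkyT.ext (R := X.presheaf) (U := V.unop)
      intro hx
      exact hm
    · refine ⟨0, ?_⟩
      apply SkyT.ext (R := X.presheaf) (U := V.unop)
      intro hx
      exact absurd hx hη

/-- a torsion-free quasi-coherent module of rank one embeds into the sheaf of rational functions -/
theorem exists_mono_of_finrank_eq_one (F : X.Modules) [F.IsQuasicoherent]
    (hF : TorSh.IsTorsionFree F)
    (h1 : Module.finrank (X.presheaf.stalk (genericPoint X))
      (F.presheaf.stalk (genericPoint X)) = 1) :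
    ∃ i : F ⟶ KK X, Mono i := by
  have : Module.Finite (X.presheaf.stalk (genericPoint X)) (F.presheaf.stalk (genericPoint X)) :=
    Module.finite_of_finrank_pos (by rw [h1]; exact one_pos)
  have : Module.Finite (X.presheaf.stalk (genericPoint X))
      ((KK X).presheaf.stalk (genericPoint X)) :=
    Module.finite_of_finrank_pos (by rw [finrank_KK]; exact one_pos)
  let g := LinearEquiv.ofFinrankEq (F.presheaf.stalk (genericPoint X))
    ((KK X).presheaf.stalk (genericPoint X)) (h1.trans (finrank_KK X).symm)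
  have : Mono (toSky X F g.toLinearMap) := by
    apply mono_of_injective_app
    intro V
    rw [injective_iff_map_eq_zero]
    intro s hs
    by_cases hη : genericPoint X ∈ V.unop
    · apply eq_zero_of_germ_generic X F hF V.unop hη
      apply g.injective
      refine Eq.trans ?_ (map_zero g).symm
      exact congrArg (fun t => SkyT.ev X.presheaf V.unop t hη) hs
    · apply QcPush.section_eq_zero_of_germ
      intro y hy
      exact absurd (((genericPoint_spec X).mem_open_set_iff V.unop.2).2
        ⟨y, Set.mem_univ _, hy⟩) hη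
  exact ⟨toSky X F g.toLinearMap ≫ inv (toSky X (KK X) LinearMap.id), inferInstance⟩

end Groth.Agent.Lib.Seat93.RatFun
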