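import Mathlib
import Groth.Agent.Lib.Seat93RatFun
import Groth.Agent.Lib.Seat54HHSigma
set_option backward.isDefEq.respectTransparency.types false

/-!
# Modules supported at finitely many closed points are sums of skyscrapers (seat 93)
-/

set_option autoImplicit false
universe u
open CategoryTheory CategoryTheory.Limits TopCat TopologicalSpace Opposite AlgebraicGeometry

namespace Groth.Agent.Lib.Seat93.SkyDecomp

open Groth.Agent.Lib.Helper2

variable {X : Scheme.{u}}

/-- If `y` is a closed point, `B ∋ y` is open and the section `m` of `F` over `B` has vanishing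
germs at all points of `B` other than `y`, then `m` extends to a global section vanishing away
from `y`. -/
theorem exists_global_extension' (F : X.Modules) (y : X) (hy : IsClosed ({y} : Set X))
    (B : X.Opens) (hyB : y ∈ B) (m : Γ(F, B))
    (hm : ∀ (x : X) (hx : x ∈ B), x ≠ y → F.presheaf.germ B x hx m = 0) :
    ∃ t : Γ(F, ⊤), F.presheaf.map (homOfLE (le_top : B ≤ ⊤)).op t = m ∧
      F.presheaf.map (homOfLE (le_top :
        (⟨({y} : Set X)ᶜ, hy.isOpen_compl⟩ : X.Opens) ≤ ⊤)).op t = 0 := by
  let W : X.Opens := ⟨({y} : Set X)ᶜ, hy.isOpen_compl⟩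
  let U : Bool → X.Opens := fun b => if b then B else W
  let Fs : TopCat.Sheaf Ab X.toTopCat := ⟨F.presheaf, F.isSheaf⟩
  let sf : ∀ b : Bool, ToType (Fs.1.obj (op (U b))) := fun b =>
    match b with
    | true => m
    | false => (0 : Γ(F, W))
  have hzero : ∀ (V : X.Opens) (hVB : V ≤ B) (hVW : V ≤ W),
      F.presheaf.map (homOfLE hVB).op m = 0 := by
    intro V hVB hVW
    apply QcPush.section_eq_zero_of_germ
    intro x hx
    have hxy : x ≠ y := fun h => (hVW hx) (by rw [h]; rfl)
    have h1 : F.presheaf.germ V x hx (F.presheaf.map (homOfLE hVB).op m)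
        = F.presheaf.germ B x (hVB hx) m :=
      TopCat.Presheaf.germ_res_apply F.presheaf (homOfLE hVB) x hx m
    rw [h1]
    exact hm x (hVB hx) hxy
  have hcompat : TopCat.Presheaf.IsCompatible Fs.1 U sf := by
    intro i j
    cases i <;> cases j
    · rfl
    · change F.presheaf.map (Opens.infLELeft W B).op (0 : Γ(F, W))
        = F.presheaf.map (Opens.infLERight W B).op m
      rw [map_zero]
      exact (hzero (W ⊓ B) inf_le_right inf_le_left).symm
    · change F.presheaf.map (Opens.infLELeft B W).op m
        = F.presheaf.map (Opens.infLERight B W).op (0 : Γ(F, W))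
      rw [map_zero]
      exact hzero (B ⊓ W) inf_le_left inf_le_right
    · rfl
  have hcover : (⊤ : X.Opens) ≤ iSup U := by
    intro x _
    rw [Opens.mem_iSup]
    by_cases hxy : x = y
    · exact ⟨true, by rw [hxy]; exact hyB⟩
    · exact ⟨false, hxy⟩
  obtain ⟨t, ht, -⟩ := Fs.existsUnique_gluing' U ⊤ (fun b => homOfLE le_top) hcover sf hcompat
  exact ⟨t, ht true, ht false⟩

/-- for a module whose stalks vanish outside a finite set `Z` of closed points, every germ at a
point of `Z` is the germ of a global section all of whose other germs vanish -/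
theorem exists_section_with_germ (H : X.Modules) (Z : Finset X)
    (hZ : ∀ z ∈ Z, IsClosed ({z} : Set X))
    (hH : ∀ y, y ∉ Z → Subsingleton (H.presheaf.stalk y)) (z : X) (hz : z ∈ Z)
    (g : H.presheaf.stalk z) :
    ∃ t : Γ(H, ⊤), H.presheaf.germ ⊤ z trivial t = g ∧
      ∀ w, w ≠ z → H.presheaf.germ ⊤ w trivial t = 0 := by
  classical
  obtain ⟨B, hzB, m, rfl⟩ := H.presheaf.exists_germ_eq g
  have hC : IsClosed (⋃ w ∈ Z.erase z, ({w} : Set X)) :=
    isClosed_biUnion_finset fun w hw => hZ w (Finset.mem_of_mem_erase hw)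
  let C' : X.Opens := ⟨(⋃ w ∈ Z.erase z, ({w} : Set X))ᶜ, hC.isOpen_compl⟩
  have hzC' : z ∈ C' := by
    show z ∉ ⋃ w ∈ Z.erase z, ({w} : Set X)
    simp
  let B' : X.Opens := B ⊓ C'
  have hzB' : z ∈ B' := ⟨hzB, hzC'⟩
  set m' : Γ(H, B') := H.presheaf.map (homOfLE (inf_le_left : B' ≤ B)).op m with hm'
  have hvan : ∀ (x : X) (hx : x ∈ B'), x ≠ z → H.presheaf.germ B' x hx m' = 0 := by
    intro x hx hxz
    have hxZ : x ∉ Z := by
      intro hxZ
      have h1 : x ∈ ⋃ w ∈ Z.erase z, ({w} : Set X) := by
        simp only [Set.mem_iUnion, Set.mem_singleton_iff, exists_prop]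
        exact ⟨x, Finset.mem_erase.2 ⟨hxz, hxZ⟩, rfl⟩
      exact hx.2 h1
    haveI := hH x hxZ
    exact Subsingleton.elim _ _
  obtain ⟨t, ht1, ht2⟩ := exists_global_extension' H z (hZ z hz) B' hzB' m' hvan
  refine ⟨t, ?_, ?_⟩
  · rw [← TopCat.Presheaf.germ_res_apply H.presheaf (homOfLE (le_top : B' ≤ ⊤)) z hzB' t, ht1, hm']
    exact TopCat.Presheaf.germ_res_apply H.presheaf (homOfLE inf_le_left) z hzB' m
  · intro w hw
    have hwW : w ∈ (⟨({z} : Set X)ᶜ, (hZ z hz).isOpen_compl⟩ : X.Opens) := hw
    rw [← TopCat.Presheaf.germ_res_apply H.presheaf (homOfLE le_top) w hwW t, ht2, map_zero]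


open Groth.Agent.Lib.Helper1.Sky Groth.Agent.Lib.Helper1.StalkTensor

attribute [local instance] Abelian.hasFiniteBiproducts

section decomp

variable (H : X.Modules)

/-- the skyscraper of the stalk of `H` at `z` -/
noncomputable def skyAt (z : X) : X.Modules := skyMod z ((stalkFun z).obj H)

/-- the unit `H ⟶ sky_z(H_z)` -/
noncomputable def unitAt (z : X) : H ⟶ skyAt H z :=
  ⟨ofStalk (R := X.presheaf) (x := z) (N := (stalkFun z).obj H) (P := toPM H) LinearMap.id⟩

lemma unitAt_app_ev (z : X) (U : X.Opens) (s : Γ(H, U)) (hz : z ∈ U) :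
    SkyT.ev X.presheaf U (show SkyT X.presheaf z ((stalkFun z).obj H) U from
      (unitAt H z).app U s) hz = H.presheaf.germ U z hz s := rfl

variable {ι : Type} [Fintype ι] (p : ι → X)

/-- the map to the sum of the skyscrapers at the points `p i` -/
noncomputable def toSkySum : H ⟶ ⨁ fun i : ι => skyAt H (p i) :=
  biproduct.lift fun i => unitAt H (p i)

lemma toSkySum_π (i : ι) :
    toSkySum H p ≫ biproduct.π (fun i : ι => skyAt H (p i)) i = unitAt H (p i) :=
  biproduct.lift_π _ _

/-- sections of a finite biproduct are determined by their projections -/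
lemma biproduct_section_ext {κ : Type} [Fintype κ] (f : κ → X.Modules) (U : X.Opens)
    (t t' : Γ(⨁ f, U)) (h : ∀ j, (biproduct.π f j).app U t = (biproduct.π f j).app U t') :
    t = t' := by
  classical
  have key : ∀ a : Γ(⨁ f, U), a = ∑ j, (biproduct.ι f j).app U ((biproduct.π f j).app U a) := by
    intro a
    have h1 : ∑ j, biproduct.π f j ≫ biproduct.ι f j = 𝟙 (⨁ f) := biproduct.total
    have h2 := congrArg (fun φ : (⨁ f) ⟶ (⨁ f) => φ.app U a) h1
    simp only [Groth.Agent.Lib.Seat54.HHSigma.sum_app_apply] at h2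
    exact h2.symm
  rw [key t, key t']
  exact Finset.sum_congr rfl fun j _ => by rw [h j]

lemma germ_sum {κ : Type*} (S : Finset κ) (U : X.Opens) (y : X) (hy : y ∈ U) (f : κ → Γ(H, U)) :
    H.presheaf.germ U y hy (∑ j ∈ S, f j) = ∑ j ∈ S, H.presheaf.germ U y hy (f j) :=
  map_sum (H.presheaf.germ U y hy).hom f S

/-- a module whose stalks vanish outside a finite set of closed points is the sum of the
skyscrapers of its stalks at these points -/
theorem isIso_toSkySum (hp : Function.Injective p) (hZ : ∀ i, IsClosed ({p i} : Set X))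
    (hH : ∀ y, y ∉ Set.range p → Subsingleton (H.presheaf.stalk y)) : IsIso (toSkySum H p) := by
  classical
  have hZ' : ∀ z ∈ Finset.univ.image p, IsClosed ({z} : Set X) := by
    intro z hz
    obtain ⟨i, -, rfl⟩ := Finset.mem_image.1 hz
    exact hZ i
  have hH' : ∀ y, y ∉ Finset.univ.image p → Subsingleton (H.presheaf.stalk y) := by
    intro y hy
    apply hH y
    rintro ⟨i, rfl⟩
    exact hy (Finset.mem_image.2 ⟨i, Finset.mem_univ _, rfl⟩)
  apply Groth.Agent.Lib.Seat93.RatFun.isIso_of_bijective_app
  · intro V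
    rw [injective_iff_map_eq_zero]
    intro s hs
    apply QcPush.section_eq_zero_of_germ H V.unop s
    intro y hy
    by_cases hyZ : y ∈ Set.range p
    · obtain ⟨i, rfl⟩ := hyZ
      have h1 : (unitAt H (p i)).app V.unop s = 0 := by
        rw [← toSkySum_π H p i]
        show (biproduct.π (fun i : ι => skyAt H (p i)) i).app V.unop
          ((toSkySum H p).app V.unop s) = 0
        rw [show (toSkySum H p).app V.unop s = 0 from hs, map_zero]
      have h2 := unitAt_app_ev H (p i) V.unop s hy
      rw [← h2, h1]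
      rfl
    · have := hH y hyZ
      exact Subsingleton.elim _ _
  · intro V t
    let g : ∀ i : ι, H.presheaf.stalk (p i) := fun i =>
      if hz : p i ∈ V.unop then
        SkyT.ev X.presheaf V.unop (show SkyT X.presheaf (p i) ((stalkFun (p i)).obj H) V.unop from
          (biproduct.π (fun i : ι => skyAt H (p i)) i).app V.unop t) hz
      else 0
    choose τ hτ1 hτ2 using fun i : ι => exists_section_with_germ H (Finset.univ.image p) hZ' hH'
      (p i) (Finset.mem_image.2 ⟨i, Finset.mem_univ _, rfl⟩) (g i)
    let s : Γ(H, V.unop) := ∑ i : ι, H.presheaf.map (homOfLE (le_top : V.unop ≤ ⊤)).op (τ i)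
    refine ⟨s, biproduct_section_ext (fun i : ι => skyAt H (p i)) V.unop
      ((toSkySum H p).app V.unop s) t ?_⟩
    intro i
    have h1 : (biproduct.π (fun i : ι => skyAt H (p i)) i).app V.unop
        ((toSkySum H p).app V.unop s) = (unitAt H (p i)).app V.unop s := by
      rw [← toSkySum_π H p i]
      rfl
    refine h1.trans ?_
    apply SkyT.ext (R := X.presheaf) (U := V.unop)
    intro hz
    refine (unitAt_app_ev H (p i) V.unop s hz).trans ?_
    have key : H.presheaf.germ V.unop (p i) hz s = g i := by
      rw [germ_sum]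
      have h3 : ∀ j : ι, H.presheaf.germ V.unop (p i) hz
          (H.presheaf.map (homOfLE (le_top : V.unop ≤ ⊤)).op (τ j)) =
          if j = i then g i else 0 := by
        intro j
        rw [TopCat.Presheaf.germ_res_apply H.presheaf (homOfLE le_top) (p i) hz (τ j)]
        by_cases hji : j = i
        · subst hji
          rw [if_pos rfl]
          exact hτ1 j
        · rw [if_neg hji]
          exact hτ2 j (p i) (fun h => hji (hp h).symm)
      rw [Finset.sum_congr rfl fun j _ => h3 j, Finset.sum_ite_eq' Finset.univ i]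
      simp only [Finset.mem_univ, if_true]
    refine key.trans ?_
    simp only [g, dif_pos hz]
    rfl


end decomp

/-- two modules whose stalks vanish outside a finite set of closed points and whose stalks at
these points are isomorphic are isomorphic -/
theorem nonempty_iso_of_stalk_equiv {ι : Type} [Fintype ι] (p : ι → X) (hp : Function.Injective p)
    (hZ : ∀ i, IsClosed ({p i} : Set X)) (H H' : X.Modules)
    (hH : ∀ y, y ∉ Set.range p → Subsingleton (H.presheaf.stalk y))
    (hH' : ∀ y, y ∉ Set.range p → Subsingleton (H'.presheaf.stalk y))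
    (θ : ∀ i, H.presheaf.stalk (p i) ≃ₗ[X.presheaf.stalk (p i)] H'.presheaf.stalk (p i)) :
    Nonempty (H ≅ H') := by
  haveI := isIso_toSkySum H p hp hZ hH
  haveI := isIso_toSkySum H' p hp hZ hH'
  let mid : (⨁ fun i : ι => skyAt H (p i)) ≅ ⨁ fun i : ι => skyAt H' (p i) :=
    biproduct.mapIso fun i => (skyFun (p i)).mapIso (θ i).toModuleIso
  exact ⟨asIso (toSkySum H p) ≪≫ mid ≪≫ (asIso (toSkySum H' p)).symm⟩


/-! ### stalks of a finite power -/

section stalkPow

open Groth.Agent.Lib.Helper4.NormDelta

variable (n : ℕ) (F : X.Modules) (z : X)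

/-- the `n`-th power of `F`, as a biproduct -/
noncomputable abbrev pow : X.Modules := ⨁ fun _ : Fin n => F

/-- the stalk of the power maps to the power of the stalk -/
noncomputable def toPi : (pow n F).presheaf.stalk z →ₗ[X.presheaf.stalk z]
    (Fin n → F.presheaf.stalk z) :=
  LinearMap.pi fun j => stalkLin (biproduct.π (fun _ : Fin n => F) j) z

/-- the power of the stalk maps to the stalk of the power -/
noncomputable def ofPi : (Fin n → F.presheaf.stalk z) →ₗ[X.presheaf.stalk z]
    (pow n F).presheaf.stalk z :=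
  ∑ j, (stalkLin (biproduct.ι (fun _ : Fin n => F) j) z).comp (LinearMap.proj j)

lemma ofPi_toPi (x : (pow n F).presheaf.stalk z) : ofPi n F z (toPi n F z x) = x := by
  classical
  obtain ⟨U, hU, s, rfl⟩ := (pow n F).presheaf.exists_germ_eq x
  simp only [ofPi, toPi, LinearMap.sum_apply, LinearMap.comp_apply, LinearMap.proj_apply,
    LinearMap.pi_apply, stalkLin_germ]
  rw [← germ_sum (pow n F)]
  congr 1
  have h1 : ∑ j, biproduct.π (fun _ : Fin n => F) j ≫ biproduct.ι (fun _ : Fin n => F) j =
      𝟙 (pow n F) := biproduct.total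
  have h2 := congrArg (fun φ : (pow n F) ⟶ (pow n F) => φ.app U s) h1
  simp only [Groth.Agent.Lib.Seat54.HHSigma.sum_app_apply] at h2
  exact h2

lemma toPi_ofPi (f : Fin n → F.presheaf.stalk z) : toPi n F z (ofPi n F z f) = f := by
  classical
  funext k
  simp only [ofPi, toPi, LinearMap.sum_apply, LinearMap.comp_apply, LinearMap.proj_apply,
    LinearMap.pi_apply, map_sum]
  have h3 : ∀ j : Fin n, stalkLin (biproduct.π (fun _ : Fin n => F) k) z
      (stalkLin (biproduct.ι (fun _ : Fin n => F) j) z (f j)) = if j = k then f k else 0 := by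
    intro j
    obtain ⟨U, hU, s, hs⟩ := F.presheaf.exists_germ_eq (f j)
    rw [← hs, stalkLin_germ, stalkLin_germ]
    by_cases hjk : j = k
    · subst hjk
      rw [if_pos rfl]
      have h4 : biproduct.ι (fun _ : Fin n => F) j ≫ biproduct.π (fun _ : Fin n => F) j = 𝟙 F :=
        biproduct.ι_π_self _ _
      have h5 := congrArg (fun φ : F ⟶ F => φ.app U s) h4
      exact (congrArg (F.presheaf.germ U z hU) h5).trans hs
    · rw [if_neg hjk]
      have h4 : biproduct.ι (fun _ : Fin n => F) j ≫ biproduct.π (fun _ : Fin n => F) k = 0 :=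
        biproduct.ι_π_ne _ hjk
      have h5 := congrArg (fun φ : F ⟶ F => φ.app U s) h4
      refine (congrArg (F.presheaf.germ U z hU) h5).trans ?_
      rw [Scheme.Modules.Hom.zero_app]
      exact map_zero _
  rw [Finset.sum_congr rfl fun j _ => h3 j, Finset.sum_ite_eq' Finset.univ k]
  simp

/-- the stalk of a finite power is the power of the stalk -/
noncomputable def stalkPowEquiv : (pow n F).presheaf.stalk z ≃ₗ[X.presheaf.stalk z]
    (Fin n → F.presheaf.stalk z) :=
  LinearEquiv.ofLinearMap (toPi n F z) (ofPi n F z)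
    (LinearMap.ext fun f => toPi_ofPi n F z f) (LinearMap.ext fun x => ofPi_toPi n F z x)

end stalkPow

end Groth.Agent.Lib.Seat93.SkyDecomp
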