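import Mathlib
import Groth.Prelude.Def_CurvBase
import Groth.Prelude.Def_Canon
import Groth.Prelude.Def_CohB1
import Groth.Prelude.Def_FlatMod2
import Groth.Agent.Lib.Seat93SkyDecomp
import Groth.Agent.Lib.Seat54HHSigma
import Groth.Agent.Lib.Seat35EulerIso
import Groth.Agent.Lib.Helper1StalkTensorB
import Groth.Agent.Lib.Helper2LocFree
import Groth.Agent.Lib.Helper2RankLoc
import Groth.Agent.Lib.Helper2FibreCrit2
set_option backward.isDefEq.respectTransparency.types false

/-!
# Euler characteristic of a finite power, tensoring a zero-dimensional module with a vector bundle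
(seat 93)

Namespace `Groth.Agent.Lib.Seat93.EulerPow`.

* `finrank_HH_pow`, `euler_pow`: `χ(X, F^n) = n χ(X, F)`.
* `exists_basis_stalk`: the stalks of a finite locally free module of rank `n` have a basis indexed
  by `Fin n`.
* `stalkTensorPowEquiv`: `(F ⊗ E)_z ≃ (F^n)_z` for `E` finite locally free of rank `n`.
* `nonempty_tensor_iso_pow`: `F ⊗ E ≅ F^n` if the stalks of `F` vanish outside a finite set of closed
  points.
-/

set_option autoImplicit false
set_option linter.style.haveILetI false
universe u
open CategoryTheory CategoryTheory.Limits AlgebraicGeometry TopologicalSpace Opposite TensorProduct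
  MonoidalCategory

namespace Groth.Agent.Lib.Seat93.EulerPow

open Groth.Agent.Lib.Seat93.SkyDecomp Groth.Agent.Lib.Seat54.HHFinite

attribute [local instance] Abelian.hasFiniteBiproducts

section euler

variable (k : Type u) [Field k] (X : Scheme.{u}) [X.Over (Spec (CommRingCat.of k))]

/-- cohomology of a finite power is the power of the cohomology -/
noncomputable def HHPowEquiv (n : ℕ) (F : X.Modules) (i : ℕ) :
    Coh.HH X (pow n F) i ≃ₗ[k] (Fin n → Coh.HH X F i) := by
  classical
  refine LinearEquiv.ofLinearMap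
    (LinearMap.pi fun j => Canon.HHlin k (biproduct.π (fun _ : Fin n => F) j) i)
    (LinearMap.lsum k _ k (fun j => Canon.HHlin k (biproduct.ι (fun _ : Fin n => F) j) i)) ?_ ?_
  · refine LinearMap.ext fun f => ?_
    funext j
    simp only [LinearMap.comp_apply, LinearMap.pi_apply, LinearMap.lsum_apply, LinearMap.sum_apply,
      LinearMap.proj_apply, LinearMap.id_apply, map_sum]
    have h3 : ∀ l : Fin n, Canon.HHlin k (biproduct.π (fun _ : Fin n => F) j) i
        (Canon.HHlin k (biproduct.ι (fun _ : Fin n => F) l) i (f l)) =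
          if l = j then f j else 0 := by
      intro l
      rw [← HHlin_comp]
      by_cases hlj : l = j
      · subst hlj
        rw [if_pos rfl, biproduct.ι_π_self, HHlin_id]
      · rw [if_neg hlj, biproduct.ι_π_ne _ hlj, HHlin_zero]
    rw [Finset.sum_congr rfl fun l _ => h3 l, Finset.sum_ite_eq' Finset.univ j]
    simp
  · refine LinearMap.ext fun x => ?_
    simp only [LinearMap.comp_apply, LinearMap.pi_apply, LinearMap.lsum_apply, LinearMap.sum_apply,
      LinearMap.proj_apply, LinearMap.id_apply]
    have h1 : ∑ j, biproduct.π (fun _ : Fin n => F) j ≫ biproduct.ι (fun _ : Fin n => F) j =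
        𝟙 (pow n F) := biproduct.total
    calc ∑ j, Canon.HHlin k (biproduct.ι (fun _ : Fin n => F) j) i
          (Canon.HHlin k (biproduct.π (fun _ : Fin n => F) j) i x)
        = ∑ j, Canon.HHlin k
            (biproduct.π (fun _ : Fin n => F) j ≫ biproduct.ι (fun _ : Fin n => F) j) i x :=
          Finset.sum_congr rfl (fun j _ => (HHlin_comp k _ _ i x).symm)
      _ = Canon.HHlin k
            (∑ j, biproduct.π (fun _ : Fin n => F) j ≫ biproduct.ι (fun _ : Fin n => F) j) i x :=
          (HHlin_sum k _ _ i x).symm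
      _ = x := by rw [h1, HHlin_id]

theorem finrank_HH_pow (n : ℕ) (F : X.Modules) (i : ℕ) :
    Module.finrank k (Coh.HH X (pow n F) i) = n * Module.finrank k (Coh.HH X F i) := by
  rw [(HHPowEquiv k X n F i).finrank_eq]
  by_cases hfin : Module.Finite k (Coh.HH X F i)
  · rw [Module.finrank_pi_fintype]
    simp
  · rw [Module.finrank_of_not_finite hfin, mul_zero]
    rcases Nat.eq_zero_or_pos n with hn | hn
    · subst hn
      exact Module.finrank_zero_of_subsingleton
    · refine Module.finrank_of_not_finite fun hfin' => hfin ?_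
      exact Module.Finite.of_surjective
        (LinearMap.proj (R := k) (φ := fun _ : Fin n => Coh.HH X F i) ⟨0, hn⟩)
        (fun x => ⟨fun _ => x, rfl⟩)

theorem euler_pow (n : ℕ) (F : X.Modules) :
    Curv2.euler k X (pow n F) = n * Curv2.euler k X F := by
  unfold Curv2.euler
  rw [mul_finsum]
  refine finsum_congr fun i => ?_
  rw [finrank_HH_pow]
  push_cast
  ring

end euler

section tensor

open Groth.Agent.Lib.Helper1.StalkTensor Groth.Agent.Lib.Helper2.RankLoc
  Groth.Agent.Lib.Helper2.FibreCrit

variable {X : Scheme.{u}}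

/-- The stalk of the tensor product of two `O_X`-modules (as in `Seat11AssStalk`, repeated here
to keep the import closure small). -/
noncomputable def stalkTensorEquiv (M N : X.Modules) (x : X) :
    (CohB1.tensorMod M N).presheaf.stalk x ≃ₗ[X.presheaf.stalk x]
      (M.presheaf.stalk x) ⊗[X.presheaf.stalk x] (N.presheaf.stalk x) :=
  (LinearEquiv.ofBijective (smₗ (etaX (toPM M ⊗ toPM N)) x)
    (sm_etaX_bijective (toPM M ⊗ toPM N) x)).symm ≪≫ₗ αLin (toPM M) (toPM N) x

theorem isFinLocFree_of_rank {n : ℕ} {E : X.Modules} (hE : FlatMod.IsFinLocFreeOfRank n E) :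
    FlatMod.IsFinLocFree E := fun x => by
  obtain ⟨U, hx, h⟩ := hE x
  exact ⟨U, n, hx, h⟩

/-- the stalks of a finite locally free module of rank `n` have a basis indexed by `Fin n` -/
theorem exists_basis_stalk {n : ℕ} (E : X.Modules) (hE : FlatMod.IsFinLocFreeOfRank n E) (z : X) :
    Nonempty (Module.Basis (Fin n) (X.presheaf.stalk z) (E.presheaf.stalk z)) := by
  haveI hfp : SheafOfModules.IsFinitePresentation (R := X.ringCatSheaf) E :=
    Groth.Agent.Lib.Helper2.LocFree.isFP_of_isFinLocFree E (isFinLocFree_of_rank hE)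
  haveI : E.IsQuasicoherent := inferInstance
  haveI : SheafOfModules.IsFiniteType (R := X.ringCatSheaf) E := inferInstance
  obtain ⟨U, hzU, ⟨e⟩⟩ := hE z
  obtain ⟨hfree, hrk⟩ := fibreRank_eq_of_restrict_iso_freeMod U.ι E e ⟨z, hzU⟩
  haveI : Module.Free (X.presheaf.stalk z) (E.presheaf.stalk z) := hfree
  haveI : Module.Finite (X.presheaf.stalk z) (E.presheaf.stalk z) := finite_stalk E z
  have h1 : Module.finrank (X.presheaf.stalk z) (E.presheaf.stalk z) = n :=
    (Module.finrank_baseChange (R := IsLocalRing.ResidueField (X.presheaf.stalk z))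
      (S := X.presheaf.stalk z) (M' := E.presheaf.stalk z)).symm.trans hrk
  exact ⟨Module.finBasisOfFinrankEq _ _ h1⟩

/-- `(F ⊗ E)_z ≃ (F^n)_z` for a basis of `E_z` -/
noncomputable def stalkTensorPowEquiv (F E : X.Modules) (n : ℕ) (z : X)
    (b : Module.Basis (Fin n) (X.presheaf.stalk z) (E.presheaf.stalk z)) :
    (CohB1.tensorMod F E).presheaf.stalk z ≃ₗ[X.presheaf.stalk z] (pow n F).presheaf.stalk z :=
  stalkTensorEquiv F E z ≪≫ₗ TensorProduct.congr (LinearEquiv.refl _ _) b.equivFun ≪≫ₗ
    TensorProduct.piScalarRight (X.presheaf.stalk z) (X.presheaf.stalk z) (F.presheaf.stalk z)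
      (Fin n) ≪≫ₗ (stalkPowEquiv n F z).symm

/-- if the stalks of `F` vanish outside a finite set of closed points and `E` is finite locally free
of rank `n`, then `F ⊗ E ≅ F^n` -/
theorem nonempty_tensor_iso_pow {ι : Type} [Fintype ι] (p : ι → X) (hp : Function.Injective p)
    (hZ : ∀ i, IsClosed ({p i} : Set X)) (F E : X.Modules) (n : ℕ)
    (hE : FlatMod.IsFinLocFreeOfRank n E)
    (hF : ∀ y, y ∉ Set.range p → Subsingleton (F.presheaf.stalk y)) :
    Nonempty (CohB1.tensorMod F E ≅ pow n F) := by
  refine nonempty_iso_of_stalk_equiv p hp hZ _ _ ?_ ?_ ?_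
  · intro y hy
    haveI := hF y hy
    exact (stalkTensorEquiv F E y).toEquiv.subsingleton
  · intro y hy
    haveI := hF y hy
    exact (stalkPowEquiv n F y).toEquiv.subsingleton
  · intro i
    exact stalkTensorPowEquiv F E n (p i) (Classical.choice (exists_basis_stalk E hE (p i)))

end tensor

end Groth.Agent.Lib.Seat93.EulerPow
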