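import Mathlib
set_option backward.isDefEq.respectTransparency.types false

/-!
# Extension of scalars along a faithfully flat ring map: spanning families (seat 93)
-/

set_option autoImplicit false
universe u
open TensorProduct

namespace Groth.Agent.Lib.Seat93.ExtAlg

theorem span_of_span_baseChange {R S : Type u} [CommRing R] [CommRing S] [Algebra R S]
    [Module.FaithfullyFlat R S] {M : Type u} [AddCommGroup M] [Module R M] {ι : Type*} (m : ι → M)
    (h : Submodule.span S (Set.range fun k => (1 : S) ⊗ₜ[R] m k) = ⊤) :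
    Submodule.span R (Set.range m) = ⊤ := by
  apply Submodule.baseChange_injective (A := S)
  rw [Submodule.baseChange_span, Submodule.baseChange_top, ← h]
  congr 1
  ext t
  constructor
  · rintro ⟨_, ⟨k, rfl⟩, rfl⟩
    exact ⟨k, rfl⟩
  · rintro ⟨k, rfl⟩
    exact ⟨m k, ⟨k, rfl⟩, rfl⟩

/-- if the `1 ⊗ m k` span `S ⊗_R M` and `R → S` is faithfully flat then the `m k` span `M` -/
theorem span_of_span_extendScalars {R S : Type u} [CommRing R] [CommRing S] (φ : R →+* S)
    (hφ : letI := φ.toAlgebra; Module.FaithfullyFlat R S) (M : ModuleCat.{u} R) {ι : Type*} (m : ι → M)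
    (h : (Submodule.span S (Set.range fun k =>
      ((1 : S) ⊗ₜ[R] m k : (ModuleCat.extendScalars.{u, u, u} φ).obj M)) :
        Submodule S ((ModuleCat.extendScalars.{u, u, u} φ).obj M)) = ⊤) :
    Submodule.span R (Set.range m) = ⊤ := by
  letI := φ.toAlgebra
  haveI := hφ
  exact span_of_span_baseChange (R := R) (S := S) m h

theorem span_one_tmul_eq_top' {R S : Type u} [CommRing R] [CommRing S] [Algebra R S]
    {M : Type u} [AddCommGroup M] [Module R M] :
    Submodule.span S (Set.range fun m : M => (1 : S) ⊗ₜ[R] m) = ⊤ := by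
  have h := Submodule.baseChange_top (R := R) (M := M) (A := S)
  rw [← h, Submodule.baseChange_eq_span]
  congr 1
  ext t
  constructor
  · rintro ⟨m, rfl⟩
    exact ⟨m, Submodule.mem_top, rfl⟩
  · rintro ⟨m, _, rfl⟩
    exact ⟨m, rfl⟩

/-- the elements `1 ⊗ m` span the extension of scalars -/
theorem span_one_tmul_eq_top {R S : Type u} [CommRing R] [CommRing S] (φ : R →+* S)
    (M : ModuleCat.{u} R) :
    (Submodule.span S (Set.range fun m : M =>
      ((1 : S) ⊗ₜ[R] m : (ModuleCat.extendScalars.{u, u, u} φ).obj M)) :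
        Submodule S ((ModuleCat.extendScalars.{u, u, u} φ).obj M)) = ⊤ := by
  letI := φ.toAlgebra
  exact span_one_tmul_eq_top' (R := R) (S := S) (M := M)

end Groth.Agent.Lib.Seat93.ExtAlg
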