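import Mathlib
import Groth.Agent.Lib.Helper2QcPush

/-!
# Extending a section supported at a closed point to a global section (seat 93)
-/
set_option autoImplicit false
universe u
open CategoryTheory AlgebraicGeometry TopologicalSpace Opposite

namespace Groth.Agent.Lib.Seat93.ExtendPt

variable {X : Scheme.{u}}

/-- If `y` is a closed point, `B ∋ y` is open and the section `m` of `F` over `B` has vanishing
germs at all points of `B` other than `y`, then `m` extends to a global section. -/
theorem exists_global_extension (F : X.Modules) (y : X) (hy : IsClosed ({y} : Set X))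
    (B : X.Opens) (hyB : y ∈ B) (m : Γ(F, B))
    (hm : ∀ (x : X) (hx : x ∈ B), x ≠ y → F.presheaf.germ B x hx m = 0) :
    ∃ t : Γ(F, ⊤), F.presheaf.map (homOfLE (le_top : B ≤ ⊤)).op t = m := by
  let W : X.Opens := ⟨({y} : Set X)ᶜ, hy.isOpen_compl⟩
  let U : Bool → X.Opens := fun b => if b then B else W
  let Fs : TopCat.Sheaf Ab X.toTopCat := ⟨F.presheaf, F.isSheaf⟩
  let sf : ∀ b : Bool, ToType (Fs.1.obj (op (U b))) := fun b =>
    match b with
    | true => m
    | false => (0 : Γ(F, W))
  have hzero : ∀ (V : X.Opens) (hVB : V ≤ B) (hVW : V ≤ W),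
      F.presheaf.map (homOfLE hVB).op m = 0 := by
    intro V hVB hVW
    apply Groth.Agent.Lib.Helper2.QcPush.section_eq_zero_of_germ
    intro x hx
    have hxy : x ≠ y := fun h => (hVW hx) (by rw [h]; rfl)
    have h1 : F.presheaf.germ V x hx (F.presheaf.map (homOfLE hVB).op m)
        = F.presheaf.germ B x (hVB hx) m :=
      TopCat.Presheaf.germ_res_apply F.presheaf (homOfLE hVB) x hx m
    rw [h1]
    exact hm x (hVB hx) hxy
  have hcompat : TopCat.Presheaf.IsCompatible Fs.1 U sf := by
    intro i j
    cases i <;> cases j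
    · rfl
    · -- (false, true)
      change F.presheaf.map (Opens.infLELeft W B).op (0 : Γ(F, W))
        = F.presheaf.map (Opens.infLERight W B).op m
      rw [map_zero]
      exact (hzero (W ⊓ B) inf_le_right inf_le_left).symm
    · change F.presheaf.map (Opens.infLELeft B W).op m
        = F.presheaf.map (Opens.infLERight B W).op (0 : Γ(F, W))
      rw [map_zero]
      exact hzero (B ⊓ W) inf_le_left inf_le_right
    · rfl
  have hcover : (⊤ : X.Opens) ≤ iSup U := by
    intro x _
    rw [Opens.mem_iSup]
    by_cases hxy : x = y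
    · exact ⟨true, by rw [hxy]; exact hyB⟩
    · exact ⟨false, hxy⟩
  obtain ⟨t, ht, -⟩ := Fs.existsUnique_gluing' U ⊤ (fun b => homOfLE le_top) hcover sf hcompat
  exact ⟨t, ht true⟩

end Groth.Agent.Lib.Seat93.ExtendPt
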