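import Mathlib

/-!
# Homogeneous Jordan bases for graded nilpotent endomorphisms (seat 93)

`V = ⨁ 𝒱 μ` a finite-dimensional graded vector space, `A` a nilpotent endomorphism of degree `χ`.
Then `V` has a basis of homogeneous Jordan chains (`exists_graded_jordan_basis`).

Proof: split off a cyclic summand of maximal length generated by a homogeneous vector; the
complement is cut out by a homogeneous functional and its translates under `A`.
-/

set_option autoImplicit false
universe u v w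

namespace Groth.Agent.Lib.Seat93.GrJordan

open Module

section Proj
variable {k : Type u} [Field k] {Λ : Type v} [AddCommGroup Λ] [DecidableEq Λ]
  {V : Type w} [AddCommGroup V] [Module k V]
  (𝒱 : Λ → Submodule k V) [DirectSum.Decomposition 𝒱]

/-- Projection to the `μ`-component. -/
noncomputable def proj (μ : Λ) : V →ₗ[k] V :=
  (𝒱 μ).subtype ∘ₗ (DirectSum.component k Λ (fun i => 𝒱 i) μ) ∘ₗ
    (DirectSum.decomposeLinearEquiv 𝒱).toLinearMap

theorem proj_apply (μ : Λ) (v : V) : proj 𝒱 μ v = (DirectSum.decompose 𝒱 v μ : V) := rfl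

theorem proj_mem (μ : Λ) (v : V) : proj 𝒱 μ v ∈ 𝒱 μ := (DirectSum.decompose 𝒱 v μ).2

theorem proj_of_mem {μ : Λ} {v : V} (hv : v ∈ 𝒱 μ) : proj 𝒱 μ v = v :=
  DirectSum.decompose_of_mem_same 𝒱 hv

theorem proj_of_mem_ne {μ ν : Λ} {v : V} (hv : v ∈ 𝒱 μ) (h : μ ≠ ν) : proj 𝒱 ν v = 0 :=
  DirectSum.decompose_of_mem_ne 𝒱 hv h

open Classical in
theorem sum_proj (v : V) : ∑ μ ∈ (DirectSum.decompose 𝒱 v).support, proj 𝒱 μ v = v :=
  DirectSum.sum_support_decompose 𝒱 v

theorem ext_homogeneous {W : Type*} [AddCommGroup W] [Module k W] (L₁ L₂ : V →ₗ[k] W)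
    (h : ∀ μ, ∀ v ∈ 𝒱 μ, L₁ v = L₂ v) : L₁ = L₂ := by
  classical
  apply LinearMap.ext
  intro v
  rw [← sum_proj 𝒱 v, map_sum, map_sum]
  exact Finset.sum_congr rfl (fun μ _ => h μ _ (proj_mem 𝒱 μ v))

variable (A : Module.End k V) (χ : Λ) (hhom : ∀ (μ : Λ) (v : V), v ∈ 𝒱 μ → A v ∈ 𝒱 (μ + χ))

include hhom in
theorem pow_mem (j : ℕ) (μ : Λ) (v : V) (hv : v ∈ 𝒱 μ) : (A ^ j) v ∈ 𝒱 (μ + j • χ) := by
  induction j with
  | zero => simpa using hv
  | succ j ih =>
    rw [pow_succ', Module.End.mul_apply, succ_nsmul, ← add_assoc]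
    exact hhom _ _ ih

include hhom in
theorem pow_proj (j : ℕ) (μ : Λ) (v : V) :
    (A ^ j) (proj 𝒱 μ v) = proj 𝒱 (μ + j • χ) ((A ^ j) v) := by
  have : (A ^ j) ∘ₗ proj 𝒱 μ = proj 𝒱 (μ + j • χ) ∘ₗ (A ^ j) := by
    apply ext_homogeneous 𝒱
    intro μ' x hx
    simp only [LinearMap.comp_apply]
    by_cases h : μ' = μ
    · subst h
      rw [proj_of_mem 𝒱 hx, proj_of_mem 𝒱 (pow_mem 𝒱 A χ hhom j _ x hx)]
    · rw [proj_of_mem_ne 𝒱 hx h, map_zero, proj_of_mem_ne 𝒱 (pow_mem 𝒱 A χ hhom j _ x hx)]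
      intro h'
      exact h (add_right_cancel h')
  exact LinearMap.congr_fun this v

end Proj

section Cyclic
variable {k : Type u} [Field k] {V : Type w} [AddCommGroup V] [Module k V]
  (A : Module.End k V)

theorem pow_apply_eq_zero_of_le {N : ℕ} {v : V} (hv : (A ^ (N + 1)) v = 0) {e : ℕ}
    (he : N + 1 ≤ e) : (A ^ e) v = 0 := by
  obtain ⟨c, rfl⟩ := Nat.exists_eq_add_of_le he
  rw [add_comm, pow_add, Module.End.mul_apply, hv, map_zero]

/-- The triangular computation: if `φ (A^N v) = 1`, `A^(N+1) v = 0` and `w = Σ g l • A^(N-l) v`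
is killed by all `φ ∘ A^j`, `j ≤ N`, then `g = 0`. -/
theorem coeff_eq_zero {N : ℕ} (v : V) (hv : (A ^ (N + 1)) v = 0) (φ : V →ₗ[k] k)
    (hφ : φ ((A ^ N) v) = 1) (g : Fin (N + 1) → k)
    (h : ∀ j : Fin (N + 1), φ ((A ^ (j : ℕ)) (∑ l, g l • (A ^ (N - (l : ℕ))) v)) = 0) :
    ∀ l, g l = 0 := by
  have hexp : ∀ j : Fin (N + 1), φ ((A ^ (j : ℕ)) (∑ l, g l • (A ^ (N - (l : ℕ))) v))
      = ∑ l : Fin (N + 1), g l * φ ((A ^ ((j : ℕ) + (N - (l : ℕ)))) v) := by
    intro j
    rw [map_sum, map_sum]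
    apply Finset.sum_congr rfl
    intro l _
    rw [map_smul, map_smul, smul_eq_mul, pow_add, Module.End.mul_apply]
  have key : ∀ m : ℕ, ∀ l : Fin (N + 1), N - (l : ℕ) ≤ m → g l = 0 := by
    intro m
    induction m with
    | zero =>
      intro l hl
      have hlN : (l : ℕ) = N := by have := l.2; omega
      have h1 := h l
      rw [hexp, Finset.sum_eq_single l] at h1
      · rw [hlN, Nat.sub_self, add_zero, hφ, mul_one] at h1
        exact h1
      · intro l' _ hne
        have hlt : (l' : ℕ) < l := by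
          have h2 : (l' : ℕ) ≠ l := fun h3 => hne (Fin.ext h3)
          have := l'.2
          omega
        rw [pow_apply_eq_zero_of_le A hv (by omega), map_zero, mul_zero]
      · intro h2; exact absurd (Finset.mem_univ l) h2
    | succ m ih =>
      intro l hl
      have h1 := h l
      rw [hexp, Finset.sum_eq_single l] at h1
      · have hl' : (l : ℕ) + (N - (l : ℕ)) = N := by have := l.2; omega
        rw [hl', hφ, mul_one] at h1
        exact h1
      · intro l' _ hne
        have h2 : (l' : ℕ) ≠ l := fun h3 => hne (Fin.ext h3)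
        rcases lt_or_gt_of_ne h2 with hlt | hgt
        · rw [pow_apply_eq_zero_of_le A hv (by have := l.2; omega), map_zero, mul_zero]
        · rw [ih l' (by omega), zero_mul]
      · intro h2; exact absurd (Finset.mem_univ l) h2
  intro l
  exact key N l (Nat.sub_le _ _)

end Cyclic

section Main
variable {k : Type u} [Field k] {Λ : Type v} [AddCommGroup Λ] [DecidableEq Λ]
  {V : Type w} [AddCommGroup V] [Module k V] [FiniteDimensional k V]
  (𝒱 : Λ → Submodule k V)

/-- Sigma types over `Option ι`. -/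
def sigmaOptionEquiv {ι : Type w} (N : ℕ) (n : ι → ℕ) :
    (Σ o : Option ι, Fin ((Option.elim o N n) + 1)) ≃ Fin (N + 1) ⊕ (Σ i : ι, Fin (n i + 1)) where
  toFun := fun p => match p with
    | ⟨none, l⟩ => Sum.inl l
    | ⟨some i, l⟩ => Sum.inr ⟨i, l⟩
  invFun := fun q => match q with
    | Sum.inl l => ⟨none, l⟩
    | Sum.inr ⟨i, l⟩ => ⟨some i, l⟩
  left_inv := by rintro ⟨_ | i, l⟩ <;> rfl
  right_inv := by rintro (l | ⟨i, l⟩) <;> rfl

variable [DirectSum.Decomposition 𝒱]
  (A : Module.End k V) (hA : IsNilpotent A) (χ : Λ)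
  (hhom : ∀ (μ : Λ) (v : V), v ∈ 𝒱 μ → A v ∈ 𝒱 (μ + χ))

include hA hhom in
theorem exists_chains (d : ℕ) : ∀ (U : Submodule k V), finrank k U = d → (∀ u ∈ U, A u ∈ U) →
    (∀ u ∈ U, ∀ μ, proj 𝒱 μ u ∈ U) →
    ∃ (ι : Type w) (_ : Finite ι) (n : ι → ℕ) (b : (Σ i : ι, Fin (n i + 1)) → V),
      LinearIndependent k b ∧ Submodule.span k (Set.range b) = U ∧
      (∀ p, ∃ μ : Λ, b p ∈ 𝒱 μ) ∧ (∀ i : ι, A (b ⟨i, 0⟩) = 0) ∧
      ∀ (i : ι) (l : Fin (n i)), A (b ⟨i, l.succ⟩) = b ⟨i, l.castSucc⟩ := by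
  induction d using Nat.strong_induction_on with
  | _ d ih =>
  intro U hd hUA hUgr
  by_cases hU : U = ⊥
  · subst hU
    refine ⟨PEmpty, inferInstance, PEmpty.elim, fun p => p.1.elim, linearIndependent_empty_type,
      ?_, fun p => p.1.elim, fun i => i.elim, fun i => i.elim⟩
    rw [Submodule.span_eq_bot]
    rintro _ ⟨p, _⟩
    exact p.1.elim
  · classical
    have hUpow : ∀ (e : ℕ), ∀ u ∈ U, (A ^ e) u ∈ U := by
      intro e
      induction e with
      | zero => intro u hu; simpa using hu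
      | succ e ihe =>
        intro u hu
        rw [pow_succ', Module.End.mul_apply]
        exact hUA _ (ihe u hu)
    -- nilpotency index of `A` on `U`
    obtain ⟨M, hM⟩ := hA
    have hex : ∃ m, ∀ u ∈ U, (A ^ m) u = 0 := ⟨M, fun u _ => by rw [hM]; rfl⟩
    have hm₀P : ∀ u ∈ U, (A ^ (Nat.find hex)) u = 0 := Nat.find_spec hex
    have hm₀pos : Nat.find hex ≠ 0 := by
      intro h0
      apply hU
      rw [eq_bot_iff]
      intro u hu
      have := hm₀P u hu
      rw [h0, pow_zero] at this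
      exact this
    obtain ⟨N, hN⟩ := Nat.exists_eq_succ_of_ne_zero hm₀pos
    have hNnot : ¬ ∀ u ∈ U, (A ^ N) u = 0 := Nat.find_min hex (by omega)
    push Not at hNnot
    obtain ⟨u₀, hu₀U, hu₀⟩ := hNnot
    have hN1 : ∀ u ∈ U, (A ^ (N + 1)) u = 0 := by
      intro u hu
      have := hm₀P u hu
      rwa [hN] at this
    -- a homogeneous vector of maximal order
    obtain ⟨μ, hμ⟩ : ∃ μ, (A ^ N) (proj 𝒱 μ u₀) ≠ 0 := by
      by_contra hcon
      push Not at hcon
      apply hu₀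
      rw [← sum_proj 𝒱 u₀, map_sum]
      exact Finset.sum_eq_zero (fun μ _ => hcon μ)
    set v := proj 𝒱 μ u₀ with hvdef
    have hvU : v ∈ U := hUgr u₀ hu₀U μ
    have hvμ : v ∈ 𝒱 μ := proj_mem 𝒱 μ u₀
    have hvN1 : (A ^ (N + 1)) v = 0 := hN1 v hvU
    -- a homogeneous functional
    set ν := μ + N • χ with hνdef
    have hwν : (A ^ N) v ∈ 𝒱 ν := pow_mem 𝒱 A χ hhom N μ v hvμ
    obtain ⟨ψ₀, hψ₀⟩ : ∃ ψ : Module.Dual k V, ψ ((A ^ N) v) ≠ 0 := by
      by_contra hcon
      push Not at hcon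
      exact hμ ((Module.forall_dual_apply_eq_zero_iff k _).1 hcon)
    set φ : V →ₗ[k] k := ((ψ₀ ((A ^ N) v))⁻¹ • ψ₀) ∘ₗ proj 𝒱 ν with hφdef
    have hφ1 : φ ((A ^ N) v) = 1 := by
      rw [hφdef, LinearMap.comp_apply, proj_of_mem 𝒱 hwν, LinearMap.smul_apply, smul_eq_mul,
        inv_mul_cancel₀ hψ₀]
    have hφproj : ∀ (μ'' : Λ) (x : V), φ (proj 𝒱 μ'' x) = if μ'' = ν then φ x else 0 := by
      intro μ'' x
      split_ifs with h
      · subst h
        rw [hφdef, LinearMap.comp_apply, LinearMap.comp_apply,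
          proj_of_mem 𝒱 (proj_mem 𝒱 _ x)]
      · rw [hφdef, LinearMap.comp_apply, proj_of_mem_ne 𝒱 (proj_mem 𝒱 μ'' x) h, map_zero]
    -- the complement
    set Φ : V →ₗ[k] (Fin (N + 1) → k) := LinearMap.pi (fun j => φ ∘ₗ (A ^ (j : ℕ))) with hΦdef
    set D : Submodule k V := U ⊓ LinearMap.ker Φ with hDdef
    have hmemD : ∀ u, u ∈ D ↔ u ∈ U ∧ ∀ j : Fin (N + 1), φ ((A ^ (j : ℕ)) u) = 0 := by
      intro u
      rw [hDdef, Submodule.mem_inf, LinearMap.mem_ker, hΦdef, funext_iff]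
      rfl
    have hDA : ∀ u ∈ D, A u ∈ D := by
      intro u hu
      rw [hmemD] at hu ⊢
      refine ⟨hUA u hu.1, fun j => ?_⟩
      rw [← Module.End.mul_apply, ← pow_succ]
      by_cases hj : (j : ℕ) + 1 < N + 1
      · exact hu.2 ⟨j + 1, hj⟩
      · have hj' : (j : ℕ) + 1 = N + 1 := by have := j.2; omega
        rw [hj', hN1 u hu.1, map_zero]
    have hDgr : ∀ u ∈ D, ∀ μ', proj 𝒱 μ' u ∈ D := by
      intro u hu μ'
      rw [hmemD] at hu ⊢
      refine ⟨hUgr u hu.1 μ', fun j => ?_⟩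
      rw [pow_proj 𝒱 A χ hhom, hφproj]
      split_ifs
      · exact hu.2 j
      · rfl
    -- the cyclic summand
    set c : Fin (N + 1) → V := fun l => (A ^ (N - (l : ℕ))) v with hcdef
    have hkey := coeff_eq_zero A v hvN1 φ hφ1
    have hcli : LinearIndependent k c := by
      rw [Fintype.linearIndependent_iff]
      intro g hg
      apply hkey g
      intro j
      have hg' : ∑ l, g l • (A ^ (N - (l : ℕ))) v = 0 := hg
      rw [hg', map_zero, map_zero]
    set C := Submodule.span k (Set.range c) with hCdef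
    have hCU : C ≤ U := by
      rw [hCdef, Submodule.span_le]
      rintro _ ⟨l, rfl⟩
      exact hUpow _ v hvU
    have hCD : Disjoint C D := by
      rw [Submodule.disjoint_def]
      intro x hxC hxD
      obtain ⟨g, rfl⟩ := (Submodule.mem_span_range_iff_exists_fun k).1 hxC
      have h0 := hkey g (fun j => ((hmemD _).1 hxD).2 j)
      apply Finset.sum_eq_zero
      intro l _
      rw [h0 l, zero_smul]
    have hfinC : finrank k C = N + 1 := by
      rw [hCdef, finrank_span_eq_card hcli, Fintype.card_fin]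
    have hdimD : finrank k U ≤ finrank k D + (N + 1) := by
      have e1 : finrank k ↥(U ⊔ LinearMap.ker Φ) + finrank k ↥D
          = finrank k ↥U + finrank k ↥(LinearMap.ker Φ) :=
        Submodule.finrank_sup_add_finrank_inf_eq U (LinearMap.ker Φ)
      have e2 : finrank k ↥(LinearMap.range Φ) + finrank k ↥(LinearMap.ker Φ) = finrank k V :=
        LinearMap.finrank_range_add_finrank_ker Φ
      have e3 : finrank k ↥(U ⊔ LinearMap.ker Φ) ≤ finrank k V := Submodule.finrank_le _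
      have e4 : finrank k (LinearMap.range Φ) ≤ N + 1 := by
        have := Submodule.finrank_le (LinearMap.range Φ)
        simpa using this
      omega
    have e5 : finrank k ↥(C ⊔ D) = (N + 1) + finrank k ↥D := by
      have e6 : finrank k ↥(C ⊔ D) + finrank k ↥(C ⊓ D) = finrank k ↥C + finrank k ↥D :=
        Submodule.finrank_sup_add_finrank_inf_eq C D
      rw [hCD.eq_bot, finrank_bot, hfinC] at e6
      omega
    have hsup : C ⊔ D = U := by
      apply Submodule.eq_of_le_of_finrank_le (sup_le hCU inf_le_left)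
      rw [e5]
      omega
    have hDlt : finrank k ↥D < d := by
      have e7 : finrank k ↥(C ⊔ D) = finrank k ↥U := by rw [hsup]
      omega
    -- induction hypothesis and assembly
    obtain ⟨ι, hι, n, b, hbli, hbspan, hbhom, hb0, hbsucc⟩ := ih _ hDlt D rfl hDA hDgr
    refine ⟨Option ι, inferInstance, fun o => Option.elim o N n,
      fun p => Sum.elim c b (sigmaOptionEquiv N n p), ?_, ?_, ?_, ?_, ?_⟩
    · have h1 : LinearIndependent k (Sum.elim c b) :=
        hcli.sum_type hbli (by rw [hbspan]; exact hCD)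
      exact (linearIndependent_equiv (sigmaOptionEquiv N n)).2 h1
    · have h1 : Set.range (fun p => Sum.elim c b (sigmaOptionEquiv N n p))
          = Set.range c ∪ Set.range b := by
        rw [← Set.Sum.elim_range]
        exact EquivLike.range_comp (Sum.elim c b) (sigmaOptionEquiv N n)
      rw [h1, Submodule.span_union, hbspan, hsup]
    · rintro ⟨_ | i, l⟩
      · exact ⟨μ + (N - (l : ℕ)) • χ, pow_mem 𝒱 A χ hhom _ μ v hvμ⟩
      · exact hbhom ⟨i, l⟩
    · rintro (_ | i)
      · change A ((A ^ (N - 0)) v) = 0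
        rw [Nat.sub_zero, ← Module.End.mul_apply, ← pow_succ']
        exact hvN1
      · exact hb0 i
    · rintro (_ | i) l
      · change A ((A ^ (N - ((l : ℕ) + 1))) v) = (A ^ (N - (l : ℕ))) v
        rw [← Module.End.mul_apply, ← pow_succ']
        congr 2
        have : (l : ℕ) < N := l.2
        omega
      · exact hbsucc i l

include hA hhom in
/-- A graded nilpotent endomorphism has a homogeneous Jordan basis. -/
theorem exists_graded_jordan_basis :
    ∃ (ι : Type w) (_ : Finite ι) (n : ι → ℕ) (b : Module.Basis (Σ i : ι, Fin (n i + 1)) k V),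
      (∀ (i : ι) (l : Fin (n i + 1)), ∃ μ : Λ, b ⟨i, l⟩ ∈ 𝒱 μ) ∧
      (∀ i : ι, A (b ⟨i, 0⟩) = 0) ∧
      ∀ (i : ι) (l : Fin (n i)), A (b ⟨i, l.succ⟩) = b ⟨i, l.castSucc⟩ := by
  obtain ⟨ι, hι, n, b, hli, hspan, hhomog, h0, hsucc⟩ :=
    exists_chains 𝒱 A hA χ hhom _ ⊤ rfl (fun _ _ => trivial) (fun _ _ _ => trivial)
  refine ⟨ι, hι, n, Module.Basis.mk hli hspan.ge, ?_, ?_, ?_⟩
  · intro i l
    rw [Module.Basis.mk_apply]
    exact hhomog ⟨i, l⟩
  · intro i
    rw [Module.Basis.mk_apply]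
    exact h0 i
  · intro i l
    rw [Module.Basis.mk_apply, Module.Basis.mk_apply]
    exact hsucc i l

end Main

end Groth.Agent.Lib.Seat93.GrJordan
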