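import Mathlib
set_option backward.isDefEq.respectTransparency.types false

/-!
# Invertible modules over a local ring: generators (seat 93)

For a local ring `R` and `Θ : A ⊗ B ≃ₗ R`:
* `exists_isUnit_of_notMem`: `a ∉ 𝔪 • ⊤` ⇒ `∃ b, IsUnit (Θ (a ⊗ b))`;
* `notMem_of_isUnit`, `bijective_smul_of_isUnit`: `IsUnit (Θ (a ⊗ b))` ⇒ `a ∉ 𝔪 • ⊤` and `r ↦ r • a` bijective.
Also transport of these properties along a semilinear bijection.
-/

set_option autoImplicit false
universe u
open TensorProduct

namespace Groth.Agent.Lib.Seat93.InvAlg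

section Local

variable {R : Type u} [CommRing R] [IsLocalRing R] {A B : Type u} [AddCommGroup A] [Module R A]
  [AddCommGroup B] [Module R B] (Θ : A ⊗[R] B ≃ₗ[R] R)

include Θ in
theorem nonempty_equiv_left : Nonempty (A ≃ₗ[R] R) := by
  have : Module.Invertible R A := Module.Invertible.left Θ
  exact Module.Invertible.free_iff_linearEquiv.1 inferInstance

include Θ in
theorem nonempty_equiv_right : Nonempty (B ≃ₗ[R] R) := by
  have : Module.Invertible R B := Module.Invertible.right Θ
  exact Module.Invertible.free_iff_linearEquiv.1 inferInstance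

omit [IsLocalRing R] in
lemma isUnit_apply_one (φ : R ≃ₗ[R] R) : IsUnit (φ 1) := by
  refine IsUnit.of_mul_eq_one (φ.symm 1) ?_
  have h : φ (φ.symm 1 • (1 : R)) = φ.symm 1 • φ 1 := map_smul φ _ _
  rw [smul_eq_mul, mul_one, LinearEquiv.apply_symm_apply, smul_eq_mul] at h
  rw [mul_comm]
  exact h.symm

theorem notMem_smul_top_of_isUnit (a : A) (b : B) (h : IsUnit (Θ (a ⊗ₜ[R] b))) :
    a ∉ IsLocalRing.maximalIdeal R • (⊤ : Submodule R A) := by
  intro ha
  let g : A →ₗ[R] R := Θ.toLinearMap ∘ₗ (TensorProduct.mk R A B).flip b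
  have hg : ∀ a' ∈ IsLocalRing.maximalIdeal R • (⊤ : Submodule R A),
      g a' ∈ IsLocalRing.maximalIdeal R := by
    intro a' ha'
    refine Submodule.smul_induction_on ha' (fun r hr n _ => ?_) (fun x y hx hy => ?_)
    · rw [map_smul, smul_eq_mul]
      exact Ideal.mul_mem_right _ _ hr
    · rw [map_add]
      exact add_mem hx hy
  have h1 : g a ∈ IsLocalRing.maximalIdeal R := hg a ha
  exact (IsLocalRing.mem_maximalIdeal _).1 h1 h

theorem bijective_smul_of_isUnit (a : A) (b : B) (h : IsUnit (Θ (a ⊗ₜ[R] b))) :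
    Function.Bijective (fun r : R => r • a) := by
  obtain ⟨ε⟩ := nonempty_equiv_left Θ
  let g : A →ₗ[R] R := Θ.toLinearMap ∘ₗ (TensorProduct.mk R A B).flip b
  have hga : g a = Θ (a ⊗ₜ[R] b) := rfl
  -- `t = ε a` is a unit
  have ht : IsUnit (ε a) := by
    have h1 : g a = ε a * g (ε.symm 1) := by
      have : a = ε a • ε.symm 1 := by
        apply ε.injective
        rw [map_smul, LinearEquiv.apply_symm_apply, smul_eq_mul, mul_one]
      conv_lhs => rw [this]
      rw [map_smul, smul_eq_mul]
    rw [hga] at h1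
    rw [h1] at h
    exact isUnit_of_mul_isUnit_left h
  have e : (fun r : R => r • a) = fun r => ε.symm (r * ε a) := by
    funext r
    apply ε.injective
    rw [map_smul, LinearEquiv.apply_symm_apply, smul_eq_mul]
  rw [e]
  exact ε.symm.bijective.comp (IsUnit.isUnit_iff_mulRight_bijective.1 ht)

theorem exists_isUnit_of_notMem (a : A)
    (ha : a ∉ IsLocalRing.maximalIdeal R • (⊤ : Submodule R A)) :
    ∃ b : B, IsUnit (Θ (a ⊗ₜ[R] b)) := by
  obtain ⟨ε⟩ := nonempty_equiv_left Θ
  obtain ⟨ε'⟩ := nonempty_equiv_right Θ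
  have hdecomp : a = ε a • ε.symm 1 := by
    apply ε.injective
    rw [map_smul, LinearEquiv.apply_symm_apply, smul_eq_mul, mul_one]
  have ht : IsUnit (ε a) := by
    by_contra hnu
    apply ha
    rw [hdecomp]
    exact Submodule.smul_mem_smul ((IsLocalRing.mem_maximalIdeal _).2 hnu) Submodule.mem_top
  refine ⟨ε'.symm 1, ?_⟩
  let φ : R ≃ₗ[R] R := (TensorProduct.lid R R).symm ≪≫ₗ TensorProduct.congr ε.symm ε'.symm ≪≫ₗ Θ
  have hφ : φ 1 = Θ (ε.symm 1 ⊗ₜ[R] ε'.symm 1) := by
    change Θ (TensorProduct.congr ε.symm ε'.symm ((TensorProduct.lid R R).symm 1)) = _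
    rw [TensorProduct.lid_symm_apply, TensorProduct.congr_tmul]
  have hv : IsUnit (Θ (ε.symm 1 ⊗ₜ[R] ε'.symm 1)) := hφ ▸ isUnit_apply_one φ
  have h2 : Θ (a ⊗ₜ[R] ε'.symm 1) = ε a * Θ (ε.symm 1 ⊗ₜ[R] ε'.symm 1) := by
    conv_lhs => rw [hdecomp]
    rw [← TensorProduct.smul_tmul', map_smul, smul_eq_mul]
  rw [h2]
  exact ht.mul hv

end Local

section Transfer

variable {R S : Type*} [CommRing R] [CommRing S] {M N : Type*}
  [AddCommGroup M] [Module R M] [AddCommGroup N] [Module S N]
  (σ : R →+* S) (hσ : Function.Bijective σ) (f : M →+ N) (hf : Function.Bijective f)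
  (hsmul : ∀ (r : R) (m : M), f (r • m) = σ r • f m)

include hσ hf hsmul in
theorem bijective_smul_iff (m : M) :
    Function.Bijective (fun r : R => r • m) ↔ Function.Bijective (fun s : S => s • f m) := by
  have e : (fun s : S => s • f m) ∘ σ = f ∘ (fun r : R => r • m) := by
    funext r
    exact (hsmul r m).symm
  constructor
  · intro h
    have h1 : Function.Bijective ((fun s : S => s • f m) ∘ σ) := by rw [e]; exact hf.comp h
    exact (Function.Bijective.of_comp_iff _ hσ).1 h1
  · intro h
    have h1 : Function.Bijective (f ∘ (fun r : R => r • m)) := by rw [← e]; exact h.comp hσ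
    exact (Function.Bijective.of_comp_iff' hf _).1 h1

include hσ hsmul in
theorem mem_smul_top_of_mem [IsLocalRing R] [IsLocalRing S] (m : M)
    (hm : m ∈ IsLocalRing.maximalIdeal R • (⊤ : Submodule R M)) :
    f m ∈ IsLocalRing.maximalIdeal S • (⊤ : Submodule S N) := by
  refine Submodule.smul_induction_on hm (fun r hr n _ => ?_) (fun x y hx hy => ?_)
  · rw [hsmul]
    refine Submodule.smul_mem_smul ?_ Submodule.mem_top
    rw [IsLocalRing.mem_maximalIdeal] at hr ⊢
    intro hu
    apply hr
    -- `σ` is a ring isomorphism, so it reflects units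
    let e : R ≃+* S := RingEquiv.ofBijective σ hσ
    have : IsUnit (e r) := hu
    exact (isUnit_map_iff e r).1 this
  · rw [map_add]
    exact add_mem hx hy

include hσ hf hsmul in
theorem mem_smul_top_iff [IsLocalRing R] [IsLocalRing S] (m : M) :
    m ∈ IsLocalRing.maximalIdeal R • (⊤ : Submodule R M) ↔
      f m ∈ IsLocalRing.maximalIdeal S • (⊤ : Submodule S N) := by
  refine ⟨mem_smul_top_of_mem σ hσ f hsmul m, fun h => ?_⟩
  let e : R ≃+* S := RingEquiv.ofBijective σ hσ
  let g : M ≃+ N := AddEquiv.ofBijective f hf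
  have hsmul' : ∀ (s : S) (n : N), g.symm.toAddMonoidHom (s • n) =
      e.symm.toRingHom s • g.symm.toAddMonoidHom n := by
    intro s n
    apply g.injective
    change g (g.symm (s • n)) = f (e.symm s • g.symm n)
    rw [hsmul, AddEquiv.apply_symm_apply]
    change s • n = e (e.symm s) • g (g.symm n)
    rw [RingEquiv.apply_symm_apply, AddEquiv.apply_symm_apply]
  have h1 := mem_smul_top_of_mem e.symm.toRingHom e.symm.bijective g.symm.toAddMonoidHom hsmul'
    (f m) h
  have h2 : g.symm.toAddMonoidHom (f m) = m := g.symm_apply_apply m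
  rw [h2] at h1
  exact h1

end Transfer

end Groth.Agent.Lib.Seat93.InvAlg
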