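import Mathlib
import Groth.Prelude.Def_ShStab
import Groth.Agent.Lib.Seat93SkyDecomp
import Groth.Agent.Lib.Helper23SecTw3
import Groth.Agent.Lib.Helper23QCohAbelian
import Groth.Agent.Lib.Helper23FinType
import Groth.Agent.Lib.Helper23StalkLin
import Groth.Agent.Lib.Helper20OmegaAff
set_option backward.isDefEq.respectTransparency.types false

/-!
# Pure modules have no sections supported at a closed point (seat 93)

Namespace `Groth.Agent.Lib.Seat93.PurePt`.

* `stalkLin_secHom_eq_zero`: the stalk of `secHom M σ : O ⟶ M` vanishes where the germ of `σ` does.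
* `eq_zero_of_isPure`: on a locally Noetherian scheme, a global section of a coherent module that is
  pure of dimension one which vanishes away from a closed point is zero.
* `section_eq_zero_of_isPure`: local version: a section over an open neighbourhood of a closed
  point whose germs vanish at all other points is zero.
-/

set_option autoImplicit false
set_option linter.style.haveILetI false
universe u
open CategoryTheory CategoryTheory.Limits AlgebraicGeometry TopologicalSpace Opposite

namespace Groth.Agent.Lib.Seat93.PurePt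

open Groth.Agent.Lib.Helper4.NormDelta Groth.Agent.Lib.Helper23.SecTw Groth.Agent.Lib.Helper6
  Groth.Agent.Lib.Helper23.GenLocus

variable {X : Scheme.{u}}

/-- the stalk of the morphism attached to a global section vanishes where the germ of the section
vanishes -/
theorem stalkLin_secHom_eq_zero (M : X.Modules) (σ : Γ(M, ⊤)) (z : X)
    (hz : M.presheaf.germ ⊤ z trivial σ = 0) (a : (Coh.structureModule X).presheaf.stalk z) :
    stalkLin (secHom M σ) z a = 0 := by
  obtain ⟨W, hzW, r, rfl⟩ := (Coh.structureModule X).presheaf.exists_germ_eq a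
  rw [stalkLin_germ]
  have h1 : r = (ofS W r) • toS W 1 := by
    change r = (ofS W r) * (1 : Γ(X, W))
    rw [mul_one]; rfl
  rw [h1, Scheme.Modules.Hom.app_smul, ← val_eq_app, sv_secHom]
  rw [Groth.Agent.Lib.Helper2.QCoh.germ_smul]
  have h2 : M.presheaf.germ W z hzW (res M le_top σ) = M.presheaf.germ ⊤ z trivial σ :=
    TopCat.Presheaf.germ_res_apply M.presheaf (homOfLE le_top) z hzW σ
  rw [h2, hz, smul_zero]

/-- on a locally Noetherian scheme, a global section of a coherent module, pure of dimension
one, which vanishes away from a closed point, is zero -/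
theorem eq_zero_of_isPure [IsLocallyNoetherian X] (J : X.Modules) (hJ : Coh.IsCoh J)
    (hp : ShStab.IsPure X J 1) (y : X) (σ : Γ(J, ⊤))
    (hσ : ∀ z : X, z ≠ y → J.presheaf.germ ⊤ z trivial σ = 0) : σ = 0 := by
  haveI := hJ.1
  haveI := hJ.2
  set φ := secHom J σ with hφ
  let F : X.Modules := Abelian.image φ
  let ι : F ⟶ J := Abelian.image.ι φ
  let π : Coh.structureModule X ⟶ F := Abelian.factorThruImage φ
  have hfac : π ≫ ι = φ := Abelian.image.fac φ
  haveI : Mono ι := inferInstanceAs (Mono (Abelian.image.ι φ))
  haveI : Epi π := inferInstanceAs (Epi (Abelian.factorThruImage φ))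
  haveI hcq : (cokernel φ).IsQuasicoherent :=
    Groth.Agent.Lib.Helper23.QCohLocal.isQuasicoherent_cokernel φ
  haveI hFq : F.IsQuasicoherent :=
    Groth.Agent.Lib.Helper23.QCohLocal.isQuasicoherent_kernel (cokernel.π φ)
  have hFc : Coh.IsCoh F := ⟨hFq, Groth.Agent.Lib.Helper23.FinType.isFiniteType_of_mono ι⟩
  -- the stalks of `F` vanish away from `y`
  have hstalk : ∀ z : X, z ≠ y → Subsingleton (F.presheaf.stalk z) := by
    intro z hzy
    refine ⟨fun a b => ?_⟩
    have key : ∀ c : F.presheaf.stalk z, c = 0 := by
      intro c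
      obtain ⟨d, rfl⟩ := stalkLin_surjective π z c
      apply Groth.Agent.Lib.Helper23.StalkLin.stalkLin_injective ι z
      rw [map_zero]
      have h1 : stalkLin ι z (stalkLin π z d) = stalkLin φ z d := by
        obtain ⟨W, hzW, r, rfl⟩ := (Coh.structureModule X).presheaf.exists_germ_eq d
        rw [stalkLin_germ, stalkLin_germ, stalkLin_germ]
        congr 1
        have := congrArg (fun ψ : Coh.structureModule X ⟶ J => ψ.app W r) hfac
        exact this
      rw [h1]
      exact stalkLin_secHom_eq_zero J σ z (hσ z hzy) d
    rw [key a, key b]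
  by_cases hF0 : IsZero F
  · -- then `φ = 0`, so `σ = 0`
    have hφ0 : φ = 0 := by
      rw [← hfac, hF0.eq_of_tgt π 0, zero_comp]
    have h1 : sv φ ⊤ = res J le_top σ := sv_secHom J σ ⊤
    have h2 : sv φ ⊤ = 0 := by
      rw [val_eq_app, hφ0]
      rfl
    have h3 : res J (le_top : (⊤ : X.Opens) ≤ ⊤) σ = σ := by
      change J.presheaf.map (𝟙 _) σ = σ
      rw [J.presheaf.map_id]; rfl
    rw [← h3, ← h1, h2]
  · exfalso
    have hdim := hp F ι inferInstance hFc hF0
    have hsub : Subsingleton ↥(CohB1.support F) := by
      refine ⟨fun a b => ?_⟩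
      have ha : (a : X) = y := by
        by_contra h
        exact a.2 (hstalk a h)
      have hb : (b : X) = y := by
        by_contra h
        exact b.2 (hstalk b h)
      exact Subtype.ext (ha.trans hb.symm)
    have hle : topologicalKrullDim ↥(CohB1.support F) ≤ 0 :=
      topologicalKrullDim_zero_of_discreteTopology _
    rw [hdim] at hle
    exact absurd hle (by norm_num)

/-- local version: a section over an open neighbourhood of a closed point whose germs vanish at all
other points is zero -/
theorem section_eq_zero_of_isPure [IsLocallyNoetherian X] (J : X.Modules) (hJ : Coh.IsCoh J)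
    (hp : ShStab.IsPure X J 1) (y : X) (hy : IsClosed ({y} : Set X)) (B : X.Opens) (hyB : y ∈ B)
    (m : Γ(J, B))
    (hm : ∀ (z : X) (hz : z ∈ B), z ≠ y → J.presheaf.germ B z hz m = 0) : m = 0 := by
  obtain ⟨t, ht1, ht2⟩ :=
    Groth.Agent.Lib.Seat93.SkyDecomp.exists_global_extension' J y hy B hyB m hm
  have ht0 : t = 0 := by
    apply eq_zero_of_isPure J hJ hp y t
    intro z hzy
    have hzW : z ∈ (⟨({y} : Set X)ᶜ, hy.isOpen_compl⟩ : X.Opens) := hzy
    rw [← TopCat.Presheaf.germ_res_apply J.presheaf (homOfLE le_top) z hzW t, ht2, map_zero]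
  rw [← ht1, ht0, map_zero]

end Groth.Agent.Lib.Seat93.PurePt
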