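import Mathlib
set_option backward.isDefEq.respectTransparency.types false

/-!
# Transport of spanning families along semilinear maps (seat 93)
-/

set_option autoImplicit false

namespace Groth.Agent.Lib.Seat93.SpanAlg

variable {R S : Type*} [CommRing R] [CommRing S] {M N : Type*}
  [AddCommGroup M] [Module R M] [AddCommGroup N] [Module S N]
  (σ : R →+* S) (f : M →+ N) (hsmul : ∀ (r : R) (m : M), f (r • m) = σ r • f m)
  {ι : Type*} (v : ι → M)

include hsmul in
/-- a surjective semilinear map sends spanning families to spanning families -/
theorem span_map_of_surjective (hf : Function.Surjective f)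
    (h : Submodule.span R (Set.range v) = ⊤) :
    Submodule.span S (Set.range fun i => f (v i)) = ⊤ := by
  have key : ∀ m ∈ Submodule.span R (Set.range v),
      f m ∈ Submodule.span S (Set.range fun i => f (v i)) := by
    intro m hm
    induction hm using Submodule.span_induction with
    | mem a ha =>
      obtain ⟨i, rfl⟩ := ha
      exact Submodule.subset_span ⟨i, rfl⟩
    | zero => rw [map_zero]; exact Submodule.zero_mem _
    | add a b _ _ ha hb => rw [map_add]; exact Submodule.add_mem _ ha hb
    | smul r a _ ha => rw [hsmul]; exact Submodule.smul_mem _ _ ha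
  rw [eq_top_iff]
  intro n _
  obtain ⟨m, rfl⟩ := hf n
  exact key m (by rw [h]; trivial)

include hsmul in
/-- an injective semilinear map over a surjective ring map reflects spanning families -/
theorem span_of_span_map_of_injective (hσ : Function.Surjective σ) (hf : Function.Injective f)
    (h : Submodule.span S (Set.range fun i => f (v i)) = ⊤) :
    Submodule.span R (Set.range v) = ⊤ := by
  rw [eq_top_iff]
  intro m _
  have key : ∀ n ∈ Submodule.span S (Set.range fun i => f (v i)),
      ∃ m' ∈ Submodule.span R (Set.range v), f m' = n := by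
    intro n hn
    induction hn using Submodule.span_induction with
    | mem a ha =>
      obtain ⟨i, rfl⟩ := ha
      exact ⟨v i, Submodule.subset_span ⟨i, rfl⟩, rfl⟩
    | zero => exact ⟨0, Submodule.zero_mem _, map_zero f⟩
    | add a b _ _ ha hb =>
      obtain ⟨a', ha', rfl⟩ := ha
      obtain ⟨b', hb', rfl⟩ := hb
      exact ⟨a' + b', Submodule.add_mem _ ha' hb', map_add f a' b'⟩
    | smul r a _ ha =>
      obtain ⟨a', ha', rfl⟩ := ha
      obtain ⟨r', rfl⟩ := hσ r
      exact ⟨r' • a', Submodule.smul_mem _ _ ha', hsmul r' a'⟩
  obtain ⟨m', hm', e⟩ := key (f m) (by rw [h]; trivial)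
  rw [← hf e]
  exact hm'

end Groth.Agent.Lib.Seat93.SpanAlg
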