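import Mathlib
import Groth.Prelude.Def_ModSite2
import Groth.Agent.Lib.Seat16RSpPull
import Groth.Agent.Lib.Seat93RSpFP
import Groth.Agent.Lib.Seat93SpanAlg
set_option backward.isDefEq.respectTransparency.types false

/-!
# Pushforward of modules along a closed embedding of ringed spaces: stalks (seat 93)

For `i : (Z, O_Z) → (X, O_X)` and `F : Mod O_Z`, `P = i_* F`:
* `phi z : P_{i z} →+ F_z` (Mathlib's `stalkPushforward`), `phi_gm`, `phi_smul` (semilinear over `stk`),
  bijective if `i` is inducing;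
* `stk_surjective`: `O_{X,i z} → O_{Z,z}` is surjective if `i` is inducing and `i♯` is locally surjective;
* `stalk_eq_zero`: `P_y = 0` for `y` outside the (closed) image.
-/

set_option autoImplicit false
universe u
open CategoryTheory CategoryTheory.Limits TopCat TopologicalSpace Opposite

namespace Groth.Agent.Lib.Seat93.RSpClosed

open Groth.Agent.Lib.Helper1.StalkTensor Groth.Agent.Lib.Seat93.RSpBase
  Groth.Agent.Lib.Seat93.RSpFP Groth.Agent.Lib.Seat16.RSpPull

variable {Z X : TopCat.{u}} (i : Z ⟶ X)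
  (O_Z : TopCat.Sheaf CommRingCat.{u} Z) (O_X : TopCat.Sheaf CommRingCat.{u} X)
  (c : O_X ⟶ ((TopologicalSpace.Opens.map i).sheafPushforwardContinuous CommRingCat.{u}
      (Opens.grothendieckTopology X) (Opens.grothendieckTopology Z)).obj O_Z)
  (F : ModSite.Mod O_Z)

/-- the pushforward module -/
noncomputable abbrev P : ModSite.Mod O_X := (ff i O_Z O_X c).push.obj F

/-- a section of `F` over `i⁻¹ V` as a section of `i_* F` over `V` -/
def toPush (V : Opens X) (t : sec F ((Opens.map i).obj V)) : sec (P i O_Z O_X c F) V := t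

/-- the comparison of stalks `(i_* F)_{i z} → F_z` -/
noncomputable def phi (z : Z) : St (RSpBase.toPM (P i O_Z O_X c F)) (i z) →+ St (RSpBase.toPM F) z :=
  (TopCat.Presheaf.stalkPushforward AddCommGrpCat.{u} i F.val.presheaf z).hom

lemma phi_gm (z : Z) (V : Opens X) (hz : i z ∈ V) (t : sec F ((Opens.map i).obj V)) :
    phi i O_Z O_X c F z (gm (RSpBase.toPM (P i O_Z O_X c F)) (i z) V hz (toPush i O_Z O_X c F V t)) =
      gm (RSpBase.toPM F) z ((Opens.map i).obj V) hz t := by
  have h := TopCat.Presheaf.stalkPushforward_germ (C := AddCommGrpCat.{u}) i F.val.presheaf V z hz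
  exact congrArg (fun g => g.hom t) h

lemma phi_bijective (hi : Topology.IsInducing i) (z : Z) : Function.Bijective (phi i O_Z O_X c F z) := by
  have := TopCat.Presheaf.stalkPushforward.stalkPushforward_iso_of_isInducing
    (C := AddCommGrpCat.{u}) hi F.val.presheaf z
  exact ConcreteCategory.bijective_of_isIso
    (TopCat.Presheaf.stalkPushforward AddCommGrpCat.{u} i F.val.presheaf z)

lemma toPush_smul (V : Opens X) (r : O_X.presheaf.obj (op V)) (t : sec F ((Opens.map i).obj V)) :
    r • toPush i O_Z O_X c F V t = toPush i O_Z O_X c F V (cApp i O_Z O_X c V r • t) := rfl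

lemma phi_smul (z : Z) (r : Ox O_X (i z)) (a : St (RSpBase.toPM (P i O_Z O_X c F)) (i z)) :
    phi i O_Z O_X c F z (r • a) = (stk i O_Z O_X c z).hom r • phi i O_Z O_X c F z a := by
  obtain ⟨W, hW, r', t, rfl, rfl⟩ := gm_surj_smul r a
  rw [← gm_smul]
  have h1 := phi_gm i O_Z O_X c F z W hW
    (cApp i O_Z O_X c W r' • (show sec F ((Opens.map i).obj W) from t))
  have h2 := phi_gm i O_Z O_X c F z W hW (show sec F ((Opens.map i).obj W) from t)
  refine h1.trans ?_
  rw [gm_smul, stk_gr]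
  congr 1
  exact h2.symm

theorem stk_surjective (hi : Topology.IsInducing i) (hc : Sheaf.IsLocallySurjective c) (z : Z) :
    Function.Surjective (stk i O_Z O_X c z).hom := by
  intro a
  obtain ⟨W, hzW, a', rfl⟩ := exists_gr_eq a
  obtain ⟨V₀s, hV₀open, hV₀⟩ := hi.isOpen_iff.1 W.isOpen
  let V₀ : Opens X := ⟨V₀s, hV₀open⟩
  have hW : (Opens.map i).obj V₀ = W := Opens.ext hV₀
  have hz₀ : i z ∈ V₀ := by
    have : z ∈ (Opens.map i).obj V₀ := hW ▸ hzW
    exact this
  let a₀ : O_Z.presheaf.obj (op ((Opens.map i).obj V₀)) := resR (le_of_eq hW) a'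
  have h1 := hc.imageSieve_mem (U := V₀) a₀
  obtain ⟨V', g, ⟨r, hr⟩, hzV'⟩ := h1 (i z) hz₀
  refine ⟨gr O_X.presheaf (i z) V' hzV' r, ?_⟩
  rw [stk_gr]
  have h2 : cApp i O_Z O_X c V' r = resR ((Opens.map i).map g).le a₀ := hr
  rw [h2, gr_resR, gr_resR]

theorem stalk_eq_zero (hi : Topology.IsClosedEmbedding i) (y : X) (hy : y ∉ Set.range i)
    (a : St (RSpBase.toPM (P i O_Z O_X c F)) y) : a = 0 := by
  obtain ⟨V, hyV, t, rfl⟩ := exists_gm_eq a
  let V' : Opens X := V ⊓ ⟨(Set.range i)ᶜ, hi.isClosed_range.isOpen_compl⟩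
  have hyV' : y ∈ V' := ⟨hyV, hy⟩
  have hle : V' ≤ V := inf_le_left
  have h1 : resS (P i O_Z O_X c F) hle t = 0 := by
    refine TopCat.Presheaf.section_ext ((SheafOfModules.toSheaf (ModSite.ringSh O_Z)).obj F)
      ((Opens.map i).obj V') _ _ (fun z hz => ?_)
    exact (hz.2 ⟨z, rfl⟩).elim
  have h2 := gm_resS (P i O_Z O_X c F) hle t y hyV'
  rw [← h2, h1, map_zero]

open Groth.Agent.Lib.Seat93.SpanAlg in
/-- sections spanning `(i_* F)_{i z}` over `O_{X, i z}` span `F_z` over `O_{Z, z}` -/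
theorem span_of_span_push (hi : Topology.IsInducing i) (z : Z) (V : Opens X) (hz : i z ∈ V) {ι : Type*}
    (t : ι → sec F ((Opens.map i).obj V))
    (h : Submodule.span (Ox O_X (i z)) (Set.range fun j =>
      gm (RSpBase.toPM (P i O_Z O_X c F)) (i z) V hz (toPush i O_Z O_X c F V (t j))) = ⊤) :
    Submodule.span (Ox O_Z z) (Set.range fun j =>
      gm (RSpBase.toPM F) z ((Opens.map i).obj V) hz (t j)) = ⊤ := by
  have h1 := span_map_of_surjective (stk i O_Z O_X c z).hom (phi i O_Z O_X c F z)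
    (phi_smul i O_Z O_X c F z)
    (fun j => gm (RSpBase.toPM (P i O_Z O_X c F)) (i z) V hz (toPush i O_Z O_X c F V (t j)))
    (phi_bijective i O_Z O_X c F hi z).2 h
  have e : (fun j => phi i O_Z O_X c F z
      (gm (RSpBase.toPM (P i O_Z O_X c F)) (i z) V hz (toPush i O_Z O_X c F V (t j)))) =
      fun j => gm (RSpBase.toPM F) z ((Opens.map i).obj V) hz (t j) := by
    funext j
    exact phi_gm i O_Z O_X c F z V hz (t j)
  rw [e] at h1
  exact h1

open Groth.Agent.Lib.Seat93.SpanAlg in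
/-- sections spanning `F_z` over `O_{Z, z}` span `(i_* F)_{i z}` over `O_{X, i z}` -/
theorem span_push_of_span (hi : Topology.IsInducing i) (hc : Sheaf.IsLocallySurjective c)
    (z : Z) (V : Opens X) (hz : i z ∈ V) {ι : Type*}
    (t : ι → sec F ((Opens.map i).obj V))
    (h : Submodule.span (Ox O_Z z) (Set.range fun j =>
      gm (RSpBase.toPM F) z ((Opens.map i).obj V) hz (t j)) = ⊤) :
    Submodule.span (Ox O_X (i z)) (Set.range fun j =>
      gm (RSpBase.toPM (P i O_Z O_X c F)) (i z) V hz (toPush i O_Z O_X c F V (t j))) = ⊤ := by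
  have e : (fun j => phi i O_Z O_X c F z
      (gm (RSpBase.toPM (P i O_Z O_X c F)) (i z) V hz (toPush i O_Z O_X c F V (t j)))) =
      fun j => gm (RSpBase.toPM F) z ((Opens.map i).obj V) hz (t j) := by
    funext j
    exact phi_gm i O_Z O_X c F z V hz (t j)
  exact span_of_span_map_of_injective (stk i O_Z O_X c z).hom (phi i O_Z O_X c F z)
    (phi_smul i O_Z O_X c F z)
    (fun j => gm (RSpBase.toPM (P i O_Z O_X c F)) (i z) V hz (toPush i O_Z O_X c F V (t j)))
    (stk_surjective i O_Z O_X c hi hc z) (phi_bijective i O_Z O_X c F hi z).1 (by rw [e]; exact h)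

end Groth.Agent.Lib.Seat93.RSpClosed
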